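import Cfsg.Statements.S4491
import Cfsg.Agent.Blk.Defect
import Cfsg.Agent.Blk.Regular

set_option autoImplicit false
open Cfsg

namespace Cfsg.Agent.S4491
open scoped CfsgLib.Char ComplexConjugate


/-- Let B be a p-block of defect d of the finite group G (relative to a maximal ideal M of the algebraic integers containing p), and let p^a be the p-part of the order of G. Then the exact power of p dividing the sum of the squares of the degrees of the irreducible characters in B is p^(2a − d). -/
theorem result {G : Type*} [Group G] [Finite G] (p : ℕ) [Fact p.Prime] (M : Ideal Cfsg.AlgInt) (hM : Cfsg.IsPModular p M) (B : Set (Cfsg.IrrCharacter G)) (hB : Cfsg.IsPBlock M B) : (∑ᶠ χ ∈ B, Cfsg.charDegree (χ : G → ℂ) ^ 2).factorization p = 2 * (Nat.card G).factorization p - Cfsg.blockDefect p B := by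
  classical
  haveI := hM.2.1.isPrime
  haveI := Fintype.ofFinite G
  open CfsgLib.Blk CfsgLib.Char in
  · have hp : p.Prime := Fact.out
    set a := (Nat.card G).factorization p with ha
    set d := Cfsg.blockDefect p B with hd
    have hda : d ≤ a := blockDefect_le (p := p) hM B
    set N := ∑ᶠ χ ∈ B, Cfsg.charDegree (χ : G → ℂ) ^ 2 with hN
    obtain ⟨θ, hθ, hθ0⟩ := exists_height_zero hM hB
    obtain ⟨p', hp', hp'n⟩ := exists_card_eq (p := p) (G := G)
    have h1o : ¬ p ∣ orderOf (1 : G) := by simpa using hp.ne_one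
    obtain ⟨c, m, hm, hc⟩ := exists_comb_regular hM h1o
    have hX : ∀ g : G, ¬ p ∣ orderOf g → ∑ χ : Cfsg.IrrCharacter G, (c χ : ℂ) * χ.1 g = if g = 1 then (m : ℂ) else 0 := by
      intro g hg
      rw [hc g hg]
      simp only [isConj_one_left]
    -- the degrees
    have hv : ∀ χ : Cfsg.IrrCharacter G, χ ∈ B → ∃ v : ℕ, χ.1 1 = (p : ℂ) ^ (a - d) * v ∧ (χ = θ → ¬ p ∣ v) := by
      intro χ hχ
      obtain ⟨n, hn, hnp⟩ := exists_deg_eq (p := p) χ.2
      rw [degExp_eq_height_add hM hB hχ] at hn
      refine ⟨p ^ Cfsg.blockHeight p B χ.1 * n, ?_, fun e => ?_⟩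
      · rw [hn]; push_cast; rw [pow_add]; show _ = _; unfold pExp; rw [← ha, ← hd]; ring
      · subst e; rw [hθ0, pow_zero, one_mul]; exact hnp
    choose! v hv hvθ using hv
    set S : ℂ := ∑ χ : Cfsg.IrrCharacter G, if χ ∈ B then (c χ : ℂ) * (v χ : ℂ) else 0 with hS
    have hSmem : S ∈ locRing M := sum_mem fun χ _ => by
      split_ifs
      exacts [mul_mem (c χ).2 (natCast_mem _ _), zero_mem _]
    have hG : (Nat.card G : ℂ) ≠ 0 := natCard_ne_zero G
    -- pairing with the height zero character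
    have hpair : ∑ χ : Cfsg.IrrCharacter G, (if χ ∈ B then (c χ : ℂ) * v χ * omega χ.1 (regElt M p θ) else 0) = (m : ℂ) * v θ := by
      have h1 : ∑ χ : Cfsg.IrrCharacter G, (c χ : ℂ) * classInner (regPart p χ.1) θ.1 = (Nat.card G : ℂ)⁻¹ * ((m : ℂ) * θ.1 1) := by
        simp only [classInner_def, Finset.mul_sum]
        rw [Finset.sum_comm, Finset.sum_eq_single (1 : G)]
        · have hz := hX 1 h1o
          rw [if_pos rfl] at hz
          obtain ⟨k, -, hk⟩ := irr_deg θ.2
          rw [← hz, Finset.sum_mul, Finset.mul_sum, Finset.sum_congr rfl fun χ _ => ?_]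
          rw [regPart, if_neg h1o, hk, map_natCast]; ring
        · intro g _ hg
          by_cases hgr : p ∣ orderOf g
          · simp [regPart, hgr]
          · have hz := hX g hgr
            rw [if_neg hg] at hz
            have : ∑ χ : Cfsg.IrrCharacter G, (c χ : ℂ) * χ.1 g * ((Nat.card G : ℂ)⁻¹ * conj (θ.1 g)) = 0 := by
              rw [← Finset.sum_mul, hz, zero_mul]
            rw [← this]
            exact Finset.sum_congr rfl fun χ _ => by rw [regPart, if_neg hgr]; ring
        · intro h; exact absurd (Finset.mem_univ _) h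
      have h2 : ∀ χ : Cfsg.IrrCharacter G, (c χ : ℂ) * classInner (regPart p χ.1) θ.1 =
          (Nat.card G : ℂ)⁻¹ * (p : ℂ) ^ (a - d) * (if χ ∈ B then (c χ : ℂ) * v χ * omega χ.1 (regElt M p θ) else 0) := by
        intro χ
        by_cases hχ : χ ∈ B
        · rw [if_pos hχ, inner_regPart (M := M), hv χ hχ]; ring
        · rw [if_neg hχ, inner_regPart_eq_zero hM fun hs => hχ (mem_of_sameBlock hB hθ ?_)]
          · simp
          · exact (sameBlock_symm hs)
      rw [Finset.sum_congr rfl fun χ _ => h2 χ, ← Finset.mul_sum, hv θ hθ] at h1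
      have hp0 : (p : ℂ) ^ (a - d) ≠ 0 := pow_ne_zero _ (prime_cast_ne_zero (p := p))
      refine mul_left_cancel₀ (mul_ne_zero (inv_ne_zero hG) hp0) ?_
      rw [h1]; ring
    have hSu : ¬ Cfsg.MemLocalIdeal M S := by
      intro hS0
      rw [← red_eq_zero_iff hSmem] at hS0
      have e := congrArg (red M) hpair
      have hmem : ∀ χ : Cfsg.IrrCharacter G, (if χ ∈ B then (c χ : ℂ) * v χ * omega χ.1 (regElt M p θ) else 0) ∈ locRing M := fun χ => by
        split_ifs
        exacts [mul_mem (mul_mem (c χ).2 (natCast_mem _ _)) (omega_mem χ.2 (isClassCoeff_regElt θ)), zero_mem _]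
      have hmem' : ∀ χ : Cfsg.IrrCharacter G, (if χ ∈ B then (c χ : ℂ) * v χ else 0) ∈ locRing M := fun χ => by
        split_ifs
        exacts [mul_mem (c χ).2 (natCast_mem _ _), zero_mem _]
      have hsplit : ∀ χ : Cfsg.IrrCharacter G, red M (if χ ∈ B then (c χ : ℂ) * v χ * omega χ.1 (regElt M p θ) else 0) =
          red M (if χ ∈ B then (c χ : ℂ) * v χ else 0) * red M (omega θ.1 (regElt M p θ)) := by
        intro χ
        split_ifs with hχ
        · rw [red_mul (mul_mem (c χ).2 (natCast_mem _ _)) (omega_mem χ.2 (isClassCoeff_regElt θ))]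
          congr 1
          exact omegaBar_congr χ.2 θ.2 (sameBlock_of_mem hB hχ hθ) (isClassCoeff_regElt θ)
        · rw [red_zero, zero_mul]
      rw [red_sum _ _ fun χ _ => hmem χ, Finset.sum_congr rfl fun χ _ => hsplit χ, ← Finset.sum_mul,
        ← red_sum _ _ fun χ _ => hmem' χ, ← hS, hS0, zero_mul, ← Nat.cast_mul, red_natCast] at e
      have : Cfsg.MemLocalIdeal M (((m * v θ : ℕ)) : ℂ) := by
        rw [← red_eq_zero_iff (natCast_mem _ _), red_natCast]; exact e.symm
      exact ((Nat.Prime.dvd_mul hp).1 ((natCast_memLocalIdeal_iff hM _).1 this)).elim hm (hvθ θ hθ rfl)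
    -- the degree sum
    have hmain : (m : ℂ) * (N : ℂ) = (p : ℂ) ^ (a + (a - d)) * ((p' : ℂ) * S) := by
      have hNc : (N : ℂ) = (Nat.card G : ℂ) * Cfsg.blockCoeff B 1 := by
        rw [Cfsg.blockCoeff, mul_inv_cancel_left₀ hG, hN, finsum_mem_eq_sum_ite, finsum_mem_eq_sum_ite, Nat.cast_sum]
        refine Finset.sum_congr rfl fun χ _ => ?_
        split_ifs
        · rw [irr_one_eq χ.2, map_natCast]; push_cast; ring
        · simp
      have h1 : ∑ g : G, (∑ χ : Cfsg.IrrCharacter G, (c χ : ℂ) * χ.1 g) * Cfsg.blockCoeff B g = (m : ℂ) * Cfsg.blockCoeff B 1 := by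
        rw [Finset.sum_eq_single (1 : G)]
        · rw [hX 1 h1o, if_pos rfl]
        · intro g _ hg
          by_cases hgr : p ∣ orderOf g
          · rw [blockCoeff_eq_zero_of_singular hM hB hgr, mul_zero]
          · rw [hX g hgr, if_neg hg, zero_mul]
        · intro h; exact absurd (Finset.mem_univ _) h
      have h2 : ∑ g : G, (∑ χ : Cfsg.IrrCharacter G, (c χ : ℂ) * χ.1 g) * Cfsg.blockCoeff B g =
          ∑ χ : Cfsg.IrrCharacter G, if χ ∈ B then (c χ : ℂ) * χ.1 1 else 0 := by
        have e : ∀ χ : Cfsg.IrrCharacter G, (if χ ∈ B then (c χ : ℂ) * χ.1 1 else 0) =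
            ∑ ψ : Cfsg.IrrCharacter G, if ψ ∈ B then (c χ : ℂ) * ψ.1 1 * classInner χ.1 ψ.1 else 0 := by
          intro χ
          simp only [irrChar_inner, mul_ite, mul_one, mul_zero]
          rw [Finset.sum_eq_single χ (fun ψ _ hne => by simp [Ne.symm hne]) (fun h => absurd (Finset.mem_univ _) h), if_pos rfl]
        rw [Finset.sum_congr rfl fun χ _ => e χ]
        simp only [Cfsg.blockCoeff, finsum_mem_eq_sum_ite, Finset.sum_mul, Finset.mul_sum]
        conv_rhs => rw [Finset.sum_comm]
        rw [Finset.sum_comm]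
        refine Finset.sum_congr rfl fun χ _ => ?_
        rw [Finset.sum_comm]
        refine Finset.sum_congr rfl fun ψ _ => ?_
        split_ifs
        · rw [classInner_def, Finset.mul_sum, Finset.mul_sum]
          exact Finset.sum_congr rfl fun g _ => by ring
        · simp
      rw [h1] at h2
      rw [hNc, mul_left_comm, h2, hS, Finset.mul_sum, Finset.mul_sum, Finset.mul_sum]
      refine Finset.sum_congr rfl fun χ _ => ?_
      split_ifs with hχ
      · rw [hv χ hχ, hp']
        show ((p ^ pExp p G * p' : ℕ) : ℂ) * _ = _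
        unfold pExp; rw [← ha]; push_cast; ring
      · simp
    have hdvd : p ^ (a + (a - d)) ∣ N := by
      have h := pow_dvd_of_eq hM (p := p) (n := ((m * N : ℕ) : ℤ)) (mul_mem (natCast_mem (locRing M) p') hSmem)
        (by push_cast; rw [hmain])
      exact Nat.Coprime.dvd_of_dvd_mul_left (Nat.Coprime.pow_left _ (hp.coprime_iff_not_dvd.2 hm)) (by exact_mod_cast h)
    have hndvd : ¬ p ^ (a + (a - d) + 1) ∣ N := by
      rintro ⟨k, hk⟩
      apply hSu
      have hp0 : (p : ℂ) ≠ 0 := prime_cast_ne_zero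
      have hS' : S = (p : ℂ) ^ 1 * ((p' : ℂ)⁻¹ * ((m : ℂ) * k)) := by
        have h := hmain
        rw [hk] at h
        push_cast at h
        rw [pow_succ] at h
        have h' : (p' : ℂ) * S = (p : ℂ) * ((m : ℂ) * k) :=
          mul_left_cancel₀ (pow_ne_zero (a + (a - d)) hp0) (by rw [← h]; ring)
        rw [pow_one, mul_left_comm, ← h', inv_mul_cancel_left₀ (natCast_ne_zero_of_not_dvd hp'n)]
      rw [hS']
      exact pow_mul_memLocalIdeal hM one_pos (mul_mem (natCast_inv_mem hM hp'n) (mul_mem (natCast_mem _ _) (natCast_mem _ _)))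
    have hN0 : N ≠ 0 := fun e => hndvd (e ▸ dvd_zero _)
    rw [hp.pow_dvd_iff_le_factorization hN0] at hdvd hndvd
    omega

end Cfsg.Agent.S4491
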