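import Cfsg.Statements.S0898
import Cfsg.Agent.Char.Clifford
import Cfsg.Agent.Char.Central
import Cfsg.Agent.Char.Coherence
import Cfsg.Agent.Char.Monomial

set_option autoImplicit false
open Cfsg
open scoped CfsgLib.Char ComplexConjugate

namespace Cfsg.Agent.S0898

open CfsgLib.Char

universe u

theorem avg_irr {N : Type u} [Group N] [Fintype N] (H : Subgroup N) [H.Normal] [Fintype H] {φ : N → ℂ}
    (hφ : IsIrrCharacter N φ) (hne : ∃ k ∈ H, φ k ≠ φ 1) (g : N) : ∑ k : H, φ (g * k) = 0 := by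
  classical
  have hsum : ∑ k : H, φ k = 0 := by
    by_contra h
    have hc : classInner (fun n : H => φ n) (fun _ => 1) ≠ 0 := by
      rw [classInner_def]
      simpa [natCard_ne_zero H] using h
    have e := res_homogeneous hφ isIrr_one hc fun x => rfl
    obtain ⟨k, hk, hk'⟩ := hne
    exact hk' ((congrFun e ⟨k, hk⟩).trans (congrFun e 1).symm)
  obtain ⟨n, ρ, hirr, rfl⟩ := hφ
  haveI := hirr
  have h := classFun_scalar ρ (f := fun x => if x ∈ H then (1 : ℂ) else 0) (fun x y => by
    refine if_congr ⟨fun hh => ?_, fun hh => ?_⟩ rfl rfl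
    · simpa [mul_assoc] using (inferInstance : H.Normal).conj_mem _ hh y⁻¹
    · exact (inferInstance : H.Normal).conj_mem x hh y)
  have h0 : ∑ x : N, (if x ∈ H then (1 : ℂ) else 0) * ρ.character x = 0 := by
    rw [sum_subgroup H _ fun x hx => by simp [hx]]
    simpa using hsum
  rw [h0, zero_div, zero_smul] at h
  have h2 := congrArg (fun T => LinearMap.trace ℂ (Fin n → ℂ) (ρ g * T)) h
  simp only [Finset.mul_sum, map_sum, mul_zero, map_zero, mul_smul_comm, map_smul, smul_eq_mul, ← map_mul] at h2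
  rw [sum_subgroup H _ fun x hx => by simp [hx]] at h2
  simpa [Representation.character] using h2

theorem central_mul {G : Type u} [Group G] [Fintype G] {χ : G → ℂ} (hχ : IsIrrCharacter G χ) {z : G}
    (hz : z ∈ Subgroup.center G) : ∃ ω : ℂ, ‖ω‖ = 1 ∧ ∀ x, χ (z * x) = ω * χ x := by
  have h1 := irr_one_ne_zero hχ
  obtain ⟨n, ρ, hirr, rfl⟩ := hχ
  haveI := hirr
  obtain ⟨c, hc⟩ := schur_scalar ρ (ρ z) fun g v => by
    rw [← Module.End.mul_apply, ← map_mul, ← Module.End.mul_apply, ← map_mul,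
      Subgroup.mem_center_iff.1 hz g]
  have key : ∀ x, ρ.character (z * x) = c * ρ.character x := by
    intro x
    show LinearMap.trace ℂ _ (ρ (z * x)) = c * LinearMap.trace ℂ _ (ρ x)
    rw [map_mul, hc, show (c • LinearMap.id : Module.End ℂ (Fin n → ℂ)) * ρ x = c • ρ x from LinearMap.ext fun v => rfl,
      map_smul, smul_eq_mul]
  refine ⟨c, ?_, key⟩
  have hp : ∀ j : ℕ, ρ.character (z ^ j) = c ^ j * ρ.character 1 := by
    intro j
    induction j with
    | zero => simp
    | succ j ih => rw [pow_succ', key, ih]; ring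
  have hco := hp (orderOf z)
  rw [pow_orderOf_eq_one] at hco
  exact Complex.norm_eq_one_of_pow_eq_one ((mul_eq_right₀ h1).1 hco.symm) (orderOf_pos z).ne'

theorem part_one {G : Type u} [Group G] [Fintype G] (H : Subgroup G) [Fintype H]
    (hab : ∀ a ∈ H, ∀ b ∈ H, a * b = b * a) (hZ : H ⊓ Subgroup.center G = ⊥)
    (hone : ∀ g : G, g ∉ Subgroup.center G → ∀ a b : G,
      Subgroup.centralizer ({g} : Set G) ⊓ H.map (MulAut.conj a).toMonoidHom ≠ ⊥ →
      Subgroup.centralizer ({g} : Set G) ⊓ H.map (MulAut.conj b).toMonoidHom ≠ ⊥ →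
      H.map (MulAut.conj a).toMonoidHom = H.map (MulAut.conj b).toMonoidHom)
    {χ : G → ℂ} (hχ : IsIrrCharacter G χ) (hker : ∃ h ∈ H, χ h ≠ χ 1) :
    (χ 1).re ^ 2 > (Nat.card H : ℝ) * (classInner (fun h : H => χ h) (fun _ => 1)).re ^ 2 := by
  classical
  set N : Subgroup G := Subgroup.normalizer (H : Set G) with hN
  haveI := Fintype.ofFinite N
  set H' := H.subgroupOf N with hH'
  haveI : H'.Normal := Subgroup.normal_in_normalizer
  haveI := Fintype.ofFinite H'
  set Z := Subgroup.center G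
  obtain ⟨h₁, hh₁, hh₁ne⟩ := hker
  have hh₁1 : h₁ ≠ 1 := fun e => hh₁ne (by rw [e])
  have hHN : H ≤ N := Subgroup.le_normalizer
  have hZN : ∀ z ∈ Z, z ∈ N := fun z hz => by
    refine Subgroup.mem_normalizer_iff.2 fun x => ?_
    rw [← Subgroup.mem_center_iff.1 hz x, mul_inv_cancel_right]
  let e : H' ≃ H := (Subgroup.subgroupOfEquivOfLe hHN).toEquiv
  have hek : ∀ k : H', ((e k : H) : G) = ((k : N) : G) := fun k => rfl
  -- the coset average
  let α : N → ℂ := fun g => (Nat.card H : ℂ)⁻¹ * ∑ k : H', χ ((g : G) * ((k : N) : G))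
  have hcls : IsClassFunction N (fun g : N => χ g) := fun x y => by simpa using classFun_of_irr hχ (x : G) (y : G)
  set β : N → ℂ := fun g => χ g - α g with hβ
  have hαk : ∀ (g : N) (k : H'), α (g * k) = α g := by
    intro g k
    simp only [α]
    congr 1
    refine Fintype.sum_equiv (Equiv.mulLeft k) _ _ fun j => ?_
    simp [mul_assoc]
  have hpy : ∑ g : N, ‖χ g‖ ^ 2 = ∑ g : N, ‖α g‖ ^ 2 + ∑ g : N, ‖β g‖ ^ 2 := by
    have hcross : ∑ g : N, χ g * conj (α g) = ∑ g : N, α g * conj (α g) := by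
      have : ∀ k : H', ∑ g : N, χ ((g : G) * ((k : N) : G)) * conj (α g) = ∑ g : N, χ g * conj (α g) := by
        intro k
        refine Fintype.sum_equiv (Equiv.mulRight (k : N)) _ _ fun g => ?_
        rw [Equiv.coe_mulRight, hαk]
        simp
      symm
      calc ∑ g : N, α g * conj (α g)
          = (Nat.card H : ℂ)⁻¹ * ∑ k : H', ∑ g : N, χ ((g : G) * ((k : N) : G)) * conj (α g) := by
            rw [Finset.sum_comm, Finset.mul_sum]
            refine Finset.sum_congr rfl fun g _ => ?_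
            rw [← Finset.sum_mul, ← mul_assoc]
        _ = _ := by
            rw [Finset.sum_congr rfl fun k _ => this k, Finset.sum_const, Finset.card_univ,
              ← Nat.card_eq_fintype_card, Nat.card_congr e, nsmul_eq_mul, ← mul_assoc,
              inv_mul_cancel₀ (natCard_ne_zero H), one_mul]
    have hcross' : ∑ g : N, (‖χ g‖ ^ 2 - ‖α g‖ ^ 2 - ‖β g‖ ^ 2) = 0 := by
      have h2 : ∀ g : N, ‖χ g‖ ^ 2 - ‖α g‖ ^ 2 - ‖β g‖ ^ 2 = 2 * (χ g * conj (α g) - α g * conj (α g)).re := by
        intro g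
        simp only [hβ, ← Complex.normSq_eq_norm_sq, Complex.normSq_apply, Complex.sub_re, Complex.sub_im,
          Complex.mul_re, Complex.conj_re, Complex.conj_im]
        ring
      rw [Finset.sum_congr rfl fun g _ => h2 g, ← Finset.mul_sum, ← Complex.re_sum, Finset.sum_sub_distrib,
        hcross, sub_self, Complex.zero_re, mul_zero]
    rw [Finset.sum_sub_distrib, Finset.sum_sub_distrib] at hcross'
    linarith
  -- the second part has norm at least one
  have hβN : (Nat.card N : ℝ) ≤ ∑ g : N, ‖β g‖ ^ 2 := by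
    have hexp := classFun_eq_sum hcls
    let a : IrrCharacter N → ℂ := fun φ =>
      if (∃ k ∈ H', (φ : N → ℂ) k ≠ (φ : N → ℂ) 1) then classInner (fun g : N => χ g) (φ : N → ℂ) else 0
    have hb : β = ∑ φ : IrrCharacter N, a φ • (φ : N → ℂ) := by
      funext g
      have e1 : ∀ k : H', χ ((g : G) * ((k : N) : G)) =
          ∑ φ : IrrCharacter N, classInner (fun g : N => χ g) (φ : N → ℂ) * (φ : N → ℂ) (g * k) := by
        intro k
        have := congrFun hexp (g * k)
        simpa using this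
      have e0 : χ (g : G) = ∑ φ : IrrCharacter N, classInner (fun g : N => χ g) (φ : N → ℂ) * (φ : N → ℂ) g := by
        simpa using congrFun hexp g
      show χ (g : G) - α g = _
      simp only [α]
      rw [Finset.sum_congr rfl fun k _ => e1 k, Finset.sum_comm, Finset.mul_sum, e0, ← Finset.sum_sub_distrib,
        Finset.sum_apply]
      refine Finset.sum_congr rfl fun φ _ => ?_
      rw [← Finset.mul_sum, Pi.smul_apply, smul_eq_mul]
      simp only [a]
      split_ifs with hφ
      · rw [avg_irr H' φ.2 hφ g]; ring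
      · push Not at hφ
        have hk : ∀ k : H', (φ : N → ℂ) (g * k) = (φ : N → ℂ) g := by
          intro k
          obtain ⟨K, -, hK, hKmul⟩ := exists_kernel (isCharacter_of_isIrr φ.2)
          rw [classFun_mul_comm (classFun_of_irr φ.2), hKmul _ ((hK _).2 (hφ k k.2))]
        rw [Finset.sum_congr rfl fun k _ => hk k, Finset.sum_const, Finset.card_univ, ← Nat.card_eq_fintype_card,
          Nat.card_congr e, nsmul_eq_mul, zero_mul]
        have := natCard_ne_zero H
        field_simp
        ring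
    have hcβ : IsClassFunction N β := by
      rw [hb]; intro x y
      simp only [Finset.sum_apply, Pi.smul_apply, classFun_of_irr (Subtype.prop _) x y]
    have hin : ∀ φ : IrrCharacter N, classInner β (φ : N → ℂ) = a φ := by
      intro φ
      rw [hb, classInner_sum_left, Finset.sum_eq_single φ]
      · rw [classInner_smul_left, irr_inner_self φ.2, mul_one]
      · intro ψ _ hne
        rw [classInner_smul_left, irr_inner_ne ψ.2 φ.2 (fun h => hne (Subtype.ext h)), mul_zero]
      · simp
    have hgen : IsGeneralizedCharacter N β := by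
      refine isGeneralized_iff.2 ⟨hcβ, fun φ => ?_⟩
      rw [hin φ]
      simp only [a]
      split_ifs
      · obtain ⟨m, hm⟩ := inner_char_char (isCharacter_restrict N (isCharacter_of_isIrr hχ)) (isCharacter_of_isIrr φ.2)
        exact ⟨m, by rw [hm]; simp⟩
      · exact ⟨0, by simp⟩
    have hne : β ≠ 0 := by
      intro h0
      have hall : ∀ φ : IrrCharacter N, (∃ k ∈ H', (φ : N → ℂ) k ≠ (φ : N → ℂ) 1) →
          classInner (fun g : N => χ g) (φ : N → ℂ) = 0 := by
        intro φ hφ
        have := hin φ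
        rw [h0, classInner_zero_left] at this
        simp only [a, if_pos hφ] at this
        exact this.symm
      refine hh₁ne ?_
      have a1 := congrFun hexp ⟨h₁, hHN hh₁⟩
      have a2 := congrFun hexp 1
      simp only [Finset.sum_apply, Pi.smul_apply, OneMemClass.coe_one] at a1 a2
      rw [a1, a2]
      refine Finset.sum_congr rfl fun φ _ => ?_
      by_cases hφ : ∃ k ∈ H', (φ : N → ℂ) k ≠ (φ : N → ℂ) 1
      · rw [hall φ hφ]; simp
      · push Not at hφ
        rw [hφ _ (Subgroup.mem_subgroupOf.2 hh₁)]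
    obtain ⟨z, hz⟩ := CfsgLib.Coh.inner_int hgen hgen
    have hre := classInner_self_re β
    rw [hz, Complex.intCast_re] at hre
    have hz1 : 1 ≤ z := by
      by_contra hlt
      push Not at hlt
      refine hne (classInner_self_eq_zero ?_)
      have : 0 ≤ (z : ℝ) := by rw [hre]; positivity
      have : z = 0 := by
        have : (0 : ℤ) ≤ z := by exact_mod_cast this
        omega
      rw [hz, this, Int.cast_zero]
    have hNpos : (0 : ℝ) < Nat.card N := by exact_mod_cast Nat.card_pos
    have h1 : (1 : ℝ) ≤ (z : ℝ) := by exact_mod_cast hz1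
    rw [hre] at h1
    have := mul_le_mul_of_nonneg_left h1 hNpos.le
    rwa [mul_one, ← mul_assoc, mul_inv_cancel₀ hNpos.ne', one_mul] at this
  -- elements with trivial centralizer on H
  set P : N → Prop := fun g => ∃ k ∈ H, k ≠ 1 ∧ k * (g : G) = (g : G) * k with hP
  have hfpf : ∀ g : N, ¬ P g → α g = χ g := by
    intro g hg
    let F : H' → H' := fun k =>
      ⟨g⁻¹ * k * g * (k : N)⁻¹, mul_mem (by simpa using (inferInstance : H'.Normal).conj_mem _ k.2 g⁻¹) (inv_mem k.2)⟩
    have hF : Function.Injective F := by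
      intro k l hkl
      have h0 : ((g : G))⁻¹ * ((k : N) : G) * g * ((k : N) : G)⁻¹ = (g : G)⁻¹ * ((l : N) : G) * g * ((l : N) : G)⁻¹ :=
        congrArg Subtype.val (congrArg Subtype.val hkl)
      by_contra hne
      refine hg ⟨((l : N) : G)⁻¹ * (k : N), mul_mem (inv_mem (Subgroup.mem_subgroupOf.1 l.2)) (Subgroup.mem_subgroupOf.1 k.2),
        fun hh => hne (Subtype.ext (Subtype.ext (inv_mul_eq_one.1 hh).symm)), ?_⟩
      calc ((l : N) : G)⁻¹ * (k : N) * g
          = ((l : N) : G)⁻¹ * g * ((g : G)⁻¹ * ((k : N) : G) * g * ((k : N) : G)⁻¹) * (k : N) := by group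
        _ = (g : G) * (((l : N) : G)⁻¹ * (k : N)) := by rw [h0]; group
    have hsur := (Finite.injective_iff_bijective.1 hF).surjective
    have hall : ∀ t : H', χ ((g : G) * ((t : N) : G)) = χ (g : G) := by
      intro t
      obtain ⟨k, rfl⟩ := hsur t
      show χ ((g : G) * (((g : G))⁻¹ * ((k : N) : G) * g * ((k : N) : G)⁻¹)) = χ (g : G)
      refine Eq.trans (congrArg χ ?_) (classFun_of_irr hχ (g : G) ((k : N) : G))
      group
    show (Nat.card H : ℂ)⁻¹ * _ = _
    rw [Finset.sum_congr rfl fun t _ => hall t, Finset.sum_const, Finset.card_univ, ← Nat.card_eq_fintype_card,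
      Nat.card_congr e, nsmul_eq_mul, ← mul_assoc, inv_mul_cancel₀ (natCard_ne_zero H), one_mul]
  have hZP : ∀ g : N, (g : G) ∈ Z → P g := fun g hg =>
    ⟨h₁, hh₁, hh₁1, Subgroup.mem_center_iff.1 hg h₁⟩
  -- the sum over H * Z
  set c : ℝ := (classInner (fun h : H => χ h) (fun _ => 1)).re with hc
  have hα0 : ‖α 1‖ ^ 2 = c ^ 2 := by
    have h1 : α 1 = classInner (fun h : H => χ h) (fun _ => 1) := by
      simp only [α, classInner_def, map_one, mul_one]
      congr 1
      exact Fintype.sum_equiv e _ _ fun k => by simp [hek]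
    obtain ⟨m, hm⟩ := inner_char_char (isCharacter_restrict H (isCharacter_of_isIrr hχ)) (isCharacter_one (G := H))
    rw [h1, hc, hm]
    simp
  have hHZ : (Nat.card H : ℝ) * Nat.card Z * c ^ 2 ≤ ∑ g ∈ Finset.univ.filter P, ‖α g‖ ^ 2 := by
    let j : H × Z → N := fun p => ⟨(p.2 : G), hZN _ p.2.2⟩ * ⟨(p.1 : G), hHN p.1.2⟩
    have hj : Function.Injective j := by
      intro p q hpq
      have h0 : (p.2 : G) * p.1 = q.2 * q.1 := congrArg Subtype.val hpq
      have h2 : (q.2 : G)⁻¹ * p.2 = (q.1 : G) * (p.1 : G)⁻¹ := by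
        calc (q.2 : G)⁻¹ * p.2 = (q.2 : G)⁻¹ * ((p.2 : G) * p.1) * (p.1 : G)⁻¹ := by group
          _ = _ := by rw [h0]; group
      have h3 : (q.1 : G) * (p.1 : G)⁻¹ ∈ H ⊓ Z :=
        Subgroup.mem_inf.2 ⟨mul_mem q.1.2 (inv_mem p.1.2), h2 ▸ mul_mem (inv_mem q.2.2) p.2.2⟩
      rw [hZ, Subgroup.mem_bot] at h3
      rw [h3] at h2
      exact Prod.ext (Subtype.ext (mul_inv_eq_one.1 h3).symm) (Subtype.ext (inv_mul_eq_one.1 h2).symm)
    have hval : ∀ p : H × Z, ‖α (j p)‖ ^ 2 = c ^ 2 := by
      intro p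
      rw [show j p = ⟨(p.2 : G), hZN _ p.2.2⟩ * ((e.symm p.1 : H') : N) from rfl, hαk]
      obtain ⟨ω, hω, hωx⟩ := central_mul hχ p.2.2
      have : α ⟨(p.2 : G), hZN _ p.2.2⟩ = ω * α 1 := by
        simp only [α, OneMemClass.coe_one, one_mul, hωx]
        rw [← Finset.mul_sum, mul_left_comm]
      rw [this, norm_mul, hω, one_mul, hα0]
    calc (Nat.card H : ℝ) * Nat.card Z * c ^ 2 = ∑ p : H × Z, ‖α (j p)‖ ^ 2 := by
          rw [Finset.sum_congr rfl fun p _ => hval p, Finset.sum_const, Finset.card_univ,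
            ← Nat.card_eq_fintype_card, Nat.card_prod, nsmul_eq_mul]
          push_cast
          ring
      _ = ∑ g ∈ Finset.univ.image j, ‖α g‖ ^ 2 := (Finset.sum_image (g := j) (f := fun g => ‖α g‖ ^ 2) fun a _ b _ h => hj h).symm
      _ ≤ _ := Finset.sum_le_sum_of_subset_of_nonneg (fun g hg => by
          obtain ⟨p, -, rfl⟩ := Finset.mem_image.1 hg
          refine Finset.mem_filter.2 ⟨Finset.mem_univ _, h₁, hh₁, hh₁1, ?_⟩
          show h₁ * ((p.2 : G) * p.1) = (p.2 : G) * p.1 * h₁
          rw [← mul_assoc, Subgroup.mem_center_iff.1 p.2.2 h₁, mul_assoc, hab h₁ hh₁ p.1 p.1.2, mul_assoc])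
          fun g _ _ => by positivity
  -- counting over conjugates
  set A : Finset N := Finset.univ.filter fun g => P g ∧ (g : G) ∉ Z with hA
  have hcount : (Nat.card G : ℝ) * ∑ g ∈ A, ‖χ g‖ ^ 2 ≤
      (Nat.card N : ℝ) * ∑ y ∈ Finset.univ.filter (fun y : G => y ∉ Z), ‖χ y‖ ^ 2 := by
    let T : Finset (G × N) := Finset.univ ×ˢ A
    let f : G × N → G := fun p => p.1 * (p.2 : G) * p.1⁻¹
    have h0 : (Nat.card G : ℝ) * ∑ g ∈ A, ‖χ g‖ ^ 2 = ∑ p ∈ T, ‖χ (f p)‖ ^ 2 := by
      rw [Finset.sum_product, Finset.sum_congr rfl fun x _ => Finset.sum_congr rfl fun (g : N) _ => by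
        rw [show χ (f (x, g)) = χ (g : G) from classFun_of_irr hχ (g : G) x],
        Finset.sum_const, Finset.card_univ, Nat.card_eq_fintype_card, nsmul_eq_mul]
    have hmaps : ∀ p ∈ T, f p ∈ Finset.univ.filter (fun y : G => y ∉ Z) := by
      intro p hp
      refine Finset.mem_filter.2 ⟨Finset.mem_univ _, fun hmem => (Finset.mem_filter.1 (Finset.mem_product.1 hp).2).2.2 ?_⟩
      have := (inferInstance : Z.Normal).conj_mem _ hmem p.1⁻¹
      simpa [f, mul_assoc] using this
    rw [h0, ← Finset.sum_fiberwise_of_maps_to hmaps, Finset.mul_sum]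
    refine Finset.sum_le_sum fun y hy => ?_
    rw [Finset.sum_congr rfl (g := fun _ => ‖χ y‖ ^ 2) fun p hp => by rw [(Finset.mem_filter.1 hp).2],
      Finset.sum_const, nsmul_eq_mul]
    refine mul_le_mul_of_nonneg_right (Nat.cast_le.2 ?_) (by positivity)
    by_cases he : (T.filter fun p => f p = y) = ∅
    · rw [he]; simp
    obtain ⟨p₀, hp₀⟩ := Finset.nonempty_iff_ne_empty.2 he
    rw [Nat.card_eq_fintype_card, ← Finset.card_univ]
    have hyZ : y ∉ Z := (Finset.mem_filter.1 hy).2
    have hmeet : ∀ p ∈ T.filter (fun p => f p = y),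
        Subgroup.centralizer ({y} : Set G) ⊓ H.map (MulAut.conj p.1).toMonoidHom ≠ ⊥ := by
      intro p hp hbot
      obtain ⟨hpT, rfl⟩ := Finset.mem_filter.1 hp
      obtain ⟨k, hk, hk1, hkc⟩ := (Finset.mem_filter.1 (Finset.mem_product.1 hpT).2).2.1
      have hmem : p.1 * k * p.1⁻¹ ∈ Subgroup.centralizer ({f p} : Set G) ⊓ H.map (MulAut.conj p.1).toMonoidHom := by
        refine ⟨Subgroup.mem_centralizer_singleton_iff.2 ?_, ⟨k, hk, rfl⟩⟩
        calc p.1 * k * p.1⁻¹ * f p = p.1 * (k * (p.2 : G)) * p.1⁻¹ := by simp only [f]; group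
          _ = f p * (p.1 * k * p.1⁻¹) := by rw [hkc]; simp only [f]; group
      rw [hbot, Subgroup.mem_bot, conj_eq_one_iff] at hmem
      exact hk1 hmem
    have hmemN : ∀ p ∈ T.filter (fun p => f p = y), p₀.1⁻¹ * p.1 ∈ N := by
      intro p hp
      have h := hone y hyZ p.1 p₀.1 (hmeet p hp) (hmeet p₀ hp₀)
      refine Subgroup.mem_normalizer_iff.2 fun x => ?_
      constructor
      · intro hx
        have : p.1 * x * p.1⁻¹ ∈ H.map (MulAut.conj p₀.1).toMonoidHom := h ▸ ⟨x, hx, rfl⟩
        obtain ⟨x', hx', e'⟩ := this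
        simp only [MulEquiv.coe_toMonoidHom, MulAut.conj_apply] at e'
        have : p₀.1⁻¹ * p.1 * x * (p₀.1⁻¹ * p.1)⁻¹ = x' := by
          calc _ = p₀.1⁻¹ * (p.1 * x * p.1⁻¹) * p₀.1 := by group
            _ = x' := by rw [← e']; group
        rw [this]; exact hx'
      · intro hx
        have hx2 : p.1 * x * p.1⁻¹ ∈ H.map (MulAut.conj p₀.1).toMonoidHom :=
          ⟨p₀.1⁻¹ * p.1 * x * (p₀.1⁻¹ * p.1)⁻¹, hx, by simp [mul_assoc]⟩
        rw [← h] at hx2
        obtain ⟨x', hx', e'⟩ := hx2
        simp only [MulEquiv.coe_toMonoidHom, MulAut.conj_apply, mul_left_inj, mul_right_inj] at e'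
        exact e' ▸ hx'
    refine Finset.card_le_card_of_injOn (fun p => if h : p₀.1⁻¹ * p.1 ∈ N then ⟨_, h⟩ else 1)
      (fun _ _ => Finset.mem_univ _) ?_
    intro p hp q hq hpq
    simp only [Finset.mem_coe] at hp hq
    simp only [dif_pos (hmemN p hp), dif_pos (hmemN q hq)] at hpq
    have h1 : p.1 = q.1 := mul_left_cancel (congrArg Subtype.val hpq)
    have h2 : f p = f q := (Finset.mem_filter.1 hp).2.trans (Finset.mem_filter.1 hq).2.symm
    simp only [f, h1, mul_left_inj, mul_right_inj] at h2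
    exact Prod.ext h1 (Subtype.ext h2)
  -- assembly
  have hG : ∑ y : G, ‖χ y‖ ^ 2 = Nat.card G := by
    have h := classInner_self_re χ
    rw [irr_inner_self hχ, Complex.one_re] at h
    have : (Nat.card G : ℝ) ≠ 0 := by exact_mod_cast Nat.card_pos.ne'
    field_simp at h
    linarith
  set d : ℝ := (χ 1).re with hd
  have hZval : ∀ z ∈ Z, ‖χ z‖ ^ 2 = d ^ 2 := by
    intro z hz
    obtain ⟨ω, hω, hωx⟩ := central_mul hχ hz
    obtain ⟨m, -, hm⟩ := irr_deg hχ
    rw [← mul_one z, hωx, norm_mul, hω, one_mul, hd, hm]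
    simp
  have hGsplit : ∑ y ∈ Finset.univ.filter (fun y : G => y ∉ Z), ‖χ y‖ ^ 2 = (Nat.card G : ℝ) - Nat.card Z * d ^ 2 := by
    rw [eq_sub_iff_add_eq, ← hG, ← Finset.sum_filter_add_sum_filter_not Finset.univ (fun y : G => y ∉ Z)
      (fun y => ‖χ y‖ ^ 2)]
    congr 1
    rw [Finset.sum_congr rfl fun z hz => hZval z (not_not.1 (Finset.mem_filter.1 hz).2), Finset.sum_const,
      nsmul_eq_mul]
    congr 2
    rw [Nat.card_eq_fintype_card, Fintype.card_subtype]
    congr 1; ext z; simp [Z]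
  have hNsplit : ∑ g ∈ A, ‖χ g‖ ^ 2 = ∑ g ∈ Finset.univ.filter P, ‖χ g‖ ^ 2 - Nat.card Z * d ^ 2 := by
    rw [eq_sub_iff_add_eq, ← Finset.sum_filter_add_sum_filter_not (Finset.univ.filter P)
      (fun g : N => (g : G) ∉ Z) (fun g => ‖χ g‖ ^ 2), Finset.filter_filter, Finset.filter_filter]
    congr 1
    rw [Finset.sum_congr rfl fun (g : N) hg => hZval (g : G) (not_not.1 (Finset.mem_filter.1 hg).2.2), Finset.sum_const,
      nsmul_eq_mul]
    congr 2
    rw [Nat.card_eq_fintype_card, ← Finset.card_univ]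
    refine Finset.card_bij (fun (z : Z) _ => (⟨(z : G), hZN _ z.2⟩ : N)) ?_ ?_ ?_
    · exact fun z _ => Finset.mem_filter.2 ⟨Finset.mem_univ _, hZP _ z.2, not_not.2 z.2⟩
    · exact fun a _ b _ h => Subtype.ext (congrArg (fun w : N => (w : G)) h)
    · exact fun g hg => ⟨⟨g, not_not.1 (Finset.mem_filter.1 hg).2.2⟩, Finset.mem_univ _, rfl⟩
  have hB : (Nat.card N : ℝ) + (Nat.card H : ℝ) * Nat.card Z * c ^ 2 ≤ ∑ g ∈ Finset.univ.filter P, ‖χ g‖ ^ 2 := by
    have e1 := Finset.sum_filter_add_sum_filter_not (Finset.univ : Finset N) P (fun g => ‖χ g‖ ^ 2)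
    have e2 := Finset.sum_filter_add_sum_filter_not (Finset.univ : Finset N) P (fun g => ‖α g‖ ^ 2)
    have e3 : ∑ g ∈ Finset.univ.filter (fun g => ¬ P g), ‖α g‖ ^ 2 =
        ∑ g ∈ Finset.univ.filter (fun g => ¬ P g), ‖χ g‖ ^ 2 :=
      Finset.sum_congr rfl fun g hg => by rw [hfpf g (Finset.mem_filter.1 hg).2]
    linarith
  rw [hGsplit, hNsplit] at hcount
  have hGpos : (0 : ℝ) < Nat.card G := by exact_mod_cast Nat.card_pos
  have hNpos : (0 : ℝ) < Nat.card N := by exact_mod_cast Nat.card_pos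
  have hZpos : (0 : ℝ) < Nat.card Z := by exact_mod_cast Nat.card_pos
  have hdpos : 0 < d := by
    obtain ⟨m, hm0, hm⟩ := irr_deg hχ
    rw [hd, hm, Complex.natCast_re]
    exact_mod_cast hm0
  have h1 := mul_le_mul_of_nonneg_left hB hGpos.le
  have h2 : 0 < (Nat.card N : ℝ) * ((Nat.card Z : ℝ) * d ^ 2) := by positivity
  by_contra hle
  push Not at hle
  have h3 := mul_le_mul_of_nonneg_left hle (mul_pos hGpos hZpos).le
  nlinarith

/-- Let H be an abelian subgroup of the finite group G meeting the centre of G trivially, such that for every non-central g the centralizer of g has nontrivial intersection with at most one conjugate of H. Let χ be an irreducible character of G with χ h ≠ χ 1 for some h in H, and let c be the inner product of the restriction of χ to H with the principal character. Then χ(1)² > (order of H)·c²; and if in addition χ 1 ≠ 1 and no proper normal subgroup of G contains H, then (1 + χ 1)² > order of H (both sides read as real numbers). -/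
theorem result {G : Type*} [Group G] [Fintype G] (H : Subgroup G) [Fintype H] (hab : ∀ a ∈ H, ∀ b ∈ H, a * b = b * a) (hZ : H ⊓ Subgroup.center G = ⊥) (hone : ∀ g : G, g ∉ Subgroup.center G → ∀ a b : G, Subgroup.centralizer ({g} : Set G) ⊓ H.map (MulAut.conj a).toMonoidHom ≠ ⊥ → Subgroup.centralizer ({g} : Set G) ⊓ H.map (MulAut.conj b).toMonoidHom ≠ ⊥ → H.map (MulAut.conj a).toMonoidHom = H.map (MulAut.conj b).toMonoidHom) (χ : G → ℂ) (hχ : Cfsg.IsIrrCharacter G χ) (hker : ∃ h ∈ H, χ h ≠ χ 1) : (χ 1).re ^ 2 > (Nat.card H : ℝ) * (Cfsg.classInner (fun h : H => χ h) (fun _ => 1)).re ^ 2 ∧ (χ 1 ≠ 1 → (∀ M : Subgroup G, M.Normal → H ≤ M → M = ⊤) → (1 + (χ 1).re) ^ 2 > (Nat.card H : ℝ)) := by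
  classical
  open CfsgLib.Char in
  · refine ⟨part_one H hab hZ hone hχ hker, fun hne hM => ?_⟩
    obtain ⟨d, hd0, hd⟩ := irr_deg hχ
    have hd2 : 2 ≤ d := by
      have : d ≠ 1 := fun h => hne (by rw [hd, h]; simp)
      omega
    set s := Real.sqrt (Nat.card H) with hs
    have hs0 : 0 ≤ s := Real.sqrt_nonneg _
    have hs2 : s ^ 2 = (Nat.card H : ℝ) := Real.sq_sqrt (Nat.cast_nonneg _)
    set ψ : G → ℂ := χ * fun g => conj (χ g) with hψ
    have hψc : IsCharacter G ψ := isCharacter_mul (isCharacter_of_isIrr hχ) (isCharacter_conj (isCharacter_of_isIrr hχ))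
    choose m hm using fun φ : IrrCharacter G => inner_char_char hψc (isCharacter_of_isIrr φ.2)
    choose k hk using fun φ : IrrCharacter G => inner_char_char (isCharacter_restrict H (isCharacter_of_isIrr φ.2))
      (isCharacter_one (G := H))
    let one : IrrCharacter G := ⟨fun _ => 1, isIrr_one⟩
    have hexp : ψ = ∑ φ : IrrCharacter G, (m φ : ℂ) • (φ : G → ℂ) := by
      refine (classFun_eq_sum (classFun_of_char hψc)).trans (Finset.sum_congr rfl fun φ _ => ?_)
      rw [hm φ]
    have hm1 : m one = 1 := by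
      have : classInner ψ (one : G → ℂ) = classInner χ χ := by simp [classInner_def, hψ, one]
      rw [hm, irr_inner_self hχ] at this
      exact_mod_cast this
    have hk1 : k one = 1 := by
      have : classInner (fun h : H => (one : G → ℂ) h) (fun _ : H => (1 : ℂ)) = 1 := classInner_one_one
      rw [hk] at this
      exact_mod_cast this
    choose δ hδ0 hδ using fun φ : IrrCharacter G => irr_deg φ.2
    have hdeg : d * d = ∑ φ : IrrCharacter G, m φ * δ φ := by
      have := congrFun hexp 1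
      simp only [hψ, Pi.mul_apply, hd, Complex.conj_natCast, Finset.sum_apply, Pi.smul_apply, smul_eq_mul, hδ] at this
      exact_mod_cast this
    obtain ⟨q, hq⟩ := inner_char_char (isCharacter_restrict H (isCharacter_of_isIrr hχ)) (isCharacter_restrict H (isCharacter_of_isIrr hχ))
    have hq' : q = ∑ φ : IrrCharacter G, m φ * k φ := by
      have e1 : classInner (fun h : H => ψ h) (fun _ : H => (1 : ℂ)) = (q : ℂ) := by
        rw [← hq]; simp [classInner_def, hψ]
      rw [show (fun h : H => ψ h) = ∑ φ : IrrCharacter G, (m φ : ℂ) • (fun h : H => (φ : G → ℂ) h) by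
        funext h; simp [hexp], classInner_sum_left] at e1
      simp only [classInner_smul_left, hk] at e1
      exact_mod_cast e1.symm
    have hqd : d ≤ q := by
      have hcl : IsClassFunction H (fun h : H => χ h) := classFun_of_char (isCharacter_restrict H (isCharacter_of_isIrr hχ))
      choose a ha using fun θ : IrrCharacter H => inner_char_char (isCharacter_restrict H (isCharacter_of_isIrr hχ)) (isCharacter_of_isIrr θ.2)
      have hexp' : (fun h : H => χ h) = ∑ θ : IrrCharacter H, (a θ : ℂ) • (θ : H → ℂ) := by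
        refine (classFun_eq_sum hcl).trans (Finset.sum_congr rfl fun θ _ => ?_)
        rw [ha θ]
      have h1 : d = ∑ θ : IrrCharacter H, a θ := by
        have := congrFun hexp' 1
        simp only [OneMemClass.coe_one, hd, Finset.sum_apply, Pi.smul_apply, smul_eq_mul,
          irr_degree_one_of_comm (fun x y : H => Subtype.ext (hab _ x.2 _ y.2)) (Subtype.prop _), mul_one] at this
        exact_mod_cast this
      have h2 : q = ∑ θ : IrrCharacter H, a θ * a θ := by
        have e : classInner (fun h : H => χ h) (fun h : H => χ h) = (q : ℂ) := hq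
        conv at e => lhs; arg 2; rw [hexp']
        simp only [classInner_sum_right, classInner_smul_right, Complex.conj_natCast, ha] at e
        exact_mod_cast e.symm
      rw [h1, h2]
      exact Finset.sum_le_sum fun θ _ => Nat.le_mul_self _
    have hlt : ∀ φ : IrrCharacter G, φ ≠ one → (k φ : ℝ) * s < δ φ := by
      intro φ hφ
      have hker' : ∃ h ∈ H, (φ : G → ℂ) h ≠ (φ : G → ℂ) 1 := by
        by_contra hno
        push Not at hno
        obtain ⟨K, hKn, hK, hKmul⟩ := exists_kernel (isCharacter_of_isIrr φ.2)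
        have hKtop := hM K hKn fun h hh => (hK h).2 (hno h hh)
        have hconst : ∀ g, (φ : G → ℂ) g = (φ : G → ℂ) 1 := fun g => (hK g).1 (hKtop ▸ Subgroup.mem_top g)
        have := irr_inner_ne φ.2 isIrr_one (fun e => hφ (Subtype.ext e))
        simp [classInner_def, hconst, natCard_ne_zero, irr_one_ne_zero φ.2] at this
      have h := part_one H hab hZ hone φ.2 hker'
      rw [hk, hδ, Complex.natCast_re, Complex.natCast_re, ← hs2, ← mul_pow] at h
      rw [mul_comm]
      exact lt_of_pow_lt_pow_left₀ 2 (Nat.cast_nonneg _) h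
    obtain ⟨φ₀, hφ₀, hmφ₀⟩ : ∃ φ ∈ Finset.univ.erase one, 0 < m φ := by
      by_contra hno
      push Not at hno
      rw [← Finset.sum_erase_add _ _ (Finset.mem_univ one), Finset.sum_eq_zero (fun φ hφ => by
        rw [Nat.le_zero.1 (hno φ hφ), zero_mul]), hm1, show δ one = 1 by
          have h : (1 : ℂ) = (δ one : ℂ) := hδ one
          exact_mod_cast h.symm] at hdeg
      nlinarith
    have hsum : (∑ φ ∈ Finset.univ.erase one, (m φ : ℝ) * k φ) * s < ∑ φ ∈ Finset.univ.erase one, (m φ : ℝ) * δ φ := by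
      rw [Finset.sum_mul]
      refine Finset.sum_lt_sum (fun φ hφ => ?_) ⟨φ₀, hφ₀, ?_⟩
      · rw [mul_assoc]
        exact mul_le_mul_of_nonneg_left (hlt φ (Finset.mem_erase.1 hφ).1).le (Nat.cast_nonneg _)
      · rw [mul_assoc]
        exact mul_lt_mul_of_pos_left (hlt φ₀ (Finset.mem_erase.1 hφ₀).1) (Nat.cast_pos.2 hmφ₀)
    have hδ1 : δ one = 1 := by
      have h : (1 : ℂ) = (δ one : ℂ) := hδ one
      exact_mod_cast h.symm
    rw [← Finset.sum_erase_add _ _ (Finset.mem_univ one), hm1, hδ1] at hdeg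
    rw [← Finset.sum_erase_add _ _ (Finset.mem_univ one), hm1, hk1] at hq'
    have hdR : (d : ℝ) * d = (∑ φ ∈ Finset.univ.erase one, (m φ : ℝ) * δ φ) + 1 := by exact_mod_cast hdeg
    have hqR : (q : ℝ) = (∑ φ ∈ Finset.univ.erase one, (m φ : ℝ) * k φ) + 1 := by exact_mod_cast hq'
    have hqd' : (d : ℝ) ≤ q := by exact_mod_cast hqd
    have hd2' : (2 : ℝ) ≤ d := by exact_mod_cast hd2
    rw [hd, Complex.natCast_re, ← hs2]
    have : s < 1 + (d : ℝ) := by nlinarith
    exact pow_lt_pow_left₀ this hs0 two_ne_zero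


end Cfsg.Agent.S0898
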