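-- Statement S0575
import Cfsg.Statements.S0575
import Cfsg.Agent.Solv.Maximal

set_option autoImplicit false
open Cfsg
open scoped commutatorElement Pointwise
set_option linter.style.haveILetI false
set_option linter.deprecated false

namespace Cfsg.Agent.S0575

/-- If H is a normal subgroup of a finite group G, then the Frattini subgroup of H, viewed in G, lies in the Frattini subgroup of G. -/
theorem result {G : Type*} [Group G] [Finite G] (H : Subgroup G) [H.Normal] : (frattini ↥H).map H.subtype ≤ frattini G := by
  have hn : ((frattini ↥H).map H.subtype).Normal := inferInstance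
  refine le_iInf₂ fun M hM => ?_
  by_contra hle
  have htop : M ⊔ (frattini ↥H).map H.subtype = ⊤ := hM.2 _ (left_lt_sup.2 hle)
  have h2 : M.subgroupOf H ⊔ frattini ↥H = ⊤ := by
    rw [eq_top_iff]
    intro x _
    have hx : (x : G) ∈ M ⊔ (frattini ↥H).map H.subtype := htop ▸ Subgroup.mem_top _
    obtain ⟨m, hm, f, hf, he⟩ := Subgroup.mem_sup_of_normal_right.1 hx
    obtain ⟨f', hf', rfl⟩ := hf
    have hmH : m ∈ H := (H.mul_mem_cancel_right f'.2).1 (he.symm ▸ x.2)
    have : x = ⟨m, hmH⟩ * f' := Subtype.ext he.symm
    rw [this]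
    exact mul_mem (Subgroup.mem_sup_left (Subgroup.mem_subgroupOf.2 hm)) (Subgroup.mem_sup_right hf')
  have h3 := frattini_nongenerating h2
  exact hle ((Subgroup.map_subtype_le _).trans (Subgroup.subgroupOf_eq_top.1 h3))

end Cfsg.Agent.S0575
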