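import Cfsg.Statements.S2434
import Cfsg.Agent.Misc.SLTwoSmall
import Cfsg.Agent.Misc.SLTwoThree

set_option autoImplicit false
open Cfsg

namespace Cfsg.Agent.S2434

/-- Let F be a finite field with q elements, q odd, and C a cyclic subgroup of order q + 1 of SL₂ over F (a non-split torus; it contains the centre). For every homomorphism θ from C to the non-zero complex numbers with θ² ≠ 1 there is an irreducible complex character χ of degree q − 1 such that χ(c) = −θ(c) − θ(c)⁻¹ for every non-central c in C, χ(zg) = θ(z)χ(g) for central z in C, χ vanishes at diagonal elements with entry a, a² ≠ 1, and χ takes the value −1 at every upper unitriangular element other than 1. Conversely every irreducible character of degree q − 1 has, for some such θ, the values −θ(c) − θ(c)⁻¹ at the non-central elements c of C (for q ≥ 5 these are exactly the cuspidal characters of degree q − 1). -/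
theorem result {F : Type*} [Field F] [Fintype F] (hodd : Odd (Fintype.card F))
    (C : Subgroup (Matrix.SpecialLinearGroup (Fin 2) F)) (hC : IsCyclic C) (hcard : Nat.card C = Fintype.card F + 1) :
    (∀ θ : C →* ℂˣ, (∃ c : C, θ c ^ 2 ≠ 1) →
      ∃ χ : Matrix.SpecialLinearGroup (Fin 2) F → ℂ, Cfsg.IsIrrCharacter (Matrix.SpecialLinearGroup (Fin 2) F) χ ∧ χ 1 = (Fintype.card F : ℂ) - 1 ∧
        (∀ c : C, (c : Matrix.SpecialLinearGroup (Fin 2) F) ∉ Subgroup.center (Matrix.SpecialLinearGroup (Fin 2) F) → χ c = -((θ c).val + (θ c)⁻¹.val)) ∧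
        (∀ c : C, (c : Matrix.SpecialLinearGroup (Fin 2) F) ∈ Subgroup.center (Matrix.SpecialLinearGroup (Fin 2) F) → ∀ g : Matrix.SpecialLinearGroup (Fin 2) F, χ ((c : Matrix.SpecialLinearGroup (Fin 2) F) * g) = (θ c).val * χ g) ∧
        (∀ g : Matrix.SpecialLinearGroup (Fin 2) F, (g : Matrix (Fin 2) (Fin 2) F) 0 1 = 0 → (g : Matrix (Fin 2) (Fin 2) F) 1 0 = 0 → (g : Matrix (Fin 2) (Fin 2) F) 0 0 ^ 2 ≠ 1 → χ g = 0) ∧
        (∀ g : Matrix.SpecialLinearGroup (Fin 2) F, (g : Matrix (Fin 2) (Fin 2) F) 1 0 = 0 → (g : Matrix (Fin 2) (Fin 2) F) 0 0 = 1 → (g : Matrix (Fin 2) (Fin 2) F) 1 1 = 1 → (g : Matrix (Fin 2) (Fin 2) F) 0 1 ≠ 0 → χ g = -1)) ∧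
    (∀ χ : Matrix.SpecialLinearGroup (Fin 2) F → ℂ, Cfsg.IsIrrCharacter (Matrix.SpecialLinearGroup (Fin 2) F) χ → χ 1 = (Fintype.card F : ℂ) - 1 →
      ∃ θ : C →* ℂˣ, (∃ c : C, θ c ^ 2 ≠ 1) ∧
        ∀ c : C, (c : Matrix.SpecialLinearGroup (Fin 2) F) ∉ Subgroup.center (Matrix.SpecialLinearGroup (Fin 2) F) → χ c = -((θ c).val + (θ c)⁻¹.val)) := by
  classical
  have hT : CfsgLib.Misc.SLTwoDiscrete.IsTorus C := ⟨hodd, hC, hcard⟩
  haveI := Fintype.ofFinite C
  have hiff : ∀ θ : C →* ℂˣ, θ * θ ≠ 1 ↔ ∃ c : C, θ c ^ 2 ≠ 1 := by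
    intro θ
    constructor
    · intro h
      by_contra hc
      push Not at hc
      exact h (MonoidHom.ext fun c => by rw [MonoidHom.mul_apply, ← pow_two, hc c, MonoidHom.one_apply])
    · rintro ⟨c, hc⟩ h
      exact hc (by rw [pow_two, ← MonoidHom.mul_apply, h, MonoidHom.one_apply])
  have hne : ∀ c : C, (c : Matrix.SpecialLinearGroup (Fin 2) F) ∉ Subgroup.center (Matrix.SpecialLinearGroup (Fin 2) F) →
      (c : Matrix.SpecialLinearGroup (Fin 2) F) ≠ 1 ∧ (c : Matrix.SpecialLinearGroup (Fin 2) F) ≠ -1 :=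
    fun c hc => not_or.1 (fun h => hc ((CfsgLib.Misc.SLTwoDiscrete.mem_center_iff _).2 h))
  refine ⟨fun θ hθ => ?_, fun χ hχ hdeg => ?_⟩
  · have hθ' := (hiff θ).2 hθ
    have hirr := hT.irr_disc hθ'
    refine ⟨hT.disc θ, hirr, hT.disc_one θ, fun c hc => hT.disc_torus θ c.2 (hne c hc).1 (hne c hc).2, ?_, ?_, ?_⟩
    · intro c hc g
      rcases (CfsgLib.Misc.SLTwoDiscrete.mem_center_iff _).1 hc with e | e
      · rw [e, one_mul, show c = 1 from Subtype.ext e, map_one, Units.val_one, one_mul]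
      · rw [show c = hT.z from Subtype.ext e]
        have hs := CfsgLib.Misc.SLTwoSmall.exists_scalar hirr (z := -1) CfsgLib.Misc.SLTwoDiscrete.neg_one_central g
        rw [hT.disc_one, hT.disc_neg] at hs
        have hq1 : (Fintype.card F : ℂ) - 1 ≠ 0 :=
          sub_ne_zero.2 (by exact_mod_cast (Fintype.one_lt_card (α := F)).ne')
        refine mul_left_cancel₀ hq1 (hs.trans ?_)
        ring
    · intro g h01 h10 hne'
      have hd' : (g : Matrix (Fin 2) (Fin 2) F) 0 0 * (g : Matrix (Fin 2) (Fin 2) F) 1 1 = 1 := by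
        have : (g : Matrix (Fin 2) (Fin 2) F).det = 1 := g.2
        rw [Matrix.det_fin_two, h01, zero_mul, sub_zero] at this
        exact this
      obtain ⟨a, ha⟩ : ∃ a : Fˣ, (a : F) = (g : Matrix (Fin 2) (Fin 2) F) 0 0 :=
        ⟨Units.mk0 _ (left_ne_zero_of_mul_eq_one hd'), rfl⟩
      have h11 : (g : Matrix (Fin 2) (Fin 2) F) 1 1 = ((a⁻¹ : Fˣ) : F) := by
        rw [Units.val_inv_eq_inv_val, ha]; exact eq_inv_of_mul_eq_one_right hd'
      have e : g = (CfsgLib.Misc.PrincipalSeries.eS (a, (0 : F)) : Matrix.SpecialLinearGroup (Fin 2) F) := Subtype.ext (by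
        show (g : Matrix (Fin 2) (Fin 2) F) = !![(a : F), 0; 0, ((a⁻¹ : Fˣ) : F)]
        rw [Matrix.eta_fin_two (g : Matrix (Fin 2) (Fin 2) F), h01, h10, h11, ha])
      rw [e]
      refine hT.disc_diag θ a 0 (fun h => hne' ?_)
      rw [← ha, pow_two]
      nth_rewrite 2 [h]
      exact Units.mul_inv a
    · intro g h10 h00 h11 h01
      have e : g = CfsgLib.Misc.SLTwoClassify.setupS.u ((g : Matrix (Fin 2) (Fin 2) F) 0 1) := Subtype.ext (by
        show (g : Matrix (Fin 2) (Fin 2) F) = !![1, (g : Matrix (Fin 2) (Fin 2) F) 0 1; 0, 1]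
        conv_lhs => rw [Matrix.eta_fin_two (g : Matrix (Fin 2) (Fin 2) F), h00, h10, h11])
      rw [e]
      exact hT.disc_u θ h01
  · by_cases h4 : 4 ≤ Fintype.card F
    · obtain ⟨θ, hθ, rfl⟩ := CfsgLib.Misc.SLTwoSmall.big_eq hT hχ (CfsgLib.Misc.SLTwoHalves.deg_small h4 hχ (Or.inr hdeg)) hdeg
      exact ⟨θ, (hiff θ).1 hθ, fun c hc => hT.disc_torus θ c.2 (hne c hc).1 (hne c hc).2⟩
    · have h3 : Fintype.card F = 3 := by
        have : 2 ≤ Fintype.card F := Fintype.one_lt_card
        rw [Nat.odd_iff] at hodd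
        omega
      -- here `C` has order four and every value off the centre vanishes
      have hcyc := hC
      obtain ⟨x, hx⟩ := IsCyclic.exists_generator (α := C)
      have hxo : orderOf x = 4 := by rw [orderOf_eq_card_of_forall_mem_zpowers hx, hcard, h3]
      let ζ : rootsOfUnity 4 ℂ := ⟨Units.mk0 Complex.I Complex.I_ne_zero, by
        rw [mem_rootsOfUnity]; exact Units.ext (by simp)⟩
      let θ : C →* ℂˣ := monoidHomOfForallMemZpowers hx (g' := (ζ : ℂˣ)) (by
        rw [hxo]; exact orderOf_dvd_of_pow_eq_one ζ.2)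
      have hθx : θ x = (ζ : ℂˣ) := monoidHomOfForallMemZpowers_apply_gen hx _
      refine ⟨θ, ⟨x, by
        rw [hθx]; intro e
        have := congrArg Units.val e
        simp [ζ] at this
        norm_num at this⟩, fun c hc => ?_⟩
      have hv := hT.ell c.2 (hne c hc).1 (hne c hc).2
      have hθc : (θ c).val + (θ c)⁻¹.val = 0 := by
        have hcmem := hx c
        obtain ⟨i, hi⟩ := Subgroup.mem_zpowers_iff.1 hcmem
        obtain ⟨j, hj, rfl⟩ : ∃ j : ℕ, j < 4 ∧ x ^ j = c := by
          have hm : c ∈ Submonoid.powers x := mem_powers_iff_mem_zpowers.2 hcmem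
          obtain ⟨j, hj⟩ := hm
          exact ⟨j % 4, Nat.mod_lt _ (by norm_num), by rw [← hxo, pow_mod_orderOf]; exact hj⟩
        rw [map_pow, hθx]
        have h2 : x ^ 2 = hT.z := by
          by_contra h
          refine hT.ne_inv (x ^ 2).2 (fun e => ?_) (fun e => h (Subtype.ext e)) ?_
          · have := orderOf_dvd_of_pow_eq_one (show x ^ 2 = 1 from Subtype.ext e)
            rw [hxo] at this
            norm_num at this
          · refine congrArg Subtype.val (eq_inv_of_mul_eq_one_left ?_)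
            rw [← pow_add, show 2 + 2 = orderOf x by rw [hxo], pow_orderOf_eq_one]
        interval_cases j
        · exact absurd ((CfsgLib.Misc.SLTwoDiscrete.mem_center_iff _).2 (Or.inl (by simp))) hc
        · simp [ζ]
        · exact absurd ((CfsgLib.Misc.SLTwoDiscrete.mem_center_iff _).2 (Or.inr (congrArg Subtype.val h2))) hc
        · simp [ζ, pow_succ]
      rw [hθc, neg_zero]
      have hdeg2 : χ 1 = 2 := by rw [hdeg, h3]; norm_num
      rcases CfsgLib.Misc.SLTwoClassify.classify hχ with hcu | ⟨α, hα, rfl⟩ | rfl | rfl | ⟨α, h2, h1, hc'⟩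
      · exact CfsgLib.Misc.SLTwoThree.elliptic_zero h3 hχ hcu hdeg2 hv
      · exact CfsgLib.Misc.BorelInduced.ind_elliptic Matrix.SpecialLinearGroup.toGL _ CfsgLib.Misc.PrincipalSeries.rS (g := (c : Matrix.SpecialLinearGroup (Fin 2) F)) hv rfl CfsgLib.Misc.PrincipalSeries.rS_some
      · exact absurd hdeg2 (by norm_num)
      · rw [CfsgLib.Misc.SLTwoClassify.steinberg_one, h3] at hdeg2
        norm_num at hdeg2
      · have e := CfsgLib.Misc.SLTwoClassify.half_value h2 h1 hχ hc' (g := (c : Matrix.SpecialLinearGroup (Fin 2) F))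
          (CfsgLib.Misc.SLTwoClassify.exists_comm_elliptic hodd hv)
        rw [CfsgLib.Misc.PrincipalSeries.psS, CfsgLib.Misc.BorelInduced.ind_elliptic Matrix.SpecialLinearGroup.toGL _ CfsgLib.Misc.PrincipalSeries.rS (g := (c : Matrix.SpecialLinearGroup (Fin 2) F)) hv rfl CfsgLib.Misc.PrincipalSeries.rS_some] at e
        exact (mul_eq_zero.1 e).resolve_left two_ne_zero

end Cfsg.Agent.S2434
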