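import Cfsg.Statements.S4496
import Cfsg.Agent.Char.CoprimeCoset
import Mathlib.GroupTheory.Sylow
import Mathlib.GroupTheory.SpecificGroups.Cyclic
import Mathlib.GroupTheory.Abelianization.Defs

set_option autoImplicit false
open Cfsg

namespace Cfsg.Agent.S4496
open scoped Pointwise commutatorElement

/-- Let the finite group G contain an element x of prime order p with C_G(x) = ⟨x⟩. Then: (a) every normal subgroup of order divisible by p contains the commutator subgroup; (b) every normal subgroup S of order prime to p has order dividing the number of subgroups of order p of G and congruent to 1 modulo p, and in G/S the image of x again has prime order p and commutes only with its own powers. -/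
theorem result {G : Type*} [Group G] [Finite G] (p : ℕ) (hp : p.Prime) (x : G) (hx : orderOf x = p) (hC : Subgroup.centralizer ({x} : Set G) = Subgroup.zpowers x) (S : Subgroup G) [S.Normal] : (p ∣ Nat.card S → commutator G ≤ S) ∧ (¬ p ∣ Nat.card S → Nat.card S ∣ Nat.card {H : Subgroup G // Nat.card H = p} ∧ Nat.card S % p = 1 ∧ orderOf (QuotientGroup.mk x : G ⧸ S) = p ∧ Subgroup.centralizer ({(QuotientGroup.mk x : G ⧸ S)} : Set (G ⧸ S)) = Subgroup.zpowers (QuotientGroup.mk x : G ⧸ S)) := by
  classical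
  haveI := Fact.mk hp
  set X := Subgroup.zpowers x with hX
  have hXp : IsPGroup p X := IsPGroup.of_card (n := 1) (by rw [Nat.card_zpowers, hx, pow_one])
  have hx1 : x ≠ 1 := fun e => hp.one_lt.ne (by rw [← hx, e, orderOf_one])
  obtain ⟨P, hP⟩ := hXp.exists_le_sylow
  have hXcard : Nat.card X = p := by rw [Nat.card_zpowers, hx]
  have hPX : (P : Subgroup G) = X := by
    refine le_antisymm (fun u hu => ?_) hP
    haveI : Nontrivial (P : Subgroup G) :=
      ⟨⟨⟨x, hP (Subgroup.mem_zpowers x)⟩, 1, fun e => hx1 (congrArg Subtype.val e)⟩⟩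
    haveI := P.isPGroup'.center_nontrivial
    obtain ⟨⟨z, hz⟩, hz1⟩ := exists_ne (1 : Subgroup.center (P : Subgroup G))
    rw [Subgroup.mem_center_iff] at hz
    have hzX : (z : G) ∈ X := by
      rw [← hC, Subgroup.mem_centralizer_singleton_iff]
      exact (congrArg Subtype.val (hz ⟨x, hP (Subgroup.mem_zpowers x)⟩)).symm
    have hgen : Subgroup.zpowers (z : G) = X := Subgroup.eq_of_le_of_card_ge (Subgroup.zpowers_le.2 hzX) (by
      rw [hXcard, Nat.card_zpowers]
      have := Subgroup.orderOf_dvd_natCard X hzX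
      rw [hXcard] at this
      rcases (Nat.dvd_prime hp).1 this with h | h
      · exact absurd (Subtype.ext (Subtype.ext (orderOf_eq_one_iff.1 h))) hz1
      · exact h.ge)
    obtain ⟨i, hi⟩ := Subgroup.mem_zpowers_iff.1 (show x ∈ Subgroup.zpowers (z : G) from hgen ▸ Subgroup.mem_zpowers x)
    rw [← hC, Subgroup.mem_centralizer_singleton_iff, ← hi]
    exact ((show Commute u (z : G) from congrArg Subtype.val (hz ⟨u, hu⟩)).zpow_right i).eq
  constructor
  · intro hpS
    have hxS : x ∈ S := by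
      obtain ⟨⟨s, hs⟩, hso⟩ := exists_prime_orderOf_dvd_card' p hpS
      rw [Subgroup.orderOf_mk] at hso
      obtain ⟨Q, hQ⟩ := (IsPGroup.of_card (n := 1) (show Nat.card (Subgroup.zpowers s) = p ^ 1 by
        rw [Nat.card_zpowers, hso, pow_one])).exists_le_sylow
      obtain ⟨g, hg⟩ := MulAction.exists_smul_eq G Q P
      have hmem : g * s * g⁻¹ ∈ X := by
        rw [← hPX, ← hg, Sylow.coe_subgroup_smul]
        exact Subgroup.smul_mem_pointwise_smul s (MulAut.conj g) _ (hQ (Subgroup.mem_zpowers s))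
      have heq : Subgroup.zpowers (g * s * g⁻¹) = X := Subgroup.eq_of_le_of_card_ge (Subgroup.zpowers_le.2 hmem)
        (by rw [hXcard, Nat.card_zpowers, ← MulAut.conj_apply, MulEquiv.orderOf_eq, hso])
      exact Subgroup.zpowers_le.2 (‹S.Normal›.conj_mem s hs g) (heq.symm ▸ Subgroup.mem_zpowers x)
    have hXS : (P : Subgroup G) ≤ S := hPX ▸ Subgroup.zpowers_le.2 hxS
    let N := Subgroup.normalizer ((P : Subgroup G) : Set G)
    have hcov : ∀ a : G, ∃ n ∈ N, ∃ s ∈ S, a = n * s := by
      intro a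
      have h : a ∈ N ⊔ S := (Sylow.normalizer_sup_eq_top' P hXS).symm ▸ Subgroup.mem_top a
      obtain ⟨n, hn, s, hs, rfl⟩ := Subgroup.mem_sup_of_normal_right.1 h
      exact ⟨n, hn, s, hs, rfl⟩
    rw [commutator_def, Subgroup.commutator_le]
    intro a _ b _
    obtain ⟨n, hn, s, hs, rfl⟩ := hcov a
    obtain ⟨m, hm, t, ht, rfl⟩ := hcov b
    rw [← QuotientGroup.eq_one_iff, ← QuotientGroup.mk'_apply, map_commutatorElement, map_mul, map_mul,
      show QuotientGroup.mk' S s = 1 from (QuotientGroup.eq_one_iff s).2 hs,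
      show QuotientGroup.mk' S t = 1 from (QuotientGroup.eq_one_iff t).2 ht, mul_one, mul_one,
      ← map_commutatorElement, QuotientGroup.mk'_apply, QuotientGroup.eq_one_iff]
    refine Subgroup.zpowers_le.2 hxS ?_
    show ⁅n, m⁆ ∈ X
    have hexp : ∀ k ∈ N, ∃ i : ℤ, k * x * k⁻¹ = x ^ i := fun k hk => by
      have h := (Subgroup.mem_normalizer_iff.1 hk x).1 (hP (Subgroup.mem_zpowers x))
      rw [hPX, Subgroup.mem_zpowers_iff] at h
      obtain ⟨i, hi⟩ := h
      exact ⟨i, hi.symm⟩
    obtain ⟨i, hi⟩ := hexp n hn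
    obtain ⟨i', hi'⟩ := hexp n⁻¹ (inv_mem hn)
    obtain ⟨j, hj⟩ := hexp m hm
    obtain ⟨j', hj'⟩ := hexp m⁻¹ (inv_mem hm)
    have hii : x ^ (i * i') = x := by
      rw [zpow_mul, ← hi, conj_zpow, ← hi']; group
    have hjj : x ^ (j * j') = x := by
      rw [zpow_mul, ← hj, conj_zpow, ← hj']; group
    rw [← hC, Subgroup.mem_centralizer_singleton_iff, commutatorElement_def]
    have e : n * m * n⁻¹ * m⁻¹ * x * (n * m * n⁻¹ * m⁻¹)⁻¹ = x := by
      calc n * m * n⁻¹ * m⁻¹ * x * (n * m * n⁻¹ * m⁻¹)⁻¹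
          = n * (m * (n⁻¹ * (m⁻¹ * x * m⁻¹⁻¹) * n⁻¹⁻¹) * m⁻¹) * n⁻¹ := by group
        _ = x ^ (i * i' * (j * j')) := by
          rw [hj', ← conj_zpow, hi', ← zpow_mul, ← conj_zpow, hj, ← zpow_mul, ← conj_zpow, hi, ← zpow_mul]
          congr 1; ring
        _ = x := by rw [zpow_mul, hii, hjj]
    exact mul_inv_eq_iff_eq_mul.1 e
  · intro hpS
    have hxS : x ∉ S := fun h => hpS (hx ▸ Subgroup.orderOf_dvd_natCard S h)
    have hcop : (orderOf x).Coprime (Nat.card S) := hx ▸ hp.coprime_iff_not_dvd.2 hpS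
    have htriv : ∀ c ∈ S, c * x = x * c → c = 1 := fun c hc hcx => by
      have hcX : c ∈ X := hC ▸ Subgroup.mem_centralizer_singleton_iff.2 hcx
      exact orderOf_eq_one_iff.1 (Nat.eq_one_of_dvd_coprimes hcop
        (hx ▸ hXcard ▸ Subgroup.orderOf_dvd_natCard X hcX) (Subgroup.orderOf_dvd_natCard S hc))
    refine ⟨?_, ?_, ?_, ?_⟩
    · let N := Subgroup.normalizer ((P : Subgroup G) : Set G)
      have hint : S ⊓ N = ⊥ := (Subgroup.eq_bot_iff_forall _).2 fun s hs => by
        obtain ⟨hsS, hsN⟩ := Subgroup.mem_inf.1 hs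
        refine htriv s hsS ?_
        have h1 : s * x * s⁻¹ * x⁻¹ ∈ X := mul_mem
          (hPX ▸ (Subgroup.mem_normalizer_iff.1 hsN x).1 (hP (Subgroup.mem_zpowers x)))
          (inv_mem (Subgroup.mem_zpowers x))
        have h2 : s * x * s⁻¹ * x⁻¹ ∈ S := by
          rw [show s * x * s⁻¹ * x⁻¹ = s * (x * s⁻¹ * x⁻¹) by group]
          exact mul_mem hsS (‹S.Normal›.conj_mem _ (inv_mem hsS) x)
        have h3 := orderOf_eq_one_iff.1 (Nat.eq_one_of_dvd_coprimes hcop
          (hx ▸ hXcard ▸ Subgroup.orderOf_dvd_natCard X h1) (Subgroup.orderOf_dvd_natCard S h2))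
        rw [mul_inv_eq_one, mul_inv_eq_iff_eq_mul] at h3
        exact h3
      have hdvd : Nat.card S ∣ N.index := by
        refine Nat.dvd_of_mul_dvd_mul_right (Nat.card_pos (α := N)) ?_
        have h1 : Nat.card S * Nat.card N = Nat.card ↥(S ⊔ N) := by
          rw [← Subgroup.relIndex_bot_left S, ← Subgroup.relIndex_bot_left N, ← Subgroup.relIndex_bot_left (S ⊔ N),
            ← Subgroup.relIndex_mul_relIndex ⊥ S (S ⊔ N) bot_le le_sup_left]
          rw [show S.relIndex (S ⊔ N) = S.relIndex N by rw [sup_comm, Subgroup.relIndex_sup_right]]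
          rw [← Subgroup.inf_relIndex_right S N, hint]
        rw [h1, N.index_mul_card]
        exact Subgroup.card_subgroup_dvd_card _
      have hcardeq : Nat.card {H : Subgroup G // Nat.card H = p} = Nat.card (Sylow p G) := by
        have hfac : p ^ (Nat.card G).factorization p = p := by
          rw [← P.card_eq_multiplicity, hPX, hXcard]
        refine Nat.card_congr ⟨fun H => Sylow.ofCard H.1 (by rw [H.2, hfac]), fun Q => ⟨Q, by
          rw [Q.card_eq_multiplicity, hfac]⟩, fun H => rfl, fun Q => Sylow.ext rfl⟩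
      rw [hcardeq, P.card_eq_index_normalizer]
      exact hdvd
    · let f : X →* MulAut S := (MulAut.conjNormal (H := S)).comp X.subtype
      letI : MulAction X S := MulAction.compHom S f
      have := hXp.card_modEq_card_fixedPoints S
      have h1 : Nat.card (MulAction.fixedPoints X S) = 1 := by
        rw [Nat.card_eq_one_iff_exists]
        refine ⟨⟨1, fun m => map_one (f m)⟩, fun ⟨s, hs⟩ => Subtype.ext (Subtype.ext (htriv s s.2 ?_))⟩
        have e : x * (s : G) * x⁻¹ = (s : G) := congrArg Subtype.val (hs ⟨x, Subgroup.mem_zpowers x⟩)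
        exact (mul_inv_eq_iff_eq_mul.1 e).symm
      rw [h1] at this
      exact Eq.trans this (Nat.mod_eq_of_lt hp.one_lt)
    · refine orderOf_eq_prime ?_ fun e => hxS ((QuotientGroup.eq_one_iff x).1 e)
      rw [← QuotientGroup.mk_pow, ← hx, pow_orderOf_eq_one, QuotientGroup.mk_one]
    · refine le_antisymm (fun g hg => ?_) (Subgroup.zpowers_le.2 (Subgroup.mem_centralizer_singleton_iff.2 rfl))
      obtain ⟨g, rfl⟩ := QuotientGroup.mk_surjective g
      rw [Subgroup.mem_centralizer_singleton_iff, ← QuotientGroup.mk_mul, ← QuotientGroup.mk_mul, QuotientGroup.eq] at hg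
      have hs : g * x * g⁻¹ * x⁻¹ ∈ S := by
        have h := ‹S.Normal›.conj_mem _ hg (g * x)
        simpa [mul_assoc] using inv_mem h
      obtain ⟨t, ht, c, hc, hcx, e⟩ := CfsgLib.Char.coset_conj S (g := x)
        (by rw [Subgroup.normalizer_eq_top]; trivial) hcop hs
      rw [htriv c hc hcx, one_mul, inv_mul_cancel_right] at e
      have htg : t * g ∈ X := by
        rw [← hC, Subgroup.mem_centralizer_singleton_iff]
        calc t * g * x = t * (g * x * g⁻¹) * t⁻¹ * (t * g) := by group
          _ = x * (t * g) := by rw [e]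
      obtain ⟨i, hi⟩ := Subgroup.mem_zpowers_iff.1 htg
      refine Subgroup.mem_zpowers_iff.2 ⟨i, ?_⟩
      rw [← QuotientGroup.mk_zpow, hi, QuotientGroup.eq]
      simpa [mul_assoc] using ‹S.Normal›.conj_mem _ (inv_mem ht) g⁻¹

end Cfsg.Agent.S4496
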