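import Cfsg.Statements.S0914
import Cfsg.Agent.Blk.Bounds

set_option autoImplicit false
open Cfsg

namespace Cfsg.Agent.S0914

/-- Let χ be an irreducible character of the finite group G, p a prime and M a maximal ideal of the algebraic integers containing p. Then p does not divide the integer (Nat.card G) / χ(1) if and only if the block of χ relative to M consists of χ alone. -/
theorem result {G : Type*} [Group G] [Finite G] (p : ℕ) [Fact p.Prime] (M : Ideal Cfsg.AlgInt) (hM : Cfsg.IsPModular p M) (χ : Cfsg.IrrCharacter G) : ¬ p ∣ Nat.card G / Cfsg.charDegree (χ : G → ℂ) ↔ Cfsg.blockOf M (χ : G → ℂ) = {χ} := by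
  haveI := CfsgLib.Blk.IsPModular.isPrime hM
  classical
  haveI := Fintype.ofFinite G
  have hp : p.Prime := Fact.out
  have hB : IsPBlock M (blockOf M (χ : G → ℂ)) := CfsgLib.Blk.blockOf_isPBlock χ
  have hχ : χ ∈ blockOf M (χ : G → ℂ) := CfsgLib.Blk.sameBlock_refl _
  have hh := CfsgLib.Blk.degExp_eq_height_add hM hB hχ
  have hd := CfsgLib.Blk.blockDefect_le (p := p) hM (blockOf M (χ : G → ℂ))
  have hdvd := CfsgLib.Char.degree_dvd_card χ.2
  have hne := (CfsgLib.Char.charDegree_pos χ.2).ne'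
  have hq : Nat.card G / charDegree (χ : G → ℂ) ≠ 0 :=
    Nat.div_ne_zero_iff.2 ⟨hne, Nat.le_of_dvd Nat.card_pos hdvd⟩
  rw [hp.dvd_iff_one_le_factorization hq, Nat.factorization_div hdvd, Finsupp.tsub_apply]
  constructor
  · intro h
    have hle := CfsgLib.Blk.degExp_le (p := p) χ.2
    simp only [CfsgLib.Blk.pExp, CfsgLib.Blk.degExp] at *
    rcases Nat.eq_zero_or_pos (blockHeight p (blockOf M (χ : G → ℂ)) (χ : G → ℂ)) with h0 | h0
    · have hd0 : blockDefect p (blockOf M (χ : G → ℂ)) = 0 := by omega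
      have hk := CfsgLib.Blk.card_block_le hM hB
      rw [hd0, mul_zero, pow_zero, Nat.card_coe_set_eq] at hk
      exact ((Set.ncard_le_one_iff_eq (Set.toFinite _)).1 hk).elim
        (fun h => absurd hχ (h ▸ Set.notMem_empty χ)) (fun ⟨a, ha⟩ => by
          rw [ha] at hχ ⊢
          rw [Set.mem_singleton_iff.1 hχ])
    · have := (CfsgLib.Blk.height_bounds hM hB hχ h0).2
      omega
  · intro hs
    obtain ⟨ψ, hψ, h0⟩ := CfsgLib.Blk.exists_height_zero hM hB
    obtain rfl : ψ = χ := by
      have h' : ψ ∈ ({χ} : Set (IrrCharacter G)) := hs ▸ hψ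
      exact Set.mem_singleton_iff.1 h'
    obtain ⟨a, hout, hsum, -, -, hnd, -⟩ := CfsgLib.Blk.exists_regRow hM hB hχ
    rw [Finset.sum_eq_single ψ] at hsum
    · have h1 := hnd ψ hχ h0
      rw [h0, zero_add, pow_one] at h1
      have h2 : a ψ ≠ 0 := fun e => h1 (e ▸ dvd_zero _)
      have h3 := mul_right_cancel₀ h2 hsum
      have hd0 : blockDefect p (blockOf M (ψ : G → ℂ)) = 0 := by
        by_contra hne
        exact h1 (h3 ▸ dvd_pow_self _ hne)
      simp only [CfsgLib.Blk.pExp, CfsgLib.Blk.degExp] at *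
      omega
    · intro θ _ hne
      rw [hout θ fun hm => hne (Set.mem_singleton_iff.1 (hs ▸ hm)), mul_zero]
    · simp

end Cfsg.Agent.S0914
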