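import Cfsg.Statements.S1988
import Cfsg.Agent.Fus.QdComplement
import Cfsg.Agent.Fus.FusionK

set_option autoImplicit false
universe u
open Cfsg

namespace Cfsg.Agent.S1988

/-- Let p be an odd prime, G a finite group with Sylow p-subgroup S and K the lower K-infinity subgroup of S. If N_G(K) has a normal p-complement, or if N_G(K)/C_G(K) is a p-group (every element of N_G(K) of order prime to p centralizes K), then G has a normal p-complement. -/
theorem result {G : Type u} [Group G] [Finite G] {p : ℕ} [Fact p.Prime] (hp : p ≠ 2) (S : Sylow p G) (h : Cfsg.HasNormalPComplement p ↥(Subgroup.normalizer ((Cfsg.inducedFunctor Cfsg.kInfLower (S : Subgroup G) : Subgroup G) : Set G)) ∨ ∀ g ∈ Subgroup.normalizer ((Cfsg.inducedFunctor Cfsg.kInfLower (S : Subgroup G) : Subgroup G) : Set G), (orderOf g).Coprime p → g ∈ Subgroup.centralizer ((Cfsg.inducedFunctor Cfsg.kInfLower (S : Subgroup G) : Subgroup G) : Set G)) : Cfsg.HasNormalPComplement p G := by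
  have hW := CfsgLib.KInf.isCharPFunctor_lower.{u} p
  refine CfsgLib.Dickson.hnpc_of_sections hp Cfsg.kInfLower hW ?_ G (CfsgLib.Glau.isSec_self G) S ?_
  · intro K R hR hst T
    exact CfsgLib.Glau.controls_of_fus T (Subgroup.map_subtype_le _)
      ((CfsgLib.Glau.fus_kInf (fun K' R' _ => hst K' R')).1 _ (CfsgLib.Glau.isSec_self _) ⊤ _ (CfsgLib.Glau.syl_top T))
  rcases h with h | h
  · exact h
  classical
  set W := Cfsg.inducedFunctor Cfsg.kInfLower (S : Subgroup G) with hWdef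
  set N := Subgroup.normalizer (W : Set G) with hNdef
  have hconj := CfsgLib.KInf.inducedFunctor_conjugacy (G := G) hW
  have hSN : (S : Subgroup G) ≤ N := Subgroup.le_normalizer.trans (CfsgLib.Glau.functor_normalizer hconj S.isPGroup')
  have hzw : (S : Subgroup G) ⊓ Subgroup.centralizer (W : Set G) ≤ W := by
    haveI := (S.isPGroup').isNilpotent
    rintro x ⟨hxS, hxW⟩
    exact ⟨⟨x, hxS⟩, (CfsgLib.KInf.centralizer_kInf (P := ↥(S : Subgroup G))).1 (fun w hw =>
      Subtype.ext (hxW w.1 ⟨w, hw, rfl⟩)), rfl⟩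
  set C : Subgroup ↥N := (Subgroup.centralizer (W : Set G)).subgroupOf N with hC
  haveI hCn : C.Normal := Subgroup.normal_subgroupOf_centralizer_normalizer _
  let SN : Sylow p ↥N := S.subtype hSN
  have hCnpc : Cfsg.HasNormalPComplement p ↥C := by
    obtain ⟨P, hP⟩ : ∃ P : Sylow p ↥C, ∀ x ∈ P, ((x : ↥N) : G) ∈ W := by
      obtain ⟨P⟩ : Nonempty (Sylow p ↥C) := inferInstance
      refine ⟨P, fun x hx => ?_⟩
      obtain ⟨T, hT⟩ := (P.isPGroup'.map C.subtype).exists_le_sylow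
      obtain ⟨n, hn⟩ := MulAction.exists_smul_eq ↥N T SN
      have h1 : n * (x : ↥N) * n⁻¹ ∈ (SN : Subgroup ↥N) := by
        rw [← hn, Sylow.coe_subgroup_smul]
        exact ⟨x, hT ⟨x, hx, rfl⟩, rfl⟩
      have h2 : ((n * (x : ↥N) * n⁻¹ : ↥N) : G) ∈ W := hzw ⟨h1, hCn.conj_mem _ x.2 n⟩
      exact (Subgroup.mem_normalizer_iff.1 n.2 _).2 h2
    refine CfsgLib.Solv.hnpc_of_fusion P fun x hx g _ => ⟨1, one_mem _, ?_⟩
    have hcomm : g * x = x * g := Subtype.ext (Subtype.ext (g.2 _ (hP x hx)).symm)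
    rw [one_mul, inv_one, mul_one, hcomm, mul_inv_cancel_right]
  rw [CfsgLib.Solv.hnpc_iff] at hCnpc ⊢
  rw [← CfsgLib.Solv.card_map_subtype] at hCnpc
  refine fun hd => hCnpc (hd.trans (Subgroup.card_dvd_of_le ?_))
  rw [Cfsg.pResidual, Subgroup.closure_le]
  intro g hg
  have hgC : g ∈ C := h g g.2 (by rw [Subgroup.orderOf_coe]; exact hg)
  exact ⟨⟨g, hgC⟩, Subgroup.subset_closure (show Nat.Coprime (orderOf (⟨g, hgC⟩ : ↥C)) p by
    rw [Subgroup.orderOf_mk]; exact hg), rfl⟩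

end Cfsg.Agent.S1988
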