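import Cfsg.Statements.S4209

import Cfsg.Agent.Perm.RegularP
import Cfsg.Agent.Perm.PolySeq

set_option autoImplicit false
set_option linter.style.haveILetI false
open Cfsg

namespace Cfsg.Agent.S4209
open scoped commutatorElement

theorem powerClosure_normal {G : Type*} [Group G] (p n : ℕ) (H : Subgroup G) [H.Normal] :
    (Cfsg.powerClosure p n H).Normal := by
  refine ⟨fun x hx g => ?_⟩
  refine Subgroup.closure_le (K := (Cfsg.powerClosure p n H).comap (MulAut.conj g).toMonoidHom) |>.2 ?_ hx
  rintro _ ⟨h, hh, rfl⟩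
  exact Subgroup.subset_closure ⟨g * h * g⁻¹, Subgroup.Normal.conj_mem inferInstance h hh g, by simp⟩

theorem lcs_le {G : Type*} [Group G] (H : Subgroup G) : ∀ n, H.lowerCentralSeries n ≤ (⊤ : Subgroup G).lowerCentralSeries n
  | 0 => le_top
  | n + 1 => Subgroup.commutator_mono (lcs_le H n) le_top

/-- A finite `p`-group of nilpotency class less than `p` (the term of index `p - 1` of the lower central series of the whole group, indexed from `0`, is trivial) is a regular `p`-group. -/
theorem result {G : Type*} [Group G] [Finite G] {p : ℕ} [Fact p.Prime] (hG : IsPGroup p G) (hcl : (⊤ : Subgroup G).lowerCentralSeries (p - 1) = ⊥) : Cfsg.IsRegularPGroup p G := by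
  classical
  refine CfsgLib.Perm.RegularP.regular_of_reg_one ⟨hG, fun a b => ?_⟩
  set K := Subgroup.closure ({a, b} : Set G)
  set A : K := ⟨a, Subgroup.subset_closure (by simp)⟩
  set B : K := ⟨b, Subgroup.subset_closure (by simp)⟩
  set W := Cfsg.powerClosure p 1 (commutator K)
  haveI : W.Normal := powerClosure_normal p 1 _
  set f := QuotientGroup.mk' W
  have hclQ : (⊤ : Subgroup (K ⧸ W)).lowerCentralSeries (p - 1) = ⊥ := by
    have hK : (⊤ : Subgroup K).lowerCentralSeries (p - 1) = ⊥ := by
      refine (Subgroup.map_eq_bot_iff_of_injective _ K.subtype_injective).1 ?_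
      rw [Subgroup.top_subtype_lowerCentralSeries, eq_bot_iff, ← hcl]
      exact lcs_le K _
    rw [← Subgroup.map_top_of_surjective f (QuotientGroup.mk'_surjective W), ← Subgroup.map_lowerCentralSeries, hK,
      Subgroup.map_bot]
  have hexp : ∀ x ∈ commutator (K ⧸ W), x ^ p = 1 := by
    intro x hx
    rw [commutator_def, ← Subgroup.map_top_of_surjective f (QuotientGroup.mk'_surjective W), ← Subgroup.map_commutator] at hx
    obtain ⟨y, hy, rfl⟩ := hx
    rw [← map_pow]
    exact (QuotientGroup.eq_one_iff _).2 (Subgroup.subset_closure ⟨y, hy, by rw [pow_one]⟩)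
  have e := CfsgLib.Perm.PolySeq.mul_pow_prime (Fact.out : p.Prime) hclQ hexp (f A) (f B)
  rw [← map_mul, ← map_pow, ← map_pow, ← map_pow, ← map_mul] at e
  have hc : (A ^ p * B ^ p)⁻¹ * (A * B) ^ p ∈ W := QuotientGroup.eq.1 e.symm
  refine ⟨(((A ^ p * B ^ p)⁻¹ * (A * B) ^ p : K) : G), ?_, by simp [A, B, mul_assoc]⟩
  rw [← K.map_subtype_commutator]
  refine Subgroup.closure_le (K := (Cfsg.powerClosure p 1 _).comap K.subtype) |>.2 ?_ hc
  rintro _ ⟨d, hd, rfl⟩
  exact Subgroup.subset_closure ⟨K.subtype d, Subgroup.mem_map_of_mem _ hd, map_pow _ d _⟩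

end Cfsg.Agent.S4209
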