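import Cfsg.Statements.S2761
import Cfsg.Agent.Inv.QdSylow

set_option autoImplicit false
open Cfsg

namespace Cfsg.Agent.S2761

/-- The group Qd(2), the natural semidirect product of an elementary abelian group of order 4 by SL₂(2) (realised as the affine subgroup of SL₃(2)), is isomorphic to the symmetric group of degree 4. -/
theorem result : Nonempty (↥(Cfsg.qd 2) ≃* Equiv.Perm (Fin 4)) := by
  let f : ↥(Cfsg.qd 2) → (ZMod 2 × ZMod 2) → (ZMod 2 × ZMod 2) := fun M v =>
    (M.1.1 0 0 * v.1 + M.1.1 0 1 * v.2 + M.1.1 0 2, M.1.1 1 0 * v.1 + M.1.1 1 1 * v.2 + M.1.1 1 2)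
  have hf1 : ∀ v, f 1 v = v := fun v => by simp [f]
  have hfm : ∀ M N v, f (M * N) v = f M (f N v) := by
    intro M N v
    obtain ⟨h0, h1, h2⟩ := CfsgLib.Fus.Qd.row N
    simp [f, Matrix.mul_apply, Fin.sum_univ_three, h0, h1, h2]
    exact ⟨by ring, by ring⟩
  let g : ↥(Cfsg.qd 2) →* Equiv.Perm (ZMod 2 × ZMod 2) :=
    { toFun := fun M => ⟨f M, f M⁻¹, fun v => by rw [← hfm, inv_mul_cancel, hf1], fun v => by rw [← hfm, mul_inv_cancel, hf1]⟩
      map_one' := Equiv.ext hf1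
      map_mul' := fun M N => Equiv.ext (hfm M N) }
  have hinj : Function.Injective g := by
    refine (injective_iff_map_eq_one g).2 fun M hM => ?_
    have e : ∀ v, f M v = v := fun v => congrFun (congrArg DFunLike.coe hM) v
    obtain ⟨h0, h1, h2⟩ := CfsgLib.Fus.Qd.row M
    have e0 := e (0, 0)
    have e1 := e (1, 0)
    have e2 := e (0, 1)
    simp [f] at e0 e1 e2
    obtain ⟨a, b⟩ := e0
    apply Subtype.ext; apply Subtype.ext
    ext i j
    fin_cases i <;> fin_cases j <;> simp_all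
  have hcard : Nat.card ↥(Cfsg.qd 2) = Nat.card (Equiv.Perm (ZMod 2 × ZMod 2)) := by
    rw [CfsgLib.Inv.QdSylow.card_qd, Nat.card_perm, Nat.card_prod, Nat.card_zmod]
    rfl
  let e := MulEquiv.ofBijective g ((Nat.bijective_iff_injective_and_card g).2 ⟨hinj, hcard⟩)
  have h4 : Nonempty (ZMod 2 × ZMod 2 ≃ Fin 4) :=
    ⟨(Fintype.equivFinOfCardEq (by simp))⟩
  obtain ⟨q⟩ := h4
  exact ⟨e.trans q.permCongrHom⟩

end Cfsg.Agent.S2761
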