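import Cfsg.Statements.S0740

import Mathlib

set_option autoImplicit false
set_option linter.style.haveILetI false
open Cfsg

namespace Cfsg.Agent.S0740

/-- In a finite Zassenhaus group any two points `a ≠ b` are swapped by an involution; every such involution has exactly one fixed point when the degree is odd and 0 or 2 fixed points when the degree is even; and if the two-point stabiliser has even order, some such involution has exactly 2 fixed points. -/
theorem result {G Ω : Type*} [Group G] [Finite G] [MulAction G Ω] [Fintype Ω] (hZ : Cfsg.IsZassenhausGroup G Ω) {a b : Ω} (hab : a ≠ b) : (∃ s : G, orderOf s = 2 ∧ s • a = b ∧ s • b = a) ∧ (∀ s : G, orderOf s = 2 → s • a = b → s • b = a → (Odd (Fintype.card Ω) → Nat.card (MulAction.fixedBy Ω s) = 1) ∧ (Even (Fintype.card Ω) → Nat.card (MulAction.fixedBy Ω s) = 0 ∨ Nat.card (MulAction.fixedBy Ω s) = 2)) ∧ (Even (Fintype.card Ω) → Even (Nat.card ↥(MulAction.stabilizer G a ⊓ MulAction.stabilizer G b)) → ∃ s : G, orderOf s = 2 ∧ s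 • a = b ∧ s • b = a ∧ Nat.card (MulAction.fixedBy Ω s) = 2) := by
  classical
  obtain ⟨hfaith, h2, h3, -, -⟩ := hZ
  haveI := hfaith
  haveI : Fact (Nat.Prime 2) := ⟨Nat.prime_two⟩
  have h2' : ∀ x y z w : Ω, x ≠ y → z ≠ w → ∃ g : G, g • x = z ∧ g • y = w :=
    fun x y z w h h' => MulAction.is_two_pretransitive_iff.mp h2 h h'
  have hswap : ∀ u : G, orderOf u = 2 → ∀ x : Ω, u • x ≠ x →
      ∃ g : G, orderOf (g * u * g⁻¹) = 2 ∧ (g * u * g⁻¹) • a = b ∧ (g * u * g⁻¹) • b = a ∧
        Nat.card (MulAction.fixedBy Ω (g * u * g⁻¹)) = Nat.card (MulAction.fixedBy Ω u) := by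
    intro u hu x hx
    obtain ⟨g, hga, hgb⟩ := h2' x (u • x) a b (Ne.symm hx) hab
    have huu : u • u • x = x := by
      rw [← mul_smul, ← pow_two, ← hu, pow_orderOf_eq_one, one_smul]
    refine ⟨g, ?_, ?_, ?_, ?_⟩
    · exact (MulEquiv.orderOf_eq (MulAut.conj g) u).trans hu
    · rw [← hga, mul_smul, mul_smul, inv_smul_smul, hgb]
    · rw [← hgb, mul_smul, mul_smul, inv_smul_smul, huu, hga]
    · refine Nat.card_congr ((MulAction.toPerm g⁻¹).subtypeEquiv fun z => ?_)
      show (g * u * g⁻¹) • z = z ↔ u • (g⁻¹ • z) = g⁻¹ • z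
      rw [mul_smul, mul_smul, smul_eq_iff_eq_inv_smul]
  have hfix : ∀ u : G, orderOf u = 2 → Nat.card (MulAction.fixedBy Ω u) ≤ 2 ∧
      Nat.card (MulAction.fixedBy Ω u) % 2 = Fintype.card Ω % 2 := by
    intro u hu
    constructor
    · by_contra hlt
      rw [not_le, Nat.card_coe_set_eq, Set.two_lt_ncard_iff (Set.toFinite _)] at hlt
      obtain ⟨x, y, z, hx, hy, hz, hxy, hxz, hyz⟩ := hlt
      rw [h3 u x y z hxy hyz hxz hx hy hz, orderOf_one] at hu
      omega
    · have hP : IsPGroup 2 (Subgroup.zpowers u) :=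
        IsPGroup.of_card (n := 1) (by rw [Nat.card_zpowers, hu, pow_one])
      have h1 := hP.card_modEq_card_fixedPoints (α := Ω)
      have heq : MulAction.fixedPoints (Subgroup.zpowers u) Ω = MulAction.fixedBy Ω u := by
        ext x
        constructor
        · exact fun h => h ⟨u, Subgroup.mem_zpowers u⟩
        · intro h t
          have hle : Subgroup.zpowers u ≤ MulAction.stabilizer G x :=
            Subgroup.zpowers_le.mpr h
          exact hle t.2
      rw [heq, Nat.card_eq_fintype_card (α := Ω)] at h1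
      exact h1.symm
  have hmove : ∀ u : G, orderOf u = 2 → ∃ x : Ω, u • x ≠ x := by
    intro u hu
    by_contra hc
    push Not at hc
    have : u = 1 := eq_of_smul_eq_smul (α := Ω) fun x => by rw [hc x, one_smul]
    rw [this, orderOf_one] at hu
    omega
  refine ⟨?_, fun s hs _ _ => ⟨fun hodd => ?_, fun heven => ?_⟩, fun heven hH => ?_⟩
  · have hev : 2 ∣ Nat.card G := by
      obtain ⟨g, hga, hgb⟩ := h2' a b b a hab (Ne.symm hab)
      have hper : ∀ n : ℕ, (Odd n → g ^ n • a = b) := by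
        intro n hn
        obtain ⟨k, rfl⟩ := hn
        induction k with
        | zero => simpa using hga
        | succ k ih =>
          rw [show 2 * (k + 1) + 1 = (2 * k + 1) + 1 + 1 by ring, pow_succ', pow_succ', mul_smul,
            mul_smul, ih, hgb, hga]
      have h4 : ¬ Odd (orderOf g) := fun ho => hab (by
        have := hper _ ho
        rwa [pow_orderOf_eq_one, one_smul] at this)
      exact (Nat.not_odd_iff_even.mp h4).two_dvd.trans (orderOf_dvd_natCard g)
    obtain ⟨t, ht⟩ := exists_prime_orderOf_dvd_card' (G := G) 2 hev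
    obtain ⟨x, hx⟩ := hmove t ht
    obtain ⟨g, h1, h4, h5, -⟩ := hswap t ht x hx
    exact ⟨_, h1, h4, h5⟩
  · obtain ⟨h1, h4⟩ := hfix s hs
    rw [Nat.odd_iff] at hodd
    omega
  · obtain ⟨h1, h4⟩ := hfix s hs
    rw [Nat.even_iff] at heven
    omega
  · obtain ⟨t, ht⟩ := exists_prime_orderOf_dvd_card'
      (G := ↥(MulAction.stabilizer G a ⊓ MulAction.stabilizer G b)) 2 hH.two_dvd
    rw [← Subgroup.orderOf_coe] at ht
    obtain ⟨x, hx⟩ := hmove _ ht
    obtain ⟨g, h1, h4, h5, h6⟩ := hswap _ ht x hx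
    refine ⟨_, h1, h4, h5, ?_⟩
    rw [h6]
    obtain ⟨hle, -⟩ := hfix _ ht
    refine le_antisymm hle ?_
    rw [Nat.card_coe_set_eq]
    exact (Set.one_lt_ncard_iff (Set.toFinite _)).mpr ⟨a, b, t.2.1, t.2.2, hab⟩

end Cfsg.Agent.S0740
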