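import Cfsg.Statements.S0669

import Mathlib

set_option autoImplicit false
set_option linter.style.haveILetI false
open Cfsg

namespace Cfsg.Agent.S0669

/-- The rank of a transitive action: orbits on ordered pairs correspond to orbits of a point stabiliser. -/
theorem result {G : Type*} [Group G] {Ω : Type*} [Finite Ω] [MulAction G Ω] [MulAction.IsPretransitive G Ω] (a : Ω) : Nat.card (MulAction.orbitRel.Quotient G (Ω × Ω)) = Nat.card (MulAction.orbitRel.Quotient (MulAction.stabilizer G a) Ω) := by
  classical
  refine (Nat.card_eq_of_bijective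
    (Quotient.map' (fun b : Ω => ((a, b) : Ω × Ω)) ?_) ⟨?_, ?_⟩).symm
  · intro x y hxy
    obtain ⟨g, rfl⟩ := MulAction.orbitRel_apply.mp hxy
    refine MulAction.orbitRel_apply.mpr ⟨(g : G), ?_⟩
    simp [Prod.smul_mk, Subgroup.smul_def, MulAction.mem_stabilizer_iff.mp g.2]
  · intro x y
    induction x using Quotient.inductionOn' with
    | h x =>
      induction y using Quotient.inductionOn' with
      | h y =>
        intro h
        simp only [Quotient.map'_mk''] at h
        obtain ⟨g, hg⟩ := MulAction.orbitRel_apply.mp (Quotient.eq''.mp h)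
        simp only [Prod.smul_mk, Prod.mk.injEq] at hg
        refine Quotient.eq''.mpr (MulAction.orbitRel_apply.mpr ⟨⟨g, hg.1⟩, ?_⟩)
        exact hg.2
  · intro q
    induction q using Quotient.inductionOn' with
    | h x =>
      obtain ⟨u, v⟩ := x
      obtain ⟨g, hg⟩ := MulAction.exists_smul_eq G u a
      refine ⟨Quotient.mk'' (g • v), ?_⟩
      simp only [Quotient.map'_mk'']
      refine Quotient.eq''.mpr (MulAction.orbitRel_apply.mpr ⟨g, ?_⟩)
      simp [Prod.smul_mk, hg]

end Cfsg.Agent.S0669
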