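import Cfsg.Statements.S2844
import Cfsg.Agent.Inv.CharP2

set_option autoImplicit false
open Cfsg

namespace Cfsg.Agent.S2844

/-- Let Q be a nontrivial large p-subgroup of the finite group H and Q• = O_p(N_H(Q)). Then for every g ∈ H outside N_H(Q): C_H(Q) ∩ C_H(gQg⁻¹) = 1, C_H(Q•) ∩ C_H(gQ•g⁻¹) = 1, Z(Q) ∩ Z(gQg⁻¹) = 1 and Z(Q•) ∩ Z(gQ•g⁻¹) = 1; moreover N_H(Q) = N_H(Q•) and Q• is large in H. -/
theorem result {H : Type*} [Group H] [Finite H] {p : ℕ} [Fact p.Prime] (Q : Subgroup H) (hQp : IsPGroup p ↥Q) (hQ1 : Q ≠ ⊥) (hL : Cfsg.IsLarge Q) (Qb : Subgroup H) (hQb : Qb = Cfsg.largeBullet p Q) : (∀ g : H, g ∉ Subgroup.normalizer ((Q : Subgroup H) : Set H) → Subgroup.centralizer ((Q : Subgroup H) : Set H) ⊓ Subgroup.centralizer ((((Q : Subgroup H).map (MulAut.conj (g : H)).toMonoidHom) : Subgroup H) : Set H) = ⊥ ∧ Subgroup.centralizer ((Qb : Subgroup H) : Set H) ⊓ Subgroup.centralizer ((((Qb : Subgroup H).map (MulAut.conj (g : H)).toMonoidHom) : Subgroup H) : Set H) = ⊥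 ∧ (Q ⊓ Subgroup.centralizer ((Q : Subgroup H) : Set H)) ⊓ (((Q : Subgroup H).map (MulAut.conj (g : H)).toMonoidHom) ⊓ Subgroup.centralizer ((((Q : Subgroup H).map (MulAut.conj (g : H)).toMonoidHom) : Subgroup H) : Set H)) = ⊥ ∧ (Qb ⊓ Subgroup.centralizer ((Qb : Subgroup H) : Set H)) ⊓ (((Qb : Subgroup H).map (MulAut.conj (g : H)).toMonoidHom) ⊓ Subgroup.centralizer ((((Qb : Subgroup H).map (MulAut.conj (g : H)).toMonoidHom) : Subgroup H) : Set H)) = ⊥) ∧ Subgroup.normalizer ((Q : Subgroup H) : Set H) = Subgroup.normalizer ((Qb : Subgroup H) : Set H) ∧ Cfsg.IsLarge Qb := by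
  open CfsgLib.Inv in
  open scoped Pointwise in
  exact (by
    obtain ⟨hCQ, hU⟩ := hL
    set N := Subgroup.normalizer ((Q : Subgroup H) : Set H) with hN
    haveI := CfsgLib.Solv.pCore_normal ↥N p
    have hQb1 : Q ≤ Qb := by
      haveI : (Q.subgroupOf N).Normal := Subgroup.normal_in_normalizer (H := Q)
      rw [hQb]
      intro q hq
      exact Subgroup.mem_map.2 ⟨⟨q, Subgroup.le_normalizer hq⟩,
        CfsgLib.Solv.le_pCore (G := ↥N) (N := Q.subgroupOf N) hQp.comap_subtype hq, rfl⟩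
    have hQbp : IsPGroup p Qb := by rw [hQb]; exact (CfsgLib.Solv.pCore_isPGroup _ _).map _
    have hZ : ∀ R : Subgroup H, IsPGroup p R → R ≠ ⊥ → R ⊓ Subgroup.centralizer (R : Set H) ≠ ⊥ := by
      intro R hR hR1 h
      haveI : Nontrivial ↥R := (Subgroup.nontrivial_iff_ne_bot _).2 hR1
      haveI := hR.center_nontrivial
      obtain ⟨z, hz⟩ := exists_ne (1 : Subgroup.center R)
      refine hz ?_
      have hmem : ((z : R) : H) ∈ R ⊓ Subgroup.centralizer (R : Set H) :=
        Subgroup.mem_inf.2 ⟨(z : R).2, Subgroup.mem_centralizer_iff.2 fun r hr =>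
          congrArg Subtype.val (Subgroup.mem_center_iff.1 z.2 ⟨r, hr⟩)⟩
      rw [h] at hmem
      exact Subtype.ext (Subtype.ext (Subgroup.mem_bot.1 hmem))
    -- Sylow subgroups over Q
    have hsyl : ∀ S : Sylow p H, Q ≤ (S : Subgroup H) →
        Subgroup.normalizer ((S : Subgroup H) : Set H) ≤ N := by
      intro S hS n hn
      have hS1 : (S : Subgroup H) ≠ ⊥ := fun e => hQ1 (le_bot_iff.1 (hS.trans e.le))
      refine hU _ ?_ (hZ S S.2 hS1) ?_
      · exact inf_le_right.trans (Subgroup.centralizer_le hS)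
      · refine CfsgLib.Solv.le_normalizer_inf_of_le (le_refl _) ?_ hn
        rw [CfsgLib.Solv.le_normalizer_iff_forall_conj_mem]
        intro a ha c hc
        refine Subgroup.mem_centralizer_iff.2 fun s hs => ?_
        have h1 := (Subgroup.mem_normalizer_iff''.1 ha s).1 hs
        have h2 := Subgroup.mem_centralizer_iff.1 hc _ h1
        calc s * (a * c * a⁻¹) = a * (a⁻¹ * s * a * c) * a⁻¹ := by group
          _ = a * (c * (a⁻¹ * s * a)) * a⁻¹ := by rw [h2]
          _ = a * c * a⁻¹ * s := by group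
    have hmain : ∀ g : H, g ∉ N → Subgroup.centralizer ((Q : Subgroup H) : Set H) ⊓
        Subgroup.centralizer ((Q.map (MulAut.conj g).toMonoidHom : Subgroup H) : Set H) = ⊥ := by
      intro g hg
      by_contra hne
      set U := Subgroup.centralizer ((Q : Subgroup H) : Set H) ⊓
        Subgroup.centralizer ((Q.map (MulAut.conj g).toMonoidHom : Subgroup H) : Set H) with hUdef
      have hgQ : Q.map (MulAut.conj g).toMonoidHom ≤ N := by
        refine le_trans ?_ (hU U inf_le_left hne)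
        refine le_trans ?_ (Subgroup.centralizer_le_normalizer _)
        exact Subgroup.le_centralizer_iff.1 inf_le_right
      obtain ⟨S, hS⟩ := (hQp.to_sup_of_normal_left' (hQp.map _) hgQ).exists_le_sylow
      have hQS : Q ≤ (S : Subgroup H) := le_sup_left.trans hS
      have hQS' : Q ≤ ((g⁻¹ • S : Sylow p H) : Subgroup H) := fun q hq => by
        rw [Sylow.coe_subgroup_smul, CfsgLib.Solv.mem_conj_smul_iff]
        simpa using (le_sup_right.trans hS) ⟨q, hq, rfl⟩
      have hSN : (S : Subgroup H) ≤ N := Subgroup.le_normalizer.trans (hsyl S hQS)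
      have hSN' : ((g⁻¹ • S : Sylow p H) : Subgroup H) ≤ N := Subgroup.le_normalizer.trans (hsyl _ hQS')
      obtain ⟨n, hn⟩ := MulAction.exists_smul_eq N (S.subtype hSN) ((g⁻¹ • S).subtype hSN')
      rw [Sylow.smul_subtype] at hn
      have hn' : (n : H) • S = g⁻¹ • S := Sylow.subtype_injective hn
      have hgn : g * (n : H) ∈ N := by
        refine hsyl S hQS (Sylow.smul_eq_iff_mem_normalizer.1 ?_)
        rw [mul_smul, hn', smul_inv_smul]
      exact hg (by simpa using mul_mem hgn (inv_mem n.2))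
    have hC : Subgroup.centralizer ((Qb : Subgroup H) : Set H) ≤ Subgroup.centralizer ((Q : Subgroup H) : Set H) :=
      Subgroup.centralizer_le hQb1
    have hNN : N = Subgroup.normalizer ((Qb : Subgroup H) : Set H) := by
      refine le_antisymm ?_ ?_
      · rw [hQb, Cfsg.largeBullet, Cfsg.pCoreOf]
        refine le_trans ?_ (Subgroup.le_normalizer_map N.subtype)
        rw [Subgroup.normalizer_eq_top, ← MonoidHom.range_eq_map, Subgroup.range_subtype]
      · intro n hn
        have hQb0 : Qb ≠ ⊥ := fun e => hQ1 (le_bot_iff.1 (hQb1.trans e.le))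
        refine hU _ (inf_le_right.trans hC) (hZ Qb hQbp hQb0) ?_
        refine CfsgLib.Solv.le_normalizer_inf_of_le (le_refl _) ?_ hn
        rw [CfsgLib.Solv.le_normalizer_iff_forall_conj_mem]
        intro a ha c hc
        refine Subgroup.mem_centralizer_iff.2 fun s hs => ?_
        have h1 := (Subgroup.mem_normalizer_iff''.1 ha s).1 hs
        have h2 := Subgroup.mem_centralizer_iff.1 hc _ h1
        calc s * (a * c * a⁻¹) = a * (a⁻¹ * s * a * c) * a⁻¹ := by group
          _ = a * (c * (a⁻¹ * s * a)) * a⁻¹ := by rw [h2]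
          _ = a * c * a⁻¹ * s := by group
    refine ⟨fun g hg => ?_, hNN, (hC.trans hCQ).trans hQb1, fun U hU1 hU2 => ?_⟩
    · have h1 := hmain g hg
      have h2 : Subgroup.centralizer ((Qb : Subgroup H) : Set H) ⊓
          Subgroup.centralizer ((Qb.map (MulAut.conj g).toMonoidHom : Subgroup H) : Set H) = ⊥ :=
        le_bot_iff.1 (h1 ▸ inf_le_inf hC (Subgroup.centralizer_le (Subgroup.map_mono hQb1)))
      exact ⟨h1, h2, le_bot_iff.1 (h1 ▸ inf_le_inf inf_le_right inf_le_right),
        le_bot_iff.1 (h2 ▸ inf_le_inf inf_le_right inf_le_right)⟩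
    · rw [← hNN]; exact hU U (hU1.trans hC) hU2)

end Cfsg.Agent.S2844
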