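import Cfsg.Statements.S2845
import Cfsg.Agent.Inv.LargeSub

set_option autoImplicit false
open Cfsg

namespace Cfsg.Agent.S2845

/-- Let Q be a nontrivial large p-subgroup of the finite group H. Then for every subgroup L ≥ Q with O_p(L) ≠ 1, C_H(O_p(L)) is a p-group and L has characteristic p, and either the weak closure L° of Q in L equals Q or C_H(L°) = 1; for every subgroup R of H containing a Sylow p-subgroup of H with O_p(R) ≠ 1, C_H(O_p(R)) ≤ O_p(R); and H has parabolic characteristic p. -/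
theorem result {H : Type*} [Group H] [Finite H] {p : ℕ} [Fact p.Prime] (Q : Subgroup H) (hQp : IsPGroup p ↥Q) (hQ1 : Q ≠ ⊥) (hL : Cfsg.IsLarge Q) : (∀ L : Subgroup H, Q ≤ L → Cfsg.pCore p ↥L ≠ ⊥ → IsPGroup p ↥(Subgroup.centralizer (((Cfsg.pCoreOf p L) : Subgroup H) : Set H)) ∧ Subgroup.centralizer (Cfsg.pCore p ↥L : Set ↥L) ≤ Cfsg.pCore p ↥L ∧ (Cfsg.weakClosure Q L = Q ∨ Subgroup.centralizer (((Cfsg.weakClosure Q L) : Subgroup H) : Set H) = ⊥)) ∧ (∀ R : Subgroup H, Cfsg.IsParabolic p R → Cfsg.pCore p ↥R ≠ ⊥ → Subgroup.centralizer (((Cfsg.pCoreOf p R) : Subgroup H) : Set H) ≤ (Cfsg.pCoreOf p R)) ∧ Cfsg.IsOfParabolicCharacteristic p H := by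
  open CfsgLib.Inv in
  open scoped Pointwise in
  exact (by
    have hwc := large_wc hQp hQ1 hL
    have hpar : ∀ R : Subgroup H, Cfsg.IsParabolic p R → Cfsg.pCore p ↥R ≠ ⊥ →
        Subgroup.centralizer ((Cfsg.pCoreOf p R : Subgroup H) : Set H) ≤ Cfsg.pCoreOf p R := by
      rintro R ⟨T, hTR⟩ hO
      obtain ⟨S, hS⟩ := hQp.exists_le_sylow
      obtain ⟨g, hg⟩ := MulAction.exists_smul_eq H S T
      have hQT : Q.map (MulAut.conj g).toMonoidHom ≤ (T : Subgroup H) := by
        rw [← hg, Sylow.coe_subgroup_smul, CfsgLib.Solv.conj_smul_eq_map]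
        exact Subgroup.map_mono hS
      obtain ⟨h1, -, h3⟩ := large_overgroup (hQp.map _)
        (fun h => hQ1 ((Subgroup.map_eq_bot_iff_of_injective _ (MulAut.conj g).injective).1 h))
        (large_conj hL g) (hQT.trans hTR) hO
      set D := Subgroup.centralizer ((Cfsg.pCoreOf p R : Subgroup H) : Set H)
      have hTD : (T : Subgroup H) ≤ Subgroup.normalizer (D : Set H) := by
        refine hTR.trans ((le_normalizer_pCoreOf (p := p) R).trans ?_)
        intro m hm
        rw [Subgroup.mem_normalizer_iff]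
        intro c
        simp only [D, Subgroup.mem_centralizer_iff]
        constructor
        · intro hc w hw
          have hw' := (Subgroup.mem_normalizer_iff''.1 hm w).1 hw
          calc w * (m * c * m⁻¹) = m * (m⁻¹ * w * m * c) * m⁻¹ := by group
            _ = m * (c * (m⁻¹ * w * m)) * m⁻¹ := by rw [hc _ hw']
            _ = _ := by group
        · intro hc w hw
          have hw' := (Subgroup.mem_normalizer_iff.1 hm w).1 hw
          calc w * c = m⁻¹ * ((m * w * m⁻¹) * (m * c * m⁻¹)) * m := by group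
            _ = m⁻¹ * ((m * c * m⁻¹) * (m * w * m⁻¹)) * m := by rw [hc _ hw']
            _ = _ := by group
      have hDT : D ≤ (T : Subgroup H) :=
        (T.3 (h1.to_sup_of_normal_left' T.2 hTD) le_sup_right).symm ▸ le_sup_left
      exact (le_inf (hDT.trans hTR) le_rfl).trans h3
    refine ⟨fun L hQL hO => ?_, hpar, fun R hRp hR1 hRpar => ?_⟩
    · obtain ⟨h1, h2, -⟩ := large_overgroup hQp hQ1 hL hQL hO
      refine ⟨h1, h2, ?_⟩
      by_cases hne : Subgroup.centralizer (((Cfsg.weakClosure Q L) : Subgroup H) : Set H) = ⊥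
      · exact Or.inr hne
      obtain ⟨⟨z, hz⟩, hz1⟩ := Subgroup.ne_bot_iff_exists_ne_one.1 hne
      refine Or.inl (le_antisymm (iSup_le fun g => ?_) ?_)
      · refine le_of_eq ?_
        by_contra hgQ
        have hgN : (g : H) ∉ Subgroup.normalizer (Q : Set H) := fun h => hgQ (by
          rw [← CfsgLib.Solv.conj_smul_eq_map]; exact CfsgLib.Solv.conj_smul_eq_self_of_mem_normalizer h)
        have h0 := ((Cfsg.Agent.S2844.result Q hQp hQ1 hL _ rfl).1 g hgN).1
        have hid : Q ≤ Cfsg.weakClosure Q L := by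
          intro q hq
          exact le_iSup (fun g : {g : H // Q.map (MulAut.conj g).toMonoidHom ≤ L} =>
            Q.map (MulAut.conj (g : H)).toMonoidHom) ⟨1, by rintro _ ⟨r, hr, rfl⟩; simpa using hQL hr⟩ ⟨q, hq, by simp⟩
        have hm := Subgroup.mem_inf.2 ⟨Subgroup.centralizer_le (SetLike.coe_subset_coe.2 hid) hz,
          Subgroup.centralizer_le (SetLike.coe_subset_coe.2 (le_iSup (fun g : {g : H // Q.map (MulAut.conj g).toMonoidHom ≤ L} =>
            Q.map (MulAut.conj (g : H)).toMonoidHom) g)) hz⟩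
        rw [h0, Subgroup.mem_bot] at hm
        exact hz1 (Subtype.ext hm)
      · intro q hq
        exact le_iSup (fun g : {g : H // Q.map (MulAut.conj g).toMonoidHom ≤ L} =>
          Q.map (MulAut.conj (g : H)).toMonoidHom) ⟨1, by rintro _ ⟨r, hr, rfl⟩; simpa using hQL hr⟩ ⟨q, hq, by simp⟩
    · have hle := le_pCoreOf (p := p) Subgroup.le_normalizer hRp le_rfl
      have hO : Cfsg.pCore p ↥(Subgroup.normalizer (R : Set H)) ≠ ⊥ := fun h => hR1 (by
        refine le_bot_iff.1 (hle.trans (le_of_eq ?_))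
        show (Cfsg.pCore p ↥(Subgroup.normalizer (R : Set H))).map _ = ⊥
        rw [h, Subgroup.map_bot])
      intro x hx
      have h1 : (x : H) ∈ Cfsg.pCoreOf p (Subgroup.normalizer (R : Set H)) :=
        hpar _ hRpar hO (Subgroup.mem_centralizer_iff.2 (by
          rintro _ ⟨w, hw, rfl⟩; exact congrArg Subtype.val (Subgroup.mem_centralizer_iff.1 hx w hw)))
      obtain ⟨w, hw, hwe⟩ := h1
      exact Subtype.ext hwe ▸ hw)

end Cfsg.Agent.S2845
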