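-- Statement S0107
import Cfsg.Statements.S0107
import Cfsg.Agent.Solv.SmallTransfer

set_option autoImplicit false
open Cfsg
open scoped commutatorElement Pointwise
set_option linter.style.haveILetI false
set_option linter.deprecated false

namespace Cfsg.Agent.S0107

/-- A finite group with no nontrivial 2-group quotient and dihedral Sylow 2-subgroups of order at least 8 has a single class of involutions. -/
theorem result {G : Type*} [Group G] [Finite G] (T : Sylow 2 G) (n : ℕ) (hn : 2 ≤ n) (hT : Nonempty ((T : Subgroup G) ≃* DihedralGroup (2 ^ n))) (hO : Cfsg.pResidual 2 G = ⊤) (x y : G) (hx : orderOf x = 2) (hy : orderOf y = 2) : ∃ g : G, g * x * g⁻¹ = y := by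
    haveI : Fact (2 : ℕ).Prime := ⟨Nat.prime_two⟩
    obtain ⟨e⟩ := hT
    set m := 2 ^ n with hm
    haveI : NeZero m := ⟨pow_ne_zero _ two_ne_zero⟩
    set ι : DihedralGroup m →* G := (T : Subgroup G).subtype.comp e.symm.toMonoidHom with hι
    have hinj : Function.Injective ι := fun a b h => e.symm.injective (Subtype.ext h)
    set Q0 := Subgroup.zpowers (DihedralGroup.r (1 : ZMod m)) with hQ0
    set Q := Q0.map ι with hQ
    have hQT : Q ≤ (T : Subgroup G) := by rintro _ ⟨a, -, rfl⟩; exact (e.symm a).2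
    have hTcard : Nat.card (T : Subgroup G) = 2 * m := by
      rw [Nat.card_congr e.toEquiv, DihedralGroup.nat_card]
    have hQcard : Nat.card Q = m := by
      rw [hQ, ← Nat.card_congr (Q0.equivMapOfInjective ι hinj).toEquiv, hQ0, Nat.card_zpowers,
        DihedralGroup.orderOf_r_one]
    have hQi : Q.relIndex (T : Subgroup G) = 2 := by
      have h := CfsgLib.Solv.relIndex_mul_card hQT
      rw [hTcard, hQcard] at h
      exact Nat.eq_of_mul_eq_mul_right (Nat.pos_of_ne_zero (NeZero.ne m)) ((mul_comm _ _).trans h)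
    have hz : ∀ a ∈ Q, orderOf a = 2 → a = ι (DihedralGroup.r ((2 ^ (n - 1) : ℕ) : ZMod m)) := by
      rintro _ ⟨q, hq, rfl⟩ ho
      rw [orderOf_injective ι hinj] at ho
      obtain ⟨i, hi⟩ := Subgroup.mem_zpowers_iff.1 hq
      rw [DihedralGroup.r_one_zpow] at hi
      subst hi
      congr 2
      have h2 := pow_orderOf_eq_one (DihedralGroup.r ((i : ℤ) : ZMod m))
      rw [ho, pow_two, DihedralGroup.r_mul_r, DihedralGroup.one_def] at h2
      have h3 : ((i : ℤ) : ZMod m) + (i : ZMod m) = 0 := DihedralGroup.r.inj h2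
      set v := (i : ZMod m) with hv
      have h4 : ((2 * v.val : ℕ) : ZMod m) = 0 := by
        rw [Nat.cast_mul, ZMod.natCast_zmod_val, Nat.cast_ofNat, two_mul]; exact h3
      obtain ⟨c, hc⟩ := (ZMod.natCast_eq_zero_iff _ _).1 h4
      have hv0 : v.val ≠ 0 := fun h0 => by
        rw [(ZMod.val_eq_zero v).1 h0] at ho
        rw [← DihedralGroup.one_def, orderOf_one] at ho
        exact absurd ho (by norm_num)
      have hlt := ZMod.val_lt v
      have hm2 : m = 2 * 2 ^ (n - 1) := by rw [← pow_succ', hm]; congr 1; omega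
      have hc1 : c = 1 := by
        rcases c with _ | _ | c
        · omega
        · rfl
        · exfalso; nlinarith
      rw [hc1, mul_one] at hc
      rw [← ZMod.natCast_zmod_val v, show v.val = 2 ^ (n - 1) by omega]
    have main : ∀ a : G, orderOf a = 2 →
        ∃ g : G, g * a * g⁻¹ = ι (DihedralGroup.r ((2 ^ (n - 1) : ℕ) : ZMod m)) := by
      intro a ha
      rcases CfsgLib.Solv.thompson_transfer T hQT hQi ha with ⟨M, hMn, hMi, haM⟩ | ⟨g, hg⟩
      · haveI := hMn
        exact absurd ((hO ▸ CfsgLib.Solv.pResidual_le_of_index hMi : (⊤ : Subgroup G) ≤ M)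
          (Subgroup.mem_top a)) haM
      · refine ⟨g, hz _ hg ?_⟩
        rw [show g * a * g⁻¹ = MulAut.conj g a from rfl, MulEquiv.orderOf_eq, ha]
    obtain ⟨g, hg⟩ := main x hx
    obtain ⟨k, hk⟩ := main y hy
    refine ⟨k⁻¹ * g, ?_⟩
    calc k⁻¹ * g * x * (k⁻¹ * g)⁻¹ = k⁻¹ * (g * x * g⁻¹) * k := by group
      _ = y := by rw [hg, ← hk]; group

end Cfsg.Agent.S0107
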