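-- Statement S0071
import Cfsg.Statements.S0071
import Cfsg.Agent.Solv.PComplement

set_option autoImplicit false
open Cfsg
open scoped commutatorElement Pointwise
set_option linter.style.haveILetI false
set_option linter.deprecated false

namespace Cfsg.Agent.S0071

/-- The Frobenius normal p-complement Theorem states that a Sylow p-subgroup has a normal complement exactly when, for each of its subgroups Q, every element of the normalizer of Q of order prime to p centralizes Q. -/
theorem result {G : Type*} [Group G] [Finite G] {p : ℕ} [Fact p.Prime] (P : Sylow p G) : (∃ N : Subgroup G, N.Normal ∧ N.IsComplement' (P : Subgroup G)) ↔ ∀ Q : Subgroup G, Q ≤ (P : Subgroup G) → ∀ g ∈ Subgroup.normalizer (Q : Set G), Nat.Coprime (orderOf g) p → g ∈ Subgroup.centralizer (Q : Set G) := by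
  constructor
  · rintro ⟨N, hN, hc⟩ Q hQ g hg hgc
    exact CfsgLib.Solv.mem_centralizer_of_hnpc ⟨P, N, hN, hc⟩ (P.2.to_le hQ) hg hgc
  · intro h
    have hF : CfsgLib.Solv.FrobCond p G := by
      intro Q hQ g hg hgc
      obtain ⟨R, hR⟩ := hQ.exists_le_sylow
      obtain ⟨a, rfl⟩ := MulAction.exists_smul_eq G R P
      have hQ' : MulAut.conj a • Q ≤ ((a • R : Sylow p G) : Subgroup G) := by
        rw [Sylow.coe_subgroup_smul]; exact Subgroup.pointwise_smul_le_pointwise_smul_iff.2 hR
      have hg' : a * g * a⁻¹ ∈ Subgroup.normalizer ((MulAut.conj a • Q : Subgroup G) : Set G) := by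
        rw [CfsgLib.Solv.conj_smul_eq_map]
        exact Subgroup.le_normalizer_map _ (Subgroup.mem_map_of_mem _ hg)
      have := h _ hQ' _ hg' (by
        have : orderOf (a * g * a⁻¹) = orderOf g := MulEquiv.orderOf_eq (MulAut.conj a) g
        rwa [this])
      rw [Subgroup.mem_centralizer_iff] at this ⊢
      intro q hq
      have h2 := this (a * q * a⁻¹) (CfsgLib.Solv.mem_conj_smul_iff.2 (by simpa [mul_assoc] using hq))
      have h3 := congrArg (fun y => a⁻¹ * y * a) h2
      simpa [mul_assoc] using h3
    exact ⟨_, CfsgLib.Inv.pResidual_normal p G,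
      CfsgLib.Solv.isComplement'_pResidual (CfsgLib.Solv.hnpc_iff_frobCond.2 hF) P⟩

end Cfsg.Agent.S0071
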