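import Cfsg.Statements.S2802
import Cfsg.Agent.Inv.CharP2

set_option autoImplicit false
open Cfsg

namespace Cfsg.Agent.S2802

/-- Let L be a finite group and p a prime with C_L(O_p(L)) ≤ O_p(L), T a Sylow p-subgroup of L and R a subgroup with T ≤ R. If X is a p-reduced normal subgroup of R (normal in R, elementary abelian, O_p(R/C_R(X)) = 1), then the normal closure of X in L is a p-reduced normal subgroup of L. -/
theorem result {L : Type*} [Group L] [Finite L] {p : ℕ} [Fact p.Prime] (hchar : Subgroup.centralizer (Cfsg.pCore p L : Set L) ≤ Cfsg.pCore p L) (T : Sylow p L) (R : Subgroup L) (hTR : (T : Subgroup L) ≤ R) (X : Subgroup ↥R) (hX : Cfsg.IsPReducedNormal p X) : Cfsg.IsPReducedNormal p (Subgroup.normalClosure ((X.map R.subtype : Subgroup L) : Set L)) := by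
  open CfsgLib.Inv in
  exact (by
    haveI := CfsgLib.Solv.pCore_normal L p
    have hQ := CfsgLib.Solv.pCore_isPGroup L p
    set Q := Cfsg.pCore p L with hQdef
    have hQR : Q ≤ R := (CfsgLib.Solv.pCore_le_sylow T).trans hTR
    set X₁ : Subgroup L := X.map R.subtype with hX₁
    have hX₁R : X₁ ≤ R := Subgroup.map_subtype_le _
    have hXc : X₁ ≤ Subgroup.centralizer (Q : Set L) := by
      have := reduced_pgroup_le hX (P := Q.subgroupOf R) (IsPGroup.comap_subtype hQ)
      rintro _ ⟨x, hx, rfl⟩
      refine Subgroup.mem_centralizer_iff.2 fun q hq => ?_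
      exact (congrArg Subtype.val (Subgroup.mem_centralizer_iff.1
        (this (show (⟨q, hQR hq⟩ : R) ∈ Q.subgroupOf R from hq)) x hx)).symm
    have hXQ : X₁ ≤ Q := hXc.trans hchar
    set V := Subgroup.normalClosure (X₁ : Set L) with hV
    have hVZ : V ≤ Q ⊓ Subgroup.centralizer (Q : Set L) :=
      Subgroup.normalClosure_le_normal (le_inf hXQ hXc)
    have hVab : ∀ a ∈ V, ∀ b ∈ V, a * b = b * a := fun a ha b hb =>
      (Subgroup.mem_centralizer_iff.1 (Subgroup.mem_inf.1 (hVZ ha)).2 b (Subgroup.mem_inf.1 (hVZ hb)).1).symm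
    have hVexp : ∀ a ∈ V, a ^ p = 1 := by
      intro a ha
      have key : a ∈ V ∧ a ^ p = 1 := by
        rw [hV, Subgroup.normalClosure] at ha
        induction ha using Subgroup.closure_induction with
        | mem a ha =>
          refine ⟨Subgroup.subset_closure ha, ?_⟩
          obtain ⟨x, hx, c, hc⟩ := Group.mem_conjugatesOfSet_iff.1 ha
          obtain ⟨r, hr, rfl⟩ := hx
          have h1 : (R.subtype r) ^ p = 1 := by rw [← map_pow, hX.2.1.2 r hr, map_one]
          rw [SemiconjBy] at hc
          have e : a = (c : L) * R.subtype r * (c : L)⁻¹ := by rw [hc, mul_inv_cancel_right]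
          rw [e, conj_pow, h1, mul_one, mul_inv_cancel]
        | one => exact ⟨one_mem _, one_pow _⟩
        | mul a b _ _ iha ihb =>
          exact ⟨mul_mem iha.1 ihb.1, by
            rw [Commute.mul_pow (hVab a iha.1 b ihb.1), iha.2, ihb.2, one_mul]⟩
        | inv a _ iha => exact ⟨inv_mem iha.1, by rw [inv_pow, iha.2, inv_one]⟩
      exact key.2
    refine reduced_iff.2 ⟨Subgroup.normalClosure_normal,
      ⟨⟨⟨fun a b => Subtype.ext (hVab a a.2 b b.2)⟩⟩, hVexp⟩, fun N hN hCN hel => ?_⟩
    haveI := hN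
    have hXV : X₁ ≤ V := Subgroup.subset_normalClosure
    have hNR : N.subgroupOf R ≤ Subgroup.centralizer (X : Set R) := by
      refine reduced_le hX Subgroup.normal_subgroupOf fun x hx hxo => ?_
      rw [← Subgroup.orderOf_coe] at hxo
      have h1 := hel x hx hxo
      refine Subgroup.mem_centralizer_iff.2 fun y hy => Subtype.ext ?_
      exact Subgroup.mem_centralizer_iff.1 h1 y (hXV (Subgroup.mem_map.2 ⟨y, hy, rfl⟩))
    have hNX : N ≤ Subgroup.centralizer (X₁ : Set L) := by
      obtain ⟨P⟩ : Nonempty (Sylow p N) := inferInstance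
      obtain ⟨T', hT'⟩ := (P.2.map N.subtype).exists_le_sylow
      obtain ⟨g, hg⟩ := MulAction.exists_smul_eq L T' T
      -- T ⊓ N is a Sylow subgroup of N
      have hcard : Nat.card ↥(((T : Subgroup L) ⊓ N).subgroupOf N) = Nat.card P := by
        rw [CfsgLib.Solv.card_subgroupOf inf_le_right]
        have h1 : (P : Subgroup N) = (T' : Subgroup L).subgroupOf N :=
          (P.3 T'.2.comap_subtype (fun y hy => hT' (Subgroup.mem_map.2 ⟨y, hy, rfl⟩))).symm
        have h2 : Nat.card P = Nat.card ↥((T' : Subgroup L) ⊓ N) := by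
          rw [h1, ← CfsgLib.Solv.card_subgroupOf (inf_le_right : (T' : Subgroup L) ⊓ N ≤ N),
            Subgroup.inf_subgroupOf_right]
        rw [h2, ← hg, Sylow.coe_subgroup_smul, ← CfsgLib.Solv.card_conj_smul g ((T' : Subgroup L) ⊓ N)]
        have hNg : N.map (MulAut.conj g).toMonoidHom = N := by
          rw [← CfsgLib.Solv.conj_smul_eq_map]
          exact CfsgLib.Solv.conj_smul_eq_self_of_mem_normalizer
            (by rw [Subgroup.normalizer_eq_top]; exact Subgroup.mem_top _)
        rw [CfsgLib.Solv.conj_smul_eq_map, CfsgLib.Solv.conj_smul_eq_map,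
          Subgroup.map_inf _ _ _ (MulAut.conj g).injective, hNg]
      have htop := eq_top_of_sylow_coprime (M := (Subgroup.centralizer (X₁ : Set L)).subgroupOf N)
        (Sylow.ofCard (((T : Subgroup L) ⊓ N).subgroupOf N) (hcard.trans P.card_eq_multiplicity))
        (fun t ht => by
          rw [Sylow.coe_ofCard] at ht
          obtain ⟨htT, htN⟩ := Subgroup.mem_inf.1 (Subgroup.mem_subgroupOf.1 ht)
          rw [Subgroup.mem_subgroupOf, Subgroup.mem_centralizer_iff]
          rintro _ ⟨y, hy, rfl⟩
          exact congrArg Subtype.val (Subgroup.mem_centralizer_iff.1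
            (hNR (show (⟨t, hTR htT⟩ : R) ∈ N.subgroupOf R from htN)) y hy))
        (fun x hxo => Subgroup.centralizer_le hXV (hel x x.2 (by rwa [Subgroup.orderOf_coe])))
      exact Subgroup.subgroupOf_eq_top.1 htop
    rw [Subgroup.le_centralizer_iff]
    refine Subgroup.normalClosure_le_normal (Subgroup.le_centralizer_iff.1 hNX))

end Cfsg.Agent.S2802
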