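import Cfsg.Statements.S5017
import Cfsg.Agent.Inv.RankOne

set_option autoImplicit false
open Cfsg

namespace Cfsg.Agent.S5017

/-- Let X be a rank one group with unipotent subgroups A and B and N a normal subgroup of X. Then either X = N A or N lies in the centre of X. Consequently a perfect rank one group is quasisimple. -/
theorem result {X : Type*} [Group X] {A B : Subgroup X} (h : Cfsg.IsRankOneGroup X A B) :
    (∀ N : Subgroup X, N.Normal → N ⊔ A = ⊤ ∨ N ≤ Subgroup.center X) ∧
    (Group.IsPerfect X → Cfsg.IsQuasisimple X) := by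
  open CfsgLib.Inv.RankOne in
  exact (by
    obtain ⟨htop, h⟩ := h
    have hX : ∀ x : X, x ∈ A ⊔ B := fun x => htop.ge (Subgroup.mem_top x)
    have hmain : ∀ N : Subgroup X, N.Normal → N ⊔ A = ⊤ ∨ N ≤ Subgroup.center X := by
      intro N hN
      haveI := hN
      by_cases hall : ∀ n ∈ N, Cfsg.conjBy A n = A
      · right
        intro n hn
        refine Subgroup.mem_center_iff.2 fun x => (kernel_central h (fun C hC => ?_) x (hX x)).symm
        obtain ⟨g, -, rfl⟩ := hC
        rw [cj_cj, show n * g = g * (g⁻¹ * n * g) by group, ← cj_cj]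
        congr 1
        exact hall _ (by simpa using hN.conj_mem n hn g⁻¹)
      · left
        push Not at hall
        obtain ⟨n, hn, hne⟩ := hall
        obtain ⟨a, ⟨ha, e⟩, -⟩ := regular h (cj_unip (self_mem h) (hX n)) (other_mem h) hne h.ne.symm
        refine eq_top_iff.2 (htop ▸ sup_le le_sup_right ?_)
        rw [← e, cj_cj]
        rintro _ ⟨w, hw, rfl⟩
        have hm : a * n ∈ N ⊔ A := mul_mem (Subgroup.mem_sup_right ha) (Subgroup.mem_sup_left hn)
        exact mul_mem (mul_mem hm (Subgroup.mem_sup_right hw)) (inv_mem hm)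
    refine ⟨hmain, fun hP => ⟨hP, ?_⟩⟩
    haveI := hP
    haveI := h.nilpotent_left
    have hbig : ∀ N : Subgroup X, N.Normal → N = ⊤ ∨ N ≤ Subgroup.center X := by
      intro N hN
      haveI := hN
      refine (hmain N hN).imp (fun hNA => ?_) id
      by_contra hne
      haveI : Nontrivial (X ⧸ N) := QuotientGroup.nontrivial_iff.2 hne
      have hsur : Function.Surjective ((QuotientGroup.mk' N).comp A.subtype) := by
        intro q
        obtain ⟨x, rfl⟩ := QuotientGroup.mk'_surjective N q
        obtain ⟨m, hm, a, ha, e⟩ := Subgroup.mem_sup_of_normal_left.1 (hNA.ge (Subgroup.mem_top x))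
        exact ⟨⟨a, ha⟩, by rw [← e, map_mul, (QuotientGroup.eq_one_iff m).2 hm |> (fun h => (h : QuotientGroup.mk' N m = 1)), one_mul]; rfl⟩
      haveI : Group.IsNilpotent (X ⧸ N) := Group.nilpotent_of_surjective _ hsur
      have hlt := Group.IsSolvable.commutator_lt_top_of_nontrivial (X ⧸ N)
      have htop' : commutator (X ⧸ N) = ⊤ := by
        rw [commutator_def, ← Subgroup.map_top_of_surjective _ (QuotientGroup.mk'_surjective N), ← Subgroup.map_commutator,
          ← commutator_def, hP.commutator_eq_top]
      exact hlt.ne htop'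
    have hZ : Subgroup.center X ≠ ⊤ := by
      intro hZ
      obtain ⟨x, -, e⟩ := other_mem h
      exact h.ne (by rw [e]; exact (cj_of_comm fun a _ => (Subgroup.mem_center_iff.1 (hZ.ge (Subgroup.mem_top x)) a).symm).symm)
    haveI : Nontrivial (X ⧸ Subgroup.center X) := QuotientGroup.nontrivial_iff.2 hZ
    refine ⟨fun H hH => ?_⟩
    rcases hbig (H.comap (QuotientGroup.mk' (Subgroup.center X))) (hH.comap _) with e | e
    · exact Or.inr (Subgroup.comap_injective (QuotientGroup.mk'_surjective _) (e.trans (Subgroup.comap_top _).symm))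
    · refine Or.inl ((Subgroup.eq_bot_iff_forall _).2 fun q hq => ?_)
      obtain ⟨x, rfl⟩ := QuotientGroup.mk'_surjective _ q
      exact (QuotientGroup.eq_one_iff x).2 (e hq))

end Cfsg.Agent.S5017
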