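import Cfsg.Statements.S0721
import Mathlib


set_option autoImplicit false
set_option linter.style.haveILetI false
open Cfsg

namespace Cfsg.Agent.S0721
open scoped Pointwise

variable {H : Type*} [Group H]

theorem adjoin {T : Type*} [Group T] {m : ℕ} {K C : Subgroup H} (hd : Disjoint K C)
    (hc : ∀ k ∈ K, ∀ c ∈ C, k * c = c * k) (eK : K ≃* (Fin m → T)) (eC : C ≃* T) :
    Nonempty (↥(K ⊔ C) ≃* (Fin (m + 1) → T)) := by
  let φ : K × C →* ↥(K ⊔ C) := MonoidHom.noncommCoprod
    (Subgroup.inclusion le_sup_left) (Subgroup.inclusion le_sup_right)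
    (fun k c => Subtype.ext (hc k k.2 c c.2))
  have hφ : Function.Bijective φ := by
    constructor
    · rw [← MonoidHom.ker_eq_bot_iff, eq_bot_iff]
      rintro ⟨k, c⟩ h
      rw [MonoidHom.mem_ker] at h
      have h1 : (k : H) * c = 1 := congrArg Subtype.val h
      have h2 : (k : H) = 1 := Subgroup.mem_bot.1 (hd.le_bot ⟨k.2, eq_inv_of_mul_eq_one_left h1 ▸ C.inv_mem c.2⟩)
      rw [h2, one_mul] at h1
      exact Subgroup.mem_bot.2 (Prod.ext (Subtype.ext h2) (Subtype.ext h1))
    · rintro ⟨x, hx⟩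
      have hn : K ≤ Subgroup.normalizer (C : Set H) := fun k hk =>
        Subgroup.mem_normalizer_iff.2 fun y => ⟨fun hy => by rwa [hc k hk y hy, mul_inv_cancel_right],
          fun hy => by
            have h2 := hc k hk _ hy
            have e : k * y * k⁻¹ = y := by
              calc k * y * k⁻¹ = k⁻¹ * (k * (k * y * k⁻¹)) := by group
                _ = k⁻¹ * (k * y * k⁻¹ * k) := by rw [h2]
                _ = y := by group
            rwa [e] at hy⟩
      have hx' : x ∈ ((K ⊔ C : Subgroup H) : Set H) := hx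
      rw [Subgroup.coe_mul_of_left_le_normalizer_right K C hn] at hx'
      obtain ⟨k, hk, c, hc', rfl⟩ := hx'
      exact ⟨(⟨k, hk⟩, ⟨c, hc'⟩), Subtype.ext rfl⟩
  let cons : (Fin m → T) × T ≃* (Fin (m + 1) → T) :=
    { toEquiv := (Equiv.prodComm _ _).trans (Fin.consEquiv fun _ => T)
      map_mul' := fun x y => by
        funext i
        refine Fin.cases ?_ (fun j => ?_) i <;> simp [Fin.consEquiv] }
  exact ⟨((MulEquiv.ofBijective φ hφ).symm.trans (eK.prodCongr eC)).trans cons⟩

/-- A minimal normal subgroup of a finite group is isomorphic to a direct power `T ^ m` of a simple group `T` (possibly of prime order). -/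
theorem result {H : Type*} [Group H] [Finite H] (N : Subgroup H) [N.Normal] (hN : N ≠ ⊥) (hmin : ∀ M : Subgroup H, M.Normal → M ≤ N → M = ⊥ ∨ M = N) : ∃ (T : Type) (_ : Group T) (m : ℕ), IsSimpleGroup T ∧ 0 < m ∧ Nonempty (N ≃* (Fin m → T)) := by
  classical
  -- a minimal normal subgroup of `N`
  obtain ⟨T, -, ⟨hT1, hTN, hTn⟩, hTmin⟩ := Finite.exists_le_minimal
    (p := fun T : Subgroup H => T ≠ ⊥ ∧ T ≤ N ∧ N ≤ Subgroup.normalizer (T : Set H)) (a := N)
    ⟨hN, le_rfl, Subgroup.le_normalizer⟩
  have hconjN : ∀ g : H, MulAut.conj g • T ≤ N := by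
    intro g x hx
    rw [Subgroup.mem_pointwise_smul_iff_inv_smul_mem, MulAut.smul_def, MulAut.conj_inv_apply] at hx
    have := (inferInstance : N.Normal).conj_mem _ (hTN hx) g
    simpa [mul_assoc] using this
  have hconjn : ∀ g : H, N ≤ Subgroup.normalizer ((MulAut.conj g • T : Subgroup H) : Set H) := by
    intro g n hn
    have hn' : g⁻¹ * n * g ∈ Subgroup.normalizer (T : Set H) :=
      hTn (by simpa using (inferInstance : N.Normal).conj_mem n hn g⁻¹)
    refine Subgroup.mem_normalizer_iff.2 fun y => ?_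
    simp only [SetLike.mem_coe, Subgroup.mem_pointwise_smul_iff_inv_smul_mem, MulAut.smul_def, MulAut.conj_inv_apply]
    rw [Subgroup.mem_normalizer_iff.1 hn' (g⁻¹ * y * g)]
    simp [mul_assoc]
  have hinter : ∀ (K : Subgroup H) (g : H), N ≤ Subgroup.normalizer (K : Set H) →
      MulAut.conj g • T ≤ K ∨ Disjoint K (MulAut.conj g • T) := by
    intro K g hK
    by_cases h : K ⊓ MulAut.conj g • T = ⊥
    · exact Or.inr (disjoint_iff.2 h)
    left
    set S := (MulAut.conj g)⁻¹ • (K ⊓ MulAut.conj g • T) with hS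
    have hST : S ≤ T := by
      rw [hS]
      exact (Subgroup.pointwise_smul_le_pointwise_smul_iff.2 inf_le_right).trans (inv_smul_smul _ T).le
    have hS1 : S ≠ ⊥ := fun e => h (by
      have := congrArg (fun U : Subgroup H => MulAut.conj g • U) e
      simpa [hS] using this)
    have hSn : N ≤ Subgroup.normalizer (S : Set H) := by
      intro n hn
      have hn' : g * n * g⁻¹ ∈ N := (inferInstance : N.Normal).conj_mem n hn g
      have h2 : g * n * g⁻¹ ∈ Subgroup.normalizer ((K ⊓ MulAut.conj g • T : Subgroup H) : Set H) := by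
        refine Subgroup.mem_normalizer_iff.2 fun y => ?_
        have a1 := Subgroup.mem_normalizer_iff.1 (hK hn') y
        have a2 := Subgroup.mem_normalizer_iff.1 (hconjn g hn') y
        simp only [SetLike.mem_coe, Subgroup.mem_inf] at a1 a2 ⊢
        rw [a1, a2]
      refine Subgroup.mem_normalizer_iff.2 fun y => ?_
      simp only [SetLike.mem_coe, hS, Subgroup.mem_inv_pointwise_smul_iff, MulAut.smul_def, MulAut.conj_apply]
      rw [Subgroup.mem_normalizer_iff.1 h2 (g * y * g⁻¹)]
      simp [mul_assoc]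
    have h3 := hTmin ⟨hS1, hST.trans hTN, hSn⟩ hST
    intro x hx
    have h4 : g⁻¹ * x * g ∈ S := h3 (by
      rw [Subgroup.mem_pointwise_smul_iff_inv_smul_mem, MulAut.smul_def, MulAut.conj_inv_apply] at hx
      exact hx)
    rw [hS, Subgroup.mem_inv_pointwise_smul_iff, MulAut.smul_def, MulAut.conj_apply] at h4
    have e : g * (g⁻¹ * x * g) * g⁻¹ = x := by group
    rw [e] at h4
    exact h4.1
  have hcommK : ∀ (K : Subgroup H) (g : H), K ≤ N → N ≤ Subgroup.normalizer (K : Set H) →
      Disjoint K (MulAut.conj g • T) → ∀ k ∈ K, ∀ c ∈ MulAut.conj g • T, k * c = c * k := by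
    intro K g hKN hKn hd k hk c hc
    have h1 : k * c * k⁻¹ * c⁻¹ ∈ K ⊓ MulAut.conj g • T := Subgroup.mem_inf.2
      ⟨by
        have := (Subgroup.mem_normalizer_iff.1 (hKn (hconjN g hc)) k⁻¹).1 (inv_mem hk)
        have e : k * c * k⁻¹ * c⁻¹ = k * (c * k⁻¹ * c⁻¹) := by group
        rw [e]; exact mul_mem hk this,
      mul_mem ((Subgroup.mem_normalizer_iff.1 (hconjn g (hKN hk)) c).1 hc) (inv_mem hc)⟩
    rw [disjoint_iff.1 hd, Subgroup.mem_bot, mul_inv_eq_one, mul_inv_eq_iff_eq_mul] at h1
    exact h1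
  have hcard : ∀ g : H, Nonempty (↥(MulAut.conj g • T) ≃* T) := fun g =>
    ⟨(Subgroup.equivSMul (MulAut.conj g) T).symm⟩
  -- conjugates generate `N`
  have hgen : ∀ K : Subgroup H, K ≤ N → (∀ g : H, MulAut.conj g • T ≤ K) → K = N := by
    intro K hKN hall
    refine le_antisymm hKN ?_
    have h1 : Subgroup.normalClosure (T : Set H) = N := by
      refine (hmin _ Subgroup.normalClosure_normal (Subgroup.normalClosure_le_normal hTN)).resolve_left fun e => hT1 ?_
      exact le_bot_iff.1 (e ▸ Subgroup.le_normalClosure)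
    rw [← h1, Subgroup.normalClosure, Subgroup.closure_le]
    intro y hy
    obtain ⟨x, hx, hc⟩ := Group.mem_conjugatesOfSet_iff.1 hy
    obtain ⟨g, rfl⟩ := isConj_iff.1 hc
    refine hall g ?_
    rw [Subgroup.mem_pointwise_smul_iff_inv_smul_mem, MulAut.smul_def, MulAut.conj_inv_apply]
    simpa [mul_assoc] using hx
  haveI hTsimple : IsSimpleGroup T := by
    haveI : Nontrivial T := (Subgroup.nontrivial_iff_ne_bot T).2 hT1
    refine ⟨fun S hS => ?_⟩
    set Sm := S.map T.subtype
    by_cases hS1 : S = ⊥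
    · exact Or.inl hS1
    right
    have hn : N ≤ Subgroup.normalizer (Sm : Set H) := by
      have e : N ⊓ Subgroup.normalizer (Sm : Set H) = N := by
        refine hgen _ inf_le_left fun g => le_inf (hconjN g) ?_
        rcases hinter T g hTn with h | h
        · intro c hc
          have hcT := h hc
          have key : ∀ c ∈ T, ∀ z ∈ Sm, c * z * c⁻¹ ∈ Sm := by
            rintro c hc _ ⟨z, hz, rfl⟩
            exact ⟨_, hS.conj_mem z hz ⟨c, hc⟩, rfl⟩
          refine Subgroup.mem_normalizer_iff.2 fun z => ⟨key c hcT z, fun hz => ?_⟩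
          have := key c⁻¹ (inv_mem hcT) _ hz
          simpa [mul_assoc] using this
        · intro c hc
          have key := fun z hz => hcommK T g hTN hTn h z hz c hc
          refine Subgroup.mem_normalizer_iff.2 fun z => ⟨fun hz => ?_, fun hz => ?_⟩
          · rwa [← key z (Subgroup.map_subtype_le S hz), mul_inv_cancel_right]
          · have h2 := key _ (Subgroup.map_subtype_le S hz)
            have e : c * z * c⁻¹ = z := by
              calc c * z * c⁻¹ = c⁻¹ * (c * (c * z * c⁻¹)) := by group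
                _ = c⁻¹ * (c * z * c⁻¹ * c) := by rw [h2]
                _ = z := by group
            rwa [e] at hz
      rw [← e]; exact inf_le_right
    have h3 := hTmin ⟨fun e => hS1 ((Subgroup.map_eq_bot_iff_of_injective S T.subtype_injective).1 e),
      (Subgroup.map_subtype_le S).trans hTN, hn⟩ (Subgroup.map_subtype_le S)
    refine eq_top_iff.2 fun t _ => ?_
    obtain ⟨s, hs, he⟩ := h3 t.2
    exact Subtype.ext he ▸ hs
  -- a maximal direct product of conjugates
  let Q : Subgroup H → Prop := fun K => K ≤ N ∧ N ≤ Subgroup.normalizer (K : Set H) ∧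
    ∃ m : ℕ, 0 < m ∧ Nonempty (K ≃* (Fin m → T))
  have hQT : Q T := ⟨hTN, hTn, 1, one_pos, ⟨(MulEquiv.funUnique (Fin 1) T).symm⟩⟩
  obtain ⟨K, -, ⟨hKN, hKn, m, hm, ⟨eK⟩⟩, hKmax⟩ := Finite.exists_le_maximal (p := Q) (a := T) hQT
  have hKall : K = N := by
    refine hgen K hKN fun g => ?_
    rcases hinter K g hKn with h | h
    · exact h
    obtain ⟨eC⟩ := hcard g
    have hQ : Q (K ⊔ MulAut.conj g • T) := ⟨sup_le hKN (hconjN g), fun n hn =>
      Subgroup.mem_normalizer_iff_conj_image_eq.2 (by
        have a1 := Subgroup.mem_normalizer_iff_conj_image_eq.1 (hKn hn)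
        have a2 := Subgroup.mem_normalizer_iff_conj_image_eq.1 (hconjn g hn)
        have b1 : K.map (MulAut.conj n).toMonoidHom = K := SetLike.coe_injective (by simpa using a1)
        have b2 : (MulAut.conj g • T).map (MulAut.conj n).toMonoidHom = MulAut.conj g • T :=
          SetLike.coe_injective (by simpa using a2)
        have := congrArg (fun U : Subgroup H => (U : Set H)) (Subgroup.map_sup K (MulAut.conj g • T) (MulAut.conj n).toMonoidHom)
        rw [b1, b2] at this
        simpa using this),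
      m + 1, Nat.succ_pos m, adjoin h (hcommK K g hKN hKn h) eK eC⟩
    exact le_sup_right.trans (hKmax hQ le_sup_left)
  subst hKall
  haveI : Small.{0} T := ⟨⟨Fin (Nat.card T), ⟨Finite.equivFin T⟩⟩⟩
  let me : Shrink.{0} T ≃* T := Shrink.mulEquiv
  haveI : Nontrivial (Shrink.{0} T) := me.toEquiv.nontrivial
  refine ⟨Shrink.{0} T, inferInstance, m,
    IsSimpleGroup.isSimpleGroup_of_surjective (me.symm : T →* Shrink.{0} T) me.symm.surjective, hm,
    ⟨eK.trans (MulEquiv.arrowCongr (Equiv.refl (Fin m)) me.symm)⟩⟩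

end Cfsg.Agent.S0721
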