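import Cfsg.Statements.S1124
import Cfsg.Agent.Lie.RankOne

set_option autoImplicit false
open scoped Pointwise
open Cfsg CfsgLib.Lie.RankOne

namespace Cfsg.Agent.S1124

/-- Let `t` be an element of order 2 of a finite group normalising a subgroup `X` of odd order, `Y = C_X(t)` and `Z` the set of elements of `X` inverted by `t`. Then `(y, z) ↦ y z` is a bijection `Y × Z → X`, so `|X| = |Y| |Z|`, and the subgroup generated by `Z` is normal in `X`. -/
theorem result {M : Type*} [Group M] [Finite M]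
    (t : M) (ht : orderOf t = 2) (X : Subgroup M) (hodd : Odd (Nat.card X))
    (hnorm : ∀ x ∈ X, t * x * t⁻¹ ∈ X) :
    (∀ x ∈ X, ∃! p : M × M, p.1 ∈ X ⊓ Subgroup.centralizer {t} ∧ p.2 ∈ Cfsg.invertedBy X t ∧ x = p.1 * p.2) ∧
      Nat.card X = Nat.card ↥(X ⊓ Subgroup.centralizer {t}) * Nat.card (Cfsg.invertedBy X t) ∧
      ∀ x ∈ X, MulAut.conj x • Subgroup.closure (Cfsg.invertedBy X t) = Subgroup.closure (Cfsg.invertedBy X t) := by
  have ht2 : t * t = 1 := by rw [← pow_two, ← ht, pow_orderOf_eq_one]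
  have hti : t⁻¹ = t := inv_eq_of_mul_eq_one_right ht2
  have hinv : ∀ {y : M}, y ∈ Cfsg.invertedBy X t → t * y * t = y⁻¹ := fun {y} hy => by
    have := hy.2; rwa [hti] at this
  have hfix : ∀ {c : M}, c ∈ X ⊓ Subgroup.centralizer {t} → t * c * t = c := fun {c} hc => by
    rw [← Subgroup.mem_centralizer_singleton_iff.1 (Subgroup.mem_inf.1 hc).2, mul_assoc, ht2, mul_one]
  have hex : ∀ x ∈ X, ∃! p : M × M, p.1 ∈ X ⊓ Subgroup.centralizer {t} ∧ p.2 ∈ Cfsg.invertedBy X t ∧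
      x = p.1 * p.2 := by
    intro x hx
    have htx : t * x * t ∈ X := by have := hnorm x hx; rwa [hti] at this
    obtain ⟨w, hw⟩ : ∃ w, w = (t * x * t)⁻¹ * x := ⟨_, rfl⟩
    have hwX : w ∈ X := hw ▸ mul_mem (inv_mem htx) hx
    obtain ⟨y, hyz, hy⟩ := pow_half_sq hodd hwX
    have hyX : y ∈ X := Subgroup.zpowers_le.2 hwX hyz
    obtain ⟨i, hi⟩ := Subgroup.mem_zpowers_iff.1 hyz
    have htw : t * w * t⁻¹ = w⁻¹ := by
      rw [hw]
      calc t * ((t * x * t)⁻¹ * x) * t⁻¹ = (t * t⁻¹) * x⁻¹ * (t⁻¹ * x * t⁻¹) := by group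
        _ = x⁻¹ * (t * x * t) := by rw [mul_inv_cancel, one_mul, hti]
        _ = _ := by rw [_root_.mul_inv_rev, inv_inv]
    have hty : t * y * t = y⁻¹ := by
      have : t * y * t⁻¹ = y⁻¹ := by rw [← hi, ← conj_zpow, htw, inv_zpow]
      rwa [hti] at this
    refine ⟨(x * y⁻¹, y), ⟨Subgroup.mem_inf.2 ⟨mul_mem hx (inv_mem hyX),
      Subgroup.mem_centralizer_singleton_iff.2 ?_⟩, ⟨hyX, by rw [hti]; exact hty⟩, by group⟩, ?_⟩
    · have hxy : t * (x * y⁻¹) * t = x * y⁻¹ := by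
        have hty' : t * y⁻¹ * t = y := by
          calc t * y⁻¹ * t = (t⁻¹ * y * t⁻¹)⁻¹ := by group
            _ = y := by rw [hti, hty, inv_inv]
        rw [show t * (x * y⁻¹) * t = t * x * (t * t) * y⁻¹ * t by rw [ht2]; group,
          show t * x * (t * t) * y⁻¹ * t = t * x * t * (t * y⁻¹ * t) by group, hty']
        have hw' : t * x * t = x * w⁻¹ := by rw [hw]; group
        rw [hw', ← hy]; group
      nth_rewrite 1 [← hxy]
      rw [mul_assoc, ht2, mul_one]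
    · rintro ⟨c, y'⟩ ⟨hc, hy', rfl⟩
      have h2 : y' * y' = w := by
        rw [hw, show t * (c * y') * t = t * c * (t * t) * y' * t by rw [ht2]; group,
          show t * c * (t * t) * y' * t = t * c * t * (t * y' * t) by group, hfix hc, hinv hy']
        group
      obtain rfl := sq_inj hodd hy'.1 hyX (h2.trans hy.symm)
      exact Prod.ext (by group) rfl
  refine ⟨hex, ?_, fun x hx => ?_⟩
  · rw [← Nat.card_prod]
    refine (Nat.card_congr (Equiv.ofBijective
      (fun p : ↥(X ⊓ Subgroup.centralizer {t}) × Cfsg.invertedBy X t =>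
        (⟨(p.1 : M) * p.2, mul_mem (Subgroup.mem_inf.1 p.1.2).1 p.2.2.1⟩ : X)) ⟨fun p p' h => ?_, fun x => ?_⟩)).symm
    · obtain ⟨q, -, hu⟩ := hex _ (mul_mem (Subgroup.mem_inf.1 p.1.2).1 p.2.2.1)
      have h1 := hu ((p.1 : M), (p.2 : M)) ⟨p.1.2, p.2.2, rfl⟩
      have h2 := hu ((p'.1 : M), (p'.2 : M)) ⟨p'.1.2, p'.2.2, congrArg Subtype.val h⟩
      have h3 := h1.trans h2.symm
      simp only [Prod.mk.injEq] at h3
      exact Prod.ext (Subtype.ext h3.1) (Subtype.ext h3.2)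
    · obtain ⟨q, ⟨hq1, hq2, hq3⟩, -⟩ := hex x.1 x.2
      exact ⟨(⟨q.1, hq1⟩, ⟨q.2, hq2⟩), Subtype.ext hq3.symm⟩
  · have key : ∀ x ∈ X, ∀ z ∈ Subgroup.closure (Cfsg.invertedBy X t),
        x * z * x⁻¹ ∈ Subgroup.closure (Cfsg.invertedBy X t) := by
      intro x hx z hz
      obtain ⟨⟨c, y⟩, ⟨hc, hy, rfl⟩, -⟩ := hex x hx
      obtain ⟨K, hK⟩ : ∃ K, K = Subgroup.closure (Cfsg.invertedBy X t) := ⟨_, rfl⟩
      rw [← hK] at hz ⊢
      have hle : K ≤ K.comap (MulAut.conj c).toMonoidHom := by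
        rw [hK, Subgroup.closure_le]
        intro w hw
        refine Subgroup.subset_closure ⟨mul_mem (mul_mem (Subgroup.mem_inf.1 hc).1 hw.1) (inv_mem (Subgroup.mem_inf.1 hc).1), ?_⟩
        show t * (c * w * c⁻¹) * t⁻¹ = (c * w * c⁻¹)⁻¹
        have hci : t * c⁻¹ * t = c⁻¹ := by
          calc t * c⁻¹ * t = (t⁻¹ * c * t⁻¹)⁻¹ := by group
            _ = c⁻¹ := by rw [hti, hfix hc]
        rw [hti, show t * (c * w * c⁻¹) * t = t * c * (t * t) * w * (t * t) * c⁻¹ * t by rw [ht2]; group,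
          show t * c * (t * t) * w * (t * t) * c⁻¹ * t = t * c * t * (t * w * t) * (t * c⁻¹ * t) by group,
          hfix hc, hinv hw, hci]
        group
      have hyK : y ∈ K := hK ▸ Subgroup.subset_closure hy
      have h := hle (mul_mem (mul_mem hyK hz) (inv_mem hyK))
      show c * y * z * (c * y)⁻¹ ∈ K
      rw [show c * y * z * (c * y)⁻¹ = c * (y * z * y⁻¹) * c⁻¹ by group]
      exact h
    refine Subgroup.ext fun z => ?_
    rw [Subgroup.mem_pointwise_smul_iff_inv_smul_mem]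
    have e : (MulAut.conj x)⁻¹ • z = x⁻¹ * z * x := by
      rw [← map_inv]; show x⁻¹ * z * x⁻¹⁻¹ = _; rw [inv_inv]
    rw [e]
    refine ⟨fun h => ?_, fun h => by simpa using key x⁻¹ (inv_mem hx) z h⟩
    have := key x hx _ h
    simpa [mul_assoc] using this

end Cfsg.Agent.S1124
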