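import Cfsg.Statements.S0781
import Cfsg.Agent.Lie.SUGen
-- import your own Cfsg.Agent.* helpers here

set_option autoImplicit false
open Cfsg
open scoped commutatorElement

namespace Cfsg.Agent.S0781

section

open Matrix
open CfsgLib.Lie.Herm (form_add_left form_add_right form_smul_left form_smul_right form_comm form_single)

variable {F : Type*} [Field F] [Fintype F] {q n : ℕ}

/-- Eichler element -/
def eich (q : ℕ) (v z : Fin n → F) (e : F) : Matrix (Fin n) (Fin n) F :=
  1 + vecMulVec z (fun j => v j ^ q) + vecMulVec v (fun j => e * v j ^ q - z j ^ q)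

theorem eich_mulVec (v z : Fin n → F) (e : F) (x : Fin n → F) :
    eich q v z e *ᵥ x = x + (hermForm n F q x v) • z + (e * hermForm n F q x v - hermForm n F q x z) • v := by
  rw [eich, add_mulVec, add_mulVec, one_mulVec, vecMulVec_mulVec, vecMulVec_mulVec]
  funext i
  simp only [Pi.add_apply, Pi.smul_apply, MulOpposite.smul_eq_mul_unop, MulOpposite.unop_op, smul_eq_mul, dotProduct,
    hermForm, Finset.mul_sum, Finset.sum_mul, sub_mul, mul_sub, Finset.sum_sub_distrib]
  congr 1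
  · congr 1
    exact Finset.sum_congr rfl fun j _ => by ring
  · congr 1 <;> exact Finset.sum_congr rfl fun j _ => by ring

theorem eich_form (hF : Fintype.card F = q ^ 2) {v z : Fin n → F} (hv : hermForm n F q v v = 0)
    (hz : hermForm n F q z v = 0) {e : F} (he : e + e ^ q + hermForm n F q z z = 0) (x y : Fin n → F) :
    hermForm n F q (eich q v z e *ᵥ x) (eich q v z e *ᵥ y) = hermForm n F q x y := by
  have hz' : hermForm n F q v z = 0 := by
    rw [← form_comm hF, hz, zero_pow (by have := CfsgLib.Lie.Herm.two_le hF; omega)]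
  have hd : ∀ a b : F, (a - b) ^ q = a ^ q - b ^ q := fun a b => map_sub (CfsgLib.Lie.Herm.conj hF) a b
  simp only [eich_mulVec, form_add_left, form_add_right hF, form_smul_left, form_smul_right, hv, hz, hz', mul_zero,
    add_zero, hd, mul_pow]
  rw [← form_comm hF y v, ← form_comm hF y z]
  linear_combination (hermForm n F q x v * hermForm n F q y v ^ q) * he

theorem eich_det [Nonempty (Fin n)] (hF : Fintype.card F = q ^ 2) {v z : Fin n → F} (hv : hermForm n F q v v = 0)
    (hz : hermForm n F q z v = 0) (e : F) : (eich q v z e).det = 1 := by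
  have hz' : hermForm n F q v z = 0 := by
    rw [← form_comm hF, hz, zero_pow (by have := CfsgLib.Lie.Herm.two_le hF; omega)]
  obtain ⟨k, hp, hk⟩ := FiniteField.card F (ringChar F)
  haveI := Fact.mk hp
  obtain ⟨N, hN⟩ : ∃ N, N = eich q v z e - 1 := ⟨_, rfl⟩
  have hNx : ∀ x, N *ᵥ x = (hermForm n F q x v) • z + (e * hermForm n F q x v - hermForm n F q x z) • v := fun x => by
    rw [hN, sub_mulVec, one_mulVec, eich_mulVec]; abel
  have h3 : N ^ 3 = 0 := by
    refine Matrix.ext_of_mulVec_single fun i => ?_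
    rw [pow_succ, pow_two, ← mulVec_mulVec, ← mulVec_mulVec, zero_mulVec, hNx (Pi.single i 1)]
    have hng : ∀ a b : Fin n → F, hermForm n F q (-a) b = -hermForm n F q a b := fun a b => by
      rw [← neg_one_smul F a, form_smul_left, neg_one_mul]
    simp [hNx, mulVec_add, mulVec_smul, form_add_left, form_smul_left, hng, hv, hz, hz']
  have hpow : (eich q v z e) ^ ringChar F ^ 2 = 1 := by
    have h4 : N ^ ringChar F ^ 2 = 0 := pow_eq_zero_of_le (by have := hp.two_le; nlinarith) h3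
    rw [hN, sub_pow_char_pow_of_commute _ _ (Commute.one_right _), one_pow, sub_eq_zero] at h4
    exact h4
  have h5 := congrArg Matrix.det hpow
  rw [det_pow, det_one] at h5
  have h6 : ((eich q v z e).det - 1) ^ ringChar F ^ 2 = 0 := by
    rw [sub_pow_char_pow, h5, one_pow, sub_self]
  exact sub_eq_zero.1 (pow_eq_zero_iff (pow_ne_zero 2 hp.ne_zero) |>.1 h6)

theorem exists_el [Nonempty (Fin n)] (hF : Fintype.card F = q ^ 2) {v z : Fin n → F}
    (hv : hermForm n F q v v = 0) (hz : hermForm n F q z v = 0) {e : F}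
    (he : e + e ^ q + hermForm n F q z z = 0) :
    ∃ B : SU n F q, ((B : Matrix.SpecialLinearGroup (Fin n) F) : Matrix (Fin n) (Fin n) F) = eich q v z e :=
  ⟨⟨⟨eich q v z e, eich_det hF hv hz e⟩, fun x y => eich_form hF hv hz he x y⟩, rfl⟩

end

/-- In SU_n(q) with n ≥ 4, or n = 3 and q > 2, every element whose matrix is a unitary transvection x ↦ x + c h(x, v) v (v isotropic) is a commutator ⁅B, C⁆ of two elements of SU_n(q). -/
theorem result {F : Type*} [Field F] [Fintype F] {q : ℕ} (hF : Fintype.card F = q ^ 2) (n : ℕ) (hn : 4 ≤ n ∨ (n = 3 ∧ 3 ≤ q)) (A : ↥(Cfsg.SU n F q)) (v : Fin n → F) (c : F) (hv0 : Cfsg.hermForm n F q v v = 0) (hA : ((A : Matrix.SpecialLinearGroup (Fin n) F) : Matrix (Fin n) (Fin n) F) = Cfsg.unitaryTransvection n q v c) : A ∈ commutatorSet ↥(Cfsg.SU n F q) := by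
  classical
  have h3 : 3 ≤ n := by omega
  haveI : Nonempty (Fin n) := ⟨⟨0, by omega⟩⟩
  have hq0 : q ≠ 0 := by have := CfsgLib.Lie.Herm.two_le hF; omega
  by_cases hone : v = 0 ∨ c = 0
  · refine ⟨1, 1, ?_⟩
    have hA1 : A = 1 := Subtype.ext (Subtype.ext (hA.trans (by
      rcases hone with rfl | rfl
      · funext i j; simp [Cfsg.unitaryTransvection, Matrix.vecMulVec, hq0]
      · simp [Cfsg.unitaryTransvection])))
    rw [hA1, commutatorElement_one_left]
  push Not at hone
  obtain ⟨hv, hc⟩ := hone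
  obtain ⟨i, hi⟩ : ∃ i, v i ≠ 0 := by
    by_contra h; push Not at h; exact hv (funext h)
  have hAx : ∀ x, ((A : Matrix.SpecialLinearGroup (Fin n) F) : Matrix (Fin n) (Fin n) F).mulVec x =
      x + (c * hermForm n F q x v) • v := fun x => by
    rw [hA, Cfsg.unitaryTransvection, CfsgLib.Lie.SUGen.upd_mulVec]
  have hsingle : ∀ j, hermForm n F q (Pi.single j 1) v = v j ^ q := fun j => by
    rw [← CfsgLib.Lie.Herm.form_comm hF v, CfsgLib.Lie.Herm.form_single hF]
  have hcz : c ^ q + c = 0 := by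
    have h := A.2 (Pi.single i 1) (Pi.single i 1)
    change hermForm n F q (((A : Matrix.SpecialLinearGroup (Fin n) F) : Matrix (Fin n) (Fin n) F).mulVec _)
      (((A : Matrix.SpecialLinearGroup (Fin n) F) : Matrix (Fin n) (Fin n) F).mulVec _) = _ at h
    rw [hAx, CfsgLib.Lie.Herm.form_add_left, CfsgLib.Lie.Herm.form_add_right hF, CfsgLib.Lie.Herm.form_add_right hF,
      CfsgLib.Lie.Herm.form_smul_left, CfsgLib.Lie.Herm.form_smul_left, CfsgLib.Lie.Herm.form_smul_right,
      CfsgLib.Lie.Herm.form_smul_right, hv0, mul_zero, mul_zero, add_zero, hsingle,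
      CfsgLib.Lie.Herm.form_single hF, mul_pow, CfsgLib.Lie.Herm.pow_pow_q hF] at h
    simp only [CfsgLib.Lie.Herm.form_single hF, Pi.single_eq_same] at h
    have h0 : v i * v i ^ q * (c ^ q + c) = 0 := by linear_combination h
    exact (mul_eq_zero.1 h0).resolve_left (mul_ne_zero hi (pow_ne_zero q hi))
  obtain ⟨ω, hω⟩ : ∃ ω : F, ω + ω ^ q ≠ 0 := by
    by_contra h
    push Not at h
    refine CfsgLib.Lie.Herm.conj_ne_id hF (RingHom.ext fun x => ?_)
    have h1 : (1 : F) = -1 := by linear_combination (h 1) - one_pow (M := F) q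
    have h2 := h x
    show x ^ q = x
    have h11 : (1 : F) + 1 = 0 := by linear_combination h1
    linear_combination h2 - x * h11
  obtain ⟨j, k, hji, hki, hjk⟩ : ∃ j k : Fin n, j ≠ i ∧ k ≠ i ∧ j ≠ k := by
    have : 1 < (Finset.univ.erase i).card := by
      rw [Finset.card_erase_of_mem (Finset.mem_univ _), Finset.card_univ, Fintype.card_fin]; omega
    obtain ⟨a, ha, b, hb, hab⟩ := Finset.one_lt_card.1 this
    exact ⟨a, b, (Finset.mem_erase.1 ha).1, (Finset.mem_erase.1 hb).1, hab⟩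
  obtain ⟨z, hz, hN⟩ : ∃ z, hermForm n F q z v = 0 ∧ hermForm n F q z z ≠ 0 := by
    by_cases hk : v k = 0
    · refine ⟨Pi.single k 1, by rw [hsingle, hk, zero_pow hq0], ?_⟩
      rw [CfsgLib.Lie.Herm.form_single hF, Pi.single_eq_same]; exact one_ne_zero
    by_cases hj : v j = 0
    · refine ⟨Pi.single j 1, by rw [hsingle, hj, zero_pow hq0], ?_⟩
      rw [CfsgLib.Lie.Herm.form_single hF, Pi.single_eq_same]; exact one_ne_zero
    obtain ⟨z1, hz1⟩ : ∃ z1 : Fin n → F, z1 = v j ^ q • Pi.single i 1 - v i ^ q • Pi.single j 1 := ⟨_, rfl⟩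
    obtain ⟨z2, hz2⟩ : ∃ z2 : Fin n → F, z2 = v k ^ q • Pi.single i 1 - v i ^ q • Pi.single k 1 := ⟨_, rfl⟩
    have hv1 : hermForm n F q z1 v = 0 := by
      rw [hz1, CfsgLib.Lie.SUGen.form_sub_left, CfsgLib.Lie.Herm.form_smul_left, CfsgLib.Lie.Herm.form_smul_left,
        hsingle, hsingle]; ring
    have hv2 : hermForm n F q z2 v = 0 := by
      rw [hz2, CfsgLib.Lie.SUGen.form_sub_left, CfsgLib.Lie.Herm.form_smul_left, CfsgLib.Lie.Herm.form_smul_left,
        hsingle, hsingle]; ring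
    have h12 : hermForm n F q z1 z2 = v j ^ q * v k := by
      rw [hz2, CfsgLib.Lie.SUGen.form_sub_right hF, CfsgLib.Lie.Herm.form_smul_right,
        CfsgLib.Lie.Herm.form_smul_right, CfsgLib.Lie.Herm.pow_pow_q hF, CfsgLib.Lie.Herm.pow_pow_q hF,
        CfsgLib.Lie.Herm.form_single hF, CfsgLib.Lie.Herm.form_single hF, hz1]
      simp [Pi.single_eq_of_ne hki, Pi.single_eq_of_ne hjk.symm, Pi.single_eq_of_ne hji.symm]
      ring
    by_cases h1 : hermForm n F q z1 z1 = 0
    · by_cases h2 : hermForm n F q z2 z2 = 0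
      · obtain ⟨μ, hμ⟩ : ∃ μ, μ = ω / hermForm n F q z2 z1 := ⟨_, rfl⟩
        have h21 : hermForm n F q z2 z1 ≠ 0 := fun h0 => by
          rw [← CfsgLib.Lie.Herm.form_comm hF, h12] at h0
          exact pow_ne_zero q (mul_ne_zero (pow_ne_zero q hj) hk) h0
        refine ⟨z1 + μ • z2, ?_, ?_⟩
        · rw [CfsgLib.Lie.Herm.form_add_left, CfsgLib.Lie.Herm.form_smul_left, hv1, hv2, mul_zero, add_zero]
        · rw [CfsgLib.Lie.Herm.form_add_left, CfsgLib.Lie.Herm.form_smul_left, CfsgLib.Lie.Herm.form_add_right hF,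
            CfsgLib.Lie.Herm.form_add_right hF, CfsgLib.Lie.Herm.form_smul_right, CfsgLib.Lie.Herm.form_smul_right,
            h1, h2, mul_zero, zero_add, add_zero, ← CfsgLib.Lie.Herm.form_comm hF z2 z1, ← mul_pow,
            hμ, div_mul_cancel₀ _ h21]
          rwa [add_comm] at hω
      · exact ⟨z2, hv2, h2⟩
    · exact ⟨z1, hv1, h1⟩
  obtain ⟨N, hNdef⟩ : ∃ N, N = hermForm n F q z z := ⟨_, rfl⟩
  rw [← hNdef] at hN
  have hNq : N ^ q = N := by rw [hNdef, CfsgLib.Lie.Herm.form_comm hF]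
  obtain ⟨μ₀, hμ₀⟩ : ∃ μ₀ : F, μ₀ ^ q - μ₀ ≠ 0 := by
    by_contra h
    push Not at h
    exact CfsgLib.Lie.Herm.conj_ne_id hF (RingHom.ext fun x => sub_eq_zero.1 (h x))
  have hd : ∀ a b : F, (a - b) ^ q = a ^ q - b ^ q := fun a b => map_sub (CfsgLib.Lie.Herm.conj hF) a b
  obtain ⟨r, hr⟩ : ∃ r, r = c / N / (μ₀ ^ q - μ₀) := ⟨_, rfl⟩
  have hrq : r ^ q = r := by
    rw [hr, div_pow, div_pow, hNq, hd, CfsgLib.Lie.Herm.pow_pow_q hF, show c ^ q = -c by linear_combination hcz,
      show μ₀ - μ₀ ^ q = -(μ₀ ^ q - μ₀) by ring, neg_div, neg_div_neg_eq]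
  obtain ⟨μ, hμ⟩ : ∃ μ, μ = r * μ₀ := ⟨_, rfl⟩
  have hμc : (μ ^ q - μ) * N = c := by
    rw [hμ, mul_pow, hrq, ← mul_sub, hr]
    field_simp
  have htr : ∀ M : F, M ^ q = M → ∃ e : F, e + e ^ q + M = 0 := fun M hM => by
    refine ⟨-M / (ω + ω ^ q) * ω, ?_⟩
    have hfix : (-M / (ω + ω ^ q)) ^ q = -M / (ω + ω ^ q) := by
      rw [div_pow, CfsgLib.Lie.Herm.add_pow_q hF, CfsgLib.Lie.Herm.pow_pow_q hF, add_comm (ω ^ q)]
      congr 1
      have := map_neg (CfsgLib.Lie.Herm.conj hF) M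
      simp only [CfsgLib.Lie.Herm.conj_apply] at this
      rw [this, hM]
    rw [mul_pow, hfix, ← mul_add, div_mul_cancel₀ _ hω, neg_add_cancel]
  have hz' : hermForm n F q (μ • z) v = 0 := by rw [CfsgLib.Lie.Herm.form_smul_left, hz, mul_zero]
  obtain ⟨e, he⟩ := htr _ hNq
  obtain ⟨e', he'⟩ := htr (hermForm n F q (μ • z) (μ • z)) (CfsgLib.Lie.Herm.form_comm hF _ _)
  obtain ⟨B, hB⟩ := exists_el hF hv0 hz (e := e) (by rw [← hNdef]; exact he)
  obtain ⟨C, hC⟩ := exists_el hF hv0 hz' he'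
  have key : B * C = A * (C * B) := by
    refine Subtype.ext (Subtype.ext (Matrix.ext_of_mulVec_single fun l => ?_))
    simp only [Subgroup.coe_mul, Matrix.SpecialLinearGroup.coe_mul, ← Matrix.mulVec_mulVec, hB, hC, hAx,
      eich_mulVec, CfsgLib.Lie.Herm.form_add_left, CfsgLib.Lie.Herm.form_smul_left,
      CfsgLib.Lie.Herm.form_smul_right, hv0, hz, mul_zero, add_zero, ← hNdef]
    have hvz : hermForm n F q v z = 0 := by rw [← CfsgLib.Lie.Herm.form_comm hF, hz, zero_pow hq0]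
    simp only [hvz, mul_zero, add_zero]
    rw [← hμc]
    module
  refine ⟨B, C, ?_⟩
  rw [commutatorElement_def, key]
  group

end Cfsg.Agent.S0781
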