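import Cfsg.Statements.S0989

import Mathlib

set_option autoImplicit false
set_option linter.style.haveILetI false
open Cfsg

namespace Cfsg.Agent.S0989
open scoped Pointwise

/-- In the symmetric group on p or p + 1 letters, p a prime, the normalizer of a Sylow p-subgroup has order p * (p - 1). -/
theorem result {α : Type*} [Fintype α] [DecidableEq α] (p : ℕ) [Fact p.Prime] (hα : Fintype.card α = p ∨ Fintype.card α = p + 1) (P : Sylow p (Equiv.Perm α)) : Nat.card ↥(Subgroup.normalizer ((P : Subgroup (Equiv.Perm α)) : Set (Equiv.Perm α))) = p * (p - 1) := by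
  classical
  have hp : p.Prime := Fact.out
  set P' := (P : Subgroup (Equiv.Perm α)) with hP'
  have hP : Nat.card P' = p := by
    rw [hP', P.card_eq_multiplicity, Nat.card_perm, Nat.card_eq_fintype_card]
    have h1 : (Nat.factorial p).factorization p = 1 := by
      obtain ⟨q, hq⟩ : ∃ q, p = q + 1 := ⟨p - 1, by have := hp.one_le; omega⟩
      conv_lhs => arg 1; arg 1; rw [hq]
      rw [Nat.factorial_succ, ← hq, Nat.factorization_mul hp.ne_zero (Nat.factorial_ne_zero q),
        Finsupp.add_apply, hp.factorization_self, Nat.factorization_eq_zero_of_not_dvd]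
      rw [hp.dvd_factorial]
      omega
    rcases hα with h | h
    · rw [h, h1, pow_one]
    · rw [h, Nat.factorial_succ, Nat.factorization_mul (by omega) (Nat.factorial_ne_zero p),
        Finsupp.add_apply, h1, Nat.factorization_eq_zero_of_not_dvd, zero_add, pow_one]
      intro hd
      have := (Nat.dvd_add_right (dvd_refl p)).mp hd
      exact hp.not_dvd_one this
  haveI : IsCyclic P' := isCyclic_of_prime_card hP
  obtain ⟨g₀, hg₀⟩ := IsCyclic.exists_generator (α := P')
  set σ : Equiv.Perm α := (g₀ : Equiv.Perm α) with hσdef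
  have hord : orderOf σ = p := by
    rw [hσdef, Subgroup.orderOf_coe, orderOf_eq_card_of_forall_mem_zpowers hg₀, hP]
  have hcyc : σ.IsCycle :=
    Equiv.Perm.isCycle_of_prime_order' (by rw [hord]; exact hp) (by
      rw [hord]; have := hp.two_le; rcases hα with h | h <;> omega)
  have hsupp : σ.support.card = p := by rw [← hcyc.orderOf, hord]
  have hzp : P' = Subgroup.zpowers σ := by
    refine le_antisymm (fun x hx => ?_) (Subgroup.zpowers_le.mpr g₀.2)
    obtain ⟨i, hi⟩ := Subgroup.mem_zpowers_iff.mp (hg₀ ⟨x, hx⟩)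
    exact Subgroup.mem_zpowers_iff.mpr ⟨i, congrArg Subtype.val hi⟩
  obtain ⟨a, ha⟩ : ∃ a, a ∈ σ.support := Finset.card_pos.mp (by rw [hsupp]; exact hp.pos)
  set C := Subgroup.centralizer (P' : Set (Equiv.Perm α)) with hC
  have hcent : ∀ c ∈ C, Commute c σ := fun c hc =>
    (Subgroup.mem_centralizer_iff.mp hc σ g₀.2).symm
  have hkey : ∀ c ∈ C, ∀ x, c x ∈ σ.support ↔ x ∈ σ.support := by
    intro c hc x
    rw [Equiv.Perm.mem_support, Equiv.Perm.mem_support]
    have h1 : σ (c x) = c (σ x) := DFunLike.congr_fun (hcent c hc).eq.symm x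
    rw [h1]
    exact c.injective.ne_iff
  have hC' : Nat.card C ≤ p := by
    refine le_of_le_of_eq (Nat.card_le_card_of_injective (β := σ.support)
      (fun c => ⟨(c : Equiv.Perm α) a, (hkey _ c.2 a).mpr ha⟩) ?_)
      ((Nat.card_eq_fintype_card.trans (Fintype.card_coe _)).trans hsupp)
    intro c d hcd
    have hcd' : (c : Equiv.Perm α) a = (d : Equiv.Perm α) a := congrArg Subtype.val hcd
    have hin : ∀ x ∈ σ.support, (c : Equiv.Perm α) x = (d : Equiv.Perm α) x := by
      intro x hx
      obtain ⟨i, rfl⟩ := hcyc.sameCycle (Equiv.Perm.mem_support.mp ha) (Equiv.Perm.mem_support.mp hx)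
      have h1 := DFunLike.congr_fun ((hcent _ c.2).zpow_right i).eq a
      have h2 := DFunLike.congr_fun ((hcent _ d.2).zpow_right i).eq a
      simp only [Equiv.Perm.mul_apply] at h1 h2
      rw [h1, h2, hcd']
    apply Subtype.ext
    apply Equiv.ext
    intro x
    by_cases hx : x ∈ σ.support
    · exact hin x hx
    · have h1 : ∀ e ∈ C, (e : Equiv.Perm α) x ∉ σ.support := fun e he h => hx ((hkey e he x).mp h)
      have h2 : (σ.supportᶜ).card ≤ 1 := by
        rw [Finset.card_compl, hsupp]
        rcases hα with h | h <;> omega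
      exact Finset.card_le_one.mp h2 _ (Finset.mem_compl.mpr (h1 _ c.2)) _
        (Finset.mem_compl.mpr (h1 _ d.2))
  have hPC : P' ≤ C := by
    intro x hx
    rw [hC, Subgroup.mem_centralizer_iff]
    intro y hy
    letI : CommGroup P' := IsCyclic.commGroup
    exact congrArg Subtype.val (mul_comm (⟨y, hy⟩ : P') ⟨x, hx⟩)
  have hCp : Nat.card C = p := le_antisymm hC' (le_of_eq_of_le hP.symm (Subgroup.card_le_of_le hPC))
  set N := Subgroup.normalizer (P' : Set (Equiv.Perm α)) with hN
  have hker : Nat.card (Subgroup.normalizerMonoidHom P').ker = p := by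
    rw [Subgroup.normalizerMonoidHom_ker,
      Nat.card_congr (Subgroup.subgroupOfEquivOfLe (Subgroup.centralizer_le_normalizer _)).toEquiv]
    exact hCp
  have hsurj : Function.Surjective (Subgroup.normalizerMonoidHom P') := by
    intro φ
    have hne : (φ g₀ : Equiv.Perm α) ≠ 1 := by
      intro h
      have h1 : g₀ = 1 := φ.injective (by rw [map_one]; exact Subtype.ext h)
      rw [hσdef, h1, OneMemClass.coe_one, orderOf_one] at hord
      exact hp.one_lt.ne hord
    have hord2 : orderOf (φ g₀ : Equiv.Perm α) = p := by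
      rw [Subgroup.orderOf_coe, MulEquiv.orderOf_eq, ← Subgroup.orderOf_coe, ← hσdef, hord]
    have hcyc2 : (φ g₀ : Equiv.Perm α).IsCycle :=
      Equiv.Perm.isCycle_of_prime_order' (by rw [hord2]; exact hp) (by
        rw [hord2]; have := hp.two_le; rcases hα with h | h <;> omega)
    obtain ⟨u, hu⟩ := isConj_iff.mp (hcyc.isConj hcyc2 (by rw [← hcyc.orderOf, ← hcyc2.orderOf, hord, hord2]))
    have huN : u ∈ N := by
      refine Subgroup.mem_normalizer_fintype (fun x hx => ?_)
      rw [SetLike.mem_coe] at hx ⊢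
      rw [hzp] at hx
      obtain ⟨j, rfl⟩ := Subgroup.mem_zpowers_iff.mp hx
      rw [← conj_zpow, hu]
      exact P'.zpow_mem (φ g₀).2 j
    refine ⟨⟨u, huN⟩, ?_⟩
    apply MulEquiv.ext
    intro y
    obtain ⟨j, rfl⟩ := Subgroup.mem_zpowers_iff.mp (hg₀ y)
    rw [map_zpow, map_zpow]
    congr 1
    exact Subtype.ext hu
  have hrange : Nat.card (Subgroup.normalizerMonoidHom P').range = p - 1 := by
    rw [MonoidHom.range_eq_top.mpr hsurj, Subgroup.card_top, IsCyclic.card_mulAut]
    have h : ∀ m, m = p → Nat.totient m = p - 1 := fun m hm => by rw [hm, Nat.totient_prime hp]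
    exact h _ hP
  have h1 := (Subgroup.normalizerMonoidHom P').ker.card_mul_index
  rw [Subgroup.index_ker, hker, hrange] at h1
  exact h1.symm

end Cfsg.Agent.S0989
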