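import Cfsg.Statements.S0990

import Mathlib

set_option autoImplicit false
set_option linter.style.haveILetI false
open Cfsg

namespace Cfsg.Agent.S0990
open scoped Pointwise

/-- Let p be an odd prime and P a Sylow p-subgroup of the symmetric group on a finite set with at least two elements. Then P is contained in the alternating group, and twice the order of the normalizer of P inside the alternating group equals the order of the normalizer of P in the symmetric group. -/
theorem result {α : Type*} [Fintype α] [DecidableEq α] (hα : 2 ≤ Fintype.card α) (p : ℕ) [Fact p.Prime] (hp : p ≠ 2) (P : Sylow p (Equiv.Perm α)) : (P : Subgroup (Equiv.Perm α)) ≤ alternatingGroup α ∧ 2 * Nat.card ↥(Subgroup.normalizer ((((P : Subgroup (Equiv.Perm α)).subgroupOf (alternatingGroup α) : Subgroup ↥(alternatingGroup α)) : Set ↥(alternatingGroup α)))) = Nat.card ↥(Subgroup.normalizer ((P : Subgroup (Equiv.Perm α)) : Set (Equiv.Perm α))) := by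
  classical
  haveI : Nontrivial α := Fintype.one_lt_card_iff_nontrivial.mp (by omega)
  have hle : (P : Subgroup (Equiv.Perm α)) ≤ alternatingGroup α := by
    intro x hx
    obtain ⟨i, hi⟩ := P.isPGroup' ⟨x, hx⟩
    have h1 : x ^ (p ^ i) = 1 := congrArg Subtype.val hi
    rw [Equiv.Perm.mem_alternatingGroup]
    rcases Int.units_eq_one_or (Equiv.Perm.sign x) with h | h
    · exact h
    · have h2 := congrArg Equiv.Perm.sign h1
      have hodd : Odd (p ^ i) := ((Fact.out : p.Prime).odd_of_ne_two hp).pow
      rw [map_pow, map_one, h, hodd.neg_one_pow] at h2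
      exact absurd h2 (by decide)
  refine ⟨hle, ?_⟩
  set A := alternatingGroup α with hA
  set N := Subgroup.normalizer ((P : Subgroup (Equiv.Perm α)) : Set (Equiv.Perm α)) with hN
  have heq : Subgroup.normalizer ((((P : Subgroup (Equiv.Perm α)).subgroupOf A : Subgroup A)) : Set A)
      = N.subgroupOf A := (Subgroup.subgroupOf_normalizer_eq hle).symm
  rw [heq]
  have hsup : N ⊔ A = ⊤ := by
    have h := Sylow.normalizer_sup_eq_top (P.subtype hle)
    have h9 : ((P.subtype hle : Sylow p A) : Subgroup A).map A.subtype
        = (P : Subgroup (Equiv.Perm α)) := by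
      rw [Sylow.coe_subtype, Subgroup.map_subgroupOf_eq_of_le hle]
    rw [h9] at h
    exact h
  have hcard : Nat.card (A.subgroupOf N) * 2 = Nat.card N := by
    have h1 := (A.subgroupOf N).card_mul_index
    have h2 : (A.subgroupOf N).index = 2 := by
      show A.relIndex N = 2
      rw [← Subgroup.relIndex_sup_left, sup_comm, hsup, Subgroup.relIndex_top_right,
        alternatingGroup.index_eq_two]
    rw [h2] at h1
    exact h1
  rw [← hcard, mul_comm 2]
  congr 1
  refine Nat.card_congr ⟨fun x => ⟨⟨x.1.1, x.2⟩, x.1.2⟩, fun x => ⟨⟨x.1.1, x.2⟩, x.1.2⟩,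
    fun _ => rfl, fun _ => rfl⟩

end Cfsg.Agent.S0990
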