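import Cfsg.Statements.S0991

import Mathlib

set_option autoImplicit false
set_option linter.style.haveILetI false
open Cfsg

namespace Cfsg.Agent.S0991
open scoped Pointwise

/-- Embedding Theorem: if a non-abelian finite simple group has a proper subgroup of index n, then it is isomorphic to a subgroup of the alternating group of degree n. -/
theorem result {G : Type*} [Group G] [Finite G] [IsSimpleGroup G] (hG : ¬ IsMulCommutative G) (H : Subgroup G) (hH : H ≠ ⊤) : ∃ f : G →* ↥(alternatingGroup (Fin H.index)), Function.Injective f := by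
  classical
  haveI : Fintype (G ⧸ H) := Fintype.ofFinite _
  let e : (G ⧸ H) ≃ Fin H.index := Finite.equivFinOfCardEq rfl
  let φ : G →* Equiv.Perm (Fin H.index) :=
    (e.permCongrHom.toMonoidHom).comp (MulAction.toPermHom G (G ⧸ H))
  have hinj : Function.Injective φ := by
    rw [← MonoidHom.ker_eq_bot_iff]
    rcases (MonoidHom.normal_ker φ).eq_bot_or_eq_top with h | h
    · exact h
    · exfalso
      apply hH
      rw [eq_top_iff]
      intro g _
      have h1 : φ g = 1 := MonoidHom.mem_ker.mp (h ▸ Subgroup.mem_top g)
      have h2 : MulAction.toPermHom G (G ⧸ H) g = 1 := by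
        apply e.permCongrHom.injective
        rw [map_one]
        exact h1
      have h3 := DFunLike.congr_fun h2 ((1 : G) : G ⧸ H)
      have h4 : ((g * 1 : G) : G ⧸ H) = ((1 : G) : G ⧸ H) := h3
      rw [QuotientGroup.eq] at h4
      simpa using h4
  have heven : ∀ g, φ g ∈ alternatingGroup (Fin H.index) := by
    rcases (MonoidHom.normal_ker (Equiv.Perm.sign.comp φ)).eq_bot_or_eq_top with h | h
    · exfalso
      apply hG
      refine ⟨⟨fun a b => ?_⟩⟩
      apply (MonoidHom.ker_eq_bot_iff _).mp h
      rw [map_mul, map_mul, mul_comm]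
    · intro g
      rw [Equiv.Perm.mem_alternatingGroup]
      exact MonoidHom.mem_ker.mp (h.symm ▸ Subgroup.mem_top g : g ∈ (Equiv.Perm.sign.comp φ).ker)
  exact ⟨φ.codRestrict _ heven, fun a b h => hinj (congrArg Subtype.val h)⟩

end Cfsg.Agent.S0991
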