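import Cfsg.Statements.S0804
import Cfsg.Agent.Lie.PSL2Five
-- import your own Cfsg.Agent.* helpers here

set_option autoImplicit false
open Cfsg

namespace Cfsg.Agent.S0804

/-- PSL_2(q) has a subgroup isomorphic to A_5 iff 5 ∣ q(q² − 1). -/
theorem result {F : Type*} [Field F] [Fintype F] {q : ℕ} (hF : Fintype.card F = q) : (∃ H : Subgroup (Matrix.ProjectiveSpecialLinearGroup (Fin 2) F), Nonempty (H ≃* alternatingGroup (Fin 5))) ↔ 5 ∣ q * (q ^ 2 - 1) := by
  obtain ⟨p, hp⟩ := CharP.exists F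
  haveI := hp
  haveI : Fact p.Prime := ⟨CharP.char_is_prime F p⟩
  have hpp : p.Prime := Fact.out
  obtain ⟨n, -, hn⟩ := FiniteField.card F p
  have hq1 : 1 < q := hF ▸ Fintype.one_lt_card
  have hsq : q ^ 2 - 1 = (q - 1) * (q + 1) := by
    have := Nat.sq_sub_sq q 1
    rw [one_pow] at this; rw [this, mul_comm]
  have hprod : 5 ∣ q * (q ^ 2 - 1) ↔ 5 ∣ q ∨ 5 ∣ q - 1 ∨ 5 ∣ q + 1 := by
    rw [hsq, Nat.Prime.dvd_mul (by norm_num), Nat.Prime.dvd_mul (by norm_num)]
  rw [hprod]
  constructor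
  · rintro ⟨H, ⟨e⟩⟩
    have ho : orderOf CfsgLib.Lie.PSL2Five.gt = 5 :=
      orderOf_eq_prime (hp := ⟨by norm_num⟩) (by decide) (by decide)
    have hmem : (5 : ℕ) ∈ Set.range (orderOf : Matrix.ProjectiveSpecialLinearGroup (Fin 2) F → ℕ) :=
      ⟨((e.symm ⟨CfsgLib.Lie.PSL2Five.gt, Equiv.Perm.mem_alternatingGroup.2 (by decide)⟩ : H) :
          Matrix.ProjectiveSpecialLinearGroup (Fin 2) F), by
        rw [Subgroup.orderOf_coe, MulEquiv.orderOf_eq, Subgroup.orderOf_mk, ho]⟩
    rw [CfsgLib.PSLTwoSpec.range_orderOf p, hF] at hmem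
    rcases hmem with h | h | h
    · left
      rw [← hF, hn, h]
      exact dvd_pow_self p n.ne_zero
    · exact Or.inr (Or.inl (h.trans (Nat.div_dvd_of_dvd (Nat.gcd_dvd_right 2 (q - 1)))))
    · refine Or.inr (Or.inr (h.trans (Nat.div_dvd_of_dvd ?_)))
      have h3 : Nat.gcd 2 (q - 1) ∣ q - 1 + 2 := dvd_add (Nat.gcd_dvd_right 2 (q - 1)) (Nat.gcd_dvd_left 2 (q - 1))
      rwa [show q - 1 + 2 = q + 1 by omega] at h3
  · intro h
    rcases Nat.mod_two_eq_zero_or_one (Fintype.card F) with he | ho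
    · have h2 : ringChar F = 2 := FiniteField.even_card_iff_char_two.2 he
      have hp2 : p = 2 := (ringChar.eq F p).symm.trans h2
      subst hp2
      rcases Nat.even_or_odd (n : ℕ) with ⟨m, hm⟩ | ⟨m, hm⟩
      · refine CfsgLib.Lie.PSL2Five.exists_alt_five_two h2 (m := m) ?_
        rw [hn, hm, ← two_mul, pow_mul]
        norm_num
      · exfalso
        have h5 : q % 5 = 2 ∨ q % 5 = 3 := by
          have h4 : ∀ j, 4 ^ j % 5 = 1 ∨ 4 ^ j % 5 = 4 := fun j => by
            induction j with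
            | zero => simp
            | succ j ih => rcases ih with ih | ih <;> rw [pow_succ, Nat.mul_mod, ih] <;> norm_num
          rw [← hF, hn, hm, pow_succ, pow_mul, show ((2 : ℕ) ^ 2) = 4 from rfl, Nat.mul_mod]
          rcases h4 m with h' | h' <;> rw [h'] <;> norm_num
        rcases h with h | h | h <;> omega
    · have h2 : ringChar F ≠ 2 := CfsgLib.Fus.PSL2Two.ringChar_ne_two ho
      obtain ⟨g, hg⟩ : ∃ g : Matrix.SpecialLinearGroup (Fin 2) F, orderOf g = 5 := by
        rcases h with h | h | h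
        · have hp5 : p = 5 := by
            rw [← hF, hn] at h
            exact ((Nat.prime_dvd_prime_iff_eq (by norm_num) hpp).1
              ((show Nat.Prime 5 by norm_num).dvd_of_dvd_pow h)).symm
          subst hp5
          refine ⟨CfsgLib.Dickson.up (1 : F), orderOf_eq_prime ?_ fun e => ?_⟩
          · exact CfsgLib.Dickson.pow_eq_one_of_tr 5 (by simp [CfsgLib.Dickson.tr, CfsgLib.Dickson.up, one_add_one_eq_two])
          · simpa [CfsgLib.Dickson.up] using
              congrArg (fun z : Matrix.SpecialLinearGroup (Fin 2) F => (z : Matrix (Fin 2) (Fin 2) F) 0 1) e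
        · obtain ⟨g, hg⟩ := CfsgLib.PSLTwoSpec.exists_order_pred (F := F)
          exact ⟨g ^ (orderOf g / 5), orderOf_pow_orderOf_div (orderOf_pos g).ne' (by rw [hg, hF]; exact h)⟩
        · obtain ⟨g, hg⟩ := CfsgLib.PSLTwoSpec.exists_order_succ (F := F)
          exact ⟨g ^ (orderOf g / 5), orderOf_pow_orderOf_div (orderOf_pos g).ne' (by rw [hg, hF]; exact h)⟩
      obtain ⟨f, hf⟩ := CfsgLib.Lie.PSL2Five.exists_root hg
      exact CfsgLib.Lie.PSL2Five.exists_alt_five ho hf

end Cfsg.Agent.S0804
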