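import Cfsg.Statements.S1457
import Cfsg.Agent.OddLocal.PStable
import Cfsg.Agent.Solv.Basic

set_option autoImplicit false
open Cfsg

namespace Cfsg.Agent.S1457

/-- Let G be a solvable group of odd order, p a prime, S a Sylow p-subgroup of G and A an abelian subgroup of S normal in S. Then A ≤ O_{p',p}(G). -/
theorem result {G : Type*} [Group G] [Finite G] [Group.IsSolvable G] (hodd : Odd (Nat.card G)) (p : ℕ) [Fact p.Prime] (S : Sylow p G) (A : Subgroup G) (hA : A ≤ (S : Subgroup G)) (hAc : IsMulCommutative A)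
    (hAn : (S : Subgroup G) ≤ Subgroup.normalizer (A : Set G)) :
    A ≤ Cfsg.pPrimePCore p G := by
  by_cases hA1 : A = ⊥
  · rw [hA1]; exact bot_le
  have hp : p ≠ 2 := by
    rintro rfl
    obtain ⟨a, ha, ha1⟩ := A.bot_or_exists_ne_one.resolve_left hA1
    obtain ⟨k, hk⟩ := IsPGroup.iff_orderOf.1 (S.isPGroup'.to_le hA) ⟨a, ha⟩
    rw [Subgroup.orderOf_mk] at hk
    rcases Nat.eq_zero_or_pos k with h0 | h0
    · rw [h0, pow_zero, orderOf_eq_one_iff] at hk; exact ha1 hk
    exact Nat.not_even_iff_odd.2 hodd (even_iff_two_dvd.2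
      (((dvd_pow_self 2 h0.ne').trans hk.symm.dvd).trans (orderOf_dvd_natCard a)))
  set K := pPrimeCore p G with hK
  haveI : K.Normal := CfsgLib.Solv.pPrimeCore_normal G p
  set π := QuotientGroup.mk' K
  haveI := CfsgLib.Solv.pCore_normal (G ⧸ K) p
  set Q := pCore p (G ⧸ K)
  have hO : pPrimeCore p (G ⧸ K) = ⊥ := CfsgLib.Solv.pPrimeCore_quotient_self
  have hoddQ : Odd (Nat.card (G ⧸ K)) := hodd.of_dvd_nat (Subgroup.card_quotient_dvd_card K)
  have hQS : Q ≤ Subgroup.normalizer ((A.map π : Subgroup (G ⧸ K)) : Set (G ⧸ K)) :=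
    (CfsgLib.Solv.pCore_le_sylow (S.mapSurjective (QuotientGroup.mk'_surjective K))).trans
      ((Subgroup.map_mono hAn).trans (Subgroup.le_normalizer_map π))
  haveI := hAc
  have hq := CfsgLib.OddLocal.PStable.map_quad_le hoddQ hp Q (A.map π) (CfsgLib.Solv.pCore_isPGroup _ p)
    (CfsgLib.OddLocal.PStable.abelian_quad hQS inferInstance)
  have hC : IsPGroup p (Subgroup.centralizer (Q : Set (G ⧸ K))) :=
    (CfsgLib.Solv.pCore_isPGroup _ p).to_le (CfsgLib.Solv.centralizer_pCore_le hO)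
  exact Subgroup.map_le_iff_le_comap.1 ((Subgroup.map_le_iff_le_comap.1 hq).trans
    (CfsgLib.OddLocal.PStable.comap_pCore_le _ hC))

end Cfsg.Agent.S1457
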