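import Cfsg.Statements.S1396
import Cfsg.Agent.OddLocal.TransHyp

set_option autoImplicit false
open Cfsg

namespace Cfsg.Agent.S1396

/-- Let G be a minimal simple group of odd order, p a prime dividing the order of G and A an abelian p-subgroup. Suppose either (1) A consists exactly of the elements x of C_G(A) with x^p = 1, and every proper subgroup of G has p-length at most one, or (2) A is normal and self-centralizing in some Sylow p-subgroup of G and has rank at least 2. Then A satisfies the transitivity hypothesis. -/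
theorem result {G : Type*} [Group G] [Finite G] (hG : Cfsg.IsMinSimpleOddOrder G)
    (p : ℕ) [Fact p.Prime] (hp : p ∣ Nat.card G) (A : Subgroup G) (hAp : IsPGroup p A) (hAc : IsMulCommutative A)
    (h : (∀ x ∈ Subgroup.centralizer (A : Set G), x ^ p = 1 ↔ x ∈ A) ∧ (∀ H : Subgroup G, H ≠ ⊤ → Cfsg.PLengthLE p 1 H) ∨
      ∃ P : Sylow p G, Cfsg.IsSCN (P : Subgroup G) A ∧ ¬ Cfsg.PRankLE p 1 A) :
    Cfsg.TransitivityHypothesis A := by
  open CfsgLib.OddLocal in
  exact (by
    have hp2 := TransHyp.ne_two hG hp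
    haveI := hAc
    have hA1 : A ≠ ⊥ := by
      rintro rfl
      rcases h with ⟨hC, -⟩ | ⟨P, -, hr⟩
      · obtain ⟨x, hx⟩ := exists_prime_orderOf_dvd_card' p hp
        have h1 := (hC x (Subgroup.mem_centralizer_iff.2 fun a ha => by
          rw [Subgroup.mem_bot.1 ha]; simp)).1 (by rw [← hx]; exact pow_orderOf_eq_one x)
        rw [Subgroup.mem_bot.1 h1, orderOf_one] at hx
        exact (Fact.out : p.Prime).ne_one hx.symm
      · refine hr fun E _ _ => ?_
        have h1 := Subgroup.card_le_card_group E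
        rw [Subgroup.card_bot] at h1
        exact h1.trans (Nat.one_le_pow _ _ (Fact.out : p.Prime).pos)
    have hAT : A ≠ ⊤ := Trans.ne_top_of_solvable hG (CfsgLib.Solv.isSolvable_of_isMulCommutative A)
    obtain ⟨n, hn⟩ := IsPGroup.iff_card.1 hAp
    have hn0 : n ≠ 0 := fun e => hA1 (Subgroup.card_eq_one.1 (by rw [hn, e, pow_zero]))
    have hπ : ∀ r : ℕ, r ∈ primesNotDvd (Nat.card A) ↔ r.Prime ∧ r ≠ p := by
      intro r
      refine ⟨fun h => ⟨h.1, fun e => h.2 (e ▸ hn ▸ dvd_pow_self p hn0)⟩, fun h => ⟨h.1, fun hd => ?_⟩⟩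
      rw [hn] at hd
      exact h.2 ((Nat.prime_dvd_prime_iff_eq h.1 Fact.out).1 (h.1.dvd_of_dvd_pow hd))
    have hcop : ∀ m : ℕ, CfsgLib.Solv.PiNat (primesNotDvd (Nat.card A)) m → m.Coprime p := fun m hm =>
      ((Fact.out : p.Prime).coprime_iff_not_dvd.2 fun hd => ((hπ p).1 (hm p Fact.out hd)).2 rfl).symm
    refine ⟨hA1, hAT, fun X hX hAX => le_antisymm (sSup_le fun Y hY => ?_) (le_sSup ⟨Trans.piCoreOf_le _ _,
      Trans.piNat_piCoreOf _ _, hAX.trans (Subgroup.le_normalizer.trans (Trans.normalizes_piCoreOf _ _))⟩)⟩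
    obtain ⟨hYX, hYπ, hAY⟩ := hY
    have hYp : (Nat.card Y).Coprime p := hcop _ hYπ
    have hle : Y ≤ (pPrimeCore p X).map X.subtype := by
      rcases h with ⟨hC, hpl⟩ | ⟨P, hA, hr⟩
      · exact TransHyp.inv_le_case_a hG hp2 (fun x hx hxp => (hC x hx).1 hxp) hX (hpl X hX) hAX hAp
          hYX hYp hAY
      · exact TransHyp.inv_le_case_b hG hp2 P hA hAc hr hX hAX hYX hYp hAY
    refine hle.trans (Subgroup.map_mono ?_)
    haveI := CfsgLib.Solv.pPrimeCore_normal X p
    refine CfsgLib.Solv.le_piCore fun r hr hd => (hπ r).2 ⟨hr, ?_⟩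
    rintro rfl
    exact CfsgLib.Solv.not_dvd_card_pPrimeCore hd)

end Cfsg.Agent.S1396
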