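import Cfsg.Statements.S1450
import Cfsg.Agent.OddLocal.RankTwoGroup
import Cfsg.Agent.Solv.FittingBasic
import Cfsg.Agent.Fus.CoreBasic
import Cfsg.Agent.Fus.QdReduce

set_option autoImplicit false
open Cfsg

namespace Cfsg.Agent.S1450

theorem hnpc_of_normal {H : Type*} [Group H] [Finite H] {p : ℕ} [hp : Fact p.Prime] (N : Subgroup H)
    [N.Normal] (hN : (Nat.card N).Coprime p) (hQ : IsPGroup p (H ⧸ N)) :
    Cfsg.HasNormalPComplement p H := by
  obtain ⟨P⟩ : Nonempty (Sylow p H) := inferInstance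
  obtain ⟨m, hm⟩ := IsPGroup.iff_card.1 hQ
  have hcard : Nat.card H = p ^ m * Nat.card N := by
    rw [← hm]; exact Subgroup.card_eq_card_quotient_mul_card_subgroup N
  have hP : Nat.card (P : Subgroup H) = p ^ m := by
    rw [P.card_eq_multiplicity, hcard, Nat.factorization_mul (pow_ne_zero _ hp.out.ne_zero)
      Nat.card_pos.ne', hp.out.factorization_pow]
    simp [Nat.factorization_eq_zero_of_not_dvd (hp.out.coprime_iff_not_dvd.1 hN.symm)]
  refine ⟨P, N, inferInstance, Subgroup.isComplement'_of_coprime ?_ ?_⟩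
  · rw [hP, hcard, mul_comm]
  · rw [hP]; exact hN.pow_right m

/-- Let G be a solvable group of odd order, p a prime dividing its order with G having no elementary abelian subgroup of order p ^ 3. Then every prime dividing the index of O_{p'}(G) is at most p; if p = 3 or p is the smallest prime divisor of #G then G has a normal p-complement; the derived subgroup G' has a normal p-complement; every subgroup of G' of order coprime to p lies in O_{p'}(G'); and G/O_{p',p}(G) is abelian of order coprime to p. -/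
theorem result {G : Type*} [Group G] [Finite G] [Group.IsSolvable G] (hodd : Odd (Nat.card G)) (p : ℕ) [Fact p.Prime] (hpG : p ∣ Nat.card G) (hr : Cfsg.PRankLE p 2 G) :
    (∀ q : ℕ, q.Prime → q ∣ (Cfsg.pPrimeCore p G).index → q ≤ p) ∧
      ((p = 3 ∨ ∀ q : ℕ, q.Prime → q ∣ Nat.card G → p ≤ q) → Cfsg.HasNormalPComplement p G) ∧
      Cfsg.HasNormalPComplement p ↥(commutator G) ∧
      (∀ L : Subgroup ↥(commutator G), (Nat.card L).Coprime p → L ≤ Cfsg.pPrimeCore p ↥(commutator G)) ∧
      commutator G ≤ Cfsg.pPrimePCore p G ∧ ((Cfsg.pPrimePCore p G).index).Coprime p := by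
  have hp := (Fact.out : p.Prime)
  have hp2 : p ≠ 2 := by
    rintro rfl
    exact (Nat.not_even_iff_odd.2 hodd) (even_iff_two_dvd.2 hpG)
  haveI : (pPrimeCore p G).Normal := CfsgLib.Fus.normal_pPrimeCore p
  set K := pPrimeCore p G with hK
  have hKc : (Nat.card K).Coprime p := CfsgLib.Fus.coprime_card_pPrimeCore p
  have hrQ : PRankLE p 2 (G ⧸ K) := CfsgLib.Fus.Qd.rankLE_quotient hr K hKc
  have hoddQ : Odd (Nat.card (G ⧸ K)) :=
    hodd.of_dvd_nat (Subgroup.card_quotient_dvd_card K)
  haveI : Group.IsSolvable (G ⧸ K) := inferInstance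
  haveI := CfsgLib.Fus.normal_pCore (G := G ⧸ K) p
  set R := pCore p (G ⧸ K) with hR
  have hRp : IsPGroup p R := CfsgLib.Fus.isPGroup_pCore
  have hrR : PRankLE p 2 R := CfsgLib.OddLocal.restrict_rank hrQ
  have hCR : Subgroup.centralizer (R : Set (G ⧸ K)) ≤ R :=
    CfsgLib.Solv.centralizer_pCore_le (CfsgLib.Fus.pPrimeCore_quotient_eq_bot p)
  have hcomm : commutator (G ⧸ K) ≤ R := by
    refine CfsgLib.Fus.le_pCore inferInstance fun y => ?_
    obtain ⟨n, hn⟩ := CfsgLib.OddLocal.comm_act hp2 hoddQ inferInstance hRp hrR y.2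
    obtain ⟨m, hm⟩ := hRp ⟨(y : G ⧸ K) ^ p ^ n, hCR hn⟩
    refine ⟨n + m, Subtype.ext ?_⟩
    rw [pow_add, pow_mul]
    simpa using congrArg Subtype.val hm
  have hindex : R.index.Coprime p := by
    obtain ⟨P⟩ : Nonempty (Sylow p (G ⧸ K)) := inferInstance
    haveI hPn : (P : Subgroup (G ⧸ K)).Normal :=
      Subgroup.Normal.of_commutator_le _ (hcomm.trans (CfsgLib.Solv.pCore_le_sylow P))
    have e : R = P := le_antisymm (CfsgLib.Solv.pCore_le_sylow P)
      (CfsgLib.Fus.le_pCore hPn P.isPGroup')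
    rw [e]; exact (hp.coprime_iff_not_dvd.2 P.not_dvd_index).symm
  have hprime : ∀ q : ℕ, q.Prime → q ∣ Nat.card (G ⧸ K) → p ≤ q ∨ p = 3 → q = p := by
    intro q hq hqd h
    haveI := Fact.mk hq
    obtain ⟨y, hy⟩ := exists_prime_orderOf_dvd_card' q hqd
    by_contra hne
    have h1 := hCR (CfsgLib.OddLocal.prime_mem hp2 hoddQ hRp hrR hq hne h hy)
    obtain ⟨k, hk⟩ := IsPGroup.iff_card.1 hRp
    have h2 : q ∣ p ^ k := by
      rw [← hk, ← hy, ← Subgroup.orderOf_mk (H := R) y h1]; exact orderOf_dvd_natCard _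
    exact hne ((Nat.prime_dvd_prime_iff_eq hq hp).1 (hq.dvd_of_dvd_pow h2))
  set H := commutator G
  have hNc : (Nat.card (K.subgroupOf H)).Coprime p := by
    refine hKc.coprime_dvd_left ?_
    rw [← Subgroup.inf_subgroupOf_right, Nat.card_congr (Subgroup.subgroupOfEquivOfLe inf_le_right).toEquiv]
    exact Subgroup.card_dvd_of_le inf_le_left
  have hmap : ∀ x ∈ H, QuotientGroup.mk' K x ∈ commutator (G ⧸ K) := fun x hx => by
    have h := Subgroup.map_commutator (⊤ : Subgroup G) ⊤ (QuotientGroup.mk' K)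
    rw [Subgroup.map_top_of_surjective _ (QuotientGroup.mk'_surjective K)] at h
    exact h.le (Subgroup.mem_map_of_mem _ hx)
  have hHp : ∀ x : H, ∃ n, x ^ p ^ n ∈ K.subgroupOf H := fun x => by
    obtain ⟨n, hn⟩ := hRp ⟨_, hcomm (hmap x x.2)⟩
    refine ⟨n, Subgroup.mem_subgroupOf.2 ?_⟩
    rw [Subgroup.coe_pow, ← QuotientGroup.eq_one_iff, QuotientGroup.mk_pow]
    exact congrArg Subtype.val hn
  refine ⟨fun q hq hqd => ?_, fun h => ?_, ?_, fun L hL x hx => ?_, ?_, ?_⟩
  · by_contra hlt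
    have := hprime q hq hqd (Or.inl (by omega))
    omega
  · refine hnpc_of_normal K hKc (IsPGroup.of_card (n := (Nat.card (G ⧸ K)).primeFactorsList.length) ?_)
    refine Nat.eq_prime_pow_of_unique_prime_dvd Nat.card_pos.ne' fun {d} hd hdd => hprime d hd hdd ?_
    rcases h with h | h
    · exact Or.inr h
    · exact Or.inl (h d hd (hdd.trans (Subgroup.card_quotient_dvd_card K)))
  · exact hnpc_of_normal (K.subgroupOf H) hNc fun y => by
      induction y using QuotientGroup.induction_on with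
      | _ x =>
        obtain ⟨n, hn⟩ := hHp x
        exact ⟨n, by rw [← QuotientGroup.mk_pow]; exact (QuotientGroup.eq_one_iff _).2 hn⟩
  · obtain ⟨n, hn⟩ := hHp x
    have hxo : (orderOf x).Coprime p := hL.coprime_dvd_left (by
      rw [← Subgroup.orderOf_mk (H := L) x hx]; exact orderOf_dvd_natCard _)
    obtain ⟨m, hm⟩ := exists_pow_eq_self_of_coprime (hxo.symm.pow_left n)
    refine CfsgLib.Fus.le_pPrimeCore inferInstance hNc ?_
    rw [← hm]; exact pow_mem hn m
  · exact fun x hx => hcomm (hmap x hx)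
  · exact (Subgroup.index_comap_of_surjective _ (QuotientGroup.mk'_surjective K)).symm ▸ hindex

end Cfsg.Agent.S1450
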