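import Cfsg.Statements.S1406
import Cfsg.Agent.OddLocal.Sigma
import Cfsg.Agent.OddLocal.Narrow

set_option autoImplicit false
open Cfsg

namespace Cfsg.Agent.S1406

/-- Let G be a minimal simple group of odd order, M a maximal subgroup, and X a subgroup of M no prime divisor of whose order lies in α(M). If M_α ∩ C_G(X) has an elementary abelian subgroup of order p ^ 2 for some prime p, then C_M(X) is contained in exactly one maximal subgroup of G. -/
theorem result {G : Type*} [Group G] [Finite G] (hG : Cfsg.IsMinSimpleOddOrder G)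
    (M : Subgroup G) (hM : IsCoatom M) (X : Subgroup G) (hXM : X ≤ M) (hXα : ∀ p : ℕ, p.Prime → p ∣ Nat.card X → p ∉ Cfsg.alpha M)
    (hr : ¬ Cfsg.RankLE 1 ↥(Cfsg.alphaCore M ⊓ Subgroup.centralizer (X : Set G))) :
    Cfsg.InUniqueMaximal (M ⊓ Subgroup.centralizer (X : Set G)) := by
  open scoped commutatorElement in
  open CfsgLib.OddLocal CfsgLib.Solv in
  exact (by
    set K := alphaCore M with hK
    simp only [RankLE, PRankLE, not_forall, not_le] at hr
    obtain ⟨p, hp, B, hB, hBp, hBlt⟩ := hr
    haveI := Fact.mk hp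
    have hXK : X ≤ Subgroup.normalizer (K : Set G) :=
      hXM.trans (Subgroup.le_normalizer.trans (Trans.normalizes_piCoreOf _ _))
    set E := B.map (K ⊓ Subgroup.centralizer (X : Set G)).subtype with hE
    have hEK : E ≤ K := (Subgroup.map_subtype_le _).trans inf_le_left
    have hEX : E ≤ Subgroup.centralizer (X : Set G) := (Subgroup.map_subtype_le _).trans inf_le_right
    have hEe : IsElementaryAbelian p E := by
      refine ⟨⟨⟨?_⟩⟩, ?_⟩
      · rintro ⟨_, a, ha, rfl⟩ ⟨_, b, hb, rfl⟩
        exact Subtype.ext (congrArg (fun z : B => ((z : ↥(K ⊓ Subgroup.centralizer (X : Set G))) : G))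
          (hB.is_comm.comm ⟨a, ha⟩ ⟨b, hb⟩))
      · rintro _ ⟨a, ha, rfl⟩
        rw [← map_pow, hBp a ha, map_one]
    obtain ⟨n, hn⟩ := Sig.card_eq_pow hEe
    have hEB : Nat.card E = Nat.card B := card_map_subtype _ B
    rw [← hEB, hn] at hBlt
    have hn2 : 2 ≤ n := (Nat.pow_lt_pow_iff_right hp.one_lt).1 hBlt
    have hpK : p ∣ Nat.card K :=
      ((dvd_pow_self p (by omega)).trans hn.symm.dvd).trans (Subgroup.card_dvd_of_le hEK)
    have hpα : p ∈ alpha M := Trans.piNat_piCoreOf (alpha M) M p hp hpK
    haveI hKs : Group.IsSolvable K :=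
      Trans.solvable_proper hG fun e => hM.1 (top_le_iff.1 (e ▸ Trans.piCoreOf_le _ _))
    have hcop : (Nat.card X).Coprime (Nat.card K) := Nat.coprime_of_dvd fun q hq h1 h2 =>
      hXα q hq h1 (Trans.piNat_piCoreOf (alpha M) M q hq h2)
    have hXE : X ≤ Subgroup.normalizer (E : Set G) :=
      (Subgroup.le_centralizer_iff.1 hEX).trans (Subgroup.centralizer_le_normalizer _)
    obtain ⟨P₀, hEP, hXP⟩ := exists_invariant_sylow_ge (p := p) hXK hcop (Or.inr hKs) hEK
      (Uniq.isPGroup_elementary hEe) hXE
    set P := (P₀ : Subgroup K).map K.subtype with hP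
    have hPp : IsPGroup p P := P₀.isPGroup'.map _
    have hP3 : ¬ PRankLE p 2 P := by
      intro h
      have hKr : PRankLE p 2 K := Uniq.rank_of_sylow P₀ (FitUniq.rank_of_map h)
      refine hpα.2 fun C hC hCp => ?_
      have hCle : C ≤ piCore (alpha M) M := by
        haveI : (piCore (alpha M) M).Normal := by
          haveI := piCore_characteristic (π := alpha M) (G := M); infer_instance
        refine Sigma.le_of_piNat_of_index (π := {p}) (PiNat.of_isPGroup
          (fun x => ⟨1, by rw [pow_one]; exact Subtype.ext (hCp x x.2)⟩) rfl) ?_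
        rintro q hq (rfl : q = p)
        exact Sigma.not_dvd_index_alpha hG hM hq hpα
      have hle : C.map M.subtype ≤ K := Subgroup.map_mono hCle
      have h1 := FitUniq.rank_of_le hle hKr ⊤ (by
        haveI : IsMulCommutative (C.map M.subtype) := ⟨⟨by
          rintro ⟨_, a, ha, rfl⟩ ⟨_, b, hb, rfl⟩
          exact Subtype.ext (congrArg (fun z : C => ((z : M) : G)) (hC.is_comm.comm ⟨a, ha⟩ ⟨b, hb⟩))⟩⟩
        infer_instance) (by
        rintro ⟨_, a, ha, rfl⟩ -
        exact Subtype.ext (show (a : G) ^ p = 1 by rw [← Subgroup.coe_pow, hCp a ha]; rfl))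
      rwa [Subgroup.card_top, card_map_subtype] at h1
    have hMCt : M ⊓ Subgroup.centralizer (X : Set G) ≠ ⊤ :=
      fun e => hM.1 (top_le_iff.1 (e ▸ inf_le_left))
    have hKM : K ≤ M := Trans.piCoreOf_le _ _
    have hPM : P ≤ M := (Subgroup.map_subtype_le _).trans hKM
    by_cases hr3 : PRankLE p 2 (P ⊓ Subgroup.centralizer (E : Set G) : Subgroup G)
    swap
    · exact Sigma.member hG hEe (hn ▸ Nat.pow_le_pow_right hp.pos hn2)
        (fun h => hr3 (FitUniq.rank_of_le inf_le_right h)) (le_inf (hEK.trans hKM) hEX) hMCt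
    set E' := E.subgroupOf P with hE'
    have hE'e : IsElementaryAbelian p E' := ⟨⟨⟨fun a b => Subtype.ext (Subtype.ext
      (congrArg (fun w : E => (w : G)) (hEe.1.is_comm.comm ⟨_, Subgroup.mem_subgroupOf.1 a.2⟩
        ⟨_, Subgroup.mem_subgroupOf.1 b.2⟩)))⟩⟩,
      fun a ha => Subtype.ext (hEe.2 _ (Subgroup.mem_subgroupOf.1 ha))⟩
    have hbound : ∀ B' : Subgroup P, IsElementaryAbelian p B' → E' ≤ B' → Nat.card B' ≤ p ^ 2 := by
      intro B' hB' hle
      have hle' : B'.map P.subtype ≤ P ⊓ Subgroup.centralizer (E : Set G) := by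
        rintro _ ⟨b, hb, rfl⟩
        refine ⟨b.2, Subgroup.mem_centralizer_iff.2 fun e he => ?_⟩
        exact congrArg (fun w : B' => ((w : P) : G)) (hB'.1.is_comm.comm
          ⟨⟨e, hEP he⟩, hle (Subgroup.mem_subgroupOf.2 he)⟩ ⟨b, hb⟩)
      have h1 := FitUniq.rank_of_le hle' hr3 ⊤ (by
        haveI : IsMulCommutative (B'.map P.subtype) := ⟨⟨by
          rintro ⟨_, a, ha, rfl⟩ ⟨_, b, hb, rfl⟩
          exact Subtype.ext (congrArg (fun z : B' => ((z : P) : G))
            (hB'.1.is_comm.comm ⟨a, ha⟩ ⟨b, hb⟩))⟩⟩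
        infer_instance) (by
        rintro ⟨_, a, ha, rfl⟩ -
        exact Subtype.ext (show (a : G) ^ p = 1 by rw [← Subgroup.coe_pow, hB'.2 a ha]; rfl))
      rwa [Subgroup.card_top, card_map_subtype] at h1
    have hE'c : Nat.card E' = p ^ 2 := le_antisymm (hbound E' hE'e le_rfl) (by
      rw [card_subgroupOf hEP, hn]; exact Nat.pow_le_pow_right hp.pos hn2)
    have hmax : ∀ B' : Subgroup P, IsElementaryAbelian p B' → E' ≤ B' → B' = E' := fun B' hB' hle =>
      (Subgroup.eq_of_le_of_card_ge hle ((hbound B' hB' hle).trans hE'c.ge)).symm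
    have hpG : p ∣ Nat.card G := hpK.trans (Subgroup.card_subgroup_dvd_card K)
    obtain ⟨Z, W, hZ, hW, hWc, hZE, -, hWe, hWcard, -, -, hW3⟩ :=
      Narrow.data (TransHyp.ne_two hG hpG) hPp hP3 hE'e hE'c hmax
    set W' := W.map P.subtype with hW'
    have hXW : X ≤ Subgroup.normalizer (W' : Set G) := hXP.trans (UniqSCN.normalizes_char W hWc)
    have hcent : W' ≤ Subgroup.centralizer (X : Set G) := by
      rintro _ ⟨w, hw, rfl⟩
      rw [Subgroup.mem_centralizer_iff]
      intro x hx
      obtain ⟨v, hv, hve⟩ := (Subgroup.mem_normalizer_iff.1 (hXW hx) (w : G)).1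
        (Subgroup.mem_map_of_mem _ hw)
      change (v : G) = x * w * x⁻¹ at hve
      set d : G := (w : G)⁻¹ * v with hd
      have hdP : d ∈ P := P.mul_mem (P.inv_mem w.2) v.2
      have hdE : d ∈ E := by
        refine Subgroup.mem_subgroupOf.1 (show (⟨d, hdP⟩ : P) ∈ E' from ?_)
        refine (hmax _ (SCN3.mem_sup_elementary hE'e ?_ fun e he => ?_) le_sup_left).le
          (Subgroup.mem_sup_right (Subgroup.mem_zpowers _))
        · exact ((hW _).1 (W.mul_mem (W.inv_mem hw) hv)).2
        · refine Subtype.ext ?_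
          have he' : (e : G) ∈ E := Subgroup.mem_subgroupOf.1 he
          have hex : x * e = e * x := Subgroup.mem_centralizer_iff.1 (hEX he') x hx
          have hc : ⁅e, w⁆ ∈ Z := by
            rw [hZ, ← commutatorElement_inv]
            refine ⟨inv_mem ?_, ?_⟩
            · rw [← Subgroup.upperCentralSeries_one P, commutatorElement_def]
              exact (Subgroup.mem_upperCentralSeries_succ_iff.1 ((hW w).1 hw).1) e
            · have hcz : ⁅w, e⁆ ∈ Subgroup.center P := by
                rw [← Subgroup.upperCentralSeries_one P, commutatorElement_def]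
                exact (Subgroup.mem_upperCentralSeries_succ_iff.1 ((hW w).1 hw).1) e
              rw [inv_pow, ← pow_commutator_left
                (show Commute ⁅w, e⁆ w from (Subgroup.mem_center_iff.1 hcz w).symm) p,
                ((hW w).1 hw).2, commutatorElement_one_left, inv_one]
          set c : G := ((⁅e, w⁆ : P) : G) with hcdef
          have hcx : x * c = c * x :=
            Subgroup.mem_centralizer_iff.1 (hEX (Subgroup.mem_subgroupOf.1 (hZE hc))) x hx
          have h1 : (e : G) * w * (e : G)⁻¹ = c * w := by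
            rw [hcdef, commutatorElement_def]
            simp only [Subgroup.coe_mul, Subgroup.coe_inv]
            group
          have h2 : (e : G) * v * (e : G)⁻¹ = c * v := by
            rw [hve]
            calc (e : G) * (x * w * x⁻¹) * (e : G)⁻¹ = (e * x) * w * ((e : G) * x)⁻¹ := by group
              _ = (x * e) * w * ((x : G) * e)⁻¹ := by rw [hex]
              _ = x * ((e : G) * w * (e : G)⁻¹) * x⁻¹ := by group
              _ = (x * c) * w * x⁻¹ := by rw [h1]; group
              _ = (c * x) * w * x⁻¹ := by rw [hcx]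
              _ = _ := by group
          show (e : G) * d = d * e
          have h3 : (e : G) * d * (e : G)⁻¹ = d := by
            rw [hd]
            calc (e : G) * ((w : G)⁻¹ * v) * (e : G)⁻¹
                = ((e : G) * w * (e : G)⁻¹)⁻¹ * ((e : G) * v * (e : G)⁻¹) := by group
              _ = _ := by rw [h1, h2]; group
          calc (e : G) * d = ((e : G) * d * (e : G)⁻¹) * e := by group
            _ = d * e := by rw [h3]
      have hxd : x * d = d * x := Subgroup.mem_centralizer_iff.1 (hEX hdE) x hx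
      have hxv : x * w * x⁻¹ = w * d := by rw [hd, ← hve]; group
      have hpow : ∀ i : ℕ, x ^ i * w * (x ^ i)⁻¹ = w * d ^ i := by
        intro i
        induction i with
        | zero => simp
        | succ i ih =>
          calc x ^ (i + 1) * w * (x ^ (i + 1))⁻¹ = x ^ i * (x * w * x⁻¹) * (x ^ i)⁻¹ := by
                rw [pow_succ]; group
            _ = (x ^ i * w * (x ^ i)⁻¹) * (x ^ i * d * (x ^ i)⁻¹) := by rw [hxv]; group
            _ = w * d ^ (i + 1) := by
                rw [ih, ((show Commute x d from hxd).pow_left i).eq, mul_inv_cancel_right, pow_succ, mul_assoc]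
      have hd1 : d = 1 := by
        have h1 := hpow (orderOf x)
        rw [pow_orderOf_eq_one, one_mul, inv_one, mul_one] at h1
        refine orderOf_eq_one_iff.1 (Nat.eq_one_of_dvd_coprimes (?_ : (orderOf x).Coprime p)
          (orderOf_dvd_of_pow_eq_one ?_) (orderOf_dvd_of_pow_eq_one (hEe.2 d hdE)))
        · refine Nat.Coprime.coprime_dvd_left
            (Subgroup.orderOf_mk (H := X) x hx ▸ orderOf_dvd_natCard _) (hcop.coprime_dvd_right hpK)
        · exact mul_left_cancel (h1.symm.trans (mul_one _).symm)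
      rw [hd1, mul_one] at hxv
      exact mul_inv_eq_iff_eq_mul.1 hxv
    have hW'e : IsElementaryAbelian p W' := by
      refine ⟨⟨⟨?_⟩⟩, ?_⟩
      · rintro ⟨_, a, ha, rfl⟩ ⟨_, b, hb, rfl⟩
        exact Subtype.ext (congrArg (fun z : W => ((z : P) : G)) (hWe.1.is_comm.comm ⟨a, ha⟩ ⟨b, hb⟩))
      · rintro _ ⟨a, ha, rfl⟩
        rw [← map_pow, hWe.2 a ha, map_one]
    refine Sigma.member hG hW'e (by rw [card_map_subtype, hWcard]) (fun h => hW3 ?_)
      (le_inf ((Subgroup.map_subtype_le _).trans hPM) hcent) hMCt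
    refine UniqSCN.rank_of_inj ((P.subtype.comp (Subgroup.centralizer (W : Set P)).subtype).codRestrict
      (Subgroup.centralizer (W' : Set G)) fun z => ?_) ?_ h
    · refine Subgroup.mem_centralizer_iff.2 ?_
      rintro _ ⟨w, hw, rfl⟩
      exact congrArg Subtype.val (Subgroup.mem_centralizer_iff.1 z.2 w hw)
    · intro a b hab
      exact Subtype.ext (Subtype.ext
        (congrArg (fun z : Subgroup.centralizer (W' : Set G) => (z : G)) hab)))

end Cfsg.Agent.S1406
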