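import Cfsg.Statements.S1407
import Cfsg.Agent.S1406

set_option autoImplicit false
open Cfsg

namespace Cfsg.Agent.S1407

/-- Let G be a minimal simple group of odd order, M a maximal subgroup with M_α ≠ 1, p a prime dividing the order of M but not in σ(M), and P a Sylow p-subgroup of M. Then there is an element x of order p in the centre of P such that M_α ∩ C_G(x) has all Sylow subgroups cyclic and M is not the unique maximal subgroup of G containing C_G(x). -/
theorem result {G : Type*} [Group G] [Finite G] (hG : Cfsg.IsMinSimpleOddOrder G)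
    (M : Subgroup G) (hM : IsCoatom M) (hMα : Cfsg.alphaCore M ≠ ⊥) (p : ℕ) [Fact p.Prime] (hpM : p ∣ Nat.card M) (hp : p ∉ Cfsg.sigma M) (P : Sylow p M) :
    ∃ x : G, x ∈ ((Subgroup.center ↥(P : Subgroup M)).map (P : Subgroup M).subtype).map M.subtype ∧ orderOf x = p ∧
        IsZGroup ↥(Cfsg.alphaCore M ⊓ Subgroup.centralizer ({x} : Set G)) ∧
        ¬ (Subgroup.centralizer ({x} : Set G) ≤ M ∧ ∀ L : Subgroup G, IsCoatom L → Subgroup.centralizer ({x} : Set G) ≤ L → L = M) := by
  open CfsgLib.OddLocal CfsgLib.Solv in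
  exact (by
    set S := Sigma.top P
    have hSp : IsPGroup p S := P.isPGroup'.map _
    have hSM : S ≤ M := Subgroup.map_subtype_le _
    have hS1 : S ≠ ⊥ := fun e => P.ne_bot_of_dvd_card hpM
      ((Subgroup.map_eq_bot_iff_of_injective _ M.subtype_injective).1 e)
    by_contra! hcon
    -- every central element of order `p` has its centraliser only in `M`
    have huniq : ∀ x : G,
        x ∈ ((Subgroup.center ↥(P : Subgroup M)).map (P : Subgroup M).subtype).map M.subtype →
        orderOf x = p → Subgroup.centralizer ({x} : Set G) ≤ M ∧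
          ∀ L : Subgroup G, IsCoatom L → Subgroup.centralizer ({x} : Set G) ≤ L → L = M := by
      intro x hx hxp
      by_cases hZ : IsZGroup ↥(alphaCore M ⊓ Subgroup.centralizer ({x} : Set G))
      · exact hcon x hx hxp hZ
      have hxM : x ∈ M := Subgroup.map_subtype_le _ hx
      have hx1 : x ≠ 1 := fun e => (Fact.out : p.Prime).ne_one (by rw [← hxp, e, orderOf_one])
      have hxα : ∀ q : ℕ, q.Prime → q ∣ Nat.card (Subgroup.zpowers x) → q ∉ alpha M := by
        intro q hq hd
        rw [Nat.card_zpowers, hxp] at hd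
        rw [(Nat.prime_dvd_prime_iff_eq hq Fact.out).1 hd]
        exact fun h => hp (Sigma.alpha_subset_sigma hG hM h)
      have hCeq : Subgroup.centralizer ((Subgroup.zpowers x : Subgroup G) : Set G) =
          Subgroup.centralizer ({x} : Set G) := by
        rw [Subgroup.zpowers_eq_closure, Subgroup.centralizer_closure]
      have hr : ¬ RankLE 1 ↥(alphaCore M ⊓ Subgroup.centralizer ({x} : Set G)) := by
        intro h
        refine hZ ⟨fun q hq Q => ?_⟩
        haveI := Fact.mk hq
        by_contra hQ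
        have hq2 : q ≠ 2 := by
          refine TransHyp.ne_two hG (dvd_trans ?_
            (Subgroup.card_subgroup_dvd_card (alphaCore M ⊓ Subgroup.centralizer ({x} : Set G))))
          refine dvd_trans ?_ (Subgroup.card_subgroup_dvd_card
            (Q : Subgroup ↥(alphaCore M ⊓ Subgroup.centralizer ({x} : Set G))))
          obtain ⟨k, hk⟩ := IsPGroup.iff_card.1 Q.isPGroup'
          have hk0 : k ≠ 0 := fun e => hQ (by
            haveI : Subsingleton (Q : Subgroup ↥(alphaCore M ⊓ Subgroup.centralizer ({x} : Set G))) :=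
              (Nat.card_eq_one_iff_unique.1 (by rw [hk, e, pow_zero])).1
            infer_instance)
          rw [hk]; exact dvd_pow_self q hk0
        obtain ⟨E, -, hEe, hE2, -⟩ := Uniq.exists_square hq2 Q.isPGroup' hQ
        have := h q hq E hEe.1 hEe.2
        rw [hE2, pow_one] at this
        exact absurd this (not_le.2 ((pow_one q).symm.trans_lt
          (Nat.pow_lt_pow_right hq.one_lt one_lt_two)))
      have hU := Cfsg.Agent.S1406.result hG M hM (Subgroup.zpowers x) (Subgroup.zpowers_le.2 hxM) hxα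
        (by rwa [hCeq])
      rw [hCeq] at hU
      have hle := Uniq.le_unique hU hM inf_le_left (Trans.centralizer_singleton_ne_top hG hx1) inf_le_right
      refine ⟨hle, fun L hL hCL => ?_⟩
      obtain ⟨M₀, -, hu⟩ := hU
      exact (hu L ⟨hL, inf_le_right.trans hCL⟩).trans (hu M ⟨hM, inf_le_left⟩).symm
    refine hp ⟨Fact.out, hpM, P, fun g hg => ?_⟩
    -- a central element of order `p`
    haveI : Nontrivial (P : Subgroup M) :=
      (Subgroup.nontrivial_iff_ne_bot _).2 (P.ne_bot_of_dvd_card hpM)
    haveI := P.isPGroup'.center_nontrivial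
    obtain ⟨k, hk0, hk⟩ :=
      (P.isPGroup'.to_subgroup (Subgroup.center (P : Subgroup M))).nontrivial_iff_card.1 ‹_›
    obtain ⟨z, hz⟩ := exists_prime_orderOf_dvd_card' p
      (hk.symm ▸ dvd_pow_self p hk0.ne' : p ∣ Nat.card (Subgroup.center (P : Subgroup M)))
    set x : G := (((z : (P : Subgroup M)) : M) : G) with hxdef
    have hxo : orderOf x = p := by
      rw [hxdef, Subgroup.orderOf_coe, Subgroup.orderOf_coe, Subgroup.orderOf_coe, hz]
    have hxS : x ∈ ((Subgroup.center ↥(P : Subgroup M)).map (P : Subgroup M).subtype).map M.subtype :=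
      ⟨_, ⟨_, z.2, rfl⟩, rfl⟩
    obtain ⟨hC, -⟩ := huniq x hxS hxo
    set x' := g * x * g⁻¹
    have hx'S : x' ∈ ((Subgroup.center ↥(P : Subgroup M)).map (P : Subgroup M).subtype).map M.subtype := by
      obtain ⟨m, hm, hme⟩ := (Subgroup.mem_normalizer_iff.1 hg x).1 ⟨_, (z : (P : Subgroup M)).2, rfl⟩
      refine ⟨m, ⟨⟨m, hm⟩, Subgroup.mem_center_iff.2 fun y => ?_, rfl⟩, hme⟩
      obtain ⟨w, hw, hwe⟩ := (Subgroup.mem_normalizer_iff.1 (inv_mem hg) ((y : M) : G)).1
        ⟨_, y.2, rfl⟩
      have hcomm : (w : G) * x = x * w :=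
        congrArg (fun t : (P : Subgroup M) => ((t : M) : G)) (Subgroup.mem_center_iff.1 z.2 ⟨w, hw⟩)
      refine Subtype.ext (Subtype.ext ?_)
      change (((y : M) : G)) * (m : G) = (m : G) * ((y : M) : G)
      have hy : ((y : M) : G) = g * (w : G) * g⁻¹ := by
        change (w : G) = g⁻¹ * ((y : M) : G) * g⁻¹⁻¹ at hwe
        rw [hwe]; group
      change (m : G) = g * x * g⁻¹ at hme
      rw [hy, hme]
      calc g * (w : G) * g⁻¹ * (g * x * g⁻¹) = g * ((w : G) * x) * g⁻¹ := by group
        _ = g * (x * (w : G)) * g⁻¹ := by rw [hcomm]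
        _ = _ := by group
    have hx'o : orderOf x' = p := by
      rw [show x' = MulAut.conj g x from rfl, MulEquiv.orderOf_eq, hxo]
    obtain ⟨-, hu'⟩ := huniq x' hx'S hx'o
    have hMg : M.map (MulAut.conj g).toMonoidHom = M := by
      refine hu' _ (((MulAut.conj g).mapSubgroup.isCoatom_iff M).2 hM) fun c hc =>
        ⟨g⁻¹ * c * g, hC (Subgroup.mem_centralizer_singleton_iff.2 ?_), by simp [mul_assoc]⟩
      have h1 := Subgroup.mem_centralizer_singleton_iff.1 hc
      calc g⁻¹ * c * g * x = g⁻¹ * (c * (g * x * g⁻¹)) * g := by group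
        _ = g⁻¹ * (g * x * g⁻¹ * c) * g := by rw [h1]
        _ = x * (g⁻¹ * c * g) := by group
    have hgN : g ∈ Subgroup.normalizer (M : Set G) := Subgroup.mem_normalizer_iff_map_conj_eq.2 hMg
    rwa [Uniq.normalizer_eq hG hM (Sigma.ne_bot_of_coatom hG hM) hM.1 Subgroup.le_normalizer] at hgN)

end Cfsg.Agent.S1407
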