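import Cfsg.Statements.S1894
import Cfsg.Agent.Perm.MinClass
import Cfsg.Agent.Solv.Basic
-- import your own Cfsg.Agent.* helpers here

set_option autoImplicit false
open Cfsg

namespace Cfsg.Agent.S1894

/-- Let P be a finite p-group, A a normal subgroup of P and B an abelian subgroup of A that is normal in P. Then some subgroup C of A containing B is normal in P and is self-centralizing and normal in A (C ∈ SCN(A)). -/
theorem result {P : Type*} [Group P] [Finite P] {p : ℕ} [Fact p.Prime] (hP : IsPGroup p P)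
    (A : Subgroup P) [A.Normal] (B : Subgroup P) [B.Normal] (hBA : B ≤ A) (hB : IsMulCommutative B) :
    ∃ C : Subgroup P, C.Normal ∧ B ≤ C ∧ Cfsg.IsSCN A C := by
  classical
  obtain ⟨C, hCmax⟩ := (Set.toFinite {C : Subgroup P | C.Normal ∧ B ≤ C ∧ C ≤ A ∧ IsMulCommutative ↥C}).exists_maximal
    ⟨B, inferInstance, le_rfl, hBA, hB⟩
  obtain ⟨hCn, hBC, hCA, hCab⟩ := hCmax.1
  haveI := hCn
  haveI : (Subgroup.centralizer (C : Set P)).Normal := inferInstance
  refine ⟨C, hCn, hBC, hCA, by rw [Subgroup.normalizer_eq_top]; exact le_top, ?_⟩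
  have hCD : C ≤ A ⊓ Subgroup.centralizer (C : Set P) := le_inf hCA (fun x hx => by
    rw [Subgroup.mem_centralizer_iff]
    intro y hy
    exact Subtype.ext_iff.mp (hCab.is_comm.comm ⟨y, hy⟩ ⟨x, hx⟩))
  by_contra hne
  set D := A ⊓ Subgroup.centralizer (C : Set P) with hD
  have hDbar : D.map (QuotientGroup.mk' C) ≠ ⊥ := by
    rw [Ne, Subgroup.map_eq_bot_iff, QuotientGroup.ker_mk']
    exact fun h => hne (le_antisymm h hCD)
  haveI : (D.map (QuotientGroup.mk' C)).Normal :=
    Subgroup.Normal.map inferInstance _ (QuotientGroup.mk'_surjective C)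
  obtain ⟨⟨z, hz⟩, hz1⟩ := Subgroup.ne_bot_iff_exists_ne_one.mp
    (CfsgLib.Perm.inf_center_ne_bot (hP.to_quotient C) _ hDbar)
  obtain ⟨⟨x, hxD, rfl⟩, hzc⟩ := hz
  set C' := C ⊔ Subgroup.zpowers x with hC'
  have hn' : C'.Normal := by
    have : C' = (Subgroup.zpowers (QuotientGroup.mk' C x)).comap (QuotientGroup.mk' C) := by
      rw [← MonoidHom.map_zpowers, Subgroup.comap_map_eq, QuotientGroup.ker_mk', sup_comm]
    rw [this]
    haveI : (Subgroup.zpowers (QuotientGroup.mk' C x)).Normal := ⟨fun a ha g => by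
      obtain ⟨i, rfl⟩ := Subgroup.mem_zpowers_iff.mp ha
      rw [(Subgroup.mem_center_iff.mp (Subgroup.zpow_mem (Subgroup.center (P ⧸ C)) hzc i) g), mul_inv_cancel_right]
      exact zpow_mem (Subgroup.mem_zpowers _) i⟩
    infer_instance
  have hle : C' ≤ D := sup_le hCD (Subgroup.zpowers_le.mpr hxD)
  have hab : IsMulCommutative ↥C' := by
    have hcc : C' ≤ Subgroup.centralizer (C' : Set P) := by
      rw [hC', Subgroup.sup_eq_closure, Subgroup.closure_le]
      rw [Subgroup.centralizer_closure]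
      intro y hy
      rw [SetLike.mem_coe, Subgroup.mem_centralizer_iff]
      rintro w (hw | hw) <;> rcases hy with hy | hy
      · exact Subtype.ext_iff.mp (hCab.is_comm.comm ⟨w, hw⟩ ⟨y, hy⟩)
      · exact Subgroup.mem_centralizer_iff.mp ((Subgroup.zpowers_le.mpr hxD.2) hy) w hw
      · exact (Subgroup.mem_centralizer_iff.mp ((Subgroup.zpowers_le.mpr hxD.2) hw) y hy).symm
      · obtain ⟨i, rfl⟩ := Subgroup.mem_zpowers_iff.mp hw
        obtain ⟨j, rfl⟩ := Subgroup.mem_zpowers_iff.mp hy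
        exact zpow_mul_comm x i j
    exact ⟨⟨fun a b => Subtype.ext (Subgroup.mem_centralizer_iff.mp (hcc b.2) a a.2)⟩⟩
  have := hCmax.2 (show C' ∈ _ from ⟨hn', hBC.trans le_sup_left, hle.trans inf_le_left, hab⟩) le_sup_left
  apply hz1
  apply Subtype.ext
  show QuotientGroup.mk' C x = 1
  rw [QuotientGroup.mk'_apply, QuotientGroup.eq_one_iff]
  exact this (le_sup_right (a := C) (Subgroup.mem_zpowers x))

end Cfsg.Agent.S1894
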