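import Cfsg.Statements.S3737
import Cfsg.Agent.Solv.CoprimeAction
-- import your own Cfsg.Agent.* helpers here

set_option autoImplicit false
open Cfsg

namespace Cfsg.Agent.S3737

variable {G : Type*} [Group G]

/-- The Baer addition on a group of class two in which the exponent `m` halves commutators. -/
structure Baer (G : Type*) [Group G] (m : ℕ) : Type _ where
  val : G

variable {m : ℕ}

theorem Baer.eq_iff {a b : Baer G m} : a = b ↔ a.val = b.val := by
  cases a; cases b; simp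

open scoped commutatorElement in
/-- Bilinearity of commutators in class two. -/
theorem comm_mul_left (hc : ∀ a b z : G, Commute ⁅a, b⁆ z) (a b c : G) :
    ⁅a * b, c⁆ = ⁅a, c⁆ * ⁅b, c⁆ := by
  calc ⁅a * b, c⁆ = a * ⁅b, c⁆ * a⁻¹ * ⁅a, c⁆ := by simp [commutatorElement_def, mul_assoc]
    _ = ⁅b, c⁆ * ⁅a, c⁆ := by rw [← (hc b c a).eq]; group
    _ = ⁅a, c⁆ * ⁅b, c⁆ := (hc b c _).eq

open scoped commutatorElement in
theorem comm_mul_right (hc : ∀ a b z : G, Commute ⁅a, b⁆ z) (a b c : G) :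
    ⁅c, a * b⁆ = ⁅c, a⁆ * ⁅c, b⁆ := by
  calc ⁅c, a * b⁆ = ⁅c, a⁆ * (a * ⁅c, b⁆ * a⁻¹) := by simp [commutatorElement_def, mul_assoc]
    _ = ⁅c, a⁆ * ⁅c, b⁆ := by rw [← (hc c b a).eq]; group

open scoped commutatorElement in
/-- The associated abelian group. -/
@[reducible] def Baer.commMonoid (hc : ∀ a b z : G, Commute ⁅a, b⁆ z)
    (hm : ∀ a b : G, ⁅a, b⁆ ^ (2 * m) = ⁅a, b⁆) : CommMonoid (Baer G m) where
  mul a b := ⟨a.val * b.val * ⁅b.val, a.val⁆ ^ m⟩
  one := ⟨1⟩
  one_mul a := Baer.eq_iff.2 (by show 1 * a.val * ⁅a.val, (1 : G)⁆ ^ m = a.val; simp)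
  mul_one a := Baer.eq_iff.2 (by show a.val * 1 * ⁅(1 : G), a.val⁆ ^ m = a.val; simp)
  mul_comm a b := Baer.eq_iff.2 (by
    show a.val * b.val * ⁅b.val, a.val⁆ ^ m = b.val * a.val * ⁅a.val, b.val⁆ ^ m
    have h1 : a.val * b.val = b.val * a.val * ⁅a.val, b.val⁆ := by
      rw [← (hc a.val b.val (b.val * a.val)).eq]; simp [commutatorElement_def, mul_assoc]
    have h2 : ⁅b.val, a.val⁆ ^ m = ⁅a.val, b.val⁆⁻¹ ^ m := by rw [commutatorElement_inv]
    rw [h1, h2, mul_assoc]
    congr 1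
    rw [inv_pow, mul_inv_eq_iff_eq_mul, ← pow_add, ← two_mul, hm])
  mul_assoc a b c := Baer.eq_iff.2 (by
    show a.val * b.val * ⁅b.val, a.val⁆ ^ m * c.val * ⁅c.val, a.val * b.val * ⁅b.val, a.val⁆ ^ m⁆ ^ m
      = a.val * (b.val * c.val * ⁅c.val, b.val⁆ ^ m) * ⁅b.val * c.val * ⁅c.val, b.val⁆ ^ m, a.val⁆ ^ m
    have hz1 : ∀ x y z : G, ⁅z, ⁅x, y⁆ ^ m⁆ = 1 := fun x y z =>
      commutatorElement_eq_one_iff_mul_comm.2 ((hc x y z).pow_left m).eq.symm
    have hz2 : ∀ x y z : G, ⁅⁅x, y⁆ ^ m, z⁆ = 1 := fun x y z =>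
      commutatorElement_eq_one_iff_mul_comm.2 ((hc x y z).pow_left m).eq
    rw [comm_mul_right hc (a.val * b.val), comm_mul_right hc a.val b.val, hz1, mul_one,
      comm_mul_left hc (b.val * c.val), comm_mul_left hc b.val c.val, hz2, mul_one,
      ((hc c.val a.val _)).mul_pow, ((hc b.val a.val _)).mul_pow]
    have k1 := fun y => ((hc b.val a.val y).pow_left m).eq
    have k3 := fun y => ((hc c.val b.val y).pow_left m).eq
    generalize ⁅b.val, a.val⁆ ^ m = z1 at k1 ⊢
    generalize ⁅c.val, b.val⁆ ^ m = z3 at k3 ⊢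
    generalize ⁅c.val, a.val⁆ ^ m = z2
    simp only [mul_assoc]
    rw [← mul_assoc z1 c.val, k1 c.val, mul_assoc]
    congr 3
    rw [k3 (z1 * z2), mul_assoc])

open scoped commutatorElement in
theorem commute_pow_pow (hc : ∀ a b z : G, Commute ⁅a, b⁆ z) (a b c d : G) (i j : ℕ) :
    Commute (⁅a, b⁆ ^ i) (⁅c, d⁆ ^ j) := (hc a b _).pow_left i |>.pow_right j

end Cfsg.Agent.S3737

namespace Cfsg.Agent.S3737

/-- Thompson's strengthening of the P × Q lemma for odd primes. Let p be an odd prime and let P, Q and G be subgroups of a finite group with P a p-group, Q of order prime to p and normalized by P, and G a p-group normalized by both P and Q. If every element of G centralized by P is centralized by Q, then Q centralizes G. -/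
theorem result {X : Type*} [Group X] [Finite X] {p : ℕ} [Fact p.Prime] (hp : p ≠ 2) (P Q G : Subgroup X) (hP : IsPGroup p P) (hQ : (Nat.card Q).Coprime p) (hPQ : P ≤ Subgroup.normalizer (Q : Set X)) (hG : IsPGroup p G) (hPG : P ≤ Subgroup.normalizer (G : Set X)) (hQG : Q ≤ Subgroup.normalizer (G : Set X)) (hC : G ⊓ Subgroup.centralizer (P : Set X) ≤ Subgroup.centralizer (Q : Set X)) : Q ≤ Subgroup.centralizer (G : Set X) := by
  classical
  open scoped commutatorElement in
  induction G using WellFoundedLT.induction with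
  | _ G ih => ?_
  rcases eq_or_ne G ⊥ with rfl | hne
  · intro x _
    rw [Subgroup.mem_centralizer_iff]
    intro y hy
    rw [show y = 1 from Subgroup.mem_bot.1 hy]; simp
  obtain ⟨e, he⟩ := IsPGroup.iff_card.1 hG
  have hcop : (Nat.card Q).Coprime (Nat.card G) := he ▸ hQ.pow_right e
  haveI : Group.IsNilpotent G := hG.isNilpotent
  have hsolv : Group.IsSolvable G := inferInstance
  have hmapN : ∀ {A B : Subgroup X}, A ≤ Subgroup.normalizer (B : Set X) → ∀ a ∈ A,
      B.map (MulAut.conj a).toMonoidHom ≤ B := by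
    rintro A B hAB a ha _ ⟨b, hb, rfl⟩
    exact (Subgroup.mem_normalizer_iff.1 (hAB ha) b).1 hb
  have hcommN : ∀ {A B C : Subgroup X}, A ≤ Subgroup.normalizer (B : Set X) →
      A ≤ Subgroup.normalizer (C : Set X) → A ≤ Subgroup.normalizer ((⁅B, C⁆ : Subgroup X) : Set X) := by
    intro A B C hB hC
    rw [CfsgLib.Solv.le_normalizer_iff_forall_conj_mem]
    intro a ha x hx
    have : (MulAut.conj a).toMonoidHom x ∈ (⁅B, C⁆).map (MulAut.conj a).toMonoidHom := ⟨x, hx, rfl⟩
    rw [Subgroup.map_commutator] at this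
    exact Subgroup.commutator_mono (hmapN hB a ha) (hmapN hC a ha) this
  have hsub : ∀ U : Subgroup X, U < G → P ≤ Subgroup.normalizer (U : Set X) →
      Q ≤ Subgroup.normalizer (U : Set X) → ⁅U, Q⁆ = ⊥ := fun U hU hPU hQU => by
    rw [Subgroup.commutator_eq_bot_iff_le_centralizer]
    exact Subgroup.le_centralizer_iff.1 (ih U hU (hG.to_le hU.le) hPU hQU
      (le_trans (inf_le_inf_right _ hU.le) hC))
  -- `G = [G, Q]`
  have h5 := CfsgLib.Solv.commutator_commutator_right hQG hcop (Or.inr hsolv)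
  rcases (CfsgLib.Solv.commutator_le_of_le_normalizer hQG).eq_or_lt with hGQ | hlt
  swap
  · have h6 := hsub _ hlt (hcommN hPG hPQ) (hcommN hQG Subgroup.le_normalizer)
    rw [h5] at h6
    exact Subgroup.le_centralizer_iff.1 (Subgroup.commutator_eq_bot_iff_le_centralizer.1 h6)
  exfalso
  -- the derived group is central
  set N := ⁅G, G⁆ with hN
  have hNlt : N < G := by
    refine lt_of_le_of_ne (Subgroup.commutator_le_self G) fun hNe => hne ?_
    obtain ⟨k, hk⟩ := (Group.isSolvable_def G).1 hsolv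
    have hle : ∀ j, G ≤ (derivedSeries G j).map G.subtype := by
      intro j
      induction j with
      | zero => rw [derivedSeries_zero, ← MonoidHom.range_eq_map, Subgroup.range_subtype]
      | succ j ihj =>
        rw [derivedSeries_succ, Subgroup.map_commutator]
        exact hNe.ge.trans (Subgroup.commutator_mono ihj ihj)
    exact le_bot_iff.1 ((hle k).trans (by rw [hk, Subgroup.map_bot]))
  have hNQ : ⁅N, Q⁆ = ⊥ := hsub N hNlt (hcommN hPG hPG) (hcommN hQG hQG)
  have hNfix : ∀ n ∈ N, ∀ q ∈ Q, q * n * q⁻¹ = n := by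
    intro n hn q hq
    rw [mul_inv_eq_iff_eq_mul]
    exact (Subgroup.mem_centralizer_iff.1 (Subgroup.commutator_eq_bot_iff_le_centralizer.1 hNQ hn) q hq)
  have hNG : ⁅N, G⁆ = ⊥ := by
    have h1 : ⁅⁅Q, G⁆, N⁆ = ⊥ := by
      refine Subgroup.commutator_commutator_eq_bot_of_rotate ?_ ?_
      · rw [← le_bot_iff, ← hNQ]
        exact Subgroup.commutator_mono ((Subgroup.commutator_mono le_rfl hNlt.le).trans le_rfl) le_rfl
      · rw [hNQ, Subgroup.commutator_bot_left]
    rw [Subgroup.commutator_comm Q G, hGQ] at h1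
    rwa [Subgroup.commutator_comm] at h1
  have hNcent : ∀ n ∈ N, ∀ g ∈ G, n * g = g * n := fun n hn g hg =>
    (Subgroup.mem_centralizer_iff.1 (Subgroup.commutator_eq_bot_iff_le_centralizer.1 hNG hn) g hg).symm
  have hc : ∀ a b z : G, Commute ⁅a, b⁆ z := fun a b z =>
    Subtype.ext (hNcent _ (Subgroup.commutator_mem_commutator a.2 b.2) z z.2)
  set m := (Nat.card G + 1) / 2 with hm
  have hodd : Nat.card G % 2 = 1 := by
    rw [he, Nat.pow_mod, ((Fact.out : p.Prime).eq_two_or_odd).resolve_left hp]; simp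
  have h2m : ∀ a b : G, ⁅a, b⁆ ^ (2 * m) = ⁅a, b⁆ := fun a b => by
    rw [show 2 * m = Nat.card G + 1 by omega, pow_succ, pow_card_eq_one', one_mul]
  letI := Baer.commMonoid (m := m) hc h2m
  haveI : Fintype Q := Fintype.ofFinite Q
  -- conjugation
  let cj : ∀ x : X, x ∈ Subgroup.normalizer (G : Set X) → G → G := fun x hx a =>
    ⟨x * a * x⁻¹, (Subgroup.mem_normalizer_iff.1 hx a).1 a.2⟩
  have hcjhom : ∀ x hx a b, cj x hx (a * b) = cj x hx a * cj x hx b := fun x hx a b =>
    Subtype.ext (show x * ((a : X) * b) * x⁻¹ = x * a * x⁻¹ * (x * b * x⁻¹) by group)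
  let CJ : ∀ x : X, x ∈ Subgroup.normalizer (G : Set X) → Baer G m →* Baer G m := fun x hx =>
    { toFun := fun a => ⟨cj x hx a.val⟩
      map_one' := Baer.eq_iff.2 (Subtype.ext (show x * 1 * x⁻¹ = 1 by group))
      map_mul' := fun a b => Baer.eq_iff.2 (by
        let h : G →* G := MonoidHom.mk' (cj x hx) (hcjhom x hx)
        show h (a.val * b.val * ⁅b.val, a.val⁆ ^ m) = h a.val * h b.val * ⁅h b.val, h a.val⁆ ^ m
        rw [map_mul, map_mul, map_pow, map_commutatorElement]) }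
  -- the sum over `Q`
  let f : Baer G m → Baer G m := fun a => ∏ q : Q, CJ q (hQG q.2) a
  have hfmul : ∀ a b, f (a * b) = f a * f b := fun a b => by
    simp only [f, map_mul, Finset.prod_mul_distrib]
  have hfconj : ∀ x (hx : x ∈ Subgroup.normalizer (G : Set X)), x ∈ Subgroup.normalizer (Q : Set X) →
      ∀ a, CJ x hx (f a) = f (CJ x hx a) := by
    intro x hx hxQ a
    rw [map_prod]
    refine Fintype.prod_equiv (Subgroup.normalizerMonoidHom Q ⟨x, hxQ⟩).toEquiv _ _ fun q => ?_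
    refine Baer.eq_iff.2 (Subtype.ext ?_)
    show x * ((q : X) * a.val * (q : X)⁻¹) * x⁻¹
      = x * q * x⁻¹ * (x * a.val * x⁻¹) * (x * q * x⁻¹)⁻¹
    group
  have hfQ : ∀ q (hq : q ∈ Q) a, f (CJ q (hQG hq) a) = f a := by
    intro q hq a
    refine Fintype.prod_equiv (Equiv.mulRight (⟨q, hq⟩ : Q)) _ _ fun q' => ?_
    refine Baer.eq_iff.2 (Subtype.ext ?_)
    show (q' : X) * (q * a.val * q⁻¹) * (q' : X)⁻¹ = q' * q * a.val * ((q' : X) * q)⁻¹
    group
  have hval : ∀ a b : Baer G m, (a * b).val = a.val * b.val * ⁅b.val, a.val⁆ ^ m := fun a b => rfl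
  have hpow : ∀ (a : Baer G m) (k : ℕ), (a ^ k).val = a.val ^ k := by
    intro a k
    induction k with
    | zero => rw [pow_zero, pow_zero]; rfl
    | succ k ihk =>
      rw [pow_succ, hval, ihk, commutatorElement_eq_one_iff_mul_comm.2 (Commute.self_pow a.val k).eq,
        one_pow, mul_one, pow_succ]
  have hprodN : ∀ (a b : Baer G m), ((a * b).val : X) ∈ N → (b.val : X) ∈ N → (a.val : X) ∈ N := by
    intro a b hab hb
    rw [hval] at hab
    have h1 : ((⁅b.val, a.val⁆ ^ m : G) : X) ∈ N := by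
      rw [Subgroup.coe_pow]; exact pow_mem (Subgroup.commutator_mem_commutator b.val.2 a.val.2) m
    simpa using mul_mem (mul_mem hab (inv_mem h1)) (inv_mem hb)
  have hfixN : ∀ a : Baer G m, (a.val : X) ∈ N → f a = a ^ Nat.card Q := by
    intro a ha
    rw [show f a = ∏ _q : Q, a from Finset.prod_congr rfl fun q _ =>
      Baer.eq_iff.2 (Subtype.ext (hNfix _ ha q q.2)), Finset.prod_const, Finset.card_univ,
      Nat.card_eq_fintype_card]
  -- the sum lands in the derived group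
  let T : Subgroup G :=
    { carrier := {g | ((f ⟨g⟩).val : X) ∈ N}
      one_mem' := by
        show ((f (1 : Baer G m)).val : X) ∈ N
        rw [show f 1 = 1 from Finset.prod_eq_one fun q _ => map_one _]
        exact one_mem _
      mul_mem' := fun {a b} (ha : ((f ⟨a⟩).val : X) ∈ N) (hb : ((f ⟨b⟩).val : X) ∈ N) => by
        show ((f ⟨a * b⟩).val : X) ∈ N
        have e : (⟨a⟩ : Baer G m) * ⟨b⟩ = ⟨a * b⟩ * ⟨⁅b, a⁆ ^ m⟩ := Baer.eq_iff.2 (by
          rw [hval, hval]
          show _ = a * b * ⁅b, a⁆ ^ m * ⁅⁅b, a⁆ ^ m, a * b⁆ ^ m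
          rw [commutatorElement_eq_one_iff_mul_comm.2 ((hc b a _).pow_left m).eq, one_pow, mul_one])
        have h1 : ((f ⟨⁅b, a⁆ ^ m⟩).val : X) ∈ N := by
          rw [hfixN _ (by rw [Subgroup.coe_pow]; exact pow_mem (Subgroup.commutator_mem_commutator b.2 a.2) m),
            hpow, Subgroup.coe_pow, Subgroup.coe_pow]
          exact pow_mem (pow_mem (Subgroup.commutator_mem_commutator b.2 a.2) m) _
        refine hprodN _ _ ?_ h1
        rw [← hfmul, ← e, hfmul, hval, Subgroup.coe_mul, Subgroup.coe_mul, Subgroup.coe_pow]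
        exact mul_mem (mul_mem ha hb) (pow_mem (Subgroup.commutator_mem_commutator
          (f (⟨b⟩ : Baer G m)).val.2 (f (⟨a⟩ : Baer G m)).val.2) m)
      inv_mem' := fun {a} (ha : ((f ⟨a⟩).val : X) ∈ N) => by
        show ((f ⟨a⁻¹⟩).val : X) ∈ N
        refine hprodN (f ⟨a⁻¹⟩) (f ⟨a⟩) ?_ ha
        rw [← hfmul, show (⟨a⁻¹⟩ : Baer G m) * ⟨a⟩ = 1 from Baer.eq_iff.2 (by
          rw [hval]
          show a⁻¹ * a * ⁅a, a⁻¹⁆ ^ m = 1
          rw [commutatorElement_eq_one_iff_mul_comm.2 (Commute.inv_right (Commute.refl a)).eq, one_pow,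
            inv_mul_cancel, one_mul]),
          show f 1 = 1 from Finset.prod_eq_one fun q _ => map_one _]
        exact one_mem _ }
  have hGT : G ≤ T.map G.subtype := by
    conv_lhs => rw [← hGQ]
    rw [Subgroup.commutator_le]
    intro a ha q hq
    refine ⟨⟨a, ha⟩ * cj q (hQG hq) ⟨a⁻¹, inv_mem ha⟩, ?_, ?_⟩
    · show ((f ⟨(⟨a, ha⟩ : G) * cj q (hQG hq) ⟨a⁻¹, inv_mem ha⟩⟩).val : X) ∈ N
      set u : G := ⟨a, ha⟩
      set w : G := cj q (hQG hq) ⟨a⁻¹, inv_mem ha⟩
      have e : (⟨u⟩ : Baer G m) * ⟨w⟩ = ⟨u * w⟩ * ⟨⁅w, u⁆ ^ m⟩ := Baer.eq_iff.2 (by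
        rw [hval, hval]
        show _ = u * w * ⁅w, u⁆ ^ m * ⁅⁅w, u⁆ ^ m, u * w⁆ ^ m
        rw [commutatorElement_eq_one_iff_mul_comm.2 ((hc w u _).pow_left m).eq, one_pow, mul_one])
      have h0 : f (⟨u⟩ : Baer G m) * f ⟨w⟩ = 1 := by
        rw [show (⟨w⟩ : Baer G m) = CJ q (hQG hq) ⟨u⁻¹⟩ from rfl, hfQ q hq, ← hfmul,
          show (⟨u⟩ : Baer G m) * ⟨u⁻¹⟩ = 1 from Baer.eq_iff.2 (by
            rw [hval]
            show u * u⁻¹ * ⁅u⁻¹, u⁆ ^ m = 1
            rw [commutatorElement_eq_one_iff_mul_comm.2 (Commute.inv_left (Commute.refl u)).eq, one_pow,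
              mul_inv_cancel, one_mul])]
        exact Finset.prod_eq_one fun q _ => map_one _
      have h1 : ((f ⟨⁅w, u⁆ ^ m⟩).val : X) ∈ N := by
        rw [hfixN _ (by rw [Subgroup.coe_pow]; exact pow_mem (Subgroup.commutator_mem_commutator w.2 u.2) m),
          hpow, Subgroup.coe_pow, Subgroup.coe_pow]
        exact pow_mem (pow_mem (Subgroup.commutator_mem_commutator w.2 u.2) m) _
      refine hprodN _ _ ?_ h1
      rw [← hfmul, ← e, hfmul, h0]
      exact one_mem _
    · show a * (q * a⁻¹ * q⁻¹) = ⁅a, q⁆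
      rw [commutatorElement_def]; group
  have hfN : ∀ g : G, ((f ⟨g⟩).val : X) ∈ N := fun g => by
    obtain ⟨y, hy, hye⟩ := hGT g.2
    rw [← Subtype.ext hye]; exact hy
  -- a coset fixed by `P`
  let L : ℕ → Subgroup X := fun i => (fun U => ⁅U, P⁆)^[i] G
  have hLG : ∀ i, L i ≤ G ∧ P ≤ Subgroup.normalizer (L i : Set X) := by
    intro i
    induction i with
    | zero => exact ⟨le_rfl, hPG⟩
    | succ i ihi =>
      show (fun U => ⁅U, P⁆)^[i + 1] G ≤ G ∧ _
      simp only [L, Function.iterate_succ_apply']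
      exact ⟨(CfsgLib.Solv.commutator_le_of_le_normalizer ihi.2).trans ihi.1,
        CfsgLib.Solv.right_le_normalizer_commutator _ P⟩
  have hLbot : ∃ i, L i ≤ N := by
    have hW : IsPGroup p (P ⊔ G : Subgroup X) := hP.to_sup_of_normal_right' hG hPG
    obtain ⟨k, hk⟩ := (Subgroup.isNilpotent_iff_lowerCentralSeries (S := P ⊔ G)).1 hW.isNilpotent
    refine ⟨k, le_trans (le_trans ?_ hk.le) bot_le⟩
    clear hk
    induction k with
    | zero => exact le_sup_right
    | succ k ihk =>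
      simp only [L, Function.iterate_succ_apply', Subgroup.lowerCentralSeries_succ]
      exact Subgroup.commutator_mono ihk le_sup_left
  obtain ⟨i, hi, hmin⟩ : ∃ i, L (i + 1) ≤ N ∧ ¬ L i ≤ N := by
    have h0 : ¬ L 0 ≤ N := fun h => hNlt.not_ge h
    refine ⟨Nat.find hLbot - 1, ?_, Nat.find_min hLbot ?_⟩
    · have : Nat.find hLbot - 1 + 1 = Nat.find hLbot :=
        Nat.sub_add_cancel (Nat.pos_of_ne_zero fun h => h0 (h ▸ Nat.find_spec hLbot))
      rw [this]; exact Nat.find_spec hLbot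
    · have : 0 < Nat.find hLbot := Nat.pos_of_ne_zero fun h => h0 (h ▸ Nat.find_spec hLbot)
      omega
  obtain ⟨u, huL, huN⟩ := SetLike.not_le_iff_exists.1 hmin
  have huG : u ∈ G := (hLG i).1 huL
  set A : Baer G m := ⟨⟨u, huG⟩⟩ with hA
  -- the element with trivial sum fixed by `P`
  haveI : Finite (Baer G m) := Finite.of_injective (fun a => a.val) fun a b h => Baer.eq_iff.2 h
  obtain ⟨k, hk⟩ : ∃ k, k = Nat.card G - 1 := ⟨_, rfl⟩
  set B := A ^ Nat.card Q * (f A) ^ k with hB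
  have hBP : (B.val : X) ∈ Subgroup.centralizer (P : Set X) := by
    rw [Subgroup.mem_centralizer_iff]
    intro x hx
    have hn : x * u * x⁻¹ * u⁻¹ ∈ N := hi (by
      simp only [L, Function.iterate_succ_apply']
      have := Subgroup.commutator_mem_commutator huL hx
      rw [← commutatorElement_inv] at this
      have := inv_mem this
      rwa [inv_inv, commutatorElement_def] at this)
    set n : Baer G m := ⟨⟨x * u * x⁻¹ * u⁻¹, hNlt.le hn⟩⟩
    have hxA : CJ x (hPG hx) A = n * A := Baer.eq_iff.2 (by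
      rw [hval]
      have h1 : ⁅A.val, n.val⁆ = 1 := commutatorElement_eq_one_iff_mul_comm.2
        (Subtype.ext (hNcent _ hn _ huG).symm)
      rw [h1, one_pow, mul_one]
      exact Subtype.ext (show x * u * x⁻¹ = x * u * x⁻¹ * u⁻¹ * u by group))
    have hfix : CJ x (hPG hx) B = B := by
      have hpB : ∀ a : Baer G m, a ^ Nat.card G = 1 := fun a => Baer.eq_iff.2 (by
        rw [hpow, pow_card_eq_one']; rfl)
      rw [hB, map_mul, map_pow, map_pow, hfconj x (hPG hx) (hPQ hx), hxA, hfmul, hfixN n hn, mul_pow, mul_pow,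
        mul_mul_mul_comm, ← pow_succ', show k + 1 = Nat.card G from by
          rw [hk]; exact Nat.sub_add_cancel Nat.card_pos, hpB, one_mul]
    have := congrArg (fun b : Baer G m => (b.val : X)) hfix
    exact mul_inv_eq_iff_eq_mul.1 this
  have hBQ : ∀ q (hq : q ∈ Q), CJ q (hQG hq) B = B := fun q hq =>
    Baer.eq_iff.2 (Subtype.ext (mul_inv_eq_iff_eq_mul.2
      (Subgroup.mem_centralizer_iff.1 (hC ⟨B.val.2, hBP⟩) q hq)))
  have hBN : (B.val : X) ∈ N := by
    have h1 : f B = B ^ Nat.card Q := by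
      rw [show f B = ∏ _q : Q, B from Finset.prod_congr rfl fun q _ => hBQ q q.2, Finset.prod_const,
        Finset.card_univ, Nat.card_eq_fintype_card]
    have h2 := hfN B.val
    rw [show (⟨B.val⟩ : Baer G m) = B from rfl, h1, hpow, Subgroup.coe_pow] at h2
    obtain ⟨t, ht⟩ := exists_pow_eq_self_of_coprime (x := (B.val : X)) (n := Nat.card Q)
      (hcop.coprime_dvd_right (Subgroup.orderOf_mk (B.val : X) B.val.2 ▸ orderOf_dvd_natCard B.val))
    rw [← ht]; exact pow_mem h2 t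
  apply huN
  have h3 : (((A ^ Nat.card Q).val : G) : X) ∈ N := by
    refine hprodN (A ^ Nat.card Q) ((f A) ^ k) hBN ?_
    rw [hpow, Subgroup.coe_pow]
    exact pow_mem (hfN _) k
  rw [hpow, Subgroup.coe_pow] at h3
  obtain ⟨t, ht⟩ := exists_pow_eq_self_of_coprime (x := u) (n := Nat.card Q)
    (hcop.coprime_dvd_right (Subgroup.orderOf_mk u huG ▸ orderOf_dvd_natCard (⟨u, huG⟩ : G)))
  rw [← ht]; exact pow_mem h3 t

end Cfsg.Agent.S3737
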