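import Cfsg.Statements.S1451
import Cfsg.Agent.OddLocal.RankTwoGroup
import Cfsg.Agent.Solv.FittingBasic

set_option autoImplicit false
open Cfsg

namespace Cfsg.Agent.S1451

theorem rank_of_le {G : Type*} [Group G] {A B : Subgroup G} {p k : ℕ} (h : A ≤ B)
    (hr : Cfsg.PRankLE p k B) : Cfsg.PRankLE p k A := by
  intro C hC hCp
  have hinj := Subgroup.inclusion_injective h
  have hc : IsMulCommutative (C.map (Subgroup.inclusion h)) := ⟨⟨by
    rintro ⟨_, a, ha, rfl⟩ ⟨_, b, hb, rfl⟩
    exact Subtype.ext (congrArg (fun z : C => Subgroup.inclusion h (z : A))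
      (hC.is_comm.comm ⟨a, ha⟩ ⟨b, hb⟩))⟩⟩
  have := hr _ hc (by
    rintro _ ⟨a, ha, rfl⟩
    rw [← map_pow, hCp a ha, map_one])
  rwa [Subgroup.card_map_of_injective hinj] at this

variable {G : Type*} [Group G] [Finite G]

/-- The join of the `O_r(G)` over primes `r` satisfying `P`. -/
abbrev coreJoin (G : Type*) [Group G] (P : ℕ → Prop) : Subgroup G :=
  ⨆ r : {r : Nat.Primes // P r}, Cfsg.pCore ((r : Nat.Primes) : ℕ) G

theorem coreJoin_normal {G : Type*} [Group G] (P : ℕ → Prop) : (coreJoin G P).Normal := by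
  haveI : ∀ r : {r : Nat.Primes // P r}, (Cfsg.pCore ((r : Nat.Primes) : ℕ) G).Normal :=
    fun r => CfsgLib.Solv.pCore_normal G _
  exact Subgroup.iSup_normal _

theorem piNat_coreJoin (P : ℕ → Prop) :
    CfsgLib.Solv.PiNat {r | r.Prime ∧ P r} (Nat.card (coreJoin G P)) := by
  refine (CfsgLib.Solv.piNat_card_piCore _).of_dvd (Subgroup.card_dvd_of_le (iSup_le fun r => ?_))
  haveI := CfsgLib.Solv.pCore_normal G ((r : Nat.Primes) : ℕ)
  haveI := Fact.mk (r : Nat.Primes).2
  exact CfsgLib.Solv.le_piCore (CfsgLib.Solv.PiNat.of_isPGroup (CfsgLib.Solv.pCore_isPGroup G _)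
    ⟨(r : Nat.Primes).2, r.2⟩)

theorem eq_one_of_piNat {π : Set ℕ} {q : ℕ} (hq : q.Prime) (hqπ : q ∉ π) {n : ℕ}
    (hn : CfsgLib.Solv.PiNat π n) {Q : Type*} [Monoid Q] {z : Q} {j : ℕ} (h1 : z ^ q ^ j = 1)
    (h2 : z ^ n = 1) : z = 1 := by
  rw [← orderOf_eq_one_iff]
  refine Nat.eq_one_of_dvd_coprimes (Nat.Coprime.pow_left j ?_) (orderOf_dvd_of_pow_eq_one h1)
    (orderOf_dvd_of_pow_eq_one h2)
  exact (hq.coprime_iff_not_dvd).2 fun h => hqπ (hn q hq h)

theorem fitting_le_sup (q : ℕ) :
    Cfsg.fittingSubgroup G ≤ Cfsg.pCore q G ⊔ coreJoin G (· ≠ q) := by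
  rw [CfsgLib.Solv.fittingSubgroup_eq_iSup_pCore]
  refine iSup_le fun r => ?_
  by_cases h : (r : ℕ) = q
  · exact le_sup_of_le_left (h ▸ le_rfl)
  · exact le_sup_of_le_right (le_iSup_of_le (⟨r, h⟩ : {r : Nat.Primes // (r : ℕ) ≠ q}) le_rfl)

theorem mem_pCore {q : ℕ} [hq : Fact q.Prime] {w : G} (hw : w ∈ Cfsg.fittingSubgroup G) {j : ℕ}
    (hj : w ^ q ^ j = 1) : w ∈ Cfsg.pCore q G := by
  haveI := CfsgLib.Solv.pCore_normal G q
  haveI := coreJoin_normal (G := G) (· ≠ q)
  have h := fitting_le_sup q hw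
  rw [← SetLike.mem_coe, Subgroup.mul_normal] at h
  obtain ⟨a, ha, b, hb, rfl⟩ := h
  set f := QuotientGroup.mk' (Cfsg.pCore q G)
  have e : f (a * b) = f b := by
    rw [map_mul, show f a = 1 from (QuotientGroup.eq_one_iff a).2 ha, one_mul]
  refine (QuotientGroup.eq_one_iff _).1 (show f (a * b) = 1 from ?_)
  refine eq_one_of_piNat hq.out (fun h => h.2 rfl) (piNat_coreJoin (G := G) (· ≠ q))
    (j := j) (by rw [← map_pow, hj, map_one]) ?_
  rw [e, ← map_pow, orderOf_dvd_iff_pow_eq_one.1
    (Subgroup.orderOf_mk (H := coreJoin G (· ≠ q)) b hb ▸ orderOf_dvd_natCard _), map_one]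

theorem mem_coreJoin {q : ℕ} [hq : Fact q.Prime] {w : G} (hw : w ∈ Cfsg.fittingSubgroup G)
    (hco : (orderOf w).Coprime q) : w ∈ coreJoin G (· ≠ q) := by
  haveI := CfsgLib.Solv.pCore_normal G q
  haveI := coreJoin_normal (G := G) (· ≠ q)
  have h := fitting_le_sup q hw
  rw [← SetLike.mem_coe, Subgroup.mul_normal] at h
  obtain ⟨a, ha, b, hb, rfl⟩ := h
  set f := QuotientGroup.mk' (coreJoin G (· ≠ q))
  have e : f (a * b) = f a := by
    rw [map_mul, show f b = 1 from (QuotientGroup.eq_one_iff b).2 hb, mul_one]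
  obtain ⟨j, hj⟩ := CfsgLib.Solv.pCore_isPGroup G q ⟨a, ha⟩
  refine (QuotientGroup.eq_one_iff _).1 (show f (a * b) = 1 from ?_)
  rw [← orderOf_eq_one_iff]
  refine Nat.eq_one_of_dvd_coprimes (hco.pow_right j) (orderOf_map_dvd f _)
    (orderOf_dvd_of_pow_eq_one ?_)
  rw [e, ← map_pow, show a ^ q ^ j = 1 from congrArg Subtype.val hj, map_one]

/-- Let G be a solvable group of odd order such that G, or its Fitting subgroup, has no elementary abelian subgroup of order q ^ 3 for any prime q. Then G' is nilpotent; for every Sylow subgroup S of G, every characteristic subgroup T of S with T ≤ [S, S] is normal in G; and for every prime p, G has a characteristic subgroup that is a Hall subgroup for the set of primes greater than p. -/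
theorem result {G : Type*} [Group G] [Finite G] [Group.IsSolvable G] (hodd : Odd (Nat.card G)) (hr : Cfsg.RankLE 2 G ∨ Cfsg.RankLE 2 (Cfsg.fittingSubgroup G)) :
    Group.IsNilpotent ↥(commutator G) ∧
      (∀ (q : ℕ) [Fact q.Prime] (S : Sylow q G) (T : Subgroup ↥(S : Subgroup G)), T.Characteristic → T.map (S : Subgroup G).subtype ≤ ⁅(S : Subgroup G), (S : Subgroup G)⁆ →
        (T.map (S : Subgroup G).subtype).Normal) ∧
      ∀ p : ℕ, ∃ N : Subgroup G, N.Characteristic ∧ Cfsg.IsPiHall {q | q.Prime ∧ p < q} N := by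
  haveI hFn := CfsgLib.Solv.fittingSubgroup_normal G
  have hne2 : ∀ r : ℕ, r.Prime → ∀ x : G, orderOf x = r → r ≠ 2 := fun r _ x hx e =>
    (Nat.not_even_iff_odd.2 hodd) (even_iff_two_dvd.2 (e ▸ hx ▸ orderOf_dvd_natCard x))
  have hF : ∀ r : Nat.Primes, pCore (r : ℕ) G ≤ fittingSubgroup G := fun r => by
    rw [CfsgLib.Solv.fittingSubgroup_eq_iSup_pCore]; exact le_iSup (fun q : Nat.Primes => pCore (q : ℕ) G) r
  haveI : ∀ r : Nat.Primes, Fact (r : ℕ).Prime := fun r => ⟨r.2⟩
  have hrk : ∀ r : Nat.Primes, PRankLE (r : ℕ) 2 (pCore (r : ℕ) G) := fun r => by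
    rcases hr with h | h
    · exact CfsgLib.OddLocal.restrict_rank (h r r.2)
    · exact rank_of_le (hF r) (h r r.2)
  -- the cores for `r = 2` are trivial
  have h2 : ∀ r : Nat.Primes, pCore (r : ℕ) G ≠ ⊥ → (r : ℕ) ≠ 2 := by
    intro r hb
    haveI := Fact.mk r.2
    haveI : Nontrivial (pCore (r : ℕ) G) := (Subgroup.nontrivial_iff_ne_bot _).2 hb
    obtain ⟨k, hk0, hk⟩ := (CfsgLib.Solv.pCore_isPGroup G (r : ℕ)).nontrivial_iff_card.1 ‹_›
    intro e
    refine (Nat.not_even_iff_odd.2 hodd) (even_iff_two_dvd.2 (e ▸ ?_))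
    exact (hk.symm ▸ dvd_pow_self _ hk0.ne' :
      (r : ℕ) ∣ Nat.card (pCore (r : ℕ) G)).trans (Subgroup.card_subgroup_dvd_card _)
  have hA : ∀ r : Nat.Primes, ∀ y ∈ commutator G, (orderOf y).Coprime r →
      y ∈ Subgroup.centralizer (pCore (r : ℕ) G : Set G) := by
    intro r y hy hyr
    by_cases hb : pCore (r : ℕ) G = ⊥
    · rw [hb, Subgroup.mem_centralizer_iff]
      intro a ha
      rw [Subgroup.coe_bot, Set.mem_singleton_iff] at ha
      simp [ha]
    haveI := Fact.mk r.2
    haveI := CfsgLib.Solv.pCore_normal G (r : ℕ)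
    exact CfsgLib.OddLocal.comm_coprime_mem (h2 r hb) hodd ‹_› (CfsgLib.Solv.pCore_isPGroup G _)
      (hrk r) hy hyr
  have helem : ∀ q : ℕ, q.Prime → ∀ y ∈ commutator G, ∀ j, y ^ q ^ j = 1 → y ∈ fittingSubgroup G := by
    intro q hq y hy j hj
    haveI := Fact.mk hq
    haveI := coreJoin_normal (G := G) (· ≠ q)
    haveI := CfsgLib.Solv.pCore_normal G q
    set W := coreJoin G (· ≠ q)
    set D : Subgroup G := commutator G ⊓ Subgroup.centralizer (W : Set G) with hD
    haveI : D.Normal := inferInstance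
    have hyD : y ∈ D := by
      refine ⟨hy, Subgroup.mem_centralizer_iff.2 fun w hw => ?_⟩
      have hle : W ≤ Subgroup.centralizer ({y} : Set G) := iSup_le fun r x hx => by
        rw [Subgroup.mem_centralizer_singleton_iff]
        refine ((Subgroup.mem_centralizer_iff.1 (hA r y hy ?_)) x hx)
        exact ((Nat.Coprime.pow_left j ((Nat.coprime_primes hq (r : Nat.Primes).2).2 (Ne.symm r.2)))).coprime_dvd_left
          (orderOf_dvd_of_pow_eq_one hj)
      exact (Subgroup.mem_centralizer_singleton_iff.1 (hle hw))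
    refine CfsgLib.Solv.le_fittingSubgroup (N := D) ?_ hyD
    haveI : Group.IsNilpotent (D ⧸ Subgroup.center D) := by
      refine IsPGroup.isNilpotent (p := q) fun d => ?_
      induction d using QuotientGroup.induction_on with
      | _ d =>
        suffices h : ∃ n, d ^ q ^ n ∈ Subgroup.center D by
          obtain ⟨n, hn⟩ := h
          exact ⟨n, by rw [← QuotientGroup.mk_pow]; exact (QuotientGroup.eq_one_iff _).2 hn⟩
        have hd : (d : G) ∈ commutator G := d.2.1
        obtain ⟨n, hn⟩ : ∃ n, (d : G) ^ q ^ n ∈ Subgroup.centralizer (pCore q G : Set G) := by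
          by_cases hb : pCore q G = ⊥
          · refine ⟨0, Subgroup.mem_centralizer_iff.2 fun a ha => ?_⟩
            rw [hb, Subgroup.coe_bot, Set.mem_singleton_iff] at ha
            simp [ha]
          exact CfsgLib.OddLocal.comm_act (h2 ⟨q, hq⟩ hb) hodd ‹_› (CfsgLib.Solv.pCore_isPGroup G _)
            (hrk ⟨q, hq⟩) hd
        have hzF : (d : G) ^ q ^ n ∈ fittingSubgroup G := by
          refine CfsgLib.Solv.centralizer_fittingSubgroup_le (Subgroup.mem_centralizer_iff.2 fun w hw => ?_)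
          have hle : pCore q G ⊔ W ≤ Subgroup.centralizer ({(d : G) ^ q ^ n} : Set G) := by
            refine sup_le ?_ ?_ <;> intro x hx <;> rw [Subgroup.mem_centralizer_singleton_iff]
            · exact Subgroup.mem_centralizer_iff.1 hn x hx
            · exact Subgroup.mem_centralizer_iff.1 (pow_mem d.2.2 (q ^ n)) x hx
          exact (Subgroup.mem_centralizer_singleton_iff.1 (hle (fitting_le_sup q hw)))
        obtain ⟨k, m, hm, e⟩ := Nat.exists_eq_pow_mul_and_not_dvd
          (orderOf_pos ((d : G) ^ q ^ n)).ne' q hq.ne_one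
        refine ⟨n + k, Subgroup.mem_center_iff.2 fun c => Subtype.ext ?_⟩
        have hco : (orderOf (((d : G) ^ q ^ n) ^ q ^ k)).Coprime q := by
          refine ((hq.coprime_iff_not_dvd.2 hm).symm).coprime_dvd_left (orderOf_dvd_of_pow_eq_one ?_)
          rw [← pow_mul _ (q ^ k) m, ← e, pow_orderOf_eq_one]
        have hw := mem_coreJoin (pow_mem hzF (q ^ k)) hco
        have := Subgroup.mem_centralizer_iff.1 c.2.2 _ hw
        push_cast
        rw [pow_add, pow_mul]
        exact this.symm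
    exact Subgroup.isNilpotent_of_ker_le_center (QuotientGroup.mk' (Subgroup.center D))
      (QuotientGroup.ker_mk' _).le
  have hle : commutator G ≤ fittingSubgroup G := by
    have e : (fittingSubgroup G).subgroupOf (commutator G) = ⊤ := by
      refine Subgroup.eq_top_of_card_eq _ (Nat.dvd_antisymm (Subgroup.card_subgroup_dvd_card _) ?_)
      refine Nat.dvd_iff_prime_pow_dvd_dvd _ _ |>.2 fun q k hq hk => ?_
      haveI := Fact.mk hq
      obtain ⟨P⟩ : Nonempty (Sylow q (commutator G)) := inferInstance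
      refine (?_ : q ^ k ∣ Nat.card (P : Subgroup (commutator G))).trans (Subgroup.card_dvd_of_le ?_)
      · rw [P.card_eq_multiplicity]
        exact pow_dvd_pow q ((hq.pow_dvd_iff_le_factorization Nat.card_pos.ne').1 hk)
      · intro y hy
        obtain ⟨j, hj⟩ := P.isPGroup' ⟨y, hy⟩
        exact Subgroup.mem_subgroupOf.2 (helem q hq y y.2 j
          (congrArg (fun z : (P : Subgroup (commutator G)) => ((z : commutator G) : G)) hj))
    exact Subgroup.subgroupOf_eq_top.1 e
  haveI := CfsgLib.Solv.fittingSubgroup_isNilpotent (G := G)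
  have hnil : Group.IsNilpotent (commutator G) :=
    Group.nilpotent_of_mulEquiv (Subgroup.subgroupOfEquivOfLe hle)
  have hnorm : ∀ (q : ℕ) [Fact q.Prime] (S : Sylow q G),
      ((S : Subgroup G) ⊔ fittingSubgroup G).Normal ∧
        Subgroup.normalizer ((S : Subgroup G) : Set G) ⊔ ((S : Subgroup G) ⊔ fittingSubgroup G) = ⊤ := by
    intro q _ S
    have hn : ((S : Subgroup G) ⊔ fittingSubgroup G).Normal :=
      Subgroup.Normal.of_commutator_le _ (hle.trans le_sup_right)
    haveI := hn
    exact ⟨hn, S.normalizer_sup_eq_top' le_sup_left⟩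
  refine ⟨hnil, fun q hqf S T hT hTS => ?_, fun p => ?_⟩
  · haveI := hqf
    haveI := hT
    have hTO : T.map (S : Subgroup G).subtype ≤ pCore q G := by
      intro t ht
      have hSt : ⁅(S : Subgroup G), (S : Subgroup G)⁆ ≤ commutator G :=
        Subgroup.commutator_mono le_top le_top
      obtain ⟨j, hj⟩ := S.isPGroup' ⟨t, Subgroup.map_subtype_le _ ht⟩
      exact mem_pCore (hle (hSt (hTS ht))) (congrArg Subtype.val hj)
    have hNS : Subgroup.normalizer ((S : Subgroup G) : Set G) ≤
        Subgroup.normalizer ((T.map (S : Subgroup G).subtype : Subgroup G) : Set G) := by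
      intro g hg
      rw [Subgroup.mem_normalizer_iff_map_conj_eq, Subgroup.map_map]
      have h1 := Subgroup.characteristic_iff_map_eq.1 hT
        (Subgroup.normalizerMonoidHom (S : Subgroup G) ⟨g, hg⟩)
      conv_rhs => rw [← h1, Subgroup.map_map]
      rfl
    have hSN : (S : Subgroup G) ≤
        Subgroup.normalizer ((T.map (S : Subgroup G).subtype : Subgroup G) : Set G) :=
      Subgroup.le_normalizer.trans hNS
    have hFN : fittingSubgroup G ≤
        Subgroup.normalizer ((T.map (S : Subgroup G).subtype : Subgroup G) : Set G) := by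
      refine (fitting_le_sup q).trans (sup_le ((CfsgLib.Solv.pCore_le_sylow S).trans hSN) ?_)
      haveI := CfsgLib.Solv.pCore_normal G q
      haveI := coreJoin_normal (G := G) (· ≠ q)
      intro w hw
      refine Subgroup.centralizer_le_normalizer _ (Subgroup.mem_centralizer_iff.2 fun t ht => ?_)
      refine (Subgroup.commute_of_normal_of_disjoint (pCore q G) (coreJoin G (· ≠ q)) inferInstance
        inferInstance ?_ t w (hTO ht) hw).eq
      rw [Subgroup.disjoint_def]
      intro x hx hx'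
      obtain ⟨j, hj⟩ := CfsgLib.Solv.pCore_isPGroup G q ⟨x, hx⟩
      exact eq_one_of_piNat (Fact.out : q.Prime) (fun h => h.2 rfl) (piNat_coreJoin (· ≠ q))
        (congrArg Subtype.val hj)
        (orderOf_dvd_iff_pow_eq_one.1 (Subgroup.orderOf_mk (H := coreJoin G (· ≠ q)) x hx' ▸
          orderOf_dvd_natCard _))
    refine Subgroup.normalizer_eq_top_iff.1 (top_le_iff.1 ?_)
    exact (hnorm q S).2 ▸ sup_le hNS (sup_le hSN hFN)
  · refine ⟨piCore {q | q.Prime ∧ p < q} G, CfsgLib.Solv.piCore_characteristic,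
      CfsgLib.Solv.piNat_card_piCore _, fun q hq hqπ hdvd => ?_⟩
    haveI := Fact.mk hq
    obtain ⟨S⟩ : Nonempty (Sylow q G) := inferInstance
    haveI := coreJoin_normal (G := G) (p < ·)
    set V := coreJoin G (p < ·)
    set L := (S : Subgroup G) ⊔ V with hL
    have hNS : Subgroup.normalizer ((S : Subgroup G) : Set G) ≤ Subgroup.normalizer (L : Set G) :=
      le_trans (le_inf le_rfl ((Subgroup.normalizer_eq_top (H := V)).symm ▸ le_top))
        (Subgroup.normalizer_inf_normalizer_le_normalizer_sup (S : Subgroup G) V)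
    have hSL : (S : Subgroup G) ⊔ fittingSubgroup G ≤ Subgroup.normalizer (L : Set G) := by
      refine sup_le (le_sup_left.trans Subgroup.le_normalizer) ?_
      rw [CfsgLib.Solv.fittingSubgroup_eq_iSup_pCore]
      refine iSup_le fun r => ?_
      by_cases h : p < (r : ℕ)
      · exact (le_iSup_of_le (⟨r, h⟩ : {r : Nat.Primes // p < (r : ℕ)}) le_rfl :
          pCore (r : ℕ) G ≤ V).trans ((le_sup_right : V ≤ L).trans Subgroup.le_normalizer)
      by_cases hb : pCore (r : ℕ) G = ⊥
      · rw [hb]; exact bot_le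
      haveI := Fact.mk r.2
      haveI := CfsgLib.Solv.pCore_normal G (r : ℕ)
      refine (?_ : pCore (r : ℕ) G ≤ Subgroup.centralizer (L : Set G)).trans
        (Subgroup.centralizer_le_normalizer _)
      rw [Subgroup.le_centralizer_iff]
      refine sup_le (fun y hy => ?_) (iSup_le fun s x hx => ?_)
      · obtain ⟨j, hj⟩ := S.isPGroup' ⟨y, hy⟩
        have hlt : (r : ℕ) < q := lt_of_le_of_lt (not_lt.1 h) hqπ.2
        exact CfsgLib.OddLocal.ppow_mem (h2 r hb) hodd (CfsgLib.Solv.pCore_isPGroup G _) (hrk r) hq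
          hlt.ne' (Or.inl hlt.le) (congrArg Subtype.val hj)
      · rw [Subgroup.mem_centralizer_iff]
        intro a ha
        haveI := CfsgLib.Solv.pCore_normal G ((s : Nat.Primes) : ℕ)
        haveI := Fact.mk (s : Nat.Primes).2
        refine (Subgroup.commute_of_normal_of_disjoint (pCore (r : ℕ) G) _ inferInstance
          inferInstance ?_ a x ha hx).eq
        refine IsPGroup.disjoint_of_ne (r : ℕ) ((s : Nat.Primes) : ℕ) ?_ _ _
          (CfsgLib.Solv.pCore_isPGroup G _) (CfsgLib.Solv.pCore_isPGroup G _)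
        intro e
        exact h (by rw [e]; exact s.2)
    haveI hLn : L.Normal := Subgroup.normalizer_eq_top_iff.1
      (top_le_iff.1 ((hnorm q S).2 ▸ sup_le hNS hSL))
    have hLπ : L ≤ piCore {q | q.Prime ∧ p < q} G :=
      CfsgLib.Solv.le_piCore (((CfsgLib.Solv.PiNat.of_isPGroup S.isPGroup' hqπ).mul
        (piNat_coreJoin (G := G) (p < ·))).of_dvd (CfsgLib.Solv.card_sup_dvd_mul _ _))
    exact S.not_dvd_index' (show (S : Subgroup G).relIndex _ ≠ 0 from Subgroup.index_ne_zero_of_finite) (hdvd.trans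
      (Subgroup.index_dvd_of_le (le_sup_left.trans hLπ)))

end Cfsg.Agent.S1451
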