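import Cfsg.Statements.S1458
import Cfsg.Agent.Inv.ZJApp
import Cfsg.Agent.Solv.FittingBasic

set_option autoImplicit false
open Cfsg

namespace Cfsg.Agent.S1458

/-- Let G be a solvable group of odd order, p a prime and S a Sylow p-subgroup of G. Then the subgroup generated by the centre of the Thompson subgroup of S and O_{p'}(G) is normal in G. -/
theorem result {G : Type*} [Group G] [Finite G] [Group.IsSolvable G] (hodd : Odd (Nat.card G)) (p : ℕ) [Fact p.Prime] (S : Sylow p G) :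
    (Cfsg.centerThompsonOf p (S : Subgroup G) ⊔ Cfsg.pPrimeCore p G).Normal := by
  haveI := CfsgLib.Solv.pPrimeCore_normal G p
  rw [CfsgLib.Inv.ZJ.centerThompsonOf_eq]
  by_cases hp2 : p = 2
  · have hS : (S : Subgroup G) = ⊥ := by
      subst hp2
      obtain ⟨k, hk⟩ := S.isPGroup'.exists_card_eq
      rcases k with _ | k
      · exact Subgroup.card_eq_one.1 (by rw [hk, pow_zero])
      · have h2 : 2 ∣ Nat.card G :=
          (hk ▸ dvd_pow_self 2 k.succ_ne_zero : 2 ∣ Nat.card (S : Subgroup G)).trans (Subgroup.card_subgroup_dvd_card _)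
        obtain ⟨j, hj⟩ := hodd
        omega
    rw [le_bot_iff.1 ((CfsgLib.Inv.ZJ.zJ_le (e := p) (S : Subgroup G)).trans hS.le), bot_sup_eq]
    infer_instance
  set K := Cfsg.pPrimeCore p G
  set π := QuotientGroup.mk' K
  have hπ : Function.Surjective π := QuotientGroup.mk'_surjective K
  have hKc : ¬ p ∣ Nat.card K := CfsgLib.Solv.not_dvd_card_pPrimeCore
  have hoddq : Odd (Nat.card (G ⧸ K)) := hodd.of_dvd_nat (Subgroup.card_quotient_dvd_card K)
  haveI : Group.IsSolvable (G ⧸ K) := Group.isSolvable_of_surjective hπ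
  have hc := CfsgLib.Solv.centralizer_pCore_le (p := p) (G := G ⧸ K) CfsgLib.Solv.pPrimeCore_quotient_self
  have hst := CfsgLib.Inv.ZJ.stableOn_of_normalizer
    (CfsgLib.Inv.ZJ.stable_of_not_involves hp2 (CfsgLib.Inv.ZJ.not_involves_of_odd (p := p) hoddq))
  have hn := CfsgLib.Inv.ZJ.zJ_normal (e := p) hp2 (Or.inr rfl) (S.mapSurjective hπ)
    (CfsgLib.Inv.ZJ.stronglyClosed_self _) hst hc
  rw [Sylow.coe_mapSurjective, ← CfsgLib.Inv.ZJ.map_zJ_injOn π (fun x hx y hy h => ?_)] at hn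
  · have h2 := hn.comap π
    rwa [Subgroup.comap_map_eq, QuotientGroup.ker_mk'] at h2
  · have : x⁻¹ * y ∈ (S : Subgroup G) ⊓ K :=
      ⟨(S : Subgroup G).mul_mem ((S : Subgroup G).inv_mem hx) hy, QuotientGroup.eq.1 h⟩
    rw [CfsgLib.Glau.inf_eq_bot_of_card S.isPGroup' hKc, Subgroup.mem_bot, inv_mul_eq_one] at this
    exact this

end Cfsg.Agent.S1458
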