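import Cfsg.Statements.S0803
import Cfsg.Agent.Lie.PSL2Small
-- import your own Cfsg.Agent.* helpers here

set_option autoImplicit false
open Cfsg

namespace Cfsg.Agent.S0803

/-- PSL_2(q) has a subgroup isomorphic to S_4 iff q² ≡ 1 (mod 16). -/
theorem result {F : Type*} [Field F] [Fintype F] {q : ℕ} (hF : Fintype.card F = q) : (∃ H : Subgroup (Matrix.ProjectiveSpecialLinearGroup (Fin 2) F), Nonempty (H ≃* Equiv.Perm (Fin 4))) ↔ q ^ 2 % 16 = 1 := by
  constructor
  · rintro ⟨H, ⟨e⟩⟩
    have hmem : (4 : ℕ) ∈ Set.range (orderOf : Matrix.ProjectiveSpecialLinearGroup (Fin 2) F → ℕ) := by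
      refine ⟨((e.symm CfsgLib.Lie.PSL2Small.gt : H) : Matrix.ProjectiveSpecialLinearGroup (Fin 2) F), ?_⟩
      rw [Subgroup.orderOf_coe, MulEquiv.orderOf_eq]
      exact orderOf_eq_prime_pow (p := 2) (n := 1) (by decide) (by decide)
    obtain ⟨p, hp⟩ := CharP.exists F
    haveI := hp
    haveI : Fact p.Prime := ⟨CharP.char_is_prime F p⟩
    rw [CfsgLib.PSLTwoSpec.range_orderOf p] at hmem
    have hpp : p.Prime := Fact.out
    have h1 : 1 < q := hF ▸ Fintype.one_lt_card
    rw [hF] at hmem
    rcases Nat.mod_two_eq_zero_or_one q with he | ho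
    · have hk : Nat.gcd 2 (q - 1) = 1 := by
        rw [← Nat.coprime_iff_gcd_eq_one, Nat.prime_two.coprime_iff_not_dvd]; omega
      rw [hk, Nat.div_one, Nat.div_one] at hmem
      rcases hmem with h | h | h
      · rw [← h] at hpp; norm_num at hpp
      · exfalso; omega
      · exfalso; omega
    · have hk : Nat.gcd 2 (q - 1) = 2 := Nat.gcd_eq_left (by omega)
      rw [hk] at hmem
      have h8 : q % 8 = 1 ∨ q % 8 = 7 := by
        rcases hmem with h | h | h
        · rw [← h] at hpp; norm_num at hpp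
        · left; omega
        · right; omega
      have := Nat.pow_mod q 2 16
      have h16 : q % 16 = 1 ∨ q % 16 = 7 ∨ q % 16 = 9 ∨ q % 16 = 15 := by omega
      rcases h16 with h | h | h | h <;> rw [this, h]
  · intro h
    have ho : Fintype.card F % 2 = 1 := by
      rw [hF]
      rcases Nat.mod_two_eq_zero_or_one q with he | ho
      · exfalso
        obtain ⟨m, rfl⟩ : 2 ∣ q := Nat.dvd_of_mod_eq_zero he
        rw [mul_pow] at h; omega
      · exact ho
    obtain ⟨r, hr⟩ : IsSquare (2 : F) := by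
      rw [FiniteField.isSquare_two_iff, hF]
      have := Nat.pow_mod q 2 16
      rw [hF] at ho
      constructor <;> intro h' <;> (
        have h16 : q % 16 = 3 ∨ q % 16 = 11 ∨ q % 16 = 5 ∨ q % 16 = 13 := by omega
        rcases h16 with e | e | e | e <;> rw [e] at this <;> omega)
    exact CfsgLib.Lie.PSL2Small.exists_sym_four ho (r := r) (by rw [pow_two, ← hr])

end Cfsg.Agent.S0803
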