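import Cfsg.Statements.S0670

import Mathlib

set_option autoImplicit false
set_option linter.style.haveILetI false
open Cfsg

namespace Cfsg.Agent.S0670

/-- In characteristic `p`, the permutation module of a transitive action of degree `p ^ f` has the line of constant functions as its only irreducible submodule: every non-zero subrepresentation contains it. -/
theorem result {G : Type*} [Group G] [Finite G] {K : Type*} [Field K] {p f : ℕ} [Fact p.Prime] [CharP K p] {Ω : Type*} [Fintype Ω] [MulAction G Ω] [MulAction.IsPretransitive G Ω] (hf : 1 ≤ f) (hcard : Fintype.card Ω = p ^ f) (W : Subrepresentation (Cfsg.permRep K G Ω)) (hW : W.toSubmodule ≠ ⊥) : (Cfsg.permConstants K G Ω).toSubmodule ≤ W.toSubmodule := by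
  classical
  obtain ⟨a⟩ : Nonempty Ω := Fintype.card_pos_iff.mp (by
    rw [hcard]; exact pow_pos (Fact.out : p.Prime).pos f)
  obtain ⟨P⟩ : Nonempty (Sylow p G) := inferInstance
  have hPcard := P.card_eq_multiplicity
  have hidx : (MulAction.stabilizer G a).index = p ^ f := by
    rw [MulAction.index_stabilizer_of_transitive G a, Nat.card_eq_fintype_card, hcard]
  have hP : IsPGroup p (P : Subgroup G) := P.isPGroup'
  have htrans : ∀ x : Ω, x ∈ MulAction.orbit (P : Subgroup G) a := by
    have h1 := Nat.card_congr (MulAction.orbitProdStabilizerEquivGroup (P : Subgroup G) a)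
    rw [Nat.card_prod, Nat.card_coe_set_eq, hPcard] at h1
    obtain ⟨b, hb⟩ := IsPGroup.iff_card.mp
      (hP.to_subgroup (MulAction.stabilizer (P : Subgroup G) a))
    have h2 : Nat.card (MulAction.stabilizer (P : Subgroup G) a)
        ∣ Nat.card (MulAction.stabilizer G a) :=
      Subgroup.card_dvd_of_injective
        ((((P : Subgroup G).subtype).comp (MulAction.stabilizer (P : Subgroup G) a).subtype).codRestrict
          (MulAction.stabilizer G a) fun u => u.2) (fun u v h => by
          apply Subtype.ext; apply Subtype.ext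
          have h' := congrArg Subtype.val h
          exact h')
    have h3 := (MulAction.stabilizer G a).card_mul_index
    rw [hidx] at h3
    rw [hb] at h1 h2
    have h4 : b + f ≤ (Nat.card G).factorization p := by
      rw [← (Fact.out : p.Prime).pow_dvd_iff_le_factorization Nat.card_pos.ne', pow_add, ← h3]
      exact Nat.mul_dvd_mul_right h2 _
    have h5 : p ^ f ≤ (MulAction.orbit (P : Subgroup G) a).ncard := by
      have h6 : p ^ (b + f) ≤ (MulAction.orbit (P : Subgroup G) a).ncard * p ^ b := by
        rw [h1]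
        exact Nat.pow_le_pow_right (Fact.out : p.Prime).pos h4
      rw [pow_add, mul_comm (p ^ b)] at h6
      exact Nat.le_of_mul_le_mul_right h6 (pow_pos (Fact.out : p.Prime).pos b)
    intro x
    have h7 : MulAction.orbit (P : Subgroup G) a = Set.univ :=
      Set.eq_univ_of_forall (by
        intro y
        by_contra hy
        have h8 := Set.ncard_lt_ncard (t := (Set.univ : Set Ω))
          (Set.ssubset_univ_iff.mpr fun (h : MulAction.orbit (P : Subgroup G) a = Set.univ) => hy (h ▸ Set.mem_univ y)) (Set.toFinite _)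
        rw [Set.ncard_univ, Nat.card_eq_fintype_card, hcard] at h8
        omega)
    exact h7 ▸ Set.mem_univ x
  obtain ⟨w, hw, hw0⟩ := (Submodule.ne_bot_iff _).mp hW
  letI : Algebra (ZMod p) K := ZMod.algebra K p
  let O : Set (Ω → K) := Set.range fun u : (P : Subgroup G) => Cfsg.permRep K G Ω (u : G) w
  let A : Submodule (ZMod p) (Ω → K) := Submodule.span (ZMod p) O
  haveI : Module.Finite (ZMod p) A := Module.Finite.span_of_finite _ (Set.finite_range _)
  haveI : Finite A := Module.finite_of_finite (ZMod p)
  have hA : ∀ (u : (P : Subgroup G)) (v : Ω → K), v ∈ A → Cfsg.permRep K G Ω (u : G) v ∈ A := by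
    intro u v hv
    induction hv using Submodule.span_induction with
    | mem x hx =>
      obtain ⟨t, rfl⟩ := hx
      refine Submodule.subset_span ⟨u * t, ?_⟩
      simp [map_mul]
    | zero => simp
    | add x y _ _ hx hy => rw [map_add]; exact A.add_mem hx hy
    | smul c x _ hx =>
      rw [← ZMod.natCast_zmod_val c, Nat.cast_smul_eq_nsmul, map_nsmul]
      exact A.nsmul_mem hx _
  letI : MulAction (P : Subgroup G) A :=
    { smul := fun u v => ⟨_, hA u v v.2⟩
      one_smul := fun v => Subtype.ext (by
        show Cfsg.permRep K G Ω (((1 : (P : Subgroup G))) : G) (v : Ω → K) = v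
        simp)
      mul_smul := fun u t v => Subtype.ext (by
        show Cfsg.permRep K G Ω ((u * t : (P : Subgroup G)) : G) (v : Ω → K)
          = Cfsg.permRep K G Ω (u : G) (Cfsg.permRep K G Ω (t : G) (v : Ω → K))
        simp [map_mul]) }
  have hwA : w ∈ A := Submodule.subset_span ⟨1, by simp⟩
  have hAW : ∀ v ∈ A, v ∈ W.toSubmodule := by
    intro v hv
    induction hv using Submodule.span_induction with
    | mem x hx =>
      obtain ⟨t, rfl⟩ := hx
      exact W.apply_mem_toSubmodule _ hw
    | zero => exact zero_mem _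
    | add x y _ _ hx hy => exact add_mem hx hy
    | smul c x _ hx =>
      rw [← ZMod.natCast_zmod_val c, Nat.cast_smul_eq_nsmul]
      exact nsmul_mem hx _
  haveI : Nontrivial A := ⟨⟨⟨w, hwA⟩, 0, fun h => hw0 (congrArg Subtype.val h)⟩⟩
  have hdvd : p ∣ Nat.card A := by
    rw [Module.natCard_eq_pow_finrank (K := ZMod p), Nat.card_zmod]
    exact dvd_pow_self p Module.finrank_pos.ne'
  have h0 : (0 : A) ∈ MulAction.fixedPoints (P : Subgroup G) A := fun u =>
    Subtype.ext (map_zero (Cfsg.permRep K G Ω (u : G)))
  obtain ⟨v, hv, hv0⟩ :=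
    hP.exists_fixed_point_of_prime_dvd_card_of_fixed_point A hdvd h0
  have hconst : ∀ x : Ω, (v : Ω → K) x = (v : Ω → K) a := by
    intro x
    obtain ⟨u, rfl⟩ := htrans x
    have h1 := congrFun (congrArg Subtype.val (hv u⁻¹)) a
    have h2 : Cfsg.permRep K G Ω ((u⁻¹ : (P : Subgroup G)) : G) (v : Ω → K) a
        = (v : Ω → K) (u • a) := by
      show (v : Ω → K) (((u⁻¹ : (P : Subgroup G)) : G)⁻¹ • a) = _
      simp [Subgroup.smul_def]
    exact h2.symm.trans h1
  have hva : (v : Ω → K) a ≠ 0 := fun h => hv0 (Subtype.ext (funext fun x => by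
    rw [hconst x, h]; rfl))
  show Submodule.span K {fun _ => (1 : K)} ≤ W.toSubmodule
  rw [Submodule.span_singleton_le_iff_mem]
  have h3 := W.toSubmodule.smul_mem ((v : Ω → K) a)⁻¹ (hAW v v.2)
  have h4 : ((v : Ω → K) a)⁻¹ • (v : Ω → K) = fun _ => (1 : K) :=
    funext fun x => by rw [Pi.smul_apply, smul_eq_mul, hconst x, inv_mul_cancel₀ hva]
  rwa [h4] at h3

end Cfsg.Agent.S0670
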