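import Cfsg.Statements.S0671

import Mathlib
import Cfsg.Agent.S0670

set_option autoImplicit false
set_option linter.style.haveILetI false
open Cfsg

namespace Cfsg.Agent.S0671

theorem exists_pgroup_trans {G : Type*} [Group G] [Finite G] {p f : ℕ} [Fact p.Prime] {Ω : Type*} [Fintype Ω]
    [MulAction G Ω] [MulAction.IsPretransitive G Ω] (hcard : Fintype.card Ω = p ^ f) :
    ∃ P : Subgroup G, MulAction.IsPretransitive P Ω := by
  classical
  obtain ⟨a⟩ : Nonempty Ω := Fintype.card_pos_iff.mp (by
    rw [hcard]; exact pow_pos (Fact.out : p.Prime).pos f)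
  obtain ⟨P⟩ : Nonempty (Sylow p G) := inferInstance
  have hPcard := P.card_eq_multiplicity
  have hidx : (MulAction.stabilizer G a).index = p ^ f := by
    rw [MulAction.index_stabilizer_of_transitive G a, Nat.card_eq_fintype_card, hcard]
  have hP : IsPGroup p (P : Subgroup G) := P.isPGroup'
  have htrans : ∀ x : Ω, x ∈ MulAction.orbit (P : Subgroup G) a := by
    have h1 := Nat.card_congr (MulAction.orbitProdStabilizerEquivGroup (P : Subgroup G) a)
    rw [Nat.card_prod, Nat.card_coe_set_eq, hPcard] at h1
    obtain ⟨b, hb⟩ := IsPGroup.iff_card.mp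
      (hP.to_subgroup (MulAction.stabilizer (P : Subgroup G) a))
    have h2 : Nat.card (MulAction.stabilizer (P : Subgroup G) a)
        ∣ Nat.card (MulAction.stabilizer G a) :=
      Subgroup.card_dvd_of_injective
        ((((P : Subgroup G).subtype).comp (MulAction.stabilizer (P : Subgroup G) a).subtype).codRestrict
          (MulAction.stabilizer G a) fun u => u.2) (fun u v h => by
          apply Subtype.ext; apply Subtype.ext
          have h' := congrArg Subtype.val h
          exact h')
    have h3 := (MulAction.stabilizer G a).card_mul_index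
    rw [hidx] at h3
    rw [hb] at h1 h2
    have h4 : b + f ≤ (Nat.card G).factorization p := by
      rw [← (Fact.out : p.Prime).pow_dvd_iff_le_factorization Nat.card_pos.ne', pow_add, ← h3]
      exact Nat.mul_dvd_mul_right h2 _
    have h5 : p ^ f ≤ (MulAction.orbit (P : Subgroup G) a).ncard := by
      have h6 : p ^ (b + f) ≤ (MulAction.orbit (P : Subgroup G) a).ncard * p ^ b := by
        rw [h1]
        exact Nat.pow_le_pow_right (Fact.out : p.Prime).pos h4
      rw [pow_add, mul_comm (p ^ b)] at h6
      exact Nat.le_of_mul_le_mul_right h6 (pow_pos (Fact.out : p.Prime).pos b)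
    intro x
    have h7 : MulAction.orbit (P : Subgroup G) a = Set.univ :=
      Set.eq_univ_of_forall (by
        intro y
        by_contra hy
        have h8 := Set.ncard_lt_ncard (t := (Set.univ : Set Ω))
          (Set.ssubset_univ_iff.mpr fun (h : MulAction.orbit (P : Subgroup G) a = Set.univ) => hy (h ▸ Set.mem_univ y)) (Set.toFinite _)
        rw [Set.ncard_univ, Nat.card_eq_fintype_card, hcard] at h8
        omega)
    exact h7 ▸ Set.mem_univ x
  refine ⟨P, ⟨fun x y => ?_⟩⟩
  obtain ⟨u, rfl⟩ := htrans x
  obtain ⟨v, rfl⟩ := htrans y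
  exact ⟨v * u⁻¹, by simp [mul_smul]⟩


/-- If the heart of the permutation module in characteristic `p` of a transitive action of degree `p ^ f` has no trivial composition factor, the action is doubly transitive. The hypothesis is phrased without composition series: no invariant subspaces `W < W'` between the constants and the sum-zero functions with trivial action on the quotient. -/
theorem result {G : Type*} [Group G] [Finite G] {K : Type*} [Field K] {p f : ℕ} [Fact p.Prime] [CharP K p] {Ω : Type*} [Fintype Ω] [MulAction G Ω] [MulAction.IsPretransitive G Ω] (hf : 1 ≤ f) (hcard : Fintype.card Ω = p ^ f) (h : ∀ W W' : Subrepresentation (Cfsg.permRep K G Ω), (Cfsg.permConstants K G Ω).toSubmodule ≤ W.toSubmodule → W.toSubmodule < W'.toSubmodule → W'.toSubmodule ≤ (Cfsg.permSumZero K G Ω).toSubmodule → ∃ g : G, ∃ v ∈ W'.toSubmodule, Cfsg.permRep K G Ω g v - v ∉ W.toSubmodule) : MulAction.IsMultiplyPretransitive G Ω 2 := by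
  classical
  obtain ⟨P, hP⟩ := exists_pgroup_trans (G := G) hcard
  haveI := hP
  rw [MulAction.is_two_pretransitive_iff]
  intro a b c d hab hcd
  set R : Set (Ω × Ω) := MulAction.orbit G ((a, b) : Ω × Ω) with hR
  suffices hall : ∀ x y : Ω, x ≠ y → (x, y) ∈ R by
    obtain ⟨g, hg⟩ := hall c d hcd
    exact ⟨g, congrArg Prod.fst hg, congrArg Prod.snd hg⟩
  have hRinv : ∀ (g : G) (x y : Ω), (g • x, g • y) ∈ R ↔ (x, y) ∈ R := fun g x y => by
    rw [hR, MulAction.mem_orbit_iff, MulAction.mem_orbit_iff]
    constructor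
    · rintro ⟨t, ht⟩
      refine ⟨g⁻¹ * t, ?_⟩
      rw [mul_smul, ht, Prod.smul_mk, inv_smul_smul, inv_smul_smul]
    · rintro ⟨t, ht⟩
      refine ⟨g * t, ?_⟩
      rw [mul_smul, ht, Prod.smul_mk]
  let k : ℕ := (Finset.univ.filter fun y => (a, y) ∈ R).card
  have hout : ∀ x : Ω, (Finset.univ.filter fun y => (x, y) ∈ R).card = k := by
    intro x
    obtain ⟨g, rfl⟩ := MulAction.exists_smul_eq G a x
    refine Finset.card_bij' (fun y _ => g⁻¹ • y) (fun y _ => g • y) ?_ ?_ ?_ ?_
    · intro y hy
      simp only [Finset.mem_filter, Finset.mem_univ, true_and] at hy ⊢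
      rwa [← hRinv g, smul_inv_smul]
    · intro y hy
      simp only [Finset.mem_filter, Finset.mem_univ, true_and] at hy ⊢
      rwa [hRinv g]
    · intro y _; exact smul_inv_smul g y
    · intro y _; exact inv_smul_smul g y
  have hin : ∀ y : Ω, (Finset.univ.filter fun x => (x, y) ∈ R).card = k := by
    let k' : ℕ := (Finset.univ.filter fun x => (x, a) ∈ R).card
    have hin' : ∀ y : Ω, (Finset.univ.filter fun x => (x, y) ∈ R).card = k' := by
      intro y
      obtain ⟨g, rfl⟩ := MulAction.exists_smul_eq G a y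
      refine Finset.card_bij' (fun x _ => g⁻¹ • x) (fun x _ => g • x) ?_ ?_ ?_ ?_
      · intro x hx
        simp only [Finset.mem_filter, Finset.mem_univ, true_and] at hx ⊢
        rwa [← hRinv g, smul_inv_smul]
      · intro x hx
        simp only [Finset.mem_filter, Finset.mem_univ, true_and] at hx ⊢
        rwa [hRinv g]
      · intro x _; exact smul_inv_smul g x
      · intro x _; exact inv_smul_smul g x
    intro y
    rw [hin']
    have h1 : ∑ x : Ω, (Finset.univ.filter fun y => (x, y) ∈ R).card
        = ∑ y : Ω, (Finset.univ.filter fun x => (x, y) ∈ R).card := by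
      simp only [Finset.card_filter]
      exact Finset.sum_comm
    simp only [hout, hin', Finset.sum_const, smul_eq_mul] at h1
    haveI : Nonempty Ω := ⟨a⟩
    have hpos : 0 < (Finset.univ : Finset Ω).card := by rw [Finset.card_univ]; exact Fintype.card_pos
    exact (Nat.eq_of_mul_eq_mul_left hpos h1).symm
  let m : Ω → Ω → K := fun x y =>
    (if (x, y) ∈ R then 1 else 0) - (if x = y then (k : K) else 0)
  have hminv : ∀ (g : G) x y, m (g • x) (g • y) = m x y := fun g x y => by
    simp only [m, hRinv, smul_left_cancel_iff]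
  let T : (Ω → K) →ₗ[K] (Ω → K) :=
    { toFun := fun v x => ∑ y, m x y * v y
      map_add' := fun u v => funext fun x => by simp [mul_add, Finset.sum_add_distrib]
      map_smul' := fun r v => funext fun x => by simp [Finset.mul_sum, mul_left_comm] }
  have hT : ∀ v x, T v x = ∑ y, m x y * v y := fun v x => rfl
  have hTg : ∀ (g : G) (v : Ω → K), T (Cfsg.permRep K G Ω g v) = Cfsg.permRep K G Ω g (T v) := by
    intro g v
    funext x
    show ∑ y, m x y * v (g⁻¹ • y) = ∑ y, m (g⁻¹ • x) y * v y
    exact Fintype.sum_equiv (MulAction.toPerm g⁻¹) _ _ fun y => by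
      simp [MulAction.toPerm_apply, hminv]
  have hsum : ∀ v, T v ∈ (Cfsg.permSumZero K G Ω).toSubmodule := by
    intro v
    show ∑ x, ∑ y, m x y * v y = 0
    rw [Finset.sum_comm]
    refine Finset.sum_eq_zero fun y _ => ?_
    rw [← Finset.sum_mul]
    have : ∑ x, m x y = 0 := by
      simp only [m, Finset.sum_sub_distrib, Finset.sum_boole, Finset.sum_ite_eq', Finset.mem_univ,
        if_true, hin, sub_self]
    rw [this, zero_mul]
  set C : Submodule K (Ω → K) := (Cfsg.permConstants K G Ω).toSubmodule with hC
  have hCC : C = Submodule.span K {fun _ => (1 : K)} := rfl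
  set S₀ : Submodule K (Ω → K) := (Cfsg.permSumZero K G Ω).toSubmodule with hS
  have hCS : C ≤ S₀ := by
    rw [hCC, Submodule.span_singleton_le_iff_mem]
    show ∑ _x : Ω, (1 : K) = 0
    simp [hcard, CharP.cast_eq_zero, zero_pow (by omega : f ≠ 0)]
  -- the two subrepresentations
  let W' : Subrepresentation (Cfsg.permRep K G Ω) :=
    { toSubmodule := LinearMap.range T ⊔ C
      apply_mem_toSubmodule := fun g v hv => by
        obtain ⟨x, hx, c₀, hc, rfl⟩ := Submodule.mem_sup.1 hv
        obtain ⟨u, rfl⟩ := hx
        rw [map_add, ← hTg]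
        exact Submodule.add_mem_sup (LinearMap.mem_range_self T _)
          ((Cfsg.permConstants K G Ω).apply_mem_toSubmodule g hc) }
  let W : Subrepresentation (Cfsg.permRep K G Ω) :=
    { toSubmodule := S₀.map T ⊔ C
      apply_mem_toSubmodule := fun g v hv => by
        obtain ⟨x, hx, c₀, hc, rfl⟩ := Submodule.mem_sup.1 hv
        obtain ⟨u, hu, rfl⟩ := hx
        rw [map_add, ← hTg]
        exact Submodule.add_mem_sup
          (Submodule.mem_map_of_mem ((Cfsg.permSumZero K G Ω).apply_mem_toSubmodule g hu))
          ((Cfsg.permConstants K G Ω).apply_mem_toSubmodule g hc) }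
  have hWW' : W.toSubmodule ≤ W'.toSubmodule := sup_le_sup_right (LinearMap.map_le_range) _
  have hW'S : W'.toSubmodule ≤ S₀ := by
    refine sup_le ?_ hCS
    rintro _ ⟨u, rfl⟩
    exact hsum u
  have hEq : W.toSubmodule = W'.toSubmodule := by
    by_contra hne
    obtain ⟨g, v, hv, hgv⟩ := h W W' le_sup_right (lt_of_le_of_ne hWW' hne) hW'S
    obtain ⟨x, hx, c₀, hc, rfl⟩ := Submodule.mem_sup.1 hv
    obtain ⟨u, rfl⟩ := hx
    apply hgv
    have hc' : Cfsg.permRep K G Ω g c₀ = c₀ := by
      obtain ⟨r, rfl⟩ := Submodule.mem_span_singleton.1 (hCC ▸ hc)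
      rfl
    rw [map_add, ← hTg, hc', add_sub_add_right_eq_sub, ← map_sub]
    refine Submodule.mem_sup_left (Submodule.mem_map_of_mem ?_)
    show ∑ x, (Cfsg.permRep K G Ω g u - u) x = 0
    simp only [Pi.sub_apply, Finset.sum_sub_distrib]
    rw [sub_eq_zero]
    exact Fintype.sum_equiv (MulAction.toPerm g⁻¹) _ _ fun x => rfl
  -- a vector outside the augmentation hyperplane mapped to a constant
  obtain ⟨w, hw, hwC⟩ : ∃ w : Ω → K, ∑ x, w x ≠ 0 ∧ T w ∈ C := by
    have h1 : T (Pi.single a 1) ∈ W'.toSubmodule := Submodule.mem_sup_left (LinearMap.mem_range_self T _)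
    rw [← hEq] at h1
    obtain ⟨x, hx, c₀, hc, he⟩ := Submodule.mem_sup.1 h1
    obtain ⟨s, hs, rfl⟩ := hx
    refine ⟨Pi.single a 1 - s, ?_, ?_⟩
    · have hs' : ∑ x, s x = 0 := hs
      simp [Pi.sub_apply, Finset.sum_sub_distrib, hs']
    · rw [map_sub, ← he, add_sub_cancel_left]
      exact hc
  -- all rows of `m` are equal
  have hrows : ∀ x x' y, m x y = m x' y := by
    intro x x' y
    let L : Subrepresentation (Cfsg.permRep K P Ω) :=
      { toSubmodule :=
          { carrier := {φ | ∀ u : P, ∑ z, φ z * w ((u : G)⁻¹ • z) = 0}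
            add_mem' := fun {φ ψ} h₁ h₂ u => by simp [add_mul, Finset.sum_add_distrib, h₁ u, h₂ u]
            zero_mem' := fun u => by simp
            smul_mem' := fun r φ h₁ u => by
              simp only [Pi.smul_apply, smul_eq_mul, mul_assoc, ← Finset.mul_sum, h₁ u, mul_zero] }
        apply_mem_toSubmodule := fun t φ hφ u => by
          rw [← hφ (t⁻¹ * u)]
          show ∑ z, φ ((t : G)⁻¹ • z) * w ((u : G)⁻¹ • z) = _
          refine Fintype.sum_equiv (MulAction.toPerm (t : G)⁻¹) _ _ fun z => ?_
          simp [MulAction.toPerm_apply, mul_smul] }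
    have hL : L.toSubmodule = ⊥ := by
      by_contra hne
      have h1 := Cfsg.Agent.S0670.result (G := P) hf hcard L hne
      have h2 : (fun _ => (1 : K)) ∈ L.toSubmodule := h1 (Submodule.mem_span_singleton_self _)
      have h3 := h2 1
      simp at h3
      exact hw h3
    have hmem : (fun z => m x z - m x' z) ∈ L.toSubmodule := by
      intro u
      obtain ⟨r, hr⟩ := Submodule.mem_span_singleton.1 (hCC ▸ hwC)
      have e : ∀ x₀, ∑ z, m x₀ z * w ((u : G)⁻¹ • z) = r := fun x₀ => by
        have := congrFun (hTg (u : G) w) x₀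
        rw [hT] at this
        refine Eq.trans this ?_
        show T w ((u : G)⁻¹ • x₀) = r
        rw [← hr]; simp
      simp only [sub_mul, Finset.sum_sub_distrib, e, sub_self]
    rw [hL, Submodule.mem_bot] at hmem
    exact sub_eq_zero.1 (congrFun hmem y)
  have hdiag : ∀ x, (x, x) ∉ R := by
    rintro x ⟨g, hg⟩
    have e1 : g • a = x := congrArg Prod.fst hg
    have e2 : g • b = x := congrArg Prod.snd hg
    exact hab (MulAction.injective g (e1.trans e2.symm))
  have hoff : ∀ x y, x ≠ y → (if (x, y) ∈ R then (1 : K) else 0) = - (k : K) := by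
    intro x y hxy
    have h1 := hrows x y y
    simp only [m, if_neg hxy, hdiag y, if_false, if_true, sub_zero, zero_sub] at h1
    exact h1
  have hk : (1 : K) = - (k : K) := by
    have hab' : (a, b) ∈ R := MulAction.mem_orbit_self _
    have := hoff a b hab
    rwa [if_pos hab'] at this
  intro x y hxy
  by_contra hn
  have := hoff x y hxy
  rw [if_neg hn, ← hk] at this
  exact zero_ne_one this

end Cfsg.Agent.S0671
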