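import Cfsg.Statements.S0674

import Mathlib
import Cfsg.Agent.Perm.PrimeDegreeHeart

set_option autoImplicit false
set_option linter.style.haveILetI false
open Cfsg

namespace Cfsg.Agent.S0674

/-- Let `G` be a non-solvable transitive permutation group of prime degree `p` and `K` a field of characteristic `p`. Then the heart of the permutation module is irreducible: an invariant subspace containing the constants and contained in the sum-zero functions is one or the other. -/
theorem result {α : Type*} [Fintype α] [DecidableEq α] {p : ℕ} [Fact p.Prime] (hα : Fintype.card α = p) (G : Subgroup (Equiv.Perm α)) [MulAction.IsPretransitive G α] (hG : ¬ Group.IsSolvable G) {K : Type*} [Field K] [CharP K p] (W : Subrepresentation (Cfsg.permRep K G α)) (h₁ : (Cfsg.permConstants K G α).toSubmodule ≤ W.toSubmodule) (h₂ : W.toSubmodule ≤ (Cfsg.permSumZero K G α).toSubmodule) : W = Cfsg.permConstants K G α ∨ W = Cfsg.permSumZero K G α := by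
  classical
  have hp : p.Prime := Fact.out
  have h2 := hp.two_le
  haveI : Nonempty α := Fintype.card_pos_iff.1 (by omega)
  obtain ⟨a⟩ := (inferInstance : Nonempty α)
  have hdvd : p ∣ Nat.card G := by
    rw [← hα, ← Nat.card_eq_fintype_card, ← MulAction.index_stabilizer_of_transitive G a]
    exact Subgroup.index_dvd_card _
  obtain ⟨σ, hσ⟩ := exists_prime_orderOf_dvd_card' (G := G) p hdvd
  -- labelling
  have hper : Function.minimalPeriod (fun x => σ • x) a = p ∨ Function.minimalPeriod (fun x => σ • x) a = 1 := by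
    have hd : Function.minimalPeriod (fun x => σ • x) a ∣ p := by
      rw [← MulAction.pow_smul_eq_iff_minimalPeriod_dvd, ← hσ, pow_orderOf_eq_one, one_smul]
    exact ((Nat.dvd_prime hp).1 hd).symm
  have hσ' : orderOf (σ : Equiv.Perm α) = p := by rw [Subgroup.orderOf_coe, hσ]
  have hcyc := Equiv.Perm.isCycle_of_prime_order' (σ := (σ : Equiv.Perm α)) (by rw [hσ']; exact hp)
    (by rw [hσ', hα]; omega)
  have hsupp : (σ : Equiv.Perm α).support = Finset.univ := by
    apply Finset.eq_univ_of_card
    rw [← hcyc.orderOf, hσ', hα]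
  have hmove : (σ : Equiv.Perm α) a ≠ a := Equiv.Perm.mem_support.1 (hsupp ▸ Finset.mem_univ a)
  replace hper : Function.minimalPeriod (fun x => σ • x) a = p := by
    rcases hper with h | h
    · exact h
    · exact absurd (Function.minimalPeriod_eq_one_iff_isFixedPt.1 h) hmove
  let lab : ZMod p → α := fun x => σ ^ x.val • a
  have hlab : Function.Bijective lab := by
    rw [Fintype.bijective_iff_injective_and_card]
    refine ⟨fun x y hxy => ?_, by simp [hα]⟩
    have hx : x.val < p := ZMod.val_lt x
    have hy : y.val < p := ZMod.val_lt y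
    simp only [lab] at hxy
    apply ZMod.val_injective p
    have e1 : (fun z => σ • z)^[x.val] a = (fun z => σ • z)^[y.val] a := by
      simpa [smul_iterate] using hxy
    exact Function.iterate_injOn_Iio_minimalPeriod (by rw [hper]; exact hx) (by rw [hper]; exact hy) e1
  let e : ZMod p ≃ α := Equiv.ofBijective lab hlab
  have hnat : ∀ n : ℕ, σ ^ n • a = e (n : ZMod p) := by
    intro n
    show _ = σ ^ ((n : ZMod p)).val • a
    rw [ZMod.val_natCast, ← hσ, pow_mod_orderOf]
  have hsucc : ∀ x : ZMod p, σ • e x = e (x + 1) := by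
    intro x
    rw [← ZMod.natCast_zmod_val x, ← hnat, ← mul_smul, ← pow_succ', hnat, Nat.cast_add, Nat.cast_one]
  let Wp : Submodule K (ZMod p → K) := W.toSubmodule.comap (LinearMap.funLeft K K e.symm)
  have hWp : ∀ f, f ∈ Wp ↔ (fun x => f (e.symm x)) ∈ W.toSubmodule := fun f => Iff.rfl
  have hinvG : ∀ (g : G) (f : ZMod p → K), f ∈ Wp → (fun x => f (e.symm (g • e x))) ∈ Wp := by
    intro g f hf
    rw [hWp] at hf ⊢
    have := W.apply_mem_toSubmodule g⁻¹ hf
    convert this using 1
    funext x
    show _ = f (e.symm (g⁻¹⁻¹ • x))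
    rw [inv_inv, e.apply_symm_apply]
  have hshift : ∀ f ∈ Wp, (fun x => f (x + 1)) ∈ Wp := by
    intro f hf
    convert hinvG σ f hf using 1
    funext x
    rw [hsucc, e.symm_apply_apply]
  have hone : (fun _ => (1 : K)) ∈ Wp := h₁ (Submodule.mem_span_singleton_self _)
  have hne : Wp ≠ ⊥ := by
    rw [Submodule.ne_bot_iff]
    exact ⟨_, hone, fun h => one_ne_zero (congrFun h 0)⟩
  obtain ⟨d, hd, hiff⟩ := CfsgLib.Perm.PrimeHeart.exists_degree_bound Wp hne hshift
  have hdp : d ≤ p - 2 := by
    by_contra hlt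
    have hmem := (hiff (Polynomial.X ^ (p - 1)) (by rw [Polynomial.natDegree_X_pow])).2
      (by rw [Polynomial.natDegree_X_pow]; omega)
    have h0 : ∑ x, (fun x => (Polynomial.X ^ (p - 1) : Polynomial K).eval
        (CfsgLib.Perm.PrimeHeart.cst p K x)) (e.symm x) = 0 := h₂ hmem
    rw [Equiv.sum_comp e.symm (fun x => (Polynomial.X ^ (p - 1) : Polynomial K).eval
        (CfsgLib.Perm.PrimeHeart.cst p K x))] at h0
    rw [CfsgLib.Perm.PrimeHeart.sum_eval (by rw [Polynomial.natDegree_X_pow])] at h0
    simp at h0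
  -- membership of a function
  have hmemW : ∀ f : α → K, ∃ q : Polynomial K, q.natDegree ≤ p - 1 ∧
      (∀ x, f (e x) = q.eval (CfsgLib.Perm.PrimeHeart.cst p K x)) ∧
      (f ∈ W.toSubmodule ↔ q.natDegree ≤ d) := by
    intro f
    obtain ⟨q, hq, hqe⟩ := CfsgLib.Perm.PrimeHeart.exists_interp (p := p) (fun x => f (e x))
    refine ⟨q, hq, fun x => (hqe x).symm, ?_⟩
    rw [← hiff q hq, hWp]
    simp only [hqe, Equiv.apply_symm_apply]
  by_cases hd0 : d = 0
  · left
    refine Subrepresentation.toSubmodule_injective (le_antisymm (fun f hf => ?_) h₁)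
    obtain ⟨q, hq, hqe, hqW⟩ := hmemW f
    have hq0 := Polynomial.eq_C_of_natDegree_le_zero (le_of_le_of_eq (hqW.1 hf) hd0)
    refine Submodule.mem_span_singleton.2 ⟨q.coeff 0, funext fun x => ?_⟩
    rw [← e.apply_symm_apply x, hqe, hq0]
    simp
  by_cases hdmax : d = p - 2
  · right
    refine Subrepresentation.toSubmodule_injective (le_antisymm h₂ (fun f hf => ?_))
    obtain ⟨q, hq, hqe, hqW⟩ := hmemW f
    refine hqW.2 ?_
    have h0 : ∑ x, f x = 0 := hf
    rw [← Equiv.sum_comp e f] at h0
    simp only [hqe] at h0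
    rw [CfsgLib.Perm.PrimeHeart.sum_eval hq, neg_eq_zero] at h0
    by_contra hlt
    have hdeg : q.natDegree = p - 1 := by omega
    have : q.leadingCoeff = 0 := by rw [Polynomial.leadingCoeff, hdeg]; exact h0
    rw [Polynomial.leadingCoeff_eq_zero] at this
    rw [this, Polynomial.natDegree_zero] at hdeg
    omega
  exfalso
  apply hG
  let π : G → (ZMod p ≃ ZMod p) := fun g => e.trans ((MulAction.toPerm g).trans e.symm)
  have hπ : ∀ g x, π g x = e.symm (g • e x) := fun g x => rfl
  have hinv : ∀ g : G, CfsgLib.Perm.PrimeHeart.Inv p K d (π g) := by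
    intro g q hq
    obtain ⟨r, hr, hre⟩ := CfsgLib.Perm.PrimeHeart.exists_interp (p := p)
      (fun x => q.eval (CfsgLib.Perm.PrimeHeart.cst p K (π g x)))
    refine ⟨r, (hiff r hr).1 ?_, hre⟩
    simp only [hre, hπ]
    exact hinvG g _ ((hiff q (by omega)).2 hq)
  have haff : ∀ (g : G) (x : ZMod p), π g x = (π g 1 - π g 0) * x + π g 0 := by
    intro g
    by_cases hsmall : 2 * d ≤ p - 2
    · exact CfsgLib.Perm.PrimeHeart.affine_of_inv (by omega) hsmall (π g).injective (hinv g)
    · refine CfsgLib.Perm.PrimeHeart.affine_of_inv (K := K) (d := p - 2 - d) (by omega) (by omega)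
        (π g).injective (CfsgLib.Perm.PrimeHeart.inv_dual hdp (π g) ?_)
      have he : π g⁻¹ = (π g).symm := by
        refine Equiv.ext fun x => ((π g).eq_symm_apply).2 ?_
        simp [hπ]
      rw [← he]
      exact hinv g⁻¹
  have hmul : ∀ (g h : G) x, π (g * h) x = π g (π h x) := fun g h x => by
    simp [hπ, mul_smul]
  let φ : G →* ZMod p :=
    { toFun := fun g => π g 1 - π g 0
      map_one' := by simp [hπ]
      map_mul' := fun g h => by
        rw [hmul, hmul, haff g (π h 1), haff g (π h 0)]
        ring }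
  have hcomm : ∀ g h : φ.toHomUnits.ker, g * h = h * g := by
    intro g h
    have h1 : ∀ u : φ.toHomUnits.ker, ∀ x, π (u : G) x = x + π (u : G) 0 := fun u x => by
      have : φ (u : G) = 1 := congrArg Units.val (MonoidHom.mem_ker.1 u.2)
      rw [haff (u : G) x, show π (u : G) 1 - π (u : G) 0 = 1 from this, one_mul]
    apply Subtype.ext
    apply Subtype.ext
    refine Equiv.ext fun x => ?_
    have e1 : π ((g : G) * h) (e.symm x) = π ((h : G) * g) (e.symm x) := by
      rw [hmul, hmul, h1 g, h1 h, h1 h (π g _), h1 g (e.symm x)]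
      ring
    rw [hπ, hπ, e.apply_symm_apply] at e1
    exact e.symm.injective e1
  haveI := Group.isSolvable_of_comm hcomm
  exact Group.isSolvable_of_ker_le_range φ.toHomUnits.ker.subtype φ.toHomUnits (by simp)

end Cfsg.Agent.S0674
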