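import Cfsg.Statements.S0262
import Mathlib

set_option autoImplicit false
open Cfsg

namespace Cfsg.Agent.S0262

/-- For an odd prime r different from the characteristic, the Sylow r-subgroups of SL_2(q) are cyclic. -/
theorem result {F : Type*} [Field F] [Fintype F] (p : ℕ) [Fact p.Prime] [CharP F p] (r : ℕ) [Fact r.Prime] (hr : r ≠ 2) (hrp : r ≠ p) (R : Sylow r (Matrix.SpecialLinearGroup (Fin 2) F)) : IsCyclic (R : Subgroup (Matrix.SpecialLinearGroup (Fin 2) F)) := by
  classical
  have hr' : r.Prime := Fact.out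
  rcases subsingleton_or_nontrivial R with h | h
  · infer_instance
  haveI : Nontrivial (Subgroup.center R) := R.isPGroup'.center_nontrivial
  obtain ⟨⟨z, hzc⟩, hzo⟩ := exists_prime_orderOf_dvd_card' (G := Subgroup.center (R : Subgroup (Matrix.SpecialLinearGroup (Fin 2) F))) r
    ((R.isPGroup'.to_subgroup _).card_eq_or_dvd.resolve_left Finite.one_lt_card.ne')
  rw [Subgroup.orderOf_mk, ← Subgroup.orderOf_coe] at hzo
  obtain ⟨Z, hZ⟩ : ∃ Z, Z = (z : Matrix.SpecialLinearGroup (Fin 2) F).1 := ⟨_, rfl⟩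
  have hZr : Z ^ r = 1 := by
    have h := pow_orderOf_eq_one (z : Matrix.SpecialLinearGroup (Fin 2) F)
    rw [hzo] at h
    rw [hZ, ← Matrix.SpecialLinearGroup.coe_pow, h, Matrix.SpecialLinearGroup.coe_one]
  have hZ1 : Z ≠ 1 := fun h => by
    rw [show (z : Matrix.SpecialLinearGroup (Fin 2) F) = 1 from Subtype.ext (hZ ▸ h), orderOf_one] at hzo
    exact hr'.ne_one hzo.symm
  obtain ⟨τ, hτ⟩ : ∃ τ, τ = Z.trace := ⟨_, rfl⟩
  have hdet : Z 0 0 * Z 1 1 - Z 0 1 * Z 1 0 = 1 := by
    rw [← Matrix.det_fin_two, hZ]; exact (z : Matrix.SpecialLinearGroup (Fin 2) F).2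
  have hCH : Z * Z = τ • Z - 1 := by
    have htr : τ = Z 0 0 + Z 1 1 := by rw [hτ, Matrix.trace_fin_two]
    ext i j
    fin_cases i <;> fin_cases j <;> simp [Matrix.mul_apply, Fin.sum_univ_two, htr]
    · linear_combination -hdet
    · ring
    · ring
    · linear_combination -hdet
  haveI : CharP (Matrix (Fin 2) (Fin 2) F) p := inferInstance
  have ht : ∀ c : F, c * c = 1 → τ ≠ 2 * c := by
    intro c hc e
    have hcm : Commute Z (c • (1 : Matrix (Fin 2) (Fin 2) F)) := (Commute.one_right Z).smul_right c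
    have h0 : (Z - c • (1 : Matrix (Fin 2) (Fin 2) F)) ^ 2 = 0 := by
      rw [pow_two, sub_mul, mul_sub, mul_sub, hCH, e, Matrix.mul_smul, Matrix.mul_one, Matrix.smul_mul,
        Matrix.smul_mul, Matrix.one_mul, Matrix.one_mul, smul_smul, hc, one_smul, two_mul, add_smul]
      abel
    have hp2 : 2 ≤ p := (Fact.out : p.Prime).two_le
    have h1 : (Z - c • (1 : Matrix (Fin 2) (Fin 2) F)) ^ p = 0 := pow_eq_zero_of_le hp2 h0
    rw [sub_pow_char_of_commute p hcm, sub_eq_zero, smul_pow, one_pow] at h1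
    have hcp : (c ^ p) ^ 2 = 1 := by rw [← pow_mul, mul_comm, pow_mul, pow_two, hc, one_pow]
    have h2 : Z ^ (p * 2) = 1 := by rw [pow_mul, h1, smul_pow, one_pow, hcp, one_smul]
    refine hZ1 ?_
    have hco : r.Coprime (p * 2) := Nat.Coprime.mul_right ((Nat.coprime_primes hr' Fact.out).2 hrp)
      ((Nat.coprime_primes hr' Nat.prime_two).2 hr)
    have := pow_gcd_eq_one.2 ⟨hZr, h2⟩
    rwa [hco.gcd_eq_one, pow_one] at this
  have hnd : ¬ ∃ d : F, Z = d • (1 : Matrix (Fin 2) (Fin 2) F) := by
    rintro ⟨d, hd⟩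
    have h1 : d * d = 1 := by
      have := hdet
      simp [hd] at this
      exact this
    exact ht d h1 (by rw [hτ, Matrix.trace_fin_two, hd]; simp; ring)
  -- the commutant of `Z` consists of its linear polynomials
  have hcomm : ∀ X : Matrix (Fin 2) (Fin 2) F, X * Z = Z * X → ∃ a b : F, X = a • (1 : Matrix (Fin 2) (Fin 2) F) + b • Z := by
    intro X hX
    have e00 := congrFun (congrFun hX 0) 0
    have e01 := congrFun (congrFun hX 0) 1
    have e10 := congrFun (congrFun hX 1) 0
    simp only [Matrix.mul_apply, Fin.sum_univ_two] at e00 e01 e10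
    by_cases h01 : Z 0 1 ≠ 0
    · refine ⟨X 0 0 - X 0 1 / Z 0 1 * Z 0 0, X 0 1 / Z 0 1, ?_⟩
      ext i j
      fin_cases i <;> fin_cases j <;> simp
      · field_simp
      · field_simp; linear_combination -e00
      · field_simp; linear_combination -e01
    push Not at h01
    by_cases h10 : Z 1 0 ≠ 0
    · refine ⟨X 0 0 - X 1 0 / Z 1 0 * Z 0 0, X 1 0 / Z 1 0, ?_⟩
      ext i j
      fin_cases i <;> fin_cases j <;> simp
      · field_simp; linear_combination e00
      · field_simp
      · field_simp; linear_combination e10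
    push Not at h10
    have hne : Z 0 0 - Z 1 1 ≠ 0 := fun e => hnd ⟨Z 0 0, by
      ext i j; fin_cases i <;> fin_cases j <;> simp [h01, h10]; exact (sub_eq_zero.1 e).symm⟩
    simp only [h01, h10] at e01 e10
    have hX01 : X 0 1 = 0 := mul_right_cancel₀ hne (by linear_combination -e01)
    have hX10 : X 1 0 = 0 := mul_right_cancel₀ hne (by linear_combination e10)
    refine ⟨X 0 0 - (X 0 0 - X 1 1) / (Z 0 0 - Z 1 1) * Z 0 0, (X 0 0 - X 1 1) / (Z 0 0 - Z 1 1), ?_⟩
    ext i j
    fin_cases i <;> fin_cases j <;> simp [h01, h10, hX01, hX10]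
    field_simp
    ring
  obtain ⟨l, hl⟩ : ∃ l : AlgebraicClosure F,
      (Polynomial.X ^ 2 - Polynomial.C (algebraMap F (AlgebraicClosure F) τ) * Polynomial.X + 1).IsRoot l := by
    refine IsAlgClosed.exists_root _ ?_
    have : (Polynomial.X ^ 2 - Polynomial.C (algebraMap F (AlgebraicClosure F) τ) * Polynomial.X + 1).natDegree = 2 := by
      compute_degree!
    intro h0
    have := Polynomial.natDegree_eq_of_degree_eq_some (n := 0) (by simpa using h0)
    omega
  simp only [Polynomial.IsRoot.def, Polynomial.eval_add, Polynomial.eval_sub, Polynomial.eval_pow, Polynomial.eval_X,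
    Polynomial.eval_mul, Polynomial.eval_C, Polynomial.eval_one] at hl
  obtain ⟨f, hf⟩ : ∃ f : F →+* AlgebraicClosure F, f = algebraMap F (AlgebraicClosure F) := ⟨_, rfl⟩
  rw [← hf] at hl
  have hin : ∀ x : (R : Subgroup (Matrix.SpecialLinearGroup (Fin 2) F)), ∃ a b : F,
      x.1.1 = a • (1 : Matrix (Fin 2) (Fin 2) F) + b • Z := fun x => hcomm _ (by
    have h := congrArg (fun w : (R : Subgroup (Matrix.SpecialLinearGroup (Fin 2) F)) => w.1.1)
      (Subgroup.mem_center_iff.1 hzc x)
    rw [hZ]; simpa using h)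
  choose A B hAB using hin
  have huniq : ∀ a b a' b' : F, a • (1 : Matrix (Fin 2) (Fin 2) F) + b • Z = a' • 1 + b' • Z → a = a' ∧ b = b' := by
    intro a b a' b' h
    by_cases hb : b = b'
    · subst hb
      have h' : a • (1 : Matrix (Fin 2) (Fin 2) F) = a' • 1 := add_right_cancel h
      have := congrFun (congrFun h' 0) 0
      simp at this
      exact ⟨this, rfl⟩
    · refine absurd ⟨(a - a') / (b' - b), ?_⟩ hnd
      have h2 : (b' - b) • Z = (a - a') • (1 : Matrix (Fin 2) (Fin 2) F) := by
        rw [sub_smul, sub_smul, sub_eq_sub_iff_add_eq_add, add_comm, ← h]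
      rw [div_eq_inv_mul, ← smul_smul, ← h2, smul_smul, inv_mul_cancel₀ (sub_ne_zero.2 (Ne.symm hb)), one_smul]
  have hone : A 1 = 1 ∧ B 1 = 0 := huniq _ _ _ _ (by rw [← hAB]; simp)
  let φ : (R : Subgroup (Matrix.SpecialLinearGroup (Fin 2) F)) →* AlgebraicClosure F :=
    { toFun := fun x => f (A x) + f (B x) * l
      map_one' := by rw [hone.1, hone.2]; simp
      map_mul' := fun x y => by
        obtain ⟨h1, h2⟩ := huniq (A (x * y)) (B (x * y)) (A x * A y - B x * B y)
            (A x * B y + B x * A y + τ * (B x * B y)) (by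
          rw [← hAB]
          show x.1.1 * y.1.1 = _
          rw [hAB, hAB, add_mul, mul_add, mul_add, Matrix.smul_mul, Matrix.one_mul, Matrix.smul_mul, Matrix.one_mul,
            Matrix.mul_smul, Matrix.mul_one, Matrix.smul_mul, Matrix.mul_smul, hCH]
          match_scalars <;> ring)
        rw [h1, h2, map_sub, map_add, map_add, map_mul, map_mul, map_mul, map_mul, map_mul, map_mul]
        linear_combination (-(f (B x) * f (B y))) * hl }
  refine isCyclic_of_subgroup_isDomain φ fun x y hxy => ?_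
  have key : ∀ w, φ w = 1 → w = 1 := by
    intro w hw
    change f (A w) + f (B w) * l = 1 at hw
    have hd : (A w + B w * Z 0 0) * (A w + B w * Z 1 1) - B w * Z 0 1 * (B w * Z 1 0) = 1 := by
      have h := w.1.2
      rw [hAB, Matrix.det_fin_two] at h
      simpa using h
    have hn : A w * A w + A w * B w * τ + B w * B w = 1 := by
      rw [hτ, Matrix.trace_fin_two]
      linear_combination hd - B w * B w * hdet
    have hnf : f (A w) * f (A w) + f (A w) * f (B w) * f τ + f (B w) * f (B w) = 1 := by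
      simpa using congrArg f hn
    have h2 : f (A w) + f (B w) * (f τ - l) = 1 := by
      linear_combination hnf - (f (B w) * f (B w)) * hl - (f (A w) + f (B w) * (f τ - l)) * hw
    by_cases hb : B w = 0
    · rw [hb, map_zero, zero_mul, add_zero, ← map_one f] at hw
      refine Subtype.ext (Subtype.ext ?_)
      rw [hAB, f.injective hw, hb]
      simp
    exfalso
    have h3 : f τ = 2 * l := mul_left_cancel₀ ((map_ne_zero f).2 hb) (by linear_combination h2 - hw)
    have h4 : l * l = 1 := by linear_combination -hl - l * h3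
    have h5 : τ * τ = 2 * 2 := f.injective (by
      rw [map_mul, map_mul, map_ofNat]; linear_combination (f τ + 2 * l) * h3 + 4 * h4)
    rcases mul_self_eq_mul_self_iff.1 h5 with h6 | h6
    · exact ht 1 (by ring) (by rw [h6]; ring)
    · exact ht (-1) (by ring) (by rw [h6]; ring)
  exact inv_mul_eq_one.1 (key (x⁻¹ * y) (by
    rw [map_mul, ← hxy, ← map_mul, inv_mul_cancel, map_one]))

end Cfsg.Agent.S0262
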