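import Cfsg.Statements.S3377
import Mathlib.GroupTheory.PresentedGroup
import Mathlib.GroupTheory.SpecificGroups.Alternating
import Mathlib.Tactic
-- import your own Cfsg.Agent.* helpers here

set_option autoImplicit false
open Cfsg

namespace Cfsg.Agent.S3377

/-- The relators. -/
abbrev rels : Set (FreeGroup (Fin 2)) :=
  {FreeGroup.of (0 : Fin 2) ^ 3, FreeGroup.of (1 : Fin 2) ^ 5, (FreeGroup.of (0 : Fin 2) * FreeGroup.of 1) ^ 2}

/-- The presented group. -/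
abbrev PG := PresentedGroup rels
/-- First generator. -/
abbrev aG : PG := PresentedGroup.of (0 : Fin 2)
/-- Second generator. -/
abbrev bG : PG := PresentedGroup.of (1 : Fin 2)

theorem base0 (x : PG) : (aG * (aG * (aG * x))) = x := by
  have h : aG ^ 3 = 1 := PresentedGroup.one_of_mem (x := FreeGroup.of (0 : Fin 2) ^ 3) (by simp)
  rw [← mul_assoc, ← mul_assoc, (pow_three' aG).symm, h, one_mul]

theorem base1 (x : PG) : (bG * (bG * (bG * (bG * (bG * x))))) = x := by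
  have h : bG ^ 5 = 1 := PresentedGroup.one_of_mem (x := FreeGroup.of (1 : Fin 2) ^ 5) (by simp)
  calc _ = bG ^ 5 * x := by simp only [pow_succ, pow_zero, one_mul, mul_assoc]
    _ = x := by rw [h, one_mul]

theorem base2 (x : PG) : (aG * (bG * (aG * (bG * x)))) = x := by
  have h : (aG * bG) ^ 2 = 1 :=
    PresentedGroup.one_of_mem (x := (FreeGroup.of (0 : Fin 2) * FreeGroup.of 1) ^ 2) (by simp)
  calc _ = (aG * bG) ^ 2 * x := by rw [pow_two]; simp only [mul_assoc]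
    _ = x := by rw [h, one_mul]


theorem r0 (x : PG) : (aG * (aG * (aG * x))) = x := base0 x

theorem r1 (x : PG) : (bG * (bG * (bG * (bG * (bG * x))))) = x := base1 x

theorem r2 (x : PG) : (aG * (bG * (aG * (bG * x)))) = x := base2 x

theorem r3 (x : PG) : (bG * (aG * (bG * x))) = (aG * (aG * x)) :=
  ((r0 (bG * (aG * (bG * x))))).symm.trans
    (congrArg (fun t : PG => (aG * (aG * t))) (r2 x))

theorem r4 (x : PG) : (bG * (bG * (bG * (bG * (aG * (aG * x)))))) = (aG * (bG * x)) :=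
  ((congrArg (fun t : PG => (bG * (bG * (bG * (bG * t))))) (r3 x))).symm.trans
    (r1 (aG * (bG * x)))

theorem r5 (x : PG) : (aG * (aG * (bG * (bG * (bG * (bG * x)))))) = (bG * (aG * x)) :=
  ((r3 (bG * (bG * (bG * (bG * x)))))).symm.trans
    (congrArg (fun t : PG => (bG * (aG * t))) (r1 x))

theorem r6 (x : PG) : (aG * (aG * (bG * (bG * (bG * (aG * (aG * x))))))) = (bG * (aG * (aG * (bG * x)))) :=
  ((r3 (bG * (bG * (bG * (aG * (aG * x))))))).symm.trans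
    (congrArg (fun t : PG => (bG * (aG * t))) (r4 x))

theorem r7 (x : PG) : (bG * (bG * (bG * (bG * (aG * x))))) = (aG * (bG * (aG * (aG * x)))) :=
  ((congrArg (fun t : PG => (bG * (bG * (bG * (bG * (aG * t)))))) (r0 x))).symm.trans
    (r4 (aG * (aG * x)))

theorem r8 (x : PG) : (bG * (bG * (bG * (bG * x)))) = (aG * (bG * (aG * x))) :=
  ((congrArg (fun t : PG => (bG * (bG * (bG * (bG * t))))) (r0 x))).symm.trans
    (r4 (aG * x))

theorem r9 (x : PG) : (aG * (bG * (bG * (bG * (aG * (aG * x)))))) = (aG * (aG * (bG * (aG * (aG * (bG * x)))))) :=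
  ((r0 (aG * (bG * (bG * (bG * (aG * (aG * x)))))))).symm.trans
    (congrArg (fun t : PG => (aG * (aG * t))) (r6 x))

theorem r10 (x : PG) : (bG * (bG * (bG * (aG * (aG * x))))) = (aG * (bG * (aG * (aG * (bG * x))))) :=
  ((r0 (bG * (bG * (bG * (aG * (aG * x))))))).symm.trans
    (congrArg (fun t : PG => (aG * t)) (r6 x))

theorem r11 (x : PG) : (bG * (aG * (aG * (bG * (aG * x))))) = (aG * (aG * (bG * (bG * (bG * x))))) :=
  ((congrArg (fun t : PG => (bG * (aG * t))) (r8 x))).symm.trans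
    (r3 (bG * (bG * (bG * x))))

theorem r12 (x : PG) : (bG * (bG * (aG * (aG * (bG * (bG * (bG * x))))))) = (aG * (bG * (aG * (aG * (bG * (bG * (aG * x))))))) :=
  ((congrArg (fun t : PG => (bG * (bG * t))) (r11 x))).symm.trans
    (r10 (bG * (aG * x)))

theorem r13 (x : PG) : (aG * (bG * (aG * (aG * (bG * (bG * (aG * (aG * (bG * x))))))))) = (bG * (bG * (aG * (aG * (bG * (bG * (aG * (aG * x)))))))) :=
  ((r12 (aG * (bG * x)))).symm.trans
    (congrArg (fun t : PG => (bG * (bG * (aG * (aG * (bG * (bG * t))))))) (r3 x))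

theorem r14 (x : PG) : (aG * (aG * (bG * (bG * (aG * (aG * (bG * (bG * (aG * (aG * x)))))))))) = (bG * (aG * (aG * (bG * (bG * (aG * (aG * (bG * x)))))))) :=
  ((congrArg (fun t : PG => (aG * (aG * t))) (r13 x))).symm.trans
    (r0 (bG * (aG * (aG * (bG * (bG * (aG * (aG * (bG * x)))))))))

theorem r15 (x : PG) : (bG * (bG * (aG * (aG * (bG * (bG * (aG * (aG * (bG * (bG * x)))))))))) = (aG * (bG * (bG * (aG * (aG * (bG * (bG * (aG * x)))))))) :=
  (((congrArg (fun t : PG => (bG * (aG * (aG * (bG * t))))) (r14 x)).trans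
    (congrArg (fun t : PG => (bG * t)) (r14 (bG * x))))).symm.trans
    ((((((r11 (aG * (bG * (bG * (aG * (aG * (bG * (bG * (aG * (aG * x)))))))))).trans
    (congrArg (fun t : PG => (aG * (aG * (bG * (bG * t))))) (r3 (bG * (aG * (aG * (bG * (bG * (aG * (aG * x)))))))))).trans
    (congrArg (fun t : PG => (aG * (aG * (bG * t)))) (r11 (aG * (bG * (bG * (aG * (aG * x)))))))).trans
    (congrArg (fun t : PG => (aG * (aG * (bG * (aG * (aG * (bG * (bG * t)))))))) (r3 (bG * (aG * (aG * x)))))).trans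
    (congrArg (fun t : PG => (aG * t)) (r13 (aG * (aG * x))))).trans
    (congrArg (fun t : PG => (aG * (bG * (bG * (aG * (aG * (bG * (bG * t)))))))) (r0 (aG * x))))

theorem r16 (x : PG) : (bG * (aG * (aG * (bG * (bG * (aG * (aG * (bG * (bG * (aG * x)))))))))) = (aG * (bG * (bG * (aG * (aG * (bG * (bG * (aG * (aG * (bG * x)))))))))) :=
  (((((r13 (bG * (aG * (aG * x)))).trans
    (congrArg (fun t : PG => (bG * (bG * (aG * (aG * (bG * t)))))) (r11 (aG * x)))).trans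
    (congrArg (fun t : PG => (bG * t)) (r11 (aG * (bG * (bG * (bG * (aG * x)))))))).trans
    (congrArg (fun t : PG => (bG * (aG * (aG * (bG * (bG * t)))))) (r3 (bG * (bG * (aG * x))))))).symm.trans
    (congrArg (fun t : PG => (aG * (bG * t))) (r14 x))

/-- Value of a word. -/
def ev : List Bool → PG
  | [] => 1
  | false :: w => aG * ev w
  | true :: w => bG * ev w

/-- The normal forms. -/
def W : Fin 60 → List Bool := ![
    [],
    [false],
    [true],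
    [false, false],
    [true, false],
    [false, true],
    [true, true],
    [true, false, false],
    [false, true, false],
    [true, true, false],
    [false, false, true],
    [false, true, true],
    [true, true, true],
    [false, true, false, false],
    [true, true, false, false],
    [false, false, true, false],
    [false, true, true, false],
    [true, true, true, false],
    [true, false, false, true],
    [false, false, true, true],
    [false, true, true, true],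
    [false, false, true, false, false],
    [false, true, true, false, false],
    [false, true, false, false, true],
    [false, false, true, true, true],
    [false, false, true, true, false],
    [false, true, true, true, false],
    [true, true, false, false, true],
    [true, false, false, true, true],
    [false, false, true, true, true, false],
    [false, false, true, true, false, false],
    [false, false, true, false, false, true],
    [true, false, false, true, true, true],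
    [true, false, false, true, true, false],
    [false, true, true, false, false, true],
    [false, true, false, false, true, true],
    [true, true, false, false, true, true],
    [true, false, false, true, true, true, false],
    [true, false, false, true, true, false, false],
    [false, true, false, false, true, true, true],
    [false, true, false, false, true, true, false],
    [true, true, false, false, true, true, false],
    [false, false, true, true, false, false, true],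
    [false, false, true, false, false, true, true],
    [false, true, true, false, false, true, true],
    [false, true, false, false, true, true, true, false],
    [false, true, false, false, true, true, false, false],
    [true, true, false, false, true, true, false, false],
    [false, false, true, false, false, true, true, true],
    [false, false, true, false, false, true, true, false],
    [false, true, true, false, false, true, true, false],
    [true, false, false, true, true, false, false, true],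
    [false, false, true, true, false, false, true, true],
    [false, false, true, false, false, true, true, true, false],
    [false, false, true, false, false, true, true, false, false],
    [false, true, true, false, false, true, true, false, false],
    [false, false, true, true, false, false, true, true, false],
    [true, true, false, false, true, true, false, false, true],
    [true, false, false, true, true, false, false, true, true],
    [false, true, true, false, false, true, true, false, false, true]]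

theorem close_a : ∀ i : Fin 60, ∃ j : Fin 60, aG * ev (W i) = ev (W j)
  | ⟨0, _⟩ => ⟨(1 : Fin 60), rfl⟩
  | ⟨1, _⟩ => ⟨(3 : Fin 60), rfl⟩
  | ⟨2, _⟩ => ⟨(5 : Fin 60), rfl⟩
  | ⟨3, _⟩ => ⟨(0 : Fin 60), (r0 (1 : PG))⟩
  | ⟨4, _⟩ => ⟨(8 : Fin 60), rfl⟩
  | ⟨5, _⟩ => ⟨(10 : Fin 60), rfl⟩
  | ⟨6, _⟩ => ⟨(11 : Fin 60), rfl⟩
  | ⟨7, _⟩ => ⟨(13 : Fin 60), rfl⟩
  | ⟨8, _⟩ => ⟨(15 : Fin 60), rfl⟩
  | ⟨9, _⟩ => ⟨(16 : Fin 60), rfl⟩
  | ⟨10, _⟩ => ⟨(2 : Fin 60), (r0 (bG * (1 : PG)))⟩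
  | ⟨11, _⟩ => ⟨(19 : Fin 60), rfl⟩
  | ⟨12, _⟩ => ⟨(20 : Fin 60), rfl⟩
  | ⟨13, _⟩ => ⟨(21 : Fin 60), rfl⟩
  | ⟨14, _⟩ => ⟨(22 : Fin 60), rfl⟩
  | ⟨15, _⟩ => ⟨(4 : Fin 60), (r0 (bG * (aG * (1 : PG))))⟩
  | ⟨16, _⟩ => ⟨(25 : Fin 60), rfl⟩
  | ⟨17, _⟩ => ⟨(26 : Fin 60), rfl⟩
  | ⟨18, _⟩ => ⟨(23 : Fin 60), rfl⟩
  | ⟨19, _⟩ => ⟨(6 : Fin 60), (r0 (bG * (bG * (1 : PG))))⟩
  | ⟨20, _⟩ => ⟨(24 : Fin 60), rfl⟩
  | ⟨21, _⟩ => ⟨(7 : Fin 60), (r0 (bG * (aG * (aG * (1 : PG)))))⟩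
  | ⟨22, _⟩ => ⟨(30 : Fin 60), rfl⟩
  | ⟨23, _⟩ => ⟨(31 : Fin 60), rfl⟩
  | ⟨24, _⟩ => ⟨(12 : Fin 60), (r0 (bG * (bG * (bG * (1 : PG)))))⟩
  | ⟨25, _⟩ => ⟨(9 : Fin 60), (r0 (bG * (bG * (aG * (1 : PG)))))⟩
  | ⟨26, _⟩ => ⟨(29 : Fin 60), rfl⟩
  | ⟨27, _⟩ => ⟨(34 : Fin 60), rfl⟩
  | ⟨28, _⟩ => ⟨(35 : Fin 60), rfl⟩
  | ⟨29, _⟩ => ⟨(17 : Fin 60), (r0 (bG * (bG * (bG * (aG * (1 : PG))))))⟩
  | ⟨30, _⟩ => ⟨(14 : Fin 60), (r0 (bG * (bG * (aG * (aG * (1 : PG))))))⟩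
  | ⟨31, _⟩ => ⟨(18 : Fin 60), (r0 (bG * (aG * (aG * (bG * (1 : PG))))))⟩
  | ⟨32, _⟩ => ⟨(39 : Fin 60), rfl⟩
  | ⟨33, _⟩ => ⟨(40 : Fin 60), rfl⟩
  | ⟨34, _⟩ => ⟨(42 : Fin 60), rfl⟩
  | ⟨35, _⟩ => ⟨(43 : Fin 60), rfl⟩
  | ⟨36, _⟩ => ⟨(44 : Fin 60), rfl⟩
  | ⟨37, _⟩ => ⟨(45 : Fin 60), rfl⟩
  | ⟨38, _⟩ => ⟨(46 : Fin 60), rfl⟩
  | ⟨39, _⟩ => ⟨(48 : Fin 60), rfl⟩
  | ⟨40, _⟩ => ⟨(49 : Fin 60), rfl⟩
  | ⟨41, _⟩ => ⟨(50 : Fin 60), rfl⟩
  | ⟨42, _⟩ => ⟨(27 : Fin 60), (r0 (bG * (bG * (aG * (aG * (bG * (1 : PG)))))))⟩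
  | ⟨43, _⟩ => ⟨(28 : Fin 60), (r0 (bG * (aG * (aG * (bG * (bG * (1 : PG)))))))⟩
  | ⟨44, _⟩ => ⟨(52 : Fin 60), rfl⟩
  | ⟨45, _⟩ => ⟨(53 : Fin 60), rfl⟩
  | ⟨46, _⟩ => ⟨(54 : Fin 60), rfl⟩
  | ⟨47, _⟩ => ⟨(55 : Fin 60), rfl⟩
  | ⟨48, _⟩ => ⟨(32 : Fin 60), (r0 (bG * (aG * (aG * (bG * (bG * (bG * (1 : PG))))))))⟩
  | ⟨49, _⟩ => ⟨(33 : Fin 60), (r0 (bG * (aG * (aG * (bG * (bG * (aG * (1 : PG))))))))⟩
  | ⟨50, _⟩ => ⟨(56 : Fin 60), rfl⟩
  | ⟨51, _⟩ => ⟨(47 : Fin 60), (r13 (1 : PG))⟩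
  | ⟨52, _⟩ => ⟨(36 : Fin 60), (r0 (bG * (bG * (aG * (aG * (bG * (bG * (1 : PG))))))))⟩
  | ⟨53, _⟩ => ⟨(37 : Fin 60), (r0 (bG * (aG * (aG * (bG * (bG * (bG * (aG * (1 : PG)))))))))⟩
  | ⟨54, _⟩ => ⟨(38 : Fin 60), (r0 (bG * (aG * (aG * (bG * (bG * (aG * (aG * (1 : PG)))))))))⟩
  | ⟨55, _⟩ => ⟨(51 : Fin 60), (r14 (1 : PG))⟩
  | ⟨56, _⟩ => ⟨(41 : Fin 60), (r0 (bG * (bG * (aG * (aG * (bG * (bG * (aG * (1 : PG)))))))))⟩
  | ⟨57, _⟩ => ⟨(59 : Fin 60), rfl⟩
  | ⟨58, _⟩ => ⟨(57 : Fin 60), (r13 (bG * (1 : PG)))⟩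
  | ⟨59, _⟩ => ⟨(58 : Fin 60), (r14 (bG * (1 : PG)))⟩
  | ⟨k + 60, h⟩ => absurd h (by omega)

theorem close_b : ∀ i : Fin 60, ∃ j : Fin 60, bG * ev (W i) = ev (W j)
  | ⟨0, _⟩ => ⟨(2 : Fin 60), rfl⟩
  | ⟨1, _⟩ => ⟨(4 : Fin 60), rfl⟩
  | ⟨2, _⟩ => ⟨(6 : Fin 60), rfl⟩
  | ⟨3, _⟩ => ⟨(7 : Fin 60), rfl⟩
  | ⟨4, _⟩ => ⟨(9 : Fin 60), rfl⟩
  | ⟨5, _⟩ => ⟨(3 : Fin 60), (r3 (1 : PG))⟩
  | ⟨6, _⟩ => ⟨(12 : Fin 60), rfl⟩
  | ⟨7, _⟩ => ⟨(14 : Fin 60), rfl⟩
  | ⟨8, _⟩ => ⟨(0 : Fin 60), ((r3 (aG * (1 : PG))).trans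
    (r0 (1 : PG)))⟩
  | ⟨9, _⟩ => ⟨(17 : Fin 60), rfl⟩
  | ⟨10, _⟩ => ⟨(18 : Fin 60), rfl⟩
  | ⟨11, _⟩ => ⟨(10 : Fin 60), (r3 (bG * (1 : PG)))⟩
  | ⟨12, _⟩ => ⟨(8 : Fin 60), (r8 (1 : PG))⟩
  | ⟨13, _⟩ => ⟨(1 : Fin 60), ((r3 (aG * (aG * (1 : PG)))).trans
    (r0 (aG * (1 : PG))))⟩
  | ⟨14, _⟩ => ⟨(23 : Fin 60), (r10 (1 : PG))⟩
  | ⟨15, _⟩ => ⟨(24 : Fin 60), (r11 (1 : PG))⟩
  | ⟨16, _⟩ => ⟨(15 : Fin 60), (r3 (bG * (aG * (1 : PG))))⟩
  | ⟨17, _⟩ => ⟨(13 : Fin 60), (r8 (aG * (1 : PG)))⟩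
  | ⟨18, _⟩ => ⟨(27 : Fin 60), rfl⟩
  | ⟨19, _⟩ => ⟨(28 : Fin 60), rfl⟩
  | ⟨20, _⟩ => ⟨(19 : Fin 60), (r3 (bG * (bG * (1 : PG))))⟩
  | ⟨21, _⟩ => ⟨(29 : Fin 60), (r11 (aG * (1 : PG)))⟩
  | ⟨22, _⟩ => ⟨(21 : Fin 60), (r3 (bG * (aG * (aG * (1 : PG)))))⟩
  | ⟨23, _⟩ => ⟨(5 : Fin 60), ((r3 (aG * (aG * (bG * (1 : PG))))).trans
    (r0 (aG * (bG * (1 : PG)))))⟩
  | ⟨24, _⟩ => ⟨(32 : Fin 60), rfl⟩
  | ⟨25, _⟩ => ⟨(33 : Fin 60), rfl⟩
  | ⟨26, _⟩ => ⟨(25 : Fin 60), (r3 (bG * (bG * (aG * (1 : PG)))))⟩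
  | ⟨27, _⟩ => ⟨(35 : Fin 60), (r10 (bG * (1 : PG)))⟩
  | ⟨28, _⟩ => ⟨(36 : Fin 60), rfl⟩
  | ⟨29, _⟩ => ⟨(37 : Fin 60), rfl⟩
  | ⟨30, _⟩ => ⟨(38 : Fin 60), rfl⟩
  | ⟨31, _⟩ => ⟨(30 : Fin 60), ((r11 (aG * (bG * (1 : PG)))).trans
    (congrArg (fun t : PG => (aG * (aG * (bG * (bG * t))))) (r3 (1 : PG))))⟩
  | ⟨32, _⟩ => ⟨(40 : Fin 60), (r12 (1 : PG))⟩
  | ⟨33, _⟩ => ⟨(41 : Fin 60), rfl⟩
  | ⟨34, _⟩ => ⟨(31 : Fin 60), (r3 (bG * (aG * (aG * (bG * (1 : PG))))))⟩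
  | ⟨35, _⟩ => ⟨(11 : Fin 60), ((r3 (aG * (aG * (bG * (bG * (1 : PG)))))).trans
    (r0 (aG * (bG * (bG * (1 : PG))))))⟩
  | ⟨36, _⟩ => ⟨(39 : Fin 60), (r10 (bG * (bG * (1 : PG))))⟩
  | ⟨37, _⟩ => ⟨(46 : Fin 60), (r12 (aG * (1 : PG)))⟩
  | ⟨38, _⟩ => ⟨(47 : Fin 60), rfl⟩
  | ⟨39, _⟩ => ⟨(20 : Fin 60), ((r3 (aG * (aG * (bG * (bG * (bG * (1 : PG))))))).trans
    (r0 (aG * (bG * (bG * (bG * (1 : PG)))))))⟩
  | ⟨40, _⟩ => ⟨(16 : Fin 60), ((r3 (aG * (aG * (bG * (bG * (aG * (1 : PG))))))).trans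
    (r0 (aG * (bG * (bG * (aG * (1 : PG)))))))⟩
  | ⟨41, _⟩ => ⟨(45 : Fin 60), (r10 (bG * (bG * (aG * (1 : PG)))))⟩
  | ⟨42, _⟩ => ⟨(51 : Fin 60), rfl⟩
  | ⟨43, _⟩ => ⟨(42 : Fin 60), ((r11 (aG * (bG * (bG * (1 : PG))))).trans
    (congrArg (fun t : PG => (aG * (aG * (bG * (bG * t))))) (r3 (bG * (1 : PG)))))⟩
  | ⟨44, _⟩ => ⟨(43 : Fin 60), (r3 (bG * (aG * (aG * (bG * (bG * (1 : PG)))))))⟩
  | ⟨45, _⟩ => ⟨(26 : Fin 60), ((r3 (aG * (aG * (bG * (bG * (bG * (aG * (1 : PG)))))))).trans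
    (r0 (aG * (bG * (bG * (bG * (aG * (1 : PG))))))))⟩
  | ⟨46, _⟩ => ⟨(22 : Fin 60), ((r3 (aG * (aG * (bG * (bG * (aG * (aG * (1 : PG)))))))).trans
    (r0 (aG * (bG * (bG * (aG * (aG * (1 : PG))))))))⟩
  | ⟨47, _⟩ => ⟨(34 : Fin 60), (((r10 (bG * (bG * (aG * (aG * (1 : PG)))))).trans
    (congrArg (fun t : PG => (aG * (bG * (aG * (aG * t))))) (r10 (1 : PG)))).trans
    (congrArg (fun t : PG => (aG * (bG * t))) (r0 (bG * (aG * (aG * (bG * (1 : PG))))))))⟩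
  | ⟨48, _⟩ => ⟨(52 : Fin 60), ((r11 (aG * (bG * (bG * (bG * (1 : PG)))))).trans
    (congrArg (fun t : PG => (aG * (aG * (bG * (bG * t))))) (r3 (bG * (bG * (1 : PG))))))⟩
  | ⟨49, _⟩ => ⟨(48 : Fin 60), (((r11 (aG * (bG * (bG * (aG * (1 : PG)))))).trans
    (congrArg (fun t : PG => (aG * (aG * (bG * (bG * t))))) (r3 (bG * (aG * (1 : PG)))))).trans
    (congrArg (fun t : PG => (aG * (aG * (bG * t)))) (r11 (1 : PG))))⟩
  | ⟨50, _⟩ => ⟨(49 : Fin 60), (r3 (bG * (aG * (aG * (bG * (bG * (aG * (1 : PG))))))))⟩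
  | ⟨51, _⟩ => ⟨(57 : Fin 60), rfl⟩
  | ⟨52, _⟩ => ⟨(58 : Fin 60), rfl⟩
  | ⟨53, _⟩ => ⟨(56 : Fin 60), ((r11 (aG * (bG * (bG * (bG * (aG * (1 : PG))))))).trans
    (congrArg (fun t : PG => (aG * (aG * (bG * (bG * t))))) (r3 (bG * (bG * (aG * (1 : PG)))))))⟩
  | ⟨54, _⟩ => ⟨(53 : Fin 60), (((r11 (aG * (bG * (bG * (aG * (aG * (1 : PG))))))).trans
    (congrArg (fun t : PG => (aG * (aG * (bG * (bG * t))))) (r3 (bG * (aG * (aG * (1 : PG))))))).trans
    (congrArg (fun t : PG => (aG * (aG * (bG * t)))) (r11 (aG * (1 : PG)))))⟩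
  | ⟨55, _⟩ => ⟨(54 : Fin 60), (r3 (bG * (aG * (aG * (bG * (bG * (aG * (aG * (1 : PG)))))))))⟩
  | ⟨56, _⟩ => ⟨(59 : Fin 60), (r16 (1 : PG))⟩
  | ⟨57, _⟩ => ⟨(44 : Fin 60), (((r10 (bG * (bG * (aG * (aG * (bG * (1 : PG))))))).trans
    (congrArg (fun t : PG => (aG * (bG * (aG * (aG * t))))) (r10 (bG * (1 : PG))))).trans
    (congrArg (fun t : PG => (aG * (bG * t))) (r0 (bG * (aG * (aG * (bG * (bG * (1 : PG)))))))))⟩
  | ⟨58, _⟩ => ⟨(50 : Fin 60), (r15 (1 : PG))⟩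
  | ⟨59, _⟩ => ⟨(55 : Fin 60), ((r3 (bG * (aG * (aG * (bG * (bG * (aG * (aG * (bG * (1 : PG)))))))))).trans
    (congrArg (fun t : PG => (aG * t)) (r13 (1 : PG))))⟩
  | ⟨k + 60, h⟩ => absurd h (by omega)

/-- The image of the first generator. -/
def pa : Fin 5 → Fin 5 := ![1, 2, 0, 3, 4]
/-- The image of the second generator. -/
def pb : Fin 5 → Fin 5 := ![2, 3, 4, 0, 1]

/-- Action of a word. -/
def act : List Bool → Fin 5 → Fin 5
  | [] => id
  | false :: w => fun i => pa (act w i)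
  | true :: w => fun i => pb (act w i)

/-- The first generator as a permutation. -/
def PA : Equiv.Perm (Fin 5) := ⟨pa, ![2, 0, 1, 3, 4], by decide, by decide⟩
/-- The second generator as a permutation. -/
def PB : Equiv.Perm (Fin 5) := ⟨pb, ![3, 4, 0, 1, 2], by decide, by decide⟩

/-- The first generator in the alternating group. -/
def A5a : alternatingGroup (Fin 5) := ⟨PA, Equiv.Perm.mem_alternatingGroup.2 (by decide +kernel)⟩
/-- The second generator in the alternating group. -/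
def A5b : alternatingGroup (Fin 5) := ⟨PB, Equiv.Perm.mem_alternatingGroup.2 (by decide +kernel)⟩

theorem gen_rels : ∀ r ∈ rels, FreeGroup.lift ![A5a, A5b] r = 1 := by
  rintro r (rfl | rfl | rfl)
  · rw [map_pow, FreeGroup.lift_apply_of]; decide +kernel
  · rw [map_pow, FreeGroup.lift_apply_of]; decide +kernel
  · rw [map_pow, map_mul, FreeGroup.lift_apply_of, FreeGroup.lift_apply_of]; decide +kernel

/-- The map onto the alternating group. -/
def toA5 : PG →* alternatingGroup (Fin 5) := PresentedGroup.toGroup gen_rels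

theorem toA5_ev (w : List Bool) (i : Fin 5) : ((toA5 (ev w) : alternatingGroup (Fin 5)) : Equiv.Perm (Fin 5)) i = act w i := by
  induction w with
  | nil => simp [ev, act]
  | cons g w ih =>
    cases g
    · simp only [ev, map_mul, act, Subgroup.coe_mul, Equiv.Perm.mul_apply, ih]
      show ((toA5 aG : alternatingGroup (Fin 5)) : Equiv.Perm (Fin 5)) _ = _
      rw [toA5, PresentedGroup.toGroup.of]
      rfl
    · simp only [ev, map_mul, act, Subgroup.coe_mul, Equiv.Perm.mul_apply, ih]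
      show ((toA5 bG : alternatingGroup (Fin 5)) : Equiv.Perm (Fin 5)) _ = _
      rw [toA5, PresentedGroup.toGroup.of]
      rfl

theorem act_nodup : (List.ofFn fun k : Fin 60 => List.ofFn (act (W k))).Nodup := by decide +kernel

theorem comp_inj : Function.Injective fun k : Fin 60 => toA5 (ev (W k)) := by
  intro i j h
  refine List.nodup_ofFn.1 act_nodup ?_
  show List.ofFn (act (W i)) = List.ofFn (act (W j))
  refine congrArg List.ofFn (funext fun x => ?_)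
  rw [← toA5_ev, ← toA5_ev]
  exact congrArg (fun g : alternatingGroup (Fin 5) => (g : Equiv.Perm (Fin 5)) x) h

theorem ev_surj : ∀ g : PG, ∃ i, ev (W i) = g := by
  have hpos : ∀ g ∈ Submonoid.closure ({aG, bG} : Set PG), ∀ i, ∃ j, g * ev (W i) = ev (W j) := by
    intro g hg
    induction hg using Submonoid.closure_induction with
    | mem x hx => rcases hx with rfl | rfl
                  · exact close_a
                  · exact close_b
    | one => exact fun i => ⟨i, one_mul _⟩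
    | mul x y _ _ ihx ihy =>
      intro i
      obtain ⟨j, hj⟩ := ihy i
      obtain ⟨k, hk⟩ := ihx j
      exact ⟨k, by rw [mul_assoc, hj, hk]⟩
  intro g
  have hg : g ∈ Submonoid.closure ({aG, bG} : Set PG) := by
    have h := PresentedGroup.closure_range_of rels
    have hr : Set.range (PresentedGroup.of (rels := rels)) ⊆ ({aG, bG} : Set PG) := by
      rintro _ ⟨i, rfl⟩
      fin_cases i
      · exact Or.inl rfl
      · exact Or.inr rfl
    have hg : g ∈ Subgroup.closure ({aG, bG} : Set PG) := Subgroup.closure_mono hr (h ▸ Subgroup.mem_top g)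
    have ha : (aG ^ 2 : PG) * aG = 1 := by
      have := base0 (1 : PG); simpa [pow_two, mul_assoc] using this
    have hb : (bG ^ 4 : PG) * bG = 1 := by
      have := base1 (1 : PG); simpa [pow_succ, mul_assoc] using this
    have hinv : ∀ y ∈ ({aG, bG} : Set PG), y⁻¹ ∈ Submonoid.closure ({aG, bG} : Set PG) := by
      rintro y (rfl | rfl)
      · rw [← eq_inv_of_mul_eq_one_left ha]; exact pow_mem (Submonoid.subset_closure (show aG ∈ ({aG, bG} : Set PG) from Or.inl rfl)) 2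
      · rw [← eq_inv_of_mul_eq_one_left hb]; exact pow_mem (Submonoid.subset_closure (show bG ∈ ({aG, bG} : Set PG) from Or.inr rfl)) 4
    rw [← Subgroup.mem_toSubmonoid, Subgroup.closure_toSubmonoid] at hg
    refine Submonoid.closure_le.2 (Set.union_subset Submonoid.subset_closure fun y hy => ?_) hg
    simpa using hinv _ (Set.mem_inv.1 hy)
  obtain ⟨j, hj⟩ := hpos g hg 0
  exact ⟨j, by rw [← hj]; exact mul_one g⟩

end Cfsg.Agent.S3377

namespace Cfsg.Agent.S3377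

/-- The alternating group of degree 5 has the presentation ⟨x, y | x³ = 1, y⁵ = 1, (xy)² = 1⟩: the group so presented is isomorphic to Alt(5). -/
theorem result :
    Nonempty (PresentedGroup ({FreeGroup.of (0 : Fin 2) ^ 3, FreeGroup.of (1 : Fin 2) ^ 5,
        (FreeGroup.of (0 : Fin 2) * FreeGroup.of 1) ^ 2} : Set (FreeGroup (Fin 2))) ≃* alternatingGroup (Fin 5)) := by
  have hinj : Function.Injective toA5 := fun x y h => by
    obtain ⟨i, rfl⟩ := ev_surj x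
    obtain ⟨j, rfl⟩ := ev_surj y
    rw [comp_inj (a₁ := i) (a₂ := j) h]
  have hcard : Fintype.card (alternatingGroup (Fin 5)) = 60 := by decide +kernel
  have hbij : Function.Bijective fun k : Fin 60 => toA5 (ev (W k)) :=
    (Fintype.bijective_iff_injective_and_card _).2 ⟨comp_inj, by rw [hcard, Fintype.card_fin]⟩
  exact ⟨MulEquiv.ofBijective toA5 ⟨hinj, fun g => by
    obtain ⟨k, hk⟩ := hbij.2 g
    exact ⟨_, hk⟩⟩⟩

end Cfsg.Agent.S3377
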