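import Cfsg.Statements.S3361

import Cfsg.Agent.Perm.RegularExceptional
import Cfsg.Agent.Perm.SL23
import Cfsg.Agent.Perm.RegularInsoluble
import Cfsg.Agent.Inv.CyclicSylow

set_option autoImplicit false
set_option linter.style.haveILetI false
open Cfsg

namespace Cfsg.Agent.S3361
open CfsgLib.Perm.Fpf CfsgLib.Perm.RegularLinear

/-- An irreducible normal cyclic subgroup makes the group semilinear over a field. -/
theorem semilinear_of_irreducible {p : ℕ} [Fact p.Prime] {V : Type*} [AddCommGroup V] [Module (ZMod p) V]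
    [Finite V] [Nontrivial V] (H : Subgroup (V ≃ₗ[ZMod p] V)) (A : Subgroup H) [A.Normal] [IsMulCommutative A]
    (hirr : ∀ W : Submodule (ZMod p) V, Inv H A W → W = ⊥ ∨ W = ⊤) :
    (∃ (F : Type) (_ : Field F) (_ : Fintype F) (e : V ≃+ F),
        ∀ h : H, ∃ (a : F) (σ : F ≃+* F), ∀ v : V, e ((h : V ≃ₗ[ZMod p] V) v) = a * σ (e v)) ∧
      ∃ (C : Subgroup H) (_ : C.Normal), IsCyclic C ∧ IsCyclic (H ⧸ C) := by
  classical
  set S : Subalgebra (ZMod p) (Module.End (ZMod p) V) :=
    Subalgebra.centralizer (ZMod p) ((toEnd H) '' (A : Set H)) with hS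
  have hinj : ∀ r ∈ S, r ≠ 0 → Function.Injective r := fun r hr hr0 => injective_of_irreducible hirr hr hr0
  letI : Field S := (isField_of_injective S hinj).toField
  haveI : Finite (Module.End (ZMod p) V) := Finite.of_injective (fun f => (f : V → V)) DFunLike.coe_injective
  have hAS : ∀ a ∈ A, toEnd H a ∈ S := fun a ha => by
    rintro _ ⟨b, hb, rfl⟩
    rw [← map_mul, ← map_mul]
    exact congrArg (toEnd H) (congrArg Subtype.val (mul_comm' (⟨b, hb⟩ : A) ⟨a, ha⟩))
  have hconj : ∀ h : H, ∀ r ∈ S, toEnd H h * r * toEnd H h⁻¹ ∈ S := by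
    intro h r hr
    rintro _ ⟨a, ha, rfl⟩
    have h1 : toEnd H (h⁻¹ * a * h) * r = r * toEnd H (h⁻¹ * a * h) :=
      hr _ ⟨_, by simpa using Subgroup.Normal.conj_mem inferInstance a ha h⁻¹, rfl⟩
    calc toEnd H a * (toEnd H h * r * toEnd H h⁻¹)
        = toEnd H h * (toEnd H (h⁻¹ * a * h) * r) * toEnd H h⁻¹ := by
          simp only [← mul_assoc, ← map_mul, mul_inv_cancel, one_mul]
      _ = toEnd H h * r * toEnd H h⁻¹ * toEnd H a := by
          rw [h1]; simp only [mul_assoc, ← map_mul, mul_inv_cancel, mul_one]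
  have hinv : ∀ h : H, toEnd H h * toEnd H h⁻¹ = 1 := fun h => by rw [← map_mul, mul_inv_cancel, map_one]
  have hinv' : ∀ h : H, toEnd H h⁻¹ * toEnd H h = 1 := fun h => by rw [← map_mul, inv_mul_cancel, map_one]
  let act : H → (S ≃ₐ[ZMod p] S) := fun h =>
    { toFun := fun r => ⟨toEnd H h * r * toEnd H h⁻¹, hconj h r r.2⟩
      invFun := fun r => ⟨toEnd H h⁻¹ * r * toEnd H h, by simpa using hconj h⁻¹ r r.2⟩
      left_inv := fun r => Subtype.ext (by
        show toEnd H h⁻¹ * (toEnd H h * (r : Module.End (ZMod p) V) * toEnd H h⁻¹) * toEnd H h = r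
        rw [mul_assoc (toEnd H h) _ _, ← mul_assoc (toEnd H h⁻¹), hinv', one_mul, mul_assoc, hinv', mul_one])
      right_inv := fun r => Subtype.ext (by
        show toEnd H h * (toEnd H h⁻¹ * (r : Module.End (ZMod p) V) * toEnd H h) * toEnd H h⁻¹ = r
        rw [mul_assoc (toEnd H h⁻¹) _ _, ← mul_assoc (toEnd H h), hinv, one_mul, mul_assoc, hinv, mul_one])
      map_mul' := fun r s => Subtype.ext (by
        show toEnd H h * ((r : Module.End (ZMod p) V) * s) * toEnd H h⁻¹ =
          toEnd H h * r * toEnd H h⁻¹ * (toEnd H h * s * toEnd H h⁻¹)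
        simp only [mul_assoc]
        rw [← mul_assoc (toEnd H h⁻¹) (toEnd H h), hinv', one_mul])
      map_add' := fun r s => Subtype.ext (by
        show toEnd H h * ((r : Module.End (ZMod p) V) + s) * toEnd H h⁻¹ = _
        rw [mul_add, add_mul]; rfl)
      commutes' := fun c => Subtype.ext (by
        show toEnd H h * algebraMap (ZMod p) (Module.End (ZMod p) V) c * toEnd H h⁻¹ = algebraMap (ZMod p) _ c
        rw [← Algebra.commutes, mul_assoc, hinv, mul_one]) }
  let θ : H →* (S ≃ₐ[ZMod p] S) :=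
    { toFun := act
      map_one' := AlgEquiv.ext fun r => Subtype.ext (by
        show toEnd H 1 * (r : Module.End (ZMod p) V) * toEnd H 1⁻¹ = r
        rw [inv_one, map_one, one_mul, mul_one])
      map_mul' := fun g h => AlgEquiv.ext fun r => Subtype.ext (by
        show toEnd H (g * h) * (r : Module.End (ZMod p) V) * toEnd H (g * h)⁻¹ =
          toEnd H g * (toEnd H h * r * toEnd H h⁻¹) * toEnd H g⁻¹
        rw [mul_inv_rev, map_mul, map_mul]; simp only [mul_assoc]) }
  obtain ⟨v₀, hv₀⟩ := exists_ne (0 : V)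
  let ev : S →ₗ[ZMod p] V := (LinearMap.applyₗ v₀).comp S.val.toLinearMap
  have hev : ∀ r : S, ev r = (r : Module.End (ZMod p) V) v₀ := fun r => rfl
  have hevinj : Function.Injective ev := by
    rw [← LinearMap.ker_eq_bot, Submodule.eq_bot_iff]
    intro r hr
    rw [LinearMap.mem_ker, hev] at hr
    by_contra h0
    exact hv₀ (hinj r r.2 (fun h => h0 (Subtype.ext h)) (by rw [hr, map_zero]))
  have hevsurj : Function.Surjective ev := by
    refine LinearMap.range_eq_top.1 ((hirr _ ?_).resolve_left ?_)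
    · rintro a ha _ ⟨r, rfl⟩
      exact ⟨⟨toEnd H a, hAS a ha⟩ * r, rfl⟩
    · intro h
      exact hv₀ ((Submodule.eq_bot_iff _).1 h v₀ ⟨1, rfl⟩)
  haveI : Finite S := Finite.of_injective ev hevinj
  have hcard : Nat.card S = p ^ Module.finrank (ZMod p) S := by
    rw [Module.natCard_eq_pow_finrank (K := ZMod p), Nat.card_zmod]
  let φ : S ≃ₐ[ZMod p] GaloisField p (Module.finrank (ZMod p) S) :=
    GaloisField.algEquivGaloisField p _ hcard
  let e : V ≃+ GaloisField p (Module.finrank (ZMod p) S) :=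
    (LinearEquiv.ofBijective ev ⟨hevinj, hevsurj⟩).symm.toAddEquiv.trans φ.toAddEquiv
  have he : ∀ r : S, e (ev r) = φ r := fun r => by
    show φ ((LinearEquiv.ofBijective ev ⟨hevinj, hevsurj⟩).symm (ev r)) = φ r
    rw [show (LinearEquiv.ofBijective ev ⟨hevinj, hevsurj⟩).symm (ev r) = r from
      (LinearEquiv.ofBijective ev ⟨hevinj, hevsurj⟩).symm_apply_apply r]
  refine ⟨⟨GaloisField p (Module.finrank (ZMod p) S), inferInstance, Fintype.ofFinite _, e, fun h => ?_⟩, ?_⟩
  · obtain ⟨a, ha⟩ := hevsurj ((h : V ≃ₗ[ZMod p] V) v₀)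
    refine ⟨φ a, ((φ.symm.trans (θ h)).trans φ).toRingEquiv, fun v => ?_⟩
    obtain ⟨r, rfl⟩ := hevsurj v
    have h1 : ((h : V ≃ₗ[ZMod p] V)) (ev r) = ev (a * θ h r) := by
      rw [hev, hev, ← toEnd_apply H h, mul_comm a]
      show (toEnd H h * (r : Module.End (ZMod p) V)) v₀ = (toEnd H h * r * toEnd H h⁻¹ * (a : Module.End (ZMod p) V)) v₀
      have h2 : (toEnd H h⁻¹ : Module.End (ZMod p) V) ((a : Module.End (ZMod p) V) v₀) = v₀ := by
        rw [← hev, ha, ← toEnd_apply, ← Module.End.mul_apply, hinv']; rfl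
      rw [Module.End.mul_apply, Module.End.mul_apply, Module.End.mul_apply, h2]; rfl
    rw [h1, he, he, map_mul]
    show φ a * φ (θ h r) = φ a * φ (θ h (φ.symm (φ r)))
    rw [AlgEquiv.symm_apply_apply]
  · have hle : θ.ker ≤ Subgroup.centralizer (A : Set H) := by
      intro h hh
      rw [Subgroup.mem_centralizer_iff]
      intro a ha
      have h1 := congrArg Subtype.val (AlgEquiv.congr_fun (MonoidHom.mem_ker.1 hh) ⟨toEnd H a, hAS a ha⟩)
      change toEnd H h * toEnd H a * toEnd H h⁻¹ = toEnd H a at h1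
      refine toEnd_injective H ?_
      rw [map_mul, map_mul]
      conv_lhs => rw [← h1, mul_assoc, hinv', mul_one]
    haveI := isCyclic_centralizer_of_irreducible hirr
    refine ⟨θ.ker, inferInstance, isCyclic_of_injective (Subgroup.inclusion hle) (Subgroup.inclusion_injective hle), ?_⟩
    haveI : IsCyclic θ.range := inferInstance
    exact isCyclic_of_surjective _ (QuotientGroup.quotientKerEquivRange θ).symm.surjective

theorem card_ker_q8act : Nat.card (q8act).ker ∣ 4 := by
  classical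
  haveI : Fact (Nat.Prime 2) := ⟨Nat.prime_two⟩
  have hKp : IsPGroup 2 (q8act).ker := isPGroup_of_prime_trivial fun y d hd hd2 hy => by
    have h1 : (y : MulAut (QuaternionGroup 2)) = 1 := q8act_odd y.2 (hd.odd_of_ne_two hd2)
      (by rw [← SubgroupClass.coe_pow, ← hy, pow_orderOf_eq_one]; rfl)
    rw [show y = 1 from Subtype.ext h1, orderOf_one] at hy
    exact hd.ne_one hy.symm
  have hinj : Function.Injective (fun y : (q8act).ker => fun i : Fin 2 =>
      decide ((y : MulAut (QuaternionGroup 2)) (q8rep i.castSucc) = q8rep i.castSucc)) := by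
    intro y z e
    have key : ∀ i : Fin 2, (y : MulAut (QuaternionGroup 2)) (q8rep i.castSucc) =
        (z : MulAut (QuaternionGroup 2)) (q8rep i.castSucc) := by
      intro i
      have := decide_eq_decide.1 (congrFun e i)
      rcases Cfsg.Agent.S0688.q8_ker_sign _ y.2 i.castSucc with hy | hy <;>
        rcases Cfsg.Agent.S0688.q8_ker_sign _ z.2 i.castSucc with hz | hz
      · rw [hy, hz]
      · rw [hy, this.1 hy]
      · rw [hz, this.2 hz]
      · rw [hy, hz]
    refine Subtype.ext (MulEquiv.ext fun q => ?_)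
    obtain ⟨m, k, rfl⟩ := q8_gen q
    rw [map_mul, map_mul, map_pow, map_pow, map_pow, map_pow]
    have h0 := key 0
    have h1 := key 1
    simp only [Fin.castSucc_zero, Fin.castSucc_one] at h0 h1
    rw [h0, h1]
  have hle := Nat.card_le_card_of_injective _ hinj
  obtain ⟨k, hk⟩ := IsPGroup.iff_card.1 hKp
  rw [show Nat.card (Fin 2 → Bool) = 4 by simp, hk] at hle
  rw [hk, show (4 : ℕ) = 2 ^ 2 from rfl]
  exact Nat.pow_dvd_pow 2 ((Nat.pow_le_pow_iff_right one_lt_two).1 hle)

/-- With an image of order divisible by eight there is an odd permutation. -/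
theorem exists_index_two_of_eight {X : Type*} [Group X] [Finite X] (ψ : X →* MulAut (QuaternionGroup 2))
    (h8 : 8 ∣ ψ.ker.index) : ∃ N : Subgroup X, N.Normal ∧ N.index = 2 := by
  classical
  set χ : X →* ℤˣ := (Equiv.Perm.sign.comp q8act).comp ψ
  have hne : χ.range = ⊤ := by
    by_contra hcon
    have hbot : ∀ x, χ x = 1 := by
      intro x
      rcases Int.units_eq_one_or (χ x) with h | h
      · exact h
      · exfalso
        refine hcon (eq_top_iff.2 fun u _ => ?_)
        rcases Int.units_eq_one_or u with rfl | rfl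
        · exact one_mem _
        · exact ⟨x, h⟩
    have h1 : (q8act.comp ψ.range.subtype).range ≤ alternatingGroup (Fin 3) := by
      rintro _ ⟨⟨_, x, rfl⟩, rfl⟩
      exact Equiv.Perm.mem_alternatingGroup.2 (hbot x)
    have h2 : (q8act.comp ψ.range.subtype).ker.index ∣ 3 := by
      rw [Subgroup.index_ker]
      refine (Subgroup.card_dvd_of_le h1).trans ?_
      rw [nat_card_alternatingGroup, Nat.card_fin]
      decide
    have h3 : Nat.card (q8act.comp ψ.range.subtype).ker ∣ 4 := by
      refine dvd_trans ?_ card_ker_q8act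
      let j : (q8act.comp ψ.range.subtype).ker →* (q8act).ker :=
        ((ψ.range.subtype).comp (q8act.comp ψ.range.subtype).ker.subtype).codRestrict _ fun y => y.2
      exact Subgroup.card_dvd_of_injective j fun a b h => Subtype.ext (Subtype.ext (congrArg (fun z : (q8act).ker => (z : MulAut (QuaternionGroup 2))) h))
    have h4 : 8 ∣ 4 * 3 := by
      refine h8.trans ?_
      rw [Subgroup.index_ker, ← (q8act.comp ψ.range.subtype).ker.card_mul_index]
      exact Nat.mul_dvd_mul h3 h2
    omega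
  refine ⟨χ.ker, inferInstance, ?_⟩
  rw [Subgroup.index_ker, hne, Subgroup.card_top, Nat.card_eq_fintype_card]
  rfl

theorem regular_result {p : ℕ} [Fact p.Prime] {V : Type*} [AddCommGroup V] [Module (ZMod p) V]
    [Finite V] [Nontrivial V] (H : Subgroup (V ≃ₗ[ZMod p] V))
    (hreg : ∀ v w : V, v ≠ 0 → w ≠ 0 → ∃! h : H, (h : V ≃ₗ[ZMod p] V) v = w) (hsolv : Group.IsSolvable H) :
    ((∃ (F : Type) (_ : Field F) (_ : Fintype F) (e : V ≃+ F),
        ∀ h : H, ∃ (a : F) (σ : F ≃+* F), ∀ v : V, e ((h : V ≃ₗ[ZMod p] V) v) = a * σ (e v)) ∨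
      Nat.card V ∈ ({25, 49, 121, 529} : Set ℕ)) ∧
    (p ≠ 2 → (∃ N : Subgroup H, N.Normal ∧ N.index = 2) ∨
      (Nat.card V = 25 ∧ Nonempty (H ≃* Matrix.SpecialLinearGroup (Fin 2) (ZMod 3))) ∨
      (Nat.card V = 121 ∧ Nonempty (H ≃* Matrix.SpecialLinearGroup (Fin 2) (ZMod 3) × Multiplicative (ZMod 5)))) := by
  classical
  haveI : Finite (V ≃ₗ[ZMod p] V) := Finite.of_injective (fun f => (f : V → V)) DFunLike.coe_injective
  haveI : Fact (Nat.Prime 2) := ⟨Nat.prime_two⟩
  by_cases hI : ∀ A : Subgroup H, A.Normal → IsCyclic A →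
      ∃ W : Submodule (ZMod p) V, W ≠ ⊥ ∧ W ≠ ⊤ ∧ ∀ a ∈ A, ∀ v ∈ W, ((a : H) : V ≃ₗ[ZMod p] V) v ∈ W
  swap
  · push Not at hI
    obtain ⟨A, hAn, hAc, hA⟩ := hI
    haveI := hAn
    haveI := hAc
    haveI : IsMulCommutative A := IsCyclic.isMulCommutative
    have hirr : ∀ W : Submodule (ZMod p) V, Inv H A W → W = ⊥ ∨ W = ⊤ := fun W hW => by
      by_contra hcon
      push Not at hcon
      obtain ⟨a, ha, v, hv, hn⟩ := hA W hcon.1 hcon.2
      exact hn (hW a ha v hv)
    obtain ⟨hsemi, C, hCn, hCc, hQc⟩ := semilinear_of_irreducible H A hirr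
    haveI := hCn
    haveI := hCc
    refine ⟨Or.inl hsemi, fun hp2 => Or.inl ?_⟩
    have heven : Even (Nat.card H) := by
      have h := card_regular hreg
      rw [Module.natCard_eq_pow_finrank (K := ZMod p) (V := V), Nat.card_zmod] at h
      have hodd : Odd (p ^ Module.finrank (ZMod p) V) := ((Fact.out : p.Prime).odd_of_ne_two hp2).pow
      rw [← h] at hodd
      exact Nat.odd_add_one.1 hodd |> Nat.not_odd_iff_even.1
    by_cases hq : Even C.index
    · obtain ⟨T⟩ : Nonempty (Sylow 2 (H ⧸ C)) := inferInstance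
      haveI := hQc
      obtain ⟨K, hK⟩ := CfsgLib.Inv.exists_index_two_of_cyclic_sylow (G := H ⧸ C)
        (by rwa [← Subgroup.index_eq_card]) T inferInstance
      exact ⟨K.comap (QuotientGroup.mk' C), Subgroup.normal_of_index_eq_two
        (by rw [Subgroup.index_comap_of_surjective _ (QuotientGroup.mk'_surjective C), hK]),
        by rw [Subgroup.index_comap_of_surjective _ (QuotientGroup.mk'_surjective C), hK]⟩
    · obtain ⟨T⟩ : Nonempty (Sylow 2 H) := inferInstance
      have hTC : (T : Subgroup H) ≤ C := by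
        intro t ht
        obtain ⟨k, hk⟩ := IsPGroup.iff_orderOf.1 T.2 ⟨t, ht⟩
        rw [Subgroup.orderOf_mk] at hk
        rw [← QuotientGroup.eq_one_iff, ← orderOf_eq_one_iff]
        have h1 : orderOf (QuotientGroup.mk' C t) ∣ 2 ^ k := hk ▸ orderOf_map_dvd _ t
        have h2 : orderOf (QuotientGroup.mk' C t) ∣ C.index := by
          rw [Subgroup.index_eq_card]; exact orderOf_dvd_natCard _
        exact Nat.eq_one_of_dvd_coprimes ((Nat.coprime_two_left.2 (Nat.not_even_iff_odd.1 hq)).pow_left k) h1 h2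
      obtain ⟨K, hK⟩ := CfsgLib.Inv.exists_index_two_of_cyclic_sylow (G := H) heven T
        (isCyclic_of_injective (Subgroup.inclusion hTC) (Subgroup.inclusion_injective hTC))
      exact ⟨K, Subgroup.normal_of_index_eq_two hK, hK⟩
  obtain ⟨hp', hcardV, hH, A, f, ψ, hAcyc, hAcen, hAdvd, hker, hfinj, hconj, hm, hpm⟩ := exceptional_data H hreg hI hsolv
  refine ⟨Or.inr (by rcases hp' with rfl | rfl | rfl | rfl <;> simp [hcardV]), fun _ => ?_⟩
  by_cases h8 : 8 ∣ A.index
  · exact Or.inl (exists_index_two_of_eight ψ (by rwa [hker]))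
  refine Or.inr ?_
  haveI : A.Normal := hker ▸ inferInstance
  have h4 : 4 ∣ A.index := by
    have h2 : Nat.card ↥(A ⊓ f.range) ∣ 2 := by
      let j : ↥(A ⊓ f.range) →* f.range := Subgroup.inclusion inf_le_right
      have hle : Nat.card ↥(A ⊓ f.range) ∣ Nat.card (Subgroup.center (QuaternionGroup 2)) := by
        let k : ↥(A ⊓ f.range) →* Subgroup.center (QuaternionGroup 2) :=
          ((MonoidHom.ofInjective hfinj).symm.toMonoidHom.comp j).codRestrict _ fun x => by
            refine Subgroup.mem_center_iff.2 fun q => hfinj ?_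
            have hx : f ((MonoidHom.ofInjective hfinj).symm (j x)) = (x : H) :=
              congrArg Subtype.val ((MonoidHom.ofInjective hfinj).apply_symm_apply (j x))
            show f (q * (MonoidHom.ofInjective hfinj).symm (j x)) = f ((MonoidHom.ofInjective hfinj).symm (j x) * q)
            rw [map_mul, map_mul, hx, hAcen x x.2.1]
        exact Subgroup.card_dvd_of_injective k fun a b h => Subgroup.inclusion_injective (inf_le_right : A ⊓ f.range ≤ _)
          ((MonoidHom.ofInjective hfinj).symm.injective (congrArg Subtype.val h))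
      refine hle.trans (dvd_of_eq ?_)
      rw [Nat.card_eq_fintype_card]
      decide
    have h8' : Nat.card f.range = 8 := by
      rw [← Nat.card_congr (MonoidHom.ofInjective hfinj).toEquiv, Nat.card_eq_fintype_card, QuaternionGroup.card]
    have h3 := Subgroup.relIndex_dvd_index_of_normal A f.range
    have h5 := (A.subgroupOf f.range).card_mul_index
    have h6 : Nat.card (A.subgroupOf f.range) = Nat.card ↥(A ⊓ f.range) := by
      rw [← Subgroup.card_map_of_injective f.range.subtype_injective, Subgroup.subgroupOf_map_subtype]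
    rw [h8', h6] at h5
    refine dvd_trans ?_ h3
    show 4 ∣ (A.subgroupOf f.range).index
    rcases (Nat.dvd_prime Nat.prime_two).1 h2 with e | e <;> rw [e] at h5 <;> omega
  haveI : Fact (Nat.Prime 3) := ⟨Nat.prime_three⟩
  have hAm : Nat.card A * A.index + 1 = p ^ 2 := by rw [A.card_mul_index]; exact hH
  have hcases : (p = 5 ∧ A.index = 12 ∧ Nat.card A = 2) ∨ (p = 11 ∧ A.index = 12 ∧ Nat.card A = 10) := by
    have hle := Nat.le_of_dvd (by norm_num) hm
    rcases hp' with rfl | rfl | rfl | rfl <;> interval_cases h : A.index <;> omega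
  obtain ⟨hidx, hA2⟩ : A.index = 12 ∧ ¬ 3 ∣ Nat.card A := by
    rcases hcases with ⟨-, h1, h2⟩ | ⟨-, h1, h2⟩ <;> exact ⟨h1, by omega⟩
  obtain ⟨t, ht⟩ := exists_prime_orderOf_dvd_card' (G := H) 3 (by
    rw [← A.card_mul_index, hidx]; exact Dvd.dvd.mul_left (by norm_num) _)
  have hψ1 : ψ t ≠ 1 := fun h => hA2 (by
    rw [← ht]; exact Subgroup.orderOf_dvd_natCard A (hker ▸ MonoidHom.mem_ker.2 h))
  have hmove : q8act (ψ t) ≠ 1 := fun h => hψ1 (q8act_odd h (by decide : Odd 3) (by
    rw [← map_pow, ← ht, pow_orderOf_eq_one, map_one]))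
  rcases hcases with ⟨rfl, -, hA'⟩ | ⟨rfl, -, hA'⟩
  · left
    refine ⟨by rw [hcardV]; norm_num, CfsgLib.Perm.SLTwoThree.iso_sl23 ?_ f hfinj t ht (ψ t) (hconj t) hmove⟩
    rw [← A.card_mul_index, hidx, hA']
  · right
    refine ⟨by rw [hcardV]; norm_num, ?_⟩
    haveI : Fact (Nat.Prime 5) := ⟨by norm_num⟩
    have hH120 : Nat.card H = 120 := by rw [← A.card_mul_index, hidx, hA']
    obtain ⟨c, hc⟩ := exists_prime_orderOf_dvd_card' (G := A) 5 (by rw [hA']; norm_num)
    set C5 := Subgroup.zpowers (c : H) with hC5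
    have hC5c : ∀ x ∈ C5, ∀ h : H, x * h = h * x := fun x hx => hAcen x (Subgroup.zpowers_le.2 c.2 hx)
    haveI : C5.Normal := ⟨fun x hx g => by rwa [← hC5c x hx g, mul_inv_cancel_right]⟩
    have hcard5 : Nat.card C5 = 5 := by rw [Nat.card_zpowers, Subgroup.orderOf_coe, hc]
    have hcop : (Nat.card C5).Coprime C5.index := by
      have := C5.card_mul_index
      rw [hcard5, hH120] at this
      rw [hcard5, show C5.index = 24 by omega]
      norm_num
    obtain ⟨X, hX⟩ := Subgroup.exists_right_complement'_of_coprime hcop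
    haveI hXn : X.Normal := ⟨fun x hx g => by
      obtain ⟨⟨z, x'⟩, rfl⟩ := hX.2 g
      show (z : H) * x' * x * ((z : H) * x')⁻¹ ∈ X
      have e : (z : H) * x' * x * ((z : H) * x')⁻¹ = z * ((x' : H) * x * (x' : H)⁻¹) * (z : H)⁻¹ := by group
      rw [e, hC5c z z.2, mul_inv_cancel_right]
      exact X.mul_mem (X.mul_mem x'.2 hx) (X.inv_mem x'.2)⟩
    have hXi : X.index = 5 := by rw [hX.index_eq_card, hcard5]
    have hXc : Nat.card X = 24 := by
      have := X.card_mul_index
      rw [hXi, hH120] at this; omega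
    have hmem : ∀ x : H, Nat.Coprime (orderOf x) 5 → x ∈ X := fun x hx => by
      obtain ⟨m, hm'⟩ := exists_pow_eq_self_of_coprime (hXi.symm ▸ hx).symm
      rw [← hm']
      exact X.pow_mem (X.pow_index_mem x) m
    have hfX : ∀ q, f q ∈ X := fun q => hmem _ (by
      rw [orderOf_injective f hfinj q]
      exact (Nat.Coprime.coprime_dvd_left (orderOf_dvd_natCard q) (by rw [Nat.card_eq_fintype_card, QuaternionGroup.card]; norm_num)))
    have htX : t ∈ X := hmem t (by rw [ht]; norm_num)
    obtain ⟨e⟩ := CfsgLib.Perm.SLTwoThree.iso_sl23 hXc (f.codRestrict X hfX)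
      (fun a b h => hfinj (congrArg Subtype.val h)) ⟨t, htX⟩ (by rw [Subgroup.orderOf_mk]; exact ht) (ψ t)
      (fun q => Subtype.ext (hconj t q)) hmove
    haveI : IsCyclic C5 := inferInstance
    let e5 : C5 ≃* Multiplicative (ZMod 5) := (zmodCyclicMulEquiv (G := C5) inferInstance).symm.trans
      ((AddEquiv.toMultiplicative (ZMod.ringEquivCongr hcard5).toAddEquiv))
    let m : X × C5 →* H :=
      { toFun := fun y => (y.1 : H) * (y.2 : H)
        map_one' := by simp
        map_mul' := fun y z => by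
          show (y.1 : H) * z.1 * ((y.2 : H) * z.2) = (y.1 : H) * y.2 * ((z.1 : H) * z.2)
          simp only [mul_assoc]
          rw [← mul_assoc (z.1 : H), ← hC5c y.2 y.2.2 z.1, mul_assoc] }
    have hbij : Function.Bijective m := hX.symm
    exact ⟨(MulEquiv.ofBijective m hbij).symm.trans (e.prodCongr e5)⟩

/-- Let q be a prime and V a non-trivial finite vector space over the field with q elements, and let G be a finite solvable group acting faithfully and linearly on V and regularly on the non-zero vectors (transitively, with only the identity fixing a non-zero vector). Then either V can be identified with the additive group of a finite field F so that every element of G acts as x ↦ a·σ(x) (a ∈ F, σ a field automorphism), or V has 5^2, 7^2, 11^2 or 23^2 elements. Moreover, if q ≠ 2 then G has a normal subgroup of index 2, except that when V has 25 elements G may be isomorphic to SL(2,3) and when V has 121 elements G may be isomorphic to SL(2,3) × C₅. -/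
theorem result
    (q : ℕ) [Fact q.Prime] {V : Type*} [AddCommGroup V] [Module (ZMod q) V] [Finite V] [Nontrivial V]
    {G : Type*} [Group G] [Finite G] (hsol : Group.IsSolvable G)
    (ρ : G →* (V ≃ₗ[ZMod q] V)) (hρ : Function.Injective ρ)
    (htrans : ∀ v w : V, v ≠ 0 → w ≠ 0 → ∃ g : G, ρ g v = w)
    (hreg : ∀ v : V, v ≠ 0 → ∀ g : G, ρ g v = v → g = 1) :
    ((∃ (F : Type) (_ : Field F) (_ : Fintype F) (e : V ≃+ F),
        ∀ g : G, ∃ (a : F) (σ : F ≃+* F), ∀ v : V, e (ρ g v) = a * σ (e v)) ∨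
      Nat.card V ∈ ({25, 49, 121, 529} : Set ℕ)) ∧
    (q ≠ 2 → (∃ N : Subgroup G, N.Normal ∧ N.index = 2) ∨
      (Nat.card V = 25 ∧ Nonempty (G ≃* Matrix.SpecialLinearGroup (Fin 2) (ZMod 3))) ∨
      (Nat.card V = 121 ∧ Nonempty (G ≃* Matrix.SpecialLinearGroup (Fin 2) (ZMod 3) × Multiplicative (ZMod 5)))) := by
  classical
  set H := ρ.range
  have hreg' : ∀ v w : V, v ≠ 0 → w ≠ 0 → ∃! h : H, (h : V ≃ₗ[ZMod q] V) v = w := by
    intro v w hv hw
    obtain ⟨g, hg⟩ := htrans v w hv hw
    refine ⟨⟨ρ g, g, rfl⟩, hg, ?_⟩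
    rintro ⟨_, g', rfl⟩ hg'
    have h1 : ρ (g⁻¹ * g') v = v := by
      rw [map_mul, map_inv, LinearEquiv.mul_apply, hg', ← hg]
      exact (ρ g).symm_apply_apply v
    exact Subtype.ext (congrArg ρ (inv_mul_eq_one.1 (hreg v hv _ h1)).symm)
  haveI := hsol
  have hsolH : Group.IsSolvable H := Group.isSolvable_of_surjective ρ.rangeRestrict_surjective
  let e : G ≃* H := MonoidHom.ofInjective hρ
  obtain ⟨h1, h2⟩ := regular_result H hreg' hsolH
  refine ⟨h1.imp (fun ⟨F, i1, i2, eV, hF⟩ => ⟨F, i1, i2, eV, fun g => hF (e g)⟩) id, fun hq => ?_⟩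
  rcases h2 hq with ⟨N, hN, hN2⟩ | ⟨hc, ⟨i⟩⟩ | ⟨hc, ⟨i⟩⟩
  · exact Or.inl ⟨N.comap e.toMonoidHom, hN.comap _, by
      rw [Subgroup.index_comap_of_surjective N (f := e.toMonoidHom) e.surjective, hN2]⟩
  · exact Or.inr (Or.inl ⟨hc, ⟨e.trans i⟩⟩)
  · exact Or.inr (Or.inr ⟨hc, ⟨e.trans i⟩⟩)

end Cfsg.Agent.S3361
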