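import Cfsg.Statements.S0729

import Cfsg.Agent.Perm.SharplyThreeLinear
import Cfsg.Agent.Perm.ZassenhausSplit
import Cfsg.Agent.S3361
import Cfsg.Agent.Perm.RegularInsoluble

set_option autoImplicit false
set_option linter.style.haveILetI false
open Cfsg

namespace Cfsg.Agent.S0729
open CfsgLib.Perm.SharpThree CfsgLib.Perm.Fpf
open scoped IsMulCommutative
set_option maxHeartbeats 1000000

theorem sl25_pair : ∃ x y : Matrix.SpecialLinearGroup (Fin 2) (ZMod 5),
    orderOf x = 3 ∧ orderOf y = 3 ∧ y ∉ Subgroup.zpowers x := by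
  haveI : Fact (Nat.Prime 3) := ⟨Nat.prime_three⟩
  let x : Matrix.SpecialLinearGroup (Fin 2) (ZMod 5) := ⟨!![0, -1; 1, -1], by decide⟩
  let y : Matrix.SpecialLinearGroup (Fin 2) (ZMod 5) := ⟨!![0, 1; -1, -1], by decide⟩
  have hx : orderOf x = 3 := orderOf_eq_prime (by decide +kernel)
    (fun h => absurd (congrFun (congrFun (congrArg Subtype.val h) 0) 0) (by decide))
  refine ⟨x, y, hx, orderOf_eq_prime (by decide +kernel)
    (fun h => absurd (congrFun (congrFun (congrArg Subtype.val h) 0) 0) (by decide)), fun h => ?_⟩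
  rw [mem_zpowers_iff_mem_range_orderOf, hx, Finset.mem_image] at h
  obtain ⟨k, hk, he⟩ := h
  have : ∀ k : Fin 3, (x ^ (k : ℕ)).1 ≠ y.1 := by decide +kernel
  exact this ⟨k, Finset.mem_range.1 hk⟩ (congrArg Subtype.val he)

theorem sl23_pair : ∃ x y : Matrix.SpecialLinearGroup (Fin 2) (ZMod 3),
    orderOf x = 3 ∧ orderOf y = 3 ∧ y ∉ Subgroup.zpowers x := by
  let x : Matrix.SpecialLinearGroup (Fin 2) (ZMod 3) := ⟨!![1, 1; 0, 1], by decide⟩
  let y : Matrix.SpecialLinearGroup (Fin 2) (ZMod 3) := ⟨!![1, 0; 1, 1], by decide⟩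
  haveI : Fact (Nat.Prime 3) := ⟨Nat.prime_three⟩
  have hx : orderOf x = 3 := orderOf_eq_prime (by decide +kernel)
    (fun h => absurd (congrFun (congrFun (congrArg Subtype.val h) 0) 1) (by decide))
  refine ⟨x, y, hx, orderOf_eq_prime (by decide +kernel)
    (fun h => absurd (congrFun (congrFun (congrArg Subtype.val h) 1) 0) (by decide)), fun h => ?_⟩
  rw [mem_zpowers_iff_mem_range_orderOf, hx, Finset.mem_image] at h
  obtain ⟨k, hk, he⟩ := h
  have : ∀ k : Fin 3, (x ^ (k : ℕ)).1 ≠ y.1 := by decide +kernel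
  exact this ⟨k, Finset.mem_range.1 hk⟩ (congrArg Subtype.val he)

/-- A regular linear action gives a fixed-point-free rational representation. -/
theorem hasFpf_of_regular_hom {p : ℕ} [Fact p.Prime] {V : Type*} [AddCommGroup V] [Module (ZMod p) V] [Finite V]
    [Nontrivial V] {H : Type*} [Group H] [Finite H] (ρ : H →* (V ≃ₗ[ZMod p] V)) (hρ : Function.Injective ρ)
    (hreg : ∀ v w : V, v ≠ 0 → w ≠ 0 → ∃! h, ρ h v = w) : HasFpf H := by
  haveI : Finite ρ.range := Finite.of_surjective ρ.rangeRestrict ρ.rangeRestrict_surjective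
  refine (CfsgLib.Perm.RegularLinear.hasFpf_regular (H := ρ.range) ?_).of_injective
    (MonoidHom.ofInjective hρ).toMonoidHom (MulEquiv.injective _)
  intro v w hv hw
  obtain ⟨h, hh, huniq⟩ := hreg v w hv hw
  refine ⟨⟨ρ h, h, rfl⟩, hh, ?_⟩
  rintro ⟨_, h', rfl⟩ hh'
  exact Subtype.ext (congrArg ρ (huniq h' hh'))

set_option synthInstance.maxHeartbeats 400000 in
/-- An index two subgroup exists. -/
theorem exists_index_two {α : Type*} [Fintype α] [DecidableEq α] {G : Subgroup (Equiv.Perm α)} (S : Sharp G)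
    {a b : α} (hab : a ≠ b) (heven : Even (Fintype.card α)) (h6 : 6 ≤ Fintype.card α) :
    ∃ N : Subgroup ↥(MulAction.stabilizer G a ⊓ MulAction.stabilizer G b), N.index = 2 := by
  classical
  set H := MulAction.stabilizer G a ⊓ MulAction.stabilizer G b with hH
  obtain ⟨K, p, j, hp, hj, hcard, hfix, hnorm, hcomm, hexp, hsurj, hfree⟩ := S.exists_translations hab (by omega)
  haveI := Fact.mk hp
  have T : Trans G a b p K := ⟨hfix, hnorm, hcomm, hexp, hsurj, hfree⟩
  haveI := T.isComm
  letI : Module (ZMod p) (Additive K) := AddCommGroup.zmodModule T.nsmul_eq_zero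
  haveI : Finite (Additive K) := Finite.of_injective (pt (K := K) b) T.pt_injective
  haveI : Nontrivial (Additive K) := Finite.one_lt_card_iff_nontrivial.1 (by rw [T.card_eq hab]; omega)
  set ρ := linHom T with hρdef
  have hρ : Function.Injective ρ := S.linHom_injective T hab (by omega)
  have hp2 : p ≠ 2 := by
    rintro rfl
    rw [hcard] at heven
    have : Even (2 ^ j) := (Nat.even_pow.2 ⟨even_two, by omega⟩)
    exact (Nat.even_add_one.1 heven) this
  have bad : ∀ {X : Type} [Group X] (f : X →* H) (_ : Function.Injective f) (x y : X), orderOf x = 3 →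
      orderOf y = 3 → y ∉ Subgroup.zpowers x → False := by
    intro X _ f hf x y hx hy hne
    have h := S.unique_three hab (u := (f x : G)) (v := (f y : G))
      (by rw [Subgroup.orderOf_coe, orderOf_injective f hf]; exact hx)
      (by rw [Subgroup.orderOf_coe, orderOf_injective f hf]; exact hy) (f x).2.1 (f x).2.2 (f y).2.1 (f y).2.2
    obtain ⟨k, hk⟩ := h
    refine hne ⟨k, hf (Subtype.ext ?_)⟩
    simpa using hk
  by_cases hsol : Group.IsSolvable H
  · obtain ⟨-, h2⟩ := Cfsg.Agent.S3361.result p hsol ρ hρ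
      (fun v w hv hw => (S.linHom_regular T hab hv hw).exists)
      (fun v hv g hg => (S.linHom_regular T hab hv hv).unique hg (by rw [map_one]; rfl))
    rcases h2 hp2 with ⟨N, -, hN⟩ | ⟨-, ⟨e⟩⟩ | ⟨-, ⟨e⟩⟩
    · exact ⟨N, hN⟩
    · obtain ⟨x, y, hx, hy, hne⟩ := sl23_pair
      exact (bad e.symm.toMonoidHom e.symm.injective x y hx hy hne).elim
    · obtain ⟨x, y, hx, hy, hne⟩ := sl23_pair
      exact (bad (e.symm.toMonoidHom.comp (MonoidHom.inl _ _))
        (e.symm.injective.comp (fun u v h => congrArg Prod.fst h)) x y hx hy hne).elim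
  · exfalso
    have hf : HasFpf H := hasFpf_of_regular_hom ρ hρ fun v w hv hw => S.linHom_regular T hab hv hw
    obtain ⟨L, -, -, -, ⟨e⟩⟩ := exists_sl25 hf hsol
    obtain ⟨x, y, hx, hy, hne⟩ := sl25_pair
    exact bad (L.subtype.comp e.symm.toMonoidHom) (L.subtype_injective.comp e.symm.injective) x y hx hy hne

set_option synthInstance.maxHeartbeats 400000 in
/-- In a sharply triply transitive group of even degree at least 6, the two-point stabiliser `H = G_{a,b}` has a normal subgroup of index 2 that is normalised by the element `s` interchanging `a, b` and fixing a third point `c`. -/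
theorem result {α : Type*} [Fintype α] [DecidableEq α] (heven : Even (Fintype.card α)) (h6 : 6 ≤ Fintype.card α) (G : Subgroup (Equiv.Perm α)) (h3 : MulAction.IsMultiplyPretransitive G α 3) (hsharp : ∀ x : Fin 3 ↪ α, MulAction.stabilizer G x = ⊥) {a b c : α} (hab : a ≠ b) (hac : a ≠ c) (hbc : b ≠ c) (s : G) (hsa : s • a = b) (hsb : s • b = a) (hsc : s • c = c) : ∃ N : Subgroup G, N ≤ MulAction.stabilizer G a ⊓ MulAction.stabilizer G b ∧ (N.subgroupOf (MulAction.stabilizer G a ⊓ MulAction.stabilizer G b)).Normal ∧ N.relIndex (MulAction.stabilizer G a ⊓ MulAction.stabilizer G b) = 2 ∧ ∀ n ∈ N, s * n * s⁻¹ ∈ N := by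
  classical
  have S : Sharp G := sharp_of h3 hsharp
  set H := MulAction.stabilizer G a ⊓ MulAction.stabilizer G b with hH
  obtain ⟨N, hN⟩ := exists_index_two S hab heven h6
  haveI := Subgroup.normal_of_index_eq_two hN
  have hss : s * s = 1 := S.free _ a b c hab hac hbc (by rw [mul_smul, hsa, hsb]) (by rw [mul_smul, hsb, hsa])
    (by rw [mul_smul, hsc, hsc])
  have hsinv : s⁻¹ = s := inv_eq_of_mul_eq_one_right hss
  have hconj : ∀ h : H, s * (h : G) * s⁻¹ ∈ H := by
    intro h
    constructor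
    · show (s * (h : G) * s⁻¹) • a = a
      rw [hsinv, mul_smul, mul_smul, hsa, h.2.2, hsb]
    · show (s * (h : G) * s⁻¹) • b = b
      rw [hsinv, mul_smul, mul_smul, hsb, h.2.1, hsa]
  let σ : H →* H :=
    { toFun := fun h => ⟨s * (h : G) * s⁻¹, hconj h⟩
      map_one' := Subtype.ext (by simp)
      map_mul' := fun x y => Subtype.ext (by simp [mul_assoc]) }
  have hσσ : ∀ h, σ (σ h) = h := fun h => Subtype.ext (by
    show s * (s * (h : G) * s⁻¹) * s⁻¹ = h
    rw [show s * (s * (h : G) * s⁻¹) * s⁻¹ = s * s * h * (s * s)⁻¹ by group, hss, inv_one, mul_one, one_mul])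
  -- an invariant subgroup of index two
  obtain ⟨M, hM, hMσ⟩ : ∃ M : Subgroup H, M.index = 2 ∧ ∀ h ∈ M, σ h ∈ M := by
    by_cases hinv : N.comap σ = N
    · exact ⟨N, hN, fun h hh => (SetLike.ext_iff.1 hinv h).2 hh⟩
    let M : Subgroup H :=
      { carrier := {h | (h ∈ N ↔ σ h ∈ N)}
        one_mem' := by simp [N.one_mem]
        mul_mem' := fun {x y} (hx : x ∈ N ↔ σ x ∈ N) (hy : y ∈ N ↔ σ y ∈ N) => by
          show x * y ∈ N ↔ σ (x * y) ∈ N
          rw [map_mul, Subgroup.mul_mem_iff_of_index_two hN, Subgroup.mul_mem_iff_of_index_two hN]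
          tauto
        inv_mem' := fun {x} (hx : x ∈ N ↔ σ x ∈ N) => by
          show x⁻¹ ∈ N ↔ σ x⁻¹ ∈ N
          rw [map_inv, inv_mem_iff, inv_mem_iff]
          exact hx }
    have hmem : ∀ h, h ∈ M ↔ (h ∈ N ↔ σ h ∈ N) := fun h => Iff.rfl
    refine ⟨M, ?_, fun h (hh : h ∈ N ↔ σ h ∈ N) => by
      show σ h ∈ N ↔ σ (σ h) ∈ N
      rw [hσσ]; exact hh.symm⟩
    obtain ⟨x, hx⟩ : ∃ x, x ∉ M := by
      by_contra hcon
      push Not at hcon
      exact hinv (SetLike.ext fun h => ((hmem h).1 (hcon h)).symm)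
    rw [Subgroup.index_eq_two_iff]
    refine ⟨x, fun h => ?_⟩
    rw [hmem] at hx
    by_cases hh : h ∈ M
    · refine Or.inr ⟨hh, fun hhx => ?_⟩
      rw [hmem] at hh hhx
      rw [map_mul, Subgroup.mul_mem_iff_of_index_two hN, Subgroup.mul_mem_iff_of_index_two hN] at hhx
      tauto
    · refine Or.inl ⟨?_, hh⟩
      rw [hmem] at hh ⊢
      rw [map_mul, Subgroup.mul_mem_iff_of_index_two hN, Subgroup.mul_mem_iff_of_index_two hN]
      tauto
  refine ⟨M.map H.subtype, Subgroup.map_subtype_le _, ?_, ?_, ?_⟩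
  · rw [Subgroup.subgroupOf, Subgroup.comap_map_eq_self_of_injective H.subtype_injective]
    exact Subgroup.normal_of_index_eq_two hM
  · rw [Subgroup.relIndex, Subgroup.subgroupOf, Subgroup.comap_map_eq_self_of_injective H.subtype_injective, hM]
  · rintro _ ⟨h, hh, rfl⟩
    exact ⟨σ h, hMσ h hh, rfl⟩

end Cfsg.Agent.S0729
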