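-- Statement S0005
import Cfsg.Statements.S0005
import Cfsg.Agent.Solv.Hall

set_option autoImplicit false
open Cfsg

namespace Cfsg.Agent.S0005

/-- Hall's Theorem, containment: in a finite solvable group of order m * n with m and n coprime, every subgroup of order coprime to n is contained in a subgroup of order m. -/
theorem result {G : Type*} [Group G] [Finite G] [Group.IsSolvable G] (m n : ℕ)
    (hG : Nat.card G = m * n) (hmn : m.Coprime n) (K : Subgroup G) (hK : (Nat.card K).Coprime n) :
    ∃ H : Subgroup G, Nat.card H = m ∧ K ≤ H := by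
  have hm : m ≠ 0 := fun h => (Nat.card_pos (α := G)).ne' (by rw [hG, h, zero_mul])
  have hK' : CfsgLib.Solv.PiNat {q | q ∣ m} (Nat.card K) :=
    (CfsgLib.Solv.piNat_primeFactors hm).1.of_dvd
      (hK.dvd_of_dvd_mul_right (hG ▸ K.card_subgroup_dvd_card))
  obtain ⟨H, h1, h2, h3⟩ := CfsgLib.Solv.exists_hall_ge (CfsgLib.Solv.PiSolvable.of_isSolvable _) hK'
  exact ⟨H, CfsgLib.Solv.hall_card_eq_of_mul hG hmn h1 h2, h3⟩

end Cfsg.Agent.S0005
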