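-- Statement S0007
import Cfsg.Statements.S0007
import Cfsg.Agent.Solv.Basic

set_option autoImplicit false
open Cfsg

namespace Cfsg.Agent.S0007

/-- Subgroups of coprime index: the intersection has index equal to the product of the indices, and every element is a product of an element of the first subgroup and an element of the second. -/
theorem result {G : Type*} [Group G] [Finite G] (H K : Subgroup G)
    (h : H.index.Coprime K.index) :
    (H ⊓ K).index = H.index * K.index ∧ ∀ g : G, ∃ x ∈ H, ∃ y ∈ K, g = x * y := by
  have hHf : H.index ≠ 0 := Subgroup.index_ne_zero_of_finite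
  have hidx : (H ⊓ K).index = H.index * K.index := by
    refine le_antisymm (Subgroup.index_inf_le) (Nat.le_of_dvd ?_ ?_)
    · exact Nat.pos_of_ne_zero Subgroup.index_ne_zero_of_finite
    · exact h.mul_dvd_of_dvd_of_dvd (Subgroup.index_dvd_of_le inf_le_left) (Subgroup.index_dvd_of_le inf_le_right)
  refine ⟨hidx, fun g => ?_⟩
  have hrel : K.relIndex H = K.index := by
    have h1 := Subgroup.relIndex_mul_index (inf_le_left : H ⊓ K ≤ H)
    rw [Subgroup.inf_relIndex_left, hidx, mul_comm H.index K.index] at h1
    exact Nat.eq_of_mul_eq_mul_right (Nat.pos_of_ne_zero hHf) h1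
  let f : H ⧸ K.subgroupOf H → G ⧸ K :=
    Quotient.map' (fun x : H => (x : G)) fun a b hab => by
      rw [QuotientGroup.leftRel_apply] at hab ⊢
      exact hab
  have hinj : Function.Injective f := by
    intro a b
    induction a using QuotientGroup.induction_on with | _ a => ?_
    induction b using QuotientGroup.induction_on with | _ b => ?_
    intro hab
    exact QuotientGroup.eq.2 (QuotientGroup.eq.1 hab : (a : G)⁻¹ * (b : G) ∈ K)
  have hbij : Function.Bijective f :=
    hinj.bijective_of_nat_card_le (le_of_eq hrel.symm)
  obtain ⟨x, hx⟩ := hbij.2 (QuotientGroup.mk g)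
  induction x using QuotientGroup.induction_on with | _ x => ?_
  exact ⟨x, x.2, _, QuotientGroup.eq.1 hx, (mul_inv_cancel_left (x : G) g).symm⟩

end Cfsg.Agent.S0007
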