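-- Statement S0014
import Cfsg.Statements.S0014
import Cfsg.Agent.Solv.FittingBasic

set_option autoImplicit false
open Cfsg
open scoped commutatorElement Pointwise
set_option linter.style.haveILetI false
set_option linter.deprecated false

namespace Cfsg.Agent.S0014

/-- Burnside's basis Theorem: in a finite p-group whose Frattini quotient has order p ^ n, every generating set contains n elements that already generate, and no set with fewer than n elements generates. -/
theorem result {G : Type*} [Group G] [Finite G] (p n : ℕ) [Fact p.Prime]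
    (hG : IsPGroup p G) (hn : (frattini G).index = p ^ n) :
    (∀ S : Finset G, Subgroup.closure (S : Set G) = ⊤ → ∃ T : Finset G, T ⊆ S ∧ T.card = n ∧ Subgroup.closure (T : Set G) = ⊤) ∧
    (∀ T : Finset G, Subgroup.closure (T : Set G) = ⊤ → n ≤ T.card) := by
  classical
  have hp : p.Prime := Fact.out
  set Φ := frattini G with hΦ
  have hcomm := CfsgLib.Solv.commutator_le_frattini hG
  -- one more generator multiplies the order by at most `p`, and exactly `p` if it is new
  have hstep : ∀ (H : Subgroup G) (t : G), Φ ≤ H →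
      (t ∈ H → Nat.card (H ⊔ Subgroup.zpowers t : Subgroup G) = Nat.card H) ∧
      (t ∉ H → Nat.card (H ⊔ Subgroup.zpowers t : Subgroup G) = p * Nat.card H) := by
    intro H t hH
    refine ⟨fun ht => by rw [sup_eq_left.2 (Subgroup.zpowers_le.2 ht)], fun ht => ?_⟩
    haveI : H.Normal := Subgroup.Normal.mk fun x hx g => by
      have : ⁅g, x⁆ ∈ H := hH (hcomm (Subgroup.commutator_mem_commutator (Subgroup.mem_top g)
        (Subgroup.mem_top x)))
      simpa [commutatorElement_def] using mul_mem this hx
    set π := QuotientGroup.mk' H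
    have ho : orderOf (π t) = p := orderOf_eq_prime (by
      rw [← map_pow, QuotientGroup.mk'_apply, QuotientGroup.eq_one_iff]
      exact hH (CfsgLib.Solv.pow_mem_frattini hG t)) (fun h => ht ((QuotientGroup.eq_one_iff t).1 h))
    have hcomap : (Subgroup.zpowers (π t)).comap π = H ⊔ Subgroup.zpowers t := by
      rw [← MonoidHom.map_zpowers, Subgroup.comap_map_eq, QuotientGroup.ker_mk', sup_comm]
    have h1 : (H ⊔ Subgroup.zpowers t).index * p = H.index := by
      rw [← hcomap, Subgroup.index_comap_of_surjective _ (QuotientGroup.mk'_surjective H), ← ho,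
        ← Nat.card_zpowers, Subgroup.index_mul_card]
      rfl
    have h2 := (H ⊔ Subgroup.zpowers t).card_mul_index
    have h3 := H.card_mul_index
    rw [← h1, ← h2, mul_comm (H ⊔ Subgroup.zpowers t).index p, ← mul_assoc] at h3
    rw [mul_comm p]
    exact (Nat.eq_of_mul_eq_mul_right
      (Nat.pos_of_ne_zero (H ⊔ Subgroup.zpowers t).index_ne_zero_of_finite) h3).symm
  have hins : ∀ (T : Finset G) (t : G), Subgroup.closure ((insert t T : Finset G) : Set G) ⊔ Φ =
      (Subgroup.closure (T : Set G) ⊔ Φ) ⊔ Subgroup.zpowers t := by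
    intro T t
    rw [Finset.coe_insert, Set.insert_eq, Subgroup.closure_union, ← Subgroup.zpowers_eq_closure,
      sup_comm (Subgroup.zpowers t), sup_assoc, sup_comm (Subgroup.zpowers t) Φ, ← sup_assoc]
  have hGcard : Nat.card G = p ^ n * Nat.card Φ := by rw [← hn, Subgroup.index_mul_card]
  have hbound : ∀ T : Finset G,
      Nat.card (Subgroup.closure (T : Set G) ⊔ Φ : Subgroup G) ≤ p ^ T.card * Nat.card Φ := by
    intro T
    induction T using Finset.induction_on with
    | empty => simp
    | insert t T ht ih =>
      rw [hins, Finset.card_insert_of_notMem ht, pow_succ, mul_comm (p ^ T.card) p, mul_assoc]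
      rcases Classical.em (t ∈ Subgroup.closure (T : Set G) ⊔ Φ) with h | h
      · rw [(hstep _ t le_sup_right).1 h]
        exact ih.trans (Nat.le_mul_of_pos_left _ hp.pos)
      · rw [(hstep _ t le_sup_right).2 h]
        exact Nat.mul_le_mul_left _ ih
  refine ⟨fun S hS => ?_, fun T hT => ?_⟩
  · haveI := Fintype.ofFinite G
    obtain ⟨T, hT⟩ := (Set.toFinite {T : Finset G | T ⊆ S ∧
        Nat.card (Subgroup.closure (T : Set G) ⊔ Φ : Subgroup G) = p ^ T.card * Nat.card Φ}).exists_maximal ⟨∅, by simp, by simp⟩
    obtain ⟨hTS, hTc⟩ := hT.1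
    have hSle : ∀ s ∈ S, s ∈ Subgroup.closure (T : Set G) ⊔ Φ := by
      intro s hs
      by_contra hcon
      have hsT : s ∉ T := fun h => hcon (Subgroup.mem_sup_left (Subgroup.subset_closure h))
      have h2 : insert s T ∈ {T : Finset G | T ⊆ S ∧
          Nat.card (Subgroup.closure (T : Set G) ⊔ Φ : Subgroup G) = p ^ T.card * Nat.card Φ} :=
        ⟨Finset.insert_subset hs hTS, by
          rw [hins, (hstep _ s le_sup_right).2 hcon, hTc, Finset.card_insert_of_notMem hsT, pow_succ]
          ring⟩
      exact hsT (hT.2 h2 (Finset.subset_insert s T) (Finset.mem_insert_self s T))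
    have htop : Subgroup.closure (T : Set G) ⊔ Φ = ⊤ :=
      eq_top_iff.2 (hS ▸ (Subgroup.closure_le _).2 hSle)
    refine ⟨T, hTS, ?_, frattini_nongenerating htop⟩
    rw [htop, Subgroup.card_top, hGcard] at hTc
    exact (Nat.pow_right_injective hp.two_le (Nat.eq_of_mul_eq_mul_right Nat.card_pos hTc)).symm
  · have h := hbound T
    rw [hT, top_sup_eq, Subgroup.card_top, hGcard] at h
    exact (Nat.pow_le_pow_iff_right hp.one_lt).1 (Nat.le_of_mul_le_mul_right h Nat.card_pos)

end Cfsg.Agent.S0014
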