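-- Statement S0015
import Cfsg.Statements.S0015
import Cfsg.Agent.Solv.FittingBasic

set_option autoImplicit false
open Cfsg
open scoped commutatorElement
set_option linter.style.haveILetI false
set_option linter.deprecated false

namespace Cfsg.Agent.S0015

/-- In a finite nilpotent group, an abelian normal subgroup that is maximal among abelian normal subgroups equals its own centralizer. -/
theorem result {G : Type*} [Group G] [Finite G] [Group.IsNilpotent G]
    (N : Subgroup G) [N.Normal] [IsMulCommutative N]
    (hmax : ∀ M : Subgroup G, M.Normal → IsMulCommutative M → N ≤ M → M = N) :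
    Subgroup.centralizer (N : Set G) = N := by
  classical
  set C := Subgroup.centralizer (N : Set G) with hC
  haveI : C.Normal := by rw [hC]; infer_instance
  have hNC : N ≤ C := fun x hx => Subgroup.mem_centralizer_iff.2 fun y hy =>
    congrArg Subtype.val ((IsMulCommutative.is_comm (M := N)).comm ⟨y, hy⟩ ⟨x, hx⟩)
  refine le_antisymm ?_ hNC
  obtain ⟨n, hn⟩ := Group.IsNilpotent.nilpotent (G := G)
  suffices h : ∀ k, C ⊓ Subgroup.upperCentralSeries G k ≤ N by
    have := h n
    rwa [hn, inf_top_eq] at this
  intro k
  induction k with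
  | zero => rw [Subgroup.upperCentralSeries_zero, inf_bot_eq]; exact bot_le
  | succ k ih =>
    intro x hx
    obtain ⟨hxC, hxZ⟩ := Subgroup.mem_inf.1 hx
    by_contra hxN
    have hcomm : ∀ g : G, ⁅x, g⁆ ∈ N := by
      intro g
      refine ih (Subgroup.mem_inf.2 ⟨?_, Subgroup.mem_upperCentralSeries_succ_iff.1 hxZ g⟩)
      have := mul_mem hxC (Subgroup.Normal.conj_mem (inferInstance : C.Normal) _ (inv_mem hxC) g)
      simpa [commutatorElement_def, mul_assoc] using this
    set M := N ⊔ Subgroup.zpowers x
    have hMn : M.Normal := Subgroup.Normal.mk fun y hy g => by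
      have h : M ≤ M.comap (MulAut.conj g).toMonoidHom := by
        refine sup_le (fun z hz => Subgroup.mem_sup_left
          (Subgroup.Normal.conj_mem (inferInstance : N.Normal) z hz g)) (Subgroup.zpowers_le.2 ?_)
        show g * x * g⁻¹ ∈ M
        have h1 : g * x * g⁻¹ = ⁅x, g⁆⁻¹ * x := by simp [commutatorElement_def, mul_assoc]
        rw [h1]
        exact mul_mem (Subgroup.mem_sup_left (inv_mem (hcomm g)))
          (Subgroup.mem_sup_right (Subgroup.mem_zpowers x))
      exact h hy
    have hMab : IsMulCommutative M := by
      have hle : M ≤ Subgroup.centralizer (M : Set G) := by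
        have hxx : N ⊔ Subgroup.zpowers x ≤ Subgroup.centralizer (N : Set G) :=
          sup_le hNC (Subgroup.zpowers_le.2 hxC)
        refine sup_le ?_ (Subgroup.zpowers_le.2 ?_)
        · exact (Subgroup.le_centralizer_iff.1 hxx)
        · rw [Subgroup.mem_centralizer_iff]
          have : M ≤ Subgroup.centralizer {x} := by
            refine sup_le (fun z hz => Subgroup.mem_centralizer_singleton_iff.2 ?_)
              (Subgroup.zpowers_le.2 (Subgroup.mem_centralizer_singleton_iff.2 rfl))
            exact Subgroup.mem_centralizer_iff.1 hxC z hz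
          exact fun z hz => Subgroup.mem_centralizer_singleton_iff.1 (this hz)
      exact ⟨⟨fun a b => Subtype.ext (Subgroup.mem_centralizer_iff.1 (hle b.2) a a.2)⟩⟩
    have hMN := hmax M hMn hMab le_sup_left
    exact hxN (hMN.le (Subgroup.mem_sup_right (Subgroup.mem_zpowers x)))
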