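-- Statement S0018
import Cfsg.Statements.S0018
import Cfsg.Agent.Solv.FittingBasic

set_option autoImplicit false
open Cfsg
open scoped commutatorElement
set_option linter.style.haveILetI false
set_option linter.deprecated false

namespace Cfsg.Agent.S0018

/-- A finite solvable group whose Sylow p-subgroups are abelian has p-length one: a Sylow p-subgroup together with the largest normal subgroup of order prime to p generates a normal subgroup. -/
theorem result {G : Type*} [Group G] [Finite G] [Group.IsSolvable G]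
    (p : ℕ) [Fact p.Prime] (P : Sylow p G) (hP : IsMulCommutative P) :
    ((P : Subgroup G) ⊔ Cfsg.pPrimeCore p G).Normal := by
  haveI := CfsgLib.Solv.pPrimeCore_normal G p
  set M := Cfsg.pPrimeCore p G with hM
  set π := QuotientGroup.mk' M
  have hsurj : Function.Surjective π := QuotientGroup.mk'_surjective M
  set P' := Sylow.mapSurjective (f := π) hsurj P with hP'
  have hcoe : (P' : Subgroup (G ⧸ M)) = (P : Subgroup G).map π := rfl
  set O := Cfsg.pCore p (G ⧸ M) with hO
  have hOP : O ≤ (P' : Subgroup (G ⧸ M)) := by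
    haveI := CfsgLib.Solv.pCore_normal (G ⧸ M) p
    exact (CfsgLib.Solv.pCore_isPGroup (G ⧸ M) p).le_sylow_of_normal P'
  have hPC : (P' : Subgroup (G ⧸ M)) ≤ Subgroup.centralizer (O : Set (G ⧸ M)) := by
    intro x hx
    rw [Subgroup.mem_centralizer_iff]
    intro y hy
    have hy' := hOP hy
    rw [hcoe] at hx hy'
    obtain ⟨a, ha, rfl⟩ := hx
    obtain ⟨b, hb, rfl⟩ := hy'
    rw [← map_mul, ← map_mul]
    exact congrArg π (congrArg Subtype.val (hP.is_comm.comm ⟨b, hb⟩ ⟨a, ha⟩))
  have heq : (P : Subgroup G).map π = O :=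
    le_antisymm (hcoe ▸ hPC.trans (CfsgLib.Solv.centralizer_pCore_le
      CfsgLib.Solv.pPrimeCore_quotient_self)) (hcoe ▸ hOP)
  have h2 : (P : Subgroup G) ⊔ M = O.comap π := by
    rw [← heq, Subgroup.comap_map_eq, QuotientGroup.ker_mk']
  rw [h2]
  exact (CfsgLib.Solv.pCore_normal (G ⧸ M) p).comap π

end Cfsg.Agent.S0018
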