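-- Statement S0019
import Cfsg.Statements.S0019
import Cfsg.Agent.Solv.FittingBasic
import Cfsg.Agent.Solv.MinimalNormal
import Cfsg.Agent.Solv.Hall

set_option autoImplicit false
open Cfsg
open scoped commutatorElement Pointwise
set_option linter.style.haveILetI false
set_option linter.deprecated false

namespace Cfsg.Agent.S0019

/-- A finite group that factorises as H₁H₂ and as H₁H₃ with all three subgroups solvable and the indices of H₂ and H₃ coprime is solvable. -/
theorem result {G : Type*} [Group G] [Finite G] (H₁ H₂ H₃ : Subgroup G)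
    (h₁ : Group.IsSolvable H₁) (h₂ : Group.IsSolvable H₂) (h₃ : Group.IsSolvable H₃)
    (h12 : ∀ g : G, ∃ x ∈ H₁, ∃ y ∈ H₂, g = x * y) (h13 : ∀ g : G, ∃ x ∈ H₁, ∃ y ∈ H₃, g = x * y)
    (hcop : H₂.index.Coprime H₃.index) : Group.IsSolvable G := by
  suffices key : ∀ (n : ℕ) (X : Type _) [Group X] [Finite X], Nat.card X = n → ∀ (A B C : Subgroup X),
      Group.IsSolvable A → Group.IsSolvable B → Group.IsSolvable C →
      (∀ g : X, ∃ x ∈ A, ∃ y ∈ B, g = x * y) → (∀ g : X, ∃ x ∈ A, ∃ y ∈ C, g = x * y) →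
      B.index.Coprime C.index → Group.IsSolvable X from key _ G rfl H₁ H₂ H₃ h₁ h₂ h₃ h12 h13 hcop
  intro n
  induction n using Nat.strong_induction_on with
  | _ n ih => ?_
  intro X _ _ hn A B C hA hB hC hAB hAC hBC
  haveI := hA
  haveI := hB
  haveI := hC
  -- every proper quotient is solvable
  have quot : ∀ M : Subgroup X, M.Normal → M ≠ ⊥ → Group.IsSolvable M → Group.IsSolvable X := by
    intro M hM hMne hMs
    haveI := hM
    haveI := hMs
    have hlt : Nat.card (X ⧸ M) < n := by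
      rw [← hn, ← M.index_mul_card]
      exact lt_mul_of_one_lt_right (Nat.pos_of_ne_zero M.index_ne_zero_of_finite)
        (M.one_lt_card_iff_ne_bot.2 hMne)
    set f := QuotientGroup.mk' M
    have hf : Function.Surjective f := QuotientGroup.mk'_surjective M
    have himg : ∀ Y : Subgroup X, Group.IsSolvable Y → Group.IsSolvable (Y.map f) := by
      intro Y hY
      haveI := hY
      exact Group.isSolvable_of_surjective (f := f.subgroupMap Y) (f.subgroupMap_surjective Y)
    have hq := ih _ hlt (X ⧸ M) rfl (A.map f) (B.map f) (C.map f) (himg A hA) (himg B hB) (himg C hC)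
      (fun g => by
        obtain ⟨g, rfl⟩ := hf g
        obtain ⟨x, hx, y, hy, rfl⟩ := hAB g
        exact ⟨f x, ⟨x, hx, rfl⟩, f y, ⟨y, hy, rfl⟩, map_mul f x y⟩)
      (fun g => by
        obtain ⟨g, rfl⟩ := hf g
        obtain ⟨x, hx, y, hy, rfl⟩ := hAC g
        exact ⟨f x, ⟨x, hx, rfl⟩, f y, ⟨y, hy, rfl⟩, map_mul f x y⟩)
      ((hBC.coprime_dvd_left (Subgroup.index_map_dvd B hf)).coprime_dvd_right
        (Subgroup.index_map_dvd C hf))
    haveI := hq
    exact Group.isSolvable_of_ker_le_range M.subtype f (by rw [QuotientGroup.ker_mk', Subgroup.range_subtype])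
  rcases eq_or_ne A ⊥ with rfl | hAne
  · have : B = ⊤ := eq_top_iff.2 fun g _ => by
      obtain ⟨x, hx, y, hy, rfl⟩ := hAB g
      rwa [Subgroup.mem_bot.1 hx, one_mul]
    haveI : Group.IsSolvable (⊤ : Subgroup X) := this ▸ hB
    exact Group.isSolvable_of_surjective (f := (⊤ : Subgroup X).subtype) fun x => ⟨⟨x, trivial⟩, rfl⟩
  -- a minimal normal `p`-subgroup of `A`
  haveI : Nontrivial A := A.nontrivial_iff_ne_bot.2 hAne
  obtain ⟨N, p, hp, hNmin, -, -, hNp⟩ := CfsgLib.Solv.exists_minimal_normal_pGroup (G := A)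
  haveI := Fact.mk hp
  have hNn := hNmin.1
  have hNne := hNmin.2.1
  set N' := N.map A.subtype
  have hN'p : IsPGroup p N' := hNp.map A.subtype
  have hN'A : N' ≤ A := Subgroup.map_subtype_le _
  have main : ∀ D : Subgroup X, Group.IsSolvable D → (∀ g : X, ∃ x ∈ A, ∃ y ∈ D, g = x * y) →
      ¬ p ∣ D.index → Group.IsSolvable X := by
    intro D hD hAD hpD
    haveI := hD
    obtain ⟨P⟩ : Nonempty (Sylow p D) := inferInstance
    have hPX : ¬ p ∣ ((P : Subgroup D).map D.subtype).index := by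
      rw [Subgroup.index_map_subtype]
      exact fun h => (hp.dvd_mul.1 h).elim P.not_dvd_index hpD
    obtain ⟨S, hS⟩ : ∃ S : Sylow p X, (S : Subgroup X) ≤ D :=
      ⟨(P.2.map D.subtype).toSylow hPX, Subgroup.map_subtype_le _⟩
    obtain ⟨T, hT⟩ := hN'p.exists_le_sylow
    obtain ⟨g, hg⟩ := MulAction.exists_smul_eq X S T
    obtain ⟨x, hx, y, hy, rfl⟩ := hAD g
    have hND : N' ≤ D := by
      intro z hz
      have hz' : x * z * x⁻¹ ∈ N' := by
        obtain ⟨w, hw, rfl⟩ := hz
        exact ⟨⟨x, hx⟩ * w * ⟨x, hx⟩⁻¹, hNn.conj_mem w hw _, rfl⟩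
      have h1 := hT hz'
      rw [← hg, Sylow.coe_subgroup_smul, CfsgLib.Solv.mem_conj_smul_iff] at h1
      have h2 : y⁻¹ * z * y ∈ D := by simpa [mul_assoc] using hS h1
      have := mul_mem (mul_mem hy h2) (inv_mem hy)
      simpa [mul_assoc] using this
    have hcl : Subgroup.normalClosure (N' : Set X) ≤ D := by
      refine (Subgroup.closure_le _).2 fun w hw => ?_
      obtain ⟨z, hz, hzw⟩ := Group.mem_conjugatesOfSet_iff.1 hw
      obtain ⟨g, rfl⟩ := isConj_iff.1 hzw
      obtain ⟨a, ha, d, hd, hgd⟩ := hAD g⁻¹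
      have hz' : a⁻¹ * z * a ∈ N' := by
        obtain ⟨v, hv, rfl⟩ := hz
        exact ⟨⟨a, ha⟩⁻¹ * v * ⟨a, ha⟩⁻¹⁻¹, hNn.conj_mem v hv _, by simp⟩
      have hg' : g = d⁻¹ * a⁻¹ := by rw [← mul_inv_rev, ← hgd, inv_inv]
      have := mul_mem (mul_mem (inv_mem hd) (hND hz')) hd
      simpa [hg', mul_assoc] using this
    refine quot (Subgroup.normalClosure (N' : Set X)) inferInstance ?_ (CfsgLib.Solv.isSolvable_of_le hcl)
    intro h
    refine hNne ((Subgroup.map_eq_bot_iff_of_injective _ A.subtype_injective).1 ?_)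
    exact le_bot_iff.1 (Subgroup.le_normalClosure.trans h.le)
  by_cases hpB : p ∣ B.index
  · exact main C hC hAC fun h => hp.one_lt.ne' (Nat.eq_one_of_dvd_coprimes hBC hpB h)
  · exact main B hB hAB hpB

end Cfsg.Agent.S0019
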