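-- Statement S0021
import Cfsg.Statements.S0021
import Cfsg.Agent.Solv.ConverseHall
import Cfsg.Agent.Solv.Permutable

set_option autoImplicit false
open Pointwise
open Cfsg
open scoped commutatorElement Pointwise
set_option linter.style.haveILetI false
set_option linter.deprecated false

namespace Cfsg.Agent.S0021

/-- A finite group with a family of pairwise permuting Sylow subgroups, one for each prime, is solvable (this direction rests on Burnside's two-prime Theorem). -/
theorem result {G : Type*} [Group G] [Finite G]
    (S : (p : Nat.Primes) → Sylow (p : ℕ) G)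
    (hS : ∀ p q : Nat.Primes, (S p : Set G) * (S q : Set G) = (S q : Set G) * (S p : Set G)) :
    Group.IsSolvable G := by
  classical
  refine CfsgLib.Solv.converse_hall _ G rfl fun p hp => ?_
  have hn0 : Nat.card G ≠ 0 := Nat.card_pos.ne'
  have hcard : ∀ q : Nat.Primes,
      Nat.card (S q : Subgroup G) = (q : ℕ) ^ (Nat.card G).factorization (q : ℕ) := fun q => by
    haveI := Fact.mk q.2
    exact (S q).card_eq_multiplicity
  set T : Finset Nat.Primes :=
    ((Nat.card G).primeFactors.erase p).attach.map
      ⟨fun x : {x // x ∈ (Nat.card G).primeFactors.erase p} => (⟨x.1, Nat.prime_of_mem_primeFactors (Finset.mem_of_mem_erase x.2)⟩ : Nat.Primes),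
        fun a b he => Subtype.ext (congrArg (fun z : Nat.Primes => (z : ℕ)) he)⟩
  obtain ⟨H, hH, -, -⟩ := CfsgLib.Solv.exists_subgroup_of_permuting_family
    (fun q => (S q : Subgroup G)) (fun i j => hS i j) (fun i j hij => by
      rw [hcard, hcard]
      exact Nat.Coprime.pow _ _ ((Nat.coprime_primes i.2 j.2).2 fun e => hij (Subtype.ext e))) T
  refine ⟨H, ?_⟩
  have hprod : Nat.card H = ∏ q ∈ (Nat.card G).primeFactors.erase p,
      q ^ (Nat.card G).factorization q := by
    rw [hH, ← Finset.prod_attach ((Nat.card G).primeFactors.erase p)]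
    simp only [T]
    rw [Finset.prod_map]
    exact Finset.prod_congr rfl fun x _ => hcard _
  have htot : ∏ q ∈ (Nat.card G).primeFactors, q ^ (Nat.card G).factorization q = Nat.card G :=
    Nat.prod_factorization_pow_eq_self hn0
  have hsplit : Nat.card G = p ^ (Nat.card G).factorization p * Nat.card H := by
    rw [hprod]
    by_cases hp' : p ∈ (Nat.card G).primeFactors
    · rw [Finset.mul_prod_erase _ (fun q => q ^ (Nat.card G).factorization q) hp', htot]
    · rw [Finset.erase_eq_of_notMem hp', htot, Nat.factorization_eq_zero_of_not_dvd, pow_zero, one_mul]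
      exact fun hd => hp' (Nat.mem_primeFactors.2 ⟨hp, hd, hn0⟩)
  have h1 := H.index_mul_card
  rw [hsplit] at h1
  rw [Nat.eq_of_mul_eq_mul_right Nat.card_pos h1]

end Cfsg.Agent.S0021
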