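-- Statement S0030
import Cfsg.Statements.S0030
import Cfsg.Agent.Solv.CoprimeAction

set_option autoImplicit false
open Cfsg

namespace Cfsg.Agent.S0030

/-- Under coprime action fixed points of a product of two invariant subgroups factor: if K = X Y with X and Y normalised by A then every A-fixed element of K is a product of an A-fixed element of X and an A-fixed element of Y. -/
theorem result {G : Type*} [Group G] [Finite G] (A K : Subgroup G) (hAK : A ≤ Subgroup.normalizer (K : Set G))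
    (hcop : (Nat.card A).Coprime (Nat.card K)) (hsolv : Group.IsSolvable A ∨ Group.IsSolvable K)
    (X Y : Subgroup G) (hX : X ≤ K) (hY : Y ≤ K) (hXA : A ≤ Subgroup.normalizer (X : Set G)) (hYA : A ≤ Subgroup.normalizer (Y : Set G))
    (hXY : ∀ k ∈ K, ∃ x ∈ X, ∃ y ∈ Y, k = x * y) (k : G) (hk : k ∈ K ⊓ Subgroup.centralizer (A : Set G)) :
    ∃ x ∈ X ⊓ Subgroup.centralizer (A : Set G), ∃ y ∈ Y ⊓ Subgroup.centralizer (A : Set G), k = x * y := by
  obtain ⟨hkK, hkC⟩ := Subgroup.mem_inf.1 hk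
  obtain ⟨x, hx, y, hy, rfl⟩ := hXY k hkK
  have hD : ∀ a ∈ A, x⁻¹ * a * x * a⁻¹ ∈ X ⊓ Y := by
    intro a ha
    have h1 : a * x * a⁻¹ ∈ X := CfsgLib.Solv.le_normalizer_iff_forall_conj_mem.1 hXA a ha x hx
    have h2 : a * y * a⁻¹ ∈ Y := CfsgLib.Solv.le_normalizer_iff_forall_conj_mem.1 hYA a ha y hy
    have h3 := Subgroup.mem_centralizer_iff.1 hkC a ha
    have h4 : x⁻¹ * a * x * a⁻¹ = y * (a * y * a⁻¹)⁻¹ := by
      have h5 : a * x = x * y * a * y⁻¹ := by rw [← h3]; group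
      calc x⁻¹ * a * x * a⁻¹ = x⁻¹ * (a * x) * a⁻¹ := by group
        _ = y * (a * y * a⁻¹)⁻¹ := by rw [h5]; group
    refine Subgroup.mem_inf.2 ⟨?_, h4 ▸ mul_mem hy (inv_mem h2)⟩
    simpa [mul_assoc] using mul_mem (inv_mem hx) h1
  obtain ⟨d, hd, hc⟩ := CfsgLib.Solv.exists_centralizing_in_coset (D := X ⊓ Y) hAK
    (CfsgLib.Solv.inf_eq_bot_of_coprime_card hcop) (inf_le_left.trans hX)
    (CfsgLib.Solv.le_normalizer_inf_of_le hXA hYA)
    (hcop.of_dvd_right (Subgroup.card_dvd_of_le (inf_le_left.trans hX)))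
    (hsolv.imp_right fun (h : Group.IsSolvable K) => haveI := h
      CfsgLib.Solv.isSolvable_of_le (inf_le_left.trans hX)) (hX hx) hD
  obtain ⟨hdX, hdY⟩ := Subgroup.mem_inf.1 hd
  refine ⟨x * d, Subgroup.mem_inf.2 ⟨mul_mem hx hdX, hc⟩, d⁻¹ * y, Subgroup.mem_inf.2 ⟨mul_mem (inv_mem hdY) hy, ?_⟩, by group⟩
  simpa [mul_assoc] using mul_mem (inv_mem hc) hkC

end Cfsg.Agent.S0030
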