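-- Statement S0031
import Cfsg.Statements.S0031
import Cfsg.Agent.Solv.FittingBasic

set_option autoImplicit false
open Cfsg
open scoped commutatorElement Pointwise
set_option linter.style.haveILetI false
set_option linter.deprecated false

namespace Cfsg.Agent.S0031

/-- A fixed-point-free automorphism of a finite group maps some Sylow p-subgroup to itself. -/
theorem result {G : Type*} [Group G] [Finite G] (φ : G ≃* G)
    (hφ : MonoidHom.FixedPointFree (φ : G →* G)) (p : ℕ) [Fact p.Prime] :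
    ∃ P : Sylow p G, (P : Subgroup G).map (φ : G →* G) = P := by
  obtain ⟨P⟩ : Nonempty (Sylow p G) := inferInstance
  haveI : Fintype G := Fintype.ofFinite G
  set P' := P.mapSurjective (f := (φ : G →* G)) φ.surjective with hP'
  obtain ⟨g, hg⟩ := MulAction.exists_smul_eq G P P'
  obtain ⟨x, hx⟩ := hφ.commutatorMap_surjective g⁻¹
  have hxg : g * x = φ x := by
    simp only [MonoidHom.commutatorMap_apply, MonoidHom.coe_coe] at hx
    rw [div_eq_mul_inv, eq_inv_iff_mul_eq_one, mul_assoc] at hx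
    have h1 : (φ x)⁻¹ * g = x⁻¹ := eq_inv_of_mul_eq_one_right hx
    rw [inv_mul_eq_iff_eq_mul] at h1
    rw [h1, inv_mul_cancel_right]
  refine ⟨x⁻¹ • P, ?_⟩
  ext y
  constructor
  · rintro ⟨z, hz, rfl⟩
    rw [SetLike.mem_coe, Sylow.coe_subgroup_smul, CfsgLib.Solv.mem_conj_smul_iff] at hz
    have h2 : φ (x * z * x⁻¹) ∈ (g • P : Sylow p G) := by
      rw [hg]
      exact Subgroup.mem_map_of_mem _ (by simpa using hz)
    rw [Sylow.coe_subgroup_smul, CfsgLib.Solv.mem_conj_smul_iff]
    rw [← SetLike.mem_coe, ← Sylow.coe_coe, SetLike.mem_coe, Sylow.coe_subgroup_smul, CfsgLib.Solv.mem_conj_smul_iff] at h2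
    simpa [map_mul, map_inv, ← hxg, mul_assoc] using h2
  · intro hy
    refine ⟨φ.symm y, ?_, φ.apply_symm_apply y⟩
    rw [Sylow.coe_subgroup_smul, CfsgLib.Solv.mem_conj_smul_iff] at hy
    rw [SetLike.mem_coe, Sylow.coe_subgroup_smul, CfsgLib.Solv.mem_conj_smul_iff]
    have h2 : (g * x) * y * (g * x)⁻¹ ∈ ((g • P : Sylow p G) : Subgroup G) := by
      rw [Sylow.coe_subgroup_smul, CfsgLib.Solv.mem_conj_smul_iff]
      simpa [mul_assoc] using hy
    rw [hg] at h2
    obtain ⟨z, hz, hze⟩ := h2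
    have : z = x * φ.symm y * x⁻¹ := φ.injective (by
      simp only [map_mul, map_inv, φ.apply_symm_apply]
      rw [← hxg]
      simpa using hze)
    rw [inv_inv, ← this]; exact hz

end Cfsg.Agent.S0031
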