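-- Statement S0032
import Cfsg.Statements.S0032
import Cfsg.Agent.Solv.FittingBasic

set_option autoImplicit false
open Cfsg
open scoped commutatorElement Pointwise
set_option linter.style.haveILetI false
set_option linter.deprecated false

namespace Cfsg.Agent.S0032

/-- If an automorphism of a finite group fixes only the identity and maps a normal subgroup N into itself, then the only cosets of N it fixes are those in N: a fixed coset xN forces x ∈ N. -/
theorem result {G : Type*} [Group G] [Finite G] (φ : G ≃* G)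
    (hφ : MonoidHom.FixedPointFree (φ : G →* G)) (N : Subgroup G) [N.Normal] (hN : ∀ n ∈ N, φ n ∈ N)
    (x : G) (hx : (φ x)⁻¹ * x ∈ N) : x ∈ N := by
  let ψ : N →* N := ((φ : G →* G).comp N.subtype).codRestrict N (fun n => hN n n.2)
  have hψ : MonoidHom.FixedPointFree ψ := fun n hn =>
    Subtype.ext (hφ n (congrArg Subtype.val hn))
  have hmem : x * (φ x)⁻¹ ∈ N := by
    have := Subgroup.Normal.conj_mem (inferInstance : N.Normal) _ hx (φ x)
    rwa [mul_inv_cancel_left] at this
  obtain ⟨n, hn⟩ := hψ.commutatorMap_surjective ⟨_, hmem⟩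
  have h : (n : G) * (φ (n : G))⁻¹ = x * (φ x)⁻¹ := by
    have h0 := congrArg Subtype.val hn
    rw [MonoidHom.commutatorMap_apply, div_eq_mul_inv, Subgroup.coe_mul, Subgroup.coe_inv] at h0
    exact h0
  have : φ ((n : G)⁻¹ * x) = (n : G)⁻¹ * x := by
    rw [map_mul, map_inv]
    have h1 : (φ (n : G))⁻¹ = (n : G)⁻¹ * (x * (φ x)⁻¹) := by rw [← h, inv_mul_cancel_left]
    rw [h1]; simp [mul_assoc]
  have h3 := hφ _ this
  rw [inv_mul_eq_one] at h3
  exact h3 ▸ n.2

end Cfsg.Agent.S0032
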