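-- Statement S0033
import Cfsg.Statements.S0033
import Cfsg.Agent.Solv.FpfNilpotent

set_option autoImplicit false
open Cfsg
open scoped commutatorElement Pointwise
set_option linter.style.haveILetI false
set_option linter.deprecated false

namespace Cfsg.Agent.S0033

/-- Thompson's Theorem on fixed-point-free automorphisms: a finite group with an automorphism of prime order fixing only the identity is nilpotent. -/
theorem result {G : Type*} [Group G] [Finite G] (φ : G ≃* G)
    (hφ : MonoidHom.FixedPointFree (φ : G →* G)) (p : ℕ) (hp : p.Prime) (hord : orderOf φ = p) :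
    Group.IsNilpotent G := by
    haveI : Fact p.Prime := ⟨hp⟩
    refine CfsgLib.Solv.isNilpotent_of_fpf hφ (p := p) fun x => ?_
    have h : ∀ i, (⇑φ)^[i] x = ((φ : MulAut G) ^ i) x := fun i => by
      induction i with
      | zero => rfl
      | succ i hi => rw [Function.iterate_succ_apply', hi, pow_succ']; rfl
    rw [h, ← hord, pow_orderOf_eq_one]; rfl

end Cfsg.Agent.S0033
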