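-- Statement S0034
import Cfsg.Statements.S0034
import Cfsg.Agent.Solv.FrobeniusAction

set_option autoImplicit false
open Cfsg
open scoped commutatorElement Pointwise
set_option linter.style.haveILetI false
set_option linter.deprecated false

namespace Cfsg.Agent.S0034

/-- For a Frobenius complement H, the set of elements lying in no conjugate of H, together with 1, has exactly as many elements as the index of H, and that index is congruent to 1 modulo the order of H. -/
theorem result {G : Type*} [Group G] [Finite G] (H : Subgroup G) (hH : Cfsg.IsFrobeniusComplement H) :
    Nat.card (Cfsg.frobeniusKernel H) = H.index ∧ H.index % Nat.card H = 1 % Nat.card H := by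
  exact ⟨CfsgLib.Solv.frobenius_card_kernel hH, CfsgLib.Solv.frobenius_index_modEq_one hH⟩

end Cfsg.Agent.S0034
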