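-- Statement S0038
import Cfsg.Statements.S0038
import Cfsg.Agent.Solv.FrobeniusAction

set_option autoImplicit false
open Pointwise
open Cfsg
open scoped commutatorElement Pointwise
set_option linter.style.haveILetI false
set_option linter.deprecated false

namespace Cfsg.Agent.S0038

/-- All Frobenius complements of a finite group are conjugate to one another. -/
theorem result {G : Type*} [Group G] [Finite G] (H H₀ : Subgroup G)
    (hH : Cfsg.IsFrobeniusComplement H) (hH₀ : Cfsg.IsFrobeniusComplement H₀) :
    ∃ g : G, MulAut.conj g • H₀ = H := by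
  suffices key : ∀ A B : Subgroup G, Cfsg.IsFrobeniusComplement A → Cfsg.IsFrobeniusComplement B →
      Nat.card A ≤ Nat.card B → ∃ g : G, MulAut.conj g • A = B by
    rcases le_total (Nat.card H₀) (Nat.card H) with h | h
    · exact key H₀ H hH₀ hH h
    · obtain ⟨g, hg⟩ := key H H₀ hH hH₀ h
      exact ⟨g⁻¹, by rw [← hg, map_inv, inv_smul_smul]⟩
  intro A B hA hB hAB
  obtain ⟨g, hg⟩ := CfsgLib.Solv.frobenius_le_conj_of_card_le hB hA hAB
  exact ⟨g, CfsgLib.Solv.frobenius_eq_of_le (CfsgLib.Solv.frobenius_conj hA g) hB hg⟩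

end Cfsg.Agent.S0038
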