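-- Statement S0040
import Cfsg.Statements.S0040
import Cfsg.Agent.Solv.UniqueSub
import Cfsg.Agent.Solv.FixedPointFree

set_option autoImplicit false
open Cfsg
open scoped commutatorElement Pointwise
set_option linter.style.haveILetI false
set_option linter.deprecated false

namespace Cfsg.Agent.S0040

/-- Sylow subgroups of Frobenius complements: if H complements a nontrivial normal subgroup K and every nonidentity element of H has trivial centraliser in K, then each Sylow subgroup of H is cyclic or isomorphic to a generalized quaternion group. -/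
theorem result {G : Type*} [Group G] [Finite G] (K H : Subgroup G) [K.Normal]
    (hc : Subgroup.IsComplement' K H) (hK : K ≠ ⊥) (hfpf : ∀ h ∈ H, h ≠ 1 → K ⊓ Subgroup.centralizer {h} = ⊥)
    (p : ℕ) [Fact p.Prime] (P : Sylow p H) :
    IsCyclic P ∨ ∃ n : ℕ, Nonempty (P ≃* QuaternionGroup (2 ^ n)) := by
    have hab : ∀ A : Subgroup (P : Subgroup H), IsMulCommutative A → IsCyclic A := by
      intro A hA
      haveI := hA
      set f : (P : Subgroup H) →* G := H.subtype.comp (P : Subgroup H).subtype
      have hf : Function.Injective f := fun a b e => Subtype.ext (Subtype.ext e)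
      haveI : IsMulCommutative (A.map f) := Subgroup.map_isMulCommutative A f
      have hle : A.map f ≤ H := by rintro _ ⟨a, _, rfl⟩; exact (a : H).2
      haveI := CfsgLib.Solv.isCyclic_of_fpf_abelian (A := A.map f) hK
        (Subgroup.normalizer_eq_top K ▸ le_top) (fun a ha ha1 => hfpf a (hle ha) ha1)
      exact isCyclic_of_surjective (A.equivMapOfInjective f hf).symm.toMonoidHom
        (A.equivMapOfInjective f hf).symm.surjective
    rcases CfsgLib.Solv.pgroup_unique_sub P.isPGroup'
      (fun x y hx hy => CfsgLib.Solv.unique_of_abelian_cyclic P.isPGroup' hab x y hx hy) with h | ⟨-, n, hn⟩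
    · exact Or.inl h
    · exact Or.inr ⟨n + 1, hn⟩

end Cfsg.Agent.S0040
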