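-- Statement S0042
import Cfsg.Statements.S0042
import Cfsg.Agent.Solv.FrobeniusNilp

set_option autoImplicit false
open Cfsg
open scoped commutatorElement Pointwise
set_option linter.style.haveILetI false
set_option linter.deprecated false

namespace Cfsg.Agent.S0042

/-- In a finite Frobenius group, the Frobenius kernel is (the carrier of) a normal subgroup which is nilpotent. -/
theorem result {G : Type*} [Group G] [Finite G] (H : Subgroup G) (hH : Cfsg.IsFrobeniusComplement H) :
    ∃ N : Subgroup G, (N : Set G) = Cfsg.frobeniusKernel H ∧ N.Normal ∧ Group.IsNilpotent N := by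
    obtain ⟨N, hN, hNn, hc⟩ := CfsgLib.Solv.frobenius_theorem hH
    haveI := hNn
    exact ⟨N, hN, hNn, CfsgLib.Solv.frobenius_isNilpotent hH hc.disjoint.eq_bot⟩

end Cfsg.Agent.S0042
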