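-- Statement S0050
import Cfsg.Statements.S0050
import Cfsg.Agent.Solv.Hall

set_option autoImplicit false
open Cfsg
open scoped commutatorElement Pointwise
set_option linter.style.haveILetI false
set_option linter.deprecated false

namespace Cfsg.Agent.S0050

/-- Frattini argument for Hall subgroups: if L is a solvable normal subgroup and H a subgroup of L of order coprime to its index in L, then L together with the normaliser of H generates the whole group. -/
theorem result {G : Type*} [Group G] [Finite G] (L : Subgroup G) [L.Normal] (hL : Group.IsSolvable L)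
    (H : Subgroup G) (hHL : H ≤ L) (hHall : (Nat.card H).Coprime (H.relIndex L)) :
    L ⊔ Subgroup.normalizer (H : Set G) = ⊤ := by
  rw [eq_top_iff]
  intro g _
  haveI := hL
  set π : Set ℕ := {p | p.Prime ∧ p ∣ Nat.card H}
  have hHcard : Nat.card (H.subgroupOf L) = Nat.card H := CfsgLib.Solv.card_subgroupOf hHL
  set H' := MulAut.conj g • H with hH'
  have hH'L : H' ≤ L := by
    intro x hx
    rw [hH', CfsgLib.Solv.mem_conj_smul_iff] at hx
    have := (inferInstance : L.Normal).conj_mem _ (hHL hx) g
    simpa [mul_assoc] using this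
  have hc' : Nat.card (H'.subgroupOf L) = Nat.card H := by
    rw [CfsgLib.Solv.card_subgroupOf hH'L, hH', CfsgLib.Solv.card_conj_smul]
  have hi' : (H'.subgroupOf L).index = H.relIndex L := by
    have h1 := (H'.subgroupOf L).card_mul_index
    have h2 := (H.subgroupOf L).card_mul_index
    rw [hc'] at h1
    rw [hHcard] at h2
    exact Nat.eq_of_mul_eq_mul_left Nat.card_pos (h1.trans h2.symm)
  have hπ : CfsgLib.Solv.PiNat π (Nat.card H) := fun p hp hd => ⟨hp, hd⟩
  have hπc : CfsgLib.Solv.PiNat πᶜ (H.relIndex L) := fun p hp hd hmem =>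
    hp.one_lt.ne' (Nat.eq_one_of_dvd_coprimes hHall hmem.2 hd)
  obtain ⟨⟨l, hl⟩, hle⟩ := CfsgLib.Solv.hall_conj (CfsgLib.Solv.PiSolvable.of_isSolvable (G := L) π)
    (hHcard ▸ hπ) hπc (hc' ▸ hπ) (hi'.symm ▸ hπc)
  have hN : l⁻¹ * g ∈ Subgroup.normalizer (H : Set G) := by
    refine CfsgLib.Solv.mem_normalizer_of_conj_smul_eq ?_
    rw [map_mul, mul_smul, map_inv, inv_smul_eq_iff, ← hH']
    ext x
    constructor
    · intro hx
      have h1 : (⟨x, hH'L hx⟩ : L) ∈ H'.subgroupOf L := Subgroup.mem_subgroupOf.2 hx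
      rw [← hle, CfsgLib.Solv.mem_conj_smul_iff] at h1
      rw [CfsgLib.Solv.mem_conj_smul_iff]
      simpa [Subgroup.mem_subgroupOf] using h1
    · intro hx
      rw [CfsgLib.Solv.mem_conj_smul_iff] at hx
      have hxL : x ∈ L := by
        have h1 := mul_mem (mul_mem hl (hHL hx)) (inv_mem hl)
        simpa [mul_assoc] using h1
      have h2 : (⟨x, hxL⟩ : L) ∈ MulAut.conj (⟨l, hl⟩ : L) • H.subgroupOf L := by
        rw [CfsgLib.Solv.mem_conj_smul_iff]
        simpa [Subgroup.mem_subgroupOf] using hx
      rw [hle] at h2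
      exact Subgroup.mem_subgroupOf.1 h2
  have := Subgroup.mul_mem_sup hl hN
  rwa [mul_inv_cancel_left] at this

end Cfsg.Agent.S0050
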