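-- Statement S0054
import Cfsg.Statements.S0054
import Cfsg.Agent.Solv.Maximal

set_option autoImplicit false
open Cfsg
open scoped commutatorElement Pointwise
set_option linter.style.haveILetI false
set_option linter.deprecated false

namespace Cfsg.Agent.S0054

/-- A regular normal subgroup of a finite 2-transitive group is elementary abelian: it is commutative and all its elements have order dividing one prime. -/
theorem result {G : Type*} [Group G] [Finite G]
    {X : Type*} [Nonempty X] [MulAction G X] (h2 : MulAction.IsMultiplyPretransitive G X 2)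
    (N : Subgroup G) [N.Normal] (htrans : MulAction.IsPretransitive N X) (hreg : ∀ x : X, MulAction.stabilizer N x = ⊥) :
    IsMulCommutative N ∧ ∃ p : ℕ, p.Prime ∧ ∀ n ∈ N, n ^ p = 1 := by
  classical
  haveI := htrans
  obtain ⟨x⟩ := (inferInstance : Nonempty X)
  have inj : ∀ a ∈ N, ∀ b ∈ N, a • x = b • x → a = b := by
    intro a ha b hb he
    have h : (⟨b⁻¹ * a, mul_mem (inv_mem hb) ha⟩ : N) ∈ MulAction.stabilizer N x := by
      rw [MulAction.mem_stabilizer_iff, Subgroup.mk_smul, mul_smul, he, inv_smul_smul]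
    rw [hreg x, Subgroup.mem_bot] at h
    have h' := congrArg Subtype.val h
    exact (inv_mul_eq_one.1 h').symm
  have hconj : ∀ a ∈ N, a ≠ 1 → ∀ b ∈ N, b ≠ 1 → ∃ g : G, g * a * g⁻¹ = b := by
    intro a ha ha1 b hb hb1
    have hax : x ≠ a • x := fun h => ha1 (inj a ha 1 (one_mem N) (by rw [one_smul]; exact h.symm))
    have hbx : x ≠ b • x := fun h => hb1 (inj b hb 1 (one_mem N) (by rw [one_smul]; exact h.symm))
    obtain ⟨g, hg1, hg2⟩ := (MulAction.is_two_pretransitive_iff.1 h2) hax hbx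
    refine ⟨g, inj _ ((inferInstance : N.Normal).conj_mem a ha g) b hb ?_⟩
    have hgx : g⁻¹ • x = x := by rw [inv_smul_eq_iff, hg1]
    rw [mul_smul, mul_smul, hgx, hg2]
  rcases eq_or_ne N ⊥ with rfl | hN
  · exact ⟨⟨⟨fun a b => Subsingleton.elim _ _⟩⟩, 2, Nat.prime_two, fun n hn => by
      rw [Subgroup.mem_bot.1 hn, one_pow]⟩
  obtain ⟨p, hp, hdvd⟩ := Nat.exists_prime_and_dvd (n := Nat.card N)
    (fun h => hN (Subgroup.eq_bot_of_card_eq _ h))
  haveI := Fact.mk hp
  obtain ⟨a, ha⟩ := exists_prime_orderOf_dvd_card' (G := N) p hdvd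
  have hao : (a : G) ^ p = 1 := by
    rw [← Subgroup.coe_pow, ← ha, pow_orderOf_eq_one, Subgroup.coe_one]
  have ha1 : (a : G) ≠ 1 := fun h => hp.one_lt.ne' (by rw [← ha, ← Subgroup.orderOf_coe, h, orderOf_one])
  have hexp : ∀ n ∈ N, n ^ p = 1 := by
    intro n hn
    rcases eq_or_ne n 1 with rfl | hn1
    · rw [one_pow]
    · obtain ⟨g, rfl⟩ := hconj a a.2 ha1 n hn hn1
      rw [conj_pow, hao]; simp
  have hpg : IsPGroup p N := fun n => ⟨1, by rw [pow_one]; exact Subtype.ext (hexp n n.2)⟩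
  haveI : Nontrivial N := N.nontrivial_iff_ne_bot.2 hN
  haveI := hpg.center_nontrivial
  obtain ⟨z, hz1⟩ := exists_ne (1 : Subgroup.center N)
  refine ⟨⟨⟨fun u v => ?_⟩⟩, p, hp, hexp⟩
  rcases eq_or_ne (u : G) 1 with hu | hu
  · simp [Subtype.ext hu (a2 := (1 : N))]
  obtain ⟨g, hg⟩ := hconj (z : N) (z : N).2 (fun h => hz1 (Subtype.ext (Subtype.ext h))) u u.2 hu
  have hcent : (z : N) * ⟨g⁻¹ * v * g, by simpa using (inferInstance : N.Normal).conj_mem v v.2 g⁻¹⟩ =
      ⟨g⁻¹ * v * g, by simpa using (inferInstance : N.Normal).conj_mem v v.2 g⁻¹⟩ * (z : N) :=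
    (Subgroup.mem_center_iff.1 z.2 _).symm
  have h' := congrArg (fun t : N => g * (t : G) * g⁻¹) hcent
  refine Subtype.ext ?_
  show (u : G) * v = v * u
  rw [← hg]
  simpa [mul_assoc] using h'

end Cfsg.Agent.S0054
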