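-- Statement S0056
import Cfsg.Statements.S0056
import Cfsg.Agent.Solv.Generation

set_option autoImplicit false
open Cfsg

namespace Cfsg.Agent.S0056

/-- A coprime action on an abelian group that fixes all elements of prime order is trivial. -/
theorem result {G : Type*} [Group G] [Finite G] (A V : Subgroup G) [IsMulCommutative V]
    (hAV : A ≤ Subgroup.normalizer (V : Set G)) (hcop : (Nat.card A).Coprime (Nat.card V))
    (hΩ : ∀ v ∈ V, (orderOf v).Prime → ∀ a ∈ A, a * v = v * a) : A ≤ Subgroup.centralizer (V : Set G) := by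
  have hbot : ⁅V, A⁆ = ⊥ := by
    by_contra hne
    obtain ⟨p, hp, hdvd⟩ := Nat.exists_prime_and_dvd (n := Nat.card (⁅V, A⁆ : Subgroup G))
      (fun h => hne (Subgroup.eq_bot_of_card_eq _ h))
    haveI := Fact.mk hp
    obtain ⟨v, hv⟩ := exists_prime_orderOf_dvd_card' (G := (⁅V, A⁆ : Subgroup G)) p hdvd
    have hvV : (v : G) ∈ V := CfsgLib.Solv.commutator_le_of_le_normalizer hAV v.2
    have hvp : orderOf (v : G) = p := by rw [Subgroup.orderOf_coe, hv]
    have hvC : (v : G) ∈ (V ⊓ Subgroup.centralizer (A : Set G)) ⊓ ⁅V, A⁆ := by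
      refine Subgroup.mem_inf.2 ⟨Subgroup.mem_inf.2 ⟨hvV, Subgroup.mem_centralizer_iff.2 ?_⟩, v.2⟩
      exact fun a ha => hΩ v hvV (hvp ▸ hp) a ha
    rw [CfsgLib.Solv.abelian_fixed_inf_commutator inferInstance hAV hcop, Subgroup.mem_bot] at hvC
    rw [hvC, orderOf_one] at hvp
    exact hp.one_lt.ne hvp
  rw [Subgroup.commutator_eq_bot_iff_le_centralizer] at hbot
  exact Subgroup.le_centralizer_iff.1 hbot

end Cfsg.Agent.S0056
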