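-- Statement S0057
import Cfsg.Statements.S0057
import Cfsg.Agent.Solv.Generation

set_option autoImplicit false
open Cfsg
open scoped commutatorElement
set_option linter.style.haveILetI false

namespace Cfsg.Agent.S0057

/-- Under coprime action, if the centraliser of A in K has prime index p in K then the commutator subgroup [K, A] has order exactly p. -/
theorem result {G : Type*} [Group G] [Finite G] (A K : Subgroup G) (hAK : A ≤ Subgroup.normalizer (K : Set G))
    (hcop : (Nat.card A).Coprime (Nat.card K)) (hsolv : Group.IsSolvable A ∨ Group.IsSolvable K)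
    (p : ℕ) (hp : p.Prime) (hidx : (K ⊓ Subgroup.centralizer (A : Set G)).relIndex K = p) :
    Nat.card (⁅K, A⁆ : Subgroup G) = p := by
  classical
  haveI := Fact.mk hp
  set K1 := ⁅K, A⁆ with hK1
  set C := K ⊓ Subgroup.centralizer (A : Set G) with hC
  have hK1K : K1 ≤ K := CfsgLib.Solv.commutator_le_of_le_normalizer hAK
  have hAK1 : A ≤ Subgroup.normalizer (K1 : Set G) := CfsgLib.Solv.right_le_normalizer_commutator K A
  have hcop1 := hcop.coprime_dvd_right (Subgroup.card_dvd_of_le hK1K)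
  have hs1 : Group.IsSolvable A ∨ Group.IsSolvable K1 :=
    hsolv.imp_right fun h => by haveI := h; exact CfsgLib.Solv.isSolvable_of_le hK1K
  have hK11 : ⁅K1, A⁆ = K1 := CfsgLib.Solv.commutator_commutator_right hAK hcop hsolv
  set C1 := (Subgroup.centralizer (A : Set G)).subgroupOf K1 with hC1
  -- `C1` has index `p` in `K1`
  have hidx1 : C1.index = p := by
    have hne : Nat.card C ≠ 0 := Nat.card_pos.ne'
    have h1 : Nat.card K = Nat.card C * p := by
      rw [← hidx, CfsgLib.Solv.relIndex_mul_card inf_le_left]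
    haveI : (K1.subgroupOf K).Normal :=
      Subgroup.normal_subgroupOf_of_le_normalizer (CfsgLib.Solv.left_le_normalizer_commutator K A)
    have h2 := CfsgLib.Solv.card_sup_mul_card_inf (C.subgroupOf K) (K1.subgroupOf K)
    have hsup : C.subgroupOf K ⊔ K1.subgroupOf K = ⊤ := by
      rw [eq_top_iff]
      intro k _
      obtain ⟨x, hx, c, hc, he⟩ :=
        CfsgLib.Solv.commutator_sup_inf_centralizer hAK hcop hsolv k k.2
      have : k = ⟨x, hK1K hx⟩ * ⟨c, (Subgroup.mem_inf.1 hc).1⟩ := Subtype.ext he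
      rw [this]
      exact mul_mem (Subgroup.mem_sup_right hx) (Subgroup.mem_sup_left hc)
    rw [hsup, Subgroup.card_top] at h2
    rw [show C.subgroupOf K ⊓ K1.subgroupOf K = (C ⊓ K1).subgroupOf K from rfl, CfsgLib.Solv.card_subgroupOf (inf_le_left.trans inf_le_left), CfsgLib.Solv.card_subgroupOf inf_le_left,
      CfsgLib.Solv.card_subgroupOf hK1K] at h2
    have h3 : Nat.card C1 * C1.index = Nat.card K1 := C1.card_mul_index
    have h4 : Nat.card C1 = Nat.card (C ⊓ K1 : Subgroup G) := by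
      rw [← CfsgLib.Solv.card_subgroupOf (inf_le_right : C ⊓ K1 ≤ K1)]
      refine congrArg (fun H : Subgroup K1 => Nat.card H) ?_
      ext x
      simp [hC1, hC, Subgroup.mem_subgroupOf, Subgroup.mem_inf, hK1K x.2]
    rw [h4] at h3
    rw [← h3, h1, ← mul_assoc] at h2
    have h5 : Nat.card (C ⊓ K1 : Subgroup G) ≠ 0 := Nat.card_pos.ne'
    have : Nat.card C * Nat.card (C ⊓ K1 : Subgroup G) * C1.index =
        Nat.card C * Nat.card (C ⊓ K1 : Subgroup G) * p := by
      rw [← h2]; ring
    exact Nat.eq_of_mul_eq_mul_left (Nat.pos_of_ne_zero (mul_ne_zero hne h5)) this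
  -- an invariant Sylow `p`-subgroup
  obtain ⟨P, hP⟩ := CfsgLib.Solv.exists_invariant_sylow (p := p) hAK1 hcop1 hs1
  have hPC : ¬ (P : Subgroup K1) ≤ C1 := by
    intro h
    have h1 : p ∣ (P : Subgroup K1).index := by
      rw [← Subgroup.relIndex_mul_index h, hidx1]; exact dvd_mul_left _ _
    exact P.not_dvd_index h1
  have hprod : ∀ k : K1, ∃ y ∈ (P : Subgroup K1), y⁻¹ * k ∈ C1 := by
    have hcard : Nat.card (K1 ⧸ C1) ≤ Nat.card (P ⧸ C1.subgroupOf (P : Subgroup K1)) := by
      show C1.index ≤ (C1.subgroupOf (P : Subgroup K1)).index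
      rw [hidx1]
      obtain ⟨n, hn⟩ := P.2.index (C1.subgroupOf (P : Subgroup K1))
      rcases n with _ | n
      · exact absurd (Subgroup.subgroupOf_eq_top.1 (Subgroup.index_eq_one.1 (by simpa using hn))) hPC
      · rw [hn]; exact Nat.le_self_pow n.succ_ne_zero p
    let f : P ⧸ C1.subgroupOf (P : Subgroup K1) → K1 ⧸ C1 :=
      Quotient.map' (fun y => (y : K1)) fun a b hab => by
        rw [QuotientGroup.leftRel_apply] at hab ⊢
        exact hab
    have hf : Function.Injective f := by
      intro a b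
      refine Quotient.inductionOn₂' a b fun a b h => ?_
      simp only [f, Quotient.map'_mk'', Quotient.eq''] at h
      rw [Quotient.eq''] at h ⊢
      rw [QuotientGroup.leftRel_apply] at h ⊢
      exact h
    have hsur := (hf.bijective_of_nat_card_le hcard).2
    intro k
    obtain ⟨y, hy⟩ := hsur (QuotientGroup.mk k)
    obtain ⟨y, rfl⟩ := QuotientGroup.mk_surjective y
    exact ⟨y, y.2, QuotientGroup.eq.1 hy⟩
  set Q := (P : Subgroup K1).map K1.subtype with hQ
  have hQK : Q ≤ K1 := Subgroup.map_subtype_le _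
  have hQtop : Q = K1 := by
    refine le_antisymm hQK ?_
    conv_lhs => rw [← hK11]
    rw [Subgroup.commutator_le]
    intro k hk a ha
    obtain ⟨y, hy, hyc⟩ := hprod ⟨k, hk⟩
    have hkc : k = (y : G) * ((y⁻¹ * ⟨k, hk⟩ : K1) : G) := by simp
    set c := ((y⁻¹ * ⟨k, hk⟩ : K1) : G) with hcdef
    have hyQ : (y : G) ∈ Q := Subgroup.mem_map_of_mem K1.subtype hy
    have hca : c * a * c⁻¹ = a := by
      have : a * c = c * a := Subgroup.mem_centralizer_iff.1 hyc a ha
      rw [← this, mul_inv_cancel_right]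
    have : ⁅k, a⁆ = (y : G) * (a * (y : G)⁻¹ * a⁻¹) := by
      rw [hkc, commutatorElement_def, mul_inv_rev]
      calc (y : G) * c * a * (c⁻¹ * (y : G)⁻¹) * a⁻¹ = (y : G) * (c * a * c⁻¹) * (y : G)⁻¹ * a⁻¹ := by
            group
        _ = _ := by rw [hca]; group
    rw [this]
    exact mul_mem hyQ (CfsgLib.Solv.le_normalizer_iff_forall_conj_mem.1 hP a ha _ (inv_mem hyQ))
  have hpK : IsPGroup p K1 := hQtop ▸ P.2.map K1.subtype
  -- `K1` is abelian
  obtain ⟨n, hn⟩ := IsPGroup.iff_card.1 hpK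
  haveI hnormal : C1.Normal := by
    refine Subgroup.normal_of_index_eq_minFac_card ?_
    rw [hidx1, hn]
    rcases n with _ | n
    · have := C1.index_dvd_card
      rw [hidx1, hn, pow_zero, Nat.dvd_one] at this
      exact absurd this hp.one_lt.ne'
    · rw [Nat.pow_minFac n.succ_ne_zero, hp.minFac_eq]
  have hcent : C1 ≤ Subgroup.center K1 := by
    set D := C1.map K1.subtype with hD
    have hDA : ⁅D, A⁆ = ⊥ := by
      rw [Subgroup.commutator_eq_bot_iff_le_centralizer]
      rintro _ ⟨x, hx, rfl⟩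
      exact hx
    have h1 : ⁅⁅D, K1⁆, A⁆ = ⊥ := by
      refine le_bot_iff.1 (le_trans (Subgroup.commutator_mono ?_ le_rfl) hDA.le)
      rw [Subgroup.commutator_le]
      rintro _ ⟨x, hx, rfl⟩ k hk
      exact ⟨⁅x, ⟨k, hk⟩⁆, by
        rw [commutatorElement_def]
        simpa [mul_assoc] using mul_mem hx (hnormal.conj_mem x⁻¹ (inv_mem hx) ⟨k, hk⟩),
        by simp [commutatorElement_def]⟩
    have h2 : ⁅⁅A, D⁆, K1⁆ = ⊥ := by
      rw [Subgroup.commutator_comm A D, hDA, Subgroup.commutator_bot_left]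
    have h3 := Subgroup.commutator_commutator_eq_bot_of_rotate h2 h1
    rw [hK11, Subgroup.commutator_eq_bot_iff_le_centralizer] at h3
    intro c hc
    rw [Subgroup.mem_center_iff]
    intro k
    exact Subtype.ext (Subgroup.mem_centralizer_iff.1 (h3 k.2) _
      (Subgroup.mem_map_of_mem K1.subtype hc)).symm
  haveI : IsCyclic (K1 ⧸ C1) := isCyclic_of_prime_card hidx1
  haveI hcomm : IsMulCommutative K1 := ⟨⟨fun a b => commutative_of_cyclic_center_quotient
    (QuotientGroup.mk' C1) ((QuotientGroup.ker_mk' C1).le.trans hcent) a b⟩⟩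
  have hbot := CfsgLib.Solv.abelian_fixed_inf_commutator hcomm hAK1 hcop1
  rw [hK11] at hbot
  have hC1bot : C1 = ⊥ := by
    rw [eq_bot_iff]
    intro x hx
    have : (x : G) ∈ (K1 ⊓ Subgroup.centralizer (A : Set G)) ⊓ K1 :=
      Subgroup.mem_inf.2 ⟨Subgroup.mem_inf.2 ⟨x.2, hx⟩, x.2⟩
    rw [hbot, Subgroup.mem_bot] at this
    exact Subgroup.mem_bot.2 (Subtype.ext this)
  rw [← hidx1, hC1bot, Subgroup.index_bot]
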