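-- Statement S0060
import Cfsg.Statements.S0060
import Cfsg.Agent.Solv.Basic

set_option autoImplicit false
open Pointwise
open Cfsg
open scoped commutatorElement Pointwise
set_option linter.style.haveILetI false
set_option linter.deprecated false

namespace Cfsg.Agent.S0060

/-- Brodkey's Theorem: in a finite group with abelian Sylow p-subgroups and no nontrivial normal p-subgroup, some conjugate of a Sylow p-subgroup meets it trivially. -/
theorem result {G : Type*} [Group G] [Finite G] (p : ℕ) [Fact p.Prime]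
    (S : Sylow p G) (hS : IsMulCommutative S) (hOp : Cfsg.pCore p G = ⊥) :
    ∃ g : G, (S : Subgroup G) ⊓ MulAut.conj g • (S : Subgroup G) = ⊥ := by
    obtain ⟨g, -, hmin⟩ := Set.exists_min_image (Set.univ : Set G)
      (fun g => Nat.card ((S : Subgroup G) ⊓ MulAut.conj g • (S : Subgroup G) : Subgroup G))
      (Set.toFinite _) ⟨1, trivial⟩
    refine ⟨g, le_bot_iff.1 (hOp ▸ ?_)⟩
    set D := (S : Subgroup G) ⊓ MulAut.conj g • (S : Subgroup G) with hD
    rw [CfsgLib.Solv.pCore_eq_iInf_sylow]
    refine le_iInf fun R => ?_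
    set N := Subgroup.centralizer (D : Set G) with hN
    have hab : ∀ a : G, ∀ x ∈ MulAut.conj a • (S : Subgroup G), ∀ y ∈ MulAut.conj a • (S : Subgroup G),
        y * x = x * y := by
      rintro a _ ⟨x, hx, rfl⟩ _ ⟨y, hy, rfl⟩
      show MulAut.conj a y * MulAut.conj a x = MulAut.conj a x * MulAut.conj a y
      rw [← map_mul, ← map_mul]
      exact congrArg _ (congrArg Subtype.val (hS.is_comm.comm (⟨y, hy⟩ : (S : Subgroup G)) ⟨x, hx⟩))
    have hSN : (S : Subgroup G) ≤ N := fun x hx => Subgroup.mem_centralizer_iff.2 fun d hd => by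
      have := hab 1 x (by rwa [map_one, one_smul]) d (by rw [map_one, one_smul]; exact hd.1)
      exact this
    have hTN : MulAut.conj g • (S : Subgroup G) ≤ N := fun x hx =>
      Subgroup.mem_centralizer_iff.2 fun d hd => hab g x hx d hd.2
    obtain ⟨W, hW⟩ := ((R.isPGroup'.to_le (inf_le_left : (R : Subgroup G) ⊓ N ≤ R)).comap_of_injective
      N.subtype Subtype.val_injective).exists_le_sylow
    obtain ⟨k, hk⟩ := MulAction.exists_smul_eq N (S.subtype hSN) W
    have hRS : (R : Subgroup G) ⊓ N ≤ MulAut.conj (k : G) • (S : Subgroup G) := by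
      intro x hx
      have h1 : (⟨x, hx.2⟩ : N) ∈ (W : Subgroup N) := hW hx
      rw [← hk, Sylow.coe_subgroup_smul, CfsgLib.Solv.mem_conj_smul_iff] at h1
      exact CfsgLib.Solv.mem_conj_smul_iff.2 h1
    have hkD : MulAut.conj (k : G) • D = D :=
      CfsgLib.Solv.conj_smul_eq_self_of_mem_normalizer (Subgroup.centralizer_le_normalizer _ k.2)
    set T' := MulAut.conj ((k : G) * g) • (S : Subgroup G) with hT'
    have hT'N : T' ≤ N := by
      intro x hx
      rw [hT', map_mul, mul_smul, CfsgLib.Solv.mem_conj_smul_iff] at hx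
      have h2 : (k : G) * ((k : G)⁻¹ * x * k) * (k : G)⁻¹ ∈ N := mul_mem (mul_mem k.2 (hTN hx)) (inv_mem k.2)
      rwa [show (k : G) * ((k : G)⁻¹ * x * k) * (k : G)⁻¹ = x by group] at h2
    have hle : (R : Subgroup G) ⊓ T' ≤ D := by
      rw [← hkD, hD, Subgroup.smul_inf, ← mul_smul, ← map_mul]
      exact le_inf ((le_inf inf_le_left (inf_le_right.trans hT'N)).trans hRS) inf_le_right
    obtain ⟨c, hc⟩ := MulAction.exists_smul_eq G S R
    have hcard : Nat.card D ≤ Nat.card ((R : Subgroup G) ⊓ T' : Subgroup G) := by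
      have h1 := hmin (c⁻¹ * ((k : G) * g)) trivial
      refine h1.trans (le_of_eq ?_)
      rw [← CfsgLib.Solv.card_conj_smul c, Subgroup.smul_inf, ← mul_smul, ← map_mul,
        mul_inv_cancel_left, ← Sylow.coe_subgroup_smul, hc]
    exact (Subgroup.eq_of_le_of_card_ge hle hcard).ge.trans inf_le_left

end Cfsg.Agent.S0060
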