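-- Statement S0063
import Cfsg.Statements.S0063
import Cfsg.Agent.Solv.FittingBasic

set_option autoImplicit false
open Cfsg
open scoped commutatorElement
set_option linter.style.haveILetI false
set_option linter.deprecated false

namespace Cfsg.Agent.S0063

/-- A finite group of prime-power order p ^ m with m > 1 is nilpotent of class at most m - 1. -/
theorem result {G : Type*} [Group G] [Finite G] (p m : ℕ) [Fact p.Prime]
    (hG : Nat.card G = p ^ m) (hm : 1 < m) : Group.nilpotencyClass G ≤ m - 1 := by
  suffices key : ∀ (k : ℕ) (H : Type _) [Group H] [Finite H], Nat.card H = p ^ k →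
      Group.nilpotencyClass H ≤ max 1 (k - 1) by
    have := key m G hG
    omega
  intro k
  induction k using Nat.strong_induction_on with
  | _ k ih => ?_
  intro H _ _ hH
  have hp : p.Prime := Fact.out
  have hpg : IsPGroup p H := IsPGroup.of_card hH
  haveI := hpg.isNilpotent
  rcases subsingleton_or_nontrivial H with hs | hne
  · rw [nilpotencyClass_zero_iff_subsingleton.2 hs]; exact Nat.zero_le _
  rw [nilpotencyClass_eq_quotient_center_plus_one]
  haveI := hpg.center_nontrivial
  obtain ⟨j, hj⟩ := IsPGroup.iff_card.1 (hpg.to_quotient (Subgroup.center H))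
  have hmul : Nat.card (H ⧸ Subgroup.center H) * Nat.card (Subgroup.center H) = Nat.card H := by
    rw [← Subgroup.card_eq_card_quotient_mul_card_subgroup]
  have hjk : j < k := by
    have h1 : Nat.card (H ⧸ Subgroup.center H) * 1 < Nat.card H := by
      rw [← hmul]; exact Nat.mul_lt_mul_of_pos_left Finite.one_lt_card Nat.card_pos
    rw [mul_one, hj, hH] at h1
    exact (Nat.pow_lt_pow_iff_right hp.one_lt).1 h1
  rcases le_or_gt 2 j with hj2 | hj2
  · have := ih j hjk _ hj
    omega
  · have hcyc : IsCyclic (H ⧸ Subgroup.center H) := by
      interval_cases j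
      · haveI : Subsingleton (H ⧸ Subgroup.center H) :=
          (Nat.card_eq_one_iff_unique.1 (by simpa using hj)).1
        infer_instance
      · exact isCyclic_of_prime_card (p := p) (by simpa using hj)
    have hcomm : ∀ a b : H, a * b = b * a := fun a b => commutative_of_cyclic_center_quotient
      (QuotientGroup.mk' (Subgroup.center H)) (QuotientGroup.ker_mk' _).le a b
    have htop : Subgroup.center H = ⊤ := eq_top_iff.2 fun x _ => Subgroup.mem_center_iff.2 fun g => hcomm g x
    haveI : Subsingleton (H ⧸ Subgroup.center H) :=
      (Nat.card_eq_one_iff_unique.1 (Subgroup.index_eq_one.2 htop)).1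
    rw [nilpotencyClass_zero_iff_subsingleton.2 inferInstance]
    omega

end Cfsg.Agent.S0063
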