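-- Statement S0064
import Cfsg.Statements.S0064
import Cfsg.Agent.Solv.FittingBasic

set_option autoImplicit false
open Cfsg
open scoped commutatorElement
set_option linter.style.haveILetI false
set_option linter.deprecated false

namespace Cfsg.Agent.S0064

/-- A finite group is nilpotent exactly when each of its subgroups is subnormal. -/
theorem result {G : Type*} [Group G] [Finite G] :
    Group.IsNilpotent G ↔ ∀ H : Subgroup G, H.IsSubnormal := by
  constructor
  · intro hn H
    haveI := hn
    induction H using WellFoundedGT.induction with
    | _ H ih => ?_
    rcases eq_or_ne H ⊤ with rfl | hne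
    · exact Subgroup.IsSubnormal.top
    have hlt := normalizerCondition_of_isNilpotent H (lt_top_iff_ne_top.2 hne)
    exact Subgroup.IsSubnormal.step H _ hlt.le (ih _ hlt) Subgroup.normal_in_normalizer
  · intro h
    refine ((Group.isNilpotent_of_finite_tfae (G := G)).out 0 2).2 fun M hM => ?_
    rcases (h M).lt_normal with rfl | ⟨K, hK, hMK, hKtop⟩
    · exact absurd rfl hM.1
    · rcases hMK.lt_or_eq with hlt | rfl
      · exact absurd (hM.2 K hlt) hKtop.ne
      · exact hK

end Cfsg.Agent.S0064
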