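-- Statement S0065
import Cfsg.Statements.S0065
import Cfsg.Agent.Solv.FittingBasic

set_option autoImplicit false
open Cfsg
open scoped commutatorElement
set_option linter.style.haveILetI false
set_option linter.deprecated false

namespace Cfsg.Agent.S0065

/-- A nontrivial normal subgroup of a nilpotent group intersects the centre nontrivially. -/
theorem result {G : Type*} [Group G] [Finite G] [Group.IsNilpotent G]
    (N : Subgroup G) [N.Normal] (hN : N ≠ ⊥) : N ⊓ Subgroup.center G ≠ ⊥ := by
  intro hbot
  refine hN ?_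
  obtain ⟨n, hn⟩ := Group.IsNilpotent.nilpotent (G := G)
  suffices h : ∀ k, N ⊓ Subgroup.upperCentralSeries G k = ⊥ by
    have := h n
    rwa [hn, inf_top_eq] at this
  intro k
  induction k with
  | zero => rw [Subgroup.upperCentralSeries_zero, inf_bot_eq]
  | succ k ih =>
    rw [eq_bot_iff, ← hbot]
    intro x hx
    obtain ⟨hxN, hxZ⟩ := Subgroup.mem_inf.1 hx
    refine Subgroup.mem_inf.2 ⟨hxN, Subgroup.mem_center_iff.2 fun g => ?_⟩
    have h1 : ⁅x, g⁆ ∈ N ⊓ Subgroup.upperCentralSeries G k := by
      refine Subgroup.mem_inf.2 ⟨?_, Subgroup.mem_upperCentralSeries_succ_iff.1 hxZ g⟩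
      have := mul_mem hxN (Subgroup.Normal.conj_mem (inferInstance : N.Normal) _ (inv_mem hxN) g)
      simpa [commutatorElement_def, mul_assoc] using this
    rw [ih, Subgroup.mem_bot, commutatorElement_eq_one_iff_mul_comm] at h1
    exact h1.symm

end Cfsg.Agent.S0065
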