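-- Statement S0067
import Cfsg.Statements.S0067
import Cfsg.Agent.Solv.FittingBasic
import Cfsg.Agent.Inv.BaerSuzuki

set_option autoImplicit false
open Pointwise
open Cfsg
open scoped commutatorElement Pointwise
set_option linter.style.haveILetI false
set_option linter.deprecated false

namespace Cfsg.Agent.S0067

/-- If the join of a subgroup A with each of its conjugates is nilpotent, then A is subnormal in the finite group and contained in the Fitting subgroup. -/
theorem result {G : Type*} [Group G] [Finite G] (A : Subgroup G)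
    (h : ∀ g : G, Group.IsNilpotent (A ⊔ MulAut.conj g • A : Subgroup G)) : A.IsSubnormal ∧ A ≤ Cfsg.fittingSubgroup G := by
  have hAF : A ≤ Cfsg.fittingSubgroup G := by
    have h' := congrArg (Subgroup.map A.subtype) (CfsgLib.Solv.iSup_sylow_eq_top (G := A))
    rw [← MonoidHom.range_eq_map, Subgroup.range_subtype] at h'
    rw [← h', Subgroup.map_iSup]
    refine iSup_le fun q => ?_
    rw [Subgroup.map_iSup]
    refine iSup_le fun P => ?_
    haveI := Fact.mk q.2
    set P' := (P : Subgroup A).map A.subtype with hP'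
    set Ω : Set (Subgroup G) := Set.range fun g : G => P'.map (MulAut.conj g).toMonoidHom with hΩ
    have hconj : ∀ Y ∈ Ω, ∀ g : G, Y.map (MulAut.conj g).toMonoidHom ∈ Ω := by
      rintro _ ⟨x, rfl⟩ g
      refine ⟨g * x, ?_⟩
      rw [Subgroup.map_map]
      congr 1
      ext y
      simp [mul_assoc]
    have hp' : IsPGroup (q : ℕ) P' := P.2.map A.subtype
    have hpair : ∀ Y ∈ Ω, ∀ Z ∈ Ω, IsPGroup (q : ℕ) ↥(Y ⊔ Z) := by
      rintro _ ⟨x, rfl⟩ _ ⟨y, rfl⟩
      set g := x⁻¹ * y
      set J := A ⊔ MulAut.conj g • A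
      haveI hJ : Group.IsNilpotent J := h g
      obtain ⟨S⟩ : Nonempty (Sylow (q : ℕ) J) := inferInstance
      have hin : ∀ R : Subgroup G, IsPGroup (q : ℕ) R → R ≤ J → R ≤ (S : Subgroup J).map J.subtype := by
        intro R hR hRJ r hr
        have hR' : IsPGroup (q : ℕ) (R.subgroupOf J) :=
          hR.of_equiv (Subgroup.subgroupOfEquivOfLe hRJ).symm
        obtain ⟨T, hT⟩ := hR'.exists_le_sylow
        haveI : Subsingleton (Sylow (q : ℕ) J) :=
          ⟨fun S₁ S₂ => (MulAction.exists_smul_eq J S₁ S₂).elim fun j hj =>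
            (Sylow.smul_eq_of_normal (g := j) (P := S₁)).symm.trans hj⟩
        rw [Subsingleton.elim T S] at hT
        exact ⟨⟨r, hRJ hr⟩, hT (Subgroup.mem_subgroupOf.2 hr), rfl⟩
      have h1 : P' ≤ J := (Subgroup.map_subtype_le _).trans le_sup_left
      have h2 : P'.map (MulAut.conj g).toMonoidHom ≤ J := by
        refine le_trans ?_ le_sup_right
        rintro _ ⟨r, hr, rfl⟩
        exact Subgroup.smul_mem_pointwise_smul r (MulAut.conj g) A (Subgroup.map_subtype_le _ hr)
      have h3 : IsPGroup (q : ℕ) ↥(P' ⊔ P'.map (MulAut.conj g).toMonoidHom) :=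
        (S.2.map J.subtype).to_le (sup_le (hin _ hp' h1) (hin _ (hp'.map _) h2))
      have h4 := h3.map (MulAut.conj x).toMonoidHom
      rw [Subgroup.map_sup, Subgroup.map_map P' (MulAut.conj x).toMonoidHom] at h4
      have h5 : (MulAut.conj x).toMonoidHom.comp (MulAut.conj g).toMonoidHom =
          (MulAut.conj y).toMonoidHom := by ext z; simp [g, mul_assoc]
      rwa [h5] at h4
    have hp := CfsgLib.Inv.baer_suzuki Ω hconj hpair
    have hn : (sSup Ω).Normal := by
      refine Subgroup.Normal.mk fun z hz g => ?_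
      have hle : sSup Ω ≤ (sSup Ω).comap (MulAut.conj g).toMonoidHom :=
        sSup_le fun Y hY w hw => le_sSup (hconj Y hY g) ⟨w, hw, rfl⟩
      exact hle hz
    haveI := hn
    refine le_trans ?_ (CfsgLib.Solv.le_fittingSubgroup hp.isNilpotent)
    refine le_trans ?_ (le_sSup ⟨1, rfl⟩)
    intro z hz
    exact ⟨z, hz, by simp⟩
  refine ⟨?_, hAF⟩
  haveI := CfsgLib.Solv.fittingSubgroup_normal G
  haveI := CfsgLib.Solv.fittingSubgroup_isNilpotent (G := G)
  refine Subgroup.IsSubnormal.trans hAF ?_ (Subgroup.Normal.isSubnormal inferInstance)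
  suffices hs : ∀ H : Subgroup (Cfsg.fittingSubgroup G), H.IsSubnormal from hs _
  intro H
  induction H using WellFoundedGT.induction with
  | _ H ih => ?_
  rcases eq_or_ne H ⊤ with rfl | hne
  · exact Subgroup.IsSubnormal.top
  have hlt := normalizerCondition_of_isNilpotent H (lt_top_iff_ne_top.2 hne)
  exact Subgroup.IsSubnormal.step H _ hlt.le (ih _ hlt) Subgroup.normal_in_normalizer

end Cfsg.Agent.S0067
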