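-- Statement S0070
import Cfsg.Statements.S0070
import Cfsg.Agent.Solv.Maximal

set_option autoImplicit false
open Cfsg
open scoped commutatorElement Pointwise
set_option linter.style.haveILetI false
set_option linter.deprecated false

namespace Cfsg.Agent.S0070

/-- The Fitting subgroup commutes with passing to the Frattini quotient: the Fitting subgroup of G modulo its Frattini subgroup is the image of the Fitting subgroup of G. -/
theorem result {G : Type*} [Group G] [Finite G] :
    Cfsg.fittingSubgroup (G ⧸ frattini G) = (Cfsg.fittingSubgroup G).map (QuotientGroup.mk' (frattini G)) := by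
  set π := QuotientGroup.mk' (frattini G)
  have hsurj : Function.Surjective π := QuotientGroup.mk'_surjective _
  refine le_antisymm ?_ (CfsgLib.Solv.map_fittingSubgroup_le hsurj)
  intro y hy
  obtain ⟨x, rfl⟩ := hsurj y
  refine ⟨x, ?_, rfl⟩
  set A := (Cfsg.fittingSubgroup (G ⧸ frattini G)).comap π
  haveI := CfsgLib.Solv.fittingSubgroup_normal (G ⧸ frattini G)
  haveI : A.Normal := inferInstance
  have hle : frattini G ≤ A := fun z hz => by
    rw [Subgroup.mem_comap, QuotientGroup.mk'_apply, (QuotientGroup.eq_one_iff z).2 hz]
    exact one_mem _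
  haveI := CfsgLib.Solv.fittingSubgroup_isNilpotent (G := G ⧸ frattini G)
  have hnil : Group.IsNilpotent (A ⧸ (frattini G).subgroupOf A) := by
    let f : A →* Cfsg.fittingSubgroup (G ⧸ frattini G) :=
      (π.comp A.subtype).codRestrict _ fun a => a.2
    have hker : f.ker = (frattini G).subgroupOf A := by
      ext a
      rw [MonoidHom.mem_ker, Subgroup.mem_subgroupOf]
      exact ⟨fun h => (QuotientGroup.eq_one_iff _).1 (congrArg Subtype.val h),
        fun h => Subtype.ext ((QuotientGroup.eq_one_iff _).2 h)⟩
    have hf : Function.Surjective f := by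
      rintro ⟨b, hb⟩
      obtain ⟨a, rfl⟩ := hsurj b
      exact ⟨⟨a, hb⟩, rfl⟩
    exact Group.nilpotent_of_mulEquiv
      (((QuotientGroup.quotientMulEquivOfEq hker.symm).trans
        (QuotientGroup.quotientKerEquivOfSurjective f hf)).symm)
  exact CfsgLib.Solv.le_fittingSubgroup
    (CfsgLib.Solv.isNilpotent_of_quotient_le_frattini hle le_rfl hnil) hy

end Cfsg.Agent.S0070
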