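-- Statement S0072
import Cfsg.Statements.S0072
import Cfsg.Agent.Solv.PComplement

set_option autoImplicit false
open Cfsg
open scoped commutatorElement Pointwise
set_option linter.style.haveILetI false
set_option linter.deprecated false

namespace Cfsg.Agent.S0072

/-- A finite group has a normal p-complement if and only if every p-local subgroup (normalizer of a nontrivial p-subgroup) has one. -/
theorem result {G : Type*} [Group G] [Finite G] (p : ℕ) [Fact p.Prime] : Cfsg.HasNormalPComplement p G ↔ ∀ Q : Subgroup G, IsPGroup p Q → Q ≠ ⊥ → Cfsg.HasNormalPComplement p (Subgroup.normalizer (Q : Set G)) := by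
  constructor
  · exact fun h Q _ _ => CfsgLib.Solv.hnpc_subgroup h _
  · intro h
    rw [CfsgLib.Solv.hnpc_iff_frobCond]
    intro Q hQ g hg hgc
    rw [Subgroup.mem_centralizer_iff]
    intro q hq
    by_cases hQ1 : Q = ⊥
    · rw [hQ1, SetLike.mem_coe, Subgroup.mem_bot] at hq
      rw [hq, one_mul, mul_one]
    have hQ' : IsPGroup p (Q.subgroupOf (Subgroup.normalizer (Q : Set G))) := hQ.comap_subtype
    have hmem : (⟨g, hg⟩ : Subgroup.normalizer (Q : Set G)) ∈ Subgroup.normalizer
        ((Q.subgroupOf (Subgroup.normalizer (Q : Set G)) : Subgroup _) : Set _) :=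
      (Subgroup.normalizer_eq_top_iff.2 Subgroup.normal_in_normalizer).ge (Subgroup.mem_top _)
    have h2 := CfsgLib.Solv.mem_centralizer_of_hnpc (h Q hQ hQ1) hQ' hmem (by rwa [Subgroup.orderOf_mk])
    exact congrArg Subtype.val
      (Subgroup.mem_centralizer_iff.1 h2 ⟨q, Subgroup.le_normalizer hq⟩ hq)

end Cfsg.Agent.S0072
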