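-- Statement S0073
import Cfsg.Statements.S0073
import Cfsg.Agent.Solv.TransferTools

set_option autoImplicit false
open Cfsg
open scoped commutatorElement Pointwise
set_option linter.style.haveILetI false
set_option linter.deprecated false
set_option linter.unusedVariables false

namespace Cfsg.Agent.S0073

/-- For a finite non-abelian simple group, either the cube of the least prime divisor of the order divides the order, or 12 does. -/
theorem result {G : Type*} [Group G] [Finite G] [IsSimpleGroup G] (hG : ∃ x y : G, x * y ≠ y * x) : (Nat.card G).minFac ^ 3 ∣ Nat.card G ∨ 12 ∣ Nat.card G := by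
  set p := (Nat.card G).minFac with hp0
  have hne : Nat.card G ≠ 1 := by
    intro h
    haveI := (Nat.card_eq_one_iff_unique.1 h).1
    exact (not_subsingleton_iff_nontrivial.2 inferInstance) ‹Subsingleton G›
  haveI := Fact.mk (Nat.minFac_prime hne)
  have hp : p.Prime := Nat.minFac_prime hne
  by_cases h3 : p ^ 3 ∣ Nat.card G
  · exact Or.inl h3
  by_cases h12 : 12 ∣ Nat.card G
  · exact Or.inr h12
  exfalso
  have hnc : Cfsg.HasNormalPComplement p G := by
    rw [CfsgLib.Solv.hnpc_iff_frobCond]
    intro Q hQ g hg hgc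
    obtain ⟨m, hm⟩ := IsPGroup.iff_card.1 hQ
    have hm2 : m ≤ 2 := by
      by_contra hlt
      exact h3 ((pow_dvd_pow p (show 3 ≤ m by omega)).trans (hm ▸ Subgroup.card_subgroup_dvd_card Q))
    refine CfsgLib.Solv.mem_centralizer_of_small hQ hg fun r hr hrd k hk hlt hsub => ?_
    have hrG : r ∣ Nat.card G := hrd.trans (orderOf_dvd_natCard g)
    have hrp : r ≠ p := by
      rintro rfl
      exact hr.ne_one (Nat.eq_one_of_dvd_coprimes hgc hrd dvd_rfl)
    have hpr : p < r := lt_of_le_of_ne (Nat.minFac_le_of_dvd hr.two_le hrG) (Ne.symm hrp)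
    rw [hm] at hlt hsub
    have hkm : k < m := (Nat.pow_lt_pow_iff_right hp.one_lt).1 hlt
    have hsmall : r ∣ p - 1 ∨ (m = 2 ∧ r ∣ p + 1) := by
      have hpp : ∀ j, r ∣ p ^ j → False := fun j hj =>
        hrp ((Nat.prime_dvd_prime_iff_eq hr hp).1 (hr.dvd_of_dvd_pow hj))
      interval_cases m
      · omega
      · interval_cases k; left; simpa using hsub
      · interval_cases k
        · have e : p ^ 2 - p ^ 0 = (p - 1) * (p + 1) := by
            rw [pow_zero, mul_comm, ← Nat.sq_sub_sq, one_pow]
          rw [e] at hsub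
          rcases hr.dvd_mul.1 hsub with h | h
          · exact Or.inl h
          · exact Or.inr ⟨rfl, h⟩
        · have e : p ^ 2 - p ^ 1 = p ^ 1 * (p - 1) := by rw [Nat.mul_sub, mul_one, pow_one, sq]
          rw [e] at hsub
          exact Or.inl ((hr.dvd_mul.1 hsub).resolve_left (fun h => hpp 1 h))
    have hp2 := hp.two_le
    rcases hsmall with h | ⟨hm', h⟩
    · have := Nat.le_of_dvd (by omega) h
      omega
    · have h1 := Nat.le_of_dvd (by omega) h
      have hr1 : r = p + 1 := by omega
      rcases hp.eq_two_or_odd with hp' | hp'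
      · apply h12
        have h4 : 4 ∣ Nat.card G := by
          refine dvd_trans ?_ (Subgroup.card_subgroup_dvd_card Q)
          rw [hm, hm', hp']; norm_num
        have h33 : 3 ∣ Nat.card G := by
          have : r = 3 := by omega
          exact this ▸ hrG
        exact Nat.Coprime.mul_dvd_of_dvd_of_dvd (show Nat.Coprime 4 3 by decide) h4 h33
      · rcases hr.eq_two_or_odd with hr' | hr' <;> omega
  haveI := CfsgLib.Inv.pResidual_normal p G
  rcases (CfsgLib.Inv.pResidual_normal p G).eq_bot_or_eq_top with hb | ht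
  · have hpG : IsPGroup p G := by
      intro x
      obtain ⟨a, ha⟩ := CfsgLib.Inv.exists_pow_mem_pResidual (p := p) x
      rw [hb, Subgroup.mem_bot] at ha
      exact ⟨a, ha⟩
    obtain ⟨x, y, hxy⟩ := hG
    haveI : Nontrivial (Subgroup.center G) := hpG.center_nontrivial
    rcases (inferInstance : (Subgroup.center G).Normal).eq_bot_or_eq_top with h | h
    · exact (Subgroup.nontrivial_iff_ne_bot _).1 ‹_› h
    · exact hxy (Subgroup.mem_center_iff.1 (h ▸ Subgroup.mem_top y : y ∈ Subgroup.center G) x)
  · refine CfsgLib.Solv.hnpc_iff.1 hnc ?_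
    rw [ht, Subgroup.card_top]
    exact Nat.minFac_dvd _

end Cfsg.Agent.S0073
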