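-- Statement S0075
import Cfsg.Statements.S0075
import Cfsg.Agent.Solv.TransferTools
import Cfsg.Agent.Solv.CoprimeAction

set_option autoImplicit false
open Cfsg
open scoped commutatorElement Pointwise
set_option linter.style.haveILetI false
set_option linter.deprecated false
set_option linter.unusedVariables false

namespace Cfsg.Agent.S0075

/-- For an abelian Sylow p-subgroup T, its intersection with the subgroup generated by the elements of order prime to p is the commutator of T with its normalizer. -/
theorem result {G : Type*} [Group G] [Finite G] {p : ℕ} [Fact p.Prime] (T : Sylow p G) (hT : IsMulCommutative T) : (T : Subgroup G) ⊓ Cfsg.pResidual p G = ⁅(T : Subgroup G), Subgroup.normalizer (T : Set G)⁆ := by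
  haveI := CfsgLib.Inv.pResidual_normal p G
  refine le_antisymm ?_ (le_inf (CfsgLib.Solv.commutator_le_of_le_normalizer le_rfl) ?_)
  · have hker : Cfsg.pResidual p G ≤ (T : Subgroup G).transferFocal.ker := by
      intro x hx
      exact CfsgLib.Solv.hom_pResidual_eq_one (T.2.to_quotient _)
        ((T : Subgroup G).transferFocal.comp (Cfsg.pResidual p G).subtype) ⟨x, hx⟩
    refine (le_trans (inf_le_inf_left _ hker) ?_)
    rw [inf_comm, Subgroup.ker_transferFocal_inf_eq_focalSubgroup, Subgroup.focalSubgroup_def,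
      Subgroup.closure_le]
    rintro _ ⟨hg, x, hx, u, rfl⟩
    have hxi : u * x⁻¹ * u⁻¹ ∈ (T : Subgroup G) := by
      have := mul_mem (inv_mem hx) hg
      simpa [commutatorElement_def, mul_assoc] using this
    obtain ⟨v, hv, he⟩ := CfsgLib.Solv.exists_normalizer_conj_of_abelian_sylow T hT (inv_mem hx) hxi
    have : ⁅x, u⁆ = ⁅x, v⁆ := by
      simp only [commutatorElement_def]
      calc x * u * x⁻¹ * u⁻¹ = x * (u * x⁻¹ * u⁻¹) := by group
        _ = x * (v * x⁻¹ * v⁻¹) := by rw [he]
        _ = _ := by group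
    rw [SetLike.mem_coe, this]
    exact Subgroup.commutator_mem_commutator hx hv
  · rw [Subgroup.commutator_le]
    intro a _ b _
    have key : ∀ a : G, ∃ s ∈ (T : Subgroup G), ∃ n ∈ Cfsg.pResidual p G, a = s * n := by
      intro a
      have : a ∈ (((T : Subgroup G) : Set G) * (Cfsg.pResidual p G : Set G)) := by
        rw [← Subgroup.mul_normal, CfsgLib.Solv.sylow_sup_pResidual]; trivial
      obtain ⟨s, hs, n, hn, rfl⟩ := this
      exact ⟨s, hs, n, hn, rfl⟩
    obtain ⟨s, hs, n, hn, rfl⟩ := key a
    obtain ⟨t, ht, m, hm, rfl⟩ := key b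
    rw [← QuotientGroup.eq_one_iff] at hn hm ⊢
    have e : ∀ x y : G, ((⁅x, y⁆ : G) : G ⧸ Cfsg.pResidual p G) =
        ⁅(x : G ⧸ Cfsg.pResidual p G), (y : G ⧸ Cfsg.pResidual p G)⁆ :=
      map_commutatorElement (QuotientGroup.mk' _)
    rw [e, QuotientGroup.mk_mul, QuotientGroup.mk_mul, hn, hm, mul_one, mul_one, ← e,
      commutatorElement_eq_one_iff_mul_comm.2 (CfsgLib.Solv.commute_of_isMulCommutative hs ht)]
    rfl

end Cfsg.Agent.S0075
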