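-- Statement S0076
import Cfsg.Statements.S0076
import Mathlib.GroupTheory.Sylow
import Cfsg.Agent.Solv.Basic

set_option autoImplicit false
open Cfsg
open scoped commutatorElement Pointwise
set_option linter.style.haveILetI false
set_option linter.deprecated false

namespace Cfsg.Agent.S0076

/-- Two P-invariant subsets of a Sylow p-subgroup P that are conjugate in G are conjugate under the normalizer of P. -/
theorem result {G : Type*} [Group G] [Finite G] {p : ℕ} [Fact p.Prime] (P : Sylow p G) (X Y : Set G) (hXP : X ⊆ P) (hYP : Y ⊆ P) (hX : ∀ x ∈ P, (fun y => x * y * x⁻¹) '' X = X) (hY : ∀ x ∈ P, (fun y => x * y * x⁻¹) '' Y = Y) (g : G) (hg : (fun y => g * y * g⁻¹) '' X = Y) : ∃ n ∈ Subgroup.normalizer (P : Set G), (fun y => n * y * n⁻¹) '' X = Y := by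
  let c : G → Set G → Set G := fun a Z => (fun y => a * y * a⁻¹) '' Z
  have cmul : ∀ a b Z, c (a * b) Z = c a (c b Z) := fun a b Z => by
    simp only [c, Set.image_image]
    exact Set.image_congr' fun y => by group
  have cone : ∀ Z, c 1 Z = Z := fun Z => by simp [c]
  have hXi : c g⁻¹ Y = X := by
    rw [← show c g X = Y from hg, ← cmul, inv_mul_cancel, cone]
  let S : Subgroup G :=
    { carrier := {a | c a Y = Y}
      one_mem' := cone Y
      mul_mem' := fun {a b} ha hb => by
        show c (a * b) Y = Y
        rw [cmul, show c b Y = Y from hb, show c a Y = Y from ha]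
      inv_mem' := fun {a} ha => by
        show c a⁻¹ Y = Y
        conv_lhs => rw [← show c a Y = Y from ha, ← cmul, inv_mul_cancel, cone] }
  have hPS : (P : Subgroup G) ≤ S := fun x hx => hY x hx
  have hgPS : ((g • P : Sylow p G) : Subgroup G) ≤ S := by
    intro y hy
    rw [Sylow.coe_subgroup_smul, CfsgLib.Solv.mem_conj_smul_iff] at hy
    show c y Y = Y
    have e : y = g * (g⁻¹ * y * g) * g⁻¹ := by group
    rw [e, cmul, cmul, hXi, show c (g⁻¹ * y * g) X = X from hX _ hy]
    exact hg
  obtain ⟨h, hh⟩ := MulAction.exists_smul_eq S ((g • P).subtype hgPS) (P.subtype hPS)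
  rw [Sylow.smul_subtype] at hh
  have hh' := Sylow.subtype_injective hh
  rw [Subgroup.smul_def, smul_smul] at hh'
  refine ⟨(h : G) * g, Sylow.smul_eq_iff_mem_normalizer.1 hh', ?_⟩
  show c ((h : G) * g) X = Y
  rw [cmul, show c g X = Y from hg]
  exact h.2

end Cfsg.Agent.S0076
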