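-- Statement S0077
import Cfsg.Statements.S0077
import Cfsg.Agent.Solv.TransferTools

set_option autoImplicit false
open Cfsg
open scoped commutatorElement Pointwise
set_option linter.style.haveILetI false
set_option linter.deprecated false
set_option linter.unusedVariables false

namespace Cfsg.Agent.S0077

/-- If a subgroup Z of the centre of a Sylow p-subgroup P is weakly closed in P, then P meets the derived subgroup of G exactly where it meets the derived subgroup of the normalizer of Z. -/
theorem result {G : Type*} [Group G] [Finite G] {p : ℕ} [Fact p.Prime] (P : Sylow p G) (Z : Subgroup G) (hZ : Z ≤ Subgroup.centralizer (P : Set G)) (hW : Cfsg.IsWeaklyClosed Z P) : commutator G ⊓ (P : Subgroup G) = ⁅Subgroup.normalizer (Z : Set G), Subgroup.normalizer (Z : Set G)⁆ ⊓ (P : Subgroup G) := by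
  refine CfsgLib.Solv.commutator_inf_eq_of_control P _ ?_
    fun x hx g hg => CfsgLib.Solv.control_of_weaklyClosed P hZ hW hx hg
  intro x hx
  refine Subgroup.mem_normalizer_iff.2 fun z => ?_
  constructor
  · intro hz
    rwa [Subgroup.mem_centralizer_iff.1 (hZ hz) x hx, mul_inv_cancel_right]
  · intro hz
    have h := Subgroup.mem_centralizer_iff.1 (hZ hz) x hx
    have e : z = x * z * x⁻¹ := by
      calc z = x⁻¹ * ((x * z * x⁻¹) * x) := by group
        _ = x⁻¹ * (x * (x * z * x⁻¹)) := by rw [h]
        _ = _ := by group
    rwa [← e] at hz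

end Cfsg.Agent.S0077
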