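-- Statement S0078
import Cfsg.Statements.S0078
import Cfsg.Agent.Solv.TransferTools

set_option autoImplicit false
open Cfsg
open scoped commutatorElement Pointwise
set_option linter.style.haveILetI false
set_option linter.deprecated false
set_option linter.unusedVariables false

namespace Cfsg.Agent.S0078

/-- In a p-normal group, a Sylow p-subgroup P meets O^p(G) exactly where it meets O^p(V), for any subgroup V containing the normalizer of the centre of P. -/
theorem result {G : Type*} [Group G] [Finite G] {p : ℕ} [Fact p.Prime] (P : Sylow p G) (hn : ∀ Q : Sylow p G, (P : Subgroup G) ⊓ Subgroup.centralizer (P : Set G) ≤ (Q : Subgroup G) → (Q : Subgroup G) ⊓ Subgroup.centralizer (Q : Set G) = (P : Subgroup G) ⊓ Subgroup.centralizer (P : Set G)) (V : Subgroup G) (hV : Subgroup.normalizer (((P : Subgroup G) ⊓ Subgroup.centralizer (P : Set G) : Subgroup G) : Set G) ≤ V) : (P : Subgroup G) ⊓ Cfsg.pResidual p G = (P : Subgroup G) ⊓ (Cfsg.pResidual p V).map V.subtype := by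
  set Z : Subgroup G := (P : Subgroup G) ⊓ Subgroup.centralizer (P : Set G) with hZdef
  have hPV : (P : Subgroup G) ≤ V := by
    refine le_trans ?_ hV
    intro x hx
    refine Subgroup.mem_normalizer_iff.2 fun z => ⟨fun hz => ?_, fun hz => ?_⟩
    · rwa [Subgroup.mem_centralizer_iff.1 (Subgroup.mem_inf.1 hz).2 x hx, mul_inv_cancel_right]
    · have h := Subgroup.mem_centralizer_iff.1 (Subgroup.mem_inf.1 hz).2 x hx
      have e : z = x * z * x⁻¹ := by
        calc z = x⁻¹ * ((x * z * x⁻¹) * x) := by group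
          _ = x⁻¹ * (x * (x * z * x⁻¹)) := by rw [h]
          _ = _ := by group
      rwa [← e] at hz
  have hW : Cfsg.IsWeaklyClosed Z (P : Subgroup G) := by
    refine ⟨inf_le_left, fun g hg => ?_⟩
    have hQ : Z ≤ ((g⁻¹ • P : Sylow p G) : Subgroup G) := by
      intro z hz
      rw [Sylow.coe_subgroup_smul, CfsgLib.Solv.mem_conj_smul_iff, inv_inv]
      exact hg ⟨z, hz, rfl⟩
    have h2 := hn (g⁻¹ • P) hQ
    ext w
    constructor
    · rintro ⟨z, hz, rfl⟩
      rw [← h2] at hz
      obtain ⟨hz1, hz2⟩ := Subgroup.mem_inf.1 hz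
      refine Subgroup.mem_inf.2 ⟨?_, Subgroup.mem_centralizer_iff.2 fun y hy => ?_⟩
      · rw [Sylow.coe_subgroup_smul, CfsgLib.Solv.mem_conj_smul_iff, inv_inv] at hz1
        simpa using hz1
      · have hy' : g⁻¹ * y * g ∈ ((g⁻¹ • P : Sylow p G) : Subgroup G) := by
          rw [Sylow.coe_subgroup_smul, CfsgLib.Solv.mem_conj_smul_iff, inv_inv]
          have e : g * (g⁻¹ * y * g) * g⁻¹ = y := by group
          rw [e]; exact hy
        have h3 := Subgroup.mem_centralizer_iff.1 hz2 _ hy'
        have h4 := congrArg (fun q => g * q * g⁻¹) h3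
        simpa [mul_assoc] using h4
    · intro hw
      obtain ⟨hw1, hw2⟩ := Subgroup.mem_inf.1 hw
      refine ⟨g⁻¹ * w * g, ?_, by simp [mul_assoc]⟩
      rw [SetLike.mem_coe, ← h2]
      refine Subgroup.mem_inf.2 ⟨?_, Subgroup.mem_centralizer_iff.2 fun y hy => ?_⟩
      · rw [Sylow.coe_subgroup_smul, CfsgLib.Solv.mem_conj_smul_iff, inv_inv]
        have e : g * (g⁻¹ * w * g) * g⁻¹ = w := by group
        rw [e]; exact hw1
      · replace hy : y ∈ ((g⁻¹ • P : Sylow p G) : Subgroup G) := hy
        rw [Sylow.coe_subgroup_smul, CfsgLib.Solv.mem_conj_smul_iff, inv_inv] at hy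
        have h3 := Subgroup.mem_centralizer_iff.1 hw2 _ hy
        have h4 := congrArg (fun q => g⁻¹ * q * g) h3
        simpa [mul_assoc] using h4
  refine CfsgLib.Solv.inf_pResidual_eq_of_control P V hPV fun x hx g hg => ?_
  obtain ⟨n, hn', he⟩ := CfsgLib.Solv.control_of_weaklyClosed P inf_le_right hW hx hg
  exact ⟨n, hV hn', he⟩

end Cfsg.Agent.S0078
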