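-- Statement S0079
import Cfsg.Statements.S0079
import Cfsg.Agent.Solv.TransferTools

set_option autoImplicit false
open Cfsg
open scoped commutatorElement Pointwise
set_option linter.style.haveILetI false
set_option linter.deprecated false
set_option linter.unusedVariables false

namespace Cfsg.Agent.S0079

/-- A nilpotent Hall subgroup has a normal complement exactly when elements of it that are conjugate in the whole group are already conjugate inside it. -/
theorem result {G : Type*} [Group G] [Finite G] (H : Subgroup G) (hH : Group.IsNilpotent H) (hHall : Nat.Coprime (Nat.card H) H.index) : (∃ N : Subgroup G, N.Normal ∧ N.IsComplement' H) ↔ ∀ x ∈ H, ∀ y ∈ H, (∃ g : G, g * x * g⁻¹ = y) → ∃ h ∈ H, h * x * h⁻¹ = y := by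
  constructor
  · rintro ⟨N, hN, hc⟩ x hx y hy ⟨g, hg⟩
    have hm : g ∈ ((N : Set G) * (H : Set G)) := by rw [hc.mul_eq]; trivial
    obtain ⟨n, hn, h, hh, rfl⟩ := hm
    refine ⟨h, hh, ?_⟩
    have h1 : y * (h * x * h⁻¹)⁻¹ ∈ N ⊓ H := by
      refine Subgroup.mem_inf.2 ⟨?_, mul_mem hy (inv_mem (mul_mem (mul_mem hh hx) (inv_mem hh)))⟩
      rw [← hg]
      have := mul_mem hn (hN.conj_mem _ (inv_mem hn) (h * x * h⁻¹))
      simpa [mul_assoc] using this
    rw [hc.disjoint.eq_bot, Subgroup.mem_bot, mul_inv_eq_one] at h1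
    exact h1.symm
  · intro hf
    refine CfsgLib.Solv.exists_normal_complement_of_hnpc H hHall fun p hp hpH => ?_
    haveI := Fact.mk hp
    obtain ⟨P0⟩ := (inferInstance : Nonempty (Sylow p H))
    have hidx : ¬ p ∣ ((P0 : Subgroup H).map H.subtype).index := by
      rw [Subgroup.index_map_subtype]
      exact fun hd => (hp.dvd_mul.1 hd).elim P0.not_dvd_index
        fun hd2 => hp.ne_one (Nat.eq_one_of_dvd_coprimes hHall hpH hd2)
    haveI := hH
    have hnH : Cfsg.HasNormalPComplement p H := CfsgLib.Solv.hnpc_of_isNilpotent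
    refine CfsgLib.Solv.hnpc_of_fusion ((P0.2.map H.subtype).toSylow hidx) fun x hx g hg => ?_
    obtain ⟨x', hx', rfl⟩ := hx
    obtain ⟨y', hy', hye⟩ := hg
    obtain ⟨h, hh, he⟩ := hf (x' : G) x'.2 (g * (x' : G) * g⁻¹) (hye ▸ y'.2) ⟨g, rfl⟩
    obtain ⟨s, hs, hse⟩ := CfsgLib.Solv.fusion_of_frobCond (CfsgLib.Solv.hnpc_iff_frobCond.1 hnH) P0
      (x := x') hx' (g := ⟨h, hh⟩) (by
        have e : (⟨h, hh⟩ : H) * x' * (⟨h, hh⟩ : H)⁻¹ = y' := Subtype.ext (he.trans hye.symm)
        rw [e]; exact hy')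
    exact ⟨(s : G), ⟨s, hs, rfl⟩, (congrArg Subtype.val hse).trans he⟩

end Cfsg.Agent.S0079
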