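-- Statement S0080
import Cfsg.Statements.S0080
import Cfsg.Agent.Solv.TransferTools

set_option autoImplicit false
open Cfsg
open scoped commutatorElement Pointwise IsMulCommutative
set_option linter.style.haveILetI false
set_option linter.deprecated false
set_option linter.unusedVariables false

namespace Cfsg.Agent.S0080

/-- When the index of H is prime to the order of H/H', the focal subgroup of H is G' ∩ H, and H/(G' ∩ H) has a normal complement. -/
theorem result {G : Type*} [Group G] [Finite G] (H : Subgroup G) (h : Nat.Coprime H.index (⁅H, H⁆.relIndex H)) : Subgroup.focalSubgroup H = commutator G ⊓ H ∧ ∃ N : Subgroup G, N.Normal ∧ N ⊓ H = commutator G ⊓ H ∧ N ⊔ H = ⊤ := by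
  set F := Subgroup.focalSubgroup H with hF
  have hcard : (Nat.card (H ⧸ H.focalSubgroupOf)).Coprime H.index := by
    refine Nat.Coprime.coprime_dvd_left ?_ h.symm
    show H.focalSubgroupOf.index ∣ _
    rw [Subgroup.focalSubgroupOf_def]
    exact Subgroup.relIndex_dvd_of_le_left H (Subgroup.commutator_le_focalSubgroup H)
  have hpow : Function.Bijective fun y : H ⧸ H.focalSubgroupOf => y ^ H.index :=
    (powCoprime hcard).bijective
  have hker : H.transferFocal.ker ⊓ H = F := by
    apply le_antisymm
    · intro x hx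
      obtain ⟨hx1, hx2⟩ := Subgroup.mem_inf.1 hx
      have h1 : ((⟨x, hx2⟩ : H) : H ⧸ H.focalSubgroupOf) ^ H.index = 1 :=
        (Subgroup.transferFocal_eq_pow H ⟨x, hx2⟩).symm.trans hx1
      have h2 := hpow.1 (a₁ := ((⟨x, hx2⟩ : H) : H ⧸ H.focalSubgroupOf)) (a₂ := 1) (by simpa using h1)
      exact (QuotientGroup.eq_one_iff (N := H.focalSubgroupOf) (⟨x, hx2⟩ : H)).1 h2
    · exact le_inf (H.focalSubgroup_le_commutator.trans (Abelianization.commutator_subset_ker _))
        H.focalSubgroup_le
  have hfoc : F = commutator G ⊓ H := le_antisymm (le_inf H.focalSubgroup_le_commutator H.focalSubgroup_le)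
    (hker ▸ inf_le_inf_right H (Abelianization.commutator_subset_ker _))
  refine ⟨hfoc, H.transferFocal.ker, inferInstance, hker.trans hfoc, top_le_iff.1 fun g _ => ?_⟩
  obtain ⟨y, hy⟩ := hpow.2 (H.transferFocal g)
  obtain ⟨x, rfl⟩ := QuotientGroup.mk'_surjective _ y
  have he : H.transferFocal (x : G) = H.transferFocal g :=
    (Subgroup.transferFocal_eq_pow H x).trans hy
  have e : g = g * (x : G)⁻¹ * (x : G) := by group
  rw [e]
  exact Subgroup.mul_mem_sup (by rw [MonoidHom.mem_ker, map_mul, map_inv, he, mul_inv_cancel]) x.2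

end Cfsg.Agent.S0080
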