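-- Statement S0081
import Cfsg.Statements.S0081
import Cfsg.Agent.Solv.Tate

set_option autoImplicit false
open Cfsg
open scoped commutatorElement Pointwise
set_option linter.style.haveILetI false
set_option linter.deprecated false
set_option linter.unusedVariables false

namespace Cfsg.Agent.S0081

/-- If a normal subgroup meets a Sylow p-subgroup P inside the Frattini subgroup of P, then it has a normal p-complement. -/
theorem result {G : Type*} [Group G] [Finite G] {p : ℕ} [Fact p.Prime] (P : Sylow p G) (N : Subgroup G) [N.Normal] (h : N ⊓ (P : Subgroup G) ≤ (frattini P).map (P : Subgroup G).subtype) : Cfsg.HasNormalPComplement p N := by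
  set G1 : Subgroup G := N ⊔ (P : Subgroup G) with hG1
  have hN1 : N ≤ G1 := le_sup_left
  have hP1 : (P : Subgroup G) ≤ G1 := le_sup_right
  have hsup : ((P.subtype hP1 : Sylow p G1) : Subgroup G1) ⊔ N.subgroupOf G1 = ⊤ := by
    rw [Sylow.coe_subtype, ← Subgroup.subgroupOf_sup hP1 hN1, sup_comm]
    exact Subgroup.subgroupOf_self G1
  set P' : Sylow p G1 := P.subtype hP1 with hP'
  haveI hNn : (N.subgroupOf G1).Normal := inferInstance
  let e : (P : Subgroup G) ≃* ((P' : Subgroup G1)) := (Subgroup.subgroupOfEquivOfLe hP1).symm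
  have hfr : (P' : Subgroup G1) ⊓ N.subgroupOf G1 ≤
      (frattini (P' : Subgroup G1)).map (P' : Subgroup G1).subtype := by
    intro x hx
    obtain ⟨hx1, hx2⟩ := Subgroup.mem_inf.1 hx
    have hx1' : (x : G) ∈ (P : Subgroup G) := hx1
    obtain ⟨y, hy, hyx⟩ := h (Subgroup.mem_inf.2 ⟨hx2, hx1'⟩)
    refine ⟨e y, ?_, Subtype.ext hyx⟩
    have hmap : (frattini (P : Subgroup G)).map e.toMonoidHom ≤ frattini (P' : Subgroup G1) := by
      rintro _ ⟨z, hz, rfl⟩
      rw [SetLike.mem_coe, frattini, Order.radical] at hz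
      rw [frattini, Order.radical]
      simp only [Subgroup.mem_iInf] at hz ⊢
      intro M hM
      exact hz _ ((OrderIso.isCoatom_iff (e.comapSubgroup) M).2 hM)
    exact hmap (Subgroup.mem_map_of_mem _ hy)
  have hn := CfsgLib.Solv.tate P' (N.subgroupOf G1) hNn hsup hfr
  exact CfsgLib.Solv.hnpc_mulEquiv (Subgroup.subgroupOfEquivOfLe hN1) (CfsgLib.Solv.hnpc_subgroup hn _)

end Cfsg.Agent.S0081
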