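-- Statement S0082
import Cfsg.Statements.S0082
import Cfsg.Agent.Solv.TransferTools
import Cfsg.Agent.Perm.CyclicSylow

set_option autoImplicit false
open Cfsg
open scoped commutatorElement Pointwise
set_option linter.style.haveILetI false
set_option linter.deprecated false
set_option linter.unusedVariables false

namespace Cfsg.Agent.S0082

/-- With a cyclic Sylow p-subgroup, either there is a normal p-complement or the elements of order prime to p generate the whole group. -/
theorem result {G : Type*} [Group G] [Finite G] {p : ℕ} [Fact p.Prime] (P : Sylow p G) (hP : IsCyclic P) : Cfsg.HasNormalPComplement p G ∨ Cfsg.pResidual p G = ⊤ := by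
  haveI := CfsgLib.Inv.pResidual_normal p G
  by_cases h : (P : Subgroup G) ≤ Cfsg.pResidual p G
  · right
    exact top_le_iff.1 ((CfsgLib.Solv.sylow_sup_pResidual P).ge.trans (sup_le h le_rfl))
  left
  refine CfsgLib.Solv.hnpc_of_normalizer_le_centralizer P fun n hn => ?_
  have hc : IsMulCommutative (P : Subgroup G) := IsCyclic.isMulCommutative
  obtain ⟨s, hs, c, hcC, -, he⟩ := CfsgLib.Solv.exists_mul_of_pElements
    (P.subtype Subgroup.le_normalizer) (C := Subgroup.centralizer ((P : Subgroup G) : Set G))
    (fun y hy hyc => CfsgLib.Perm.mem_centralizer_cyclic P.2 hP hy hyc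
      (Or.inr ⟨(P : Subgroup G) ⊓ Cfsg.pResidual p G,
        lt_of_le_of_ne inf_le_left (fun e => h (inf_eq_left.1 e)),
        fun z hz => Subgroup.mem_inf.2 ⟨mul_mem ((Subgroup.mem_normalizer_iff.1 hy z).1 hz) (inv_mem hz), by
          have := mul_mem (CfsgLib.Inv.mem_pResidual (p := p) hyc)
            (Subgroup.Normal.conj_mem ‹_› _ (inv_mem (CfsgLib.Inv.mem_pResidual (p := p) hyc)) z)
          simpa [mul_assoc] using this⟩⟩)) hn
  rw [← he]
  refine mul_mem ?_ hcC
  exact Subgroup.mem_centralizer_iff.2 fun y hy =>
    CfsgLib.Solv.commute_of_isMulCommutative (A := (P : Subgroup G)) hy hs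

end Cfsg.Agent.S0082
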