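-- Statement S0083
import Cfsg.Statements.S0083
import Cfsg.Agent.Solv.PComplement

set_option autoImplicit false
open Cfsg
open scoped commutatorElement Pointwise
set_option linter.style.haveILetI false
set_option linter.deprecated false

namespace Cfsg.Agent.S0083

/-- For an abelian Sylow p-subgroup P, a normal p-complement exists exactly when the normalizer of P is an internal direct product of P with some subgroup. -/
theorem result {G : Type*} [Group G] [Finite G] {p : ℕ} [Fact p.Prime] (P : Sylow p G) (hP : IsMulCommutative P) : Cfsg.HasNormalPComplement p G ↔ ∃ Q : Subgroup G, Q ≤ Subgroup.centralizer (P : Set G) ∧ Q ⊓ (P : Subgroup G) = ⊥ ∧ Q ⊔ (P : Subgroup G) = Subgroup.normalizer (P : Set G) := by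
  constructor
  · intro h
    haveI := CfsgLib.Inv.pResidual_normal p G
    have hb := (CfsgLib.Solv.hnpc_iff_inf P).1 h
    refine ⟨Cfsg.pResidual p G ⊓ Subgroup.normalizer (P : Set G), ?_, ?_, ?_⟩
    · intro g hg
      obtain ⟨hgK, hgN⟩ := Subgroup.mem_inf.1 hg
      exact CfsgLib.Solv.mem_centralizer_of_hnpc h P.2 hgN ((CfsgLib.Solv.hnpc_mem_iff h).1 hgK)
    · rw [eq_bot_iff, ← hb]
      exact le_inf inf_le_right (inf_le_left.trans inf_le_left)
    · refine le_antisymm (sup_le inf_le_right Subgroup.le_normalizer) fun g hg => ?_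
      have hm : g ∈ (((P : Subgroup G) : Set G) * (Cfsg.pResidual p G : Set G)) := by
        rw [← Subgroup.mul_normal, CfsgLib.Solv.sylow_sup_pResidual P]; trivial
      obtain ⟨s, hs, k, hk, rfl⟩ := hm
      rw [sup_comm]
      refine Subgroup.mul_mem_sup hs (Subgroup.mem_inf.2 ⟨hk, ?_⟩)
      have := mul_mem (inv_mem (Subgroup.le_normalizer hs)) hg
      simpa using this
  · rintro ⟨Q, hQC, -, hQN⟩
    refine CfsgLib.Solv.hnpc_of_fusion P fun x hx g hg => ?_
    obtain ⟨n, hn, he⟩ := CfsgLib.Solv.exists_normalizer_conj_of_abelian_sylow P hP hx hg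
    refine ⟨1, one_mem _, ?_⟩
    have hC : Subgroup.normalizer (P : Set G) ≤ Subgroup.centralizer (P : Set G) := by
      rw [← hQN]
      exact sup_le hQC (Subgroup.le_centralizer _)
    rw [← he, ← Subgroup.mem_centralizer_iff.1 (hC hn) x hx, mul_inv_cancel_right, one_mul, inv_one,
      mul_one]

end Cfsg.Agent.S0083
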