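-- Statement S0084
import Cfsg.Statements.S0084
import Cfsg.Agent.Solv.TransferTools

set_option autoImplicit false
open Cfsg
open scoped commutatorElement Pointwise
set_option linter.style.haveILetI false
set_option linter.deprecated false
set_option linter.unusedVariables false

namespace Cfsg.Agent.S0084

/-- A group whose Sylow 2-subgroups are Klein four-groups and whose order is prime to 3 has a normal 2-complement. -/
theorem result {G : Type*} [Group G] [Finite G] (T : Sylow 2 G) (hT : IsKleinFour T) (h3 : ¬ 3 ∣ Nat.card G) : Cfsg.HasNormalPComplement 2 G := by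
  rw [CfsgLib.Solv.hnpc_iff_frobCond]
  intro Q hQ g hg hgc
  obtain ⟨R, hR⟩ := hQ.exists_le_sylow
  have hcard : Nat.card Q ∣ 4 := by
    refine (Subgroup.card_dvd_of_le hR).trans (dvd_of_eq ?_)
    rw [Sylow.card_eq_multiplicity, ← Sylow.card_eq_multiplicity T]
    exact hT.card_four
  refine CfsgLib.Solv.mem_centralizer_of_small hQ hg fun r hr hrd k hk hlt hsub => ?_
  have hr3 : r ≠ 3 := by rintro rfl; exact h3 (hrd.trans (orderOf_dvd_natCard g))
  have hr2 : r ≠ 2 := by
    rintro rfl
    exact absurd (Nat.eq_one_of_dvd_coprimes hgc hrd dvd_rfl) (by norm_num)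
  have hle : Nat.card Q ≤ 4 := Nat.le_of_dvd (by norm_num) hcard
  have := Nat.le_of_dvd (by omega) hsub
  have := hr.two_le
  have hpos : 0 < 2 ^ k := by positivity
  omega

end Cfsg.Agent.S0084
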