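-- Statement S0085
import Cfsg.Statements.S0085
import Cfsg.Agent.Solv.TransferTools

set_option autoImplicit false
open Cfsg
open scoped commutatorElement Pointwise
set_option linter.style.haveILetI false
set_option linter.deprecated false
set_option linter.unusedVariables false

namespace Cfsg.Agent.S0085

/-- A group whose Sylow 2-subgroups are elementary abelian of order 8 and whose order is prime to 3 and to 7 has a normal 2-complement. -/
theorem result {G : Type*} [Group G] [Finite G] (T : Sylow 2 G) (h8 : Nat.card T = 8) (he : ∀ x : T, x * x = 1) (h3 : ¬ 3 ∣ Nat.card G) (h7 : ¬ 7 ∣ Nat.card G) : Cfsg.HasNormalPComplement 2 G := by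
  rw [CfsgLib.Solv.hnpc_iff_frobCond]
  intro Q hQ g hg hgc
  obtain ⟨R, hR⟩ := hQ.exists_le_sylow
  have hcard : Nat.card Q ∣ 2 ^ 3 := by
    refine (Subgroup.card_dvd_of_le hR).trans (dvd_of_eq ?_)
    rw [Sylow.card_eq_multiplicity, ← Sylow.card_eq_multiplicity T]
    exact h8
  obtain ⟨m, hm, hQm⟩ := (Nat.dvd_prime_pow Nat.prime_two).1 hcard
  refine CfsgLib.Solv.mem_centralizer_of_small hQ hg fun r hr hrd k hk hlt hsub => ?_
  have hr3 : r ≠ 3 := by rintro rfl; exact h3 (hrd.trans (orderOf_dvd_natCard g))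
  have hr7 : r ≠ 7 := by rintro rfl; exact h7 (hrd.trans (orderOf_dvd_natCard g))
  have hr2 : r ≠ 2 := by
    rintro rfl
    exact absurd (Nat.eq_one_of_dvd_coprimes hgc hrd dvd_rfl) (by norm_num)
  rw [hQm] at hlt hsub
  have hkm : k < m := (Nat.pow_lt_pow_iff_right (by norm_num)).1 hlt
  have hs7 : 2 ^ m - 2 ^ k ≤ 7 := by
    have := Nat.pow_le_pow_right (show 0 < 2 by norm_num) hm
    have : 0 < 2 ^ k := by positivity
    omega
  have hr5 : r ≤ 7 := (Nat.le_of_dvd (by omega) hsub).trans hs7
  interval_cases r <;> interval_cases m <;> interval_cases k <;>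
    first | omega | (norm_num at hr; done) | norm_num at hsub

end Cfsg.Agent.S0085
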