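-- Statement S0086
import Cfsg.Statements.S0086
import Cfsg.Agent.Solv.PComplement

set_option autoImplicit false
open Cfsg
open scoped commutatorElement Pointwise
set_option linter.style.haveILetI false
set_option linter.deprecated false

namespace Cfsg.Agent.S0086

/-- A normal complement to a Sylow p-subgroup is exactly the set of elements of order prime to p. -/
theorem result {G : Type*} [Group G] [Finite G] {p : ℕ} [Fact p.Prime] (P : Sylow p G) (N : Subgroup G) [N.Normal] (hN : N.IsComplement' (P : Subgroup G)) (x : G) : x ∈ N ↔ Nat.Coprime (orderOf x) p := by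
  have hn : Cfsg.HasNormalPComplement p G := ⟨P, N, inferInstance, hN⟩
  have e : Cfsg.pResidual p G = N := by
    refine CfsgLib.Solv.not_dvd_card_pResidual_of_normal ?_ ?_
    · rw [← hN.index_eq_card]; exact P.not_dvd_index
    · rw [hN.symm.index_eq_card]; exact IsPGroup.iff_card.1 P.2
  rw [← e]
  exact CfsgLib.Solv.hnpc_mem_iff hn

end Cfsg.Agent.S0086
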