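-- Statement S0087
import Cfsg.Statements.S0087
import Cfsg.Agent.Solv.TransferTools

set_option autoImplicit false
open Cfsg
open scoped commutatorElement Pointwise
set_option linter.style.haveILetI false
set_option linter.deprecated false
set_option linter.unusedVariables false

namespace Cfsg.Agent.S0087

/-- A Hall subgroup that is central in its normalizer has a normal complement. -/
theorem result {G : Type*} [Group G] [Finite G] (H : Subgroup G) (hHall : Nat.Coprime (Nat.card H) H.index) (h : Subgroup.normalizer (H : Set G) ≤ Subgroup.centralizer (H : Set G)) : ∃ N : Subgroup G, N.Normal ∧ N.IsComplement' H := by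
  have hc : IsMulCommutative H := ⟨⟨fun a b => Subtype.ext
    (Subgroup.mem_centralizer_iff.1 (h (Subgroup.le_normalizer a.2)) b b.2).symm⟩⟩
  have hfus : ∀ x ∈ H, ∀ g : G, g * x * g⁻¹ ∈ H → g * x * g⁻¹ = x := by
    intro x hx g hg
    set y := g * x * g⁻¹ with hy
    set C := Subgroup.centralizer ({y} : Set G) with hC
    have hHC : H ≤ C := fun z hz => Subgroup.mem_centralizer_singleton_iff.2
      (CfsgLib.Solv.commute_of_isMulCommutative hz hg)
    have hgHC : MulAut.conj g • H ≤ C := fun z hz => by
      rw [CfsgLib.Solv.mem_conj_smul_iff] at hz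
      refine Subgroup.mem_centralizer_singleton_iff.2 ?_
      have e := congrArg (fun q => g * q * g⁻¹) (CfsgLib.Solv.commute_of_isMulCommutative hz hx)
      simpa [hy, mul_assoc] using e
    have hidx : (Nat.card (H.subgroupOf C)).Coprime (H.subgroupOf C).index := by
      rw [CfsgLib.Solv.card_subgroupOf hHC]
      exact hHall.coprime_dvd_right (Subgroup.relIndex_dvd_index_of_le hHC)
    have hc1 : IsMulCommutative (H.subgroupOf C) := ⟨⟨fun a b => Subtype.ext (Subtype.ext
      (CfsgLib.Solv.commute_of_isMulCommutative (A := H) a.2 b.2))⟩⟩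
    have hc2 : IsMulCommutative ((MulAut.conj g • H).subgroupOf C) := ⟨⟨fun a b => Subtype.ext (Subtype.ext (by
      have e := congrArg (fun q => g * q * g⁻¹) (CfsgLib.Solv.commute_of_isMulCommutative
        (CfsgLib.Solv.mem_conj_smul_iff.1 a.2) (CfsgLib.Solv.mem_conj_smul_iff.1 b.2))
      simpa [mul_assoc] using e))⟩⟩
    obtain ⟨c, hc'⟩ := CfsgLib.Solv.abelian_hall_conj _ C (H.subgroupOf C)
      ((MulAut.conj g • H).subgroupOf C) rfl hc1 hc2 hidx
      (by rw [CfsgLib.Solv.card_subgroupOf hgHC, CfsgLib.Solv.card_conj_smul,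
        CfsgLib.Solv.card_subgroupOf hHC])
    have hn : (c : G)⁻¹ * g ∈ Subgroup.normalizer (H : Set G) := by
      refine CfsgLib.Solv.mem_normalizer_of_conj_smul_eq ?_
      rw [map_mul, mul_smul, map_inv, inv_smul_eq_iff]
      ext z
      constructor
      · intro hz
        have hzC : z ∈ C := hgHC hz
        have : (⟨z, hzC⟩ : C) ∈ MulAut.conj c • H.subgroupOf C := by rw [hc']; exact hz
        have t := CfsgLib.Solv.mem_conj_smul_iff.1 this
        refine CfsgLib.Solv.mem_conj_smul_iff.2 ?_
        exact t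
      · intro hz
        rw [CfsgLib.Solv.mem_conj_smul_iff] at hz
        have hzC : z ∈ C := by
          have := mul_mem (mul_mem c.2 (hHC hz)) (inv_mem c.2)
          simpa [mul_assoc] using this
        have : (⟨z, hzC⟩ : C) ∈ MulAut.conj c • H.subgroupOf C := by
          refine CfsgLib.Solv.mem_conj_smul_iff.2 ?_
          exact hz
        rwa [hc'] at this
    have hnx := Subgroup.mem_centralizer_iff.1 (h hn) x hx
    have hcy := Subgroup.mem_centralizer_singleton_iff.1 c.2
    calc y = (c : G)⁻¹ * ((c : G) * y) := by group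
      _ = (c : G)⁻¹ * (y * (c : G)) := by rw [hcy]
      _ = ((c : G)⁻¹ * g) * x * ((c : G)⁻¹ * g)⁻¹ := by rw [hy]; group
      _ = x := by rw [← hnx, mul_inv_cancel_right]
  refine CfsgLib.Solv.exists_normal_complement_of_hnpc H hHall fun p hp hpH => ?_
  haveI := Fact.mk hp
  obtain ⟨P0⟩ := (inferInstance : Nonempty (Sylow p H))
  have hidx : ¬ p ∣ ((P0 : Subgroup H).map H.subtype).index := by
    rw [Subgroup.index_map_subtype]
    exact fun hd => (hp.dvd_mul.1 hd).elim P0.not_dvd_index
      fun hd2 => hp.ne_one (Nat.eq_one_of_dvd_coprimes hHall hpH hd2)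
  refine CfsgLib.Solv.hnpc_of_fusion ((P0.2.map H.subtype).toSylow hidx) fun x hx g hg =>
    ⟨1, one_mem _, ?_⟩
  rw [hfus x (Subgroup.map_subtype_le _ hx) g (Subgroup.map_subtype_le _ hg), one_mul, inv_one, mul_one]

end Cfsg.Agent.S0087
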