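-- Statement S0088
import Cfsg.Statements.S0088
import Cfsg.Agent.Solv.TransferTools

set_option autoImplicit false
open Cfsg
open scoped commutatorElement Pointwise
set_option linter.style.haveILetI false
set_option linter.deprecated false
set_option linter.unusedVariables false

namespace Cfsg.Agent.S0088

/-- An abelian Hall subgroup meets G' ∩ Z(G) trivially. -/
theorem result {G : Type*} [Group G] [Finite G] (H : Subgroup G) (hc : IsMulCommutative H) (hHall : Nat.Coprime (Nat.card H) H.index) : H ⊓ commutator G ⊓ Subgroup.center G = ⊥ := by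
  rw [eq_bot_iff]
  intro z hz
  obtain ⟨h12, h3⟩ := Subgroup.mem_inf.1 hz
  obtain ⟨h1, h2⟩ := Subgroup.mem_inf.1 h12
  exact CfsgLib.Solv.eq_one_of_abelian_hall hc hHall h1 h3 h2

end Cfsg.Agent.S0088
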