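-- Statement S0089
import Cfsg.Statements.S0089
import Cfsg.Agent.Solv.TransferTools

set_option autoImplicit false
open Cfsg
open scoped commutatorElement Pointwise
set_option linter.style.haveILetI false
set_option linter.deprecated false
set_option linter.unusedVariables false

namespace Cfsg.Agent.S0089

/-- When all Sylow subgroups are abelian, the derived subgroup meets the centre trivially. -/
theorem result {G : Type*} [Group G] [Finite G] (h : ∀ p : ℕ, p.Prime → ∀ P : Sylow p G, IsMulCommutative P) : commutator G ⊓ Subgroup.center G = ⊥ := by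
  rw [eq_bot_iff]
  intro z hz
  obtain ⟨h1, h2⟩ := Subgroup.mem_inf.1 hz
  rw [Subgroup.mem_bot]
  by_contra hne
  obtain ⟨p, hp, hpd⟩ := Nat.exists_prime_and_dvd (mt orderOf_eq_one_iff.1 hne)
  haveI := Fact.mk hp
  set w := z ^ (orderOf z / p) with hw
  have hwo : orderOf w = p := by
    rw [hw, orderOf_pow_of_dvd (Nat.div_pos (Nat.le_of_dvd (orderOf_pos z) hpd) hp.pos).ne'
      (Nat.div_dvd_of_dvd hpd), Nat.div_div_self hpd (orderOf_pos z).ne']
  obtain ⟨P, hP⟩ := (IsPGroup.of_card (n := 1) (by rw [Nat.card_zpowers, hwo, pow_one]) :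
    IsPGroup p (Subgroup.zpowers w)).exists_le_sylow
  have := CfsgLib.Solv.eq_one_of_abelian_hall (h p hp P) (CfsgLib.Solv.abelian_sylow_coprime P)
    (hP (Subgroup.mem_zpowers w)) (pow_mem h2 _) (pow_mem h1 _)
  rw [this, orderOf_one] at hwo
  exact hp.ne_one hwo.symm

end Cfsg.Agent.S0089
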