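-- Statement S0090
import Cfsg.Statements.S0090
import Cfsg.Agent.Solv.TransferTools
import Mathlib.GroupTheory.SchurZassenhaus

set_option autoImplicit false
open Cfsg
open scoped commutatorElement Pointwise
set_option linter.style.haveILetI false
set_option linter.deprecated false
set_option linter.unusedVariables false

namespace Cfsg.Agent.S0090

/-- An abelian normal Hall subgroup A splits as the internal direct product of G' ∩ A and Z(G) ∩ A, and [A, G] = G' ∩ A. -/
theorem result {G : Type*} [Group G] [Finite G] (A : Subgroup G) [A.Normal] (hc : IsMulCommutative A) (hHall : Nat.Coprime (Nat.card A) A.index) : ⁅A, (⊤ : Subgroup G)⁆ = commutator G ⊓ A ∧ (commutator G ⊓ A) ⊓ (Subgroup.center G ⊓ A) = ⊥ ∧ (commutator G ⊓ A) ⊔ (Subgroup.center G ⊓ A) = A := by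
  obtain ⟨K, hK⟩ := Subgroup.exists_right_complement'_of_coprime (N := A) hHall
  have hKA : K ≤ Subgroup.normalizer (A : Set G) := by
    rw [Subgroup.normalizer_eq_top]; exact le_top
  have hcop : (Nat.card K).Coprime (Nat.card A) := by
    rw [← hK.symm.index_eq_card]; exact hHall.symm
  have hsup := CfsgLib.Solv.abelian_fixed_sup_commutator hc hKA hcop
  have hle : ⁅A, (⊤ : Subgroup G)⁆ ≤ commutator G ⊓ A :=
    le_inf (Subgroup.commutator_mono le_top le_rfl) (Subgroup.commutator_le_left _ _)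
  have hdisj : (commutator G ⊓ A) ⊓ (Subgroup.center G ⊓ A) = ⊥ := by
    rw [eq_bot_iff]
    intro z hz
    obtain ⟨h12, h34⟩ := Subgroup.mem_inf.1 hz
    obtain ⟨h1, h2⟩ := Subgroup.mem_inf.1 h12
    exact CfsgLib.Solv.eq_one_of_abelian_hall hc hHall h2 (Subgroup.mem_inf.1 h34).1 h1
  have hfix : A ⊓ Subgroup.centralizer (K : Set G) ≤ Subgroup.center G ⊓ A := by
    intro z hz
    obtain ⟨hzA, hzK⟩ := Subgroup.mem_inf.1 hz
    refine Subgroup.mem_inf.2 ⟨Subgroup.mem_center_iff.2 fun g => ?_, hzA⟩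
    have hm : g ∈ ((A : Set G) * (K : Set G)) := by rw [hK.mul_eq]; trivial
    obtain ⟨a, ha, k, hk, rfl⟩ := hm
    have h1 := Subgroup.mem_centralizer_iff.1 hzK k hk
    have h2 := CfsgLib.Solv.commute_of_isMulCommutative ha hzA
    show a * k * z = z * (a * k)
    rw [mul_assoc, h1, ← mul_assoc, h2, mul_assoc]
  have hA : A ≤ ⁅A, (⊤ : Subgroup G)⁆ ⊔ (Subgroup.center G ⊓ A) := by
    conv_lhs => rw [← hsup]
    exact sup_le (hfix.trans le_sup_right) ((Subgroup.commutator_mono le_rfl le_top).trans le_sup_left)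
  refine ⟨le_antisymm hle fun x hx => ?_, hdisj,
    le_antisymm (sup_le inf_le_right inf_le_right) (hA.trans (sup_le_sup_right hle _))⟩
  obtain ⟨a, ha, b, hb, hab⟩ : ∃ a ∈ ⁅A, (⊤ : Subgroup G)⁆, ∃ b ∈ Subgroup.center G ⊓ A, a * b = x := by
    have := hA (Subgroup.mem_inf.1 hx).2
    rw [← SetLike.mem_coe, sup_comm, Subgroup.mul_normal] at this
    obtain ⟨b, hb, a, ha, e⟩ := this
    exact ⟨a, ha, b, hb, by rw [← e]; exact Subgroup.mem_center_iff.1 (Subgroup.mem_inf.1 hb).1 a⟩
  have hb1 : b ∈ (commutator G ⊓ A) ⊓ (Subgroup.center G ⊓ A) := by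
    refine Subgroup.mem_inf.2 ⟨?_, hb⟩
    have : b = a⁻¹ * x := by rw [← hab]; group
    rw [this]
    exact mul_mem (inv_mem (hle ha)) hx
  rw [hdisj, Subgroup.mem_bot] at hb1
  rw [← hab, hb1, mul_one]
  exact ha

end Cfsg.Agent.S0090
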