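-- Statement S0091
import Cfsg.Statements.S0091
import Cfsg.Agent.Solv.PComplement

set_option autoImplicit false
open Cfsg
open scoped commutatorElement Pointwise
set_option linter.style.haveILetI false
set_option linter.deprecated false

namespace Cfsg.Agent.S0091

/-- If a nontrivial Sylow p-subgroup controls its own fusion then it is not contained in the derived subgroup. -/
theorem result {G : Type*} [Group G] [Finite G] {p : ℕ} [Fact p.Prime] (P : Sylow p G) (hp : p ∣ Nat.card G) (h : ∀ x ∈ P, ∀ y ∈ P, (∃ g : G, g * x * g⁻¹ = y) → ∃ z ∈ P, z * x * z⁻¹ = y) : ¬ (P : Subgroup G) ≤ commutator G := by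
  intro hle
  have h1 := CfsgLib.Solv.commutator_inf_eq_of_control P (P : Subgroup G) le_rfl
    fun x hx g hg => h x hx _ hg ⟨g, rfl⟩
  rw [inf_eq_right.2 hle] at h1
  haveI := P.2.isNilpotent
  have hne : (P : Subgroup G) ≠ ⊥ := fun hb => by
    have := P.not_dvd_index
    rw [hb, Subgroup.index_bot] at this
    exact this hp
  haveI : Nontrivial (P : Subgroup G) := (Subgroup.nontrivial_iff_ne_bot _).2 hne
  have h2 := IsSolvable.commutator_lt_top_of_nontrivial (P : Subgroup G)
  refine h2.ne (top_le_iff.1 fun x _ => ?_)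
  have h3 : (x : G) ∈ ⁅(P : Subgroup G), (P : Subgroup G)⁆ :=
    (Subgroup.mem_inf.1 (h1 ▸ x.2 : (x : G) ∈ ⁅(P : Subgroup G), (P : Subgroup G)⁆ ⊓ (P : Subgroup G))).1
  rwa [← Subgroup.map_subtype_commutator,
    show (x : G) = (P : Subgroup G).subtype x from rfl,
    Subgroup.mem_map_iff_mem (Subgroup.subtype_injective _)] at h3

end Cfsg.Agent.S0091
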