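-- Statement S0094
import Cfsg.Statements.S0094
import Cfsg.Agent.Solv.PGroups

set_option autoImplicit false
open Cfsg
open scoped commutatorElement Pointwise
set_option linter.style.haveILetI false
set_option linter.deprecated false
set_option linter.unusedVariables false

namespace Cfsg.Agent.S0094

/-- In a special p-group every central element has order dividing p. -/
theorem result {P : Type*} [Group P] [Finite P] {p : ℕ} [Fact p.Prime] (h : Cfsg.IsSpecial p P) (z : P) (hz : z ∈ Subgroup.center P) : z ^ p = 1 := by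
  obtain ⟨hP, hf, hc⟩ := h
  have hg : ∀ x y : P, ⁅x, y⁆ ^ p = 1 := by
    intro x y
    have hcom : Commute ⁅x, y⁆ x := (Subgroup.mem_center_iff.1
      (hc ▸ Subgroup.commutator_mem_commutator (Subgroup.mem_top x) (Subgroup.mem_top y) :
        ⁅x, y⁆ ∈ Subgroup.center P) x).symm
    rw [← CfsgLib.Solv.pow_commutator_left hcom, commutatorElement_eq_one_iff_mul_comm]
    exact (Subgroup.mem_center_iff.1 (hf ▸ CfsgLib.Solv.pow_mem_frattini hP x :
      x ^ p ∈ Subgroup.center P) y).symm
  let O : Subgroup P :=
    { carrier := {x | x ∈ Subgroup.center P ∧ x ^ p = 1}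
      one_mem' := ⟨one_mem _, one_pow _⟩
      mul_mem' := fun {a b} ha hb => ⟨mul_mem ha.1 hb.1, by
        rw [Commute.mul_pow (Subgroup.mem_center_iff.1 hb.1 a), ha.2, hb.2, one_mul]⟩
      inv_mem' := fun {a} ha => ⟨inv_mem ha.1, by rw [inv_pow, ha.2, inv_one]⟩ }
  have hle : commutator P ≤ O := by
    rw [commutator_def, Subgroup.commutator_le]
    exact fun x _ y _ => ⟨hc ▸ Subgroup.commutator_mem_commutator (Subgroup.mem_top x) (Subgroup.mem_top y), hg x y⟩
  exact (hle (hc.symm ▸ hz)).2

end Cfsg.Agent.S0094
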