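-- Statement S0095
import Cfsg.Statements.S0095
import Cfsg.Agent.Solv.PGroups

set_option autoImplicit false
open Cfsg
open scoped commutatorElement Pointwise
set_option linter.style.haveILetI false
set_option linter.deprecated false
set_option linter.unusedVariables false

namespace Cfsg.Agent.S0095

/-- The order of an extraspecial p-group is an odd power p^(2n+1) of p with n ≥ 1. -/
theorem result {P : Type*} [Group P] [Finite P] {p : ℕ} [Fact p.Prime] (h : Cfsg.IsExtraspecial p P) : ∃ n : ℕ, 1 ≤ n ∧ Nat.card P = p ^ (2 * n + 1) := by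
  obtain ⟨⟨hP, hf, hc⟩, hZ⟩ := h
  obtain ⟨m, hm⟩ := CfsgLib.Solv.sympl_card _ P p rfl hZ hc.le
  refine ⟨m, Nat.one_le_iff_ne_zero.2 fun h0 => ?_, hm⟩
  subst h0
  rw [mul_zero, zero_add, pow_one] at hm
  have htop : Subgroup.center P = ⊤ := Subgroup.eq_top_of_card_eq _ (hZ.trans hm.symm)
  haveI : Nontrivial P := by
    rw [← Finite.one_lt_card_iff_nontrivial, hm]
    exact (Fact.out : p.Prime).one_lt
  haveI := hP.isNilpotent
  exact (IsSolvable.commutator_lt_top_of_nontrivial P).ne (hc.trans htop)

end Cfsg.Agent.S0095
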