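-- Statement S0097
import Cfsg.Statements.S0097
import Cfsg.Agent.Solv.PGroups

set_option autoImplicit false
open Cfsg
open scoped commutatorElement Pointwise
set_option linter.style.haveILetI false
set_option linter.deprecated false
set_option linter.unusedVariables false

namespace Cfsg.Agent.S0097

/-- For odd p and E extraspecial, the subgroup generated by the elements of order dividing p has exponent dividing p and index at most p. -/
theorem result {E : Type*} [Group E] [Finite E] {p : ℕ} [Fact p.Prime] (hp : p ≠ 2) (h : Cfsg.IsExtraspecial p E) : (Subgroup.closure {x : E | x ^ p = 1}).index ≤ p ∧ ∀ g ∈ Subgroup.closure {x : E | x ^ p = 1}, g ^ p = 1 := by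
  obtain ⟨⟨hP, hf, hc⟩, hZ⟩ := h
  let f : E →* Subgroup.center E :=
    { toFun := fun x => ⟨x ^ p, CfsgLib.Solv.sympl_pow_mem hZ hc.le x⟩
      map_one' := Subtype.ext (one_pow _)
      map_mul' := fun x y => Subtype.ext (CfsgLib.Solv.mul_pow_prime hp
        (CfsgLib.Solv.sympl_commute hc.le y x x) (CfsgLib.Solv.sympl_commute hc.le y x y)
        (CfsgLib.Solv.sympl_pow_commutator hZ hc.le y x)) }
  have hO : Subgroup.closure {x : E | x ^ p = 1} = f.ker := by
    refine le_antisymm ((Subgroup.closure_le _).2 fun x hx => Subtype.ext hx) fun x hx => ?_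
    exact Subgroup.subset_closure (congrArg Subtype.val (MonoidHom.mem_ker.1 hx))
  rw [hO]
  refine ⟨?_, fun g hg => congrArg Subtype.val (MonoidHom.mem_ker.1 hg)⟩
  rw [Subgroup.index_ker, ← hZ]
  exact Subgroup.card_le_card_group _

end Cfsg.Agent.S0097
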