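-- Statement S0098
import Cfsg.Statements.S0098
import Cfsg.Agent.Solv.Extraspecial

set_option autoImplicit false
open Cfsg
open scoped commutatorElement Pointwise
set_option linter.style.haveILetI false
set_option linter.deprecated false
set_option linter.unusedVariables false

namespace Cfsg.Agent.S0098

/-- For odd p, extraspecial p-groups of exponent p are determined up to isomorphism by their order. -/
theorem result {E₁ : Type*} {E₂ : Type*} [Group E₁] [Group E₂] [Finite E₁] [Finite E₂] {p : ℕ} [Fact p.Prime] (hp : p ≠ 2) (h₁ : Cfsg.IsExtraspecial p E₁) (h₂ : Cfsg.IsExtraspecial p E₂) (he₁ : Monoid.exponent E₁ = p) (he₂ : Monoid.exponent E₂ = p) (hc : Nat.card E₁ = Nat.card E₂) : Nonempty (E₁ ≃* E₂) := by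
  obtain ⟨⟨-, -, hc₁'⟩, hZ₁⟩ := h₁
  obtain ⟨⟨-, -, hc₂'⟩, hZ₂⟩ := h₂
  obtain ⟨z₁, hz₁, hz₁'⟩ := CfsgLib.Solv.exists_ne_one_of_card_prime hZ₁
  obtain ⟨z₂, hz₂, hz₂'⟩ := CfsgLib.Solv.exists_ne_one_of_card_prime hZ₂
  obtain ⟨φ, -⟩ := CfsgLib.Solv.sympl_exp_p_iso _ E₁ E₂ rfl hc.symm
    (fun x => he₁ ▸ Monoid.pow_exponent_eq_one x) (fun x => he₂ ▸ Monoid.pow_exponent_eq_one x)
    hZ₁ hc₁'.le hZ₂ hc₂'.le z₁ hz₁ hz₁' z₂ hz₂ hz₂'
  exact ⟨φ⟩

end Cfsg.Agent.S0098
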