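-- Statement S0099
import Cfsg.Statements.S0099
import Cfsg.Agent.Solv.Extraspecial

set_option autoImplicit false
open Cfsg
open scoped commutatorElement Pointwise
set_option linter.style.haveILetI false
set_option linter.deprecated false
set_option linter.unusedVariables false

namespace Cfsg.Agent.S0099

/-- Among three extraspecial 2-groups of equal order, some two are isomorphic. -/
theorem result {E₁ : Type*} {E₂ : Type*} {E₃ : Type*} [Group E₁] [Group E₂] [Group E₃] [Finite E₁] [Finite E₂] [Finite E₃] (h₁ : Cfsg.IsExtraspecial 2 E₁) (h₂ : Cfsg.IsExtraspecial 2 E₂) (h₃ : Cfsg.IsExtraspecial 2 E₃) (h12 : Nat.card E₁ = Nat.card E₂) (h23 : Nat.card E₂ = Nat.card E₃) : Nonempty (E₁ ≃* E₂) ∨ Nonempty (E₂ ≃* E₃) ∨ Nonempty (E₁ ≃* E₃) := by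
  obtain ⟨⟨-, -, hc₁'⟩, hZ₁⟩ := h₁
  obtain ⟨⟨-, -, hc₂'⟩, hZ₂⟩ := h₂
  obtain ⟨⟨-, -, hc₃'⟩, hZ₃⟩ := h₃
  obtain ⟨z₁, hz₁, hz₁'⟩ := CfsgLib.Solv.exists_ne_one_of_card_prime hZ₁
  obtain ⟨z₂, hz₂, hz₂'⟩ := CfsgLib.Solv.exists_ne_one_of_card_prime hZ₂
  obtain ⟨z₃, hz₃, hz₃'⟩ := CfsgLib.Solv.exists_ne_one_of_card_prime hZ₃
  rcases CfsgLib.Solv.sympl_two_three _ E₁ E₂ E₃ rfl h12.symm (h23.symm.trans h12.symm) hZ₁ hc₁'.le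
    hZ₂ hc₂'.le hZ₃ hc₃'.le z₁ hz₁ hz₁' z₂ hz₂ hz₂' z₃ hz₃ hz₃' with ⟨φ, -⟩ | ⟨φ, -⟩ | ⟨φ, -⟩
  · exact Or.inl ⟨φ⟩
  · exact Or.inr (Or.inl ⟨φ⟩)
  · exact Or.inr (Or.inr ⟨φ⟩)

end Cfsg.Agent.S0099
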