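import Cfsg.Statements.S0100
import Cfsg.Agent.OddLocal.SCN3

set_option autoImplicit false
open Cfsg

namespace Cfsg.Agent.S0100

/-- For odd p, a p-group without normal elementary abelian subgroups of order p^3 has p-rank at most 2. -/
theorem result {P : Type*} [Group P] [Finite P] {p : ℕ} [Fact p.Prime] (hp : p ≠ 2) (hP : IsPGroup p P) (h : ∀ A : Subgroup P, A.Normal → IsMulCommutative A → (∀ a ∈ A, a ^ p = 1) → Nat.card A ≠ p ^ 3) (E : Subgroup P) (hE : IsMulCommutative E) (hEe : ∀ e ∈ E, e ^ p = 1) : Nat.card E ≤ p ^ 2 := by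
  by_contra hgt
  have hr : ¬ Cfsg.PRankLE p 2 P := fun hr => hgt (hr E hE hEe)
  obtain ⟨A, hAn, hAc, -, hA⟩ := CfsgLib.OddLocal.SCN3.exists_scn3 hp hP hr
  simp only [Cfsg.PRankLE, not_forall, not_le] at hA
  obtain ⟨F, -, hFp, hFc⟩ := hA
  let O : Subgroup P :=
    { carrier := {x | x ∈ A ∧ x ^ p = 1}
      one_mem' := ⟨one_mem _, one_pow _⟩
      mul_mem' := fun {x y} hx hy => ⟨mul_mem hx.1 hy.1, by
        rw [(show Commute x y from congrArg Subtype.val (hAc.is_comm.comm ⟨x, hx.1⟩ ⟨y, hy.1⟩)).mul_pow, hx.2, hy.2,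
          one_mul]⟩
      inv_mem' := fun {x} hx => ⟨inv_mem hx.1, by rw [inv_pow, hx.2, inv_one]⟩ }
  haveI : O.Normal := ⟨fun x hx g => ⟨hAn.conj_mem x hx.1 g, by rw [conj_pow, hx.2, mul_one, mul_inv_cancel]⟩⟩
  have hFO : F.map A.subtype ≤ O := by
    rintro _ ⟨f, hf, rfl⟩
    exact ⟨f.2, congrArg Subtype.val (hFp f hf)⟩
  have h3 : p ^ 3 ≤ Nat.card O := by
    obtain ⟨j, hj⟩ := IsPGroup.iff_card.1 ((hP.to_subgroup A).to_subgroup F)
    rw [hj] at hFc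
    refine le_trans ?_ (Subgroup.card_le_of_le hFO)
    rw [Subgroup.card_map_of_injective A.subtype_injective, hj]
    exact Nat.pow_le_pow_right (Fact.out : p.Prime).pos ((Nat.pow_lt_pow_iff_right (Fact.out : p.Prime).one_lt).1 hFc)
  obtain ⟨M, hMn, hMO, hM⟩ := CfsgLib.Solv.exists_normal_le_card hP h3
  exact h M hMn ⟨⟨fun a b => Subtype.ext (congrArg Subtype.val
    (hAc.is_comm.comm ⟨(a : P), (hMO a.2).1⟩ ⟨(b : P), (hMO b.2).1⟩) :)⟩⟩ (fun a ha => (hMO ha).2) hM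

end Cfsg.Agent.S0100
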