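-- Statement S0101
import Cfsg.Statements.S0101
import Cfsg.Agent.Solv.TransferTools

set_option autoImplicit false
open Cfsg
open scoped commutatorElement Pointwise
set_option linter.style.haveILetI false
set_option linter.deprecated false
set_option linter.unusedVariables false

namespace Cfsg.Agent.S0101

/-- In a perfect central extension, the kernel meets each Sylow p-subgroup P inside the Frattini subgroup of P. -/
theorem result {H : Type*} {G : Type*} [Group H] [Group G] [Finite H] (σ : H →* G) (hσ : Function.Surjective σ) (hc : σ.ker ≤ Subgroup.center H) (hH : commutator H = ⊤) {p : ℕ} [Fact p.Prime] (P : Sylow p H) : σ.ker ⊓ (P : Subgroup H) ≤ (frattini P).map (P : Subgroup H).subtype := by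
  intro z hz
  obtain ⟨hzk, hzP⟩ := Subgroup.mem_inf.1 hz
  refine ⟨⟨z, hzP⟩, ?_, rfl⟩
  rw [SetLike.mem_coe, frattini, Order.radical]
  simp only [Subgroup.mem_iInf]
  intro M hM
  haveI := P.2.isNilpotent
  haveI hMn : M.Normal := Subgroup.NormalizerCondition.normal_of_coatom M
    Group.normalizerCondition_of_isNilpotent hM
  by_contra hzM
  have hcomm : ∀ a b : (P : Subgroup H) ⧸ M, a * b = b * a := by
    intro a b
    obtain ⟨x, rfl⟩ := QuotientGroup.mk_surjective a
    obtain ⟨y, rfl⟩ := QuotientGroup.mk_surjective b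
    have hz' : ∀ w : (P : Subgroup H), Commute (⟨z, hzP⟩ : (P : Subgroup H)) w := fun w =>
      Subtype.ext (Subgroup.mem_center_iff.1 (hc hzk) w).symm
    have htop : M ⊔ Subgroup.zpowers (⟨z, hzP⟩ : (P : Subgroup H)) = ⊤ := by
      refine hM.2 _ (lt_of_le_of_ne le_sup_left fun e => hzM ?_)
      rw [e]; exact Subgroup.mem_sup_right (Subgroup.mem_zpowers _)
    have key : ∀ x : (P : Subgroup H), ∃ i : ℤ,
        (x : (P : Subgroup H) ⧸ M) = ((⟨z, hzP⟩ : (P : Subgroup H)) : (P : Subgroup H) ⧸ M) ^ i := by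
      intro x
      have hx : x ∈ ((M : Set (P : Subgroup H)) * (Subgroup.zpowers (⟨z, hzP⟩ : (P : Subgroup H)) : Set _)) := by
        rw [← Subgroup.normal_mul, htop]; trivial
      obtain ⟨m, hm, w, ⟨i, rfl⟩, rfl⟩ := hx
      exact ⟨i, by rw [QuotientGroup.mk_mul, (QuotientGroup.eq_one_iff m).2 hm, one_mul, QuotientGroup.mk_zpow]⟩
    obtain ⟨i, hi⟩ := key x
    obtain ⟨j, hj⟩ := key y
    rw [hi, hj, ← zpow_add, ← zpow_add, add_comm]
  letI : CommGroup ((P : Subgroup H) ⧸ M) :=
    { (inferInstance : Group ((P : Subgroup H) ⧸ M)) with mul_comm := hcomm }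
  have h1 := CfsgLib.Solv.hom_eq_one_of_central (P : Subgroup H) (QuotientGroup.mk' M) hzP (hc hzk)
    (by rw [hH]; trivial) (Or.inl (CfsgLib.Solv.abelian_sylow_coprime P))
  exact hzM ((QuotientGroup.eq_one_iff _).1 h1)

end Cfsg.Agent.S0101
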