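-- Statement S0102
import Cfsg.Statements.S0102
import Cfsg.Agent.Solv.TransferTools

set_option autoImplicit false
open Cfsg
open scoped commutatorElement Pointwise
set_option linter.style.haveILetI false
set_option linter.deprecated false
set_option linter.unusedVariables false

namespace Cfsg.Agent.S0102

/-- A finite perfect group with cyclic Sylow p-subgroups has no perfect central extension whose kernel has order divisible by p. -/
theorem result {G : Type*} {H : Type*} [Group G] [Group H] [Finite G] [Finite H] (hG : commutator G = ⊤) {p : ℕ} [Fact p.Prime] (hcyc : ∀ P : Sylow p G, IsCyclic P) (σ : H →* G) (hσ : Function.Surjective σ) (hz : σ.ker ≤ Subgroup.center H) (hH : commutator H = ⊤) : ¬ p ∣ Nat.card σ.ker := by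
  intro hd
  obtain ⟨z, hz'⟩ := exists_prime_orderOf_dvd_card' (G := σ.ker) p hd
  have hzp : IsPGroup p (Subgroup.zpowers (z : H)) :=
    IsPGroup.of_card (n := 1) (by rw [Nat.card_zpowers, Subgroup.orderOf_coe, hz', pow_one])
  obtain ⟨P, hP⟩ := hzp.exists_le_sylow
  have hPc : IsMulCommutative (P : Subgroup H) := by
    let Q : Sylow p G := P.mapSurjective hσ
    haveI := hcyc Q
    obtain ⟨⟨q, hq⟩, hgen⟩ := IsCyclic.exists_generator (α := (Q : Subgroup G))
    have hq' := hq
    rw [Sylow.coe_mapSurjective] at hq'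
    obtain ⟨x, hx, hxq⟩ := hq'
    have key : ∀ y ∈ (P : Subgroup H), ∃ i : ℤ, ∃ c ∈ Subgroup.center H, y = x ^ i * c := by
      intro y hy
      obtain ⟨i, hi⟩ := hgen ⟨σ y, by rw [Sylow.coe_mapSurjective]; exact ⟨y, hy, rfl⟩⟩
      refine ⟨i, (x ^ i)⁻¹ * y, hz ?_, by group⟩
      rw [MonoidHom.mem_ker, map_mul, map_inv, map_zpow, hxq]
      have := congrArg Subtype.val hi
      simp only [SubgroupClass.coe_zpow] at this
      rw [this, inv_mul_cancel]
    refine ⟨⟨fun a b => Subtype.ext ?_⟩⟩
    obtain ⟨i, c, hc1, e1⟩ := key a a.2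
    obtain ⟨j, d, hd1, e2⟩ := key b b.2
    show (a : H) * b = b * a
    rw [e1, e2]
    have a1 : ∀ g, Commute g c := Subgroup.mem_center_iff.1 hc1
    have a2 : ∀ g, Commute g d := Subgroup.mem_center_iff.1 hd1
    exact (((Commute.zpow_zpow_self x i j).mul_right (a2 _)).mul_left ((a1 _).symm.mul_right (a1 d).symm)).eq
  have h1 := CfsgLib.Solv.eq_one_of_abelian_hall hPc (CfsgLib.Solv.abelian_sylow_coprime P)
    (hP (Subgroup.mem_zpowers _)) (hz z.2) (by rw [hH]; trivial)
  have : orderOf z = 1 := by rw [← Subgroup.orderOf_coe, h1, orderOf_one]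
  exact (Fact.out : p.Prime).ne_one (hz' ▸ this)

end Cfsg.Agent.S0102
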