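-- Statement S0103
import Cfsg.Statements.S0103
import Cfsg.Agent.Solv.Basic

set_option autoImplicit false
open Cfsg
open scoped commutatorElement Pointwise
set_option linter.style.haveILetI false
set_option linter.deprecated false

namespace Cfsg.Agent.S0103

/-- If a Sylow p-subgroup P intersects every distinct conjugate trivially, then its normalizer controls fusion in P. -/
theorem result {G : Type*} [Group G] [Finite G] {p : ℕ} [Fact p.Prime] (P : Sylow p G) (hTI : ∀ g : G, (P : Subgroup G).map (MulAut.conj g).toMonoidHom ≠ (P : Subgroup G) → (P : Subgroup G) ⊓ (P : Subgroup G).map (MulAut.conj g).toMonoidHom = ⊥) (x y : G) (hx : x ∈ P) (hy : y ∈ P) (hc : ∃ g : G, g * x * g⁻¹ = y) : ∃ n ∈ Subgroup.normalizer (P : Set G), n * x * n⁻¹ = y := by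
  obtain ⟨g, hg⟩ := hc
  by_cases hy1 : y = 1
  · subst hy1
    refine ⟨1, one_mem _, ?_⟩
    have : x = 1 := by
      have := congrArg (fun z => g⁻¹ * z * g) hg
      simpa [mul_assoc] using this
    simp [this]
  by_cases h : (P : Subgroup G).map (MulAut.conj g).toMonoidHom = (P : Subgroup G)
  · refine ⟨g, CfsgLib.Solv.mem_normalizer_of_conj_smul_eq ?_, hg⟩
    rw [CfsgLib.Solv.conj_smul_eq_map]; exact h
  · exfalso
    apply hy1
    have : y ∈ (P : Subgroup G) ⊓ (P : Subgroup G).map (MulAut.conj g).toMonoidHom :=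
      Subgroup.mem_inf.2 ⟨hy, ⟨x, hx, hg⟩⟩
    rwa [hTI g h, Subgroup.mem_bot] at this

end Cfsg.Agent.S0103
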