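-- Statement S0104
import Cfsg.Statements.S0104
import Cfsg.Agent.Solv.TransferTools

set_option autoImplicit false
open Cfsg
open scoped commutatorElement Pointwise
set_option linter.style.haveILetI false
set_option linter.deprecated false
set_option linter.unusedVariables false

namespace Cfsg.Agent.S0104

/-- A subgroup Z of a Sylow p-subgroup P that is normalized by N_G(P) is weakly closed in P exactly when it is normal in every Sylow p-subgroup containing it. -/
theorem result {G : Type*} [Group G] [Finite G] {p : ℕ} [Fact p.Prime] (P : Sylow p G) (Z : Subgroup G) (hZP : Z ≤ (P : Subgroup G)) (hZN : Subgroup.normalizer (P : Set G) ≤ Subgroup.normalizer (Z : Set G)) : Cfsg.IsWeaklyClosed Z P ↔ ∀ R : Sylow p G, Z ≤ (R : Subgroup G) → (R : Subgroup G) ≤ Subgroup.normalizer (Z : Set G) := by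
  have hPN : (P : Subgroup G) ≤ Subgroup.normalizer (Z : Set G) := Subgroup.le_normalizer.trans hZN
  constructor
  · intro hW R hR
    obtain ⟨g, rfl⟩ := MulAction.exists_smul_eq G P R
    have hle : Z.map (MulAut.conj g⁻¹).toMonoidHom ≤ (P : Subgroup G) := by
      rintro _ ⟨z, hz, rfl⟩
      have := hR hz
      rw [Sylow.coe_subgroup_smul, CfsgLib.Solv.mem_conj_smul_iff] at this
      simpa using this
    have hg : g⁻¹ ∈ Subgroup.normalizer (Z : Set G) := CfsgLib.Solv.mem_normalizer_of_conj_smul_eq
      (by rw [CfsgLib.Solv.conj_smul_eq_map]; exact hW.2 g⁻¹ hle)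
    intro x hx
    rw [Sylow.coe_subgroup_smul, CfsgLib.Solv.mem_conj_smul_iff] at hx
    have := mul_mem (mul_mem (inv_mem hg) (hPN hx)) hg
    simpa [mul_assoc] using this
  · intro h
    refine ⟨hZP, fun g hg => ?_⟩
    have hR : Z ≤ ((g⁻¹ • P : Sylow p G) : Subgroup G) := by
      intro z hz
      rw [Sylow.coe_subgroup_smul, CfsgLib.Solv.mem_conj_smul_iff, inv_inv]
      exact hg ⟨z, hz, rfl⟩
    have hRN := h _ hR
    obtain ⟨n, hn⟩ := MulAction.exists_smul_eq (Subgroup.normalizer (Z : Set G))
      (P.subtype hPN) ((g⁻¹ • P).subtype hRN)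
    rw [Sylow.smul_subtype] at hn
    have hn' := Sylow.subtype_injective hn
    rw [Subgroup.smul_def] at hn'
    have hgn : g * (n : G) ∈ Subgroup.normalizer (Z : Set G) :=
      hZN (Sylow.smul_eq_iff_mem_normalizer.1 (by rw [mul_smul, hn', smul_inv_smul]))
    have hg' : g ∈ Subgroup.normalizer (Z : Set G) := by
      have := mul_mem hgn (inv_mem n.2)
      simpa using this
    rw [← CfsgLib.Solv.conj_smul_eq_map]
    exact CfsgLib.Solv.conj_smul_eq_self_of_mem_normalizer hg'

end Cfsg.Agent.S0104
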