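-- Statement S0105
import Cfsg.Statements.S0105
import Cfsg.Agent.Solv.TransferTools
import Mathlib.GroupTheory.SchurZassenhaus
import Cfsg.Agent.Solv.CoprimeAction

set_option autoImplicit false
open Cfsg
open scoped commutatorElement Pointwise
set_option linter.style.haveILetI false
set_option linter.deprecated false
set_option linter.unusedVariables false

namespace Cfsg.Agent.S0105

/-- With an abelian Sylow p-subgroup P, some quotient of G is isomorphic to the part of P central in N_G(P). -/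
theorem result {G : Type*} [Group G] [Finite G] {p : ℕ} [Fact p.Prime] (P : Sylow p G) (hP : IsMulCommutative P) : ∃ (N : Subgroup G) (hN : N.Normal), Nonempty (G ⧸ N ≃* ((P : Subgroup G) ⊓ Subgroup.centralizer (Subgroup.normalizer (P : Set G) : Set G) : Subgroup G)) := by
  haveI hOn := CfsgLib.Inv.pResidual_normal p G
  set N := Subgroup.normalizer (P : Set G) with hN
  have hPN : (P : Subgroup G) ≤ N := fun x hx => Subgroup.le_normalizer hx
  have hco : (Nat.card (((P : Subgroup G).subgroupOf N))).Coprime (((P : Subgroup G).subgroupOf N)).index := by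
    rw [CfsgLib.Solv.card_subgroupOf hPN]
    exact (CfsgLib.Solv.abelian_sylow_coprime P).coprime_dvd_right
      (Subgroup.relIndex_dvd_index_of_le hPN)
  haveI : ((P : Subgroup G).subgroupOf N).Normal := Subgroup.normal_in_normalizer
  obtain ⟨A0, hA0⟩ := Subgroup.exists_right_complement'_of_coprime hco
  set A := A0.map N.subtype with hA
  have hAN : A ≤ N := Subgroup.map_subtype_le _
  have hcop : (Nat.card A).Coprime (Nat.card (P : Subgroup G)) := by
    rw [hA, CfsgLib.Solv.card_map_subtype, ← hA0.symm.index_eq_card,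
      ← CfsgLib.Solv.card_subgroupOf hPN]
    exact hco.symm
  have hdec : ∀ n ∈ N, ∃ s ∈ (P : Subgroup G), ∃ a ∈ A, n = s * a := by
    intro n hn
    have hm : (⟨n, hn⟩ : N) ∈ ((((P : Subgroup G).subgroupOf N) : Set N) * (A0 : Set N)) := by
      rw [hA0.mul_eq]; trivial
    obtain ⟨s, hs, a, ha, he⟩ := hm
    exact ⟨s, hs, a, ⟨a, ha, rfl⟩, (congrArg Subtype.val he).symm⟩
  have hcomm : ∀ {a b : G}, a ∈ P → b ∈ P → a * b = b * a := fun {a b} ha hb =>
    CfsgLib.Solv.commute_of_isMulCommutative (A := (P : Subgroup G)) ha hb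
  have hC : (P : Subgroup G) ⊓ Subgroup.centralizer (A : Set G) ≤
      (P : Subgroup G) ⊓ Subgroup.centralizer (N : Set G) := by
    intro z hz
    obtain ⟨hzP, hzA⟩ := Subgroup.mem_inf.1 hz
    refine Subgroup.mem_inf.2 ⟨hzP, Subgroup.mem_centralizer_iff.2 fun n hn => ?_⟩
    obtain ⟨s, hs, a, ha, rfl⟩ := hdec n hn
    rw [mul_assoc, Subgroup.mem_centralizer_iff.1 hzA a ha, ← mul_assoc, hcomm hs hzP, mul_assoc]
  have hPA : ⁅(P : Subgroup G), N⁆ ≤ ⁅(P : Subgroup G), A⁆ := by
    rw [Subgroup.commutator_le]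
    intro x hx n hn
    obtain ⟨s, hs, a, ha, rfl⟩ := hdec n hn
    have hxa : x * a * x⁻¹ * a⁻¹ ∈ (P : Subgroup G) := by
      have := (Subgroup.mem_normalizer_iff.1 (hAN ha) x⁻¹).1 (inv_mem hx)
      have h2 := mul_mem hx this
      simpa [mul_assoc] using h2
    have e : ⁅x, s * a⁆ = ⁅x, a⁆ := by
      simp only [commutatorElement_def, mul_inv_rev]
      calc x * (s * a) * x⁻¹ * (a⁻¹ * s⁻¹) = (x * s) * a * x⁻¹ * a⁻¹ * s⁻¹ := by group
        _ = (s * x) * a * x⁻¹ * a⁻¹ * s⁻¹ := by rw [hcomm hx hs]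
        _ = s * (x * a * x⁻¹ * a⁻¹) * s⁻¹ := by group
        _ = _ := by rw [hcomm hs hxa, mul_inv_cancel_right]
    rw [e]
    exact Subgroup.commutator_mem_commutator hx ha
  have hctrl := fun x hx g hg => CfsgLib.Solv.exists_normalizer_conj_of_abelian_sylow P hP (x := x) hx (g := g) hg
  have hPO : (P : Subgroup G) ⊓ Cfsg.pResidual p G ≤ ⁅(P : Subgroup G), A⁆ := by
    refine le_trans ?_ hPA
    have hker : Cfsg.pResidual p G ≤ (P : Subgroup G).transferFocal.ker := fun x hx =>
      CfsgLib.Solv.hom_pResidual_eq_one (P.2.to_quotient _)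
        ((P : Subgroup G).transferFocal.comp (Cfsg.pResidual p G).subtype) ⟨x, hx⟩
    refine le_trans (inf_le_inf_left _ hker) ?_
    rw [inf_comm, Subgroup.ker_transferFocal_inf_eq_focalSubgroup, Subgroup.focalSubgroup_def,
      Subgroup.closure_le]
    rintro _ ⟨hg, x, hx, u, rfl⟩
    have hxi : u * x⁻¹ * u⁻¹ ∈ (P : Subgroup G) := by
      have := mul_mem (inv_mem hx) hg
      simpa [commutatorElement_def, mul_assoc] using this
    obtain ⟨v, hv, he⟩ := hctrl x⁻¹ (inv_mem hx) u hxi
    have : ⁅x, u⁆ = ⁅x, v⁆ := by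
      simp only [commutatorElement_def]
      calc x * u * x⁻¹ * u⁻¹ = x * (u * x⁻¹ * u⁻¹) := by group
        _ = x * (v * x⁻¹ * v⁻¹) := by rw [he]
        _ = _ := by group
    rw [SetLike.mem_coe, this]
    exact Subgroup.commutator_mem_commutator hx hv
  set Z : Subgroup G := (P : Subgroup G) ⊓ Subgroup.centralizer (N : Set G) with hZ
  refine ⟨Cfsg.pResidual p G, hOn, ?_⟩
  let ι : Z →* G ⧸ Cfsg.pResidual p G := (QuotientGroup.mk' _).comp Z.subtype
  have hinj : Function.Injective ι := by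
    rw [injective_iff_map_eq_one]
    intro z hz
    have hzO : (z : G) ∈ Cfsg.pResidual p G := (QuotientGroup.eq_one_iff _).1 hz
    obtain ⟨hzP, hzN⟩ := Subgroup.mem_inf.1 z.2
    have h1 : (z : G) ∈ ((P : Subgroup G) ⊓ Subgroup.centralizer (A : Set G)) ⊓ ⁅(P : Subgroup G), A⁆ :=
      Subgroup.mem_inf.2 ⟨Subgroup.mem_inf.2 ⟨hzP, Subgroup.centralizer_le hAN hzN⟩,
        hPO (Subgroup.mem_inf.2 ⟨hzP, hzO⟩)⟩
    rw [CfsgLib.Solv.abelian_fixed_inf_commutator hP hAN hcop, Subgroup.mem_bot] at h1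
    exact Subtype.ext h1
  have hPA' : ⁅(P : Subgroup G), A⁆ ≤ Cfsg.pResidual p G := by
    rw [Subgroup.commutator_le]
    intro x _ a ha
    have hac : a ∈ Cfsg.pResidual p G := CfsgLib.Inv.mem_pResidual
      (Nat.Coprime.coprime_dvd_left (Subgroup.orderOf_dvd_natCard _ ha)
        (by
          obtain ⟨k, hk⟩ := IsPGroup.iff_card.1 P.2
          rw [hk] at hcop
          by_cases hk0 : k = 0
          · refine Nat.Coprime.symm ((Fact.out : p.Prime).coprime_iff_not_dvd.2 fun hd => P.not_dvd_index ?_)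
            rw [hA, CfsgLib.Solv.card_map_subtype] at hd
            exact hd.trans ((Subgroup.card_subgroup_dvd_card A0).trans (Subgroup.card_subgroup_dvd_card N) |>.trans
              (dvd_of_eq (by rw [← (P : Subgroup G).card_mul_index, hk, hk0, pow_zero, one_mul])))
          · exact (Nat.coprime_pow_right_iff (Nat.pos_of_ne_zero hk0) _ _).1 hcop))
    have := mul_mem (hOn.conj_mem _ hac x) (inv_mem hac)
    simpa [commutatorElement_def] using this
  have hsurj : Function.Surjective ι := by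
    intro q
    obtain ⟨g, rfl⟩ := QuotientGroup.mk_surjective q
    have hm : g ∈ (((P : Subgroup G) : Set G) * (Cfsg.pResidual p G : Set G)) := by
      rw [← Subgroup.mul_normal, CfsgLib.Solv.sylow_sup_pResidual P]; trivial
    obtain ⟨s, hs, k, hk, rfl⟩ := hm
    have hs' : s ∈ (((P : Subgroup G) ⊓ Subgroup.centralizer (A : Set G) ⊔ Cfsg.pResidual p G : Subgroup G) : Set G) := by
      refine (sup_le_sup_left hPA' _) ?_
      rw [CfsgLib.Solv.abelian_fixed_sup_commutator hP hAN hcop]
      exact hs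
    rw [Subgroup.mul_normal] at hs'
    obtain ⟨z, hz, k', hk', rfl⟩ := hs'
    refine ⟨⟨z, hC hz⟩, ?_⟩
    show (z : G ⧸ Cfsg.pResidual p G) = _
    rw [QuotientGroup.mk_mul, QuotientGroup.mk_mul, (QuotientGroup.eq_one_iff k).2 hk,
      (QuotientGroup.eq_one_iff k').2 hk', mul_one, mul_one]
  exact ⟨(MulEquiv.ofBijective ι ⟨hinj, hsurj⟩).symm⟩

end Cfsg.Agent.S0105
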