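import Cfsg.Statements.S0109
import Cfsg.Agent.Solv.ThompsonFactorStable
import Cfsg.Agent.Solv.FittingBasic
import Cfsg.Agent.Solv.PSolvableOfSolvable

set_option autoImplicit false
open Cfsg

namespace Cfsg.Agent.S0109

/-- The Thompson factorization Theorem for solvable groups states that, with p odd (and abelian Sylow 2-subgroups when p = 3) and no nontrivial normal subgroup of order prime to p, every element of G is a product of an element normalizing J(P) and an element centralizing the elements of order dividing p in the centre of P. -/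
theorem result {G : Type*} [Group G] [Finite G] {p : ℕ} [Fact p.Prime] (hp : p ≠ 2) (hs : Group.IsSolvable G) (h3 : p = 3 → ∀ T : Sylow 2 G, IsMulCommutative T) (hF : ∀ N : Subgroup G, N.Normal → Nat.Coprime (Nat.card N) p → N = ⊥) (P : Sylow p G) (g : G) : ∃ a ∈ Subgroup.normalizer (Cfsg.thompsonSubgroupOf p (P : Subgroup G) : Set G), ∃ c ∈ Subgroup.centralizer {x : G | x ∈ (P : Subgroup G) ∧ (∀ y ∈ (P : Subgroup G), x * y = y * x) ∧ x ^ p = 1}, g = a * c := by
  haveI := hs
  haveI := CfsgLib.Solv.pPrimeCore_normal (p := p) (G := G)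
  have hO : Cfsg.pPrimeCore p G = ⊥ := hF _ inferInstance (CfsgLib.Solv.pPrimeCore_coprime G p)
  have hst : Cfsg.IsActionPStable p G := by
    by_cases h : p = 3
    · exact CfsgLib.Solv.actionPStable_of_abelian_two hp (h3 h)
    · refine CfsgLib.Solv.actionPStable_of_pSolvable ?_ (CfsgLib.Solv.isPSolvable_of_isSolvable p G)
      have h2 := (Fact.out : p.Prime).two_le
      have : p ≠ 4 := fun e => by have := (Fact.out : p.Prime); rw [e] at this; norm_num at this
      omega
  obtain ⟨x, hx, c, hc, n, hn, e⟩ := CfsgLib.Solv.thompsonFactorizable_of_actionPStable hst hO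
    (CfsgLib.Solv.centralizer_pCore_le hO) P g⁻¹
  rw [hO, Subgroup.mem_bot] at hx
  rw [hx, one_mul] at e
  refine ⟨n⁻¹, inv_mem hn, c⁻¹, inv_mem (Subgroup.centralizer_le ?_ hc), by
    rw [← mul_inv_rev, ← e, inv_inv]⟩
  intro y hy
  exact Subgroup.subset_closure ⟨Subgroup.mem_inf.2 ⟨hy.1,
    Subgroup.mem_centralizer_iff.2 fun z hz => (hy.2.1 z hz).symm⟩, hy.2.2⟩

end Cfsg.Agent.S0109
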