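-- Statement S0110
import Cfsg.Statements.S0110
import Cfsg.Agent.Solv.PGroups

set_option autoImplicit false
open Cfsg
open scoped commutatorElement Pointwise
set_option linter.style.haveILetI false
set_option linter.deprecated false
set_option linter.unusedVariables false

namespace Cfsg.Agent.S0110

/-- In a p-group G, an extraspecial subgroup E with [G, E] ≤ Z(E) satisfies G = E C_G(E). -/
theorem result {G : Type*} [Group G] [Finite G] {p : ℕ} [Fact p.Prime] (hG : IsPGroup p G) (E : Subgroup G) (hE : Cfsg.IsExtraspecial p E) (h : ⁅(⊤ : Subgroup G), E⁆ ≤ E ⊓ Subgroup.centralizer (E : Set G)) : E ⊔ Subgroup.centralizer (E : Set G) = ⊤ := by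
  obtain ⟨⟨-, -, hc⟩, hZ⟩ := hE
  -- each element agrees with an element of `E` on `E`
  suffices key : ∀ (n : ℕ) (E : Subgroup G), Nat.card E = n → Nat.card (Subgroup.center E) = p →
      commutator E ≤ Subgroup.center E → ∀ g : G,
      (∀ e ∈ E, ⁅g, e⁆ ∈ E ⊓ Subgroup.centralizer (E : Set G)) →
      (∀ z ∈ E ⊓ Subgroup.centralizer (E : Set G), Commute g z) →
      g ∈ E ⊔ Subgroup.centralizer (E : Set G) by
    refine top_le_iff.1 fun g _ => key _ E rfl hZ hc.le g
      (fun e he => h (Subgroup.commutator_mem_commutator (Subgroup.mem_top g) he)) ?_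
    intro z hz
    set Z := E ⊓ Subgroup.centralizer (E : Set G) with hZdef
    have hzn : Z.Normal := by
      refine ⟨fun w hw g => ?_⟩
      have e : g * w * g⁻¹ = ⁅g, w⁆ * w := by simp [commutatorElement_def, mul_assoc]
      rw [e]
      exact mul_mem (h (Subgroup.commutator_mem_commutator (Subgroup.mem_top g) (Subgroup.mem_inf.1 hw).1)) hw
    have hcard : Nat.card Z = p := by
      rw [← hZ]
      refine Nat.card_congr
        { toFun := fun w => ⟨⟨(w : G), (Subgroup.mem_inf.1 w.2).1⟩, Subgroup.mem_center_iff.2 fun e =>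
            Subtype.ext (Subgroup.mem_centralizer_iff.1 (Subgroup.mem_inf.1 w.2).2 e e.2)⟩
          invFun := fun w => ⟨((w : E) : G), Subgroup.mem_inf.2 ⟨(w : E).2,
            Subgroup.mem_centralizer_iff.2 fun e he =>
              congrArg Subtype.val (Subgroup.mem_center_iff.1 w.2 ⟨e, he⟩)⟩⟩
          left_inv := fun w => rfl
          right_inv := fun w => rfl }
    have h1 := CfsgLib.Perm.inf_center_ne_bot hG Z (fun e => by
      rw [e, Subgroup.card_bot] at hcard; exact (Fact.out : p.Prime).ne_one hcard.symm)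
    have h2' : Z ≤ Subgroup.center G := by
      obtain ⟨⟨w, hw⟩, hw1⟩ := Subgroup.ne_bot_iff_exists_ne_one.1 h1
      intro v hv
      obtain ⟨i, -, rfl⟩ := CfsgLib.Solv.exists_pow_eq_of_mem hcard (Subgroup.mem_inf.1 hw).1
        (fun e => hw1 (Subtype.ext e)) hv
      exact pow_mem (Subgroup.mem_inf.1 hw).2 i
    exact Subgroup.mem_center_iff.1 (h2' hz) g
  clear h hc hZ E
  intro n
  induction n using Nat.strong_induction_on with
  | _ n ih =>
    intro E hn hZ h2 g hg hgz
    by_cases htop : Subgroup.center E = ⊤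
    · refine Subgroup.mem_sup_right (Subgroup.mem_centralizer_iff.2 fun e he => (hgz e ?_).eq.symm)
      refine Subgroup.mem_inf.2 ⟨he, Subgroup.mem_centralizer_iff.2 fun f hf => ?_⟩
      exact congrArg Subtype.val (Subgroup.mem_center_iff.1 (htop ▸ Subgroup.mem_top (⟨e, he⟩ : E)) ⟨f, hf⟩)
    obtain ⟨x, -, hx⟩ := SetLike.exists_of_lt (lt_top_iff_ne_top.2 htop)
    obtain ⟨y₀, hy₀⟩ : ∃ y : E, ⁅x, y⁆ ≠ 1 := by
      by_contra hne
      push Not at hne
      exact hx (Subgroup.mem_center_iff.2 fun f => (commutatorElement_eq_one_iff_mul_comm.1 (hne f)).symm)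
    set y := y₀
    have hxyZ : ⁅x, y⁆ ∈ Subgroup.center E :=
      h2 (Subgroup.commutator_mem_commutator (Subgroup.mem_top x) (Subgroup.mem_top y))
    have inZ : ∀ e : E, ∀ w : G, ∀ hw : w ∈ E ⊓ Subgroup.centralizer (E : Set G),
        ∃ i : ℕ, ((⁅x, y⁆ : E) : G) ^ i = w := by
      intro _ w hw
      obtain ⟨i, -, hi⟩ := CfsgLib.Solv.exists_pow_eq_of_mem hZ hxyZ hy₀ (h := ⟨w, (Subgroup.mem_inf.1 hw).1⟩)
        (Subgroup.mem_center_iff.2 fun e => Subtype.ext
          (Subgroup.mem_centralizer_iff.1 (Subgroup.mem_inf.1 hw).2 e e.2))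
      exact ⟨i, congrArg Subtype.val hi⟩
    obtain ⟨i, hi⟩ := inZ x _ (hg y y.2)
    obtain ⟨j, hj⟩ := inZ x _ (hg x x.2)
    -- `t` acts on `x` and `y` as `g` does
    set t : E := x ^ i * (y ^ j)⁻¹ with ht
    have hcx : ∀ a b c : E, Commute ⁅a, b⁆ c := fun a b c => CfsgLib.Solv.sympl_commute h2 a b c
    have htx : ⁅t, x⁆ = ⁅x, y⁆ ^ j := by
      have h1 : ⁅x, (y ^ j)⁻¹⁆ = (⁅x, y⁆ ^ j)⁻¹ := by
        have e : ⁅x, (y ^ j)⁻¹⁆ = (y ^ j)⁻¹ * ⁅x, y ^ j⁆⁻¹ * (y ^ j) := by simp [commutatorElement_def, mul_assoc]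
        rw [e, CfsgLib.Solv.pow_commutator_right (hcx x y y)]
        have h3 : Commute ((⁅x, y⁆ ^ j)⁻¹) (y ^ j) := ((hcx x y (y ^ j)).pow_left j).inv_left
        rw [mul_assoc, h3.eq, inv_mul_cancel_left]
      have e2 : ⁅t, x⁆ = x ^ i * ⁅(y ^ j)⁻¹, x⁆ * (x ^ i)⁻¹ := by
        rw [ht]; simp [commutatorElement_def, mul_assoc]; exact (Commute.self_pow x i).inv_inv.symm.eq
      rw [e2, ← commutatorElement_inv x, h1, inv_inv, ← ((hcx x y (x ^ i)).pow_left j).eq, mul_inv_cancel_right]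
    have hty : ⁅t, y⁆ = ⁅x, y⁆ ^ i := by
      rw [← CfsgLib.Solv.pow_commutator_left (hcx x y x)]
      have h3 : (y ^ j)⁻¹ * y * y ^ j = y := by
        rw [(Commute.self_pow y j).symm.inv_left.eq, mul_assoc, inv_mul_cancel, mul_one]
      calc ⁅t, y⁆ = x ^ i * ((y ^ j)⁻¹ * y * y ^ j) * (x ^ i)⁻¹ * y⁻¹ := by
            rw [ht]; simp [commutatorElement_def, mul_assoc]
        _ = ⁅x ^ i, y⁆ := by rw [h3, commutatorElement_def]
    set g' : G := ((t : E) : G)⁻¹ * g with hg'
    have hg'_comm : ∀ a : E, ((⁅t, a⁆ : E) : G) = ⁅g, (a : G)⁆ → Commute g' a := by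
      intro a ha
      show (t : G)⁻¹ * g * a = a * ((t : G)⁻¹ * g)
      have h4 : g * a * g⁻¹ = (t : G) * a * (t : G)⁻¹ := by
        have h5 : ((⁅t, a⁆ : E) : G) = ⁅(t : G), (a : G)⁆ := map_commutatorElement E.subtype t a
        rw [h5] at ha
        have := congrArg (· * (a : G)) ha
        simpa [commutatorElement_def, mul_assoc] using this.symm
      calc (t : G)⁻¹ * g * a = (t : G)⁻¹ * (g * a * g⁻¹) * g := by group
        _ = (t : G)⁻¹ * ((t : G) * a * (t : G)⁻¹) * g := by rw [h4]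
        _ = _ := by group
    have hgx : Commute g' x := hg'_comm x (by rw [htx, SubgroupClass.coe_pow, hj])
    have hgy : Commute g' y := hg'_comm y (by rw [hty, SubgroupClass.coe_pow, hi])
    -- the centraliser of the pair inside `E`
    set D₀ := Subgroup.centralizer ({x, y} : Set E)
    set D := D₀.map E.subtype with hD
    obtain ⟨hZD, h2D⟩ := CfsgLib.Solv.sympl_centralizer hZ h2 hy₀
    have hk := CfsgLib.Solv.sympl_card_eq hZ h2 hy₀
    let eD : D₀ ≃* D := D₀.equivMapOfInjective E.subtype E.subtype_injective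
    have hZD' : Nat.card (Subgroup.center D) = p :=
      hZD ▸ (Nat.card_congr (Subgroup.centerCongr eD).toEquiv).symm
    have h2D' : commutator D ≤ Subgroup.center D := by
      rw [commutator_def, Subgroup.commutator_le]
      intro a _ b _
      refine Subgroup.mem_center_iff.2 fun c => eD.symm.injective ?_
      simp only [map_mul, map_commutatorElement]
      exact Subgroup.mem_center_iff.1
        (h2D (Subgroup.commutator_mem_commutator (Subgroup.mem_top _) (Subgroup.mem_top _))) _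
    have hDE : D ≤ E := Subgroup.map_subtype_le _
    have hDx : ∀ d ∈ D, Commute d (x : G) ∧ Commute d (y : G) := by
      rintro _ ⟨d, hd, rfl⟩
      exact ⟨(congrArg Subtype.val (Subgroup.mem_centralizer_iff.1 hd x (Or.inl rfl))).symm,
        (congrArg Subtype.val (Subgroup.mem_centralizer_iff.1 hd y (Or.inr rfl))).symm⟩
    have hgen : ∀ e : E, ∃ (a b : ℕ) (d : G), d ∈ D ∧ (e : G) = (x : G) ^ a * (y : G) ^ b * d := by
      intro e
      obtain ⟨a, -, b, -, d, hd, he⟩ := CfsgLib.Solv.sympl_decomp hZ h2 hy₀ e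
      exact ⟨a, b, (d : G), ⟨d, hd, rfl⟩, by rw [he]; simp⟩
    have hcent : ∀ w : G, Commute w x → Commute w y → (∀ d ∈ D, Commute w d) →
        w ∈ Subgroup.centralizer (E : Set G) := by
      intro w hwx hwy hwd
      refine Subgroup.mem_centralizer_iff.2 fun e he => ?_
      obtain ⟨a, b, d, hd, hed⟩ := hgen ⟨e, he⟩
      rw [show e = _ from hed]
      exact (((hwx.pow_right a).mul_right (hwy.pow_right b)).mul_right (hwd d hd)).eq.symm
    have hlt : Nat.card D < n := by
      rw [← hn, show Nat.card D = Nat.card D₀ from (Nat.card_congr eD.toEquiv).symm]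
      exact CfsgLib.Solv.card_lt_of_pair h2 (Fact.out : p.Prime).one_lt hk
    have hEZ : ∀ w ∈ E ⊓ Subgroup.centralizer (E : Set G), w ∈ D ⊓ Subgroup.centralizer (D : Set G) := by
      intro w hw
      obtain ⟨hwE, hwC⟩ := Subgroup.mem_inf.1 hw
      refine Subgroup.mem_inf.2 ⟨⟨⟨w, hwE⟩, Subgroup.mem_centralizer_iff.2 fun a _ => Subtype.ext
        (Subgroup.mem_centralizer_iff.1 hwC a a.2), rfl⟩, Subgroup.centralizer_le hDE hwC⟩
    have hDZ : ∀ w ∈ D ⊓ Subgroup.centralizer (D : Set G), w ∈ E ⊓ Subgroup.centralizer (E : Set G) := by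
      intro w hw
      obtain ⟨hwD, hwC⟩ := Subgroup.mem_inf.1 hw
      exact Subgroup.mem_inf.2 ⟨hDE hwD, hcent w (hDx w hwD).1 (hDx w hwD).2
        fun d hd => (Subgroup.mem_centralizer_iff.1 hwC d hd).symm⟩
    have hgz' : ∀ z ∈ D ⊓ Subgroup.centralizer (D : Set G), Commute g' z := fun z hz =>
      (Commute.inv_left (Subgroup.mem_centralizer_iff.1 (Subgroup.mem_inf.1 (hDZ z hz)).2 _ t.2)).mul_left
        (hgz z (hDZ z hz))
    have hg'D : ∀ d ∈ D, ⁅g', d⁆ ∈ D ⊓ Subgroup.centralizer (D : Set G) := by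
      intro d hd
      refine hEZ _ ?_
      have h6 : ⁅(t : G)⁻¹, d⁆ ∈ E ⊓ Subgroup.centralizer (E : Set G) := by
        have hz : ⁅t⁻¹, (⟨d, hDE hd⟩ : E)⁆ ∈ Subgroup.center E :=
          h2 (Subgroup.commutator_mem_commutator (Subgroup.mem_top _) (Subgroup.mem_top _))
        have h5 : ((⁅t⁻¹, (⟨d, hDE hd⟩ : E)⁆ : E) : G) = ⁅(t : G)⁻¹, d⁆ := map_commutatorElement E.subtype _ _
        rw [← h5]
        exact Subgroup.mem_inf.2 ⟨SetLike.coe_mem _, Subgroup.mem_centralizer_iff.2 fun e he =>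
          congrArg Subtype.val (Subgroup.mem_center_iff.1 hz ⟨e, he⟩)⟩
      have h7 := hg d (hDE hd)
      have e : ⁅g', d⁆ = (t : G)⁻¹ * ⁅g, d⁆ * (t : G) * ⁅(t : G)⁻¹, d⁆ := by
        rw [hg']; simp [commutatorElement_def, mul_assoc]
      rw [e]
      refine mul_mem ?_ h6
      rwa [mul_assoc, ← Subgroup.mem_centralizer_iff.1 (Subgroup.mem_inf.1 h7).2 _ t.2, inv_mul_cancel_left]
    have := ih _ hlt D rfl hZD' h2D' g' hg'D hgz'
    have hDN : (D ⊔ Subgroup.centralizer (D : Set G) : Subgroup G) = D ⊔ Subgroup.centralizer (D : Set G) := rfl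
    rw [← SetLike.mem_coe, Subgroup.coe_mul_of_right_le_normalizer_left D (Subgroup.centralizer (D : Set G))
      ((Subgroup.centralizer_le_normalizer _))] at this
    obtain ⟨d, hd, w, hw, he⟩ := this
    have hwC : w ∈ Subgroup.centralizer (E : Set G) := by
      have hw' : w = d⁻¹ * g' := by rw [← he]; group
      refine hcent w ?_ ?_ fun d' hd' => (Subgroup.mem_centralizer_iff.1 hw d' hd').symm
      · rw [hw']; exact (hDx d hd).1.inv_left.mul_left hgx
      · rw [hw']; exact (hDx d hd).2.inv_left.mul_left hgy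
    have hfin : g = ((t : G) * d) * w := by rw [mul_assoc, show d * w = g' from he, hg']; group
    rw [hfin]
    exact Subgroup.mul_mem_sup (mul_mem t.2 (hDE hd)) hwC

end Cfsg.Agent.S0110
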