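import Cfsg.Statements.S0118
import Cfsg.Agent.Inv.ZJApp

set_option autoImplicit false
open Cfsg

namespace Cfsg.Agent.S0118

/-- Glauberman's ZJ-Theorem, in the case of groups with no section isomorphic to SL(2,p), p odd: conjugation of subsets of a Sylow p-subgroup P inside P is always induced from the normalizer of Z(J(P)). -/
theorem result {G : Type*} [Group G] [Finite G] {p : ℕ} [Fact p.Prime] (hp : p ≠ 2) (hfree : ¬ ∃ (H K : Subgroup G) (hK : (K.subgroupOf H).Normal), Nonempty ((H ⧸ K.subgroupOf H) ≃* Matrix.SpecialLinearGroup (Fin 2) (ZMod p))) (P : Sylow p G) (A : Set G) (hA : A ⊆ (P : Set G)) (g : G) (hAg : (fun a => g⁻¹ * a * g) '' A ⊆ (P : Set G)) : ∃ n ∈ Subgroup.normalizer (Cfsg.centerThompsonOf p (P : Subgroup G) : Set G), ∀ a ∈ A, n⁻¹ * a * n = g⁻¹ * a * g := by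
  rw [CfsgLib.Inv.ZJ.centerThompsonOf_eq]
  have hst : Cfsg.IsNormalizerPStable p G := by
    by_contra h
    obtain ⟨Q, -, -, hinv⟩ := CfsgLib.Dickson.involves_sl2_of_qd (CfsgLib.Dickson.isSec_qd_of_not_stable hp h)
    obtain ⟨K, R, hR, hiso⟩ := CfsgLib.Dickson.involves_of_isSec (CfsgLib.Dickson.isSec_trans
      (A := G) ⟨_, MonoidHom.id _, Function.surjective_id⟩ (CfsgLib.Dickson.isSec_of_involves hinv))
    exact hfree ⟨K, R, hR, hiso⟩
  obtain ⟨x, hx, hxe⟩ := (CfsgLib.Inv.ZJ.controls_zJ (e := p) hp (Or.inr rfl) hst P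
    (CfsgLib.Inv.ZJ.stronglyClosed_self _) A hA).2 g⁻¹ (by
      simpa using hAg)
  refine ⟨x⁻¹, Subgroup.inv_mem _ hx, fun a ha => ?_⟩
  have h := hxe a ha
  rw [inv_inv] at h ⊢
  exact h.symm

end Cfsg.Agent.S0118
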