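-- Statement S0119
import Cfsg.Statements.S0119
import Cfsg.Agent.Solv.PGroups

set_option autoImplicit false
open Cfsg
open scoped commutatorElement Pointwise
set_option linter.style.haveILetI false
set_option linter.deprecated false
set_option linter.unusedVariables false

namespace Cfsg.Agent.S0119

/-- If a p'-group A of automorphisms of a p-group G satisfies G = [G, A] and acts trivially on every characteristic abelian subgroup, then G is special with centre equal to the fixed points of A. -/
theorem result {G : Type*} [Group G] [Finite G] {p : ℕ} [Fact p.Prime] (hG : IsPGroup p G) (A : Subgroup (MulAut G)) (hA : Nat.Coprime (Nat.card A) p) (hGA : Subgroup.closure {x : G | ∃ g : G, ∃ a ∈ A, x = g⁻¹ * a g} = ⊤) (hchar : ∀ H : Subgroup G, H.Characteristic → IsMulCommutative H → ∀ a ∈ A, ∀ h ∈ H, a h = h) : Cfsg.IsSpecial p G ∧ (∀ g : G, (g ∈ Subgroup.center G ↔ ∀ a ∈ A, a g = g)) := by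
  -- characteristic abelian subgroups are central
  have habC : ∀ H : Subgroup G, H.Characteristic → IsMulCommutative H → H ≤ Subgroup.center G := by
    intro H hH hHc
    haveI := hH
    intro h hh
    have hfix := hchar H hH hHc
    have hle : Subgroup.closure {x : G | ∃ g : G, ∃ a ∈ A, x = g⁻¹ * a g} ≤ Subgroup.centralizer (H : Set G) := by
      rw [Subgroup.closure_le]
      rintro _ ⟨g, a, ha, rfl⟩
      refine Subgroup.mem_centralizer_iff.2 fun w hw => ?_
      have hc : g * w * g⁻¹ ∈ H := (inferInstance : H.Normal).conj_mem w hw g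
      have h1 := hfix a ha _ hc
      rw [map_mul, map_mul, map_inv, hfix a ha w hw] at h1
      calc w * (g⁻¹ * a g) = g⁻¹ * (g * w * g⁻¹) * a g := by group
        _ = g⁻¹ * (a g * w * (a g)⁻¹) * a g := by rw [h1]
        _ = _ := by group
    rw [hGA] at hle
    exact Subgroup.mem_center_iff.2 fun g =>
      (Subgroup.mem_centralizer_iff.1 (hle (Subgroup.mem_top g)) h hh).symm
  -- the class is at most two
  have h2 : commutator G ≤ Subgroup.center G := by
    by_contra hne
    obtain ⟨x, hx, hxZ, hxp, hxg⟩ := CfsgLib.Solv.exists_central_mod hG hne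
    set K := commutator G ⊔ Subgroup.center G with hK
    haveI : K.Characteristic := by rw [hK]; infer_instance
    let W : Subgroup G :=
      { carrier := {w | w ∈ K ∧ ∀ g : G, ⁅w, g⁆ ∈ Subgroup.center G}
        one_mem' := ⟨one_mem _, fun g => by simp⟩
        mul_mem' := fun {a b} ha hb => ⟨mul_mem ha.1 hb.1, fun g => by
          have e : ⁅a * b, g⁆ = a * ⁅b, g⁆ * a⁻¹ * ⁅a, g⁆ := by simp [commutatorElement_def, mul_assoc]
          rw [e, Subgroup.mem_center_iff.1 (hb.2 g) a, mul_inv_cancel_right]
          exact mul_mem (hb.2 g) (ha.2 g)⟩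
        inv_mem' := fun {a} ha => ⟨inv_mem ha.1, fun g => by
          have e : ⁅a⁻¹, g⁆ = a⁻¹ * ⁅a, g⁆⁻¹ * a⁻¹⁻¹ := by simp [commutatorElement_def, mul_assoc]
          rw [e, Subgroup.mem_center_iff.1 (inv_mem (ha.2 g)) a⁻¹, mul_inv_cancel_right]
          exact inv_mem (ha.2 g)⟩ }
    haveI hWc : W.Characteristic := by
      refine Subgroup.characteristic_iff_map_le.2 fun e => ?_
      rintro _ ⟨w, ⟨hw1, hw2⟩, rfl⟩
      refine ⟨CfsgLib.Solv.map_mem_of_characteristic e hw1, fun g => ?_⟩
      show ⁅e w, g⁆ ∈ Subgroup.center G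
      obtain ⟨g', rfl⟩ := e.surjective g
      rw [← map_commutatorElement]
      exact CfsgLib.Solv.map_mem_of_characteristic e (hw2 g')
    -- commutators centralise the second centre
    have hcomm : ∀ w ∈ W, w ∈ Subgroup.centralizer (commutator G : Set G) := by
      intro w hw
      refine Subgroup.mem_centralizer_iff.2 fun c hc => ?_
      induction hc using Subgroup.closure_induction with
      | mem c hc =>
        obtain ⟨a, -, b, -, rfl⟩ := hc
        have conj : ∀ g : G, w * g * w⁻¹ = ⁅w, g⁆ * g := fun g => by simp [commutatorElement_def, mul_assoc]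
        have h3 : w * ⁅a, b⁆ * w⁻¹ = ⁅a, b⁆ := by
          have ha := hw.2 a
          have hb := hw.2 b
          have e : w * ⁅a, b⁆ * w⁻¹ = ⁅⁅w, a⁆ * a, ⁅w, b⁆ * b⁆ := by
            rw [← conj a, ← conj b]; simp [commutatorElement_def, mul_assoc]
          rw [e]
          have ca : ∀ g, Commute ⁅w, a⁆ g := fun g => (Subgroup.mem_center_iff.1 ha g).symm
          have cb : ∀ g, Commute ⁅w, b⁆ g := fun g => (Subgroup.mem_center_iff.1 hb g).symm
          set c := ⁅w, a⁆ with hc'
          set d := ⁅w, b⁆ with hd'
          have e1 : c * a * (d * b) = c * d * (a * b) := by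
            calc c * a * (d * b) = c * (a * d) * b := by group
              _ = c * (d * a) * b := by rw [(cb a).eq]
              _ = _ := by group
          have e2 : d * b * (c * a) = c * d * (b * a) := by
            calc d * b * (c * a) = d * (b * c) * a := by group
              _ = d * (c * b) * a := by rw [(ca b).eq]
              _ = (d * c) * (b * a) := by group
              _ = _ := by rw [(cb c).eq]
          calc ⁅c * a, d * b⁆ = c * a * (d * b) * (d * b * (c * a))⁻¹ := by
                simp [commutatorElement_def, mul_assoc]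
            _ = c * d * ⁅a, b⁆ * (c * d)⁻¹ := by rw [e1, e2]; simp [commutatorElement_def, mul_assoc]
            _ = ⁅a, b⁆ := by rw [((ca _).mul_left (cb _)).eq, mul_inv_cancel_right]
        rw [← mul_inv_eq_iff_eq_mul.1 h3]
      | one => simp
      | mul a b _ _ ha hb => exact (Commute.mul_left ha hb).eq
      | inv a _ ha => exact (Commute.inv_left ha).eq
    have hWab : IsMulCommutative W := by
      refine ⟨⟨fun u v => Subtype.ext ?_⟩⟩
      obtain hu := hcomm u u.2
      have hle : K ≤ Subgroup.centralizer ({(u : G)} : Set G) := by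
        rw [hK]
        refine sup_le (fun c hc => Subgroup.mem_centralizer_singleton_iff.2 (Subgroup.mem_centralizer_iff.1 hu c hc)) ?_
        exact Subgroup.center_le_centralizer _
      exact (Subgroup.mem_centralizer_singleton_iff.1 (hle v.2.1)).symm
    exact hxZ (habC W hWc hWab ⟨hx, hxg⟩)
  have hcz : ∀ x y g : G, Commute ⁅x, y⁆ g := fun x y g => CfsgLib.Solv.sympl_commute h2 x y g
  -- `p`-th powers are central
  have hpow : ∀ x : G, x ^ p ∈ Subgroup.center G := by
    by_contra hne
    push Not at hne
    -- smallest `e` with all `p ^ e`-th powers central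
    have hex : ∃ e, ∀ x : G, x ^ p ^ e ∈ Subgroup.center G := by
      obtain ⟨k, hk⟩ := IsPGroup.iff_card.1 hG
      exact ⟨k, fun x => by rw [← hk, pow_card_eq_one']; exact one_mem _⟩
    classical
    set e := Nat.find hex with he
    have hes := Nat.find_spec hex
    have he2 : 2 ≤ e := by
      by_contra hlt
      obtain ⟨x, hx⟩ := hne
      apply hx
      rcases (show e = 0 ∨ e = 1 by omega) with h | h
      · have := hes x
        rw [← he, h, pow_zero, pow_one] at this
        exact pow_mem this p
      · have := hes x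
        rwa [← he, h, pow_one] at this
    obtain ⟨x₀, hx₀⟩ : ∃ x : G, x ^ p ^ (e - 1) ∉ Subgroup.center G := by
      by_contra hall
      push Not at hall
      exact Nat.find_min hex (show e - 1 < Nat.find hex by omega) hall
    set H := Subgroup.closure (Set.range fun x : G => x ^ p ^ (e - 1)) with hH
    have hHc : H.Characteristic := by
      refine Subgroup.characteristic_iff_map_le.2 fun f => ?_
      rw [hH, MonoidHom.map_closure, Subgroup.closure_le]
      rintro _ ⟨_, ⟨x, rfl⟩, rfl⟩
      exact Subgroup.subset_closure ⟨f x, (map_pow f x _).symm⟩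
    have hHab : IsMulCommutative H := by
      rw [hH]
      refine Subgroup.isMulCommutative_closure ?_
      rintro _ ⟨x, rfl⟩ _ ⟨y, rfl⟩
      show Commute (x ^ p ^ (e - 1)) (y ^ p ^ (e - 1))
      refine commutatorElement_eq_one_iff_mul_comm.1 ?_
      rw [CfsgLib.Solv.pow_commutator_left (hcz x _ x), CfsgLib.Solv.pow_commutator_right (hcz x y y),
        ← pow_mul, ← pow_add, show e - 1 + (e - 1) = e + (e - 2) by omega, pow_add, pow_mul,
        ← CfsgLib.Solv.pow_commutator_left (hcz x y x),
        commutatorElement_eq_one_iff_mul_comm.2 (Subgroup.mem_center_iff.1 (hes x) y).symm, one_pow]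
    exact hx₀ (habC H hHc hHab (Subgroup.subset_closure ⟨x₀, rfl⟩))
  -- fixed points lie in the derived group
  have hZA : ∀ z ∈ Subgroup.center G, ∀ a ∈ A, a z = z := fun z hz a ha =>
    hchar _ inferInstance inferInstance a ha z hz
  have hCA : ∀ g : G, (∀ a ∈ A, a g = g) → g ∈ commutator G := by
    intro g hg
    classical
    haveI := Fintype.ofFinite A
    let q : G →* Abelianization G := Abelianization.of
    let φ : G →* Abelianization G :=
      { toFun := fun x => ∏ a : A, q ((a : MulAut G) x)
        map_one' := by simp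
        map_mul' := fun x y => by simp [Finset.prod_mul_distrib] }
    have hker : φ.ker = ⊤ := by
      rw [← top_le_iff, ← hGA, Subgroup.closure_le]
      rintro _ ⟨x, b, hb, rfl⟩
      rw [SetLike.mem_coe, MonoidHom.mem_ker, map_mul, map_inv, inv_mul_eq_one]
      exact Fintype.prod_equiv (Equiv.mulRight (⟨b, hb⟩ : A)⁻¹) _ _ fun a => by simp [MulAut.mul_apply]
    have h1 : q g ^ Nat.card A = 1 := by
      have h1 : φ g = 1 := MonoidHom.mem_ker.1 (hker ▸ Subgroup.mem_top g)
      have h3 : φ g = ∏ _a : A, q g := Finset.prod_congr rfl fun a _ => congrArg q (hg a a.2)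
      rw [h3, Finset.prod_const, Finset.card_univ] at h1
      rwa [Nat.card_eq_fintype_card]
    obtain ⟨k, hk⟩ := hG g
    have h4 : q g = 1 := orderOf_eq_one_iff.1 (Nat.eq_one_of_dvd_coprimes (hA.pow_right k)
      (orderOf_dvd_of_pow_eq_one h1) (orderOf_dvd_of_pow_eq_one (by rw [← map_pow, hk, map_one])))
    rw [← Abelianization.ker_of]
    exact h4
  have hZ : commutator G = Subgroup.center G := le_antisymm h2 fun z hz => hCA z (hZA z hz)
  refine ⟨⟨hG, le_antisymm ?_ ?_, hZ⟩, fun g => ⟨hZA g, fun hg => h2 (hCA g hg)⟩⟩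
  · exact CfsgLib.Solv.frattini_le_of_elementary _ hZ.le hpow
  · rw [← hZ]; exact CfsgLib.Solv.commutator_le_frattini hG

end Cfsg.Agent.S0119
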