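import Cfsg.Statements.S0123
import Cfsg.Agent.S4209
import Cfsg.Agent.Perm.PolySeq

set_option autoImplicit false
open Cfsg

namespace Cfsg.Agent.S0123

/-- For a p-group of small class relative to p (class ≤ 2 with p odd, or class ≤ 3 with p > 3) whose derived subgroup is generated by elements of order dividing p, the p-th power map is multiplicative. -/
theorem result {R : Type*} [Group R] [Finite R] {p : ℕ} [Fact p.Prime] (hR : IsPGroup p R) (hcl : (p ≠ 2 ∧ ⁅commutator R, (⊤ : Subgroup R)⁆ = ⊥) ∨ (3 < p ∧ ⁅⁅commutator R, (⊤ : Subgroup R)⁆, (⊤ : Subgroup R)⁆ = ⊥)) (hder : commutator R ≤ Subgroup.closure {x : R | x ^ p = 1}) (x y : R) : (x * y) ^ p = x ^ p * y ^ p := by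
  have hp' : p.Prime := Fact.out
  have h4 : (⊤ : Subgroup R).lowerCentralSeries (p - 1) = ⊥ := by
    rcases hcl with ⟨hp2, h⟩ | ⟨hp3, h⟩
    · have h2 : (⊤ : Subgroup R).lowerCentralSeries 2 = ⊥ := by
        rw [Subgroup.lowerCentralSeries_succ, Subgroup.lowerCentralSeries_succ, Subgroup.lowerCentralSeries_zero]
        exact h
      exact le_bot_iff.1 (h2 ▸ (⊤ : Subgroup R).lowerCentralSeries_antitone (by have := hp'.two_le; omega))
    · have h3 : (⊤ : Subgroup R).lowerCentralSeries 3 = ⊥ := by
        rw [Subgroup.lowerCentralSeries_succ, Subgroup.lowerCentralSeries_succ, Subgroup.lowerCentralSeries_succ,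
          Subgroup.lowerCentralSeries_zero]
        exact h
      exact le_bot_iff.1 (h3 ▸ (⊤ : Subgroup R).lowerCentralSeries_antitone (by omega))
  have hreg := Cfsg.Agent.S4209.result hR h4
  refine CfsgLib.Perm.PolySeq.mul_pow_prime hp' h4 (fun z hz => ?_) x y
  refine Subgroup.closure_induction (fun z hz => hz) (one_pow _) ?_ ?_ (hder hz)
  · intro a b _ _ ha hb
    have h := CfsgLib.Perm.RegularP.mul_pow_eq_one hreg 1 (a := a) (b := b) (by rwa [pow_one]) (by rwa [pow_one])
    rwa [pow_one] at h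
  · intro a _ ha
    rw [inv_pow, ha, inv_one]

end Cfsg.Agent.S0123
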