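import Cfsg.Statements.S0124
import Cfsg.Agent.S4209

set_option autoImplicit false
open Cfsg

namespace Cfsg.Agent.S0124

/-- For p > 3, in a p-group of class at most three the elements of order dividing p generate a subgroup of exponent dividing p. -/
theorem result {R : Type*} [Group R] [Finite R] {p : ℕ} [Fact p.Prime] (hp : 3 < p) (hR : IsPGroup p R) (hcl : ⁅⁅commutator R, (⊤ : Subgroup R)⁆, (⊤ : Subgroup R)⁆ = ⊥) (g : R) (hg : g ∈ Subgroup.closure {x : R | x ^ p = 1}) : g ^ p = 1 := by
  have hp' : p.Prime := Fact.out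
  have h3 : (⊤ : Subgroup R).lowerCentralSeries 3 = ⊥ := by
    rw [Subgroup.lowerCentralSeries_succ, Subgroup.lowerCentralSeries_succ, Subgroup.lowerCentralSeries_succ,
      Subgroup.lowerCentralSeries_zero]
    exact hcl
  have h4 : (⊤ : Subgroup R).lowerCentralSeries (p - 1) = ⊥ :=
    le_bot_iff.1 (h3 ▸ (⊤ : Subgroup R).lowerCentralSeries_antitone (by omega))
  have hreg := Cfsg.Agent.S4209.result hR h4
  refine Subgroup.closure_induction (fun z hz => hz) (one_pow _) ?_ ?_ hg
  · intro a b _ _ ha hb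
    have h := CfsgLib.Perm.RegularP.mul_pow_eq_one hreg 1 (a := a) (b := b) (by rwa [pow_one]) (by rwa [pow_one])
    rwa [pow_one] at h
  · intro a _ ha
    rw [inv_pow, ha, inv_one]

end Cfsg.Agent.S0124
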