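-- Statement S0125
import Cfsg.Statements.S0125
import Cfsg.Agent.Solv.TransferTools

set_option autoImplicit false
open Cfsg
open scoped commutatorElement Pointwise
set_option linter.style.haveILetI false
set_option linter.deprecated false
set_option linter.unusedVariables false

namespace Cfsg.Agent.S0125

/-- The centralizer of a self-centralizing normal subgroup A of a Sylow p-subgroup is the direct product of A with a normal p'-subgroup. -/
theorem result {G : Type*} [Group G] [Finite G] {p : ℕ} [Fact p.Prime] (R : Sylow p G) (A : Subgroup G) (hAR : A ≤ (R : Subgroup G)) (hAn : (R : Subgroup G) ≤ Subgroup.normalizer (A : Set G)) (hC : (R : Subgroup G) ⊓ Subgroup.centralizer (A : Set G) = A) : ∃ H : Subgroup G, H ≤ Subgroup.centralizer (A : Set G) ∧ Nat.Coprime (Nat.card H) p ∧ Subgroup.centralizer (A : Set G) ≤ Subgroup.normalizer (H : Set G) ∧ H ⊓ A = ⊥ ∧ H ⊔ A = Subgroup.centralizer (A : Set G) := by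
  set C := Subgroup.centralizer (A : Set G) with hCdef
  have hAC : A ≤ C := by rw [← hC]; exact inf_le_right
  have hRC : (R : Subgroup G) ≤ Subgroup.normalizer (C : Set G) :=
    CfsgLib.Solv.le_normalizer_iff_forall_conj_mem.2 fun g hg c hc => by
      refine Subgroup.mem_centralizer_iff.2 fun y hy => ?_
      have hy' : g⁻¹ * y * g ∈ A := by simpa using (Subgroup.mem_normalizer_iff.1 (inv_mem (hAn hg)) y).1 hy
      have h := congrArg (fun z => g * z * g⁻¹) (Subgroup.mem_centralizer_iff.1 hc _ hy')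
      simpa [mul_assoc] using h
  have hidx : ¬ p ∣ (A.subgroupOf C).index := by
    intro hd
    haveI : (C.subgroupOf ((R : Subgroup G) ⊔ C)).Normal :=
      Subgroup.normal_subgroupOf_of_le_normalizer (sup_le hRC Subgroup.le_normalizer)
    have h := CfsgLib.Solv.card_sup_mul_card_inf ((R : Subgroup G).subgroupOf ((R : Subgroup G) ⊔ C))
      (C.subgroupOf ((R : Subgroup G) ⊔ C))
    rw [← Subgroup.subgroupOf_sup le_sup_left le_sup_right, Subgroup.subgroupOf_self, Subgroup.card_top,
      show ((R : Subgroup G).subgroupOf ((R : Subgroup G) ⊔ C)) ⊓ (C.subgroupOf ((R : Subgroup G) ⊔ C)) = A.subgroupOf ((R : Subgroup G) ⊔ C) from (Subgroup.comap_inf _ _ _).symm.trans (congrArg (fun X => Subgroup.comap _ X) hC), CfsgLib.Solv.card_subgroupOf (hAC.trans le_sup_right),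
      CfsgLib.Solv.card_subgroupOf le_sup_left, CfsgLib.Solv.card_subgroupOf le_sup_right,
      ← CfsgLib.Solv.relIndex_mul_card (le_sup_left : (R : Subgroup G) ≤ (R : Subgroup G) ⊔ C),
      ← CfsgLib.Solv.relIndex_mul_card hAC] at h
    have h2 : (A.subgroupOf C).index = (R : Subgroup G).relIndex ((R : Subgroup G) ⊔ C) := by
      show A.relIndex C = _
      refine Nat.eq_of_mul_eq_mul_left (Nat.mul_pos (Nat.card_pos (α := (R : Subgroup G))) (Nat.card_pos (α := A))) ?_
      rw [mul_assoc, ← h]; ring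
    rw [h2] at hd
    exact R.not_dvd_index (hd.trans (Subgroup.relIndex_dvd_index_of_le le_sup_left))
  set S : Sylow p C := ((R.2.to_le hAR).comap_subtype (K := C)).toSylow hidx with hS
  have hn : Cfsg.HasNormalPComplement p C := by
    refine CfsgLib.Solv.hnpc_of_normalizer_le_centralizer S fun x _ => Subgroup.mem_centralizer_iff.2 fun y hy => ?_
    exact Subtype.ext (Subgroup.mem_centralizer_iff.1 x.2 y hy)
  set N := Cfsg.pResidual p C with hN
  have hc := CfsgLib.Solv.isComplement'_pResidual hn S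
  haveI := CfsgLib.Inv.pResidual_normal p C
  refine ⟨N.map C.subtype, Subgroup.map_subtype_le _, ?_, ?_, ?_, ?_⟩
  · rw [CfsgLib.Solv.card_map_subtype]
    exact Nat.Coprime.symm ((Fact.out : p.Prime).coprime_iff_not_dvd.2 (CfsgLib.Solv.hnpc_iff.1 hn))
  · intro c hc'
    refine Subgroup.mem_normalizer_iff.2 fun z => ⟨?_, fun hz => ?_⟩
    · rintro ⟨w, hw, rfl⟩
      exact ⟨⟨c, hc'⟩ * w * ⟨c, hc'⟩⁻¹, (inferInstance : N.Normal).conj_mem w hw _, rfl⟩
    · obtain ⟨w, hw, he⟩ := hz
      refine ⟨(⟨c, hc'⟩ : C)⁻¹ * w * (⟨c, hc'⟩ : C), ?_, ?_⟩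
      · have := (inferInstance : N.Normal).conj_mem w hw (⟨c, hc'⟩ : C)⁻¹
        rwa [inv_inv] at this
      · show c⁻¹ * C.subtype w * c = z
        rw [he]; group
  · rw [eq_bot_iff]
    intro z hz
    obtain ⟨⟨w, hw, rfl⟩, hzA⟩ := Subgroup.mem_inf.1 hz
    have : w ∈ N ⊓ (S : Subgroup C) := Subgroup.mem_inf.2 ⟨hw, hzA⟩
    rw [hc.disjoint.eq_bot, Subgroup.mem_bot] at this
    simp [this]
  · refine le_antisymm (sup_le (Subgroup.map_subtype_le _) hAC) fun z hz => ?_
    have hm : (⟨z, hz⟩ : C) ∈ ((N : Set C) * ((S : Subgroup C) : Set C)) := by rw [hc.mul_eq]; trivial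
    obtain ⟨n, hn', s, hs, he⟩ := hm
    rw [show z = ((n : C) : G) * (s : G) from (congrArg Subtype.val he).symm]
    exact Subgroup.mul_mem_sup ⟨n, hn', rfl⟩ hs

end Cfsg.Agent.S0125
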