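-- Statement S0127
import Cfsg.Statements.S0127
import Cfsg.Agent.Solv.PGroups

set_option autoImplicit false
open Cfsg
open scoped commutatorElement Pointwise
set_option linter.style.haveILetI false
set_option linter.deprecated false
set_option linter.unusedVariables false

namespace Cfsg.Agent.S0127

/-- For odd p, in a non-cyclic p-group with a cyclic subgroup of index p, the elements of order dividing p generate an elementary abelian subgroup of order p^2. -/
theorem result {R : Type*} [Group R] [Finite R] {p : ℕ} [Fact p.Prime] (hp : p ≠ 2) (hR : IsPGroup p R) (hnc : ¬ IsCyclic R) (C : Subgroup R) (hC : IsCyclic C) (hCi : C.index = p) : Cfsg.IsElementaryAbelian p (Subgroup.closure {x : R | x ^ p = 1}) ∧ Nat.card (Subgroup.closure {x : R | x ^ p = 1}) = p ^ 2 := by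
  obtain ⟨E, hEn, ⟨hEc, hEe⟩, hEcard⟩ := CfsgLib.Solv.exists_normal_rank_two _ R p hp rfl hR hnc
  haveI := hEn
  have hnle : ¬ E ≤ C := fun hle => by
    haveI := hC
    haveI : IsCyclic E := isCyclic_of_injective (Subgroup.inclusion hle) (Subgroup.inclusion_injective hle)
    obtain ⟨g, hg⟩ := IsCyclic.exists_generator (α := E)
    have h1 : orderOf g ∣ p := orderOf_dvd_of_pow_eq_one (Subtype.ext (hEe g g.2))
    rw [orderOf_eq_card_of_forall_mem_zpowers hg, hEcard] at h1
    exact absurd (Nat.le_of_dvd (Fact.out : p.Prime).pos h1)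
      (not_le.2 (by nlinarith [(Fact.out : p.Prime).one_lt]))
  haveI hCn : C.Normal := by
    haveI := hR.isNilpotent
    refine Subgroup.NormalizerCondition.normal_of_coatom C Group.normalizerCondition_of_isNilpotent
      ⟨fun h => ?_, fun L hL => ?_⟩
    · rw [h, Subgroup.index_top] at hCi; exact (Fact.out : p.Prime).one_lt.ne hCi
    · have h1 := Subgroup.relIndex_mul_index hL.le
      rw [hCi] at h1
      rcases (Nat.dvd_prime (Fact.out : p.Prime)).1 (h1 ▸ dvd_mul_left L.index (C.relIndex L)) with h | h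
      · exact Subgroup.index_eq_one.1 h
      · rw [h] at h1
        have : C.relIndex L = 1 := Nat.eq_of_mul_eq_mul_right (Fact.out : p.Prime).pos (h1.trans (one_mul p).symm)
        exact absurd (Subgroup.relIndex_eq_one.1 this) hL.not_ge
  have hdec : ∀ g : R, ∃ c ∈ C, ∃ e ∈ E, g = c * e := by
    intro g
    have htop : C ⊔ E = ⊤ := by
      by_contra hne
      have h2 := Subgroup.relIndex_mul_index (le_sup_left : C ≤ C ⊔ E)
      rw [hCi] at h2
      rcases (Nat.dvd_prime (Fact.out : p.Prime)).1 (h2 ▸ dvd_mul_left (C ⊔ E).index (C.relIndex (C ⊔ E))) with h | h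
      · exact hne (Subgroup.index_eq_one.1 h)
      · rw [h] at h2
        have : C.relIndex (C ⊔ E) = 1 := Nat.eq_of_mul_eq_mul_right (Fact.out : p.Prime).pos (h2.trans (one_mul p).symm)
        exact hnle (le_sup_right.trans (Subgroup.relIndex_eq_one.1 this))
    have : g ∈ ((C : Set R) * (E : Set R)) := by rw [← Subgroup.mul_normal, htop]; trivial
    obtain ⟨c, hc, e, he, rfl⟩ := this
    exact ⟨c, hc, e, he, rfl⟩
  have hcz : ∀ e ∈ E, ∀ c ∈ C, ∀ g : R, Commute ⁅e, c⁆ g := by
    intro e he c hc g
    have hz : ⁅e, c⁆ ∈ E ⊓ C := Subgroup.mem_inf.2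
      ⟨Subgroup.commutator_le_left E ⊤ (Subgroup.commutator_mem_commutator he (Subgroup.mem_top c)),
       Subgroup.commutator_le_right ⊤ C (Subgroup.commutator_mem_commutator (Subgroup.mem_top e) hc)⟩
    -- `E ∩ C` has order at most `p` and is normal, so central
    have hcard : Nat.card (E ⊓ C : Subgroup R) ≤ p := by
      obtain ⟨k, hk⟩ := IsPGroup.iff_card.1 (hR.to_subgroup (E ⊓ C))
      have hd := Subgroup.card_dvd_of_le (inf_le_left : E ⊓ C ≤ E)
      rw [hk, hEcard] at hd
      have hk2 : k ≤ 2 := (Nat.pow_dvd_pow_iff_le_right (Fact.out : p.Prime).one_lt).1 hd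
      rcases (show k ≤ 1 ∨ k = 2 by omega) with h | h
      · rw [hk]; exact (Nat.pow_le_pow_right (Fact.out : p.Prime).pos h).trans (pow_one p).le
      · exfalso
        refine hnle ?_
        rw [← inf_eq_left]
        exact Subgroup.eq_of_le_of_card_ge inf_le_left (by rw [hk, h, hEcard])
    by_cases h1 : ⁅e, c⁆ = 1
    · rw [h1]; exact Commute.one_left g
    have hb : (E ⊓ C : Subgroup R) ≠ ⊥ := fun h => h1 (Subgroup.mem_bot.1 (h ▸ hz))
    obtain ⟨⟨w, hw⟩, hw1⟩ := Subgroup.ne_bot_iff_exists_ne_one.1 (CfsgLib.Perm.inf_center_ne_bot hR (E ⊓ C) hb)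
    have hcard' : Nat.card (E ⊓ C : Subgroup R) = p := by
      obtain ⟨k, hk⟩ := IsPGroup.iff_card.1 (hR.to_subgroup (E ⊓ C))
      rcases Nat.eq_zero_or_pos k with h0 | h0
      · exact absurd (Subgroup.eq_bot_of_card_eq _ (by rw [hk, h0, pow_zero])) hb
      · exact le_antisymm hcard (hk ▸ Nat.le_self_pow h0.ne' p)
    obtain ⟨i, -, hi⟩ := CfsgLib.Solv.exists_pow_eq_of_mem hcard' (Subgroup.mem_inf.1 hw).1
      (fun h => hw1 (Subtype.ext h)) hz
    rw [← hi]
    exact (show Commute w g from (Subgroup.mem_center_iff.1 (Subgroup.mem_inf.1 hw).2 g).symm).pow_left i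
  have hsub : Subgroup.closure {x : R | x ^ p = 1} = E := by
    refine le_antisymm ((Subgroup.closure_le _).2 fun g hg => ?_) fun e he => Subgroup.subset_closure (hEe e he)
    obtain ⟨c, hc, e, he, rfl⟩ := hdec g
    have hd : ⁅e, c⁆ ^ p = 1 := by
      rw [← CfsgLib.Solv.pow_commutator_left (hcz e he c hc e), hEe e he, commutatorElement_one_left]
    have h2 : (c * e) ^ p = 1 := hg
    rw [CfsgLib.Solv.mul_pow_prime hp (hcz e he c hc c) (hcz e he c hc e) hd, hEe e he, mul_one] at h2
    -- `c` lies in the subgroup of order `p` of the cyclic group `C`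
    refine mul_mem ?_ he
    by_cases hc1 : c = 1
    · rw [hc1]; exact one_mem _
    by_contra hcE
    have hb : (E ⊓ C : Subgroup R) ≠ ⊥ := by
      intro hb
      have h3 : Nat.card E ≤ p := by
        rw [← hCi]
        have := Subgroup.relIndex_le_of_le_right (H := C) (le_top : E ≤ ⊤)
          (by rw [Subgroup.relIndex_top_right, hCi]; exact (Fact.out : p.Prime).ne_zero)
        rw [Subgroup.relIndex_top_right] at this
        refine le_trans (le_of_eq ?_) this
        rw [← Subgroup.inf_relIndex_right, inf_comm, hb, Subgroup.relIndex_bot_left]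
      rw [hEcard] at h3
      nlinarith [(Fact.out : p.Prime).one_lt]
    obtain ⟨⟨u, hu⟩, hu1⟩ := Subgroup.ne_bot_iff_exists_ne_one.1 hb
    obtain ⟨huE, huC⟩ := Subgroup.mem_inf.1 hu
    haveI := hC
    letI : CommGroup C := IsCyclic.commGroup
    have hroots : ∀ x : C, x ^ p = 1 → x ∈ Subgroup.zpowers (⟨u, huC⟩ : C) := by
      intro x hx
      have hu' : (⟨u, huC⟩ : C) ^ p = 1 := Subtype.ext (hEe u huE)
      have hne : (⟨u, huC⟩ : C) ≠ 1 := fun h => hu1 (Subtype.ext (congrArg Subtype.val h :))
      classical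
      haveI := Fintype.ofFinite C
      have h3 := IsCyclic.card_pow_eq_one_le (α := C) (Fact.out : p.Prime).pos
      have h4 : Finset.univ.filter (fun a : C => a ^ p = 1) =
          (Subgroup.zpowers (⟨u, huC⟩ : C) : Set C).toFinset := by
        refine (Finset.eq_of_subset_of_card_le (fun a ha => ?_) ?_).symm
        · rw [Set.mem_toFinset] at ha
          obtain ⟨i, rfl⟩ := ha
          simp only [Finset.mem_filter, Finset.mem_univ, true_and]
          rw [← zpow_natCast, ← zpow_mul, mul_comm, zpow_mul, zpow_natCast, hu', one_zpow]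
        · rw [Set.toFinset_card, ← Nat.card_eq_fintype_card]
          show _ ≤ Nat.card (Subgroup.zpowers (⟨u, huC⟩ : C))
          rw [Nat.card_zpowers, orderOf_eq_prime hu' hne]
          exact h3
      have : x ∈ Finset.univ.filter (fun a : C => a ^ p = 1) := by simp [hx]
      rw [h4, Set.mem_toFinset] at this
      exact this
    obtain ⟨i, hi⟩ := hroots ⟨c, hc⟩ (Subtype.ext h2)
    have hi' := congrArg Subtype.val hi
    simp only [SubgroupClass.coe_zpow] at hi'
    exact hcE (hi' ▸ zpow_mem huE i)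
  rw [hsub]
  exact ⟨⟨hEc, hEe⟩, hEcard⟩

end Cfsg.Agent.S0127
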