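-- Statement S0129
import Cfsg.Statements.S0129
import Cfsg.Agent.Solv.PGroups

set_option autoImplicit false
open Cfsg
open scoped commutatorElement Pointwise
set_option linter.style.haveILetI false
set_option linter.deprecated false
set_option linter.unusedVariables false

namespace Cfsg.Agent.S0129

/-- The order of a p-group is bounded by p^(a(a+1)/2) when it has a maximal normal abelian subgroup of order p^a. -/
theorem result {G : Type*} [Group G] [Finite G] {p : ℕ} [Fact p.Prime] (hG : IsPGroup p G) (A : Subgroup G) [A.Normal] (hA : IsMulCommutative A) (hmax : ∀ B : Subgroup G, B.Normal → IsMulCommutative B → A ≤ B → B = A) (a : ℕ) (ha : Nat.card A = p ^ a) : Nat.card G ≤ p ^ (a * (a + 1) / 2) := by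
  have hAC : Subgroup.centralizer (A : Set G) = A := by
    refine le_antisymm ?_ fun x hx => Subgroup.mem_centralizer_iff.2 fun y hy =>
      congrArg Subtype.val (hA.is_comm.comm ⟨y, hy⟩ ⟨x, hx⟩)
    by_contra hne
    obtain ⟨x, hx, hxA, -, hxg⟩ := CfsgLib.Solv.exists_central_mod hG (A := A) hne
    have hAC' : A ≤ Subgroup.centralizer (A : Set G) := fun x hx => Subgroup.mem_centralizer_iff.2 fun y hy =>
      congrArg Subtype.val (hA.is_comm.comm ⟨y, hy⟩ ⟨x, hx⟩)
    rw [sup_eq_left.2 hAC'] at hx
    set B := Subgroup.zpowers x ⊔ A with hB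
    have hBn : B.Normal := by
      refine ⟨fun b hb g => ?_⟩
      rw [← SetLike.mem_coe, hB, Subgroup.mul_normal] at hb
      obtain ⟨_, ⟨i, rfl⟩, a', ha', rfl⟩ := hb
      have hconj : g * x * g⁻¹ ∈ B := by
        rw [CfsgLib.Solv.conj_eq_commutator_mul, ← commutatorElement_inv x g]
        exact mul_mem (inv_mem (Subgroup.mem_sup_right (hxg g))) (Subgroup.mem_sup_left (Subgroup.mem_zpowers x))
      have e : g * (x ^ i * a') * g⁻¹ = (g * x * g⁻¹) ^ i * (g * a' * g⁻¹) := by rw [conj_zpow]; group
      show g * (x ^ i * a') * g⁻¹ ∈ B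
      rw [e]
      exact mul_mem (zpow_mem hconj i) (Subgroup.mem_sup_right ((inferInstance : A.Normal).conj_mem a' ha' g))
    have hBc : IsMulCommutative B := by
      have hle : B ≤ Subgroup.centralizer ((A : Set G) ∪ {x}) := by
        refine sup_le (Subgroup.zpowers_le.2 (Subgroup.mem_centralizer_iff.2 ?_)) fun a' ha' => Subgroup.mem_centralizer_iff.2 ?_
        · rintro y (hy | hy)
          · exact Subgroup.mem_centralizer_iff.1 hx y hy
          · rw [Set.mem_singleton_iff.1 hy]
        · rintro y (hy | hy)
          · exact congrArg Subtype.val (hA.is_comm.comm ⟨y, hy⟩ ⟨a', ha'⟩)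
          · rw [Set.mem_singleton_iff.1 hy]
            exact (Subgroup.mem_centralizer_iff.1 hx a' ha').symm
      refine ⟨⟨fun u v => Subtype.ext ?_⟩⟩
      have h3 : B ≤ Subgroup.centralizer ({(u : G)} : Set G) := by
        refine sup_le (Subgroup.zpowers_le.2 (Subgroup.mem_centralizer_singleton_iff.2 ?_)) fun a' ha' => Subgroup.mem_centralizer_singleton_iff.2 ?_
        · exact Subgroup.mem_centralizer_iff.1 (hle u.2) x (Or.inr rfl)
        · exact Subgroup.mem_centralizer_iff.1 (hle u.2) a' (Or.inl ha')
      exact (Subgroup.mem_centralizer_singleton_iff.1 (h3 v.2)).symm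
    exact hxA (hmax B hBn hBc le_sup_right ▸ Subgroup.mem_sup_left (Subgroup.mem_zpowers x))
  -- index of the centralizer of a normal subgroup of order `p ^ b` inside `A`
  have key : ∀ b, b ≤ a → ∃ B : Subgroup G, B.Normal ∧ B ≤ A ∧ Nat.card B = p ^ b ∧
      (Subgroup.centralizer (B : Set G)).index ≤ p ^ (b * (b - 1) / 2) := by
    intro b
    induction b with
    | zero =>
      intro _
      refine ⟨⊥, inferInstance, bot_le, by simp, ?_⟩
      rw [show Subgroup.centralizer ((⊥ : Subgroup G) : Set G) = ⊤ from
        top_le_iff.1 fun g _ => Subgroup.mem_centralizer_iff.2 fun y hy => by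
          rw [SetLike.mem_coe, Subgroup.mem_bot] at hy; simp [hy]]
      simp
    | succ b ih =>
      intro hba
      obtain ⟨B, hBn, hBA, hBc, hBi⟩ := ih (by omega)
      haveI := hBn
      have hnle : ¬ A ≤ B := fun h => by
        have := Subgroup.card_le_of_le h
        rw [ha, hBc] at this
        have := (Nat.pow_le_pow_iff_right (Fact.out : p.Prime).one_lt).1 this
        omega
      obtain ⟨x, hx, hxB, hxp, hxg⟩ := CfsgLib.Solv.exists_central_mod hG hnle
      rw [sup_eq_left.2 hBA] at hx
      set B' := Subgroup.zpowers x ⊔ B with hB'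
      have hB'n : B'.Normal := by
        refine ⟨fun l hl g => ?_⟩
        rw [← SetLike.mem_coe, hB', Subgroup.mul_normal] at hl
        obtain ⟨_, ⟨i, rfl⟩, m, hm, rfl⟩ := hl
        have hconj : g * x * g⁻¹ ∈ B' := by
          rw [CfsgLib.Solv.conj_eq_commutator_mul, ← commutatorElement_inv x g]
          exact mul_mem (inv_mem (Subgroup.mem_sup_right (hxg g))) (Subgroup.mem_sup_left (Subgroup.mem_zpowers x))
        have e : g * (x ^ i * m) * g⁻¹ = (g * x * g⁻¹) ^ i * (g * m * g⁻¹) := by rw [conj_zpow]; group
        show g * (x ^ i * m) * g⁻¹ ∈ B'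
        rw [e]
        exact mul_mem (zpow_mem hconj i) (Subgroup.mem_sup_right (hBn.conj_mem m hm g))
      refine ⟨B', hB'n, sup_le (Subgroup.zpowers_le.2 hx) hBA, ?_, ?_⟩
      · have h1 : Nat.card ((Subgroup.zpowers x).map (QuotientGroup.mk' B)) = p := by
          rw [MonoidHom.map_zpowers, Nat.card_zpowers]
          refine orderOf_eq_prime ?_ fun e => hxB ((QuotientGroup.eq_one_iff x).1 e)
          rw [← map_pow]; exact (QuotientGroup.eq_one_iff _).2 hxp
        have h2 : (Subgroup.zpowers x).map (QuotientGroup.mk' B) = B'.map (QuotientGroup.mk' B) := by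
          rw [hB', Subgroup.map_sup, QuotientGroup.map_mk'_self, sup_bot_eq]
        have h3 := CfsgLib.Solv.card_map_mk' B B'
        rw [← h2, h1, inf_eq_right.2 (show B ≤ B' from le_sup_right), hBc] at h3
        rw [← h3, pow_succ']
      · set D := Subgroup.centralizer (B : Set G) with hD
        set D' := Subgroup.centralizer (B' : Set G) with hD'
        have hle : D' ≤ D := Subgroup.centralizer_le (show (B : Set G) ⊆ B' from fun y hy => Subgroup.mem_sup_right hy)
        have hrel : D'.relIndex D ≤ p ^ b := by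
          rw [← hBc]
          let f : (D ⧸ D'.subgroupOf D) → B := Quotient.lift
            (fun d : D => (⟨⁅x, (d : G)⁆, hxg d⟩ : B)) (by
              intro d d' hdd
              have h1 : (d : G)⁻¹ * d' ∈ D' := (QuotientGroup.leftRel_apply (s := D'.subgroupOf D)).1 hdd
              apply Subtype.ext
              show ⁅x, (d : G)⁆ = ⁅x, (d' : G)⁆
              have h2 := Subgroup.mem_centralizer_iff.1 h1 x⁻¹ (inv_mem (Subgroup.mem_sup_left (Subgroup.mem_zpowers x)))
              simp only [commutatorElement_def]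
              calc x * (d : G) * x⁻¹ * (d : G)⁻¹
                  = x * (d : G) * (x⁻¹ * ((d : G)⁻¹ * d')) * (d' : G)⁻¹ := by group
                _ = x * (d : G) * (((d : G)⁻¹ * d') * x⁻¹) * (d' : G)⁻¹ := by rw [h2]
                _ = _ := by group)
          have hf : Function.Injective f := by
            rintro ⟨d⟩ ⟨d'⟩ he
            apply QuotientGroup.eq.2
            have he' : ⁅x, (d : G)⁆ = ⁅x, (d' : G)⁆ := congrArg Subtype.val he
            show (d : G)⁻¹ * d' ∈ D'
            refine Subgroup.mem_centralizer_iff.2 fun y hy => ?_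
            have hdd : (d : G)⁻¹ * d' ∈ D := mul_mem (inv_mem d.2) d'.2
            have hcx : Commute ((d : G)⁻¹ * d') x := by
              have e : (d : G) * x⁻¹ * (d : G)⁻¹ = (d' : G) * x⁻¹ * (d' : G)⁻¹ := by
                simpa [commutatorElement_def, mul_assoc] using he'
              have e3 : ((d : G)⁻¹ * d') * x⁻¹ = x⁻¹ * ((d : G)⁻¹ * d') := by
                calc (d : G)⁻¹ * d' * x⁻¹ = (d : G)⁻¹ * ((d' : G) * x⁻¹ * (d' : G)⁻¹) * d' := by group
                  _ = (d : G)⁻¹ * ((d : G) * x⁻¹ * (d : G)⁻¹) * d' := by rw [e]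
                  _ = _ := by group
              simpa using (show Commute ((d : G)⁻¹ * d') x⁻¹ from e3).inv_right
            have hy' : y ∈ ((Subgroup.zpowers x : Set G) * (B : Set G)) := by rw [← Subgroup.mul_normal]; exact hy
            obtain ⟨_, ⟨i, rfl⟩, m, hm, rfl⟩ := hy'
            exact ((hcx.zpow_right i).mul_right (Subgroup.mem_centralizer_iff.1 hdd m hm).symm).eq.symm
          exact Nat.card_le_card_of_injective f hf
        calc D'.index = D'.relIndex D * D.index := (Subgroup.relIndex_mul_index hle).symm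
          _ ≤ p ^ b * p ^ (b * (b - 1) / 2) := Nat.mul_le_mul hrel hBi
          _ = p ^ ((b + 1) * (b + 1 - 1) / 2) := by
            rw [← pow_add]
            congr 1
            rcases b with _ | c
            · simp
            · rw [show (c + 1 + 1) * (c + 1 + 1 - 1) = 2 * (c + 1) + (c + 1) * (c + 1 - 1) by
                simp only [Nat.add_sub_cancel]; ring, Nat.mul_add_div (by norm_num)]
  obtain ⟨B, hBn, hBA, hBc, hBi⟩ := key a le_rfl
  rw [Subgroup.eq_of_le_of_card_ge hBA (by rw [ha, hBc]), hAC] at hBi
  calc Nat.card G = Nat.card A * A.index := A.card_mul_index.symm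
    _ ≤ p ^ a * p ^ (a * (a - 1) / 2) := by rw [ha]; exact Nat.mul_le_mul le_rfl hBi
    _ = p ^ (a * (a + 1) / 2) := by
      rw [← pow_add]
      congr 1
      rcases a with _ | c
      · simp
      · rw [show (c + 1) * (c + 1 + 1) = 2 * (c + 1) + (c + 1) * (c + 1 - 1) by
          simp only [Nat.add_sub_cancel]; ring, Nat.mul_add_div (by norm_num)]

end Cfsg.Agent.S0129
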