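-- Statement S0130
import Cfsg.Statements.S0130
import Cfsg.Agent.Solv.PGroups

set_option autoImplicit false
open Cfsg
open scoped commutatorElement Pointwise
set_option linter.style.haveILetI false
set_option linter.deprecated false
set_option linter.unusedVariables false

namespace Cfsg.Agent.S0130

/-- If A is maximal among the normal abelian subgroups of exponent dividing p^n of a p-group (p^n ≠ 2), then A contains every element of order dividing p^n in its centralizer. -/
theorem result {G : Type*} [Group G] [Finite G] {p : ℕ} [Fact p.Prime] (hG : IsPGroup p G) (n : ℕ) (hn : p ^ n ≠ 2) (A : Subgroup G) [A.Normal] (hA : IsMulCommutative A) (hAe : ∀ a ∈ A, a ^ p ^ n = 1) (hmax : ∀ B : Subgroup G, B.Normal → IsMulCommutative B → (∀ b ∈ B, b ^ p ^ n = 1) → A ≤ B → B = A) (x : G) (hx : x ∈ Subgroup.centralizer (A : Set G)) (hxn : x ^ p ^ n = 1) : x ∈ A := by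
  have hp : p.Prime := Fact.out
  rcases Nat.eq_zero_or_pos n with hn0 | hn0
  · rw [hn0, pow_zero, pow_one] at hxn
    rw [hxn]; exact one_mem A
  set C := Subgroup.centralizer (A : Set G) with hC
  have hAC : A ≤ C := fun y hy => Subgroup.mem_centralizer_iff.2 fun z hz =>
    congrArg Subtype.val (hA.is_comm.comm ⟨z, hz⟩ ⟨y, hy⟩)
  haveI : Group.IsNilpotent (G ⧸ A) := (hG.to_quotient A).isNilpotent
  let L : ℕ → G → Prop := fun i y => (y : G ⧸ A) ∈ Subgroup.upperCentralSeries (G ⧸ A) i
  have hcomA : ∀ a ∈ A, ∀ c ∈ C, Commute c a := fun a ha c hc => (Subgroup.mem_centralizer_iff.1 hc a ha).symm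
  have hbase : ∀ y ∈ C, L 1 y → y ^ p ^ n = 1 → y ∈ A := by
    intro y hy h1 hyn
    set B := Subgroup.zpowers y ⊔ A with hB
    have hyg : ∀ g : G, ⁅y, g⁆ ∈ A := by
      intro g
      rw [← QuotientGroup.eq_one_iff]
      show QuotientGroup.mk' A ⁅y, g⁆ = 1
      rw [map_commutatorElement, commutatorElement_eq_one_iff_mul_comm]
      have h1' : (y : G ⧸ A) ∈ Subgroup.center (G ⧸ A) := by
        have h1'' := h1
        simp only [L, Subgroup.upperCentralSeries_one] at h1''
        exact h1''
      exact (Subgroup.mem_center_iff.1 h1' _).symm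
    have hmem : ∀ b ∈ B, ∃ i : ℤ, ∃ a ∈ A, b = y ^ i * a := by
      intro b hb
      rw [← SetLike.mem_coe, hB, Subgroup.mul_normal] at hb
      obtain ⟨_, ⟨i, rfl⟩, a', ha', rfl⟩ := hb
      exact ⟨i, a', ha', rfl⟩
    have hBn : B.Normal := by
      refine ⟨fun b hb g => ?_⟩
      obtain ⟨i, a', ha', rfl⟩ := hmem b hb
      have hconj : g * y * g⁻¹ ∈ B := by
        rw [CfsgLib.Solv.conj_eq_commutator_mul, ← commutatorElement_inv y g]
        exact mul_mem (inv_mem (Subgroup.mem_sup_right (hyg g))) (Subgroup.mem_sup_left (Subgroup.mem_zpowers y))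
      have e : g * (y ^ i * a') * g⁻¹ = (g * y * g⁻¹) ^ i * (g * a' * g⁻¹) := by rw [conj_zpow]; group
      rw [e]
      exact mul_mem (zpow_mem hconj i) (Subgroup.mem_sup_right ((inferInstance : A.Normal).conj_mem a' ha' g))
    have hBc : IsMulCommutative B := ⟨⟨fun u v => Subtype.ext (by
      obtain ⟨i, a1, ha1, e1⟩ := hmem u u.2
      obtain ⟨j, a2, ha2, e2⟩ := hmem v v.2
      show (u : G) * v = v * u
      rw [e1, e2]
      have c1 : Commute (y ^ i) a2 := (hcomA a2 ha2 y hy).zpow_left i
      have c2 : Commute a1 (y ^ j) := ((hcomA a1 ha1 y hy).zpow_left j).symm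
      have c3 : Commute a1 a2 := hcomA a2 ha2 a1 (hAC ha1)
      exact (((Commute.zpow_zpow_self y i j).mul_right c1).mul_left (c2.mul_right c3)).eq)⟩⟩
    have hBe : ∀ b ∈ B, b ^ p ^ n = 1 := by
      intro b hb
      obtain ⟨i, a', ha', rfl⟩ := hmem b hb
      rw [((hcomA a' ha' y hy).zpow_left i).mul_pow, hAe a' ha', mul_one, ← zpow_natCast, ← zpow_mul,
        mul_comm, zpow_mul, zpow_natCast, hyn, one_zpow]
    exact hmax B hBn hBc hBe le_sup_right ▸ Subgroup.mem_sup_left (Subgroup.mem_zpowers y)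
  have hmono : ∀ {i j : ℕ}, i ≤ j → ∀ {y : G}, L i y → L j y :=
    fun hij y h => Subgroup.upperCentralSeries_mono (G ⧸ A) hij h
  have hstep : ∀ {i : ℕ} {y : G}, L (i + 1) y → ∀ g : G, L i ⁅y, g⁆ := by
    intro i y h g
    have h2 := Subgroup.mem_upperCentralSeries_succ_iff.1 h (g : G ⧸ A)
    show (QuotientGroup.mk' A) ⁅y, g⁆ ∈ _
    rw [map_commutatorElement]
    simpa [commutatorElement_def] using h2
  have hCn : ∀ c ∈ C, ∀ g : G, g * c * g⁻¹ ∈ C := fun c hc g => (inferInstance : C.Normal).conj_mem c hc g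
  suffices key : ∀ i y, y ∈ C → L i y → y ^ p ^ n = 1 → y ∈ A by
    obtain ⟨m, hm⟩ := Group.IsNilpotent.nilpotent (G ⧸ A)
    exact key m x hx (by show (x : G ⧸ A) ∈ _; rw [hm]; trivial) hxn
  intro i
  induction i with
  | zero =>
    intro y _ h _
    rw [← QuotientGroup.eq_one_iff]
    simpa [L] using h
  | succ i ih =>
    -- first involutions when `p = 2`, then everything
    have reduce : ∀ y ∈ C, L (i + 1) y → y ^ p ^ n = 1 →
        (∀ c ∈ C, ⁅y, c⁆ ∈ A → L i c → ⁅y, c⁆ ^ (p ^ n).choose 2 = 1) → y ∈ A := by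
      intro y hy hL hyn hd
      have inner : ∀ j, ∀ w ∈ C, L j w → j ≤ i → ⁅y, w⁆ ∈ A := by
        intro j
        induction j with
        | zero =>
          intro w _ hw _
          have hwA : w ∈ A := (QuotientGroup.eq_one_iff w).1 (by simpa [L] using hw)
          rw [commutatorElement_eq_one_iff_mul_comm.2 (hcomA w hwA y hy).eq]; exact one_mem A
        | succ j ihj =>
          intro w hw hLw hji
          set c := ⁅y, w⁆ with hc
          have hcC : c ∈ C := mul_mem (mul_mem (mul_mem hy hw) (inv_mem hy)) (inv_mem hw)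
          have hLc : L j c := by
            rw [hc, ← commutatorElement_inv]
            exact inv_mem (hstep hLw y)
          have hyc : ⁅y, c⁆ ∈ A := ihj c hcC hLc (by omega)
          refine ih c hcC (hmono (by omega) hLc) ?_
          have hv : (y⁻¹ * c) ^ p ^ n = 1 := by
            have e : y⁻¹ * c = w * y⁻¹ * w⁻¹ := by simp [hc, commutatorElement_def, mul_assoc]
            rw [e, conj_pow, inv_pow, hyn, inv_one, mul_one, mul_inv_cancel]
          have hco : Commute ⁅y⁻¹ * c, y⁆ y ∧ Commute ⁅y⁻¹ * c, y⁆ (y⁻¹ * c) ∧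
              ⁅y⁻¹ * c, y⁆ ^ (p ^ n).choose 2 = 1 := by
            have e : ⁅y⁻¹ * c, y⁆ = y⁻¹ * ⁅y, c⁆⁻¹ * y := by simp [commutatorElement_def, mul_assoc]
            have hA' : ⁅y⁻¹ * c, y⁆ ∈ A := by
              rw [e]
              have := (inferInstance : A.Normal).conj_mem _ (inv_mem hyc) y⁻¹
              rwa [inv_inv] at this
            refine ⟨(hcomA _ hA' y hy).symm, (hcomA _ hA' _ (mul_mem (inv_mem hy) hcC)).symm, ?_⟩
            rw [e, mul_assoc, ← (hcomA _ (inv_mem hyc) y hy).eq, inv_mul_cancel_left, inv_pow,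
              hd c hcC hyc (hmono (by omega) hLc), inv_one]
          have h := CfsgLib.Solv.pow_mul_of_commutator (x := y) (y := y⁻¹ * c) hco.1 hco.2.1 (p ^ n)
          rw [hco.2.2, hyn, hv, one_mul, one_mul, mul_inv_cancel_left] at h
          exact h
      have hw : ∀ g : G, ⁅y, g⁆ ∈ A := by
        intro g
        set w := ⁅y, g⁆ with hw
        have hwC : w ∈ C := by
          have := mul_mem hy (hCn _ (inv_mem hy) g)
          simpa [hw, commutatorElement_def, mul_assoc] using this
        have hLw : L i w := hstep hL g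
        have hyw : ⁅y, w⁆ ∈ A := inner i w hwC hLw le_rfl
        refine ih w hwC hLw ?_
        have hv : (y⁻¹ * w) ^ p ^ n = 1 := by
          have e : y⁻¹ * w = g * y⁻¹ * g⁻¹ := by simp [hw, commutatorElement_def, mul_assoc]
          rw [e, conj_pow, inv_pow, hyn, inv_one, mul_one, mul_inv_cancel]
        have e : ⁅y⁻¹ * w, y⁆ = y⁻¹ * ⁅y, w⁆⁻¹ * y := by simp [commutatorElement_def, mul_assoc]
        have hA' : ⁅y⁻¹ * w, y⁆ ∈ A := by
          rw [e]
          have := (inferInstance : A.Normal).conj_mem _ (inv_mem hyw) y⁻¹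
          rwa [inv_inv] at this
        have h := CfsgLib.Solv.pow_mul_of_commutator (x := y) (y := y⁻¹ * w)
          (hcomA _ hA' y hy).symm (hcomA _ hA' _ (mul_mem (inv_mem hy) hwC)).symm (p ^ n)
        have hd' : ⁅y⁻¹ * w, y⁆ ^ (p ^ n).choose 2 = 1 := by
          rw [e, mul_assoc, ← (hcomA _ (inv_mem hyw) y hy).eq, inv_mul_cancel_left, inv_pow,
            hd w hwC hyw hLw, inv_one]
        rw [hd', hyn, hv, one_mul, one_mul, mul_inv_cancel_left] at h
        exact h
      refine hbase y hy ?_ hyn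
      show (y : G ⧸ A) ∈ _
      rw [Subgroup.upperCentralSeries_one, Subgroup.mem_center_iff]
      intro q
      obtain ⟨g, rfl⟩ := QuotientGroup.mk_surjective q
      have := (QuotientGroup.eq_one_iff (N := A) _).2 (hw g)
      exact (commutatorElement_eq_one_iff_mul_comm.1
        ((map_commutatorElement (QuotientGroup.mk' A) y g).symm.trans this)).symm
    intro y hy hL hyn
    by_cases hp2 : p = 2
    · subst hp2
      have hn2 : 2 ≤ n := by
        by_contra h
        exact hn (by rw [show n = 1 by omega, pow_one])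
      obtain ⟨m, rfl⟩ : ∃ m, n = m + 1 := ⟨n - 1, by omega⟩
      have hch : (2 ^ (m + 1)).choose 2 = 2 ^ m * (2 ^ (m + 1) - 1) := by
        rw [Nat.choose_two_right, pow_succ, mul_comm (2 ^ m) 2, mul_assoc, Nat.mul_div_cancel_left _ (by norm_num)]
      have hinv : ∀ u ∈ C, L (i + 1) u → u ^ 2 = 1 → u ∈ A := by
        intro u hu hLu hu2
        refine reduce u hu hLu (by rw [pow_succ', pow_mul, hu2, one_pow]) ?_
        intro c hc huc _
        have h2 : ⁅u, c⁆ ^ 2 = 1 := by
          rw [← CfsgLib.Solv.pow_commutator_left (hcomA _ huc u hu).symm, hu2, commutatorElement_one_left]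
        rw [hch, pow_mul, show 2 ^ m = 2 * 2 ^ (m - 1) by rw [← pow_succ']; congr 1; omega, pow_mul, h2, one_pow,
          one_pow]
      refine reduce y hy hL hyn ?_
      intro c hc hyc _
      rw [hch, pow_mul, ← CfsgLib.Solv.pow_commutator_left (hcomA _ hyc y hy).symm]
      have hu : y ^ 2 ^ m ∈ A := by
        refine hinv _ (pow_mem hy _) ?_ (by rw [← pow_mul, ← pow_succ]; exact hyn)
        show QuotientGroup.mk' A (y ^ 2 ^ m) ∈ _
        rw [map_pow]; exact pow_mem hL _
      rw [commutatorElement_eq_one_iff_mul_comm.2 (hcomA _ hu c hc).eq.symm, one_pow]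
    · refine reduce y hy hL hyn ?_
      intro c hc hyc _
      obtain ⟨t, ht⟩ : p ^ n ∣ (p ^ n).choose 2 := by
        rw [Nat.choose_two_right]
        have hodd : Odd (p ^ n) := (hp.odd_of_ne_two hp2).pow
        obtain ⟨s, hs⟩ := hodd
        refine ⟨s, ?_⟩
        rw [hs, show (2 * s + 1) * (2 * s + 1 - 1) = 2 * ((2 * s + 1) * s) by
          rw [Nat.add_sub_cancel]; ring, Nat.mul_div_cancel_left _ (by norm_num)]
      rw [ht, pow_mul, hAe _ hyc, one_pow]

end Cfsg.Agent.S0130
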