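-- Statement S0131
import Cfsg.Statements.S0131
import Cfsg.Agent.Solv.PComplement

set_option autoImplicit false
open Cfsg
open scoped commutatorElement Pointwise
set_option linter.style.haveILetI false
set_option linter.deprecated false

namespace Cfsg.Agent.S0131

/-- P/P' has a normal complement in G exactly when the focal subgroup G' ∩ P is as small as possible, namely P'. -/
theorem result {G : Type*} [Group G] [Finite G] {p : ℕ} [Fact p.Prime] (P : Sylow p G) : (∃ N : Subgroup G, N.Normal ∧ N ⊓ (P : Subgroup G) = ⁅(P : Subgroup G), (P : Subgroup G)⁆ ∧ N ⊔ (P : Subgroup G) = ⊤) ↔ commutator G ⊓ (P : Subgroup G) = ⁅(P : Subgroup G), (P : Subgroup G)⁆ := by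
  constructor
  · rintro ⟨N, hN, hi, hs⟩
    refine le_antisymm ?_ (le_inf (Subgroup.commutator_mono le_top le_top) (Subgroup.commutator_le_self _))
    have hle : commutator G ≤ N := by
      rw [commutator_def, Subgroup.commutator_le]
      intro a _ b _
      have key : ∀ a : G, ∃ s ∈ (P : Subgroup G), ∃ n ∈ N, a = s * n := by
        intro a
        have : a ∈ (((P : Subgroup G) : Set G) * (N : Set G)) := by
          rw [← Subgroup.mul_normal, sup_comm, hs]; trivial
        obtain ⟨s, hs, n, hn, rfl⟩ := this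
        exact ⟨s, hs, n, hn, rfl⟩
      obtain ⟨s, hs', n, hn, rfl⟩ := key a
      obtain ⟨t, ht, m, hm, rfl⟩ := key b
      have h1 : ⁅s, t⁆ ∈ N :=
        (Subgroup.mem_inf.1 (hi.symm ▸ Subgroup.commutator_mem_commutator hs' ht :
          ⁅s, t⁆ ∈ N ⊓ (P : Subgroup G))).1
      rw [← QuotientGroup.eq_one_iff] at h1 hn hm ⊢
      have e : ∀ x y : G, ((⁅x, y⁆ : G) : G ⧸ N) = ⁅(x : G ⧸ N), (y : G ⧸ N)⁆ :=
        map_commutatorElement (QuotientGroup.mk' N)
      rw [e, QuotientGroup.mk_mul, QuotientGroup.mk_mul, hn, hm, mul_one, mul_one, ← e, h1]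
    rw [← hi]
    exact inf_le_inf_right _ hle
  · intro h
    refine ⟨(Subgroup.transferFocal (P : Subgroup G)).ker, inferInstance, ?_, ?_⟩
    · rw [Subgroup.ker_transferFocal_inf_eq_focalSubgroup, ← Subgroup.commutator_inf_eq_focalSubgroup, h]
    · refine top_le_iff.1 fun g _ => ?_
      obtain ⟨y, hy⟩ := Subgroup.focalSubgroupOf.pow_index_surjective P ((P : Subgroup G).transferFocal g)
      obtain ⟨x, rfl⟩ := QuotientGroup.mk'_surjective _ y
      have he : (P : Subgroup G).transferFocal (x : G) = (P : Subgroup G).transferFocal g :=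
        (Subgroup.transferFocal_eq_pow (P : Subgroup G) x).trans hy
      have e : g = g * (x : G)⁻¹ * (x : G) := by group
      rw [e]
      exact Subgroup.mul_mem_sup (by rw [MonoidHom.mem_ker, map_mul, map_inv, he, mul_inv_cancel]) x.2

end Cfsg.Agent.S0131
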