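-- Statement S0132
import Cfsg.Statements.S0132
import Cfsg.Agent.Solv.Thompson

set_option autoImplicit false
open Cfsg
open scoped commutatorElement Pointwise
set_option linter.style.haveILetI false
set_option linter.deprecated false

namespace Cfsg.Agent.S0132

/-- A minimal non-p-nilpotent finite group is a minimal non-nilpotent group with a normal Sylow p-subgroup. -/
theorem result {G : Type*} [Group G] [Finite G] {p : ℕ} [Fact p.Prime] (h1 : ¬ Cfsg.HasNormalPComplement p G) (h2 : ∀ H : Subgroup G, H ≠ ⊤ → Cfsg.HasNormalPComplement p H) : (∀ H : Subgroup G, H ≠ ⊤ → Group.IsNilpotent H) ∧ ¬ Group.IsNilpotent G ∧ ∀ P : Sylow p G, (P : Subgroup G).Normal := by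
    have hne := h1
    rw [CfsgLib.Solv.hnpc_iff_frobCond, CfsgLib.Solv.FrobCond] at hne
    push Not at hne
    obtain ⟨Q, hQ, g, hg, hc, hgC⟩ := hne
    set H := Q ⊔ Subgroup.zpowers g with hH
    have hHtop : H = ⊤ := by
      by_contra hH'
      exact hgC (CfsgLib.Solv.mem_centralizer_of_hnpc_subgroup (h2 H hH') le_sup_left hQ
        (Subgroup.mem_sup_right (Subgroup.mem_zpowers g)) hg hc)
    haveI hQn : Q.Normal := Subgroup.normalizer_eq_top_iff.1 (top_unique (hHtop ▸ sup_le
      Subgroup.le_normalizer (Subgroup.zpowers_le.2 hg)))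
    have hcard : Nat.card (G ⧸ Q) ∣ orderOf g := by
      have htop : (Subgroup.zpowers g).map (QuotientGroup.mk' Q) = ⊤ := by
        rw [← Subgroup.map_top_of_surjective (QuotientGroup.mk' Q) (QuotientGroup.mk'_surjective Q),
          ← hHtop, hH, Subgroup.map_sup, QuotientGroup.map_mk'_self, bot_sup_eq]
      rw [← Subgroup.card_top (G := G ⧸ Q), ← htop, MonoidHom.map_zpowers, Nat.card_zpowers]
      exact orderOf_map_dvd _ g
    have hidx : Nat.Coprime (Nat.card (G ⧸ Q)) p := Nat.Coprime.coprime_dvd_left hcard hc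
    have hP : ∀ P : Sylow p G, (P : Subgroup G) = Q := by
      intro P
      refine le_antisymm (fun x hx => ?_) ?_
      · rw [← QuotientGroup.eq_one_iff]
        obtain ⟨k, hk⟩ := IsPGroup.iff_orderOf.1 P.isPGroup' ⟨x, hx⟩
        rw [Subgroup.orderOf_mk] at hk
        refine orderOf_eq_one_iff.1 (Nat.eq_one_of_dvd_coprimes (hidx.symm.pow_left k) ?_ (orderOf_dvd_natCard _))
        exact hk ▸ orderOf_map_dvd (QuotientGroup.mk' Q) x
      · exact le_trans (CfsgLib.Solv.le_pCore hQ) (CfsgLib.Solv.pCore_le_sylow P)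
    refine ⟨fun K hK => ?_, fun hnil => h1 CfsgLib.Solv.hnpc_of_isNilpotent, fun P => (hP P).symm ▸ hQn⟩
    have hKnpc := h2 K hK
    set N := Cfsg.pResidual p K
    haveI := CfsgLib.Solv.pResidual_char p K
    set R := Q.subgroupOf K with hR
    have hRp : IsPGroup p R := hQ.comap_of_injective K.subtype Subtype.val_injective
    have hNab : ∀ a ∈ N, ∀ b ∈ N, a * b = b * a := by
      intro a ha b hb
      have hN' : ¬ p ∣ Nat.card N := CfsgLib.Solv.hnpc_iff.1 hKnpc
      have hQab : ∀ u v : G ⧸ Q, u * v = v * u := by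
        have htop : (Subgroup.zpowers g).map (QuotientGroup.mk' Q) = ⊤ := by
          rw [← Subgroup.map_top_of_surjective (QuotientGroup.mk' Q) (QuotientGroup.mk'_surjective Q),
            ← hHtop, hH, Subgroup.map_sup, QuotientGroup.map_mk'_self, bot_sup_eq]
        intro u v
        obtain ⟨i, hi⟩ : u ∈ Subgroup.zpowers (QuotientGroup.mk' Q g) := by
          rw [← MonoidHom.map_zpowers, htop]; exact Subgroup.mem_top u
        obtain ⟨j, hj⟩ : v ∈ Subgroup.zpowers (QuotientGroup.mk' Q g) := by
          rw [← MonoidHom.map_zpowers, htop]; exact Subgroup.mem_top v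
        subst hi hj
        exact (Commute.refl (QuotientGroup.mk' Q g)).zpow_zpow i j
      have hm : ⁅a, b⁆ ∈ R ⊓ N := by
        refine Subgroup.mem_inf.2 ⟨?_, mul_mem (mul_mem (mul_mem ha hb) (inv_mem ha)) (inv_mem hb)⟩
        show ((⁅a, b⁆ : K) : G) ∈ Q
        rw [← QuotientGroup.eq_one_iff]
        show QuotientGroup.mk' Q (K.subtype ⁅a, b⁆) = 1
        rw [map_commutatorElement, map_commutatorElement, commutatorElement_eq_one_iff_mul_comm]
        exact hQab _ _
      rw [CfsgLib.Solv.sylow_inf_eq_bot_of_not_dvd hRp hN', Subgroup.mem_bot,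
        commutatorElement_eq_one_iff_mul_comm] at hm
      exact hm
    haveI : Group.IsNilpotent R := hRp.isNilpotent
    haveI : IsMulCommutative N := ⟨⟨fun a b => Subtype.ext (hNab a a.2 b b.2)⟩⟩
    haveI : Group.IsNilpotent N := ⟨⟨1, Subgroup.upperCentralSeries_one_eq_top_iff.2 ‹_›⟩⟩
    haveI : N.Normal := Subgroup.normal_of_characteristic N
    haveI : R.Normal := inferInstance
    have hsup : R ⊔ N = ⊤ := by
      obtain ⟨S⟩ : Nonempty (Sylow p K) := inferInstance
      refine top_unique (CfsgLib.Solv.sylow_sup_pResidual S ▸ sup_le_sup_right (fun x hx => ?_) N)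
      obtain ⟨P, hPx⟩ := (S.isPGroup'.map K.subtype).exists_le_sylow
      show (x : G) ∈ Q
      rw [← hP P]
      exact hPx ⟨x, hx, rfl⟩
    have := CfsgLib.Solv.isNilpotent_sup_of_normal R N ‹_› ‹_›
    rw [hsup] at this
    exact (Group.isNilpotent_congr Subgroup.topEquiv).1 this

end Cfsg.Agent.S0132
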