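import Cfsg.Statements.S0138
import Cfsg.Agent.Char.Burnside

set_option autoImplicit false
open Cfsg

namespace Cfsg.Agent.S0138

/-- A character value has absolute value equal to the degree exactly when the group element acts by a scalar. -/
theorem result {G : Type*} [Group G] [Finite G] {V : Type*} [AddCommGroup V] [Module ℂ V] [FiniteDimensional ℂ V] (ρ : Representation ℂ G V) (g : G) : ‖ρ.character g‖ = (Module.finrank ℂ V : ℝ) ↔ ∃ ω : ℂ, ρ g = ω • (LinearMap.id : V →ₗ[ℂ] V) := by
  refine ⟨CfsgLib.Char.rep_scalar_of_norm ρ g, fun ⟨ω, hω⟩ => ?_⟩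
  obtain ⟨ζ, hζ, hg, -⟩ := CfsgLib.Char.exists_roots ρ g
  rcases Nat.eq_zero_or_pos (Module.finrank ℂ V) with h0 | hpos
  · haveI : Subsingleton V := Module.finrank_zero_iff.mp h0
    simp [Representation.character, Subsingleton.elim (ρ g) 0, h0]
  haveI : Nontrivial V := Module.finrank_pos_iff.mp hpos
  have h1 : ω ^ orderOf g = 1 := by
    have h := congrArg (fun f => f ^ orderOf g) hω
    simp only [← map_pow, pow_orderOf_eq_one, map_one, ← Module.End.one_eq_id, smul_pow,
      one_pow] at h
    exact (smul_left_injective ℂ (one_ne_zero : (1 : V →ₗ[ℂ] V) ≠ 0)) (by simpa using h.symm)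
  rw [Representation.character, hω, map_smul, LinearMap.trace_id, norm_smul,
    CfsgLib.Char.norm_root (orderOf_pos g).ne' h1, one_mul, Complex.norm_natCast]

end Cfsg.Agent.S0138
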