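import Cfsg.Statements.S0154
import Cfsg.Agent.Char.Central
import Cfsg.Agent.Char.PPrimeDegree

set_option autoImplicit false
open Cfsg

namespace Cfsg.Agent.S0154
open scoped CfsgLib.Char


/-- A finite group has exactly as many irreducible complex characters of degree 1 as the index of its commutator subgroup. -/
theorem result {G : Type*} [Group G] [Finite G] : Nat.card {χ : Cfsg.IrrCharacter G // (χ : G → ℂ) 1 = 1} = (commutator G).index := by
  classical
  haveI := Fintype.ofFinite G
  obtain ⟨e⟩ := CommGroup.monoidHom_mulEquiv_of_hasEnoughRootsOfUnity (Abelianization G) ℂ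
  rw [Subgroup.index_eq_card,
    show Nat.card (G ⧸ commutator G) = Nat.card (Abelianization G →* ℂˣ) from
      (Nat.card_congr e.toEquiv).symm,
    ← Nat.card_congr (Abelianization.lift (G := G) (A := ℂˣ)), eq_comm]
  refine Nat.card_eq_of_bijective (fun μ : G →* ℂˣ =>
    (⟨⟨fun g => (μ g : ℂ), CfsgLib.Char.isIrr_linear μ⟩, by simp⟩ :
      {χ : Cfsg.IrrCharacter G // (χ : G → ℂ) 1 = 1})) ⟨fun a b h => ?_, fun χ => ?_⟩
  · ext g
    exact congrFun (congrArg (fun z => ((z.1 : Cfsg.IrrCharacter G) : G → ℂ)) h) g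
  · obtain ⟨μ, hμ⟩ := CfsgLib.Char.exists_hom_of_degree_one
      (CfsgLib.Char.isCharacter_of_isIrr χ.1.2) χ.2
    exact ⟨μ, Subtype.ext (Subtype.ext hμ.symm)⟩

end Cfsg.Agent.S0154
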