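import Cfsg.Statements.S0156
import Cfsg.Agent.Char.Classes

set_option autoImplicit false
open Cfsg

namespace Cfsg.Agent.S0156

/-- The character of the left regular representation is the sum over the irreducible characters χ of χ 1 • χ. -/
theorem result {G : Type*} [Group G] [Fintype G] : (Representation.leftRegular ℂ G).character = ∑ᶠ χ : Cfsg.IrrCharacter G, (χ : G → ℂ) 1 • (χ : G → ℂ) := by
  classical
  rw [CfsgLib.Char.finsum_irr]
  have hclass : Cfsg.IsClassFunction G (Representation.leftRegular ℂ G).character :=
    fun g h => Representation.char_conj _ g h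
  refine (CfsgLib.Char.classFun_eq_sum hclass).trans (Finset.sum_congr rfl fun χ _ => ?_)
  congr 1
  have hreg : ∀ g : G, (Representation.leftRegular ℂ G).character g =
      if g = 1 then (Nat.card G : ℂ) else 0 := by
    intro g
    rw [Representation.character, LinearMap.trace_eq_matrix_trace ℂ (MonoidAlgebra.basis G ℂ),
      Matrix.trace]
    split_ifs with hg
    · subst hg; simp [LinearMap.toMatrix_apply, MonoidAlgebra.basis, Nat.card_eq_fintype_card]
    · exact Finset.sum_eq_zero fun x _ => by
        simp [LinearMap.toMatrix_apply, MonoidAlgebra.basis, hg]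
  rw [CfsgLib.Char.classInner_def, Finset.sum_eq_single 1 (fun g _ hg => by
    rw [hreg g, if_neg hg, zero_mul]) (by simp), hreg 1, if_pos rfl]
  obtain ⟨n, -, hn⟩ := CfsgLib.Char.irr_deg χ.2
  rw [hn, map_natCast, ← mul_assoc, inv_mul_cancel₀ (CfsgLib.Char.natCard_ne_zero G), one_mul]

end Cfsg.Agent.S0156
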