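import Cfsg.Statements.S0157
import Cfsg.Agent.Char.Perm
import Cfsg.Agent.Char.Clifford
import Mathlib.GroupTheory.GroupAction.MultipleTransitivity

set_option autoImplicit false
open Cfsg

namespace Cfsg.Agent.S0157
open scoped CfsgLib.Char


/-- For a transitive action of a finite group on a finite set with at least two points: the action is 2-transitive if and only if the function sending g to (number of fixed points of g) − 1 is an irreducible character. -/
theorem result {G : Type*} [Group G] [Finite G] (X : Type*) [MulAction G X] [Finite X] [MulAction.IsPretransitive G X] (hX : 2 ≤ Nat.card X) : Cfsg.IsIrrCharacter G (fun g => (Nat.card (MulAction.fixedBy X g) : ℂ) - 1) ↔ MulAction.IsMultiplyPretransitive G X 2 := by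
  classical
  haveI := Fintype.ofFinite G
  haveI := Fintype.ofFinite X
  open CfsgLib.Char in
  · obtain ⟨x₀⟩ : Nonempty X := (Nat.card_pos_iff.1 (by omega)).1
    haveI : Nontrivial X := Finite.one_lt_card_iff_nontrivial.1 (by omega)
    set π : G → ℂ := fun g => (Nat.card (MulAction.fixedBy X g) : ℂ) with hπ
    have hπc : Cfsg.IsCharacter G π := by
      rw [hπ, ← funext (indFun_one_eq_fixed x₀)]
      exact isCharacter_indFun _ isCharacter_one
    have h1 : Cfsg.classInner π (fun _ => 1) = 1 := by
      have h := MulAction.sum_card_fixedBy_eq_card_orbits_mul_card_group G X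
      have hO : Fintype.card (Quotient (MulAction.orbitRel G X)) = 1 := by
        refine Fintype.card_eq_one_iff.2 ⟨Quotient.mk _ x₀, fun q => ?_⟩
        induction q using Quotient.inductionOn with
        | _ y => exact Quotient.sound (MulAction.exists_smul_eq G x₀ y)
      rw [hO, one_mul] at h
      rw [classInner_def, inv_mul_eq_iff_eq_mul₀ (natCard_ne_zero G), mul_one, Nat.card_eq_fintype_card, ← h]
      simp [hπ, Nat.card_eq_fintype_card]
    have h2 : Cfsg.classInner π π = (Fintype.card (Quotient (MulAction.orbitRel G (X × X))) : ℂ) := by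
      have h := MulAction.sum_card_fixedBy_eq_card_orbits_mul_card_group G (X × X)
      rw [classInner_def, inv_mul_eq_iff_eq_mul₀ (natCard_ne_zero G), ← Nat.cast_mul, Nat.card_eq_fintype_card,
        mul_comm, ← h, Nat.cast_sum]
      refine Finset.sum_congr rfl fun g _ => ?_
      rw [hπ, map_natCast, ← Nat.cast_mul, ← Nat.card_prod, ← Nat.card_eq_fintype_card]
      congr 1
      exact Nat.card_congr ⟨fun a => ⟨(a.1.1, a.2.1), Prod.ext a.1.2 a.2.2⟩,
        fun a => (⟨a.1.1, congrArg Prod.fst a.2⟩, ⟨a.1.2, congrArg Prod.snd a.2⟩), fun _ => rfl, fun _ => rfl⟩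
    have hψ : (fun g => (Nat.card (MulAction.fixedBy X g) : ℂ) - 1) = π - fun _ => 1 := rfl
    have hψc : Cfsg.IsCharacter G (π - fun _ => 1) :=
      isCharacter_sub_constituent hπc isIrr_one (by rw [h1]; exact one_ne_zero)
    have hnorm : Cfsg.classInner (π - fun _ => 1) (π - fun _ => 1) =
        (Fintype.card (Quotient (MulAction.orbitRel G (X × X))) : ℂ) - 1 := by
      have h1' : Cfsg.classInner (fun _ : G => (1 : ℂ)) π = 1 := by rw [← classInner_conj, h1, map_one]
      rw [classInner_sub_left, classInner_sub_right, classInner_sub_right, h2, h1, h1', classInner_one_one]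
      ring
    rw [hψ, MulAction.is_two_pretransitive_iff]
    have hirr : Cfsg.IsIrrCharacter G (π - fun _ => 1) ↔ Fintype.card (Quotient (MulAction.orbitRel G (X × X))) = 2 := by
      constructor
      · intro h
        have := hnorm.symm.trans (irr_inner_self h)
        exact_mod_cast (by linear_combination this :
          (Fintype.card (Quotient (MulAction.orbitRel G (X × X))) : ℂ) = ((2 : ℕ) : ℂ))
      · intro h
        exact isIrr_of_char_norm hψc (by rw [hnorm, h]; norm_num)
    rw [hirr]
    obtain ⟨a₀, b₀, hab₀⟩ := exists_pair_ne X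
    constructor
    · intro h a b c d hab hcd
      let q : X × X → Quotient (MulAction.orbitRel G (X × X)) := fun z => Quotient.mk _ z
      have hne : ∀ u v : X, u ≠ v → q (u, v) ≠ q (x₀, x₀) := fun u v huv e => by
        obtain ⟨g, hg⟩ := Quotient.exact e
        exact huv ((congrArg Prod.fst hg).symm.trans (congrArg Prod.snd hg))
      have key : q (c, d) = q (a, b) := by
        by_contra hne'
        have : 3 ≤ Fintype.card (Quotient (MulAction.orbitRel G (X × X))) := by
          calc 3 = ({q (c, d), q (a, b), q (x₀, x₀)} : Finset _).card :=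
                (Finset.card_eq_three.2 ⟨_, _, _, hne', hne c d hcd, hne a b hab, rfl⟩).symm
            _ ≤ _ := Finset.card_le_univ _
        omega
      obtain ⟨g, hg⟩ := Quotient.exact key
      exact ⟨g, congrArg Prod.fst hg, congrArg Prod.snd hg⟩
    · intro h
      rw [← Nat.card_eq_fintype_card, Nat.card_eq_two_iff]
      refine ⟨Quotient.mk _ (x₀, x₀), Quotient.mk _ (a₀, b₀), fun e => ?_, Set.eq_univ_of_forall fun z => ?_⟩
      · obtain ⟨g, hg⟩ := Quotient.exact e
        exact hab₀ (MulAction.injective g ((congrArg Prod.fst hg).trans (congrArg Prod.snd hg).symm))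
      · induction z using Quotient.inductionOn with
        | _ z =>
          obtain ⟨u, v⟩ := z
          by_cases huv : u = v
          · subst huv
            obtain ⟨g, rfl⟩ := MulAction.exists_smul_eq G x₀ u
            exact Or.inl (Quotient.sound ⟨g, rfl⟩)
          · obtain ⟨g, hg1, hg2⟩ := h hab₀ huv
            exact Or.inr (Quotient.sound ⟨g, Prod.ext hg1 hg2⟩)

end Cfsg.Agent.S0157
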