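import Cfsg.Statements.S0158
import Cfsg.Agent.Char.FrobeniusSchur

set_option autoImplicit false
open Cfsg

namespace Cfsg.Agent.S0158

/-- The Frobenius–Schur indicator of an irreducible complex representation of a finite group — the average over s of the character at s * s — is 0, 1 or −1, and it vanishes exactly when some character value is not real. -/
theorem result {G : Type*} [Group G] [Fintype G] {V : Type*} [AddCommGroup V] [Module ℂ V] [FiniteDimensional ℂ V] (ρ : Representation ℂ G V) [ρ.IsIrreducible] : ((Nat.card G : ℂ)⁻¹ * ∑ s : G, ρ.character (s * s) = 0 ∨ (Nat.card G : ℂ)⁻¹ * ∑ s : G, ρ.character (s * s) = 1 ∨ (Nat.card G : ℂ)⁻¹ * ∑ s : G, ρ.character (s * s) = -1) ∧ ((Nat.card G : ℂ)⁻¹ * ∑ s : G, ρ.character (s * s) = 0 ↔ ∃ s : G, (ρ.character s).im ≠ 0) := by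
  have hi := CfsgLib.Char.finRep_irreducible ρ inferInstance
  rw [← CfsgLib.Char.finRep_char ρ]
  by_cases h : ∀ g, (starRingEnd ℂ) ((CfsgLib.Char.finRep ρ).character g) = (CfsgLib.Char.finRep ρ).character g
  · obtain ⟨-, -, -, -, h1⟩ := CfsgLib.Char.fsInd_real _ hi h
    refine ⟨Or.inr h1, iff_of_false (fun h0 => ?_) (fun ⟨s, hs⟩ => hs (Complex.conj_eq_iff_im.1 (h s)))⟩
    rcases h1 with h1 | h1
    · exact one_ne_zero (h1.symm.trans h0)
    · exact neg_ne_zero.2 one_ne_zero (h1.symm.trans h0)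
  · push Not at h
    have h0 := CfsgLib.Char.fsInd_eq_zero _ hi h
    refine ⟨Or.inl h0, iff_of_true h0 ?_⟩
    obtain ⟨g, hg⟩ := h
    exact ⟨g, fun him => hg (Complex.conj_eq_iff_im.2 him)⟩

end Cfsg.Agent.S0158
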