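import Cfsg.Statements.S0159
import Cfsg.Agent.Char.Classes

set_option autoImplicit false
open Cfsg

namespace Cfsg.Agent.S0159
open scoped CfsgLib.Char


/-- The number of solutions of s * s = 1 in a finite group equals the sum, over the irreducible characters χ, of (the average over s of χ (s * s)) times χ 1. -/
theorem result {G : Type*} [Group G] [Fintype G] : (Nat.card {s : G // s * s = 1} : ℂ) = ∑ᶠ χ : Cfsg.IrrCharacter G, ((Nat.card G : ℂ)⁻¹ * ∑ s : G, (χ : G → ℂ) (s * s)) * (χ : G → ℂ) 1 := by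
  classical
  rw [finsum_eq_sum_of_fintype, eq_comm]
  calc ∑ χ : Cfsg.IrrCharacter G, ((Nat.card G : ℂ)⁻¹ * ∑ s : G, (χ : G → ℂ) (s * s)) * (χ : G → ℂ) 1
      = (Nat.card G : ℂ)⁻¹ * ∑ s : G, ∑ χ : Cfsg.IrrCharacter G,
          (χ : G → ℂ) (s * s) * (starRingEnd ℂ) ((χ : G → ℂ) 1) := by
        rw [Finset.sum_comm, Finset.mul_sum]
        refine Finset.sum_congr rfl fun χ _ => ?_
        obtain ⟨d, -, hd⟩ := CfsgLib.Char.irr_deg χ.2
        rw [hd, map_natCast, ← Finset.sum_mul, mul_assoc]
    _ = (Nat.card G : ℂ)⁻¹ * ∑ s : G, (if s * s = 1 then (Nat.card G : ℂ) else 0) := by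
        refine congrArg _ (Finset.sum_congr rfl fun s _ => ?_)
        rw [CfsgLib.Char.second_orth]
        by_cases hs : s * s = 1
        · rw [if_pos hs, hs, if_pos (IsConj.refl 1), Subgroup.centralizer_eq_top_iff_subset.2
            (Set.singleton_subset_iff.2 (one_mem _)), Subgroup.card_top]
        · rw [if_neg hs, if_neg fun h => hs (isConj_one_left.1 h)]
    _ = _ := by
        rw [Finset.sum_ite, Finset.sum_const_zero, add_zero, Finset.sum_const, nsmul_eq_mul,
          mul_comm (Finset.card _ : ℂ), ← mul_assoc, inv_mul_cancel₀ (CfsgLib.Char.natCard_ne_zero G),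
          one_mul, Nat.card_eq_fintype_card, Fintype.card_subtype]

end Cfsg.Agent.S0159
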