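import Cfsg.Statements.S0160
import Cfsg.Agent.Char.PermLemma

set_option autoImplicit false
open Cfsg

namespace Cfsg.Agent.S0160

/-- A finite group has as many real-valued irreducible complex characters as conjugacy classes closed under taking inverses. -/
theorem result {G : Type*} [Group G] [Finite G] : Nat.card {χ : Cfsg.IrrCharacter G // ∀ g : G, ((χ : G → ℂ) g).im = 0} = Nat.card {C : ConjClasses G // ∀ g : G, ConjClasses.mk g = C → IsConj g g⁻¹} := by
  haveI := Fintype.ofFinite G
  rw [← Nat.card_congr (Equiv.subtypeEquivRight fun χ : Cfsg.IrrCharacter G => ?_),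
    CfsgLib.Char.card_fixed_irr_eq_classes (fun g : G => g⁻¹) CfsgLib.Char.irr_comp_inv]
  · refine Nat.card_congr (Equiv.subtypeEquivRight fun C => ⟨fun h g hg => ?_, fun h g hg => ?_⟩)
    · exact ConjClasses.mk_eq_mk_iff_isConj.1 (hg.trans (h g hg).symm)
    · exact (ConjClasses.mk_eq_mk_iff_isConj.2 (h g hg)).symm.trans hg
  rw [funext_iff]
  exact forall_congr' fun g => by
    rw [Function.comp_apply, CfsgLib.Char.char_conj_eq (CfsgLib.Char.isCharacter_of_isIrr χ.2) g,
      Complex.conj_eq_iff_im]

end Cfsg.Agent.S0160
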