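import Cfsg.Statements.S0162
import Cfsg.Agent.Char.PermLemma

set_option autoImplicit false
open Cfsg

namespace Cfsg.Agent.S0162
open scoped CfsgLib.Char


/-- If a finite group has odd order, its order is congruent to its number of conjugacy classes modulo 16. -/
theorem result {G : Type*} [Group G] [Finite G] (hodd : Odd (Nat.card G)) : Nat.card G ≡ Nat.card (ConjClasses G) [MOD 16] := by
  classical
  haveI := Fintype.ofFinite G
  rw [← CfsgLib.Char.card_irr_eq_card_conjClasses]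
  set e : Cfsg.IrrCharacter G := ⟨_, CfsgLib.Char.isIrr_one⟩ with he
  let c : Cfsg.IrrCharacter G → Cfsg.IrrCharacter G := fun χ =>
    ⟨fun g => (starRingEnd ℂ) ((χ : G → ℂ) g), CfsgLib.Char.irr_conj χ.2⟩
  have hs : ∑ χ : Cfsg.IrrCharacter G, ((χ : G → ℂ) 1 ^ 2 - 1) =
      (Nat.card G : ℂ) - (Nat.card (Cfsg.IrrCharacter G) : ℂ) := by
    rw [Finset.sum_sub_distrib, CfsgLib.Char.sum_degree_sq, Finset.sum_const, nsmul_eq_mul, mul_one,
      Finset.card_univ, Fintype.card_eq_nat_card]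
  suffices h : (∑ χ : Cfsg.IrrCharacter G,
      (((Cfsg.charDegree (χ : G → ℂ) : ℕ) ^ 2 - 1 : ℕ) : ZMod 16)) = 0 by
    have hd : ∀ χ : Cfsg.IrrCharacter G, 1 ≤ Cfsg.charDegree (χ : G → ℂ) ^ 2 := fun χ =>
      Nat.one_le_pow _ _ (CfsgLib.Char.charDegree_pos χ.2)
    have h2 : ((∑ χ : Cfsg.IrrCharacter G, (Cfsg.charDegree (χ : G → ℂ) ^ 2 - 1) : ℕ) : ℂ) =
        (Nat.card G : ℂ) - (Nat.card (Cfsg.IrrCharacter G) : ℂ) := by
      rw [Nat.cast_sum, ← hs]
      exact Finset.sum_congr rfl fun χ _ => by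
        rw [Nat.cast_sub (hd χ), CfsgLib.Char.irr_one_eq χ.2, Nat.cast_pow, Nat.cast_one]
    have h3 : (∑ χ : Cfsg.IrrCharacter G, (Cfsg.charDegree (χ : G → ℂ) ^ 2 - 1)) +
        Nat.card (Cfsg.IrrCharacter G) = Nat.card G := by
      rw [eq_sub_iff_add_eq] at h2
      exact_mod_cast h2
    rw [← ZMod.natCast_eq_natCast_iff, ← h3, Nat.cast_add, Nat.cast_sum, h, zero_add]
  rw [← Finset.add_sum_erase _ _ (Finset.mem_univ e),
    show Cfsg.charDegree (e : G → ℂ) = 1 from CfsgLib.Char.charDegree_eq (by simp [he])]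
  simp only [one_pow, Nat.sub_self, Nat.cast_zero, zero_add]
  have hcc : ∀ χ, c (c χ) = χ := fun χ => Subtype.ext (funext fun g => Complex.conj_conj _)
  refine Finset.sum_involution (fun χ _ => c χ) ?_ ?_ ?_ (fun χ _ => hcc χ)
  · intro χ hχ
    have hdeg : Cfsg.charDegree (c χ : G → ℂ) = Cfsg.charDegree (χ : G → ℂ) :=
      CfsgLib.Char.charDegree_eq (by
        show (starRingEnd ℂ) ((χ : G → ℂ) 1) = _
        rw [CfsgLib.Char.irr_one_eq χ.2, map_natCast])
    rw [hdeg]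
    have ho : Odd (Cfsg.charDegree (χ : G → ℂ)) :=
      hodd.of_dvd_nat (CfsgLib.Char.degree_dvd_card χ.2)
    obtain ⟨k, hk⟩ := ho
    obtain ⟨j, hj⟩ := (Nat.even_mul_succ_self k).two_dvd
    rw [hk, show (2 * k + 1) ^ 2 - 1 = 8 * j from by
      have : (2 * k + 1) ^ 2 = 4 * (k * (k + 1)) + 1 := by ring
      omega]
    rw [← Nat.cast_add, show 8 * j + 8 * j = 16 * j by ring, Nat.cast_mul,
      show ((16 : ℕ) : ZMod 16) = 0 from rfl, zero_mul]
  · intro χ hχ _ hfix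
    refine (Finset.mem_erase.1 hχ).1 (Subtype.ext ?_)
    exact CfsgLib.Char.eq_one_of_real_odd hodd χ fun g => congrFun (congrArg Subtype.val hfix) g
  · intro χ hχ
    refine Finset.mem_erase.2 ⟨fun h => (Finset.mem_erase.1 hχ).1 ?_, Finset.mem_univ _⟩
    rw [← hcc χ, h]
    exact Subtype.ext (funext fun g => map_one (starRingEnd ℂ))

end Cfsg.Agent.S0162
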