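import Cfsg.Statements.S0165
import Cfsg.Agent.Blk.Bounds
import Cfsg.Agent.Blk.Criterion

set_option autoImplicit false
open Cfsg

namespace Cfsg.Agent.S0165
open scoped CfsgLib.Char


/-- If p ^ n is the exact power of the prime p dividing the order of a finite group and p ^ n divides the degree of an irreducible complex representation, then its character vanishes at every element of order divisible by p. -/
theorem result {G : Type*} [Group G] [Finite G] {V : Type*} [AddCommGroup V] [Module ℂ V] [FiniteDimensional ℂ V] (ρ : Representation ℂ G V) [ρ.IsIrreducible] (p n : ℕ) (hp : p.Prime) (hn : p ^ n ∣ Nat.card G) (hn' : ¬ p ^ (n + 1) ∣ Nat.card G) (hdeg : p ^ n ∣ Module.finrank ℂ V) (x : G) (hx : p ∣ orderOf x) : ρ.character x = 0 := by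
  classical
  haveI := Fintype.ofFinite G
  haveI := Fact.mk hp
  obtain ⟨M, hM⟩ := CfsgLib.Blk.exists_isPModular hp
  haveI := hM.2.1.isPrime
  open CfsgLib.Blk CfsgLib.Char in
  · let χ : Cfsg.IrrCharacter G := ⟨ρ.character, isIrr_of_rep ρ inferInstance⟩
    obtain ⟨m, hm, hmp⟩ := exists_card_eq (G := G) (p := p)
    have hna : pExp p G = n := by
      refine le_antisymm ?_ ((hp.pow_dvd_iff_le_factorization Nat.card_pos.ne').1 hn)
      by_contra h
      exact hn' ((hp.pow_dvd_iff_le_factorization Nat.card_pos.ne').2 (not_le.1 h))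
    obtain ⟨t, ht⟩ := hdeg
    set w := Cfsg.classInner (regPart p (χ : G → ℂ)) (χ : G → ℂ) with hw
    obtain ⟨-, hk⟩ := isGeneralized_iff.1 (gen_regPart (p := p) χ)
    obtain ⟨k, hk⟩ := hk χ
    rw [classInner_smul_left] at hk
    have hwm : w ∈ locRing M := by
      rw [hw, inner_regPart (M := M) χ χ]
      have h1 : (χ : G → ℂ) 1 = (p : ℂ) ^ n * (t : ℂ) := by
        show ρ.character 1 = _
        rw [Representation.char_one, ht]; push_cast; ring
      rw [h1, hm, hna, Nat.cast_mul, Nat.cast_pow, mul_inv,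
        show ((p : ℂ) ^ n)⁻¹ * (m : ℂ)⁻¹ * ((p : ℂ) ^ n * (t : ℂ) *
          omega (χ : G → ℂ) (regElt M p χ)) = (m : ℂ)⁻¹ * (t : ℂ) * omega (χ : G → ℂ) (regElt M p χ) by
          field_simp [prime_cast_ne_zero (p := p), natCast_ne_zero_of_not_dvd hmp]]
      exact mul_mem (mul_mem (natCast_inv_mem hM hmp) (natCast_mem _ t)) (omega_mem χ.2 (isClassCoeff_regElt χ))
    obtain ⟨j, hj⟩ := pow_dvd_of_eq hM hwm hk.symm
    have hwj : w = (j : ℂ) := by
      rw [hj, Int.cast_mul, Int.cast_pow, Int.cast_natCast] at hk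
      exact mul_left_cancel₀ (pow_ne_zero _ prime_cast_ne_zero) hk
    set S := Finset.univ.filter (fun g : G => ¬ p ∣ orderOf g)
    have hsumS : ((∑ g ∈ S, Complex.normSq (ρ.character g) : ℝ) : ℂ) = (Nat.card G : ℂ) * (j : ℂ) := by
      rw [← hwj, hw, classInner_def, ← mul_assoc, mul_inv_cancel₀ (natCard_ne_zero G), one_mul,
        Finset.sum_filter, Complex.ofReal_sum]
      refine Finset.sum_congr rfl fun g _ => ?_
      simp only [regPart, χ]
      split_ifs <;> simp_all [Complex.mul_conj]
    have hall : ∑ g : G, Complex.normSq (ρ.character g) = (Nat.card G : ℝ) := by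
      have h := irr_inner_self χ.2
      rw [classInner_def, inv_mul_eq_iff_eq_mul₀ (natCard_ne_zero G), mul_one] at h
      simp only [χ, Complex.mul_conj] at h
      exact_mod_cast h
    have hS : ∑ g ∈ S, Complex.normSq (ρ.character g) = (Nat.card G : ℝ) * (j : ℝ) := by
      exact_mod_cast hsumS
    have hle : ∑ g ∈ S, Complex.normSq (ρ.character g) ≤ (Nat.card G : ℝ) := hall ▸
      Finset.sum_le_sum_of_subset_of_nonneg (Finset.filter_subset _ _) (fun g _ _ => Complex.normSq_nonneg _)
    have hpos : 0 < ∑ g ∈ S, Complex.normSq (ρ.character g) :=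
      Finset.sum_pos' (fun g _ => Complex.normSq_nonneg _) ⟨1, Finset.mem_filter.2 ⟨Finset.mem_univ _, by simp [hp.ne_one]⟩,
        Complex.normSq_pos.2 (irr_one_ne_zero χ.2)⟩
    have hG : (0 : ℝ) < Nat.card G := Nat.cast_pos.2 Nat.card_pos
    rw [hS] at hle hpos
    have hj1 : j = 1 := by
      have h1 : (j : ℝ) ≤ 1 := by nlinarith
      have h2 : (0 : ℝ) < (j : ℝ) := by nlinarith
      have : j ≤ 1 := by exact_mod_cast h1
      have : 0 < j := by exact_mod_cast h2
      omega
    rw [hj1, Int.cast_one, mul_one, ← hall] at hS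
    have h0 : ∑ g ∈ Sᶜ, Complex.normSq (ρ.character g) = 0 := by
      have := Finset.sum_add_sum_compl S (fun g => Complex.normSq (ρ.character g))
      linarith
    exact Complex.normSq_eq_zero.1 ((Finset.sum_eq_zero_iff_of_nonneg fun g _ => Complex.normSq_nonneg _).1 h0 x
      (by simp [S, hx]))

end Cfsg.Agent.S0165
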