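import Cfsg.Statements.S0167
import Cfsg.Agent.Char.Glauberman
import Cfsg.Agent.Char.Classes

set_option autoImplicit false
open Cfsg

namespace Cfsg.Agent.S0167
open scoped CfsgLib.Char


/-- An element g of a finite group is a commutator if and only if the sum over the irreducible characters χ of χ g / χ 1 is nonzero. -/
theorem result {G : Type*} [Group G] [Finite G] (g : G) : (∃ a b : G, g = a * b * a⁻¹ * b⁻¹) ↔ ∑ᶠ χ : Cfsg.IrrCharacter G, (χ : G → ℂ) g / (χ : G → ℂ) 1 ≠ 0 := by
  classical
  haveI := Fintype.ofFinite G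
  open CfsgLib.Char in
  · have key : (Nat.card G : ℂ) * ∑ χ : Cfsg.IrrCharacter G, (χ : G → ℂ) g / (χ : G → ℂ) 1 =
        ∑ b : G, if IsConj (g * b) b then (Nat.card (Subgroup.centralizer ({g * b} : Set G)) : ℂ) else 0 := by
      rw [Finset.sum_congr rfl fun b _ => (second_orth (g * b) b).symm, Finset.sum_comm, Finset.mul_sum]
      refine Finset.sum_congr rfl fun χ _ => ?_
      rw [sum_mul_conj χ.2 χ.2, irr_inner_self χ.2]
      ring
    rw [finsum_eq_sum_of_fintype]
    constructor
    · rintro ⟨a, b, rfl⟩ h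
      rw [h, mul_zero] at key
      have h2 : ((∑ c : G, if IsConj (a * b * a⁻¹ * b⁻¹ * c) c then
          Nat.card (Subgroup.centralizer ({a * b * a⁻¹ * b⁻¹ * c} : Set G)) else 0 : ℕ) : ℂ) = 0 := by
        push_cast
        exact key.symm
      rw [Nat.cast_eq_zero] at h2
      have h3 := (Finset.sum_eq_zero_iff.1 h2) b (Finset.mem_univ _)
      rw [if_pos (isConj_iff.2 ⟨a⁻¹, by group⟩)] at h3
      exact Nat.card_pos.ne' h3
    · intro h
      have hne : ∑ b : G, (if IsConj (g * b) b then (Nat.card (Subgroup.centralizer ({g * b} : Set G)) : ℂ) else 0) ≠ 0 := by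
        rw [← key]; exact mul_ne_zero (natCard_ne_zero G) h
      obtain ⟨b, -, hb⟩ := Finset.exists_ne_zero_of_sum_ne_zero hne
      have hc : IsConj (g * b) b := by_contra fun hn => hb (if_neg hn)
      obtain ⟨a, ha⟩ := isConj_iff.1 hc.symm
      exact ⟨a, b, by rw [ha]; group⟩

end Cfsg.Agent.S0167
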