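import Cfsg.Statements.S0168
import Cfsg.Agent.Char.Classes
import Cfsg.Agent.Char.Central

set_option autoImplicit false
open Cfsg

namespace Cfsg.Agent.S0168
open scoped CfsgLib.Char


/-- The Burnside–Brauer Theorem. Let χ be the character of a faithful complex representation of a finite group, taking m distinct values. Then every irreducible character has nonzero inner product with χ ^ i for some i < m. -/
theorem result {G : Type*} [Group G] [Fintype G] {V : Type*} [AddCommGroup V] [Module ℂ V] [FiniteDimensional ℂ V] (ρ : Representation ℂ G V) (hfaithful : Function.Injective ρ) (ψ : G → ℂ) (hψ : Cfsg.IsIrrCharacter G ψ) : ∃ i : ℕ, i < Nat.card (Set.range ρ.character) ∧ Cfsg.classInner (fun g => ρ.character g ^ i) ψ ≠ 0 := by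
  classical
  have hint : Finite (Set.range ρ.character) := Finite.of_surjective _ Set.rangeFactorization_surjective
  set S := (Set.range ρ.character).toFinset with hS
  have hScard : Nat.card (Set.range ρ.character) = S.card := by
    rw [Nat.card_eq_fintype_card, hS, Set.toFinset_card]
  rw [hScard]
  by_contra! hall
  set d := ρ.character 1
  have hd : d ∈ S := Set.mem_toFinset.2 ⟨1, rfl⟩
  let P : Polynomial ℂ := ∏ v ∈ S.erase d, (Polynomial.X - Polynomial.C v)
  have hdeg : P.natDegree < S.card := by
    rw [Polynomial.natDegree_prod_of_monic _ _ (fun v _ => Polynomial.monic_X_sub_C v)]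
    simp only [Polynomial.natDegree_X_sub_C, Finset.sum_const, smul_eq_mul, mul_one]
    exact Finset.card_erase_lt_of_mem hd
  have h0 : ∑ g : G, P.eval (ρ.character g) * (starRingEnd ℂ) (ψ g) = 0 := by
    simp only [Polynomial.eval_eq_sum_range' hdeg, Finset.sum_mul]
    rw [Finset.sum_comm]
    refine Finset.sum_eq_zero fun i hi => ?_
    have := hall i (Finset.mem_range.1 hi)
    rw [CfsgLib.Char.classInner_def, mul_eq_zero] at this
    simp only [mul_assoc, ← Finset.mul_sum]
    rw [this.resolve_left (inv_ne_zero (CfsgLib.Char.natCard_ne_zero G)), mul_zero]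
  rw [Finset.sum_eq_single 1 (fun g _ hg => ?_) (by simp)] at h0
  · rcases mul_eq_zero.1 h0 with h | h
    · rw [Polynomial.eval_prod, Finset.prod_eq_zero_iff] at h
      obtain ⟨v, hv, hv0⟩ := h
      rw [Polynomial.eval_sub, Polynomial.eval_X, Polynomial.eval_C, sub_eq_zero] at hv0
      exact (Finset.mem_erase.1 hv).1 hv0.symm
    · exact CfsgLib.Char.irr_one_ne_zero hψ (by simpa using h)
  · rw [Polynomial.eval_prod, Finset.prod_eq_zero (i := ρ.character g), zero_mul]
    · refine Finset.mem_erase.2 ⟨fun e => hg (hfaithful ?_), Set.mem_toFinset.2 ⟨g, rfl⟩⟩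
      rw [CfsgLib.Char.rep_eq_id_of_char ρ g (e.trans ρ.char_one), map_one]
    · simp

end Cfsg.Agent.S0168
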