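import Cfsg.Statements.S0170
import Cfsg.Agent.Char.Exceptional

set_option autoImplicit false
open Cfsg

namespace Cfsg.Agent.S0170

/-- Exceptional characters. Let S be a subset of a finite group contained in its normalizer N and meeting its conjugates by elements outside N only in the identity. Given n ≥ 2 distinct irreducible characters of N of equal degree that vanish on N away from S, there exist a sign ε and n distinct irreducible characters θ_i of G such that inducing χ_i − χ_j to G gives ε (θ_i − θ_j) for all i, j. -/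
theorem result {G : Type*} [Group G] [Fintype G] (S : Set G) (hSN : S ⊆ Subgroup.normalizer S) (hTI : ∀ g : G, g ∉ Subgroup.normalizer S → ∀ s ∈ S, g * s * g⁻¹ ∈ S → s = 1) (n : ℕ) (hn : 2 ≤ n) (χ : Fin n → (Subgroup.normalizer S → ℂ)) (hirr : ∀ i, Cfsg.IsIrrCharacter (Subgroup.normalizer S) (χ i)) (hinj : Function.Injective χ) (hvan : ∀ i, ∀ x : Subgroup.normalizer S, (x : G) ∉ S → χ i x = 0) (hdeg : ∀ i j, χ i 1 = χ j 1) : ∃ ε : ℂ, (ε = 1 ∨ ε = -1) ∧ ∃ θ : Fin n → (G → ℂ), (∀ i, Cfsg.IsIrrCharacter G (θ i)) ∧ Function.Injective θ ∧ ∀ i j, Cfsg.indFun (Subgroup.normalizer S) (χ i) - Cfsg.indFun (Subgroup.normalizer S) (χ j) = ε • (θ i - θ j) := by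
  classical
  haveI : Fintype (Subgroup.normalizer S) := Fintype.ofFinite _
  open CfsgLib.Char in
  · let i₀ : Fin n := ⟨0, by omega⟩
    let N := Subgroup.normalizer S
    let τ : Fin n → G → ℂ := fun i => Cfsg.indFun N (χ i - χ i₀)
    have hcf : ∀ i, Cfsg.IsClassFunction N (χ i - χ i₀) := fun i a b => by
      simp only [Pi.sub_apply, classFun_of_irr (hirr i) a b, classFun_of_irr (hirr i₀) a b]
    have hgen : ∀ i, Cfsg.IsGeneralizedCharacter G (τ i) := fun i =>
      gen_indFun N ⟨χ i, χ i₀, isCharacter_of_isIrr (hirr i), isCharacter_of_isIrr (hirr i₀), rfl⟩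
    have hone : ∀ i, τ i 1 = 0 := fun i => by
      simp only [τ, indFun_one, Pi.sub_apply, hdeg i i₀, sub_self, mul_zero]
    have hsupp : ∀ i, ∀ h : N, (χ i - χ i₀) h ≠ 0 → (h : G) ∈ S ∧ (h : G) ≠ 1 := fun i h hne => by
      refine ⟨by_contra fun hn => hne (by simp [hvan i h hn, hvan i₀ h hn]), fun e => hne ?_⟩
      rw [show h = 1 from Subtype.ext e, Pi.sub_apply, hdeg i i₀, sub_self]
    have hgram : ∀ i j : Fin n, i ≠ i₀ → j ≠ i₀ → ∀ [Decidable (i = j)],
        Cfsg.classInner (τ i) (τ j) = if i = j then 2 else 1 := by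
      intro i j hi hj _
      rw [CfsgLib.Blk.classInner_indFun_ti N (hcf j) fun h hh g hm hh' => ?_]
      · simp only [classInner_sub_left, classInner_sub_right, irr_inner (hirr i) (hirr j),
          irr_inner (hirr i) (hirr i₀), irr_inner (hirr i₀) (hirr j), irr_inner_self (hirr i₀),
          hinj.eq_iff, hi, Ne.symm hj, if_false]
        split_ifs <;> norm_num
      · by_contra hg
        refine (hsupp i h hh).2 (hTI g⁻¹ (fun hg' => hg (by simpa using inv_mem hg')) _ (hsupp i h hh).1 ?_)
        simpa using (hsupp j _ hh').1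
    obtain ⟨ε, hε, μ, hμ, hinjμ, he⟩ := exists_exceptional i₀ τ (by
      simp only [τ, sub_self]; exact indFun_zero N) hgen hone hgram
    refine ⟨ε, hε, μ, hμ, hinjμ, fun i j => ?_⟩
    have h1 : Cfsg.indFun N (χ i) - Cfsg.indFun N (χ j) = τ i - τ j := by
      simp only [τ, indFun_sub]; abel
    rw [show Cfsg.indFun (Subgroup.normalizer S) (χ i) = Cfsg.indFun N (χ i) from rfl,
      show Cfsg.indFun (Subgroup.normalizer S) (χ j) = Cfsg.indFun N (χ j) from rfl, h1, he i, he j]
    ext g; simp [mul_sub]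

end Cfsg.Agent.S0170
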