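import Cfsg.Statements.S0171
import Cfsg.Agent.Char.PermLemma

set_option autoImplicit false
open Cfsg

namespace Cfsg.Agent.S0171

/-- Let G = K H with K normal, K ⊓ H trivial, and no non-identity element of H commuting with a non-identity element of K (a Frobenius group with kernel K and complement H). Then every non-principal irreducible character of K induces to an irreducible character of G. -/
theorem result {G : Type*} [Group G] [Fintype G] (K H : Subgroup G) [K.Normal] (hKH : K ⊓ H = ⊥) (hKH' : K ⊔ H = ⊤) (hfpf : ∀ h ∈ H, h ≠ 1 → ∀ k ∈ K, h * k = k * h → k = 1) (τ : K → ℂ) (hτ : Cfsg.IsIrrCharacter K τ) (hτ1 : τ ≠ fun _ => 1) : Cfsg.IsIrrCharacter G (Cfsg.indFun K τ) := by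
  classical
  haveI := Fintype.ofFinite K
  refine CfsgLib.Char.isIrr_iff_norm (CfsgLib.Char.isCharacter_indFun K (CfsgLib.Char.isCharacter_of_isIrr hτ)) |>.2 ?_
  have hle := CfsgLib.Char.le_inertia (CfsgLib.Char.classFun_of_irr hτ)
  have hin : CfsgLib.Char.inertia τ = K := by
    refine le_antisymm (fun g hg => ?_) hle
    have hgtop : g ∈ K ⊔ H := hKH' ▸ Subgroup.mem_top g
    obtain ⟨k, hk, h, hh, rfl⟩ := Subgroup.mem_sup_of_normal_left.1 hgtop
    suffices h = 1 by rw [this, mul_one]; exact hk
    by_contra h1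
    have hhin : CfsgLib.Char.conjN τ h = τ := by
      have h2 := mul_mem (inv_mem (hle hk)) hg
      rw [inv_mul_cancel_left] at h2
      exact h2
    let f : K → K := fun x => (MulAut.conjNormal h : MulAut K) x
    have hf : ∀ χ : Cfsg.IrrCharacter K, Cfsg.IsIrrCharacter K ((χ : K → ℂ) ∘ f) :=
      fun χ => CfsgLib.Char.irr_mulEquiv (MulAut.conjNormal h) χ.2
    have hc := CfsgLib.Char.card_fixed_irr_eq_classes f hf
    have h1' : Nat.card {C : ConjClasses K // ∀ x, ConjClasses.mk x = C → ConjClasses.mk (f x) = C} = 1 := by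
      rw [Nat.card_eq_one_iff_exists]
      refine ⟨⟨ConjClasses.mk 1, fun x hx => ?_⟩, ?_⟩
      · rw [ConjClasses.mk_eq_mk_iff_isConj, isConj_one_left] at hx
        simp [f, hx]
      · rintro ⟨C, hC⟩
        obtain ⟨x, rfl⟩ := ConjClasses.exists_rep C
        refine Subtype.ext (congrArg ConjClasses.mk ?_)
        obtain ⟨c, hcx⟩ := isConj_iff.1 (ConjClasses.mk_eq_mk_iff_isConj.1 (hC x rfl))
        have hcx' : ((c : G) * h) * x * ((c : G) * h)⁻¹ = x := by
          have := congrArg Subtype.val hcx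
          simp only [f, Subgroup.coe_mul, Subgroup.coe_inv, MulAut.conjNormal_apply] at this
          rw [mul_inv_rev]
          simpa [mul_assoc] using this
        let F : K → K := fun k => ⟨(k : G) * h * (k : G)⁻¹ * h⁻¹, by
          have := (inferInstance : K.Normal).conj_mem _ (inv_mem k.2) h
          simpa [mul_assoc] using mul_mem k.2 this⟩
        have hinj : Function.Injective F := by
          intro a b hab
          have h2 : (a : G) * h * (a : G)⁻¹ = (b : G) * h * (b : G)⁻¹ :=
            mul_right_cancel (congrArg Subtype.val hab)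
          have h3 : h * ((b : G)⁻¹ * a) = (b : G)⁻¹ * a * h := by
            calc h * ((b : G)⁻¹ * a) = (b : G)⁻¹ * ((b : G) * h * (b : G)⁻¹) * a := by group
              _ = (b : G)⁻¹ * a * h := by rw [← h2]; group
          exact Subtype.ext (inv_mul_eq_one.1 (hfpf h hh h1 _ (mul_mem (inv_mem b.2) a.2) h3)).symm
        obtain ⟨k', hk'⟩ := Finite.injective_iff_surjective.1 hinj c
        have hk'' : (c : G) * h = (k' : G) * h * (k' : G)⁻¹ := by
          rw [← hk']; simp [F]
        rw [hk''] at hcx'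
        have h4 : h * ((k' : G)⁻¹ * x * k') = (k' : G)⁻¹ * x * k' * h := by
          calc h * ((k' : G)⁻¹ * x * k')
              = (k' : G)⁻¹ * ((k' : G) * h * (k' : G)⁻¹ * x * ((k' : G) * h * (k' : G)⁻¹)⁻¹) *
                k' * h := by group
            _ = (k' : G)⁻¹ * x * k' * h := by rw [hcx']
        have h5 := hfpf h hh h1 _ (mul_mem (mul_mem (inv_mem k'.2) x.2) k'.2) h4
        have h6 : (x : G) = 1 := by
          calc (x : G) = k' * ((k' : G)⁻¹ * x * k') * (k' : G)⁻¹ := by group
            _ = 1 := by rw [h5]; group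
        exact Subtype.ext h6
    rw [h1', Nat.card_eq_one_iff_exists] at hc
    obtain ⟨z, hz⟩ := hc
    have e1 := hz ⟨⟨τ, hτ⟩, (CfsgLib.Char.conjN_eq_comp τ h).symm.trans hhin⟩
    have e2 := hz ⟨⟨_, CfsgLib.Char.isIrr_one⟩, rfl⟩
    exact hτ1 (congrArg (fun z => ((z.1 : Cfsg.IrrCharacter K) : K → ℂ)) (e1.trans e2.symm))
  rw [CfsgLib.Char.norm_indFun hτ, hin, div_self (CfsgLib.Char.natCard_ne_zero K)]

end Cfsg.Agent.S0171
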