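import Cfsg.Statements.S0172
import Cfsg.Agent.Char.Classes
import Mathlib.GroupTheory.CommutingProbability

set_option autoImplicit false
open Cfsg

namespace Cfsg.Agent.S0172

/-- Class number of a Frobenius group: if G = K H with K normal, K ⊓ H trivial and no non-identity element of H commuting with a non-identity element of K, then |H| * k(G) + 1 = |H| * k(H) + k(K), where k denotes the number of conjugacy classes. -/
theorem result {G : Type*} [Group G] [Finite G] (K H : Subgroup G) [K.Normal] (hKH : K ⊓ H = ⊥) (hKH' : K ⊔ H = ⊤) (hfpf : ∀ h ∈ H, h ≠ 1 → ∀ k ∈ K, h * k = k * h → k = 1) : Nat.card H * Nat.card (ConjClasses G) + 1 = Nat.card H * Nat.card (ConjClasses H) + Nat.card (ConjClasses K) := by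
  classical
  haveI := Fintype.ofFinite G
  haveI := Fintype.ofFinite K
  haveI := Fintype.ofFinite H
  have hcf : ∀ (X : Type _) [Group X] [Fintype X], Nat.card (ConjClasses X) * Nat.card X =
      ∑ g : X, Nat.card {y : X // Commute g y} := by
    intro X _ _
    rw [← card_comm_eq_card_conjClasses_mul_card, ← Nat.card_sigma]
    exact Nat.card_congr (Equiv.subtypeProdEquivSigmaSubtype fun a b : X => Commute a b)
  have hK := hcf K
  have hH := hcf H
  have hG := hcf G
  have hmix : ∀ k ∈ K, ∀ h ∈ H, ∀ k' ∈ K, ∀ h' ∈ H, k * h = k' * h' → k = k' ∧ h = h' := by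
    intro k hk h hh k' hk' h' hh' e
    have h1 : k'⁻¹ * k = h' * h⁻¹ := by
      rw [eq_mul_inv_iff_mul_eq, mul_assoc, e, inv_mul_cancel_left]
    have h2 : k'⁻¹ * k ∈ K ⊓ H := Subgroup.mem_inf.2 ⟨mul_mem (inv_mem hk') hk, h1 ▸ mul_mem hh' (inv_mem hh)⟩
    rw [hKH, Subgroup.mem_bot] at h2
    rw [h2] at h1
    exact ⟨(inv_mul_eq_one.1 h2).symm, (mul_inv_eq_one.1 h1.symm).symm⟩
  have hC : ∀ g : G, ∀ h ∈ H, h ≠ 1 → Commute g h → g ∈ H := by
    intro g h hh h1 hc
    have hg : g ∈ K ⊔ H := hKH' ▸ Subgroup.mem_top g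
    obtain ⟨k, hk, h', hh', rfl⟩ := Subgroup.mem_sup_of_normal_left.1 hg
    have e : h * k * h⁻¹ * (h * h') = k * (h' * h) := by
      calc h * k * h⁻¹ * (h * h') = h * (k * h') := by group
        _ = k * h' * h := hc.eq.symm
        _ = k * (h' * h) := by group
    obtain ⟨e1, -⟩ := hmix _ ((inferInstance : K.Normal).conj_mem k hk h) _ (mul_mem hh hh') _ hk _
      (mul_mem hh' hh) e
    rw [hfpf h hh h1 k hk (mul_inv_eq_iff_eq_mul.1 e1), one_mul]
    exact hh'
  have hCK : ∀ g ∈ K, g ≠ 1 → ∀ y, Commute g y → y ∈ K := by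
    intro g hg g1 y hy
    have hy' : y ∈ K ⊔ H := hKH' ▸ Subgroup.mem_top y
    obtain ⟨k, hk, h, hh, rfl⟩ := Subgroup.mem_sup_of_normal_left.1 hy'
    suffices h = 1 by rw [this, mul_one]; exact hk
    by_contra h1
    let F : K → K := fun x => ⟨(x : G) * h * (x : G)⁻¹ * h⁻¹, by
      have := mul_mem x.2 ((inferInstance : K.Normal).conj_mem _ (inv_mem x.2) h)
      simpa [mul_assoc] using this⟩
    have hinj : Function.Injective F := by
      intro a b hab
      have h2 : (a : G) * h * (a : G)⁻¹ = (b : G) * h * (b : G)⁻¹ :=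
        mul_right_cancel (congrArg Subtype.val hab)
      have h3 : h * ((b : G)⁻¹ * a) = (b : G)⁻¹ * a * h := by
        calc h * ((b : G)⁻¹ * a) = (b : G)⁻¹ * ((b : G) * h * (b : G)⁻¹) * a := by group
          _ = (b : G)⁻¹ * a * h := by rw [← h2]; group
      exact Subtype.ext (inv_mul_eq_one.1 (hfpf h hh h1 _ (mul_mem (inv_mem b.2) a.2) h3)).symm
    obtain ⟨x, hx⟩ := Finite.injective_iff_surjective.1 hinj ⟨k, hk⟩
    have hxe : k * h = (x : G) * h * (x : G)⁻¹ := by
      rw [show k = (x : G) * h * (x : G)⁻¹ * h⁻¹ from (congrArg Subtype.val hx).symm]; group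
    rw [hxe] at hy
    have h4 : h * ((x : G)⁻¹ * g * x) = (x : G)⁻¹ * g * x * h := by
      calc h * ((x : G)⁻¹ * g * x) = (x : G)⁻¹ * ((x : G) * h * (x : G)⁻¹ * g) * x := by group
        _ = (x : G)⁻¹ * g * x * h := by rw [← hy.eq]; group
    have h5 := hfpf h hh h1 _ (mul_mem (mul_mem (inv_mem x.2) hg) x.2) h4
    exact g1 (by
      calc g = (x : G) * ((x : G)⁻¹ * g * x) * (x : G)⁻¹ := by group
        _ = 1 := by rw [h5]; group)
  let e : K × H → G := fun q => if (q.2 : G) = 1 then (q.1 : G) else (q.1 : G) * q.2 * (q.1 : G)⁻¹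
  have hinj : Function.Injective e := by
    rintro ⟨k, h⟩ ⟨k', h'⟩ he
    simp only [e] at he
    have hout : ∀ a ∈ K, ∀ b ∈ H, a * b * a⁻¹ ∈ K → b = 1 := fun a ha b hb hm => by
      have : b ∈ K ⊓ H := ⟨by simpa [mul_assoc] using mul_mem (mul_mem (inv_mem ha) hm) ha, hb⟩
      rwa [hKH, Subgroup.mem_bot] at this
    split_ifs at he with h1 h2 h2
    · exact Prod.ext (Subtype.ext he) (Subtype.ext (h1.trans h2.symm))
    · exact absurd (hout _ k'.2 _ h'.2 (he ▸ k.2)) h2
    · exact absurd (hout _ k.2 _ h.2 (he.symm ▸ k'.2)) h1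
    · have e3 : ((k' : G)⁻¹ * k) * h * ((k' : G)⁻¹ * k)⁻¹ = h' := by
        calc ((k' : G)⁻¹ * k) * h * ((k' : G)⁻¹ * k)⁻¹ = (k' : G)⁻¹ * ((k : G) * h * (k : G)⁻¹) * k' := by group
          _ = h' := by rw [he]; group
      set w := (k' : G)⁻¹ * k with hw
      have hwK : w ∈ K := mul_mem (inv_mem k'.2) k.2
      have e4 : w * ((h : G) * w⁻¹ * (h : G)⁻¹) * (h : G) = 1 * (h' : G) := by
        rw [one_mul, ← e3]; group
      obtain ⟨e5, e6⟩ := hmix _ (mul_mem hwK ((inferInstance : K.Normal).conj_mem _ (inv_mem hwK) _))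
        _ h.2 _ (one_mem _) _ h'.2 e4
      have e7 : (h : G) * w⁻¹ = w⁻¹ * h := mul_inv_eq_iff_eq_mul.1 (eq_inv_of_mul_eq_one_right e5)
      have e8 := hfpf _ h.2 h1 _ (inv_mem hwK) e7
      rw [inv_eq_one, hw, inv_mul_eq_one] at e8
      exact Prod.ext (Subtype.ext e8.symm) (Subtype.ext e6)
  have hcard : Nat.card K * Nat.card H = Nat.card G := by
    have hc := Subgroup.IsComplement'.card_mul (Subgroup.isComplement'_of_disjoint_and_mul_eq_univ
      (disjoint_iff.2 hKH) (by
        rw [← Subgroup.coe_mul_of_right_le_normalizer_left, hKH', Subgroup.coe_top]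
        exact le_trans le_top (Subgroup.normalizer_eq_top (H := K)).ge))
    exact hc
  let E : K × H ≃ G := Equiv.ofBijective e ((Nat.bijective_iff_injective_and_card e).2
    ⟨hinj, by rw [Nat.card_prod, hcard]⟩)
  have hcount : ∀ (k : K) (h : H), Nat.card {y : G // Commute (e (k, h)) y} =
      if (h : G) = 1 then (if (k : G) = 1 then Nat.card G else Nat.card {y : K // Commute k y})
      else Nat.card {y : H // Commute h y} := by
    intro k h
    by_cases h1 : (h : G) = 1
    · rw [if_pos h1, show e (k, h) = (k : G) from if_pos h1]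
      by_cases k1 : (k : G) = 1
      · rw [if_pos k1]
        exact Nat.card_congr (Equiv.subtypeUnivEquiv fun y => by rw [k1]; exact Commute.one_left y)
      · rw [if_neg k1]
        exact Nat.card_congr
          { toFun := fun y => ⟨⟨y.1, hCK _ k.2 k1 _ y.2⟩, Subtype.ext y.2⟩
            invFun := fun y => ⟨y.1, congrArg Subtype.val y.2.eq⟩
            left_inv := fun _ => rfl
            right_inv := fun _ => rfl }
    · rw [if_neg h1, show e (k, h) = (k : G) * h * (k : G)⁻¹ from if_neg h1]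
      have hy : ∀ y : G, Commute ((k : G) * h * (k : G)⁻¹) y → Commute (h : G) ((k : G)⁻¹ * y * k) := by
        intro y hy
        show (h : G) * ((k : G)⁻¹ * y * k) = (k : G)⁻¹ * y * k * h
        calc (h : G) * ((k : G)⁻¹ * y * k) = (k : G)⁻¹ * ((k : G) * h * (k : G)⁻¹ * y) * k := by group
          _ = _ := by rw [hy.eq]; group
      exact Nat.card_congr
        { toFun := fun y => ⟨⟨(k : G)⁻¹ * y.1 * k, hC _ _ h.2 h1 (hy _ y.2).symm⟩, Subtype.ext (hy _ y.2)⟩
          invFun := fun y => ⟨(k : G) * y.1 * (k : G)⁻¹, by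
            have := congrArg Subtype.val y.2.eq
            simp only [Subgroup.coe_mul] at this
            show (k : G) * h * (k : G)⁻¹ * ((k : G) * y.1 * (k : G)⁻¹) = _
            calc (k : G) * h * (k : G)⁻¹ * ((k : G) * y.1 * (k : G)⁻¹) = (k : G) * ((h : G) * y.1) * (k : G)⁻¹ := by group
              _ = _ := by rw [this]; group⟩
          left_inv := fun y => Subtype.ext (by simp [mul_assoc])
          right_inv := fun y => Subtype.ext (Subtype.ext (by simp [mul_assoc])) }
  rw [← E.sum_comp, Fintype.sum_prod_type] at hG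
  simp only [E, Equiv.ofBijective_apply, hcount] at hG
  rw [Finset.sum_comm, ← Finset.add_sum_erase _ _ (Finset.mem_univ (1 : H))] at hG
  simp only [Subgroup.coe_one, if_true] at hG
  rw [Finset.sum_congr rfl (g := fun h : H => Nat.card K * Nat.card {y : H // Commute h y})
    (fun h hh => by
      have hne : ¬ (h : G) = 1 := fun e => (Finset.mem_erase.1 hh).1 (Subtype.ext e)
      simp only [hne, if_false]
      rw [Finset.sum_const, smul_eq_mul, Finset.card_univ, ← Nat.card_eq_fintype_card]),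
    ← Finset.mul_sum, ← Finset.add_sum_erase _ _ (Finset.mem_univ (1 : K))] at hG
  rw [← Finset.add_sum_erase _ _ (Finset.mem_univ (1 : K))] at hK
  rw [← Finset.add_sum_erase _ _ (Finset.mem_univ (1 : H))] at hH
  have hone : ∀ (X : Type _) [Group X], Nat.card {y : X // Commute (1 : X) y} = Nat.card X :=
    fun X _ => Nat.card_congr (Equiv.subtypeUnivEquiv fun y => Commute.one_left y)
  rw [hone] at hK hH
  simp only [Subgroup.coe_one, if_true] at hG
  rw [show (∑ x ∈ (Finset.univ : Finset K).erase 1, if (x : G) = 1 then Nat.card G else Nat.card {y : K // Commute x y}) =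
      ∑ x ∈ (Finset.univ : Finset K).erase 1, Nat.card {y : K // Commute x y} from
    Finset.sum_congr rfl (fun k hk => if_neg (fun e => (Finset.mem_erase.1 hk).1 (Subtype.ext e)))] at hG
  have hK0 : 0 < Nat.card K := Nat.card_pos
  refine Nat.eq_of_mul_eq_mul_left hK0 ?_
  set SK := ∑ k ∈ (Finset.univ : Finset K).erase 1, Nat.card {y : K // Commute k y}
  set SH := ∑ h ∈ (Finset.univ : Finset H).erase 1, Nat.card {y : H // Commute h y}
  rw [← hcard] at hG
  linear_combination hG - hK - Nat.card K * hH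

end Cfsg.Agent.S0172
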