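import Cfsg.Statements.S0175
import Cfsg.Agent.Char.Monomial
import Cfsg.Agent.Char.Perm
import Cfsg.Agent.Char.PPrimeDegree
import Mathlib.GroupTheory.Solvable

set_option autoImplicit false
open Cfsg

namespace Cfsg.Agent.S0175
open scoped CfsgLib.Char


/-- Taketa's Theorem on M-groups: if every irreducible complex character of a finite group is induced from a linear character (a homomorphism to ℂˣ) of some subgroup, the group is solvable. -/
theorem result {G : Type*} [Group G] [Fintype G] (hM : ∀ χ : G → ℂ, Cfsg.IsIrrCharacter G χ → ∃ (H : Subgroup G) (lam : H →* ℂˣ), χ = Cfsg.indFun H (fun h => (lam h : ℂ))) : Group.IsSolvable G := by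
  classical
  open CfsgLib.Char in
  · have key : ∀ n : ℕ, ∀ χ : Cfsg.IrrCharacter G, Cfsg.charDegree (χ : G → ℂ) ≤ n →
        ∀ g ∈ derivedSeries G n, (χ : G → ℂ) g = (χ : G → ℂ) 1 := by
      intro n
      induction n with
      | zero => exact fun χ h => absurd (charDegree_pos χ.2) (by omega)
      | succ n ih =>
        intro χ hn g hg
        rcases Nat.lt_or_ge n (Cfsg.charDegree (χ : G → ℂ)) with hlt | hge
        swap
        · exact ih χ hge g (derivedSeries_antitone G (Nat.le_succ n) hg)
        obtain ⟨H, lam, hχ⟩ := hM _ χ.2
        have hdeg : (χ : G → ℂ) 1 = (H.index : ℂ) := by rw [hχ, indFun_one]; simp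
        have hidx : H.index = n + 1 := by
          have := charDegree_eq hdeg
          omega
        have hD : derivedSeries G n ≤ H := by
          intro x hx
          by_cases hn0 : n = 0
          · rw [Subgroup.index_eq_one.1 (by omega : H.index = 1)]
            exact Subgroup.mem_top x
          have hπ := isCharacter_indFun H (isCharacter_one (G := H))
          obtain ⟨l, hl⟩ := exists_list_irr hπ
          have hsmall : ∀ q ∈ l, Cfsg.charDegree (q : G → ℂ) ≤ n := by
            intro q hq
            by_contra hbig
            have hone : Cfsg.classInner (Cfsg.indFun H (fun _ => (1 : ℂ))) (fun _ => 1) = 1 := by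
              rw [CfsgLib.Char.frobenius H _ (χ := fun _ => (1 : ℂ)) (fun _ _ => rfl), classInner_one_one]
            have hsub := isCharacter_sub_constituent hπ isIrr_one (by rw [hone]; exact one_ne_zero)
            by_cases hq1 : (q : G → ℂ) = fun _ => 1
            · rw [hq1, charDegree_eq (n := 1) (by simp)] at hbig; omega
            have hqc : Cfsg.classInner (Cfsg.indFun H (fun _ => (1 : ℂ)) - fun _ => 1) (q : G → ℂ) ≠ 0 := by
              rw [classInner_sub_left, irr_inner_ne isIrr_one q.2 (fun e => hq1 e.symm), sub_zero, hl]
              have : ∀ m : List (Cfsg.IrrCharacter G), ∃ c : ℕ, Cfsg.classInner ((m.map fun r : Cfsg.IrrCharacter G => r.1).sum) (q : G → ℂ) = c ∧ (q ∈ m → 0 < c) := by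
                intro m
                induction m with
                | nil => exact ⟨0, by simp [classInner_zero_left], by simp⟩
                | cons r m ihm =>
                  obtain ⟨c, hc, hcm⟩ := ihm
                  refine ⟨(if r = q then 1 else 0) + c, ?_, fun hm => ?_⟩
                  · simp only [List.map_cons, List.sum_cons, classInner_add_left, hc, irr_inner r.2 q.2, Subtype.coe_inj]
                    split_ifs <;> simp
                  · rcases List.mem_cons.1 hm with h | h
                    · simp [h]
                    · exact Nat.add_pos_right _ (hcm h)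
              obtain ⟨c, hc, hcpos⟩ := this l
              rw [hc, Nat.cast_ne_zero]
              exact (hcpos hq).ne'
            have hsub2 := isCharacter_sub_constituent hsub q.2 hqc
            obtain ⟨e, he⟩ := charDegree_aux hsub2
            rw [Pi.sub_apply, Pi.sub_apply, indFun_one, irr_one_eq q.2, hidx] at he
            have : n + 1 = e + Cfsg.charDegree (q : G → ℂ) + 1 := by
              exact_mod_cast (by push_cast at he ⊢; linear_combination he :
                ((n + 1 : ℕ) : ℂ) = ((e + Cfsg.charDegree (q : G → ℂ) + 1 : ℕ) : ℂ))
            omega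
          have hsum : ∀ m : List (Cfsg.IrrCharacter G), (∀ q ∈ m, Cfsg.charDegree (q : G → ℂ) ≤ n) →
              ((m.map fun r : Cfsg.IrrCharacter G => r.1).sum) x = ((m.map fun r : Cfsg.IrrCharacter G => r.1).sum) 1 := by
            intro m hm
            induction m with
            | nil => rfl
            | cons r m ihm =>
              simp only [List.map_cons, List.sum_cons, Pi.add_apply]
              rw [ih r (hm r (List.mem_cons_self ..)) x hx, ihm fun q hq => hm q (List.mem_cons_of_mem _ hq)]
          have hfix : Cfsg.indFun H (fun _ => (1 : ℂ)) x = Cfsg.indFun H (fun _ => (1 : ℂ)) 1 := by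
            rw [hl]; exact hsum l hsmall
          rw [indFun_coset, indFun_coset, Nat.cast_inj] at hfix
          have huniv : MulAction.fixedBy (G ⧸ H) x = Set.univ := by
            refine Set.eq_of_subset_of_ncard_le (Set.subset_univ _) ?_
            rw [← Nat.card_coe_set_eq, ← Nat.card_coe_set_eq, hfix]
            exact le_of_eq (by congr 1; simp)
          have h1 : x • ((1 : G) : G ⧸ H) = ((1 : G) : G ⧸ H) := Set.eq_univ_iff_forall.1 huniv _
          simpa [QuotientGroup.eq] using h1
        have hval : ∀ y ∈ derivedSeries G (n + 1), ∀ hy : y ∈ H, lam ⟨y, hy⟩ = 1 := by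
          intro y hy hyH
          have hle : derivedSeries G (n + 1) ≤ ⁅H, H⁆ := by
            rw [derivedSeries_succ]; exact Subgroup.commutator_mono hD hD
          have hmem : (⟨y, hyH⟩ : H) ∈ commutator H := by
            rw [← Subgroup.mem_map_iff_mem H.subtype_injective, commutator_def, Subgroup.map_commutator,
              ← MonoidHom.range_eq_map, Subgroup.range_subtype]
            exact hle hy
          exact commutator_apply_one lam hmem
        rw [hχ, indFun_apply, indFun_apply]
        congr 1
        refine Finset.sum_congr rfl fun w _ => ?_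
        have hy : w⁻¹ * g * w ∈ derivedSeries G (n + 1) := by
          simpa using (derivedSeries_normal G (n + 1)).conj_mem g hg w⁻¹
        rw [extendByZero_mem' H _ (hD (derivedSeries_antitone G (Nat.le_succ n) hy)),
          extendByZero_mem' H _ (show w⁻¹ * 1 * w ∈ H by simp), hval _ hy]
        exact (congrArg (fun u : ℂˣ => (u : ℂ)) ((congrArg lam (Subtype.ext (by simp) :
          (⟨w⁻¹ * 1 * w, _⟩ : H) = 1)).trans (map_one lam))).symm
    refine ⟨⟨Finset.univ.sup fun χ : Cfsg.IrrCharacter G => Cfsg.charDegree (χ : G → ℂ), ?_⟩⟩
    refine (Subgroup.eq_bot_iff_forall _).2 fun g hg => ?_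
    exact isConj_one_right.1 ((isConj_iff_irr _ _).2 fun χ =>
      key _ χ (Finset.le_sup (f := fun χ : Cfsg.IrrCharacter G => Cfsg.charDegree (χ : G → ℂ)) (Finset.mem_univ χ)) g hg).symm

end Cfsg.Agent.S0175
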