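import Cfsg.Statements.S0178
import Cfsg.Agent.Char.PermLemma

set_option autoImplicit false
open Cfsg

namespace Cfsg.Agent.S0178
open scoped CfsgLib.Char


/-- The degree of an irreducible complex representation of a finite group is at most the index of any abelian subgroup. -/
theorem result {G : Type*} [Group G] [Finite G] {V : Type*} [AddCommGroup V] [Module ℂ V] [FiniteDimensional ℂ V] (ρ : Representation ℂ G V) [ρ.IsIrreducible] (A : Subgroup G) (hA : ∀ a ∈ A, ∀ b ∈ A, a * b = b * a) : Module.finrank ℂ V ≤ A.index := by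
  haveI := Fintype.ofFinite G
  haveI := Fintype.ofFinite A
  have hχ := CfsgLib.Char.isIrr_of_rep ρ inferInstance
  obtain ⟨θ, hθ⟩ := CfsgLib.Char.exists_constituent
    (CfsgLib.Char.isCharacter_restrict A (CfsgLib.Char.isCharacter_of_isIrr hχ))
    (fun h => CfsgLib.Char.irr_one_ne_zero hχ (congrFun h 1))
  have hab : ∀ a b : A, a * b = b * a := fun a b => Subtype.ext (hA a a.2 b b.2)
  have hθ1 : (θ : A → ℂ) 1 = 1 := by
    obtain ⟨n, σ, hσ, hσc⟩ := θ.2
    haveI := hσ
    letI : IsMulCommutative A := ⟨⟨hab⟩⟩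
    rw [← hσc, Representation.char_one,
      Representation.IsIrreducible.finrank_eq_one_of_isMulCommutative σ, Nat.cast_one]
  obtain ⟨m, hm⟩ := CfsgLib.Char.inner_char_irr
    (CfsgLib.Char.isCharacter_indFun A (CfsgLib.Char.isCharacter_of_isIrr θ.2)) hχ
  have hm0 : m ≠ 0 := by
    rintro rfl
    rw [CfsgLib.Char.frobenius A _ (CfsgLib.Char.classFun_of_irr hχ), ← CfsgLib.Char.classInner_conj,
      Nat.cast_zero, map_eq_zero] at hm
    exact hθ hm
  have h1 := congrFun (CfsgLib.Char.classFun_eq_sum (CfsgLib.Char.indFun_classFun A (θ : A → ℂ))) 1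
  simp only [Finset.sum_apply, Pi.smul_apply, smul_eq_mul] at h1
  rw [CfsgLib.Char.indFun_one, hθ1, mul_one] at h1
  choose c hc using fun χ : Cfsg.IrrCharacter G => CfsgLib.Char.inner_char_irr
    (CfsgLib.Char.isCharacter_indFun A (CfsgLib.Char.isCharacter_of_isIrr θ.2)) χ.2
  rw [Finset.sum_congr rfl (g := fun χ : Cfsg.IrrCharacter G =>
    ((c χ * Cfsg.charDegree (χ : G → ℂ) : ℕ) : ℂ)) (fun χ _ => by
      rw [hc, CfsgLib.Char.irr_one_eq χ.2, Nat.cast_mul]), ← Nat.cast_sum, Nat.cast_inj] at h1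
  rw [h1]
  refine le_trans ?_ (Finset.single_le_sum (fun χ _ => Nat.zero_le _)
    (Finset.mem_univ (⟨ρ.character, hχ⟩ : Cfsg.IrrCharacter G)))
  rw [CfsgLib.Char.charDegree_eq ρ.char_one]
  refine Nat.le_mul_of_pos_left _ (Nat.pos_of_ne_zero fun h => hm0 ?_)
  have := hc ⟨ρ.character, hχ⟩
  rw [h, hm, Nat.cast_inj] at this
  exact this

end Cfsg.Agent.S0178
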