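import Cfsg.Statements.S0180
import Cfsg.Agent.Char.Galois
import Cfsg.Agent.Char.Classes

set_option autoImplicit false
open Cfsg

namespace Cfsg.Agent.S0180
open scoped CfsgLib.Char


/-- Every irreducible complex character of a finite group takes only rational values if and only if g is conjugate to g ^ m for every element g and every m coprime to the group order. -/
theorem result {G : Type*} [Group G] [Finite G] : (∀ χ : Cfsg.IrrCharacter G, ∀ g : G, ∃ q : ℚ, (χ : G → ℂ) g = (q : ℂ)) ↔ ∀ m : ℕ, m.Coprime (Nat.card G) → ∀ g : G, IsConj g (g ^ m) := by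
  haveI := Fintype.ofFinite G
  constructor
  · intro h m hm g
    refine (CfsgLib.Char.isConj_iff_irr _ _).2 fun χ => ?_
    obtain ⟨φ, hφ⟩ := CfsgLib.Char.exists_algHom_pow G hm
    have hc := CfsgLib.Char.isCharacter_of_isIrr χ.2
    obtain ⟨q, hq⟩ := h χ g
    rw [← hφ _ hc g, show (⟨(χ : G → ℂ) g, CfsgLib.Char.mem_qbar_of_integral (CfsgLib.Char.char_isIntegral hc g)⟩ :
      CfsgLib.Char.QBar) = algebraMap ℚ CfsgLib.Char.QBar q from Subtype.ext (by simpa using hq)]
    rw [AlgHom.commutes, hq]
    simp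
  · intro h χ g
    have hc := CfsgLib.Char.isCharacter_of_isIrr χ.2
    refine CfsgLib.Char.rat_of_fixed (CfsgLib.Char.mem_qbar_of_integral (CfsgLib.Char.char_isIntegral hc g)) fun φ => ?_
    obtain ⟨m, hm, hφ⟩ := CfsgLib.Char.algHom_char_pow G φ
    rw [hφ _ hc g]
    exact (CfsgLib.Char.classFun_isConj (CfsgLib.Char.classFun_of_irr χ.2) (h m hm g)).symm

end Cfsg.Agent.S0180
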