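import Cfsg.Statements.S0181
import Cfsg.Agent.Char.Induce
import Cfsg.Agent.Char.Classes

set_option autoImplicit false
open Cfsg

namespace Cfsg.Agent.S0181
open scoped CfsgLib.Char


/-- Let H be a normal subgroup of a finite group G and ρ an irreducible complex representation whose kernel does not contain H. If g commutes with no non-identity element of H, then the character of ρ vanishes at g. -/
theorem result {G : Type*} [Group G] [Finite G] {V : Type*} [AddCommGroup V] [Module ℂ V] [FiniteDimensional ℂ V] (ρ : Representation ℂ G V) [ρ.IsIrreducible] (H : Subgroup G) [H.Normal] (hker : ∃ h ∈ H, ρ h ≠ LinearMap.id) (g : G) (hg : ∀ h ∈ H, h * g = g * h → h = 1) : ρ.character g = 0 := by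
  classical
  haveI := Fintype.ofFinite G
  haveI := Fintype.ofFinite (G ⧸ H)
  let π := QuotientGroup.mk' H
  let infl : Cfsg.IrrCharacter (G ⧸ H) → Cfsg.IrrCharacter G := fun χ =>
    ⟨(χ : G ⧸ H → ℂ) ∘ π, CfsgLib.Char.irr_comp π (QuotientGroup.mk'_surjective H) χ.2⟩
  have hinj : Function.Injective infl := fun a b h => Subtype.ext (funext fun q => by
    obtain ⟨x, rfl⟩ := QuotientGroup.mk'_surjective H q
    exact congrFun (congrArg Subtype.val h) x)
  let χ₀ : Cfsg.IrrCharacter G := ⟨ρ.character, CfsgLib.Char.isIrr_of_rep ρ inferInstance⟩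
  have hnot : χ₀ ∉ Finset.univ.image infl := by
    intro h
    obtain ⟨χ, -, hχ⟩ := Finset.mem_image.1 h
    obtain ⟨x, hx, hx'⟩ := hker
    refine hx' ?_
    rw [← Module.End.one_eq_id]
    refine CfsgLib.Char.rep_eq_id_of_char ρ x ?_
    have e1 : (χ : G ⧸ H → ℂ) (π x) = ρ.character x := congrFun (congrArg Subtype.val hχ) x
    have e2 : (χ : G ⧸ H → ℂ) (π 1) = ρ.character 1 := congrFun (congrArg Subtype.val hχ) 1
    rw [← ρ.char_one, ← e1, ← e2]
    show (χ : G ⧸ H → ℂ) (π x) = (χ : G ⧸ H → ℂ) (π 1)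
    rw [show π x = π 1 by rw [map_one]; exact (QuotientGroup.eq_one_iff x).2 hx]
  have e1 := CfsgLib.Char.second_orth g g
  have e2 := CfsgLib.Char.second_orth (π g) (π g)
  rw [if_pos (IsConj.refl _)] at e1 e2
  let r : Cfsg.IrrCharacter G → ℝ := fun χ => Complex.normSq ((χ : G → ℂ) g)
  have s1 : ∑ χ, r χ = (Nat.card (Subgroup.centralizer ({g} : Set G)) : ℝ) := by
    simp only [Complex.mul_conj] at e1
    exact_mod_cast e1
  have s2 : ∑ χ ∈ Finset.univ.image infl, r χ = (Nat.card (Subgroup.centralizer ({π g} : Set (G ⧸ H))) : ℝ) := by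
    rw [Finset.sum_image fun a _ b _ h => hinj h]
    simp only [Complex.mul_conj] at e2
    exact_mod_cast e2
  have hle : Nat.card (Subgroup.centralizer ({g} : Set G)) ≤
      Nat.card (Subgroup.centralizer ({π g} : Set (G ⧸ H))) := by
    refine Nat.card_le_card_of_injective (fun y => ⟨π y, Subgroup.mem_centralizer_singleton_iff.2 (by
      rw [← map_mul, ← map_mul, Subgroup.mem_centralizer_singleton_iff.1 y.2])⟩) fun a b hab => ?_
    have hmem : (a : G)⁻¹ * b ∈ H := QuotientGroup.eq.1 (congrArg Subtype.val hab)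
    exact Subtype.ext (inv_mul_eq_one.1 (hg _ hmem
      (Subgroup.mem_centralizer_singleton_iff.1 (mul_mem (inv_mem a.2) b.2))))
  have hge : ∑ χ ∈ Finset.univ.image infl, r χ + r χ₀ ≤ ∑ χ, r χ := by
    rw [add_comm, ← Finset.sum_insert hnot]
    exact Finset.sum_le_sum_of_subset_of_nonneg (Finset.subset_univ _) fun χ _ _ => Complex.normSq_nonneg _
  rw [s1, s2] at hge
  have hle' : (Nat.card (Subgroup.centralizer ({g} : Set G)) : ℝ) ≤
      Nat.card (Subgroup.centralizer ({π g} : Set (G ⧸ H))) := by exact_mod_cast hle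
  exact Complex.normSq_eq_zero.1 (le_antisymm (by linarith : r χ₀ ≤ 0) (Complex.normSq_nonneg _))

end Cfsg.Agent.S0181
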