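import Cfsg.Statements.S1473
import Cfsg.Agent.Solv.CoprimeAction
import Cfsg.Agent.Solv.MinimalNormal
import Cfsg.Agent.Solv.PComplement
import Cfsg.Agent.Solv.TransferTools
import Cfsg.Agent.Perm.MinClass
import Cfsg.Agent.Solv.Generation

set_option autoImplicit false
open Cfsg

namespace Cfsg.Agent.S1473

universe u

open Subgroup CfsgLib.Solv
open scoped Pointwise

theorem commute_coprime {K : Type u} [Group K] [Finite K] [Group.IsNilpotent K] {p : ℕ} [Fact p.Prime]
    {a b : K} (ha : ∃ k : ℕ, orderOf a = p ^ k) (hb : (orderOf b).Coprime p) : Commute a b := by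
  obtain ⟨k, hk⟩ := ha
  obtain ⟨P, hP⟩ := (IsPGroup.of_card (n := k) (by rw [Nat.card_zpowers, hk]) :
    IsPGroup p (zpowers a)).exists_le_sylow
  haveI hPn : (P : Subgroup K).Normal :=
    ((Group.isNilpotent_of_finite_tfae (G := K)).out 0 3 rfl rfl).1 (inferInstance : Group.IsNilpotent K) p inferInstance P
  haveI := CfsgLib.Inv.pResidual_normal p K
  exact Subgroup.commute_of_normal_of_disjoint (P : Subgroup K) (Cfsg.pResidual p K) hPn inferInstance
    (disjoint_iff.2 ((hnpc_iff_inf P).1 hnpc_of_isNilpotent)) a b (hP (mem_zpowers a))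
    ((hnpc_mem_iff hnpc_of_isNilpotent).2 hb)

theorem commute_in_centralizer {G : Type u} [Group G] [Finite G] (hCN : Cfsg.IsCNGroup G) {p : ℕ}
    [Fact p.Prime] {z a b : G} (hz : z ≠ 1) (hza : Commute a z) (hzb : Commute b z)
    (ha : ∃ k : ℕ, orderOf a = p ^ k) (hb : (orderOf b).Coprime p) : Commute a b := by
  haveI := hCN z hz
  exact congrArg Subtype.val (commute_coprime (K := centralizer ({z} : Set G)) (p := p)
    (a := ⟨a, mem_centralizer_singleton_iff.2 hza.eq⟩) (b := ⟨b, mem_centralizer_singleton_iff.2 hzb.eq⟩)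
    (by simpa only [Subgroup.orderOf_mk] using ha) (by simpa only [Subgroup.orderOf_mk] using hb)).eq

theorem nilp_of_le {G : Type u} [Group G] {A B : Subgroup G} (h : A ≤ B) (hB : Group.IsNilpotent B) :
    Group.IsNilpotent A := by
  haveI := hB
  exact Group.nilpotent_of_mulEquiv (subgroupOfEquivOfLe h)

theorem cn_equiv {G G' : Type u} [Group G] [Group G'] (e : G ≃* G') (h : Cfsg.IsCNGroup G) :
    Cfsg.IsCNGroup G' := by
  intro g hg
  haveI := h (e.symm g) (by simpa using hg)
  have he : centralizer ({e.symm g} : Set G) ≤ (centralizer ({g} : Set G')).comap e.toMonoidHom := by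
    intro x hx
    refine mem_comap.2 (mem_centralizer_singleton_iff.2 ?_)
    have := congrArg e (mem_centralizer_singleton_iff.1 hx)
    simpa using this
  have he' : (centralizer ({g} : Set G')).comap e.toMonoidHom ≤ centralizer ({e.symm g} : Set G) := by
    intro x hx
    refine mem_centralizer_singleton_iff.2 (e.injective ?_)
    simpa using mem_centralizer_singleton_iff.1 (mem_comap.1 hx)
  haveI := nilp_of_le he' this
  exact Group.nilpotent_of_surjective
    ((e.toMonoidHom).subgroupComap (centralizer ({g} : Set G'))) (fun y => by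
      obtain ⟨y, hy⟩ := y
      exact ⟨⟨e.symm y, by simpa [mem_comap] using hy⟩, Subtype.ext (e.apply_symm_apply y)⟩)

theorem base {G : Type u} [Group G] [Finite G] (hCN : Cfsg.IsCNGroup G) {p : ℕ} [Fact p.Prime]
    (V : Subgroup G) [V.Normal] [IsMulCommutative V] (hV : V ≠ ⊥) (hpV : IsPGroup p V) :
    Cfsg.IsCNGroup (G ⧸ V) := by
  intro xb hxb
  set f := QuotientGroup.mk' V
  obtain ⟨l, hl, hlx⟩ := Nat.exists_prime_and_dvd (n := orderOf xb) (by rwa [Ne, orderOf_eq_one_iff])
  haveI := Fact.mk hl
  set yb := xb ^ (orderOf xb / l) with hyb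
  have hyo : orderOf yb = l := orderOf_pow_orderOf_div (orderOf_pos xb).ne' hlx
  have hle : centralizer ({xb} : Set (G ⧸ V)) ≤ centralizer ({yb} : Set (G ⧸ V)) := fun c hc =>
    mem_centralizer_singleton_iff.2 ((show Commute c xb from mem_centralizer_singleton_iff.1 hc).pow_right _).eq
  refine nilp_of_le hle ?_
  obtain ⟨g, hg⟩ := QuotientGroup.mk'_surjective V yb
  by_cases hlp : l = p
  · subst hlp
    -- the preimage is inside a centraliser
    set C := (centralizer ({yb} : Set (G ⧸ V))).comap f with hC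
    set T := zpowers g ⊔ V with hT
    have hgN : g ∉ V := fun h => by
      have : yb = 1 := hg ▸ (QuotientGroup.eq_one_iff g).2 h
      rw [this, orderOf_one] at hyo
      exact hl.ne_one hyo.symm
    have hgp : IsPGroup l T := by
      have hg1 : g ^ l ∈ V := by
        refine (QuotientGroup.eq_one_iff _).1 ?_
        show f (g ^ l) = 1
        rw [map_pow, hg, ← hyo, pow_orderOf_eq_one]
      obtain ⟨k, hk⟩ := hpV ⟨g ^ l, hg1⟩
      have hgz : IsPGroup l (zpowers g) := fun ⟨x, hx⟩ => by
        obtain ⟨i, rfl⟩ := mem_zpowers_iff.1 hx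
        refine ⟨k + 1, Subtype.ext ?_⟩
        have h0 : (g ^ l) ^ l ^ k = 1 := congrArg Subtype.val hk
        rw [← pow_mul, ← pow_succ'] at h0
        show (g ^ i) ^ l ^ (k + 1) = 1
        rw [← zpow_natCast, ← zpow_mul, mul_comm, zpow_mul, zpow_natCast, h0, one_zpow]
      exact hgz.to_sup_of_normal_right hpV
    have hw : ∃ w : G, w ∈ V ∧ w ≠ 1 ∧ ∀ t ∈ T, Commute t w := by
      haveI : (V.subgroupOf T).Normal := inferInstance
      have hne : V.subgroupOf T ≠ ⊥ := by
        rw [Ne, subgroupOf_eq_bot, disjoint_iff]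
        rwa [inf_eq_left.2 (le_sup_right : V ≤ T)]
      obtain ⟨⟨⟨w, hw⟩, hwV, hwZ⟩, hw1⟩ :=
        Subgroup.ne_bot_iff_exists_ne_one.1 (CfsgLib.Perm.inf_center_ne_bot hgp _ hne)
      exact ⟨w, hwV, fun e => hw1 (Subtype.ext (Subtype.ext e)),
        fun t ht => congrArg Subtype.val (mem_center_iff.1 hwZ ⟨t, ht⟩)⟩
    obtain ⟨w, hwV, hw1, hwT⟩ := hw
    have hy : ∀ c ∈ C, (orderOf c).Coprime l → ∀ v ∈ V, Commute v c := by
      intro c hc hco v hv
      have hcx : Commute (f c) (f g) := by
        rw [hg]; exact mem_centralizer_singleton_iff.1 (mem_comap.1 hc)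
      have hcV : zpowers c ≤ normalizer (V : Set G) := by rw [normalizer_eq_top]; exact le_top
      have hcT : zpowers c ≤ normalizer (T : Set G) := by
        have hconj : ∀ d : G, Commute (f d) (f g) → ∀ t ∈ T, d * t * d⁻¹ ∈ T := by
          intro d hd t ht
          have hgd : d * g * d⁻¹ ∈ T := by
            have h1 : g⁻¹ * (d * g * d⁻¹) ∈ V := by
              refine (QuotientGroup.eq_one_iff _).1 ?_
              show f _ = 1
              simp only [map_mul, map_inv]
              rw [hd.eq]; group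
            have := mul_mem (mem_sup_left (mem_zpowers g) : g ∈ T) (mem_sup_right h1 : g⁻¹ * (d * g * d⁻¹) ∈ T)
            rwa [mul_inv_cancel_left] at this
          have hTle : T ≤ T.comap (MulAut.conj d).toMonoidHom :=
            sup_le (zpowers_le.2 hgd) fun v hv => mem_sup_right (Normal.conj_mem inferInstance v hv d)
          exact hTle ht
        rw [zpowers_le, mem_normalizer_iff]
        intro t
        refine ⟨fun ht => hconj c hcx t ht, fun ht => ?_⟩
        have := hconj c⁻¹ (by rw [map_inv]; exact hcx.inv_left) _ ht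
        rwa [inv_inv, show c⁻¹ * (c * t * c⁻¹) * c = t by group] at this
      have hcop : (Nat.card (zpowers c)).Coprime (Nat.card T) := by
        obtain ⟨m, hm⟩ := IsPGroup.iff_card.1 hgp
        rw [Nat.card_zpowers, hm]; exact hco.pow_right m
      obtain ⟨d, hd, hxd⟩ := exists_centralizing_in_coset hcT (Subgroup.inf_eq_bot_of_coprime hcop)
        (le_sup_right : V ≤ T) hcV (hcop.of_dvd_right (card_dvd_of_le (le_sup_right : V ≤ T)))
        (Or.inr (Group.isSolvable_of_comm fun a b => (inferInstance : IsMulCommutative V).is_comm.comm a b))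
        (mem_sup_left (mem_zpowers g) : g ∈ T) (fun a ha => by
          refine (QuotientGroup.eq_one_iff _).1 ?_
          show f _ = 1
          obtain ⟨i, rfl⟩ := mem_zpowers_iff.1 ha
          simp only [map_mul, map_inv, map_zpow]
          rw [mul_assoc (f g)⁻¹, (hcx.zpow_left i).eq]; group)
      have hgd1 : g * d ≠ 1 := fun e => hgN (by rw [eq_inv_of_mul_eq_one_left e]; exact inv_mem hd)
      have h1 : Commute c (g * d) := (mem_centralizer_iff.1 hxd c (mem_zpowers c))
      have h2 : Commute w (g * d) := (hwT _ (mul_mem (mem_sup_left (mem_zpowers g)) (mem_sup_right hd))).symm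
      have hord : ∀ u ∈ V, ∃ k : ℕ, orderOf u = l ^ k := fun u hu => by
        obtain ⟨k, hk⟩ := IsPGroup.iff_orderOf.1 hpV ⟨u, hu⟩
        exact ⟨k, by rwa [Subgroup.orderOf_mk] at hk⟩
      have h3 : Commute w c := commute_in_centralizer hCN hgd1 h2 h1 (hord w hwV) hco
      exact commute_in_centralizer hCN hw1 (commute_of_isMulCommutative hv hwV) h3.symm (hord v hv) hco
    obtain ⟨P⟩ : Nonempty (Sylow l C) := inferInstance
    have hVC : V ≤ C := fun v hv => mem_comap.2 (by
      rw [show f v = 1 from (QuotientGroup.eq_one_iff v).2 hv]; exact one_mem _)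
    haveI : (V.subgroupOf C).Normal := inferInstance
    have hVP : V.subgroupOf C ≤ (P : Subgroup C) := by
      have hVp : IsPGroup l (V.subgroupOf C) := hpV.comap_of_injective C.subtype C.subtype_injective
      obtain ⟨Q, hQ⟩ := hVp.exists_le_sylow
      obtain ⟨t, rfl⟩ := MulAction.exists_smul_eq C Q P
      intro v hv
      rw [Sylow.coe_subgroup_smul, Subgroup.mem_pointwise_smul_iff_inv_smul_mem]
      exact hQ (by simpa [MulAut.smul_def] using
        Normal.conj_mem inferInstance v hv t⁻¹)
    obtain ⟨⟨⟨z, hzP⟩, hzV, hzZ⟩, hz1⟩ := Subgroup.ne_bot_iff_exists_ne_one.1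
      (CfsgLib.Perm.inf_center_ne_bot P.isPGroup' ((V.subgroupOf C).subgroupOf (P : Subgroup C)) (by
        rw [Ne, subgroupOf_eq_bot, disjoint_iff, inf_eq_left.2 hVP, subgroupOf_eq_bot, disjoint_iff,
          inf_eq_left.2 hVC]
        exact hV))
    have hz0 : (z : G) ≠ 1 := fun e => hz1 (Subtype.ext (Subtype.ext (Subtype.ext e)))
    have hall : C ≤ centralizer ({(z : G)} : Set G) := by
      set D := (centralizer ({(z : G)} : Set G)).subgroupOf C with hD
      suffices D = ⊤ from fun c hc => (this ▸ mem_top (⟨c, hc⟩ : C) : (⟨c, hc⟩ : C) ∈ D)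
      rw [← index_eq_one]
      by_contra hne
      obtain ⟨s, hs, hsd⟩ := Nat.exists_prime_and_dvd hne
      haveI := Fact.mk hs
      by_cases hsl : s = l
      · subst hsl
        refine P.not_dvd_index (hsd.trans (index_dvd_of_le fun c hc => ?_))
        refine mem_subgroupOf.2 (mem_centralizer_singleton_iff.2 ?_)
        exact congrArg (fun x : (P : Subgroup C) => ((x : C) : G)) (mem_center_iff.1 hzZ ⟨c, hc⟩)
      · obtain ⟨S⟩ : Nonempty (Sylow s C) := inferInstance
        refine S.not_dvd_index (hsd.trans (index_dvd_of_le fun c hc => ?_))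
        refine mem_subgroupOf.2 (mem_centralizer_singleton_iff.2 ?_)
        obtain ⟨k, hk⟩ := IsPGroup.iff_orderOf.1 S.isPGroup' ⟨c, hc⟩
        rw [Subgroup.orderOf_mk] at hk
        exact (hy c c.2 (by rw [Subgroup.orderOf_coe, hk]; exact ((Nat.coprime_primes hs hl).2 hsl).pow_left k)
          z hzV).symm.eq
    haveI := nilp_of_le hall (hCN z hz0)
    exact Group.nilpotent_of_surjective (f.subgroupComap (centralizer ({yb} : Set (G ⧸ V))))
      (MonoidHom.subgroupComap_surjective_of_surjective f _ (QuotientGroup.mk'_surjective V))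
  · -- coprime case
    obtain ⟨x, hfx, hxl⟩ : ∃ x : G, (∃ j : ℕ, f x = yb ^ j ∧ f x ≠ 1) ∧ orderOf x = l := by
      set n := orderOf g
      set a := n.factorization l
      have hn : n = l ^ a * (n / l ^ a) := (Nat.ordProj_mul_ordCompl_eq_self n l).symm
      set j := n / l ^ a
      have hj : ¬ l ∣ j := Nat.not_dvd_ordCompl hl (orderOf_pos g).ne'
      have hx1 : f (g ^ j) ≠ 1 := by
        rw [map_pow, hg]
        intro e
        exact hj (hyo ▸ orderOf_dvd_of_pow_eq_one e)
      refine ⟨g ^ j, ⟨j, by rw [map_pow, hg], hx1⟩, ?_⟩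
      have hxa : (g ^ j) ^ l ^ a = 1 := by rw [← pow_mul, mul_comm, ← hn, pow_orderOf_eq_one]
      have hxV : (g ^ j) ^ l ∈ V := by
        refine (QuotientGroup.eq_one_iff _).1 ?_
        show f _ = 1
        rw [map_pow, map_pow, hg, ← pow_mul, mul_comm, pow_mul, ← hyo, pow_orderOf_eq_one, one_pow]
      refine orderOf_eq_prime ?_ fun e => hx1 (by rw [e, map_one])
      obtain ⟨k, hk⟩ := hpV ⟨_, hxV⟩
      have h1 : orderOf ((g ^ j) ^ l) ∣ p ^ k := orderOf_dvd_of_pow_eq_one (congrArg Subtype.val hk)
      have h2 : orderOf ((g ^ j) ^ l) ∣ l ^ a := (orderOf_pow_dvd _).trans (orderOf_dvd_of_pow_eq_one hxa)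
      exact orderOf_eq_one_iff.1 (Nat.eq_one_of_dvd_coprimes
        (((Nat.coprime_primes (Fact.out : p.Prime) hl).2 (Ne.symm hlp)).pow k a) h1 h2)
    obtain ⟨j, hj, hj1⟩ := hfx
    have hle2 : centralizer ({yb} : Set (G ⧸ V)) ≤ centralizer ({f x} : Set (G ⧸ V)) := fun c hc =>
      mem_centralizer_singleton_iff.2 (by
        rw [hj]; exact ((show Commute c yb from mem_centralizer_singleton_iff.1 hc).pow_right _).eq)
    refine nilp_of_le hle2 ?_
    have hx0 : x ≠ 1 := fun e => hj1 (by rw [e, map_one])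
    haveI := hCN x hx0
    refine nilp_of_le (B := (centralizer ({x} : Set G)).map f) (fun cb hcb => ?_)
      (Group.nilpotent_of_surjective (f.subgroupMap (centralizer ({x} : Set G))) (f.subgroupMap_surjective _))
    obtain ⟨c, rfl⟩ := QuotientGroup.mk'_surjective V cb
    have hc : Commute (f c) (f x) := mem_centralizer_singleton_iff.1 hcb
    have hcop : (Nat.card (zpowers x)).Coprime (Nat.card V) := by
      obtain ⟨m, hm⟩ := IsPGroup.iff_card.1 hpV
      rw [Nat.card_zpowers, hxl, hm]
      exact ((Nat.coprime_primes hl (Fact.out : p.Prime)).2 hlp).pow_right m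
    set x' := c * x * c⁻¹ with hx'
    have hd : x⁻¹ * x' ∈ V := by
      refine (QuotientGroup.eq_one_iff _).1 ?_
      show f _ = 1
      simp only [hx', map_mul, map_inv]
      rw [hc.eq]; group
    have hNV : ∀ y : G, zpowers y ≤ normalizer (V : Set G) := fun y => by rw [normalizer_eq_top]; exact le_top
    have hsup : zpowers x ⊔ V = zpowers x' ⊔ V := by
      refine le_antisymm (sup_le (zpowers_le.2 ?_) le_sup_right) (sup_le (zpowers_le.2 ?_) le_sup_right)
      · have := mul_mem (mem_sup_left (mem_zpowers x') : x' ∈ zpowers x' ⊔ V)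
          (inv_mem (mem_sup_right hd : x⁻¹ * x' ∈ zpowers x' ⊔ V))
        simpa [mul_assoc] using this
      · have := mul_mem (mem_sup_left (mem_zpowers x) : x ∈ zpowers x ⊔ V) (mem_sup_right hd)
        simpa using this
    obtain ⟨v0, hv0, hve0⟩ := conj_complement_in_sup' (hNV x) (hNV x') hsup hcop
      (by rw [Nat.card_zpowers, hx', show c * x * c⁻¹ = MulAut.conj c x from rfl, MulEquiv.orderOf_eq,
        ← Nat.card_zpowers]; exact hcop)
      (Or.inl (Group.isSolvable_of_comm fun a b => (inferInstance : IsMulCommutative V).is_comm.comm a b))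
    obtain ⟨v, hv, a, ha, rfl⟩ := exists_mul_of_mem_sup (hNV x) hv0
    have hve : MulAut.conj v • zpowers x = zpowers x' := by
      rwa [map_mul, mul_smul, conj_smul_eq_self_of_mem_normalizer (Subgroup.le_normalizer ha)] at hve0
    have hmem : v⁻¹ * x' * v ∈ zpowers x := by
      have : x' ∈ MulAut.conj v • zpowers x := hve ▸ mem_zpowers x'
      rw [mem_conj_smul_iff] at this
      simpa using this
    have heq : v⁻¹ * x' * v = x := by
      have hdiff : x⁻¹ * (v⁻¹ * x' * v) ∈ zpowers x ⊓ V := by
        refine ⟨(zpowers x).mul_mem ((zpowers x).inv_mem (mem_zpowers x)) hmem, (QuotientGroup.eq_one_iff _).1 ?_⟩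
        show f _ = 1
        have h1 : f v = 1 := (QuotientGroup.eq_one_iff v).2 hv
        have h2 : f (x⁻¹ * x') = 1 := (QuotientGroup.eq_one_iff _).2 hd
        rw [map_mul] at h2
        simp only [map_mul, map_inv, h1, inv_one, one_mul, mul_one] at h2 ⊢
        exact h2
      rw [Subgroup.inf_eq_bot_of_coprime hcop, mem_bot, inv_mul_eq_one] at hdiff
      exact hdiff.symm
    refine ⟨v⁻¹ * c, mem_centralizer_singleton_iff.2 ?_, ?_⟩
    · calc v⁻¹ * c * x = v⁻¹ * x' * v * (v⁻¹ * c) := by rw [hx']; group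
        _ = x * (v⁻¹ * c) := by rw [heq]
    · rw [map_mul, map_inv, show f v = 1 from (QuotientGroup.eq_one_iff v).2 hv, inv_one, one_mul]

theorem aux : ∀ (n : ℕ) (G : Type u) [Group G] [Finite G], Nat.card G = n → Cfsg.IsCNGroup G →
    ∀ (H : Subgroup G) [H.Normal], Group.IsSolvable H → Cfsg.IsCNGroup (G ⧸ H) := by
  intro n
  induction n using Nat.strong_induction_on with | _ n ih =>
  intro G _ _ hn hCN H _ hH
  by_cases hH0 : H = ⊥
  · subst hH0
    exact cn_equiv (QuotientGroup.quotientBot).symm hCN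
  obtain ⟨V, hV, hVH⟩ := exists_isMinimalNormal_le H hH0
  haveI := hV.1
  haveI := hH
  haveI : Group.IsSolvable V := isSolvable_of_le hVH
  haveI := isMulCommutative_of_minimal_solvable hV inferInstance
  obtain ⟨p, hp, -, hpV⟩ := exists_prime_exponent_of_minimal_solvable hV inferInstance
  haveI := Fact.mk hp
  have hlt : Nat.card (G ⧸ V) < n := by
    rw [← hn, V.card_eq_card_quotient_mul_card_subgroup]
    exact lt_mul_of_one_lt_right Nat.card_pos (one_lt_card_iff_ne_bot _ |>.2 hV.2.1)
  haveI : (H.map (QuotientGroup.mk' V)).Normal := Normal.map inferInstance _ (QuotientGroup.mk'_surjective V)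
  have hs : Group.IsSolvable (H.map (QuotientGroup.mk' V)) :=
    Group.isSolvable_of_surjective (f := (QuotientGroup.mk' V).subgroupMap H) (MonoidHom.subgroupMap_surjective _ _)
  exact cn_equiv (QuotientGroup.quotientQuotientEquivQuotient V H hVH)
    (ih _ hlt (G ⧸ V) rfl (base hCN V hV.2.1 hpV) _ hs)


/-- Let G be a finite group in which the centralizer of every non-identity element is nilpotent, and H a solvable normal subgroup of G. Then in G/H the centralizer of every non-identity element is nilpotent. -/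
theorem result {G : Type*} [Group G] [Finite G] (hCN : Cfsg.IsCNGroup G) (H : Subgroup G) [H.Normal] (hH : Group.IsSolvable H) :
    Cfsg.IsCNGroup (G ⧸ H) := by
  exact aux _ G rfl hCN H hH

end Cfsg.Agent.S1473
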