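import Cfsg.Statements.S0183
import Cfsg.Agent.Char.NoCover
import Cfsg.Agent.OddLocal.MinSimpleCNStructure
import Cfsg.Agent.S1473

set_option autoImplicit false
open Cfsg

namespace Cfsg.Agent.S0183

universe u

theorem cn_subgroup {G : Type u} [Group G] [Finite G] (hCN : Cfsg.IsCNGroup G) (H : Subgroup G) :
    Cfsg.IsCNGroup H := by
  intro x hx
  haveI := hCN (x : G) fun h => hx (Subtype.ext h)
  let f : Subgroup.centralizer ({x} : Set H) →* Subgroup.centralizer ({(x : G)} : Set G) :=
    { toFun := fun y => ⟨((y : H) : G), Subgroup.mem_centralizer_singleton_iff.2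
        (congrArg Subtype.val (Subgroup.mem_centralizer_singleton_iff.1 y.2))⟩
      map_one' := rfl
      map_mul' := fun _ _ => rfl }
  refine Subgroup.isNilpotent_of_ker_le_center f ?_
  intro y hy
  have e : ((f y : Subgroup.centralizer ({(x : G)} : Set G)) : G) = 1 := by rw [MonoidHom.mem_ker.1 hy]; rfl
  rw [show y = 1 from Subtype.ext (Subtype.ext e)]
  exact one_mem _

theorem not_minSimple {G : Type u} [Group G] [Fintype G] (hG : Cfsg.IsMinSimpleOddOrder G)
    (hCN : Cfsg.IsCNGroup G) : False := by
  classical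
  open CfsgLib.OddLocal.CN in
  · haveI := hG.2.1
    let rel : Setoid {H : Subgroup G // MaxNilp H} :=
      { r := fun H K => ∃ g : G, K.1 = H.1.map (MulAut.conj g).toMonoidHom
        iseqv := ⟨fun H => ⟨1, by ext x; simp⟩,
          fun {H K} ⟨g, hg⟩ => ⟨g⁻¹, by rw [hg, Subgroup.map_map]; ext x; simp [mul_assoc]⟩,
          fun {H K L} ⟨g, hg⟩ ⟨g', hg'⟩ => ⟨g' * g, by rw [hg', hg, Subgroup.map_map]; ext x; simp [mul_assoc]⟩⟩ }
    haveI : Fintype (Quotient rel) := Fintype.ofFinite _
    let D : Quotient rel → CfsgLib.NoCover.Datum G := fun i =>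
      { L := Subgroup.normalizer ((i.out.1 : Subgroup G) : Set G)
        H := i.out.1
        lt := by
          obtain ⟨E, ⟨hle, hEN, hi, -⟩, hE, -⟩ := i.out.2.exists_compl hG hCN
          refine lt_of_le_of_ne hle fun h => hE ?_
          rw [← h] at hEN
          rw [← hi, inf_eq_right.2 hEN]
        ne_bot := i.out.2.ne_bot hG
        norm := fun x hx h hh => (Subgroup.mem_normalizer_iff.1 hx h).1 hh
        cent := fun h hh h1 x hx =>
          i.out.2.centralizer_le hG hCN hh h1 (Subgroup.mem_centralizer_singleton_iff.2 hx)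
        ti := fun g hg x hx hgx => by
          have hne : (i.out.1 : Subgroup G).map (MulAut.conj g).toMonoidHom ≠ i.out.1 := fun h => hg (by
            refine Subgroup.mem_normalizer_iff.2 fun y => ⟨fun hy => h ▸ ⟨y, hy, rfl⟩, fun hy => ?_⟩
            obtain ⟨y', hy', e⟩ := (h.symm ▸ hy : g * y * g⁻¹ ∈ (i.out.1 : Subgroup G).map (MulAut.conj g).toMonoidHom)
            rw [MulEquiv.coe_toMonoidHom, MulAut.conj_apply, mul_left_inj, mul_right_inj] at e
            exact e ▸ hy')
          have := i.out.2.ti hG hCN g hne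
          have hmem : g * x * g⁻¹ ∈ (i.out.1 : Subgroup G) ⊓ (i.out.1 : Subgroup G).map (MulAut.conj g).toMonoidHom :=
            Subgroup.mem_inf.2 ⟨hgx, ⟨x, hx, rfl⟩⟩
          rw [this, Subgroup.mem_bot, conj_eq_one_iff] at hmem
          exact hmem }
    have hcov : ∀ g : G, g ≠ 1 → ∃ i, ∃ x : G, x⁻¹ * g * x ∈ (D i).H := by
      intro g _
      letI : CommGroup (Subgroup.zpowers g) := IsCyclic.commGroup
      obtain ⟨K, hK, hgK⟩ := exists_maxNilp (L := Subgroup.zpowers g) inferInstance
      obtain ⟨y, hy⟩ := Quotient.mk_out (s := rel) ⟨K, hK⟩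
      refine ⟨Quotient.mk rel ⟨K, hK⟩, y, ?_⟩
      have hmem : g ∈ ((Quotient.mk rel ⟨K, hK⟩).out.1).map (MulAut.conj y).toMonoidHom := hy ▸ hgK (Subgroup.mem_zpowers g)
      obtain ⟨w, hw, e⟩ := hmem
      have e' : y * w * y⁻¹ = g := e
      rw [← e', show y⁻¹ * (y * w * y⁻¹) * y = w by group]
      exact hw
    obtain ⟨g, hg⟩ := exists_ne (1 : G)
    refine CfsgLib.NoCover.no_cover hG.1 ⟨(hcov g hg).choose⟩ D (fun i j hij => ?_) hcov
    refine (i.out.2.conj_or_coprime hG hCN j.out.2).resolve_left fun h => hij ?_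
    rw [← Quotient.out_eq i, ← Quotient.out_eq j]
    exact Quotient.sound h

theorem solvable_of_card : ∀ n : ℕ, ∀ (G : Type u) [Group G] [Finite G], Nat.card G = n →
    Odd (Nat.card G) → Cfsg.IsCNGroup G → Group.IsSolvable G := by
  intro n
  induction n using Nat.strong_induction_on with
  | _ n ih =>
    intro G _ _ hn hodd hCN
    by_contra hns
    have hsub : ∀ H : Subgroup G, H ≠ ⊤ → Group.IsSolvable H := by
      intro H hH
      refine ih _ ?_ H rfl (hodd.of_dvd_nat (Subgroup.card_subgroup_dvd_card H)) (cn_subgroup hCN H)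
      rw [← hn]
      exact lt_of_le_of_ne (Subgroup.card_le_card_group H) fun h => hH (Subgroup.eq_top_of_card_eq H h)
    haveI : Nontrivial G := by
      by_contra h
      rw [not_nontrivial_iff_subsingleton] at h
      exact hns inferInstance
    have hsimple : IsSimpleGroup G := ⟨fun N hN => by
      by_contra h
      push Not at h
      obtain ⟨h1, h2⟩ := h
      haveI := hsub N h2
      haveI : Group.IsSolvable (G ⧸ N) := by
        refine ih _ ?_ (G ⧸ N) rfl (hodd.of_dvd_nat (Subgroup.card_quotient_dvd_card N))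
          (Cfsg.Agent.S1473.result hCN N (hsub N h2))
        rw [← hn, Subgroup.card_eq_card_quotient_mul_card_subgroup N]
        have : 1 < Nat.card N := (Subgroup.one_lt_card_iff_ne_bot N).2 h1
        exact lt_mul_of_one_lt_right Nat.card_pos this
      exact hns (Group.isSolvable_of_ker_le_range N.subtype (QuotientGroup.mk' N)
        (by rw [QuotientGroup.ker_mk', Subgroup.range_subtype]))⟩
    letI := Fintype.ofFinite G
    exact not_minSimple ⟨hodd, hsimple, fun h => hns (Group.isSolvable_of_comm fun a b => h.is_comm.comm a b), hsub⟩ hCN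

/-- The CN-Theorem for odd order: a finite group of odd order in which every non-identity element has a nilpotent centralizer (a CN-group) is solvable. -/
theorem result {G : Type*} [Group G] [Finite G] (hodd : Odd (Nat.card G)) (hCN : Cfsg.IsCNGroup G) : Group.IsSolvable G :=
  solvable_of_card _ G rfl hodd hCN

end Cfsg.Agent.S0183
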