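import Cfsg.Statements.S0184
import Cfsg.Agent.Char.Classes
import Cfsg.Agent.Char.Monomial
import Mathlib.GroupTheory.Sylow
import Mathlib.RingTheory.IntegralDomain

set_option autoImplicit false
open Cfsg

namespace Cfsg.Agent.S0184
open scoped CfsgLib.Char


/-- A finite p-group admits a faithful irreducible complex representation if and only if its centre is cyclic. -/
theorem result {G : Type*} [Group G] [Finite G] (p : ℕ) [Fact p.Prime] (hG : IsPGroup p G) : (∃ (n : ℕ) (ρ : Representation ℂ G (Fin n → ℂ)), ρ.IsIrreducible ∧ Function.Injective ρ) ↔ IsCyclic (Subgroup.center G) := by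
  classical
  haveI := Fintype.ofFinite G
  open CfsgLib.Char in
  · constructor
    · rintro ⟨n, ρ, hirr, hinj⟩
      haveI := hirr
      have h : ∀ z : Subgroup.center G, ∃ c : ℂ, ρ (z : G) = c • LinearMap.id := fun z =>
        schur_scalar ρ (ρ (z : G)) fun g v => by
          rw [← Module.End.mul_apply, ← map_mul, ← Subgroup.mem_center_iff.mp z.2 g, map_mul, Module.End.mul_apply]
      choose c hc using h
      haveI : Nontrivial (Fin n → ℂ) := Module.finrank_pos_iff.1 (finrank_pos_of_irreducible ρ)
      have hcu : ∀ a b : ℂ, a • (LinearMap.id : Module.End ℂ (Fin n → ℂ)) = b • LinearMap.id → a = b := fun a b e =>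
        smul_left_injective ℂ (one_ne_zero : (1 : Module.End ℂ (Fin n → ℂ)) ≠ 0) e
      let f : Subgroup.center G →* ℂ :=
        { toFun := c
          map_one' := hcu _ _ (by rw [← hc, Subgroup.coe_one, map_one, one_smul]; rfl)
          map_mul' := fun a b => hcu _ _ (by
            rw [← hc, Subgroup.coe_mul, map_mul, hc, hc, smul_mul_smul_comm]; rfl) }
      exact isCyclic_of_injective_ringHom f (fun a b e => Subtype.ext (hinj (by
        rw [hc, hc]; exact congrArg (· • LinearMap.id) e)))
    · intro hcyc
      by_cases htriv : Subgroup.center G = ⊥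
      · haveI : Subsingleton G := by
          by_contra h
          haveI : Nontrivial G := not_subsingleton_iff_nontrivial.1 h
          exact (Subgroup.nontrivial_iff_ne_bot _).1 hG.center_nontrivial htriv
        obtain ⟨n, ρ, hirr, -⟩ := isIrr_one (G := G)
        exact ⟨n, ρ, hirr, fun a b _ => Subsingleton.elim a b⟩
      have hp : p.Prime := Fact.out
      haveI : Nontrivial (Subgroup.center G) := (Subgroup.nontrivial_iff_ne_bot _).2 htriv
      obtain ⟨a, ha0, ha⟩ := (hG.to_subgroup _).nontrivial_iff_card.1 ‹_›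
      obtain ⟨z, hz⟩ := exists_prime_orderOf_dvd_card' p (show p ∣ Nat.card (Subgroup.center G) from ha ▸ dvd_pow_self p (by omega))
      have hz1 : (z : G) ≠ 1 := fun e => by
        rw [show z = 1 from Subtype.ext e, orderOf_one] at hz
        exact hp.one_lt.ne hz
      obtain ⟨χ, hχ⟩ : ∃ χ : Cfsg.IrrCharacter G, (χ : G → ℂ) z ≠ (χ : G → ℂ) 1 := by
        by_contra h
        push Not at h
        exact hz1 (isConj_one_right.1 ((isConj_iff_irr _ _).2 h).symm)
      obtain ⟨n, ρ, hirr, hρ⟩ := χ.2
      refine ⟨n, ρ, hirr, ?_⟩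
      by_contra hinj
      let K : Subgroup G := ρ.toHomUnits.ker
      have hK : ∀ g, g ∈ K ↔ ρ g = 1 := fun g => by rw [MonoidHom.mem_ker, Units.ext_iff]; rfl
      have hKne : K ≠ ⊥ := fun e => hinj fun u v h => by
        have hK' : ρ.toHomUnits u = ρ.toHomUnits v := Units.ext h
        exact (MonoidHom.ker_eq_bot_iff _).1 e hK'
      haveI : K.Normal := MonoidHom.normal_ker _
      haveI : Nontrivial K := (Subgroup.nontrivial_iff_ne_bot _).2 hKne
      have hinter : Nontrivial ↥(K ⊓ Subgroup.center G) := by
        let _ : MulAction (ConjAct G) K := inferInstance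
        have hpa : IsPGroup p (ConjAct G) := hG.of_equiv ConjAct.toConjAct
        obtain ⟨b, hb0, hb⟩ := (hG.to_subgroup K).nontrivial_iff_card.1 ‹_›
        obtain ⟨w, hw, hw1⟩ := hpa.exists_fixed_point_of_prime_dvd_card_of_fixed_point (α := K) (hb ▸ dvd_pow_self p (by omega))
          (a := 1) (fun g => Subtype.ext (by simp [ConjAct.smul_def]))
        refine (Subgroup.nontrivial_iff_ne_bot _).2 fun e => hw1 (Subtype.ext ?_)
        have : (w : G) ∈ K ⊓ Subgroup.center G := ⟨w.2, Subgroup.mem_center_iff.2 fun g => by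
          have := congrArg Subtype.val (hw (ConjAct.toConjAct g))
          rw [ConjAct.Subgroup.val_conj_smul, ConjAct.smul_def, ConjAct.ofConjAct_toConjAct] at this
          exact mul_inv_eq_iff_eq_mul.1 this⟩
        rw [e, Subgroup.mem_bot] at this
        exact this.symm
      obtain ⟨b, hb0, hb⟩ := (hG.to_subgroup (K ⊓ Subgroup.center G)).nontrivial_iff_card.1 hinter
      obtain ⟨w, hw⟩ := exists_prime_orderOf_dvd_card' p (show p ∣ Nat.card ↥(K ⊓ Subgroup.center G) from hb ▸ dvd_pow_self p (by omega))
      have hwz : z ∈ Subgroup.zpowers (⟨(w : G), (Subgroup.mem_inf.1 w.2).2⟩ : Subgroup.center G) := by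
        haveI := Fintype.ofFinite (Subgroup.center G)
        let w' : Subgroup.center G := ⟨(w : G), (Subgroup.mem_inf.1 w.2).2⟩
        let S : Finset (Subgroup.center G) := Finset.univ.filter fun v => v ^ p = 1
        let T : Finset (Subgroup.center G) := Finset.univ.filter fun v => v ∈ Subgroup.zpowers w'
        have hw' : orderOf w' = p := by rw [← Subgroup.orderOf_coe, ← hw, ← Subgroup.orderOf_coe w]
        have hTS : T ⊆ S := fun v hv => Finset.mem_filter.2 ⟨Finset.mem_univ _, orderOf_dvd_iff_pow_eq_one.1 (by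
          have := Subgroup.orderOf_dvd_natCard (Subgroup.zpowers w') (Finset.mem_filter.1 hv).2
          rwa [Nat.card_zpowers, hw'] at this)⟩
        have hS : S.card ≤ p := IsCyclic.card_pow_eq_one_le hp.pos
        have hT : T.card = p := by
          rw [← hw', ← Nat.card_zpowers, Nat.card_eq_fintype_card, Fintype.card_subtype]
        have : z ∈ T := by
          rw [Finset.eq_of_subset_of_card_le hTS (by omega)]
          exact Finset.mem_filter.2 ⟨Finset.mem_univ _, orderOf_dvd_iff_pow_eq_one.1 (hz ▸ dvd_rfl)⟩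
        exact (Finset.mem_filter.1 this).2
      obtain ⟨i, hi⟩ := Subgroup.mem_zpowers_iff.1 hwz
      have hzK : (z : G) ∈ K := by
        have : (w : G) ^ i = z := congrArg Subtype.val hi
        rw [← this]; exact Subgroup.zpow_mem _ (Subgroup.mem_inf.1 w.2).1 i
      refine hχ ?_
      rw [← hρ]
      show LinearMap.trace ℂ _ (ρ z) = LinearMap.trace ℂ _ (ρ 1)
      rw [(hK _).1 hzK, map_one ρ]

end Cfsg.Agent.S0184
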