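import Cfsg.Statements.S0185
import Cfsg.Agent.Char.PermLemma

set_option autoImplicit false
open Cfsg

namespace Cfsg.Agent.S0185
open scoped CfsgLib.Char commutatorElement


/-- If a finite group has a faithful complex representation of degree less than the smallest prime dividing its order, the group is abelian. -/
theorem result {G : Type*} [Group G] [Finite G] {V : Type*} [AddCommGroup V] [Module ℂ V] [FiniteDimensional ℂ V] (ρ : Representation ℂ G V) (hfaithful : Function.Injective ρ) (hdeg : ∀ p : ℕ, p.Prime → p ∣ Nat.card G → Module.finrank ℂ V < p) (a b : G) : a * b = b * a := by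
  classical
  haveI := Fintype.ofFinite G
  have hχ := CfsgLib.Char.isCharacter_of_rep ρ
  obtain ⟨K, -, hK, -⟩ := CfsgLib.Char.exists_kernel hχ
  have hc : ρ.character ⁅a, b⁆ = ρ.character 1 :=
    CfsgLib.Char.apply_eq_of_linear_constituents hχ (fun χ hne => by
      by_contra h1
      obtain ⟨d, hd0, hd⟩ := CfsgLib.Char.irr_deg χ.2
      obtain ⟨q, hq, hqd⟩ := Nat.exists_prime_and_dvd (n := d) (fun e => h1 (by rw [hd, e]; simp))
      have hqG : q ∣ Nat.card G := hqd.trans (CfsgLib.Char.charDegree_eq hd ▸ CfsgLib.Char.degree_dvd_card χ.2)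
      choose m hm using fun θ : Cfsg.IrrCharacter G => CfsgLib.Char.inner_char_irr hχ θ.2
      have hsum := congrFun (CfsgLib.Char.classFun_eq_sum (CfsgLib.Char.classFun_of_char hχ)) 1
      simp only [Finset.sum_apply, Pi.smul_apply, smul_eq_mul, Representation.char_one] at hsum
      rw [Finset.sum_congr rfl (g := fun θ : Cfsg.IrrCharacter G =>
        ((m θ * Cfsg.charDegree (θ : G → ℂ) : ℕ) : ℂ)) (fun θ _ => by
        rw [hm, CfsgLib.Char.irr_one_eq θ.2, Nat.cast_mul]), ← Nat.cast_sum, Nat.cast_inj] at hsum
      have h2 : d ≤ Module.finrank ℂ V := by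
        rw [hsum]
        refine le_trans ?_ (Finset.single_le_sum (fun θ _ => Nat.zero_le _) (Finset.mem_univ χ))
        rw [CfsgLib.Char.charDegree_eq hd]
        exact Nat.le_mul_of_pos_left _ (Nat.pos_of_ne_zero fun e => hne (by rw [hm, e]; simp))
      have h3 := Nat.le_of_dvd hd0 hqd
      have h4 := hdeg q hq hqG
      omega) (Subgroup.commutator_mem_commutator (Subgroup.mem_top a) (Subgroup.mem_top b))
  exact commutatorElement_eq_one_iff_mul_comm.1 (hfaithful (by
    rw [CfsgLib.Char.rep_eq_id_of_char ρ _ (hc.trans ρ.char_one), map_one]))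

end Cfsg.Agent.S0185
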