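import Cfsg.Statements.S0186
import Cfsg.Agent.Char.PermLemma

set_option autoImplicit false
open Cfsg

namespace Cfsg.Agent.S0186
open scoped CfsgLib.Char


/-- Let G be a finite simple group of order n and p a prime dividing n. If G has more than n / p^2 conjugacy classes, then every Sylow p-subgroup of G is abelian. -/
theorem result {G : Type*} [Group G] [Finite G] [IsSimpleGroup G] (p : ℕ) [Fact p.Prime] (hp : p ∣ Nat.card G) (hmany : Nat.card G < p ^ 2 * Nat.card (ConjClasses G)) (P : Sylow p G) (a b : G) (ha : a ∈ P) (hb : b ∈ P) : a * b = b * a := by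
  classical
  haveI := Fintype.ofFinite G
  haveI := Fintype.ofFinite (P : Subgroup G)
  by_cases hp2 : p ^ 2 ∣ Nat.card G
  swap
  · obtain ⟨k, hk⟩ := IsPGroup.iff_card.1 P.isPGroup'
    have hk1 : k ≤ 1 := by
      by_contra h
      exact hp2 ((pow_dvd_pow p (by omega)).trans (hk ▸ Subgroup.card_subgroup_dvd_card _))
    haveI : IsCyclic (P : Subgroup G) := by
      interval_cases k
      · haveI : Subsingleton (P : Subgroup G) := (Nat.card_eq_one_iff_unique.1 (by simpa using hk)).1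
        infer_instance
      · exact isCyclic_of_prime_card (p := p) (by simpa using hk)
    letI := IsCyclic.commGroup (α := (P : Subgroup G))
    exact congrArg Subtype.val (mul_comm (⟨a, ha⟩ : (P : Subgroup G)) ⟨b, hb⟩)
  have hlt : ∃ χ : Cfsg.IrrCharacter G, (χ : G → ℂ) ≠ (fun _ => 1) ∧
      Cfsg.charDegree (χ : G → ℂ) < p := by
    by_contra hc
    push Not at hc
    have hs : ∑ χ : Cfsg.IrrCharacter G, Cfsg.charDegree (χ : G → ℂ) ^ 2 = Nat.card G := by
      have := CfsgLib.Char.sum_degree_sq (G := G)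
      rw [Finset.sum_congr rfl (g := fun χ : Cfsg.IrrCharacter G =>
        ((Cfsg.charDegree (χ : G → ℂ) ^ 2 : ℕ) : ℂ)) (fun χ _ => by
          rw [CfsgLib.Char.irr_one_eq χ.2, Nat.cast_pow]), ← Nat.cast_sum, Nat.cast_inj] at this
      exact this
    rw [← CfsgLib.Char.card_irr_eq_card_conjClasses, Nat.card_eq_fintype_card (α := Cfsg.IrrCharacter G)] at hmany
    set e : Cfsg.IrrCharacter G := ⟨_, CfsgLib.Char.isIrr_one⟩ with he
    rw [← Finset.add_sum_erase _ _ (Finset.mem_univ e)] at hs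
    have h1 : ∀ χ ∈ Finset.univ.erase e, p ^ 2 ≤ Cfsg.charDegree (χ : G → ℂ) ^ 2 := fun χ hχ =>
      Nat.pow_le_pow_left (hc χ fun h => (Finset.mem_erase.1 hχ).1 (Subtype.ext h)) 2
    have h2 := Finset.card_nsmul_le_sum _ _ _ h1
    rw [Finset.card_erase_of_mem (Finset.mem_univ e), Finset.card_univ, smul_eq_mul] at h2
    have he1 : Cfsg.charDegree (e : G → ℂ) = 1 := CfsgLib.Char.charDegree_eq (by simp [he])
    rw [he1] at hs
    obtain ⟨j, hj⟩ := hp2
    obtain ⟨c, hc'⟩ := Nat.exists_eq_succ_of_ne_zero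
      (Fintype.card_pos_iff.2 ⟨e⟩ : 0 < Fintype.card (Cfsg.IrrCharacter G)).ne'
    rw [hc'] at hmany h2
    rw [Nat.succ_sub_one] at h2
    have h3 : j < c + 1 := Nat.lt_of_mul_lt_mul_left (hj ▸ hmany)
    have h4 : p ^ 2 * j ≤ p ^ 2 * c := Nat.mul_le_mul_left _ (by omega)
    rw [mul_comm] at h2
    omega
  obtain ⟨χ, hχ1, hχp⟩ := hlt
  have hker : ∀ g : G, (χ : G → ℂ) g = (χ : G → ℂ) 1 → g = 1 := by
    obtain ⟨K, hKn, hK, -⟩ := CfsgLib.Char.exists_kernel (CfsgLib.Char.isCharacter_of_isIrr χ.2)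
    rcases hKn.eq_bot_or_eq_top with h | h
    · exact fun g hg => Subgroup.mem_bot.1 (h ▸ (hK g).2 hg)
    · exfalso
      have hall : ∀ g, (χ : G → ℂ) g = (χ : G → ℂ) 1 := fun g => (hK g).1 (h ▸ Subgroup.mem_top g)
      have h1 := CfsgLib.Char.irr_inner_ne χ.2 CfsgLib.Char.isIrr_one hχ1
      rw [funext hall, CfsgLib.Char.classInner_def] at h1
      simp [CfsgLib.Char.irr_one_ne_zero χ.2] at h1
  have hcomm : ∀ c : (P : Subgroup G), c ∈ commutator (P : Subgroup G) → c = 1 := fun c hc =>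
    Subtype.ext (hker _ (CfsgLib.Char.apply_eq_of_linear_constituents
      (CfsgLib.Char.isCharacter_restrict (P : Subgroup G) (CfsgLib.Char.isCharacter_of_isIrr χ.2))
      (fun ψ hψ => ?_) hc))
  · have h1 := hcomm _ (Subgroup.commutator_mem_commutator (Subgroup.mem_top ⟨a, ha⟩)
      (Subgroup.mem_top ⟨b, hb⟩))
    exact commutatorElement_eq_one_iff_mul_comm.1 (congrArg Subtype.val h1)
  obtain ⟨k, hk⟩ := IsPGroup.iff_card.1 P.isPGroup'
  obtain ⟨i, -, hi⟩ := (Nat.dvd_prime_pow (Fact.out : p.Prime)).1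
    (hk ▸ CfsgLib.Char.degree_dvd_card ψ.2)
  rcases Nat.eq_zero_or_pos i with rfl | hi0
  · rw [CfsgLib.Char.irr_one_eq ψ.2, hi]; simp
  exfalso
  suffices hle : p ≤ Cfsg.charDegree (χ : G → ℂ) by omega
  choose m hm using fun θ : Cfsg.IrrCharacter (P : Subgroup G) => CfsgLib.Char.inner_char_irr
    (CfsgLib.Char.isCharacter_restrict (P : Subgroup G) (CfsgLib.Char.isCharacter_of_isIrr χ.2)) θ.2
  have hsum := congrFun (CfsgLib.Char.classFun_eq_sum (CfsgLib.Char.classFun_of_char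
    (CfsgLib.Char.isCharacter_restrict (P : Subgroup G)
      (CfsgLib.Char.isCharacter_of_isIrr χ.2)))) 1
  simp only [Finset.sum_apply, Pi.smul_apply, smul_eq_mul, Subgroup.coe_one] at hsum
  rw [CfsgLib.Char.irr_one_eq χ.2, Finset.sum_congr rfl
    (g := fun θ : Cfsg.IrrCharacter (P : Subgroup G) =>
      ((m θ * Cfsg.charDegree (θ : ↥(P : Subgroup G) → ℂ) : ℕ) : ℂ)) (fun θ _ => by
      rw [hm, CfsgLib.Char.irr_one_eq θ.2, Nat.cast_mul]), ← Nat.cast_sum, Nat.cast_inj] at hsum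
  rw [hsum]
  refine le_trans ?_ (Finset.single_le_sum (fun θ _ => Nat.zero_le _) (Finset.mem_univ ψ))
  rw [hi]
  refine le_trans ?_ (Nat.le_mul_of_pos_left _ (Nat.pos_of_ne_zero fun h => hψ (by rw [hm, h]; simp)))
  exact Nat.le_self_pow hi0.ne' p

end Cfsg.Agent.S0186
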