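import Cfsg.Statements.S0187
import Cfsg.Agent.Char.Central

set_option autoImplicit false
open Cfsg

namespace Cfsg.Agent.S0187

/-- A finite group is commutative if and only if every irreducible complex character has degree 1. -/
theorem result {G : Type*} [Group G] [Finite G] : (∀ a b : G, a * b = b * a) ↔ ∀ χ : Cfsg.IrrCharacter G, (χ : G → ℂ) 1 = 1 := by
  haveI := Fintype.ofFinite G
  refine ⟨fun hab χ => ?_, fun h a b => ?_⟩
  · obtain ⟨n, ρ, hirr, hρ⟩ := χ.2
    haveI := hirr
    haveI : IsMulCommutative G := ⟨⟨hab⟩⟩
    rw [← hρ, Representation.char_one,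
      Representation.IsIrreducible.finrank_eq_one_of_isMulCommutative ρ, Nat.cast_one]
  · have key : ∀ g : G, IsConj (a * b) g → g = a * b := by
      intro g hg
      have hc : Nat.card (ConjClasses G) = Nat.card G := by
        rw [← CfsgLib.Char.card_irr_eq_card_conjClasses]
        have h2 := CfsgLib.Char.sum_degree_sq (G := G)
        simp only [h, one_pow, Finset.sum_const, Finset.card_univ, nsmul_eq_mul, mul_one,
          Fintype.card_eq_nat_card] at h2
        exact_mod_cast h2
      have hbij := (Nat.bijective_iff_surjective_and_card (ConjClasses.mk : G → ConjClasses G)).mpr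
        ⟨ConjClasses.mk_surjective, hc.symm⟩
      exact hbij.1 (ConjClasses.mk_eq_mk_iff_isConj.mpr hg.symm)
    exact (key (b * a) (isConj_iff.mpr ⟨b, by group⟩)).symm

end Cfsg.Agent.S0187
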