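import Cfsg.Statements.S0188
import Cfsg.Agent.Char.Classes
import Cfsg.Agent.Char.Induce

set_option autoImplicit false
open Cfsg

namespace Cfsg.Agent.S0188
open scoped CfsgLib.Char


/-- The irreducible complex characters of G × H are precisely the functions (g, h) ↦ φ g * ψ h with φ, ψ irreducible characters of G and H. -/
theorem result {G : Type*} [Group G] [Finite G] {H : Type*} [Group H] [Finite H] (θ : G × H → ℂ) : Cfsg.IsIrrCharacter (G × H) θ ↔ ∃ (φ : G → ℂ) (ψ : H → ℂ), Cfsg.IsIrrCharacter G φ ∧ Cfsg.IsIrrCharacter H ψ ∧ θ = fun x => φ x.1 * ψ x.2 := by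
  classical
  haveI := Fintype.ofFinite G
  haveI := Fintype.ofFinite H
  have hinner : ∀ (φ φ' : G → ℂ) (ψ ψ' : H → ℂ), Cfsg.classInner (fun x : G × H => φ x.1 * ψ x.2)
      (fun x => φ' x.1 * ψ' x.2) = Cfsg.classInner φ φ' * Cfsg.classInner ψ ψ' := by
    intro φ φ' ψ ψ'
    simp only [CfsgLib.Char.classInner_def, Nat.card_prod, Nat.cast_mul, mul_inv, map_mul]
    rw [mul_mul_mul_comm _ (∑ g, φ g * (starRingEnd ℂ) (φ' g)), Finset.sum_mul_sum, Fintype.sum_prod_type]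
    congr 1
    exact Finset.sum_congr rfl fun g _ => Finset.sum_congr rfl fun h _ => by ring
  have hprod : ∀ φ ψ, Cfsg.IsIrrCharacter G φ → Cfsg.IsIrrCharacter H ψ →
      Cfsg.IsIrrCharacter (G × H) (fun x => φ x.1 * ψ x.2) := fun φ ψ hφ hψ =>
    CfsgLib.Char.isIrr_of_char_norm (CfsgLib.Char.isCharacter_mul
      (CfsgLib.Char.isCharacter_comp (MonoidHom.fst G H) (CfsgLib.Char.isCharacter_of_isIrr hφ))
      (CfsgLib.Char.isCharacter_comp (MonoidHom.snd G H) (CfsgLib.Char.isCharacter_of_isIrr hψ)))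
      ((hinner φ φ ψ ψ).trans (by rw [CfsgLib.Char.irr_inner_self hφ, CfsgLib.Char.irr_inner_self hψ, mul_one]))
  refine ⟨fun hθ => ?_, fun ⟨φ, ψ, hφ, hψ, e⟩ => e ▸ hprod φ ψ hφ hψ⟩
  let F : Cfsg.IrrCharacter G × Cfsg.IrrCharacter H → Cfsg.IrrCharacter (G × H) := fun q =>
    ⟨_, hprod _ _ q.1.2 q.2.2⟩
  have hinj : Function.Injective F := by
    intro a b hab
    have h1 : Cfsg.classInner (fun x : G × H => (a.1 : G → ℂ) x.1 * (a.2 : H → ℂ) x.2)
        (fun x => (b.1 : G → ℂ) x.1 * (b.2 : H → ℂ) x.2) = 1 := by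
      rw [show (fun x : G × H => (b.1 : G → ℂ) x.1 * (b.2 : H → ℂ) x.2) =
        fun x => (a.1 : G → ℂ) x.1 * (a.2 : H → ℂ) x.2 from (congrArg Subtype.val hab).symm]
      exact CfsgLib.Char.irr_inner_self (F a).2
    rw [hinner, CfsgLib.Char.irrChar_inner, CfsgLib.Char.irrChar_inner] at h1
    split_ifs at h1 with e1 e2
    · exact Prod.ext e1 e2
    all_goals simp at h1
  by_contra hno
  push Not at hno
  have hnot : (⟨θ, hθ⟩ : Cfsg.IrrCharacter (G × H)) ∉ Finset.univ.image F := fun h => by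
    obtain ⟨q, -, hq⟩ := Finset.mem_image.1 h
    exact hno _ _ q.1.2 q.2.2 (congrArg Subtype.val hq).symm
  have hs := CfsgLib.Char.sum_degree_sq (G := G × H)
  let dd : Cfsg.IrrCharacter (G × H) → ℂ := fun χ => (χ : G × H → ℂ) 1 ^ 2
  have himg : ∑ χ ∈ Finset.univ.image F, dd χ = (Nat.card (G × H) : ℂ) := by
    rw [Finset.sum_image fun a _ b _ h => hinj h, Nat.card_prod, Nat.cast_mul,
      ← CfsgLib.Char.sum_degree_sq, ← CfsgLib.Char.sum_degree_sq, Finset.sum_mul_sum, Fintype.sum_prod_type]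
    exact Finset.sum_congr rfl fun a _ => Finset.sum_congr rfl fun b _ => mul_pow _ _ 2
  rw [← Finset.sum_compl_add_sum (Finset.univ.image F), himg, add_eq_right] at hs
  choose k hk using fun χ : Cfsg.IrrCharacter (G × H) =>
    (⟨Cfsg.charDegree (χ : G × H → ℂ), CfsgLib.Char.irr_one_eq χ.2⟩ : ∃ k : ℕ, (χ : G × H → ℂ) 1 = k)
  rw [Finset.sum_congr rfl (g := fun χ => ((k χ ^ 2 : ℕ) : ℂ)) (fun χ _ => by
    show (χ : G × H → ℂ) 1 ^ 2 = _
    rw [hk, Nat.cast_pow]), ← Nat.cast_sum, Nat.cast_eq_zero, Finset.sum_eq_zero_iff] at hs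
  refine CfsgLib.Char.irr_one_ne_zero hθ ?_
  have := hs ⟨θ, hθ⟩ (Finset.mem_compl.2 hnot)
  rw [pow_eq_zero_iff two_ne_zero] at this
  exact (hk ⟨θ, hθ⟩).trans (by rw [this]; simp)

end Cfsg.Agent.S0188
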