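import Cfsg.Statements.S0190
import Cfsg.Agent.Char.Induce

set_option autoImplicit false
open Cfsg

namespace Cfsg.Agent.S0190

/-- For a transitive action of a finite group on X, the permutation character g ↦ (number of fixed points of g) is the function induced from the principal character of the stabilizer of any point. -/
theorem result {G : Type*} [Group G] [Fintype G] (X : Type*) [MulAction G X] [Finite X] [MulAction.IsPretransitive G X] (x : X) : (fun g : G => (Nat.card (MulAction.fixedBy X g) : ℂ)) = Cfsg.indFun (MulAction.stabilizer G x) (fun _ => 1) := by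
  ext g
  haveI := Fintype.ofFinite X
  classical
  rw [CfsgLib.Char.indFun_apply]
  have hfib : ∀ y : X, (Finset.univ.filter fun a : G => a • x = y).card =
      Nat.card (MulAction.stabilizer G x) := by
    intro y
    obtain ⟨a₀, rfl⟩ := MulAction.exists_smul_eq G x y
    rw [← Fintype.card_subtype, Fintype.card_eq_nat_card]
    refine Nat.card_congr ⟨fun a => ⟨a₀⁻¹ * a.1, by
      rw [MulAction.mem_stabilizer_iff, mul_smul, a.2, inv_smul_smul]⟩,
      fun k => ⟨a₀ * k.1, by rw [mul_smul, MulAction.mem_stabilizer_iff.mp k.2]⟩,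
      fun a => Subtype.ext (by simp), fun k => Subtype.ext (by simp)⟩
  have hterm : ∀ a : G, Cfsg.extendByZero (MulAction.stabilizer G x) (fun _ => (1 : ℂ))
      (a⁻¹ * g * a) = if g • (a • x) = a • x then 1 else 0 := by
    intro a
    have hiff : a⁻¹ * g * a ∈ MulAction.stabilizer G x ↔ g • (a • x) = a • x := by
      rw [MulAction.mem_stabilizer_iff, mul_smul, mul_smul, inv_smul_eq_iff]
    split_ifs with h
    · rw [CfsgLib.Char.extendByZero_mem' _ _ (hiff.mpr h)]
    · rw [CfsgLib.Char.extendByZero_not_mem _ _ (mt hiff.mp h)]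
  simp only [hterm]
  rw [← Finset.sum_fiberwise Finset.univ (fun a : G => a • x)]
  have : ∀ y : X, (∑ a ∈ Finset.univ.filter (fun a : G => a • x = y),
      (if g • (a • x) = a • x then (1 : ℂ) else 0)) =
      (Nat.card (MulAction.stabilizer G x) : ℂ) * (if g • y = y then 1 else 0) := by
    intro y
    rw [← hfib y, ← nsmul_eq_mul, ← Finset.sum_const]
    exact Finset.sum_congr rfl fun a ha => by rw [(Finset.mem_filter.mp ha).2]
  simp only [this, ← Finset.mul_sum, Finset.sum_boole]
  rw [← mul_assoc, inv_mul_cancel₀ (CfsgLib.Char.natCard_ne_zero _), one_mul,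
    Nat.card_eq_fintype_card, ← Fintype.card_subtype]
  simp only [MulAction.fixedBy]
  congr 1

end Cfsg.Agent.S0190
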