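import Cfsg.Statements.S0191
import Cfsg.Agent.Char.Galois
import Cfsg.Agent.Char.Classes

set_option autoImplicit false
open Cfsg

namespace Cfsg.Agent.S0191
open scoped CfsgLib.Char


/-- An irreducible complex representation of a finite group of degree greater than 1 has a character that vanishes somewhere. -/
theorem result {G : Type*} [Group G] [Finite G] {V : Type*} [AddCommGroup V] [Module ℂ V] [FiniteDimensional ℂ V] (ρ : Representation ℂ G V) [ρ.IsIrreducible] (hdeg : 1 < Module.finrank ℂ V) : ∃ g : G, ρ.character g = 0 := by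
  classical
  haveI := Fintype.ofFinite G
  by_contra! hne
  have hirr := CfsgLib.Char.isIrr_of_rep ρ inferInstance
  have hc := CfsgLib.Char.isCharacter_of_isIrr hirr
  set χ := ρ.character
  set S := (Finset.univ : Finset G).erase 1
  set P : ℂ := ∏ g ∈ S, χ g * χ g⁻¹ with hP
  have hPint : IsIntegral ℤ P := IsIntegral.prod _ fun g _ =>
    (CfsgLib.Char.char_isIntegral hc g).mul (CfsgLib.Char.char_isIntegral hc g⁻¹)
  obtain ⟨n, hn⟩ := CfsgLib.Char.int_of_fixed hPint fun φ => by
    obtain ⟨m, hm, hφ⟩ := CfsgLib.Char.algHom_char_pow G φ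
    have hb := CfsgLib.Char.pow_coprime_bijective (G := G) hm
    have e : (⟨P, CfsgLib.Char.mem_qbar_of_integral hPint⟩ : CfsgLib.Char.QBar) =
        ∏ g ∈ S, ⟨χ g, CfsgLib.Char.mem_qbar_of_integral (CfsgLib.Char.char_isIntegral hc g)⟩ *
          ⟨χ g⁻¹, CfsgLib.Char.mem_qbar_of_integral (CfsgLib.Char.char_isIntegral hc g⁻¹)⟩ :=
      Subtype.ext (by simp [hP])
    rw [e, map_prod]
    simp only [map_mul, hφ χ hc]
    refine Finset.prod_bij (fun g _ => g ^ m) (fun g hg => ?_) (fun a _ b _ h => hb.1 h)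
      (fun b hb' => ?_) (fun g _ => by rw [inv_pow])
    · exact Finset.mem_erase.2 ⟨fun h => (Finset.mem_erase.1 hg).1 (hb.1 (h.trans (one_pow m).symm)),
        Finset.mem_univ _⟩
    · obtain ⟨a, ha⟩ := hb.2 b
      exact ⟨a, Finset.mem_erase.2 ⟨fun h => (Finset.mem_erase.1 hb').1 (by rw [← ha, h]; simp),
        Finset.mem_univ _⟩, ha⟩
  have hreal : P = ((∏ g ∈ S, Complex.normSq (χ g) : ℝ) : ℂ) := by
    rw [hP, Complex.ofReal_prod]
    refine Finset.prod_congr rfl fun g _ => ?_
    rw [CfsgLib.Char.char_conj_eq hc, Complex.mul_conj]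
  have hpos : (0 : ℝ) < ∏ g ∈ S, Complex.normSq (χ g) :=
    Finset.prod_pos fun g _ => Complex.normSq_pos.2 (hne g)
  have hone : (1 : ℝ) ≤ ∏ g ∈ S, Complex.normSq (χ g) := by
    have e : ((n : ℝ) : ℂ) = ((∏ g ∈ S, Complex.normSq (χ g) : ℝ) : ℂ) := by
      rw [← hreal, hn, Complex.ofReal_intCast]
    rw [Complex.ofReal_inj] at e
    rw [← e] at hpos ⊢
    exact_mod_cast (Int.add_one_le_iff.2 (by exact_mod_cast hpos) : (0 : ℤ) + 1 ≤ n)
  have hsum : ∑ g : G, Complex.normSq (χ g) = Nat.card G := by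
    have h := CfsgLib.Char.irr_inner_self hirr
    rw [CfsgLib.Char.classInner_def, inv_mul_eq_iff_eq_mul₀ (CfsgLib.Char.natCard_ne_zero G), mul_one] at h
    simp only [Complex.mul_conj] at h
    exact_mod_cast h
  rw [← Finset.add_sum_erase _ _ (Finset.mem_univ (1 : G))] at hsum
  have hlog : 0 ≤ ∑ g ∈ S, (Complex.normSq (χ g) - 1) := by
    refine le_trans ?_ (Finset.sum_le_sum fun g _ => Real.log_le_sub_one_of_pos (Complex.normSq_pos.2 (hne g)))
    rw [← Real.log_prod fun g _ => (Complex.normSq_pos.2 (hne g)).ne']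
    exact Real.log_nonneg hone
  rw [Finset.sum_sub_distrib, Finset.sum_const, nsmul_eq_mul, mul_one] at hlog
  have hScard : (S.card : ℝ) + 1 = Nat.card G := by
    have := Finset.card_erase_add_one (Finset.mem_univ (1 : G))
    rw [Finset.card_univ, Fintype.card_eq_nat_card] at this
    exact_mod_cast this
  have h1 : Complex.normSq (χ 1) = (Module.finrank ℂ V : ℝ) * Module.finrank ℂ V := by
    rw [show χ 1 = ((Module.finrank ℂ V : ℝ) : ℂ) by show ρ.character 1 = _; rw [Representation.char_one]; simp, Complex.normSq_ofReal]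
  have h2 : (2 : ℝ) ≤ Module.finrank ℂ V := by exact_mod_cast hdeg
  rw [h1] at hsum
  nlinarith

end Cfsg.Agent.S0191
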