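import Cfsg.Statements.S0192
import Cfsg.Agent.Char.Orth
import Mathlib.RepresentationTheory.Invariants

set_option autoImplicit false
open Cfsg

namespace Cfsg.Agent.S0192

/-- Brauer's generation criterion. Let G be a finite simple group, H₁ and H₂ subgroups, and χ a non-principal irreducible character. If the multiplicity of the principal character in χ restricted to H₁ ⊓ H₂ is less than the sum of the corresponding multiplicities for H₁ and H₂, then H₁ and H₂ do not generate G. -/
theorem result {G : Type*} [Group G] [Fintype G] [IsSimpleGroup G] (H₁ H₂ : Subgroup G) [Fintype H₁] [Fintype H₂] [Fintype ↥(H₁ ⊓ H₂)] (χ : G → ℂ) (hχ : Cfsg.IsIrrCharacter G χ) (hχ1 : χ ≠ fun _ => 1) (hlt : (Cfsg.classInner (fun x : ↥(H₁ ⊓ H₂) => χ x) (fun _ => 1)).re < (Cfsg.classInner (fun x : H₁ => χ x) (fun _ => 1)).re + (Cfsg.classInner (fun x : H₂ => χ x) (fun _ => 1)).re) : H₁ ⊔ H₂ ≠ ⊤ := by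
  classical
  open CfsgLib.Char in
  · obtain ⟨n, ρ, hirr, rfl⟩ := id hχ
    haveI := hirr
    have key : ∀ (K : Subgroup G) [Fintype K], Cfsg.classInner (fun x : K => ρ.character x) (fun _ => 1) =
        (Module.finrank ℂ (Representation.invariants (ρ.comp K.subtype)) : ℂ) := by
      intro K _
      haveI : Invertible (Fintype.card K : ℂ) := invertibleOfNonzero (Nat.cast_ne_zero.2 Fintype.card_ne_zero)
      rw [← (Representation.isProj_averageMap (ρ.comp K.subtype)).trace, classInner_def, Nat.card_eq_fintype_card]
      simp [GroupAlgebra.average, Representation.character, map_sum, invOf_eq_inv]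
    rw [key, key, key, ← Complex.ofReal_natCast, ← Complex.ofReal_natCast, ← Complex.ofReal_natCast,
      Complex.ofReal_re, Complex.ofReal_re, Complex.ofReal_re] at hlt
    have hlt' : Module.finrank ℂ (Representation.invariants (ρ.comp (H₁ ⊓ H₂).subtype)) <
        Module.finrank ℂ (Representation.invariants (ρ.comp H₁.subtype)) + Module.finrank ℂ (Representation.invariants (ρ.comp H₂.subtype)) := by
      exact_mod_cast hlt
    intro htop
    set A := Representation.invariants (ρ.comp H₁.subtype)
    set B := Representation.invariants (ρ.comp H₂.subtype)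
    have hsup : A ⊔ B ≤ Representation.invariants (ρ.comp (H₁ ⊓ H₂).subtype) :=
      sup_le (fun v hv x => hv ⟨x, x.2.1⟩) (fun v hv x => hv ⟨x, x.2.2⟩)
    have h1 := Submodule.finrank_mono hsup
    have h2 := Submodule.finrank_sup_add_finrank_inf_eq A B
    have hne : A ⊓ B ≠ ⊥ := fun e => by
      rw [e, finrank_bot] at h2; omega
    obtain ⟨v, hv, hv0⟩ := (Submodule.ne_bot_iff _).1 hne
    let St : Subgroup G :=
      { carrier := {g | ρ g v = v}
        one_mem' := by simp
        mul_mem' := fun {x y} hx hy => by
          show ρ (x * y) v = v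
          rw [map_mul, Module.End.mul_apply, hy, hx]
        inv_mem' := fun {x} hx => by
          show ρ x⁻¹ v = v
          conv_lhs => rw [← (show ρ x v = v from hx)]
          rw [← Module.End.mul_apply, ← map_mul, inv_mul_cancel, map_one, Module.End.one_apply] }
    have hSt : H₁ ⊔ H₂ ≤ St := sup_le (fun g hg => hv.1 ⟨g, hg⟩) (fun g hg => hv.2 ⟨g, hg⟩)
    have hfix : ∀ g : G, ρ g v = v := fun g => hSt (htop ▸ Subgroup.mem_top g)
    let U : Subrepresentation ρ := ⟨ℂ ∙ v, fun g w hw => by
      obtain ⟨c, rfl⟩ := Submodule.mem_span_singleton.1 hw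
      rw [map_smul, hfix]
      exact Submodule.smul_mem _ c (Submodule.mem_span_singleton_self v)⟩
    have hU : U = ⊤ := (IsSimpleOrder.eq_bot_or_eq_top U).resolve_left fun e => hv0 (by
      have := congrArg Subrepresentation.toSubmodule e
      exact Submodule.span_singleton_eq_bot.1 this)
    refine hχ1 (funext fun g => ?_)
    have hid : ρ g = 1 := LinearMap.ext fun w => by
      obtain ⟨c, rfl⟩ := Submodule.mem_span_singleton.1 (show w ∈ U.toSubmodule by rw [hU]; exact Submodule.mem_top)
      simp [hfix]
    have h1' : n = 1 := by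
      have h := congrArg (fun S : Subrepresentation ρ => Module.finrank ℂ S.toSubmodule) hU
      simp only [U] at h
      rw [finrank_span_singleton hv0] at h
      have h' : (1 : ℕ) = n := h.trans ((finrank_top ℂ (Fin n → ℂ)).trans (Module.finrank_fin_fun ℂ))
      exact h'.symm
    show LinearMap.trace ℂ _ (ρ g) = 1
    rw [hid, LinearMap.trace_one]
    simp [h1']

end Cfsg.Agent.S0192
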