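import Cfsg.Statements.S0194
import Cfsg.Agent.Char.PermLemma

set_option autoImplicit false
open scoped ComplexConjugate
open Cfsg

namespace Cfsg.Agent.S0194

/-- Let G have odd order, H be a normal subgroup and θ a non-principal irreducible character of H. Then the function induced from θ is orthogonal to its complex conjugate. -/
theorem result {G : Type*} [Group G] [Fintype G] (hodd : Odd (Nat.card G)) (H : Subgroup G) [H.Normal] (θ : H → ℂ) (hθ : Cfsg.IsIrrCharacter H θ) (hθ1 : θ ≠ fun _ => 1) : Cfsg.classInner (fun g => conj (Cfsg.indFun H θ g)) (Cfsg.indFun H θ) = 0 := by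
  classical
  haveI := Fintype.ofFinite H
  have hθc := CfsgLib.Char.irr_conj hθ
  have hind : (fun g => (starRingEnd ℂ) (Cfsg.indFun H θ g)) =
      Cfsg.indFun H (fun h => (starRingEnd ℂ) (θ h)) := by
    funext g
    simp only [CfsgLib.Char.indFun_apply, map_mul, map_sum, map_inv₀, map_natCast]
    congr 1
    refine Finset.sum_congr rfl fun x _ => ?_
    by_cases hx : x⁻¹ * g * x ∈ H
    · rw [CfsgLib.Char.extendByZero_mem' _ _ hx, CfsgLib.Char.extendByZero_mem' _ _ hx]
    · rw [CfsgLib.Char.extendByZero_not_mem _ _ hx, CfsgLib.Char.extendByZero_not_mem _ _ hx,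
        map_zero]
  rw [hind, CfsgLib.Char.frobenius' H θ (CfsgLib.Char.indFun_classFun _ _),
    CfsgLib.Char.inner_res_ind hθc hθ, Finset.filter_eq_empty_iff.2 fun g _ hg => hθ1 ?_]
  · simp
  have h1 : CfsgLib.Char.conjN θ g = fun h => (starRingEnd ℂ) (θ h) := by
    funext h
    rw [← congrFun hg h]
    simp [CfsgLib.Char.conjN]
  have hg2 : g ^ 2 ∈ CfsgLib.Char.inertia θ := by
    rw [CfsgLib.Char.mem_inertia, sq, ← CfsgLib.Char.conjN_mul, h1, hg]
  obtain ⟨k, hk⟩ := hodd
  have hg1 : g ∈ CfsgLib.Char.inertia θ := by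
    have h := pow_mem hg2 (k + 1)
    rwa [← pow_mul, show 2 * (k + 1) = Nat.card G + 1 by omega, pow_succ, pow_card_eq_one',
      one_mul] at h
  have hreal : ∀ h, (starRingEnd ℂ) (θ h) = θ h := fun h =>
    (congrFun h1 h).symm.trans (congrFun (CfsgLib.Char.mem_inertia.1 hg1) h)
  exact CfsgLib.Char.eq_one_of_real_odd (Odd.of_dvd_nat ⟨k, hk⟩ (Subgroup.card_subgroup_dvd_card H))
    ⟨θ, hθ⟩ hreal

end Cfsg.Agent.S0194
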