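import Cfsg.Statements.S0196
import Cfsg.Agent.Char.Classes

set_option autoImplicit false
open Cfsg

namespace Cfsg.Agent.S0196

/-- Let A be a subgroup of a finite group G that equals the centralizer of each of its non-identity elements, and let N be its normalizer. Then the index of A in N divides |A| − 1 (N/A permutes the non-identity elements of A in orbits of full length). -/
theorem result {G : Type*} [Group G] [Finite G] (A : Subgroup G) (hA : ∀ x ∈ A, x ≠ 1 → Subgroup.centralizer ({x} : Set G) = A) : (A.subgroupOf (Subgroup.normalizer (A : Set G))).index ∣ Nat.card A - 1 := by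
  classical
  set N := Subgroup.normalizer (A : Set G)
  by_cases hA1 : Nat.card A = 1
  · rw [hA1]; exact dvd_zero _
  letI : MulAction N {x : A // (x : G) ≠ 1} :=
    { smul := fun n x => ⟨⟨(n : G) * x.1 * (n : G)⁻¹, (Subgroup.mem_normalizer_iff.1 n.2 _).1 x.1.2⟩,
        fun h => x.2 (by
          have := congrArg (fun y => (n : G)⁻¹ * y * n) h
          simpa [mul_assoc] using this)⟩
      one_smul := fun x => Subtype.ext (Subtype.ext (by
        show ((1 : N) : G) * x.1 * ((1 : N) : G)⁻¹ = x.1
        simp))
      mul_smul := fun a b x => Subtype.ext (Subtype.ext (by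
        show ((a * b : N) : G) * x.1 * ((a * b : N) : G)⁻¹ = (a : G) * ((b : G) * x.1 * (b : G)⁻¹) * (a : G)⁻¹
        simp [mul_assoc])) }
  have hstab : ∀ x : {x : A // (x : G) ≠ 1}, MulAction.stabilizer N x = A.subgroupOf N := fun x => by
    ext n
    rw [MulAction.mem_stabilizer_iff, Subgroup.mem_subgroupOf]
    conv_rhs => rw [← hA _ x.1.2 x.2]
    rw [Subgroup.mem_centralizer_singleton_iff]
    exact ⟨fun h => mul_inv_eq_iff_eq_mul.1 (congrArg (fun y => ((y.1 : A) : G)) h),
      fun h => Subtype.ext (Subtype.ext (mul_inv_eq_iff_eq_mul.2 h))⟩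
  have hcard := Nat.card_congr (MulAction.selfEquivSigmaOrbitsQuotientStabilizer N {x : A // (x : G) ≠ 1})
  haveI : Fintype (MulAction.orbitRel.Quotient N {x : A // (x : G) ≠ 1}) := Fintype.ofFinite _
  rw [Nat.card_sigma, Finset.sum_congr rfl (g := fun _ => (A.subgroupOf N).index) (fun o _ => by
    rw [hstab, Subgroup.index_eq_card]), Finset.sum_const, smul_eq_mul] at hcard
  have h2 : Nat.card {x : A // (x : G) ≠ 1} = Nat.card A - 1 := by
    haveI := Fintype.ofFinite A
    rw [Nat.card_eq_fintype_card, Nat.card_eq_fintype_card, Fintype.card_subtype,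
      ← Finset.card_univ, ← Finset.card_erase_of_mem (Finset.mem_univ (1 : A))]
    congr 1; ext x; simp [OneMemClass.coe_eq_one]
  exact ⟨_, h2.symm.trans (hcard.trans (mul_comm _ _))⟩

end Cfsg.Agent.S0196
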