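import Cfsg.Statements.S0199
import Cfsg.Agent.Inv.BaerSuzuki

set_option autoImplicit false
open Cfsg

namespace Cfsg.Agent.S0199

/-- Baer–Suzuki Theorem: a p-subgroup X of a finite group such that X and any of its conjugates generate a p-group is contained in a normal p-subgroup. -/
theorem result {G : Type*} [Group G] [Finite G] {p : ℕ} [Fact p.Prime] (X : Subgroup G) (hX : IsPGroup p X) (h : ∀ g : G, IsPGroup p ↥(X ⊔ X.map (MulAut.conj g).toMonoidHom)) : ∃ N : Subgroup G, N.Normal ∧ IsPGroup p N ∧ X ≤ N := by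
  set Ω : Set (Subgroup G) := Set.range fun g : G => X.map (MulAut.conj g).toMonoidHom
  have hconj : ∀ Y ∈ Ω, ∀ g : G, Y.map (MulAut.conj g).toMonoidHom ∈ Ω := by
    rintro _ ⟨a, rfl⟩ g
    exact ⟨g * a, by simp [Subgroup.map_map, map_mul]; rfl⟩
  refine ⟨sSup Ω, ?_, CfsgLib.Inv.baer_suzuki Ω hconj ?_, le_sSup ⟨1, ?_⟩⟩
  · refine ⟨fun x hx g => ?_⟩
    have h : (sSup Ω).map (MulAut.conj g).toMonoidHom ≤ sSup Ω := by
      rw [Subgroup.map_le_iff_le_comap, sSup_le_iff]
      intro Y hY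
      rw [← Subgroup.map_le_iff_le_comap]
      exact le_sSup (hconj Y hY g)
    exact h ⟨x, hx, rfl⟩
  · rintro _ ⟨a, rfl⟩ _ ⟨b, rfl⟩
    have e : X.map (MulAut.conj a).toMonoidHom ⊔ X.map (MulAut.conj b).toMonoidHom =
        (X ⊔ X.map (MulAut.conj (a⁻¹ * b)).toMonoidHom).map (MulAut.conj a).toMonoidHom := by
      rw [Subgroup.map_sup, Subgroup.map_map]
      congr 2
      ext x; simp [mul_assoc]
    show IsPGroup p ↥(X.map (MulAut.conj a).toMonoidHom ⊔ X.map (MulAut.conj b).toMonoidHom)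
    rw [e]
    exact (h (a⁻¹ * b)).map _
  · ext x; simp

end Cfsg.Agent.S0199
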