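import Cfsg.Statements.S0200
import Cfsg.Agent.Inv.Dihedral
import Cfsg.Agent.S0199

set_option autoImplicit false
open Cfsg

namespace Cfsg.Agent.S0200

/-- An involution lying in no normal 2-subgroup of a finite group inverts a nontrivial element of odd order (a consequence of the Baer–Suzuki Theorem). -/
theorem result {G : Type*} [Group G] [Finite G] (t : G) (ht : orderOf t = 2) (hO : ∀ N : Subgroup G, N.Normal → IsPGroup 2 N → t ∉ N) : ∃ h : G, h ≠ 1 ∧ Odd (orderOf h) ∧ t * h * t⁻¹ = h⁻¹ := by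
  haveI : Fact (Nat.Prime 2) := ⟨Nat.prime_two⟩
  by_contra hcon
  push Not at hcon
  have hX : IsPGroup 2 ↥(Subgroup.zpowers t) := IsPGroup.of_card (n := 1) (by rw [Nat.card_zpowers, ht, pow_one])
  obtain ⟨N, hN, hNp, hle⟩ := Cfsg.Agent.S0199.result (Subgroup.zpowers t) hX fun g => by
    set v := g * t * g⁻¹ with hv
    have hv2 : orderOf v = 2 := CfsgLib.Inv.invol_conj ht g
    have hsup : Subgroup.zpowers t ⊔ (Subgroup.zpowers t).map (MulAut.conj g).toMonoidHom ≤
        Subgroup.closure ({t, v} : Set G) := by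
      rw [MonoidHom.map_zpowers, sup_le_iff, Subgroup.zpowers_le, Subgroup.zpowers_le]
      exact ⟨Subgroup.subset_closure (by simp), Subgroup.subset_closure (by simp [hv])⟩
    refine IsPGroup.to_le ?_ hsup
    -- the order of `t * v` is a power of two
    obtain ⟨k, m, hm, he⟩ :=
      Nat.exists_eq_pow_mul_and_not_dvd (orderOf_pos (t * v)).ne' 2 (by norm_num)
    have hm0 : m ≠ 0 := by rintro rfl; exact hm (dvd_zero 2)
    have hpow : (t * v) ^ (2 ^ k) = 1 := by
      by_contra hne
      refine hcon _ hne ?_ ?_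
      · rw [orderOf_pow, he, Nat.gcd_eq_right (dvd_mul_right _ _), Nat.mul_div_cancel_left _ (by positivity)]
        exact Nat.odd_iff.2 (by omega)
      · rw [← conj_pow, CfsgLib.Inv.pair_conj ht hv2, inv_pow]
    rintro ⟨d, hd⟩
    rcases (CfsgLib.Inv.mem_pair_iff ht hv2).1 hd with ⟨i, rfl⟩ | ⟨i, rfl⟩
    · refine ⟨k, Subtype.ext ?_⟩
      simp only [SubmonoidClass.coe_pow, OneMemClass.coe_one]
      rw [← zpow_natCast, zpow_comm, zpow_natCast, hpow, one_zpow]
    · refine ⟨1, Subtype.ext ?_⟩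
      simp only [SubmonoidClass.coe_pow, pow_one, OneMemClass.coe_one]
      rw [pow_two, CfsgLib.Inv.refl_mul_refl ht hv2, sub_self, zpow_zero]
  exact hO N hN hNp (hle (Subgroup.mem_zpowers t))

end Cfsg.Agent.S0200
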