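import Cfsg.Statements.S0201
import Cfsg.Agent.Base.ZStar.Holds

set_option autoImplicit false
open Cfsg

namespace Cfsg.Agent.S0201

/-- Brauer–Suzuki Theorem: if a Sylow 2-subgroup of a finite group is generalized quaternion (of order at least 8) and the group has no nontrivial normal subgroup of odd order, then its centre has order 2. -/
theorem result {G : Type*} [Group G] [Finite G] (S : Sylow 2 G) (n : ℕ) (e : (S : Subgroup G) ≃* QuaternionGroup (2 ^ (n + 1))) (hO : ∀ N : Subgroup G, N.Normal → Odd (Nat.card N) → N = ⊥) : Nat.card (Subgroup.center G) = 2 := by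
  have hp := CfsgLib.Base.ZStar.center_isPGroup hO
  obtain ⟨T, hT⟩ := hp.exists_le_sylow
  obtain ⟨c, rfl⟩ := MulAction.exists_smul_eq G S T
  have hle : Subgroup.center G ≤ (S : Subgroup G) := by
    intro x hx
    have h1 : x ∈ ((c • S : Sylow 2 G) : Subgroup G) := hT hx
    rw [Sylow.coe_subgroup_smul, Subgroup.mem_pointwise_smul_iff_inv_smul_mem] at h1
    simp only [MulAut.smul_def, MulAut.conj_inv_apply] at h1
    have h2 : c⁻¹ * x * c = x := by
      rw [mul_assoc, ← Subgroup.mem_center_iff.1 hx c, inv_mul_cancel_left]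
    simpa [h2] using h1
  have hN : 2 ≤ 2 ^ (n + 1) := Nat.le_self_pow (by omega) 2
  have : NeZero (2 ^ (n + 1)) := ⟨by positivity⟩
  set a := e.symm (QuaternionGroup.a ((2 ^ (n + 1) : ℕ) : ZMod (2 * 2 ^ (n + 1)))) with ha
  have hane : a ≠ 1 := fun h => by
    rw [ha, MulEquiv.map_eq_one_iff] at h
    rw [QuaternionGroup.one_def] at h
    exact CfsgLib.Base.ZStar.natCast_half_ne_zero (N := 2 ^ (n + 1)) (QuaternionGroup.a.inj h)
  have ha2 : a * a = 1 := by
    rw [ha, ← map_mul, QuaternionGroup.a_mul_a, ← Nat.cast_add, ← two_mul, ZMod.natCast_self,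
      ← QuaternionGroup.one_def, map_one]
  have hord : orderOf (a : G) = 2 := by
    rw [Subgroup.orderOf_coe]
    exact orderOf_eq_prime (by rw [pow_two, ha2]) hane
  have hac : (a : G) ∈ Subgroup.center G := Subgroup.mem_center_iff.2 fun g =>
    (Subgroup.mem_center_iff.1 (CfsgLib.Base.BS.invol_central hO S (n + 1) le_add_self e hord) g)
  have hset : (Subgroup.center G : Set G) = {1, (a : G)} := by
    refine Set.ext fun x => ⟨fun hx => ?_, ?_⟩
    · have hc : ∀ y, e ⟨x, hle hx⟩ * y = y * e ⟨x, hle hx⟩ := fun y => by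
        rw [← e.apply_symm_apply y, ← map_mul, ← map_mul]
        exact congrArg e (Subtype.ext (Subgroup.mem_center_iff.1 hx (e.symm y : G)).symm)
      rcases CfsgLib.Base.ZStar.quat_center hN hc with h | h
      · left
        exact congrArg Subtype.val (e.map_eq_one_iff.1 h)
      · right
        exact congrArg Subtype.val (e.eq_symm_apply.2 h)
    · rintro (rfl | rfl)
      · exact one_mem _
      · exact hac
  rw [← SetLike.coe_sort_coe, hset, Nat.card_coe_set_eq, Set.ncard_pair]
  exact fun h => hane (Subtype.ext h.symm)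

end Cfsg.Agent.S0201
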