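import Cfsg.Statements.S0202
import Cfsg.Agent.Inv.KleinSylow

set_option autoImplicit false
open Cfsg

namespace Cfsg.Agent.S0202

/-- If a Sylow 2-subgroup of a finite group is a Klein four-group, the group has one or three conjugacy classes of involutions. -/
theorem result {G : Type*} [Group G] [Finite G] (P : Sylow 2 G) (hP : IsKleinFour (P : Subgroup G)) : Nat.card {C : ConjClasses G // ∃ t : G, orderOf t = 2 ∧ ConjClasses.mk t = C} = 1 ∨ Nat.card {C : ConjClasses G // ∃ t : G, orderOf t = 2 ∧ ConjClasses.mk t = C} = 3 := by
  open CfsgLib.Inv in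
  exact (by
    classical
    haveI := Fintype.ofFinite {x : (P : Subgroup G) // x ≠ 1}
    have hle := Nat.card_le_card_of_surjective _ (kleinClass_surjective P hP)
    rw [klein_card_ne_one P hP] at hle
    by_cases hinj : Function.Injective (kleinClass P hP)
    · right
      rw [← Nat.card_eq_of_bijective _ ⟨hinj, kleinClass_surjective P hP⟩, klein_card_ne_one P hP]
    · left
      simp only [Function.Injective, not_forall] at hinj
      obtain ⟨x, y, h, hne⟩ := hinj
      rw [Nat.card_eq_one_iff_exists]
      refine ⟨kleinClass P hP x, fun C => ?_⟩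
      obtain ⟨w, rfl⟩ := kleinClass_surjective P hP C
      by_cases h1 : w = x
      · rw [h1]
      by_cases h2 : w = y
      · rw [h2, h]
      exact klein_not_two P hP hne h h1 h2)

end Cfsg.Agent.S0202
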