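import Cfsg.Statements.S0203
import Cfsg.Agent.Inv.KleinSylow

set_option autoImplicit false
open Cfsg

namespace Cfsg.Agent.S0203

/-- If a Sylow 2-subgroup P of a finite group G is a Klein four-group, then G has three classes of involutions if and only if P has a normal complement in G. -/
theorem result {G : Type*} [Group G] [Finite G] (P : Sylow 2 G) (hP : IsKleinFour (P : Subgroup G)) : Nat.card {C : ConjClasses G // ∃ t : G, orderOf t = 2 ∧ ConjClasses.mk t = C} = 3 ↔ ∃ N : Subgroup G, N.Normal ∧ Subgroup.IsComplement' N (P : Subgroup G) := by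
  open CfsgLib.Inv in
  exact (by
    classical
    haveI : Fact (Nat.Prime 2) := ⟨Nat.prime_two⟩
    haveI := hP
    haveI : IsMulCommutative (P : Subgroup G) := IsKleinFour.isMulCommutative
    constructor
    · intro h3
      have hinj : Function.Injective (kleinClass P hP) := by
        refine ((Nat.bijective_iff_surjective_and_card _).2 ⟨kleinClass_surjective P hP, ?_⟩).1
        rw [h3, klein_card_ne_one P hP]
      have hN : Subgroup.normalizer (P : Set G) ≤ Subgroup.centralizer ((P : Subgroup G) : Set G) := by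
        intro n hn
        rw [Subgroup.mem_centralizer_iff]
        intro a ha
        by_cases ha1 : a = 1
        · simp [ha1]
        have ha2 : n * a * n⁻¹ ∈ (P : Subgroup G) := (Subgroup.mem_normalizer_iff.1 hn a).1 ha
        have heq := @hinj ⟨⟨n * a * n⁻¹, ha2⟩, fun h => ha1 (conj_eq_one_iff.1 (congrArg Subtype.val h))⟩
          ⟨⟨a, ha⟩, fun h => ha1 (congrArg Subtype.val h)⟩
          (Subtype.ext (ConjClasses.mk_eq_mk_iff_isConj.2 (isConj_iff.2 ⟨n⁻¹, by
            show n⁻¹ * (n * a * n⁻¹) * n⁻¹⁻¹ = a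
            group⟩)))
        have heq' : n * a * n⁻¹ = a :=
          congrArg (fun w : {x : (P : Subgroup G) // x ≠ 1} => (w.1 : G)) heq
        exact (mul_inv_eq_iff_eq_mul.1 heq').symm
      exact ⟨_, MonoidHom.normal_ker _, MonoidHom.ker_transferSylow_isComplement' P hN⟩
    · rintro ⟨N, hN, hNc⟩
      have hinj : Function.Injective (kleinClass P hP) := by
        rintro ⟨⟨a, ha⟩, ha1⟩ ⟨⟨b, hb⟩, hb1⟩ h
        obtain ⟨n, hn, he⟩ := klein_fusion P hP h
        dsimp only at he
        have hcomm : a⁻¹ * b ∈ N := by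
          obtain ⟨⟨⟨u, hu⟩, ⟨p, hp⟩⟩, hup⟩ := hNc.2 n
          dsimp only at hup
          subst hup
          have hpa : p * a = a * p := congrArg Subtype.val
            ((inferInstance : IsMulCommutative (P : Subgroup G)).is_comm.comm ⟨p, hp⟩ ⟨a, ha⟩)
          have e : a⁻¹ * b = (a⁻¹ * u * a) * u⁻¹ := by
            rw [← he]
            calc a⁻¹ * (u * p * a * (u * p)⁻¹) = a⁻¹ * u * (p * a) * p⁻¹ * u⁻¹ := by group
              _ = _ := by rw [hpa]; group
          rw [e]
          refine mul_mem ?_ (inv_mem (show u ∈ N from hu))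
          simpa using hN.conj_mem u hu a⁻¹
        have hm : a⁻¹ * b ∈ N ⊓ (P : Subgroup G) :=
          Subgroup.mem_inf.2 ⟨hcomm, mul_mem (inv_mem ha) hb⟩
        rw [hNc.disjoint.eq_bot, Subgroup.mem_bot, inv_mul_eq_one] at hm
        exact Subtype.ext (Subtype.ext hm)
      rw [← Nat.card_eq_of_bijective _ ⟨hinj, kleinClass_surjective P hP⟩, klein_card_ne_one P hP])

end Cfsg.Agent.S0203
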