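import Cfsg.Statements.S0207
import Cfsg.Agent.Inv.Dihedral

set_option autoImplicit false
open Cfsg

namespace Cfsg.Agent.S0207

/-- If x, y are distinct involutions, every element of the subgroup they generate that lies outside the cyclic subgroup generated by xy is an involution. -/
theorem result {G : Type*} [Group G] [Finite G] (x y : G) (hx : orderOf x = 2) (hy : orderOf y = 2) (hxy : x ≠ y) (d : G) (hd : d ∈ Subgroup.closure ({x, y} : Set G)) (hd' : d ∉ Subgroup.zpowers (x * y)) : orderOf d = 2 := by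
  rcases (CfsgLib.Inv.mem_pair_iff hx hy).1 hd with ⟨k, rfl⟩ | ⟨k, rfl⟩
  · exact absurd (zpow_mem (Subgroup.mem_zpowers _) _) hd'
  · refine CfsgLib.Inv.invol_iff.2 ⟨fun h => hd' (h ▸ one_mem _), ?_⟩
    rw [CfsgLib.Inv.refl_mul_refl hx hy, sub_self, zpow_zero]

end Cfsg.Agent.S0207
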