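import Cfsg.Statements.S0210
import Cfsg.Agent.Inv.Dihedral

set_option autoImplicit false
open Cfsg

namespace Cfsg.Agent.S0210

/-- If x, y are involutions whose product has even order, no element of the subgroup generated by x and y conjugates x to y. -/
theorem result {G : Type*} [Group G] [Finite G] (x y : G) (hx : orderOf x = 2) (hy : orderOf y = 2) (heven : Even (orderOf (x * y))) (d : G) (hd : d ∈ Subgroup.closure ({x, y} : Set G)) : d * x * d⁻¹ ≠ y := by
  intro h
  obtain ⟨k, hk⟩ := CfsgLib.Inv.conj_left hx hy hd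
  rw [hk] at h
  have h2 : (x * y) ^ (2 * k) = (x * y) ^ (1 : ℤ) :=
    mul_left_cancel (a := x) (by rw [h, zpow_one]; exact CfsgLib.Inv.right_eq hx)
  have h3 := Int.modEq_iff_dvd.1 (zpow_eq_zpow_iff_modEq.1 h2)
  obtain ⟨m, hm⟩ := heven
  obtain ⟨c, hc⟩ := h3
  rw [hm, Nat.cast_add, add_mul] at hc
  omega

end Cfsg.Agent.S0210
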