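import Cfsg.Statements.S0211
import Cfsg.Agent.Inv.Dihedral

set_option autoImplicit false
open Cfsg

namespace Cfsg.Agent.S0211

/-- Let x, y be involutions with xy of even order n and z = (xy)^(n/2). Then xz is conjugate to x by an element of the subgroup generated by x, y if and only if 4 divides n. -/
theorem result {G : Type*} [Group G] [Finite G] (x y : G) (hx : orderOf x = 2) (hy : orderOf y = 2) (heven : Even (orderOf (x * y))) : (∃ d ∈ Subgroup.closure ({x, y} : Set G), d * x * d⁻¹ = x * (x * y) ^ (orderOf (x * y) / 2)) ↔ 4 ∣ orderOf (x * y) := by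
  obtain ⟨m, hm⟩ := heven
  have hh : orderOf (x * y) / 2 = m := by omega
  rw [hh]
  constructor
  · rintro ⟨d, hd, h⟩
    obtain ⟨k, hk⟩ := CfsgLib.Inv.conj_left hx hy hd
    rw [hk] at h
    have h2 : (x * y) ^ (2 * k) = (x * y) ^ (m : ℤ) := by
      rw [zpow_natCast]; exact mul_left_cancel h
    obtain ⟨c, hc⟩ := Int.modEq_iff_dvd.1 (zpow_eq_zpow_iff_modEq.1 h2)
    rw [hm, Nat.cast_add, add_mul] at hc
    obtain ⟨e, he⟩ : (2 : ℤ) ∣ (m : ℤ) := ⟨k + (m : ℤ) * c, by omega⟩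
    rw [hm]
    refine ⟨e.toNat, ?_⟩
    omega
  · rintro ⟨c, hc⟩
    refine ⟨(x * y) ^ (-(c : ℤ)), (CfsgLib.Inv.mem_pair_iff hx hy).2 (.inl ⟨_, rfl⟩), ?_⟩
    rw [CfsgLib.Inv.conj_by_zpow hx hy, ← zpow_natCast (x * y) m]
    congr 2
    omega

end Cfsg.Agent.S0211
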