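import Cfsg.Statements.S0212
import Cfsg.Agent.Inv.BrauerFowler

set_option autoImplicit false
open Cfsg

namespace Cfsg.Agent.S0212

/-- The Brauer–Fowler bound: if G is a finite simple group and t an involution of G whose centralizer has order n, then |G| ≤ (2n^2)!. -/
theorem result {G : Type*} [Group G] [Finite G] [IsSimpleGroup G] (t : G) (ht : orderOf t = 2) : Nat.card G ≤ Nat.factorial (2 * (Nat.card (Subgroup.centralizer ({t} : Set G))) ^ 2) := by
  classical
  haveI : Fact (Nat.Prime 2) := ⟨Nat.prime_two⟩
  have heven : Even (Nat.card G) := by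
    rw [even_iff_two_dvd, ← ht]; exact orderOf_dvd_natCard t
  by_cases hgt : 2 < Nat.card G
  · have hna : ¬ ∀ a b : G, a * b = b * a := fun h => by
      have hp := CfsgLib.Inv.simple_comm_card_prime h
      have := (hp.even_iff).1 heven
      omega
    have hZ : Odd (Nat.card (Subgroup.center G)) := by
      rw [CfsgLib.Inv.simple_center_eq_bot hna, Subgroup.card_bot]; exact odd_one
    obtain ⟨H, hH, h | h⟩ := CfsgLib.Inv.brauer_fowler heven hZ
    · exact absurd h (CfsgLib.Inv.simple_no_index_two hgt H)
    · refine (Nat.le_of_dvd (Nat.factorial_pos _) (CfsgLib.Inv.simple_card_dvd_factorial hH)).trans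
        (Nat.factorial_le ?_)
      have := CfsgLib.Inv.index_lt_sq ht h
      omega
  · have hpos : 0 < Nat.card (Subgroup.centralizer ({t} : Set G)) := Nat.card_pos
    have h1 : 2 ≤ 2 * Nat.card (Subgroup.centralizer ({t} : Set G)) ^ 2 := by
      have := Nat.one_le_pow 2 _ hpos
      omega
    calc Nat.card G ≤ 2 := by omega
      _ ≤ 2 * Nat.card (Subgroup.centralizer ({t} : Set G)) ^ 2 := h1
      _ ≤ _ := Nat.self_le_factorial _

end Cfsg.Agent.S0212
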