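import Cfsg.Statements.S0213
import Cfsg.Agent.Inv.Count

set_option autoImplicit false
open Cfsg

namespace Cfsg.Agent.S0213

/-- Thompson Order Formula, two-class case: if every involution of the finite group G is conjugate to exactly one of the non-conjugate involutions x₁, x₂, and nᵢ is the number of pairs (u, v) with u conjugate to x₁, v conjugate to x₂ and xᵢ in the cyclic group generated by uv, then |G| = |C(x₂)| n₁ + |C(x₁)| n₂. -/
theorem result {G : Type*} [Group G] [Finite G] (x₁ x₂ : G) (h₁ : orderOf x₁ = 2) (h₂ : orderOf x₂ = 2) (hnc : ¬ IsConj x₁ x₂) (hall : ∀ t : G, orderOf t = 2 → IsConj x₁ t ∨ IsConj x₂ t) : Nat.card G = Nat.card (Subgroup.centralizer ({x₂} : Set G)) * Nat.card {p : G × G // IsConj x₁ p.1 ∧ IsConj x₂ p.2 ∧ x₁ ∈ Subgroup.zpowers (p.1 * p.2)} + Nat.card (Subgroup.centralizer ({x₁} : Set G)) * Nat.card {p : G × G // IsConj x₁ p.1 ∧ IsConj x₂ p.2 ∧ x₂ ∈ Subgroup.zpowers (p.1 * p.2)} := by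
  classical
  haveI := Fintype.ofFinite G
  have hcard : ∀ x : G, Nat.card {u : G // IsConj x u} * Nat.card (Subgroup.centralizer ({x} : Set G)) = Nat.card G := by
    intro x
    have hcarr : ConjClasses.carrier (ConjClasses.mk x) = {u : G | IsConj x u} := by
      ext u; rw [ConjClasses.mem_carrier_iff_mk_eq, ConjClasses.mk_eq_mk_iff_isConj]
      exact ⟨IsConj.symm, IsConj.symm⟩
    have h := MulAction.card_orbit_mul_card_stabilizer_eq_card_group (ConjAct G) x
    rw [ConjAct.card, ← Nat.card_eq_fintype_card, ← Nat.card_eq_fintype_card,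
      ← Nat.card_eq_fintype_card] at h
    rw [← h]
    congr 1
    · refine Nat.card_congr (Equiv.subtypeEquivRight fun u => ?_)
      rw [ConjAct.mem_orbit_conjAct]
      exact ⟨IsConj.symm, IsConj.symm⟩
    · refine Nat.card_congr
        { toFun := fun c => ⟨ConjAct.toConjAct c.1, ?_⟩
          invFun := fun s => ⟨ConjAct.ofConjAct s.1, ?_⟩
          left_inv := fun _ => rfl
          right_inv := fun _ => rfl }
      · rw [MulAction.mem_stabilizer_iff, ConjAct.smul_def, ConjAct.ofConjAct_toConjAct,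
          Subgroup.mem_centralizer_singleton_iff.1 c.2, mul_inv_cancel_right]
      · have hs := MulAction.mem_stabilizer_iff.1 s.2
        rw [ConjAct.smul_def] at hs
        rw [Subgroup.mem_centralizer_singleton_iff]
        exact mul_inv_eq_iff_eq_mul.1 hs
  set A := {u : G // IsConj x₁ u}
  set B := {v : G // IsConj x₂ v}
  have hinv : ∀ {x u : G}, orderOf x = 2 → IsConj x u → orderOf u = 2 := by
    intro x u hx h
    obtain ⟨c, rfl⟩ := isConj_iff.1 h
    exact CfsgLib.Inv.invol_conj hx c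
  have heven : ∀ p : A × B, Even (orderOf (p.1.1 * p.2.1)) := by
    intro p
    by_contra h
    exact hnc ((p.1.2.trans (CfsgLib.Inv.isConj_of_odd (hinv h₁ p.1.2) (hinv h₂ p.2.2)
      (Nat.not_even_iff_odd.1 h))).trans p.2.2.symm)
  let W : A × B → G := fun p => (p.1.1 * p.2.1) ^ (orderOf (p.1.1 * p.2.1) / 2)
  have hW : ∀ p, orderOf (W p) = 2 := fun p =>
    (CfsgLib.Inv.even_center (hinv h₁ p.1.2) (hinv h₂ p.2.2) (heven p)).1
  have hWiff : ∀ (p : A × B) (x : G), orderOf x = 2 → (W p = x ↔ x ∈ Subgroup.zpowers (p.1.1 * p.2.1)) := by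
    intro p x hx
    have hmem : W p ∈ Subgroup.zpowers (p.1.1 * p.2.1) := pow_mem (Subgroup.mem_zpowers _) _
    refine ⟨fun h => h ▸ hmem, fun hxm => ?_⟩
    have hc := IsCyclic.card_orderOf_eq_totient (α := Subgroup.zpowers (p.1.1 * p.2.1)) (d := 2)
      (by rw [Fintype.card_zpowers]; exact even_iff_two_dvd.1 (heven p))
    rw [Nat.totient_two] at hc
    exact congrArg Subtype.val (Finset.card_le_one.1 hc.le ⟨_, hmem⟩ (by simp [hW p]) ⟨x, hxm⟩ (by simp [hx]))
  set F : G → ℕ := fun w => Nat.card {p : A × B // W p = w}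
  set Q : G → ℕ := fun w => Nat.card {p : G × G // IsConj x₁ p.1 ∧ IsConj x₂ p.2 ∧ w ∈ Subgroup.zpowers (p.1 * p.2)}
  have hFQ : ∀ x : G, orderOf x = 2 → F x = Q x := by
    intro x hx
    exact Nat.card_congr
      { toFun := fun p => ⟨(p.1.1.1, p.1.2.1), p.1.1.2, p.1.2.2, (hWiff p.1 x hx).1 p.2⟩
        invFun := fun p => ⟨(⟨p.1.1, p.2.1⟩, ⟨p.1.2, p.2.2.1⟩), (hWiff _ x hx).2 p.2.2.2⟩
        left_inv := fun _ => rfl
        right_inv := fun _ => rfl }
  have hconjQ : ∀ x y : G, IsConj x y → Q x = Q y := by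
    intro x y hxy
    obtain ⟨c, rfl⟩ := isConj_iff.1 hxy
    refine Nat.card_congr
      { toFun := fun p => ⟨(c * p.1.1 * c⁻¹, c * p.1.2 * c⁻¹), p.2.1.trans (isConj_iff.2 ⟨c, rfl⟩),
          p.2.2.1.trans (isConj_iff.2 ⟨c, rfl⟩), ?_⟩
        invFun := fun p => ⟨(c⁻¹ * p.1.1 * c, c⁻¹ * p.1.2 * c), p.2.1.trans (isConj_iff.2 ⟨c⁻¹, by simp⟩),
          p.2.2.1.trans (isConj_iff.2 ⟨c⁻¹, by simp⟩), ?_⟩
        left_inv := fun p => Subtype.ext (Prod.ext (by simp [mul_assoc]) (by simp [mul_assoc]))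
        right_inv := fun p => Subtype.ext (Prod.ext (by simp [mul_assoc]) (by simp [mul_assoc])) }
    · obtain ⟨k, hk⟩ := Subgroup.mem_zpowers_iff.1 p.2.2.2
      refine Subgroup.mem_zpowers_iff.2 ⟨k, ?_⟩
      dsimp only
      rw [conj_mul, conj_zpow, hk]
    · obtain ⟨k, hk⟩ := Subgroup.mem_zpowers_iff.1 p.2.2.2
      refine Subgroup.mem_zpowers_iff.2 ⟨k, ?_⟩
      dsimp only
      have e : c⁻¹ * p.1.1 * c * (c⁻¹ * p.1.2 * c) = c⁻¹ * (p.1.1 * p.1.2) * c⁻¹⁻¹ := by group
      rw [e, conj_zpow, hk]; group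
  have hsum : Nat.card A * Nat.card B = ∑ w, F w := by
    rw [← Nat.card_prod, ← Nat.card_sigma]
    exact Nat.card_congr (Equiv.sigmaFiberEquiv W).symm
  have hpt : ∀ w, F w = (if IsConj x₁ w then Q x₁ else 0) + (if IsConj x₂ w then Q x₂ else 0) := by
    intro w
    by_cases hw : orderOf w = 2
    · rcases hall w hw with h | h
      · rw [if_pos h, if_neg (fun h' => hnc (h.trans h'.symm)), add_zero, hFQ w hw, hconjQ x₁ w h]
      · rw [if_pos h, if_neg (fun h' => hnc (h'.trans h.symm)), zero_add, hFQ w hw, hconjQ x₂ w h]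
    · haveI : IsEmpty {p : A × B // W p = w} := ⟨fun p => hw (p.2 ▸ hW p.1)⟩
      rw [if_neg (fun h => hw (hinv h₁ h)), if_neg (fun h => hw (hinv h₂ h))]
      exact Nat.card_of_isEmpty
  simp only [hpt, Finset.sum_add_distrib, ← Finset.sum_filter, Finset.sum_const, smul_eq_mul] at hsum
  rw [← Fintype.card_subtype, ← Fintype.card_subtype, ← Nat.card_eq_fintype_card,
    ← Nat.card_eq_fintype_card] at hsum
  have e1 := hcard x₁
  have e2 := hcard x₂
  show Nat.card G = Nat.card (Subgroup.centralizer ({x₂} : Set G)) * Q x₁ +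
    Nat.card (Subgroup.centralizer ({x₁} : Set G)) * Q x₂
  have hg0 : 0 < Nat.card G := Nat.card_pos
  refine Nat.eq_of_mul_eq_mul_left hg0 ?_
  calc Nat.card G * Nat.card G
      = (Nat.card A * Nat.card (Subgroup.centralizer ({x₁} : Set G))) *
          (Nat.card B * Nat.card (Subgroup.centralizer ({x₂} : Set G))) := by rw [e1, e2]
    _ = (Nat.card A * Nat.card B) * (Nat.card (Subgroup.centralizer ({x₁} : Set G)) *
          Nat.card (Subgroup.centralizer ({x₂} : Set G))) := by ring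
    _ = (Nat.card A * Nat.card (Subgroup.centralizer ({x₁} : Set G))) *
          (Nat.card (Subgroup.centralizer ({x₂} : Set G)) * Q x₁) +
        (Nat.card B * Nat.card (Subgroup.centralizer ({x₂} : Set G))) *
          (Nat.card (Subgroup.centralizer ({x₁} : Set G)) * Q x₂) := by rw [hsum]; ring
    _ = _ := by rw [e1, e2]; ring

end Cfsg.Agent.S0213
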