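import Cfsg.Statements.S0214
import Cfsg.Agent.Inv.StronglyEmbedded

set_option autoImplicit false
open Cfsg

namespace Cfsg.Agent.S0214

/-- Let H be a proper subgroup of the finite group G and P a nontrivial Sylow 2-subgroup of H. Then H is strongly embedded in G if and only if N_G(X) ≤ H for every nontrivial subgroup X of P. -/
theorem result {G : Type*} [Group G] [Finite G] (H : Subgroup G) (hH : H ≠ ⊤) (P : Sylow 2 ↥H) (hP : (P : Subgroup ↥H) ≠ ⊥) : Cfsg.IsStronglyEmbedded H ↔ (∀ X : Subgroup ↥H, X ≤ (P : Subgroup ↥H) → X ≠ ⊥ → Subgroup.normalizer ((X.map H.subtype : Subgroup G) : Set G) ≤ H) := by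
  haveI : Fact (Nat.Prime 2) := ⟨Nat.prime_two⟩
  constructor
  · intro h X hXP hX g hg
    have hXp : IsPGroup 2 X := P.isPGroup'.to_le hXP
    haveI : Nontrivial X := (Subgroup.nontrivial_iff_ne_bot X).2 hX
    obtain ⟨k, hk, hk1⟩ := hXp.nontrivial_iff_card.1 inferInstance
    obtain ⟨x, hx⟩ := exists_prime_orderOf_dvd_card' (G := X) 2 (hk1 ▸ dvd_pow_self 2 hk.ne')
    have hx' : orderOf ((x : H) : G) = 2 := by rw [Subgroup.orderOf_coe, Subgroup.orderOf_coe, hx]
    refine ((CfsgLib.Inv.se_iff_invol H).1 h).2.2 g _ hx' x.1.2 ?_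
    have hm := (Subgroup.mem_normalizer_iff.1 (inv_mem hg) ((x : H) : G)).1 ⟨_, x.2, rfl⟩
    rw [inv_inv] at hm
    exact Subgroup.map_subtype_le X hm
  · intro hN
    -- normalizers of all nontrivial 2-subgroups of H lie in H
    have key : ∀ T : Subgroup G, IsPGroup 2 T → T ≠ ⊥ → T ≤ H →
        Subgroup.normalizer (T : Set G) ≤ H := by
      intro T hT hT1 hTH g hg
      obtain ⟨Q, hQ⟩ := (hT.comap_of_injective H.subtype H.subtype_injective :
        IsPGroup 2 (T.subgroupOf H)).exists_le_sylow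
      obtain ⟨h, rfl⟩ := MulAction.exists_smul_eq H P Q
      set X : Subgroup H := (T.subgroupOf H).map (MulAut.conj h⁻¹).toMonoidHom with hX
      have hXP : X ≤ (P : Subgroup H) := by
        rintro _ ⟨a, ha, rfl⟩
        have ha' := hQ ha
        change a ∈ (P : Subgroup H).map (MulAut.conj h).toMonoidHom at ha'
        exact CfsgLib.Inv.mem_conj_map.1 ha' |> fun e => by simpa [mul_assoc] using e
      have hX1 : X ≠ ⊥ := by
        rw [hX, Ne, Subgroup.map_eq_bot_iff_of_injective _ (MulAut.conj h⁻¹).injective,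
          Subgroup.subgroupOf_eq_bot, disjoint_iff, inf_eq_left.2 hTH]
        exact hT1
      have hXG : ∀ a : G, a ∈ X.map H.subtype ↔ (h : G) * a * (h : G)⁻¹ ∈ T := by
        intro a
        constructor
        · rintro ⟨_, ⟨b, hb, rfl⟩, rfl⟩
          simpa [mul_assoc] using (show (b : G) ∈ T from hb)
        · intro ha
          refine ⟨_, ⟨⟨_, hTH ha⟩, ha, rfl⟩, ?_⟩
          simp [mul_assoc]
      have hc : (h : G)⁻¹ * g * h ∈ Subgroup.normalizer ((X.map H.subtype : Subgroup G) : Set G) := by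
        rw [Subgroup.mem_normalizer_iff]
        intro a
        rw [hXG, hXG, Subgroup.mem_normalizer_iff.1 hg]
        rw [show g * ((h : G) * a * (h : G)⁻¹) * g⁻¹
          = (h : G) * ((h : G)⁻¹ * g * h * a * ((h : G)⁻¹ * g * h)⁻¹) * (h : G)⁻¹ by group]
      have := mul_mem (mul_mem h.2 (hN X hXP hX1 hc)) (inv_mem h.2)
      simpa [mul_assoc] using this
    have heven : Even (Nat.card H) := by
      haveI : Nontrivial (P : Subgroup H) := (Subgroup.nontrivial_iff_ne_bot _).2 hP
      obtain ⟨k, hk, hk1⟩ := P.isPGroup'.nontrivial_iff_card.1 inferInstance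
      exact even_iff_two_dvd.2 ((hk1 ▸ dvd_pow_self 2 hk.ne').trans (Subgroup.card_subgroup_dvd_card _))
    rw [CfsgLib.Inv.se_iff_invol]
    refine ⟨hH, heven, fun g t ht htH htg => ?_⟩
    set D := H ⊓ H.map (MulAut.conj g).toMonoidHom
    have htD : t ∈ D := ⟨htH, CfsgLib.Inv.mem_conj_map.2 htg⟩
    obtain ⟨T⟩ : Nonempty (Sylow 2 D) := inferInstance
    set TG := (T : Subgroup D).map D.subtype
    have hTG : IsPGroup 2 TG := T.isPGroup'.map _
    have hT1 : TG ≠ ⊥ := by
      rw [Ne, Subgroup.map_eq_bot_iff_of_injective _ D.subtype_injective]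
      refine T.ne_bot_of_dvd_card ?_
      rw [← ht, ← Subgroup.orderOf_mk t htD]
      exact orderOf_dvd_natCard _
    have hTH : TG ≤ H := (Subgroup.map_subtype_le _).trans inf_le_left
    have hTg : TG.map (MulAut.conj g⁻¹).toMonoidHom ≤ H := by
      rintro _ ⟨a, ha, rfl⟩
      have := CfsgLib.Inv.mem_conj_map.1 (Subgroup.map_subtype_le _ ha : a ∈ D).2
      simpa using this
    have hN1 := key TG hTG hT1 hTH
    have hN2 := key _ (hTG.map _) (by
      rwa [Ne, Subgroup.map_eq_bot_iff_of_injective _ (MulAut.conj g⁻¹).injective]) hTg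
    have hND : Subgroup.normalizer (TG : Set G) ≤ D := by
      intro x hx
      refine ⟨hN1 hx, CfsgLib.Inv.mem_conj_map.2 (hN2 ?_)⟩
      rw [Subgroup.mem_normalizer_iff]
      intro a
      rw [CfsgLib.Inv.mem_conj_map, CfsgLib.Inv.mem_conj_map, Subgroup.mem_normalizer_iff.1 hx]
      simp [mul_assoc]
    obtain ⟨S, hS⟩ := hTG.exists_le_sylow
    have hTS : TG = S := by
      refine le_antisymm hS ?_
      haveI := IsPGroup.isNilpotent S.isPGroup'
      by_contra hne
      have hlt : TG.subgroupOf (S : Subgroup G) < ⊤ :=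
        lt_top_iff_ne_top.2 fun e => hne (Subgroup.subgroupOf_eq_top.1 e)
      obtain ⟨⟨n, hnS⟩, hn, hnT⟩ := SetLike.exists_of_lt (Group.normalizerCondition_of_isNilpotent _ hlt)
      have hnN : n ∈ Subgroup.normalizer (TG : Set G) := by
        rw [Subgroup.mem_normalizer_iff]
        intro a
        constructor
        · exact fun ha => (Subgroup.mem_normalizer_iff.1 hn ⟨a, hS ha⟩).1 ha
        · intro ha
          have h2 := (Subgroup.mem_normalizer_iff.1 (inv_mem hn) ⟨_, hS ha⟩).1 ha
          simpa [Subgroup.mem_subgroupOf, mul_assoc] using h2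
      let E : Subgroup D := (Subgroup.normalizer (TG : Set G) ⊓ (S : Subgroup G)).subgroupOf D
      have hE : IsPGroup 2 E := (S.isPGroup'.to_le inf_le_right).comap_of_injective _ D.subtype_injective
      have hTE : (T : Subgroup D) ≤ E := fun a ha =>
        ⟨Subgroup.le_normalizer ⟨a, ha, rfl⟩, hS ⟨a, ha, rfl⟩⟩
      have : (⟨n, hND hnN⟩ : D) ∈ (T : Subgroup D) :=
        (T.3 hE hTE) ▸ (show (⟨n, hND hnN⟩ : D) ∈ E from ⟨hnN, hnS⟩)
      exact hnT ⟨_, this, rfl⟩
    let A : Sylow 2 G := S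
    have hA : (A : Subgroup G) ≤ H := hTS ▸ hTH
    let B : Sylow 2 G := g⁻¹ • S
    have hB : (B : Subgroup G) ≤ H := by
      intro b hb
      refine hTg ?_
      rw [hTS]
      exact hb
    obtain ⟨h, hh⟩ := MulAction.exists_smul_eq H (A.subtype hA) (B.subtype hB)
    have hmem : g * h ∈ Subgroup.normalizer (TG : Set G) := by
      rw [hTS]
      have e : (h : G) • A = B :=
        Sylow.subtype_injective ((Sylow.smul_subtype hA h).symm.trans hh)
      exact Sylow.smul_eq_iff_mem_normalizer.1 (by rw [mul_smul, e, smul_inv_smul])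
    simpa using mul_mem (hN1 hmem) (inv_mem h.2)

end Cfsg.Agent.S0214
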