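import Cfsg.Statements.S0216
import Cfsg.Agent.Inv.Isolated

set_option autoImplicit false
open Cfsg

namespace Cfsg.Agent.S0216

/-- For an involution u in a Sylow 2-subgroup P of a finite group G, the following are equivalent: no G-conjugate of u other than u lies in P; every commutator of u with an element of G has odd order. -/
theorem result {G : Type*} [Group G] [Finite G] (P : Sylow 2 G) (u : G) (hu : orderOf u = 2) (huP : u ∈ P) : (∀ g : G, g * u * g⁻¹ ∈ P → g * u * g⁻¹ = u) ↔ (∀ g : G, Odd (orderOf (u * g * u⁻¹ * g⁻¹))) := by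
  have e : ∀ g : G, u * g * u⁻¹ * g⁻¹ = u * (g * u * g⁻¹) := fun g => by
    rw [CfsgLib.Inv.invol_inv hu]; group
  simp only [e]
  constructor
  · exact fun h g => CfsgLib.Inv.isolated_odd hu (CfsgLib.Inv.isolated_of_sylow P hu huP h) g
  · intro h g hg
    obtain ⟨k, hk⟩ := P.isPGroup' ⟨u * (g * u * g⁻¹), mul_mem huP hg⟩
    have hk' : (u * (g * u * g⁻¹)) ^ (2 ^ k) = 1 := by simpa [Subtype.ext_iff] using hk
    have h1 : orderOf (u * (g * u * g⁻¹)) = 1 := by
      have hc : Nat.Coprime (orderOf (u * (g * u * g⁻¹))) (2 ^ k) :=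
        Nat.Coprime.pow_right _ (Nat.coprime_two_right.2 (h g))
      exact hc.eq_one_of_dvd (orderOf_dvd_of_pow_eq_one hk')
    rw [orderOf_eq_one_iff] at h1
    rw [eq_inv_of_mul_eq_one_right h1, CfsgLib.Inv.invol_inv hu]

end Cfsg.Agent.S0216
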