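import Cfsg.Statements.S0218
import Cfsg.Agent.Inv.Dihedral

set_option autoImplicit false
open Cfsg

namespace Cfsg.Agent.S0218

/-- The generalized quaternion group of order 2^(n+3) contains exactly one element of order 2. -/
theorem result (n : ℕ) : Nat.card {x : QuaternionGroup (2 ^ (n + 1)) // orderOf x = 2} = 1 := by
  haveI : NeZero (2 ^ (n + 1)) := ⟨by positivity⟩
  haveI : NeZero (2 * 2 ^ (n + 1)) := ⟨by positivity⟩
  have hn : (2 : ℕ) ^ (n + 1) < 2 * 2 ^ (n + 1) := by
    have : 0 < (2 : ℕ) ^ (n + 1) := by positivity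
    omega
  rw [Nat.card_eq_one_iff_exists]
  have h0 : orderOf (QuaternionGroup.a ((2 ^ (n + 1) : ℕ)) : QuaternionGroup (2 ^ (n + 1))) = 2 := by
    rw [QuaternionGroup.orderOf_a, ZMod.val_natCast_of_lt hn, Nat.gcd_eq_right (dvd_mul_left _ _),
      Nat.mul_div_cancel _ (by positivity)]
  refine ⟨⟨_, h0⟩, ?_⟩
  rintro ⟨x, hx⟩
  refine Subtype.ext ?_
  rcases x with i | i
  · show QuaternionGroup.a i = QuaternionGroup.a _
    rw [QuaternionGroup.orderOf_a] at hx
    have hg := Nat.gcd_dvd_left (2 * 2 ^ (n + 1)) i.val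
    obtain ⟨c, hc⟩ := Nat.gcd_dvd_right (2 * 2 ^ (n + 1)) i.val
    have e : 2 * Nat.gcd (2 * 2 ^ (n + 1)) i.val = 2 * 2 ^ (n + 1) := by
      conv_rhs => rw [← Nat.div_mul_cancel hg, hx]
    have hlt := ZMod.val_lt i
    rcases c with _ | _ | c
    · rw [mul_zero] at hc
      rw [hc, Nat.gcd_zero_right] at e
      omega
    · congr 1
      rw [← ZMod.natCast_zmod_val i]
      congr 1
      omega
    · nlinarith
  · rw [QuaternionGroup.orderOf_xa] at hx
    omega

end Cfsg.Agent.S0218
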