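import Cfsg.Statements.S0220
import Cfsg.Agent.Inv.CyclicSylow
import Cfsg.Agent.Inv.Dihedral

set_option autoImplicit false
open Cfsg

namespace Cfsg.Agent.S0220

/-- If x is an involution of a finite group G and a Sylow 2-subgroup of the centralizer of x is cyclic, then G has a subgroup of index 2; in particular G is not simple unless it has order 2. -/
theorem result {G : Type*} [Group G] [Finite G] (x : G) (hx : orderOf x = 2) (S : Sylow 2 ↥(Subgroup.centralizer ({x} : Set G))) (hS : IsCyclic (S : Subgroup ↥(Subgroup.centralizer ({x} : Set G)))) : ∃ H : Subgroup G, H.index = 2 := by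
  haveI : Fact (Nat.Prime 2) := ⟨Nat.prime_two⟩
  revert S hS
  set C := Subgroup.centralizer ({x} : Set G) with hC
  intro S hS
  have heven : Even (Nat.card G) := by
    rw [even_iff_two_dvd, ← hx]; exact orderOf_dvd_natCard x
  have hxC : x ∈ C := Subgroup.mem_centralizer_singleton_iff.2 rfl
  have hxS : (⟨x, hxC⟩ : C) ∈ S := by
    have hx' : orderOf (⟨x, hxC⟩ : C) = 2 := by rw [Subgroup.orderOf_mk, hx]
    have hp : IsPGroup 2 ↥(Subgroup.zpowers (⟨x, hxC⟩ : C)) :=
      IsPGroup.of_card (n := 1) (by rw [Nat.card_zpowers, hx', pow_one])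
    haveI : (Subgroup.zpowers (⟨x, hxC⟩ : C)).Normal := by
      refine ⟨fun a ha b => ?_⟩
      obtain ⟨i, rfl⟩ := Subgroup.mem_zpowers_iff.1 ha
      have hcz : Commute b (⟨x, hxC⟩ : C) := Subtype.ext (Subgroup.mem_centralizer_singleton_iff.1 b.2)
      rw [(hcz.zpow_right i).eq, mul_inv_cancel_right]
      exact Subgroup.zpow_mem_zpowers _ _
    have hle : Subgroup.zpowers (⟨x, hxC⟩ : C) ⊔ (S : Subgroup C) = S :=
      S.3 (hp.to_sup_of_normal_left S.isPGroup') le_sup_right
    have := (le_sup_left : Subgroup.zpowers (⟨x, hxC⟩ : C) ≤ _ ⊔ (S : Subgroup C))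
      (Subgroup.mem_zpowers _)
    rwa [hle] at this
  have hSp : IsPGroup 2 ↥((S : Subgroup C).map C.subtype) := S.isPGroup'.map _
  obtain ⟨P, hP⟩ := hSp.exists_le_sylow
  have hPC : (P : Subgroup G).subgroupOf C = S :=
    S.3 (P.isPGroup'.comap_of_injective _ C.subtype_injective) fun s hs => hP ⟨s, hs, rfl⟩
  have hxP : x ∈ P := hP ⟨_, hxS, rfl⟩
  haveI : Nontrivial (P : Subgroup G) := by
    refine ⟨⟨x, hxP⟩, 1, fun h => CfsgLib.Inv.invol_ne_one hx (congrArg Subtype.val h)⟩
  haveI := P.isPGroup'.center_nontrivial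
  obtain ⟨w, hw⟩ : ∃ w : Subgroup.center (P : Subgroup G), orderOf w = 2 := by
    refine exists_prime_orderOf_dvd_card' 2 ?_
    obtain ⟨k, hk⟩ := (P.isPGroup'.to_subgroup (Subgroup.center (P : Subgroup G))).exists_card_eq
    rcases k with _ | k
    · exact absurd hk (Finite.one_lt_card.ne')
    · rw [hk]; exact dvd_pow_self 2 (Nat.succ_ne_zero k)
  have hwcomm : ∀ p ∈ P, p * (w : (P : Subgroup G)).1 = (w : (P : Subgroup G)).1 * p := fun p hp =>
    congrArg Subtype.val (Subgroup.mem_center_iff.1 w.2 ⟨p, hp⟩)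
  set wg : G := (w : (P : Subgroup G)).1
  have hwC : wg ∈ C := Subgroup.mem_centralizer_singleton_iff.2 (hwcomm x hxP).symm
  have hwS : (⟨wg, hwC⟩ : C) ∈ S := by
    have : (⟨wg, hwC⟩ : C) ∈ (P : Subgroup G).subgroupOf C := (w : (P : Subgroup G)).2
    rwa [hPC] at this
  have hwg : orderOf wg = 2 := by rw [← hw, ← Subgroup.orderOf_coe w, ← Subgroup.orderOf_coe]
  haveI := hS
  have huniq : (⟨⟨wg, hwC⟩, hwS⟩ : (S : Subgroup C)) = ⟨⟨x, hxC⟩, hxS⟩ := by
    have h1 : orderOf (⟨⟨wg, hwC⟩, hwS⟩ : (S : Subgroup C)) = 2 := by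
      rw [Subgroup.orderOf_mk, Subgroup.orderOf_mk, hwg]
    have h2 : orderOf (⟨⟨x, hxC⟩, hxS⟩ : (S : Subgroup C)) = 2 := by
      rw [Subgroup.orderOf_mk, Subgroup.orderOf_mk, hx]
    classical
    haveI := Fintype.ofFinite (S : Subgroup C)
    have hc := IsCyclic.card_orderOf_eq_totient (α := (S : Subgroup C)) (d := 2)
      (by convert orderOf_dvd_card (x := (⟨⟨x, hxC⟩, hxS⟩ : (S : Subgroup C))); exact h2.symm)
    rw [Nat.totient_two] at hc
    exact Finset.card_le_one.1 hc.le _ (by simp [h1]) _ (by simp [h2])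
  have hwx : wg = x := congrArg (fun s : (S : Subgroup C) => ((s : C) : G)) huniq
  have hle : (P : Subgroup G) ≤ C := fun p hp => by
    rw [hC, Subgroup.mem_centralizer_singleton_iff, ← hwx]
    exact hwcomm p hp
  refine CfsgLib.Inv.exists_index_two_of_cyclic_sylow heven P ?_
  haveI : IsCyclic ↥((P : Subgroup G).subgroupOf C) := hPC ▸ hS
  exact isCyclic_of_surjective _ (Subgroup.subgroupOfEquivOfLe hle).surjective

end Cfsg.Agent.S0220
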