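import Cfsg.Statements.S0221
import Cfsg.Agent.Inv.NormalFour
import Cfsg.Agent.Solv.SmallTransfer

set_option autoImplicit false
open Cfsg

namespace Cfsg.Agent.S0221

theorem sup_eight {G : Type*} [Group G] [Finite G] {U : Subgroup G} (hU4 : Nat.card U = 4) (hU2 : ∀ u ∈ U, u ^ 2 = 1)
    {y : G} (hy : y ^ 2 = 1) (hyU : y ∉ U) (hc : ∀ u ∈ U, Commute y u) :
    ∃ B : Subgroup G, U ≤ B ∧ y ∈ B ∧ Nat.card B = 8 ∧ ∀ b ∈ B, b ^ 2 = 1 ∧ Commute y b := by
  have hyy : y * y = 1 := by rw [← pow_two]; exact hy
  let B : Subgroup G :=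
    { carrier := {b | b ∈ U ∨ y * b ∈ U}
      one_mem' := Or.inl (one_mem U)
      mul_mem' := by
        rintro a b (ha | ha) (hb | hb)
        · exact Or.inl (mul_mem ha hb)
        · right
          have := mul_mem ha hb
          rwa [← mul_assoc, ← (hc a ha).eq, mul_assoc] at this
        · right
          have := mul_mem ha hb
          rwa [mul_assoc] at this
        · left
          have := mul_mem ha hb
          have e : y * a * (y * b) = a * b := by
            have h1 : Commute y a := by
              have h2 := (Commute.refl y).mul_right (hc _ ha)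
              rwa [← mul_assoc, hyy, one_mul] at h2
            calc y * a * (y * b) = (y * a) * y * b := by group
              _ = (a * y) * y * b := by rw [h1.eq]
              _ = a * (y * y) * b := by group
              _ = a * b := by rw [hyy, mul_one]
          rwa [e] at this
      inv_mem' := by
        rintro a (ha | ha)
        · exact Or.inl (inv_mem ha)
        · right
          have h1 : Commute y a := by
            have h2 := (Commute.refl y).mul_right (hc _ ha)
            rwa [← mul_assoc, hyy, one_mul] at h2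
          have e : y * a⁻¹ = (y * a)⁻¹ := by
            rw [mul_inv_rev, inv_eq_of_mul_eq_one_right hyy, h1.inv_right.eq]
          rw [e]; exact inv_mem ha }
  refine ⟨B, fun u hu => Or.inl hu, Or.inr (by rw [hyy]; exact one_mem U), ?_, ?_⟩
  · have hset : (B : Set G) = (U : Set G) ∪ (fun u => y * u) '' (U : Set G) := by
      ext b
      constructor
      · rintro (hb | hb)
        · exact Or.inl hb
        · exact Or.inr ⟨y * b, hb, by show y * (y * b) = b; rw [← mul_assoc, hyy, one_mul]⟩
      · rintro (hb | ⟨u, hu, rfl⟩)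
        · exact Or.inl hb
        · exact Or.inr (by show y * (y * u) ∈ U; rw [← mul_assoc, hyy, one_mul]; exact hu)
    have hd : Disjoint (U : Set G) ((fun u => y * u) '' (U : Set G)) := by
      rw [Set.disjoint_left]
      rintro b hb ⟨u, hu, rfl⟩
      exact hyU (by simpa using mul_mem hb (inv_mem hu))
    show Nat.card (B : Set G) = 8
    rw [Nat.card_coe_set_eq, hset, Set.ncard_union_eq hd, Set.ncard_image_of_injective _ (mul_right_injective y)]
    rw [← Nat.card_coe_set_eq]
    simp only [SetLike.coe_sort_coe, hU4]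
  · rintro b (hb | hb)
    · exact ⟨hU2 b hb, hc b hb⟩
    · have h1 : Commute y b := by
        have h2 := (Commute.refl y).mul_right (hc _ hb)
        rwa [← mul_assoc, hyy, one_mul] at h2
      refine ⟨?_, h1⟩
      have := hU2 _ hb
      rwa [h1.mul_pow, hy, one_mul] at this

/-- Let G be a finite group with no subgroup of index 2 whose 2-rank is at least 3 (it contains an elementary abelian subgroup of order 8). Then the centralizer of every involution of G also contains an elementary abelian subgroup of order 8. -/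
theorem result {G : Type*} [Group G] [Finite G] (hno : ∀ H : Subgroup G, H.index ≠ 2) (hrank : ∃ E : Subgroup G, Nat.card E = 8 ∧ ∀ e ∈ E, e ^ 2 = 1) (x : G) (hx : orderOf x = 2) : ∃ E : Subgroup G, E ≤ Subgroup.centralizer ({x} : Set G) ∧ Nat.card E = 8 ∧ ∀ e ∈ E, e ^ 2 = 1 := by
  exact (by
    haveI : Fact (Nat.Prime 2) := ⟨Nat.prime_two⟩
    obtain ⟨E, hE8, hE2⟩ := hrank
    have hEp : IsPGroup 2 E := IsPGroup.of_card (n := 3) (by rw [hE8]; norm_num)
    obtain ⟨S, hES⟩ := hEp.exists_le_sylow
    obtain ⟨U', hU'n, hU'4, hU'2⟩ := CfsgLib.Inv.exists_normal_four_of_eight S.2 (E := E.subgroupOf S)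
      (by rw [Nat.card_congr (Subgroup.subgroupOfEquivOfLe hES).toEquiv]; exact hE8)
      (fun e he => Subtype.ext (by simpa using hE2 e he))
    set U := U'.map (S : Subgroup G).subtype with hUdef
    have hUS : U ≤ (S : Subgroup G) := Subgroup.map_subtype_le _
    have hU4 : Nat.card U = 4 := by
      rw [hUdef, ← Nat.card_congr (Subgroup.equivMapOfInjective U' _ (S : Subgroup G).subtype_injective).toEquiv]
      exact hU'4
    have hU2 : ∀ u ∈ U, u ^ 2 = 1 := by
      rintro _ ⟨u, hu, rfl⟩
      rw [← map_pow, hU'2 u hu, map_one]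
    have hUconj : ∀ s ∈ (S : Subgroup G), ∀ u ∈ U, s * u * s⁻¹ ∈ U := by
      rintro s hs _ ⟨u, hu, rfl⟩
      exact ⟨_, hU'n.conj_mem u hu ⟨s, hs⟩, rfl⟩
    have hUc : ∀ a ∈ U, ∀ b ∈ U, Commute a b := by
      intro a ha b hb
      have i : ∀ w ∈ U, w⁻¹ = w := fun w hw => inv_eq_of_mul_eq_one_right (by rw [← pow_two]; exact hU2 w hw)
      show a * b = b * a
      calc a * b = (a * b)⁻¹ := (i _ (mul_mem ha hb)).symm
        _ = b * a := by rw [mul_inv_rev, i a ha, i b hb]
    set C := (S : Subgroup G) ⊓ Subgroup.centralizer (U : Set G) with hC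
    have hCmem : ∀ c, c ∈ C → ∀ u ∈ U, Commute c u := fun c hc u hu =>
      (Subgroup.mem_centralizer_iff.1 (Subgroup.mem_inf.1 hc).2 u hu).symm
    -- a central involution of `S` inside `U`
    obtain ⟨z, hzU, hz1, hzc⟩ : ∃ z ∈ U, z ≠ 1 ∧ ∀ s ∈ (S : Subgroup G), Commute s z := by
      obtain ⟨M, hMn, hMU, hM⟩ := CfsgLib.Solv.exists_normal_le_card S.2 (N := U') (k := 1) (by omega)
      rw [pow_one] at hM
      haveI := hMn
      obtain ⟨m, hm⟩ := exists_prime_orderOf_dvd_card' 2 (by rw [hM] : 2 ∣ Nat.card M)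
      refine ⟨((m : (S : Subgroup G)) : G), ⟨_, hMU m.2, rfl⟩, fun h => ?_, fun s hs => ?_⟩
      · rw [OneMemClass.coe_eq_one, OneMemClass.coe_eq_one] at h
        rw [h, orderOf_one] at hm
        omega
      · have h5 := Subgroup.mem_center_iff.1 (CfsgLib.Solv.le_center_of_card_prime S.2 hM m.2) (⟨s, hs⟩ : (S : Subgroup G))
        have h6 : ((⟨s, hs⟩ : (S : Subgroup G)) * (m : (S : Subgroup G)) : (S : Subgroup G)) = (m : (S : Subgroup G)) * ⟨s, hs⟩ := h5
        have h7 := congrArg Subtype.val h6
        simpa [Commute, SemiconjBy] using h7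
    have hzz : z * z = 1 := by rw [← pow_two]; exact hU2 z hzU
    obtain ⟨u, huU, huz, hu1⟩ : ∃ u ∈ U, u ≠ z ∧ u ≠ 1 := by
      by_contra hc
      push Not at hc
      have hsub : (U : Set G) ⊆ {1, z} := fun u hu => by
        by_cases h : u = z
        · exact Or.inr h
        · exact Or.inl (hc u hu h)
      have := Set.ncard_le_ncard hsub
      rw [← Nat.card_coe_set_eq] at this
      simp only [SetLike.coe_sort_coe, hU4] at this
      have h2 : ({1, z} : Set G).ncard ≤ 2 := by
        rw [Set.ncard_insert_of_notMem (by simp [hz1.symm]), Set.ncard_singleton]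
      omega
    have hzu1 : z * u ≠ 1 := fun h => huz (by rw [eq_inv_of_mul_eq_one_right h, inv_eq_of_mul_eq_one_right hzz])
    have hUset : ∀ w ∈ U, w = 1 ∨ w = z ∨ w = u ∨ w = z * u := by
      intro w hw
      by_contra hc
      push Not at hc
      have hsub : ({1, z, u, z * u, w} : Set G) ⊆ (U : Set G) := by
        intro v hv
        rcases hv with rfl | rfl | rfl | rfl | rfl
        exacts [one_mem U, hzU, huU, mul_mem hzU huU, hw]
      have := Set.ncard_le_ncard hsub
      rw [← Nat.card_coe_set_eq (U : Set G)] at this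
      simp only [SetLike.coe_sort_coe, hU4] at this
      have h6 : z * u ≠ z := fun h => hu1 (mul_eq_left.1 h)
      have h7 : z * u ≠ u := fun h => hz1 (mul_eq_right.1 h)
      rw [Set.ncard_insert_of_notMem (by simp [hz1.symm, hu1.symm, hzu1.symm, hc.1.symm]),
        Set.ncard_insert_of_notMem (by simp [huz.symm, h6.symm, hc.2.1.symm]),
        Set.ncard_insert_of_notMem (by simp [h7.symm, hc.2.2.1.symm]),
        Set.ncard_insert_of_notMem (by simp [hc.2.2.2.symm]), Set.ncard_singleton] at this
      omega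
    have hact : ∀ s ∈ (S : Subgroup G), s ∈ C ∨ s * u * s⁻¹ = z * u := by
      intro s hs
      have hsc : s * u * s⁻¹ = u → s ∈ C := fun h => Subgroup.mem_inf.2 ⟨hs, Subgroup.mem_centralizer_iff.2 fun w hw => by
        have c1 : Commute s u := mul_inv_eq_iff_eq_mul.1 h
        rcases hUset w hw with e | e | e | e <;> rw [e]
        · simp
        · exact (hzc s hs).symm.eq
        · exact c1.symm.eq
        · exact ((hzc s hs).mul_right c1).symm.eq⟩
      rcases hUset _ (hUconj s hs u huU) with h | h | h | h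
      · exact absurd (conj_eq_one_iff.1 h) hu1
      · exact absurd (by
          have h2 := congrArg (fun x => s⁻¹ * x * s) h
          have h3 : s⁻¹ * z * s = z := by rw [mul_assoc, ← (hzc s hs).eq, inv_mul_cancel_left]
          simp only [h3] at h2
          simpa [mul_assoc] using h2) huz
      · exact Or.inl (hsc h)
      · exact Or.inr h
    have hCS : C ≤ (S : Subgroup G) := inf_le_left
    have hprod : ∀ s ∈ (S : Subgroup G), ∀ t ∈ (S : Subgroup G), s ∉ C → t ∉ C → s⁻¹ * t ∈ C := by
      intro s hs t ht hsn htn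
      refine (hact _ (mul_mem (inv_mem hs) ht)).resolve_right fun h => hzu1 ?_
      have h1 := (hact s hs).resolve_left hsn
      have h2 := (hact t ht).resolve_left htn
      have h3 : s⁻¹ * t * u * (s⁻¹ * t)⁻¹ = u := by
        calc s⁻¹ * t * u * (s⁻¹ * t)⁻¹ = s⁻¹ * (t * u * t⁻¹) * s := by group
          _ = s⁻¹ * (s * u * s⁻¹) * s := by rw [h1, h2]
          _ = u := by group
      rw [h3] at h
      exact absurd (mul_eq_right.1 h.symm) hz1
    have hEC : 4 ≤ Nat.card (E ⊓ C : Subgroup G) := by
      by_cases hall : E ≤ C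
      · rw [inf_eq_left.2 hall, hE8]; norm_num
      obtain ⟨f, hf, hfC⟩ := SetLike.not_le_iff_exists.1 hall
      have hcov : (E : Set G) ⊆ ((E ⊓ C : Subgroup G) : Set G) ∪ (fun x => f * x) '' ((E ⊓ C : Subgroup G) : Set G) := by
        intro e he
        by_cases hec : e ∈ C
        · exact Or.inl (Subgroup.mem_inf.2 ⟨he, hec⟩)
        · exact Or.inr ⟨f⁻¹ * e, Subgroup.mem_inf.2 ⟨mul_mem (inv_mem hf) he, hprod f (hES hf) e (hES he) hfC hec⟩, by simp⟩
      have h1 := (Set.ncard_le_ncard hcov).trans (Set.ncard_union_le _ _)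
      rw [Set.ncard_image_of_injective _ (mul_right_injective f), ← Nat.card_coe_set_eq, ← Nat.card_coe_set_eq] at h1
      simp only [SetLike.coe_sort_coe] at h1
      omega
    obtain ⟨y, hyE, hyU⟩ : ∃ y ∈ E ⊓ C, y ∉ U := by
      by_contra hc
      push Not at hc
      have h := Subgroup.eq_of_le_of_card_ge (fun y hy => hc y hy : E ⊓ C ≤ U) (by omega)
      have hUE : U ≤ E := h ▸ inf_le_left
      have hEC' : E ≤ C := by
        intro e he
        refine Subgroup.mem_inf.2 ⟨hES he, Subgroup.mem_centralizer_iff.2 fun w hw => ?_⟩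
        have i : ∀ v ∈ E, v⁻¹ = v := fun v hv => inv_eq_of_mul_eq_one_right (by rw [← pow_two]; exact hE2 v hv)
        calc w * e = (w * e)⁻¹ := (i _ (mul_mem (hUE hw) he)).symm
          _ = e * w := by rw [mul_inv_rev, i _ (hUE hw), i e he]
      rw [inf_eq_left.2 hEC'] at h
      rw [h, hU4] at hE8
      omega
    obtain ⟨A, hUA, -, hA8, hA⟩ := sup_eight hU4 hU2 (hE2 y (Subgroup.mem_inf.1 hyE).1) hyU (hCmem y (Subgroup.mem_inf.1 hyE).2)
    have hgoal : ∀ w ∈ C, w ^ 2 = 1 → w ≠ 1 →
        ∃ B : Subgroup G, Nat.card B = 8 ∧ ∀ b ∈ B, b ^ 2 = 1 ∧ Commute w b := by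
      intro w hw hw2 hw1
      by_cases hwU : w ∈ U
      · refine ⟨A, hA8, fun b hb => ⟨(hA b hb).1, ?_⟩⟩
        have i : ∀ v ∈ A, v⁻¹ = v := fun v hv => inv_eq_of_mul_eq_one_right (by rw [← pow_two]; exact (hA v hv).1)
        show w * b = b * w
        calc w * b = (w * b)⁻¹ := (i _ (mul_mem (hUA hwU) hb)).symm
          _ = b * w := by rw [mul_inv_rev, i _ (hUA hwU), i b hb]
      · obtain ⟨B, -, -, hB8, hB⟩ := sup_eight hU4 hU2 hw2 hwU (hCmem w hw)
        exact ⟨B, hB8, hB⟩
    obtain ⟨g, hg⟩ : ∃ g : G, g * x * g⁻¹ ∈ C := by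
      by_cases hSC : (S : Subgroup G) ≤ C
      · have hxp : IsPGroup 2 (Subgroup.zpowers x) := IsPGroup.of_card (n := 1) (by rw [Nat.card_zpowers, hx, pow_one])
        obtain ⟨T, hT⟩ := hxp.exists_le_sylow
        obtain ⟨g, hg⟩ := MulAction.exists_smul_eq G T S
        refine ⟨g, hSC ?_⟩
        rw [← hg, Sylow.coe_subgroup_smul, CfsgLib.Solv.mem_conj_smul_iff]
        have e : g⁻¹ * (g * x * g⁻¹) * g = x := by group
        rw [e]
        exact hT (Subgroup.mem_zpowers x)
      · obtain ⟨s, hs, hsC⟩ := SetLike.not_le_iff_exists.1 hSC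
        have hrel : C.relIndex (S : Subgroup G) = 2 := by
          show (C.subgroupOf (S : Subgroup G)).index = 2
          rw [Subgroup.index_eq_two_iff]
          refine ⟨⟨s, hs⟩, fun b => ?_⟩
          by_cases hb : (b : G) ∈ C
          · refine Or.inr ⟨hb, fun h => hsC ?_⟩
            have := mul_mem (inv_mem hb) (Subgroup.mem_subgroupOf.1 h)
            simpa using this
          · refine Or.inl ⟨?_, fun h => hb h⟩
            have := hprod (b : G)⁻¹ (inv_mem b.2) s hs (fun h => hb (by simpa using inv_mem h)) hsC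
            rw [Subgroup.mem_subgroupOf]
            simpa using this
        refine (CfsgLib.Solv.thompson_transfer S hCS hrel hx).resolve_left ?_
        rintro ⟨M, -, hM, -⟩
        exact hno M hM
    obtain ⟨B, hB8, hB⟩ := hgoal _ hg (by rw [conj_pow, ← hx, pow_orderOf_eq_one, mul_one, mul_inv_cancel]) (by
      intro h
      rw [conj_eq_one_iff] at h
      rw [h, orderOf_one] at hx
      omega)
    refine ⟨B.map (MulAut.conj g⁻¹).toMonoidHom, ?_, ?_, ?_⟩
    · rintro _ ⟨b, hb, rfl⟩
      rw [Subgroup.mem_centralizer_singleton_iff]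
      have h := ((hB b hb).2.map (MulAut.conj g⁻¹).toMonoidHom).symm.eq
      simp [mul_assoc] at h ⊢
      exact h
    · rw [← Nat.card_congr (Subgroup.equivMapOfInjective B _ (MulAut.conj g⁻¹).injective).toEquiv]
      exact hB8
    · rintro _ ⟨b, hb, rfl⟩
      rw [← map_pow, (hB b hb).1, map_one])

end Cfsg.Agent.S0221
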