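import Cfsg.Statements.S0223
import Cfsg.Agent.Inv.StronglyEmbedded

set_option autoImplicit false
open Cfsg

namespace Cfsg.Agent.S0223

/-- Let H be a proper subgroup of even order of the finite group G. Then H is strongly embedded if and only if (i) C_G(t) ≤ H for every involution t of H and (ii) H controls fusion of its involutions: involutions of H conjugate in G are conjugate in H. -/
theorem result {G : Type*} [Group G] [Finite G] (H : Subgroup G) (hH : H ≠ ⊤) (heven : Even (Nat.card H)) : Cfsg.IsStronglyEmbedded H ↔ ((∀ t ∈ H, orderOf t = 2 → Subgroup.centralizer ({t} : Set G) ≤ H) ∧ (∀ t ∈ H, ∀ s ∈ H, orderOf t = 2 → orderOf s = 2 → IsConj t s → ∃ h ∈ H, h * t * h⁻¹ = s)) := by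
  constructor
  · intro h
    refine ⟨fun t ht h2 => CfsgLib.Inv.se_centralizer_le h ht h2, fun t ht s hs h2 _ hc => ?_⟩
    obtain ⟨g, rfl⟩ := isConj_iff.1 hc
    exact ⟨g, CfsgLib.Inv.se_mem_of_conj h ht h2 hs, rfl⟩
  · rintro ⟨hC, hF⟩
    rw [CfsgLib.Inv.se_iff_invol]
    refine ⟨hH, heven, fun g t ht htH htg => ?_⟩
    have hs : orderOf (g⁻¹ * t * g) = 2 := by simpa using CfsgLib.Inv.invol_conj ht g⁻¹
    obtain ⟨h, hh, he⟩ := hF t htH (g⁻¹ * t * g) htg ht hs (isConj_iff.2 ⟨g⁻¹, by simp⟩)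
    have hgh : g * h ∈ Subgroup.centralizer ({t} : Set G) := by
      rw [Subgroup.mem_centralizer_singleton_iff]
      calc g * h * t = g * (h * t * h⁻¹) * h := by group
        _ = t * (g * h) := by rw [he]; group
    simpa using mul_mem (hC t htH ht hgh) (inv_mem hh)

end Cfsg.Agent.S0223
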