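import Cfsg.Statements.S0224
import Cfsg.Agent.Inv.StronglyEmbedded

set_option autoImplicit false
open Cfsg

namespace Cfsg.Agent.S0224

/-- Let H be a proper subgroup of even order of the finite group G. Then H is strongly embedded if and only if each involution of H fixes exactly one point (namely the coset H) in the action of G on the cosets of H. -/
theorem result {G : Type*} [Group G] [Finite G] (H : Subgroup G) (hH : H ≠ ⊤) (heven : Even (Nat.card H)) : Cfsg.IsStronglyEmbedded H ↔ ∀ t ∈ H, orderOf t = 2 → Nat.card {c : G ⧸ H // t • c = c} = 1 := by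
  rw [CfsgLib.Inv.se_iff_invol]
  constructor
  · rintro ⟨-, -, h⟩ t htH ht
    rw [Nat.card_eq_one_iff_exists]
    refine ⟨⟨(1 : G), CfsgLib.Inv.fixed_coset_iff.2 (by simpa using htH)⟩, ?_⟩
    rintro ⟨c, hc⟩
    obtain ⟨g, rfl⟩ := QuotientGroup.mk_surjective c
    refine Subtype.ext (QuotientGroup.eq.2 ?_)
    simpa using inv_mem (h g t ht htH (CfsgLib.Inv.fixed_coset_iff.1 hc))
  · intro h
    refine ⟨hH, heven, fun g t ht htH htg => ?_⟩
    obtain ⟨c, hc⟩ := Nat.card_eq_one_iff_exists.1 (h t htH ht)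
    have h1 := hc ⟨(1 : G), CfsgLib.Inv.fixed_coset_iff.2 (by simpa using htH)⟩
    have h2 := hc ⟨(g : G ⧸ H), CfsgLib.Inv.fixed_coset_iff.2 htg⟩
    have h3 := QuotientGroup.eq.1 (congrArg Subtype.val (h1.trans h2.symm))
    simpa using h3

end Cfsg.Agent.S0224
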