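import Cfsg.Statements.S0226
import Cfsg.Agent.Inv.Dihedral
import Mathlib.GroupTheory.Perm.Cycle.Type

set_option autoImplicit false
open Cfsg

namespace Cfsg.Agent.S0226

/-- A finite group of even order has an odd number of involutions. -/
theorem result {G : Type*} [Group G] [Finite G] (heven : Even (Nat.card G)) : Odd (Nat.card {t : G // orderOf t = 2}) := by
  classical
  haveI := Fintype.ofFinite G
  rw [Nat.card_eq_fintype_card] at heven
  have h1 := Equiv.Perm.card_compl_support_modEq (p := 2) (n := 1) (σ := Equiv.inv G)
    (by ext g; simp [pow_two])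
  have h2 : Nat.card {g : G // g * g = 1} % 2 = 0 := by
    have e : Nat.card {g : G // g * g = 1} = (Equiv.Perm.support (Equiv.inv G))ᶜ.card := by
      rw [Nat.card_eq_fintype_card, Fintype.card_subtype]
      congr 1; ext g
      simp [Equiv.Perm.mem_support, inv_eq_iff_mul_eq_one]
    rw [e, h1]; exact Nat.even_iff.1 heven
  have h3 : Nat.card {g : G // g * g = 1} = Nat.card {t : G // orderOf t = 2} + 1 := by
    rw [← Finite.card_option]
    refine Nat.card_congr
      { toFun := fun g => if h : (g : G) = 1 then none
          else some ⟨g, orderOf_eq_prime (by rw [pow_two]; exact g.2) h⟩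
        invFun := fun o => o.elim ⟨1, one_mul 1⟩ fun t => ⟨t, by
          exact CfsgLib.Inv.invol_mul_self t.2⟩
        left_inv := fun g => by by_cases h : (g : G) = 1 <;> simp [h, Subtype.ext_iff]
        right_inv := fun o => by
          rcases o with _ | ⟨t, ht⟩
          · simp
          · have : t ≠ 1 := fun h => by simp [h] at ht
            simp [this] }
  rw [Nat.odd_iff]; omega

end Cfsg.Agent.S0226
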