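import Cfsg.Statements.S0228
import Cfsg.Agent.Inv.Dihedral
import Mathlib.GroupTheory.Sylow
import Mathlib.GroupTheory.SpecificGroups.Alternating

set_option autoImplicit false
open Cfsg

namespace Cfsg.Agent.S0228

/-- A group of order 12 in which no involution is central is isomorphic to the alternating group on four letters. -/
theorem result {G : Type*} [Group G] [Finite G] (hG : Nat.card G = 12) (hz : ∀ z : G, orderOf z = 2 → z ∉ Subgroup.center G) : Nonempty (G ≃* alternatingGroup (Fin 4)) := by
  classical
  haveI : Fact (Nat.Prime 2) := ⟨Nat.prime_two⟩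
  haveI : Fact (Nat.Prime 3) := ⟨Nat.prime_three⟩
  haveI := Fintype.ofFinite G
  obtain ⟨P⟩ : Nonempty (Sylow 3 G) := inferInstance
  have hP : Nat.card (P : Subgroup G) = 3 := by
    rw [P.card_eq_multiplicity, hG, show (12 : ℕ) = 3 * 4 by norm_num,
      Nat.factorization_mul (by norm_num) (by norm_num), Finsupp.add_apply,
      Nat.Prime.factorization_self Nat.prime_three,
      Nat.factorization_eq_zero_of_not_dvd (by norm_num : ¬ 3 ∣ 4)]
    norm_num
  have hPi : (P : Subgroup G).index = 4 := by
    have := (P : Subgroup G).card_mul_index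
    rw [hP, hG] at this; omega
  have hn3 : Nat.card (Sylow 3 G) = 4 := by
    have h1 := P.card_dvd_index
    rw [hPi] at h1
    have h2 : Nat.card (Sylow 3 G) % 3 = 1 := card_sylow_modEq_one 3 G
    have h3 : Nat.card (Sylow 3 G) ≤ 4 := Nat.le_of_dvd (by norm_num) h1
    rcases (show Nat.card (Sylow 3 G) = 1 ∨ Nat.card (Sylow 3 G) = 4 by omega) with h | h
    · exfalso
      rw [P.card_eq_index_normalizer, Subgroup.index_eq_one] at h
      have hPn : (P : Subgroup G).Normal :=
        Subgroup.normalizer_eq_top_iff.1 (h : Subgroup.normalizer ((P : Subgroup G) : Set G) = ⊤)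
      obtain ⟨S⟩ : Nonempty (Sylow 2 G) := inferInstance
      have hS : Nat.card (S : Subgroup G) = 4 := by
        rw [S.card_eq_multiplicity, hG, show (12 : ℕ) = 2 ^ 2 * 3 by norm_num,
          Nat.factorization_mul (by norm_num) (by norm_num), Finsupp.add_apply,
          Nat.Prime.factorization_pow Nat.prime_two,
          Nat.factorization_eq_zero_of_not_dvd (by norm_num : ¬ 2 ∣ 3)]
        simp
      -- `S` acts on `P ≃ C₃`; some involution of `S` acts trivially
      let f : (S : Subgroup G) →* MulAut (P : Subgroup G) :=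
        (MulAut.conjNormal (H := (P : Subgroup G))).comp (S : Subgroup G).subtype
      haveI : IsCyclic (P : Subgroup G) := isCyclic_of_prime_card hP
      have haut : Nat.card (MulAut (P : Subgroup G)) = 2 := by
        rw [IsCyclic.card_mulAut, hP, Nat.totient_prime Nat.prime_three]
      have hker : f.ker ≠ ⊥ := by
        intro hb
        have hle := Nat.card_le_card_of_injective f ((MonoidHom.ker_eq_bot_iff f).1 hb)
        omega
      obtain ⟨k, hk⟩ : ∃ k : f.ker, orderOf k = 2 := by
        refine exists_prime_orderOf_dvd_card' 2 ?_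
        haveI : Nontrivial f.ker := (Subgroup.nontrivial_iff_ne_bot _).2 hker
        obtain ⟨j, hj, hj1⟩ := ((S.isPGroup').to_subgroup f.ker).nontrivial_iff_card.1 inferInstance
        exact hj1 ▸ dvd_pow_self 2 hj.ne'
      have hk2 : orderOf ((k : (S : Subgroup G)) : G) = 2 := by
        rw [Subgroup.orderOf_coe, Subgroup.orderOf_coe, hk]
      refine hz _ hk2 ?_
      haveI : IsMulCommutative (S : Subgroup G) :=
        IsPGroup.isMulCommutative_of_card_eq_prime_sq (p := 2) (by rw [hS]; norm_num)
      have hPS : (P : Subgroup G) ⊔ S ≤ Subgroup.centralizer ({((k : (S : Subgroup G)) : G)} : Set G) := by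
        refine sup_le (fun x hx => ?_) fun x hx => ?_
        · rw [Subgroup.mem_centralizer_singleton_iff]
          have := congrArg Subtype.val (DFunLike.congr_fun (MonoidHom.mem_ker.1 k.2) (⟨x, hx⟩ : (P : Subgroup G)))
          simp only [f, MonoidHom.coe_comp, Function.comp_apply, Subgroup.coe_subtype,
            MulAut.conjNormal_apply, MulAut.one_apply] at this
          exact (mul_inv_eq_iff_eq_mul.1 this).symm
        · rw [Subgroup.mem_centralizer_singleton_iff]
          exact congrArg Subtype.val (‹IsMulCommutative (S : Subgroup G)›.is_comm.comm ⟨x, hx⟩ k.1)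
      have htop : (P : Subgroup G) ⊔ S = ⊤ := by
        refine Subgroup.eq_top_of_le_card _ ?_
        rw [hG]
        have h1 := Subgroup.card_dvd_of_le (le_sup_left : (P : Subgroup G) ≤ (P : Subgroup G) ⊔ S)
        have h2 := Subgroup.card_dvd_of_le (le_sup_right : (S : Subgroup G) ≤ (P : Subgroup G) ⊔ S)
        rw [hP] at h1; rw [hS] at h2
        exact Nat.le_of_dvd Nat.card_pos (Nat.Coprime.mul_dvd_of_dvd_of_dvd (by norm_num) h1 h2)
      rw [htop, top_le_iff] at hPS
      exact Subgroup.mem_center_iff.2 fun g =>
        Subgroup.mem_centralizer_singleton_iff.1 (hPS.symm ▸ Subgroup.mem_top g)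
    · exact h
  let φ := MulAction.toPermHom G (Sylow 3 G)
  have hinj : Function.Injective φ := by
    rw [injective_iff_map_eq_one]
    intro g hg
    have hfix : ∀ Q : Sylow 3 G, g ∈ (Q : Subgroup G) := by
      intro Q
      have hm : g ∈ Subgroup.normalizer (Q : Set G) :=
        Sylow.smul_eq_iff_mem_normalizer.1 (DFunLike.congr_fun hg Q : g • Q = Q)
      have hQ : Nat.card (Q : Subgroup G) = 3 := by
        rw [Q.card_eq_multiplicity, ← P.card_eq_multiplicity, hP]
      have he : Subgroup.normalizer ((Q : Subgroup G) : Set G) = (Q : Subgroup G) := by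
        refine (Subgroup.eq_of_le_of_card_ge Subgroup.le_normalizer ?_).symm
        have h1 := (Subgroup.normalizer ((Q : Subgroup G) : Set G)).card_mul_index
        have h2 : (Subgroup.normalizer ((Q : Subgroup G) : Set G)).index = 4 := by
          rw [← hn3]; exact Q.card_eq_index_normalizer.symm
        rw [h2, hG] at h1
        omega
      exact (he ▸ (hm : g ∈ Subgroup.normalizer ((Q : Subgroup G) : Set G)) : g ∈ (Q : Subgroup G))
    by_contra hg1
    obtain ⟨Q, hQ⟩ : ∃ Q : Sylow 3 G, Q ≠ P := by
      haveI : Nontrivial (Sylow 3 G) := Finite.one_lt_card_iff_nontrivial.1 (by omega)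
      exact exists_ne P
    have hQc : Nat.card (Q : Subgroup G) = 3 := by
      rw [Q.card_eq_multiplicity, ← P.card_eq_multiplicity, hP]
    haveI : IsCyclic (P : Subgroup G) := isCyclic_of_prime_card hP
    have hle : Subgroup.zpowers g = P := by
      refine Subgroup.eq_of_le_of_card_ge (Subgroup.zpowers_le.2 (hfix P)) ?_
      rw [hP, Nat.card_zpowers]
      have hd : orderOf g ∣ 3 := hP ▸ Subgroup.orderOf_mk g (hfix P) ▸ orderOf_dvd_natCard _
      rcases (Nat.dvd_prime Nat.prime_three).1 hd with h | h
      · exact absurd (orderOf_eq_one_iff.1 h) hg1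
      · omega
    have hle2 : (P : Subgroup G) = Q := by
      refine Subgroup.eq_of_le_of_card_ge (hle ▸ Subgroup.zpowers_le.2 (hfix Q)) ?_
      rw [hP, hQc]
    exact hQ (Sylow.ext hle2.symm)
  haveI := Fintype.ofFinite (Sylow 3 G)
  let e : Sylow 3 G ≃ Fin 4 := Fintype.equivFinOfCardEq (by rw [← Nat.card_eq_fintype_card, hn3])
  let f : G →* Equiv.Perm (Fin 4) := e.permCongrHom.toMonoidHom.comp φ
  have hf : Function.Injective f := e.permCongrHom.injective.comp hinj
  have hidx : f.range.index = 2 := by
    have h := f.range.card_mul_index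
    rw [Nat.card_congr (MonoidHom.ofInjective hf).toEquiv.symm, hG, Nat.card_perm, Nat.card_fin] at h
    norm_num [Nat.factorial] at h
    omega
  exact ⟨(MonoidHom.ofInjective hf).trans
    (MulEquiv.subgroupCongr (Equiv.Perm.eq_alternatingGroup_of_index_eq_two hidx))⟩

end Cfsg.Agent.S0228
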