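import Cfsg.Statements.S0229
import Cfsg.Agent.Inv.Isolated

set_option autoImplicit false
open Cfsg

namespace Cfsg.Agent.S0229

/-- Let t be an involution of a Sylow 2-subgroup S of a finite group G, conjugate in G to no other element of S, and let s be an involution of G not conjugate to t. Then the order of st is twice an odd number. -/
theorem result {G : Type*} [Group G] [Finite G] (S : Sylow 2 G) (t : G) (ht : orderOf t = 2) (htS : t ∈ S) (hiso : ∀ g : G, g * t * g⁻¹ ∈ S → g * t * g⁻¹ = t) (s : G) (hs : orderOf s = 2) (hns : ¬ IsConj s t) : orderOf (s * t) % 4 = 2 := by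
  have hst : s * t = (t * s)⁻¹ := by
    rw [mul_inv_rev, CfsgLib.Inv.invol_inv hs, CfsgLib.Inv.invol_inv ht]
  rw [hst, orderOf_inv]
  have hisol := CfsgLib.Inv.isolated_of_sylow S ht htS hiso
  have heven : Even (orderOf (t * s)) := by
    by_contra h
    exact hns (CfsgLib.Inv.isConj_of_odd ht hs (Nat.not_even_iff_odd.1 h)).symm
  obtain ⟨hw, hc, -⟩ := CfsgLib.Inv.even_center ht hs heven
  obtain ⟨m, hm⟩ := heven
  rcases Nat.even_or_odd m with ⟨l, hl⟩ | ⟨l, hl⟩
  · exfalso
    have h := hisol ((t * s) ^ (-(l : ℤ)))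
    rw [CfsgLib.Inv.conj_by_zpow ht hs] at h
    have h2 : (t * s) ^ (2 * (l : ℤ)) = (t * s) ^ (orderOf (t * s) / 2) := by
      rw [← zpow_natCast (t * s) (orderOf (t * s) / 2)]; congr 1; omega
    rw [h2] at h
    exact CfsgLib.Inv.invol_ne_one hw (mul_eq_left.1 (h ((Commute.refl t).mul_right hc.symm)))
  · omega

end Cfsg.Agent.S0229
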