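import Cfsg.Statements.S0230
import Cfsg.Agent.Inv.BrauerFowler

set_option autoImplicit false
open Cfsg

namespace Cfsg.Agent.S0230

/-- Let G be a finite group with two non-conjugate involutions, and let t be an involution whose centralizer has maximal order among centralizers of involutions. Then |G| < |C_G(t)|^3. -/
theorem result {G : Type*} [Group G] [Finite G] (s t : G) (hs : orderOf s = 2) (ht : orderOf t = 2) (hnc : ¬ IsConj s t) (hmax : ∀ u : G, orderOf u = 2 → Nat.card (Subgroup.centralizer ({u} : Set G)) ≤ Nat.card (Subgroup.centralizer ({t} : Set G))) : Nat.card G < Nat.card (Subgroup.centralizer ({t} : Set G)) ^ 3 := by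
  classical
  haveI := Fintype.ofFinite G
  set c := Nat.card (Subgroup.centralizer ({t} : Set G)) with hc
  have hinv : ∀ u : G, orderOf u = 2 →
      Nat.card {w : G // orderOf w = 2 ∧ Commute w u} + 1 ≤ c := by
    intro u hu
    refine le_trans ?_ (hmax u hu)
    rw [Nat.add_one_le_iff, Nat.card_eq_fintype_card, Nat.card_eq_fintype_card]
    refine Fintype.card_lt_of_injective_of_notMem
      (fun w : {w : G // orderOf w = 2 ∧ Commute w u} =>
        (⟨w.1, Subgroup.mem_centralizer_singleton_iff.2 w.2.2.eq⟩ :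
          Subgroup.centralizer ({u} : Set G)))
      (fun a b h => Subtype.ext (congrArg (fun y : Subgroup.centralizer ({u} : Set G) => (y : G)) h))
      (b := 1) ?_
    rintro ⟨w, hw⟩
    exact CfsgLib.Inv.invol_ne_one w.2.1
      (congrArg (fun y : Subgroup.centralizer ({u} : Set G) => (y : G)) hw)
  have heven : ∀ q : G ⧸ Subgroup.centralizer ({t} : Set G),
      Even (orderOf (s * (q.out * t * q.out⁻¹))) := by
    intro q
    by_contra h
    have h1 := CfsgLib.Inv.isConj_of_odd hs (CfsgLib.Inv.invol_conj ht q.out) (Nat.not_even_iff_odd.1 h)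
    exact hnc (h1.trans (isConj_iff.2 ⟨q.out⁻¹, by group⟩))
  have hmap : Nat.card (G ⧸ Subgroup.centralizer ({t} : Set G)) ≤
      Nat.card (Σ w : {w : G // orderOf w = 2 ∧ Commute w s},
        {v : G // orderOf v = 2 ∧ Commute v w.1}) := by
    refine Nat.card_le_card_of_injective (fun q =>
      ⟨⟨_, (CfsgLib.Inv.even_center hs (CfsgLib.Inv.invol_conj ht q.out) (heven q)).1,
        (CfsgLib.Inv.even_center hs (CfsgLib.Inv.invol_conj ht q.out) (heven q)).2.1⟩,
       ⟨q.out * t * q.out⁻¹, CfsgLib.Inv.invol_conj ht q.out,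
        (CfsgLib.Inv.even_center hs (CfsgLib.Inv.invol_conj ht q.out) (heven q)).2.2.symm⟩⟩) ?_
    intro a b h
    have h' : a.out * t * a.out⁻¹ = b.out * t * b.out⁻¹ :=
      congrArg (fun p : Σ w : {w : G // orderOf w = 2 ∧ Commute w s},
        {v : G // orderOf v = 2 ∧ Commute v w.1} => (p.2 : G)) h
    rw [← a.out_eq', ← b.out_eq', QuotientGroup.eq, Subgroup.mem_centralizer_singleton_iff]
    calc a.out⁻¹ * b.out * t = a.out⁻¹ * (b.out * t * b.out⁻¹) * b.out := by group
      _ = t * (a.out⁻¹ * b.out) := by rw [← h']; group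
  rw [Nat.card_sigma, ← Subgroup.index_eq_card] at hmap
  have hsum : (∑ w : {w : G // orderOf w = 2 ∧ Commute w s},
      Nat.card {v : G // orderOf v = 2 ∧ Commute v w.1}) ≤
        Nat.card {w : G // orderOf w = 2 ∧ Commute w s} * c := by
    refine (Finset.sum_le_card_nsmul _ _ c fun w _ => ?_).trans ?_
    · have := hinv w.1 w.2.1; omega
    · rw [Finset.card_univ, Nat.card_eq_fintype_card, smul_eq_mul]
  have h1 := hinv s hs
  have h2 : (Subgroup.centralizer ({t} : Set G)).index < c ^ 2 := by
    refine (hmap.trans hsum).trans_lt ?_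
    have hc0 : 0 < c := Nat.card_pos
    rw [pow_two]
    exact Nat.mul_lt_mul_of_pos_right (by omega) hc0
  have e := (Subgroup.centralizer ({t} : Set G)).card_mul_index
  rw [← e, show c ^ 3 = c * c ^ 2 by ring]
  exact Nat.mul_lt_mul_of_pos_left h2 Nat.card_pos

end Cfsg.Agent.S0230
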