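import Cfsg.Statements.S0231
import Cfsg.Agent.Inv.Dihedral

set_option autoImplicit false
open scoped Pointwise
open Cfsg

namespace Cfsg.Agent.S0231

/-- Let T be a Sylow 2-subgroup of the finite group G which is not normal and which intersects every other Sylow 2-subgroup trivially. Then G has a single conjugacy class of involutions. -/
theorem result {G : Type*} [Group G] [Finite G] (T : Sylow 2 G) (hnn : ¬ (T : Subgroup G).Normal) (hTI : ∀ g : G, MulAut.conj g • (T : Subgroup G) ≠ T → MulAut.conj g • (T : Subgroup G) ⊓ T = ⊥) (s t : G) (hs : orderOf s = 2) (ht : orderOf t = 2) : IsConj s t := by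
  classical
  haveI : Fact (Nat.Prime 2) := ⟨Nat.prime_two⟩
  -- distinct Sylow 2-subgroups meet trivially
  have hTI' : ∀ A B : Sylow 2 G, A ≠ B → (A : Subgroup G) ⊓ B = ⊥ := by
    intro A B hne
    obtain ⟨a, rfl⟩ := MulAction.exists_smul_eq G T A
    obtain ⟨b, rfl⟩ := MulAction.exists_smul_eq G T B
    have h1 : MulAut.conj (b⁻¹ * a) • (T : Subgroup G) ≠ T := by
      intro h
      refine hne (Sylow.ext ?_)
      show MulAut.conj a • (T : Subgroup G) = MulAut.conj b • (T : Subgroup G)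
      nth_rw 2 [← h]
      rw [← mul_smul, ← map_mul, mul_inv_cancel_left]
    rw [eq_bot_iff]
    rintro x ⟨hxa, hxb⟩
    have hxa' : (MulAut.conj a)⁻¹ • x ∈ (T : Subgroup G) :=
      Subgroup.mem_pointwise_smul_iff_inv_smul_mem.1 hxa
    have hxb' : (MulAut.conj b)⁻¹ • x ∈ (T : Subgroup G) :=
      Subgroup.mem_pointwise_smul_iff_inv_smul_mem.1 hxb
    have : (MulAut.conj b)⁻¹ • x ∈ MulAut.conj (b⁻¹ * a) • (T : Subgroup G) ⊓ T := by
      refine ⟨Subgroup.mem_pointwise_smul_iff_inv_smul_mem.2 ?_, hxb'⟩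
      rw [← mul_smul, map_mul, map_inv, mul_inv_rev, inv_inv, mul_assoc, mul_inv_cancel, mul_one]
      exact hxa'
    rw [hTI _ h1, Subgroup.mem_bot] at this
    rw [Subgroup.mem_bot]
    exact MulAction.injective ((MulAut.conj b)⁻¹) (this.trans (smul_one _).symm)
  have huniq : ∀ u : G, u ≠ 1 → ∀ A B : Sylow 2 G, u ∈ A → u ∈ B → A = B := by
    intro u hu A B hA hB
    by_contra hne
    exact hu (Subgroup.mem_bot.1 (hTI' A B hne ▸ (⟨hA, hB⟩ : u ∈ (A : Subgroup G) ⊓ B)))
  have hex : ∀ u : G, orderOf u = 2 → ∃ A : Sylow 2 G, u ∈ A := by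
    intro u hu
    have hp : IsPGroup 2 ↥(Subgroup.zpowers u) := IsPGroup.of_card (n := 1) (by rw [Nat.card_zpowers, hu, pow_one])
    obtain ⟨A, hA⟩ := hp.exists_le_sylow
    exact ⟨A, hA (Subgroup.mem_zpowers u)⟩
  -- commuting involutions share their Sylow subgroup
  have hcomm : ∀ u w : G, orderOf u = 2 → orderOf w = 2 → Commute w u → ∀ A : Sylow 2 G, u ∈ A → w ∈ A := by
    intro u w hu hw hc A hA
    have hwA : w • A = A := by
      refine huniq u (CfsgLib.Inv.invol_ne_one hu) _ _ ?_ hA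
      change u ∈ MulAut.conj w • (A : Subgroup G)
      refine Subgroup.mem_pointwise_smul_iff_inv_smul_mem.2 ?_
      have : (MulAut.conj w)⁻¹ • u = u := by
        simp [MulAut.smul_def, CfsgLib.Inv.invol_inv hw, hc.eq, mul_assoc, CfsgLib.Inv.invol_mul_self hw]
      rw [this]; exact hA
    have hp : IsPGroup 2 ↥(Subgroup.zpowers w) := IsPGroup.of_card (n := 1) (by rw [Nat.card_zpowers, hw, pow_one])
    have hmem : w ∈ Subgroup.zpowers w ⊓ Subgroup.normalizer (A : Set G) :=
      ⟨Subgroup.mem_zpowers w, Sylow.smul_eq_iff_mem_normalizer.1 hwA⟩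
    rw [hp.inf_normalizer_sylow A] at hmem
    exact hmem.2
  have key : ∀ u v : G, orderOf u = 2 → orderOf v = 2 → ¬ IsConj u v → ∀ A B : Sylow 2 G, u ∈ A → v ∈ B → A = B := by
    intro u v hu hv hnc A B hA hB
    have heven : Even (orderOf (u * v)) := by
      by_contra h
      exact hnc (CfsgLib.Inv.isConj_of_odd hu hv (Nat.not_even_iff_odd.1 h))
    obtain ⟨hw, hwu, hwv⟩ := CfsgLib.Inv.even_center hu hv heven
    exact huniq _ (CfsgLib.Inv.invol_ne_one hw) A B (hcomm u _ hu hw hwu A hA) (hcomm v _ hv hw hwv B hB)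
  by_contra hnc
  obtain ⟨A, hA⟩ := hex s hs
  obtain ⟨B, hB⟩ := hex t ht
  obtain rfl := key s t hs ht hnc A B hA hB
  obtain ⟨g, hg⟩ : ∃ g : G, g • A ≠ A := by
    by_contra h
    push Not at h
    obtain ⟨a, rfl⟩ := MulAction.exists_smul_eq G T A
    refine hnn (Subgroup.normalizer_eq_top_iff.1 (top_le_iff.1 fun x _ => ?_))
    refine Sylow.smul_eq_iff_mem_normalizer.1 ?_
    have := h (a * x * a⁻¹)
    rw [← mul_smul, inv_mul_cancel_right, mul_smul] at this
    exact (MulAction.injective a) this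
  have hg' : g * s * g⁻¹ ∈ g • A := by
    change g * s * g⁻¹ ∈ (A : Subgroup G).map (MulAut.conj g).toMonoidHom
    exact ⟨s, hA, rfl⟩
  exact hg (key (g * s * g⁻¹) t (CfsgLib.Inv.invol_conj hs g) ht
    (fun h => hnc ((isConj_iff.2 ⟨g, rfl⟩ : IsConj s (g * s * g⁻¹)).trans h)) _ A hg' hB)

end Cfsg.Agent.S0231
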