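import Cfsg.Statements.S0232
import Cfsg.Agent.Inv.BrauerFowler
import Cfsg.Agent.Inv.CyclicSylow

set_option autoImplicit false
open Cfsg

namespace Cfsg.Agent.S0232

/-- A finite group G of even order greater than 2 has a proper subgroup H with |G| < |H|^3. -/
theorem result {G : Type*} [Group G] [Finite G] (heven : Even (Nat.card G)) (hgt : 2 < Nat.card G) : ∃ H : Subgroup G, H ≠ ⊤ ∧ Nat.card G < (Nat.card H) ^ 3 := by
  induction hn : Nat.card G using Nat.strong_induction_on generalizing G with
  | _ g ih =>
    subst hn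
    by_cases hZ : Odd (Nat.card (Subgroup.center G))
    · exact CfsgLib.Inv.bf_centre_odd_lt_cube heven hgt hZ
    haveI : Fact (Nat.Prime 2) := ⟨Nat.prime_two⟩
    obtain ⟨z, hz⟩ := exists_prime_orderOf_dvd_card' (G := Subgroup.center G) 2
      (even_iff_two_dvd.1 (Nat.not_odd_iff_even.1 hZ))
    set Z := Subgroup.zpowers (z : G) with hZdef
    haveI hZn : Z.Normal := by
      refine ⟨fun a ha b => ?_⟩
      obtain ⟨i, rfl⟩ := Subgroup.mem_zpowers_iff.1 ha
      have hcz : Commute b (z : G) := Subgroup.mem_center_iff.1 z.2 b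
      rw [(hcz.zpow_right i).eq, mul_inv_cancel_right]
      exact Subgroup.zpow_mem_zpowers _ _
    have hZc : Nat.card Z = 2 := by rw [hZdef, Nat.card_zpowers, Subgroup.orderOf_coe, hz]
    have hidx := Z.card_mul_index
    rw [hZc, Subgroup.index_eq_card] at hidx
    have small : ∀ H : Subgroup G, H.index = 2 → ∃ H : Subgroup G, H ≠ ⊤ ∧ Nat.card G < Nat.card H ^ 3 := by
      intro H hi
      refine ⟨H, fun h => by rw [h, Subgroup.index_top] at hi; omega, ?_⟩
      have e := H.card_mul_index
      rw [hi] at e
      have h2 : 2 ≤ Nat.card H := by omega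
      calc Nat.card G = Nat.card H * 2 := e.symm
        _ < Nat.card H * (Nat.card H * Nat.card H) :=
            Nat.mul_lt_mul_of_pos_left (by nlinarith) (by omega)
        _ = Nat.card H ^ 3 := by ring
    rcases Nat.even_or_odd (Nat.card (G ⧸ Z)) with he | ho
    · by_cases h2 : Nat.card (G ⧸ Z) = 2
      · exact small Z (by rw [Subgroup.index_eq_card]; exact h2)
      · have hpos : 0 < Nat.card (G ⧸ Z) := Nat.card_pos
        obtain ⟨a, ha⟩ := he
        obtain ⟨K, hK, hlt⟩ := ih _ (by omega) (G := G ⧸ Z) ⟨a, ha⟩ (by omega) rfl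
        refine ⟨K.comap (QuotientGroup.mk' Z), fun h => hK ?_, ?_⟩
        · rw [← Subgroup.map_comap_eq_self_of_surjective (QuotientGroup.mk'_surjective Z) K, h,
            Subgroup.map_top_of_surjective _ (QuotientGroup.mk'_surjective Z)]
        · have e := (K.comap (QuotientGroup.mk' Z)).card_mul_index
          rw [Subgroup.index_comap_of_surjective _ (QuotientGroup.mk'_surjective Z)] at e
          have hK2 := K.card_mul_index
          have hK0 : 0 < K.index := Nat.pos_of_ne_zero Subgroup.FiniteIndex.index_ne_zero
          have hcard : Nat.card (K.comap (QuotientGroup.mk' Z)) = 2 * Nat.card K := by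
            refine Nat.eq_of_mul_eq_mul_right hK0 ?_
            rw [e, mul_assoc, hK2, hidx]
          rw [hcard, mul_pow]
          omega
    · obtain ⟨T⟩ : Nonempty (Sylow 2 G) := inferInstance
      have hT : Nat.card (T : Subgroup G) = 2 := by
        rw [T.card_eq_multiplicity, ← hidx, Nat.factorization_mul (by norm_num) Nat.card_pos.ne',
          Finsupp.add_apply, Nat.Prime.factorization_self Nat.prime_two,
          Nat.factorization_eq_zero_of_not_dvd (fun h => Nat.not_even_iff_odd.2 ho (even_iff_two_dvd.2 h))]
        norm_num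
      obtain ⟨H, hH⟩ := CfsgLib.Inv.exists_index_two_of_cyclic_sylow heven T (isCyclic_of_prime_card hT)
      exact small H hH

end Cfsg.Agent.S0232
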