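import Cfsg.Statements.S0234
import Cfsg.Agent.Inv.BrauerFowler
import Cfsg.Agent.Inv.CyclicSylow
import Mathlib.GroupTheory.SpecificGroups.Alternating

set_option autoImplicit false
open Cfsg

namespace Cfsg.Agent.S0234

/-- In a finite simple group G of even order greater than 2, the number n of involutions satisfies 3n < |G|. -/
theorem result {G : Type*} [Group G] [Finite G] [IsSimpleGroup G] (heven : Even (Nat.card G)) (hgt : 2 < Nat.card G) : 3 * Nat.card {t : G // orderOf t = 2} < Nat.card G := by
  classical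
  haveI : Fact (Nat.Prime 2) := ⟨Nat.prime_two⟩
  haveI : Fact (Nat.Prime 5) := ⟨Nat.prime_five⟩
  have hna : ¬ ∀ a b : G, a * b = b * a := fun h => by
    have hp := CfsgLib.Inv.simple_comm_card_prime h
    have := (hp.even_iff).1 heven
    omega
  have hZ : Odd (Nat.card (Subgroup.center G)) := by
    rw [CfsgLib.Inv.simple_center_eq_bot hna, Subgroup.card_bot]; exact odd_one
  obtain ⟨H, hH, hi2 | hb⟩ := CfsgLib.Inv.brauer_fowler heven hZ
  · exact absurd hi2 (CfsgLib.Inv.simple_no_index_two hgt H)
  by_contra hlt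
  push Not at hlt
  have hg0 : 0 < Nat.card G := Nat.card_pos
  have hi : H.index < 6 := by
    by_contra h6
    push Not at h6
    have h1 := Nat.mul_le_mul hlt hlt
    have h2 := Nat.mul_le_mul_right (Nat.card {t : G // orderOf t = 2}) hlt
    have h3 := Nat.mul_le_mul_right (Nat.card {t : G // orderOf t = 2} * Nat.card {t : G // orderOf t = 2}) h6
    nlinarith
  have hidvd : H.index ∣ Nat.card G := H.index_dvd_card
  have hne1 : H.index ≠ 1 := fun h => hH (Subgroup.index_eq_one.1 h)
  have hne2 : H.index ≠ 2 := CfsgLib.Inv.simple_no_index_two hgt H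
  have hne0 : H.index ≠ 0 := Subgroup.FiniteIndex.index_ne_zero
  haveI := Fintype.ofFinite (G ⧸ H)
  -- the action on cosets gives an injective map into the alternating group
  let φ := MulAction.toPermHom G (G ⧸ H)
  have hcore : H.normalCore = ⊥ := (H.normalCore_normal.eq_bot_or_eq_top).resolve_right
    fun h => hH (top_le_iff.1 (h ▸ H.normalCore_le))
  have hinj : Function.Injective φ := by
    rw [← MonoidHom.ker_eq_bot_iff, ← Subgroup.normalCore_eq_ker, hcore]
  have halt : ∀ g : G, φ g ∈ alternatingGroup (G ⧸ H) := by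
    intro g
    rw [Equiv.Perm.mem_alternatingGroup]
    rcases ((inferInstance : (Equiv.Perm.sign.comp φ).ker.Normal)).eq_bot_or_eq_top with h | h
    · exfalso
      refine hna fun a b => (MonoidHom.ker_eq_bot_iff _).1 h ?_
      rw [map_mul, map_mul, mul_comm]
    · exact MonoidHom.mem_ker.1 (h.symm ▸ Subgroup.mem_top g :
        g ∈ (Equiv.Perm.sign.comp φ).ker)
  let ψ : G →* alternatingGroup (G ⧸ H) := φ.codRestrict _ halt
  have hψ : Function.Injective ψ := fun a b h => hinj (congrArg Subtype.val h)
  haveI : Nontrivial (G ⧸ H) := Finite.one_lt_card_iff_nontrivial.1 (by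
    rw [← Subgroup.index_eq_card]; omega)
  have hdvd := Subgroup.card_dvd_of_injective ψ hψ
  rw [nat_card_alternatingGroup, ← Subgroup.index_eq_card] at hdvd
  -- a Sylow count
  have hsyl : ∀ (p : ℕ) [Fact p.Prime] (P : Sylow p G),
      Nat.card (Sylow p G) ∣ (P : Subgroup G).index ∧ Nat.card (Sylow p G) ≡ 1 [MOD p] ∧
        (Nat.card (Sylow p G) = 1 → (P : Subgroup G) = ⊥) ∧
        (Nat.card (Sylow p G) ≠ 1 → Nat.card G ∣ (Nat.card (Sylow p G)).factorial) := by
    intro p hp P
    refine ⟨P.card_dvd_index, card_sylow_modEq_one p G, fun h1 => ?_, fun h1 => ?_⟩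
    · rw [P.card_eq_index_normalizer, Subgroup.index_eq_one] at h1
      have hn : (P : Subgroup G).Normal :=
        Subgroup.normalizer_eq_top_iff.1 (h1 : Subgroup.normalizer ((P : Subgroup G) : Set G) = ⊤)
      rcases hn.eq_bot_or_eq_top with h | h
      · exact h
      · exfalso
        have hG : IsPGroup p G := by
          intro g
          obtain ⟨k, hk⟩ := P.isPGroup' ⟨g, h.symm ▸ Subgroup.mem_top g⟩
          exact ⟨k, by simpa [Subtype.ext_iff] using hk⟩
        haveI := hG.center_nontrivial
        have hb := CfsgLib.Inv.simple_center_eq_bot hna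
        exact not_subsingleton (Subgroup.center G) (hb ▸ inferInstance)
    · rw [P.card_eq_index_normalizer] at h1 ⊢
      exact CfsgLib.Inv.simple_card_dvd_factorial fun h => h1 (Subgroup.index_eq_one.2 h)
  have nobot : ∀ (p : ℕ) [Fact p.Prime] (P : Sylow p G), p ∣ Nat.card G → (P : Subgroup G) ≠ ⊥ :=
    fun p hp P hd => P.ne_bot_of_dvd_card hd
  obtain ⟨P2⟩ : Nonempty (Sylow 2 G) := inferInstance
  obtain ⟨P5⟩ : Nonempty (Sylow 5 G) := inferInstance
  have hodd : ∀ m : ℕ, Nat.card G = 2 * m → ¬ Odd m := by
    intro m hm hmo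
    have hT : Nat.card (P2 : Subgroup G) = 2 := by
      rw [P2.card_eq_multiplicity, hm, Nat.factorization_mul (by norm_num) (by omega),
        Finsupp.add_apply, Nat.Prime.factorization_self Nat.prime_two,
        Nat.factorization_eq_zero_of_not_dvd (fun h => Nat.not_even_iff_odd.2 hmo (even_iff_two_dvd.2 h))]
      norm_num
    obtain ⟨K, hK⟩ := CfsgLib.Inv.exists_index_two_of_cyclic_sylow heven P2 (isCyclic_of_prime_card hT)
    exact CfsgLib.Inv.simple_no_index_two hgt K hK
  obtain ⟨h2a, h2b, h2c, h2d⟩ := hsyl 2 P2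
  obtain ⟨h5a, h5b, h5c, h5d⟩ := hsyl 5 P5
  have hcases : Nat.card G = 60 := by
    have hi345 : H.index = 3 ∨ H.index = 4 ∨ H.index = 5 := by omega
    have hev := even_iff_two_dvd.1 heven
    rcases hi345 with hi | hi | hi <;> rw [hi] at hdvd hidvd <;>
      norm_num [Nat.factorial] at hdvd
    · have := Nat.le_of_dvd (by norm_num) hdvd
      omega
    · have := Nat.le_of_dvd (by norm_num) hdvd
      have hg4 : Nat.card G = 4 ∨ Nat.card G = 8 ∨ Nat.card G = 12 := by omega
      have hcard := (P2 : Subgroup G).card_mul_index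
      have hne : Nat.card (Sylow 2 G) ≠ 1 := fun h => nobot 2 P2 hev (h2c h)
      rcases hg4 with h | h | h
      · have hP : Nat.card (P2 : Subgroup G) = 4 := by
          rw [P2.card_eq_multiplicity, h, show (4 : ℕ) = 2 ^ 2 by norm_num,
            Nat.Prime.factorization_pow Nat.prime_two]
          simp
        rw [hP, h] at hcard
        exact absurd (Nat.dvd_one.1 (by simpa [show (P2 : Subgroup G).index = 1 by omega] using h2a)) hne
      · rw [h] at hdvd; norm_num at hdvd
      · have hP : Nat.card (P2 : Subgroup G) = 4 := by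
          rw [P2.card_eq_multiplicity, h, show (12 : ℕ) = 2 ^ 2 * 3 by norm_num,
            Nat.factorization_mul (by norm_num) (by norm_num), Finsupp.add_apply,
            Nat.Prime.factorization_pow Nat.prime_two,
            Nat.factorization_eq_zero_of_not_dvd (by norm_num : ¬ 2 ∣ 3)]
          simp
        rw [hP, h] at hcard
        rw [show (P2 : Subgroup G).index = 3 by omega] at h2a
        have h3 := (Nat.dvd_prime Nat.prime_three).1 h2a
        have hd := h2d hne
        rw [h, h3.resolve_left hne] at hd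
        norm_num [Nat.factorial] at hd
    · have := Nat.le_of_dvd (by norm_num) hdvd
      have hg5 : Nat.card G = 10 ∨ Nat.card G = 20 ∨ Nat.card G = 30 ∨ Nat.card G = 40 ∨
          Nat.card G = 50 ∨ Nat.card G = 60 := by omega
      rcases hg5 with h | h | h | h | h | h
      · exact absurd ⟨2, rfl⟩ (hodd 5 (by omega))
      · exfalso
        have hne : Nat.card (Sylow 5 G) ≠ 1 := fun h' => nobot 5 P5 (by omega) (h5c h')
        have hP : Nat.card (P5 : Subgroup G) = 5 := by
          rw [P5.card_eq_multiplicity, h, show (20 : ℕ) = 5 * 4 by norm_num,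
            Nat.factorization_mul (by norm_num) (by norm_num), Finsupp.add_apply,
            Nat.Prime.factorization_self Nat.prime_five,
            Nat.factorization_eq_zero_of_not_dvd (by norm_num : ¬ 5 ∣ 4)]
          norm_num
        have hcard := (P5 : Subgroup G).card_mul_index
        rw [hP, h] at hcard
        rw [show (P5 : Subgroup G).index = 4 by omega] at h5a
        have hle := Nat.le_of_dvd (by norm_num) h5a
        have hm : Nat.card (Sylow 5 G) % 5 = 1 := h5b
        omega
      · exact absurd ⟨7, rfl⟩ (hodd 15 (by omega))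
      · rw [h] at hdvd; norm_num at hdvd
      · rw [h] at hdvd; norm_num at hdvd
      · exact h
  have hi5 : H.index = 5 := by
    have hi345 : H.index = 3 ∨ H.index = 4 ∨ H.index = 5 := by omega
    rw [hcases] at hdvd
    rcases hi345 with hi | hi | hi <;> [skip; skip; exact hi] <;>
      rw [hi] at hdvd <;> norm_num [Nat.factorial] at hdvd
  haveI := Fintype.ofFinite G
  let e5 : (G ⧸ H) ≃ Fin 5 := (Fintype.equivFinOfCardEq (by
    rw [← Nat.card_eq_fintype_card, ← Subgroup.index_eq_card, hi5]))
  let f : G →* Equiv.Perm (Fin 5) := (e5.permCongrHom.toMonoidHom).comp φ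
  have hf : ∀ g, Equiv.Perm.sign (f g) = 1 := fun g => by
    show Equiv.Perm.sign (e5.permCongr (φ g)) = 1
    rw [Equiv.Perm.sign_permCongr]; exact Equiv.Perm.mem_alternatingGroup.1 (halt g)
  have hfinj : Function.Injective f := e5.permCongrHom.injective.comp hinj
  have hle : Nat.card {t : G // orderOf t = 2} ≤
      Nat.card {σ : Equiv.Perm (Fin 5) // (σ * σ = 1 ∧ σ ≠ 1) ∧ Equiv.Perm.sign σ = 1} :=
    Nat.card_le_card_of_injective (fun t => ⟨f t.1, ⟨by
        rw [← map_mul, CfsgLib.Inv.invol_mul_self t.2, map_one],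
        fun h => CfsgLib.Inv.invol_ne_one t.2 (hfinj (h.trans (map_one f).symm))⟩, hf _⟩)
      fun a b h => Subtype.ext (hfinj (congrArg Subtype.val h))
  have h15 : Nat.card {σ : Equiv.Perm (Fin 5) // (σ * σ = 1 ∧ σ ≠ 1) ∧ Equiv.Perm.sign σ = 1} = 15 := by
    rw [Nat.card_eq_fintype_card]
    decide +kernel
  omega

end Cfsg.Agent.S0234
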