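import Cfsg.Statements.S0238
import Cfsg.Agent.Inv.Count

set_option autoImplicit false
open Cfsg

namespace Cfsg.Agent.S0238

/-- For every x in a finite group G, the number c of ordered pairs (u, v) of involutions with uv = x is at most |C_G(x)|; c = 0 when x is not conjugate to x⁻¹; and c + 2 ≤ |C_G(x)| when x is an involution. -/
theorem result {G : Type*} [Group G] [Finite G] (x : G) : Nat.card {p : G × G // orderOf p.1 = 2 ∧ orderOf p.2 = 2 ∧ p.1 * p.2 = x} ≤ Nat.card (Subgroup.centralizer ({x} : Set G)) ∧ (¬ IsConj x x⁻¹ → Nat.card {p : G × G // orderOf p.1 = 2 ∧ orderOf p.2 = 2 ∧ p.1 * p.2 = x} = 0) ∧ (orderOf x = 2 → Nat.card {p : G × G // orderOf p.1 = 2 ∧ orderOf p.2 = 2 ∧ p.1 * p.2 = x} + 2 ≤ Nat.card (Subgroup.centralizer ({x} : Set G))) := by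
  refine ⟨CfsgLib.Inv.card_pairs_le x, fun h => ?_, fun hx => ?_⟩
  · haveI : IsEmpty {p : G × G // orderOf p.1 = 2 ∧ orderOf p.2 = 2 ∧ p.1 * p.2 = x} :=
      ⟨fun p => h (isConj_iff.2 ⟨p.1.1, CfsgLib.Inv.inverts_of_pair p.2.1 p.2.2.1 p.2.2.2⟩)⟩
    simp
  · have h1 := CfsgLib.Inv.card_pairs_invol hx
    have h2 : Nat.card {t : G // orderOf t = 2 ∧ Commute t x} <
        Nat.card (Subgroup.centralizer ({x} : Set G)) := by
      classical
      haveI := Fintype.ofFinite G
      rw [Nat.card_eq_fintype_card, Nat.card_eq_fintype_card]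
      refine Fintype.card_lt_of_injective_of_notMem
        (fun t : {t : G // orderOf t = 2 ∧ Commute t x} =>
          (⟨t.1, Subgroup.mem_centralizer_singleton_iff.2 t.2.2.eq⟩ :
            Subgroup.centralizer ({x} : Set G)))
        (fun a b h => Subtype.ext (congrArg (fun y : Subgroup.centralizer ({x} : Set G) => (y : G)) h))
        (b := 1) ?_
      rintro ⟨t, ht⟩
      exact CfsgLib.Inv.invol_ne_one t.2.1
        (congrArg (fun y : Subgroup.centralizer ({x} : Set G) => (y : G)) ht)
    omega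

end Cfsg.Agent.S0238
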