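import Cfsg.Statements.S0239
import Cfsg.Agent.Inv.Dihedral

set_option autoImplicit false
open Cfsg

namespace Cfsg.Agent.S0239

/-- If some nontrivial element x of a finite group G is conjugate to x⁻¹, then |G| is even. -/
theorem result {G : Type*} [Group G] [Finite G] (x : G) (hx : x ≠ 1) (hreal : IsConj x x⁻¹) : Even (Nat.card G) := by
  obtain ⟨g, hg⟩ := isConj_iff.1 hreal
  by_contra h
  rw [Nat.not_even_iff_odd] at h
  obtain ⟨m, hm⟩ := h
  have h2 : Commute (g ^ 2) x := by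
    have e : g ^ 2 * x * (g ^ 2)⁻¹ = x := by
      calc g ^ 2 * x * (g ^ 2)⁻¹ = g * (g * x * g⁻¹) * g⁻¹ := by rw [pow_two]; group
        _ = x := by rw [hg, ← conj_inv, hg, inv_inv]
    calc g ^ 2 * x = g ^ 2 * x * (g ^ 2)⁻¹ * g ^ 2 := by group
      _ = x * g ^ 2 := by rw [e]
  have h3 : g = (g ^ 2) ^ (m + 1) := by
    rw [← pow_mul, show 2 * (m + 1) = (2 * m + 1) + 1 by ring, ← hm, pow_succ, pow_card_eq_one',
      one_mul]
  have h4 : Commute g x := by rw [h3]; exact h2.pow_left _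
  rw [h4.eq, mul_inv_cancel_right] at hg
  refine hx ?_
  have h5 : x * x = 1 := by nth_rw 1 [hg]; exact inv_mul_cancel x
  calc x = x ^ (2 * m + 1) := by rw [pow_succ, pow_mul, pow_two, h5, one_pow, one_mul]
    _ = 1 := by rw [← hm, pow_card_eq_one']

end Cfsg.Agent.S0239
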