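import Cfsg.Statements.S0240
import Cfsg.Agent.Inv.Count

set_option autoImplicit false
open Cfsg

namespace Cfsg.Agent.S0240

/-- Let G be a finite group with n involutions and H a subgroup with |H|·(n+1) > |G|. Then some nontrivial h ∈ H is strongly real in G: an involution t of G satisfies t h t⁻¹ = h⁻¹. -/
theorem result {G : Type*} [Group G] [Finite G] (H : Subgroup G) (hH : Nat.card G < Nat.card H * (Nat.card {t : G // orderOf t = 2} + 1)) : ∃ h : G, h ∈ H ∧ h ≠ 1 ∧ ∃ t : G, orderOf t = 2 ∧ t * h * t⁻¹ = h⁻¹ := by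
  classical
  have hlt : H.index < Nat.card (Option {t : G // orderOf t = 2}) := by
    rw [Finite.card_option]
    have e := H.card_mul_index
    rw [← e] at hH
    exact Nat.lt_of_mul_lt_mul_left hH
  let f : Option {t : G // orderOf t = 2} → G ⧸ H := fun o => o.elim (QuotientGroup.mk 1) fun t => QuotientGroup.mk t.1
  have hni : ¬ Function.Injective f := fun hi =>
    absurd (Nat.card_le_card_of_injective f hi) (by rw [← Subgroup.index_eq_card]; omega)
  simp only [Function.Injective, not_forall] at hni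
  obtain ⟨a, b, hab, hne⟩ := hni
  have key : ∀ t s : {t : G // orderOf t = 2}, t ≠ s → f (some t) = f (some s) →
      ∃ h : G, h ∈ H ∧ h ≠ 1 ∧ ∃ t : G, orderOf t = 2 ∧ t * h * t⁻¹ = h⁻¹ := by
    intro t s hts h
    refine ⟨t.1 * s.1, ?_, ?_, t.1, t.2, CfsgLib.Inv.inverts_of_pair t.2 s.2 rfl⟩
    · have h' := QuotientGroup.eq.1 h
      rwa [CfsgLib.Inv.invol_inv t.2] at h'
    · intro h1
      refine hts (Subtype.ext ?_)
      rw [← CfsgLib.Inv.invol_inv s.2]; exact eq_inv_of_mul_eq_one_left h1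
  have key1 : ∀ t : {t : G // orderOf t = 2}, f none = f (some t) →
      ∃ h : G, h ∈ H ∧ h ≠ 1 ∧ ∃ t : G, orderOf t = 2 ∧ t * h * t⁻¹ = h⁻¹ := by
    intro t h
    refine ⟨t.1, by simpa using QuotientGroup.eq.1 h, CfsgLib.Inv.invol_ne_one t.2, t.1, t.2, ?_⟩
    rw [mul_inv_cancel_right, CfsgLib.Inv.invol_inv t.2]
  rcases a with _ | a <;> rcases b with _ | b
  · exact absurd rfl hne
  · exact key1 b hab
  · exact key1 a hab.symm
  · exact key a b (fun h => hne (h ▸ rfl)) hab

end Cfsg.Agent.S0240
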