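import Cfsg.Statements.S0241
import Cfsg.Agent.Inv.Dihedral

set_option autoImplicit false
open Cfsg

namespace Cfsg.Agent.S0241

/-- If x ≠ 1 is conjugate to x⁻¹ in a finite group G and |C_G(x)| is odd, then some involution t satisfies t x t⁻¹ = x⁻¹. -/
theorem result {G : Type*} [Group G] [Finite G] (x : G) (hx : x ≠ 1) (hreal : IsConj x x⁻¹) (hodd : Odd (Nat.card (Subgroup.centralizer ({x} : Set G)))) : ∃ t : G, orderOf t = 2 ∧ t * x * t⁻¹ = x⁻¹ := by
  obtain ⟨g, hg⟩ := isConj_iff.1 hreal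
  have hinv : ∀ i : ℕ, g ^ (2 * i + 1) * x * (g ^ (2 * i + 1))⁻¹ = x⁻¹ := by
    intro i
    induction i with
    | zero => simpa using hg
    | succ i ih =>
      calc g ^ (2 * (i + 1) + 1) * x * (g ^ (2 * (i + 1) + 1))⁻¹
          = g * (g * (g ^ (2 * i + 1) * x * (g ^ (2 * i + 1))⁻¹) * g⁻¹) * g⁻¹ := by
            rw [show 2 * (i + 1) + 1 = (2 * i + 1) + 1 + 1 by ring, pow_succ', pow_succ']; group
        _ = x⁻¹ := by rw [ih, ← conj_inv, hg, inv_inv, hg]
  obtain ⟨k, m, hm, he⟩ :=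
    Nat.exists_eq_pow_mul_and_not_dvd (orderOf_pos g).ne' 2 (by norm_num)
  obtain ⟨i, rfl⟩ : Odd m := Nat.odd_iff.2 (by omega)
  set t := g ^ (2 * i + 1)
  have ht2 : t ^ (2 ^ k) = 1 := by
    rw [← pow_mul, mul_comm, ← he, pow_orderOf_eq_one]
  have hx2 : x * x ≠ 1 := by
    intro h
    have hxC : x ∈ Subgroup.centralizer ({x} : Set G) :=
      Subgroup.mem_centralizer_singleton_iff.2 rfl
    have hd : 2 ∣ Nat.card (Subgroup.centralizer ({x} : Set G)) := by
      rw [← CfsgLib.Inv.invol_iff.2 ⟨hx, h⟩, ← Subgroup.orderOf_mk x hxC]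
      exact orderOf_dvd_natCard _
    exact Nat.not_even_iff_odd.2 hodd (even_iff_two_dvd.2 hd)
  have htC : t * t ∈ Subgroup.centralizer ({x} : Set G) := by
    have e : (t * t) * x * (t * t)⁻¹ = x := by
      calc (t * t) * x * (t * t)⁻¹ = t * (t * x * t⁻¹) * t⁻¹ := by group
        _ = x := by rw [hinv i, ← conj_inv, hinv i, inv_inv]
    rw [Subgroup.mem_centralizer_singleton_iff]
    calc t * t * x = t * t * x * (t * t)⁻¹ * (t * t) := by group
      _ = x * (t * t) := by rw [e]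
  have htt : t * t = 1 := by
    rw [← orderOf_eq_one_iff]
    refine Nat.eq_one_of_dvd_coprimes (Nat.Coprime.pow_right k (Nat.coprime_two_right.2 hodd))
      ?_ (orderOf_dvd_of_pow_eq_one ?_)
    · rw [← Subgroup.orderOf_mk (t * t) htC]; exact orderOf_dvd_natCard _
    · rw [← pow_two, ← pow_mul, mul_comm, pow_mul, ht2, one_pow]
  refine ⟨t, CfsgLib.Inv.invol_iff.2 ⟨fun h1 => hx2 ?_, htt⟩, hinv i⟩
  have h := hinv i
  rw [show g ^ (2 * i + 1) = t from rfl, h1, one_mul, inv_one, mul_one] at h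
  nth_rw 1 [h]; exact inv_mul_cancel x

end Cfsg.Agent.S0241
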