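import Cfsg.Statements.S0826
import Cfsg.Agent.Lie.Sp

set_option autoImplicit false
open Cfsg CfsgLib.Lie Matrix

namespace Cfsg.Agent.S0826

section

open CfsgLib.Lie Matrix

variable (n : ℕ)

/-- pairs `{2i, 2i+1}` -/
def ev (i : Fin (n - 1)) : Fin (2 * n) → ZMod 2 :=
  Pi.single ⟨2 * i.1, by omega⟩ 1 + Pi.single ⟨2 * i.1 + 1, by omega⟩ 1

/-- tails -/
def fv (i : Fin (n - 1)) : Fin (2 * n) → ZMod 2 :=
  ∑ k ∈ Finset.univ.filter (fun k : Fin (n - 1) => i ≤ k),
    (Pi.single ⟨2 * k.1 + 1, by omega⟩ 1 + Pi.single ⟨2 * k.1 + 2, by omega⟩ 1)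

theorem ev_dot (i : Fin (n - 1)) (x : Fin (2 * n) → ZMod 2) :
    ev n i ⬝ᵥ x = x ⟨2 * i.1, by omega⟩ + x ⟨2 * i.1 + 1, by omega⟩ := by
  rw [ev, add_dotProduct, single_dotProduct, single_dotProduct, one_mul, one_mul]

theorem fv_dot (i : Fin (n - 1)) (x : Fin (2 * n) → ZMod 2) :
    fv n i ⬝ᵥ x = ∑ k ∈ Finset.univ.filter (fun k : Fin (n - 1) => i ≤ k),
      (x ⟨2 * k.1 + 1, by omega⟩ + x ⟨2 * k.1 + 2, by omega⟩) := by
  rw [fv, sum_dotProduct]
  refine Finset.sum_congr rfl fun k _ => ?_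
  rw [add_dotProduct, single_dotProduct, single_dotProduct, one_mul, one_mul]

theorem fv_apply (i : Fin (n - 1)) (p : Fin (2 * n)) :
    fv n i p = if 2 * i.1 + 1 ≤ p.1 ∧ p.1 ≤ 2 * n - 2 then 1 else 0 := by
  rw [fv, Finset.sum_apply]
  split_ifs with h
  · rw [Finset.sum_eq_single (⟨(p.1 - 1) / 2, by omega⟩ : Fin (n - 1))]
    · simp only [Pi.add_apply, Pi.single_apply, Fin.ext_iff]
      rcases Nat.mod_two_eq_zero_or_one p.1 with hp | hp
      · rw [if_neg (by omega), if_pos (by omega), zero_add]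
      · rw [if_pos (by omega), if_neg (by omega), add_zero]
    · intro k _ hk
      simp only [Pi.add_apply, Pi.single_apply, Fin.ext_iff]
      have : k.1 ≠ (p.1 - 1) / 2 := fun e => hk (Fin.ext e)
      rw [if_neg (by omega), if_neg (by omega), add_zero]
    · intro hh
      refine absurd (Finset.mem_filter.2 ⟨Finset.mem_univ _, ?_⟩) hh
      show i.1 ≤ (p.1 - 1) / 2
      omega
  · refine Finset.sum_eq_zero fun k hk => ?_
    have hik : i.1 ≤ k.1 := (Finset.mem_filter.1 hk).2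
    simp only [Pi.add_apply, Pi.single_apply, Fin.ext_iff]
    rw [if_neg (by omega), if_neg (by omega), add_zero]

theorem ev_ev (i j : Fin (n - 1)) : ev n i ⬝ᵥ ev n j = 0 := by
  rw [ev_dot, ev]
  simp only [Pi.add_apply, Pi.single_apply, Fin.ext_iff]
  by_cases h : i.1 = j.1
  · rw [if_pos (by omega), if_neg (by omega), if_neg (by omega), if_pos (by omega)]; decide
  · rw [if_neg (by omega), if_neg (by omega), if_neg (by omega), if_neg (by omega)]; decide

theorem fv_fv (i j : Fin (n - 1)) : fv n i ⬝ᵥ fv n j = 0 := by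
  rw [fv_dot]
  refine Finset.sum_eq_zero fun k _ => ?_
  rw [fv_apply, fv_apply]
  by_cases h : j.1 ≤ k.1
  · rw [if_pos ⟨by simp; omega, by simp; omega⟩, if_pos ⟨by simp; omega, by simp; omega⟩]; decide
  · rw [if_neg (by simp; omega), if_neg (by simp; omega)]; decide

theorem ev_fv (i j : Fin (n - 1)) : ev n i ⬝ᵥ fv n j = if i = j then 1 else 0 := by
  rw [ev_dot, fv_apply, fv_apply]
  simp only [Fin.ext_iff]
  rcases lt_trichotomy i.1 j.1 with h | h | h
  · rw [if_neg (by omega), if_neg (by omega), if_neg (by omega)]; decide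
  · rw [if_neg (by omega), if_pos (by omega), if_pos h]; decide
  · rw [if_pos (by omega), if_pos (by omega), if_neg (by omega)]; decide

/-- the embedding -/
def L (v : Sp.V (n - 1) (ZMod 2)) : Fin (2 * n) → ZMod 2 :=
  ∑ i, v (.inl i) • ev n i + ∑ i, v (.inr i) • fv n i

/-- the coordinates -/
def coord (x : Fin (2 * n) → ZMod 2) : Sp.V (n - 1) (ZMod 2) :=
  Sum.elim (fun i => fv n i ⬝ᵥ x) (fun i => ev n i ⬝ᵥ x)

theorem coord_add (x y : Fin (2 * n) → ZMod 2) : coord n (x + y) = coord n x + coord n y := by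
  funext s; cases s <;> simp [coord, dotProduct_add]

theorem coord_smul (c : ZMod 2) (x : Fin (2 * n) → ZMod 2) : coord n (c • x) = c • coord n x := by
  funext s; cases s <;> simp [coord, dotProduct_smul]

theorem coord_L (v : Sp.V (n - 1) (ZMod 2)) : coord n (L n v) = v := by
  funext s
  rcases s with i | i <;>
    simp [coord, L, dotProduct_add, dotProduct_sum, dotProduct_smul, ev_ev, fv_fv, ev_fv,
      dotProduct_comm (fv n i) (ev n _), eq_comm, Finset.sum_ite_eq]

theorem coord_one : coord n (fun _ => 1) = 0 := by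
  funext s
  rcases s with i | i
  · show fv n i ⬝ᵥ (fun _ => 1) = 0
    rw [fv_dot]
    exact Finset.sum_eq_zero fun k _ => by decide
  · show ev n i ⬝ᵥ (fun _ => 1) = 0
    rw [ev_dot]; decide

theorem L_dot (u v : Sp.V (n - 1) (ZMod 2)) : L n u ⬝ᵥ L n v = Sp.bf (n - 1) (ZMod 2) u v := by
  have h : ∀ i, fv n i ⬝ᵥ L n v = v (.inl i) ∧ ev n i ⬝ᵥ L n v = v (.inr i) := fun i =>
    ⟨congrFun (coord_L n v) (.inl i), congrFun (coord_L n v) (.inr i)⟩
  rw [L, add_dotProduct, sum_dotProduct, sum_dotProduct, Sp.bf_apply, ← Finset.sum_add_distrib]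
  refine Finset.sum_congr rfl fun i _ => ?_
  simp only [smul_dotProduct, smul_eq_mul, (h i).1, (h i).2, sub_eq_add_neg, ZMod.neg_eq_self_mod_two]
  ring

theorem L_even (v : Sp.V (n - 1) (ZMod 2)) : ∑ p, L n v p = 0 := by
  have h1 : ∀ x : Fin (2 * n) → ZMod 2, ∑ p, x p = x ⬝ᵥ fun _ => 1 := fun x => by simp [dotProduct]
  have h2 := coord_one n
  rw [h1, L, add_dotProduct, sum_dotProduct, sum_dotProduct]
  have he : ∀ i, ev n i ⬝ᵥ (fun _ => (1 : ZMod 2)) = 0 := fun i => congrFun h2 (.inr i)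
  have hf : ∀ i, fv n i ⬝ᵥ (fun _ => (1 : ZMod 2)) = 0 := fun i => congrFun h2 (.inl i)
  simp [smul_dotProduct, he, hf]

theorem decompose (hn : 1 ≤ n) {x : Fin (2 * n) → ZMod 2} (hx : ∑ p, x p = 0) :
    ∃ c : ZMod 2, x = L n (coord n x) + c • fun _ => 1 := by
  let E := {y : Fin (2 * n) → ZMod 2 // ∑ p, y p = 0}
  have hone : ∑ _p : Fin (2 * n), (1 : ZMod 2) = 0 := by
    rw [Finset.sum_const, Finset.card_univ, Fintype.card_fin, nsmul_one, Nat.cast_mul,
      show ((2 : ℕ) : ZMod 2) = 0 from rfl, zero_mul]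
  let Φ : Sp.V (n - 1) (ZMod 2) × ZMod 2 → E := fun p => ⟨L n p.1 + p.2 • fun _ => 1, by
    simp only [Pi.add_apply, Pi.smul_apply, smul_eq_mul, Finset.sum_add_distrib, L_even, zero_add,
      ← Finset.mul_sum, hone, mul_zero]⟩
  have hinj : Function.Injective Φ := by
    rintro ⟨u, c⟩ ⟨w, d⟩ h
    have h' : L n u + c • (fun _ => (1 : ZMod 2)) = L n w + d • fun _ => 1 := congrArg Subtype.val h
    have h1 : u = w := by
      have h2 := congrArg (coord n) h'
      rwa [coord_add, coord_add, coord_smul, coord_smul, coord_one, smul_zero, smul_zero, add_zero, add_zero,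
        coord_L, coord_L] at h2
    subst h1
    have h3 := congrFun (add_left_cancel h') ⟨0, by omega⟩
    simp at h3
    exact Prod.ext rfl h3
  obtain ⟨N, hN⟩ : ∃ N, 2 * n = N + 1 := ⟨2 * n - 1, by omega⟩
  have hle : Nat.card E ≤ Nat.card (Fin N → ZMod 2) := by
    refine Nat.card_le_card_of_injective (fun y i => y.1 ⟨i.1, by omega⟩) fun y z h => Subtype.ext ?_
    funext p
    by_cases hp : p.1 < N
    · exact congrFun h ⟨p.1, hp⟩
    · have hs : ∀ w : E, w.1 p = - ∑ q ∈ Finset.univ.erase p, w.1 q := fun w => by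
        rw [eq_neg_iff_add_eq_zero, Finset.add_sum_erase _ _ (Finset.mem_univ p)]; exact w.2
      rw [hs, hs]
      congr 1
      refine Finset.sum_congr rfl fun q hq => congrFun h ⟨q.1, ?_⟩
      have := (Finset.mem_erase.1 hq).1
      have : q.1 ≠ p.1 := fun e => this (Fin.ext e)
      omega
  have hcard : Nat.card E ≤ Nat.card (Sp.V (n - 1) (ZMod 2) × ZMod 2) := by
    refine le_trans hle (le_of_eq ?_)
    simp only [Nat.card_eq_fintype_card, Fintype.card_fun, Fintype.card_prod, Fintype.card_sum, Fintype.card_fin, ZMod.card]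
    rw [← pow_succ]
    congr 1
    omega
  have heq := le_antisymm (Nat.card_le_card_of_injective Φ hinj) hcard
  obtain ⟨⟨w, c⟩, hw⟩ := ((Nat.bijective_iff_injective_and_card Φ).2 ⟨hinj, heq⟩).2 ⟨x, hx⟩
  have hw' : L n w + c • (fun _ => (1 : ZMod 2)) = x := congrArg Subtype.val hw
  refine ⟨c, ?_⟩
  rw [← hw', coord_add, coord_L, coord_smul, coord_one, smul_zero, add_zero]

end

/-- S_2n ≤ Sp_(2n−2)(2) for n ≥ 3: there is an injective homomorphism from the symmetric group on 2n letters into the symplectic group of degree 2n − 2 over the field with two elements. -/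
theorem result (n : ℕ) (hn : 3 ≤ n) : ∃ f : Equiv.Perm (Fin (2 * n)) →* Matrix.symplecticGroup (Fin (n - 1)) (ZMod 2), Function.Injective f := by
  classical
  let φ : Equiv.Perm (Fin (2 * n)) → Sp.V (n - 1) (ZMod 2) →ₗ[ZMod 2] Sp.V (n - 1) (ZMod 2) := fun σ =>
    { toFun := fun v => coord n (L n v ∘ σ.symm)
      map_add' := fun u v => by
        have : L n (u + v) = L n u + L n v := by
          simp only [L, Pi.add_apply, add_smul, Finset.sum_add_distrib]; abel
        rw [this]; exact coord_add n _ _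
      map_smul' := fun c v => by
        have : L n (c • v) = c • L n v := by
          simp only [L, Pi.smul_apply, smul_eq_mul, mul_smul, smul_add, Finset.smul_sum]
        rw [this]; exact coord_smul n c _ }
  have heven : ∀ (σ : Equiv.Perm (Fin (2 * n))) v, ∑ p, (L n v ∘ σ.symm) p = 0 := fun σ v => by
    rw [← L_even n v]; exact Equiv.sum_comp σ.symm (L n v)
  have hconst : ∀ (σ : Equiv.Perm (Fin (2 * n))) (c : ZMod 2) (x : Fin (2 * n) → ZMod 2),
      (x + c • fun _ => (1 : ZMod 2)) ∘ σ.symm = x ∘ σ.symm + c • fun _ => 1 := fun _ _ _ => rfl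
  have hmul : ∀ σ τ, φ (σ * τ) = φ σ ∘ₗ φ τ := fun σ τ => LinearMap.ext fun v => by
    obtain ⟨c, hc⟩ := decompose n (by omega) (heven τ v)
    show coord n (L n v ∘ (σ * τ).symm) = coord n (L n (coord n (L n v ∘ τ.symm)) ∘ σ.symm)
    rw [show L n v ∘ (σ * τ).symm = (L n v ∘ τ.symm) ∘ σ.symm from rfl]
    nth_rewrite 1 [hc]
    rw [hconst, coord_add, coord_smul, coord_one, smul_zero, add_zero]
  have hone : φ 1 = LinearMap.id := LinearMap.ext fun v => coord_L n v
  have hdot : ∀ (σ : Equiv.Perm (Fin (2 * n))) u v,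
      CfsgLib.Lie.Sp.bf (n - 1) (ZMod 2) (φ σ u) (φ σ v) = CfsgLib.Lie.Sp.bf (n - 1) (ZMod 2) u v := fun σ u v => by
    obtain ⟨c, hc⟩ := decompose n (by omega) (heven σ u)
    obtain ⟨d, hd⟩ := decompose n (by omega) (heven σ v)
    rw [← L_dot, ← L_dot]
    show L n (coord n (L n u ∘ σ.symm)) ⬝ᵥ L n (coord n (L n v ∘ σ.symm)) = L n u ⬝ᵥ L n v
    have h1 : ∀ w, L n w ⬝ᵥ (fun _ => (1 : ZMod 2)) = 0 := fun w => by
      rw [← L_even n w]; simp [dotProduct]
    have h2 : (fun _ : Fin (2 * n) => (1 : ZMod 2)) ⬝ᵥ (fun _ => (1 : ZMod 2)) = 0 := by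
      rw [dotProduct]
      simp only [mul_one, Finset.sum_const, Finset.card_univ, Fintype.card_fin, nsmul_one, Nat.cast_mul,
        show ((2 : ℕ) : ZMod 2) = 0 from rfl, zero_mul]
    have h3 : (L n u ∘ σ.symm) ⬝ᵥ (L n v ∘ σ.symm) = L n u ⬝ᵥ L n v := by
      rw [dotProduct, dotProduct]; exact Equiv.sum_comp σ.symm fun p => L n u p * L n v p
    rw [← h3]
    nth_rewrite 2 [hc]
    nth_rewrite 2 [hd]
    simp [add_dotProduct, dotProduct_add, smul_dotProduct, dotProduct_smul, h1, h2,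
      dotProduct_comm (fun _ => (1 : ZMod 2)) (L n _)]
  let f : Equiv.Perm (Fin (2 * n)) →* Matrix.symplecticGroup (Fin (n - 1)) (ZMod 2) :=
    { toFun := fun σ => ⟨LinearMap.toMatrix' (φ σ), CfsgLib.Lie.Sp.mem_iff_bf.2 fun u v => by
        rw [LinearMap.toMatrix'_mulVec, LinearMap.toMatrix'_mulVec, hdot]⟩
      map_one' := Subtype.ext (by
        show LinearMap.toMatrix' (φ 1) = 1
        rw [hone]; exact LinearMap.toMatrix'_id)
      map_mul' := fun σ τ => Subtype.ext (by
        show LinearMap.toMatrix' (φ (σ * τ)) = LinearMap.toMatrix' (φ σ) * LinearMap.toMatrix' (φ τ)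
        rw [hmul, LinearMap.toMatrix'_comp]) }
  refine ⟨f, (injective_iff_map_eq_one f).2 fun σ hσ => ?_⟩
  have hφ : φ σ = LinearMap.id := LinearMap.toMatrix'.injective (by
    rw [LinearMap.toMatrix'_id]; exact congrArg Subtype.val hσ)
  have key : ∀ x : Fin (2 * n) → ZMod 2, ∑ p, x p = 0 → ∃ c : ZMod 2, x ∘ σ.symm = x + c • fun _ => 1 := by
    intro x hx
    obtain ⟨c, hc⟩ := decompose n (by omega) hx
    obtain ⟨d, hd⟩ := decompose n (by omega) (heven σ (coord n x))
    have h : coord n (L n (coord n x) ∘ σ.symm) = coord n x := LinearMap.congr_fun hφ (coord n x)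
    rw [h] at hd
    refine ⟨d, ?_⟩
    nth_rewrite 1 [hc]
    rw [hconst, hd]
    conv_rhs => rw [hc]
    abel
  refine Equiv.ext fun a => ?_
  by_contra hne
  change σ a ≠ a at hne
  obtain ⟨b, hba, hbs⟩ : ∃ b : Fin (2 * n), b ≠ a ∧ b ≠ σ a := by
    obtain ⟨b, -, hb⟩ := Finset.exists_mem_notMem_of_card_lt_card (s := ({a, σ a} : Finset (Fin (2 * n)))) (t := Finset.univ)
      (by rw [Finset.card_univ, Fintype.card_fin]; exact lt_of_le_of_lt Finset.card_le_two (by omega))
    simp only [Finset.mem_insert, Finset.mem_singleton, not_or] at hb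
    exact ⟨b, hb⟩
  obtain ⟨c, hc⟩ := key (Pi.single a 1 + Pi.single b 1) (by
    simp only [Pi.add_apply, Finset.sum_add_distrib, Finset.sum_pi_single', Finset.mem_univ, if_true]; decide)
  have hsa := congrFun hc (σ a)
  simp only [Function.comp_apply, Equiv.symm_apply_apply, Pi.add_apply, Pi.smul_apply, smul_eq_mul, mul_one,
    Pi.single_eq_same, Pi.single_eq_of_ne hba.symm, Pi.single_eq_of_ne hne, Pi.single_eq_of_ne (Ne.symm hbs), add_zero,
    zero_add] at hsa
  subst hsa
  obtain ⟨p, -, hp⟩ := Finset.exists_mem_notMem_of_card_lt_card (s := ({a, b, σ a, σ b} : Finset (Fin (2 * n)))) (t := Finset.univ)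
    (by rw [Finset.card_univ, Fintype.card_fin]; exact lt_of_le_of_lt Finset.card_le_four (by omega))
  simp only [Finset.mem_insert, Finset.mem_singleton, not_or] at hp
  obtain ⟨hpa, hpb, hpsa, hpsb⟩ := hp
  have h := congrFun hc p
  simp only [Function.comp_apply, Pi.add_apply, Pi.smul_apply, smul_eq_mul, mul_one, Pi.single_eq_of_ne hpa,
    Pi.single_eq_of_ne hpb,
    Pi.single_eq_of_ne (show σ.symm p ≠ a from fun e => hpsa (by rw [← e, Equiv.apply_symm_apply])),
    Pi.single_eq_of_ne (show σ.symm p ≠ b from fun e => hpsb (by rw [← e, Equiv.apply_symm_apply]))] at h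
  exact absurd h (by decide)

end Cfsg.Agent.S0826
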