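import Cfsg.Statements.S0247
import Cfsg.Agent.S0826
import Cfsg.Agent.Lie.SpOrder
-- import your own Cfsg.Agent.* helpers here

set_option autoImplicit false
open Cfsg

namespace Cfsg.Agent.S0247

/-- Sp_4(2) is isomorphic to the symmetric group S_6. -/
theorem result {F : Type*} [Field F] [Fintype F] (hF : Fintype.card F = 2) : Nonempty (Matrix.symplecticGroup (Fin 2) F ≃* Equiv.Perm (Fin 6)) := by
  classical
  obtain ⟨f, hf⟩ := Cfsg.Agent.S0826.result 3 le_rfl
  haveI : CharP F 2 := charP_of_card_eq_prime hF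
  let κ : ZMod 2 →+* F := ZMod.castHom (dvd_refl 2) F
  have hmem : ∀ A ∈ Matrix.symplecticGroup (Fin 2) (ZMod 2), A.map κ ∈ Matrix.symplecticGroup (Fin 2) F := by
    intro A hA
    rw [SymplecticGroup.mem_iff] at hA ⊢
    have h := congrArg (fun M : Matrix (Fin 2 ⊕ Fin 2) (Fin 2 ⊕ Fin 2) (ZMod 2) => M.map κ) hA
    have hJ : (Matrix.J (Fin 2) (ZMod 2)).map κ = Matrix.J (Fin 2) F := by
      ext i j
      rcases i with i | i <;> rcases j with j | j <;> simp [Matrix.J, Matrix.one_apply, apply_ite (DFunLike.coe κ)] <;> simp [CharTwo.neg_eq]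
    simp only [Matrix.map_mul, hJ, Matrix.transpose_map] at h
    exact h
  let e : Matrix.symplecticGroup (Fin 2) (ZMod 2) →* Matrix.symplecticGroup (Fin 2) F :=
    { toFun := fun A => ⟨A.1.map κ, hmem _ A.2⟩
      map_one' := Subtype.ext (Matrix.map_one _ κ.map_zero κ.map_one)
      map_mul' := fun A B => Subtype.ext Matrix.map_mul }
  have he : Function.Injective e := fun A B h =>
    Subtype.ext (Matrix.map_injective κ.injective (congrArg Subtype.val h))
  haveI : Finite (Matrix.symplecticGroup (Fin 2) F) := inferInstance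
  have hc : Nat.card (Matrix.symplecticGroup (Fin 2) F) = 720 := by
    have h := CfsgLib.Lie.Sp.card_G (m := 2) (F := F)
    rw [Nat.card_eq_fintype_card (α := F), hF] at h
    exact h.trans (by decide)
  have hb : Function.Bijective (e.comp f) := by
    refine (Nat.bijective_iff_injective_and_card _).2 ⟨he.comp hf, ?_⟩
    rw [hc, Nat.card_perm, Nat.card_fin]
    rfl
  exact ⟨(MulEquiv.ofBijective _ hb).symm⟩

end Cfsg.Agent.S0247
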