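import Cfsg.Statements.S0250
import Cfsg.Agent.Lie.ProjLine

set_option autoImplicit false
open Cfsg

namespace Cfsg.Agent.S0250

/-- SL_2(2) is isomorphic to S_3. -/
theorem result {F : Type*} [Field F] [Fintype F] (hF : Fintype.card F = 2) : Nonempty (Matrix.SpecialLinearGroup (Fin 2) F ≃* Equiv.Perm (Fin 3)) := by
  obtain ⟨φ, hφ⟩ := CfsgLib.Lie.ProjLine.exists_perm_hom hF
  have hz : Subgroup.center (Matrix.SpecialLinearGroup (Fin 2) F) = ⊥ := Subgroup.eq_bot_of_card_eq _ (by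
    rw [CfsgLib.Lie.Orders.card_center_SL, Nat.card_eq_fintype_card, hF, Fintype.card_fin]; rfl)
  let e : Matrix.SpecialLinearGroup (Fin 2) F ≃* Matrix.ProjectiveSpecialLinearGroup (Fin 2) F :=
    (QuotientGroup.quotientBot.symm.trans (QuotientGroup.quotientMulEquivOfEq hz.symm))
  refine ⟨MulEquiv.ofBijective (φ.comp e.toMonoidHom) ((Nat.bijective_iff_injective_and_card _).2 ⟨hφ.comp e.injective, ?_⟩)⟩
  rw [CfsgLib.Lie.Orders.card_SL_two hF, Nat.card_eq_fintype_card, Fintype.card_perm, Fintype.card_fin]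
  rfl

end Cfsg.Agent.S0250
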