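import Cfsg.Statements.S0253
import Cfsg.Agent.Lie.ProjLine
import Cfsg.Agent.Lie.SLn
import Cfsg.Agent.Base.Small.OrderSixty
-- import your own Cfsg.Agent.* helpers here

set_option autoImplicit false
open Cfsg

namespace Cfsg.Agent.S0253

/-- PSL_2(5) is isomorphic to A_5. -/
theorem result {F : Type*} [Field F] [Fintype F] (hF : Fintype.card F = 5) : Nonempty (Matrix.ProjectiveSpecialLinearGroup (Fin 2) F ≃* alternatingGroup (Fin 5)) := by
  classical
  have hc := CfsgLib.Lie.ProjLine.card_PSL_two hF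
  rw [show Nat.gcd 2 (5 - 1) = 2 from rfl] at hc
  have h60 : Nat.card (Matrix.ProjectiveSpecialLinearGroup (Fin 2) F) = 60 := by omega
  have hp : ringChar F = 5 := by
    obtain ⟨n, hp, hn⟩ := FiniteField.card F (ringChar F)
    rw [hF] at hn
    have : ringChar F ∣ 5 := hn ▸ dvd_pow_self _ n.ne_zero
    exact ((Nat.prime_dvd_prime_iff_eq hp (by norm_num)).1 this)
  haveI : CharP F 5 := ringChar.of_eq hp
  have h2 : ∃ a : F, a ≠ 0 ∧ a ^ 2 ≠ 1 := by
    refine ⟨2, ?_, ?_⟩
    · intro h
      have := (CharP.cast_eq_zero_iff F 5 2).1 (by exact_mod_cast h)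
      norm_num at this
    · intro h
      have : ((3 : ℕ) : F) = 0 := by push_cast; linear_combination h
      have := (CharP.cast_eq_zero_iff F 5 3).1 this
      norm_num at this
  haveI := CfsgLib.Lie.SLn.isSimpleGroup_PSL (ι := Fin 2) (F := F) (Or.inr h2)
  exact CfsgLib.OrderSixty.iso_alt5 h60

end Cfsg.Agent.S0253
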