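import Cfsg.Statements.S0254
import Cfsg.Agent.Lie.DicksonExist
-- import your own Cfsg.Agent.* helpers here

set_option autoImplicit false
open Cfsg

namespace Cfsg.Agent.S0254

/-- PSL_2(9) is isomorphic to A_6. -/
theorem result {F : Type*} [Field F] [Fintype F] (hF : Fintype.card F = 9) : Nonempty (Matrix.ProjectiveSpecialLinearGroup (Fin 2) F ≃* alternatingGroup (Fin 6)) := by
  classical
  haveI hp : Fact (Nat.Prime 3) := ⟨Nat.prime_three⟩
  haveI : CharP F 3 := by
    obtain ⟨p, hp'⟩ := CharP.exists F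
    haveI : Fact p.Prime := ⟨CharP.char_is_prime F p⟩
    obtain ⟨n, -, hn⟩ := FiniteField.card F p
    have h3 : p ∣ 3 ^ 2 := by rw [show (3 : ℕ) ^ 2 = Fintype.card F by rw [hF]; norm_num, hn]; exact dvd_pow_self p n.ne_zero
    have := (Nat.prime_dvd_prime_iff_eq Fact.out Nat.prime_three).1 ((Fact.out : p.Prime).dvd_of_dvd_pow h3)
    exact this ▸ hp'
  obtain ⟨H, hH, ⟨t⟩⟩ := CfsgLib.Lie.DicksonExist.exists_max_alt5 (F := F) 3 (Or.inr ⟨by rw [hF]; norm_num, Or.inl rfl⟩)
  have hG : Nat.card (Matrix.ProjectiveSpecialLinearGroup (Fin 2) F) = 360 := by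
    have h := CfsgLib.Lie.DicksonCor.card_PSL F
    rw [hF, show Nat.gcd 2 (9 - 1) = 2 from rfl] at h
    omega
  have hi : H.index = 6 := by
    have h := H.card_mul_index
    rw [CfsgLib.Lie.DicksonExist.card_alt5 t, hG] at h
    omega
  haveI := CfsgLib.Lie.DicksonMinSimple.isSimple (F := F) (by omega)
  haveI : Fintype (Matrix.ProjectiveSpecialLinearGroup (Fin 2) F ⧸ H) := Fintype.ofFinite _
  have hc : Fintype.card (Matrix.ProjectiveSpecialLinearGroup (Fin 2) F ⧸ H) = 6 := by
    rw [← Nat.card_eq_fintype_card]; exact hi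
  let e := Fintype.equivFinOfCardEq hc
  let φ := MulAction.toPermHom (Matrix.ProjectiveSpecialLinearGroup (Fin 2) F)
    (Matrix.ProjectiveSpecialLinearGroup (Fin 2) F ⧸ H)
  have hφ : Function.Injective φ := by
    rw [← MonoidHom.ker_eq_bot_iff, ← Subgroup.normalCore_eq_ker]
    refine (Subgroup.Normal.eq_bot_or_eq_top inferInstance).resolve_right fun h => hH.1 ?_
    exact top_le_iff.1 (h ▸ Subgroup.normalCore_le H)
  let ψ : Matrix.ProjectiveSpecialLinearGroup (Fin 2) F →* Equiv.Perm (Fin 6) := e.permCongrHom.toMonoidHom.comp φ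
  have hψ : Function.Injective ψ := e.permCongrHom.injective.comp hφ
  have hr : ψ.range.index = 2 := by
    have h := ψ.range.card_mul_index
    rw [← Nat.card_congr (MonoidHom.ofInjective hψ).toEquiv, hG, Nat.card_perm, Nat.card_fin] at h
    simp [Nat.factorial] at h
    omega
  exact ⟨(MonoidHom.ofInjective hψ).trans (MulEquiv.subgroupCongr (Equiv.Perm.eq_alternatingGroup_of_index_eq_two hr))⟩

end Cfsg.Agent.S0254
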