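import Cfsg.Statements.S0825
import Cfsg.Agent.Lie.OrthOrder2
import Mathlib.Algebra.Field.ZMod

set_option autoImplicit false
open Cfsg

namespace Cfsg.Agent.S0825

open Matrix

/-- the model vectors: a hyperbolic basis of even subsets of eight points modulo the full set -/
def E : Fin 3 → Fin 8 → ZMod 2 :=
  ![![0,0,0,0,1,1,1,1], ![0,0,1,1,0,0,1,1], ![0,1,0,1,0,1,0,1]]

/-- the dual singular vectors -/
def D : Fin 3 → Fin 8 → ZMod 2 :=
  ![![0,0,0,1,1,1,1,0], ![0,0,1,1,1,0,0,1], ![0,1,1,0,1,0,1,0]]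

abbrev V := Fin 3 ⊕ Fin 3 → ZMod 2

/-- the embedding of the orthogonal space into the even subsets -/
def L : V →ₗ[ZMod 2] Fin 8 → ZMod 2 where
  toFun v p := ∑ i, (v (.inl i) * E i p + v (.inr i) * D i p)
  map_add' u v := by
    funext p
    show ∑ i, ((u + v) (.inl i) * E i p + (u + v) (.inr i) * D i p) = _
    simp only [Pi.add_apply, ← Finset.sum_add_distrib]
    exact Finset.sum_congr rfl fun i _ => by ring
  map_smul' c v := by
    funext p
    show ∑ i, ((c • v) (.inl i) * E i p + (c • v) (.inr i) * D i p) = _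
    simp only [Pi.smul_apply, smul_eq_mul, RingHom.id_apply, Finset.mul_sum]
    exact Finset.sum_congr rfl fun i _ => by ring

/-- the coordinates -/
def coord : (Fin 8 → ZMod 2) →ₗ[ZMod 2] V where
  toFun x := Sum.elim (fun i => D i ⬝ᵥ x) (fun i => E i ⬝ᵥ x)
  map_add' x y := by funext s; cases s <;> simp [dotProduct_add]
  map_smul' c x := by funext s; cases s <;> simp [dotProduct_smul]

/-- half the weight modulo two -/
def wq (x : Fin 8 → ZMod 2) : ZMod 2 :=
  (((Finset.univ.filter fun p => x p = 1).card / 2 : ℕ) : ZMod 2)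

theorem coord_L : ∀ v, coord (L v) = v := by decide +kernel

theorem L_even : ∀ v, ∑ p, L v p = 0 := by decide +kernel

theorem coord_one : coord (fun _ => 1) = 0 := by decide +kernel

theorem decompose : ∀ x : Fin 8 → ZMod 2, ∑ p, x p = 0 →
    ∃ c : ZMod 2, x = L (coord x) + c • fun _ => 1 := by decide +kernel

theorem wq_L : ∀ v, wq (L v) = Cfsg.quadFormPlus 3 (ZMod 2) v := by
  unfold Cfsg.quadFormPlus
  decide +kernel

theorem wq_add_one : ∀ x : Fin 8 → ZMod 2, ∑ p, x p = 0 → ∀ c : ZMod 2,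
    wq (x + c • fun _ => 1) = wq x := by decide +kernel

theorem wq_perm (σ : Equiv.Perm (Fin 8)) (x : Fin 8 → ZMod 2) : wq (x ∘ σ) = wq x := by
  unfold wq
  congr 2
  refine Finset.card_bij (fun p _ => σ p) (fun p hp => ?_) (fun p _ r _ h => σ.injective h)
    (fun r hr => ⟨σ.symm r, ?_, σ.apply_symm_apply r⟩)
  · exact Finset.mem_filter.2 ⟨Finset.mem_univ _, (Finset.mem_filter.1 hp).2⟩
  · refine Finset.mem_filter.2 ⟨Finset.mem_univ _, ?_⟩
    show x (σ (σ.symm r)) = 1
    rw [σ.apply_symm_apply]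
    exact (Finset.mem_filter.1 hr).2

/-- the action of a permutation on the quotient space -/
def act (σ : Equiv.Perm (Fin 8)) : V →ₗ[ZMod 2] V :=
  coord ∘ₗ (LinearMap.funLeft (ZMod 2) (ZMod 2) σ.symm ∘ₗ L)

theorem act_apply (σ : Equiv.Perm (Fin 8)) (v : V) : act σ v = coord (L v ∘ σ.symm) := rfl

theorem act_even (σ : Equiv.Perm (Fin 8)) (v : V) : ∑ p, (L v ∘ σ.symm) p = 0 := by
  rw [← L_even v]; exact Equiv.sum_comp σ.symm (L v)

theorem act_mul (σ τ : Equiv.Perm (Fin 8)) : act (σ * τ) = act σ ∘ₗ act τ := by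
  refine LinearMap.ext fun v => ?_
  obtain ⟨c, hc⟩ := decompose _ (act_even τ v)
  show coord (L v ∘ (σ * τ).symm) = coord (L (coord (L v ∘ τ.symm)) ∘ σ.symm)
  rw [show L v ∘ (σ * τ).symm = (L v ∘ τ.symm) ∘ σ.symm from rfl]
  nth_rewrite 1 [hc]
  rw [show (L (coord (L v ∘ τ.symm)) + c • fun _ => (1 : ZMod 2)) ∘ σ.symm =
      L (coord (L v ∘ τ.symm)) ∘ σ.symm + c • fun _ => 1 from rfl,
    map_add, map_smul, coord_one, smul_zero, add_zero]

theorem act_one : act 1 = LinearMap.id := LinearMap.ext fun v => coord_L v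

theorem act_quad (σ : Equiv.Perm (Fin 8)) (v : V) :
    Cfsg.quadFormPlus 3 (ZMod 2) (act σ v) = Cfsg.quadFormPlus 3 (ZMod 2) v := by
  obtain ⟨c, hc⟩ := decompose _ (act_even σ v)
  rw [← wq_L, ← wq_L, act_apply, ← wq_add_one _ (L_even _) c, ← hc, wq_perm]

theorem act_injective {σ : Equiv.Perm (Fin 8)} (hσ : act σ = LinearMap.id) : σ = 1 := by
  have key : ∀ x : Fin 8 → ZMod 2, ∑ p, x p = 0 → ∃ c : ZMod 2, x ∘ σ.symm = x + c • fun _ => 1 := by
    intro x hx
    obtain ⟨c, hc⟩ := decompose x hx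
    obtain ⟨d, hd⟩ := decompose _ (act_even σ (coord x))
    have h : coord (L (coord x) ∘ σ.symm) = coord x := LinearMap.congr_fun hσ (coord x)
    rw [h] at hd
    refine ⟨d, ?_⟩
    nth_rewrite 1 [hc]
    rw [show (L (coord x) + c • fun _ => (1 : ZMod 2)) ∘ σ.symm = L (coord x) ∘ σ.symm + c • fun _ => 1
      from rfl, hd]
    conv_rhs => rw [hc]
    abel
  refine Equiv.ext fun a => ?_
  by_contra hne
  change σ a ≠ a at hne
  obtain ⟨b, -, hb⟩ := Finset.exists_mem_notMem_of_card_lt_card (s := ({a, σ a} : Finset (Fin 8))) (t := Finset.univ)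
    (by rw [Finset.card_univ, Fintype.card_fin]; exact lt_of_le_of_lt Finset.card_le_two (by omega))
  simp only [Finset.mem_insert, Finset.mem_singleton, not_or] at hb
  obtain ⟨hba, hbs⟩ := hb
  obtain ⟨c, hc⟩ := key (Pi.single a 1 + Pi.single b 1) (by
    simp only [Pi.add_apply, Finset.sum_add_distrib, Finset.sum_pi_single', Finset.mem_univ, if_true]; decide)
  have hsa := congrFun hc (σ a)
  simp only [Function.comp_apply, Equiv.symm_apply_apply, Pi.add_apply, Pi.smul_apply, smul_eq_mul, mul_one,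
    Pi.single_eq_same, Pi.single_eq_of_ne (Ne.symm hba), Pi.single_eq_of_ne hne, Pi.single_eq_of_ne (Ne.symm hbs),
    add_zero, zero_add] at hsa
  subst hsa
  obtain ⟨p, -, hp⟩ := Finset.exists_mem_notMem_of_card_lt_card (s := ({a, b, σ a, σ b} : Finset (Fin 8))) (t := Finset.univ)
    (by rw [Finset.card_univ, Fintype.card_fin]; exact lt_of_le_of_lt Finset.card_le_four (by omega))
  simp only [Finset.mem_insert, Finset.mem_singleton, not_or] at hp
  obtain ⟨hpa, hpb, hpsa, hpsb⟩ := hp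
  have h := congrFun hc p
  simp only [Function.comp_apply, Pi.add_apply, Pi.smul_apply, smul_eq_mul, mul_one, Pi.single_eq_of_ne hpa,
    Pi.single_eq_of_ne hpb,
    Pi.single_eq_of_ne (show σ.symm p ≠ a from fun e => hpsa (by rw [← e, Equiv.apply_symm_apply])),
    Pi.single_eq_of_ne (show σ.symm p ≠ b from fun e => hpsb (by rw [← e, Equiv.apply_symm_apply]))] at h
  exact absurd h (by decide)

/-- the representation -/
def rep : Equiv.Perm (Fin 8) →* Matrix.GeneralLinearGroup (Fin 3 ⊕ Fin 3) (ZMod 2) :=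
  MonoidHom.toHomUnits
    { toFun := fun σ => LinearMap.toMatrix' (act σ)
      map_one' := by rw [act_one]; exact LinearMap.toMatrix'_id
      map_mul' := fun σ τ => by rw [act_mul, LinearMap.toMatrix'_comp] }

/-- O⁺_6(2) ≅ S_8: the isometry group of the hyperbolic form x_1y_1 + x_2y_2 + x_3y_3 over the field with 2 elements is isomorphic to the symmetric group on 8 letters. -/
theorem result {F : Type*} [Field F] [Fintype F] (hF : Fintype.card F = 2) : Nonempty (↥(Cfsg.isometryGroup F (Cfsg.quadFormPlus 3 F)) ≃* Equiv.Perm (Fin 8)) := by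
  classical
  haveI : Fact (Nat.Prime 2) := ⟨Nat.prime_two⟩
  let f : ZMod 2 ≃+* F := ZMod.ringEquivOfPrime F Nat.prime_two hF
  let M := Matrix.GeneralLinearGroup.map (n := Fin 3 ⊕ Fin 3) f.toRingHom
  have hmem : ∀ σ, M (rep σ) ∈ Cfsg.isometryGroup F (Cfsg.quadFormPlus 3 F) := by
    intro σ u _
    show Cfsg.quadFormPlus 3 F ((LinearMap.toMatrix' (act σ)).map f.toRingHom *ᵥ u) = Cfsg.quadFormPlus 3 F u
    obtain ⟨w, rfl⟩ : ∃ w : V, u = f.toRingHom ∘ w := ⟨f.symm ∘ u, funext fun i => (f.apply_symm_apply _).symm⟩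
    have h1 : (LinearMap.toMatrix' (act σ)).map f.toRingHom *ᵥ (f.toRingHom ∘ w) = f.toRingHom ∘ act σ w := by
      funext i
      rw [← RingHom.map_mulVec, LinearMap.toMatrix'_mulVec]
      rfl
    have h2 : ∀ z : V, Cfsg.quadFormPlus 3 F (f.toRingHom ∘ z) = f.toRingHom (Cfsg.quadFormPlus 3 (ZMod 2) z) := fun z => by
      simp [Cfsg.quadFormPlus, map_sum]
    rw [h1, h2, h2, act_quad]
  let φ := (M.comp rep).codRestrict _ hmem
  have hinj : Function.Injective φ := (injective_iff_map_eq_one φ).2 fun σ hσ => by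
    have h : (LinearMap.toMatrix' (act σ)).map f.toRingHom = 1 :=
      congrArg (fun g : Cfsg.isometryGroup F (Cfsg.quadFormPlus 3 F) => g.1.1) hσ
    refine act_injective (LinearMap.toMatrix'.injective ?_)
    rw [LinearMap.toMatrix'_id]
    refine Matrix.map_injective f.injective ?_
    show _ = Matrix.map 1 f
    rw [Matrix.map_one f (map_zero f) (map_one f)]
    exact h
  have hcard : Nat.card (Cfsg.isometryGroup F (Cfsg.quadFormPlus 3 F)) = 40320 := by
    rw [CfsgLib.Lie.OrthOrder.card_plus hF 3 (by omega)]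
    simp [Finset.prod_range_succ]
  refine ⟨(MulEquiv.ofBijective φ ((Nat.bijective_iff_injective_and_card φ).2 ⟨hinj, ?_⟩)).symm⟩
  rw [hcard, Nat.card_perm, Nat.card_fin]
  rfl

end Cfsg.Agent.S0825
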