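import Cfsg.Statements.S0256
import Cfsg.Agent.Lie.Klein
import Cfsg.Agent.S0825

set_option autoImplicit false
open Cfsg

namespace Cfsg.Agent.S0256

/-- PSL_4(2) is isomorphic to A_8. -/
theorem result {F : Type*} [Field F] [Fintype F] (hF : Fintype.card F = 2) : Nonempty (Matrix.ProjectiveSpecialLinearGroup (Fin 4) F ≃* alternatingGroup (Fin 8)) := by
  classical
  have he : ⇑(CfsgLib.Lie.OrthOrder.plusQ 3 F) = Cfsg.quadFormPlus 3 F :=
    funext fun v => CfsgLib.Lie.OrthOrder.plusQ_apply 3 v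
  obtain ⟨e⟩ : Nonempty (↥(Cfsg.isometryGroup F ⇑(CfsgLib.Lie.OrthOrder.plusQ 3 F)) ≃* Equiv.Perm (Fin 8)) := by
    rw [he]; exact Cfsg.Agent.S0825.result hF
  have hk : Nat.card (CfsgLib.Lie.Klein.Φ (F := F)).ker = 1 := by
    rw [CfsgLib.Lie.Klein.card_ker, Nat.card_eq_one_iff_unique]
    have h2 : (2 : F) = 0 := by
      have h := FiniteField.cast_card_eq_zero F
      rw [hF] at h
      simpa using h
    have ha : ∀ c : F, c * c = 1 → c = 1 := fun c hc => by
      rcases mul_self_eq_one_iff.1 hc with h | h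
      · exact h
      · rw [h]; linear_combination -h2
    exact ⟨⟨fun a b => Subtype.ext (by rw [ha a.1 a.2, ha b.1 b.2])⟩, ⟨⟨1, one_mul 1⟩⟩⟩
  let ψ := e.toMonoidHom.comp (CfsgLib.Lie.Klein.Φ (F := F))
  have hinj : Function.Injective ψ :=
    e.injective.comp ((MonoidHom.ker_eq_bot_iff _).1 (Subgroup.eq_bot_of_card_eq _ hk))
  have hidx : ψ.range.index = 2 := by
    rw [show ψ.range = (CfsgLib.Lie.Klein.Φ (F := F)).range.map e.toMonoidHom from MonoidHom.range_comp _ _,
      Subgroup.index_map_of_bijective (f := e.toMonoidHom) e.bijective, CfsgLib.Lie.Klein.range_eq, CfsgLib.Lie.Klein.index_eq, hk]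
  have hbot : Subgroup.center (Matrix.SpecialLinearGroup (Fin 4) F) = ⊥ := Subgroup.eq_bot_of_card_eq _ (by
    rw [CfsgLib.Lie.Orders.card_center_SL, Nat.card_eq_fintype_card, hF]; simp)
  exact ⟨((QuotientGroup.quotientMulEquivOfEq hbot).trans QuotientGroup.quotientBot).trans
    ((MonoidHom.ofInjective hinj).trans
      (MulEquiv.subgroupCongr (Equiv.Perm.eq_alternatingGroup_of_index_eq_two hidx)))⟩

end Cfsg.Agent.S0256
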