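import Cfsg.Statements.S0257
import Cfsg.Agent.Lie.ProjLine

set_option autoImplicit false
open Cfsg

namespace Cfsg.Agent.S0257

/-- Generators. -/
def qi : Matrix.SpecialLinearGroup (Fin 2) (ZMod 3) := ⟨!![0, 1; 2, 0], by decide +kernel⟩
def qj : Matrix.SpecialLinearGroup (Fin 2) (ZMod 3) := ⟨!![1, 1; 1, 2], by decide +kernel⟩

/-- The embedding of Q₈ in SL₂(3). -/
def f0 : QuaternionGroup 2 → Matrix.SpecialLinearGroup (Fin 2) (ZMod 3)
  | .a k => qi ^ k.val
  | .xa k => qj * qi ^ k.val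

theorem f0_mul : ∀ x y, f0 (x * y) = f0 x * f0 y := by decide +kernel
theorem f0_inj : ∀ x, f0 x = 1 → x = 1 := by decide +kernel
theorem f0_pow : ∀ x, f0 x ^ 4 = 1 := by decide +kernel
theorem f0_all : ∀ g : Matrix.SpecialLinearGroup (Fin 2) (ZMod 3), g ^ 4 = 1 → ∃ x, f0 x = g := by
  decide +kernel

/-- SL_2(3) has a normal subgroup of index 3 isomorphic to the quaternion group of order 8, and its centre has order 2. -/
theorem result {F : Type*} [Field F] [Fintype F] (hF : Fintype.card F = 3) : (∃ Q : Subgroup (Matrix.SpecialLinearGroup (Fin 2) F), Q.Normal ∧ Q.index = 3 ∧ Nonempty (Q ≃* QuaternionGroup 2)) ∧ Nat.card (Subgroup.center (Matrix.SpecialLinearGroup (Fin 2) F)) = 2 := by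
  refine ⟨?_, by rw [CfsgLib.Lie.Orders.card_center_SL, Nat.card_eq_fintype_card, hF, Fintype.card_fin]; rfl⟩
  let f : QuaternionGroup 2 →* Matrix.SpecialLinearGroup (Fin 2) (ZMod 3) := MonoidHom.mk' f0 f0_mul
  have hinj : Function.Injective f := (injective_iff_map_eq_one f).2 f0_inj
  have hn : f.range.Normal := ⟨fun n ⟨x, hx⟩ g => f0_all _ (by
    rw [conj_pow, ← hx]
    change g * f0 x ^ 4 * g⁻¹ = 1
    rw [f0_pow, mul_one, mul_inv_cancel])⟩
  let σ : ZMod 3 ≃+* F := ZMod.ringEquivOfPrime F Nat.prime_three hF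
  let e : Matrix.SpecialLinearGroup (Fin 2) (ZMod 3) ≃* Matrix.SpecialLinearGroup (Fin 2) F :=
    MulEquiv.ofBijective (Matrix.SpecialLinearGroup.map σ.toRingHom) ⟨fun a b h => Subtype.ext
      (Matrix.map_injective σ.injective (congrArg Subtype.val h)), fun b => ⟨Matrix.SpecialLinearGroup.map σ.symm.toRingHom b,
      Subtype.ext (by ext r s; exact σ.apply_symm_apply _)⟩⟩
  refine ⟨f.range.map e.toMonoidHom, hn.map _ e.surjective, ?_, ⟨?_⟩⟩
  · rw [show f.range.map e.toMonoidHom = f.range.map (e : _ →* _) from rfl, Subgroup.index_map_equiv]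
    have h := f.range.card_mul_index
    rw [← Nat.card_congr (MonoidHom.ofInjective hinj).toEquiv, Nat.card_congr e.toEquiv,
      CfsgLib.Lie.Orders.card_SL_two hF, Nat.card_eq_fintype_card, QuaternionGroup.card] at h
    omega
  · exact (f.range.equivMapOfInjective _ e.injective).symm.trans (MonoidHom.ofInjective hinj).symm

end Cfsg.Agent.S0257
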