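import Cfsg.Statements.S0268
import Cfsg.Agent.Lie.GL2

set_option autoImplicit false
open Cfsg

namespace Cfsg.Agent.S0268

/-- For q odd, -1 is the unique involution of SL_2(q). -/
theorem result {F : Type*} [Field F] [Fintype F] (hF : Odd (Fintype.card F)) (g : Matrix.SpecialLinearGroup (Fin 2) F) (h1 : g ≠ 1) (h2 : g * g = 1) : (g : Matrix (Fin 2) (Fin 2) F) = -1 := by
  have h2F : (2 : F) ≠ 0 := Ring.two_ne_zero (fun hc =>
    (Nat.not_even_iff_odd.2 hF) (FiniteField.even_card_of_char_two hc |> Nat.even_iff.2))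
  have hd := g.det_coe
  rw [Matrix.det_fin_two] at hd
  have hinv : g = g⁻¹ := eq_inv_of_mul_eq_one_left h2
  have hm := congrArg (fun x : Matrix.SpecialLinearGroup (Fin 2) F => (x : Matrix (Fin 2) (Fin 2) F)) hinv
  simp only [Matrix.SpecialLinearGroup.coe_inv, Matrix.adjugate_fin_two] at hm
  have h00 := congrFun (congrFun hm 0) 0
  have h01 := congrFun (congrFun hm 0) 1
  have h10 := congrFun (congrFun hm 1) 0
  simp at h00 h01 h10
  set m := (g : Matrix (Fin 2) (Fin 2) F) with hmdef
  have e01 : m 0 1 = 0 := by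
    have : (2 : F) * m 0 1 = 0 := by linear_combination h01
    simpa [h2F] using this
  have e10 : m 1 0 = 0 := by
    have : (2 : F) * m 1 0 = 0 := by linear_combination h10
    simpa [h2F] using this
  have hsq : m 0 0 * m 0 0 = 1 := by
    rw [e01, e10, ← h00] at hd; linear_combination hd
  rcases mul_self_eq_one_iff.1 hsq with h | h
  · exfalso
    apply h1
    apply Subtype.ext
    rw [← hmdef, Matrix.SpecialLinearGroup.coe_one]
    ext i j
    fin_cases i <;> fin_cases j <;> simp [e01, e10, ← h00, h]
  · ext i j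
    fin_cases i <;> fin_cases j <;> simp [e01, e10, ← h00, h]

end Cfsg.Agent.S0268
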