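import Cfsg.Statements.S0273
import Cfsg.Agent.Lie.GL2

set_option autoImplicit false
open Cfsg

namespace Cfsg.Agent.S0273

/-- In GL_2(q) the centraliser of a non-trivial element of a Sylow p-subgroup (p the characteristic) has order q (q-1): the Sylow subgroup times the scalars. -/
theorem result {F : Type*} [Field F] [Fintype F] {q : ℕ} (hF : Fintype.card F = q) (p : ℕ) [Fact p.Prime] [CharP F p] (P : Sylow p (Matrix.GeneralLinearGroup (Fin 2) F)) (a : Matrix.GeneralLinearGroup (Fin 2) F) (ha : a ∈ P) (ha1 : a ≠ 1) : Nat.card (Subgroup.centralizer ({a} : Set (Matrix.GeneralLinearGroup (Fin 2) F))) = q * (q - 1) := by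
  obtain ⟨g, hg⟩ := CfsgLib.Lie.GL2.exists_conj_eq hF p P
  have ha' : a ∈ (P : Subgroup (Matrix.GeneralLinearGroup (Fin 2) F)) := ha
  rw [hg] at ha'
  obtain ⟨x, hx, rfl⟩ := ha'
  obtain ⟨b, rfl⟩ : ∃ b, x = CfsgLib.Lie.GL2.u b := ⟨_, CfsgLib.Lie.GL2.eq_u_of_mem hx⟩
  have hb : b ≠ 0 := by
    intro h0
    apply ha1
    have h1 : (CfsgLib.Lie.GL2.u b : Matrix.GeneralLinearGroup (Fin 2) F) = 1 :=
      Units.ext (by simp [h0, Matrix.one_fin_two])
    simp [h1]
  have he : Subgroup.centralizer ({(MulAut.conj g).toMonoidHom (CfsgLib.Lie.GL2.u b)} : Set (Matrix.GeneralLinearGroup (Fin 2) F)) =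
      (Subgroup.centralizer ({CfsgLib.Lie.GL2.u b} : Set (Matrix.GeneralLinearGroup (Fin 2) F))).map (MulAut.conj g).toMonoidHom := by
    ext y
    rw [Subgroup.mem_centralizer_singleton_iff, Subgroup.mem_map]
    simp only [MulEquiv.coe_toMonoidHom]
    constructor
    · intro h
      refine ⟨(MulAut.conj g).symm y, ?_, (MulAut.conj g).apply_symm_apply y⟩
      rw [Subgroup.mem_centralizer_singleton_iff]
      apply (MulAut.conj g).injective
      simpa only [map_mul, MulEquiv.apply_symm_apply] using h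
    · rintro ⟨z, hz, rfl⟩
      rw [← map_mul, ← map_mul, Subgroup.mem_centralizer_singleton_iff.1 hz]
  rw [he, Subgroup.card_map_of_injective (MulEquiv.injective _),
    Nat.card_congr (CfsgLib.Lie.GL2.centralizerEquiv hb), Nat.card_prod, CfsgLib.Lie.Orders.card_units_eq,
    Nat.card_eq_fintype_card (α := F), hF]
  ring

end Cfsg.Agent.S0273
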