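import Cfsg.Statements.S0274
import Cfsg.Agent.Fus.Dickson

set_option autoImplicit false
open Cfsg

namespace Cfsg.Agent.S0274

/-- Dickson's Theorem for SL_2: if p is odd and H is a subgroup of SL_2(q), q a power of p, with more than one Sylow p-subgroup, then H contains a copy of SL_2(p). -/
theorem result {F : Type*} [Field F] [Fintype F] (p : ℕ) [Fact p.Prime] [CharP F p] (hp : p ≠ 2) (H : Subgroup (Matrix.SpecialLinearGroup (Fin 2) F)) (hH : 1 < Nat.card (Sylow p H)) : ∃ K : Subgroup (Matrix.SpecialLinearGroup (Fin 2) F), K ≤ H ∧ Nonempty (K ≃* Matrix.SpecialLinearGroup (Fin 2) (ZMod p)) := by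
  classical
  haveI : Fintype (Sylow p H) := Fintype.ofFinite _
  rw [Nat.card_eq_fintype_card, Fintype.one_lt_card_iff] at hH
  obtain ⟨P, Q, hPQ⟩ := hH
  have h2 : (2 : F) ≠ 0 := fun h => hp ((Nat.prime_dvd_prime_iff_eq (Fact.out (p := p.Prime)) Nat.prime_two).1
    ((CharP.cast_eq_zero_iff F p 2).1 (by exact_mod_cast h)))
  have hex : ∃ u ∈ P.1, ∃ v ∈ Q.1, ¬ Commute u v := by
    by_contra h
    push_neg at h
    have hle : Q.1 ≤ Subgroup.normalizer (P.1 : Set ↥H) := fun v hv => Subgroup.mem_normalizer_iff.2 fun u => by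
      constructor
      · intro hu; rwa [← (h u hu v hv).eq, mul_inv_cancel_right]
      · intro hu
        have h' := (h _ hu v hv).eq
        rw [inv_mul_cancel_right] at h'
        rwa [mul_left_cancel h']
    have hS := IsPGroup.to_sup_of_normal_left' P.2 Q.2 hle
    have h1 := P.3 hS le_sup_left
    exact hPQ (Sylow.ext (Q.3 P.2 (le_sup_right.trans h1.le)))
  obtain ⟨u, hu, v, hv, huv⟩ := hex
  have hpow : ∀ {R : Sylow p H} {w : ↥H}, w ∈ R.1 → (w : Matrix.SpecialLinearGroup (Fin 2) F) ^ p = 1 := by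
    intro R w hw
    obtain ⟨k, hk⟩ := R.2 ⟨w, hw⟩
    have hk' : (w : Matrix.SpecialLinearGroup (Fin 2) F) ^ p ^ k = 1 := by
      simpa using congrArg (fun t : ↥R.1 => ((t : ↥H) : Matrix.SpecialLinearGroup (Fin 2) F)) hk
    haveI : CharP (Matrix (Fin 2) (Fin 2) F) p := inferInstance
    have hn : IsNilpotent ((w : Matrix.SpecialLinearGroup (Fin 2) F).1 - 1) := ⟨p ^ k, by
      rw [sub_pow_char_pow_of_commute _ _ (Commute.one_right _), one_pow, ← Matrix.SpecialLinearGroup.coe_pow, hk']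
      simp⟩
    have ht := (Matrix.isNilpotent_trace_of_isNilpotent hn).eq_zero
    rw [Matrix.trace_fin_two] at ht
    simp at ht
    refine CfsgLib.Dickson.pow_eq_one_of_tr p ?_
    simp only [CfsgLib.Dickson.tr]
    linear_combination ht
  obtain ⟨k, b, hb, hU, hL⟩ := CfsgLib.Dickson.exists_transvections p h2 H u.2 v.2 (hpow hu) (hpow hv)
    (fun h => huv (Subtype.ext h))
  set f : Matrix.SpecialLinearGroup (Fin 2) (ZMod p) →* Matrix.SpecialLinearGroup (Fin 2) F :=
    (MulAut.conj k).toMonoidHom.comp (CfsgLib.Dickson.embed p b hb)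
  refine ⟨f.range, ?_, ⟨(MonoidHom.ofInjective (f := f) ?_).symm⟩⟩
  · rintro _ ⟨M, rfl⟩; exact CfsgLib.Dickson.embed_mem p hb hU hL M
  · exact (MulAut.conj k).injective.comp (CfsgLib.Dickson.embed_injective p b hb)

end Cfsg.Agent.S0274
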