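import Cfsg.Statements.S0275
import Cfsg.Agent.Lie.SL2Sylow
-- import your own Cfsg.Agent.* helpers here

set_option autoImplicit false
open Cfsg

namespace Cfsg.Agent.S0275

/-- If p is odd and H is a subgroup of SL_2(q), q a power of p, with more than one Sylow p-subgroup, then the Sylow 2-subgroups of H are generalised quaternion. -/
theorem result {F : Type*} [Field F] [Fintype F] (p : ℕ) [Fact p.Prime] [CharP F p] (hp : p ≠ 2) (H : Subgroup (Matrix.SpecialLinearGroup (Fin 2) F)) (hH : 1 < Nat.card (Sylow p H)) (S : Sylow 2 H) : ∃ k : ℕ, 1 ≤ k ∧ Nonempty ((S : Subgroup H) ≃* QuaternionGroup (2 ^ k)) := by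
  haveI : Fact (Nat.Prime 2) := ⟨Nat.prime_two⟩
  have h2 : (2 : F) ≠ 0 := Ring.two_ne_zero (by rwa [ringChar.eq F p])
  have hodd : Fintype.card F % 2 = 1 := FiniteField.odd_card_of_char_ne_two (by rwa [ringChar.eq F p])
  obtain ⟨u, hu, v, hv, hup, hvp, huv⟩ : ∃ u ∈ H, ∃ v ∈ H, u ^ p = 1 ∧ v ^ p = 1 ∧ ¬ Commute u v := by
    by_contra hc
    push Not at hc
    obtain ⟨P, Q, hPQ⟩ : ∃ P Q : Sylow p H, P ≠ Q := by
      haveI := Finite.one_lt_card_iff_nontrivial.1 hH
      exact exists_pair_ne _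
    have hexp : ∀ (R : Sylow p H) (x : H), x ∈ (R : Subgroup H) → (x : Matrix.SpecialLinearGroup (Fin 2) F) ^ p = 1 := by
      intro R x hx
      obtain ⟨k, hk⟩ := R.isPGroup' ⟨x, hx⟩
      have hk' : (x : Matrix.SpecialLinearGroup (Fin 2) F) ^ p ^ k = 1 :=
        congrArg (fun z : (R : Subgroup H) => ((z : H) : Matrix.SpecialLinearGroup (Fin 2) F)) hk
      exact CfsgLib.Dickson.pow_eq_one_of_tr p (CfsgLib.Dickson.tr_eq_two_of_ppow p hk')
    have hcomm : ∀ (R R' : Sylow p H) (x y : H), x ∈ (R : Subgroup H) → y ∈ (R' : Subgroup H) → Commute x y :=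
      fun R R' x y hx hy => Subtype.ext (hc _ x.2 _ y.2 (hexp R x hx) (hexp R' y hy))
    have hnorm : (P : Subgroup H) ≤ Subgroup.normalizer ((Q : Subgroup H) : Set H) := fun x hx => by
      rw [Subgroup.mem_normalizer_iff]
      intro y
      constructor
      · intro hy; rw [(hcomm P Q x y hx hy).eq, mul_inv_cancel_right]; exact hy
      · intro hy
        have h := hcomm P Q x _ hx hy
        have h' : y = x * y * x⁻¹ := by
          have h1 := h.eq
          calc y = x⁻¹ * (x * y * x⁻¹ * x) := by group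
            _ = x⁻¹ * (x * (x * y * x⁻¹)) := by rw [h1]
            _ = x * y * x⁻¹ := by group
        rw [h']; exact hy
    exact hPQ (Sylow.ext ((P.is_maximal' (IsPGroup.to_sup_of_normal_right' P.isPGroup' Q.isPGroup' hnorm)
      le_sup_left).symm.trans (Q.is_maximal' (IsPGroup.to_sup_of_normal_right' P.isPGroup' Q.isPGroup' hnorm)
      le_sup_right)))
  obtain ⟨k, b, hb, hU, hL⟩ := CfsgLib.Dickson.exists_transvections p h2 H hu hv hup hvp huv
  haveI : Fact (1 < p) := ⟨(Fact.out : p.Prime).one_lt⟩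
  obtain ⟨kk, c, w, hk, hco, hwc, -, S₀, hS₀⟩ := CfsgLib.Lie.SL2Sylow.exists_standard (F := ZMod p)
    (by rw [ZMod.card]; exact Nat.odd_iff.1 ((Fact.out : p.Prime).odd_of_ne_two hp))
  let φ : Matrix.SpecialLinearGroup (Fin 2) (ZMod p) →* H :=
    (((MulAut.conj k).toMonoidHom.comp (CfsgLib.Dickson.embed p b hb))).codRestrict H
      (CfsgLib.Dickson.embed_mem p hb hU hL)
  obtain ⟨R, hR⟩ := (S₀.isPGroup'.map φ).exists_le_sylow
  obtain ⟨g, hg⟩ := MulAction.exists_smul_eq H R S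
  have hφ : Function.Injective φ := fun x y h =>
    CfsgLib.Dickson.embed_injective p b hb ((MulAut.conj k).injective (congrArg Subtype.val h))
  have hcw : φ c * φ w ≠ φ w * φ c := fun h => by
    rw [← map_mul, ← map_mul] at h
    have h1 := hφ h
    rw [← h1, mul_inv_cancel_right] at hwc
    have h2 : c ^ 2 = 1 := by rw [pow_two]; nth_rewrite 1 [hwc]; exact inv_mul_cancel c
    have h3 := Nat.le_of_dvd two_pos (hco ▸ orderOf_dvd_of_pow_eq_one h2)
    have h4 : 2 ^ 1 ≤ 2 ^ kk := Nat.pow_le_pow_right two_pos hk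
    omega
  have hmem : ∀ x, x ∈ (S₀ : Subgroup (Matrix.SpecialLinearGroup (Fin 2) (ZMod p))) →
      g * φ x * g⁻¹ ∈ (S : Subgroup H) := fun x hx => by
    rw [← hg]; exact ⟨φ x, hR ⟨x, hx, rfl⟩, rfl⟩
  obtain ⟨j, hj, ⟨e⟩⟩ := CfsgLib.Lie.SL2Sylow.quaternion_of_noncomm hodd (S.isPGroup'.map H.subtype)
    ⟨_, ⟨_, hmem c ((hS₀ c).2 (Or.inl (Subgroup.mem_zpowers c))), rfl⟩, _,
      ⟨_, hmem w ((hS₀ w).2 (Or.inr (by rw [inv_mul_cancel]; exact one_mem _))), rfl⟩, fun h => hcw (by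
        rw [← map_mul, ← map_mul] at h
        have h1 := H.subtype_injective h
        calc φ c * φ w = g⁻¹ * (g * φ c * g⁻¹ * (g * φ w * g⁻¹)) * g := by group
          _ = g⁻¹ * (g * φ w * g⁻¹ * (g * φ c * g⁻¹)) * g := by rw [h1]
          _ = φ w * φ c := by group)⟩
  exact ⟨j, hj, ⟨((S : Subgroup H).equivMapOfInjective _ H.subtype_injective).trans e⟩⟩

end Cfsg.Agent.S0275
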