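import Cfsg.Statements.S0276
import Cfsg.Agent.Lie.SL2Sylow
-- import your own Cfsg.Agent.* helpers here

set_option autoImplicit false
open Cfsg

namespace Cfsg.Agent.S0276

/-- For q = 3 or 5 mod 8 the Sylow 2-subgroups of PSL_2(q) are elementary abelian of order 4. -/
theorem result {F : Type*} [Field F] [Fintype F] {q : ℕ} (hF : Fintype.card F = q) (hq : q % 8 = 3 ∨ q % 8 = 5) (P : Sylow 2 (Matrix.ProjectiveSpecialLinearGroup (Fin 2) F)) : IsKleinFour (P : Subgroup (Matrix.ProjectiveSpecialLinearGroup (Fin 2) F)) := by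
  haveI : Fact (Nat.Prime 2) := ⟨Nat.prime_two⟩
  subst hF
  have hodd : Fintype.card F % 2 = 1 := by omega
  have hq1 : 1 < Fintype.card F := Fintype.one_lt_card
  obtain ⟨c, hc⟩ : ∃ c, Fintype.card F = 2 * c + 1 := ⟨Fintype.card F / 2, by omega⟩
  obtain ⟨d, hd, hdo⟩ : ∃ d, Fintype.card F * (Fintype.card F ^ 2 - 1) = 8 * d ∧ Odd d := by
    obtain ⟨e, he⟩ : ∃ e, c * (c + 1) = 2 * e := (Nat.even_mul_succ_self c).exists_two_nsmul _ |>.imp
      fun e he => by simpa using he
    refine ⟨Fintype.card F * e, ?_, (Nat.odd_iff.2 hodd).mul ?_⟩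
    · have h : Fintype.card F ^ 2 = 4 * (c * (c + 1)) + 1 := by rw [hc]; ring
      rw [h, he, show 4 * (2 * e) + 1 - 1 = 8 * e by omega]; ring
    · rw [Nat.odd_iff]
      obtain ⟨t, ht⟩ : ∃ t, c = 4 * t + 1 ∨ c = 4 * t + 2 := ⟨c / 4, by omega⟩
      rcases ht with rfl | rfl
      · have : e = 8 * (t * t) + 6 * t + 1 := by nlinarith
        omega
      · have : e = 8 * (t * t) + 10 * t + 3 := by nlinarith
        omega
  have hSL : Nat.card (Matrix.SpecialLinearGroup (Fin 2) F) = 8 * d := (CfsgLib.Lie.Orders.card_SL_two rfl).trans hd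
  have hd0 : d ≠ 0 := hdo.pos.ne'
  have hfac : ∀ e : ℕ, (2 ^ e * d).factorization 2 = e := fun e => by
    rw [Nat.factorization_mul (by positivity) hd0, Finsupp.add_apply, Nat.factorization_pow, Finsupp.smul_apply,
      Nat.Prime.factorization_self Nat.prime_two, Nat.factorization_eq_zero_of_not_dvd hdo.not_two_dvd_nat]
    simp
  have h8 : ∀ S : Sylow 2 (Matrix.SpecialLinearGroup (Fin 2) F),
      Nat.card (S : Subgroup (Matrix.SpecialLinearGroup (Fin 2) F)) = 8 := fun S => by
    rw [S.card_eq_multiplicity, hSL, show 8 * d = 2 ^ 3 * d from rfl, hfac]; rfl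
  have h4 : Nat.card (P : Subgroup (Matrix.ProjectiveSpecialLinearGroup (Fin 2) F)) = 4 := by
    have h := CfsgLib.Lie.ProjLine.card_PSL_two (F := F) rfl
    have hg : Nat.gcd 2 (Fintype.card F - 1) = 2 := Nat.gcd_eq_left (by omega)
    rw [hg, hd] at h
    rw [P.card_eq_multiplicity, show Nat.card (Matrix.ProjectiveSpecialLinearGroup (Fin 2) F) = 2 ^ 2 * d by omega,
      hfac]
    rfl
  have hsq : ∀ x ∈ (P : Subgroup (Matrix.ProjectiveSpecialLinearGroup (Fin 2) F)), x ^ 2 = 1 := by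
    intro x hx
    obtain ⟨g, rfl⟩ := QuotientGroup.mk_surjective x
    have h1 : (QuotientGroup.mk g : Matrix.ProjectiveSpecialLinearGroup (Fin 2) F) ^ 4 = 1 := by
      have := pow_card_eq_one' (x := (⟨_, hx⟩ : (P : Subgroup (Matrix.ProjectiveSpecialLinearGroup (Fin 2) F))))
      rw [h4] at this
      exact congrArg Subtype.val this
    rw [← QuotientGroup.mk_pow, QuotientGroup.eq_one_iff] at h1
    rw [← QuotientGroup.mk_pow, QuotientGroup.eq_one_iff]
    rcases CfsgLib.Fus.PSL2Two.mem_center_cases h1 with h | h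
    · rcases CfsgLib.Fus.PSL2Two.sq_eq_one_cases hodd (g := g ^ 2) (by rw [← pow_add, h]) with h' | h' <;> rw [h']
      · exact one_mem _
      · exact CfsgLib.Fus.PSL2Two.neg_one_mem_center
    · exfalso
      have ho : orderOf g = 2 ^ 3 := orderOf_eq_prime_pow (by
        show ¬ g ^ 4 = 1
        rw [h]; exact CfsgLib.Lie.SL2Sylow.neg_one_ne_one hodd) (by
        show g ^ 8 = 1
        rw [show (8 : ℕ) = 4 * 2 from rfl, pow_mul, h, neg_one_sq])
      obtain ⟨S, hS⟩ := (IsPGroup.of_card (n := 3) (by rw [Nat.card_zpowers, ho] :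
        Nat.card (Subgroup.zpowers g) = 2 ^ 3)).exists_le_sylow
      have heq : Subgroup.zpowers g = (S : Subgroup (Matrix.SpecialLinearGroup (Fin 2) F)) :=
        Subgroup.eq_of_le_of_card_ge hS (by rw [h8, Nat.card_zpowers, ho]; rfl)
      obtain ⟨k, hk, ⟨e⟩⟩ := CfsgLib.Lie.SL2Sylow.sylow_quaternion hodd S
      haveI : IsCyclic (Subgroup.zpowers g) := Subgroup.isCyclic_zpowers g
      haveI : IsCyclic (S : Subgroup (Matrix.SpecialLinearGroup (Fin 2) F)) := heq ▸ inferInstance
      have hA : IsCyclic (QuaternionGroup (2 ^ k)) := e.isCyclic.1 inferInstance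
      obtain ⟨hc'⟩ : Nonempty (CommGroup (QuaternionGroup (2 ^ k))) := ⟨IsCyclic.commGroup⟩
      have hne : (2 : ZMod (2 * 2 ^ k)) ≠ 0 := fun h2 => by
        have h3 : ((2 : ℕ) : ZMod (2 * 2 ^ k)) = 0 := by exact_mod_cast h2
        have h5 := Nat.le_of_dvd two_pos ((ZMod.natCast_eq_zero_iff _ _).1 h3)
        have h6 : 2 ^ 1 ≤ 2 ^ k := Nat.pow_le_pow_right two_pos hk
        omega
      have hxy := (IsCyclic.isMulCommutative (α := QuaternionGroup (2 ^ k))).is_comm.comm
        (QuaternionGroup.a 1) (QuaternionGroup.xa 0)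
      rw [QuaternionGroup.a_mul_xa, QuaternionGroup.xa_mul_a] at hxy
      injection hxy with h7
      exact hne (by linear_combination -h7)
  refine ⟨h4, ?_⟩
  haveI : Nontrivial (P : Subgroup (Matrix.ProjectiveSpecialLinearGroup (Fin 2) F)) :=
    Finite.one_lt_card_iff_nontrivial.1 (by omega)
  rw [Monoid.exponent_eq_prime_iff Nat.prime_two]
  intro x hx
  exact orderOf_eq_prime (Subtype.ext (hsq x x.2)) hx

end Cfsg.Agent.S0276
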