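import Cfsg.Statements.S0281
import Cfsg.Agent.Lie.Unitary
import Cfsg.Agent.Base.Laws.Unitary

set_option autoImplicit false
open Cfsg

namespace Cfsg.Agent.S0281

/-- SU_2(q) is isomorphic to SL_2(q). -/
theorem result {F K : Type*} [Field F] [Fintype F] [Field K] [Fintype K] {q : ℕ} (hF : Fintype.card F = q ^ 2) (hK : Fintype.card K = q) : Nonempty (Cfsg.SU 2 F q ≃* Matrix.SpecialLinearGroup (Fin 2) K) := by
  classical
  obtain ⟨L, φ, hφ, hL⟩ := CfsgLib.Base.Laws.exists_SL2_to_SU (n := 2) le_rfl hF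
  have hq := CfsgLib.Lie.Herm.two_le hF
  have hU := CfsgLib.Lie.Unitary.card_SU (n := 2) hF (by omega)
  rw [CfsgLib.Lie.Herm.card_GU hF 2] at hU
  have hU' : Nat.card (Cfsg.SU 2 F q) = q * (q ^ 2 - 1) := by
    simp [Finset.prod_range_succ, Nat.even_iff, -Nat.card_eq_fintype_card] at hU
    refine Nat.eq_of_mul_eq_mul_left (show 0 < q + 1 by omega) (hU.trans ?_)
    ring
  have hle := Nat.card_le_card_of_injective φ hφ
  rw [hU', CfsgLib.Lie.Orders.card_SL_two (rfl : Fintype.card L = _)] at hle
  rw [Nat.card_eq_fintype_card] at hL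
  have hle' : Fintype.card L ≤ q := by
    by_contra hc
    have h1 : q ^ 2 - 1 < Fintype.card L ^ 2 - 1 := by
      have h2 : q ^ 2 < Fintype.card L ^ 2 := Nat.pow_lt_pow_left (by omega) two_ne_zero
      have h3 : 1 ≤ q ^ 2 := Nat.one_le_pow _ _ (by omega)
      omega
    have h4 : q * (q ^ 2 - 1) < Fintype.card L * (Fintype.card L ^ 2 - 1) :=
      (Nat.mul_le_mul_right _ (by omega)).trans_lt (Nat.mul_lt_mul_of_pos_left h1 (by omega))
    omega
  have hLq : Fintype.card L = q := by
    rcases (show Fintype.card L = q ∨ Fintype.card L = q - 1 by omega) with h | h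
    · exact h
    exfalso
    have hpow := Module.card_eq_pow_finrank (K := L) (V := F)
    have hd : 0 < Module.finrank L F := Module.finrank_pos
    rw [hF, h] at hpow
    have hdvd : q - 1 ∣ q ^ 2 := hpow ▸ dvd_pow_self _ hd.ne'
    have hco : Nat.Coprime (q - 1) (q ^ 2) :=
      Nat.Coprime.pow_right 2 (by rw [Nat.coprime_self_sub_left (by omega : 1 ≤ q)]; exact Nat.coprime_one_left q)
    have h1 := Nat.Coprime.eq_one_of_dvd hco hdvd
    have : 1 < Fintype.card L := Fintype.one_lt_card
    omega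
  let e : K ≃+* L := FiniteField.ringEquivOfCardEq (hK.trans hLq.symm)
  have hbij : Function.Bijective φ := by
    refine (Nat.bijective_iff_injective_and_card φ).2 ⟨hφ, ?_⟩
    rw [hU', CfsgLib.Lie.Orders.card_SL_two hLq]
  let m : Matrix.SpecialLinearGroup (Fin 2) K ≃* Matrix.SpecialLinearGroup (Fin 2) L :=
    { toFun := Matrix.SpecialLinearGroup.map e.toRingHom
      invFun := Matrix.SpecialLinearGroup.map e.symm.toRingHom
      left_inv := fun A => by ext i j; simp
      right_inv := fun A => by ext i j; simp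
      map_mul' := map_mul _ }
  exact ⟨((MulEquiv.ofBijective φ hbij).symm.trans m.symm)⟩

end Cfsg.Agent.S0281
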