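import Cfsg.Statements.S0282
import Cfsg.Agent.Lie.Unitary
import Cfsg.Agent.Char.Burnside

set_option autoImplicit false
open Cfsg

namespace Cfsg.Agent.S0282

/-- PSU_3(2) is a solvable group of order 72. -/
theorem result {F : Type*} [Field F] [Fintype F] (hF : Fintype.card F = 4) : Nat.card (Cfsg.PSU 3 F 2) = 72 ∧ Group.IsSolvable (Cfsg.PSU 3 F 2) := by
  have h4 : Fintype.card F = 2 ^ 2 := hF
  have h := CfsgLib.Lie.Unitary.card_PSU (n := 3) h4 (by omega)
  rw [CfsgLib.Lie.Herm.card_GU h4 3] at h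
  simp [Finset.prod_range_succ, Nat.even_iff] at h
  have h72 : Nat.card (Cfsg.PSU 3 F 2) = 72 := by omega
  exact ⟨h72, CfsgLib.Char.solvable_of_card_two_primes 2 3 3 2 Nat.prime_two Nat.prime_three (by rw [h72]; norm_num)⟩

end Cfsg.Agent.S0282
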