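import Cfsg.Statements.S0292
import Cfsg.Agent.Lie.OrthPOrder
import Cfsg.Agent.Lie.OrthOrder2
import Cfsg.Agent.Lie.OrthStd
-- import your own Cfsg.Agent.* helpers here

set_option autoImplicit false
open Cfsg

namespace Cfsg.Agent.S0292

/-- 2 |PΩ_{2m+1}(q)| = q^(m^2) prod_{i=1}^{m} (q^(2i) - 1), for q odd and m at least 3 (type B_m). -/
theorem result {F : Type*} [Field F] [Fintype F] {q : ℕ} (hF : Fintype.card F = q) (hodd : Odd q) (m : ℕ) (hm : 3 ≤ m) : 2 * Nat.card (Cfsg.POmega F (Cfsg.quadFormOdd m F)) = q ^ (m ^ 2) * ∏ i ∈ Finset.range m, (q ^ (2 * (i + 1)) - 1) := by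
  have h2 := CfsgLib.Lie.OrthOrder.two_ne_zero_of_odd hF hodd
  have e : Cfsg.quadFormOdd m F = ⇑(CfsgLib.Lie.OrthStd.oddQ m F) := funext fun x => (CfsgLib.Lie.OrthStd.oddQ_apply m x).symm
  have hO := CfsgLib.Lie.OrthOrder.card_odd hF hodd m
  rw [e] at hO ⊢
  have hQ := CfsgLib.Lie.OrthStd.odd_nondeg (F := F) h2 m
  have h := CfsgLib.Lie.OrthPOrder.card_pomega (Q := CfsgLib.Lie.OrthStd.oddQ m F)
  have hn : CfsgLib.Lie.OrthForms.negI (CfsgLib.Lie.OrthStd.oddQ m F) ∉ Cfsg.Omega F ⇑(CfsgLib.Lie.OrthStd.oddQ m F) := by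
    intro hmem
    have hd : (-1 : Matrix (Unit ⊕ (Fin m ⊕ Fin m)) (Unit ⊕ (Fin m ⊕ Fin m)) F).det = 1 :=
      CfsgLib.Lie.OrthChar.det_omega hmem
    rw [Matrix.det_neg, Matrix.det_one, mul_one, (show Odd (Fintype.card (Unit ⊕ (Fin m ⊕ Fin m))) by
      simp).neg_one_pow] at hd
    exact h2 (by linear_combination -hd)
  rw [CfsgLib.Lie.OrthPOrder.card_center_one hQ (by simp; omega) (Or.inl hn),
    CfsgLib.Lie.OrthChar.omega_index h2 hQ (by simp; omega), hO, mul_one, mul_assoc 2] at h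
  omega

end Cfsg.Agent.S0292
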