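import Cfsg.Statements.S0293
import Cfsg.Agent.Lie.OrthPOrder
import Cfsg.Agent.Lie.OrthOrder2
-- import your own Cfsg.Agent.* helpers here

set_option autoImplicit false
open Cfsg

namespace Cfsg.Agent.S0293

/-- gcd(4, q^m - 1) |PΩ^+_{2m}(q)| = q^(m(m-1)) (q^m - 1) prod_{i=1}^{m-1} (q^(2i) - 1), m at least 4 (type D_m). -/
theorem result {F : Type*} [Field F] [Fintype F] {q : ℕ} (hF : Fintype.card F = q) (m : ℕ) (hm : 4 ≤ m) : Nat.gcd 4 (q ^ m - 1) * Nat.card (Cfsg.POmega F (Cfsg.quadFormPlus m F)) = q ^ (m * (m - 1)) * (q ^ m - 1) * ∏ i ∈ Finset.range (m - 1), (q ^ (2 * (i + 1)) - 1) := by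
  have e : Cfsg.quadFormPlus m F = ⇑(CfsgLib.Lie.OrthOrder.plusQ m F) := funext fun x => (CfsgLib.Lie.OrthOrder.plusQ_apply m x).symm
  have hO := CfsgLib.Lie.OrthOrder.card_plus hF m (by omega)
  rw [e] at hO ⊢
  have hQ := CfsgLib.Lie.OrthForms.plus_nondeg (F := F) m
  have hneg := fun hodd : Odd q => CfsgLib.Lie.OrthForms.negI_plus hF hodd m (by omega)
  have h := CfsgLib.Lie.OrthPOrder.card_pomega (Q := (CfsgLib.Lie.OrthOrder.plusQ m F))
  rw [hO, mul_assoc 2, mul_assoc 2] at h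
  have hn5 := hm
  haveI : Nonempty (Fin m ⊕ Fin m) := ⟨.inl ⟨0, by omega⟩⟩
  rcases Nat.even_or_odd q with hev | hodd
  · haveI : CharP F 2 := ringChar.of_eq (FiniteField.even_card_iff_char_two.2 (by rw [hF]; exact Nat.even_iff.1 hev))
    rw [CfsgLib.Lie.OrthPOrder.card_center_one hQ (by simp; omega) (Or.inr CharTwo.two_eq_zero),
      CfsgLib.Lie.OrthDickson.omega_index hQ (Or.inr (by simp; omega)), mul_one] at h
    have hq2 : q ^ m % 2 = 0 := Nat.even_iff.1 (Nat.even_pow.2 ⟨hev, by omega⟩)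
    have hpos : 0 < q ^ m := pow_pos (by rw [← hF]; exact Fintype.card_pos) _
    have hg : Nat.gcd 4 (q ^ m - 1) = 1 := by
      rw [show (4 : ℕ) = 2 ^ 2 by norm_num]
      refine Nat.Coprime.pow_left 2 ?_
      rw [Nat.prime_two.coprime_iff_not_dvd]
      omega
    rw [hg, one_mul]
    linarith [h]
  · have h2 := CfsgLib.Lie.OrthOrder.two_ne_zero_of_odd hF hodd
    rw [CfsgLib.Lie.OrthChar.omega_index h2 hQ (by simp; omega)] at h
    have hq2 : q ^ m % 2 = 1 := Nat.odd_iff.1 hodd.pow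
    by_cases h4 : q ^ m % 4 = 1
    · rw [CfsgLib.Lie.OrthPOrder.card_center_two hQ (by simp; omega) ((hneg hodd).2 h4) h2] at h
      have hg : Nat.gcd 4 (q ^ m - 1) = 4 := Nat.gcd_eq_left (by omega)
      rw [hg]
      linarith [h]
    · rw [CfsgLib.Lie.OrthPOrder.card_center_one hQ (by simp; omega) (Or.inl fun hh => h4 ((hneg hodd).1 hh))] at h
      have hg : Nat.gcd 4 (q ^ m - 1) = 2 := by
        rw [Nat.gcd_rec, show (q ^ m - 1) % 4 = 2 by omega]
        decide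
      rw [hg]
      linarith [h]

end Cfsg.Agent.S0293
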