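import Cfsg.Statements.S0296
import Cfsg.Agent.Lie.OrthStd
import Cfsg.Agent.Lie.OrthSimple

set_option autoImplicit false
open Cfsg

namespace Cfsg.Agent.S0296

/-- PΩ^+_{2m}(q) is simple for m at least 4. -/
theorem result {F : Type*} [Field F] [Fintype F] (m : ℕ) (hm : 4 ≤ m) : IsSimpleGroup (Cfsg.POmega F (Cfsg.quadFormPlus m F)) := by
  have e : Cfsg.quadFormPlus m F = ⇑(CfsgLib.Lie.OrthOrder.plusQ m F) := funext fun x => (CfsgLib.Lie.OrthOrder.plusQ_apply m x).symm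
  rw [e]
  exact CfsgLib.Lie.OrthSimple.simple (CfsgLib.Lie.OrthForms.plus_nondeg m) (by simp; omega)

end Cfsg.Agent.S0296
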