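import Cfsg.Statements.S0298
import Cfsg.Agent.Lie.SLn
import Cfsg.Agent.Lie.OrthOrder2
import Cfsg.Agent.Lie.DicksonCor
import Cfsg.Agent.Fus.PSL2Dihedral
import Cfsg.Agent.Base.Spectrum.PSLTwo
-- import your own Cfsg.Agent.* helpers here

set_option autoImplicit false
open Cfsg

namespace Cfsg.Agent.S0298

open Matrix
open scoped commutatorElement

/-- the three coordinates as a trace zero matrix -/
def toM {F : Type*} [Field F] (v : Unit ⊕ (Fin 1 ⊕ Fin 1) → F) : Matrix (Fin 2) (Fin 2) F :=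
  !![v (.inl ()), v (.inr (.inl 0)); v (.inr (.inr 0)), -v (.inl ())]

/-- coordinates of a matrix -/
def toV {F : Type*} [Field F] (X : Matrix (Fin 2) (Fin 2) F) : Unit ⊕ (Fin 1 ⊕ Fin 1) → F :=
  Sum.elim (fun _ => X 0 0) (Sum.elim (fun _ => X 0 1) (fun _ => X 1 0))

theorem toV_toM {F : Type*} [Field F] (v : Unit ⊕ (Fin 1 ⊕ Fin 1) → F) : toV (toM v) = v := by
  funext i
  rcases i with ⟨⟩ | i | i
  · rfl
  · rw [Subsingleton.elim i 0]; rfl
  · rw [Subsingleton.elim i 0]; rfl

theorem toM_toV {F : Type*} [Field F] {X : Matrix (Fin 2) (Fin 2) F} (h : X.trace = 0) : toM (toV X) = X := by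
  rw [Matrix.trace_fin_two] at h
  ext i j
  fin_cases i <;> fin_cases j <;> simp [toM, toV]
  linear_combination -h

/-- conjugation as a linear map -/
def conjLin {F : Type*} [Field F] (g : GL (Fin 2) F) :
    (Unit ⊕ (Fin 1 ⊕ Fin 1) → F) →ₗ[F] (Unit ⊕ (Fin 1 ⊕ Fin 1) → F) where
  toFun v := toV (g.1 * toM v * (g⁻¹).1)
  map_add' u v := by
    have h : toM (u + v) = toM u + toM v := by
      ext i j; fin_cases i <;> fin_cases j <;> simp [toM, add_comm]
    rw [h, mul_add, add_mul]
    funext i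
    rcases i with i | i | i <;> simp [toV]
  map_smul' c v := by
    have h : toM (c • v) = c • toM v := by
      ext i j; fin_cases i <;> fin_cases j <;> simp [toM]
    rw [h, mul_smul_comm, smul_mul_assoc]
    funext i
    rcases i with i | i | i <;> simp [toV]

theorem toM_conj {F : Type*} [Field F] (g : GL (Fin 2) F) (v : Unit ⊕ (Fin 1 ⊕ Fin 1) → F) :
    toM (toV (g.1 * toM v * (g⁻¹).1)) = g.1 * toM v * (g⁻¹).1 := by
  refine toM_toV ?_
  rw [Matrix.trace_mul_comm, ← mul_assoc, ← Units.val_mul, inv_mul_cancel, Units.val_one, one_mul,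
    Matrix.trace_fin_two]
  simp [toM]

/-- conjugation as a matrix -/
def conjMat {F : Type*} [Field F] : GL (Fin 2) F →* Matrix (Unit ⊕ (Fin 1 ⊕ Fin 1)) (Unit ⊕ (Fin 1 ⊕ Fin 1)) F where
  toFun g := LinearMap.toMatrix' (conjLin g)
  map_one' := by
    rw [← LinearMap.toMatrix'_one]
    congr 1
    refine LinearMap.ext fun v => ?_
    show toV ((1 : GL (Fin 2) F).1 * toM v * ((1 : GL (Fin 2) F)⁻¹).1) = v
    simp [toV_toM]
  map_mul' g h := by
    rw [← LinearMap.toMatrix'_mul]
    congr 1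
    refine LinearMap.ext fun v => ?_
    show toV ((g * h).1 * toM v * ((g * h)⁻¹).1) = toV (g.1 * toM (toV (h.1 * toM v * (h⁻¹).1)) * (g⁻¹).1)
    rw [toM_conj, _root_.mul_inv_rev, Units.val_mul, Units.val_mul]
    simp only [mul_assoc]

theorem conjMat_mulVec {F : Type*} [Field F] (g : GL (Fin 2) F) (v : Unit ⊕ (Fin 1 ⊕ Fin 1) → F) :
    conjMat g *ᵥ v = toV (g.1 * toM v * (g⁻¹).1) := LinearMap.toMatrix'_mulVec _ _

theorem form_toM {F : Type*} [Field F] (v : Unit ⊕ (Fin 1 ⊕ Fin 1) → F) :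
    Cfsg.quadFormOdd 1 F v = -(toM v).det := by
  simp [Cfsg.quadFormOdd, toM, Matrix.det_fin_two]
  ring

/-- the adjoint representation -/
def adj (F : Type*) [Field F] : GL (Fin 2) F →* Cfsg.isometryGroup F (Cfsg.quadFormOdd 1 F) :=
  (conjMat (F := F)).toHomUnits.codRestrict _ fun g => fun u _ => by
    show Cfsg.quadFormOdd 1 F (conjMat g *ᵥ u) = Cfsg.quadFormOdd 1 F u
    rw [conjMat_mulVec, form_toM, toM_conj, form_toM, Matrix.det_units_conj]

theorem adj_val {F : Type*} [Field F] (g : GL (Fin 2) F) :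
    ((adj F g : GL (Unit ⊕ (Fin 1 ⊕ Fin 1)) F) : Matrix _ _ F) = conjMat g := rfl

/-- elements acting as a sign are central -/
theorem adj_eq {F : Type*} [Field F] (g : GL (Fin 2) F) {s : F}
    (h : conjMat g = s • (1 : Matrix (Unit ⊕ (Fin 1 ⊕ Fin 1)) (Unit ⊕ (Fin 1 ⊕ Fin 1)) F)) (v : Unit ⊕ (Fin 1 ⊕ Fin 1) → F) :
    g.1 * toM v = s • (toM v * g.1) := by
  have h1 := conjMat_mulVec g v
  rw [h, Matrix.smul_mulVec, Matrix.one_mulVec] at h1
  have h2 : toM (s • v) = g.1 * toM v * (g⁻¹).1 := by rw [h1, toM_conj]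
  have h3 : toM (s • v) = s • toM v := by
    ext i j; fin_cases i <;> fin_cases j <;> simp [toM]
  have := congrArg (fun X => X * g.1) (h3.symm.trans h2)
  simp only [smul_mul_assoc, mul_assoc, ← Units.val_mul, inv_mul_cancel, Units.val_one, mul_one] at this
  exact this.symm

theorem center_PSL_bot {F : Type*} [Field F] [Fintype F] (h2 : (2 : F) ≠ 0)
    (z : Matrix.ProjectiveSpecialLinearGroup (Fin 2) F)
    (hz : ∀ x, x * z = z * x) : z = 1 := by
  obtain ⟨A, rfl⟩ := QuotientGroup.mk_surjective z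
  have hd : A.1 0 0 * A.1 1 1 - A.1 0 1 * A.1 1 0 = 1 := by rw [← Matrix.det_fin_two]; exact A.2
  have key : ∀ T : Matrix.SpecialLinearGroup (Fin 2) F, A.1 * T.1 = T.1 * A.1 ∨ A.1 * T.1 = -(T.1 * A.1) := by
    intro T
    have h := hz (QuotientGroup.mk T)
    rw [← QuotientGroup.mk_mul, ← QuotientGroup.mk_mul, QuotientGroup.eq] at h
    rcases CfsgLib.Fus.PSL2Two.mem_center_cases h with e | e
    · exact Or.inl (congrArg Subtype.val ((inv_mul_eq_one (G := Matrix.SpecialLinearGroup (Fin 2) F)).1 e)).symm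
    · refine Or.inr ?_
      have e' : A * T = -(T * A) := by
        rw [inv_mul_eq_iff_eq_mul] at e
        rw [e, mul_neg, mul_one]
      have := congrArg Subtype.val e'
      exact this.trans (SpecialLinearGroup.coe_neg _)
  refine (QuotientGroup.eq_one_iff _).2 (CfsgLib.PSLTwoSpec.mem_Z.2 ?_)
  obtain ⟨T, hT⟩ : ∃ T : Matrix.SpecialLinearGroup (Fin 2) F, T.1 = !![1, 1; 0, 1] :=
    ⟨⟨_, by simp [Matrix.det_fin_two]⟩, rfl⟩
  obtain ⟨L, hL⟩ : ∃ L : Matrix.SpecialLinearGroup (Fin 2) F, L.1 = !![1, 0; 1, 1] :=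
    ⟨⟨_, by simp [Matrix.det_fin_two]⟩, rfl⟩
  have neg : ∀ a : F, a = -a → a = 0 := fun a h =>
    (mul_eq_zero.1 (show (2 : F) * a = 0 by linear_combination h)).resolve_left h2
  have hc : A.1 1 0 = 0 ∧ A.1 0 0 = A.1 1 1 := by
    rcases key T with e | e
    · rw [hT] at e
      have e00 := congrFun (congrFun e 0) 0
      have e01 := congrFun (congrFun e 0) 1
      simp [Matrix.mul_apply, Fin.sum_univ_two, Matrix.vecMul, dotProduct] at e00 e01
      exact ⟨by first | exact e00 | exact e00.symm | linear_combination -e00 | linear_combination e00,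
        by linear_combination e01⟩
    · rw [hT] at e
      have e00 := congrFun (congrFun e 0) 0
      have e10 := congrFun (congrFun e 1) 0
      simp [Matrix.mul_apply, Fin.sum_univ_two, Matrix.vecMul, dotProduct] at e00 e10
      have hc0 : A.1 1 0 = 0 := neg _ (by linear_combination e10)
      have ha0 : A.1 0 0 = 0 := neg _ (by linear_combination e00 - hc0)
      rw [hc0, ha0, zero_mul, mul_zero, sub_zero] at hd
      exact absurd hd zero_ne_one
  have hb : A.1 0 1 = 0 := by
    rcases key L with e | e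
    · rw [hL] at e
      have e00 := congrFun (congrFun e 0) 0
      simp [Matrix.mul_apply, Fin.sum_univ_two, Matrix.vecMul, dotProduct] at e00
      first | exact e00 | exact e00.symm | linear_combination e00 | linear_combination -e00
    · rw [hL] at e
      have e01 := congrFun (congrFun e 0) 1
      simp [Matrix.mul_apply, Fin.sum_univ_two, Matrix.vecMul, dotProduct] at e01
      exact neg _ (by linear_combination e01)
  rw [hc.2, hb, hc.1, mul_zero, sub_zero] at hd
  rcases mul_self_eq_one_iff.1 hd with e | e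
  · left
    refine Subtype.ext (show A.1 = (1 : Matrix (Fin 2) (Fin 2) F) from ?_)
    ext i j; fin_cases i <;> fin_cases j <;> simp [hc.1, hc.2, hb, e]
  · right
    refine Subtype.ext (Eq.trans (show A.1 = -(1 : Matrix (Fin 2) (Fin 2) F) from ?_)
      ((SpecialLinearGroup.coe_neg (1 : Matrix.SpecialLinearGroup (Fin 2) F)).trans rfl).symm)
    ext i j; fin_cases i <;> fin_cases j <;> simp [hc.1, hc.2, hb, e]

/-- PΩ_3(q) is isomorphic to PSL_2(q) for q odd. -/
theorem result {F : Type*} [Field F] [Fintype F] (hodd : Odd (Fintype.card F)) : Nonempty (Cfsg.POmega F (Cfsg.quadFormOdd 1 F) ≃* Matrix.ProjectiveSpecialLinearGroup (Fin 2) F) := by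
  classical
  have h2 : (2 : F) ≠ 0 := CfsgLib.Lie.OrthOrder.two_ne_zero_of_odd rfl hodd
  have ho := Nat.odd_iff.1 hodd
  have hq3 : 3 ≤ Fintype.card F := by
    have := Fintype.one_lt_card (α := F)
    omega
  obtain ⟨vH, hvH⟩ : ∃ v : Unit ⊕ (Fin 1 ⊕ Fin 1) → F, toM v = !![1, 0; 0, -1] :=
    ⟨toV !![1, 0; 0, -1], toM_toV (by simp [Matrix.trace_fin_two])⟩
  obtain ⟨vE, hvE⟩ : ∃ v : Unit ⊕ (Fin 1 ⊕ Fin 1) → F, toM v = !![0, 1; 0, 0] :=
    ⟨toV !![0, 1; 0, 0], toM_toV (by simp [Matrix.trace_fin_two])⟩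
  obtain ⟨vL, hvL⟩ : ∃ v : Unit ⊕ (Fin 1 ⊕ Fin 1) → F, toM v = !![0, 0; 1, 0] :=
    ⟨toV !![0, 0; 1, 0], toM_toV (by simp [Matrix.trace_fin_two])⟩
  -- kernel
  have hker : ∀ g : GL (Fin 2) F, adj F g = 1 ↔ g ∈ (GeneralLinearGroup.scalar (Fin 2) : Fˣ →* GL (Fin 2) F).range := by
    intro g
    constructor
    · intro hg
      have hm : conjMat g = (1 : F) • (1 : Matrix (Unit ⊕ (Fin 1 ⊕ Fin 1)) (Unit ⊕ (Fin 1 ⊕ Fin 1)) F) := by
        rw [← adj_val, hg, one_smul]; rfl
      have a := adj_eq g hm vE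
      have b := adj_eq g hm vL
      rw [hvE, one_smul] at a
      rw [hvL, one_smul] at b
      have a00 := congrFun (congrFun a 0) 0
      have a01 := congrFun (congrFun a 0) 1
      have b00 := congrFun (congrFun b 0) 0
      simp [Matrix.mul_apply, Fin.sum_univ_two, Matrix.vecMul, dotProduct] at a00 a01 b00
      have hdet := g.det_ne_zero
      rw [Matrix.det_fin_two] at hdet
      have h00 : g.1 0 0 ≠ 0 := by
        intro e
        rw [a01] at e
        rw [a01, e, b00] at hdet
        simp at hdet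
      refine ⟨Units.mk0 _ h00, Units.ext ?_⟩
      ext i j
      fin_cases i <;> fin_cases j <;>
        simp [GeneralLinearGroup.coe_scalar, Matrix.scalar_apply, a00, a01, b00] <;> simp [← a01]
    · rintro ⟨c, rfl⟩
      refine Subtype.ext (Units.ext ?_)
      rw [adj_val]
      refine Matrix.ext_of_mulVec_single fun i => ?_
      rw [conjMat_mulVec]
      show _ = (1 : Matrix (Unit ⊕ (Fin 1 ⊕ Fin 1)) (Unit ⊕ (Fin 1 ⊕ Fin 1)) F) *ᵥ _
      rw [Matrix.one_mulVec]
      refine (congrArg toV ?_).trans (toV_toM _)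
      have hs : ∀ d : Fˣ, (GeneralLinearGroup.scalar (Fin 2) d : GL (Fin 2) F).1 = (d : F) • (1 : Matrix (Fin 2) (Fin 2) F) := fun d => by
        ext a b
        fin_cases a <;> fin_cases b <;> simp [GeneralLinearGroup.coe_scalar, Matrix.scalar_apply]
      rw [← map_inv, hs, hs, smul_mul_assoc, one_mul, mul_smul_comm, mul_one, smul_smul, ← Units.val_mul,
        inv_mul_cancel, Units.val_one, one_smul]
  -- minus the identity
  obtain ⟨N, hN⟩ : ∃ N : Cfsg.isometryGroup F (Cfsg.quadFormOdd 1 F), ((N : GL (Unit ⊕ (Fin 1 ⊕ Fin 1)) F) :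
      Matrix (Unit ⊕ (Fin 1 ⊕ Fin 1)) (Unit ⊕ (Fin 1 ⊕ Fin 1)) F) = -1 :=
    ⟨⟨-1, fun u _ => by
      show Cfsg.quadFormOdd 1 F ((-1 : Matrix _ _ F) *ᵥ u) = Cfsg.quadFormOdd 1 F u
      rw [Matrix.neg_mulVec, Matrix.one_mulVec]
      simp [Cfsg.quadFormOdd]⟩, rfl⟩
  have hNne : N ∉ (adj F).range := by
    rintro ⟨g, hg⟩
    have hm : conjMat g = (-1 : F) • (1 : Matrix (Unit ⊕ (Fin 1 ⊕ Fin 1)) (Unit ⊕ (Fin 1 ⊕ Fin 1)) F) := by
      rw [← adj_val, hg, hN, neg_one_smul]
    have a := adj_eq g hm vH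
    have b := adj_eq g hm vE
    rw [hvH] at a
    rw [hvE] at b
    have a00 := congrFun (congrFun a 0) 0
    have a11 := congrFun (congrFun a 1) 1
    have b01 := congrFun (congrFun b 0) 1
    have b00 := congrFun (congrFun b 0) 0
    simp [Matrix.mul_apply, Fin.sum_univ_two, Matrix.vecMul, dotProduct] at a00 a11 b01 b00
    have hdet := g.det_ne_zero
    rw [Matrix.det_fin_two] at hdet
    have h00 : g.1 0 0 = 0 := (mul_eq_zero.1 (show (2 : F) * g.1 0 0 = 0 by linear_combination a00)).resolve_left h2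
    rw [h00, b00] at hdet
    simp at hdet
  -- orders
  have hcr : Nat.card (adj F).range * 1 = Fintype.card F * (Fintype.card F ^ 2 - 1) := by
    have hk : Nat.card (adj F).ker = Fintype.card F - 1 := by
      rw [show (adj F).ker = (GeneralLinearGroup.scalar (Fin 2) : Fˣ →* GL (Fin 2) F).range from Subgroup.ext hker,
        ← Nat.card_congr (MonoidHom.ofInjective (f := (GeneralLinearGroup.scalar (Fin 2) : Fˣ →* GL (Fin 2) F))
          (fun a b h => Units.ext (by
            simpa [GeneralLinearGroup.coe_scalar] using congrArg (fun M : GL (Fin 2) F => M.1 0 0) h))).toEquiv,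
        Nat.card_units, Nat.card_eq_fintype_card]
    have h := (adj F).ker.card_mul_index
    rw [Subgroup.index_ker, hk, Matrix.card_GL_field, Fin.prod_univ_two] at h
    rw [mul_one]
    refine Nat.eq_of_mul_eq_mul_left (show 0 < Fintype.card F - 1 by omega) (h.trans ?_)
    simp only [Fin.val_zero, Fin.val_one, pow_zero, pow_one]
    rw [show Fintype.card F ^ 2 - Fintype.card F = (Fintype.card F - 1) * Fintype.card F by
      rw [Nat.sub_one_mul, pow_two]]
    ring
  have hO := CfsgLib.Lie.OrthOrder.card_odd (F := F) rfl hodd 1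
  simp only [one_pow, pow_one, Finset.prod_range_one, zero_add, mul_one] at hO
  haveI : Finite (Cfsg.isometryGroup F (Cfsg.quadFormOdd 1 F)) := inferInstance
  have hNc : ∀ x : Cfsg.isometryGroup F (Cfsg.quadFormOdd 1 F), N * x = x * N := fun x => Subtype.ext (Units.ext (by
    simp only [Subgroup.coe_mul, Units.val_mul, hN, neg_one_mul, mul_neg, mul_one]))
  have hall : ∀ x : Cfsg.isometryGroup F (Cfsg.quadFormOdd 1 F), ∃ b : Bool, ∃ r ∈ (adj F).range,
      x = (if b then N else 1) * r := by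
    have hbij : Function.Bijective (fun br : Bool × (adj F).range =>
        (if br.1 then N else 1) * (br.2 : Cfsg.isometryGroup F (Cfsg.quadFormOdd 1 F))) := by
      refine (Nat.bijective_iff_injective_and_card _).2 ⟨?_, ?_⟩
      · rintro ⟨b, r⟩ ⟨c, s⟩ e
        rcases b <;> rcases c <;> simp at e
        · rw [e]
        · exact absurd ((Subgroup.mul_mem_cancel_right _ s.2).1 (e ▸ r.2)) hNne
        · exact absurd ((Subgroup.mul_mem_cancel_right _ r.2).1 (e.symm ▸ s.2)) hNne
        · rw [e]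
      · rw [Nat.card_prod, Nat.card_eq_fintype_card (α := Bool), Fintype.card_bool, hO]
        rw [mul_one] at hcr
        rw [hcr, mul_assoc]
    intro x
    obtain ⟨⟨b, r⟩, h⟩ := hbij.2 x
    exact ⟨b, r, r.2, h.symm⟩
  -- the commutator subgroup
  obtain ⟨ψ, hψ⟩ : ∃ ψ, ψ = (adj F).comp (SpecialLinearGroup.toGL : Matrix.SpecialLinearGroup (Fin 2) F →* GL (Fin 2) F) :=
    ⟨_, rfl⟩
  have hcomm : commutator (GL (Fin 2) F) = (Matrix.GeneralLinearGroup.det : GL (Fin 2) F →* Fˣ).ker :=
    CfsgLib.Lie.SLn.commutator_GL fun _ => by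
      by_contra hc
      push Not at hc
      have hle := Finset.card_le_card (show (Finset.univ : Finset F) ⊆ {0, 1} from fun a _ => by
        rcases eq_or_ne a 0 with h | h
        · simp [h]
        · simp [hc a h])
      rw [Finset.card_univ] at hle
      have := Finset.card_le_two (a := (0 : F)) (b := 1)
      omega
  have hΩ : Cfsg.Omega F (Cfsg.quadFormOdd 1 F) = ψ.range := by
    apply le_antisymm
    · rw [Cfsg.Omega, commutator_def, Subgroup.commutator_le]
      intro x _ y _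
      obtain ⟨b, r, ⟨g, rfl⟩, rfl⟩ := hall x
      obtain ⟨c, s, ⟨k, rfl⟩, rfl⟩ := hall y
      have e : ⁅(if b then N else 1) * adj F g, (if c then N else 1) * adj F k⁆ = adj F ⁅g, k⁆ := by
        have key : ∀ z : Cfsg.isometryGroup F (Cfsg.quadFormOdd 1 F), (∀ w, z * w = w * z) →
            ∀ u w, ⁅z * u, w⁆ = ⁅u, w⁆ ∧ ⁅u, z * w⁆ = ⁅u, w⁆ := by
          intro z hz u w
          have hzi : ∀ w, z⁻¹ * w = w * z⁻¹ := fun w => by
            rw [inv_mul_eq_iff_eq_mul, ← mul_assoc, hz, mul_inv_cancel_right]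
          constructor
          · rw [commutatorElement_def, commutatorElement_def, _root_.mul_inv_rev,
              show z * u * w * (u⁻¹ * z⁻¹) * w⁻¹ = z * u * w * u⁻¹ * (z⁻¹ * w⁻¹) by group, hzi,
              show z * u * w * u⁻¹ * (w⁻¹ * z⁻¹) = z * (u * w * u⁻¹ * w⁻¹) * z⁻¹ by group,
              hz, mul_inv_cancel_right]
          · rw [commutatorElement_def, commutatorElement_def, _root_.mul_inv_rev, ← mul_assoc u z, ← hz u,
              show z * u * w * u⁻¹ * (w⁻¹ * z⁻¹) = z * (u * w * u⁻¹ * w⁻¹) * z⁻¹ by group,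
              hz, mul_inv_cancel_right]
        have hz : ∀ d : Bool, ∀ w, (if d then N else 1) * w = w * (if d then N else 1) := by
          intro d w
          cases d
          · simp
          · simpa using hNc w
        rw [(key _ (hz b) _ _).1, (key _ (hz c) _ _).2, map_commutatorElement]
      rw [e]
      have hd : ⁅g, k⁆ ∈ (Matrix.GeneralLinearGroup.det : GL (Fin 2) F →* Fˣ).ker :=
        hcomm ▸ Subgroup.commutator_mem_commutator (Subgroup.mem_top g) (Subgroup.mem_top k)
      have hd' : (⁅g, k⁆ : GL (Fin 2) F).1.det = 1 := congrArg Units.val (MonoidHom.mem_ker.1 hd)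
      obtain ⟨A, hA⟩ : ∃ A : Matrix.SpecialLinearGroup (Fin 2) F, A.1 = (⁅g, k⁆ : GL (Fin 2) F).1 := ⟨⟨_, hd'⟩, rfl⟩
      exact ⟨A, by rw [hψ, MonoidHom.comp_apply]; congr 1; exact Units.ext hA⟩
    · rintro _ ⟨A, rfl⟩
      have hA : SpecialLinearGroup.toGL A ∈ commutator (GL (Fin 2) F) := by
        rw [hcomm, MonoidHom.mem_ker]; exact Units.ext A.2
      have h := Subgroup.mem_map_of_mem (adj F) hA
      rw [commutator_def, Subgroup.map_commutator] at h
      rw [hψ]
      exact Subgroup.commutator_mono le_top le_top h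
  have hkψ : ψ.ker = Subgroup.center (Matrix.SpecialLinearGroup (Fin 2) F) := by
    ext A
    rw [hψ, MonoidHom.mem_ker, MonoidHom.comp_apply, hker, CfsgLib.PSLTwoSpec.mem_Z]
    constructor
    · rintro ⟨c, hc⟩
      have hA : A.1 = !![(c : F), 0; 0, (c : F)] := by
        rw [show A.1 = (SpecialLinearGroup.toGL A : GL (Fin 2) F).1 from rfl, ← hc]
        ext i j; fin_cases i <;> fin_cases j <;> simp [GeneralLinearGroup.coe_scalar, Matrix.scalar_apply]
      have hd := A.2
      rw [hA, Matrix.det_fin_two_of, mul_zero, sub_zero] at hd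
      rcases mul_self_eq_one_iff.1 hd with e | e
      · left
        refine Subtype.ext (hA.trans ?_)
        rw [e]; exact Matrix.one_fin_two.symm
      · right
        refine Subtype.ext (hA.trans (Eq.trans ?_
          ((SpecialLinearGroup.coe_neg (1 : Matrix.SpecialLinearGroup (Fin 2) F)).trans rfl).symm))
        rw [e]
        ext i j; fin_cases i <;> fin_cases j <;> simp
    · rintro (rfl | rfl)
      · exact ⟨1, by rw [map_one, map_one]⟩
      · refine ⟨-1, Units.ext ?_⟩
        show _ = ((-1 : Matrix.SpecialLinearGroup (Fin 2) F) : Matrix (Fin 2) (Fin 2) F)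
        rw [SpecialLinearGroup.coe_neg]
        ext i j; fin_cases i <;> fin_cases j <;> simp [GeneralLinearGroup.coe_scalar, Matrix.scalar_apply]
  let e : Cfsg.Omega F (Cfsg.quadFormOdd 1 F) ≃* Matrix.ProjectiveSpecialLinearGroup (Fin 2) F :=
    (MulEquiv.subgroupCongr hΩ).trans ((QuotientGroup.quotientKerEquivRange ψ).symm.trans
      (QuotientGroup.quotientMulEquivOfEq hkψ))
  have hbot : Subgroup.center (Cfsg.Omega F (Cfsg.quadFormOdd 1 F)) = ⊥ := by
    rw [Subgroup.eq_bot_iff_forall]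
    intro z hz
    refine e.injective ?_
    rw [map_one]
    refine center_PSL_bot h2 _ fun x => ?_
    obtain ⟨y, rfl⟩ := e.surjective x
    rw [← map_mul, ← map_mul, Subgroup.mem_center_iff.1 hz y]
  exact ⟨((QuotientGroup.quotientMulEquivOfEq hbot).trans QuotientGroup.quotientBot).trans e⟩

end Cfsg.Agent.S0298
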