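import Cfsg.Statements.S0300
import Cfsg.Agent.Lie.OrthFourMinus
import Cfsg.Agent.Perm.PrimePSLField
import Mathlib.FieldTheory.Finite.GaloisField

set_option autoImplicit false
open Cfsg

namespace Cfsg.Agent.S0300

/-- PΩ^-_4(q) is isomorphic to PSL_2(q^2). -/
theorem result {F K : Type*} [Field F] [Fintype F] [Field K] [Fintype K] {q : ℕ} (hF : Fintype.card F = q) (hK : Fintype.card K = q ^ 2) (a b : F) (hab : ∀ z₁ z₂ : F, z₁ ^ 2 + a * z₁ * z₂ + b * z₂ ^ 2 = 0 → z₁ = 0 ∧ z₂ = 0) : Nonempty (Cfsg.POmega F (Cfsg.quadFormMinus 1 F a b) ≃* Matrix.ProjectiveSpecialLinearGroup (Fin 2) K) := by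
  classical
  haveI : Fact (∀ r : F, r ^ 2 ≠ -b + a * r) := ⟨fun r hr => by
    have h := (hab r (-1) (by linear_combination hr)).2
    simp at h⟩
  haveI : Fintype (CfsgLib.Lie.OrthFourMinus.E a b) :=
    Fintype.ofEquiv _ (QuadraticAlgebra.equivProd (-b) a).symm
  have hE : Fintype.card (CfsgLib.Lie.OrthFourMinus.E a b) = Fintype.card K := by
    rw [Fintype.card_congr (QuadraticAlgebra.equivProd (-b) a), Fintype.card_prod, hF, hK, pow_two]
  rw [← show ⇑(CfsgLib.Lie.OrthForms.minusQ 1 a b) = Cfsg.quadFormMinus 1 F a b from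
    funext fun v => CfsgLib.Lie.OrthForms.minusQ_apply 1 v]
  obtain ⟨e⟩ := CfsgLib.Lie.OrthFourMinus.pomega_iso (F := F) (a := a) (b := b)
  obtain ⟨c⟩ := CfsgLib.Perm.PrimePSL.psl_congr (FiniteField.ringEquivOfCardEq hE)
  exact ⟨e.trans c⟩

end Cfsg.Agent.S0300
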