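import Cfsg.Statements.S0301
import Cfsg.Agent.Lie.KleinSp

set_option autoImplicit false
open Cfsg

namespace Cfsg.Agent.S0301

/-- PΩ_5(q) is isomorphic to PSp_4(q) for q odd. -/
theorem result {F : Type*} [Field F] [Fintype F] (hodd : Odd (Fintype.card F)) : Nonempty (Cfsg.POmega F (Cfsg.quadFormOdd 2 F) ≃* Cfsg.PSp 2 F) := by
  classical
  rw [← show ⇑(CfsgLib.Lie.OrthStd.oddQ 2 F) = Cfsg.quadFormOdd 2 F from
    funext fun v => CfsgLib.Lie.OrthStd.oddQ_apply 2 v]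
  exact CfsgLib.Lie.KleinSp.pomega_iso hodd

end Cfsg.Agent.S0301
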