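import Cfsg.Statements.S0302
import Cfsg.Agent.Lie.Klein

set_option autoImplicit false
open Cfsg

namespace Cfsg.Agent.S0302

/-- PΩ^+_6(q) is isomorphic to PSL_4(q). -/
theorem result {F : Type*} [Field F] [Fintype F] : Nonempty (Cfsg.POmega F (Cfsg.quadFormPlus 3 F) ≃* Matrix.ProjectiveSpecialLinearGroup (Fin 4) F) := by
  classical
  rw [← show ⇑(CfsgLib.Lie.OrthOrder.plusQ 3 F) = Cfsg.quadFormPlus 3 F from
    funext fun v => CfsgLib.Lie.OrthOrder.plusQ_apply 3 v]
  exact CfsgLib.Lie.Klein.pomega_iso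

end Cfsg.Agent.S0302
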