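import Cfsg.Statements.S0304
import Cfsg.Agent.Lie.Sp
import Cfsg.Agent.Lie.OrthFamilies

set_option maxHeartbeats 800000
-- import your own Cfsg.Agent.* helpers here

set_option autoImplicit false
open Cfsg

namespace Cfsg.Agent.S0304

section

open Matrix CfsgLib.Lie

variable {F : Type*} [Field F] [CharP F 2] {m : ℕ}

theorem qf (v : Unit ⊕ (Fin m ⊕ Fin m) → F) :
    Cfsg.quadFormOdd m F v = v (.inl ()) ^ 2 + OrthOrder.plusQ m F (v ∘ Sum.inr) := by
  simp [Cfsg.quadFormOdd, OrthOrder.plusQ_apply, Cfsg.quadFormPlus]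

theorem polar_bf (u w : Fin m ⊕ Fin m → F) :
    QuadraticMap.polar ⇑(OrthOrder.plusQ m F) u w = Sp.bf m F u w := by
  rw [OrthOrder.polar_plus, Sp.bf_apply]
  refine Finset.sum_congr rfl fun i _ => ?_
  linear_combination (u (.inl i) * w (.inr i)) * (CharTwo.two_eq_zero (R := F))

/-- the underlying matrix -/
abbrev mat (g : Cfsg.isometryGroup F (Cfsg.quadFormOdd m F)) :
    Matrix (Unit ⊕ (Fin m ⊕ Fin m)) (Unit ⊕ (Fin m ⊕ Fin m)) F := g.1.1

theorem col (g : Cfsg.isometryGroup F (Cfsg.quadFormOdd m F)) :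
    (mat g) *ᵥ Pi.single (Sum.inl ()) (1 : F) =
      Pi.single (Sum.inl ()) 1 := by
  set M := ((g : GL (Unit ⊕ (Fin m ⊕ Fin m)) F) : Matrix (Unit ⊕ (Fin m ⊕ Fin m)) (Unit ⊕ (Fin m ⊕ Fin m)) F) with hM
  have hq : ∀ v, Cfsg.quadFormOdd m F (M *ᵥ v) = Cfsg.quadFormOdd m F v := fun v => g.2 v v
  set r : Unit ⊕ (Fin m ⊕ Fin m) → F := Pi.single (Sum.inl ()) 1 with hr
  have hr0 : r ∘ Sum.inr = 0 := by funext i; simp [hr]
  have hr1 : r (.inl ()) = 1 := by simp [hr]
  set p := (M *ᵥ r) ∘ Sum.inr with hp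
  have hpol : ∀ w, QuadraticMap.polar ⇑(OrthOrder.plusQ m F) p w = 0 := by
    intro w
    obtain ⟨x, hx⟩ : ∃ x, M *ᵥ x = Sum.elim (fun _ => (0 : F)) w :=
      ⟨((g⁻¹ : Cfsg.isometryGroup F (Cfsg.quadFormOdd m F)) : GL (Unit ⊕ (Fin m ⊕ Fin m)) F).1 *ᵥ Sum.elim (fun _ => (0 : F)) w, by
        rw [hM, Matrix.mulVec_mulVec, ← Units.val_mul, ← Subgroup.coe_mul, mul_inv_cancel]
        simp⟩
    have h3 : Cfsg.quadFormOdd m F (M *ᵥ r + M *ᵥ x) = Cfsg.quadFormOdd m F (r + x) := by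
      rw [← Matrix.mulVec_add, hq]
    have h4 := hq r
    have h5 := hq x
    have e1 : (M *ᵥ r + M *ᵥ x) ∘ Sum.inr = p + w := by
      funext i; simp [hp, hx]
    have e2 : (r + x) ∘ Sum.inr = x ∘ Sum.inr := by funext i; simp [hr]
    have e3 : (M *ᵥ x) ∘ Sum.inr = w := by rw [hx]; rfl
    rw [qf, qf, e1, e2, Pi.add_apply, Pi.add_apply, hr1] at h3
    rw [qf, qf, hr0, hr1, QuadraticMap.map_zero, ← hp] at h4
    rw [qf, qf, e3] at h5
    rw [QuadraticMap.polar]
    linear_combination h3 - h4 - h5 +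
      (x (.inl ()) - (M *ᵥ r) (.inl ()) * (M *ᵥ x) (.inl ())) * (CharTwo.two_eq_zero (R := F))
  have hp0 : p = 0 := (OrthFamilies.plus_nondeg' m).1 p hpol
  have h4 := hq r
  rw [qf, qf, hr0, hr1, ← hp, hp0, QuadraticMap.map_zero, add_zero] at h4
  funext i
  rcases i with i | i
  · cases i
    rw [hr1]
    refine frobenius_inj F 2 ?_
    show (M *ᵥ r) (Sum.inl ()) ^ 2 = 1 ^ 2
    linear_combination h4
  · rw [show r (Sum.inr i) = 0 from congrFun hr0 i]
    exact congrFun hp0 i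

theorem blocks (g : Cfsg.isometryGroup F (Cfsg.quadFormOdd m F)) :
    (mat g).toBlocks₂₁ = 0 ∧
      (mat g).toBlocks₁₁ = 1 := by
  have h := col g
  constructor
  · ext i j
    cases j
    simpa [Matrix.toBlocks₂₁] using congrFun h (Sum.inr i)
  · ext i j
    cases i; cases j
    simpa [Matrix.toBlocks₁₁] using congrFun h (Sum.inl ())

theorem act_block (g : Cfsg.isometryGroup F (Cfsg.quadFormOdd m F)) (w : Fin m ⊕ Fin m → F) :
    ((mat g).toBlocks₁₂ *ᵥ w) () ^ 2 +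
      OrthOrder.plusQ m F ((mat g).toBlocks₂₂ *ᵥ w) =
      OrthOrder.plusQ m F w := by
  have h : Cfsg.quadFormOdd m F ((mat g) *ᵥ Sum.elim 0 w) =
      Cfsg.quadFormOdd m F (Sum.elim 0 w) := g.2 _ (Sum.elim 0 w)
  rw [← Matrix.fromBlocks_toBlocks (mat g),
    Matrix.fromBlocks_mulVec, qf, qf] at h
  simpa [(blocks g).1] using h

theorem sp_mem (g : Cfsg.isometryGroup F (Cfsg.quadFormOdd m F)) :
    (mat g).toBlocks₂₂ ∈ Matrix.symplecticGroup (Fin m) F := by
  rw [Sp.mem_iff_bf]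
  intro u v
  rw [← polar_bf, ← polar_bf]
  have h1 := act_block g (u + v)
  have h2 := act_block g u
  have h3 := act_block g v
  rw [Matrix.mulVec_add, Matrix.mulVec_add, Pi.add_apply] at h1
  rw [QuadraticMap.polar, QuadraticMap.polar]
  linear_combination h1 - h2 - h3 -
    ((mat g).toBlocks₁₂ *ᵥ u) () *
      ((mat g).toBlocks₁₂ *ᵥ v) () * (CharTwo.two_eq_zero (R := F))

/-- projection to the symplectic group -/
def toSp : Cfsg.isometryGroup F (Cfsg.quadFormOdd m F) →* Matrix.symplecticGroup (Fin m) F :=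
  MonoidHom.mk' (fun g => ⟨_, sp_mem g⟩) (fun g h => Subtype.ext (by
    show (mat g * mat h).toBlocks₂₂ = (mat g).toBlocks₂₂ * (mat h).toBlocks₂₂
    conv_lhs => rw [← Matrix.fromBlocks_toBlocks (mat g), ← Matrix.fromBlocks_toBlocks (mat h),
      Matrix.fromBlocks_multiply, Matrix.toBlocks_fromBlocks₂₂]
    simp [(blocks g).1]))

theorem toSp_inj : Function.Injective (toSp (F := F) (m := m)) := by
  rw [injective_iff_map_eq_one]
  intro g hg
  have hA : (mat g).toBlocks₂₂ = 1 := congrArg Subtype.val hg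
  have hL : (mat g).toBlocks₁₂ = 0 := by
    refine Matrix.ext_iff_mulVec.mpr fun w => funext fun i => ?_
    have h := act_block g w
    rw [hA, Matrix.one_mulVec] at h
    cases i
    simpa using pow_eq_zero_iff (n := 2) two_ne_zero |>.1
      (show ((mat g).toBlocks₁₂ *ᵥ w) () ^ 2 = 0 by
        linear_combination h)
  refine Subtype.ext (Units.ext ?_)
  show mat g = 1
  rw [← Matrix.fromBlocks_toBlocks (mat g), (blocks g).1,
    (blocks g).2, hA, hL, Matrix.fromBlocks_one]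

theorem toSp_surj [Fintype F] : Function.Surjective (toSp (F := F) (m := m)) := by
  intro A
  choose l hl using fun j : Fin m ⊕ Fin m => FiniteField.isSquare_of_char_two (ringChar.eq F 2)
    (OrthOrder.plusQ m F ((A : Matrix (Fin m ⊕ Fin m) (Fin m ⊕ Fin m) F) *ᵥ Pi.single j 1))
  let L : Matrix Unit (Fin m ⊕ Fin m) F := Matrix.of fun _ j => l j
  have key : ∀ w, (L *ᵥ w) () ^ 2 + OrthOrder.plusQ m F ((A : Matrix (Fin m ⊕ Fin m) (Fin m ⊕ Fin m) F) *ᵥ w) =
      OrthOrder.plusQ m F w := by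
    let D : (Fin m ⊕ Fin m → F) → F := fun w => (L *ᵥ w) () ^ 2 +
      OrthOrder.plusQ m F ((A : Matrix (Fin m ⊕ Fin m) (Fin m ⊕ Fin m) F) *ᵥ w) - OrthOrder.plusQ m F w
    have hadd : ∀ u v, D (u + v) = D u + D v := fun u v => by
      have hb : QuadraticMap.polar ⇑(OrthOrder.plusQ m F) ((A : Matrix (Fin m ⊕ Fin m) (Fin m ⊕ Fin m) F) *ᵥ u)
          ((A : Matrix (Fin m ⊕ Fin m) (Fin m ⊕ Fin m) F) *ᵥ v) = QuadraticMap.polar ⇑(OrthOrder.plusQ m F) u v := by
        rw [polar_bf, polar_bf, Sp.mem_iff_bf.1 A.2]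
      simp only [D, Matrix.mulVec_add, Pi.add_apply, QuadraticMap.polar] at hb ⊢
      linear_combination hb + ((L *ᵥ u) () * (L *ᵥ v) ()) * (CharTwo.two_eq_zero (R := F))
    have hsmul : ∀ (s : F) u, D (s • u) = s * s * D u := fun s u => by
      simp only [D, Matrix.mulVec_smul, Pi.smul_apply, QuadraticMap.map_smul, smul_eq_mul]
      ring
    have hone : ∀ j, D (Pi.single j 1) = 0 := fun j => by
      have h0 : OrthOrder.plusQ m F (Pi.single j (1 : F)) = 0 := by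
        rw [OrthOrder.plusQ_apply, Cfsg.quadFormPlus]
        refine Finset.sum_eq_zero fun i _ => ?_
        rcases j with j | j <;> simp
      simp only [D, h0, sub_zero]
      rw [hl j]
      simp only [L, Matrix.mulVec_single_one, Matrix.col_apply, Matrix.of_apply]
      linear_combination (l j * l j) * (CharTwo.two_eq_zero (R := F))
    intro w
    refine sub_eq_zero.1 (show D w = 0 from ?_)
    let Dh : (Fin m ⊕ Fin m → F) →+ F := AddMonoidHom.mk' D hadd
    show Dh w = 0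
    conv_lhs => rw [pi_eq_sum_univ' w]
    rw [map_sum]
    refine Finset.sum_eq_zero fun j _ => ?_
    show D _ = 0
    rw [hsmul, hone, mul_zero]
  have hu : IsUnit (Matrix.fromBlocks (1 : Matrix Unit Unit F) L 0 (A : Matrix (Fin m ⊕ Fin m) (Fin m ⊕ Fin m) F)) := by
    rw [Matrix.isUnit_iff_isUnit_det, Matrix.det_fromBlocks_zero₂₁, Matrix.det_one, one_mul]
    exact SymplecticGroup.symplectic_det A.2
  refine ⟨⟨hu.unit, fun v _ => ?_⟩, Subtype.ext ?_⟩
  · show Cfsg.quadFormOdd m F (Matrix.fromBlocks (1 : Matrix Unit Unit F) L 0 (A : Matrix (Fin m ⊕ Fin m) (Fin m ⊕ Fin m) F) *ᵥ v) = Cfsg.quadFormOdd m F v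
    rw [Matrix.fromBlocks_mulVec, qf, qf]
    simp only [Sum.elim_inl, Sum.elim_comp_inr, Matrix.one_mulVec, Matrix.zero_mulVec, zero_add,
      Pi.add_apply, Function.comp_apply]
    linear_combination key (v ∘ Sum.inr) + (v (.inl ()) * (L *ᵥ (v ∘ Sum.inr)) ()) * (CharTwo.two_eq_zero (R := F))
  · show (Matrix.fromBlocks (1 : Matrix Unit Unit F) L 0 (A : Matrix (Fin m ⊕ Fin m) (Fin m ⊕ Fin m) F)).toBlocks₂₂ = A
    rw [Matrix.toBlocks_fromBlocks₂₂]

end

/-- In characteristic 2, O_{2m+1}(q) is isomorphic to Sp_{2m}(q). -/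
theorem result {F : Type*} [Field F] [Fintype F] [CharP F 2] (m : ℕ) : Nonempty (Cfsg.isometryGroup F (Cfsg.quadFormOdd m F) ≃* Matrix.symplecticGroup (Fin m) F) := by
  exact ⟨MulEquiv.ofBijective toSp ⟨toSp_inj, toSp_surj⟩⟩

end Cfsg.Agent.S0304
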