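import Cfsg.Statements.S0305
import Cfsg.Agent.Lie.DihedralIso
-- import your own Cfsg.Agent.* helpers here

set_option autoImplicit false
open Cfsg

namespace Cfsg.Agent.S0305

section

open Matrix

variable (F : Type*) [Field F]

/-- `diag (u, u⁻¹)` -/
def dg (u : Fˣ) : Matrix (Fin 1 ⊕ Fin 1) (Fin 1 ⊕ Fin 1) F :=
  Matrix.diagonal (Sum.elim (fun _ => (u : F)) (fun _ => ((u⁻¹ : Fˣ) : F)))

/-- the diagonal torus -/
def dgHom : Fˣ →* Cfsg.isometryGroup F (Cfsg.quadFormPlus 1 F) :=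
  MonoidHom.codRestrict
    (MonoidHom.toHomUnits
      { toFun := dg F
        map_one' := by
          rw [dg, ← Matrix.diagonal_one]
          congr 1
          funext i
          rcases i with i | i <;> simp
        map_mul' := fun u v => by
          rw [dg, dg, dg, Matrix.diagonal_mul_diagonal]
          congr 1
          funext i
          rcases i with i | i <;> simp [mul_comm] })
    _ (fun u w _ => by
      simp [Cfsg.quadFormPlus, dg, Matrix.mulVec_diagonal]
      field_simp)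

/-- the swap -/
def swp : Matrix (Fin 1 ⊕ Fin 1) (Fin 1 ⊕ Fin 1) F :=
  Matrix.of fun i j => if i.swap = j then 1 else 0

theorem swp_mulVec (w : Fin 1 ⊕ Fin 1 → F) (i : Fin 1 ⊕ Fin 1) :
    (swp F *ᵥ w) i = w i.swap := by
  simp [swp, mulVec, dotProduct]

theorem swp_sq : swp F * swp F = 1 := by
  refine Matrix.ext_iff_mulVec.mpr fun w => ?_
  funext i
  rw [← mulVec_mulVec, swp_mulVec, swp_mulVec, one_mulVec, Sum.swap_swap]

end

/-- GO^+_2(q) is dihedral of order 2(q-1). -/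
theorem result {F : Type*} [Field F] [Fintype F] {q : ℕ} (hF : Fintype.card F = q) : Nonempty (Cfsg.isometryGroup F (Cfsg.quadFormPlus 1 F) ≃* DihedralGroup (q - 1)) := by
  classical
  have : NeZero (q - 1) := ⟨by have := Fintype.one_lt_card (α := F); omega⟩
  let σ : GL (Fin 1 ⊕ Fin 1) F := ⟨swp F, swp F, swp_sq F, swp_sq F⟩
  let S : Cfsg.isometryGroup F (Cfsg.quadFormPlus 1 F) := ⟨σ, fun w _ => by
    show Cfsg.quadFormPlus 1 F (Matrix.mulVec (swp F) w) = _
    simp [Cfsg.quadFormPlus, swp_mulVec, mul_comm]⟩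
  have hval : ∀ g : Cfsg.isometryGroup F (Cfsg.quadFormPlus 1 F), ∀ w,
      Matrix.mulVec ((g : GL (Fin 1 ⊕ Fin 1) F) : Matrix (Fin 1 ⊕ Fin 1) (Fin 1 ⊕ Fin 1) F) w (.inl 0) *
        Matrix.mulVec ((g : GL (Fin 1 ⊕ Fin 1) F) : Matrix (Fin 1 ⊕ Fin 1) (Fin 1 ⊕ Fin 1) F) w (.inr 0) =
      w (.inl 0) * w (.inr 0) := fun g w => by
    simpa [Cfsg.quadFormPlus] using g.2 w w
  refine CfsgLib.Lie.DihedralIso.of_cyclic (q - 1) ?_ (dgHom F) ?_ S ?_ ?_ ?_ ?_
  · rw [Nat.card_units, Nat.card_eq_fintype_card, hF]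
  · intro u v h
    ext
    have := congr_arg (fun g : Cfsg.isometryGroup F (Cfsg.quadFormPlus 1 F) =>
      ((g : GL (Fin 1 ⊕ Fin 1) F) : Matrix (Fin 1 ⊕ Fin 1) (Fin 1 ⊕ Fin 1) F) (.inl 0) (.inl 0)) h
    have h9 : dg F u (.inl 0) (.inl 0) = dg F v (.inl 0) (.inl 0) := this
    simpa [dg] using h9
  · exact Subtype.ext (Units.ext (swp_sq F))
  · intro u
    refine Subtype.ext (Units.ext (Matrix.ext_iff_mulVec.mpr fun w => ?_))
    funext i
    show (Matrix.mulVec (swp F * dg F u * swp F) w) i = Matrix.mulVec (dg F u⁻¹) w i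
    rw [← Matrix.mulVec_mulVec, ← Matrix.mulVec_mulVec, swp_mulVec]
    rcases i with i | i <;> simp [dg, Matrix.mulVec_diagonal, swp_mulVec]
  · rintro ⟨u, hu⟩
    have := congr_arg (fun g : Cfsg.isometryGroup F (Cfsg.quadFormPlus 1 F) =>
      ((g : GL (Fin 1 ⊕ Fin 1) F) : Matrix (Fin 1 ⊕ Fin 1) (Fin 1 ⊕ Fin 1) F) (.inl 0) (.inr 0)) hu
    have h9 : dg F u (.inl 0) (.inr 0) = swp F (.inl 0) (.inr 0) := this
    simp [dg, swp] at h9
  · intro g
    set A := ((g : GL (Fin 1 ⊕ Fin 1) F) : Matrix (Fin 1 ⊕ Fin 1) (Fin 1 ⊕ Fin 1) F) with hA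
    have h1 := hval g (Pi.single (.inl 0) 1)
    have h2 := hval g (Pi.single (.inr 0) 1)
    have h3 := hval g (fun _ => 1)
    rw [← hA] at h1 h2 h3
    simp [Matrix.mulVec, dotProduct] at h1 h2 h3
    have h4 : A (.inl 0) (.inl 0) * A (.inr 0) (.inr 0) + A (.inl 0) (.inr 0) * A (.inr 0) (.inl 0) = 1 := by
      rcases h1 with h | h <;> rcases h2 with h' | h' <;> simp [h, h'] at h3 ⊢ <;> linear_combination h3
    by_cases hx : A (.inl 0) (.inl 0) = 0
    · right
      rw [hx, zero_mul, zero_add] at h4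
      have hy : A (.inr 0) (.inr 0) = 0 := h2.resolve_left (left_ne_zero_of_mul_eq_one h4)
      refine ⟨Units.mkOfMulEqOne (A (.inr 0) (.inl 0)) (A (.inl 0) (.inr 0)) (by rw [mul_comm]; exact h4),
        Subtype.ext (Units.ext ?_)⟩
      show dg F _ = swp F * A
      ext i j
      simp only [Matrix.mul_apply, swp, Matrix.of_apply, ite_mul, one_mul, zero_mul,
        Finset.sum_ite_eq, Finset.mem_univ, if_true]
      rcases i with i | i <;> rcases j with j | j <;> fin_cases i <;> fin_cases j <;>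
        simp [dg, hx, hy, Units.mkOfMulEqOne]
    · left
      have hy : A (.inr 0) (.inl 0) = 0 := h1.resolve_left hx
      rw [hy, mul_zero, add_zero] at h4
      have hz : A (.inl 0) (.inr 0) = 0 := h2.resolve_right (right_ne_zero_of_mul_eq_one h4)
      refine ⟨Units.mkOfMulEqOne (A (.inl 0) (.inl 0)) (A (.inr 0) (.inr 0)) h4,
        Subtype.ext (Units.ext ?_)⟩
      show dg F _ = A
      ext i j
      rcases i with i | i <;> rcases j with j | j <;> fin_cases i <;> fin_cases j <;>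
        simp [dg, hy, hz, Units.mkOfMulEqOne]

end Cfsg.Agent.S0305
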