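import Cfsg.Statements.S0306
import Cfsg.Agent.Lie.DihedralIso

set_option maxHeartbeats 1000000
-- import your own Cfsg.Agent.* helpers here

set_option autoImplicit false
open Cfsg

namespace Cfsg.Agent.S0306

section

open Matrix

/-- the index set of the binary form -/
abbrev Ix := (Fin 0 ⊕ Fin 0) ⊕ Fin 2

/-- forget the empty part -/
def idx : Ix → Fin 2
  | .inr i => i
  | .inl i => Sum.elim Fin.elim0 Fin.elim0 i

variable {F : Type*} [Field F] {a b : F}

theorem qf_eq (w : Ix → F) : Cfsg.quadFormMinus 0 F a b w =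
    w (.inr 0) ^ 2 + a * w (.inr 0) * w (.inr 1) + b * w (.inr 1) ^ 2 := by
  simp [Cfsg.quadFormMinus]

/-- multiplication matrix -/
def mm (z : QuadraticAlgebra F (-b) a) : Matrix Ix Ix F :=
  (!![z.re, -b * z.im; z.im, z.re + a * z.im]).submatrix idx idx

/-- conjugation matrix -/
def cj (a : F) : Matrix Ix Ix F := (!![1, a; 0, -1]).submatrix idx idx

theorem mm_mulVec (z : QuadraticAlgebra F (-b) a) (w : Ix → F) :
    (mm z *ᵥ w) (.inr 0) = z.re * w (.inr 0) - b * z.im * w (.inr 1) ∧
    (mm z *ᵥ w) (.inr 1) = z.im * w (.inr 0) + (z.re + a * z.im) * w (.inr 1) := by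
  constructor <;> simp [mm, idx, mulVec, dotProduct, Fintype.sum_sum_type, Fin.sum_univ_two] <;> ring

theorem cj_mulVec (w : Ix → F) :
    (cj a *ᵥ w) (.inr 0) = w (.inr 0) + a * w (.inr 1) ∧
    (cj a *ᵥ w) (.inr 1) = - w (.inr 1) := by
  constructor <;> simp [cj, idx, mulVec, dotProduct, Fintype.sum_sum_type, Fin.sum_univ_two]

theorem vec_ext {u v : Ix → F} (h0 : u (.inr 0) = v (.inr 0)) (h1 : u (.inr 1) = v (.inr 1)) :
    u = v := by
  funext i
  rcases i with (i | i) | i
  · exact i.elim0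
  · exact i.elim0
  · fin_cases i
    · exact h0
    · exact h1

theorem mm_one : mm (1 : QuadraticAlgebra F (-b) a) = 1 :=
  Matrix.ext_iff_mulVec.mpr fun w => vec_ext (by rw [(mm_mulVec _ w).1]; simp [QuadraticAlgebra.re_one, QuadraticAlgebra.im_one])
    (by rw [(mm_mulVec _ w).2]; simp [QuadraticAlgebra.re_one, QuadraticAlgebra.im_one])

theorem mm_mul (y z : QuadraticAlgebra F (-b) a) : mm (y * z) = mm y * mm z :=
  Matrix.ext_iff_mulVec.mpr fun w => by
    rw [← mulVec_mulVec]
    refine vec_ext ?_ ?_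
    · rw [(mm_mulVec _ w).1, (mm_mulVec _ _).1, (mm_mulVec _ w).1, (mm_mulVec _ w).2,
        QuadraticAlgebra.re_mul, QuadraticAlgebra.im_mul]
      ring
    · rw [(mm_mulVec _ w).2, (mm_mulVec _ _).2, (mm_mulVec _ w).1, (mm_mulVec _ w).2,
        QuadraticAlgebra.re_mul, QuadraticAlgebra.im_mul]
      ring

variable (F a b) in
/-- the norm one group -/
def U1 : Subgroup (QuadraticAlgebra F (-b) a)ˣ :=
  (Units.map (QuadraticAlgebra.norm : QuadraticAlgebra F (-b) a →* F)).ker

theorem mem_U1 {u : (QuadraticAlgebra F (-b) a)ˣ} : u ∈ U1 F a b ↔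
    (u : QuadraticAlgebra F (-b) a).re ^ 2 + a * (u : QuadraticAlgebra F (-b) a).re *
      (u : QuadraticAlgebra F (-b) a).im + b * (u : QuadraticAlgebra F (-b) a).im ^ 2 = 1 := by
  rw [U1, MonoidHom.mem_ker, Units.ext_iff, Units.coe_map, Units.val_one]
  change QuadraticAlgebra.norm _ = 1 ↔ _
  rw [QuadraticAlgebra.norm_def]
  constructor <;> intro h <;> linear_combination h

theorem mm_iso (u : U1 F a b) (w : Ix → F) :
    Cfsg.quadFormMinus 0 F a b (mm ((u : (QuadraticAlgebra F (-b) a)ˣ) : QuadraticAlgebra F (-b) a) *ᵥ w)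
      = Cfsg.quadFormMinus 0 F a b w := by
  rw [qf_eq, qf_eq, (mm_mulVec _ w).1, (mm_mulVec _ w).2]
  linear_combination (w (.inr 0) ^ 2 + a * w (.inr 0) * w (.inr 1) + b * w (.inr 1) ^ 2) *
    mem_U1.1 u.2

variable (F a b) in
/-- the rotations -/
def rot : U1 F a b →* Cfsg.isometryGroup F (Cfsg.quadFormMinus 0 F a b) :=
  MonoidHom.codRestrict
    (MonoidHom.toHomUnits
      { toFun := fun u : U1 F a b => mm ((u : (QuadraticAlgebra F (-b) a)ˣ) : QuadraticAlgebra F (-b) a)
        map_one' := mm_one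
        map_mul' := fun u v => mm_mul _ _ })
    _ (fun u w _ => mm_iso u w)

theorem rot_val (u : U1 F a b) : (((rot F a b u) : GL Ix F) : Matrix Ix Ix F) =
    mm ((u : (QuadraticAlgebra F (-b) a)ˣ) : QuadraticAlgebra F (-b) a) := rfl

theorem point_mem {x y : F} (h : x ^ 2 + a * x * y + b * y ^ 2 = 1) :
    ∃ u : U1 F a b, ((u : (QuadraticAlgebra F (-b) a)ˣ) : QuadraticAlgebra F (-b) a) = ⟨x, y⟩ := by
  obtain ⟨u, hu⟩ : IsUnit (⟨x, y⟩ : QuadraticAlgebra F (-b) a) :=
    QuadraticAlgebra.isUnit_iff_norm_isUnit.2 (by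
      rw [show QuadraticAlgebra.norm (⟨x, y⟩ : QuadraticAlgebra F (-b) a) = 1 by
        rw [QuadraticAlgebra.norm_def]; linear_combination h]
      exact isUnit_one)
  exact ⟨⟨u, mem_U1.2 (by rw [hu]; exact h)⟩, hu⟩

variable [Fintype F] (hab : ∀ z₁ z₂ : F, z₁ ^ 2 + a * z₁ * z₂ + b * z₂ ^ 2 = 0 → z₁ = 0 ∧ z₂ = 0)

include hab in
theorem two_or_a (h2 : (2 : F) = 0) : a ≠ 0 := by
  intro ha
  have hc : ringChar F = 2 := by
    have := CharTwo.two_eq_zero (R := ZMod 2)
    exact CharP.ringChar_of_prime_eq_zero Nat.prime_two (by exact_mod_cast h2)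
  obtain ⟨r, hr⟩ := FiniteField.isSquare_of_char_two hc b
  exact one_ne_zero (hab r 1 (by rw [ha, hr]; linear_combination (r * r) * h2)).2

include hab in
theorem disc_ne : 4 * b - a ^ 2 ≠ 0 := fun h => by
  obtain ⟨h1, h2⟩ := hab (-a) 2 (by linear_combination h)
  exact two_or_a hab h2 (neg_eq_zero.1 h1)

include hab in
theorem den_ne (t : F) : t ^ 2 + a * t + b ≠ 0 := fun h =>
  one_ne_zero (hab t 1 (by linear_combination h)).2

include hab in
theorem card_U1 : Nat.card (U1 F a b) = Fintype.card F + 1 := by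
  classical
  let P := {p : F × F // p.1 ^ 2 + a * p.1 * p.2 + b * p.2 ^ 2 = 1}
  have e : Nat.card (U1 F a b) = Nat.card P := by
    refine Nat.card_eq_of_bijective (fun u => (⟨(_, _), mem_U1.1 u.2⟩ : P)) ⟨fun u v h => ?_, fun p => ?_⟩
    · simp only [P, Subtype.mk.injEq, Prod.mk.injEq] at h
      exact Subtype.ext (Units.ext (QuadraticAlgebra.ext h.1 h.2))
    · obtain ⟨u, hu⟩ := point_mem p.2
      refine ⟨u, Subtype.ext ?_⟩
      simp [hu]
  rw [e]
  let s : F → F := fun t => -(2 * t + a) / (t ^ 2 + a * t + b)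
  have hs : ∀ t, s t * (t ^ 2 + a * t + b) = -(2 * t + a) := fun t => div_mul_cancel₀ _ (den_ne hab t)
  let f : Option F → P
    | none => ⟨(-1, 0), by simp⟩
    | some t => ⟨(1 + s t * t, s t), by linear_combination (s t) * hs t⟩
  have hf : Function.Bijective f := by
    refine ⟨?_, ?_⟩
    · have key : ∀ t, (1 + s t * t = -1 ∧ s t = 0) → False := fun t ⟨h1, h2⟩ => by
        have h20 : (2 : F) = 0 := by rw [h2] at h1; linear_combination h1
        have := hs t
        rw [h2, zero_mul, h20, zero_mul, zero_add] at this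
        exact two_or_a hab h20 (neg_eq_zero.1 this.symm)
      rintro (_ | t) (_ | t') h <;> simp only [f, P, Subtype.mk.injEq, Prod.mk.injEq] at h
      · rfl
      · exact (key t' ⟨h.1.symm, h.2.symm⟩).elim
      · exact (key t h).elim
      · obtain ⟨h1, h2⟩ := h
        rw [← h2] at h1
        by_cases hst : s t = 0
        · have e1 := hs t
          have e2 := hs t'
          rw [← h2, hst, zero_mul] at e2
          rw [hst, zero_mul] at e1
          have h20 : (2 : F) ≠ 0 := fun h20 => two_or_a hab h20 (by rw [h20] at e1; linear_combination e1)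
          rw [mul_left_cancel₀ h20 (show 2 * t = 2 * t' by linear_combination e1 - e2)]
        · rw [mul_left_cancel₀ hst (add_left_cancel h1)]
    · rintro ⟨⟨x, y⟩, hp⟩
      simp only at hp
      by_cases hy : y = 0
      · subst hy
        have hx : (x - 1) * (x + 1) = 0 := by linear_combination hp
        rcases mul_eq_zero.1 hx with hx | hx
        · by_cases h20 : (2 : F) = 0
          · exact ⟨none, Subtype.ext (Prod.ext (by simp only [f]; linear_combination -hx - h20) rfl)⟩
          · have hst : s (-a / 2) = 0 := by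
              simp only [s]
              rw [show 2 * (-a / 2) + a = 0 by field_simp; ring, neg_zero, zero_div]
            exact ⟨some (-a / 2), Subtype.ext (Prod.ext (by simp only [f]; rw [hst]; linear_combination -hx)
              (by simp only [f]; exact hst))⟩
        · exact ⟨none, Subtype.ext (Prod.ext (by simp only [f]; linear_combination -hx) rfl)⟩
      · refine ⟨some ((x - 1) / y), ?_⟩
        have hst : s ((x - 1) / y) = y := by
          refine mul_right_cancel₀ (den_ne hab ((x - 1) / y)) ?_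
          rw [hs]
          field_simp
          linear_combination -hp
        refine Subtype.ext (Prod.ext ?_ ?_) <;> simp only [f, hst]
        field_simp
        ring
  rw [← Nat.card_eq_of_bijective f hf, Nat.card_eq_fintype_card, Fintype.card_option]

end

/-- GO^-_2(q) is dihedral of order 2(q+1). -/
theorem result {F : Type*} [Field F] [Fintype F] {q : ℕ} (hF : Fintype.card F = q) (a b : F) (hab : ∀ z₁ z₂ : F, z₁ ^ 2 + a * z₁ * z₂ + b * z₂ ^ 2 = 0 → z₁ = 0 ∧ z₂ = 0) : Nonempty (Cfsg.isometryGroup F (Cfsg.quadFormMinus 0 F a b) ≃* DihedralGroup (q + 1)) := by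
  classical
  haveI : Fact (∀ r : F, r ^ 2 ≠ -b + a * r) :=
    ⟨fun r h => one_ne_zero (hab (-r) 1 (by linear_combination h)).2⟩
  haveI : Finite (QuadraticAlgebra F (-b) a) :=
    Finite.of_equiv _ (QuadraticAlgebra.equivProd (-b) a).symm
  have hsq : cj a * cj a = 1 := Matrix.ext_iff_mulVec.mpr fun w => by
    rw [← Matrix.mulVec_mulVec]
    refine vec_ext ?_ ?_
    · rw [(cj_mulVec _).1, (cj_mulVec w).1, (cj_mulVec w).2, Matrix.one_mulVec]; ring
    · rw [(cj_mulVec _).2, (cj_mulVec w).2, Matrix.one_mulVec, neg_neg]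
  let S : Cfsg.isometryGroup F (Cfsg.quadFormMinus 0 F a b) :=
    ⟨⟨cj a, cj a, hsq, hsq⟩, fun w _ => by
      show Cfsg.quadFormMinus 0 F a b (Matrix.mulVec (cj a) w) = Cfsg.quadFormMinus 0 F a b w
      rw [qf_eq, qf_eq, (cj_mulVec w).1, (cj_mulVec w).2]; ring⟩
  have hconj : ∀ u : U1 F a b, S * rot F a b u * S = rot F a b u⁻¹ := fun u => by
    set z := ((u : (QuadraticAlgebra F (-b) a)ˣ) : QuadraticAlgebra F (-b) a) with hz
    have hinv : (((u⁻¹ : U1 F a b) : (QuadraticAlgebra F (-b) a)ˣ) : QuadraticAlgebra F (-b) a) =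
        ⟨z.re + a * z.im, -z.im⟩ := by
      rw [Subgroup.coe_inv]
      refine Units.inv_eq_of_mul_eq_one_right (QuadraticAlgebra.ext ?_ ?_)
      · rw [QuadraticAlgebra.re_mul, QuadraticAlgebra.re_one]
        linear_combination mem_U1.1 u.2
      · rw [QuadraticAlgebra.im_mul, QuadraticAlgebra.im_one]
        ring
    refine Subtype.ext (Units.ext ?_)
    show cj a * mm z * cj a = mm _
    rw [hinv]
    refine Matrix.ext_iff_mulVec.mpr fun w => ?_
    rw [← Matrix.mulVec_mulVec, ← Matrix.mulVec_mulVec]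
    refine vec_ext ?_ ?_
    · rw [(cj_mulVec _).1, (mm_mulVec z _).1, (mm_mulVec z _).2, (cj_mulVec w).1, (cj_mulVec w).2,
        (mm_mulVec _ w).1]
      ring
    · rw [(cj_mulVec _).2, (mm_mulVec z _).2, (cj_mulVec w).1, (cj_mulVec w).2, (mm_mulVec _ w).2]
      ring
  refine CfsgLib.Lie.DihedralIso.of_cyclic (q + 1) ?_ (rot F a b) ?_ S (Subtype.ext (Units.ext hsq))
    hconj ?_ ?_
  · rw [card_U1 hab, hF]
  · intro u v h
    have h' : mm ((u : (QuadraticAlgebra F (-b) a)ˣ) : QuadraticAlgebra F (-b) a) =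
        mm ((v : (QuadraticAlgebra F (-b) a)ˣ) : QuadraticAlgebra F (-b) a) := by
      rw [← rot_val, ← rot_val, h]
    refine Subtype.ext (Units.ext (QuadraticAlgebra.ext ?_ ?_))
    · simpa [mm, idx] using congr_fun (congr_fun h' (.inr 0)) (.inr 0)
    · simpa [mm, idx] using congr_fun (congr_fun h' (.inr 1)) (.inr 0)
  · rintro ⟨u, hu⟩
    have h' : mm ((u : (QuadraticAlgebra F (-b) a)ˣ) : QuadraticAlgebra F (-b) a) = cj a := by
      rw [← rot_val, hu]
    have e00 := congr_fun (congr_fun h' (.inr 0)) (.inr 0)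
    have e10 := congr_fun (congr_fun h' (.inr 1)) (.inr 0)
    have e01 := congr_fun (congr_fun h' (.inr 0)) (.inr 1)
    have e11 := congr_fun (congr_fun h' (.inr 1)) (.inr 1)
    simp [mm, cj, idx] at e00 e10 e01 e11
    rw [e10] at e01 e11
    exact two_or_a hab (by linear_combination e11 - e00) (by linear_combination -e01)
  · intro g
    set A := ((g : GL Ix F) : Matrix Ix Ix F) with hA
    have hq : ∀ w : Ix → F, Cfsg.quadFormMinus 0 F a b (Matrix.mulVec A w) =
        Cfsg.quadFormMinus 0 F a b w := fun w => g.2 w w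
    have h1 : A (.inr 0) (.inr 0) ^ 2 + a * A (.inr 0) (.inr 0) * A (.inr 1) (.inr 0) +
        b * A (.inr 1) (.inr 0) ^ 2 = 1 := by
      have := hq (Pi.single (.inr 0) 1)
      rw [qf_eq, qf_eq] at this
      simpa using this
    obtain ⟨u, hu⟩ := point_mem h1
    let h := (rot F a b u)⁻¹ * g
    set B := ((h : GL Ix F) : Matrix Ix Ix F) with hB
    have hAB : A = mm ((u : (QuadraticAlgebra F (-b) a)ˣ) : QuadraticAlgebra F (-b) a) * B := by
      have h9 : rot F a b u * h = g := mul_inv_cancel_left _ _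
      rw [hA, ← h9]
      rfl
    have hBq : ∀ w : Ix → F, Cfsg.quadFormMinus 0 F a b (Matrix.mulVec B w) =
        Cfsg.quadFormMinus 0 F a b w := fun w => h.2 w w
    have hB0 : Matrix.mulVec B (Pi.single (.inr 0) 1) = Pi.single (.inr 0) 1 := by
      have h9 : Matrix.mulVec (mm ((u : (QuadraticAlgebra F (-b) a)ˣ) : QuadraticAlgebra F (-b) a))
          (Matrix.mulVec B (Pi.single (.inr 0) 1)) =
        Matrix.mulVec (mm ((u : (QuadraticAlgebra F (-b) a)ˣ) : QuadraticAlgebra F (-b) a))
          (Pi.single (.inr 0) 1) := by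
        rw [Matrix.mulVec_mulVec, ← hAB]
        refine vec_ext ?_ ?_ <;> simp [mm, idx, hu]
      have h10 := congr_arg (Matrix.mulVec (mm ((u⁻¹ : (QuadraticAlgebra F (-b) a)ˣ) : QuadraticAlgebra F (-b) a))) h9
      simp only [Matrix.mulVec_mulVec, ← Matrix.mul_assoc, ← mm_mul, Units.inv_mul, mm_one] at h10
      rw [Matrix.one_mul, Matrix.one_mulVec] at h10
      exact h10
    set p := B (.inr 0) (.inr 1)
    set r := B (.inr 1) (.inr 1)
    have hsplit : ∀ w, Matrix.mulVec B w (.inr 0) = w (.inr 0) + p * w (.inr 1) ∧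
        Matrix.mulVec B w (.inr 1) = r * w (.inr 1) := fun w => by
      have e0 := congr_fun hB0 (.inr 0)
      have e1 := congr_fun hB0 (.inr 1)
      simp at e0 e1
      constructor <;> simp [Matrix.mulVec, dotProduct, Fintype.sum_sum_type, Fin.sum_univ_two, e0, e1, p, r]
    have k1 : p ^ 2 + a * p * r + b * r ^ 2 = b := by
      have := hBq (Pi.single (.inr 1) 1)
      rw [qf_eq, qf_eq, (hsplit _).1, (hsplit _).2] at this
      simpa using this
    have k2 : 2 * p + a * r = a := by
      have := hBq (fun _ => 1)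
      rw [qf_eq, qf_eq, (hsplit _).1, (hsplit _).2] at this
      linear_combination this - k1
    have k3 : (4 * b - a ^ 2) * ((r - 1) * (r + 1)) = 0 := by
      linear_combination 4 * k1 - (2 * p + a * r + a) * k2
    have hcases : (p = 0 ∧ r = 1) ∨ (p = a ∧ r = -1) := by
      rcases mul_eq_zero.1 ((mul_eq_zero.1 k3).resolve_left (disc_ne hab)) with hr | hr
      · have hr' : r = 1 := sub_eq_zero.1 hr
        rw [hr'] at k1 k2
        rcases mul_eq_zero.1 (show p * (p + a) = 0 by linear_combination k1) with hp | hp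
        · exact Or.inl ⟨hp, hr'⟩
        · rcases mul_eq_zero.1 (show (2 : F) * p = 0 by linear_combination k2) with h2 | h2
          · exact Or.inr ⟨by linear_combination hp - a * h2, by linear_combination hr' + h2⟩
          · exact Or.inl ⟨h2, hr'⟩
      · have hr' : r = -1 := eq_neg_of_add_eq_zero_left hr
        rw [hr'] at k1 k2
        rcases mul_eq_zero.1 (show p * (p - a) = 0 by linear_combination k1) with hp | hp
        · rcases mul_eq_zero.1 (show (2 : F) * a = 0 by linear_combination -k2 + 2 * hp) with h2 | h2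
          · exact Or.inl ⟨hp, by linear_combination hr' - h2⟩
          · exact Or.inr ⟨by rw [hp, h2], hr'⟩
        · exact Or.inr ⟨sub_eq_zero.1 hp, hr'⟩
    rcases hcases with ⟨hp, hr⟩ | ⟨hp, hr⟩
    · left
      refine ⟨u, ?_⟩
      have h1' : h = 1 := Subtype.ext (Units.ext (Matrix.ext_iff_mulVec.mpr fun w => by
        show Matrix.mulVec B w = Matrix.mulVec (1 : Matrix Ix Ix F) w
        rw [Matrix.one_mulVec]
        refine vec_ext ?_ ?_
        · rw [(hsplit w).1, hp]; ring
        · rw [(hsplit w).2, hr]; ring))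
      exact inv_mul_eq_one.1 h1'
    · right
      refine ⟨u⁻¹, ?_⟩
      have h1' : h = S := Subtype.ext (Units.ext (Matrix.ext_iff_mulVec.mpr fun w => by
        show Matrix.mulVec B w = Matrix.mulVec (cj a) w
        refine vec_ext ?_ ?_
        · rw [(hsplit w).1, (cj_mulVec w).1, hp]
        · rw [(hsplit w).2, (cj_mulVec w).2, hr]; ring))
      rw [← hconj, ← mul_inv_cancel_left (rot F a b u) g]
      change S * rot F a b u * S = S * (rot F a b u * h)
      rw [h1', mul_assoc]

end Cfsg.Agent.S0306
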