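import Cfsg.Statements.S0307
import Cfsg.Agent.Lie.Orders

set_option autoImplicit false
open Cfsg

namespace Cfsg.Agent.S0307

/-- PSL_n(q) is normal in PGL_n(q) with cyclic quotient of order gcd(n, q-1): the image of the natural map PSL_n → PGL_n is the kernel of a surjective homomorphism onto the cyclic group of that order. -/
theorem result {F : Type*} [Field F] [Fintype F] {q : ℕ} (hF : Fintype.card F = q) (n : ℕ) (hn : 1 ≤ n) : ∃ g : Matrix.ProjGenLinGroup (Fin n) F →* Multiplicative (ZMod (Nat.gcd n (q - 1))), Function.Surjective g ∧ g.ker = (Matrix.ProjectiveSpecialLinearGroup.toPGL : Matrix.ProjectiveSpecialLinearGroup (Fin n) F →* Matrix.ProjGenLinGroup (Fin n) F).range := by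
  have : Nonempty (Fin n) := ⟨⟨0, hn⟩⟩
  let N : Subgroup Fˣ := (powMonoidHom n : Fˣ →* Fˣ).range
  let d : Matrix.GeneralLinearGroup (Fin n) F →* Fˣ ⧸ N :=
    (QuotientGroup.mk' N).comp Matrix.GeneralLinearGroup.det
  have hd : Subgroup.center (Matrix.GeneralLinearGroup (Fin n) F) ≤ d.ker := by
    rw [Matrix.GeneralLinearGroup.center_eq_range_scalar]
    rintro _ ⟨u, rfl⟩
    refine (QuotientGroup.eq_one_iff _).2 ⟨u, Units.ext ?_⟩
    simp
  let g0 : Matrix.ProjGenLinGroup (Fin n) F →* Fˣ ⧸ N := QuotientGroup.lift _ d hd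
  have hg0 : ∀ A, g0 (Matrix.ProjGenLinGroup.mk A) = d A := fun A => rfl
  have hsurj : Function.Surjective g0 := by
    intro x
    obtain ⟨u, rfl⟩ := QuotientGroup.mk'_surjective N x
    obtain ⟨A, rfl⟩ := Matrix.GeneralLinearGroup.det_surjective (n := Fin n) u
    exact ⟨Matrix.ProjGenLinGroup.mk A, rfl⟩
  have hcyc : IsCyclic (Fˣ ⧸ N) := isCyclic_of_surjective _ (QuotientGroup.mk'_surjective N)
  have hq : 2 ≤ q := hF ▸ Fintype.one_lt_card
  have hc : Nat.card (Fˣ ⧸ N) = Nat.gcd n (q - 1) := by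
    have h1 := N.card_mul_index
    rw [Subgroup.index, CfsgLib.Lie.Orders.card_units_eq, Nat.card_eq_fintype_card (α := F), hF,
      IsCyclic.card_powMonoidHom_range, CfsgLib.Lie.Orders.card_units_eq,
      Nat.card_eq_fintype_card (α := F), hF, Nat.gcd_comm] at h1
    refine Nat.eq_of_mul_eq_mul_left ?_ (h1.trans (Nat.div_mul_cancel (Nat.gcd_dvd_right n (q - 1))).symm)
    exact Nat.div_pos (Nat.le_of_dvd (by omega) (Nat.gcd_dvd_right _ _))
      (Nat.gcd_pos_of_pos_left _ hn)
  let e : (Fˣ ⧸ N) ≃* Multiplicative (ZMod (Nat.gcd n (q - 1))) :=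
    mulEquivOfCyclicCardEq (hc.trans (Nat.card_zmod _).symm)
  refine ⟨e.toMonoidHom.comp g0, e.surjective.comp hsurj, ?_⟩
  rw [show (e.toMonoidHom.comp g0).ker = g0.ker from MonoidHom.ker_mulEquiv_comp g0 e]
  ext x
  induction x using Matrix.ProjGenLinGroup.induction_on with
  | mk A =>
    rw [MonoidHom.mem_ker, hg0]
    constructor
    · intro h
      obtain ⟨u, hu⟩ := (QuotientGroup.eq_one_iff _).1 h
      have hA : (A * Matrix.GeneralLinearGroup.scalar (Fin n) u⁻¹ :
          Matrix.GeneralLinearGroup (Fin n) F) ∈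
          (Matrix.GeneralLinearGroup.det : Matrix.GeneralLinearGroup (Fin n) F →* Fˣ).ker := by
        rw [MonoidHom.mem_ker, map_mul, ← hu]
        apply Units.ext
        simp [powMonoidHom]
      rw [← CfsgLib.Lie.Orders.toGL_range_eq_det_ker] at hA
      obtain ⟨S, hS⟩ := hA
      refine ⟨QuotientGroup.mk S, ?_⟩
      rw [Matrix.ProjectiveSpecialLinearGroup.toPGL_mk, hS, map_mul,
        Matrix.ProjGenLinGroup.mk_scalar, mul_one]
    · rintro ⟨y, hy⟩
      induction y using QuotientGroup.induction_on with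
      | H S =>
        rw [Matrix.ProjectiveSpecialLinearGroup.toPGL_mk, Matrix.ProjGenLinGroup.mk_eq_mk_iff] at hy
        obtain ⟨u, rfl⟩ := hy
        refine (QuotientGroup.eq_one_iff _).2 ⟨u, Units.ext ?_⟩
        simp

end Cfsg.Agent.S0307
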