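import Cfsg.Statements.S0316
import Cfsg.Agent.Base.BNPairProps

set_option autoImplicit false
open Cfsg

namespace Cfsg.Agent.S0316

/-- The map `J ↦ P_J` is a lattice isomorphism from the power set of the set of distinguished generators onto the
subgroups containing `B`. -/
theorem result {G : Type*} [Group G] (P : Cfsg.BNPair G) :
    ∃ e : Set P.S ≃o {M : Subgroup G // P.B ≤ M},
      ∀ J : Set P.S, ((e J : {M : Subgroup G // P.B ≤ M}) : Subgroup G) = P.parabolic (Subtype.val '' J) := by
  have hsub : ∀ J : Set P.S, Subtype.val '' J ⊆ P.S := by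
    rintro J _ ⟨s, _, rfl⟩; exact s.2
  refine ⟨{ toFun := fun J => ⟨P.parabolic (Subtype.val '' J), CfsgLib.Base.BN.B_le_parabolic P _⟩
            invFun := fun M => Subtype.val ⁻¹' (M.1 : Set G)
            left_inv := ?_
            right_inv := ?_
            map_rel_iff' := ?_ }, fun J => rfl⟩
  · intro J
    ext s
    exact ⟨fun hs => by
      obtain ⟨t, ht, hts⟩ := CfsgLib.Base.BN.mem_of_gen_mem_parabolic P (hsub J) s.2 hs
      rwa [← Subtype.ext hts],
      fun hs => CfsgLib.Base.BN.subset_parabolic P _ ⟨s, hs, rfl⟩⟩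
  · rintro ⟨M, hM⟩
    ext1
    dsimp only
    rw [Subtype.image_preimage_coe]
    exact (CfsgLib.Base.BN.le_eq_parabolic P hM).symm
  · intro J K
    constructor
    · intro h s hs
      obtain ⟨t, ht, hts⟩ := CfsgLib.Base.BN.mem_of_gen_mem_parabolic P (hsub K) s.2
        (h (CfsgLib.Base.BN.subset_parabolic P _ ⟨s, hs, rfl⟩))
      rwa [← Subtype.ext hts]
    · intro h
      exact sup_le_sup_left (Subgroup.closure_mono (Set.image_mono h)) _

end Cfsg.Agent.S0316
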