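import Cfsg.Statements.S0321
import Cfsg.Agent.Base.BNPairProps

set_option autoImplicit false
open Cfsg

namespace Cfsg.Agent.S0321

/-- For `n ∈ N` not in `B`, the union `B ∪ B n B` is (the underlying set of) a subgroup exactly when `n` agrees
modulo `B ⊓ N` with one of the distinguished representatives; thus the distinguished involutions are
determined by `B` and `N`. -/
theorem result {G : Type*} [Group G] (P : Cfsg.BNPair G) {n : G}
    (hn : n ∈ P.N) (hnB : n ∉ P.B) :
    (∃ H : Subgroup G, (H : Set G) = (P.B : Set G) ∪ DoubleCoset.doubleCoset n (P.B : Set G) P.B) ↔ ∃ s ∈ P.S, s⁻¹ * n ∈ P.B := by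
  constructor
  · rintro ⟨H, hH⟩
    have hB : P.B ≤ H := fun x hx => by
      rw [← SetLike.mem_coe, hH]; exact Or.inl hx
    have hnH : n ∈ H := by
      rw [← SetLike.mem_coe, hH]; exact Or.inr (DoubleCoset.mem_doubleCoset_self _ _ _)
    have hJ := CfsgLib.Base.BN.le_eq_parabolic P hB
    by_cases hne : (P.S ∩ (H : Set G)).Nonempty
    · obtain ⟨s, hs, hsH⟩ := hne
      refine ⟨s, hs, ?_⟩
      rw [hH] at hsH
      rcases hsH with h | h
      · exact absurd h (CfsgLib.Base.BN.gen_not_mem_B P ⟨s, hs⟩)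
      · exact (CfsgLib.Base.BN.π_eq P (m := ⟨s, P.subset hs⟩) (n := ⟨n, hn⟩)).1
          (CfsgLib.Base.BN.eq_of_mem P (CfsgLib.Base.BN.self_mem_C P ⟨s, P.subset hs⟩) h)
    · rw [hJ, Set.not_nonempty_iff_eq_empty.1 hne] at hnH
      simp [Cfsg.BNPair.parabolic] at hnH
      exact absurd hnH hnB
  · rintro ⟨s, hs, hsn⟩
    have hJ : ({s} : Set G) ⊆ P.S := Set.singleton_subset_iff.2 hs
    refine ⟨P.parabolic {s}, ?_⟩
    have e : DoubleCoset.doubleCoset n (P.B : Set G) P.B = DoubleCoset.doubleCoset s (P.B : Set G) P.B :=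
      (congrArg (CfsgLib.Base.BN.C P)
        ((CfsgLib.Base.BN.π_eq P (m := ⟨s, P.subset hs⟩) (n := ⟨n, hn⟩)).2 hsn)).symm
    rw [e]
    ext x
    constructor
    · intro hx
      obtain ⟨l, hl, hxl⟩ := (CfsgLib.Base.BN.mem_parabolic P hJ).1 hx
      clear hx
      have : CfsgLib.Base.BN.wp P l = 1 ∨
          CfsgLib.Base.BN.wp P l = CfsgLib.Base.BN.gen P ⟨s, hs⟩ := by
        clear hxl
        induction l with
        | nil => exact Or.inl rfl
        | cons a l ih =>
          have ha : a = ⟨s, hs⟩ := Subtype.ext (hl a (by simp))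
          rcases ih (fun b hb => hl b (by simp [hb])) with h | h
          · right; rw [CfsgLib.Base.BN.wp_cons, h, ha, mul_one]
          · left; rw [CfsgLib.Base.BN.wp_cons, h, ha, CfsgLib.Base.BN.gen_mul_self]
      rcases this with h | h
      · rw [h] at hxl; exact Or.inl ((CfsgLib.Base.BN.C_one P).1 hxl)
      · rw [h] at hxl; exact Or.inr hxl
    · rintro (hx | hx)
      · exact CfsgLib.Base.BN.B_le_parabolic P _ hx
      · obtain ⟨b, hb, c, hc, rfl⟩ := DoubleCoset.mem_doubleCoset.1 hx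
        exact mul_mem (mul_mem (CfsgLib.Base.BN.B_le_parabolic P _ hb)
          (CfsgLib.Base.BN.subset_parabolic P _ rfl)) (CfsgLib.Base.BN.B_le_parabolic P _ hc)

end Cfsg.Agent.S0321
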