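import Cfsg.Statements.S0322
import Cfsg.Agent.Base.BNPairProps

set_option autoImplicit false
open Cfsg

namespace Cfsg.Agent.S0322

/-- A group with a (B,N)-pair of rank one acts doubly transitively on the left cosets of `B`. -/
theorem result {G : Type*} [Group G] (P : Cfsg.BNPair G) (h : P.rank = 1) : MulAction.IsMultiplyPretransitive G (G ⧸ P.B) 2 := by
  obtain ⟨hsub, hne⟩ := Nat.card_eq_one_iff_unique.1 h
  obtain ⟨⟨s, hs⟩⟩ := hne
  have key : ∀ x : G, x ∉ P.B → ∃ b ∈ P.B, ∃ c ∈ P.B, x = b * s * c := by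
    intro x hx
    obtain ⟨w, hw⟩ := CfsgLib.Base.BN.exists_mem_C P x
    obtain ⟨l, rfl⟩ := CfsgLib.Base.BN.exists_word P w
    have : CfsgLib.Base.BN.wp P l = 1 ∨
        CfsgLib.Base.BN.wp P l = CfsgLib.Base.BN.gen P ⟨s, hs⟩ := by
      clear hw
      induction l with
      | nil => exact Or.inl rfl
      | cons a l ih =>
        have ha : a = ⟨s, hs⟩ := Subsingleton.elim _ _
        rcases ih with h | h
        · right; rw [CfsgLib.Base.BN.wp_cons, h, ha, mul_one]
        · left; rw [CfsgLib.Base.BN.wp_cons, h, ha, CfsgLib.Base.BN.gen_mul_self]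
    rcases this with h | h
    · rw [h] at hw; exact absurd ((CfsgLib.Base.BN.C_one P).1 hw) hx
    · rw [h] at hw; exact DoubleCoset.mem_doubleCoset.1 hw
  have base : ∀ a b : G ⧸ P.B, a ≠ b → ∃ g : G,
      g • (QuotientGroup.mk 1 : G ⧸ P.B) = a ∧ g • (QuotientGroup.mk s : G ⧸ P.B) = b := by
    intro a b hab
    obtain ⟨x, rfl⟩ := QuotientGroup.mk_surjective a
    obtain ⟨y, rfl⟩ := QuotientGroup.mk_surjective b
    have hxy : x⁻¹ * y ∉ P.B := fun hh => hab (QuotientGroup.eq.2 hh)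
    obtain ⟨b', hb', c, hc, hbc⟩ := key _ hxy
    refine ⟨x * b', ?_, ?_⟩
    · rw [MulAction.Quotient.smul_mk, QuotientGroup.eq, smul_eq_mul]
      simpa [mul_assoc] using inv_mem hb'
    · rw [MulAction.Quotient.smul_mk, QuotientGroup.eq, smul_eq_mul]
      have : (x * b' * s)⁻¹ * y = c := by
        rw [mul_inv_rev, mul_inv_rev, mul_assoc, mul_assoc, hbc]; group
      rwa [this]
  rw [MulAction.is_two_pretransitive_iff]
  intro a b c d hab hcd
  obtain ⟨g, hga, hgb⟩ := base a b hab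
  obtain ⟨k, hkc, hkd⟩ := base c d hcd
  exact ⟨k * g⁻¹, by rw [← hga, mul_smul, inv_smul_smul, hkc],
    by rw [← hgb, mul_smul, inv_smul_smul, hkd]⟩

end Cfsg.Agent.S0322
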