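import Cfsg.Statements.S0323
import Cfsg.Agent.Base.BNPairProps

set_option autoImplicit false
open scoped Pointwise
open Cfsg

namespace Cfsg.Agent.S0323

/-- A doubly transitive action on a set with at least three points yields a (B,N)-pair of rank one:
`B` is the stabiliser of a point `x`, `N` the setwise stabiliser of a pair `{x, y}`. -/
theorem result {G Ω : Type*} [Group G] [MulAction G Ω]
    (h2 : MulAction.IsMultiplyPretransitive G Ω 2) {x y z : Ω} (hxy : x ≠ y) (hyz : y ≠ z) (hxz : x ≠ z) :
    ∃ P : Cfsg.BNPair G, P.B = MulAction.stabilizer G x ∧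
      P.N = MulAction.stabilizer G ({x, y} : Set Ω) ∧ P.rank = 1 := by
  rw [MulAction.is_two_pretransitive_iff] at h2
  obtain ⟨s, hsx, hsy⟩ := h2 hxy hxy.symm
  have hN : ∀ {n : G}, n ∈ MulAction.stabilizer G ({x, y} : Set Ω) →
      (n • x = x ∧ n • y = y) ∨ (n • x = y ∧ n • y = x) := by
    intro n hn
    rw [MulAction.mem_stabilizer_iff] at hn
    have h1 : n • x ∈ ({x, y} : Set Ω) := hn ▸ Set.smul_mem_smul_set (Set.mem_insert x {y})
    have h2' : n • y ∈ ({x, y} : Set Ω) :=
      hn ▸ Set.smul_mem_smul_set (Set.mem_insert_of_mem x rfl)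
    simp only [Set.mem_insert_iff, Set.mem_singleton_iff] at h1 h2'
    rcases h1 with h1 | h1 <;> rcases h2' with h2' | h2'
    · exact absurd (MulAction.injective n (h1.trans h2'.symm)) hxy
    · exact Or.inl ⟨h1, h2'⟩
    · exact Or.inr ⟨h1, h2'⟩
    · exact absurd (MulAction.injective n (h1.trans h2'.symm)) hxy
  have hsN : s ∈ MulAction.stabilizer G ({x, y} : Set Ω) := by
    rw [MulAction.mem_stabilizer_iff, Set.smul_set_insert, Set.smul_set_singleton, hsx, hsy,
      Set.pair_comm]
  set B := MulAction.stabilizer G x with hB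
  have hdc : ∀ g : G, g • x ≠ x → g ∈ DoubleCoset.doubleCoset s (B : Set G) B := by
    intro g hg
    obtain ⟨b, hbx, hby⟩ := h2 hxy (Ne.symm hg)
    refine DoubleCoset.mem_doubleCoset.2 ⟨b, hbx, (b * s)⁻¹ * g, ?_, by group⟩
    show ((b * s)⁻¹ * g) • x = x
    rw [mul_smul, inv_smul_eq_iff, mul_smul, hsx, hby]
  have hBdc : ∀ g ∈ B, ∀ b' ∈ B, b' ∈ DoubleCoset.doubleCoset g (B : Set G) B := fun g hg b' hb' =>
    DoubleCoset.mem_doubleCoset.2 ⟨b' * g⁻¹, mul_mem hb' (inv_mem hg), 1, one_mem _, by group⟩
  refine ⟨{ B := B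
            N := MulAction.stabilizer G ({x, y} : Set Ω)
            S := {s}
            sup_eq_top := ?_
            conj_mem := ?_
            subset := Set.singleton_subset_iff.2 hsN
            sq_mem := ?_
            inj := fun a ha b hb _ => (Set.mem_singleton_iff.1 ha).trans (Set.mem_singleton_iff.1 hb).symm
            closure_sup := ?_
            mul_mem_union := ?_
            conj_ne := ?_ }, rfl, rfl, ?_⟩
  · rw [eq_top_iff]
    intro g _
    by_cases hg : g • x = x
    · exact Subgroup.mem_sup_left hg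
    · obtain ⟨b, hb, c, hc, rfl⟩ := DoubleCoset.mem_doubleCoset.1 (hdc g hg)
      exact mul_mem (mul_mem (Subgroup.mem_sup_left hb) (Subgroup.mem_sup_right hsN))
        (Subgroup.mem_sup_left hc)
  · rintro n hn t ⟨ht, htN⟩
    have hty : t • y = y := by
      rcases hN htN with h | h
      · exact h.2
      · exact absurd ((show t • x = x from ht).symm.trans h.1) hxy
    show (n * t * n⁻¹) • x = x
    rcases hN hn with ⟨h1, _⟩ | ⟨_, h1⟩
    · have h1' : n⁻¹ • x = x := inv_smul_eq_iff.2 h1.symm
      rw [mul_smul, mul_smul, h1', show t • x = x from ht, h1]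
    · have h1' : n⁻¹ • x = y := inv_smul_eq_iff.2 h1.symm
      rw [mul_smul, mul_smul, h1', hty, h1]
  · rintro a rfl
    show (a * a) • x = x
    rw [mul_smul, hsx, hsy]
  · apply le_antisymm
    · exact sup_le ((Subgroup.closure_le _).2 (Set.singleton_subset_iff.2 hsN)) inf_le_right
    · intro n hn
      rcases hN hn with ⟨h1, _⟩ | ⟨h1, _⟩
      · exact Subgroup.mem_sup_right ⟨h1, hn⟩
      · have h3 : s⁻¹ * n ∈ B ⊓ MulAction.stabilizer G ({x, y} : Set Ω) := by
          refine ⟨?_, Subgroup.mul_mem _ (Subgroup.inv_mem _ hsN) hn⟩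
          show (s⁻¹ * n) • x = x
          rw [mul_smul, h1, inv_smul_eq_iff, hsx]
        have := mul_mem (Subgroup.mem_sup_left (T := B ⊓ MulAction.stabilizer G ({x, y} : Set Ω))
          (Subgroup.subset_closure (Set.mem_singleton s))) (Subgroup.mem_sup_right h3)
        simpa using this
  · rintro a rfl n hn b hb
    rcases hN hn with ⟨h1, _⟩ | ⟨h1, h1'⟩
    · by_cases hg : (a * b * n) • x = x
      · exact Or.inr (hBdc n h1 _ hg)
      · refine Or.inl ?_
        have h4 : a * n ∈ DoubleCoset.doubleCoset a (B : Set G) B := hdc _ (by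
          rw [mul_smul, h1, hsx]; exact hxy.symm)
        rw [DoubleCoset.doubleCoset_eq_of_mem h4]
        exact hdc _ hg
    · by_cases hg : (a * b * n) • x = x
      · refine Or.inl (hBdc _ ?_ _ hg)
        show (a * n) • x = x
        rw [mul_smul, h1, hsy]
      · refine Or.inr ?_
        have h4 : n ∈ DoubleCoset.doubleCoset a (B : Set G) B := hdc _ (by
          rw [h1]; exact hxy.symm)
        rw [DoubleCoset.doubleCoset_eq_of_mem h4]
        exact hdc _ hg
  · rintro a rfl h
    obtain ⟨b, hbx, hby⟩ := h2 hxy hxz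
    have hb : a * b * a ∈ B := by
      have : a * b * a ∈ (fun b : G => a * b * a) '' (B : Set G) := ⟨b, hbx, rfl⟩
      rwa [h] at this
    have h5 : (a * b * a) • x = x := hb
    rw [mul_smul, mul_smul, hsx, hby] at h5
    exact hyz.symm (MulAction.injective a (h5.trans hsy.symm))
  · show Nat.card ({s} : Set G) = 1
    simp

end Cfsg.Agent.S0323
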