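import Cfsg.Statements.S0328
import Cfsg.Agent.Suz.Group

set_option autoImplicit false
open Cfsg

namespace Cfsg.Agent.S0328

/-- The stabiliser in the Suzuki group of the two ovoid points spanned by `(1,0,0,0)` and `(0,0,0,1)` is
isomorphic to the multiplicative group of the field (cyclic of order `q - 1`). -/
theorem result {F : Type*} [Field F] [Fintype F] {m : ℕ} (hm : 1 ≤ m)
    (hF : Fintype.card F = 2 ^ (2 * m + 1)) :
    Nonempty (↥(MulAction.stabilizer (Cfsg.Sz F m) (Cfsg.suzukiPointInfinity F) ⊓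
        MulAction.stabilizer (Cfsg.Sz F m) (Cfsg.suzukiPointZero F)) ≃* Fˣ) := by
  have A : CfsgLib.Suz.Setup F m := ⟨hm, hF⟩
  let S : Subgroup (Cfsg.Sz F m) := MulAction.stabilizer (Cfsg.Sz F m) (Cfsg.suzukiPointInfinity F) ⊓
    MulAction.stabilizer (Cfsg.Sz F m) (Cfsg.suzukiPointZero F)
  have hS : ∀ k, A.hHom k ∈ S := fun k => by
    refine ⟨congrArg Subtype.val (A.H_inf k), ?_⟩
    have := congrArg Subtype.val (A.H_zero k)
    rw [← CfsgLib.Suz.pt_zero m]
    exact this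
  refine ⟨(MulEquiv.ofBijective (A.hHom.codRestrict S hS) ⟨fun k k' h => A.H_inj (congrArg Subtype.val h), ?_⟩).symm⟩
  rintro ⟨g, h1, h2⟩
  obtain ⟨k, hk⟩ := A.fix_two_val (g := g) (Subtype.ext h1) (Subtype.ext (by
    rw [← CfsgLib.Suz.pt_zero m] at h2
    exact h2))
  exact ⟨k, Subtype.ext hk.symm⟩

end Cfsg.Agent.S0328
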