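import Cfsg.Statements.S0341
import Cfsg.Agent.Solv.FrobeniusNilp
import Cfsg.Agent.Solv.FixedPointFree
import Cfsg.Agent.Solv.UniqueSub
import Cfsg.Agent.Base.BrauerSuzuki
import Mathlib.GroupTheory.SpecificGroups.ZGroup
import Mathlib.FieldTheory.Fixed
import Mathlib.RingTheory.IntegralDomain
import Mathlib.Algebra.Ring.Action.End
import Mathlib.GroupTheory.PGroup
import Mathlib.GroupTheory.GroupAction.MultipleTransitivity
import Mathlib.GroupTheory.Index
import Mathlib.Tactic
-- import your own Cfsg.Agent.* helpers here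

set_option autoImplicit false
open Cfsg

namespace Cfsg.Agent.S0341

/-- If a finite group acts faithfully and doubly transitively, no non-identity element fixes three points, some
non-identity element fixes two points, and some normal subgroup acts regularly, then the number of points
is `2^p` with `p` prime. -/
theorem result {G Ω : Type*} [Group G]
    [MulAction G Ω] [Fintype Ω] [FaithfulSMul G Ω] (h2 : MulAction.IsMultiplyPretransitive G Ω 2)
    (h3 : ∀ g : G, ∀ a b c : Ω, a ≠ b → b ≠ c → a ≠ c → g • a = a → g • b = b → g • c = c → g = 1)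
    (hfix : ∃ g : G, g ≠ 1 ∧ ∃ a b : Ω, a ≠ b ∧ g • a = a ∧ g • b = b)
    (N : Subgroup G) [N.Normal] (hNt : MulAction.IsPretransitive N Ω)
    (hNr : ∀ a : Ω, MulAction.stabilizer N a = ⊥) :
    ∃ p : ℕ, p.Prime ∧ Fintype.card Ω = 2 ^ p := by
  classical
  obtain ⟨g, hg1, a, b, hab, hga, hgb⟩ := hfix
  have reg : ∀ (x : Ω) (n m : G), n ∈ N → m ∈ N → n • x = m • x → n = m := by
    intro x n m hn hm h
    have h1 : (⟨m⁻¹ * n, N.mul_mem (N.inv_mem hm) hn⟩ : N) ∈ MulAction.stabilizer N x := by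
      rw [MulAction.mem_stabilizer_iff]
      show (m⁻¹ * n) • x = x
      rw [mul_smul, h, inv_smul_smul]
    rw [hNr, Subgroup.mem_bot] at h1
    exact (inv_mul_eq_one.1 (congrArg Subtype.val h1)).symm
  obtain ⟨⟨n₀, hn₀⟩, hn₀b⟩ := hNt.exists_smul_eq a b
  change n₀ • a = b at hn₀b
  have hcomm : g * n₀ * g⁻¹ = n₀ := by
    refine reg a _ _ (Subgroup.Normal.conj_mem inferInstance n₀ hn₀ g) hn₀ ?_
    rw [mul_smul, mul_smul, show g⁻¹ • a = a by rw [inv_smul_eq_iff, hga], hn₀b, hgb]
  have hsq : n₀ * n₀ = 1 := by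
    have hfixc : g • (n₀ * n₀) • a = (n₀ * n₀) • a := by
      rw [← mul_smul, show g * (n₀ * n₀) = (g * n₀ * g⁻¹) * (g * n₀ * g⁻¹) * g by group, hcomm, mul_smul, hga]
    by_cases e1 : (n₀ * n₀) • a = a
    · exact reg a _ _ (N.mul_mem hn₀ hn₀) N.one_mem (by rw [one_smul, e1])
    by_cases e2 : (n₀ * n₀) • a = b
    · exfalso
      have h := reg a _ _ (N.mul_mem hn₀ hn₀) hn₀ (by rw [e2, hn₀b])
      have : n₀ = 1 := mul_left_cancel (h.trans (mul_one n₀).symm)
      rw [this, one_smul] at hn₀b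
      exact hab hn₀b
    exact absurd (h3 g a b _ hab (Ne.symm e2) (Ne.symm e1) hga hgb hfixc) hg1
  have all : ∀ n ∈ N, n * n = 1 := by
    intro n hn
    by_cases hna : n • a = a
    · have : n = 1 := reg a n 1 hn N.one_mem (by rw [one_smul, hna])
      rw [this, one_mul]
    obtain ⟨h, hha, hhb⟩ := (MulAction.is_two_pretransitive_iff).1 h2 hab (Ne.symm hna)
    have e : h * n₀ * h⁻¹ = n := by
      refine reg a _ _ (Subgroup.Normal.conj_mem inferInstance n₀ hn₀ h) hn ?_
      rw [mul_smul, mul_smul, show h⁻¹ • a = a by rw [inv_smul_eq_iff, hha], hn₀b, hhb]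
    rw [← e, show h * n₀ * h⁻¹ * (h * n₀ * h⁻¹) = h * (n₀ * n₀) * h⁻¹ by group, hsq, mul_one, mul_inv_cancel]
  have hp : IsPGroup 2 N := fun n => ⟨1, Subtype.ext (by rw [pow_one, pow_two]; exact all n.1 n.2)⟩
  haveI : Fact (Nat.Prime 2) := ⟨Nat.prime_two⟩
  have bij : Function.Bijective (fun n : N => (n : G) • a) := by
    constructor
    · intro n m h
      exact Subtype.ext (reg a _ _ n.2 m.2 h)
    · intro c
      obtain ⟨n, hn⟩ := hNt.exists_smul_eq a c
      exact ⟨n, hn⟩
  haveI : Finite N := Finite.of_injective _ bij.1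
  haveI : Finite G := Finite.of_injective (MulAction.toPermHom G Ω) MulAction.toPerm_injective
  let S := MulAction.stabilizer G a
  let H : Subgroup S := (MulAction.stabilizer G b).subgroupOf S
  have htr : ∀ c : Ω, c ≠ a → ∃ s : S, (s : G) • b = c := fun c hc => by
    obtain ⟨h, hha, hhb⟩ := (MulAction.is_two_pretransitive_iff).1 h2 hab (Ne.symm hc)
    exact ⟨⟨h, hha⟩, hhb⟩
  have hF : Cfsg.IsFrobeniusComplement H := by
    refine ⟨fun e => ?_, fun e => ?_, fun s hs => ?_⟩
    · have : (⟨g, hga⟩ : S) ∈ H := hgb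
      rw [e, Subgroup.mem_bot] at this
      exact hg1 (congrArg Subtype.val this)
    · refine hg1 (MulAction.toPerm_injective (α := G) (β := Ω) (Equiv.ext fun c => ?_))
      show g • c = (1 : G) • c
      rw [one_smul]
      by_cases hc : c = a
      · rw [hc, hga]
      obtain ⟨s, hs⟩ := htr c hc
      have : (s : G) • b = b := (show s ∈ H from e ▸ Subgroup.mem_top s)
      rw [← hs, this, hgb]
    · rw [eq_bot_iff]
      intro z hz
      obtain ⟨hz1, w, hw, rfl⟩ := Subgroup.mem_inf.1 hz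
      rw [Subgroup.mem_bot]
      refine Subtype.ext (h3 _ a b ((s : G) • b) hab (Ne.symm hs) ?_ (MulAut.conj s • w : S).2 hz1 ?_)
      · exact fun e => hab ((MulAction.injective (s : G)) (by show (s : G) • a = (s : G) • b; rw [← e]; exact s.2))
      · show ((s : G) * (w : G) * (s : G)⁻¹) • ((s : G) • b) = _
        rw [smul_smul, inv_mul_cancel_right, mul_smul, show (w : G) • b = b from hw]
  obtain ⟨K, hKset, hKn, hKc⟩ := CfsgLib.Solv.frobenius_theorem hF
  haveI := hKn
  have hKfree : ∀ k : S, k ∈ K → k ≠ 1 → ∀ c, c ≠ a → (k : G) • c ≠ c := by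
    intro k hk hk1 c hc e
    rw [← SetLike.mem_coe, hKset, CfsgLib.Solv.mem_frobeniusKernel_iff] at hk
    obtain ⟨s, rfl⟩ := htr c hc
    refine (hk.resolve_left hk1) s ?_
    show ((s : G)⁻¹ * (k : G) * (s : G)) • b = b
    rw [mul_smul, mul_smul, e, inv_smul_smul]
  have hKtr : ∀ c : Ω, c ≠ a → ∃ k : S, k ∈ K ∧ (k : G) • b = c := fun c hc => by
    obtain ⟨s, hs⟩ := htr c hc
    obtain ⟨⟨⟨k, hk⟩, ⟨h, hh⟩⟩, e⟩ := hKc.2 s
    refine ⟨k, hk, ?_⟩
    rw [← hs, ← e]
    show _ = ((k : G) * (h : G)) • b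
    rw [mul_smul, show (h : G) • b = b from hh]
  have hfpf : ∀ k : S, k ∈ K → k ≠ 1 → ∀ n ∈ N, n * (k : G) = (k : G) * n → n = 1 := by
    intro k hk hk1 n hn e
    by_contra hn1
    refine hKfree k hk hk1 (n • a) (fun h => hn1 (reg a n 1 hn N.one_mem (by rw [h, one_smul]))) ?_
    rw [← mul_smul, ← e, mul_smul, show (k : G) • a = a from k.2]
  have hcommN : ∀ x ∈ N, ∀ y ∈ N, x * y = y * x := fun x hx y hy => by
    calc x * y = (x * y)⁻¹ := eq_inv_of_mul_eq_one_left (all _ (N.mul_mem hx hy))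
      _ = y * x := by rw [mul_inv_rev, inv_eq_of_mul_eq_one_right (all x hx), inv_eq_of_mul_eq_one_right (all y hy)]
  have hN : N ≠ ⊥ := fun e => by
    have h : n₀ = 1 := (Subgroup.mem_bot).1 (e ▸ hn₀)
    rw [h, one_smul] at hn₀b; exact hab hn₀b
  -- the kernel is cyclic
  have hKnil : Group.IsNilpotent K := CfsgLib.Solv.frobenius_isNilpotent hF hKc.disjoint.eq_bot
  have hinv : ∀ k : S, k ∈ K → orderOf k ≠ 2 := by
    intro k hk ho
    have hk1 : k ≠ 1 := fun e => by rw [e, orderOf_one] at ho; omega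
    have hkk : (k : G) * k = 1 := congrArg Subtype.val (show k * k = 1 by rw [← pow_two, ← ho, pow_orderOf_eq_one])
    have hm : (k : G) * n₀ * (k : G)⁻¹ ∈ N := Subgroup.Normal.conj_mem inferInstance n₀ hn₀ _
    have e1 := hfpf k hk hk1 (n₀ * ((k : G) * n₀ * (k : G)⁻¹)) (N.mul_mem hn₀ hm) (by
      rw [inv_eq_of_mul_eq_one_right hkk] at hm ⊢
      calc n₀ * (↑k * n₀ * ↑k) * ↑k = n₀ * (↑k * n₀) * (↑k * ↑k) := by group
        _ = (↑k * ↑k) * (n₀ * (↑k * n₀)) := by rw [hkk, mul_one, one_mul]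
        _ = ↑k * ((↑k * n₀ * ↑k) * n₀) * (↑k * ↑k) := by
          rw [hkk, one_mul, mul_one]
          calc n₀ * (↑k * n₀) = (↑k * ↑k) * n₀ * (↑k * n₀) := by rw [hkk, one_mul]
            _ = _ := by group
        _ = ↑k * (n₀ * (↑k * n₀ * ↑k)) := by rw [hkk, mul_one, hcommN _ hm _ hn₀])
    have e2 : (k : G) * n₀ * (k : G)⁻¹ = n₀ := by
      rw [mul_eq_one_iff_inv_eq.1 e1 |>.symm, inv_eq_of_mul_eq_one_right (all n₀ hn₀)]
    have := hfpf k hk hk1 n₀ hn₀ (mul_inv_eq_iff_eq_mul.1 e2).symm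
    rw [this, one_smul] at hn₀b; exact hab hn₀b
  have hKodd : Odd (Nat.card K) := by
    rw [Nat.odd_iff]
    by_contra hodd
    obtain ⟨k, hk⟩ := exists_prime_orderOf_dvd_card' (G := K) 2 (by omega)
    exact hinv k k.2 (by rw [Subgroup.orderOf_coe, hk])
  haveI : IsZGroup K := by
    refine ⟨fun r hr R => ?_⟩
    haveI := Fact.mk hr
    by_cases hr2 : r = 2
    · subst hr2
      have h1 : Nat.card (R : Subgroup K) = 1 := by
        obtain ⟨j, hj⟩ := IsPGroup.iff_card.1 R.2
        rcases Nat.eq_zero_or_pos j with rfl | hj0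
        · rw [hj, pow_zero]
        · exfalso
          have h2 : 2 ∣ Nat.card (R : Subgroup K) := hj ▸ dvd_pow_self 2 hj0.ne'
          have := h2.trans (Subgroup.card_subgroup_dvd_card _)
          rw [Nat.odd_iff] at hKodd; omega
      haveI : Subsingleton (R : Subgroup K) := (Nat.card_eq_one_iff_unique.1 h1).1
      infer_instance
    refine (CfsgLib.Solv.pgroup_unique_sub R.2 fun x y hx hy => ?_).resolve_right fun e => hr2 e.1
    obtain ⟨w, hw⟩ : ∃ w : Subgroup.center (R : Subgroup K), orderOf w = r := by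
      haveI : Nontrivial (R : Subgroup K) := nontrivial_of_ne x 1 fun e => by rw [e, orderOf_one] at hx; exact hr.ne_one hx.symm
      haveI := R.2.center_nontrivial
      exact exists_prime_orderOf_dvd_card' r (by
        obtain ⟨j, hj⟩ := IsPGroup.iff_card.1 (R.2.to_subgroup (Subgroup.center (R : Subgroup K)))
        rcases Nat.eq_zero_or_pos j with rfl | hj0
        · exact absurd (hj.trans (pow_zero r)) Finite.one_lt_card.ne'
        · exact hj ▸ dvd_pow_self r hj0.ne')
    have hw' : orderOf (w : (R : Subgroup K)) = r := by rw [Subgroup.orderOf_coe]; exact hw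
    have one : ∀ z : (R : Subgroup K), orderOf z = r → Subgroup.zpowers z = Subgroup.zpowers (w : (R : Subgroup K)) := by
      intro z hz
      let T : Subgroup (R : Subgroup K) := Subgroup.zpowers z ⊔ Subgroup.zpowers (w : (R : Subgroup K))
      let f : (R : Subgroup K) →* G := (S.subtype.comp K.subtype).comp (R : Subgroup K).subtype
      have hf : Function.Injective f := (S.subtype_injective.comp K.subtype_injective).comp (Subgroup.subtype_injective _)
      haveI : IsMulCommutative T := by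
        show IsMulCommutative ↥(Subgroup.zpowers z ⊔ Subgroup.zpowers (w : (R : Subgroup K)))
        rw [Subgroup.zpowers_eq_closure, Subgroup.zpowers_eq_closure, ← Subgroup.closure_union]
        refine Subgroup.isMulCommutative_closure ?_
        rintro u (rfl | rfl) v (rfl | rfl)
        all_goals first | rfl | exact Subgroup.mem_center_iff.1 w.2 _ | exact (Subgroup.mem_center_iff.1 w.2 _).symm
      haveI : IsMulCommutative (T.map f) := Subgroup.map_isMulCommutative T f
      haveI hc : IsCyclic (T.map f) := CfsgLib.Solv.isCyclic_of_fpf_abelian hN (fun u _ => by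
          rw [Subgroup.normalizer_eq_top N]; trivial) (by
          rintro _ ⟨u, -, rfl⟩ hu
          rw [eq_bot_iff]
          intro n hn'
          obtain ⟨hnN, hnC⟩ := Subgroup.mem_inf.1 hn'
          rw [Subgroup.mem_bot]
          exact hfpf ((u : K) : S) (u : K).2 (fun e => hu (by show ((((u : K) : S)) : G) = 1; rw [e]; rfl)) n hnN
            (Subgroup.mem_centralizer_singleton_iff.1 hnC))
      haveI : IsCyclic T := (T.equivMapOfInjective f hf).symm.isCyclic.1 hc
      have hzT : Subgroup.zpowers z ≤ T := le_sup_left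
      have hwT : Subgroup.zpowers (w : (R : Subgroup K)) ≤ T := le_sup_right
      have e := CfsgLib.Base.BS.cyclic_subgroup_ext (C := T) (H := (Subgroup.zpowers z).subgroupOf T)
        (K := (Subgroup.zpowers (w : (R : Subgroup K))).subgroupOf T) (by
          rw [Nat.card_congr (Subgroup.subgroupOfEquivOfLe hzT).toEquiv, Nat.card_congr (Subgroup.subgroupOfEquivOfLe hwT).toEquiv,
            Nat.card_zpowers, Nat.card_zpowers, hz, hw'])
      exact (inf_eq_left.2 hzT).symm.trans ((Subgroup.subgroupOf_inj.1 e).trans (inf_eq_left.2 hwT))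
    rw [one x hx, ← one y hy]
    exact Subgroup.mem_zpowers y
  haveI := hKnil
  haveI hKcyc : IsCyclic K := inferInstance
  have hKcomm : ∀ k l : K, k * l = l * k := fun k l => (IsCyclic.commGroup (α := K)).mul_comm k l
  -- the field
  haveI : IsMulCommutative N := ⟨⟨fun u v => Subtype.ext (hcommN _ u.2 _ v.2)⟩⟩
  letI : CommGroup N := { (inferInstance : Group N) with mul_comm := fun u v => Subtype.ext (hcommN _ u.2 _ v.2) }
  let φ : S →* AddMonoid.End (Additive N) :=
    { toFun := fun s => MonoidHom.toAdditive ((MulAut.conjNormal (s : G) : MulAut N).toMonoidHom)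
      map_one' := AddMonoidHom.ext fun u => Additive.toMul.injective (Subtype.ext (by
        show ((1 : S) : G) * (u.toMul : G) * ((1 : S) : G)⁻¹ = (u.toMul : G)
        simp))
      map_mul' := fun s t => AddMonoidHom.ext fun u => Additive.toMul.injective (Subtype.ext (by
        show ((s * t : S) : G) * (u.toMul : G) * ((s * t : S) : G)⁻¹ = (s : G) * ((t : G) * (u.toMul : G) * (t : G)⁻¹) * (s : G)⁻¹
        simp [mul_assoc])) }
  have hφ : ∀ (s : S) (u : Additive N), ((φ s u).toMul : G) = (s : G) * (u.toMul : G) * (s : G)⁻¹ := fun s u => rfl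
  have hφφ : ∀ s, φ s⁻¹ * φ s = 1 := fun s => by rw [← map_mul, inv_mul_cancel, map_one]
  let v0 : Additive N := Additive.ofMul ⟨n₀, hn₀⟩
  have horb : ∀ u : Additive N, u ≠ 0 → ∃ k : S, k ∈ K ∧ φ k v0 = u := by
    intro u hu
    have hua : (u.toMul : G) • a ≠ a := fun e => hu (Additive.toMul.injective (Subtype.ext
      (reg a _ 1 u.toMul.2 N.one_mem (by rw [one_smul, e]))))
    obtain ⟨k, hk, hkb⟩ := hKtr _ hua
    refine ⟨k, hk, Additive.toMul.injective (Subtype.ext (reg a _ _ (φ k v0).toMul.2 u.toMul.2 ?_))⟩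
    show ((k : G) * n₀ * (k : G)⁻¹) • a = _
    rw [mul_smul, mul_smul, show ((k : G))⁻¹ • a = a from inv_smul_eq_iff.2 k.2.symm, hn₀b, hkb]
  let Ks : Set (AddMonoid.End (Additive N)) := φ '' (K : Set S)
  have hcomm : ∀ u ∈ Ks, ∀ v ∈ Ks, u * v = v * u := by
    rintro _ ⟨k, hk, rfl⟩ _ ⟨l, hl, rfl⟩
    rw [← map_mul, ← map_mul]
    exact congrArg φ (congrArg Subtype.val (hKcomm ⟨k, hk⟩ ⟨l, hl⟩))
  let A : Subring (AddMonoid.End (Additive N)) := Subring.closure Ks
  letI : CommRing A := Subring.closureCommRingOfComm hcomm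
  have hKA : ∀ k, k ∈ K → φ k ∈ A := fun k hk => Subring.subset_closure ⟨k, hk, rfl⟩
  let ev : A → Additive N := fun u => (u : AddMonoid.End (Additive N)) v0
  have hev0 : ∀ u : A, ev u = 0 → u = 0 := by
    intro u hu
    refine Subtype.ext (AddMonoidHom.ext fun w => ?_)
    by_cases hw : w = 0
    · rw [hw]; exact map_zero (u : AddMonoid.End (Additive N))
    obtain ⟨k, hk, rfl⟩ := horb w hw
    have e : u * ⟨φ k, hKA k hk⟩ = ⟨φ k, hKA k hk⟩ * u := mul_comm _ _
    show (u : AddMonoid.End (Additive N)) (φ k v0) = 0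
    rw [show (u : AddMonoid.End (Additive N)) (φ k v0) = φ k (ev u) from DFunLike.congr_fun (congrArg Subtype.val e) v0, hu, map_zero]
  have hevi : Function.Injective ev := fun u v h => sub_eq_zero.1 (hev0 _ (show ev u - ev v = 0 by rw [h, sub_self]))
  have hevs : Function.Surjective ev := fun w => by
    by_cases hw : w = 0
    · exact ⟨0, hw.symm⟩
    obtain ⟨k, hk, e⟩ := horb w hw
    exact ⟨⟨φ k, hKA k hk⟩, e⟩
  haveI : Finite A := Finite.of_injective ev hevi
  have hv0 : v0 ≠ 0 := fun e => by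
    have e' : n₀ = 1 := congrArg (fun z : Additive N => (z.toMul : G)) e
    rw [e', one_smul] at hn₀b; exact hab hn₀b
  haveI : Nontrivial A := ⟨1, 0, fun e => hv0 (by have := congrArg ev e; simpa [ev] using this)⟩
  haveI : NoZeroDivisors A := ⟨fun {u v} h => by
    by_cases hv : v = 0
    · exact Or.inr hv
    left
    obtain ⟨k, hk, e⟩ := horb (ev v) (fun e => hv (hev0 v e))
    rw [show v = ⟨φ k, hKA k hk⟩ from hevi e.symm] at h
    calc u = u * (⟨φ k, hKA k hk⟩ * ⟨φ k⁻¹, hKA _ (K.inv_mem hk)⟩) := by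
          rw [show (⟨φ k, hKA k hk⟩ * ⟨φ k⁻¹, hKA _ (K.inv_mem hk)⟩ : A) = 1 from Subtype.ext (by show φ k * φ k⁻¹ = 1; rw [← map_mul, mul_inv_cancel, map_one]), mul_one]
      _ = 0 := by rw [← mul_assoc, h, zero_mul]⟩
  haveI : IsDomain A := NoZeroDivisors.to_isDomain A
  letI : Field A := (Finite.isField_of_domain A).toField
  have hconj : ∀ (s : S) (u : AddMonoid.End (Additive N)), u ∈ A → φ s * u * φ s⁻¹ ∈ A := by
    intro s u hu
    induction hu using Subring.closure_induction with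
    | mem v hv =>
      obtain ⟨k, hk, rfl⟩ := hv
      rw [← map_mul, ← map_mul]
      exact hKA _ (hKn.conj_mem k hk s)
    | zero => rw [mul_zero, zero_mul]; exact A.zero_mem
    | one => rw [mul_one, ← map_mul, mul_inv_cancel, map_one]; exact A.one_mem
    | add v w _ _ hv hw => rw [mul_add, add_mul]; exact A.add_mem hv hw
    | neg v _ hv =>
      have e : φ s * -v * φ s⁻¹ = -(φ s * v * φ s⁻¹) := AddMonoidHom.ext fun w => by
        show φ s (-(v (φ s⁻¹ w))) = -(φ s (v (φ s⁻¹ w)))
        exact map_neg _ _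
      rw [e]; exact A.neg_mem hv
    | mul v w _ _ hv hw =>
      rw [show φ s * (v * w) * φ s⁻¹ = (φ s * v * φ s⁻¹) * (φ s * w * φ s⁻¹) by
        simp only [mul_assoc]; rw [← mul_assoc (φ s⁻¹) (φ s), hφφ, one_mul]]
      exact A.mul_mem hv hw
  let σ : S → RingAut A := fun s =>
    { toFun := fun u => ⟨φ s * u * φ s⁻¹, hconj s _ u.2⟩
      invFun := fun u => ⟨φ s⁻¹ * u * φ s, by simpa using hconj s⁻¹ _ u.2⟩
      left_inv := fun u => Subtype.ext (by
        show φ s⁻¹ * (φ s * (u : AddMonoid.End (Additive N)) * φ s⁻¹) * φ s = (u : AddMonoid.End (Additive N))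
        simp only [mul_assoc]; rw [hφφ, mul_one, ← mul_assoc, hφφ, one_mul])
      right_inv := fun u => Subtype.ext (by
        show φ s * (φ s⁻¹ * (u : AddMonoid.End (Additive N)) * φ s) * φ s⁻¹ = (u : AddMonoid.End (Additive N))
        simp only [mul_assoc]; rw [← map_mul, mul_inv_cancel, map_one, mul_one, ← mul_assoc, ← map_mul, mul_inv_cancel, map_one, one_mul])
      map_mul' := fun u v => Subtype.ext (by
        show φ s * ((u : AddMonoid.End (Additive N)) * (v : AddMonoid.End (Additive N))) * φ s⁻¹ = (φ s * (u : AddMonoid.End (Additive N)) * φ s⁻¹) * (φ s * (v : AddMonoid.End (Additive N)) * φ s⁻¹)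
        simp only [mul_assoc]; rw [← mul_assoc (φ s⁻¹) (φ s), hφφ, one_mul])
      map_add' := fun u v => Subtype.ext (by
        show φ s * ((u : AddMonoid.End (Additive N)) + (v : AddMonoid.End (Additive N))) * φ s⁻¹ = (φ s * (u : AddMonoid.End (Additive N)) * φ s⁻¹) + (φ s * (v : AddMonoid.End (Additive N)) * φ s⁻¹)
        rw [mul_add, add_mul]) }
  let ρ : S →* RingAut A :=
    { toFun := σ
      map_one' := RingEquiv.ext fun u => Subtype.ext (by
        show φ 1 * (u : AddMonoid.End (Additive N)) * φ 1⁻¹ = (u : AddMonoid.End (Additive N))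
        rw [inv_one, map_one, one_mul, mul_one])
      map_mul' := fun s t => RingEquiv.ext fun u => Subtype.ext (by
        show φ (s * t) * (u : AddMonoid.End (Additive N)) * φ (s * t)⁻¹ = φ s * (φ t * (u : AddMonoid.End (Additive N)) * φ t⁻¹) * φ s⁻¹
        rw [mul_inv_rev, map_mul, map_mul]
        simp only [mul_assoc]) }
  obtain ⟨q, hq, hqd⟩ := Nat.exists_prime_and_dvd (fun e => hF.1 (Subgroup.card_eq_one.1 e))
  haveI := Fact.mk hq
  obtain ⟨⟨x, hxH⟩, hxo⟩ := exists_prime_orderOf_dvd_card' q hqd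
  rw [Subgroup.orderOf_mk] at hxo
  have hx1 : x ≠ 1 := fun e => by rw [e, orderOf_one] at hxo; exact hq.ne_one hxo.symm
  have hxv : φ x v0 = v0 := Additive.toMul.injective (Subtype.ext (reg a _ _ (φ x v0).toMul.2 hn₀ (by
    show ((x : G) * n₀ * (x : G)⁻¹) • a = n₀ • a
    rw [mul_smul, mul_smul, show (x : G)⁻¹ • a = a from inv_smul_eq_iff.2 x.2.symm, hn₀b, show (x : G) • b = b from hxH])))
  have hxinv : φ x⁻¹ v0 = v0 := by
    conv_lhs => rw [← hxv]
    exact DFunLike.congr_fun (hφφ x) v0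
  have hfixV : ∀ w : Additive N, φ x w = w → w = 0 ∨ w = v0 := by
    intro w hw
    by_cases e1 : (w.toMul : G) • a = a
    · exact Or.inl (Additive.toMul.injective (Subtype.ext (reg a _ 1 w.toMul.2 N.one_mem (by rw [one_smul, e1]))))
    by_cases e2 : (w.toMul : G) • a = b
    · exact Or.inr (Additive.toMul.injective (Subtype.ext (reg a _ _ w.toMul.2 hn₀ (by rw [e2]; exact hn₀b.symm))))
    refine absurd (Subtype.ext (h3 (x : G) a b _ hab (Ne.symm e2) (Ne.symm e1) x.2 hxH ?_)) hx1
    have e : (x : G) * (w.toMul : G) * (x : G)⁻¹ = (w.toMul : G) := congrArg (fun z : Additive N => (z.toMul : G)) hw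
    nth_rewrite 2 [← e]
    rw [mul_smul, mul_smul, show (x : G)⁻¹ • a = a from inv_smul_eq_iff.2 x.2.symm]
  let M : Subgroup (RingAut A) := Subgroup.zpowers (ρ x)
  have hne : ρ x ≠ 1 := by
    intro e
    have hall : ∀ w, φ x w = w := fun w => by
      obtain ⟨u, rfl⟩ := hevs w
      have h1 : φ x * (u : AddMonoid.End (Additive N)) * φ x⁻¹ = (u : AddMonoid.End (Additive N)) := congrArg Subtype.val (RingEquiv.congr_fun e u)
      have h2 := DFunLike.congr_fun h1 v0
      change φ x ((u : AddMonoid.End (Additive N)) (φ x⁻¹ v0)) = _ at h2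
      rw [hxinv] at h2
      exact h2
    refine hx1 (Subtype.ext (MulAction.toPerm_injective (α := G) (β := Ω) (Equiv.ext fun c => ?_)))
    show (x : G) • c = (1 : G) • c
    rw [one_smul]
    obtain ⟨n, rfl⟩ := bij.2 c
    have e' : (x : G) * (n : G) * (x : G)⁻¹ = (n : G) := congrArg (fun z : Additive N => (z.toMul : G)) (hall (Additive.ofMul n))
    show (x : G) • ((n : G) • a) = (n : G) • a
    nth_rewrite 2 [← e']
    rw [mul_smul, mul_smul, show (x : G)⁻¹ • a = a from inv_smul_eq_iff.2 x.2.symm]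
  have hρo : orderOf (ρ x) = q := orderOf_eq_prime (by rw [← map_pow, ← hxo, pow_orderOf_eq_one, map_one]) hne
  haveI : Finite M := Nat.finite_of_card_ne_zero (by rw [Nat.card_zpowers, hρo]; exact hq.ne_zero)
  letI := Fintype.ofFinite M
  haveI : FaithfulSMul M A := ⟨fun {u v} h => Subtype.ext (RingEquiv.ext h)⟩
  have hdim : Module.finrank (FixedPoints.subfield M A) A = q := by
    rw [FixedPoints.finrank_eq_card M A, ← Nat.card_eq_fintype_card, Nat.card_zpowers, hρo]
  have hfix : Nat.card (FixedPoints.subfield M A) = 2 := by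
    rw [Nat.card_eq_two_iff]
    refine ⟨0, 1, zero_ne_one, Set.eq_univ_of_forall fun u => ?_⟩
    have h1 : φ x * ((u : A) : AddMonoid.End (Additive N)) * φ x⁻¹ = ((u : A) : AddMonoid.End (Additive N)) :=
      congrArg Subtype.val (u.2 ⟨ρ x, Subgroup.mem_zpowers _⟩)
    have h2 := DFunLike.congr_fun h1 v0
    change φ x (((u : A) : AddMonoid.End (Additive N)) (φ x⁻¹ v0)) = _ at h2
    rw [hxinv] at h2
    rcases hfixV (ev (u : A)) h2 with e | e
    · left; exact Subtype.ext (hev0 _ e)
    · right; exact Subtype.ext (hevi (e.trans rfl))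
  refine ⟨q, hq, ?_⟩
  rw [← Nat.card_eq_fintype_card, ← Nat.card_eq_of_bijective _ bij,
    ← Nat.card_congr (Additive.ofMul : N ≃ Additive N).symm, ← Nat.card_eq_of_bijective ev ⟨hevi, hevs⟩,
    Module.natCard_eq_pow_finrank (K := FixedPoints.subfield M A), hfix, hdim]

end Cfsg.Agent.S0341
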