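import Cfsg.Statements.S0351
import Cfsg.Agent.Spor.SteinerCount
import Mathlib
-- import your own Cfsg.Agent.* helpers here

set_option autoImplicit false
open Cfsg

namespace Cfsg.Agent.S0351

open CfsgLib.Spor.SteinerCount Finset

/-- Derived design: removing a point p from the blocks through p of an S(t+1, k+1, v) yields an S(t, k, v-1) on the points other than p. -/
theorem result {α : Type*} [Fintype α] [DecidableEq α] {t k : ℕ} {B : Set (Finset α)} (hB : Cfsg.IsSteinerSystem (t + 1) (k + 1) B) (p : α) : Cfsg.IsSteinerSystem t k {b' : Finset {a : α // a ≠ p} | ∃ b ∈ B, p ∈ b ∧ b' = Finset.subtype (fun a => a ≠ p) b} := by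
  refine ⟨?_, fun s hs => ?_⟩
  · rintro _ ⟨b, hb, hp, rfl⟩
    rw [card_subtype, filter_ne', card_erase_of_mem hp, hB.1 b hb]
    rfl
  · set T := insert p (s.map (Function.Embedding.subtype _)) with hT
    have hTc : T.card = t + 1 := by
      rw [hT, card_insert_of_notMem, card_map, hs]
      simp [mem_map]
    obtain ⟨b, ⟨hb, hTb⟩, huniq⟩ := hB.2 T hTc
    refine ⟨Finset.subtype (fun a => a ≠ p) b, ⟨⟨b, hb, hTb (mem_insert_self _ _), rfl⟩, fun x hx => ?_⟩, ?_⟩
    · rw [mem_subtype]; exact hTb (mem_insert_of_mem (mem_map_of_mem _ hx))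
    · rintro _ ⟨⟨c, hc, hpc, rfl⟩, hsc⟩
      rw [huniq c ⟨hc, fun x hx => ?_⟩]
      rcases mem_insert.1 hx with rfl | hx
      · exact hpc
      · obtain ⟨y, hy, rfl⟩ := mem_map.1 hx
        exact mem_subtype.1 (hsc hy)

end Cfsg.Agent.S0351
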