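import Cfsg.Statements.S0355
import Cfsg.Agent.Spor.SteinerCount
import Mathlib
-- import your own Cfsg.Agent.* helpers here

set_option autoImplicit false
open Cfsg

namespace Cfsg.Agent.S0355

open CfsgLib.Spor.SteinerCount Finset

/-- In a Steiner system S(4, 7, 23), two distinct blocks intersect in 1 or 3 points. -/
theorem result {α : Type*} [Fintype α] [DecidableEq α] (hα : Fintype.card α = 23) {B : Set (Finset α)} (hB : Cfsg.IsSteinerSystem 4 7 B) {b c : Finset α} (hb : b ∈ B) (hc : c ∈ B) (hbc : b ≠ c) : (b ∩ c).card = 1 ∨ (b ∩ c).card = 3 := by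
  obtain ⟨h0, h2⟩ := meet_seven hB hα hc
  have h4 : (b ∩ c).card < 4 := by
    by_contra h
    exact hbc (eq_of_five hB hb hc (by omega))
  have hp := meet_pos (X := c) hb
  rcases (by omega : (b ∩ c).card = 0 ∨ (b ∩ c).card = 1 ∨ (b ∩ c).card = 2 ∨ (b ∩ c).card = 3) with e | e | e | e
  · rw [e, h0] at hp; exact absurd hp (lt_irrefl 0)
  · exact Or.inl e
  · rw [e, h2] at hp; exact absurd hp (lt_irrefl 0)
  · exact Or.inr e

end Cfsg.Agent.S0355
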