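import Cfsg.Statements.S0357
import Cfsg.Agent.Spor.SteinerCount
import Mathlib
-- import your own Cfsg.Agent.* helpers here

set_option autoImplicit false
open Cfsg

namespace Cfsg.Agent.S0357

open CfsgLib.Spor.SteinerCount Finset

/-- In a Steiner system S(5, 6, 12), the complement of every block is again a block. -/
theorem result {α : Type*} [Fintype α] [DecidableEq α] (hα : Fintype.card α = 12) {B : Set (Finset α)} (hB : Cfsg.IsSteinerSystem 5 6 B) {b : Finset α} (hb : b ∈ B) : bᶜ ∈ B := by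
  obtain ⟨c, hc⟩ := card_eq_one.1 (meet_twelve hB hα hb).1
  obtain ⟨hcB, hcb⟩ := mem_filter.1 (show c ∈ (blocks B).filter fun x => (x ∩ b).card = 0 from hc ▸ mem_singleton_self c)
  have hsub : c ⊆ bᶜ := by
    intro x hx
    rw [mem_compl]
    exact fun hxb => (card_eq_zero.1 hcb ▸ mem_inter.2 ⟨hx, hxb⟩ : x ∈ (∅ : Finset α)) |> notMem_empty x
  have : c = bᶜ := eq_of_subset_of_card_le hsub (by rw [card_compl, hB.1 b hb, hα, hB.1 c (mem_blocks.1 hcB)])
  exact this ▸ mem_blocks.1 hcB

end Cfsg.Agent.S0357
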