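import Cfsg.Statements.S0362
import Cfsg.Agent.Spor.Octads
-- import your own Cfsg.Agent.* helpers here

set_option autoImplicit false
open Cfsg

namespace Cfsg.Agent.S0362

open CfsgLib.Spor

/-- The length-24 code is self-orthogonal: the dot product over ZMod 2 of any two of its words vanishes (with dimension 12 this makes it self-dual). -/
theorem result (v w : Cfsg.GolayPt → ZMod 2) (hv : v ∈ Cfsg.golayCode) (hw : w ∈ Cfsg.golayCode) : ∑ i, v i * w i = 0 := by
  have h := even_inter (mem_code_iff.1 hv) (mem_code_iff.1 hw)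
  have key : ∀ a b : ZMod 2, a * b = if a ≠ 0 ∧ b ≠ 0 then 1 else 0 := by decide
  have e : (Finset.univ.filter fun i => v i ≠ 0 ∧ w i ≠ 0) =
      Cfsg.support₂ v ∩ Cfsg.support₂ w := by
    ext i; simp [mem_supp]
  simp_rw [key]
  rw [Finset.sum_boole, e]
  exact (ZMod.natCast_eq_zero_iff_even).2 (even_iff_two_dvd.2 h)

end Cfsg.Agent.S0362
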