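import Cfsg.Statements.S0384
import Cfsg.Agent.Spor.StabConj
-- import your own Cfsg.Agent.* helpers here

set_option autoImplicit false
open scoped Pointwise
open Cfsg

namespace Cfsg.Agent.S0384

open CfsgLib.Spor
open scoped Pointwise

/-- A dodecad stabiliser is sharply 5-transitive on the dodecad. -/
theorem result (d : Finset Cfsg.GolayPt) (hd : d ∈ Cfsg.dodecads) (x y : Fin 5 ↪ Cfsg.GolayPt) (hx : ∀ i, x i ∈ d) (hy : ∀ i, y i ∈ d) : ∃! g : MulAction.stabilizer Cfsg.M24 d, ∀ i, ((g : Cfsg.M24) : Equiv.Perm Cfsg.GolayPt) (x i) = y i := by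
  obtain ⟨σ, hσ, rfl⟩ := dodecad_std hd
  have hm : ∀ z : Fin 5 ↪ Cfsg.GolayPt, (∀ i, z i ∈ σ • D0) →
      ∀ i, (z.trans σ⁻¹.toEmbedding) i ∈ ofMask dodX := by
    intro z hz i
    refine (mem_smul_iff (σ := σ)).1 ?_
    simpa [D0] using hz i
  obtain ⟨⟨g, hg, hgx⟩, -⟩ := transitive_of_chain dodC_sub dodC_card dodC_ok.1
    (x.trans σ⁻¹.toEmbedding) (y.trans σ⁻¹.toEmbedding) (hm x hx) (hm y hy)
  obtain ⟨-, huniq⟩ := transitive_of_chain dodC_sub dodC_card dodC_ok.1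
    (x.trans σ⁻¹.toEmbedding) (x.trans σ⁻¹.toEmbedding) (hm x hx) (hm x hx)
  rw [dodC_ok.2.2.2] at huniq
  have hg' := hg
  rw [← stab_D0_eq] at hg'
  obtain ⟨hgM, hgD⟩ := hg'
  have e : ∀ i, (σ * g * σ⁻¹) (x i) = y i := by
    intro i
    have := hgx i
    simp only [Function.Embedding.trans_apply, Equiv.coe_toEmbedding] at this
    simp only [Equiv.Perm.mul_apply, this]
    simp
  refine ⟨⟨⟨σ * g * σ⁻¹, mul_mem (mul_mem hσ hgM) (inv_mem hσ)⟩, MulAction.mem_stabilizer_iff.2 ?_⟩,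
    e, fun k hk => ?_⟩
  · show (σ * g * σ⁻¹) • σ • D0 = σ • D0
    rw [mul_smul, mul_smul, inv_smul_smul, show g • D0 = D0 from MulAction.mem_stabilizer_iff.1 hgD]
  · have hkmem : g⁻¹ * (stabEquiv hσ D0 k : Equiv.Perm Cfsg.GolayPt) ∈ gtGroup (chainTop dodStab) :=
      mul_mem (inv_mem hg) (by rw [← stab_D0_eq]; exact (stabEquiv hσ D0 k).2)
    have hkfix : ∀ i, (g⁻¹ * (stabEquiv hσ D0 k : Equiv.Perm Cfsg.GolayPt))
        ((x.trans σ⁻¹.toEmbedding) i) = (x.trans σ⁻¹.toEmbedding) i := by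
      intro i
      apply g.injective
      rw [Equiv.Perm.mul_apply, Equiv.Perm.coe_inv, Equiv.apply_symm_apply, hgx i]
      show σ⁻¹ (((k.1 : Cfsg.M24) : Equiv.Perm Cfsg.GolayPt) (σ (σ⁻¹ (x i)))) = σ⁻¹ (y i)
      rw [Equiv.Perm.coe_inv, Equiv.apply_symm_apply, hk i]
    have h1 := @Subsingleton.elim _ (Nat.card_eq_one_iff_unique.1 huniq).1
      (⟨_, hkmem, hkfix⟩ : {t : Equiv.Perm Cfsg.GolayPt // t ∈ gtGroup (chainTop dodStab) ∧
        ∀ i, t ((x.trans σ⁻¹.toEmbedding) i) = (x.trans σ⁻¹.toEmbedding) i})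
      ⟨1, one_mem _, fun _ => rfl⟩
    have h2 : g⁻¹ * (σ⁻¹ * ((k.1 : Cfsg.M24) : Equiv.Perm Cfsg.GolayPt) * σ) = 1 :=
      congrArg Subtype.val h1
    refine Subtype.ext (Subtype.ext ?_)
    show ((k.1 : Cfsg.M24) : Equiv.Perm Cfsg.GolayPt) = σ * g * σ⁻¹
    rw [inv_mul_eq_one] at h2
    rw [h2]; group

end Cfsg.Agent.S0384
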