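import Cfsg.Statements.S1610
import Cfsg.Prelude.Def_SporadicCombinatorics
import Mathlib
-- import your own Cfsg.Agent.* helpers here

set_option autoImplicit false
open Cfsg

namespace Cfsg.Agent.S1610

def addT (a b : Fin 4) : Fin 4 := ![![0, 1, 2, 3], ![1, 0, 3, 2], ![2, 3, 0, 1], ![3, 2, 1, 0]] a b

def mulT (a b : Fin 4) : Fin 4 := ![![0, 0, 0, 0], ![0, 1, 2, 3], ![0, 2, 3, 1], ![0, 3, 1, 2]] a b

def word (p : Fin 4 × Fin 4 × Fin 4) (i : Fin 6) : Fin 4 :=
  addT (addT (mulT p.1 (![2, 3, 3, 2, 3, 2] i)) (mulT p.2.1 (![3, 2, 2, 3, 3, 2] i)))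
    (mulT p.2.2 (![3, 2, 3, 2, 2, 3] i))

def wt (p : Fin 4 × Fin 4 × Fin 4) : ℕ := (Finset.univ.filter fun i => word p i ≠ 0).card

theorem word_inj : ∀ p q, word p = word q → p = q := by decide +kernel

theorem wt_cases : ∀ p, ¬(∀ i, word p i = 0) → wt p = 4 ∨ wt p = 6 := by decide +kernel

theorem table (F : Type*) [Field F] [Fintype F] (hF : Fintype.card F = 4) (ω : F) (hω : ω ^ 2 + ω + 1 = 0) :
    Function.Bijective (![0, 1, ω, ω ^ 2] : Fin 4 → F) ∧
    (∀ a b, ![0, 1, ω, ω ^ 2] (addT a b) = ![0, 1, ω, ω ^ 2] a + ![0, 1, ω, ω ^ 2] b) ∧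
    ∀ a b, ![0, 1, ω, ω ^ 2] (mulT a b) = ![0, 1, ω, ω ^ 2] a * ![0, 1, ω, ω ^ 2] b := by
  classical
  have h4 : (4 : F) = 0 := by
    have := FiniteField.cast_card_eq_zero F
    rw [hF] at this
    exact_mod_cast this
  have h2 : (2 : F) = 0 := mul_self_eq_zero.1 (by linear_combination h4)
  have w0 : ω ≠ 0 := fun h => by simp [h] at hω
  have w1 : ω ≠ 1 := fun h => one_ne_zero (α := F) (by rw [h] at hω; linear_combination hω - h2)
  have hs : ω ^ 2 ≠ 0 := pow_ne_zero _ w0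
  have hs1 : ω ^ 2 ≠ 1 := fun h => w0 (by linear_combination hω - h - h2)
  have hsw : ω ^ 2 ≠ ω := fun h => w1 (mul_left_cancel₀ w0 (by linear_combination h))
  refine ⟨(Fintype.bijective_iff_injective_and_card _).2 ⟨?_, by rw [Fintype.card_fin, hF]⟩, ?_, ?_⟩
  · intro a b h
    fin_cases a <;> fin_cases b <;>
      simp [w0, w0.symm, w1, w1.symm, hs, hs.symm, hs1, hs1.symm, hsw, hsw.symm] at h ⊢
  · intro a b
    fin_cases a <;> fin_cases b <;> simp [addT] <;> grobner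
  · intro a b
    fin_cases a <;> fin_cases b <;> simp [mulT] <;> grobner

/-- The hexacode has 64 words, minimum weight 4, and weight distribution 0^1 4^45 6^18. -/
theorem result (F : Type*) [Field F] [Fintype F] [DecidableEq F] (hF : Fintype.card F = 4) (ω : F) (hω : ω ^ 2 + ω + 1 = 0) : Nat.card ↥(Cfsg.hexacode F ω) = 64 ∧ (∀ x ∈ Cfsg.hexacode F ω, x ≠ 0 → (Finset.univ.filter fun i => x i ≠ 0).card = 4 ∨ (Finset.univ.filter fun i => x i ≠ 0).card = 6) ∧ {x : Fin 6 → F | x ∈ Cfsg.hexacode F ω ∧ (Finset.univ.filter fun i => x i ≠ 0).card = 4}.ncard = 45 ∧ {x : Fin 6 → F | x ∈ Cfsg.hexacode F ω ∧ (Finset.univ.filter fun i => x i ≠ 0).card = 6}.ncard = 18 := by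
  classical
  obtain ⟨hb, hadd, hmul⟩ := table F hF ω hω
  let e : Fin 4 → F := ![0, 1, ω, ω ^ 2]
  let v : Fin 4 × Fin 4 × Fin 4 → Fin 6 → F := fun p i => e (word p i)
  have hv : Function.Injective v := fun p q h => word_inj p q (funext fun i => hb.1 (congrFun h i))
  have hrng : ∀ x, x ∈ Cfsg.hexacode F ω ↔ ∃ p, v p = x := by
    intro x
    rw [Cfsg.hexacode, Submodule.mem_span_triple]
    have key : ∀ a b c : Fin 4, v (a, b, c) = e a • ![ω, ω ^ 2, ω ^ 2, ω, ω ^ 2, ω] +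
        e b • ![ω ^ 2, ω, ω, ω ^ 2, ω ^ 2, ω] + e c • ![ω ^ 2, ω, ω ^ 2, ω, ω, ω ^ 2] := by
      intro a b c
      funext i
      show e (word (a, b, c) i) = _
      simp only [e, word, hadd, hmul, Pi.add_apply, Pi.smul_apply, smul_eq_mul]
      fin_cases i <;> rfl
    constructor
    · rintro ⟨a, b, c, rfl⟩
      obtain ⟨a, rfl⟩ := hb.2 a
      obtain ⟨b, rfl⟩ := hb.2 b
      obtain ⟨c, rfl⟩ := hb.2 c
      exact ⟨(a, b, c), key a b c⟩
    · rintro ⟨⟨a, b, c⟩, rfl⟩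
      exact ⟨e a, e b, e c, (key a b c).symm⟩
  have hwt : ∀ p, (Finset.univ.filter fun i => v p i ≠ 0).card = wt p := by
    intro p
    rw [wt]
    refine congrArg Finset.card (Finset.filter_congr fun i _ => ?_)
    show e (word p i) ≠ 0 ↔ _
    exact not_congr (hb.1.eq_iff' rfl)
  have hN : ∀ n, {x : Fin 6 → F | x ∈ Cfsg.hexacode F ω ∧ (Finset.univ.filter fun i => x i ≠ 0).card = n}.ncard =
      (Finset.univ.filter fun p => wt p = n).card := by
    intro n
    rw [show {x : Fin 6 → F | x ∈ Cfsg.hexacode F ω ∧ (Finset.univ.filter fun i => x i ≠ 0).card = n} =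
      v '' {p | wt p = n} from ?_, Set.ncard_image_of_injective _ hv, ← Set.ncard_coe_finset, Finset.coe_filter]
    · simp only [Finset.mem_univ, true_and]
    ext x
    constructor
    · rintro ⟨h1, h2⟩
      obtain ⟨p, rfl⟩ := (hrng x).1 h1
      exact ⟨p, (hwt p).symm.trans h2, rfl⟩
    · rintro ⟨p, hp, rfl⟩
      exact ⟨(hrng _).2 ⟨p, rfl⟩, (hwt p).trans hp⟩
  refine ⟨?_, fun x hx hx0 => ?_, by rw [hN]; decide +kernel, by rw [hN]; decide +kernel⟩
  · have : ((Cfsg.hexacode F ω : Submodule F (Fin 6 → F)) : Set (Fin 6 → F)) = Set.range v :=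
      Set.ext fun x => hrng x
    rw [← SetLike.coe_sort_coe, this, Nat.card_coe_set_eq, ← Set.image_univ, Set.ncard_image_of_injective _ hv,
      Set.ncard_univ, Nat.card_eq_fintype_card]
    rfl
  · obtain ⟨p, rfl⟩ := (hrng x).1 hx
    rw [hwt]
    refine wt_cases p fun h => hx0 ?_
    funext i
    show e (word p i) = 0
    rw [h i]
    rfl

end Cfsg.Agent.S1610
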