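import Cfsg.Statements.S0380
import Cfsg.Agent.Spor.PlaneLabel
import Cfsg.Agent.Spor.StabConj
-- import your own Cfsg.Agent.* helpers here

set_option autoImplicit false
open Cfsg

namespace Cfsg.Agent.S0380

open CfsgLib.Spor
open scoped Pointwise

/-- A three-point stabiliser in the group of the length-24 code is isomorphic to PSL(3, F) for the field F with 4 elements. -/
theorem result (p q r : Cfsg.GolayPt) (hpq : p ≠ q) (hpr : p ≠ r) (hqr : q ≠ r) (F : Type) [Field F] [Fintype F] (hF : Fintype.card F = 4) : Nonempty (↥(MulAction.stabilizer Cfsg.M24 p ⊓ MulAction.stabilizer Cfsg.M24 q ⊓ MulAction.stabilizer Cfsg.M24 r) ≃* Matrix.ProjectiveSpecialLinearGroup (Fin 3) F) := by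
  haveI : MulAction.IsMultiplyPretransitive M24 GolayPt 5 := m24_five_transitive
  have hpre : MulAction.IsPretransitive M24 (Fin 3 ↪ GolayPt) :=
    MulAction.isMultiplyPretransitive_of_le (n := 5) (by norm_num) (by simp)
  have hinj : Function.Injective ![p, q, r] := by
    intro i j
    fin_cases i <;> fin_cases j <;> simp [hpq, hpr, hqr, hpq.symm, hpr.symm, hqr.symm]
  have hb : Function.Injective ![pt 23, pt 0, pt 1] := by decide +kernel
  obtain ⟨⟨σ, hσ⟩, hx⟩ := hpre.exists_smul_eq ⟨![pt 23, pt 0, pt 1], hb⟩ ⟨![p, q, r], hinj⟩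
  have hp : σ • pt 23 = p := DFunLike.congr_fun hx 0
  have hq : σ • pt 0 = q := DFunLike.congr_fun hx 1
  have hr : σ • pt 1 = r := DFunLike.congr_fun hx 2
  rw [← hp, ← hq, ← hr, stabilizer_pair, stabilizer_pair, ← Prod.smul_mk, ← Prod.smul_mk]
  have hH : M24 ⊓ MulAction.stabilizer (Equiv.Perm GolayPt) ((pt 23, pt 0), pt 1) = PlaneLabel.H := by
    ext g
    rw [PlaneLabel.mem_H, Subgroup.mem_inf, MulAction.mem_stabilizer_iff]
    simp [PlaneLabel.three, Prod.ext_iff, and_assoc, Equiv.Perm.smul_def]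
  obtain ⟨e⟩ := PlaneLabel.H_equiv F hF
  exact ⟨((stabEquiv hσ ((pt 23, pt 0), pt 1)).trans (MulEquiv.subgroupCongr hH)).trans e⟩

end Cfsg.Agent.S0380
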