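import Cfsg.Statements.S0385
import Cfsg.Agent.Spor.M24Dodecads
import Cfsg.Agent.Spor.InterFacts
-- import your own Cfsg.Agent.* helpers here

set_option autoImplicit false
open Cfsg

namespace Cfsg.Agent.S0385

open CfsgLib.Spor
open scoped Pointwise

/-- The 6-point intersections of octads with a fixed dodecad form a Steiner system S(5, 6, 12) on the dodecad. -/
theorem result (d : Finset Cfsg.GolayPt) (hd : d ∈ Cfsg.dodecads) : Cfsg.IsSteinerSystem 5 6 {h : Finset {p : Cfsg.GolayPt // p ∈ d} | ∃ o ∈ Cfsg.octads, (o ∩ d).card = 6 ∧ h = Finset.subtype (fun p => p ∈ d) o} := by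
  obtain ⟨σ, hσ, rfl⟩ := dodecad_std hd
  refine ⟨?_, fun s hs => ?_⟩
  · rintro b ⟨o, ho, h6, rfl⟩
    rw [Finset.card_subtype, Finset.filter_mem_eq_inter]; exact h6
  let t : Finset Cfsg.GolayPt := s.map (Function.Embedding.subtype _)
  have htd : t ⊆ σ • D0 := fun p hp => by
    obtain ⟨q, -, rfl⟩ := Finset.mem_map.1 hp; exact q.2
  have ht5 : t.card = 5 := by rw [Finset.card_map, hs]
  obtain ⟨o, ⟨ho, hto⟩, huniq⟩ := existsUnique_octad ht5
  have h6 : (o ∩ σ • D0).card = 6 := by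
    have h1 := dO_cases hσ ho
    rw [Finset.inter_comm] at h1
    have h2 : 5 ≤ (o ∩ σ • D0).card := ht5 ▸ Finset.card_le_card (Finset.subset_inter hto htd)
    simp only [List.mem_cons, List.not_mem_nil, or_false] at h1
    omega
  refine ⟨Finset.subtype _ o, ⟨⟨o, ho, h6, rfl⟩, fun q hq => Finset.mem_subtype.2
    (hto (Finset.mem_map_of_mem _ hq))⟩, ?_⟩
  rintro b ⟨⟨o', ho', h6', rfl⟩, hsub⟩
  rw [huniq o' ⟨ho', fun p hp => by
    obtain ⟨q, hq, rfl⟩ := Finset.mem_map.1 hp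
    exact Finset.mem_subtype.1 (hsub hq)⟩]

end Cfsg.Agent.S0385
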