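import Cfsg.Statements.S0387
import Cfsg.Agent.Spor.StabConj
-- import your own Cfsg.Agent.* helpers here

set_option autoImplicit false
open scoped Pointwise
open Cfsg

namespace Cfsg.Agent.S0387

open CfsgLib.Spor
open scoped Pointwise

/-- The stabiliser of a dodecad and a point on it has order 7920 = 2^4·3^2·5·11. -/
theorem result (d : Finset Cfsg.GolayPt) (hd : d ∈ Cfsg.dodecads) (p : Cfsg.GolayPt) (hp : p ∈ d) : Nat.card ↥(MulAction.stabilizer Cfsg.M24 d ⊓ MulAction.stabilizer Cfsg.M24 p) = 7920 := by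
  obtain ⟨σ, hσ, rfl, rfl⟩ := dod_flag1 hd hp
  rw [show (σ p0 : Cfsg.GolayPt) = σ • p0 from rfl, stabilizer_pair]
  rw [show (σ • D0, σ • p0) = σ • (D0, p0) from rfl, Nat.card_congr (stabEquiv hσ (D0, p0)).toEquiv,
    stab_amb_pair]
  exact (show _ = gtGroup (chainTop m11Stab) from m11_exact.1) ▸ m11_exact.2.1

end Cfsg.Agent.S0387
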