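import Cfsg.Statements.S0389
import Cfsg.Agent.Spor.StabConj
-- import your own Cfsg.Agent.* helpers here

set_option autoImplicit false
open scoped Pointwise
open Cfsg

namespace Cfsg.Agent.S0389

open CfsgLib.Spor
open scoped Pointwise

/-- The stabiliser of a dodecad and a point on it is 3-transitive on the complementary dodecad. -/
theorem result (d : Finset Cfsg.GolayPt) (hd : d ∈ Cfsg.dodecads) (p : Cfsg.GolayPt) (hp : p ∈ d) (x y : Fin 3 ↪ Cfsg.GolayPt) (hx : ∀ i, x i ∉ d) (hy : ∀ i, y i ∉ d) : ∃ g ∈ MulAction.stabilizer Cfsg.M24 d ⊓ MulAction.stabilizer Cfsg.M24 p, ∀ i, (g : Equiv.Perm Cfsg.GolayPt) (x i) = y i := by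
  obtain ⟨σ, hσ, rfl, rfl⟩ := dod_flag1 hd hp
  have hm : ∀ z : Fin 3 ↪ Cfsg.GolayPt, (∀ i, z i ∉ σ • D0) →
      ∀ i, (z.trans σ⁻¹.toEmbedding) i ∈ ofMask (FULL ^^^ dodX) := by
    intro z hz i
    rw [ofMask_compl, Finset.mem_compl]
    intro h
    apply hz i
    have h2 := mem_smul_iff (σ := σ).2 h
    simpa [D0] using h2
  obtain ⟨⟨g, hg, hgx⟩, -⟩ := transitive_of_chain m11C_sub m11C_card m11C_ok.1
    (x.trans σ⁻¹.toEmbedding) (y.trans σ⁻¹.toEmbedding) (hm x hx) (hm y hy)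
  have hg' := hg
  rw [← m11_exact.1] at hg'
  obtain ⟨⟨hgM, hgD⟩, hgp⟩ := hg'
  refine ⟨⟨σ * g * σ⁻¹, mul_mem (mul_mem hσ hgM) (inv_mem hσ)⟩, Subgroup.mem_inf.2
    ⟨MulAction.mem_stabilizer_iff.2 ?_, MulAction.mem_stabilizer_iff.2 ?_⟩, fun i => ?_⟩
  · show (σ * g * σ⁻¹) • σ • D0 = σ • D0
    rw [mul_smul, mul_smul, inv_smul_smul, show g • D0 = D0 from MulAction.mem_stabilizer_iff.1 hgD]
  · show (σ * g * σ⁻¹) (σ p0) = σ p0
    have hp0 : g p0 = p0 := MulAction.mem_stabilizer_iff.1 hgp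
    simp [hp0]
  · show (σ * g * σ⁻¹) (x i) = y i
    have := hgx i
    simp only [Function.Embedding.trans_apply, Equiv.coe_toEmbedding] at this
    simp only [Equiv.Perm.mul_apply, this]
    simp

end Cfsg.Agent.S0389
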