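import Cfsg.Statements.S0432
import Cfsg.Agent.Spor.LeechFacts
-- import your own Cfsg.Agent.* helpers here

set_option autoImplicit false
open Cfsg

namespace Cfsg.Agent.S0432

/-- Coordinate permutations from the code's group preserve the lattice. -/
theorem result (σ : Equiv.Perm Cfsg.GolayPt) (hσ : σ ∈ Cfsg.M24) (x : Cfsg.GolayPt → ℤ) (hx : x ∈ Cfsg.leechLattice) : (fun i => x (σ i)) ∈ Cfsg.leechLattice := by
  have h := CfsgLib.Spor.inLeech_permMap (inv_mem hσ) (CfsgLib.Spor.mem_leechLattice.1 hx)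
  have e : CfsgLib.Spor.permMap σ⁻¹ x = fun i => x (σ i) := by
    funext i
    show x ((σ⁻¹)⁻¹ i) = x (σ i)
    rw [inv_inv]
  rw [← e]
  exact CfsgLib.Spor.mem_leechLattice.2 h

end Cfsg.Agent.S0432
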