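import Cfsg.Statements.S0439
import Mathlib
-- import your own Cfsg.Agent.* helpers here

set_option autoImplicit false
open Cfsg

namespace Cfsg.Agent.S0439

/-- In the symmetric group of degree n ≥ 2, the set of transpositions is a conjugacy class of 3-transpositions which generates the group. -/
theorem result (n : ℕ) (hn : 2 ≤ n) : Cfsg.IsThreeTranspositionClass {σ : Equiv.Perm (Fin n) | σ.IsSwap} := by
  classical
  have hsq : ∀ σ : Equiv.Perm (Fin n), σ.IsSwap → σ * σ = 1 := by
    rintro σ ⟨x, y, hxy, rfl⟩; exact Equiv.swap_mul_self x y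
  refine ⟨⟨fun σ hσ => ?_, fun σ hσ τ hτ => ?_⟩, ?_, ?_⟩
  · obtain ⟨x, y, hxy, rfl⟩ := hσ
    exact orderOf_eq_prime (by rw [pow_two, Equiv.swap_mul_self]) fun k => hxy (Equiv.swap_eq_one_iff.1 k)
  · obtain ⟨x, y, hxy, rfl⟩ := hσ
    obtain ⟨u, v, huv, rfl⟩ := hτ
    have key : ∀ a b c : Fin n, a ≠ b → a ≠ c →
        (Equiv.swap a b * Equiv.swap a c) ^ 2 = 1 ∨ (Equiv.swap a b * Equiv.swap a c) ^ 3 = 1 := by
      intro a b c h1 h2
      by_cases h3 : b = c
      · left; rw [h3, Equiv.swap_mul_self, one_pow]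
      · right
        have := (Equiv.Perm.isThreeCycle_swap_mul_swap_same h1 h2 h3).orderOf
        rw [← this]; exact pow_orderOf_eq_one _
    by_cases h1 : x = u
    · subst h1; exact key x y v hxy huv
    by_cases h2 : x = v
    · subst h2; rw [Equiv.swap_comm u x]; exact key x y u hxy huv.symm
    by_cases h3 : y = u
    · subst h3; rw [Equiv.swap_comm x y]; exact key y x v hxy.symm huv
    by_cases h4 : y = v
    · subst h4; rw [Equiv.swap_comm x y, Equiv.swap_comm u y]; exact key y x u hxy.symm huv.symm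
    · left
      have hc : Commute (Equiv.swap x y) (Equiv.swap u v) := Equiv.Perm.Disjoint.commute fun k => by
        by_cases k1 : k = x
        · right; exact Equiv.swap_apply_of_ne_of_ne (k1 ▸ h1) (k1 ▸ h2)
        by_cases k2 : k = y
        · right; exact Equiv.swap_apply_of_ne_of_ne (k2 ▸ h3) (k2 ▸ h4)
        · left; exact Equiv.swap_apply_of_ne_of_ne k1 k2
      rw [pow_two, hc.symm.mul_mul_mul_comm]
      rw [Equiv.swap_mul_self, Equiv.swap_mul_self, one_mul]
  · have h01 : (⟨0, by omega⟩ : Fin n) ≠ ⟨1, by omega⟩ := by simp [Fin.ext_iff]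
    refine ⟨Equiv.swap ⟨0, by omega⟩ ⟨1, by omega⟩, ⟨_, _, h01, rfl⟩, ?_⟩
    ext σ
    constructor
    · rintro ⟨u, v, huv, rfl⟩; exact Equiv.Perm.isConj_swap h01 huv
    · intro h
      obtain ⟨g, rfl⟩ := isConj_iff.1 h
      exact ⟨g ⟨0, by omega⟩, g ⟨1, by omega⟩, fun k => h01 (g.injective k), by
        rw [← Equiv.swap_apply_apply]⟩
  · exact Equiv.Perm.closure_isSwap

end Cfsg.Agent.S0439
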