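import Cfsg.Statements.S0440
import Cfsg.Agent.Lie.Sp
import Cfsg.Agent.Spor.TransvectionClass
-- import your own Cfsg.Agent.* helpers here

set_option autoImplicit false
open Cfsg

namespace Cfsg.Agent.S0440

theorem zmod2 : ∀ c : ZMod 2, c = 0 ∨ c = 1 := by decide

open CfsgLib.Lie CfsgLib.Lie.Sp Matrix in
theorem eq_tv {n : ℕ} (g : Sp.G n (ZMod 2))
    (h : ((g : Matrix (Fin n ⊕ Fin n) (Fin n ⊕ Fin n) (ZMod 2)) - 1).rank = 1) :
    ∃ w : Sp.V n (ZMod 2), w ≠ 0 ∧ g = tv w 1 := by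
  obtain ⟨w, hw, hg⟩ := CfsgLib.Spor.TransvectionClass.exists_line h
  refine ⟨w, hw, act_ext fun x => ?_⟩
  obtain ⟨c, hc⟩ := hg x
  obtain ⟨v, hv⟩ := exists_bf_eq_one hw
  obtain ⟨d, hd⟩ := hg v
  have key : ∀ (y : Sp.V n (ZMod 2)) (c : ZMod 2), act g y = y + c • w → c * bf n _ w v + d * bf n _ y w = 0 := by
    intro y c hy
    have h1 := bf_act g y v
    rw [hy, show act g v = v + d • w from hd] at h1
    simp only [map_add, map_smul, LinearMap.add_apply, LinearMap.smul_apply, smul_eq_mul, bf_self] at h1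
    linear_combination h1
  have h1 := key x c hc
  rw [hv, mul_one] at h1
  have hd1 : d = 1 := by
    rcases zmod2 d with rfl | rfl
    · exfalso
      apply hw
      have h0 : ∀ y, act g y = y := fun y => by
        obtain ⟨c, hc⟩ := hg y
        have := key y c hc
        rw [hv, mul_one, zero_mul, add_zero] at this
        show _ *ᵥ y = y
        rw [hc, this, zero_smul, add_zero]
      have : g = 1 := act_ext fun y => by rw [h0, act_one]
      rw [this] at h
      simp at h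
    · rfl
  rw [act_tv]
  show _ *ᵥ x = _
  rw [hc, one_mul]
  congr 2
  rw [hd1, one_mul] at h1
  exact eq_neg_of_add_eq_zero_left h1 |>.trans (CharTwo.neg_eq _)

open CfsgLib.Lie CfsgLib.Lie.Sp Matrix in
theorem rank_tv {n : ℕ} {w : Sp.V n (ZMod 2)} (hw : w ≠ 0) :
    ((tv w (1 : ZMod 2) : Matrix (Fin n ⊕ Fin n) (Fin n ⊕ Fin n) (ZMod 2)) - 1).rank = 1 := by
  refine CfsgLib.Spor.TransvectionClass.rank_eq_one (w := w) (fun x => ⟨_, act_tv w 1 x⟩) ?_
  obtain ⟨v, hv⟩ := exists_bf_eq_one hw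
  refine ⟨v, fun e => hw ?_⟩
  have e' : act (tv w (1 : ZMod 2)) v = v := e
  rwa [act_tv, bf_swap w v, hv, one_mul, CharTwo.neg_eq, one_smul, add_eq_left] at e'

/-- In the symplectic group in dimension 2n ≥ 2 over the field with two elements, the elements g for which g - 1 has rank one (the symplectic transvections) form a conjugacy class of 3-transpositions generating the group. -/
theorem result (n : ℕ) (hn : 1 ≤ n) : Cfsg.IsThreeTranspositionClass {g : Matrix.symplecticGroup (Fin n) (ZMod 2) | ((g : Matrix (Fin n ⊕ Fin n) (Fin n ⊕ Fin n) (ZMod 2)) - 1).rank = 1} := by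
  classical
  open CfsgLib.Lie CfsgLib.Lie.Sp in
  have hinv : ∀ w : Sp.V n (ZMod 2), tv w (1 : ZMod 2) * tv w 1 = 1 := fun w => by
    rw [tv_add, CharTwo.add_self_eq_zero, tv_zero]
  refine ⟨⟨fun g hg => ?_, fun g hg k hk => ?_⟩, ?_, ?_⟩
  · obtain ⟨w, hw, rfl⟩ := eq_tv g hg
    refine orderOf_eq_prime (by rw [pow_two, hinv]) fun e => ?_
    have := rank_tv hw
    rw [e] at this
    simp at this
  · obtain ⟨u, hu, rfl⟩ := eq_tv g hg
    obtain ⟨w, hw, rfl⟩ := eq_tv k hk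
    refine CfsgLib.Spor.TransvectionClass.braid (hinv u) (hinv w) ?_
    open CfsgLib.Lie CfsgLib.Lie.Sp in
    have hconj : ∀ a b : Sp.V n (ZMod 2), tv a (1 : ZMod 2) * tv b 1 * tv a 1 = tv (b + bf n _ b a • a) 1 := fun a b => by
      have h := conj_tv (tv a (1 : ZMod 2)) b 1
      rw [inv_eq_of_mul_eq_one_right (hinv a), act_tv, one_mul] at h
      exact h
    open CfsgLib.Lie CfsgLib.Lie.Sp in
    rcases zmod2 (bf n (ZMod 2) u w) with e | e
    · left
      have h := hconj u w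
      rw [bf_swap u w, e, neg_zero, zero_smul, add_zero] at h
      calc tv u 1 * tv w 1 = tv u 1 * tv w 1 * (tv u 1 * tv u 1) := by rw [hinv, mul_one]
        _ = tv u 1 * tv w 1 * tv u 1 * tv u 1 := by simp only [mul_assoc]
        _ = tv w 1 * tv u 1 := by rw [h]
    · right
      rw [hconj, hconj, bf_swap u w, e, CharTwo.neg_eq, one_smul, one_smul, add_comm u w]
  · obtain ⟨i⟩ : Nonempty (Fin n) := ⟨⟨0, hn⟩⟩
    have he : CfsgLib.Lie.Sp.e (F := ZMod 2) i ≠ 0 := fun h => by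
      simpa [CfsgLib.Lie.Sp.e] using congrFun h (.inl i)
    refine ⟨CfsgLib.Lie.Sp.tv (CfsgLib.Lie.Sp.e i) 1, rank_tv he, ?_⟩
    ext g
    constructor
    · intro hg
      obtain ⟨w, hw, rfl⟩ := eq_tv g hg
      obtain ⟨a, ha⟩ := CfsgLib.Lie.Sp.transitive he hw
      exact isConj_iff.2 ⟨a, by rw [CfsgLib.Lie.Sp.conj_tv, ha]⟩
    · intro hg
      obtain ⟨a, rfl⟩ := isConj_iff.1 hg
      rw [Set.mem_setOf_eq, CfsgLib.Lie.Sp.conj_tv]
      refine rank_tv fun h => he ?_
      rw [← CfsgLib.Lie.Sp.act_inv_act a (CfsgLib.Lie.Sp.e i), h, CfsgLib.Lie.Sp.act, Matrix.mulVec_zero]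
  · refine CfsgLib.Lie.Sp.eq_top_of_tv_mem _ fun w c => ?_
    rcases zmod2 c with rfl | rfl
    · rw [CfsgLib.Lie.Sp.tv_zero]; exact Subgroup.one_mem _
    · by_cases hw : w = 0
      · convert Subgroup.one_mem _
        refine CfsgLib.Lie.Sp.act_ext fun x => ?_
        rw [CfsgLib.Lie.Sp.act_tv, hw, smul_zero, add_zero, CfsgLib.Lie.Sp.act_one]
      · exact Subgroup.subset_closure (rank_tv hw)

end Cfsg.Agent.S0440
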