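import Cfsg.Statements.S0442
import Mathlib
-- import your own Cfsg.Agent.* helpers here

set_option autoImplicit false
open Cfsg

namespace Cfsg.Agent.S0442

/-- A standard trick for producing elements of an involution centraliser: for an involution a and an element g, let b be the conjugate g⁻¹ * a * g. If a * b has odd order 2m + 1 then g * (a * b) ^ m commutes with a; if a * b has even order 2m then (a * b) ^ m and (a * (g * a * g⁻¹)) ^ m commute with a. -/
theorem result {G : Type*} [Group G] (a g : G) (ha : orderOf a = 2) : (∀ m : ℕ, orderOf (a * (g⁻¹ * a * g)) = 2 * m + 1 → Commute (g * (a * (g⁻¹ * a * g)) ^ m) a) ∧ (∀ m : ℕ, orderOf (a * (g⁻¹ * a * g)) = 2 * m → Commute ((a * (g⁻¹ * a * g)) ^ m) a ∧ Commute ((a * (g * a * g⁻¹)) ^ m) a) := by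
  have haa : a * a = 1 := by rw [← pow_two, ← ha]; exact pow_orderOf_eq_one a
  have hainv : a⁻¹ = a := inv_eq_of_mul_eq_one_right haa
  have hinvol : ∀ c : G, c * c = 1 → ∀ k : ℕ, a * (a * c) ^ k * a⁻¹ = ((a * c) ^ k)⁻¹ := fun c hc k => by
    rw [← conj_pow, ← inv_pow]
    congr 1
    rw [mul_inv_rev, inv_eq_of_mul_eq_one_right hc, hainv, ← mul_assoc a a c, haa, one_mul]
  have hg1 : (g⁻¹ * a * g) * (g⁻¹ * a * g) = 1 := by
    rw [show (g⁻¹ * a * g) * (g⁻¹ * a * g) = g⁻¹ * (a * a) * g by group, haa]; group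
  have hg2 : (g * a * g⁻¹) * (g * a * g⁻¹) = 1 := by
    rw [show (g * a * g⁻¹) * (g * a * g⁻¹) = g * (a * a) * g⁻¹ by group, haa]; group
  set ρ := a * (g⁻¹ * a * g) with hρ
  have hinv := hinvol _ hg1
  refine ⟨fun m hm => ?_, fun m hm => ⟨?_, ?_⟩⟩
  · have h1 : ρ ^ m * ρ ^ m = ρ⁻¹ := by
      rw [eq_inv_iff_mul_eq_one, ← pow_add, ← pow_succ, ← two_mul, ← hm]; exact pow_orderOf_eq_one ρ
    have h2 : ρ ^ m * a * (ρ ^ m)⁻¹ = g⁻¹ * a * g := by
      have h0 : a * (ρ ^ m)⁻¹ = ρ ^ m * a := by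
        rw [← hinv m, hainv, ← mul_assoc, ← mul_assoc, haa, one_mul]
      rw [mul_assoc, h0, ← mul_assoc, h1, hρ, mul_inv_rev, mul_assoc, inv_mul_cancel, mul_one,
        inv_eq_of_mul_eq_one_right hg1]
    calc g * ρ ^ m * a = g * (ρ ^ m * a * (ρ ^ m)⁻¹) * ρ ^ m := by group
      _ = a * (g * ρ ^ m) := by rw [h2]; group
  · have h1 : (ρ ^ m)⁻¹ = ρ ^ m := inv_eq_of_mul_eq_one_right (by
      rw [← pow_add, ← two_mul, ← hm]; exact pow_orderOf_eq_one ρ)
    have h2 := hinv m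
    rw [h1, mul_inv_eq_iff_eq_mul] at h2
    exact h2.symm
  · set σ := a * (g * a * g⁻¹) with hσ
    have e : σ = (g * ρ * g⁻¹)⁻¹ := by
      rw [hσ, hρ]
      simp only [mul_inv_rev, inv_inv, hainv, mul_assoc]
      simp [hainv]
    have h1 : (σ ^ m)⁻¹ = σ ^ m := inv_eq_of_mul_eq_one_right (by
      rw [← pow_add, ← two_mul, e, inv_pow, conj_pow, ← hm, pow_orderOf_eq_one]; group)
    have h2 : a * σ ^ m * a⁻¹ = σ ^ m := by rw [hinvol _ hg2, h1]
    rw [mul_inv_eq_iff_eq_mul] at h2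
    exact h2.symm

end Cfsg.Agent.S0442
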