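import Cfsg.Statements.S0443

-- import your own Cfsg.Agent.* helpers here

set_option autoImplicit false
open Cfsg

namespace Cfsg.Agent.S0443

/-- Two definitions of a 2-central involution agree: an element t of order 2 of a finite group lies in the centre of some Sylow 2-subgroup if and only if its centraliser contains some Sylow 2-subgroup. -/
theorem result {G : Type*} [Group G] [Finite G] (t : G) (ht : orderOf t = 2) : Cfsg.IsTwoCentralInvolution t ↔ ∃ P : Sylow 2 G, (P : Subgroup G) ≤ Subgroup.centralizer ({t} : Set G) := by
  constructor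
  · rintro ⟨-, P, -, hP⟩
    exact ⟨P, fun x hx => Subgroup.mem_centralizer_singleton_iff.2 (hP x hx)⟩
  · rintro ⟨P, hP⟩
    refine ⟨ht, P, ?_, fun x hx => Subgroup.mem_centralizer_singleton_iff.1 (hP hx)⟩
    have hn : Subgroup.zpowers t ≤ Subgroup.normalizer ((P : Subgroup G) : Set G) := by
      rw [Subgroup.zpowers_le]
      refine Subgroup.mem_normalizer_iff.2 fun x => ?_
      have hc : ∀ y ∈ (P : Subgroup G), t * y = y * t := fun y hy =>
        (Subgroup.mem_centralizer_singleton_iff.1 (hP hy)).symm
      constructor
      · intro hx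
        rw [hc x hx, mul_inv_cancel_right]; exact hx
      · intro hx
        have h2 := hc _ hx
        have h3 : x = t * x * t⁻¹ := by
          have : t * (t * x * t⁻¹) = t * x := by rw [h2]; group
          exact (mul_left_cancel this).symm
        rw [h3]; exact hx
    have hp : IsPGroup 2 ↥((Subgroup.zpowers t) ⊔ (P : Subgroup G)) :=
      (IsPGroup.of_card (n := 1) (by rw [Nat.card_zpowers, ht, pow_one])).to_sup_of_normal_right' P.isPGroup' hn
    have h5 := P.is_maximal' hp le_sup_right
    have h6 : t ∈ Subgroup.zpowers t ⊔ (P : Subgroup G) := (le_sup_left : Subgroup.zpowers t ≤ _) (Subgroup.mem_zpowers t)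
    rw [h5] at h6
    exact h6

end Cfsg.Agent.S0443
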