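import Cfsg.Statements.S0444
import Cfsg.Agent.Spor.Fischer.Basic
-- import your own Cfsg.Agent.* helpers here

set_option autoImplicit false
open Cfsg

namespace Cfsg.Agent.S0444

open CfsgLib.Fischer

theorem perm_three_of_card {H : Type*} [Group H] [Finite H] (hle : Nat.card H ≤ 6) (d e : H)
    (hde : d * e ≠ e * d) (hdd : d * d = 1) (hee : e * e = 1) (hbr : d * e * d = e * d * e) :
    Nonempty (H ≃* Equiv.Perm (Fin 3)) := by
  classical
  set S : Set H := {d, e, d * e * d} with hS
  have hne : d ≠ e := fun k => hde (by rw [k])
  have h3 : d * e * d ≠ d := by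
    intro k
    apply hde
    have h5 : d * e = 1 := by
      have : d * e * d = 1 * d := by rw [one_mul]; exact k
      exact mul_right_cancel this
    rw [h5]
    calc (1 : H) = e * (d * e) * e := by rw [h5, mul_one, hee]
      _ = e * d * (e * e) := by group
      _ = e * d := by rw [hee, mul_one]
  have h4 : d * e * d ≠ e := by
    intro k
    apply hde
    calc d * e = (d * e * d) * d := by rw [mul_assoc _ d d, hdd, mul_one]
      _ = e * d := by rw [k]
  have hstab : ∀ g : H, ∀ x ∈ S, g * x * g⁻¹ ∈ S := by
    have htop : ∀ g : H, g ∈ ({1, d, e, d * e, e * d, d * e * d} : Finset H) := by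
      intro g
      have hnd : ({1, d, e, d * e, e * d, d * e * d} : Finset H).card = 6 := by
        have a1 : (1 : H) ≠ d := fun k => hde (by rw [← k]; simp)
        have a2 : (1 : H) ≠ e := fun k => hde (by rw [← k]; simp)
        have a3 : (1 : H) ≠ d * e := fun k => hde (by
          rw [← k]
          calc (1 : H) = e * (d * e) * e := by rw [← k, mul_one, hee]
            _ = e * d * (e * e) := by group
            _ = e * d := by rw [hee, mul_one])
        have a4 : (1 : H) ≠ e * d := fun k => hde (by
          rw [← k]
          calc d * e = d * (e * d) * d := by rw [mul_assoc d (e * d) d, mul_assoc e d d, hdd, mul_one]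
            _ = 1 := by rw [← k, mul_one, hdd])
        have a5 : (1 : H) ≠ d * e * d := fun k => a2 (by
          calc (1 : H) = d * (d * e * d) * d := by rw [← k, mul_one, hdd]
            _ = (d * d) * e * (d * d) := by group
            _ = e := by rw [hdd, one_mul, mul_one])
        have b1 : d ≠ d * e := fun k => a2 (mul_left_cancel (a := d) (by rw [mul_one]; exact k))
        have b2 : d ≠ e * d := fun k => a2 (mul_right_cancel (b := d) (by rw [one_mul]; exact k))
        have b3 : e ≠ d * e := fun k => a1 (mul_right_cancel (b := e) (by rw [one_mul]; exact k))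
        have b4 : e ≠ e * d := fun k => a1 (mul_left_cancel (a := e) (by rw [mul_one]; exact k))
        have b5 : d * e ≠ d * e * d := fun k => a1 (mul_left_cancel (a := d * e) (by rw [mul_one]; exact k))
        have b6 : e * d ≠ d * e * d := fun k => a1 (mul_right_cancel (b := e * d)
          (by rw [one_mul, ← mul_assoc]; exact k))
        rw [Finset.card_insert_of_notMem (by simp [a1, a2, a3, a4, a5]),
          Finset.card_insert_of_notMem (by simp [hne, b1, b2, h3.symm]),
          Finset.card_insert_of_notMem (by simp [b3, b4, h4.symm]),
          Finset.card_insert_of_notMem (by simp [hde, b5]),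
          Finset.card_insert_of_notMem (by simp [b6]), Finset.card_singleton]
      haveI : Fintype H := Fintype.ofFinite H
      have : ({1, d, e, d * e, e * d, d * e * d} : Finset H) = Finset.univ := by
        rw [← Finset.card_eq_iff_eq_univ]
        refine le_antisymm (Finset.card_le_univ _) ?_
        rw [hnd, ← Nat.card_eq_fintype_card]; exact hle
      rw [this]; exact Finset.mem_univ _
    have ed : ∀ x ∈ S, d * x * d ∈ S := by
      rintro x (rfl | rfl | rfl)
      · left; rw [hdd, one_mul]
      · right; right; rfl
      · right; left
        calc d * (d * e * d) * d = (d * d) * e * (d * d) := by group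
          _ = e := by rw [hdd, one_mul, mul_one]
    have ee : ∀ x ∈ S, e * x * e ∈ S := by
      rintro x (rfl | rfl | rfl)
      · right; right; exact hbr.symm
      · right; left; rw [hee, one_mul]
      · left
        rw [hbr]
        calc e * (e * d * e) * e = (e * e) * d * (e * e) := by group
          _ = d := by rw [hee, one_mul, mul_one]
    intro g x hx
    have hd' : d⁻¹ = d := inv_eq_of_mul_eq_one_right hdd
    have he' : e⁻¹ = e := inv_eq_of_mul_eq_one_right hee
    have := htop g
    simp only [Finset.mem_insert, Finset.mem_singleton] at this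
    rcases this with rfl | rfl | rfl | rfl | rfl | rfl
    · simpa using hx
    · rw [hd']; exact ed x hx
    · rw [he']; exact ee x hx
    · simpa [mul_assoc, hd', he'] using ed _ (ee x hx)
    · simpa [mul_assoc, hd', he'] using ee _ (ed x hx)
    · simpa [mul_assoc, hd', he'] using ed _ (ee _ (ed x hx))
  let σ : H → Equiv.Perm S := fun g =>
    { toFun := fun x => ⟨g * x * g⁻¹, hstab g x x.2⟩
      invFun := fun x => ⟨g⁻¹ * x * g, by simpa using hstab g⁻¹ x x.2⟩
      left_inv := fun x => Subtype.ext (by simp [mul_assoc])
      right_inv := fun x => Subtype.ext (by simp [mul_assoc]) }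
  let φ : H →* Equiv.Perm S := MonoidHom.mk' σ fun g g' => by
    apply Equiv.ext; intro x; exact Subtype.ext (by simp [σ, mul_assoc])
  have hinj : Function.Injective φ := by
    rw [injective_iff_map_eq_one]
    intro g hg
    have hd1 : g * d * g⁻¹ = d := congrArg (fun p : Equiv.Perm S => (p ⟨d, Or.inl rfl⟩).1) hg
    have he1 : g * e * g⁻¹ = e := congrArg (fun p : Equiv.Perm S => (p ⟨e, Or.inr (Or.inl rfl)⟩).1) hg
    have kd : g * d = d * g := mul_inv_eq_iff_eq_mul.1 hd1
    have ke : g * e = e * g := mul_inv_eq_iff_eq_mul.1 he1
    have hd' : d⁻¹ = d := inv_eq_of_mul_eq_one_right hdd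
    have he' : e⁻¹ = e := inv_eq_of_mul_eq_one_right hee
    have htop : g = 1 ∨ g = d ∨ g = e ∨ g = d * e ∨ g = e * d ∨ g = d * e * d := by
      have hc : Nat.card (Equiv.Perm S) = 6 := by
        have : Nat.card S = 3 := by
          rw [Nat.card_coe_set_eq, hS, Set.ncard_insert_of_notMem (by simp [hne, h3.symm]),
            Set.ncard_pair h4.symm]
        rw [Nat.card_perm, this]; rfl
      by_contra hcon
      simp only [not_or] at hcon
      obtain ⟨c1, c2, c3, c4, c5, c6⟩ := hcon
      have hsub : ({1, d, e, d * e, e * d, d * e * d, g} : Finset H).card ≤ 6 := by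
        haveI : Fintype H := Fintype.ofFinite H
        exact (Finset.card_le_univ _).trans (by rw [← Nat.card_eq_fintype_card]; exact hle)
      have h7 : ({1, d, e, d * e, e * d, d * e * d, g} : Finset H).card = 7 := by
        have a1 : (1 : H) ≠ d := fun k => hde (by rw [← k]; simp)
        have a2 : (1 : H) ≠ e := fun k => hde (by rw [← k]; simp)
        have a3 : (1 : H) ≠ d * e := fun k => hde (by
          rw [← k]
          calc (1 : H) = e * (d * e) * e := by rw [← k, mul_one, hee]
            _ = e * d * (e * e) := by group
            _ = e * d := by rw [hee, mul_one])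
        have a4 : (1 : H) ≠ e * d := fun k => hde (by
          rw [← k]
          calc d * e = d * (e * d) * d := by rw [mul_assoc d (e * d) d, mul_assoc e d d, hdd, mul_one]
            _ = 1 := by rw [← k, mul_one, hdd])
        have a5 : (1 : H) ≠ d * e * d := fun k => a2 (by
          calc (1 : H) = d * (d * e * d) * d := by rw [← k, mul_one, hdd]
            _ = (d * d) * e * (d * d) := by group
            _ = e := by rw [hdd, one_mul, mul_one])
        have b1 : d ≠ d * e := fun k => a2 (mul_left_cancel (a := d) (by rw [mul_one]; exact k))
        have b2 : d ≠ e * d := fun k => a2 (mul_right_cancel (b := d) (by rw [one_mul]; exact k))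
        have b3 : e ≠ d * e := fun k => a1 (mul_right_cancel (b := e) (by rw [one_mul]; exact k))
        have b4 : e ≠ e * d := fun k => a1 (mul_left_cancel (a := e) (by rw [mul_one]; exact k))
        have b5 : d * e ≠ d * e * d := fun k => a1 (mul_left_cancel (a := d * e) (by rw [mul_one]; exact k))
        have b6 : e * d ≠ d * e * d := fun k => a1 (mul_right_cancel (b := e * d)
          (by rw [one_mul, ← mul_assoc]; exact k))
        rw [Finset.card_insert_of_notMem (by simp [a1, a2, a3, a4, a5, Ne.symm c1]),
          Finset.card_insert_of_notMem (by simp [hne, b1, b2, h3.symm, Ne.symm c2]),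
          Finset.card_insert_of_notMem (by simp [b3, b4, h4.symm, Ne.symm c3]),
          Finset.card_insert_of_notMem (by simp [hde, b5, Ne.symm c4]),
          Finset.card_insert_of_notMem (by simp [b6, Ne.symm c5]),
          Finset.card_insert_of_notMem (by simp [Ne.symm c6]), Finset.card_singleton]
      omega
    rcases htop with rfl | rfl | rfl | rfl | rfl | rfl
    · rfl
    · exact absurd ke hde
    · exact absurd kd.symm hde
    · exfalso
      apply hde
      have : d * e * d = d * (d * e) := kd
      rw [← mul_assoc, hdd, one_mul] at this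
      exact absurd this h4
    · exfalso
      have : e * d * e = e * (e * d) := ke
      rw [← mul_assoc, hee, one_mul, ← hbr] at this
      exact absurd this h3
    · exfalso
      apply hde
      have h8 : d * e * d * d = d * (d * e * d) := kd
      rw [mul_assoc _ d d, hdd, mul_one, ← mul_assoc, ← mul_assoc, hdd, one_mul] at h8
      exact h8
  have hS3 : Nat.card S = 3 := by
    rw [Nat.card_coe_set_eq, hS, Set.ncard_insert_of_notMem (by simp [hne, h3.symm]),
      Set.ncard_pair h4.symm]
  haveI : Fintype H := Fintype.ofFinite H
  have h6 : 6 ≤ Nat.card H := by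
    by_contra h6
    have hsub : Subgroup.closure ({d, e} : Set H) ≠ ⊥ ∧ True := ⟨by
      intro k
      have : d ∈ (⊥ : Subgroup H) := k ▸ Subgroup.subset_closure (by simp)
      exact hde (by rw [Subgroup.mem_bot.1 this]; simp), trivial⟩
    have hm : ({1, d, e, d * e, d * e * d} : Finset H).card ≤ Nat.card H := by
      rw [Nat.card_eq_fintype_card]; exact Finset.card_le_univ _
    have o2 : orderOf d = 2 := orderOf_eq_prime (by rw [pow_two, hdd]) (fun k => hde (by rw [k]; simp))
    have o3 : orderOf (d * e) = 3 := orderOf_eq_prime (by
      calc (d * e) ^ 3 = (d * e * d) * (e * d * e) := by simp [pow_succ, mul_assoc]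
        _ = (d * e * d) * (d * e * d) := by rw [hbr]
        _ = (d * e) * (d * d) * (e * d) := by group
        _ = d * (e * e) * d := by rw [hdd]; group
        _ = 1 := by rw [hee, mul_one, hdd]) (fun k => hde (by
      rw [k]
      calc (1 : H) = e * (d * e) * e := by rw [k, mul_one, hee]
        _ = e * d * (e * e) := by group
        _ = e * d := by rw [hee, mul_one]))
    have d2 := o2 ▸ orderOf_dvd_natCard d
    have d3 := o3 ▸ orderOf_dvd_natCard (d * e)
    have d6 := Nat.Coprime.mul_dvd_of_dvd_of_dvd (by norm_num : Nat.Coprime 2 3) d2 d3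
    exact h6 (Nat.le_of_dvd Nat.card_pos d6)
  haveI : Finite S := Nat.finite_of_card_ne_zero (by rw [hS3]; norm_num)
  have hbij : Function.Bijective φ := hinj.bijective_of_nat_card_le (by
    rw [Nat.card_perm, hS3]; exact h6)
  exact ⟨(MulEquiv.ofBijective φ hbij).trans (Equiv.permCongrHom (Finite.equivFinOfCardEq hS3))⟩

/-- Two members of a set of 3-transpositions which do not commute generate a subgroup isomorphic to the symmetric group on three letters. -/
theorem result {G : Type*} [Group G] {E : Set G} (hE : Cfsg.IsThreeTranspositionSet E) {d e : G} (hd : d ∈ E) (he : e ∈ E) (h : ¬ Commute d e) : Nonempty (Subgroup.closure ({d, e} : Set G) ≃* Equiv.Perm (Fin 3)) := by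
  classical
  have hne : d ≠ e := fun k => h (k ▸ Commute.refl d)
  set H := Subgroup.closure ({d, e} : Set G)
  have hdd := mul_self hE hd
  have hee := mul_self hE he
  have hbr := braid hE hd he h
  have hmem : ∀ g ∈ H, g ∈ ({1, d, e, d * e, e * d, d * e * d} : Finset G) := by
    have k1 : ∀ g ∈ ({1, d, e, d * e, e * d, d * e * d} : Finset G),
        g * d ∈ ({1, d, e, d * e, e * d, d * e * d} : Finset G) := by
      intro g hg
      simp only [Finset.mem_insert, Finset.mem_singleton] at hg ⊢
      rcases hg with rfl | rfl | rfl | rfl | rfl | rfl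
      · simp
      · simp [hdd]
      · simp
      · simp
      · right; right; left; rw [mul_assoc, hdd, mul_one]
      · right; right; right; left; rw [mul_assoc _ d d, hdd, mul_one]
    have k2 : ∀ g ∈ ({1, d, e, d * e, e * d, d * e * d} : Finset G),
        g * e ∈ ({1, d, e, d * e, e * d, d * e * d} : Finset G) := by
      intro g hg
      simp only [Finset.mem_insert, Finset.mem_singleton] at hg ⊢
      rcases hg with rfl | rfl | rfl | rfl | rfl | rfl
      · simp
      · simp
      · simp [hee]
      · right; left; rw [mul_assoc, hee, mul_one]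
      · right; right; right; right; right; rw [← hbr]
      · right; right; right; right; left; rw [hbr, mul_assoc _ e e, hee, mul_one]
    intro g hg
    induction hg using Subgroup.closure_induction_right with
    | one => simp
    | mul_right s _ g hg ih =>
      rcases hg with rfl | rfl
      · exact k1 s ih
      · exact k2 s ih
    | mul_inv_cancel s _ g hg ih =>
      rcases hg with rfl | rfl
      · rw [inv_eq hE hd]; exact k1 s ih
      · rw [inv_eq hE he]; exact k2 s ih
  haveI : Finite H := Finite.of_injective (fun g : H => (⟨g.1, hmem g.1 g.2⟩ :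
      ({1, d, e, d * e, e * d, d * e * d} : Finset G)))
    (fun g g' hh => Subtype.ext (congrArg (fun u : ({1, d, e, d * e, e * d, d * e * d} : Finset G) => u.1) hh))
  have hde : (⟨d, Subgroup.subset_closure (by simp)⟩ : H) * ⟨e, Subgroup.subset_closure (by simp)⟩ ≠
      ⟨e, Subgroup.subset_closure (by simp)⟩ * ⟨d, Subgroup.subset_closure (by simp)⟩ :=
    fun k => h (congrArg Subtype.val k)
  have hle : Nat.card H ≤ 6 := by
    refine (Nat.card_mono (Finset.finite_toSet _) hmem).trans ?_
    exact (Nat.card_eq_finsetCard _).trans_le Finset.card_le_six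
  exact perm_three_of_card hle _ _ hde (Subtype.ext hdd) (Subtype.ext hee) (Subtype.ext hbr)

end Cfsg.Agent.S0444
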