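import Cfsg.Statements.S0447
import Cfsg.Agent.Spor.DoubleCoverEight
import Cfsg.Agent.S0051
import Cfsg.Agent.Spor.M24Elems
-- import your own Cfsg.Agent.* helpers here

set_option autoImplicit false
open Cfsg

namespace Cfsg.Agent.S0447

open Equiv

theorem conj_pair {n : ℕ} (hn : n ≤ 7) (t p q : Equiv.Perm (Fin n)) (ht : Equiv.Perm.sign t = -1)
    (hta : t * p = p * t) (hq2 : q * q = 1) (hq1 : q ≠ 1) (hqs : Equiv.Perm.sign q = 1)
    (hp2 : p * p = 1) (hp1 : p ≠ 1) (hps : Equiv.Perm.sign p = 1) :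
    ∃ c : alternatingGroup (Fin n), (c : Equiv.Perm (Fin n)) * q * (c : Equiv.Perm (Fin n))⁻¹ = p := by
  have key : ∀ r : Equiv.Perm (Fin n), r * r = 1 → r ≠ 1 → Equiv.Perm.sign r = 1 → r.cycleType = {2, 2} := by
    intro r h2 h1 hs
    obtain ⟨k, hk⟩ := Equiv.Perm.cycleType_prime_order (σ := r)
      (by rw [orderOf_eq_prime (by rw [pow_two]; exact h2) h1]; exact Nat.prime_two)
    rw [orderOf_eq_prime (by rw [pow_two]; exact h2) h1] at hk
    have hsum := r.sum_cycleType
    have hle := Finset.card_le_univ r.support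
    rw [Fintype.card_fin] at hle
    rw [hk, Multiset.sum_replicate, smul_eq_mul] at hsum
    have hsgn := Equiv.Perm.sign_of_cycleType r
    rw [hk, hs, Multiset.sum_replicate, Multiset.card_replicate, smul_eq_mul] at hsgn
    have hk3 : k ≤ 3 := by omega
    rw [hk]
    interval_cases k
    · exfalso; revert hsgn; decide
    · rfl
    · exfalso; revert hsgn; decide
    · exfalso; norm_num at hsum; omega
  obtain ⟨c, hc⟩ := isConj_iff.1 (Equiv.Perm.isConj_iff_cycleType_eq.2 ((key q hq2 hq1 hqs).trans (key p hp2 hp1 hps).symm))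
  rcases Int.units_eq_one_or (Equiv.Perm.sign c) with h | h
  · exact ⟨⟨c, h⟩, hc⟩
  · refine ⟨⟨t * c, Equiv.Perm.mem_alternatingGroup.2 (by rw [map_mul, ht, h]; decide)⟩, ?_⟩
    show t * c * q * (t * c)⁻¹ = p
    calc t * c * q * (t * c)⁻¹ = t * (c * q * c⁻¹) * t⁻¹ := by group
      _ = p := by rw [hc, hta, mul_assoc, mul_inv_cancel, mul_one]

theorem core {G : Type} [Group G] [Finite G] {n : ℕ} (hn : n ≤ 7)
    (hG : Cfsg.IsNonsplitDoubleCover G (alternatingGroup (Fin n)))
    (t : Equiv.Perm (Fin n)) (ht : Equiv.Perm.sign t = -1) (a b : alternatingGroup (Fin n))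
    (ha : a * a = 1) (hb : b * b = 1) (ha1 : a ≠ 1) (hb1 : b ≠ 1) (hta : t * a.1 = a.1 * t)
    (h : ℕ) (hh : 0 < h) (hhalf : (a * b) ^ h * (a * b) ^ h = 1) (hhalf1 : (a * b) ^ h ≠ 1)
    (hfree : ∀ k < 2 * h, ((a * b) ^ k = 1 → k = 0) ∧ (a * b) ^ k * a ≠ 1)
    (hodd : ¬ 2 ∣ Nat.card (alternatingGroup (Fin n)) / (4 * h)) :
    ∀ x : G, orderOf x = 2 → x ∈ Subgroup.center G := by
  classical
  obtain ⟨hZ, ⟨e⟩, hns⟩ := hG
  intro x hx
  by_contra hxZ
  let π : G →* alternatingGroup (Fin n) := e.toMonoidHom.comp (QuotientGroup.mk' (Subgroup.center G))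
  have hπs : Function.Surjective π := e.surjective.comp (QuotientGroup.mk'_surjective _)
  have hker : ∀ g, π g = 1 ↔ g ∈ Subgroup.center G := fun g => by
    show e (QuotientGroup.mk' _ g) = 1 ↔ _
    rw [MulEquiv.map_eq_one_iff, ← MonoidHom.mem_ker, QuotientGroup.ker_mk']
  have hzsq : ∀ z ∈ Subgroup.center G, z * z = 1 := by
    intro z hz
    have := congrArg Subtype.val (pow_card_eq_one' (x := (⟨z, hz⟩ : Subgroup.center G)))
    rwa [hZ, pow_two] at this
  have hxx : x * x = 1 := by rw [← pow_two, ← hx, pow_orderOf_eq_one]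
  have hq : π x * π x = 1 := by rw [← map_mul, hxx, map_one]
  have hlift : ∀ p : alternatingGroup (Fin n), p * p = 1 → p ≠ 1 → (∃ c : alternatingGroup (Fin n), c * π x * c⁻¹ = p) →
      ∀ w, π w = p → w * w = 1 := by
    rintro p hp2 hp1 ⟨c, hc⟩ w hw
    obtain ⟨g, rfl⟩ := hπs c
    have hz : (g * x * g⁻¹)⁻¹ * w ∈ Subgroup.center G := (hker _).1 (by
      rw [map_mul, map_inv, map_mul, map_mul, map_inv, hc, hw, inv_mul_cancel])
    obtain ⟨z, hz', rfl⟩ : ∃ z ∈ Subgroup.center G, g * x * g⁻¹ * z = w := ⟨_, hz, mul_inv_cancel_left _ _⟩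
    have hzc : ∀ y, z * y = y * z := fun y => (Subgroup.mem_center_iff.1 hz' y).symm
    calc g * x * g⁻¹ * z * (g * x * g⁻¹ * z) = g * x * g⁻¹ * (z * (g * x * g⁻¹)) * z := by simp only [mul_assoc]
      _ = g * x * g⁻¹ * (g * x * g⁻¹) * (z * z) := by rw [hzc]; simp only [mul_assoc]
      _ = 1 := by
        rw [hzsq z hz', mul_one]
        calc g * x * g⁻¹ * (g * x * g⁻¹) = g * (x * x) * g⁻¹ := by group
          _ = 1 := by rw [hxx]; group
  have hconj : ∀ p : alternatingGroup (Fin n), p * p = 1 → p ≠ 1 → ∃ c : alternatingGroup (Fin n), c * π x * c⁻¹ = p := by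
    have hxne : π x ≠ 1 := fun h1 => hxZ ((hker x).1 h1)
    have toA : ∀ q : alternatingGroup (Fin n), q * q = 1 → q ≠ 1 → ∃ c : alternatingGroup (Fin n), c * q * c⁻¹ = a := fun q h2 h1 => by
      obtain ⟨c, hc⟩ := conj_pair hn t a.1 q.1 ht hta (congrArg Subtype.val h2) (fun h => h1 (Subtype.ext h)) q.2
        (congrArg Subtype.val ha) (fun h => ha1 (Subtype.ext h)) a.2
      exact ⟨c, Subtype.ext hc⟩
    intro p h2 h1
    obtain ⟨c, hc⟩ := toA _ hq hxne
    obtain ⟨d, hd⟩ := toA p h2 h1
    refine ⟨d⁻¹ * c, ?_⟩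
    calc d⁻¹ * c * π x * (d⁻¹ * c)⁻¹ = d⁻¹ * (c * π x * c⁻¹) * d := by group
      _ = d⁻¹ * (d * p * d⁻¹) * d := by rw [hc, hd]
      _ = p := by group
  have inv2 : ∀ p : alternatingGroup (Fin n), p * p = 1 → p ≠ 1 → ∀ w, π w = p → w * w = 1 := fun p h2 h1 =>
    hlift p h2 h1 (hconj p h2 h1)
  obtain ⟨A, hA⟩ := hπs a
  obtain ⟨B, hB⟩ := hπs b
  have hAA := inv2 a ha ha1 A hA
  have hBB := inv2 b hb hb1 B hB
  have hm : (A * B) ^ (2 * h) = 1 := by
    rw [two_mul, pow_add]
    exact inv2 _ hhalf hhalf1 _ (by rw [map_pow, map_mul, hA, hB])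
  let S : Finset G := (Finset.range (2 * h)).image (fun k => (A * B) ^ k) ∪ (Finset.range (2 * h)).image (fun k => (A * B) ^ k * A)
  have hmod : ∀ k, (A * B) ^ k = (A * B) ^ (k % (2 * h)) := fun k => pow_eq_pow_mod k hm
  have hS1 : ∀ k, (A * B) ^ k ∈ S ∧ (A * B) ^ k * A ∈ S := fun k => by
    rw [hmod k]
    have hlt : k % (2 * h) < 2 * h := Nat.mod_lt _ (by omega)
    exact ⟨Finset.mem_union_left _ (Finset.mem_image.2 ⟨_, Finset.mem_range.2 hlt, rfl⟩),
      Finset.mem_union_right _ (Finset.mem_image.2 ⟨_, Finset.mem_range.2 hlt, rfl⟩)⟩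
  let D : Subgroup G := Subgroup.closure {A, B}
  have hD : ∀ w ∈ D, w ∈ S := fun w hw => CfsgLib.Spor.M24Elems.closure_mem _ S
    (by simpa using (hS1 0).1) (fun w hw s hs => by
      simp only [S, Finset.mem_union, Finset.mem_image, Finset.mem_range] at hw
      rcases hw with ⟨k, -, rfl⟩ | ⟨k, -, rfl⟩ <;>
        simp only [Set.mem_insert_iff, Set.mem_singleton_iff] at hs <;> rcases hs with hs | hs <;> rw [hs]
      · exact (hS1 k).2
      · have e : (A * B) ^ k * B = (A * B) ^ (k + (2 * h - 1)) * A := by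
          refine mul_right_cancel (b := A * B) ?_
          rw [mul_assoc _ A (A * B), ← mul_assoc A A, hAA, one_mul]
          calc (A * B) ^ k * B * (A * B) = (A * B) ^ k * (B * A) * B := by simp only [mul_assoc]
            _ = (A * B) ^ k * ((A * B) ^ (2 * h - 1)) * B := by
              have : (A * B) ^ (2 * h - 1) = B * A := by
                have h1 : (A * B) * (B * A) = 1 := by rw [mul_assoc, ← mul_assoc B, hBB, one_mul, hAA]
                rw [← inv_eq_of_mul_eq_one_right h1, eq_inv_iff_mul_eq_one, ← pow_succ, Nat.sub_add_cancel (by omega), hm]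
              rw [this]
            _ = (A * B) ^ (k + (2 * h - 1)) * B := by rw [pow_add]
        rw [e]; exact (hS1 _).2
      · rw [mul_assoc, hAA, mul_one]; exact (hS1 k).1
      · rw [mul_assoc, ← pow_succ]; exact (hS1 _).1) hw
  have hinj : ∀ w ∈ D, π w = 1 → w = 1 := by
    intro w hw h1
    have hw' := hD w hw
    simp only [S, Finset.mem_union, Finset.mem_image, Finset.mem_range] at hw'
    rcases hw' with ⟨k, hk, rfl⟩ | ⟨k, hk, rfl⟩
    · rw [map_pow, map_mul, hA, hB] at h1
      rw [(hfree k hk).1 h1, pow_zero]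
    · rw [map_mul, map_pow, map_mul, hA, hB] at h1
      exact absurd h1 (hfree k hk).2
  have hab : (a * b) ^ (2 * h) = 1 := by rw [two_mul, pow_add]; exact hhalf
  have hcardD : Nat.card D = 4 * h := by
    have hi : Set.InjOn (fun k => (A * B) ^ k) (Finset.range (2 * h)) := by
      intro i hi j hj e
      simp only [Finset.coe_range, Set.mem_Iio] at hi hj
      have := congrArg π e
      simp only [map_pow, map_mul, hA, hB] at this
      have hz : (a * b) ^ ((i + (2 * h - j)) % (2 * h)) = 1 := by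
        rw [← pow_eq_pow_mod _ hab, pow_add, this, ← pow_add, Nat.add_sub_cancel' (by omega), hab]
      have := (hfree _ (Nat.mod_lt _ (by omega))).1 hz
      rcases Nat.lt_or_ge (i + (2 * h - j)) (2 * h) with hl | hl
      · rw [Nat.mod_eq_of_lt hl] at this; omega
      · rw [Nat.mod_eq_sub_mod hl, Nat.mod_eq_of_lt (by omega)] at this; omega
    have hdisj : Disjoint ((Finset.range (2 * h)).image (fun k => (A * B) ^ k)) ((Finset.range (2 * h)).image (fun k => (A * B) ^ k * A)) := by
      rw [Finset.disjoint_left]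
      intro w h1 h2
      obtain ⟨i, hi', rfl⟩ := Finset.mem_image.1 h1
      obtain ⟨j, hj', e⟩ := Finset.mem_image.1 h2
      rw [Finset.mem_range] at hi' hj'
      have h3 : (A * B) ^ ((j + (2 * h - i)) % (2 * h)) * A = 1 := by
        rw [← hmod, Nat.add_comm, pow_add, mul_assoc, e, ← pow_add, Nat.sub_add_cancel hi'.le, hm]
      have := congrArg π h3
      rw [map_mul, map_pow, map_mul, hA, hB, map_one] at this
      exact (hfree _ (Nat.mod_lt _ (by omega))).2 this
    have hS : S.card = 4 * h := by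
      rw [Finset.card_union_of_disjoint hdisj, Finset.card_image_of_injOn hi,
        Finset.card_image_of_injOn (fun i hi' j hj' e => hi hi' hj' (mul_right_cancel e)), Finset.card_range]
      omega
    have e : (D : Set G) = S := by
      refine Set.eq_of_subset_of_subset (fun w hw => hD w hw) ?_
      intro w hw
      rw [Finset.mem_coe] at hw
      simp only [S, Finset.mem_union, Finset.mem_image] at hw
      have hA' : A ∈ D := Subgroup.subset_closure (by simp)
      have hB' : B ∈ D := Subgroup.subset_closure (by simp)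
      rcases hw with ⟨k, -, rfl⟩ | ⟨k, -, rfl⟩
      exacts [pow_mem (mul_mem hA' hB') k, mul_mem (pow_mem (mul_mem hA' hB') k) hA']
    rw [← SetLike.coe_sort_coe, Nat.card_coe_set_eq, e, Set.ncard_coe_finset, hS]
  have hdis : D ⊓ Subgroup.center G = ⊥ :=
    (Subgroup.eq_bot_iff_forall _).2 fun w hw => hinj w hw.1 ((hker w).2 hw.2)
  let U : Subgroup G := (D.map π).comap π
  haveI : IsMulCommutative (Subgroup.center G) := ⟨⟨fun u v => Subtype.ext (Subgroup.mem_center_iff.1 v.2 u.1)⟩⟩
  have hcardI : Nat.card (D.map π) = 4 * h := by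
    rw [← hcardD]
    refine (Nat.card_congr (Equiv.ofBijective (fun w : D => (⟨π w.1, w.1, w.2, rfl⟩ : D.map π)) ⟨fun u v e => ?_, ?_⟩)).symm
    · have e' : π u.1 = π v.1 := congrArg Subtype.val e
      have := hinj _ (mul_mem u.2 (inv_mem v.2)) (by rw [map_mul, map_inv, e', mul_inv_cancel])
      exact Subtype.ext (mul_inv_eq_one.1 this)
    · rintro ⟨_, w, hw, rfl⟩
      exact ⟨⟨w, hw⟩, rfl⟩
  have hidx : (Nat.card (Subgroup.center G)).Coprime U.index := by
    rw [hZ, Nat.prime_two.coprime_iff_not_dvd, show U.index = (D.map π).index from Subgroup.index_comap_of_surjective _ hπs]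
    have := (D.map π).card_mul_index
    rw [hcardI] at this
    rwa [← this, Nat.mul_div_cancel_left _ (by omega)] at hodd
  have hsup : Subgroup.center G ⊔ D = U := by
    refine le_antisymm (sup_le (fun z hz => ?_) (Subgroup.le_comap_map π D)) fun w hw => ?_
    · show π z ∈ D.map π
      rw [(hker z).2 hz]; exact one_mem _
    · obtain ⟨d, hd, e'⟩ := hw
      have hz : w * d⁻¹ ∈ Subgroup.center G := (hker _).1 (by rw [map_mul, map_inv, e', mul_inv_cancel])
      exact inv_mul_cancel_right w d ▸ Subgroup.mul_mem_sup hz hd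
  obtain ⟨L, hL⟩ := Cfsg.Agent.S0051.result (Subgroup.center G) U (hsup ▸ le_sup_left) hidx D (hsup ▸ le_sup_right) hdis hsup
  exact hns L hL

theorem small {G : Type} [Group G] [Finite G] {n : ℕ} (hG : Cfsg.IsNonsplitDoubleCover G (alternatingGroup (Fin n)))
    (hcop : Nat.Coprime 2 (Nat.card (alternatingGroup (Fin n)))) : False := by
  obtain ⟨hZ, ⟨e⟩, hns⟩ := hG
  obtain ⟨L, hL⟩ := Subgroup.exists_right_complement'_of_coprime (N := Subgroup.center G)
    (by rw [hZ, Subgroup.index_eq_card, Nat.card_congr e.toEquiv]; exact hcop)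
  exact hns L hL

/-- Involutions in double covers of alternating groups: for n ≤ 7, a finite non-split double cover of the alternating group of degree n has exactly one element of order 2 (the central one); for degree 8 there is a non-split double cover with two distinct involutions. -/
theorem result : (∀ (n : ℕ) (H : Type) (_ : Group H) (_ : Finite H), n ≤ 7 → Cfsg.IsNonsplitDoubleCover H (alternatingGroup (Fin n)) → ∀ x y : H, orderOf x = 2 → orderOf y = 2 → x = y) ∧ ∃ (H : Type) (_ : Group H) (_ : Finite H), Cfsg.IsNonsplitDoubleCover H (alternatingGroup (Fin 8)) ∧ ∃ x y : H, x ≠ y ∧ orderOf x = 2 ∧ orderOf y = 2 := by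
  refine ⟨fun n G _ _ hn hG x y hx hy => ?_, CfsgLib.Spor.DoubleCoverEight.main⟩
  have key : ∀ w : G, orderOf w = 2 → w ∈ Subgroup.center G := by
    rcases Nat.lt_or_ge n 4 with h4 | h4
    · exfalso
      refine small hG ?_
      interval_cases n <;> rw [Nat.card_eq_fintype_card] <;> decide +kernel
    interval_cases n
    · exact core (by norm_num) hG (Equiv.swap 0 1) (by decide +kernel) ⟨Equiv.swap 0 1 * Equiv.swap 2 3, Equiv.Perm.mem_alternatingGroup.2 (by decide +kernel)⟩
        ⟨Equiv.swap 0 2 * Equiv.swap 1 3, Equiv.Perm.mem_alternatingGroup.2 (by decide +kernel)⟩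
        (by decide +kernel) (by decide +kernel) (by decide +kernel) (by decide +kernel)
        (by decide +kernel) 1 one_pos (by decide +kernel) (by decide +kernel) (by decide +kernel)
        (by rw [Nat.card_eq_fintype_card]; decide +kernel)
    · exact core (by norm_num) hG (Equiv.swap 0 1) (by decide +kernel) ⟨Equiv.swap 0 1 * Equiv.swap 2 3, Equiv.Perm.mem_alternatingGroup.2 (by decide +kernel)⟩
        ⟨Equiv.swap 0 2 * Equiv.swap 1 3, Equiv.Perm.mem_alternatingGroup.2 (by decide +kernel)⟩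
        (by decide +kernel) (by decide +kernel) (by decide +kernel) (by decide +kernel)
        (by decide +kernel) 1 one_pos (by decide +kernel) (by decide +kernel) (by decide +kernel)
        (by rw [Nat.card_eq_fintype_card]; decide +kernel)
    · exact core (by norm_num) hG (Equiv.swap 0 1) (by decide +kernel) ⟨Equiv.swap 0 1 * Equiv.swap 2 3, Equiv.Perm.mem_alternatingGroup.2 (by decide +kernel)⟩
        ⟨Equiv.swap 0 2 * Equiv.swap 4 5, Equiv.Perm.mem_alternatingGroup.2 (by decide +kernel)⟩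
        (by decide +kernel) (by decide +kernel) (by decide +kernel) (by decide +kernel)
        (by decide +kernel) 2 two_pos (by decide +kernel) (by decide +kernel) (by decide +kernel)
        (by rw [Nat.card_eq_fintype_card]; decide +kernel)
    · exact core (by norm_num) hG (Equiv.swap 0 1) (by decide +kernel) ⟨Equiv.swap 0 1 * Equiv.swap 2 3, Equiv.Perm.mem_alternatingGroup.2 (by decide +kernel)⟩
        ⟨Equiv.swap 0 2 * Equiv.swap 4 5, Equiv.Perm.mem_alternatingGroup.2 (by decide +kernel)⟩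
        (by decide +kernel) (by decide +kernel) (by decide +kernel) (by decide +kernel)
        (by decide +kernel) 2 two_pos (by decide +kernel) (by decide +kernel) (by decide +kernel)
        (by rw [Nat.card_eq_fintype_card]; decide +kernel)
  obtain ⟨hZ, -, -⟩ := hG
  obtain ⟨u, v, huv, hall⟩ := Nat.card_eq_two_iff.1 hZ
  have h1 : ∀ w, orderOf w = 2 → ∀ hw : w ∈ Subgroup.center G, (⟨w, hw⟩ : Subgroup.center G) ≠ 1 := fun w h hw e => by
    rw [show w = 1 from congrArg Subtype.val e, orderOf_one] at h; omega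
  have h2 : ∀ z : Subgroup.center G, z = u ∨ z = v := fun z => by
    have : z ∈ ({u, v} : Set _) := hall ▸ Set.mem_univ z
    simpa using this
  have a := h1 x hx (key x hx); have b := h1 y hy (key y hy)
  refine congrArg Subtype.val (?_ : (⟨x, key x hx⟩ : Subgroup.center G) = ⟨y, key y hy⟩)
  rcases h2 ⟨x, key x hx⟩ with p | p <;> rcases h2 ⟨y, key y hy⟩ with q | q <;> rcases h2 1 with r | r <;> simp_all

end Cfsg.Agent.S0447
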