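import Cfsg.Statements.S0481
import Mathlib
-- import your own Cfsg.Agent.* helpers here

set_option autoImplicit false
open Cfsg

namespace Cfsg.Agent.S0481

/-- Large extraspecial subgroups: let z be an involution of a finite group G whose centraliser C contains a normal 2-subgroup Q with centre of order 2 and all squares central, such that every element of G centralising Q lies in Q. Then C contains a Sylow 2-subgroup of G, and any involution of G whose centraliser contains a Sylow 2-subgroup of G is conjugate to z. -/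
theorem result {G : Type*} [Group G] [Finite G] (z : G) (hz : orderOf z = 2) (Q : Subgroup G) (hQC : Q ≤ Subgroup.centralizer ({z} : Set G)) (hQn : ∀ g ∈ Subgroup.centralizer ({z} : Set G), ∀ q ∈ Q, g * q * g⁻¹ ∈ Q) (hQ2 : IsPGroup 2 Q) (hZ : Nat.card (Subgroup.center Q) = 2) (hsq : ∀ x : Q, x ^ 2 ∈ Subgroup.center Q) (hlarge : Subgroup.centralizer (Q : Set G) ≤ Q) : (∃ P : Sylow 2 G, (P : Subgroup G) ≤ Subgroup.centralizer ({z} : Set G)) ∧ ∀ u : G, orderOf u = 2 → (∃ P : Sylow 2 G, (P : Subgroup G) ≤ Subgroup.centralizer ({u} : Set G)) → IsConj z u := by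
  haveI : Fact (Nat.Prime 2) := ⟨Nat.prime_two⟩
  set C := Subgroup.centralizer ({z} : Set G) with hCdef
  have hzQ : z ∈ Q := hlarge fun q hq => Subgroup.mem_centralizer_singleton_iff.1 (hQC hq)
  have hzZ : (⟨z, hzQ⟩ : Q) ∈ Subgroup.center Q :=
    Subgroup.mem_center_iff.2 fun q => Subtype.ext (Subgroup.mem_centralizer_singleton_iff.1 (hQC q.2))
  have hz1 : z ≠ 1 := fun k => by rw [k, orderOf_one] at hz; omega
  -- central elements of a 2-group over `Q`
  have hcen : ∀ w : G, (∀ q ∈ Q, Commute q w) → w ≠ 1 → w = z := by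
    intro w hw hw1
    have hwQ : w ∈ Q := hlarge fun q hq => (hw q hq).eq
    have hwZ : (⟨w, hwQ⟩ : Q) ∈ Subgroup.center Q :=
      Subgroup.mem_center_iff.2 fun q => Subtype.ext (hw q q.2).eq
    exact congrArg (fun v : Subgroup.center Q => ((v : Q) : G))
      (((Nat.card_eq_two_iff' (1 : Subgroup.center Q)).1 hZ).unique (y₁ := ⟨_, hwZ⟩) (y₂ := ⟨_, hzZ⟩)
        (fun k => hw1 (congrArg (fun v : Subgroup.center Q => ((v : Q) : G)) k))
        (fun k => hz1 (congrArg (fun v : Subgroup.center Q => ((v : Q) : G)) k)))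
  obtain ⟨S, hS⟩ := (hQ2.comap_of_injective C.subtype C.subtype_injective).exists_le_sylow
  obtain ⟨T, hT⟩ := (S.isPGroup'.map C.subtype).exists_le_sylow
  have hQT : Q ≤ (T : Subgroup G) := fun q hq => hT ⟨⟨q, hQC hq⟩, hS hq, rfl⟩
  have hTC : (T : Subgroup G) ≤ C := by
    haveI : Nontrivial (T : Subgroup G) := ⟨⟨⟨z, hQT hzQ⟩, 1, fun k => hz1 (congrArg Subtype.val k)⟩⟩
    haveI := T.isPGroup'.center_nontrivial
    obtain ⟨⟨w, hw⟩, hne⟩ := exists_ne (1 : Subgroup.center (T : Subgroup G))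
    have hwz : (w : G) = z := hcen w
      (fun q hq => congrArg Subtype.val (Subgroup.mem_center_iff.1 hw ⟨q, hQT hq⟩))
      (fun k => hne (Subtype.ext (Subtype.ext k)))
    intro t ht
    rw [hCdef, Subgroup.mem_centralizer_singleton_iff, ← hwz]
    exact congrArg Subtype.val (Subgroup.mem_center_iff.1 hw ⟨t, ht⟩)
  refine ⟨⟨T, hTC⟩, ?_⟩
  rintro u hu ⟨P, hP⟩
  have hu1 : u ≠ 1 := fun k => by rw [k, orderOf_one] at hu; omega
  obtain ⟨g, hg⟩ := MulAction.exists_smul_eq G P T
  have key : g * u * g⁻¹ = z := by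
    refine hcen _ (fun q hq => ?_) fun k => hu1 (by simpa using k)
    have hqT : q ∈ ((g • P : Sylow 2 G) : Subgroup G) := hg.symm ▸ hQT hq
    obtain ⟨p, hp, rfl⟩ := hqT
    have h1 := Subgroup.mem_centralizer_singleton_iff.1 (hP hp)
    show (g * p * g⁻¹) * (g * u * g⁻¹) = (g * u * g⁻¹) * (g * p * g⁻¹)
    calc (g * p * g⁻¹) * (g * u * g⁻¹) = g * (p * u) * g⁻¹ := by group
      _ = _ := by rw [h1]; group
  exact (isConj_iff.2 ⟨g, key⟩).symm

end Cfsg.Agent.S0481
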