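import Cfsg.Statements.S0493
import Cfsg.Agent.Char.Burnside
import Cfsg.Agent.Inv.CyclicSylow
import Mathlib.GroupTheory.IndexNormal
import Mathlib.GroupTheory.Sylow
import Mathlib.GroupTheory.Solvable
import Mathlib.Tactic
-- import your own Cfsg.Agent.* helpers here

set_option autoImplicit false
open Cfsg

namespace Cfsg.Agent.S0493

/-- The factorizations. -/
def tbl : List (ℕ × ℕ × ℕ × ℕ × ℕ) := [(3, 3, 3, 1, 0), (4, 2, 2, 2, 0), (5, 5, 5, 1, 0), (7, 7, 7, 1, 0), (8, 2, 2, 3, 0), (9, 3, 3, 2, 0), (11, 11, 11, 1, 0), (12, 2, 3, 2, 1), (13, 13, 13, 1, 0), (15, 3, 5, 1, 1), (16, 2, 2, 4, 0), (17, 17, 17, 1, 0), (19, 19, 19, 1, 0), (20, 2, 5, 2, 1), (21, 3, 7, 1, 1), (23, 23, 23, 1, 0), (24, 2, 3, 3, 1), (25, 5, 5, 2, 0), (27, 3, 3, 3, 0), (28, 2, 7, 2, 1), (29, 29, 29, 1, 0), (31, 31, 31, 1, 0), (32, 2, 2, 5, 0), (33, 3, 11, 1, 1), (35, 5, 7, 1, 1), (36, 2, 3, 2, 2), (37, 37, 37, 1, 0), (39, 3, 13, 1, 1), (40, 2, 5, 3, 1),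 (41, 41, 41, 1, 0), (43, 43, 43, 1, 0), (44, 2, 11, 2, 1), (45, 3, 5, 2, 1), (47, 47, 47, 1, 0), (48, 2, 3, 4, 1), (49, 7, 7, 2, 0), (51, 3, 17, 1, 1), (52, 2, 13, 2, 1), (53, 53, 53, 1, 0), (55, 5, 11, 1, 1), (56, 2, 7, 3, 1), (57, 3, 19, 1, 1), (59, 59, 59, 1, 0), (61, 61, 61, 1, 0), (63, 3, 7, 2, 1), (64, 2, 2, 6, 0), (65, 5, 13, 1, 1), (67, 67, 67, 1, 0), (68, 2, 17, 2, 1), (69, 3, 23, 1, 1), (71, 71, 71, 1, 0), (72, 2, 3, 3, 2), (73, 73, 73, 1, 0), (75, 3, 5, 1, 2), (76, 2, 19, 2, 1), (77, 7, 11, 1, 1), (79, 79, 79, 1, 0), (80, 2, 5, 4, 1), (81, 3, 3, 4, 0), (83, 83, 83, 1, 0), (85, 5, 17, 1, 1), (87, 3, 29, 1, 1), (88, 2, 11, 3, 1), (89, 89, 89, 1, 0), (91, 7, 13, 1, 1), (92, 2, 23, 2, 1), (93, 3, 31, 1, 1), (95, 5, 19, 1, 1), (96, 2, 3, 5, 1), (97, 97, 97, 1, 0), (99, 3, 11, 2, 1), (100, 2, 5, 2, 2)]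

theorem tbl_spec : ∀ r ∈ tbl, r.2.1.Prime ∧ r.2.2.1.Prime ∧ r.1 = r.2.1 ^ r.2.2.2.1 * r.2.2.1 ^ r.2.2.2.2 := by
  simp only [tbl, List.forall_mem_cons, List.not_mem_nil, false_imp_iff, implies_true, and_true]
  norm_num

theorem tbl_cover : ∀ N ∈ List.range 101, N < 2 ∨ N = 60 ∨ N = 84 ∨ N % 4 = 2 ∨ ∃ r ∈ tbl, r.1 = N := by
  decide +kernel

end Cfsg.Agent.S0493

namespace Cfsg.Agent.S0493

/-- A finite simple group of order at most 100 that is not cyclic has order 60. -/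
theorem result {G : Type*} [Group G] [Finite G] [IsSimpleGroup G]
    (hG : ¬ IsCyclic G) (h : Nat.card G ≤ 100) : Nat.card G = 60 := by
  rcases tbl_cover (Nat.card G) (List.mem_range.2 (by omega)) with h1 | h1 | h1 | h1 | ⟨r, hr, h1⟩
  · exfalso
    have := Finite.one_lt_card (α := G)
    omega
  · exact h1
  · exfalso
    haveI : Fact (Nat.Prime 7) := ⟨by norm_num⟩
    obtain ⟨P⟩ := (inferInstance : Nonempty (Sylow 7 G))
    have hP : Nat.card (P : Subgroup G) = 7 := by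
      rw [Sylow.card_eq_multiplicity, h1, show (84 : ℕ) = 7 * 12 by norm_num,
        Nat.factorization_mul (by norm_num) (by norm_num), Finsupp.coe_add, Pi.add_apply,
        Nat.Prime.factorization_self (Fact.out), Nat.factorization_eq_zero_of_not_dvd (by norm_num)]
      norm_num
    have hm := card_sylow_modEq_one 7 G
    have hd := Sylow.card_dvd_index P
    have hi := (P : Subgroup G).card_mul_index
    rw [hP, h1] at hi
    rw [show (P : Subgroup G).index = 12 by omega] at hd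
    have hle := Nat.le_of_dvd (by norm_num) hd
    rw [Nat.ModEq] at hm
    have hone : Nat.card (Sylow 7 G) = 1 := by
      interval_cases hs : Nat.card (Sylow 7 G) <;> simp_all
    rw [Sylow.card_eq_index_normalizer P, Subgroup.index_eq_one] at hone
    replace hone : (P : Subgroup G).Normal := Subgroup.normalizer_eq_top_iff.1 hone
    rcases hone.eq_bot_or_eq_top with e | e
    · rw [e, Subgroup.card_bot] at hP; omega
    · rw [e, Subgroup.card_top, h1] at hP; omega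
  · exfalso
    haveI : Fact (Nat.Prime 2) := ⟨Nat.prime_two⟩
    obtain ⟨T⟩ := (inferInstance : Nonempty (Sylow 2 G))
    have hev : Even (Nat.card G) := even_iff_two_dvd.2 (by omega)
    have hT : Nat.card (T : Subgroup G) = 2 := by
      obtain ⟨k, hk⟩ := IsPGroup.iff_card.1 T.isPGroup'
      have hd : Nat.card (T : Subgroup G) ∣ Nat.card G := Subgroup.card_subgroup_dvd_card _
      have h2 : 2 ∣ Nat.card (T : Subgroup G) := Sylow.dvd_card_of_dvd_card T (by omega)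
      rw [hk] at hd h2 ⊢
      rcases k with _ | _ | k
      · norm_num at h2
      · norm_num
      · have : 4 ∣ Nat.card G := dvd_trans ⟨2 ^ k, by ring⟩ hd
        omega
    obtain ⟨H, hH⟩ := CfsgLib.Inv.exists_index_two_of_cyclic_sylow hev T (isCyclic_of_prime_card (p := 2) hT)
    rcases (Subgroup.normal_of_index_eq_two hH).eq_bot_or_eq_top with e | e
    · rw [e, Subgroup.index_bot] at hH
      exact hG (isCyclic_of_prime_card (p := 2) hH)
    · rw [e, Subgroup.index_top] at hH; omega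
  · exfalso
    obtain ⟨hp, hq, hN⟩ := tbl_spec r hr
    rw [h1] at hN
    have hsol := CfsgLib.Char.solvable_of_card_two_primes (G := G) _ _ _ _ hp hq hN
    have hcomm : ∀ a b : G, a * b = b * a := IsSimpleGroup.comm_iff_isSolvable.2 hsol
    let : CommGroup G := { (inferInstance : Group G) with mul_comm := hcomm }
    exact hG IsSimpleGroup.isCyclic

end Cfsg.Agent.S0493
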