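import Cfsg.Statements.S0498
import Cfsg.Agent.Perm.PrimePSLField
import Cfsg.Agent.Fus.SmallPSL

set_option autoImplicit false
open Cfsg
open CfsgLib.Perm.PrimePSL

namespace Cfsg.Agent.S0498

/-- A simple group of order 660, respectively 1092, is isomorphic to the projective special linear group of dimension 2
over the field with 11, respectively 13, elements. -/
theorem result {G : Type*} [Group G] [Finite G] [IsSimpleGroup G] (p : ℕ)
    (hp : p = 11 ∨ p = 13) (h : 2 * Nat.card G = p * (p ^ 2 - 1)) {F : Type*} [Field F] [Fintype F]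
    (hF : Fintype.card F = p) : Nonempty (G ≃* Matrix.ProjectiveSpecialLinearGroup (Fin 2) F) := by
  classical
  rcases hp with rfl | rfl
  · haveI : Fact (Nat.Prime 11) := ⟨by norm_num⟩
    have h' : Nat.card G = 660 := by omega
    have hn : Nat.card (Sylow 11 G) = 11 + 1 := by
      refine card_sylow_eq (r := 60) (by rw [h']) (by rw [h']; norm_num) (by norm_num) fun d hd h1 h2 => ?_
      have hle := Nat.le_of_dvd (by norm_num) hd
      have key : ∀ e < 60 + 1, e ∣ 60 → e % 11 = 1 % 11 → e ≠ 1 → e = 11 + 1 := by decide +kernel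
      exact key d (by omega) hd h1 h2
    obtain ⟨e⟩ := CfsgLib.Perm.PrimePSL.iso_PSL CfsgLib.Fus.SmallPSL.data_eleven hn (by rw [h']) (fun h3 => absurd h3 (by norm_num))
    obtain ⟨i⟩ := psl_congr (ZMod.ringEquivOfPrime F (by norm_num : Nat.Prime 11) hF)
    exact ⟨e.trans i⟩
  · haveI : Fact (Nat.Prime 13) := ⟨by norm_num⟩
    have h' : Nat.card G = 1092 := by omega
    have hn : Nat.card (Sylow 13 G) = 13 + 1 := by
      refine card_sylow_eq (r := 84) (by rw [h']) (by rw [h']; norm_num) (by norm_num) fun d hd h1 h2 => ?_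
      have hle := Nat.le_of_dvd (by norm_num) hd
      have key : ∀ e < 84 + 1, e ∣ 84 → e % 13 = 1 % 13 → e ≠ 1 → e = 13 + 1 := by decide +kernel
      exact key d (by omega) hd h1 h2
    obtain ⟨e⟩ := CfsgLib.Perm.PrimePSL.iso_PSL CfsgLib.Fus.SmallPSL.data_thirteen hn (by rw [h']) (fun h3 => absurd h3 (by norm_num))
    obtain ⟨i⟩ := psl_congr (ZMod.ringEquivOfPrime F (by norm_num : Nat.Prime 13) hF)
    exact ⟨e.trans i⟩

end Cfsg.Agent.S0498
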