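import Cfsg.Statements.S0502
import Cfsg.Agent.Base.FourChain
-- import your own Cfsg.Agent.* helpers here

set_option autoImplicit false
open Cfsg

namespace Cfsg.Agent.S0502

/-- If a finite 2-group has a normal elementary abelian subgroup of order at least 8, then any two of its Klein
four-subgroups are joined by a chain of Klein four-subgroups with consecutive members commuting elementwise. -/
theorem result {P : Type*} [Group P] [Finite P] (hP : IsPGroup 2 P)
    (E : Subgroup P) [E.Normal] (hE : IsMulCommutative E) (hE2 : ∀ e ∈ E, e ^ 2 = 1) (hE8 : 8 ≤ Nat.card E) :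
    Cfsg.IsFourConnected P := by
  classical
  have hEA : CfsgLib.Base.FourChain.IsEA E := fun a ha => ⟨by rw [← sq, hE2 a ha], fun b hb =>
    congrArg Subtype.val (hE.is_comm.comm ⟨a, ha⟩ ⟨b, hb⟩)⟩
  obtain ⟨D₀, hD₀E, hD₀c⟩ := CfsgLib.Base.FourChain.exists_sub hP (K := E) (k := 2) (le_trans (by norm_num) hE8)
  have hD₀ : IsKleinFour ↥D₀ := CfsgLib.Base.FourChain.isKleinFour_of (hEA.mono hD₀E) (by rw [hD₀c]; norm_num)
  let R := fun A B : Subgroup P => IsKleinFour A ∧ IsKleinFour B ∧ ∀ a ∈ A, ∀ b ∈ B, a * b = b * a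
  have hsym : ∀ A B, R A B → R B A := fun A B h => ⟨h.2.1, h.1, fun b hb a ha => (h.2.2 a ha b hb).symm⟩
  have key : ∀ U : Subgroup P, IsKleinFour U → Relation.ReflTransGen R U D₀ := by
    intro U hU
    have hUA := CfsgLib.Base.FourChain.isEA_of_isKleinFour hU
    by_cases hUE : U ≤ E
    · exact Relation.ReflTransGen.single ⟨hU, hD₀, fun a ha b hb => (hEA a (hUE ha)).2 b (hD₀E hb)⟩
    obtain ⟨u, huU, huE⟩ := SetLike.not_le_iff_exists.mp hUE
    have hu2 := (hUA u huU).1
    have hN : ∀ w : P, ∀ e ∈ E, w * e * w⁻¹ ∈ E := fun w e he => Subgroup.Normal.conj_mem inferInstance e he w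
    set K := E ⊓ Subgroup.centralizer ({u} : Set P) with hK
    have hK4 : 2 ^ 2 ≤ Nat.card ↥K := CfsgLib.Base.FourChain.pow_le_card hP (n := 3)
      ((by norm_num; omega : 2 ^ 3 ≤ Nat.card ↥E).trans (CfsgLib.Base.FourChain.card_le_sq hEA hu2 (hN u))) (by norm_num)
    obtain ⟨v, hvU, hvu⟩ : ∃ v ∈ U, v ∉ Subgroup.zpowers u := by
      by_contra hall
      push_neg at hall
      have h1 := Subgroup.card_le_of_le hall
      rw [hU.card_four, Nat.card_zpowers] at h1
      have h2 := Nat.le_of_dvd (by norm_num) (orderOf_dvd_of_pow_eq_one (by rw [sq, hu2] : u ^ 2 = 1))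
      omega
    have hKN : ∀ e ∈ K, v * e * v⁻¹ ∈ K := by
      intro e he
      refine ⟨hN v e he.1, ?_⟩
      show v * e * v⁻¹ ∈ Subgroup.centralizer ({u} : Set P)
      rw [Subgroup.mem_centralizer_singleton_iff]
      have h1 := Subgroup.mem_centralizer_singleton_iff.mp he.2
      have h2 : v * u = u * v := (hUA v hvU).2 u huU
      calc v * e * v⁻¹ * u = v * e * (v⁻¹ * (u * v)) * v⁻¹ := by group
        _ = v * e * (v⁻¹ * (v * u)) * v⁻¹ := by rw [h2]
        _ = v * (e * u) * v⁻¹ := by group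
        _ = v * u * e * v⁻¹ := by rw [h1]; group
        _ = u * v * e * v⁻¹ := by rw [h2]
        _ = _ := by group
    have hK2 : 2 ^ 1 ≤ Nat.card ↥(K ⊓ Subgroup.centralizer ({v} : Set P)) := CfsgLib.Base.FourChain.pow_le_card hP (n := 2)
      (hK4.trans (CfsgLib.Base.FourChain.card_le_sq (hEA.mono inf_le_left) (hUA v hvU).1 hKN)) (by norm_num)
    obtain ⟨⟨e, heK⟩, he1⟩ : ∃ e : ↥(K ⊓ Subgroup.centralizer ({v} : Set P)), e ≠ 1 := by
      haveI : Nontrivial ↥(K ⊓ Subgroup.centralizer ({v} : Set P)) := Finite.one_lt_card_iff_nontrivial.mp (by omega)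
      exact exists_ne 1
    have he1' : e ≠ 1 := fun h => he1 (Subtype.ext h)
    have heu : e * u = u * e := Subgroup.mem_centralizer_singleton_iff.mp heK.1.2
    have hev : e * v = v * e := Subgroup.mem_centralizer_singleton_iff.mp heK.2
    set W := Subgroup.zpowers e ⊔ Subgroup.zpowers u with hW
    have hWA : CfsgLib.Base.FourChain.IsEA W := (CfsgLib.Base.FourChain.isEA_zpowers (hEA e heK.1.1).1).sup
      (CfsgLib.Base.FourChain.isEA_zpowers hu2) (fun a ha b hb => by
        obtain ⟨i, rfl⟩ := Subgroup.mem_zpowers_iff.mp ha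
        obtain ⟨j, rfl⟩ := Subgroup.mem_zpowers_iff.mp hb
        exact ((show Commute e u from heu).zpow_zpow i j).eq)
    have hW4 : 2 ^ 2 ≤ Nat.card ↥W := by
      have h1 : 2 * Nat.card ↥(Subgroup.zpowers e) ≤ Nat.card ↥W := CfsgLib.Base.FourChain.card_lt_sup (fun h => huE (by
        exact (Subgroup.zpowers_le.mpr heK.1.1 : Subgroup.zpowers e ≤ E) (h (Subgroup.mem_zpowers u))))
      have h2 : 2 ≤ Nat.card ↥(Subgroup.zpowers e) := by
        rw [Nat.card_zpowers]
        have := orderOf_pos e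
        have : orderOf e ≠ 1 := fun h => he1' (orderOf_eq_one_iff.mp h)
        omega
      omega
    obtain ⟨X, hXW, hXc⟩ := CfsgLib.Base.FourChain.exists_sub hP hW4
    obtain ⟨D, hDK, hDc⟩ := CfsgLib.Base.FourChain.exists_sub hP hK4
    have hX : IsKleinFour ↥X := CfsgLib.Base.FourChain.isKleinFour_of (hWA.mono hXW) (by rw [hXc]; norm_num)
    have hD : IsKleinFour ↥D := CfsgLib.Base.FourChain.isKleinFour_of ((hEA.mono inf_le_left).mono hDK) (by rw [hDc]; norm_num)
    have hUsub : U ≤ Subgroup.centralizer ({e} : Set P) := by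
      have h4 : Nat.card ↥U ≤ Nat.card ↥(Subgroup.zpowers u ⊔ Subgroup.zpowers v) := by
        have h1 := CfsgLib.Base.FourChain.card_lt_sup (A := Subgroup.zpowers u) (B := Subgroup.zpowers v)
          (fun h => hvu (h (Subgroup.mem_zpowers v)))
        have h2 : 2 ≤ Nat.card ↥(Subgroup.zpowers u) := by
          rw [Nat.card_zpowers]
          have := orderOf_pos u
          have : orderOf u ≠ 1 := fun h => huE (by rw [orderOf_eq_one_iff.mp h]; exact E.one_mem)
          omega
        rw [hU.card_four]; omega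
      rw [← Subgroup.eq_of_le_of_card_ge (sup_le (Subgroup.zpowers_le.mpr huU) (Subgroup.zpowers_le.mpr hvU)) h4]
      refine sup_le (Subgroup.zpowers_le.mpr ?_) (Subgroup.zpowers_le.mpr ?_)
      · exact Subgroup.mem_centralizer_singleton_iff.mpr heu.symm
      · exact Subgroup.mem_centralizer_singleton_iff.mpr hev.symm
    have s1 : R U X := ⟨hU, hX, fun a ha b hb => (CfsgLib.Base.FourChain.commute_sup
      (A := Subgroup.zpowers e) (B := Subgroup.zpowers u) (x := a)
      (fun c hc => by
        obtain ⟨i, rfl⟩ := Subgroup.mem_zpowers_iff.mp hc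
        exact ((show Commute e a from (Subgroup.mem_centralizer_singleton_iff.mp (hUsub ha)).symm).zpow_left i).eq)
      (fun c hc => (hUA c (Subgroup.zpowers_le.mpr huU hc)).2 a ha) b (hXW hb)).symm⟩
    have s2 : R X D := ⟨hX, hD, fun a ha b hb => CfsgLib.Base.FourChain.commute_sup
      (A := Subgroup.zpowers e) (B := Subgroup.zpowers u) (x := b)
      (fun c hc => (hEA c ((Subgroup.zpowers_le.mpr heK.1.1 : Subgroup.zpowers e ≤ E) hc)).2 b (hDK hb).1)
      (fun c hc => by
        obtain ⟨i, rfl⟩ := Subgroup.mem_zpowers_iff.mp hc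
        exact ((show Commute u b from (Subgroup.mem_centralizer_singleton_iff.mp (hDK hb).2).symm).zpow_left i).eq)
      a (hXW ha)⟩
    have s3 : R D D₀ := ⟨hD, hD₀, fun a ha b hb => (hEA a (hDK ha).1).2 b (hD₀E hb)⟩
    exact ((Relation.ReflTransGen.single s1).tail s2).tail s3
  intro U V hU hV
  have hrev : ∀ C D, Relation.ReflTransGen R C D → Relation.ReflTransGen R D C := fun C D h => by
    induction h with
    | refl => exact Relation.ReflTransGen.refl
    | tail _ hbc ih => exact Relation.ReflTransGen.head (hsym _ _ hbc) ih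
  exact (key U hU).trans (hrev _ _ (key V hV))

end Cfsg.Agent.S0502
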