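import Cfsg.Statements.S0505
import Cfsg.Agent.Inv.CharPLocal
import Cfsg.Agent.Inv.CharTwo
import Cfsg.Agent.Solv.FittingBasic
-- import your own Cfsg.Agent.* helpers here

set_option autoImplicit false
open Cfsg

namespace Cfsg.Agent.S0505

/-- Let G be a finite group of even order in which the centralizer of every involution is solvable and has trivial
core (no nontrivial normal subgroup of odd order). Then G is of characteristic 2 type. -/
theorem result {G : Type*} [Group G] [Finite G]
    (h2 : Even (Nat.card G))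
    (hs : ∀ t : G, orderOf t = 2 → Group.IsSolvable (Subgroup.centralizer ({t} : Set G)))
    (hc : ∀ t : G, orderOf t = 2 → Cfsg.oddCore (Subgroup.centralizer ({t} : Set G)) = ⊥) :
    Cfsg.IsCharacteristicTwoType G := by
  classical
  refine ⟨h2, fun T hT hT1 => ?_⟩
  haveI : Fact (Nat.Prime 2) := ⟨Nat.prime_two⟩
  haveI : Nontrivial ↥T := (Subgroup.nontrivial_iff_ne_bot T).mpr hT1
  haveI := hT.center_nontrivial
  obtain ⟨k, hk, hcard⟩ := (hT.to_subgroup (Subgroup.center ↥T)).nontrivial_iff_card.mp inferInstance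
  obtain ⟨⟨⟨t, htT⟩, htZ⟩, ht⟩ := exists_prime_orderOf_dvd_card' (G := ↥(Subgroup.center ↥T)) 2
    (hcard ▸ dvd_pow_self 2 hk.ne')
  rw [Subgroup.orderOf_mk, Subgroup.orderOf_mk] at ht
  set H := Subgroup.centralizer ({t} : Set G) with hH
  haveI : Group.IsSolvable ↥H := hs t ht
  have hTH : T ≤ H := fun x hx => Subgroup.mem_centralizer_singleton_iff.mpr
    (congrArg Subtype.val (Subgroup.mem_center_iff.mp htZ ⟨x, hx⟩))
  have hCH : Subgroup.centralizer (T : Set G) ≤ H := fun x hx => Subgroup.mem_centralizer_singleton_iff.mpr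
    (Subgroup.mem_centralizer_iff.mp hx t htT).symm
  have hchar : Subgroup.centralizer (Cfsg.pCore 2 ↥H : Set ↥H) ≤ Cfsg.pCore 2 ↥H := by
    have := CfsgLib.Solv.centralizer_fittingSubgroup_le (G := ↥H)
    rwa [CfsgLib.Inv.fitting_eq_pCore_two (hc t ht)] at this
  exact CfsgLib.Inv.charP_normalizer hchar hT hTH hCH

end Cfsg.Agent.S0505
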