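import Cfsg.Statements.S0520
import Cfsg.Agent.Base.FourChain
import Cfsg.Prelude.Def_CaseTheorems
import Mathlib.GroupTheory.Nilpotent
-- import your own Cfsg.Agent.* helpers here

set_option autoImplicit false
open Cfsg

namespace Cfsg.Agent.S0520

open CfsgLib.Base.FourChain

variable {G : Type*} [Group G] [Finite G]

theorem rank_mono {A B : Subgroup G} (h : A ≤ B) (hA : ¬ Cfsg.PRankLE 2 1 A) : ¬ Cfsg.PRankLE 2 1 B := by
  intro hB
  refine hA fun E hEc hE2 => ?_
  have hi : Function.Injective (Subgroup.inclusion h) := Subgroup.inclusion_injective h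
  rw [Nat.card_congr (E.equivMapOfInjective (Subgroup.inclusion h) hi).toEquiv]
  refine hB _ ⟨⟨?_⟩⟩ ?_
  · rintro ⟨-, ⟨a, ha, rfl⟩⟩ ⟨-, ⟨b, hb, rfl⟩⟩
    refine Subtype.ext ?_
    show Subgroup.inclusion h a * Subgroup.inclusion h b = Subgroup.inclusion h b * Subgroup.inclusion h a
    rw [← map_mul, ← map_mul, show a * b = b * a from congrArg Subtype.val (hEc.is_comm.comm ⟨a, ha⟩ ⟨b, hb⟩)]
  · rintro - ⟨a, ha, rfl⟩
    rw [← map_pow, hE2 a ha, map_one]

theorem rank_of_four {U : Subgroup G} (hU : IsKleinFour U) : ¬ Cfsg.PRankLE 2 1 U := by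
  intro h
  have hea := isEA_of_isKleinFour hU
  have := h ⊤ ⟨⟨fun a b => Subtype.ext (Subtype.ext ((hea a.1 a.1.2).2 b.1 b.1.2))⟩⟩
    (fun a _ => Subtype.ext (by rw [sq, Subgroup.coe_mul, Subgroup.coe_one]; exact (hea a a.2).1))
  rw [Subgroup.card_top, hU.card_four] at this
  omega

theorem four_of_rank {Q : Subgroup G} (hQ : ¬ Cfsg.PRankLE 2 1 Q) : ∃ U : Subgroup G, U ≤ Q ∧ IsKleinFour U := by
  rw [Cfsg.PRankLE] at hQ
  push Not at hQ
  obtain ⟨A, hAc, hA2, hcard⟩ := hQ
  have hp : IsPGroup 2 A := fun a => ⟨1, Subtype.ext (by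
    rw [pow_one, Subgroup.coe_pow, hA2 a a.2, Subgroup.coe_one])⟩
  obtain ⟨j, hj⟩ := hp.exists_card_eq
  have hj2 : 2 ^ 2 ≤ Nat.card A := by
    rw [hj] at hcard ⊢
    exact Nat.pow_le_pow_right two_pos ((Nat.pow_lt_pow_iff_right (by norm_num : 1 < 2)).1 hcard)
  obtain ⟨D, -, hD⟩ := Sylow.exists_subgroup_le_card_pow_prime_of_le_card Nat.prime_two hp
    (H := (⊤ : Subgroup A)) (by rw [Subgroup.card_top]; exact hj2)
  refine ⟨(D.map A.subtype).map Q.subtype, Subgroup.map_subtype_le _, isKleinFour_of ?_ ?_⟩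
  · rintro - ⟨-, ⟨a, ha, rfl⟩, rfl⟩
    refine ⟨?_, ?_⟩
    · have := congrArg (fun z : Q => (z : G)) (hA2 a a.2)
      simpa [sq] using this
    · rintro - ⟨-, ⟨b, hb, rfl⟩, rfl⟩
      have := congrArg (fun z : A => ((z : Q) : G)) (hAc.is_comm.comm a b)
      simpa using this
  · rw [← Nat.card_congr ((D.map A.subtype).equivMapOfInjective _ Q.subtype_injective).toEquiv,
      ← Nat.card_congr (D.equivMapOfInjective _ A.subtype_injective).toEquiv, hD]
    norm_num

theorem four_conj {U : Subgroup G} (hU : IsKleinFour U) (g : G) :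
    IsKleinFour (U.map (MulAut.conj g).toMonoidHom) := by
  refine isKleinFour_of ?_ ?_
  · rintro - ⟨a, ha, rfl⟩
    refine ⟨by rw [← map_mul, ((isEA_of_isKleinFour hU) a ha).1, map_one], ?_⟩
    rintro - ⟨b, hb, rfl⟩
    rw [← map_mul, ← map_mul, ((isEA_of_isKleinFour hU) a ha).2 b hb]
  · rw [← Nat.card_congr (U.equivMapOfInjective _ (MulEquiv.injective _)).toEquiv, hU.card_four]

abbrev Adj (G : Type*) [Group G] (A B : Subgroup G) : Prop :=
  IsKleinFour A ∧ IsKleinFour B ∧ ∀ a ∈ A, ∀ b ∈ B, a * b = b * a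

theorem chain_symm {A B : Subgroup G} (h : Relation.ReflTransGen (Adj G) A B) :
    Relation.ReflTransGen (Adj G) B A := by
  induction h with
  | refl => exact .refl
  | tail _ h ih => exact .head ⟨h.2.1, h.1, fun a ha b hb => (h.2.2 b hb a ha).symm⟩ ih

theorem chain_conj {A B : Subgroup G} (g : G) (h : Relation.ReflTransGen (Adj G) A B) :
    Relation.ReflTransGen (Adj G) (A.map (MulAut.conj g).toMonoidHom) (B.map (MulAut.conj g).toMonoidHom) := by
  induction h with
  | refl => exact .refl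
  | tail _ h ih =>
    refine ih.tail ⟨four_conj h.1 g, four_conj h.2.1 g, ?_⟩
    rintro - ⟨a, ha, rfl⟩ - ⟨b, hb, rfl⟩
    rw [← map_mul, ← map_mul, h.2.2 a ha b hb]

end Cfsg.Agent.S0520

namespace Cfsg.Agent.S0520

/-- Let G be a finite group of 2-rank at least 2 and S a Sylow 2-subgroup whose commuting graph of Klein four-subgroups is
connected. Then the commuting graph of Klein four-subgroups of G is disconnected if and only if the 2-generated core — the
subgroup generated by the normalizers N_G(Q) of the subgroups Q of S that contain a Klein four-group — is a proper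
subgroup of G. -/
theorem result {G : Type*} [Group G] [Finite G] (h2 : ¬ Cfsg.PRankLE 2 1 G)
    (S : Sylow 2 G) (hS : Cfsg.IsFourConnected (S : Subgroup G)) :
    ¬ Cfsg.IsFourConnected G ↔
      (⨆ Q : {Q : Subgroup G // Q ≤ (S : Subgroup G) ∧ ¬ Cfsg.PRankLE 2 1 Q},
          Subgroup.normalizer ((Q : Subgroup G) : Set G)) ≠ ⊤ := by
  classical
  set Γ := ⨆ Q : {Q : Subgroup G // Q ≤ (S : Subgroup G) ∧ ¬ Cfsg.PRankLE 2 1 Q}, Subgroup.normalizer ((Q : Subgroup G) : Set G)
    with hΓ
  have hgen : ∀ Q : Subgroup G, Q ≤ (S : Subgroup G) → ¬ Cfsg.PRankLE 2 1 Q → Subgroup.normalizer (Q : Set G) ≤ Γ :=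
    fun Q h1 h2' => le_iSup (fun Q : {Q : Subgroup G // Q ≤ (S : Subgroup G) ∧ ¬ Cfsg.PRankLE 2 1 Q} =>
      Subgroup.normalizer ((Q : Subgroup G) : Set G)) ⟨Q, h1, h2'⟩
  obtain ⟨U₀, hU₀S, hU₀⟩ : ∃ U : Subgroup G, U ≤ (S : Subgroup G) ∧ IsKleinFour U := by
    obtain ⟨U, -, hU⟩ := four_of_rank (Q := (⊤ : Subgroup G)) (fun h => h2 fun A hAc hA2 => by
      rw [Nat.card_congr (A.equivMapOfInjective (Subgroup.topEquiv.symm : G ≃* (⊤ : Subgroup G)).toMonoidHom
        (MulEquiv.injective _)).toEquiv]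
      refine h _ ⟨⟨?_⟩⟩ ?_
      · rintro ⟨-, ⟨a, ha, rfl⟩⟩ ⟨-, ⟨b, hb, rfl⟩⟩
        refine Subtype.ext (Subtype.ext ?_)
        show a * b = b * a
        exact congrArg Subtype.val (hAc.is_comm.comm ⟨a, ha⟩ ⟨b, hb⟩)
      · rintro - ⟨a, ha, rfl⟩
        rw [← map_pow, hA2 a ha, map_one])
    obtain ⟨g, hg⟩ := ((IsPGroup.of_card (p := 2) (n := 2) (by rw [hU.card_four]; norm_num) : IsPGroup 2 U).exists_le_sylow)
    obtain ⟨t, ht⟩ := MulAction.exists_smul_eq G g S
    refine ⟨U.map (MulAut.conj t).toMonoidHom, ?_, four_conj hU t⟩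
    rw [← ht, Sylow.coe_subgroup_smul]
    exact Subgroup.map_mono hg
  have hrS : ¬ Cfsg.PRankLE 2 1 (S : Subgroup G) := rank_mono hU₀S (rank_of_four hU₀)
  have hNS := hgen _ le_rfl hrS
  have hSΓ : (S : Subgroup G) ≤ Γ := Subgroup.le_normalizer.trans hNS
  -- fours inside `S` are connected in `G`
  have hinS : ∀ U V : Subgroup G, U ≤ (S : Subgroup G) → V ≤ (S : Subgroup G) → IsKleinFour U → IsKleinFour V →
      Relation.ReflTransGen (Adj G) U V := by
    intro U V hU hV hU4 hV4
    have sub4 : ∀ W : Subgroup G, W ≤ (S : Subgroup G) → IsKleinFour W → IsKleinFour (W.subgroupOf (S : Subgroup G)) := by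
      intro W hW hW4
      refine CfsgLib.Base.FourChain.isKleinFour_of (fun a ha => ⟨Subtype.ext ((CfsgLib.Base.FourChain.isEA_of_isKleinFour hW4) a ha).1,
        fun b hb => Subtype.ext (((CfsgLib.Base.FourChain.isEA_of_isKleinFour hW4) a ha).2 b hb)⟩) ?_
      rw [Nat.card_congr (Subgroup.subgroupOfEquivOfLe hW).toEquiv, hW4.card_four]
    have h := hS _ _ (sub4 U hU hU4) (sub4 V hV hV4)
    have h' := Relation.ReflTransGen.lift (p := Adj G) (fun A : Subgroup (S : Subgroup G) => A.map (S : Subgroup G).subtype)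
      (fun A B hAB => by
        have m4 : ∀ A : Subgroup (S : Subgroup G), IsKleinFour A → IsKleinFour (A.map (S : Subgroup G).subtype) := by
          intro A hA
          refine CfsgLib.Base.FourChain.isKleinFour_of ?_ ?_
          · rintro - ⟨a, ha, rfl⟩
            refine ⟨by rw [← map_mul, ((CfsgLib.Base.FourChain.isEA_of_isKleinFour hA) a ha).1, map_one], ?_⟩
            rintro - ⟨b, hb, rfl⟩
            rw [← map_mul, ← map_mul, ((CfsgLib.Base.FourChain.isEA_of_isKleinFour hA) a ha).2 b hb]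
          · rw [← Nat.card_congr (A.equivMapOfInjective _ (Subgroup.subtype_injective _)).toEquiv, hA.card_four]
        refine ⟨m4 A hAB.1, m4 B hAB.2.1, ?_⟩
        rintro - ⟨a, ha, rfl⟩ - ⟨b, hb, rfl⟩
        rw [← map_mul, ← map_mul, hAB.2.2 a ha b hb]) _ _ h
    simp only [Function.onFun] at h'
    rwa [Subgroup.map_subgroupOf_eq_of_le hU, Subgroup.map_subgroupOf_eq_of_le hV] at h'
  -- Sylow subgroups meeting in rank two are conjugate inside `Γ`
  have hstep : ∀ n, ∀ T T' : Sylow 2 G, Nat.card (S : Subgroup G) - Nat.card ↥((T : Subgroup G) ⊓ (T' : Subgroup G)) = n →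
      ¬ Cfsg.PRankLE 2 1 ↥((T : Subgroup G) ⊓ (T' : Subgroup G)) → (∃ x ∈ Γ, x • S = T') → ∃ y ∈ Γ, y • S = T := by
    intro n
    induction n using Nat.strong_induction_on with
    | _ n ih =>
      intro T T' hn hrank ⟨x, hx, hxT⟩
      set D := (T : Subgroup G) ⊓ (T' : Subgroup G) with hD
      by_cases hTT : T = T'
      · exact ⟨x, hx, hTT ▸ hxT⟩
      have hcard : ∀ R : Sylow 2 G, Nat.card (R : Subgroup G) = Nat.card (S : Subgroup G) := fun R => by
        rw [Sylow.card_eq_multiplicity, Sylow.card_eq_multiplicity]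
      have hne : ∀ R : Sylow 2 G, D ≤ (R : Subgroup G) → (R : Subgroup G) ≠ D ∨ T = T' := by
        intro R _
        by_contra hc
        push Not at hc
        refine hc.2 (Sylow.ext ?_)
        have e1 : D = (T : Subgroup G) := Subgroup.eq_of_le_of_card_ge inf_le_left (by rw [← hc.1]; exact le_of_eq ((hcard _).trans (hcard R).symm))
        have e2 : D = (T' : Subgroup G) := Subgroup.eq_of_le_of_card_ge inf_le_right (by rw [← hc.1]; exact le_of_eq ((hcard _).trans (hcard R).symm))
        exact e1.symm.trans e2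
      have grow : ∀ R : Sylow 2 G, D ≤ (R : Subgroup G) → D < (R : Subgroup G) ⊓ Subgroup.normalizer (D : Set G) := by
        intro R hR
        refine lt_of_le_of_ne (le_inf hR Subgroup.le_normalizer) fun e => ?_
        haveI : Group.IsNilpotent (R : Subgroup G) := R.isPGroup'.isNilpotent
        have hlt : D.subgroupOf (R : Subgroup G) < ⊤ := lt_top_iff_ne_top.2 fun e' =>
          ((hne R hR).resolve_right hTT) (le_antisymm (Subgroup.subgroupOf_eq_top.1 e') hR)
        have hgt := Group.normalizerCondition_of_isNilpotent _ hlt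
        rw [← Subgroup.subgroupOf_normalizer_eq hR] at hgt
        refine hgt.not_ge fun z hz => ?_
        exact Subgroup.mem_subgroupOf.2 (e.ge (Subgroup.mem_inf.2 ⟨z.2, Subgroup.mem_subgroupOf.1 hz⟩))
      -- the normalizer of `D` lies in `Γ`
      have hND : Subgroup.normalizer (D : Set G) ≤ Γ := by
        intro z hz
        have hD' : D.map (MulAut.conj x⁻¹).toMonoidHom ≤ (S : Subgroup G) := by
          refine (Subgroup.map_mono inf_le_right).trans (le_of_eq ?_)
          have : x⁻¹ • T' = S := by rw [← hxT, inv_smul_smul]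
          rw [← this, Sylow.coe_subgroup_smul]
          rfl
        have hrk : ¬ Cfsg.PRankLE 2 1 ↥(D.map (MulAut.conj x⁻¹).toMonoidHom) := by
          obtain ⟨U, hU, hU4⟩ := four_of_rank hrank
          exact rank_mono (Subgroup.map_mono hU) (rank_of_four (four_conj hU4 x⁻¹))
        have hmem := hgen _ hD' hrk (show x⁻¹ * z * x ∈ Subgroup.normalizer
            ((D.map (MulAut.conj x⁻¹).toMonoidHom : Subgroup G) : Set G) from by
          refine Subgroup.mem_normalizer_iff.2 fun w => ?_
          rw [Subgroup.mem_map_equiv, Subgroup.mem_map_equiv]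
          have := Subgroup.mem_normalizer_iff.1 hz (x * w * x⁻¹)
          simp only [MulAut.conj_symm_apply, inv_inv] at *
          rw [this]
          simp [mul_assoc])
        have := Γ.mul_mem (Γ.mul_mem hx hmem) (Γ.inv_mem hx)
        simpa [mul_assoc] using this
      -- a Sylow subgroup of `Γ` containing the normalizer part of `T`
      set W := (T : Subgroup G) ⊓ Subgroup.normalizer (D : Set G) with hW
      have hWp : IsPGroup 2 (W.subgroupOf Γ) :=
        (T.isPGroup'.to_le inf_le_left).of_equiv (Subgroup.subgroupOfEquivOfLe (inf_le_right.trans hND)).symm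
      obtain ⟨R, hR⟩ := hWp.exists_le_sylow
      obtain ⟨y, hy⟩ := MulAction.exists_smul_eq Γ (S.subtype hSΓ) R
      rw [Sylow.smul_subtype] at hy
      have hWy : W ≤ (((y : G) • S : Sylow 2 G) : Subgroup G) := by
        intro w hw
        have := hR (show (⟨w, hND hw.2⟩ : Γ) ∈ W.subgroupOf Γ from hw)
        rw [← hy] at this
        exact this
      have hDlt : Nat.card D < Nat.card ↥((T : Subgroup G) ⊓ (((y : G) • S : Sylow 2 G) : Subgroup G)) :=
        lt_of_lt_of_le (Set.ncard_lt_ncard (grow T inf_le_left) (Set.toFinite _) |> fun h => by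
          rwa [← Nat.card_coe_set_eq, ← Nat.card_coe_set_eq] at h) (Subgroup.card_le_of_le (le_inf inf_le_left hWy))
      have hle : Nat.card ↥((T : Subgroup G) ⊓ (((y : G) • S : Sylow 2 G) : Subgroup G)) ≤ Nat.card (S : Subgroup G) :=
        hcard T ▸ Subgroup.card_le_of_le inf_le_left
      exact ih _ (by rw [← hn]; omega) T _ rfl
        (rank_mono (le_inf inf_le_left (((grow T inf_le_left).le).trans hWy)) hrank) ⟨y, y.2, rfl⟩
  constructor
  · intro hncon htop
    apply hncon
    -- the component of `U₀` is invariant under `Γ`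
    have hinv : ∀ g ∈ Γ, Relation.ReflTransGen (Adj G) U₀ (U₀.map (MulAut.conj g).toMonoidHom) := by
      intro g hg
      rw [hΓ] at hg
      induction hg using Subgroup.iSup_induction' with
      | hp Q g hg =>
        obtain ⟨U, hUQ, hU⟩ := four_of_rank Q.2.2
        have hUS : U ≤ (S : Subgroup G) := hUQ.trans Q.2.1
        have hgU : U.map (MulAut.conj g).toMonoidHom ≤ (S : Subgroup G) := by
          refine le_trans ?_ Q.2.1
          rintro - ⟨u, hu, rfl⟩
          exact (Subgroup.mem_normalizer_iff.1 hg u).1 (hUQ hu)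
        exact (hinS _ _ hU₀S hgU hU₀ (four_conj hU g)).trans (chain_conj g (hinS _ _ hUS hU₀S hU hU₀))
      | h1 =>
        have : U₀.map (MulAut.conj (1 : G)).toMonoidHom = U₀ := by
          ext u; simp
        rw [this]
      | hmul a b _ _ ha hb =>
        have : U₀.map (MulAut.conj (a * b)).toMonoidHom = (U₀.map (MulAut.conj b).toMonoidHom).map (MulAut.conj a).toMonoidHom := by
          rw [Subgroup.map_map]
          congr 1
          ext u; simp [mul_assoc]
        rw [this]
        exact ha.trans (chain_conj a hb)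
    intro U V hU hV
    have key : ∀ U : Subgroup G, IsKleinFour U → Relation.ReflTransGen (Adj G) U₀ U := by
      intro U hU
      obtain ⟨R, hR⟩ := ((IsPGroup.of_card (p := 2) (n := 2) (by rw [hU.card_four]; norm_num) : IsPGroup 2 U).exists_le_sylow)
      obtain ⟨t, ht⟩ := MulAction.exists_smul_eq G R S
      have hts : U.map (MulAut.conj t).toMonoidHom ≤ (S : Subgroup G) := by
        rw [← ht, Sylow.coe_subgroup_smul]
        exact Subgroup.map_mono hR
      have h1 := chain_conj t⁻¹ (hinS _ _ hU₀S hts hU₀ (four_conj hU t))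
      have : (U.map (MulAut.conj t).toMonoidHom).map (MulAut.conj t⁻¹).toMonoidHom = U := by
        rw [Subgroup.map_map]
        ext u; simp [mul_assoc]
      rw [this] at h1
      exact (hinv t⁻¹ (htop ▸ Subgroup.mem_top _)).trans h1
    exact (chain_symm (key U hU)).trans (key V hV)
  · intro hne hcon
    apply hne
    refine (Subgroup.eq_top_iff' _).2 fun g => ?_
    have key : ∀ V : Subgroup G, Relation.ReflTransGen (Adj G) U₀ V →
        ∀ T : Sylow 2 G, V ≤ (T : Subgroup G) → ∃ y ∈ Γ, y • S = T := by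
      intro V hV
      induction hV with
      | refl => exact fun T hT => hstep _ T S rfl (rank_mono (le_inf hT hU₀S) (rank_of_four hU₀)) ⟨1, Γ.one_mem, one_smul _ _⟩
      | @tail A B _ h ih =>
        intro T hT
        have hea := CfsgLib.Base.FourChain.IsEA.sup (CfsgLib.Base.FourChain.isEA_of_isKleinFour h.1) (CfsgLib.Base.FourChain.isEA_of_isKleinFour h.2.1) h.2.2
        have hp : IsPGroup 2 ↥(A ⊔ B) := fun a => ⟨1, Subtype.ext (by
          rw [pow_one, sq, Subgroup.coe_mul, Subgroup.coe_one]; exact (hea a a.2).1)⟩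
        obtain ⟨T', hT'⟩ := hp.exists_le_sylow
        exact hstep _ T T' rfl (rank_mono (le_inf hT (le_sup_right.trans hT')) (rank_of_four h.2.1))
          (ih T' (le_sup_left.trans hT'))
    have hgU : U₀.map (MulAut.conj g).toMonoidHom ≤ ((g • S : Sylow 2 G) : Subgroup G) := by
      rw [Sylow.coe_subgroup_smul]
      exact Subgroup.map_mono hU₀S
    obtain ⟨y, hy, hyS⟩ := key _ (hcon U₀ _ hU₀ (four_conj hU₀ g)) (g • S) hgU
    have : (y⁻¹ * g) • S = S := by rw [mul_smul, ← hyS, inv_smul_smul]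
    rw [Sylow.smul_eq_iff_mem_normalizer] at this
    simpa using Γ.mul_mem hy (hNS this)

end Cfsg.Agent.S0520
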