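import Cfsg.Statements.S0522
import Cfsg.Agent.Fus.OddTransitivity

set_option autoImplicit false
open Cfsg

namespace Cfsg.Agent.S0522

/-- Transitivity Theorem (odd-order setting). Let X be a finite group of odd order in which the normalizer of every
nontrivial p-subgroup is solvable, P a Sylow p-subgroup, and B an abelian subgroup of P, normalized by P, with
C_P(B) = B and containing an elementary abelian subgroup of order p^3. Then for every prime q ≠ p, any two q-subgroups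
that are maximal among the q-subgroups normalized by B are conjugate by an element of the centralizer of B. -/
theorem result {X : Type*} [Group X] [Finite X] (hX : Odd (Nat.card X)) (p : ℕ)
    [Fact p.Prime] (hloc : ∀ T : Subgroup X, IsPGroup p T → T ≠ ⊥ → Group.IsSolvable (Subgroup.normalizer (T : Set X)))
    (P : Sylow p X) (B : Subgroup X) (hBP : B ≤ (P : Subgroup X))
    (hBn : ∀ x ∈ (P : Subgroup X), ∀ b ∈ B, x * b * x⁻¹ ∈ B) (hBa : IsMulCommutative B)
    (hBc : (P : Subgroup X) ⊓ Subgroup.centralizer (B : Set X) = B)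
    (hB3 : ∃ E : Subgroup X, E ≤ B ∧ (∀ e ∈ E, e ^ p = 1) ∧ p ^ 3 ≤ Nat.card E)
    (q : ℕ) [Fact q.Prime] (hqp : q ≠ p) (Q₁ Q₂ : Subgroup X)
    (h₁ : IsPGroup q Q₁ ∧ B ≤ Subgroup.normalizer (Q₁ : Set X) ∧
      ∀ R : Subgroup X, IsPGroup q R → B ≤ Subgroup.normalizer (R : Set X) → Q₁ ≤ R → R = Q₁)
    (h₂ : IsPGroup q Q₂ ∧ B ≤ Subgroup.normalizer (Q₂ : Set X) ∧
      ∀ R : Subgroup X, IsPGroup q R → B ≤ Subgroup.normalizer (R : Set X) → Q₂ ≤ R → R = Q₂) :
    ∃ c ∈ Subgroup.centralizer (B : Set X), Q₂ = Q₁.map (MulAut.conj c).toMonoidHom := by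
  obtain ⟨E, hEB, hEp, hE3⟩ := hB3
  refine CfsgLib.Fus.OddTrans.transitivity hX P (B := B) ⟨hBP, CfsgLib.Solv.le_normalizer_iff_forall_conj_mem.2 hBn, hBc⟩
    hBa hEB ⟨⟨⟨fun a b => Subtype.ext (congrArg (fun w : B => (w : X))
      (hBa.is_comm.comm ⟨a, hEB a.2⟩ ⟨b, hEB b.2⟩))⟩⟩, hEp⟩ hE3 (fun b hb hb1 => ?_) hqp h₁ h₂
  haveI := hloc (Subgroup.zpowers b) (P.isPGroup'.to_le (hBP.trans' (Subgroup.zpowers_le.2 hb)))
    (fun h => hb1 (Subgroup.zpowers_eq_bot.1 h))
  refine CfsgLib.Solv.isSolvable_of_le (K := Subgroup.normalizer ((Subgroup.zpowers b : Subgroup X) : Set X)) ?_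
  refine le_trans ?_ (Subgroup.centralizer_le_normalizer _)
  rw [Subgroup.zpowers_eq_closure, Subgroup.centralizer_closure]

end Cfsg.Agent.S0522
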