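-- Statement S0525
import Cfsg.Statements.S0525
import Cfsg.Agent.Solv.SSGTheorems

set_option autoImplicit false
open Cfsg
open scoped commutatorElement Pointwise
set_option linter.style.haveILetI false
set_option linter.deprecated false

namespace Cfsg.Agent.S0525

/-- A direct product of two finite supersolvable groups is supersolvable. -/
theorem result {G H : Type*} [Group G] [Group H] [Finite G] [Finite H] (hG : Cfsg.IsSupersolvable G) (hH : Cfsg.IsSupersolvable H) : Cfsg.IsSupersolvable (G × H) := by
  exact CfsgLib.Solv.ssg_iff.2 (CfsgLib.Solv.ssg_prod (CfsgLib.Solv.ssg_iff.1 hG) (CfsgLib.Solv.ssg_iff.1 hH))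

end Cfsg.Agent.S0525
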