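-- Statement S0530
import Cfsg.Statements.S0530
import Cfsg.Agent.Solv.SSGTheorems

set_option autoImplicit false
open Cfsg
open scoped commutatorElement Pointwise
set_option linter.style.haveILetI false
set_option linter.deprecated false

namespace Cfsg.Agent.S0530

/-- A finite group whose order is twice a prime power is supersolvable. -/
theorem result {G : Type*} [Group G] [Finite G] (p n : ℕ) (hp : p.Prime) (hG : Nat.card G = 2 * p ^ n) : Cfsg.IsSupersolvable G := by
  refine CfsgLib.Solv.ssg_iff.2 ?_
  by_cases hp2 : p = 2
  · subst hp2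
    haveI : Fact (Nat.Prime 2) := ⟨hp⟩
    exact CfsgLib.Solv.ssg_of_isNilpotent
      (IsPGroup.of_card (p := 2) (n := n + 1) (by rw [hG, pow_succ, mul_comm])).isNilpotent
  · exact CfsgLib.Solv.ssg_two_mul_prime_pow_aux n G p hp hp2 hG

end Cfsg.Agent.S0530
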