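-- Statement S0531
import Cfsg.Statements.S0531
import Cfsg.Agent.Solv.SSGTheorems

set_option autoImplicit false
open Cfsg
open scoped commutatorElement Pointwise
set_option linter.style.haveILetI false
set_option linter.deprecated false

namespace Cfsg.Agent.S0531

/-- A finite supersolvable group has a subgroup of each order dividing its order. -/
theorem result {G : Type*} [Group G] [Finite G] (hG : Cfsg.IsSupersolvable G) : Cfsg.HasSubgroupOfEveryOrder G := by
  exact fun d hd => CfsgLib.Solv.ssg_clt_aux _ G rfl (CfsgLib.Solv.ssg_iff.1 hG) d hd

end Cfsg.Agent.S0531
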