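-- Statement S0534
import Cfsg.Statements.S0534
import Cfsg.Agent.Solv.SSGTheorems
import Cfsg.Agent.Solv.Hall

set_option autoImplicit false
open Cfsg
open scoped commutatorElement Pointwise
set_option linter.style.haveILetI false
set_option linter.deprecated false

namespace Cfsg.Agent.S0534

/-- Let G be a finite solvable group and A a finite abelian group such that every prime dividing the order of A divides the order of G and, for each prime p dividing the order of G, the exponent of p in the order of A is one less than its exponent in the order of G. Then G × A has a subgroup of every order dividing its order. -/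
theorem result {G A : Type*} [Group G] [CommGroup A] [Finite G] [Finite A] [Group.IsSolvable G] (hA : ∀ p : ℕ, p.Prime → p ∣ Nat.card A → p ∣ Nat.card G) (hexp : ∀ p : ℕ, p.Prime → p ∣ Nat.card G → (Nat.card A).factorization p + 1 = (Nat.card G).factorization p) : Cfsg.HasSubgroupOfEveryOrder (G × A) := by
    intro d hd
    rw [Nat.card_prod] at hd
    have hG0 : Nat.card G ≠ 0 := Nat.card_pos.ne'
    have hA0 : Nat.card A ≠ 0 := Nat.card_pos.ne'
    have hd0 : d ≠ 0 := fun e => by
      subst e
      exact mul_ne_zero hG0 hA0 (Nat.eq_zero_of_zero_dvd hd)
    set π : Set ℕ := {p | (Nat.card G).factorization p ≤ d.factorization p} with hπ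
    obtain ⟨H, h1, h2⟩ := CfsgLib.Solv.exists_hall (CfsgLib.Solv.PiSolvable.of_isSolvable (G := G) π)
    have hH0 : Nat.card H ≠ 0 := Nat.card_pos.ne'
    have hHG : ∀ p, (Nat.card H).factorization p + H.index.factorization p = (Nat.card G).factorization p := by
      intro p
      rw [← Subgroup.card_mul_index H, Nat.factorization_mul hH0 Subgroup.index_ne_zero_of_finite, Finsupp.add_apply]
    have hin : ∀ p, p.Prime → p ∈ π → H.index.factorization p = 0 := fun p hp hpπ =>
      Nat.factorization_eq_zero_of_not_dvd fun h => h2 p hp h hpπ
    have hout : ∀ p, p.Prime → p ∉ π → (Nat.card H).factorization p = 0 := fun p hp hpπ =>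
      Nat.factorization_eq_zero_of_not_dvd fun h => hpπ (h1 p hp h)
    have hHd : Nat.card H ∣ d := by
      rw [← Nat.factorization_le_iff_dvd hH0 hd0]
      intro p
      by_cases hp : p.Prime
      · by_cases hpπ : p ∈ π
        · have := hin p hp hpπ
          have := hHG p
          have h3 : (Nat.card G).factorization p ≤ d.factorization p := hpπ
          omega
        · rw [hout p hp hpπ]; exact Nat.zero_le _
      · simp [Nat.factorization_eq_zero_of_not_prime _ hp]
    obtain ⟨e, he⟩ := hHd
    have he0 : e ≠ 0 := fun h => hd0 (by rw [he, h, mul_zero])
    have heA : e ∣ Nat.card A := by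
      rw [← Nat.factorization_le_iff_dvd he0 hA0]
      intro p
      by_cases hp : p.Prime
      · have h4 : d.factorization p = (Nat.card H).factorization p + e.factorization p := by
          rw [he, Nat.factorization_mul hH0 he0, Finsupp.add_apply]
        have h5 : d.factorization p ≤ (Nat.card G).factorization p + (Nat.card A).factorization p := by
          have h6 := (Nat.factorization_le_iff_dvd hd0 (mul_ne_zero hG0 hA0)).2 hd p
          rwa [Nat.factorization_mul hG0 hA0, Finsupp.add_apply] at h6
        have := hHG p
        by_cases hpπ : p ∈ π
        · have := hin p hp hpπ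
          omega
        · have := hout p hp hpπ
          have h7 : ¬ (Nat.card G).factorization p ≤ d.factorization p := hpπ
          have hpd : p ∣ Nat.card G := by
            by_contra hc
            rw [Nat.factorization_eq_zero_of_not_dvd hc] at h7
            exact h7 (Nat.zero_le _)
          have := hexp p hp hpd
          omega
      · simp [Nat.factorization_eq_zero_of_not_prime _ hp]
    obtain ⟨B, hB⟩ := CfsgLib.Solv.ssg_clt_aux _ A rfl
      (CfsgLib.Solv.ssg_of_isNilpotent CommGroup.isNilpotent) e heA
    exact ⟨H.prod B, by rw [Nat.card_congr (H.prodEquiv B).toEquiv, Nat.card_prod, hB, he]⟩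

end Cfsg.Agent.S0534
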