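-- Statement S0535
import Cfsg.Statements.S0535
import Cfsg.Agent.Solv.ConverseHall

set_option autoImplicit false
open Cfsg
open scoped commutatorElement Pointwise
set_option linter.style.haveILetI false
set_option linter.deprecated false

namespace Cfsg.Agent.S0535

/-- Suppose that for every nontrivial subgroup H of a finite group and every prime p dividing the order of H there is a proper subgroup of H whose index in H is a power of p. Then the group is solvable. -/
theorem result {G : Type*} [Group G] [Finite G] (h : ∀ H : Subgroup G, H ≠ ⊥ → ∀ p : ℕ, p.Prime → p ∣ Nat.card H → ∃ K : Subgroup H, K ≠ ⊤ ∧ ∃ k : ℕ, K.index = p ^ k) : Group.IsSolvable G := by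
  refine CfsgLib.Solv.converse_hall _ G rfl fun p hp => ?_
  haveI : Fact p.Prime := ⟨hp⟩
  obtain ⟨H, hH⟩ := (Set.toFinite {H : Subgroup G | ∃ k, H.index = p ^ k}).exists_minimal
    ⟨⊤, 0, by simp⟩
  obtain ⟨⟨k, hk⟩, hmin⟩ := hH
  refine ⟨H, ?_⟩
  by_cases hd : p ∣ Nat.card H
  · exfalso
    have hne : H ≠ ⊥ := fun e => hp.ne_one (Nat.dvd_one.1 (by rwa [e, Subgroup.card_bot] at hd))
    obtain ⟨K, hK, j, hj⟩ := h H hne p hp hd
    have hle : K.map H.subtype ≤ H := Subgroup.map_subtype_le K
    have hidx : (K.map H.subtype).index = p ^ (j + k) := by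
      rw [← Subgroup.relIndex_mul_index hle, hk, pow_add, Subgroup.relIndex,
        show (K.map H.subtype).subgroupOf H = K from Subgroup.comap_map_eq_self_of_injective H.subtype_injective K, hj]
    have h2 := hmin ⟨j + k, hidx⟩ hle
    exact hK (Subgroup.map_injective H.subtype_injective
      (le_antisymm (Subgroup.map_mono le_top) (by rw [← MonoidHom.range_eq_map, Subgroup.range_subtype]; exact h2)))
  · have h1 : (Nat.card G).factorization p = k := by
      rw [← Subgroup.card_mul_index H, hk, Nat.factorization_mul Nat.card_pos.ne' (pow_ne_zero _ hp.ne_zero),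
        Finsupp.add_apply, Nat.factorization_eq_zero_of_not_dvd hd, Nat.Prime.factorization_pow hp,
        Finsupp.single_eq_same, zero_add]
    rw [hk, h1]

end Cfsg.Agent.S0535
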