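-- Statement S0537
import Cfsg.Statements.S0537
import Cfsg.Agent.Solv.MinNonNilp
import Cfsg.Agent.Solv.Generation

set_option autoImplicit false
open Cfsg
open scoped commutatorElement Pointwise
set_option linter.style.haveILetI false
set_option linter.deprecated false

namespace Cfsg.Agent.S0537

/-- A finite non-abelian group in which every proper subgroup is abelian is either of prime-power order, or is generated by a cyclic Sylow p-subgroup and a normal Sylow q-subgroup that is elementary abelian, for distinct primes p and q. -/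
theorem result {G : Type*} [Group G] [Finite G] (hna : ¬ IsMulCommutative G) (h : ∀ H : Subgroup G, H ≠ ⊤ → IsMulCommutative H) : (∃ p : ℕ, p.Prime ∧ IsPGroup p G) ∨ ∃ p q : ℕ, p.Prime ∧ q.Prime ∧ p ≠ q ∧ ∃ (P : Sylow p G) (Q : Sylow q G), IsCyclic P ∧ (Q : Subgroup G).Normal ∧ Cfsg.IsElementaryAbelian q (Q : Subgroup G) ∧ (P : Subgroup G) ⊔ Q = ⊤ := by
  haveI hab : ∀ H : Subgroup G, H ≠ ⊤ → Group.IsNilpotent H := fun H hH => by
    haveI := h H hH
    letI : CommGroup H := { (inferInstance : Group H) with mul_comm := IsMulCommutative.is_comm.comm }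
    infer_instance
  by_cases hnil : Group.IsNilpotent G
  · left
    by_contra hp
    simp only [not_exists, not_and] at hp
    haveI := hnil
    have hc : ∀ (p : ℕ) [Fact p.Prime] (P : Sylow p G), IsMulCommutative (P : Subgroup G) := fun p hpf P => by
      refine h _ fun e => hp p hpf.out ?_
      exact (e ▸ P.2 : IsPGroup p (⊤ : Subgroup G)).of_equiv Subgroup.topEquiv
    obtain ⟨e⟩ := ((Group.isNilpotent_of_finite_tfae (G := G)).out 0 4).1 hnil
    refine hna ⟨⟨fun a b => ?_⟩⟩
    obtain ⟨a, rfl⟩ := e.surjective a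
    obtain ⟨b, rfl⟩ := e.surjective b
    rw [← map_mul, ← map_mul]
    congr 1
    funext q P
    haveI : Fact (q : ℕ).Prime := ⟨(Nat.mem_primeFactors.1 q.2).1⟩
    exact (hc q P).is_comm.comm (a q P) (b q P)
  right
  obtain ⟨p, q, hp, hq, hpq, P, Q, hP, hQ, ht, hcen⟩ := CfsgLib.Solv.schmidt_structure hab hnil
  refine ⟨p, q, hp, hq, hpq, P, Q, hP, hQ, ⟨?_, ?_⟩, ht⟩
  · refine h _ fun e => hcen ?_
    haveI : Fact q.Prime := ⟨hq⟩
    haveI : Fact p.Prime := ⟨hp⟩
    exfalso
    exact hnil ((e ▸ Q.2 : IsPGroup q (⊤ : Subgroup G)).of_equiv Subgroup.topEquiv).isNilpotent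
  · haveI : Fact q.Prime := ⟨hq⟩
    haveI : Fact p.Prime := ⟨hp⟩
    have hQc : IsMulCommutative (Q : Subgroup G) := h _ fun e =>
      hnil ((e ▸ Q.2 : IsPGroup q (⊤ : Subgroup G)).of_equiv Subgroup.topEquiv).isNilpotent
    letI : CommGroup (Q : Subgroup G) :=
      { (inferInstance : Group (Q : Subgroup G)) with mul_comm := hQc.is_comm.comm }
    haveI := hQ
    refine fun x hx => ?_
    let V : Subgroup G :=
      { carrier := {y | y ∈ (Q : Subgroup G) ∧ y ^ q = 1}
        mul_mem' := fun {a b} ha hb => ⟨mul_mem ha.1 hb.1, by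
          have := mul_pow (⟨a, ha.1⟩ : (Q : Subgroup G)) ⟨b, hb.1⟩ q
          simpa [ha.2, hb.2] using congrArg Subtype.val this⟩
        one_mem' := ⟨one_mem _, one_pow q⟩
        inv_mem' := fun {a} ha => ⟨inv_mem ha.1, by rw [inv_pow, ha.2, inv_one]⟩ }
    by_contra hx1
    have hVQ : V ≤ (Q : Subgroup G) := fun y hy => hy.1
    have hVn : V.Normal := ⟨fun y hy g => ⟨(inferInstance : (Q : Subgroup G).Normal).conj_mem y hy.1 g, by
      rw [conj_pow, hy.2, mul_one, mul_inv_cancel]⟩⟩
    haveI := hVn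
    have htop : (P : Subgroup G) ⊔ V ≠ ⊤ := fun e => hx1 (by
      obtain ⟨s, hs, v, hv, hsv⟩ := Subgroup.mem_sup_of_normal_right.1 (e.ge (Subgroup.mem_top x))
      have hsQ : s ∈ (Q : Subgroup G) := by
        rw [eq_mul_inv_of_mul_eq hsv]; exact mul_mem hx (inv_mem hv.1)
      have := (IsPGroup.disjoint_of_ne p q hpq _ _ P.2 Q.2).le_bot (Subgroup.mem_inf.2 ⟨hs, hsQ⟩)
      rw [Subgroup.mem_bot] at this
      rw [← hsv, this, one_mul]
      exact hv.2)
    haveI hsupc := h _ htop
    have hPV : (P : Subgroup G) ≤ Subgroup.centralizer (V : Set G) := fun a ha =>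
      Subgroup.mem_centralizer_iff.2 fun v hv => Subtype.ext_iff.1
        (hsupc.is_comm.comm ⟨v, Subgroup.mem_sup_right hv⟩ ⟨a, Subgroup.mem_sup_left ha⟩)
    have hPQ : (P : Subgroup G) ≤ Subgroup.normalizer ((Q : Subgroup G) : Set G) := by
      rw [Subgroup.normalizer_eq_top]; exact le_top
    have hcop : (Nat.card (P : Subgroup G)).Coprime (Nat.card (Q : Subgroup G)) :=
      IsPGroup.coprime_card_of_ne p q hpq _ _ P.2 Q.2
    have hb : ⁅(Q : Subgroup G), (P : Subgroup G)⁆ = ⊥ := by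
      by_contra hne
      have hle : ⁅(Q : Subgroup G), (P : Subgroup G)⁆ ≤ (Q : Subgroup G) :=
        Subgroup.commutator_le_left _ _
      obtain ⟨z, hz⟩ := exists_prime_orderOf_dvd_card' (G := ↥⁅(Q : Subgroup G), (P : Subgroup G)⁆) q (by
        obtain ⟨k, hk⟩ := IsPGroup.iff_card.1 (Q.2.to_le hle)
        rcases Nat.eq_zero_or_pos k with rfl | hk0
        · exact absurd (Subgroup.eq_bot_of_card_eq _ (by simpa using hk)) hne
        · rw [hk]; exact dvd_pow_self q hk0.ne')
      have hzV : (z : G) ∈ V := ⟨hle z.2, by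
        have := pow_orderOf_eq_one z; rw [hz] at this; simpa using congrArg Subtype.val this⟩
      have h0 := (CfsgLib.Solv.abelian_fixed_inf_commutator hQc hPQ hcop).le (Subgroup.mem_inf.2
        ⟨Subgroup.mem_inf.2 ⟨hle z.2, Subgroup.le_centralizer_iff.1 hPV hzV⟩, z.2⟩)
      rw [Subgroup.mem_bot] at h0
      rw [← Subgroup.orderOf_coe, h0, orderOf_one] at hz
      exact hq.ne_one hz.symm
    exact hcen (Subgroup.le_centralizer_iff.1 ((Subgroup.commutator_eq_bot_iff_le_centralizer).1 hb))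

end Cfsg.Agent.S0537
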