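-- Statement S0539
import Cfsg.Statements.S0539
import Cfsg.Agent.Solv.SubnormalJoin

set_option autoImplicit false
open Pointwise
open Cfsg
open scoped commutatorElement Pointwise
set_option linter.style.haveILetI false
set_option linter.deprecated false

namespace Cfsg.Agent.S0539

/-- Let S be a family of subnormal subgroups of a finite group that is closed under conjugation, and S₀ a proper subfamily. Then some member of S not in S₀ normalizes the join of S₀. -/
theorem result {G : Type*} [Group G] [Finite G] (S S₀ : Set (Subgroup G)) (hS : ∀ U ∈ S, U.IsSubnormal) (hconj : ∀ U ∈ S, ∀ g : G, MulAut.conj g • U ∈ S) (h₀ : S₀ ⊂ S) : ∃ X ∈ S, X ∉ S₀ ∧ X ≤ Subgroup.normalizer ((sSup S₀ : Subgroup G) : Set G) := by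
  obtain ⟨hsub, hne⟩ := h₀
  obtain ⟨X, hX, hX'⟩ := Set.not_subset.1 hne
  have hJ : (sSup S₀).IsSubnormal := CfsgLib.Solv.isSubnormal_sSup fun U hU => hS U (hsub hU)
  by_cases hn : (sSup S₀ : Subgroup G).Normal
  · refine ⟨X, hX, hX', ?_⟩
    rw [show Subgroup.normalizer ((sSup S₀ : Subgroup G) : Set G) = ⊤ from Subgroup.normalizer_eq_top_iff.2 hn]
    exact le_top
  obtain ⟨x, hx1, hx2⟩ := CfsgLib.Solv.exists_conj_le_normalizer_of_subnormal hJ hn
  have h : ∃ U ∈ S₀, ¬ MulAut.conj x • U ≤ sSup S₀ := by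
    by_contra hc
    simp only [not_exists, not_and, not_not] at hc
    refine hx1 (Subgroup.eq_of_le_of_card_ge ?_ (CfsgLib.Solv.card_conj_smul _ _).ge)
    rw [CfsgLib.Solv.conj_smul_eq_map, Subgroup.map_le_iff_le_comap, sSup_le_iff]
    intro U hU
    rw [← Subgroup.map_le_iff_le_comap, ← CfsgLib.Solv.conj_smul_eq_map]
    exact hc U hU
  obtain ⟨U, hU, hUn⟩ := h
  exact ⟨_, hconj U (hsub hU) x, fun hc => hUn (le_sSup hc),
    le_trans (Subgroup.pointwise_smul_le_pointwise_smul_iff.2 (le_sSup hU)) hx2⟩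

end Cfsg.Agent.S0539
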