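import Cfsg.Statements.S0540
import Cfsg.Agent.Solv.SubnormalJoin

set_option autoImplicit false
open Pointwise
open Cfsg

namespace Cfsg.Agent.S0540


open scoped Pointwise


/-- A uniqueness lemma of zipper type. Let A be a subgroup of a finite group G and U a nonempty family of subgroups. For V in U write S(V) for the set of conjugates of A that lie in V and are subnormal in V. Assume: A belongs to S(V) for every V in U; a member of some S(W) that lies in V belongs to S(V); and for all V, W in U the normalizer of the join of S(V) ∩ S(W) lies in some member of U. Then U has a greatest element. -/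
theorem result {G : Type*} [Group G] [Finite G] (A : Subgroup G) (U : Set (Subgroup G)) (hU : U.Nonempty) (S : Subgroup G → Set (Subgroup G)) (hS : ∀ V B : Subgroup G, B ∈ S V ↔ (∃ g : G, B = MulAut.conj g • A) ∧ B ≤ V ∧ (B.subgroupOf V).IsSubnormal) (h1 : ∀ V ∈ U, A ∈ S V) (h2 : ∀ V ∈ U, ∀ W ∈ U, ∀ B ∈ S W, B ≤ V → B ∈ S V) (h3 : ∀ V ∈ U, ∀ W ∈ U, ∃ X ∈ U, Subgroup.normalizer ((sSup (S V ∩ S W) : Subgroup G) : Set G) ≤ X) : ∃ M ∈ U, ∀ V ∈ U, V ≤ M := by

  classical
  open CfsgLib.Solv in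
  have hBle : ∀ {V B : Subgroup G}, B ∈ S V → B ≤ V := fun {V B} h => ((hS V B).1 h).2.1
  have hconj : ∀ {V B : Subgroup G}, B ∈ S V → ∀ x ∈ V, MulAut.conj x • B ∈ S V := by
    intro V B hB x hx
    obtain ⟨⟨g, rfl⟩, hle, hsn⟩ := (hS V B).1 hB
    have hV : MulAut.conj x • V = V := conj_smul_eq_self_of_mem_normalizer (Subgroup.le_normalizer hx)
    refine (hS V _).2 ⟨⟨x * g, by rw [map_mul, mul_smul]⟩, hV ▸ Subgroup.pointwise_smul_le_pointwise_smul_iff.2 hle, ?_⟩
    have h := isSubnormal_subgroupOf_conj x hsn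
    rwa [hV] at h
  have hmono : ∀ {V X : Subgroup G}, V ∈ U → X ∈ U → ∀ B ∈ S V, B ≤ X → B ∈ S X :=
    fun {V X} hV hX B hB hle => h2 X hX V hV B hB hle
  -- an element outside a proper part normalizing its join
  have hgrow : ∀ V, ∀ P : Set (Subgroup G), P ⊆ S V → P ≠ S V →
      ∃ B ∈ S V, B ∉ P ∧ B ≤ Subgroup.normalizer ((sSup P : Subgroup G) : Set G) := by
    intro V P hP hne
    obtain ⟨B₀, hB₀, hB₀P⟩ := Set.exists_of_ssubset (lt_of_le_of_ne hP hne)
    set T := sSup P with hT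
    have hTV : T ≤ V := sSup_le fun B hB => hBle (hP hB)
    by_cases hVN : V ≤ Subgroup.normalizer (T : Set G)
    · exact ⟨B₀, hB₀, hB₀P, (hBle hB₀).trans hVN⟩
    have hsn : (T.subgroupOf V).IsSubnormal := by
      have e : T.subgroupOf V = sSup ((fun B : Subgroup G => B.subgroupOf V) '' P) := by
        refine le_antisymm ?_ (sSup_le ?_)
        · intro z hz
          have h : T ≤ (sSup ((fun B : Subgroup G => B.subgroupOf V) '' P)).map V.subtype := sSup_le fun B hB => by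
            rw [← Subgroup.map_subgroupOf_eq_of_le (hBle (hP hB))]
            exact Subgroup.map_mono (le_sSup ⟨B, hB, rfl⟩)
          obtain ⟨y, hy, hye⟩ := h hz
          rwa [← Subtype.ext (show (y : G) = z from hye)]
        · rintro _ ⟨B, hB, rfl⟩
          exact fun z hz => le_sSup (α := Subgroup G) hB hz
      rw [e]
      exact isSubnormal_sSup (by rintro _ ⟨B, hB, rfl⟩; exact ((hS V B).1 (hP hB)).2.2)
    obtain ⟨x, hx1, hx2⟩ := exists_conj_le_normalizer_of_subnormal hsn (fun hn => hVN fun v hv =>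
      Subgroup.mem_normalizer_fintype fun t ht => by
        exact hn.conj_mem ⟨t, hTV ht⟩ ht ⟨v, hv⟩)
    have hnotle : ¬ MulAut.conj (x : G) • T ≤ T := by
      intro hle
      refine hx1 (Subgroup.eq_of_le_of_card_ge ?_ (by rw [card_conj_smul]))
      intro z hz
      rw [mem_conj_smul_iff] at hz
      exact hle (mem_conj_smul_iff.2 hz)
    obtain ⟨B, hB, hBT⟩ : ∃ B ∈ P, ¬ MulAut.conj (x : G) • B ≤ T := by
      by_contra hcon
      push Not at hcon
      refine hnotle (Subgroup.pointwise_smul_subset_iff.2 (sSup_le fun B hB => ?_))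
      exact Subgroup.pointwise_smul_subset_iff.1 (hcon B hB)
    refine ⟨_, hconj (hP hB) x x.2, fun h => hBT (le_sSup h), fun z hz => ?_⟩
    have hzV : z ∈ V := hBle (hconj (hP hB) x x.2) hz
    have h1 : (⟨z, hzV⟩ : V) ∈ MulAut.conj x • T.subgroupOf V := by
      rw [mem_conj_smul_iff] at hz ⊢
      exact le_sSup (α := Subgroup G) hB hz
    have h3 := hx2 h1
    refine Subgroup.mem_normalizer_fintype fun t ht => ?_
    exact (Subgroup.mem_normalizer_iff.1 h3 ⟨t, hTV ht⟩).1 ht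
  have hT_le : ∀ V (P : Set (Subgroup G)), P ⊆ S V → ∀ X, Subgroup.normalizer ((sSup P : Subgroup G) : Set G) ≤ X →
      ∀ B ∈ P, B ≤ X := fun V P _ X hX B hB => ((le_sSup hB).trans Subgroup.le_normalizer).trans hX
  -- any two have an upper bound
  have hdir : ∀ k, ∀ V ∈ U, ∀ W ∈ U, Nat.card (Subgroup G) - (S V ∩ S W).ncard = k →
      ∃ X ∈ U, S V ⊆ S X ∧ S W ⊆ S X := by
    intro k
    induction k using Nat.strong_induction_on with
    | _ k ih => ?_
    intro V hV W hW hk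
    by_cases e1 : S V ∩ S W = S V
    · exact ⟨W, hW, Set.inter_eq_left.1 e1, subset_rfl⟩
    by_cases e2 : S V ∩ S W = S W
    · exact ⟨V, hV, subset_rfl, Set.inter_eq_right.1 e2⟩
    obtain ⟨X, hX, hNX⟩ := h3 V hV W hW
    set P := S V ∩ S W with hP
    have hPX : P ⊆ S X := fun B hB => hmono hV hX B hB.1 (hT_le V P Set.inter_subset_left X hNX B hB)
    have hbig : ∀ Y Z, Y ∈ U → Z ∈ U → P ⊆ S Y → P ⊆ S Z → (∃ B, B ∈ S Y ∧ B ∈ S Z ∧ B ∉ P) →
        ∃ X ∈ U, S Y ⊆ S X ∧ S Z ⊆ S X := by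
      rintro Y Z hY hZ hPY hPZ ⟨B, hB1, hB2, hB3⟩
      refine ih _ ?_ Y hY Z hZ rfl
      rw [← hk]
      have hlt : P.ncard < (S Y ∩ S Z).ncard := Set.ncard_lt_ncard
        ⟨fun C hC => ⟨hPY hC, hPZ hC⟩, fun h => hB3 (h ⟨hB1, hB2⟩)⟩ (Set.toFinite _)
      have hle : (S Y ∩ S Z).ncard ≤ Nat.card (Subgroup G) := Set.ncard_le_card _
      omega
    obtain ⟨B, hB, hBP, hBN⟩ := hgrow V P Set.inter_subset_left e1
    obtain ⟨C, hC, hCP, hCN⟩ := hgrow W P Set.inter_subset_right e2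
    have hBX := hmono hV hX B hB (hBN.trans hNX)
    obtain ⟨Y, hY, hVY, hXY⟩ := hbig V X hV hX Set.inter_subset_left hPX ⟨B, hB, hBX, hBP⟩
    obtain ⟨Z, hZ, hWZ, hXZ⟩ := hbig W X hW hX Set.inter_subset_right hPX
      ⟨C, hC, hmono hW hX C hC (hCN.trans hNX), hCP⟩
    obtain ⟨R, hR, hYR, hZR⟩ := hbig Y Z hY hZ (hPX.trans hXY) (hPX.trans hXZ) ⟨B, hXY hBX, hXZ hBX, hBP⟩
    exact ⟨R, hR, hVY.trans hYR, hWZ.trans hZR⟩
  -- the greatest family
  obtain ⟨V₁, hV₁, hmax⟩ := (Set.toFinite U).exists_maximalFor (fun V => (S V).ncard) _ hU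
  have hgreat : ∀ V ∈ U, S V ⊆ S V₁ := by
    intro V hV
    obtain ⟨X, hX, h1', h2'⟩ := hdir _ V hV V₁ hV₁ rfl
    have hle := hmax hX (Set.ncard_le_ncard h2' (Set.toFinite _))
    exact (Set.eq_of_subset_of_ncard_le h2' hle (Set.toFinite _)).symm ▸ h1'
  obtain ⟨M, hM, hNM⟩ := h3 V₁ hV₁ V₁ hV₁
  rw [Set.inter_self] at hNM
  have hSM : S M = S V₁ := Set.Subset.antisymm (hgreat M hM) fun B hB =>
    hmono hV₁ hM B hB (hT_le V₁ _ subset_rfl M hNM B hB)
  refine ⟨M, hM, ?_⟩
  have hall : ∀ k, ∀ V ∈ U, Nat.card (Subgroup G) - (S V).ncard = k → V ≤ M := by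
    intro k
    induction k using Nat.strong_induction_on with
    | _ k ih => ?_
    intro V hV hk
    have hVN : V ≤ Subgroup.normalizer ((sSup (S V) : Subgroup G) : Set G) := fun v hv =>
      Subgroup.mem_normalizer_fintype fun t ht => by
        have h : sSup (S V) ≤ (sSup (S V)).comap (MulAut.conj v).toMonoidHom := sSup_le fun B hB => by
          rw [← Subgroup.map_le_iff_le_comap, ← conj_smul_eq_map]
          exact le_sSup (hconj hB v hv)
        exact h ht
    by_cases e : S V = S V₁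
    · exact hVN.trans (e ▸ hNM)
    obtain ⟨B, hB, hBV, hBN⟩ := hgrow V₁ (S V) (hgreat V hV) e
    obtain ⟨X, hX, hNX⟩ := h3 V hV V hV
    rw [Set.inter_self] at hNX
    have hsub : S V ⊆ S X := fun C hC => hmono hV hX C hC (hT_le V _ subset_rfl X hNX C hC)
    have hlt : (S V).ncard < (S X).ncard := Set.ncard_lt_ncard
      ⟨hsub, fun h => hBV (h (hmono hV₁ hX B hB (hBN.trans hNX)))⟩ (Set.toFinite _)
    have hle : (S X).ncard ≤ Nat.card (Subgroup G) := Set.ncard_le_card _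
    exact (hVN.trans hNX).trans (ih _ (by omega) X hX rfl)
  exact fun V hV => hall _ V hV rfl

end Cfsg.Agent.S0540
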