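import Cfsg.Statements.S0541
import Mathlib

set_option autoImplicit false
open Pointwise
open Cfsg

namespace Cfsg.Agent.S0541


open scoped Pointwise


/-- Let Z and Y be subgroups of a finite group G and p a prime. Suppose that for every g in G the subgroup generated by the conjugates of g Z g⁻¹ under Y is a p-group. Then there is a Sylow p-subgroup P of G such that Y normalizes the subgroup generated by all conjugates of Z contained in P. -/
theorem result {G : Type*} [Group G] [Finite G] (p : ℕ) [Fact p.Prime] (Z Y : Subgroup G) (h : ∀ g : G, IsPGroup p ↥(⨆ y ∈ Y, MulAut.conj (y * g) • Z)) : ∃ P : Sylow p G, Y ≤ Subgroup.normalizer ((⨆ g ∈ {g : G | MulAut.conj g • Z ≤ (P : Subgroup G)}, MulAut.conj g • Z : Subgroup G) : Set G) := by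
  classical
  set D : Set (Subgroup G) := Set.range fun g : G => MulAut.conj g • Z with hD
  obtain ⟨W, ⟨hWp, hWgen, hWY⟩, hmax⟩ : ∃ W : Subgroup G,
      (IsPGroup p W ∧ W = sSup {d | d ∈ D ∧ d ≤ W} ∧ Y ≤ Subgroup.normalizer (W : Set G)) ∧
      ∀ W' : Subgroup G, IsPGroup p W' → W' = sSup {d | d ∈ D ∧ d ≤ W'} →
        Y ≤ Subgroup.normalizer (W' : Set G) → W ≤ W' → W' = W := by
    obtain ⟨W, hW⟩ := (Set.toFinite {W : Subgroup G | IsPGroup p W ∧ W = sSup {d | d ∈ D ∧ d ≤ W} ∧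
      Y ≤ Subgroup.normalizer (W : Set G)}).exists_maximal ⟨⊥, IsPGroup.of_bot,
        (le_bot_iff.1 (sSup_le fun d hd => hd.2)).symm, fun y _ =>
          Subgroup.mem_normalizer_fintype fun x hx => by
            rw [SetLike.mem_coe, Subgroup.mem_bot] at hx ⊢
            rw [hx, mul_one, mul_inv_cancel]⟩
    exact ⟨W, hW.1, fun W' h1 h2 h3 h4 => le_antisymm (hW.2 ⟨h1, h2, h3⟩ h4) h4⟩
  obtain ⟨P, hWP⟩ := hWp.exists_le_sylow
  refine ⟨P, ?_⟩
  suffices hkey : ∀ d ∈ D, d ≤ (P : Subgroup G) → d ≤ W by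
    have he : (⨆ g ∈ {g : G | MulAut.conj g • Z ≤ (P : Subgroup G)}, MulAut.conj g • Z : Subgroup G) = W := by
      refine le_antisymm (iSup₂_le fun g hg => hkey _ ⟨g, rfl⟩ hg) ?_
      rw [hWgen]
      refine sSup_le ?_
      rintro _ ⟨⟨g, rfl⟩, hgW⟩
      exact le_iSup₂ (f := fun g (_ : g ∈ {g : G | MulAut.conj g • Z ≤ (P : Subgroup G)}) =>
        MulAut.conj g • Z) g (hgW.trans hWP)
    rw [he]
    exact hWY
  by_contra hno
  push Not at hno
  obtain ⟨d0, hd0, hd0P, hd0W⟩ := hno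
  -- some member of `D` in `P` outside `W` normalises `W`
  obtain ⟨d, hdD, hdP, hdW, hdN⟩ :
      ∃ d ∈ D, d ≤ (P : Subgroup G) ∧ ¬ d ≤ W ∧ d ≤ Subgroup.normalizer (W : Set G) := by
    set N := (P : Subgroup G) ⊓ Subgroup.normalizer (W : Set G) with hN
    by_contra hnone
    push Not at hnone
    have hall : ∀ d ∈ D, d ≤ N → d ≤ W := fun d hd hle => by
      by_contra hdW
      exact hnone d hd (hle.trans inf_le_left) hdW (hle.trans inf_le_right)
    have hNne : N ≠ (P : Subgroup G) := fun h0 => hd0W (hall d0 hd0 (h0 ▸ hd0P))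
    haveI : Group.IsNilpotent (P : Subgroup G) := IsPGroup.isNilpotent P.isPGroup'
    have hlt : N.subgroupOf (P : Subgroup G) < ⊤ := lt_top_iff_ne_top.2 fun e' =>
      hNne (le_antisymm inf_le_left (Subgroup.subgroupOf_eq_top.1 e'))
    obtain ⟨⟨u, huP⟩, hu, huN⟩ := SetLike.exists_of_lt (Group.normalizerCondition_of_isNilpotent _ hlt)
    rw [← Subgroup.subgroupOf_normalizer_eq inf_le_left, Subgroup.mem_subgroupOf] at hu
    rw [Subgroup.mem_subgroupOf] at huN
    refine huN ⟨huP, Subgroup.mem_normalizer_fintype fun x hx => ?_⟩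
    have hle : W ≤ W.comap (MulAut.conj u).toMonoidHom := by
      conv_lhs => rw [hWgen]
      refine sSup_le ?_
      rintro _ ⟨⟨g, rfl⟩, hgW⟩ x hx
      have hdN : MulAut.conj (u * g) • Z ≤ N := by
        rintro w ⟨z, hz, rfl⟩
        have hw : MulAut.conj g z ∈ N :=
          ⟨hWP (hgW ⟨z, hz, rfl⟩), Subgroup.le_normalizer (hgW ⟨z, hz, rfl⟩)⟩
        have := (Subgroup.mem_normalizer_iff.1 hu _).1 hw
        show (u * g) * z * (u * g)⁻¹ ∈ N
        rw [show (u * g) * z * (u * g)⁻¹ = u * (MulAut.conj g z) * u⁻¹ by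
          rw [MulAut.conj_apply]; group]
        exact this
      obtain ⟨z, hz, rfl⟩ := hx
      refine hall _ ⟨u * g, rfl⟩ hdN ⟨z, hz, ?_⟩
      show (u * g) * z * (u * g)⁻¹ = u * (g * z * g⁻¹) * u⁻¹
      group
    exact hle hx
  obtain ⟨g0, rfl⟩ := hdD
  set T := ⨆ y ∈ Y, MulAut.conj (y * g0) • Z with hT
  have hTN : T ≤ Subgroup.normalizer (W : Set G) := iSup₂_le fun y hy => by
    rintro _ ⟨z, hz, rfl⟩
    show y * g0 * z * (y * g0)⁻¹ ∈ Subgroup.normalizer (W : Set G)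
    rw [show y * g0 * z * (y * g0)⁻¹ = y * (g0 * z * g0⁻¹) * y⁻¹ by group]
    exact mul_mem (mul_mem (hWY hy) (hdN ⟨z, hz, rfl⟩)) (inv_mem (hWY hy))
  have hdT : MulAut.conj g0 • Z ≤ T := by
    have := le_iSup₂ (f := fun y (_ : y ∈ Y) => MulAut.conj (y * g0) • Z) 1 (one_mem Y)
    simp only [one_mul] at this
    exact this
  have hYT : Y ≤ Subgroup.normalizer (T : Set G) := fun y hy => Subgroup.mem_normalizer_fintype fun x hx => by
    have hle : T ≤ T.comap (MulAut.conj y).toMonoidHom := iSup₂_le fun y' hy' => by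
      rintro _ ⟨z, hz, rfl⟩
      refine Subgroup.mem_comap.2 (le_iSup₂ (f := fun y (_ : y ∈ Y) => MulAut.conj (y * g0) • Z)
        (y * y') (mul_mem hy hy') ⟨z, hz, ?_⟩)
      show y * y' * g0 * z * (y * y' * g0)⁻¹ = y * (y' * g0 * z * (y' * g0)⁻¹) * y⁻¹
      group
    exact hle hx
  have hsup : IsPGroup p (W ⊔ T : Subgroup G) := hWp.to_sup_of_normal_left' (h g0) hTN
  have hgen : W ⊔ T = sSup {d | d ∈ D ∧ d ≤ W ⊔ T} := by
    refine le_antisymm (sup_le ?_ (iSup₂_le fun y hy => le_sSup ⟨⟨_, rfl⟩,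
      le_sup_of_le_right (le_iSup₂ (f := fun y (_ : y ∈ Y) => MulAut.conj (y * g0) • Z) y hy)⟩))
      (sSup_le fun d hd => hd.2)
    conv_lhs => rw [hWgen]
    exact sSup_le_sSup fun d hd => ⟨hd.1, hd.2.trans le_sup_left⟩
  have hY' : Y ≤ Subgroup.normalizer ((W ⊔ T : Subgroup G) : Set G) := fun y hy =>
    Subgroup.mem_normalizer_fintype fun x hx => by
      have hle : W ⊔ T ≤ (W ⊔ T).comap (MulAut.conj y).toMonoidHom :=
        sup_le (fun w hw => Subgroup.mem_sup_left ((Subgroup.mem_normalizer_iff.1 (hWY hy) w).1 hw))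
          (fun w hw => Subgroup.mem_sup_right ((Subgroup.mem_normalizer_iff.1 (hYT hy) w).1 hw))
      exact hle hx
  exact hdW ((hdT.trans le_sup_right).trans (hmax _ hsup hgen hY' le_sup_left).le)

end Cfsg.Agent.S0541
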