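-- Statement S0542
import Cfsg.Statements.S0542
import Cfsg.Agent.Solv.Basic

set_option autoImplicit false
open Cfsg
open scoped commutatorElement Pointwise
set_option linter.style.haveILetI false
set_option linter.deprecated false

namespace Cfsg.Agent.S0542

/-- A Sylow p-subgroup of a finite group meets every subnormal subgroup H in a Sylow p-subgroup of H. -/
theorem result {G : Type*} [Group G] [Finite G] (p : ℕ) [Fact p.Prime] (H : Subgroup G) (hH : H.IsSubnormal) (S : Sylow p G) : ∃ Q : Sylow p H, (Q : Subgroup H) = (S : Subgroup G).subgroupOf H := by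
  have key : ∀ K : Subgroup G, K.IsSubnormal → ¬ p ∣ (S : Subgroup G).relIndex K := by
    intro K hK
    induction hK with
    | top => rw [Subgroup.relIndex_top_right]; exact S.not_dvd_index
    | step A B hle _ hN IH =>
      haveI := hN
      set P := (S : Subgroup G).subgroupOf B
      set N := A.subgroupOf B
      intro hd
      apply IH
      have h1 := CfsgLib.Solv.card_sup_mul_card_inf P N
      have e : (S : Subgroup G).relIndex A = P.relIndex N := (Subgroup.relIndex_subgroupOf hle).symm
      have hPi : P.relIndex (P ⊔ N) ∣ P.index := Subgroup.relIndex_dvd_index_of_le le_sup_left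
      have h3 := CfsgLib.Solv.relIndex_mul_card (le_sup_left : P ≤ P ⊔ N)
      have h4 := CfsgLib.Solv.relIndex_mul_card (inf_le_right : P ⊓ N ≤ N)
      have h5 : P.relIndex N = P.relIndex (P ⊔ N) := by
        have hpos : 0 < Nat.card P * Nat.card ↥(P ⊓ N) := Nat.mul_pos Nat.card_pos Nat.card_pos
        apply Nat.eq_of_mul_eq_mul_right hpos
        rw [← Subgroup.inf_relIndex_right]
        calc (P ⊓ N).relIndex N * (Nat.card P * Nat.card ↥(P ⊓ N))
            = Nat.card P * (Nat.card ↥(P ⊓ N) * (P ⊓ N).relIndex N) := by ring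
          _ = Nat.card P * Nat.card N := by rw [h4]
          _ = Nat.card ↥(P ⊔ N) * Nat.card ↥(P ⊓ N) := h1.symm
          _ = Nat.card P * P.relIndex (P ⊔ N) * Nat.card ↥(P ⊓ N) := by rw [h3]
          _ = P.relIndex (P ⊔ N) * (Nat.card P * Nat.card ↥(P ⊓ N)) := by ring
      rw [e, h5] at hd
      exact hd.trans hPi
  refine ⟨IsPGroup.toSylow ?_ (key H hH), rfl⟩
  exact IsPGroup.comap_of_injective S.2 H.subtype H.subtype_injective

end Cfsg.Agent.S0542
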