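-- Statement S0547
import Cfsg.Statements.S0547
import Cfsg.Agent.Solv.CoreFree

set_option autoImplicit false
open Cfsg
open scoped commutatorElement Pointwise
set_option linter.style.haveILetI false
set_option linter.deprecated false

namespace Cfsg.Agent.S0547

/-- Let a finite solvable group G act faithfully and primitively on a set, and let M be a minimal normal subgroup of G. Then M is transitive with trivial point stabilizers, and the number of points equals the order of M, which is a prime power p ^ d with d ≥ 1. -/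
theorem result {G : Type*} [Group G] [Finite G] [Group.IsSolvable G] {Ω : Type*} [Nonempty Ω] [MulAction G Ω] [FaithfulSMul G Ω] (hprim : MulAction.IsPreprimitive G Ω) (M : Subgroup G) [M.Normal] (hM : M ≠ ⊥) (hmin : ∀ K : Subgroup G, K.Normal → K ≤ M → K = ⊥ ∨ K = M) : MulAction.IsPretransitive M Ω ∧ (∀ ω : Ω, MulAction.stabilizer M ω = ⊥) ∧ ∃ p d : ℕ, p.Prime ∧ 0 < d ∧ Nat.card Ω = p ^ d ∧ Nat.card M = p ^ d := by
  have hMmin : CfsgLib.Solv.IsMinimalNormal M := ⟨inferInstance, hM, hmin⟩
  obtain ⟨p, hp, -, hMp⟩ := CfsgLib.Solv.exists_prime_exponent_of_minimal_solvable hMmin inferInstance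
  have hab := CfsgLib.Solv.isMulCommutative_of_minimal_solvable hMmin inferInstance
  have key : ∀ ω : Ω, M.IsComplement' (MulAction.stabilizer G ω) := fun ω =>
    (CfsgLib.Solv.coreFree_abelian (CfsgLib.Solv.primitive_stabilizer hprim hM ω).1
      (CfsgLib.Solv.primitive_stabilizer hprim hM ω).2 hM hab).1
  have hstab : ∀ ω : Ω, MulAction.stabilizer M ω = ⊥ := fun ω => le_bot_iff.1 fun x hx => by
    have h1 := (key ω).disjoint.le_bot (Subgroup.mem_inf.2
      ⟨x.2, (show (x : G) ∈ MulAction.stabilizer G ω from hx)⟩)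
    rw [Subgroup.mem_bot] at h1 ⊢
    exact Subtype.ext h1
  haveI := hprim
  haveI htrans : MulAction.IsPretransitive M Ω := ⟨fun a b => by
    obtain ⟨g, rfl⟩ := MulAction.exists_smul_eq G a b
    obtain ⟨⟨⟨m, hm⟩, ⟨s, hs⟩⟩, e, -⟩ := (key a).existsUnique g
    exact ⟨⟨m, hm⟩, by rw [← e, mul_smul, MulAction.mem_stabilizer_iff.1 hs]; rfl⟩⟩
  obtain ⟨ω⟩ := (inferInstance : Nonempty Ω)
  haveI : Fact p.Prime := ⟨hp⟩
  obtain ⟨d, hd⟩ := IsPGroup.iff_card.1 hMp
  have hd0 : 0 < d := Nat.pos_of_ne_zero fun e => hM (Subgroup.eq_bot_of_card_eq M (by rw [hd, e, pow_zero]))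
  refine ⟨htrans, hstab, p, d, hp, hd0, ?_, hd⟩
  rw [← hd, ← Subgroup.index_bot (G := M), ← hstab ω, MulAction.index_stabilizer_of_transitive]

end Cfsg.Agent.S0547
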