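-- Statement S0548
import Cfsg.Statements.S0548
import Cfsg.Agent.Solv.CoreFree

set_option autoImplicit false
open Cfsg
open scoped commutatorElement Pointwise
set_option linter.style.haveILetI false
set_option linter.deprecated false

namespace Cfsg.Agent.S0548

/-- Let a finite solvable group G act faithfully and primitively on a set, let M be a minimal normal subgroup and H the stabilizer of a point. Then H is a complement to M, no non-identity element of H centralizes M, and the only subgroups of M normalized by H are the trivial subgroup and M. -/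
theorem result {G : Type*} [Group G] [Finite G] [Group.IsSolvable G] {Ω : Type*} [MulAction G Ω] [FaithfulSMul G Ω] (hprim : MulAction.IsPreprimitive G Ω) (M : Subgroup G) [M.Normal] (hM : M ≠ ⊥) (hmin : ∀ K : Subgroup G, K.Normal → K ≤ M → K = ⊥ ∨ K = M) (ω : Ω) : Subgroup.IsComplement' M (MulAction.stabilizer G ω) ∧ MulAction.stabilizer G ω ⊓ Subgroup.centralizer (M : Set G) = ⊥ ∧ ∀ K : Subgroup G, K ≤ M → MulAction.stabilizer G ω ≤ Subgroup.normalizer (K : Set G) → K = ⊥ ∨ K = M := by
  have hMmin : CfsgLib.Solv.IsMinimalNormal M := ⟨inferInstance, hM, hmin⟩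
  have hab := CfsgLib.Solv.isMulCommutative_of_minimal_solvable hMmin inferInstance
  obtain ⟨hU, hcore⟩ := CfsgLib.Solv.primitive_stabilizer hprim hM ω
  obtain ⟨hc, -⟩ := CfsgLib.Solv.coreFree_abelian hU hcore hM hab
  refine ⟨hc, by rw [inf_comm]; exact CfsgLib.Solv.centralizer_inf_eq_bot hU hcore hM, fun K hKM hKn => ?_⟩
  refine hmin K (Subgroup.normalizer_eq_top_iff.1 (top_unique ?_)) hKM
  intro g _
  obtain ⟨⟨⟨m, hm⟩, ⟨s, hs⟩⟩, e, -⟩ := hc.existsUnique g
  rw [← e]
  refine mul_mem (Subgroup.centralizer_le_normalizer _ ?_) (hKn hs)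
  exact Subgroup.mem_centralizer_iff.2 fun y hy => Subtype.ext_iff.1 (hab.is_comm.comm ⟨y, hKM hy⟩ ⟨m, hm⟩)

end Cfsg.Agent.S0548
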