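-- Statement S0552
import Cfsg.Statements.S0552
import Cfsg.Agent.Solv.FittingBasic

set_option autoImplicit false
open Cfsg
open scoped commutatorElement Pointwise
set_option linter.style.haveILetI false
set_option linter.deprecated false

namespace Cfsg.Agent.S0552

/-- Let σ be an automorphism of a finite solvable group G fixing every element of the Fitting subgroup. If σ is not the identity then the order of σ and the order of G have a common prime factor. -/
theorem result {G : Type*} [Group G] [Finite G] [Group.IsSolvable G] (σ : G ≃* G) (hσ : ∀ x ∈ Cfsg.fittingSubgroup G, σ x = x) (hne : σ ≠ MulEquiv.refl G) : ¬ (orderOf σ).Coprime (Nat.card G) := by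
  intro hco
  refine hne (MulEquiv.ext fun x => ?_)
  haveI := CfsgLib.Solv.fittingSubgroup_normal (G := G)
  have hc : x⁻¹ * σ x ∈ Cfsg.fittingSubgroup G := by
    refine CfsgLib.Solv.centralizer_fittingSubgroup_le (Subgroup.mem_centralizer_iff.2 fun f hf => ?_)
    have h1 := hσ (x * f * x⁻¹) ((CfsgLib.Solv.fittingSubgroup_normal (G := G)).conj_mem f hf x)
    rw [map_mul, map_mul, map_inv, hσ f hf] at h1
    have h2 := congrArg (fun y => x⁻¹ * y * σ x) h1
    simpa [mul_assoc] using h2.symm
  set c := x⁻¹ * σ x with hcd
  have hpow : ∀ k : ℕ, (σ ^ k : MulAut G) x = x * c ^ k := by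
    intro k
    induction k with
    | zero => simp
    | succ k ih =>
      rw [pow_succ', MulAut.mul_apply, ih, map_mul, map_pow, hσ c hc, pow_succ', ← mul_assoc, hcd]
      group
  have h1 : c ^ orderOf σ = 1 := by
    have h2 := hpow (orderOf σ)
    rw [show (σ ^ orderOf σ : MulAut G) = 1 from pow_orderOf_eq_one σ, MulAut.one_apply] at h2
    exact mul_eq_left.1 h2.symm
  have h3 : c = 1 := orderOf_eq_one_iff.1
    (Nat.eq_one_of_dvd_coprimes hco (orderOf_dvd_of_pow_eq_one h1) (orderOf_dvd_natCard c))
  rw [hcd, inv_mul_eq_one] at h3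
  exact h3.symm

end Cfsg.Agent.S0552
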