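-- Statement S0554
import Cfsg.Statements.S0554
import Cfsg.Agent.Solv.MinimalNormal

set_option autoImplicit false
open Cfsg
open scoped commutatorElement Pointwise
set_option linter.style.haveILetI false
set_option linter.deprecated false

namespace Cfsg.Agent.S0554

/-- Let G be a finite solvable group and let S assign to each of t distinct primes, including every prime divisor of the order of G, a Sylow subgroup of G. Then every element of G is a product s_0 s_1 ⋯ s_(t-1) with s_i in S i, the factors taken in the given order. -/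
theorem result {G : Type*} [Group G] [Finite G] [Group.IsSolvable G] (t : ℕ) (p : Fin t → ℕ) (hp : ∀ i, (p i).Prime) (hinj : Function.Injective p) (hall : ∀ q : ℕ, q.Prime → q ∣ Nat.card G → ∃ i, p i = q) (S : (i : Fin t) → Sylow (p i) G) : ∀ g : G, ∃ s : (i : Fin t) → G, (∀ i, s i ∈ (S i : Subgroup G)) ∧ g = (List.ofFn s).prod := by
  suffices key : ∀ (n : ℕ) (G : Type u_1) [Group G] [Finite G] [Group.IsSolvable G], Nat.card G = n →
      ∀ (t : ℕ) (p : Fin t → ℕ), (∀ q : ℕ, q.Prime → q ∣ Nat.card G → ∃ i, p i = q) → (∀ i, (p i).Prime) →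
      ∀ S : (i : Fin t) → Sylow (p i) G,
      ∀ g : G, ∃ s : (i : Fin t) → G, (∀ i, s i ∈ (S i : Subgroup G)) ∧ g = (List.ofFn s).prod from
    key _ G rfl t p hall hp S
  have move : ∀ (G : Type u_1) [Group G] (N : Subgroup G), N.Normal → ∀ (t : ℕ) (s : Fin t → G) (i : Fin t),
      ∀ x ∈ N, ∃ s' : Fin t → G, (∀ j, j ≠ i → s' j = s j) ∧ (∃ y ∈ N, s' i = s i * y) ∧
        (List.ofFn s').prod = (List.ofFn s).prod * x := by
    intro G _ N hN t
    induction t with
    | zero => exact fun s i => i.elim0
    | succ t ih =>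
      intro s i x hx
      induction i using Fin.cases with
      | zero =>
        set R := (List.ofFn fun j : Fin t => s j.succ).prod with hR
        refine ⟨Fin.cons (s 0 * (R * x * R⁻¹)) fun j => s j.succ, ?_, ⟨_, hN.conj_mem x hx R, by simp⟩, ?_⟩
        · intro j hj
          obtain ⟨j, rfl⟩ := Fin.exists_succ_eq.2 hj
          simp
        · simp only [List.ofFn_succ, List.prod_cons, Fin.cons_zero, Fin.cons_succ, ← hR]
          group
      | succ i =>
        obtain ⟨s', h1, ⟨y, hy, h2⟩, h3⟩ := ih (fun j => s j.succ) i x hx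
        refine ⟨Fin.cons (s 0) s', ?_, ⟨y, hy, by simpa using h2⟩, ?_⟩
        · intro j hj
          induction j using Fin.cases with
          | zero => simp
          | succ j => simpa using h1 j (fun e => hj (e ▸ rfl))
        · simp only [List.ofFn_succ, List.prod_cons, Fin.cons_zero, Fin.cons_succ, h3, mul_assoc]
  intro n
  induction n using Nat.strong_induction_on with
  | _ n IH =>
    intro G _ _ _ hn t p hall hp S g
    rcases subsingleton_or_nontrivial G with hs | hs
    · exact ⟨fun _ => 1, fun i => one_mem _, Subsingleton.elim _ _⟩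
    obtain ⟨N, q, hq, hNmin, -, -, hNq⟩ := CfsgLib.Solv.exists_minimal_normal_pGroup (G := G)
    haveI := hNmin.1
    haveI : Fact q.Prime := ⟨hq⟩
    obtain ⟨m, hm⟩ := IsPGroup.iff_card.1 hNq
    have hm0 : m ≠ 0 := fun e => hNmin.2.1 (Subgroup.eq_bot_of_card_eq _ (by rw [hm, e, pow_zero]))
    obtain ⟨i, hi⟩ := hall q hq ((dvd_pow_self q hm0).trans (hm ▸ Subgroup.card_subgroup_dvd_card N))
    haveI : ∀ j, Fact (p j).Prime := fun j => ⟨hp j⟩
    set f := QuotientGroup.mk' N
    have hf : Function.Surjective f := QuotientGroup.mk'_surjective N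
    obtain ⟨sb, hsb, hgb⟩ := IH _ (hn ▸ CfsgLib.Solv.card_quotient_lt hNmin.2.1) (G ⧸ N) rfl t p
      (fun r hr hrd => hall r hr (hrd.trans (Subgroup.card_quotient_dvd_card N))) hp
      (fun j => (S j).mapSurjective hf) (f g)
    have hlift : ∀ j, ∃ x ∈ (S j : Subgroup G), f x = sb j := fun j => hsb j
    choose s hs1 hs2 using hlift
    have hprod : f (List.ofFn s).prod = f g := by
      rw [hgb, map_list_prod, List.map_ofFn]
      exact congrArg (fun u => (List.ofFn u).prod) (funext hs2)
    have hx : (List.ofFn s).prod⁻¹ * g ∈ N := QuotientGroup.eq.1 hprod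
    obtain ⟨s', h1, ⟨y, hy, h2⟩, h3⟩ := move G N inferInstance t s i _ hx
    refine ⟨s', fun j => ?_, by rw [h3, mul_inv_cancel_left]⟩
    by_cases hj : j = i
    · subst hj
      rw [h2]
      refine mul_mem (hs1 j) ?_
      have hNS : N ≤ (S j : Subgroup G) := by
        obtain ⟨Q, hQ⟩ := (hi.symm ▸ hNq : IsPGroup (p j) N).exists_le_sylow
        obtain ⟨a, ha⟩ := MulAction.exists_smul_eq G Q (S j)
        intro z hz
        rw [← ha, Sylow.coe_subgroup_smul, CfsgLib.Solv.mem_conj_smul_iff]
        have h5 := hQ ((inferInstance : N.Normal).conj_mem z hz a⁻¹)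
        simpa [mul_assoc] using h5
      exact hNS hy
    · rw [h1 j hj]; exact hs1 j

end Cfsg.Agent.S0554
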