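-- Statement S0555
import Cfsg.Statements.S0555
import Cfsg.Agent.Solv.Basic

set_option autoImplicit false
open Cfsg
open scoped commutatorElement Pointwise
set_option linter.style.haveILetI false
set_option linter.deprecated false

namespace Cfsg.Agent.S0555

/-- Let i ≥ 1. If in the derived series of a group the quotient of the i-th term by the (i+1)-st and the quotient of the (i+1)-st by the (i+2)-nd are both cyclic, then the (i+1)-st and (i+2)-nd terms coincide. -/
theorem result {G : Type*} [Group G] (i : ℕ) (hi : 1 ≤ i) (h₁ : IsCyclic (↥(derivedSeries G i) ⧸ (derivedSeries G (i + 1)).subgroupOf (derivedSeries G i))) (h₂ : IsCyclic (↥(derivedSeries G (i + 1)) ⧸ (derivedSeries G (i + 2)).subgroupOf (derivedSeries G (i + 1)))) : derivedSeries G (i + 1) = derivedSeries G (i + 2) := by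
  refine le_antisymm ?_ (derivedSeries_antitone G (Nat.le_succ _))
  set D := derivedSeries G i
  set E' := derivedSeries G (i + 1)
  set F := derivedSeries G (i + 2)
  haveI hFn : F.Normal := derivedSeries_normal G (i + 2)
  have hEn : E'.Normal := derivedSeries_normal G (i + 1)
  set f := QuotientGroup.mk' F
  obtain ⟨e0', he0⟩ := h₂.exists_generator
  obtain ⟨e0, rfl⟩ := QuotientGroup.mk_surjective e0'
  set c := f (e0 : G)
  have hgen : ∀ x ∈ E', f x ∈ Subgroup.zpowers c := by
    intro x hx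
    obtain ⟨k, hk⟩ := Subgroup.mem_zpowers_iff.1 (he0 (QuotientGroup.mk ⟨x, hx⟩))
    rw [← QuotientGroup.mk_zpow, QuotientGroup.eq, Subgroup.mem_subgroupOf] at hk
    refine ⟨k, ?_⟩
    show c ^ k = f x
    rw [← map_zpow]
    exact QuotientGroup.eq.2 (by simpa only [Subgroup.coe_mul, InvMemClass.coe_inv, SubgroupClass.coe_zpow] using hk)
  have hconj : ∀ g : G, ∃ k : ℤ, f g * c * (f g)⁻¹ = c ^ k := by
    intro g
    obtain ⟨k, hk⟩ := Subgroup.mem_zpowers_iff.1 (hgen _ (hEn.conj_mem _ e0.2 g))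
    exact ⟨k, by rw [hk, map_mul, map_mul, map_inv]⟩
  let C : Subgroup G := (Subgroup.centralizer ({c} : Set (G ⧸ F))).comap f
  have hcomm : commutator G ≤ C := by
    rw [commutator_def, Subgroup.commutator_le]
    intro a _ b _
    rw [Subgroup.mem_comap, Subgroup.mem_centralizer_singleton_iff]
    obtain ⟨k, hk⟩ := hconj a
    obtain ⟨l, hl⟩ := hconj b
    have hab : f a * f b * c * (f a * f b)⁻¹ = f b * f a * c * (f b * f a)⁻¹ := by
      have e1 : f a * f b * c * (f a * f b)⁻¹ = f a * (f b * c * (f b)⁻¹) * (f a)⁻¹ := by group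
      have e2 : f b * f a * c * (f b * f a)⁻¹ = f b * (f a * c * (f a)⁻¹) * (f b)⁻¹ := by group
      rw [e1, e2, hk, hl, ← conj_zpow, ← conj_zpow, hk, hl, ← zpow_mul, ← zpow_mul, mul_comm]
    rw [commutatorElement_def, map_mul, map_mul, map_mul, map_inv, map_inv]
    obtain ⟨m, hm⟩ := hconj (b * a)⁻¹
    rw [map_inv, map_mul, inv_inv] at hm
    have hm2 : f b * f a * c ^ m * (f b * f a)⁻¹ = c := by rw [← hm]; group
    have hm3 : f a * f b * c ^ m * (f a * f b)⁻¹ = f b * f a * c ^ m * (f b * f a)⁻¹ := by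
      rw [← conj_zpow, ← conj_zpow, hab]
    calc f a * f b * (f a)⁻¹ * (f b)⁻¹ * c
        = f a * f b * (f a)⁻¹ * (f b)⁻¹ * (f b * f a * c ^ m * (f b * f a)⁻¹) := by rw [hm2]
      _ = f a * f b * c ^ m * (f a * f b)⁻¹ * (f a * f b * (f a)⁻¹ * (f b)⁻¹) := by group
      _ = _ := by rw [hm3, hm2]
  have hD1 : D ≤ commutator G := by
    rw [← derivedSeries_one]
    exact derivedSeries_antitone G hi
  -- hence the image of `D` is abelian
  obtain ⟨d0', hd0⟩ := h₁.exists_generator
  obtain ⟨d0, rfl⟩ := QuotientGroup.mk_surjective d0'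
  have hcen : ∀ x ∈ D, ∀ y ∈ E', f x * f y = f y * f x := by
    intro x hx y hy
    obtain ⟨k, hk⟩ := Subgroup.mem_zpowers_iff.1 (hgen y hy)
    rw [← hk]
    exact Commute.zpow_right (Subgroup.mem_centralizer_singleton_iff.1 (hcomm (hD1 hx))) k
  have hdec : ∀ x ∈ D, ∃ k : ℤ, ∃ y ∈ E', f x = f (d0 : G) ^ k * f y := by
    intro x hx
    obtain ⟨k, hk⟩ := Subgroup.mem_zpowers_iff.1 (hd0 (QuotientGroup.mk ⟨x, hx⟩))
    rw [← QuotientGroup.mk_zpow, QuotientGroup.eq, Subgroup.mem_subgroupOf] at hk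
    refine ⟨k, _, hk, ?_⟩
    rw [← map_zpow, ← map_mul]
    simp
  show derivedSeries G (i + 1) ≤ F
  rw [derivedSeries_succ, Subgroup.commutator_le]
  intro a ha b hb
  rw [← QuotientGroup.eq_one_iff, ← QuotientGroup.mk'_apply]
  show f ⁅a, b⁆ = 1
  rw [map_commutatorElement, commutatorElement_eq_one_iff_mul_comm]
  obtain ⟨k, y, hy, e1⟩ := hdec a ha
  obtain ⟨l, z, hz, e2⟩ := hdec b hb
  rw [e1, e2]
  have c1 : Commute (f (d0 : G) ^ k) (f z) := Commute.zpow_left (hcen _ d0.2 z hz) k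
  have c2 : Commute (f (d0 : G) ^ l) (f y) := Commute.zpow_left (hcen _ d0.2 y hy) l
  have c3 : Commute (f y) (f z) := hcen y ((derivedSeries_antitone G (Nat.le_succ i)) hy) z hz
  have c4 : Commute (f (d0 : G) ^ k) (f (d0 : G) ^ l) := Commute.zpow_zpow_self _ k l
  exact (c4.mul_right c1).mul_left (c2.symm.mul_right c3)

end Cfsg.Agent.S0555
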