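-- Statement S0557
import Cfsg.Statements.S0557
import Cfsg.Agent.Solv.Basic

set_option autoImplicit false
open Cfsg
open scoped commutatorElement Pointwise
set_option linter.style.haveILetI false
set_option linter.deprecated false

namespace Cfsg.Agent.S0557

/-- Let H be a subgroup of a finite group G with order coprime to its index. If iterating the focal-subgroup construction starting from H reaches the trivial subgroup after finitely many steps, then H has a normal complement in G. -/
theorem result {G : Type*} [Group G] [Finite G] (H : Subgroup G) (hHall : (Nat.card H).Coprime H.index) (n : ℕ) (hfoc : (fun K : Subgroup G => Subgroup.focalSubgroup K)^[n] H = ⊥) : ∃ N : Subgroup G, N.Normal ∧ Subgroup.IsComplement' N H := by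
  suffices key : ∀ (N : ℕ) (G : Type u_1) [Group G] [Finite G], Nat.card G = N → ∀ H : Subgroup G,
      (Nat.card H).Coprime H.index → ∀ n : ℕ, (fun K : Subgroup G => Subgroup.focalSubgroup K)^[n] H = ⊥ →
      ∃ M : Subgroup G, M.Normal ∧ Subgroup.IsComplement' M H from key _ G rfl H hHall n hfoc
  intro N
  induction N using Nat.strong_induction_on with
  | _ N IH =>
    intro G _ _ hN H hHall n hfoc
    classical
    by_cases hHb : H = ⊥
    · subst hHb
      exact ⟨⊤, inferInstance, Subgroup.isComplement'_top_bot⟩
    obtain ⟨n, rfl⟩ : ∃ k, n = k + 1 := Nat.exists_eq_succ_of_ne_zero (fun e => hHb (by subst e; simpa using hfoc))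
    have hne : Subgroup.focalSubgroup H ≠ H := fun e => hHb (by
      have : ∀ k, (fun K : Subgroup G => Subgroup.focalSubgroup K)^[k] H = H := fun k =>
        Function.iterate_fixed (f := fun K : Subgroup G => Subgroup.focalSubgroup K) e k
      rw [← hfoc, this])
    set τ := Subgroup.transferFocal H with hτ
    set K := τ.ker with hK
    have hco : (Nat.card (H ⧸ H.focalSubgroupOf)).Coprime H.index :=
      hHall.coprime_dvd_left (Subgroup.card_quotient_dvd_card _)
    have hpow : Function.Bijective fun y : H ⧸ H.focalSubgroupOf => y ^ H.index :=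
      (powCoprime hco).bijective
    have hKH : ∀ x : H, (x : G) ∈ K ↔ (x : G) ∈ Subgroup.focalSubgroup H := by
      intro x
      rw [hK, MonoidHom.mem_ker, hτ, Subgroup.transferFocal_eq_pow]
      have h1 : ((x : H ⧸ H.focalSubgroupOf) ^ H.index = 1) ↔ (x : H ⧸ H.focalSubgroupOf) = 1 :=
        ⟨fun h => hpow.1 (by simpa using h), fun h => by rw [h, one_pow]⟩
      rw [h1, QuotientGroup.eq_one_iff]
      exact Subgroup.mem_subgroupOf
    have hfK : Subgroup.focalSubgroup H ≤ K := fun x hx => (hKH ⟨x, H.focalSubgroup_le hx⟩).2 hx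
    have hsurj : Function.Surjective τ := fun y => by
      obtain ⟨y1, rfl⟩ := hpow.2 y
      obtain ⟨x, rfl⟩ := QuotientGroup.mk_surjective y1
      exact ⟨x, Subgroup.transferFocal_eq_pow H x⟩
    have hKtop : K ≠ ⊤ := fun e => hne (le_antisymm H.focalSubgroup_le fun x hx => (hKH ⟨x, hx⟩).1 (e.ge (Subgroup.mem_top x)))
    have hKidx : K.index = Nat.card (H ⧸ H.focalSubgroupOf) := by
      rw [Subgroup.index_eq_card]
      exact Nat.card_congr (QuotientGroup.quotientKerEquivOfSurjective τ hsurj).toEquiv
    set F1 := Subgroup.focalSubgroup H with hF1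
    have hcardF1 : Nat.card H = Nat.card (H ⧸ H.focalSubgroupOf) * Nat.card F1 := by
      rw [Subgroup.card_eq_card_quotient_mul_card_subgroup H.focalSubgroupOf,
        show Nat.card H.focalSubgroupOf = Nat.card F1 from CfsgLib.Solv.card_subgroupOf H.focalSubgroup_le]
    have hidx1 : (F1.subgroupOf K).index = H.index := by
      have h1 := Subgroup.card_mul_index (F1.subgroupOf K)
      rw [CfsgLib.Solv.card_subgroupOf hfK] at h1
      have h2 := Subgroup.card_mul_index K
      have h3 := Subgroup.card_mul_index H
      have hpos : 0 < Nat.card (H ⧸ H.focalSubgroupOf) * Nat.card F1 := Nat.mul_pos Nat.card_pos Nat.card_pos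
      refine Nat.eq_of_mul_eq_mul_left hpos ?_
      calc _ = Nat.card (H ⧸ H.focalSubgroupOf) * (Nat.card F1 * (F1.subgroupOf K).index) := by ring
        _ = Nat.card K * Nat.card (H ⧸ H.focalSubgroupOf) := by rw [h1]; ring
        _ = Nat.card G := by rw [← hKidx, h2]
        _ = Nat.card H * H.index := h3.symm
        _ = _ := by rw [hcardF1]
    have hHall1 : (Nat.card (F1.subgroupOf K)).Coprime (F1.subgroupOf K).index := by
      rw [hidx1, CfsgLib.Solv.card_subgroupOf hfK]
      exact hHall.coprime_dvd_left (Subgroup.card_dvd_of_le H.focalSubgroup_le)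
    have hmono : ∀ X Y : Subgroup G, X ≤ Y → Subgroup.focalSubgroup X ≤ Subgroup.focalSubgroup Y := fun X Y hXY =>
      Subgroup.closure_mono fun g hg => by
        obtain ⟨h1, x, hx, u, rfl⟩ := hg
        exact ⟨hXY h1, x, hXY hx, u, rfl⟩
    have hiter : ∀ k, (((fun X : Subgroup K => Subgroup.focalSubgroup X)^[k] (F1.subgroupOf K)).map K.subtype) ≤
        (fun X : Subgroup G => Subgroup.focalSubgroup X)^[k] F1 := by
      intro k
      induction k with
      | zero => exact (Subgroup.map_subgroupOf_eq_of_le hfK).le
      | succ k ih =>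
        rw [Function.iterate_succ_apply', Function.iterate_succ_apply']
        refine le_trans ?_ (hmono _ _ ih)
        show (Subgroup.focalSubgroup _).map K.subtype ≤ _
        rw [Subgroup.focalSubgroup_def, MonoidHom.map_closure]
        refine Subgroup.closure_mono ?_
        rintro _ ⟨g, ⟨h1, x, hx, u, rfl⟩, rfl⟩
        exact ⟨Subgroup.mem_map_of_mem _ h1, _, Subgroup.mem_map_of_mem _ hx, (u : G), by rw [map_commutatorElement]; rfl⟩
    have hbot : (fun X : Subgroup K => Subgroup.focalSubgroup X)^[n] (F1.subgroupOf K) = ⊥ := by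
      have h1 := hiter n
      rw [Function.iterate_succ_apply] at hfoc
      rw [hfoc, le_bot_iff, Subgroup.map_eq_bot_iff_of_injective _ K.subtype_injective] at h1
      exact h1
    obtain ⟨M, hMn, hMc⟩ := IH _ (hN ▸ CfsgLib.Solv.card_lt_of_ne_top hKtop) K rfl _ hHall1 n hbot
    have hMcard : Nat.card M = H.index := by rw [← hidx1]; exact hMc.index_eq_card.symm
    haveI := hMn
    haveI : M.Characteristic := by
      refine Subgroup.characteristic_iff_le_comap.2 fun e x hx => ?_
      show e x ∈ M
      have h1 : (e x) ^ Nat.card M = 1 := by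
        rw [← map_pow, show x ^ Nat.card M = 1 from (by
          have h := congrArg Subtype.val (pow_card_eq_one' (x := (⟨x, hx⟩ : M)))
          rwa [SubmonoidClass.coe_pow, OneMemClass.coe_one] at h), map_one]
      rw [← QuotientGroup.eq_one_iff, ← orderOf_eq_one_iff]
      refine Nat.eq_one_of_dvd_coprimes (a := Nat.card M) (b := Nat.card (F1.subgroupOf K)) ?_ ?_ ?_
      · rw [hMcard, ← hidx1]; exact hHall1.symm
      · exact orderOf_dvd_of_pow_eq_one (by rw [← QuotientGroup.mk_pow, h1, QuotientGroup.mk_one])
      · rw [← hMc.symm.index_eq_card, Subgroup.index_eq_card]; exact orderOf_dvd_natCard _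
    refine ⟨M.map K.subtype, CfsgLib.Solv.normal_map_subtype_of_characteristic M, ?_⟩
    refine Subgroup.isComplement'_of_coprime ?_ ?_
    · rw [CfsgLib.Solv.card_map_subtype, hMcard, mul_comm, Subgroup.card_mul_index]
    · rw [CfsgLib.Solv.card_map_subtype, hMcard]; exact hHall.symm

end Cfsg.Agent.S0557
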