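-- Statement S0560
import Cfsg.Statements.S0560
import Cfsg.Agent.Solv.Basic

set_option autoImplicit false
open Pointwise
open Cfsg
open scoped commutatorElement Pointwise
set_option linter.style.haveILetI false
set_option linter.deprecated false

namespace Cfsg.Agent.S0560

/-- Let the finite group G be the product HK of two subgroups and p a prime. Then there are Sylow p-subgroups P of H and Q of K and a Sylow p-subgroup R of G whose underlying set is the product set of P and Q. -/
theorem result {G : Type*} [Group G] [Finite G] (H K : Subgroup G) (hHK : ∀ g : G, ∃ h ∈ H, ∃ k ∈ K, g = h * k) (p : ℕ) [Fact p.Prime] : ∃ (P : Sylow p H) (Q : Sylow p K) (R : Sylow p G), ((R : Subgroup G) : Set G) = (((P : Subgroup H).map H.subtype : Subgroup G) : Set G) * (((Q : Subgroup K).map K.subtype : Subgroup G) : Set G) := by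
  let R0 : Sylow p G := default
  let P0 : Sylow p H := default
  let Q0 : Sylow p K := default
  have hP0 : IsPGroup p ((P0 : Subgroup H).map H.subtype) := P0.2.map H.subtype
  have hQ0 : IsPGroup p ((Q0 : Subgroup K).map K.subtype) := Q0.2.map K.subtype
  obtain ⟨R1, hR1⟩ := hP0.exists_le_sylow
  obtain ⟨R2, hR2⟩ := hQ0.exists_le_sylow
  obtain ⟨g, hg⟩ := MulAction.exists_smul_eq G R2 R1
  obtain ⟨h, hh, k, hk, rfl⟩ := hHK g
  set P := (⟨h, hh⟩ : H)⁻¹ • P0
  set Q := (⟨k, hk⟩ : K) • Q0
  set R := h⁻¹ • R1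
  have hPR : (P : Subgroup H).map H.subtype ≤ (R : Subgroup G) := by
    rintro _ ⟨x, hx, rfl⟩
    rw [SetLike.mem_coe, Sylow.coe_subgroup_smul, CfsgLib.Solv.mem_conj_smul_iff] at hx
    rw [Sylow.coe_subgroup_smul, CfsgLib.Solv.mem_conj_smul_iff]
    simpa using hR1 (Subgroup.mem_map_of_mem _ hx)
  have hQR : (Q : Subgroup K).map K.subtype ≤ (R : Subgroup G) := by
    rintro _ ⟨x, hx, rfl⟩
    rw [SetLike.mem_coe, Sylow.coe_subgroup_smul, CfsgLib.Solv.mem_conj_smul_iff] at hx
    have e : R = k • R2 := by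
      show h⁻¹ • R1 = k • R2
      rw [← hg, mul_smul, inv_smul_smul]
    rw [e, Sylow.coe_subgroup_smul, CfsgLib.Solv.mem_conj_smul_iff]
    simpa using hR2 (Subgroup.mem_map_of_mem _ hx)
  refine ⟨P, Q, R, ?_⟩
  set A := (P : Subgroup H).map H.subtype
  set B := (Q : Subgroup K).map K.subtype
  -- the indices
  have hsurjq : Function.Surjective fun k : K => (QuotientGroup.mk (k : G) : G ⧸ H) := by
    intro c
    obtain ⟨g, rfl⟩ := QuotientGroup.mk_surjective c
    obtain ⟨h1, hh1, k1, hk1, e⟩ := hHK g⁻¹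
    refine ⟨⟨k1⁻¹, inv_mem hk1⟩, QuotientGroup.eq.2 ?_⟩
    show k1⁻¹⁻¹ * g ∈ H
    rw [inv_inv]
    have e2 : k1 * g = h1⁻¹ := by
      have := congrArg (fun z => h1⁻¹ * z * g) e
      simp only [mul_assoc, inv_mul_cancel, mul_one, inv_mul_cancel_left] at this
      exact this.symm
    rw [e2]
    exact inv_mem hh1
  have hGK : H.index ≤ H.relIndex K := by
    rw [Subgroup.relIndex, Subgroup.index_eq_card, Subgroup.index_eq_card]
    refine Nat.card_le_card_of_surjective (Quotient.lift (fun k : K => (QuotientGroup.mk (k : G) : G ⧸ H))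
      fun x y hxy => QuotientGroup.eq.2 (by
        have h3 : x⁻¹ * y ∈ H.subgroupOf K := QuotientGroup.leftRel_apply.1 hxy
        simpa [Subgroup.mem_subgroupOf] using h3)) fun c => ?_
    obtain ⟨k1, hk1⟩ := hsurjq c
    exact ⟨QuotientGroup.mk k1, hk1⟩
  -- `A ⊓ B` is a `p`-subgroup of `H ⊓ K`
  have hAH : A ≤ H := Subgroup.map_subtype_le _
  have hBK : B ≤ K := Subgroup.map_subtype_le _
  have hAB : ((A : Set G) * (B : Set G)) ⊆ (R : Subgroup G) := by
    rintro _ ⟨a, ha, b, hb, rfl⟩
    exact mul_mem (hPR ha) (hQR hb)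
  have hrel : A.relIndex (R : Subgroup G) ≤ A.relIndex B := by
    have e1 : Nat.card A * A.relIndex (R : Subgroup G) = Nat.card (R : Subgroup G) :=
      CfsgLib.Solv.relIndex_mul_card hPR
    have e2 : Nat.card ↥(A ⊓ B) * A.relIndex B = Nat.card B := by
      rw [← Subgroup.inf_relIndex_right]; exact CfsgLib.Solv.relIndex_mul_card inf_le_right
    have e3 : Nat.card ↥(H ⊓ K) * H.relIndex K = Nat.card K := by
      rw [← Subgroup.inf_relIndex_right]; exact CfsgLib.Solv.relIndex_mul_card inf_le_right
    have e4 := Subgroup.card_mul_index H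
    have hA : Nat.card A = p ^ (Nat.card H).factorization p := by
      rw [CfsgLib.Solv.card_map_subtype]; exact P.card_eq_multiplicity
    have hB : Nat.card B = p ^ (Nat.card K).factorization p := by
      rw [CfsgLib.Solv.card_map_subtype]; exact Q.card_eq_multiplicity
    obtain ⟨j, hj⟩ := IsPGroup.iff_card.1 ((R.2.to_le hQR).to_le (inf_le_right : A ⊓ B ≤ B))
    have hjs : j ≤ (Nat.card ↥(H ⊓ K)).factorization p :=
      ((Fact.out : p.Prime).pow_dvd_iff_le_factorization Nat.card_pos.ne').1
        (hj ▸ Subgroup.card_dvd_of_le (inf_le_inf hAH hBK))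
    have hidx : H.relIndex K = H.index := by
      refine le_antisymm ?_ hGK
      rw [← Subgroup.relIndex_top_right]
      exact Subgroup.relIndex_le_of_le_right le_top (by rw [Subgroup.relIndex_top_right]; exact Subgroup.index_ne_zero_of_finite)
    have e5 : Nat.card ↥(H ⊓ K) * Nat.card G = Nat.card H * Nat.card K := by
      rw [← e4, ← e3, hidx]; ring
    have e6 := congrArg (fun n => n.factorization p) e5
    simp only [Nat.factorization_mul Nat.card_pos.ne' Nat.card_pos.ne', Finsupp.add_apply] at e6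
    rw [hA, R.card_eq_multiplicity] at e1
    rw [hj, hB] at e2
    have hp := (Fact.out : p.Prime)
    have key : p ^ (Nat.card H).factorization p * p ^ j * A.relIndex (R : Subgroup G) ≤
        p ^ (Nat.card H).factorization p * p ^ j * A.relIndex B := by
      calc _ = p ^ j * (p ^ (Nat.card H).factorization p * A.relIndex (R : Subgroup G)) := by ring
        _ = p ^ (j + (Nat.card G).factorization p) := by rw [e1, pow_add]
        _ ≤ p ^ ((Nat.card H).factorization p + (Nat.card K).factorization p) :=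
            Nat.pow_le_pow_right hp.pos (by omega)
        _ = p ^ (Nat.card H).factorization p * (p ^ j * A.relIndex B) := by rw [e2, pow_add]
        _ = _ := by ring
    exact Nat.le_of_mul_le_mul_left key (Nat.mul_pos (Nat.pow_pos hp.pos) (Nat.pow_pos hp.pos))
  refine Set.Subset.antisymm (fun r hr => ?_) hAB
  let ι : B ⧸ A.subgroupOf B → (R : Subgroup G) ⧸ A.subgroupOf R := Quotient.map' (Subgroup.inclusion hQR)
    fun x y hxy => by
      have h3 := QuotientGroup.leftRel_apply.1 hxy
      exact QuotientGroup.leftRel_apply.2 h3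
  have hinj : Function.Injective ι := by
    intro x y
    induction x using Quotient.inductionOn' with
    | _ x =>
      induction y using Quotient.inductionOn' with
      | _ y => intro e; exact QuotientGroup.eq.2 (QuotientGroup.eq (s := A.subgroupOf R).1 e)
  haveI := Fintype.ofFinite (B ⧸ A.subgroupOf B)
  haveI := Fintype.ofFinite ((R : Subgroup G) ⧸ A.subgroupOf R)
  have hbij : Function.Bijective ι := hinj.bijective_of_nat_card_le hrel
  obtain ⟨c, hc⟩ := hbij.2 (QuotientGroup.mk (⟨r, hr⟩⁻¹ : (R : Subgroup G)))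
  induction c using Quotient.inductionOn' with
  | _ b =>
    have h3 := QuotientGroup.eq.1 hc
    rw [Subgroup.mem_subgroupOf] at h3
    refine ⟨((b : G)⁻¹ * r⁻¹)⁻¹, inv_mem (by simpa using h3), (b : G)⁻¹, inv_mem b.2, ?_⟩
    simp

end Cfsg.Agent.S0560
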