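-- Statement S0561
import Cfsg.Statements.S0561
import Cfsg.Agent.Solv.ProductLemmas

set_option autoImplicit false
open Pointwise
open Cfsg
set_option linter.style.haveILetI false
set_option linter.deprecated false

namespace Cfsg.Agent.S0561

/-- Let the finite solvable group G be the product HK of subgroups, and let A be normal in H and B normal in K, where A and B are Hall subgroups of G (order coprime to index). Then for all x, y the product set of xAx⁻¹ and yBy⁻¹ is a subgroup of G. -/
theorem result {G : Type*} [Group G] [Finite G] [Group.IsSolvable G] (H K A B : Subgroup G) (hHK : ∀ g : G, ∃ h ∈ H, ∃ k ∈ K, g = h * k) (hA : A ≤ H) (hAn : (A.subgroupOf H).Normal) (hB : B ≤ K) (hBn : (B.subgroupOf K).Normal) (hAh : (Nat.card A).Coprime A.index) (hBh : (Nat.card B).Coprime B.index) (x y : G) : ∃ S : Subgroup G, (S : Set G) = ((MulAut.conj x • A : Subgroup G) : Set G) * ((MulAut.conj y • B : Subgroup G) : Set G) := by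
    have hHA : H ≤ Subgroup.normalizer (A : Set G) := (Subgroup.normal_subgroupOf_iff_le_normalizer hA).1 hAn
    have hKB : K ≤ Subgroup.normalizer (B : Set G) := (Subgroup.normal_subgroupOf_iff_le_normalizer hB).1 hBn
    obtain ⟨S, -, -, hS, -⟩ := CfsgLib.Solv.hall_factor_permutes hHK hHA hKB hAh hBh
    obtain ⟨h, hh, k, hk, e⟩ := hHK (x⁻¹ * y)
    have hA' : MulAut.conj x • A = MulAut.conj (x * h) • A := by
      rw [map_mul, mul_smul, CfsgLib.Solv.conj_smul_eq_self_of_mem_normalizer (hHA hh)]
    have hy : y = x * h * k := by rw [mul_assoc, ← e, mul_inv_cancel_left]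
    have hB' : MulAut.conj y • B = MulAut.conj (x * h) • B := by
      rw [hy, map_mul, mul_smul, CfsgLib.Solv.conj_smul_eq_self_of_mem_normalizer (hKB hk)]
    refine ⟨MulAut.conj (x * h) • S, ?_⟩
    rw [hA', hB', Subgroup.coe_pointwise_smul, Subgroup.coe_pointwise_smul, Subgroup.coe_pointwise_smul,
      hS, smul_mul']

end Cfsg.Agent.S0561
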