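-- Statement S0562
import Cfsg.Statements.S0562
import Cfsg.Agent.Solv.Basic

set_option autoImplicit false
open Cfsg
open scoped commutatorElement Pointwise
set_option linter.style.haveILetI false
set_option linter.deprecated false

namespace Cfsg.Agent.S0562

/-- Let the finite group G be the product HK of subgroups, A normal in H, B normal in K, and L the normalizer of the subgroup generated by A and B. Then every element of L is a product of an element of L ∩ H and an element of L ∩ K. -/
theorem result {G : Type*} [Group G] [Finite G] (H K A B : Subgroup G) (hHK : ∀ g : G, ∃ h ∈ H, ∃ k ∈ K, g = h * k) (hA : A ≤ H) (hAn : (A.subgroupOf H).Normal) (hB : B ≤ K) (hBn : (B.subgroupOf K).Normal) : ∀ g ∈ Subgroup.normalizer ((A ⊔ B : Subgroup G) : Set G), ∃ h ∈ Subgroup.normalizer ((A ⊔ B : Subgroup G) : Set G) ⊓ H, ∃ k ∈ Subgroup.normalizer ((A ⊔ B : Subgroup G) : Set G) ⊓ K, g = h * k := by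
  intro g hg
  obtain ⟨h, hh, k, hk, rfl⟩ := hHK g
  rw [Subgroup.normal_subgroupOf_iff_le_normalizer hA] at hAn
  rw [Subgroup.normal_subgroupOf_iff_le_normalizer hB] at hBn
  have e := CfsgLib.Solv.conj_smul_eq_self_of_mem_normalizer hg
  have hkX : MulAut.conj k • (A ⊔ B) = A ⊔ B := by
    have hk' : MulAut.conj k • (A ⊔ B) = MulAut.conj h⁻¹ • (A ⊔ B) := by
      conv_rhs => rw [← e]
      rw [map_mul, mul_smul, map_inv, inv_smul_smul]
    refine (Subgroup.eq_of_le_of_card_ge ?_ (CfsgLib.Solv.card_conj_smul _ _).le).symm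
    refine sup_le ?_ ?_
    · rw [hk']
      conv_lhs => rw [← CfsgLib.Solv.conj_smul_eq_self_of_mem_normalizer (inv_mem (hAn hh))]
      exact Subgroup.pointwise_smul_le_pointwise_smul_iff.2 le_sup_left
    · conv_lhs => rw [← CfsgLib.Solv.conj_smul_eq_self_of_mem_normalizer (hBn hk)]
      exact Subgroup.pointwise_smul_le_pointwise_smul_iff.2 le_sup_right
  have hk1 := CfsgLib.Solv.mem_normalizer_of_conj_smul_eq hkX
  have hh1 : h ∈ Subgroup.normalizer ((A ⊔ B : Subgroup G) : Set G) := by
    have := mul_mem hg (inv_mem hk1)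
    rwa [mul_inv_cancel_right] at this
  exact ⟨h, Subgroup.mem_inf.2 ⟨hh1, hh⟩, k, Subgroup.mem_inf.2 ⟨hk1, hk⟩, rfl⟩

end Cfsg.Agent.S0562
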