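-- Statement S0563
import Cfsg.Statements.S0563
import Cfsg.Agent.Solv.KegelWielandt

set_option autoImplicit false
open Pointwise
open Cfsg
set_option linter.style.haveILetI false
set_option linter.deprecated false

namespace Cfsg.Agent.S0563

/-- If a finite group G is the product AB of two nilpotent subgroups of coprime orders, then G is solvable, and for every Sylow p-subgroup P of A and Sylow q-subgroup Q of B the product set PQ is a subgroup. -/
theorem result {G : Type*} [Group G] [Finite G] (A B : Subgroup G) (hA : Group.IsNilpotent A) (hB : Group.IsNilpotent B) (hcop : (Nat.card A).Coprime (Nat.card B)) (hAB : ∀ g : G, ∃ a ∈ A, ∃ b ∈ B, g = a * b) : Group.IsSolvable G ∧ ∀ (p q : ℕ) [Fact p.Prime] [Fact q.Prime] (P : Sylow p A) (Q : Sylow q B), ∃ S : Subgroup G, (S : Set G) = (((P : Subgroup A).map A.subtype : Subgroup G) : Set G) * (((Q : Subgroup B).map B.subtype : Subgroup G) : Set G) := by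
    haveI hs : Group.IsSolvable G := CfsgLib.Solv.kegel_wielandt hA hB hAB
    have hcard := CfsgLib.Solv.IsFactorization.card_mul (A := A) (B := B) hAB
      (Subgroup.inf_eq_bot_of_coprime hcop)
    have hidx : ∀ C D : Subgroup G, Nat.card C * Nat.card D = Nat.card G → C.index = Nat.card D :=
      fun C D h => Nat.eq_of_mul_eq_mul_left Nat.card_pos ((Subgroup.card_mul_index C).trans h.symm)
    have key : ∀ (C D : Subgroup G), Group.IsNilpotent C → (Nat.card C).Coprime (Nat.card D) →
        C.index = Nat.card D → ∀ (r : ℕ) [Fact r.Prime] (P : Sylow r C),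
        C ≤ Subgroup.normalizer (((P : Subgroup C).map C.subtype : Subgroup G) : Set G) ∧
          (Nat.card ((P : Subgroup C).map C.subtype : Subgroup G)).Coprime
            ((P : Subgroup C).map C.subtype : Subgroup G).index := by
      intro C D hC hcd hi r _ P
      haveI := hC
      haveI : (P : Subgroup C).Normal := inferInstance
      refine ⟨CfsgLib.Solv.le_normalizer_iff_forall_conj_mem.2 ?_, ?_⟩
      · rintro a ha _ ⟨x, hx, rfl⟩
        exact ⟨⟨a, ha⟩ * x * (⟨a, ha⟩ : C)⁻¹, Subgroup.Normal.conj_mem inferInstance x hx _, rfl⟩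
      · rw [Subgroup.index_map_subtype, CfsgLib.Solv.card_map_subtype, hi]
        exact P.card_coprime_index.mul_right
          (hcd.coprime_dvd_left (Subgroup.card_subgroup_dvd_card (P : Subgroup C)))
    refine ⟨hs, fun p q _ _ P Q => ?_⟩
    obtain ⟨h1, h2⟩ := key A B hA hcop (hidx A B hcard) p P
    obtain ⟨h3, h4⟩ := key B A hB hcop.symm (hidx B A ((mul_comm _ _).trans hcard)) q Q
    obtain ⟨S, -, -, hS, -⟩ := CfsgLib.Solv.hall_factor_permutes hAB h1 h3 h2 h4
    exact ⟨S, hS⟩

end Cfsg.Agent.S0563
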