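-- Statement S0567
import Cfsg.Statements.S0567
import Cfsg.Agent.Solv.Basic

set_option autoImplicit false
open Cfsg
open scoped commutatorElement Pointwise
set_option linter.style.haveILetI false
set_option linter.deprecated false

namespace Cfsg.Agent.S0567

/-- A subgroup H of a group G is subnormal exactly when, for some m, the subgroup obtained from G by taking the commutator with H m times in succession is contained in H. -/
theorem result {G : Type*} [Group G] (H : Subgroup G) : H.IsSubnormal ↔ ∃ m : ℕ, (fun K : Subgroup G => ⁅K, H⁆)^[m] ⊤ ≤ H := by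
  set f : Subgroup G → Subgroup G := fun K => ⁅K, H⁆ with hf
  constructor
  · intro hs
    suffices key : ∀ K : Subgroup G, K.IsSubnormal → H ≤ K → ∃ m : ℕ, f^[m] ⊤ ≤ K from key H hs le_rfl
    intro K hK
    induction hK with
    | top => exact fun _ => ⟨0, le_top⟩
    | step A B hle _ hN IH =>
      intro hHA
      obtain ⟨m, hm⟩ := IH (hHA.trans hle)
      refine ⟨m + 1, ?_⟩
      rw [Function.iterate_succ_apply', hf]
      refine (Subgroup.commutator_mono hm hHA).trans ?_
      rw [Subgroup.normal_subgroupOf_iff_le_normalizer hle] at hN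
      rw [Subgroup.commutator_le]
      intro b hb a ha
      exact mul_mem ((Subgroup.mem_normalizer_iff.1 (hN hb) a).1 ha) (inv_mem ha)
  · rintro ⟨m, hm⟩
    have key : ∀ i, (H ⊔ f^[i] ⊤).IsSubnormal := by
      intro i
      induction i with
      | zero => simpa using Subgroup.IsSubnormal.top
      | succ i ih =>
        set X := f^[i] (⊤ : Subgroup G)
        have e : f^[i + 1] (⊤ : Subgroup G) = ⁅X, H⁆ := Function.iterate_succ_apply' f i ⊤
        rw [e]
        have hXH : ⁅X, H⁆ ≤ H ⊔ X := Subgroup.commutator_le.2 fun x hx a ha =>
          mul_mem (mul_mem (mul_mem (Subgroup.mem_sup_right hx) (Subgroup.mem_sup_left ha))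
            (inv_mem (Subgroup.mem_sup_right hx))) (inv_mem (Subgroup.mem_sup_left ha))
        refine Subgroup.IsSubnormal.step _ (H ⊔ X) (sup_le le_sup_left hXH) ih ?_
        rw [Subgroup.normal_subgroupOf_iff_le_normalizer (sup_le le_sup_left hXH)]
        refine sup_le (le_trans le_sup_left Subgroup.le_normalizer) ?_
        rw [CfsgLib.Solv.le_normalizer_iff_forall_conj_mem]
        intro x hx z hz
        have hcomap : H ⊔ ⁅X, H⁆ ≤ (H ⊔ ⁅X, H⁆).comap (MulAut.conj x).toMonoidHom := by
          refine sup_le (fun a ha => ?_) ?_
          · show x * a * x⁻¹ ∈ H ⊔ ⁅X, H⁆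
            have := mul_mem (Subgroup.mem_sup_right (S := H) (Subgroup.commutator_mem_commutator hx ha))
              (Subgroup.mem_sup_left (T := ⁅X, H⁆) ha)
            simpa [commutatorElement_def] using this
          · intro c hc
            exact Subgroup.mem_sup_right ((Subgroup.mem_normalizer_iff.1
              (Subgroup.normalizer_commutator_ge_left X H hx) c).1 hc)
        exact hcomap hz
    have := key m
    rwa [sup_eq_left.2 hm] at this

end Cfsg.Agent.S0567
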