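-- Statement S0568
import Cfsg.Statements.S0568
import Cfsg.Agent.Solv.SystemNorm

set_option autoImplicit false
open Cfsg
open scoped commutatorElement Pointwise
set_option linter.style.haveILetI false
set_option linter.deprecated false

namespace Cfsg.Agent.S0568

/-- Let D be the system normalizer of a Hall complement system of a finite solvable group G, and let A < B be normal subgroups with no normal subgroup of G strictly between them (a chief factor). If G centralizes B modulo A then B ≤ A ⊔ D (D covers the factor); otherwise B ∩ D ≤ A (D avoids it). -/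
theorem result {G : Type*} [Group G] [Finite G] [Group.IsSolvable G] (K : Nat.Primes → Subgroup G) (hK : Cfsg.IsComplementSystem K) (A B : Subgroup G) [A.Normal] [B.Normal] (hAB : A < B) (hchief : ∀ N : Subgroup G, N.Normal → A ≤ N → N ≤ B → N = A ∨ N = B) : (⁅B, (⊤ : Subgroup G)⁆ ≤ A → B ≤ A ⊔ Cfsg.systemNormalizer K) ∧ (¬ ⁅B, (⊤ : Subgroup G)⁆ ≤ A → B ⊓ Cfsg.systemNormalizer K ≤ A) := by
    set f := QuotientGroup.mk' A with hf
    have hs := QuotientGroup.mk'_surjective A
    have hK' := CfsgLib.Solv.system_map hK A
    have hD := CfsgLib.Solv.systemNormalizer_map hK A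
    haveI : Group.IsSolvable (G ⧸ A) := Group.isSolvable_of_surjective hs
    constructor
    · intro hc x hx
      have h1 : f x ∈ Cfsg.systemNormalizer (fun p => (K p).map f) := by
        refine CfsgLib.Solv.mem_systemNormalizer.2 fun p => Subgroup.centralizer_le_normalizer (G := G ⧸ A) _ ?_
        rw [Subgroup.mem_centralizer_iff]
        intro y _
        obtain ⟨g, rfl⟩ := hs y
        have h2 : f ⁅x, g⁆ = 1 := (QuotientGroup.eq_one_iff _).2
          (hc (Subgroup.commutator_mem_commutator hx (Subgroup.mem_top g)))
        rw [map_commutatorElement, commutatorElement_eq_one_iff_mul_comm] at h2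
        exact h2.symm
      rw [hD] at h1
      have h3 : x ∈ ((Cfsg.systemNormalizer K).map f).comap f := h1
      rwa [Subgroup.comap_map_eq, QuotientGroup.ker_mk', sup_comm] at h3
    · intro hnc x hx
      obtain ⟨hxB, hxD⟩ := Subgroup.mem_inf.1 hx
      have hBmin : CfsgLib.Solv.IsMinimalNormal (B.map f) := by
        refine ⟨Subgroup.Normal.map inferInstance f hs, fun e => hAB.not_ge ?_, fun M hM hMB => ?_⟩
        · rwa [Subgroup.map_eq_bot_iff, QuotientGroup.ker_mk'] at e
        · have hker : f.ker ≤ B := by rw [QuotientGroup.ker_mk']; exact hAB.le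
          have hAM : A ≤ M.comap f := fun a ha => by
            show f a ∈ M
            rw [show f a = 1 from (QuotientGroup.eq_one_iff a).2 ha]
            exact one_mem M
          rcases hchief (M.comap f) (hM.comap f) hAM
            ((Subgroup.comap_mono hMB).trans (Subgroup.comap_map_eq_self hker).le) with h | h
          · left
            rw [← Subgroup.map_comap_eq_self_of_surjective hs M, h, Subgroup.map_eq_bot_iff]
            exact (QuotientGroup.ker_mk' A).ge
          · right
            rw [← Subgroup.map_comap_eq_self_of_surjective hs M, h]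
      have hnc' : ¬ B.map f ≤ Subgroup.center (G ⧸ A) := fun h => hnc (by
        rw [Subgroup.commutator_le]
        intro b hb g _
        rw [← QuotientGroup.eq_one_iff]
        show f ⁅b, g⁆ = 1
        rw [map_commutatorElement, commutatorElement_eq_one_iff_mul_comm]
        exact (Subgroup.mem_center_iff.1 (h (Subgroup.mem_map_of_mem f hb)) (f g)).symm)
      have h1 := CfsgLib.Solv.inf_systemNormalizer_eq_bot hK' hBmin hnc'
      have h2 : f x ∈ B.map f ⊓ Cfsg.systemNormalizer (fun p => (K p).map f) :=
        Subgroup.mem_inf.2 ⟨Subgroup.mem_map_of_mem f hxB, hD ▸ Subgroup.mem_map_of_mem f hxD⟩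
      rw [h1, Subgroup.mem_bot] at h2
      exact (QuotientGroup.eq_one_iff x).1 h2

end Cfsg.Agent.S0568
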