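import Cfsg.Statements.S0573
import Cfsg.Agent.Solv.Products
import Cfsg.Agent.Solv.Basic

set_option autoImplicit false
open Cfsg
open scoped commutatorElement

namespace Cfsg.Agent.S0573

theorem centralizer_inf_normal {G : Type*} [Group G] (A B : Subgroup G) (hA : ∀ x ∈ A, ∀ y ∈ A, x * y = y * x)
    (hB : ∀ x ∈ B, ∀ y ∈ B, x * y = y * x) (hAB : ∀ g : G, ∃ a ∈ A, ∃ b ∈ B, g = a * b)
    (hZ : Subgroup.center G = ⊥) (hN : ∀ x ∈ commutator G, ∀ y ∈ commutator G, x * y = y * x) :
    (A ⊓ Subgroup.centralizer (commutator G : Set G)).Normal := by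
  constructor
  intro e he g
  obtain ⟨a, ha, b, hb, rfl⟩ := hAB g
  have hNn : (commutator G).Normal := inferInstance
  set t := b * e * b⁻¹ with ht
  have htN : t ∈ Subgroup.centralizer (commutator G : Set G) := by
    haveI : (Subgroup.centralizer (commutator G : Set G)).Normal := inferInstance
    exact (inferInstance : (Subgroup.centralizer (commutator G : Set G)).Normal).conj_mem e he.2 b
  have htA : ∀ a' ∈ A, a' * t = t * a' := by
    intro a' ha'
    have hc : ⁅a', b⁆ ∈ commutator G := Subgroup.commutator_mem_commutator (Subgroup.mem_top a') (Subgroup.mem_top b)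
    have h1 : a' * t * a'⁻¹ = ⁅a', b⁆ * (b * (a' * e * a'⁻¹) * b⁻¹) * ⁅a', b⁆⁻¹ := by
      rw [ht, commutatorElement_def]; group
    rw [hA a' ha' e he.1, mul_inv_cancel_right, ← ht, Subgroup.mem_centralizer_iff.1 htN _ hc, mul_inv_cancel_right] at h1
    exact mul_inv_eq_iff_eq_mul.1 h1
  have htmem : t ∈ A := by
    obtain ⟨a₁, ha₁, b₁, hb₁, h⟩ := hAB t
    have hb1 : b₁ = 1 := by
      rw [← Subgroup.mem_bot, ← hZ, Subgroup.mem_center_iff]
      intro x
      obtain ⟨a', ha', b', hb', rfl⟩ := hAB x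
      have h1 : a' * b₁ = b₁ * a' := by
        refine mul_left_cancel (a := a₁) ?_
        rw [← mul_assoc, ← mul_assoc, ← hA a' ha' a₁ ha₁, ← h, mul_assoc, ← h]
        exact htA a' ha'
      rw [mul_assoc, hB b' hb' b₁ hb₁, ← mul_assoc, h1, mul_assoc]
    rw [h, hb1, mul_one]; exact ha₁
  have hgoal : a * b * e * (a * b)⁻¹ = t := by
    rw [show a * b * e * (a * b)⁻¹ = a * t * a⁻¹ by rw [ht]; group, hA a ha t htmem, mul_inv_cancel_right]
  rw [hgoal]
  exact ⟨htmem, htN⟩

theorem exists_normal : ∀ (n : ℕ) (G : Type*) [Group G] [Finite G], Nat.card G ≤ n → Nontrivial G →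
    ∀ (A B : Subgroup G), (∀ x ∈ A, ∀ y ∈ A, x * y = y * x) → (∀ x ∈ B, ∀ y ∈ B, x * y = y * x) →
    (∀ g : G, ∃ a ∈ A, ∃ b ∈ B, g = a * b) → ∃ N : Subgroup G, N.Normal ∧ N ≠ ⊥ ∧ (N ≤ A ∨ N ≤ B) := by
  intro n
  induction n with
  | zero => intro G _ _ h; exact absurd h (Nat.not_le.2 Nat.card_pos)
  | succ n ih =>
    intro G _ _ hn _ A B hA hB hAB
    classical
    by_cases hZ : Subgroup.center G = ⊥
    swap
    · obtain ⟨z, hz, hz1⟩ := (Subgroup.bot_or_exists_ne_one _).resolve_left hZ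
      obtain ⟨a, ha, b, hb, rfl⟩ := hAB z
      have hbZ : b ∈ Subgroup.center G := by
        rw [Subgroup.mem_center_iff]
        intro x
        obtain ⟨a', ha', b', hb', rfl⟩ := hAB x
        have h1 : a' * b = b * a' := by
          refine mul_left_cancel (a := a) ?_
          rw [← mul_assoc, ← mul_assoc, ← hA a' ha' a ha, mul_assoc]
          exact Subgroup.mem_center_iff.1 hz a'
        rw [mul_assoc, hB b' hb' b hb, ← mul_assoc, h1, mul_assoc]
      have key : ∀ (C : Subgroup G) (c : G), c ∈ C → c ∈ Subgroup.center G → c ≠ 1 →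
          ∃ N : Subgroup G, N.Normal ∧ N ≠ ⊥ ∧ N ≤ C := fun C c hcC hc hc1 =>
        ⟨Subgroup.zpowers c, ⟨fun y hy g => by
          rw [Subgroup.mem_center_iff.1 (Subgroup.zpowers_le.2 hc hy) g, mul_inv_cancel_right]; exact hy⟩,
          fun h => hc1 (Subgroup.zpowers_eq_bot.1 h), Subgroup.zpowers_le.2 hcC⟩
      by_cases hb1 : b = 1
      · subst hb1
        rw [mul_one] at hz hz1
        obtain ⟨N, h1, h2, h3⟩ := key A a ha hz hz1
        exact ⟨N, h1, h2, .inl h3⟩
      · obtain ⟨N, h1, h2, h3⟩ := key B b hb hbZ hb1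
        exact ⟨N, h1, h2, .inr h3⟩
    set N := commutator G with hNdef
    haveI : IsMulCommutative A := ⟨⟨fun x y => Subtype.ext (hA x x.2 y y.2)⟩⟩
    haveI : IsMulCommutative B := ⟨⟨fun x y => Subtype.ext (hB x x.2 y y.2)⟩⟩
    have hNab : ∀ x ∈ N, ∀ y ∈ N, x * y = y * x := by
      intro x hx y hy
      have h2 := CfsgLib.Solv.ito_metabelian A B hAB
      rw [derivedSeries_succ, derivedSeries_one] at h2
      have h3 : ⁅x, y⁆ ∈ ⁅N, N⁆ := Subgroup.commutator_mem_commutator hx hy
      rw [hNdef, h2, Subgroup.mem_bot] at h3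
      exact commutatorElement_eq_one_iff_mul_comm.1 h3
    have hBA : ∀ g : G, ∃ b ∈ B, ∃ a ∈ A, g = b * a := fun g => by
      obtain ⟨a, ha, b, hb, he⟩ := hAB g⁻¹
      exact ⟨b⁻¹, inv_mem hb, a⁻¹, inv_mem ha, by rw [← mul_inv_rev, ← he, inv_inv]⟩
    by_cases hEA : A ⊓ Subgroup.centralizer (N : Set G) = ⊥
    swap
    · exact ⟨_, centralizer_inf_normal A B hA hB hAB hZ hNab, hEA, .inl inf_le_left⟩
    by_cases hEB : B ⊓ Subgroup.centralizer (N : Set G) = ⊥
    swap
    · exact ⟨_, centralizer_inf_normal B A hB hA hBA hZ hNab, hEB, .inr inf_le_left⟩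
    exfalso
    have hN1 : N ≠ ⊥ := by
      intro h
      have hab : ∀ x y : G, x * y = y * x := fun x y => commutatorElement_eq_one_iff_mul_comm.1 (by
        rw [← Subgroup.mem_bot, ← h]; exact Subgroup.commutator_mem_commutator (Subgroup.mem_top x) (Subgroup.mem_top y))
      obtain ⟨x, hx⟩ := exists_ne (1 : G)
      exact hx (by rw [← Subgroup.mem_bot, ← hZ, Subgroup.mem_center_iff]; exact fun g => hab g x)
    haveI : N.Normal := inferInstance
    set H := (A ⊔ N) ⊓ (B ⊔ N) with hH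
    have hNH : N ≤ H := le_inf le_sup_right le_sup_right
    by_cases hHt : H = ⊤
    swap
    · have hlt : Nat.card H ≤ n := by
        have := CfsgLib.Solv.card_lt_of_ne_top hHt
        omega
      haveI : Nontrivial H := (Subgroup.nontrivial_iff_ne_bot H).2 fun h => hN1 (le_bot_iff.1 (h ▸ hNH))
      have hdec : ∀ g : ↥H, ∃ a ∈ A.subgroupOf H, ∃ b ∈ B.subgroupOf H, g = a * b := by
        rintro ⟨g, hg⟩
        obtain ⟨a, ha, b, hb, rfl⟩ := hAB g
        have hbH : b ∈ H := ⟨by simpa using mul_mem (Subgroup.mem_sup_left (T := N) (inv_mem ha)) hg.1, Subgroup.mem_sup_left hb⟩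
        have haH : a ∈ H := by simpa using mul_mem hg (inv_mem hbH)
        exact ⟨⟨a, haH⟩, ha, ⟨b, hbH⟩, hb, rfl⟩
      obtain ⟨L, hL, hL1, hLAB⟩ := ih ↥H hlt inferInstance (A.subgroupOf H) (B.subgroupOf H)
        (fun x hx y hy => Subtype.ext (hA x hx y hy)) (fun x hx y hy => Subtype.ext (hB x hx y hy)) hdec
      have key : ∀ C : Subgroup G, (∀ x ∈ C, ∀ y ∈ C, x * y = y * x) → L ≤ C.subgroupOf H → C ⊓ Subgroup.centralizer (N : Set G) = ⊥ → False := by
        intro C _ hLC hC
        have hdisj : Disjoint L (N.subgroupOf H) := disjoint_iff.2 ((Subgroup.eq_bot_iff_forall _).2 fun x hx => by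
          have hm : (x : G) ∈ C ⊓ Subgroup.centralizer (N : Set G) :=
            ⟨hLC hx.1, Subgroup.mem_centralizer_iff.2 fun y hy => hNab y hy x hx.2⟩
          rw [hC, Subgroup.mem_bot] at hm
          exact Subtype.ext hm)
        refine hL1 ((Subgroup.eq_bot_iff_forall _).2 fun x hx => ?_)
        have hm : (x : G) ∈ C ⊓ Subgroup.centralizer (N : Set G) := ⟨hLC hx, Subgroup.mem_centralizer_iff.2 fun y hy => by
          have h := (Subgroup.commute_of_normal_of_disjoint L (N.subgroupOf H) hL inferInstance hdisj x ⟨y, hNH hy⟩ hx hy).eq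
          exact (congrArg Subtype.val h).symm⟩
        rw [hC, Subgroup.mem_bot] at hm
        exact Subtype.ext hm
      rcases hLAB with h | h
      · exact key A hA h hEA
      · exact key B hB h hEB
    have hAN : A ⊔ N = ⊤ := eq_top_iff.2 (hHt.symm.le.trans inf_le_left)
    have hBN : B ⊔ N = ⊤ := eq_top_iff.2 (hHt.symm.le.trans inf_le_right)
    -- a maximal normal subgroup of `G` properly inside `N`
    obtain ⟨N', -, hN'⟩ := Finite.exists_le_maximal (p := fun K : Subgroup G => K.Normal ∧ K < N) (a := ⊥)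
      ⟨inferInstance, bot_lt_iff_ne_bot.2 hN1⟩
    obtain ⟨hN'n, hN'lt⟩ := hN'.1
    haveI := hN'n
    have hnc : ¬ ⁅N, (⊤ : Subgroup G)⁆ ≤ N' := by
      intro hle
      refine hN'lt.not_ge ?_
      rw [hNdef, ← Subgroup.Normal.quotient_commutative_iff_commutator_le]
      refine ⟨⟨fun u v => ?_⟩⟩
      obtain ⟨u, rfl⟩ := QuotientGroup.mk'_surjective N' u
      obtain ⟨v, rfl⟩ := QuotientGroup.mk'_surjective N' v
      obtain ⟨a, ha, m, hm, rfl⟩ := Subgroup.mem_sup_of_normal_right.1 (hAN.symm ▸ Subgroup.mem_top u : u ∈ A ⊔ N)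
      obtain ⟨a', ha', m', hm', rfl⟩ := Subgroup.mem_sup_of_normal_right.1 (hAN.symm ▸ Subgroup.mem_top v : v ∈ A ⊔ N)
      have hcen : ∀ m ∈ N, ∀ g : G, Commute (QuotientGroup.mk' N' m) (QuotientGroup.mk' N' g) := fun m hm g => by
        rw [← commutatorElement_eq_one_iff_commute, ← map_commutatorElement]
        exact (QuotientGroup.eq_one_iff _).2 (hle (Subgroup.commutator_mem_commutator hm (Subgroup.mem_top g)))
      rw [map_mul, map_mul]
      have h1 : Commute (QuotientGroup.mk' N' a) (QuotientGroup.mk' N' a') := (show Commute a a' from hA a ha a' ha').map _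
      exact ((h1.mul_right (hcen m' hm' a).symm).mul_left ((hcen m hm a').mul_right (hcen m hm m'))).eq
    obtain ⟨y, hyA, hy⟩ : ∃ y ∈ A, ∃ m ∈ N, ⁅y, m⁆ ∉ N' := by
      by_contra hno
      push Not at hno
      refine hnc ((Subgroup.commutator_le).2 fun m hm g _ => ?_)
      obtain ⟨a, ha, m', hm', rfl⟩ := Subgroup.mem_sup_of_normal_right.1 (hAN.symm ▸ Subgroup.mem_top g : g ∈ A ⊔ N)
      have e : ⁅m, a * m'⁆ = ⁅a, m⁆⁻¹ * (a * ⁅m, m'⁆ * a⁻¹) := by simp only [commutatorElement_def]; group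
      rw [e, commutatorElement_eq_one_iff_mul_comm.2 (hNab m hm m' hm'), mul_one, mul_inv_cancel, mul_one]
      exact inv_mem (hno a ha m hm)
    set π := QuotientGroup.mk' N' with hπ
    have hπ1 : ∀ x : G, π x = 1 ↔ x ∈ N' := fun x => QuotientGroup.eq_one_iff x
    -- the fixed points of `y` on `N / N'` form a normal subgroup, hence are trivial
    have hfix : ∀ m ∈ N, Commute (π y) (π m) → m ∈ N' := by
      let K : Subgroup G := N ⊓ (Subgroup.centralizer ({π y} : Set (G ⧸ N'))).comap π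
      have hN'K : N' ≤ K := fun x hx => ⟨hN'lt.le hx, by
        show π x ∈ Subgroup.centralizer ({π y} : Set (G ⧸ N')); rw [(hπ1 x).2 hx]; exact one_mem _⟩
      have hKn : K.Normal := by
        refine ⟨fun m hm g => ?_⟩
        obtain ⟨a, ha, m', hm', rfl⟩ := Subgroup.mem_sup_of_normal_right.1 (hAN.symm ▸ Subgroup.mem_top g : g ∈ A ⊔ N)
        have e : a * m' * m * (a * m')⁻¹ = a * m * a⁻¹ := by
          calc a * m' * m * (a * m')⁻¹ = a * (m' * m) * m'⁻¹ * a⁻¹ := by group
            _ = _ := by rw [hNab m' hm' m hm.1]; group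
        rw [e]
        refine ⟨(inferInstance : N.Normal).conj_mem m hm.1 a, ?_⟩
        have h1 : Commute (π y) (π m) := (Subgroup.mem_centralizer_singleton_iff.1 hm.2).symm
        have h2 : Commute (π y) (π a) := (show Commute y a from hA y hyA a ha).map _
        show π (a * m * a⁻¹) ∈ Subgroup.centralizer ({π y} : Set (G ⧸ N'))
        rw [Subgroup.mem_centralizer_singleton_iff, map_mul, map_mul, map_inv]
        exact ((h2.mul_right h1).mul_right h2.inv_right).eq.symm
      have hKlt : K < N := lt_of_le_of_ne inf_le_left fun e => by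
        obtain ⟨m, hm, hym⟩ := hy
        have hmK : m ∈ K := e.symm ▸ hm
        exact hym ((hπ1 _).1 (by rw [map_commutatorElement, commutatorElement_eq_one_iff_mul_comm]; exact (Subgroup.mem_centralizer_singleton_iff.1 hmK.2).symm))
      intro m hm hmc
      exact hN'.2 ⟨hKn, hKlt⟩ hN'K ⟨hm, Subgroup.mem_centralizer_singleton_iff.2 hmc.eq.symm⟩
    -- `[y, ·]` is surjective on `N / N'`
    have hsurj : ∀ v ∈ N, ∃ w ∈ N, π ⁅w, y⁆ = π v := by
      let V := N.map π
      let θ : V → V := fun u => ⟨⁅(u : G ⧸ N'), π y⁆, by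
        obtain ⟨m, hm, hmu⟩ := u.2
        exact ⟨⁅m, y⁆, Subgroup.commutator_le_left N ⊤ (Subgroup.commutator_mem_commutator hm (Subgroup.mem_top y)), by rw [map_commutatorElement, hmu]⟩⟩
      have hθ : Function.Injective θ := by
        intro u u' h
        obtain ⟨m, hm, hmu⟩ := u.2
        obtain ⟨m', hm', hmu'⟩ := u'.2
        have h1 : ⁅π m, π y⁆ = ⁅π m', π y⁆ := by rw [hmu, hmu']; exact congrArg Subtype.val h
        have h2 : Commute (π y) (π (m'⁻¹ * m)) := by
          rw [map_mul, map_inv]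
          rw [commutatorElement_def, commutatorElement_def, mul_left_inj] at h1
          calc π y * ((π m')⁻¹ * π m) = (π m')⁻¹ * (π m' * π y * (π m')⁻¹) * π m := by group
            _ = (π m')⁻¹ * (π m * π y * (π m)⁻¹) * π m := by rw [h1]
            _ = _ := by group
        have h3 := (hπ1 _).2 (hfix _ (mul_mem (inv_mem hm') hm) h2)
        rw [map_mul, map_inv, inv_mul_eq_one] at h3
        exact Subtype.ext (hmu.symm.trans (h3.symm.trans hmu'))
      intro v hv
      obtain ⟨⟨_, w, hw, rfl⟩, hwv⟩ := (Finite.injective_iff_surjective.1 hθ) ⟨π v, v, hv, rfl⟩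
      exact ⟨w, hw, (map_commutatorElement π w y).trans (congrArg Subtype.val hwv)⟩
    obtain ⟨b₀, hb₀, m₀, hm₀, hym₀⟩ := Subgroup.mem_sup_of_normal_right.1 (hBN.symm ▸ Subgroup.mem_top y : y ∈ B ⊔ N)
    obtain ⟨w, hw, hwv⟩ := hsurj (y * m₀⁻¹ * y⁻¹) ((inferInstance : N.Normal).conj_mem _ (inv_mem hm₀) y)
    have hb : π b₀ = π w * π y * (π w)⁻¹ := by
      have e : b₀ = (y * m₀⁻¹ * y⁻¹) * y := by rw [← hym₀]; group
      rw [e, map_mul, ← hwv, map_commutatorElement, commutatorElement_def]; group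
    set M := A ⊔ N' with hM
    have hCM : ∀ g : G, Commute (π g) (π y) → g ∈ M := by
      intro g hg
      obtain ⟨a, ha, m, hm, rfl⟩ := Subgroup.mem_sup_of_normal_right.1 (hAN.symm ▸ Subgroup.mem_top g : g ∈ A ⊔ N)
      have h2 : Commute (π a) (π y) := (show Commute a y from hA a ha y hyA).map _
      have h3 : Commute (π m) (π y) := by
        have := h2.inv_left.mul_left hg
        rwa [map_mul, inv_mul_cancel_left] at this
      exact mul_mem (Subgroup.mem_sup_left ha) (Subgroup.mem_sup_right (hfix m hm h3.symm))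
    have hBM : ∀ b ∈ B, w⁻¹ * b * w ∈ M := fun b hbB => hCM _ (by
      have h1 : Commute (π b) (π b₀) := (show Commute b b₀ from hB b hbB b₀ hb₀).map _
      rw [hb] at h1
      rw [map_mul, map_mul, map_inv]
      show (π w)⁻¹ * π b * π w * π y = π y * ((π w)⁻¹ * π b * π w)
      calc (π w)⁻¹ * π b * π w * π y = (π w)⁻¹ * (π b * (π w * π y * (π w)⁻¹)) * π w := by group
        _ = (π w)⁻¹ * ((π w * π y * (π w)⁻¹) * π b) * π w := by rw [h1.eq]
        _ = _ := by group)
    obtain ⟨a, ha, b, hbB, hwab⟩ := hAB w⁻¹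
    have h1 := hBM b hbB
    rw [show b = a⁻¹ * w⁻¹ by rw [hwab, inv_mul_cancel_left]] at h1
    have h2 : a⁻¹ * w⁻¹ * w = a⁻¹ := inv_mul_cancel_right _ _
    rw [show w⁻¹ * (a⁻¹ * w⁻¹) * w = w⁻¹ * a⁻¹ by rw [mul_assoc, h2]] at h1
    have hwM : w ∈ M := by
      have h3 := inv_mem (mul_mem h1 (Subgroup.mem_sup_left ha : a ∈ M))
      simpa using h3
    have hMtop : M = ⊤ := by
      rw [Subgroup.eq_top_iff']
      intro g
      obtain ⟨a', ha', b', hb', rfl⟩ := hAB g
      have h3 := mul_mem (mul_mem hwM (hBM b' hb')) (inv_mem hwM)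
      exact mul_mem (Subgroup.mem_sup_left ha') (by simpa [mul_assoc] using h3)
    refine hN'lt.not_ge fun m hm => ?_
    obtain ⟨a', ha', m', hm', hmm⟩ := Subgroup.mem_sup_of_normal_right.1 (show m ∈ A ⊔ N' by rw [← hM, hMtop]; exact Subgroup.mem_top m)
    have haN : a' ∈ N := by
      have : a' = m * m'⁻¹ := by rw [← hmm, mul_inv_cancel_right]
      rw [this]; exact mul_mem hm (inv_mem (hN'lt.le hm'))
    have ha1 : a' ∈ A ⊓ Subgroup.centralizer (N : Set G) := ⟨ha', Subgroup.mem_centralizer_iff.2 fun x hx => hNab x hx a' haN⟩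
    rw [hEA, Subgroup.mem_bot] at ha1
    rw [← hmm, ha1, one_mul]; exact hm'


/-- If a nontrivial finite group G is the product AB of abelian subgroups A and B, then some nontrivial normal subgroup of G is contained in A or in B. -/
theorem result {G : Type*} [Group G] [Finite G] [Nontrivial G] (A B : Subgroup G) [IsMulCommutative A] [IsMulCommutative B] (hAB : ∀ g : G, ∃ a ∈ A, ∃ b ∈ B, g = a * b) : ∃ N : Subgroup G, N.Normal ∧ N ≠ ⊥ ∧ (N ≤ A ∨ N ≤ B) := by
  exact exists_normal _ G le_rfl inferInstance A B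
    (fun x hx y hy => congrArg Subtype.val ((IsMulCommutative.is_comm (M := A)).comm ⟨x, hx⟩ ⟨y, hy⟩))
    (fun x hx y hy => congrArg Subtype.val ((IsMulCommutative.is_comm (M := B)).comm ⟨x, hx⟩ ⟨y, hy⟩)) hAB

end Cfsg.Agent.S0573
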