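-- Statement S0578
import Cfsg.Statements.S0578
import Cfsg.Agent.Solv.TransferTools
import Cfsg.Agent.Perm.MinClass

set_option autoImplicit false
open Cfsg
open scoped commutatorElement Pointwise
set_option linter.style.haveILetI false
set_option linter.deprecated false

namespace Cfsg.Agent.S0578

/-- If in a finite group the normalizer of each abelian subgroup coincides with its centralizer, then the group is abelian. -/
theorem result {G : Type*} [Group G] [Finite G] (h : ∀ A : Subgroup G, IsMulCommutative A → Subgroup.normalizer (A : Set G) = Subgroup.centralizer (A : Set G)) : IsMulCommutative G := by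
  have hab : ∀ (p : ℕ) [Fact p.Prime] (P : Sylow p G), IsMulCommutative (P : Subgroup G) := by
    intro p hp P
    obtain ⟨A, hAn, hAc, hAC⟩ := CfsgLib.Perm.exists_self_centralizing_normal_abelian (G := (P : Subgroup G)) P.2
    suffices hA : A = ⊤ by
      refine ⟨⟨fun a b => ?_⟩⟩
      exact Subtype.ext_iff.1 (hAc.is_comm.comm (⟨a, hA.ge (Subgroup.mem_top a)⟩ : A) ⟨b, hA.ge (Subgroup.mem_top b)⟩)
    refine top_unique fun x _ => hAC.le (Subgroup.mem_centralizer_iff.2 fun a ha => Subtype.ext ?_)
    have hB : IsMulCommutative (A.map (P : Subgroup G).subtype) := ⟨⟨fun u v => by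
      obtain ⟨u', hu, eu⟩ := u.2
      obtain ⟨v', hv, ev⟩ := v.2
      apply Subtype.ext
      rw [Subgroup.coe_mul, Subgroup.coe_mul, ← eu, ← ev, ← map_mul, ← map_mul]
      exact congrArg _ (Subtype.ext_iff.1 (hAc.is_comm.comm (⟨u', hu⟩ : A) ⟨v', hv⟩))⟩⟩
    have hN : (x : G) ∈ Subgroup.normalizer ((A.map (P : Subgroup G).subtype : Subgroup G) : Set G) := by
      haveI := hAn
      have := Subgroup.le_normalizer_map (H := A) (P : Subgroup G).subtype
      rw [Subgroup.normalizer_eq_top, ← MonoidHom.range_eq_map, Subgroup.range_subtype] at this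
      exact this x.2
    rw [h _ hB] at hN
    exact Subgroup.mem_centralizer_iff.1 hN _ (Subgroup.mem_map_of_mem _ ha)
  have hsub : ∀ p : ℕ, p.Prime → ¬ p ∣ Nat.card (commutator G) := by
    intro p hp hd
    haveI : Fact p.Prime := ⟨hp⟩
    let P : Sylow p G := default
    have hc := CfsgLib.Solv.hnpc_of_normalizer_le_centralizer P (h _ (hab p P)).le
    haveI := CfsgLib.Inv.pResidual_normal p G
    have hle : commutator G ≤ Cfsg.pResidual p G := by
      rw [← Subgroup.Normal.quotient_commutative_iff_commutator_le]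
      obtain ⟨e⟩ : Nonempty (G ⧸ Cfsg.pResidual p G ≃* (P : Subgroup G)) :=
        ⟨(CfsgLib.Solv.isComplement'_pResidual hc P).symm.QuotientMulEquiv⟩
      exact ⟨⟨fun a b => e.injective (by rw [map_mul, map_mul]; exact (hab p P).is_comm.comm _ _)⟩⟩
    exact CfsgLib.Solv.hnpc_iff.1 hc (hd.trans (Subgroup.card_dvd_of_le hle))
  have hbot : commutator G = ⊥ := Subgroup.eq_bot_of_card_eq _ (by
    by_contra hne
    obtain ⟨q, hq, hd⟩ := Nat.exists_prime_and_dvd hne
    exact hsub q hq hd)
  refine ⟨⟨fun a b => ?_⟩⟩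
  have := Subgroup.commutator_mem_commutator (Subgroup.mem_top a) (Subgroup.mem_top b)
  rw [← commutator_def, hbot, Subgroup.mem_bot, commutatorElement_eq_one_iff_mul_comm] at this
  exact this

end Cfsg.Agent.S0578
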