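-- Statement S0587
import Cfsg.Statements.S0587
import Cfsg.Agent.Solv.CoreFree
import Cfsg.Agent.Solv.PComplement
import Cfsg.Agent.Solv.FittingBasic
import Cfsg.Agent.Perm.MinClass

set_option autoImplicit false
open Cfsg
open scoped commutatorElement Pointwise
set_option linter.style.haveILetI false
set_option linter.deprecated false

namespace Cfsg.Agent.S0587

/-- Let G be a finite group whose largest normal p-subgroup L is nontrivial, and M a maximal subgroup of G with trivial normal core. Then L is elementary abelian, M is a complement to L, L is a minimal normal subgroup of G, the centralizer of L is L, and for every prime q such that the largest normal q-subgroup of M is nontrivial, the order of L is congruent to 1 modulo q and q ≠ p. -/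
theorem result {G : Type*} [Group G] [Finite G] (p : ℕ) [Fact p.Prime] (hL : Cfsg.pCore p G ≠ ⊥) (M : Subgroup G) (hM : IsCoatom M) (hcore : M.normalCore = ⊥) : Cfsg.IsElementaryAbelian p (Cfsg.pCore p G) ∧ Subgroup.IsComplement' (Cfsg.pCore p G) M ∧ (∀ K : Subgroup G, K.Normal → K ≤ Cfsg.pCore p G → K = ⊥ ∨ K = Cfsg.pCore p G) ∧ Subgroup.centralizer ((Cfsg.pCore p G : Subgroup G) : Set G) = Cfsg.pCore p G ∧ ∀ (q : ℕ) [Fact q.Prime], Cfsg.pCore q ↥M ≠ ⊥ → Nat.card (Cfsg.pCore p G) % q = 1 % q ∧ q ≠ p := by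
  haveI hLn : (Cfsg.pCore p G).Normal := CfsgLib.Solv.pCore_normal G p
  have hLp := CfsgLib.Solv.pCore_isPGroup G p
  obtain ⟨K, hK, hKL⟩ := CfsgLib.Solv.exists_isMinimalNormal_le (Cfsg.pCore p G) hL
  haveI := hK.1
  have hLc : Cfsg.pCore p G ≤ Subgroup.centralizer (K : Set G) := by
    rw [← Subgroup.commutator_eq_bot_iff_le_centralizer]
    refine (hK.2.2 ⁅Cfsg.pCore p G, K⁆ inferInstance (Subgroup.commutator_le_right _ _)).resolve_right fun e => ?_
    haveI : Group.IsNilpotent (Cfsg.pCore p G) := hLp.isNilpotent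
    refine hK.2.1 ?_
    rw [← Subgroup.map_subgroupOf_eq_of_le hKL]
    refine (Subgroup.map_eq_bot_iff_of_injective _ (Subgroup.subtype_injective _)).2
      (CfsgLib.Solv.isNilpotent_bot_of_eq_commutator fun x hx => ?_)
    have hx' : ((x : G)) ∈ ⁅K, Cfsg.pCore p G⁆ := by
      rw [Subgroup.commutator_comm, e]; exact hx
    have hm : ⁅K, Cfsg.pCore p G⁆ ≤ (⁅K.subgroupOf (Cfsg.pCore p G), (⊤ : Subgroup (Cfsg.pCore p G))⁆).map (Cfsg.pCore p G).subtype := by
      rw [Subgroup.map_commutator, Subgroup.map_subgroupOf_eq_of_le hKL, ← MonoidHom.range_eq_map, Subgroup.range_subtype]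
    obtain ⟨y, hy, e'⟩ := hm hx'
    exact (Subtype.ext e' : y = x) ▸ hy
  have hCK : Subgroup.centralizer (K : Set G) = Cfsg.pCore p G :=
    (CfsgLib.Solv.eq_centralizer_of_le hM hcore hK.2.1 hL hLc).symm
  have hKab : IsMulCommutative K := ⟨⟨fun a b => Subtype.ext
    (Subgroup.mem_centralizer_iff.1 (hLc (hKL b.2)) a a.2)⟩⟩
  have hKeq : K = Cfsg.pCore p G := hCK ▸ (CfsgLib.Solv.coreFree_abelian hM hcore hK.2.1 hKab).2.symm
  subst hKeq
  obtain ⟨hcompl, hCC⟩ := CfsgLib.Solv.coreFree_abelian hM hcore hK.2.1 hKab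
  have hel : Cfsg.IsElementaryAbelian p (Cfsg.pCore p G) := by
    haveI := hLp.isNilpotent
    obtain ⟨q, hq, hexp, hqg⟩ := CfsgLib.Solv.exists_prime_exponent_of_minimal_solvable hK inferInstance
    have e : q = p := by
      by_contra hne
      haveI : Fact q.Prime := ⟨hq⟩
      exact hK.2.1 (by simpa using IsPGroup.disjoint_of_ne q p hne _ _ hqg hLp)
    exact ⟨hKab, fun a ha => e ▸ hexp a ha⟩
  refine ⟨hel, hcompl, hK.2.2, hCC, fun q hqf hq => ?_⟩
  set Q := (Cfsg.pCore q M).map M.subtype with hQ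
  have hQM : Q ≤ M := Subgroup.map_subtype_le _
  have hQne : Q ≠ ⊥ := fun e => hq ((Subgroup.map_eq_bot_iff_of_injective _ M.subtype_injective).1 e)
  have hQq : IsPGroup q Q := (CfsgLib.Solv.pCore_isPGroup M q).map _
  letI : MulAction Q (Cfsg.pCore p G) :=
    { smul := fun x v => ⟨(x : G) * v * (x : G)⁻¹, hLn.conj_mem v v.2 x⟩
      one_smul := fun v => Subtype.ext (by show (1 : G) * v * (1 : G)⁻¹ = v; group)
      mul_smul := fun x y v => Subtype.ext (by
        show ((x : G) * y) * v * ((x : G) * y)⁻¹ = x * (y * v * (y : G)⁻¹) * (x : G)⁻¹; group) }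
  let D : Subgroup G := Cfsg.pCore p G ⊓ Subgroup.centralizer (Q : Set G)
  have hMQ : M ≤ Subgroup.normalizer (Q : Set G) := by
    haveI := CfsgLib.Solv.pCore_normal M q
    have h2 := Subgroup.le_normalizer_map (H := Cfsg.pCore q M) M.subtype
    rw [Subgroup.normalizer_eq_top, ← MonoidHom.range_eq_map, Subgroup.range_subtype] at h2
    exact h2
  have hDn : D.Normal := Subgroup.normalizer_eq_top_iff.1 (top_unique fun g _ => by
    obtain ⟨⟨⟨l, hl⟩, ⟨m, hm⟩⟩, e, -⟩ := hcompl.existsUnique g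
    rw [← e]
    refine mul_mem (Subgroup.centralizer_le_normalizer _ (Subgroup.mem_centralizer_iff.2 fun y hy =>
      Subtype.ext_iff.1 (hKab.is_comm.comm ⟨y, (Subgroup.mem_inf.1 hy).1⟩ ⟨l, hl⟩))) ?_
    refine Subgroup.mem_normalizer_iff.2 fun y => ?_
    have key : ∀ u ∈ Subgroup.normalizer (Q : Set G), ∀ y ∈ D, u * y * u⁻¹ ∈ D := fun u hu y hy => by
      obtain ⟨h1, h2⟩ := Subgroup.mem_inf.1 hy
      refine Subgroup.mem_inf.2 ⟨hLn.conj_mem y h1 u, Subgroup.mem_centralizer_iff.2 fun z hz => ?_⟩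
      have hz' : u⁻¹ * z * u ∈ Q := by
        have := (Subgroup.mem_normalizer_iff.1 (inv_mem hu) z).1 hz
        rwa [inv_inv] at this
      have h3 := congrArg (fun w => u * w * u⁻¹) (Subgroup.mem_centralizer_iff.1 h2 _ hz')
      simpa [mul_assoc] using h3
    refine ⟨key m (hMQ hm) y, fun hy => ?_⟩
    have := key m⁻¹ (inv_mem (hMQ hm)) _ hy
    simpa [mul_assoc] using this)
  have hD : D = ⊥ := (hK.2.2 D hDn inf_le_left).resolve_right fun e => hQne (by
    rw [← le_bot_iff]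
    intro x hx
    have hxC : x ∈ Subgroup.centralizer (Cfsg.pCore p G : Set G) := Subgroup.mem_centralizer_iff.2 fun y hy =>
      (Subgroup.mem_centralizer_iff.1 (e.ge hy : y ∈ D).2 x hx).symm
    rw [hCC] at hxC
    exact hcompl.disjoint.le_bot (Subgroup.mem_inf.2 ⟨hxC, hQM hx⟩))
  have hcount := hQq.card_modEq_card_fixedPoints (α := Cfsg.pCore p G)
  have hfix : Nat.card (MulAction.fixedPoints Q (Cfsg.pCore p G)) = 1 := by
    rw [Nat.card_eq_one_iff_unique]
    refine ⟨⟨fun a b => ?_⟩, ⟨⟨1, fun x => Subtype.ext (by show (x : G) * 1 * (x : G)⁻¹ = 1; group)⟩⟩⟩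
    have key : ∀ a : MulAction.fixedPoints Q (Cfsg.pCore p G), ((a : Cfsg.pCore p G) : G) = 1 := by
      rintro ⟨v, hv⟩
      refine Subgroup.mem_bot.1 (hD.le (Subgroup.mem_inf.2 ⟨v.2, Subgroup.mem_centralizer_iff.2 fun z hz => ?_⟩))
      have := Subtype.ext_iff.1 (hv ⟨z, hz⟩)
      exact (mul_inv_eq_iff_eq_mul.1 this)
    exact Subtype.ext (Subtype.ext ((key a).trans (key b).symm))
  rw [hfix] at hcount
  refine ⟨hcount, fun e => ?_⟩
  subst e
  obtain ⟨k, hk⟩ := IsPGroup.iff_card.1 hLp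
  have hk0 : k ≠ 0 := fun e => hL (Subgroup.eq_bot_of_card_eq _ (by rw [hk, e, pow_zero]))
  rw [hk] at hcount
  have h2 : q ∣ q ^ k := dvd_pow_self q hk0
  have := (Nat.modEq_zero_iff_dvd.2 h2).symm.trans hcount
  exact absurd (Nat.modEq_zero_iff_dvd.1 this.symm) (Nat.not_dvd_of_pos_of_lt one_pos hqf.out.one_lt)

end Cfsg.Agent.S0587
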