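-- Statement S0588
import Cfsg.Statements.S0588
import Cfsg.Agent.Solv.Basic

set_option autoImplicit false
open Cfsg
open scoped commutatorElement Pointwise
set_option linter.style.haveILetI false
set_option linter.deprecated false

namespace Cfsg.Agent.S0588

/-- If a subgroup H of a finite group G contains the centralizer of every non-identity element of H, then the order of H is coprime to its index. -/
theorem result {G : Type*} [Group G] [Finite G] (H : Subgroup G) (h : ∀ x ∈ H, x ≠ 1 → Subgroup.centralizer ({x} : Set G) ≤ H) : (Nat.card H).Coprime H.index := by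
  refine Nat.coprime_of_dvd' fun p hp hd1 hd2 => ?_
  exfalso
  haveI : Fact p.Prime := ⟨hp⟩
  let P0 : Sylow p H := default
  have hP0p : IsPGroup p ((P0 : Subgroup H).map H.subtype) := P0.2.map H.subtype
  obtain ⟨P, hP⟩ := hP0p.exists_le_sylow
  have hne : (P0 : Subgroup H) ≠ ⊥ := P0.ne_bot_of_dvd_card hd1
  obtain ⟨x, hx1⟩ := Subgroup.ne_bot_iff_exists_ne_one.1 hne
  have hxP : ((x : H) : G) ∈ P := hP (Subgroup.mem_map_of_mem _ x.2)
  have hPne : (P : Subgroup G) ≠ ⊥ := fun e => hx1 (Subtype.ext (Subtype.ext (Subgroup.mem_bot.1 (e ▸ hxP))))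
  haveI : Nontrivial (P : Subgroup G) := (Subgroup.nontrivial_iff_ne_bot _).2 hPne
  haveI := P.2.isNilpotent
  obtain ⟨z, hz⟩ := Subgroup.ne_bot_iff_exists_ne_one.1 (Group.IsNilpotent.center_ne_bot (G := (P : Subgroup G)))
  have hzH : ((z : (P : Subgroup G)) : G) ∈ H := h (x : H) (x : H).2
    (fun e => hx1 (Subtype.ext (Subtype.ext e)))
    (Subgroup.mem_centralizer_singleton_iff.2 (Subtype.ext_iff.1 (Subgroup.mem_center_iff.1 z.2 ⟨_, hxP⟩)).symm)
  have hPH : (P : Subgroup G) ≤ H := fun y hy => h _ hzH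
    (fun e => hz (Subtype.ext (Subtype.ext e)))
    (Subgroup.mem_centralizer_singleton_iff.2 (Subtype.ext_iff.1 (Subgroup.mem_center_iff.1 z.2 ⟨y, hy⟩)))
  exact P.not_dvd_index (hd2.trans (Subgroup.index_dvd_of_le hPH))

end Cfsg.Agent.S0588
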