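-- Statement S0590
import Cfsg.Statements.S0590
import Cfsg.Agent.Solv.Basic

set_option autoImplicit false
open Cfsg
open scoped commutatorElement Pointwise
set_option linter.style.haveILetI false
set_option linter.deprecated false

namespace Cfsg.Agent.S0590

/-- Quadratic action on an elementary abelian p-group forces the acting group modulo the kernel of the action to be elementary abelian. -/
theorem result {G : Type*} [Group G] [Finite G] {p : ℕ} [Fact p.Prime] (V H : Subgroup G) (hV : Cfsg.IsElementaryAbelian p V) (hHV : H ≤ Subgroup.normalizer (V : Set G)) (hq : ⁅⁅V, H⁆, H⁆ = ⊥) : ⁅H, H⁆ ≤ Subgroup.centralizer (V : Set G) ∧ ∀ a ∈ H, a ^ p ∈ Subgroup.centralizer (V : Set G) := by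
  obtain ⟨hab, hexp⟩ := hV
  have hVH : ⁅V, H⁆ ≤ V := by rw [← Subgroup.le_normalizer_iff_commutator_le_left]; exact hHV
  have hfix : ∀ w ∈ ⁅V, H⁆, ∀ b ∈ H, b * w * b⁻¹ = w := by
    intro w hw b hb
    have := Subgroup.commutator_mem_commutator hw hb
    rw [hq, Subgroup.mem_bot, commutatorElement_eq_one_iff_mul_comm] at this
    rw [← this, mul_inv_cancel_right]
  have hw : ∀ a ∈ H, ∀ v ∈ V, a * v * a⁻¹ * v⁻¹ ∈ ⁅V, H⁆ := by
    intro a ha v hv
    rw [Subgroup.commutator_comm]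
    simpa [commutatorElement_def] using Subgroup.commutator_mem_commutator (H₁ := H) ha hv
  have hVc : ∀ x ∈ V, ∀ y ∈ V, x * y = y * x := fun x hx y hy => Subtype.ext_iff.1 (hab.is_comm.comm ⟨x, hx⟩ ⟨y, hy⟩)
  have hprod : ∀ a ∈ H, ∀ b ∈ H, ∀ v ∈ V, (a * b) * v * (a * b)⁻¹ = (b * v * b⁻¹ * v⁻¹) * ((a * v * a⁻¹ * v⁻¹) * v) := by
    intro a ha b hb v hv
    have h1 := hfix _ (hw b hb v hv) a ha
    calc a * b * v * (a * b)⁻¹ = (a * (b * v * b⁻¹ * v⁻¹) * a⁻¹) * (a * v * a⁻¹ * v⁻¹ * v) := by group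
      _ = _ := by rw [h1]
  refine ⟨Subgroup.commutator_le.2 fun a ha b hb => Subgroup.mem_centralizer_iff.2 fun v hv => ?_, fun a ha => Subgroup.mem_centralizer_iff.2 fun v hv => ?_⟩
  · rw [commutatorElement_def]
    -- both products act alike on `V`
    have h4 : ∀ v ∈ V, a * b * v * (a * b)⁻¹ = b * a * v * (b * a)⁻¹ := by
      intro v hv
      generalize hwa : a * v * a⁻¹ * v⁻¹ = wa
      generalize hwb : b * v * b⁻¹ * v⁻¹ = wb
      rw [hprod a ha b hb v hv, hprod b hb a ha v hv, hwa, hwb, ← mul_assoc, ← mul_assoc,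
        hVc wb (hwb ▸ hVH (hw b hb v hv)) wa (hwa ▸ hVH (hw a ha v hv))]
    have hv' : (b * a)⁻¹ * v * (b * a) ∈ V := by
      have := (Subgroup.mem_normalizer_iff.1 (inv_mem (mul_mem (hHV hb) (hHV ha))) v).1 hv
      rwa [inv_inv] at this
    have h5 := h4 _ hv'
    have h6 : a * b * ((b * a)⁻¹ * v * (b * a)) * (a * b)⁻¹ = v := by rw [h5]; group
    calc v * (a * b * a⁻¹ * b⁻¹) = (a * b * ((b * a)⁻¹ * v * (b * a)) * (a * b)⁻¹) * (a * b * a⁻¹ * b⁻¹) := by rw [h6]
      _ = a * b * a⁻¹ * b⁻¹ * v := by group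
  · have key : ∀ n : ℕ, a ^ n * v * (a ^ n)⁻¹ = (a * v * a⁻¹ * v⁻¹) ^ n * v := by
      intro n
      induction n with
      | zero => simp
      | succ n ih =>
        rw [pow_succ', hprod a ha (a ^ n) (pow_mem ha n) v hv, ih, mul_inv_cancel_right, pow_succ]
        group
    have h2 := key p
    rw [hexp _ (hVH (hw a ha v hv)), one_mul, mul_inv_eq_iff_eq_mul] at h2
    exact h2.symm

end Cfsg.Agent.S0590
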