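-- Statement S0591
import Cfsg.Statements.S0591
import Cfsg.Agent.Solv.Basic

set_option autoImplicit false
open Cfsg
open scoped commutatorElement Pointwise
set_option linter.style.haveILetI false
set_option linter.deprecated false

namespace Cfsg.Agent.S0591

/-- For a quadratically acting element a on an elementary abelian p-group V, the fixed points C_V(a) have order at least the square root of the order of V. -/
theorem result {G : Type*} [Group G] [Finite G] {p : ℕ} [Fact p.Prime] (V : Subgroup G) (hV : Cfsg.IsElementaryAbelian p V) (a : G) (ha : a ∈ Subgroup.normalizer (V : Set G)) (hq : ⁅⁅V, Subgroup.zpowers a⁆, Subgroup.zpowers a⁆ = ⊥) : Nat.card V ≤ Nat.card ↥(V ⊓ Subgroup.centralizer (Subgroup.zpowers a : Set G)) ^ 2 := by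
  obtain ⟨hab, hexp⟩ := hV
  set C := V ⊓ Subgroup.centralizer (Subgroup.zpowers a : Set G)
  have hVc : ∀ x ∈ V, ∀ y ∈ V, x * y = y * x := fun x hx y hy => Subtype.ext_iff.1 (hab.is_comm.comm ⟨x, hx⟩ ⟨y, hy⟩)
  have hmem : ∀ v ∈ V, a * v * a⁻¹ * v⁻¹ ∈ C := by
    intro v hv
    refine Subgroup.mem_inf.2 ⟨mul_mem ((Subgroup.mem_normalizer_iff.1 ha v).1 hv) (inv_mem hv), Subgroup.mem_centralizer_iff.2 fun b hb => ?_⟩
    have h1 : a * v * a⁻¹ * v⁻¹ ∈ ⁅V, Subgroup.zpowers a⁆ := by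
      rw [Subgroup.commutator_comm]
      simpa [commutatorElement_def] using Subgroup.commutator_mem_commutator (H₂ := V) (Subgroup.mem_zpowers a) hv
    have := Subgroup.commutator_mem_commutator h1 hb
    rw [hq, Subgroup.mem_bot, commutatorElement_eq_one_iff_mul_comm] at this
    exact this.symm
  let φ : V →* C :=
    { toFun := fun v => ⟨a * v * a⁻¹ * (v : G)⁻¹, hmem v v.2⟩
      map_one' := Subtype.ext (by simp)
      map_mul' := fun u v => Subtype.ext (by
        show a * (u * v : G) * a⁻¹ * (u * v : G)⁻¹ = (a * u * a⁻¹ * (u : G)⁻¹) * (a * v * a⁻¹ * (v : G)⁻¹)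
        have h1 := hVc (u : G)⁻¹ (inv_mem u.2) (a * v * a⁻¹ * (v : G)⁻¹) (Subgroup.mem_inf.1 (hmem v v.2)).1
        calc a * (u * v : G) * a⁻¹ * (u * v : G)⁻¹ = (a * u * a⁻¹) * ((a * v * a⁻¹ * (v : G)⁻¹) * (u : G)⁻¹) := by group
          _ = (a * u * a⁻¹) * ((u : G)⁻¹ * (a * v * a⁻¹ * (v : G)⁻¹)) := by rw [h1]
          _ = _ := by group) }
  have hker : φ.ker.map V.subtype ≤ C := by
    rintro _ ⟨v, hv, rfl⟩
    refine Subgroup.mem_inf.2 ⟨v.2, ?_⟩
    have h1 : a * (v : G) * a⁻¹ * (v : G)⁻¹ = 1 := Subtype.ext_iff.1 hv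
    have h2 : Commute a (v : G) := mul_inv_eq_iff_eq_mul.1 (mul_inv_eq_one.1 h1)
    rw [Subgroup.mem_centralizer_iff]
    rintro b ⟨k, rfl⟩
    exact h2.zpow_left k
  have h1 := Subgroup.card_eq_card_quotient_mul_card_subgroup φ.ker
  have h2 : Nat.card (V ⧸ φ.ker) ≤ Nat.card C := by
    rw [Nat.card_congr (QuotientGroup.quotientKerEquivRange φ).toEquiv]
    exact Subgroup.card_le_card_group _
  have h3 : Nat.card φ.ker ≤ Nat.card C := by
    rw [← CfsgLib.Solv.card_map_subtype V φ.ker]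
    exact Subgroup.card_le_of_le hker
  calc Nat.card V = Nat.card (V ⧸ φ.ker) * Nat.card φ.ker := h1
    _ ≤ Nat.card C * Nat.card C := Nat.mul_le_mul h2 h3
    _ = _ := (sq _).symm

end Cfsg.Agent.S0591
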