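import Cfsg.Statements.S0592
import Cfsg.Agent.Fus.QuadraticPair

set_option autoImplicit false
open Cfsg

namespace Cfsg.Agent.S0592

/-- Two quadratically acting generators of a linear group that is not a p-group, with the p'-part of the order of their product dividing q - 1, give a homomorphism onto a subgroup of SL(2, q) that is not a p-group. -/
theorem result {K : Type*} [Field K] [Fintype K] {p : ℕ} [Fact p.Prime] [CharP K p] {W : Type*} [AddCommGroup W] [Module K W] [FiniteDimensional K W] [Finite W] [Nontrivial W] (H : Subgroup (W ≃ₗ[K] W)) (a b : W ≃ₗ[K] W) (hH : H = Subgroup.closure {a, b}) (ha : ∀ w : W, a (a w - w) = a w - w) (hb : ∀ w : W, b (b w - w) = b w - w) (hnp : ¬ IsPGroup p H) (hk : ∃ e k : ℕ, orderOf (a * b) = p ^ e * k ∧ k ∣ Fintype.card K - 1) : ∃ φ : H →* Matrix.SpecialLinearGroup (Fin 2) K, ¬ IsPGroup p φ.range := by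
  obtain ⟨e, k, ho, hkd⟩ := hk
  refine CfsgLib.Fus.QuadraticPair.main (p := p) (Module.finrank K W) W H a b e le_rfl hH ha hb ?_ hnp
  have hq : Fintype.card K = (Fintype.card K - 1) + 1 := (Nat.sub_add_cancel Fintype.card_pos).symm
  have hd : orderOf (a * b) ∣ p ^ e * (Fintype.card K - 1) := ho ▸ Nat.mul_dvd_mul_left _ hkd
  rw [hq, add_mul, one_mul, pow_add, mul_comm (Fintype.card K - 1) (p ^ e), orderOf_dvd_iff_pow_eq_one.1 hd, one_mul]

end Cfsg.Agent.S0592
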