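import Cfsg.Statements.S0607
import Cfsg.Agent.Solv.PLocalBasic
import Cfsg.Agent.Inv.Replacement

set_option autoImplicit false
open Cfsg

namespace Cfsg.Agent.S0607


open scoped commutatorElement


/-- The replacement Theorem for the Thompson subgroup: from A of maximal order among elementary abelian p-subgroups one obtains A₀ = [V, A] C_A([V, A]) of the same kind, quadratic on V and nontrivial on V when A is. -/
theorem result {G : Type*} [Group G] [Finite G] {p : ℕ} [Fact p.Prime] (V : Subgroup G) [V.Normal] (hV : Cfsg.IsElementaryAbelian p V) (A : Subgroup G) (hA : A ∈ Cfsg.maxElementaryAbelianSubgroups p G) : (⁅V, A⁆ ⊔ (A ⊓ Subgroup.centralizer ((⁅V, A⁆ : Subgroup G) : Set G))) ∈ Cfsg.maxElementaryAbelianSubgroups p G ∧ ⁅⁅V, ⁅V, A⁆ ⊔ (A ⊓ Subgroup.centralizer ((⁅V, A⁆ : Subgroup G) : Set G))⁆, ⁅V, A⁆ ⊔ (A ⊓ Subgroup.centralizer ((⁅V, A⁆ : Subgroup G) : Set G))⁆ = ⊥ ∧ (⁅V, A⁆ ≠ ⊥ → ⁅V, ⁅V, A⁆ ⊔ (A ⊓ Subgroup.centralizer ((⁅V,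 A⁆ : Subgroup G) : Set G))⁆ ≠ ⊥) := by
  obtain ⟨⟨hAc, hAe⟩, hmax⟩ := hA
  have hAcomm : ∀ a ∈ A, ∀ b ∈ A, a * b = b * a := fun a ha b hb =>
    congrArg Subtype.val (hAc.is_comm.comm (⟨a, ha⟩ : A) ⟨b, hb⟩)
  have hVcomm : ∀ a ∈ V, ∀ b ∈ V, a * b = b * a := fun a ha b hb =>
    congrArg Subtype.val (hV.1.is_comm.comm (⟨a, ha⟩ : V) ⟨b, hb⟩)
  -- the join of two commuting elementary abelian subgroups
  have hjoin : ∀ X Y : Subgroup G, (∀ a ∈ X, ∀ b ∈ X, a * b = b * a) →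
      (∀ a ∈ Y, ∀ b ∈ Y, a * b = b * a) → (∀ a ∈ X, ∀ b ∈ Y, a * b = b * a) →
      (∀ a ∈ X, a ^ p = 1) → (∀ a ∈ Y, a ^ p = 1) → Cfsg.IsElementaryAbelian p (X ⊔ Y) := by
    intro X Y hX hY hXY hXp hYp
    have hc : ∀ a ∈ X ⊔ Y, ∀ b ∈ X ⊔ Y, a * b = b * a := by
      have h1 : ∀ z, (z ∈ X ∨ z ∈ Y) → X ⊔ Y ≤ Subgroup.centralizer ({z} : Set G) := by
        intro z hz
        refine sup_le (fun a ha => Subgroup.mem_centralizer_singleton_iff.2 ?_)
          (fun a ha => Subgroup.mem_centralizer_singleton_iff.2 ?_)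
        · exact hz.elim (hX a ha z) (hXY a ha z)
        · exact hz.elim (fun h => (hXY z h a ha).symm) (hY a ha z)
      intro a ha b hb
      have h2 : X ⊔ Y ≤ Subgroup.centralizer ({a} : Set G) :=
        sup_le (fun x hx => Subgroup.mem_centralizer_singleton_iff.2
            (Subgroup.mem_centralizer_singleton_iff.1 (h1 x (Or.inl hx) ha)).symm)
          (fun x hx => Subgroup.mem_centralizer_singleton_iff.2
            (Subgroup.mem_centralizer_singleton_iff.1 (h1 x (Or.inr hx) ha)).symm)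
      exact (Subgroup.mem_centralizer_singleton_iff.1 (h2 hb)).symm
    refine ⟨⟨⟨fun a b => Subtype.ext (hc a a.2 b b.2)⟩⟩, fun y hy => ?_⟩
    rw [Subgroup.sup_eq_closure] at hy
    induction hy using Subgroup.closure_induction with
    | mem z hz => exact hz.elim (hXp z) (hYp z)
    | one => exact one_pow p
    | mul c d hc' hd ihc ihd =>
      rw [← Subgroup.sup_eq_closure] at hc' hd
      rw [(show Commute c d from hc c hc' d hd).mul_pow, ihc, ihd, one_mul]
    | inv c _ ih => rw [inv_pow, ih, inv_one]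
  have hAV : A ≤ Subgroup.normalizer (V : Set G) := by rw [Subgroup.normalizer_eq_top]; exact le_top
  have hAA : ⁅A, A⁆ ≤ Subgroup.centralizer (V : Set G) := by
    rw [Subgroup.commutator_le]
    intro a ha b hb
    rw [commutatorElement_eq_one_iff_mul_comm.2 (hAcomm a ha b hb)]
    exact one_mem _
  have hoff : Cfsg.IsBestOffenderOn p V A := by
    refine ⟨fun B hB => ?_, hAA, fun a ha => by rw [hAe a ha]; exact one_mem _⟩
    set C := V ⊓ Subgroup.centralizer (B : Set G)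
    have hcm : ∀ b ∈ B, ∀ c ∈ C, b * c = c * b := fun b hb c hc =>
      (Subgroup.mem_centralizer_iff.1 hc.2 b hb)
    have h1 := CfsgLib.Inv.ZJ.card_sup_of_commute hcm
    rw [← h1]
    refine Nat.mul_le_mul (hmax _ (hjoin B C (fun a ha b hb => hAcomm a (hB ha) b (hB hb))
      (fun a ha b hb => hVcomm a ha.1 b hb.1) hcm (fun a ha => hAe a (hB ha)) (fun a ha => hV.2 a ha.1))) ?_
    exact Subgroup.card_le_of_le (fun x hx => ⟨hx.2.1, Subgroup.mem_centralizer_iff.2 fun a ha =>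
      hAcomm a ha x (hB hx.1)⟩)
  obtain ⟨h1, h2⟩ := CfsgLib.Solv.timmesfeld_set hV hAV hoff (V : Set G) subset_rfl
  obtain ⟨-, -, hne⟩ := CfsgLib.Solv.timmesfeld hV hAV hoff (le_refl V)
  have e : CfsgLib.Solv.commSet (V : Set G) A = ⁅V, A⁆ := by
    rw [Subgroup.commutator_def, CfsgLib.Solv.commSet]
    congr 1
    ext g
    constructor
    · rintro ⟨v, hv, a, ha, rfl⟩; exact ⟨v, hv, a, ha, rfl⟩
    · rintro ⟨v, hv, a, ha, rfl⟩; exact ⟨v, hv, a, ha, rfl⟩
  rw [e] at h1 h2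
  set K := ⁅V, A⁆ with hKdef
  set As := A ⊓ Subgroup.centralizer ((K : Subgroup G) : Set G) with hAs
  set C0 := V ⊓ Subgroup.centralizer (A : Set G) with hC0
  have hKV : K ≤ V := Subgroup.commutator_le_left V A
  have hKAs : ∀ k ∈ K, ∀ a ∈ As, k * a = a * k := fun k hk a ha =>
    Subgroup.mem_centralizer_iff.1 ha.2 k hk
  have helem : Cfsg.IsElementaryAbelian p (K ⊔ As) :=
    hjoin K As (fun a ha b hb => hVcomm a (hKV ha) b (hKV hb)) (fun a ha b hb => hAcomm a ha.1 b hb.1)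
      hKAs (fun a ha => hV.2 a (hKV ha)) (fun a ha => hAe a ha.1)
  have hC0A : C0 ≤ A := by
    have hc : ∀ a ∈ A, ∀ c ∈ C0, a * c = c * a := fun a ha c hc =>
      Subgroup.mem_centralizer_iff.1 hc.2 a ha
    have h3 := hmax _ (hjoin A C0 hAcomm (fun a ha b hb => hVcomm a ha.1 b hb.1) hc hAe
      (fun a ha => hV.2 a ha.1))
    exact (le_sup_right : C0 ≤ A ⊔ C0).trans
      (Subgroup.eq_of_le_of_card_ge (le_sup_left : A ≤ A ⊔ C0) h3).ge
  have hinf : K ⊓ As = K ⊓ C0 := by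
    refine le_antisymm (fun x hx => ⟨hx.1, hKV hx.1, ?_⟩) fun x hx =>
      ⟨hx.1, hC0A hx.2, Subgroup.mem_centralizer_iff.2 fun k hk => hVcomm k (hKV hk) x hx.2.1⟩
    exact Subgroup.mem_centralizer_iff.2 fun a ha => hAcomm a ha x hx.2.1
  have hcard : Nat.card A ≤ Nat.card (K ⊔ As : Subgroup G) := by
    have h3 := CfsgLib.Inv.ZJ.card_sup_of_commute hKAs
    have h4 := CfsgLib.Inv.ZJ.card_sup_of_commute
      (show ∀ k ∈ K, ∀ c ∈ C0, k * c = c * k from fun k hk c hc => hVcomm k (hKV hk) c hc.1)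
    rw [hinf] at h3
    refine le_of_eq ?_
    refine Nat.eq_of_mul_eq_mul_right (Nat.card_pos (α := (K ⊓ C0 : Subgroup G))) ?_
    refine Nat.eq_of_mul_eq_mul_right (Nat.card_pos (α := C0)) ?_
    rw [h3]
    calc Nat.card A * Nat.card (K ⊓ C0 : Subgroup G) * Nat.card C0
        = (Nat.card A * Nat.card C0) * Nat.card (K ⊓ C0 : Subgroup G) := by ring
      _ = Nat.card As * (Nat.card (K ⊔ C0 : Subgroup G) * Nat.card (K ⊓ C0 : Subgroup G)) := by
          rw [← h1]; ring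
      _ = Nat.card K * Nat.card As * Nat.card C0 := by rw [h4]; ring
  refine ⟨⟨helem, fun B hB => (hmax B hB).trans hcard⟩, ?_, fun hK => ?_⟩
  · have h5 : ⁅V, K ⊔ As⁆ ≤ K := by
      rw [Subgroup.commutator_le]
      intro v hv x hx
      rw [← SetLike.mem_coe, Subgroup.coe_mul_of_right_le_normalizer_left K As ((show As ≤ Subgroup.centralizer (K : Set G) from inf_le_right).trans
        (Subgroup.centralizer_le_normalizer _))] at hx
      obtain ⟨k, hk, a, ha, rfl⟩ := hx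
      have h6 : ⁅v, a⁆ ∈ K := Subgroup.commutator_mem_commutator hv ha.1
      have hvk : v * k = k * v := hVcomm v hv k (hKV hk)
      have h7 : ⁅v, k * a⁆ = k * ⁅v, a⁆ * k⁻¹ := by
        simp only [commutatorElement_def]
        rw [← mul_assoc v k a, hvk]; group
      rw [h7]
      exact K.mul_mem (K.mul_mem hk h6) (K.inv_mem hk)
    refine le_bot_iff.1 ((Subgroup.commutator_mono h5 le_rfl).trans (le_bot_iff.2 ?_))
    rw [Subgroup.commutator_eq_bot_iff_le_centralizer]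
    exact fun k hk => Subgroup.mem_centralizer_iff.2 fun y hy =>
      congrArg Subtype.val (helem.1.is_comm.comm (⟨y, hy⟩ : (K ⊔ As : Subgroup G))
        ⟨k, Subgroup.mem_sup_left hk⟩)
  · exact fun h0 => hne hK (le_bot_iff.1 ((Subgroup.commutator_mono le_rfl
      (le_sup_right : As ≤ K ⊔ As)).trans h0.le))

end Cfsg.Agent.S0607
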