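import Cfsg.Statements.S0614
import Cfsg.Agent.Solv.TransvectionDecomp

set_option autoImplicit false
open Cfsg

namespace Cfsg.Agent.S0614

theorem noncommuting : ∃ M N : Matrix.SpecialLinearGroup (Fin 2) (ZMod 3),
    M ^ 4 = 1 ∧ N ^ 4 = 1 ∧ M * N ≠ N * M :=
  ⟨⟨!![0, -1; 1, 0], by decide⟩, ⟨!![1, 1; 1, -1], by decide⟩, by decide⟩

/-- The commutator of the p'-core with a minimal nontrivially-acting best offender is a 3-group (when p = 2) or a non-abelian 2-group (when p = 3). -/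
theorem result {G : Type*} [Group G] [Finite G] {p : ℕ} [Fact p.Prime] (V H : Subgroup G) (hV : Cfsg.IsElementaryAbelian p V) (hHV : H ≤ Subgroup.normalizer (V : Set G)) (hf : H ⊓ Subgroup.centralizer (V : Set G) = ⊥) (hS1 : Subgroup.centralizer (Cfsg.pPrimeCore p ↥H : Set ↥H) ≤ Cfsg.pPrimeCore p ↥H) (hS3 : H = ⨆ A : {A : Subgroup G // A ≤ H ∧ Cfsg.IsBestOffenderOn p V A}, (A : Subgroup G)) (hH1 : H ≠ ⊥) (A : Subgroup G) (hAH : A ≤ H) (hA : Cfsg.IsBestOffenderOn p V A) (hAV : ⁅V, A⁆ ≠ ⊥) (hmin : ∀ B : Subgroup G, B ≤ A → Cfsg.IsBestOffenderOn p V B → ⁅V, B⁆ ≠ ⊥ → B = A) : (p = 2 ∧ IsPGroup 3 ↥(⁅((Cfsg.pPrimeCore p ↥H).map H.subtype), A⁆)) ∨ (p = 3 ∧ IsPGroup 2 ↥(⁅((Cfsg.pPrimeCore p ↥H).map H.subtype), A⁆) ∧ ¬ IsMulCommutative ↥(⁅((Cfsg.pPrimeCore p ↥H).map H.subtype), A⁆)) := by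
  have C := CfsgLib.Solv.FFP.ctx_of hV hHV hf hS1
  have T := C.trans_of_minimal hAH hA hAV hmin
  have B := C.block T
  set Q := (Cfsg.pPrimeCore p ↥H).map H.subtype
  set E := ⁅Q, A⁆ ⊔ A
  obtain ⟨e⟩ := B.iso
  have hdvd : Nat.card ↥(⁅Q, A⁆) ∣ Nat.card (Matrix.SpecialLinearGroup (Fin 2) (ZMod p)) :=
    (Subgroup.card_dvd_of_le le_sup_left).trans (dvd_of_eq (Nat.card_congr e.toEquiv))
  have hcop : (Nat.card ↥(⁅Q, A⁆)).Coprime p :=
    Nat.Coprime.coprime_dvd_left (Subgroup.card_dvd_of_le (B.hX.le.trans inf_le_left)) C.hcop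
  rcases B.hp23 with rfl | rfl
  · left
    have h6 : Nat.card (Matrix.SpecialLinearGroup (Fin 2) (ZMod 2)) = 6 := by
      rw [Nat.card_eq_fintype_card]; decide
    rw [h6] at hdvd
    have h3 : Nat.card ↥(⁅Q, A⁆) ∣ 3 := hcop.dvd_of_dvd_mul_right (show _ ∣ 3 * 2 from hdvd)
    obtain ⟨k, -, hk⟩ := (Nat.dvd_prime_pow (by norm_num : Nat.Prime 3)).1
      (show Nat.card ↥(⁅Q, A⁆) ∣ 3 ^ 1 by rwa [pow_one])
    exact ⟨rfl, IsPGroup.of_card hk⟩
  · right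
    have h24 : Nat.card (Matrix.SpecialLinearGroup (Fin 2) (ZMod 3)) = 24 := by
      rw [Nat.card_eq_fintype_card]; decide
    rw [h24] at hdvd
    have h8 : Nat.card ↥(⁅Q, A⁆) ∣ 8 := hcop.dvd_of_dvd_mul_right (show _ ∣ 8 * 3 from hdvd)
    obtain ⟨k, -, hk⟩ := (Nat.dvd_prime_pow Nat.prime_two).1
      (show Nat.card ↥(⁅Q, A⁆) ∣ 2 ^ 3 from h8)
    refine ⟨rfl, IsPGroup.of_card hk, fun hcomm => ?_⟩
    have hmem : ∀ M : Matrix.SpecialLinearGroup (Fin 2) (ZMod 3), M ^ 4 = 1 →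
        ((e.symm M : E) : G) ∈ ⁅Q, A⁆ := by
      intro M hM
      have hg4 : ((e.symm M : E) : G) ^ 4 = 1 := by
        rw [← SubmonoidClass.coe_pow, ← map_pow, hM, map_one, OneMemClass.coe_one]
      obtain ⟨m, hm, a, ha, hga⟩ := CfsgLib.Solv.exists_mul_of_mem_sup
        (CfsgLib.Solv.right_le_normalizer_commutator Q A)
        (show ((e.symm M : E) : G) ∈ A ⊔ ⁅Q, A⁆ by rw [sup_comm]; exact (e.symm M).2)
      have hn : ∀ n : ℕ, ∃ m' ∈ ⁅Q, A⁆, (m * a) ^ n = m' * a ^ n := by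
        intro n
        induction n with
        | zero => exact ⟨1, one_mem _, by simp⟩
        | succ n ih =>
          obtain ⟨m', hm', h⟩ := ih
          refine ⟨m' * (a ^ n * m * (a ^ n)⁻¹), mul_mem hm'
            (CfsgLib.Solv.le_normalizer_iff_forall_conj_mem.1
              (CfsgLib.Solv.right_le_normalizer_commutator Q A) _ (pow_mem ha n) m hm), ?_⟩
          rw [pow_succ, h, pow_succ]; group
      obtain ⟨m', hm', h4⟩ := hn 4
      rw [← hga, hg4] at h4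
      have ha4 : a ^ 4 ∈ A ⊓ Q := Subgroup.mem_inf.2 ⟨pow_mem ha 4, by
        rw [show a ^ 4 = m'⁻¹ by rw [eq_inv_iff_mul_eq_one]; exact (mul_eq_one_comm).1 h4.symm]
        exact inv_mem (B.hX.le hm').1⟩
      rw [C.inf_Q T.pGroup, Subgroup.mem_bot] at ha4
      have ha3 : a ^ 3 = 1 := (T.offender C |> C.offender_pow T.le) a ha
      have ha1 : a = 1 := by rwa [pow_succ, ha3, one_mul] at ha4
      rw [hga, ha1, mul_one]
      exact hm
    obtain ⟨M, N, hM, hN, hne⟩ := noncommuting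
    have h5 := congrArg Subtype.val (hcomm.is_comm.comm ⟨_, hmem M hM⟩ ⟨_, hmem N hN⟩)
    simp only [Subgroup.coe_mul] at h5
    rw [← Subgroup.coe_mul, ← Subgroup.coe_mul, ← map_mul, ← map_mul] at h5
    exact hne (e.symm.injective (Subtype.ext h5))

end Cfsg.Agent.S0614
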