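import Cfsg.Statements.S0615
import Cfsg.Agent.Solv.IrreducibleSubnormal

set_option autoImplicit false
open Cfsg

namespace Cfsg.Agent.S0615

open scoped commutatorElement

/-- Two subnormal subgroups acting irreducibly on their incomparable commutator modules, in a faithful group with trivial largest normal p-subgroup, generate their direct product, and the commutator module splits accordingly. -/
theorem result {G : Type*} [Group G] [Finite G] {p : ℕ} [Fact p.Prime] (V E E₁ E₂ : Subgroup G) (hV : Cfsg.IsElementaryAbelian p V) (hEV : E ≤ Subgroup.normalizer (V : Set G)) (hf : E ⊓ Subgroup.centralizer (V : Set G) = ⊥) (hgen : E = E₁ ⊔ E₂) (hs₁ : (E₁.subgroupOf E).IsSubnormal) (hs₂ : (E₂.subgroupOf E).IsSubnormal) (hOp : Cfsg.pCore p ↥E = ⊥) (hirr₁ : (∀ U : Subgroup G, U ≤ ⁅V, E₁⁆ → E₁ ≤ Subgroup.normalizer (U : Set G) → U = ⊥ ∨ U = ⁅V, E₁⁆))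 (hirr₂ : (∀ U : Subgroup G, U ≤ ⁅V, E₂⁆ → E₂ ≤ Subgroup.normalizer (U : Set G) → U = ⊥ ∨ U = ⁅V, E₂⁆)) (h12 : ¬ ⁅V, E₁⁆ ≤ ⁅V, E₂⁆) (h21 : ¬ ⁅V, E₂⁆ ≤ ⁅V, E₁⁆) (hc₁ : 2 < Nat.card E₁) (hc₂ : 2 < Nat.card E₂) : ⁅E₁, E₂⁆ = ⊥ ∧ E₁ ⊓ E₂ = ⊥ ∧ ⁅V, E₁⁆ ⊓ ⁅V, E₂⁆ = ⊥ ∧ ⁅V, E⁆ = ⁅V, E₁⁆ ⊔ ⁅V, E₂⁆ := by
  have s1 : CfsgLib.Solv.IrrSN.Sn E E₁ := ⟨hgen ▸ le_sup_left, hs₁⟩
  have s2 : CfsgLib.Solv.IrrSN.Sn E E₂ := ⟨hgen ▸ le_sup_right, hs₂⟩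
  have hO : ∀ Y : Subgroup G, CfsgLib.Solv.IrrSN.Sn E Y → IsPGroup p Y → Y = ⊥ :=
    fun Y h1 h2 => CfsgLib.Solv.IrrSN.pSub_eq_bot hOp h1 h2
  obtain ⟨hI, hc1, hc2, he⟩ := CfsgLib.Solv.IrrSN.main hV (Nat.card E) E E₁ E₂ le_rfl hEV hf hO hgen
    s1 s2 ⟨hirr₁, hc₁⟩ ⟨hirr₂, hc₂⟩ h12 h21
  have hWV : ∀ X : Subgroup G, X ≤ E → ⁅V, X⁆ ≤ V := fun X h =>
    CfsgLib.Solv.IrrSN.comm_le (h.trans hEV)
  refine ⟨he, ?_, hI, ?_⟩
  · -- an element of both centralises `V` modulo nothing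
    refine le_bot_iff.1 (le_trans (le_inf (inf_le_left.trans s1.1) ?_) hf.le)
    intro g hg
    obtain ⟨h1, h2⟩ := Subgroup.mem_inf.1 hg
    refine Subgroup.mem_centralizer_iff.2 fun v hv => ?_
    exact commutatorElement_eq_one_iff_mul_comm.1 (Subgroup.mem_bot.1 (hI.le (Subgroup.mem_inf.2
      ⟨Subgroup.commutator_mem_commutator hv h1, Subgroup.commutator_mem_commutator hv h2⟩)))
  · refine le_antisymm ?_ (sup_le (Subgroup.commutator_mono le_rfl s1.1)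
      (Subgroup.commutator_mono le_rfl s2.1))
    have hn : ∀ X Y : Subgroup G, ⁅⁅V, X⁆, Y⁆ = ⊥ → Y ≤ Subgroup.normalizer ((⁅V, X⁆ : Subgroup G) : Set G) :=
      fun X Y h => (Subgroup.le_centralizer_iff.1 (Subgroup.commutator_eq_bot_iff_le_centralizer.1 h)).trans
        (Subgroup.centralizer_le_normalizer _)
    have hsupV : ⁅V, E₁⁆ ⊔ ⁅V, E₂⁆ ≤ V := sup_le (hWV _ s1.1) (hWV _ s2.1)
    have hle : E ≤ CfsgLib.Solv.FFP.stab V E (⁅V, E₁⁆ ⊔ ⁅V, E₂⁆) := by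
      have key : ∀ X : Subgroup G, X ≤ E → ⁅V, X⁆ ≤ ⁅V, E₁⁆ ⊔ ⁅V, E₂⁆ →
          X ≤ CfsgLib.Solv.FFP.stab V E (⁅V, E₁⁆ ⊔ ⁅V, E₂⁆) := by
        intro X hXE hX g hg
        refine ⟨hXE hg, CfsgLib.Solv.le_normalizer_iff_forall_conj_mem.2 (fun y hy w hw => ?_) hg,
          fun v hv => hX (Subgroup.commutator_mem_commutator hv hg)⟩
        rw [show y * w * y⁻¹ = ⁅y, w⁆ * w by simp [commutatorElement_def, mul_assoc]]
        refine mul_mem ?_ hw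
        rw [← commutatorElement_inv]
        exact inv_mem (hX (Subgroup.commutator_mem_commutator (hsupV hw) hy))
      conv_lhs => rw [hgen]
      exact sup_le (key E₁ s1.1 le_sup_left) (key E₂ s2.1 le_sup_right)
    exact Subgroup.commutator_le.2 fun v hv g hg => (hle hg).2.2 v hv

end Cfsg.Agent.S0615
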