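import Cfsg.Statements.S0617
import Cfsg.Agent.Solv.TransvectionDecomp

set_option autoImplicit false
open Cfsg

namespace Cfsg.Agent.S0617

/-- Structure Theorem for failure of factorization: a faithful group generated by best offenders, with self-centralizing p'-core, is a direct product of copies of SL(2, p) (p = 2 or 3), each acting on its own plane in V, which is the direct product of these planes and C_V(H). -/
theorem result {G : Type*} [Group G] [Finite G] {p : ℕ} [Fact p.Prime] (V H : Subgroup G) (hV : Cfsg.IsElementaryAbelian p V) (hHV : H ≤ Subgroup.normalizer (V : Set G)) (hf : H ⊓ Subgroup.centralizer (V : Set G) = ⊥) (hS1 : Subgroup.centralizer (Cfsg.pPrimeCore p ↥H : Set ↥H) ≤ Cfsg.pPrimeCore p ↥H) (hS3 : H = ⨆ A : {A : Subgroup G // A ≤ H ∧ Cfsg.IsBestOffenderOn p V A}, (A : Subgroup G)) (hH1 : H ≠ ⊥) : (p = 2 ∨ p = 3) ∧ (∀ E : {E : Subgroup G // ∃ A : Subgroup G, A ≤ H ∧ Cfsg.IsBestOffenderOn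 p V A ∧ ⁅V, A⁆ ≠ ⊥ ∧ (∀ B : Subgroup G, B ≤ A → Cfsg.IsBestOffenderOn p V B → ⁅V, B⁆ ≠ ⊥ → B = A) ∧ E = ⁅((Cfsg.pPrimeCore p ↥H).map H.subtype), A⁆ ⊔ A}, H ≤ Subgroup.normalizer ((E : Subgroup G) : Set G) ∧ Nonempty (↥(E : Subgroup G) ≃* Matrix.SpecialLinearGroup (Fin 2) (ZMod p)) ∧ Nat.card ↥(⁅V, (E : Subgroup G)⁆) = p ^ 2) ∧ iSupIndep (fun E : {E : Subgroup G // ∃ A : Subgroup G, A ≤ H ∧ Cfsg.IsBestOffenderOn p V A ∧ ⁅V, A⁆ ≠ ⊥ ∧ (∀ B : Subgroup G, B ≤ A → Cfsg.IsBestOffenderOn p V B → ⁅V, B⁆ ≠ ⊥ → B = A) ∧ E = ⁅((Cfsg.pPrimeCore p ↥H).map H.subtype), A⁆ ⊔ A} => (E : Subgroup G)) ∧ (⨆ E : {E : Subgroup G // ∃ A : Subgroup G, A ≤ H ∧ Cfsg.IsBestOffenderOn p V A ∧ ⁅V, A⁆ ≠ ⊥ ∧ (∀ B : Subgroup G, B ≤ A → Cfsg.IsBestOffenderOn p V B → ⁅V, B⁆ ≠ ⊥ → B = A) ∧ E = ⁅((Cfsg.pPrimeCore p ↥H).map H.subtype), A⁆ ⊔ A}, (E : Subgroup G)) = H ∧ iSupIndep (fun o : Option {E : Subgroup G // ∃ A : Subgroup G,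 A ≤ H ∧ Cfsg.IsBestOffenderOn p V A ∧ ⁅V, A⁆ ≠ ⊥ ∧ (∀ B : Subgroup G, B ≤ A → Cfsg.IsBestOffenderOn p V B → ⁅V, B⁆ ≠ ⊥ → B = A) ∧ E = ⁅((Cfsg.pPrimeCore p ↥H).map H.subtype), A⁆ ⊔ A} => o.elim (V ⊓ Subgroup.centralizer (H : Set G)) (fun E => ⁅V, (E : Subgroup G)⁆)) ∧ (V ⊓ Subgroup.centralizer (H : Set G)) ⊔ (⨆ E : {E : Subgroup G // ∃ A : Subgroup G, A ≤ H ∧ Cfsg.IsBestOffenderOn p V A ∧ ⁅V, A⁆ ≠ ⊥ ∧ (∀ B : Subgroup G, B ≤ A → Cfsg.IsBestOffenderOn p V B → ⁅V, B⁆ ≠ ⊥ → B = A) ∧ E = ⁅((Cfsg.pPrimeCore p ↥H).map H.subtype), A⁆ ⊔ A}, ⁅V, (E : Subgroup G)⁆) = V := by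
  have C := CfsgLib.Solv.FFP.ctx_of hV hHV hf hS1
  classical
  set Q := (Cfsg.pPrimeCore p ↥H).map H.subtype
  let ι := {E : Subgroup G // ∃ A : Subgroup G, A ≤ H ∧ Cfsg.IsBestOffenderOn p V A ∧ ⁅V, A⁆ ≠ ⊥ ∧
    (∀ B : Subgroup G, B ≤ A → Cfsg.IsBestOffenderOn p V B → ⁅V, B⁆ ≠ ⊥ → B = A) ∧ E = ⁅Q, A⁆ ⊔ A}
  have hblk : ∀ E : ι, ∃ A, CfsgLib.Solv.FFP.IsTrans p V H A ∧
      CfsgLib.Solv.FFP.Block p V H Q A E.1 ⁅V, E.1⁆ := by
    rintro ⟨E, A, hAH, hA, hAV, hmin, rfl⟩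
    exact ⟨A, C.trans_of_minimal hAH hA hAV hmin, C.block (C.trans_of_minimal hAH hA hAV hmin)⟩
  choose a hT hB using hblk
  have hglob := fun E : ι => (hB E).global C (hT E) (C.gen hS3)
  -- blocks other than `E` centralise `[V, E]`
  have hother : ∀ E E' : ι, E' ≠ E →
      E'.1 ≤ H ⊓ Subgroup.centralizer ((⁅V, E.1⁆ : Subgroup G) : Set G) := by
    intro E E' hne
    obtain ⟨hHW, hdich, -, -, hHE, -⟩ := hglob E
    have hEle : ∀ K : Subgroup G, H ≤ Subgroup.normalizer (K : Set G) → a E' ≤ K → E'.1 ≤ K := by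
      intro K hK hle
      rw [(hB E').eq]
      refine sup_le (Subgroup.commutator_le.2 fun q hq x hx => ?_) hle
      rw [commutatorElement_def]
      exact mul_mem (CfsgLib.Solv.le_normalizer_iff_forall_conj_mem.1 hK q (C.hQH hq) x (hle hx))
        (inv_mem (hle hx))
    rcases hdich _ (hT E') with h | h
    · refine absurd (Subtype.ext ?_) hne
      refine Subgroup.eq_of_le_of_card_ge (hEle _ hHE h) ?_
      obtain ⟨e1⟩ := (hB E).iso
      obtain ⟨e2⟩ := (hB E').iso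
      exact (Nat.card_congr (e1.trans e2.symm).toEquiv).le
    · exact le_inf (hB E').hEH
        (hEle _ (hHW.trans (CfsgLib.Solv.FFP.normalizer_le_normalizer_cent _)) h)
  have hVother : ∀ E E' : ι, E' ≠ E → ⁅V, E'.1⁆ ≤ V ⊓ Subgroup.centralizer (E.1 : Set G) :=
    fun E E' hne => (Subgroup.commutator_mono le_rfl (hother E E' hne)).trans (hglob E).2.2.2.2.2
  have hcov : H ≤ ⨆ E : ι, E.1 := C.gen hS3 _ fun D TD => by
    have hm : ∃ A : Subgroup G, A ≤ H ∧ Cfsg.IsBestOffenderOn p V A ∧ ⁅V, A⁆ ≠ ⊥ ∧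
        (∀ B : Subgroup G, B ≤ A → Cfsg.IsBestOffenderOn p V B → ⁅V, B⁆ ≠ ⊥ → B = A) ∧
        ⁅Q, D⁆ ⊔ D = ⁅Q, A⁆ ⊔ A :=
      ⟨D, TD.le, TD.offender C, C.comm_ne_bot TD.le TD.ne_bot, fun B hB _ hne =>
        (TD.eq_of_le hB).resolve_left fun e => hne (by rw [e, Subgroup.commutator_bot_right]), rfl⟩
    exact le_sup_right.trans (le_iSup_of_le (⟨_, hm⟩ : ι) le_rfl)
  have hH : (⨆ E : ι, E.1) = H := le_antisymm (iSup_le fun E => (hB E).hEH) hcov
  haveI : Finite ι := Subtype.finite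
  -- the fixed points of the first blocks and their commutators
  have hsplit : ∀ s : Finset ι, V ≤ (⨆ E ∈ s, ⁅V, E.1⁆) ⊔
      (V ⊓ ⨅ E ∈ s, Subgroup.centralizer (E.1 : Set G)) := by
    intro s
    induction s using Finset.induction with
    | empty => simp
    | @insert E s hEs ih =>
      rw [Finset.iSup_insert, Finset.iInf_insert]
      refine ih.trans (sup_le (le_sup_of_le_left le_sup_right) fun u hu => ?_)
      obtain ⟨huV, huC⟩ := Subgroup.mem_inf.1 hu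
      have hn : ⁅V, E.1⁆ ≤ Subgroup.normalizer
          ((V ⊓ Subgroup.centralizer (E.1 : Set G) : Subgroup G) : Set G) :=
        le_trans (fun x hx => Subgroup.mem_centralizer_iff.2 fun y hy => C.comm hy.1 ((hB E).hWV hx))
          (Subgroup.centralizer_le_normalizer _)
      obtain ⟨m, hm, w, hw, rfl⟩ := CfsgLib.Solv.exists_mul_of_mem_sup hn ((hB E).split.ge huV)
      refine mul_mem (Subgroup.mem_sup_right ?_) (Subgroup.mem_sup_left (Subgroup.mem_sup_left hw))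
      refine Subgroup.mem_inf.2 ⟨hm.1, Subgroup.mem_inf.2 ⟨hm.2, ?_⟩⟩
      rw [show m = m * w * w⁻¹ by group]
      refine mul_mem huC (inv_mem ?_)
      simp only [Subgroup.mem_iInf]
      intro E' hE'
      exact (hVother E' E (fun e => hEs (e ▸ hE')) hw).2
  have hzero : ∀ s : Finset ι,
      (⨆ E ∈ s, ⁅V, E.1⁆) ⊓ (V ⊓ Subgroup.centralizer (H : Set G)) = ⊥ := by
    intro s
    induction s using Finset.induction with
    | empty => simp
    | @insert E s hEs ih =>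
      rw [Finset.iSup_insert]
      refine le_bot_iff.1 fun u hu => ?_
      obtain ⟨hu1, hu2⟩ := Subgroup.mem_inf.1 hu
      have hR : (⨆ E' ∈ s, ⁅V, E'.1⁆) ≤ V ⊓ Subgroup.centralizer (E.1 : Set G) :=
        iSup₂_le fun E' hE' => hVother E E' fun e => hEs (e ▸ hE')
      have hn : ⁅V, E.1⁆ ≤ Subgroup.normalizer
          ((⨆ E' ∈ s, ⁅V, E'.1⁆ : Subgroup G) : Set G) :=
        le_trans (fun x hx => Subgroup.mem_centralizer_iff.2 fun y hy =>
          C.comm (hR hy).1 ((hB E).hWV hx)) (Subgroup.centralizer_le_normalizer _)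
      obtain ⟨m, hm, w, hw, rfl⟩ := CfsgLib.Solv.exists_mul_of_mem_sup hn
        (show u ∈ ⁅V, E.1⁆ ⊔ ⨆ E' ∈ s, ⁅V, E'.1⁆ from hu1)
      have hwbot : w ∈ ⁅V, E.1⁆ ⊓ Subgroup.centralizer (E.1 : Set G) := Subgroup.mem_inf.2 ⟨hw, by
        rw [show w = m⁻¹ * (m * w) by group]
        exact mul_mem (inv_mem (hR hm).2) (Subgroup.centralizer_le (hB E).hEH hu2.2)⟩
      rw [(hB E).fix, Subgroup.mem_bot] at hwbot
      subst hwbot
      rw [mul_one] at hu hu2 ⊢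
      exact ih.le (Subgroup.mem_inf.2 ⟨hm, hu2⟩)
  obtain ⟨A₀, hA₀, hA₀1⟩ : ∃ A₀ : ι, A₀ = A₀ ∧ True := by
    by_contra h
    push Not at h
    haveI : IsEmpty ι := ⟨fun E => h E rfl⟩
    rw [iSup_of_empty] at hH
    exact hH1 hH.symm
  haveI := Fintype.ofFinite ι
  refine ⟨(hB A₀).hp23, fun E => ⟨(hglob E).2.2.2.2.1, (hB E).iso, (hB E).card⟩, ?_, hH, ?_, ?_⟩
  · intro E
    rw [disjoint_iff]
    refine le_bot_iff.1 (le_trans (inf_le_inf_left _ ?_) (hB E).faith.le)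
    exact iSup₂_le fun E' hE' => (hother E E' hE').trans inf_le_right
  · rintro (_ | E)
    · rw [disjoint_iff]
      refine le_bot_iff.1 (le_trans (inf_comm _ _).le (le_trans (inf_le_inf_right _ ?_)
        (hzero Finset.univ).le))
      refine iSup₂_le fun o ho => ?_
      rcases o with _ | E
      · exact absurd rfl ho
      · exact le_iSup₂_of_le E (Finset.mem_univ _) le_rfl
    · rw [disjoint_iff]
      refine le_bot_iff.1 (le_trans (inf_le_inf_left _ ?_) (hB E).fix.le)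
      refine iSup₂_le fun o ho => ?_
      rcases o with _ | E'
      · exact inf_le_right.trans (Subgroup.centralizer_le (hB E).hEH)
      · exact (hVother E E' fun e => ho (by rw [e])).trans inf_le_right
  · refine le_antisymm (sup_le inf_le_left (iSup_le fun E => (hB E).hWV)) ((hsplit Finset.univ).trans
      (sup_le ?_ ?_))
    · exact le_sup_of_le_right (iSup₂_le fun E _ => le_iSup (fun E : ι => ⁅V, E.1⁆) E)
    · refine le_sup_of_le_left (le_inf inf_le_left ?_)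
      rw [Subgroup.le_centralizer_iff]
      refine hcov.trans (iSup_le fun E => Subgroup.le_centralizer_iff.1 (inf_le_right.trans ?_))
      exact iInf₂_le E (Finset.mem_univ _)

end Cfsg.Agent.S0617
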