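import Cfsg.Statements.S0618
import Cfsg.Agent.Solv.TransvectionTransfer
import Cfsg.Agent.Solv.ThompsonFactorStable

set_option autoImplicit false
open Cfsg

namespace Cfsg.Agent.S0618

/-- A p-separable group with trivial p'-core in which the Thompson factorization fails has p = 2 or 3, and J(G) induces on the normal closure of Ω₁(Z(S)) a group containing a normal SL(2, p). -/
theorem result {G : Type*} [Group G] [Finite G] {p : ℕ} [Fact p.Prime] (hsep : Cfsg.IsPSolvable p G) (hO : Cfsg.pPrimeCore p G = ⊥) (hnf : ¬ Cfsg.IsThompsonFactorizable p G) : (p = 2 ∨ p = 3) ∧ ∃ E : Subgroup G, Subgroup.centralizer ((⨆ S : Sylow p G, Cfsg.omegaOne p ((S : Subgroup G) ⊓ Subgroup.centralizer ((S : Subgroup G) : Set G))) : Set G) ≤ E ∧ E ≤ Cfsg.thompsonSubgroup p G ⊔ Subgroup.centralizer ((⨆ S : Sylow p G, Cfsg.omegaOne p ((S : Subgroup G) ⊓ Subgroup.centralizer ((S : Subgroup G) : Set G))) : Set G) ∧ Cfsg.thompsonSubgroup p G ⊔ Subgroup.centralizer ((⨆ S : Sylow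 p G, Cfsg.omegaOne p ((S : Subgroup G) ⊓ Subgroup.centralizer ((S : Subgroup G) : Set G))) : Set G) ≤ Subgroup.normalizer (E : Set G) ∧ ∃ hn : ((Subgroup.centralizer ((⨆ S : Sylow p G, Cfsg.omegaOne p ((S : Subgroup G) ⊓ Subgroup.centralizer ((S : Subgroup G) : Set G))) : Set G)).subgroupOf E).Normal, Nonempty ((↥E ⧸ (Subgroup.centralizer ((⨆ S : Sylow p G, Cfsg.omegaOne p ((S : Subgroup G) ⊓ Subgroup.centralizer ((S : Subgroup G) : Set G))) : Set G)).subgroupOf E) ≃* Matrix.SpecialLinearGroup (Fin 2) (ZMod p)) := by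
  have hc := CfsgLib.Perm.centralizer_pCore_le_of_pSolvable hsep hO
  set W := ⨆ S : Sylow p G, Cfsg.omegaOne p ((S : Subgroup G) ⊓
    Subgroup.centralizer ((S : Subgroup G) : Set G)) with hW
  haveI : W.Normal := CfsgLib.Solv.normal_iSup_omegaCenter
  have hgen : W ≤ ⨆ S : Sylow p G, W ⊓ Subgroup.centralizer ((S : Subgroup G) : Set G) :=
    iSup_le fun S => le_iSup_of_le S (le_inf (le_iSup (fun S : Sylow p G => Cfsg.omegaOne p
      ((S : Subgroup G) ⊓ Subgroup.centralizer ((S : Subgroup G) : Set G))) S)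
      ((CfsgLib.Solv.omegaOne_le _).trans inf_le_right))
  have hea : Cfsg.IsElementaryAbelian p W := by
    have h1 : Cfsg.IsElementaryAbelian p (Cfsg.omegaOne p (Cfsg.pCore p G ⊓
        Subgroup.centralizer (Cfsg.pCore p G : Set G))) :=
      CfsgLib.Solv.isElementaryAbelian_omegaOne fun a ha b hb =>
        (Subgroup.mem_centralizer_iff.1 ha.2 b hb.1).symm
    have h2 : W ≤ _ := CfsgLib.Solv.iSup_omegaCenter_le hc
    refine ⟨⟨⟨fun a b => Subtype.ext ?_⟩⟩, fun a ha => h1.2 a (h2 ha)⟩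
    exact CfsgLib.Solv.commute_of_isElementaryAbelian h1 (h2 a.2) (h2 b.2)
  obtain ⟨-, h⟩ := CfsgLib.Solv.FFP.transfer hsep W hea
    (CfsgLib.Solv.pCore_quotient_centralizer_eq_bot hgen)
  have hcen : Subgroup.centralizer (⨆ S : Sylow p G, (Cfsg.omegaOne p ((S : Subgroup G) ⊓
      Subgroup.centralizer ((S : Subgroup G) : Set G)) : Set G)) = Subgroup.centralizer (W : Set G) := by
    rw [hW, Subgroup.iSup_eq_closure, Subgroup.centralizer_closure]
    rfl
  rw [hcen]
  exact h fun hJ => hnf ((CfsgLib.Solv.thompsonFactorizable_iff hO).2 hJ)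

end Cfsg.Agent.S0618
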