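import Cfsg.Statements.S0619
import Cfsg.Agent.Solv.TransvectionTransfer
import Cfsg.Agent.Solv.ThompsonFactorStable

set_option autoImplicit false
open Cfsg

namespace Cfsg.Agent.S0619

open scoped commutatorElement

/-- For a p-separable group and a normal elementary abelian p-subgroup V with no nontrivial normal p-subgroup modulo its centralizer C, the Thompson subgroup J(G) moves Ω₁(Z(J(C))) only inside V. -/
theorem result {G : Type*} [Group G] [Finite G] {p : ℕ} [Fact p.Prime] (hsep : Cfsg.IsPSolvable p G) (V : Subgroup G) [V.Normal] (hV : Cfsg.IsElementaryAbelian p V) (hO : Cfsg.pCore p (G ⧸ Subgroup.centralizer (V : Set G)) = ⊥) : ⁅Cfsg.omegaOne p (Cfsg.centerThompsonOf p (Subgroup.centralizer (V : Set G))), Cfsg.thompsonSubgroup p G⁆ ≤ V := by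
  classical
  set C := Subgroup.centralizer (V : Set G) with hC
  haveI : C.Normal := Subgroup.normal_centralizer
  obtain ⟨hmeas, -⟩ := CfsgLib.Solv.FFP.transfer hsep V hV hO
  set Z := Cfsg.omegaOne p (Cfsg.centerThompsonOf p C) with hZ
  have key : ∀ A ∈ Cfsg.maxElementaryAbelianSubgroups p G, ∀ z ∈ Z, ∀ a ∈ A, ⁅z, a⁆ ∈ V := by
    intro A hA z hz a ha
    set A₁ := A ⊓ C
    set A' := A₁ ⊔ V with hA'
    have hA₁ : Cfsg.IsElementaryAbelian p A₁ :=
      ⟨⟨⟨fun x y => Subtype.ext (CfsgLib.Solv.commute_of_isElementaryAbelian hA.1 x.2.1 y.2.1)⟩⟩,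
        fun x hx => hA.1.2 x hx.1⟩
    have hVA₁ : V ≤ Subgroup.centralizer (A₁ : Set G) :=
      Subgroup.le_centralizer_iff.1 inf_le_right
    have hA'ea : Cfsg.IsElementaryAbelian p A' := CfsgLib.Solv.isElementaryAbelian_sup hA₁ hV hVA₁
    have hA'C : A' ≤ C := sup_le inf_le_right fun v hv => Subgroup.mem_centralizer_iff.2 fun w hw =>
      CfsgLib.Solv.commute_of_isElementaryAbelian hV hw hv
    have hcard : Nat.card A ≤ Nat.card A' := by
      have h1 := CfsgLib.Solv.card_sup_mul_card_inf A₁ V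
      rw [← hmeas A hA] at h1
      have h2 : Nat.card (A₁ ⊓ V : Subgroup G) ≤
          Nat.card (V ⊓ Subgroup.centralizer (A : Set G) : Subgroup G) :=
        Subgroup.card_le_of_le (le_inf inf_le_right fun x hx => Subgroup.mem_centralizer_iff.2
          fun y hy => CfsgLib.Solv.commute_of_isElementaryAbelian hA.1 hy hx.1.1)
      refine Nat.le_of_mul_le_mul_right ?_ (Nat.card_pos (α :=
        (V ⊓ Subgroup.centralizer (A : Set G) : Subgroup G)))
      rw [← h1]
      exact Nat.mul_le_mul_left _ h2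
    have hmax : ∀ B : Subgroup G, Cfsg.IsElementaryAbelian p B → Nat.card B ≤ Nat.card A' :=
      fun B hB => (hA.2 B hB).trans hcard
    have hA'J : A' ≤ Cfsg.thompsonSubgroupOf p C := by
      have hm : A'.subgroupOf C ∈ Cfsg.maxElementaryAbelianSubgroups p C := by
        refine ⟨⟨⟨⟨fun x y => Subtype.ext (Subtype.ext
          (CfsgLib.Solv.commute_of_isElementaryAbelian hA'ea x.2 y.2))⟩⟩,
          fun x hx => Subtype.ext (by simpa using hA'ea.2 x.1 hx)⟩, fun B hB => ?_⟩
        rw [Nat.card_congr (Subgroup.subgroupOfEquivOfLe hA'C).toEquiv,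
          ← Subgroup.card_map_of_injective C.subtype_injective]
        refine hmax _ ⟨⟨⟨?_⟩⟩, ?_⟩
        · rintro ⟨_, x', hx', rfl⟩ ⟨_, y', hy', rfl⟩
          refine Subtype.ext ?_
          show C.subtype x' * C.subtype y' = C.subtype y' * C.subtype x'
          rw [← map_mul, ← map_mul, CfsgLib.Solv.commute_of_isElementaryAbelian hB hx' hy']
        · rintro _ ⟨x', hx', rfl⟩
          rw [← map_pow, hB.2 x' hx', map_one]
      intro x hx
      exact Subgroup.mem_map.2 ⟨⟨x, hA'C hx⟩, le_sSup hm (Subgroup.mem_subgroupOf.2 hx), rfl⟩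
    have hzA' : Z ≤ A' := by
      refine (Subgroup.closure_le _).2 fun w hw => ?_
      obtain ⟨hw1, hw2⟩ := hw
      have hcen : Subgroup.zpowers w ≤ Subgroup.centralizer (A' : Set G) :=
        Subgroup.zpowers_le.2 (Subgroup.centralizer_le hA'J hw1.2)
      have he := CfsgLib.Solv.isElementaryAbelian_sup hA'ea
        (CfsgLib.Solv.isElementaryAbelian_zpowers hw2) hcen
      exact (Subgroup.eq_of_le_of_card_ge le_sup_left (hmax _ he)).ge
        (Subgroup.mem_sup_right (Subgroup.mem_zpowers w))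
    obtain ⟨v, hv, x, hx, rfl⟩ := CfsgLib.Solv.exists_mul_of_mem_sup
      (show A₁ ≤ Subgroup.normalizer (V : Set G) from Subgroup.normalizer_eq_top (H := V) ▸ le_top)
      (hzA' hz)
    have hxa : x * a = a * x := CfsgLib.Solv.commute_of_isElementaryAbelian hA.1 hx.1 ha
    have h3 : ⁅v * x, a⁆ = v * (a * v⁻¹ * a⁻¹) := by
      calc ⁅v * x, a⁆ = v * (x * a) * x⁻¹ * v⁻¹ * a⁻¹ := by rw [commutatorElement_def]; group
        _ = v * (a * x) * x⁻¹ * v⁻¹ * a⁻¹ := by rw [hxa]
        _ = v * (a * v⁻¹ * a⁻¹) := by group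
    rw [h3]
    exact mul_mem hv (Subgroup.Normal.conj_mem inferInstance _ (inv_mem hv) a)
  let K : Subgroup G := (Subgroup.centralizer ((Z.map (QuotientGroup.mk' V) : Subgroup (G ⧸ V)) :
    Set (G ⧸ V))).comap (QuotientGroup.mk' V)
  have hJ : Cfsg.thompsonSubgroup p G ≤ K := sSup_le fun A hA a ha => by
    refine Subgroup.mem_centralizer_iff.2 ?_
    rintro _ ⟨z, hz, rfl⟩
    refine commutatorElement_eq_one_iff_mul_comm.1 ?_
    rw [← map_commutatorElement]
    exact (QuotientGroup.eq_one_iff _).2 (key A hA z hz a ha)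
  refine Subgroup.commutator_le.2 fun z hz g hg => ?_
  rw [← QuotientGroup.eq_one_iff]
  show QuotientGroup.mk' V ⁅z, g⁆ = 1
  rw [map_commutatorElement]
  exact commutatorElement_eq_one_iff_mul_comm.2
    (Subgroup.mem_centralizer_iff.1 (hJ hg) _ (Subgroup.mem_map_of_mem _ hz))

end Cfsg.Agent.S0619
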