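import Cfsg.Statements.S0620
import Cfsg.Agent.Solv.TransvectionOperators

set_option autoImplicit false
open Cfsg

namespace Cfsg.Agent.S0620

/-- Under coprime action of an elementary abelian q-group X on a p-separable group K with trivial p'-core, K is generated by the normalizer of J(S), the centralizer of Ω₁(Z(S)) and the fixed points of X. -/
theorem result {G : Type*} [Group G] [Finite G] {p : ℕ} [Fact p.Prime] {q : ℕ} [Fact q.Prime] (K X : Subgroup G) (hXK : X ≤ Subgroup.normalizer (K : Set G)) (hX : Cfsg.IsElementaryAbelian q X) (hq : ¬ q ∣ Nat.card K) (hsep : Cfsg.IsPSolvable p ↥K) (hO : Cfsg.pPrimeCore p ↥K = ⊥) (S : Sylow p ↥K) : (Subgroup.normalizer (Cfsg.thompsonSubgroupOf p (S : Subgroup ↥K) : Set ↥K) ⊔ Subgroup.centralizer (Cfsg.omegaOne p ((S : Subgroup ↥K) ⊓ Subgroup.centralizer ((S : Subgroup ↥K) : Set ↥K)) : Set ↥K) ⊔ (Subgroup.centralizer (X : Set G)).subgroupOf K) = ⊤ := by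
  classical
  obtain ⟨-, hJM⟩ := CfsgLib.Solv.FFP.operators K X hXK hX hq hsep hO S
  set N := Subgroup.normalizer (Cfsg.thompsonSubgroupOf p (S : Subgroup ↥K) : Set ↥K)
  set M := N ⊔ _ ⊔ _
  set J := Cfsg.thompsonSubgroup p ↥K
  haveI : J.Characteristic := CfsgLib.Solv.thompsonSubgroup_characteristic
  let T : Sylow p J := (S.2.comap_of_injective J.subtype J.subtype_injective).toSylow
    (fun hd => S.not_dvd_index (hd.trans (CfsgLib.Solv.relIndex_normal_dvd_index (S : Subgroup ↥K) J)))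
  have hT : (T : Subgroup J).map J.subtype = (S : Subgroup ↥K) ⊓ J :=
    Subgroup.subgroupOf_map_subtype (S : Subgroup ↥K) J
  have hJSJ : Cfsg.thompsonSubgroupOf p (S : Subgroup ↥K) =
      Cfsg.thompsonSubgroupOf p ((S : Subgroup ↥K) ⊓ J) := by
    have hJC : Cfsg.thompsonSubgroupOf p (S : Subgroup ↥K) ≤ (S : Subgroup ↥K) ⊓ J := by
      refine le_inf (CfsgLib.Solv.thompsonSubgroupOf_le _) ?_
      rw [show J = _ from CfsgLib.Solv.thompsonSubgroup_eq_iSup_sylow]
      exact le_iSup (fun S : Sylow p ↥K => Cfsg.thompsonSubgroupOf p (S : Subgroup ↥K)) S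
    obtain ⟨A0, hA0⟩ := CfsgLib.Solv.exists_maxEA (p := p) (S : Subgroup ↥K)
    rw [CfsgLib.Solv.thompsonSubgroupOf_eq, CfsgLib.Solv.thompsonSubgroupOf_eq]
    refine le_antisymm (iSup₂_le fun A hA => le_iSup₂_of_le A
      ⟨hA.le_thompsonSubgroupOf.trans hJC, hA.2.1, fun B hB => hA.2.2 B (hB.trans inf_le_left)⟩
      le_rfl) (iSup₂_le fun A hA => ?_)
    exact le_iSup₂_of_le A ⟨hA.1.trans inf_le_left, hA.2.1, fun B hB hBe =>
      (hA0.2.2 B hB hBe).trans (hA.2.2 A0 (hA0.le_thompsonSubgroupOf.trans hJC) hA0.2.1)⟩ le_rfl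
  have hfr : Subgroup.normalizer ((S : Subgroup ↥K) ⊓ J : Subgroup ↥K) ⊔ J = (⊤ : Subgroup ↥K) :=
    hT ▸ Sylow.normalizer_sup_eq_top T
  refine top_le_iff.1 (hfr.ge.trans (sup_le ?_ hJM))
  refine (CfsgLib.Solv.normalizer_le_normalizer_thompsonSubgroupOf (p := p) _).trans ?_
  rw [← hJSJ]
  exact le_sup_of_le_left le_sup_left

end Cfsg.Agent.S0620
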