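import Cfsg.Statements.S0622
import Cfsg.Agent.Fus.ThompsonFactor
import Cfsg.Agent.Solv.ThompsonBasic
import Cfsg.Agent.Inv.Component

set_option autoImplicit false
universe u
open Cfsg

namespace Cfsg.Agent.S0622

theorem map_centralizer {A B : Type*} [Group A] [Group B] (e : A ≃* B) (J : Subgroup A) :
    (Subgroup.centralizer (J : Set A)).map e.toMonoidHom = Subgroup.centralizer ((J.map e.toMonoidHom : Subgroup B) : Set B) := by
  ext y
  obtain ⟨x, rfl⟩ := e.surjective y
  rw [Subgroup.mem_centralizer_iff]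
  constructor
  · rintro ⟨x', hx', hxe⟩ _ ⟨j, hj, rfl⟩
    obtain rfl := e.injective hxe
    show e j * e x' = e x' * e j
    rw [← map_mul, ← map_mul, Subgroup.mem_centralizer_iff.1 hx' j hj]
  · intro h
    refine ⟨x, Subgroup.mem_centralizer_iff.2 fun j hj => e.injective ?_, rfl⟩
    rw [map_mul, map_mul]
    exact h _ ⟨j, hj, rfl⟩

theorem omegaOne_map_equiv {A B : Type*} [Group A] [Group B] (e : A ≃* B) (p : ℕ) (H : Subgroup A) :
    (Cfsg.omegaOne p H).map e.toMonoidHom = Cfsg.omegaOne p (H.map e.toMonoidHom) :=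
  CfsgLib.Solv.omegaOne_map_of_injOn _ _ e.injective.injOn

theorem omegaCenterThompson_map {A B : Type*} [Group A] [Group B] (e : A ≃* B) (p : ℕ) :
    (Cfsg.omegaCenterThompson p A).map e.toMonoidHom = Cfsg.omegaCenterThompson p B := by
  rw [Cfsg.omegaCenterThompson, omegaOne_map_equiv, Subgroup.map_inf _ _ _ e.injective, map_centralizer,
    CfsgLib.Fus.thompsonSubgroup_map]
  rfl

theorem omegaCenter_map {A B : Type*} [Group A] [Group B] (e : A ≃* B) (p : ℕ) :
    (Cfsg.omegaOne p (Subgroup.center A)).map e.toMonoidHom = Cfsg.omegaOne p (Subgroup.center B) := by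
  rw [omegaOne_map_equiv, CfsgLib.Inv.center_map_mulEquiv]

theorem stable_map {A B : Type u} [Group A] [Group B] (e : A ≃* B) (p : ℕ) (W : Subgroup A)
    (hW : Cfsg.omegaOne p (Subgroup.center A) ≤ W ∧
      ∀ (H : Type u) [Group H] (τ : A →* H), Cfsg.IsStableEmbedding p τ → (W.map τ).Normal) :
    Cfsg.omegaOne p (Subgroup.center B) ≤ W.map e.toMonoidHom ∧
      ∀ (H : Type u) [Group H] (τ : B →* H), Cfsg.IsStableEmbedding p τ → ((W.map e.toMonoidHom).map τ).Normal := by
  refine ⟨omegaCenter_map e p ▸ Subgroup.map_mono hW.1, fun H _ τ hτ => ?_⟩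
  rw [Subgroup.map_map]
  obtain ⟨hinj, hfin, ⟨P, hP⟩, hC, hJ, hV⟩ := hτ
  refine hW.2 H _ ⟨hinj.comp e.injective, hfin, ⟨P, ?_⟩, hC, ?_, fun V hVn hVle => ?_⟩
  · rw [hP]; ext y; exact ⟨fun ⟨x, hx⟩ => ⟨e.symm x, (congrArg τ (e.apply_symm_apply x)).trans hx⟩, fun ⟨x, hx⟩ => ⟨e x, hx⟩⟩
  · rw [← Subgroup.map_map, CfsgLib.Fus.thompsonSubgroup_map]
    exact hJ
  · haveI := hVn
    exact hV V (by rwa [← Subgroup.map_map, omegaCenterThompson_map] at hVle)

theorem map_le {A B : Type u} [Group A] [Group B] (e : A ≃* B) (p : ℕ) :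
    (Cfsg.stableNormalClosure p A).map e.toMonoidHom ≤ Cfsg.stableNormalClosure p B := by
  refine le_sInf fun W hW => ?_
  have h : Cfsg.stableNormalClosure p A ≤ W.map e.symm.toMonoidHom := sInf_le (stable_map e.symm p W hW)
  rintro _ ⟨x, hx, rfl⟩
  obtain ⟨w, hw, rfl⟩ := h hx
  simpa using hw


/-- Basic properties of the stable normal closure W(S) of Ω₁(Z(S)) in a finite p-group: characteristic, squeezed between Ω₁(Z(S)) and Ω₁(Z(J(S))), nontrivial for S ≠ 1, and transported by group isomorphisms. -/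
theorem result {S : Type u} [Group S] [Finite S] {p : ℕ} [Fact p.Prime] (hS : IsPGroup p S) : (Cfsg.stableNormalClosure p S).Characteristic ∧ Cfsg.omegaOne p (Subgroup.center S) ≤ Cfsg.stableNormalClosure p S ∧ Cfsg.stableNormalClosure p S ≤ Cfsg.omegaCenterThompson p S ∧ (Nontrivial S → Cfsg.stableNormalClosure p S ≠ ⊥) ∧ ∀ (S' : Type u) [Group S'] (η : S ≃* S'), (Cfsg.stableNormalClosure p S).map η.toMonoidHom = Cfsg.stableNormalClosure p S' := by
  classical
  have hequiv : ∀ (S' : Type u) [Group S'] (η : S ≃* S'),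
      (Cfsg.stableNormalClosure p S).map η.toMonoidHom = Cfsg.stableNormalClosure p S' := by
    intro S' _ η
    refine le_antisymm (map_le η p) fun y hy => ?_
    exact ⟨η.symm y, map_le η.symm p ⟨y, hy, rfl⟩, η.apply_symm_apply y⟩
  have hle : Cfsg.omegaOne p (Subgroup.center S) ≤ Cfsg.omegaCenterThompson p S := by
    refine (Subgroup.closure_le _).2 fun x hx => Subgroup.subset_closure ⟨?_, hx.2⟩
    have hc : x ∈ Subgroup.centralizer (Cfsg.thompsonSubgroup p S : Set S) :=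
      Subgroup.center_le_centralizer _ hx.1
    exact ⟨CfsgLib.Solv.mem_thompsonSubgroup_of_centralizing hc hx.2, hc⟩
  refine ⟨?_, le_sInf fun W hW => hW.1, sInf_le ⟨hle, fun H _ τ hτ => ?_⟩, fun hnt h => ?_, hequiv⟩
  · exact Subgroup.characteristic_iff_map_eq.2 fun e => hequiv S e
  · obtain ⟨hinj, -, -, -, hJ, -⟩ := hτ
    haveI := hJ
    set J := Cfsg.thompsonSubgroup p S with hJdef
    have heq : (Cfsg.omegaCenterThompson p S).map τ =
        Cfsg.omegaOne p (J.map τ ⊓ Subgroup.centralizer ((J.map τ : Subgroup H) : Set H)) := by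
      rw [Cfsg.omegaCenterThompson, CfsgLib.Solv.omegaOne_map_of_injOn _ _ hinj.injOn]
      congr 1
      ext y
      constructor
      · rintro ⟨x, ⟨hxJ, hxC⟩, rfl⟩
        refine ⟨⟨x, hxJ, rfl⟩, Subgroup.mem_centralizer_iff.2 ?_⟩
        rintro _ ⟨j, hj, rfl⟩
        rw [← map_mul, ← map_mul, Subgroup.mem_centralizer_iff.1 hxC j hj]
      · rintro ⟨⟨x, hx, rfl⟩, hC⟩
        refine ⟨x, ⟨hx, Subgroup.mem_centralizer_iff.2 fun j hj => hinj ?_⟩, rfl⟩
        rw [map_mul, map_mul]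
        exact Subgroup.mem_centralizer_iff.1 hC _ ⟨j, hj, rfl⟩
    rw [heq]
    set K := J.map τ ⊓ Subgroup.centralizer ((J.map τ : Subgroup H) : Set H)
    haveI : K.Normal := inferInstance
    refine ⟨fun y hy g => ?_⟩
    have : (Cfsg.omegaOne p K).map (MulAut.conj g).toMonoidHom ≤ Cfsg.omegaOne p K := by
      refine (CfsgLib.Solv.omegaOne_map_le _ _).trans ?_
      exact le_of_eq (congrArg (Cfsg.omegaOne p) (le_antisymm (by rintro _ ⟨k, hk, rfl⟩; exact ‹K.Normal›.conj_mem k hk g) (fun k hk => ⟨g⁻¹ * k * g, by simpa using ‹K.Normal›.conj_mem k hk g⁻¹, show g * (g⁻¹ * k * g) * g⁻¹ = k by group⟩)))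
    exact this ⟨y, hy, rfl⟩
  · haveI := hnt
    haveI := hS.center_nontrivial
    obtain ⟨k, hk0, hk⟩ := (hS.to_subgroup (Subgroup.center S)).nontrivial_iff_card.1 inferInstance
    obtain ⟨z, hz⟩ := exists_prime_orderOf_dvd_card' p (G := Subgroup.center S) (hk ▸ dvd_pow_self p hk0.ne')
    have hm : (z : S) ∈ Cfsg.stableNormalClosure p S := (le_sInf fun W hW => hW.1 : _ ≤ Cfsg.stableNormalClosure p S)
      (Subgroup.subset_closure ⟨z.2, by rw [← hz, ← Subgroup.orderOf_coe, pow_orderOf_eq_one]⟩)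
    rw [h, Subgroup.mem_bot] at hm
    rw [← Subgroup.orderOf_coe, hm, orderOf_one] at hz
    exact (Fact.out : p.Prime).ne_one hz.symm

end Cfsg.Agent.S0622
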