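import Cfsg.Statements.S0629
import Cfsg.Agent.Base.Constrained
import Cfsg.Agent.Perm.HallHigman
-- import your own Cfsg.Agent.* helpers here

set_option autoImplicit false
open Cfsg

namespace Cfsg.Agent.S0629

theorem isPSolvable_equiv {A B : Type*} [Group A] [Group B] (e : A ≃* B) {p : ℕ} (h : Cfsg.IsPSolvable p A) :
    Cfsg.IsPSolvable p B := by
  obtain ⟨n, H, h0, hn, hm, hN, hs⟩ := h
  refine ⟨n, fun i => (H i).map e.toMonoidHom, by simp [h0], by simp [hn, Subgroup.map_top_of_surjective e.toMonoidHom e.surjective],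
    fun i j hij => Subgroup.map_mono (hm hij), fun i => (hN i).map e.toMonoidHom e.surjective, fun i => ?_⟩
  show (∃ m : ℕ, ((H i.castSucc).map e.toMonoidHom).relIndex ((H i.succ).map e.toMonoidHom) = p ^ m) ∨
    (((H i.castSucc).map e.toMonoidHom).relIndex ((H i.succ).map e.toMonoidHom)).Coprime p
  rw [Subgroup.relIndex_map_map_of_injective _ _ e.injective]
  exact hs i

end Cfsg.Agent.S0629

namespace Cfsg.Agent.S0629

/-- A group in which the centralizer of a Sylow p-subgroup of O_{p',p}(G) is p-solvable is p-constrained. -/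
theorem result {G : Type*} [Group G] [Finite G] {p : ℕ} [Fact p.Prime] (P : Sylow p ↥(Cfsg.pPrimePCore p G)) (hsol : Cfsg.IsPSolvable p ↥(Subgroup.centralizer (((P : Subgroup ↥(Cfsg.pPrimePCore p G)).map (Cfsg.pPrimePCore p G).subtype : Subgroup G) : Set G))) : Cfsg.IsPConstrained p G := by
  classical
  haveI := CfsgLib.Solv.pPrimeCore_normal G p
  set K := Cfsg.pPrimeCore p G with hK
  set π := QuotientGroup.mk' K with hπ
  have hbot : Cfsg.pPrimeCore p (G ⧸ K) = ⊥ := CfsgLib.Solv.pPrimeCore_quotient_self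
  rw [Cfsg.Agent.S0630.result, CfsgLib.Base.Constrained.constrained_iff_of_core_bot hbot]
  set Pb := Cfsg.pCore p (G ⧸ K) with hPb
  have hLmap : (Cfsg.pPrimePCore p G).map π = Pb := Subgroup.map_comap_eq_self_of_surjective (QuotientGroup.mk'_surjective K) _
  set X := (P : Subgroup ↥(Cfsg.pPrimePCore p G)).map (Cfsg.pPrimePCore p G).subtype with hX
  have himg : X.map π = Pb := by
    have h1 : IsPGroup p ↥((Cfsg.pPrimePCore p G).map π) := hLmap ▸ CfsgLib.Solv.pCore_isPGroup (G ⧸ K) p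
    have h2 : ((Sylow.mapSurjective (π.subgroupMap_surjective (Cfsg.pPrimePCore p G)) P : Sylow p ↥((Cfsg.pPrimePCore p G).map π)) : Subgroup ↥((Cfsg.pPrimePCore p G).map π)) = ⊤ :=
      (Sylow.is_maximal' _ (Q := ⊤) (h1.of_equiv Subgroup.topEquiv.symm) le_top).symm
    have h3 : ((P : Subgroup ↥(Cfsg.pPrimePCore p G)).map (π.subgroupMap (Cfsg.pPrimePCore p G))).map ((Cfsg.pPrimePCore p G).map π).subtype = X.map π := by
      rw [hX, Subgroup.map_map, Subgroup.map_map]; rfl
    rw [← h3, show ((P : Subgroup ↥(Cfsg.pPrimePCore p G)).map (π.subgroupMap (Cfsg.pPrimePCore p G))) = ⊤ from h2, ← MonoidHom.range_eq_map,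
      Subgroup.range_subtype, hLmap]
  have hXp : IsPGroup p ↥X := P.isPGroup'.map _
  have hcop : (Nat.card X).Coprime (Nat.card K) := by
    obtain ⟨n, hn⟩ := IsPGroup.iff_card.1 hXp
    rw [hn]
    exact (CfsgLib.Solv.pPrimeCore_coprime G p).symm.pow_left n
  set R := Subgroup.centralizer (Pb : Set (G ⧸ K)) with hR
  haveI := hXp.isNilpotent
  have hRC : R = (Subgroup.centralizer (X : Set G)).map π := by
    refine le_antisymm (by rw [hR, ← himg]; exact CfsgLib.Solv.centralizer_map_mk'_le hcop inferInstance) ?_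
    rintro _ ⟨c, hc, rfl⟩
    rw [hR, ← himg, Subgroup.mem_centralizer_iff]
    rintro _ ⟨x, hx, rfl⟩
    rw [← map_mul, ← map_mul, Subgroup.mem_centralizer_iff.mp hc x hx]
  haveI : Pb.Normal := CfsgLib.Solv.pCore_normal _ p
  haveI : R.Normal := Subgroup.normalizer_eq_top_iff.1 (eq_top_iff.2 (by
    rw [← Subgroup.normalizer_eq_top_iff.2 (inferInstance : Pb.Normal)]
    intro n hn
    rw [Subgroup.mem_normalizer_iff'']
    intro c
    simp only [hR, Subgroup.mem_centralizer_iff]
    constructor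
    · intro hc t ht
      have := hc (n * t * n⁻¹) ((Subgroup.mem_normalizer_iff.mp hn t).mp ht)
      calc t * (n⁻¹ * c * n) = n⁻¹ * (n * t * n⁻¹ * c) * n := by group
        _ = n⁻¹ * (c * (n * t * n⁻¹)) * n := by rw [this]
        _ = _ := by group
    · intro hc t ht
      have := hc (n⁻¹ * t * n) ((Subgroup.mem_normalizer_iff''.mp hn t).mp ht)
      calc t * c = n * (n⁻¹ * t * n * (n⁻¹ * c * n)) * n⁻¹ := by group
        _ = n * (n⁻¹ * c * n * (n⁻¹ * t * n)) * n⁻¹ := by rw [this]
        _ = _ := by group))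
  have hRs : Cfsg.IsPSolvable p ↥R := by
    rw [hRC]
    exact isPSolvable_equiv (QuotientGroup.quotientKerEquivOfSurjective _ (π.subgroupMap_surjective _))
      (CfsgLib.Perm.isPSolvable_quotient hsol (π.subgroupMap (Subgroup.centralizer (X : Set G))).ker)
  have hRbot : Cfsg.pPrimeCore p ↥R = ⊥ := by
    have := CfsgLib.Solv.map_pPrimeCore_subtype_eq_inf (p := p) R
    rw [hbot, bot_inf_eq, Subgroup.map_eq_bot_iff, Subgroup.ker_subtype, le_bot_iff] at this
    exact this
  have h4 := CfsgLib.Perm.centralizer_pCore_le_of_pSolvable hRs hRbot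
  have h5 : (Cfsg.pCore p ↥R).map R.subtype ≤ Pb := CfsgLib.Solv.map_pCore_subtype_le R
  intro r hr
  refine h5 ⟨⟨r, hr⟩, h4 (Subgroup.mem_centralizer_iff.mpr fun c hc => ?_), rfl⟩
  exact Subtype.ext (Subgroup.mem_centralizer_iff.mp hr _ (h5 ⟨c, hc, rfl⟩))

end Cfsg.Agent.S0629
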