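-- Statement S0630
import Cfsg.Statements.S0630
import Cfsg.Agent.Solv.PLocalBasic

set_option autoImplicit false
open Cfsg
open scoped commutatorElement Pointwise
set_option linter.style.haveILetI false
set_option linter.deprecated false

namespace Cfsg.Agent.S0630

/-- p-constraint passes to and from the quotient by the largest normal subgroup of order prime to p. -/
theorem result {G : Type*} [Group G] [Finite G] {p : ℕ} [Fact p.Prime] : Cfsg.IsPConstrained p G ↔ Cfsg.IsPConstrained p (G ⧸ Cfsg.pPrimeCore p G) := by
    set M := Cfsg.pPrimeCore p G with hM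
    set q := QuotientGroup.mk' M with hqd
    have hq := QuotientGroup.mk'_surjective M
    set T := Cfsg.pPrimePCore p G with hT
    have hbot : Cfsg.pPrimeCore p (G ⧸ M) = ⊥ := CfsgLib.Solv.pPrimeCore_quotient_self
    have hTQ : Cfsg.pPrimePCore p (G ⧸ M) = T.map q := by
      have h1 : Cfsg.pPrimePCore p (G ⧸ M) = Cfsg.pCore p (G ⧸ M) := by
        have hinj : Function.Injective (QuotientGroup.mk' (Cfsg.pPrimeCore p (G ⧸ M))) := by
          rw [← MonoidHom.ker_eq_bot_iff, QuotientGroup.ker_mk', hbot]
        set e := MulEquiv.ofBijective _ ⟨hinj, QuotientGroup.mk'_surjective _⟩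
        show (Cfsg.pCore p _).comap (QuotientGroup.mk' (Cfsg.pPrimeCore p (G ⧸ M))) = _
        rw [← CfsgLib.Solv.map_pCore_equiv e]
        exact Subgroup.comap_map_eq_self_of_injective hinj _
      rw [h1]
      exact (Subgroup.map_comap_eq_self_of_surjective hq _).symm
    have hMT : M ≤ T := QuotientGroup.le_comap_mk' M _
    -- both conditions refer to the image of one Sylow subgroup of `T`
    have hiff : ∀ P : Sylow p T,
        (Subgroup.centralizer (((P : Subgroup T).map T.subtype : Subgroup G) : Set G) ≤ T ↔
          Subgroup.centralizer ((((P : Subgroup T).map T.subtype).map q : Subgroup (G ⧸ M)) :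
            Set (G ⧸ M)) ≤ T.map q) := by
      intro P
      set X := (P : Subgroup T).map T.subtype
      have hX : IsPGroup p X := P.2.map _
      have hcop : (Nat.card X).Coprime (Nat.card M) := by
        obtain ⟨k, hk⟩ := hX.exists_card_eq
        rw [hk]
        exact ((CfsgLib.Solv.pPrimeCore_coprime G p).symm).pow_left k
      haveI := hX.isNilpotent
      constructor
      · exact fun h => (CfsgLib.Solv.centralizer_map_mk'_le hcop inferInstance).trans (Subgroup.map_mono h)
      · intro h c hc
        have h1 : q c ∈ Subgroup.centralizer ((X.map q : Subgroup (G ⧸ M)) : Set (G ⧸ M)) := by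
          rw [Subgroup.mem_centralizer_iff]
          rintro _ ⟨x, hx, rfl⟩
          rw [← map_mul, ← map_mul, Subgroup.mem_centralizer_iff.1 hc x hx]
        obtain ⟨t, ht, e⟩ := h h1
        have h2 : t⁻¹ * c ∈ T := hMT (QuotientGroup.eq.1 e)
        simpa using mul_mem ht h2
    let f : T →* T.map q := q.subgroupMap T
    have hf : Function.Surjective f := q.subgroupMap_surjective T
    have himg : ∀ P : Sylow p T,
        ((Sylow.mapSurjective hf P : Subgroup (T.map q))).map (T.map q).subtype =
          ((P : Subgroup T).map T.subtype).map q := fun P => by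
      show ((P : Subgroup T).map f).map (T.map q).subtype = _
      rw [Subgroup.map_map, Subgroup.map_map]
      rfl
    show (∀ _, _) ↔ ∀ _, _
    constructor
    · intro h
      show ∀ P : Sylow p (Cfsg.pPrimePCore p (G ⧸ M)), _
      rw [hTQ]
      intro P'
      obtain ⟨P, rfl⟩ := Sylow.mapSurjective_surjective hf p P'
      rw [himg]
      exact (hiff P).1 (h P)
    · intro h P
      have h' : ∀ P : Sylow p (Cfsg.pPrimePCore p (G ⧸ M)), Subgroup.centralizer
          (((P : Subgroup _).map (Cfsg.pPrimePCore p (G ⧸ M)).subtype : Subgroup (G ⧸ M)) : Set (G ⧸ M))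
          ≤ Cfsg.pPrimePCore p (G ⧸ M) := h
      rw [hTQ] at h'
      have h1 := h' (Sylow.mapSurjective hf P)
      rw [himg] at h1
      exact (hiff P).2 h1

end Cfsg.Agent.S0630
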