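import Cfsg.Statements.S0631
import Cfsg.Agent.Base.Constrained
-- import your own Cfsg.Agent.* helpers here

set_option autoImplicit false
open Cfsg

namespace Cfsg.Agent.S0631

/-- In a p-constrained group the normalizer and the centralizer of any p-subgroup are again p-constrained. -/
theorem result {G : Type*} [Group G] [Finite G] {p : ℕ} [Fact p.Prime] (hG : Cfsg.IsPConstrained p G) (P : Subgroup G) (hP : IsPGroup p P) : Cfsg.IsPConstrained p ↥(Subgroup.normalizer (P : Set G)) ∧ Cfsg.IsPConstrained p ↥(Subgroup.centralizer (P : Set G)) := by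
  have hN := CfsgLib.Base.Constrained.constrained_normalizer hG hP
  refine ⟨hN, CfsgLib.Base.Constrained.constrained_sub hN (Subgroup.centralizer_le_normalizer _) ?_⟩
  intro n hn
  rw [Subgroup.mem_normalizer_iff'']
  intro c
  simp only [Subgroup.mem_centralizer_iff]
  constructor
  · intro hc t ht
    have := hc (n * t * n⁻¹) ((Subgroup.mem_normalizer_iff.mp hn t).mp ht)
    calc t * (n⁻¹ * c * n) = n⁻¹ * (n * t * n⁻¹ * c) * n := by group
      _ = n⁻¹ * (c * (n * t * n⁻¹)) * n := by rw [this]
      _ = _ := by group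
  · intro hc t ht
    have := hc (n⁻¹ * t * n) ((Subgroup.mem_normalizer_iff''.mp hn t).mp ht)
    calc t * c = n * (n⁻¹ * t * n * (n⁻¹ * c * n)) * n⁻¹ := by group
      _ = n * (n⁻¹ * c * n * (n⁻¹ * t * n)) * n⁻¹ := by rw [this]
      _ = _ := by group

end Cfsg.Agent.S0631
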