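import Cfsg.Statements.S0632
import Cfsg.Agent.Solv.ThompsonPre
import Cfsg.Agent.Solv.Basic

set_option autoImplicit false
open Cfsg

namespace Cfsg.Agent.S0632


universe u
open scoped commutatorElement
variable {G : Type u} [Group G] [Finite G] {p : ℕ} [hp : Fact p.Prime]

open CfsgLib.Solv in
theorem inf_K {P : Subgroup G} (hP : IsPGroup p P) : P ⊓ Cfsg.pPrimeCore p G = ⊥ :=
  sylow_inf_eq_bot_of_not_dvd hP not_dvd_card_pPrimeCore

open CfsgLib.Solv in
theorem core_iff {A P : Subgroup G} (hP : IsPGroup p P) (hAP : A ≤ Subgroup.normalizer (P : Set G)) :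
    ((A.subgroupOf (Subgroup.normalizer (P : Set G))).map
      (QuotientGroup.mk' ((Subgroup.centralizer (P : Set G)).subgroupOf
        (Subgroup.normalizer (P : Set G)))) ≤ Cfsg.pCore p _) ↔
    (((A.map (QuotientGroup.mk' (Cfsg.pPrimeCore p G))).subgroupOf
        (Subgroup.normalizer (P.map (QuotientGroup.mk' (Cfsg.pPrimeCore p G)) :
          Set (G ⧸ Cfsg.pPrimeCore p G)))).map
      (QuotientGroup.mk' ((Subgroup.centralizer (P.map (QuotientGroup.mk' (Cfsg.pPrimeCore p G)) :
          Set (G ⧸ Cfsg.pPrimeCore p G))).subgroupOf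
        (Subgroup.normalizer (P.map (QuotientGroup.mk' (Cfsg.pPrimeCore p G)) :
          Set (G ⧸ Cfsg.pPrimeCore p G))))) ≤ Cfsg.pCore p _) := by
  set π := QuotientGroup.mk' (Cfsg.pPrimeCore p G) with hπ
  set N := Subgroup.normalizer (P : Set G)
  set N' := Subgroup.normalizer (P.map π : Set (G ⧸ Cfsg.pPrimeCore p G))
  set C' := (Subgroup.centralizer (P.map π : Set (G ⧸ Cfsg.pPrimeCore p G))).subgroupOf N'
  let f : N →* N' := (π.comp N.subtype).codRestrict N' fun n =>
    Subgroup.le_normalizer_map π (Subgroup.mem_map_of_mem π n.2)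
  have hf : Function.Surjective f := fun y => by
    haveI := hP.isNilpotent
    obtain ⟨k, hk⟩ := hP.exists_card_eq
    obtain ⟨n, hn, hne⟩ := normalizer_map_mk'_le (X := P) (M := Cfsg.pPrimeCore p G)
      (by rw [hk]; exact (pPrimeCore_coprime G p).symm.pow_left k) inferInstance y.2
    exact ⟨⟨n, hn⟩, Subtype.ext hne⟩
  set φ : N →* N' ⧸ C' := (QuotientGroup.mk' C').comp f
  have hφ : Function.Surjective φ := (QuotientGroup.mk'_surjective C').comp hf
  have hker : φ.ker = (Subgroup.centralizer (P : Set G)).subgroupOf N := by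
    ext ⟨n, hn⟩
    rw [MonoidHom.mem_ker]
    show QuotientGroup.mk' C' (f ⟨n, hn⟩) = 1 ↔ n ∈ Subgroup.centralizer (P : Set G)
    rw [QuotientGroup.mk'_apply, QuotientGroup.eq_one_iff]
    show π n ∈ Subgroup.centralizer (P.map π : Set _) ↔ _
    constructor
    · intro h
      refine Subgroup.mem_centralizer_iff.2 fun x hx => ?_
      have h1 : ⁅x, n⁆ ∈ P ⊓ Cfsg.pPrimeCore p G := by
        refine Subgroup.mem_inf.2 ⟨?_, (QuotientGroup.eq_one_iff _).1 ?_⟩
        · rw [commutatorElement_def, show x * n * x⁻¹ * n⁻¹ = x * (n * x⁻¹ * n⁻¹) by group]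
          exact P.mul_mem hx ((Subgroup.mem_normalizer_iff.1 hn _).1 (P.inv_mem hx))
        · show π ⁅x, n⁆ = 1
          rw [map_commutatorElement, commutatorElement_eq_one_iff_mul_comm]
          exact Subgroup.mem_centralizer_iff.1 h (π x) ⟨x, hx, rfl⟩
      rwa [inf_K hP, Subgroup.mem_bot, commutatorElement_eq_one_iff_mul_comm] at h1
    · intro h
      refine Subgroup.mem_centralizer_iff.2 ?_
      rintro _ ⟨x, hx, rfl⟩
      rw [← map_mul, ← map_mul, Subgroup.mem_centralizer_iff.1 h x hx]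
  set e : (N ⧸ (Subgroup.centralizer (P : Set G)).subgroupOf N) ≃* N' ⧸ C' :=
    (QuotientGroup.quotientMulEquivOfEq hker.symm).trans (QuotientGroup.quotientKerEquivOfSurjective φ hφ)
  have h1 : ((A.subgroupOf N).map (QuotientGroup.mk' _)).map e.toMonoidHom =
      ((A.map π).subgroupOf N').map (QuotientGroup.mk' C') := by
    rw [Subgroup.map_map, show e.toMonoidHom.comp (QuotientGroup.mk'
      ((Subgroup.centralizer (P : Set G)).subgroupOf N)) = φ from MonoidHom.ext fun _ => rfl,
      show φ = (QuotientGroup.mk' C').comp f from rfl, ← Subgroup.map_map]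
    congr 1
    ext ⟨y, hy⟩
    constructor
    · rintro ⟨⟨a, ha⟩, haA, hay⟩
      exact ⟨a, haA, congrArg Subtype.val hay⟩
    · rintro ⟨a, haA, hay⟩
      exact ⟨⟨a, hAP haA⟩, haA, Subtype.ext hay⟩
  rw [← Subgroup.map_le_map_iff_of_injective (f := e.toMonoidHom) e.injective, h1, map_pCore_equiv e]


/-- For a group with a nontrivial normal p-subgroup, p-stability passes to and from the quotient by the largest normal subgroup of order prime to p. -/
theorem result {G : Type*} [Group G] [Finite G] {p : ℕ} [Fact p.Prime] (hO : Cfsg.pCore p G ≠ ⊥) : Cfsg.IsPStable p G ↔ Cfsg.IsPStable p (G ⧸ Cfsg.pPrimeCore p G) := by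
  set π := QuotientGroup.mk' (Cfsg.pPrimeCore p G) with hπ
  have hsurj : Function.Surjective π := QuotientGroup.mk'_surjective _
  have hbot : Cfsg.pPrimeCore p (G ⧸ Cfsg.pPrimeCore p G) = ⊥ := CfsgLib.Solv.pPrimeCore_quotient_self
  haveI := CfsgLib.Solv.pPrimeCore_normal (p := p) (G := G)
  have hOne : Cfsg.pCore p (G ⧸ Cfsg.pPrimeCore p G) ≠ ⊥ := by
    intro h
    refine hO (le_bot_iff.1 ?_)
    rw [← inf_K (CfsgLib.Solv.pCore_isPGroup G p)]
    refine le_inf le_rfl ?_
    have h1 := CfsgLib.Solv.map_pCore_le (p := p) hsurj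
    rw [h, le_bot_iff, Subgroup.map_eq_bot_iff, QuotientGroup.ker_mk'] at h1
    exact h1
  have hcore : ∀ Q : Subgroup (G ⧸ Cfsg.pPrimeCore p G),
      Q ≤ Cfsg.pPrimePCore p (G ⧸ Cfsg.pPrimeCore p G) ↔ Q.comap π ≤ Cfsg.pPrimePCore p G := by
    intro Q
    rw [show Cfsg.pPrimePCore p (G ⧸ Cfsg.pPrimeCore p G) = Cfsg.pCore p (G ⧸ Cfsg.pPrimeCore p G) from ?_]
    · exact (Subgroup.comap_le_comap_of_surjective hsurj).symm
    · have hm := CfsgLib.Solv.map_pCore_equiv (p := p)
        ((QuotientGroup.quotientMulEquivOfEq hbot).trans QuotientGroup.quotientBot).symm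
      rw [Cfsg.pPrimePCore, ← hm]
      refine (congrArg (Subgroup.comap (QuotientGroup.mk' _)) ?_).trans
        (Subgroup.comap_map_eq_self_of_injective ?_ _)
      · rfl
      · rw [← MonoidHom.ker_eq_bot_iff, QuotientGroup.ker_mk', hbot]
  constructor
  · rintro ⟨hodd, -, h⟩
    refine ⟨hodd, hOne, fun A P hA hP hAP hPle hPn hq => ?_⟩
    rw [hbot, bot_sup_eq] at hPn
    haveI := hPn
    set L := P.comap π with hL
    obtain ⟨R⟩ : Nonempty (Sylow p L) := inferInstance
    set P₁ := (R : Subgroup L).map L.subtype with hP₁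
    have hP₁p : IsPGroup p P₁ := R.2.map _
    have himg : ∀ (X : Subgroup G) (T : Sylow p X) (Y : Subgroup (G ⧸ Cfsg.pPrimeCore p G)),
        X.map π = Y → IsPGroup p Y → ((T : Subgroup X).map X.subtype).map π = Y := by
      intro X T Y hXY hY
      subst hXY
      have h1 : ((T.mapSurjective (π.subgroupMap_surjective X) : Sylow p (X.map π)) :
          Subgroup (X.map π)) = ⊤ :=
        ((T.mapSurjective _).is_maximal' (Q := ⊤) (hY.of_equiv Subgroup.topEquiv.symm) le_top).symm
      rw [Sylow.coe_mapSurjective] at h1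
      have h2 := congrArg (Subgroup.map (X.map π).subtype) h1
      rw [Subgroup.map_map, ← MonoidHom.range_eq_map, Subgroup.range_subtype] at h2
      rw [Subgroup.map_map, ← h2]
      congr 1
    have hP₁π : P₁.map π = P := himg L R P (Subgroup.map_comap_eq_self_of_surjective hsurj P) hP
    have hKP₁ : Cfsg.pPrimeCore p G ⊔ P₁ = L := by
      rw [hL, ← hP₁π, Subgroup.comap_map_eq, QuotientGroup.ker_mk', sup_comm]
    set X := A.comap π ⊓ Subgroup.normalizer (P₁ : Set G) with hX
    have hXA : X.map π = A := by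
      refine le_antisymm ((Subgroup.map_mono inf_le_left).trans (Subgroup.map_comap_le _ _)) fun a ha => ?_
      haveI := hP₁p.isNilpotent
      obtain ⟨k, hk⟩ := hP₁p.exists_card_eq
      obtain ⟨n, hn, hne⟩ := CfsgLib.Solv.normalizer_map_mk'_le (X := P₁) (M := Cfsg.pPrimeCore p G)
        (by rw [hk]; exact (CfsgLib.Solv.pPrimeCore_coprime G p).symm.pow_left k) inferInstance
        (show a ∈ Subgroup.normalizer (P₁.map π : Set _) by
          rw [hP₁π]
          exact CfsgLib.Solv.le_normalizer_iff_forall_conj_mem.2 hAP ha)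
      exact ⟨n, ⟨show π n ∈ A by rw [hne]; exact ha, hn⟩, hne⟩
    obtain ⟨T⟩ : Nonempty (Sylow p X) := inferInstance
    set A₁ := (T : Subgroup X).map X.subtype
    have hA₁π : A₁.map π = A := himg X T A hXA hA
    have hA₁N : A₁ ≤ Subgroup.normalizer (P₁ : Set G) := (Subgroup.map_subtype_le _).trans inf_le_right
    have h1 := h A₁ P₁ (T.2.map _) hP₁p
      (fun a ha x hx => (Subgroup.mem_normalizer_iff.1 (hA₁N ha) x).1 hx)
      ((Subgroup.map_subtype_le _).trans ((hcore P).1 hPle)) (hKP₁ ▸ hPn.comap π) (le_bot_iff.1 ?_)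
    · rw [core_iff hP₁p hA₁N, hP₁π, hA₁π] at h1
      exact h1
    · rw [← inf_K hP₁p]
      refine le_inf ?_ ?_
      · have h3 : ⁅P₁, A₁⁆ ≤ P₁ := Subgroup.commutator_le.2 fun x hx a ha => by
          rw [commutatorElement_def, show x * a * x⁻¹ * a⁻¹ = x * (a * x⁻¹ * a⁻¹) by group]
          exact P₁.mul_mem hx ((Subgroup.mem_normalizer_iff.1 (hA₁N ha) _).1 (P₁.inv_mem hx))
        exact (Subgroup.commutator_mono h3 le_rfl).trans h3
      · have h4 : ⁅⁅P₁, A₁⁆, A₁⁆.map π = ⊥ := by
          rw [Subgroup.map_commutator, Subgroup.map_commutator, hP₁π, hA₁π, hq]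
        rwa [Subgroup.map_eq_bot_iff, QuotientGroup.ker_mk'] at h4
  · rintro ⟨hodd, -, h⟩
    refine ⟨hodd, hO, fun A P hA hP hAP hPle hPn hq => ?_⟩
    have hAN : A ≤ Subgroup.normalizer (P : Set G) :=
      CfsgLib.Solv.le_normalizer_iff_forall_conj_mem.2 hAP
    rw [core_iff hP hAN]
    refine h _ _ (hA.map π) (hP.map π) ?_ ((hcore _).2 ?_) ?_ ?_
    · rintro _ ⟨a, ha, rfl⟩ _ ⟨x, hx, rfl⟩
      exact ⟨_, hAP a ha x hx, by simp⟩
    · rw [Subgroup.comap_map_eq, QuotientGroup.ker_mk']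
      refine sup_le hPle ?_
      have := Subgroup.ker_le_comap π (Cfsg.pCore p (G ⧸ Cfsg.pPrimeCore p G))
      rwa [QuotientGroup.ker_mk'] at this
    · rw [hbot, bot_sup_eq]
      have h2 := hPn.map π hsurj
      rwa [Subgroup.map_sup, (Subgroup.map_eq_bot_iff _).2 (QuotientGroup.ker_mk' _).ge, bot_sup_eq] at h2
    · rw [← Subgroup.map_commutator, ← Subgroup.map_commutator, hq, Subgroup.map_bot]

end Cfsg.Agent.S0632
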