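import Cfsg.Statements.S0634
import Cfsg.Agent.Perm.HallHigman
import Cfsg.Agent.Solv.Basic

set_option autoImplicit false
open Cfsg

namespace Cfsg.Agent.S0634

/-- In a p-soluble group each p-factor of the upper p-series contains its own centralizer in the corresponding quotient. -/
theorem result {G : Type*} [Group G] [Finite G] {p : ℕ} [Fact p.Prime] (hsol : Cfsg.IsPSolvable p G) (k : ℕ) : Subgroup.centralizer ((((Cfsg.upperPSeries p G (2 * k + 2)).1.map (QuotientGroup.mk' (Cfsg.upperPSeries p G (2 * k + 1)).1)) : Subgroup (G ⧸ (Cfsg.upperPSeries p G (2 * k + 1)).1)) : Set (G ⧸ (Cfsg.upperPSeries p G (2 * k + 1)).1)) ≤ (Cfsg.upperPSeries p G (2 * k + 2)).1.map (QuotientGroup.mk' (Cfsg.upperPSeries p G (2 * k + 1)).1) := by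
  classical
  set U0 := (Cfsg.upperPSeries p G (2 * k)).1 with hU0
  set U1 := (Cfsg.upperPSeries p G (2 * k + 1)).1 with hU1
  have e1 : U1 = (Cfsg.pPrimeCore p (G ⧸ U0)).comap (QuotientGroup.mk' U0) := by
    rw [hU1, Cfsg.upperPSeries]
    simp only [even_two_mul, if_true]
    rfl
  have e2 : (Cfsg.upperPSeries p G (2 * k + 2)).1 = (Cfsg.pCore p (G ⧸ U1)).comap (QuotientGroup.mk' U1) := by
    rw [show 2 * k + 2 = (2 * k + 1) + 1 from rfl, Cfsg.upperPSeries]
    simp only [Nat.not_even_iff_odd.2 (odd_two_mul_add_one k), if_false]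
    rfl
  haveI := CfsgLib.Solv.pPrimeCore_normal (G ⧸ U0) p
  have h01 : U0 ≤ U1 := by
    rw [e1]
    intro x hx
    rw [Subgroup.mem_comap, show QuotientGroup.mk' U0 x = 1 from (QuotientGroup.eq_one_iff x).2 hx]
    exact one_mem _
  have hmap : U1.map (QuotientGroup.mk' U0) = Cfsg.pPrimeCore p (G ⧸ U0) := by
    rw [e1, Subgroup.map_comap_eq_self_of_surjective (QuotientGroup.mk'_surjective U0)]
  let e : (G ⧸ U0) ⧸ Cfsg.pPrimeCore p (G ⧸ U0) ≃* G ⧸ U1 :=
    (QuotientGroup.quotientMulEquivOfEq hmap.symm).trans (QuotientGroup.quotientQuotientEquivQuotient U0 U1 h01)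
  have hO : Cfsg.pPrimeCore p (G ⧸ U1) = ⊥ := by
    rw [← CfsgLib.Solv.map_pPrimeCore_equiv (p := p) e, CfsgLib.Solv.pPrimeCore_quotient_self, Subgroup.map_bot]
  have h := CfsgLib.Perm.centralizer_pCore_le_of_pSolvable (CfsgLib.Perm.isPSolvable_quotient hsol U1) hO
  rw [e2, Subgroup.map_comap_eq_self_of_surjective (QuotientGroup.mk'_surjective U1)]
  exact h

end Cfsg.Agent.S0634
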