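import Cfsg.Statements.S0635
import Cfsg.Agent.Solv.PLengthOne

set_option autoImplicit false
open Cfsg

namespace Cfsg.Agent.S0635

universe u

theorem comap_step {G Q : Type u} [Group G] [Group Q] {p : ℕ} (f : G →* Q) (hf : Function.Surjective f)
    (V : Subgroup G) [V.Normal] (U : Subgroup Q) [U.Normal] (hV : V = U.comap f) :
    (Cfsg.pPrimeCore p (G ⧸ V)).comap (QuotientGroup.mk' V) =
        ((Cfsg.pPrimeCore p (Q ⧸ U)).comap (QuotientGroup.mk' U)).comap f ∧
      (Cfsg.pCore p (G ⧸ V)).comap (QuotientGroup.mk' V) =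
        ((Cfsg.pCore p (Q ⧸ U)).comap (QuotientGroup.mk' U)).comap f := by
  set h := (QuotientGroup.mk' U).comp f
  have hs : Function.Surjective h := (QuotientGroup.mk'_surjective U).comp hf
  have hk : V = h.ker := by rw [hV, ← MonoidHom.comap_ker, QuotientGroup.ker_mk']
  let e : G ⧸ V ≃* Q ⧸ U := (QuotientGroup.quotientMulEquivOfEq hk).trans
    (QuotientGroup.quotientKerEquivOfSurjective h hs)
  have he : ∀ x : G, e (QuotientGroup.mk' V x) = h x := fun x => rfl
  constructor
  · rw [← CfsgLib.Solv.map_pPrimeCore_equiv (p := p) e]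
    ext x
    rw [Subgroup.mem_comap, Subgroup.mem_comap, Subgroup.mem_comap, show QuotientGroup.mk' U (f x) = h x from rfl,
      ← he x]
    exact (Subgroup.mem_map_iff_mem e.injective).symm
  · rw [← CfsgLib.Solv.map_pCore_equiv (p := p) e]
    ext x
    rw [Subgroup.mem_comap, Subgroup.mem_comap, Subgroup.mem_comap, show QuotientGroup.mk' U (f x) = h x from rfl,
      ← he x]
    exact (Subgroup.mem_map_iff_mem e.injective).symm

theorem series_shift {G : Type u} [Group G] (p : ℕ) : ∀ n : ℕ,
    (Cfsg.upperPSeries p G (n + 2)).1 =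
      (Cfsg.upperPSeries p (G ⧸ (Cfsg.upperPSeries p G 2).1) n).1.comap
        (QuotientGroup.mk' (Cfsg.upperPSeries p G 2).1) := by
  intro n
  induction n with
  | zero =>
    show (Cfsg.upperPSeries p G 2).1 = (⊥ : Subgroup _).comap _
    rw [MonoidHom.comap_bot, QuotientGroup.ker_mk']
  | succ n ih =>
    have hs := comap_step (p := p) (QuotientGroup.mk' (Cfsg.upperPSeries p G 2).1) (QuotientGroup.mk'_surjective _)
      (Cfsg.upperPSeries p G (n + 2)).1
      (Cfsg.upperPSeries p (G ⧸ (Cfsg.upperPSeries p G 2).1) n).1 ih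
    rw [show n + 1 + 2 = (n + 2) + 1 by omega]
    by_cases he : Even n
    · simp only [Cfsg.upperPSeries, if_pos he, if_pos (show Even (n + 2) from he.add even_two)]
      exact hs.1
    · simp only [Cfsg.upperPSeries, if_neg he, if_neg (show ¬ Even (n + 2) from fun h => he ((Nat.even_add.1 h).2 even_two))]
      exact hs.2

theorem aux : ∀ (c : ℕ) (G : Type u) [Group G] [Finite G] (p : ℕ) [Fact p.Prime], Cfsg.IsPSolvable p G →
    ∀ P : Sylow p G, Group.nilpotencyClass ↥(P : Subgroup G) ≤ c → Cfsg.PLengthLE p c G := by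
  intro c
  induction c with
  | zero =>
    intro G _ _ p _ hG P hP
    haveI := P.2.isNilpotent
    haveI : Subsingleton ↥(P : Subgroup G) := Group.nilpotencyClass_zero_iff_subsingleton.1 (Nat.le_zero.1 hP)
    have hp1 : ¬ p ∣ Nat.card G := fun h => by
      have h2 := P.dvd_card_of_dvd_card h
      rw [Nat.card_of_subsingleton (1 : ↥(P : Subgroup G))] at h2
      exact (Fact.out : p.Prime).ne_one (Nat.dvd_one.1 h2)
    show (Cfsg.pPrimeCore p (G ⧸ (⊥ : Subgroup G))).comap (QuotientGroup.mk' (⊥ : Subgroup G)) = ⊤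
    rw [eq_top_iff.2 (CfsgLib.Solv.le_pPrimeCore (N := (⊤ : Subgroup (G ⧸ (⊥ : Subgroup G))))
      (by rw [Subgroup.card_top, Nat.coprime_comm, (Fact.out : p.Prime).coprime_iff_not_dvd]
          exact fun h => hp1 (h.trans (Subgroup.card_quotient_dvd_card _)))), Subgroup.comap_top]
  | succ c ih =>
    intro G _ _ p _ hG P hP
    haveI := P.2.isNilpotent
    set U1 := (Cfsg.upperPSeries p G 1).1 with hU1
    set K := Cfsg.pPrimeCore p G with hKdef
    haveI : K.Normal := CfsgLib.Solv.pPrimeCore_normal G p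
    have hU1' : U1 = K := by
      show (Cfsg.pPrimeCore p (G ⧸ (⊥ : Subgroup G))).comap (QuotientGroup.mk' ⊥) = _
      rw [hKdef, ← CfsgLib.Solv.map_pPrimeCore_equiv (p := p) (QuotientGroup.quotientBot (G := G)).symm]
      exact Subgroup.comap_map_eq_self_of_injective (f := QuotientGroup.mk' (⊥ : Subgroup G))
            (fun a b hab => by simpa [QuotientGroup.eq, inv_mul_eq_one] using hab) _
    set e := QuotientGroup.mk' U1 with he
    have hes : Function.Surjective e := QuotientGroup.mk'_surjective _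
    have hbot : Cfsg.pPrimeCore p (G ⧸ U1) = ⊥ := by
      rw [← CfsgLib.Solv.map_pPrimeCore_equiv (p := p) (QuotientGroup.quotientMulEquivOfEq hU1').symm,
        CfsgLib.Solv.pPrimeCore_quotient_self, Subgroup.map_bot]
    set R := Cfsg.pCore p (G ⧸ U1) with hRdef
    haveI : R.Normal := CfsgLib.Solv.pCore_normal _ p
    have hCR := CfsgLib.Perm.centralizer_pCore_le_of_pSolvable (CfsgLib.Perm.isPSolvable_quotient hG U1) hbot
    set U2 := (Cfsg.upperPSeries p G 2).1 with hU2
    have hU2' : U2 = R.comap e := rfl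
    set π := QuotientGroup.mk' U2 with hπ
    set PQ := (P : Subgroup G).map e with hPQ
    let PQs : Sylow p (G ⧸ U1) := P.mapSurjective hes
    have hR : R ≤ PQ := CfsgLib.Solv.pCore_le_sylow PQs
    haveI := (P.2.map e).isNilpotent
    have hc1 : Group.nilpotencyClass ↥PQ ≤ c + 1 :=
      (Group.nilpotencyClass_le_of_surjective _ (e.subgroupMap_surjective (P : Subgroup G))).trans hP
    let T := (P.mapSurjective (QuotientGroup.mk'_surjective U2) : Sylow p (G ⧸ U2))
    have hker : ∀ x : ↥(P : Subgroup G), (e.subgroupMap (P : Subgroup G)) x ∈ Subgroup.center ↥PQ →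
        π x = 1 := by
      intro x hx
      refine (QuotientGroup.eq_one_iff _).2 ?_
      show e (x : G) ∈ R
      refine hCR (Subgroup.mem_centralizer_iff.2 fun r hr => ?_)
      exact congrArg Subtype.val (Subgroup.mem_center_iff.1 hx ⟨r, hR hr⟩)
    have hex : ∃ g : (↥PQ ⧸ Subgroup.center ↥PQ) →* ↥(T : Subgroup (G ⧸ U2)), Function.Surjective g := by
      let α : ↥(P : Subgroup G) →* ↥PQ ⧸ Subgroup.center ↥PQ :=
        (QuotientGroup.mk' _).comp (e.subgroupMap (P : Subgroup G))
      have hα : Function.Surjective α := (QuotientGroup.mk'_surjective _).comp (e.subgroupMap_surjective _)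
      let β : ↥(P : Subgroup G) →* ↥(T : Subgroup (G ⧸ U2)) := π.subgroupMap (P : Subgroup G)
      refine ⟨α.liftOfSurjective hα ⟨β, fun x hx => Subtype.ext (hker x ((QuotientGroup.eq_one_iff _).1 hx))⟩, ?_⟩
      intro t
      obtain ⟨x, rfl⟩ := π.subgroupMap_surjective (P : Subgroup G) t
      exact ⟨α x, α.liftOfRightInverse_comp_apply _ (Function.rightInverse_surjInv hα) _ x⟩
    obtain ⟨g, hg⟩ := hex
    have hclass : Group.nilpotencyClass ↥(T : Subgroup (G ⧸ U2)) ≤ c := by
      refine (Group.nilpotencyClass_le_of_surjective g hg).trans ?_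
      rw [Group.nilpotencyClass_quotient_center]; omega
    have hfin := ih (G ⧸ U2) p (CfsgLib.Perm.isPSolvable_quotient hG U2) T hclass
    show (Cfsg.upperPSeries p G (2 * (c + 1) + 1)).1 = ⊤
    rw [show 2 * (c + 1) + 1 = (2 * c + 1) + 2 by ring, series_shift, hfin, Subgroup.comap_top]


/-- The p-length of a p-soluble group is at most the nilpotency class of its Sylow p-subgroups. -/
theorem result {G : Type*} [Group G] [Finite G] {p : ℕ} [Fact p.Prime] (hsol : Cfsg.IsPSolvable p G) (S : Sylow p G) : Cfsg.PLengthLE p (Group.nilpotencyClass ↥(S : Subgroup G)) G := by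
  exact aux _ G p hsol S le_rfl

end Cfsg.Agent.S0635
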