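import Cfsg.Statements.S0637
import Cfsg.Agent.Perm.BlackburnRankTwo
import Cfsg.Agent.Fus.MetacyclicOdd
-- import your own Cfsg.Agent.* helpers here

set_option autoImplicit false
open Cfsg

namespace Cfsg.Agent.S0637

/-- For p greater than 3, the bound p² on the order of the subgroup generated by the elements of order dividing p passes from a p-group to all its quotients. -/
theorem result {R : Type*} [Group R] [Finite R] {p : ℕ} [Fact p.Prime] (hp : 3 < p) (hR : IsPGroup p R) (hO : Nat.card ↥(Cfsg.omegaOne p (⊤ : Subgroup R)) ≤ p ^ 2) (T : Subgroup R) [T.Normal] : Nat.card ↥(Cfsg.omegaOne p (⊤ : Subgroup (R ⧸ T))) ≤ p ^ 2 := by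
  classical
  have hp2 : p ≠ 2 := by omega
  have hm : Cfsg.IsMetacyclic R := CfsgLib.Perm.BlackburnRankTwo.main hp (Nat.card R) R rfl hR hO
  have hq : Cfsg.IsMetacyclic (R ⧸ T) := by
    obtain ⟨N, hN, hc, hQ⟩ := hm
    haveI := hN; haveI := hc; haveI := hQ
    set f := QuotientGroup.mk' T
    haveI hNn : (N.map f).Normal := hN.map f (QuotientGroup.mk'_surjective T)
    refine ⟨N.map f, hNn, isCyclic_of_surjective (f.subgroupMap N) (f.subgroupMap_surjective N), ?_⟩
    exact isCyclic_of_surjective (QuotientGroup.map N (N.map f) f (Subgroup.le_comap_map f N)) fun q => by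
      obtain ⟨x, rfl⟩ := QuotientGroup.mk'_surjective (N.map f) q
      obtain ⟨y, rfl⟩ := QuotientGroup.mk'_surjective T x
      exact ⟨(y : R ⧸ N), rfl⟩
  have hQp : IsPGroup p (R ⧸ T) := hR.to_quotient T
  by_cases hcy : IsCyclic (R ⧸ T)
  · haveI := hcy
    letI : CommGroup (R ⧸ T) := IsCyclic.commGroup
    have hexp : ∀ x ∈ Cfsg.omegaOne p (⊤ : Subgroup (R ⧸ T)), x ^ p = 1 := by
      intro x hx
      refine (Subgroup.closure_le (K := (powMonoidHom p : (R ⧸ T) →* (R ⧸ T)).ker)).2 ?_ hx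
      rintro y ⟨-, hy⟩
      exact hy
    have h1 : Nat.card ↥(Cfsg.omegaOne p (⊤ : Subgroup (R ⧸ T))) ∣ p := by
      rw [← IsCyclic.exponent_eq_card]
      exact Monoid.exponent_dvd_of_forall_pow_eq_one fun x => Subtype.ext (by simpa using hexp _ x.2)
    exact (Nat.le_of_dvd (Fact.out : p.Prime).pos h1).trans (Nat.le_self_pow two_ne_zero p)
  · exact (CfsgLib.Solv.omegaOne_metacyclic hp2 hQp hq hcy).2.le

end Cfsg.Agent.S0637
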