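import Cfsg.Statements.S0640
import Cfsg.Agent.OddLocal.RankTwoAut

set_option autoImplicit false
open Cfsg

namespace Cfsg.Agent.S0640

/-- For odd p, a prime q ≠ p dividing the order of the automorphism group of a p-group of rank at most 2 divides p² - 1 and is less than p. -/
theorem result {R : Type*} [Group R] [Finite R] {p : ℕ} [Fact p.Prime] (hp : p ≠ 2) (hR : IsPGroup p R) (hrk : Cfsg.PRankLE p 2 R) (q : ℕ) (hq : q.Prime) (hqp : q ≠ p) (hdvd : q ∣ Nat.card (MulAut R)) : q ∣ p ^ 2 - 1 ∧ q < p := by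
  haveI : Fact q.Prime := ⟨hq⟩
  obtain ⟨u, hu⟩ := exists_prime_orderOf_dvd_card' q hdvd
  obtain ⟨f, hf⟩ := CfsgLib.OddLocal.exists_gl hp hR hrk
  have hcop : (orderOf u).Coprime p := by
    rw [hu]; exact (Nat.coprime_primes hq Fact.out).2 hqp
  have hfu : f u ≠ 1 := fun h => hq.ne_one (by rw [← hu, hf u hcop h, orderOf_one])
  have ho : orderOf (f u) = q := ((Nat.dvd_prime hq).1 (hu ▸ orderOf_map_dvd f u)).resolve_left
    fun e => hfu (orderOf_eq_one_iff.1 e)
  have hd : q ∣ Nat.card (GL (Fin 2) (ZMod p)) := ho ▸ orderOf_dvd_natCard _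
  rw [Matrix.card_GL_field] at hd
  simp only [Fin.prod_univ_two, ZMod.card, Fin.val_zero, Fin.val_one, pow_zero, pow_one] at hd
  have hd' : q ∣ p ^ 2 - 1 := by
    rcases (Nat.Prime.dvd_mul hq).1 hd with h | h
    · exact h
    · rw [show p ^ 2 - p = p * (p - 1) by rw [Nat.mul_sub, mul_one, pow_two]] at h
      rcases (Nat.Prime.dvd_mul hq).1 h with h | h
      · exact absurd ((Nat.prime_dvd_prime_iff_eq hq Fact.out).1 h) hqp
      · exact h.trans (by simpa using Nat.sub_dvd_pow_sub_pow p 1 2)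
  refine ⟨hd', ?_⟩
  by_cases h2 : q = 2
  · have := (Fact.out : p.Prime).two_le
    omega
  · exact (CfsgLib.OddLocal.prime_lt_of_ne_one hp hR hrk hq h2 hqp hu).1

end Cfsg.Agent.S0640
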