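-- Statement S0641
import Cfsg.Statements.S0641


set_option autoImplicit false
open Cfsg
open scoped commutatorElement Pointwise
set_option linter.style.haveILetI false
set_option linter.deprecated false

namespace Cfsg.Agent.S0641

/-- Regularity of a p-group passes to quotient groups. -/
theorem result {G : Type*} [Group G] {p : ℕ} [Fact p.Prime] (hG : Cfsg.IsRegularPGroup p G) (N : Subgroup G) [N.Normal] : Cfsg.IsRegularPGroup p (G ⧸ N) := by
    refine ⟨hG.1.to_quotient N, fun a b n => ?_⟩
    obtain ⟨x, rfl⟩ := QuotientGroup.mk'_surjective N a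
    obtain ⟨y, rfl⟩ := QuotientGroup.mk'_surjective N b
    obtain ⟨c, hc, e⟩ := hG.2 x y n
    set f := QuotientGroup.mk' N
    refine ⟨f c, ?_, ?_⟩
    · have hm : ⁅Subgroup.closure ({x, y} : Set G), Subgroup.closure ({x, y} : Set G)⁆.map f =
          ⁅Subgroup.closure ({f x, f y} : Set (G ⧸ N)), Subgroup.closure ({f x, f y} : Set (G ⧸ N))⁆ := by
        rw [Subgroup.map_commutator, MonoidHom.map_closure, Set.image_pair]
      rw [← hm]
      refine Subgroup.closure_le (K := (Cfsg.powerClosure p n _).comap f) |>.2 ?_ hc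
      rintro _ ⟨d, hd, rfl⟩
      exact Subgroup.subset_closure ⟨f d, Subgroup.mem_map_of_mem f hd, map_pow f d _⟩
    · rw [← map_mul, ← map_pow, e, map_mul, map_mul, map_pow, map_pow]

end Cfsg.Agent.S0641
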