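-- Statement S0642
import Cfsg.Statements.S0642


set_option autoImplicit false
open Cfsg
open scoped commutatorElement Pointwise
set_option linter.style.haveILetI false
set_option linter.deprecated false

namespace Cfsg.Agent.S0642

/-- Among finite 2-groups the regular ones are exactly the abelian ones. -/
theorem result {G : Type*} [Group G] [Finite G] (hG : IsPGroup 2 G) : Cfsg.IsRegularPGroup 2 G ↔ ∀ a b : G, a * b = b * a := by
    constructor
    · intro h a b
      set H := Subgroup.closure ({a, b} : Set G)
      set D := ⁅H, H⁆ with hD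
      set K := Cfsg.powerClosure 2 1 D with hK
      have hconj : ∀ g ∈ H, ∀ d ∈ D, g * d * g⁻¹ ∈ D := by
        intro g hg d hd
        have h1 : D.map (MulAut.conj g).toMonoidHom = D := by
          have hH : H.map (MulAut.conj g).toMonoidHom = H := by
            ext z
            constructor
            · rintro ⟨w, hw, rfl⟩
              exact mul_mem (mul_mem hg hw) (inv_mem hg)
            · intro hz
              exact ⟨g⁻¹ * z * g, mul_mem (mul_mem (inv_mem hg) hz) hg, by simp [mul_assoc]⟩
          rw [hD, Subgroup.map_commutator, hH]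
        exact h1.le ⟨d, hd, rfl⟩
      have hKn : ∀ g ∈ H, ∀ k ∈ K, g * k * g⁻¹ ∈ K := by
        intro g hg k hk
        refine Subgroup.closure_le (K := K.comap (MulAut.conj g).toMonoidHom) |>.2 ?_ hk
        rintro _ ⟨d, hd, rfl⟩
        refine Subgroup.subset_closure ⟨g * d * g⁻¹, hconj g hg d hd, ?_⟩
        rw [conj_pow]; rfl
      have hDK : D ≤ K := Subgroup.commutator_le.2 fun x hx y hy => by
        obtain ⟨c, hc, e⟩ := h.2 x y 1
        have hle : Subgroup.closure ({x, y} : Set G) ≤ H :=
          (Subgroup.closure_le _).2 (by rintro z (rfl | rfl) <;> assumption)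
        have hcK : c ∈ K := (Subgroup.closure_mono fun z ⟨d, hd, e⟩ =>
          ⟨d, Subgroup.commutator_mono hle hle hd, e⟩ :
            Cfsg.powerClosure 2 1 ⁅Subgroup.closure ({x, y} : Set G), Subgroup.closure ({x, y} : Set G)⁆ ≤ K) hc
        simp only [pow_one, pow_two] at e
        have h1 : y * x = x * y * (y * c * y⁻¹) := by
          calc y * x = x⁻¹ * ((x * y) * (x * y)) * y⁻¹ := by group
            _ = x⁻¹ * (x * x * (y * y) * c) * y⁻¹ := by rw [e]
            _ = x * y * (y * c * y⁻¹) := by group
        have h2 : ⁅x, y⁆ = (x * y) * (y * c * y⁻¹)⁻¹ * (x * y)⁻¹ := by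
          calc ⁅x, y⁆ = (x * y) * (y * x)⁻¹ := by rw [commutatorElement_def]; group
            _ = _ := by rw [h1]; group
        rw [h2]
        exact hKn _ (mul_mem hx hy) _ (inv_mem (hKn _ hy _ hcK))
      have hDb : D = ⊥ := by
        by_contra hne
        haveI : Nontrivial D := D.nontrivial_iff_ne_bot.2 hne
        haveI : Fact (Nat.Prime 2) := ⟨Nat.prime_two⟩
        obtain ⟨M, hM, -⟩ := (eq_top_or_exists_le_coatom (⊥ : Subgroup D)).resolve_left bot_ne_top
        haveI := (hG.to_subgroup D).isNilpotent
        haveI := Subgroup.NormalizerCondition.normal_of_coatom M Group.normalizerCondition_of_isNilpotent hM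
        have hsq : ∀ d : D, d ^ 2 ∈ M := by
          intro d
          by_contra hd
          obtain ⟨k, hk⟩ := IsPGroup.iff_orderOf.1 (hG.to_subgroup D) d
          -- `d ∈ ⟨d ^ 2⟩ ⊔ M`
          have hdM : d ∉ M := fun h => hd (pow_mem h 2)
          have h1 : M ⊔ Subgroup.zpowers (d ^ 2) = ⊤ := by
            rcases hM.le_iff.1 (le_sup_left : M ≤ M ⊔ Subgroup.zpowers (d ^ 2)) with h1 | h1
            · exact h1
            · exact absurd (h1.le (Subgroup.mem_sup_right (Subgroup.mem_zpowers _))) hd
          obtain ⟨m, hm, w, ⟨i, rfl⟩, e⟩ : d ∈ (M : Set D) * (Subgroup.zpowers (d ^ 2) : Set D) := by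
            rw [← Subgroup.normal_mul, h1]; trivial
          have h2 : d ^ (1 - 2 * i) ∈ M := by
            have e' : m * (d ^ 2) ^ i = d := e
            have : d ^ (1 - 2 * i) = m := by
              rw [zpow_sub, zpow_one, zpow_mul, zpow_ofNat, mul_inv_eq_iff_eq_mul]
              exact e'.symm
            rw [this]; exact hm
          refine hdM ?_
          have hg : Int.gcd (1 - 2 * i) ((2 : ℤ) ^ k) = 1 := by
            rw [← Int.isCoprime_iff_gcd_eq_one]
            exact IsCoprime.pow_right ⟨1, i, by ring⟩
          obtain ⟨u, v, huv⟩ := Int.isCoprime_iff_gcd_eq_one.2 hg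
          have h3 : d = (d ^ (1 - 2 * i)) ^ u := by
            rw [← zpow_mul]
            calc d = d ^ (u * (1 - 2 * i) + v * (2 : ℤ) ^ k) := by rw [huv, zpow_one]
              _ = d ^ ((1 - 2 * i) * u) := by
                have h0 : d ^ ((2 : ℤ) ^ k) = 1 := by
                  rw [show ((2 : ℤ) ^ k) = ((2 ^ k : ℕ) : ℤ) by push_cast; rfl, zpow_natCast, ← hk,
                    pow_orderOf_eq_one]
                rw [zpow_add, mul_comm u, mul_comm v, zpow_mul _ ((2 : ℤ) ^ k), h0, one_zpow, mul_one]
          rw [h3]; exact M.zpow_mem h2 u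
        refine hM.1 (top_unique fun d _ => ?_)
        have hKM : K ≤ M.map D.subtype := by
          refine (Subgroup.closure_le _).2 ?_
          rintro _ ⟨w, hw, rfl⟩
          exact ⟨⟨w, hw⟩ ^ 2, hsq _, rfl⟩
        obtain ⟨w, hw, e⟩ := hKM (hDK d.2)
        rwa [← Subtype.ext e]
      have h1 : ⁅a, b⁆ ∈ D := Subgroup.commutator_mem_commutator
        (Subgroup.subset_closure (by simp)) (Subgroup.subset_closure (by simp))
      rw [hDb, Subgroup.mem_bot, commutatorElement_eq_one_iff_mul_comm] at h1
      exact h1
    · intro h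
      exact ⟨hG, fun a b n => ⟨1, one_mem _, by rw [mul_one, (show Commute a b from h a b).mul_pow]⟩⟩

end Cfsg.Agent.S0642
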