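-- Statement S0647
import Cfsg.Statements.S0647


set_option autoImplicit false
open Cfsg
open scoped commutatorElement Pointwise
set_option linter.style.haveILetI false
set_option linter.deprecated false

namespace Cfsg.Agent.S0647

/-- For a nonempty family of maximal abelian subgroups of a finite group, the intersection of the family is the centre of the subgroup it generates, which is also the full centralizer of that subgroup. -/
theorem result {S : Type*} [Group S] [Finite S] (𝒜 : Set (Subgroup S)) (hne : 𝒜.Nonempty) (hab : ∀ A ∈ 𝒜, IsMulCommutative A) (hmax : ∀ A ∈ 𝒜, ∀ B : Subgroup S, IsMulCommutative B → A ≤ B → B = A) : sInf 𝒜 = sSup 𝒜 ⊓ Subgroup.centralizer ((sSup 𝒜 : Subgroup S) : Set S) ∧ sInf 𝒜 = Subgroup.centralizer ((sSup 𝒜 : Subgroup S) : Set S) := by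
    obtain ⟨A0, hA0⟩ := hne
    have h1 : Subgroup.centralizer ((sSup 𝒜 : Subgroup S) : Set S) ≤ sInf 𝒜 := fun x hx =>
      Subgroup.mem_sInf.2 fun A hA => by
        haveI := hab A hA
        have hc : IsMulCommutative (Subgroup.closure ((A : Set S) ∪ {x})) := by
          refine Subgroup.isMulCommutative_closure ?_
          rintro a (ha | rfl) b (hb | rfl)
          · exact congrArg Subtype.val (mul_comm' (⟨a, ha⟩ : A) ⟨b, hb⟩)
          · exact Subgroup.mem_centralizer_iff.1 hx a (le_sSup hA ha)
          · exact (Subgroup.mem_centralizer_iff.1 hx b (le_sSup hA hb)).symm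
          · rfl
        rw [← hmax A hA _ hc fun a ha => Subgroup.subset_closure (Or.inl ha)]
        exact Subgroup.subset_closure (Or.inr rfl)
    have h2 : sInf 𝒜 ≤ sSup 𝒜 ⊓ Subgroup.centralizer ((sSup 𝒜 : Subgroup S) : Set S) := fun x hx => by
      have hall := Subgroup.mem_sInf.1 hx
      refine Subgroup.mem_inf.2 ⟨le_sSup hA0 (hall A0 hA0), ?_⟩
      have h4 : sSup 𝒜 ≤ Subgroup.centralizer ({x} : Set S) := sSup_le fun A hA a ha => by
        haveI := hab A hA
        rw [Subgroup.mem_centralizer_iff]
        rintro y rfl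
        exact congrArg Subtype.val (mul_comm' (⟨y, hall A hA⟩ : A) ⟨a, ha⟩)
      rw [Subgroup.mem_centralizer_iff]
      exact fun j hj => (Subgroup.mem_centralizer_iff.1 (h4 hj) x rfl).symm
    exact ⟨le_antisymm h2 (inf_le_right.trans h1), le_antisymm (h2.trans inf_le_right) h1⟩

end Cfsg.Agent.S0647
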