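import Cfsg.Statements.S0648


set_option autoImplicit false
open Cfsg

namespace Cfsg.Agent.S0648


open scoped commutatorElement


/-- If A acts on B centralizing [B, B], then [B, A] has derived subgroup central in B, and for abelian A and b ∈ B with [[b, A], A, A] = 1 the derived subgroup of the subgroup [b, A] generated by the commutators of b with A has exponent dividing 2. -/
theorem result {G : Type*} [Group G] [Finite G] (A B : Subgroup G) (hAB : A ≤ Subgroup.normalizer (B : Set G)) (hc : ⁅⁅B, B⁆, A⁆ = ⊥) : ⁅⁅B, A⁆, ⁅B, A⁆⁆ ≤ B ⊓ Subgroup.centralizer (B : Set G) ∧ (IsMulCommutative A → ∀ b ∈ B, ⁅⁅(Subgroup.closure {g : G | ∃ a ∈ A, g = b⁻¹ * a * b * a⁻¹}), A⁆, A⁆ = ⊥ → ∀ w ∈ ⁅(Subgroup.closure {g : G | ∃ a ∈ A, g = b⁻¹ * a * b * a⁻¹}), (Subgroup.closure {g : G | ∃ a ∈ A, g = b⁻¹ * a * b * a⁻¹})⁆, w ^ 2 = 1) := by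
  classical
  set X := ⁅B, A⁆ with hX
  have hAn : ∀ a ∈ A, ∀ c ∈ B, a * c * a⁻¹ ∈ B := fun a ha c hc =>
    (Subgroup.mem_normalizer_iff.1 (hAB ha) c).1 hc
  have hXB : X ≤ B := Subgroup.commutator_le.2 fun c hcB a ha => by
    rw [commutatorElement_def, show c * a * c⁻¹ * a⁻¹ = c * (a * c⁻¹ * a⁻¹) by group]
    exact mul_mem hcB (hAn a ha _ (inv_mem hcB))
  have hBBA : ∀ z ∈ ⁅B, B⁆, ∀ a ∈ A, z * a = a * z := fun z hz a ha => by
    have h1 := Subgroup.commutator_mem_commutator hz ha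
    rw [hc, Subgroup.mem_bot, commutatorElement_eq_one_iff_mul_comm] at h1
    exact h1
  have hBBB : ⁅B, B⁆ ≤ B := Subgroup.commutator_le_self B
  have hBS : ∀ z ∈ ⁅B, B⁆, ∀ w ∈ A ⊔ X, z * w = w * z := by
    intro z hz w hw
    have hle : A ⊔ X ≤ Subgroup.centralizer ({z} : Set G) := by
      refine sup_le (fun a ha => Subgroup.mem_centralizer_singleton_iff.2 (hBBA z hz a ha).symm) ?_
      rw [hX, Subgroup.commutator_le]
      intro c hcB a ha
      refine Subgroup.mem_centralizer_singleton_iff.2 ?_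
      have hcz : c⁻¹ * z * c ∈ ⁅B, B⁆ := by
        have := mul_mem (Subgroup.commutator_mem_commutator (inv_mem hcB) (hBBB hz)) hz
        simpa [commutatorElement_def, mul_assoc] using this
      have h1 := hBBA _ hcz a ha
      have h2 := hBBA z hz a⁻¹ (inv_mem ha)
      rw [commutatorElement_def]
      calc c * a * c⁻¹ * a⁻¹ * z = c * a * c⁻¹ * (a⁻¹ * z) := by group
        _ = c * (a * (c⁻¹ * z * c)) * c⁻¹ * a⁻¹ := by rw [← h2]; group
        _ = c * ((c⁻¹ * z * c) * a) * c⁻¹ * a⁻¹ := by rw [h1]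
        _ = z * (c * a * c⁻¹ * a⁻¹) := by group
    exact (Subgroup.mem_centralizer_singleton_iff.1 (hle hw)).symm
  have hXXB : ⁅⁅X, X⁆, B⁆ = ⊥ := by
    refine Subgroup.commutator_commutator_eq_bot_of_rotate ?_ ?_ <;>
      rw [Subgroup.commutator_eq_bot_iff_le_centralizer] <;> intro z hz <;>
      refine Subgroup.mem_centralizer_iff.2 fun y hy => (hBS z ?_ y (Subgroup.mem_sup_right hy)).symm
    · exact Subgroup.commutator_mono hXB le_rfl hz
    · exact Subgroup.commutator_mono le_rfl hXB hz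
  have hcen : ∀ z ∈ ⁅X, X⁆, ∀ y ∈ B, z * y = y * z := fun z hz y hy => by
    have h1 := Subgroup.commutator_mem_commutator hz hy
    rw [hXXB, Subgroup.mem_bot, commutatorElement_eq_one_iff_mul_comm] at h1
    exact h1
  have hXXle : ⁅X, X⁆ ≤ B := (Subgroup.commutator_mono hXB hXB).trans hBBB
  refine ⟨le_inf hXXle fun z hz => Subgroup.mem_centralizer_iff.2 fun y hy => (hcen z hz y hy).symm, ?_⟩
  intro hA b hb hMA w hw
  have hAc : ∀ a ∈ A, ∀ c ∈ A, a * c = c * a := fun a ha c hc =>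
    congrArg Subtype.val (hA.is_comm.comm (⟨a, ha⟩ : A) ⟨c, hc⟩)
  set M := Subgroup.closure {g : G | ∃ a ∈ A, g = b⁻¹ * a * b * a⁻¹} with hM
  set x := b⁻¹ with hx
  have hxB : x ∈ B := inv_mem hb
  obtain ⟨u, hu⟩ : ∃ u : G → G, ∀ a, u a = x * a * x⁻¹ * a⁻¹ := ⟨_, fun a => rfl⟩
  have huM : ∀ a ∈ A, u a ∈ M := fun a ha =>
    Subgroup.subset_closure ⟨a, ha, by rw [hu, hx, inv_inv]⟩
  have huX : ∀ a ∈ A, u a ∈ X := fun a ha => by
    rw [hu, ← commutatorElement_def]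
    exact Subgroup.commutator_mem_commutator hxB ha
  obtain ⟨t, ht⟩ : ∃ t : G → G → G, ∀ a c, t a c = a * u c * a⁻¹ * (u c)⁻¹ := ⟨_, fun a c => rfl⟩
  have htI : ∀ a ∈ A, ∀ c ∈ A, t a c ∈ X ∧ ∀ d ∈ A, t a c * d = d * t a c := by
    intro a ha c hc'
    have e : t a c = ⁅u c, a⁆⁻¹ := by rw [ht, commutatorElement_def]; group
    have h1 : ⁅u c, a⁆ ∈ ⁅M, A⁆ := Subgroup.commutator_mem_commutator (huM c hc') ha
    refine ⟨?_, fun d hd => ?_⟩
    · rw [e]
      exact X.inv_mem (Subgroup.commutator_mem_commutator (hXB (huX c hc')) ha)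
    · have h2 := Subgroup.commutator_mem_commutator h1 hd
      rw [hMA, Subgroup.mem_bot, commutatorElement_eq_one_iff_mul_comm] at h2
      rw [e]
      exact ((show Commute ⁅u c, a⁆ d from h2).inv_left).eq
  have hIu : ∀ z ∈ X, (∀ d ∈ A, z * d = d * z) → ∀ a ∈ A, z * u a = u a * z := by
    intro z hz hzA a ha
    set β := x * z * x⁻¹ * z⁻¹ with hβd
    have hβ : β ∈ ⁅B, B⁆ := Subgroup.commutator_mem_commutator hxB (hXB hz)
    have h1 : (x * a * x⁻¹) * (x * z * x⁻¹) = (x * z * x⁻¹) * (x * a * x⁻¹) := by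
      rw [show (x * a * x⁻¹) * (x * z * x⁻¹) = x * (a * z) * x⁻¹ by group, ← hzA a ha]; group
    rw [show x * z * x⁻¹ = β * z by rw [hβd]; group, show x * a * x⁻¹ = u a * a by rw [hu]; group] at h1
    have h2 : β * (u a * a) = (u a * a) * β :=
      hBS β hβ _ (mul_mem (Subgroup.mem_sup_right (huX a ha)) (Subgroup.mem_sup_left ha))
    have h3 : z * (u a * a) = (u a * a) * z :=
      mul_left_cancel (a := β) (by rw [← mul_assoc, ← h1, ← mul_assoc, ← h2, mul_assoc])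
    rw [← mul_assoc, mul_assoc (u a), ← hzA a ha, ← mul_assoc, mul_left_inj] at h3
    exact h3
  have hkey : ∀ a ∈ A, ∀ c ∈ A, x * t a c * x⁻¹ * (t a c)⁻¹ = ⁅u a, u c⁆ := by
    intro a ha c hc'
    set β := x * u c * x⁻¹ * (u c)⁻¹ with hβd
    have hβ : β ∈ ⁅B, B⁆ := Subgroup.commutator_mem_commutator hxB (hXB (huX c hc'))
    have hS : u a * a ∈ A ⊔ X := mul_mem (Subgroup.mem_sup_right (huX a ha)) (Subgroup.mem_sup_left ha)
    have hSc : u c ∈ A ⊔ X := Subgroup.mem_sup_right (huX c hc')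
    have hβu : β * (u a * a) = (u a * a) * β := hBS β hβ _ hS
    have h1 : x * t a c * x⁻¹ = (u a * a) * (β * u c) * (u a * a)⁻¹ * (β * u c)⁻¹ := by
      rw [ht, hβd, hu a]; group
    have h2 : (u a * a) * (β * u c) * (u a * a)⁻¹ * (β * u c)⁻¹ =
        (u a * a) * u c * (u a * a)⁻¹ * (u c)⁻¹ := by
      have hconj : β * ((u a * a) * u c * (u a * a)⁻¹) = ((u a * a) * u c * (u a * a)⁻¹) * β :=
        hBS β hβ _ (mul_mem (mul_mem hS hSc) (inv_mem hS))
      calc (u a * a) * (β * u c) * (u a * a)⁻¹ * (β * u c)⁻¹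
          = ((u a * a) * β) * u c * (u a * a)⁻¹ * (u c)⁻¹ * β⁻¹ := by group
        _ = (β * ((u a * a) * u c * (u a * a)⁻¹)) * (u c)⁻¹ * β⁻¹ := by rw [← hβu]; group
        _ = ((u a * a) * u c * (u a * a)⁻¹) * (β * (u c)⁻¹) * β⁻¹ := by rw [hconj]; group
        _ = ((u a * a) * u c * (u a * a)⁻¹) * ((u c)⁻¹ * β) * β⁻¹ := by
            rw [hBS β hβ _ (inv_mem hSc)]
        _ = _ := by group
    have h3 : (u a * a) * u c * (u a * a)⁻¹ * (u c)⁻¹ = u a * t a c * (u a)⁻¹ * ⁅u a, u c⁆ := by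
      rw [commutatorElement_def, ht]; group
    obtain ⟨hI, hIA⟩ := htI a ha c hc'
    rw [h1, h2, h3, ← hIu _ hI hIA a ha, mul_inv_cancel_right]
    have hcc : ⁅u a, u c⁆ * (t a c)⁻¹ = (t a c)⁻¹ * ⁅u a, u c⁆ :=
      hcen _ (Subgroup.commutator_mem_commutator (huX a ha) (huX c hc')) _ (inv_mem (hXB hI))
    rw [mul_assoc, hcc, mul_inv_cancel_left]
  have hsym : ∀ a ∈ A, ∀ c ∈ A, t a c = t c a * ⁅u c, u a⁆ := by
    intro a ha c hc'
    have h1 : (x * a * x⁻¹) * (x * c * x⁻¹) = (x * c * x⁻¹) * (x * a * x⁻¹) := by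
      rw [show (x * a * x⁻¹) * (x * c * x⁻¹) = x * (a * c) * x⁻¹ by group, hAc a ha c hc']; group
    have h2 : u a * t a c * u c * (a * c) = u c * t c a * u a * (c * a) := by
      calc u a * t a c * u c * (a * c) = (x * a * x⁻¹) * (x * c * x⁻¹) := by rw [ht, hu c, hu a]; group
        _ = (x * c * x⁻¹) * (x * a * x⁻¹) := h1
        _ = _ := by rw [ht, hu c, hu a]; group
    obtain ⟨hI, hIA⟩ := htI a ha c hc'
    obtain ⟨hI', hIA'⟩ := htI c hc' a ha
    rw [hAc c hc' a ha, mul_left_inj, ← hIu _ hI hIA a ha, ← hIu _ hI' hIA' c hc', mul_assoc,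
      mul_assoc] at h2
    calc t a c = t a c * (u a * u c) * (u a * u c)⁻¹ := by group
      _ = t c a * (u c * u a) * (u a * u c)⁻¹ := by rw [h2]
      _ = t c a * ⁅u c, u a⁆ := by rw [commutatorElement_def]; group
  have hgen : ∀ a ∈ A, ∀ c ∈ A, ⁅u a, u c⁆ ^ 2 = 1 := by
    intro a ha c hc'
    set γ' := ⁅u c, u a⁆ with hγ'd
    have hγ' : γ' ∈ ⁅X, X⁆ := Subgroup.commutator_mem_commutator (huX c hc') (huX a ha)
    have h1 : ⁅u a, u c⁆ = γ' := by
      calc ⁅u a, u c⁆ = x * t a c * x⁻¹ * (t a c)⁻¹ := (hkey a ha c hc').symm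
        _ = x * (t c a * γ') * x⁻¹ * (t c a * γ')⁻¹ := by rw [hsym a ha c hc']
        _ = x * t c a * (γ' * x⁻¹) * γ'⁻¹ * (t c a)⁻¹ := by group
        _ = x * t c a * (x⁻¹ * γ') * γ'⁻¹ * (t c a)⁻¹ := by rw [hcen γ' hγ' _ (inv_mem hxB)]
        _ = x * t c a * x⁻¹ * (t c a)⁻¹ := by group
        _ = γ' := hkey c hc' a ha
    rw [pow_two]
    nth_rw 1 [h1]
    rw [hγ'd, ← commutatorElement_inv (u a) (u c), inv_mul_cancel]
  have hMX : M ≤ X := by
    rw [hM, Subgroup.closure_le]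
    rintro _ ⟨a, ha, rfl⟩
    have := huX a ha
    rw [hu, hx, inv_inv] at this
    exact this
  have hext : ∀ n ∈ X, (∀ a ∈ A, ⁅u a, n⁆ ^ 2 = 1) → ∀ m ∈ M, ⁅m, n⁆ ^ 2 = 1 := by
    intro n hn hg m hm
    induction hm using Subgroup.closure_induction with
    | mem y hy =>
      obtain ⟨a, ha, rfl⟩ := hy
      have := hg a ha
      rwa [hu, hx, inv_inv] at this
    | one => rw [commutatorElement_one_left, one_pow]
    | mul y z hy hz ihy ihz =>
      have hyz := hcen _ (Subgroup.commutator_mem_commutator (hMX hz) hn) y (hXB (hMX hy))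
      have e : ⁅y * z, n⁆ = ⁅z, n⁆ * ⁅y, n⁆ := by
        rw [show ⁅y * z, n⁆ = y * ⁅z, n⁆ * y⁻¹ * ⁅y, n⁆ by simp only [commutatorElement_def]; group,
          ← hyz, mul_inv_cancel_right]
      rw [e, (show Commute ⁅z, n⁆ ⁅y, n⁆ from hcen _ (Subgroup.commutator_mem_commutator (hMX hz) hn) _
        (hXXle (Subgroup.commutator_mem_commutator (hMX hy) hn))).mul_pow, ihy, ihz, one_mul]
    | inv y hy ihy =>
      have hyc := hcen _ (inv_mem (Subgroup.commutator_mem_commutator (hMX hy) hn)) y (hXB (hMX hy))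
      have e : ⁅y⁻¹, n⁆ = ⁅y, n⁆⁻¹ := by
        rw [show ⁅y⁻¹, n⁆ = y⁻¹ * ⁅y, n⁆⁻¹ * y by simp only [commutatorElement_def]; group,
          mul_assoc, hyc, inv_mul_cancel_left]
      rw [e, inv_pow, ihy, inv_one]
  have hMM : ∀ m ∈ M, ∀ n ∈ M, ⁅m, n⁆ ^ 2 = 1 := fun m hm n hn => by
    refine hext n (hMX hn) (fun a ha => ?_) m hm
    rw [← commutatorElement_inv, inv_pow, inv_eq_one]
    exact hext (u a) (huX a ha) (fun c hc' => hgen c hc' a ha) n hn
  have hw' : w ∈ ⁅M, M⁆ := hw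
  rw [Subgroup.commutator_def] at hw'
  have hXX : ∀ y, y ∈ Subgroup.closure {g | ∃ g₁ ∈ M, ∃ g₂ ∈ M, ⁅g₁, g₂⁆ = g} → y ∈ ⁅X, X⁆ :=
    fun y hy => Subgroup.commutator_mono hMX hMX (by rw [Subgroup.commutator_def]; exact hy)
  induction hw' using Subgroup.closure_induction with
  | mem y hy =>
    obtain ⟨m, hm, n, hn, rfl⟩ := hy
    exact hMM m hm n hn
  | one => exact one_pow 2
  | mul y z hy hz ihy ihz =>
    rw [(show Commute y z from hcen _ (hXX y hy) _ (hXXle (hXX z hz))).mul_pow,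
      ihy (by rw [Subgroup.commutator_def]; exact hy), ihz (by rw [Subgroup.commutator_def]; exact hz), one_mul]
  | inv y hy ihy => rw [inv_pow, ihy (by rw [Subgroup.commutator_def]; exact hy), inv_one]

end Cfsg.Agent.S0648
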