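-- Statement S0649
import Cfsg.Statements.S0649
import Cfsg.Agent.Solv.PLocalBasic

set_option autoImplicit false
open Cfsg
open scoped commutatorElement Pointwise
set_option linter.style.haveILetI false
set_option linter.deprecated false

namespace Cfsg.Agent.S0649

/-- In the Glauberman replacement situation, if B does not normalize A then some element of B normalizes N_S(A) without normalizing A. -/
theorem result {S : Type*} [Group S] [Finite S] {p : ℕ} [Fact p.Prime] (hS : IsPGroup p S) (B : Subgroup S) [B.Normal] (hB2 : p = 2 → IsMulCommutative B) (A : Subgroup S) (hA : IsMulCommutative A) (hBA : ⁅B, B⁆ ≤ A) (hnot : ¬ B ≤ Subgroup.normalizer (A : Set S)) : ∃ b ∈ B, b ∈ Subgroup.normalizer ((Subgroup.normalizer (A : Set S)) : Set S) ∧ b ∉ Subgroup.normalizer (A : Set S) := by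
    set N := Subgroup.normalizer (A : Set S) with hN
    obtain ⟨b0, hb0, hb0N⟩ := SetLike.not_le_iff_exists.1 hnot
    set M := N ⊔ B
    have hlt : N.subgroupOf M < ⊤ := lt_top_iff_ne_top.2 fun e =>
      hb0N (Subgroup.subgroupOf_eq_top.1 e (Subgroup.mem_sup_right hb0))
    haveI := (hS.to_subgroup M).isNilpotent
    obtain ⟨⟨x, hxM⟩, hx, hxN⟩ := SetLike.exists_of_lt
      (Group.normalizerCondition_of_isNilpotent (N.subgroupOf M) hlt)
    have hxN' : x ∈ Subgroup.normalizer (N : Set S) := by
      rw [Subgroup.mem_normalizer_iff]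
      intro y
      constructor
      · intro hy
        exact (Subgroup.mem_normalizer_iff.1 hx ⟨y, Subgroup.mem_sup_left hy⟩).1 hy
      · intro hy
        have h1 := (Subgroup.mem_normalizer_iff.1 (inv_mem hx)
          ⟨x * y * x⁻¹, Subgroup.mem_sup_left hy⟩).1 hy
        have h2 : x⁻¹ * (x * y * x⁻¹) * x⁻¹⁻¹ = y := by group
        exact h2 ▸ h1
    obtain ⟨n, hn, b, hb, e⟩ : x ∈ (N : Set S) * (B : Set S) := by
      rw [← Subgroup.mul_normal]; exact hxM
    have e' : n * b = x := e
    refine ⟨b, hb, ?_, fun hbN => hxN (show x ∈ N by rw [← e']; exact mul_mem hn hbN)⟩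
    rw [show b = n⁻¹ * x by rw [← e', inv_mul_cancel_left]]
    exact mul_mem (inv_mem (Subgroup.le_normalizer hn)) hxN'

end Cfsg.Agent.S0649
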