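import Cfsg.Statements.S0650
import Cfsg.Agent.Solv.GlaubermanReplaceAt

set_option autoImplicit false
open Cfsg

namespace Cfsg.Agent.S0650

/-- The Glauberman replacement Theorem: from an abelian A ⊇ [B, B] not normalized by the normal subgroup B and a suitable b ∈ B one gets the abelian subgroup A* = (A ∩ b⁻¹Ab)[A, b] of the same order, containing [B, B], meeting B strictly more than A does but not containing B, mutually normalizing with A, with strictly larger normalizer containing b, and (p odd) of no larger exponent. -/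
theorem result {S : Type*} [Group S] [Finite S] {p : ℕ} [Fact p.Prime] (hS : IsPGroup p S) (B : Subgroup S) [B.Normal] (hB2 : p = 2 → IsMulCommutative B) (A : Subgroup S) (hA : IsMulCommutative A) (hBA : ⁅B, B⁆ ≤ A) (hnot : ¬ B ≤ Subgroup.normalizer (A : Set S)) (b : S) (hb : b ∈ B) (hbN : b ∈ Subgroup.normalizer ((Subgroup.normalizer (A : Set S)) : Set S)) (hbA : b ∉ Subgroup.normalizer (A : Set S)) : Nat.card ↥((A ⊓ A.map (MulAut.conj (b⁻¹)).toMonoidHom) ⊔ Subgroup.closure {g : S | ∃ a ∈ A, g = a * b⁻¹ * a⁻¹ * b}) = Nat.card A ∧ IsMulCommutative ↥((A ⊓ A.map (MulAut.conj (b⁻¹)).toMonoidHom) ⊔ Subgroup.closure {g : S | ∃ a ∈ A, g = a * b⁻¹ * a⁻¹ * b}) ∧ ⁅B, B⁆ ≤ ((A ⊓ A.map (MulAut.conj (b⁻¹)).toMonoidHom) ⊔ Subgroup.closure {g : S | ∃ a ∈ A, g = a * b⁻¹ * a⁻¹ * b}) ∧ A ⊓ B < ((A ⊓ A.map (MulAut.conj (b⁻¹)).toMonoidHom) ⊔ Subgroup.closure {g : S | ∃ a ∈ A, g = a * b⁻¹ * a⁻¹ * b}) ⊓ B ∧ ((A ⊓ A.map (MulAut.conj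 (b⁻¹)).toMonoidHom) ⊔ Subgroup.closure {g : S | ∃ a ∈ A, g = a * b⁻¹ * a⁻¹ * b}) ⊓ B < B ∧ A ≤ Subgroup.normalizer (((A ⊓ A.map (MulAut.conj (b⁻¹)).toMonoidHom) ⊔ Subgroup.closure {g : S | ∃ a ∈ A, g = a * b⁻¹ * a⁻¹ * b} : Subgroup S) : Set S) ∧ ((A ⊓ A.map (MulAut.conj (b⁻¹)).toMonoidHom) ⊔ Subgroup.closure {g : S | ∃ a ∈ A, g = a * b⁻¹ * a⁻¹ * b}) ≤ Subgroup.normalizer (A : Set S) ∧ b ∈ Subgroup.normalizer (((A ⊓ A.map (MulAut.conj (b⁻¹)).toMonoidHom) ⊔ Subgroup.closure {g : S | ∃ a ∈ A, g = a * b⁻¹ * a⁻¹ * b} : Subgroup S) : Set S) ∧ Subgroup.normalizer (A : Set S) < Subgroup.normalizer (((A ⊓ A.map (MulAut.conj (b⁻¹)).toMonoidHom) ⊔ Subgroup.closure {g : S | ∃ a ∈ A, g = a * b⁻¹ * a⁻¹ * b} : Subgroup S) : Set S) ∧ (p ≠ 2 → Monoid.exponent ↥((A ⊓ A.map (MulAut.conj (b⁻¹)).toMonoidHom) ⊔ Subgroup.closure {g : S | ∃ a ∈ A, g = a * b⁻¹ * a⁻¹ * b}) ∣ Monoid.exponent A) := by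
  classical
  set σ := (MulAut.conj b⁻¹).toMonoidHom with hσ
  set C' := Subgroup.closure {g : S | ∃ a ∈ A, g = a * b⁻¹ * a⁻¹ * b} with hC'
  set e := if p = 2 then 0 else Monoid.exponent A with he_def
  have hA0 : ∀ a ∈ A, a ^ e = 1 := fun a ha => by
    rw [he_def]
    split
    · exact pow_zero a
    · exact congrArg Subtype.val (Monoid.pow_exponent_eq_one (⟨a, ha⟩ : A))
  have he : e = 0 ∨ Odd e := by
    by_cases hp2 : p = 2
    · exact Or.inl (if_pos hp2)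
    · refine Or.inr ?_
      rw [he_def, if_neg hp2]
      obtain ⟨n, hn⟩ := IsPGroup.iff_card.1 (hS.to_subgroup A)
      exact Odd.of_dvd_nat (((Fact.out : p.Prime).odd_of_ne_two hp2).pow)
        (hn ▸ Group.exponent_dvd_nat_card)
  have hAabel : CfsgLib.Inv.ZJ.Abel e A := ⟨hA, hA0⟩
  have hodd : p ≠ 2 ∨ ∀ a ∈ B, ∀ c ∈ B, a * c = c * a := by
    by_cases hp2 : p = 2
    · haveI := hB2 hp2
      exact Or.inr fun a ha c hc =>
        congrArg Subtype.val (IsMulCommutative.is_comm.comm (⟨a, ha⟩ : B) ⟨c, hc⟩)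
    · exact Or.inl hp2
  have hnB : ∀ g : S, g ∈ Subgroup.normalizer (B : Set S) := fun g => by
    rw [Subgroup.normalizer_eq_top]; exact Subgroup.mem_top g
  obtain ⟨M, K, hM, hKmem, hab, hcard, hlt, hnorm⟩ :=
    CfsgLib.Solv.GlaubermanReplaceAt.replacement_at (p := p) he (L := (⊤ : Subgroup S))
      (hS.to_subgroup _) le_top le_top hAabel hBA (fun a _ => hnB a) hodd hb hbN hbA
  have hK : A ⊓ A.map σ = K := by
    ext a
    rw [hKmem, Subgroup.mem_inf]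
    refine and_congr_right fun _ => ⟨?_, fun h => ⟨_, h, ?_⟩⟩
    · rintro ⟨c, hc, rfl⟩
      simpa [hσ, mul_assoc] using hc
    · simp [hσ, mul_assoc]
  have hBB : ⁅B, B⁆ ≤ B := Subgroup.commutator_le_self B
  have hBBK : ⁅B, B⁆ ≤ K := fun z hz => (hKmem z).2 ⟨hBA hz,
    hBA ((inferInstance : ⁅B, B⁆.Normal).conj_mem z hz b)⟩
  have hu : ∀ a ∈ A, b * a * b⁻¹ * a⁻¹ ∈ M := fun a ha => by
    rw [hM]; exact Subgroup.subset_closure ⟨a, ha, rfl⟩
  have huB : ∀ a : S, b * a * b⁻¹ * a⁻¹ ∈ B := fun a => by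
    rw [show b * a * b⁻¹ * a⁻¹ = b * (a * b⁻¹ * a⁻¹) by group]
    exact mul_mem hb ((inferInstance : B.Normal).conj_mem _ (inv_mem hb) a)
  have hMB : M ≤ B := by
    rw [hM, Subgroup.closure_le]; rintro _ ⟨a, _, rfl⟩; exact huB a
  have hI : A ⊓ B ≤ K := fun z hz => (hKmem z).2 ⟨hz.1, by
    have h1 : b * z * b⁻¹ * z⁻¹ ∈ A := hBA (Subgroup.commutator_mem_commutator hb hz.2)
    simpa using mul_mem h1 hz.1⟩
  have hbn : b ∈ Subgroup.normalizer ((M ⊔ K : Subgroup S) : Set S) := by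
    refine Subgroup.mem_normalizer_fintype fun y hy => ?_
    have hle : M ⊔ K ≤ (M ⊔ K).comap (MulAut.conj b).toMonoidHom := by
      refine sup_le (fun m hm => ?_) (fun k hk => ?_)
      · show b * m * b⁻¹ ∈ M ⊔ K
        rw [show b * m * b⁻¹ = (b * m * b⁻¹ * m⁻¹) * m by group]
        exact mul_mem (Subgroup.mem_sup_right (hBBK
          (Subgroup.commutator_mem_commutator hb (hMB hm)))) (Subgroup.mem_sup_left hm)
      · show b * k * b⁻¹ ∈ M ⊔ K
        have h1 := (hKmem k).1 hk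
        rw [show b * k * b⁻¹ = (b * k * b⁻¹ * k⁻¹) * k by group]
        exact mul_mem (Subgroup.mem_sup_left (hu k h1.1)) (Subgroup.mem_sup_right hk)
    exact hle hy
  have heq : (A ⊓ A.map σ) ⊔ C' = M ⊔ K := by
    rw [hK]
    refine le_antisymm (sup_le le_sup_right ?_) (sup_le ?_ le_sup_left)
    · rw [hC', Subgroup.closure_le]
      rintro _ ⟨a, ha, rfl⟩
      have h1 := (Subgroup.mem_normalizer_iff.1 (inv_mem hbn) _).1
        (Subgroup.mem_sup_left (hu a ha) : b * a * b⁻¹ * a⁻¹ ∈ M ⊔ K)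
      simpa [mul_assoc] using h1
    · refine hM.le.trans ((Subgroup.closure_le _).2 ?_)
      rintro _ ⟨a, ha, rfl⟩
      show b * a * b⁻¹ * a⁻¹ ∈ (_ : Subgroup S)
      set g := a * b⁻¹ * a⁻¹ * b
      have hg : g ∈ C' := Subgroup.subset_closure ⟨a, ha, rfl⟩
      have hgB : g ∈ B := by
        exact mul_mem ((inferInstance : B.Normal).conj_mem _ (inv_mem hb) a) hb
      rw [show b * a * b⁻¹ * a⁻¹ = (b * g * b⁻¹ * g⁻¹) * g by simp only [g]; group]
      exact mul_mem (Subgroup.mem_sup_left (hBBK (Subgroup.commutator_mem_commutator hb hgB)))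
        (Subgroup.mem_sup_right hg)
  rw [heq]
  have hKA : K ≤ A := fun k hk => ((hKmem k).1 hk).1
  have hnA : ∀ n ∈ Subgroup.normalizer (A : Set S), ∀ y ∈ M ⊔ K, n * y * n⁻¹ ∈ M ⊔ K := by
    intro n hn
    set n' := b⁻¹ * n * b with hn'
    have hn'N : n' ∈ Subgroup.normalizer (A : Set S) := by
      have := (Subgroup.mem_normalizer_iff.1 (inv_mem hbN) n).1 hn
      simpa using this
    have hnm : ∀ a ∈ A, n * a * n⁻¹ ∈ A := fun a ha => (Subgroup.mem_normalizer_iff.1 hn a).1 ha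
    have hn'm : ∀ a ∈ A, n' * a * n'⁻¹ ∈ A := fun a ha => (Subgroup.mem_normalizer_iff.1 hn'N a).1 ha
    have hle : M ⊔ K ≤ (M ⊔ K).comap (MulAut.conj n).toMonoidHom := by
      refine sup_le ?_ (fun k hk => ?_)
      · refine hM.le.trans ((Subgroup.closure_le _).2 ?_)
        rintro _ ⟨a, ha, rfl⟩
        show n * (b * a * b⁻¹ * a⁻¹) * n⁻¹ ∈ M ⊔ K
        rw [show n * (b * a * b⁻¹ * a⁻¹) * n⁻¹ = (b * (n' * a * n'⁻¹) * b⁻¹ * (n' * a * n'⁻¹)⁻¹) *
          ((n' * a * n'⁻¹) * (n * a * n⁻¹)⁻¹) by rw [hn']; group]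
        refine mul_mem (Subgroup.mem_sup_left ?_) (Subgroup.mem_sup_right (hI ⟨A.mul_mem (hn'm a ha)
          (A.inv_mem (hnm a ha)), ?_⟩))
        · exact hu _ (hn'm a ha)
        · -- `n' = n * c` with `c ∈ B`
          have hc : n⁻¹ * n' ∈ B := by
            rw [hn', show n⁻¹ * (b⁻¹ * n * b) = (n⁻¹ * b⁻¹ * n) * b by group]
            exact mul_mem (by simpa using (inferInstance : B.Normal).conj_mem _ (inv_mem hb) n⁻¹) hb
          set c := n⁻¹ * n'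
          show (n' * a * n'⁻¹) * (n * a * n⁻¹)⁻¹ ∈ (B : Set S)
          rw [show (n' * a * n'⁻¹) * (n * a * n⁻¹)⁻¹ = n * (c * (a * c⁻¹ * a⁻¹)) * n⁻¹ by
            simp only [c]; group]
          exact (inferInstance : B.Normal).conj_mem _
            (mul_mem hc ((inferInstance : B.Normal).conj_mem _ (inv_mem hc) a)) n
      · show n * k * n⁻¹ ∈ M ⊔ K
        obtain ⟨h1, h2⟩ := (hKmem k).1 hk
        refine Subgroup.mem_sup_right ((hKmem _).2 ⟨hnm k h1, ?_⟩)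
        have hbn' : b * n * b⁻¹ ∈ Subgroup.normalizer (A : Set S) :=
          (Subgroup.mem_normalizer_iff.1 hbN n).1 hn
        have := (Subgroup.mem_normalizer_iff.1 hbn' _).1 h2
        rw [show b * n * b⁻¹ * (b * k * b⁻¹) * (b * n * b⁻¹)⁻¹ = b * (n * k * n⁻¹) * b⁻¹ by group] at this
        exact this
    exact fun y hy => hle hy
  have hNle : Subgroup.normalizer (A : Set S) ≤ Subgroup.normalizer ((M ⊔ K : Subgroup S) : Set S) :=
    fun n hn => Subgroup.mem_normalizer_fintype (hnA n hn)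
  refine ⟨hcard, hab.1, hBBK.trans le_sup_right, hlt, ?_, Subgroup.le_normalizer.trans hNle, hnorm, hbn,
    lt_of_le_of_ne hNle fun h => hbA (h ▸ hbn), fun hp2 => ?_⟩
  · exact lt_of_le_of_ne inf_le_right fun h =>
      hnot ((inf_eq_right.1 h).trans hnorm)
  · have h1 := hab.2
    rw [he_def, if_neg hp2] at h1
    exact Monoid.exponent_dvd_of_forall_pow_eq_one fun y => Subtype.ext (h1 y y.2)

end Cfsg.Agent.S0650
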