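import Cfsg.Statements.S0652
import Cfsg.Agent.Solv.GlaubermanReplace

set_option autoImplicit false
open Cfsg

namespace Cfsg.Agent.S0652

/-- For odd p and D normal in the p-group S, the elementary abelian subgroups of D of largest order satisfy the replacement property for class-2 normal subgroups of S. -/
theorem result {S : Type*} [Group S] [Finite S] {p : ℕ} [Fact p.Prime] (hS : IsPGroup p S) (hp : p ≠ 2) (D : Subgroup S) [D.Normal] : ∀ (B : Subgroup S) [B.Normal], ⁅⁅B, B⁆, B⁆ = ⊥ → (∃ U ∈ (Set.image (fun A : Subgroup ↥D => A.map D.subtype) (Cfsg.maxElementaryAbelianSubgroups p ↥D)), ⁅B, B⁆ ≤ U ∧ ¬ B ≤ U) → ∃ A ∈ (Set.image (fun A : Subgroup ↥D => A.map D.subtype) (Cfsg.maxElementaryAbelianSubgroups p ↥D)), ⁅B, B⁆ ≤ A ∧ ¬ B ≤ A ∧ B ≤ Subgroup.normalizer (A : Set S) := by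
  intro B _ hB hU
  have key : ∀ A : Subgroup S, (A ≤ D ∧ CfsgLib.Inv.ZJ.Abel p A ∧
      ∀ V : Subgroup S, V ≤ D → CfsgLib.Inv.ZJ.Abel p V → Nat.card V ≤ Nat.card A) ↔
      A ∈ Set.image (fun A : Subgroup ↥D => A.map D.subtype) (Cfsg.maxElementaryAbelianSubgroups p ↥D) := by
    intro A
    have hcard : ∀ X : Subgroup D, Nat.card (X.map D.subtype) = Nat.card X := fun X =>
      Subgroup.card_map_of_injective D.subtype_injective
    constructor
    · rintro ⟨hAD, hA, hmax⟩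
      refine ⟨A.subgroupOf D, ⟨?_, fun V hV => ?_⟩, Subgroup.map_subgroupOf_eq_of_le hAD⟩
      · exact ⟨⟨⟨fun a b => Subtype.ext (Subtype.ext (hA.comm a.2 b.2))⟩⟩, fun a ha => Subtype.ext (hA.2 _ ha)⟩
      · rw [← hcard, ← hcard, Subgroup.map_subgroupOf_eq_of_le hAD]
        refine hmax _ (Subgroup.map_subtype_le _) ?_
        exact (by haveI := hV.1; exact CfsgLib.Inv.ZJ.abel_of_commute (by rintro _ ⟨a, ha, rfl⟩ _ ⟨b, hb, rfl⟩; exact congrArg D.subtype (congrArg Subtype.val (IsMulCommutative.is_comm.comm (⟨a, ha⟩ : V) ⟨b, hb⟩))) (by rintro _ ⟨a, ha, rfl⟩; rw [← map_pow, hV.2 a ha, map_one]))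
    · rintro ⟨V, ⟨hV, hmax⟩, rfl⟩
      refine ⟨Subgroup.map_subtype_le _, (by haveI := hV.1; exact CfsgLib.Inv.ZJ.abel_of_commute (by rintro _ ⟨a, ha, rfl⟩ _ ⟨b, hb, rfl⟩; exact congrArg D.subtype (congrArg Subtype.val (IsMulCommutative.is_comm.comm (⟨a, ha⟩ : V) ⟨b, hb⟩))) (by rintro _ ⟨a, ha, rfl⟩; rw [← map_pow, hV.2 a ha, map_one])), fun W hW hA => ?_⟩
      rw [hcard, ← Subgroup.map_subgroupOf_eq_of_le hW, hcard]
      exact hmax _ ⟨⟨⟨fun a b => Subtype.ext (Subtype.ext (hA.comm a.2 b.2))⟩⟩, fun a ha => Subtype.ext (hA.2 _ ha)⟩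
  obtain ⟨U, hU1, hU2⟩ := hU
  obtain ⟨A, hA, h1, h2, h3⟩ := CfsgLib.Solv.GlaubermanReplace.replacement_property hS hp
    (e := p) (Or.inr ((Fact.out : p.Prime).odd_of_ne_two hp)) hB ⟨U, (key U).2 hU1, hU2⟩
  exact ⟨A, (key A).1 hA, h1, h2, h3⟩

end Cfsg.Agent.S0652
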