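import Cfsg.Statements.S0654
import Cfsg.Agent.Inv.ZJApp

set_option autoImplicit false
open Cfsg

namespace Cfsg.Agent.S0654

/-- The ZJ-Theorem for the elementary-abelian Thompson subgroup: for an odd prime p, a finite group G with C_G(O_p(G)) ≤ O_p(G) acting p-stably on its normal p-subgroups, and a Sylow p-subgroup S of G, the subgroup generated by the elements of order dividing p in Z(J_e(S)) is characteristic in G. -/
theorem result {G : Type*} [Group G] [Finite G] {p : ℕ} [Fact p.Prime] (hp : p ≠ 2) (hc : Subgroup.centralizer (Cfsg.pCore p G : Set G) ≤ Cfsg.pCore p G) (hst : ∀ (P : Subgroup G) [P.Normal], IsPGroup p P → Cfsg.IsPStableOn p P) (S : Sylow p G) : ((Cfsg.omegaCenterThompson p ↥(S : Subgroup G)).map (S : Subgroup G).subtype).Characteristic := by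
  have hn := CfsgLib.Inv.ZJ.zJ_normal (e := p) hp (Or.inr rfl) S (CfsgLib.Inv.ZJ.stronglyClosed_self _) hst hc
  have h1 : (Cfsg.omegaCenterThompson p ↥(S : Subgroup G)).map (S : Subgroup G).subtype =
      Cfsg.omegaOne p (CfsgLib.Inv.ZJ.zJ p (S : Subgroup G)) := by
    have h2 : Cfsg.thompsonSubgroup p ↥(S : Subgroup G) = CfsgLib.Inv.ZJ.jOf p (⊤ : Subgroup ↥(S : Subgroup G)) := by
      refine Subgroup.map_injective (S : Subgroup G).subtype_injective ?_
      rw [CfsgLib.Inv.ZJ.map_jOf (S : Subgroup G).subtype_injective, ← MonoidHom.range_eq_map, Subgroup.range_subtype]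
      exact CfsgLib.Solv.thompsonSubgroupOf_eq p (S : Subgroup G)
    rw [Cfsg.omegaCenterThompson, h2]
    show (Cfsg.omegaOne p (CfsgLib.Inv.ZJ.zJ p (⊤ : Subgroup ↥(S : Subgroup G)))).map _ = _
    rw [CfsgLib.Solv.omegaOne_map_of_injOn _ _ (S : Subgroup G).subtype_injective.injOn,
      CfsgLib.Inv.ZJ.map_zJ (S : Subgroup G).subtype_injective, ← MonoidHom.range_eq_map, Subgroup.range_subtype]
  rw [h1]
  haveI := CfsgLib.Inv.ZJ.zJ_characteristic S hn
  refine Subgroup.characteristic_iff_map_le.2 fun φ => ?_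
  rw [Cfsg.omegaOne, MonoidHom.map_closure]
  refine Subgroup.closure_mono ?_
  rintro _ ⟨y, ⟨hy, hye⟩, rfl⟩
  exact ⟨Subgroup.characteristic_iff_map_le.1 inferInstance φ ⟨y, hy, rfl⟩, by rw [← map_pow, hye, map_one]⟩

end Cfsg.Agent.S0654
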