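-- Statement S0655
import Cfsg.Statements.S0655
import Cfsg.Agent.Solv.ThompsonBasic

set_option autoImplicit false
open Cfsg
open scoped commutatorElement Pointwise
set_option linter.style.haveILetI false
set_option linter.deprecated false

namespace Cfsg.Agent.S0655

/-- In a p-group the intersection of all elementary abelian subgroups of largest order is the subgroup generated by the elements of order dividing p in the centre (equivalently the centralizer) of the elementary-version Thompson subgroup. -/
theorem result {S : Type*} [Group S] [Finite S] {p : ℕ} [Fact p.Prime] (hS : IsPGroup p S) : sInf (Cfsg.maxElementaryAbelianSubgroups p S) = Cfsg.omegaCenterThompson p S ∧ Cfsg.omegaCenterThompson p S = Cfsg.omegaOne p (Subgroup.centralizer (Cfsg.thompsonSubgroup p S : Set S)) := by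
    set J := Cfsg.thompsonSubgroup p S
    set M := Cfsg.maxElementaryAbelianSubgroups p S
    obtain ⟨A0, hA0⟩ := CfsgLib.Solv.exists_maxElementaryAbelian (p := p) (G := S)
    have h1 : Cfsg.omegaOne p (Subgroup.centralizer (J : Set S)) ≤ sInf M := by
      refine (Subgroup.closure_le _).2 fun x hx => Subgroup.mem_sInf.2 fun A hA => ?_
      have hc : Subgroup.zpowers x ≤ Subgroup.centralizer (A : Set S) := Subgroup.zpowers_le.2
        (Subgroup.centralizer_le (show (A : Set S) ⊆ (J : Set S) from le_sSup hA) hx.1)
      have he := CfsgLib.Solv.isElementaryAbelian_sup hA.1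
        (CfsgLib.Solv.isElementaryAbelian_zpowers hx.2) hc
      exact (Subgroup.eq_of_le_of_card_ge le_sup_left (hA.2 _ he)).ge
        (Subgroup.mem_sup_right (Subgroup.mem_zpowers x))
    have h2 : sInf M ≤ Cfsg.omegaCenterThompson p S := fun x hx => by
      have hall := Subgroup.mem_sInf.1 hx
      refine Subgroup.subset_closure ⟨Subgroup.mem_inf.2 ⟨le_sSup hA0 (hall A0 hA0), ?_⟩,
        hA0.1.2 x (hall A0 hA0)⟩
      have h4 : J ≤ Subgroup.centralizer ({x} : Set S) := sSup_le fun A hA a ha => by
        rw [Subgroup.mem_centralizer_iff]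
        rintro y rfl
        exact CfsgLib.Solv.commute_of_isElementaryAbelian hA.1 (hall A hA) ha
      rw [Subgroup.mem_centralizer_iff]
      exact fun j hj => (Subgroup.mem_centralizer_iff.1 (h4 hj) x rfl).symm
    have h3 : Cfsg.omegaCenterThompson p S ≤ Cfsg.omegaOne p (Subgroup.centralizer (J : Set S)) :=
      Subgroup.closure_mono fun x hx => ⟨(Subgroup.mem_inf.1 hx.1).2, hx.2⟩
    exact ⟨le_antisymm h2 (h3.trans h1), le_antisymm h3 (h1.trans h2)⟩

end Cfsg.Agent.S0655
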