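import Cfsg.Statements.S0656
import Cfsg.Agent.Solv.QuadraticSL2

set_option autoImplicit false
open Cfsg

namespace Cfsg.Agent.S0656

/-- For odd p, a faithful group on an elementary abelian p-group with no nontrivial normal p-subgroup in which some nontrivial p-element acts quadratically has a section isomorphic to SL(2, p). -/
theorem result {G : Type*} [Group G] [Finite G] {p : ℕ} [Fact p.Prime] (hp : p ≠ 2) (V H : Subgroup G) (hV : Cfsg.IsElementaryAbelian p V) (hHV : H ≤ Subgroup.normalizer (V : Set G)) (hf : H ⊓ Subgroup.centralizer (V : Set G) = ⊥) (hO : Cfsg.pCore p ↥H = ⊥) (x : G) (hxH : x ∈ H) (hx1 : x ≠ 1) (hxp : ∃ k : ℕ, orderOf x = p ^ k) (hq : ⁅⁅V, Subgroup.zpowers x⁆, Subgroup.zpowers x⁆ = ⊥) : ∃ (K L : Subgroup G) (hL : (L.subgroupOf K).Normal), K ≤ H ∧ Nonempty ((K ⧸ L.subgroupOf K) ≃* Matrix.SpecialLinearGroup (Fin 2) (ZMod p)) := by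
  refine CfsgLib.Solv.sl2_section_of_quadratic hp hV hHV hf hO hxH hx1 fun v hv => ?_
  open scoped commutatorElement in
  have h1 : ⁅⁅v, x⁆, x⁆ = 1 := by
    rw [← Subgroup.mem_bot, ← hq]
    exact Subgroup.commutator_mem_commutator
      (Subgroup.commutator_mem_commutator hv (Subgroup.mem_zpowers x)) (Subgroup.mem_zpowers x)
  have h2 := commutatorElement_eq_one_iff_commute.1 h1
  rw [← commutatorElement_inv v x]
  exact commutatorElement_eq_one_iff_commute.2 h2.symm.inv_right

end Cfsg.Agent.S0656
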