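import Cfsg.Statements.S0658
import Cfsg.Agent.Inv.ZJApp

set_option autoImplicit false
open Cfsg

namespace Cfsg.Agent.S0658

open CfsgLib.Inv.ZJ CfsgLib.Glau in
/-- The local statement. -/
theorem local_le {G : Type*} [Group G] [Finite G] {p : ℕ} [Fact p.Prime] (hp : p ≠ 2)
    (hloc : ∀ Q : Subgroup G, IsPGroup p Q → Q ≠ ⊥ → Cfsg.pPrimeCore p ↥(Subgroup.normalizer (Q : Set G)) = ⊥ ∧
      Cfsg.IsPConstrained p ↥(Subgroup.normalizer (Q : Set G)) ∧ Cfsg.IsPStable p ↥(Subgroup.normalizer (Q : Set G)))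
    {U T : Subgroup G} (hU : IsPGroup p U) (hUne : U ≠ ⊥) (hT : Syl p T (Subgroup.normalizer (U : Set G))) :
    Subgroup.normalizer (U : Set G) ≤ Subgroup.normalizer (zJ 0 T : Set G) := by
  set H := Subgroup.normalizer (U : Set G) with hH
  obtain ⟨h1, h2, h3⟩ := hloc U hU hUne
  haveI := CfsgLib.Solv.pPrimeCore_normal ↥H p
  have h := zJ_normal_quotient (e := 0) hp (Or.inl rfl) h2 h3 hT.toSylow
  have h4 := sup_normalizer_eq_top ((hT.toSylow.isPGroup').to_le (zJ_le _)) CfsgLib.Solv.not_dvd_card_pPrimeCore h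
  rw [h1, bot_sup_eq, hT.coe_toSylow] at h4
  intro g hg
  have h5 : (⟨g, hg⟩ : ↥H) ∈ Subgroup.normalizer (zJ 0 (T.subgroupOf H) : Set ↥H) := by
    rw [h4]; exact Subgroup.mem_top _
  have h6 := Subgroup.le_normalizer_map H.subtype ⟨_, h5, rfl⟩
  rwa [map_zJ H.subtype_injective, Subgroup.map_subgroupOf_eq_of_le hT.le] at h6

open CfsgLib.Inv.ZJ CfsgLib.Glau in
/-- Every local subgroup normalizes the center of the Thompson subgroup of some Sylow subgroup. -/
theorem exists_sylow_le {G : Type*} [Group G] [Finite G] {p : ℕ} [Fact p.Prime] (hp : p ≠ 2)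
    (hloc : ∀ Q : Subgroup G, IsPGroup p Q → Q ≠ ⊥ → Cfsg.pPrimeCore p ↥(Subgroup.normalizer (Q : Set G)) = ⊥ ∧
      Cfsg.IsPConstrained p ↥(Subgroup.normalizer (Q : Set G)) ∧ Cfsg.IsPStable p ↥(Subgroup.normalizer (Q : Set G))) :
    ∀ (n : ℕ) (U T : Subgroup G), IsPGroup p U → U ≠ ⊥ → Syl p T (Subgroup.normalizer (U : Set G)) →
      Nat.card G - Nat.card T = n →
      ∃ S : Sylow p G, Subgroup.normalizer (U : Set G) ≤ Subgroup.normalizer (zJ 0 (S : Subgroup G) : Set G) := by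
  intro n
  induction n using Nat.strong_induction_on with
  | _ n ih =>
  intro U T hU hUne hT hn
  have hle := local_le hp hloc hU hUne hT
  obtain ⟨S₀, hS₀⟩ := hT.pg.exists_le_sylow
  by_cases hTS : T = S₀
  · exact ⟨S₀, hTS ▸ hle⟩
  have hTne : T ≠ ⊥ := fun h => hUne (le_bot_iff.1 (by
    obtain ⟨x, -, hx⟩ := hT.exists_conj_le Subgroup.le_normalizer hU
    rw [h] at hx
    intro u hu
    have h' := hx ⟨u, hu, rfl⟩
    rw [Subgroup.mem_bot] at h' ⊢
    exact (MulAut.conj x).injective (h'.trans (map_one _).symm)))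
  set W := zJ 0 T with hW
  have hWne : W ≠ ⊥ := zJ_ne_bot (p := p) (Or.inl rfl) hT.pg hTne
  obtain ⟨T', -, hT'⟩ := exists_syl (p := p) (Subgroup.normalizer (W : Set G)) (Q := ⊥) bot_le IsPGroup.of_bot
  have hlt : Nat.card T < Nat.card T' := by
    haveI := S₀.isPGroup'.isNilpotent
    have hlt : T.subgroupOf S₀ < ⊤ := lt_top_iff_ne_top.2 fun h =>
      hTS (le_antisymm hS₀ (Subgroup.subgroupOf_eq_top.1 h))
    obtain ⟨⟨x, hxS⟩, hx, hxT⟩ := SetLike.exists_of_lt (Group.normalizerCondition_of_isNilpotent _ hlt)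
    rw [← Subgroup.subgroupOf_normalizer_eq hS₀, Subgroup.mem_subgroupOf] at hx
    rw [Subgroup.mem_subgroupOf] at hxT
    refine lt_of_lt_of_le ?_ (hT'.card_le (inf_le_right.trans (normalizer_le_zJ T))
      (S₀.isPGroup'.to_le (inf_le_left : (S₀ : Subgroup G) ⊓ Subgroup.normalizer (T : Set G) ≤ _)))
    refine lt_of_le_of_ne (Subgroup.card_le_of_le (le_inf hS₀ Subgroup.le_normalizer)) fun h => hxT ?_
    rw [Subgroup.eq_of_le_of_card_ge (le_inf hS₀ Subgroup.le_normalizer) h.ge]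
    exact ⟨hxS, hx⟩
  have := Nat.le_of_dvd Nat.card_pos (Subgroup.card_subgroup_dvd_card T')
  obtain ⟨S, hS⟩ := ih (Nat.card G - Nat.card T') (by omega) W T' (hT.pg.to_le (zJ_le T)) hWne hT' rfl
  exact ⟨S, hle.trans hS⟩

open CfsgLib.Inv.ZJ CfsgLib.Glau in
/-- A local subgroup normalizes the center for every Sylow subgroup containing a given `p`-subgroup. -/
theorem exists_over {G : Type*} [Group G] [Finite G] {p : ℕ} [Fact p.Prime] (hp : p ≠ 2)
    (hloc : ∀ Q : Subgroup G, IsPGroup p Q → Q ≠ ⊥ → Cfsg.pPrimeCore p ↥(Subgroup.normalizer (Q : Set G)) = ⊥ ∧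
      Cfsg.IsPConstrained p ↥(Subgroup.normalizer (Q : Set G)) ∧ Cfsg.IsPStable p ↥(Subgroup.normalizer (Q : Set G)))
    {U : Subgroup G} (hU : IsPGroup p U) (hUne : U ≠ ⊥) :
    ∃ S : Sylow p G, Subgroup.normalizer (U : Set G) ≤ Subgroup.normalizer (zJ 0 (S : Subgroup G) : Set G) ∧
      ∀ X : Subgroup G, IsPGroup p X → X ≤ Subgroup.normalizer (U : Set G) →
        ∃ S' : Sylow p G, X ≤ (S' : Subgroup G) ∧ zJ 0 (S' : Subgroup G) = zJ 0 (S : Subgroup G) := by
  obtain ⟨T, -, hT⟩ := exists_syl (p := p) (Subgroup.normalizer (U : Set G)) (Q := ⊥) bot_le IsPGroup.of_bot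
  obtain ⟨S, hS⟩ := exists_sylow_le hp hloc _ U T hU hUne hT rfl
  refine ⟨S, hS, fun X hX hXU => ?_⟩
  obtain ⟨x, hx, hxS⟩ := ((syl_top S).mono (Subgroup.le_normalizer.trans (normalizer_le_zJ _)) le_top).exists_conj_le
    (hXU.trans hS) hX
  refine ⟨x⁻¹ • S, fun y hy => ?_, ?_⟩
  · rw [Sylow.coe_subgroup_smul]
    exact ⟨x * y * x⁻¹, hxS ⟨y, hy, rfl⟩, by simp [MulAut.smul_def, mul_assoc]⟩
  · rw [Sylow.coe_subgroup_smul]
    show zJ 0 ((S : Subgroup G).map (MulAut.conj x⁻¹).toMonoidHom) = _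
    rw [← map_zJ (MulAut.conj x⁻¹).injective]
    exact mem_normalizer_iff_cj.1 (Subgroup.inv_mem _ hx)

/-- In a group of characteristic p type all of whose p-locals are p-stable (p odd), the normalizer of Z(J(P)) contains the normalizer of every nontrivial subgroup of the Sylow p-subgroup P. -/
theorem result {G : Type*} [Group G] [Finite G] {p : ℕ} [Fact p.Prime] (hp : p ≠ 2) (hloc : ∀ Q : Subgroup G, IsPGroup p Q → Q ≠ ⊥ → Cfsg.pPrimeCore p ↥(Subgroup.normalizer (Q : Set G)) = ⊥ ∧ Cfsg.IsPConstrained p ↥(Subgroup.normalizer (Q : Set G)) ∧ Cfsg.IsPStable p ↥(Subgroup.normalizer (Q : Set G))) (P : Sylow p G) (Q : Subgroup G) (hQP : Q ≤ (P : Subgroup G)) (hQ1 : Q ≠ ⊥) : Subgroup.normalizer (Q : Set G) ≤ Subgroup.normalizer (Cfsg.centerThompsonAOf ((P : Subgroup G)) : Set G) := by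
  open CfsgLib.Inv.ZJ CfsgLib.Glau in
  rw [centerThompsonAOf_eq]
  open CfsgLib.Inv.ZJ CfsgLib.Glau in
  have key : ∀ (n : ℕ) (R S : Sylow p G), (R : Subgroup G) ⊓ S ≠ ⊥ →
      Nat.card G - Nat.card ((R : Subgroup G) ⊓ S : Subgroup G) = n →
      zJ 0 (R : Subgroup G) = zJ 0 (S : Subgroup G) := by
    intro n
    induction n using Nat.strong_induction_on with
    | _ n ih =>
    intro R S hne hn
    by_cases hRS : (R : Subgroup G) = S
    · rw [hRS]
    set D := (R : Subgroup G) ⊓ S with hD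
    obtain ⟨S₁, -, hover⟩ := exists_over hp hloc (R.isPGroup'.to_le (inf_le_left : D ≤ R)) hne
    have grow : ∀ R' : Sylow p G, D ≤ (R' : Subgroup G) → D ≠ (R' : Subgroup G) →
        zJ 0 (R' : Subgroup G) = zJ 0 (S₁ : Subgroup G) := by
      intro R' hDR hne'
      obtain ⟨S', hS', he⟩ := hover _ (R'.isPGroup'.to_le
        (inf_le_left : (R' : Subgroup G) ⊓ Subgroup.normalizer (D : Set G) ≤ R')) inf_le_right
      refine Eq.trans ?_ he
      haveI := R'.isPGroup'.isNilpotent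
      have hlt : D.subgroupOf R' < ⊤ := lt_top_iff_ne_top.2 fun h =>
        hne' (le_antisymm hDR (Subgroup.subgroupOf_eq_top.1 h))
      obtain ⟨⟨x, hxR⟩, hx, hxD⟩ := SetLike.exists_of_lt (Group.normalizerCondition_of_isNilpotent _ hlt)
      rw [← Subgroup.subgroupOf_normalizer_eq hDR, Subgroup.mem_subgroupOf] at hx
      rw [Subgroup.mem_subgroupOf] at hxD
      have hle : D ≤ (R' : Subgroup G) ⊓ S' :=
        le_inf hDR ((le_inf hDR Subgroup.le_normalizer).trans hS')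
      have hcard : Nat.card D < Nat.card ((R' : Subgroup G) ⊓ S' : Subgroup G) := by
        refine lt_of_le_of_ne (Subgroup.card_le_of_le hle) fun h => hxD ?_
        rw [Subgroup.eq_of_le_of_card_ge hle h.ge]
        exact ⟨hxR, hS' ⟨hxR, hx⟩⟩
      have := Nat.le_of_dvd Nat.card_pos (Subgroup.card_subgroup_dvd_card ((R' : Subgroup G) ⊓ S'))
      exact ih (Nat.card G - Nat.card ((R' : Subgroup G) ⊓ S' : Subgroup G)) (by omega) R' S'
        (fun h => hne (le_bot_iff.1 (h ▸ hle))) rfl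
    rw [grow R inf_le_left fun h => hRS (R.is_maximal' S.isPGroup' (h.ge.trans inf_le_right)).symm,
      grow S inf_le_right fun h => hRS (S.is_maximal' R.isPGroup' (h.ge.trans inf_le_left))]
  open CfsgLib.Inv.ZJ CfsgLib.Glau in
  obtain ⟨S, hS, hover⟩ := exists_over hp hloc (P.isPGroup'.to_le hQP) hQ1
  obtain ⟨S', hS', he⟩ := hover Q (P.isPGroup'.to_le hQP) Subgroup.le_normalizer
  rw [key _ P S' (fun h => hQ1 (le_bot_iff.1 (h ▸ le_inf hQP hS'))) rfl, he]
  exact hS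

end Cfsg.Agent.S0658
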