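import Cfsg.Statements.S0661
import Cfsg.Agent.Solv.PLocalLayer

set_option autoImplicit false
open Cfsg

namespace Cfsg.Agent.S0661

/-- If, modulo the largest normal subgroup of order prime to p, the largest normal p-subgroup contains its centralizer, then for every p-subgroup P the p'-core of N_G(P) is just O_p'(G) ∩ N_G(P). -/
theorem result {G : Type*} [Group G] [Finite G] {p : ℕ} [Fact p.Prime] (hc : Subgroup.centralizer (Cfsg.pCore p (G ⧸ Cfsg.pPrimeCore p G) : Set (G ⧸ Cfsg.pPrimeCore p G)) ≤ Cfsg.pCore p (G ⧸ Cfsg.pPrimeCore p G)) (P : Subgroup G) (hP : IsPGroup p P) : (Cfsg.pPrimeCore p ↥(Subgroup.normalizer (P : Set G))).map (Subgroup.normalizer (P : Set G)).subtype = Cfsg.pPrimeCore p G ⊓ Subgroup.normalizer (P : Set G) := by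

  set N := Subgroup.normalizer (P : Set G) with hN
  set C := Cfsg.pPrimeCore p G with hC
  haveI hCn : C.Normal := CfsgLib.Solv.pPrimeCore_normal G p
  haveI hOn := CfsgLib.Solv.pPrimeCore_normal ↥N p
  set π := QuotientGroup.mk' C with hπ
  haveI : (Cfsg.pCore p (G ⧸ C)).Normal := CfsgLib.Solv.pCore_normal _ p
  apply le_antisymm
  · rintro _ ⟨o, ho, rfl⟩
    refine ⟨?_, o.2⟩
    have h1 : π (o : G) ∈ Subgroup.centralizer (Cfsg.pCore p (G ⧸ C) : Set (G ⧸ C)) :=
      CfsgLib.Solv.layerPre_centralizes π (QuotientGroup.mk'_surjective C)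
        (by rw [QuotientGroup.ker_mk']; exact CfsgLib.Solv.pPrimeCore_coprime G p)
        (Cfsg.pCore p (G ⧸ C)) (CfsgLib.Solv.pCore_isPGroup _ p) P hP o
        (by rw [(QuotientGroup.eq_one_iff o).2 ho |> (show _ → QuotientGroup.mk' (Cfsg.pPrimeCore p ↥N) o = 1 from fun h => h)]; exact one_mem _)
    refine (QuotientGroup.eq_one_iff _).1 ?_
    refine CfsgLib.Solv.eq_one_of_pPrime_of_mem_pGroup (CfsgLib.Solv.pCore_isPGroup _ p) (hc h1) ?_
    refine Nat.Coprime.coprime_dvd_left ((orderOf_map_dvd π (o : G))) ?_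
    rw [Subgroup.orderOf_coe]
    exact (CfsgLib.Solv.pPrimeCore_coprime ↥N p).coprime_dvd_left (Subgroup.orderOf_dvd_natCard _ ho)
  · rintro x ⟨hxC, hxN⟩
    haveI : (C.subgroupOf N).Normal := Subgroup.normal_subgroupOf
    refine ⟨⟨x, hxN⟩, CfsgLib.Solv.le_pPrimeCore (N := C.subgroupOf N) ?_ hxC, rfl⟩
    rw [← Subgroup.inf_subgroupOf_right, CfsgLib.Solv.card_subgroupOf inf_le_right]
    exact (CfsgLib.Solv.pPrimeCore_coprime G p).coprime_dvd_left (Subgroup.card_dvd_of_le inf_le_left)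

end Cfsg.Agent.S0661
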