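import Cfsg.Statements.S3807
import Cfsg.Agent.Solv.Basic

set_option autoImplicit false
open Cfsg

namespace Cfsg.Agent.S3807

theorem card_lines {V : Type*} [Group V] [Finite V] {p : ℕ} (hp : p.Prime) (hc : Nat.card V = p ^ 2)
    (he : ∀ v : V, v ^ p = 1) : Nat.card {H : Subgroup V // Nat.card H = p} = p + 1 := by
  classical
  haveI := Fact.mk hp
  have hord : ∀ v : V, v ≠ 1 → Nat.card (Subgroup.zpowers v) = p := fun v hv => by
    rw [Nat.card_zpowers]; exact orderOf_eq_prime (he v) hv
  let e : {v : V // v ≠ 1} ≃ (Σ H : {H : Subgroup V // Nat.card H = p}, {h : H.1 // h ≠ 1}) :=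
    { toFun := fun v => ⟨⟨Subgroup.zpowers v.1, hord v.1 v.2⟩, ⟨⟨v.1, Subgroup.mem_zpowers v.1⟩, fun h => v.2 (congrArg Subtype.val h)⟩⟩
      invFun := fun z => ⟨(z.2.1 : V), fun h => z.2.2 (Subtype.ext h)⟩
      left_inv := fun v => rfl
      right_inv := by
        rintro ⟨⟨H, hH⟩, ⟨⟨v, hv⟩, hv1⟩⟩
        have hz : Subgroup.zpowers v = H := Subgroup.eq_of_le_of_card_ge (Subgroup.zpowers_le.2 hv)
          (by rw [hH, hord v fun h => hv1 (Subtype.ext h)])
        subst hz
        rfl }
  haveI := Fintype.ofFinite V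
  haveI := Fintype.ofFinite {H : Subgroup V // Nat.card H = p}
  have h := Nat.card_congr e
  rw [Nat.card_sigma, Nat.card_eq_fintype_card, Fintype.card_subtype_compl, Fintype.card_subtype_eq,
    ← Nat.card_eq_fintype_card, hc] at h
  have h2 : ∀ H : {H : Subgroup V // Nat.card H = p}, Nat.card {h : H.1 // h ≠ 1} = p - 1 := fun H => by
    haveI := Fintype.ofFinite H.1
    rw [Nat.card_eq_fintype_card, Fintype.card_subtype_compl, Fintype.card_subtype_eq, ← Nat.card_eq_fintype_card, H.2]
  simp only [h2, Finset.sum_const, Finset.card_univ, smul_eq_mul] at h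
  rw [← Nat.card_eq_fintype_card] at h
  obtain ⟨q, rfl⟩ : ∃ q, p = q + 2 := ⟨p - 2, by have := hp.two_le; omega⟩
  have h3 : (q + 2) ^ 2 - 1 = (q + 3) * (q + 1) := by
    have : (q + 2) ^ 2 = (q + 3) * (q + 1) + 1 := by ring
    omega
  rw [h3, show q + 2 - 1 = q + 1 from rfl] at h
  exact (Nat.eq_of_mul_eq_mul_right (by omega) h).symm


/-- Let S be a non-abelian finite p-group with an abelian subgroup A of index p. Then [S : Z(S)] = p·#[S,S], and either [S,S] has order p, S/Z(S) is elementary abelian of order p², and S has exactly p + 1 abelian subgroups of index p; or [S,S] has order at least p² and A is the only abelian subgroup of index p in S. -/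
theorem result {S : Type*} [Group S] [Finite S] (p : ℕ) [Fact p.Prime] (hS : IsPGroup p S) (hna : ¬ IsMulCommutative S)
    (A : Subgroup S) (hA : IsMulCommutative ↥A) (hAi : A.index = p) :
    (Subgroup.center S).index = p * Nat.card (commutator S) ∧
      ((Nat.card (commutator S) = p ∧ Cfsg.IsElementaryAbelian p (⊤ : Subgroup (S ⧸ Subgroup.center S)) ∧
          Nat.card (S ⧸ Subgroup.center S) = p ^ 2 ∧
          Nat.card {B : Subgroup S // IsMulCommutative ↥B ∧ B.index = p} = p + 1) ∨
        (p ^ 2 ≤ Nat.card (commutator S) ∧ ∀ B : Subgroup S, IsMulCommutative ↥B → B.index = p → B = A)) := by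
  classical
  have hp : p.Prime := Fact.out
  set Z := Subgroup.center S with hZdef
  -- every subgroup of index `p` is normal
  have hnorm : ∀ B : Subgroup S, B.index = p → B.Normal := fun B hB => by
    refine Subgroup.normal_of_index_eq_minFac_card ?_
    obtain ⟨k, hk⟩ := hS.exists_card_eq
    rw [hB, hk]
    rcases Nat.eq_zero_or_pos k with rfl | hk0
    · have := Subgroup.index_dvd_card B
      rw [hB, hk, pow_zero] at this
      exact absurd this hp.not_dvd_one
    · rw [Nat.pow_minFac hk0.ne', hp.minFac_eq]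
  have hsupt : ∀ B C : Subgroup S, B.index = p → ¬ C ≤ B → B ⊔ C = ⊤ := fun B C hB hC => by
    have h1 : B < B ⊔ C := left_lt_sup.2 hC
    rcases (Nat.dvd_prime hp).1 ((Subgroup.index_dvd_of_le h1.le).trans (dvd_of_eq hB)) with h | h
    · exact Subgroup.index_eq_one.1 h
    · exact absurd (Subgroup.index_strictAnti h1) (by rw [h, hB]; exact lt_irrefl _)
  have hcomm_top : ∀ B C : Subgroup S, B ⊔ C = ⊤ → (∀ b ∈ B, ∀ c ∈ B, b * c = c * b) → ∀ x, x ∈ B → (∀ c ∈ C, x * c = c * x) → x ∈ Z := by
    intro B C htop hB x hx hxc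
    have : (⊤ : Subgroup S) ≤ Subgroup.centralizer ({x} : Set S) := by
      rw [← htop, sup_le_iff]
      exact ⟨fun b hb => Subgroup.mem_centralizer_singleton_iff.2 (hB b hb x hx),
        fun c hc => Subgroup.mem_centralizer_singleton_iff.2 (hxc c hc).symm⟩
    exact Subgroup.mem_center_iff.2 fun g => Subgroup.mem_centralizer_singleton_iff.1 (this (Subgroup.mem_top g))
  have hZle : ∀ B : Subgroup S, IsMulCommutative ↥B → B.index = p → Z ≤ B := by
    intro B hB hBi
    by_contra hZ
    apply hna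
    have htop := hsupt B Z hBi hZ
    have hBc : ∀ b ∈ B, b ∈ Z := fun b hb => hcomm_top B Z htop
      (fun b hb c hc => congrArg Subtype.val (hB.is_comm.comm ⟨b, hb⟩ ⟨c, hc⟩)) b hb
      (fun c hc => Subgroup.mem_center_iff.1 hc b)
    have : (⊤ : Subgroup S) ≤ Z := htop ▸ sup_le hBc le_rfl
    exact ⟨⟨fun x y => Subgroup.mem_center_iff.1 (this (Subgroup.mem_top y)) x⟩⟩
  have hAc : ∀ a ∈ A, ∀ b ∈ A, a * b = b * a := fun a ha b hb => congrArg Subtype.val (hA.is_comm.comm ⟨a, ha⟩ ⟨b, hb⟩)
  have hZA := hZle A hA hAi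
  haveI hAn := hnorm A hAi
  obtain ⟨t, ht⟩ : ∃ t, t ∉ A := by
    by_contra h
    push Not at h
    rw [(Subgroup.eq_top_iff' A).2 h, Subgroup.index_top] at hAi
    exact hp.ne_one hAi.symm
  have htop : A ⊔ Subgroup.zpowers t = ⊤ := hsupt A _ hAi fun h => ht (h (Subgroup.mem_zpowers t))
  let f : A →* S :=
    { toFun := fun a => t * a * t⁻¹ * (a : S)⁻¹
      map_one' := by simp
      map_mul' := fun a b => by
        show t * ((a : S) * b) * t⁻¹ * ((a : S) * b)⁻¹ = _
        have h1 : t * b * t⁻¹ * (b : S)⁻¹ ∈ A := mul_mem (hAn.conj_mem b b.2 t) (inv_mem b.2)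
        have e : t * ((a : S) * b) * t⁻¹ * ((a : S) * b)⁻¹ =
          (t * a * t⁻¹) * ((t * b * t⁻¹ * (b : S)⁻¹) * (a : S)⁻¹) := by group
        rw [e, hAc _ h1 _ (inv_mem a.2)]
        group }
  have hker : f.ker.map A.subtype = Z := by
    apply le_antisymm
    · rintro _ ⟨a, ha, rfl⟩
      refine hcomm_top A (Subgroup.zpowers t) htop hAc a a.2 fun c hc => ?_
      obtain ⟨i, rfl⟩ := hc
      have h1 : t * (a : S) * t⁻¹ * (a : S)⁻¹ = 1 := ha
      rw [mul_inv_eq_one, mul_inv_eq_iff_eq_mul] at h1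
      exact ((show Commute (a : S) t from h1.symm).zpow_right i).eq
    · intro z hz
      refine ⟨⟨z, hZA hz⟩, ?_, rfl⟩
      show t * z * t⁻¹ * z⁻¹ = 1
      rw [Subgroup.mem_center_iff.1 hz t]; group
  have hrA : f.range ≤ A := by
    rintro _ ⟨a, rfl⟩
    exact mul_mem (hAn.conj_mem a a.2 t) (inv_mem a.2)
  have hconjt : ∀ y ∈ f.range, t * y * t⁻¹ ∈ f.range := by
    rintro _ ⟨a, rfl⟩
    exact ⟨⟨t * a * t⁻¹, hAn.conj_mem a a.2 t⟩, show t * (t * a * t⁻¹) * t⁻¹ * (t * a * t⁻¹)⁻¹ = t * (t * a * t⁻¹ * (a : S)⁻¹) * t⁻¹ by group⟩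
  haveI hrn : f.range.Normal := by
    rw [← Subgroup.normalizer_eq_top_iff, eq_top_iff, ← htop, sup_le_iff, Subgroup.zpowers_le]
    refine ⟨fun a ha => Subgroup.mem_normalizer_iff.2 fun y => ⟨fun hy => ?_, fun hy => ?_⟩, ?_⟩
    · rwa [hAc a ha y (hrA hy), mul_inv_cancel_right]
    · have hyA : y ∈ A := by
        have e : a⁻¹ * (a * y * a⁻¹) * a = y := by group
        rw [← e]; exact mul_mem (mul_mem (inv_mem ha) (hrA hy)) ha
      rwa [hAc a ha y hyA, mul_inv_cancel_right] at hy
    · have heq : f.range.map (MulAut.conj t).toMonoidHom = f.range :=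
        Subgroup.eq_of_le_of_card_ge (by rintro _ ⟨y, hy, rfl⟩; exact hconjt y hy)
          (Subgroup.card_map_of_injective (MulAut.conj t).injective).ge
      refine Subgroup.mem_normalizer_iff.2 fun y => ⟨hconjt y, fun hy => ?_⟩
      rw [← heq] at hy
      obtain ⟨z, hz, hzy⟩ := hy
      have : t * z * t⁻¹ = t * y * t⁻¹ := hzy
      rw [mul_left_inj, mul_right_inj] at this
      exact this ▸ hz
  have hrange : commutator S = f.range := by
    apply le_antisymm
    · rw [← Subgroup.Normal.quotient_commutative_iff_commutator_le]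
      have hgen : ∀ a ∈ A, Commute (QuotientGroup.mk' f.range a) (QuotientGroup.mk' f.range t) := fun a ha => by
        rw [commute_iff_eq, ← map_mul, ← map_mul, QuotientGroup.mk'_apply, QuotientGroup.mk'_apply, QuotientGroup.eq]
        have e : (a * t)⁻¹ * (t * a) = t⁻¹ * (a⁻¹ * (t * a * t⁻¹)) * t := by group
        have h1 : a⁻¹ * (t * a * t⁻¹) ∈ f.range := by
          rw [hAc _ (inv_mem ha) _ (hAn.conj_mem a ha t)]
          exact ⟨⟨a, ha⟩, rfl⟩
        rw [e]
        exact hrn.conj_mem' _ h1 t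
      refine ⟨⟨fun x y => ?_⟩⟩
      obtain ⟨x, rfl⟩ := QuotientGroup.mk'_surjective f.range x
      obtain ⟨y, rfl⟩ := QuotientGroup.mk'_surjective f.range y
      obtain ⟨a, ha, c, ⟨i, rfl⟩, rfl⟩ := Subgroup.mem_sup_of_normal_left.1 (htop ▸ Subgroup.mem_top x : x ∈ A ⊔ Subgroup.zpowers t)
      obtain ⟨b, hb, d, ⟨k, rfl⟩, rfl⟩ := Subgroup.mem_sup_of_normal_left.1 (htop ▸ Subgroup.mem_top y : y ∈ A ⊔ Subgroup.zpowers t)
      simp only [map_mul, map_zpow]
      have hab : Commute (QuotientGroup.mk' f.range a) (QuotientGroup.mk' f.range b) :=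
        (show Commute a b from hAc a ha b hb).map _
      exact ((hab.mul_right ((hgen a ha).zpow_right k)).mul_left
        ((((hgen b hb).symm).zpow_left i).mul_right ((Commute.refl _).zpow_zpow i k))).eq
    · rintro _ ⟨a, rfl⟩
      exact Subgroup.commutator_mem_commutator (Subgroup.mem_top t) (Subgroup.mem_top (a : S))
  have hidx : Z.index = p * Nat.card (commutator S) := by
    rw [← hker, Subgroup.index_map_subtype, Subgroup.index_ker, hAi, hrange, mul_comm]
  refine ⟨hidx, ?_⟩
  obtain ⟨j, hj⟩ := (hS.to_subgroup (commutator S)).exists_card_eq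
  have hj0 : j ≠ 0 := by
    rintro rfl
    rw [pow_zero, Subgroup.card_eq_one] at hj
    have h := hj
    rw [_root_.commutator, Subgroup.commutator_eq_bot_iff_le_centralizer] at h
    exact hna ⟨⟨fun x y => Subgroup.mem_centralizer_iff.1 (h (Subgroup.mem_top y)) x (Subgroup.mem_top x)⟩⟩
  rcases Nat.eq_or_lt_of_le (Nat.one_le_iff_ne_zero.2 hj0) with h1 | h2
  · left
    subst h1
    rw [pow_one] at hj
    have hq : Nat.card (S ⧸ Z) = p ^ 2 := by
      rw [← Subgroup.index_eq_card, hidx, hj, pow_two]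
    have hexp : ∀ v : S ⧸ Z, v ^ p = 1 := by
      intro v
      by_contra hv
      apply hna
      haveI : IsCyclic (S ⧸ Z) := isCyclic_of_orderOf_eq_card v (by
        rw [hq]
        exact orderOf_eq_prime_pow (n := 1) (by rwa [pow_one]) (by
          rw [show (1 : ℕ) + 1 = 2 from rfl, ← hq]; exact pow_card_eq_one'))
      exact ⟨⟨fun a b => commutative_of_cyclic_center_quotient (QuotientGroup.mk' Z) (by rw [QuotientGroup.ker_mk']) a b⟩⟩
    refine ⟨hj, ⟨⟨⟨fun a b => Subtype.ext (IsPGroup.commutative_of_card_eq_prime_sq hq a.1 b.1)⟩⟩, fun v _ => hexp v⟩, hq, ?_⟩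
    rw [← card_lines hp hq hexp]
    have habB : ∀ B : Subgroup S, Z ≤ B → B.index = p → IsMulCommutative ↥B := by
      intro B hZB hB
      have hc : Nat.card (B.map (QuotientGroup.mk' Z)) = p := by
        have h1 := CfsgLib.Solv.card_map_mk' Z B
        rw [inf_eq_right.2 hZB] at h1
        have h2 := Subgroup.card_mul_index B
        have h3 := Subgroup.card_mul_index Z
        rw [hidx, hj] at h3
        rw [hB] at h2
        refine Nat.eq_of_mul_eq_mul_left (Nat.mul_pos (Nat.card_pos (α := Z)) hp.pos) ?_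
        linarith [congrArg (fun t => t * p) h1]
      haveI := isCyclic_of_prime_card hc
      refine ⟨⟨fun a b => ?_⟩⟩
      exact commutative_of_cyclic_center_quotient ((QuotientGroup.mk' Z).subgroupMap B) (by
        intro x hx
        have hxZ : (x : S) ∈ Z := (QuotientGroup.eq_one_iff _).1 (congrArg Subtype.val hx)
        exact Subgroup.mem_center_iff.2 fun y => Subtype.ext (Subgroup.mem_center_iff.1 hxZ y)) a b
    have hidxc : ∀ H : Subgroup (S ⧸ Z), Nat.card H = p ↔ (H.comap (QuotientGroup.mk' Z)).index = p := by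
      intro H
      rw [Subgroup.index_comap_of_surjective _ (QuotientGroup.mk'_surjective Z)]
      have h := Subgroup.card_mul_index H
      rw [hq, pow_two] at h
      constructor <;> intro h'
      · rw [h'] at h; exact Nat.eq_of_mul_eq_mul_left hp.pos h
      · rw [h'] at h; exact Nat.eq_of_mul_eq_mul_right hp.pos h
    refine Nat.card_congr
      { toFun := fun B => ⟨B.1.map (QuotientGroup.mk' Z), (hidxc _).2 (by
          rw [Subgroup.comap_map_eq, QuotientGroup.ker_mk', sup_eq_left.2 (hZle B.1 B.2.1 B.2.2)]; exact B.2.2)⟩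
        invFun := fun H => ⟨H.1.comap (QuotientGroup.mk' Z),
          habB _ (fun z hz => by rw [Subgroup.mem_comap, show QuotientGroup.mk' Z z = 1 from (QuotientGroup.eq_one_iff z).2 hz]; exact one_mem _) ((hidxc _).1 H.2),
          (hidxc _).1 H.2⟩
        left_inv := fun B => Subtype.ext (by
          show (B.1.map (QuotientGroup.mk' Z)).comap (QuotientGroup.mk' Z) = B.1
          rw [Subgroup.comap_map_eq, QuotientGroup.ker_mk', sup_eq_left.2 (hZle B.1 B.2.1 B.2.2)])
        right_inv := fun H => Subtype.ext (Subgroup.map_comap_eq_self_of_surjective (QuotientGroup.mk'_surjective Z) H.1) }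
  · right
    refine ⟨hj ▸ Nat.pow_le_pow_right hp.pos h2, fun B hB hBi => ?_⟩
    by_contra hne
    haveI := hnorm B hBi
    have hBA : ¬ B ≤ A := fun h => hne (Subgroup.eq_of_le_of_card_ge h (by
      have h1 := Subgroup.card_mul_index A
      rw [← Subgroup.card_mul_index B, hAi, hBi] at h1
      exact (Nat.eq_of_mul_eq_mul_right hp.pos h1).le))
    have hAB := hsupt A B hAi hBA
    have hle : A ⊓ B ≤ Z := fun x hx => hcomm_top A B hAB hAc x hx.1
      (fun c hc => congrArg Subtype.val (hB.is_comm.comm ⟨x, hx.2⟩ ⟨c, hc⟩))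
    have h3 : Z.index ≤ p * p := by
      refine le_trans (Nat.le_of_dvd (Nat.pos_of_ne_zero Subgroup.index_ne_zero_of_finite) (Subgroup.index_dvd_of_le hle)) ?_
      exact Subgroup.index_inf_le.trans_eq (by rw [hAi, hBi])
    rw [hidx, hj] at h3
    have h4 := Nat.le_of_mul_le_mul_left h3 hp.pos
    have h5 := (Nat.pow_le_pow_iff_right hp.one_lt (m := 1)).1 (h4.trans_eq (pow_one p).symm)
    omega

end Cfsg.Agent.S3807
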