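import Cfsg.Statements.S0662
import Cfsg.Agent.S3807

set_option autoImplicit false
open Cfsg
open scoped commutatorElement

namespace Cfsg.Agent.S0662

theorem card_lines_of_sq {V : Type*} [Group V] [Finite V] {p : ℕ} (hp : p.Prime) (hc : Nat.card V = p ^ 2)
    (hnc : ¬ IsCyclic V) : Nat.card {H : Subgroup V // Nat.card H = p} = p + 1 := by
  haveI := Fact.mk hp
  refine Cfsg.Agent.S3807.card_lines hp hc fun v => ?_
  by_contra hv
  exact hnc (isCyclic_of_orderOf_eq_card v (by
    rw [hc]
    exact orderOf_eq_prime_pow (n := 1) (by rwa [pow_one]) (by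
      rw [show (1 : ℕ) + 1 = 2 from rfl, ← hc]; exact pow_card_eq_one')))

theorem lcs_stationary {G : Type*} [Group G] [Group.IsNilpotent G] {i : ℕ}
    (h : (⊤ : Subgroup G).lowerCentralSeries (i + 1) = (⊤ : Subgroup G).lowerCentralSeries i) :
    (⊤ : Subgroup G).lowerCentralSeries i = ⊥ := by
  have hconst : ∀ j, (⊤ : Subgroup G).lowerCentralSeries (i + j) = (⊤ : Subgroup G).lowerCentralSeries i := fun j => by
    induction j with
    | zero => rfl
    | succ j ih => rw [← Nat.add_assoc, Subgroup.lowerCentralSeries_succ, ih, ← Subgroup.lowerCentralSeries_succ, h]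
  rw [← hconst (Group.nilpotencyClass G)]
  exact Subgroup.lowerCentralSeries_eq_bot_iff_nilpotencyClass_le.2 (Nat.le_add_left _ _)

theorem not_cyclic_abelianization {G : Type*} [Group G] [Group.IsNilpotent G]
    (h1 : (⊤ : Subgroup G).lowerCentralSeries 1 ≠ ⊥) : ¬ IsCyclic (G ⧸ commutator G) := by
  intro hc
  set L : ℕ → Subgroup G := (⊤ : Subgroup G).lowerCentralSeries with hL
  have hL1 : L 1 = commutator G := by
    rw [hL, Subgroup.lowerCentralSeries_succ, Subgroup.lowerCentralSeries_zero]; rfl
  have hlt : L 2 < L 1 := lt_of_le_of_ne ((⊤ : Subgroup G).lowerCentralSeries_antitone (Nat.le_succ 1))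
    fun h => h1 (lcs_stationary h)
  have h2 : L 2 = ⁅L 1, (⊤ : Subgroup G)⁆ := (⊤ : Subgroup G).lowerCentralSeries_succ 1
  haveI : (L 2).Normal := by rw [hL]; exact Subgroup.normal_of_characteristic _
  haveI := hc
  let f : G ⧸ L 2 →* G ⧸ commutator G := QuotientGroup.map (L 2) (commutator G) (MonoidHom.id G) (fun x hx => hL1.le (hlt.le hx))
  have hker : f.ker ≤ Subgroup.center (G ⧸ L 2) := by
    intro q hq
    obtain ⟨x, rfl⟩ := QuotientGroup.mk'_surjective (L 2) q
    have hx : x ∈ L 1 := hL1.ge ((QuotientGroup.eq_one_iff _).1 hq)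
    refine Subgroup.mem_center_iff.2 fun r => ?_
    obtain ⟨y, rfl⟩ := QuotientGroup.mk'_surjective (L 2) r
    rw [← map_mul, ← map_mul, QuotientGroup.mk'_apply, QuotientGroup.mk'_apply, QuotientGroup.eq]
    have h := h2.ge (Subgroup.commutator_mem_commutator (inv_mem hx) (Subgroup.mem_top y⁻¹))
    simpa [commutatorElement_def, mul_assoc] using h
  have hab : IsMulCommutative (G ⧸ L 2) := ⟨⟨commutative_of_cyclic_center_quotient f hker⟩⟩
  exact hlt.not_ge (hL1.le.trans (Subgroup.Normal.quotient_commutative_iff_commutator_le.1 hab))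

theorem card_lcs_dvd {G : Type*} [Group G] [Finite G] {p : ℕ} [hp : Fact p.Prime] (hP : IsPGroup p G) :
    ∀ i, (⊤ : Subgroup G).lowerCentralSeries (i + 1) ≠ ⊥ →
      Nat.card ↥((⊤ : Subgroup G).lowerCentralSeries (i + 1)) * p ^ (i + 2) ∣ Nat.card G := by
  haveI := hP.isNilpotent
  intro i
  induction i with
  | zero =>
    intro h1
    have hnc := not_cyclic_abelianization h1
    have he : (⊤ : Subgroup G).lowerCentralSeries 1 = commutator G := by
      rw [Subgroup.lowerCentralSeries_succ, Subgroup.lowerCentralSeries_zero]; rfl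
    rw [Nat.zero_add, he, ← Subgroup.card_mul_index (commutator G)]
    refine Nat.mul_dvd_mul_left _ ?_
    obtain ⟨a, ha⟩ := (hP.to_quotient (commutator G)).exists_card_eq
    rw [Subgroup.index_eq_card, ha]
    refine pow_dvd_pow p ?_
    by_contra h
    apply hnc
    rcases (show a = 0 ∨ a = 1 by omega) with rfl | rfl
    · haveI : Subsingleton (G ⧸ commutator G) := (Nat.card_eq_one_iff_unique.1 (by simpa using ha)).1
      infer_instance
    · exact isCyclic_of_prime_card (p := p) (by simpa using ha)
  | succ i ih =>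
    intro h
    have hle : (⊤ : Subgroup G).lowerCentralSeries (i + 1 + 1) ≤ (⊤ : Subgroup G).lowerCentralSeries (i + 1) :=
      (⊤ : Subgroup G).lowerCentralSeries_antitone (Nat.le_succ _)
    have hne : (⊤ : Subgroup G).lowerCentralSeries (i + 1 + 1) ≠ (⊤ : Subgroup G).lowerCentralSeries (i + 1) :=
      fun e => h (e.trans (lcs_stationary e))
    have h1 := ih fun e => h (le_bot_iff.1 (hle.trans e.le))
    obtain ⟨a, ha⟩ := (hP.to_subgroup ((⊤ : Subgroup G).lowerCentralSeries (i + 1 + 1))).exists_card_eq
    obtain ⟨b, hb⟩ := (hP.to_subgroup ((⊤ : Subgroup G).lowerCentralSeries (i + 1))).exists_card_eq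
    have hab : a < b := by
      by_contra hh
      exact hne (Subgroup.eq_of_le_of_card_ge hle (by rw [ha, hb]; exact Nat.pow_le_pow_right hp.out.pos (by omega)))
    rw [hb, ← pow_add] at h1
    rw [ha, ← pow_add]
    exact (pow_dvd_pow p (by omega)).trans h1


/-- In a p-group of maximal class of order at least p³ the normal subgroups of index at least p² are exactly the terms of the lower central series, and there are exactly p + 1 normal subgroups of index p. -/
theorem result {G : Type*} [Group G] [Finite G] {p : ℕ} [Fact p.Prime] (n : ℕ) (hG : Nat.card G = p ^ n) (hcl : Group.nilpotencyClass G = n - 1) (hn : 3 ≤ n) : (∀ (N : Subgroup G) [N.Normal] (r : ℕ), 2 ≤ r → N.index = p ^ r → N = (⊤ : Subgroup G).lowerCentralSeries (r - 1)) ∧ Nat.card {N : Subgroup G // N.Normal ∧ N.index = p} = p + 1 := by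
  classical
  have hp : p.Prime := Fact.out
  have hP : IsPGroup p G := IsPGroup.of_card hG
  haveI : Group.IsNilpotent G := hP.isNilpotent
  set L : ℕ → Subgroup G := (⊤ : Subgroup G).lowerCentralSeries with hL
  have hbot : ∀ i, L i = ⊥ ↔ n - 1 ≤ i := fun i => by
    rw [hL, Subgroup.lowerCentralSeries_eq_bot_iff_nilpotencyClass_le, hcl]
  have hstrict : ∀ i, i < n - 1 → L (i + 1) < L i := by
    intro i hi
    refine lt_of_le_of_ne ((⊤ : Subgroup G).lowerCentralSeries_antitone (Nat.le_succ i)) fun h => ?_
    have hconst : ∀ j, L (i + j) = L i := fun j => by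
      induction j with
      | zero => rfl
      | succ j ih =>
        rw [hL, ← Nat.add_assoc, Subgroup.lowerCentralSeries_succ]
        rw [hL] at ih h
        rw [ih, ← Subgroup.lowerCentralSeries_succ, h]
    have h1 := hconst (n - 1)
    rw [(hbot (i + (n - 1))).2 (by omega)] at h1
    have := (hbot i).1 h1.symm
    omega
  have hlen : ∀ i, i ≤ n - 1 → p ^ (n - 1 - i) ∣ Nat.card (L i) := by
    intro i hi
    induction hi' : n - 1 - i generalizing i with
    | zero => exact one_dvd _
    | succ d ih =>
      have h1 := ih (i + 1) (by omega) (by omega)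
      obtain ⟨a, ha⟩ := (hP.to_subgroup (L (i + 1))).exists_card_eq
      obtain ⟨b, hb⟩ := (hP.to_subgroup (L i)).exists_card_eq
      have hlt := hstrict i (by omega)
      have hab : a < b := by
        by_contra h
        exact hlt.ne (Subgroup.eq_of_le_of_card_ge hlt.le (by rw [ha, hb]; exact Nat.pow_le_pow_right hp.pos (by omega)))
      rw [ha] at h1
      rw [hb]
      exact pow_dvd_pow p (by have := (Nat.pow_dvd_pow_iff_le_right hp.one_lt).1 h1; omega)
  have hL1 : L 1 = commutator G := by
    rw [hL, Subgroup.lowerCentralSeries_succ, Subgroup.lowerCentralSeries_zero]; rfl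
  -- the abelianisation is not cyclic
  have hnc : ¬ IsCyclic (G ⧸ commutator G) :=
    not_cyclic_abelianization fun h => absurd ((hbot 1).1 h) (by omega)
  have hcardL : ∀ i, 1 ≤ i → i ≤ n - 1 → Nat.card (L i) = p ^ (n - 1 - i) := by
    intro i hi1 hi2
    rcases eq_or_lt_of_le hi2 with rfl | hlt
    · rw [(hbot _).2 le_rfl, Subgroup.card_bot, Nat.sub_self, pow_zero]
    obtain ⟨b, hb⟩ := (hP.to_subgroup (L i)).exists_card_eq
    have hlo := hlen i hi2
    rw [hb] at hlo ⊢
    have hlo' := (Nat.pow_dvd_pow_iff_le_right hp.one_lt).1 hlo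
    obtain ⟨j, rfl⟩ : ∃ j, i = j + 1 := ⟨i - 1, by omega⟩
    have h3 := card_lcs_dvd hP j fun e => absurd ((hbot (j + 1)).1 e) (by omega)
    rw [show (⊤ : Subgroup G).lowerCentralSeries (j + 1) = L (j + 1) from rfl, hb, hG, ← pow_add] at h3
    have := (Nat.pow_dvd_pow_iff_le_right hp.one_lt).1 h3
    rw [show b = n - 1 - (j + 1) by omega]
  refine ⟨fun N hN r hr hidx => ?_, ?_⟩
  · have hrn : r ≤ n := by
      have h := Subgroup.index_dvd_card N
      rw [hidx, hG] at h
      exact (Nat.pow_dvd_pow_iff_le_right hp.one_lt).1 h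
    have hNc : Nat.card N = p ^ (n - r) := by
      have h := Subgroup.card_mul_index N
      rw [hidx, hG] at h
      refine Nat.eq_of_mul_eq_mul_right (pow_pos hp.pos r) (h.trans ?_)
      rw [← pow_add, show n - r + r = n by omega]
    have hle : L (r - 1) ≤ N := by
      haveI hPq := hP.to_quotient N
      have hqc : Nat.card (G ⧸ N) = p ^ r := hidx
      obtain ⟨j, rfl⟩ : ∃ j, r = j + 2 := ⟨r - 2, by omega⟩
      have hz : (⊤ : Subgroup (G ⧸ N)).lowerCentralSeries (j + 1) = ⊥ := by
        by_contra h
        have h3 := card_lcs_dvd hPq j h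
        rw [hqc] at h3
        have h4 := Nat.le_of_dvd (pow_pos hp.pos _) h3
        have h5 : 1 < Nat.card ↥((⊤ : Subgroup (G ⧸ N)).lowerCentralSeries (j + 1)) :=
          Finite.one_lt_card_iff_nontrivial.2 ((Subgroup.nontrivial_iff_ne_bot _).2 h)
        nlinarith [pow_pos hp.pos (j + 2)]
      intro x hx
      refine (QuotientGroup.eq_one_iff x).1 ?_
      rw [← Subgroup.mem_bot, ← hz]
      have hmap : ∀ i, (L i).map (QuotientGroup.mk' N) ≤ (⊤ : Subgroup (G ⧸ N)).lowerCentralSeries i := by
        intro i
        induction i with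
        | zero => rw [Subgroup.lowerCentralSeries_zero]; exact le_top
        | succ i ih =>
          rw [hL, Subgroup.lowerCentralSeries_succ, Subgroup.lowerCentralSeries_succ, Subgroup.map_commutator]
          exact Subgroup.commutator_mono ih le_top
      exact hmap (j + 1) ⟨x, hx, rfl⟩
    refine (Subgroup.eq_of_le_of_card_ge hle ?_).symm
    rw [hNc, hcardL (r - 1) (by omega) (by omega)]
    exact Nat.pow_le_pow_right hp.pos (by omega)
  · have hle : ∀ N : Subgroup G, N.Normal → N.index = p → commutator G ≤ N := fun N hN h => by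
      haveI := hN
      haveI : IsCyclic (G ⧸ N) := isCyclic_of_prime_card (p := p) h
      exact Subgroup.Normal.quotient_commutative_iff_commutator_le.1 IsCyclic.commutative
    have hq : Nat.card (G ⧸ commutator G) = p ^ 2 := by
      have h := Subgroup.card_mul_index (commutator G)
      rw [← hL1, hcardL 1 le_rfl (by omega), hG] at h
      rw [← Subgroup.index_eq_card, ← hL1]
      refine Nat.eq_of_mul_eq_mul_left (pow_pos hp.pos (n - 1 - 1)) (h.trans ?_)
      rw [← pow_add]; congr 1; omega
    rw [← card_lines_of_sq hp hq hnc]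
    have hidxc : ∀ H : Subgroup (G ⧸ commutator G), Nat.card H = p ↔ (H.comap (QuotientGroup.mk' (commutator G))).index = p := by
      intro H
      rw [Subgroup.index_comap_of_surjective _ (QuotientGroup.mk'_surjective _)]
      have h := Subgroup.card_mul_index H
      rw [hq, pow_two] at h
      constructor <;> intro h'
      · rw [h'] at h; exact Nat.eq_of_mul_eq_mul_left hp.pos h
      · rw [h'] at h; exact Nat.eq_of_mul_eq_mul_right hp.pos h
    refine Nat.card_congr
      { toFun := fun N => ⟨N.1.map (QuotientGroup.mk' (commutator G)), (hidxc _).2 (by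
          rw [Subgroup.comap_map_eq, QuotientGroup.ker_mk', sup_eq_left.2 (hle N.1 N.2.1 N.2.2)]; exact N.2.2)⟩
        invFun := fun H => ⟨H.1.comap (QuotientGroup.mk' (commutator G)), Subgroup.normal_of_index_eq_minFac_card (by
            rw [(hidxc _).1 H.2, hG, Nat.pow_minFac (by omega), hp.minFac_eq]),
          (hidxc _).1 H.2⟩
        left_inv := fun N => Subtype.ext (by
          show (N.1.map (QuotientGroup.mk' (commutator G))).comap (QuotientGroup.mk' (commutator G)) = N.1
          rw [Subgroup.comap_map_eq, QuotientGroup.ker_mk', sup_eq_left.2 (hle N.1 N.2.1 N.2.2)])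
        right_inv := fun H => Subtype.ext (Subgroup.map_comap_eq_self_of_surjective (QuotientGroup.mk'_surjective _) H.1) }

end Cfsg.Agent.S0662
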