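import Cfsg.Statements.S0666
import Cfsg.Agent.Solv.Frobenius

set_option autoImplicit false
open Cfsg

namespace Cfsg.Agent.S0666

/-- A Frobenius group acting on a nontrivial abelian group of order prime to that of its kernel, with the kernel acting without nontrivial fixed points, has a complement with a nontrivial fixed point. -/
theorem result {G : Type*} [Group G] [Finite G] (V F : Subgroup G) (hVab : IsMulCommutative V) (hV1 : V ≠ ⊥) (hFV : F ≤ Subgroup.normalizer (V : Set G)) (H : Subgroup ↥F) (hH : Cfsg.IsFrobeniusComplement H) (hcop : (Nat.card V).Coprime (Nat.card (Cfsg.frobeniusKernel H))) (hCK : V ⊓ Subgroup.centralizer (Subtype.val '' Cfsg.frobeniusKernel H : Set G) = ⊥) : V ⊓ Subgroup.centralizer ((H.map F.subtype : Subgroup G) : Set G) ≠ ⊥ := by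

  classical
  open scoped IsMulCommutative in
  intro hbot
  haveI := hVab
  haveI := Fintype.ofFinite ↥F
  obtain ⟨K, hK, -, -⟩ := CfsgLib.Solv.frobenius_theorem hH
  let α : ↥F → ↥V →* ↥V := fun g =>
    MonoidHom.mk' (fun v => ⟨(g : G) * v * (g : G)⁻¹, (Subgroup.mem_normalizer_iff.1 (hFV g.2) v).1 v.2⟩)
      (fun a b => Subtype.ext (by
        show (g : G) * ((a : G) * b) * (g : G)⁻¹ = (g : G) * a * (g : G)⁻¹ * ((g : G) * b * (g : G)⁻¹)
        group))
  have hmul : ∀ g h v, α (g * h) v = α g (α h v) := fun g h v => Subtype.ext (by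
    show ((g : G) * h) * v * ((g : G) * h)⁻¹ = (g : G) * ((h : G) * v * (h : G)⁻¹) * (g : G)⁻¹
    group)
  have hone : ∀ v, α 1 v = v := fun v => Subtype.ext (by
    show ((1 : ↥F) : G) * v * ((1 : ↥F) : G)⁻¹ = v
    simp)
  have hfix : ∀ (T : Subgroup ↥F) (v : ↥V) (t : ↥F), t ∈ T → α t (∏ s : T, α s v) = ∏ s : T, α s v := by
    intro T v t ht
    rw [map_prod]
    exact Fintype.prod_equiv (Equiv.mulLeft (⟨t, ht⟩ : T)) _ _ (fun s => (hmul t s v).symm)
  have hH1 : ∀ v : ↥V, ∏ s : H, α s v = 1 := by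
    intro v
    set w := ∏ s : H, α s v with hw
    have h1 : (w : G) ∈ V ⊓ Subgroup.centralizer ((H.map F.subtype : Subgroup G) : Set G) := by
      refine ⟨w.2, Subgroup.mem_centralizer_iff.2 ?_⟩
      rintro _ ⟨t, ht, rfl⟩
      have := congrArg Subtype.val (hfix H v t ht)
      exact mul_inv_eq_iff_eq_mul.1 this
    rw [hbot, Subgroup.mem_bot] at h1
    exact Subtype.ext h1
  have hK1 : ∀ T : Subgroup ↥F, K ≤ T → ∀ v : ↥V, ∏ s : T, α s v = 1 := by
    intro T hT v
    set w := ∏ s : T, α s v with hw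
    have h1 : (w : G) ∈ V ⊓ Subgroup.centralizer (Subtype.val '' Cfsg.frobeniusKernel H : Set G) := by
      refine ⟨w.2, Subgroup.mem_centralizer_iff.2 ?_⟩
      rintro _ ⟨t, ht, rfl⟩
      have := congrArg Subtype.val (hfix T v t (hT (show t ∈ (K : Set ↥F) by rw [hK]; exact ht)))
      exact mul_inv_eq_iff_eq_mul.1 this
    rw [hCK, Subgroup.mem_bot] at h1
    exact Subtype.ext h1
  obtain ⟨v0, hv0, hv1⟩ := V.bot_or_exists_ne_one.resolve_left hV1
  set v : ↥V := ⟨v0, hv0⟩ with hv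
  have hall : ∏ g : ↥F, α g v = 1 := by
    rw [← hK1 ⊤ le_top v]
    exact Fintype.prod_equiv Subgroup.topEquiv.symm.toEquiv _ _ (fun g => rfl)
  set Kf := Finset.univ.filter (fun g : ↥F => g ∈ K) with hKf
  have hk : ∏ g ∈ Kf, α g v = 1 := by
    rw [← hK1 K le_rfl v]
    exact Finset.prod_subtype Kf (fun g => by simp [hKf]) _
  haveI := Fintype.ofFinite (↥F ⧸ H)
  have hc : ∏ g ∈ Finset.univ.filter (fun g : ↥F => g ∉ K), α g v = (v⁻¹) ^ H.index := by
    have hb := CfsgLib.Solv.frobenius_compl_bijective hH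
    have e : ∏ g ∈ Finset.univ.filter (fun g : ↥F => g ∉ K), α g v =
        ∏ a ∈ (Finset.univ.filter (fun a : (↥F ⧸ H) × H => a.2 ≠ 1)),
          α (a.1.out * (a.2 : ↥F) * a.1.out⁻¹) v := by
      symm
      refine Finset.prod_bij (fun a _ => a.1.out * (a.2 : ↥F) * a.1.out⁻¹) ?_ ?_ ?_ (fun _ _ => rfl)
      · intro a ha
        refine Finset.mem_filter.2 ⟨Finset.mem_univ _, fun h => ?_⟩
        exact hb.mapsTo (Finset.mem_filter.1 ha).2 (hK ▸ h)
      · intro a ha b hb' he
        exact hb.injOn (Finset.mem_filter.1 ha).2 (Finset.mem_filter.1 hb').2 he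
      · intro g hg
        obtain ⟨a, ha, he⟩ := hb.surjOn (show g ∈ (Cfsg.frobeniusKernel H)ᶜ by
          rw [← hK]; exact (Finset.mem_filter.1 hg).2)
        exact ⟨a, Finset.mem_filter.2 ⟨Finset.mem_univ _, ha⟩, he⟩
    have e2 : (Finset.univ.filter (fun a : (↥F ⧸ H) × H => a.2 ≠ 1)) =
        (Finset.univ : Finset (↥F ⧸ H)) ×ˢ ((Finset.univ : Finset H).erase 1) := by
      ext a; simp
    rw [e, e2, Finset.prod_product]
    have e3 : ∀ a : ↥F ⧸ H, ∏ s ∈ (Finset.univ : Finset H).erase 1, α (a.out * (s : ↥F) * a.out⁻¹) v = v⁻¹ := by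
      intro a
      have h1 : ∏ s : H, α (a.out * (s : ↥F) * a.out⁻¹) v = 1 := by
        calc ∏ s : H, α (a.out * (s : ↥F) * a.out⁻¹) v = ∏ s : H, α a.out (α (s : ↥F) (α a.out⁻¹ v)) :=
              Finset.prod_congr rfl fun s _ => by rw [hmul, hmul]
          _ = α a.out (∏ s : H, α (s : ↥F) (α a.out⁻¹ v)) := (map_prod _ _ _).symm
          _ = 1 := by rw [hH1, map_one]
      rw [← Finset.mul_prod_erase _ _ (Finset.mem_univ (1 : H))] at h1
      rw [OneMemClass.coe_one, mul_one, mul_inv_cancel, hone] at h1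
      exact (inv_eq_of_mul_eq_one_right h1).symm
    rw [Finset.prod_congr rfl fun a _ => e3 a, Finset.prod_const, Finset.card_univ, ← Nat.card_eq_fintype_card]
    rfl
  have htot := Finset.prod_filter_mul_prod_filter_not (Finset.univ : Finset ↥F) (fun g => g ∈ K) (fun g => α g v)
  rw [hall] at htot
  rw [show (Finset.univ.filter fun g : ↥F => g ∈ K) = Kf from rfl, hk, hc, one_mul, inv_pow, inv_eq_one] at htot
  have h2 : (Nat.card ↥V).Coprime H.index := by
    rwa [CfsgLib.Solv.frobenius_card_kernel hH] at hcop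
  have h3 : v = 1 := by
    rw [← orderOf_eq_one_iff]
    exact Nat.eq_one_of_dvd_coprimes h2 (orderOf_dvd_natCard v) (orderOf_dvd_of_pow_eq_one htot)
  exact hv1 (congrArg Subtype.val h3)

end Cfsg.Agent.S0666
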