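import Cfsg.Statements.S0668

import Mathlib

set_option autoImplicit false
set_option linter.style.haveILetI false
open Cfsg

namespace Cfsg.Agent.S0668

/-- The equivariant linear maps between the permutation modules of two finite `G`-sets form a space whose dimension is the number of `G`-orbits on the product of the two sets. -/
theorem result {G : Type*} [Group G] {K : Type*} [Field K] {Ω₁ Ω₂ : Type*} [Fintype Ω₁] [Fintype Ω₂] [MulAction G Ω₁] [MulAction G Ω₂] : Module.finrank K ((Cfsg.permRep K G Ω₁).linHom (Cfsg.permRep K G Ω₂)).invariants = Nat.card (MulAction.orbitRel.Quotient G (Ω₁ × Ω₂)) := by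
  classical
  haveI : Finite (MulAction.orbitRel.Quotient G (Ω₁ × Ω₂)) := Quotient.finite _
  let Q := MulAction.orbitRel.Quotient G (Ω₁ × Ω₂)
  set ρ := (Cfsg.permRep K G Ω₁).linHom (Cfsg.permRep K G Ω₂)
  have hd : ∀ (g : G) (x : Ω₁), Cfsg.permRep K G Ω₁ g (Pi.single x 1) = Pi.single (g • x) 1 := fun g x => by
    funext z
    show (Pi.single x (1 : K) : Ω₁ → K) (g⁻¹ • z) = _
    rw [Pi.single_apply, Pi.single_apply]
    simp [inv_smul_eq_iff]
  have hinv : ∀ (T : (Ω₁ → K) →ₗ[K] (Ω₂ → K)), T ∈ ρ.invariants ↔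
      ∀ (g : G) (x : Ω₁) (y : Ω₂), T (Pi.single (g • x) 1) (g • y) = T (Pi.single x 1) y := by
    intro T
    rw [Representation.mem_invariants]
    constructor
    · intro h g x y
      have := LinearMap.congr_fun (h g) (Pi.single (g • x) 1)
      simp only [ρ, Representation.linHom_apply, LinearMap.comp_apply] at this
      rw [hd, inv_smul_smul] at this
      have h2 := congrFun this (g • y)
      rw [← h2]
      show T _ (g⁻¹ • g • y) = _
      rw [inv_smul_smul]
    · intro h g
      refine LinearMap.pi_ext' fun x => LinearMap.ext_ring (funext fun y => ?_)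
      simp only [ρ, Representation.linHom_apply, LinearMap.comp_apply, LinearMap.single_apply]
      rw [hd]
      show T _ (g⁻¹ • y) = _
      have := h g⁻¹ x y
      rw [this]
  let F : ρ.invariants →ₗ[K] (Q → K) :=
    { toFun := fun T q => (T : (Ω₁ → K) →ₗ[K] (Ω₂ → K)) (Pi.single q.out.1 1) q.out.2
      map_add' := fun _ _ => rfl
      map_smul' := fun _ _ => rfl }
  have hF : ∀ (T : ρ.invariants) (x : Ω₁) (y : Ω₂), F T (Quotient.mk'' (x, y)) = (T : (Ω₁ → K) →ₗ[K] (Ω₂ → K)) (Pi.single x 1) y := by
    intro T x y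
    have hrel : MulAction.orbitRel G (Ω₁ × Ω₂) (Quotient.mk'' (x, y) : Q).out (x, y) := Quotient.mk_out (x, y)
    obtain ⟨g, hg⟩ := MulAction.orbitRel_apply.1 hrel
    show (T : (Ω₁ → K) →ₗ[K] (Ω₂ → K)) (Pi.single (Quotient.mk'' (x, y) : Q).out.1 1) (Quotient.mk'' (x, y) : Q).out.2 = _
    rw [← hg]
    exact (hinv _).1 T.2 g x y
  have hbij : Function.Bijective F := by
    refine ⟨fun S T h => Subtype.ext (LinearMap.pi_ext' fun x => LinearMap.ext_ring (funext fun y => ?_)), fun v => ?_⟩
    · simp only [LinearMap.comp_apply, LinearMap.single_apply]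
      rw [← hF, ← hF, h]
    · let T : (Ω₁ → K) →ₗ[K] (Ω₂ → K) :=
        { toFun := fun f y => ∑ x, f x * v (Quotient.mk'' (x, y))
          map_add' := fun a b => funext fun y => by simp [add_mul, Finset.sum_add_distrib]
          map_smul' := fun c a => funext fun y => by simp [Finset.mul_sum, mul_assoc] }
      have hT : ∀ x y, T (Pi.single x 1) y = v (Quotient.mk'' (x, y)) := fun x y => by
        simp [T, Pi.single_apply]
      have hmem : T ∈ ρ.invariants := (hinv T).2 fun g x y => by
        rw [hT, hT]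
        congr 1
        exact Quotient.sound' (⟨g, rfl⟩ : MulAction.orbitRel G (Ω₁ × Ω₂) (g • x, g • y) (x, y))
      refine ⟨⟨T, hmem⟩, funext fun q => ?_⟩
      show T _ _ = _
      rw [hT]
      exact congrArg v (Quotient.out_eq' q)
  haveI := Fintype.ofFinite Q
  rw [(LinearEquiv.ofBijective F hbij).finrank_eq, Module.finrank_fintype_fun_eq_card, Nat.card_eq_fintype_card]

end Cfsg.Agent.S0668
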