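import Cfsg.Statements.S0672

import Mathlib

set_option autoImplicit false
set_option linter.style.haveILetI false
open Cfsg

namespace Cfsg.Agent.S0672

/-- Let a finite group act faithfully and doubly transitively with point stabilisers of even order, and let `K` have characteristic `p` dividing the degree. If the heart of the permutation module admits no non-zero equivariant map to the permutation module on unordered pairs (phrased: every intertwining map from the sum-zero functions vanishing on the constants is zero), the action is triply transitive. -/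
theorem result {G : Type*} [Group G] [Finite G] {K : Type*} [Field K] {p : ℕ} [Fact p.Prime] [CharP K p] {Ω : Type*} [Fintype Ω] [DecidableEq Ω] [MulAction G Ω] [FaithfulSMul G Ω] (h2 : MulAction.IsMultiplyPretransitive G Ω 2) (hp : p ∣ Fintype.card Ω) (heven : ∀ a : Ω, Even (Nat.card (MulAction.stabilizer G a))) (h : ∀ f : Representation.IntertwiningMap (Cfsg.permSumZero K G Ω).toRepresentation (Cfsg.permRep K G (Set.powersetCard Ω 2)), (∀ v : (Cfsg.permSumZero K G Ω).toSubmodule, (v : Ω → K) ∈ (Cfsg.permConstants K G Ω).toSubmodule → f v = 0) → f = 0) : MulAction.IsMultiplyPretransitive G Ω 3 := by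
  classical
  rw [MulAction.isMultiplyPretransitive_iff]
  intro s s'
  have hn : 3 ≤ Fintype.card Ω := by
    simpa using Fintype.card_le_of_injective s s.injective
  have hmem : ∀ (g : G) (a : Ω) (π : Set.powersetCard Ω 2), g • a ∈ g • π ↔ a ∈ π := fun g a π => by
    rw [← Set.powersetCard.mem_coe_iff, ← Set.powersetCard.mem_coe_iff, Set.powersetCard.coe_smul,
      Finset.smul_mem_smul_finset_iff]
  have htrans : ∀ π π' : Set.powersetCard Ω 2, ∃ g : G, g • π = π' := by
    intro π π'
    obtain ⟨x, y, hxy, hπ⟩ := Finset.card_eq_two.1 π.2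
    obtain ⟨x', y', hxy', hπ'⟩ := Finset.card_eq_two.1 π'.2
    obtain ⟨g, hgx, hgy⟩ := (MulAction.is_two_pretransitive_iff.1 h2) hxy hxy'
    refine ⟨g, Subtype.ext ?_⟩
    rw [Set.powersetCard.coe_smul, hπ, hπ', Finset.smul_finset_insert, Finset.smul_finset_singleton,
      hgx, hgy]
  -- transitivity on a pair with a point outside
  have hout : ∀ (a a' : Ω) (π π' : Set.powersetCard Ω 2), a ∉ π → a' ∉ π' →
      ∃ g : G, g • a = a' ∧ g • π = π' := by
    intro a₀ a₁ π₀ π₁ ha₀ ha₁
    by_contra hne
    let O : Set (Ω × Set.powersetCard Ω 2) := MulAction.orbit G (a₀, π₀)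
    have hO : ∀ (g : G) a π, (g • a, g • π) ∈ O ↔ (a, π) ∈ O := by
      intro g a π
      rw [MulAction.mem_orbit_iff, MulAction.mem_orbit_iff]
      constructor
      · rintro ⟨t, ht⟩
        exact ⟨g⁻¹ * t, by rw [mul_smul, ht, Prod.smul_mk, inv_smul_smul, inv_smul_smul]⟩
      · rintro ⟨t, ht⟩
        exact ⟨g * t, by rw [mul_smul, ht, Prod.smul_mk]⟩
    have hOnot : ∀ a π, (a, π) ∈ O → a ∉ π := by
      rintro a π ⟨g, hg⟩
      have e1 : g • a₀ = a := congrArg Prod.fst hg
      have e2 : g • π₀ = π := congrArg Prod.snd hg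
      rw [← e1, ← e2, hmem]; exact ha₀
    have hnot1 : (a₁, π₁) ∉ O := by
      rintro ⟨g, hg⟩
      exact hne ⟨g, congrArg Prod.fst hg, congrArg Prod.snd hg⟩
    let cnt : Set.powersetCard Ω 2 → ℕ := fun π => (Finset.univ.filter fun a => (a, π) ∈ O).card
    have hcnt : ∀ π, cnt π = cnt π₁ := by
      intro π
      obtain ⟨g, rfl⟩ := htrans π₁ π
      refine Finset.card_bij' (fun y _ => g⁻¹ • y) (fun y _ => g • y) ?_ ?_ ?_ ?_
      · intro y hy
        simp only [Finset.mem_filter, Finset.mem_univ, true_and] at hy ⊢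
        rwa [← hO g, smul_inv_smul]
      · intro y hy
        simp only [Finset.mem_filter, Finset.mem_univ, true_and] at hy ⊢
        rwa [hO g]
      · intro y _; exact smul_inv_smul g y
      · intro y _; exact inv_smul_smul g y
    -- coefficients
    obtain ⟨α, β, hαβ, hαβ0⟩ : ∃ α β : K, 2 * α + (cnt π₁ : K) * β = 0 ∧ (β ≠ 0 ∨ (β = 0 ∧ α ≠ 0)) := by
      by_cases h20 : (2 : K) = 0
      · exact ⟨1, 0, by simp [h20], Or.inr ⟨rfl, one_ne_zero⟩⟩
      · exact ⟨-(cnt π₁ : K) / 2, 1, by field_simp; ring, Or.inl one_ne_zero⟩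
    let F : Ω → Set.powersetCard Ω 2 → K := fun a π =>
      (if a ∈ π then α else 0) + (if (a, π) ∈ O then β else 0)
    have hF : ∀ (g : G) a π, F (g • a) (g • π) = F a π := fun g a π => by simp only [F, hmem, hO]
    have hFsum : ∀ π, ∑ a, F a π = 0 := by
      intro π
      simp only [F, Finset.sum_add_distrib, Finset.sum_ite, Finset.sum_const_zero, add_zero,
        Finset.sum_const]
      rw [show (Finset.univ.filter fun a => (a, π) ∈ O).card = cnt π₁ from hcnt π,
        show (Finset.univ.filter fun a => a ∈ π).card = 2 by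
          rw [show (Finset.univ.filter fun a => a ∈ π) = (π : Finset Ω) by
            ext; simp [Set.powersetCard.mem_coe_iff]]
          exact π.2]
      simp only [nsmul_eq_mul, Nat.cast_ofNat]
      linear_combination hαβ
    let L : (Cfsg.permSumZero K G Ω).toSubmodule →ₗ[K] (Set.powersetCard Ω 2 → K) :=
      { toFun := fun v π => ∑ a, F a π * (v : Ω → K) a
        map_add' := fun u v => funext fun π => by simp [mul_add, Finset.sum_add_distrib]
        map_smul' := fun r v => funext fun π => by simp [Finset.mul_sum, mul_left_comm] }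
    let f : Representation.IntertwiningMap (Cfsg.permSumZero K G Ω).toRepresentation
        (Cfsg.permRep K G (Set.powersetCard Ω 2)) :=
      L.intertwiningMap_of_isIntertwiningMap _ _ fun g v => by
        funext π
        show ∑ a, F a π * (v : Ω → K) (g⁻¹ • a) = ∑ a, F a (g⁻¹ • π) * (v : Ω → K) a
        exact Fintype.sum_equiv (MulAction.toPerm g⁻¹) _ _ fun a => by
          simp [MulAction.toPerm_apply, hF]
    have hf0 : f = 0 := by
      refine h f fun v hv => ?_
      obtain ⟨r, hr⟩ := Submodule.mem_span_singleton.1 hv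
      funext π
      show ∑ a, F a π * (v : Ω → K) a = 0
      rw [← hr]
      simp only [Pi.smul_apply, smul_eq_mul, mul_one, ← Finset.sum_mul, hFsum, zero_mul]
    -- two points with different coefficients
    obtain ⟨π, a, a', hne'⟩ : ∃ π a a', F a π ≠ F a' π := by
      rcases hαβ0 with hβ | ⟨hβ, hα⟩
      · obtain ⟨g, hg⟩ := htrans π₀ π₁
        refine ⟨π₁, g • a₀, a₁, ?_⟩
        have h1 : (g • a₀, π₁) ∈ O := ⟨g, by rw [← hg]; rfl⟩
        have h2' := hOnot _ _ h1
        simp only [F, h2', ha₁, h1, hnot1, if_true, if_false, zero_add]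
        exact hβ
      · obtain ⟨x, y, hxy, hπ⟩ := Finset.card_eq_two.1 π₀.2
        refine ⟨π₀, x, a₀, ?_⟩
        have hx : x ∈ π₀ := by rw [← Set.powersetCard.mem_coe_iff, hπ]; simp
        simp only [F, hx, ha₀, hβ, if_true, if_false, ite_self, add_zero]
        exact hα
    have hv : (Pi.single a (1 : K) - Pi.single a' 1 : Ω → K) ∈ (Cfsg.permSumZero K G Ω).toSubmodule := by
      show ∑ z, _ = (0 : K)
      simp [Finset.sum_sub_distrib]
    have h0 : f ⟨_, hv⟩ π = 0 := by rw [hf0]; rfl
    apply hne'
    rw [← sub_eq_zero, ← h0]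
    show _ = ∑ z, F z π * (Pi.single a (1 : K) - Pi.single a' 1 : Ω → K) z
    simp [mul_sub, Finset.sum_sub_distrib, Pi.single_apply]
  -- a point stabiliser swaps any two other points
  have hswap : ∀ a x y : Ω, x ≠ y → a ≠ x → a ≠ y → ∃ g : G, g • a = a ∧ g • x = y ∧ g • y = x := by
    intro a x y hxy hax hay
    obtain ⟨t, ht⟩ := exists_prime_orderOf_dvd_card' (G := MulAction.stabilizer G a) 2
      (even_iff_two_dvd.1 (heven a))
    obtain ⟨u, hu⟩ : ∃ u : Ω, (t : G) • u ≠ u := by
      by_contra hall
      push Not at hall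
      have : (t : G) = 1 := FaithfulSMul.eq_of_smul_eq_smul (α := Ω) fun z => by rw [hall z, one_smul]
      rw [← Subgroup.orderOf_coe, this, orderOf_one] at ht
      omega
    have hta : (t : G) • a = a := t.2
    have hua : a ≠ u := fun h => hu (h ▸ hta)
    have huw : a ≠ (t : G) • u := fun h => hua (MulAction.injective (t : G) (hta.trans h))
    have htt : (t : G) • (t : G) • u = u := by
      rw [← mul_smul, ← pow_two, ← ht, ← Subgroup.orderOf_coe, pow_orderOf_eq_one, one_smul]
    obtain ⟨g, hga, hgπ⟩ := hout a a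
      (⟨{u, (t : G) • u}, Finset.card_pair (Ne.symm hu)⟩) (⟨{x, y}, Finset.card_pair hxy⟩)
      (by rw [← Set.powersetCard.mem_coe_iff]; simp [hua, huw])
      (by rw [← Set.powersetCard.mem_coe_iff]; simp [hax, hay])
    have hset : ({g • u, g • (t : G) • u} : Finset Ω) = {x, y} := by
      have := congrArg (fun π : Set.powersetCard Ω 2 => (π : Finset Ω)) hgπ
      simp only [Set.powersetCard.coe_smul] at this
      rwa [Finset.smul_finset_insert, Finset.smul_finset_singleton] at this
    have hga' : g⁻¹ • a = a := by rw [inv_smul_eq_iff, hga]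
    refine ⟨g * t * g⁻¹, by rw [mul_smul, mul_smul, hga', hta, hga], ?_⟩
    have key : ∀ w : Ω, (g * (t : G) * g⁻¹) • g • w = g • (t : G) • w := fun w => by
      rw [mul_smul, mul_smul, inv_smul_smul]
    have hx : x ∈ ({g • u, g • (t : G) • u} : Finset Ω) := by rw [hset]; simp
    have hy : y ∈ ({g • u, g • (t : G) • u} : Finset Ω) := by rw [hset]; simp
    simp only [Finset.mem_insert, Finset.mem_singleton] at hx hy
    rcases hx with rfl | rfl <;> rcases hy with rfl | rfl
    · exact absurd rfl hxy
    · exact ⟨key _, by rw [key, htt]⟩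
    · exact ⟨by rw [key, htt], key _⟩
    · exact absurd rfl hxy
  -- conclusion
  have h01 : s 1 ≠ s 2 := s.injective.ne (by decide)
  have h01' : s' 1 ≠ s' 2 := s'.injective.ne (by decide)
  obtain ⟨g, hg0, hgπ⟩ := hout (s 0) (s' 0) ⟨{s 1, s 2}, Finset.card_pair h01⟩ ⟨{s' 1, s' 2}, Finset.card_pair h01'⟩
    (by rw [← Set.powersetCard.mem_coe_iff]; simp)
    (by rw [← Set.powersetCard.mem_coe_iff]; simp)
  have hset : ({g • s 1, g • s 2} : Finset Ω) = {s' 1, s' 2} := by
    have := congrArg (fun π : Set.powersetCard Ω 2 => (π : Finset Ω)) hgπ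
    simp only [Set.powersetCard.coe_smul] at this
    rwa [Finset.smul_finset_insert, Finset.smul_finset_singleton] at this
  have h1 : g • s 1 ∈ ({s' 1, s' 2} : Finset Ω) := by rw [← hset]; simp
  have h2' : g • s 2 ∈ ({s' 1, s' 2} : Finset Ω) := by rw [← hset]; simp
  have hne12 : g • s 1 ≠ g • s 2 := (MulAction.injective g).ne h01
  simp only [Finset.mem_insert, Finset.mem_singleton] at h1 h2'
  have finish : ∀ k : G, k • s 0 = s' 0 → k • s 1 = s' 1 → k • s 2 = s' 2 → ∃ g : G, g • s = s' := by
    intro k a b c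
    refine ⟨k, Function.Embedding.ext fun i => ?_⟩
    fin_cases i
    · exact a
    · exact b
    · exact c
  rcases h1 with e1 | e1 <;> rcases h2' with e2 | e2
  · exact absurd (e1.trans e2.symm) hne12
  · exact finish g hg0 e1 e2
  · obtain ⟨w, hw0, hw1, hw2⟩ := hswap (s' 0) (s' 1) (s' 2) h01'
      (s'.injective.ne (by decide)) (s'.injective.ne (by decide))
    exact finish (w * g) (by rw [mul_smul, hg0, hw0]) (by rw [mul_smul, e1, hw2]) (by rw [mul_smul, e2, hw1])
  · exact absurd (e1.trans e2.symm) hne12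

end Cfsg.Agent.S0672
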