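import Cfsg.Statements.S0673

import Mathlib
import Cfsg.Agent.Perm.PrimeDegreeHeart

set_option autoImplicit false
set_option linter.style.haveILetI false
open Cfsg

namespace Cfsg.Agent.S0673

/-- In characteristic `p`, the translation-invariant subspaces of the space of functions on `ZMod p` are exactly the spaces of polynomial functions of degree less than `r`, one for each `r ≤ p`, of dimension `r`. -/
theorem result {p : ℕ} [Fact p.Prime] {K : Type*} [Field K] [CharP K p] (W : Submodule K (ZMod p → K)) (hW : ∀ f ∈ W, (fun j => f (j - 1)) ∈ W) : ∃ r : ℕ, r ≤ p ∧ Module.finrank K W = r ∧ ∀ f : ZMod p → K, f ∈ W ↔ ∃ P : Polynomial K, P.degree < r ∧ ∀ j : ZMod p, f j = P.eval (ZMod.cast j : K) := by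
  classical
  have hp : p.Prime := Fact.out
  have h2 := hp.two_le
  have hcast : ∀ j : ZMod p, (ZMod.cast j : K) = CfsgLib.Perm.PrimeHeart.cst p K j := fun j => rfl
  by_cases hbot : W = ⊥
  · refine ⟨0, Nat.zero_le _, by rw [hbot]; simp, fun f => ⟨fun hf => ?_, ?_⟩⟩
    · rw [hbot, Submodule.mem_bot] at hf
      exact ⟨0, by simp, fun j => by simp [hf]⟩
    · rintro ⟨P, hP, hPe⟩
      have hP0 : P = 0 := by
        by_contra hne
        have := Polynomial.zero_le_degree_iff.2 hne
        simp only [Nat.cast_zero] at hP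
        exact absurd (lt_of_le_of_lt this hP) (lt_irrefl _)
      rw [show f = 0 from funext fun j => by simp [hPe j, hP0]]
      exact W.zero_mem
  have hback : ∀ f ∈ W, ∀ n : ℕ, (fun j => f (j - n)) ∈ W := by
    intro f hf n
    induction n with
    | zero => simpa using hf
    | succ n ih =>
      convert hW _ ih using 1
      funext j
      push_cast
      ring_nf
  have hfwd : ∀ f ∈ W, (fun j => f (j + 1)) ∈ W := by
    intro f hf
    convert hback f hf (p - 1) using 1
    funext j
    rw [Nat.cast_sub (by omega), ZMod.natCast_self]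
    simp
  obtain ⟨d, hd, hiff⟩ := CfsgLib.Perm.PrimeHeart.exists_degree_bound W hbot hfwd
  have hmem : ∀ f : ZMod p → K, f ∈ W ↔ ∃ P : Polynomial K, P.degree < (d + 1 : ℕ) ∧
      ∀ j : ZMod p, f j = P.eval (ZMod.cast j : K) := by
    intro f
    constructor
    · intro hf
      obtain ⟨q, hq, hqe⟩ := CfsgLib.Perm.PrimeHeart.exists_interp f
      refine ⟨q, ?_, fun j => by rw [hcast, hqe]⟩
      refine lt_of_le_of_lt Polynomial.degree_le_natDegree ?_
      have := (hiff q hq).1 (by simpa only [hqe] using hf)
      exact_mod_cast Nat.lt_succ_of_le this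
    · rintro ⟨q, hq, hqe⟩
      have hqd : q.natDegree ≤ d := by
        rcases eq_or_ne q 0 with rfl | h0
        · simp
        · have := (Polynomial.natDegree_lt_iff_degree_lt h0).2 hq
          omega
      rw [show f = fun x => q.eval (CfsgLib.Perm.PrimeHeart.cst p K x) from funext fun j => by rw [hqe, hcast]]
      exact (hiff q (hqd.trans hd)).2 hqd
  refine ⟨d + 1, by omega, ?_, hmem⟩
  let L : Polynomial.degreeLT K (d + 1) →ₗ[K] W :=
    { toFun := fun P => ⟨fun j => (P : Polynomial K).eval (ZMod.cast j : K),
        (hmem _).2 ⟨P, Polynomial.mem_degreeLT.1 P.2, fun j => rfl⟩⟩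
      map_add' := fun P Q => Subtype.ext (funext fun j => by simp)
      map_smul' := fun c P => Subtype.ext (funext fun j => by simp) }
  have hL : Function.Bijective L := by
    refine ⟨fun P Q h => ?_, fun f => ?_⟩
    · apply Subtype.ext
      have hdeg : ∀ R : Polynomial.degreeLT K (d + 1), (R : Polynomial K).natDegree ≤ p - 1 := by
        intro R
        rcases eq_or_ne (R : Polynomial K) 0 with h0 | h0
        · simp [h0]
        · have := (Polynomial.natDegree_lt_iff_degree_lt h0).2 (Polynomial.mem_degreeLT.1 R.2)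
          omega
      exact CfsgLib.Perm.PrimeHeart.interp_unique (hdeg P) (hdeg Q)
        (fun x => congrFun (congrArg Subtype.val h) x)
    · obtain ⟨P, hP, hPe⟩ := (hmem _).1 f.2
      exact ⟨⟨P, Polynomial.mem_degreeLT.2 hP⟩, Subtype.ext (funext fun j => (hPe j).symm)⟩
  rw [← (LinearEquiv.ofBijective L hL).finrank_eq, (Polynomial.degreeLTEquiv K (d + 1)).finrank_eq,
    Module.finrank_fin_fun]

end Cfsg.Agent.S0673
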