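import Cfsg.Statements.S0676

import Mathlib
import Cfsg.Agent.Perm.PrimeDegree
import Cfsg.Agent.Perm.PrimeDegreeHeart
import Cfsg.Agent.S0672

set_option autoImplicit false
set_option linter.style.haveILetI false
open Cfsg

namespace Cfsg.Agent.S0676

/-- A non-solvable transitive permutation group of prime degree `p` whose Sylow `p`-normaliser has even order is triply transitive. -/
theorem result {α : Type*} [Fintype α] [DecidableEq α] {p : ℕ} [Fact p.Prime] (hα : Fintype.card α = p) (G : Subgroup (Equiv.Perm α)) [MulAction.IsPretransitive G α] (hG : ¬ Group.IsSolvable G) (P : Sylow p G) (heven : Even (Nat.card (Subgroup.normalizer ((P : Subgroup G) : Set G)))) : MulAction.IsMultiplyPretransitive G α 3 := by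
  classical
  have hp : p.Prime := Fact.out
  have hp5 : 5 ≤ p := by
    by_contra hlt
    exact hG (CfsgLib.Perm.PrimeDegree.isSolvable_of_card_le_three G (by
      rw [hα]
      rcases Nat.lt_or_ge p 4 with h | h
      · omega
      · exact absurd hp (by rw [show p = 4 by omega]; decide)))
  haveI : Nonempty α := Fintype.card_pos_iff.1 (by omega)
  haveI h2 := CfsgLib.Perm.PrimeDegree.two_transitive G hα hG
  obtain ⟨e, σ, t, hσ, ht⟩ := CfsgLib.Perm.PrimeDegree.exists_inversion G (by omega) hα P heven
  -- point stabilisers have even order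
  have ht2 : orderOf t = 2 := by
    refine orderOf_eq_prime (Subtype.ext (Equiv.ext fun x => ?_)) fun h => ?_
    · obtain ⟨z, rfl⟩ := e.surjective x
      show (t ^ 2) • e z = e z
      rw [pow_two, mul_smul, ht, ht, neg_neg]
    · have h1 := ht 1
      rw [h, one_smul] at h1
      have h2 : ((2 : ℕ) : ZMod p) = 0 := by
        have := e.injective h1
        push_cast
        linear_combination this
      rw [ZMod.natCast_eq_zero_iff] at h2
      have := Nat.le_of_dvd (by norm_num) h2
      omega
  have heven' : ∀ a : α, Even (Nat.card (MulAction.stabilizer G a)) := by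
    intro a
    obtain ⟨g, hg⟩ := MulAction.exists_smul_eq G (e 0) a
    have hu : g * t * g⁻¹ ∈ MulAction.stabilizer G a := by
      show (g * t * g⁻¹) • a = a
      rw [← hg, mul_smul, mul_smul, inv_smul_smul, ht, neg_zero]
    rw [even_iff_two_dvd]
    have h1 : orderOf (⟨_, hu⟩ : MulAction.stabilizer G a) = 2 := by
      rw [← Subgroup.orderOf_coe]
      show orderOf (g * t * g⁻¹) = 2
      rw [← MulAut.conj_apply, MulEquiv.orderOf_eq, ht2]
    exact h1 ▸ orderOf_dvd_natCard _
  refine Cfsg.Agent.S0672.result (K := ZMod p) (p := p) h2 (by rw [hα]) heven' fun f hf => ?_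
  -- the kernel, as an invariant subspace of all functions
  let V : Subrepresentation (Cfsg.permRep (ZMod p) G α) :=
    { toSubmodule := (LinearMap.ker f.toLinearMap).map (Cfsg.permSumZero (ZMod p) G α).toSubmodule.subtype
      apply_mem_toSubmodule := fun g v hv => by
        obtain ⟨w, hw, rfl⟩ := hv
        refine ⟨(Cfsg.permSumZero (ZMod p) G α).toRepresentation g w, ?_, rfl⟩
        show f ((Cfsg.permSumZero (ZMod p) G α).toRepresentation g w) = 0
        rw [f.isIntertwining, show f w = 0 from hw, map_zero] }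
  have hV : ∀ (v : α → ZMod p) (hv : v ∈ (Cfsg.permSumZero (ZMod p) G α).toSubmodule),
      v ∈ V.toSubmodule ↔ f ⟨v, hv⟩ = 0 := fun v hv =>
    ⟨fun ⟨w, hw, hwv⟩ => by rw [show (⟨v, hv⟩ : (Cfsg.permSumZero (ZMod p) G α).toSubmodule) = w from Subtype.ext hwv.symm]; exact hw,
      fun h => ⟨⟨v, hv⟩, h, rfl⟩⟩
  have hC : (Cfsg.permConstants (ZMod p) G α).toSubmodule ≤ V.toSubmodule := by
    intro v hv
    have hv0 : v ∈ (Cfsg.permSumZero (ZMod p) G α).toSubmodule := by
      obtain ⟨r, rfl⟩ := Submodule.mem_span_singleton.1 hv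
      show ∑ _x : α, r • (1 : ZMod p) = 0
      simp [hα]
    exact (hV v hv0).2 (hf ⟨v, hv0⟩ hv)
  -- the linear function lies in the kernel
  let v₀ : α → ZMod p := fun a => e.symm a
  have hv₀ : v₀ ∈ (Cfsg.permSumZero (ZMod p) G α).toSubmodule := by
    show ∑ a, e.symm a = 0
    rw [Equiv.sum_comp e.symm (fun x => x)]
    simpa using FiniteField.sum_pow_lt_card_sub_one (K := ZMod p) 1 (by rw [ZMod.card]; omega)
  have hone : (fun _ => (1 : ZMod p)) ∈ (Cfsg.permSumZero (ZMod p) G α).toSubmodule := by
    show ∑ _x : α, (1 : ZMod p) = 0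
    simp [hα]
  set F := f ⟨v₀, hv₀⟩ with hF
  have hshift : ∀ π, F (σ⁻¹ • π) = F π := by
    intro π
    have e1 : (Cfsg.permSumZero (ZMod p) G α).toRepresentation σ (⟨v₀, hv₀⟩ : (Cfsg.permSumZero (ZMod p) G α).toSubmodule)
        = (⟨v₀, hv₀⟩ : (Cfsg.permSumZero (ZMod p) G α).toSubmodule) - ⟨_, hone⟩ := by
      apply Subtype.ext
      funext a
      show e.symm (σ⁻¹ • a) = e.symm a - 1
      rw [Equiv.symm_apply_eq, inv_smul_eq_iff, hσ, sub_add_cancel, e.apply_symm_apply]
    have h1 := Representation.IntertwiningMap.isIntertwining _ _ f σ ⟨v₀, hv₀⟩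
    rw [e1, map_sub, hf ⟨_, hone⟩ (Submodule.mem_span_singleton_self _), sub_zero] at h1
    exact (congrFun h1 π).symm
  have hneg : ∀ π, F (t • π) = - F π := by
    intro π
    have e1 : (Cfsg.permSumZero (ZMod p) G α).toRepresentation t (⟨v₀, hv₀⟩ : (Cfsg.permSumZero (ZMod p) G α).toSubmodule)
        = - (⟨v₀, hv₀⟩ : (Cfsg.permSumZero (ZMod p) G α).toSubmodule) := by
      apply Subtype.ext
      funext a
      show e.symm (t⁻¹ • a) = - e.symm a
      rw [Equiv.symm_apply_eq, inv_smul_eq_iff, ht, neg_neg, e.apply_symm_apply]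
    have h1 := Representation.IntertwiningMap.isIntertwining _ _ f t ⟨v₀, hv₀⟩
    rw [e1, map_neg] at h1
    have h2 : t⁻¹ = t := inv_eq_of_mul_eq_one_left (by rw [← pow_two, ← ht2, pow_orderOf_eq_one])
    have h3 := congrFun h1 π
    rw [← h2]
    exact h3.symm
  have hv₀mem : v₀ ∈ V.toSubmodule := by
    rw [hV v₀ hv₀, ← hF]
    funext π
    obtain ⟨a, b, hab, hπ⟩ := Finset.card_eq_two.1 π.2
    have hpow : ∀ n : ℕ, ∀ π, F (σ⁻¹ ^ n • π) = F π := by
      intro n
      induction n with
      | zero => intro π; simp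
      | succ n ih => intro π; rw [pow_succ, mul_smul, ih, hshift]
    have hσn : ∀ (n : ℕ) x, σ ^ n • e x = e (x + (n : ZMod p)) := by
      intro n
      induction n with
      | zero => intro x; simp
      | succ n ih => intro x; rw [pow_succ, mul_smul, hσ, ih]; push_cast; ring_nf
    set c : ZMod p := e.symm a + e.symm b
    have hfix : σ⁻¹ ^ (-c).val • (t • π) = π := by
      rw [inv_pow, inv_smul_eq_iff]
      apply Subtype.ext
      open scoped Pointwise in
      show t • π.1 = σ ^ (-c).val • π.1
      rw [hπ]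
      simp only [Finset.smul_finset_insert, Finset.smul_finset_singleton]
      rw [← e.apply_symm_apply a, ← e.apply_symm_apply b, ht, ht, hσn, hσn, ZMod.natCast_zmod_val,
        Finset.pair_comm (e (e.symm a + -c))]
      congr 1
      · congr 1; ring
      · congr 2; ring
    have h1 := hpow (-c).val (t • π)
    rw [hfix, hneg] at h1
    have h2 : ((2 : ℕ) : ZMod p) * F π = 0 := by push_cast; linear_combination h1
    refine (mul_eq_zero.1 h2).resolve_left ?_
    rw [ZMod.natCast_eq_zero_iff]
    exact fun hd => absurd (Nat.le_of_dvd (by norm_num) hd) (by omega)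
  have hsub : V.toSubmodule ≤ (Cfsg.permSumZero (ZMod p) G α).toSubmodule := by
    rintro _ ⟨w, -, rfl⟩; exact w.2
  rcases Cfsg.Agent.S0674.result hα G hG V hC hsub with hVC | hVS
  · exfalso
    rw [hVC] at hv₀mem
    obtain ⟨r, hr⟩ := Submodule.mem_span_singleton.1 hv₀mem
    have e0 := congrFun hr (e 0)
    have e1 := congrFun hr (e 1)
    simp [v₀] at e0 e1
    rw [e0] at e1
    exact zero_ne_one e1
  · apply Representation.IntertwiningMap.ext
    apply LinearMap.ext
    intro w
    exact (hV (w : α → ZMod p) w.2).1 (by rw [hVS]; exact w.2)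

end Cfsg.Agent.S0676
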