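import Cfsg.Statements.S0677

import Mathlib
import Cfsg.Agent.Perm.PrimeDegree

set_option autoImplicit false
set_option linter.style.haveILetI false
open Cfsg

namespace Cfsg.Agent.S0677

/-- In a transitive permutation group of prime degree `p` whose Sylow `p`-normaliser has even order, the point stabilisers are the only subgroups of index `p`. -/
theorem result {α : Type*} [Fintype α] [DecidableEq α] {p : ℕ} [Fact p.Prime] (hα : Fintype.card α = p) (G : Subgroup (Equiv.Perm α)) [MulAction.IsPretransitive G α] (P : Sylow p G) (heven : Even (Nat.card (Subgroup.normalizer ((P : Subgroup G) : Set G)))) (H : Subgroup G) (hH : H.index = p) : ∃ a : α, H = MulAction.stabilizer G a := by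
  classical
  have hp : p.Prime := Fact.out
  haveI : Nonempty α := Fintype.card_pos_iff.1 (by have := hp.pos; omega)
  obtain ⟨a₀⟩ := (inferInstance : Nonempty α)
  have hst : ∀ a : α, (MulAction.stabilizer G a).index = p := fun a => by
    rw [MulAction.index_stabilizer_of_transitive G a, Nat.card_eq_fintype_card, hα]
  suffices hfix : ∃ a : α, ∀ h ∈ H, h • a = a by
    obtain ⟨a, ha⟩ := hfix
    refine ⟨a, Subgroup.eq_of_le_of_card_ge (fun h hh => ha h hh) (le_of_eq ?_)⟩
    have h1 := H.card_mul_index
    have h2 := (MulAction.stabilizer G a).card_mul_index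
    rw [hH] at h1
    rw [hst] at h2
    exact Nat.eq_of_mul_eq_mul_right hp.pos (h2.trans h1.symm)
  obtain ⟨σ₀, hσ₀⟩ := CfsgLib.Perm.PrimeDegree.exists_orderOf G hα
  have hpH : ¬ p ∣ Nat.card H := by
    intro h
    apply CfsgLib.Perm.PrimeDegree.not_sq_dvd G hα
    rw [← H.card_mul_index, hH, pow_two]
    exact Nat.mul_dvd_mul_right h p
  have hnomem : ∀ (u : G), orderOf u = p → u ∉ H := fun u hu hm =>
    hpH (by rw [← hu, ← Subgroup.orderOf_mk u hm]; exact orderOf_dvd_natCard _)
  by_cases hsol : Group.IsSolvable G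
  · obtain ⟨e, he⟩ := CfsgLib.Perm.PrimeDegree.exists_label G hα hσ₀
    have haff : ∀ g : G, ∃ m : ZMod p, ∀ x, e.symm (g • e x) = m * x + e.symm (g • e 0) := fun g =>
      CfsgLib.Perm.PrimeDegree.affine_of_normalizes G he
        (CfsgLib.Perm.PrimeDegree.normalizes_of_solvable G hα hsol hσ₀ g)
    choose m hm using haff
    have happ : ∀ (g : G) x, g • e x = e (m g * x + e.symm (g • e 0)) := fun g x => by
      rw [← hm g x, e.apply_symm_apply]
    by_cases hbot : ∀ h ∈ H, h = 1
    · exact ⟨a₀, fun h hh => by rw [hbot h hh, one_smul]⟩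
    push Not at hbot
    obtain ⟨h, hh, hh1⟩ := hbot
    -- a translation lying in `H` is trivial
    have htr : ∀ u ∈ H, (∃ b, ∀ x, u • e x = e (x + b)) → u = 1 := by
      rintro u hu ⟨b, hb⟩
      by_contra hne
      refine hnomem u (orderOf_eq_prime ?_ hne) hu
      have key : ∀ (n : ℕ) x, u ^ n • e x = e (x + (n : ZMod p) * b) := by
        intro n
        induction n with
        | zero => intro x; simp
        | succ n ih => intro x; rw [pow_succ, mul_smul, hb, ih]; push_cast; ring_nf
      refine Subtype.ext (Equiv.ext fun x => ?_)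
      obtain ⟨z, rfl⟩ := e.surjective x
      have := key p z
      rw [ZMod.natCast_self, zero_mul, add_zero] at this
      exact this
    have hmh : m h ≠ 1 := fun h1 => hh1 (htr h hh ⟨_, fun x => by rw [happ, h1, one_mul]⟩)
    set z : ZMod p := e.symm (h • e 0) / (1 - m h) with hz
    have hfix : h • e z = e z := by
      rw [happ]
      congr 1
      have : (1 - m h) * z = e.symm (h • e 0) := by
        rw [hz, mul_div_cancel₀ _ (sub_ne_zero.2 (Ne.symm hmh))]
      linear_combination -this
    refine ⟨e z, fun u hu => ?_⟩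
    have hc : u * h * u⁻¹ * h⁻¹ = 1 := by
      refine htr _ (H.mul_mem (H.mul_mem (H.mul_mem hu hh) (H.inv_mem hu)) (H.inv_mem hh)) ?_
      refine ⟨e.symm ((u * h * u⁻¹ * h⁻¹) • e 0), fun x => ?_⟩
      have hlin : ∀ g g' : G, ∀ x, e.symm ((g * g') • e x) = m g * m g' * x
          + (m g * e.symm (g' • e 0) + e.symm (g • e 0)) := fun g g' x => by
        rw [mul_smul, happ g', hm g]; ring
      have hmul : ∀ g g' : G, m (g * g') = m g * m g' := fun g g' => by
        have h1 := hlin g g' 1
        have h0 := hlin g g' 0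
        rw [hm] at h1
        linear_combination h1 - h0
      have hone : m (1 : G) = 1 := by
        have h1 := hm 1 1
        simp at h1
        exact h1.symm
      have h1 : m (u * h * u⁻¹ * h⁻¹) = 1 := by
        rw [hmul, hmul, hmul, mul_comm (m u) (m h), mul_assoc (m h) (m u), ← hmul u u⁻¹,
          mul_inv_cancel, hone, mul_one, ← hmul, mul_inv_cancel, hone]
      rw [happ, h1, one_mul]
    have hcomm : h * u = u * h := by
      rw [mul_inv_eq_one, mul_inv_eq_iff_eq_mul] at hc
      exact hc.symm
    -- `h` has a unique fixed point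
    have huniq : ∀ w, h • e w = e w → w = z := by
      intro w hw
      rw [happ] at hw
      have h1 := e.injective hw
      have h2 := e.injective ((happ h z).symm.trans hfix)
      have h3 : (1 - m h) * (w - z) = 0 := by linear_combination h2 - h1
      exact sub_eq_zero.1 ((mul_eq_zero.1 h3).resolve_left (sub_ne_zero.2 (Ne.symm hmh)))
    obtain ⟨w, hw⟩ := e.surjective (u • e z)
    have : h • e w = e w := by rw [hw, ← mul_smul, hcomm, mul_smul, hfix]
    rw [← hw, huniq w this]
  haveI h2t := CfsgLib.Perm.PrimeDegree.two_transitive G hα hsol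
  by_cases hp2 : p = 2
  · subst hp2
    exfalso
    exact hsol (CfsgLib.Perm.PrimeDegree.isSolvable_of_card_le_three G (by omega))
  obtain ⟨e, σ, t, hσ, ht⟩ := CfsgLib.Perm.PrimeDegree.exists_inversion G hp2 hα P heven
  have hpow : ∀ (n : ℕ) x, σ ^ n • e x = e (x + (n : ZMod p)) := by
    intro n
    induction n with
    | zero => intro x; simp
    | succ n ih => intro x; rw [pow_succ, mul_smul, hσ, ih]; push_cast; ring_nf
  let π : G → ZMod p ≃ ZMod p := fun g => e.trans ((MulAction.toPerm g).trans e.symm)
  have hπ : ∀ g x, π g x = e.symm (g • e x) := fun g x => rfl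
  have hπmul : ∀ g g' x, π (g * g') x = π g (π g' x) := fun g g' x => by simp [hπ, mul_smul]
  let img : G → Finset (ZMod p) → Finset (ZMod p) := fun g s => s.image (π g)
  have himg : ∀ g g' s, img (g * g') s = img g (img g' s) := fun g g' s => by
    simp only [img, Finset.image_image]; congr 1; funext x; exact hπmul g g' x
  have himg1 : ∀ s, img 1 s = s := fun s => by
    show s.image (π 1) = s
    rw [show (π 1 : ZMod p → ZMod p) = id from funext fun x => by simp [hπ], Finset.image_id]
  let D : Finset (ZMod p) := Finset.univ.filter fun x => e x ∈ MulAction.orbit H a₀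
  have hDmem : ∀ x, x ∈ D ↔ e x ∈ MulAction.orbit H a₀ := fun x => by simp [D]
  have hDne : D.Nonempty := ⟨e.symm a₀, by rw [hDmem, e.apply_symm_apply]; exact MulAction.mem_orbit_self a₀⟩
  have hDtop : D ≠ Finset.univ := by
    intro h
    apply hpH
    haveI : MulAction.IsPretransitive H α := by
      refine (MulAction.isPretransitive_iff_base a₀).2 fun b => ?_
      have := (hDmem (e.symm b)).1 (h ▸ Finset.mem_univ _)
      rw [e.apply_symm_apply] at this
      exact this
    rw [← hα, ← Nat.card_eq_fintype_card, ← MulAction.index_stabilizer_of_transitive H a₀]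
    exact Subgroup.index_dvd_card _
  have hHD : ∀ h ∈ H, img h D = D := by
    intro h hh
    refine Finset.eq_of_subset_of_card_le ?_ (le_of_eq ?_)
    · intro y hy
      obtain ⟨x, hx, rfl⟩ := Finset.mem_image.1 hy
      rw [hDmem] at hx ⊢
      obtain ⟨k, hk⟩ := hx
      refine ⟨⟨h, hh⟩ * k, ?_⟩
      simp only at hk ⊢
      rw [mul_smul, hk, hπ, e.apply_symm_apply]; rfl
    · exact (Finset.card_image_of_injective _ (π h).injective).symm
  let X : Subgroup G :=
    { carrier := {g | img g D = D}
      one_mem' := himg1 D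
      mul_mem' := fun {a b} ha hb => by
        show img (a * b) D = D
        rw [himg, hb, ha]
      inv_mem' := fun {a} ha => by
        show img a⁻¹ D = D
        conv_lhs => rw [← ha]
        rw [← himg, inv_mul_cancel, himg1] }
  have hXH : X = H := by
    have hle : H ≤ X := hHD
    have hd := Subgroup.index_dvd_of_le hle
    rw [hH] at hd
    rcases (Nat.dvd_prime hp).1 hd with h | h
    · exfalso
      rw [Subgroup.index_eq_one] at h
      apply hDtop
      obtain ⟨x, hx⟩ := hDne
      refine Finset.eq_univ_of_forall fun y => ?_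
      obtain ⟨g, hg⟩ := MulAction.exists_smul_eq G (e x) (e y)
      have hgX : img g D = D := (h ▸ Subgroup.mem_top g : g ∈ X)
      rw [← hgX]
      exact Finset.mem_image.2 ⟨x, hx, by rw [hπ, hg, e.symm_apply_apply]⟩
    · exact (Subgroup.eq_of_le_of_card_ge hle (le_of_eq (by
        have h1 := H.card_mul_index
        have h2 := X.card_mul_index
        rw [hH] at h1
        rw [h] at h2
        exact Nat.eq_of_mul_eq_mul_right hp.pos (h2.trans h1.symm)))).symm
  have hσp : orderOf σ = p := by
    refine orderOf_eq_prime (Subtype.ext (Equiv.ext fun x => ?_)) ?_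
    · obtain ⟨z, rfl⟩ := e.surjective x
      have := hpow p z
      rw [ZMod.natCast_self, add_zero] at this
      exact this
    · intro h
      have := hσ 0
      rw [h, one_smul, zero_add] at this
      exact zero_ne_one (e.injective this)
  have hshift : ∀ (i : ZMod p) x, π (σ ^ i.val) x = x + i := fun i x => by
    rw [hπ, hpow, e.symm_apply_apply, ZMod.natCast_zmod_val]
  have hindep : ∀ i j : ZMod p, σ ^ i.val * (σ ^ j.val)⁻¹ ∈ H → i = j := by
    intro i j hmem
    by_contra hij
    apply hnomem (σ ^ i.val * (σ ^ j.val)⁻¹) ?_ hmem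
    refine orderOf_eq_prime ?_ ?_
    · rw [((Commute.pow_pow_self σ i.val j.val).inv_right).mul_pow, inv_pow, ← pow_mul, ← pow_mul,
        mul_comm i.val, mul_comm j.val, pow_mul, pow_mul,
        show σ ^ p = 1 from orderOf_dvd_iff_pow_eq_one.1 hσp.dvd, one_pow, one_pow, inv_one, one_mul]
    · intro h1
      rw [mul_inv_eq_one] at h1
      have := hshift i 0
      rw [h1, hshift j 0, zero_add, zero_add] at this
      exact hij this.symm
  have hTimg : ∀ (i : ZMod p), img (σ ^ i.val) D = D.image (· + i) := fun i =>
    Finset.image_congr fun x _ => hshift i x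
  have hinjT : Function.Injective (fun i : ZMod p => img (σ ^ i.val) D) := by
    intro i j hij
    refine (hindep j i ?_).symm
    have h1 : (σ ^ i.val)⁻¹ * σ ^ j.val ∈ X := by
      show img _ D = D
      have : img (σ ^ j.val) D = img (σ ^ i.val) D := hij.symm
      rw [himg, this, ← himg, inv_mul_cancel, himg1]
    rw [hXH] at h1
    rwa [((Commute.pow_pow_self σ j.val i.val).inv_right).eq]
  -- every translate of `D` by an element is one of the shifts
  have hall : ∀ g : G, ∃ i : ZMod p, img g D = img (σ ^ i.val) D := by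
    intro g
    let f : ZMod p → G ⧸ X := fun i => (σ ^ i.val : G)
    have hf : Function.Bijective f := by
      rw [Nat.bijective_iff_injective_and_card]
      refine ⟨fun i j hij => hinjT ?_, by rw [Nat.card_zmod, ← Subgroup.index_eq_card, hXH, hH]⟩
      have h1 : img ((σ ^ i.val)⁻¹ * σ ^ j.val) D = D := QuotientGroup.eq.1 hij
      have h2 := congrArg (img (σ ^ i.val)) h1
      rw [← himg, mul_inv_cancel_left] at h2
      exact h2.symm
    obtain ⟨i, hi⟩ := hf.surjective (g : G ⧸ X)
    refine ⟨i, ?_⟩
    have h1 : img ((σ ^ i.val)⁻¹ * g) D = D := QuotientGroup.eq.1 hi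
    have h2 := congrArg (img (σ ^ i.val)) h1
    rw [← himg, mul_inv_cancel_left] at h2
    exact h2
  -- a symmetric translate
  obtain ⟨j, hj⟩ := hall t
  have hneg : ∀ x, x ∈ D ↔ -x - j ∈ D := by
    have hπt : ∀ x, π t x = -x := fun x => by rw [hπ, ht, e.symm_apply_apply]
    intro x
    rw [hTimg] at hj
    have h1 : -x ∈ img t D ↔ x ∈ D := by
      simp only [img, Finset.mem_image, hπt, neg_inj, exists_eq_right]
    rw [← h1, hj, Finset.mem_image]
    constructor
    · rintro ⟨y, hy, hyx⟩; rwa [show -x - j = y by linear_combination -hyx]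
    · exact fun hx => ⟨_, hx, by ring⟩
  let E : Finset (ZMod p) := D.image (· + j / 2)
  have htwo : (2 : ZMod p) ≠ 0 := by
    intro h
    have h1 : ((2 : ℕ) : ZMod p) = 0 := by exact_mod_cast h
    rw [ZMod.natCast_eq_zero_iff] at h1
    exact hp2 ((Nat.prime_dvd_prime_iff_eq hp Nat.prime_two).1 h1)
  have hE : ∀ x, x ∈ E ↔ x - j / 2 ∈ D := fun x => by
    simp only [E, Finset.mem_image]
    constructor
    · rintro ⟨y, hy, rfl⟩; simpa using hy
    · exact fun h => ⟨_, h, by ring⟩
  have hEneg : ∀ x, x ∈ E ↔ -x ∈ E := fun x => by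
    rw [hE, hE, hneg (x - j / 2)]
    have : -(x - j / 2) - j = -x - j / 2 := by field_simp; ring
    rw [this]
  -- the number of translates containing 0 and `y`
  let lam : ZMod p → ℕ := fun y => (Finset.univ.filter fun i => (0 : ZMod p) - i ∈ E ∧ y - i ∈ E).card
  have hperm : ∀ g : G, ∃ f : ZMod p → ZMod p, Function.Injective f ∧
      ∀ i x, x - i ∈ E ↔ π g x - f i ∈ E := by
    intro g
    have hk : ∀ i : ZMod p, ∃ k : ZMod p, img (g * σ ^ (i + j / 2).val) D = img (σ ^ k.val) D := fun i => hall _
    choose k hk using hk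
    refine ⟨fun i => k i - j / 2, fun i i' h => ?_, fun i x => ?_⟩
    · have h' : k i = k i' := sub_left_inj.1 h
      have h2 := hk i
      rw [h', ← hk i', himg, himg] at h2
      exact add_right_cancel (hinjT (Finset.image_injective (π g).injective h2))
    · have h1 : π g x ∈ img (g * σ ^ (i + j / 2).val) D ↔ x - i ∈ E := by
        rw [himg, hTimg, hE]
        simp only [img, Finset.mem_image, EmbeddingLike.apply_eq_iff_eq, exists_eq_right]
        constructor
        · rintro ⟨y, hy, rfl⟩; rwa [show y + (i + j / 2) - i - j / 2 = y by ring]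
        · exact fun h => ⟨_, h, by ring⟩
      rw [← h1, hk, hTimg, hE, Finset.mem_image]
      constructor
      · rintro ⟨y, hy, he'⟩; rwa [← he', show y + k i - (k i - j / 2) - j / 2 = y by ring]
      · exact fun h => ⟨_, h, by ring⟩
  have hlam : ∀ y y', y ≠ 0 → y' ≠ 0 → lam y = lam y' := by
    intro y y' hy hy'
    have n1 : e 0 ≠ e y := fun h => hy (e.injective h).symm
    have n2 : e 0 ≠ e y' := fun h => hy' (e.injective h).symm
    obtain ⟨g, hg0, hgy⟩ := (MulAction.is_two_pretransitive_iff.1 h2t) n1 n2
    obtain ⟨f, hfinj, hf⟩ := hperm g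
    have e0 : π g 0 = 0 := by rw [hπ, hg0, e.symm_apply_apply]
    have e1 : π g y = y' := by rw [hπ, hgy, e.symm_apply_apply]
    refine Finset.card_bij (fun i _ => f i) (fun i hi => ?_) (fun i _ i' _ h => hfinj h) (fun i hi => ?_)
    · simp only [Finset.mem_filter, Finset.mem_univ, true_and] at hi ⊢
      rw [hf, e0, hf i y, e1] at hi
      exact hi
    · obtain ⟨i₀, rfl⟩ := (Finite.injective_iff_surjective.1 hfinj) i
      refine ⟨i₀, ?_, rfl⟩
      simp only [Finset.mem_filter, Finset.mem_univ, true_and] at hi ⊢
      rw [hf, e0, hf i₀ y, e1]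
      exact hi
  -- parity of this number
  have hpar : ∀ u : ZMod p, u ≠ 0 → (lam (2 * u) : ZMod 2) = if u ∈ E then 1 else 0 := by
    intro u hu
    have hS : lam (2 * u) = (Finset.univ.filter fun d => d ∈ E ∧ 2 * u - d ∈ E).card := by
      refine congrArg Finset.card (Finset.filter_congr fun i _ => ?_)
      rw [zero_sub, ← hEneg]
    rw [hS]
    set S := Finset.univ.filter fun d => d ∈ E ∧ 2 * u - d ∈ E with hSdef
    have hfilter : (S.filter fun d => d = u) = if u ∈ E then {u} else ∅ := by
      ext d
      split_ifs with h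
      · simp only [hSdef, Finset.mem_filter, Finset.mem_univ, true_and, Finset.mem_singleton]
        constructor
        · exact fun hd => hd.2
        · rintro rfl; exact ⟨⟨h, by rwa [show 2 * d - d = d by ring]⟩, rfl⟩
      · simp only [hSdef, Finset.mem_filter, Finset.mem_univ, true_and, Finset.notMem_empty, iff_false]
        rintro ⟨⟨hd, -⟩, rfl⟩
        exact h hd
    have hrest : ∑ d ∈ S.filter (fun d => ¬ d = u), (1 : ZMod 2) = 0 := by
      refine Finset.sum_involution (fun d _ => 2 * u - d) (fun d _ => rfl) (fun d hd _ h => ?_)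
        (fun d hd => ?_) (fun d _ => by ring)
      · apply (Finset.mem_filter.1 hd).2
        have : 2 * (d - u) = 0 := by linear_combination -h
        exact sub_eq_zero.1 ((mul_eq_zero.1 this).resolve_left htwo)
      · simp only [hSdef, Finset.mem_filter, Finset.mem_univ, true_and] at hd ⊢
        refine ⟨⟨hd.1.2, by rw [sub_sub_cancel]; exact hd.1.1⟩, fun h => hd.2 ?_⟩
        linear_combination -h
    rw [← Finset.card_filter_add_card_filter_not (s := S) (fun d => d = u), Nat.cast_add, hfilter]
    rw [Finset.sum_const, nsmul_one] at hrest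
    rw [hrest, add_zero]
    split_ifs <;> simp
  have hconst : ∀ u v : ZMod p, u ≠ 0 → v ≠ 0 → (u ∈ E ↔ v ∈ E) := by
    intro u v hu hv
    have h1 := hpar u hu
    have h2 := hpar v hv
    rw [hlam (2 * u) (2 * v) (mul_ne_zero htwo hu) (mul_ne_zero htwo hv)] at h1
    rw [h1] at h2
    by_cases hu' : u ∈ E <;> by_cases hv' : v ∈ E <;> simp [hu', hv'] at h2 ⊢
  -- the special point
  obtain ⟨z, hz⟩ : ∃ z, (∀ x, x ∈ D ↔ x = z) ∨ (∀ x, x ∈ D ↔ x ≠ z) := by
    refine ⟨- (j / 2), ?_⟩
    by_cases hsome : ∃ u, u ≠ 0 ∧ u ∈ E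
    · obtain ⟨u, hu, huE⟩ := hsome
      right
      intro x
      constructor
      · rintro hx rfl
        apply hDtop
        refine Finset.eq_univ_of_forall fun y => ?_
        by_cases hy : y + j / 2 = 0
        · rwa [show y = -(j / 2) by linear_combination hy]
        · have := (hE _).1 ((hconst u _ hu hy).1 huE)
          rwa [add_sub_cancel_right] at this
      · intro hx
        have hy : x + j / 2 ≠ 0 := fun h => hx (by linear_combination h)
        have := (hE _).1 ((hconst u _ hu hy).1 huE)
        rwa [add_sub_cancel_right] at this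
    · push Not at hsome
      left
      have honly : ∀ x ∈ D, x = -(j / 2) := by
        intro x hx
        by_contra hne
        refine hsome (x + j / 2) (fun h => hne (by linear_combination h)) ((hE _).2 ?_)
        rwa [add_sub_cancel_right]
      intro x
      refine ⟨honly x, fun h => ?_⟩
      obtain ⟨y, hy⟩ := hDne
      rw [h, ← honly y hy]
      exact hy
  refine ⟨e z, fun h hh => ?_⟩
  have h1 := hHD h hh
  have hzz : π h z = z := by
    rcases hz with hz | hz
    · have := Finset.mem_image_of_mem (π h) ((hz z).2 rfl)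
      rw [show D.image (π h) = D from h1] at this
      exact (hz _).1 this
    · by_contra hne
      have h2 : π h z ∈ D.image (π h) := by rw [show D.image (π h) = D from h1]; exact (hz _).2 hne
      obtain ⟨y, hy, hyz⟩ := Finset.mem_image.1 h2
      exact (hz y).1 hy ((π h).injective hyz)
  rw [hπ, Equiv.symm_apply_eq] at hzz
  exact hzz

end Cfsg.Agent.S0677
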