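import Cfsg.Statements.S0678

import Mathlib
import Cfsg.Agent.Perm.PrimeDegree
import Cfsg.Agent.Char.Burnside

set_option autoImplicit false
set_option linter.style.haveILetI false
open Cfsg

namespace Cfsg.Agent.S0678

theorem solvable_of_dvd {X : Type*} [Group X] [Finite X] (h : Nat.card X ∣ 168)
    (h168 : Nat.card X ≠ 168) : Group.IsSolvable X := by
  obtain ⟨n, hn⟩ : ∃ n, Nat.card X = n := ⟨_, rfl⟩
  rw [hn] at h h168
  have hcases : n ∈ ({1, 2, 3, 4, 6, 7, 8, 12, 14, 21, 24, 28, 42, 56, 84} : Finset ℕ) := by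
    have hfin : ∀ m ∈ Nat.divisors 168, m ≠ 168 →
        m ∈ ({1, 2, 3, 4, 6, 7, 8, 12, 14, 21, 24, 28, 42, 56, 84} : Finset ℕ) := by decide +kernel
    exact hfin n (Nat.mem_divisors.2 ⟨h, by norm_num⟩) h168
  have two : ∀ (Y : Type _) [Group Y] [Finite Y] (p q a b : ℕ), p.Prime → q.Prime →
      Nat.card Y = p ^ a * q ^ b → Group.IsSolvable Y := fun Y _ _ p q a b hp hq he =>
    CfsgLib.Char.solvable_of_card_two_primes p q a b hp hq he
  simp only [Finset.mem_insert, Finset.mem_singleton] at hcases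
  rcases hcases with rfl | rfl | rfl | rfl | rfl | rfl | rfl | rfl | rfl | rfl | rfl | rfl | rfl | rfl | rfl
  · exact two X 2 3 0 0 Nat.prime_two Nat.prime_three hn
  · exact two X 2 3 1 0 Nat.prime_two Nat.prime_three hn
  · exact two X 2 3 0 1 Nat.prime_two Nat.prime_three hn
  · exact two X 2 3 2 0 Nat.prime_two Nat.prime_three hn
  · exact two X 2 3 1 1 Nat.prime_two Nat.prime_three hn
  · exact two X 2 7 0 1 Nat.prime_two (by norm_num) hn
  · exact two X 2 3 3 0 Nat.prime_two Nat.prime_three hn
  · exact two X 2 3 2 1 Nat.prime_two Nat.prime_three hn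
  · exact two X 2 7 1 1 Nat.prime_two (by norm_num) hn
  · exact two X 3 7 1 1 Nat.prime_three (by norm_num) hn
  · exact two X 2 3 3 1 Nat.prime_two Nat.prime_three hn
  · exact two X 2 7 2 1 Nat.prime_two (by norm_num) hn
  · haveI := IsZGroup.of_squarefree (G := X) (by rw [hn]; decide +kernel)
    infer_instance
  · exact two X 2 7 3 1 Nat.prime_two (by norm_num) hn
  · haveI : Fact (Nat.Prime 7) := ⟨by norm_num⟩
    obtain ⟨P⟩ : Nonempty (Sylow 7 X) := inferInstance
    have hP : Nat.card (P : Subgroup X) = 7 := by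
      rw [P.card_eq_multiplicity, hn]
      have : (84 : ℕ).factorization 7 = 1 := by
        rw [show (84 : ℕ) = 12 * 7 by norm_num, Nat.factorization_mul (by norm_num) (by norm_num),
          Finsupp.add_apply, Nat.factorization_eq_zero_of_not_dvd (by norm_num),
          Nat.Prime.factorization_self (by norm_num)]
      rw [this, pow_one]
    have hidx : (P : Subgroup X).index = 12 := by
      have := (P : Subgroup X).card_mul_index
      rw [hP, hn] at this
      omega
    have h1 : Nat.card (Sylow 7 X) ∣ 12 := hidx ▸ P.card_dvd_index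
    have h2 := card_sylow_modEq_one 7 X
    obtain ⟨m, hm⟩ : ∃ m, Nat.card (Sylow 7 X) = m := ⟨_, rfl⟩
    rw [hm] at h1 h2
    have hfin : ∀ k ∈ Nat.divisors 12, k % 7 = 1 → k = 1 := by decide +kernel
    rw [hfin m (Nat.mem_divisors.2 ⟨h1, by norm_num⟩) h2] at hm
    haveI : Subsingleton (Sylow 7 X) := (Nat.card_eq_one_iff_unique.1 hm).1
    haveI : (P : Subgroup X).Normal := P.normal_of_subsingleton
    haveI := two ↥(P : Subgroup X) 2 7 0 1 Nat.prime_two (by norm_num) hP
    haveI := two (X ⧸ (P : Subgroup X)) 2 3 2 1 Nat.prime_two Nat.prime_three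
      (by rw [← Subgroup.index_eq_card, hidx]; norm_num)
    exact (Group.isSolvable_iff_subgroup_quotient (P : Subgroup X)).2 ⟨inferInstance, inferInstance⟩

/-- A non-solvable transitive permutation group on 7 points that does not contain the alternating group is a simple group of order 168. -/
theorem result {α : Type*} [Fintype α] [DecidableEq α] (hα : Fintype.card α = 7) (G : Subgroup (Equiv.Perm α)) [MulAction.IsPretransitive G α] (hG : ¬ Group.IsSolvable G) (hA : ¬ alternatingGroup α ≤ G) : Nat.card G = 168 ∧ IsSimpleGroup G := by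
  classical
  haveI : Fact (Nat.Prime 7) := ⟨by norm_num⟩
  haveI hprim : MulAction.IsPreprimitive G α :=
    MulAction.IsPreprimitive.of_prime_card (by rw [Nat.card_eq_fintype_card, hα]; norm_num)
  have hdvd : Nat.card G ∣ 5040 := by
    refine (Subgroup.card_subgroup_dvd_card G).trans ?_
    rw [Nat.card_perm, Nat.card_eq_fintype_card, hα]
    decide
  have hswap : ∀ g : Equiv.Perm α, g ∈ G → ¬ g.IsSwap := fun g hg hs => hA (by
    rw [Equiv.Perm.subgroup_eq_top_of_isPreprimitive_of_isSwap_mem hprim g hs hg]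
    exact le_top)
  have h3 : ∀ g : Equiv.Perm α, g ∈ G → ¬ g.IsThreeCycle := fun g hg hs =>
    hA (Equiv.Perm.alternatingGroup_le_of_isPreprimitive_of_isThreeCycle_mem hprim hs hg)
  have hsyl : ∀ q : ℕ, q.Prime → q ^ (5040 : ℕ).factorization q ∣ Nat.card G →
      ∀ g : Equiv.Perm α, orderOf g = q → ∃ h : Equiv.Perm α, h * g * h⁻¹ ∈ G := by
    intro q hq hfull g hg
    haveI : Fact q.Prime := ⟨hq⟩
    obtain ⟨S⟩ : Nonempty (Sylow q G) := inferInstance
    let S' : Subgroup (Equiv.Perm α) := (S : Subgroup G).map G.subtype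
    have hS' : IsPGroup q S' := S.isPGroup'.map _
    have hcard : Nat.card S' = q ^ (Nat.card (Equiv.Perm α)).factorization q := by
      rw [Subgroup.card_map_of_injective G.subtype_injective, S.card_eq_multiplicity,
        Nat.card_perm, Nat.card_eq_fintype_card (α := α), hα]
      congr 1
      refine le_antisymm ?_ ((hq.pow_dvd_iff_le_factorization Nat.card_pos.ne').1 hfull)
      exact (Nat.factorization_le_iff_dvd Nat.card_pos.ne' (by decide)).2 hdvd q
    let T : Sylow q (Equiv.Perm α) := Sylow.ofCard S' hcard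
    have hgp : IsPGroup q (Subgroup.zpowers g) :=
      IsPGroup.of_card (n := 1) (by rw [Nat.card_zpowers, hg, pow_one])
    obtain ⟨U, hU⟩ := hgp.exists_le_sylow
    obtain ⟨h, hh⟩ := MulAction.exists_smul_eq (Equiv.Perm α) U T
    refine ⟨h, ?_⟩
    have : h * g * h⁻¹ ∈ (T : Subgroup (Equiv.Perm α)) := by
      rw [← hh, Sylow.coe_subgroup_smul]
      exact ⟨g, hU (Subgroup.mem_zpowers g), rfl⟩
    obtain ⟨u, _, hu⟩ := this
    rw [← hu]; exact u.2
  have h16 : ¬ 16 ∣ Nat.card G := by
    intro h
    obtain ⟨x, y, hxy⟩ : ∃ x y : α, x ≠ y :=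
      Fintype.exists_pair_of_one_lt_card (by rw [hα]; norm_num)
    have hg : orderOf (Equiv.swap x y) = 2 := by
      rw [orderOf_eq_prime_iff]
      exact ⟨by rw [pow_two, Equiv.swap_mul_self], fun he => hxy (by
        have := congrFun (congrArg (fun σ : Equiv.Perm α => (σ : α → α)) he) x
        simpa using this.symm)⟩
    obtain ⟨u, hu⟩ := hsyl 2 Nat.prime_two (by
      have : (5040 : ℕ).factorization 2 = 4 := by
        rw [show (5040 : ℕ) = 2 ^ 4 * 315 by norm_num, Nat.factorization_mul (by norm_num) (by norm_num),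
          Finsupp.add_apply, Nat.factorization_eq_zero_of_not_dvd (n := 315) (by norm_num),
          Nat.Prime.factorization_pow Nat.prime_two, Finsupp.single_eq_same]
      rw [this]; exact h) _ hg
    refine hswap _ hu ⟨u x, u y, u.injective.ne hxy, ?_⟩
    exact (Equiv.swap_apply_apply u x y).symm
  have h9 : ¬ 9 ∣ Nat.card G := by
    intro h
    obtain ⟨x, y, hxy⟩ : ∃ x y : α, x ≠ y :=
      Fintype.exists_pair_of_one_lt_card (by rw [hα]; norm_num)
    obtain ⟨z, hz⟩ := Finset.exists_mem_notMem_of_card_lt_card (s := ({x, y} : Finset α))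
      (t := Finset.univ) (lt_of_le_of_lt Finset.card_le_two (by rw [Finset.card_univ, hα]; norm_num))
    simp only [Finset.mem_univ, Finset.mem_insert, Finset.mem_singleton, true_and, not_or] at hz
    have hc : (Equiv.swap x y * Equiv.swap x z).IsThreeCycle :=
      Equiv.Perm.isThreeCycle_swap_mul_swap_same hxy (Ne.symm hz.1) (Ne.symm hz.2)
    obtain ⟨u, hu⟩ := hsyl 3 Nat.prime_three (by
      have : (5040 : ℕ).factorization 3 = 2 := by
        rw [show (5040 : ℕ) = 3 ^ 2 * 560 by norm_num, Nat.factorization_mul (by norm_num) (by norm_num),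
          Finsupp.add_apply, Nat.factorization_eq_zero_of_not_dvd (n := 560) (by norm_num),
          Nat.Prime.factorization_pow Nat.prime_three, Finsupp.single_eq_same]
      rw [this]; exact h) _ hc.orderOf
    exact h3 _ hu (by
      rw [Equiv.Perm.IsThreeCycle, Equiv.Perm.cycleType_conj]; exact hc)
  haveI h2t := CfsgLib.Perm.PrimeDegree.two_transitive G hα hG
  have h42 : 7 ∣ Nat.card G ∧ 3 ∣ Nat.card G := by
    haveI : Nonempty α := Fintype.card_pos_iff.1 (by omega)
    obtain ⟨a⟩ := (inferInstance : Nonempty α)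
    have h1 := MulAction.index_stabilizer_of_transitive G a
    rw [Nat.card_eq_fintype_card, hα] at h1
    refine ⟨h1 ▸ Subgroup.index_dvd_card _, ?_⟩
    haveI : MulAction.IsMultiplyPretransitive G α (Nat.succ 1) := h2t
    have h2 : MulAction.IsPretransitive (MulAction.stabilizer G a) (SubMulAction.ofStabilizer G a) :=
      MulAction.is_one_pretransitive_iff.1 ((SubMulAction.ofStabilizer.isMultiplyPretransitive (G := G) (α := α) (a := a) (n := 1)).1 h2t)
    have h3 : Nat.card (SubMulAction.ofStabilizer G a) = 6 := by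
      rw [SubMulAction.nat_card_ofStabilizer_eq, Nat.card_eq_fintype_card, hα]
    obtain ⟨b⟩ : Nonempty (SubMulAction.ofStabilizer G a) := (Nat.card_pos_iff.1 (h3 ▸ Nat.succ_pos 5)).1
    haveI := h2
    have h4 := MulAction.index_stabilizer_of_transitive (MulAction.stabilizer G a) b
    rw [h3] at h4
    exact (show 3 ∣ 6 by norm_num).trans ((h4 ▸ Subgroup.index_dvd_card _).trans
      (Subgroup.card_subgroup_dvd_card _))
  let φ : G →* ℤˣ := Equiv.Perm.sign.comp G.subtype
  let H : Subgroup (alternatingGroup α) := G.subgroupOf (alternatingGroup α)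
  have hker : Nat.card φ.ker = Nat.card H := Nat.card_congr
    { toFun := fun x => ⟨⟨(x.1 : Equiv.Perm α), x.2⟩, x.1.2⟩
      invFun := fun y => ⟨⟨(y.1 : Equiv.Perm α), y.2⟩, y.1.2⟩
      left_inv := fun _ => rfl
      right_inv := fun _ => rfl }
  have hnsol : ¬ Group.IsSolvable φ.ker := fun h => hG
    (Group.isSolvable_of_ker_le_range φ.ker.subtype φ (by simp))
  have hlag := φ.ker.card_mul_index
  have hidx : φ.ker.index ∣ 2 := by
    have := Subgroup.card_subgroup_dvd_card φ.range
    rw [Nat.card_eq_fintype_card (α := ℤˣ), Fintype.card_units_int] at this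
    rw [Subgroup.index_ker]; exact this
  have h5 : ¬ 5 ∣ Nat.card G := by
    intro h5
    haveI : Nontrivial α := Fintype.one_lt_card_iff_nontrivial.1 (by omega)
    have hA7 : Nat.card (alternatingGroup α) = 2520 := by
      rw [nat_card_alternatingGroup, Nat.card_eq_fintype_card, hα]; decide
    have hdh : Nat.card H ∣ 2520 := hA7 ▸ Subgroup.card_subgroup_dvd_card H
    obtain ⟨g, hg⟩ : ∃ g, Nat.card G = g := ⟨_, rfl⟩
    obtain ⟨m, hm⟩ : ∃ m, Nat.card H = m := ⟨_, rfl⟩
    obtain ⟨i, hi⟩ : ∃ i, φ.ker.index = i := ⟨_, rfl⟩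
    rw [hi] at hidx
    rw [hker, hm, hi, hg] at hlag
    rw [hm] at hdh
    rw [hg] at h5 h16 h9 h42
    have hsq : ¬ Squarefree m := fun hs => hnsol (by
      haveI := IsZGroup.of_squarefree (G := φ.ker) (by rw [hker, hm]; exact hs)
      infer_instance)
    have hm4 : m = 420 ∨ m = 840 := by
      have hfin : ∀ m ∈ Nat.divisors 2520, 5 ∣ m → 7 ∣ m → 3 ∣ m → ¬ 16 ∣ m → ¬ 9 ∣ m →
          m = 105 ∨ m = 210 ∨ m = 420 ∨ m = 840 := by decide +kernel
      have hcop : ∀ r, r.Prime → r ≠ 2 → r ∣ g → r ∣ m := fun r hr hr2 hrg => by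
        rw [← hlag] at hrg
        exact (hr.dvd_mul.1 hrg).resolve_right fun h => hr2
          ((Nat.prime_dvd_prime_iff_eq hr Nat.prime_two).1 (h.trans hidx))
      rcases hfin m (Nat.mem_divisors.2 ⟨hdh, by norm_num⟩)
        (hcop 5 (by norm_num) (by norm_num) h5) (hcop 7 (by norm_num) (by norm_num) h42.1)
        (hcop 3 (by norm_num) (by norm_num) h42.2)
        (fun h => h16 (h.trans ⟨i, hlag.symm⟩)) (fun h => h9 (h.trans ⟨i, hlag.symm⟩)) with h | h | h | h
      · exact absurd (by rw [h]; decide +kernel) hsq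
      · exact absurd (by rw [h]; decide +kernel) hsq
      · exact Or.inl h
      · exact Or.inr h
    haveI : IsSimpleGroup (alternatingGroup α) := alternatingGroup.isSimpleGroup (by rw [Nat.card_eq_fintype_card, hα]; norm_num)
    have hHidx := H.card_mul_index
    rw [hm, hA7] at hHidx
    have hcore : H.normalCore = ⊥ := by
      rcases Subgroup.Normal.eq_bot_or_eq_top H.normalCore_normal with h | h
      · exact h
      · exfalso
        have : H = ⊤ := top_le_iff.1 (h ▸ H.normalCore_le)
        rw [this, Subgroup.index_top] at hHidx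
        omega
    have hinj : Function.Injective (MulAction.toPermHom (alternatingGroup α) (alternatingGroup α ⧸ H)) := by
      rw [← MonoidHom.ker_eq_bot_iff, ← Subgroup.normalCore_eq_ker, hcore]
    have hd := Subgroup.card_dvd_of_injective _ hinj
    rw [hA7, Nat.card_perm, ← Subgroup.index_eq_card] at hd
    rcases hm4 with rfl | rfl
    · rw [show H.index = 6 by omega] at hd
      exact absurd (Nat.le_of_dvd (Nat.factorial_pos 6) hd) (by decide +kernel)
    · rw [show H.index = 3 by omega] at hd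
      exact absurd (Nat.le_of_dvd (Nat.factorial_pos 3) hd) (by decide +kernel)
  have hd168 : Nat.card G ∣ 168 := by
    obtain ⟨n, hn⟩ : ∃ n, Nat.card G = n := ⟨_, rfl⟩
    rw [hn] at hdvd h16 h9 h5 ⊢
    have hfin : ∀ m ∈ Nat.divisors 5040, ¬ 16 ∣ m → ¬ 9 ∣ m → ¬ 5 ∣ m → m ∣ 168 := by decide +kernel
    exact hfin n (Nat.mem_divisors.2 ⟨hdvd, by norm_num⟩) h16 h9 h5
  have h168 : Nat.card G = 168 := by
    by_contra h
    exact hG (solvable_of_dvd hd168 h)
  refine ⟨h168, ?_⟩
  haveI : Nontrivial G := (Finite.one_lt_card_iff_nontrivial).1 (by rw [h168]; norm_num)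
  refine IsSimpleGroup.mk fun N hN => ?_
  by_contra hne
  push Not at hne
  haveI := hN
  have hlagN := N.card_mul_index
  rw [h168] at hlagN
  have hNpos : 1 < Nat.card N := (Subgroup.one_lt_card_iff_ne_bot N).2 hne.1
  have hipos : N.index ≠ 1 := fun h => hne.2 (Subgroup.index_eq_one.1 h)
  haveI := solvable_of_dvd (X := N) ⟨_, hlagN.symm⟩ (fun h => hipos (by rw [h] at hlagN; omega))
  haveI := solvable_of_dvd (X := G ⧸ N) (by rw [← Subgroup.index_eq_card]; exact ⟨_, (mul_comm _ _).trans hlagN |>.symm⟩)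
    (fun h => by
      rw [← Subgroup.index_eq_card] at h
      rw [h] at hlagN
      omega)
  exact hG ((Group.isSolvable_iff_subgroup_quotient N).2 ⟨inferInstance, inferInstance⟩)

end Cfsg.Agent.S0678
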