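import Cfsg.Statements.S0680

import Mathlib
import Cfsg.Agent.Perm.SharpTwo

set_option autoImplicit false
set_option linter.style.haveILetI false
open Cfsg

namespace Cfsg.Agent.S0680
open scoped Pointwise

/-- A finite sharply doubly transitive permutation group has degree a prime power `p ^ j`; a Sylow `p`-subgroup is normal, elementary abelian and regular, and consists of the identity together with the elements without fixed points. (Frobenius' Theorem is not needed.) -/
theorem result {α : Type*} [Fintype α] [DecidableEq α] (G : Subgroup (Equiv.Perm α)) [MulAction.IsMultiplyPretransitive G α 2] (hsharp : ∀ x : Fin 2 ↪ α, MulAction.stabilizer G x = ⊥) (h2 : 2 ≤ Fintype.card α) : ∃ p j : ℕ, p.Prime ∧ 1 ≤ j ∧ Fintype.card α = p ^ j ∧ ∀ (hp : Fact p.Prime) (P : Sylow p G), (P : Subgroup G).Normal ∧ IsMulCommutative (P : Subgroup G) ∧ (∀ x ∈ (P : Subgroup G), x ^ p = 1) ∧ MulAction.IsPretransitive (P : Subgroup G) α ∧ (∀ a : α, MulAction.stabilizer (P : Subgroup G) a = ⊥)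 ∧ ∀ g : G, g ∈ (P : Subgroup G) ↔ g = 1 ∨ ∀ a : α, g • a ≠ a := by
  classical
  have hS := CfsgLib.Perm.SharpTwo.sharp_of (G := G) (α := α) inferInstance hsharp
    (by rw [Nat.card_eq_fintype_card]; exact h2)
  obtain ⟨K, p, j, hp, hj, hcard, hKn, hKc, hcomm, hexp, hmem, htr, hfree⟩ :=
    CfsgLib.Perm.SharpTwo.exists_kernel hS
  refine ⟨p, j, hp, hj, by rw [← Nat.card_eq_fintype_card]; exact hcard, fun hpf P => ?_⟩
  haveI := hKn
  have hKp : IsPGroup p K := IsPGroup.of_card (hKc.trans hcard)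
  have hPK : (P : Subgroup G) = K := by
    obtain ⟨Q, hQ⟩ := hKp.exists_le_sylow
    obtain ⟨c, hc⟩ := MulAction.exists_smul_eq G Q P
    have hKP : K ≤ (P : Subgroup G) := by
      intro x hx
      rw [← hc, Sylow.coe_subgroup_smul, Subgroup.mem_pointwise_smul_iff_inv_smul_mem]
      exact hQ (by simpa using hKn.conj_mem x hx c⁻¹)
    refine (Subgroup.eq_of_le_of_card_ge hKP ?_).symm
    rw [hKc, hcard, P.card_eq_multiplicity]
    refine Nat.pow_le_pow_right hp.pos ?_
    rw [CfsgLib.Perm.SharpTwo.card_eq hS, hcard, Nat.factorization_mul (pow_ne_zero _ hp.ne_zero)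
      (by have := Nat.one_lt_pow (by omega : j ≠ 0) hp.one_lt; omega), Finsupp.add_apply,
      hp.factorization_pow, Finsupp.single_eq_same, Nat.factorization_eq_zero_of_not_dvd]
    · simp
    · intro hd
      have h1 : p ∣ p ^ j := dvd_pow_self p (by omega)
      have h3 := (Nat.dvd_sub h1 hd)
      have hpos : 1 ≤ p ^ j := Nat.one_le_pow _ _ hp.pos
      rw [show p ^ j - (p ^ j - 1) = 1 by omega] at h3
      exact hp.not_dvd_one h3
  rw [hPK]
  refine ⟨hKn, ⟨⟨fun a b => Subtype.ext (hcomm a a.2 b b.2)⟩⟩, hexp, ⟨fun a b => ?_⟩, fun a => ?_, hmem⟩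
  · obtain ⟨g, hg, hga⟩ := htr a b
    exact ⟨⟨g, hg⟩, hga⟩
  · rw [Subgroup.eq_bot_iff_forall]
    exact fun g hg => Subtype.ext (hfree a g g.2 hg)

end Cfsg.Agent.S0680
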