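import Cfsg.Statements.S0681


set_option autoImplicit false
set_option linter.style.haveILetI false
open Cfsg

namespace Cfsg.Agent.S0681

/-- The affine maps `x ↦ x * a + b`, `a ≠ 0`, of a near-field form a sharply doubly transitive permutation group. -/
theorem result {F : Type*} [Cfsg.NearField F] : ∃ H : Subgroup (Equiv.Perm F), (∀ σ : Equiv.Perm F, σ ∈ H ↔ ∃ a b : F, a ≠ 0 ∧ ∀ x : F, σ x = x * a + b) ∧ MulAction.IsMultiplyPretransitive H F 2 ∧ ∀ x : Fin 2 ↪ F, MulAction.stabilizer H x = ⊥ := by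
  classical
  have hzm : ∀ c : F, (0 : F) * c = 0 := by
    intro c
    have h := Cfsg.NearField.right_distrib (0 : F) 0 c
    rw [add_zero] at h
    exact left_eq_add.mp h
  have hneg : ∀ x c : F, (-x) * c = -(x * c) := by
    intro x c
    have h := Cfsg.NearField.right_distrib (-x) x c
    rw [neg_add_cancel, hzm] at h
    exact eq_neg_of_add_eq_zero_left h.symm
  have hsub : ∀ x y c : F, (x - y) * c = x * c - y * c := by
    intro x y c
    rw [sub_eq_add_neg, Cfsg.NearField.right_distrib, hneg, sub_eq_add_neg]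
  have hmn : ∀ a b : F, a ≠ 0 → b ≠ 0 → a * b ≠ 0 := by
    intro a b ha hb h
    obtain ⟨c, hc, -⟩ := Cfsg.NearField.exists_inv b hb
    have := congrArg (· * c) h
    simp only [mul_assoc, hc, mul_one, hzm] at this
    exact ha this
  let H : Subgroup (Equiv.Perm F) :=
    { carrier := {σ | ∃ a b : F, a ≠ 0 ∧ ∀ x : F, σ x = x * a + b}
      one_mem' := ⟨1, 0, fun h => Cfsg.NearField.zero_ne_one h.symm, fun x => by simp⟩
      mul_mem' := by
        rintro σ τ ⟨a, b, ha, hσ⟩ ⟨c, d, hc, hτ⟩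
        refine ⟨c * a, d * a + b, hmn c a hc ha, fun x => ?_⟩
        simp [hσ, hτ, Cfsg.NearField.right_distrib, mul_assoc, add_assoc]
      inv_mem' := by
        rintro σ ⟨a, b, ha, hσ⟩
        obtain ⟨c, hac, hca⟩ := Cfsg.NearField.exists_inv a ha
        refine ⟨c, (-b) * c, fun h => ?_, fun x => ?_⟩
        · rw [h, Cfsg.NearField.mul_zero] at hac
          exact Cfsg.NearField.zero_ne_one hac
        · apply σ.injective
          rw [Equiv.Perm.inv_def, Equiv.apply_symm_apply, hσ,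
            ← Cfsg.NearField.right_distrib, mul_assoc, hca, mul_one, neg_add_cancel_right] }
  have htr : ∀ u v : F, u ≠ v → ∃ σ ∈ H, σ 0 = u ∧ σ 1 = v := by
    intro u v huv
    have ha : v - u ≠ 0 := sub_ne_zero.mpr (Ne.symm huv)
    obtain ⟨c, hac, hca⟩ := Cfsg.NearField.exists_inv (v - u) ha
    let σ : Equiv.Perm F :=
      { toFun := fun x => x * (v - u) + u
        invFun := fun y => (y - u) * c
        left_inv := fun x => by simp [mul_assoc, hac]
        right_inv := fun y => by simp [mul_assoc, hca] }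
    refine ⟨σ, ⟨v - u, u, ha, fun x => rfl⟩, ?_, ?_⟩
    · show (0 : F) * (v - u) + u = u
      rw [hzm, zero_add]
    · show (1 : F) * (v - u) + u = v
      rw [one_mul, sub_add_cancel]
  refine ⟨H, fun σ => Iff.rfl, ?_, ?_⟩
  · rw [MulAction.is_two_pretransitive_iff]
    intro a b c d hab hcd
    obtain ⟨σ, hσ, hσ0, hσ1⟩ := htr a b hab
    obtain ⟨τ, hτ, hτ0, hτ1⟩ := htr c d hcd
    refine ⟨⟨τ * σ⁻¹, H.mul_mem hτ (H.inv_mem hσ)⟩, ?_, ?_⟩
    · simp [Subgroup.smul_def, ← hσ0, hτ0]
    · simp [Subgroup.smul_def, ← hσ1, hτ1]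
  · intro x
    rw [Subgroup.eq_bot_iff_forall]
    rintro ⟨σ, a, b, ha, hσ⟩ hs
    rw [MulAction.mem_stabilizer_iff] at hs
    have h0 := DFunLike.congr_fun hs 0
    have h1 := DFunLike.congr_fun hs 1
    simp only [Function.Embedding.smul_apply, Subgroup.smul_def, Equiv.Perm.smul_def, hσ] at h0 h1
    have hne : x 0 - x 1 ≠ 0 := sub_ne_zero.mpr (x.injective.ne (by decide))
    have h2 : (x 0 - x 1) * a = x 0 - x 1 := by
      rw [hsub]
      conv_rhs => rw [← h0, ← h1]
      rw [add_sub_add_right_eq_sub]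
    obtain ⟨c, hc, hc'⟩ := Cfsg.NearField.exists_inv _ hne
    have ha1 : a = 1 := by
      calc a = (c * (x 0 - x 1)) * a := by rw [hc', one_mul]
        _ = c * ((x 0 - x 1) * a) := mul_assoc _ _ _
        _ = 1 := by rw [h2, hc']
    have hb0 : b = 0 := by
      rw [ha1, mul_one] at h0
      exact add_eq_left.mp h0
    ext z
    simp [hσ, ha1, hb0]

end Cfsg.Agent.S0681
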