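import Cfsg.Statements.S0682

import Mathlib

set_option autoImplicit false
set_option linter.style.haveILetI false
open Cfsg

namespace Cfsg.Agent.S0682

/-- A finite near-field has prime-power order; its additive group is commutative of prime exponent. -/
theorem result {F : Type*} [Cfsg.NearField F] [Finite F] : ∃ p j : ℕ, p.Prime ∧ 1 ≤ j ∧ Nat.card F = p ^ j ∧ (∀ x y : F, x + y = y + x) ∧ ∀ x : F, p • x = 0 := by
  classical
  have hzm : ∀ c : F, (0 : F) * c = 0 := by
    intro c
    have h := Cfsg.NearField.right_distrib (0 : F) 0 c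
    rw [add_zero] at h
    exact left_eq_add.mp h
  let R : F → F →+ F := fun a =>
    { toFun := fun x => x * a
      map_zero' := hzm a
      map_add' := fun x y => Cfsg.NearField.right_distrib x y a }
  have hinj : ∀ a : F, a ≠ 0 → Function.Injective (R a) := by
    intro a ha x y h
    obtain ⟨b, hb, -⟩ := Cfsg.NearField.exists_inv a ha
    have := congrArg (· * b) (show x * a = y * a from h)
    simpa [mul_assoc, hb] using this
  have h10 : (1 : F) ≠ 0 := fun h => Cfsg.NearField.zero_ne_one h.symm
  have hord : ∀ x : F, x ≠ 0 → addOrderOf x = addOrderOf (1 : F) := by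
    intro x hx
    have : R x 1 = x := one_mul x
    conv_lhs => rw [← this]
    exact addOrderOf_injective (R x) (hinj x hx) 1
  have hpos : 0 < addOrderOf (1 : F) := addOrderOf_pos 1
  set p := addOrderOf (1 : F) with hp_def
  have hp : p.Prime := by
    rw [Nat.prime_def_lt]
    refine ⟨?_, fun m hm hdvd => ?_⟩
    · rcases Nat.lt_or_ge p 2 with h | h
      · exfalso
        have : p = 1 := by omega
        exact h10 (AddMonoid.addOrderOf_eq_one_iff.mp this)
      · exact h
    · obtain ⟨t, ht⟩ := hdvd
      by_contra hm1
      have hm0 : m ≠ 0 := by rintro rfl; simp at ht; omega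
      have htp : t < p := by
        rcases Nat.eq_zero_or_pos t with rfl | htp
        · simp at ht; omega
        · calc t = 1 * t := (one_mul t).symm
            _ < m * t := Nat.mul_lt_mul_of_pos_right (by omega) htp
            _ = p := ht.symm
      have ht0 : 0 < t := by
        rcases Nat.eq_zero_or_pos t with rfl | h
        · simp at ht; omega
        · exact h
      have hne : t • (1 : F) ≠ 0 := nsmul_ne_zero_of_lt_addOrderOf ht0.ne' htp
      have h0 : m • (t • (1 : F)) = 0 := by
        rw [← mul_nsmul', ← ht, hp_def]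
        exact addOrderOf_nsmul_eq_zero 1
      have := addOrderOf_dvd_of_nsmul_eq_zero h0
      rw [hord _ hne] at this
      exact absurd (Nat.le_of_dvd (Nat.pos_of_ne_zero hm0) this) (by omega)
  haveI : Fact p.Prime := ⟨hp⟩
  have hexp : ∀ x : F, p • x = 0 := by
    intro x
    by_cases hx : x = 0
    · simp [hx]
    · rw [← hord x hx]; exact addOrderOf_nsmul_eq_zero x
  have hP : IsPGroup p (Multiplicative F) := fun g => ⟨1, by
    rw [pow_one]; exact hexp g.toAdd⟩
  haveI : Nontrivial F := ⟨⟨0, 1, Cfsg.NearField.zero_ne_one⟩⟩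
  haveI := hP.center_nontrivial
  obtain ⟨z, hz⟩ := exists_ne (1 : Subgroup.center (Multiplicative F))
  set c : F := (z : Multiplicative F).toAdd with hc_def
  have hc0 : c ≠ 0 := by
    intro h
    apply hz
    ext
    exact h
  have hcc : ∀ y : F, y + c = c + y := fun y =>
    Subgroup.mem_center_iff.mp z.2 (Multiplicative.ofAdd y)
  have hcomm : ∀ x y : F, x + y = y + x := by
    intro x y
    by_cases hx : x = 0
    · simp [hx]
    obtain ⟨d, hd, -⟩ := Cfsg.NearField.exists_inv c hc0
    set a := d * x
    have hxa : c * a = x := by rw [← mul_assoc, hd, one_mul]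
    have ha : a ≠ 0 := by
      intro ha
      rw [ha, Cfsg.NearField.mul_zero] at hxa
      exact hx hxa.symm
    obtain ⟨b, hb, hb'⟩ := Cfsg.NearField.exists_inv a ha
    have hy : (y * b) * a = y := by rw [mul_assoc, hb', mul_one]
    rw [← hxa, ← hy, ← Cfsg.NearField.right_distrib, ← Cfsg.NearField.right_distrib, hcc]
  obtain ⟨n, hn⟩ := IsPGroup.iff_card.mp hP
  have hn' : Nat.card F = p ^ n := hn
  refine ⟨p, n, hp, ?_, hn', hcomm, hexp⟩
  by_contra h
  have h0 : n = 0 := by omega
  rw [h0, pow_zero] at hn'
  have := Finite.one_lt_card (α := F)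
  omega

end Cfsg.Agent.S0682
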