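import Cfsg.Statements.S0683

import Mathlib
import Cfsg.Agent.Perm.SharpTwo

set_option autoImplicit false
set_option linter.style.haveILetI false
open Cfsg

namespace Cfsg.Agent.S0683
open scoped Pointwise

/-- A finite sharply doubly transitive permutation group is the affine group of a near-field: the permuted set carries a near-field structure for which the group consists exactly of the maps `x ↦ x * a + b` with `a ≠ 0`. -/
theorem result {α : Type*} [Fintype α] [DecidableEq α] (H : Subgroup (Equiv.Perm α)) [MulAction.IsMultiplyPretransitive H α 2] (hsharp : ∀ x : Fin 2 ↪ α, MulAction.stabilizer H x = ⊥) (h2 : 2 ≤ Fintype.card α) : ∃ _ : Cfsg.NearField α, ∀ σ : Equiv.Perm α, σ ∈ H ↔ ∃ a b : α, a ≠ 0 ∧ ∀ x : α, σ x = x * a + b := by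
  classical
  have hS := CfsgLib.Perm.SharpTwo.sharp_of (G := H) (α := α) inferInstance hsharp
    (by rw [Nat.card_eq_fintype_card]; exact h2)
  obtain ⟨K, p, j, hp, hj, hcard, hKn, hKc, hcomm, hexp, hmem, htr, hfree⟩ :=
    CfsgLib.Perm.SharpTwo.exists_kernel hS
  haveI : Nontrivial α := Fintype.one_lt_card_iff_nontrivial.mp h2
  obtain ⟨z, o, hzo⟩ := exists_pair_ne α
  choose k hkK hk using fun x : α => htr z x
  have hkuniq : ∀ (u : H) (x : α), u ∈ K → u • z = x → u = k x := by
    intro u x hu hux
    have h1 := hfree z ((k x)⁻¹ * u) (K.mul_mem (K.inv_mem (hkK x)) hu)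
      (by rw [mul_smul, inv_smul_eq_iff, hk]; exact hux)
    exact (inv_mul_eq_one.mp h1).symm
  have hst : ∀ a : α, ∃ s : H, s • z = z ∧ (a ≠ z → s • o = a) := by
    intro a
    by_cases ha : a = z
    · exact ⟨1, one_smul _ _, fun h => absurd ha h⟩
    · obtain ⟨s, h1, h3⟩ := hS.trans z o z a hzo (Ne.symm ha)
      exact ⟨s, h1, fun _ => h3⟩
  choose s hsz hso using hst
  have hsuniq : ∀ (u : H) (a : α), a ≠ z → u • z = z → u • o = a → u = s a := by
    intro u a ha hu hua
    have h1 := hS.free ((s a)⁻¹ * u) z o hzo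
      (by rw [mul_smul, inv_smul_eq_iff, hsz]; exact hu)
      (by rw [mul_smul, inv_smul_eq_iff, hso a ha]; exact hua)
    exact (inv_mul_eq_one.mp h1).symm
  have hkz : k z = 1 := (hkuniq 1 z K.one_mem (one_smul _ _)).symm
  have hkadd : ∀ x y : α, k (k x • y) = k x * k y := fun x y =>
    (hkuniq _ _ (K.mul_mem (hkK x) (hkK y)) (by rw [mul_smul, hk])).symm
  have hkinv : ∀ x : α, k ((k x)⁻¹ • z) = (k x)⁻¹ := fun x =>
    (hkuniq _ _ (K.inv_mem (hkK x)) rfl).symm
  have hlin : ∀ (a x y : α), s a • (k x • y) = k (s a • x) • (s a • y) := by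
    intro a x y
    have h1 : s a * k x * (s a)⁻¹ = k (s a • x) := by
      refine hkuniq _ _ (hKn.conj_mem _ (hkK x) _) ?_
      have h3 : (s a)⁻¹ • z = z := by rw [inv_smul_eq_iff, hsz]
      rw [mul_smul, mul_smul, h3, hk]
    rw [← h1, mul_smul, mul_smul, inv_smul_smul]
  have hsne : ∀ a x : α, x ≠ z → s a • x ≠ z := fun a x hx h =>
    hx (MulAction.injective (s a) (h.trans (hsz a).symm))
  have hso1 : s o = 1 := (hsuniq 1 o hzo.symm (one_smul _ _) (one_smul _ _)).symm
  let mul : α → α → α := fun x a => if a = z then z else s a • x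
  have hz_mul : ∀ a, mul z a = z := fun a => by
    show (if a = z then z else s a • z) = z
    split_ifs <;> simp [hsz]
  have hmz : ∀ x, mul x z = z := fun x => if_pos rfl
  have hmne : ∀ x a, a ≠ z → mul x a = s a • x := fun x a ha => if_neg ha
  letI : Zero α := ⟨z⟩
  letI : Add α := ⟨fun x y => k x • y⟩
  letI : Neg α := ⟨fun x => (k x)⁻¹ • z⟩
  letI NF : Cfsg.NearField α :=
    { add := fun x y => k x • y
      zero := z
      neg := fun x => (k x)⁻¹ • z
      add_assoc := fun x y w => by
        show k (k x • y) • w = k x • (k y • w)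
        rw [hkadd, mul_smul]
      zero_add := fun x => by
        show k z • x = x
        rw [hkz, one_smul]
      add_zero := fun x => hk x
      nsmul := nsmulRec
      zsmul := zsmulRec
      neg_add_cancel := fun x => by
        show k ((k x)⁻¹ • z) • x = z
        rw [hkinv, inv_smul_eq_iff, hk]
      mul := mul
      one := o
      one_mul := fun a => by
        show mul o a = a
        by_cases ha : a = z
        · rw [ha, hmz]
        · rw [hmne o a ha, hso a ha]
      mul_one := fun x => by
        show mul x o = x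
        rw [hmne x o hzo.symm, hso1, one_smul]
      mul_assoc := fun x a b => by
        show mul (mul x a) b = mul x (mul a b)
        by_cases hb : b = z
        · rw [hb, hmz, hmz, hmz]
        by_cases ha : a = z
        · rw [ha, hmz, hz_mul, hmz]
        rw [hmne x a ha, hmne _ b hb, hmne a b hb, hmne x _ (hsne b a ha), ← mul_smul]
        congr 1
        exact hsuniq _ _ (hsne b a ha) (by rw [mul_smul, hsz, hsz])
          (by rw [mul_smul, hso a ha])
      right_distrib := fun x y c => by
        show mul (k x • y) c = k (mul x c) • mul y c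
        by_cases hc : c = z
        · rw [hc, hmz, hmz, hmz, hkz, one_smul]
        · rw [hmne _ c hc, hmne x c hc, hmne y c hc, hlin]
      mul_zero := hmz
      zero_ne_one := hzo
      exists_inv := fun a ha => by
        replace ha : a ≠ z := ha
        set c := (s a)⁻¹ • o with hc
        have hcz : c ≠ z := fun h => hzo.symm (by
          rw [hc, inv_smul_eq_iff, hsz] at h; exact h)
        have hsc : s c = (s a)⁻¹ := (hsuniq _ c hcz (by rw [inv_smul_eq_iff, hsz]) hc.symm).symm
        refine ⟨c, ?_, ?_⟩
        · show mul a c = o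
          rw [hmne a c hcz, hsc, inv_smul_eq_iff, hso a ha]
        · show mul c a = o
          rw [hmne c a ha, hc, smul_inv_smul] }
  refine ⟨NF, fun σ => ⟨fun hσ => ?_, ?_⟩⟩
  · set g : H := ⟨σ, hσ⟩ with hg
    set b : α := g • z with hb
    set u : H := (k ((k b)⁻¹ • z)) * g with hu
    have huz : u • z = z := by rw [hu, hkinv, mul_smul, inv_smul_eq_iff, hk]
    have hne : u • o ≠ z := fun h => hzo.symm (MulAction.injective u (h.trans huz.symm))
    refine ⟨u • o, b, hne, fun x => ?_⟩
    show g • x = k (mul x (u • o)) • b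
    rw [hmne x _ hne, ← hsuniq u (u • o) hne huz rfl]
    have hcm : k (u • x) • b = k b • (u • x) := by
      conv_lhs => rw [show b = k b • z from (hk b).symm]
      rw [← mul_smul, hcomm _ (hkK _) _ (hkK b), mul_smul, hk]
    rw [hcm, hu, hkinv, mul_smul, smul_inv_smul]
  · rintro ⟨a, b, ha, hσ⟩
    have h3 : σ = ((k b * s a : H) : Equiv.Perm α) := by
      apply Equiv.ext
      intro x
      rw [hσ x]
      show k (mul x a) • b = (k b * s a) • x
      rw [hmne x a ha]
      conv_lhs => rw [show b = k b • z from (hk b).symm]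
      rw [← mul_smul, hcomm _ (hkK _) _ (hkK b), mul_smul, hk, mul_smul]
    rw [h3]
    exact (k b * s a).2

end Cfsg.Agent.S0683
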