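import Cfsg.Statements.S0684

import Mathlib
import Cfsg.Agent.Perm.RegularLinear

set_option autoImplicit false
set_option linter.style.haveILetI false
open Cfsg

namespace Cfsg.Agent.S0684

theorem nontrivial_space {p : ℕ} {V : Type*} [AddCommGroup V] [Module (ZMod p) V]
    (H : Subgroup (V ≃ₗ[ZMod p] V)) (hI : ∀ A : Subgroup H, A.Normal → IsCyclic A →
      ∃ W : Submodule (ZMod p) V, W ≠ ⊥ ∧ W ≠ ⊤ ∧ ∀ a ∈ A, ∀ v ∈ W, ((a : H) : V ≃ₗ[ZMod p] V) v ∈ W) :
    Nontrivial V := by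
  obtain ⟨W, hW, -⟩ := hI ⊥ inferInstance inferInstance
  obtain ⟨v, -, hv⟩ := (Submodule.ne_bot_iff _).1 hW
  exact ⟨v, 0, hv⟩

/-- Point stabiliser of a sharply doubly transitive group not of semilinear type: a maximal normal abelian subgroup `A` of a linear group `H` that is regular on non-zero vectors and has no irreducible cyclic normal subgroup is cyclic and reducible, and the order of `A` divides `p ^ k - 1` for `k` the dimension of a minimal `A`-invariant subspace. -/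
theorem result {p : ℕ} [Fact p.Prime] {V : Type*} [AddCommGroup V] [Module (ZMod p) V] [Finite V] (H : Subgroup (V ≃ₗ[ZMod p] V)) (hreg : ∀ v w : V, v ≠ 0 → w ≠ 0 → ∃! h : H, (h : V ≃ₗ[ZMod p] V) v = w) (hI : ∀ A : Subgroup H, A.Normal → IsCyclic A → ∃ W : Submodule (ZMod p) V, W ≠ ⊥ ∧ W ≠ ⊤ ∧ ∀ a ∈ A, ∀ v ∈ W, ((a : H) : V ≃ₗ[ZMod p] V) v ∈ W) (A : Subgroup H) (hAn : A.Normal) (hAc : IsMulCommutative A) (hAmax : ∀ B : Subgroup H, B.Normal → IsMulCommutative B → A ≤ B → B = A) : IsCyclic A ∧ ∃ W : Submodule (ZMod p) V, W ≠ ⊥ ∧ W ≠ ⊤ ∧ (∀ a ∈ A, ∀ v ∈ W, ((a : H) : V ≃ₗ[ZMod p] V) v ∈ W) ∧ (∀ W' : Submodule (ZMod p) V, W' ≤ W → (∀ a ∈ A, ∀ v ∈ W', ((a : H) : V ≃ₗ[ZMod p] V) v ∈ W') → W' = ⊥ ∨ W' = W) ∧ Nat.card A ∣ p ^ Module.finrank (ZMod p) W - 1 := by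
  classical
  haveI := hAn
  haveI := nontrivial_space H hI
  have hcyc := CfsgLib.Perm.RegularLinear.isCyclic_of_abelian hreg A hAc
  refine ⟨hcyc, ?_⟩
  obtain ⟨U, hU, hUt, hUi⟩ := hI A hAn hcyc
  obtain ⟨W, hWU, hW⟩ := CfsgLib.Perm.RegularLinear.exists_irr (H := H) (N := A) hU hUi
  refine ⟨W, hW.1, fun h => hUt (top_le_iff.1 (h ▸ hWU)), hW.2.1, fun W' hle hi => hW.2.2 W' hle hi, ?_⟩
  haveI : Finite (V ≃ₗ[ZMod p] V) := Finite.of_injective (fun f => (f : V → V)) DFunLike.coe_injective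
  letI : MulAction A {w : W // w ≠ 0} :=
    { smul := fun a w => ⟨⟨((a : H) : V ≃ₗ[ZMod p] V) (w.1 : V), hW.2.1 _ a.2 _ w.1.2⟩, fun h => w.2 (by
        have h' := congrArg Subtype.val h
        apply Subtype.ext
        simpa using h')⟩
      one_smul := fun w => rfl
      mul_smul := fun a b w => rfl }
  have hfree : ∀ w : {w : W // w ≠ 0}, MulAction.stabilizer A w = ⊥ := by
    intro w
    rw [Subgroup.eq_bot_iff_forall]
    intro a ha
    have hv : ((a : H) : V ≃ₗ[ZMod p] V) (w.1 : V) = (w.1 : V) :=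
      congrArg (fun x : {w : W // w ≠ 0} => ((x.1 : W) : V)) ha
    have hne : (w.1 : V) ≠ 0 := fun h => w.2 (Subtype.ext h)
    obtain ⟨h₀, -, huniq⟩ := hreg _ _ hne hne
    exact Subtype.ext ((huniq (a : H) hv).trans (huniq 1 rfl).symm)
  have hdvd : Nat.card A ∣ Nat.card {w : W // w ≠ 0} := by
    rw [Nat.card_congr (MulAction.selfEquivSigmaOrbitsQuotientStabilizer A {w : W // w ≠ 0})]
    haveI := Fintype.ofFinite (MulAction.orbitRel.Quotient A {w : W // w ≠ 0})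
    rw [Nat.card_sigma]
    refine Finset.dvd_sum fun ω _ => ?_
    rw [hfree]
    exact dvd_of_eq (Nat.card_congr (QuotientGroup.quotientBot (G := A)).toEquiv).symm
  have hcard : Nat.card {w : W // w ≠ 0} = p ^ Module.finrank (ZMod p) W - 1 := by
    haveI := Fintype.ofFinite W
    rw [Nat.card_eq_fintype_card, Fintype.card_subtype_compl, Fintype.card_subtype_eq,
      ← Nat.card_eq_fintype_card, Module.natCard_eq_pow_finrank (K := ZMod p), Nat.card_zmod]
  rwa [hcard] at hdvd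

end Cfsg.Agent.S0684
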