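import Cfsg.Statements.S0685

import Mathlib
import Cfsg.Agent.Perm.RegularLinear

set_option autoImplicit false
set_option linter.style.haveILetI false
open Cfsg

namespace Cfsg.Agent.S0685

theorem nontrivial_space {p : ℕ} {V : Type*} [AddCommGroup V] [Module (ZMod p) V]
    (H : Subgroup (V ≃ₗ[ZMod p] V)) (hI : ∀ A : Subgroup H, A.Normal → IsCyclic A →
      ∃ W : Submodule (ZMod p) V, W ≠ ⊥ ∧ W ≠ ⊤ ∧ ∀ a ∈ A, ∀ v ∈ W, ((a : H) : V ≃ₗ[ZMod p] V) v ∈ W) :
    Nontrivial V := by
  obtain ⟨W, hW, -⟩ := hI ⊥ inferInstance inferInstance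
  obtain ⟨v, -, hv⟩ := (Submodule.ne_bot_iff _).1 hW
  exact ⟨v, 0, hv⟩

/-- In a linear group over the prime field that is regular on non-zero vectors and has no irreducible cyclic normal subgroup, a maximal normal abelian subgroup is properly contained in its centraliser, which is non-abelian. -/
theorem result {p : ℕ} [Fact p.Prime] {V : Type*} [AddCommGroup V] [Module (ZMod p) V] [Finite V] (H : Subgroup (V ≃ₗ[ZMod p] V)) (hreg : ∀ v w : V, v ≠ 0 → w ≠ 0 → ∃! h : H, (h : V ≃ₗ[ZMod p] V) v = w) (hI : ∀ A : Subgroup H, A.Normal → IsCyclic A → ∃ W : Submodule (ZMod p) V, W ≠ ⊥ ∧ W ≠ ⊤ ∧ ∀ a ∈ A, ∀ v ∈ W, ((a : H) : V ≃ₗ[ZMod p] V) v ∈ W) (A : Subgroup H) (hAn : A.Normal) (hAc : IsMulCommutative A) (hAmax : ∀ B : Subgroup H, B.Normal → IsMulCommutative B → A ≤ B → B = A) : A < Subgroup.centralizer (A : Set H) ∧ ¬ IsMulCommutative (Subgroup.centralizer (A : Set H)) := by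
  classical
  haveI := hAn
  haveI := nontrivial_space H hI
  have hle : A ≤ Subgroup.centralizer (A : Set H) := by
    haveI := hAc
    exact Subgroup.le_centralizer A
  suffices hna : ¬ IsMulCommutative (Subgroup.centralizer (A : Set H)) from
    ⟨lt_of_le_of_ne hle fun h => hna (h ▸ hAc), hna⟩
  intro hc
  have hCA : Subgroup.centralizer (A : Set H) = A := hAmax _ inferInstance hc hle
  have hcyc := CfsgLib.Perm.RegularLinear.isCyclic_of_abelian hreg A hAc
  obtain ⟨U, hU, hUt, hUi⟩ := hI A hAn hcyc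
  obtain ⟨W, hWU, hW⟩ := CfsgLib.Perm.RegularLinear.exists_irr (H := H) (N := A) hU hUi
  haveI : Finite (V ≃ₗ[ZMod p] V) := Finite.of_injective (fun f => (f : V → V)) DFunLike.coe_injective
  obtain ⟨w, hw, hw0⟩ := (Submodule.ne_bot_iff _).1 hW.1
  -- `A` embeds into the non-zero vectors of `W`
  have hAW : Nat.card A ≤ Nat.card W - 1 := by
    haveI := Fintype.ofFinite W
    have h1 : Nat.card A ≤ Nat.card {x : W // x ≠ 0} := by
      refine Nat.card_le_card_of_injective (fun a => ⟨⟨((a : H) : V ≃ₗ[ZMod p] V) w, hW.2.1 _ a.2 w hw⟩,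
        fun h => hw0 (by simpa using congrArg Subtype.val h)⟩) fun a b h => ?_
      have h' : ((a : H) : V ≃ₗ[ZMod p] V) w = ((b : H) : V ≃ₗ[ZMod p] V) w :=
        congrArg (fun x : {x : W // x ≠ 0} => ((x.1 : W) : V)) h
      obtain ⟨h₀, -, huniq⟩ := hreg w (((a : H) : V ≃ₗ[ZMod p] V) w) hw0
        (fun h => hw0 (by simpa using h))
      exact Subtype.ext ((huniq _ rfl).trans (huniq _ h'.symm).symm)
    rw [Nat.card_eq_fintype_card (α := {x : W // x ≠ 0}), Fintype.card_subtype_compl,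
      Fintype.card_subtype_eq, ← Nat.card_eq_fintype_card] at h1
    exact h1
  -- two independent irreducible subspaces
  obtain ⟨v, -, hv⟩ := SetLike.exists_of_lt (lt_top_iff_ne_top.2
    (fun h => hUt (top_le_iff.1 (h ▸ hWU)) : W ≠ ⊤))
  have hv0 : v ≠ 0 := fun h => hv (h ▸ W.zero_mem)
  obtain ⟨Z, hZ, hvZ, hZc⟩ := CfsgLib.Perm.RegularLinear.exists_irr_mem hreg hW hv0
  have hVW : Nat.card W * Nat.card W ≤ Nat.card V := by
    conv_lhs => arg 2; rw [← hZc]
    rw [← Nat.card_prod]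
    refine Nat.card_le_card_of_injective (fun x : W × Z => (x.1 : V) + x.2) fun x y h => ?_
    simp only at h
    have h1 : (x.1 : V) - y.1 = (y.2 : V) - x.2 := by linear_combination (norm := module) h
    have h0 : (x.1 : V) - y.1 = 0 := by
      by_contra hne
      exact hv (CfsgLib.Perm.RegularLinear.irr_eq hW hZ hne (W.sub_mem x.1.2 y.1.2)
        (h1 ▸ Z.sub_mem y.2.2 x.2.2) ▸ hvZ)
    rw [h0, eq_comm, sub_eq_zero] at h1
    exact Prod.ext (Subtype.ext (sub_eq_zero.1 h0)) (Subtype.ext h1.symm)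
  -- the order of `H`
  have hH : Nat.card H = Nat.card V - 1 := by
    haveI := Fintype.ofFinite V
    have h1 : Nat.card H = Nat.card {x : V // x ≠ 0} := by
      refine Nat.card_eq_of_bijective (fun h => ⟨(h : V ≃ₗ[ZMod p] V) w,
        fun e => hw0 (by simpa using e)⟩) ⟨fun a b h => ?_, fun x => ?_⟩
      · obtain ⟨h₀, -, huniq⟩ := hreg w ((a : V ≃ₗ[ZMod p] V) w) hw0 (fun h => hw0 (by simpa using h))
        exact (huniq _ rfl).trans (huniq _ (congrArg Subtype.val h).symm).symm
      · obtain ⟨h₀, hh, -⟩ := hreg w x hw0 x.2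
        exact ⟨h₀, Subtype.ext hh⟩
    rw [h1, Nat.card_eq_fintype_card, Fintype.card_subtype_compl, Fintype.card_subtype_eq,
      Nat.card_eq_fintype_card]
  -- the action on a generator
  obtain ⟨a, ha⟩ := hcyc.exists_generator
  have hidx : A.index ≤ Nat.card A := by
    rw [Subgroup.index_eq_card]
    let f : H → A := fun h => ⟨h * a * h⁻¹, hAn.conj_mem a a.2 h⟩
    have hfib : ∀ g h : H, f g = f h → (g : H ⧸ A) = (h : H ⧸ A) := by
      intro g h hfe
      have he : g * a * g⁻¹ = h * a * h⁻¹ := congrArg Subtype.val hfe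
      have hcom : g⁻¹ * h * (a : H) = (a : H) * (g⁻¹ * h) := by
        have := congrArg (fun z => g⁻¹ * z * h) he
        simp only [mul_assoc, inv_mul_cancel, mul_one, inv_mul_cancel_left] at this
        simp only [mul_assoc]
        exact this.symm
      rw [QuotientGroup.eq, ← hCA, Subgroup.mem_centralizer_iff]
      intro b hb
      obtain ⟨k, hk⟩ := ha ⟨b, hb⟩
      have hb' : b = (a : H) ^ k := by rw [← Subgroup.coe_zpow]; exact congrArg Subtype.val hk.symm
      rw [hb']
      exact (((Commute.symm hcom : Commute (a : H) (g⁻¹ * h))).zpow_left k).eq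
    refine Nat.card_le_card_of_injective (fun q : H ⧸ A => f q.out) fun q r hqr => ?_
    rw [← QuotientGroup.out_eq' q, ← QuotientGroup.out_eq' r]
    exact hfib _ _ hqr
  have hlag := A.card_mul_index
  have hW2 : 2 ≤ Nat.card W := by
    haveI : Nontrivial W := ⟨⟨w, hw⟩, 0, fun h => hw0 (congrArg Subtype.val h)⟩
    exact Finite.one_lt_card
  obtain ⟨m, hm⟩ : ∃ m, Nat.card W = m + 2 := ⟨Nat.card W - 2, by omega⟩
  rw [hm] at hAW hVW
  have h1 : Nat.card A * A.index ≤ (m + 1) * (m + 1) :=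
    Nat.mul_le_mul (by omega) (hidx.trans (by omega))
  have h2 : (m + 2) * (m + 2) = (m + 1) * (m + 1) + (2 * m + 3) := by ring
  omega

end Cfsg.Agent.S0685
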