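import Cfsg.Statements.S0686

import Cfsg.Agent.Perm.RegularInsoluble

set_option autoImplicit false
set_option linter.style.haveILetI false
open Cfsg

namespace Cfsg.Agent.S0686
open CfsgLib.Perm.RegularLinear CfsgLib.Perm.Fpf

theorem q8_of_class_two {n : ℕ} (h : ∀ x y z : QuaternionGroup (2 ^ (n + 1)),
    Commute (x * y * x⁻¹ * y⁻¹) z) : n = 0 := by
  by_contra hn
  have h1 := (h (QuaternionGroup.xa 0) (QuaternionGroup.a 1) (QuaternionGroup.xa 0)).eq
  have hc : (QuaternionGroup.xa 0 * QuaternionGroup.a 1 * (QuaternionGroup.xa 0)⁻¹ * (QuaternionGroup.a 1)⁻¹ :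
      QuaternionGroup (2 ^ (n + 1))) = QuaternionGroup.a (-2) := by
    rw [mul_inv_eq_iff_eq_mul, mul_inv_eq_iff_eq_mul, QuaternionGroup.xa_mul_a, QuaternionGroup.a_mul_a,
      QuaternionGroup.a_mul_xa]
    congr 1; ring
  rw [hc, QuaternionGroup.a_mul_xa, QuaternionGroup.xa_mul_a, QuaternionGroup.xa.injEq] at h1
  have h4 : ((4 : ℕ) : ZMod (2 * 2 ^ (n + 1))) = 0 := by push_cast; linear_combination h1
  have h5 := Nat.le_of_dvd (by norm_num) ((ZMod.natCast_eq_zero_iff _ _).1 h4)
  have : 2 ^ 2 ≤ 2 ^ (n + 1) := Nat.pow_le_pow_right two_pos (by omega)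
  omega

/-- In a linear group over the prime field that is regular on non-zero vectors and has no irreducible cyclic normal subgroup, let `A` be a maximal normal abelian subgroup and `N` a normal subgroup centralising `A` that is minimal among non-abelian normal subgroups centralising `A`. Then `N` is quaternion of order 8 or isomorphic to `SL(2,5)`. -/
theorem result {p : ℕ} [Fact p.Prime] {V : Type*} [AddCommGroup V] [Module (ZMod p) V] [Finite V] (H : Subgroup (V ≃ₗ[ZMod p] V)) (hreg : ∀ v w : V, v ≠ 0 → w ≠ 0 → ∃! h : H, (h : V ≃ₗ[ZMod p] V) v = w) (hI : ∀ A : Subgroup H, A.Normal → IsCyclic A → ∃ W : Submodule (ZMod p) V, W ≠ ⊥ ∧ W ≠ ⊤ ∧ ∀ a ∈ A, ∀ v ∈ W, ((a : H) : V ≃ₗ[ZMod p] V) v ∈ W) (A : Subgroup H) (hAn : A.Normal) (hAc : IsMulCommutative A) (hAmax : ∀ B : Subgroup H, B.Normal → IsMulCommutative B → A ≤ B → B = A) (N : Subgroup H) (hNn : N.Normal) (hNle : N ≤ Subgroup.centralizer (A : Set H)) (hNna : ¬ IsMulCommutative N) (hNmin : ∀ M : Subgroup H, M.Normal → M ≤ N → ¬ IsMulCommutative M → M = N)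 : Nonempty (N ≃* QuaternionGroup 2) ∨ Nonempty (N ≃* Matrix.SpecialLinearGroup (Fin 2) (ZMod 5)) := by
  classical
  haveI : Finite (V ≃ₗ[ZMod p] V) := Finite.of_injective (fun f => (f : V → V)) DFunLike.coe_injective
  haveI := hNn
  haveI := hAn
  haveI : Nontrivial V := by
    obtain ⟨W, hW, -⟩ := hI ⊥ inferInstance inferInstance
    obtain ⟨v, -, hv⟩ := (Submodule.ne_bot_iff _).1 hW
    exact ⟨v, 0, hv⟩
  haveI hNnt : Nontrivial N := by
    by_contra hnt
    rw [not_nontrivial_iff_subsingleton] at hnt
    exact hNna ⟨⟨fun a b => Subsingleton.elim _ _⟩⟩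
  have hN : HasFpf N := (hasFpf_regular hreg).of_injective N.subtype N.subtype_injective
  by_cases hsol : Group.IsSolvable N
  swap
  · right
    obtain ⟨L, hLN, hLb, hLp, hLn⟩ := exists_perfect hsol
    haveI : L.Normal := ⟨fun n hn g => hLn g (by rw [Subgroup.normalizer_eq_top]; trivial) n hn⟩
    haveI := (Subgroup.nontrivial_iff_ne_bot L).2 hLb
    have hLna : ¬ IsMulCommutative L := fun hc => by
      haveI : Group.IsSolvable L := Group.isSolvable_of_comm fun a b => mul_comm' a b
      exact not_perfect_of_solvable (CfsgLib.Perm.Fpf.perfect_subtype hLp)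
    have hLN' := hNmin L inferInstance hLN hLna
    subst hLN'
    exact iso_SL25_of_fpf hN (CfsgLib.Perm.Fpf.perfect_subtype hLp)
  left
  haveI := hsol
  set D : Subgroup H := ⁅N, N⁆ with hD
  have hDN : D ≤ N := Subgroup.commutator_le_right N N
  have hDab : IsMulCommutative D := by
    by_contra hc
    have := hNmin D inferInstance hDN hc
    exact not_perfect_of_solvable (CfsgLib.Perm.Fpf.perfect_subtype this)
  have hDA : D ≤ A := by
    have hAD : A ⊔ D ≤ Subgroup.centralizer ((A ⊔ D : Subgroup H) : Set H) := by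
      have h1 : A ≤ Subgroup.centralizer (A : Set H) := by haveI := hAc; exact Subgroup.le_centralizer A
      have h2 : D ≤ Subgroup.centralizer (A : Set H) := hDN.trans hNle
      have h3 : D ≤ Subgroup.centralizer (D : Set H) := by haveI := hDab; exact Subgroup.le_centralizer D
      have h4 : A ≤ Subgroup.centralizer (D : Set H) := Subgroup.le_centralizer_iff.1 h2
      exact sup_le (Subgroup.le_centralizer_iff.1 (sup_le h1 h2)) (Subgroup.le_centralizer_iff.1 (sup_le h4 h3))
    have hc : IsMulCommutative (A ⊔ D : Subgroup H) :=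
      ⟨⟨fun a b => Subtype.ext ((Subgroup.mem_centralizer_iff.1 (hAD b.2) _ a.2))⟩⟩
    rw [← hAmax _ inferInstance hc le_sup_left]
    exact le_sup_right
  have hcen : commutator N ≤ Subgroup.center N := by
    intro x hx
    have hxD : (x : H) ∈ D := by
      rw [hD, ← Subgroup.map_subtype_commutator]
      exact ⟨x, hx, rfl⟩
    exact Subgroup.mem_center_iff.2 fun y =>
      Subtype.ext (Subgroup.mem_centralizer_iff.1 (hNle y.2) _ (hDA hxD)).symm
  haveI : Group.IsNilpotent N := Subgroup.isNilpotent_of_ker_le_center (Abelianization.of (G := N))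
    (by rw [Abelianization.ker_of]; exact hcen)
  haveI := Fact.mk Nat.prime_two
  obtain ⟨P⟩ : Nonempty (Sylow 2 N) := inferInstance
  by_cases hPa : IsMulCommutative (P : Subgroup N)
  · exfalso
    refine hNna ⟨⟨fun a b => ?_⟩⟩
    have hcc : Subgroup.center N = ⊤ := by
      refine eq_top_of_primary _ fun r hr R x hx => ?_
      haveI := Fact.mk hr
      rw [Subgroup.mem_center_iff]
      intro y
      have htop : Subgroup.centralizer ({x} : Set N) = ⊤ := by
        refine eq_top_of_primary _ fun q hq Q w hw => ?_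
        haveI := Fact.mk hq
        rw [Subgroup.mem_centralizer_singleton_iff]
        haveI := sylow_normal_of_nilpotent R
        haveI := sylow_normal_of_nilpotent Q
        by_cases hqr : q = r
        · subst hqr
          haveI := Sylow.unique_of_normal R inferInstance
          rw [Subsingleton.elim Q R] at hw
          by_cases hq2 : q = 2
          · subst hq2
            haveI := Sylow.unique_of_normal P (sylow_normal_of_nilpotent P)
            rw [Subsingleton.elim R P] at hw hx
            exact congrArg Subtype.val (hPa.is_comm.comm ⟨w, hw⟩ ⟨x, hx⟩)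
          · haveI := (isCyclic_odd hN hq2 R.2).isMulCommutative
            exact congrArg Subtype.val (mul_comm' (⟨w, hw⟩ : (R : Subgroup N)) ⟨x, hx⟩)
        · exact (Subgroup.commute_of_normal_of_disjoint _ _ inferInstance inferInstance
            (IsPGroup.disjoint_of_ne q r hqr _ _ Q.2 R.2) w x hw hx).eq
      exact Subgroup.mem_centralizer_singleton_iff.1 (htop ▸ Subgroup.mem_top y)
    exact (Subgroup.mem_center_iff.1 (hcc ▸ Subgroup.mem_top b) a)
  haveI hPn := sylow_normal_of_nilpotent P
  haveI := P.characteristic_of_normal hPn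
  set P' := (P : Subgroup N).map N.subtype with hP'
  haveI : P'.Normal := ConjAct.normal_of_characteristic_of_normal
  have hP'na : ¬ IsMulCommutative P' := fun hc => hPa ⟨⟨fun a b => by
    have := hc.is_comm.comm ⟨_, ⟨a, a.2, rfl⟩⟩ ⟨_, ⟨b, b.2, rfl⟩⟩
    exact Subtype.ext (N.subtype_injective (congrArg Subtype.val this))⟩⟩
  have hPtop : (P : Subgroup N) = ⊤ := by
    apply Subgroup.map_injective N.subtype_injective
    rw [← MonoidHom.range_eq_map, Subgroup.range_subtype]
    exact hNmin P' inferInstance (Subgroup.map_subtype_le _) hP'na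
  rcases cyclic_or_quaternion hN P.2 with hc | ⟨n, ⟨e⟩⟩
  · haveI := hc
    exact absurd IsCyclic.isMulCommutative hPa
  have e' : N ≃* QuaternionGroup (2 ^ (n + 1)) :=
    (Subgroup.topEquiv.symm.trans (MulEquiv.subgroupCongr hPtop.symm)).trans e
  have hn0 : n = 0 := q8_of_class_two fun a b c => by
    obtain ⟨a, rfl⟩ := e'.surjective a
    obtain ⟨b, rfl⟩ := e'.surjective b
    obtain ⟨c, rfl⟩ := e'.surjective c
    rw [← map_inv, ← map_inv, ← map_mul, ← map_mul, ← map_mul]
    refine Commute.map (Subgroup.mem_center_iff.1 (hcen ?_) c).symm e'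
    rw [← commutatorElement_def]
    exact Subgroup.commutator_mem_commutator (Subgroup.mem_top a) (Subgroup.mem_top b)
  subst hn0
  exact ⟨e'⟩

end Cfsg.Agent.S0686
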