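import Cfsg.Statements.S0687

import Mathlib
import Cfsg.Agent.Perm.RegularLinear

set_option autoImplicit false
set_option linter.style.haveILetI false
open Cfsg

namespace Cfsg.Agent.S0687

theorem nontrivial_space {p : ℕ} {V : Type*} [AddCommGroup V] [Module (ZMod p) V]
    (H : Subgroup (V ≃ₗ[ZMod p] V)) (hI : ∀ A : Subgroup H, A.Normal → IsCyclic A →
      ∃ W : Submodule (ZMod p) V, W ≠ ⊥ ∧ W ≠ ⊤ ∧ ∀ a ∈ A, ∀ v ∈ W, ((a : H) : V ≃ₗ[ZMod p] V) v ∈ W) :
    Nontrivial V := by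
  obtain ⟨W, hW, -⟩ := hI ⊥ inferInstance inferInstance
  obtain ⟨v, -, hv⟩ := (Submodule.ne_bot_iff _).1 hW
  exact ⟨v, 0, hv⟩

/-- In a linear group over the prime field that is regular on non-zero vectors and has no irreducible cyclic normal subgroup, a normal subgroup `N` minimal among the non-abelian normal subgroups centralising a maximal normal abelian subgroup `A` is irreducible on `V`, and its centraliser is `A`. -/
theorem result {p : ℕ} [Fact p.Prime] {V : Type*} [AddCommGroup V] [Module (ZMod p) V] [Finite V] (H : Subgroup (V ≃ₗ[ZMod p] V)) (hreg : ∀ v w : V, v ≠ 0 → w ≠ 0 → ∃! h : H, (h : V ≃ₗ[ZMod p] V) v = w) (hI : ∀ A : Subgroup H, A.Normal → IsCyclic A → ∃ W : Submodule (ZMod p) V, W ≠ ⊥ ∧ W ≠ ⊤ ∧ ∀ a ∈ A, ∀ v ∈ W, ((a : H) : V ≃ₗ[ZMod p] V) v ∈ W) (A : Subgroup H) (hAn : A.Normal) (hAc : IsMulCommutative A) (hAmax : ∀ B : Subgroup H, B.Normal → IsMulCommutative B → A ≤ B → B = A) (N : Subgroup H) (hNn : N.Normal)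 (hNle : N ≤ Subgroup.centralizer (A : Set H)) (hNna : ¬ IsMulCommutative N) (hNmin : ∀ M : Subgroup H, M.Normal → M ≤ N → ¬ IsMulCommutative M → M = N) : (∀ W : Submodule (ZMod p) V, (∀ n ∈ N, ∀ v ∈ W, ((n : H) : V ≃ₗ[ZMod p] V) v ∈ W) → W = ⊥ ∨ W = ⊤) ∧ Subgroup.centralizer (N : Set H) = A := by
  classical
  haveI := hNn
  haveI := nontrivial_space H hI
  have hirr : ∀ W, CfsgLib.Perm.RegularLinear.Inv H N W → W = ⊥ ∨ W = ⊤ := by
    intro U hU
    by_contra h
    push Not at h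
    obtain ⟨W, hWU, hW⟩ := CfsgLib.Perm.RegularLinear.exists_irr (H := H) (N := N) h.1 hU
    haveI := CfsgLib.Perm.RegularLinear.isCyclic_of_reducible hreg hW
      (fun e => h.2 (top_le_iff.1 (e ▸ hWU)))
    exact hNna IsCyclic.isMulCommutative
  refine ⟨fun W hW => hirr W hW, ?_⟩
  haveI := CfsgLib.Perm.RegularLinear.isCyclic_centralizer_of_irreducible hirr
  exact hAmax _ inferInstance IsCyclic.isMulCommutative (Subgroup.le_centralizer_iff.1 hNle)

end Cfsg.Agent.S0687
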