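import Cfsg.Statements.S0688

import Cfsg.Agent.S0685
import Cfsg.Agent.S0686
import Cfsg.Agent.S0687
import Cfsg.Agent.S0684
import Cfsg.Agent.Perm.AutComplement

set_option autoImplicit false
set_option linter.style.haveILetI false
open Cfsg

namespace Cfsg.Agent.S0688
open CfsgLib.Perm.Fpf CfsgLib.Perm.RegularLinear

theorem exists_sum_sq {p : ℕ} [Fact p.Prime] : ∃ a b : ZMod p, a * a + b * b = -1 := by
  obtain ⟨a, b, h⟩ := ZMod.sq_add_sq p (-1)
  exact ⟨a, b, by linear_combination h⟩

/-- A quaternion pair acts irreducibly only in dimension two, and its centralizer acts by scalars. -/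
theorem plane_of_pair {p : ℕ} [Fact p.Prime] {V : Type*} [AddCommGroup V] [Module (ZMod p) V]
    [Finite V] [Nontrivial V] (hp2 : p ≠ 2) (I J : Module.End (ZMod p) V)
    (hI : I * I = -1) (hJ : J * J = -1) (hJI : J * I = -(I * J))
    (hirr : ∀ W : Submodule (ZMod p) V, (∀ v ∈ W, I v ∈ W) → (∀ v ∈ W, J v ∈ W) → W = ⊥ ∨ W = ⊤) :
    Nat.card V = p ^ 2 ∧ ∀ T : Module.End (ZMod p) V, T * I = I * T → T * J = J * T → ∃ c : ZMod p, T = c • 1 := by
  obtain ⟨a, b, hab⟩ := exists_sum_sq (p := p)
  have h2 : (2 : ZMod p) ≠ 0 := fun e => by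
    have : ((2 : ℕ) : ZMod p) = 0 := by exact_mod_cast e
    exact hp2 ((Nat.prime_dvd_prime_iff_eq Fact.out Nat.prime_two).1 ((ZMod.natCast_eq_zero_iff _ _).1 this))
  have hi : ∀ v, I (I v) = -v := fun v => LinearMap.congr_fun hI v
  have hj : ∀ v, J (J v) = -v := fun v => LinearMap.congr_fun hJ v
  have hji : ∀ v, J (I v) = -(I (J v)) := fun v => LinearMap.congr_fun hJI v
  set u : Module.End (ZMod p) V := a • I + b • J with hu
  have huv : ∀ v, u v = a • I v + b • J v := fun v => rfl
  set k : Module.End (ZMod p) V := I * J with hk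
  have hkv : ∀ v, k v = I (J v) := fun v => rfl
  have huu : ∀ v, u (u v) = v := fun v => by
    rw [huv, huv]
    simp only [map_add, map_smul, hi, hj, hji]
    match_scalars
    · linear_combination (-1 : ZMod p) * hab
    all_goals ring
  have huk : ∀ v, u (k v) = -(k (u v)) := fun v => by
    simp only [huv, hkv, map_add, map_smul, hji, hi, hj, map_neg]
    module
  have hkk : ∀ v, k (k v) = -v := fun v => by
    simp only [hkv, hji, hi, hj, map_neg, neg_neg]
  have hIj : ∀ v, I v = (-a) • u v + (-b) • u (k v) := fun v => by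
    simp only [huv, hkv, hji, hi, hj, map_neg, map_add, map_smul, smul_neg, neg_neg]
    match_scalars
    · linear_combination (1 : ZMod p) * hab
    all_goals ring
  have hJj : ∀ v, J v = (-b) • u v + a • u (k v) := fun v => by
    simp only [huv, hkv, hji, hi, hj, map_neg, map_add, map_smul, smul_neg, neg_neg]
    match_scalars
    · linear_combination (1 : ZMod p) * hab
    all_goals ring
  have hk0 : ∀ v, k v = 0 → v = 0 := fun v h => by
    have := hkk v
    rw [h, map_zero] at this
    exact neg_eq_zero.1 this.symm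
  obtain ⟨e, he0, he⟩ : ∃ e : V, e ≠ 0 ∧ u e = e := by
    obtain ⟨v, hv⟩ := exists_ne (0 : V)
    by_cases h : v + u v = 0
    · refine ⟨k v, fun e => hv (hk0 v e), ?_⟩
      rw [huk, show u v = -v from eq_neg_of_add_eq_zero_right h, map_neg, neg_neg]
    · exact ⟨v + u v, h, by rw [map_add, huu, add_comm]⟩
  have huke : u (k e) = -(k e) := by rw [huk, he]
  set W : Submodule (ZMod p) V := Submodule.span (ZMod p) {e, k e} with hW
  have heW : e ∈ W := Submodule.subset_span (by simp)
  have hkeW : k e ∈ W := Submodule.subset_span (by simp)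
  have hWI : ∀ T : Module.End (ZMod p) V, T e ∈ W → T (k e) ∈ W → ∀ v ∈ W, T v ∈ W := by
    intro T h1 h2 v hv
    obtain ⟨c, d, rfl⟩ := Submodule.mem_span_pair.1 hv
    rw [map_add, map_smul, map_smul]
    exact W.add_mem (W.smul_mem c h1) (W.smul_mem d h2)
  have hWt : W = ⊤ := by
    refine (hirr W (hWI I ?_ ?_) (hWI J ?_ ?_)).resolve_left fun h => he0 ((Submodule.eq_bot_iff W).1 h e heW)
    · rw [hIj, he, huke]; exact W.add_mem (W.smul_mem _ heW) (W.smul_mem _ (W.neg_mem hkeW))
    · rw [hIj, huke, hkk, map_neg, he]; exact W.add_mem (W.smul_mem _ (W.neg_mem hkeW)) (W.smul_mem _ (W.neg_mem heW))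
    · rw [hJj, he, huke]; exact W.add_mem (W.smul_mem _ heW) (W.smul_mem _ (W.neg_mem hkeW))
    · rw [hJj, huke, hkk, map_neg, he]; exact W.add_mem (W.smul_mem _ (W.neg_mem hkeW)) (W.smul_mem _ (W.neg_mem heW))
  have hind : LinearIndependent (ZMod p) ![e, k e] := by
    rw [LinearIndependent.pair_iff]
    intro c d hcd
    have h3 := congrArg u hcd
    rw [map_add, map_smul, map_smul, map_zero, he, huke, smul_neg] at h3
    have h4 : (2 * c) • e = 0 := by linear_combination (norm := module) hcd + h3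
    have h5 : c = 0 := (mul_eq_zero.1 ((smul_eq_zero.1 h4).resolve_right he0)).resolve_left h2
    subst h5
    rw [zero_smul, zero_add] at hcd
    exact ⟨rfl, (smul_eq_zero.1 hcd).resolve_right fun h => he0 (hk0 e h)⟩
  let bas : Module.Basis (Fin 2) (ZMod p) V := Module.Basis.mk hind (by
    rw [Matrix.range_cons_cons_empty, ← hW, hWt])
  refine ⟨?_, fun T hTI hTJ => ?_⟩
  · rw [Module.natCard_eq_pow_finrank (K := ZMod p), Nat.card_zmod, Module.finrank_eq_card_basis bas, Fintype.card_fin]
  have hTu : ∀ v, T (u v) = u (T v) := fun v => by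
    have h1 := LinearMap.congr_fun hTI v
    have h2 := LinearMap.congr_fun hTJ v
    simp only [Module.End.mul_apply] at h1 h2
    rw [huv, huv, map_add, map_smul, map_smul, h1, h2]
  have hTk : ∀ v, T (k v) = k (T v) := fun v => by
    have h1 := LinearMap.congr_fun hTI (J v)
    have h2 := LinearMap.congr_fun hTJ v
    simp only [Module.End.mul_apply] at h1 h2
    rw [hkv, hkv, h1, h2]
  obtain ⟨c, d, hcd⟩ := Submodule.mem_span_pair.1 (show T e ∈ W by rw [hWt]; trivial)
  have hd : d = 0 := by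
    have h3 := hTu e
    rw [he, ← hcd, map_add, map_smul, map_smul, he, huke, smul_neg] at h3
    have h4 : (2 * d) • k e = 0 := by linear_combination (norm := module) h3
    exact (mul_eq_zero.1 ((smul_eq_zero.1 h4).resolve_right fun h => he0 (hk0 e h))).resolve_left h2
  subst hd
  rw [zero_smul, add_zero] at hcd
  refine ⟨c, bas.ext fun i => ?_⟩
  fin_cases i
  · simp [bas, hcd]
  · simp [bas, hTk, ← hcd]

theorem q8_relations : (QuaternionGroup.a 1 : QuaternionGroup 2) * QuaternionGroup.a 1 = QuaternionGroup.a 2 ∧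
    (QuaternionGroup.xa 0 : QuaternionGroup 2) * QuaternionGroup.xa 0 = QuaternionGroup.a 2 ∧
    (QuaternionGroup.xa 0 : QuaternionGroup 2) * QuaternionGroup.a 1 =
      QuaternionGroup.a 2 * (QuaternionGroup.a 1 * QuaternionGroup.xa 0) ∧
    orderOf (QuaternionGroup.a 2 : QuaternionGroup 2) = 2 :=
  ⟨by decide, by decide, by decide, orderOf_eq_prime (by decide) (by decide)⟩

theorem q8_gen' : ∀ q : QuaternionGroup 2, ∃ m : Fin 4, ∃ k : Fin 2,
    q = QuaternionGroup.a 1 ^ (m : ℕ) * QuaternionGroup.xa 0 ^ (k : ℕ) := q8_gen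

theorem q8_ker_sign (ψ : MulAut (QuaternionGroup 2)) (hψ : ψ ∈ q8act.ker) (i : Fin 3) :
    ψ (q8rep i) = q8rep i ∨ ψ (q8rep i) = (q8rep i)⁻¹ := by
  have hc : q8cls (ψ (q8rep i)) = i := by rw [← q8act_apply, MonoidHom.mem_ker.1 hψ]; rfl
  have hsq : ψ (q8rep i) * ψ (q8rep i) ≠ 1 := fun e => by
    rw [← map_mul, EmbeddingLike.map_eq_one_iff] at e
    exact q8rep_sq i e
  have := q8rep_cls _ hsq
  rwa [hc] at this

theorem card_aut_q8 : Nat.card (MulAut (QuaternionGroup 2)) ∣ 24 := by
  classical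
  haveI : Fact (Nat.Prime 2) := ⟨Nat.prime_two⟩
  set K := (q8act).ker
  have hKp : IsPGroup 2 K := isPGroup_of_prime_trivial fun y d hd hd2 hy => by
    have h1 : (y : MulAut (QuaternionGroup 2)) = 1 := q8act_odd y.2 (hd.odd_of_ne_two hd2)
      (by rw [← SubgroupClass.coe_pow, ← hy, pow_orderOf_eq_one]; rfl)
    rw [show y = 1 from Subtype.ext h1, orderOf_one] at hy
    exact hd.ne_one hy.symm
  have hinj : Function.Injective (fun y : K => fun i : Fin 2 =>
      decide ((y : MulAut (QuaternionGroup 2)) (q8rep i.castSucc) = q8rep i.castSucc)) := by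
    intro y z e
    have key : ∀ i : Fin 2, (y : MulAut (QuaternionGroup 2)) (q8rep i.castSucc) =
        (z : MulAut (QuaternionGroup 2)) (q8rep i.castSucc) := by
      intro i
      have := decide_eq_decide.1 (congrFun e i)
      rcases q8_ker_sign _ y.2 i.castSucc with hy | hy <;> rcases q8_ker_sign _ z.2 i.castSucc with hz | hz
      · rw [hy, hz]
      · rw [hy, this.1 hy]
      · rw [hz, this.2 hz]
      · rw [hy, hz]
    refine Subtype.ext (MulEquiv.ext fun q => ?_)
    obtain ⟨m, k, rfl⟩ := q8_gen q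
    rw [map_mul, map_mul, map_pow, map_pow, map_pow, map_pow]
    have h0 := key 0
    have h1 := key 1
    simp only [Fin.castSucc_zero, Fin.castSucc_one] at h0 h1
    rw [h0, h1]
  have h4 : Nat.card K ∣ 4 := by
    have hle := Nat.card_le_card_of_injective _ hinj
    obtain ⟨k, hk⟩ := IsPGroup.iff_card.1 hKp
    have hc : Nat.card (Fin 2 → Bool) = 4 := by simp
    rw [hc, hk] at hle
    rw [hk, show (4 : ℕ) = 2 ^ 2 from rfl]
    exact Nat.pow_dvd_pow 2 ((Nat.pow_le_pow_iff_right one_lt_two).1 hle)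
  rw [← K.card_mul_index, show (24 : ℕ) = 4 * 6 from rfl]
  refine Nat.mul_dvd_mul h4 ?_
  rw [Subgroup.index_ker]
  refine (Subgroup.card_subgroup_dvd_card _).trans ?_
  rw [Nat.card_perm, Nat.card_fin]
  decide

theorem z3_sq : ∀ x : ZMod 3, x * x + 1 ≠ 0 := by decide

/-- Degrees of the soluble exceptional sharply doubly transitive groups: if a solvable linear group over the prime field is regular on the non-zero vectors of `V` and has no irreducible cyclic normal subgroup, then `V` has 25, 49, 121 or 529 elements. -/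
theorem result {p : ℕ} [Fact p.Prime] {V : Type*} [AddCommGroup V] [Module (ZMod p) V] [Finite V] (H : Subgroup (V ≃ₗ[ZMod p] V)) (hreg : ∀ v w : V, v ≠ 0 → w ≠ 0 → ∃! h : H, (h : V ≃ₗ[ZMod p] V) v = w) (hI : ∀ A : Subgroup H, A.Normal → IsCyclic A → ∃ W : Submodule (ZMod p) V, W ≠ ⊥ ∧ W ≠ ⊤ ∧ ∀ a ∈ A, ∀ v ∈ W, ((a : H) : V ≃ₗ[ZMod p] V) v ∈ W) (hsolv : Group.IsSolvable H) : Nat.card V = 25 ∨ Nat.card V = 49 ∨ Nat.card V = 121 ∨ Nat.card V = 529 := by
  classical
  haveI : Finite (V ≃ₗ[ZMod p] V) := Finite.of_injective (fun f => (f : V → V)) DFunLike.coe_injective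
  haveI : Nontrivial V := by
    obtain ⟨W, hW, -⟩ := hI ⊥ inferInstance inferInstance
    obtain ⟨v, -, hv⟩ := (Submodule.ne_bot_iff _).1 hW
    exact ⟨v, 0, hv⟩
  let S : Set (Subgroup H) := {B | B.Normal ∧ IsMulCommutative B}
  obtain ⟨A, ⟨hAn, hAc⟩, hAmax'⟩ := (Set.toFinite S).exists_maximal ⟨⊥, inferInstance, inferInstance⟩
  have hAmax : ∀ B : Subgroup H, B.Normal → IsMulCommutative B → A ≤ B → B = A :=
    fun B h1 h2 h3 => le_antisymm (hAmax' ⟨h1, h2⟩ h3) h3
  obtain ⟨-, hCna⟩ := Cfsg.Agent.S0685.result H hreg hI A hAn hAc hAmax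
  haveI := hAn
  let T : Set (Subgroup H) := {M | M.Normal ∧ M ≤ Subgroup.centralizer (A : Set H) ∧ ¬ IsMulCommutative M}
  obtain ⟨N, ⟨hNn, hNle, hNna⟩, hNmin'⟩ := (Set.toFinite T).exists_minimal ⟨_, inferInstance, le_rfl, hCna⟩
  have hNmin : ∀ M : Subgroup H, M.Normal → M ≤ N → ¬ IsMulCommutative M → M = N :=
    fun M h1 h2 h3 => le_antisymm h2 (hNmin' ⟨h1, h2.trans hNle, h3⟩ h2)
  obtain ⟨hirr, hCN⟩ := Cfsg.Agent.S0687.result H hreg hI A hAn hAc hAmax N hNn hNle hNna hNmin
  haveI := hNn
  rcases Cfsg.Agent.S0686.result H hreg hI A hAn hAc hAmax N hNn hNle hNna hNmin with ⟨⟨e⟩⟩ | ⟨⟨e⟩⟩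
  swap
  · exfalso
    haveI : Group.IsSolvable (Matrix.SpecialLinearGroup (Fin 2) (ZMod 5)) :=
      Group.isSolvable_of_surjective (f := e.toMonoidHom) e.surjective
    haveI : Nontrivial (Matrix.SpecialLinearGroup (Fin 2) (ZMod 5)) :=
      Finite.one_lt_card_iff_nontrivial.1 (by rw [sl25_card]; norm_num)
    exact (IsSolvable.commutator_lt_top_of_nontrivial _).ne sl25_perfect
  set φ : QuaternionGroup 2 →* Module.End (ZMod p) V := ((toEnd H).comp N.subtype).comp e.symm.toMonoidHom with hφ
  have hφinj : Function.Injective φ :=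
    (toEnd_injective H).comp (N.subtype_injective.comp e.symm.injective)
  obtain ⟨r1, r2, r3, r4⟩ := q8_relations
  have hfix : ∀ q : QuaternionGroup 2, ∀ v, φ q v = v → v ≠ 0 → q = 1 := fun q v h hv => hφinj (by
    rw [map_one, show φ q = toEnd H (e.symm q : H) from rfl, fixed_eq_one hreg (g := (e.symm q : H)) hv h, map_one])
  set z : Module.End (ZMod p) V := φ (QuaternionGroup.a 2) with hz
  have hzz : ∀ v, z (z v) = v := fun v => by
    rw [hz, ← Module.End.mul_apply, ← map_mul,
      show (QuaternionGroup.a 2 * QuaternionGroup.a 2 : QuaternionGroup 2) = 1 by decide, map_one]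
    rfl
  have hzneg : z = -1 := LinearMap.ext fun v => by
    by_contra hne
    have h0 : v + z v ≠ 0 := fun h => hne (by rw [eq_neg_of_add_eq_zero_right h]; rfl)
    have := hfix _ (v + z v) (by rw [← hz, map_add, hzz, add_comm]) h0
    exact absurd this (by decide)
  have hp2 : p ≠ 2 := fun h2 => by
    subst h2
    have := hφinj (a₁ := QuaternionGroup.a 2) (a₂ := 1) (by
      rw [← hz, hzneg, map_one]
      exact LinearMap.ext fun v => by
        show -v = v
        rw [← neg_one_smul (ZMod 2) v, show (-1 : ZMod 2) = 1 from rfl, one_smul])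
    exact absurd this (by decide)
  have hmem : ∀ W : Submodule (ZMod p) V, (∀ v ∈ W, φ (QuaternionGroup.a 1) v ∈ W) →
      (∀ v ∈ W, φ (QuaternionGroup.xa 0) v ∈ W) → W = ⊥ ∨ W = ⊤ := by
    intro W h1 h2
    refine hirr W fun n hn v hv => ?_
    have key : ∀ q : QuaternionGroup 2, ∀ v ∈ W, φ q v ∈ W := by
      intro q
      obtain ⟨m, k, rfl⟩ := q8_gen' q
      have hpow : ∀ (T : Module.End (ZMod p) V), (∀ v ∈ W, T v ∈ W) → ∀ l : ℕ, ∀ v ∈ W, (T ^ l) v ∈ W := by
        intro T hT l
        induction l with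
        | zero => intro v hv; simpa using hv
        | succ l ih => intro v hv; rw [pow_succ', Module.End.mul_apply]; exact hT _ (ih v hv)
      intro v hv
      rw [map_mul, map_pow, map_pow, Module.End.mul_apply]
      exact hpow _ h1 _ _ (hpow _ h2 _ _ hv)
    have h := key (e ⟨n, hn⟩) v hv
    rwa [show φ (e ⟨n, hn⟩) = toEnd H n from
      congrArg (fun x : N => toEnd H (x : H)) (e.symm_apply_apply _)] at h
  have hI' : φ (QuaternionGroup.a 1) * φ (QuaternionGroup.a 1) = -1 := by rw [← map_mul, r1]; exact hzneg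
  have hJ' : φ (QuaternionGroup.xa 0) * φ (QuaternionGroup.xa 0) = -1 := by rw [← map_mul, r2]; exact hzneg
  have hJI' : φ (QuaternionGroup.xa 0) * φ (QuaternionGroup.a 1) =
      -(φ (QuaternionGroup.a 1) * φ (QuaternionGroup.xa 0)) := by
    rw [← map_mul, r3, map_mul, map_mul, ← hz, hzneg, neg_one_mul]
  obtain ⟨hcardV, hscal⟩ := plane_of_pair hp2 _ _ hI' hJ' hJI' hmem
  -- the maximal abelian normal subgroup acts by scalars
  have hAle : Nat.card A ≤ p - 1 := by
    obtain ⟨v₀, hv₀⟩ := exists_ne (0 : V)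
    have hc : ∀ a : A, ∃ c : (ZMod p)ˣ, toEnd H (a : H) = (c : ZMod p) • 1 := by
      intro a
      have hcomm : ∀ q, toEnd H (a : H) * φ q = φ q * toEnd H (a : H) := fun q => by
        rw [show φ q = toEnd H (e.symm q : H) from rfl, ← map_mul, ← map_mul,
          Subgroup.mem_centralizer_iff.1 (hNle (e.symm q).2) (a : H) a.2]
      obtain ⟨c, hc⟩ := hscal _ (hcomm _) (hcomm _)
      have hc0 : c ≠ 0 := fun h0 => by
        have h1 : ((a : H) : V ≃ₗ[ZMod p] V) v₀ = 0 := by
          rw [← toEnd_apply, hc, h0, zero_smul]; rfl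
        exact hv₀ ((LinearEquiv.map_eq_zero_iff _).1 h1)
      exact ⟨Units.mk0 c hc0, hc⟩
    choose c hc using hc
    have hinj : Function.Injective c := fun a b e => Subtype.ext (toEnd_injective H (by rw [hc, hc, e]))
    have := Nat.card_le_card_of_injective c hinj
    rwa [Nat.card_units, Nat.card_zmod] at this
  -- the quotient acts faithfully on the quaternion group
  set ψ : H →* MulAut (QuaternionGroup 2) :=
    (MulAut.congr e).toMonoidHom.comp (MulAut.conjNormal (H := N)) with hψ
  have hker : ψ.ker = A := by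
    rw [← hCN]
    ext h
    rw [hψ, MonoidHom.mem_ker, MonoidHom.comp_apply, MulEquiv.coe_toMonoidHom, EmbeddingLike.map_eq_one_iff, Subgroup.mem_centralizer_iff]
    constructor
    · intro hh n hn
      have := congrArg Subtype.val (DFunLike.congr_fun hh (⟨n, hn⟩ : N))
      rw [MulAut.conjNormal_apply] at this
      exact (mul_inv_eq_iff_eq_mul.1 this).symm
    · intro hh
      refine MulEquiv.ext fun n => Subtype.ext ?_
      rw [MulAut.conjNormal_apply, ← hh n n.2, mul_inv_cancel_right]
      rfl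
  have hm : A.index ∣ 24 := by
    rw [← hker, Subgroup.index_ker]
    exact (Subgroup.card_subgroup_dvd_card _).trans card_aut_q8
  have hH : Nat.card H + 1 = p ^ 2 := by rw [card_regular hreg, hcardV]
  have hAm : Nat.card A * A.index + 1 = p ^ 2 := by rw [A.card_mul_index]; exact hH
  have hAdvd : Nat.card A ∣ p - 1 := by
    obtain ⟨v₀, hv₀⟩ := exists_ne (0 : V)
    haveI : IsCyclic A := (Cfsg.Agent.S0684.result H hreg hI A hAn hAc hAmax).1
    obtain ⟨-, W, hW0, hWt, -, -, hd⟩ := Cfsg.Agent.S0684.result H hreg hI A hAn hAc hAmax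
    have h1 : Module.finrank (ZMod p) W = 1 := by
      have hlt : Module.finrank (ZMod p) W < 2 := by
        have := Submodule.finrank_lt hWt
        have h2 : Module.finrank (ZMod p) V = 2 := by
          rw [Module.natCard_eq_pow_finrank (K := ZMod p), Nat.card_zmod] at hcardV
          exact Nat.pow_right_injective (Fact.out : p.Prime).two_le hcardV
        omega
      have : Module.finrank (ZMod p) W ≠ 0 := fun h0 => hW0 (Submodule.finrank_eq_zero.1 h0)
      omega
    rwa [h1, pow_one] at hd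
  have hp : p.Prime := Fact.out
  have hpm : p + 1 ∣ A.index := by
    obtain ⟨t, ht⟩ := hAdvd
    have hA0 : 0 < Nat.card A := Nat.card_pos
    have h1 : Nat.card A * A.index = Nat.card A * (t * (p + 1)) := by
      rw [← mul_assoc, ← ht]
      have := hp.two_le
      zify [show 1 ≤ p by omega] at hAm ⊢
      linear_combination hAm
    exact Dvd.intro_left t (Nat.eq_of_mul_eq_mul_left hA0 h1).symm
  have hp24 : p + 1 ∣ 24 := hpm.trans hm
  have hp3 : p ≠ 3 := by
    intro h3
    subst h3
    have hN8 : Nat.card N = 8 := by rw [Nat.card_congr e.toEquiv, Nat.card_eq_fintype_card, QuaternionGroup.card]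
    have hNtop : N = ⊤ := Subgroup.eq_top_of_card_eq N (by rw [hN8]; omega)
    set B : Subgroup H := (Subgroup.zpowers (e.symm (QuaternionGroup.a 1))).map N.subtype with hB
    haveI : IsCyclic B :=
      isCyclic_of_surjective _ ((Subgroup.zpowers (e.symm (QuaternionGroup.a 1))).equivMapOfInjective
        N.subtype N.subtype_injective).surjective
    have hB4 : Nat.card B = 4 := by
      rw [Subgroup.card_map_of_injective N.subtype_injective, Nat.card_zpowers, MulEquiv.orderOf_eq,
        QuaternionGroup.orderOf_a_one]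
    haveI : B.Normal := Subgroup.normal_of_index_eq_two (by
      have := B.card_mul_index
      rw [hB4] at this; omega)
    obtain ⟨W, hW0, hWt, hWi⟩ := hI B inferInstance inferInstance
    have hW1 : Module.finrank (ZMod 3) W = 1 := by
      have hlt := Submodule.finrank_lt hWt
      have h2 : Module.finrank (ZMod 3) V = 2 := by
        rw [Module.natCard_eq_pow_finrank (K := ZMod 3), Nat.card_zmod] at hcardV
        exact Nat.pow_right_injective le_add_self hcardV
      have : Module.finrank (ZMod 3) W ≠ 0 := fun h0 => hW0 (Submodule.finrank_eq_zero.1 h0)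
      omega
    obtain ⟨v, hv, hv0⟩ := (Submodule.ne_bot_iff _).1 hW0
    have hmem1 : φ (QuaternionGroup.a 1) v ∈ W := hWi _ ⟨_, Subgroup.mem_zpowers _, rfl⟩ v hv
    obtain ⟨c, hc⟩ := (finrank_eq_one_iff_of_nonzero' (⟨v, hv⟩ : W) (by simpa using hv0)).1 hW1 ⟨_, hmem1⟩
    have hc' : φ (QuaternionGroup.a 1) v = c • v := (congrArg Subtype.val hc).symm
    have h2 : ((c * c) • v : V) = -v := by
      have := LinearMap.congr_fun hI' v
      rw [Module.End.mul_apply, hc', map_smul, hc', smul_smul] at this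
      exact this
    have h3 : ((c * c + 1) • v : V) = 0 := by rw [add_smul, h2, one_smul, neg_add_cancel]
    exact z3_sq c ((smul_eq_zero.1 h3).resolve_right hv0)
  have hle : p + 1 ≤ 24 := Nat.le_of_dvd (by norm_num) hp24
  have hmem' : p = 5 ∨ p = 7 ∨ p = 11 ∨ p = 23 := by
    have h := hp.two_le
    have h' : p ≤ 23 := by omega
    interval_cases p <;> first | omega | (norm_num at hp; done) | (exfalso; omega)
  rw [hcardV]
  rcases hmem' with rfl | rfl | rfl | rfl <;> norm_num

end Cfsg.Agent.S0688
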