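import Cfsg.Statements.S0691

import Mathlib
import Cfsg.Agent.Perm.SharpClosure

set_option autoImplicit false
set_option linter.style.haveILetI false
open Cfsg

namespace Cfsg.Agent.S0691
set_option maxRecDepth 100000
attribute [local instance 10000] List.decidableBAll

/-- An exceptional sharply doubly transitive group of degree 5^2: the listed matrices generate a subgroup of GL(2,5) of order 24 acting regularly on the non-zero vectors. -/
theorem result (A : Matrix.GeneralLinearGroup (Fin 2) (ZMod 5)) (B : Matrix.GeneralLinearGroup (Fin 2) (ZMod 5)) (C : Matrix.GeneralLinearGroup (Fin 2) (ZMod 5)) (hA : (A : Matrix (Fin 2) (Fin 2) (ZMod 5)) = !![2, 0; 0, -2]) (hB : (B : Matrix (Fin 2) (Fin 2) (ZMod 5)) = !![0, -1; 1, 0]) (hC : (C : Matrix (Fin 2) (Fin 2) (ZMod 5)) = !![1, 2; 1, -2]) : Nat.card (Subgroup.closure ({A, B, C} : Set (Matrix.GeneralLinearGroup (Fin 2) (ZMod 5)))) = 24 ∧ ∀ v w : Fin 2 → ZMod 5, v ≠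 0 → w ≠ 0 → ∃! h : Subgroup.closure ({A, B, C} : Set (Matrix.GeneralLinearGroup (Fin 2) (ZMod 5))), Matrix.mulVec ((h : Matrix.GeneralLinearGroup (Fin 2) (ZMod 5)) : Matrix (Fin 2) (Fin 2) (ZMod 5)) v = w := by
  refine CfsgLib.Perm.SharpClosure.card_and_sharp
    (gens := ![A, B, C]) (ts := ![(2, 0, 0, -2),(0, -1, 1, 0),(1, 2, 1, -2)])
    (words := [[],
    [0],
    [1],
    [2],
    [0,0],
    [0,1],
    [0,2],
    [1,0],
    [1,2],
    [2,0],
    [2,2],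
    [0,0,0],
    [0,0,1],
    [0,0,2],
    [0,1,2],
    [0,2,2],
    [1,2,0],
    [1,2,2],
    [2,0,1],
    [2,0,2],
    [0,0,2,2],
    [0,1,2,2],
    [1,2,0,2],
    [2,0,1,2]])
    (L := [(1, 0, 0, 1), (2, 0, 0, 3), (0, 4, 1, 0), (1, 2, 1, 3), (4, 0, 0, 4), (0, 3, 3, 0), (2, 4, 3, 4), (0, 2, 2, 0), (4, 2, 1, 2), (2, 1, 2, 4), (3, 3, 4, 1), (3, 0, 0, 2), (0, 1, 4, 0), (4, 3, 4, 2), (3, 4, 3, 1), (1, 1, 2, 3), (3, 1, 2, 1), (1, 4, 3, 3), (1, 3, 4, 3), (3, 2, 1, 1), (2, 2, 1, 4), (2, 3, 4, 4), (4, 4, 3, 2), (4, 1, 2, 2)])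
    ?_ (by decide +kernel) (by decide +kernel) (by decide +kernel) (by decide +kernel) rfl
    (by decide +kernel) (by decide +kernel) _ ?_
  · intro i
    fin_cases i <;> simp [CfsgLib.Perm.SharpClosure.toMat, hA, hB, hC]
  · ext g
    simp [Matrix.range_cons, eq_comm]
    tauto

end Cfsg.Agent.S0691
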