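import Cfsg.Statements.S0693

import Mathlib
import Cfsg.Agent.Perm.SharpClosure

set_option autoImplicit false
set_option linter.style.haveILetI false
open Cfsg

namespace Cfsg.Agent.S0693
set_option maxRecDepth 100000
set_option maxHeartbeats 4000000

/-- Words in the two generators. -/
def words59 : List (List (Fin 2)) := [[],
      [0],
      [1],
      [0,0],
      [0,1],
      [1,0],
      [1,1],
      [0,0,0],
      [0,0,1],
      [0,1,0],
      [0,1,1],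
      [1,0,1],
      [1,1,0],
      [0,0,0,1],
      [0,0,1,0],
      [0,0,1,1],
      [0,1,0,1],
      [0,1,1,0],
      [1,0,1,0],
      [1,0,1,1],
      [1,1,0,1],
      [0,0,0,1,0],
      [0,0,0,1,1],
      [0,0,1,0,1],
      [0,0,1,1,0],
      [0,1,0,1,0],
      [0,1,0,1,1],
      [0,1,1,0,1],
      [1,0,1,0,1],
      [1,0,1,1,0],
      [1,1,0,1,0],
      [1,1,0,1,1],
      [0,0,0,1,0,1],
      [0,0,0,1,1,0],
      [0,0,1,0,1,0],
      [0,0,1,0,1,1],
      [0,0,1,1,0,1],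
      [0,1,0,1,0,1],
      [0,1,0,1,1,0],
      [0,1,1,0,1,0],
      [0,1,1,0,1,1],
      [1,0,1,0,1,1],
      [1,0,1,1,0,1],
      [1,1,0,1,0,1],
      [0,0,0,1,0,1,0],
      [0,0,0,1,0,1,1],
      [0,0,0,1,1,0,1],
      [0,0,1,0,1,0,1],
      [0,0,1,0,1,1,0],
      [0,0,1,1,0,1,0],
      [0,0,1,1,0,1,1],
      [0,1,0,1,0,1,1],
      [0,1,0,1,1,0,1],
      [0,1,1,0,1,0,1],
      [1,0,1,0,1,1,0],
      [1,0,1,1,0,1,0],
      [1,0,1,1,0,1,1],
      [1,1,0,1,0,1,1],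
      [0,0,0,1,0,1,0,1],
      [0,0,0,1,0,1,1,0],
      [0,0,0,1,1,0,1,0],
      [0,0,0,1,1,0,1,1],
      [0,0,1,0,1,0,1,1],
      [0,0,1,0,1,1,0,1],
      [0,0,1,1,0,1,0,1],
      [0,1,0,1,0,1,1,0],
      [0,1,0,1,1,0,1,0],
      [0,1,0,1,1,0,1,1],
      [0,1,1,0,1,0,1,1],
      [1,0,1,0,1,1,0,1],
      [1,0,1,1,0,1,0,1],
      [1,1,0,1,0,1,1,0],
      [0,0,0,1,0,1,0,1,1],
      [0,0,0,1,0,1,1,0,1],
      [0,0,0,1,1,0,1,0,1],
      [0,0,1,0,1,0,1,1,0],
      [0,0,1,0,1,1,0,1,0],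
      [0,0,1,0,1,1,0,1,1],
      [0,0,1,1,0,1,0,1,1],
      [0,1,0,1,0,1,1,0,1],
      [0,1,0,1,1,0,1,0,1],
      [0,1,1,0,1,0,1,1,0],
      [1,0,1,0,1,1,0,1,0],
      [1,0,1,0,1,1,0,1,1],
      [1,0,1,1,0,1,0,1,1],
      [1,1,0,1,0,1,1,0,1],
      [0,0,0,1,0,1,0,1,1,0],
      [0,0,0,1,0,1,1,0,1,0],
      [0,0,0,1,0,1,1,0,1,1],
      [0,0,0,1,1,0,1,0,1,1],
      [0,0,1,0,1,0,1,1,0,1],
      [0,0,1,0,1,1,0,1,0,1],
      [0,0,1,1,0,1,0,1,1,0],
      [0,1,0,1,0,1,1,0,1,0],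
      [0,1,0,1,0,1,1,0,1,1],
      [0,1,0,1,1,0,1,0,1,1],
      [0,1,1,0,1,0,1,1,0,1],
      [1,0,1,0,1,1,0,1,0,1],
      [1,0,1,1,0,1,0,1,1,0],
      [1,1,0,1,0,1,1,0,1,0],
      [0,0,0,1,0,1,0,1,1,0,1],
      [0,0,0,1,0,1,1,0,1,0,1],
      [0,0,1,0,1,0,1,1,0,1,0],
      [0,0,1,0,1,0,1,1,0,1,1],
      [0,0,1,0,1,1,0,1,0,1,1],
      [0,0,1,1,0,1,0,1,1,0,1],
      [0,1,0,1,1,0,1,0,1,1,0],
      [0,1,1,0,1,0,1,1,0,1,0],
      [1,0,1,0,1,1,0,1,0,1,1],
      [1,0,1,1,0,1,0,1,1,0,1],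
      [1,1,0,1,0,1,1,0,1,0,1],
      [0,0,0,1,0,1,0,1,1,0,1,0],
      [0,0,0,1,0,1,0,1,1,0,1,1],
      [0,0,0,1,0,1,1,0,1,0,1,1],
      [0,0,1,1,0,1,0,1,1,0,1,0],
      [0,1,0,1,1,0,1,0,1,1,0,1],
      [0,1,1,0,1,0,1,1,0,1,0,1],
      [1,0,1,0,1,1,0,1,0,1,1,0],
      [1,0,1,1,0,1,0,1,1,0,1,0],
      [1,1,0,1,0,1,1,0,1,0,1,1]]

/-- The group of order 120. -/
def L59' : List (Fin 59 × Fin 59 × Fin 59 × Fin 59) := [(1, 0, 0, 1),
      (0, 58, 1, 0),
      (9, 15, 49, 49),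
      (58, 0, 0, 58),
      (10, 10, 9, 15),
      (15, 50, 49, 10),
      (49, 44, 10, 9),
      (0, 1, 58, 0),
      (50, 44, 10, 10),
      (10, 49, 15, 50),
      (49, 50, 49, 44),
      (48, 20, 46, 45),
      (44, 10, 9, 49),
      (49, 49, 50, 44),
      (44, 9, 10, 49),
      (10, 15, 49, 50),
      (13, 14, 48, 20),
      (50, 10, 44, 10),
      (20, 11, 45, 13),
      (55, 48, 23, 4),
      (1, 29, 4, 58),
      (49, 10, 44, 9),
      (10, 9, 10, 15),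
      (11, 39, 13, 14),
      (15, 49, 50, 10),
      (14, 46, 20, 11),
      (36, 55, 55, 48),
      (55, 1, 1, 29),
      (11, 13, 39, 14),
      (48, 4, 4, 36),
      (29, 58, 58, 55),
      (14, 20, 46, 11),
      (46, 45, 11, 39),
      (9, 49, 15, 49),
      (39, 48, 14, 46),
      (4, 11, 36, 55),
      (58, 30, 55, 1),
      (20, 45, 11, 13),
      (55, 23, 48, 4),
      (1, 4, 29, 58),
      (13, 48, 14, 20),
      (28, 35, 34, 32),
      (38, 31, 30, 54),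
      (35, 32, 31, 25),
      (45, 13, 39, 48),
      (23, 4, 4, 11),
      (4, 58, 58, 30),
      (48, 46, 20, 45),
      (11, 55, 55, 23),
      (30, 1, 1, 4),
      (45, 39, 13, 48),
      (25, 27, 28, 35),
      (29, 5, 38, 31),
      (28, 34, 35, 32),
      (35, 31, 32, 25),
      (31, 21, 54, 29),
      (32, 24, 25, 28),
      (54, 28, 29, 38),
      (39, 14, 48, 46),
      (4, 36, 11, 55),
      (58, 55, 30, 1),
      (46, 11, 45, 39),
      (31, 24, 25, 27),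
      (21, 28, 29, 5),
      (24, 27, 28, 34),
      (27, 34, 35, 31),
      (5, 30, 31, 21),
      (34, 31, 32, 24),
      (30, 21, 54, 28),
      (5, 38, 38, 53),
      (10, 19, 19, 48),
      (28, 5, 38, 30),
      (34, 32, 31, 24),
      (30, 54, 21, 28),
      (31, 25, 24, 27),
      (24, 28, 27, 34),
      (28, 38, 5, 30),
      (27, 35, 34, 31),
      (5, 31, 30, 21),
      (21, 6, 5, 38),
      (40, 11, 10, 19),
      (21, 29, 28, 5),
      (38, 54, 53, 21),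
      (19, 49, 48, 40),
      (18, 19, 45, 41),
      (25, 16, 42, 34),
      (32, 25, 24, 28),
      (54, 29, 28, 38),
      (25, 28, 27, 35),
      (29, 38, 5, 31),
      (54, 21, 21, 6),
      (49, 40, 40, 11),
      (31, 54, 21, 29),
      (6, 38, 38, 54),
      (11, 19, 19, 49),
      (14, 18, 18, 19),
      (17, 25, 25, 16),
      (38, 30, 31, 54),
      (19, 41, 41, 14),
      (16, 34, 34, 17),
      (38, 53, 54, 21),
      (19, 48, 49, 40),
      (21, 5, 6, 38),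
      (40, 10, 11, 19),
      (41, 40, 14, 18),
      (34, 43, 17, 25),
      (18, 45, 19, 41),
      (25, 42, 16, 34),
      (42, 34, 34, 43),
      (56, 52, 52, 3),
      (40, 18, 18, 45),
      (53, 21, 21, 5),
      (48, 40, 40, 10),
      (45, 41, 41, 40),
      (43, 25, 25, 42),
      (7, 56, 56, 52),
      (41, 14, 40, 18),
      (34, 17, 43, 25),
      (52, 3, 3, 7),
      (3, 7, 7, 56)]

/-- The list over the field. -/
def L59 : List (CfsgLib.Perm.SharpClosure.T (ZMod 59)) := L59'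

/-- The two generators. -/
def ts59 : Fin 2 → CfsgLib.Perm.SharpClosure.T (ZMod 59) := ![(0, -1, 1, 0), (9, 15, -10, -10)]

instance fact59 : Fact (Nat.Prime 59) := ⟨by norm_num⟩

attribute [local instance 10000] List.decidableBAll

/-- An exceptional sharply doubly transitive group of degree 59^2: the listed matrices generate a subgroup of GL(2,59) of order 3480 acting regularly on the non-zero vectors. -/
theorem result (A : Matrix.GeneralLinearGroup (Fin 2) (ZMod 59)) (B : Matrix.GeneralLinearGroup (Fin 2) (ZMod 59)) (C : Matrix.GeneralLinearGroup (Fin 2) (ZMod 59)) (hA : (A : Matrix (Fin 2) (Fin 2) (ZMod 59)) = !![0, -1; 1, 0]) (hB : (B : Matrix (Fin 2) (Fin 2) (ZMod 59)) = !![9, 15; -10, -10]) (hC : (C : Matrix (Fin 2) (Fin 2) (ZMod 59)) = !![4, 0; 0, 4]) : Nat.card (Subgroup.closure ({A, B, C} : Set (Matrix.GeneralLinearGroup (Fin 2) (ZMod 59)))) = 3480 ∧ ∀ v w : Fin 2 → ZMod 59, v ≠ 0 → w ≠ 0 → ∃! h : Subgroup.closure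 ({A, B, C} : Set (Matrix.GeneralLinearGroup (Fin 2) (ZMod 59))), Matrix.mulVec ((h : Matrix.GeneralLinearGroup (Fin 2) (ZMod 59)) : Matrix (Fin 2) (Fin 2) (ZMod 59)) v = w := by
  have hC' : (C : Matrix (Fin 2) (Fin 2) (ZMod 59)) = (4 : ZMod 59) • (1 : Matrix (Fin 2) (Fin 2) (ZMod 59)) := by
    rw [hC]
    ext i j
    fin_cases i <;> fin_cases j <;> simp
  have main := CfsgLib.Perm.SharpClosure.card_and_sharp_scalar
    (n := 2) (gens := ![A, B]) (ts := ts59) (c := C) (s := (4 : ZMod 59)) (N := 29)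
    (words := words59) (L := L59)
    (hgt := fun i => by fin_cases i <;> simp [ts59, CfsgLib.Perm.SharpClosure.toMat, hA, hB]) hC'
    (by decide +kernel) (by decide +kernel) (by decide +kernel) (by decide +kernel) (by decide +kernel)
    (by decide +kernel) (by decide +kernel) (by decide +kernel) (by decide +kernel) (by decide +kernel)
    ({A, B, C} : Set (Matrix.GeneralLinearGroup (Fin 2) (ZMod 59))) (by
      ext g
      simp [Matrix.range_cons, eq_comm]
      tauto)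
  exact ⟨main.1.trans (by decide +kernel), main.2⟩

end Cfsg.Agent.S0693
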