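import Mathlib
-- Template for statement S0694 (row 694; see /opt/grader/pristine/manifest.json for weights).
-- Copy to Cfsg/Agent/S0694.lean and replace the sorry. The statement below is byte-identical to the frozen
-- statement Cfsg.CfsgFrozen.S0694 (Cfsg/Statements/S0694.lean; the theorem Cfsg.dickson_nearfield_pair_condition);
-- the grader kernel-checks Cfsg.Agent.S0694.result against that frozen type. Keep the theorem IN THIS FILE
-- (a `result` declared elsewhere and merely imported here is not credited); helpers may live anywhere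
-- under Cfsg/Agent/.
import Cfsg.Statements.S0694


set_option autoImplicit false
open Cfsg

namespace Cfsg.Agent.S0694

theorem gcd_dvd_div {n k r : ℕ} (hn : n ≠ 0) (hr : r.Prime) (hrn : r ∣ n)
    (hk : ¬ r ^ n.factorization r ∣ k) : n.gcd k ∣ n / r := by
  obtain ⟨c, hc⟩ := Nat.gcd_dvd_left n k
  have hrc : r ∣ c := by
    by_contra hrc
    have h1 : r ^ n.factorization r ∣ n.gcd k * c := hc ▸ Nat.ordProj_dvd n r
    exact hk ((((hr.coprime_iff_not_dvd.2 hrc).pow_left _).dvd_of_dvd_mul_right h1).trans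
      (Nat.gcd_dvd_right n k))
  obtain ⟨d, rfl⟩ := hrc
  have : n / r = n.gcd k * d := by
    apply Nat.div_eq_of_eq_mul_right hr.pos
    linarith [hc]
  exact this ▸ dvd_mul_right _ _

theorem modEq_pow_gcd {q a b m : ℕ} (ha : q ^ a ≡ 1 [MOD m]) (hb : q ^ b ≡ 1 [MOD m]) :
    q ^ a.gcd b ≡ 1 [MOD m] := by
  rw [← ZMod.natCast_eq_natCast_iff] at ha hb ⊢
  push_cast at *
  exact pow_gcd_eq_one.2 ⟨ha, hb⟩

theorem modEq_pow_of_dvd {q a b m : ℕ} (ha : q ^ a ≡ 1 [MOD m]) (hab : a ∣ b) :
    q ^ b ≡ 1 [MOD m] := by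
  obtain ⟨c, rfl⟩ := hab
  simpa [pow_mul] using ha.pow c

theorem fwd_dvd (q : ℕ) (hq : 1 < q) : ∀ n : ℕ, n ≠ 0 →
    (∀ r : ℕ, r.Prime → r ∣ n → r ∣ q - 1) → n * (q - 1) ∣ q ^ n - 1 := by
  intro n
  induction n using Nat.strong_induction_on with
  | _ n ih =>
    intro hn h
    rcases eq_or_ne n 1 with rfl | hn1
    · simp
    obtain ⟨r, hr, k, rfl⟩ := Nat.exists_prime_and_dvd hn1
    have hk : k ≠ 0 := by rintro rfl; simp at hn
    have hlt : k < r * k := lt_mul_of_one_lt_left (Nat.pos_of_ne_zero hk) hr.one_lt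
    have h1 := ih k hlt hk fun s hs hsk => h s hs (hsk.trans (dvd_mul_left k r))
    have hr' : (r : ℤ) ∣ (q : ℤ) ^ k - 1 := by
      have : r ∣ q ^ k - 1 := (h r hr (dvd_mul_right r k)).trans
        (Nat.sub_one_dvd_pow_sub_one q k)
      have := Int.natCast_dvd_natCast.2 this
      rwa [Nat.cast_sub (Nat.one_le_pow _ _ (by omega)), Nat.cast_pow, Nat.cast_one] at this
    have h2 : ((r : ℤ)) * ((q : ℤ) ^ k - 1) ∣ ((q : ℤ) ^ k) ^ r - 1 ^ r := by
      rw [← geom_sum₂_mul]
      exact mul_dvd_mul_right (dvd_geom_sum₂_self hr') _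
    rw [← Int.natCast_dvd_natCast] at h1 ⊢
    rw [Nat.cast_sub (Nat.one_le_pow _ _ (by omega)), Nat.cast_mul, Nat.cast_sub (by omega : 1 ≤ q),
      Nat.cast_pow, Nat.cast_one] at h1 ⊢
    push_cast at h1 h2 ⊢
    rw [one_pow, ← pow_mul, mul_comm k r] at h2
    exact ((mul_assoc _ _ _).dvd.trans (mul_dvd_mul_left _ h1)).trans h2

theorem val_pow_sub_one {q e r : ℕ} (hr : r.Prime) (hq : 1 < q) (he : e ≠ 0) (hrq : r ∣ q - 1)
    (h2 : r = 2 → 4 ∣ q - 1 ∨ ¬ 2 ∣ e) :
    ¬ r ^ ((q - 1).factorization r + e.factorization r + 1) ∣ q ^ e - 1 := by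
  have := Fact.mk hr
  have hx : ¬ r ∣ q := fun h => by
    have := Nat.dvd_sub h hrq
    rw [Nat.sub_sub_self hq.le] at this
    exact hr.one_lt.ne' (Nat.dvd_one.1 this)
  have hne : q ^ e - 1 ≠ 0 := Nat.sub_ne_zero_of_lt (Nat.one_lt_pow he hq)
  have hxy : (r : ℤ) ∣ (q : ℤ) - 1 := by
    have := Int.natCast_dvd_natCast.2 hrq
    rwa [Nat.cast_sub hq.le, Nat.cast_one] at this
  have hx' : ¬ (r : ℤ) ∣ (q : ℤ) := fun h => hx (Int.natCast_dvd_natCast.1 h)
  have key : emultiplicity r (q ^ e - 1) = emultiplicity r (q - 1) + emultiplicity r e := by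
    rw [← Int.natCast_emultiplicity, ← Int.natCast_emultiplicity r (q - 1),
      Nat.cast_sub (Nat.one_le_pow _ _ (by omega)), Nat.cast_sub hq.le, Nat.cast_pow, Nat.cast_one]
    rcases hr.eq_two_or_odd' with rfl | ho
    · rcases h2 rfl with h4 | he2
      · have h4' : (4 : ℤ) ∣ (q : ℤ) - 1 := by omega
        have := Int.two_pow_sub_pow' e h4' (by exact_mod_cast hx)
        rw [one_pow] at this
        rw [← Int.natCast_emultiplicity 2 e]
        exact_mod_cast this
      · have := emultiplicity_pow_sub_pow_of_prime Int.prime_two (y := 1) hxy hx'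
          (n := e) (by omega)
        rw [one_pow] at this
        rw [emultiplicity_eq_zero.2 he2, add_zero]
        exact_mod_cast this
    · have := Int.emultiplicity_pow_sub_pow hr ho (y := 1) hxy hx' e
      rw [one_pow] at this
      exact this
  have h3 : padicValNat r (q ^ e - 1) = padicValNat r (q - 1) + padicValNat r e := by
    rw [← Nat.cast_inj (R := ℕ∞), Nat.cast_add, padicValNat_eq_emultiplicity hne,
      padicValNat_eq_emultiplicity (by omega), padicValNat_eq_emultiplicity he]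
    exact key
  rw [padicValNat_dvd_iff_le hne, Nat.factorization_def _ hr, Nat.factorization_def _ hr, h3]
  omega

/-- The Dickson pair condition: for a prime power `q` and `n > 1`, (every prime factor of `n` divides `q - 1`, and `4 ∣ n → 4 ∣ q - 1`) holds exactly when `q ^ n ≡ 1` modulo `n * (q - 1)` but `q ^ i` is not, for `0 < i < n`. -/
theorem result (q n : ℕ) (hq : IsPrimePow q) (hn : 1 < n) : ((∀ r : ℕ, r.Prime → r ∣ n → r ∣ q - 1) ∧ (4 ∣ n → 4 ∣ q - 1)) ↔ (q ^ n ≡ 1 [MOD n * (q - 1)] ∧ ∀ i : ℕ, 0 < i → i < n → ¬ q ^ i ≡ 1 [MOD n * (q - 1)]) := by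
  have hq1 : 1 < q := hq.one_lt
  have hn0 : n ≠ 0 := by omega
  have hm0 : n * (q - 1) ≠ 0 := Nat.mul_ne_zero hn0 (by omega)
  have hpow : ∀ e, 1 ≤ q ^ e := fun e => Nat.one_le_pow _ _ (by omega)
  have hmod : ∀ {M e : ℕ}, q ^ e ≡ 1 [MOD M] ↔ M ∣ q ^ e - 1 := fun {M e} =>
    ⟨fun h => (Nat.modEq_iff_dvd' (hpow e)).1 h.symm,
      fun h => ((Nat.modEq_iff_dvd' (hpow e)).2 h).symm⟩
  constructor
  · rintro ⟨h, h4⟩
    have hn' := hmod.2 (fwd_dvd q hq1 n hn0 h)
    refine ⟨hn', fun i hi hin hc => ?_⟩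
    have hd := modEq_pow_gcd hc hn'
    obtain ⟨c, hc'⟩ := Nat.gcd_dvd_right i n
    have hc1 : c ≠ 1 := by
      rintro rfl
      have : n ∣ i := by
        rw [hc', mul_one]
        exact Nat.gcd_dvd_left i n
      exact absurd (Nat.le_of_dvd hi this) (by omega)
    obtain ⟨r, hr, d, rfl⟩ := Nat.exists_prime_and_dvd hc1
    set e := i.gcd n * d with he
    have hne : n = r * e := by rw [hc', he]; ring
    have he0 : e ≠ 0 := fun h0 => hn0 (by rw [hne, h0, mul_zero])
    have hem : q ^ e ≡ 1 [MOD n * (q - 1)] := modEq_pow_of_dvd hd (dvd_mul_right _ _)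
    have hrn : r ∣ n := ⟨e, hne⟩
    refine val_pow_sub_one hr hq1 he0 (h r hr hrn) ?_ ?_
    · rintro rfl
      by_cases h2 : 2 ∣ e
      · exact Or.inl (h4 (by rw [hne]; exact mul_dvd_mul_left 2 h2))
      · exact Or.inr h2
    · refine dvd_trans ?_ (hmod.1 hem)
      rw [hne, mul_assoc r e (q - 1), pow_succ, pow_add]
      exact (dvd_of_eq (by ring)).trans (mul_dvd_mul_left r (mul_dvd_mul (Nat.ordProj_dvd e r)
        (Nat.ordProj_dvd (q - 1) r)))
  · rintro ⟨hm, hmin⟩
    have reduce : ∀ r, r.Prime → r ∣ n →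
        (∀ s, s.Prime → s ∣ n * (q - 1) → ∃ k, q ^ k ≡ 1 [MOD s ^ (n * (q - 1)).factorization s] ∧
          n.gcd k ∣ n / r) → False := by
      intro r hr hrn H
      have he : 0 < n / r := Nat.div_pos (Nat.le_of_dvd (by omega) hrn) hr.pos
      refine hmin (n / r) he (Nat.div_lt_self (by omega) hr.one_lt) (hmod.2 ?_)
      rw [← Nat.factorization_prime_le_iff_dvd hm0
        (Nat.sub_ne_zero_of_lt (Nat.one_lt_pow he.ne' hq1))]
      intro s hs
      by_cases hsm : s ∣ n * (q - 1)
      · obtain ⟨k, hk, hk2⟩ := H s hs hsm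
        refine (hs.pow_dvd_iff_le_factorization
          (Nat.sub_ne_zero_of_lt (Nat.one_lt_pow he.ne' hq1))).1 (hmod.1 ?_)
        exact modEq_pow_of_dvd (modEq_pow_gcd (hm.of_dvd (Nat.ordProj_dvd _ s)) hk) hk2
      · rw [Nat.factorization_eq_zero_of_not_dvd hsm]
        exact Nat.zero_le _
    have sq : ∀ s b, s.Prime → s ∣ q - 1 → q ^ s ^ b ≡ 1 [MOD s ^ b] := by
      intro s b hs hsq
      have h1 : (s : ℤ) ∣ (q : ℤ) - 1 := by
        have := Int.natCast_dvd_natCast.2 hsq
        rwa [Nat.cast_sub hq1.le, Nat.cast_one] at this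
      have h2 := dvd_sub_pow_of_dvd_sub h1 b
      rw [one_pow] at h2
      rw [hmod, ← Int.natCast_dvd_natCast, Nat.cast_sub (hpow _)]
      push_cast
      exact dvd_trans (pow_dvd_pow _ (Nat.le_succ b)) h2
    have gen : ∀ r, r.Prime → r ∣ n → ∀ s b, s.Prime → s ∣ q - 1 → s ≠ r →
        ∃ k, q ^ k ≡ 1 [MOD s ^ b] ∧ n.gcd k ∣ n / r := by
      intro r hr hrn s b hs hsq hsr
      refine ⟨s ^ b, sq s b hs hsq, gcd_dvd_div hn0 hr hrn fun h => ?_⟩
      have : r ∣ s ^ b := (dvd_pow_self r (hr.factorization_pos_of_dvd hn0 hrn).ne').trans h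
      exact hsr ((Nat.prime_dvd_prime_iff_eq hr hs).1 (hr.dvd_of_dvd_pow this)).symm
    have first : ∀ r : ℕ, r.Prime → r ∣ n → r ∣ q - 1 := by
      by_contra hcon
      push Not at hcon
      obtain ⟨r0, hr0, hr0n, hr0q⟩ := hcon
      obtain ⟨r, hrS, hrmax⟩ := Finset.exists_max_image
        (n.primeFactors.filter fun r => ¬ r ∣ q - 1) id
        ⟨r0, by simp [Nat.mem_primeFactors, hr0, hr0n, hn0, hr0q]⟩
      obtain ⟨hr1, hrq⟩ := Finset.mem_filter.1 hrS
      obtain ⟨hr, hrn, -⟩ := Nat.mem_primeFactors.1 hr1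
      refine reduce r hr hrn fun s hs hsm => ?_
      set b := (n * (q - 1)).factorization s with hb
      by_cases hsq : s ∣ q - 1
      · exact gen r hr hrn s b hs hsq (fun h => hrq (h ▸ hsq))
      have hsn : s ∣ n := (hs.dvd_mul.1 hsm).resolve_right hsq
      have hle : s ≤ r := hrmax s (by simp [Nat.mem_primeFactors, hs, hsn, hn0, hsq])
      have hb1 : b ≠ 0 := (hs.factorization_pos_of_dvd hm0 hsm).ne'
      have hcop : q.Coprime (s ^ b) := by
        refine Nat.Coprime.pow_right _ ((hs.coprime_iff_not_dvd.2 fun h => ?_).symm)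
        have h1 := hmod.1 (hm.of_dvd hsm)
        have := Nat.dvd_sub (dvd_pow h hn0) h1
        rw [Nat.sub_sub_self (hpow n)] at this
        exact hs.one_lt.ne' (Nat.dvd_one.1 this)
      refine ⟨(s ^ b).totient, Nat.ModEq.pow_totient hcop, gcd_dvd_div hn0 hr hrn fun h => ?_⟩
      rw [Nat.totient_prime_pow hs (Nat.pos_of_ne_zero hb1)] at h
      have hs1 : ¬ r ∣ s - 1 := fun h' => by
        have := Nat.le_of_dvd (by have := hs.two_le; omega) h'
        have := hr.two_le; omega
      have h2 := ((hr.coprime_iff_not_dvd.2 hs1).pow_left _).dvd_of_dvd_mul_right h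
      by_cases hsr : s = r
      · subst hsr
        have : b = n.factorization s := by
          rw [hb, Nat.factorization_mul hn0 (by omega)]
          simp [Nat.factorization_eq_zero_of_not_dvd hrq]
        rw [Nat.pow_dvd_pow_iff_le_right hs.one_lt] at h2
        omega
      · have : r ∣ s ^ (b - 1) :=
          (dvd_pow_self r (hr.factorization_pos_of_dvd hn0 hrn).ne').trans h2
        exact hsr ((Nat.prime_dvd_prime_iff_eq hr hs).1 (hr.dvd_of_dvd_pow this)).symm
    refine ⟨first, fun h4 => ?_⟩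
    by_contra h4q
    have h2n : 2 ∣ n := (by norm_num : 2 ∣ 4).trans h4
    have h2q := first 2 Nat.prime_two h2n
    refine reduce 2 Nat.prime_two h2n fun s hs hsm => ?_
    by_cases hs2 : s = 2
    · subst hs2
      refine ⟨2 ^ (n.factorization 2 - 1), ?_, gcd_dvd_div hn0 Nat.prime_two h2n fun h => ?_⟩
      · have hv1 : (q - 1).factorization 2 = 1 := by
          refine le_antisymm ?_ (Nat.prime_two.factorization_pos_of_dvd (by omega) h2q)
          by_contra hgt
          exact h4q (((pow_dvd_pow 2 (by omega : 2 ≤ (q - 1).factorization 2))).trans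
            (Nat.ordProj_dvd (q - 1) 2))
        have ha : 2 ≤ n.factorization 2 :=
          (Nat.prime_two.pow_dvd_iff_le_factorization hn0).1 h4
        rw [Nat.factorization_mul hn0 (by omega), Finsupp.add_apply, hv1, hmod]
        have := Fact.mk Nat.prime_two
        have hev : Even (2 ^ (n.factorization 2 - 1)) := Nat.even_pow.2 ⟨even_two, by omega⟩
        have h5 := padicValNat.pow_two_sub_one_ge hq1 (by omega) (by positivity) hev
        rw [padicValNat.prime_pow] at h5
        exact (pow_dvd_pow 2 (by omega)).trans pow_padicValNat_dvd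
      · rw [Nat.pow_dvd_pow_iff_le_right (by norm_num)] at h
        have := Nat.prime_two.factorization_pos_of_dvd hn0 h2n
        omega
    · have hsq : s ∣ q - 1 := by
        rcases hs.dvd_mul.1 hsm with h | h
        · exact first s hs h
        · exact h
      exact gen 2 Nat.prime_two h2n s _ hs hsq hs2

end Cfsg.Agent.S0694
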