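import Cfsg.Statements.S0695

import Mathlib

set_option autoImplicit false
set_option linter.style.haveILetI false
open Cfsg

namespace Cfsg.Agent.S0695
open scoped Pointwise

/-- A regular normal subgroup of a doubly primitive group of finite degree at least 2 is an elementary abelian 2-group (and the degree is a power of 2), unless the degree is 3. -/
theorem result {G : Type*} [Group G] {X : Type*} [Fintype X] [MulAction G X] (hX : 2 ≤ Fintype.card X) (h2 : MulAction.IsMultiplyPreprimitive G X 2) (N : Subgroup G) [N.Normal] (htrans : MulAction.IsPretransitive N X) (hreg : ∀ x : X, MulAction.stabilizer N x = ⊥) : Fintype.card X = 3 ∨ (IsMulCommutative N ∧ (∀ n ∈ N, n ^ 2 = 1) ∧ ∃ m : ℕ, Fintype.card X = 2 ^ m) := by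
  classical
  obtain ⟨a⟩ : Nonempty X := Fintype.card_pos_iff.mp (by omega)
  have hinj : Function.Injective (fun n : N => n • a) := by
    intro u v huv
    have h1 : v⁻¹ * u ∈ MulAction.stabilizer N a := by
      rw [MulAction.mem_stabilizer_iff, mul_smul, inv_smul_eq_iff]
      exact huv
    rw [hreg a, Subgroup.mem_bot] at h1
    exact (inv_mul_eq_one.mp h1).symm
  haveI := htrans
  have hbij : Function.Bijective (fun n : N => n • a) :=
    ⟨hinj, fun x => MulAction.exists_smul_eq N a x⟩
  have hcardN : Nat.card N = Fintype.card X := by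
    rw [Nat.card_eq_of_bijective _ hbij, Nat.card_eq_fintype_card]
  haveI : Finite N := Finite.of_injective _ hinj
  by_cases h3 : Fintype.card X = 3
  · exact Or.inl h3
  haveI hprim := MulAction.IsMultiplyPreprimitive.isPreprimitive_ofFixingSubgroup (M := G) 2
    (s := {a}) (by rw [Set.encard_singleton]; rfl)
  have hsq : ∀ n ∈ N, n ^ 2 = 1 := by
    intro n hn
    by_contra hne
    have hn1 : n ≠ 1 := fun h => hne (by rw [h, one_pow])
    have hY : ∀ u : G, u ∈ N → u ≠ 1 → u • a ∈ SubMulAction.ofFixingSubgroup G {a} := by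
      intro u hu hu1 hmem
      have h2 : (fun n : N => n • a) ⟨u, hu⟩ = (fun n : N => n • a) 1 := by
        show u • a = (1 : N) • a
        rw [one_smul]
        exact hmem
      exact hu1 (congrArg Subtype.val (hinj h2))
    let B : Set (SubMulAction.ofFixingSubgroup G ({a} : Set X)) :=
      {y | (y : X) = n • a ∨ (y : X) = n⁻¹ • a}
    have hB : MulAction.IsBlock (fixingSubgroup G ({a} : Set X)) B := by
      rw [MulAction.isBlock_iff_smul_eq_of_nonempty]
      intro g hg
      have hga : (g : G) • a = a := (mem_fixingSubgroup_iff G).mp g.2 a rfl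
      set m : G := (g : G) * n * (g : G)⁻¹ with hm_def
      have hmN : m ∈ N := Subgroup.Normal.conj_mem inferInstance n hn _
      have hconj : ∀ u : G, (g : G) • (u • a) = ((g : G) * u * (g : G)⁻¹) • a := by
        intro u
        conv_rhs => rw [mul_smul, mul_smul, inv_smul_eq_iff.mpr hga.symm]
      have himg : g • B = {y : SubMulAction.ofFixingSubgroup G ({a} : Set X) | (y : X) = m • a ∨ (y : X) = m⁻¹ • a} := by
        have hminv : m⁻¹ = (g : G) * n⁻¹ * (g : G)⁻¹ := by
          rw [hm_def]; group
        ext y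
        rw [Set.mem_smul_set_iff_inv_smul_mem]
        show ((g⁻¹ • y : SubMulAction.ofFixingSubgroup G ({a} : Set X)) : X) = n • a ∨
          ((g⁻¹ • y : SubMulAction.ofFixingSubgroup G ({a} : Set X)) : X) = n⁻¹ • a ↔ _
        simp only [Set.mem_setOf_eq, SubMulAction.val_smul, Subgroup.smul_def, InvMemClass.coe_inv,
          inv_smul_eq_iff, hconj, ← hminv]
        rw [← hm_def]
      obtain ⟨y, hy, hy'⟩ := hg
      rw [himg] at hy ⊢
      have key : ∀ u v : G, u ∈ N → v ∈ N → u • a = v • a → u = v := fun u v hu hv h =>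
        congrArg Subtype.val (hinj (a₁ := ⟨u, hu⟩) (a₂ := ⟨v, hv⟩) h)
      have hmn : m = n ∨ m = n⁻¹ := by
        rcases hy with hy | hy <;> rcases hy' with hy' | hy' <;> rw [hy] at hy'
        · exact Or.inl (key _ _ hmN hn hy')
        · exact Or.inr (key _ _ hmN (N.inv_mem hn) hy')
        · exact Or.inr (inv_eq_iff_eq_inv.mp (key _ _ (N.inv_mem hmN) hn hy'))
        · exact Or.inl (inv_injective (key _ _ (N.inv_mem hmN) (N.inv_mem hn) hy'))
      rcases hmn with h | h <;> rw [h]
      ext y
      simp only [Set.mem_setOf_eq, inv_inv, B]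
      exact or_comm
    rcases hprim.isTrivialBlock_of_isBlock hB with hs | hs
    · have h2 := hs (x := ⟨n • a, hY n hn hn1⟩) (Or.inl rfl)
        (y := ⟨n⁻¹ • a, hY n⁻¹ (N.inv_mem hn) (inv_ne_one.mpr hn1)⟩) (Or.inr rfl)
      have h4 : n = n⁻¹ := congrArg Subtype.val
        (hinj (a₁ := ⟨n, hn⟩) (a₂ := ⟨n⁻¹, N.inv_mem hn⟩) (congrArg Subtype.val h2))
      apply hne
      rw [pow_two]
      nth_rw 2 [h4]
      exact mul_inv_cancel n
    · apply h3
      have hsub : (Finset.univ : Finset X) ⊆ {a, n • a, n⁻¹ • a} := by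
        intro x _
        by_cases hx : x = a
        · simp [hx]
        · have h2 : (⟨x, hx⟩ : SubMulAction.ofFixingSubgroup G ({a} : Set X)) ∈ B :=
            hs ▸ Set.mem_univ _
          rcases h2 with h2 | h2 <;> simp only at h2 <;> simp [h2]
      have hle : Fintype.card X ≤ 3 := (Finset.card_le_card hsub).trans Finset.card_le_three
      by_contra hc
      have h22 : Nat.card N = 2 := by omega
      apply hne
      have h5 := pow_card_eq_one' (G := N) (x := ⟨n, hn⟩)
      rw [h22] at h5
      exact congrArg Subtype.val h5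
  refine Or.inr ⟨⟨⟨fun u v => ?_⟩⟩, hsq, ?_⟩
  · apply Subtype.ext
    have h1 : ∀ w ∈ N, w⁻¹ = w := fun w hw => by
      apply inv_eq_of_mul_eq_one_right
      rw [← pow_two]; exact hsq w hw
    calc (u : G) * v = ((u : G) * v)⁻¹ := (h1 _ (N.mul_mem u.2 v.2)).symm
      _ = (v : G) * u := by rw [mul_inv_rev, h1 _ u.2, h1 _ v.2]
  · have hP : IsPGroup 2 N := fun n => ⟨1, Subtype.ext (by rw [pow_one]; exact hsq _ n.2)⟩
    obtain ⟨m, hm⟩ := IsPGroup.iff_card.mp hP
    exact ⟨m, hcardN ▸ hm⟩

end Cfsg.Agent.S0695
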