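import Cfsg.Statements.S0696

import Mathlib
import Cfsg.Agent.S0695

set_option autoImplicit false
set_option linter.style.haveILetI false
open Cfsg

namespace Cfsg.Agent.S0696
open scoped Pointwise

/-- A triply primitive group of degree at least 3 having a regular normal subgroup has degree 3 or 4. -/
theorem result {G : Type*} [Group G] {X : Type*} [Fintype X] [MulAction G X] (hX : 3 ≤ Fintype.card X) (h3 : MulAction.IsMultiplyPreprimitive G X 3) (N : Subgroup G) [N.Normal] (htrans : MulAction.IsPretransitive N X) (hreg : ∀ x : X, MulAction.stabilizer N x = ⊥) : Fintype.card X = 3 ∨ Fintype.card X = 4 := by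
  classical
  by_contra hcon
  push Not at hcon
  have h2 := MulAction.isMultiplyPreprimitive_of_le (M := G) (α := X) h3 (show 2 ≤ 3 by omega)
    (by rw [ENat.card_eq_coe_fintype_card]; exact_mod_cast hX)
  rcases Cfsg.Agent.S0695.result (by omega) h2 N htrans hreg with h | ⟨hcomm, hsq, -⟩
  · exact hcon.1 h
  obtain ⟨a⟩ : Nonempty X := Fintype.card_pos_iff.mp (by omega)
  haveI := htrans
  have key : ∀ u v : G, u ∈ N → v ∈ N → u • a = v • a → u = v := by
    intro u v hu hv huv
    have h1 : (⟨v, hv⟩⁻¹ * ⟨u, hu⟩ : N) ∈ MulAction.stabilizer N a := by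
      show (v⁻¹ * u) • a = a
      rw [mul_smul, inv_smul_eq_iff]
      exact huv
    rw [hreg a, Subgroup.mem_bot] at h1
    exact (congrArg Subtype.val (inv_mul_eq_one.mp h1)).symm
  have hcomm' : ∀ u v : G, u ∈ N → v ∈ N → u * v = v * u := fun u v hu hv =>
    congrArg Subtype.val (hcomm.1.1 ⟨u, hu⟩ ⟨v, hv⟩)
  obtain ⟨b, hb⟩ := Fintype.exists_ne_of_one_lt_card (by omega) a
  obtain ⟨⟨n, hn⟩, hna⟩ := MulAction.exists_smul_eq N a b
  replace hna : n • a = b := hna
  obtain ⟨c, hca, hcb⟩ : ∃ c, c ≠ a ∧ c ≠ b := by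
    by_contra hc
    push Not at hc
    have : (Finset.univ : Finset X) ⊆ {a, b} := fun x _ => by
      by_cases hx : x = a
      · simp [hx]
      · simp [hc x hx]
    have := (Finset.card_le_card this).trans Finset.card_le_two
    rw [Finset.card_univ] at this
    omega
  obtain ⟨⟨m, hm⟩, hma⟩ := MulAction.exists_smul_eq N a c
  replace hma : m • a = c := hma
  haveI hprim := MulAction.IsMultiplyPreprimitive.isPreprimitive_ofFixingSubgroup (M := G) 3
    (s := {a, b}) (by rw [Set.encard_pair hb.symm]; rfl)
  have hY : ∀ u : G, u ∈ N → u ≠ 1 → u ≠ n →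
      u • a ∈ SubMulAction.ofFixingSubgroup G ({a, b} : Set X) := by
    intro u hu hu1 hun hmem
    rcases hmem with h | h
    · exact hu1 (key u 1 hu N.one_mem (by rw [one_smul]; exact h))
    · exact hun (key u n hu hn (by rw [hna]; exact h))
  have hm1 : m ≠ 1 := fun h => hca (by rw [← hma, h, one_smul])
  have hmn : m ≠ n := fun h => hcb (by rw [← hma, h, hna])
  have hn1 : n ≠ 1 := fun h => hb (by rw [← hna, h, one_smul])
  have hnn : n * n = 1 := by rw [← pow_two]; exact hsq n hn
  let B : Set (SubMulAction.ofFixingSubgroup G ({a, b} : Set X)) :=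
    {y | (y : X) = m • a ∨ (y : X) = (m * n) • a}
  have hB : MulAction.IsBlock (fixingSubgroup G ({a, b} : Set X)) B := by
    rw [MulAction.isBlock_iff_smul_eq_of_nonempty]
    intro g hg
    have hga : (g : G) • a = a := (mem_fixingSubgroup_iff G).mp g.2 a (by simp)
    have hgb : (g : G) • b = b := (mem_fixingSubgroup_iff G).mp g.2 b (by simp)
    have hconj : ∀ u : G, (g : G) • (u • a) = ((g : G) * u * (g : G)⁻¹) • a := by
      intro u
      conv_rhs => rw [mul_smul, mul_smul, inv_smul_eq_iff.mpr hga.symm]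
    have hgn : (g : G) * n * (g : G)⁻¹ = n :=
      key _ _ (Subgroup.Normal.conj_mem inferInstance n hn _) hn
        (by rw [← hconj, hna, hgb])
    set m' : G := (g : G) * m * (g : G)⁻¹ with hm'
    have hm'N : m' ∈ N := Subgroup.Normal.conj_mem inferInstance m hm _
    have hmn' : (g : G) * (m * n) * (g : G)⁻¹ = m' * n := by
      conv_rhs => rw [← hgn, hm']
      group
    have himg : g • B = {y : SubMulAction.ofFixingSubgroup G ({a, b} : Set X) | (y : X) = m' • a ∨ (y : X) = (m' * n) • a} := by
      ext y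
      rw [Set.mem_smul_set_iff_inv_smul_mem]
      show ((g⁻¹ • y : SubMulAction.ofFixingSubgroup G ({a, b} : Set X)) : X) = m • a ∨
        ((g⁻¹ • y : SubMulAction.ofFixingSubgroup G ({a, b} : Set X)) : X) = (m * n) • a ↔ _
      simp only [Set.mem_setOf_eq, SubMulAction.val_smul, Subgroup.smul_def, InvMemClass.coe_inv,
        inv_smul_eq_iff, hconj, hmn']
      rw [← hm']
    obtain ⟨y, hy, hy'⟩ := hg
    rw [himg] at hy ⊢
    have hcases : m' = m ∨ m' = m * n := by
      rcases hy with hy | hy <;> rcases hy' with hy' | hy' <;> rw [hy] at hy'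
      · exact Or.inl (key _ _ hm'N hm hy')
      · exact Or.inr (key _ _ hm'N (N.mul_mem hm hn) hy')
      · refine Or.inr ?_
        have h1 := key _ _ (N.mul_mem hm'N hn) hm hy'
        rw [← h1, mul_assoc, hnn, mul_one]
      · exact Or.inl (mul_right_cancel (key _ _ (N.mul_mem hm'N hn) (N.mul_mem hm hn) hy'))
    rcases hcases with h | h <;> rw [h]
    rw [mul_assoc, hnn, mul_one]
    ext y
    exact or_comm
  rcases hprim.isTrivialBlock_of_isBlock hB with hs | hs
  · have hne1 : m * n ≠ 1 := fun h => hmn (by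
      have := congrArg (· * n) h
      simpa [mul_assoc, hnn] using this)
    have hne2 : m * n ≠ n := fun h => hm1 (by
      have := congrArg (· * n) h
      simpa [mul_assoc, hnn] using this)
    have h4 := hs (x := ⟨m • a, hY m hm hm1 hmn⟩) (Or.inl rfl)
      (y := ⟨(m * n) • a, hY _ (N.mul_mem hm hn) hne1 hne2⟩) (Or.inr rfl)
    have h5 := key _ _ hm (N.mul_mem hm hn) (congrArg Subtype.val h4)
    exact hn1 (by simpa using h5.symm)
  · have hsub : (Finset.univ : Finset X) ⊆ {a, b, m • a, (m * n) • a} := by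
      intro x _
      by_cases hx : x ∈ ({a, b} : Set X)
      · rcases hx with hx | hx <;> simp_all
      · have h4 : (⟨x, hx⟩ : SubMulAction.ofFixingSubgroup G ({a, b} : Set X)) ∈ B :=
          hs ▸ Set.mem_univ _
        rcases h4 with h4 | h4 <;> simp only at h4 <;> simp [h4]
    have := (Finset.card_le_card hsub).trans Finset.card_le_four
    rw [Finset.card_univ] at this
    omega

end Cfsg.Agent.S0696
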