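import Cfsg.Statements.S0697

import Mathlib
import Cfsg.Agent.Perm.MultiTrans
import Cfsg.Agent.Perm.SharpTwo
import Cfsg.Agent.S0696

set_option autoImplicit false
set_option linter.style.haveILetI false
open Cfsg

namespace Cfsg.Agent.S0697

/-- In a `k`-primitive permutation group which is not the whole symmetric group, a non-trivial non-regular normal subgroup is `k`-transitive. -/
theorem result {α : Type*} [Fintype α] [DecidableEq α] (G : Subgroup (Equiv.Perm α)) {k : ℕ} (hk : 1 ≤ k) (hkn : k ≤ Fintype.card α) (hG : MulAction.IsMultiplyPreprimitive G α k) (htop : G ≠ ⊤) (H : Subgroup G) [H.Normal] (hH : H ≠ ⊥) (hnr : ∃ a : α, MulAction.stabilizer H a ≠ ⊥) : MulAction.IsMultiplyPretransitive H α k := by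
  classical
  have hprimle : ∀ j, j < k → MulAction.IsMultiplyPreprimitive G α (j + 1) := fun j hj =>
    MulAction.isMultiplyPreprimitive_of_le (M := G) (α := α) hG hj
      (by rw [ENat.card_eq_coe_fintype_card]; exact_mod_cast hkn)
  haveI := hG.isMultiplyPretransitive
  haveI hG1 : MulAction.IsPreprimitive G α := by
    have := hprimle 0 hk
    exact (MulAction.is_one_preprimitive_iff G α).mp this
  let F : Finset α → Subgroup G := fun T => H ⊓ fixingSubgroup G (T : Set α)
  have hFmem : ∀ (T : Finset α) (g : G), g ∈ fixingSubgroup G (T : Set α) ↔ ∀ x ∈ T, g • x = x :=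
    fun T g => mem_fixingSubgroup_iff G
  have hstep : ∀ T : Finset α, T.card < k → F T ≠ ⊥ → ∀ a b : α, a ∉ T → b ∉ T →
      ∃ g ∈ F T, g • a = b := by
    intro T hT hne a b ha hb
    haveI hp := MulAction.IsMultiplyPreprimitive.isPreprimitive_ofFixingSubgroup (M := G)
      (T.card + 1) (s := (T : Set α)) (self := hprimle _ hT)
      (by rw [Set.encard_coe_eq_coe_finsetCard]; rfl)
    haveI : ((F T).subgroupOf (fixingSubgroup G (T : Set α))).Normal := by
      constructor
      intro u hu v
      refine Subgroup.mem_subgroupOf.mpr (Subgroup.mem_inf.mpr ⟨?_, (v * u * v⁻¹).2⟩)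
      exact Subgroup.Normal.conj_mem inferInstance _ (Subgroup.mem_inf.mp hu).1 _
    have ht := MulAction.IsQuasiPreprimitive.isPretransitive_of_normal
      (G := fixingSubgroup G (T : Set α)) (X := SubMulAction.ofFixingSubgroup G (T : Set α))
      (N := (F T).subgroupOf (fixingSubgroup G (T : Set α))) (fun h => hne (by
        rw [Subgroup.eq_bot_iff_forall]
        intro g hg
        refine eq_of_smul_eq_smul (α := α) fun x => ?_
        rw [one_smul]
        by_cases hx : x ∈ T
        · exact (hFmem T g).mp hg.2 x hx
        · exact congrArg Subtype.val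
            (Set.eq_univ_iff_forall.mp h (⟨x, fun hm => hx (Finset.mem_coe.mp hm)⟩)
              ⟨⟨g, hg.2⟩, Subgroup.mem_subgroupOf.mpr hg⟩)))
    obtain ⟨g, hg⟩ := ht.exists_smul_eq ⟨a, fun hm => ha (Finset.mem_coe.mp hm)⟩
      ⟨b, fun hm => hb (Finset.mem_coe.mp hm)⟩
    exact ⟨((g : fixingSubgroup G (T : Set α)) : G), Subgroup.mem_subgroupOf.mp g.2,
      congrArg Subtype.val hg⟩
  have hne : ∀ j, j < k → ∀ T : Finset α, T.card = j → F T ≠ ⊥ := by
    intro j
    induction j using Nat.strong_induction_on with
    | _ j ih =>
      intro hj T hT hbot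
      rcases Nat.lt_or_ge j 2 with hj2 | hj2
      · rcases Nat.eq_zero_or_pos j with h0 | hpos
        · apply hH
          rw [eq_bot_iff, ← hbot]
          intro g hg
          refine Subgroup.mem_inf.mpr ⟨hg, (hFmem T g).mpr fun x hx => ?_⟩
          rw [Finset.card_eq_zero.mp (hT.trans h0)] at hx
          simp at hx
        · obtain ⟨b, rfl⟩ := Finset.card_eq_one.mp (show T.card = 1 by omega)
          obtain ⟨a, ha⟩ := hnr
          apply ha
          rw [Subgroup.eq_bot_iff_forall]
          intro u hu
          obtain ⟨g, hg⟩ := MulAction.exists_smul_eq G a b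
          have h1 : g * (u : G) * g⁻¹ ∈ F {b} := by
            refine Subgroup.mem_inf.mpr ⟨Subgroup.Normal.conj_mem inferInstance _ u.2 _,
              (hFmem _ _).mpr fun x hx => ?_⟩
            rw [Finset.mem_singleton] at hx
            rw [hx, mul_smul, mul_smul, inv_smul_eq_iff.mpr hg.symm]
            exact (congrArg (g • ·) (show (u : G) • a = a from hu)).trans hg
          rw [hbot, Subgroup.mem_bot, mul_inv_eq_one, mul_eq_left] at h1
          exact Subtype.ext h1
      obtain ⟨U, hUT, hUcard⟩ := Finset.exists_subset_card_eq (s := T) (n := j - 2) (by omega)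
      set L := F U with hL
      let Y := SubMulAction.ofFixingSubgroup G (U : Set α)
      let L' : Subgroup (fixingSubgroup G (U : Set α)) := L.subgroupOf (fixingSubgroup G (U : Set α))
      haveI hjT : MulAction.IsMultiplyPretransitive G α j := MulAction.isMultiplyPretransitive_of_le
        (n := k) (by omega) (by rw [Nat.card_eq_fintype_card]; exact hkn)
      have hallbot : ∀ T' : Finset α, T'.card = j → F T' = ⊥ := by
        intro T' hT'
        let e : Fin j ↪ α := (T.equivFinOfCardEq hT).symm.toEmbedding.trans (Function.Embedding.subtype _)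
        let e' : Fin j ↪ α := (T'.equivFinOfCardEq hT').symm.toEmbedding.trans (Function.Embedding.subtype _)
        obtain ⟨g, hg⟩ := MulAction.exists_smul_eq G e e'
        rw [Subgroup.eq_bot_iff_forall]
        intro u hu
        have h1 : g⁻¹ * u * g ∈ F T := by
          refine Subgroup.mem_inf.mpr ⟨?_, (hFmem _ _).mpr fun x hx => ?_⟩
          · simpa using Subgroup.Normal.conj_mem (inferInstance : H.Normal) u hu.1 g⁻¹
          · set i := T.equivFinOfCardEq hT ⟨x, hx⟩ with hi
            have hxe : e i = x := by simp [e, hi]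
            have hge : g • x = e' i := by rw [← hxe, ← hg]; rfl
            rw [mul_smul, mul_smul, inv_smul_eq_iff, hge]
            exact (hFmem T' u).mp hu.2 _ (Subtype.coe_prop _)
        rw [hbot, Subgroup.mem_bot] at h1
        have h2 := congrArg (fun z => g * z * g⁻¹) h1
        simpa [mul_assoc] using h2
      have htrans : ∀ (T' : Finset α), T'.card < j → ∀ a b : α, a ∉ T' → b ∉ T' →
          ∃ g ∈ F T', g • a = b := fun T' hT' =>
        hstep T' (by omega) (ih _ hT' (by omega) T' rfl)
      have hins : ∀ a : α, a ∉ U → ∀ (g : G), g ∈ F U → g • a = a → g ∈ F (insert a U) := by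
        intro a _ g hg hga
        refine Subgroup.mem_inf.mpr ⟨hg.1, (hFmem _ _).mpr fun x hx => ?_⟩
        rcases Finset.mem_insert.mp hx with rfl | hx
        · exact hga
        · exact (hFmem _ _).mp hg.2 x hx
      have hout : ∀ y : Y, (y : α) ∉ U := fun y hm => y.2 (Finset.mem_coe.mpr hm)
      have hsharp : CfsgLib.Perm.SharpTwo.Sharp L' Y := by
        refine ⟨fun a b c d hab hcd => ?_, fun g a b hab ha hb => ?_, ?_⟩
        · obtain ⟨g, hg, hgac⟩ := htrans U (by omega) a c (hout a) (hout c)
          have hgb : g • (b : α) ∉ insert (c : α) U := by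
            intro hm
            rcases Finset.mem_insert.mp hm with hm | hm
            · exact hab (Subtype.ext (MulAction.injective g (hm.trans hgac.symm)).symm)
            · have h3 : g • (g • (b : α)) = g • (b : α) := (hFmem U g).mp hg.2 _ hm
              exact hout b (MulAction.injective g h3 ▸ hm)
          have hd : (d : α) ∉ insert (c : α) U := by
            intro hm
            rcases Finset.mem_insert.mp hm with hm | hm
            · exact hcd (Subtype.ext hm.symm)
            · exact hout d hm
          obtain ⟨u, hu, hub⟩ := htrans (insert (c : α) U)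
            (by rw [Finset.card_insert_of_notMem (hout c)]; omega) _ _ hgb hd
          have huU : u ∈ F U := Subgroup.mem_inf.mpr ⟨hu.1, (hFmem U u).mpr fun x hx =>
            (hFmem _ u).mp hu.2 x (Finset.mem_insert_of_mem hx)⟩
          refine ⟨⟨⟨u * g, ((F U).mul_mem huU hg).2⟩, Subgroup.mem_subgroupOf.mpr
            ((F U).mul_mem huU hg)⟩, Subtype.ext ?_, Subtype.ext ?_⟩
          · show (u * g) • (a : α) = c
            rw [mul_smul, hgac]
            exact (hFmem _ u).mp hu.2 _ (Finset.mem_insert_self _ _)
          · show (u * g) • (b : α) = d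
            rw [mul_smul, hub]
        · have hgU : ((g : fixingSubgroup G (U : Set α)) : G) ∈ F U := Subgroup.mem_subgroupOf.mp g.2
          have h1 : ((g : fixingSubgroup G (U : Set α)) : G) ∈ F (insert (b : α) (insert (a : α) U)) := by
            refine Subgroup.mem_inf.mpr ⟨hgU.1, (hFmem _ _).mpr fun x hx => ?_⟩
            rcases Finset.mem_insert.mp hx with rfl | hx
            · exact congrArg Subtype.val hb
            rcases Finset.mem_insert.mp hx with rfl | hx
            · exact congrArg Subtype.val ha
            · exact (hFmem _ _).mp hgU.2 x hx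
          rw [hallbot _ (by
            rw [Finset.card_insert_of_notMem, Finset.card_insert_of_notMem (hout a)]
            · omega
            · intro hm
              rcases Finset.mem_insert.mp hm with hm | hm
              · exact hab (Subtype.ext hm.symm)
              · exact hout b hm), Subgroup.mem_bot] at h1
          exact Subtype.ext (Subtype.ext h1)
        · have hY : Nat.card Y = Fintype.card α - U.card := by
            have h2 : Nat.card Y = ((U : Set α)ᶜ).ncard := Nat.card_coe_set_eq _
            rw [h2, Set.ncard_compl, Set.ncard_coe_finset, Nat.card_eq_fintype_card]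
          omega
      obtain ⟨K, p, jj, hp, hjj, hcard, hKn, hKc, -, -, hKmem, hKtr, hKfree⟩ :=
        CfsgLib.Perm.SharpTwo.exists_kernel hsharp
      let N := K.map L'.subtype
      have hNmem : ∀ g : fixingSubgroup G (U : Set α), g ∈ N ↔
          (g : G) ∈ H ∧ (g = 1 ∨ ∀ y : Y, g • y ≠ y) := by
        intro g
        constructor
        · rintro ⟨u, hu, rfl⟩
          refine ⟨(Subgroup.mem_subgroupOf.mp u.2).1, ((hKmem u).mp hu).imp (fun h => by rw [h]; rfl) id⟩
        · rintro ⟨hgH, hg⟩
          refine ⟨⟨g, Subgroup.mem_subgroupOf.mpr ⟨hgH, g.2⟩⟩, ?_, rfl⟩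
          exact (hKmem _).mpr (hg.imp (fun h => Subtype.ext h) id)
      haveI : N.Normal := by
        constructor
        intro u hu v
        obtain ⟨h1, h2⟩ := (hNmem u).mp hu
        refine (hNmem _).mpr ⟨Subgroup.Normal.conj_mem inferInstance _ h1 _, h2.imp
          (fun h => by rw [h]; group) fun h y hy => h (v⁻¹ • y) ?_⟩
        rw [mul_smul, mul_smul, smul_eq_iff_eq_inv_smul] at hy
        exact hy
      haveI : Fintype Y := Fintype.ofFinite _
      haveI := hprimle j hj
      have h3p : MulAction.IsMultiplyPreprimitive (fixingSubgroup G (U : Set α)) Y 3 :=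
        MulAction.ofFixingSubgroup.isMultiplyPreprimitive (M := G) (α := α) (n := j + 1)
          (by rw [Set.ncard_coe_finset, hUcard]; omega)
      have hY : Fintype.card Y = Fintype.card α - U.card := by
        rw [← Nat.card_eq_fintype_card, ← Nat.card_eq_fintype_card (α := α),
          ← Set.ncard_coe_finset U, ← Set.ncard_compl]
        exact Nat.card_coe_set_eq _
      have h4 := Cfsg.Agent.S0696.result (G := fixingSubgroup G (U : Set α)) (X := Y)
        (by omega) h3p N ⟨fun x y => by
          obtain ⟨u, hu, hux⟩ := hKtr x y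
          exact ⟨⟨_, ⟨u, hu, rfl⟩⟩, hux⟩⟩ (fun x => by
          rw [Subgroup.eq_bot_iff_forall]
          rintro ⟨_, u, hu, rfl⟩ hux
          have h5 := hKfree x u hu hux
          exact Subtype.ext (by simp [h5]))
      apply htop
      refine Equiv.Perm.eq_top_of_isMultiplyPretransitive ?_
      haveI := (hprimle j hj).isMultiplyPretransitive
      exact MulAction.isMultiplyPretransitive_of_le (n := j + 1)
        (by rw [Nat.card_eq_fintype_card]; omega) (by rw [Nat.card_eq_fintype_card]; omega)
  have hmain := CfsgLib.Perm.isMultiplyPretransitive_of_fix (H.map G.subtype) (k := k) fun T hT a b ha hb => by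
    obtain ⟨g, hg, hgab⟩ := hstep T hT (hne _ hT T rfl) a b ha hb
    exact ⟨g, ⟨g, hg.1, rfl⟩, fun x hx => (hFmem T g).mp hg.2 x hx, hgab⟩
  constructor
  intro x y
  obtain ⟨⟨_, g, hg, rfl⟩, hgxy⟩ := hmain.exists_smul_eq x y
  exact ⟨⟨g, hg⟩, hgxy⟩

end Cfsg.Agent.S0697
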