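import Cfsg.Statements.S0700

import Mathlib
import Cfsg.Agent.Perm.MultiTrans
import Cfsg.Agent.Solv.Frobenius
import Cfsg.Agent.Solv.MinimalNormal

set_option autoImplicit false
set_option linter.style.haveILetI false
open Cfsg

namespace Cfsg.Agent.S0700
open scoped Pointwise

variable {G α : Type*} [Group G] [Finite G] [Finite α] [MulAction G α] [FaithfulSMul G α]

omit [Finite G] in
/-- In a normal subgroup of a doubly transitive group all two-point stabilisers have the same
order, and the orbits of a point stabiliser on the other points have the same length. -/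
theorem card_two_point (h2 : MulAction.IsMultiplyPretransitive G α 2) (N : Subgroup G) [N.Normal]
    {a b c d : α} (hab : a ≠ b) (hcd : c ≠ d) :
    Nat.card ↥(MulAction.stabilizer N a ⊓ MulAction.stabilizer N b)
      = Nat.card ↥(MulAction.stabilizer N c ⊓ MulAction.stabilizer N d) := by
  obtain ⟨g, hga, hgb⟩ := MulAction.is_two_pretransitive_iff.mp h2 hab hcd
  refine Nat.card_congr ((MulAut.conjNormal g).toEquiv.subtypeEquiv fun u => ?_)
  have key : ∀ x : α, ((MulAut.conjNormal g u : N) : G) • (g • x) = g • ((u : G) • x) := by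
    intro x
    rw [MulAut.conjNormal_apply, mul_smul, mul_smul, inv_smul_smul]
  simp only [Subgroup.mem_inf, MulAction.mem_stabilizer_iff, Subgroup.smul_def]
  show (u : G) • a = a ∧ (u : G) • b = b ↔
    ((MulAut.conjNormal g u : N) : G) • c = c ∧ ((MulAut.conjNormal g u : N) : G) • d = d
  rw [← hga, ← hgb, key, key, smul_left_cancel_iff, smul_left_cancel_iff]

/-- The main step: such a subgroup, if it is minimal normal and not semiregular, is primitive. -/
theorem primitive_of_min (h2 : MulAction.IsMultiplyPretransitive G α 2) (N : Subgroup G) [N.Normal]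
    (htN : MulAction.IsPretransitive N α)
    (hmin : ∀ M : Subgroup G, M.Normal → M ≤ N → M = ⊥ ∨ M = N)
    (a₀ : α) (ha₀ : MulAction.stabilizer N a₀ ≠ ⊥) :
    MulAction.IsPreprimitive N α := by
  classical
  refine MulAction.IsPreprimitive.of_isTrivialBlock_base a₀ fun {B} haB hB => ?_
  by_contra hcon
  rw [MulAction.IsTrivialBlock, not_or] at hcon
  obtain ⟨hsub, huniv⟩ := hcon
  have hb1 : 1 < B.ncard := Set.one_lt_ncard_iff_nontrivial.mpr (Set.not_subsingleton_iff.mp hsub)
  set Sa := MulAction.stabilizer N a₀ with hSa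
  set d := ∀ x y : α, x ≠ y → Nat.card ↥(MulAction.stabilizer N x ⊓ MulAction.stabilizer N y) = 0
  obtain ⟨z, hz⟩ := (Set.ne_univ_iff_exists_notMem B).mp huniv
  have hza : z ≠ a₀ := fun h => hz (h ▸ haB)
  set D := (MulAction.orbit Sa z).ncard with hD
  have horb : ∀ y : α, y ≠ a₀ → (MulAction.orbit Sa y).ncard = D := by
    intro y hy
    have h1 : ∀ w : α, (MulAction.orbit Sa w).ncard
        * Nat.card ↥(Sa ⊓ MulAction.stabilizer N w) = Nat.card Sa := by
      intro w
      have h3 := Nat.card_congr (MulAction.orbitProdStabilizerEquivGroup Sa w)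
      rw [Nat.card_prod, Nat.card_coe_set_eq] at h3
      have h4 : Nat.card (MulAction.stabilizer Sa w) = Nat.card ↥(Sa ⊓ MulAction.stabilizer N w) :=
        Nat.card_congr ⟨fun u => ⟨u.1.1, u.1.2, u.2⟩, fun u => ⟨⟨u.1, u.2.1⟩, u.2.2⟩,
          fun _ => rfl, fun _ => rfl⟩
      rw [← h4]; exact h3
    have h5 := card_two_point h2 N (Ne.symm hy) (Ne.symm hza)
    have h6 := (h1 y).trans (h1 z).symm
    rw [hSa] at h6 ⊢
    rw [h5] at h6
    exact Nat.eq_of_mul_eq_mul_right Nat.card_pos h6
  have hfixB : ∀ g : Sa, g • B = B := by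
    intro g
    exact MulAction.isBlock_iff_smul_eq_of_nonempty.mp hB
      ⟨a₀, ⟨a₀, haB, (g.2 : (g : N) • a₀ = a₀)⟩, haB⟩
  have hd1 : D ∣ B.ncard - 1 := by
    have h7 : (B \ {a₀}).ncard = B.ncard - 1 := Set.ncard_diff_singleton_of_mem haB
    rw [← h7]
    refine CfsgLib.Perm.dvd_ncard_of_orbits (H := Sa) _ ?_ fun y hy => horb y hy.2
    intro g y hy
    refine ⟨(hfixB g) ▸ Set.smul_mem_smul_set hy.1, fun h => hy.2 ?_⟩
    exact MulAction.injective (g : N) ((h : g • y = a₀).trans (g.2 : (g : N) • a₀ = a₀).symm)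
  have hcop : Nat.Coprime D B.ncard := by
    have h8 : Nat.Coprime (B.ncard - 1) B.ncard := by
      have := (Nat.coprime_self_add_right (m := B.ncard - 1) (n := 1)).mpr (Nat.coprime_one_right _)
      rwa [show B.ncard - 1 + 1 = B.ncard by omega] at this
    exact h8.coprime_dvd_left hd1
  have hkey : ∀ x : α, x ∉ B → ∀ g : Sa, g • x = x → ∀ (u : N) (y : α), x ∈ u • B → y ∈ u • B → g • y = y := by
    have hstep : ∀ x : α, x ∉ B → ∀ (u : N), x ∈ u • B → ∀ g : Sa,
        (g • x = x ↔ g • (u • B) = u • B) := by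
      intro x hx u hxu
      have hblk : MulAction.IsBlock N (u • B) := hB.translate u
      have hsubset : ∀ g : Sa, g • x = x → g • (u • B) = u • B := fun g hg =>
        MulAction.isBlock_iff_smul_eq_of_nonempty.mp hblk ⟨x, ⟨x, hxu, hg⟩, hxu⟩
      set 𝒞 : Set (Set α) := MulAction.orbit Sa (u • B) with h𝒞
      have hdisj : ∀ C ∈ 𝒞, ∀ C' ∈ 𝒞, C ≠ C' → Disjoint C C' := by
        rintro _ ⟨g, rfl⟩ _ ⟨g', rfl⟩ hne
        rw [Set.disjoint_left]
        intro w hw hw'
        apply hne
        obtain ⟨w₁, hw₁, rfl⟩ := hw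
        have h9 : ((g' : N)⁻¹ * (g : N)) • (u • B) = u • B :=
          MulAction.isBlock_iff_smul_eq_of_nonempty.mp hblk (by
            obtain ⟨w₂, hw₂, hw₂e⟩ := hw'
            refine ⟨w₂, ⟨w₁, hw₁, ?_⟩, hw₂⟩
            show ((g' : N)⁻¹ * (g : N)) • w₁ = w₂
            rw [mul_smul, inv_smul_eq_iff]
            exact hw₂e.symm)
        rw [mul_smul, inv_smul_eq_iff] at h9
        exact h9
      have hU : D ∣ (⋃ C ∈ 𝒞, C).ncard := by
        refine CfsgLib.Perm.dvd_ncard_of_orbits (H := Sa) _ ?_ ?_
        · intro g y hy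
          obtain ⟨C, hC, hyC⟩ := Set.mem_iUnion₂.mp hy
          exact Set.mem_iUnion₂.mpr ⟨g • C, MulAction.mem_orbit_of_mem_orbit g hC,
            Set.smul_mem_smul_set hyC⟩
        · intro y hy
          refine horb y fun hya => ?_
          obtain ⟨C, ⟨g, rfl⟩, hyC⟩ := Set.mem_iUnion₂.mp hy
          rw [hya] at hyC
          have h10 : (g : Sa) • (u • B) = B := by
            have hblk2 : MulAction.IsBlock N ((g : N) • (u • B)) := hblk.translate _
            have h11 := hB.smul_eq_smul_or_disjoint ((g : N) * u) 1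
            rcases h11 with h11 | h11
            · rw [one_smul, mul_smul] at h11
              exact h11
            · exfalso
              rw [one_smul, mul_smul] at h11
              exact Set.disjoint_left.mp h11 hyC haB
          have h12 : u • B = B := by
            have := congrArg (fun X : Set α => g⁻¹ • X) h10
            simp only [inv_smul_smul] at this
            rw [this]
            exact hfixB _
          exact hx (h12 ▸ hxu)
      have hUcard : (⋃ C ∈ 𝒞, C).ncard = 𝒞.ncard * B.ncard := by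
        haveI : Fintype α := Fintype.ofFinite α
        have hfin : 𝒞.Finite := Set.toFinite _
        rw [Set.ncard_eq_toFinset_card _ hfin, Set.ncard_eq_toFinset_card' (⋃ C ∈ 𝒞, C)]
        have h13 : (⋃ C ∈ 𝒞, C).toFinset = hfin.toFinset.biUnion fun C => C.toFinset := by
          ext w; simp
        rw [h13, Finset.card_biUnion]
        · rw [Finset.sum_congr rfl fun C hC => ?_, Finset.sum_const, smul_eq_mul]
          obtain ⟨g, rfl⟩ := hfin.mem_toFinset.mp hC
          rw [← Set.ncard_eq_toFinset_card']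
          show (g • (u • B)).ncard = B.ncard
          rw [Set.ncard_smul_set, Set.ncard_smul_set]
        · intro C hC C' hC' hne
          simp only [Function.onFun, Set.disjoint_toFinset]
          exact hdisj C (hfin.mem_toFinset.mp hC) C' (hfin.mem_toFinset.mp hC') hne
      rw [hUcard] at hU
      have hdle : D ∣ 𝒞.ncard := hcop.dvd_of_dvd_mul_right hU
      have hxa : x ≠ a₀ := fun h => hx (h ▸ haB)
      have hxC : MulAction.stabilizer Sa x ≤ MulAction.stabilizer Sa (u • B) := fun g hg =>
        hsubset g hg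
      have h14 : (MulAction.stabilizer Sa x).index ∣ (MulAction.stabilizer Sa (u • B)).index := by
        rw [MulAction.index_stabilizer, MulAction.index_stabilizer, horb x hxa]
        exact hdle
      have h15 := Nat.dvd_antisymm h14 (Subgroup.index_dvd_of_le hxC)
      have h16 : MulAction.stabilizer Sa x = MulAction.stabilizer Sa (u • B) := by
        refine Subgroup.eq_of_le_of_card_ge hxC ?_
        have h17 := (MulAction.stabilizer Sa x).card_mul_index
        have h18 := (MulAction.stabilizer Sa (u • B)).card_mul_index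
        rw [h15] at h17
        exact (Nat.eq_of_mul_eq_mul_right (Nat.pos_of_ne_zero Subgroup.index_ne_zero_of_finite)
          (h18.trans h17.symm)).le
      intro g
      exact SetLike.ext_iff.mp h16 g
    intro x hx g hgx u y hxu hyu
    have hy : y ∉ B := by
      intro hyB
      have h19 : u • B = B := MulAction.isBlock_iff_smul_eq_of_nonempty.mp hB ⟨y, hyu, hyB⟩
      exact hx (h19 ▸ hxu)
    exact (hstep y hy u hyu g).mpr ((hstep x hx u hxu g).mp hgx)
  have hpairs : ∀ a b : α, a ≠ b → ∀ g : N, g • a = a → g • b = b → g = 1 := by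
    have hB' : ∀ x : α, x ∉ B → ∀ a' ∈ B, ∀ g : N, g • a₀ = a₀ → g • x = x → g • a' = a' := by
      intro x hx a' ha' g hga hgx
      obtain ⟨v, hv⟩ := MulAction.exists_smul_eq N x a₀
      have hvb : a₀ ∉ v • B ∨ a₀ ∈ v • B := (em _).symm
      rcases hvb with hnot | hin
      · have hxv : v • x = a₀ := hv
        have hg' : v * g * v⁻¹ ∈ Sa := by
          rw [hSa, MulAction.mem_stabilizer_iff, mul_smul, mul_smul, inv_smul_eq_iff.mpr hxv.symm,
            hgx, hxv]
        have hout : v • a₀ ∉ B := by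
          intro hmem
          apply hnot
          have h20 : v • B = B := MulAction.isBlock_iff_smul_eq_of_nonempty.mp hB
            ⟨v • a₀, Set.smul_mem_smul_set haB, hmem⟩
          rw [h20]; exact haB
        have hfixva : (⟨_, hg'⟩ : Sa) • (v • a₀) = v • a₀ := by
          show (v * g * v⁻¹) • (v • a₀) = v • a₀
          rw [mul_smul, mul_smul, inv_smul_smul, hga]
        have h21 := hkey _ hout ⟨_, hg'⟩ hfixva v (v • a') (Set.smul_mem_smul_set haB)
          (Set.smul_mem_smul_set ha')
        have h22 : (v * g * v⁻¹) • (v • a') = v • a' := h21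
        rw [mul_smul, mul_smul, inv_smul_smul] at h22
        exact MulAction.injective v h22
      · exfalso
        apply hx
        obtain ⟨w, hw, hwe⟩ := hin
        have : w = x := MulAction.injective v (hwe.trans hv.symm)
        exact this ▸ hw
    obtain ⟨a', ha', ha'ne⟩ : ∃ a' ∈ B, a' ≠ a₀ := by
      by_contra hc
      push Not at hc
      exact hsub fun p hp q hq => (hc p hp).trans (hc q hq).symm
    have hall : ∀ g : N, g • a₀ = a₀ → g • a' = a' → g = 1 := by
      intro g hga hga'
      have hout : ∀ x : α, x ∉ B → g • x = x := by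
        intro x hx
        have hle : Sa ⊓ MulAction.stabilizer N x ≤ Sa ⊓ MulAction.stabilizer N a' :=
          fun k hk => ⟨hk.1, hB' x hx a' ha' k hk.1 hk.2⟩
        have heq := Subgroup.eq_of_le_of_card_ge hle
          (card_two_point h2 N ha'ne.symm (fun h => hx (h ▸ haB) : a₀ ≠ x)).le
        exact ((SetLike.ext_iff.mp heq g).mpr (Subgroup.mem_inf.mpr ⟨hga, hga'⟩)).2
      apply Subtype.ext
      refine eq_of_smul_eq_smul (α := α) fun w => ?_
      show g • w = (1 : N) • w
      rw [one_smul]
      by_cases hw : w ∈ B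
      · exact hB' z hz w hw g hga (hout z hz)
      · exact hout w hw
    have hone : Nat.card ↥(Sa ⊓ MulAction.stabilizer N a') = 1 :=
      Subgroup.card_eq_one.mpr ((Subgroup.eq_bot_iff_forall _).mpr fun g hg => hall g hg.1 hg.2)
    intro a b hab g hga hgb
    have h23 : MulAction.stabilizer N a ⊓ MulAction.stabilizer N b = ⊥ :=
      Subgroup.card_eq_one.mp ((card_two_point h2 N hab ha'ne.symm).trans hone)
    exact (Subgroup.eq_bot_iff_forall _).mp h23 g ⟨hga, hgb⟩
  haveI := htN
  have hfro : Cfsg.IsFrobeniusComplement Sa := by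
    refine ⟨ha₀, fun htop => hza ?_, fun g hg => ?_⟩
    · obtain ⟨u, hu⟩ := MulAction.exists_smul_eq N a₀ z
      have : u ∈ Sa := htop ▸ Subgroup.mem_top u
      exact hu.symm.trans this
    · rw [Subgroup.eq_bot_iff_forall]
      rintro u ⟨hu1, hu2⟩
      replace hu2 : u ∈ MulAut.conj g • Sa := hu2
      rw [Subgroup.mem_pointwise_smul_iff_inv_smul_mem] at hu2
      refine hpairs a₀ (g • a₀) (fun h => hg h.symm) u hu1 ?_
      have h24 : (g⁻¹ * u * g) • a₀ = a₀ := by
        have h25 : g⁻¹ * u * g ∈ Sa := by simpa using hu2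
        exact h25
      rw [mul_smul, mul_smul, inv_smul_eq_iff] at h24
      exact h24
  obtain ⟨K, hK, hKn, hKc⟩ := CfsgLib.Solv.frobenius_theorem hfro
  have hKmem : ∀ u : N, u ∈ K ↔ u = 1 ∨ ∀ x : α, u • x ≠ x := by
    intro u
    rw [← SetLike.mem_coe, hK, CfsgLib.Solv.mem_frobeniusKernel_iff]
    refine or_congr_right ⟨fun h x hx => ?_, fun h g hg => ?_⟩
    · obtain ⟨v, rfl⟩ := MulAction.exists_smul_eq N a₀ x
      apply h v
      rw [hSa, MulAction.mem_stabilizer_iff, mul_smul, mul_smul, hx, inv_smul_smul]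
    · rw [hSa, MulAction.mem_stabilizer_iff, mul_smul, mul_smul, inv_smul_eq_iff] at hg
      exact h _ hg
  have hKG : (K.map N.subtype).Normal := by
    constructor
    rintro _ ⟨u, hu, rfl⟩ g
    refine ⟨MulAut.conjNormal g u, ?_, by simp⟩
    rw [SetLike.mem_coe, hKmem] at hu ⊢
    refine hu.imp (fun h => by rw [h, map_one]) fun h x hx => h (g⁻¹ • x) ?_
    have h26 : ((MulAut.conjNormal g u : N) : G) • x = x := hx
    rw [MulAut.conjNormal_apply, mul_smul, mul_smul, smul_eq_iff_eq_inv_smul] at h26
    exact h26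
  rcases hmin _ hKG (Subgroup.map_subtype_le K) with h | h
  · rw [Subgroup.map_eq_bot_iff_of_injective _ N.subtype_injective] at h
    rw [h, Subgroup.isComplement'_bot_left] at hKc
    exact hfro.2.1 hKc
  · apply ha₀
    rw [Subgroup.eq_bot_iff_forall]
    intro u hu
    have h27 : (u : G) ∈ K.map N.subtype := h.symm ▸ u.2
    obtain ⟨u', hu', he⟩ := h27
    obtain rfl : u' = u := Subtype.ext he
    exact ((hKmem u').mp hu').resolve_right fun h => h a₀ hu

/-- Burnside's Theorem on doubly transitive groups: a minimal normal subgroup of a finite doubly transitive permutation group is elementary abelian and regular, or simple and primitive. -/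
theorem result {α : Type*} [Fintype α] [DecidableEq α] (G : Subgroup (Equiv.Perm α)) (hG : MulAction.IsMultiplyPretransitive G α 2) (N : Subgroup G) [N.Normal] (hN : N ≠ ⊥) (hmin : ∀ M : Subgroup G, M.Normal → M ≤ N → M = ⊥ ∨ M = N) : (IsMulCommutative N ∧ (∃ p : ℕ, p.Prime ∧ ∀ n ∈ N, n ^ p = 1) ∧ ∀ a : α, MulAction.stabilizer N a = ⊥) ∨ (IsSimpleGroup N ∧ MulAction.IsPreprimitive N α) := by
  classical
  haveI : Fintype G := Fintype.ofFinite _
  obtain ⟨g₀, hg₀, hg₀1⟩ := N.bot_or_exists_ne_one.resolve_left hN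
  obtain ⟨a, ha⟩ : ∃ a : α, g₀ • a ≠ a := by
    by_contra hc
    push Not at hc
    exact hg₀1 (eq_of_smul_eq_smul (α := α) fun x => by rw [hc x, one_smul])
  have hcard2 : 2 ≤ Nat.card α := by
    rw [Nat.card_eq_fintype_card]
    exact Fintype.one_lt_card_iff.mpr ⟨g₀ • a, a, ha⟩
  haveI : Nontrivial α := ⟨⟨g₀ • a, a, ha⟩⟩
  haveI hprim : MulAction.IsPreprimitive G α := MulAction.isPreprimitive_of_is_two_pretransitive hG
  haveI htN : MulAction.IsPretransitive N α := MulAction.IsQuasiPreprimitive.isPretransitive_of_normal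
    (G := G) (fun h => ha ((Set.eq_univ_iff_forall.mp h a) ⟨g₀, hg₀⟩))
  have hMN : CfsgLib.Solv.IsMinimalNormal N := ⟨inferInstance, hN, hmin⟩
  by_cases hcomm : IsMulCommutative N
  · left
    haveI := hcomm
    have hsolv : Group.IsSolvable N := Group.isSolvable_of_comm fun x y => hcomm.is_comm.comm x y
    obtain ⟨p, hp, hpexp, -⟩ := CfsgLib.Solv.exists_prime_exponent_of_minimal_solvable hMN hsolv
    refine ⟨hcomm, ⟨p, hp, hpexp⟩, fun x => ?_⟩
    rw [Subgroup.eq_bot_iff_forall]
    intro u hu
    apply Subtype.ext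
    refine eq_of_smul_eq_smul (α := α) fun w => ?_
    obtain ⟨v, rfl⟩ := MulAction.exists_smul_eq N x w
    show u • v • x = (1 : N) • v • x
    rw [one_smul, ← mul_smul, hcomm.is_comm.comm u v, mul_smul, hu]
  right
  have hpgrp : ∀ p : ℕ, p.Prime → IsPGroup p N → False := by
    intro p hp hP
    haveI : Fact p.Prime := ⟨hp⟩
    haveI : Nontrivial N := N.nontrivial_iff_ne_bot.mpr hN
    haveI := hP.center_nontrivial
    rcases hmin _ (inferInstance : ((Subgroup.center N).map N.subtype).Normal)
      (Subgroup.map_subtype_le _) with h | h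
    · rw [Subgroup.map_eq_bot_iff_of_injective _ N.subtype_injective] at h
      exact (Subgroup.nontrivial_iff_ne_bot _).mp this h
    · apply hcomm
      have htop : Subgroup.center N = ⊤ := by
        rw [Subgroup.eq_top_iff']
        intro x
        have hx : (x : G) ∈ (Subgroup.center N).map N.subtype := h.symm ▸ x.2
        obtain ⟨y, hy, he⟩ := hx
        obtain rfl : y = x := Subtype.ext he
        exact hy
      exact ⟨⟨fun x y => (Subgroup.mem_center_iff.mp (htop ▸ Subgroup.mem_top x) y).symm⟩⟩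
  have hnr : MulAction.stabilizer N a ≠ ⊥ := by
    intro hbot
    have hbij : Function.Bijective (fun u : N => u • a) := by
      refine ⟨fun u v huv => ?_, fun x => MulAction.exists_smul_eq N a x⟩
      have h1 : v⁻¹ * u ∈ MulAction.stabilizer N a := by
        rw [MulAction.mem_stabilizer_iff, mul_smul, inv_smul_eq_iff]; exact huv
      rw [hbot, Subgroup.mem_bot] at h1
      exact (inv_mul_eq_one.mp h1).symm
    have hsame : ∀ u v : N, u ≠ 1 → v ≠ 1 → orderOf u = orderOf v := by
      intro u v hu hv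
      have hua : u • a ≠ a := fun h => hu (hbij.1 (h.trans (one_smul N a).symm))
      have hva : v • a ≠ a := fun h => hv (hbij.1 (h.trans (one_smul N a).symm))
      obtain ⟨g, hga, hgu⟩ := MulAction.is_two_pretransitive_iff.mp hG hua.symm hva.symm
      have h2 : MulAut.conjNormal g u = v := by
        apply hbij.1
        show ((MulAut.conjNormal g u : N) : G) • a = (v : G) • a
        rw [MulAut.conjNormal_apply, mul_smul, mul_smul, inv_smul_eq_iff.mpr hga.symm]
        exact hgu
      rw [← h2]
      exact (MulEquiv.orderOf_eq _ u).symm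
    obtain ⟨p, hp, hpd⟩ := Nat.exists_prime_and_dvd (n := Nat.card N)
      (fun h => hN (Subgroup.card_eq_one.mp h))
    haveI : Fact p.Prime := ⟨hp⟩
    obtain ⟨w, hw⟩ := exists_prime_orderOf_dvd_card' p hpd
    refine hpgrp p hp fun u => ⟨1, ?_⟩
    rw [pow_one]
    by_cases hu : u = 1
    · rw [hu, one_pow]
    · rw [← hw, hsame w u (fun h => by rw [h, orderOf_one] at hw; exact hp.one_lt.ne hw) hu]
      exact pow_orderOf_eq_one u
  haveI hNprim := primitive_of_min hG N htN hmin a hnr
  refine ⟨?_, hNprim⟩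
  haveI : Nontrivial N := N.nontrivial_iff_ne_bot.mpr hN
  refine ⟨fun M hM => ?_⟩
  by_contra hcon
  push Not at hcon
  obtain ⟨M₀, hM₀, hM₀le⟩ := CfsgLib.Solv.exists_isMinimalNormal_le M hcon.1
  haveI := hM₀.1
  have hM₀top : M₀ ≠ ⊤ := fun h => hcon.2 (top_le_iff.mp (h ▸ hM₀le))
  have htrans : ∀ L : Subgroup N, L.Normal → L ≠ ⊥ → MulAction.IsPretransitive L α := by
    intro L hL hLne
    haveI := hL
    refine MulAction.IsQuasiPreprimitive.isPretransitive_of_normal (G := N) fun h => hLne ?_
    rw [Subgroup.eq_bot_iff_forall]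
    intro u hu
    apply Subtype.ext
    refine eq_of_smul_eq_smul (α := α) fun w => ?_
    show u • w = (1 : N) • w
    rw [one_smul]
    exact (Set.eq_univ_iff_forall.mp h w) ⟨u, hu⟩
  let cj : G → Subgroup N := fun g => M₀.map (MulAut.conjNormal g : MulAut N).toMonoidHom
  have hcjn : ∀ g, (cj g).Normal := fun g =>
    Subgroup.Normal.map hM₀.1 _ (MulAut.conjNormal g : MulAut N).surjective
  have hcjne : ∀ g, cj g ≠ ⊥ := fun g h => hM₀.2.1
    ((Subgroup.map_eq_bot_iff_of_injective _ (MulAut.conjNormal g : MulAut N).injective).mp h)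
  have hall : ∀ L : Subgroup N, (∀ g : G, L.map (MulAut.conjNormal g : MulAut N).toMonoidHom ≤ L) →
      L ≠ ⊥ → L = ⊤ := by
    intro L hL hLne
    have hn : (L.map N.subtype).Normal := by
      constructor
      rintro _ ⟨u, hu, rfl⟩ g
      exact ⟨MulAut.conjNormal g u, hL g ⟨u, hu, rfl⟩, by simp⟩
    rcases hmin _ hn (Subgroup.map_subtype_le L) with h | h
    · exact absurd ((Subgroup.map_eq_bot_iff_of_injective _ N.subtype_injective).mp h) hLne
    · rw [Subgroup.eq_top_iff']
      intro u
      have hu : (u : G) ∈ L.map N.subtype := h.symm ▸ u.2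
      obtain ⟨y, hy, he⟩ := hu
      obtain rfl : y = u := Subtype.ext he
      exact hy
  set C := Subgroup.centralizer (M₀ : Set N) with hC
  haveI hMtr := htrans M₀ hM₀.1 hM₀.2.1
  have hCfree : ∀ u ∈ C, ∀ x : α, u • x = x → u = 1 := by
    intro u hu x hx
    apply Subtype.ext
    refine eq_of_smul_eq_smul (α := α) fun w => ?_
    obtain ⟨m, rfl⟩ := MulAction.exists_smul_eq M₀ x w
    show u • ((m : N) • x) = (1 : N) • ((m : N) • x)
    rw [one_smul, ← mul_smul, ← Subgroup.mem_centralizer_iff.mp hu m m.2, mul_smul, hx]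
  obtain ⟨g₁, hg₁⟩ : ∃ g, cj g ≠ M₀ := by
    by_contra hc
    push Not at hc
    exact hM₀top (hall M₀ (fun g => (hc g).le) hM₀.2.1)
  have hdisj : ∀ g, cj g ≠ M₀ → cj g ≤ C := by
    intro g hg
    haveI := hcjn g
    have hcard : Nat.card (cj g) = Nat.card M₀ :=
      Subgroup.card_map_of_injective (MulAut.conjNormal g : MulAut N).injective
    rcases hM₀.eq_or_inf_eq_bot (cj g) with h | h
    · exact absurd (Subgroup.eq_of_le_of_card_ge h hcard.le).symm hg
    · intro u hu
      rw [hC, Subgroup.mem_centralizer_iff]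
      intro m hm
      exact (Subgroup.commute_of_normal_of_disjoint M₀ (cj g) hM₀.1 (hcjn g)
        (disjoint_iff.mpr h) m u hm hu)
  set M₁ := cj g₁ with hM₁
  have hM₁C : M₁ ≤ C := hdisj g₁ hg₁
  haveI hM₁tr := htrans M₁ (hcjn g₁) (hcjne g₁)
  have hCM₁ : C = M₁ := by
    refine le_antisymm (fun u hu => ?_) hM₁C
    obtain ⟨m, hm⟩ := MulAction.exists_smul_eq M₁ a (u • a)
    have hm' : (m : N) • a = u • a := hm
    have h1 : (m : N)⁻¹ * u = 1 := hCfree _ (C.mul_mem (C.inv_mem (hM₁C m.2)) hu) a (by
      rw [mul_smul, inv_smul_eq_iff, hm'])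
    exact (inv_mul_eq_one.mp h1) ▸ m.2
  have hM₀free : ∀ m ∈ M₀, ∀ x : α, m • x = x → m = 1 := by
    intro m hm x hx
    apply Subtype.ext
    refine eq_of_smul_eq_smul (α := α) fun w => ?_
    obtain ⟨k, rfl⟩ := MulAction.exists_smul_eq M₁ x w
    show m • ((k : N) • x) = (1 : N) • ((k : N) • x)
    rw [one_smul, ← mul_smul, Subgroup.mem_centralizer_iff.mp (hM₁C k.2) m hm, mul_smul, hx]
  have hopts : ∀ g, cj g = M₀ ∨ cj g = M₁ := by
    intro g
    by_cases hg : cj g = M₀
    · exact Or.inl hg
    · refine Or.inr (Subgroup.eq_of_le_of_card_ge (hCM₁ ▸ hdisj g hg) ?_)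
      rw [hM₁]
      exact le_of_eq ((Subgroup.card_map_of_injective (MulAut.conjNormal g₁ : MulAut N).injective).trans
        (Subgroup.card_map_of_injective (MulAut.conjNormal g : MulAut N).injective).symm)
  have hsameM : ∀ m m' : M₀, m ≠ 1 → m' ≠ 1 → orderOf m = orderOf m' := by
    intro m m' hm hm'
    have hne : ∀ k : M₀, k ≠ 1 → (k : N) • a ≠ a := fun k hk h =>
      hk (Subtype.ext (hM₀free _ k.2 a h))
    obtain ⟨g, hga, hgm⟩ := MulAction.is_two_pretransitive_iff.mp hG (hne m hm).symm (hne m' hm').symm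
    set k : N := MulAut.conjNormal g (m : N) with hk
    have hka : k • a = (m' : N) • a := by
      show ((MulAut.conjNormal g (m : N) : N) : G) • a = _
      rw [MulAut.conjNormal_apply, mul_smul, mul_smul, inv_smul_eq_iff.mpr hga.symm]
      exact hgm
    have hord : orderOf k = orderOf m := by
      rw [hk, MulEquiv.orderOf_eq, Subgroup.orderOf_coe]
    rw [← hord, ← Subgroup.orderOf_coe m']
    have hkmem : k ∈ cj g := ⟨m, m.2, rfl⟩
    rcases hopts g with h | h
    · rw [h] at hkmem
      have h1 : (m' : N)⁻¹ * k = 1 := hM₀free _ (M₀.mul_mem (M₀.inv_mem m'.2) hkmem) a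
        (by rw [mul_smul, inv_smul_eq_iff, hka])
      rw [inv_mul_eq_one.mp h1]
    · rw [h] at hkmem
      have hcom : Commute (m' : N) k := Subgroup.mem_centralizer_iff.mp (hM₁C hkmem) _ m'.2
      have hpow : ∀ n : ℕ, (k ^ n) • a = ((m' : N) ^ n) • a := by
        intro n
        induction n with
        | zero => simp
        | succ n ih =>
          rw [pow_succ', mul_smul, ih, ← mul_smul, ← (hcom.pow_left n).eq, mul_smul, hka,
            ← mul_smul, ← pow_succ]
      refine orderOf_eq_orderOf_iff.mpr fun n => ⟨fun h => ?_, fun h => ?_⟩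
      · exact hM₀free _ (M₀.pow_mem m'.2 n) a (by rw [← hpow, h, one_smul])
      · exact hCfree _ (C.pow_mem (hM₁C hkmem) n) a (by rw [hpow, h, one_smul])
  haveI : Nontrivial M₀ := M₀.nontrivial_iff_ne_bot.mpr hM₀.2.1
  obtain ⟨p, hp, hpd⟩ := Nat.exists_prime_and_dvd (n := Nat.card M₀)
    (Finite.one_lt_card (α := M₀)).ne'
  haveI : Fact p.Prime := ⟨hp⟩
  obtain ⟨w, hw⟩ := exists_prime_orderOf_dvd_card' p hpd
  have hPM : IsPGroup p M₀ := fun u => ⟨1, by
    rw [pow_one]
    by_cases hu : u = 1
    · rw [hu, one_pow]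
    · rw [← hw, hsameM w u (fun h => by rw [h, orderOf_one] at hw; exact hp.one_lt.ne hw) hu]
      exact pow_orderOf_eq_one u⟩
  have htop : M₀ ⊔ M₁ = ⊤ := by
    refine hall _ (fun g => ?_) (fun h => hM₀.2.1 (le_bot_iff.mp (h ▸ le_sup_left)))
    rw [Subgroup.map_sup]
    refine sup_le ?_ ?_
    · rcases hopts g with h | h
      · exact h.le.trans le_sup_left
      · exact h.le.trans le_sup_right
    · have h1 : M₁.map (MulAut.conjNormal g : MulAut N).toMonoidHom = cj (g * g₁) := by
        simp only [hM₁, cj, Subgroup.map_map]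
        congr 1
      rw [h1]
      rcases hopts (g * g₁) with h | h
      · exact h.le.trans le_sup_left
      · exact h.le.trans le_sup_right
  haveI := hcjn g₁
  have hP : IsPGroup p ↥(M₀ ⊔ M₁) := hPM.to_sup_of_normal_right (hPM.map _)
  rw [htop] at hP
  exact hpgrp p hp (hP.of_equiv Subgroup.topEquiv)

end Cfsg.Agent.S0700
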