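import Cfsg.Statements.S0701


set_option autoImplicit false
set_option linter.style.haveILetI false
open Cfsg

namespace Cfsg.Agent.S0701

/-- The centraliser in the full symmetric group of a transitive permutation group `G` is semiregular, and it is transitive if and only if `G` is regular. -/
theorem result {α : Type*} (G : Subgroup (Equiv.Perm α)) [MulAction.IsPretransitive G α] : (∀ c ∈ Subgroup.centralizer (G : Set (Equiv.Perm α)), ∀ a : α, c a = a → c = 1) ∧ (MulAction.IsPretransitive (Subgroup.centralizer (G : Set (Equiv.Perm α))) α ↔ ∀ a : α, MulAction.stabilizer G a = ⊥) := by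
  have hcomm : ∀ c ∈ Subgroup.centralizer (G : Set (Equiv.Perm α)), ∀ (g : G) (a : α),
      c (g • a) = g • c a := fun c hc g a => by
    have h := congrArg (fun f : Equiv.Perm α => f a) (Subgroup.mem_centralizer_iff.1 hc g g.2)
    exact h.symm
  refine ⟨fun c hc a ha => ?_, ?_, ?_⟩
  · ext b
    obtain ⟨g, rfl⟩ := MulAction.exists_smul_eq G a b
    rw [hcomm c hc g a, ha, Equiv.Perm.one_apply]
  · intro h a
    rw [eq_bot_iff]
    intro g hg
    rw [Subgroup.mem_bot]
    refine Subtype.ext (Equiv.ext fun b => ?_)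
    obtain ⟨⟨c, hc⟩, rfl⟩ := MulAction.exists_smul_eq (Subgroup.centralizer (G : Set (Equiv.Perm α))) a b
    have h2 := hcomm c hc g a
    rw [MulAction.mem_stabilizer_iff.1 hg] at h2
    exact h2.symm
  · intro h
    refine ⟨fun a b => ?_⟩
    have hu : ∀ g g' : G, g • a = g' • a → g = g' := fun g g' e => by
      have h3 : g'⁻¹ * g ∈ MulAction.stabilizer G a := by
        rw [MulAction.mem_stabilizer_iff, mul_smul, e, inv_smul_smul]
      rw [h a, Subgroup.mem_bot, inv_mul_eq_one] at h3
      exact h3.symm
    have hub : ∀ g g' : G, g • b = g' • b → g = g' := fun g g' e => by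
      have h3 : g'⁻¹ * g ∈ MulAction.stabilizer G b := by
        rw [MulAction.mem_stabilizer_iff, mul_smul, e, inv_smul_smul]
      rw [h b, Subgroup.mem_bot, inv_mul_eq_one] at h3
      exact h3.symm
    let ea : G ≃ α := Equiv.ofBijective (fun g => g • a) ⟨hu, fun y => MulAction.exists_smul_eq G a y⟩
    let eb : G ≃ α := Equiv.ofBijective (fun g => g • b) ⟨hub, fun y => MulAction.exists_smul_eq G b y⟩
    have hc : ea.symm.trans eb ∈ Subgroup.centralizer (G : Set (Equiv.Perm α)) := by
      refine Subgroup.mem_centralizer_iff.2 fun g hg => Equiv.ext fun y => ?_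
      obtain ⟨k, rfl⟩ := ea.surjective y
      have e : g (ea k) = ea (⟨g, hg⟩ * k) := by
        show g (k • a) = ((⟨g, hg⟩ : G) * k) • a
        rw [mul_smul]; rfl
      simp only [Equiv.Perm.mul_apply, Equiv.trans_apply, Equiv.symm_apply_apply, e]
      show g (k • b) = ((⟨g, hg⟩ : G) * k) • b
      rw [mul_smul]; rfl
    refine ⟨⟨_, hc⟩, ?_⟩
    have e : ea 1 = a := one_smul G a
    show eb (ea.symm a) = b
    rw [← e, Equiv.symm_apply_apply]
    exact one_smul G b

end Cfsg.Agent.S0701
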