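import Cfsg.Statements.S0702

import Mathlib

set_option autoImplicit false
set_option linter.style.haveILetI false
open Cfsg

namespace Cfsg.Agent.S0702

/-- For a transitive permutation group `G` on a finite set, the centraliser of `G` in the symmetric group is isomorphic to `N_G(G_ω)/G_ω`, and its orbit of `ω` is the set of fixed points of `G_ω`. -/
theorem result {α : Type*} [Finite α] (G : Subgroup (Equiv.Perm α)) [MulAction.IsPretransitive G α] (a : α) : Nonempty (Subgroup.centralizer (G : Set (Equiv.Perm α)) ≃* Subgroup.normalizer ((MulAction.stabilizer G a : Subgroup G) : Set G) ⧸ (MulAction.stabilizer G a).subgroupOf (Subgroup.normalizer ((MulAction.stabilizer G a : Subgroup G) : Set G))) ∧ MulAction.orbit (Subgroup.centralizer (G : Set (Equiv.Perm α))) a = MulAction.fixedPoints (MulAction.stabilizer G a) α := by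
  classical
  set C := Subgroup.centralizer (G : Set (Equiv.Perm α)) with hC
  set S := MulAction.stabilizer G a with hS
  set N := Subgroup.normalizer (S : Set G) with hN
  choose s hs using fun x : α => MulAction.exists_smul_eq G a x
  have hnorm : ∀ k : N, ∀ u : G, u ∈ S → (k : G) * u * (k : G)⁻¹ ∈ S := fun k u hu =>
    (Subgroup.mem_normalizer_iff.mp k.2 u).mp hu
  let f : N → α → α := fun n x => s x • ((n : G)⁻¹ • a)
  have hf : ∀ (n : N) (g : G), f n (g • a) = g • ((n : G)⁻¹ • a) := by
    intro n g
    show s (g • a) • ((n : G)⁻¹ • a) = g • ((n : G)⁻¹ • a)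
    have hmem : g⁻¹ * s (g • a) ∈ S := by
      rw [hS, MulAction.mem_stabilizer_iff, mul_smul, hs, inv_smul_smul]
    have h1 := hnorm n _ hmem
    rw [hS, MulAction.mem_stabilizer_iff, mul_smul, mul_smul, smul_eq_iff_eq_inv_smul, mul_smul,
      inv_smul_eq_iff] at h1
    exact h1
  have hmul : ∀ (n k : N) (x : α), f n (f k x) = f (n * k) x := by
    intro n k x
    show f n (s x • ((k : G)⁻¹ • a)) = s x • (((n * k : N) : G)⁻¹ • a)
    rw [← mul_smul (s x), hf]
    push_cast
    rw [mul_inv_rev, mul_smul, mul_smul]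
  have hone : ∀ x : α, f 1 x = x := by
    intro x
    show s x • (((1 : N) : G)⁻¹ • a) = x
    rw [OneMemClass.coe_one, inv_one, one_smul, hs]
  let e : N →* Equiv.Perm α :=
    { toFun := fun n =>
        { toFun := f n
          invFun := f n⁻¹
          left_inv := fun x => by rw [hmul, inv_mul_cancel, hone]
          right_inv := fun x => by rw [hmul, mul_inv_cancel, hone] }
      map_one' := Equiv.ext hone
      map_mul' := fun n k => Equiv.ext fun x => (hmul n k x).symm }
  have he : ∀ n, e n ∈ C := by
    intro n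
    rw [hC, Subgroup.mem_centralizer_iff]
    intro g hg
    apply Equiv.ext
    intro x
    show (⟨g, hg⟩ : G) • f n x = f n ((⟨g, hg⟩ : G) • x)
    obtain ⟨k, rfl⟩ := MulAction.exists_smul_eq G a x
    rw [hf, ← mul_smul (⟨g, hg⟩ : G) k a, hf, mul_smul]
  have hcent : ∀ c ∈ C, ∀ (g : G) (x : α), c (g • x) = g • c x := by
    intro c hc g x
    exact (DFunLike.congr_fun (Subgroup.mem_centralizer_iff.mp hc (g : Equiv.Perm α) g.2) x).symm
  have hfixN : ∀ b, b ∈ MulAction.fixedPoints S α → ∃ k : N, (k : G) • a = b := by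
    intro b hb
    obtain ⟨k, hk⟩ := MulAction.exists_smul_eq G a b
    refine ⟨⟨k, ?_⟩, hk⟩
    have hsub : ∀ u ∈ S, k⁻¹ * u * k ∈ S := by
      intro u hu
      rw [hS, MulAction.mem_stabilizer_iff, mul_smul, mul_smul, hk, inv_smul_eq_iff, hk]
      exact hb ⟨u, hu⟩
    haveI : Finite S := inferInstance
    rw [Subgroup.mem_normalizer_iff]
    intro u
    let φ : S → S := fun u => ⟨k⁻¹ * u * k, hsub u u.2⟩
    have hφ : Function.Injective φ := fun u v h => by
      apply Subtype.ext
      have := congrArg Subtype.val h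
      simpa [φ] using this
    obtain ⟨hsur⟩ : Nonempty (Function.Surjective φ) := ⟨Finite.surjective_of_injective hφ⟩
    constructor
    · intro hu
      obtain ⟨v, hv⟩ := hsur ⟨u, hu⟩
      have h1 : k⁻¹ * (v : G) * k = u := congrArg Subtype.val hv
      rw [← h1]
      simpa [mul_assoc] using v.2
    · intro hu
      simpa [mul_assoc] using hsub _ hu
  let ec : N →* C := e.codRestrict C he
  have hsurj : Function.Surjective ec := by
    intro c
    have hfix : (c : Equiv.Perm α) a ∈ MulAction.fixedPoints S α := by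
      intro u
      show (u : G) • (c : Equiv.Perm α) a = (c : Equiv.Perm α) a
      rw [← hcent _ c.2, u.2]
    obtain ⟨k, hk⟩ := hfixN _ hfix
    refine ⟨k⁻¹, Subtype.ext (Equiv.ext fun x => ?_)⟩
    obtain ⟨g, rfl⟩ := MulAction.exists_smul_eq G a x
    show f k⁻¹ (g • a) = (c : Equiv.Perm α) (g • a)
    rw [hf, hcent _ c.2, InvMemClass.coe_inv, inv_inv, hk]
  have hker : ec.ker = S.subgroupOf N := by
    ext n
    rw [MonoidHom.mem_ker, Subgroup.mem_subgroupOf]
    constructor
    · intro h
      have h1 : f n ((1 : G) • a) = (1 : G) • a :=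
        DFunLike.congr_fun (congrArg Subtype.val h) ((1 : G) • a)
      rw [hf, one_smul, one_smul, inv_smul_eq_iff] at h1
      rw [hS, MulAction.mem_stabilizer_iff]
      exact h1.symm
    · intro h
      apply Subtype.ext
      apply Equiv.ext
      intro x
      obtain ⟨g, rfl⟩ := MulAction.exists_smul_eq G a x
      show f n (g • a) = g • a
      rw [hf]
      congr 1
      rw [inv_smul_eq_iff]
      exact (MulAction.mem_stabilizer_iff.mp h).symm
  refine ⟨⟨((QuotientGroup.quotientMulEquivOfEq hker.symm).trans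
    (QuotientGroup.quotientKerEquivOfSurjective ec hsurj)).symm⟩, ?_⟩
  ext b
  constructor
  · rintro ⟨c, rfl⟩ u
    show (u : G) • (c : Equiv.Perm α) a = (c : Equiv.Perm α) a
    rw [← hcent _ c.2, u.2]
  · intro hb
    obtain ⟨k, hk⟩ := hfixN b hb
    refine ⟨ec k⁻¹, ?_⟩
    show f k⁻¹ a = b
    conv_lhs => rw [show a = (1 : G) • a from (one_smul G a).symm]
    rw [hf, one_smul, InvMemClass.coe_inv, inv_inv, hk]

end Cfsg.Agent.S0702
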