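import Cfsg.Statements.S0703
import Mathlib


set_option autoImplicit false
set_option linter.style.haveILetI false
open Cfsg

namespace Cfsg.Agent.S0703

/-- An abelian transitive minimal normal subgroup `M` of a permutation group on a finite set is self-centralising in the symmetric group, regular, elementary abelian, and is the unique minimal normal subgroup. -/
theorem result {α : Type*} [Finite α] (G : Subgroup (Equiv.Perm α)) (M : Subgroup G) [M.Normal] (hM : M ≠ ⊥) (hmin : ∀ L : Subgroup G, L.Normal → L ≤ M → L = ⊥ ∨ L = M) (hab : IsMulCommutative M) (htrans : MulAction.IsPretransitive M α) : Subgroup.centralizer ((M.map G.subtype : Subgroup (Equiv.Perm α)) : Set (Equiv.Perm α)) = M.map G.subtype ∧ (∀ a : α, MulAction.stabilizer M a = ⊥) ∧ (∃ p : ℕ, p.Prime ∧ ∀ m ∈ M, m ^ p = 1) ∧ ∀ L : Subgroup G, L.Normal → L ≠ ⊥ → (∀ L' : Subgroup G, L'.Normal → L' ≤ L → L' = ⊥ ∨ L' = L) → L = M := by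
  haveI := htrans
  haveI : Finite M := inferInstance
  have hcm : ∀ (m n : M), m * n = n * m := fun m n => hab.is_comm.comm m n
  have hstab : ∀ a : α, MulAction.stabilizer M a = ⊥ := by
    intro a
    rw [eq_bot_iff]
    intro m hm
    rw [Subgroup.mem_bot]
    refine Subtype.ext (Subtype.ext (Equiv.ext fun b => ?_))
    obtain ⟨n, rfl⟩ := MulAction.exists_smul_eq M a b
    show m • n • a = n • a
    rw [← mul_smul, hcm, mul_smul, MulAction.mem_stabilizer_iff.1 hm]
  have hcent : Subgroup.centralizer ((M.map G.subtype : Subgroup (Equiv.Perm α)) : Set (Equiv.Perm α)) =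
      M.map G.subtype := by
    refine le_antisymm (fun c hc => ?_) ?_
    · by_cases hα : Nonempty α
      · obtain ⟨a⟩ := hα
        obtain ⟨m, hm⟩ := MulAction.exists_smul_eq M a (c a)
        refine ⟨(m : G), m.2, Equiv.ext fun b => ?_⟩
        obtain ⟨n, rfl⟩ := MulAction.exists_smul_eq M a b
        have h1 := congrArg (fun f : Equiv.Perm α => f a)
          (Subgroup.mem_centralizer_iff.1 hc ((n : G) : Equiv.Perm α) ⟨(n : G), n.2, rfl⟩)
        show m • n • a = c (n • a)
        rw [← mul_smul, hcm, mul_smul, hm]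
        exact h1
      · have e : c = 1 := Equiv.ext fun b => absurd ⟨b⟩ hα
        rw [e]; exact one_mem _
    · rintro _ ⟨m, hm, rfl⟩
      refine Subgroup.mem_centralizer_iff.2 ?_
      rintro _ ⟨n, hn, rfl⟩
      exact congrArg (fun x : M => ((x : G) : Equiv.Perm α)) (hcm ⟨n, hn⟩ ⟨m, hm⟩)
  refine ⟨hcent, hstab, ?_, ?_⟩
  · have h1 : Nat.card M ≠ 1 := fun e => hM (Subgroup.card_eq_one.1 e)
    obtain ⟨p, hp, hpd⟩ := Nat.exists_prime_and_dvd h1
    haveI := Fact.mk hp
    obtain ⟨m, hm⟩ := exists_prime_orderOf_dvd_card' (G := M) p hpd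
    let L : Subgroup G :=
      { carrier := {x | x ∈ M ∧ x ^ p = 1}
        one_mem' := ⟨one_mem _, one_pow _⟩
        mul_mem' := fun {x y} hx hy => ⟨mul_mem hx.1 hy.1, by
          rw [(show Commute x y from congrArg Subtype.val (hcm ⟨x, hx.1⟩ ⟨y, hy.1⟩)).mul_pow, hx.2, hy.2, one_mul]⟩
        inv_mem' := fun {x} hx => ⟨inv_mem hx.1, by rw [inv_pow, hx.2, inv_one]⟩ }
    have hLn : L.Normal := ⟨fun x hx g => ⟨(inferInstance : M.Normal).conj_mem x hx.1 g, by
      rw [conj_pow, hx.2, mul_one, mul_inv_cancel]⟩⟩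
    rcases hmin L hLn (fun x hx => hx.1) with h | h
    · exfalso
      have h2 : (m : G) ∈ L := ⟨m.2, by
        rw [← SubgroupClass.coe_pow, ← hm, pow_orderOf_eq_one]; rfl⟩
      rw [h, Subgroup.mem_bot] at h2
      rw [show m = 1 from Subtype.ext h2, orderOf_one] at hm
      exact hp.one_lt.ne hm
    · exact ⟨p, hp, fun x hx => (show x ∈ L by rw [h]; exact hx).2⟩
  · intro L hL hL1 hLmin
    haveI := hL
    rcases hmin (L ⊓ M) inferInstance inf_le_right with h | h
    · exfalso
      have h1 : L.map G.subtype ≤ M.map G.subtype := by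
        rw [← hcent]
        rintro _ ⟨l, hl, rfl⟩
        refine Subgroup.mem_centralizer_iff.2 ?_
        rintro _ ⟨n, hn, rfl⟩
        exact congrArg Subtype.val (Subgroup.commute_of_normal_of_disjoint M L inferInstance hL
          (by rw [disjoint_iff, inf_comm]; exact h) n l hn hl).eq
      rw [Subgroup.map_subtype_le_map_subtype] at h1
      rw [inf_eq_left.2 h1] at h
      exact hL1 h
    · have hML : M ≤ L := inf_eq_right.1 h
      exact ((hLmin M inferInstance hML).resolve_left hM).symm

end Cfsg.Agent.S0703
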