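import Cfsg.Statements.S0704


set_option autoImplicit false
set_option linter.style.haveILetI false
open Cfsg

namespace Cfsg.Agent.S0704
variable {α : Type*}

theorem semiregular {G : Subgroup (Equiv.Perm α)} (M : Subgroup G) [MulAction.IsPretransitive M α]
    {c : Equiv.Perm α} (hc : c ∈ Subgroup.centralizer ((M.map G.subtype : Subgroup (Equiv.Perm α)) : Set (Equiv.Perm α)))
    (a : α) (ha : c a = a) : c = 1 := by
  ext b
  obtain ⟨m, rfl⟩ := MulAction.exists_smul_eq M a b
  have h := congrArg (fun f : Equiv.Perm α => f a)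
    (Subgroup.mem_centralizer_iff.1 hc ((m : G) : Equiv.Perm α) ⟨(m : G), m.2, rfl⟩)
  show c (m • a) = m • a
  refine h.symm.trans ?_
  show ((m : G) : Equiv.Perm α) (c a) = ((m : G) : Equiv.Perm α) a
  rw [ha]

theorem cent_eq {G : Subgroup (Equiv.Perm α)} (M N : Subgroup G) [MulAction.IsPretransitive M α]
    [MulAction.IsPretransitive N α] [Nonempty α] (hc : ∀ m ∈ M, ∀ n ∈ N, m * n = n * m) :
    Subgroup.centralizer ((M.map G.subtype : Subgroup (Equiv.Perm α)) : Set (Equiv.Perm α)) = N.map G.subtype := by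
  have hle : N.map G.subtype ≤ Subgroup.centralizer ((M.map G.subtype : Subgroup (Equiv.Perm α)) : Set (Equiv.Perm α)) := by
    rintro _ ⟨n, hn, rfl⟩
    refine Subgroup.mem_centralizer_iff.2 ?_
    rintro _ ⟨m, hm, rfl⟩
    exact congrArg Subtype.val (hc m hm n hn)
  refine le_antisymm (fun c hcm => ?_) hle
  obtain ⟨a⟩ := (inferInstance : Nonempty α)
  obtain ⟨n, hn⟩ := MulAction.exists_smul_eq N a (c a)
  have hnm : ((n : G) : Equiv.Perm α) ∈ N.map G.subtype := ⟨(n : G), n.2, rfl⟩
  have h1 := semiregular M (mul_mem (inv_mem (hle hnm)) hcm) a (by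
    show (((n : G) : Equiv.Perm α))⁻¹ (c a) = a
    rw [← hn]; exact Equiv.symm_apply_apply _ a)
  rw [inv_mul_eq_one] at h1
  exact h1 ▸ hnm

/-- Two distinct transitive minimal normal subgroups `M`, `N` of a permutation group are regular, non-abelian, isomorphic, each other's centraliser in the symmetric group, and the only minimal normal subgroups. -/
theorem result {α : Type*} (G : Subgroup (Equiv.Perm α)) (M N : Subgroup G) [M.Normal] [N.Normal] (hM : M ≠ ⊥) (hN : N ≠ ⊥) (hMmin : ∀ L : Subgroup G, L.Normal → L ≤ M → L = ⊥ ∨ L = M) (hNmin : ∀ L : Subgroup G, L.Normal → L ≤ N → L = ⊥ ∨ L = N) (hMN : M ≠ N) (hMt : MulAction.IsPretransitive M α) (hNt : MulAction.IsPretransitive N α) : (∀ a : α, MulAction.stabilizer M a = ⊥) ∧ (∀ a : α, MulAction.stabilizer N a = ⊥) ∧ ¬ IsMulCommutative M ∧ Nonempty (M ≃* N) ∧ Subgroup.centralizer ((M.map G.subtype : Subgroup (Equiv.Perm α)) : Set (Equiv.Perm α)) = N.map G.subtype ∧ Subgroup.centralizer ((N.map G.subtype : Subgroup (Equiv.Perm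 α)) : Set (Equiv.Perm α)) = M.map G.subtype ∧ ∀ L : Subgroup G, L.Normal → L ≠ ⊥ → (∀ L' : Subgroup G, L'.Normal → L' ≤ L → L' = ⊥ ∨ L' = L) → L = M ∨ L = N := by
  haveI := hMt
  haveI := hNt
  haveI : Nonempty α := by
    by_contra hα
    exact hM (eq_bot_iff.2 fun x _ => Subgroup.mem_bot.2 (Subtype.ext (Equiv.ext fun b => absurd ⟨b⟩ hα)))
  have hdisj : Disjoint M N := by
    rw [disjoint_iff]
    rcases hMmin (M ⊓ N) inferInstance inf_le_left with h | h
    · exact h
    · exact absurd ((hNmin M inferInstance (inf_eq_left.1 h)).resolve_left hM) hMN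
  have hc : ∀ m ∈ M, ∀ n ∈ N, m * n = n * m := fun m hm n hn =>
    Subgroup.commute_of_normal_of_disjoint M N inferInstance inferInstance hdisj m n hm hn
  have hCM := cent_eq M N hc
  have hCN := cent_eq N M fun n hn m hm => (hc m hm n hn).symm
  have hsM : ∀ a : α, MulAction.stabilizer M a = ⊥ := fun a => eq_bot_iff.2 fun m hm =>
    Subgroup.mem_bot.2 (Subtype.ext (Subtype.ext (semiregular N
      (hCN ▸ ⟨(m : G), m.2, rfl⟩ : ((m : G) : Equiv.Perm α) ∈ Subgroup.centralizer _) a hm)))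
  have hsN : ∀ a : α, MulAction.stabilizer N a = ⊥ := fun a => eq_bot_iff.2 fun m hm =>
    Subgroup.mem_bot.2 (Subtype.ext (Subtype.ext (semiregular M
      (hCM ▸ ⟨(m : G), m.2, rfl⟩ : ((m : G) : Equiv.Perm α) ∈ Subgroup.centralizer _) a hm)))
  refine ⟨hsM, hsN, ?_, ?_, hCM, hCN, ?_⟩
  · intro hab
    have h1 : M.map G.subtype ≤ N.map G.subtype := by
      rw [← hCM]
      rintro _ ⟨x, hx, rfl⟩
      refine Subgroup.mem_centralizer_iff.2 ?_
      rintro _ ⟨y, hy, rfl⟩
      exact congrArg (fun t : M => ((t : G) : Equiv.Perm α)) (hab.is_comm.comm ⟨y, hy⟩ ⟨x, hx⟩)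
    rw [Subgroup.map_subtype_le_map_subtype] at h1
    exact hMN ((hNmin M inferInstance h1).resolve_left hM)
  · obtain ⟨a⟩ := (inferInstance : Nonempty α)
    have hbij : ∀ (K : Subgroup G) [MulAction.IsPretransitive K α], MulAction.stabilizer K a = ⊥ →
        Function.Bijective fun k : K => k • a := by
      intro K _ hK
      refine ⟨fun x y (h : x • a = y • a) => ?_, fun b => MulAction.exists_smul_eq K a b⟩
      have : y⁻¹ * x ∈ MulAction.stabilizer K a := by
        rw [MulAction.mem_stabilizer_iff, mul_smul, h, inv_smul_smul]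
      rw [hK, Subgroup.mem_bot, inv_mul_eq_one] at this
      exact this.symm
    let e : M ≃ α := Equiv.ofBijective _ (hbij M (hsM a))
    let f : N ≃ α := Equiv.ofBijective _ (hbij N (hsN a))
    refine ⟨{ toEquiv := (Equiv.inv M).trans (e.trans f.symm), map_mul' := fun x y => ?_ }⟩
    apply f.injective
    show f (f.symm (e (x * y)⁻¹)) = f (f.symm (e x⁻¹) * f.symm (e y⁻¹))
    rw [Equiv.apply_symm_apply]
    show (x * y)⁻¹ • a = (f.symm (e x⁻¹) * f.symm (e y⁻¹)) • a
    have h2 : f.symm (e y⁻¹) • a = y⁻¹ • a := f.apply_symm_apply (e y⁻¹)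
    have h1 : f.symm (e x⁻¹) • a = x⁻¹ • a := f.apply_symm_apply (e x⁻¹)
    rw [mul_smul, h2, mul_inv_rev, mul_smul]
    set n := f.symm (e x⁻¹)
    rw [← h1]
    show ((y⁻¹ : M) : G) • (n : G) • a = (n : G) • ((y⁻¹ : M) : G) • a
    rw [← mul_smul, ← mul_smul, hc _ (y⁻¹ : M).2 _ n.2]
  · intro L hL hL1 hLmin
    haveI := hL
    by_cases h1 : L ⊓ M = ⊥
    · right
      have h2 : L.map G.subtype ≤ N.map G.subtype := by
        rw [← hCM]
        rintro _ ⟨l, hl, rfl⟩
        refine Subgroup.mem_centralizer_iff.2 ?_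
        rintro _ ⟨n, hn, rfl⟩
        exact congrArg Subtype.val (Subgroup.commute_of_normal_of_disjoint M L inferInstance hL
          (by rw [disjoint_iff, inf_comm]; exact h1) n l hn hl).eq
      rw [Subgroup.map_subtype_le_map_subtype] at h2
      exact (hNmin L hL h2).resolve_left hL1
    · left
      have h2 : M ≤ L := inf_eq_right.1 ((hMmin (L ⊓ M) inferInstance inf_le_right).resolve_left h1)
      exact ((hLmin M inferInstance h2).resolve_left hM).symm

end Cfsg.Agent.S0704
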