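import Cfsg.Statements.S0705

import Mathlib
import Cfsg.Agent.Perm.MultiTrans

set_option autoImplicit false
set_option linter.style.haveILetI false
open scoped Pointwise
open Cfsg

namespace Cfsg.Agent.S0705

/-- A generously `k`-transitive permutation group (every `(k+1)`-subset has its full symmetric group induced by the setwise stabiliser) of degree greater than `k` is `k`-transitive, and for a `k`-subset the setwise and pointwise stabilisers have the same orbits outside it. -/
theorem result {α : Type*} [Fintype α] [DecidableEq α] (G : Subgroup (Equiv.Perm α)) {k : ℕ} (hk : k < Fintype.card α) (hgen : ∀ s : Finset α, s.card = k + 1 → ∀ σ : Equiv.Perm ↥s, ∃ g ∈ G, ∀ x : ↥s, g (x : α) = σ x) : MulAction.IsMultiplyPretransitive G α k ∧ ∀ s : Finset α, s.card = k → ∀ a b : α, a ∉ s → b ∉ s → (∃ g ∈ G, g • s = s ∧ g a = b) → ∃ g ∈ G, (∀ x ∈ s, g x = x) ∧ g a = b := by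
  classical
  have main : ∀ (S : Finset α) (σ : Equiv.Perm α), S.card ≤ k + 1 →
      (∀ x, σ x ∈ S ↔ x ∈ S) → ∃ g ∈ G, ∀ x ∈ S, g x = σ x := by
    intro S σ hS hσ
    obtain ⟨S', hSS', -, hS'⟩ := Finset.exists_subsuperset_card_eq (Finset.subset_univ S) hS
      (by rw [Finset.card_univ]; omega)
    let τ : Equiv.Perm α := Equiv.Perm.ofSubtype (σ.subtypePerm (p := fun x => x ∈ S) hσ)
    have hτ : ∀ x, τ x ∈ S' ↔ x ∈ S' := by
      intro x
      by_cases hx : x ∈ S
      · rw [show τ x = σ x from Equiv.Perm.ofSubtype_subtypePerm_of_mem _ hx]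
        exact iff_of_true (hSS' ((hσ x).mpr hx)) (hSS' hx)
      · rw [show τ x = x from Equiv.Perm.ofSubtype_apply_of_not_mem _ hx]
    obtain ⟨g, hg, hgσ⟩ := hgen S' hS' (τ.subtypePerm (p := fun x => x ∈ S') hτ)
    refine ⟨g, hg, fun x hx => ?_⟩
    rw [hgσ ⟨x, hSS' hx⟩]
    exact Equiv.Perm.ofSubtype_subtypePerm_of_mem _ hx
  refine ⟨CfsgLib.Perm.isMultiplyPretransitive_of_fix G fun T hT a b ha hb => ?_, ?_⟩
  · obtain ⟨g, hg, hgx⟩ := main (insert a (insert b T)) (Equiv.swap a b) (by
      have h1 := Finset.card_insert_le a (insert b T)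
      have h2 := Finset.card_insert_le b T
      omega) (by
      intro x
      simp only [Equiv.swap_apply_def, Finset.mem_insert]
      split_ifs with h1 h2 <;> simp_all)
    refine ⟨g, hg, fun x hx => ?_, by rw [hgx a (by simp), Equiv.swap_apply_left]⟩
    rw [hgx x (by simp [hx]), Equiv.swap_apply_of_ne_of_ne]
    · rintro rfl; exact ha hx
    · rintro rfl; exact hb hx
  · rintro s hs a b ha hb ⟨g, hg, hgs, hga⟩
    have hgs' : ∀ x, g x ∈ s ↔ x ∈ s := by
      intro x
      conv_lhs => rw [← hgs]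
      exact Finset.smul_mem_smul_finset_iff g
    let τ : Equiv.Perm α := Equiv.Perm.ofSubtype ((g⁻¹).subtypePerm (p := fun x => x ∈ s) (by
      intro x
      have := hgs' (g⁻¹ x)
      simp at this
      exact this.symm))
    have hτmem : ∀ x, x ∈ s → τ x = g⁻¹ x := fun x hx =>
      Equiv.Perm.ofSubtype_subtypePerm_of_mem _ hx
    have hτb : τ b = b := Equiv.Perm.ofSubtype_apply_of_not_mem _ hb
    obtain ⟨u, hu, hux⟩ := main (insert b s) τ (by
      rw [Finset.card_insert_of_notMem hb]; omega) (by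
      intro x
      by_cases hx : x ∈ s
      · rw [hτmem x hx]
        exact iff_of_true (Finset.mem_insert_of_mem (by
          have := hgs' (g⁻¹ x); simp at this; exact this.mp hx)) (Finset.mem_insert_of_mem hx)
      · rw [Equiv.Perm.ofSubtype_apply_of_not_mem _ hx])
    refine ⟨u * g, G.mul_mem hu hg, fun x hx => ?_, ?_⟩
    · rw [Equiv.Perm.mul_apply, hux _ (Finset.mem_insert_of_mem ((hgs' x).mpr hx)),
        hτmem _ ((hgs' x).mpr hx), Equiv.Perm.inv_def, Equiv.symm_apply_apply]
    · rw [Equiv.Perm.mul_apply, hga, hux b (Finset.mem_insert_self _ _), hτb]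

end Cfsg.Agent.S0705
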