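import Cfsg.Statements.S0706

import Mathlib

set_option autoImplicit false
set_option linter.style.haveILetI false
open Cfsg

namespace Cfsg.Agent.S0706

/-- In a generously `k`-transitive permutation group, for a prime `p ≤ k` and a `k`-set `Γ`, there are no `p` points outside `Γ` lying in distinct orbits of the pointwise stabiliser of `Γ` all of length prime to `p` (at most `p - 1` such orbits). -/
theorem result {α : Type*} [Fintype α] [DecidableEq α] (G : Subgroup (Equiv.Perm α)) {k : ℕ} (hk : k < Fintype.card α) (hgen : ∀ s : Finset α, s.card = k + 1 → ∀ σ : Equiv.Perm ↥s, ∃ g ∈ G, ∀ x : ↥s, g (x : α) = σ x) {p : ℕ} (hp : p.Prime) (hpk : p ≤ k) (Γ : Finset α) (hΓ : Γ.card = k) (f : Fin p → α) (hf : ∀ i, f i ∉ Γ) (hdist : ∀ i j, i ≠ j → f j ∉ MulAction.orbit (fixingSubgroup G (Γ : Set α)) (f i)) : ∃ i, p ∣ Nat.card (MulAction.orbit (fixingSubgroup G (Γ : Set α)) (f i)) := by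
  classical
  by_contra hcon
  push Not at hcon
  haveI : Fact p.Prime := ⟨hp⟩
  set K := fixingSubgroup G (Γ : Set α) with hKdef
  have memK : ∀ g : G, g ∈ K ↔ ∀ a ∈ Γ, g • a = a := fun g => by
    rw [hKdef, mem_fixingSubgroup_iff]; simp
  have gen : ∀ (s : Finset α), s.card = k + 1 → ∀ π : Equiv.Perm α, (∀ a, π a ∈ s ↔ a ∈ s) →
      ∃ g : G, ∀ a ∈ s, g • a = π a := by
    intro s hs π hπ
    obtain ⟨g, hg, hga⟩ := hgen s hs (π.subtypePerm hπ)
    exact ⟨⟨g, hg⟩, fun a ha => hga ⟨a, ha⟩⟩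
  let H : Subgroup G :=
    { carrier := {g | ∀ a, g • a ∈ Γ ↔ a ∈ Γ}
      one_mem' := fun a => by rw [one_smul]
      mul_mem' := fun {g g'} hg hg' a => by rw [mul_smul, hg, hg']
      inv_mem' := fun {g} hg a => by rw [← hg (g⁻¹ • a), smul_inv_smul] }
  have hKH : K ≤ H := fun g hg a => by
    constructor
    · intro ha
      have h1 := (memK g).1 hg _ ha
      rwa [MulAction.injective g h1] at ha
    · intro ha
      rw [(memK g).1 hg a ha]; exact ha
  have horb : ∀ h ∈ H, ∀ b, b ∉ Γ → ∃ u ∈ K, u • b = h • b := by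
    intro h hh b hb
    have hsub : ∀ a : α, (h : Equiv.Perm α) a ∈ Γ ↔ a ∈ Γ := fun a => hh a
    let π : Equiv.Perm α := Equiv.Perm.ofSubtype ((h : Equiv.Perm α).subtypePerm hsub)
    have hπ1 : ∀ a ∈ Γ, π a = h • a := fun a ha => Equiv.Perm.ofSubtype_apply_of_mem (p := fun z => z ∈ Γ) _ ha
    have hπ2 : ∀ a, a ∉ Γ → π a = a := fun a ha => Equiv.Perm.ofSubtype_apply_of_not_mem (p := fun z => z ∈ Γ) _ ha
    obtain ⟨y, hy⟩ := gen (insert b Γ) (by rw [Finset.card_insert_of_notMem hb, hΓ]) π fun a => by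
      simp only [Finset.mem_insert]
      by_cases ha : a ∈ Γ
      · simp [ha, hπ1 a ha, (hh a).2 ha]
      · rw [hπ2 a ha]
    refine ⟨h * y⁻¹, (memK _).2 fun a ha => ?_, ?_⟩
    · have h1 : h⁻¹ • a ∈ Γ := (hh _).1 (by rwa [smul_inv_smul])
      have h2 : y • (h⁻¹ • a) = a := by rw [hy _ (Finset.mem_insert_of_mem h1), hπ1 _ h1, smul_inv_smul]
      rw [mul_smul, inv_smul_eq_iff.2 h2.symm, smul_inv_smul]
    · rw [mul_smul, inv_smul_eq_iff.2 ((hy b (Finset.mem_insert_self _ _)).trans (hπ2 b hb)).symm]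
  -- a cycle of length `p` inside `Γ`
  obtain ⟨C, hCΓ, hC⟩ := Finset.exists_subset_card_eq (hΓ.symm ▸ hpk : p ≤ Γ.card)
  set c : Equiv.Perm α := C.toList.formPerm with hc
  have hne1 : ∀ a : α, C.toList ≠ [a] := fun a e => by
    have h1 := congrArg List.length e
    rw [Finset.length_toList, hC, List.length_singleton] at h1
    exact hp.one_lt.ne' h1
  have hsupp : c.support = C := by rw [hc, List.support_formPerm_of_nodup _ C.nodup_toList hne1, Finset.toList_toFinset]
  have hco : orderOf c = p := by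
    rw [Equiv.Perm.IsCycle.orderOf (List.isCycle_formPerm C.nodup_toList (by rw [Finset.length_toList, hC]; exact hp.two_le)), hsupp, hC]
  have hcΓ : ∀ a, c a ∈ Γ ↔ a ∈ Γ := fun a => by
    by_cases ha : a ∈ c.support
    · exact iff_of_true (hCΓ (hsupp ▸ Equiv.Perm.apply_mem_support.2 ha)) (hCΓ (hsupp ▸ ha))
    · rw [Equiv.Perm.notMem_support.1 ha]
  set i0 : Fin p := ⟨0, hp.pos⟩
  obtain ⟨h, hh⟩ := gen (insert (f i0) Γ) (by rw [Finset.card_insert_of_notMem (hf i0), hΓ]) c fun a => by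
    simp only [Finset.mem_insert, hcΓ]
    have hf0 : c (f i0) = f i0 := Equiv.Perm.notMem_support.1 fun e => hf i0 (hCΓ (hsupp ▸ e))
    constructor
    · rintro (e | e)
      · exact Or.inl (c.injective (e.trans hf0.symm))
      · exact Or.inr e
    · rintro (e | e)
      · exact Or.inl (by rw [e, hf0])
      · exact Or.inr e
  have hhH : h ∈ H := by
    intro a
    constructor
    · intro ha
      obtain ⟨a', ha', e⟩ : ∃ a' ∈ Γ, h • a' = h • a := ⟨c.symm (h • a), (hcΓ _).1 (by rwa [Equiv.apply_symm_apply]), by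
        rw [hh _ (Finset.mem_insert_of_mem ((hcΓ _).1 (by rwa [Equiv.apply_symm_apply]))), Equiv.apply_symm_apply]⟩
      rwa [← MulAction.injective h e]
    · intro ha
      rw [hh a (Finset.mem_insert_of_mem ha)]
      exact (hcΓ a).2 ha
  -- Frattini argument
  obtain ⟨P⟩ : Nonempty (Sylow p K) := inferInstance
  set P0 := (P : Subgroup K).map K.subtype with hP0
  have hconjK : P0.map (MulAut.conj h).toMonoidHom ≤ K := by
    rintro _ ⟨z, hz, rfl⟩
    refine (memK _).2 fun a ha => ?_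
    show (h * z * h⁻¹) • a = a
    have h1 : h⁻¹ • a ∈ Γ := (hhH _).1 (by rwa [smul_inv_smul])
    rw [mul_smul, mul_smul, (memK z).1 (Subgroup.map_subtype_le _ hz) _ h1, smul_inv_smul]
  have hcard : Nat.card ((P0.map (MulAut.conj h).toMonoidHom).subgroupOf K) = Nat.card (P : Subgroup K) := by
    rw [Nat.card_congr (Subgroup.subgroupOfEquivOfLe hconjK).toEquiv, Subgroup.card_map_of_injective (MulAut.conj h).injective,
      hP0, Subgroup.card_map_of_injective K.subtype_injective]
  let P' : Sylow p K := Sylow.ofCard _ (hcard.trans P.card_eq_multiplicity)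
  obtain ⟨u, hu⟩ := MulAction.exists_smul_eq K P P'
  set h1 : G := (u : G)⁻¹ * h with hh1
  have hh1H : h1 ∈ H := H.mul_mem (H.inv_mem (hKH u.2)) hhH
  have hh1c : ∀ a ∈ Γ, h1 • a = c a := fun a ha => by
    rw [hh1, mul_smul, hh a (Finset.mem_insert_of_mem ha), inv_smul_eq_iff, (memK _).1 u.2 _ ((hcΓ a).2 ha)]
  have hh1N : h1 ∈ Subgroup.normalizer (P0 : Set G) := by
    rw [Subgroup.mem_normalizer_iff_map_conj_eq]
    refine Subgroup.eq_of_le_of_card_ge ?_ (le_of_eq (Subgroup.card_map_of_injective (MulAut.conj h1).injective).symm)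
    rintro _ ⟨z, hz, rfl⟩
    have e1 : h * z * h⁻¹ ∈ P0.map (MulAut.conj h).toMonoidHom := ⟨z, hz, rfl⟩
    have e2 : (⟨_, hconjK e1⟩ : K) ∈ ((P' : Sylow p K) : Subgroup K) := by
      rw [Sylow.coe_ofCard]; exact e1
    rw [← hu, Sylow.coe_subgroup_smul, Subgroup.mem_pointwise_smul_iff_inv_smul_mem] at e2
    refine ⟨_, e2, ?_⟩
    simp [hh1, mul_assoc]
  -- the `p`-part
  obtain ⟨e, m, hm, hem⟩ := Nat.exists_eq_pow_mul_and_not_dvd (orderOf_pos h1).ne' p hp.one_lt.ne'
  set x := h1 ^ m with hx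
  have hpowΓ : ∀ n : ℕ, ∀ a ∈ Γ, h1 ^ n • a = (c ^ n) a ∧ (c ^ n) a ∈ Γ := by
    intro n
    induction n with
    | zero => intro a ha; simp [ha]
    | succ n ih =>
      intro a ha
      obtain ⟨i1, i2⟩ := ih a ha
      rw [pow_succ', mul_smul, i1, hh1c _ i2, pow_succ', Equiv.Perm.mul_apply]
      exact ⟨rfl, (hcΓ _).2 i2⟩
  have hxK : x ∉ K := fun hxK => hm (by
    rw [← hco]
    refine orderOf_dvd_of_pow_eq_one (Equiv.ext fun a => ?_)
    show (c ^ m) a = a
    by_cases ha : a ∈ Γ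
    · rw [← (hpowΓ m a ha).1]; exact (memK x).1 hxK a ha
    · exact Equiv.Perm.notMem_support.1 fun e => ha (hCΓ (hsupp ▸ Equiv.Perm.support_pow_le c m e)))
  have hxo : orderOf x = p ^ e := by
    have hm0 : m ≠ 0 := fun e0 => hm (e0 ▸ dvd_zero p)
    rw [hx, orderOf_pow' _ hm0, hem, Nat.gcd_eq_right (dvd_mul_left _ _), Nat.mul_div_cancel _ (Nat.pos_of_ne_zero hm0)]
  have hxp : IsPGroup p (Subgroup.zpowers x) := IsPGroup.of_card (n := e) (by rw [Nat.card_zpowers, hxo])
  set Q := P0 ⊔ Subgroup.zpowers x with hQ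
  have hQp : IsPGroup p Q := (P.isPGroup'.map K.subtype).to_sup_of_normal_left' hxp
    (Subgroup.zpowers_le.2 (Subgroup.pow_mem _ hh1N m))
  have hQH : Q ≤ H := sup_le ((Subgroup.map_subtype_le _).trans hKH) (Subgroup.zpowers_le.2 (H.pow_mem hh1H m))
  -- a fixed point of `Q` in each orbit
  have hfix : ∀ i, ∃ g, g ∈ MulAction.orbit K (f i) ∧ ∀ q ∈ Q, q • g = g := by
    intro i
    letI : MulAction Q (MulAction.orbit K (f i)) :=
      { smul := fun q z => ⟨(q : G) • (z : α), by
          obtain ⟨v, hv⟩ := z.2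
          have hv' : (v : G) • f i = z := hv
          have hzΓ : (z : α) ∉ Γ := fun hz => hf i ((hKH v.2 (f i)).1 (hv' ▸ hz))
          obtain ⟨w, hw, hwz⟩ := horb _ (hQH q.2) _ hzΓ
          refine ⟨⟨w, hw⟩ * v, ?_⟩
          show (w * (v : G)) • f i = (q : G) • (z : α)
          rw [mul_smul, hv', hwz]⟩
        one_smul := fun z => Subtype.ext (one_smul G (z : α))
        mul_smul := fun a b z => Subtype.ext (mul_smul (a : G) (b : G) (z : α)) }
    obtain ⟨z, hz⟩ := hQp.nonempty_fixed_point_of_prime_not_dvd_card _ (hcon i)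
    exact ⟨z, z.2, fun q hq => congrArg Subtype.val (hz ⟨q, hq⟩)⟩
  choose g hg hgQ using hfix
  have hginj : Function.Injective g := fun i j e => by
    by_contra hne
    refine hdist i j hne ?_
    rw [← MulAction.orbit_eq_iff.2 (hg i)] at *
    rw [e]
    exact MulAction.orbit_eq_iff.1 (MulAction.orbit_eq_iff.2 (hg j)).symm
  have hgΓ : ∀ i, g i ∉ Γ := fun i hgi => by
    obtain ⟨v, hv⟩ := hg i
    have hv' : (v : G) • f i = g i := hv
    exact hf i ((hKH v.2 (f i)).1 (hv' ▸ hgi))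
  set M := Γ.filter (fun a => x • a ≠ a) with hM
  have hMle : M.card ≤ p := by
    refine (Finset.card_le_card fun a ha => ?_).trans hC.le
    obtain ⟨ha1, ha2⟩ := Finset.mem_filter.1 ha
    rw [← hsupp]
    refine Equiv.Perm.support_pow_le c m (Equiv.Perm.mem_support.2 fun e => ha2 ?_)
    rw [hx, (hpowΓ m a ha1).1, e]
  obtain ⟨D, -, hD⟩ := Finset.exists_subset_card_eq (s := (Finset.univ : Finset (Fin p))) (n := M.card)
    (by rw [Finset.card_univ, Fintype.card_fin]; exact hMle)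
  set Γ' := (Γ \ M) ∪ D.image g with hΓ'
  have hΓ'c : Γ'.card = k := by
    have hMΓ : M ⊆ Γ := Finset.filter_subset _ _
    rw [hΓ', Finset.card_union_of_disjoint, Finset.card_sdiff_of_subset hMΓ,
      Finset.card_image_of_injective _ hginj, hD, hΓ]
    · have h9 : M.card ≤ k := hΓ ▸ Finset.card_le_card hMΓ
      omega
    · rw [Finset.disjoint_left]
      intro a ha ha'
      obtain ⟨i, -, rfl⟩ := Finset.mem_image.1 ha'
      exact hgΓ i (Finset.mem_sdiff.1 ha).1
  have hfixQ : ∀ q ∈ Q, ∀ a ∈ Γ', q • a = a := by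
    intro q hq a ha
    rcases Finset.mem_union.1 ha with ha | ha
    · have hle : Q ≤ MulAction.stabilizer G a := by
        refine sup_le (fun z hz => (memK z).1 (Subgroup.map_subtype_le _ hz) a (Finset.mem_sdiff.1 ha).1)
          (Subgroup.zpowers_le.2 ?_)
        show x • a = a
        by_contra hxa
        exact (Finset.mem_sdiff.1 ha).2 (Finset.mem_filter.2 ⟨(Finset.mem_sdiff.1 ha).1, hxa⟩)
      exact hle hq
    · obtain ⟨i, -, rfl⟩ := Finset.mem_image.1 ha
      exact hgQ i q hq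
  -- homogeneity
  have hhom : ∀ n : ℕ, ∀ A B : Finset α, A.card = k → B.card = k → (B \ A).card = n →
      ∃ y : G, ∀ a ∈ A, y • a ∈ B := by
    intro n
    induction n with
    | zero =>
      intro A B hA hB hn
      have : B = A := Finset.eq_of_subset_of_card_le (Finset.sdiff_eq_empty_iff_subset.1 (Finset.card_eq_zero.1 hn)) (by omega)
      exact ⟨1, fun a ha => by rw [one_smul, this]; exact ha⟩
    | succ n ih =>
      intro A B hA hB hn
      obtain ⟨b, hb⟩ := Finset.card_pos.1 (show 0 < (B \ A).card by omega)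
      obtain ⟨a, ha⟩ := Finset.card_pos.1 (show 0 < (A \ B).card by
        rw [Finset.card_sdiff_comm (by omega : A.card = B.card)]; omega)
      obtain ⟨hbB, hbA⟩ := Finset.mem_sdiff.1 hb
      obtain ⟨haA, haB⟩ := Finset.mem_sdiff.1 ha
      obtain ⟨y, hy⟩ := gen (insert b A) (by rw [Finset.card_insert_of_notMem hbA, hA]) (Equiv.swap a b) fun z => by
        simp only [Finset.mem_insert]
        by_cases h1 : z = a
        · subst h1; simp [haA]
        by_cases h2 : z = b
        · subst h2; simp [haA]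
        rw [Equiv.swap_apply_of_ne_of_ne h1 h2]
      set A' := insert b (A.erase a) with hA'
      have hA'c : A'.card = k := by
        rw [hA', Finset.card_insert_of_notMem (fun e => hbA (Finset.mem_of_mem_erase e)), Finset.card_erase_of_mem haA, hA]
        have := Finset.card_pos.2 ⟨a, haA⟩
        omega
      have hd : B \ A' = (B \ A).erase b := by
        ext z
        simp only [hA', Finset.mem_sdiff, Finset.mem_insert, Finset.mem_erase]
        constructor
        · rintro ⟨hz, hz'⟩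
          push Not at hz'
          exact ⟨hz'.1, hz, fun hzA => hz'.2 (fun e => haB (e ▸ hz)) hzA⟩
        · rintro ⟨hzb, hz, hzA⟩
          exact ⟨hz, by rintro (e | ⟨-, e⟩); exacts [hzb e, hzA e]⟩
      obtain ⟨y', hy'⟩ := ih A' B hA'c hB (by rw [hd, Finset.card_erase_of_mem hb]; omega)
      refine ⟨y' * y, fun z hz => ?_⟩
      rw [mul_smul, hy z (Finset.mem_insert_of_mem hz)]
      refine hy' _ ?_
      by_cases h1 : z = a
      · subst h1; simp [hA']
      · rw [Equiv.swap_apply_of_ne_of_ne h1 (fun e => hbA (by rw [← e]; exact hz)), hA']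
        exact Finset.mem_insert_of_mem (Finset.mem_erase.2 ⟨h1, hz⟩)
  obtain ⟨y, hy⟩ := hhom _ Γ' Γ hΓ'c hΓ rfl
  have hyΓ : ∀ a ∈ Γ, y⁻¹ • a ∈ Γ' := by
    intro a ha
    obtain ⟨b, hb, rfl⟩ := Finset.surj_on_of_inj_on_of_card_le (fun b _ => y • b) hy
      (fun b c _ _ e => MulAction.injective y e) (by omega) a ha
    rwa [inv_smul_smul]
  set Q' := Q.map (MulAut.conj y).toMonoidHom with hQ'
  have hQ'K : Q' ≤ K := by
    rintro _ ⟨q, hq, rfl⟩
    refine (memK _).2 fun a ha => ?_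
    show (y * q * y⁻¹) • a = a
    rw [mul_smul, mul_smul, hfixQ q hq _ (hyΓ a ha), smul_inv_smul]
  obtain ⟨S, hS⟩ := (hQp.map (MulAut.conj y).toMonoidHom |>.of_equiv (Subgroup.subgroupOfEquivOfLe hQ'K).symm).exists_le_sylow
  have h5 : Nat.card Q ≤ Nat.card P0 := by
    rw [← Subgroup.card_map_of_injective (K := Q) (f := (MulAut.conj y).toMonoidHom) (MulAut.conj y).injective, ← hQ',
      ← Nat.card_congr (Subgroup.subgroupOfEquivOfLe hQ'K).toEquiv, hP0, Subgroup.card_map_of_injective K.subtype_injective,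
      ← Nat.card_congr (Sylow.equiv S P).toEquiv]
    exact Subgroup.card_le_of_le hS
  have h6 : P0 = Q := Subgroup.eq_of_le_of_card_ge le_sup_left h5
  exact hxK (Subgroup.map_subtype_le _ (h6.symm ▸ (le_sup_right : Subgroup.zpowers x ≤ Q) (Subgroup.mem_zpowers x) : x ∈ P0))

end Cfsg.Agent.S0706
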