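import Cfsg.Statements.S0707

import Mathlib

set_option autoImplicit false
set_option linter.style.haveILetI false
open Cfsg

namespace Cfsg.Agent.S0707

/-- In a primitive permutation group, distinct points have distinct stabilisers unless the group is regular of prime degree. -/
theorem result {α : Type*} (G : Subgroup (Equiv.Perm α)) [MulAction.IsPreprimitive G α] (h : ¬ (Nat.card α).Prime ∨ ∃ a : α, MulAction.stabilizer G a ≠ ⊥) {a b : α} (hab : a ≠ b) : MulAction.stabilizer G a ≠ MulAction.stabilizer G b := by
  classical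
  intro heq
  haveI : Nontrivial α := ⟨⟨a, b, hab⟩⟩
  have hmax := MulAction.IsPreprimitive.isCoatom_stabilizer_of_isPreprimitive (G := G) a
  set H := MulAction.stabilizer G a with hH
  obtain ⟨g, hg⟩ := MulAction.exists_smul_eq G a b
  have hconj : ∀ (k : G) (x : α) (u : G),
      u ∈ MulAction.stabilizer G (k • x) ↔ k⁻¹ * u * k ∈ MulAction.stabilizer G x := by
    intro k x u
    simp only [MulAction.mem_stabilizer_iff, mul_smul, inv_smul_eq_iff]
  have hgn : g ∈ Subgroup.normalizer (H : Set G) := by
    rw [Subgroup.mem_normalizer_iff']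
    intro u
    have h1 := hconj g a (g * u)
    rw [hg, ← heq, ← mul_assoc, inv_mul_cancel, one_mul] at h1
    exact h1.symm
  have hgH : g ∉ H := by
    intro h
    rw [hH, MulAction.mem_stabilizer_iff, hg] at h
    exact hab h.symm
  have htop : Subgroup.normalizer (H : Set G) = ⊤ := by
    refine hmax.2 _ (lt_of_le_of_ne Subgroup.le_normalizer fun he => hgH (he ▸ hgn))
  have hall : ∀ (x : α), MulAction.stabilizer G x = H := by
    intro x
    obtain ⟨k, hk⟩ := MulAction.exists_smul_eq G a x
    have hkn : k ∈ Subgroup.normalizer (H : Set G) := htop ▸ Subgroup.mem_top k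
    ext u
    rw [← hk, hconj k a u, ← hH]
    have := (Subgroup.mem_normalizer_iff.mp hkn) (k⁻¹ * u * k)
    simpa [mul_assoc] using this
  have hbot : H = ⊥ := by
    rw [Subgroup.eq_bot_iff_forall]
    intro u hu
    apply Subtype.ext
    apply Equiv.ext
    intro x
    have := hu
    rw [← hall x, MulAction.mem_stabilizer_iff] at this
    exact this
  rcases h with h | ⟨c, hc⟩
  · apply h
    have hbij : Function.Bijective (fun u : G => u • a) := by
      refine ⟨fun u v huv => ?_, fun x => MulAction.exists_smul_eq G a x⟩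
      have : v⁻¹ * u ∈ H := by
        rw [hH, MulAction.mem_stabilizer_iff, mul_smul, inv_smul_eq_iff]
        exact huv
      rw [hbot, Subgroup.mem_bot] at this
      exact (inv_mul_eq_one.mp this).symm
    rw [← Nat.card_eq_of_bijective _ hbij]
    haveI : Nontrivial G := ⟨⟨g, 1, fun h1 => hgH (h1 ▸ H.one_mem)⟩⟩
    rw [hbot] at hmax
    haveI : IsSimpleGroup G := ⟨fun K _ => (eq_or_ne K ⊥).imp id
      (fun hK => hmax.2 K (bot_lt_iff_ne_bot.mpr hK))⟩
    haveI : IsCyclic G := by
      refine ⟨⟨g, fun u => ?_⟩⟩
      have : Subgroup.zpowers g = ⊤ := hmax.2 _ (bot_lt_iff_ne_bot.mpr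
        (by rw [Ne, Subgroup.zpowers_eq_bot]; exact fun h1 => hgH (h1 ▸ H.one_mem)))
      have hm : u ∈ Subgroup.zpowers g := by rw [this]; exact Subgroup.mem_top u
      exact Subgroup.mem_zpowers_iff.mp hm
    letI : CommGroup G := IsCyclic.commGroup
    exact CommGroup.is_simple_iff_prime_card.mp inferInstance
  · exact hc ((hall c).trans hbot)

end Cfsg.Agent.S0707
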