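import Mathlib
-- Template for statement S0708 (row 708; see /opt/grader/pristine/manifest.json for weights).
-- Copy to Cfsg/Agent/S0708.lean and replace the sorry. The statement below is byte-identical to the frozen
-- statement Cfsg.CfsgFrozen.S0708 (Cfsg/Statements/S0708.lean; the theorem Cfsg.sharply_four_transitive_degree_le_eleven);
-- the grader kernel-checks Cfsg.Agent.S0708.result against that frozen type. Keep the theorem IN THIS FILE
-- (a `result` declared elsewhere and merely imported here is not credited); helpers may live anywhere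
-- under Cfsg/Agent/.
import Cfsg.Statements.S0708
import Cfsg.Agent.Spor.SharpJordan
-- import your own Cfsg.Agent.* helpers here

set_option autoImplicit false
open Cfsg

namespace Cfsg.Agent.S0708

set_option maxHeartbeats 1000000 in
/-- Tits' argument: a sharply 4-transitive group (no finiteness assumed) has finite degree at most 11, and at most 6 when the degree is even. -/
theorem result {G : Type*} [Group G] {Ω : Type*} [MulAction G Ω] (h4 : MulAction.IsMultiplyPretransitive G Ω 4) (hsharp : ∀ x : Fin 4 ↪ Ω, MulAction.stabilizer G x = ⊥) (hne : Nonempty (Fin 4 ↪ Ω)) : Finite Ω ∧ Nat.card Ω ≤ 11 ∧ (Even (Nat.card Ω) → Nat.card Ω ≤ 6) := by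
  classical
  obtain ⟨e⟩ := hne
  haveI := h4
  have hex : ∀ f f' : Fin 4 → Ω, Function.Injective f → Function.Injective f' → ∃ g : G, ∀ i, g • f i = f' i := by
    intro f f' hf hf'
    obtain ⟨g, hg⟩ := MulAction.exists_smul_eq G (⟨f, hf⟩ : Fin 4 ↪ Ω) ⟨f', hf'⟩
    exact ⟨g, fun i => by simpa using DFunLike.congr_fun hg i⟩
  have huni : ∀ (g : G) (f : Fin 4 → Ω), Function.Injective f → (∀ i, g • f i = f i) → g = 1 := by
    intro g f hf hg
    have h : g ∈ MulAction.stabilizer G (⟨f, hf⟩ : Fin 4 ↪ Ω) := MulAction.mem_stabilizer_iff.2 (DFunLike.ext _ _ hg)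
    rwa [hsharp, Subgroup.mem_bot] at h
  set a := e 0
  set b := e 1
  set c := e 2
  set d := e 3
  have hne4 : ∀ {i j : Fin 4}, i ≠ j → e i ≠ e j := fun h => e.injective.ne h
  obtain ⟨x, hx⟩ := hex e ![b, a, c, d] e.injective (by
    have : (![b, a, c, d] : Fin 4 → Ω) = e ∘ ![1, 0, 2, 3] := by ext i; fin_cases i <;> rfl
    rw [this]; exact e.injective.comp (by decide))
  have xa : x • a = b := hx 0
  have xb : x • b = a := hx 1
  have xc : x • c = c := hx 2
  have xd : x • d = d := hx 3
  have hxx : ∀ w : Ω, x • x • w = w := by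
    have h1 : x * x = 1 := huni _ e e.injective (by
      intro i
      rw [mul_smul]
      fin_cases i
      · show x • x • a = a; rw [xa, xb]
      · show x • x • b = b; rw [xb, xa]
      · show x • x • c = c; rw [xc, xc]
      · show x • x • d = d; rw [xd, xd])
    intro w; rw [← mul_smul, h1, one_smul]
  set F : Set Ω := {w | x • w = w}
  have hF : F.Finite := by
    by_contra hinf
    haveI : Infinite F := Set.infinite_coe_iff.2 hinf
    let f : Fin 4 ↪ F := Fin.valEmbedding.trans (Infinite.natEmbedding F)
    have h1 := huni x (fun i => (f i : Ω)) (Subtype.val_injective.comp f.injective) fun i => (f i).2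
    rw [h1, one_smul] at xa
    exact hne4 (show (0 : Fin 4) ≠ 1 by decide) xa
  set M : Set Ω := {w | x • w ≠ w ∧ w ≠ a ∧ w ≠ b}
  have hM : M.Finite := by
    rcases M.eq_empty_or_nonempty with h | ⟨p, hp1, hpa, hpb⟩
    · rw [h]; exact Set.finite_empty
    have inj : ∀ w ∈ M, Function.Injective (![a, b, w, x • w] : Fin 4 → Ω) := by
      rintro w ⟨h1, h2, h3⟩
      have n1 : a ≠ b := hne4 (show (0 : Fin 4) ≠ 1 by decide)
      have n2 : x • w ≠ a := fun h => h3 (by rw [← hxx w, h, xa])
      have n3 : x • w ≠ b := fun h => h2 (by rw [← hxx w, h, xb])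
      refine List.nodup_ofFn.1 (show List.Nodup [a, b, w, x • w] from ?_)
      simp [n1, Ne.symm h2, Ne.symm h3, Ne.symm n2, Ne.symm n3, Ne.symm h1]
    have key : ∀ w : M, ∃ g : G, g • a = a ∧ g • b = b ∧ g • p = w ∧ g • c ∈ F ∧ g • d ∈ F := by
      rintro ⟨w, hw⟩
      obtain ⟨g, hg⟩ := hex _ _ (inj p ⟨hp1, hpa, hpb⟩) (inj w hw)
      have g0 : g • a = a := hg 0
      have g1 : g • b = b := hg 1
      have g2 : g • p = w := hg 2
      have g3 : g • (x • p) = x • w := hg 3
      have hc : (x * g)⁻¹ * (g * x) = 1 := huni _ _ (inj p ⟨hp1, hpa, hpb⟩) (by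
        intro i
        rw [mul_smul, inv_smul_eq_iff, mul_smul, mul_smul]
        fin_cases i
        · show g • x • a = x • g • a; rw [xa, g1, g0, xa]
        · show g • x • b = x • g • b; rw [xb, g0, g1, xb]
        · show g • x • p = x • g • p; rw [g3, g2]
        · show g • x • (x • p) = x • g • (x • p); rw [hxx, g2, g3, hxx])
      rw [inv_mul_eq_one] at hc
      refine ⟨g, g0, g1, g2, ?_, ?_⟩
      · show x • g • c = g • c
        rw [← mul_smul, hc, mul_smul, xc]
      · show x • g • d = g • d
        rw [← mul_smul, hc, mul_smul, xd]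
    choose g g0 g1 g2 g3 g4 using key
    haveI := hF.to_subtype
    have hinj : Function.Injective (fun w : M => ((⟨_, g3 w⟩, ⟨_, g4 w⟩) : F × F)) := by
      intro v w h
      simp only [Prod.mk.injEq, Subtype.mk.injEq] at h
      have h5 : (g v)⁻¹ * g w = 1 := huni _ e e.injective (by
        intro i
        rw [mul_smul, inv_smul_eq_iff]
        fin_cases i
        · show g w • a = g v • a; rw [g0, g0]
        · show g w • b = g v • b; rw [g1, g1]
        · exact h.1.symm
        · exact h.2.symm)
      rw [inv_mul_eq_one] at h5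
      exact Subtype.ext (by rw [← g2 v, ← g2 w, h5])
    haveI := Finite.of_injective _ hinj
    exact Set.toFinite M
  haveI hΩ : Finite Ω := Set.finite_univ_iff.1 (((hF.union hM).union ((Set.finite_singleton b).insert a)).subset (by
    intro w _
    simp only [F, M, Set.mem_union, Set.mem_insert_iff, Set.mem_singleton_iff, Set.mem_setOf_eq]
    tauto))
  haveI : Finite G := Finite.of_injective (fun (g : G) (i : Fin 4) => g • e i) (by
    intro g g' h
    refine (inv_mul_eq_one.1 (huni (g⁻¹ * g') e e.injective fun i => ?_))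
    rw [mul_smul, inv_smul_eq_iff]
    exact (congrFun h i).symm)
  have h4' : 4 ≤ Nat.card Ω := by
    simpa using Nat.card_le_card_of_injective e e.injective
  have := CfsgLib.Spor.SharpJordan.four (G := G) (X := Ω) ⟨hex, huni⟩ h4'
  refine ⟨hΩ, by omega, fun ⟨t, ht⟩ => by omega⟩

end Cfsg.Agent.S0708
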