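import Cfsg.Statements.S0709

import Mathlib

set_option autoImplicit false
set_option linter.style.haveILetI false
open Cfsg

namespace Cfsg.Agent.S0709

/-- Witt's Lemma for constructing transitive extensions. Points `q 1, …, q t` (`t ≥ 2`) of a finite set are given; `G` fixes `q i` for `i ≥ 3` and is doubly transitive on the remaining points; `s 1 ∈ G` swaps `q 1, q 2`; for `2 ≤ i ≤ t-1`, `s i` swaps `q i, q (i+1)` and fixes the other `q j`; with `H` the stabiliser of `q 1, q 2` in `G`: `s i ^ 2 ∈ H`, `(s i * s (i+1)) ^ 3 ∈ H`, `(s i * s j) ^ 2 ∈ H` for `j ≥ i + 2`, and `s i` (`i ≥ 2`) normalises the stabiliser of `q 2` in `G`. Then `G` and the `s i` generate a `t`-transitive group whose pointwise stabiliser of the `q`'s is `H`. -/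
theorem result {α : Type*} [Fintype α] [DecidableEq α] (t : ℕ) (ht : 2 ≤ t) (q : ℕ → α) (hq : ∀ i j : ℕ, 1 ≤ i → i ≤ t → 1 ≤ j → j ≤ t → q i = q j → i = j) (G : Subgroup (Equiv.Perm α)) (hfix : ∀ g ∈ G, ∀ i : ℕ, 3 ≤ i → i ≤ t → g (q i) = q i) (h2 : ∀ a b c d : α, (∀ i, 3 ≤ i → i ≤ t → a ≠ q i ∧ b ≠ q i ∧ c ≠ q i ∧ d ≠ q i) → a ≠ b → c ≠ d → ∃ g ∈ G, g a = c ∧ g b = d) (s : ℕ → Equiv.Perm α) (hs1 : s 1 ∈ G) (hs1q : s 1 (q 1) = q 2 ∧ s 1 (q 2) = q 1) (hsq : ∀ i : ℕ, 2 ≤ i → i + 1 ≤ t → s i (q i) = q (i + 1) ∧ s i (q (i + 1)) = q i ∧ ∀ j : ℕ, 1 ≤ j → j ≤ t → j ≠ i → j ≠ i + 1 → s i (q j) = q j) (H : Subgroup (Equiv.Perm α)) (hH : H = G ⊓ MulAction.stabilizer (Equiv.Perm α) (q 1) ⊓ MulAction.stabilizer (Equiv.Perm α) (q 2)) (hsq2 : ∀ i : ℕ, 1 ≤ i → i + 1 ≤ t → s i ^ 2 ∈ H) (hbraid : ∀ i : ℕ, 1 ≤ i → i + 2 ≤ t → (s i * s (i + 1)) ^ 3 ∈ H) (hcomm : ∀ i j : ℕ, 1 ≤ i → i + 2 ≤ j → j + 1 ≤ t → (s i * s j) ^ 2 ∈ H ∧ (s j * s i) ^ 2 ∈ H) (hnorm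 : ∀ i : ℕ, 2 ≤ i → i + 1 ≤ t → ∀ g ∈ G ⊓ MulAction.stabilizer (Equiv.Perm α) (q 2), s i * g * (s i)⁻¹ ∈ G ⊓ MulAction.stabilizer (Equiv.Perm α) (q 2)) : MulAction.IsMultiplyPretransitive ↥(Subgroup.closure ((G : Set (Equiv.Perm α)) ∪ {x | ∃ i : ℕ, 2 ≤ i ∧ i + 1 ≤ t ∧ x = s i})) α t ∧ Subgroup.closure ((G : Set (Equiv.Perm α)) ∪ {x | ∃ i : ℕ, 2 ≤ i ∧ i + 1 ≤ t ∧ x = s i}) ⊓ fixingSubgroup (Equiv.Perm α) {x | ∃ i : ℕ, 1 ≤ i ∧ i ≤ t ∧ x = q i} = H := by
  classical
  set F := G ⊓ MulAction.stabilizer (Equiv.Perm α) (q 2) with hF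
  have hHF : H ≤ F := by
    rw [hH, hF]
    exact fun g hg => ⟨hg.1.1, hg.2⟩
  have hqne : ∀ i j : ℕ, 1 ≤ i → i ≤ t → 1 ≤ j → j ≤ t → i ≠ j → q i ≠ q j :=
    fun i j h1 h3 h4 h5 hne he => hne (hq i j h1 h3 h4 h5 he)
  have hFfix : ∀ g ∈ F, ∀ j, 2 ≤ j → j ≤ t → g (q j) = q j := by
    intro g hg j hj hjt
    rcases Nat.lt_or_ge j 3 with h | h
    · obtain rfl : j = 2 := by omega
      exact hg.2
    · exact hfix g hg.1 j h hjt
  have hswap : ∀ i, 1 ≤ i → i + 1 ≤ t → s i (q i) = q (i + 1) ∧ s i (q (i + 1)) = q i ∧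
      ∀ j, i + 2 ≤ j → j ≤ t → s i (q j) = q j := by
    intro i hi hit
    rcases Nat.lt_or_ge i 2 with h | h
    · obtain rfl : i = 1 := by omega
      exact ⟨hs1q.1, hs1q.2, fun j hj hjt => hfix _ hs1 j hj hjt⟩
    · obtain ⟨h1, h3, h4⟩ := hsq i h hit
      exact ⟨h1, h3, fun j hj hjt => h4 j (by omega) hjt (by omega) (by omega)⟩
  let M : ℕ → Subgroup (Equiv.Perm α) := fun k =>
    Subgroup.closure ((F : Set (Equiv.Perm α)) ∪ {x | ∃ i, 1 ≤ i ∧ i ≤ k ∧ x = s i})
  have hFM : ∀ k, F ≤ M k := fun k x hx => Subgroup.subset_closure (Or.inl hx)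
  have hHM : ∀ k, H ≤ M k := fun k => hHF.trans (hFM k)
  have hsM : ∀ i k, 1 ≤ i → i ≤ k → s i ∈ M k := fun i k h1 h3 =>
    Subgroup.subset_closure (Or.inr ⟨i, h1, h3, rfl⟩)
  have hmono : ∀ k, M k ≤ M (k + 1) := fun k => Subgroup.closure_mono
    (Set.union_subset_union_right _ fun x ⟨i, h1, h3, h4⟩ => ⟨i, h1, by omega, h4⟩)
  have hMfix : ∀ k, k + 1 ≤ t → ∀ g ∈ M k, ∀ j, k + 2 ≤ j → j ≤ t → g (q j) = q j := by
    intro k hk g hg j hj hjt
    induction hg using Subgroup.closure_induction with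
    | mem x hx =>
      rcases hx with hx | ⟨i, h1, h3, rfl⟩
      · exact hFfix x hx j (by omega) hjt
      · exact (hswap i h1 (by omega)).2.2 j (by omega) hjt
    | one => rfl
    | mul x y _ _ hx hy => rw [Equiv.Perm.mul_apply, hy, hx]
    | inv x _ hx => rw [Equiv.Perm.inv_def, Equiv.symm_apply_eq]; exact hx.symm
  have hnormal : ∀ k, k + 2 ≤ t → ∀ i, k + 2 ≤ i → i + 1 ≤ t →
      ∀ g ∈ M k, s i * g * (s i)⁻¹ ∈ M k := by
    intro k hk i hi hit g hg
    induction hg using Subgroup.closure_induction with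
    | mem x hx =>
      rcases hx with hx | ⟨j, h1, h3, rfl⟩
      · exact hFM k (hnorm i (by omega) hit x hx)
      · have h4 := (hcomm j i h1 (by omega) hit).2
        have h5 : s i * s j * (s i)⁻¹ = ((s i * s j) ^ 2) * (s j)⁻¹ * ((s i) ^ 2)⁻¹ := by
          rw [pow_two, pow_two]; group
        rw [h5]
        exact (M k).mul_mem ((M k).mul_mem (hHM k h4) ((M k).inv_mem (hsM j k h1 h3)))
          ((M k).inv_mem (hHM k (hsq2 i (by omega) hit)))
    | one => simp
    | mul x y _ _ hx hy =>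
      rw [show s i * (x * y) * (s i)⁻¹ = (s i * x * (s i)⁻¹) * (s i * y * (s i)⁻¹) by group]
      exact (M k).mul_mem hx hy
    | inv x _ hx =>
      rw [show s i * x⁻¹ * (s i)⁻¹ = (s i * x * (s i)⁻¹)⁻¹ by group]
      exact (M k).inv_mem hx
  have hGF : ∀ a c : α, (∀ i, 2 ≤ i → i ≤ t → a ≠ q i ∧ c ≠ q i) → ∃ f ∈ F, f a = c := by
    intro a c hac
    obtain ⟨g, hg, h1, h3⟩ := h2 a (q 2) c (q 2) (fun i hi hit =>
      ⟨(hac i (by omega) hit).1, hqne 2 i (by omega) ht (by omega) hit (by omega),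
        (hac i (by omega) hit).2, hqne 2 i (by omega) ht (by omega) hit (by omega)⟩)
      (hac 2 le_rfl ht).1 (hac 2 le_rfl ht).2
    exact ⟨g, ⟨hg, h3⟩, h1⟩
  have hM1 : ∀ g ∈ M 1, g ∈ G := by
    intro g hg
    refine (Subgroup.closure_le G).mpr ?_ hg
    rintro x (hx | ⟨i, h1, h3, rfl⟩)
    · exact hx.1
    · obtain rfl : i = 1 := by omega
      exact hs1
  have hdecomp : ∀ k, k + 2 ≤ t → ∀ g ∈ M (k + 1),
      g ∈ M k ∨ ∃ a ∈ M k, ∃ b ∈ M k, g = a * s (k + 1) * b := by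
    intro k
    induction k with
    | zero =>
      intro _ g hg
      have hgG := hM1 g hg
      by_cases h : g (q 2) = q 2
      · exact Or.inl (hFM 0 ⟨hgG, h⟩)
      · right
        obtain ⟨f, hf, hfq⟩ := hGF (q 1) (g (q 2)) (fun i hi hit => ⟨hqne 1 i le_rfl (by omega)
          (by omega) hit (by omega), fun he => by
            rcases Nat.lt_or_ge i 3 with h4 | h4
            · obtain rfl : i = 2 := by omega
              exact h he
            · have h5 := g.injective (he.trans (hfix g hgG i h4 hit).symm)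
              exact hqne 2 i (by omega) ht (by omega) hit (by omega) h5⟩)
        refine ⟨f, hFM 0 hf, (s 1)⁻¹ * f⁻¹ * g, hFM 0 ⟨G.mul_mem (G.mul_mem (G.inv_mem hs1)
          (G.inv_mem hf.1)) hgG, ?_⟩, by group⟩
        show ((s 1)⁻¹ * f⁻¹ * g) (q 2) = q 2
        rw [Equiv.Perm.mul_apply, Equiv.Perm.mul_apply, ← hfq, Equiv.Perm.inv_def,
          Equiv.Perm.inv_def, Equiv.symm_apply_apply, Equiv.symm_apply_eq]
        exact hs1q.2.symm
    | succ k ih =>
      intro hk g hg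
      have hs := hnormal k (by omega) (k + 2) le_rfl (by omega)
      set σ := s (k + 2) with hσ
      have hσ2 : σ ^ 2 ∈ M (k + 1) := hHM _ (hsq2 (k + 2) (by omega) (by omega))
      have hσ2' : σ ^ 2 ∈ M k := hHM _ (hsq2 (k + 2) (by omega) (by omega))
      have hconj' : ∀ y ∈ M k, σ⁻¹ * y * σ ∈ M k := by
        intro y hy
        rw [show σ⁻¹ * y * σ = (σ ^ 2)⁻¹ * (σ * y * σ⁻¹) * σ ^ 2 by rw [pow_two]; group]
        exact (M k).mul_mem ((M k).mul_mem ((M k).inv_mem hσ2') (hs y hy)) hσ2'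
      let U : Set (Equiv.Perm α) :=
        {x | x ∈ M (k + 1) ∨ ∃ a ∈ M (k + 1), ∃ b ∈ M (k + 1), x = a * σ * b}
      have hUl : ∀ a ∈ M (k + 1), ∀ x ∈ U, ∀ b ∈ M (k + 1), a * x * b ∈ U := by
        rintro a ha x (hx | ⟨c, hc, d, hd, rfl⟩) b hb
        · exact Or.inl ((M (k + 1)).mul_mem ((M (k + 1)).mul_mem ha hx) hb)
        · exact Or.inr ⟨a * c, (M (k + 1)).mul_mem ha hc, d * b, (M (k + 1)).mul_mem hd hb, by group⟩
      have hsxs : ∀ x ∈ M (k + 1), σ * x * σ ∈ U := by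
        intro x hx
        rcases ih (by omega) x hx with hx' | ⟨a, ha, b, hb, rfl⟩
        · left
          rw [show σ * x * σ = (σ * x * σ⁻¹) * σ ^ 2 by rw [pow_two]; group]
          exact (M (k + 1)).mul_mem (hmono k (hs x hx')) hσ2
        · have hbr := hHM (k + 1) (hbraid (k + 1) (by omega) (by omega))
          set τ := s (k + 1) with hτ
          have hτM : τ ∈ M (k + 1) := hsM _ _ (by omega) le_rfl
          have hmid : σ * τ * σ ∈ U := by
            refine Or.inr ⟨τ⁻¹ * (τ * σ) ^ 3, (M (k + 1)).mul_mem ((M (k + 1)).inv_mem hτM) hbr,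
              (σ ^ 2)⁻¹ * τ⁻¹, (M (k + 1)).mul_mem ((M (k + 1)).inv_mem hσ2) ((M (k + 1)).inv_mem hτM), ?_⟩
            rw [pow_three, pow_two]; group
          have h5 := hUl _ (hmono k (hs a ha)) _ hmid _ (hmono k (hconj' b hb))
          rw [show σ * (a * τ * b) * σ = σ * a * σ⁻¹ * (σ * τ * σ) * (σ⁻¹ * b * σ) by group]
          exact h5
      have hUmul : ∀ x ∈ U, ∀ y ∈ U, x * y ∈ U := by
        rintro x (hx | ⟨a, ha, b, hb, rfl⟩) y hy
        · simpa using hUl x hx y hy 1 (M (k + 1)).one_mem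
        · rcases hy with hy | ⟨c, hc, d, hd, rfl⟩
          · exact Or.inr ⟨a, ha, b * y, (M (k + 1)).mul_mem hb hy, by group⟩
          · rw [show a * σ * b * (c * σ * d) = a * (σ * (b * c) * σ) * d by group]
            exact hUl a ha _ (hsxs _ ((M (k + 1)).mul_mem hb hc)) d hd
      have hUinv : ∀ x ∈ U, x⁻¹ ∈ U := by
        rintro x (hx | ⟨a, ha, b, hb, rfl⟩)
        · exact Or.inl ((M (k + 1)).inv_mem hx)
        · exact Or.inr ⟨b⁻¹, (M (k + 1)).inv_mem hb, (σ ^ 2)⁻¹ * a⁻¹,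
            (M (k + 1)).mul_mem ((M (k + 1)).inv_mem hσ2) ((M (k + 1)).inv_mem ha), by
              rw [pow_two]; group⟩
      have hgU : g ∈ U := by
        induction hg using Subgroup.closure_induction with
        | mem x hx =>
          rcases hx with hx | ⟨i, h1, h3, rfl⟩
          · exact Or.inl (hFM _ hx)
          · rcases Nat.lt_or_ge i (k + 2) with h | h
            · exact Or.inl (hsM i _ h1 (by omega))
            · obtain rfl : i = k + 2 := by omega
              exact Or.inr ⟨1, one_mem _, 1, one_mem _, by simp [hσ]⟩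
        | one => exact Or.inl (one_mem _)
        | mul x y _ _ hx hy => exact hUmul x hx y hy
        | inv x _ hx => exact hUinv x hx
      exact hgU
  have hstab : ∀ k, k + 2 ≤ t → ∀ g ∈ M (k + 1), g (q (k + 2)) = q (k + 2) → g ∈ M k := by
    intro k hk g hg hgq
    rcases hdecomp k hk g hg with h | ⟨a, ha, b, hb, rfl⟩
    · exact h
    · exfalso
      rw [Equiv.Perm.mul_apply, Equiv.Perm.mul_apply, hMfix k (by omega) b hb (k + 2) le_rfl hk,
        (hswap (k + 1) (by omega) hk).2.1] at hgq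
      have h4 := a.injective (hgq.trans (hMfix k (by omega) a ha (k + 2) le_rfl hk).symm)
      exact hqne (k + 1) (k + 2) (by omega) (by omega) (by omega) hk (by omega) h4
  have htrans : ∀ k, k + 1 ≤ t → ∀ a : α, (∀ j, k + 2 ≤ j → j ≤ t → a ≠ q j) →
      ∃ g ∈ M k, g a = q (k + 1) := by
    intro k
    induction k with
    | zero =>
      intro _ a ha
      obtain ⟨f, hf, hfa⟩ := hGF a (q 1) fun i hi hit =>
        ⟨ha i (by omega) hit, hqne 1 i le_rfl (by omega) (by omega) hit (by omega)⟩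
      exact ⟨f, hFM 0 hf, hfa⟩
    | succ k ih =>
      intro hk a ha
      by_cases hak : a = q (k + 2)
      · exact ⟨1, one_mem _, by rw [hak]; rfl⟩
      obtain ⟨g, hg, hga⟩ := ih (by omega) a fun j hj hjt => by
        rcases Nat.lt_or_ge j (k + 3) with h | h
        · obtain rfl : j = k + 2 := by omega
          exact hak
        · exact ha j h hjt
      refine ⟨s (k + 1) * g, (M (k + 1)).mul_mem (hsM _ _ (by omega) le_rfl) (hmono k hg), ?_⟩
      rw [Equiv.Perm.mul_apply, hga]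
      exact (hswap (k + 1) (by omega) hk).1
  have hE : Subgroup.closure ((G : Set (Equiv.Perm α)) ∪ {x | ∃ i : ℕ, 2 ≤ i ∧ i + 1 ≤ t ∧ x = s i})
      = M (t - 1) := by
    have hGM : G ≤ M (t - 1) := by
      intro g hg
      by_cases h : g (q 2) = q 2
      · exact hFM _ ⟨hg, h⟩
      · obtain ⟨f, hf, hfq⟩ := hGF (q 1) (g (q 2)) (fun i hi hit => ⟨hqne 1 i le_rfl (by omega)
          (by omega) hit (by omega), fun he => by
            rcases Nat.lt_or_ge i 3 with h4 | h4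
            · obtain rfl : i = 2 := by omega
              exact h he
            · have h5 := g.injective (he.trans (hfix g hg i h4 hit).symm)
              exact hqne 2 i (by omega) ht (by omega) hit (by omega) h5⟩)
        have h6 : (s 1)⁻¹ * f⁻¹ * g ∈ F := by
          refine ⟨G.mul_mem (G.mul_mem (G.inv_mem hs1) (G.inv_mem hf.1)) hg, ?_⟩
          show ((s 1)⁻¹ * f⁻¹ * g) (q 2) = q 2
          rw [Equiv.Perm.mul_apply, Equiv.Perm.mul_apply, ← hfq, Equiv.Perm.inv_def,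
            Equiv.Perm.inv_def, Equiv.symm_apply_apply, Equiv.symm_apply_eq]
          exact hs1q.2.symm
        rw [show g = f * s 1 * ((s 1)⁻¹ * f⁻¹ * g) by group]
        exact (M _).mul_mem ((M _).mul_mem (hFM _ hf) (hsM 1 _ le_rfl (by omega))) (hFM _ h6)
    refine le_antisymm ((Subgroup.closure_le _).mpr ?_) ((Subgroup.closure_le _).mpr ?_)
    · rintro x (hx | ⟨i, h1, h3, rfl⟩)
      · exact hGM hx
      · exact hsM i _ (by omega) (by omega)
    · rintro x (hx | ⟨i, h1, h3, rfl⟩)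
      · exact Subgroup.subset_closure (Or.inl hx.1)
      · rcases Nat.lt_or_ge i 2 with h | h
        · obtain rfl : i = 1 := by omega
          exact Subgroup.subset_closure (Or.inl hs1)
        · exact Subgroup.subset_closure (Or.inr ⟨i, h, by omega, rfl⟩)
  have hMle : ∀ k, k + 1 ≤ t → M k ≤ M (t - 1) := fun k hk => Subgroup.closure_mono
    (Set.union_subset_union_right _ fun x ⟨i, h1, h3, h4⟩ => ⟨i, h1, by omega, h4⟩)
  rw [hE]
  refine ⟨?_, le_antisymm ?_ ?_⟩
  · have key : ∀ x : Fin t ↪ α, ∀ k, k ≤ t → ∃ g ∈ M (t - 1), ∀ i : Fin t, k ≤ (i : ℕ) →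
        g (x i) = q ((i : ℕ) + 1) := by
      intro x k hk
      induction hk using Nat.decreasingInduction with
      | self => exact ⟨1, one_mem _, fun i hi => absurd i.2 (by omega)⟩
      | of_succ k hkt ih =>
        obtain ⟨g, hg, hgi⟩ := ih
        obtain ⟨u, hu, hua⟩ := htrans k hkt (g (x ⟨k, hkt⟩)) fun j hj hjt he => by
          have h5 := hgi ⟨j - 1, by omega⟩ (by show k + 1 ≤ j - 1; omega)
          simp only [show j - 1 + 1 = j by omega] at h5
          have h7 := congrArg Fin.val (x.injective (g.injective (h5.trans he.symm)))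
          simp at h7
          omega
        refine ⟨u * g, (M _).mul_mem (hMle k hkt hu) hg, fun i hi => ?_⟩
        rw [Equiv.Perm.mul_apply]
        rcases Nat.lt_or_ge k (i : ℕ) with h | h
        · rw [hgi i h]
          exact hMfix k hkt u hu _ (by omega) (by omega)
        · have hik : (i : ℕ) = k := by omega
          rw [show i = ⟨k, hkt⟩ from Fin.ext hik]
          exact hua
    constructor
    intro x y
    obtain ⟨g, hg, hgx⟩ := key x 0 (Nat.zero_le _)
    obtain ⟨u, hu, huy⟩ := key y 0 (Nat.zero_le _)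
    refine ⟨⟨u⁻¹ * g, (M _).mul_mem ((M _).inv_mem hu) hg⟩, Function.Embedding.ext fun i => ?_⟩
    show (u⁻¹ * g) (x i) = y i
    rw [Equiv.Perm.mul_apply, hgx i (Nat.zero_le _), ← huy i (Nat.zero_le _), Equiv.Perm.inv_def,
      Equiv.symm_apply_apply]
  · rintro g ⟨hg, hgf⟩
    have hgq : ∀ j, 1 ≤ j → j ≤ t → g (q j) = q j := fun j h1 h3 =>
      (mem_fixingSubgroup_iff (Equiv.Perm α)).mp hgf (q j) ⟨j, h1, h3, rfl⟩
    have hdown : ∀ d, d ≤ t - 1 → g ∈ M (t - 1 - d) := by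
      intro d
      induction d with
      | zero => intro _; exact hg
      | succ d ih =>
        intro hd
        have h := ih (by omega)
        rw [show t - 1 - d = (t - 1 - (d + 1)) + 1 by omega] at h
        exact hstab _ (by omega) g h (hgq _ (by omega) (by omega))
    have h0 : g ∈ M 0 := by simpa using hdown (t - 1) le_rfl
    have hgF : g ∈ F := by
      refine (Subgroup.closure_le F).mpr ?_ h0
      rintro x (hx | ⟨i, h1, h3, rfl⟩)
      · exact hx
      · omega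
    rw [hH]
    exact ⟨⟨hgF.1, hgq 1 le_rfl (by omega)⟩, hgF.2⟩
  · intro g hg
    refine ⟨hHM _ hg, (mem_fixingSubgroup_iff (Equiv.Perm α)).mpr ?_⟩
    rintro _ ⟨j, h1, h3, rfl⟩
    rcases Nat.lt_or_ge j 2 with h | h
    · obtain rfl : j = 1 := by omega
      rw [hH] at hg
      exact hg.1.2
    · exact hFfix g (hHF hg) j h h3

end Cfsg.Agent.S0709
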