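import Cfsg.Statements.S0710

import Mathlib

set_option autoImplicit false
set_option linter.style.haveILetI false
open Cfsg

namespace Cfsg.Agent.S0710

/-- No transitive permutation group on 13 points has order `13 * 12 * 11 * 10 * 9 * 8`. -/
theorem result {α : Type*} [Fintype α] [DecidableEq α] (hα : Fintype.card α = 13) (G : Subgroup (Equiv.Perm α)) [MulAction.IsPretransitive G α] : Nat.card G ≠ 13 * 12 * 11 * 10 * 9 * 8 := by
  classical
  intro hG
  haveI : Fact (Nat.Prime 13) := ⟨by norm_num⟩
  let P : Sylow 13 G := default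
  have hP : Nat.card (P : Subgroup G) = 13 := by
    rw [P.card_eq_multiplicity, hG]
    have h1 : (13 * 12 * 11 * 10 * 9 * 8 : ℕ).factorization 13 = 1 := by
      rw [show (13 * 12 * 11 * 10 * 9 * 8 : ℕ) = 13 * 95040 by norm_num,
        Nat.factorization_mul (by norm_num) (by norm_num), Finsupp.add_apply,
        Nat.Prime.factorization_self (by norm_num : Nat.Prime 13),
        Nat.factorization_eq_zero_of_not_dvd (by norm_num : ¬ 13 ∣ 95040)]
    rw [h1, pow_one]
  haveI : IsCyclic (P : Subgroup G) := isCyclic_of_prime_card hP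
  obtain ⟨σ, hσ⟩ := IsCyclic.exists_generator (α := (P : Subgroup G))
  have hord : orderOf ((σ : G) : Equiv.Perm α) = 13 := by
    rw [Subgroup.orderOf_coe, Subgroup.orderOf_coe, orderOf_eq_card_of_forall_mem_zpowers hσ, hP]
  have hcyc : Equiv.Perm.IsCycle ((σ : G) : Equiv.Perm α) :=
    Equiv.Perm.isCycle_of_prime_order' (by rw [hord]; norm_num) (by rw [hord, hα]; norm_num)
  have hsupp : ((σ : G) : Equiv.Perm α).support = Finset.univ := by
    apply Finset.eq_univ_of_card
    rw [← hcyc.orderOf, hord, hα]
  obtain ⟨a⟩ : Nonempty α := Fintype.card_pos_iff.mp (by omega)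
  have hC : Nat.card (Subgroup.centralizer ((P : Subgroup G) : Set G)) ≤ 13 := by
    refine le_of_le_of_eq (Nat.card_le_card_of_injective (β := α)
      (fun c => ((c : G) : Equiv.Perm α) a) ?_) (Nat.card_eq_fintype_card.trans hα)
    intro c d hcd
    apply Subtype.ext
    apply Subtype.ext
    apply Equiv.ext
    intro x
    obtain ⟨i, rfl⟩ := hcyc.sameCycle (x := a) (y := x)
      (Equiv.Perm.mem_support.mp (hsupp ▸ Finset.mem_univ a))
      (Equiv.Perm.mem_support.mp (hsupp ▸ Finset.mem_univ x))
    have hcom : ∀ e : Subgroup.centralizer ((P : Subgroup G) : Set G),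
        Commute ((e : G) : Equiv.Perm α) ((σ : G) : Equiv.Perm α) := by
      intro e
      have := Subgroup.mem_centralizer_iff.mp e.2 (σ : G) σ.2
      exact (congrArg Subtype.val this).symm
    have h1 := DFunLike.congr_fun ((hcom c).zpow_right i).eq a
    have h2 := DFunLike.congr_fun ((hcom d).zpow_right i).eq a
    simp only [Equiv.Perm.mul_apply] at h1 h2
    rw [h1, h2]
    exact congrArg _ hcd
  set N := Subgroup.normalizer ((P : Subgroup G) : Set G) with hN
  have hCN : Subgroup.centralizer ((P : Subgroup G) : Set G) ≤ N :=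
    Subgroup.centralizer_le_normalizer _
  have hPC : (P : Subgroup G) ≤ Subgroup.centralizer ((P : Subgroup G) : Set G) := by
    intro x hx
    rw [Subgroup.mem_centralizer_iff]
    intro y hy
    letI : CommGroup (P : Subgroup G) := IsCyclic.commGroup
    exact congrArg Subtype.val (mul_comm (⟨y, hy⟩ : (P : Subgroup G)) ⟨x, hx⟩)
  have hC13 : Nat.card (Subgroup.centralizer ((P : Subgroup G) : Set G)) = 13 :=
    le_antisymm hC (le_of_eq_of_le hP.symm (Subgroup.card_le_of_le hPC))
  have hker : Nat.card (Subgroup.normalizerMonoidHom (P : Subgroup G)).ker = 13 := by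
    rw [Subgroup.normalizerMonoidHom_ker,
      Nat.card_congr (Subgroup.subgroupOfEquivOfLe hCN).toEquiv, hC13]
  have hrange : Nat.card (Subgroup.normalizerMonoidHom (P : Subgroup G)).range ∣ 12 := by
    have h1 := Subgroup.card_subgroup_dvd_card
      (Subgroup.normalizerMonoidHom (P : Subgroup G)).range
    rw [IsCyclic.card_mulAut, hP, Nat.totient_prime (by norm_num)] at h1
    exact h1
  have hNcard : Nat.card N = 13 * Nat.card (Subgroup.normalizerMonoidHom (P : Subgroup G)).range := by
    have h1 := (Subgroup.normalizerMonoidHom (P : Subgroup G)).ker.card_mul_index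
    rw [Subgroup.index_ker, hker] at h1
    exact h1.symm
  have hmod := card_sylow_modEq_one 13 G
  have hidx := N.card_mul_index
  have hs : Nat.card (Sylow 13 G) = N.index := P.card_eq_index_normalizer
  rw [← hs, hNcard, hG] at hidx
  generalize Nat.card (Subgroup.normalizerMonoidHom (P : Subgroup G)).range = d at hrange hidx
  generalize Nat.card (Sylow 13 G) = s at hmod hidx
  have hd : d ≤ 12 := Nat.le_of_dvd (by norm_num) hrange
  have h95 : d * s = 95040 := by nlinarith
  have hds : d * s ≡ d * 1 [MOD 13] := Nat.ModEq.mul_left d hmod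
  rw [h95, mul_one] at hds
  unfold Nat.ModEq at hds
  interval_cases d <;> omega

end Cfsg.Agent.S0710
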