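import Cfsg.Statements.S0712

import Mathlib

set_option autoImplicit false
set_option linter.style.haveILetI false
open Cfsg

namespace Cfsg.Agent.S0712

/-- Jordan: a primitive group in which the pointwise stabiliser of a set `s` is doubly transitive on the complement of `s` (which has at least 2 points) is `(|s| + 2)`-transitive. -/
theorem result {α : Type*} [Fintype α] [DecidableEq α] (G : Subgroup (Equiv.Perm α)) (hG : MulAction.IsPreprimitive G α) (s : Set α) {m : ℕ} (hsm : s.ncard = m) (hm : m + 2 ≤ Fintype.card α) (h2 : MulAction.IsMultiplyPretransitive (fixingSubgroup G s) (SubMulAction.ofFixingSubgroup G s) 2) : MulAction.IsMultiplyPretransitive G α (m + 2) := by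
  classical
  have hT : MulAction.IsMultiplyPretransitive G α m := by
    rcases Nat.eq_zero_or_pos m with rfl | hpos
    · exact MulAction.is_zero_pretransitive
    · obtain ⟨n, rfl⟩ : ∃ n, m = n + 1 := ⟨m - 1, by omega⟩
      have hp : MulAction.IsPreprimitive (fixingSubgroup G s)
          (SubMulAction.ofFixingSubgroup G s) :=
        MulAction.isPreprimitive_of_is_two_pretransitive h2
      have h3 := hG.isMultiplyPreprimitive hsm (by rw [Nat.card_eq_fintype_card]; omega) hp
      haveI := h3.isMultiplyPretransitive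
      exact MulAction.isMultiplyPretransitive_of_le (n := n + 2) (by omega)
        (by rw [Nat.card_eq_fintype_card]; omega)
  have hse : Nat.card s = m := hsm ▸ Nat.card_coe_set_eq s
  let e : Fin m ↪ α := (Finite.equivFinOfCardEq hse).symm.toEmbedding.trans (Function.Embedding.subtype _)
  have he : ∀ z, z ∈ s → ∃ i, e i = z := fun z hz =>
    ⟨Finite.equivFinOfCardEq hse ⟨z, hz⟩, by simp [e]⟩
  obtain ⟨c, d, hc, hd, hcd⟩ : ∃ c d, c ∉ s ∧ d ∉ s ∧ c ≠ d := by
    have h1 : 1 < (sᶜ : Set α).ncard := by
      rw [Set.ncard_compl, hsm, Nat.card_eq_fintype_card]; omega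
    obtain ⟨c, d, hc, hd, hcd⟩ := (Set.one_lt_ncard_iff (Set.toFinite _)).mp h1
    exact ⟨c, d, hc, hd, hcd⟩
  have key : ∀ x : Fin (m + 2) ↪ α, ∃ g : G, (∀ i : Fin m, g • x (i.castAdd 2) = e i) ∧
      g • x (Fin.natAdd m 0) = c ∧ g • x (Fin.natAdd m 1) = d := by
    intro x
    obtain ⟨g, hg⟩ := MulAction.exists_smul_eq G
      ((Fin.castAddEmb 2).trans x) e
    have hgi : ∀ i : Fin m, g • x (i.castAdd 2) = e i := fun i => DFunLike.congr_fun hg i
    have hout : ∀ j : Fin 2, g • x (Fin.natAdd m j) ∉ s := by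
      intro j hj
      obtain ⟨i, hi⟩ := he _ hj
      rw [← hgi i] at hi
      have := x.injective (MulAction.injective g hi)
      have := congrArg Fin.val this
      simp at this
      omega
    haveI := h2
    let A0 : SubMulAction.ofFixingSubgroup G s := ⟨_, hout 0⟩
    let A1 : SubMulAction.ofFixingSubgroup G s := ⟨_, hout 1⟩
    let C0 : SubMulAction.ofFixingSubgroup G s := ⟨c, hc⟩
    let C1 : SubMulAction.ofFixingSubgroup G s := ⟨d, hd⟩
    have h2' : ∀ A B C D : SubMulAction.ofFixingSubgroup G s, A ≠ B → C ≠ D →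
        ∃ u : fixingSubgroup G s, u • A = C ∧ u • B = D :=
      fun A B C D hAB hCD => MulAction.is_two_pretransitive_iff.mp h2 hAB hCD
    obtain ⟨u, hu0, hu1⟩ := h2' A0 A1 C0 C1
      (fun h => absurd (congrArg Fin.val (x.injective (MulAction.injective g
        (congrArg Subtype.val h)))) (by simp)) (fun h => hcd (congrArg Subtype.val h))
    refine ⟨(u : G) * g, fun i => ?_, ?_, ?_⟩
    · rw [mul_smul, hgi i]
      exact (mem_fixingSubgroup_iff G).mp u.2 _ (by simp [e])
    · rw [mul_smul]; exact congrArg Subtype.val hu0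
    · rw [mul_smul]; exact congrArg Subtype.val hu1
  constructor
  intro x y
  obtain ⟨g, hg, hg0, hg1⟩ := key x
  obtain ⟨k, hk, hk0, hk1⟩ := key y
  refine ⟨k⁻¹ * g, Function.Embedding.ext fun i => ?_⟩
  show (k⁻¹ * g) • x i = y i
  rw [mul_smul, inv_smul_eq_iff]
  refine Fin.addCases (fun i => ?_) (fun j => ?_) i
  · rw [hg i, hk i]
  · fin_cases j
    · exact hg0.trans hk0.symm
    · exact hg1.trans hk1.symm

end Cfsg.Agent.S0712
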