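import Cfsg.Statements.S0714

import Mathlib

set_option autoImplicit false
set_option linter.style.haveILetI false
open Cfsg

namespace Cfsg.Agent.S0714

/-- Over any field, the permutation module of the alternating group of degree at least 5 has exactly four invariant subspaces: zero, the constant functions, the functions with coordinate sum zero, and everything. -/
theorem result {α : Type*} [Fintype α] [DecidableEq α] (hα : 5 ≤ Fintype.card α) {K : Type*} [Field K] (W : Subrepresentation (Cfsg.permRep K (alternatingGroup α) α)) : W.toSubmodule = ⊥ ∨ W = Cfsg.permConstants K (alternatingGroup α) α ∨ W = Cfsg.permSumZero K (alternatingGroup α) α ∨ W.toSubmodule = ⊤ := by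
  classical
  haveI : Nonempty α := Fintype.card_pos_iff.mp (by omega)
  let e : α → (α → K) := fun a => Pi.single a (1 : K)
  have hrho : ∀ (g : (alternatingGroup α)) (f : α → K) (x : α), Cfsg.permRep K (alternatingGroup α) α g f x
      = f (((g : Equiv.Perm α))⁻¹ x) := fun g f x => rfl
  have hconstW : ∀ c : α → K, (∀ x y, c x = c y) →
      c ∈ (Cfsg.permConstants K (alternatingGroup α) α).toSubmodule := by
    intro c hc
    obtain ⟨a⟩ := (inferInstance : Nonempty α)
    exact Submodule.mem_span_singleton.mpr ⟨c a, funext fun x => by simp [hc x a]⟩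
  by_cases hall : ∀ f ∈ W.toSubmodule, ∀ x y, f x = f y
  · by_cases hbot : W.toSubmodule = ⊥
    · exact Or.inl hbot
    refine Or.inr (Or.inl (Subrepresentation.toSubmodule_injective (le_antisymm
      (fun f hf => hconstW f (hall f hf)) ?_)))
    obtain ⟨f, hf, hf0⟩ := (Submodule.ne_bot_iff _).mp hbot
    obtain ⟨a⟩ := (inferInstance : Nonempty α)
    have hfa : f a ≠ 0 := fun h => hf0 (funext fun x => (hall f hf x a).trans h)
    show Submodule.span K {fun _ => (1 : K)} ≤ W.toSubmodule
    rw [Submodule.span_singleton_le_iff_mem]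
    have h1 := W.toSubmodule.smul_mem (f a)⁻¹ hf
    rwa [show (f a)⁻¹ • f = fun _ => (1 : K) from funext fun x => by
      simp [hall f hf x a, hfa]] at h1
  push Not at hall
  obtain ⟨f, hf, a, b, hab⟩ := hall
  have hne : a ≠ b := fun h => hab (by rw [h])
  have hpick : ∀ s : Finset α, s.card ≤ 4 → ∃ x, x ∉ s := by
    intro s hs
    by_contra hc
    push Not at hc
    have := Finset.card_le_card (s := (Finset.univ : Finset α)) (t := s) fun x _ => hc x
    rw [Finset.card_univ] at this
    omega
  obtain ⟨c, hc⟩ := hpick {a, b} (le_trans Finset.card_le_two (by omega))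
  simp only [Finset.mem_insert, Finset.mem_singleton, not_or] at hc
  obtain ⟨hca, hcb⟩ := hc
  let mk : (p q r s : α) → p ≠ q → r ≠ s → (alternatingGroup α) := fun p q r s h1 h2 =>
    ⟨Equiv.swap p q * Equiv.swap r s, by
      rw [Equiv.Perm.mem_alternatingGroup, map_mul, Equiv.Perm.sign_swap h1,
        Equiv.Perm.sign_swap h2]
      rfl⟩
  have hdiff : ∀ g : (alternatingGroup α), ∀ v ∈ W.toSubmodule, Cfsg.permRep K (alternatingGroup α) α g v - v ∈ W.toSubmodule :=
    fun g v hv => W.toSubmodule.sub_mem (W.apply_mem_toSubmodule g hv) hv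
  set σ := mk a b a c hne (Ne.symm hca) with hσ
  set v := Cfsg.permRep K (alternatingGroup α) α σ f - f with hv
  have hvW : v ∈ W.toSubmodule := hdiff σ f hf
  have hσinv : ((σ : Equiv.Perm α))⁻¹ = Equiv.swap a c * Equiv.swap a b := by
    show (Equiv.swap a b * Equiv.swap a c)⁻¹ = _
    rw [mul_inv_rev, Equiv.swap_inv, Equiv.swap_inv]
  have hvval : ∀ x, v x = f (Equiv.swap a c (Equiv.swap a b x)) - f x := by
    intro x
    show Cfsg.permRep K (alternatingGroup α) α σ f x - f x = _
    rw [hrho, hσinv]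
    rfl
  have hsupp : ∀ x, x ≠ a → x ≠ b → x ≠ c → v x = 0 := by
    intro x h1 h2 h3
    rw [hvval, Equiv.swap_apply_of_ne_of_ne h1 h2, Equiv.swap_apply_of_ne_of_ne h1 h3, sub_self]
  have hva : v a = f b - f a := by
    rw [hvval, Equiv.swap_apply_left, Equiv.swap_apply_of_ne_of_ne (Ne.symm hne) (Ne.symm hcb)]
  have key : ∃ p q : α, p ≠ q ∧ e p - e q ∈ W.toSubmodule := by
    obtain ⟨d, hd⟩ := hpick {a, b, c} (le_trans Finset.card_le_three (by omega))
    simp only [Finset.mem_insert, Finset.mem_singleton, not_or] at hd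
    obtain ⟨hda, hdb, hdc⟩ := hd
    obtain ⟨d', hd'⟩ := hpick {a, b, c, d} Finset.card_le_four
    simp only [Finset.mem_insert, Finset.mem_singleton, not_or] at hd'
    obtain ⟨hd'a, hd'b, hd'c, hd'd⟩ := hd'
    have hpair : ∀ p q : α, p ≠ q → v p ≠ v q → v d = 0 → v d' = 0 →
        p ≠ d → p ≠ d' → q ≠ d → q ≠ d' → e p - e q ∈ W.toSubmodule := by
      intro p q hpq hpqv h0 h0' hpd hpd' hqd hqd'
      have h1 := hdiff (mk p q d d' hpq (Ne.symm hd'd)) v hvW
      have h2 : Cfsg.permRep K (alternatingGroup α) α (mk p q d d' hpq (Ne.symm hd'd)) v - v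
          = (v q - v p) • (e p - e q) := by
        funext x
        rw [Pi.sub_apply, hrho]
        show v ((Equiv.swap p q * Equiv.swap d d')⁻¹ x) - v x = _
        rw [mul_inv_rev, Equiv.swap_inv, Equiv.swap_inv, Equiv.Perm.mul_apply]
        simp only [e, Pi.smul_apply, Pi.sub_apply, smul_eq_mul]
        by_cases hxp : x = p
        · subst hxp
          rw [Equiv.swap_apply_left, Equiv.swap_apply_of_ne_of_ne hqd hqd']
          simp [hpq]
        by_cases hxq : x = q
        · subst hxq
          rw [Equiv.swap_apply_right, Equiv.swap_apply_of_ne_of_ne hpd hpd']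
          simp [hxp]
        rw [Equiv.swap_apply_of_ne_of_ne hxp hxq]
        by_cases hxd : x = d
        · subst hxd
          rw [Equiv.swap_apply_left, h0, h0']
          simp [hxp, hxq]
        by_cases hxd' : x = d'
        · subst hxd'
          rw [Equiv.swap_apply_right, h0, h0']
          simp [hxp, hxq]
        rw [Equiv.swap_apply_of_ne_of_ne hxd hxd']
        simp [hxp, hxq]
      rw [h2] at h1
      have h3 := W.toSubmodule.smul_mem (v q - v p)⁻¹ h1
      rwa [smul_smul, inv_mul_cancel₀ (sub_ne_zero.mpr (Ne.symm hpqv)), one_smul] at h3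
    have h0 := hsupp d hda hdb hdc
    have h0' := hsupp d' hd'a hd'b hd'c
    by_cases h1 : v a ≠ v b
    · exact ⟨a, b, hne, hpair a b hne h1 h0 h0' (Ne.symm hda) (Ne.symm hd'a) (Ne.symm hdb) (Ne.symm hd'b)⟩
    by_cases h2 : v a ≠ v c
    · exact ⟨a, c, Ne.symm hca, hpair a c (Ne.symm hca) h2 h0 h0' (Ne.symm hda) (Ne.symm hd'a) (Ne.symm hdc) (Ne.symm hd'c)⟩
    push Not at h1 h2
    have hva0 : v a ≠ 0 := by rw [hva]; exact sub_ne_zero.mpr (Ne.symm hab)
    refine ⟨d, b, hdb, ?_⟩
    have h4 := hdiff (mk a b a d hne (Ne.symm hda)) v hvW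
    have h5 : Cfsg.permRep K (alternatingGroup α) α (mk a b a d hne (Ne.symm hda)) v - v
        = v a • (e d - e b) := by
      funext x
      rw [Pi.sub_apply, hrho]
      show v ((Equiv.swap a b * Equiv.swap a d)⁻¹ x) - v x = _
      rw [mul_inv_rev, Equiv.swap_inv, Equiv.swap_inv, Equiv.Perm.mul_apply]
      simp only [e, Pi.smul_apply, Pi.sub_apply, smul_eq_mul]
      by_cases hxa : x = a
      · subst hxa
        rw [Equiv.swap_apply_left, Equiv.swap_apply_of_ne_of_ne (Ne.symm hne) (Ne.symm hdb)]
        rw [← h1]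
        simp [Ne.symm hda, hne]
      by_cases hxb : x = b
      · subst hxb
        rw [Equiv.swap_apply_right, Equiv.swap_apply_left, h0, ← h1]
        simp [hxa, Ne.symm hdb]
      rw [Equiv.swap_apply_of_ne_of_ne hxa hxb]
      by_cases hxd : x = d
      · subst hxd
        rw [Equiv.swap_apply_right, h0]
        simp [hxb]
      rw [Equiv.swap_apply_of_ne_of_ne hxa hxd]
      simp [hxb, hxd]
    rw [h5] at h4
    have h3 := W.toSubmodule.smul_mem (v a)⁻¹ h4
    rwa [smul_smul, inv_mul_cancel₀ hva0, one_smul] at h3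
  obtain ⟨p, q, hpq, hpqW⟩ := key
  have h2t : ∀ p' q' : α, p' ≠ q' → e p' - e q' ∈ W.toSubmodule := by
    intro p' q' hpq'
    have hex : ∃ g : (alternatingGroup α), (g : Equiv.Perm α) p = p' ∧ (g : Equiv.Perm α) q = q' := by
      have h : MulAction.IsMultiplyPretransitive (alternatingGroup α) α 2 := by
        have h1 := alternatingGroup.isMultiplyPretransitive α
        exact MulAction.isMultiplyPretransitive_of_le (n := Nat.card α - 2)
          (by rw [Nat.card_eq_fintype_card]; omega) (by omega)
      obtain ⟨g, h1, h2⟩ := MulAction.is_two_pretransitive_iff.mp h hpq hpq'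
      exact ⟨g, h1, h2⟩
    obtain ⟨g, hgp, hgq⟩ := hex
    have hmap : ∀ r, Cfsg.permRep K (alternatingGroup α) α g (e r) = e ((g : Equiv.Perm α) r) := by
      intro r
      funext x
      rw [hrho]
      simp only [e, Pi.single_apply]
      refine if_congr ?_ rfl rfl
      rw [Equiv.Perm.inv_def, Equiv.symm_apply_eq]
    have h3 := W.apply_mem_toSubmodule g hpqW
    rwa [map_sub, hmap, hmap, hgp, hgq] at h3
  have hsz : (Cfsg.permSumZero K (alternatingGroup α) α).toSubmodule ≤ W.toSubmodule := by
    intro u hu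
    have hu' : ∑ x, u x = 0 := hu
    obtain ⟨r⟩ := (inferInstance : Nonempty α)
    have hexp : u = ∑ x, u x • (e x - e r) := by
      rw [Finset.sum_congr rfl fun x _ => smul_sub (u x) (e x) (e r), Finset.sum_sub_distrib,
        ← Finset.sum_smul, hu', zero_smul, sub_zero]
      funext y
      simp [e, Finset.sum_apply, Pi.single_apply]
    rw [hexp]
    refine W.toSubmodule.sum_mem fun x _ => W.toSubmodule.smul_mem _ ?_
    by_cases hxr : x = r
    · rw [hxr, sub_self]
      exact W.toSubmodule.zero_mem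
    · exact h2t x r hxr
  by_cases hle : W.toSubmodule ≤ (Cfsg.permSumZero K (alternatingGroup α) α).toSubmodule
  · exact Or.inr (Or.inr (Or.inl (Subrepresentation.toSubmodule_injective (le_antisymm hle hsz))))
  refine Or.inr (Or.inr (Or.inr ?_))
  obtain ⟨u, hu, hu0⟩ := Set.not_subset.mp hle
  have hs : (∑ x, u x) ≠ 0 := hu0
  rw [eq_top_iff]
  intro y _
  have h5 : y - ((∑ x, y x) / (∑ x, u x)) • u ∈ (Cfsg.permSumZero K (alternatingGroup α) α).toSubmodule := by
    show ∑ x, (y - ((∑ x, y x) / (∑ x, u x)) • u) x = 0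
    simp only [Pi.sub_apply, Pi.smul_apply, smul_eq_mul, Finset.sum_sub_distrib, ← Finset.mul_sum]
    rw [div_mul_cancel₀ _ hs, sub_self]
  have h6 := W.toSubmodule.add_mem (hsz h5) (W.toSubmodule.smul_mem ((∑ x, y x) / (∑ x, u x)) hu)
  rwa [sub_add_cancel] at h6

end Cfsg.Agent.S0714
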