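import Cfsg.Statements.S0715

import Mathlib
import Cfsg.Agent.Perm.PermCharacter

set_option autoImplicit false
set_option linter.style.haveILetI false
open Cfsg

namespace Cfsg.Agent.S0715
open scoped CfsgLib.Char

/-- If a natural number `f` divides the degree of every non-principal irreducible constituent of the permutation character of a transitive group, then `f` divides every non-trivial subdegree. -/
theorem result {G : Type*} [Group G] [Fintype G] {Ω : Type*} [Fintype Ω] [MulAction G Ω] [MulAction.IsPretransitive G Ω] (f : ℕ) (hf : ∀ χ : G → ℂ, Cfsg.IsIrrCharacter G χ → χ ≠ (fun _ => 1) → Cfsg.classInner (fun g : G => (Nat.card (MulAction.fixedBy Ω g) : ℂ)) χ ≠ 0 → ∃ m : ℕ, χ 1 = (f : ℂ) * m) (a b : Ω) (hab : b ≠ a) : f ∣ Nat.card (MulAction.orbit (MulAction.stabilizer G a) b) := by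
  classical
  haveI : Nonempty Ω := ⟨a⟩
  let O : Set Ω := MulAction.orbit (MulAction.stabilizer G a) b
  -- the adjacency matrix of the suborbit
  let R : Set (Ω × Ω) := MulAction.orbit G ((a, b) : Ω × Ω)
  have hRinv : ∀ (g : G) (x y : Ω), (g • x, g • y) ∈ R ↔ (x, y) ∈ R := by
    intro g x y
    rw [MulAction.mem_orbit_iff, MulAction.mem_orbit_iff]
    constructor
    · rintro ⟨t, ht⟩
      exact ⟨g⁻¹ * t, by rw [mul_smul, ht, Prod.smul_mk, inv_smul_smul, inv_smul_smul]⟩
    · rintro ⟨t, ht⟩
      exact ⟨g * t, by rw [mul_smul, ht, Prod.smul_mk]⟩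
  have hRa : ∀ y, (a, y) ∈ R ↔ y ∈ O := by
    intro y
    constructor
    · rintro ⟨g, hg⟩
      exact ⟨⟨g, congrArg Prod.fst hg⟩, congrArg Prod.snd hg⟩
    · rintro ⟨g, rfl⟩
      exact ⟨g, Prod.ext g.2 rfl⟩
  have hdiag : ∀ x, (x, x) ∉ R := by
    rintro x ⟨g, hg⟩
    exact hab (MulAction.injective g ((congrArg Prod.fst hg).trans (congrArg Prod.snd hg).symm)).symm
  let k : ℕ := Nat.card O
  have hrow : ∀ x : Ω, (Finset.univ.filter fun y => (x, y) ∈ R).card = k := by
    intro x
    obtain ⟨g, rfl⟩ := MulAction.exists_smul_eq G a x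
    rw [show k = (Finset.univ.filter fun y => (a, y) ∈ R).card by
      rw [show (Finset.univ.filter fun y => (a, y) ∈ R) = O.toFinset by ext y; simp [hRa]]
      exact (Nat.card_eq_card_toFinset O)]
    refine Finset.card_bij' (fun y _ => g⁻¹ • y) (fun y _ => g • y) ?_ ?_ ?_ ?_
    · intro y hy
      simp only [Finset.mem_filter, Finset.mem_univ, true_and] at hy ⊢
      rwa [← hRinv g, smul_inv_smul]
    · intro y hy
      simp only [Finset.mem_filter, Finset.mem_univ, true_and] at hy ⊢
      rwa [hRinv g]
    · intro y _; exact smul_inv_smul g y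
    · intro y _; exact inv_smul_smul g y
  let M : Matrix Ω Ω ℤ := Matrix.of fun x y => if (x, y) ∈ R then 1 else 0
  let S : (Ω → ℂ) →ₗ[ℂ] (Ω → ℂ) := Matrix.toLin' (M.map (Int.cast : ℤ → ℂ))
  have hSv : ∀ v x, S v x = ∑ y, (if (x, y) ∈ R then (1 : ℂ) else 0) * v y := by
    intro v x
    simp only [S, Matrix.toLin'_apply, Matrix.mulVec, dotProduct, Matrix.map_apply, M, Matrix.of_apply]
    refine Finset.sum_congr rfl fun y _ => ?_
    split_ifs <;> simp
  have hS : CfsgLib.Perm.PermChar.Comm G S := by
    intro g v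
    funext x
    show S (fun z => v (g⁻¹ • z)) x = S v (g⁻¹ • x)
    rw [hSv, hSv]
    exact Fintype.sum_equiv (MulAction.toPerm g⁻¹) _ _ fun y => by
      simp only [MulAction.toPerm_apply]
      rw [if_congr (hRinv g⁻¹ x y).symm rfl rfl]
  have htr : LinearMap.trace ℂ (Ω → ℂ) S = 0 := by
    rw [Matrix.trace_toLin'_eq]
    refine Finset.sum_eq_zero fun x _ => ?_
    simp [M, hdiag x]
  let one : Ω → ℂ := fun _ => 1
  have hone : S one = (k : ℂ) • one := by
    funext x
    rw [hSv]
    simp only [one, mul_one, Finset.sum_boole, hrow, Pi.smul_apply, smul_eq_mul]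
  set π := (Cfsg.permRep ℂ G Ω).character with hπ
  let U : ℂ → Subrepresentation (Cfsg.permRep ℂ G Ω) := fun μ => CfsgLib.Perm.PermChar.genSpace hS μ
  let cst : Subrepresentation (Cfsg.permRep ℂ G Ω) := Cfsg.permConstants ℂ G Ω
  -- dimensions of the generalised eigenspaces
  have hdim : ∀ μ : ℂ, ∃ m : ℕ, (Module.finrank ℂ (U μ).toSubmodule : ℂ)
      = (if μ = k then 1 else 0) + (f : ℂ) * m := by
    intro μ
    set ψ := (U μ).toRepresentation.character with hψdef
    let χ₁ : Cfsg.IrrCharacter G := ⟨fun _ => 1, CfsgLib.Char.isIrr_one⟩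
    have htriv : Cfsg.classInner ψ (fun _ => (1 : ℂ)) = if μ = k then 1 else 0 := by
      obtain ⟨c, d, hc, hd, hcd⟩ := CfsgLib.Perm.PermChar.inner_sub_le (Cfsg.permRep ℂ G Ω) (U μ) χ₁
      have hd1 : d = 1 := by
        have := hd.symm.trans CfsgLib.Perm.PermChar.inner_perm_one_transitive
        exact_mod_cast this
      have he := CfsgLib.Char.inner_eq_finrank (Representation.trivial ℂ G ℂ) (U μ).toRepresentation
      have hch : (Representation.trivial ℂ G ℂ).character = fun _ => (1 : ℂ) := by
        funext g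
        rw [Representation.character]
        simp [Representation.trivial_apply, show (Representation.trivial ℂ G ℂ) g = LinearMap.id from rfl]
      rw [hch] at he
      split_ifs with hμ
      · have hmem : one ∈ (U μ).toSubmodule := by
          show one ∈ Module.End.maxGenEigenspace S μ
          rw [Module.End.mem_maxGenEigenspace]
          exact ⟨1, by simp [hone, hμ]⟩
        let φ : (Representation.trivial ℂ G ℂ).IntertwiningMap (U μ).toRepresentation :=
          (LinearMap.toSpanSingleton ℂ (U μ).toSubmodule ⟨one, hmem⟩).intertwiningMap_of_isIntertwiningMap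
            _ _ fun g v => Subtype.ext (funext fun x => by
              simp [one, LinearMap.toSpanSingleton_apply, Subrepresentation.toRepresentation]
              exact (mul_one v).symm)
        have hφ : φ ≠ 0 := by
          intro h
          have := congrArg Subtype.val (congrFun (congrArg DFunLike.coe h) (1 : ℂ))
          have h2 := congrFun this a
          simp [φ, one, LinearMap.toSpanSingleton_apply] at h2
        haveI : Nontrivial ((Representation.trivial ℂ G ℂ).IntertwiningMap (U μ).toRepresentation) :=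
          ⟨φ, 0, hφ⟩
        have hc1 : c ≤ 1 := hd1 ▸ hcd
        have hpos : 1 ≤ c := by
          have h2 : (c : ℂ) = _ := hc.symm.trans he
          have h3 : c = Module.finrank ℂ ((Representation.trivial ℂ G ℂ).IntertwiningMap (U μ).toRepresentation) := by exact_mod_cast h2
          rw [h3]; exact Module.finrank_pos (R := ℂ) (M := (Representation.trivial ℂ G ℂ).IntertwiningMap (U μ).toRepresentation)
        rw [show ψ = (U μ).toRepresentation.character from rfl]
        exact hc.trans (by rw [show c = 1 by omega, Nat.cast_one])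
      · haveI : Subsingleton ((Representation.trivial ℂ G ℂ).IntertwiningMap (U μ).toRepresentation) := by
          refine ⟨fun φ₁ φ₂ => ?_⟩
          suffices key : ∀ φ : (Representation.trivial ℂ G ℂ).IntertwiningMap (U μ).toRepresentation,
              φ = 0 by rw [key φ₁, key φ₂]
          intro φ
          apply Representation.IntertwiningMap.ext
          apply LinearMap.ext_ring
          apply Subtype.ext
          show ((φ (1 : ℂ) : (U μ).toSubmodule) : Ω → ℂ) = 0
          set v : Ω → ℂ := ((φ (1 : ℂ) : (U μ).toSubmodule) : Ω → ℂ) with hv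
          have hinv : ∀ g : G, Cfsg.permRep ℂ G Ω g v = v := fun g => by
            have h1 := Representation.IntertwiningMap.isIntertwining _ _ φ g (1 : ℂ)
            have h2 : ((Representation.trivial ℂ G ℂ) g) (1 : ℂ) = 1 := rfl
            rw [h2] at h1
            exact (congrArg Subtype.val h1).symm
          have hvc : v = v a • one := by
            funext x
            obtain ⟨g, rfl⟩ := MulAction.exists_smul_eq G a x
            have := congrFun (hinv g) (g • a)
            rw [show Cfsg.permRep ℂ G Ω g v (g • a) = v (g⁻¹ • g • a) from rfl, inv_smul_smul] at this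
            simp [one, ← this]
          have hvk : v ∈ Module.End.maxGenEigenspace S (k : ℂ) := by
            rw [hvc]
            refine Submodule.smul_mem _ _ ?_
            rw [Module.End.mem_maxGenEigenspace]
            exact ⟨1, by simp [hone]⟩
          have hvμ : v ∈ Module.End.maxGenEigenspace S μ := (φ (1 : ℂ)).2
          exact (Submodule.disjoint_def.1
            ((Module.End.independent_maxGenEigenspace S).pairwiseDisjoint hμ)) v hvμ hvk
        rw [hψdef, he, Module.finrank_zero_of_subsingleton, Nat.cast_zero]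
    have hall : ∀ χ : Cfsg.IrrCharacter G, χ ≠ χ₁ → ∃ m : ℕ,
        Cfsg.classInner ψ (χ : G → ℂ) * (χ : G → ℂ) 1 = (f : ℂ) * m := by
      intro χ hχ
      obtain ⟨c, d, hc, hd, hcd⟩ := CfsgLib.Perm.PermChar.inner_sub_le (Cfsg.permRep ℂ G Ω) (U μ) χ
      by_cases hc0 : c = 0
      · exact ⟨0, by rw [hψdef, hc, hc0]; simp⟩
      obtain ⟨m, hm⟩ := hf χ χ.2 (fun h => hχ (Subtype.ext h)) (by
        rw [← CfsgLib.Perm.PermChar.perm_char, hd]
        exact_mod_cast (by omega : d ≠ 0))
      exact ⟨c * m, by rw [hψdef, hc, hm]; push_cast; ring⟩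
    choose mm hmm using hall
    refine ⟨∑ χ : Cfsg.IrrCharacter G, if h : χ ≠ χ₁ then mm χ h else 0, ?_⟩
    rw [CfsgLib.Perm.PermChar.finrank_eq_sum (U μ).toRepresentation,
      ← Finset.add_sum_erase _ _ (Finset.mem_univ χ₁)]
    congr 1
    · rw [← hψdef]
      show Cfsg.classInner ψ (fun _ => (1 : ℂ)) * 1 = _
      rw [mul_one, htriv]
    · rw [← Finset.sum_erase (a := χ₁) (f := fun χ => if h : χ ≠ χ₁ then mm χ h else 0) Finset.univ
        (by simp), Nat.cast_sum, Finset.mul_sum]
      refine Finset.sum_congr rfl fun χ hχ => ?_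
      rw [dif_pos (Finset.ne_of_mem_erase hχ), ← hψdef, hmm χ (Finset.ne_of_mem_erase hχ)]
  choose m hm using hdim
  -- decomposition of the trace
  have hint : DirectSum.IsInternal (fun μ : ℂ => Module.End.maxGenEigenspace S μ) :=
    DirectSum.isInternal_submodule_of_iSupIndep_of_iSup_eq_top
      (Module.End.independent_maxGenEigenspace S) (Module.End.iSup_maxGenEigenspace_eq_top S)
  have hfin : {μ : ℂ | Module.End.maxGenEigenspace S μ ≠ ⊥}.Finite :=
    WellFoundedGT.finite_ne_bot_of_iSupIndep (Module.End.independent_maxGenEigenspace S)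
  have hmaps : ∀ μ : ℂ, Set.MapsTo S (Module.End.maxGenEigenspace S μ : Set (Ω → ℂ))
      (Module.End.maxGenEigenspace S μ) := fun μ =>
    Module.End.mapsTo_maxGenEigenspace_of_comm (Commute.refl S) μ
  have htr2 := LinearMap.trace_eq_sum_trace_restrict' hint hfin hmaps
  rw [htr] at htr2
  have hterm : ∀ μ : ℂ, LinearMap.trace ℂ _ (S.restrict (hmaps μ))
      = μ * (Module.finrank ℂ (U μ).toSubmodule : ℂ) := by
    intro μ
    have hn := Module.End.isNilpotent_restrict_maxGenEigenspace_sub_algebraMap S μ
    have h0 := (LinearMap.isNilpotent_trace_of_isNilpotent hn).eq_zero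
    have hd : S.restrict (hmaps μ) = LinearMap.restrict (S - algebraMap ℂ (Module.End ℂ (Ω → ℂ)) μ)
        (Module.End.mapsTo_maxGenEigenspace_of_comm (Algebra.mul_sub_algebraMap_commutes S μ) μ)
          + μ • LinearMap.id := LinearMap.ext fun v => Subtype.ext (by
      show S (v : Ω → ℂ) = (S (v : Ω → ℂ) - μ • (v : Ω → ℂ)) + μ • (v : Ω → ℂ)
      rw [sub_add_cancel])
    rw [hd, map_add, h0, map_smul, LinearMap.trace_id, zero_add, smul_eq_mul]
    rfl
  simp only [hterm, hm] at htr2
  have hkmem : (k : ℂ) ∈ hfin.toFinset := by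
    rw [Set.Finite.mem_toFinset]
    show Module.End.maxGenEigenspace S (k : ℂ) ≠ ⊥
    refine (Submodule.ne_bot_iff _).2 ⟨one, ?_, fun h => one_ne_zero (congrFun h a)⟩
    rw [Module.End.mem_maxGenEigenspace]
    exact ⟨1, by simp [hone]⟩
  simp only [mul_add, Finset.sum_add_distrib, mul_ite, mul_one, mul_zero, Finset.sum_ite_eq' _ (k : ℂ),
    if_pos hkmem] at htr2
  set T₀ := ∑ μ ∈ hfin.toFinset, μ * (m μ : ℂ) with hT₀
  have hk : (k : ℂ) = (f : ℂ) * (-T₀) := by
    have hr : ∑ x ∈ hfin.toFinset, x * ((f : ℂ) * (m x : ℂ)) = (f : ℂ) * T₀ := by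
      rw [hT₀, Finset.mul_sum]
      exact Finset.sum_congr rfl fun x _ => by ring
    rw [hr] at htr2
    linear_combination -htr2
  have hintg : IsIntegral ℤ (-T₀) := by
    refine (IsIntegral.sum _ fun μ hμ => ?_).neg
    rw [Set.Finite.mem_toFinset] at hμ
    refine IsIntegral.mul ?_ (isIntegral_algebraMap (R := ℤ) (A := ℂ) (x := (m μ : ℤ)) |> fun h => by simpa using h)
    have hev : Module.End.HasEigenvalue S μ := by
      have : Module.End.HasUnifEigenvalue S μ ⊤ := hμ
      exact this.lt (m := 1) zero_lt_one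
    obtain ⟨v, hv⟩ := hev.exists_hasEigenvector
    exact CfsgLib.Perm.PermChar.isIntegral_eigen M hv.2 hv.apply_eq_smul
  show f ∣ k
  by_cases hf0 : f = 0
  · rw [hf0, Nat.cast_zero, zero_mul] at hk
    rw [show k = 0 by exact_mod_cast hk]
    exact dvd_zero _
  refine CfsgLib.Char.dvd_of_isIntegral_div hf0 ?_
  rw [hk, mul_div_cancel_left₀ _ (by exact_mod_cast hf0)]
  exact hintg

end Cfsg.Agent.S0715
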