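import Cfsg.Statements.S0716

import Mathlib
import Cfsg.Agent.Perm.PermCharacter
import Cfsg.Agent.S0715

set_option autoImplicit false
set_option linter.style.haveILetI false
open Cfsg

namespace Cfsg.Agent.S0716
open scoped CfsgLib.Char

/-- (a) If all non-principal irreducible constituents of the permutation character of a transitive group have the same degree `f`, the character is multiplicity-free and all non-trivial subdegrees equal `f`. (b) A transitive group of rank at most 5 has multiplicity-free permutation character. -/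
theorem result {G : Type*} [Group G] [Fintype G] {Ω : Type*} [Fintype Ω] [MulAction G Ω] [MulAction.IsPretransitive G Ω] (a : Ω) : ((f : ℕ) → (∀ χ : G → ℂ, Cfsg.IsIrrCharacter G χ → χ ≠ (fun _ => 1) → Cfsg.classInner (fun g : G => (Nat.card (MulAction.fixedBy Ω g) : ℂ)) χ ≠ 0 → χ 1 = f) → (∀ χ : G → ℂ, Cfsg.IsIrrCharacter G χ → Cfsg.classInner (fun g : G => (Nat.card (MulAction.fixedBy Ω g) : ℂ)) χ = 0 ∨ Cfsg.classInner (fun g : G => (Nat.card (MulAction.fixedBy Ω g) : ℂ)) χ = 1) ∧ ∀ b : Ω, b ≠ a → Nat.card (MulAction.orbit (MulAction.stabilizer G a) b) = f) ∧ (Nat.card (MulAction.orbitRel.Quotient (MulAction.stabilizer G a) Ω) ≤ 5 → ∀ χ : G → ℂ, Cfsg.IsIrrCharacter G χ → Cfsg.classInner (fun g : G => (Nat.card (MulAction.fixedBy Ω g) : ℂ)) χ = 0 ∨ Cfsg.classInner (fun g : G => (Nat.card (MulAction.fixedBy Ω g) : ℂ)) χ = 1) := by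
  classical
  haveI : Nonempty Ω := ⟨a⟩
  set r := Nat.card (MulAction.orbitRel.Quotient (MulAction.stabilizer G a) Ω) with hr
  have hπ := CfsgLib.Perm.PermChar.perm_char (G := G) (Ω := Ω)
  let ρ := Cfsg.permRep ℂ G Ω
  have hc := CfsgLib.Char.isCharacter_of_rep ρ
  choose m hm using fun χ : Cfsg.IrrCharacter G => CfsgLib.Char.inner_char_irr hc χ.2
  let χ₁ : Cfsg.IrrCharacter G := ⟨fun _ => 1, CfsgLib.Char.isIrr_one⟩
  have hm1 : m χ₁ = 1 := by
    have := (hm χ₁).symm.trans CfsgLib.Perm.PermChar.inner_perm_one_transitive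
    exact_mod_cast this
  have hrsum : r = 1 + ∑ χ ∈ Finset.univ.erase χ₁, m χ * m χ := by
    have h1 := (CfsgLib.Perm.PermChar.inner_perm_self_rank (G := G) a).symm.trans
      (CfsgLib.Perm.PermChar.inner_self_eq_sum ρ m hm)
    have h2 : r = ∑ χ : Cfsg.IrrCharacter G, m χ * m χ := by exact_mod_cast h1
    rw [h2, ← Finset.add_sum_erase _ _ (Finset.mem_univ χ₁), hm1]
  have key : ∀ f : ℕ, (∀ χ : G → ℂ, Cfsg.IsIrrCharacter G χ → χ ≠ (fun _ => 1) →
      Cfsg.classInner (fun g : G => (Nat.card (MulAction.fixedBy Ω g) : ℂ)) χ ≠ 0 → χ 1 = f) →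
      (∀ χ : Cfsg.IrrCharacter G, m χ ≤ 1) ∧
        ∀ b : Ω, b ≠ a → Nat.card (MulAction.orbit (MulAction.stabilizer G a) b) = f := by
    intro f hf
    have hf' : ∀ χ : G → ℂ, Cfsg.IsIrrCharacter G χ → χ ≠ (fun _ => 1) →
        Cfsg.classInner (fun g : G => (Nat.card (MulAction.fixedBy Ω g) : ℂ)) χ ≠ 0 →
          ∃ m : ℕ, χ 1 = (f : ℂ) * m := fun χ h1 h2 h3 => ⟨1, by rw [hf χ h1 h2 h3]; simp⟩
    have hdiv := fun b hb => Cfsg.Agent.S0715.result f hf' a b hb
    have hne : ∀ χ ∈ Finset.univ.erase χ₁, m χ ≠ 0 → (χ : G → ℂ) 1 = f := by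
      intro χ hχ hm0
      refine hf χ χ.2 (fun h => Finset.ne_of_mem_erase hχ (Subtype.ext h)) ?_
      rw [← hπ, hm χ]
      exact_mod_cast hm0
    have hn : Nat.card Ω = 1 + f * ∑ χ ∈ Finset.univ.erase χ₁, m χ := by
      have h1 := CfsgLib.Perm.PermChar.finrank_eq_sum ρ
      simp only [ρ, hm, Module.finrank_fintype_fun_eq_card] at h1
      rw [← Finset.add_sum_erase _ _ (Finset.mem_univ χ₁), hm1] at h1
      have h2 : ∑ χ ∈ Finset.univ.erase χ₁, (m χ : ℂ) * (χ : G → ℂ) 1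
          = ((f * ∑ χ ∈ Finset.univ.erase χ₁, m χ : ℕ) : ℂ) := by
        push_cast
        rw [Finset.mul_sum]
        refine Finset.sum_congr rfl fun χ hχ => ?_
        rcases eq_or_ne (m χ) 0 with h0 | h0
        · rw [h0]; simp
        · rw [hne χ hχ h0, mul_comm]
      rw [h2, show ((1 : ℕ) : ℂ) * (χ₁ : G → ℂ) 1 = 1 by simp [χ₁]] at h1
      rw [Nat.card_eq_fintype_card]
      exact_mod_cast h1
    let Q := MulAction.orbitRel.Quotient (MulAction.stabilizer G a) Ω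
    haveI : Fintype Q := Fintype.ofFinite _
    let q₀ : Q := Quotient.mk'' a
    let c : Q → ℕ := fun q => Nat.card q.orbit
    have hcsum : Nat.card Ω = ∑ q, c q := by
      rw [Nat.card_congr (MulAction.selfEquivSigmaOrbits' (MulAction.stabilizer G a) Ω), Nat.card_sigma]
    have horb : ∀ x : Ω, c (Quotient.mk'' x) = Nat.card (MulAction.orbit (MulAction.stabilizer G a) x) :=
      fun x => rfl
    have hc0 : c q₀ = 1 := by
      rw [horb]
      haveI : Subsingleton (MulAction.orbit (MulAction.stabilizer G a) a) := by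
        refine ⟨fun x y => ?_⟩
        obtain ⟨x, ⟨g, hg⟩⟩ := x
        obtain ⟨y, ⟨h, hh⟩⟩ := y
        apply Subtype.ext
        show x = y
        rw [← hg, ← hh]
        exact (g.2 : (g : G) • a = a).trans (h.2 : (h : G) • a = a).symm
      haveI : Nonempty (MulAction.orbit (MulAction.stabilizer G a) a) := ⟨⟨a, MulAction.mem_orbit_self a⟩⟩
      exact Nat.card_eq_one_iff_unique.2 ⟨inferInstance, inferInstance⟩
    have hcge : ∀ q, q ≠ q₀ → f ∣ c q ∧ f ≤ c q := by
      intro q hq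
      induction q using Quotient.inductionOn' with
      | h b =>
        have hba : b ≠ a := fun h => hq (by rw [h])
        haveI : Nonempty (MulAction.orbit (MulAction.stabilizer G a) b) := ⟨⟨b, MulAction.mem_orbit_self b⟩⟩
        rw [horb]
        exact ⟨hdiv b hba, Nat.le_of_dvd Nat.card_pos (hdiv b hba)⟩
    rw [← Finset.add_sum_erase _ _ (Finset.mem_univ q₀), hc0, hn] at hcsum
    have hcard : (Finset.univ.erase q₀).card = ∑ χ ∈ Finset.univ.erase χ₁, m χ * m χ := by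
      rw [Finset.card_erase_of_mem (Finset.mem_univ _), Finset.card_univ, ← Nat.card_eq_fintype_card]
      show r - 1 = _
      omega
    have hlow : f * ∑ χ ∈ Finset.univ.erase χ₁, m χ * m χ ≤ ∑ q ∈ Finset.univ.erase q₀, c q := by
      rw [← hcard, mul_comm, ← smul_eq_mul, ← Finset.sum_const]
      exact Finset.sum_le_sum fun q hq => (hcge q (Finset.ne_of_mem_erase hq)).2
    have hle : ∑ χ ∈ Finset.univ.erase χ₁, m χ ≤ ∑ χ ∈ Finset.univ.erase χ₁, m χ * m χ :=
      Finset.sum_le_sum fun χ _ => Nat.le_mul_self _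
    rcases Nat.eq_zero_or_pos f with hf0 | hf0
    · -- the action is on a single point
      have h1 : Nat.card Ω = 1 := by rw [hn, hf0]; simp
      haveI := (Nat.card_eq_one_iff_unique.1 h1).1
      refine ⟨fun χ => ?_, fun b hb => absurd (Subsingleton.elim b a) hb⟩
      by_contra hlt
      rcases eq_or_ne χ χ₁ with rfl | hχ
      · omega
      have h3 := hne χ (Finset.mem_erase.2 ⟨hχ, Finset.mem_univ _⟩) (by omega)
      rw [hf0, Nat.cast_zero] at h3
      exact CfsgLib.Char.irr_one_ne_zero χ.2 h3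
    have hsum_eq : ∑ χ ∈ Finset.univ.erase χ₁, m χ * m χ = ∑ χ ∈ Finset.univ.erase χ₁, m χ := by
      refine le_antisymm (Nat.le_of_mul_le_mul_left (hlow.trans (by omega)) hf0) hle
    refine ⟨fun χ => ?_, fun b hb => ?_⟩
    · rcases eq_or_ne χ χ₁ with rfl | hχ
      · omega
      have h1 := (Finset.sum_eq_sum_iff_of_le (fun χ _ => Nat.le_mul_self (m χ))).1 hsum_eq.symm χ
        (Finset.mem_erase.2 ⟨hχ, Finset.mem_univ _⟩)
      by_contra hlt
      have : m χ * 2 ≤ m χ * m χ := Nat.mul_le_mul_left _ (by omega)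
      omega
    · have hq : (Quotient.mk'' b : Q) ≠ q₀ := by
        intro h
        obtain ⟨g, hg⟩ := MulAction.orbitRel_apply.1 (Quotient.eq''.1 h)
        exact hb (hg.symm.trans g.2)
      have h1 : ∑ q ∈ Finset.univ.erase q₀, f = ∑ q ∈ Finset.univ.erase q₀, c q := by
        rw [Finset.sum_const, hcard, hsum_eq, smul_eq_mul, mul_comm]
        omega
      have h2 := (Finset.sum_eq_sum_iff_of_le (fun q hq => (hcge q (Finset.ne_of_mem_erase hq)).2)).1 h1
        (Quotient.mk'' b) (Finset.mem_erase.2 ⟨hq, Finset.mem_univ _⟩)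
      rw [← horb, h2]
  have hconv : ∀ χ : G → ℂ, ∀ hχ : Cfsg.IsIrrCharacter G χ, m ⟨χ, hχ⟩ ≤ 1 →
      Cfsg.classInner (fun g : G => (Nat.card (MulAction.fixedBy Ω g) : ℂ)) χ = 0 ∨
        Cfsg.classInner (fun g : G => (Nat.card (MulAction.fixedBy Ω g) : ℂ)) χ = 1 := by
    intro χ hχ h
    rw [← hπ, hm ⟨χ, hχ⟩]
    rcases Nat.le_one_iff_eq_zero_or_eq_one.1 h with h | h <;> simp [h]
  refine ⟨fun f hf => ⟨fun χ hχ => hconv χ hχ ((key f hf).1 _), (key f hf).2⟩, fun h5 χ hχ => hconv χ hχ ?_⟩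
  by_contra hlt
  rcases eq_or_ne (⟨χ, hχ⟩ : Cfsg.IrrCharacter G) χ₁ with he | hne
  · rw [he, hm1] at hlt; omega
  have hmem : (⟨χ, hχ⟩ : Cfsg.IrrCharacter G) ∈ Finset.univ.erase χ₁ := Finset.mem_erase.2 ⟨hne, Finset.mem_univ _⟩
  have hsplit := Finset.add_sum_erase _ (fun χ => m χ * m χ) hmem
  have h4 : 2 * 2 ≤ m ⟨χ, hχ⟩ * m ⟨χ, hχ⟩ := Nat.mul_le_mul (by omega) (by omega)
  have hrest : ∑ ψ ∈ (Finset.univ.erase χ₁).erase ⟨χ, hχ⟩, m ψ * m ψ = 0 := by
    omega
  obtain ⟨d, -, hd⟩ := CfsgLib.Char.irr_deg hχ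
  refine hlt ((key d fun ψ hψ hψ1 hψne => ?_).1 _)
  have hψ0 : m ⟨ψ, hψ⟩ ≠ 0 := fun h0 => hψne (by rw [← hπ, hm ⟨ψ, hψ⟩, h0, Nat.cast_zero])
  by_cases he : (⟨ψ, hψ⟩ : Cfsg.IrrCharacter G) = ⟨χ, hχ⟩
  · rw [show ψ = χ from congrArg Subtype.val he, hd]
  · have := Finset.sum_eq_zero_iff.1 hrest ⟨ψ, hψ⟩
      (Finset.mem_erase.2 ⟨he, Finset.mem_erase.2 ⟨fun h => hψ1 (congrArg Subtype.val h), Finset.mem_univ _⟩⟩)
    exact absurd (Nat.mul_self_inj.1 (this.trans (Nat.mul_zero 0).symm)) hψ0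

end Cfsg.Agent.S0716
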