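import Cfsg.Statements.S0717

import Mathlib
import Cfsg.Agent.Perm.PermCharacter
import Cfsg.Agent.Char.FrobeniusSchur

set_option autoImplicit false
set_option linter.style.haveILetI false
open Cfsg

namespace Cfsg.Agent.S0717
open scoped CfsgLib.Char ComplexConjugate

/-- All suborbits of a transitive group are self-paired (every pair of points is interchanged by some group element) if and only if the permutation character is multiplicity-free and each of its irreducible constituents is real-valued. -/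
theorem result {G : Type*} [Group G] [Fintype G] {Ω : Type*} [Fintype Ω] [MulAction G Ω] [MulAction.IsPretransitive G Ω] : (∀ a b : Ω, ∃ g : G, g • a = b ∧ g • b = a) ↔ ∀ χ : G → ℂ, Cfsg.IsIrrCharacter G χ → Cfsg.classInner (fun g : G => (Nat.card (MulAction.fixedBy Ω g) : ℂ)) χ ≠ 0 → Cfsg.classInner (fun g : G => (Nat.card (MulAction.fixedBy Ω g) : ℂ)) χ = 1 ∧ ∀ g : G, (starRingEnd ℂ) (χ g) = χ g := by
  classical
  let ρ := Cfsg.permRep ℂ G Ω
  have hπ := CfsgLib.Perm.PermChar.perm_char (G := G) (Ω := Ω)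
  have hc := CfsgLib.Char.isCharacter_of_rep ρ
  choose m hm using fun χ : Cfsg.IrrCharacter G => CfsgLib.Char.inner_char_irr hc χ.2
  constructor
  · intro hsp
    -- all equivariant operators are symmetric, hence commute
    have hsym : ∀ S : (Ω → ℂ) →ₗ[ℂ] (Ω → ℂ), CfsgLib.Perm.PermChar.Comm G S → ∀ x y : Ω,
        S (Pi.single x 1) y = S (Pi.single y 1) x := by
      intro S hS x y
      obtain ⟨g, h1, h2⟩ := hsp x y
      have := CfsgLib.Perm.PermChar.comm_single hS g x y
      rw [h1, h2] at this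
      exact this.symm
    have hcomm : ∀ S T : (Ω → ℂ) →ₗ[ℂ] (Ω → ℂ), CfsgLib.Perm.PermChar.Comm G S → CfsgLib.Perm.PermChar.Comm G T → S ∘ₗ T = T ∘ₗ S := by
      intro S T hS hT
      have hexp : ∀ (A : (Ω → ℂ) →ₗ[ℂ] (Ω → ℂ)) (v : Ω → ℂ) y, A v y = ∑ z, v z * A (Pi.single z 1) y := by
        intro A v y
        have hv : v = ∑ z, v z • (Pi.single z 1 : Ω → ℂ) := by
          funext w; simp [Finset.sum_apply, Pi.single_apply]
        conv_lhs => rw [hv]
        simp [map_sum, map_smul, Finset.sum_apply]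
      have hTS : CfsgLib.Perm.PermChar.Comm G (T ∘ₗ S) := fun g v => by
        simp only [LinearMap.comp_apply, hS g v, hT g (S v)]
      refine LinearMap.pi_ext' fun x => LinearMap.ext_ring (funext fun y => ?_)
      simp only [LinearMap.comp_apply, LinearMap.single_apply]
      have h1 : T (S (Pi.single x 1)) y = T (S (Pi.single y 1)) x := hsym (T ∘ₗ S) hTS x y
      rw [h1, hexp S (T (Pi.single x 1)) y, hexp T (S (Pi.single y 1)) x]
      refine Finset.sum_congr rfl fun z _ => ?_
      rw [hsym S hS y z, hsym T hT x z, mul_comm]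
    have hle : ∀ χ : Cfsg.IrrCharacter G, m χ ≤ 1 := by
      intro χ
      by_contra hlt
      obtain ⟨S, T, hS, hT, hne⟩ := CfsgLib.Perm.PermChar.exists_not_commute χ.2 (hm χ) (by omega)
      exact hne (hcomm S T hS hT)
    -- the indicator of the permutation character equals the rank
    have hfs : CfsgLib.Char.fsInd ρ.character = Cfsg.classInner ρ.character ρ.character := by
      rw [CfsgLib.Char.fsInd, CfsgLib.Char.classInner_def]
      congr 1
      simp only [ρ, hπ, map_natCast, ← Nat.cast_mul, ← Nat.cast_sum]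
      congr 1
      simp only [← Nat.card_prod, ← Nat.card_sigma]
      choose t ht1 ht2 using hsp
      refine Nat.card_congr
        { toFun := fun q => ⟨(t q.2.1 (q.1 • q.2.1))⁻¹ * q.1, ⟨q.2.1, ?_⟩, ⟨q.1 • q.2.1, ?_⟩⟩
          invFun := fun q => ⟨t q.2.1.1 q.2.2.1 * q.1, ⟨q.2.1.1, ?_⟩⟩
          left_inv := ?_
          right_inv := ?_ }
      · show _ • q.2.1 = q.2.1
        rw [mul_smul, inv_smul_eq_iff, ht1]
      · show _ • q.1 • q.2.1 = q.1 • q.2.1
        rw [mul_smul, inv_smul_eq_iff, ht2, ← mul_smul]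
        exact q.2.2
      · show (_ * _) • q.2.1.1 = q.2.1.1
        rw [mul_smul, mul_smul, mul_smul, (q.2.1.2 : q.1 • q.2.1.1 = _), ht1, (q.2.2.2 : q.1 • q.2.2.1 = _), ht2]
      · rintro ⟨g, x, hx⟩
        refine Sigma.subtype_ext ?_ rfl
        show t x (g • x) * ((t x (g • x))⁻¹ * g) = g
        rw [mul_inv_cancel_left]
      · rintro ⟨g, ⟨x, hx⟩, ⟨y, hy⟩⟩
        have e : (t x y * g) • x = y := by rw [mul_smul, (hx : g • x = x), ht1]
        have hext : ∀ (g g' : G) (u : MulAction.fixedBy Ω g × MulAction.fixedBy Ω g) (u' : MulAction.fixedBy Ω g' × MulAction.fixedBy Ω g'),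
            g = g' → u.1.1 = u'.1.1 → u.2.1 = u'.2.1 →
              (⟨g, u⟩ : (g : G) × (MulAction.fixedBy Ω g × MulAction.fixedBy Ω g)) = ⟨g', u'⟩ := by
          rintro g g' u u' rfl h1 h2
          rw [Prod.ext (Subtype.ext h1) (Subtype.ext h2)]
        exact hext _ _ _ _ (by show (t x ((t x y * g) • x))⁻¹ * (t x y * g) = g; rw [e, inv_mul_cancel_left]) rfl e
    have hrel : ∑ χ : Cfsg.IrrCharacter G, (m χ : ℂ) * CfsgLib.Char.fsInd (χ : G → ℂ)
        = ∑ χ : Cfsg.IrrCharacter G, (m χ : ℂ) := by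
      have h1 : CfsgLib.Char.fsInd ρ.character
          = ∑ χ : Cfsg.IrrCharacter G, (m χ : ℂ) * CfsgLib.Char.fsInd (χ : G → ℂ) := by
        conv_lhs => rw [CfsgLib.Char.classFun_eq_sum (CfsgLib.Char.classFun_of_char hc)]
        simp only [hm, CfsgLib.Char.fsInd, Finset.sum_apply, Pi.smul_apply, smul_eq_mul]
        rw [Finset.sum_comm, Finset.mul_sum]
        refine Finset.sum_congr rfl fun χ _ => ?_
        rw [← Finset.mul_sum, mul_left_comm]
      rw [← h1, hfs, CfsgLib.Perm.PermChar.inner_self_eq_sum ρ m hm, Nat.cast_sum]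
      refine Finset.sum_congr rfl fun χ _ => ?_
      rcases Nat.le_one_iff_eq_zero_or_eq_one.1 (hle χ) with h | h <;> simp [h]
    have hbound : ∀ χ : Cfsg.IrrCharacter G, (CfsgLib.Char.fsInd (χ : G → ℂ)).re ≤ 1 ∧
        ((CfsgLib.Char.fsInd (χ : G → ℂ)).re = 1 → ∀ g, conj ((χ : G → ℂ) g) = (χ : G → ℂ) g) := by
      rintro ⟨χ, n, σ, hirr, rfl⟩
      by_cases hreal : ∀ g, conj (σ.character g) = σ.character g
      · obtain ⟨B, -, -, -, h | h⟩ := CfsgLib.Char.fsInd_real σ hirr hreal <;>
          exact ⟨by simp [h], fun _ => hreal⟩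
      · push Not at hreal
        have h0 := CfsgLib.Char.fsInd_eq_zero σ hirr hreal
        exact ⟨by simp [h0], fun h => absurd h (by simp [h0])⟩
    intro χ hχ hne
    have hm0 : m ⟨χ, hχ⟩ = 1 := by
      rw [← hπ, hm ⟨χ, hχ⟩] at hne
      have h0 : m ⟨χ, hχ⟩ ≠ 0 := by exact_mod_cast hne
      have := hle ⟨χ, hχ⟩
      omega
    refine ⟨by rw [← hπ, hm ⟨χ, hχ⟩, hm0, Nat.cast_one], (hbound ⟨χ, hχ⟩).2 ?_⟩
    have h1 := congrArg Complex.re hrel
    simp only [Complex.re_sum, Complex.mul_re, Complex.natCast_re, Complex.natCast_im, zero_mul, sub_zero] at h1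
    have h2 := (Finset.sum_eq_sum_iff_of_le (fun χ _ => mul_le_of_le_one_right (Nat.cast_nonneg _) (hbound χ).1)).1 h1
      ⟨χ, hχ⟩ (Finset.mem_univ _)
    rw [hm0, Nat.cast_one, one_mul] at h2
    exact h2
  · intro hchar
    have hle1 : ∀ χ : Cfsg.IrrCharacter G, Cfsg.classInner ρ.character (χ : G → ℂ) = 0 ∨
        Cfsg.classInner ρ.character (χ : G → ℂ) = 1 := by
      intro χ
      by_cases h0 : Cfsg.classInner ρ.character (χ : G → ℂ) = 0
      · exact Or.inl h0
      · exact Or.inr (by rw [hπ]; exact (hchar χ χ.2 (by rw [← hπ]; exact h0)).1)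
    have hcomm : ∀ S T : (Ω → ℂ) →ₗ[ℂ] (Ω → ℂ), CfsgLib.Perm.PermChar.Comm G S → CfsgLib.Perm.PermChar.Comm G T → S ∘ₗ T = T ∘ₗ S :=
      fun S T hS hT => CfsgLib.Perm.PermChar.commute_of_le_one _ ρ rfl hle1 S T hS hT
    intro a b
    suffices hsw : ((b, a) : Ω × Ω) ∈ MulAction.orbit G ((a, b) : Ω × Ω) by
      obtain ⟨g, hg⟩ := hsw
      exact ⟨g, congrArg Prod.fst hg, congrArg Prod.snd hg⟩
    by_contra hsw
    let R : Set (Ω × Ω) := MulAction.orbit G ((a, b) : Ω × Ω)
    have hRinv : ∀ (g : G) (x y : Ω), (g • x, g • y) ∈ R ↔ (x, y) ∈ R := by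
      intro g x y
      rw [MulAction.mem_orbit_iff, MulAction.mem_orbit_iff]
      constructor
      · rintro ⟨t, ht⟩
        exact ⟨g⁻¹ * t, by rw [mul_smul, ht, Prod.smul_mk, inv_smul_smul, inv_smul_smul]⟩
      · rintro ⟨t, ht⟩
        exact ⟨g * t, by rw [mul_smul, ht, Prod.smul_mk]⟩
    -- a skew hermitian equivariant matrix
    let N : Matrix Ω Ω ℝ := Matrix.of fun x y =>
      (if (x, y) ∈ R then 1 else 0) - (if (y, x) ∈ R then 1 else 0)
    let D : Matrix Ω Ω ℂ := N.map (fun r : ℝ => (r : ℂ))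
    have hskew : ∀ x y, D y x = - D x y := fun x y => by simp [D, N]
    have hDreal : ∀ x y, conj (D x y) = D x y := fun x y => by simp [D]
    have hherm : (Complex.I • D).IsHermitian := by
      refine Matrix.IsHermitian.ext fun x y => ?_
      simp [hDreal, hskew x y]
    have hD0 : Complex.I • D ≠ 0 := by
      intro h
      have := congrFun (congrFun h a) b
      have hsw' : (b, a) ∉ R := hsw
      have hab' : (a, b) ∈ R := MulAction.mem_orbit_self _
      simp [D, N, hsw', hab'] at this
    obtain ⟨i, hi⟩ : ∃ i, hherm.eigenvalues i ≠ 0 := by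
      by_contra h
      push Not at h
      exact hD0 (hherm.eigenvalues_eq_zero_iff.1 (funext h))
    set ε : ℝ := hherm.eigenvalues i
    let μ : ℂ := -Complex.I * (ε : ℂ)
    have hμ : μ ≠ 0 := by simp [μ, hi]
    let v : Ω → ℂ := ⇑(hherm.eigenvectorBasis i)
    have hv : D.mulVec v = μ • v := by
      have h := hherm.mulVec_eigenvectorBasis i
      rw [Matrix.smul_mulVec] at h
      funext x
      have hx := congrFun h x
      simp only [Pi.smul_apply, smul_eq_mul, Complex.real_smul] at hx
      simp only [Pi.smul_apply, smul_eq_mul, μ, v]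
      linear_combination (-Complex.I) * hx + (D.mulVec ⇑(hherm.eigenvectorBasis i)) x * Complex.I_sq
    have hv0 : v ≠ 0 := fun h => hherm.eigenvectorBasis.orthonormal.ne_zero i (by ext x; exact congrFun h x)
    let DL : (Ω → ℂ) →ₗ[ℂ] (Ω → ℂ) := Matrix.toLin' D
    have hDL : CfsgLib.Perm.PermChar.Comm G DL := by
      intro g w
      funext x
      show ∑ y, D x y * w (g⁻¹ • y) = ∑ y, D (g⁻¹ • x) y * w y
      exact Fintype.sum_equiv (MulAction.toPerm g⁻¹) _ _ fun y => by
        simp [D, N, MulAction.toPerm_apply, hRinv]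
    let v' : Ω → ℂ := fun x => conj (v x)
    have hv' : D.mulVec v' = (-μ) • v' := by
      funext x
      have hx := congrArg conj (congrFun hv x)
      simp only [Matrix.mulVec, dotProduct, map_sum, map_mul, hDreal, Pi.smul_apply, smul_eq_mul] at hx
      simp only [Matrix.mulVec, dotProduct, Pi.smul_apply, smul_eq_mul, v']
      rw [hx]
      congr 1
      simp [μ]
    let Usub : ℂ → Subrepresentation ρ := fun c =>
      { toSubmodule := Module.End.eigenspace DL c
        apply_mem_toSubmodule := fun g w hw => by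
          rw [Module.End.mem_eigenspace_iff] at hw ⊢
          rw [hDL g w, hw, map_smul] }
    have hvU : v ∈ (Usub μ).toSubmodule := Module.End.mem_eigenspace_iff.2 (by simpa [DL] using hv)
    have hvU' : v' ∈ (Usub (-μ)).toSubmodule := Module.End.mem_eigenspace_iff.2 (by simpa [DL] using hv')
    -- the pairing
    let pair : (Usub (-μ)).toSubmodule →ₗ[ℂ] Module.Dual ℂ (Usub μ).toSubmodule :=
      LinearMap.mk₂ ℂ (fun u w => ∑ x, (u : Ω → ℂ) x * (w : Ω → ℂ) x)
        (fun u u' w => by simp [add_mul, Finset.sum_add_distrib])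
        (fun c u w => by simp [Finset.mul_sum, mul_assoc])
        (fun u w w' => by simp [mul_add, Finset.sum_add_distrib])
        (fun c u w => by simp [Finset.mul_sum, mul_left_comm])
    let φ : (Usub (-μ)).toRepresentation.IntertwiningMap (Usub μ).toRepresentation.dual :=
      pair.intertwiningMap_of_isIntertwiningMap _ _ fun g u => LinearMap.ext fun w => by
        show ∑ x, (u : Ω → ℂ) (g⁻¹ • x) * (w : Ω → ℂ) x = ∑ x, (u : Ω → ℂ) x * (w : Ω → ℂ) ((g⁻¹)⁻¹ • x)
        exact Fintype.sum_equiv (MulAction.toPerm g⁻¹) _ _ fun x => by simp [MulAction.toPerm_apply]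
    have hφ : φ ≠ 0 := by
      intro h
      have h1 : pair ⟨v', hvU'⟩ ⟨v, hvU⟩ = 0 := by
        show (φ ⟨v', hvU'⟩) ⟨v, hvU⟩ = 0
        rw [h]; rfl
      apply hv0
      simp only [pair, LinearMap.mk₂_apply, v'] at h1
      have h2 : ∑ x, (Complex.normSq (v x) : ℂ) = 0 := by
        rw [← h1]; exact Finset.sum_congr rfl fun x _ => (Complex.normSq_eq_conj_mul_self)
      have h3 : ∑ x, Complex.normSq (v x) = 0 := by exact_mod_cast h2
      funext x
      exact Complex.normSq_eq_zero.1 ((Finset.sum_eq_zero_iff_of_nonneg fun x _ => Complex.normSq_nonneg _).1 h3 x (Finset.mem_univ x))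
    -- the dual has the same character
    have hdual : (Usub μ).toRepresentation.dual.character = (Usub μ).toRepresentation.character := by
      funext g
      rw [Representation.char_dual, CfsgLib.Char.char_inv]
      conv_lhs => rw [CfsgLib.Char.classFun_eq_sum (CfsgLib.Char.classFun_of_char (CfsgLib.Char.isCharacter_of_rep (Usub μ).toRepresentation))]
      conv_rhs => rw [CfsgLib.Char.classFun_eq_sum (CfsgLib.Char.classFun_of_char (CfsgLib.Char.isCharacter_of_rep (Usub μ).toRepresentation))]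
      simp only [Finset.sum_apply, Pi.smul_apply, smul_eq_mul, map_sum, map_mul]
      refine Finset.sum_congr rfl fun χ _ => ?_
      obtain ⟨c, d, hc', hd, hcd⟩ := CfsgLib.Perm.PermChar.inner_sub_le ρ (Usub μ) χ
      rw [hc', map_natCast]
      rcases Nat.eq_zero_or_pos c with rfl | hpos
      · simp
      · rw [(hchar χ χ.2 (by rw [← hπ, hd]; exact_mod_cast (by omega : d ≠ 0))).2 g]
    have hne : Cfsg.classInner (Usub μ).toRepresentation.character (Usub (-μ)).toRepresentation.character ≠ 0 := by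
      rw [← hdual, CfsgLib.Char.inner_eq_finrank]
      haveI : Nontrivial ((Usub (-μ)).toRepresentation.IntertwiningMap (Usub μ).toRepresentation.dual) := ⟨φ, 0, hφ⟩
      exact_mod_cast (Module.finrank_pos (R := ℂ) (M := (Usub (-μ)).toRepresentation.IntertwiningMap (Usub μ).toRepresentation.dual)).ne'
    apply hne
    rw [CfsgLib.Char.inner_eq_finrank]
    have : Subsingleton ((Usub (-μ)).toRepresentation.IntertwiningMap (Usub μ).toRepresentation) := by
      refine ⟨fun ψ₁ ψ₂ => ?_⟩
      suffices key : ∀ ψ : (Usub (-μ)).toRepresentation.IntertwiningMap (Usub μ).toRepresentation, ψ = 0 by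
        rw [key ψ₁, key ψ₂]
      intro ψ
      apply Representation.IntertwiningMap.ext
      refine LinearMap.ext fun u => ?_
      obtain ⟨W, hW⟩ := CfsgLib.Char.exists_compl ρ (Usub (-μ))
      have hcs := CfsgLib.Char.isCompl_toSubmodule hW
      let P := (Usub (-μ)).toSubmodule.projectionOnto W.toSubmodule hcs
      have hproj : ∀ (g : G) (w : Ω → ℂ), P (ρ g w) = (Usub (-μ)).toRepresentation g (P w) := by
        intro g w
        obtain ⟨x, y, rfl, -⟩ := Submodule.existsUnique_add_of_isCompl hcs w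
        rw [map_add, map_add, map_add, Submodule.projectionOnto_apply_left hcs x,
          Submodule.projectionOnto_apply_right hcs y, add_zero,
          Submodule.projectionOnto_apply_left hcs ⟨_, (Usub (-μ)).apply_mem_toSubmodule g x.2⟩,
          Submodule.projectionOnto_apply_right hcs ⟨_, W.apply_mem_toSubmodule g y.2⟩, add_zero]
        rfl
      let S : (Ω → ℂ) →ₗ[ℂ] (Ω → ℂ) := (Usub μ).toSubmodule.subtype ∘ₗ ψ.toLinearMap ∘ₗ P
      have hS : CfsgLib.Perm.PermChar.Comm G S := fun g w => by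
        show (Usub μ).toSubmodule.subtype (ψ (P (ρ g w))) = ρ g ((Usub μ).toSubmodule.subtype (ψ (P w)))
        rw [hproj, Representation.IntertwiningMap.isIntertwining _ _ ψ g (P w)]
        rfl
      have hSu : S (u : Ω → ℂ) = (ψ u : Ω → ℂ) := by
        show ((ψ (P (u : Ω → ℂ)) : (Usub μ).toSubmodule) : Ω → ℂ) = _
        rw [Submodule.projectionOnto_apply_left hcs u]
      have h1 := LinearMap.congr_fun (hcomm DL S hDL hS) (u : Ω → ℂ)
      simp only [LinearMap.comp_apply] at h1
      rw [Module.End.mem_eigenspace_iff.1 u.2, map_smul, hSu, Module.End.mem_eigenspace_iff.1 (ψ u).2] at h1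
      apply Subtype.ext
      funext x
      have h2 := congrFun h1 x
      simp only [Pi.smul_apply, smul_eq_mul] at h2
      show (ψ u : Ω → ℂ) x = 0
      have h3 : (2 * μ) * (ψ u : Ω → ℂ) x = 0 := by linear_combination h2
      exact (mul_eq_zero.1 h3).resolve_left (mul_ne_zero two_ne_zero hμ)
    rw [Module.finrank_zero_of_subsingleton, Nat.cast_zero]

end Cfsg.Agent.S0717
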