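import Cfsg.Statements.S0719

import Mathlib
import Cfsg.Agent.Perm.PermCharacter

set_option autoImplicit false
set_option linter.style.haveILetI false
open Cfsg

namespace Cfsg.Agent.S0719
open scoped CfsgLib.Char

theorem solve_params (m k p₁ p₂ : ℕ) (s t : ℤ) (hm3 : 3 ≤ m) (hk : 2 ≤ k) (hk2 : k + 3 ≤ 2 * m)
    (htr : (k : ℤ) + ((m : ℤ) - 1) * s + m * t = 0)
    (hrow : (k : ℤ) * k = (k - p₂) + ((p₁ : ℤ) - p₂) * k + p₂ * (2 * m))
    (hst : s + t = (p₁ : ℤ) - p₂) (hs2 : s * s = (k - p₂) + ((p₁ : ℤ) - p₂) * s) :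
    ∃ a : ℕ, 0 < a ∧ m = 2 * a ^ 2 + 2 * a + 1 ∧
      ((k = a * (2 * a + 1) ∧ 2 * m - 1 - k = (a + 1) * (2 * a + 1)) ∨
       (k = (a + 1) * (2 * a + 1) ∧ 2 * m - 1 - k = a * (2 * a + 1))) := by
  set c : ℤ := (p₁ : ℤ) - p₂
  have hs : s = k + m * c := by linear_combination (-1 : ℤ) * htr + (m : ℤ) * hst
  set u : ℤ := s - c with hu
  have hk' : (k : ℤ) = u - ((m : ℤ) - 1) * c := by rw [hu, hs]; ring
  have hprod : u * (u + c) = (k : ℤ) - p₂ := by
    rw [hu]; linear_combination hs2
  have hE : 2 * u ^ 2 + ((m : ℤ) - 1) * c ^ 2 - 2 * k = 0 := by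
    have h1 : (2 * (m : ℤ) - 1) * p₂ = k * (k - 1 - c) := by linear_combination -hrow
    have h2 : (m : ℤ) * (2 * u ^ 2 + ((m : ℤ) - 1) * c ^ 2 - 2 * k) = 0 := by
      rw [hk']
      rw [hk'] at h1 hprod
      linear_combination -h1 + (2 * (m : ℤ) - 1) * hprod
    exact (mul_eq_zero.1 h2).resolve_left (by omega)
  have hmain : ((m : ℤ) - 1) * (c * (c + 2)) + 2 * (u * (u - 1)) = 0 := by
    rw [hk'] at hE
    linear_combination hE
  have hu01 : 0 ≤ u * (u - 1) := by
    rcases le_or_gt u 0 with h | h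
    · exact mul_nonneg_of_nonpos_of_nonpos h (by omega)
    · exact mul_nonneg (by omega) (by omega)
  have hcc : c * (c + 2) ≤ 0 := by
    by_contra h
    push Not at h
    have h1 : 0 < ((m : ℤ) - 1) * (c * (c + 2)) := mul_pos (by omega) h
    omega
  have hcr : c = -2 ∨ c = -1 ∨ c = 0 := by
    have h1 : -2 ≤ c := by
      by_contra h
      push Not at h
      have : 0 < c * (c + 2) := mul_pos_of_neg_of_neg (by omega) (by omega)
      omega
    have h2 : c ≤ 0 := by
      by_contra h
      push Not at h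
      have : 0 < c * (c + 2) := mul_pos h (by omega)
      omega
    omega
  have hu0 : c * (c + 2) = 0 → u = 0 ∨ u = 1 := fun h => by
    rw [h] at hmain
    have : u * (u - 1) = 0 := by omega
    rcases mul_eq_zero.1 this with h | h <;> omega
  rcases hcr with hc | hc | hc
  · exfalso
    rcases hu0 (by rw [hc]; norm_num) with h | h <;> rw [h, hc] at hk' <;> omega
  · rw [hc] at hmain hk'
    have hm2 : (m : ℤ) = 2 * u * u - 2 * u + 1 := by linear_combination -hmain
    have hk3 : (k : ℤ) = 2 * u * u - u := by rw [hk', hm2]; ring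
    rcases le_or_gt u 0 with h | h
    · obtain ⟨a, ha⟩ : ∃ a : ℕ, u = -(a : ℤ) := ⟨u.natAbs, by omega⟩
      rw [ha] at hm2 hk3
      have e1 : m = 2 * a ^ 2 + 2 * a + 1 := by
        have : (m : ℤ) = ((2 * a ^ 2 + 2 * a + 1 : ℕ) : ℤ) := by rw [hm2]; push_cast; ring
        exact_mod_cast this
      have e2 : k = a * (2 * a + 1) := by
        have : (k : ℤ) = ((a * (2 * a + 1) : ℕ) : ℤ) := by rw [hk3]; push_cast; ring
        exact_mod_cast this
      refine ⟨a, ?_, e1, Or.inl ⟨e2, ?_⟩⟩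
      · rcases Nat.eq_zero_or_pos a with h0 | h0
        · simp [h0] at e1; omega
        · exact h0
      · have e3 : a * (2 * a + 1) + (a + 1) * (2 * a + 1) + 1 = 2 * m := by rw [e1]; ring
        omega
    · obtain ⟨a, ha⟩ : ∃ a : ℕ, u = (a : ℤ) + 1 := ⟨(u - 1).natAbs, by omega⟩
      rw [ha] at hm2 hk3
      have e1 : m = 2 * a ^ 2 + 2 * a + 1 := by
        have : (m : ℤ) = ((2 * a ^ 2 + 2 * a + 1 : ℕ) : ℤ) := by rw [hm2]; push_cast; ring
        exact_mod_cast this
      have e2 : k = (a + 1) * (2 * a + 1) := by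
        have : (k : ℤ) = (((a + 1) * (2 * a + 1) : ℕ) : ℤ) := by rw [hk3]; push_cast; ring
        exact_mod_cast this
      refine ⟨a, ?_, e1, Or.inr ⟨e2, ?_⟩⟩
      · rcases Nat.eq_zero_or_pos a with h0 | h0
        · simp [h0] at e1; omega
        · exact h0
      · have e3 : a * (2 * a + 1) + (a + 1) * (2 * a + 1) + 1 = 2 * m := by rw [e1]; ring
        omega
  · exfalso
    rcases hu0 (by rw [hc]; norm_num) with h | h <;> rw [h, hc] at hk' <;> omega

/-- Groups of Wielandt type: if a primitive group of degree `2m` has rank 3 and permutation character `1 + χ₁ + χ₂` with irreducible `χ₁, χ₂` of degrees `m - 1` and `m`, then `m = 2a² + 2a + 1` for some positive integer `a` and the two non-trivial subdegrees are `a(2a+1)` and `(a+1)(2a+1)`. -/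
theorem result {G : Type*} [Group G] [Fintype G] {Ω : Type*} [Fintype Ω] [MulAction G Ω] (hprim : MulAction.IsPreprimitive G Ω) {m : ℕ} (hm : Fintype.card Ω = 2 * m) (a₀ : Ω) (hrank : Nat.card (MulAction.orbitRel.Quotient (MulAction.stabilizer G a₀) Ω) = 3) (χ₁ χ₂ : G → ℂ) (h₁ : Cfsg.IsIrrCharacter G χ₁) (h₂ : Cfsg.IsIrrCharacter G χ₂) (hπ : (fun g : G => (Nat.card (MulAction.fixedBy Ω g) : ℂ)) = fun g => 1 + χ₁ g + χ₂ g) (hd₁ : χ₁ 1 = (m : ℂ) - 1) (hd₂ : χ₂ 1 = m) : ∃ a : ℕ, 0 < a ∧ m = 2 * a ^ 2 + 2 * a + 1 ∧ ∀ b : Ω, b ≠ a₀ → Nat.card (MulAction.orbit (MulAction.stabilizer G a₀) b) = a * (2 * a + 1) ∨ Nat.card (MulAction.orbit (MulAction.stabilizer G a₀) b) = (a + 1) * (2 * a + 1) := by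
  classical
  haveI := hprim.toIsPretransitive
  haveI : Nonempty Ω := ⟨a₀⟩
  haveI : Nontrivial Ω := by
    rw [← Fintype.one_lt_card_iff_nontrivial]
    have h1 : 1 ≤ Fintype.card Ω := Fintype.card_pos
    omega
  let Q := MulAction.orbitRel.Quotient (MulAction.stabilizer G a₀) Ω
  haveI : Fintype Q := Fintype.ofFinite _
  let q₀ : Q := Quotient.mk'' a₀
  have hQ : Fintype.card Q = 3 := by rw [← Nat.card_eq_fintype_card]; exact hrank
  obtain ⟨q₁, q₂, h12, hq12⟩ := Finset.card_eq_two.1 (show (Finset.univ.erase q₀).card = 2 by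
    rw [Finset.card_erase_of_mem (Finset.mem_univ _), Finset.card_univ, hQ])
  have hq10 : q₁ ≠ q₀ := Finset.ne_of_mem_erase (s := Finset.univ) (by simp [hq12])
  have hq20 : q₂ ≠ q₀ := Finset.ne_of_mem_erase (s := Finset.univ) (by simp [hq12])
  obtain ⟨b₁, rfl⟩ := Quotient.exists_rep q₁
  obtain ⟨b₂, rfl⟩ := Quotient.exists_rep q₂
  let orb : Ω → Set Ω := fun x => MulAction.orbit (MulAction.stabilizer G a₀) x
  have hmk : ∀ x y : Ω, (Quotient.mk'' x : Q) = Quotient.mk'' y → orb x = orb y := by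
    intro x y h
    exact MulAction.orbit_eq_iff.2 (Quotient.eq''.1 h)
  have hb10 : b₁ ≠ a₀ := fun h => hq10 (by rw [h])
  have hb20 : b₂ ≠ a₀ := fun h => hq20 (by rw [h])
  have horb0 : ∀ y, y ∈ orb a₀ → y = a₀ := by
    rintro _ ⟨g, rfl⟩; exact g.2
  have hcover : ∀ x : Ω, x = a₀ ∨ orb x = orb b₁ ∨ orb x = orb b₂ := by
    intro x
    by_cases hx : (Quotient.mk'' x : Q) = q₀
    · exact Or.inl (horb0 x (hmk x a₀ hx ▸ MulAction.mem_orbit_self x))
    have : (Quotient.mk'' x : Q) ∈ Finset.univ.erase q₀ := Finset.mem_erase.2 ⟨hx, Finset.mem_univ _⟩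
    rw [hq12, Finset.mem_insert, Finset.mem_singleton] at this
    rcases this with h | h
    · exact Or.inr (Or.inl (hmk x b₁ h))
    · exact Or.inr (Or.inr (hmk x b₂ h))
  have hdisj : ∀ x, x ∈ orb b₁ → x ∉ orb b₂ := by
    intro x h1 h2
    apply h12
    show (Quotient.mk'' b₁ : Q) = Quotient.mk'' b₂
    have := (MulAction.orbit_eq_iff.2 h1).symm.trans (MulAction.orbit_eq_iff.2 h2)
    exact Quotient.eq''.2 (MulAction.orbit_eq_iff.1 this)
  -- a point stabiliser fixes no other point
  have hfix : ∀ x, x ≠ a₀ → ∀ _h : Nat.card (orb x) = 1, False := by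
    intro x hx h1
    haveI := (Nat.card_eq_one_iff_unique.1 h1).1
    have hfx : ∀ g ∈ MulAction.stabilizer G a₀, g • x = x := fun g hg =>
      congrArg Subtype.val (Subsingleton.elim (⟨g • x, ⟨⟨g, hg⟩, rfl⟩⟩ : orb x) ⟨x, MulAction.mem_orbit_self x⟩)
    obtain ⟨g, hg⟩ := MulAction.exists_smul_eq G a₀ x
    have hle : MulAction.stabilizer G a₀ ≤ MulAction.stabilizer G x := fun u hu => hfx u hu
    have heq : MulAction.stabilizer G a₀ = MulAction.stabilizer G x := Subgroup.eq_of_le_of_card_ge hle (by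
      rw [← hg, MulAction.stabilizer_smul_eq_stabilizer_map_conj]
      exact le_of_eq (Subgroup.card_map_of_injective (MulAut.conj g).injective))
    have hnorm : g ∈ Subgroup.normalizer (MulAction.stabilizer G a₀ : Set G) := by
      rw [Subgroup.mem_normalizer_iff]
      intro u
      rw [MulAction.mem_stabilizer_iff]
      conv_rhs => rw [heq, MulAction.mem_stabilizer_iff, mul_smul, mul_smul, ← hg, inv_smul_smul, smul_left_cancel_iff]
    have htop : Subgroup.normalizer (MulAction.stabilizer G a₀ : Set G) = ⊤ :=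
      (MulAction.IsPreprimitive.isCoatom_stabilizer_of_isPreprimitive G a₀).2 _ (lt_of_le_of_ne Subgroup.le_normalizer
        (fun e => hx (by rw [← hg]; exact (e ▸ hnorm : g ∈ MulAction.stabilizer G a₀))))
    have hall : ∀ y : Ω, orb y = {y} := by
      intro y
      obtain ⟨w, rfl⟩ := MulAction.exists_smul_eq G a₀ y
      ext z
      refine ⟨?_, fun h => h ▸ MulAction.mem_orbit_self _⟩
      rintro ⟨u, rfl⟩
      have hw : w⁻¹ ∈ Subgroup.normalizer (MulAction.stabilizer G a₀ : Set G) := htop ▸ Subgroup.mem_top _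
      have h2 := (Subgroup.mem_normalizer_iff.1 hw (u : G)).1 u.2
      rw [inv_inv] at h2
      show (u : G) • w • a₀ = w • a₀
      have h3 : (w⁻¹ * (u : G) * w) • a₀ = a₀ := h2
      rw [mul_smul, mul_smul, inv_smul_eq_iff] at h3
      exact h3
    have hinj : Function.Injective (fun y : Ω => (Quotient.mk'' y : Q)) := fun y z h => by
      have := hmk y z h
      rw [hall, hall] at this
      exact Set.singleton_eq_singleton_iff.1 this
    have hle3 := Fintype.card_le_of_injective _ hinj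
    rw [hQ, hm] at hle3
    have hb12 : b₁ ≠ b₂ := fun h => h12 (by rw [h])
    have : 3 ≤ Fintype.card Ω := by
      rw [← Finset.card_univ]
      refine le_trans (le_of_eq ?_) (Finset.card_le_univ ({a₀, b₁, b₂} : Finset Ω))
      rw [Finset.card_insert_of_notMem (by simp [Ne.symm hb10, Ne.symm hb20]), Finset.card_pair hb12]
    omega
  let k : ℕ := Nat.card (orb b₁)
  let l : ℕ := Nat.card (orb b₂)
  have hkl : k + l + 1 = 2 * m := by
    have hu : (Finset.univ : Finset Ω) = insert a₀ ((orb b₁).toFinset ∪ (orb b₂).toFinset) := by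
      ext x
      simp only [Finset.mem_univ, Finset.mem_insert, Finset.mem_union, Set.mem_toFinset, true_iff]
      rcases hcover x with h | h | h
      · exact Or.inl h
      · exact Or.inr (Or.inl (h ▸ MulAction.mem_orbit_self x))
      · exact Or.inr (Or.inr (h ▸ MulAction.mem_orbit_self x))
    have h0 : ∀ b, b ≠ a₀ → a₀ ∉ orb b := by
      rintro b hb ⟨g, hg⟩
      have e : (g : G) • b = (g : G) • a₀ := (show (g : G) • b = a₀ from hg).trans g.2.symm
      exact hb (MulAction.injective (g : G) e)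
    rw [← hm, ← Finset.card_univ, hu, Finset.card_insert_of_notMem (by simp [h0 b₁ hb10, h0 b₂ hb20]),
      Finset.card_union_of_disjoint (Finset.disjoint_left.2 fun x h1 h2 => hdisj x (Set.mem_toFinset.1 h1) (Set.mem_toFinset.1 h2))]
    simp only [k, l, Nat.card_eq_card_toFinset]
  have hk2 : 2 ≤ k := by
    haveI : Nonempty (orb b₁) := ⟨⟨b₁, MulAction.mem_orbit_self b₁⟩⟩
    have h1 : 0 < k := Nat.card_pos
    have h2 : k ≠ 1 := fun h => hfix b₁ hb10 h
    omega
  have hl2 : 2 ≤ l := by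
    haveI : Nonempty (orb b₂) := ⟨⟨b₂, MulAction.mem_orbit_self b₂⟩⟩
    have h1 : 0 < l := Nat.card_pos
    have h2 : l ≠ 1 := fun h => hfix b₂ hb20 h
    omega
  have hm3 : 3 ≤ m := by omega
  -- the orbital
  let a := a₀
  let R : Set (Ω × Ω) := MulAction.orbit G ((a, b₁) : Ω × Ω)
  have hRinv : ∀ (g : G) (x y : Ω), (g • x, g • y) ∈ R ↔ (x, y) ∈ R := by
    intro g x y
    rw [MulAction.mem_orbit_iff, MulAction.mem_orbit_iff]
    constructor
    · rintro ⟨t, ht⟩
      exact ⟨g⁻¹ * t, by rw [mul_smul, ht, Prod.smul_mk, inv_smul_smul, inv_smul_smul]⟩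
    · rintro ⟨t, ht⟩
      exact ⟨g * t, by rw [mul_smul, ht, Prod.smul_mk]⟩
  have hRa : ∀ y, (a, y) ∈ R ↔ y ∈ orb b₁ := by
    intro y
    constructor
    · rintro ⟨g, hg⟩
      exact ⟨⟨g, congrArg Prod.fst hg⟩, congrArg Prod.snd hg⟩
    · rintro ⟨g, rfl⟩
      exact ⟨g, Prod.ext g.2 rfl⟩
  have hdiag : ∀ x, (x, x) ∉ R := by
    rintro x ⟨g, hg⟩
    exact hb10 (MulAction.injective g ((congrArg Prod.fst hg).trans (congrArg Prod.snd hg).symm)).symm
  have hrow : ∀ x : Ω, (Finset.univ.filter fun y => (x, y) ∈ R).card = k := by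
    intro x
    obtain ⟨g, rfl⟩ := MulAction.exists_smul_eq G a x
    rw [show k = (Finset.univ.filter fun y => (a, y) ∈ R).card by
      rw [show (Finset.univ.filter fun y => (a, y) ∈ R) = (orb b₁).toFinset by ext y; simp [hRa]]
      exact (Nat.card_eq_card_toFinset _)]
    refine Finset.card_bij' (fun y _ => g⁻¹ • y) (fun y _ => g • y) ?_ ?_ ?_ ?_
    · intro y hy
      simp only [Finset.mem_filter, Finset.mem_univ, true_and] at hy ⊢
      rwa [← hRinv g, smul_inv_smul]
    · intro y hy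
      simp only [Finset.mem_filter, Finset.mem_univ, true_and] at hy ⊢
      rwa [hRinv g]
    · intro y _; exact smul_inv_smul g y
    · intro y _; exact inv_smul_smul g y
  have hsymm : ∀ x y, (x, y) ∈ R → (y, x) ∈ R := by
    intro x y hxy
    suffices h : (b₁, a) ∈ R by
      obtain ⟨g, hg⟩ := hxy
      have e1 : g • a = x := congrArg Prod.fst hg
      have e2 : g • b₁ = y := congrArg Prod.snd hg
      rw [← e1, ← e2, hRinv]
      exact h
    by_contra h
    obtain ⟨g, hg⟩ := MulAction.exists_smul_eq G b₁ a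
    have hy0 : g • a ≠ a := fun e => hb10 (MulAction.injective g (hg.trans e.symm))
    have hyR : g • a ∉ orb b₁ := fun hc => h (by
      rw [← hRa, ← hg, hRinv, hg] at hc; exact hc)
    have hy2 : orb (g • a) = orb b₂ := by
      rcases hcover (g • a) with e | e | e
      · exact absurd e hy0
      · exact absurd (e ▸ MulAction.mem_orbit_self _) hyR
      · exact e
    -- then the two subdegrees are equal
    have hcount : ∑ x : Ω, (Finset.univ.filter fun y => (x, y) ∈ R).card
        = ∑ y : Ω, (Finset.univ.filter fun x => (x, y) ∈ R).card := by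
      simp only [Finset.card_filter]
      exact Finset.sum_comm
    have hcol : ∀ y : Ω, (Finset.univ.filter fun x => (x, y) ∈ R).card = l := by
      intro y
      obtain ⟨w, rfl⟩ := MulAction.exists_smul_eq G a y
      rw [show l = (orb b₂).toFinset.card from Nat.card_eq_card_toFinset _]
      refine Finset.card_bij' (fun z _ => w⁻¹ • z) (fun z _ => w • z) ?_ ?_ ?_ ?_
      · intro z hz
        simp only [Finset.mem_filter, Finset.mem_univ, true_and] at hz
        rw [Set.mem_toFinset, ← hy2]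
        obtain ⟨t, ht⟩ := hz
        have e1 : t • a = z := congrArg Prod.fst ht
        have e2 : t • b₁ = w • a := congrArg Prod.snd ht
        refine ⟨⟨w⁻¹ * t * g⁻¹, ?_⟩, ?_⟩
        · show (w⁻¹ * t * g⁻¹) • a = a
          rw [← hg, mul_smul, inv_smul_smul, mul_smul, e2, inv_smul_smul, hg]
        · show (w⁻¹ * t * g⁻¹) • g • a = w⁻¹ • z
          rw [mul_smul, inv_smul_smul, mul_smul, e1]
      · intro z hz
        simp only [Finset.mem_filter, Finset.mem_univ, true_and]
        rw [Set.mem_toFinset, ← hy2] at hz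
        obtain ⟨u, rfl⟩ := hz
        rw [hRinv]
        refine ⟨(u : G) * g, ?_⟩
        show ((u : G) * g) • ((a, b₁) : Ω × Ω) = _
        rw [Prod.smul_mk, mul_smul, mul_smul, hg, (u.2 : (u : G) • a = a)]
        rfl
      · intro z _; exact smul_inv_smul w z
      · intro z _; exact inv_smul_smul w z
    simp only [hrow, hcol, Finset.sum_const, smul_eq_mul, Finset.card_univ, hm] at hcount
    have := Nat.eq_of_mul_eq_mul_left (by omega) hcount
    omega
  let M : Matrix Ω Ω ℤ := Matrix.of fun x y => if (x, y) ∈ R then 1 else 0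
  let S : (Ω → ℂ) →ₗ[ℂ] (Ω → ℂ) := Matrix.toLin' (M.map (Int.cast : ℤ → ℂ))
  have hSv : ∀ v x, S v x = ∑ y, (if (x, y) ∈ R then (1 : ℂ) else 0) * v y := by
    intro v x
    simp only [S, Matrix.toLin'_apply, Matrix.mulVec, dotProduct, Matrix.map_apply, M, Matrix.of_apply]
    refine Finset.sum_congr rfl fun y _ => ?_
    split_ifs <;> simp
  have hS : CfsgLib.Perm.PermChar.Comm G S := by
    intro g v
    funext x
    show S (fun z => v (g⁻¹ • z)) x = S v (g⁻¹ • x)
    rw [hSv, hSv]
    exact Fintype.sum_equiv (MulAction.toPerm g⁻¹) _ _ fun y => by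
      simp only [MulAction.toPerm_apply]
      rw [if_congr (hRinv g⁻¹ x y).symm rfl rfl]
  have htr : LinearMap.trace ℂ (Ω → ℂ) S = 0 := by
    rw [Matrix.trace_toLin'_eq]
    refine Finset.sum_eq_zero fun x _ => ?_
    simp [M, hdiag x]
  -- intersection numbers
  let cnt : Ω → Ω → ℕ := fun x y => (Finset.univ.filter fun z => (x, z) ∈ R ∧ (z, y) ∈ R).card
  have hcnt : ∀ (g : G) x y, cnt (g • x) (g • y) = cnt x y := by
    intro g x y
    refine Finset.card_bij' (fun z _ => g⁻¹ • z) (fun z _ => g • z) ?_ ?_ ?_ ?_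
    · intro z hz
      simp only [Finset.mem_filter, Finset.mem_univ, true_and] at hz ⊢
      rw [← hRinv g x, ← hRinv g _ y, smul_inv_smul]; exact hz
    · intro z hz
      simp only [Finset.mem_filter, Finset.mem_univ, true_and] at hz ⊢
      rw [hRinv g, hRinv g]; exact hz
    · intro z _; exact smul_inv_smul g z
    · intro z _; exact inv_smul_smul g z
  let p₁ := cnt a b₁
  let p₂ := cnt a b₂
  have hcnteq : ∀ x y, (cnt x y : ℂ) = ((k : ℂ) - p₂) * (if x = y then 1 else 0)
      + ((p₁ : ℂ) - p₂) * (if (x, y) ∈ R then 1 else 0) + p₂ := by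
    intro x y
    by_cases hxy : x = y
    · subst hxy
      have : cnt x x = k := by
        rw [← hrow x]
        exact congrArg Finset.card (Finset.filter_congr fun z _ => ⟨fun h => h.1, fun h => ⟨h, hsymm _ _ h⟩⟩)
      simp [this, hdiag x]
    obtain ⟨g, rfl⟩ := MulAction.exists_smul_eq G a x
    obtain ⟨z, rfl⟩ : ∃ z, g • z = y := ⟨g⁻¹ • y, smul_inv_smul g y⟩
    rw [hcnt, if_neg hxy, if_congr (hRinv g a z) rfl rfl, if_congr (hRa z) rfl rfl]
    rcases hcover z with e | e | e
    · exact absurd (by rw [e]) hxy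
    · have hz : z ∈ orb b₁ := e ▸ MulAction.mem_orbit_self z
      obtain ⟨u, hu⟩ := id hz
      have : cnt a z = p₁ := by
        have h := hcnt (u : G) a b₁
        rw [(u.2 : (u : G) • a = a), (show (u : G) • b₁ = z from hu)] at h
        exact h
      simp [this, hz]
    · have hz : z ∈ orb b₂ := e ▸ MulAction.mem_orbit_self z
      have hz1 : z ∉ orb b₁ := fun h => hdisj z h hz
      obtain ⟨u, hu⟩ := id hz
      have : cnt a z = p₂ := by
        have h := hcnt (u : G) a b₂
        rw [(u.2 : (u : G) • a = a), (show (u : G) • b₂ = z from hu)] at h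
        exact h
      simp [this, hz1]
  have hSS : ∀ v x, S (S v) x = ((k : ℂ) - p₂) * v x + ((p₁ : ℂ) - p₂) * S v x + p₂ * ∑ y, v y := by
    intro v x
    rw [hSv (S v) x]
    simp only [hSv v, Finset.mul_sum]
    rw [Finset.sum_comm]
    have h1 : ∀ y, ∑ z, (if (x, z) ∈ R then (1 : ℂ) else 0) * ((if (z, y) ∈ R then (1 : ℂ) else 0) * v y)
        = (cnt x y : ℂ) * v y := fun y => by
      simp only [cnt, ← Finset.sum_boole, Finset.sum_mul]
      refine Finset.sum_congr rfl fun z _ => ?_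
      rw [← mul_assoc, ite_zero_mul_ite_zero, one_mul]
    simp only [h1, hcnteq, add_mul, Finset.sum_add_distrib]
    congr 1
    congr 1
    · simp [mul_assoc]
    · exact Finset.sum_congr rfl fun y _ => by ring
  let one : Ω → ℂ := fun _ => 1
  have hone : S one = (k : ℂ) • one := by
    funext x
    rw [hSv]
    simp only [one, mul_one, Finset.sum_boole, hrow, Pi.smul_apply, smul_eq_mul]
  have hrowC : (k : ℂ) * k = ((k : ℂ) - p₂) + ((p₁ : ℂ) - p₂) * k + p₂ * (2 * m) := by
    have := hSS one a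
    rw [hone, map_smul, hone] at this
    simpa [one, hm] using this
  -- constituents
  let U : ℂ → Subrepresentation (Cfsg.permRep ℂ G Ω) := fun μ => CfsgLib.Perm.PermChar.genSpace hS μ
  let e₀ : Cfsg.IrrCharacter G := ⟨fun _ => 1, CfsgLib.Char.isIrr_one⟩
  let e₁ : Cfsg.IrrCharacter G := ⟨χ₁, h₁⟩
  let e₂ : Cfsg.IrrCharacter G := ⟨χ₂, h₂⟩
  have hne01 : e₀ ≠ e₁ := fun h => by
    have := congrFun (congrArg Subtype.val h) 1
    simp only [e₀, e₁, hd₁] at this
    have h2 : (m : ℂ) = ((2 : ℕ) : ℂ) := by push_cast; linear_combination -this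
    have : m = 2 := by exact_mod_cast h2
    omega
  have hne02 : e₀ ≠ e₂ := fun h => by
    have := congrFun (congrArg Subtype.val h) 1
    simp only [e₀, e₂, hd₂] at this
    have h2 : (m : ℂ) = ((1 : ℕ) : ℂ) := by push_cast; linear_combination -this
    have : m = 1 := by exact_mod_cast h2
    omega
  have hne12 : e₁ ≠ e₂ := fun h => by
    have := congrFun (congrArg Subtype.val h) 1
    simp only [e₁, e₂, hd₁, hd₂] at this
    exact one_ne_zero (α := ℂ) (by linear_combination -this)
  have hinner : ∀ χ : Cfsg.IrrCharacter G, Cfsg.classInner (Cfsg.permRep ℂ G Ω).character (χ : G → ℂ)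
      = (if e₀ = χ then 1 else 0) + (if e₁ = χ then 1 else 0) + (if e₂ = χ then 1 else 0) := by
    intro χ
    rw [CfsgLib.Perm.PermChar.perm_char, hπ,
      show (fun g => 1 + χ₁ g + χ₂ g) = (e₀ : G → ℂ) + (e₁ : G → ℂ) + (e₂ : G → ℂ) from rfl,
      CfsgLib.Char.classInner_add_left, CfsgLib.Char.classInner_add_left,
      CfsgLib.Char.irrChar_inner, CfsgLib.Char.irrChar_inner, CfsgLib.Char.irrChar_inner]
  have hdim : ∀ μ : ℂ, ∃ d₁ d₂ : ℕ, d₁ ≤ 1 ∧ d₂ ≤ 1 ∧ (Module.finrank ℂ (U μ).toSubmodule : ℂ)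
      = (if μ = k then 1 else 0) + (d₁ : ℂ) * ((m : ℂ) - 1) + (d₂ : ℂ) * m := by
    intro μ
    set ψ := (U μ).toRepresentation.character with hψdef
    let χ₁' : Cfsg.IrrCharacter G := e₀
    have htriv : Cfsg.classInner ψ (fun _ => (1 : ℂ)) = if μ = k then 1 else 0 := by
      obtain ⟨c, d, hc, hd, hcd⟩ := CfsgLib.Perm.PermChar.inner_sub_le (Cfsg.permRep ℂ G Ω) (U μ) χ₁'
      have hd1 : d = 1 := by
        have := hd.symm.trans CfsgLib.Perm.PermChar.inner_perm_one_transitive
        exact_mod_cast this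
      have he := CfsgLib.Char.inner_eq_finrank (Representation.trivial ℂ G ℂ) (U μ).toRepresentation
      have hch : (Representation.trivial ℂ G ℂ).character = fun _ => (1 : ℂ) := by
        funext g
        rw [Representation.character]
        simp [Representation.trivial_apply, show (Representation.trivial ℂ G ℂ) g = LinearMap.id from rfl]
      rw [hch] at he
      split_ifs with hμ
      · have hmem : one ∈ (U μ).toSubmodule := by
          show one ∈ Module.End.maxGenEigenspace S μ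
          rw [Module.End.mem_maxGenEigenspace]
          exact ⟨1, by simp [hone, hμ]⟩
        let φ : (Representation.trivial ℂ G ℂ).IntertwiningMap (U μ).toRepresentation :=
          (LinearMap.toSpanSingleton ℂ (U μ).toSubmodule ⟨one, hmem⟩).intertwiningMap_of_isIntertwiningMap
            _ _ fun g v => Subtype.ext (funext fun x => by
              simp [one, LinearMap.toSpanSingleton_apply, Subrepresentation.toRepresentation]
              exact (mul_one v).symm)
        have hφ : φ ≠ 0 := by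
          intro h
          have := congrArg Subtype.val (congrFun (congrArg DFunLike.coe h) (1 : ℂ))
          have h2 := congrFun this a
          simp [φ, one, LinearMap.toSpanSingleton_apply] at h2
        haveI : Nontrivial ((Representation.trivial ℂ G ℂ).IntertwiningMap (U μ).toRepresentation) :=
          ⟨φ, 0, hφ⟩
        have hc1 : c ≤ 1 := hd1 ▸ hcd
        have hpos : 1 ≤ c := by
          have h2 : (c : ℂ) = _ := hc.symm.trans he
          have h3 : c = Module.finrank ℂ ((Representation.trivial ℂ G ℂ).IntertwiningMap (U μ).toRepresentation) := by exact_mod_cast h2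
          rw [h3]; exact Module.finrank_pos (R := ℂ) (M := (Representation.trivial ℂ G ℂ).IntertwiningMap (U μ).toRepresentation)
        rw [show ψ = (U μ).toRepresentation.character from rfl]
        exact hc.trans (by rw [show c = 1 by omega, Nat.cast_one])
      · haveI : Subsingleton ((Representation.trivial ℂ G ℂ).IntertwiningMap (U μ).toRepresentation) := by
          refine ⟨fun φ₁ φ₂ => ?_⟩
          suffices key : ∀ φ : (Representation.trivial ℂ G ℂ).IntertwiningMap (U μ).toRepresentation,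
              φ = 0 by rw [key φ₁, key φ₂]
          intro φ
          apply Representation.IntertwiningMap.ext
          apply LinearMap.ext_ring
          apply Subtype.ext
          show ((φ (1 : ℂ) : (U μ).toSubmodule) : Ω → ℂ) = 0
          set v : Ω → ℂ := ((φ (1 : ℂ) : (U μ).toSubmodule) : Ω → ℂ) with hv
          have hinv : ∀ g : G, Cfsg.permRep ℂ G Ω g v = v := fun g => by
            have h1 := Representation.IntertwiningMap.isIntertwining _ _ φ g (1 : ℂ)
            have h2 : ((Representation.trivial ℂ G ℂ) g) (1 : ℂ) = 1 := rfl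
            rw [h2] at h1
            exact (congrArg Subtype.val h1).symm
          have hvc : v = v a • one := by
            funext x
            obtain ⟨g, rfl⟩ := MulAction.exists_smul_eq G a x
            have := congrFun (hinv g) (g • a)
            rw [show Cfsg.permRep ℂ G Ω g v (g • a) = v (g⁻¹ • g • a) from rfl, inv_smul_smul] at this
            simp [one, ← this]
          have hvk : v ∈ Module.End.maxGenEigenspace S (k : ℂ) := by
            rw [hvc]
            refine Submodule.smul_mem _ _ ?_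
            rw [Module.End.mem_maxGenEigenspace]
            exact ⟨1, by simp [hone]⟩
          have hvμ : v ∈ Module.End.maxGenEigenspace S μ := (φ (1 : ℂ)).2
          exact (Submodule.disjoint_def.1
            ((Module.End.independent_maxGenEigenspace S).pairwiseDisjoint hμ)) v hvμ hvk
        rw [hψdef, he, Module.finrank_zero_of_subsingleton, Nat.cast_zero]
    obtain ⟨d₁, f₁, hd1', hf1, hle1⟩ := CfsgLib.Perm.PermChar.inner_sub_le (Cfsg.permRep ℂ G Ω) (U μ) e₁
    obtain ⟨d₂, f₂, hd2', hf2, hle2⟩ := CfsgLib.Perm.PermChar.inner_sub_le (Cfsg.permRep ℂ G Ω) (U μ) e₂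
    rw [hinner] at hf1 hf2
    simp only [hne01, hne12, hne02, Ne.symm hne12, if_true, if_false, zero_add, add_zero] at hf1 hf2
    have hf1' : f₁ = 1 := by exact_mod_cast hf1.symm
    have hf2' : f₂ = 1 := by exact_mod_cast hf2.symm
    refine ⟨d₁, d₂, hf1' ▸ hle1, hf2' ▸ hle2, ?_⟩
    rw [CfsgLib.Perm.PermChar.finrank_eq_sum (U μ).toRepresentation,
      ← Finset.sum_subset (Finset.subset_univ ({e₀, e₁, e₂} : Finset (Cfsg.IrrCharacter G)))]
    · rw [Finset.sum_insert (by simp [hne01, hne02]), Finset.sum_pair hne12, ← hψdef]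
      rw [show Cfsg.classInner ψ (e₁ : G → ℂ) = (d₁ : ℂ) from hd1',
        show Cfsg.classInner ψ (e₂ : G → ℂ) = (d₂ : ℂ) from hd2',
        show Cfsg.classInner ψ (e₀ : G → ℂ) = _ from htriv]
      simp only [e₀, e₁, e₂, hd₁, hd₂, mul_one]
      ring
    · intro χ _ hχ
      simp only [Finset.mem_insert, Finset.mem_singleton, not_or] at hχ
      obtain ⟨c, d, hc, hd, hcd⟩ := CfsgLib.Perm.PermChar.inner_sub_le (Cfsg.permRep ℂ G Ω) (U μ) χ
      rw [hinner, if_neg (Ne.symm hχ.1), if_neg (Ne.symm hχ.2.1), if_neg (Ne.symm hχ.2.2)] at hd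
      have : d = 0 := by
        have : ((d : ℕ) : ℂ) = 0 := by rw [← hd]; norm_num
        exact_mod_cast this
      rw [hc, show c = 0 by omega]; simp
  choose d₁ d₂ hd₁le hd₂le hdimU using hdim
  have hint : DirectSum.IsInternal (fun μ : ℂ => Module.End.maxGenEigenspace S μ) :=
    DirectSum.isInternal_submodule_of_iSupIndep_of_iSup_eq_top
      (Module.End.independent_maxGenEigenspace S) (Module.End.iSup_maxGenEigenspace_eq_top S)
  have hfin : {μ : ℂ | Module.End.maxGenEigenspace S μ ≠ ⊥}.Finite :=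
    WellFoundedGT.finite_ne_bot_of_iSupIndep (Module.End.independent_maxGenEigenspace S)
  have hmaps : ∀ μ : ℂ, Set.MapsTo S (Module.End.maxGenEigenspace S μ : Set (Ω → ℂ))
      (Module.End.maxGenEigenspace S μ) := fun μ =>
    Module.End.mapsTo_maxGenEigenspace_of_comm (Commute.refl S) μ
  have hterm : ∀ μ : ℂ, LinearMap.trace ℂ _ (S.restrict (hmaps μ))
      = μ * (Module.finrank ℂ (U μ).toSubmodule : ℂ) := by
    intro μ
    have hn := Module.End.isNilpotent_restrict_maxGenEigenspace_sub_algebraMap S μ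
    have h0 := (LinearMap.isNilpotent_trace_of_isNilpotent hn).eq_zero
    have hd : S.restrict (hmaps μ) = LinearMap.restrict (S - algebraMap ℂ (Module.End ℂ (Ω → ℂ)) μ)
        (Module.End.mapsTo_maxGenEigenspace_of_comm (Algebra.mul_sub_algebraMap_commutes S μ) μ)
          + μ • LinearMap.id := LinearMap.ext fun v => Subtype.ext (by
      show S (v : Ω → ℂ) = (S (v : Ω → ℂ) - μ • (v : Ω → ℂ)) + μ • (v : Ω → ℂ)
      rw [sub_add_cancel])
    rw [hd, map_add, h0, map_smul, LinearMap.trace_id, zero_add, smul_eq_mul]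
    rfl
  have htr2 := LinearMap.trace_eq_sum_trace_restrict' hint hfin hmaps
  rw [htr] at htr2
  simp only [hterm, hdimU] at htr2
  have hdim2 := LinearMap.trace_eq_sum_trace_restrict' hint hfin
    (f := (LinearMap.id : (Ω → ℂ) →ₗ[ℂ] (Ω → ℂ))) (fun _ _ h => h)
  have hid : ∀ μ : ℂ, LinearMap.trace ℂ _ ((LinearMap.id : (Ω → ℂ) →ₗ[ℂ] (Ω → ℂ)).restrict
      (p := Module.End.maxGenEigenspace S μ) (q := Module.End.maxGenEigenspace S μ) (fun _ h => h))
      = (Module.finrank ℂ (U μ).toSubmodule : ℂ) := fun μ => by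
    rw [show (LinearMap.id : (Ω → ℂ) →ₗ[ℂ] (Ω → ℂ)).restrict
      (p := Module.End.maxGenEigenspace S μ) (q := Module.End.maxGenEigenspace S μ) (fun _ h => h)
        = LinearMap.id from rfl, LinearMap.trace_id]
    rfl
  rw [LinearMap.trace_id, Module.finrank_fintype_fun_eq_card, hm] at hdim2
  simp only [hid, hdimU] at hdim2
  set T := hfin.toFinset with hT
  have hkmem : (k : ℂ) ∈ T := by
    rw [hT, Set.Finite.mem_toFinset]
    show Module.End.maxGenEigenspace S (k : ℂ) ≠ ⊥
    refine (Submodule.ne_bot_iff _).2 ⟨one, ?_, fun h => one_ne_zero (congrFun h a)⟩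
    rw [Module.End.mem_maxGenEigenspace]
    exact ⟨1, by simp [hone]⟩
  simp only [Finset.sum_add_distrib, mul_add, mul_ite, mul_one, mul_zero, Finset.sum_ite_eq', hkmem, if_true] at htr2 hdim2
  have hN : (∑ μ ∈ T, d₁ μ) = 1 ∧ (∑ μ ∈ T, d₂ μ) = 1 := by
    obtain ⟨m', rfl⟩ : ∃ m', m = m' + 1 := ⟨m - 1, by omega⟩
    have h1 : ((2 * (m' + 1) : ℕ) : ℂ) = ((1 + (∑ μ ∈ T, d₁ μ) * m' + (∑ μ ∈ T, d₂ μ) * (m' + 1) : ℕ) : ℂ) := by
      rw [hdim2]
      push_cast
      simp only [Finset.sum_mul, add_sub_cancel_right]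
    have h2 : 2 * (m' + 1) = 1 + (∑ μ ∈ T, d₁ μ) * m' + (∑ μ ∈ T, d₂ μ) * (m' + 1) := by exact_mod_cast h1
    generalize (∑ μ ∈ T, d₁ μ) = N₁ at h2
    generalize (∑ μ ∈ T, d₂ μ) = N₂ at h2
    have hN2 : N₂ ≤ 1 := by
      by_contra h
      have : 2 * (m' + 1) ≤ N₂ * (m' + 1) := Nat.mul_le_mul_right _ (by omega)
      omega
    interval_cases N₂
    · exfalso
      have : N₁ ≤ 2 ∨ 3 ≤ N₁ := by omega
      rcases this with h | h
      · have : N₁ * m' ≤ 2 * m' := Nat.mul_le_mul_right _ h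
        omega
      · have : 3 * m' ≤ N₁ * m' := Nat.mul_le_mul_right _ h
        omega
    · refine ⟨?_, rfl⟩
      have h3 : N₁ * m' = 1 * m' := by omega
      exact Nat.eq_of_mul_eq_mul_right (by omega) h3
  obtain ⟨s, hsT, hs⟩ : ∃ s ∈ T, d₁ s = 1 ∧ ∀ μ ∈ T, μ ≠ s → d₁ μ = 0 := by
    obtain ⟨s, hsT, hs⟩ := Finset.exists_ne_zero_of_sum_ne_zero (by rw [hN.1]; exact one_ne_zero : (∑ μ ∈ T, d₁ μ) ≠ 0)
    refine ⟨s, hsT, by have := hd₁le s; omega, fun μ hμ hne => ?_⟩
    have h := Finset.sum_le_sum_of_subset (f := d₁) (show ({μ, s} : Finset ℂ) ⊆ T by simp [Finset.insert_subset_iff, hμ, hsT])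
    rw [hN.1, Finset.sum_pair hne] at h
    omega
  obtain ⟨t, htT, ht⟩ : ∃ t ∈ T, d₂ t = 1 ∧ ∀ μ ∈ T, μ ≠ t → d₂ μ = 0 := by
    obtain ⟨t, htT, ht⟩ := Finset.exists_ne_zero_of_sum_ne_zero (by rw [hN.2]; exact one_ne_zero : (∑ μ ∈ T, d₂ μ) ≠ 0)
    refine ⟨t, htT, by have := hd₂le t; omega, fun μ hμ hne => ?_⟩
    have h := Finset.sum_le_sum_of_subset (f := d₂) (show ({μ, t} : Finset ℂ) ⊆ T by simp [Finset.insert_subset_iff, hμ, htT])
    rw [hN.2, Finset.sum_pair hne] at h
    omega
  have htrC : (k : ℂ) + ((m : ℂ) - 1) * s + m * t = 0 := by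
    rw [Finset.sum_eq_single_of_mem s hsT (fun μ hμ hne => by rw [hs.2 μ hμ hne]; simp),
      Finset.sum_eq_single_of_mem t htT (fun μ hμ hne => by rw [ht.2 μ hμ hne]; simp), hs.1, ht.1] at htr2
    push_cast at htr2
    linear_combination -htr2
  -- eigenvectors orthogonal to the constants
  have heig : ∀ μ, 2 ≤ Module.finrank ℂ (U μ).toSubmodule →
      IsIntegral ℤ μ ∧ μ * μ = ((k : ℂ) - p₂) + ((p₁ : ℂ) - p₂) * μ := by
    intro μ hμ
    let σ : (Ω → ℂ) →ₗ[ℂ] ℂ := ∑ x : Ω, LinearMap.proj x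
    have hσ : ∀ v, σ v = ∑ x, v x := fun v => by simp [σ, LinearMap.sum_apply]
    have hσS : ∀ v, σ (S v) = (k : ℂ) * σ v := by
      intro v
      rw [hσ, hσ, Finset.mul_sum]
      simp only [hSv]
      rw [Finset.sum_comm]
      refine Finset.sum_congr rfl fun y _ => ?_
      rw [← Finset.sum_mul, Finset.sum_boole]
      congr 2
      rw [← hrow y]
      exact congrArg Finset.card (Finset.filter_congr fun z _ => ⟨hsymm _ _, hsymm _ _⟩)
    let W : Submodule ℂ (Ω → ℂ) := Module.End.maxGenEigenspace S μ ⊓ LinearMap.ker σ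
    have hW : W ≠ ⊥ := by
      intro hb
      have hinj : Function.Injective (σ ∘ₗ (Module.End.maxGenEigenspace S μ).subtype) := by
        rw [← LinearMap.ker_eq_bot, Submodule.eq_bot_iff]
        intro v hv
        have : (v : Ω → ℂ) ∈ W := ⟨v.2, hv⟩
        rw [hb, Submodule.mem_bot] at this
        exact Subtype.ext this
      have h1 := LinearMap.finrank_le_finrank_of_injective hinj
      rw [Module.finrank_self] at h1
      have : Module.finrank ℂ (U μ).toSubmodule ≤ 1 := h1
      omega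
    have hWS : ∀ v ∈ W, S v ∈ W := fun v hv => ⟨hmaps μ hv.1, by
      show σ (S v) = 0
      rw [hσS, show σ v = 0 from hv.2, mul_zero]⟩
    haveI : Nontrivial W := Submodule.nontrivial_iff_ne_bot.2 hW
    obtain ⟨ν, hν⟩ := Module.End.exists_eigenvalue (S.restrict hWS)
    obtain ⟨v, hv⟩ := hν.exists_hasEigenvector
    have hv0 : (v : Ω → ℂ) ≠ 0 := fun h => hv.2 (Subtype.ext h)
    have hvS : S (v : Ω → ℂ) = ν • (v : Ω → ℂ) := congrArg Subtype.val hv.apply_eq_smul
    have hνμ : ν = μ := by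
      by_contra hne
      refine hv0 ((Submodule.disjoint_def.1
        ((Module.End.independent_maxGenEigenspace S).pairwiseDisjoint hne)) _ ?_ v.2.1)
      rw [Module.End.mem_maxGenEigenspace]
      exact ⟨1, by simp [hvS]⟩
    subst hνμ
    refine ⟨CfsgLib.Perm.PermChar.isIntegral_eigen M hv0 hvS, ?_⟩
    obtain ⟨x, hx⟩ := Function.ne_iff.1 hv0
    have h1 := hSS (v : Ω → ℂ) x
    rw [hvS, map_smul, hvS, ← hσ, show σ (v : Ω → ℂ) = 0 from v.2.2] at h1
    simp only [Pi.smul_apply, smul_eq_mul, mul_zero, add_zero] at h1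
    have hx' : (v : Ω → ℂ) x ≠ 0 := hx
    refine mul_right_cancel₀ hx' ?_
    linear_combination h1
  have hdims : ∀ μ ∈ T, (d₁ μ = 1 ∨ d₂ μ = 1) → 2 ≤ Module.finrank ℂ (U μ).toSubmodule := by
    intro μ hμ hor
    have h := hdimU μ
    obtain ⟨m', rfl⟩ : ∃ m', m = m' + 1 := ⟨m - 1, by omega⟩
    have h' : Module.finrank ℂ (U μ).toSubmodule = (if μ = k then 1 else 0) + d₁ μ * m' + d₂ μ * (m' + 1) := by
      have : ((Module.finrank ℂ (U μ).toSubmodule : ℕ) : ℂ)
          = (((if μ = k then 1 else 0) + d₁ μ * m' + d₂ μ * (m' + 1) : ℕ) : ℂ) := by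
        rw [h]; push_cast; simp
      exact_mod_cast this
    rcases hor with e | e <;> rw [h', e] <;> omega
  obtain ⟨hsI, hs2⟩ := heig s (hdims s hsT (Or.inl hs.1))
  obtain ⟨htI, ht2⟩ := heig t (hdims t htT (Or.inr ht.1))
  have hst : s ≠ t := by
    intro h
    subst h
    have h1 : (((2 * m - 1 : ℕ) : ℂ)) * (-s) = (k : ℂ) := by
      rw [Nat.cast_sub (by omega)]; push_cast
      linear_combination -htrC
    have hdvd : 2 * m - 1 ∣ k := by
      refine CfsgLib.Char.dvd_of_isIntegral_div (by omega) ?_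
      rw [← h1, mul_div_cancel_left₀ _ (by exact_mod_cast (by omega : 2 * m - 1 ≠ 0))]
      exact hsI.neg
    have := Nat.le_of_dvd (by omega) hdvd
    omega
  have hsum : s + t = (p₁ : ℂ) - p₂ := by
    have : (s - t) * (s + t - ((p₁ : ℂ) - p₂)) = 0 := by linear_combination hs2 - ht2
    exact sub_eq_zero.1 ((mul_eq_zero.1 this).resolve_left (sub_ne_zero.2 hst))
  have hsval : s = (((k : ℤ) + m * ((p₁ : ℤ) - p₂) : ℤ) : ℂ) := by
    push_cast
    linear_combination -htrC + (m : ℂ) * hsum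
  set sz : ℤ := (k : ℤ) + m * ((p₁ : ℤ) - p₂) with hsz
  set tz : ℤ := ((p₁ : ℤ) - p₂) - sz with htz
  have htval : t = (tz : ℂ) := by rw [htz]; push_cast; linear_combination hsum - hsval
  rw [hsval, htval] at htrC hsum
  rw [hsval] at hs2
  obtain ⟨α, hα, hmα, hres⟩ := solve_params m k p₁ p₂ sz tz hm3 hk2 (by omega)
    (by exact_mod_cast htrC) (by exact_mod_cast hrowC) (by exact_mod_cast hsum) (by exact_mod_cast hs2)
  refine ⟨α, hα, hmα, fun b hb => ?_⟩
  have hl : l = 2 * m - 1 - k := by omega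
  show Nat.card (orb b) = _ ∨ Nat.card (orb b) = _
  rcases hcover b with e | e | e
  · exact absurd e hb
  · rw [e]
    rcases hres with ⟨h1, -⟩ | ⟨h1, -⟩
    · exact Or.inl h1
    · exact Or.inr h1
  · rw [e]
    rcases hres with ⟨-, h2⟩ | ⟨-, h2⟩
    · exact Or.inr (hl.trans h2)
    · exact Or.inl (hl.trans h2)

end Cfsg.Agent.S0719
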