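import Cfsg.Statements.S0722

import Mathlib

set_option autoImplicit false
set_option linter.style.haveILetI false
open Cfsg

namespace Cfsg.Agent.S0722
open scoped Pointwise

/-- In a primitive group `H`, with `N` a minimal normal subgroup and `K` a point stabiliser, `K ⊓ N` is maximal among proper `K`-invariant subgroups of `N`. -/
theorem result {α : Type*} [Finite α] (H : Subgroup (Equiv.Perm α)) [MulAction.IsPreprimitive H α] (N : Subgroup H) [N.Normal] (hN : N ≠ ⊥) (hmin : ∀ M : Subgroup H, M.Normal → M ≤ N → M = ⊥ ∨ M = N) (a : α) (X : Subgroup H) (hX : X ≤ N) (hKX : MulAction.stabilizer H a ⊓ N ≤ X) (hinv : MulAction.stabilizer H a ≤ Subgroup.normalizer (X : Set H)) : X = MulAction.stabilizer H a ⊓ N ∨ X = N := by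
  classical
  set S := MulAction.stabilizer H a with hS
  by_cases hsub : ∀ x : α, x = a
  · left
    refine le_antisymm (fun x hx => ⟨?_, hX hx⟩) hKX
    rw [hS]
    exact MulAction.mem_stabilizer_iff.mpr (hsub _)
  haveI : Nontrivial α := by
    push Not at hsub
    obtain ⟨x, hx⟩ := hsub
    exact ⟨⟨x, a, hx⟩⟩
  have hmax := MulAction.IsPreprimitive.isCoatom_stabilizer_of_isPreprimitive (G := H) a
  rw [← hS] at hmax
  rcases eq_or_lt_of_le (le_sup_left : S ≤ S ⊔ X) with h | h
  · left
    refine le_antisymm (fun x hx => ⟨?_, hX hx⟩) hKX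
    rw [h]
    exact Subgroup.mem_sup_right hx
  · right
    refine le_antisymm hX fun u hu => ?_
    have htop : S ⊔ X = ⊤ := hmax.2 _ h
    have hu' : u ∈ S ⊔ X := htop ▸ Subgroup.mem_top u
    rw [← SetLike.mem_coe, Subgroup.coe_mul_of_left_le_normalizer_right S X hinv] at hu'
    obtain ⟨s, hs, x, hx, rfl⟩ := hu'
    have hsN : s ∈ N := by
      have := N.mul_mem hu (N.inv_mem (hX hx))
      simpa using this
    exact X.mul_mem (hKX ⟨hs, hsN⟩) hx

end Cfsg.Agent.S0722
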