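import Cfsg.Statements.S0724

import Mathlib

set_option autoImplicit false
set_option linter.style.haveILetI false
open Cfsg

namespace Cfsg.Agent.S0724

/-- Blichfeldt's Theorem: if a finite set `L` of natural numbers contains the number of fixed points of every non-identity element of a permutation group `G` of degree `n`, then the order of `G` divides `∏ (n - l)` over `l ∈ L`. -/
theorem result {α : Type*} [Fintype α] [DecidableEq α] (G : Subgroup (Equiv.Perm α)) (L : Finset ℕ) (hL : ∀ g ∈ G, g ≠ 1 → Nat.card (MulAction.fixedBy α g) ∈ L) : Nat.card G ∣ ∏ l ∈ L, (Fintype.card α - l) := by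
  classical
  by_cases hn : ∀ l ∈ L, l ≤ Fintype.card α
  swap
  · push Not at hn
    obtain ⟨l, hl, hlt⟩ := hn
    rw [Finset.prod_eq_zero hl (Nat.sub_eq_zero_of_le hlt.le)]
    exact dvd_zero _
  let f : Polynomial ℤ := ∏ l ∈ L, (Polynomial.X - Polynomial.C (l : ℤ))
  have hfix : ∀ (j : ℕ) (g : G), Nat.card (MulAction.fixedBy (Fin j → α) g)
      = Nat.card (MulAction.fixedBy α g) ^ j := by
    intro j g
    have he : MulAction.fixedBy (Fin j → α) g ≃ (Fin j → MulAction.fixedBy α g) :=
      { toFun := fun v i => ⟨v.1 i, congrFun v.2 i⟩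
        invFun := fun v => ⟨fun i => (v i).1, funext fun i => (v i).2⟩
        left_inv := fun v => rfl
        right_inv := fun v => rfl }
    rw [Nat.card_congr he, Nat.card_fun, Nat.card_fin]
  have hpow : ∀ j : ℕ, (Nat.card G : ℤ) ∣ ∑ g : G, (Nat.card (MulAction.fixedBy α g) : ℤ) ^ j := by
    intro j
    have h1 := MulAction.sum_card_fixedBy_eq_card_orbits_mul_card_group G (Fin j → α)
    have h2 : ∑ g : G, Nat.card (MulAction.fixedBy α g) ^ j
        = Nat.card (Quotient (MulAction.orbitRel G (Fin j → α))) * Nat.card G := by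
      rw [Nat.card_eq_fintype_card, Nat.card_eq_fintype_card, ← h1]
      exact Finset.sum_congr rfl fun g _ => by rw [← hfix, Nat.card_eq_fintype_card]
    exact ⟨(Nat.card (Quotient (MulAction.orbitRel G (Fin j → α))) : ℤ),
      by exact_mod_cast h2.trans (mul_comm _ _)⟩
  have hsum : (Nat.card G : ℤ) ∣ ∑ g : G, f.eval (Nat.card (MulAction.fixedBy α g) : ℤ) := by
    simp only [Polynomial.eval_eq_sum_range]
    rw [Finset.sum_comm]
    refine Finset.dvd_sum fun j _ => ?_
    rw [← Finset.mul_sum]
    exact (hpow j).mul_left _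
  rw [Finset.sum_eq_single (1 : G) (fun g _ hg => ?_) (fun h => absurd (Finset.mem_univ _) h)]
    at hsum
  · have h1 : Nat.card (MulAction.fixedBy α (1 : G)) = Fintype.card α := by
      rw [MulAction.fixedBy_one_eq_univ, Nat.card_coe_set_eq, Set.ncard_univ,
        Nat.card_eq_fintype_card]
    rw [h1] at hsum
    simp only [f, Polynomial.eval_prod, Polynomial.eval_sub, Polynomial.eval_X,
      Polynomial.eval_C] at hsum
    have hcast : ∏ l ∈ L, ((Fintype.card α : ℤ) - l) = ((∏ l ∈ L, (Fintype.card α - l) : ℕ) : ℤ) := by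
      push_cast
      exact Finset.prod_congr rfl fun l hl => by rw [Nat.cast_sub (hn l hl)]
    rw [hcast] at hsum
    exact_mod_cast hsum
  · simp only [f, Polynomial.eval_prod]
    refine Finset.prod_eq_zero (hL g g.2 fun h => hg (Subtype.ext h)) ?_
    show Polynomial.eval _ _ = 0
    rw [Polynomial.eval_sub, Polynomial.eval_X, Polynomial.eval_C]
    exact sub_self _

end Cfsg.Agent.S0724
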