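import Cfsg.Statements.S0726

import Mathlib

set_option autoImplicit false
set_option linter.style.haveILetI false
open Cfsg

namespace Cfsg.Agent.S0726

/-- The left and right regular permutation representations of a group are each other's centralisers in the symmetric group: the centraliser of the left regular image is the right regular image, and a transitive subgroup centralising the left regular image is the whole right regular image. -/
theorem result {G : Type*} [Group G] : Subgroup.centralizer ((MulAction.toPermHom G G).range : Set (Equiv.Perm G)) = (MulAction.toPermHom Gᵐᵒᵖ G).range ∧ ∀ H : Subgroup (Equiv.Perm G), H ≤ Subgroup.centralizer ((MulAction.toPermHom G G).range : Set (Equiv.Perm G)) → MulAction.IsPretransitive H G → H = (MulAction.toPermHom Gᵐᵒᵖ G).range := by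
  have key : ∀ c : Equiv.Perm G,
      c ∈ Subgroup.centralizer ((MulAction.toPermHom G G).range : Set (Equiv.Perm G)) →
      ∀ x : G, c x = x * c 1 := by
    intro c hc x
    have := Subgroup.mem_centralizer_iff.mp hc (MulAction.toPermHom G G x) ⟨x, rfl⟩
    have h1 := congrArg (fun e : Equiv.Perm G => e 1) this
    simp only [Equiv.Perm.coe_mul, Function.comp_apply, MulAction.toPermHom_apply,
      MulAction.toPerm_apply, smul_eq_mul, mul_one] at h1
    exact h1.symm
  have heq : Subgroup.centralizer ((MulAction.toPermHom G G).range : Set (Equiv.Perm G))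
      = (MulAction.toPermHom Gᵐᵒᵖ G).range := by
    ext c
    refine ⟨fun hc => ⟨MulOpposite.op (c 1), ?_⟩, ?_⟩
    · ext x
      simp [key c hc x]
    · rintro ⟨a, rfl⟩
      rw [Subgroup.mem_centralizer_iff]
      rintro _ ⟨g, rfl⟩
      ext x
      simp [mul_assoc]
  refine ⟨heq, fun H hH ht => le_antisymm (heq ▸ hH) ?_⟩
  rintro c hc
  rw [← heq] at hc
  obtain ⟨h, hh⟩ := MulAction.exists_smul_eq H (1 : G) (c 1)
  have : (h : Equiv.Perm G) = c := by
    ext x
    rw [key _ (hH h.2) x, key c hc x]
    simp only [Subgroup.smul_def, Equiv.Perm.smul_def] at hh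
    rw [hh]
  exact this ▸ h.2

end Cfsg.Agent.S0726
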