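import Cfsg.Statements.S0727

import Cfsg.Agent.Perm.SharplyThreeComm

set_option autoImplicit false
set_option linter.style.haveILetI false
open Cfsg

namespace Cfsg.Agent.S0727
open CfsgLib.Perm.SharpThree

/-- A sharply triply transitive permutation group of degree `2^f + 1` is isomorphic to the projective general linear group of degree 2 over the field with `2^f` elements. -/
theorem result {α : Type*} [Fintype α] [DecidableEq α] {f : ℕ} (hf : 1 ≤ f) (hα : Fintype.card α = 2 ^ f + 1) (G : Subgroup (Equiv.Perm α)) (h3 : MulAction.IsMultiplyPretransitive G α 3) (hsharp : ∀ x : Fin 3 ↪ α, MulAction.stabilizer G x = ⊥) : ∃ (F : Type) (_ : Field F) (_ : Fintype F), Fintype.card F = 2 ^ f ∧ Nonempty (G ≃* Matrix.ProjGenLinGroup (Fin 2) F) := by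
  classical
  have S : Sharp G := sharp_of h3 hsharp
  have h2f : 2 ≤ 2 ^ f := Nat.le_self_pow (by omega) 2
  obtain ⟨a, b, c, hab, hac, hbc⟩ := Fintype.two_lt_card_iff.1 (show 2 < Fintype.card α by omega)
  have hodd : Odd (Fintype.card α) := by
    rw [hα]
    exact Even.add_one (Nat.even_pow.2 ⟨even_two, by omega⟩)
  obtain ⟨F, iF, iFt, hF, hiso⟩ := S.iso_PGL hab hac hbc (S.comm_of_odd_degree hodd hab hac hbc)
  exact ⟨F, iF, iFt, by omega, hiso⟩

end Cfsg.Agent.S0727
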