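import Cfsg.Statements.S0728

import Cfsg.Agent.Perm.SharplyThree

set_option autoImplicit false
set_option linter.style.haveILetI false
open Cfsg

namespace Cfsg.Agent.S0728
open CfsgLib.Perm.SharpThree

/-- In a sharply triply transitive group of even degree at least 6 (degree `q + 1`, `q` odd), a two-point stabiliser has at most one subgroup of order 3. -/
theorem result {α : Type*} [Fintype α] [DecidableEq α] (heven : Even (Fintype.card α)) (h6 : 6 ≤ Fintype.card α) (G : Subgroup (Equiv.Perm α)) (h3 : MulAction.IsMultiplyPretransitive G α 3) (hsharp : ∀ x : Fin 3 ↪ α, MulAction.stabilizer G x = ⊥) {a b : α} (hab : a ≠ b) (A B : Subgroup G) (hA : A ≤ MulAction.stabilizer G a ⊓ MulAction.stabilizer G b) (hB : B ≤ MulAction.stabilizer G a ⊓ MulAction.stabilizer G b) (hA3 : Nat.card A = 3) (hB3 : Nat.card B = 3) : A = B := by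
  haveI : Fact (Nat.Prime 3) := ⟨Nat.prime_three⟩
  have S : Sharp G := sharp_of h3 hsharp
  have key : ∀ {A B : Subgroup G}, A ≤ MulAction.stabilizer G a ⊓ MulAction.stabilizer G b →
      B ≤ MulAction.stabilizer G a ⊓ MulAction.stabilizer G b → Nat.card A = 3 → Nat.card B = 3 → B ≤ A := by
    intro A B hA hB hA3 hB3 v hv
    obtain ⟨⟨u, huA⟩, hu⟩ := exists_prime_orderOf_dvd_card' (G := A) 3 (by rw [hA3])
    rw [Subgroup.orderOf_mk] at hu
    by_cases hv1 : v = 1
    · rw [hv1]; exact A.one_mem
    have hv3 : orderOf v = 3 := orderOf_eq_prime (by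
      rw [← hB3]
      exact congrArg Subtype.val (pow_card_eq_one' (x := (⟨v, hv⟩ : B)))) hv1
    exact (Subgroup.zpowers_le.2 huA) (S.unique_three hab hu hv3 (hA huA).1 (hA huA).2 (hB hv).1 (hB hv).2)
  exact le_antisymm (key hB hA hB3 hA3) (key hA hB hA3 hB3)

end Cfsg.Agent.S0728
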