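import Cfsg.Statements.S0733

import Mathlib

set_option autoImplicit false
set_option linter.style.haveILetI false
open Cfsg

namespace Cfsg.Agent.S0733
open scoped Pointwise

/-- A permutation group of affine type — generated by the translations of a finite vector space `V` over `ZMod p` together with a group `G₀` of linear automorphisms — is primitive on `V` if and only if `G₀` is irreducible on `V`. -/
theorem result {p : ℕ} [Fact p.Prime] {V : Type*} [AddCommGroup V] [Module (ZMod p) V] [Finite V] [Nontrivial V] (G₀ : Subgroup (V ≃ₗ[ZMod p] V)) (G : Subgroup (Equiv.Perm V)) (hG : ∀ σ : Equiv.Perm V, σ ∈ G ↔ ∃ g ∈ G₀, ∃ b : V, ∀ x : V, σ x = (g : V ≃ₗ[ZMod p] V) x + b) : MulAction.IsPreprimitive G V ↔ ∀ W : Submodule (ZMod p) V, (∀ g ∈ G₀, ∀ v ∈ W, (g : V ≃ₗ[ZMod p] V) v ∈ W) → W = ⊥ ∨ W = ⊤ := by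
  classical
  have hmem : ∀ (g : V ≃ₗ[ZMod p] V), g ∈ G₀ → ∀ b : V, g.toEquiv.trans (Equiv.addRight b) ∈ G :=
    fun g hg b => (hG _).mpr ⟨g, hg, b, fun x => rfl⟩
  haveI htrans : MulAction.IsPretransitive G V := ⟨fun x y =>
    ⟨⟨_, hmem 1 G₀.one_mem (y - x)⟩, add_sub_cancel x y⟩⟩
  constructor
  · intro hprim W hW
    have hblock : MulAction.IsBlock G (W : Set V) := by
      rw [MulAction.isBlock_iff_smul_eq_of_nonempty]
      rintro ⟨σ, hσmem⟩ ⟨y, ⟨w, hw, hwy⟩, hy⟩
      obtain ⟨g, hg, b, hσ⟩ := (hG σ).mp hσmem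
      have hwy' : (g : V ≃ₗ[ZMod p] V) w + b = y := (hσ w).symm.trans hwy
      have hb : b ∈ W := by
        have := W.sub_mem (show y ∈ W from hy) (hW g hg w hw)
        rwa [← hwy', add_sub_cancel_left] at this
      ext z
      constructor
      · rintro ⟨v, hv, rfl⟩
        show σ v ∈ W
        rw [hσ]
        exact W.add_mem (hW g hg v hv) hb
      · intro hz
        refine ⟨(g⁻¹ : V ≃ₗ[ZMod p] V) (z - b), hW _ (G₀.inv_mem hg) _ (W.sub_mem hz hb), ?_⟩
        show σ _ = z
        rw [hσ]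
        show (g * g⁻¹ : V ≃ₗ[ZMod p] V) (z - b) + b = z
        rw [mul_inv_cancel]
        exact sub_add_cancel z b
    rcases hprim.isTrivialBlock_of_isBlock hblock with h | h
    · left
      rw [Submodule.eq_bot_iff]
      exact fun x hx => h hx W.zero_mem
    · exact Or.inr (SetLike.coe_injective (by rw [h, Submodule.top_coe]))
  · intro h
    refine MulAction.IsPreprimitive.of_isTrivialBlock_base (0 : V) fun {B} h0 hB => ?_
    have hstab : ∀ σ : G, (σ : Equiv.Perm V) 0 ∈ B → ∀ x ∈ B, (σ : Equiv.Perm V) x ∈ B := by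
      intro σ hσ x hx
      have h1 : σ • B = B := MulAction.isBlock_iff_smul_eq_of_nonempty.mp hB
        ⟨_, Set.smul_mem_smul_set h0, hσ⟩
      exact h1 ▸ Set.smul_mem_smul_set hx
    have hadd : ∀ x y, x ∈ B → y ∈ B → x + y ∈ B := fun x y hx hy =>
      hstab ⟨_, hmem 1 G₀.one_mem y⟩ (by show (0 : V) + y ∈ B; rwa [zero_add]) x hx
    have hinv : ∀ g ∈ G₀, ∀ v ∈ B, (g : V ≃ₗ[ZMod p] V) v ∈ B := fun g hg v hv => by
      have := hstab ⟨_, hmem g hg 0⟩ (by
        show (g : V ≃ₗ[ZMod p] V) 0 + 0 ∈ B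
        rwa [map_zero, zero_add]) v hv
      simpa using this
    have hnsmul : ∀ (n : ℕ), ∀ x ∈ B, n • x ∈ B := by
      intro n
      induction n with
      | zero => exact fun x _ => by simpa using h0
      | succ n ih => exact fun x hx => by rw [succ_nsmul]; exact hadd _ _ (ih x hx) hx
    let W : Submodule (ZMod p) V :=
      { carrier := B
        add_mem' := fun hx hy => hadd _ _ hx hy
        zero_mem' := h0
        smul_mem' := fun c x hx => by
          rw [← ZMod.natCast_zmod_val c, Nat.cast_smul_eq_nsmul]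
          exact hnsmul _ _ hx }
    rcases h W hinv with hW | hW
    · left
      intro x hx y hy
      have hb : ∀ z ∈ B, z = 0 := fun z hz => (Submodule.eq_bot_iff W).mp hW z hz
      rw [hb x hx, hb y hy]
    · right
      exact Set.eq_univ_of_forall fun z => by
        have : z ∈ W := hW ▸ Submodule.mem_top
        exact this

end Cfsg.Agent.S0733
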