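import Cfsg.Statements.S0734

import Mathlib

set_option autoImplicit false
set_option linter.style.haveILetI false
open Cfsg

namespace Cfsg.Agent.S0734
open scoped Pointwise

/-- Higman's criterion for primitivity: a transitive action on a finite set is primitive if and only if every non-trivial orbital graph (edges = images of a fixed pair of distinct points) is connected. -/
theorem result {G : Type*} [Group G] {Ω : Type*} [Finite Ω] [MulAction G Ω] [MulAction.IsPretransitive G Ω] [Nontrivial Ω] : MulAction.IsPreprimitive G Ω ↔ ∀ a b : Ω, a ≠ b → (SimpleGraph.fromRel fun x y : Ω => ∃ g : G, g • a = x ∧ g • b = y).Connected := by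
  classical
  constructor
  · intro hprim a b hab
    set Γ := SimpleGraph.fromRel fun x y : Ω => ∃ g : G, g • a = x ∧ g • b = y with hΓ
    have hhom : ∀ (g : G) (x y : Ω), Γ.Adj x y → Γ.Adj (g • x) (g • y) := by
      intro g x y hxy
      rw [hΓ, SimpleGraph.fromRel_adj] at hxy ⊢
      refine ⟨fun h => hxy.1 (MulAction.injective g h), ?_⟩
      rcases hxy.2 with ⟨k, h1, h2⟩ | ⟨k, h1, h2⟩
      · exact Or.inl ⟨g * k, by rw [mul_smul, h1], by rw [mul_smul, h2]⟩
      · exact Or.inr ⟨g * k, by rw [mul_smul, h1], by rw [mul_smul, h2]⟩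
    have hreach : ∀ (g : G) (x y : Ω), Γ.Reachable x y → Γ.Reachable (g • x) (g • y) :=
      fun g x y h => h.map ⟨fun z => g • z, fun hz => hhom g _ _ hz⟩
    have hblock : MulAction.IsBlock G {x | Γ.Reachable a x} := by
      rw [MulAction.isBlock_iff_smul_eq_of_nonempty]
      rintro g ⟨y, ⟨w, hw, rfl⟩, hy⟩
      have hga : Γ.Reachable a (g • a) := hy.trans (hreach g _ _ hw).symm
      ext z
      constructor
      · rintro ⟨v, hv, rfl⟩
        exact hga.trans (hreach g _ _ hv)
      · intro hz
        refine ⟨g⁻¹ • z, ?_, smul_inv_smul g z⟩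
        have h1 := hreach g⁻¹ _ _ (hga.symm.trans hz)
        rwa [inv_smul_smul] at h1
    have hab' : Γ.Reachable a b := SimpleGraph.Adj.reachable (by
      rw [hΓ, SimpleGraph.fromRel_adj]
      exact ⟨hab, Or.inl ⟨1, one_smul _ _, one_smul _ _⟩⟩)
    rcases hprim.isTrivialBlock_of_isBlock hblock with h | h
    · exact absurd (h (SimpleGraph.Reachable.refl a) hab') hab
    · haveI : Nonempty Ω := ⟨a⟩
      refine SimpleGraph.Connected.mk fun x y => ?_
      have hall : ∀ z, Γ.Reachable a z := fun z => by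
        have : z ∈ {x | Γ.Reachable a x} := h ▸ Set.mem_univ z
        exact this
      exact (hall x).symm.trans (hall y)
  · intro h
    refine ⟨fun {B} hB => ?_⟩
    by_contra hcon
    rw [MulAction.IsTrivialBlock, not_or] at hcon
    obtain ⟨hsub, huniv⟩ := hcon
    obtain ⟨a, ha, b, hb, hab⟩ : ∃ a ∈ B, ∃ b ∈ B, a ≠ b := Set.not_subsingleton_iff.mp hsub
    apply huniv
    refine Set.eq_univ_of_forall fun z => ?_
    obtain ⟨w⟩ := (h a b hab).preconnected a z
    have key : ∀ (x y : Ω), (SimpleGraph.fromRel fun x y : Ω => ∃ g : G, g • a = x ∧ g • b = y).Adj x y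
        → x ∈ B → y ∈ B := by
      intro x y hxy hx
      rw [SimpleGraph.fromRel_adj] at hxy
      rcases hxy.2 with ⟨g, h1, h2⟩ | ⟨g, h1, h2⟩
      · have hgB : g • B = B := MulAction.isBlock_iff_smul_eq_of_nonempty.mp hB
          ⟨x, ⟨a, ha, h1⟩, hx⟩
        exact hgB ▸ ⟨b, hb, h2⟩
      · have hgB : g • B = B := MulAction.isBlock_iff_smul_eq_of_nonempty.mp hB
          ⟨x, ⟨b, hb, h2⟩, hx⟩
        exact hgB ▸ ⟨a, ha, h1⟩
    have main : ∀ (u v : Ω),
        (SimpleGraph.fromRel fun x y : Ω => ∃ g : G, g • a = x ∧ g • b = y).Walk u v →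
        u ∈ B → v ∈ B := by
      intro u v p
      induction p with
      | nil => exact id
      | cons hadj _ ih => exact fun hu => ih (key _ _ hadj hu)
    exact main a z w ha

end Cfsg.Agent.S0734
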