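import Cfsg.Statements.S0735

import Mathlib

set_option autoImplicit false
set_option linter.style.haveILetI false
open Cfsg

namespace Cfsg.Agent.S0735
open scoped Pointwise

/-- A 2-homogeneous permutation group (transitive on 2-subsets) of even order is doubly transitive; a non-trivial 2-homogeneous group is primitive. -/
theorem result {α : Type*} [Fintype α] [DecidableEq α] (G : Subgroup (Equiv.Perm α)) (h2 : MulAction.IsPretransitive G (Set.powersetCard α 2)) (hα : 3 ≤ Fintype.card α) : (Even (Nat.card G) → MulAction.IsMultiplyPretransitive G α 2) ∧ (G ≠ ⊥ → MulAction.IsPreprimitive G α) := by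
  classical
  have hpair : ∀ a b c d : α, a ≠ b → c ≠ d →
      ∃ g : G, (g • a = c ∧ g • b = d) ∨ (g • a = d ∧ g • b = c) := by
    intro a b c d hab hcd
    let s : Set.powersetCard α 2 := ⟨{a, b}, by simp [hab]⟩
    let t : Set.powersetCard α 2 := ⟨{c, d}, by simp [hcd]⟩
    obtain ⟨g, hg⟩ := h2.exists_smul_eq s t
    have hg' : g • ({a, b} : Finset α) = {c, d} := congrArg Subtype.val hg
    have h1 : g • a ∈ ({c, d} : Finset α) := hg' ▸ Finset.smul_mem_smul_finset (by simp)
    have h2 : g • b ∈ ({c, d} : Finset α) := hg' ▸ Finset.smul_mem_smul_finset (by simp)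
    have h3 : g • a ≠ g • b := fun h => hab (MulAction.injective g h)
    simp only [Finset.mem_insert, Finset.mem_singleton] at h1 h2
    refine ⟨g, ?_⟩
    rcases h1 with h1 | h1 <;> rcases h2 with h2 | h2
    · exact absurd (h1.trans h2.symm) h3
    · exact Or.inl ⟨h1, h2⟩
    · exact Or.inr ⟨h1, h2⟩
    · exact absurd (h1.trans h2.symm) h3
  refine ⟨fun heven => ?_, fun hne => ?_⟩
  · haveI : Fact (Nat.Prime 2) := ⟨Nat.prime_two⟩
    obtain ⟨t, ht⟩ := exists_prime_orderOf_dvd_card' (G := G) 2 heven.two_dvd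
    obtain ⟨x, hx⟩ : ∃ x : α, t • x ≠ x := by
      by_contra hc
      push Not at hc
      have : t = 1 := Subtype.ext (Equiv.ext hc)
      rw [this, orderOf_one] at ht
      omega
    have htt : t • (t • x) = x := by
      rw [← mul_smul, ← pow_two, ← ht, pow_orderOf_eq_one, one_smul]
    rw [MulAction.is_two_pretransitive_iff]
    intro a b c d hab hcd
    obtain ⟨g, hg⟩ := hpair a b c d hab hcd
    rcases hg with ⟨h1, h2⟩ | ⟨h1, h2⟩
    · exact ⟨g, h1, h2⟩
    · obtain ⟨k, hk⟩ := hpair x (t • x) d c (Ne.symm hx) (Ne.symm hcd)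
      refine ⟨k * t * k⁻¹ * g, ?_, ?_⟩ <;>
        rcases hk with ⟨k1, k2⟩ | ⟨k1, k2⟩ <;>
        · simp only [mul_smul, h1, h2]
          simp only [← k1, ← k2, inv_smul_smul, htt]
  · obtain ⟨t, ht, a, hta⟩ : ∃ t ∈ G, ∃ a : α, t a ≠ a := by
      by_contra hc
      push Not at hc
      exact hne ((Subgroup.eq_bot_iff_forall G).mpr fun t ht => Equiv.ext (hc t ht))
    have horb : ∀ b : α, ∃ g : G, g • a = b := by
      intro b
      by_cases hb : b = a
      · exact ⟨1, by rw [hb, one_smul]⟩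
      obtain ⟨g, hg⟩ := hpair a (t a) a b (Ne.symm hta) (Ne.symm hb)
      rcases hg with ⟨-, h1⟩ | ⟨h1, -⟩
      · exact ⟨g * ⟨t, ht⟩, by rw [mul_smul]; exact h1⟩
      · exact ⟨g, h1⟩
    haveI htrans : MulAction.IsPretransitive G α := ⟨fun x y => by
      obtain ⟨g, rfl⟩ := horb x
      obtain ⟨k, rfl⟩ := horb y
      exact ⟨k * g⁻¹, by rw [mul_smul, inv_smul_smul]⟩⟩
    refine MulAction.IsPreprimitive.of_isTrivialBlock_base a fun {B} haB hB => ?_
    by_contra hcon
    rw [MulAction.IsTrivialBlock, not_or] at hcon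
    obtain ⟨hsub, huniv⟩ := hcon
    obtain ⟨b, hb, hba⟩ : ∃ b ∈ B, b ≠ a := by
      by_contra hc
      push Not at hc
      exact hsub fun x hx y hy => (hc x hx).trans (hc y hy).symm
    obtain ⟨c, hc⟩ := (Set.ne_univ_iff_exists_notMem B).mp huniv
    obtain ⟨g, hg⟩ := hpair a b a c (Ne.symm hba) (fun h => hc (h ▸ haB))
    have hmem : a ∈ g • B := by
      rcases hg with ⟨h1, -⟩ | ⟨-, h1⟩
      · exact ⟨a, haB, h1⟩
      · exact ⟨b, hb, h1⟩
    have hgB : g • B = B := MulAction.isBlock_iff_smul_eq_of_nonempty.mp hB ⟨a, hmem, haB⟩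
    apply hc
    rcases hg with ⟨-, h1⟩ | ⟨h1, -⟩
    · exact hgB ▸ ⟨b, hb, h1⟩
    · exact hgB ▸ ⟨a, haB, h1⟩

end Cfsg.Agent.S0735
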