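import Cfsg.Statements.S0736

import Mathlib

set_option autoImplicit false
set_option linter.style.haveILetI false
open Cfsg

namespace Cfsg.Agent.S0736
open Finset
open scoped Pointwise

/-- No carries: `p` does not divide `C(p^a m + (p^a - 1), p^a - 1)`. -/
theorem not_dvd_choose {p : ℕ} (hp : p.Prime) (a m : ℕ) :
    ¬ p ∣ (p ^ a * m + (p ^ a - 1)).choose (p ^ a - 1) := by
  intro hd
  have h0 : ((p ^ a * m + (p ^ a - 1)).choose (p ^ a - 1)).factorization p = 0 := by
    rw [Nat.factorization_choose' hp (Nat.lt_succ_self _)]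
    rw [Finset.card_eq_zero, Finset.filter_eq_empty_iff]
    intro i hi hle
    have hpi : 0 < p ^ i := pow_pos hp.pos i
    rcases Nat.le_total i a with hia | hai
    · rw [Nat.mul_mod, Nat.mod_eq_zero_of_dvd (Nat.pow_dvd_pow p hia), Nat.zero_mul, Nat.zero_mod, Nat.add_zero] at hle
      exact absurd hle (Nat.not_le.2 (Nat.mod_lt _ hpi))
    · obtain ⟨d, rfl⟩ := Nat.exists_eq_add_of_le hai
      have hpa : 0 < p ^ a := pow_pos hp.pos a
      have hlt : p ^ a - 1 < p ^ (a + d) :=
        lt_of_lt_of_le (Nat.sub_lt hpa Nat.one_pos) (Nat.pow_le_pow_right hp.pos (Nat.le_add_right a d))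
      rw [Nat.mod_eq_of_lt hlt, pow_add, Nat.mul_mod_mul_left] at hle
      have h1 : p ^ a * (m % p ^ d + 1) ≤ p ^ a * p ^ d :=
        Nat.mul_le_mul_left _ (Nat.mod_lt _ (pow_pos hp.pos d))
      rw [Nat.mul_succ] at h1
      omega
  exact ((hp.factorization_pos_of_dvd (Nat.choose_pos (Nat.le_add_left _ _)).ne' hd).ne') h0

/-- A `k`-homogeneous permutation group of degree `n`, `k ≥ 2`, with `k + q - 1 ≤ n` for every prime power `q` dividing `k`, is `(k-1)`-homogeneous. -/
theorem result {α : Type*} [Fintype α] [DecidableEq α] (G : Subgroup (Equiv.Perm α)) {k : ℕ} (hk : 2 ≤ k) (hG : MulAction.IsPretransitive G (Set.powersetCard α k)) (hq : ∀ q : ℕ, IsPrimePow q → q ∣ k → k + q - 1 ≤ Fintype.card α) : MulAction.IsPretransitive G (Set.powersetCard α (k - 1)) := by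
  classical
  refine ⟨fun x y => ?_⟩
  let O : Finset (Finset α) := Finset.univ.filter fun A => ∃ g : G, g • (x : Finset α) = A
  let c : Finset α → ℕ := fun B => (O.filter (· ⊆ B)).card
  have hO : ∀ (g : G) (A : Finset α), A ∈ O → g • A ∈ O := fun g A hA => by
    obtain ⟨h, hh⟩ := (Finset.mem_filter.1 hA).2
    exact Finset.mem_filter.2 ⟨Finset.mem_univ _, g * h, by rw [mul_smul, hh]⟩
  have hOk : ∀ A ∈ O, A.card = k - 1 := fun A hA => by
    obtain ⟨h, hh⟩ := (Finset.mem_filter.1 hA).2
    rw [← hh, Finset.card_smul_finset]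
    exact x.2
  have hk1 : k ≤ Fintype.card α := by
    have h2 := Nat.minFac_prime (show k ≠ 1 by omega)
    have h3 := hq _ h2.isPrimePow (Nat.minFac_dvd k)
    have := h2.two_le
    omega
  -- the constant
  have hconst : ∀ B B' : Finset α, B.card = k → B'.card = k → c B = c B' := by
    intro B B' hB hB'
    obtain ⟨g, hg⟩ := hG.exists_smul_eq (⟨B, hB⟩ : Set.powersetCard α k) ⟨B', hB'⟩
    have hg' : g • B = B' := by
      have := congrArg Subtype.val hg
      exact this
    refine Finset.card_bij (fun A _ => g • A) (fun A hA => ?_) (fun A _ A' _ e => MulAction.injective g e) fun A hA => ?_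
    · rw [Finset.mem_filter] at hA ⊢
      exact ⟨hO g A hA.1, hg' ▸ Finset.smul_finset_subset_smul_finset hA.2⟩
    · rw [Finset.mem_filter] at hA
      refine ⟨g⁻¹ • A, Finset.mem_filter.2 ⟨hO _ A hA.1, ?_⟩, smul_inv_smul g A⟩
      have h2 := Finset.smul_finset_subset_smul_finset (a := g⁻¹) hA.2
      rwa [← hg', inv_smul_smul] at h2
  obtain ⟨B₀, hxB, -, hB₀⟩ := Finset.exists_subsuperset_card_eq (Finset.subset_univ (x : Finset α))
    (show (x : Finset α).card ≤ k by rw [x.2]; omega) (by rwa [Finset.card_univ])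
  have hxO : (x : Finset α) ∈ O := Finset.mem_filter.2 ⟨Finset.mem_univ _, 1, one_smul _ _⟩
  have hpos : 0 < c B₀ := Finset.card_pos.2 ⟨x, Finset.mem_filter.2 ⟨hxO, hxB⟩⟩
  have hle : O.filter (· ⊆ B₀) ⊆ Finset.powersetCard (k - 1) B₀ := fun A hA =>
    Finset.mem_powersetCard.2 ⟨(Finset.mem_filter.1 hA).2, hOk A (Finset.mem_filter.1 hA).1⟩
  -- every prime power part of k divides c
  have hdiv : k ∣ c B₀ := by
    refine (Nat.dvd_iff_prime_pow_dvd_dvd (c B₀) k).2 fun p i hp hi => ?_
    set a := k.factorization p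
    have hk0 : k ≠ 0 := by omega
    refine (Nat.pow_dvd_pow p ((hp.pow_dvd_iff_le_factorization hk0).1 hi)).trans ?_
    rcases Nat.eq_zero_or_pos a with ha | ha
    · rw [show k.factorization p = 0 from ha, pow_zero]; exact one_dvd _
    obtain ⟨m, hm⟩ := Nat.ordProj_dvd k p
    set q := p ^ a
    have hqp : IsPrimePow q := hp.isPrimePow.pow ha.ne'
    have hq0 : 0 < q := pow_pos hp.pos a
    obtain ⟨U, -, hU⟩ := Finset.exists_subset_card_eq (s := (Finset.univ : Finset α))
      (n := k + q - 1) (by rw [Finset.card_univ]; exact hq q hqp (Nat.ordProj_dvd k p))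
    have hcount : ∑ B ∈ Finset.powersetCard k U, c B = (O.filter (· ⊆ U)).card * q := by
      have e1 : ∀ B ∈ Finset.powersetCard k U, c B = ((O.filter (· ⊆ U)).filter (· ⊆ B)).card := fun B hB => by
        rw [Finset.filter_filter]
        refine congrArg Finset.card (Finset.filter_congr fun A _ => ⟨fun h => ⟨h.trans (Finset.mem_powersetCard.1 hB).1, h⟩, And.right⟩)
      rw [Finset.sum_congr rfl e1]
      simp_rw [Finset.card_filter (fun A => A ⊆ _)]
      rw [Finset.sum_comm]
      have hBA : ∀ A ∈ O.filter (· ⊆ U), (∑ B ∈ Finset.powersetCard k U, if A ⊆ B then 1 else 0) = q := by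
        intro A hA
        obtain ⟨hAO, hAU⟩ := Finset.mem_filter.1 hA
        have hcA := hOk A hAO
        rw [← Finset.card_filter]
        have e2 : (Finset.powersetCard k U).filter (fun B => A ⊆ B) = (U \ A).image (insert · A) := by
          ext B
          simp only [Finset.mem_filter, Finset.mem_powersetCard, Finset.mem_image, Finset.mem_sdiff]
          constructor
          · rintro ⟨⟨hBU, hBk⟩, hAB⟩
            obtain ⟨z, hz⟩ := Finset.card_eq_one.1 (show (B \ A).card = 1 by rw [Finset.card_sdiff_of_subset hAB]; omega)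
            have hzB : z ∈ B ∧ z ∉ A := Finset.mem_sdiff.1 (hz ▸ Finset.mem_singleton_self z)
            refine ⟨z, ⟨hBU hzB.1, hzB.2⟩, ?_⟩
            rw [Finset.insert_eq, ← hz, Finset.sdiff_union_of_subset hAB]
          · rintro ⟨z, ⟨hzU, hzA⟩, rfl⟩
            exact ⟨⟨Finset.insert_subset hzU hAU, by rw [Finset.card_insert_of_notMem hzA]; omega⟩, Finset.subset_insert _ _⟩
        rw [e2, Finset.card_image_of_injOn, Finset.card_sdiff_of_subset hAU, hU, hcA]
        · omega
        · intro z hz z' hz' e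
          have h2 := (Finset.ext_iff.1 e z).1 (Finset.mem_insert_self z A)
          rcases Finset.mem_insert.1 h2 with h | h
          · exact h
          · exact absurd h (Finset.mem_sdiff.1 (Finset.mem_coe.1 hz)).2
      rw [Finset.sum_congr rfl hBA, Finset.sum_const, smul_eq_mul, ← Finset.card_filter]
    rw [Finset.sum_const_nat (fun B hB => hconst B B₀ (Finset.mem_powersetCard.1 hB).2 hB₀), Finset.card_powersetCard, hU] at hcount
    have hd : q ∣ (k + q - 1).choose k * c B₀ := hcount ▸ Dvd.intro_left _ rfl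
    refine Nat.Coprime.dvd_of_dvd_mul_left (Nat.Coprime.pow_left a ?_) hd
    rw [hp.coprime_iff_not_dvd]
    have hsym : (k + q - 1).choose k = (q * m + (q - 1)).choose (q - 1) := by
      rw [show k + q - 1 = k + (q - 1) by omega, Nat.choose_symm_add, ← hm]
    rw [hsym]
    exact not_dvd_choose hp a m
  have hall : O.filter (· ⊆ B₀) = Finset.powersetCard (k - 1) B₀ := by
    refine Finset.eq_of_subset_of_card_le hle ?_
    rw [Finset.card_powersetCard, hB₀, ← Nat.choose_symm (by omega), show k - (k - 1) = 1 by omega, Nat.choose_one_right]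
    exact Nat.le_of_dvd hpos hdiv
  -- hence everything is in O
  obtain ⟨B, hyB, -, hB⟩ := Finset.exists_subsuperset_card_eq (Finset.subset_univ (y : Finset α))
    (show (y : Finset α).card ≤ k by rw [y.2]; omega) (by rwa [Finset.card_univ])
  have hcB : O.filter (· ⊆ B) = Finset.powersetCard (k - 1) B := by
    refine Finset.eq_of_subset_of_card_le (fun A hA => Finset.mem_powersetCard.2
      ⟨(Finset.mem_filter.1 hA).2, hOk A (Finset.mem_filter.1 hA).1⟩) ?_
    rw [show (O.filter (· ⊆ B)).card = c B₀ from hconst B B₀ hB hB₀, show c B₀ = _ from congrArg Finset.card hall,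
      Finset.card_powersetCard, Finset.card_powersetCard, hB, hB₀]
  have hy : (y : Finset α) ∈ O.filter (· ⊆ B) := hcB ▸ Finset.mem_powersetCard.2 ⟨hyB, y.2⟩
  obtain ⟨g, hg⟩ := (Finset.mem_filter.1 (Finset.mem_filter.1 hy).1).2
  exact ⟨g, Subtype.ext hg⟩

end Cfsg.Agent.S0736
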