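import Mathlib
-- Template for statement S0738 (row 738; see /opt/grader/pristine/manifest.json for weights).
-- Copy to Cfsg/Agent/S0738.lean and replace the sorry. The statement below is byte-identical to the frozen
-- statement Cfsg.CfsgFrozen.S0738 (Cfsg/Statements/S0738.lean; the theorem Cfsg.zassenhaus_group_large_two_point_stabilizer_kernel_elementary);
-- the grader kernel-checks Cfsg.Agent.S0738.result against that frozen type. Keep the theorem IN THIS FILE
-- (a `result` declared elsewhere and merely imported here is not credited); helpers may live anywhere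
-- under Cfsg/Agent/.
import Cfsg.Statements.S0738
import Cfsg.Agent.Solv.FrobeniusNilp
-- import your own Cfsg.Agent.* helpers here

set_option autoImplicit false
open Cfsg

namespace Cfsg.Agent.S0738

/-- Let a finite Zassenhaus group of degree `n + 1` have two-point stabilisers of order `d` with `2d ≥ n - 1`. Then a normal subgroup of a point stabiliser acting regularly on the remaining points is elementary abelian, and the degree is a prime power plus one. -/
theorem result {G Ω : Type*} [Group G] [Finite G] [MulAction G Ω] [Fintype Ω] (hZ : Cfsg.IsZassenhausGroup G Ω) {a b : Ω} (hab : a ≠ b) (hd : Fintype.card Ω - 2 ≤ 2 * Nat.card ↥(MulAction.stabilizer G a ⊓ MulAction.stabilizer G b)) (F : Subgroup G) (hFle : F ≤ MulAction.stabilizer G a) (hFn : (F.subgroupOf (MulAction.stabilizer G a)).Normal) (hreg : ∀ y z : Ω, y ≠ a → z ≠ a → ∃! u : F, (u : G) • y = z) : IsMulCommutative F ∧ ∃ p f : ℕ, p.Prime ∧ (∀ u ∈ F, u ^ p = 1) ∧ Fintype.card Ω =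 p ^ f + 1 := by
  classical
  obtain ⟨hfaith, h2t, hfix3, ⟨g₀, hg₀, a₀, b₀, hab₀, hga₀, hgb₀⟩, -⟩ := hZ
  set Ga := MulAction.stabilizer G a with hGa
  set H := Ga ⊓ MulAction.stabilizer G b with hH
  -- the regular bijection
  let θ : F → {y : Ω // y ≠ a} := fun u => ⟨(u : G) • b, fun h => hab (by
    have h1 : (u : G) • b = (u : G) • a := h.trans (MulAction.mem_stabilizer_iff.1 (hFle u.2)).symm
    exact ((MulAction.injective (u : G)) h1).symm)⟩
  have hθ : Function.Bijective θ := by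
    refine ⟨fun u v huv => ?_, fun y => ?_⟩
    · obtain ⟨w, -, hw⟩ := hreg b (θ u).1 hab.symm (θ u).2
      exact (hw u rfl).trans (hw v (congrArg Subtype.val huv).symm).symm
    · obtain ⟨u, hu, -⟩ := hreg b y.1 hab.symm y.2
      exact ⟨u, Subtype.ext hu⟩
  have hcardΩ : Fintype.card Ω = Nat.card F + 1 := by
    rw [Nat.card_congr (Equiv.ofBijective θ hθ), Nat.card_eq_fintype_card, Fintype.card_subtype_compl,
      Fintype.card_subtype_eq]
    have : 0 < Fintype.card Ω := Fintype.card_pos_iff.2 ⟨a⟩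
    omega
  obtain ⟨g₁, hg₁a, hg₁b⟩ := (MulAction.is_two_pretransitive_iff.1 h2t) hab₀ hab
  obtain ⟨h₀, hh₀, hh₀1⟩ : ∃ h ∈ H, h ≠ 1 := ⟨g₁ * g₀ * g₁⁻¹, ⟨by
      show _ • a = a
      rw [← hg₁a, mul_smul, mul_smul, inv_smul_smul, hga₀], by
      show _ • b = b
      rw [← hg₁b, mul_smul, mul_smul, inv_smul_smul, hgb₀]⟩,
    fun h => hg₀ (conj_eq_one_iff.1 h)⟩
  have hF1 : 1 < Nat.card F := by
    by_contra hle
    have hall : ∀ c : Ω, c = a ∨ c = b := fun c => by
      by_contra hc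
      push Not at hc
      obtain ⟨u, hu⟩ := hθ.2 ⟨c, hc.1⟩
      haveI : Subsingleton F := Finite.card_le_one_iff_subsingleton.1 (by omega)
      rw [Subsingleton.elim u 1] at hu
      exact hc.2 ((congrArg Subtype.val hu).symm.trans (one_smul G b))
    refine hh₀1 (hfaith.eq_of_smul_eq_smul fun c => ?_)
    rcases hall c with rfl | rfl
    · rw [one_smul]; exact hh₀.1
    · rw [one_smul]; exact hh₀.2
  have hconj : ∀ h ∈ H, ∀ u ∈ F, h * u * h⁻¹ ∈ F := fun h hh u hu =>
    hFn.conj_mem (⟨u, hFle hu⟩ : Ga) hu ⟨h, hh.1⟩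
  have hfpf : ∀ h ∈ H, h ≠ 1 → ∀ u ∈ F, u ≠ 1 → h * u * h⁻¹ ≠ u := by
    intro h hh hh1 u hu hu1 heq
    have h2 : h • u • b = u • b := by
      rw [← mul_smul, show h * u = u * h from mul_inv_eq_iff_eq_mul.1 heq, mul_smul,
        MulAction.mem_stabilizer_iff.1 hh.2]
    refine hh1 (hfix3 h a b (u • b) hab ?_ (θ ⟨u, hu⟩).2.symm hh.1 hh.2 h2)
    intro he
    exact hu1 (congrArg Subtype.val (@hθ.1 ⟨u, hu⟩ 1 (Subtype.ext (by
      show u • b = (1 : G) • b
      rw [one_smul, ← he]))))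
  set d := Nat.card H
  have hd0 : 0 < d := Nat.card_pos
  have horb : ∀ T : Set G, T.Nonempty → (∀ u ∈ T, u ∈ F ∧ u ≠ 1) → (∀ h ∈ H, ∀ u ∈ T, h * u * h⁻¹ ∈ T) →
      d ≤ T.ncard := by
    rintro T ⟨t, ht⟩ hTF hTinv
    rw [← Nat.card_coe_set_eq T]
    refine Nat.card_le_card_of_injective (fun h : H => (⟨(h : G) * t * (h : G)⁻¹, hTinv h h.2 t ht⟩ : T)) ?_
    intro h k hhk
    by_contra hne
    refine hfpf ((k : G)⁻¹ * h) (H.mul_mem (H.inv_mem k.2) h.2) (fun e => hne (Subtype.ext (inv_mul_eq_one.1 e).symm))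
      t (hTF t ht).1 (hTF t ht).2 ?_
    have h1 : (h : G) * t * (h : G)⁻¹ = k * t * (k : G)⁻¹ := congrArg Subtype.val hhk
    calc (k : G)⁻¹ * h * t * ((k : G)⁻¹ * h)⁻¹ = (k : G)⁻¹ * ((h : G) * t * (h : G)⁻¹) * k := by group
      _ = t := by rw [h1]; group
  have hbound : Nat.card F ≤ 2 * d + 1 := by omega
  have hFs : ((F : Set G) \ {1}).ncard + 1 = Nat.card F := by
    rw [Set.ncard_sdiff_singleton_add_one F.one_mem (Set.toFinite _), ← Nat.card_coe_set_eq]; rfl
  -- three invariant sets do not fit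
  have hthree : ∀ (T : Fin 3 → Set G), (∀ i, (T i).Nonempty) → (∀ i, ∀ u ∈ T i, u ∈ F ∧ u ≠ 1) →
      (∀ i, ∀ h ∈ H, ∀ u ∈ T i, h * u * h⁻¹ ∈ T i) → (∀ i j u, u ∈ T i → u ∈ T j → i = j) → False := by
    intro T h1 h2 h3 h4
    have hsub : T 0 ∪ T 1 ∪ T 2 ⊆ (F : Set G) \ {1} := by
      rintro u ((hu | hu) | hu) <;> exact ⟨(h2 _ u hu).1, (h2 _ u hu).2⟩
    have h5 := Set.ncard_le_ncard hsub (Set.toFinite _)
    rw [Set.ncard_union_eq, Set.ncard_union_eq] at h5
    · have := horb _ (h1 0) (h2 0) (h3 0)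
      have := horb _ (h1 1) (h2 1) (h3 1)
      have := horb _ (h1 2) (h2 2) (h3 2)
      omega
    · exact Set.disjoint_left.2 fun u hu hu' => absurd (h4 0 1 u hu hu') (by decide)
    · refine Set.disjoint_left.2 ?_
      rintro u (hu | hu) hu' <;> exact absurd (h4 _ _ u hu hu') (by decide)
  -- an invariant proper nontrivial subgroup is impossible
  have hsubgroup : ∀ A : Subgroup G, A ≤ F → A ≠ ⊥ → A ≠ F → (∀ h ∈ H, ∀ u ∈ A, h * u * h⁻¹ ∈ A) → False := by
    intro A hAF hA1 hAne hAinv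
    have hT1 : ((A : Set G) \ {1}).ncard + 1 = Nat.card A := by
      rw [Set.ncard_sdiff_singleton_add_one A.one_mem (Set.toFinite _), ← Nat.card_coe_set_eq]; rfl
    have hT2 : ((F : Set G) \ A).ncard + Nat.card A = Nat.card F := by
      rw [← SetLike.coe_sort_coe, Nat.card_coe_set_eq, Set.ncard_sdiff_add_ncard_of_subset hAF (Set.toFinite _),
        ← Nat.card_coe_set_eq]; rfl
    have hd1 : d ≤ ((A : Set G) \ {1}).ncard := by
      refine horb _ ?_ (fun u hu => ⟨hAF hu.1, hu.2⟩) (fun h hh u hu => ⟨hAinv h hh u hu.1, fun e => hu.2 (conj_eq_one_iff.1 e)⟩)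
      by_contra hcon
      rw [Set.not_nonempty_iff_eq_empty, Set.sdiff_eq_empty] at hcon
      exact hA1 ((Subgroup.eq_bot_iff_forall A).2 fun u hu => hcon hu)
    have hd2 : d ≤ ((F : Set G) \ A).ncard := by
      refine horb _ ?_ (fun u hu => ⟨hu.1, fun e => hu.2 (e ▸ A.one_mem)⟩) (fun h hh u hu => ⟨hconj h hh u hu.1, fun e => hu.2 ?_⟩)
      · by_contra hcon
        rw [Set.not_nonempty_iff_eq_empty, Set.sdiff_eq_empty] at hcon
        exact hAne (le_antisymm hAF hcon)
      · have := hAinv h⁻¹ (H.inv_mem hh) _ e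
        simpa [mul_assoc] using this
    obtain ⟨k, hk⟩ := Subgroup.card_dvd_of_le hAF
    have hcA : Nat.card F + 1 = 2 * Nat.card A := by omega
    have hdvd : Nat.card A ∣ 1 := (Nat.dvd_add_right (Dvd.intro k hk.symm)).1 (by rw [hcA]; exact dvd_mul_left _ _)
    exact hA1 (Subgroup.card_eq_one.1 (Nat.dvd_one.1 hdvd))
  -- nilpotency
  haveI hFnil : Group.IsNilpotent F := by
    obtain ⟨q, hq, hqd⟩ := Nat.exists_prime_and_dvd (fun e => hh₀1 (Subgroup.mem_bot.1 (Subgroup.card_eq_one.1 e ▸ hh₀)) : Nat.card H ≠ 1)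
    haveI := Fact.mk hq
    obtain ⟨⟨h, hh⟩, ho⟩ := exists_prime_orderOf_dvd_card' q hqd
    rw [Subgroup.orderOf_mk] at ho
    haveI := hFn
    have := CfsgLib.Solv.isNilpotent_of_fpf_element (K := F.subgroupOf Ga) (h := (⟨h, hh.1⟩ : Ga)) (p := q)
      (by refine Subtype.ext ?_; show h ^ q = 1; rw [← ho]; exact pow_orderOf_eq_one h) (by
        rw [eq_bot_iff]
        rintro ⟨u, hua⟩ ⟨huF, huc⟩
        by_contra hu1
        refine hfpf h hh (fun e => hq.ne_one (by rw [← ho, e, orderOf_one])) u huF (fun e => hu1 (Subgroup.mem_bot.2 (Subtype.ext e))) ?_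
        have h2 : u * h = h * u := congrArg Subtype.val (Subgroup.mem_centralizer_singleton_iff.1 huc)
        rw [← h2, mul_inv_cancel_right])
    exact Group.nilpotent_of_mulEquiv (Subgroup.subgroupOfEquivOfLe hFle)
  obtain ⟨p, hp, hpF⟩ := Nat.exists_prime_and_dvd hF1.ne'
  haveI := Fact.mk hp
  have hord : ∀ m : ℕ, ∀ h ∈ H, ∀ u, u ∈ {u : G | u ∈ F ∧ orderOf u = m} → h * u * h⁻¹ ∈ {u : G | u ∈ F ∧ orderOf u = m} :=
    fun m h hh u hu => ⟨hconj h hh u hu.1, ((MulAut.conj h).orderOf_eq u).trans hu.2⟩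
  -- a prime power
  obtain ⟨f, hf⟩ : ∃ f, Nat.card F = p ^ f := by
    refine ⟨_, Nat.eq_prime_pow_of_unique_prime_dvd (by omega) fun {q} hq hqF => ?_⟩
    by_contra hqp
    haveI := Fact.mk hq
    obtain ⟨P⟩ : Nonempty (Sylow p F) := inferInstance
    obtain ⟨Q⟩ : Nonempty (Sylow q F) := inferInstance
    obtain ⟨x, hx⟩ := exists_prime_orderOf_dvd_card' (G := (P : Subgroup F)) p (P.dvd_card_of_dvd_card hpF)
    obtain ⟨y, hy⟩ := exists_prime_orderOf_dvd_card' (G := (Q : Subgroup F)) q (Q.dvd_card_of_dvd_card hqF)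
    have hdis : Disjoint (P : Subgroup F) (Q : Subgroup F) := IsPGroup.disjoint_of_ne p q (Ne.symm hqp) _ _ P.isPGroup' Q.isPGroup'
    have hc : Commute (x : F) (y : F) := Subgroup.commute_of_normal_of_disjoint _ _ inferInstance inferInstance hdis _ _ x.2 y.2
    have hxy : orderOf ((x : F) * (y : F)) = p * q := by
      rw [hc.orderOf_mul_eq_mul_orderOf_of_coprime (by
        rw [Subgroup.orderOf_coe, Subgroup.orderOf_coe, hx, hy]; exact (Nat.coprime_primes hp hq).2 (Ne.symm hqp)),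
        Subgroup.orderOf_coe, Subgroup.orderOf_coe, hx, hy]
    let m : Fin 3 → ℕ := ![p, q, p * q]
    have hm1 : ∀ i, 1 < m i := by
      intro i; fin_cases i
      · exact hp.one_lt
      · exact hq.one_lt
      · exact one_lt_mul_of_lt_of_le hp.one_lt hq.one_lt.le
    have hmi : ∀ i j, m i = m j → i = j := by
      intro i j
      have h1 : p ≠ p * q := by nlinarith [hp.two_le, hq.two_le]
      have h2 : q ≠ p * q := by nlinarith [hp.two_le, hq.two_le]
      fin_cases i <;> fin_cases j <;> simp [m, Ne.symm hqp, hqp, h1, h2, h1.symm, h2.symm]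
    refine hthree (fun i => {u : G | u ∈ F ∧ orderOf u = m i}) ?_ ?_ (fun i => hord _) (fun i j u hu hu' => hmi i j (hu.2.symm.trans hu'.2))
    · intro i; fin_cases i
      · exact ⟨((x : F) : G), (x : F).2, by simp [m, hx]⟩
      · exact ⟨((y : F) : G), (y : F).2, by simp [m, hy]⟩
      · exact ⟨((x : F) : G) * ((y : F) : G), F.mul_mem (x : F).2 (y : F).2, by
          rw [← Subgroup.coe_mul, Subgroup.orderOf_coe, hxy]; rfl⟩
    · intro i u hu
      exact ⟨hu.1, fun e => (hm1 i).ne (by rw [← hu.2, e, orderOf_one])⟩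
  have hFp : IsPGroup p F := IsPGroup.of_card hf
  have hab' : IsMulCommutative F := by
    by_contra hna
    haveI : Nontrivial F := Finite.one_lt_card_iff_nontrivial.1 hF1
    refine hsubgroup ((Subgroup.center F).map F.subtype) (Subgroup.map_subtype_le _) ?_ ?_ ?_
    · rw [Ne, Subgroup.map_eq_bot_iff_of_injective _ Subtype.val_injective, ← Ne, ← Subgroup.nontrivial_iff_ne_bot]
      exact hFp.center_nontrivial
    · intro h
      refine hna ⟨⟨fun u v => ?_⟩⟩
      obtain ⟨z, hz, hzu⟩ : (u : G) ∈ (Subgroup.center F).map F.subtype := h.symm.le u.2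
      obtain rfl : z = u := Subtype.ext hzu
      exact (Subgroup.mem_center_iff.1 hz v).symm
    · rintro h hh _ ⟨z, hz, rfl⟩
      refine ⟨⟨_, hconj h hh _ z.2⟩, Subgroup.mem_center_iff.2 fun w => Subtype.ext ?_, rfl⟩
      have h1 : (h⁻¹ * (w : G) * h) * (z : G) = (z : G) * (h⁻¹ * (w : G) * h) :=
        congrArg Subtype.val (Subgroup.mem_center_iff.1 hz ⟨_, by simpa using hconj h⁻¹ (H.inv_mem hh) w w.2⟩)
      show (w : G) * (h * (z : G) * h⁻¹) = h * (z : G) * h⁻¹ * (w : G)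
      calc (w : G) * (h * (z : G) * h⁻¹) = h * ((h⁻¹ * (w : G) * h) * (z : G)) * h⁻¹ := by group
        _ = _ := by rw [h1]; group
  refine ⟨hab', p, f, hp, ?_, by rw [hcardΩ, hf]⟩
  let A : Subgroup G :=
    { carrier := {u | u ∈ F ∧ u ^ p = 1}
      one_mem' := ⟨F.one_mem, one_pow p⟩
      inv_mem' := fun {u} hu => ⟨F.inv_mem hu.1, by rw [inv_pow, hu.2, inv_one]⟩
      mul_mem' := fun {u v} hu hv => ⟨F.mul_mem hu.1 hv.1, by
        have hc : Commute u v := congrArg Subtype.val (hab'.is_comm.comm ⟨u, hu.1⟩ ⟨v, hv.1⟩)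
        rw [hc.mul_pow, hu.2, hv.2, mul_one]⟩ }
  intro u hu
  by_contra hup
  obtain ⟨x, hx⟩ := exists_prime_orderOf_dvd_card' (G := F) p hpF
  refine hsubgroup A (fun u hu => hu.1) ?_ (fun h => hup ((h.symm ▸ hu : u ∈ A).2)) (fun h hh u hu => ⟨hconj h hh u hu.1, by rw [conj_pow, hu.2, mul_one, mul_inv_cancel]⟩)
  intro h
  have h1 : (x : G) ∈ A := ⟨x.2, by rw [← Subgroup.coe_pow, ← hx, pow_orderOf_eq_one]; rfl⟩
  rw [h, Subgroup.mem_bot, ← orderOf_eq_one_iff, Subgroup.orderOf_coe, hx] at h1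
  exact hp.ne_one h1

end Cfsg.Agent.S0738
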