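import Mathlib
-- Template for statement S0739 (row 739; see /opt/grader/pristine/manifest.json for weights).
-- Copy to Cfsg/Agent/S0739.lean and replace the sorry. The statement below is byte-identical to the frozen
-- statement Cfsg.CfsgFrozen.S0739 (Cfsg/Statements/S0739.lean; the theorem Cfsg.zassenhaus_group_odd_two_point_stabilizer_cyclic);
-- the grader kernel-checks Cfsg.Agent.S0739.result against that frozen type. Keep the theorem IN THIS FILE
-- (a `result` declared elsewhere and merely imported here is not credited); helpers may live anywhere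
-- under Cfsg/Agent/.
import Cfsg.Statements.S0739
import Cfsg.Agent.S0740
import Cfsg.Agent.Perm.FpfSources
import Cfsg.Agent.Perm.FpfBasic
-- import your own Cfsg.Agent.* helpers here

set_option autoImplicit false
open Cfsg
set_option linter.style.haveILetI false
set_option linter.unusedSectionVars false

namespace Cfsg.Agent.S0739

open scoped Pointwise commutatorElement

theorem inverts_of_no_fixed {H : Type*} [Group H] [Finite H] (σ : H ≃* H) (h2 : ∀ x, σ (σ x) = x)
    (hfix : ∀ x, σ x = x → x = 1) (x : H) : σ x = x⁻¹ := by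
  have hinj : Function.Injective (fun y : H => y⁻¹ * σ y) := fun a b e => by
    have e' : a⁻¹ * σ a = b⁻¹ * σ b := e
    have h1 : σ (b * a⁻¹) = b * a⁻¹ := by
      rw [map_mul, map_inv, show σ b = b * (b⁻¹ * σ b) by group, ← e']; group
    exact (mul_inv_eq_one.1 (hfix _ h1)).symm
  obtain ⟨y, rfl⟩ := Finite.injective_iff_surjective.1 hinj x
  show σ (y⁻¹ * σ y) = (y⁻¹ * σ y)⁻¹
  rw [map_mul, map_inv, h2, mul_inv_rev, inv_inv]

theorem odd_pow_fix {G Ω : Type*} [Group G] [MulAction G Ω] {h : G} {x y : Ω} (hy : h • x = y) (hy2 : h • y = x)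
    (ho : Odd (orderOf h)) : x = y := by
  obtain ⟨m, hm⟩ := ho
  have : ∀ k, h ^ (2 * k + 1) • x = y := fun k => by
    induction k with
    | zero => simpa using hy
    | succ k ih => rw [show 2 * (k + 1) + 1 = (2 * k + 1) + 1 + 1 by ring, pow_succ', pow_succ', mul_smul, mul_smul, ih, hy2, hy]
  have := this m
  rwa [← hm, pow_orderOf_eq_one, one_smul] at this


set_option maxHeartbeats 1000000 in
/-- In a finite Zassenhaus group whose two-point stabiliser `H = G_{a,b}` has odd order `d`, and which has no normal `q`-complement for any prime `q ∣ d`, `H` is cyclic, `C_G(H) = H`, and every element swapping `a` and `b` inverts each element of `H`. -/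
theorem result {G Ω : Type*} [Group G] [Finite G] [MulAction G Ω] [Fintype Ω] (hZ : Cfsg.IsZassenhausGroup G Ω) {a b : Ω} (hab : a ≠ b) (hodd : Odd (Nat.card ↥(MulAction.stabilizer G a ⊓ MulAction.stabilizer G b))) (hnil : ∀ q : ℕ, q.Prime → q ∣ Nat.card ↥(MulAction.stabilizer G a ⊓ MulAction.stabilizer G b) → ¬ ∃ N : Subgroup G, N.Normal ∧ N.index = q ^ (Nat.card G).factorization q) : IsCyclic ↥(MulAction.stabilizer G a ⊓ MulAction.stabilizer G b) ∧ Subgroup.centralizer ((MulAction.stabilizer G a ⊓ MulAction.stabilizer G b : Subgroup G) : Set G) = MulAction.stabilizer G a ⊓ MulAction.stabilizer G b ∧ ∀ s : G, s • a = b → s • b = a → ∀ h ∈ MulAction.stabilizer G a ⊓ MulAction.stabilizer G b, s * h * s⁻¹ = h⁻¹ := by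
  classical
  haveI : Fact (Nat.Prime 2) := ⟨Nat.prime_two⟩
  obtain ⟨⟨s, hs, hsa, hsb⟩, hsfix, -⟩ := Cfsg.Agent.S0740.result hZ hab
  obtain ⟨hfaith, h2, h3, hex, -⟩ := hZ
  haveI := hfaith
  set H := MulAction.stabilizer G a ⊓ MulAction.stabilizer G b with hHdef
  have hH : ∀ {g}, g ∈ H ↔ g • a = a ∧ g • b = b := fun {g} => Iff.rfl
  have hH1 : H ≠ ⊥ := by
    obtain ⟨g, hg, c, d, hcd, hgc, hgd⟩ := hex
    obtain ⟨k, hka, hkb⟩ := MulAction.is_two_pretransitive_iff.mp h2 hcd hab
    intro h0
    have h1 : k * g * k⁻¹ ∈ H := hH.2 ⟨by rw [← hka, mul_smul, mul_smul, inv_smul_smul, hgc],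
      by rw [← hkb, mul_smul, mul_smul, inv_smul_smul, hgd]⟩
    rw [h0, Subgroup.mem_bot, conj_eq_one_iff] at h1
    exact hg h1
  have hsemi : ∀ g ∈ H, ∀ x, x ≠ a → x ≠ b → g • x = x → g = 1 := fun g hg x hxa hxb hgx =>
    h3 g a b x hab (Ne.symm hxb) (Ne.symm hxa) (hH.1 hg).1 (hH.1 hg).2 hgx
  have hoddel : ∀ g ∈ H, Odd (orderOf g) := fun g hg => hodd.of_dvd_nat (Subgroup.orderOf_dvd_natCard H hg)
  have hss : s * s = 1 := by have := pow_orderOf_eq_one s; rwa [hs, pow_two] at this
  have hsi : s⁻¹ = s := inv_eq_of_mul_eq_one_right hss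
  have hsH : ∀ g ∈ H, s * g * s⁻¹ ∈ H := fun g hg => by
    rw [hsi]
    exact hH.2 ⟨by rw [mul_smul, mul_smul, hsa, (hH.1 hg).2, hsb], by rw [mul_smul, mul_smul, hsb, (hH.1 hg).1, hsa]⟩
  -- `H` is a Frobenius complement in a point stabiliser
  haveI hZH : IsZGroup H := by
    set A := MulAction.stabilizer G a
    have hFC : Cfsg.IsFrobeniusComplement (H.subgroupOf A) := by
      refine ⟨fun h0 => hH1 ?_, fun h0 => ?_, fun g hg => ?_⟩
      · have := Subgroup.map_subgroupOf_eq_of_le (inf_le_left : H ≤ A)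
        rw [h0, Subgroup.map_bot] at this
        exact this.symm
      · have hAb : A ≤ H := fun x hx => by
          have := (h0 ▸ Subgroup.mem_top (⟨x, hx⟩ : A) : (⟨x, hx⟩ : A) ∈ H.subgroupOf A)
          exact this
        obtain ⟨h₀, hh₀, hh1⟩ := (Subgroup.bot_or_exists_ne_one H).resolve_left hH1
        obtain ⟨x, hxa, hxb⟩ : ∃ x, x ≠ a ∧ x ≠ b := by
          by_contra hno
          push Not at hno
          refine hh1 (eq_of_smul_eq_smul (α := Ω) fun x => ?_)
          rw [one_smul]
          by_cases hxa : x = a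
          · rw [hxa, (hH.1 hh₀).1]
          · rw [hno x hxa, (hH.1 hh₀).2]
        obtain ⟨k, hka, hkb⟩ := MulAction.is_two_pretransitive_iff.mp h2 hab (Ne.symm hxa)
        exact hxb ((hH.1 (hAb hka)).2 ▸ hkb.symm)
      · rw [Subgroup.eq_bot_iff_forall]
        rintro x ⟨hx, hxg⟩
        replace hxg := Subgroup.mem_pointwise_smul_iff_inv_smul_mem.1 hxg
        rw [← map_inv, MulAut.smul_def, MulAut.conj_apply, inv_inv] at hxg
        have h1 : (x : G) • ((g : G) • b) = (g : G) • b := by
          have h5 : (((g⁻¹ * x * g : A) : G)) • b = b := (hH.1 (Subgroup.mem_subgroupOf.1 hxg)).2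
          simp only [Subgroup.coe_mul, Subgroup.coe_inv, mul_smul, inv_smul_eq_iff] at h5
          exact h5
        refine Subtype.ext (hsemi _ (Subgroup.mem_subgroupOf.1 hx) _ (fun e => ?_) (fun e => hg ?_) h1)
        · have hga : (g : G) • a = a := g.2
          exact hab (smul_left_cancel (g : G) (hga.trans e.symm))
        · exact Subgroup.mem_subgroupOf.2 (hH.2 ⟨g.2, e⟩)
    have hfpf := CfsgLib.Perm.Fpf.hasFpf_of_frobeniusComplement hFC
    haveI := CfsgLib.Perm.Fpf.isZGroup_of_odd hfpf (by
      rw [Nat.card_congr (Subgroup.subgroupOfEquivOfLe (inf_le_left : H ≤ A)).toEquiv]; exact hodd)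
    exact IsZGroup.of_injective (f := (Subgroup.subgroupOfEquivOfLe (inf_le_left : H ≤ A)).symm.toMonoidHom)
      (Subgroup.subgroupOfEquivOfLe (inf_le_left : H ≤ A)).symm.injective
  let σ : H ≃* H :=
    { toFun := fun g => ⟨s * g * s⁻¹, hsH g g.2⟩
      invFun := fun g => ⟨s * g * s⁻¹, hsH g g.2⟩
      left_inv := fun g => Subtype.ext (show s * (s * (g : G) * s⁻¹) * s⁻¹ = g by rw [hsi, ← mul_assoc, ← mul_assoc, hss, one_mul, mul_assoc, hss, mul_one])
      right_inv := fun g => Subtype.ext (show s * (s * (g : G) * s⁻¹) * s⁻¹ = g by rw [hsi, ← mul_assoc, ← mul_assoc, hss, one_mul, mul_assoc, hss, mul_one])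
      map_mul' := fun g h => Subtype.ext (show s * ((g : G) * h) * s⁻¹ = s * g * s⁻¹ * (s * h * s⁻¹) by group) }
  have hσ2 : ∀ g, σ (σ g) = g := fun g => σ.left_inv g
  -- a fixed point would lie in the commutator subgroup and force a normal complement
  have hnofix : ∀ c : H, σ c = c → c = 1 := by
    by_contra hcon
    push Not at hcon
    obtain ⟨c, hc, hc1⟩ := hcon
    -- Sylow subgroups of primes dividing the fixed points lie in `H'`
    have key : ∀ d : H, σ d = d → ∀ q : ℕ, q.Prime → orderOf d = q → ∀ Q : Sylow q H, (Q : Subgroup H) ≤ commutator H ∧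
        ∃ n ∈ Subgroup.normalizer ((Q : Subgroup H) : Set H), ∃ x ∈ (Q : Subgroup H), n * x ≠ x * n := by
      intro d hd q hq hdo Q
      haveI := Fact.mk hq
      have hqH : q ∣ Nat.card H := hdo ▸ orderOf_dvd_natCard d
      have hq2 : q ≠ 2 := fun e => Nat.not_even_iff_odd.2 hodd (even_iff_two_dvd.2 (e ▸ hqH))
      have hfac : (Nat.card G).factorization q = (Nat.card H).factorization q := by
        have hn : q ∣ Fintype.card Ω - 2 := by
          have hP : IsPGroup q (Q : Subgroup H) := Q.isPGroup'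
          let S : Finset Ω := Finset.univ.filter fun x => x ≠ a ∧ x ≠ b
          have hScard : S.card = Fintype.card Ω - 2 := by
            rw [show S = ({a, b} : Finset Ω)ᶜ by ext x; simp [S], Finset.card_compl, Finset.card_pair hab]
          let X := {x : Ω // x ≠ a ∧ x ≠ b}
          letI : MulAction (Q : Subgroup H) X :=
            { smul := fun g x => ⟨((g : H) : G) • x.1, fun e => x.2.1 (smul_left_cancel ((g : H) : G) (e.trans (hH.1 (g : H).2).1.symm)),
                fun e => x.2.2 (smul_left_cancel ((g : H) : G) (e.trans (hH.1 (g : H).2).2.symm))⟩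
              one_smul := fun x => Subtype.ext (one_smul G x.1)
              mul_smul := fun g g' x => Subtype.ext (mul_smul _ _ x.1) }
          have h1 := hP.card_modEq_card_fixedPoints (α := X)
          have h0 : Nat.card (MulAction.fixedPoints (Q : Subgroup H) X) = 0 := by
            rw [Nat.card_eq_zero]
            refine Or.inl ⟨fun x => ?_⟩
            have hQ1 : (Q : Subgroup H) ≠ ⊥ := Q.ne_bot_of_dvd_card hqH
            obtain ⟨g, hg, hg1⟩ := (Subgroup.bot_or_exists_ne_one _).resolve_left hQ1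
            exact hg1 (Subtype.ext (hsemi _ g.2 x.1.1 x.1.2.1 x.1.2.2 (congrArg Subtype.val (x.2 ⟨g, hg⟩))))
          rw [h0] at h1
          rw [← hScard, show S.card = Nat.card X by rw [Nat.card_eq_fintype_card, Fintype.card_subtype]]
          exact Nat.modEq_zero_iff_dvd.1 h1
        have hn2 : 2 ≤ Fintype.card Ω := by
          rw [← Finset.card_pair hab]; exact Finset.card_le_univ _
        have e1 : H.index = Fintype.card Ω * (Fintype.card Ω - 1) := by
          have hinj : Function.Injective ![a, b] := by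
            exact List.nodup_ofFn.1 (show List.Nodup [a, b] by simp [hab])
          have h5 : MulAction.stabilizer G (⟨![a, b], hinj⟩ : Fin 2 ↪ Ω) = H := by
            ext g
            simp only [MulAction.mem_stabilizer_iff, DFunLike.ext_iff, Fin.forall_fin_two]
            simp [hH]
          haveI := h2
          rw [← h5, MulAction.index_stabilizer]
          rw [MulAction.orbit_eq_univ, Set.ncard_univ, Nat.card_eq_fintype_card, Fintype.card_embedding_eq, Fintype.card_fin]
          rw [Nat.descFactorial_succ, Nat.descFactorial_succ, Nat.descFactorial_zero]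
          simp [mul_comm]
        have h4 : ¬ q ∣ H.index := fun hd' => by
          rw [e1] at hd'
          rcases hq.dvd_mul.1 hd' with h | h
          · have h9 := Nat.dvd_sub h hn
            rw [show Fintype.card Ω - (Fintype.card Ω - 2) = 2 by omega] at h9
            exact hq2 ((Nat.prime_dvd_prime_iff_eq hq Nat.prime_two).1 h9)
          · have h9 := Nat.dvd_sub h hn
            rw [show Fintype.card Ω - 1 - (Fintype.card Ω - 2) = 1 by omega] at h9
            exact hq.ne_one (Nat.dvd_one.1 h9)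
        rw [← H.card_mul_index, Nat.factorization_mul Nat.card_pos.ne' Subgroup.index_ne_zero_of_finite,
          Finsupp.add_apply, Nat.factorization_eq_zero_of_not_dvd h4, add_zero]
      let P : Sylow q G := Sylow.ofCard ((Q : Subgroup H).map H.subtype) (by
        rw [Subgroup.card_map_of_injective H.subtype_injective, Q.card_eq_multiplicity, hfac])
      obtain ⟨n, hn, x, hx, hnx⟩ : ∃ n ∈ Subgroup.normalizer ((P : Subgroup G) : Set G), ∃ x ∈ (P : Subgroup G), n * x ≠ x * n := by
        by_contra hno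
        push Not at hno
        have hP : Subgroup.normalizer ((P : Subgroup G) : Set G) ≤ Subgroup.centralizer ((P : Subgroup G) : Set G) :=
          fun n hn => Subgroup.mem_centralizer_iff.2 fun x hx => (hno n hn x hx).symm
        refine hnil q hq hqH ⟨(MonoidHom.transferSylow P hP).ker, inferInstance, ?_⟩
        rw [(MonoidHom.ker_transferSylow_isComplement' P hP).symm.index_eq_card]
        exact P.card_eq_multiplicity
      have hPH : (P : Subgroup G) ≤ H := Subgroup.map_subtype_le _
      have hQ1 : (Q : Subgroup H) ≠ ⊥ := Q.ne_bot_of_dvd_card hqH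
      obtain ⟨g, hg, hg1⟩ := (Subgroup.bot_or_exists_ne_one _).resolve_left hQ1
      have hna : (n • a = a ∧ n • b = b) ∨ (n • a = b ∧ n • b = a) := by
        have key' : ∀ z, (z = a ∨ z = b) → n • z = a ∨ n • z = b := by
          intro z hz
          by_contra hno
          push Not at hno
          have h8 := (Subgroup.mem_normalizer_iff.1 hn (g : G)).1 ⟨g, hg, rfl⟩
          have h9 : (n * (g : G) * n⁻¹) • (n • z) = n • z := by
            rw [mul_smul, mul_smul, inv_smul_smul]
            rcases hz with rfl | rfl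
            · rw [(hH.1 g.2).1]
            · rw [(hH.1 g.2).2]
          exact hg1 (Subtype.ext (conj_eq_one_iff.1 (hsemi _ (hPH h8) _ hno.1 hno.2 h9)))
        rcases key' a (Or.inl rfl) with h | h <;> rcases key' b (Or.inr rfl) with h' | h'
        · exact absurd (smul_left_cancel n (h.trans h'.symm)) hab
        · exact Or.inl ⟨h, h'⟩
        · exact Or.inr ⟨h, h'⟩
        · exact absurd (smul_left_cancel n (h.trans h'.symm)) hab
      have fin : ∀ m ∈ H, m ∈ Subgroup.normalizer ((P : Subgroup G) : Set G) → ∀ x ∈ (P : Subgroup G), m * x ≠ x * m →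
          (Q : Subgroup H) ≤ commutator H ∧ ∃ n ∈ Subgroup.normalizer ((Q : Subgroup H) : Set H), ∃ x ∈ (Q : Subgroup H), n * x ≠ x * n := by
        intro m hm hmn x hx hmx
        obtain ⟨x', hx', rfl⟩ := hx
        have hmn' : (⟨m, hm⟩ : H) ∈ Subgroup.normalizer ((Q : Subgroup H) : Set H) := Subgroup.mem_normalizer_fintype fun y hy => by
          obtain ⟨y', hy', e⟩ := (Subgroup.mem_normalizer_iff.1 hmn (y : G)).1 ⟨y, hy, rfl⟩
          have e' : y' = ⟨m, hm⟩ * y * (⟨m, hm⟩ : H)⁻¹ := Subtype.ext e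
          exact e' ▸ hy'
        refine ⟨?_, _, hmn', x', hx', fun e => hmx (congrArg Subtype.val e)⟩
        have hQc : ¬ q ∣ (commutator H).index := by
          intro hd'
          have hnd : ¬ q ∣ Nat.card (commutator H) := fun h =>
            hq.ne_one (Nat.dvd_one.1 ((IsZGroup.coprime_commutator_index (G := H)) ▸ Nat.dvd_gcd h hd'))
          refine hmx (congrArg Subtype.val (show (⟨m, hm⟩ : H) * x' = x' * ⟨m, hm⟩ from ?_))
          set k := (⟨m, hm⟩ : H) * x' * (⟨m, hm⟩ : H)⁻¹ * x'⁻¹
          have hk1 : k ∈ (Q : Subgroup H) := mul_mem ((Subgroup.mem_normalizer_iff.1 hmn' x').1 hx') (inv_mem hx')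
          have hk2 : k ∈ commutator H := by
            have := Subgroup.commutator_mem_commutator (Subgroup.mem_top (⟨m, hm⟩ : H)) (Subgroup.mem_top x')
            rwa [commutatorElement_def, ← commutator_def] at this
          obtain ⟨j, hj⟩ := IsPGroup.iff_orderOf.1 Q.isPGroup' ⟨k, hk1⟩
          rw [Subgroup.orderOf_mk] at hj
          have hj0 : j = 0 := by
            by_contra h0
            exact hnd ((dvd_pow_self q h0).trans (hj ▸ Subgroup.orderOf_dvd_natCard (commutator H) hk2))
          rw [hj0, pow_zero, orderOf_eq_one_iff] at hj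
          exact mul_inv_eq_iff_eq_mul.1 (mul_inv_eq_one.1 hj)
        intro y hy
        obtain ⟨j, hj⟩ := IsPGroup.iff_orderOf.1 Q.isPGroup' ⟨y, hy⟩
        rw [Subgroup.orderOf_mk] at hj
        rw [← QuotientGroup.eq_one_iff, ← orderOf_eq_one_iff]
        have h5 := Nat.dvd_gcd (hj ▸ orderOf_map_dvd (QuotientGroup.mk' (commutator H)) y) (orderOf_dvd_natCard (QuotientGroup.mk' (commutator H) y))
        rw [show Nat.gcd (q ^ j) (Nat.card (H ⧸ commutator H)) = 1 from Nat.Coprime.pow_left j (hq.coprime_iff_not_dvd.2 hQc)] at h5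
        exact Nat.dvd_one.1 h5
      rcases hna with hna | hna
      · exact fin n (hH.2 hna) hn x hx hnx
      -- `n` swaps the two points
      have hnn : n * n ∈ H := hH.2 ⟨by rw [mul_smul, hna.1, hna.2], by rw [mul_smul, hna.2, hna.1]⟩
      by_cases hc2 : ∀ y ∈ (P : Subgroup G), n * n * y = y * (n * n)
      · exfalso
        -- `n` inverts `P`, and a conjugate of `d` lies in `P`
        obtain ⟨R, hR⟩ := (IsPGroup.of_card (n := 1) (by rw [Nat.card_zpowers, hdo, pow_one]) : IsPGroup q (Subgroup.zpowers d)).exists_le_sylow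
        obtain ⟨k, hk⟩ := MulAction.exists_smul_eq H R Q
        set d' := k * d * k⁻¹
        have hd' : d' ∈ (Q : Subgroup H) := by
          rw [← hk, Sylow.coe_subgroup_smul, Subgroup.mem_pointwise_smul_iff_inv_smul_mem, ← map_inv, MulAut.smul_def, MulAut.conj_apply]
          simp only [d', inv_inv, mul_assoc, inv_mul_cancel, mul_one, inv_mul_cancel_left]
          exact hR (Subgroup.mem_zpowers d)
        haveI : IsCyclic (Q : Subgroup H) := inferInstance
        haveI : IsCyclic (P : Subgroup G) := isCyclic_of_surjective ((H.subtype).subgroupMap (Q : Subgroup H)) (MonoidHom.subgroupMap_surjective _ _)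
        obtain ⟨⟨g₀, hg₀⟩, hgen⟩ := IsCyclic.exists_generator (α := (P : Subgroup G))
        obtain ⟨i, hi⟩ := Subgroup.mem_zpowers_iff.1 (hgen ⟨n * g₀ * n⁻¹, (Subgroup.mem_normalizer_iff.1 hn g₀).1 hg₀⟩)
        have hi' : g₀ ^ i = n * g₀ * n⁻¹ := congrArg Subtype.val hi
        have hpow : ∀ y ∈ (P : Subgroup G), n * y * n⁻¹ = y ^ i := fun y hy => by
          obtain ⟨j, hj⟩ := Subgroup.mem_zpowers_iff.1 (hgen ⟨y, hy⟩)
          have hj' : g₀ ^ j = y := congrArg Subtype.val hj
          rw [← hj', ← conj_zpow, ← hi', ← zpow_mul, ← zpow_mul, mul_comm]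
        have hinv : n * (d' : G) * n⁻¹ = (d' : G)⁻¹ := by
          obtain ⟨e, he⟩ := IsPGroup.iff_orderOf.1 P.isPGroup' ⟨g₀, hg₀⟩
          rw [Subgroup.orderOf_mk] at he
          have h6 : g₀ ^ (i * i) = g₀ := by
            rw [zpow_mul, ← hpow _ (zpow_mem hg₀ i), hi', show n * (n * g₀ * n⁻¹) * n⁻¹ = (n * n) * g₀ * (n * n)⁻¹ by group,
              hc2 g₀ hg₀, mul_inv_cancel_right]
          have h7 : (orderOf g₀ : ℤ) ∣ (i - 1) * (i + 1) := by
            rw [orderOf_dvd_iff_zpow_eq_one, show (i - 1) * (i + 1) = i * i + (-1) by ring, zpow_add, h6, zpow_neg_one, mul_inv_cancel]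
          have h8 : ¬ (q : ℤ) ∣ (i - 1) := fun hdi => by
            have h10 : ¬ (q : ℤ) ∣ (i + 1) := fun hdi' => by
              have := dvd_sub hdi' hdi
              rw [show i + 1 - (i - 1) = ((2 : ℕ) : ℤ) by push_cast; ring, Int.natCast_dvd_natCast] at this
              exact hq2 ((Nat.prime_dvd_prime_iff_eq hq Nat.prime_two).1 this)
            rw [he, Nat.cast_pow] at h7
            have h11 : IsCoprime ((q : ℤ) ^ e) (i + 1) := IsCoprime.pow_left ((Prime.coprime_iff_not_dvd (Nat.prime_iff_prime_int.1 hq)).2 h10)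
            have h12 := h11.dvd_of_dvd_mul_right h7
            refine hnx ?_
            have h13 : g₀ ^ i = g₀ := by
              rw [show i = (i - 1) + 1 by ring, zpow_add, zpow_one,
                orderOf_dvd_iff_zpow_eq_one.1 (by rw [he, Nat.cast_pow]; exact h12), one_mul]
            obtain ⟨j, hj⟩ := Subgroup.mem_zpowers_iff.1 (hgen ⟨x, hx⟩)
            have hj' : g₀ ^ j = x := congrArg Subtype.val hj
            refine mul_inv_eq_iff_eq_mul.1 ?_
            rw [hpow x hx, ← hj', ← zpow_mul, mul_comm, zpow_mul, h13]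
          rw [show n * (d' : G) * n⁻¹ = (d' : G) ^ i from hpow (d' : G) ⟨d', hd', rfl⟩]
          rw [he, Nat.cast_pow] at h7
          have h11 : IsCoprime ((q : ℤ) ^ e) (i - 1) := IsCoprime.pow_left ((Prime.coprime_iff_not_dvd (Nat.prime_iff_prime_int.1 hq)).2 h8)
          have h12 := h11.dvd_of_dvd_mul_left h7
          obtain ⟨j, hj⟩ := Subgroup.mem_zpowers_iff.1 (hgen ⟨(d' : G), ⟨d', hd', rfl⟩⟩)
          have hj' : g₀ ^ j = (d' : G) := congrArg Subtype.val hj
          rw [← hj', ← zpow_mul, ← mul_eq_one_iff_eq_inv, ← zpow_add, ← orderOf_dvd_iff_zpow_eq_one, he, Nat.cast_pow,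
            show j * i + j = j * (i + 1) by ring]
          exact h12.mul_left j
        set s' := (k : G) * s * (k : G)⁻¹
        have hs'c : s' * (d' : G) * s'⁻¹ = (d' : G) := by
          have hd0 : s * (d : G) * s⁻¹ = d := congrArg Subtype.val hd
          calc s' * (d' : G) * s'⁻¹ = (k : G) * (s * (d : G) * s⁻¹) * (k : G)⁻¹ := by simp only [s', d', Subgroup.coe_mul, Subgroup.coe_inv]; group
            _ = (d' : G) := by rw [hd0]; rfl
        have hm : n * s'⁻¹ ∈ H := by
          have hka := hH.1 k.2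
          have hki := hH.1 (H.inv_mem k.2)
          have e1 : s'⁻¹ = (k : G) * s * (k : G)⁻¹ := by simp only [s', mul_inv_rev, inv_inv, hsi, mul_assoc]
          rw [e1]
          exact hH.2 ⟨by rw [mul_smul, mul_smul, mul_smul, hki.1, hsa, hka.2, hna.2],
            by rw [mul_smul, mul_smul, mul_smul, hki.2, hsb, hka.1, hna.1]⟩
        have hmd : (n * s'⁻¹) * (d' : G) * (n * s'⁻¹)⁻¹ = (d' : G)⁻¹ := by
          have h5 : s'⁻¹ * (d' : G) * s' = (d' : G) := by
            conv_lhs => rw [← hs'c]
            group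
          calc n * s'⁻¹ * (d' : G) * (n * s'⁻¹)⁻¹ = n * (s'⁻¹ * (d' : G) * s') * n⁻¹ := by group
            _ = _ := by rw [h5, hinv]
        have hcomm : Commute ((n * s'⁻¹) ^ 2) (d' : G) := by
          refine mul_inv_eq_iff_eq_mul.1 ?_
          rw [pow_two]
          calc n * s'⁻¹ * (n * s'⁻¹) * (d' : G) * (n * s'⁻¹ * (n * s'⁻¹))⁻¹
              = n * s'⁻¹ * (n * s'⁻¹ * (d' : G) * (n * s'⁻¹)⁻¹) * (n * s'⁻¹)⁻¹ := by group
            _ = n * s'⁻¹ * (d' : G)⁻¹ * (n * s'⁻¹)⁻¹ := by rw [hmd]
            _ = (n * s'⁻¹ * (d' : G) * (n * s'⁻¹)⁻¹)⁻¹ := by group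
            _ = (d' : G) := by rw [hmd, inv_inv]
        obtain ⟨m', hm'⟩ := exists_pow_eq_self_of_coprime (x := n * s'⁻¹) (n := 2) (Nat.coprime_two_left.2 (hoddel _ hm))
        have hc' : Commute (n * s'⁻¹) (d' : G) := hm' ▸ hcomm.pow_left m'
        have h14 : (d' : G)⁻¹ = d' := hmd.symm.trans (by rw [hc'.eq, mul_inv_cancel_right])
        have h15 : orderOf d' = q := by rw [← hdo]; exact (MulAut.conj k).orderOf_eq d
        have h16 : (d' : G) ^ 2 = 1 := by rw [pow_two]; nth_rewrite 1 [← h14]; exact inv_mul_cancel _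
        have h17 : orderOf (d' : G) ∣ 2 := orderOf_dvd_of_pow_eq_one h16
        rw [Subgroup.orderOf_coe, h15] at h17
        exact hq2 ((Nat.prime_dvd_prime_iff_eq hq Nat.prime_two).1 h17)
      · push Not at hc2
        obtain ⟨y, hy, hny⟩ := hc2
        exact fin _ hnn (mul_mem hn hn) y hy hny
    -- the fixed points lie in `H'`
    have hCH' : ∀ d : H, σ d = d → d ∈ commutator H := by
      suffices hh : ∀ n (d : H), orderOf d = n → σ d = d → d ∈ commutator H from fun d => hh _ d rfl
      intro n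
      induction n using Nat.strong_induction_on with
      | _ n ih =>
        intro d hdn hd
        rw [← QuotientGroup.eq_one_iff]
        by_contra hne
        set o := orderOf (QuotientGroup.mk' (commutator H) d)
        have ho : o ≠ 1 := fun h => hne (orderOf_eq_one_iff.1 h)
        obtain ⟨q, hq, hqo⟩ := Nat.exists_prime_and_dvd ho
        haveI := Fact.mk hq
        have hqd : q ∣ orderOf d := hqo.trans (orderOf_map_dvd _ d)
        have hd' : σ (d ^ (orderOf d / q)) = d ^ (orderOf d / q) := by rw [map_pow, hd]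
        have hdo : orderOf (d ^ (orderOf d / q)) = q := orderOf_pow_orderOf_div (orderOf_pos d).ne' hqd
        obtain ⟨hle, -⟩ := key _ hd' q hq hdo default
        have h5 : q ∣ Nat.card (commutator H) := ((default : Sylow q H).dvd_card_of_dvd_card (hqd.trans (orderOf_dvd_natCard d))).trans (Subgroup.card_dvd_of_le hle)
        have h6 : q ∣ (commutator H).index := hqo.trans (orderOf_dvd_natCard _)
        exact hq.ne_one (Nat.dvd_one.1 ((IsZGroup.coprime_commutator_index (G := H)) ▸ Nat.dvd_gcd h5 h6))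
    haveI hcy : IsCyclic (commutator H) := IsZGroup.isCyclic_commutator H
    -- `s` inverts `H` modulo `H'`, hence `H'` is central
    have hsq : ∀ y : H, σ y * y ∈ commutator H := by
      intro y
      have hc' : ∀ w : H, σ (σ w * w) = w * σ w := fun w => by rw [map_mul, hσ2]
      set x := σ y * y
      have hx : σ x * x⁻¹ ∈ commutator H := by
        rw [hc', show y * σ y * x⁻¹ = ⁅y, σ y⁆ by simp only [x, commutatorElement_def]; group]
        rw [commutator_def]
        exact Subgroup.commutator_mem_commutator (Subgroup.mem_top _) (Subgroup.mem_top _)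
      obtain ⟨w, hw1, hw2⟩ : ∃ w ∈ Subgroup.zpowers (x⁻¹ * σ x), w * w = x⁻¹ * σ x := by
        have ho : Odd (orderOf (x⁻¹ * σ x)) := hodd.of_dvd_nat (orderOf_dvd_natCard _)
        obtain ⟨r, hr⟩ := ho
        refine ⟨(x⁻¹ * σ x) ^ (r + 1), Subgroup.pow_mem _ (Subgroup.mem_zpowers _) _, ?_⟩
        rw [← pow_add, show r + 1 + (r + 1) = orderOf (x⁻¹ * σ x) + 1 by omega, pow_succ, pow_orderOf_eq_one, one_mul]
      have hz : σ (x⁻¹ * σ x) = (x⁻¹ * σ x)⁻¹ := by rw [map_mul, map_inv, hσ2, mul_inv_rev, inv_inv]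
      have hw3 : σ w = w⁻¹ := by
        obtain ⟨j, rfl⟩ := Subgroup.mem_zpowers_iff.1 hw1
        rw [map_zpow, hz, inv_zpow]
      have hfx : σ (x * w) = x * w := by
        rw [map_mul, hw3, show σ x = x * (x⁻¹ * σ x) by group, ← hw2]; group
      have hz' : x⁻¹ * σ x ∈ commutator H := by
        have := (inferInstance : (commutator H).Normal).conj_mem _ hx x⁻¹
        rwa [inv_inv, show x⁻¹ * (σ x * x⁻¹) * x = x⁻¹ * σ x by group] at this
      have hwm : w ∈ commutator H := (Subgroup.zpowers_le.2 hz') hw1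
      have := mul_mem (hCH' _ hfx) (inv_mem hwm)
      rwa [mul_inv_cancel_right] at this
    obtain ⟨g₁, hg₁⟩ := hcy.exists_generator
    have hpw : ∀ h : H, ∃ i : ℤ, ∀ z ∈ commutator H, h * z * h⁻¹ = z ^ i := fun h => by
      obtain ⟨i, hi⟩ := Subgroup.mem_zpowers_iff.1 (hg₁ ⟨h * g₁ * h⁻¹, (inferInstance : (commutator H).Normal).conj_mem _ g₁.2 h⟩)
      have hi' : (g₁ : H) ^ i = h * g₁ * h⁻¹ := congrArg Subtype.val hi
      refine ⟨i, fun z hz => ?_⟩
      obtain ⟨j, hj⟩ := Subgroup.mem_zpowers_iff.1 (hg₁ ⟨z, hz⟩)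
      have hj' : (g₁ : H) ^ j = z := congrArg Subtype.val hj
      rw [← hj', ← conj_zpow, ← hi', ← zpow_mul, ← zpow_mul, mul_comm]
    have hσc : ∀ z ∈ commutator H, σ z ∈ commutator H := fun z hz =>
      (Subgroup.map_le_iff_le_comap.1 (by
        rw [commutator_def, Subgroup.map_commutator]; exact Subgroup.commutator_mono le_top le_top : (commutator H).map σ.toMonoidHom ≤ commutator H)) hz
    have hcen : ∀ h : H, ∀ z ∈ commutator H, h * z = z * h := by
      intro h z hz
      obtain ⟨i, hi⟩ := hpw h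
      have e1 : ∀ z ∈ commutator H, σ h * z * (σ h)⁻¹ = z ^ i := fun z hz => by
        have h1 := congrArg σ (hi (σ z) (hσc z hz))
        rwa [map_mul, map_mul, map_inv, map_zpow, hσ2] at h1
      have e2 : ∀ z ∈ commutator H, h * (h * z * h⁻¹) * h⁻¹ = z := fun z hz => by
        have hy := hsq h
        have hab' : (σ h * h) * z = z * (σ h * h) := by
          letI := IsCyclic.commGroup (α := commutator H)
          exact congrArg Subtype.val (mul_comm (⟨_, hy⟩ : commutator H) ⟨z, hz⟩)
        have h2 : σ h * (h * z * h⁻¹) * (σ h)⁻¹ = z := by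
          calc σ h * (h * z * h⁻¹) * (σ h)⁻¹ = (σ h * h) * z * (σ h * h)⁻¹ := by group
            _ = z := by rw [hab', mul_inv_cancel_right]
        rw [e1 _ ((inferInstance : (commutator H).Normal).conj_mem z hz h)] at h2
        rw [hi _ ((inferInstance : (commutator H).Normal).conj_mem z hz h)]
        exact h2
      have hc2 : Commute (h ^ 2) z := by
        refine mul_inv_eq_iff_eq_mul.1 ?_
        rw [pow_two]
        calc h * h * z * (h * h)⁻¹ = h * (h * z * h⁻¹) * h⁻¹ := by group
          _ = z := e2 z hz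
      obtain ⟨m, hm⟩ := exists_pow_eq_self_of_coprime (x := h) (n := 2) (Nat.coprime_two_left.2 (hodd.of_dvd_nat (orderOf_dvd_natCard h)))
      exact (hm ▸ hc2.pow_left m).eq
    have hc0 : orderOf c ≠ 1 := fun h => hc1 (orderOf_eq_one_iff.1 h)
    obtain ⟨q, hq, hqc⟩ := Nat.exists_prime_and_dvd hc0
    haveI := Fact.mk hq
    obtain ⟨hle, n, -, x, hx, hnx⟩ := key (c ^ (orderOf c / q)) (by rw [map_pow, hc]) q hq
      (orderOf_pow_orderOf_div (orderOf_pos c).ne' hqc) default
    exact hnx (hcen n x (hle hx))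
  have hinvσ := inverts_of_no_fixed σ hσ2 hnofix
  have hcomm : ∀ g h : H, g * h = h * g := fun g h => by
    have h1 := hinvσ (g * h)
    rw [map_mul, hinvσ g, hinvσ h, mul_inv_rev] at h1
    have h2 := congrArg (·⁻¹) h1
    simpa [mul_inv_rev] using h2.symm
  have hswap : ∀ t : G, t • a = b → t • b = a → ∀ h ∈ H, t * h * t⁻¹ = h⁻¹ := by
    intro t hta htb h hh
    have hm : s * t ∈ H := hH.2 ⟨by rw [mul_smul, hta, hsb], by rw [mul_smul, htb, hsa]⟩
    have e : t = s * (s * t) := by rw [← mul_assoc, hss, one_mul]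
    have h1 : (s * t) * h = h * (s * t) := congrArg Subtype.val (hcomm ⟨_, hm⟩ ⟨h, hh⟩)
    have h2 : s * h * s⁻¹ = h⁻¹ := congrArg Subtype.val (hinvσ ⟨h, hh⟩)
    calc t * h * t⁻¹ = (s * (s * t)) * h * (s * (s * t))⁻¹ := by rw [← e]
      _ = s * ((s * t) * h * (s * t)⁻¹) * s⁻¹ := by group
      _ = h⁻¹ := by rw [h1, mul_inv_cancel_right, h2]
  refine ⟨?_, le_antisymm (fun g hg => ?_) (fun g hg => Subgroup.mem_centralizer_iff.2 fun h hh =>
    congrArg Subtype.val (hcomm ⟨h, hh⟩ ⟨g, hg⟩)), hswap⟩
  · letI : CommGroup H := { (inferInstance : Group H) with mul_comm := hcomm }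
    infer_instance
  · obtain ⟨h₀, hh₀, hh1⟩ := (Subgroup.bot_or_exists_ne_one H).resolve_left hH1
    have hgc : h₀ * g = g * h₀ := Subgroup.mem_centralizer_iff.1 hg h₀ hh₀
    have key' : ∀ z, (z = a ∨ z = b) → g • z = a ∨ g • z = b := fun z hz => by
      by_contra hno
      push Not at hno
      refine hh1 (hsemi h₀ hh₀ _ hno.1 hno.2 ?_)
      rw [← mul_smul, hgc, mul_smul]
      rcases hz with rfl | rfl
      · rw [(hH.1 hh₀).1]
      · rw [(hH.1 hh₀).2]
    rcases key' a (Or.inl rfl) with h | h <;> rcases key' b (Or.inr rfl) with h' | h'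
    · exact absurd (smul_left_cancel g (h.trans h'.symm)) hab
    · exact hH.2 ⟨h, h'⟩
    · exfalso
      have h1 := hswap g h h' h₀ hh₀
      rw [← hgc, mul_inv_cancel_right] at h1
      have h2 : h₀ ^ 2 = 1 := by rw [pow_two]; nth_rewrite 1 [h1]; exact inv_mul_cancel h₀
      have h3' : orderOf h₀ ∣ Nat.gcd 2 (orderOf h₀) := Nat.dvd_gcd (orderOf_dvd_of_pow_eq_one h2) dvd_rfl
      rw [Nat.coprime_two_left.2 (hoddel _ hh₀), Nat.dvd_one, orderOf_eq_one_iff] at h3'
      exact hh1 h3'
    · exact absurd (smul_left_cancel g (h.trans h'.symm)) hab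

end Cfsg.Agent.S0739
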