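import Cfsg.Statements.S0741

import Mathlib

set_option autoImplicit false
set_option linter.style.haveILetI false
open Cfsg

namespace Cfsg.Agent.S0741

/-- If the two-point stabilisers of a finite Zassenhaus group of degree `n + 1` have even order `d`, then `2d ≥ n - 1`. -/
theorem result {G Ω : Type*} [Group G] [Finite G] [MulAction G Ω] [Fintype Ω] (hZ : Cfsg.IsZassenhausGroup G Ω) {a b : Ω} (hab : a ≠ b) (heven : Even (Nat.card ↥(MulAction.stabilizer G a ⊓ MulAction.stabilizer G b))) : Fintype.card Ω - 2 ≤ 2 * Nat.card ↥(MulAction.stabilizer G a ⊓ MulAction.stabilizer G b) := by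
  classical
  obtain ⟨hfaith, h2, h3, -, -⟩ := hZ
  haveI := hfaith
  haveI : Fact (Nat.Prime 2) := ⟨Nat.prime_two⟩
  haveI : Fintype G := Fintype.ofFinite G
  set H := MulAction.stabilizer G a ⊓ MulAction.stabilizer G b with hH
  have h2' : ∀ x y z w : Ω, x ≠ y → z ≠ w → ∃ g : G, g • x = z ∧ g • y = w :=
    fun x y z w h h' => MulAction.is_two_pretransitive_iff.mp h2 h h'
  obtain ⟨⟨t, htH⟩, ht⟩ := exists_prime_orderOf_dvd_card' (G := H) 2 heven.two_dvd
  rw [Subgroup.orderOf_mk] at ht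
  have hinv : ∀ q : {q : Ω × Ω // q.1 ≠ q.2}, ∃ u : G, u • q.1.1 = q.1.1 ∧ u • q.1.2 = q.1.2 ∧
      ∀ x, x ≠ q.1.1 → x ≠ q.1.2 → u • x ≠ x ∧ u • u • x = x := by
    intro q
    obtain ⟨g, hga, hgb⟩ := h2' a b q.1.1 q.1.2 hab q.2
    refine ⟨g * t * g⁻¹, ?_, ?_, fun x hx1 hx2 => ⟨fun hx => ?_, ?_⟩⟩
    · rw [← hga, mul_smul, mul_smul, inv_smul_smul, htH.1]
    · rw [← hgb, mul_smul, mul_smul, inv_smul_smul, htH.2]
    · have hne1 : g • a ≠ g • b := fun h => hab (MulAction.injective g h)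
      rw [← hga] at hx1
      rw [← hgb] at hx2
      have h4 := h3 (g * t * g⁻¹) (g • a) (g • b) x hne1 (Ne.symm hx2) (Ne.symm hx1)
        (by rw [mul_smul, mul_smul, inv_smul_smul, htH.1])
        (by rw [mul_smul, mul_smul, inv_smul_smul, htH.2]) hx
      have h5 : t = 1 := by simpa [mul_inv_eq_one] using h4
      rw [h5, orderOf_one] at ht
      omega
    · rw [← mul_smul]
      have h6 : g * t * g⁻¹ * (g * t * g⁻¹) = 1 := by
        have h7 : t * t = 1 := by rw [← pow_two, ← ht, pow_orderOf_eq_one]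
        calc g * t * g⁻¹ * (g * t * g⁻¹) = g * (t * t) * g⁻¹ := by group
          _ = 1 := by rw [h7]; group
      rw [h6, one_smul]
  choose u hu1 hu2 hu3 using hinv
  let S := Finset.univ.filter fun z : (Ω × Ω) × G => z.1.1 ≠ z.1.2 ∧ z.2 • z.1.1 = z.1.2 ∧ z.2 • z.1.2 = z.1.1
  let P := Finset.univ.filter fun z : {q : Ω × Ω // q.1 ≠ q.2} × Ω => z.2 ≠ z.1.1.1 ∧ z.2 ≠ z.1.1.2
  let f : {q : Ω × Ω // q.1 ≠ q.2} × Ω → (Ω × Ω) × G := fun z => ((z.2, u z.1 • z.2), u z.1)
  have hmaps : ∀ z ∈ P, f z ∈ S := by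
    intro z hz
    simp only [P, Finset.mem_filter, Finset.mem_univ, true_and] at hz
    simp only [S, f, Finset.mem_filter, Finset.mem_univ, true_and]
    exact ⟨Ne.symm (hu3 z.1 z.2 hz.1 hz.2).1, (hu3 z.1 z.2 hz.1 hz.2).2⟩
  have hfib : ∀ s ∈ S, (P.filter fun z => f z = s).card ≤ 2 := by
    intro s _
    rcases (P.filter fun z => f z = s).eq_empty_or_nonempty with h | ⟨z₀, hz₀⟩
    · rw [h]; simp
    have hne : z₀.1.1.2 ≠ z₀.1.1.1 := Ne.symm z₀.1.2
    refine le_trans (Finset.card_le_card (t := {z₀, (⟨(z₀.1.1.2, z₀.1.1.1), hne⟩, z₀.2)}) ?_) Finset.card_le_two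
    intro z hz
    simp only [Finset.mem_filter] at hz hz₀
    have heq : f z = f z₀ := hz.2.trans hz₀.2.symm
    simp only [f, Prod.mk.injEq] at heq
    obtain ⟨⟨hx, -⟩, hu⟩ := heq
    have hfix : ∀ w : Ω, u z.1 • w = w → w = z₀.1.1.1 ∨ w = z₀.1.1.2 := by
      intro w hw
      by_contra hc
      push Not at hc
      exact (hu3 z₀.1 w hc.1 hc.2).1 (hu ▸ hw)
    have h1 := hfix _ (hu1 z.1)
    have h2 := hfix _ (hu2 z.1)
    obtain ⟨⟨⟨c, d⟩, hcd⟩, x⟩ := z
    simp only [Finset.mem_insert, Finset.mem_singleton, Prod.mk.injEq, Subtype.ext_iff] at *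
    rcases h1 with h1 | h1 <;> rcases h2 with h2 | h2
    · exact absurd (h1.trans h2.symm) hcd
    · left; refine Prod.ext (Subtype.ext (Prod.ext h1 h2)) hx
    · right; exact ⟨⟨h1, h2⟩, hx⟩
    · exact absurd (h1.trans h2.symm) hcd
  have hPS := Finset.card_le_mul_card_image_of_maps_to hmaps 2 hfib
  set n := Fintype.card Ω with hn
  set m := Fintype.card {q : Ω × Ω // q.1 ≠ q.2} with hm
  have hm0 : 0 < m := Fintype.card_pos_iff.mpr ⟨⟨(a, b), hab⟩⟩
  have hP : P.card = m * (n - 2) := by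
    have h4 : ∀ q : {q : Ω × Ω // q.1 ≠ q.2},
        (Finset.univ.filter fun x : Ω => x ≠ q.1.1 ∧ x ≠ q.1.2).card = n - 2 := by
      intro q
      have h5 : (Finset.univ.filter fun x : Ω => x ≠ q.1.1 ∧ x ≠ q.1.2) = ({q.1.1, q.1.2} : Finset Ω)ᶜ := by
        ext x; simp [and_comm]
      rw [h5, Finset.card_compl, Finset.card_pair q.2]
    have h6 : P = Finset.univ.biUnion fun q : {q : Ω × Ω // q.1 ≠ q.2} =>
        (Finset.univ.filter fun x : Ω => x ≠ q.1.1 ∧ x ≠ q.1.2).image fun x => (q, x) := by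
      ext ⟨q, x⟩
      simp [P]
    rw [h6, Finset.card_biUnion]
    · rw [Finset.sum_congr rfl fun q _ => (Finset.card_image_of_injective _ (fun x y h => (Prod.mk.injEq _ _ _ _ ▸ h).2)).trans (h4 q),
        Finset.sum_const, Finset.card_univ, smul_eq_mul]
    · intro q _ q' _ hqq'
      simp only [Function.onFun, Finset.disjoint_left, Finset.mem_image]
      rintro _ ⟨x, -, rfl⟩ ⟨y, -, hy⟩
      exact hqq' (congrArg Prod.fst hy).symm
  have hS : S.card ≤ m * Nat.card H := by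
    have h7 : ∀ p : {q : Ω × Ω // q.1 ≠ q.2},
        (Finset.univ.filter fun g : G => g • p.1.1 = p.1.2 ∧ g • p.1.2 = p.1.1).card ≤ Nat.card H := by
      intro p
      obtain ⟨k, hka, hkb⟩ := h2' a b p.1.1 p.1.2 hab p.2
      obtain ⟨l, hla, hlb⟩ := h2' a b p.1.2 p.1.1 hab (Ne.symm p.2)
      rw [Nat.card_eq_fintype_card, ← Fintype.card_coe]
      refine Fintype.card_le_of_injective (fun g => (⟨l⁻¹ * g.1 * k, ?_⟩ : H)) ?_
      · obtain ⟨hg1, hg2⟩ := (Finset.mem_filter.mp g.2).2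
        refine ⟨?_, ?_⟩
        · show (l⁻¹ * g.1 * k) • a = a
          rw [mul_smul, mul_smul, hka, hg1, inv_smul_eq_iff, hla]
        · show (l⁻¹ * g.1 * k) • b = b
          rw [mul_smul, mul_smul, hkb, hg2, inv_smul_eq_iff, hlb]
      · intro g g' hgg'
        exact Subtype.ext (mul_left_cancel (mul_right_cancel (congrArg Subtype.val hgg')))
    have h8 : S ⊆ Finset.univ.biUnion fun p : {q : Ω × Ω // q.1 ≠ q.2} =>
        (Finset.univ.filter fun g : G => g • p.1.1 = p.1.2 ∧ g • p.1.2 = p.1.1).image fun g => (p.1, g) := by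
      intro z hz
      simp only [S, Finset.mem_filter, Finset.mem_univ, true_and] at hz
      simp only [Finset.mem_biUnion, Finset.mem_univ, true_and, Finset.mem_image, Finset.mem_filter]
      exact ⟨⟨z.1, hz.1⟩, z.2, hz.2, rfl⟩
    refine (Finset.card_le_card h8).trans (Finset.card_biUnion_le.trans ?_)
    refine (Finset.sum_le_sum fun p _ => Finset.card_image_le.trans (h7 p)).trans ?_
    rw [Finset.sum_const, Finset.card_univ, smul_eq_mul]
  have h9 : m * (n - 2) ≤ m * (2 * Nat.card H) := by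
    rw [← hP]
    calc P.card ≤ 2 * S.card := hPS
      _ ≤ 2 * (m * Nat.card H) := Nat.mul_le_mul_left 2 hS
      _ = _ := by ring
  exact Nat.le_of_mul_le_mul_left h9 hm0

end Cfsg.Agent.S0741
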