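import Cfsg.Statements.S0743

import Mathlib
import Cfsg.Agent.Perm.MultiTrans

set_option autoImplicit false
set_option linter.style.haveILetI false
open Cfsg

namespace Cfsg.Agent.S0743

/-- Gleason's Lemma: let `p` be a prime and `1 ≤ k < n`; if every `k`-subset of the `n` points is exactly the fixed-point set of some `p`-subgroup of `G`, then `G` is `k`-transitive. -/
theorem result {α : Type*} [Fintype α] [DecidableEq α] (G : Subgroup (Equiv.Perm α)) {p k : ℕ} (hp : p.Prime) (hk : 1 ≤ k) (hkn : k < Fintype.card α) (h : ∀ s : Finset α, s.card = k → ∃ P : Subgroup G, IsPGroup p P ∧ MulAction.fixedPoints P α = (s : Set α)) : MulAction.IsMultiplyPretransitive G α k := by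
  classical
  haveI : Fact p.Prime := ⟨hp⟩
  refine CfsgLib.Perm.isMultiplyPretransitive_of_fix_pred G hkn fun T hT a b ha hb => ?_
  let H : Subgroup G := fixingSubgroup G (T : Set α)
  have hH : ∀ (g : G), g ∈ H ↔ ∀ x ∈ T, (g : Equiv.Perm α) x = x := by
    intro g
    simp [H, mem_fixingSubgroup_iff, Subgroup.smul_def]
  have hA : ∀ (h : ↥(H)) (y : α), y ∈ ((T : Set α))ᶜ → h • y ∈ ((T : Set α))ᶜ := by
    intro h y hy hmem
    apply hy
    have h1 := (hH (h : G)).mp h.2 _ hmem
    have h2 : h • y = y := ((h : G) : Equiv.Perm α).injective h1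
    simpa [h2] using hmem
  have hB : ∀ x ∈ ((T : Set α))ᶜ, ∀ O : Set α, O ⊆ ((T : Set α))ᶜ → (∀ h : ↥(H), ∀ y ∈ O, h • y ∈ O) →
      p ∣ (O \ {x}).ncard := by
    intro x hx O hO hinv
    have hxT : x ∉ T := by simpa using hx
    obtain ⟨P, hP, hfix⟩ := h (insert x T) (by rw [Finset.card_insert_of_notMem hxT]; omega)
    have hfx : ∀ (u : P) (y : α), y = x ∨ y ∈ T → u • y = y := by
      intro u y hy
      have : y ∈ MulAction.fixedPoints P α := by rw [hfix]; simpa using hy
      exact this u
    have hPH : P ≤ H := fun u hu => (hH u).mpr fun y hy => hfx ⟨u, hu⟩ y (Or.inr hy)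
    let S : SubMulAction P α :=
      { carrier := O \ {x}
        smul_mem' := fun u y hy => ⟨hinv ⟨(u : G), hPH u.2⟩ y hy.1, fun he => hy.2 (by
          rw [Set.mem_singleton_iff] at he ⊢
          exact MulAction.injective u (he.trans (hfx u x (Or.inl rfl)).symm))⟩ }
    have hS : MulAction.fixedPoints P S = (∅ : Set S) := by
      rw [Set.eq_empty_iff_forall_notMem]
      intro y hy
      have hmem : (y : α) ∈ MulAction.fixedPoints P α := fun u => congrArg Subtype.val (hy u)
      rw [hfix, Finset.coe_insert, Set.mem_insert_iff] at hmem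
      rcases hmem with hm | hm
      · exact y.2.2 hm
      · exact hO y.2.1 hm
    have := hP.card_modEq_card_fixedPoints (α := S)
    have h0 : Nat.card (MulAction.fixedPoints P S) = 0 := by rw [hS]; simp
    rw [h0] at this
    have h2 : Nat.card S = (O \ {x}).ncard := Nat.card_coe_set_eq (O \ {x})
    rw [h2] at this
    exact Nat.modEq_zero_iff_dvd.mp this
  obtain ⟨g, hg⟩ := CfsgLib.Perm.exists_smul_eq_of_dvd (H := H) (Y := ((T : Set α))ᶜ)
    (q := p) hA hp.one_lt hB a
    (by simpa using ha) b (by simpa using hb)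
  exact ⟨_, (g : G).2, (hH _).mp g.2, hg⟩

end Cfsg.Agent.S0743
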