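import Cfsg.Statements.S0744

import Mathlib
import Cfsg.Agent.Perm.MultiTrans

set_option autoImplicit false
set_option linter.style.haveILetI false
open Cfsg

namespace Cfsg.Agent.S0744

/-- If for some `k > 1` the pointwise stabilisers of all `(k-1)`-subsets have the same order `> 1` and those of all `k`-subsets have the same order, then the group is `(k-1)`-transitive. -/
theorem result {α : Type*} [Fintype α] [DecidableEq α] (G : Subgroup (Equiv.Perm α)) {k : ℕ} (hk : 1 < k) (hkn : k ≤ Fintype.card α) (l m : ℕ) (hl : 1 < l) (hkm1 : ∀ s : Finset α, s.card = k - 1 → Nat.card (fixingSubgroup G (s : Set α)) = l) (hkm : ∀ s : Finset α, s.card = k → Nat.card (fixingSubgroup G (s : Set α)) = m) : MulAction.IsMultiplyPretransitive G α (k - 1) := by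
  classical
  have hG : ∀ (T : Finset α) (g : G), g ∈ fixingSubgroup G (T : Set α) ↔
      ∀ x ∈ T, (g : Equiv.Perm α) x = x := by
    intro T g
    simp [mem_fixingSubgroup_iff, Subgroup.smul_def]
  obtain ⟨T0, -, hT0⟩ := Finset.exists_subset_card_eq (s := (Finset.univ : Finset α))
    (n := k - 1) (by rw [Finset.card_univ]; omega)
  have hlt : k - 1 < Fintype.card α - 1 := by
    by_contra hle
    have hone : fixingSubgroup G (T0 : Set α) = ⊥ := by
      rw [Subgroup.eq_bot_iff_forall]
      intro g hg
      apply Subtype.ext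
      apply Equiv.ext
      intro x
      by_cases hx : x ∈ T0
      · exact (hG T0 g).mp hg x hx
      · by_contra hgx
        have hins : insert x T0 = Finset.univ := Finset.eq_univ_of_card _ (by
          rw [Finset.card_insert_of_notMem hx]; omega)
        have hmem : (g : Equiv.Perm α) x ∈ insert x T0 := hins ▸ Finset.mem_univ _
        rcases Finset.mem_insert.mp hmem with h1 | h1
        · exact hgx h1
        · exact hgx ((g : Equiv.Perm α).injective ((hG T0 g).mp hg _ h1))
    have := hkm1 T0 hT0
    rw [hone, Subgroup.card_bot] at this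
    omega
  have horb : ∀ (T : Finset α), T.card = k - 1 → ∀ x ∉ T,
      (MulAction.orbit (fixingSubgroup G (T : Set α)) x).ncard * m = l := by
    intro T hT x hx
    have h1 := Nat.card_congr
      (MulAction.orbitProdStabilizerEquivGroup (fixingSubgroup G (T : Set α)) x)
    rw [Nat.card_prod, hkm1 T hT, Nat.card_coe_set_eq] at h1
    rw [← h1]
    congr 1
    rw [← hkm (insert x T) (by rw [Finset.card_insert_of_notMem hx]; omega)]
    refine Nat.card_congr ⟨fun u => ⟨⟨(u : G), ?_⟩, ?_⟩, fun u => ⟨(u.1 : G), ?_⟩, ?_, ?_⟩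
    · exact (hG T _).mpr fun y hy => (hG _ _).mp u.2 y (Finset.mem_insert_of_mem hy)
    · exact (hG _ _).mp u.2 x (Finset.mem_insert_self _ _)
    · refine (hG _ _).mpr fun y hy => ?_
      rcases Finset.mem_insert.mp hy with rfl | hy
      · exact u.2
      · exact (hG T _).mp u.1.2 y hy
    · exact fun u => rfl
    · exact fun u => rfl
  obtain ⟨x0, hx0⟩ : ∃ x, x ∉ T0 := by
    by_contra hc
    push Not at hc
    rw [Finset.eq_univ_of_forall hc, Finset.card_univ] at hT0
    omega
  set d := (MulAction.orbit (fixingSubgroup G (T0 : Set α)) x0).ncard with hd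
  have hm : 0 < m := Nat.pos_of_ne_zero fun h0 => by
    have := horb T0 hT0 x0 hx0
    rw [h0, Nat.mul_zero] at this
    omega
  have hd' : ∀ (T : Finset α), T.card = k - 1 → ∀ x ∉ T,
      (MulAction.orbit (fixingSubgroup G (T : Set α)) x).ncard = d := fun T hT x hx =>
    Nat.eq_of_mul_eq_mul_right hm ((horb T hT x hx).trans (horb T0 hT0 x0 hx0).symm)
  have hd1 : 1 < d := by
    by_contra hle
    have hall : ∀ g ∈ fixingSubgroup G (T0 : Set α), g = 1 := by
      intro g hg
      apply Subtype.ext
      apply Equiv.ext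
      intro x
      by_cases hx : x ∈ T0
      · exact (hG T0 g).mp hg x hx
      · have h1 := hd' T0 hT0 x hx
        exact (Set.ncard_le_one (s := MulAction.orbit (fixingSubgroup G (T0 : Set α)) x)
          (Set.toFinite _)).mp (by omega)
          _ ⟨⟨g, hg⟩, rfl⟩ x (MulAction.mem_orbit_self x)
    have := hkm1 T0 hT0
    rw [(Subgroup.eq_bot_iff_forall _).mpr hall, Subgroup.card_bot] at this
    omega
  refine CfsgLib.Perm.isMultiplyPretransitive_of_fix_pred G (by omega) fun S hS a b ha hb => ?_
  have hA : ∀ (h : ↥(fixingSubgroup G (S : Set α))) (y : α), y ∈ ((S : Set α))ᶜ → h • y ∈ ((S : Set α))ᶜ := by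
    intro h y hy hmem
    apply hy
    have h1 := (hG S (h : G)).mp h.2 _ hmem
    have h2 : h • y = y := ((h : G) : Equiv.Perm α).injective h1
    simpa [h2] using hmem
  have hB : ∀ x ∈ ((S : Set α))ᶜ, ∀ O : Set α, O ⊆ ((S : Set α))ᶜ → (∀ h : ↥(fixingSubgroup G (S : Set α)), ∀ y ∈ O, h • y ∈ O) →
      d ∣ (O \ {x}).ncard := by
    intro x hx O hO hinv
    have hxS : x ∉ S := by simpa using hx
    set T := insert x S with hTdef
    have hT : T.card = k - 1 := by rw [hTdef, Finset.card_insert_of_notMem hxS]; omega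
    refine CfsgLib.Perm.dvd_ncard_of_orbits (H := fixingSubgroup G (T : Set α)) (O \ {x}) ?_ ?_
    · intro u y hy
      refine ⟨hinv ⟨(u : G), (hG S _).mpr fun z hz => (hG T _).mp u.2 z
        (Finset.mem_insert_of_mem hz)⟩ y hy.1, fun he => hy.2 ?_⟩
      rw [Set.mem_singleton_iff] at he ⊢
      exact ((u : G) : Equiv.Perm α).injective
        (he.trans ((hG T _).mp u.2 x (Finset.mem_insert_self _ _)).symm)
    · intro y hy
      refine hd' T hT y fun hmem => ?_
      rcases Finset.mem_insert.mp hmem with h1 | h1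
      · exact hy.2 h1
      · exact hO hy.1 h1
  obtain ⟨g, hg⟩ := CfsgLib.Perm.exists_smul_eq_of_dvd (H := fixingSubgroup G (S : Set α))
    (Y := ((S : Set α))ᶜ) (q := d) hA hd1 hB a
    (by simpa using ha) b (by simpa using hb)
  exact ⟨_, (g : G).2, (hG S _).mp g.2, hg⟩

end Cfsg.Agent.S0744
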