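import Cfsg.Statements.S0754
import Cfsg.Agent.Lie.Orders

set_option autoImplicit false
open Cfsg

namespace Cfsg.Agent.S0754

/-- In a field F with q^2 elements, every non-zero μ with μ^q = μ (that is, μ in the subfield of order q) has exactly q + 1 solutions λ of λ^(q+1) = μ. -/
theorem result {F : Type*} [Field F] [Fintype F] {q : ℕ} (hF : Fintype.card F = q ^ 2) (μ : F) (hμ : μ ≠ 0) (hμq : μ ^ q = μ) : Nat.card {x : F // x ^ (q + 1) = μ} = q + 1 := by
  classical
  have hq : 2 ≤ q := by
    by_contra hc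
    have h1 : 1 < Fintype.card F := Fintype.one_lt_card
    interval_cases q <;> simp [hF] at h1
  let N : Fˣ →* Fˣ := powMonoidHom (q + 1)
  let T : Fˣ →* Fˣ := powMonoidHom (q - 1)
  have hu : Nat.card Fˣ = (q + 1) * (q - 1) := by
    rw [CfsgLib.Lie.Orders.card_units_eq, Nat.card_eq_fintype_card, hF]
    simpa using Nat.sq_sub_sq q 1
  have hN : Nat.card N.ker = q + 1 := by
    rw [IsCyclic.card_powMonoidHom_ker, hu]
    exact Nat.gcd_eq_right (dvd_mul_right _ _)
  have hT : Nat.card T.ker = q - 1 := by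
    rw [IsCyclic.card_powMonoidHom_ker, hu]
    exact Nat.gcd_eq_right (dvd_mul_left _ _)
  have hRN : Nat.card N.range = q - 1 := by
    have h1 := N.ker.card_mul_index
    rw [Subgroup.index_ker, hN, hu] at h1
    exact Nat.eq_of_mul_eq_mul_left (by omega) h1
  have hle : N.range ≤ T.ker := by
    rintro _ ⟨u, rfl⟩
    change (u ^ (q + 1)) ^ (q - 1) = 1
    rw [← pow_mul, ← hu, pow_card_eq_one']
  have heq : N.range = T.ker := Subgroup.eq_of_le_of_card_ge hle (by rw [hRN, hT])
  have hmem : Units.mk0 μ hμ ∈ N.range := by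
    rw [heq]
    refine Units.ext ?_
    have h1 : μ ^ (q - 1) * μ = 1 * μ := by
      rw [← pow_succ, Nat.sub_add_cancel (by omega : 1 ≤ q), hμq, one_mul]
    simpa [T] using mul_right_cancel₀ hμ h1
  obtain ⟨u, hu'⟩ := hmem
  have huv : (u : F) ^ (q + 1) = μ := by simpa [N] using congrArg Units.val hu'
  refine Eq.trans (Nat.card_congr ?_) hN
  exact
    { toFun := fun x => ⟨Units.mk0 x.1 (fun h => hμ (by rw [← x.2, h, zero_pow (by omega)])) * u⁻¹, by
        refine Units.ext ?_
        simp [N, mul_pow, inv_pow, x.2, huv, hμ]⟩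
      invFun := fun k => ⟨(k.1 : F) * u, by
        rw [mul_pow, huv]
        have h := congrArg Units.val k.2
        simp [N] at h
        rw [h, one_mul]⟩
      left_inv := fun x => Subtype.ext (by simp)
      right_inv := fun k => Subtype.ext (Units.ext (by simp)) }

end Cfsg.Agent.S0754
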