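import Cfsg.Statements.S0755
import Cfsg.Agent.Lie.OrthBasis

set_option autoImplicit false
open Cfsg

namespace Cfsg.Agent.S0755

/-- Classification of Hermitian forms over finite fields: if σ is a non-identity involutive automorphism of the finite field F and B is a non-degenerate conjugate-symmetric σ-sesquilinear form on the finite-dimensional space V, then V has a B-orthonormal basis. -/
theorem result {F V : Type*} [Field F] [Finite F] [AddCommGroup V] [Module F V] [FiniteDimensional F V] (σ : F →+* F) (hσ : σ ≠ RingHom.id F) (hσ2 : ∀ a : F, σ (σ a) = a) (B : V →ₛₗ[σ] V →ₗ[F] F) (hS : B.IsSymm) (hB : B.Nondegenerate) : ∃ b : Module.Basis (Fin (Module.finrank F V)) F V, ∀ i j, B (b i) (b j) = if i = j then 1 else 0 := by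
  obtain ⟨a, ha⟩ : ∃ a, σ a ≠ a := by
    by_contra hc
    push_neg at hc
    exact hσ (RingHom.ext hc)
  have hS' : ∀ x y, σ (B x y) = B y x := fun x y => hS.eq x y
  obtain ⟨e, he⟩ := CfsgLib.Lie.OrthBasis.exists_orthonormal B hS' hB.1
    (CfsgLib.Lie.OrthBasis.hpol_herm B ⟨a, ha⟩ hS')
    (fun c hc0 hc => CfsgLib.Lie.OrthBasis.exists_norm σ hσ hσ2 c hc0 hc) _ le_rfl
  refine ⟨basisOfLinearIndependentOfCardEqFinrank' _ (CfsgLib.Lie.OrthBasis.indep B
    (fun i j h => by rw [he, if_neg h]) (fun i => by rw [he, if_pos rfl]; exact one_ne_zero))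
    (Fintype.card_fin _), fun i j => ?_⟩
  simpa using he i j

end Cfsg.Agent.S0755
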