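import Cfsg.Statements.S0757


set_option autoImplicit false
open Cfsg

namespace Cfsg.Agent.S0757

/-- The two diagonal forms Σ x_i^2 and Σ_(i<n) x_i^2 + α x_n^2 on F^(n+1), with α a non-square and 2 ≠ 0 in F, are inequivalent quadratic forms (so over a finite field of odd order there are exactly two classes of non-singular symmetric bilinear forms in each dimension). -/
theorem result {F : Type*} [Field F] (h2 : (2 : F) ≠ 0) (n : ℕ) (α : F) (hα : ¬ IsSquare α) : ¬ (QuadraticMap.weightedSumSquares F (fun _ : Fin (n + 1) => (1 : F))).Equivalent (QuadraticMap.weightedSumSquares F (fun i : Fin (n + 1) => if i = Fin.last n then α else (1 : F))) := by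
  classical
  rintro ⟨e⟩
  let w : Fin (n + 1) → F := fun i => if i = Fin.last n then α else 1
  let M := LinearMap.toMatrix' (e.toLinearEquiv : (Fin (n + 1) → F) →ₗ[F] (Fin (n + 1) → F))
  have hpol : ∀ (c : Fin (n + 1) → F) (x y : Fin (n + 1) → F),
      QuadraticMap.polar (QuadraticMap.weightedSumSquares F c) x y = 2 * ∑ i, c i * (x i * y i) := by
    intro c x y
    simp only [QuadraticMap.polar, QuadraticMap.weightedSumSquares_apply, Pi.add_apply, smul_eq_mul,
      ← Finset.sum_sub_distrib, Finset.mul_sum]
    exact Finset.sum_congr rfl fun i _ => by ring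
  have hM : Matrix.transpose M * Matrix.diagonal w * M = 1 := by
    ext i j
    have h1 : QuadraticMap.polar (QuadraticMap.weightedSumSquares F w) (e (Pi.single i 1)) (e (Pi.single j 1)) =
        QuadraticMap.polar (QuadraticMap.weightedSumSquares F (fun _ => (1 : F))) (Pi.single i 1) (Pi.single j 1) := by
      simp only [QuadraticMap.polar, ← map_add]
      rw [e.map_app, e.map_app, e.map_app]
    rw [hpol, hpol] at h1
    have h2' := mul_left_cancel₀ h2 h1
    simp only [Matrix.mul_apply, Matrix.diagonal_apply, Matrix.transpose_apply, mul_ite, mul_zero,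
      Finset.sum_ite_eq', Finset.mem_univ, if_true]
    have hMi : ∀ k l, M k l = e (Pi.single l 1) k := fun k l => by
      simp [M, LinearMap.toMatrix'_apply]
    simp only [hMi]
    rw [show ∑ k, e (Pi.single i 1) k * w k * e (Pi.single j 1) k = ∑ k, w k * (e (Pi.single i 1) k * e (Pi.single j 1) k) from
      Finset.sum_congr rfl fun k _ => by ring, h2']
    simp [Matrix.one_apply, Pi.single_apply, eq_comm]
  have hd := congrArg Matrix.det hM
  rw [Matrix.det_mul, Matrix.det_mul, Matrix.det_transpose, Matrix.det_diagonal, Matrix.det_one] at hd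
  have hw : ∏ i, w i = α := by simp [w, Finset.prod_ite_eq']
  rw [hw] at hd
  have hd0 : M.det ≠ 0 := fun h => by simp [h] at hd
  refine hα ⟨M.det⁻¹, ?_⟩
  field_simp
  linear_combination hd

end Cfsg.Agent.S0757
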