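import Cfsg.Statements.S0758


set_option autoImplicit false
open Cfsg

namespace Cfsg.Agent.S0758

/-- For a finite field F of odd order q and a non-square α: the form x² + y² is isotropic iff q ≡ 1 mod 4, and the form x² + α y² is isotropic iff q ≡ 3 mod 4. -/
theorem result {F : Type*} [Field F] [Fintype F] (h2 : (2 : F) ≠ 0) (α : F) (hα : ¬ IsSquare α) : ((∃ x y : F, (x ≠ 0 ∨ y ≠ 0) ∧ x ^ 2 + y ^ 2 = 0) ↔ Fintype.card F % 4 = 1) ∧ ((∃ x y : F, (x ≠ 0 ∨ y ≠ 0) ∧ x ^ 2 + α * y ^ 2 = 0) ↔ Fintype.card F % 4 = 3) := by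
  classical
  have hring : ringChar F ≠ 2 := fun h => h2 (by
    have := ringChar.spec F 2
    rw [h] at this
    exact_mod_cast this.2 dvd_rfl)
  have hodd : Fintype.card F % 2 = 1 := FiniteField.odd_card_of_char_ne_two hring
  have hiff : ∀ c : F, c ≠ 0 → ((∃ x y : F, (x ≠ 0 ∨ y ≠ 0) ∧ x ^ 2 + c * y ^ 2 = 0) ↔ IsSquare (-c)) := by
    intro c hc
    constructor
    · rintro ⟨x, y, hxy, h⟩
      have hy : y ≠ 0 := fun hy => by
        subst hy
        simp at h
        rcases hxy with h' | h'
        · exact h' h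
        · exact h' rfl
      refine ⟨x / y, ?_⟩
      field_simp
      linear_combination -h
    · rintro ⟨r, hr⟩
      exact ⟨r, 1, Or.inr one_ne_zero, by linear_combination -hr⟩
  refine ⟨?_, ?_⟩
  · have := hiff 1 one_ne_zero
    simp only [one_mul] at this
    rw [this, FiniteField.isSquare_neg_one_iff]
    omega
  · have hα0 : α ≠ 0 := fun h => hα (h ▸ IsSquare.zero)
    rw [hiff α hα0]
    have hq := (quadraticChar_one_iff_isSquare (F := F) (neg_ne_zero.2 hα0))
    have h1 := (quadraticChar_one_iff_isSquare (F := F) (neg_ne_zero.2 (one_ne_zero (α := F))))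
    have hm : quadraticChar F α = -1 := quadraticChar_neg_one_iff_not_isSquare.2 hα
    rw [← hq, show -α = (-1) * α by ring, map_mul, hm]
    rcases quadraticChar_dichotomy (neg_ne_zero.2 (one_ne_zero (α := F))) with h | h
    · have := FiniteField.isSquare_neg_one_iff.1 (h1.1 h)
      rw [h]; simp; omega
    · have : ¬ IsSquare (-1 : F) := fun hh => by rw [h1.2 hh] at h; norm_num at h
      rw [FiniteField.isSquare_neg_one_iff] at this
      rw [h]; simp; omega

end Cfsg.Agent.S0758
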