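import Cfsg.Statements.S0759


set_option autoImplicit false
open Cfsg
open scoped Matrix Kronecker

namespace Cfsg.Agent.S0759

/-- Type of the orthonormal form: over a finite field of odd order q and for m ≥ 1, the quadratic form Σ_(i<2m) x_i² on F^(2m) admits an m-dimensional subspace on which it vanishes identically if and only if it is not the case that q ≡ 3 (mod 4) and m is odd. -/
theorem result {F : Type*} [Field F] [Fintype F] (h2 : (2 : F) ≠ 0) (m : ℕ) (hm : 1 ≤ m) : (∃ W : Submodule F (Fin (2 * m) → F), Module.finrank F W = m ∧ ∀ w ∈ W, ∑ i, w i ^ 2 = 0) ↔ ¬ (Fintype.card F % 4 = 3 ∧ Odd m) := by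
  classical
  have hring : ringChar F ≠ 2 := fun h => h2 (by
    have := ringChar.spec F 2
    rw [h] at this
    exact_mod_cast this.2 dvd_rfl)
  let e : Fin m ⊕ Fin m ≃ Fin (2 * m) := finSumFinEquiv.trans (finCongr (two_mul m).symm)
  constructor
  · rintro ⟨W, hW, h0⟩ ⟨h3, hodd⟩
    obtain ⟨C, hC⟩ := Submodule.exists_isCompl W
    have hCdim : Module.finrank F C = m := by
      have := Submodule.finrank_add_eq_of_isCompl hC
      rw [hW, Module.finrank_fin_fun] at this
      omega
    let bC := Module.finBasisOfFinrankEq F C hCdim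
    let bW := Module.finBasisOfFinrankEq F W hW
    let b := (bW.prod bC).map (Submodule.prodEquivOfIsCompl W C hC)
    let P : Matrix (Fin m ⊕ Fin m) (Fin m ⊕ Fin m) F := Matrix.of fun r c => b c (e r)
    have hP : P.det ≠ 0 := by
      exact (Matrix.isUnit_iff_isUnit_det P).1 (by
        rw [← Matrix.linearIndependent_cols_iff_isUnit]
        have hli : LinearIndependent F (fun c => (LinearMap.funLeft F F e) (b c)) :=
          b.linearIndependent.map' _ (LinearMap.ker_eq_bot.2 (LinearMap.funLeft_injective_of_surjective F F _ e.surjective))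
        exact hli) |>.ne_zero
    have hW2 : ∀ u v : W, ∑ i, (u : Fin (2 * m) → F) i * (v : Fin (2 * m) → F) i = 0 := by
      intro u v
      have e1 := h0 _ (u + v).2
      have e2 : ∑ i, ((u + v : W) : Fin (2 * m) → F) i ^ 2 = ∑ i, (u : Fin (2 * m) → F) i ^ 2 +
          ∑ i, (v : Fin (2 * m) → F) i ^ 2 + 2 * ∑ i, (u : Fin (2 * m) → F) i * (v : Fin (2 * m) → F) i := by
        rw [Finset.mul_sum, ← Finset.sum_add_distrib, ← Finset.sum_add_distrib]
        exact Finset.sum_congr rfl fun i _ => by simp; ring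
      rw [e1, h0 _ u.2, h0 _ v.2] at e2
      exact (mul_eq_zero.1 (by linear_combination -e2 : (2 : F) * _ = 0)).resolve_left h2
    set G := Matrix.transpose P * P with hG
    have h11 : G.toBlocks₁₁ = 0 := by
      ext i j
      have := hW2 (bW i) (bW j)
      rw [← e.sum_comp] at this
      simpa [hG, Matrix.toBlocks₁₁, Matrix.mul_apply, P, b] using this
    have h21 : G.toBlocks₂₁ = Matrix.transpose G.toBlocks₁₂ := by
      ext i j
      simp [hG, Matrix.toBlocks₂₁, Matrix.toBlocks₁₂, Matrix.mul_apply, mul_comm]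
    let K : Matrix (Fin m ⊕ Fin m) (Fin m ⊕ Fin m) F := Matrix.fromBlocks 0 1 (-1) 0
    have hK : K.det = 1 := by
      have : K = Matrix.fromBlocks 1 1 0 1 * Matrix.fromBlocks 1 0 (-1) 1 * Matrix.fromBlocks 1 1 0 1 := by
        simp [K, Matrix.fromBlocks_multiply]
      rw [this, Matrix.det_mul, Matrix.det_mul, Matrix.det_fromBlocks_zero₂₁, Matrix.det_fromBlocks_zero₁₂]
      simp
    have hGK : G * K = Matrix.fromBlocks (-G.toBlocks₁₂) 0 (-G.toBlocks₂₂) G.toBlocks₂₁ := by
      conv_lhs => rw [← Matrix.fromBlocks_toBlocks G, h11]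
      simp [K, Matrix.fromBlocks_multiply]
    have hd := congrArg Matrix.det hGK
    rw [Matrix.det_mul, hK, mul_one, hG, Matrix.det_mul, Matrix.det_transpose, ← hG,
      Matrix.det_fromBlocks_zero₁₂, h21, Matrix.det_transpose, Matrix.det_neg, Fintype.card_fin,
      hodd.neg_one_pow] at hd
    have ha : G.toBlocks₁₂.det ≠ 0 := fun h => hP (by simpa [h] using hd)
    have hsq : IsSquare (-1 : F) := ⟨P.det / G.toBlocks₁₂.det, by field_simp; linear_combination -hd⟩
    rw [FiniteField.isSquare_neg_one_iff] at hsq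
    exact hsq h3
  · intro hc
    obtain ⟨M, hM⟩ : ∃ M : Matrix (Fin m) (Fin m) F, Matrix.transpose M * M = -1 := by
      by_cases h3 : Fintype.card F % 4 = 3
      · obtain ⟨k, hk⟩ : ∃ k, m = 2 * k := by
          rcases Nat.even_or_odd m with h | h
          · exact ⟨m / 2, by rcases h with ⟨r, hr⟩; omega⟩
          · exact absurd ⟨h3, h⟩ hc
        obtain ⟨a, b, hab⟩ : ∃ a b : F, a ^ 2 + b ^ 2 = -1 := by
          obtain ⟨a, b, h⟩ := FiniteField.exists_root_sum_quadratic (R := F)
            (f := Polynomial.X ^ 2) (g := Polynomial.X ^ 2 + Polynomial.C 1)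
            (by simp) (Polynomial.degree_X_pow_add_C two_pos 1) (by omega)
          exact ⟨a, b, by simp at h; linear_combination h⟩
        let ε : Fin 2 × Fin k ≃ Fin m := finProdFinEquiv.trans (finCongr hk.symm)
        let M0 : Matrix (Fin 2 × Fin k) (Fin 2 × Fin k) F :=
          Matrix.kroneckerMap (· * ·) !![a, -b; b, a] (1 : Matrix (Fin k) (Fin k) F)
        refine ⟨Matrix.reindex ε ε M0, ?_⟩
        have hA : Matrix.transpose !![a, -b; b, a] * !![a, -b; b, a] = (-1 : F) • (1 : Matrix (Fin 2) (Fin 2) F) := by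
          ext i j
          fin_cases i <;> fin_cases j <;> simp [Matrix.mul_apply, Fin.sum_univ_two] <;>
            first | linear_combination hab | ring
        rw [Matrix.reindex_apply, Matrix.transpose_submatrix, Matrix.submatrix_mul_equiv,
          ← Matrix.kroneckerMap_transpose, ← Matrix.mul_kronecker_mul, hA, Matrix.transpose_one, one_mul,
          Matrix.smul_kronecker, Matrix.one_kronecker_one]
        ext i j
        simp [Matrix.one_apply, ε.symm.injective.eq_iff]
      · obtain ⟨i, hi⟩ := FiniteField.isSquare_neg_one_iff.2 h3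
        refine ⟨i • 1, ?_⟩
        simp [Matrix.transpose_smul, smul_smul, ← hi]
    let L : (Fin m → F) →ₗ[F] (Fin (2 * m) → F) := (LinearMap.funLeft F F e.symm).comp
      ((LinearEquiv.sumArrowLequivProdArrow (Fin m) (Fin m) F F).symm.toLinearMap.comp
        (LinearMap.id.prod M.mulVecLin))
    have hL : ∀ c x, L c x = Sum.elim c (M *ᵥ c) (e.symm x) := fun c x => by
      simp [L, LinearMap.funLeft_apply]
      cases e.symm x <;> rfl
    refine ⟨LinearMap.range L, ?_, ?_⟩
    · rw [LinearMap.finrank_range_of_inj, Module.finrank_fin_fun]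
      intro c c' h
      funext i
      have := congrFun h (e (.inl i))
      rwa [hL, hL, e.symm_apply_apply] at this
    · rintro _ ⟨c, rfl⟩
      rw [← e.sum_comp, Fintype.sum_sum_type]
      simp only [hL, e.symm_apply_apply, Sum.elim_inl, Sum.elim_inr]
      have h1 : (M *ᵥ c) ⬝ᵥ (M *ᵥ c) = -(c ⬝ᵥ c) := by
        rw [Matrix.dotProduct_mulVec, ← Matrix.mulVec_transpose, Matrix.mulVec_mulVec, hM,
          Matrix.neg_mulVec, Matrix.one_mulVec, neg_dotProduct]
      simp only [dotProduct] at h1
      simp only [sq, h1]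
      ring

end Cfsg.Agent.S0759
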