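import Cfsg.Statements.S0760
import Cfsg.Agent.Lie.Witt
import Cfsg.Agent.Lie.Quad

set_option autoImplicit false
open Cfsg

namespace Cfsg.Agent.S0760

/-- Witt index is well defined: if Q is a quadratic form on a finite-dimensional space V over a finite field with non-degenerate polar form, and W₁, W₂ are subspaces on which Q vanishes that are maximal with this property, then W₁ and W₂ have the same dimension, and twice this dimension is at most dim V. -/
theorem result {F V : Type*} [Field F] [Finite F] [AddCommGroup V] [Module F V] [FiniteDimensional F V] (Q : QuadraticForm F V) (hQ : (QuadraticMap.polarBilin Q).Nondegenerate) (W₁ W₂ : Submodule F V) (h₁ : ∀ w ∈ W₁, Q w = 0) (h₂ : ∀ w ∈ W₂, Q w = 0) (hmax₁ : ∀ W : Submodule F V, W₁ ≤ W → (∀ w ∈ W, Q w = 0) → W = W₁) (hmax₂ : ∀ W : Submodule F V, W₂ ≤ W → (∀ w ∈ W, Q w = 0) → W = W₂) : Module.finrank F W₁ = Module.finrank F W₂ ∧ 2 * Module.finrank F W₁ ≤ Module.finrank F V := by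
  have key : ∀ A B : Submodule F V, (∀ w ∈ A, Q w = 0) → (∀ w ∈ B, Q w = 0) →
      (∀ W : Submodule F V, A ≤ W → (∀ w ∈ W, Q w = 0) → W = A) → ¬ Module.finrank F A < Module.finrank F B := by
    intro A B hA hB hmax hlt
    let b := Module.finBasis F A
    let c := Module.finBasis F B
    let f0 : A →ₗ[F] B := b.constr F (fun i => c (Fin.castLE hlt.le i))
    have hf0 : Function.Injective f0 := b.injective_constr_of_linearIndependent
      (c.linearIndependent.comp _ (Fin.castLE_injective _))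
    obtain ⟨g, hg, hg'⟩ := CfsgLib.Lie.Witt.witt_quadratic Q hQ A (B.subtype.comp f0)
      (B.injective_subtype.comp hf0) (fun a => by rw [hA _ a.2]; exact hB _ (f0 a).2)
    have hle : A ≤ B.map (g.symm : V →ₗ[F] V) := fun a ha =>
      ⟨g a, by rw [hg' ⟨a, ha⟩]; exact (f0 ⟨a, ha⟩).2, g.symm_apply_apply a⟩
    have h0 : ∀ w ∈ B.map (g.symm : V →ₗ[F] V), Q w = 0 := by
      rintro _ ⟨w, hw, rfl⟩
      rw [← hg]
      simpa using hB w hw
    have h := hmax _ hle h0
    have h2 := congrArg (fun W : Submodule F V => Module.finrank F W) h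
    simp only [LinearEquiv.finrank_map_eq] at h2
    omega
  refine ⟨le_antisymm (not_lt.1 (key W₂ W₁ h₂ h₁ hmax₂)) (not_lt.1 (key W₁ W₂ h₁ h₂ hmax₁)), ?_⟩
  let P := QuadraticMap.polarBilin Q
  let R : V →ₗ[F] (W₁ →ₗ[F] F) := ((LinearMap.lcomp F F W₁.subtype)).comp (LinearMap.flip P)
  have hR : Function.Surjective R := by
    intro φ
    obtain ⟨ψ, hψ⟩ := φ.exists_extend
    obtain ⟨y, hy⟩ := CfsgLib.Lie.Quad.exists_rep P hQ ψ
    refine ⟨y, LinearMap.ext fun w => ?_⟩
    change P (w : V) y = φ w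
    rw [hy, ← hψ]
    rfl
  have hker : W₁ ≤ LinearMap.ker R := fun y hy => LinearMap.mem_ker.2 (LinearMap.ext fun w => by
    change QuadraticMap.polar (⇑Q) (w : V) y = 0
    rw [QuadraticMap.polar, h₁ _ (W₁.add_mem w.2 hy), h₁ _ w.2, h₁ _ hy]
    simp)
  have h1 := LinearMap.finrank_range_add_finrank_ker R
  rw [LinearMap.range_eq_top.2 hR, finrank_top, Subspace.dual_finrank_eq] at h1
  have h2 := Submodule.finrank_mono hker
  omega

end Cfsg.Agent.S0760
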