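import Cfsg.Statements.S0761
import Cfsg.Agent.Lie.Quad

set_option autoImplicit false
open Cfsg

namespace Cfsg.Agent.S0761

/-- Hyperbolic partners: let B be a non-degenerate bilinear form on a finite-dimensional space, either alternating, or symmetric with 2 ≠ 0. If Z is a subspace on which B vanishes, x ∉ Z is isotropic and orthogonal to Z, then there is an isotropic y with B x y = 1 which is orthogonal to Z. -/
theorem result {F V : Type*} [Field F] [AddCommGroup V] [Module F V] [FiniteDimensional F V] (B : LinearMap.BilinForm F V) (hB : B.Nondegenerate) (hform : B.IsAlt ∨ (B.IsSymm ∧ (2 : F) ≠ 0)) (x : V) (Z : Submodule F V) (hxZ : x ∉ Z) (hx : B x x = 0) (hxz : ∀ z ∈ Z, B x z = 0) (hZ : ∀ z ∈ Z, ∀ z' ∈ Z, B z z' = 0) : ∃ y : V, B y y = 0 ∧ B x y = 1 ∧ ∀ z ∈ Z, B z y = 0 := by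
  obtain ⟨φ, hφ, hφ0⟩ := Submodule.exists_dual_map_eq_bot_of_notMem hxZ inferInstance
  obtain ⟨y, hy⟩ := CfsgLib.Lie.Quad.exists_rep B hB ((φ x)⁻¹ • φ)
  have hy1 : B x y = 1 := by rw [hy]; simp [hφ]
  have hy0 : ∀ z ∈ Z, B z y = 0 := fun z hz => by
    have : φ z ∈ Z.map φ := ⟨z, hz, rfl⟩
    rw [hφ0, Submodule.mem_bot] at this
    rw [hy, LinearMap.smul_apply, this, smul_zero]
  rcases hform with hA | ⟨hS, h2⟩
  · exact ⟨y, hA y, hy1, hy0⟩
  · refine ⟨y - (B y y / 2) • x, ?_, ?_, fun z hz => ?_⟩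
    · have hyx : B y x = 1 := by rw [← hS.eq, hy1]
      simp [map_sub, map_smul, hx, hy1, hyx]
      field_simp
      ring
    · simp [map_sub, map_smul, hx, hy1]
    · have hzx : B z x = 0 := by rw [← hS.eq]; exact hxz z hz
      simp [map_sub, map_smul, hy0 z hz, hzx]

end Cfsg.Agent.S0761
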