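import Cfsg.Statements.S0762
import Cfsg.Agent.Lie.Quad

set_option autoImplicit false
open Cfsg

namespace Cfsg.Agent.S0762

/-- In characteristic two over a finite field, a quadratic form on a space of dimension at least 3 vanishes on some non-zero vector. -/
theorem result {F V : Type*} [Field F] [Finite F] [CharP F 2] [AddCommGroup V] [Module F V] [FiniteDimensional F V] (Q : QuadraticForm F V) (h3 : 3 ≤ Module.finrank F V) : ∃ v : V, v ≠ 0 ∧ Q v = 0 := by
  have : Nontrivial V := Module.nontrivial_of_finrank_pos (R := F) (by omega)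
  obtain ⟨u, hu⟩ := exists_ne (0 : V)
  by_cases hQu : Q u = 0
  · exact ⟨u, hu, hQu⟩
  set B := QuadraticMap.polarBilin Q u with hB
  obtain ⟨v, hv, hvu⟩ : ∃ v ∈ LinearMap.ker B, v ∉ Submodule.span F {u} := by
    by_contra hc
    push_neg at hc
    have h1 := Submodule.finrank_mono (show LinearMap.ker B ≤ Submodule.span F {u} from hc)
    rw [finrank_span_singleton hu] at h1
    have h2 := LinearMap.finrank_range_add_finrank_ker B
    have h3 := Submodule.finrank_le (LinearMap.range B)
    rw [Module.finrank_self] at h3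
    omega
  obtain ⟨r, hr⟩ := CfsgLib.Lie.Quad.char_two_sq (Q v / Q u)
  refine ⟨v + r • u, fun h => hvu ?_, ?_⟩
  · rw [show v = (-r) • u by rw [neg_smul]; exact eq_neg_of_add_eq_zero_left h]
    exact Submodule.smul_mem _ _ (Submodule.mem_span_singleton_self u)
  · have hv0 : QuadraticMap.polar (⇑Q) u v = 0 := LinearMap.mem_ker.1 hv
    rw [QuadraticMap.map_add (f := ⇑Q), QuadraticMap.map_smul, QuadraticMap.polar_smul_right,
      QuadraticMap.polar_comm, hv0, smul_zero, add_zero, smul_eq_mul, hr,
      div_mul_cancel₀ _ hQu, CharTwo.add_self_eq_zero]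

end Cfsg.Agent.S0762
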