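import Cfsg.Statements.S0763
import Cfsg.Agent.Lie.Quad

set_option autoImplicit false
open Cfsg

namespace Cfsg.Agent.S0763

/-- Binary quadratic forms in characteristic two over a finite field: if Q is a quadratic form on a 2-dimensional space whose polar form is non-degenerate, then either there are vectors v, w with Q v = Q w = 0 and polar value 1 (Q is xy in these coordinates), or there are v, w and μ with Q v = 1, Q w = μ, polar value 1 and x² + x + μ without roots in F (Q is x² + xy + μy²). -/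
theorem result {F V : Type*} [Field F] [Finite F] [CharP F 2] [AddCommGroup V] [Module F V] (Q : QuadraticForm F V) (h2 : Module.finrank F V = 2) (hQ : (QuadraticMap.polarBilin Q).Nondegenerate) : (∃ v w : V, LinearIndependent F ![v, w] ∧ Q v = 0 ∧ Q w = 0 ∧ QuadraticMap.polar Q v w = 1) ∨ (∃ (v w : V) (μ : F), LinearIndependent F ![v, w] ∧ (∀ x : F, x ^ 2 + x + μ ≠ 0) ∧ Q v = 1 ∧ Q w = μ ∧ QuadraticMap.polar Q v w = 1) := by
  have : FiniteDimensional F V := Module.finite_of_finrank_eq_succ h2
  have : Nontrivial V := Module.nontrivial_of_finrank_pos (R := F) (by omega)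
  have hself : ∀ v : V, QuadraticMap.polar (⇑Q) v v = 0 := fun v => by
    rw [QuadraticMap.polar_self, two_smul, CharTwo.add_self_eq_zero]
  have hind : ∀ v w : V, QuadraticMap.polar (⇑Q) v w = 1 → LinearIndependent F ![v, w] := by
    intro v w h
    have hv : v ≠ 0 := fun h0 => by simp [h0] at h
    rw [LinearIndependent.pair_iff' hv]
    intro a ha
    rw [← ha, QuadraticMap.polar_smul_right, hself, smul_zero] at h
    exact zero_ne_one h
  have hpartner : ∀ v : V, v ≠ 0 → ∃ w, QuadraticMap.polar (⇑Q) v w = 1 := by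
    intro v hv
    obtain ⟨z, hz⟩ : ∃ z, QuadraticMap.polar (⇑Q) v z ≠ 0 := by
      by_contra hc
      push_neg at hc
      exact hv (hQ.1 v hc)
    exact ⟨(QuadraticMap.polar (⇑Q) v z)⁻¹ • z, by rw [QuadraticMap.polar_smul_right, smul_eq_mul, inv_mul_cancel₀ hz]⟩
  by_cases hs : ∃ v : V, v ≠ 0 ∧ Q v = 0
  · obtain ⟨v, hv, hQv⟩ := hs
    obtain ⟨w, hw⟩ := hpartner v hv
    have hw' : QuadraticMap.polar (⇑Q) v (w + Q w • v) = 1 := by
      rw [QuadraticMap.polar_add_right, QuadraticMap.polar_smul_right, hself, smul_zero, add_zero, hw]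
    refine Or.inl ⟨v, w + Q w • v, hind _ _ hw', hQv, ?_, hw'⟩
    rw [QuadraticMap.map_add (f := ⇑Q), QuadraticMap.map_smul, hQv, smul_zero, add_zero,
      QuadraticMap.polar_smul_right, QuadraticMap.polar_comm, hw, smul_eq_mul, mul_one,
      CharTwo.add_self_eq_zero]
  · push_neg at hs
    obtain ⟨u, hu⟩ := exists_ne (0 : V)
    obtain ⟨r, hr⟩ := CfsgLib.Lie.Quad.char_two_sq (Q u)⁻¹
    have hv1 : Q (r • u) = 1 := by rw [QuadraticMap.map_smul, smul_eq_mul, hr, inv_mul_cancel₀ (hs u hu)]
    have hv : r • u ≠ 0 := fun h => by simp [h] at hv1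
    obtain ⟨w, hw⟩ := hpartner _ hv
    refine Or.inr ⟨r • u, w, Q w, hind _ _ hw, fun x hx => ?_, hv1, rfl, hw⟩
    refine hs (x • (r • u) + w) (fun h0 => ?_) ?_
    · have h1 : QuadraticMap.polar (⇑Q) (r • u) (x • (r • u) + w) = 0 := by
        rw [h0, QuadraticMap.polar_zero_right]
      rw [QuadraticMap.polar_add_right, QuadraticMap.polar_smul_right, hself, smul_zero, zero_add, hw] at h1
      exact one_ne_zero h1
    · rw [QuadraticMap.map_add (f := ⇑Q), QuadraticMap.map_smul, hv1, QuadraticMap.polar_smul_left, hw,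
        smul_eq_mul, smul_eq_mul, mul_one, mul_one, ← hx]
      ring

end Cfsg.Agent.S0763
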