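import Cfsg.Statements.S0769
import Cfsg.Agent.Lie.Orders

set_option autoImplicit false
open Cfsg

namespace Cfsg.Agent.S0769

/-- Order of the Borel subgroup of GL_n(q): the invertible lower-triangular n × n matrices over a field with q elements number q^(n(n-1)/2) (q-1)^n (unitriangular part times the diagonal torus). -/
theorem result {F : Type*} [Field F] [Fintype F] {q : ℕ} (hF : Fintype.card F = q) (n : ℕ) : Nat.card {g : Matrix.GeneralLinearGroup (Fin n) F // ∀ i j : Fin n, i < j → (g : Matrix (Fin n) (Fin n) F) i j = 0} = q ^ (n * (n - 1) / 2) * (q - 1) ^ n := by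
  classical
  let P : Type := (i : Fin n) × Fin (i : ℕ)
  let L : Type _ := {g : Matrix.GeneralLinearGroup (Fin n) F //
    ∀ i j : Fin n, i < j → (g : Matrix (Fin n) (Fin n) F) i j = 0}
  have hdet : ∀ M : Matrix (Fin n) (Fin n) F, (∀ i j : Fin n, i < j → M i j = 0) →
      M.det = ∏ i, M i i := fun M h =>
    Matrix.det_of_isLowerTriangular M (fun i j hij => h i j hij)
  have hdiag : ∀ g : L, ∀ i, (g.1 : Matrix (Fin n) (Fin n) F) i i ≠ 0 := fun g i h => by
    have := g.1.det_ne_zero
    rw [hdet _ g.2] at this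
    exact this (Finset.prod_eq_zero (Finset.mem_univ i) h)
  let mat : (Fin n → Fˣ) × (P → F) → Matrix (Fin n) (Fin n) F := fun y i j =>
    if h : (j : ℕ) < (i : ℕ) then y.2 ⟨i, ⟨j, h⟩⟩ else if i = j then (y.1 i : F) else 0
  have hmat : ∀ y i j, i < j → mat y i j = 0 := fun y i j h => by
    simp [mat, h.ne]
    intro h'
    exact absurd h' h.le.not_gt
  have hmat0 : ∀ y, (mat y).det ≠ 0 := fun y => by
    rw [hdet _ (hmat y), Finset.prod_ne_zero_iff]
    intro i _
    simp [mat]
  let e : L ≃ (Fin n → Fˣ) × (P → F) :=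
    { toFun := fun g => (fun i => Units.mk0 _ (hdiag g i),
        fun p => (g.1 : Matrix (Fin n) (Fin n) F) p.1 ⟨p.2, lt_trans p.2.isLt p.1.isLt⟩)
      invFun := fun y => ⟨Matrix.GeneralLinearGroup.mkOfDetNeZero (mat y) (hmat0 y), hmat y⟩
      left_inv := fun g => Subtype.ext (Units.ext (by
        funext i j
        change mat _ i j = _
        by_cases h : (j : ℕ) < (i : ℕ)
        · simp only [mat]; rw [dif_pos h]
        · by_cases h2 : i = j
          · subst h2; simp [mat, h]
          · simp [mat, h, h2, g.2 i j (lt_of_le_of_ne (Fin.le_def.2 (not_lt.1 h)) h2)]))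
      right_inv := fun y => Prod.ext
        (funext fun i => Units.ext (by change mat y i i = _; simp [mat]))
        (funext fun p => by
          change mat y p.1 ⟨p.2, _⟩ = _
          simp only [mat]; rw [dif_pos p.2.isLt]) }
  rw [Nat.card_congr e, Nat.card_prod, Nat.card_fun, Nat.card_fun, Nat.card_eq_fintype_card (α := F),
    hF, CfsgLib.Lie.Orders.card_units_eq, Nat.card_eq_fintype_card (α := F), hF, mul_comm]
  congr 1
  · congr 1
    rw [Nat.card_eq_fintype_card, Fintype.card_sigma]
    simp only [Fintype.card_fin]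
    rw [Fin.sum_univ_eq_sum_range (fun i => i), Finset.sum_range_id]
  · simp

end Cfsg.Agent.S0769
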