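import Cfsg.Statements.S0770
-- import your own Cfsg.Agent.* helpers here

set_option autoImplicit false
open Cfsg

namespace Cfsg.Agent.S0770

/-- For a field with at least 3 elements, an invertible matrix normalises the subgroup of invertible diagonal matrices of GL_n if and only if it is monomial (exactly one non-zero entry in each row). -/
theorem result {F : Type*} [Field F] (hF : ∃ a : F, a ≠ 0 ∧ a ≠ 1) (n : ℕ) (g : Matrix.GeneralLinearGroup (Fin n) F) : g ∈ Subgroup.normalizer ((Units.map (Matrix.diagonalRingHom (Fin n) F).toMonoidHom).range : Subgroup (Matrix.GeneralLinearGroup (Fin n) F)) ↔ ∀ i : Fin n, ∃! j : Fin n, (g : Matrix (Fin n) (Fin n) F) i j ≠ 0 := by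
  classical
  obtain ⟨a, ha0, ha1⟩ := hF
  obtain ⟨G, hG⟩ : ∃ G, G = (g : Matrix (Fin n) (Fin n) F) := ⟨_, rfl⟩
  obtain ⟨T, hT⟩ : ∃ T, T = ((Units.map (Matrix.diagonalRingHom (Fin n) F).toMonoidHom).range :
      Subgroup (Matrix.GeneralLinearGroup (Fin n) F)) := ⟨_, rfl⟩
  rw [← hT, ← hG]
  have hmem : ∀ x : GL (Fin n) F, x ∈ T ↔ ∃ d : Fin n → F, (x : Matrix (Fin n) (Fin n) F) = Matrix.diagonal d := by
    intro x
    rw [hT]
    constructor
    · rintro ⟨d, rfl⟩; exact ⟨(d : Fin n → F), rfl⟩
    · rintro ⟨d, hd⟩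
      have hne : ∀ i, d i ≠ 0 := fun i h => by
        have hdet : (x : Matrix (Fin n) (Fin n) F).det ≠ 0 := Matrix.det_ne_zero_of_right_inverse (Units.mul_inv x)
        rw [hd, Matrix.det_diagonal] at hdet
        exact hdet (Finset.prod_eq_zero (Finset.mem_univ i) h)
      refine ⟨⟨d, fun i => (d i)⁻¹, funext fun i => mul_inv_cancel₀ (hne i),
        funext fun i => inv_mul_cancel₀ (hne i)⟩, Units.ext hd.symm⟩
  have hdet : G.det ≠ 0 := hG ▸ Matrix.det_ne_zero_of_right_inverse (Units.mul_inv g)
  have hrow : ∀ i, ∃ j, G i j ≠ 0 := fun i => by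
    by_contra h
    push Not at h
    exact hdet (Matrix.det_eq_zero_of_row_eq_zero i h)
  constructor
  · intro hg i
    obtain ⟨j, hj⟩ := hrow i
    refine ⟨j, hj, fun k hk => ?_⟩
    by_contra hjk
    have hne : ∀ l : Fin n, (if l = j then a else 1) ≠ 0 := fun l => by split_ifs <;> simp [ha0]
    obtain ⟨d, hd⟩ : ∃ d : GL (Fin n) F, (d : Matrix (Fin n) (Fin n) F) = Matrix.diagonal (fun l => if l = j then a else 1) :=
      ⟨Matrix.GeneralLinearGroup.mkOfDetNeZero (Matrix.diagonal (fun l => if l = j then a else 1))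
        (by rw [Matrix.det_diagonal]; exact Finset.prod_ne_zero_iff.2 fun l _ => hne l), rfl⟩
    obtain ⟨d', hd'⟩ := (hmem _).1 ((Subgroup.mem_normalizer_iff.1 hg d).1 ((hmem d).2 ⟨_, hd⟩))
    have h : G * Matrix.diagonal (fun l => if l = j then a else 1) = Matrix.diagonal d' * G := by
      rw [← hd', ← hd, hG, Units.val_mul, Units.val_mul, Units.inv_mul_cancel_right]
    have e1 := congrFun (congrFun h i) j
    have e2 := congrFun (congrFun h i) k
    simp only [Matrix.mul_diagonal, Matrix.diagonal_mul, if_true] at e1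
    simp only [Matrix.mul_diagonal, Matrix.diagonal_mul, if_neg hjk, mul_one] at e2
    have h1 : a = d' i := mul_left_cancel₀ hj (by linear_combination e1)
    have h2 : 1 = d' i := mul_left_cancel₀ hk (by linear_combination e2)
    exact ha1 (h1.trans h2.symm)
  · intro h
    choose σ hσ hσu using h
    have hsurj : Function.Surjective σ := fun j => by
      by_contra hj
      push Not at hj
      refine hdet (Matrix.det_eq_zero_of_column_eq_zero j fun i => ?_)
      by_contra hij
      exact hj i (hσu i j hij).symm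
    obtain ⟨e, he⟩ : ∃ e : Fin n ≃ Fin n, ∀ i, e i = σ i :=
      ⟨Equiv.ofBijective σ ⟨Finite.injective_iff_surjective.2 hsurj, hsurj⟩, fun _ => rfl⟩
    have key : ∀ d : Fin n → F, G * Matrix.diagonal d = Matrix.diagonal (fun i => d (σ i)) * G := fun d => by
      ext i j
      rw [Matrix.mul_diagonal, Matrix.diagonal_mul, mul_comm]
      by_cases hij : G i j = 0
      · rw [hij, mul_zero, mul_zero]
      · rw [hσu i j hij]
    rw [Subgroup.mem_normalizer_iff]
    intro x
    rw [hmem, hmem]
    constructor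
    · rintro ⟨d, hd⟩
      refine ⟨fun i => d (σ i), ?_⟩
      rw [Units.val_mul, Units.val_mul, hd, ← hG, key, hG, Matrix.mul_assoc, Units.mul_inv, Matrix.mul_one]
    · rintro ⟨d, hd⟩
      refine ⟨fun j => d (e.symm j), ?_⟩
      have h2 := key fun j => d (e.symm j)
      simp only [← he, Equiv.symm_apply_apply] at h2
      have hx : G * (x : Matrix (Fin n) (Fin n) F) = Matrix.diagonal d * G := by
        rw [← hd, hG, Units.val_mul, Units.val_mul, Units.inv_mul_cancel_right]
      have h3 := congrArg (fun Y => ((g⁻¹ : GL (Fin n) F) : Matrix (Fin n) (Fin n) F) * Y) (hx.trans h2.symm)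
      simpa [hG, ← Matrix.mul_assoc] using h3

end Cfsg.Agent.S0770
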