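import Cfsg.Statements.S0773
import Cfsg.Agent.Lie.ParabolicMax

set_option autoImplicit false
open Cfsg

namespace Cfsg.Agent.S0773

variable {F : Type*} [Field F]

theorem mem_iff [Finite F] {n : ℕ} (k : ℕ) (g : GL (Fin n) F) :
    g ∈ Cfsg.stabilizing (Cfsg.glToMat (Fin n) F) {v : Fin n → F | ∀ i : Fin n, k ≤ (i : ℕ) → v i = 0} ↔
      ∀ i j : Fin n, k ≤ (i : ℕ) → (j : ℕ) < k → (g : Matrix (Fin n) (Fin n) F) i j = 0 := by
  constructor
  · intro h i j hi hj
    have h1 := (h (Pi.single j 1)).1 (fun l hl => Pi.single_eq_of_ne (by rintro rfl; omega) _) i hi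
    simpa [Cfsg.glToMat, Matrix.mulVec_single] using h1
  · intro h
    have hfwd : ∀ v : Fin n → F, (∀ i : Fin n, k ≤ (i : ℕ) → v i = 0) →
        ∀ i : Fin n, k ≤ (i : ℕ) → Matrix.mulVec (g : Matrix (Fin n) (Fin n) F) v i = 0 := by
      intro v hv i hi
      rw [Matrix.mulVec, dotProduct]
      refine Finset.sum_eq_zero fun j _ => ?_
      rcases Nat.lt_or_ge (j : ℕ) k with hj | hj
      · rw [h i j hi hj, zero_mul]
      · rw [hv j hj, mul_zero]
    intro v
    refine ⟨hfwd v, fun hv => ?_⟩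
    let f : {v : Fin n → F // ∀ i : Fin n, k ≤ (i : ℕ) → v i = 0} → {v : Fin n → F // ∀ i : Fin n, k ≤ (i : ℕ) → v i = 0} :=
      fun w => ⟨_, hfwd w.1 w.2⟩
    have hinj : ∀ {u w : Fin n → F}, Matrix.mulVec (g : Matrix (Fin n) (Fin n) F) u =
        Matrix.mulVec (g : Matrix (Fin n) (Fin n) F) w → u = w := fun {u w} e => by
      have := congrArg (fun x => Matrix.mulVec ((g⁻¹ : GL (Fin n) F) : Matrix (Fin n) (Fin n) F) x) e
      simpa [Matrix.mulVec_mulVec] using this
    obtain ⟨w, hw⟩ := Finite.surjective_of_injective (f := f)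
      (fun u w e => Subtype.ext (hinj (congrArg Subtype.val e))) ⟨_, hv⟩
    rw [← hinj (congrArg Subtype.val hw)]
    exact w.2

theorem finrank_W {n : ℕ} (k : ℕ) (hk : k ≤ n) (W : Submodule F (Fin n → F))
    (hW : ∀ v, v ∈ W ↔ ∀ i : Fin n, k ≤ (i : ℕ) → v i = 0) : Module.finrank F W = k := by
  let e : W ≃ₗ[F] (Fin k → F) :=
    { toFun := fun v i => v.1 (Fin.castLE hk i)
      map_add' := fun _ _ => rfl
      map_smul' := fun _ _ => rfl
      invFun := fun u => ⟨fun i => if h : (i : ℕ) < k then u ⟨i, h⟩ else 0, (hW _).2 fun i hi => dif_neg (by omega)⟩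
      left_inv := fun v => Subtype.ext (funext fun i => by
        show (if h : (i : ℕ) < k then v.1 (Fin.castLE hk ⟨i, h⟩) else 0) = v.1 i
        split_ifs with h
        · rfl
        · exact ((hW _).1 v.2 i (by omega)).symm)
      right_inv := fun u => funext fun i => by
        show (if h : ((Fin.castLE hk i : Fin n) : ℕ) < k then u ⟨(Fin.castLE hk i : Fin n), h⟩ else 0) = u i
        rw [dif_pos (by simp)]
        rfl }
  rw [e.finrank_eq, Module.finrank_fin_fun]

open Matrix CfsgLib.Lie.ParabolicMax in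
/-- the coordinate subspace is the only proper non-zero subspace invariant under its stabiliser -/
theorem only_invariant {n : ℕ} (W U : Submodule F (Fin n → F))
    (hU : ∀ g : GL (Fin n) F, (∀ x, x ∈ W ↔ (g : Matrix (Fin n) (Fin n) F) *ᵥ x ∈ W) →
      ∀ x ∈ U, (g : Matrix (Fin n) (Fin n) F) *ᵥ x ∈ U) (hU0 : U ≠ ⊥) (hU1 : U ≠ ⊤) : U = W := by
  have hdual : ∀ (S : Submodule F (Fin n → F)) (w : Fin n → F), w ∉ S →
      ∃ a : Fin n → F, a ⬝ᵥ w = 1 ∧ ∀ x ∈ S, a ⬝ᵥ x = 0 := by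
    intro S w hw
    obtain ⟨f, hf, hfW⟩ := Submodule.exists_dual_map_eq_bot_of_notMem hw inferInstance
    have ha : ∀ x, (fun i => (f w)⁻¹ * f (Pi.single i 1)) ⬝ᵥ x = (f w)⁻¹ * f x := fun x => by
      conv_rhs => rw [pi_eq_sum_univ' x, map_sum, Finset.mul_sum]
      simp only [dotProduct, map_smul, smul_eq_mul]
      exact Finset.sum_congr rfl fun i _ => by ring
    refine ⟨_, by rw [ha, inv_mul_cancel₀ hf], fun x hx => ?_⟩
    have h := Submodule.mem_map_of_mem (f := f) hx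
    rw [hfW, Submodule.mem_bot] at h
    rw [ha, h, mul_zero]
  have hle : U ≤ W := by
    intro w hw
    by_contra hwW
    obtain ⟨a, ha1, haW⟩ := hdual W w hwW
    refine hU1 (eq_top_iff.2 fun x _ => ?_)
    have hu : a ⬝ᵥ (x - (a ⬝ᵥ x) • w) = 0 := by
      rw [dotProduct_sub, dotProduct_smul, ha1, smul_eq_mul, mul_one, sub_self]
    have h1 := hU (tv _ a hu) (fun y => by
      rw [tv_mulVec]
      constructor
      · intro hy; rw [haW y hy]; simpa using hy
      · intro hy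
        have h := haW _ hy
        rw [dotProduct_add, dotProduct_smul, hu, smul_zero, add_zero] at h
        rw [h] at hy
        simpa using hy) w hw
    rw [tv_mulVec, ha1, one_smul] at h1
    have h2 := U.sub_mem h1 hw
    rw [add_sub_cancel_left] at h2
    have h3 := U.add_mem h2 (U.smul_mem (a ⬝ᵥ x) hw)
    rwa [sub_add_cancel] at h3
  refine le_antisymm hle fun y hy => ?_
  by_contra hyU
  obtain ⟨x, hx, hx0⟩ := Submodule.exists_mem_ne_zero_of_ne_bot hU0
  obtain ⟨a, ha1, hay⟩ := hdual (Submodule.span F {y}) x (fun h => by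
    obtain ⟨c, rfl⟩ := Submodule.mem_span_singleton.1 h
    have hc : c ≠ 0 := fun hc => hx0 (by rw [hc, zero_smul])
    have := U.smul_mem c⁻¹ hx
    rw [smul_smul, inv_mul_cancel₀ hc, one_smul] at this
    exact hyU this)
  have hay0 := hay y (Submodule.mem_span_singleton_self y)
  have h1 := hU (tv y a hay0) (fun z => by
    rw [tv_mulVec]
    exact ⟨fun hz => add_mem hz (W.smul_mem _ hy), fun hz => by simpa using sub_mem hz (W.smul_mem (a ⬝ᵥ z) hy)⟩) x hx
  rw [tv_mulVec, ha1, one_smul] at h1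
  exact hyU (by simpa using U.sub_mem h1 hx)

/-- The stabilisers in GL_n(F), F finite, of the coordinate subspaces of dimensions k and n − k are isomorphic groups, but when 2k ≠ n (and 0 < k < n) no element of GL_n conjugates one onto the other. -/
theorem result {F : Type*} [Field F] [Finite F] (n k : ℕ) (hk0 : 0 < k) (hkn : k < n) (h2 : 2 * k ≠ n) : Nonempty (↥(Cfsg.stabilizing (Cfsg.glToMat (Fin n) F) {v : Fin n → F | ∀ i : Fin n, k ≤ (i : ℕ) → v i = 0}) ≃* ↥(Cfsg.stabilizing (Cfsg.glToMat (Fin n) F) {v : Fin n → F | ∀ i : Fin n, n - k ≤ (i : ℕ) → v i = 0})) ∧ ∀ g : Matrix.GeneralLinearGroup (Fin n) F, (Cfsg.stabilizing (Cfsg.glToMat (Fin n) F) {v : Fin n → F | ∀ i : Fin n, k ≤ (i : ℕ) → v i = 0}).map (MulAut.conj g).toMonoidHom ≠ Cfsg.stabilizing (Cfsg.glToMat (Fin n) F) {v : Fin n → F | ∀ i : Fin n, n - k ≤ (i : ℕ) → v i = 0} := by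
  classical
  let R : Matrix (Fin n) (Fin n) F →* Matrix (Fin n) (Fin n) F :=
    { toFun := fun A => A.submatrix Fin.rev Fin.rev
      map_one' := Matrix.submatrix_one _ Fin.rev_injective
      map_mul' := fun A B => Matrix.submatrix_mul A B Fin.rev Fin.rev Fin.rev Fin.rev_bijective }
  let Tinv : GL (Fin n) F →* GL (Fin n) F :=
    { toFun := fun g => ⟨((g⁻¹ : GL (Fin n) F) : Matrix (Fin n) (Fin n) F).transpose, (g : Matrix (Fin n) (Fin n) F).transpose,
        by rw [← Matrix.transpose_mul, Units.mul_inv, Matrix.transpose_one],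
        by rw [← Matrix.transpose_mul, Units.inv_mul, Matrix.transpose_one]⟩
      map_one' := Units.ext (by simp)
      map_mul' := fun g h => Units.ext (by simp [Matrix.transpose_mul, mul_inv_rev]) }
  let Φ : GL (Fin n) F →* GL (Fin n) F := (Units.map R).comp Tinv
  have hΦ : ∀ g, Φ (Φ g) = g := fun g => Units.ext (by
    show ((((g : Matrix (Fin n) (Fin n) F).transpose.submatrix Fin.rev Fin.rev).transpose).submatrix Fin.rev Fin.rev) = _
    ext i j; simp)
  have key : ∀ (l : ℕ), l ≤ n → ∀ g, g ∈ Cfsg.stabilizing (Cfsg.glToMat (Fin n) F) {v : Fin n → F | ∀ i : Fin n, l ≤ (i : ℕ) → v i = 0} →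
      Φ g ∈ Cfsg.stabilizing (Cfsg.glToMat (Fin n) F) {v : Fin n → F | ∀ i : Fin n, n - l ≤ (i : ℕ) → v i = 0} := by
    intro l hl g hg
    rw [mem_iff]
    intro i j hi hj
    show ((g⁻¹ : GL (Fin n) F) : Matrix (Fin n) (Fin n) F) (Fin.rev j) (Fin.rev i) = 0
    refine (mem_iff l _).1 ((Subgroup.inv_mem_iff _).2 hg) _ _ ?_ ?_ <;> simp [Fin.val_rev] <;> omega
  refine ⟨⟨
    { toFun := fun g => ⟨Φ g, key k hkn.le g g.2⟩
      invFun := fun g => ⟨Φ g, by
        have h := key (n - k) (Nat.sub_le n k) g g.2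
        rwa [Nat.sub_sub_self hkn.le] at h⟩
      left_inv := fun g => Subtype.ext (hΦ _)
      right_inv := fun g => Subtype.ext (hΦ _)
      map_mul' := fun g h => Subtype.ext (map_mul Φ _ _) }⟩, fun g hg => ?_⟩
  have hmk : ∀ l : ℕ, ∃ W : Submodule F (Fin n → F), ∀ v, v ∈ W ↔ ∀ i : Fin n, l ≤ (i : ℕ) → v i = 0 := fun l =>
    ⟨{ carrier := {v | ∀ i : Fin n, l ≤ (i : ℕ) → v i = 0}
       add_mem' := fun {u v} hu hv i hi => by simp [hu i hi, hv i hi]
       zero_mem' := fun i _ => rfl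
       smul_mem' := fun c v hv i hi => by simp [hv i hi] }, fun v => Iff.rfl⟩
  obtain ⟨W, hW⟩ := hmk k
  obtain ⟨W', hW'⟩ := hmk (n - k)
  obtain ⟨U, hUdef⟩ : ∃ U, U = W.map (Matrix.toLin' (g : Matrix (Fin n) (Fin n) F)) := ⟨_, rfl⟩
  have hgi : ∀ x, Matrix.mulVec ((g⁻¹ : GL (Fin n) F) : Matrix (Fin n) (Fin n) F)
      (Matrix.mulVec (g : Matrix (Fin n) (Fin n) F) x) = x := fun x => by
    rw [Matrix.mulVec_mulVec, Units.inv_mul, Matrix.one_mulVec]
  have hdim : Module.finrank F U = k := by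
    rw [hUdef, ← LinearEquiv.finrank_eq (Submodule.equivMapOfInjective _ (fun x y e => by
      rw [Matrix.toLin'_apply, Matrix.toLin'_apply] at e
      rw [← hgi x, e, hgi]) W), finrank_W k hkn.le W hW]
  have hU : U = W' := by
    refine only_invariant W' U (fun h hh x hx => ?_) (fun e => ?_) (fun e => ?_)
    · have hh' : h ∈ Cfsg.stabilizing (Cfsg.glToMat (Fin n) F) {v : Fin n → F | ∀ i : Fin n, n - k ≤ (i : ℕ) → v i = 0} :=
        fun v => by have := hh v; rw [hW', hW'] at this; exact this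
      rw [← hg] at hh'
      obtain ⟨s, hs, rfl⟩ := hh'
      rw [hUdef] at hx ⊢
      obtain ⟨w, hw, rfl⟩ := hx
      refine ⟨Matrix.mulVec (s : Matrix (Fin n) (Fin n) F) w, (hW _).2 ((hs w).1 ((hW _).1 hw)), ?_⟩
      simp only [Matrix.toLin'_apply, MulEquiv.coe_toMonoidHom, MulAut.conj_apply, Units.val_mul,
        ← Matrix.mulVec_mulVec, hgi]
    · rw [e, finrank_bot] at hdim; omega
    · rw [e, finrank_top, Module.finrank_fin_fun] at hdim; omega
  rw [hU, finrank_W (n - k) (Nat.sub_le n k) W' hW'] at hdim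
  omega

end Cfsg.Agent.S0773
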