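import Cfsg.Statements.S0771
import Cfsg.Agent.S0773

set_option maxHeartbeats 400000
-- import your own Cfsg.Agent.* helpers here

set_option autoImplicit false
open Cfsg

namespace Cfsg.Agent.S0771

/-- Maximal parabolic of GL_n(q): the stabiliser of the coordinate subspace spanned by the first k basis vectors has order q^(k(n-k)) · |GL_k(q)| · |GL_(n-k)(q)| (unipotent radical of order q^(k(n-k)) and Levi complement GL_k × GL_(n-k)). -/
theorem result {F : Type*} [Field F] [Fintype F] {q : ℕ} (hF : Fintype.card F = q) (n k : ℕ) (hk : k ≤ n) : Nat.card ↥(Cfsg.stabilizing (Cfsg.glToMat (Fin n) F) {v : Fin n → F | ∀ i : Fin n, k ≤ (i : ℕ) → v i = 0}) = q ^ (k * (n - k)) * (∏ i : Fin k, (q ^ k - q ^ (i : ℕ))) * ∏ i : Fin (n - k), (q ^ (n - k) - q ^ (i : ℕ)) := by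
  classical
  obtain ⟨m, rfl⟩ : ∃ m, n = k + m := ⟨n - k, by omega⟩
  rw [show k + m - k = m by omega]
  let R := Matrix.reindexAlgEquiv F F (finSumFinEquiv : Fin k ⊕ Fin m ≃ Fin (k + m))
  let T := ↥(Cfsg.stabilizing (Cfsg.glToMat (Fin (k + m)) F) {v : Fin (k + m) → F | ∀ i : Fin (k + m), k ≤ (i : ℕ) → v i = 0})
  have hu : ∀ p : GL (Fin k) F × GL (Fin m) F × Matrix (Fin k) (Fin m) F,
      IsUnit (Matrix.fromBlocks (p.1 : Matrix (Fin k) (Fin k) F) p.2.2 0 (p.2.1 : Matrix (Fin m) (Fin m) F)) := by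
    intro p
    rw [Matrix.isUnit_iff_isUnit_det, Matrix.det_fromBlocks_zero₂₁]
    exact ((Matrix.isUnit_iff_isUnit_det _).1 p.1.isUnit).mul ((Matrix.isUnit_iff_isUnit_det _).1 p.2.1.isUnit)
  let f : GL (Fin k) F × GL (Fin m) F × Matrix (Fin k) (Fin m) F → T := fun p =>
    ⟨Units.mapEquiv R.toMulEquiv (hu p).unit, (Cfsg.Agent.S0773.mem_iff k _).2 fun i j hi hj => by
      show (Matrix.fromBlocks _ _ _ _).submatrix finSumFinEquiv.symm finSumFinEquiv.symm i j = 0
      obtain ⟨i, rfl⟩ := finSumFinEquiv.surjective i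
      obtain ⟨j, rfl⟩ := finSumFinEquiv.surjective j
      rcases i with i | i
      · simp at hi; omega
      rcases j with j | j
      · simp
      · simp at hj⟩
  have hf : Function.Bijective f := by
    constructor
    · rintro ⟨A, D, B⟩ ⟨A', D', B'⟩ h
      have h1 : R (Matrix.fromBlocks (A : Matrix (Fin k) (Fin k) F) B 0 (D : Matrix (Fin m) (Fin m) F)) =
          R (Matrix.fromBlocks (A' : Matrix (Fin k) (Fin k) F) B' 0 (D' : Matrix (Fin m) (Fin m) F)) :=
        congrArg Units.val (congrArg Subtype.val h)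
      obtain ⟨e1, e2, -, e4⟩ := Matrix.fromBlocks_inj.1 (R.injective h1)
      rw [Units.ext e1, e2, Units.ext e4]
    · rintro ⟨g, hg⟩
      have hg' := (Cfsg.Agent.S0773.mem_iff k g).1 hg
      set M := R.symm (g : Matrix (Fin (k + m)) (Fin (k + m)) F) with hM
      have h21 : M.toBlocks₂₁ = 0 := by
        ext i j
        show (g : Matrix (Fin (k + m)) (Fin (k + m)) F) (finSumFinEquiv (Sum.inr i)) (finSumFinEquiv (Sum.inl j)) = 0
        exact hg' _ _ (by simp) (by simp)
      have hMu : IsUnit M := g.isUnit.map R.symm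
      rw [Matrix.isUnit_iff_isUnit_det, ← Matrix.fromBlocks_toBlocks M, h21,
        Matrix.det_fromBlocks_zero₂₁, IsUnit.mul_iff] at hMu
      refine ⟨(((Matrix.isUnit_iff_isUnit_det _).2 hMu.1).unit, ((Matrix.isUnit_iff_isUnit_det _).2 hMu.2).unit, M.toBlocks₁₂), Subtype.ext (Units.ext ?_)⟩
      show R (Matrix.fromBlocks M.toBlocks₁₁ M.toBlocks₁₂ 0 M.toBlocks₂₂) = _
      rw [← h21, Matrix.fromBlocks_toBlocks, hM, AlgEquiv.apply_symm_apply]
  have hc := Nat.card_eq_of_bijective f hf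
  rw [Nat.card_prod, Nat.card_prod, Matrix.card_GL_field, Matrix.card_GL_field] at hc
  rw [← hc]
  have hM : Nat.card (Matrix (Fin k) (Fin m) F) = q ^ (k * m) := by
    show Nat.card (Fin k → Fin m → F) = _
    simp [hF, ← pow_mul, mul_comm]
  rw [hM, hF]
  ring

end Cfsg.Agent.S0771
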