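import Cfsg.Statements.S0772
import Cfsg.Agent.Lie.ParabolicMax

set_option autoImplicit false
open Cfsg

namespace Cfsg.Agent.S0772

/-- Maximal parabolics are maximal: over a finite field, for 0 < k < n the stabiliser in GL_n of the span of the first k coordinate vectors is a maximal proper subgroup. -/
theorem result {F : Type*} [Field F] [Finite F] (n k : ℕ) (hk0 : 0 < k) (hkn : k < n) : IsCoatom (Cfsg.stabilizing (Cfsg.glToMat (Fin n) F) {v : Fin n → F | ∀ i : Fin n, k ≤ (i : ℕ) → v i = 0}) := by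
  classical
  obtain ⟨W, hW⟩ : ∃ W : Submodule F (Fin n → F), ∀ v, v ∈ W ↔ ∀ i : Fin n, k ≤ (i : ℕ) → v i = 0 :=
    ⟨{ carrier := {v | ∀ i : Fin n, k ≤ (i : ℕ) → v i = 0}
       add_mem' := fun {u v} hu hv i hi => by simp [hu i hi, hv i hi]
       zero_mem' := fun i _ => rfl
       smul_mem' := fun c v hv i hi => by simp [hv i hi] }, fun v => Iff.rfl⟩
  obtain ⟨S, hS⟩ : ∃ S, S = Cfsg.stabilizing (Cfsg.glToMat (Fin n) F) {v : Fin n → F | ∀ i : Fin n, k ≤ (i : ℕ) → v i = 0} :=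
    ⟨_, rfl⟩
  rw [← hS]
  have hmem : ∀ g : GL (Fin n) F, g ∈ S ↔ ∀ x, x ∈ W ↔ Matrix.mulVec (g : Matrix (Fin n) (Fin n) F) x ∈ W := fun g => by
    subst hS
    constructor
    · intro h x; rw [hW, hW]; exact h x
    · intro h x; have := h x; rw [hW, hW] at this; exact this
  have hW0 : W ≠ ⊥ := fun h => by
    have : (Pi.single (⟨0, by omega⟩ : Fin n) (1 : F) : Fin n → F) ∈ W := (hW _).2 fun i hi =>
      Pi.single_eq_of_ne (by rintro rfl; simp at hi; omega) _
    rw [h, Submodule.mem_bot] at this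
    simpa using congrFun this ⟨0, by omega⟩
  have hW1 : W ≠ ⊤ := fun h => by
    have hm : (Pi.single (⟨k, hkn⟩ : Fin n) (1 : F) : Fin n → F) ∈ W := h ▸ Submodule.mem_top
    have := (hW _).1 hm ⟨k, hkn⟩ (le_refl k)
    simp at this
  refine ⟨fun h => ?_, fun M hlt => ?_⟩
  · obtain ⟨g, -, hgn⟩ := CfsgLib.Lie.ParabolicMax.exists_moving W hW0 hW1
    exact hgn ((hmem g).1 (h ▸ Subgroup.mem_top g))
  obtain ⟨g, hg, hgS⟩ := SetLike.exists_of_lt hlt
  have hsl := CfsgLib.Lie.ParabolicMax.sl_le W hW0 (fun s _ hsW => hlt.le ((hmem s).2 hsW)) hg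
    fun h => hgS ((hmem g).2 h)
  refine eq_top_iff.2 fun x _ => ?_
  obtain ⟨c, hc⟩ : ∃ c, c = Matrix.GeneralLinearGroup.det x := ⟨_, rfl⟩
  obtain ⟨d, hd⟩ : ∃ d : GL (Fin n) F, (d : Matrix (Fin n) (Fin n) F) =
      Matrix.diagonal (fun i : Fin n => if (i : ℕ) = 0 then (c : F) else 1) :=
    ⟨Matrix.GeneralLinearGroup.mkOfDetNeZero
      (Matrix.diagonal (fun i : Fin n => if (i : ℕ) = 0 then (c : F) else 1)) (by
      rw [Matrix.det_diagonal]
      exact Finset.prod_ne_zero_iff.2 fun i _ => by split_ifs <;> simp), rfl⟩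
  have hdet : Matrix.GeneralLinearGroup.det d = c := by
    refine Units.ext ?_
    show (d : Matrix (Fin n) (Fin n) F).det = _
    rw [hd, Matrix.det_diagonal, Finset.prod_eq_single (⟨0, by omega⟩ : Fin n)]
    · simp
    · intro i _ hi
      rw [if_neg fun e => hi (Fin.ext e)]
    · simp
  have hdS : d ∈ S := (hmem d).2 fun v => by
    rw [hW, hW]
    refine forall_congr' fun i => imp_congr_right fun hi => ?_
    rw [hd, Matrix.mulVec_diagonal, if_neg (by omega), one_mul]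
  have hx : d⁻¹ * x ∈ Cfsg.Geo.specialLinear (Fin n) F := by
    rw [Cfsg.Geo.specialLinear, MonoidHom.mem_ker, map_mul, map_inv, hdet, ← hc, inv_mul_cancel]
  have := M.mul_mem (hlt.le hdS) (hsl hx)
  rwa [mul_inv_cancel_left] at this

end Cfsg.Agent.S0772
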