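import Cfsg.Statements.S0774
import Cfsg.Agent.Lie.Sp

set_option maxHeartbeats 1000000
-- import your own Cfsg.Agent.* helpers here

set_option autoImplicit false
open Cfsg
open scoped Matrix

namespace Cfsg.Agent.S0774

section

open Matrix CfsgLib.Lie

variable {F : Type*} [Field F] {m : ℕ}

/-- upper triangular part -/
def upA (d : Fin m → Fˣ) (T : Fin m × Fin m → F) : Matrix (Fin m) (Fin m) F :=
  Matrix.of fun i j => if i < j then T (i, j) else if i = j then (d i : F) else 0

/-- symmetric part -/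
def syS (T : Fin m × Fin m → F) : Matrix (Fin m) (Fin m) F :=
  Matrix.of fun i j => T (max i j, min i j)

theorem upA_unit (d : Fin m → Fˣ) (T : Fin m × Fin m → F) : IsUnit (upA d T).det := by
  rw [Matrix.det_of_upperTriangular (fun i j (h : j < i) => by
    simp [upA, not_lt.2 h.le, h.ne'])]
  exact isUnit_iff_ne_zero.2 (Finset.prod_ne_zero_iff.2 fun i _ => by simp [upA])

theorem syS_symm (T : Fin m × Fin m → F) : (syS T)ᵀ = syS T := by
  ext i j
  simp [syS, max_comm, min_comm]

/-- the Borel matrix -/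
noncomputable def bor (d : Fin m → Fˣ) (T : Fin m × Fin m → F) :
    Matrix (Fin m ⊕ Fin m) (Fin m ⊕ Fin m) F :=
  Matrix.fromBlocks (upA d T) (upA d T * syS T) 0 ((upA d T)⁻¹)ᵀ

theorem bor_mem (d : Fin m → Fˣ) (T : Fin m × Fin m → F) :
    bor d T ∈ Matrix.symplecticGroup (Fin m) F := by
  rw [SymplecticGroup.mem_iff']
  have h := upA_unit d T
  simp only [bor, Matrix.J, Matrix.fromBlocks_transpose, Matrix.fromBlocks_multiply, Matrix.transpose_mul,
    Matrix.transpose_zero, Matrix.transpose_transpose, syS_symm]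
  simp only [Matrix.mul_zero, Matrix.zero_mul, add_zero, zero_add, Matrix.mul_neg, Matrix.mul_one,
    Matrix.neg_mul]
  congr 1
  · rw [← Matrix.transpose_mul, Matrix.nonsing_inv_mul _ h, Matrix.transpose_one]
  · rw [Matrix.nonsing_inv_mul _ h]
  · rw [← Matrix.mul_assoc _ (upA d T), Matrix.nonsing_inv_mul _ h, Matrix.one_mul, Matrix.mul_assoc,
      ← Matrix.transpose_mul, Matrix.nonsing_inv_mul _ h, Matrix.transpose_one, Matrix.mul_one]
    abel

theorem mem_of_forward [Finite F] {g : Sp.G m F} {S : Set (Sp.V m F)}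
    (h : ∀ v ∈ S, (g : Matrix (Fin m ⊕ Fin m) (Fin m ⊕ Fin m) F) *ᵥ v ∈ S) :
    g ∈ Cfsg.stabilizing (Cfsg.spToMat m F) S := by
  intro v
  refine ⟨fun hv => h v hv, fun hv => ?_⟩
  let f : S → S := fun w => ⟨_, h w.1 w.2⟩
  have hinj : Function.Injective (fun w : Sp.V m F => (g : Matrix (Fin m ⊕ Fin m) (Fin m ⊕ Fin m) F) *ᵥ w) :=
    fun u w e => by rw [← Sp.act_inv_act g u, ← Sp.act_inv_act g w]; exact congrArg (Sp.act g⁻¹) e
  obtain ⟨w, hw⟩ := Finite.surjective_of_injective (f := f)
    (fun u w e => Subtype.ext (hinj (congrArg Subtype.val e))) ⟨_, hv⟩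
  rw [← hinj (congrArg Subtype.val hw)]
  exact w.2

end

/-- Borel subgroup of the symplectic group: the elements of Sp_2m(q) stabilising each of the totally isotropic coordinate subspaces ⟨e_0, ..., e_k⟩ (k < m) form a subgroup of order q^(m²) (q − 1)^m. -/
theorem result {F : Type*} [Field F] [Fintype F] {q : ℕ} (hF : Fintype.card F = q) (m : ℕ) : Nat.card ↥(⨅ k : Fin m, Cfsg.stabilizing (Cfsg.spToMat m F) {v : Fin m ⊕ Fin m → F | (∀ i : Fin m, (k : ℕ) < (i : ℕ) → v (Sum.inl i) = 0) ∧ ∀ i : Fin m, v (Sum.inr i) = 0}) = q ^ (m ^ 2) * (q - 1) ^ m := by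
  classical
  let B := ⨅ k : Fin m, Cfsg.stabilizing (Cfsg.spToMat m F) {v : Fin m ⊕ Fin m → F | (∀ i : Fin m, (k : ℕ) < (i : ℕ) → v (Sum.inl i) = 0) ∧ ∀ i : Fin m, v (Sum.inr i) = 0}
  let f : (Fin m → Fˣ) × (Fin m × Fin m → F) → B := fun p => ⟨⟨bor p.1 p.2, bor_mem p.1 p.2⟩, by
    refine Subgroup.mem_iInf.2 fun k => mem_of_forward fun v hv => ⟨fun i hi => ?_, fun i => ?_⟩
    · show Matrix.mulVec (Matrix.fromBlocks _ _ _ _) v (Sum.inl i) = 0
      rw [Matrix.fromBlocks_mulVec, show v ∘ Sum.inr = 0 from funext hv.2]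
      simp only [Matrix.mulVec_zero, add_zero, Sum.elim_inl, Matrix.mulVec, dotProduct, Function.comp_apply]
      refine Finset.sum_eq_zero fun j _ => ?_
      by_cases hj : (k : ℕ) < (j : ℕ)
      · rw [hv.1 j hj, mul_zero]
      · have hji : j < i := by rw [Fin.lt_def]; omega
        simp [upA, not_lt.2 hji.le, hji.ne']
    · show Matrix.mulVec (Matrix.fromBlocks _ _ _ _) v (Sum.inr i) = 0
      rw [Matrix.fromBlocks_mulVec, show v ∘ Sum.inr = 0 from funext hv.2]
      simp⟩
  have hf : Function.Bijective f := by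
    constructor
    · rintro ⟨d, T⟩ ⟨d', T'⟩ h
      have h1 : bor d T = bor d' T' := congrArg (fun g : B => ((g.1 : Matrix.symplecticGroup (Fin m) F) : Matrix (Fin m ⊕ Fin m) (Fin m ⊕ Fin m) F)) h
      obtain ⟨e1, e2, -, -⟩ := Matrix.fromBlocks_inj.1 h1
      rw [e1] at e2
      have e3 : syS T = syS T' := by
        have := congrArg (fun M => (upA d' T')⁻¹ * M) e2
        simpa [← Matrix.mul_assoc, Matrix.nonsing_inv_mul _ (upA_unit d' T')] using this
      refine Prod.ext (funext fun i => Units.ext (by simpa [upA] using congrFun (congrFun e1 i) i)) (funext fun p => ?_)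
      obtain ⟨i, j⟩ := p
      show T (i, j) = T' (i, j)
      rcases lt_or_ge i j with hij | hij
      · simpa [upA, hij] using congrFun (congrFun e1 i) j
      · simpa [syS, max_eq_left hij, min_eq_right hij] using congrFun (congrFun e3 i) j
    · rintro ⟨⟨M, hM⟩, hg⟩
      have hk := fun k => (Subgroup.mem_iInf.1 hg k)
      have hcol : ∀ j : Fin m, (∀ i : Fin m, j < i → M (Sum.inl i) (Sum.inl j) = 0) ∧
          ∀ i : Fin m, M (Sum.inr i) (Sum.inl j) = 0 := fun j => by
        have hm := (hk j (Pi.single (Sum.inl j) 1)).1 ⟨fun i hi => by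
          simp [show i ≠ j from fun e => absurd (e ▸ hi) (lt_irrefl _)], fun i => by simp⟩
        exact ⟨fun i hi => by simpa [Matrix.mulVec_single] using hm.1 i hi,
          fun i => by simpa [Matrix.mulVec_single] using hm.2 i⟩
      set A := M.toBlocks₁₁ with hA
      have h21 : M.toBlocks₂₁ = 0 := Matrix.ext fun i j => (hcol j).2 i
      have hup : ∀ i j, j < i → A i j = 0 := fun i j h => (hcol j).1 i h
      have hM0 : M = Matrix.fromBlocks A M.toBlocks₁₂ 0 M.toBlocks₂₂ := by
        conv_lhs => rw [← Matrix.fromBlocks_toBlocks M, h21]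
      have hdet : IsUnit M.det := SymplecticGroup.symplectic_det hM
      rw [hM0, Matrix.det_fromBlocks_zero₂₁, IsUnit.mul_iff] at hdet
      have hdiag : ∀ i, A i i ≠ 0 := by
        have h9 := hdet.1
        rw [Matrix.det_of_upperTriangular (fun i j h => hup i j h), isUnit_iff_ne_zero,
          Finset.prod_ne_zero_iff] at h9
        exact fun i => h9 i (Finset.mem_univ i)
      have hrel := SymplecticGroup.mem_iff'.1 hM
      rw [hM0] at hrel
      simp only [Matrix.J, Matrix.fromBlocks_transpose, Matrix.fromBlocks_multiply] at hrel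
      obtain ⟨-, r12, -, r22⟩ := Matrix.fromBlocks_inj.1 hrel
      simp only [Matrix.mul_zero, Matrix.zero_mul, add_zero, zero_add, Matrix.mul_neg, Matrix.mul_one,
        Matrix.neg_mul, Matrix.transpose_zero, Matrix.mul_one] at r12 r22
      have hD : M.toBlocks₂₂ = (A⁻¹)ᵀ := by
        have h9 : Aᵀ * M.toBlocks₂₂ = 1 := neg_inj.1 r12
        rw [Matrix.transpose_nonsing_inv]
        exact (Matrix.inv_eq_right_inv h9).symm
      set S := A⁻¹ * M.toBlocks₁₂ with hS
      have hSsym : ∀ i j, S i j = S j i := by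
        intro i j
        have e : Sᵀ = S := by
          rw [hS, Matrix.transpose_mul]
          rw [hD, Matrix.transpose_transpose] at r22
          exact (add_neg_eq_zero.1 r22).symm
        exact (congrFun (congrFun e j) i)
      let T : Fin m × Fin m → F := fun p => if p.1 < p.2 then A p.1 p.2 else S p.1 p.2
      let d : Fin m → Fˣ := fun i => Units.mk0 _ (hdiag i)
      have eA : upA d T = A := by
        ext i j
        simp only [upA, Matrix.of_apply, T]
        split_ifs with h1 h2
        · rfl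
        · subst h2; rfl
        · exact (hup i j (lt_of_le_of_ne (not_lt.1 h1) (Ne.symm h2))).symm
      have eS : syS T = S := by
        ext i j
        simp only [syS, Matrix.of_apply, T]
        rcases le_total i j with h | h
        · rw [max_eq_right h, min_eq_left h, if_neg (not_lt.2 h), hSsym]
        · rw [max_eq_left h, min_eq_right h, if_neg (not_lt.2 h)]
      refine ⟨(d, T), Subtype.ext (Subtype.ext ?_)⟩
      show bor d T = M
      rw [bor, eA, eS, hM0, hS, ← Matrix.mul_assoc, Matrix.mul_nonsing_inv _ hdet.1, Matrix.one_mul, hD]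
  rw [← Nat.card_eq_of_bijective f hf]
  simp [Fintype.card_units, hF, ← pow_two, mul_comm]

end Cfsg.Agent.S0774
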