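import Cfsg.Statements.S0776
import Cfsg.Agent.Lie.OrthSumStab
import Cfsg.Agent.Lie.SpMax

set_option maxHeartbeats 400000
-- import your own Cfsg.Agent.* helpers here

set_option autoImplicit false
open Cfsg

namespace Cfsg.Agent.S0776

section

open CfsgLib.Lie Matrix

variable {F : Type*} [Field F] {m : ℕ}

theorem sp_range (A : Matrix (Fin m ⊕ Fin m) (Fin m ⊕ Fin m) F) :
    (∃ h, Cfsg.spToMat m F h = A) ↔
      ∀ u v, Sp.bf m F (A *ᵥ u) (A *ᵥ v) = Sp.bf m F u v := by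
  rw [← Sp.mem_iff_bf]
  exact ⟨fun ⟨h, e⟩ => e ▸ h.2, fun h => ⟨⟨A, h⟩, rfl⟩⟩

theorem bf_ext {V : Type*} [AddCommGroup V] [Module F V] (B : V →ₗ[F] V →ₗ[F] F) (hB : ∀ x, B x x = 0)
    {k : ℕ} (φ : Sp.V k F →ₗ[F] V)
    (h1 : ∀ i j, B (φ (Sp.f i)) (φ (Sp.e j)) = if i = j then 1 else 0)
    (h2 : ∀ i j, B (φ (Sp.e i)) (φ (Sp.e j)) = 0) (h3 : ∀ i j, B (φ (Sp.f i)) (φ (Sp.f j)) = 0)
    (x y : Sp.V k F) : B (φ x) (φ y) = Sp.bf k F x y := by
  have hs : ∀ a b, B a b = - B b a := fun a b => by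
    have h := hB (a + b)
    simp only [map_add, LinearMap.add_apply, hB] at h
    linear_combination h
  have key : B.compl₁₂ φ φ = Sp.bf k F := by
    refine LinearMap.ext_basis (Pi.basisFun F _) (Pi.basisFun F _) fun i j => ?_
    rw [LinearMap.compl₁₂_apply, Pi.basisFun_apply, Pi.basisFun_apply]
    rcases i with i | i <;> rcases j with j | j
    · exact (h2 i j).trans (by simp [Sp.bf_apply])
    · rw [hs]
      change - B (φ (Sp.f j)) (φ (Sp.e i)) = Sp.bf k F (Sp.e i) (Sp.f j)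
      rw [h1, Sp.bf_e_left]
      simp [Sp.f, Pi.single_apply, eq_comm]
    · change B (φ (Sp.f i)) (φ (Sp.e j)) = Sp.bf k F (Sp.f i) (Sp.e j)
      rw [h1, Sp.bf_f_left]
      simp [Sp.e, Pi.single_apply, eq_comm]
    · exact (h3 i j).trans (by simp [Sp.bf_apply])
  exact LinearMap.congr_fun (LinearMap.congr_fun key x) y

theorem exists_coord (a : Submodule F (Sp.V m F))
    (ha : ∀ w ∈ a, w ≠ 0 → ∃ z ∈ a, Sp.bf m F w z ≠ 0) {k : ℕ} (hk : Module.finrank F a = 2 * k) :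
    ∃ φ : Sp.V k F ≃ₗ[F] a, ∀ x y, Sp.bf m F (φ x : Sp.V m F) (φ y : Sp.V m F) = Sp.bf k F x y := by
  obtain ⟨p, r, e, he1, he2, he3, he4⟩ := OrthBasis.exists_symplectic
    ((Sp.bf m F).compl₁₂ a.subtype a.subtype) (fun x => Sp.bf_self _)
  have hr : r = 0 := by
    rcases Nat.eq_zero_or_pos r with h0 | h0
    · exact h0
    exfalso
    obtain ⟨z, hz, hz'⟩ := ha _ (e (.inr ⟨0, h0⟩)).2
      (fun h9 => e.ne_zero _ (Subtype.ext h9))
    exact hz' (he4 ⟨0, h0⟩ ⟨z, hz⟩)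
  subst hr
  rw [Module.finrank_eq_card_basis e] at hk
  simp only [Fintype.card_sum, Fintype.card_fin] at hk
  obtain rfl : p = k := by omega
  let b : Module.Basis (Fin p ⊕ Fin p) F a :=
    e.reindex ((Equiv.sumEmpty _ _).trans (Equiv.sumComm _ _))
  let φ : Sp.V p F ≃ₗ[F] a := (Pi.basisFun F _).equiv b (Equiv.refl _)
  have hφ : ∀ i, φ (Pi.single i 1) = b i := fun i => by
    rw [← Pi.basisFun_apply F _ i, Module.Basis.equiv_apply, Equiv.refl_apply]
  simp only [LinearMap.compl₁₂_apply] at he1 he2 he3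
  have hf : ∀ i : Fin p, φ (Sp.f i) = e (Sum.inl (Sum.inl i)) := fun i => by
    rw [Sp.f, hφ]; simp [b]
  have hee : ∀ i : Fin p, φ (Sp.e i) = e (Sum.inl (Sum.inr i)) := fun i => by
    rw [Sp.e, hφ]; simp [b]
  refine ⟨φ, bf_ext ((Sp.bf m F).compl₁₂ a.subtype a.subtype) (fun x => Sp.bf_self _) φ.toLinearMap
    (fun i j => ?_) (fun i j => ?_) (fun i j => ?_)⟩
  · simp only [LinearEquiv.coe_coe, LinearMap.compl₁₂_apply, hf, hee]; exact he1 i j
  · simp only [LinearEquiv.coe_coe, LinearMap.compl₁₂_apply, hee]; exact he3 i j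
  · simp only [LinearEquiv.coe_coe, LinearMap.compl₁₂_apply, hf]; exact he2 i j

end

/-- If W ≤ F^(2m) is a 2k-dimensional subspace on which the symplectic form is non-degenerate, then the stabiliser of W in Sp_2m(F) is isomorphic to Sp_2k(F) × Sp_(2m−2k)(F). -/
theorem result {F : Type*} [Field F] (m k : ℕ) (hk : k ≤ m) (W : Submodule F (Fin m ⊕ Fin m → F)) (hWk : Module.finrank F W = 2 * k) (hW : ∀ u ∈ W, (∀ v ∈ W, Cfsg.sympForm m F u v = 0) → u = 0) : Nonempty (↥(Cfsg.stabilizing (Cfsg.spToMat m F) (W : Set (Fin m ⊕ Fin m → F))) ≃* Matrix.symplecticGroup (Fin k) F × Matrix.symplecticGroup (Fin (m - k)) F) := by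
  classical
  open CfsgLib.Lie in
  have hrefl : LinearMap.BilinForm.IsRefl (Sp.bf m F) := fun x y h => by
    rw [Sp.bf_swap, h, neg_zero]
  open CfsgLib.Lie in
  have hW' : ∀ w ∈ W, w ≠ 0 → ∃ z ∈ W, Sp.bf m F w z ≠ 0 := fun w hw hw0 => by
    by_contra hc
    push Not at hc
    exact hw0 (hW w hw fun v hv => by rw [← Sp.bf_eq]; exact hc v hv)
  open CfsgLib.Lie in
  have hndeg : LinearMap.BilinForm.Nondegenerate (Sp.bf m F) := by
    refine ⟨fun x hx => ?_, fun x hx => ?_⟩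
    · by_contra hx0
      obtain ⟨v, hv⟩ := Sp.exists_bf_eq_one hx0
      rw [hx v] at hv; exact zero_ne_one hv
    · by_contra hx0
      obtain ⟨v, hv⟩ := Sp.exists_bf_eq_one hx0
      rw [Sp.bf_swap, hx v, neg_zero] at hv; exact zero_ne_one hv
  open CfsgLib.Lie in
  let P := LinearMap.BilinForm.orthogonal (Sp.bf m F) W
  open CfsgLib.Lie in
  have hmemP : ∀ x, x ∈ P ↔ ∀ w ∈ W, Sp.bf m F w x = 0 := fun x => Iff.rfl
  have hdis : W ⊓ P = ⊥ := by
    rw [Submodule.eq_bot_iff]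
    rintro x ⟨hx, hx'⟩
    by_contra h0
    obtain ⟨z, hz, hne⟩ := hW' x hx h0
    exact hne (hrefl _ _ ((hmemP x).1 hx' z hz))
  have hdimP : Module.finrank F P = 2 * (m - k) := by
    rw [LinearMap.BilinForm.finrank_orthogonal hndeg, hWk,
      Module.finrank_fintype_fun_eq_card, Fintype.card_sum, Fintype.card_fin]
    omega
  have hcompl : IsCompl W P := by
    refine ⟨disjoint_iff.2 hdis, codisjoint_iff.2 (Submodule.eq_top_of_disjoint W P ?_ (disjoint_iff.2 hdis))⟩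
    rw [hWk, hdimP, Module.finrank_fintype_fun_eq_card, Fintype.card_sum, Fintype.card_fin]
    omega
  have hP' : ∀ w ∈ P, w ≠ 0 → ∃ z ∈ P, CfsgLib.Lie.Sp.bf m F w z ≠ 0 := fun w hw hw0 => by
    by_contra hc
    push Not at hc
    refine hw0 (hndeg.1 w fun v => ?_)
    obtain ⟨a, ha, b, hb, rfl⟩ := Submodule.mem_sup.1 (hcompl.sup_eq_top ▸ Submodule.mem_top : v ∈ W ⊔ P)
    rw [map_add, hrefl _ _ ((hmemP w).1 hw a ha), hc b hb, add_zero]
  obtain ⟨φ, hφ⟩ := exists_coord W hW' hWk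
  obtain ⟨ψ, hψ⟩ := exists_coord P hP' hdimP
  let Φ := (φ.prodCongr ψ).trans (Submodule.prodEquivOfIsCompl W P hcompl)
  have hΦ : ∀ x, Φ x = (φ x.1 : CfsgLib.Lie.Sp.V m F) + (ψ x.2 : CfsgLib.Lie.Sp.V m F) := fun x => rfl
  refine CfsgLib.Lie.OrthSumStab.iso (Cfsg.spToMat m F) (Cfsg.spToMat k F) (Cfsg.spToMat (m - k) F)
    (fun u v => CfsgLib.Lie.Sp.bf m F u v) (fun u v => CfsgLib.Lie.Sp.bf k F u v)
    (fun u v => CfsgLib.Lie.Sp.bf (m - k) F u v)
    Subtype.coe_injective Subtype.coe_injective Subtype.coe_injective sp_range sp_range sp_range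
    Φ W (fun v => ?_) (fun x y => ?_) (fun v => ?_) (fun v => ?_) (fun v => ?_) (fun v => ?_) (fun a ha => ?_)
  · obtain ⟨x, rfl⟩ := Φ.surjective v
    rw [LinearEquiv.symm_apply_apply, hΦ]
    constructor
    · intro h
      have h2 : (ψ x.2 : CfsgLib.Lie.Sp.V m F) ∈ W := by simpa using W.sub_mem h (φ x.1).2
      have h3 := Submodule.disjoint_def.1 hcompl.disjoint _ h2 (ψ x.2).2
      exact ψ.map_eq_zero_iff.1 (Subtype.ext h3)
    · intro h
      rw [h, map_zero]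
      simp
  · simp only [hΦ, map_add, LinearMap.add_apply, hφ, hψ]
    rw [(hmemP _).1 (ψ y.2).2 _ (φ x.1).2, hrefl _ _ ((hmemP _).1 (ψ x.2).2 _ (φ y.1).2)]
    ring
  · simp
  · simp
  · simp
  · simp
  · by_contra h0
    obtain ⟨v, hv⟩ := CfsgLib.Lie.Sp.exists_bf_eq_one h0
    rw [CfsgLib.Lie.Sp.bf_swap, ha v, neg_zero] at hv
    exact zero_ne_one hv

end Cfsg.Agent.S0776
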