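import Cfsg.Statements.S0777
import Cfsg.Agent.S0774

set_option maxHeartbeats 1000000
-- import your own Cfsg.Agent.* helpers here

set_option autoImplicit false
open Cfsg

namespace Cfsg.Agent.S0777

section

open Matrix CfsgLib.Lie

variable {F : Type*} [Field F] {m : ℕ}

/-- sign of a coordinate -/
def sg : Fin m ⊕ Fin m → F
  | .inl _ => -1
  | .inr _ => 1

theorem bf_single (j : Fin m ⊕ Fin m) (x : Sp.V m F) :
    Sp.bf m F (Pi.single j 1) x = sg j * x j.swap := by
  rcases j with i | i
  · exact (Sp.bf_e_left i x).trans (by simp [sg])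
  · exact (Sp.bf_f_left i x).trans (by simp [sg])

/-- monomial permutation -/
def perm (τ : Equiv.Perm (Fin m)) (ε : Fin m → Bool) : Fin m ⊕ Fin m → Fin m ⊕ Fin m
  | .inl i => if ε i then .inr (τ i) else .inl (τ i)
  | .inr i => if ε i then .inl (τ i) else .inr (τ i)

theorem perm_swap (τ : Equiv.Perm (Fin m)) (ε : Fin m → Bool) (j : Fin m ⊕ Fin m) :
    perm τ ε j.swap = (perm τ ε j).swap := by
  rcases j with i | i <;> cases h : ε i <;> simp [perm, h]

theorem perm_inj (τ : Equiv.Perm (Fin m)) (ε : Fin m → Bool) : Function.Injective (perm τ ε) := by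
  rintro (i | i) (k | k) h <;> cases hi : ε i <;> cases hk : ε k <;> simp_all [perm]

/-- monomial coefficients -/
def coef (ε : Fin m → Bool) (u : Fin m → Fˣ) : Fin m ⊕ Fin m → F
  | .inl i => u i
  | .inr i => if ε i then -((u i : F))⁻¹ else ((u i : F))⁻¹

theorem coef_ne (ε : Fin m → Bool) (u : Fin m → Fˣ) (j : Fin m ⊕ Fin m) : coef ε u j ≠ 0 := by
  rcases j with i | i <;> cases h : ε i <;> simp [coef, h]

/-- monomial matrix -/
def mono (π : Fin m ⊕ Fin m → Fin m ⊕ Fin m) (c : Fin m ⊕ Fin m → F) :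
    Matrix (Fin m ⊕ Fin m) (Fin m ⊕ Fin m) F :=
  Matrix.of fun k j => if π j = k then c j else 0

theorem mono_single (π : Fin m ⊕ Fin m → Fin m ⊕ Fin m) (c : Fin m ⊕ Fin m → F) (j : Fin m ⊕ Fin m) :
    mono π c *ᵥ Pi.single j 1 = c j • Pi.single (π j) 1 := by
  funext k
  simp [mono, Pi.single_apply, eq_comm]

theorem mono_sp (τ : Equiv.Perm (Fin m)) (ε : Fin m → Bool) (u : Fin m → Fˣ) :
    mono (perm τ ε) (coef ε u) ∈ Matrix.symplecticGroup (Fin m) F := by
  rw [Sp.mem_iff_bf]
  have key : (Sp.bf m F).compl₁₂ (Matrix.toLin' (mono (perm τ ε) (coef ε u)))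
      (Matrix.toLin' (mono (perm τ ε) (coef ε u))) = Sp.bf m F := by
    refine LinearMap.ext_basis (Pi.basisFun F _) (Pi.basisFun F _) fun j k => ?_
    simp only [LinearMap.compl₁₂_apply, Pi.basisFun_apply, Matrix.toLin'_apply, mono_single, map_smul,
      LinearMap.smul_apply, bf_single, smul_eq_mul, ← perm_swap]
    by_cases hk : k = j.swap
    · subst hk
      rw [Pi.single_eq_same, Pi.single_eq_same]
      rcases j with i | i <;> cases h : ε i <;> simp [coef, perm, sg, h]
    · rw [Pi.single_eq_of_ne (fun e => hk (perm_inj τ ε e).symm), Pi.single_eq_of_ne (Ne.symm hk)]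
      simp
  intro x y
  exact LinearMap.congr_fun (LinearMap.congr_fun key x) y

end

/-- Weyl group of type C_m: for q ≥ 4 the diagonal matrices of Sp_2m(q) form a torus T ≅ (C_(q−1))^m (the elements stabilising every coordinate axis), and the normaliser of T in Sp_2m(q) has order 2^m · m! · (q − 1)^m. -/
theorem result {F : Type*} [Field F] [Fintype F] {q : ℕ} (hF : Fintype.card F = q) (hq : 4 ≤ q) (m : ℕ) : Nat.card ↥(Subgroup.normalizer (⨅ i : Fin m ⊕ Fin m, Cfsg.stabilizing (Cfsg.spToMat m F) ((Submodule.span F {(Pi.single i (1 : F) : Fin m ⊕ Fin m → F)} : Submodule F (Fin m ⊕ Fin m → F)) : Set (Fin m ⊕ Fin m → F)) : Set (Matrix.symplecticGroup (Fin m) F))) = 2 ^ m * Nat.factorial m * (q - 1) ^ m := by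
  classical
  obtain ⟨T, hT⟩ : ∃ T, T = ⨅ i : Fin m ⊕ Fin m, Cfsg.stabilizing (Cfsg.spToMat m F) ((Submodule.span F {(Pi.single i (1 : F) : Fin m ⊕ Fin m → F)} : Submodule F (Fin m ⊕ Fin m → F)) : Set (Fin m ⊕ Fin m → F)) := ⟨_, rfl⟩
  rw [Set.iInf_eq_iInter, ← Subgroup.coe_iInf, ← hT]
  have hmem : ∀ t : CfsgLib.Lie.Sp.G m F, t ∈ T ↔ ∀ j, ∃ a : F, CfsgLib.Lie.Sp.act t (Pi.single j 1) = a • Pi.single j 1 := by
    intro t
    rw [hT, Subgroup.mem_iInf]
    refine forall_congr' fun j => ⟨fun h => ?_, fun ⟨a, ha⟩ => S0774.mem_of_forward fun v hv => ?_⟩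
    · obtain ⟨a, ha⟩ := Submodule.mem_span_singleton.1 ((h (Pi.single j 1)).1 (Submodule.mem_span_singleton_self _))
      exact ⟨a, ha.symm⟩
    · obtain ⟨b, rfl⟩ := Submodule.mem_span_singleton.1 hv
      refine Submodule.mem_span_singleton.2 ⟨b * a, ?_⟩
      rw [Matrix.mulVec_smul, show Matrix.mulVec (t : Matrix (Fin m ⊕ Fin m) (Fin m ⊕ Fin m) F) (Pi.single j 1) = a • Pi.single j 1 from ha, smul_smul]
  let N := Subgroup.normalizer (T : Set (CfsgLib.Lie.Sp.G m F))
  let g : Equiv.Perm (Fin m) × (Fin m → Bool) × (Fin m → Fˣ) → CfsgLib.Lie.Sp.G m F :=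
    fun p => ⟨mono (perm p.1 p.2.1) (coef p.2.1 p.2.2), mono_sp _ _ _⟩
  have hact : ∀ p j, CfsgLib.Lie.Sp.act (g p) (Pi.single j 1) = coef p.2.1 p.2.2 j • Pi.single (perm p.1 p.2.1 j) 1 :=
    fun p j => mono_single _ _ j
  have hN : ∀ p, g p ∈ N := by
    intro p
    have hinv : ∀ j, CfsgLib.Lie.Sp.act (g p)⁻¹ (Pi.single (perm p.1 p.2.1 j) 1) =
        (coef p.2.1 p.2.2 j)⁻¹ • Pi.single j 1 := fun j => by
      rw [← CfsgLib.Lie.Sp.act_inv_act (g p) ((coef p.2.1 p.2.2 j)⁻¹ • Pi.single j 1), CfsgLib.Lie.Sp.act_smul,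
        hact, smul_smul, inv_mul_cancel₀ (coef_ne _ _ j), one_smul]
    rw [Subgroup.mem_normalizer_iff]
    intro t
    constructor
    · intro ht
      rw [hmem] at ht ⊢
      intro k
      obtain ⟨j, rfl⟩ := (Finite.injective_iff_surjective.1 (perm_inj p.1 p.2.1)) k
      obtain ⟨a, ha⟩ := ht j
      refine ⟨a, ?_⟩
      rw [CfsgLib.Lie.Sp.act_mul, CfsgLib.Lie.Sp.act_mul, hinv, CfsgLib.Lie.Sp.act_smul, ha,
        CfsgLib.Lie.Sp.act_smul, CfsgLib.Lie.Sp.act_smul, hact, smul_smul, smul_smul]
      congr 1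
      field_simp [coef_ne _ _ j]
    · intro ht
      rw [hmem] at ht ⊢
      intro j
      obtain ⟨a, ha⟩ := ht (perm p.1 p.2.1 j)
      refine ⟨a, ?_⟩
      rw [CfsgLib.Lie.Sp.act_mul, CfsgLib.Lie.Sp.act_mul, hinv, CfsgLib.Lie.Sp.act_smul,
        CfsgLib.Lie.Sp.act_smul] at ha
      have h9 := congrArg (CfsgLib.Lie.Sp.act (g p)⁻¹) ha
      rw [CfsgLib.Lie.Sp.act_smul, CfsgLib.Lie.Sp.act_inv_act, CfsgLib.Lie.Sp.act_smul, hinv, smul_smul] at h9
      have h10 := congrArg (coef p.2.1 p.2.2 j • ·) h9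
      simp only [smul_smul] at h10
      rw [mul_inv_cancel₀ (coef_ne p.2.1 p.2.2 j), one_smul] at h10
      rw [h10]
      congr 1
      field_simp [coef_ne _ _ j]
  have hinj : Function.Injective fun p => (⟨g p, hN p⟩ : N) := by
    intro p p' h
    have hgg : g p = g p' := congrArg Subtype.val h
    have hj : ∀ j, coef p.2.1 p.2.2 j • (Pi.single (perm p.1 p.2.1 j) 1 : Fin m ⊕ Fin m → F) =
        coef p'.2.1 p'.2.2 j • Pi.single (perm p'.1 p'.2.1 j) 1 := fun j => by rw [← hact, ← hact, hgg]
    have hp : ∀ j, perm p.1 p.2.1 j = perm p'.1 p'.2.1 j := fun j => by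
      by_contra hne
      have h9 := congrFun (hj j) (perm p.1 p.2.1 j)
      simp [hne] at h9
      exact coef_ne _ _ j h9
    have hc : ∀ j, coef p.2.1 p.2.2 j = coef p'.2.1 p'.2.2 j := fun j => by
      have h9 := congrFun (hj j) (perm p.1 p.2.1 j)
      simpa [← hp j] using h9
    obtain ⟨τ, ε, u⟩ := p
    obtain ⟨τ', ε', u'⟩ := p'
    have hte : ∀ i, τ i = τ' i ∧ ε i = ε' i := fun i => by
      have h1 := hp (Sum.inl i)
      cases h2 : ε i <;> cases h3 : ε' i <;> simp_all [perm]
    exact Prod.ext (Equiv.ext fun i => (hte i).1) (Prod.ext (funext fun i => (hte i).2)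
      (funext fun i => Units.ext (hc (Sum.inl i))))
  have hsurj : Function.Surjective fun p => (⟨g p, hN p⟩ : N) := by
    rintro ⟨x, hx⟩
    set G := ((x : CfsgLib.Lie.Sp.G m F) : Matrix (Fin m ⊕ Fin m) (Fin m ⊕ Fin m) F) with hG
    have htorus : ∀ d : Fin m → Fˣ, ∃ t : CfsgLib.Lie.Sp.G m F, t ∈ T ∧
        (t : Matrix (Fin m ⊕ Fin m) (Fin m ⊕ Fin m) F) = Matrix.diagonal (coef (fun _ => false) d) := by
      intro d
      have e : mono (perm (1 : Equiv.Perm (Fin m)) (fun _ => false)) (coef (fun _ => false) d) =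
          Matrix.diagonal (coef (fun _ => false) d) := by
        ext k j
        rcases k with k | k <;> rcases j with j | j <;>
          simp [mono, perm, Matrix.diagonal_apply, eq_comm] <;> split_ifs <;> simp_all
      refine ⟨g (1, fun _ => false, d), (hmem _).2 fun j => ⟨coef (fun _ => false) d j, ?_⟩, e⟩
      rw [hact]
      rcases j with j | j <;> simp [perm]
    obtain ⟨a, ha0, ha1, ha2⟩ : ∃ a : F, a ≠ 0 ∧ a ≠ 1 ∧ a ≠ -1 := by
      by_contra hc
      push Not at hc
      have hsub : (Finset.univ : Finset F) ⊆ {0, 1, -1} := fun b _ => by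
        simp only [Finset.mem_insert, Finset.mem_singleton]
        by_cases h0 : b = 0
        · exact Or.inl h0
        · by_cases h1 : b = 1
          · exact Or.inr (Or.inl h1)
          · exact Or.inr (Or.inr (hc b h0 h1))
      have := (Finset.card_le_card hsub).trans Finset.card_le_three
      rw [Finset.card_univ, hF] at this
      omega
    have hrow1 : ∀ r j k, G r j ≠ 0 → G r k ≠ 0 → j = k := by
      intro r j k hj hk
      by_contra hjk
      obtain ⟨d, hd⟩ : ∃ d : Fin m → Fˣ, coef (fun _ => false) d j ≠ coef (fun _ => false) d k := by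
        refine ⟨fun i => if i = Sum.elim id id j then Units.mk0 a ha0 else 1, ?_⟩
        have hsq : a ≠ a⁻¹ := fun h => by
          have hsq1 : a * a = 1 := by
            nth_rw 2 [h]
            exact mul_inv_cancel₀ ha0
          rcases mul_self_eq_one_iff.1 hsq1 with h | h
          · exact ha1 h
          · exact ha2 h
        rcases j with j | j <;> rcases k with k | k <;> by_cases h : k = j
        all_goals first
          | (simp [coef, h, ha1, hsq, Ne.symm hsq, inv_eq_one]; done)
          | (subst h; exact absurd rfl hjk)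
      obtain ⟨t, ht, htd⟩ := htorus d
      have ht' := (Subgroup.mem_normalizer_iff.1 hx t).1 ht
      rw [hmem] at ht'
      choose d' hd' using ht'
      have h1 : ((x * t * x⁻¹ : CfsgLib.Lie.Sp.G m F) : Matrix (Fin m ⊕ Fin m) (Fin m ⊕ Fin m) F) = Matrix.diagonal d' := by
        refine Matrix.ext_of_mulVec_single fun l => ?_
        refine (hd' l).trans ?_
        funext s
        simp [Matrix.diagonal_apply, Pi.single_apply, eq_comm]
      have h2 : G * Matrix.diagonal (coef (fun _ => false) d) = Matrix.diagonal d' * G := by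
        rw [← h1, ← htd, hG, ← Submonoid.coe_mul, ← Submonoid.coe_mul, inv_mul_cancel_right]
      have e1 := congrFun (congrFun h2 r) j
      have e2 := congrFun (congrFun h2 r) k
      rw [Matrix.mul_diagonal, Matrix.diagonal_mul] at e1 e2
      exact hd ((mul_left_cancel₀ hj (by linear_combination e1 : G r j * coef (fun _ => false) d j = G r j * d' r)).trans
        (mul_left_cancel₀ hk (by linear_combination e2 : G r k * coef (fun _ => false) d k = G r k * d' r)).symm)
    have hdet : G.det ≠ 0 := (SymplecticGroup.symplectic_det x.2).ne_zero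
    have hrow : ∀ i, ∃ j, G i j ≠ 0 := fun i => by
      by_contra h
      push Not at h
      exact hdet (Matrix.det_eq_zero_of_row_eq_zero i h)
    choose σ hσ using hrow
    have hσs : Function.Surjective σ := fun j => by
      by_contra hj
      push Not at hj
      refine hdet (Matrix.det_eq_zero_of_column_eq_zero j fun i => ?_)
      by_contra hij
      exact hj i (hrow1 i _ _ (hσ i) hij)
    have hσi : Function.Injective σ := Finite.injective_iff_surjective.2 hσs
    choose π hπ using hσs
    have hcolx : ∀ j, CfsgLib.Lie.Sp.act x (Pi.single j 1) = G (π j) j • Pi.single (π j) 1 := by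
      intro j
      funext k
      show Matrix.mulVec G (Pi.single j 1) k = _
      rw [Matrix.mulVec_single_one, Matrix.col_apply, Pi.smul_apply, smul_eq_mul]
      by_cases hk : k = π j
      · subst hk; simp
      · rw [Pi.single_eq_of_ne hk, mul_zero]
        by_contra hne
        exact hk (hσi ((hrow1 k _ _ (hσ k) hne).trans (hπ j).symm))
    have hcne : ∀ j, G (π j) j ≠ 0 := fun j => by
      have h9 := hσ (π j)
      rwa [hπ] at h9
    have hpair : ∀ j, π j.swap = (π j).swap ∧ G (π j) j * G (π j.swap) j.swap * sg (π j) = sg j := by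
      intro j
      have h9 := CfsgLib.Lie.Sp.bf_act x (Pi.single j 1) (Pi.single j.swap 1)
      rw [hcolx, hcolx] at h9
      simp only [map_smul, LinearMap.smul_apply, bf_single, smul_eq_mul, Pi.single_eq_same, mul_one] at h9
      by_cases heq : π j.swap = (π j).swap
      · refine ⟨heq, ?_⟩
        rw [← heq, Pi.single_eq_same] at h9
        linear_combination h9
      · exfalso
        rw [Pi.single_eq_of_ne (Ne.symm heq)] at h9
        rcases j with i | i <;> simp [sg] at h9
    have hπi : Function.Injective π := fun j k h => by rw [← hπ j, ← hπ k, h]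
    let τ0 : Fin m → Fin m := fun i => Sum.elim id id (π (Sum.inl i))
    let ε : Fin m → Bool := fun i => (π (Sum.inl i)).isRight
    have hτi : Function.Injective τ0 := by
      intro i k h
      have hor : π (Sum.inl i) = π (Sum.inl k) ∨ π (Sum.inl i) = (π (Sum.inl k)).swap := by
        have h' : Sum.elim id id (π (Sum.inl i)) = Sum.elim id id (π (Sum.inl k)) := h
        revert h'
        rcases π (Sum.inl i) with a | a <;> rcases π (Sum.inl k) with b | b <;> intro h' <;>
          simp only [Sum.elim_inl, Sum.elim_inr, id] at h' <;> subst h' <;> simp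
      rcases hor with h | h
      · exact Sum.inl_injective (hπi h)
      · rw [← (hpair (Sum.inl k)).1] at h
        exact absurd (hπi h) (by simp)
    let τ : Equiv.Perm (Fin m) := Equiv.ofBijective τ0 ⟨hτi, Finite.injective_iff_surjective.1 hτi⟩
    let u : Fin m → Fˣ := fun i => Units.mk0 (G (π (Sum.inl i)) (Sum.inl i)) (hcne _)
    have hl : ∀ i, perm τ ε (Sum.inl i) = π (Sum.inl i) := fun i => by
      show (if (π (Sum.inl i)).isRight then Sum.inr (τ0 i) else Sum.inl (τ0 i)) = π (Sum.inl i)
      show (if (π (Sum.inl i)).isRight then Sum.inr (Sum.elim id id (π (Sum.inl i))) else Sum.inl (Sum.elim id id (π (Sum.inl i)))) = π (Sum.inl i)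
      rcases π (Sum.inl i) with a | a <;> simp
    have hall : ∀ j, perm τ ε j = π j ∧ coef ε u j = G (π j) j := by
      intro j
      rcases j with i | i
      · exact ⟨hl i, rfl⟩
      · have hp := hpair (Sum.inl i)
        have e1 : perm τ ε (Sum.inr i) = π (Sum.inr i) := by
          rw [show (Sum.inr i : Fin m ⊕ Fin m) = (Sum.inl i).swap from rfl, perm_swap, hl, hp.1]
        refine ⟨e1, ?_⟩
        have h9 := hp.2
        simp only [Sum.swap_inl, sg] at h9
        show (if (π (Sum.inl i)).isRight then -(G (π (Sum.inl i)) (Sum.inl i))⁻¹ else (G (π (Sum.inl i)) (Sum.inl i))⁻¹) = _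
        have hne := hcne (Sum.inl i)
        revert h9 hne
        generalize G (π (Sum.inl i)) (Sum.inl i) = y
        generalize G (π (Sum.inr i)) (Sum.inr i) = z
        rcases π (Sum.inl i) with a | a <;> intro h9 hne <;> simp at h9 ⊢ <;> field_simp <;> linear_combination -h9
    refine ⟨(τ, ε, u), Subtype.ext (CfsgLib.Lie.Sp.act_ext fun v => ?_)⟩
    have hlin : Matrix.toLin' ((g (τ, ε, u) : CfsgLib.Lie.Sp.G m F) : Matrix (Fin m ⊕ Fin m) (Fin m ⊕ Fin m) F) =
        Matrix.toLin' G := by
      refine (Pi.basisFun F _).ext fun j => ?_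
      rw [Pi.basisFun_apply, Matrix.toLin'_apply, Matrix.toLin'_apply]
      exact (hact (τ, ε, u) j).trans (by rw [(hall j).1, (hall j).2]; exact (hcolx j).symm)
    exact LinearMap.congr_fun hlin v
  rw [show Nat.card ↥(Subgroup.normalizer (T : Set (Matrix.symplecticGroup (Fin m) F))) = Nat.card N from rfl,
    ← Nat.card_eq_of_bijective _ ⟨hinj, hsurj⟩]
  simp [Fintype.card_units, hF, Fintype.card_perm]
  ring

end Cfsg.Agent.S0777
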