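import Cfsg.Statements.S0778
import Cfsg.Agent.Lie.Sp

set_option autoImplicit false
open Cfsg
open scoped Matrix

namespace Cfsg.Agent.S0778

/-- The elements of Sp_2m(F) stabilising both W = ⟨e_1..e_m⟩ and U = ⟨f_1..f_m⟩ form a subgroup isomorphic to GL_m(F) (block-diagonal matrices diag(X, X^(−ᵀ)) up to the sign convention of J), for m ≥ 1 or m = 0 alike. -/
theorem result {F : Type*} [Field F] (m : ℕ) : Nonempty (↥(Cfsg.stabilizing (Cfsg.spToMat m F) {v : Fin m ⊕ Fin m → F | ∀ i : Fin m, v (Sum.inr i) = 0} ⊓ Cfsg.stabilizing (Cfsg.spToMat m F) {v : Fin m ⊕ Fin m → F | ∀ i : Fin m, v (Sum.inl i) = 0}) ≃* Matrix.GeneralLinearGroup (Fin m) F) := by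
  classical
  let mat : Matrix.GeneralLinearGroup (Fin m) F → Matrix (Fin m ⊕ Fin m) (Fin m ⊕ Fin m) F := fun A =>
    Matrix.fromBlocks (A : Matrix (Fin m) (Fin m) F) 0 0
      ((A⁻¹ : Matrix.GeneralLinearGroup (Fin m) F) : Matrix (Fin m) (Fin m) F)ᵀ
  have hmem : ∀ A, mat A ∈ Matrix.symplecticGroup (Fin m) F := fun A => by
    rw [SymplecticGroup.mem_iff']
    simp only [mat, Matrix.J, Matrix.fromBlocks_transpose, Matrix.fromBlocks_multiply]
    simp [-Matrix.coe_units_inv, ← Matrix.transpose_mul, Matrix.mul_neg]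
  have hblock : ∀ (X : Matrix (Fin m) (Fin m) F) (Y : Matrix (Fin m) (Fin m) F)
      (v : Fin m ⊕ Fin m → F), Matrix.fromBlocks X 0 0 Y *ᵥ v =
        Sum.elim (X *ᵥ (v ∘ Sum.inl)) (Y *ᵥ (v ∘ Sum.inr)) := fun X Y v => by
    simp [Matrix.fromBlocks_mulVec]
  let G0 := Matrix.symplecticGroup (Fin m) F
  have hst : ∀ A, (⟨mat A, hmem A⟩ : G0) ∈
      Cfsg.stabilizing (Cfsg.spToMat m F) {v : Fin m ⊕ Fin m → F | ∀ i : Fin m, v (Sum.inr i) = 0} ⊓
      Cfsg.stabilizing (Cfsg.spToMat m F) {v : Fin m ⊕ Fin m → F | ∀ i : Fin m, v (Sum.inl i) = 0} := by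
    have hz : ∀ (A B : Matrix (Fin m) (Fin m) F) (v : Fin m → F), B * A = 1 →
        ((∀ i, v i = 0) ↔ ∀ i, (A *ᵥ v) i = 0) := by
      intro A B v hBA
      constructor
      · intro h i; rw [show v = 0 from funext h, Matrix.mulVec_zero]; rfl
      · intro h i
        rw [← Matrix.one_mulVec v, ← hBA, ← Matrix.mulVec_mulVec, show A *ᵥ v = 0 from funext h,
          Matrix.mulVec_zero]
        rfl
    intro A
    refine Subgroup.mem_inf.2 ⟨fun v => ?_, fun v => ?_⟩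
    · change (∀ i, v (Sum.inr i) = 0) ↔ ∀ i, (mat A *ᵥ v) (Sum.inr i) = 0
      simp only [mat, hblock, Sum.elim_inr]
      refine hz _ ((A : Matrix (Fin m) (Fin m) F))ᵀ (v ∘ Sum.inr) ?_
      rw [← Matrix.transpose_mul, ← Units.val_mul, inv_mul_cancel, Units.val_one, Matrix.transpose_one]
    · change (∀ i, v (Sum.inl i) = 0) ↔ ∀ i, (mat A *ᵥ v) (Sum.inl i) = 0
      simp only [mat, hblock, Sum.elim_inl]
      exact hz _ ((A⁻¹ : Matrix.GeneralLinearGroup (Fin m) F) : Matrix (Fin m) (Fin m) F)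
        (v ∘ Sum.inl) (by rw [← Units.val_mul, inv_mul_cancel, Units.val_one])
  let φ : Matrix.GeneralLinearGroup (Fin m) F →* _ := MonoidHom.mk' (fun A => (⟨_, hst A⟩ :
      ↥(Cfsg.stabilizing (Cfsg.spToMat m F) {v : Fin m ⊕ Fin m → F | ∀ i : Fin m, v (Sum.inr i) = 0} ⊓
        Cfsg.stabilizing (Cfsg.spToMat m F) {v : Fin m ⊕ Fin m → F | ∀ i : Fin m, v (Sum.inl i) = 0})))
    fun A B => Subtype.ext (Subtype.ext (by
      change mat (A * B) = mat A * mat B
      simp [mat, -Matrix.coe_units_inv, Matrix.fromBlocks_multiply, ← Matrix.transpose_mul]))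
  refine ⟨(MulEquiv.ofBijective φ ⟨fun A B h => ?_, fun g => ?_⟩).symm⟩
  · have h1 : mat A = mat B := congrArg (fun g => ((g.1 : G0) : Matrix (Fin m ⊕ Fin m) (Fin m ⊕ Fin m) F)) h
    exact Units.ext (Matrix.fromBlocks_inj.1 h1).1
  · obtain ⟨⟨M, hM⟩, hg⟩ := g
    obtain ⟨hg1, hg2⟩ := Subgroup.mem_inf.1 hg
    have h12 : M.toBlocks₁₂ = 0 := by
      ext i j
      have := (hg2 (Pi.single (Sum.inr j) 1)).1 (fun k => by simp) i
      simpa [Matrix.mulVec_single, Matrix.toBlocks₁₂] using this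
    have h21 : M.toBlocks₂₁ = 0 := by
      ext i j
      have := (hg1 (Pi.single (Sum.inl j) 1)).1 (fun k => by simp) i
      simpa [Matrix.mulVec_single, Matrix.toBlocks₂₁] using this
    have hM' : M = Matrix.fromBlocks M.toBlocks₁₁ 0 0 M.toBlocks₂₂ := by
      conv_lhs => rw [← Matrix.fromBlocks_toBlocks M, h12, h21]
    have hrel := SymplecticGroup.mem_iff'.1 hM
    rw [hM'] at hrel
    simp only [Matrix.J, Matrix.fromBlocks_transpose, Matrix.fromBlocks_multiply] at hrel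
    have h1 : M.toBlocks₂₂ᵀ * M.toBlocks₁₁ = 1 := by
      have := (Matrix.fromBlocks_inj.1 hrel).2.2.1
      simpa using this
    refine ⟨⟨M.toBlocks₁₁, M.toBlocks₂₂ᵀ, mul_eq_one_comm.1 h1, h1⟩, Subtype.ext (Subtype.ext ?_)⟩
    change mat _ = M
    conv_rhs => rw [hM']
    simp [mat, -Matrix.coe_units_inv]

end Cfsg.Agent.S0778
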