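import Cfsg.Statements.S0780
import Cfsg.Agent.Lie.SUGen

set_option autoImplicit false
open Cfsg

namespace Cfsg.Agent.S0780

/-- Generation of SU_n(q), n ≥ 3, (n, q) ≠ (3, 2), by unitary transvections: the subgroup generated by the elements whose matrix is x ↦ x + c h(x, v) v with v isotropic is all of SU_n(q). -/
theorem result {F : Type*} [Field F] [Fintype F] {q : ℕ} (hF : Fintype.card F = q ^ 2) (n : ℕ) (hn : 3 ≤ n) (h32 : ¬ (n = 3 ∧ q = 2)) : Subgroup.closure {A : ↥(Cfsg.SU n F q) | ∃ (v : Fin n → F) (c : F), Cfsg.hermForm n F q v v = 0 ∧ ((A : Matrix.SpecialLinearGroup (Fin n) F) : Matrix (Fin n) (Fin n) F) = Cfsg.unitaryTransvection n q v c} = ⊤ := by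
  let φ : ↥(Cfsg.SU n F q) →* GL (Fin n) F :=
    (Matrix.SpecialLinearGroup.toGL).comp (Cfsg.SU n F q).subtype
  have hφ : Function.Injective φ := fun a b h => by
    have := congrArg Units.val h
    exact Subtype.ext (Subtype.ext this)
  set S : Set ↥(Cfsg.SU n F q) := {A : ↥(Cfsg.SU n F q) | ∃ (v : Fin n → F) (c : F), Cfsg.hermForm n F q v v = 0 ∧ ((A : Matrix.SpecialLinearGroup (Fin n) F) : Matrix (Fin n) (Fin n) F) = Cfsg.unitaryTransvection n q v c}
  have hle : CfsgLib.Lie.SUGen.T n F q ≤ (Subgroup.closure S).map φ := by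
    rw [CfsgLib.Lie.SUGen.T, Subgroup.closure_le]
    rintro _ ⟨v, c, hv, hc, rfl⟩
    have hdet : (Cfsg.unitaryTransvection n q v c).det = 1 := by
      rw [Cfsg.unitaryTransvection, CfsgLib.Lie.SUGen.det_upd, hv, mul_zero, add_zero]
    refine ⟨⟨⟨_, hdet⟩, ?_⟩, Subgroup.subset_closure ⟨v, c, hv, rfl⟩, ?_⟩
    · intro x y
      have h := CfsgLib.Lie.Herm.mem_GU.1 (CfsgLib.Lie.SUGen.tu_mem_GU hF v hc) x y
      rw [CfsgLib.Lie.SUGen.tu_val hv] at h
      exact h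
    · exact Units.ext (CfsgLib.Lie.SUGen.tu_val hv c).symm
  rw [eq_top_iff]
  intro A _
  have hA : φ A ∈ Cfsg.GU n F q ⊓ Cfsg.Geo.specialLinear (Fin n) F :=
    ⟨A.2, Units.ext (A : Matrix.SpecialLinearGroup (Fin n) F).2⟩
  obtain ⟨B, hB, hBA⟩ := hle (CfsgLib.Lie.SUGen.su_le_T hF hn h32 hA)
  rwa [← hφ hBA]

end Cfsg.Agent.S0780
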