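import Cfsg.Statements.S0796


set_option autoImplicit false
open Cfsg

namespace Cfsg.Agent.S0796

/-- If G is finite and acts faithfully and primitively on X, H is the stabiliser of a point, A is a normal subgroup of H whose normal closure in G is G, then for every non-trivial normal subgroup K of G the quotient G ⧸ K is isomorphic to A ⧸ B for some normal subgroup B of A. -/
theorem result {G X : Type*} [Group G] [Finite G] [MulAction G X] [FaithfulSMul G X] (hprim : MulAction.IsPreprimitive G X) (x : X) (A : Subgroup G) (hA : A ≤ MulAction.stabilizer G x) (hAn : (A.subgroupOf (MulAction.stabilizer G x)).Normal) (hgen : Subgroup.normalClosure (A : Set G) = ⊤) (K : Subgroup G) [K.Normal] (hK : K ≠ ⊥) : ∃ (B : Subgroup A) (_ : B.Normal), Nonempty (G ⧸ K ≃* A ⧸ B) := by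
  classical
  have hqp : MulAction.IsQuasiPreprimitive G X := hprim.isQuasiPreprimitive
  have hKt : MulAction.IsPretransitive K X := by
    refine MulAction.IsQuasiPreprimitive.isPretransitive_of_normal ?_
    intro h
    refine hK ((Subgroup.eq_bot_iff_forall K).2 fun k hk => eq_of_smul_eq_smul (α := X) fun y => ?_)
    rw [one_smul]
    exact (h ▸ Set.mem_univ y : y ∈ MulAction.fixedPoints K X) ⟨k, hk⟩
  have hn : (K ⊔ A).Normal := ⟨fun n hn g => by
    obtain ⟨⟨k, hk⟩, hkx⟩ := MulAction.exists_smul_eq K x (g • x)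
    have hh : k⁻¹ * g ∈ MulAction.stabilizer G x := by
      rw [MulAction.mem_stabilizer_iff, mul_smul, inv_smul_eq_iff]
      exact hkx.symm
    have hKA : ∀ h ∈ MulAction.stabilizer G x, ∀ y ∈ K ⊔ A, h * y * h⁻¹ ∈ K ⊔ A := by
      intro h hh y hy
      refine (show K ⊔ A ≤ (K ⊔ A).comap (MulAut.conj h).toMonoidHom from sup_le ?_ ?_) hy
      · exact fun z hz => Subgroup.mem_sup_left ((inferInstance : K.Normal).conj_mem z hz h)
      · exact fun z hz => Subgroup.mem_sup_right (hAn.conj_mem ⟨z, hA hz⟩ hz ⟨h, hh⟩)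
    have h1 := hKA _ hh n hn
    have h2 := (K ⊔ A).mul_mem ((K ⊔ A).mul_mem (Subgroup.mem_sup_left hk) h1)
      ((K ⊔ A).inv_mem (Subgroup.mem_sup_left hk))
    simpa [mul_assoc] using h2⟩
  have htop : K ⊔ A = ⊤ := top_le_iff.1 (hgen ▸ Subgroup.normalClosure_le_normal (SetLike.coe_subset_coe.2 (le_sup_right : A ≤ K ⊔ A)))
  let φ : A →* G ⧸ K := (QuotientGroup.mk' K).comp A.subtype
  have hsurj : Function.Surjective φ := by
    intro y
    obtain ⟨g, rfl⟩ := QuotientGroup.mk'_surjective K y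
    obtain ⟨k, hk, a, ha, rfl⟩ := Subgroup.mem_sup_of_normal_left.1 (htop ▸ Subgroup.mem_top g : g ∈ K ⊔ A)
    refine ⟨⟨a, ha⟩, ?_⟩
    change QuotientGroup.mk' K a = QuotientGroup.mk' K (k * a)
    rw [map_mul, show QuotientGroup.mk' K k = 1 from (QuotientGroup.eq_one_iff k).2 hk, one_mul]
  exact ⟨φ.ker, MonoidHom.normal_ker φ, ⟨(QuotientGroup.quotientKerEquivOfSurjective φ hsurj).symm⟩⟩

end Cfsg.Agent.S0796
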