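import Cfsg.Statements.S0800
import Cfsg.Agent.Lie.Orders

set_option autoImplicit false
open Cfsg

namespace Cfsg.Agent.S0800

/-- Tori of SL_2(q): if g ∈ SL_2(q) has order coprime to the characteristic p, then the order of g divides q − 1 or q + 1. -/
theorem result {F : Type*} [Field F] [Fintype F] {q : ℕ} (hF : Fintype.card F = q) (p : ℕ) [Fact p.Prime] [CharP F p] (g : Matrix.SpecialLinearGroup (Fin 2) F) (hg : Nat.Coprime (orderOf g) p) : orderOf g ∣ q - 1 ∨ orderOf g ∣ q + 1 := by
  classical
  have hq1 : 1 < q := hF ▸ Fintype.one_lt_card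
  set M : Matrix (Fin 2) (Fin 2) F := (g : Matrix (Fin 2) (Fin 2) F) with hM
  set t := M.trace with ht
  set f : Polynomial F := Polynomial.X ^ 2 - Polynomial.C t * Polynomial.X + 1 with hf
  have hch : M.charpoly = f := by
    rw [Matrix.charpoly_fin_two, show M.det = 1 from g.2, map_one, hf, ht]
  have hann : ∀ k : ℕ, f ∣ Polynomial.X ^ k - 1 → g ^ k = 1 := by
    rintro k ⟨c, hc⟩
    have h := congrArg (Polynomial.aeval M) hc
    rw [map_mul, ← hch, Matrix.aeval_self_charpoly, zero_mul, map_sub, map_pow, Polynomial.aeval_X,
      map_one, sub_eq_zero] at h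
    exact Subtype.ext h
  by_cases hroot : ∃ a : F, f.IsRoot a
  · left
    obtain ⟨a, ha⟩ := hroot
    have ha' : a * (t - a) = 1 := by
      simp [hf] at ha
      linear_combination -ha
    have ha0 : a ≠ 0 := left_ne_zero_of_mul_eq_one ha'
    have hb0 : t - a ≠ 0 := right_ne_zero_of_mul_eq_one ha'
    have hsplit : f = (Polynomial.X - Polynomial.C a) * (Polynomial.X - Polynomial.C (t - a)) := by
      have h1 : Polynomial.C a * Polynomial.C (t - a) = 1 := by rw [← map_mul, ha', map_one]
      rw [hf]
      simp only [map_sub] at h1 ⊢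
      linear_combination -h1
    have hlin : ∀ c : F, c ≠ 0 → Polynomial.X - Polynomial.C c ∣ Polynomial.X ^ (q - 1) - 1 := by
      intro c hc
      rw [Polynomial.dvd_iff_isRoot]
      simp [← hF, FiniteField.pow_card_sub_one_eq_one c hc]
    have hp : 2 ≤ p := (Fact.out : p.Prime).two_le
    have h1 : g ^ ((q - 1) * p) = 1 := hann _ (by
      rw [pow_mul, ← one_pow (M := Polynomial F) p, ← sub_pow_char, hsplit]
      calc (Polynomial.X - Polynomial.C a) * (Polynomial.X - Polynomial.C (t - a)) ∣
            (Polynomial.X ^ (q - 1) - 1) * (Polynomial.X ^ (q - 1) - 1 : Polynomial F) :=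
          mul_dvd_mul (hlin a ha0) (hlin _ hb0)
        _ = (Polynomial.X ^ (q - 1) - 1) ^ 2 := (pow_two _).symm
        _ ∣ _ := pow_dvd_pow _ hp)
    exact (Nat.Coprime.dvd_mul_right hg).1 (orderOf_dvd_of_pow_eq_one h1)
  · right
    push_neg at hroot
    have hdeg : f.natDegree = 2 := by rw [← hch, Matrix.charpoly_natDegree_eq_dim, Fintype.card_fin]
    have hirr : Irreducible f := Polynomial.irreducible_of_degree_le_three_of_not_isRoot
      (Finset.mem_Icc.2 (by omega)) hroot
    have : Fact (Irreducible f) := ⟨hirr⟩
    refine orderOf_dvd_of_pow_eq_one (hann _ ?_)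
    rw [← AdjoinRoot.mk_eq_zero, map_sub, map_pow, AdjoinRoot.mk_X, map_one, sub_eq_zero]
    set r := AdjoinRoot.root f with hr
    have h0 : Polynomial.aeval r f = 0 := by
      rw [hr, AdjoinRoot.aeval_eq, AdjoinRoot.mk_self]
    have h1 : Polynomial.aeval (r ^ q) f = 0 := by
      have := congrArg (FiniteField.frobeniusAlgHom F (AdjoinRoot f)) h0
      rw [← Polynomial.aeval_algHom_apply, map_zero] at this
      simpa [hF] using this
    have e0 : r ^ 2 - algebraMap F _ t * r + 1 = 0 := by simpa [hf] using h0
    have e1 : (r ^ q) ^ 2 - algebraMap F _ t * r ^ q + 1 = 0 := by simpa [hf] using h1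
    have hne : r ^ q ≠ r := by
      intro h
      have hs : r ∈ Set.range (algebraMap F (AdjoinRoot f)) := by
        by_contra hns
        have hd : (Polynomial.X ^ q - Polynomial.X : Polynomial (AdjoinRoot f)) ≠ 0 :=
          FiniteField.X_pow_card_sub_X_ne_zero _ hq1
        let S : Finset (AdjoinRoot f) := insert r (Finset.univ.image (algebraMap F (AdjoinRoot f)))
        have hS : S.card = q + 1 := by
          rw [Finset.card_insert_of_notMem (by simpa using hns),
            Finset.card_image_of_injective _ (algebraMap F (AdjoinRoot f)).injective,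
            Finset.card_univ, hF]
        have hle : S.card ≤ q := by
          refine le_trans (Finset.card_le_card (t := (Polynomial.X ^ q - Polynomial.X :
            Polynomial (AdjoinRoot f)).roots.toFinset) ?_) ?_
          · intro x hx
            rw [Multiset.mem_toFinset, Polynomial.mem_roots hd]
            rcases Finset.mem_insert.1 hx with rfl | hx
            · simp [h]
            · obtain ⟨y, -, rfl⟩ := Finset.mem_image.1 hx
              simp [← map_pow, ← hF, FiniteField.pow_card y]
          · refine (Multiset.toFinset_card_le _).trans ((Polynomial.card_roots' _).trans ?_)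
            rw [FiniteField.X_pow_card_sub_X_natDegree_eq _ hq1]
        omega
      obtain ⟨c, hc⟩ := hs
      refine hroot c ?_
      have := e0
      rw [← hc, ← map_pow, ← map_mul, ← map_sub, ← map_one (algebraMap F (AdjoinRoot f)), ← map_add,
        map_eq_zero] at this
      simpa [hf] using this
    have h2 : (r ^ q - r) * (r ^ q + r - algebraMap F _ t) = 0 := by linear_combination e1 - e0
    have h3 : r ^ q + r - algebraMap F _ t = 0 := (mul_eq_zero.1 h2).resolve_left (sub_ne_zero.2 hne)
    rw [pow_succ]
    linear_combination r * h3 - e0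

end Cfsg.Agent.S0800
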