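import Cfsg.Statements.S0802
import Cfsg.Agent.Lie.PSL2Small
-- import your own Cfsg.Agent.* helpers here

set_option autoImplicit false
open Cfsg

namespace Cfsg.Agent.S0802

/-- PSL_2(p^n) has a subgroup isomorphic to A_4 if and only if it is not the case that p = 2 and n is odd. -/
theorem result {F : Type*} [Field F] [Fintype F] (p n : ℕ) [Fact p.Prime] [CharP F p] (hF : Fintype.card F = p ^ n) : (∃ H : Subgroup (Matrix.ProjectiveSpecialLinearGroup (Fin 2) F), Nonempty (H ≃* alternatingGroup (Fin 4))) ↔ ¬ (p = 2 ∧ Odd n) := by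
  have hp : p.Prime := Fact.out
  have hn : n ≠ 0 := fun h => by
    have := Fintype.one_lt_card (α := F)
    rw [hF, h] at this; simp at this
  by_cases h : p = 2
  · subst h
    have h2 : (2 : F) = 0 := by exact_mod_cast CharP.cast_eq_zero F 2
    rcases Nat.even_or_odd n with he | ho
    · refine iff_of_true ?_ (fun hh => (Nat.not_odd_iff_even.2 he) hh.2)
      have h3 : 3 ∣ Nat.card Fˣ := by
        obtain ⟨m, rfl⟩ := he
        rw [Nat.card_units, Nat.card_eq_fintype_card, hF, ← two_mul, pow_mul]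
        simpa using Nat.sub_dvd_pow_sub_pow 4 1 m
      haveI : Fact (Nat.Prime 3) := ⟨Nat.prime_three⟩
      obtain ⟨u, hu⟩ := exists_prime_orderOf_dvd_card' (G := Fˣ) 3 h3
      have h1 : (u : F) ^ 3 = 1 := by rw [← Units.val_pow_eq_pow_val, ← hu, pow_orderOf_eq_one]; rfl
      have hne : (u : F) ≠ 1 := fun e => by
        rw [Units.val_eq_one.1 e, orderOf_one] at hu; omega
      refine CfsgLib.Lie.PSL2Small.exists_alt_four_two h2 (w := (u : F)) ?_
      exact (mul_eq_zero.1 (show ((u : F) - 1) * ((u : F) ^ 2 + u + 1) = 0 by linear_combination h1)).resolve_left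
        (sub_ne_zero.2 hne)
    · refine iff_of_false ?_ (fun hh => hh ⟨rfl, ho⟩)
      refine CfsgLib.Lie.PSL2Small.not_alt_four_two h2 fun b hb => ?_
      have hb0 : b ≠ 0 := fun e => by rw [e] at hb; simp at hb
      have hq := FiniteField.pow_card_sub_one_eq_one b hb0
      obtain ⟨m, rfl⟩ := ho
      obtain ⟨k, hk⟩ : ∃ k, Fintype.card F - 1 = 3 * k + 1 := by
        rw [hF, pow_succ, pow_mul]
        have := Nat.pow_mod 4 m 3
        norm_num at this ⊢
        exact ⟨(4 ^ m * 2 - 2) / 3, by omega⟩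
      rwa [hk, pow_succ, pow_mul, hb, one_pow, one_mul] at hq
  · refine iff_of_true (CfsgLib.Lie.PSL2Small.exists_alt_four ?_) (fun hh => h hh.1)
    rw [hF]
    exact Nat.odd_iff.1 ((hp.odd_of_ne_two h).pow)

end Cfsg.Agent.S0802
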