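import Cfsg.Statements.S0805
import Cfsg.Agent.Lie.PSL2Sub
-- import your own Cfsg.Agent.* helpers here

set_option autoImplicit false
open Cfsg

namespace Cfsg.Agent.S0805

/-- Subfield subgroups: let F be a finite field of odd order q and K a finite field with |K|^m = q, m ≥ 1. Then PSL_2(F) has a subgroup isomorphic to PSL_2(K), and has a subgroup isomorphic to PGL_2(K) if and only if m is even. -/
theorem result {F K : Type*} [Field F] [Fintype F] [Field K] [Fintype K] {q : ℕ} (hF : Fintype.card F = q) (hodd : Odd q) (m : ℕ) (hm : 1 ≤ m) (hK : Fintype.card K ^ m = q) : (∃ H : Subgroup (Matrix.ProjectiveSpecialLinearGroup (Fin 2) F), Nonempty (H ≃* Matrix.ProjectiveSpecialLinearGroup (Fin 2) K)) ∧ ((∃ H : Subgroup (Matrix.ProjectiveSpecialLinearGroup (Fin 2) F), Nonempty (H ≃* Matrix.ProjGenLinGroup (Fin 2) K)) ↔ Even m) := by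
  obtain ⟨f⟩ := CfsgLib.Lie.PSL2Sub.exists_ringHom (F := F) (K := K) m (hK.trans hF.symm)
  have hKo : Odd (Fintype.card K) := (Nat.odd_pow_iff (by omega)).1 (hK ▸ hodd)
  have hK3 : 3 ≤ Fintype.card K := by
    have := Fintype.one_lt_card (α := K)
    rcases hKo with ⟨c, hc⟩; omega
  have hq : Fintype.card F % 2 = 1 := by rw [hF]; exact Nat.odd_iff.1 hodd
  refine ⟨CfsgLib.Lie.PSL2Sub.exists_PSL f, fun ⟨H, ⟨e⟩⟩ => ?_, fun he => ?_⟩
  · obtain ⟨x, hx⟩ := CfsgLib.Lie.PSL2Sub.exists_order_PGL (K := K)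
    obtain ⟨p, hp⟩ := CharP.exists F
    haveI := hp
    haveI : Fact p.Prime := ⟨CharP.char_is_prime F p⟩
    have hmem : Fintype.card K + 1 ∈ Set.range (orderOf : Matrix.ProjectiveSpecialLinearGroup (Fin 2) F → ℕ) :=
      ⟨((e.symm x : H) : Matrix.ProjectiveSpecialLinearGroup (Fin 2) F), by
        rw [Subgroup.orderOf_coe, MulEquiv.orderOf_eq, hx]⟩
    rw [CfsgLib.PSLTwoSpec.range_orderOf p, hF, Nat.gcd_eq_left (by omega)] at hmem
    rcases hmem with h | h | h
    · exfalso
      have hpp : p.Prime := Fact.out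
      have h2 : p = 2 := hpp.eq_two_or_odd.resolve_right (by rw [← h]; rcases hKo with ⟨c, hc⟩; omega)
      omega
    all_goals by_contra hno
    all_goals obtain ⟨k, rfl⟩ := Nat.not_even_iff_odd.1 hno
    all_goals obtain ⟨s, hs⟩ : ∃ s, Fintype.card K = s := ⟨_, rfl⟩
    all_goals rw [hs] at h hK hK3 hKo
    · have h1 : s + 1 ∣ q - 1 := h.trans (Nat.div_dvd_of_dvd (by omega))
      have h2 : s + 1 ∣ q + 1 := by
        rw [← hK]
        simpa using (odd_two_mul_add_one k).nat_add_dvd_pow_add_pow s 1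
      have h3 := Nat.dvd_sub h2 h1
      rw [show q + 1 - (q - 1) = 2 by omega] at h3
      have := Nat.le_of_dvd two_pos h3
      omega
    · obtain ⟨d, hd⟩ := h
      have hz : ((s : ℤ) + 1) * (∑ i ∈ Finset.range (2 * k + 1), (-(s : ℤ)) ^ i) = (q : ℤ) + 1 := by
        have := geom_sum_mul (-(s : ℤ)) (2 * k + 1)
        rw [Odd.neg_pow (odd_two_mul_add_one k)] at this
        rw [← hK]; push_cast
        linear_combination -this
      have ho : Odd (∑ i ∈ Finset.range (2 * k + 1), (-(s : ℤ)) ^ i) := by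
        have key : ∀ n, Odd (∑ i ∈ Finset.range n, (-(s : ℤ)) ^ i) ↔ Odd n := by
          intro n
          induction n with
          | zero => simp
          | succ n ih =>
            have hp : Odd ((-(s : ℤ)) ^ n) := (((Int.odd_coe_nat s).2 hKo).neg).pow
            rw [Finset.sum_range_succ, Int.odd_add, Nat.odd_add_one, ih]
            simp [Int.not_even_iff_odd.2 hp]
        exact (key _).2 (odd_two_mul_add_one k)
      have hd' : (q : ℤ) + 1 = ((s : ℤ) + 1) * (2 * d) := by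
        have : q + 1 = 2 * ((s + 1) * d) := by omega
        calc (q : ℤ) + 1 = ((q + 1 : ℕ) : ℤ) := by push_cast; ring
          _ = _ := by rw [this]; push_cast; ring
      rw [mul_left_cancel₀ (show (s : ℤ) + 1 ≠ 0 by omega) (hz.trans hd')] at ho
      exact Int.not_odd_iff_even.2 (even_two_mul _) ho
  · obtain ⟨j, rfl⟩ := he
    refine CfsgLib.Lie.PSL2Sub.exists_PGL f fun a ha => ?_
    have hfa : f a ≠ 0 := fun h => ha (f.injective (h.trans (map_zero f).symm))
    rw [FiniteField.isSquare_iff (CfsgLib.Fus.PSL2Two.ringChar_ne_two hq) hfa, ← map_pow]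
    obtain ⟨c, hc⟩ : Fintype.card K - 1 ∣ Fintype.card F / 2 := by
      obtain ⟨s, hs⟩ : ∃ s, Fintype.card K = s := ⟨_, rfl⟩
      rw [hs] at hK hK3 hKo ⊢
      rw [hF, ← hK, ← two_mul, pow_mul]
      obtain ⟨d, hd⟩ : s ^ 2 - 1 ∣ (s ^ 2) ^ j - 1 := by simpa using Nat.sub_dvd_pow_sub_pow (s ^ 2) 1 j
      obtain ⟨r, rfl⟩ := hKo
      have hpos : 1 ≤ ((2 * r + 1) ^ 2) ^ j := Nat.one_le_pow _ _ (by positivity)
      have e1 : (2 * r + 1) ^ 2 - 1 = 4 * (r * (r + 1)) := by
        have : (2 * r + 1) ^ 2 = 4 * (r * (r + 1)) + 1 := by ring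
        omega
      rw [e1] at hd
      refine ⟨(r + 1) * d, ?_⟩
      rw [show 2 * r + 1 - 1 = 2 * r by omega]
      have : 2 * r * ((r + 1) * d) = 2 * (r * (r + 1) * d) := by ring
      have : 4 * (r * (r + 1)) * d = 4 * (r * (r + 1) * d) := by ring
      omega
    rw [hc, pow_mul, FiniteField.pow_card_sub_one_eq_one a ha, one_pow, map_one]

end Cfsg.Agent.S0805
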