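import Cfsg.Statements.S0807
import Cfsg.Agent.Lie.SL2Sylow
-- import your own Cfsg.Agent.* helpers here

set_option autoImplicit false
open Cfsg

namespace Cfsg.Agent.S0807

section

open CfsgLib.Fus.PSL2Two

variable {F : Type*} [Field F] [Fintype F]

local notation "SL2" => Matrix.SpecialLinearGroup (Fin 2) F
local notation "PSL2" => Matrix.ProjectiveSpecialLinearGroup (Fin 2) F

/-- anticommuting pairs of square roots of `-1` -/
def Pairs (F : Type*) [Field F] : Type _ :=
  {p : Matrix.SpecialLinearGroup (Fin 2) F × Matrix.SpecialLinearGroup (Fin 2) F //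
    p.1 * p.1 = -1 ∧ p.2 * p.2 = -1 ∧ p.1 * p.2 = -(p.2 * p.1)}

theorem sq_of_anti (hodd : Fintype.card F % 2 = 1) {g h : SL2} (e : g * h = -(h * g)) : h * h = -1 := by
  have ht : h 0 0 + h 1 1 = 0 := by
    have e1 : g * h * g⁻¹ = -h := by rw [e, neg_mul, mul_inv_cancel_right]
    have h1 : Matrix.trace ((g * h * g⁻¹ : SL2) : Matrix (Fin 2) (Fin 2) F) = Matrix.trace (h : Matrix (Fin 2) (Fin 2) F) := by
      rw [Matrix.SpecialLinearGroup.coe_mul, Matrix.trace_mul_comm, ← Matrix.SpecialLinearGroup.coe_mul,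
        ← mul_assoc, inv_mul_cancel, one_mul]
    rw [e1, Matrix.SpecialLinearGroup.coe_neg, Matrix.trace_neg, Matrix.trace_fin_two] at h1
    have h2 : (2 : F) * (h 0 0 + h 1 1) = 0 := by linear_combination -h1
    exact (mul_eq_zero.1 h2).resolve_left (two_ne_zero' hodd)
  have hd := h.2
  rw [Matrix.det_fin_two] at hd
  refine Subtype.ext (Matrix.ext fun i j => ?_)
  fin_cases i <;> fin_cases j <;> simp [Matrix.mul_apply, Fin.sum_univ_two]
  · linear_combination h 0 0 * ht - hd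
  · linear_combination h 0 1 * ht
  · linear_combination h 1 0 * ht
  · linear_combination h 1 1 * ht - hd

theorem card_pairs (hodd : Fintype.card F % 2 = 1) : Nat.card (Pairs F) = Nat.card SL2 := by
  classical
  obtain ⟨u, v, huv⟩ := exists_two_squares hodd (-1 : F)
  obtain ⟨h₀, hh0⟩ : ∃ h₀ : SL2, jEl * h₀ = -(h₀ * jEl) := by
    refine ⟨⟨!![u, v; v, -u], by simp [Matrix.det_fin_two]; linear_combination -huv⟩, Subtype.ext ?_⟩
    show !![(0 : F), -1; 1, 0] * !![u, v; v, -u] = -(!![u, v; v, -u] * !![(0 : F), -1; 1, 0])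
    ext i j; fin_cases i <;> fin_cases j <;> simp [Matrix.mul_apply, Fin.sum_univ_two]
  have hjj : (jEl : SL2) * jEl = -1 := by
    refine Subtype.ext ?_
    show !![(0 : F), -1; 1, 0] * !![(0 : F), -1; 1, 0] = -1
    ext i j; fin_cases i <;> fin_cases j <;> simp [Matrix.mul_apply, Fin.sum_univ_two]
  let R : Type _ := {g : SL2 // g * g = -1}
  choose k hk using fun g : R => exists_conj_j hodd g.2
  let C : Type _ := {c : SL2 // c * jEl = jEl * c}
  have conjsq : ∀ x : SL2, x * jEl * x⁻¹ * (x * jEl * x⁻¹) = -1 := fun x => by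
    rw [show x * jEl * x⁻¹ * (x * jEl * x⁻¹) = x * (jEl * jEl) * x⁻¹ by group, hjj, mul_neg, mul_one, neg_mul,
      mul_inv_cancel]
  have e1 : SL2 ≃ R × C :=
    { toFun := fun x => (⟨_, conjsq x⟩, ⟨(k ⟨_, conjsq x⟩)⁻¹ * x, by
        have h := hk ⟨_, conjsq x⟩
        calc (k ⟨_, conjsq x⟩)⁻¹ * x * jEl = (k ⟨_, conjsq x⟩)⁻¹ * (x * jEl * x⁻¹) * x := by group
          _ = (k ⟨_, conjsq x⟩)⁻¹ * (k ⟨_, conjsq x⟩ * jEl * (k ⟨_, conjsq x⟩)⁻¹) * x := congrArg (fun z => (k ⟨_, conjsq x⟩)⁻¹ * z * x) h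
          _ = jEl * ((k ⟨_, conjsq x⟩)⁻¹ * x) := by group⟩)
      invFun := fun p => k p.1 * p.2.1
      left_inv := fun x => by simp
      right_inv := fun p => by
        obtain ⟨g, c, hc⟩ := p
        have h1 : k g * c * jEl * (k g * c)⁻¹ = g.1 := by
          rw [mul_assoc (k g), hc, hk g]; group
        have h2 : (⟨k g * c * jEl * (k g * c)⁻¹, conjsq _⟩ : R) = g := Subtype.ext h1
        refine Prod.ext h2 (Subtype.ext ?_)
        show (k ⟨_, _⟩)⁻¹ * (k g * c) = c
        rw [h2, inv_mul_cancel_left] }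
  have e2 : Pairs F ≃ R × C :=
    { toFun := fun p => (⟨p.1.1, p.2.1⟩, ⟨h₀⁻¹ * ((k ⟨p.1.1, p.2.1⟩)⁻¹ * p.1.2 * k ⟨p.1.1, p.2.1⟩), by
        have h := hk ⟨p.1.1, p.2.1⟩
        set K := k ⟨p.1.1, p.2.1⟩
        have hj : jEl = K⁻¹ * p.1.1 * K := by rw [show p.1.1 = K * jEl * K⁻¹ from h]; group
        have ha : jEl * (K⁻¹ * p.1.2 * K) = -(K⁻¹ * p.1.2 * K * jEl) := by
          rw [hj, show K⁻¹ * p.1.1 * K * (K⁻¹ * p.1.2 * K) = K⁻¹ * (p.1.1 * p.1.2) * K by group, p.2.2.2,
            mul_neg, neg_mul]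
          congr 1; group
        have hb : jEl * h₀⁻¹ = -(h₀⁻¹ * jEl) := by
          have := congrArg (fun z => h₀⁻¹ * z * h₀⁻¹) hh0
          simp [mul_assoc] at this
          rw [this, neg_neg]
        calc h₀⁻¹ * (K⁻¹ * p.1.2 * K) * jEl = h₀⁻¹ * (K⁻¹ * p.1.2 * K * jEl) := mul_assoc _ _ _
          _ = h₀⁻¹ * -(jEl * (K⁻¹ * p.1.2 * K)) := by rw [ha, neg_neg]
          _ = -(h₀⁻¹ * jEl) * (K⁻¹ * p.1.2 * K) := by simp only [mul_neg, neg_mul, mul_assoc]
          _ = jEl * (h₀⁻¹ * (K⁻¹ * p.1.2 * K)) := by rw [← hb, mul_assoc]⟩)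
      invFun := fun p => ⟨(p.1.1, k p.1 * (h₀ * p.2.1) * (k p.1)⁻¹), by
        have hanti : p.1.1 * (k p.1 * (h₀ * p.2.1) * (k p.1)⁻¹) = -(k p.1 * (h₀ * p.2.1) * (k p.1)⁻¹ * p.1.1) := by
          rw [hk p.1, show k p.1 * jEl * (k p.1)⁻¹ * (k p.1 * (h₀ * p.2.1) * (k p.1)⁻¹) =
            k p.1 * (jEl * h₀ * p.2.1) * (k p.1)⁻¹ by group, hh0, neg_mul, mul_assoc h₀, ← p.2.2, mul_neg, neg_mul]
          congr 1; group
        exact ⟨p.1.2, sq_of_anti hodd hanti, hanti⟩⟩
      left_inv := fun p => Subtype.ext (Prod.ext rfl (by simp [mul_assoc]))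
      right_inv := fun p => Prod.ext rfl (Subtype.ext (by simp [mul_assoc])) }
  rw [Nat.card_congr e1, Nat.card_congr e2]

theorem fibre_two (hodd : Fintype.card F % 2 = 1) (x : PSL2) :
    Nat.card {g : SL2 // (QuotientGroup.mk g : PSL2) = x} = 2 := by
  obtain ⟨a, rfl⟩ := QuotientGroup.mk_surjective x
  have hne : a ≠ -a := fun h => by
    have h1 : (1 : SL2) = -1 := by
      have := congrArg (fun z => a⁻¹ * z) h
      simpa using this
    exact CfsgLib.Lie.SL2Sylow.neg_one_ne_one hodd h1.symm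
  rw [Nat.card_eq_two_iff]
  refine ⟨⟨a, rfl⟩, ⟨-a, ?_⟩, fun h => hne (congrArg Subtype.val h), Set.eq_univ_of_forall fun g => ?_⟩
  · rw [QuotientGroup.eq]
    have : (-a)⁻¹ * a = -1 := by simp
    rw [this]
    exact neg_one_mem_center
  · obtain ⟨g, hg⟩ := g
    rw [QuotientGroup.eq] at hg
    rcases mem_center_cases hg with h | h
    · left; exact Subtype.ext (inv_mul_eq_one.1 h)
    · right
      refine Subtype.ext ?_
      have := congrArg (fun z => g * z) h
      simp only [mul_inv_cancel_left, mul_neg, mul_one] at this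
      exact (by rw [this, neg_neg] : g = -a)

theorem main (hodd : Fintype.card F % 2 = 1) :
    12 * Nat.card {V : Subgroup PSL2 // IsKleinFour V} = Nat.card PSL2 := by
  classical
  let π : SL2 →* PSL2 := QuotientGroup.mk' _
  have hneg : π (-1) = 1 := (QuotientGroup.eq_one_iff _).2 neg_one_mem_center
  have hsq : ∀ g : SL2, π g ≠ 1 → π g * π g = 1 → g * g = -1 := fun g h1 h2 => by
    rw [← map_mul] at h2
    rcases mem_center_cases ((QuotientGroup.eq_one_iff _).1 h2) with h | h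
    · exact absurd (by rcases sq_eq_one_cases hodd h with rfl | rfl <;> [exact map_one π; exact hneg]) h1
    · exact h
  have hne1 : ∀ g : SL2, g * g = -1 → π g ≠ 1 := fun g h h1 => by
    rcases mem_center_cases ((QuotientGroup.eq_one_iff _).1 h1) with rfl | rfl <;> simp at h <;>
      exact CfsgLib.Lie.SL2Sylow.neg_one_ne_one hodd h.symm
  have key : ∀ p : Pairs F, π p.1.1 ≠ 1 ∧ π p.1.2 ≠ 1 ∧ π p.1.1 ≠ π p.1.2 ∧
      π p.1.1 * π p.1.1 = 1 ∧ π p.1.2 * π p.1.2 = 1 ∧ π p.1.1 * π p.1.2 = π p.1.2 * π p.1.1 := by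
    rintro ⟨⟨g, h⟩, hg, hh, hgh⟩
    refine ⟨hne1 g hg, hne1 h hh, fun e => ?_, by rw [← map_mul, hg, hneg], by rw [← map_mul, hh, hneg], ?_⟩
    · have e' : π (g⁻¹ * h) = 1 := by rw [map_mul, map_inv, e, inv_mul_cancel]
      have hc := Subgroup.mem_center_iff.1 ((QuotientGroup.eq_one_iff _).1 e') g
      have hc' : g * h = h * g := by
        calc g * h = g * (g * (g⁻¹ * h)) := by group
          _ = g * (g⁻¹ * h * g) := by rw [hc]
          _ = h * g := by group
      have h2 : h * g = -(h * g) := hc'.symm.trans hgh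
      have h3 : (1 : SL2) = -1 := by
        have := congrArg (fun z => (h * g)⁻¹ * z) h2
        simpa using this
      exact CfsgLib.Lie.SL2Sylow.neg_one_ne_one hodd h3.symm
    · show π g * π h = π h * π g
      rw [← map_mul, hgh, ← neg_one_mul (h * g), map_mul, hneg, one_mul, map_mul]
  have hV : ∀ p : Pairs F, ∃ V : {V : Subgroup PSL2 // IsKleinFour V}, π p.1.1 ∈ V.1 ∧ π p.1.2 ∈ V.1 := by
    intro p
    obtain ⟨hx, hy, hxy, hx2, hy2, hc⟩ := key p
    generalize π p.1.1 = x at *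
    generalize π p.1.2 = y at *
    have hxi : x⁻¹ = x := inv_eq_of_mul_eq_one_right hx2
    have hyi : y⁻¹ = y := inv_eq_of_mul_eq_one_right hy2
    have c1 : ∀ z, x * (x * z) = z := fun z => by rw [← mul_assoc, hx2, one_mul]
    have c2 : ∀ z, y * (y * z) = z := fun z => by rw [← mul_assoc, hy2, one_mul]
    have c3 : ∀ z, y * (x * z) = x * (y * z) := fun z => by rw [← mul_assoc, ← hc, mul_assoc]
    let V : Subgroup PSL2 :=
      { carrier := {1, x, y, x * y}
        one_mem' := Or.inl rfl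
        mul_mem' := fun {a b} ha hb => by
          simp only [Set.mem_insert_iff, Set.mem_singleton_iff] at ha hb ⊢
          rcases ha with rfl | rfl | rfl | rfl <;> rcases hb with rfl | rfl | rfl | rfl <;>
            simp [mul_assoc, hx2, hy2, c1, c2, c3, ← hc]
        inv_mem' := fun {a} ha => by
          simp only [Set.mem_insert_iff, Set.mem_singleton_iff] at ha ⊢
          rcases ha with rfl | rfl | rfl | rfl <;> simp [hxi, hyi, mul_inv_rev, ← hc] }
    have h1 : x * y ≠ 1 := fun e => hxy ((eq_inv_of_mul_eq_one_left e).trans hyi)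
    have h4 : Nat.card V = 4 := by
      show Set.ncard ({1, x, y, x * y} : Set PSL2) = 4
      rw [Set.ncard_insert_of_notMem (by simp [hx.symm, hy.symm, h1.symm]) (Set.toFinite _),
        Set.ncard_insert_of_notMem (by simp [hxy, hy]) (Set.toFinite _), Set.ncard_pair (by simp [hx])]
    haveI : Nontrivial V := Finite.one_lt_card_iff_nontrivial.1 (by omega)
    refine ⟨⟨V, h4, ?_⟩, Or.inr (Or.inl rfl), Or.inr (Or.inr (Or.inl rfl))⟩
    rw [Monoid.exponent_eq_prime_iff Nat.prime_two]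
    rintro ⟨z, hz⟩ hz1
    refine orderOf_eq_prime (Subtype.ext ?_) hz1
    show z ^ 2 = 1
    rw [pow_two]
    have hz' : z = 1 ∨ z = x ∨ z = y ∨ z = x * y := hz
    rcases hz' with rfl | rfl | rfl | rfl <;> simp [mul_assoc, hx2, hy2, c1, c3]
  choose W hW using hV
  have hsq' : ∀ (V : {V : Subgroup PSL2 // IsKleinFour V}) (z : PSL2), z ∈ V.1 → z * z = 1 := fun V z hz => by
    haveI := V.2
    exact congrArg Subtype.val (IsKleinFour.mul_self (⟨z, hz⟩ : V.1))
  have huniq : ∀ p (V : {V : Subgroup PSL2 // IsKleinFour V}), π p.1.1 ∈ V.1 → π p.1.2 ∈ V.1 → W p = V := by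
    intro p V h1 h2
    obtain ⟨hx, hy, hxy, hx2, hy2, -⟩ := key p
    have hmem : ∀ U : {V : Subgroup PSL2 // IsKleinFour V}, π p.1.1 ∈ U.1 → π p.1.2 ∈ U.1 →
        (U.1 : Set PSL2) = {1, π p.1.1, π p.1.2, π p.1.1 * π p.1.2} := fun U u1 u2 => by
      symm
      refine Set.eq_of_subset_of_ncard_le (fun z hz => ?_) (le_of_eq ?_) (Set.toFinite _)
      · rcases hz with rfl | rfl | rfl | rfl
        exacts [one_mem _, u1, u2, mul_mem u1 u2]
      · have h1' : π p.1.1 * π p.1.2 ≠ 1 := fun e =>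
          hxy ((eq_inv_of_mul_eq_one_left e).trans (inv_eq_of_mul_eq_one_right hy2))
        rw [Set.ncard_insert_of_notMem (by simp [hx.symm, hy.symm, h1'.symm]) (Set.toFinite _),
          Set.ncard_insert_of_notMem (by simp [hxy, hy]) (Set.toFinite _), Set.ncard_pair (by simp [hx])]
        exact U.2.card_four
    exact Subtype.ext (SetLike.coe_injective ((hmem _ (hW p).1 (hW p).2).trans (hmem V h1 h2).symm))
  have hfib : ∀ V : {V : Subgroup PSL2 // IsKleinFour V}, Nat.card {p : Pairs F // W p = V} = 24 := by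
    intro V
    haveI := Fintype.ofFinite V.1
    have e : {p : Pairs F // W p = V} ≃ Σ t : {t : V.1 × V.1 // t.1 ≠ 1 ∧ t.2 ≠ 1 ∧ t.1 ≠ t.2}, {g : SL2 // π g = (t.1.1 : PSL2)} × {h : SL2 // π h = (t.1.2 : PSL2)} :=
      { toFun := fun p => ⟨⟨(⟨π p.1.1.1, (congrArg (fun U : {V : Subgroup PSL2 // IsKleinFour V} => π p.1.1.1 ∈ U.1) p.2).mp (hW p.1).1⟩, ⟨π p.1.1.2, (congrArg (fun U : {V : Subgroup PSL2 // IsKleinFour V} => π p.1.1.2 ∈ U.1) p.2).mp (hW p.1).2⟩),
          fun e => (key p.1).1 (congrArg Subtype.val e), fun e => (key p.1).2.1 (congrArg Subtype.val e),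
          fun e => (key p.1).2.2.1 (congrArg Subtype.val e)⟩, ⟨p.1.1.1, rfl⟩, ⟨p.1.1.2, rfl⟩⟩
        invFun := fun s => ⟨⟨(s.2.1.1, s.2.2.1), by
          obtain ⟨⟨⟨⟨x, hx⟩, ⟨y, hy⟩⟩, n1, n2, n3⟩, ⟨g, hg⟩, ⟨h, hh⟩⟩ := s
          have n1' : x ≠ 1 := fun e => n1 (Subtype.ext e)
          have n2' : y ≠ 1 := fun e => n2 (Subtype.ext e)
          have n3' : x ≠ y := fun e => n3 (Subtype.ext e)
          simp only at hg hh ⊢
          subst hg hh
          have s1 := hsq g n1' (hsq' V _ hx)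
          have s2 := hsq h n2' (hsq' V _ hy)
          refine ⟨s1, s2, ?_⟩
          have hc : π (g * h) = π (h * g) := by
            rw [map_mul, map_mul]
            have := hsq' V _ (mul_mem hx hy)
            calc π g * π h = (π g * π h)⁻¹ := (inv_eq_of_mul_eq_one_right this).symm
              _ = π h * π g := by
                rw [mul_inv_rev, inv_eq_of_mul_eq_one_right (hsq' V _ hx), inv_eq_of_mul_eq_one_right (hsq' V _ hy)]
          have hc' : π ((h * g)⁻¹ * (g * h)) = 1 := by rw [map_mul, map_inv, hc, inv_mul_cancel]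
          rcases mem_center_cases ((QuotientGroup.eq_one_iff _).1 hc') with e | e
          · exfalso
            rw [inv_mul_eq_one] at e
            have hcomm : Commute g h := e.symm
            have hinv : h⁻¹ = -h := inv_eq_of_mul_eq_one_right (by rw [mul_neg, s2, neg_neg])
            have h1 : g * h⁻¹ * (g * h⁻¹) = 1 := by
              rw [show g * h⁻¹ * (g * h⁻¹) = g * g * (h⁻¹ * h⁻¹) by
                rw [mul_assoc, ← mul_assoc h⁻¹, ← hcomm.inv_right.eq, mul_assoc, ← mul_assoc g g],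
                s1, ← mul_inv_rev, s2]
              simp
            rcases sq_eq_one_cases hodd h1 with h1' | h1'
            · exact n3' (by rw [mul_inv_eq_one.1 h1'])
            · exact n3' (by
                have : π g * (π h)⁻¹ = 1 := by rw [← map_inv, ← map_mul, h1', hneg]
                exact mul_inv_eq_one.1 this)
          · rw [inv_mul_eq_iff_eq_mul] at e
            rw [e, mul_neg, mul_one]⟩,
          huniq _ V (by
            obtain ⟨⟨⟨⟨x, hx⟩, y⟩, -⟩, ⟨g, hg⟩, h⟩ := s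
            show π g ∈ V.1
            rw [hg]; exact hx) (by
            obtain ⟨⟨⟨x, ⟨y, hy⟩⟩, -⟩, g, ⟨h, hh⟩⟩ := s
            show π h ∈ V.1
            rw [hh]; exact hy)⟩
        left_inv := fun p => rfl
        right_inv := fun s => by
          obtain ⟨⟨⟨⟨x, hx⟩, ⟨y, hy⟩⟩, n⟩, ⟨g, hg⟩, ⟨h, hh⟩⟩ := s
          simp only at hg hh
          subst hg hh
          rfl }
    rw [Nat.card_congr e, Nat.card_sigma]
    have hc : ∀ t : {t : V.1 × V.1 // t.1 ≠ 1 ∧ t.2 ≠ 1 ∧ t.1 ≠ t.2}, Nat.card ({g : SL2 // π g = (t.1.1 : PSL2)} × {h : SL2 // π h = (t.1.2 : PSL2)}) = 4 :=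
      fun t => by
        rw [Nat.card_prod]
        exact congrArg₂ (· * ·) (fibre_two hodd _) (fibre_two hodd _)
    rw [Finset.sum_congr rfl fun t _ => hc t, Finset.sum_const, Finset.card_univ, smul_eq_mul]
    have h4 : Fintype.card V.1 = 4 := Nat.card_eq_fintype_card.symm.trans V.2.card_four
    have hset : (Finset.univ.filter fun t : V.1 × V.1 => t.1 ≠ 1 ∧ t.2 ≠ 1 ∧ t.1 ≠ t.2) =
        (Finset.univ.erase (1 : V.1)).offDiag := by
      ext t
      simp
    have hT : Fintype.card {t : V.1 × V.1 // t.1 ≠ 1 ∧ t.2 ≠ 1 ∧ t.1 ≠ t.2} = 6 := by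
      rw [Fintype.card_subtype, hset, Finset.offDiag_card, Finset.card_erase_of_mem (Finset.mem_univ _),
        Finset.card_univ, h4]
    rw [hT]
  have h1 := card_pairs (F := F) hodd
  haveI : Finite (Pairs F) := inferInstanceAs (Finite {p : SL2 × SL2 // _})
  rw [← Nat.card_congr (Equiv.sigmaFiberEquiv W), Nat.card_sigma, Finset.sum_congr rfl fun V _ => hfib V,
    Finset.sum_const, Finset.card_univ, smul_eq_mul, ← Nat.card_eq_fintype_card] at h1
  have h2 := CfsgLib.Lie.Orders.card_PSL_mul (n := Fin 2) (F := F)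
  rw [Fintype.card_fin, Nat.card_eq_fintype_card (α := F), ← h1] at h2
  have hg : Nat.gcd 2 (Fintype.card F - 1) = 2 := Nat.gcd_eq_left (by omega)
  rw [hg] at h2
  omega

end

/-- For q odd, twelve times the number of Klein four-subgroups of PSL_2(q) equals the order of PSL_2(q). -/
theorem result {F : Type*} [Field F] [Fintype F] {q : ℕ} (hF : Fintype.card F = q) (hodd : Odd q) : 12 * Nat.card {V : Subgroup (Matrix.ProjectiveSpecialLinearGroup (Fin 2) F) // IsKleinFour V} = Nat.card (Matrix.ProjectiveSpecialLinearGroup (Fin 2) F) := by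
  subst hF
  exact main (Nat.odd_iff.1 hodd)

end Cfsg.Agent.S0807
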