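import Cfsg.Statements.S0809
import Cfsg.Agent.Lie.PSL2Four
-- import your own Cfsg.Agent.* helpers here

set_option autoImplicit false
open Cfsg

namespace Cfsg.Agent.S0809

/-- In SL_2(q), q odd: any two subgroups of order 4 are conjugate, and the normaliser of a subgroup of order 4 has order 2(q − 1) if q ≡ 1 (mod 4) and 2(q + 1) if q ≡ 3 (mod 4); consequently all involutions of PSL_2(q) are conjugate. -/
theorem result {F : Type*} [Field F] [Fintype F] {q : ℕ} (hF : Fintype.card F = q) (hodd : Odd q) (A : Subgroup (Matrix.SpecialLinearGroup (Fin 2) F)) (hA : Nat.card A = 4) : (∀ B : Subgroup (Matrix.SpecialLinearGroup (Fin 2) F), Nat.card B = 4 → ∃ g : Matrix.SpecialLinearGroup (Fin 2) F, B = A.map (MulAut.conj g).toMonoidHom) ∧ (q % 4 = 1 → Nat.card ↥(Subgroup.normalizer (A : Set (Matrix.SpecialLinearGroup (Fin 2) F))) = 2 * (q - 1)) ∧ (q % 4 = 3 → Nat.card ↥(Subgroup.normalizer (A : Set (Matrix.SpecialLinearGroup (Fin 2) F))) = 2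 * (q + 1)) ∧ (∀ x y : Matrix.ProjectiveSpecialLinearGroup (Fin 2) F, orderOf x = 2 → orderOf y = 2 → IsConj x y) := by
  have ho : Fintype.card F % 2 = 1 := by rw [hF]; exact Nat.odd_iff.1 hodd
  refine ⟨fun B hB => ?_, fun h1 => ?_, fun h3 => ?_, fun x y hx hy => isConj_iff.2 (CfsgLib.Fus.PSL2Two.one_class ho hx hy)⟩
  · obtain ⟨k, rfl⟩ := CfsgLib.Lie.PSL2Four.four_eq ho hA
    obtain ⟨l, rfl⟩ := CfsgLib.Lie.PSL2Four.four_eq ho hB
    refine ⟨l * k⁻¹, ?_⟩
    rw [MonoidHom.map_zpowers]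
    congr 1
    simp [MulAut.conj_apply, mul_assoc]
  · rw [CfsgLib.Lie.PSL2Four.card_normalizer ho hA, CfsgLib.Lie.PSL2Four.circle_one (by omega), hF]
  · rw [CfsgLib.Lie.PSL2Four.card_normalizer ho hA, CfsgLib.Lie.PSL2Four.circle_three (by omega), hF]

end Cfsg.Agent.S0809
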