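import Cfsg.Statements.S0810
import Cfsg.Agent.Lie.DicksonMinSimple
-- import your own Cfsg.Agent.* helpers here

set_option autoImplicit false
open Cfsg

namespace Cfsg.Agent.S0810

/-- PSL_2(q) is minimal simple iff q is 2^r (r prime), 3^r (r an odd prime), a prime greater than 5 congruent to 2 or 3 mod 5, or 5. -/
theorem result {F : Type*} [Field F] [Fintype F] {q : ℕ} (hF : Fintype.card F = q) : Cfsg.IsMinimalSimple (Matrix.ProjectiveSpecialLinearGroup (Fin 2) F) ↔ ((∃ r : ℕ, r.Prime ∧ q = 2 ^ r) ∨ (∃ r : ℕ, r.Prime ∧ r ≠ 2 ∧ q = 3 ^ r) ∨ (q.Prime ∧ 5 < q ∧ (q % 5 = 2 ∨ q % 5 = 3)) ∨ q = 5) := by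
  subst hF
  obtain ⟨p, hp⟩ := CharP.exists F
  haveI hpp : Fact p.Prime := ⟨CharP.char_is_prime F p⟩
  obtain ⟨n, hp', hq⟩ := FiniteField.card F p
  have hN := CfsgLib.Lie.DicksonCor.card_PSL F
  have hbig : 7 ≤ Fintype.card F → Nat.card (Matrix.ProjectiveSpecialLinearGroup (Fin 2) F) ≠ 60 := by
    intro h7 h
    rw [h] at hN
    have h1 : Nat.gcd 2 (Fintype.card F - 1) ≤ 2 := Nat.gcd_le_left _ two_pos
    have h2 : 48 ≤ Fintype.card F ^ 2 - 1 := by have := Nat.pow_le_pow_left h7 2; omega
    have := Nat.mul_le_mul h7 h2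
    nlinarith
  constructor
  · rintro ⟨hs, hnc, hsolv⟩
    have hns : ¬ Group.IsSolvable (Matrix.ProjectiveSpecialLinearGroup (Fin 2) F) := fun h =>
      CfsgLib.Lie.DicksonMinSimple.not_comm (F := F) (IsSimpleGroup.comm_iff_isSolvable.2 h)
    have h4 : 4 ≤ Fintype.card F := by
      by_contra h
      have h1 : 1 < Fintype.card F := Fintype.one_lt_card
      refine hns ?_
      rcases (show Fintype.card F = 2 ∨ Fintype.card F = 3 by omega) with e | e <;> rw [e] at hN <;> norm_num at hN
      · exact CfsgLib.Char.solvable_of_card_two_primes 2 3 1 1 Nat.prime_two Nat.prime_three (by omega)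
      · exact CfsgLib.Char.solvable_of_card_two_primes 2 3 2 1 Nat.prime_two Nat.prime_three (by omega)
    have hsubf : ∀ a b : ℕ, (n : ℕ) = a * b → a ≠ 0 → 2 ≤ b → 4 ≤ p ^ a → False := by
      intro a b hab ha hb h4a
      obtain ⟨H, hH, hH'⟩ := CfsgLib.Lie.DicksonMinSimple.not_minimal_of_subfield (F := F) p a b
        (hab ▸ hq) ha hb h4a
      exact hH' (hsolv H hH)
    have h5 : Fintype.card F % 2 = 1 → 7 ≤ Fintype.card F → 5 ∣ Fintype.card F ^ 2 - 1 → False := by
      intro ho h7 hd
      obtain ⟨H, hH, hH'⟩ := CfsgLib.Lie.DicksonMinSimple.not_minimal_of_alt5 (F := F) ho hd (hbig h7)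
      exact hH' (hsolv H hH)
    rcases Nat.lt_or_ge (n : ℕ) 2 with hn | hn
    · have hn1 : (n : ℕ) = 1 := by have := n.pos; omega
      rw [hn1, pow_one] at hq
      rw [hq] at h4 h5 ⊢
      by_cases h : p = 5
      · exact Or.inr (Or.inr (Or.inr h))
      refine Or.inr (Or.inr (Or.inl ⟨hp', ?_, ?_⟩))
      · rcases (show p = 4 ∨ 5 < p by omega) with e | e
        · exact absurd (e ▸ hp') (by norm_num)
        · exact e
      · have ho : p % 2 = 1 := hp'.eq_two_or_odd.resolve_left (by omega)
        have h50 : p % 5 ≠ 0 := fun e => h ((Nat.prime_dvd_prime_iff_eq Nat.prime_five hp').1 (Nat.dvd_of_mod_eq_zero e)).symm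
        by_contra hcon
        refine h5 ho (by omega) ?_
        rw [CfsgLib.Lie.DicksonCor.sq_sub_one]
        rcases (show p % 5 = 1 ∨ p % 5 = 4 by omega) with e | e
        · exact (Nat.dvd_of_mod_eq_zero (by omega : (p - 1) % 5 = 0)).mul_left _
        · exact (Nat.dvd_of_mod_eq_zero (by omega : (p + 1) % 5 = 0)).mul_right _
    · have hnp : (n : ℕ).Prime := by
        by_contra hnp
        obtain ⟨a, b, ha, hb, hab⟩ := (Nat.not_prime_iff_exists_mul_eq hn).1 hnp
        have ha2 : 2 ≤ a := by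
          by_contra h
          interval_cases a <;> simp at hab <;> omega
        have hb2 : 2 ≤ b := by
          by_contra h
          interval_cases b <;> simp at hab <;> omega
        exact hsubf a b hab.symm (by omega) hb2 (le_trans (by norm_num : 4 ≤ 2 ^ 2)
          ((Nat.pow_le_pow_left hp'.two_le 2).trans (Nat.pow_le_pow_right hp'.pos ha2)))
      rcases (show p = 2 ∨ p = 3 ∨ 4 ≤ p by have := hp'.two_le; omega) with rfl | rfl | h
      · exact Or.inl ⟨n, hnp, hq⟩
      · refine Or.inr (Or.inl ⟨n, hnp, fun e => ?_, hq⟩)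
        rw [e] at hq
        norm_num at hq
        exact h5 (by omega) (by omega) (by rw [hq]; norm_num)
      · exact (hsubf 1 n (one_mul _).symm one_ne_zero hn (by rwa [pow_one])).elim
  · intro hcase
    have h4 : 4 ≤ Fintype.card F := by
      rcases hcase with ⟨r, hr, e⟩ | ⟨r, hr, -, e⟩ | ⟨-, h, -⟩ | e
      · rw [e]; exact le_trans (by norm_num : 4 ≤ 2 ^ 2) (Nat.pow_le_pow_right two_pos hr.two_le)
      · rw [e]; exact le_trans (by norm_num : 4 ≤ 3 ^ 2) (Nat.pow_le_pow_right (by norm_num) hr.two_le)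
      · omega
      · omega
    refine ⟨CfsgLib.Lie.DicksonMinSimple.isSimple h4, fun h => CfsgLib.Lie.DicksonMinSimple.not_comm (F := F) h.is_comm.comm,
      fun H hH => CfsgLib.Lie.DicksonMinSimple.solvable_cases H hH ?_ ?_⟩
    · intro h60
      have h5 : 5 ∣ Fintype.card F * (Fintype.card F ^ 2 - 1) := hN ▸ ((show 5 ∣ 60 by norm_num).trans h60).mul_left _
      have key : Fintype.card F % 5 ≠ 0 → Fintype.card F % 5 = 2 ∨ Fintype.card F % 5 = 3 → False := by
        intro h0 h23
        rcases Nat.prime_five.dvd_mul.1 h5 with e | e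
        · exact h0 (Nat.mod_eq_zero_of_dvd e)
        · rw [CfsgLib.Lie.DicksonCor.sq_sub_one] at e
          rcases Nat.prime_five.dvd_mul.1 e with e | e <;> have := Nat.mod_eq_zero_of_dvd e <;> omega
      have pm : ∀ b, b % 5 = 4 → ∀ k, b ^ k % 5 = 1 ∨ b ^ k % 5 = 4 := by
        intro b hb k
        induction k with
        | zero => simp
        | succ k ih => rw [pow_succ, Nat.mul_mod, hb]; rcases ih with i | i <;> rw [i] <;> norm_num
      rcases hcase with ⟨r, hr, e⟩ | ⟨r, hr, hr2, e⟩ | ⟨-, -, h⟩ | e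
      · rcases hr.eq_two_or_odd' with rfl | ⟨k, rfl⟩
        · rw [e] at hN; norm_num at hN; omega
        · have hk := pm 4 (by norm_num) k
          have e' : Fintype.card F % 5 = 4 ^ k % 5 * 2 % 5 := by
            rw [e, pow_succ, pow_mul, Nat.mul_mod]; norm_num
          exact (key (by omega) (by omega)).elim
      · obtain ⟨k, rfl⟩ := hr.eq_two_or_odd'.resolve_left hr2
        have hk := pm 9 (by norm_num) k
        have e' : Fintype.card F % 5 = 9 ^ k % 5 * 3 % 5 := by
          rw [e, pow_succ, pow_mul, Nat.mul_mod]; norm_num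
        exact (key (by omega) (by omega)).elim
      · exact (key (by omega) h).elim
      · rw [e] at hN; norm_num at hN; omega
    · intro r m hm hrm hr
      have hpow : ∀ (b s : ℕ), b.Prime → s.Prime → r ^ m = b ^ s → r = b := by
        intro b s hb hs e
        obtain ⟨i, -, rfl⟩ := (Nat.dvd_prime_pow hb).1 (e ▸ dvd_pow_self r (by omega : m ≠ 0))
        rw [← pow_mul] at e
        have him := Nat.pow_right_injective hb.two_le e
        rcases (Nat.dvd_prime hs).1 ⟨i, by rw [mul_comm]; exact him.symm⟩ with h | h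
        · omega
        · rw [h] at him
          obtain rfl : i = 1 := Nat.eq_of_mul_eq_mul_right hs.pos (by rw [him, one_mul])
          exact pow_one b
      rcases hcase with ⟨s, hs, e⟩ | ⟨s, hs, -, e⟩ | ⟨hq', -, -⟩ | e
      · have := hpow 2 s Nat.prime_two hs (hrm.trans e); omega
      · exact hpow 3 s Nat.prime_three hs (hrm.trans e)
      · exact absurd (hrm ▸ hq') (Nat.Prime.not_prime_pow hm)
      · exact absurd (show (r ^ m).Prime by rw [hrm, e]; exact Nat.prime_five) (Nat.Prime.not_prime_pow hm)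

end Cfsg.Agent.S0810
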