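import Cfsg.Statements.S0811
import Cfsg.Agent.Lie.DicksonDihedral
-- import your own Cfsg.Agent.* helpers here

set_option autoImplicit false
open Cfsg

namespace Cfsg.Agent.S0811

/-- For q ∉ {2, 7, 9}, PSL_2(q) has a maximal subgroup isomorphic to the dihedral group of order 2(q + 1)/d, d = gcd(2, q − 1). -/
theorem result {F : Type*} [Field F] [Fintype F] {q : ℕ} (hF : Fintype.card F = q) (hq : q ∉ ({2, 7, 9} : Finset ℕ)) : ∃ H : Subgroup (Matrix.ProjectiveSpecialLinearGroup (Fin 2) F), IsCoatom H ∧ Nonempty (H ≃* DihedralGroup ((q + 1) / Nat.gcd 2 (q - 1))) := by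
  subst hF
  have hpp := FiniteField.isPrimePow_card F
  have hN := CfsgLib.Lie.DicksonCor.card_PSL F
  have hq := hq
  simp only [Finset.mem_insert, Finset.mem_singleton, not_or] at hq
  have hsmall : Fintype.card F = 4 ∨ Fintype.card F = 5 ∨ Fintype.card F = 3 ∨ Fintype.card F = 8 ∨
      11 ≤ Fintype.card F := by
    have h2 := hpp.two_le
    have : Fintype.card F ≠ 6 ∧ Fintype.card F ≠ 10 := by
      obtain ⟨a, b, ha, -, hab⟩ := (isPrimePow_nat_iff _).1 hpp
      refine ⟨fun e => ?_, fun e => ?_⟩
      · rw [e] at hab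
        have h2' := (Nat.prime_dvd_prime_iff_eq Nat.prime_two ha).1 (Nat.prime_two.dvd_of_dvd_pow (m := a) (n := b) (hab ▸ by norm_num))
        have h3' := (Nat.prime_dvd_prime_iff_eq Nat.prime_three ha).1 (Nat.prime_three.dvd_of_dvd_pow (m := a) (n := b) (hab ▸ by norm_num))
        omega
      · rw [e] at hab
        have h2' := (Nat.prime_dvd_prime_iff_eq Nat.prime_two ha).1 (Nat.prime_two.dvd_of_dvd_pow (m := a) (n := b) (hab ▸ by norm_num))
        have h3' := (Nat.prime_dvd_prime_iff_eq Nat.prime_five ha).1 (Nat.prime_five.dvd_of_dvd_pow (m := a) (n := b) (hab ▸ by norm_num))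
        omega
    omega
  obtain ⟨hd1, hd2⟩ := CfsgLib.Lie.DicksonCor.gcd_mul_div (Fintype.one_lt_card (α := F)).le
  have hg := CfsgLib.Lie.DicksonCor.gcd_cases (Fintype.card F)
  by_cases h3 : Fintype.card F = 3
  · rw [h3] at hN ⊢
    norm_num at hN ⊢
    have hN' : Nat.card (Matrix.ProjectiveSpecialLinearGroup (Fin 2) F) = 12 := by omega
    obtain ⟨t⟩ := CfsgLib.Lie.ProjLine.equiv_alternating (F := F) h3 (by norm_num) (by norm_num [Nat.factorial])
    haveI : Fact (Nat.Prime 2) := ⟨Nat.prime_two⟩
    obtain ⟨H, hH⟩ := Sylow.exists_subgroup_card_pow_prime (G := Matrix.ProjectiveSpecialLinearGroup (Fin 2) F) 2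
      (n := 2) (by rw [hN']; norm_num)
    norm_num at hH
    haveI : IsKleinFour H := by
      refine ⟨hH, ?_⟩
      refine Nat.dvd_antisymm (Monoid.exponent_dvd_of_forall_pow_eq_one fun h => ?_) ?_
      · rcases CfsgLib.Lie.DicksonDihedral.order_three _ (Equiv.Perm.mem_alternatingGroup.1 (t h.1).2) with e | e
        · have e' : h ^ 3 = 1 := by
            refine Subtype.ext (t.injective (Subtype.ext ?_))
            simpa using e
          have h4 : h ^ 4 = 1 := hH ▸ pow_card_eq_one'
          have : h = 1 := by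
            have e5 : h ^ 4 = h ^ 3 * h := pow_succ h 3
            rw [h4, e', one_mul] at e5
            exact e5.symm
          rw [this, one_pow]
        · refine Subtype.ext (t.injective (Subtype.ext ?_))
          simpa using e
      · haveI : Nontrivial H := Finite.one_lt_card_iff_nontrivial.1 (by omega)
        obtain ⟨x, hx⟩ := exists_ne (1 : H)
        have hx2 : orderOf x ∣ Monoid.exponent H := Monoid.order_dvd_exponent x
        have hx4 : orderOf x ∣ 4 := hH ▸ orderOf_dvd_natCard x
        have hx1 : orderOf x ≠ 1 := fun e => hx (orderOf_eq_one_iff.1 e)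
        have : 2 ∣ orderOf x := by
          rcases (Nat.dvd_prime_pow Nat.prime_two (m := 2)).1 hx4 with ⟨k, hk, hk'⟩
          rcases k with _ | k
          · exact absurd hk' hx1
          · exact hk' ▸ dvd_pow_self 2 (Nat.succ_ne_zero k)
        exact this.trans hx2
    refine ⟨H, ⟨fun e => ?_, fun M hM => ?_⟩, by rw [show (3 + 1) / Nat.gcd 2 (3 - 1) = 2 by norm_num]; exact IsKleinFour.nonempty_mulEquiv⟩
    · rw [e, Subgroup.card_top] at hH; omega
    · refine Subgroup.eq_top_of_card_eq M ?_
      have h1 := Subgroup.card_dvd_of_le hM.le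
      have h2 := Subgroup.card_subgroup_dvd_card M
      have h3' : Nat.card H < Nat.card M := lt_of_le_of_ne (Subgroup.card_le_of_le hM.le)
        fun e => hM.ne (Subgroup.eq_of_le_of_card_ge hM.le e.ge)
      rw [hN'] at h2 ⊢
      rw [hH] at h1 h3'
      have := Nat.le_of_dvd (by norm_num) h2
      interval_cases (Nat.card M) <;> omega
  obtain ⟨A, hA⟩ := CfsgLib.PSLTwoSpec.exists_order_succ (F := F)
  refine CfsgLib.Lie.DicksonDihedral.dihedral_coatom
    (CfsgLib.PSLTwoSpec.order_image A _ hA (fun h => by omega)) (by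
      rcases hsmall with e | e | e | e | e <;> first | omega | (rw [e]; norm_num) | (rcases hg with h | h <;> rw [h] at hd1 hd2 ⊢ <;> omega))
    (by omega) (Or.inr rfl) ?_ ?_ ?_
  · intro h24
    rcases hg with hg' | hg' <;> rw [hg'] at hN hd1 hd2 ⊢ <;> rcases hsmall with e | e | e | e | e
    all_goals first
      | omega
      | (rw [e] at hN ⊢; norm_num at hN ⊢; rw [hN] at h24; norm_num at h24)
      | (rw [e] at hN ⊢; norm_num at hN ⊢; omega)
  · intro h60 hne
    rcases hg with hg' | hg' <;> rw [hg'] at hN hd1 hd2 ⊢ <;> rcases hsmall with e | e | e | e | e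
    all_goals first
      | omega
      | (rw [e] at hN ⊢; norm_num at hN ⊢; omega)
  · intro r m hm2 hm hr
    have hr2 : r ^ 2 ≤ Fintype.card F := hm ▸ Nat.pow_le_pow_right (by omega) hm2
    rw [pow_two] at hr2
    rcases hg with hg' | hg' <;> rw [hg'] at hN hd1 hd2 ⊢ <;>
      rcases Nat.lt_or_ge r 4 with h | h
    all_goals (rcases hsmall with e | e | e | e | e <;> first
      | omega
      | (interval_cases r <;> omega)
      | nlinarith
      | (have h16 : 4 * r ≤ r * r := Nat.mul_le_mul_right r h; omega))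

end Cfsg.Agent.S0811
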