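import Cfsg.Statements.S0812
import Cfsg.Agent.Lie.DicksonDihedral
-- import your own Cfsg.Agent.* helpers here

set_option autoImplicit false
open Cfsg

namespace Cfsg.Agent.S0812

/-- For q ∉ {2, 3, 5, 7, 9, 11}, PSL_2(q) has a maximal subgroup isomorphic to the dihedral group of order 2(q − 1)/d, d = gcd(2, q − 1). -/
theorem result {F : Type*} [Field F] [Fintype F] {q : ℕ} (hF : Fintype.card F = q) (hq : q ∉ ({2, 3, 5, 7, 9, 11} : Finset ℕ)) : ∃ H : Subgroup (Matrix.ProjectiveSpecialLinearGroup (Fin 2) F), IsCoatom H ∧ Nonempty (H ≃* DihedralGroup ((q - 1) / Nat.gcd 2 (q - 1))) := by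
  subst hF
  have hpp := FiniteField.isPrimePow_card F
  have hN := CfsgLib.Lie.DicksonCor.card_PSL F
  have hq := hq
  simp only [Finset.mem_insert, Finset.mem_singleton, not_or] at hq
  have hsmall : Fintype.card F = 4 ∨ Fintype.card F = 5 ∨ Fintype.card F = 3 ∨ Fintype.card F = 8 ∨
      11 ≤ Fintype.card F := by
    have h2 := hpp.two_le
    have : Fintype.card F ≠ 6 ∧ Fintype.card F ≠ 10 := by
      obtain ⟨a, b, ha, -, hab⟩ := (isPrimePow_nat_iff _).1 hpp
      refine ⟨fun e => ?_, fun e => ?_⟩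
      · rw [e] at hab
        have h2' := (Nat.prime_dvd_prime_iff_eq Nat.prime_two ha).1 (Nat.prime_two.dvd_of_dvd_pow (m := a) (n := b) (hab ▸ by norm_num))
        have h3' := (Nat.prime_dvd_prime_iff_eq Nat.prime_three ha).1 (Nat.prime_three.dvd_of_dvd_pow (m := a) (n := b) (hab ▸ by norm_num))
        omega
      · rw [e] at hab
        have h2' := (Nat.prime_dvd_prime_iff_eq Nat.prime_two ha).1 (Nat.prime_two.dvd_of_dvd_pow (m := a) (n := b) (hab ▸ by norm_num))
        have h3' := (Nat.prime_dvd_prime_iff_eq Nat.prime_five ha).1 (Nat.prime_five.dvd_of_dvd_pow (m := a) (n := b) (hab ▸ by norm_num))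
        omega
    omega
  obtain ⟨hd1, hd2⟩ := CfsgLib.Lie.DicksonCor.gcd_mul_div (Fintype.one_lt_card (α := F)).le
  have hg := CfsgLib.Lie.DicksonCor.gcd_cases (Fintype.card F)
  obtain ⟨A, hA⟩ := CfsgLib.PSLTwoSpec.exists_order_pred (F := F)
  refine CfsgLib.Lie.DicksonDihedral.dihedral_coatom
    (CfsgLib.PSLTwoSpec.order_image A _ hA (fun h => by omega)) (by
      rcases hsmall with e | e | e | e | e <;> first | omega | (rw [e]; norm_num) | (rcases hg with h | h <;> rw [h] at hd1 hd2 ⊢ <;> omega))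
    (by omega) (Or.inl rfl) ?_ ?_ ?_
  · intro h24
    rcases hg with hg' | hg' <;> rw [hg'] at hN hd1 hd2 ⊢ <;> rcases hsmall with e | e | e | e | e
    all_goals first
      | omega
      | (rw [e] at hN ⊢; norm_num at hN ⊢; rw [hN] at h24; norm_num at h24)
      | (rw [e] at hN ⊢; norm_num at hN ⊢; omega)
  · intro h60 hne
    rcases hg with hg' | hg' <;> rw [hg'] at hN hd1 hd2 ⊢ <;> rcases hsmall with e | e | e | e | e
    all_goals first
      | omega
      | (rw [e] at hN ⊢; norm_num at hN ⊢; omega)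
  · intro r m hm2 hm hr
    have hr2 : r ^ 2 ≤ Fintype.card F := hm ▸ Nat.pow_le_pow_right (by omega) hm2
    rw [pow_two] at hr2
    rcases hg with hg' | hg' <;> rw [hg'] at hN hd1 hd2 ⊢ <;>
      rcases Nat.lt_or_ge r 4 with h | h
    all_goals (rcases hsmall with e | e | e | e | e <;> first
      | omega
      | (interval_cases r <;> omega)
      | nlinarith
      | (have h16 : 4 * r ≤ r * r := Nat.mul_le_mul_right r h; omega))

end Cfsg.Agent.S0812
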