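import Cfsg.Statements.S0819

set_option maxHeartbeats 1000000
-- import your own Cfsg.Agent.* helpers here

set_option autoImplicit false
open Cfsg

namespace Cfsg.Agent.S0819

section

open Matrix

variable {F : Type*} [Field F] [Fintype F]

theorem pow_three (hF : Fintype.card F = 4) {a : F} (ha : a ≠ 0) : a ^ 3 = 1 := by
  have := FiniteField.pow_card_sub_one_eq_one a ha
  rwa [hF] at this

theorem two_eq (hF : Fintype.card F = 4) : (2 : F) = 0 := by
  have h : (4 : F) = 0 := by
    have := Nat.cast_card_eq_zero F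
    rw [hF] at this
    exact_mod_cast this
  exact mul_self_eq_zero.1 (show (2 : F) * 2 = 0 by linear_combination h)

theorem key (hF : Fintype.card F = 4) (T Y : Matrix (Fin 3) (Fin 3) F) (hd : T.det = 1) (c : F)
    (hT : T ^ 3 = c • 1) (hns : ∀ a : F, T ≠ a • 1) (hcomm : Y * T = T * Y) (hY : Y ^ 5 = 1) : Y = 1 := by
  classical
  have h2 := two_eq hF
  have hc0 : c ≠ 0 := fun h => by
    have h9 := congrArg Matrix.det hT
    rw [Matrix.det_pow, hd, h, zero_smul, Matrix.det_zero] at h9
    simp at h9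
  by_cases hc : c = 1
  · subst hc
    rw [one_smul] at hT
    obtain ⟨s₁, s₂, hCH, hdet⟩ : ∃ s₁ s₂ : F, T ^ 3 - s₁ • T ^ 2 + s₂ • T - T.det • 1 = 0 ∧
        ∀ a : F, (T - a • 1).det = T.det - a * s₂ + a ^ 2 * s₁ - a ^ 3 := by
      refine ⟨T 0 0 + T 1 1 + T 2 2, T 0 0 * T 1 1 - T 0 1 * T 1 0 + T 0 0 * T 2 2 - T 0 2 * T 2 0 +
        T 1 1 * T 2 2 - T 1 2 * T 2 1, ?_, fun a => ?_⟩
      · ext i j
        fin_cases i <;> fin_cases j <;>
          simp [pow_succ, Matrix.mul_apply, Fin.sum_univ_three, Matrix.det_fin_three] <;> ring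
      · simp [Matrix.det_fin_three]; ring
    rw [hd, one_smul, hT] at hCH
    have h0 : T * (s₂ • 1 - s₁ • T) = 0 := by
      rw [mul_sub, Matrix.mul_smul, Matrix.mul_smul, Matrix.mul_one, ← pow_two]
      rw [← hCH]
      abel
    have h1 : s₂ • (1 : Matrix (Fin 3) (Fin 3) F) - s₁ • T = 0 := by
      have := congrArg (fun M => T ^ 2 * M) h0
      simpa [← mul_assoc, ← pow_succ, hT] using this
    have hs1 : s₁ = 0 := by
      by_contra hs
      refine hns (s₁⁻¹ * s₂) ?_
      rw [← smul_smul, sub_eq_zero.1 h1, smul_smul, inv_mul_cancel₀ hs, one_smul]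
    have hs2 : s₂ = 0 := by
      rw [hs1, zero_smul, sub_zero] at h1
      simpa using congrFun (congrFun h1 0) 0
    have hev : ∀ u : Fˣ, ∃ v : Fin 3 → F, v ≠ 0 ∧ T *ᵥ v = (u : F) • v := by
      intro u
      obtain ⟨v, hv, hv'⟩ := Matrix.exists_mulVec_eq_zero_iff.2 (show (T - (u : F) • 1).det = 0 by
        rw [hdet, hd, hs1, hs2, pow_three hF u.ne_zero]; ring)
      refine ⟨v, hv, ?_⟩
      rw [Matrix.sub_mulVec, Matrix.smul_mulVec, Matrix.one_mulVec, sub_eq_zero] at hv'
      exact hv'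
    choose v hv hTv using hev
    have hli : LinearIndependent F v := Module.End.eigenvectors_linearIndependent'
      (Matrix.toLin' T) (fun u : Fˣ => (u : F)) Units.val_injective v
      (fun u => ⟨Module.End.mem_eigenspace_iff.2 (hTv u), hv u⟩)
    have hcard : Fintype.card Fˣ = Module.finrank F (Fin 3 → F) := by
      classical
      rw [Fintype.card_units, hF, Module.finrank_fintype_fun_eq_card]; rfl
    let b : Module.Basis Fˣ F (Fin 3 → F) := Module.Basis.mk hli (hli.span_eq_top_of_card_eq_finrank' hcard).ge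
    have hb : ∀ u, b u = v u := fun u => by simp [b]
    have hcoord : ∀ w u, b.coord w (T *ᵥ u) = (w : F) * b.coord w u := by
      intro w
      have h : (b.coord w).comp (Matrix.toLin' T) = (w : F) • b.coord w := b.ext fun i => by
        rw [LinearMap.comp_apply, Matrix.toLin'_apply, hb, hTv, map_smul, LinearMap.smul_apply, ← hb]
        by_cases hi : i = w
        · rw [hi]
        · simp [Finsupp.single_eq_of_ne, Ne.symm hi, hi]
      exact fun u => LinearMap.congr_fun h u
    have hYv : ∀ u, ∃ l : F, Y *ᵥ v u = l • v u := by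
      intro u
      refine ⟨b.coord u (Y *ᵥ v u), b.ext_elem fun w => ?_⟩
      rw [map_smul, Finsupp.smul_apply, ← hb u, Module.Basis.repr_self, smul_eq_mul, hb]
      by_cases hw : w = u
      · subst hw; simp
      · have h9 : T *ᵥ (Y *ᵥ v u) = (u : F) • (Y *ᵥ v u) := by
          rw [mulVec_mulVec, ← hcomm, ← mulVec_mulVec, hTv, mulVec_smul]
        have h10 := hcoord w (Y *ᵥ v u)
        rw [h9, map_smul, smul_eq_mul] at h10
        have h11 : ((u : F) - (w : F)) * b.coord w (Y *ᵥ v u) = 0 := by linear_combination h10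
        rw [Finsupp.single_eq_of_ne (by tauto), mul_zero]
        exact (mul_eq_zero.1 h11).resolve_left (sub_ne_zero.2 fun h => hw (Units.ext h.symm))
    choose l hl using hYv
    refine Matrix.toLin'.injective (b.ext fun u => ?_)
    rw [Matrix.toLin'_one, LinearMap.id_apply, Matrix.toLin'_apply, hb, hl]
    have hp : ∀ k : ℕ, (Y ^ k) *ᵥ v u = l u ^ k • v u := by
      intro k
      induction k with
      | zero => simp
      | succ k ih => rw [pow_succ', ← mulVec_mulVec, ih, mulVec_smul, hl, smul_smul, pow_succ]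
    have h5 := hp 5
    rw [hY, one_mulVec] at h5
    have hl5 : l u ^ 5 = 1 := by
      by_contra hne
      have h9 : (l u ^ 5 - 1) • v u = 0 := by rw [sub_smul, ← h5, one_smul, sub_self]
      exact hv u ((smul_eq_zero.1 h9).resolve_left (sub_ne_zero.2 hne))
    have hl3 := pow_three hF (fun h => by rw [h] at hl5; simp at hl5 : l u ≠ 0)
    rw [show l u = 1 by linear_combination (l u ^ 3 + 1) * hl3 - l u * hl5, one_smul]
  · have hcp := pow_three hF hc0
    have hcc : 1 + c + c ^ 2 = 0 :=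
      (mul_eq_zero.1 (show (c - 1) * (1 + c + c ^ 2) = 0 by linear_combination hcp)).resolve_left (sub_ne_zero.2 hc)
    have hcube : ∀ x : F, x ^ 3 = 0 ∨ x ^ 3 = 1 := fun x => by
      by_cases hx : x = 0
      · left; rw [hx]; ring
      · right; exact pow_three hF hx
    have hne0 : ∀ a b d : F, a ^ 3 + b ^ 3 * c + d ^ 3 * c ^ 2 - 3 * a * b * c * d = 0 → a = 0 ∧ b = 0 ∧ d = 0 := by
      intro a b d h
      by_cases ha : a = 0 <;> by_cases hb : b = 0 <;> by_cases hd : d = 0
      · exact ⟨ha, hb, hd⟩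
      · exfalso; subst ha; subst hb
        exact hc0 (pow_eq_zero_iff two_ne_zero |>.1 (show c ^ 2 = 0 by linear_combination h - c ^ 2 * pow_three hF hd))
      · exfalso; subst ha; subst hd
        exact hc0 (show c = 0 by linear_combination h - c * pow_three hF hb)
      · exfalso; subst ha
        exact one_ne_zero (show (1 : F) = 0 by
          linear_combination -h + c * pow_three hF hb + c ^ 2 * pow_three hF hd + hcc)
      · exfalso; subst hb; subst hd
        exact one_ne_zero (show (1 : F) = 0 by linear_combination h - pow_three hF ha)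
      · exfalso; subst hb
        exact hc0 (show c = 0 by linear_combination -h + pow_three hF ha + c ^ 2 * pow_three hF hd + hcc)
      · exfalso; subst hd
        exact hc0 (pow_eq_zero_iff two_ne_zero |>.1 (show c ^ 2 = 0 by
          linear_combination -h + pow_three hF ha + c * pow_three hF hb + hcc))
      · exfalso
        refine mul_ne_zero (mul_ne_zero (mul_ne_zero ha hb) hd) hc0 ?_
        linear_combination h - pow_three hF ha - c * pow_three hF hb - c ^ 2 * pow_three hF hd - hcc + 2 * a * b * d * c * h2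
    let e : Fin 3 → F := Pi.single 0 1
    let v : Fin 3 → Fin 3 → F := fun i => (T ^ (i : ℕ)) *ᵥ e
    have hT3 : ∀ x, T *ᵥ (T *ᵥ (T *ᵥ x)) = c • x := fun x => by
      rw [mulVec_mulVec, mulVec_mulVec, show T * T * T = T ^ 3 by rw [pow_succ, pow_two], hT,
        smul_mulVec, one_mulVec]
    have hli : LinearIndependent F v := by
      rw [Fintype.linearIndependent_iff]
      intro g hg
      rw [Fin.sum_univ_three] at hg
      simp only [v, Fin.val_zero, Fin.val_one, Fin.val_two, pow_zero, pow_one, one_mulVec, pow_two,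
        ← mulVec_mulVec] at hg
      have hg1 := congrArg (fun x => T *ᵥ x) hg
      simp only [mulVec_add, mulVec_smul, mulVec_zero, hT3, smul_smul] at hg1
      have hg2 := congrArg (fun x => T *ᵥ x) hg1
      simp only [mulVec_add, mulVec_smul, mulVec_zero, hT3, smul_smul] at hg2
      obtain ⟨a0, a1, a2⟩ := hne0 (g 0) (g 1) (g 2) (by
        have he : e 0 = 1 := by simp [e]
        have r0 := congrFun hg 0
        have r1 := congrFun hg1 0
        have r2 := congrFun hg2 0
        simp only [Pi.add_apply, Pi.smul_apply, Pi.zero_apply, smul_eq_mul, he] at r0 r1 r2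
        linear_combination (g 0 ^ 2 - g 1 * g 2 * c) * r0 + (g 2 ^ 2 * c - g 0 * g 1) * r1 +
          (g 1 ^ 2 - g 0 * g 2) * r2)
      intro i; fin_cases i <;> assumption
    let b : Module.Basis (Fin 3) F (Fin 3 → F) := Module.Basis.mk hli
      (hli.span_eq_top_of_card_eq_finrank' (by simp)).ge
    obtain ⟨r, hr⟩ : ∃ r : Fin 3 → F, Y *ᵥ e = r 0 • e + r 1 • (T *ᵥ e) + r 2 • (T *ᵥ (T *ᵥ e)) := by
      refine ⟨fun i => b.repr (Y *ᵥ e) i, ?_⟩
      conv_lhs => rw [← b.sum_repr (Y *ᵥ e)]
      rw [Fin.sum_univ_three]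
      simp [b, v, pow_two, mulVec_mulVec]
    have hYeq : Y = r 0 • 1 + r 1 • T + r 2 • (T * T) := by
      refine Matrix.toLin'.injective (b.ext fun i => ?_)
      have hbase : Y *ᵥ e = (r 0 • 1 + r 1 • T + r 2 • (T * T)) *ᵥ e := by
        rw [hr]; simp [add_mulVec, smul_mulVec, mulVec_mulVec]
      have hc1 : Commute Y (T ^ (i : ℕ)) := Commute.pow_right hcomm _
      have hc2 : Commute (r 0 • 1 + r 1 • T + r 2 • (T * T)) (T ^ (i : ℕ)) :=
        ((((Commute.one_left _).smul_left _).add_left ((Commute.refl T).smul_left _)).add_left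
          (((Commute.refl T).mul_left (Commute.refl T)).smul_left _)).pow_right _
      simp only [b, Module.Basis.mk_apply, v, toLin'_apply, mulVec_mulVec]
      rw [hc1.eq, hc2.eq, ← mulVec_mulVec, ← mulVec_mulVec, hbase]
    haveI : CharP F 2 := by
      refine (CharP.charP_iff_prime_eq_zero Nat.prime_two).2 ?_
      exact_mod_cast h2
    haveI : CharP (Matrix (Fin 3) (Fin 3) F) 2 := inferInstance
    have hr4 : ∀ i, r i ^ 4 = r i := fun i => by
      have := FiniteField.pow_card (r i); rwa [hF] at this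
    have hr64 : ∀ i, r i ^ 64 = r i := fun i => by
      rw [show 64 = 4 * 4 * 4 from rfl, pow_mul, pow_mul, hr4, hr4, hr4]
    have hT64 : T ^ 64 = T := by
      rw [show 64 = 3 * 21 + 1 from rfl, pow_succ, pow_mul, hT, smul_pow, one_pow,
        show 21 = 3 * 7 from rfl, pow_mul, hcp, one_pow, one_smul, one_mul]
    have h64 : Y ^ 64 = Y := by
      have hcA : Commute (r 0 • (1 : Matrix (Fin 3) (Fin 3) F) + r 1 • T) (r 2 • (T * T)) :=
        (((Commute.one_left _).smul_left _).add_left
          (((Commute.refl T).mul_right (Commute.refl T)).smul_left _)).smul_right _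
      conv_lhs => rw [hYeq, show (64 : ℕ) = 2 ^ 6 from rfl, add_pow_char_pow_of_commute 2 6 hcA,
        add_pow_char_pow_of_commute 2 6 (((Commute.one_left _).smul_left _).smul_right _)]
      rw [show (2 : ℕ) ^ 6 = 64 from rfl, smul_pow, smul_pow, smul_pow, one_pow, hr64, hr64, hr64,
        (Commute.refl T).mul_pow, hT64]
      exact hYeq.symm
    have h63 : Y ^ 63 = 1 := by
      calc Y ^ 63 = Y ^ 63 * Y ^ 5 := by rw [hY, mul_one]
        _ = Y ^ 64 * Y ^ 4 := by rw [← pow_add, ← pow_add]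
        _ = Y ^ 5 := by rw [h64, ← pow_succ']
        _ = 1 := hY
    calc Y = Y ^ 1 := (pow_one Y).symm
      _ = Y ^ 1 * (Y ^ 5) ^ 25 := by rw [hY, one_pow, mul_one]
      _ = (Y ^ 63) ^ 2 := by rw [← pow_mul, ← pow_add, ← pow_mul]
      _ = 1 := by rw [h63, one_pow]

end

/-- No element of PSL_3(4) has order 15. -/
theorem result {F : Type*} [Field F] [Fintype F] (hF : Fintype.card F = 4) (g : Matrix.ProjectiveSpecialLinearGroup (Fin 3) F) : orderOf g ≠ 15 := by
  classical
  intro hg
  obtain ⟨Z, hZ⟩ : ∃ Z, Z = Subgroup.center (Matrix.SpecialLinearGroup (Fin 3) F) := ⟨_, rfl⟩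
  obtain ⟨x, rfl⟩ := QuotientGroup.mk_surjective g
  have hscal : ∀ z ∈ Z, ∃ a : F, a ^ 3 = 1 ∧ (z : Matrix (Fin 3) (Fin 3) F) = a • 1 := by
    intro z hz
    rw [hZ, Matrix.SpecialLinearGroup.mem_center_iff] at hz
    obtain ⟨a, ha, h⟩ := hz
    exact ⟨a, by simpa using ha, by rw [← h, Matrix.smul_one_eq_diagonal]; rfl⟩
  have hz3 : ∀ z ∈ Z, z ^ 3 = 1 := fun z hz => by
    obtain ⟨a, ha, h⟩ := hscal z hz
    refine Subtype.ext ?_
    rw [Matrix.SpecialLinearGroup.coe_pow, h, smul_pow, one_pow, ha, one_smul,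
      Matrix.SpecialLinearGroup.coe_one]
  have hmk : ∀ y : Matrix.SpecialLinearGroup (Fin 3) F,
      (QuotientGroup.mk y : Matrix.ProjectiveSpecialLinearGroup (Fin 3) F) = 1 ↔ y ∈ Z := fun y => by
    rw [hZ]; exact QuotientGroup.eq_one_iff y
  have hordpow : ∀ k : ℕ, (QuotientGroup.mk (x ^ k) : Matrix.ProjectiveSpecialLinearGroup (Fin 3) F) = 1 → 15 ∣ k := by
    intro k hk
    rw [QuotientGroup.mk_pow] at hk
    rw [← hg]
    exact orderOf_dvd_of_pow_eq_one hk
  have h15 : x ^ 15 ∈ Z := (hmk _).1 (by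
    rw [QuotientGroup.mk_pow, ← hg]; exact pow_orderOf_eq_one _)
  let y := x ^ 3 * ((x ^ 15) ^ 2)⁻¹ * ((x ^ 15) ^ 3)
  have hy : y = x ^ 18 := by
    show x ^ 3 * ((x ^ 15) ^ 2)⁻¹ * ((x ^ 15) ^ 3) = _
    group
  have hy5 : y ^ 5 = 1 := by
    rw [hy, ← pow_mul, show 18 * 5 = 15 * (3 * 2) from rfl, pow_mul, pow_mul, hz3 _ h15, one_pow]
  have ht3 : (x ^ 5) ^ 3 ∈ Z := by rw [← pow_mul]; exact h15
  obtain ⟨c, -, hc⟩ := hscal _ ht3
  have hns : ∀ a : F, ((x ^ 5 : Matrix.SpecialLinearGroup (Fin 3) F) : Matrix (Fin 3) (Fin 3) F) ≠ a • 1 := by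
    intro a ha
    have hmem : x ^ 5 ∈ Z := by
      rw [hZ, Subgroup.mem_center_iff]
      intro w
      refine Subtype.ext ?_
      rw [Matrix.SpecialLinearGroup.coe_mul, Matrix.SpecialLinearGroup.coe_mul, ha, Matrix.mul_smul,
        Matrix.mul_one, Matrix.smul_mul, Matrix.one_mul]
    have := hordpow 5 ((hmk _).2 hmem)
    omega
  have hk := key hF ((x ^ 5 : Matrix.SpecialLinearGroup (Fin 3) F) : Matrix (Fin 3) (Fin 3) F)
    (y : Matrix (Fin 3) (Fin 3) F) (x ^ 5).2 c (by rw [← Matrix.SpecialLinearGroup.coe_pow]; exact hc) hns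
    (by rw [hy, ← Matrix.SpecialLinearGroup.coe_mul, ← Matrix.SpecialLinearGroup.coe_mul, ← pow_add, ← pow_add, add_comm])
    (by rw [← Matrix.SpecialLinearGroup.coe_pow, hy5, Matrix.SpecialLinearGroup.coe_one])
  have h18 : x ^ 18 = 1 := by rw [← hy]; exact Subtype.ext hk
  have := hordpow 18 (by rw [h18]; rfl)
  omega

end Cfsg.Agent.S0819
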