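import Cfsg.Statements.S0820

set_option maxHeartbeats 800000
-- import your own Cfsg.Agent.* helpers here

set_option autoImplicit false
open Cfsg

namespace Cfsg.Agent.S0820

section

open Matrix

variable {F : Type*} [Field F]

theorem to_normal (x : Matrix.SpecialLinearGroup (Fin 3) F)
    (hN : ((x : Matrix (Fin 3) (Fin 3) F) - 1) * ((x : Matrix (Fin 3) (Fin 3) F) - 1) = 0) (hx : x ≠ 1) :
    ∃ g : Matrix.SpecialLinearGroup (Fin 3) F,
      (x : Matrix (Fin 3) (Fin 3) F) * (g : Matrix (Fin 3) (Fin 3) F) =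
        (g : Matrix (Fin 3) (Fin 3) F) * (1 + Matrix.single 0 2 1) := by
  classical
  set N := (x : Matrix (Fin 3) (Fin 3) F) - 1 with hNdef
  obtain ⟨z, hz⟩ : ∃ z, N *ᵥ z ≠ 0 := by
    by_contra hc
    push Not at hc
    refine hx (Subtype.ext (sub_eq_zero.1 (?_ : N = 0)))
    exact Matrix.ext_iff_mulVec.mpr fun v => by rw [hc v, zero_mulVec]
  obtain ⟨u, hu⟩ : ∃ u, u = N *ᵥ z := ⟨_, rfl⟩
  rw [← hu] at hz
  have hNu : N *ᵥ u = 0 := by rw [hu, mulVec_mulVec, hN, zero_mulVec]
  have hle : LinearMap.range (Matrix.toLin' N) ≤ LinearMap.ker (Matrix.toLin' N) := by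
    rintro _ ⟨w, rfl⟩
    show Matrix.toLin' N (Matrix.toLin' N w) = 0
    rw [Matrix.toLin'_apply, Matrix.toLin'_apply, mulVec_mulVec, hN, zero_mulVec]
  obtain ⟨w, hw, hwu⟩ : ∃ w ∈ LinearMap.ker (Matrix.toLin' N), w ∉ Submodule.span F {u} :=
    SetLike.not_le_iff_exists.1 fun h => by
      have h1 := Submodule.finrank_mono h
      rw [finrank_span_singleton hz] at h1
      have h2 := Submodule.finrank_mono hle
      have h3 := LinearMap.finrank_range_add_finrank_ker (Matrix.toLin' N)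
      rw [Module.finrank_fin_fun] at h3
      omega
  have hNw : N *ᵥ w = 0 := hw
  let A : Matrix (Fin 3) (Fin 3) F := Matrix.of fun i j => ![u, w, z] j i
  have hA : ∀ c : Fin 3 → F, A *ᵥ c = c 0 • u + c 1 • w + c 2 • z := fun c => by
    funext i
    simp [A, mulVec, dotProduct, Fin.sum_univ_three]
    ring
  have hAdet : A.det ≠ 0 := by
    intro h
    obtain ⟨c, hc0, hc⟩ := Matrix.exists_mulVec_eq_zero_iff.2 h
    rw [hA] at hc
    have h1 := congrArg (fun y => N *ᵥ y) hc
    simp only [mulVec_add, mulVec_smul, hNu, hNw, ← hu, smul_zero, zero_add, mulVec_zero, smul_eq_zero, hz, or_false] at h1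
    rw [h1, zero_smul, add_zero] at hc
    have h2 : c 1 = 0 := by
      by_contra h2
      refine hwu (Submodule.mem_span_singleton.2 ⟨-(c 0) / c 1, ?_⟩)
      have h4 := congrArg ((c 1)⁻¹ • ·) hc
      simp only [smul_add, smul_smul, inv_mul_cancel₀ h2, one_smul, smul_zero] at h4
      rw [eq_neg_of_add_eq_zero_right h4, ← neg_smul]
      congr 1
      field_simp
    rw [h2, zero_smul, add_zero, smul_eq_zero] at hc
    exact hc0 (funext fun i => by fin_cases i <;> simp [h1, h2, hc.resolve_right hz])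
  let D : Matrix (Fin 3) (Fin 3) F := Matrix.diagonal ![1, A.det⁻¹, 1]
  refine ⟨⟨A * D, by simp [D, Matrix.det_mul, Matrix.det_diagonal, Fin.prod_univ_three, hAdet]⟩, ?_⟩
  show (x : Matrix (Fin 3) (Fin 3) F) * (A * D) = A * D * (1 + Matrix.single 0 2 1)
  have hx' : (x : Matrix (Fin 3) (Fin 3) F) = 1 + N := by rw [hNdef]; abel
  refine Matrix.ext_iff_mulVec.mpr fun c => ?_
  rw [hx']
  simp only [← mulVec_mulVec, add_mulVec, one_mulVec, hA, mulVec_add, mulVec_smul, hNu, hNw, ← hu,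
    Matrix.single_mulVec, D, mulVec_diagonal]
  simp
  module

end

/-- Any two elements of order 2 of PSL_3(4) are conjugate. -/
theorem result {F : Type*} [Field F] [Fintype F] (hF : Fintype.card F = 4) (x y : Matrix.ProjectiveSpecialLinearGroup (Fin 3) F) (hx : orderOf x = 2) (hy : orderOf y = 2) : IsConj x y := by
  classical
  have h2 : (2 : F) = 0 := by
    have h : (4 : F) = 0 := by
      have := Nat.cast_card_eq_zero F
      rw [hF] at this
      exact_mod_cast this
    exact mul_self_eq_zero.1 (show (2 : F) * 2 = 0 by linear_combination h)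
  have lift : ∀ g : Matrix.ProjectiveSpecialLinearGroup (Fin 3) F, orderOf g = 2 →
      ∃ s : Matrix.SpecialLinearGroup (Fin 3) F, s ≠ 1 ∧
        ((s : Matrix (Fin 3) (Fin 3) F) - 1) * ((s : Matrix (Fin 3) (Fin 3) F) - 1) = 0 ∧
        (QuotientGroup.mk s : Matrix.ProjectiveSpecialLinearGroup (Fin 3) F) = g := by
    intro g hg
    obtain ⟨s, rfl⟩ := QuotientGroup.mk_surjective g
    have hmem : s ^ 2 ∈ Subgroup.center (Matrix.SpecialLinearGroup (Fin 3) F) :=
      (QuotientGroup.eq_one_iff _).1 (by rw [QuotientGroup.mk_pow, ← hg]; exact pow_orderOf_eq_one _)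
    have hz3 : (s ^ 2) ^ 3 = 1 := by
      obtain ⟨a, ha, h⟩ := Matrix.SpecialLinearGroup.mem_center_iff.1 hmem
      refine Subtype.ext ?_
      rw [Matrix.SpecialLinearGroup.coe_pow, ← h, ← map_pow, show a ^ 3 = 1 by simpa using ha, map_one,
        Matrix.SpecialLinearGroup.coe_one]
    have hmk : (QuotientGroup.mk (s * s ^ 2) : Matrix.ProjectiveSpecialLinearGroup (Fin 3) F) = QuotientGroup.mk s := by
      rw [QuotientGroup.mk_mul, (QuotientGroup.eq_one_iff _).2 hmem, mul_one]
    have hsq : (s * s ^ 2) * (s * s ^ 2) = 1 := by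
      rw [← hz3]; group
    refine ⟨s * s ^ 2, fun h => ?_, ?_, hmk⟩
    · rw [h, QuotientGroup.mk_one] at hmk
      rw [← hmk, orderOf_one] at hg
      omega
    · have e : ((s * s ^ 2 : Matrix.SpecialLinearGroup (Fin 3) F) : Matrix (Fin 3) (Fin 3) F) *
          ((s * s ^ 2 : Matrix.SpecialLinearGroup (Fin 3) F) : Matrix (Fin 3) (Fin 3) F) = 1 := by
        rw [← Matrix.SpecialLinearGroup.coe_mul, hsq, Matrix.SpecialLinearGroup.coe_one]
      have hM : ∀ M : Matrix (Fin 3) (Fin 3) F, M + M = 0 := fun M => by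
        ext i j
        show M i j + M i j = 0
        linear_combination M i j * h2
      calc _ = (1 + 1 : Matrix (Fin 3) (Fin 3) F) -
            (((s * s ^ 2 : Matrix.SpecialLinearGroup (Fin 3) F) : Matrix (Fin 3) (Fin 3) F) +
              ((s * s ^ 2 : Matrix.SpecialLinearGroup (Fin 3) F) : Matrix (Fin 3) (Fin 3) F)) := by
            rw [sub_mul, mul_sub, e, Matrix.mul_one, Matrix.one_mul]; abel
        _ = 0 := by rw [hM, hM, sub_zero]
  obtain ⟨a, ha1, ha2, rfl⟩ := lift x hx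
  obtain ⟨b, hb1, hb2, rfl⟩ := lift y hy
  obtain ⟨g, hg⟩ := to_normal a ha2 ha1
  obtain ⟨k, hk⟩ := to_normal b hb2 hb1
  obtain ⟨t, ht⟩ : ∃ t, t = g⁻¹ * a * g := ⟨_, rfl⟩
  have h1 : ((t : Matrix.SpecialLinearGroup (Fin 3) F) : Matrix (Fin 3) (Fin 3) F) = 1 + Matrix.single 0 2 1 := by
    rw [ht, mul_assoc, Matrix.SpecialLinearGroup.coe_mul, Matrix.SpecialLinearGroup.coe_mul, hg, ← Matrix.mul_assoc,
      ← Matrix.SpecialLinearGroup.coe_mul, inv_mul_cancel, Matrix.SpecialLinearGroup.coe_one, Matrix.one_mul]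
  have h3 : b * k = k * t := Subtype.ext (by
    rw [Matrix.SpecialLinearGroup.coe_mul, Matrix.SpecialLinearGroup.coe_mul, h1, hk])
  have hconj : IsConj a b := isConj_iff.2 ⟨k * g⁻¹, by
    rw [← mul_inv_cancel_right b k, h3, ht]; group⟩
  exact MonoidHom.map_isConj (QuotientGroup.mk' _) hconj

end Cfsg.Agent.S0820
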