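import Cfsg.Statements.S0821
import Cfsg.Agent.Lie.SpCenter
import Cfsg.Agent.Lie.OrthCent
import Cfsg.Agent.Lie.OrthStd
import Cfsg.Agent.Lie.QuadCount
-- import your own Cfsg.Agent.* helpers here

set_option autoImplicit false
open Cfsg

namespace Cfsg.Agent.S0821

open CfsgLib.Lie

theorem card_range_conj_congr {G H : Type*} [Group G] [Group H] (φ : G ≃* H) (g : G) :
    Nat.card (Set.range fun x : H => x * φ g * x⁻¹) = Nat.card (Set.range fun x : G => x * g * x⁻¹) := by
  refine (Nat.card_congr (φ.toEquiv.subtypeEquiv fun a => ?_)).symm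
  constructor
  · rintro ⟨x, rfl⟩; exact ⟨φ x, by simp⟩
  · rintro ⟨y, hy⟩
    refine ⟨φ.symm y, φ.injective ?_⟩
    simpa using hy

/-- a class of size prime to `p` and at most `(q^(2m)-1)/2` in the symplectic side -/
theorem psp_class {F : Type*} [Field F] [Fintype F] (h2 : (2 : F) ≠ 0) (p : ℕ) [hp : Fact p.Prime] [CharP F p]
    (m : ℕ) (hm : 1 ≤ m) :
    ∃ g : Cfsg.PSp m F, g ≠ 1 ∧ ¬ p ∣ (Subgroup.centralizer {g}).index ∧
      2 * Nat.card (Set.range fun x : Cfsg.PSp m F => x * g * x⁻¹) ≤ Fintype.card F ^ (2 * m) - 1 := by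
  classical
  obtain ⟨v, hv⟩ : ∃ v : Sp.V m F, v ≠ 0 := ⟨Sp.e ⟨0, hm⟩, by simp [Sp.e]⟩
  obtain ⟨π, hπ⟩ : ∃ π, π = QuotientGroup.mk' (Subgroup.center (Sp.G m F)) := ⟨_, rfl⟩
  have hsurj : Function.Surjective π := hπ ▸ QuotientGroup.mk'_surjective _
  refine ⟨π (Sp.tv v 1), ?_, ?_, ?_⟩
  · intro h
    rw [hπ] at h
    obtain ⟨a, ha2, ha⟩ := (Sp.mem_center_iff hm).1 ((QuotientGroup.eq_one_iff _).1 h)
    obtain ⟨x, hx⟩ := Sp.exists_bf_eq_one hv
    have h1 := ha v
    rw [Sp.act_tv, Sp.bf_self, mul_zero, zero_smul, add_zero] at h1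
    have ha1 : a = 1 := by
      by_contra hne
      exact hv ((smul_eq_zero.1 (show (a - 1) • v = 0 by rw [sub_smul, one_smul, ← h1, sub_self])).resolve_left
        (sub_ne_zero.2 hne))
    have h3 := ha x
    rw [Sp.act_tv, ha1, one_smul, add_eq_left, smul_eq_zero, one_mul, Sp.bf_swap v x, hx, neg_eq_zero] at h3
    exact h3.elim one_ne_zero hv
  · let _ : MulAction (Sp.G m F) (Sp.V m F) :=
      { smul := Sp.act, one_smul := Sp.act_one, mul_smul := Sp.act_mul }
    obtain ⟨S, hS⟩ : ∃ S, S = MulAction.stabilizer (Sp.G m F) v := ⟨_, rfl⟩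
    have horb : MulAction.orbit (Sp.G m F) v = {w | w ≠ 0} := by
      ext w
      constructor
      · rintro ⟨g, rfl⟩
        intro h
        apply hv
        rw [← Sp.act_inv_act g v, show Sp.act g v = 0 from h]
        exact Matrix.mulVec_zero _
      · intro hw
        obtain ⟨g, hg⟩ := Sp.transitive hv hw
        exact ⟨g, hg⟩
    have hidx : S.index = Fintype.card F ^ (2 * m) - 1 := by
      rw [hS, MulAction.index_stabilizer]
      refine (congrArg Set.ncard horb).trans ?_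
      rw [← Nat.card_coe_set_eq, Nat.card_eq_fintype_card]
      simp only [Set.coe_setOf, Fintype.card_subtype_compl, Fintype.card_subtype_eq, Fintype.card_fun,
        Fintype.card_sum, Fintype.card_fin, two_mul]
    have hle : S.map π ≤ Subgroup.centralizer {π (Sp.tv v 1)} := by
      rintro _ ⟨g, hg, rfl⟩
      rw [hS] at hg
      rw [Subgroup.mem_centralizer_singleton_iff, ← map_mul, ← map_mul]
      have h := Sp.conj_tv g v 1
      rw [show Sp.act g v = v from hg] at h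
      rw [mul_inv_eq_iff_eq_mul.1 h]
    intro hdvd
    have h1 : p ∣ S.index := hdvd.trans ((Subgroup.index_dvd_of_le hle).trans (Subgroup.index_map_dvd S hsurj))
    rw [hidx] at h1
    have hq : p ∣ Fintype.card F ^ (2 * m) := by
      obtain ⟨n, -, hn⟩ := FiniteField.card F p
      rw [hn]
      exact dvd_pow (dvd_pow_self p n.pos.ne') (by omega)
    have h3 := Nat.dvd_sub hq h1
    rw [Nat.sub_sub_self (Nat.one_le_pow _ _ Fintype.card_pos)] at h3
    exact hp.out.not_dvd_one h3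
  · let Φ : {w : Sp.V m F // w ≠ 0} → Cfsg.PSp m F := fun w => π (Sp.tv w.1 1)
    have hsub : (Set.range fun x : Cfsg.PSp m F => x * π (Sp.tv v 1) * x⁻¹) ⊆ Set.range Φ := by
      rintro _ ⟨x, rfl⟩
      obtain ⟨g, rfl⟩ := hsurj x
      refine ⟨⟨Sp.act g v, fun h => hv ?_⟩, ?_⟩
      · rw [← Sp.act_inv_act g v, h]
        exact Matrix.mulVec_zero _
      · simp only [Φ, ← Sp.conj_tv, map_mul, map_inv]
    have hfib : ∀ y ∈ (Finset.univ : Finset {w : Sp.V m F // w ≠ 0}).image Φ,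
        2 ≤ (Finset.univ.filter fun w => Φ w = y).card := by
      intro y hy
      obtain ⟨w, -, rfl⟩ := Finset.mem_image.1 hy
      refine Finset.one_lt_card.2 ⟨w, by simp, ⟨-w.1, neg_ne_zero.2 w.2⟩, ?_, ?_⟩
      · simp only [Finset.mem_filter, Finset.mem_univ, true_and, Φ]
        rw [← neg_one_smul F w.1, Sp.tv_smul]
        simp
      · intro h
        have h' : w.1 = -w.1 := congrArg Subtype.val h
        exact w.2 ((smul_eq_zero.1 (show (2 : F) • w.1 = 0 by
          rw [two_smul]; nth_rw 2 [h']; exact add_neg_cancel _)).resolve_left h2)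
    have h1 := Finset.mul_card_image_le_card (f := Φ) (s := Finset.univ) (n := 2) hfib
    have h3 := Nat.card_mono (Set.finite_range Φ) hsub
    have h4 : Nat.card (Set.range Φ) = ((Finset.univ : Finset {w : Sp.V m F // w ≠ 0}).image Φ).card := by
      rw [Nat.card_coe_set_eq, ← Set.ncard_coe_finset, Finset.coe_image, Finset.coe_univ, Set.image_univ]
    rw [Finset.card_univ, Fintype.card_subtype_compl, Fintype.card_subtype_eq, Fintype.card_fun,
      Fintype.card_sum, Fintype.card_fin, ← two_mul] at h1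
    omega


/-- PSp_2m(q) ≇ PΩ_(2m+1)(q) for q odd and m ≥ 3 (they have the same order). -/
theorem result {F : Type*} [Field F] [Fintype F] (hodd : Odd (Fintype.card F)) (m : ℕ) (hm : 3 ≤ m) : IsEmpty (Cfsg.PSp m F ≃* Cfsg.POmega F (Cfsg.quadFormOdd m F)) := by
  classical
  refine ⟨fun φ => ?_⟩
  obtain ⟨p, hchar⟩ := CharP.exists F
  have hp : Fact p.Prime := ⟨CharP.char_is_prime F p⟩
  have h2 := OrthOrder.two_ne_zero_of_odd rfl hodd
  have e : Cfsg.quadFormOdd m F = ⇑(OrthStd.oddQ m F) := funext fun x => (OrthStd.oddQ_apply m x).symm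
  rw [e] at φ
  have hQ := OrthStd.odd_nondeg h2 m
  have hι : Fintype.card (Unit ⊕ (Fin m ⊕ Fin m)) = 2 * m + 1 := by
    rw [Fintype.card_sum, Fintype.card_sum, Fintype.card_unit, Fintype.card_fin]; omega
  have h7 : 7 ≤ Fintype.card (Unit ⊕ (Fin m ⊕ Fin m)) := by omega
  have h5 : 5 ≤ Fintype.card (Unit ⊕ (Fin m ⊕ Fin m)) := by omega
  have hoddι : Odd (Fintype.card (Unit ⊕ (Fin m ⊕ Fin m))) := ⟨m, hι⟩
  let ψ : Cfsg.POmega F ⇑(OrthStd.oddQ m F) ≃* Cfsg.Omega F ⇑(OrthStd.oddQ m F) :=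
    (QuotientGroup.quotientMulEquivOfEq (OrthCent.center_eq_bot hQ h5 hoddι)).trans QuotientGroup.quotientBot
  let χ : Cfsg.PSp m F ≃* Cfsg.Omega F ⇑(OrthStd.oddQ m F) := φ.trans ψ
  obtain ⟨g, hg1, hgp, hgc⟩ := psp_class h2 p m (by omega)
  rw [← card_range_conj_congr χ g] at hgc
  have hidx : ¬ p ∣ (Subgroup.centralizer {χ g}).index := by
    intro h
    apply hgp
    rwa [← Subgroup.index_map_equiv (Subgroup.centralizer {g}) χ, show (Subgroup.centralizer {g}).map
      (χ : Cfsg.PSp m F →* Cfsg.Omega F ⇑(OrthStd.oddQ m F)) = Subgroup.centralizer {χ g} from ?_]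
    ext y
    rw [Subgroup.mem_map, Subgroup.mem_centralizer_singleton_iff]
    constructor
    · rintro ⟨x, hx, rfl⟩
      rw [Subgroup.mem_centralizer_singleton_iff] at hx
      change χ x * χ g = χ g * χ x
      rw [← map_mul, ← map_mul, hx]
    · intro hy
      refine ⟨χ.symm y, Subgroup.mem_centralizer_singleton_iff.2 (χ.injective ?_), χ.apply_symm_apply y⟩
      simpa using hy
  obtain ⟨e, he0, he⟩ := OrthCent.exists_singular_point hQ h5
  -- the root group at `e` is a `p`-group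
  let A : Subgroup (Cfsg.Omega F ⇑(OrthStd.oddQ m F)) :=
    { carrier := {g | ∃ a, QuadraticMap.polar ⇑(OrthStd.oddQ m F) e a = 0 ∧
        (g : Cfsg.isometryGroup F ⇑(OrthStd.oddQ m F)) = OrthRoot.E (OrthStd.oddQ m F) e a}
      one_mem' := ⟨0, QuadraticMap.polar_zero_right _ e, by rw [OneMemClass.coe_one, OrthRoot.E_zero he]⟩
      mul_mem' := by
        rintro g h ⟨a, ha, hg⟩ ⟨b, hb, hh⟩
        exact ⟨a + b, by rw [QuadraticMap.polar_add_right, ha, hb, add_zero],
          by rw [Subgroup.coe_mul, hg, hh, OrthRoot.E_add he ha hb]⟩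
      inv_mem' := by
        rintro g ⟨a, ha, hg⟩
        exact ⟨-a, by rw [QuadraticMap.polar_neg_right, ha, neg_zero],
          by rw [InvMemClass.coe_inv, hg, OrthRoot.E_neg he ha]⟩ }
  have hA : IsPGroup p A := by
    rintro ⟨x, a, ha, hx⟩
    refine ⟨1, Subtype.ext (Subtype.ext ?_)⟩
    have hk : ∀ k : ℕ, QuadraticMap.polar ⇑(OrthStd.oddQ m F) e (k • a) = 0 ∧
        OrthRoot.E (OrthStd.oddQ m F) e a ^ k = OrthRoot.E (OrthStd.oddQ m F) e (k • a) := by
      intro k
      induction k with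
      | zero => exact ⟨by rw [zero_smul, QuadraticMap.polar_zero_right], by rw [pow_zero, zero_smul, OrthRoot.E_zero he]⟩
      | succ k ih =>
        refine ⟨by rw [succ_nsmul, QuadraticMap.polar_add_right, ih.1, ha, add_zero], ?_⟩
        rw [pow_succ, ih.2, succ_nsmul, OrthRoot.E_add he ih.1 ha]
    simp only [pow_one, SubmonoidClass.coe_pow, OneMemClass.coe_one, hx, (hk p).2]
    rw [← Nat.cast_smul_eq_nsmul F, CharP.cast_eq_zero, zero_smul, OrthRoot.E_zero he]

  obtain ⟨y, hy⟩ := hA.nonempty_fixed_point_of_prime_not_dvd_card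
    (Cfsg.Omega F ⇑(OrthStd.oddQ m F) ⧸ Subgroup.centralizer {χ g}) hidx
  obtain ⟨x, rfl⟩ := QuotientGroup.mk_surjective y
  obtain ⟨h, hh⟩ : ∃ h, h = x * χ g * x⁻¹ := ⟨_, rfl⟩
  have hcomm : ∀ a, QuadraticMap.polar ⇑(OrthStd.oddQ m F) e a = 0 →
      (h : Cfsg.isometryGroup F ⇑(OrthStd.oddQ m F)) * OrthRoot.E (OrthStd.oddQ m F) e a =
        OrthRoot.E (OrthStd.oddQ m F) e a * h := by
    intro a ha
    obtain ⟨s, hs⟩ : ∃ s : Cfsg.Omega F ⇑(OrthStd.oddQ m F), s = ⟨_, OrthSimple.E_omega hQ h5 he ha⟩ := ⟨_, rfl⟩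
    have h1 := hy ⟨s, a, ha, by rw [hs]⟩
    change (QuotientGroup.mk (s * x) : _ ⧸ Subgroup.centralizer {χ g}) = QuotientGroup.mk x at h1
    have h3 := Subgroup.mem_centralizer_singleton_iff.1 (QuotientGroup.eq.1 h1.symm)
    have h4 : h * s = s * h :=
      calc h * s = x * (χ g * (x⁻¹ * (s * x))) * x⁻¹ := by rw [hh]; group
        _ = x * ((x⁻¹ * (s * x)) * χ g) * x⁻¹ := by rw [← h3]
        _ = s * h := by rw [hh]; group
    have h5 := congrArg Subtype.val h4
    rw [Subgroup.coe_mul, Subgroup.coe_mul, hs] at h5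
    exact h5
  obtain ⟨b, hb, hbh⟩ := OrthCent.eq_E_of_comm hQ h5 hoddι he0 he h.2 hcomm
  have hbe : ∀ t : F, b ≠ t • e := by
    intro t ht
    rw [ht, OrthRoot.E_self he] at hbh
    have h1 : h = 1 := Subtype.ext hbh
    rw [hh, conj_eq_one_iff] at h1
    exact hg1 (χ.injective (by rw [h1, map_one]))
  have hlow := OrthCent.class_bound hQ h7 he0 he hb hbe h hbh
  have hrange : (Set.range fun z => z * h * z⁻¹) = Set.range fun z => z * χ g * z⁻¹ := by
    ext w
    constructor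
    · rintro ⟨z, rfl⟩; exact ⟨z * x, by rw [hh]; group⟩
    · rintro ⟨z, rfl⟩; exact ⟨z * x⁻¹, by rw [hh]; group⟩
  rw [hrange] at hlow
  have hcard : Nat.card {u : Unit ⊕ (Fin m ⊕ Fin m) → F // u ≠ 0 ∧ OrthStd.oddQ m F u = 0} + 1 =
      Fintype.card F ^ (2 * m) := by
    rw [← QuadCount.card_zeros_odd (F := F) rfl m, Nat.card_eq_fintype_card, Nat.card_eq_fintype_card,
      Fintype.card_subtype, Fintype.card_subtype]
    have h1 : (Finset.univ.filter fun u : Unit ⊕ (Fin m ⊕ Fin m) → F => u ≠ 0 ∧ OrthStd.oddQ m F u = 0) =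
        (Finset.univ.filter fun u => Cfsg.quadFormOdd m F u = 0).erase 0 := by
      ext u; simp [OrthStd.oddQ_apply]
    rw [h1, Finset.card_erase_add_one]
    simp [← OrthStd.oddQ_apply]
  have h3 : 1 < Fintype.card F ^ (2 * m) := Nat.one_lt_pow (by omega) Fintype.one_lt_card
  omega

end Cfsg.Agent.S0821
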