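import Cfsg.Statements.S0823
-- import your own Cfsg.Agent.* helpers here

set_option autoImplicit false
open Cfsg

namespace Cfsg.Agent.S0823

open Matrix

abbrev ι : Type := Unit ⊕ (Fin 1 ⊕ Fin 1)
abbrev K : Type := ZMod 3

instance factThree : Fact (Nat.Prime 3) := ⟨Nat.prime_three⟩

def vec (a b c : K) : ι → K := Sum.elim (fun _ => a) (Sum.elim (fun _ => b) (fun _ => c))

/-- four isotropic vectors with pairwise product -1 and sum zero -/
def pt : Fin 4 → (ι → K) := ![vec 0 1 0, vec 0 0 (-1), vec 1 1 (-1), vec (-1) 1 (-1)]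

def qf (v : ι → K) : K := v (.inl ()) ^ 2 + v (.inr (.inl 0)) * v (.inr (.inr 0))

/-- linear map with prescribed images of the first three points -/
def matOf (a b c : ι → K) : Matrix ι ι K :=
  Matrix.of fun i j => Sum.elim (fun _ => c i - a i - b i) (Sum.elim (fun _ => a i) (fun _ => - b i)) j

def sgn (σ : Equiv.Perm (Fin 4)) : K := ((Equiv.Perm.sign σ : ℤ) : K)

def rep (σ : Equiv.Perm (Fin 4)) : Matrix ι ι K := sgn σ • matOf (pt (σ 0)) (pt (σ 1)) (pt (σ 2))

theorem rep_one : rep 1 = 1 := by decide +kernel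

theorem rep_mul : ∀ σ τ, rep (σ * τ) = rep σ * rep τ := by decide +kernel

theorem rep_q : ∀ σ, ∀ a b c : K, qf ((rep σ).mulVec (vec a b c)) = qf (vec a b c) := by decide +kernel

theorem rep_det : ∀ σ, (rep σ).det = 1 := by decide +kernel

theorem rep_inj : ∀ σ, rep σ = 1 → σ = 1 := by decide +kernel

theorem vec_eta (v : ι → K) : vec (v (.inl ())) (v (.inr (.inl 0))) (v (.inr (.inr 0))) = v := by
  funext i
  rcases i with ⟨⟩ | i | i
  · rfl
  · fin_cases i; rfl
  · fin_cases i; rfl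

def cand : List (ι → K) := (List.finRange 4).flatMap fun i => [pt i, -pt i]

theorem cand_all : ∀ a b c : K, qf (vec a b c) = 0 → vec a b c ≠ 0 → vec a b c ∈ cand := by decide +kernel

theorem complete : ∀ a ∈ cand, ∀ b ∈ cand, ∀ c ∈ cand,
    (∀ x y z : K, qf ((matOf a b c).mulVec (vec x y z)) = qf (vec x y z)) → (matOf a b c).det = 1 →
      ∃ σ, matOf a b c = rep σ := by decide +kernel

theorem pt_null : ∀ i, qf (pt i) = 0 ∧ pt i ≠ 0 := by decide +kernel

theorem surj (g : Matrix ι ι K) (hq : ∀ v, qf (g.mulVec v) = qf v) (hd : g.det = 1) : ∃ σ, g = rep σ := by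
  have hg : matOf (g.mulVec (pt 0)) (g.mulVec (pt 1)) (g.mulVec (pt 2)) = g := by
    ext i j
    rcases j with j | j | j
    · cases j
      simp [matOf, Matrix.mulVec, dotProduct, pt, vec, Fintype.sum_sum_type]
      ring
    · fin_cases j
      simp [matOf, Matrix.mulVec, dotProduct, pt, vec, Fintype.sum_sum_type]
    · fin_cases j
      simp [matOf, Matrix.mulVec, dotProduct, pt, vec, Fintype.sum_sum_type]
  have hmem : ∀ i, g.mulVec (pt i) ∈ cand := fun i => by
    have h0 : qf (g.mulVec (pt i)) = 0 := by rw [hq, (pt_null i).1]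
    have hne : g.mulVec (pt i) ≠ 0 := fun h => by
      have h1 : IsUnit g.det := by rw [hd]; exact isUnit_one
      have h2 := Matrix.mulVec_injective_iff_isUnit.2 ((Matrix.isUnit_iff_isUnit_det g).2 h1)
      exact (pt_null i).2 (h2 (by rw [h, Matrix.mulVec_zero]))
    rw [← vec_eta (g.mulVec (pt i))] at h0 hne ⊢
    exact cand_all _ _ _ h0 hne
  rw [← hg]
  refine complete _ (hmem 0) _ (hmem 1) _ (hmem 2) (fun x y z => ?_) ?_
  · rw [hg]; exact hq _
  · rw [hg]; exact hd

/-- SO_3(3) ≅ S_4: the determinant-one isometries of the form x_0² + x_1y_1 over the field with 3 elements form a group isomorphic to the symmetric group on 4 letters. -/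
theorem result {F : Type*} [Field F] [Fintype F] (hF : Fintype.card F = 3) : Nonempty (↥(Cfsg.specialIsometryGroup F (Cfsg.quadFormOdd 1 F)) ≃* Equiv.Perm (Fin 4)) := by
  classical
  haveI : CharP F 3 := charP_of_card_eq_prime (by rw [hF])
  let e : K ≃+* F := ZMod.ringEquiv F hF
  have hqf : ∀ v : ι → K, Cfsg.quadFormOdd 1 F (e ∘ v) = e (qf v) := fun v => by
    simp [Cfsg.quadFormOdd, qf]
  have hlift : ∀ v : ι → F, e ∘ (e.symm ∘ v) = v := fun v => funext fun i => e.apply_symm_apply _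
  let ψ : Equiv.Perm (Fin 4) →* GL ι K := MonoidHom.toHomUnits
    { toFun := rep, map_one' := rep_one, map_mul' := rep_mul }
  have hψ : ∀ σ, (ψ σ : Matrix ι ι K) = rep σ := fun σ => rfl
  let E : GL ι K →* GL ι F := Matrix.GeneralLinearGroup.map e.toRingHom
  have hE : ∀ (g : GL ι K) (v : ι → K), ((E g : GL ι F) : Matrix ι ι F).mulVec (e ∘ v) = e ∘ ((g : Matrix ι ι K).mulVec v) :=
    fun g v => funext fun i => ((e : K →+* F).map_mulVec (g : Matrix ι ι K) v i).symm
  have hdet : ∀ g : GL ι K, Matrix.GeneralLinearGroup.det (E g) = 1 ↔ (g : Matrix ι ι K).det = 1 := fun g => by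
    rw [Units.ext_iff, Matrix.GeneralLinearGroup.val_det_apply]
    show (e.mapMatrix (g : Matrix ι ι K)).det = 1 ↔ _
    rw [← e.map_det, EmbeddingLike.map_eq_one_iff]
  have hiso : ∀ σ, E (ψ σ) ∈ Cfsg.isometryGroup F (Cfsg.quadFormOdd 1 F) := fun σ u w => by
    show Cfsg.quadFormOdd 1 F (((E (ψ σ) : GL ι F) : Matrix ι ι F).mulVec u) = Cfsg.quadFormOdd 1 F u
    rw [← hlift u, hE, hqf, hqf, hψ, ← vec_eta (e.symm ∘ u), rep_q]
  let Φ : Equiv.Perm (Fin 4) →* ↥(Cfsg.specialIsometryGroup F (Cfsg.quadFormOdd 1 F)) :=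
    MonoidHom.codRestrict (MonoidHom.codRestrict (E.comp ψ) _ hiso) _ fun σ => by
      show Matrix.GeneralLinearGroup.det (E (ψ σ)) = 1
      rw [hdet, hψ, rep_det]
  refine ⟨(MulEquiv.ofBijective Φ ⟨?_, ?_⟩).symm⟩
  · refine (injective_iff_map_eq_one Φ).2 fun σ h => rep_inj σ ?_
    have h1 : E (ψ σ) = 1 :=
      congrArg (fun z : ↥(Cfsg.specialIsometryGroup F (Cfsg.quadFormOdd 1 F)) => ((z : ↥(Cfsg.isometryGroup F (Cfsg.quadFormOdd 1 F))) : GL ι F)) h
    have h2 : ((ψ σ : GL ι K) : Matrix ι ι K).map e = (1 : Matrix ι ι F) := congrArg Units.val h1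
    exact Matrix.map_injective e.injective (h2.trans (Matrix.map_one _ e.map_zero e.map_one).symm)
  · rintro ⟨⟨g, hg⟩, hgd⟩
    let h : GL ι K := Matrix.GeneralLinearGroup.map e.symm.toRingHom g
    have hhg : E h = g := Units.ext (Matrix.ext fun i j => e.apply_symm_apply _)
    obtain ⟨σ, hσ⟩ := surj (h : Matrix ι ι K) (fun v => e.injective (by
      rw [← hqf, ← hqf, ← hE, hhg]; exact hg (e ∘ v) (e ∘ v))) ((hdet h).1 (by rw [hhg]; exact hgd))
    refine ⟨σ, Subtype.ext (Subtype.ext ?_)⟩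
    show E (ψ σ) = g
    rw [← hhg, show ψ σ = h from Units.ext hσ.symm]

end Cfsg.Agent.S0823
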