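import Cfsg.Statements.S0824
import Cfsg.Agent.Lie.QuadCount
import Cfsg.Agent.Lie.OrthOrder2

set_option maxHeartbeats 600000
-- import your own Cfsg.Agent.* helpers here

set_option autoImplicit false
open Cfsg

namespace Cfsg.Agent.S0824

/-- O⁻_4(2) ≅ S_5: the isometry group of the form x y + z_1² + z_1 z_2 + z_2² over the field with 2 elements is isomorphic to the symmetric group on 5 letters. -/
theorem result {F : Type*} [Field F] [Fintype F] (hF : Fintype.card F = 2) : Nonempty (↥(Cfsg.isometryGroup F (Cfsg.quadFormMinus 1 F 1 1)) ≃* Equiv.Perm (Fin 5)) := by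
  classical
  have hel : ∀ x : F, x = 0 ∨ x = 1 := fun x => by
    by_contra hc
    push Not at hc
    have h3 : ({0, 1, x} : Finset F).card ≤ Fintype.card F := Finset.card_le_univ _
    rw [Finset.card_insert_of_notMem (by simp [Ne.symm hc.1]), Finset.card_pair hc.2.symm, hF] at h3
    omega
  have h2 : (2 : F) = 0 := by
    have h := Nat.cast_card_eq_zero F
    rw [hF] at h
    exact_mod_cast h
  have hab : ∀ z₁ z₂ : F, z₁ ^ 2 + 1 * z₁ * z₂ + 1 * z₂ ^ 2 = 0 → z₁ = 0 ∧ z₂ = 0 := by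
    intro z₁ z₂ h
    rcases hel z₁ with rfl | rfl <;> rcases hel z₂ with rfl | rfl <;> simp at h ⊢
    exact one_ne_zero (show (1 : F) = 0 by linear_combination h - h2)
  have hcardO : Nat.card ↥(Cfsg.isometryGroup F (Cfsg.quadFormMinus 1 F 1 1)) = 120 := by
    rw [CfsgLib.Lie.OrthOrder.card_minus hab hF 1]
    decide
  let Ω := {v : (Fin 1 ⊕ Fin 1) ⊕ Fin 2 → F // Cfsg.quadFormMinus 1 F 1 1 v = 0 ∧ v ≠ 0}
  let G := Cfsg.isometryGroup F (Cfsg.quadFormMinus 1 F 1 1)
  let M : G → Matrix ((Fin 1 ⊕ Fin 1) ⊕ Fin 2) ((Fin 1 ⊕ Fin 1) ⊕ Fin 2) F := fun g => g.1.1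
  have hzero : ∀ (g : G) v, v ≠ 0 → Matrix.mulVec (M g) v ≠ 0 := fun g v hv h0 => by
    have h9 : Matrix.mulVec (M g⁻¹) (Matrix.mulVec (M g) v) = v := by
      rw [Matrix.mulVec_mulVec]
      show Matrix.mulVec ((g⁻¹ * g : G).1.1) v = v
      rw [inv_mul_cancel]; exact Matrix.one_mulVec v
    rw [h0, Matrix.mulVec_zero] at h9
    exact hv h9.symm
  let act : G → Ω → Ω := fun g v => ⟨Matrix.mulVec (M g) v.1, (g.2 v.1 v.1).trans v.2.1, hzero g v.1 v.2.2⟩
  let f : G →* Equiv.Perm Ω :=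
    { toFun := fun g => ⟨act g, act g⁻¹, fun v => Subtype.ext (by
          show Matrix.mulVec (M g⁻¹) (Matrix.mulVec (M g) v.1) = v.1
          rw [Matrix.mulVec_mulVec]
          show Matrix.mulVec ((g⁻¹ * g : G).1.1) v.1 = v.1
          rw [inv_mul_cancel]; exact Matrix.one_mulVec _), fun v => Subtype.ext (by
          show Matrix.mulVec (M g) (Matrix.mulVec (M g⁻¹) v.1) = v.1
          rw [Matrix.mulVec_mulVec]
          show Matrix.mulVec ((g * g⁻¹ : G).1.1) v.1 = v.1
          rw [mul_inv_cancel]; exact Matrix.one_mulVec _)⟩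
      map_one' := Equiv.ext fun v => Subtype.ext (Matrix.one_mulVec v.1)
      map_mul' := fun g h => Equiv.ext fun v => Subtype.ext (Matrix.mulVec_mulVec v.1 (M g) (M h)).symm }
  have hinj : Function.Injective f := by
    rw [injective_iff_map_eq_one]
    intro g hg
    have hv : ∀ v, Cfsg.quadFormMinus 1 F 1 1 v = 0 → v ≠ 0 → Matrix.mulVec (M g) v = v := fun v hv hv0 =>
      congrArg Subtype.val (Equiv.congr_fun hg ⟨v, hv, hv0⟩)
    have hne : ∀ v : (Fin 1 ⊕ Fin 1) ⊕ Fin 2 → F, ∀ i, v i = 1 → v ≠ 0 := fun v i h h0 => by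
      rw [h0] at h; simp at h
    have a := hv (Pi.single (.inl (.inl 0)) 1) (by simp [Cfsg.quadFormMinus]) (hne _ (.inl (.inl 0)) (by simp))
    have b := hv (Pi.single (.inl (.inr 0)) 1) (by simp [Cfsg.quadFormMinus]) (hne _ (.inl (.inr 0)) (by simp))
    have c : ∀ k : Fin 2, Matrix.mulVec (M g) (Pi.single (.inr k) 1) = Pi.single (.inr k) 1 := by
      intro k
      have h := hv (Pi.single (.inl (.inl 0)) 1 + Pi.single (.inl (.inr 0)) 1 + Pi.single (.inr k) 1) (by
          fin_cases k <;> simp [Cfsg.quadFormMinus] <;> linear_combination h2)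
        (hne _ (.inr k) (by simp))
      rw [Matrix.mulVec_add, Matrix.mulVec_add, a, b] at h
      exact add_left_cancel h
    refine Subtype.ext (Units.ext (Matrix.ext_of_mulVec_single fun i => ?_))
    show Matrix.mulVec (M g) _ = Matrix.mulVec 1 _
    rw [Matrix.one_mulVec]
    rcases i with (i | i) | i
    · rw [Subsingleton.elim i 0]; exact a
    · rw [Subsingleton.elim i 0]; exact b
    · exact c i
  have hΩ : Nat.card Ω = 5 := by
    have h := CfsgLib.Lie.QuadCount.card_zeros_minus hF 1 (1 : F) 1 hab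
    have hN : Nat.card {v : (Fin 1 ⊕ Fin 1) ⊕ Fin 2 → F // Cfsg.quadFormMinus 1 F 1 1 v = 0} = 6 := by
      norm_num at h
      rw [Nat.card_eq_fintype_card]
      omega
    have h1 : {v : (Fin 1 ⊕ Fin 1) ⊕ Fin 2 → F | Cfsg.quadFormMinus 1 F 1 1 v = 0 ∧ v ≠ 0} =
        {v | Cfsg.quadFormMinus 1 F 1 1 v = 0} \ {0} := by
      ext v; simp
    have h3 := congrArg Set.ncard h1
    rw [Set.ncard_diff_singleton_of_mem (show (0 : (Fin 1 ⊕ Fin 1) ⊕ Fin 2 → F) ∈ {v | Cfsg.quadFormMinus 1 F 1 1 v = 0} by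
      simp [Cfsg.quadFormMinus]), ← Nat.card_coe_set_eq, ← Nat.card_coe_set_eq] at h3
    simp only [Set.coe_setOf] at h3
    rw [hN] at h3
    exact h3
  obtain ⟨e⟩ : Nonempty (Ω ≃ Fin 5) := Finite.card_eq.1 (by rw [hΩ]; simp)
  have hb : Function.Bijective (e.permCongrHom.toMonoidHom.comp f) :=
    (Nat.bijective_iff_injective_and_card _).2 ⟨e.permCongrHom.injective.comp hinj, by
      rw [hcardO, Nat.card_perm, Nat.card_eq_fintype_card, Fintype.card_fin]; rfl⟩
  exact ⟨MulEquiv.ofBijective _ hb⟩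

end Cfsg.Agent.S0824
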