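import Cfsg.Statements.S0828
import Cfsg.Agent.Lie.Sp

set_option autoImplicit false
open Cfsg

namespace Cfsg.Agent.S0828

/-- The symplectic generalised quadrangle over a field with q elements: the number of 2-dimensional subspaces of F^4 on which the symplectic form vanishes is (q + 1)(q² + 1), and every non-zero vector lies in exactly q + 1 of them. -/
theorem result {F : Type*} [Field F] [Fintype F] {q : ℕ} (hF : Fintype.card F = q) : Nat.card {W : Submodule F (Fin 2 ⊕ Fin 2 → F) // Module.finrank F W = 2 ∧ ∀ u ∈ W, ∀ v ∈ W, Cfsg.sympForm 2 F u v = 0} = (q + 1) * (q ^ 2 + 1) ∧ ∀ v : Fin 2 ⊕ Fin 2 → F, v ≠ 0 → Nat.card {W : Submodule F (Fin 2 ⊕ Fin 2 → F) // Module.finrank F W = 2 ∧ v ∈ W ∧ ∀ u ∈ W, ∀ w ∈ W, Cfsg.sympForm 2 F u w = 0} = q + 1 := by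
  classical
  have hcard : ∀ W : Submodule F (Fin 2 ⊕ Fin 2 → F), Nat.card W = q ^ Module.finrank F W := fun W => by
    rw [Module.natCard_eq_pow_finrank (K := F), Nat.card_eq_fintype_card, hF]
  have hq : 2 ≤ q := hF ▸ Fintype.one_lt_card
  have : Finite (Submodule F (Fin 2 ⊕ Fin 2 → F)) :=
    Finite.of_injective (fun W => (W : Set (Fin 2 ⊕ Fin 2 → F))) SetLike.coe_injective
  set B := CfsgLib.Lie.Sp.bf 2 F with hB
  have hB' : ∀ u v, Cfsg.sympForm 2 F u v = B u v := fun u v => (CfsgLib.Lie.Sp.bf_eq u v).symm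
  simp only [hB']
  have part2 : ∀ v : Fin 2 ⊕ Fin 2 → F, v ≠ 0 → Nat.card {W : Submodule F (Fin 2 ⊕ Fin 2 → F) //
      Module.finrank F W = 2 ∧ v ∈ W ∧ ∀ u ∈ W, ∀ w ∈ W, B u w = 0} = q + 1 := by
    intro v hv
    set S := {W : Submodule F (Fin 2 ⊕ Fin 2 → F) //
      Module.finrank F W = 2 ∧ v ∈ W ∧ ∀ u ∈ W, ∀ w ∈ W, B u w = 0} with hS
    let P := LinearMap.ker (B v)
    let Lv := Submodule.span F {v}
    have hvP : Lv ≤ P := by
      rw [Submodule.span_singleton_le_iff_mem, LinearMap.mem_ker]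
      exact CfsgLib.Lie.Sp.bf_self v
    obtain ⟨x, hx⟩ := CfsgLib.Lie.Sp.exists_bf_eq_one hv
    have hP : Module.finrank F P = 3 := by
      have h := LinearMap.finrank_range_add_finrank_ker (B v)
      rw [LinearMap.range_eq_top.2 (fun c => ⟨c • x, by simp [hB, hx]⟩), finrank_top,
        Module.finrank_self, Module.finrank_fintype_fun_eq_card] at h
      simp at h
      change Module.finrank F (LinearMap.ker (B v)) = 3
      omega
    have hL : Module.finrank F Lv = 1 := finrank_span_singleton hv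
    let T := {w : Fin 2 ⊕ Fin 2 → F // w ∈ P ∧ w ∉ Lv}
    have hspan : ∀ w : T, Module.finrank F (Submodule.span F {v, w.1}) = 2 := by
      intro w
      have hli : LinearIndependent F ![v, w.1] := by
        rw [LinearIndependent.pair_iff' hv]
        exact fun a h => w.2.2 (Submodule.mem_span_singleton.2 ⟨a, h⟩)
      have := finrank_span_eq_card hli
      rwa [Matrix.range_cons, Matrix.range_cons, Matrix.range_empty, Set.union_empty,
        Set.singleton_union, Fintype.card_fin] at this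
    let φ : T → S := fun w => ⟨Submodule.span F {v, w.1}, hspan w,
      Submodule.subset_span (Set.mem_insert _ _), fun a ha b hb => by
        obtain ⟨a1, a2, rfl⟩ := Submodule.mem_span_pair.1 ha
        obtain ⟨b1, b2, rfl⟩ := Submodule.mem_span_pair.1 hb
        have h1 : B v w.1 = 0 := LinearMap.mem_ker.1 w.2.1
        have h2 : B w.1 v = 0 := by rw [hB, CfsgLib.Lie.Sp.bf_swap, ← hB, h1, neg_zero]
        have h3 : B v v = 0 := CfsgLib.Lie.Sp.bf_self v
        have h4 : B w.1 w.1 = 0 := CfsgLib.Lie.Sp.bf_self w.1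
        simp [h1, h2, h3, h4]⟩
    have hdiff : ∀ W : Submodule F (Fin 2 ⊕ Fin 2 → F), Lv ≤ W →
        Nat.card {w : Fin 2 ⊕ Fin 2 → F // w ∈ W ∧ w ∉ Lv} = q ^ Module.finrank F W - q := by
      intro W hW
      have h : ((W : Set (Fin 2 ⊕ Fin 2 → F)) \ (Lv : Set (Fin 2 ⊕ Fin 2 → F))).ncard =
          (W : Set (Fin 2 ⊕ Fin 2 → F)).ncard - (Lv : Set (Fin 2 ⊕ Fin 2 → F)).ncard :=
        Set.ncard_sdiff hW (Set.toFinite _)
      rw [← Nat.card_coe_set_eq, ← Nat.card_coe_set_eq, ← Nat.card_coe_set_eq] at h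
      change Nat.card _ = Nat.card W - Nat.card Lv at h
      rw [hcard, hcard, hL, pow_one] at h
      exact h
    have hfib : ∀ W : S, Nat.card {w : T // φ w = W} = q ^ 2 - q := by
      intro W
      have hLW : Lv ≤ W.1 := (Submodule.span_singleton_le_iff_mem _ _).2 W.2.2.1
      rw [← congrArg (fun k => q ^ k - q) W.2.1, ← hdiff W.1 hLW]
      refine Nat.card_congr
        { toFun := fun w => ⟨w.1.1, congrArg Subtype.val w.2 ▸
            Submodule.subset_span (Set.mem_insert_of_mem _ rfl), w.1.2.2⟩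
          invFun := fun w => ⟨⟨w.1, LinearMap.mem_ker.2 (W.2.2.2 v W.2.2.1 w.1 w.2.1), w.2.2⟩,
            Subtype.ext (Submodule.eq_of_le_of_finrank_eq (Submodule.span_le.2
              (Set.insert_subset W.2.2.1 (Set.singleton_subset_iff.2 w.2.1)))
              ((hspan _).trans W.2.1.symm))⟩
          left_inv := fun _ => rfl
          right_inv := fun _ => rfl }
    have hT : Nat.card T = q ^ 3 - q := by
      have := hdiff P hvP
      rwa [hP] at this
    have : Fintype S := Fintype.ofFinite S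
    rw [← Nat.card_congr (Equiv.sigmaFiberEquiv φ), Nat.card_sigma, Finset.sum_congr rfl
      (fun W _ => hfib W), Finset.sum_const, smul_eq_mul, Finset.card_univ,
      ← Nat.card_eq_fintype_card] at hT
    have h3 : (q + 1) * (q ^ 2 - q) = q ^ 3 - q := by
      obtain ⟨d, rfl⟩ : ∃ d, q = d + 1 := ⟨q - 1, by omega⟩
      rw [show (d + 1) ^ 2 - (d + 1) = d * (d + 1) by apply Nat.sub_eq_of_eq_add; ring]
      symm
      apply Nat.sub_eq_of_eq_add
      ring
    have h4 : 0 < q ^ 2 - q := by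
      have : q * 2 ≤ q ^ 2 := by rw [pow_two]; exact Nat.mul_le_mul_left q hq
      omega
    exact Nat.eq_of_mul_eq_mul_right h4 (hT.trans h3.symm)
  refine ⟨?_, part2⟩
  set S := {W : Submodule F (Fin 2 ⊕ Fin 2 → F) //
    Module.finrank F W = 2 ∧ ∀ u ∈ W, ∀ v ∈ W, B u v = 0} with hS
  let e : (Σ W : S, {v : W.1 // v ≠ 0}) ≃ (Σ v : {v : Fin 2 ⊕ Fin 2 → F // v ≠ 0},
      {W : Submodule F (Fin 2 ⊕ Fin 2 → F) //
        Module.finrank F W = 2 ∧ v.1 ∈ W ∧ ∀ u ∈ W, ∀ w ∈ W, B u w = 0}) :=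
    { toFun := fun p => ⟨⟨p.2.1.1, fun h => p.2.2 (Subtype.ext h)⟩,
        ⟨p.1.1, p.1.2.1, p.2.1.2, p.1.2.2⟩⟩
      invFun := fun p => ⟨⟨p.2.1, p.2.2.1, p.2.2.2.2⟩,
        ⟨⟨p.1.1, p.2.2.2.1⟩, fun h => p.1.2 (congrArg Subtype.val h)⟩⟩
      left_inv := fun _ => rfl
      right_inv := fun _ => rfl }
  have : Fintype S := Fintype.ofFinite S
  have h := Nat.card_congr e
  have hne : ∀ (V : Type _) [Fintype V] [Zero V], Nat.card {v : V // v ≠ 0} = Nat.card V - 1 :=
    fun V _ _ => by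
      rw [Nat.card_eq_fintype_card, Nat.card_eq_fintype_card, Fintype.card_subtype_compl,
        Fintype.card_subtype_eq]
  rw [Nat.card_sigma, Nat.card_sigma,
    Finset.sum_congr rfl (fun W _ => (hne W.1).trans (congrArg (· - 1)
      ((hcard W.1).trans (congrArg (q ^ ·) W.2.1)))),
    Finset.sum_congr (s₁ := (Finset.univ : Finset {v : Fin 2 ⊕ Fin 2 → F // v ≠ 0})) rfl
      (fun v _ => part2 v.1 v.2), Finset.sum_const,
    Finset.sum_const, smul_eq_mul, smul_eq_mul, Finset.card_univ, Finset.card_univ,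
    ← Nat.card_eq_fintype_card, ← Nat.card_eq_fintype_card, hne, Nat.card_fun,
    Nat.card_eq_fintype_card (α := F), hF] at h
  simp at h
  have h5 : 0 < q ^ 2 - 1 := by
    have : 2 * 2 ≤ q * q := Nat.mul_le_mul hq hq
    rw [pow_two]; omega
  rw [← Nat.card_eq_fintype_card] at h
  refine Nat.eq_of_mul_eq_mul_right h5 (h.trans ?_)
  obtain ⟨d, hd⟩ : ∃ d, q ^ 2 = d + 1 := ⟨q ^ 2 - 1, by omega⟩
  rw [show q ^ 4 = q ^ 2 * q ^ 2 by ring, hd, show (d + 1) * (d + 1) - 1 = d * (d + 2) by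
    apply Nat.sub_eq_of_eq_add; ring, Nat.add_sub_cancel]
  ring

end Cfsg.Agent.S0828
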