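import Cfsg.Statements.S0829
import Cfsg.Agent.Lie.HermLines
-- import your own Cfsg.Agent.* helpers here

set_option autoImplicit false
open Cfsg

namespace Cfsg.Agent.S0829

/-- The unitary quadrangle of PSU_4(q): with |F| = q², the number of 2-dimensional subspaces of F^4 on which the Hermitian form Σ x_i y_i^q vanishes is (q + 1)(q³ + 1). -/
theorem result {F : Type*} [Field F] [Fintype F] {q : ℕ} (hF : Fintype.card F = q ^ 2) : Nat.card {W : Submodule F (Fin 4 → F) // Module.finrank F W = 2 ∧ ∀ u ∈ W, ∀ v ∈ W, Cfsg.hermForm 4 F q u v = 0} = (q + 1) * (q ^ 3 + 1) := by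
  have hq := CfsgLib.Lie.Herm.two_le hF
  have h1 := CfsgLib.Lie.Herm.card_lev_zero hF 2
  have h2 := CfsgLib.Lie.Herm.card_lev_zero hF (2 + 2)
  have h3 := CfsgLib.Lie.HermLines.card_lines (n := 2) hF (q + 1) (h1.trans (by
    norm_num [show (2 : ℕ) % 2 = 0 from rfl, Nat.even_iff]
    try ring))
  have h4 : 0 < (q ^ 2) ^ 2 - 1 := by
    have : 2 ^ 4 ≤ (q ^ 2) ^ 2 := by rw [← pow_mul]; exact Nat.pow_le_pow_left hq 4
    omega
  refine Nat.eq_of_mul_eq_mul_right h4 (h3.trans ?_)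
  rw [show Nat.card {x : Fin (2 + 2) → F // Cfsg.hermForm (2 + 2) F q x x = 0} = _ from h2, Nat.add_sub_cancel]
  norm_num [Nat.even_iff]
  try ring_nf

end Cfsg.Agent.S0829
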