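import Cfsg.Statements.S0831
import Cfsg.Agent.Lie.OrthFamilies
-- import your own Cfsg.Agent.* helpers here

set_option autoImplicit false
open Cfsg

namespace Cfsg.Agent.S0831

/-- The two families of maximal totally singular subspaces of the hyperbolic quadric: for the form Σ x_i y_i on F^(2m), m ≥ 1, and m-dimensional subspaces U, W, X on which it vanishes, the parities of m − dim(U ∩ W), m − dim(W ∩ X) and m − dim(U ∩ X) sum to an even number (so 'even codimension of the intersection' is an equivalence relation), and there exist two such subspaces meeting in codimension 1 (so there are exactly two classes). -/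
theorem result {F : Type*} [Field F] (m : ℕ) (hm : 1 ≤ m) : (∀ U W X : Submodule F (Fin m ⊕ Fin m → F), (Module.finrank F U = m ∧ ∀ w ∈ U, Cfsg.quadFormPlus m F w = 0) → (Module.finrank F W = m ∧ ∀ w ∈ W, Cfsg.quadFormPlus m F w = 0) → (Module.finrank F X = m ∧ ∀ w ∈ X, Cfsg.quadFormPlus m F w = 0) → Even ((m - Module.finrank F ↥(U ⊓ W)) + (m - Module.finrank F ↥(W ⊓ X)) + (m - Module.finrank F ↥(U ⊓ X)))) ∧ ∃ U W : Submodule F (Fin m ⊕ Fin m → F), (Module.finrank F U = m ∧ ∀ w ∈ U, Cfsg.quadFormPlus m F w = 0) ∧ (Module.finrank F W = m ∧ ∀ w ∈ W, Cfsg.quadFormPlus m F w = 0) ∧ Module.finrank F ↥(U ⊓ W) + 1 = m := by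
  classical
  have hQ := CfsgLib.Lie.OrthFamilies.plus_nondeg' (F := F) m
  have hV : Module.finrank F (Fin m ⊕ Fin m → F) = 2 * m := by simp; omega
  have hconv : ∀ U : Submodule F (Fin m ⊕ Fin m → F), (Module.finrank F U = m ∧ ∀ w ∈ U, Cfsg.quadFormPlus m F w = 0) ↔
      CfsgLib.Lie.OrthFamilies.MTS (CfsgLib.Lie.OrthOrder.plusQ m F) m U := fun U => by
    simp only [CfsgLib.Lie.OrthFamilies.MTS, CfsgLib.Lie.OrthOrder.plusQ_apply]
  refine ⟨fun U W X hU hW hX => ?_, ?_⟩
  · have hb := Submodule.finrank_mono (inf_le_left : W ⊓ X ≤ W)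
    rw [hW.1] at hb
    exact CfsgLib.Lie.OrthFamilies.parity hQ hV _ U W X ((hconv U).1 hU) ((hconv W).1 hW) ((hconv X).1 hX)
      (Nat.add_sub_cancel' hb)
  · obtain ⟨U, hUdef⟩ : ∃ U, U = CfsgLib.Lie.OrthFamilies.side (F := F) (fun _ : Fin m => true) := ⟨_, rfl⟩
    obtain ⟨W, hWdef⟩ : ∃ W, W = CfsgLib.Lie.OrthFamilies.side (F := F) (fun i : Fin m => decide (i ≠ ⟨0, hm⟩)) := ⟨_, rfl⟩
    have hU := (hconv U).2 (hUdef ▸ CfsgLib.Lie.OrthFamilies.side_mts _)
    have hW := (hconv W).2 (hWdef ▸ CfsgLib.Lie.OrthFamilies.side_mts _)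
    refine ⟨U, W, hU, hW, ?_⟩
    let φ : U →ₗ[F] F := (LinearMap.proj (R := F) (φ := fun _ : Fin m ⊕ Fin m => F) (Sum.inr ⟨0, hm⟩)).comp U.subtype
    have h3 := LinearMap.finrank_range_add_finrank_ker φ
    have h4 := Submodule.finrank_le (LinearMap.range φ)
    rw [Module.finrank_self] at h4
    have hmemU : ∀ v, v ∈ U ↔ ∀ i, v (Sum.inl i) = 0 := fun v => by rw [hUdef]; exact Iff.rfl
    have hmemW : ∀ v, v ∈ W ↔ ∀ i, v (if decide (i ≠ ⟨0, hm⟩) then .inl i else .inr i) = 0 := fun v => by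
      rw [hWdef]; exact Iff.rfl
    have h5 : (LinearMap.ker φ).map U.subtype ≤ U ⊓ W := by
      rintro _ ⟨y, hy, rfl⟩
      refine ⟨y.2, (hmemW _).2 fun i => ?_⟩
      by_cases hi : i = ⟨0, hm⟩
      · subst hi
        have h9 : y.1 (Sum.inr ⟨0, hm⟩) = 0 := LinearMap.mem_ker.1 hy
        simpa using h9
      · rw [if_pos (by simpa using hi)]
        exact (hmemU _).1 y.2 i
    have h6 := Submodule.finrank_mono h5
    rw [← (Submodule.equivMapOfInjective _ U.subtype_injective (LinearMap.ker φ)).finrank_eq] at h6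
    have hlt : U ⊓ W < U := lt_of_le_of_ne inf_le_left fun h => by
      have hv : (Pi.single (Sum.inr ⟨0, hm⟩) 1 : Fin m ⊕ Fin m → F) ∈ U := (hmemU _).2 fun i => by simp
      rw [← h] at hv
      simpa using (hmemW _).1 hv.2 ⟨0, hm⟩
    have h7 := Submodule.finrank_lt_finrank_of_lt hlt
    rw [hU.1] at h3 h7
    omega

end Cfsg.Agent.S0831
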