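import Cfsg.Statements.S0832
import Cfsg.Agent.Lie.OrthFamilies
-- import your own Cfsg.Agent.* helpers here

set_option autoImplicit false
open Cfsg

namespace Cfsg.Agent.S0832

/-- For the form Σ x_i y_i on F^(2m) over a finite field, m ≥ 1: an (m−1)-dimensional subspace on which the form vanishes is contained in exactly two m-dimensional subspaces on which it vanishes. -/
theorem result {F : Type*} [Field F] [Finite F] (m : ℕ) (hm : 1 ≤ m) (U : Submodule F (Fin m ⊕ Fin m → F)) (hU : Module.finrank F U + 1 = m ∧ ∀ u ∈ U, Cfsg.quadFormPlus m F u = 0) : Nat.card {W : Submodule F (Fin m ⊕ Fin m → F) // Module.finrank F W = m ∧ (∀ w ∈ W, Cfsg.quadFormPlus m F w = 0) ∧ U ≤ W} = 2 := by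
  classical
  have hQ := CfsgLib.Lie.OrthFamilies.plus_nondeg' (F := F) m
  have hV : Module.finrank F (Fin m ⊕ Fin m → F) = 2 * m := by simp; omega
  obtain ⟨W, W', hne, h⟩ := CfsgLib.Lie.OrthFamilies.two_over hQ hV
    (CfsgLib.Lie.OrthFamilies.side_mts (F := F) (fun _ : Fin m => true)) hU.1
    (fun u hu => by rw [CfsgLib.Lie.OrthOrder.plusQ_apply]; exact hU.2 u hu)
  have hset : {S : Submodule F (Fin m ⊕ Fin m → F) | Module.finrank F S = m ∧
      (∀ w ∈ S, Cfsg.quadFormPlus m F w = 0) ∧ U ≤ S} = {W, W'} := by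
    ext S
    rw [Set.mem_setOf_eq, Set.mem_insert_iff, Set.mem_singleton_iff, ← h S, CfsgLib.Lie.OrthFamilies.MTS]
    simp only [CfsgLib.Lie.OrthOrder.plusQ_apply, and_assoc]
  have h2 := congrArg Set.ncard hset
  rw [Set.ncard_pair hne, ← Nat.card_coe_set_eq] at h2
  exact h2

end Cfsg.Agent.S0832
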