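import Cfsg.Statements.S0833
import Cfsg.Agent.Lie.OrthBasis

open scoped TensorProduct
-- import your own Cfsg.Agent.* helpers here

set_option autoImplicit false
open Cfsg

namespace Cfsg.Agent.S0833

/-- If B₁, B₂ are non-degenerate alternating forms on U (dim 2k) and W (dim 2l), then B₁ ⊗ B₂ on U ⊗ W is symmetric, non-degenerate, and vanishes identically on some subspace of dimension 2kl (half of dim U ⊗ W). -/
theorem result {F U W : Type*} [Field F] [Fintype F] [AddCommGroup U] [Module F U] [FiniteDimensional F U] [AddCommGroup W] [Module F W] [FiniteDimensional F W] (B₁ : LinearMap.BilinForm F U) (B₂ : LinearMap.BilinForm F W) (h₁ : B₁.Nondegenerate) (h₂ : B₂.Nondegenerate) (hA₁ : B₁.IsAlt) (hA₂ : B₂.IsAlt) (k l : ℕ) (hU : Module.finrank F U = 2 * k) (hW : Module.finrank F W = 2 * l) : (B₁.tmul B₂).IsSymm ∧ (B₁.tmul B₂).Nondegenerate ∧ (∃ X : Submodule F (TensorProduct F U W), Module.finrank F X = 2 * k * l ∧ ∀ x ∈ X, ∀ y ∈ X, (B₁.tmul B₂) x y = 0) := by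
  classical
  have hn₁ : ∀ a b, B₁ a b = - B₁ b a := fun a b => (hA₁.neg_eq b a).symm
  have hn₂ : ∀ a b, B₂ a b = - B₂ b a := fun a b => (hA₂.neg_eq b a).symm
  have hflip : (B₁.tmul B₂).flip = B₁.tmul B₂ := by
    ext a b c d
    change B₂ d b • B₁ c a = B₂ b d • B₁ a c
    rw [hn₁ c a, hn₂ d b, smul_neg, neg_smul, neg_neg]
  have hsym : ∀ x y, B₁.tmul B₂ x y = B₁.tmul B₂ y x := fun x y => by
    conv_lhs => rw [← hflip]
    rfl
  refine ⟨⟨hsym⟩, ?_, ?_⟩
  · let b₁ := Module.finBasis F U
    let b₂ := Module.finBasis F W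
    let d := (B₁.dualBasis h₁ b₁).tensorProduct (B₂.dualBasis h₂ b₂)
    have hc : ∀ i j x, B₁.tmul B₂ x (b₁ i ⊗ₜ b₂ j) = d.repr x (i, j) := by
      intro i j x
      have h : (B₁.tmul B₂).flip (b₁ i ⊗ₜ b₂ j) = d.coord (i, j) := by
        refine d.ext fun p => ?_
        rw [Module.Basis.coord_apply, Module.Basis.repr_self, Finsupp.single_apply]
        change B₁.tmul B₂ (d p) (b₁ i ⊗ₜ b₂ j) = _
        rw [show d p = (B₁.dualBasis h₁ b₁) p.1 ⊗ₜ (B₂.dualBasis h₂ b₂) p.2 from
          Module.Basis.tensorProduct_apply' _ _ p]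
        change B₂ ((B₂.dualBasis h₂ b₂) p.2) (b₂ j) • B₁ ((B₁.dualBasis h₁ b₁) p.1) (b₁ i) = _
        rw [LinearMap.BilinForm.apply_dualBasis_left, LinearMap.BilinForm.apply_dualBasis_left]
        obtain ⟨p1, p2⟩ := p
        by_cases hi : i = p1 <;> by_cases hj : j = p2 <;> simp [hi, hj, eq_comm]
      exact LinearMap.congr_fun h x
    have hL : ∀ x, (∀ y, B₁.tmul B₂ x y = 0) → x = 0 := fun x hx => d.ext_elem fun p => by
      rw [← hc p.1 p.2, hx]; simp
    exact ⟨hL, fun x hx => hL x fun y => by rw [hsym]; exact hx y⟩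
  · obtain ⟨m, r, e, -, he2, -, he4⟩ := CfsgLib.Lie.OrthBasis.exists_symplectic B₁ hA₁
    have hr : r = 0 := by
      rcases Nat.eq_zero_or_pos r with h0 | h0
      · exact h0
      exact absurd (h₁.1 _ (he4 ⟨0, h0⟩)) (e.ne_zero _)
    subst hr
    have hm : m = k := by
      have := Module.finrank_eq_card_basis e
      rw [hU] at this
      simp at this
      omega
    subst hm
    let b₂ := Module.finBasis F W
    let f : Fin m × Fin (Module.finrank F W) → U ⊗[F] W := fun p => e (.inl (.inl p.1)) ⊗ₜ b₂ p.2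
    have hf : f = (e.tensorProduct b₂) ∘ fun p => ((Sum.inl (Sum.inl p.1) : (Fin m ⊕ Fin m) ⊕ Fin 0), p.2) := by
      funext p
      simp only [f, Function.comp_apply, Module.Basis.tensorProduct_apply']
    refine ⟨Submodule.span F (Set.range f), ?_, ?_⟩
    · have hi : LinearIndependent F f := by
        rw [hf]
        refine (e.tensorProduct b₂).linearIndependent.comp _ fun p p' h => ?_
        simpa [Prod.ext_iff] using h
      rw [finrank_span_eq_card hi]
      simp [hW]
      ring
    · intro x hx y hy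
      induction hx using Submodule.span_induction generalizing y with
      | mem x hx =>
        obtain ⟨p, rfl⟩ := hx
        induction hy using Submodule.span_induction with
        | mem y hy =>
          obtain ⟨p', rfl⟩ := hy
          change B₂ _ _ • B₁ (e (.inl (.inl p.1))) (e (.inl (.inl p'.1))) = 0
          rw [he2, smul_zero]
        | zero => simp
        | add a b _ _ ha hb => simp [ha, hb]
        | smul c a _ ha => simp [ha]
      | zero => simp
      | add a b _ _ ha hb => simp [ha y hy, hb y hy]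
      | smul c a _ ha => simp [ha y hy]

end Cfsg.Agent.S0833
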