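import Cfsg.Statements.S0835
import Cfsg.Agent.Lie.DiscPlus

set_option autoImplicit false
open Cfsg

namespace Cfsg.Agent.S0835

/-- Over a finite field with 2 ≠ 0: if B₁ on U (dim 2k, k ≥ 1) is non-degenerate symmetric of minus type (no totally isotropic k-subspace) and B₂ on W (dim 2l + 1) is non-degenerate symmetric, then B₁ ⊗ B₂ (dimension 2k(2l+1)) admits no totally isotropic subspace of dimension k(2l+1) (minus type). -/
theorem result {F U W : Type*} [Field F] [Fintype F] [AddCommGroup U] [Module F U] [FiniteDimensional F U] [AddCommGroup W] [Module F W] [FiniteDimensional F W] (h2 : (2 : F) ≠ 0) (B₁ : LinearMap.BilinForm F U) (B₂ : LinearMap.BilinForm F W) (h₁ : B₁.Nondegenerate) (h₂ : B₂.Nondegenerate) (hS₁ : B₁.IsSymm) (hS₂ : B₂.IsSymm) (k l : ℕ) (hk : 1 ≤ k) (hU : Module.finrank F U = 2 * k) (hW : Module.finrank F W = 2 * l + 1) (hm₁ : ¬ (∃ X : Submodule F (U), Module.finrank F X = k ∧ ∀ x ∈ X, ∀ y ∈ X, (B₁) x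 y = 0)) : ¬ (∃ X : Submodule F (TensorProduct F U W), Module.finrank F X = k * (2 * l + 1) ∧ ∀ x ∈ X, ∀ y ∈ X, (B₁.tmul B₂) x y = 0) := by
  classical
  let b₁ := Module.finBasisOfFinrankEq F U hU
  let b₂ := Module.finBasisOfFinrankEq F W hW
  have hd₁ := (LinearMap.BilinForm.nondegenerate_iff_det_ne_zero b₁).1 h₁
  have hd₂ := (LinearMap.BilinForm.nondegenerate_iff_det_ne_zero b₂).1 h₂
  have hdet := CfsgLib.Lie.DiscPlus.det_tmul b₁ b₂ B₁ B₂
  rw [Fintype.card_fin, Fintype.card_fin] at hdet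
  have hsym := CfsgLib.Lie.DiscPlus.tmul_symm B₁ B₂ hS₁.eq hS₂.eq
  rintro ⟨X, hX, hiso⟩
  have hfin : Module.finrank F (TensorProduct F U W) = 2 * (k * (2 * l + 1)) := by
    rw [Module.finrank_tensorProduct, hU, hW]; ring
  have hsq := CfsgLib.Lie.DiscPlus.square_of_isotropic (b₁.tensorProduct b₂) _ hsym _ hfin X hX hiso
  rw [hdet] at hsq
  refine hm₁ (CfsgLib.Lie.DiscPlus.isotropic_of_square h2 b₁ B₁ hS₁.eq h₁.1 k hk hU ?_)
  obtain ⟨s, hs⟩ := hsq
  set d := (LinearMap.BilinForm.toMatrix b₁ B₁).det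
  set d' := (LinearMap.BilinForm.toMatrix b₂ B₂).det
  have hne : d ^ l * d' ^ k ≠ 0 := mul_ne_zero (pow_ne_zero _ hd₁) (pow_ne_zero _ hd₂)
  refine ⟨s / (d ^ l * d' ^ k), ?_⟩
  have e : ((-1 : F)) ^ (k * (2 * l + 1)) = (-1) ^ k := by
    rw [show k * (2 * l + 1) = k + 2 * (k * l) by ring, pow_add, pow_mul]; simp
  rw [e] at hs
  field_simp
  linear_combination (norm := ring_nf) hs

end Cfsg.Agent.S0835
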