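import Cfsg.Statements.S0837
import Cfsg.Agent.Lie.OrthSumStab
import Cfsg.Agent.Lie.Herm
import Cfsg.Agent.Lie.OrthBasis

set_option maxHeartbeats 400000
-- import your own Cfsg.Agent.* helpers here

set_option autoImplicit false
open Cfsg

namespace Cfsg.Agent.S0837

section

open CfsgLib.Lie Matrix

variable {F : Type*} [Field F] [Fintype F] {q n : ℕ} (hF : Fintype.card F = q ^ 2)

include hF in
theorem exists_coord (S : Submodule F (Fin n → F))
    (hS : ∀ u ∈ S, (∀ v ∈ S, Cfsg.hermForm n F q u v = 0) → u = 0) {d : ℕ}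
    (hd : Module.finrank F S = d) :
    ∃ φ : (Fin d → F) ≃ₗ[F] S, ∀ x y, Cfsg.hermForm n F q (φ x : Fin n → F) (φ y : Fin n → F) =
      Cfsg.hermForm d F q x y := by
  classical
  let B : S →ₛₗ[Herm.conj hF] S →ₗ[F] F :=
    LinearMap.mk₂'ₛₗ (Herm.conj hF) (RingHom.id F) (fun u v => Herm.hb n hF u.1 v.1)
      (fun a b v => by simp) (fun c a v => by simp [LinearMap.map_smulₛₗ])
      (fun u a b => by simp) (fun c u v => by simp)
  have hB : ∀ u v, B u v = Cfsg.hermForm n F q v.1 u.1 := fun u v => rfl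
  have hsymm : ∀ a b, Herm.conj hF (B a b) = B b a := fun a b => Herm.hb_symm hF _ _
  have hsep : B.SeparatingLeft := fun a ha => Subtype.ext (hS a.1 a.2 fun v hv => by
    have h := congrArg (Herm.conj hF) (ha ⟨v, hv⟩)
    rw [hsymm, map_zero] at h
    exact h)
  have hσ : ∃ a, Herm.conj hF a ≠ a := by
    by_contra h
    push Not at h
    exact Herm.conj_ne_id hF (RingHom.ext h)
  obtain ⟨e, he⟩ := OrthBasis.exists_orthonormal B hsymm hsep (OrthBasis.hpol_herm B hσ hsymm)
    (fun c hc0 hc => by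
      obtain ⟨a, -, ha⟩ := Herm.exists_norm hF c hc0 hc
      exact ⟨a, ha⟩) d hd.ge
  have hli := OrthBasis.indep B (e := e) (fun i j h => by rw [he, if_neg h])
    (fun i => by rw [he, if_pos rfl]; exact one_ne_zero)
  let b : Module.Basis (Fin d) F S := Module.Basis.mk hli
    (hli.span_eq_top_of_card_eq_finrank' (by simp [hd])).ge
  refine ⟨b.equivFun.symm, fun x y => ?_⟩
  rw [← hB, Module.Basis.equivFun_symm_apply, Module.Basis.equivFun_symm_apply]
  have hb : ∀ i, b i = e i := fun i => by simp [b]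
  simp only [hb, map_sum, LinearMap.sum_apply, map_smul, LinearMap.map_smulₛₗ, LinearMap.smul_apply,
    smul_eq_mul, he, RingHom.id_apply, Herm.conj_apply, mul_ite, mul_one, mul_zero, Cfsg.hermForm]
  simp [mul_comm]

include hF in
theorem gu_range (A : Matrix (Fin n) (Fin n) F) :
    (∃ h, (Cfsg.glToMat (Fin n) F).comp (Cfsg.GU n F q).subtype h = A) ↔
      ∀ u v, Cfsg.hermForm n F q (A *ᵥ u) (A *ᵥ v) = Cfsg.hermForm n F q u v := by
  constructor
  · rintro ⟨h, rfl⟩
    exact Herm.mem_GU.1 h.2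
  · intro h
    have hu : IsUnit A := by
      rw [← Matrix.mulVec_injective_iff_isUnit]
      intro u v huv
      funext i
      rw [← Herm.form_single hF i u, ← Herm.form_single hF i v, ← h u, ← h v, huv]
    exact ⟨⟨hu.unit, Herm.mem_GU.2 h⟩, rfl⟩

end

/-- If W ≤ F^n (|F| = q²) is a k-dimensional subspace on which the Hermitian form Σ x_i y_i^q is non-degenerate, then the stabiliser of W in GU_n(q) is isomorphic to GU_k(q) × GU_(n−k)(q). -/
theorem result {F : Type*} [Field F] [Fintype F] {q : ℕ} (hF : Fintype.card F = q ^ 2) (n k : ℕ) (hk : k ≤ n) (W : Submodule F (Fin n → F)) (hWk : Module.finrank F W = k) (hW : ∀ u ∈ W, (∀ v ∈ W, Cfsg.hermForm n F q u v = 0) → u = 0) : Nonempty (↥((Cfsg.stabilizing (Cfsg.glToMat (Fin n) F) (W : Set (Fin n → F))).subgroupOf (Cfsg.GU n F q)) ≃* ↥(Cfsg.GU k F q) × ↥(Cfsg.GU (n - k) F q)) := by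
  classical
  have h0q : q ≠ 0 := by have := CfsgLib.Lie.Herm.two_le hF; omega
  obtain ⟨φ, hφ⟩ := exists_coord hF W hW hWk
  let e : Fin k → Fin n → F := fun i => (φ (Pi.single i 1) : Fin n → F)
  let L : (Fin n → F) →ₗ[F] (Fin k → F) :=
    LinearMap.pi fun i => CfsgLib.Lie.Herm.hb n hF (e i)
  let P := LinearMap.ker L
  have hLP : ∀ x, x ∈ P ↔ ∀ w ∈ W, Cfsg.hermForm n F q x w = 0 := by
    intro x
    rw [LinearMap.mem_ker]
    constructor
    · intro h w hw
      obtain ⟨c, hc⟩ := φ.surjective ⟨w, hw⟩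
      have hw' : w = ∑ i, c i • e i := by
        have h9 : φ c = ∑ i, c i • φ (Pi.single i 1) := by
          conv_lhs => rw [pi_eq_sum_univ' c]
          rw [map_sum]
          simp
        have h10 : w = ((∑ i, c i • φ (Pi.single i 1) : W) : Fin n → F) :=
          (congrArg Subtype.val (h9.symm.trans hc)).symm
        rw [h10, Submodule.coe_sum]
        rfl
      rw [← CfsgLib.Lie.Herm.hb_apply hF, hw', map_sum, LinearMap.sum_apply]
      refine Finset.sum_eq_zero fun i _ => ?_
      rw [LinearMap.map_smulₛₗ, LinearMap.smul_apply]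
      have h11 : CfsgLib.Lie.Herm.hb n hF (e i) x = 0 := congrFun h i
      rw [h11, smul_zero]
    · intro h
      funext i
      exact h _ (φ _).2
  have hLW : ∀ c, L (φ c : Fin n → F) = c := fun c => funext fun i => by
    show Cfsg.hermForm n F q (φ c : Fin n → F) (φ (Pi.single i 1) : Fin n → F) = c i
    rw [hφ, CfsgLib.Lie.Herm.form_single hF]
  have hcompl : IsCompl W P := by
    refine ⟨Submodule.disjoint_def.2 fun x hxW hxP => ?_, codisjoint_iff.2 (eq_top_iff.2 fun x _ => ?_)⟩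
    · exact hW x hxW ((hLP x).1 hxP)
    · refine Submodule.mem_sup.2 ⟨(φ (L x) : Fin n → F), (φ _).2, x - (φ (L x) : Fin n → F), ?_, by abel⟩
      rw [LinearMap.mem_ker, map_sub, hLW, sub_self]
  have hPk : Module.finrank F P = n - k := by
    have := Submodule.finrank_add_eq_of_isCompl hcompl
    rw [hWk, Module.finrank_fin_fun] at this
    omega
  have hPW : ∀ p ∈ P, ∀ w ∈ W, Cfsg.hermForm n F q w p = 0 := fun p hp w hw => by
    rw [← CfsgLib.Lie.Herm.form_comm hF, (hLP p).1 hp w hw, zero_pow h0q]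
  obtain ⟨ψ, hψ⟩ := exists_coord hF P (fun u hu h => by
    funext i
    rw [← CfsgLib.Lie.Herm.form_single hF i u, Pi.zero_apply]
    obtain ⟨a, ha, b, hb, hab⟩ := Submodule.mem_sup.1
      (hcompl.sup_eq_top ▸ Submodule.mem_top : (Pi.single i (1 : F) : Fin n → F) ∈ W ⊔ P)
    rw [← hab, CfsgLib.Lie.Herm.form_add_right hF, (hLP u).1 hu a ha, h b hb, add_zero]) hPk
  let Φ := (φ.prodCongr ψ).trans (Submodule.prodEquivOfIsCompl W P hcompl)
  have hΦ : ∀ x, Φ x = (φ x.1 : Fin n → F) + (ψ x.2 : Fin n → F) := fun x => rfl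
  have hz : ∀ d (v : Fin d → F), Cfsg.hermForm d F q 0 v = 0 ∧ Cfsg.hermForm d F q v 0 = 0 :=
    fun d v => ⟨by simp [Cfsg.hermForm], by simp [Cfsg.hermForm, zero_pow h0q]⟩
  obtain ⟨iso⟩ := CfsgLib.Lie.OrthSumStab.iso
    ((Cfsg.glToMat (Fin n) F).comp (Cfsg.GU n F q).subtype)
    ((Cfsg.glToMat (Fin k) F).comp (Cfsg.GU k F q).subtype)
    ((Cfsg.glToMat (Fin (n - k)) F).comp (Cfsg.GU (n - k) F q).subtype)
    (Cfsg.hermForm n F q) (Cfsg.hermForm k F q) (Cfsg.hermForm (n - k) F q)
    (Units.val_injective.comp Subtype.coe_injective) (Units.val_injective.comp Subtype.coe_injective)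
    (Units.val_injective.comp Subtype.coe_injective) (gu_range hF) (gu_range hF) (gu_range hF)
    Φ W (fun v => by
      obtain ⟨x, rfl⟩ := Φ.surjective v
      rw [LinearEquiv.symm_apply_apply, hΦ]
      constructor
      · intro h
        have h2 : (ψ x.2 : Fin n → F) ∈ W := by simpa using W.sub_mem h (φ x.1).2
        have h3 := Submodule.disjoint_def.1 hcompl.disjoint _ h2 (ψ x.2).2
        exact ψ.map_eq_zero_iff.1 (Subtype.ext h3)
      · intro h
        rw [h, map_zero]
        simp)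
    (fun x y => by
      simp only [hΦ, CfsgLib.Lie.Herm.form_add_left, CfsgLib.Lie.Herm.form_add_right hF, hφ, hψ,
        (hLP _).1 (ψ x.2).2 _ (φ y.1).2, hPW _ (ψ y.2).2 _ (φ x.1).2]
      ring)
    (fun v => (hz _ v).1) (fun v => (hz _ v).2) (fun v => (hz _ v).1) (fun v => (hz _ v).2)
    (fun a ha => by
      funext i
      have := ha (Pi.single i 1)
      rw [← CfsgLib.Lie.Herm.form_comm hF, CfsgLib.Lie.Herm.form_single hF] at this
      exact (pow_eq_zero_iff h0q).1 this)
  refine ⟨(MulEquiv.subgroupCongr ?_).trans iso⟩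
  ext g
  rfl

end Cfsg.Agent.S0837
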