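import Cfsg.Statements.S0838
import Cfsg.Agent.Lie.OrthBasis

set_option maxHeartbeats 400000
-- import your own Cfsg.Agent.* helpers here

set_option autoImplicit false
open Cfsg

namespace Cfsg.Agent.S0838

section

open CfsgLib.Lie

variable {F : Type*} [Field F] [Finite F]

theorem disc (h2 : (2 : F) ≠ 0) {m : ℕ} (C : LinearMap.BilinForm F (Fin (m + 1) → F))
    (hS : ∀ a b, C a b = C b a) (hB : C.SeparatingLeft) (α : F) (hα : ¬ IsSquare α) :
    ∃ (b : Module.Basis (Fin (m + 1)) F (Fin (m + 1) → F)) (δ : F),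
      (δ = 1 ∨ δ = α) ∧ IsSquare ((LinearMap.BilinForm.toMatrix (Pi.basisFun F (Fin (m + 1))) C).det * δ) ∧
      ∀ i j, C (b i) (b j) = if i = j then (if i = Fin.last m then δ else 1) else 0 := by
  classical
  obtain ⟨b, ho, h1, hl⟩ := OrthBasis.exists_basis_discr C h2 hS hB
    (show Module.finrank F (Fin (m + 1) → F) = m + 1 by simp) α hα
  refine ⟨b, C (b (Fin.last m)) (b (Fin.last m)), hl, ?_, fun i j => ?_⟩
  · have h := congrArg Matrix.det
      (LinearMap.BilinForm.toMatrix_mul_basis_toMatrix (Pi.basisFun F (Fin (m + 1))) b C)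
    rw [Matrix.det_mul, Matrix.det_mul, Matrix.det_transpose] at h
    have hd : (LinearMap.BilinForm.toMatrix b C) =
        Matrix.diagonal (fun i => C (b i) (b i)) := by
      ext i j
      rw [LinearMap.BilinForm.toMatrix_apply]
      by_cases hij : i = j
      · subst hij; rw [Matrix.diagonal_apply_eq]
      · rw [Matrix.diagonal_apply_ne _ hij, ho i j hij]
    have hp : (LinearMap.BilinForm.toMatrix b C).det = C (b (Fin.last m)) (b (Fin.last m)) := by
      rw [hd, Matrix.det_diagonal, Finset.prod_eq_single (Fin.last m)]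
      · intro i _ hi; exact h1 i hi
      · simp
    rw [hp] at h
    exact ⟨((Pi.basisFun F (Fin (m + 1))).toMatrix b).det *
      (LinearMap.BilinForm.toMatrix (Pi.basisFun F (Fin (m + 1))) C).det,
      by rw [← h]; ring⟩
  · by_cases hij : i = j
    · subst hij
      rw [if_pos rfl]
      split_ifs with hi
      · rw [hi]
      · exact h1 i hi
    · rw [if_neg hij, ho i j hij]

end

/-- Over a finite field with 2 ≠ 0 and n odd: two quadratic forms Q₁, Q₂ on F^n with non-degenerate polar forms are similar — there are an invertible linear map g and a scalar c ≠ 0 with Q₂ (g v) = c · Q₁ v for all v. -/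
theorem result {F : Type*} [Field F] [Fintype F] (h2 : (2 : F) ≠ 0) {n : ℕ} (hn : Odd n) (Q₁ Q₂ : QuadraticForm F (Fin n → F)) (h₁ : (QuadraticMap.polarBilin Q₁).Nondegenerate) (h₂ : (QuadraticMap.polarBilin Q₂).Nondegenerate) : ∃ (g : (Fin n → F) ≃ₗ[F] (Fin n → F)) (c : F), c ≠ 0 ∧ ∀ v, Q₂ (g v) = c * Q₁ v := by
  classical
  obtain ⟨m, rfl⟩ : ∃ m, n = m + 1 := ⟨n - 1, by obtain ⟨k, hk⟩ := hn; omega⟩
  obtain ⟨α, hα⟩ : ∃ α : F, ¬ IsSquare α := FiniteField.exists_nonsquare fun h => h2 (by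
    have := ringChar.spec F 2
    rw [h] at this
    exact_mod_cast this.2 dvd_rfl)
  have hα0 : α ≠ 0 := fun h => hα (h ▸ IsSquare.zero)
  have hsym : ∀ (Q : QuadraticForm F (Fin (m + 1) → F)) a b,
      QuadraticMap.polarBilin Q a b = QuadraticMap.polarBilin Q b a := fun Q a b => by
    rw [QuadraticMap.polarBilin_apply_apply, QuadraticMap.polarBilin_apply_apply]
    exact QuadraticMap.polar_comm _ _ _
  have hmul : ∀ u v : F, u ≠ 0 → v ≠ 0 → ¬ IsSquare u → ¬ IsSquare v → IsSquare (u * v) := by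
    intro u v hu hv hu' hv'
    apply (quadraticChar_one_iff_isSquare (mul_ne_zero hu hv)).1
    rw [map_mul, quadraticChar_neg_one_iff_not_isSquare.2 hu',
      quadraticChar_neg_one_iff_not_isSquare.2 hv']
    norm_num
  have hdet := fun (B : LinearMap.BilinForm F (Fin (m + 1) → F)) (hB : B.Nondegenerate) =>
    (LinearMap.BilinForm.nondegenerate_iff_det_ne_zero (Pi.basisFun F (Fin (m + 1)))).1 hB
  set D₁ := (LinearMap.BilinForm.toMatrix (Pi.basisFun F (Fin (m + 1))) (QuadraticMap.polarBilin Q₁)).det with hD₁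
  set D₂ := (LinearMap.BilinForm.toMatrix (Pi.basisFun F (Fin (m + 1))) (QuadraticMap.polarBilin Q₂)).det with hD₂
  have hD10 : D₁ ≠ 0 := hdet _ h₁
  have hD20 : D₂ ≠ 0 := hdet _ h₂
  obtain ⟨c, hc0, hc⟩ : ∃ c : F, c ≠ 0 ∧ IsSquare (c * D₁ * D₂) := by
    by_cases hsq : IsSquare (D₁ * D₂)
    · exact ⟨1, one_ne_zero, by rwa [one_mul]⟩
    · exact ⟨α, hα0, by rw [mul_assoc]; exact hmul α _ hα0 (mul_ne_zero hD10 hD20) hα hsq⟩
  let C₁ : LinearMap.BilinForm F (Fin (m + 1) → F) := c • QuadraticMap.polarBilin Q₁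
  obtain ⟨b₁, δ₁, hδ₁, hs₁, hb₁⟩ := disc h2 C₁ (fun a b => by simp [C₁, hsym Q₁ a b])
    (fun x hx => h₁.1 x fun y => by
      have := hx y
      simpa [C₁, hc0] using this) α hα
  obtain ⟨b₂, δ₂, hδ₂, hs₂, hb₂⟩ := disc h2 (QuadraticMap.polarBilin Q₂) (hsym Q₂) h₂.1 α hα
  have hδ : δ₁ = δ₂ := by
    obtain ⟨k, hk⟩ := hn
    have e1 : (LinearMap.BilinForm.toMatrix (Pi.basisFun F (Fin (m + 1))) C₁).det =
        c ^ (m + 1) * D₁ := by
      simp only [C₁, map_smul, Matrix.det_smul, Fintype.card_fin, hD₁]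
    rw [e1, hk] at hs₁
    obtain ⟨x, hx⟩ := hs₁
    obtain ⟨y, hy⟩ := hs₂
    obtain ⟨z, hz⟩ := hc
    have hsq : IsSquare (δ₁ * δ₂) := by
      refine ⟨x * y * z / (c ^ k * c * D₁ * D₂), ?_⟩
      rw [← hD₂] at hy
      field_simp
      rw [pow_add, pow_mul', pow_one] at hx
      linear_combination (c * D₁ * D₂) * (D₂ * δ₂) * hx + (x * x) * (c * D₁ * D₂) * hy + (x * x) * (y * y) * hz
    rcases hδ₁ with e | e <;> rcases hδ₂ with e' | e' <;> subst e <;> subst e'
    · rfl
    · exact absurd (by simpa using hsq) hα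
    · exact absurd (by simpa using hsq) hα
    · rfl
  let g := b₁.equiv b₂ (Equiv.refl _)
  have key : (QuadraticMap.polarBilin Q₂).compl₁₂ g.toLinearMap g.toLinearMap = C₁ := by
    refine LinearMap.ext_basis b₁ b₁ fun i j => ?_
    simp only [LinearMap.compl₁₂_apply, g, LinearEquiv.coe_coe, Module.Basis.equiv_apply,
      Equiv.refl_apply, hb₁, hb₂, hδ]
  refine ⟨g, c, hc0, fun v => ?_⟩
  have h := LinearMap.congr_fun (LinearMap.congr_fun key v) v
  simp only [LinearMap.compl₁₂_apply, LinearEquiv.coe_coe, C₁, LinearMap.smul_apply,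
    QuadraticMap.polarBilin_apply_apply, QuadraticMap.polar_self, smul_eq_mul, nsmul_eq_mul] at h
  refine mul_left_cancel₀ h2 ?_
  linear_combination h

end Cfsg.Agent.S0838
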