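import Cfsg.Statements.S0839
import Cfsg.Agent.Lie.Orders

set_option autoImplicit false
open Cfsg
open scoped Matrix

namespace Cfsg.Agent.S0839

/-- Every transvection t ∈ SL_(n+2)(F) (rank(t − 1) = 1, (t − 1)² = 0) is conjugate in SL_(n+2)(F) to 1 + v·e_0ᵀ for some column vector v with v_0 = 0 (the group A of matrices that are the identity except in the first column below the diagonal); the dimension is written n + 2 ≥ 2. -/
theorem result {F : Type*} [Field F] (n : ℕ) (t : Matrix.SpecialLinearGroup (Fin (n + 2)) F) (ht : Cfsg.IsTransvection (t : Matrix (Fin (n + 2)) (Fin (n + 2)) F)) : ∃ (g : Matrix.SpecialLinearGroup (Fin (n + 2)) F) (v : Fin (n + 2) → F), v 0 = 0 ∧ ((g⁻¹ * t * g : Matrix.SpecialLinearGroup (Fin (n + 2)) F) : Matrix (Fin (n + 2)) (Fin (n + 2)) F) = 1 + Matrix.vecMulVec v (Pi.single 0 1) := by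
  classical
  obtain ⟨hr, hsq⟩ := ht
  set A : Matrix (Fin (n + 2)) (Fin (n + 2)) F :=
    (t : Matrix (Fin (n + 2)) (Fin (n + 2)) F) - 1 with hA
  obtain ⟨u, -, hu⟩ := finrank_eq_one_iff'.1 hr
  choose w hw using fun j => hu ⟨A *ᵥ Pi.single j 1, ⟨_, rfl⟩⟩
  have hAe : A = Matrix.vecMulVec (u : Fin (n + 2) → F) w := by
    ext i j
    have h := congrFun (congrArg Subtype.val (hw j)) i
    simp [Matrix.vecMulVec_apply] at h ⊢
    rw [← h, mul_comm]
  have hA0 : A ≠ 0 := fun h => by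
    rw [h, Matrix.rank_zero] at hr
    exact zero_ne_one hr
  have hw0 : w ≠ 0 := fun h => hA0 (by rw [hAe, h, Matrix.vecMulVec_zero])
  have hu0 : (u : Fin (n + 2) → F) ≠ 0 := fun h => hA0 (by rw [hAe, h, Matrix.zero_vecMulVec])
  have horth : w ⬝ᵥ (u : Fin (n + 2) → F) = 0 := by
    rw [hAe, Matrix.vecMulVec_mul_vecMulVec] at hsq
    obtain ⟨i, hi⟩ := Function.ne_iff.1 hu0
    obtain ⟨j, hj⟩ := Function.ne_iff.1 hw0
    have := congrFun (congrFun hsq i) j
    simp [Matrix.vecMulVec_apply] at this hi hj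
    tauto
  have he : (Pi.single 0 1 : Fin (n + 2) → F) ≠ 0 := by simp
  have := MulAction.isPretransitive_of_is_two_pretransitive
    (G := Matrix.SpecialLinearGroup (Fin (n + 2)) F)
    (α := Projectivization F (Fin (n + 2) → F))
  obtain ⟨h, hh⟩ := MulAction.exists_smul_eq (Matrix.SpecialLinearGroup (Fin (n + 2)) F)
    (Projectivization.mk F w hw0) (Projectivization.mk F _ he)
  rw [Projectivization.smul_mk, Projectivization.mk_eq_mk_iff'] at hh
  obtain ⟨c, hc⟩ := hh
  change c • _ = (h : Matrix (Fin (n + 2)) (Fin (n + 2)) F) *ᵥ w at hc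
  refine ⟨h.transpose, c • ((h.transpose⁻¹ : Matrix.SpecialLinearGroup (Fin (n + 2)) F) :
    Matrix (Fin (n + 2)) (Fin (n + 2)) F) *ᵥ (u : Fin (n + 2) → F), ?_, ?_⟩
  · set G := ((h.transpose⁻¹ : Matrix.SpecialLinearGroup (Fin (n + 2)) F) :
      Matrix (Fin (n + 2)) (Fin (n + 2)) F) with hG
    have hinv : (h : Matrix (Fin (n + 2)) (Fin (n + 2)) F)ᵀ * G = 1 :=
      congrArg Subtype.val (mul_inv_cancel h.transpose)
    have h1 : (Pi.single 0 1 : Fin (n + 2) → F) ⬝ᵥ (c • G *ᵥ (u : Fin (n + 2) → F)) = 0 := by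
      rw [dotProduct_smul, ← smul_dotProduct, hc, Matrix.dotProduct_mulVec,
        ← Matrix.vecMul_transpose, Matrix.vecMul_vecMul, hinv, Matrix.vecMul_one, horth]
    rwa [single_dotProduct, one_mul] at h1
  · have ht' : (t : Matrix (Fin (n + 2)) (Fin (n + 2)) F) = 1 + Matrix.vecMulVec (u : Fin (n + 2) → F) w := by
      rw [← hAe, hA, add_sub_cancel]
    rw [Matrix.SpecialLinearGroup.coe_mul, Matrix.SpecialLinearGroup.coe_mul, ht', Matrix.mul_add,
      Matrix.add_mul, Matrix.mul_one]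
    congr 1
    · exact congrArg Subtype.val (inv_mul_cancel h.transpose)
    · rw [Matrix.mul_vecMulVec, Matrix.vecMulVec_mul,
        show ((h.transpose : Matrix.SpecialLinearGroup (Fin (n + 2)) F) :
          Matrix (Fin (n + 2)) (Fin (n + 2)) F) = (h : Matrix (Fin (n + 2)) (Fin (n + 2)) F)ᵀ from rfl,
        Matrix.vecMul_transpose, ← hc, Matrix.vecMulVec_smul, Matrix.smul_vecMulVec]

end Cfsg.Agent.S0839
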