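import Cfsg.Statements.S0840
import Cfsg.Agent.Char.Classes
import Cfsg.Agent.Char.Central

set_option autoImplicit false
open scoped ComplexConjugate
open Cfsg

namespace Cfsg.Agent.S0840
open scoped CfsgLib.Char


/-- Class multiplication coefficients from the character table: for elements a, b, c of a finite group G, the number of ordered pairs (x, y) with x conjugate to a, y conjugate to b and x * y = c equals the product of the sizes of the conjugacy classes of a and b, divided by the order of G, times the sum over the irreducible characters χ of χ a * χ b * conj (χ c) / χ 1. -/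
theorem result {G : Type*} [Group G] [Finite G] (a b c : G) : (Nat.card {p : G × G // IsConj a p.1 ∧ IsConj b p.2 ∧ p.1 * p.2 = c} : ℂ) = (Nat.card {x : G // IsConj a x} : ℂ) * (Nat.card {x : G // IsConj b x} : ℂ) / (Nat.card G : ℂ) * ∑ᶠ χ : Cfsg.IrrCharacter G, (χ : G → ℂ) a * (χ : G → ℂ) b * conj ((χ : G → ℂ) c) / (χ : G → ℂ) 1 := by
  classical
  haveI := Fintype.ofFinite G
  rw [finsum_eq_sum_of_fintype]
  set A := Finset.univ.filter (fun x => IsConj a x) with hA
  set B := Finset.univ.filter (fun x => IsConj b x) with hB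
  have hcA : (Nat.card {x : G // IsConj a x} : ℂ) = (A.card : ℂ) := by
    rw [Nat.card_eq_fintype_card, Fintype.card_subtype]
  have hcB : (Nat.card {x : G // IsConj b x} : ℂ) = (B.card : ℂ) := by
    rw [Nat.card_eq_fintype_card, Fintype.card_subtype]
  have key : ∀ χ : Cfsg.IrrCharacter G, (A.card : ℂ) * (B.card : ℂ) *
      ((χ : G → ℂ) a * (χ : G → ℂ) b * (starRingEnd ℂ) ((χ : G → ℂ) c) / (χ : G → ℂ) 1) =
      ∑ x ∈ A, ∑ y ∈ B, (χ : G → ℂ) (x * y) * (starRingEnd ℂ) ((χ : G → ℂ) c) := by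
    intro χ
    have h := CfsgLib.Char.centralChar_mul χ.2 a b
    rw [CfsgLib.Char.centralChar_eq (CfsgLib.Char.classFun_of_irr χ.2),
      CfsgLib.Char.centralChar_eq (CfsgLib.Char.classFun_of_irr χ.2)] at h
    have h1 := CfsgLib.Char.irr_one_ne_zero χ.2
    simp only [← Finset.sum_mul]
    rw [← hA, ← hB] at h
    field_simp at h ⊢
    rw [Finset.sum_congr rfl (g := fun _ => (χ : G → ℂ) a) fun x hx =>
        (CfsgLib.Char.classFun_isConj (CfsgLib.Char.classFun_of_irr χ.2) (Finset.mem_filter.1 hx).2).symm,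
      Finset.sum_const, nsmul_eq_mul,
      Finset.sum_congr rfl (g := fun _ => (χ : G → ℂ) b) fun x hx =>
        (CfsgLib.Char.classFun_isConj (CfsgLib.Char.classFun_of_irr χ.2) (Finset.mem_filter.1 hx).2).symm,
      Finset.sum_const, nsmul_eq_mul] at h
    linear_combination (starRingEnd ℂ) ((χ : G → ℂ) c) * h
  rw [hcA, hcB, div_mul_eq_mul_div, eq_div_iff (CfsgLib.Char.natCard_ne_zero G), Finset.mul_sum,
    Finset.sum_congr rfl fun χ _ => key χ, Finset.sum_comm,
    Finset.sum_congr rfl fun x _ => Finset.sum_comm]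
  simp only [CfsgLib.Char.second_orth]
  rw [Nat.card_eq_fintype_card, Fintype.card_subtype]
  have hcard : ∀ z, IsConj z c → (Nat.card (Subgroup.centralizer ({z} : Set G)) : ℂ) =
      Nat.card (Subgroup.centralizer ({c} : Set G)) := fun z hz => by
    rw [Nat.cast_inj]
    have e1 := CfsgLib.Char.index_mul_card_centralizer z
    have e2 := CfsgLib.Char.index_mul_card_centralizer c
    rw [← CfsgLib.Char.card_isConj] at e1 e2
    rw [Nat.card_congr (Equiv.subtypeEquivRight fun x => ⟨fun h => hz.symm.trans h, fun h => hz.trans h⟩)] at e1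
    exact Nat.eq_of_mul_eq_mul_left (Nat.card_pos_iff.2 ⟨⟨⟨c, IsConj.refl c⟩⟩, inferInstance⟩) (e1.trans e2.symm)
  rw [← Finset.sum_product', Finset.sum_ite, Finset.sum_const_zero, add_zero,
    Finset.sum_congr rfl fun q hq => hcard _ (Finset.mem_filter.1 hq).2, Finset.sum_const,
    nsmul_eq_mul]
  set S := (A ×ˢ B).filter (fun q => IsConj (q.1 * q.2) c)
  have hfib : S.card = (Subgroup.centralizer ({c} : Set G)).index *
      (Finset.univ.filter fun q : G × G => IsConj a q.1 ∧ IsConj b q.2 ∧ q.1 * q.2 = c).card := by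
    rw [← CfsgLib.Char.card_filter_isConj, Finset.card_eq_sum_card_fiberwise
      (f := fun q : G × G => q.1 * q.2) (t := Finset.univ.filter fun z => IsConj c z)
      (fun q hq => Finset.mem_filter.2 ⟨Finset.mem_univ _, (Finset.mem_filter.1 hq).2.symm⟩),
      ← smul_eq_mul, ← Finset.sum_const]
    refine Finset.sum_congr rfl fun z hz => ?_
    obtain ⟨g, hg⟩ := isConj_iff.1 (Finset.mem_filter.1 hz).2
    refine Finset.card_bij' (fun q _ => (g⁻¹ * q.1 * g, g⁻¹ * q.2 * g))
      (fun q _ => (g * q.1 * g⁻¹, g * q.2 * g⁻¹)) ?_ ?_ ?_ ?_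
    · rintro ⟨x, y⟩ hq
      simp only [S, A, B, Finset.mem_filter, Finset.mem_product, Finset.mem_univ, true_and] at hq ⊢
      refine ⟨hq.1.1.1.trans (isConj_iff.2 ⟨g⁻¹, by simp⟩), hq.1.1.2.trans (isConj_iff.2 ⟨g⁻¹, by simp⟩), ?_⟩
      calc g⁻¹ * x * g * (g⁻¹ * y * g) = g⁻¹ * (x * y) * g := by group
        _ = c := by rw [hq.2, ← hg]; group
    · rintro ⟨x, y⟩ hq
      simp only [S, A, B, Finset.mem_filter, Finset.mem_product, Finset.mem_univ, true_and] at hq ⊢
      have hxy : g * x * g⁻¹ * (g * y * g⁻¹) = z := by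
        rw [← hg, ← hq.2.2]; group
      refine ⟨⟨⟨hq.1.trans (isConj_iff.2 ⟨g, rfl⟩), hq.2.1.trans (isConj_iff.2 ⟨g, rfl⟩)⟩, ?_⟩, hxy⟩
      rw [hxy]
      exact (isConj_iff.2 ⟨g, hg⟩).symm
    · intro q _; ext <;> simp <;> group
    · intro q _; ext <;> simp <;> group
  rw [hfib, ← CfsgLib.Char.index_mul_card_centralizer c]
  push_cast
  ring

end Cfsg.Agent.S0840
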