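import Cfsg.Statements.S0841
import Cfsg.Agent.Solv.ClassTwo

set_option autoImplicit false
open Cfsg

namespace Cfsg.Agent.S0841
open scoped commutatorElement


/-- If the commutator subgroup of G lies in the centre, then for all x, y in G and every natural number n one has (x * y) ^ n = x ^ n * y ^ n * c ^ (n * (n - 1) / 2) with c = y⁻¹ * x⁻¹ * y * x. -/
theorem result {G : Type*} [Group G] (hG : commutator G ≤ Subgroup.center G) (x y : G) (n : ℕ) : (x * y) ^ n = x ^ n * y ^ n * (y⁻¹ * x⁻¹ * y * x) ^ (n * (n - 1) / 2) := by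
  have hc : ∀ a b z : G, Commute ⁅a, b⁆ z := fun a b z =>
    (Subgroup.mem_center_iff.1 (hG (Subgroup.commutator_mem_commutator (Subgroup.mem_top a)
      (Subgroup.mem_top b))) z).symm
  rw [CfsgLib.Solv.pow_mul_of_commutator (hc y x x) (hc y x y), Nat.choose_two_right,
    ((hc y x (x ^ n * y ^ n)).pow_left _).eq]
  congr 2
  have h := hc y x (x * y)
  calc ⁅y, x⁆ = (x * y)⁻¹ * ⁅y, x⁆ * (x * y) := by rw [mul_assoc, h.eq, inv_mul_cancel_left]
    _ = y⁻¹ * x⁻¹ * y * x := by rw [commutatorElement_def]; group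

end Cfsg.Agent.S0841
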