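import Cfsg.Statements.S0846
import Mathlib
import Cfsg.Agent.Base.BrauerSuzukiChar

set_option autoImplicit false
open Cfsg

namespace Cfsg.Agent.S0846

/-- Suppose a Sylow 2-subgroup S of the finite group G is generalized quaternion of order at least 16. Then every Sylow 2-subgroup of the subgroup generated by the involutions of G is cyclic. -/
theorem result {G : Type*} [Group G] [Finite G] (S : Sylow 2 G) (n : ℕ) (e : (S : Subgroup G) ≃* QuaternionGroup (2 ^ (n + 2))) (Q : Sylow 2 ↥(Subgroup.closure {g : G | orderOf g = 2})) : IsCyclic Q := by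
  have := Fintype.ofFinite G
  obtain ⟨A, B, P⟩ := CfsgLib.Base.BS.exists_data S n e
  obtain ⟨M, hM, hu, hA, -⟩ := P.exists_kernel_subgroup
  have hc : IsCyclic ((Q : Subgroup ↥(Subgroup.closure {g : G | orderOf g = 2})).map (Subgroup.closure {g : G | orderOf g = 2}).subtype : Subgroup G) :=
    P.isCyclic_two_subgroup_kernel hM hA (Q.2.map (Subgroup.closure {g : G | orderOf g = 2}).subtype)
      ((Subgroup.map_subtype_le _).trans (P.closure_le hM hu))
  exact isCyclic_of_surjective _
    ((Q : Subgroup ↥(Subgroup.closure {g : G | orderOf g = 2})).equivMapOfInjective (Subgroup.closure {g : G | orderOf g = 2}).subtype Subtype.val_injective).symm.surjective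

end Cfsg.Agent.S0846
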