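import Cfsg.Statements.S0849
import Cfsg.Agent.Char.Induce

set_option autoImplicit false
open Cfsg

namespace Cfsg.Agent.S0849
open scoped CfsgLib.Char


/-- Let H be a subgroup of a finite group G and S a subset of H that is mapped to itself under conjugation by H, is disjoint from its conjugate by any element outside H, and is closed under inverses. Let φ be a class function of H vanishing on H away from S, and let u, v be involutions of G. Then the sum of the induced function of φ over all products a * b with a conjugate to u and b conjugate to v equals the index of H times the sum of φ (a * b) over such pairs with a and b in H. -/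
theorem result {G : Type*} [Group G] [Fintype G] (H : Subgroup G) (S : Set G) (hSH : S ⊆ H) (hHS : ∀ h ∈ H, ∀ s ∈ S, h * s * h⁻¹ ∈ S) (hTI : ∀ g : G, g ∉ H → ∀ s ∈ S, g * s * g⁻¹ ∉ S) (hinv : ∀ s ∈ S, s⁻¹ ∈ S) (φ : H → ℂ) (hφ : Cfsg.IsClassFunction H φ) (hφS : ∀ x : H, (x : G) ∉ S → φ x = 0) (u v : G) (hu : orderOf u = 2) (hv : orderOf v = 2) : ∑ᶠ p ∈ {p : G × G | IsConj u p.1 ∧ IsConj v p.2}, Cfsg.indFun H φ (p.1 * p.2) = (H.index : ℂ) * ∑ᶠ p ∈ {p : H × H | IsConj u (p.1 : G) ∧ IsConj v (p.2 : G)}, φ (p.1 * p.2) := by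
  classical
  open CfsgLib.Char in
  · haveI := Fintype.ofFinite H
    set Q : Finset (G × G) := Finset.univ.filter fun p => IsConj u p.1 ∧ IsConj v p.2 with hQ
    set Q' : Finset (H × H) := Finset.univ.filter fun p => IsConj u (p.1 : G) ∧ IsConj v (p.2 : G) with hQ'
    have e1 : {p : G × G | IsConj u p.1 ∧ IsConj v p.2} = (Q : Set (G × G)) := by ext p; simp [hQ]
    have e2 : {p : H × H | IsConj u (p.1 : G) ∧ IsConj v (p.2 : G)} = (Q' : Set (H × H)) := by ext p; simp [hQ']
    rw [e1, e2]
    simp only [finsum_mem_coe_finset]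
    have hconj : ∀ x : G, ∑ p ∈ Q, extendByZero H φ (x⁻¹ * (p.1 * p.2) * x) = ∑ p ∈ Q, extendByZero H φ (p.1 * p.2) := by
      intro x
      refine Finset.sum_bij' (fun p _ => (x⁻¹ * p.1 * x, x⁻¹ * p.2 * x))
        (fun p _ => (x * p.1 * x⁻¹, x * p.2 * x⁻¹)) ?_ ?_ ?_ ?_ ?_
      · intro p hp
        simp only [hQ, Finset.mem_filter, Finset.mem_univ, true_and] at hp ⊢
        exact ⟨hp.1.trans (isConj_iff.2 ⟨x⁻¹, by group⟩), hp.2.trans (isConj_iff.2 ⟨x⁻¹, by group⟩)⟩
      · intro p hp
        simp only [hQ, Finset.mem_filter, Finset.mem_univ, true_and] at hp ⊢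
        exact ⟨hp.1.trans (isConj_iff.2 ⟨x, rfl⟩), hp.2.trans (isConj_iff.2 ⟨x, rfl⟩)⟩
      · intro p _; simp [mul_assoc]
      · intro p _; simp [mul_assoc]
      · intro p _; congr 1; group
    have hQ2 : ∀ w z : G, orderOf w = 2 → IsConj w z → z * z = 1 := by
      intro w z hw hwz
      obtain ⟨c, rfl⟩ := isConj_iff.1 hwz
      have : w * w = 1 := by rw [← sq, ← hw]; exact pow_orderOf_eq_one w
      calc c * w * c⁻¹ * (c * w * c⁻¹) = c * (w * w) * c⁻¹ := by group
        _ = 1 := by rw [this]; group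
    have hsub : ∑ p ∈ Q, extendByZero H φ (p.1 * p.2) = ∑ p ∈ Q', φ (p.1 * p.2) := by
      let ι : H × H ↪ G × G := ⟨fun p => ((p.1 : G), (p.2 : G)), fun p q e => by
        simp only [Prod.mk.injEq, SetLike.coe_eq_coe] at e
        exact Prod.ext e.1 e.2⟩
      rw [← Finset.sum_subset (s₁ := Q'.map ι)]
      · rw [Finset.sum_map]
        refine Finset.sum_congr rfl fun p _ => ?_
        show extendByZero H φ ((p.1 : G) * (p.2 : G)) = _
        rw [← Subgroup.coe_mul, extendByZero_mem]
      · intro p hp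
        obtain ⟨q, hq, rfl⟩ := Finset.mem_map.1 hp
        exact Finset.mem_filter.2 ⟨Finset.mem_univ _, (Finset.mem_filter.1 hq).2⟩
      · rintro ⟨a, b⟩ hp hnot
        obtain ⟨ha, hb⟩ := (Finset.mem_filter.1 hp).2
        by_contra hne
        by_cases habH : a * b ∈ H
        · rw [extendByZero_mem' _ _ habH] at hne
          have habS : a * b ∈ S := by_contra fun h => hne (hφS ⟨a * b, habH⟩ h)
          have ha2 : a * a = 1 := hQ2 u a hu ha
          have hb2 : b * b = 1 := hQ2 v b hv hb
          have haH : a ∈ H := by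
            by_contra h
            refine hTI a h _ habS ?_
            have : a * (a * b) * a⁻¹ = (a * b)⁻¹ := by
              rw [mul_inv_rev, inv_eq_of_mul_eq_one_right ha2, inv_eq_of_mul_eq_one_right hb2, ← mul_assoc, ha2, one_mul]
            rw [this]; exact hinv _ habS
          have hbH : b ∈ H := by
            have := H.mul_mem (H.inv_mem haH) habH
            rwa [inv_mul_cancel_left] at this
          exact hnot (Finset.mem_map.2 ⟨(⟨a, haH⟩, ⟨b, hbH⟩), Finset.mem_filter.2 ⟨Finset.mem_univ _, ha, hb⟩, rfl⟩)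
        · exact hne (extendByZero_not_mem _ _ habH)
    simp only [indFun_apply, ← Finset.mul_sum]
    rw [Finset.sum_comm, Finset.sum_congr rfl fun x _ => hconj x, Finset.sum_const, Finset.card_univ,
      nsmul_eq_mul, Fintype.card_eq_nat_card, hsub, ← mul_assoc, ← H.index_mul_card, Nat.cast_mul]
    field_simp [natCard_ne_zero H]

end Cfsg.Agent.S0849
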