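import Cfsg.Statements.S0850
import Cfsg.Agent.Blk.ZStarBasic

set_option autoImplicit false
open Cfsg

namespace Cfsg.Agent.S0850

/-- Let K be a subgroup of the finite group G that meets each conjugate by an element outside its normalizer N trivially, is properly contained in N, and contains the centralizer of each of its non-identity elements (a T.I. subgroup with Frobenius normalizer). Then no element of N outside K is conjugate in G to an element of K, and for every class function ϑ of N that vanishes on N away from K and at the identity, the function induced from ϑ to G agrees with ϑ on all of N. -/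
theorem result {G : Type*} [Group G] [Fintype G] (K : Subgroup G) (hTI : ∀ g : G, g ∉ Subgroup.normalizer (K : Set G) → ∀ k ∈ K, g * k * g⁻¹ ∈ K → k = 1) (hlt : K < Subgroup.normalizer (K : Set G)) (hC : ∀ k ∈ K, k ≠ 1 → Subgroup.centralizer ({k} : Set G) ≤ K) : (∀ x ∈ Subgroup.normalizer (K : Set G), x ∉ K → ∀ g : G, g * x * g⁻¹ ∉ K) ∧ ∀ (ϑ : Subgroup.normalizer (K : Set G) → ℂ), Cfsg.IsClassFunction (Subgroup.normalizer (K : Set G)) ϑ → (∀ x : Subgroup.normalizer (K : Set G), (x : G) ∉ K → ϑ x = 0) → ϑ 1 = 0 → ∀ x : Subgroup.normalizer (K : Set G), Cfsg.indFun (Subgroup.normalizer (K : Set G)) ϑ x = ϑ x := by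
  have hA : ∀ x ∈ Subgroup.normalizer (K : Set G), x ∉ K → ∀ g : G, g * x * g⁻¹ ∉ K := by
    intro x hxN hxK g hgK
    obtain ⟨n, hn⟩ : ∃ n, orderOf x = n := ⟨_, rfl⟩
    have hdvd : orderOf x ∣ Nat.card K := by
      rw [← orderOf_injective (MulAut.conj g).toMonoidHom (MulAut.conj g).injective x]
      exact Subgroup.orderOf_dvd_natCard K hgK
    have hx1 : x ≠ 1 := fun h => hxK (h ▸ one_mem _)
    obtain ⟨r, hr, hrd⟩ := Nat.exists_prime_and_dvd (n := orderOf x) (by simpa using hx1)
    haveI := Fact.mk hr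
    set y := x ^ (orderOf x / r) with hy
    have hyo : orderOf y = r := orderOf_pow_orderOf_div (orderOf_pos x).ne' hrd
    have hy1 : y ≠ 1 := fun h => hr.ne_one (by rw [← hyo, h, orderOf_one])
    have hyK : y ∉ K := fun h => hxK (hC y h hy1
      (Subgroup.mem_centralizer_singleton_iff.2 (Commute.pow_self x _).eq.symm))
    have hZ : IsPGroup r (Subgroup.zpowers y) :=
      IsPGroup.of_card (n := 1) (by rw [Nat.card_zpowers, hyo, pow_one])
    have hle : Subgroup.zpowers y ≤ Subgroup.normalizer (K : Set G) :=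
      Subgroup.zpowers_le.2 (pow_mem hxN _)
    letI : MulAction (Subgroup.zpowers y) K :=
      { smul := fun a k => ⟨(a : G) * k * (a : G)⁻¹,
          (Subgroup.mem_normalizer_iff.1 (hle a.2) _).1 k.2⟩
        one_smul := fun k => Subtype.ext (by
          show ((1 : Subgroup.zpowers y) : G) * k * ((1 : Subgroup.zpowers y) : G)⁻¹ = k
          simp)
        mul_smul := fun a b k => Subtype.ext (by
          show ((a * b : Subgroup.zpowers y) : G) * k * ((a * b : Subgroup.zpowers y) : G)⁻¹ =
            (a : G) * ((b : G) * k * (b : G)⁻¹) * (a : G)⁻¹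
          simp [mul_assoc]) }
    obtain ⟨k, hk, hk1⟩ := hZ.exists_fixed_point_of_prime_dvd_card_of_fixed_point K
      (hrd.trans hdvd) (a := (1 : K)) (fun a => Subtype.ext (by
        show (a : G) * ((1 : K) : G) * (a : G)⁻¹ = 1
        simp))
    refine hyK (hC k k.2 (fun h => hk1 (Subtype.ext h.symm))
      (Subgroup.mem_centralizer_singleton_iff.2 ?_))
    exact mul_inv_eq_iff_eq_mul.1
      (congrArg Subtype.val (hk ⟨y, Subgroup.mem_zpowers y⟩) : y * (k : G) * y⁻¹ = k)
  refine ⟨hA, fun ϑ hϑ h0 h1 x => ?_⟩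
  by_cases hxK : (x : G) ∈ K
  · by_cases hx1 : x = 1
    · rw [hx1, Subgroup.coe_one, CfsgLib.Char.indFun_one, h1, mul_zero]
    · refine CfsgLib.Blk.indFun_eq_of_ti _ hϑ fun g hm h => ?_
      by_contra hg
      have hT : g⁻¹ * (x : G) * g ∈ K := by_contra fun e => h (h0 _ e)
      exact hx1 (Subtype.ext (hTI g⁻¹ (fun e => hg (by simpa using inv_mem e)) _ hxK
        (by rwa [inv_inv])))
  · rw [h0 x hxK]
    refine CfsgLib.Blk.indFun_eq_zero _ fun k hk => ?_
    refine h0 k fun hkK => ?_
    obtain ⟨g, hg⟩ := isConj_iff.1 hk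
    exact hA _ x.2 hxK g (hg ▸ hkK)

end Cfsg.Agent.S0850
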