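import Cfsg.Statements.S0851
import Cfsg.Agent.Char.FrobTI
import Cfsg.Agent.Char.Exceptional
import Cfsg.Agent.Char.Monomial

set_option autoImplicit false
open Cfsg
open scoped CfsgLib.Char

namespace Cfsg.Agent.S0851

universe u

theorem ind_inner {G : Type u} [Group G] [Fintype G] {K : Subgroup G}
    [Fintype ↥(Subgroup.normalizer (K : Set G))]
    (hTI : ∀ g : G, g ∉ Subgroup.normalizer (K : Set G) → ∀ k ∈ K, g * k * g⁻¹ ∈ K → k = 1)
    {α β : ↥(Subgroup.normalizer (K : Set G)) → ℂ} (hα : IsClassFunction _ α)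
    (hsα : ∀ x : ↥(Subgroup.normalizer (K : Set G)), ¬ ((x : G) ∈ K ∧ x ≠ 1) → α x = 0)
    (hsβ : ∀ x : ↥(Subgroup.normalizer (K : Set G)), ¬ ((x : G) ∈ K ∧ x ≠ 1) → β x = 0) :
    classInner (indFun (Subgroup.normalizer (K : Set G)) α) (indFun (Subgroup.normalizer (K : Set G)) β) =
      classInner α β := by
  classical
  rw [CfsgLib.Char.frobenius' _ _ (CfsgLib.Char.indFun_classFun _ _)]
  simp only [CfsgLib.Char.classInner_def]
  congr 1
  refine Finset.sum_congr rfl fun x _ => ?_
  by_cases hx : (x : G) ∈ K ∧ x ≠ 1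
  · rw [CfsgLib.FrobTI.ind_apply hTI hα hsα hx.1 hx.2]
  · simp [hsβ x hx]

/-- Let K be a subgroup of the finite group G that meets each conjugate by an element outside its normalizer N trivially, is properly contained in N, and contains the centralizer of each of its non-identity elements (a T.I. subgroup with Frobenius normalizer). Suppose K is abelian, let e be the index of K in N, and call an irreducible character of N relevant when it takes at some element of K a value different from its degree. Then either there is exactly one relevant character and K is an elementary abelian p-group of order e + 1 for some prime p, or there are a sign ε and an injective map f from the relevant characters to the irreducible characters of G such that inducing χ - ξ to G gives ε (f χ - f ξ) for all relevant χ and ξ. -/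
theorem result {G : Type*} [Group G] [Fintype G] (K : Subgroup G) (hTI : ∀ g : G, g ∉ Subgroup.normalizer (K : Set G) → ∀ k ∈ K, g * k * g⁻¹ ∈ K → k = 1) (hlt : K < Subgroup.normalizer (K : Set G)) (hC : ∀ k ∈ K, k ≠ 1 → Subgroup.centralizer ({k} : Set G) ≤ K) (hab : ∀ a ∈ K, ∀ b ∈ K, a * b = b * a) : (Nat.card {χ : Cfsg.IrrCharacter (Subgroup.normalizer (K : Set G)) // ∃ k : Subgroup.normalizer (K : Set G), (k : G) ∈ K ∧ (χ : ↥(Subgroup.normalizer (K : Set G)) → ℂ) k ≠ (χ : ↥(Subgroup.normalizer (K : Set G)) → ℂ) 1} = 1 ∧ ∃ p : ℕ, p.Prime ∧ Cfsg.IsElementaryAbelian p K ∧ Nat.card K = (K.subgroupOf (Subgroup.normalizer (K : Set G))).index + 1) ∨ ∃ (ε : ℂ) (f : {χ : Cfsg.IrrCharacter (Subgroup.normalizer (K : Set G)) // ∃ k : Subgroup.normalizer (K : Set G), (k : G) ∈ K ∧ (χ : ↥(Subgroup.normalizer (K : Set G)) → ℂ) k ≠ (χ : ↥(Subgroup.normalizer (K : Set G)) → ℂ) 1} → Cfsg.IrrCharacter G), (ε = 1 ∨ ε = -1) ∧ Function.Injective f ∧ ∀ χ ξ, Cfsg.indFun (Subgroup.normalizer (K : Set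 G)) ((χ.1 : ↥(Subgroup.normalizer (K : Set G)) → ℂ) - (ξ.1 : ↥(Subgroup.normalizer (K : Set G)) → ℂ)) = ε • ((f χ : G → ℂ) - (f ξ : G → ℂ)) := by
  classical
  open CfsgLib.FrobTI CfsgLib.Char in
  · set N : Subgroup G := Subgroup.normalizer (K : Set G) with hN
    haveI := Fintype.ofFinite ↥N
    set H := K.subgroupOf N with hH
    haveI : H.Normal := Subgroup.normal_in_normalizer
    haveI := Fintype.ofFinite H
    have hC' : ∀ h ∈ H, h ≠ 1 → Subgroup.centralizer ({h} : Set ↥N) ≤ H := centralizer_sub hC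
    have habH : ∀ a b : H, a * b = b * a := fun a b =>
      Subtype.ext (Subtype.ext (hab _ (Subgroup.mem_subgroupOf.1 a.2) _ (Subgroup.mem_subgroupOf.1 b.2)))
    let T := {χ : Cfsg.IrrCharacter ↥N // ∃ k : ↥N, (k : G) ∈ K ∧ (χ : ↥N → ℂ) k ≠ (χ : ↥N → ℂ) 1}
    have hrel : ∀ χ : T, Rel H (χ.1 : ↥N → ℂ) := fun χ =>
      ⟨χ.1.2, χ.2.choose, Subgroup.mem_subgroupOf.2 χ.2.choose_spec.1, χ.2.choose_spec.2⟩
    have hmk : ∀ θ : H → ℂ, IsIrrCharacter H θ → θ ≠ (fun _ => 1) → ∃ χ : T, (χ.1 : ↥N → ℂ) = indFun H θ := by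
      intro θ hθ hne
      obtain ⟨h1, k, hk, hkne⟩ := rel_indFun hC' hθ hne
      exact ⟨⟨⟨_, h1⟩, k, Subgroup.mem_subgroupOf.1 hk, hkne⟩, rfl⟩
    have hdeg : ∀ χ : T, (χ.1 : ↥N → ℂ) 1 = (H.index : ℂ) := by
      intro χ
      obtain ⟨θ, hθ, hc⟩ := exists_constituent_res (N := H) χ.1.2
      rw [(rel_constituent hC' (hrel χ) hθ hc).2, indFun_one,
        irr_degree_one_of_comm habH hθ, mul_one]
    by_cases hone : Nat.card T = 1
    · refine Or.inl ⟨hone, ?_⟩
      obtain ⟨hsub, ⟨χ⟩⟩ := Nat.card_eq_one_iff_unique.1 hone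
      have hall : ∀ θ : H → ℂ, IsIrrCharacter H θ → θ ≠ (fun _ => 1) → (χ.1 : ↥N → ℂ) = indFun H θ := by
        intro θ hθ hne
        obtain ⟨ξ, hξ⟩ := hmk θ hθ hne
        rw [← hξ, hsub.elim χ ξ]
      let one : IrrCharacter H := ⟨fun _ => 1, isIrr_one⟩
      have hcl : IsClassFunction H (fun n : H => (χ.1 : ↥N → ℂ) n) := fun x y => by
        simpa using classFun_of_irr χ.1.2 (x : ↥N) (y : ↥N)
      have hres := congrFun (classFun_eq_sum hcl) 1
      simp only [Finset.sum_apply, Pi.smul_apply, smul_eq_mul, OneMemClass.coe_one] at hres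
      rw [← Finset.sum_erase_add _ _ (Finset.mem_univ one)] at hres
      have h0 : classInner (fun n : H => (χ.1 : ↥N → ℂ) n) (one : H → ℂ) = 0 := by
        by_contra h
        exact (rel_constituent hC' (hrel χ) one.2 h).1 rfl
      have h1 : ∀ φ ∈ Finset.univ.erase one,
          classInner (fun n : H => (χ.1 : ↥N → ℂ) n) (φ : H → ℂ) * (φ : H → ℂ) 1 = 1 := by
        intro φ hφ
        rw [irr_degree_one_of_comm habH φ.2, mul_one, ← frobenius' H _ (classFun_of_irr χ.1.2),
          ← hall φ φ.2 fun e => (Finset.mem_erase.1 hφ).1 (Subtype.ext e)]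
        exact irr_inner_self χ.1.2
      rw [h0, zero_mul, add_zero, hdeg χ, Finset.sum_congr rfl h1, Finset.sum_const,
        Finset.card_erase_of_mem (Finset.mem_univ one), Finset.card_univ, ← Nat.card_eq_fintype_card,
        card_irr_eq_card_conjClasses, nsmul_eq_mul, mul_one] at hres
      have hbij : Function.Bijective (ConjClasses.mk : H → ConjClasses H) := by
        refine ⟨fun a b hab' => ?_, ConjClasses.mk_surjective⟩
        obtain ⟨c, rfl⟩ := isConj_iff.1 (ConjClasses.mk_eq_mk_iff_isConj.1 hab')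
        rw [habH c a, mul_inv_cancel_right]
      rw [← Nat.card_eq_of_bijective _ hbij] at hres
      have hidx : H.index = Nat.card H - 1 := by exact_mod_cast hres
      have hKc : Nat.card H = Nat.card K :=
        Nat.card_congr (Subgroup.subgroupOfEquivOfLe Subgroup.le_normalizer).toEquiv
      obtain ⟨x, hxK, hx⟩ := χ.2
      have hxH : x ∈ H := Subgroup.mem_subgroupOf.2 hxK
      have hx1 : x ≠ 1 := fun e => hx (by rw [e])
      -- every nontrivial element of H is conjugate to a given one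
      have hconj : ∀ a b : ↥N, a ∈ H → a ≠ 1 → b ∈ H → b ≠ 1 → IsConj a b := by
        intro a b ha ha1 hb hb1
        have hcent : Subgroup.centralizer ({a} : Set ↥N) = H := le_antisymm (hC' a ha ha1) fun c hc =>
          Subgroup.mem_centralizer_singleton_iff.2 (congrArg Subtype.val (habH ⟨c, hc⟩ ⟨a, ha⟩))
        have hc := card_isConj a
        rw [hcent, hidx] at hc
        let F : {y : ↥N // IsConj a y} → {y : H // y ≠ 1} := fun y =>
          ⟨⟨y.1, by obtain ⟨c, hc⟩ := isConj_iff.1 y.2; rw [← hc]; exact (inferInstance : H.Normal).conj_mem a ha c⟩,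
            fun e => ha1 (by
              obtain ⟨c, hc⟩ := isConj_iff.1 y.2
              have e' : y.1 = 1 := congrArg Subtype.val e
              rw [e'] at hc
              exact conj_eq_one_iff.1 hc)⟩
        have hF : Function.Injective F := fun y z e =>
          Subtype.ext (congrArg (fun w : {w : H // w ≠ 1} => (w.1 : ↥N)) e)
        have hcard : Nat.card {y : H // y ≠ 1} = Nat.card H - 1 := by
          simp [Nat.card_eq_fintype_card, Fintype.card_subtype_compl]
        obtain ⟨y, hy⟩ := (hF.bijective_of_nat_card_le (by rw [hc, hcard])).surjective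
          ⟨⟨b, hb⟩, fun e => hb1 (congrArg Subtype.val e)⟩
        have e : y.1 = b := congrArg Subtype.val (congrArg Subtype.val hy)
        exact e ▸ y.2
      have hne : Nat.card K ≠ 1 := fun h => hx1 (Subtype.ext (Subgroup.card_eq_one.1 h ▸ hxK : (x : G) ∈ (⊥ : Subgroup G)))
      obtain ⟨p, hp, hpd⟩ := Nat.exists_prime_and_dvd hne
      haveI := Fact.mk hp
      obtain ⟨z, hz⟩ := exists_prime_orderOf_dvd_card' p hpd
      refine ⟨p, hp, ⟨⟨⟨⟨fun a b => Subtype.ext (hab a a.2 b b.2)⟩⟩, fun a ha => ?_⟩, ?_⟩⟩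
      · by_cases ha1 : a = 1
        · simp [ha1]
        have hz1 : (z : G) ≠ 1 := fun e => hp.ne_one (by rw [← hz, orderOf_eq_one_iff]; exact Subtype.ext e)
        have h := hconj ⟨z, Subgroup.le_normalizer z.2⟩ ⟨a, Subgroup.le_normalizer ha⟩ (Subgroup.mem_subgroupOf.2 z.2)
          (fun e => hz1 (congrArg Subtype.val e)) (Subgroup.mem_subgroupOf.2 ha) (fun e => ha1 (congrArg Subtype.val e))
        obtain ⟨c, hc⟩ := isConj_iff.1 h
        have e : (c : G) * (z : G) * (c : G)⁻¹ = a := congrArg Subtype.val hc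
        rw [← e, conj_pow, ← Subgroup.coe_pow, ← hz, pow_orderOf_eq_one]
        simp
      · have : 1 < Nat.card K := by
          have := Nat.card_pos (α := K)
          omega
        omega
    · refine Or.inr ?_
      by_cases hT : IsEmpty T
      · exact ⟨1, fun χ => hT.elim χ, Or.inl rfl, fun χ => hT.elim χ, fun χ => hT.elim χ⟩
      obtain ⟨χ₀⟩ := not_isEmpty_iff.1 hT
      let e := Fintype.equivFin T
      have hcls : ∀ χ : T, IsClassFunction ↥N ((χ.1 : ↥N → ℂ) - (χ₀.1 : ↥N → ℂ)) := fun χ x y => by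
        simp [classFun_of_irr χ.1.2 x y, classFun_of_irr χ₀.1.2 x y]
      have hsupp : ∀ χ : T, ∀ x : ↥N, ¬ ((x : G) ∈ K ∧ x ≠ 1) → ((χ.1 : ↥N → ℂ) - (χ₀.1 : ↥N → ℂ)) x = 0 := by
        intro χ x hx
        by_cases hxK : (x : G) ∈ K
        · obtain rfl : x = 1 := by_contra fun h => hx ⟨hxK, h⟩
          simp [hdeg χ, hdeg χ₀]
        · have hx' : x ∉ H := fun h => hxK (Subgroup.mem_subgroupOf.1 h)
          simp [rel_vanish hC' (hrel χ) hx', rel_vanish hC' (hrel χ₀) hx']
      obtain ⟨ε, hε, μ, hμ, hinj, hτ⟩ := exists_exceptional (G := G) (e χ₀)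
        (fun i => indFun N (((e.symm i).1 : ↥N → ℂ) - (χ₀.1 : ↥N → ℂ)))
        (by
          show indFun N _ = 0
          rw [Equiv.symm_apply_apply, sub_self, indFun_zero])
        (fun i => gen_indFun N ⟨_, _, isCharacter_of_isIrr (e.symm i).1.2, isCharacter_of_isIrr χ₀.1.2, rfl⟩)
        (fun i => by rw [indFun_one]; simp [hdeg (e.symm i), hdeg χ₀])
        (fun i j hi hj => by
          intro _
          rw [ind_inner hTI (hcls _) (hsupp _) (hsupp _), classInner_sub_left, classInner_sub_right,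
            classInner_sub_right]
          have e1 : ∀ a b : T, classInner (a.1 : ↥N → ℂ) (b.1 : ↥N → ℂ) = if a = b then 1 else 0 := fun a b => by
            rw [irr_inner a.1.2 b.1.2]; simp only [Subtype.coe_inj]
          have hi' : e.symm i ≠ χ₀ := fun h => hi (by rw [← h, Equiv.apply_symm_apply])
          have hj' : e.symm j ≠ χ₀ := fun h => hj (by rw [← h, Equiv.apply_symm_apply])
          rw [e1, e1, e1, e1, if_neg hi', if_neg (Ne.symm hj'), if_pos rfl]
          simp only [EmbeddingLike.apply_eq_iff_eq]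
          split_ifs <;> norm_num)
      refine ⟨ε, fun χ => ⟨μ (e χ), hμ _⟩, hε, fun a b h => e.injective (hinj (congrArg Subtype.val h)), fun χ ξ => ?_⟩
      have a1 := hτ (e χ)
      have a2 := hτ (e ξ)
      simp only [Equiv.symm_apply_apply] at a1 a2
      rw [show ((χ.1 : ↥N → ℂ) - (ξ.1 : ↥N → ℂ)) =
          ((χ.1 : ↥N → ℂ) - (χ₀.1 : ↥N → ℂ)) - ((ξ.1 : ↥N → ℂ) - (χ₀.1 : ↥N → ℂ)) by abel,
        indFun_sub N, a1, a2, ← smul_sub]
      congr 1
      abel


end Cfsg.Agent.S0851
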