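import Cfsg.Statements.S0852
import Cfsg.Agent.Char.FrobTI
-- import your own Cfsg.Agent.* helpers here

set_option autoImplicit false
open Cfsg
open scoped CfsgLib.Char

namespace Cfsg.Agent.S0852

/-- Let K be a subgroup of the finite group G that meets each conjugate by an element outside its normalizer N trivially, is properly contained in N, and contains the centralizer of each of its non-identity elements (a T.I. subgroup with Frobenius normalizer). Let S be the set of irreducible characters of N taking at some element of K a value different from their degree, suppose S has at least two members, and let star be a linear isometry on the integer span of S into the generalized characters of G that agrees with induction on the members vanishing at the identity (so S is coherent, with star as the extending isometry). Then an irreducible character ψ of G is of the form star χ or -star χ for some χ in S if and only if ψ is not constant on the non-identity elements of K. -/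
theorem result {G : Type*} [Group G] [Fintype G] (K : Subgroup G) (hTI : ∀ g : G, g ∉ Subgroup.normalizer (K : Set G) → ∀ k ∈ K, g * k * g⁻¹ ∈ K → k = 1) (hlt : K < Subgroup.normalizer (K : Set G)) (hC : ∀ k ∈ K, k ≠ 1 → Subgroup.centralizer ({k} : Set G) ≤ K) [Fintype ↥(Subgroup.normalizer (K : Set G))] (S : Set (↥(Subgroup.normalizer (K : Set G)) → ℂ)) (hS : S = {χ : ↥(Subgroup.normalizer (K : Set G)) → ℂ | Cfsg.IsIrrCharacter ↥(Subgroup.normalizer (K : Set G)) χ ∧ ∃ k : ↥(Subgroup.normalizer (K : Set G)), (k : G) ∈ K ∧ χ k ≠ χ 1}) (htwo : ∃ χ ∈ S, ∃ ξ ∈ S, χ ≠ ξ) (star : (↥(Subgroup.normalizer (K : Set G)) → ℂ) → (G → ℂ)) (hstar : Cfsg.IsLinearIsometryOn (Cfsg.zspan S) star) (hext : ∀ α ∈ Cfsg.zspanOn S ({1}ᶜ : Set ↥(Subgroup.normalizer (K : Set G))), star α = Cfsg.indFun (Subgroup.normalizer (K : Set G)) α) (ψ : G → ℂ) (hψ : Cfsg.IsIrrCharacter G ψ) : (∃ χ ∈ S, ψ = star χ ∨ ψ = -star χ) ↔ ∃ a ∈ K, ∃ b ∈ K, a ≠ 1 ∧ b ≠ 1 ∧ ψ a ≠ ψ b := by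
  classical
  open CfsgLib.FrobTI CfsgLib.Char in
  · obtain rfl : S = relSet K := hS.trans relSet_eq.symm
    set H := K.subgroupOf (Subgroup.normalizer (K : Set G))
    haveI : H.Normal := Subgroup.normal_in_normalizer
    haveI := Fintype.ofFinite H
    have hC' := centralizer_sub hC
    constructor
    · rintro ⟨χ, hχ, hψ'⟩
      by_contra hno
      push Not at hno
      obtain ⟨c, hc⟩ := star_sub_const hC hstar hext hχ
      obtain ⟨x, hxH, hx⟩ := hχ.2
      have hx1 : x ≠ 1 := fun h => hx (by rw [h])
      have hxK : (x : G) ∈ K := Subgroup.mem_subgroupOf.1 hxH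
      have hconst : ∀ k : H, k ≠ 1 → χ k = χ x := by
        intro k hk
        have hk1 : (k : ↥(Subgroup.normalizer (K : Set G))) ≠ 1 := fun h => hk (Subtype.ext h)
        have hkK : ((k : ↥(Subgroup.normalizer (K : Set G))) : G) ∈ K := Subgroup.mem_subgroupOf.1 k.2
        have he := hno _ hkK (x : G) hxK (fun h => hk1 (Subtype.ext h)) (fun h => hx1 (Subtype.ext h))
        have a1 := hc _ hkK hk1
        have a2 := hc x hxK hx1
        rcases hψ' with rfl | rfl
        · linear_combination he - a1 + a2
        · simp only [Pi.neg_apply] at he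
          linear_combination -he - a1 + a2
      have hcon : ∀ θ : H → ℂ, IsIrrCharacter H θ → θ ≠ (fun _ => 1) → χ = indFun H θ := by
        intro θ hθ hne
        refine (rel_constituent hC' hχ hθ ?_).2
        rw [inner_spike (fun n : H => χ n) _ hconst hθ, irr_inner_ne isIrr_one hθ (Ne.symm hne), mul_zero,
          zero_add]
        refine div_ne_zero (mul_ne_zero ?_ (irr_one_ne_zero hθ)) (natCard_ne_zero H)
        simp only [OneMemClass.coe_one]
        exact sub_ne_zero.2 (Ne.symm hx)
      obtain ⟨a, ha, b, hb, hab⟩ := htwo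
      have huniq : ∀ η ∈ relSet K, η = χ := by
        intro η hη
        obtain ⟨θ, hθ, hθc⟩ := exists_constituent_res (N := H) hη.1
        obtain ⟨hne, e⟩ := rel_constituent hC' hη hθ hθc
        rw [e, ← hcon θ hθ hne]
      exact hab ((huniq a ha).trans (huniq b hb).symm)
    · rintro ⟨a, ha, b, hb, ha1, hb1, hne⟩
      by_contra hno
      push Not at hno
      have horth : ∀ χ ∈ relSet K, classInner ψ (star χ) = 0 := by
        intro χ hχ
        have hm := CfsgLib.Coh.mem_zspan hχ
        have h1 : classInner (star χ) (star χ) = 1 := by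
          rw [hstar.2.2.1 χ hm χ hm]; exact irr_inner_self hχ.1
        rcases isIrr_or_neg_of_norm (hstar.2.2.2 χ hm) h1 with h | h
        · exact irr_inner_ne hψ h (hno χ hχ).1
        · have := irr_inner_ne hψ h (hno χ hχ).2
          rwa [classInner_neg_right, neg_eq_zero] at this
      obtain ⟨c, hc⟩ := sub_const hC (classFun_of_irr hψ) (β := 0) (fun _ _ => rfl) fun η hη ξ hξ => by
        rw [(alpha_facts hC hstar hext hη hξ).2.1, classInner_sub_right, classInner_smul_right,
          classInner_smul_right, horth η hη, horth ξ hξ, classInner_zero_left]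
        simp
      refine hne ?_
      have hmem : ∀ y ∈ K, y ∈ Subgroup.normalizer (K : Set G) := fun y hy => Subgroup.le_normalizer hy
      have h1 := hc ⟨a, hmem a ha⟩ ha fun h => ha1 (congrArg Subtype.val h)
      have h2 := hc ⟨b, hmem b hb⟩ hb fun h => hb1 (congrArg Subtype.val h)
      simp only [Pi.zero_apply, sub_zero] at h1 h2
      rw [h1, h2]

end Cfsg.Agent.S0852
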