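import Cfsg.Statements.S0853
import Cfsg.Agent.Char.FrobTI
-- import your own Cfsg.Agent.* helpers here

set_option autoImplicit false
open Cfsg
open scoped CfsgLib.Char

namespace Cfsg.Agent.S0853

/-- Let K be a subgroup of the finite group G that meets each conjugate by an element outside its normalizer N trivially, is properly contained in N, and contains the centralizer of each of its non-identity elements (a T.I. subgroup with Frobenius normalizer). Let S be the set of irreducible characters of N taking at some element of K a value different from their degree, suppose S has at least two members, and let star be a linear isometry on the integer span of S into the generalized characters of G that agrees with induction on the members vanishing at the identity (so S is coherent, with star as the extending isometry). Then there is a single integer m such that star χ k - χ k = m * χ 1 / e for every χ in S and every non-identity element k of K, where e is the index of K in N. -/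
theorem result {G : Type*} [Group G] [Fintype G] (K : Subgroup G) (hTI : ∀ g : G, g ∉ Subgroup.normalizer (K : Set G) → ∀ k ∈ K, g * k * g⁻¹ ∈ K → k = 1) (hlt : K < Subgroup.normalizer (K : Set G)) (hC : ∀ k ∈ K, k ≠ 1 → Subgroup.centralizer ({k} : Set G) ≤ K) [Fintype ↥(Subgroup.normalizer (K : Set G))] (S : Set (↥(Subgroup.normalizer (K : Set G)) → ℂ)) (hS : S = {χ : ↥(Subgroup.normalizer (K : Set G)) → ℂ | Cfsg.IsIrrCharacter ↥(Subgroup.normalizer (K : Set G)) χ ∧ ∃ k : ↥(Subgroup.normalizer (K : Set G)), (k : G) ∈ K ∧ χ k ≠ χ 1}) (htwo : ∃ χ ∈ S, ∃ ξ ∈ S, χ ≠ ξ) (star : (↥(Subgroup.normalizer (K : Set G)) → ℂ) → (G → ℂ)) (hstar : Cfsg.IsLinearIsometryOn (Cfsg.zspan S) star) (hext : ∀ α ∈ Cfsg.zspanOn S ({1}ᶜ : Set ↥(Subgroup.normalizer (K : Set G))), star α = Cfsg.indFun (Subgroup.normalizer (K : Set G)) α) : ∃ m : ℤ, ∀ χ ∈ S, ∀ k : ↥(Subgroup.normalizer (K : Set G)), (k : G) ∈ K → k ≠ 1 → star χ k - χ k = (m : ℂ) * χ 1 / ((K.subgroupOf (Subgroup.normalizer (K : Set G))).index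 : ℂ) := by
  classical
  open CfsgLib.FrobTI CfsgLib.Char in
  · obtain rfl : S = relSet K := hS.trans relSet_eq.symm
    set H := K.subgroupOf (Subgroup.normalizer (K : Set G))
    haveI : H.Normal := Subgroup.normal_in_normalizer
    haveI := Fintype.ofFinite H
    have hC' := centralizer_sub hC
    choose c hc using fun χ : relSet K => star_sub_const hC hstar hext χ.2
    obtain ⟨χ₀, hχ₀, -⟩ := htwo
    obtain ⟨θ₀, hθ₀, hθ₀c⟩ := exists_constituent_res (N := H) hχ₀.1
    obtain ⟨x, hxH, hx⟩ := hχ₀.2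
    have hx1 : x ≠ 1 := fun h => hx (by rw [h])
    have hxK : (x : G) ∈ K := Subgroup.mem_subgroupOf.1 hxH
    have hH1 : ∃ h : H, h ≠ 1 := ⟨⟨x, hxH⟩, fun h => hx1 (congrArg Subtype.val h)⟩
    have hprop : ∀ η ξ : relSet K, c η * (ξ : ↥(Subgroup.normalizer (K : Set G)) → ℂ) 1 =
        c ξ * (η : ↥(Subgroup.normalizer (K : Set G)) → ℂ) 1 := by
      intro η ξ
      obtain ⟨-, h2, -⟩ := alpha_facts hC hstar hext η.2 ξ.2
      have h := congrFun h2 (x : G)
      rw [ind_apply hTI (fun a b => by simp [classFun_of_irr η.2.1 a b, classFun_of_irr ξ.2.1 a b])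
        (fun y hy => ?_) hxK hx1] at h
      · simp only [Pi.sub_apply, Pi.smul_apply, smul_eq_mul] at h
        linear_combination ((η : ↥(Subgroup.normalizer (K : Set G)) → ℂ) 1) * hc ξ x hxK hx1 -
          ((ξ : ↥(Subgroup.normalizer (K : Set G)) → ℂ) 1) * hc η x hxK hx1 - h
      · by_cases hyK : (y : G) ∈ K
        · obtain rfl : y = 1 := by_contra fun h1 => hy ⟨hyK, h1⟩
          simp [mul_comm]
        · have hy' : y ∉ H := fun h' => hyK (Subgroup.mem_subgroupOf.1 h')
          simp [rel_vanish hC' η.2 hy', rel_vanish hC' ξ.2 hy']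
    have hint : ∀ χ : relSet K, ∃ z : ℤ, c χ = z := by
      intro χ
      refine int_of_degrees hH1 _ fun θ hθ hne => ?_
      let F : H → ℂ := fun k => star χ ((k : ↥(Subgroup.normalizer (K : Set G))) : G) -
        (χ : ↥(Subgroup.normalizer (K : Set G)) → ℂ) k
      have hF : IsGeneralizedCharacter H F := CfsgLib.Coh.gen_sub
        (CfsgLib.Blk.gen_restrict H (CfsgLib.Blk.gen_restrict _ (hstar.2.2.2 _ (CfsgLib.Coh.mem_zspan χ.2))))
        ⟨_, 0, isCharacter_restrict H (isCharacter_of_isIrr χ.2.1), isCharacter_zero, (sub_zero _).symm⟩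
      have hF1 : ∀ k, k ≠ 1 → F k = c χ := fun k hk => hc χ k (Subgroup.mem_subgroupOf.1 k.2)
        fun h => hk (Subtype.ext h)
      obtain ⟨a, ha⟩ := (isGeneralized_iff.1 hF).2 ⟨_, hθ⟩
      obtain ⟨b, hb⟩ := (isGeneralized_iff.1 hF).2 ⟨_, isIrr_one⟩
      obtain ⟨d, -, hd⟩ := irr_deg hθ
      refine ⟨d * b - a, ?_⟩
      simp only at ha hb
      rw [inner_spike F _ hF1 hθ, irr_inner_ne isIrr_one hθ (Ne.symm hne)] at ha
      rw [inner_spike F _ hF1 isIrr_one, irr_inner_self isIrr_one] at hb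
      push_cast
      rw [← hd, ← ha, ← hb]
      ring
    set e : ℂ := (H.index : ℂ)
    have he : e ≠ 0 := Nat.cast_ne_zero.2 Subgroup.index_ne_zero_of_finite
    have hχ₀1 : χ₀ 1 ≠ 0 := irr_one_ne_zero hχ₀.1
    obtain ⟨m, hm⟩ : ∃ m : ℤ, c ⟨χ₀, hχ₀⟩ * e / χ₀ 1 = m := by
      refine int_of_degrees hH1 _ fun θ hθ hne => ?_
      have hη : indFun H θ ∈ relSet K := rel_indFun hC' hθ hne
      obtain ⟨z, hz⟩ := hint ⟨_, hη⟩
      refine ⟨z, ?_⟩
      rw [← hz]
      have h := hprop ⟨_, hη⟩ ⟨χ₀, hχ₀⟩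
      simp only [indFun_one] at h
      field_simp
      linear_combination -h
    refine ⟨m, fun χ hχ k hk hk1 => ?_⟩
    rw [hc ⟨χ, hχ⟩ k hk hk1, ← hm]
    have h := hprop ⟨χ, hχ⟩ ⟨χ₀, hχ₀⟩
    simp only at h
    show c ⟨χ, hχ⟩ = c ⟨χ₀, hχ₀⟩ * e / χ₀ 1 * χ 1 / e
    field_simp
    linear_combination h

end Cfsg.Agent.S0853
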