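import Cfsg.Statements.S4456
import Cfsg.Agent.Blk.ThompsonPrincipal
import Cfsg.Agent.Blk.Criterion

set_option autoImplicit false
open Cfsg

namespace Cfsg.Agent.S4456
open scoped CfsgLib.Char


/-- Let p be a prime and G a finite group such that p divides the degree of every irreducible character of G of degree greater than one. Then G has a normal p-complement: a normal subgroup of order prime to p whose index is a power of p. -/
theorem result {G : Type*} [Group G] [Finite G] (p : ℕ) (hp : p.Prime) (hdeg : ∀ χ : Cfsg.IrrCharacter G, Cfsg.charDegree (χ : G → ℂ) ≠ 1 → p ∣ Cfsg.charDegree (χ : G → ℂ)) : ∃ N : Subgroup G, N.Normal ∧ (Nat.card N).Coprime p ∧ ∃ k : ℕ, N.index = p ^ k := by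
  classical
  haveI : Fact p.Prime := ⟨hp⟩
  obtain ⟨M, hM⟩ := CfsgLib.Blk.exists_isPModular hp
  haveI := hM.2.1.isPrime
  obtain ⟨P, N, hN, hc⟩ := CfsgLib.Blk.hnpc_of_linear hM fun χ _ hχ => by
    have h1 : Cfsg.charDegree (χ : G → ℂ) = 1 := by_contra fun h => hχ (hdeg χ h)
    rw [CfsgLib.Char.irr_one_eq χ.2, h1, Nat.cast_one]
  obtain ⟨k, hk⟩ := IsPGroup.iff_card.1 P.isPGroup'
  refine ⟨N, hN, ?_, k, by rw [hc.symm.index_eq_card, hk]⟩
  refine ((hp.coprime_iff_not_dvd).2 fun h => P.not_dvd_index ?_).symm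
  rwa [hc.index_eq_card]

end Cfsg.Agent.S4456
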