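import Cfsg.Statements.S0855
import Cfsg.Agent.S4456
import Cfsg.Agent.Char.ExtMore
import Cfsg.Agent.Char.Gallagher
import Cfsg.Agent.Char.Classes

set_option autoImplicit false
open Cfsg

namespace Cfsg.Agent.S0855
open scoped CfsgLib.Char


/-- For a finite group G and a prime p: every irreducible character of G has degree a power of p if and only if G has an abelian normal subgroup whose order is prime to p and whose index is a power of p. -/
theorem result {G : Type*} [Group G] [Finite G] (p : ℕ) (hp : p.Prime) : (∀ χ : Cfsg.IrrCharacter G, ∃ k : ℕ, (χ : G → ℂ) 1 = (p : ℂ) ^ k) ↔ ∃ A : Subgroup G, A.Normal ∧ (∀ a ∈ A, ∀ b ∈ A, a * b = b * a) ∧ Nat.Coprime (Nat.card A) p ∧ ∃ k : ℕ, A.index = p ^ k := by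
  classical
  haveI := Fintype.ofFinite G
  open CfsgLib.Char in
  · constructor
    · intro h
      obtain ⟨A, hA, hcop, k, hk⟩ := Cfsg.Agent.S4456.result (G := G) p hp fun χ hne => by
        obtain ⟨j, hj⟩ := h χ
        have hd : Cfsg.charDegree (χ : G → ℂ) = p ^ j := charDegree_eq (by rw [hj]; push_cast; rfl)
        rw [hd] at hne ⊢
        exact dvd_pow_self p (by rintro rfl; exact hne (pow_zero p))
      haveI := hA
      haveI := Fintype.ofFinite A
      refine ⟨A, hA, ?_, hcop, k, hk⟩
      have hlin : ∀ θ : Cfsg.IrrCharacter A, θ.1 1 = 1 := by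
        intro θ
        have hc : Cfsg.IsCharacter G (Cfsg.indFun A θ.1) := isCharacter_indFun A (isCharacter_of_isIrr θ.2)
        have hex : ∃ χ : Cfsg.IrrCharacter G, Cfsg.classInner (Cfsg.indFun A θ.1) χ.1 ≠ 0 := by
          by_contra hall
          push Not at hall
          have h0 := classFun_eq_sum (classFun_of_char hc)
          simp only [hall, zero_smul, Finset.sum_const_zero] at h0
          have := congrFun h0 1
          rw [indFun_one, Pi.zero_apply, mul_eq_zero] at this
          rcases this with e | e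
          · exact Subgroup.FiniteIndex.index_ne_zero (H := A) (Nat.cast_eq_zero.1 e)
          · exact irr_one_ne_zero θ.2 e
        obtain ⟨χ, hχ⟩ := hex
        rw [frobenius A θ.1 (classFun_of_irr χ.2), ← classInner_conj, map_ne_zero] at hχ
        obtain ⟨i, hi, -⟩ := degree_quotient χ.2 θ.2 hχ
        obtain ⟨j, hj⟩ := h χ
        obtain ⟨d, hd, hd'⟩ := irr_deg θ.2
        rw [hj, hd'] at hi
        have hdvd : d ∣ p ^ j := ⟨i, by
          rw [mul_comm]; exact_mod_cast hi⟩
        have hdA : d ∣ Nat.card A := charDegree_eq hd' ▸ degree_dvd_card θ.2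
        rw [hd', Nat.eq_one_of_dvd_coprimes (Nat.Coprime.pow_right j hcop) hdA hdvd, Nat.cast_one]
      intro a ha b hb
      have h1 : IsConj (⟨a, ha⟩ * ⟨b, hb⟩ * (⟨a, ha⟩ : A)⁻¹ * (⟨b, hb⟩ : A)⁻¹) 1 := by
        rw [isConj_iff_irr]
        intro θ
        obtain ⟨μ, hμ⟩ := exists_hom_of_degree_one (isCharacter_of_isIrr θ.2) (hlin θ)
        rw [hμ]
        simp only [map_mul, map_inv, map_one]
        rw [mul_comm (μ ⟨a, ha⟩), mul_inv_cancel_right, mul_inv_cancel]
      rw [isConj_one_left, mul_inv_eq_one, mul_inv_eq_iff_eq_mul] at h1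
      exact congrArg Subtype.val h1
    · rintro ⟨A, hA, hab, -, k, hk⟩ χ
      haveI := hA
      obtain ⟨n, ρ, hirr, hρ⟩ := χ.2
      haveI := hirr
      have hd := finrank_dvd_index ρ A hab
      rw [hk, Module.finrank_fin_fun] at hd
      obtain ⟨j, -, rfl⟩ := (Nat.dvd_prime_pow hp).1 hd
      refine ⟨j, ?_⟩
      rw [← hρ, Representation.char_one, Module.finrank_fin_fun]
      push_cast; rfl

end Cfsg.Agent.S0855
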