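import Cfsg.Statements.S0857
import Mathlib
import Cfsg.Agent.Char.CyclicTI
import Cfsg.Agent.Char.Clifford
import Cfsg.Agent.Char.Gallagher
-- import your own Cfsg.Agent.* helpers here

set_option autoImplicit false
open Cfsg
open scoped commutatorElement CfsgLib.Char

namespace Cfsg.Agent.S0857

/-- Let L < K be normal subgroups of the finite group G with no normal subgroup of G strictly between them and with K / L abelian (the commutator subgroup of K lies in L). Let ϑ be an irreducible character of K invariant under conjugation by G. Then the restriction of ϑ to L is irreducible; or it equals e times an irreducible character of L with e ^ 2 equal to the index of L in K; or it is the sum of a family of pairwise distinct irreducible characters of L indexed by a set whose size is the index of L in K. -/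
theorem result {G : Type*} [Group G] [Fintype G] (K L : Subgroup G) [hK : K.Normal] [L.Normal] (hLK : L < K) (hchief : ∀ M : Subgroup G, M.Normal → L ≤ M → M ≤ K → M = L ∨ M = K) (hab : ⁅K, K⁆ ≤ L) (ϑ : K → ℂ) (hϑ : Cfsg.IsIrrCharacter K ϑ) (hinv : ∀ (g : G) (n : K), ϑ ⟨g * n * g⁻¹, hK.conj_mem (n : G) n.2 g⟩ = ϑ n) : Cfsg.IsIrrCharacter L (fun x : L => ϑ ⟨(x : G), hLK.le x.2⟩) ∨ (∃ (φ : L → ℂ) (e : ℕ), Cfsg.IsIrrCharacter L φ ∧ (fun x : L => ϑ ⟨(x : G), hLK.le x.2⟩) = (e : ℂ) • φ ∧ e ^ 2 = L.relIndex K) ∨ (∃ F : Finset (L → ℂ), (∀ φ ∈ F, Cfsg.IsIrrCharacter L φ) ∧ F.card = L.relIndex K ∧ (fun x : L => ϑ ⟨(x : G), hLK.le x.2⟩) = ∑ φ ∈ F, φ) := by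
  classical
  open CfsgLib.Char in
  · haveI := Fintype.ofFinite K
    set L' : Subgroup K := L.subgroupOf K with hL'
    haveI : L'.Normal := Subgroup.Normal.subgroupOf inferInstance K
    haveI := Fintype.ofFinite L'
    let eL : L' ≃* L := Subgroup.subgroupOfEquivOfLe hLK.le
    set θL : L' → ℂ := fun n => ϑ (n : K) with hθL
    have htrans : (fun x : L => ϑ ⟨(x : G), hLK.le x.2⟩) = θL ∘ eL.symm := funext fun x => rfl
    have hab' : ∀ a b : K ⧸ L', a * b = b * a := by
      intro a b
      obtain ⟨x, rfl⟩ := QuotientGroup.mk_surjective a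
      obtain ⟨y, rfl⟩ := QuotientGroup.mk_surjective b
      rw [← QuotientGroup.mk_mul, ← QuotientGroup.mk_mul, QuotientGroup.eq, hL', Subgroup.mem_subgroupOf]
      have := hab (Subgroup.commutator_mem_commutator (inv_mem y.2) (inv_mem x.2))
      convert this using 1
      simp [commutatorElement_def, mul_assoc]
    haveI := Fintype.ofFinite (K ⧸ L')
    haveI : Fintype (K ⧸ L' →* ℂˣ) := Fintype.ofEquiv _ (CfsgLib.CTI.linEquiv hab').symm
    have hidx : Nat.card (K ⧸ L') = L.relIndex K := rfl
    have hcardK : (Nat.card K : ℂ) = (L.relIndex K : ℂ) * (Nat.card L' : ℂ) := by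
      rw [← hidx, Subgroup.card_eq_card_quotient_mul_card_subgroup L']; push_cast; rfl
    have hθc := classFun_of_irr hϑ
    have hn1 : classInner ϑ ϑ = 1 := irr_inner_self hϑ
    have hsumL : ∀ F : K → ℂ, ∑ x : K, (if x ∈ L' then F x else 0) = ∑ n : L', F n := fun F => by
      rw [← Finset.sum_filter]
      exact Finset.sum_subtype _ (fun x => by simp) F
    -- the subgroup generated by `L` and the support
    let Sset : Set G := (L : Set G) ∪ {y | ∃ x : K, (x : G) = y ∧ ϑ x ≠ 0}
    set M : Subgroup G := Subgroup.closure Sset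
    have hMn : M.Normal := by
      refine ⟨fun n hn g => ?_⟩
      induction hn using Subgroup.closure_induction with
      | mem y hy =>
        refine Subgroup.subset_closure ?_
        rcases hy with hy | ⟨x, rfl, hx⟩
        · exact Or.inl (Subgroup.Normal.conj_mem inferInstance y hy g)
        · exact Or.inr ⟨⟨_, hK.conj_mem (x : G) x.2 g⟩, rfl, by rwa [hinv g x]⟩
      | one => simp
      | mul a b _ _ ha hb =>
        rw [show g * (a * b) * g⁻¹ = g * a * g⁻¹ * (g * b * g⁻¹) by group]
        exact mul_mem ha hb
      | inv a _ ha =>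
        rw [show g * a⁻¹ * g⁻¹ = (g * a * g⁻¹)⁻¹ by group]
        exact inv_mem ha
    have hLM : L ≤ M := fun y hy => Subgroup.subset_closure (Or.inl hy)
    have hMK : M ≤ K := (Subgroup.closure_le K).2 (by
      rintro y (hy | ⟨x, rfl, -⟩)
      exacts [hLK.le hy, x.2])
    rcases hchief M hMn hLM hMK with hM | hM
    · -- `ϑ` vanishes off `L`
      right
      have hvan : ∀ x : K, x ∉ L' → ϑ x = 0 := by
        intro x hx
        by_contra h
        exact hx (Subgroup.mem_subgroupOf.2 (hM ▸ Subgroup.subset_closure (Or.inr ⟨x, rfl, h⟩)))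
      have hnorm : classInner θL θL = (L.relIndex K : ℂ) := by
        have h : (Nat.card K : ℂ) * classInner ϑ ϑ = (Nat.card L' : ℂ) * classInner θL θL := by
          rw [classInner_def, classInner_def, ← mul_assoc, ← mul_assoc, mul_inv_cancel₀ (natCard_ne_zero K),
            mul_inv_cancel₀ (natCard_ne_zero L'), one_mul, one_mul, ← hsumL fun x => ϑ x * (starRingEnd ℂ) (ϑ x)]
          exact Finset.sum_congr rfl fun x _ => by
            split_ifs with hx
            · rfl
            · rw [hvan x hx, zero_mul]
        rw [hn1, mul_one, hcardK, mul_comm] at h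
        exact (mul_left_cancel₀ (natCard_ne_zero L') h).symm
      obtain ⟨φ, hφ, hc⟩ := exists_constituent_res (N := L') hϑ
      have hcl := clifford hϑ hφ hc
      set I : Subgroup K := inertia φ
      have hLI : L' ≤ I := le_inertia (classFun_of_irr hφ)
      set MI : Subgroup G := I.map K.subtype
      have hswap : ∀ a b : K, conjN φ (a * b) = conjN φ (b * a) := by
        intro a b
        have hl : a * b * (b * a)⁻¹ ∈ L' := by
          rw [← QuotientGroup.eq_one_iff, QuotientGroup.mk_mul, QuotientGroup.mk_inv, QuotientGroup.mk_mul,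
            QuotientGroup.mk_mul, hab' (QuotientGroup.mk a) (QuotientGroup.mk b), mul_inv_cancel]
        rw [show a * b = a * b * (b * a)⁻¹ * (b * a) by group, ← conjN_mul,
          conjN_of_mem (classFun_of_irr hφ) hl]
      have hMIn : MI.Normal := by
        refine ⟨?_⟩
        rintro _ ⟨x, hx, rfl⟩ g
        refine ⟨⟨g * x * g⁻¹, hK.conj_mem (x : G) x.2 g⟩, ?_, rfl⟩
        have hgL : ∀ g : G, ∀ n : L', (⟨g * ((n : K) : G) * g⁻¹, hK.conj_mem _ (n : K).2 g⟩ : K) ∈ L' :=
          fun g n => Subgroup.mem_subgroupOf.2 (Subgroup.Normal.conj_mem inferInstance _ (Subgroup.mem_subgroupOf.1 n.2) g)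
        let c : L' ≃* L' :=
          { toFun := fun n => ⟨_, hgL g n⟩
            invFun := fun n => ⟨_, hgL g⁻¹ n⟩
            left_inv := fun n => by
              refine Subtype.ext (Subtype.ext ?_); show g⁻¹ * (g * _ * g⁻¹) * g⁻¹⁻¹ = _; group
            right_inv := fun n => by
              refine Subtype.ext (Subtype.ext ?_); show g * (g⁻¹ * _ * g⁻¹⁻¹) * g⁻¹ = _; group
            map_mul' := fun a b => by
              refine Subtype.ext (Subtype.ext ?_)
              show g * (_ * _) * g⁻¹ = g * _ * g⁻¹ * (g * _ * g⁻¹)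
              group }
        have hθinv : θL ∘ c = θL := funext fun n => hinv g (n : K)
        have hcon : classInner (fun n : L' => ϑ n) (φ ∘ c) ≠ 0 := by
          have := classInner_mulEquiv c θL φ
          rw [hθinv] at this
          rw [this]
          exact hc
        obtain ⟨k, hk⟩ := conjugate_of_constituents hϑ hφ (irr_mulEquiv c hφ) hc hcon
        show conjN φ _ = φ
        funext n
        obtain ⟨n', rfl⟩ := c.surjective n
        have hxk : conjN (φ ∘ c) x = φ ∘ c := by
          rw [hk, conjN_mul, hswap, ← conjN_mul]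
          rw [show conjN φ x = φ from hx]
        refine Eq.trans (congrArg φ (Subtype.ext (Subtype.ext ?_))) (congrFun hxk n')
        show g * x * g⁻¹ * (g * _ * g⁻¹) * (g * x * g⁻¹)⁻¹ = g * ((x : G) * _ * (x : G)⁻¹) * g⁻¹
        group
      have hLMI : L ≤ MI := fun y hy =>
        ⟨⟨y, hLK.le hy⟩, hLI (Subgroup.mem_subgroupOf.2 hy), rfl⟩
      have hMIK : MI ≤ K := Subgroup.map_subtype_le I
      obtain ⟨m, hm⟩ := inner_char_char (isCharacter_restrict L' (isCharacter_of_isIrr hϑ)) (isCharacter_of_isIrr hφ)
      have hnm : classInner θL θL = (m : ℂ) * (m : ℂ) * (I.index : ℂ) := by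
        rw [show θL = _ from hcl, hm, classInner_smul_left, classInner_smul_right, classInner_sum_left,
          ← card_orbit φ]
        rw [Finset.sum_congr rfl (g := fun _ => (1 : ℂ)) fun ψ hψ => ?_, Finset.sum_const, nsmul_eq_mul, mul_one]
        · simp [mul_assoc]
        · obtain ⟨x, -, rfl⟩ := Finset.mem_image.1 hψ
          rw [classInner_sum_right, Finset.sum_eq_single (conjN φ x)]
          · exact irr_inner_self (irr_conjN hφ x)
          · intro ψ' hψ' hne
            obtain ⟨y, -, rfl⟩ := Finset.mem_image.1 hψ'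
            exact irr_inner_ne (irr_conjN hφ x) (irr_conjN hφ y) (Ne.symm hne)
          · exact fun h => absurd hψ h
      rw [hnorm] at hnm
      obtain ⟨d, hd0, hd⟩ := irr_deg hϑ
      obtain ⟨d', hd'0, hd'⟩ := irr_deg hφ
      have hnm' : L.relIndex K = m * m * I.index := by exact_mod_cast hnm
      rcases hchief MI hMIn hLMI hMIK with hMI | hMI
      · right
        have hI : I = L' := by
          refine le_antisymm (fun x hx => Subgroup.mem_subgroupOf.2 (hMI ▸ ⟨x, hx, rfl⟩)) hLI
        rw [hI] at hnm'
        have hpos : 0 < L.relIndex K := by rw [← hidx]; exact Nat.card_pos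
        have hee : m * m = 1 := Nat.eq_of_mul_eq_mul_right hpos (by rw [one_mul]; exact hnm'.symm)
        have he1 : m = 1 := (mul_eq_one.1 hee).1
        have hsumeq : θL = ∑ ψ ∈ Finset.univ.image (conjN φ), ψ := by
          conv_lhs => rw [show θL = _ from hcl, hm, he1]
          simp
        refine ⟨(Finset.univ.image (conjN φ)).image (fun ψ => ψ ∘ eL.symm), ?_, ?_, ?_⟩
        · intro ψ hψ
          obtain ⟨ψ', hψ', rfl⟩ := Finset.mem_image.1 hψ
          obtain ⟨y, -, rfl⟩ := Finset.mem_image.1 hψ'
          exact irr_mulEquiv eL.symm (irr_conjN hφ y)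
        · rw [Finset.card_image_of_injective _ fun a b h => funext fun n => by
            simpa using congrFun h (eL n), card_orbit, show inertia φ = L' from hI]
          rfl
        · rw [htrans, hsumeq, Finset.sum_image fun a _ b _ h => funext fun n => by simpa using congrFun h (eL n)]
          funext x
          simp [Finset.sum_apply]
      · left
        have hI : I = ⊤ := by
          refine eq_top_iff.2 fun x _ => ?_
          obtain ⟨z, hz, hzx⟩ := (hMI.symm ▸ x.2 : (x : G) ∈ MI)
          rwa [← Subtype.ext (a1 := z) (a2 := x) hzx]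
        refine ⟨φ ∘ eL.symm, m, irr_mulEquiv eL.symm hφ, ?_, ?_⟩
        · have h := res_homogeneous hϑ hφ hc fun g =>
            (mem_inertia (θ := φ) (g := g)).1 (show g ∈ I by rw [hI]; trivial)
          rw [hm] at h
          rw [htrans, show θL = _ from h]
          funext x
          simp
        · rw [hnm', hI, Subgroup.index_top, mul_one, pow_two]
    · -- only the trivial linear character fixes `ϑ`
      left
      have hone : ∀ μ : K ⧸ L' →* ℂˣ, (fun x : K => ϑ x * (μ (QuotientGroup.mk x) : ℂ)) = ϑ → μ = 1 := by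
        intro μ hμ
        let f : K →* ℂˣ := μ.comp (QuotientGroup.mk' L')
        have hle : M ≤ f.ker.map K.subtype := (Subgroup.closure_le _).2 (by
          rintro y (hy | ⟨x, rfl, hx⟩)
          · refine ⟨⟨y, hLK.le hy⟩, ?_, rfl⟩
            rw [SetLike.mem_coe, MonoidHom.mem_ker]
            show μ (QuotientGroup.mk _) = 1
            rw [(QuotientGroup.eq_one_iff _).2 (Subgroup.mem_subgroupOf.2 hy), map_one]
          · refine ⟨x, ?_, rfl⟩
            rw [SetLike.mem_coe, MonoidHom.mem_ker]
            refine Units.ext ?_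
            have := congrFun hμ x
            exact mul_left_cancel₀ hx (by rw [Units.val_one, mul_one]; exact this))
        refine MonoidHom.ext fun q => ?_
        obtain ⟨x, rfl⟩ := QuotientGroup.mk_surjective q
        obtain ⟨z, hz, hzx⟩ := hle (hM.symm ▸ x.2 : (x : G) ∈ M)
        rw [← Subtype.ext (a1 := z) (a2 := x) hzx]
        exact hz
      have key : ∑ μ : K ⧸ L' →* ℂˣ, classInner (fun x : K => ϑ x * (μ (QuotientGroup.mk x) : ℂ)) ϑ =
          classInner θL θL := by
        simp only [classInner_def, ← Finset.mul_sum]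
        rw [Finset.sum_comm]
        have hsum : ∀ x : K, ∑ μ : K ⧸ L' →* ℂˣ, ϑ x * (μ (QuotientGroup.mk x) : ℂ) * (starRingEnd ℂ) (ϑ x) =
            (L.relIndex K : ℂ) * (if x ∈ L' then ϑ x * (starRingEnd ℂ) (ϑ x) else 0) := by
          intro x
          have h := CfsgLib.CTI.sum_linear_conj hab' (QuotientGroup.mk x) (1 : K ⧸ L')
          simp only [map_one, Units.val_one, mul_one] at h
          simp_rw [mul_right_comm (ϑ x) _ ((starRingEnd ℂ) (ϑ x))]
          rw [← Finset.mul_sum, h]
          by_cases hx : x ∈ L'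
          · rw [if_pos ((QuotientGroup.eq_one_iff x).2 hx), if_pos hx, hidx]; ring
          · rw [if_neg fun h => hx ((QuotientGroup.eq_one_iff x).1 h), if_neg hx]; ring
        rw [Finset.sum_congr rfl fun x _ => hsum x, ← Finset.mul_sum,
          hsumL fun x => ϑ x * (starRingEnd ℂ) (ϑ x), hcardK]
        have := natCard_ne_zero L'
        have hne : (L.relIndex K : ℂ) ≠ 0 := by rw [← hidx]; exact Nat.cast_ne_zero.2 Nat.card_pos.ne'
        field_simp
        rfl
      rw [Finset.sum_eq_single (1 : K ⧸ L' →* ℂˣ)] at key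
      · have hirr : IsIrrCharacter L' θL := by
          refine isIrr_of_char_norm (isCharacter_restrict L' (isCharacter_of_isIrr hϑ)) ?_
          rw [← key]
          simpa using hn1
        rw [htrans]
        exact irr_mulEquiv eL.symm hirr
      · intro μ _ hμ
        exact irr_inner_ne (irr_mul_linear hϑ (μ.comp (QuotientGroup.mk' L'))) hϑ fun e => hμ (hone μ e)
      · simp

end Cfsg.Agent.S0857
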