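import Cfsg.Statements.S0890
import Cfsg.Agent.Char.ExtCrit
import Cfsg.Agent.Char.Clifford
import Cfsg.Agent.Solv.MinimalNormal
import Mathlib.GroupTheory.FiniteAbelian.Duality
import Mathlib.GroupTheory.Nilpotent

set_option autoImplicit false
open Cfsg

namespace Cfsg.Agent.S0890

open scoped ComplexConjugate

section quot
variable {Q : Type*} [Group Q] [Finite Q]

theorem card_sup_split (V S : Subgroup Q) [V.Normal] (h : V ⊓ S = ⊥) :
    Nat.card ↥(V ⊔ S) = Nat.card V * Nat.card S := by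
  rw [← Nat.card_prod]
  symm
  refine Nat.card_congr (Equiv.ofBijective (fun x : V × S =>
    (⟨(x.1 : Q) * x.2, Subgroup.mul_mem_sup x.1.2 x.2.2⟩ : ↥(V ⊔ S))) ⟨?_, ?_⟩)
  · intro a b hab
    exact Subgroup.mul_injective_of_disjoint (disjoint_iff.2 h) (congrArg Subtype.val hab)
  · rintro ⟨x, hx⟩
    obtain ⟨y, hy, z, hz, hyz⟩ := Subgroup.mem_sup_of_normal_left.1 hx
    exact ⟨(⟨y, hy⟩, ⟨z, hz⟩), Subtype.ext hyz⟩

theorem structure_quot [Group.IsSolvable Q] [Nontrivial Q] (Hb : Subgroup Q) (hHb : Hb ≠ ⊥)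
    (hcore : ∀ X : Subgroup Q, X.Normal → X ≤ Hb → X = ⊥)
    (hmax : ∀ S : Subgroup Q, Hb < S → S = ⊤) :
    ∃ (V Db : Subgroup Q) (p q : ℕ), p.Prime ∧ q.Prime ∧ p ≠ q ∧ V.Normal ∧ (V ⊔ Db).Normal ∧
      Db ≤ Hb ∧ Db ≠ ⊥ ∧ V ⊓ Hb = ⊥ ∧ Hb.index = Nat.card V ∧ IsMulCommutative Db ∧
      (∃ k, Nat.card V = p ^ k) ∧ (∃ k, Nat.card Db = q ^ k) := by
  obtain ⟨V, p, hp, hV, hVc, -, hVp⟩ := CfsgLib.Solv.exists_minimal_normal_pGroup (G := Q)
  haveI := Fact.mk hp
  haveI := hV.1
  have hVnle : ¬ V ≤ Hb := fun h => hV.2.1 (hcore V hV.1 h)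
  have hsup : V ⊔ Hb = ⊤ := hmax _ (lt_of_le_not_ge le_sup_right fun h => hVnle (le_sup_left.trans h))
  have hnorm : ∀ X : Subgroup Q, (∀ h ∈ Hb, ∀ x ∈ X, h * x * h⁻¹ ∈ X) →
      (∀ v ∈ V, ∀ x ∈ X, v * x * v⁻¹ ∈ X) → X.Normal := by
    intro X h1 h2
    refine ⟨fun x hx g => ?_⟩
    obtain ⟨v, hv, h, hh, rfl⟩ := Subgroup.mem_sup_of_normal_left.1 (hsup ▸ Subgroup.mem_top g)
    have := h2 v hv _ (h1 h hh x hx)
    simpa [mul_assoc] using this
  have hVcomm : ∀ a ∈ V, ∀ b ∈ V, a * b = b * a := fun a ha b hb =>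
    congrArg Subtype.val (hVc.is_comm.comm ⟨a, ha⟩ ⟨b, hb⟩)
  have hVH : V ⊓ Hb = ⊥ := by
    refine hcore _ (hnorm _ (fun h hh x hx => ⟨hV.1.conj_mem x hx.1 h,
      Hb.mul_mem (Hb.mul_mem hh hx.2) (Hb.inv_mem hh)⟩) fun v hv x hx => ?_) inf_le_right
    rwa [hVcomm v hv x hx.1, mul_inv_cancel_right]
  have hidx : Hb.index = Nat.card V := by
    have h1 := card_sup_split V Hb hVH
    rw [hsup, Subgroup.card_top, ← Subgroup.index_mul_card Hb] at h1
    exact Nat.eq_of_mul_eq_mul_right Nat.card_pos h1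
  haveI : Nontrivial Hb := Hb.nontrivial_iff_ne_bot.2 hHb
  obtain ⟨D0, q, hq, hD0, hD0c, -, hD0q⟩ := CfsgLib.Solv.exists_minimal_normal_pGroup (G := Hb)
  haveI := Fact.mk hq
  set Db : Subgroup Q := D0.map Hb.subtype with hDb
  have hDle : Db ≤ Hb := Subgroup.map_subtype_le D0
  have hDne : Db ≠ ⊥ := fun h => hD0.2.1
    ((Subgroup.map_eq_bot_iff_of_injective _ Hb.subtype_injective).1 h)
  have hDconj : ∀ h ∈ Hb, ∀ x ∈ Db, h * x * h⁻¹ ∈ Db := by
    rintro h hh _ ⟨d, hd, rfl⟩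
    exact ⟨⟨h, hh⟩ * d * ⟨h, hh⟩⁻¹, hD0.1.conj_mem d hd _, rfl⟩
  have hDc : IsMulCommutative Db := ⟨⟨fun a b => by
    obtain ⟨_, a', ha', rfl⟩ := a
    obtain ⟨_, b', hb', rfl⟩ := b
    exact Subtype.ext (congrArg (fun z : Hb => (z : Q))
      (congrArg Subtype.val (hD0c.is_comm.comm ⟨a', ha'⟩ ⟨b', hb'⟩)))⟩⟩
  have hDq : IsPGroup q Db := hD0q.map _
  have hN : (V ⊔ Db).Normal := by
    refine hnorm _ (fun h hh x hx => ?_) (fun v hv x hx => ?_)
    · obtain ⟨y, hy, z, hz, rfl⟩ := Subgroup.mem_sup_of_normal_left.1 hx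
      have e : h * (y * z) * h⁻¹ = (h * y * h⁻¹) * (h * z * h⁻¹) := by group
      rw [e]
      exact Subgroup.mul_mem_sup (hV.1.conj_mem y hy h) (hDconj h hh z hz)
    · exact (V ⊔ Db).mul_mem ((V ⊔ Db).mul_mem (Subgroup.mem_sup_left hv) hx)
        ((V ⊔ Db).inv_mem (Subgroup.mem_sup_left hv))
  obtain ⟨k, hk⟩ := IsPGroup.iff_card.1 hVp
  obtain ⟨l, hl⟩ := IsPGroup.iff_card.1 hDq
  refine ⟨V, Db, p, q, hp, hq, ?_, hV.1, hN, hDle, hDne, hVH, hidx, hDc, ⟨k, hk⟩, ⟨l, hl⟩⟩
  rintro rfl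
  have hVD : V ⊓ Db = ⊥ := le_bot_iff.1 ((inf_le_inf_left V hDle).trans hVH.le)
  have hNp : IsPGroup p ↥(V ⊔ Db) := IsPGroup.of_card (n := k + l) (by
    rw [card_sup_split V Db hVD, hk, hl, pow_add])
  haveI := hNp.isNilpotent
  set D1 : Subgroup ↥(V ⊔ Db) := Db.subgroupOf (V ⊔ Db)
  have hD1 : D1 < ⊤ := by
    refine lt_top_iff_ne_top.2 fun h => ?_
    have hle : V ≤ Db := fun v hv => by
      have : (⟨v, Subgroup.mem_sup_left hv⟩ : ↥(V ⊔ Db)) ∈ D1 := h ▸ Subgroup.mem_top _
      exact this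
    exact hV.2.1 (le_bot_iff.1 ((le_inf le_rfl hle).trans hVD.le))
  obtain ⟨m, hm, hm'⟩ := SetLike.exists_of_lt
    (Group.normalizerCondition_of_isNilpotent D1 hD1)
  obtain ⟨y, hy, z, hz, hyz⟩ := Subgroup.mem_sup_of_normal_left.1 m.2
  have hmn : ∀ d, d ∈ Db ↔ (m : Q) * d * (m : Q)⁻¹ ∈ Db := by
    intro d
    constructor
    · intro hd
      exact (Subgroup.mem_normalizer_iff.1 hm ⟨d, Subgroup.mem_sup_right hd⟩).1 hd
    · intro hd
      have hdm : d ∈ V ⊔ Db := by
        have := (V ⊔ Db).mul_mem ((V ⊔ Db).mul_mem ((V ⊔ Db).inv_mem m.2)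
          (Subgroup.mem_sup_right hd)) m.2
        simpa [mul_assoc] using this
      exact (Subgroup.mem_normalizer_iff.1 hm ⟨d, hdm⟩).2 hd
  have hHn : ∀ h ∈ Hb, h ∈ Subgroup.normalizer (Db : Set Q) := fun h hh =>
    Subgroup.mem_normalizer_iff.2 fun d => ⟨fun hd => hDconj h hh d hd, fun hd => by
      have := hDconj h⁻¹ (Hb.inv_mem hh) _ hd
      simpa [mul_assoc] using this⟩
  have hyn : y ∈ Subgroup.normalizer (Db : Set Q) := by
    have : (m : Q) ∈ Subgroup.normalizer (Db : Set Q) := Subgroup.mem_normalizer_iff.2 hmn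
    have h2 := (Subgroup.normalizer (Db : Set Q)).mul_mem this
      ((Subgroup.normalizer (Db : Set Q)).inv_mem (hHn z (hDle hz)))
    rwa [← hyz, mul_inv_cancel_right] at h2
  have hWn : (V ⊓ Subgroup.normalizer (Db : Set Q)).Normal := hnorm _
    (fun h hh x hx => ⟨hV.1.conj_mem x hx.1 h,
      Subgroup.mul_mem _ (Subgroup.mul_mem _ (hHn h hh) hx.2) (Subgroup.inv_mem _ (hHn h hh))⟩)
    (fun v hv x hx => by rwa [hVcomm v hv x hx.1, mul_inv_cancel_right])
  rcases hV.2.2 _ hWn inf_le_left with h | h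
  · have hy1 : y = 1 := by
      have : y ∈ V ⊓ Subgroup.normalizer (Db : Set Q) := ⟨hy, hyn⟩
      rwa [h, Subgroup.mem_bot] at this
    exact hm' (show (m : Q) ∈ Db by rw [← hyz, hy1, one_mul]; exact hz)
  · refine hDne (hcore Db (hnorm Db hDconj fun v hv x hx => ?_) hDle)
    exact (Subgroup.mem_normalizer_iff.1 ((inf_eq_left.1 h) hv) x).1 hx

theorem card_comap_mk {G : Type*} [Group G] [Finite G] (C : Subgroup G) [C.Normal]
    (S : Subgroup (G ⧸ C)) :
    Nat.card (S.comap (QuotientGroup.mk' C)) = Nat.card S * Nat.card C := by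
  have h1 : (S.comap (QuotientGroup.mk' C)).index = S.index :=
    Subgroup.index_comap_of_surjective S (QuotientGroup.mk'_surjective C)
  have h2 := Subgroup.index_mul_card (S.comap (QuotientGroup.mk' C))
  have h3 := Subgroup.index_mul_card S
  have h4 := Subgroup.index_mul_card C
  rw [Subgroup.index_eq_card C] at h4
  rw [h1, ← h4, ← h3, mul_assoc] at h2
  exact Nat.eq_of_mul_eq_mul_left (Nat.pos_of_ne_zero Subgroup.index_ne_zero_of_finite) h2

end quot

section twist
variable {K : Type*} [Group K] [Fintype K] {A : Type*} [CommGroup A] [Finite A]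

open Classical in
theorem norm_ker_eq (ν : K →* A) (hν : Function.Surjective ν) {ψ : K → ℂ} (hψ : IsIrrCharacter K ψ) :
    ∃ s : ℕ, s ∣ Nat.card A ∧ ∑ x : K, (if x ∈ ν.ker then Complex.normSq (ψ x) else 0) =
      (s : ℝ) * Nat.card ν.ker := by
  classical
  haveI : Fintype (A →* ℂˣ) := by
    haveI : Finite (A →* ℂˣ) := Finite.of_equiv A
      (CommGroup.monoidHom_mulEquiv_of_hasEnoughRootsOfUnity A ℂ).some.symm.toEquiv
    exact Fintype.ofFinite _
  let S : Subgroup (A →* ℂˣ) :=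
    { carrier := {l | ∀ x, (l (ν x) : ℂ) * ψ x = ψ x}
      one_mem' := fun x => by simp
      mul_mem' := fun {a b} ha hb x => by
        rw [MonoidHom.mul_apply, Units.val_mul, mul_assoc, hb x, ha x]
      inv_mem' := fun {a} ha x => by
        rw [MonoidHom.inv_apply]
        conv_lhs => rw [← ha x, ← mul_assoc, Units.inv_mul, one_mul] }
  refine ⟨Nat.card S, ?_, ?_⟩
  · have := Subgroup.card_subgroup_dvd_card S
    rwa [CommGroup.card_monoidHom_of_hasEnoughRootsOfUnity A ℂ] at this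
  have horth : ∀ a : A, ∑ l : A →* ℂˣ, (l a : ℂ) = if a = 1 then (Nat.card A : ℂ) else 0 := by
    intro a
    split
    next h =>
      subst h
      rw [Finset.sum_congr rfl (fun (l : A →* ℂˣ) _ => by rw [map_one, Units.val_one]),
        Finset.sum_const, Finset.card_univ, ← Nat.card_eq_fintype_card,
        CommGroup.card_monoidHom_of_hasEnoughRootsOfUnity A ℂ, nsmul_one]
    next h =>
      obtain ⟨μ, hμ⟩ := CommGroup.exists_apply_ne_one_of_hasEnoughRootsOfUnity A ℂ h
      have he : (μ a : ℂ) * ∑ l : A →* ℂˣ, (l a : ℂ) = ∑ l : A →* ℂˣ, (l a : ℂ) := by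
        rw [Finset.mul_sum]
        exact Fintype.sum_equiv (Equiv.mulLeft μ) _ _ fun l => by simp
      by_contra hne
      exact hμ (Units.ext (mul_right_cancel₀ hne (he.trans (one_mul _).symm)))
  have hterm : ∀ l : A →* ℂˣ, ∑ x : K, (l (ν x) : ℂ) * (ψ x * conj (ψ x)) =
      if l ∈ S then (Nat.card K : ℂ) else 0 := by
    intro l
    have h1 := CfsgLib.Char.irr_inner (CfsgLib.Char.irr_mul_linear hψ (l.comp ν)) hψ
    rw [CfsgLib.Char.classInner_def] at h1
    have hK : (Nat.card K : ℂ) ≠ 0 := Nat.cast_ne_zero.2 Nat.card_pos.ne'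
    have hiff : ((fun g => ψ g * ((l.comp ν) g : ℂ)) = ψ) ↔ l ∈ S := by
      rw [funext_iff]
      exact forall_congr' fun x => by rw [MonoidHom.comp_apply, mul_comm]
    simp only [hiff] at h1
    rw [inv_mul_eq_iff_eq_mul₀ hK] at h1
    calc ∑ x : K, (l (ν x) : ℂ) * (ψ x * conj (ψ x))
        = ∑ x : K, ψ x * ((l.comp ν) x : ℂ) * conj (ψ x) :=
          Finset.sum_congr rfl fun x _ => by rw [MonoidHom.comp_apply]; ring
      _ = _ := by rw [h1]; split <;> simp
  have hA : Nat.card K = Nat.card A * Nat.card ν.ker := by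
    rw [Subgroup.card_eq_card_quotient_mul_card_subgroup ν.ker,
      Nat.card_congr (QuotientGroup.quotientKerEquivOfSurjective ν hν).toEquiv]
  have hmain : (Nat.card A : ℂ) *
      (∑ x : K, if x ∈ ν.ker then (Complex.normSq (ψ x) : ℂ) else 0) =
      (Nat.card S : ℂ) * Nat.card K := by
    have h2 := Finset.sum_comm (s := (Finset.univ : Finset (A →* ℂˣ))) (t := (Finset.univ : Finset K))
      (f := fun l x => (l (ν x) : ℂ) * (ψ x * conj (ψ x)))
    simp only [hterm] at h2
    simp only [← Finset.sum_mul, horth, Complex.mul_conj] at h2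
    rw [← Finset.sum_filter, Finset.sum_const, nsmul_eq_mul] at h2
    have hS : (Finset.univ.filter fun l => l ∈ S).card = Nat.card S := by
      rw [Nat.card_eq_fintype_card, ← Fintype.card_subtype]
    rw [hS] at h2
    rw [h2, Finset.mul_sum]
    exact Finset.sum_congr rfl fun x _ => by
      by_cases hx : ν x = 1
      · rw [if_pos hx, if_pos (MonoidHom.mem_ker.2 hx)]
      · rw [if_neg hx, if_neg (fun h => hx (MonoidHom.mem_ker.1 h)), mul_zero, zero_mul]
  have hA0 : (Nat.card A : ℝ) ≠ 0 := Nat.cast_ne_zero.2 Nat.card_pos.ne'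
  have hmainR : (Nat.card A : ℝ) * (∑ x : K, if x ∈ ν.ker then Complex.normSq (ψ x) else 0) =
      (Nat.card S : ℝ) * Nat.card K := by
    apply Complex.ofReal_injective
    push_cast [apply_ite]
    exact hmain
  apply mul_left_cancel₀ hA0
  rw [hmainR, hA]; push_cast; ring

end twist

theorem irr_normSq {K : Type*} [Group K] [Fintype K] {ψ : K → ℂ} (hψ : IsIrrCharacter K ψ) :
    ∑ x : K, Complex.normSq (ψ x) = (Nat.card K : ℝ) := by
  have h1 := CfsgLib.Char.irr_inner_self hψ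
  rw [CfsgLib.Char.classInner_def, inv_mul_eq_iff_eq_mul₀
    (Nat.cast_ne_zero.2 Nat.card_pos.ne'), mul_one] at h1
  apply Complex.ofReal_injective
  push_cast
  simp only [← Complex.mul_conj]
  exact h1


/-- Let L ≤ H < G with L normal in G, H a maximal subgroup and G / L solvable. Let ϑ be an irreducible character of H whose restriction to L is irreducible and whose induction χ to G is irreducible. Then there is a normal subgroup M of G containing L such that the restriction of χ to M is not a natural-number multiple of a single irreducible character of M. -/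
theorem result {G : Type*} [Group G] [Fintype G] (L H : Subgroup G) [L.Normal] (hLH : L ≤ H) (hmax : IsCoatom H) (hsolv : Group.IsSolvable (G ⧸ L)) (ϑ : H → ℂ) (hϑ : Cfsg.IsIrrCharacter H ϑ) (hϑL : Cfsg.IsIrrCharacter L (fun x : L => ϑ ⟨(x : G), hLH x.2⟩)) (hind : Cfsg.IsIrrCharacter G (Cfsg.indFun H ϑ)) : ∃ M : Subgroup G, M.Normal ∧ L ≤ M ∧ ¬ ∃ (φ : M → ℂ) (e : ℕ), Cfsg.IsIrrCharacter M φ ∧ (fun m : M => Cfsg.indFun H ϑ m) = (e : ℂ) • φ := by
  classical
  by_contra hcon
  push Not at hcon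
  set C := H.normalCore with hCdef
  haveI : C.Normal := H.normalCore_normal
  have hCH : C ≤ H := H.normalCore_le
  have hLC : L ≤ C := Subgroup.normal_le_normalCore.2 hLH
  set T : G → ℂ := extendByZero H ϑ with hTdef
  have hχ : ∀ x, indFun H ϑ x = (Nat.card H : ℂ)⁻¹ * ∑ g : G, T (g⁻¹ * x * g) := fun x => rfl
  set χ : G → ℂ := indFun H ϑ with hχdef
  have hH0 : (Nat.card H : ℝ) ≠ 0 := Nat.cast_ne_zero.2 Nat.card_pos.ne'
  -- restrictions of ϑ to subgroups between L and H
  have hres : ∀ E : Subgroup G, L ≤ E → ∀ hE : E ≤ H,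
      IsIrrCharacter E (fun x : E => ϑ ⟨(x : G), hE x.2⟩) := by
    intro E hLE hE
    refine CfsgLib.Char.irr_of_res_irr (L.subgroupOf E) ?_ ?_
    · exact CfsgLib.Char.isCharacter_comp (Subgroup.inclusion hE)
        (CfsgLib.Char.isCharacter_of_isIrr hϑ)
    · haveI := Fintype.ofFinite L
      haveI := Fintype.ofFinite (L.subgroupOf E)
      exact CfsgLib.Char.irr_mulEquiv (Subgroup.subgroupOfEquivOfLe hLE) hϑL
  have hnormE : ∀ E : Subgroup G, L ≤ E → E ≤ H →
      ∑ x : G, (if x ∈ E then Complex.normSq (T x) else 0) = (Nat.card E : ℝ) := by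
    intro E hLE hE
    haveI := Fintype.ofFinite E
    rw [CfsgLib.Char.sum_subgroup E _ (fun g hg => if_neg hg), ← irr_normSq (hres E hLE hE)]
    refine Finset.sum_congr rfl fun x _ => ?_
    rw [if_pos x.2, hTdef, CfsgLib.Char.extendByZero_mem' H ϑ (hE x.2)]
  have hT0 : ∀ x, x ∉ H → T x = 0 := fun x hx => CfsgLib.Char.extendByZero_not_mem H ϑ hx
  -- invariance of the restriction to the core
  have hconjC : ∀ (g : G), ∀ x ∈ C, g * x * g⁻¹ ∈ C := fun g x hx =>
    Subgroup.Normal.conj_mem inferInstance x hx g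
  have hχC : ∀ x ∈ C, χ x = (H.index : ℂ) * T x := by
    haveI := Fintype.ofFinite C
    set η : C → ℂ := fun c => ϑ ⟨(c : G), hCH c.2⟩ with hη
    have hηi : IsIrrCharacter C η := hres C hLC hCH
    have hTη : ∀ (c : C) (g : G), T (g * c * g⁻¹) = CfsgLib.Char.conjN η g c := fun c g =>
      CfsgLib.Char.extendByZero_mem' H ϑ (hCH (hconjC g c c.2))
    have hr : (fun c : C => χ c) = (Nat.card H : ℂ)⁻¹ • ∑ g : G, CfsgLib.Char.conjN η g := by
      ext c
      rw [hχ, Pi.smul_apply, Finset.sum_apply, smul_eq_mul]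
      congr 1
      refine Fintype.sum_equiv (Equiv.inv G) _ _ fun g => ?_
      rw [Equiv.inv_apply, ← hTη c g⁻¹, inv_inv]
    obtain ⟨φ, e, hφ, he⟩ := hcon C inferInstance hLC
    have hall : ∀ k : G, CfsgLib.Char.conjN η k = φ := by
      intro k
      have hk := CfsgLib.Char.irr_conjN hηi k
      by_contra hne
      have h1 : classInner (fun c : C => χ c) (CfsgLib.Char.conjN η k) = 0 := by
        rw [he, CfsgLib.Char.classInner_smul_left, CfsgLib.Char.irr_inner hφ hk,
          if_neg (fun h => hne h.symm), mul_zero]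
      rw [hr, CfsgLib.Char.classInner_smul_left, CfsgLib.Char.classInner_sum_left,
        Finset.sum_congr rfl fun x _ => CfsgLib.Char.irr_inner
          (CfsgLib.Char.irr_conjN hηi x) hk, Finset.sum_boole] at h1
      rcases mul_eq_zero.1 h1 with h | h
      · exact Nat.card_pos.ne' (Nat.cast_eq_zero.1 (inv_eq_zero.1 h))
      · exact Finset.card_ne_zero.2 ⟨k, by simp⟩ (Nat.cast_eq_zero.1 h)
    intro x hx
    have h2 := congrFun hr ⟨x, hx⟩
    simp only at h2
    rw [h2, Pi.smul_apply, Finset.sum_apply, Finset.sum_congr rfl (fun g _ =>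
      show CfsgLib.Char.conjN η g ⟨x, hx⟩ = CfsgLib.Char.conjN η 1 ⟨x, hx⟩ by
        rw [hall g, hall 1]), Finset.sum_const, Finset.card_univ, CfsgLib.Char.conjN_one,
      nsmul_eq_mul, smul_eq_mul, ← Nat.card_eq_fintype_card, ← Subgroup.index_mul_card H,
      hTdef, CfsgLib.Char.extendByZero_mem' H ϑ (hCH hx)]
    have : (Nat.card H : ℂ) ≠ 0 := Nat.cast_ne_zero.2 Nat.card_pos.ne'
    push_cast
    field_simp
    rfl
  -- H is not normal
  have hCne : C ≠ H := by
    intro h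
    have hsum := irr_normSq hind
    have hout : ∀ x, x ∉ C → χ x = 0 := fun x hx => by
      rw [hχ, Finset.sum_eq_zero fun g _ => hT0 _ fun hg => hx ?_, mul_zero]
      have := hconjC g _ (h ▸ hg)
      simpa [mul_assoc] using this
    have hsum2 : ∑ x : G, Complex.normSq (χ x) = (H.index : ℝ) ^ 2 * Nat.card C := by
      rw [← hnormE C hLC hCH, Finset.mul_sum]
      refine Finset.sum_congr rfl fun x _ => ?_
      by_cases hx : x ∈ C
      · rw [if_pos hx, hχC x hx, Complex.normSq_mul, Complex.normSq_natCast]; ring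
      · rw [if_neg hx, hout x hx, map_zero, mul_zero]
    have h3 : (H.index : ℝ) ^ 2 * Nat.card C = (H.index * Nat.card H : ℕ) := by
      rw [← hsum2, hsum, Subgroup.index_mul_card]
    rw [h] at h3
    push_cast at h3
    have h4 : (H.index : ℝ) = 1 := by
      have h5 : (0 : ℝ) < H.index :=
        Nat.cast_pos.2 (Nat.pos_of_ne_zero Subgroup.index_ne_zero_of_finite)
      have := mul_right_cancel₀ hH0 h3
      nlinarith
    exact hmax.1 (Subgroup.index_eq_one.1 (by exact_mod_cast h4))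
  -- the quotient by the core
  haveI : Group.IsSolvable (G ⧸ C) := by
    haveI := hsolv
    exact solvable_of_surjective (f := QuotientGroup.map L C (MonoidHom.id G) hLC)
      (fun y => by obtain ⟨g, rfl⟩ := QuotientGroup.mk'_surjective C y; exact ⟨g, rfl⟩)
  set π := QuotientGroup.mk' C with hπ
  have hπs : Function.Surjective π := QuotientGroup.mk'_surjective C
  set Hb := H.map π
  have hcomapH : Hb.comap π = H := by
    rw [Subgroup.comap_map_eq, hπ, QuotientGroup.ker_mk', sup_eq_left.2 hCH]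
  haveI : Nontrivial (G ⧸ C) := by
    rw [← not_subsingleton_iff_nontrivial]
    intro hs
    exact hmax.1 (top_le_iff.1 (le_trans (le_of_eq (QuotientGroup.subgroup_eq_top_of_subsingleton C hs).symm) hCH))
  have hHb : Hb ≠ ⊥ := fun h => hCne (le_antisymm hCH fun x hx => by
    have := Subgroup.mem_map_of_mem π hx
    change π x ∈ Hb at this
    rw [h, Subgroup.mem_bot] at this
    exact (QuotientGroup.eq_one_iff x).1 this)
  have hcore : ∀ X : Subgroup (G ⧸ C), X.Normal → X ≤ Hb → X = ⊥ := by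
    intro X hX hXH
    haveI := hX
    have : X.comap π ≤ C := Subgroup.normal_le_normalCore.2
      ((Subgroup.comap_mono hXH).trans hcomapH.le)
    refine eq_bot_iff.2 fun y hy => ?_
    obtain ⟨g, rfl⟩ := hπs y
    exact Subgroup.mem_bot.2 ((QuotientGroup.eq_one_iff g).2 (this hy))
  have hmax' : ∀ S : Subgroup (G ⧸ C), Hb < S → S = ⊤ := by
    intro S hS
    refine Subgroup.comap_injective hπs ?_
    rw [Subgroup.comap_top]
    exact hmax.2 _ (hcomapH ▸ (Subgroup.comap_lt_comap_of_surjective hπs).2 hS)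
  obtain ⟨V, Db, p, q, hp, hq, hpq, hVn, hNn, hDH, hDne, hVH, hidx, hDc, ⟨k, hk⟩, ⟨l, hl⟩⟩ :=
    structure_quot Hb hHb hcore hmax'
  haveI := hVn
  haveI := hNn
  set N := (V ⊔ Db).comap π with hNdef
  set D := Db.comap π with hDdef
  set M := V.comap π with hMdef
  have hVD : V ⊓ Db = ⊥ := le_bot_iff.1 ((inf_le_inf_left V hDH).trans hVH.le)
  have hcardN : Nat.card N = Nat.card V * Nat.card D := by
    rw [card_comap_mk, card_comap_mk, card_sup_split V Db hVD, mul_assoc]
  have hcardM : Nat.card M = Nat.card V * Nat.card C := card_comap_mk C V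
  have hHidx : H.index = Nat.card V := by
    rw [← hidx, ← Subgroup.index_comap_of_surjective Hb hπs, hcomapH]
  have hDleH : D ≤ H := (Subgroup.comap_mono hDH).trans hcomapH.le
  have hCD : C ≤ D := fun x hx => by
    show π x ∈ Db
    rw [show π x = 1 from (QuotientGroup.eq_one_iff x).2 hx]; exact Db.one_mem
  have hNH : ∀ x, x ∈ N → x ∈ H → x ∈ D := by
    intro x hxN hxH
    obtain ⟨y, hy, z, hz, hyz⟩ := Subgroup.mem_sup_of_normal_left.1 (show π x ∈ V ⊔ Db from hxN)
    have hyH : y ∈ Hb := by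
      have := Hb.mul_mem (Subgroup.mem_map_of_mem π hxH) (Hb.inv_mem (hDH hz))
      rwa [← hyz, mul_inv_cancel_right] at this
    have hy1 : y ∈ V ⊓ Hb := ⟨hy, hyH⟩
    rw [hVH, Subgroup.mem_bot] at hy1
    show π x ∈ Db
    rw [← hyz, hy1, one_mul]; exact hz
  have hDN : D ≤ N := Subgroup.comap_mono le_sup_right
  have hMN : M ≤ N := Subgroup.comap_mono le_sup_left
  have hMH : ∀ x, x ∈ M → x ∈ H → x ∈ C := fun x hxM hxH => by
    have : π x ∈ V ⊓ Hb := ⟨hxM, Subgroup.mem_map_of_mem π hxH⟩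
    rw [hVH, Subgroup.mem_bot] at this
    exact (QuotientGroup.eq_one_iff x).1 this
  obtain ⟨ψ, f, hψ, hf⟩ := hcon N inferInstance (hLC.trans (hCD.trans hDN))
  haveI := Fintype.ofFinite N
  have hχN : ∀ x : N, χ x = (f : ℂ) * ψ x := fun x => congrFun hf x
  -- the abelian q-quotient of N
  set ν0 : N →* (G ⧸ C) ⧸ V := (QuotientGroup.mk' V).comp (π.comp N.subtype) with hν0
  have hrange : ∀ a : ν0.range, ∃ d ∈ Db, QuotientGroup.mk' V d = (a : (G ⧸ C) ⧸ V) := by
    rintro ⟨_, ⟨x, rfl⟩⟩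
    obtain ⟨y, hy, z, hz, hyz⟩ := Subgroup.mem_sup_of_normal_left.1 (show π x ∈ V ⊔ Db from x.2)
    refine ⟨z, hz, ?_⟩
    show _ = QuotientGroup.mk' V (π x)
    rw [← hyz, map_mul, show QuotientGroup.mk' V y = 1 from (QuotientGroup.eq_one_iff y).2 hy,
      one_mul]
  letI : CommGroup ν0.range := { (inferInstance : Group ν0.range) with
    mul_comm := fun a b => by
      obtain ⟨d, hd, hda⟩ := hrange a
      obtain ⟨d', hd', hdb⟩ := hrange b
      have hcc : d * d' = d' * d :=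
        congrArg Subtype.val (hDc.is_comm.comm ⟨d, hd⟩ ⟨d', hd'⟩)
      apply Subtype.ext
      rw [Subgroup.coe_mul, Subgroup.coe_mul, ← hda, ← hdb, ← map_mul, ← map_mul, hcc] }
  have hAdvd : Nat.card ν0.range ∣ q ^ l := by
    have hle : ν0.range ≤ Db.map (QuotientGroup.mk' V) := fun a ha => by
      obtain ⟨d, hd, hda⟩ := hrange ⟨a, ha⟩
      exact ⟨d, hd, hda⟩
    exact (Subgroup.card_dvd_of_le hle).trans (hl ▸ Subgroup.card_map_dvd Db (QuotientGroup.mk' V))
  obtain ⟨s, hs, hsum⟩ := norm_ker_eq ν0.rangeRestrict ν0.rangeRestrict_surjective hψ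
  have hker : ∀ x : N, x ∈ ν0.rangeRestrict.ker ↔ (x : G) ∈ M := fun x => by
    rw [MonoidHom.ker_rangeRestrict, MonoidHom.mem_ker]
    exact QuotientGroup.eq_one_iff (π x)
  have hkerc : Nat.card ν0.rangeRestrict.ker = Nat.card M :=
    Nat.card_congr
      { toFun := fun x => ⟨x.1.1, (hker x.1).1 x.2⟩
        invFun := fun x => ⟨⟨x.1, hMN x.2⟩, (hker ⟨x.1, hMN x.2⟩).2 x.2⟩
        left_inv := fun x => rfl
        right_inv := fun x => rfl }
  have hMsum : (f : ℝ) ^ 2 * (s * Nat.card M) = (H.index : ℝ) ^ 2 * Nat.card C := by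
    rw [← hnormE C hLC hCH, ← hkerc, ← hsum, Finset.mul_sum, Finset.mul_sum]
    have hstep : ∀ x : G, (H.index : ℝ) ^ 2 * (if x ∈ C then Complex.normSq (T x) else 0) =
        if x ∈ M then Complex.normSq (χ x) else 0 := by
      intro x
      by_cases hx : x ∈ C
      · rw [if_pos hx, if_pos (show x ∈ M from show π x ∈ V by
          rw [show π x = 1 from (QuotientGroup.eq_one_iff x).2 hx]; exact V.one_mem), hχC x hx,
          Complex.normSq_mul, Complex.normSq_natCast]
        ring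
      · rw [if_neg hx, mul_zero]
        split
        next hxM =>
          haveI : M.Normal := hVn.comap π
          rw [hχ, Finset.sum_eq_zero fun g _ => hT0 _ fun hg => hx ?_, mul_zero, map_zero]
          have h1 : g⁻¹ * x * g ∈ C := hMH _ (by
            simpa using Subgroup.Normal.conj_mem inferInstance x hxM g⁻¹) hg
          simpa [mul_assoc] using hconjC g _ h1
        next => rfl
    rw [Finset.sum_congr rfl (fun x _ => hstep x), CfsgLib.Char.sum_subgroup N _
      (fun g hg => if_neg fun h => hg (hMN h))]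
    refine Finset.sum_congr rfl fun x _ => ?_
    by_cases hx : (x : G) ∈ M
    · rw [if_pos hx, if_pos ((hker x).2 hx), hχN, Complex.normSq_mul, Complex.normSq_natCast]
      ring
    · rw [if_neg hx, if_neg fun h => hx ((hker x).1 h), mul_zero]
  have hfs : f ^ 2 * s = Nat.card V := by
    have h1 : (f : ℝ) ^ 2 * s * (Nat.card V * Nat.card C) = Nat.card V * (Nat.card V * Nat.card C) := by
      rw [hcardM, hHidx] at hMsum
      push_cast at hMsum
      linear_combination hMsum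
    have h2 := mul_right_cancel₀ (mul_ne_zero (Nat.cast_ne_zero.2 Nat.card_pos.ne')
      (Nat.cast_ne_zero.2 Nat.card_pos.ne')) h1
    exact_mod_cast h2
  have hs1 : s = 1 :=
    Nat.eq_one_of_dvd_coprimes (Nat.Coprime.pow k l ((Nat.coprime_primes hp hq).2 hpq))
      (hk ▸ hfs ▸ Dvd.intro_left _ rfl) (hs.trans hAdvd)
  rw [hs1, mul_one] at hfs
  -- the Cauchy-Schwarz bound
  let E : G → Subgroup G := fun c => D ⊓ D.map (MulAut.conj c).toMonoidHom
  have hEmem : ∀ c y, y ∈ E c ↔ y ∈ D ∧ c⁻¹ * y * c ∈ D := by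
    intro c y
    show y ∈ D ∧ y ∈ D.map (MulAut.conj c).toMonoidHom ↔ _
    refine and_congr_right fun _ => ⟨?_, fun h => ⟨_, h, by simp [mul_assoc]⟩⟩
    rintro ⟨d, hd, rfl⟩
    simpa [mul_assoc] using hd
  have hLE : ∀ c, L ≤ E c := fun c x hx => (hEmem c x).2 ⟨hCD (hLC hx),
    hCD (hLC (by simpa using Subgroup.Normal.conj_mem ‹L.Normal› x hx c⁻¹))⟩
  let a : G → G → ℝ := fun g x => if x ∈ N then ‖T (g⁻¹ * x * g)‖ else 0
  have hsupp : ∀ g x, a g x ≠ 0 → x ∈ N ∧ g⁻¹ * x * g ∈ D := by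
    intro g x h
    by_cases hx : x ∈ N
    · refine ⟨hx, hNH _ ?_ ?_⟩
      · haveI : N.Normal := hNn.comap π
        simpa using Subgroup.Normal.conj_mem inferInstance x hx g⁻¹
      · by_contra hH'
        exact h (by simp [a, hx, hT0 _ hH'])
    · exact absurd (by simp [a, hx]) h
  have hpair : ∀ g g', ∑ x : G, a g x * a g' x ≤
      ((Nat.card (E (g⁻¹ * g')) : ℝ) + Nat.card (E (g'⁻¹ * g))) / 2 := by
    intro g g'
    have key : ∀ u v : G, ∑ x : G, (if x ∈ N ∧ u⁻¹ * x * u ∈ D ∧ v⁻¹ * x * v ∈ D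
        then a u x ^ 2 else 0) ≤ (Nat.card (E (u⁻¹ * v)) : ℝ) := by
      intro u v
      rw [← hnormE (E (u⁻¹ * v)) (hLE _) (inf_le_left.trans hDleH)]
      refine le_of_le_of_eq (Finset.sum_le_sum fun x _ => ?_)
        (Fintype.sum_equiv (MulAut.conj u⁻¹).toEquiv _ _ fun x => rfl)
      simp only [MulEquiv.toEquiv_eq_coe, EquivLike.coe_coe, MulAut.conj_apply, inv_inv]
      split_ifs with h h' h'
      · rw [show a u x = ‖T (u⁻¹ * x * u)‖ from if_pos h.1, Complex.sq_norm]
      · exact absurd ((hEmem _ _).2 ⟨h.2.1, by simpa [mul_assoc] using h.2.2⟩) h'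
      · exact Complex.normSq_nonneg _
      · exact le_rfl
    have h1 := key g g'
    have h2 := key g' g
    calc ∑ x : G, a g x * a g' x ≤ ∑ x : G,
          ((if x ∈ N ∧ g⁻¹ * x * g ∈ D ∧ g'⁻¹ * x * g' ∈ D then a g x ^ 2 else 0) +
           (if x ∈ N ∧ g'⁻¹ * x * g' ∈ D ∧ g⁻¹ * x * g ∈ D then a g' x ^ 2 else 0)) / 2 := by
          refine Finset.sum_le_sum fun x _ => ?_
          by_cases h0 : a g x * a g' x = 0
          · rw [h0]
            have : ∀ (P : Prop) [Decidable P] (r : ℝ), 0 ≤ (if P then r ^ 2 else 0) :=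
              fun P _ r => by split <;> positivity
            linarith [this (x ∈ N ∧ g⁻¹ * x * g ∈ D ∧ g'⁻¹ * x * g' ∈ D) (a g x),
              this (x ∈ N ∧ g'⁻¹ * x * g' ∈ D ∧ g⁻¹ * x * g ∈ D) (a g' x)]
          · obtain ⟨ha, hb⟩ := mul_ne_zero_iff.1 h0
            rw [if_pos ⟨(hsupp g x ha).1, (hsupp g x ha).2, (hsupp g' x hb).2⟩,
              if_pos ⟨(hsupp g x ha).1, (hsupp g' x hb).2, (hsupp g x ha).2⟩]
            nlinarith [sq_nonneg (a g x - a g' x)]
      _ ≤ _ := by rw [← Finset.sum_div, Finset.sum_add_distrib]; linarith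
  have hchiN : ∑ x : G, (if x ∈ N then Complex.normSq (χ x) else 0) =
      (Nat.card V : ℝ) ^ 2 * Nat.card D := by
    rw [CfsgLib.Char.sum_subgroup N _ (fun g hg => if_neg hg), Finset.sum_congr rfl
      (fun (x : N) _ => by rw [if_pos x.2, hχN, Complex.normSq_mul, Complex.normSq_natCast]),
      ← Finset.mul_sum, irr_normSq hψ, hcardN]
    push_cast
    have : (f : ℝ) * f = Nat.card V := by exact_mod_cast (sq f).symm.trans hfs
    rw [this]; ring
  have hbound : (Nat.card H : ℝ) ^ 2 * ((Nat.card V : ℝ) ^ 2 * Nat.card D) ≤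
      (Nat.card G : ℝ) * ∑ c : G, (Nat.card (E c) : ℝ) := by
    rw [← hchiN, Finset.mul_sum]
    calc ∑ x : G, (Nat.card H : ℝ) ^ 2 * (if x ∈ N then Complex.normSq (χ x) else 0)
        ≤ ∑ x : G, (∑ g : G, a g x) * (∑ g : G, a g x) := by
          refine Finset.sum_le_sum fun x _ => ?_
          by_cases hx : x ∈ N
          · rw [if_pos hx, hχ, Complex.normSq_mul, map_inv₀, Complex.normSq_natCast,
              Complex.normSq_eq_norm_sq (∑ g : G, T (g⁻¹ * x * g))]
            have hn := norm_sum_le (Finset.univ : Finset G) fun g => T (g⁻¹ * x * g)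
            have : ∑ g : G, a g x = ∑ g : G, ‖T (g⁻¹ * x * g)‖ :=
              Finset.sum_congr rfl fun g _ => if_pos hx
            rw [this]
            field_simp
            nlinarith [norm_nonneg (∑ g : G, T (g⁻¹ * x * g))]
          · rw [if_neg hx, mul_zero]; exact mul_self_nonneg _
      _ = ∑ g : G, ∑ g' : G, ∑ x : G, a g x * a g' x := by
          simp only [Finset.sum_mul_sum]
          rw [Finset.sum_comm]
          exact Finset.sum_congr rfl fun g _ => Finset.sum_comm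
      _ ≤ ∑ g : G, ∑ g' : G, ((Nat.card (E (g⁻¹ * g')) : ℝ) + Nat.card (E (g'⁻¹ * g))) / 2 :=
          Finset.sum_le_sum fun g _ => Finset.sum_le_sum fun g' _ => hpair g g'
      _ = _ := by
          have e1 : ∀ g : G, ∑ g' : G, (Nat.card (E (g⁻¹ * g')) : ℝ) = ∑ c : G, (Nat.card (E c) : ℝ) :=
            fun g => Fintype.sum_equiv (Equiv.mulLeft g⁻¹) _ _ fun _ => rfl
          simp only [← Finset.sum_div, Finset.sum_add_distrib]
          conv_lhs => arg 1; arg 2; rw [Finset.sum_comm]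
          simp only [e1, Finset.sum_const, Finset.card_univ, nsmul_eq_mul,
            ← Nat.card_eq_fintype_card]
          ring
  have hGc : (Nat.card G : ℝ) = Nat.card V * Nat.card H := by
    rw [← hHidx]; exact_mod_cast (Subgroup.index_mul_card H).symm
  have hall : ∀ c : G, E c = D := by
    by_contra hne
    push Not at hne
    obtain ⟨c0, hc0⟩ := hne
    have hlt : ∑ c : G, (Nat.card (E c) : ℝ) < ∑ _c : G, (Nat.card D : ℝ) := by
      refine Finset.sum_lt_sum (fun c _ => Nat.cast_le.2 (Subgroup.card_le_of_le inf_le_left))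
        ⟨c0, Finset.mem_univ _, Nat.cast_lt.2 (lt_of_le_of_ne (Subgroup.card_le_of_le inf_le_left)
          fun h => hc0 (Subgroup.eq_of_le_of_card_ge inf_le_left h.ge))⟩
    rw [Finset.sum_const, Finset.card_univ, ← Nat.card_eq_fintype_card, nsmul_eq_mul] at hlt
    have hG0 : (0 : ℝ) < Nat.card G := Nat.cast_pos.2 Nat.card_pos
    have := mul_lt_mul_of_pos_left hlt hG0
    rw [hGc] at this hbound
    nlinarith
  have hDn : D.Normal := ⟨fun d hd g => by
    have := ((hEmem g⁻¹ d).1 (by rw [hall g⁻¹]; exact hd)).2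
    simpa using this⟩
  have hDC : D ≤ C := Subgroup.normal_le_normalCore.2 hDleH
  refine hDne (eq_bot_iff.2 fun y hy => ?_)
  obtain ⟨g, rfl⟩ := hπs y
  exact Subgroup.mem_bot.2 ((QuotientGroup.eq_one_iff g).2 (hDC hy))


end Cfsg.Agent.S0890
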