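import Cfsg.Statements.S0858
import Cfsg.Agent.S0890
import Cfsg.Agent.Char.Gallagher

set_option autoImplicit false
open Cfsg
open scoped CfsgLib.Char

namespace Cfsg.Agent.S0858

open scoped ComplexConjugate

universe u

section twist
variable {K : Type*} [Group K] [Fintype K] {A : Type*} [CommGroup A] [Finite A]

open Classical in
theorem norm_ker_eq (ν : K →* A) (hν : Function.Surjective ν) {ψ : K → ℂ} (hψ : IsIrrCharacter K ψ) :
    ∃ S : Subgroup (A →* ℂˣ), (∀ l : A →* ℂˣ, l ∈ S ↔ ∀ x, (l (ν x) : ℂ) * ψ x = ψ x) ∧ ∑ x : K, (if x ∈ ν.ker then Complex.normSq (ψ x) else 0) =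
      (Nat.card S : ℝ) * Nat.card ν.ker := by
  classical
  haveI : Fintype (A →* ℂˣ) := by
    haveI : Finite (A →* ℂˣ) := Finite.of_equiv A
      (CommGroup.monoidHom_mulEquiv_of_hasEnoughRootsOfUnity A ℂ).some.symm.toEquiv
    exact Fintype.ofFinite _
  let S : Subgroup (A →* ℂˣ) :=
    { carrier := {l | ∀ x, (l (ν x) : ℂ) * ψ x = ψ x}
      one_mem' := fun x => by simp
      mul_mem' := fun {a b} ha hb x => by
        rw [MonoidHom.mul_apply, Units.val_mul, mul_assoc, hb x, ha x]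
      inv_mem' := fun {a} ha x => by
        rw [MonoidHom.inv_apply]
        conv_lhs => rw [← ha x, ← mul_assoc, Units.inv_mul, one_mul] }
  refine ⟨S, fun l => Iff.rfl, ?_⟩
  have horth : ∀ a : A, ∑ l : A →* ℂˣ, (l a : ℂ) = if a = 1 then (Nat.card A : ℂ) else 0 := by
    intro a
    split
    next h =>
      subst h
      rw [Finset.sum_congr rfl (fun (l : A →* ℂˣ) _ => by rw [map_one, Units.val_one]),
        Finset.sum_const, Finset.card_univ, ← Nat.card_eq_fintype_card,
        CommGroup.card_monoidHom_of_hasEnoughRootsOfUnity A ℂ, nsmul_one]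
    next h =>
      obtain ⟨μ, hμ⟩ := CommGroup.exists_apply_ne_one_of_hasEnoughRootsOfUnity A ℂ h
      have he : (μ a : ℂ) * ∑ l : A →* ℂˣ, (l a : ℂ) = ∑ l : A →* ℂˣ, (l a : ℂ) := by
        rw [Finset.mul_sum]
        exact Fintype.sum_equiv (Equiv.mulLeft μ) _ _ fun l => by simp
      by_contra hne
      exact hμ (Units.ext (mul_right_cancel₀ hne (he.trans (one_mul _).symm)))
  have hterm : ∀ l : A →* ℂˣ, ∑ x : K, (l (ν x) : ℂ) * (ψ x * conj (ψ x)) =
      if l ∈ S then (Nat.card K : ℂ) else 0 := by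
    intro l
    have h1 := CfsgLib.Char.irr_inner (CfsgLib.Char.irr_mul_linear hψ (l.comp ν)) hψ
    rw [CfsgLib.Char.classInner_def] at h1
    have hK : (Nat.card K : ℂ) ≠ 0 := Nat.cast_ne_zero.2 Nat.card_pos.ne'
    have hiff : ((fun g => ψ g * ((l.comp ν) g : ℂ)) = ψ) ↔ l ∈ S := by
      rw [funext_iff]
      exact forall_congr' fun x => by rw [MonoidHom.comp_apply, mul_comm]
    simp only [hiff] at h1
    rw [inv_mul_eq_iff_eq_mul₀ hK] at h1
    calc ∑ x : K, (l (ν x) : ℂ) * (ψ x * conj (ψ x))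
        = ∑ x : K, ψ x * ((l.comp ν) x : ℂ) * conj (ψ x) :=
          Finset.sum_congr rfl fun x _ => by rw [MonoidHom.comp_apply]; ring
      _ = _ := by rw [h1]; split <;> simp
  have hA : Nat.card K = Nat.card A * Nat.card ν.ker := by
    rw [Subgroup.card_eq_card_quotient_mul_card_subgroup ν.ker,
      Nat.card_congr (QuotientGroup.quotientKerEquivOfSurjective ν hν).toEquiv]
  have hmain : (Nat.card A : ℂ) *
      (∑ x : K, if x ∈ ν.ker then (Complex.normSq (ψ x) : ℂ) else 0) =
      (Nat.card S : ℂ) * Nat.card K := by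
    have h2 := Finset.sum_comm (s := (Finset.univ : Finset (A →* ℂˣ))) (t := (Finset.univ : Finset K))
      (f := fun l x => (l (ν x) : ℂ) * (ψ x * conj (ψ x)))
    simp only [hterm] at h2
    simp only [← Finset.sum_mul, horth, Complex.mul_conj] at h2
    rw [← Finset.sum_filter, Finset.sum_const, nsmul_eq_mul] at h2
    have hS : (Finset.univ.filter fun l => l ∈ S).card = Nat.card S := by
      rw [Nat.card_eq_fintype_card, ← Fintype.card_subtype]
    rw [hS] at h2
    rw [h2, Finset.mul_sum]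
    exact Finset.sum_congr rfl fun x _ => by
      by_cases hx : ν x = 1
      · rw [if_pos hx, if_pos (MonoidHom.mem_ker.2 hx)]
      · rw [if_neg hx, if_neg (fun h => hx (MonoidHom.mem_ker.1 h)), mul_zero, zero_mul]
  have hA0 : (Nat.card A : ℝ) ≠ 0 := Nat.cast_ne_zero.2 Nat.card_pos.ne'
  have hmainR : (Nat.card A : ℝ) * (∑ x : K, if x ∈ ν.ker then Complex.normSq (ψ x) else 0) =
      (Nat.card S : ℝ) * Nat.card K := by
    apply Complex.ofReal_injective
    push_cast [apply_ite]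
    exact hmain
  apply mul_left_cancel₀ hA0
  rw [hmainR, hA]; push_cast; ring

end twist

theorem eq_top_of_separates {A : Type*} [CommGroup A] [Finite A] (S : Subgroup (A →* ℂˣ))
    (h : ∀ a : A, (∀ l ∈ S, l a = 1) → a = 1) : Nat.card S = Nat.card A := by
  haveI : Finite (A →* ℂˣ) := Finite.of_equiv A
    (CommGroup.monoidHom_mulEquiv_of_hasEnoughRootsOfUnity A ℂ).some.symm.toEquiv
  let ev : A →* (S →* ℂˣ) :=
    { toFun := fun a =>
        { toFun := fun l => (l : A →* ℂˣ) a
          map_one' := rfl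
          map_mul' := fun l l' => rfl }
      map_one' := MonoidHom.ext fun l => map_one (l : A →* ℂˣ)
      map_mul' := fun a b => MonoidHom.ext fun l => map_mul (l : A →* ℂˣ) a b }
  have hinj : Function.Injective ev := (injective_iff_map_eq_one ev).2 fun a ha =>
    h a fun l hl => DFunLike.congr_fun ha ⟨l, hl⟩
  haveI : Finite (S →* ℂˣ) := Finite.of_equiv S
    (CommGroup.monoidHom_mulEquiv_of_hasEnoughRootsOfUnity S ℂ).some.symm.toEquiv
  have h1 := Nat.card_le_card_of_injective ev hinj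
  rw [CommGroup.card_monoidHom_of_hasEnoughRootsOfUnity S ℂ] at h1
  have h2 := Subgroup.card_le_card_group S
  rw [CommGroup.card_monoidHom_of_hasEnoughRootsOfUnity A ℂ] at h2
  omega

def ChiefOdd (G : Type u) [Group G] (N : Subgroup G) : Prop :=
  ∀ (H K L : Subgroup G), N ≤ L → L < K → K ≤ H → (∀ h ∈ H, ∀ k ∈ K, h * k * h⁻¹ ∈ K) →
    (∀ h ∈ H, ∀ l ∈ L, h * l * h⁻¹ ∈ L) → (∀ M : Subgroup G, L ≤ M → M ≤ K →
      (∀ h ∈ H, ∀ m ∈ M, h * m * h⁻¹ ∈ M) → M = L ∨ M = K) → ¬ IsSquare (L.relIndex K)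

theorem irr_case {G : Type u} [Group G] [Fintype G] (N : Subgroup G) [N.Normal]
    (hsolv : Group.IsSolvable (G ⧸ N)) (hchief : ChiefOdd G N) {χ : G → ℂ}
    (hχ : IsIrrCharacter G χ) (hN : ¬ IsIrrCharacter N (fun n : N => χ n)) :
    ∃ (T : Subgroup G) (ψ : T → ℂ), N ≤ T ∧ T ≠ ⊤ ∧ IsIrrCharacter T ψ ∧ indFun T ψ = χ := by
  classical
  obtain ⟨K, ⟨hKn, hNK, hKi⟩, hKmin⟩ := (Set.toFinite {K : Subgroup G | K.Normal ∧ N ≤ K ∧
      IsIrrCharacter K (fun k : K => χ k)}).exists_minimal ⟨⊤, inferInstance, le_top, by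
        haveI := Fintype.ofFinite (⊤ : Subgroup G)
        exact CfsgLib.Char.irr_mulEquiv (Subgroup.topEquiv (G := G)) hχ⟩
  haveI := hKn
  have hKN : N ≠ K := by rintro rfl; exact hN hKi
  obtain ⟨L, ⟨hLn, hNL, hLK⟩, hLmax⟩ := (Set.toFinite {L : Subgroup G | L.Normal ∧ N ≤ L ∧
      L < K}).exists_maximal ⟨N, inferInstance, le_rfl, lt_of_le_of_ne hNK hKN⟩
  haveI := hLn
  haveI := Fintype.ofFinite L
  haveI := Fintype.ofFinite K
  have hLi : ¬ IsIrrCharacter L (fun l : L => χ l) := fun h =>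
    hLK.not_ge (hKmin ⟨hLn, hNL, h⟩ hLK.le)
  obtain ⟨θ, hθ, hc⟩ := CfsgLib.Char.exists_constituent_res (N := L) hχ
  by_cases hinv : ∀ g : G, CfsgLib.Char.conjN θ g = θ
  swap
  · haveI := Fintype.ofFinite (CfsgLib.Char.inertia θ)
    have hLT : L ≤ CfsgLib.Char.inertia θ :=
      CfsgLib.Char.le_inertia (CfsgLib.Char.classFun_of_irr hθ)
    obtain ⟨ψ, hψ, hψχ, -⟩ := CfsgLib.Char.clifford_exists hθ
      (T := CfsgLib.Char.inertia θ) (fun g => Iff.rfl) hLT hχ hc
    exact ⟨_, ψ, hNL.trans hLT, fun e => hinv fun g => CfsgLib.Char.mem_inertia.1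
      (e ▸ Subgroup.mem_top g), hψ, hψχ⟩
  exfalso
  set π := QuotientGroup.mk' L with hπ
  have hπs : Function.Surjective π := QuotientGroup.mk'_surjective L
  set Kb := K.map π with hKb
  haveI : Kb.Normal := hKn.map π hπs
  haveI : Group.IsSolvable (G ⧸ L) := by
    haveI := hsolv
    exact solvable_of_surjective (f := QuotientGroup.map N L (MonoidHom.id G) hNL)
      (fun y => by obtain ⟨g, rfl⟩ := QuotientGroup.mk'_surjective L y; exact ⟨g, rfl⟩)
  have hsub : ∀ X : Subgroup (G ⧸ L), X.Normal → X ≤ Kb → X = ⊥ ∨ X = Kb := by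
    intro X hX hXK
    haveI := hX
    have hle : L ≤ X.comap π := fun x hx => by
      show π x ∈ X
      rw [show π x = 1 from (QuotientGroup.eq_one_iff x).2 hx]; exact X.one_mem
    have hXK' : X.comap π ≤ K := by
      refine (Subgroup.comap_mono hXK).trans (le_of_eq ?_)
      rw [hKb, Subgroup.comap_map_eq, hπ, QuotientGroup.ker_mk', sup_eq_left.2 hLK.le]
    rcases eq_or_lt_of_le hXK' with h | h
    · exact Or.inr (by rw [hKb, ← h, Subgroup.map_comap_eq_self_of_surjective hπs])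
    · refine Or.inl (eq_bot_iff.2 fun y hy => ?_)
      obtain ⟨g, rfl⟩ := hπs y
      exact Subgroup.mem_bot.2 ((QuotientGroup.eq_one_iff g).2
        (hLmax ⟨hX.comap π, hNL.trans hle, h⟩ hle hy))
  have hKbne : Kb ≠ ⊥ := fun e => hLK.not_ge fun x hx => (QuotientGroup.eq_one_iff x).1
    (Subgroup.mem_bot.1 (e ▸ Subgroup.mem_map_of_mem π hx : π x ∈ (⊥ : Subgroup (G ⧸ L))))
  have hc' := CfsgLib.Solv.isMulCommutative_of_minimal_solvable (M := Kb)
    ⟨inferInstance, hKbne, hsub⟩ inferInstance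
  letI : CommGroup Kb := { (inferInstance : Group Kb) with mul_comm := hc'.is_comm.comm }
  let ν : K →* Kb := (π.comp K.subtype).codRestrict Kb fun k => Subgroup.mem_map_of_mem π k.2
  have hν : Function.Surjective ν := by
    rintro ⟨_, k, hk, rfl⟩; exact ⟨⟨k, hk⟩, rfl⟩
  obtain ⟨S, hS, hsum⟩ := norm_ker_eq ν hν hKi
  have hker : ∀ x : K, x ∈ ν.ker ↔ (x : G) ∈ L := fun x => by
    rw [MonoidHom.mem_ker, Subtype.ext_iff]; exact QuotientGroup.eq_one_iff _
  have hkerc : Nat.card ν.ker = Nat.card L := Nat.card_congr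
    { toFun := fun x => ⟨x.1.1, (hker x.1).1 x.2⟩
      invFun := fun x => ⟨⟨x.1, hLK.le x.2⟩, (hker ⟨x.1, hLK.le x.2⟩).2 x.2⟩
      left_inv := fun x => rfl
      right_inv := fun x => rfl }
  have hnormL : ∑ x : L, Complex.normSq (χ x) = (Nat.card S : ℝ) * Nat.card L := by
    rw [← hkerc, ← hsum]
    have h := CfsgLib.Char.sum_subgroup (L.subgroupOf K)
      (fun x : K => if x ∈ ν.ker then Complex.normSq (χ x) else 0)
      (fun x hx => if_neg fun h => hx ((hker x).1 h))
    refine Eq.trans ?_ (h.symm.trans (Finset.sum_congr rfl fun x _ => by congr))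
    exact Fintype.sum_equiv (Subgroup.subgroupOfEquivOfLe hLK.le).symm.toEquiv _ _ fun x => by
      rw [if_pos ((hker _).2 x.2)]; rfl
  obtain ⟨e, he⟩ := CfsgLib.Char.inner_char_irr
    (CfsgLib.Char.isCharacter_restrict L (CfsgLib.Char.isCharacter_of_isIrr hχ)) hθ
  have hhom := CfsgLib.Char.res_homogeneous hχ hθ hc hinv
  rw [he] at hhom
  have he2 : e ^ 2 = Nat.card S := by
    have h1 : ∑ x : L, Complex.normSq (χ x) = (e : ℝ) ^ 2 * Nat.card L := by
      rw [← Cfsg.Agent.S0890.irr_normSq hθ, Finset.mul_sum]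
      refine Finset.sum_congr rfl fun x _ => ?_
      rw [show χ x = (e : ℂ) * θ x from congrFun hhom x, Complex.normSq_mul,
        Complex.normSq_natCast]
      ring
    have h2 := mul_right_cancel₀ (Nat.cast_ne_zero.2 Nat.card_pos.ne') (h1.symm.trans hnormL)
    exact_mod_cast h2
  let W : Subgroup Kb :=
    { carrier := {a | ∀ l ∈ S, l a = 1}
      one_mem' := fun l _ => map_one l
      mul_mem' := fun {a b} ha hb l hl => by rw [map_mul, ha l hl, hb l hl, mul_one]
      inv_mem' := fun {a} ha l hl => by rw [map_inv, ha l hl, inv_one] }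
  have hWn : (W.map Kb.subtype).Normal := by
    refine ⟨fun y hy q => ?_⟩
    obtain ⟨a, ha, rfl⟩ := hy
    refine ⟨MulAut.conjNormal q a, fun l hl => ?_, by simp⟩
    obtain ⟨g, rfl⟩ := hπs q
    have hmem : l.comp (MulAut.conjNormal (π g)).toMonoidHom ∈ S := by
      rw [hS]
      intro x
      have h := (hS l).1 hl ⟨g * x * g⁻¹, hKn.conj_mem x x.2 g⟩
      have e1 : ν ⟨g * x * g⁻¹, hKn.conj_mem x x.2 g⟩ = MulAut.conjNormal (π g) (ν x) :=
        Subtype.ext (by simp [ν])
      rw [e1] at h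
      rw [show χ (g * (x : G) * g⁻¹) = χ x from CfsgLib.Char.classFun_of_irr hχ x g] at h
      exact h
    exact ha _ hmem
  rcases hsub _ hWn (Subgroup.map_subtype_le W) with h | h
  · have hW : W = ⊥ := (Subgroup.map_eq_bot_iff_of_injective _ Kb.subtype_injective).1 h
    have hcard := eq_top_of_separates S fun a ha => Subgroup.mem_bot.1 (hW ▸ (show a ∈ W from ha))
    refine hchief ⊤ K L hNL hLK le_top (fun h _ k hk => hKn.conj_mem k hk h)
      (fun h _ l hl => hLn.conj_mem l hl h) (fun M hLM hMK hM => ?_) ⟨e, ?_⟩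
    · rcases eq_or_lt_of_le hMK with h' | h'
      · exact Or.inr h'
      · exact Or.inl (le_antisymm (hLmax ⟨⟨fun m hm g => hM g (Subgroup.mem_top g) m hm⟩,
          hNL.trans hLM, h'⟩ hLM) hLM)
    · have h1 : Nat.card K = Nat.card Kb * Nat.card L := by
        rw [Subgroup.card_eq_card_quotient_mul_card_subgroup ν.ker, hkerc,
          Nat.card_congr (QuotientGroup.quotientKerEquivOfSurjective ν hν).toEquiv]
      have h2 : L.relIndex K * Nat.card L = Nat.card Kb * Nat.card L := by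
        rw [← h1, ← Subgroup.relIndex_bot_left L, mul_comm,
          Subgroup.relIndex_mul_relIndex ⊥ L K bot_le hLK.le, Subgroup.relIndex_bot_left]
      rw [Nat.eq_of_mul_eq_mul_right Nat.card_pos h2, ← hcard, ← he2, sq]
  · have hS1 : S = ⊥ := by
      refine eq_bot_iff.2 fun l hl => Subgroup.mem_bot.2 (MonoidHom.ext fun a => ?_)
      have hmem : (a : G ⧸ L) ∈ W.map Kb.subtype := by rw [h]; exact a.2
      obtain ⟨b, hb, hba⟩ := hmem
      rw [← Subtype.ext hba]; exact hb l hl
    rw [hS1, Subgroup.card_bot] at he2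
    apply hLi
    have he1 : e = 1 := by simpa using he2
    rw [show (fun l : L => χ l) = θ by rw [hhom, he1, Nat.cast_one, one_smul]]
    exact hθ

theorem main : ∀ (k : ℕ) (G : Type u) [Group G] [Fintype G] (N : Subgroup G) [N.Normal],
    Nat.card G = k → Group.IsSolvable (G ⧸ N) → ChiefOdd G N → ∀ (χ : G → ℂ),
    IsIrrCharacter G χ → ∃ (H : Subgroup G) (hNH : N ≤ H) (ψ : H → ℂ), IsIrrCharacter H ψ ∧
      indFun H ψ = χ ∧ IsIrrCharacter N (fun n : N => ψ ⟨(n : G), hNH n.2⟩) := by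
  intro k
  induction k using Nat.strong_induction_on with
  | _ k ih =>
  intro G _ _ N _ hk hsolv hchief χ hχ
  classical
  by_cases hN : IsIrrCharacter N (fun n : N => χ n)
  · haveI := Fintype.ofFinite (⊤ : Subgroup G)
    refine ⟨⊤, le_top, fun x => χ x, CfsgLib.Char.irr_mulEquiv (Subgroup.topEquiv (G := G)) hχ, ?_, hN⟩
    ext g
    rw [CfsgLib.Char.indFun_apply, Finset.sum_congr rfl (fun x _ =>
      show extendByZero ⊤ (fun y : (⊤ : Subgroup G) => χ y) (x⁻¹ * g * x) = χ g by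
        rw [CfsgLib.Char.extendByZero_mem' ⊤ _ (Subgroup.mem_top _)]
        simpa using CfsgLib.Char.classFun_of_irr hχ g x⁻¹), Finset.sum_const, Finset.card_univ,
      nsmul_eq_mul, Subgroup.card_top, ← Nat.card_eq_fintype_card]
    have : (Nat.card G : ℂ) ≠ 0 := Nat.cast_ne_zero.2 Nat.card_pos.ne'
    field_simp
  obtain ⟨T, ψ, hNT, hT, hψ, hψχ⟩ := irr_case N hsolv hchief hχ hN
  haveI := Fintype.ofFinite T
  set N' := N.subgroupOf T with hN'
  haveI : Group.IsSolvable (T ⧸ N') := by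
    haveI := hsolv
    let f := (QuotientGroup.mk' N).comp T.subtype
    have hk : N' = f.ker := by
      ext x
      rw [MonoidHom.mem_ker]
      exact (QuotientGroup.eq_one_iff (x : G)).symm
    exact solvable_of_solvable_injective
      (f := (QuotientGroup.kerLift f).comp (QuotientGroup.quotientMulEquivOfEq hk).toMonoidHom)
      ((QuotientGroup.kerLift_injective f).comp
        (QuotientGroup.quotientMulEquivOfEq hk).injective)
  have hch : ChiefOdd T N' := by
    intro H K L h1 h2 h3 h4 h5 h6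
    have hi := T.subtype_injective
    rw [← Subgroup.relIndex_map_map_of_injective L K hi]
    refine hchief (H.map T.subtype) (K.map T.subtype) (L.map T.subtype) ?_
      ((Subgroup.map_lt_map_iff_of_injective hi).2 h2) (Subgroup.map_mono h3) ?_ ?_ ?_
    · intro x hx
      exact ⟨⟨x, hNT hx⟩, h1 hx, rfl⟩
    · rintro _ ⟨a, ha, rfl⟩ _ ⟨b, hb, rfl⟩
      exact ⟨a * b * a⁻¹, h4 a ha b hb, rfl⟩
    · rintro _ ⟨a, ha, rfl⟩ _ ⟨b, hb, rfl⟩
      exact ⟨a * b * a⁻¹, h5 a ha b hb, rfl⟩
    · intro M hLM hMK hM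
      have hMT : M ≤ T := hMK.trans (Subgroup.map_subtype_le K)
      have hback : (M.comap T.subtype).map T.subtype = M := by
        rw [Subgroup.map_comap_eq, Subgroup.range_subtype, inf_eq_right.2 hMT]
      rcases h6 (M.comap T.subtype) (Subgroup.map_le_iff_le_comap.1 hLM)
        ((Subgroup.comap_mono hMK).trans (Subgroup.comap_map_eq_self_of_injective hi K).le)
        (fun a ha b hb => hM a ⟨a, ha, rfl⟩ b hb) with h | h
      · exact Or.inl (by rw [← hback, h])
      · exact Or.inr (by rw [← hback, h])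
  have hlt : Nat.card T < k := hk ▸ lt_of_le_of_ne (Subgroup.card_le_card_group T)
    fun e => hT (Subgroup.eq_top_of_card_eq T e)
  obtain ⟨H, hNH, ξ, hξ, hξψ, hξN⟩ := ih _ hlt T N' rfl inferInstance hch ψ hψ
  haveI := Fintype.ofFinite H
  set em := Subgroup.equivMapOfInjective H T.subtype T.subtype_injective
  haveI := Fintype.ofFinite (H.map T.subtype)
  have hNH' : N ≤ H.map T.subtype := fun x hx => ⟨⟨x, hNT hx⟩, hNH hx, rfl⟩
  refine ⟨H.map T.subtype, hNH', ξ ∘ em.symm, CfsgLib.Char.irr_mulEquiv em.symm hξ, ?_, ?_⟩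
  · rw [← CfsgLib.Char.indFun_indFun, hξψ, hψχ]
  · haveI := Fintype.ofFinite N
    haveI := Fintype.ofFinite N'
    have h := CfsgLib.Char.irr_mulEquiv (Subgroup.subgroupOfEquivOfLe hNT).symm hξN
    convert h using 1
    ext n
    simp only [Function.comp_apply]
    congr 1
    rw [MulEquiv.symm_apply_eq]
    exact Subtype.ext rfl


/-- Let N be a normal subgroup of the finite group G with G / N solvable, and suppose that for every subgroup H containing N and all subgroups L < K between N and H that are normal in H with no subgroup normal in H strictly between them, the index of L in K is not a perfect square. Then every irreducible character χ of G is induced from an irreducible character ψ of some subgroup H containing N such that the restriction of ψ to N is irreducible. -/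
theorem result {G : Type*} [Group G] [Fintype G] (N : Subgroup G) [N.Normal] (hsolv : Group.IsSolvable (G ⧸ N)) (hchief : ∀ (H K L : Subgroup G), N ≤ L → L < K → K ≤ H → (∀ h ∈ H, ∀ k ∈ K, h * k * h⁻¹ ∈ K) → (∀ h ∈ H, ∀ l ∈ L, h * l * h⁻¹ ∈ L) → (∀ M : Subgroup G, L ≤ M → M ≤ K → (∀ h ∈ H, ∀ m ∈ M, h * m * h⁻¹ ∈ M) → M = L ∨ M = K) → ¬ IsSquare (L.relIndex K)) (χ : G → ℂ) (hχ : Cfsg.IsIrrCharacter G χ) : ∃ (H : Subgroup G) (hNH : N ≤ H) (ψ : H → ℂ), Cfsg.IsIrrCharacter H ψ ∧ Cfsg.indFun H ψ = χ ∧ Cfsg.IsIrrCharacter N (fun n : N => ψ ⟨(n : G), hNH n.2⟩) := by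
  exact main (Nat.card G) G N rfl hsolv hchief χ hχ

end Cfsg.Agent.S0858
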