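import Cfsg.Statements.S0859
import Cfsg.Agent.Char.Monomial
import Cfsg.Agent.Char.Burnside
import Cfsg.Agent.Char.ExtCrit
import Cfsg.Agent.Solv.MinimalNormal

set_option autoImplicit false
open Cfsg
open scoped CfsgLib.Char

namespace Cfsg.Agent.S0859

open scoped ComplexConjugate commutatorElement

universe u

/-- every subgroup of prime power order inside `N` is abelian -/
def AbelianPSub {G : Type u} [Group G] (N : Subgroup G) : Prop :=
  ∀ (p : ℕ), p.Prime → ∀ X : Subgroup G, X ≤ N → IsPGroup p X → ∀ a ∈ X, ∀ b ∈ X, a * b = b * a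

theorem descend {G : Type u} [Group G] [Fintype G] (T N : Subgroup G) [N.Normal] {ψ : G → ℂ}
    (hψ : IsIrrCharacter G ψ) (hN : IsIrrCharacter N (fun n : N => ψ n)) {φ : T → ℂ}
    (hφ : IsIrrCharacter T φ) (hind : indFun T φ = ψ) :
    IsIrrCharacter ↥(N.subgroupOf T) (fun x : N.subgroupOf T => φ x) := by
  classical
  haveI := Fintype.ofFinite T
  haveI := Fintype.ofFinite N
  -- the join with `N` is everything
  set U := T ⊔ N with hU
  haveI := Fintype.ofFinite U
  haveI := Fintype.ofFinite (T.subgroupOf U)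
  have hUi : IsIrrCharacter U (fun u : U => ψ u) := by
    refine CfsgLib.Char.irr_of_res_irr (N.subgroupOf U)
      (CfsgLib.Char.isCharacter_restrict U (CfsgLib.Char.isCharacter_of_isIrr hψ)) ?_
    haveI := Fintype.ofFinite (N.subgroupOf U)
    exact CfsgLib.Char.irr_mulEquiv (Subgroup.subgroupOfEquivOfLe le_sup_right) hN
  have htrans := CfsgLib.Char.indFun_trans T U le_sup_left φ
  rw [hind] at htrans
  set η : U → ℂ := indFun (T.subgroupOf U) (fun x => φ ⟨((x : U) : G), x.2⟩) with hη
  have hηc : IsCharacter U η := CfsgLib.Char.isCharacter_indFun _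
    (CfsgLib.Char.isCharacter_of_isIrr
      (CfsgLib.Char.irr_mulEquiv (Subgroup.subgroupOfEquivOfLe le_sup_left) hφ))
  have h1 : classInner η (fun u : U => ψ u) ≠ 0 := by
    rw [← CfsgLib.Char.frobenius U η (CfsgLib.Char.classFun_of_irr hψ), htrans,
      CfsgLib.Char.irr_inner_self hψ]
    exact one_ne_zero
  obtain ⟨r, hr⟩ := CfsgLib.Char.charDegree_aux
    (CfsgLib.Char.isCharacter_sub_constituent hηc hUi h1)
  have hψ1 : ψ 1 = (U.index : ℂ) * η 1 := by rw [← htrans, CfsgLib.Char.indFun_one]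
  have hUtop : U = ⊤ := by
    obtain ⟨d, hd0, hd⟩ := CfsgLib.Char.irr_deg hψ
    have h2 : η 1 = ((d + r : ℕ) : ℂ) := by
      rw [Pi.sub_apply, OneMemClass.coe_one, hd] at hr
      push_cast
      linear_combination hr
    rw [hd, h2, ← Nat.cast_mul] at hψ1
    have h3 : d = U.index * (d + r) := Nat.cast_inj.1 hψ1
    refine Subgroup.index_eq_one.1 ?_
    have h4 : U.index ≠ 0 := Subgroup.index_ne_zero_of_finite
    rcases Nat.lt_or_ge U.index 2 with h5 | h5
    · omega
    · nlinarith
  -- the restriction to the intersection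
  set D := N.subgroupOf T with hD
  haveI := Fintype.ofFinite D
  have hres := CfsgLib.Char.isCharacter_restrict D (CfsgLib.Char.isCharacter_of_isIrr hφ)
  obtain ⟨α, hα⟩ := CfsgLib.Char.exists_constituent hres
    (fun e => CfsgLib.Char.irr_one_ne_zero hφ (congrFun e 1))
  have hψT : classInner (fun t : T => ψ t) φ ≠ 0 := by
    rw [← CfsgLib.Char.frobenius' T φ (CfsgLib.Char.classFun_of_irr hψ), hind,
      CfsgLib.Char.irr_inner_self hψ]
    exact one_ne_zero
  have hrest := CfsgLib.Char.isCharacter_sub_constituent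
    (CfsgLib.Char.isCharacter_restrict T (CfsgLib.Char.isCharacter_of_isIrr hψ)) hφ hψT
  have hψα : classInner (fun x : D => ψ ((x : T) : G)) (α : D → ℂ) ≠ 0 := by
    obtain ⟨m, hm⟩ := CfsgLib.Char.inner_char_irr (CfsgLib.Char.isCharacter_restrict D hrest) α.2
    obtain ⟨l, hl⟩ := CfsgLib.Char.inner_char_irr hres α.2
    have e : (fun x : D => ψ ((x : T) : G)) =
        (fun x : D => φ x) + fun x : D => ((fun t : T => ψ t) - φ) (x : T) := by
      ext x; simp
    rw [e, CfsgLib.Char.classInner_add_left, hm, hl, ← Nat.cast_add, Nat.cast_ne_zero]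
    intro h0
    apply hα
    rw [hl, Nat.cast_eq_zero]
    omega
  set D' := T.subgroupOf N
  haveI := Fintype.ofFinite D'
  let e : D' ≃* D :=
    { toFun := fun x => ⟨⟨((x : N) : G), x.2⟩, (x : N).2⟩
      invFun := fun x => ⟨⟨((x : T) : G), x.2⟩, (x : T).2⟩
      left_inv := fun x => rfl
      right_inv := fun x => rfl
      map_mul' := fun x y => rfl }
  have hα' : IsIrrCharacter D' ((α : D → ℂ) ∘ e) := CfsgLib.Char.irr_mulEquiv e α.2
  have hIc := CfsgLib.Char.isCharacter_indFun D' (CfsgLib.Char.isCharacter_of_isIrr hα')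
  have h2 : classInner (indFun D' ((α : D → ℂ) ∘ e)) (fun n : N => ψ n) ≠ 0 := by
    rw [CfsgLib.Char.frobenius D' _ (CfsgLib.Char.classFun_of_irr hN)]
    intro h0
    apply hψα
    rw [← CfsgLib.Char.classInner_conj, ← CfsgLib.Char.classInner_mulEquiv e]
    exact (congrArg conj h0).trans (map_zero _)
  obtain ⟨s, hs⟩ := CfsgLib.Char.charDegree_aux
    (CfsgLib.Char.isCharacter_sub_constituent hIc hN h2)
  have hrestD := CfsgLib.Char.isCharacter_sub_constituent hres α.2 hα
  obtain ⟨u, hu⟩ := CfsgLib.Char.charDegree_aux hrestD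
  have hidx : T.index = D'.index := by
    have a1 := Subgroup.relIndex_sup_right T N
    rw [show T ⊔ N = (⊤ : Subgroup G) from hUtop, Subgroup.relIndex_top_right] at a1
    have a2 : Nat.card D' = Nat.card D := Nat.card_congr e.toEquiv
    have a3 := Subgroup.index_mul_card D'
    have a4 := Subgroup.index_mul_card D
    have a5 := Subgroup.index_mul_card N
    have a6 := Subgroup.index_mul_card T
    rw [show D.index = N.index from a1.symm] at a4
    rw [a2] at a3
    have a7 : T.index * Nat.card T = D'.index * Nat.card T := by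
      rw [a6, ← a5, ← a3, ← a4]; ring
    exact Nat.eq_of_mul_eq_mul_right Nat.card_pos a7
  obtain ⟨dφ, -, hdφ⟩ := CfsgLib.Char.irr_deg hφ
  obtain ⟨dα, -, hdα⟩ := CfsgLib.Char.irr_deg α.2
  have hu0 : u = 0 := by
    have e1 : ψ 1 = (T.index : ℂ) * φ 1 := by rw [← hind, CfsgLib.Char.indFun_one]
    rw [Pi.sub_apply, CfsgLib.Char.indFun_one, Function.comp_apply, map_one, OneMemClass.coe_one,
      hdα, ← hidx, e1, hdφ] at hs
    rw [Pi.sub_apply, OneMemClass.coe_one, hdφ, hdα] at hu
    have h3 : T.index * dα = T.index * dφ + s := by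
      apply Nat.cast_injective (R := ℂ); push_cast; linear_combination hs
    have h4 : dφ = dα + u := by
      apply Nat.cast_injective (R := ℂ); push_cast; linear_combination hu
    have h5 : 0 < T.index := Nat.pos_of_ne_zero Subgroup.index_ne_zero_of_finite
    rw [h4] at h3
    nlinarith
  have := (CfsgLib.Char.char_eq_zero_iff hrestD).1 (by rw [hu, hu0, Nat.cast_zero])
  rw [sub_eq_zero.1 this]
  exact α.2

theorem claim : ∀ (k : ℕ) (G : Type u) [Group G] [Fintype G] (N : Subgroup G) [N.Normal],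
    Nat.card G = k → Group.IsSolvable N → AbelianPSub N → ∀ (ψ : G → ℂ), IsIrrCharacter G ψ →
    IsIrrCharacter N (fun n : N => ψ n) → CfsgLib.Char.IsMonomial ψ := by
  intro k
  induction k using Nat.strong_induction_on with
  | _ k ih =>
  intro G _ _ N _ hk hsolv hab ψ hψ hN
  classical
  obtain ⟨d, ρ, hirr, hρ⟩ := hψ
  have hψ' : IsIrrCharacter G ψ := ⟨d, ρ, hirr, hρ⟩
  have hψ1 : ψ 1 = (d : ℂ) := by rw [← hρ]; simp
  let Z : Subgroup G :=
    { carrier := {g | ∃ w : ℂ, ρ g = w • LinearMap.id}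
      one_mem' := ⟨1, by rw [map_one, one_smul]; rfl⟩
      mul_mem' := by
        rintro a b ⟨w, hw⟩ ⟨w', hw'⟩
        exact ⟨w * w', LinearMap.ext fun v => by simp [map_mul, hw, hw', smul_smul, mul_comm]⟩
      inv_mem' := by
        rintro a ⟨w, hw⟩
        refine ⟨w⁻¹, ?_⟩
        have h1 : ρ a⁻¹ * ρ a = 1 := by rw [← map_mul, inv_mul_cancel, map_one]
        rw [hw] at h1
        by_cases hw0 : w = 0
        · refine LinearMap.ext fun v => ?_
          have h2 : v = 0 := by
            have h3 : ρ a⁻¹ * ρ a = 1 := by rw [← map_mul, inv_mul_cancel, map_one]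
            have := LinearMap.congr_fun h3 v
            simp [hw, hw0] at this
            exact this.symm
          simp [h2]
        · refine LinearMap.ext fun v => ?_
          have := LinearMap.congr_fun h1 (w⁻¹ • v)
          simpa [smul_smul, hw0] using this }
  haveI hZn : Z.Normal := ⟨fun a ⟨w, hw⟩ g => ⟨w, by
    refine LinearMap.ext fun v => ?_
    have h1 : ρ g (ρ g⁻¹ v) = v := by rw [← Module.End.mul_apply, ← map_mul]; simp
    simp [map_mul, hw, h1]⟩⟩
  by_cases hNZ : N ≤ Z
  · haveI := Fintype.ofFinite N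
    have hnorm : ∀ n : N, ψ n * conj (ψ n) = (d : ℂ) * d := by
      intro n
      obtain ⟨w, hw⟩ := hNZ n.2
      have hv : ψ n = w * d := by
        rw [← hρ, Representation.character, hw, map_smul, LinearMap.trace_id]; simp
      rcases Nat.eq_zero_or_pos d with hd | hd
      · simp [hv, hd]
      have hpow : w ^ orderOf (n : G) = 1 := by
        have h := congrArg (LinearMap.trace ℂ (Fin d → ℂ))
          (show ρ ((n : G) ^ orderOf (n : G)) = ρ 1 by rw [pow_orderOf_eq_one])
        rw [map_pow, hw, smul_pow, map_one, Module.End.one_eq_id, ← Module.End.one_eq_id, one_pow,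
          map_smul, LinearMap.trace_one, smul_eq_mul] at h
        exact mul_right_cancel₀ (by simpa using hd.ne') (h.trans (one_mul _).symm)
      have hw1 : w * conj w = 1 := by
        rw [Complex.mul_conj', CfsgLib.Char.norm_root (orderOf_pos (n : G)).ne' hpow]; simp
      rw [hv, map_mul, Complex.conj_natCast]
      linear_combination (d : ℂ) * d * hw1
    have h1 := CfsgLib.Char.irr_inner_self hN
    rw [CfsgLib.Char.classInner_def, Finset.sum_congr rfl (fun n _ => hnorm n), Finset.sum_const,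
      Finset.card_univ, nsmul_eq_mul, ← Nat.card_eq_fintype_card, ← mul_assoc,
      inv_mul_cancel₀ (Nat.cast_ne_zero.2 Nat.card_pos.ne'), one_mul, ← Nat.cast_mul] at h1
    have hd1 : d = 1 := Nat.eq_one_of_mul_eq_one_left (Nat.cast_eq_one.1 h1)
    exact CfsgLib.Char.isMonomial_of_linear (CfsgLib.Char.isCharacter_of_isIrr hψ')
      (by rw [hψ1, hd1, Nat.cast_one])
  set Zn := Z ⊓ N with hZn'
  haveI : Zn.Normal := Subgroup.normal_inf_normal _ _
  set π := QuotientGroup.mk' Zn with hπ
  have hπs : Function.Surjective π := QuotientGroup.mk'_surjective Zn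
  set Nb := N.map π with hNb
  haveI : Nb.Normal := Subgroup.Normal.map inferInstance π hπs
  haveI : Group.IsSolvable Nb := by
    haveI := hsolv
    exact solvable_of_surjective (f := π.subgroupMap N) (π.subgroupMap_surjective N)
  have hNbne : Nb ≠ ⊥ := fun e => hNZ fun x hx =>
    ((QuotientGroup.eq_one_iff x).1 (Subgroup.mem_bot.1
      (e ▸ Subgroup.mem_map_of_mem π hx : π x ∈ (⊥ : Subgroup (G ⧸ Zn))))).1
  obtain ⟨M, hM, hMle⟩ := CfsgLib.Solv.exists_isMinimalNormal_le Nb hNbne
  haveI := hM.1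
  have hMs : Group.IsSolvable M :=
    solvable_of_solvable_injective (Subgroup.inclusion_injective hMle)
  obtain ⟨p, hp, -, hMp⟩ := CfsgLib.Solv.exists_prime_exponent_of_minimal_solvable hM hMs
  haveI := Fact.mk hp
  set A := M.comap π with hA
  haveI : A.Normal := hM.1.comap π
  have hAN : A ≤ N := by
    refine (Subgroup.comap_mono hMle).trans (le_of_eq ?_)
    rw [hNb, Subgroup.comap_map_eq, hπ, QuotientGroup.ker_mk', sup_eq_left.2 inf_le_right]
  obtain ⟨P⟩ := (inferInstance : Nonempty (Sylow p A))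
  let f : A →* M := (π.comp A.subtype).codRestrict M fun z => z.2
  have hf : Function.Surjective f := fun v => by
    obtain ⟨g, hg⟩ := hπs v
    exact ⟨⟨g, show π g ∈ M by rw [hg]; exact v.2⟩, Subtype.ext hg⟩
  have hmap : (P : Subgroup A).map f = ⊤ :=
    ((P.mapSurjective hf).is_maximal' (Q := ⊤) (hMp.of_equiv Subgroup.topEquiv.symm) le_top).symm
  have hcomm : ∀ a b : A, ρ ((a : G) * b) = ρ ((b : G) * a) := by
    have hdec : ∀ a : A, ∃ (w : ℂ) (x : A), x ∈ (P : Subgroup A) ∧ ρ (a : G) = w • ρ (x : G) := by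
      intro a
      obtain ⟨x, hx, hxa⟩ := (hmap ▸ Subgroup.mem_top (f a) : f a ∈ (P : Subgroup A).map f)
      have hz : (a : G) * (x : G)⁻¹ ∈ Zn := (QuotientGroup.eq_one_iff _).1 (by
        show π ((a : G) * (x : G)⁻¹) = 1
        rw [map_mul, map_inv, show π (x : G) = π a from congrArg Subtype.val hxa, mul_inv_cancel])
      obtain ⟨w, hw⟩ := hz.1
      refine ⟨w, x, hx, ?_⟩
      rw [show (a : G) = (a : G) * (x : G)⁻¹ * x by group, map_mul, hw]
      ext v; simp
    intro a b
    obtain ⟨w, x, hx, hax⟩ := hdec a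
    obtain ⟨w', y, hy, hby⟩ := hdec b
    have hxy : (x : G) * y = y * x := hab p hp ((P : Subgroup A).map A.subtype)
      ((Subgroup.map_subtype_le _).trans hAN) (P.2.map A.subtype) _ ⟨x, hx, rfl⟩ _ ⟨y, hy, rfl⟩
    rw [map_mul, map_mul, hax, hby, smul_mul_smul_comm, smul_mul_smul_comm, ← map_mul, ← map_mul,
      hxy, mul_comm w]
  haveI := Fintype.ofFinite A
  obtain ⟨θ, hθ, hc⟩ := CfsgLib.Char.exists_constituent_res (N := A) hψ'
  by_cases hinv : ∀ g : G, CfsgLib.Char.conjN θ g = θ
  · exfalso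
    obtain ⟨e, he⟩ := CfsgLib.Char.inner_char_irr
      (CfsgLib.Char.isCharacter_restrict A (CfsgLib.Char.isCharacter_of_isIrr hψ')) hθ
    have hhom := CfsgLib.Char.res_homogeneous hψ' hθ hc hinv
    rw [he] at hhom hc
    obtain ⟨K, hKn, hK, -⟩ := CfsgLib.Char.exists_kernel (CfsgLib.Char.isCharacter_of_isIrr hθ)
    have hcK : commutator A ≤ K := by
      rw [commutator_eq_closure, Subgroup.closure_le]
      rintro c ⟨a, b, rfl⟩
      refine (hK _).2 (mul_left_cancel₀ hc ?_)
      have h1 := congrFun hhom ⁅a, b⁆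
      have h2 := congrFun hhom 1
      simp only [Pi.smul_apply, smul_eq_mul] at h1 h2
      rw [← h1, ← h2]
      show ψ ((⁅a, b⁆ : A) : G) = ψ ((1 : A) : G)
      rw [← hρ]
      show LinearMap.trace ℂ _ (ρ _) = LinearMap.trace ℂ _ (ρ _)
      congr 1
      have : (((⁅a, b⁆ : A)) : G) = ((a : G) * b) * ((b : G) * a)⁻¹ := by
        simp [commutatorElement_def, mul_assoc]
      rw [this, map_mul, hcomm a b, ← map_mul, mul_inv_cancel, OneMemClass.coe_one]
    haveI : Fintype (Abelianization A) := Fintype.ofFinite _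
    have hsurj : Function.Surjective (Abelianization.of (G := A)) := QuotientGroup.mk'_surjective _
    obtain ⟨θ', hθ', hθ'c⟩ := CfsgLib.Char.irr_descend (Abelianization.of (G := A)) hsurj hθ
      (fun x hx => (hK x).1 (hcK (by
        rw [← Abelianization.ker_of]; exact MonoidHom.mem_ker.2 hx)))
    have hθ1 : θ 1 = 1 := by
      rw [← hθ'c, Function.comp_apply, map_one]
      exact CfsgLib.Char.irr_degree_one_of_comm (fun a b => mul_comm a b) hθ'
    obtain ⟨μ, hμ⟩ := CfsgLib.Char.exists_hom_of_degree_one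
      (CfsgLib.Char.isCharacter_of_isIrr hθ) hθ1
    have hed : (e : ℂ) = d := by
      have h2 := congrFun hhom 1
      simp only [Pi.smul_apply, smul_eq_mul, OneMemClass.coe_one, hψ1, hθ1, mul_one] at h2
      exact h2.symm
    have hAZ : ∀ a : A, (a : G) ∈ Zn := fun a => ⟨by
      refine CfsgLib.Char.rep_scalar_of_norm ρ (a : G) ?_
      have h1 := congrFun hhom a
      simp only [Pi.smul_apply, smul_eq_mul, hed] at h1
      rw [hρ, h1, hμ, norm_mul, CfsgLib.Char.norm_root (orderOf_pos a).ne'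
        (CfsgLib.Char.linear_root μ a)]
      simp, hAN a.2⟩
    refine hM.2.1 (eq_bot_iff.2 fun y hy => ?_)
    obtain ⟨g, rfl⟩ := hπs y
    exact Subgroup.mem_bot.2 ((QuotientGroup.eq_one_iff g).2 (hAZ ⟨g, hy⟩))
  · set T := CfsgLib.Char.inertia θ
    haveI := Fintype.ofFinite T
    have hAT : A ≤ T := CfsgLib.Char.le_inertia (CfsgLib.Char.classFun_of_irr hθ)
    obtain ⟨φ, hφ, hφψ, -⟩ := CfsgLib.Char.clifford_exists hθ (T := T) (fun g => Iff.rfl) hAT hψ' hc
    have hTne : T ≠ ⊤ := fun e => hinv fun g => CfsgLib.Char.mem_inertia.1 (show g ∈ T by rw [e]; exact Subgroup.mem_top g)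
    have hlt : Nat.card T < k := hk ▸ lt_of_le_of_ne (Subgroup.card_le_card_group T)
      fun e => hTne (Subgroup.eq_top_of_card_eq T e)
    rw [← hφψ]
    refine CfsgLib.Char.isMonomial_indFun T (ih _ hlt T (N.subgroupOf T) rfl ?_ ?_ φ hφ
      (descend T N hψ' hN hφ hφψ))
    · haveI := hsolv
      exact solvable_of_solvable_injective
        (f := (T.subtype.comp (N.subgroupOf T).subtype).codRestrict N fun x => x.2)
        (fun x y h => Subtype.ext (Subtype.ext (congrArg (fun z : N => (z : G)) h)))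
    · intro q hq X hX hXp a ha b hb
      exact Subtype.ext (hab q hq (X.map T.subtype) (fun _ ⟨x, hx, hxe⟩ => hxe ▸ hX hx)
        (hXp.map _) _ ⟨a, ha, rfl⟩ _ ⟨b, hb, rfl⟩)


/-- Let G be a finite solvable group and N a normal subgroup such that for every prime p every Sylow p-subgroup of N is abelian. Suppose every irreducible character of G is induced from an irreducible character of some subgroup containing N whose restriction to N is irreducible. Then every irreducible character of G is induced from a character of degree 1 of some subgroup. -/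
theorem result {G : Type*} [Group G] [Fintype G] [Group.IsSolvable G] (N : Subgroup G) [N.Normal] (hab : ∀ (p : ℕ) [Fact p.Prime] (P : Sylow p N), ∀ a ∈ P, ∀ b ∈ P, a * b = b * a) (hrel : ∀ χ : G → ℂ, Cfsg.IsIrrCharacter G χ → ∃ (H : Subgroup G) (hNH : N ≤ H) (ψ : H → ℂ), Cfsg.IsIrrCharacter H ψ ∧ Cfsg.indFun H ψ = χ ∧ Cfsg.IsIrrCharacter N (fun n : N => ψ ⟨(n : G), hNH n.2⟩)) (χ : G → ℂ) (hχ : Cfsg.IsIrrCharacter G χ) : ∃ (U : Subgroup G) (lam : U → ℂ), Cfsg.IsCharacter U lam ∧ lam 1 = 1 ∧ Cfsg.indFun U lam = χ := by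
  obtain ⟨H, hNH, ψ, hψ, hind, hψN⟩ := hrel χ hχ
  classical
  haveI := Fintype.ofFinite H
  have hab' : AbelianPSub (N.subgroupOf H) := by
    intro p hp X hX hXp a ha b hb
    haveI := Fact.mk hp
    have hXN : X.map H.subtype ≤ N := fun _ ⟨x, hx, hxe⟩ => hxe ▸ hX hx
    have h1 : IsPGroup p ((X.map H.subtype).subgroupOf N) :=
      (hXp.map _).of_equiv (Subgroup.subgroupOfEquivOfLe hXN).symm
    obtain ⟨P, hP⟩ := h1.exists_le_sylow
    have h2 := hab p P ⟨a, hX ha⟩ (hP ⟨a, ha, rfl⟩) ⟨b, hX hb⟩ (hP ⟨b, hb, rfl⟩)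
    exact Subtype.ext (congrArg (fun z : N => (z : G)) h2)
  have hN' : IsIrrCharacter ↥(N.subgroupOf H) (fun x : N.subgroupOf H => ψ x) := by
    haveI := Fintype.ofFinite N
    haveI := Fintype.ofFinite (N.subgroupOf H)
    exact CfsgLib.Char.irr_mulEquiv (Subgroup.subgroupOfEquivOfLe hNH) hψN
  obtain ⟨U, lam, hU⟩ := hind ▸ CfsgLib.Char.isMonomial_indFun H
    (claim (Nat.card H) H (N.subgroupOf H) rfl inferInstance hab' ψ hψ hN')
  exact ⟨U, fun u => (lam u : ℂ), CfsgLib.Char.isCharacter_linear lam, by simp, hU.symm⟩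

end Cfsg.Agent.S0859
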