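import Cfsg.Statements.S0860
import Cfsg.Agent.Char.PermLemma

set_option autoImplicit false
open Cfsg

namespace Cfsg.Agent.S0860

/-- Let a group A act on the set of irreducible characters and on the set of conjugacy classes of a finite group G in such a way that (a • χ) evaluated on the class a • C equals χ evaluated on C, for all a, χ and C. Then every element of A fixes exactly as many irreducible characters as it fixes conjugacy classes. -/
theorem result {G : Type*} [Group G] [Finite G] {A : Type*} [Group A] [MulAction A (Cfsg.IrrCharacter G)] [MulAction A (ConjClasses G)] (hcompat : ∀ (a : A) (χ : Cfsg.IrrCharacter G) (g g' : G), ConjClasses.mk g' = a • ConjClasses.mk g → ((a • χ : Cfsg.IrrCharacter G) : G → ℂ) g' = (χ : G → ℂ) g) (a : A) : Nat.card {χ : Cfsg.IrrCharacter G // a • χ = χ} = Nat.card {C : ConjClasses G // a • C = C} := by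
  classical
  haveI := Fintype.ofFinite G
  let f : G → G := fun g => (a • ConjClasses.mk g).out
  have hf : ∀ g, ConjClasses.mk (f g) = a • ConjClasses.mk g := fun g => Quotient.out_eq _
  have hcomp : ∀ χ : Cfsg.IrrCharacter G, (χ : G → ℂ) ∘ f = ((a⁻¹ • χ : Cfsg.IrrCharacter G) : G → ℂ) :=
    fun χ => funext fun g => by
      have := hcompat a (a⁻¹ • χ) g (f g) (hf g)
      rwa [smul_inv_smul] at this
  have h := CfsgLib.Char.card_fixed_irr_eq_classes f fun χ => by rw [hcomp χ]; exact (a⁻¹ • χ).2
  rw [show Nat.card {χ : Cfsg.IrrCharacter G // a • χ = χ} =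
      Nat.card {χ : Cfsg.IrrCharacter G // (χ : G → ℂ) ∘ f = (χ : G → ℂ)} from
    Nat.card_congr (Equiv.subtypeEquivRight fun χ => by
      rw [hcomp χ, Subtype.coe_inj, inv_smul_eq_iff, eq_comm]), h]
  refine Nat.card_congr (Equiv.subtypeEquivRight fun C => ⟨fun h => ?_, fun h g hg => ?_⟩)
  · obtain ⟨g, rfl⟩ := ConjClasses.exists_rep C
    exact (hf g).symm.trans (h g rfl)
  · rw [hf g, hg, h]

end Cfsg.Agent.S0860
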