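import Cfsg.Statements.S0861
import Cfsg.Agent.Char.Burnside
import Cfsg.Agent.Char.Classes
import Cfsg.Agent.Char.ExtMore
import Cfsg.Agent.Char.ModP
import Cfsg.Agent.Blk.Criterion
import Cfsg.Agent.Char.GaloisTwist

set_option autoImplicit false
open Cfsg

namespace Cfsg.Agent.S0861
open scoped commutatorElement
open scoped CfsgLib.Char


/-- Let P be a normal abelian Sylow p-subgroup of the finite group G and suppose some element g of P has centralizer exactly P. Then the number of irreducible characters of G is at most the order of P, and if equality holds then G / P is abelian (the commutator subgroup lies in P). -/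
theorem result {G : Type*} [Group G] [Finite G] (p : ℕ) [Fact p.Prime] (P : Sylow p G) [(P : Subgroup G).Normal] (hab : ∀ a ∈ P, ∀ b ∈ P, a * b = b * a) (g : G) (hg : g ∈ P) (hC : Subgroup.centralizer ({g} : Set G) = P) : Nat.card (Cfsg.IrrCharacter G) ≤ Nat.card P ∧ (Nat.card (Cfsg.IrrCharacter G) = Nat.card P → commutator G ≤ P) := by
  classical
  haveI := Fintype.ofFinite G
  have hp : p.Prime := Fact.out
  obtain ⟨M, hM⟩ := CfsgLib.Blk.exists_isPModular hp
  haveI := hM.2.1.isPrime
  open CfsgLib.Char CfsgLib.Blk in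
  · have hcard : Nat.card (Subgroup.centralizer ({g} : Set G)) = Nat.card P :=
      congrArg (fun K : Subgroup G => Nat.card K) hC
    have hsum : ∑ χ : Cfsg.IrrCharacter G, Complex.normSq ((χ : G → ℂ) g) = (Nat.card P : ℝ) := by
      have h := second_orth g g
      rw [if_pos (IsConj.refl g), hcard] at h
      simp only [Complex.mul_conj] at h
      exact_mod_cast h
    obtain ⟨k, hk⟩ := IsPGroup.iff_orderOf.1 P.isPGroup' ⟨g, hg⟩
    rw [Subgroup.orderOf_mk] at hk
    have hne : ∀ χ : Cfsg.IrrCharacter G, (χ : G → ℂ) g ≠ 0 := by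
      intro χ h0
      obtain ⟨n, ρ, hirr, hρ⟩ := χ.2
      haveI := hirr
      have hd := finrank_dvd_index ρ (P : Subgroup G) hab
      have hnp : ¬ p ∣ n := fun h => P.not_dvd_index (h.trans (by simpa using hd))
      have h1 := red_char_eq (M := M) hM (isCharacter_of_isIrr χ.2) (g := g) (x := g) (y := 1) (mul_one g)
        (Commute.one_right g) ⟨k, hk⟩
      have hn : (χ : G → ℂ) 1 = (n : ℂ) := by rw [← hρ, Representation.char_one]; simp
      have h2 : ((n : ℕ) : ℂ) ∈ locRing M := natCast_mem _ n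
      rw [h0, hn, red_zero] at h1
      exact hnp ((natCast_memLocalIdeal_iff hM n).1 ((red_eq_zero_iff h2).1 h1.symm))
    set P0 : ℂ := ∏ χ : Cfsg.IrrCharacter G, (χ : G → ℂ) g * (χ : G → ℂ) g⁻¹ with hP0
    have hi : ∀ (χ : Cfsg.IrrCharacter G) (u : G), IsIntegral ℤ ((χ : G → ℂ) u) := fun χ u =>
      char_isIntegral (isCharacter_of_isIrr χ.2) u
    have hPint : IsIntegral ℤ P0 := IsIntegral.prod _ fun χ _ => (hi χ g).mul (hi χ g⁻¹)
    obtain ⟨z, hz⟩ := int_of_fixed hPint fun φ => by
      obtain ⟨m, hm, hφ⟩ := algHom_char_pow G φ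
      have e : (⟨P0, mem_qbar_of_integral hPint⟩ : QBar) = ∏ χ : Cfsg.IrrCharacter G,
          ⟨(χ : G → ℂ) g, mem_qbar_of_integral (hi χ g)⟩ * ⟨(χ : G → ℂ) g⁻¹, mem_qbar_of_integral (hi χ g⁻¹)⟩ :=
        Subtype.ext (by simp [hP0])
      rw [e, map_prod]
      refine Fintype.prod_bijective (fun χ : Cfsg.IrrCharacter G => (⟨fun u => (χ : G → ℂ) (u ^ m), irr_pow hm χ.2⟩ : Cfsg.IrrCharacter G))
        (Finite.injective_iff_bijective.1 fun a b h => Subtype.ext (funext fun u => by
          obtain ⟨v, rfl⟩ := (pow_coprime_bijective (G := G) hm).2 u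
          exact congrFun (congrArg Subtype.val h) v)) _ _ fun χ => ?_
      rw [map_mul, hφ _ (isCharacter_of_isIrr χ.2), hφ _ (isCharacter_of_isIrr χ.2)]
    have hreal : P0 = ((∏ χ : Cfsg.IrrCharacter G, Complex.normSq ((χ : G → ℂ) g) : ℝ) : ℂ) := by
      rw [hP0, Complex.ofReal_prod]
      refine Finset.prod_congr rfl fun χ _ => ?_
      rw [char_conj_eq (isCharacter_of_isIrr χ.2), Complex.mul_conj]
    have hone : (1 : ℝ) ≤ ∏ χ : Cfsg.IrrCharacter G, Complex.normSq ((χ : G → ℂ) g) := by
      have e : ((z : ℝ) : ℂ) = ((∏ χ : Cfsg.IrrCharacter G, Complex.normSq ((χ : G → ℂ) g) : ℝ) : ℂ) := by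
        rw [← hreal, hz, Complex.ofReal_intCast]
      rw [Complex.ofReal_inj] at e
      have hpos : (0 : ℝ) < z := by rw [e]; exact Finset.prod_pos fun χ _ => Complex.normSq_pos.2 (hne χ)
      rw [← e]
      exact_mod_cast (Int.add_one_le_iff.2 (by exact_mod_cast hpos) : (0 : ℤ) + 1 ≤ z)
    have hlog0 : 0 ≤ ∑ χ : Cfsg.IrrCharacter G, Real.log (Complex.normSq ((χ : G → ℂ) g)) := by
      rw [← Real.log_prod fun χ _ => (Complex.normSq_pos.2 (hne χ)).ne']
      exact Real.log_nonneg hone
    have hle : ∀ χ ∈ (Finset.univ : Finset (Cfsg.IrrCharacter G)),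
        Real.log (Complex.normSq ((χ : G → ℂ) g)) ≤ Complex.normSq ((χ : G → ℂ) g) - 1 :=
      fun χ _ => Real.log_le_sub_one_of_pos (Complex.normSq_pos.2 (hne χ))
    have hs : ∑ χ : Cfsg.IrrCharacter G, (Complex.normSq ((χ : G → ℂ) g) - 1) =
        (Nat.card P : ℝ) - (Nat.card (Cfsg.IrrCharacter G) : ℝ) := by
      rw [Finset.sum_sub_distrib, hsum, Finset.sum_const, Finset.card_univ, nsmul_eq_mul, mul_one,
        Fintype.card_eq_nat_card]
    refine ⟨?_, fun heq => ?_⟩
    · have := hlog0.trans (Finset.sum_le_sum hle)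
      rw [hs] at this
      exact_mod_cast (by linarith : (Nat.card (Cfsg.IrrCharacter G) : ℝ) ≤ (Nat.card P : ℝ))
    · have hsum0 : ∑ χ : Cfsg.IrrCharacter G, (Complex.normSq ((χ : G → ℂ) g) - 1) = 0 := by
        rw [hs, heq, sub_self]
      have heqs : ∀ χ : Cfsg.IrrCharacter G, Real.log (Complex.normSq ((χ : G → ℂ) g)) =
          Complex.normSq ((χ : G → ℂ) g) - 1 := fun χ =>
        (Finset.sum_eq_sum_iff_of_le hle).1 (le_antisymm (Finset.sum_le_sum hle) (hsum0.le.trans hlog0)) χ
          (Finset.mem_univ _)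
      have h1 : ∀ χ : Cfsg.IrrCharacter G, Complex.normSq ((χ : G → ℂ) g) = 1 := by
        intro χ
        by_contra hne1
        exact absurd (heqs χ) (Real.log_lt_sub_one_of_pos (Complex.normSq_pos.2 (hne χ)) hne1).ne
      haveI := Fintype.ofFinite (G ⧸ (P : Subgroup G))
      rw [commutator_def, Subgroup.commutator_le]
      intro a _ b _
      rw [← QuotientGroup.eq_one_iff]
      refine isConj_one_right.1 ((isConj_iff_irr _ _).2 fun χ => ?_).symm
      have hlift := irr_comp (QuotientGroup.mk' (P : Subgroup G)) (QuotientGroup.mk'_surjective _) χ.2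
      have h2 := h1 ⟨_, hlift⟩
      obtain ⟨n, hn, hn1⟩ := irr_deg χ.2
      simp only [Function.comp_apply, QuotientGroup.mk'_apply] at h2
      rw [(QuotientGroup.eq_one_iff g).2 hg, hn1, Complex.normSq_natCast] at h2
      have : n = 1 := by
        have h3 : n * n = 1 := by exact_mod_cast h2
        exact Nat.eq_one_of_mul_eq_one_left h3
      subst this
      obtain ⟨μ, hμ⟩ := exists_hom_of_degree_one (isCharacter_of_isIrr χ.2) (by simpa using hn1)
      rw [show (χ : G ⧸ (P : Subgroup G) → ℂ) = fun u => (μ u : ℂ) from hμ]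
      show (μ ((QuotientGroup.mk' (P : Subgroup G)) ⁅a, b⁆) : ℂ) = (μ 1 : ℂ)
      rw [map_commutatorElement, map_commutatorElement, map_one, commutatorElement_eq_one_iff_commute.2 (Commute.all _ _)]

end Cfsg.Agent.S0861
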