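import Cfsg.Statements.S0864
import Cfsg.Agent.Char.ExtMore

set_option autoImplicit false
open Cfsg

namespace Cfsg.Agent.S0864

/-- Let N be a normal subgroup of the finite group G and λ a character of N of degree 1 invariant under conjugation by G. Suppose that for every prime p dividing the order of λ (in the group of functions under pointwise multiplication) there is a subgroup H containing N, of index prime to p and with the index of N in H a power of p, together with a character of H of degree 1 restricting to λ. Then λ is the restriction of a character of G of degree 1. -/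
theorem result {G : Type*} [Group G] [Finite G] (N : Subgroup G) [hN : N.Normal] (lam : N → ℂ) (hlam : Cfsg.IsCharacter N lam ∧ lam 1 = 1) (hinv : ∀ (g : G) (n : N), lam ⟨g * n * g⁻¹, hN.conj_mem (n : G) n.2 g⟩ = lam n) (hsyl : ∀ p : ℕ, p.Prime → p ∣ orderOf lam → ∃ (H : Subgroup G) (hNH : N ≤ H) (ν : H → ℂ), Nat.Coprime H.index p ∧ (∃ k : ℕ, N.relIndex H = p ^ k) ∧ Cfsg.IsCharacter H ν ∧ ν 1 = 1 ∧ ∀ n : N, ν ⟨(n : G), hNH n.2⟩ = lam n) : ∃ μ : G → ℂ, Cfsg.IsCharacter G μ ∧ μ 1 = 1 ∧ ∀ n : N, μ n = lam n := by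
  obtain ⟨L0, hL0⟩ := CfsgLib.Char.exists_hom_of_degree_one hlam.1 hlam.2
  subst hL0
  have hinv' : ∀ (g : G) (n : N), L0 ⟨g * n * g⁻¹, hN.conj_mem (n : G) n.2 g⟩ = L0 n :=
    fun g n => Units.ext (hinv g n)
  obtain ⟨L, hL⟩ := CfsgLib.Char.extend_of_extPow L0 fun p hp => by
    by_cases hpd : p ∣ orderOf L0
    · obtain ⟨H, hNH, ν, hcop, -, hν, hν1, hres⟩ :=
        hsyl p hp (by rwa [CfsgLib.Char.orderOf_coe_linear])
      obtain ⟨V, rfl⟩ := CfsgLib.Char.exists_hom_of_degree_one hν hν1
      exact ⟨(H.index : ℤ), CfsgLib.Char.transfer_mem_extPow L0 hNH hinv' V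
        (fun n => Units.ext (hres n)),
        fun h => hp.coprime_iff_not_dvd.mp hcop.symm (Int.natCast_dvd_natCast.mp h)⟩
    · exact ⟨(orderOf L0 : ℤ), CfsgLib.Char.orderOf_mem_extPow L0,
        fun h => hpd (Int.natCast_dvd_natCast.mp h)⟩
  exact ⟨fun g => (L g : ℂ), CfsgLib.Char.isCharacter_linear L, by simp, fun n => by simp [hL]⟩

end Cfsg.Agent.S0864
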