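import Cfsg.Statements.S0868
import Cfsg.Agent.Char.ExtMore

set_option autoImplicit false
open scoped ComplexConjugate
open Cfsg

namespace Cfsg.Agent.S0868

/-- Let N be a normal subgroup of the finite group G, χ an irreducible character of G whose restriction ϑ to N is irreducible, and ψ an irreducible character of G. Define η on G by η g = (1 / order of N) * Σ over n in N of ψ (n * g) * conj (χ (n * g)). Then: if the restriction of ψ to N has nonzero inner product with ϑ, η is an irreducible character of G; if that inner product is zero, η vanishes identically; and if ψ = χ then η is identically 1. -/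
theorem result {G : Type*} [Group G] [Fintype G] (N : Subgroup G) [N.Normal] [Fintype N] (χ : G → ℂ) (hχ : Cfsg.IsIrrCharacter G χ) (hχN : Cfsg.IsIrrCharacter N (fun n : N => χ n)) (ψ : G → ℂ) (hψ : Cfsg.IsIrrCharacter G ψ) (η : G → ℂ) (hη : η = fun g => (Nat.card N : ℂ)⁻¹ * ∑ n : N, ψ ((n : G) * g) * conj (χ ((n : G) * g))) : (Cfsg.classInner (fun n : N => ψ n) (fun n : N => χ n) ≠ 0 → Cfsg.IsIrrCharacter G η) ∧ (Cfsg.classInner (fun n : N => ψ n) (fun n : N => χ n) = 0 → η = 0) ∧ (ψ = χ → η = fun _ => 1) := by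
  classical
  have hχc := CfsgLib.Char.isCharacter_of_isIrr hχ
  have hθ : Cfsg.IsIrrCharacter N (fun n : N => χ n) := hχN
  have hbij := CfsgLib.Char.gallagher hθ hχc fun n => rfl
  have hone : Cfsg.IsIrrCharacter G (fun _ : G => (1 : ℂ)) := by
    simpa using CfsgLib.Char.isIrr_linear (1 : G →* ℂˣ)
  have hcl : Cfsg.IsClassFunction G η := by
    intro g h
    rw [hη]
    show _ * _ = _ * _
    congr 1
    refine Fintype.sum_equiv (MulAut.conjNormal h⁻¹ : MulAut N).toEquiv _ _ fun n => ?_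
    have hc : ∀ φ : G → ℂ, Cfsg.IsClassFunction G φ → φ ((n : G) * (h * g * h⁻¹)) =
        φ ((((MulAut.conjNormal h⁻¹ : MulAut N) n : N) : G) * g) := by
      intro φ hφ
      conv_lhs => rw [← hφ ((n : G) * (h * g * h⁻¹)) h⁻¹]
      congr 1
      simp [mul_assoc]
    rw [hc ψ (CfsgLib.Char.classFun_of_irr hψ), hc χ (CfsgLib.Char.classFun_of_char hχc)]
    rfl
  have hswap : ∀ β : G → ℂ, Cfsg.classInner η β = (Nat.card G : ℂ)⁻¹ * ∑ g : G,
      ψ g * conj (χ g) * ((Nat.card N : ℂ)⁻¹ * ∑ n : N, conj (β ((n : G) * g))) := by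
    intro β
    rw [CfsgLib.Char.classInner_def, hη]
    congr 1
    simp only [Finset.mul_sum, Finset.sum_mul]
    rw [Finset.sum_comm]
    conv_rhs => rw [Finset.sum_comm]
    refine Fintype.sum_equiv (Equiv.inv N) _ _ fun n => ?_
    refine Fintype.sum_equiv (Equiv.mulLeft (n : G)) _ _ fun g => ?_
    simp only [Equiv.inv_apply, Equiv.coe_mulLeft, Subgroup.coe_inv, inv_mul_cancel_left]
    ring
  have hin : ∀ β : Cfsg.IrrCharacter G, Cfsg.classInner η (β : G → ℂ) =
      if ∀ n : N, (β : G → ℂ) n = (β : G → ℂ) 1 then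
        Cfsg.classInner ψ ((β : G → ℂ) * χ) else 0 := by
    intro β
    rw [hswap]
    split_ifs with hβN
    · obtain ⟨K, -, hmem, htr⟩ :=
        CfsgLib.Char.exists_kernel (CfsgLib.Char.isCharacter_of_isIrr β.2)
      rw [CfsgLib.Char.classInner_def]
      congr 1
      refine Finset.sum_congr rfl fun g _ => ?_
      simp only [fun n : N => htr (n : G) ((hmem n).mpr (hβN n)) g, Finset.sum_const,
        Finset.card_univ, Fintype.card_eq_nat_card, nsmul_eq_mul, ← mul_assoc, Pi.mul_apply, map_mul]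
      rw [mul_assoc (ψ g * conj (χ g)), inv_mul_cancel₀ (CfsgLib.Char.natCard_ne_zero N)]
      ring
    · rw [mul_eq_zero]
      right
      refine Finset.sum_eq_zero fun g _ => ?_
      suffices hz : ∑ n : N, (β : G → ℂ) ((n : G) * g) = 0 by
        rw [← map_sum, hz]; simp
      obtain ⟨m, ρ, hρ, hρc⟩ := β.2
      haveI := hρ
      let P : Module.End ℂ (Fin m → ℂ) := ∑ n : N, ρ (n : G)
      obtain ⟨c, hc⟩ := CfsgLib.Char.schur_scalar ρ P fun k v => by
        have h : P * ρ k = ρ k * P := by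
          simp only [P, Finset.sum_mul, Finset.mul_sum, ← map_mul]
          refine Fintype.sum_equiv (MulAut.conjNormal k⁻¹ : MulAut N).toEquiv _ _ fun n => ?_
          congr 1
          simp [mul_assoc]
        exact LinearMap.congr_fun h v
      have hc0 : c = 0 := by
        by_contra hc0
        apply hβN
        intro n
        have h1 : ρ (n : G) * P = P := by
          simp only [P, Finset.mul_sum, ← map_mul]
          exact Fintype.sum_equiv (Equiv.mulLeft n) _ _ fun _ => rfl
        rw [hc, mul_smul_comm, ← Module.End.one_eq_id, mul_one] at h1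
        have h2 : ρ (n : G) = 1 := (smul_right_injective _ hc0 h1)
        rw [← hρc]
        show LinearMap.trace ℂ _ (ρ (n : G)) = LinearMap.trace ℂ _ (ρ 1)
        rw [h2, map_one ρ]
      have : ∑ n : N, (β : G → ℂ) ((n : G) * g) = LinearMap.trace ℂ _ (P * ρ g) := by
        simp only [P, Finset.sum_mul, map_sum, ← map_mul, ← hρc, Representation.character]
      rw [this, hc, hc0, zero_smul, zero_mul, map_zero]
  have huniq : ∀ β₀ : G → ℂ, Cfsg.IsIrrCharacter G β₀ → (∀ n : N, β₀ n = β₀ 1) → ψ = β₀ * χ →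
      η = β₀ := by
    intro β₀ hβ₀ hN₀ hψeq
    refine CfsgLib.Char.classFun_ext hcl (CfsgLib.Char.classFun_of_irr hβ₀) fun β => ?_
    rw [hin, CfsgLib.Char.irr_inner hβ₀ β.2]
    split_ifs with hN hβeq hβeq
    · rw [hψeq, ← hβeq]
      exact CfsgLib.Char.irr_inner_self (hψeq ▸ hψ)
    · refine CfsgLib.Char.irr_inner_ne hψ (hbij.mapsTo ⟨β.2, hN⟩).1 fun h => hβeq ?_
      exact hbij.injOn ⟨hβ₀, hN₀⟩ ⟨β.2, hN⟩ (hψeq.symm.trans h)
    · exact absurd (hβeq ▸ hN₀) hN
    · rfl
  refine ⟨fun hne => ?_, fun hz => ?_, fun h => ?_⟩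
  · obtain ⟨β, ⟨hβ, hβN⟩, heq⟩ := hbij.surjOn
      (⟨hψ, hne⟩ : ψ ∈ {ψ : G → ℂ | Cfsg.IsIrrCharacter G ψ ∧
        Cfsg.classInner (fun n : N => ψ n) (fun n : N => χ n) ≠ 0})
    rw [huniq β hβ hβN heq.symm]; exact hβ
  · refine CfsgLib.Char.classFun_ext hcl (fun _ _ => rfl) fun β => ?_
    rw [hin]
    have h0 : Cfsg.classInner (0 : G → ℂ) (β : G → ℂ) = 0 := by
      simp [CfsgLib.Char.classInner_def]
    rw [h0]
    split_ifs with hN
    · exact CfsgLib.Char.irr_inner_ne hψ (hbij.mapsTo ⟨β.2, hN⟩).1 fun h =>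
        (hbij.mapsTo ⟨β.2, hN⟩).2 (by
          show Cfsg.classInner (fun n : N => ((β : G → ℂ) * χ) n) _ = 0
          rw [← h]; exact hz)
    · rfl
  · refine huniq _ hone (fun _ => rfl) ?_
    rw [h]; funext g; exact (one_mul _).symm

end Cfsg.Agent.S0868
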