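import Cfsg.Statements.S0869
import Cfsg.Agent.Char.Hyper

set_option autoImplicit false
open Cfsg

namespace Cfsg.Agent.S0869

/-- Let S be a nonempty finite type and R an additive subgroup of the integer-valued functions on S that is closed under pointwise multiplication. If the constant function 1 is not in R, then there exist a point x of S and a prime p such that p divides f x for every f in R. -/
theorem result {S : Type*} [Finite S] [Nonempty S] (R : AddSubgroup (S → ℤ)) (hmul : ∀ f ∈ R, ∀ g ∈ R, f * g ∈ R) (h1 : (1 : S → ℤ) ∉ R) : ∃ (x : S) (p : ℕ), p.Prime ∧ ∀ f ∈ R, (p : ℤ) ∣ f x := by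
  by_contra hcon
  push Not at hcon
  have hall : ∀ p : ℕ, p.Prime → ∃ m : ℤ, ¬ (p : ℤ) ∣ m ∧ (fun _ : S => m) ∈ R := fun p hp =>
    CfsgLib.Char.exists_const_mem p hp R hmul fun x => hcon x p hp
  let φ : ℤ →+ (S → ℤ) := (smulAddHom ℤ (S → ℤ)).flip 1
  obtain ⟨d, hd⟩ := Int.subgroup_cyclic (R.comap φ)
  rw [← AddSubgroup.zmultiples_eq_closure] at hd
  have hdvd : ∀ m : ℤ, (fun _ : S => m) ∈ R → d ∣ m := fun m hm => by
    rw [← Int.mem_zmultiples_iff, ← hd, AddSubgroup.mem_comap]
    convert hm using 1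
    ext; simp [φ]
  have hd1 : d.natAbs = 1 := by
    by_contra hne
    obtain ⟨q, hq, hqd⟩ := Nat.exists_prime_and_dvd hne
    obtain ⟨m, hm, hmem⟩ := hall q hq
    exact hm ((Int.natCast_dvd.mpr hqd).trans (hdvd m hmem))
  apply h1
  have : (1 : ℤ) ∈ R.comap φ := by
    rw [hd, Int.mem_zmultiples_iff]
    exact (Int.isUnit_iff_natAbs_eq.mpr hd1).dvd
  simpa [φ] using AddSubgroup.mem_comap.mp this

end Cfsg.Agent.S0869
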