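import Cfsg.Statements.S0875
import Cfsg.Agent.Char.PowerPart

set_option autoImplicit false
open Cfsg

namespace Cfsg.Agent.S0875
open scoped CfsgLib.Char


/-- Let G be a finite group of order m * n with m and n coprime, and g an element whose order is coprime to m. Every x in G factors uniquely as x = u * v with u, v commuting, the order of u coprime to n and the order of v coprime to m; let ϑ be the function on G equal to n at those x whose factor v is conjugate to g and equal to 0 elsewhere. Then ϑ is a linear combination of the irreducible characters of G with algebraic-integer coefficients. -/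
theorem result {G : Type*} [Group G] [Fintype G] (m n : ℕ) (hmn : Nat.card G = m * n) (hcop : Nat.Coprime m n) (g : G) (hg : Nat.Coprime (orderOf g) m) (ϑ : G → ℂ) (hϑ1 : ∀ x : G, (∃ v : G, IsConj v g ∧ (∃ u : G, x = u * v ∧ Commute u v ∧ Nat.Coprime (orderOf u) n ∧ Nat.Coprime (orderOf v) m)) → ϑ x = n) (hϑ0 : ∀ x : G, (¬ ∃ v : G, IsConj v g ∧ (∃ u : G, x = u * v ∧ Commute u v ∧ Nat.Coprime (orderOf u) n ∧ Nat.Coprime (orderOf v) m)) → ϑ x = 0) : ∃ c : Cfsg.IrrCharacter G → ℂ, (∀ χ, c χ ∈ Cfsg.AlgInt) ∧ ϑ = ∑ᶠ χ : Cfsg.IrrCharacter G, c χ • (χ : G → ℂ) := by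
  classical
  open CfsgLib.Char CfsgLib.PowerPart in
  · obtain ⟨l, h⟩ := exists_isExp hmn hcop
    have hval : ∀ x, ϑ x = (n : ℂ) * (if IsConj (x ^ l) g then 1 else 0) := by
      intro x
      split_ifs with hc
      · rw [mul_one]
        refine hϑ1 x ⟨x ^ l, hc, x * (x ^ l)⁻¹, by simp,
          (((Commute.refl x).pow_right l).mul_left ((Commute.refl (x ^ l)).inv_left)),
          hcop.coprime_dvd_left (h.rest x), hcop.symm.coprime_dvd_left (h.order_pow x)⟩
      · rw [mul_zero]
        refine hϑ0 x ?_
        rintro ⟨v, hv, u, hx, hcomm, hu, hv'⟩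
        exact hc (by rwa [h.eq_part hx hcomm hu hv'])
    have hδc : Cfsg.IsClassFunction G (fun x => if IsConj x g then (1 : ℂ) else 0) := fun x y => by
      have : IsConj (y * x * y⁻¹) x := (isConj_iff.2 ⟨y, rfl⟩).symm
      exact if_congr ⟨fun e => this.symm.trans e, fun e => this.trans e⟩ rfl rfl
    have hϑc : Cfsg.IsClassFunction G ϑ := fun x y => by
      rw [hval, hval, conj_pow]
      exact congrArg _ (hδc _ _)
    refine ⟨fun χ => classInner ϑ χ.1, fun χ => ?_, ?_⟩
    · show IsIntegral ℤ _
      rw [funext hval]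
      refine integral_inner h hδc (fun x => ?_) (isCharacter_of_isIrr χ.2)
      split_ifs
      · exact isIntegral_one
      · exact isIntegral_zero
    · rw [finsum_eq_sum_of_fintype]
      exact classFun_eq_sum hϑc

end Cfsg.Agent.S0875
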