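import Cfsg.Statements.S0876
import Cfsg.Agent.Blk.Regular
import Cfsg.Agent.Blk.Criterion
import Cfsg.Agent.Blk.PPart

set_option autoImplicit false
open Cfsg

namespace Cfsg.Agent.S0876
open scoped CfsgLib.Char


/-- Let G be a finite group, p a prime and M a maximal ideal of the ring of algebraic integers containing p. Let x, y be elements with p-parts a and b (so a⁻¹ * x and b⁻¹ * y are their p-regular parts). Then a⁻¹ * x and b⁻¹ * y are conjugate in G if and only if, for every irreducible character χ, the difference χ x - χ y lies in the local ideal at M. -/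
theorem result {G : Type*} [Group G] [Finite G] (p : ℕ) (M : Ideal Cfsg.AlgInt) (hM : Cfsg.IsPModular p M) (x y a b : G) (ha : Cfsg.IsPPart p x a) (hb : Cfsg.IsPPart p y b) : IsConj (a⁻¹ * x) (b⁻¹ * y) ↔ ∀ χ : Cfsg.IrrCharacter G, Cfsg.MemLocalIdeal M ((χ : G → ℂ) x - (χ : G → ℂ) y) := by
  classical
  haveI := Fintype.ofFinite G
  have hp : p.Prime := hM.1
  haveI : Fact p.Prime := ⟨hp⟩
  haveI := hM.2.1.isPrime
  open CfsgLib.Blk in
  · obtain ⟨x', hx1, hxc, hxa, hxr⟩ := ha
    obtain ⟨y', hy1, hyc, hyb, hyr⟩ := hb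
    rw [show a⁻¹ * x = x' by rw [← hx1]; group, show b⁻¹ * y = y' by rw [← hy1]; group]
    have hint : ∀ (χ : Cfsg.IrrCharacter G) (g : G), (χ : G → ℂ) g ∈ locRing M := fun χ g =>
      integral_mem (CfsgLib.Char.char_isIntegral (CfsgLib.Char.isCharacter_of_isIrr χ.2) g)
    have hred : ∀ χ : Cfsg.IrrCharacter G, red M ((χ : G → ℂ) x) = red M ((χ : G → ℂ) x') ∧
        red M ((χ : G → ℂ) y) = red M ((χ : G → ℂ) y') := fun χ =>
      ⟨red_char_eq hM (CfsgLib.Char.isCharacter_of_isIrr χ.2) hx1 hxc hxa,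
        red_char_eq hM (CfsgLib.Char.isCharacter_of_isIrr χ.2) hy1 hyc hyb⟩
    constructor
    · intro h χ
      rw [← red_eq_zero_iff (sub_mem (hint χ x) (hint χ y)), red_sub (hint χ x) (hint χ y), (hred χ).1,
        (hred χ).2, CfsgLib.Char.classFun_isConj (CfsgLib.Char.classFun_of_irr χ.2) h, sub_self]
    · intro h
      by_contra hne
      obtain ⟨c, m, hm, hc⟩ := exists_comb_regular hM hxr
      have h1 := hc x' hxr
      have h2 := hc y' hyr
      rw [if_pos (IsConj.refl _)] at h1
      rw [if_neg (fun e => hne e.symm)] at h2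
      refine hm ((natCast_memLocalIdeal_iff hM m).1 ?_)
      rw [← h1, ← sub_zero (∑ χ : Cfsg.IrrCharacter G, _), ← h2, ← Finset.sum_sub_distrib]
      refine memLocalIdeal_sum _ _ fun χ _ => ?_
      rw [← mul_sub]
      refine memLocalIdeal_mul_left (c χ).2 ?_
      rw [← red_eq_zero_iff (sub_mem (hint χ _) (hint χ _)), red_sub (hint χ _) (hint χ _), ← (hred χ).1,
        ← (hred χ).2, ← red_sub (hint χ _) (hint χ _), red_eq_zero_iff (sub_mem (hint χ _) (hint χ _))]
      exact h χ

end Cfsg.Agent.S0876
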