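import Cfsg.Statements.S0877
import Cfsg.Agent.Char.PowerPart
import Mathlib.GroupTheory.Complement

set_option autoImplicit false
open Cfsg

namespace Cfsg.Agent.S0877
open scoped CfsgLib.Char ComplexConjugate


/-- Let H be a subgroup of the finite group G whose order is coprime to its index. Suppose that elements of H conjugate in G are conjugate in H, and that every subgroup E of G that is elementary for some prime (in the sense used for Brauer's characterisation of characters) and whose order divides the order of H is conjugate to a subgroup of H. Then there is a normal subgroup K with K ⊔ H = ⊤ and K ⊓ H trivial. -/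
theorem result {G : Type*} [Group G] [Finite G] (H : Subgroup G) (hHall : Nat.Coprime (Nat.card H) H.index) (hfus : ∀ x ∈ H, ∀ y ∈ H, IsConj x y → ∃ h ∈ H, h * x * h⁻¹ = y) (helem : ∀ (E : Subgroup G) (p : ℕ), p.Prime → Cfsg.IsElementary p E → Nat.card E ∣ Nat.card H → ∃ g : G, E.map (MulAut.conj g).toMonoidHom ≤ H) : ∃ K : Subgroup G, K.Normal ∧ K ⊔ H = ⊤ ∧ K ⊓ H = ⊥ := by
  classical
  haveI := Fintype.ofFinite G
  open CfsgLib.Char CfsgLib.PowerPart in
  · set n := Nat.card H with hn
    set m := H.index with hm
    have hmn : Nat.card G = m * n := (Subgroup.index_mul_card H).symm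
    obtain ⟨l, h⟩ := exists_isExp hmn hHall.symm
    have hfix : ∀ a : H, (a : G) ^ l = a := fun a =>
      h.pow_of_dvd_n (Subgroup.orderOf_coe a ▸ orderOf_dvd_natCard a)
    have hrep : ∀ x : G, ∃ a : H, IsConj (x ^ l) a := by
      intro x
      obtain ⟨p, hp, hE⟩ := isElementary_zpowers (x ^ l)
      obtain ⟨g, hg⟩ := helem _ p hp hE (by rw [Nat.card_zpowers]; exact h.order_pow x)
      exact ⟨⟨g * x ^ l * g⁻¹, hg ⟨x ^ l, Subgroup.mem_zpowers _, rfl⟩⟩, isConj_iff.2 ⟨g, rfl⟩⟩
    choose a ha using hrep
    have hwd : ∀ (θ : H → ℂ), Cfsg.IsClassFunction H θ → ∀ (x : G) (b : H), IsConj (x ^ l) b → θ (a x) = θ b := by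
      intro θ hθ x b hb
      obtain ⟨k, hk, hkb⟩ := hfus _ (a x).2 _ b.2 ((ha x).symm.trans hb)
      have : b = ⟨k, hk⟩ * a x * ⟨k, hk⟩⁻¹ := Subtype.ext hkb.symm
      rw [this, hθ]
    have hfc : ∀ (θ : H → ℂ), Cfsg.IsClassFunction H θ → Cfsg.IsClassFunction G (fun x => θ (a x)) := by
      intro θ hθ x y
      refine hwd θ hθ _ _ ?_
      rw [conj_pow]
      exact (isConj_iff.2 ⟨y, rfl⟩).symm.trans (ha x)
    -- each function is a generalized character
    have hgen : ∀ θ : H → ℂ, Cfsg.IsCharacter H θ → Cfsg.IsGeneralizedCharacter G (fun x => θ (a x)) := by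
      intro θ hθ
      refine brauer_criterion (hfc θ (classFun_of_char hθ)) fun E p hp hE => ?_
      obtain ⟨f, hf, hR⟩ := h.exists_hom hp E hE
      have hle : f.range.map E.subtype ≤ E := Subgroup.map_subtype_le _
      obtain ⟨g, hg⟩ := helem _ p hp (isElementary_of_le hp hle hE)
        (by rwa [Nat.card_congr (Subgroup.equivMapOfInjective f.range E.subtype E.subtype_injective).toEquiv.symm])
      let φ : E →* H := ((MulAut.conj g).toMonoidHom.comp (E.subtype.comp f)).codRestrict H fun e =>
        hg ⟨(f e : G), ⟨f e, ⟨e, rfl⟩, rfl⟩, rfl⟩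
      refine ⟨θ ∘ φ, 0, isCharacter_comp φ hθ, isCharacter_zero, ?_⟩
      ext e
      simp only [Pi.sub_apply, Pi.zero_apply, sub_zero, Function.comp_apply]
      refine hwd θ (classFun_of_char hθ) _ _ (isConj_iff.2 ⟨g, ?_⟩)
      show g * (e : G) ^ l * g⁻¹ = g * (f e : G) * g⁻¹
      rw [hf, SubmonoidClass.coe_pow]
    -- counting
    let T : H → ℕ := fun b => (Finset.univ.filter fun x : G => IsConj (x ^ l) b).card
    let c : H → ℕ := fun b => (Finset.univ.filter fun b' : H => IsConj (b' : G) b).card
    have hc : ∀ b, 0 < c b := fun b => Finset.card_pos.2 ⟨b, Finset.mem_filter.2 ⟨Finset.mem_univ _, IsConj.refl _⟩⟩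
    have hmT : ∀ b, m ∣ T b := by
      intro b
      have hi := integral_inner h (δ := fun x => if IsConj x (b : G) then (1 : ℂ) else 0) (fun x y => by
          have hxy : IsConj x (y * x * y⁻¹) := isConj_iff.2 ⟨y, rfl⟩
          exact if_congr ⟨fun e => hxy.trans e, fun e => hxy.symm.trans e⟩ rfl rfl)
        (fun x => by split_ifs <;> first | exact isIntegral_one | exact isIntegral_zero)
        (isCharacter_one (G := G))
      refine dvd_of_isIntegral_div (Nat.pos_iff_ne_zero.1 (Nat.pos_of_ne_zero (by
        intro e; rw [e, zero_mul] at hmn; exact Nat.card_pos.ne' hmn))) ?_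
      convert hi using 1
      rw [classInner_def, hmn]
      simp only [map_one, mul_one, ← Finset.mul_sum, Finset.sum_boole, Nat.cast_mul]
      have hn0 : (n : ℂ) ≠ 0 := natCard_ne_zero H
      have hm0 : (m : ℂ) ≠ 0 := Nat.cast_ne_zero.2 (Subgroup.FiniteIndex.index_ne_zero (H := H))
      field_simp
      rfl
    have hdvd : ∀ b : H, Nat.card G ∣ T b * Nat.card (Subgroup.centralizer ({(b : G)} : Set G)) := by
      intro b
      have key : T b = (Finset.univ.filter fun y : G => IsConj (b : G) y).card *
          (Finset.univ.filter fun x : G => x ^ l = b).card := by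
        show (Finset.univ.filter fun x : G => IsConj (x ^ l) b).card = _
        rw [Finset.card_eq_sum_card_fiberwise (f := fun x : G => x ^ l)
          (t := Finset.univ.filter fun y : G => IsConj (b : G) y)
          (fun x hx => Finset.mem_filter.2 ⟨Finset.mem_univ _, (Finset.mem_filter.1 hx).2.symm⟩)]
        rw [Finset.sum_const_nat]
        intro y hy
        obtain ⟨k, hk⟩ := isConj_iff.1 (Finset.mem_filter.1 hy).2
        symm
        refine Finset.card_bij (fun x _ => k * x * k⁻¹) ?_ ?_ ?_
        · intro x hx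
          have hx' : x ^ l = b := (Finset.mem_filter.1 hx).2
          simp only [Finset.mem_filter, Finset.mem_univ, true_and]
          rw [conj_pow, hx', hk]
          exact ⟨(Finset.mem_filter.1 hy).2.symm, rfl⟩
        · intro x _ x' _ e; simpa using e
        · intro x hx
          simp only [Finset.mem_filter, Finset.mem_univ, true_and] at hx
          refine ⟨k⁻¹ * x * k, Finset.mem_filter.2 ⟨Finset.mem_univ _, ?_⟩, by group⟩
          have := conj_pow (a := k⁻¹) (b := x) (i := l)
          rw [inv_inv] at this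
          rw [this, hx.2, ← hk]; group
      rw [key, card_filter_isConj, mul_right_comm, index_mul_card_centralizer]
      exact dvd_mul_right _ _
    have hlow : ∀ b : H, m * c b ≤ T b := by
      intro b
      obtain ⟨k, hk⟩ := hmT b
      have hk0 : 0 < k := by
        rcases Nat.eq_zero_or_pos k with e | e
        · exfalso
          have : 0 < T b := Finset.card_pos.2 ⟨b, Finset.mem_filter.2 ⟨Finset.mem_univ _, by rw [hfix b]⟩⟩
          rw [hk, e, mul_zero] at this; omega
        · exact e
      rw [hk]
      refine Nat.mul_le_mul_left m ?_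
      set C := Subgroup.centralizer ({(b : G)} : Set G) with hC
      set D := Subgroup.centralizer ({b} : Set H) with hD
      have h1 : n ∣ k * Nat.card C := by
        have h1 := hdvd b
        rw [hk, hmn, mul_assoc] at h1
        exact Nat.dvd_of_mul_dvd_mul_left (Nat.pos_of_ne_zero (Subgroup.FiniteIndex.index_ne_zero (H := H))) h1
      -- the `n`-part of the centralizer lies in `H`
      have h2 : Nat.gcd (Nat.card C) n ∣ Nat.card D := by
        refine (Nat.dvd_iff_prime_pow_dvd_dvd _ _).2 fun q i hq hqi => ?_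
        haveI : Fact q.Prime := ⟨hq⟩
        rcases Nat.eq_zero_or_pos i with e | hi
        · simp [e]
        have hqn : q ∣ n := (dvd_pow_self q hi.ne').trans (hqi.trans (Nat.gcd_dvd_right _ _))
        obtain ⟨S, hS⟩ := Sylow.exists_subgroup_card_pow_prime q (G := C) (hqi.trans (Nat.gcd_dvd_left _ _))
        set S' : Subgroup G := S.map C.subtype with hS'
        have hS'c : Nat.card S' = q ^ i := by
          rw [hS', ← Nat.card_congr (Subgroup.equivMapOfInjective S C.subtype C.subtype_injective).toEquiv, hS]
        have hS'C : S' ≤ C := Subgroup.map_subtype_le _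
        set Z := Subgroup.zpowers (b : G) with hZ
        set E := Z ⊔ S' with hE
        have hEC : E ≤ C := sup_le (Subgroup.zpowers_le.2 (mem_centralizer_singleton.2 rfl)) hS'C
        have hbE : (b : G) ∈ E := le_sup_left (a := Z) (Subgroup.mem_zpowers _)
        set b' : E := ⟨b, hbE⟩ with hb'
        have hb'c : b' ∈ Subgroup.center E := Subgroup.mem_center_iff.2 fun w =>
          Subtype.ext (mem_centralizer_singleton.1 (hEC w.2))
        set a₀ := (orderOf (b : G)).factorization q with ha₀
        have hord : orderOf b' = orderOf (b : G) := Subgroup.orderOf_mk ..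
        have hx : orderOf (b' ^ q ^ a₀) = orderOf (b : G) / q ^ a₀ := by
          rw [orderOf_pow' _ (pow_ne_zero _ hq.ne_zero), hord, Nat.gcd_eq_right (Nat.ordProj_dvd _ _)]
        have hidx : ∃ j, (Subgroup.zpowers (b' ^ q ^ a₀)).index = q ^ j := by
          have hZn : (Z.subgroupOf E).index ∣ q ^ i := by
            have hcz : Z.subgroupOf E ≤ Subgroup.center E := fun z hz => by
              obtain ⟨j, hj⟩ := Subgroup.mem_zpowers_iff.1 (show (z : G) ∈ Z from hz)
              rw [show z = b' ^ j from Subtype.ext (by simpa using hj.symm)]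
              exact Subgroup.zpow_mem _ hb'c j
            haveI : (Z.subgroupOf E).Normal := normal_of_le_center hcz
            have htop : S'.subgroupOf E ⊔ Z.subgroupOf E = ⊤ := by
              rw [← Subgroup.subgroupOf_sup le_sup_right le_sup_left, Subgroup.subgroupOf_eq_top]; exact sup_le le_sup_right le_sup_left
            show (Z.subgroupOf E).index ∣ _
            rw [← Subgroup.relIndex_top_right, ← htop, Subgroup.relIndex_sup_right]
            refine (Subgroup.relIndex_dvd_card _ _).trans ?_
            rw [Nat.card_congr (Subgroup.subgroupOfEquivOfLe (le_sup_right : S' ≤ E)).toEquiv, hS'c]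
          have h4 : Subgroup.zpowers (b' ^ q ^ a₀) ≤ Z.subgroupOf E :=
            Subgroup.zpowers_le.2 (by
              show ((b' ^ q ^ a₀ : E) : G) ∈ Z
              rw [SubmonoidClass.coe_pow]
              exact Subgroup.npow_mem_zpowers _ _)
          have h5 := Subgroup.relIndex_mul_index h4
          have h6 : (Subgroup.zpowers (b' ^ q ^ a₀)).relIndex (Z.subgroupOf E) = q ^ a₀ := by
            have h7 := Subgroup.relIndex_mul_relIndex ⊥ _ _ bot_le h4
            rw [Subgroup.relIndex_bot_left, Subgroup.relIndex_bot_left, Nat.card_zpowers, hx,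
              Nat.card_congr (Subgroup.subgroupOfEquivOfLe (le_sup_left : Z ≤ E)).toEquiv, hZ, Nat.card_zpowers] at h7
            have h8 : orderOf (b : G) / q ^ a₀ ≠ 0 := (Nat.ordCompl_pos q (orderOf_pos _).ne').ne'
            refine mul_left_cancel₀ h8 ?_
            rw [h7, Nat.div_mul_cancel (Nat.ordProj_dvd _ _)]
          rw [h6] at h5
          obtain ⟨j, -, hj⟩ := (Nat.dvd_prime_pow hq).1 hZn
          exact ⟨a₀ + j, by rw [← h5, hj, pow_add]⟩
        have helE : Cfsg.IsElementary q E :=
          ⟨b' ^ q ^ a₀, Subgroup.pow_mem _ hb'c _, by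
            rw [hx]; exact (Nat.coprime_ordCompl hq (orderOf_pos _).ne').symm, hidx⟩
        have hEn : Nat.card E ∣ n := by
          obtain ⟨j, hj⟩ := hidx
          rw [← Subgroup.card_mul_index (Subgroup.zpowers (b' ^ q ^ a₀)), Nat.card_zpowers, hj, hx]
          have hco : Nat.Coprime (orderOf (b : G) / q ^ a₀) (q ^ j) :=
            Nat.Coprime.pow_right _ (Nat.coprime_ordCompl hq (orderOf_pos _).ne').symm
          refine hco.mul_dvd_of_dvd_of_dvd ((Nat.div_dvd_of_dvd (Nat.ordProj_dvd _ _)).trans
            (Subgroup.orderOf_coe b ▸ orderOf_dvd_natCard b)) ?_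
          refine Nat.Coprime.dvd_of_dvd_mul_left (Nat.Coprime.pow_left _ (hHall.coprime_dvd_left hqn)) ?_
          rw [← hmn, ← hj]
          exact (Subgroup.index_dvd_card _).trans (Subgroup.card_subgroup_dvd_card E)
        obtain ⟨g, hg⟩ := helem E q hq helE hEn
        have hgb : g * (b : G) * g⁻¹ ∈ H := hg ⟨b, hbE, rfl⟩
        obtain ⟨u, hu, hub⟩ := hfus _ hgb _ b.2 (isConj_iff.2 ⟨g⁻¹, by group⟩)
        have hmem : ∀ s ∈ S', (u * g) * s * (u * g)⁻¹ ∈ H := fun s hs => by
          have := H.mul_mem (H.mul_mem hu (hg ⟨s, le_sup_right (a := Z) hs, rfl⟩)) (H.inv_mem hu)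
          simpa [mul_assoc] using this
        have hcomm : (u * g) * b * (u * g)⁻¹ = b := by
          conv_rhs => rw [← hub]
          group
        let F : S' → D := fun s => ⟨⟨(u * g) * s * (u * g)⁻¹, hmem s s.2⟩, mem_centralizer_singleton.2 (Subtype.ext (by
          show (u * g) * s * (u * g)⁻¹ * b = b * ((u * g) * s * (u * g)⁻¹)
          conv_lhs => rw [← hcomm]
          conv_rhs => rw [← hcomm]
          have := mem_centralizer_singleton.1 (hS'C s.2)
          calc u * g * ↑s * (u * g)⁻¹ * (u * g * ↑b * (u * g)⁻¹) = u * g * (↑s * ↑b) * (u * g)⁻¹ := by group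
            _ = _ := by rw [this]; group))⟩
        let F' : S' →* D := MonoidHom.mk' F fun s t => Subtype.ext (Subtype.ext (by
          show (u * g) * ((s * t : S') : G) * (u * g)⁻¹ = ((u * g) * s * (u * g)⁻¹) * ((u * g) * t * (u * g)⁻¹)
          rw [Subgroup.coe_mul]; group))
        have hinj : Function.Injective F' := fun s t e => Subtype.ext (by
          have : (u * g) * (s : G) * (u * g)⁻¹ = (u * g) * t * (u * g)⁻¹ := congrArg (fun z : D => ((z : H) : G)) e
          simpa using this)
        rw [← hS'c]
        exact Subgroup.card_dvd_of_injective F' hinj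
      have h3 : n ∣ k * Nat.card D :=
        (Nat.dvd_mul_gcd_iff_dvd_mul.2 h1).trans (by
          rw [Nat.gcd_comm]; exact Nat.mul_dvd_mul_left k h2)
      have h4 : c b = D.index := by
        rw [← card_filter_isConj]
        refine congrArg Finset.card (Finset.filter_congr fun b' _ => ⟨fun e => ?_, fun e => ?_⟩)
        · obtain ⟨v, hv, hvb⟩ := hfus _ b.2 _ b'.2 e.symm
          exact isConj_iff.2 ⟨⟨v, hv⟩, Subtype.ext hvb⟩
        · obtain ⟨v, hv⟩ := isConj_iff.1 e
          exact (isConj_iff.2 ⟨(v : G), congrArg Subtype.val hv⟩).symm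
      rw [h4]
      refine Nat.le_of_mul_le_mul_right ?_ (Nat.card_pos (α := D))
      rw [Subgroup.index_mul_card]
      exact Nat.le_of_dvd (Nat.mul_pos hk0 Nat.card_pos) h3
    have hsum : ∀ F : H → ℂ, Cfsg.IsClassFunction H F →
        ∑ x : G, F (a x) = ∑ b : H, ((T b : ℂ) / c b) * F b := by
      intro F hF
      have hx : ∀ x : G, F (a x) = ∑ b : H, if IsConj (x ^ l) b then F b / c b else 0 := by
        intro x
        rw [← Finset.sum_filter]
        have hset : (Finset.univ.filter fun b : H => IsConj (x ^ l) b) = Finset.univ.filter fun b : H => IsConj (b : G) (a x) :=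
          Finset.filter_congr fun b _ => ⟨fun e => e.symm.trans (ha x), fun e => (ha x).trans e.symm⟩
        rw [hset, Finset.sum_eq_card_nsmul (b := F (a x) / c (a x))]
        · rw [nsmul_eq_mul]
          show F (a x) = (c (a x) : ℂ) * _
          rw [mul_div_cancel₀ _ (Nat.cast_ne_zero.2 (hc _).ne')]
        · intro b hb
          have hb' := (Finset.mem_filter.1 hb).2
          have e1 : F (a x) = F b := hwd F hF x b ((ha x).trans hb'.symm)
          have e2 : c b = c (a x) := congrArg Finset.card (Finset.filter_congr fun b' _ =>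
            ⟨fun e => e.trans hb', fun e => e.trans hb'.symm⟩)
          rw [← e1, e2]
      rw [Finset.sum_congr rfl fun x _ => hx x, Finset.sum_comm]
      refine Finset.sum_congr rfl fun b _ => ?_
      rw [← Finset.sum_filter, Finset.sum_const, nsmul_eq_mul]
      show (T b : ℂ) * _ = _
      ring
    have heq : ∀ b : H, T b = m * c b := by
      have h0 := hsum (fun _ => 1) (fun _ _ => rfl)
      simp only [mul_one, Finset.sum_const, Finset.card_univ, nsmul_eq_mul, Fintype.card_eq_nat_card, hmn] at h0
      have h1 : ∀ b ∈ (Finset.univ : Finset H), (m : ℝ) ≤ (T b : ℝ) / c b := fun b _ => by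
        rw [le_div_iff₀ (by exact_mod_cast hc b)]
        exact_mod_cast hlow b
      have h2 : ∑ b : H, (m : ℝ) = ∑ b : H, (T b : ℝ) / c b := by
        have : ((∑ b : H, (T b : ℝ) / c b : ℝ) : ℂ) = ((m * n : ℕ) : ℂ) := by
          rw [h0]; push_cast; rfl
        have := congrArg Complex.re this
        simp only [Complex.ofReal_re, Complex.natCast_re] at this
        rw [this, Finset.sum_const, Finset.card_univ, Fintype.card_eq_nat_card, nsmul_eq_mul]
        push_cast; ring
      intro b
      have := (Finset.sum_eq_sum_iff_of_le h1).1 h2 b (Finset.mem_univ _)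
      rw [eq_div_iff (by exact_mod_cast (hc b).ne')] at this
      exact_mod_cast this.symm
    have hirr : ∀ θ : Cfsg.IrrCharacter H, Cfsg.IsIrrCharacter G (fun x => θ.1 (a x)) := by
      intro θ
      have hone : θ.1 (a 1) = θ.1 1 := hwd θ.1 (classFun_of_irr θ.2) 1 1 (by simp)
      refine (isIrr_or_neg_of_norm (hgen _ (isCharacter_of_isIrr θ.2)) ?_).resolve_right fun hneg => ?_
      · rw [classInner_def, hsum (fun b => θ.1 b * conj (θ.1 b)) (fun b v => by
          show θ.1 (v * b * v⁻¹) * conj (θ.1 (v * b * v⁻¹)) = θ.1 b * conj (θ.1 b)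
          rw [classFun_of_irr θ.2 b v])]
        have hT : ∀ b : H, ((T b : ℂ) / c b) = m := fun b => by
          rw [heq b, Nat.cast_mul, mul_div_cancel_right₀ _ (Nat.cast_ne_zero.2 (hc b).ne')]
        have h1 := irr_inner_self θ.2
        rw [classInner_def] at h1
        have hm0 : (m : ℂ) ≠ 0 := Nat.cast_ne_zero.2 (Subgroup.FiniteIndex.index_ne_zero (H := H))
        simp only [hT, ← Finset.mul_sum, hmn, Nat.cast_mul, mul_inv]
        rw [mul_comm (m : ℂ)⁻¹, mul_assoc, inv_mul_cancel_left₀ hm0]
        exact h1
      · obtain ⟨d, hd, hd1⟩ := irr_deg hneg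
        obtain ⟨d', hd', hd1'⟩ := irr_deg θ.2
        simp only [Pi.neg_apply, hone, hd1'] at hd1
        have : (0 : ℕ) = d + d' := by
          have e : ((0 : ℕ) : ℂ) = ((d + d' : ℕ) : ℂ) := by push_cast; linear_combination hd1
          exact_mod_cast e
        omega
    have hK : ∀ θ : Cfsg.IrrCharacter H, ∃ K : Subgroup G, K.Normal ∧ ∀ g, g ∈ K ↔ θ.1 (a g) = θ.1 (a 1) := fun θ => by
      obtain ⟨K, hK, hK', -⟩ := exists_kernel (isCharacter_of_isIrr (hirr θ))
      exact ⟨K, hK, hK'⟩
    choose K hKn hKmem using hK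
    have hmem : ∀ x : G, x ∈ ⨅ θ, K θ ↔ x ^ l = 1 := by
      intro x
      simp only [Subgroup.mem_iInf, hKmem]
      constructor
      · intro hx
        have h1 : IsConj (a x) (a 1) := (isConj_iff_irr _ _).2 hx
        obtain ⟨v, hv⟩ := isConj_iff.1 h1
        have : IsConj (x ^ l) ((1 : G) ^ l) :=
          ((ha x).trans (isConj_iff.2 ⟨(v : G), congrArg Subtype.val hv⟩)).trans (ha 1).symm
        rwa [one_pow, isConj_one_left] at this
      · intro hx θ
        exact hwd θ.1 (classFun_of_irr θ.2) x _ (by rw [hx]; simpa using ha 1)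
    refine ⟨⨅ θ, K θ, Subgroup.normal_iInf_normal hKn, ?_⟩
    have hcard : Nat.card (⨅ θ, K θ : Subgroup G) = m := by
      have h1 : c 1 = 1 := by
        refine Finset.card_eq_one.2 ⟨1, Finset.ext fun b => ?_⟩
        simp only [Finset.mem_filter, Finset.mem_univ, true_and, Finset.mem_singleton, OneMemClass.coe_one, isConj_one_left]
        exact OneMemClass.coe_eq_one
      have h2 := heq 1
      rw [h1, mul_one] at h2
      rw [Nat.card_eq_fintype_card, Fintype.card_subtype, ← h2]
      refine congrArg Finset.card (Finset.filter_congr fun x _ => ?_)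
      rw [hmem, OneMemClass.coe_one, isConj_one_left]
    have hcompl : Subgroup.IsComplement' (⨅ θ, K θ : Subgroup G) H :=
      Subgroup.isComplement'_of_coprime (by rw [hcard, hmn]) (by rw [hcard]; exact hHall.symm)
    exact ⟨hcompl.sup_eq_top, hcompl.disjoint.eq_bot⟩

end Cfsg.Agent.S0877
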