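import Cfsg.Statements.S0878
import Mathlib.GroupTheory.GroupAction.MultipleTransitivity
import Mathlib.Data.Fintype.Card
import Mathlib.Tactic.Group

set_option autoImplicit false
open Cfsg

namespace Cfsg.Agent.S0878

/-- Let G be a Zassenhaus group on the finite set Ω, a a point, and let H be the subgroup of the stabilizer of a consisting of the identity and the elements fixing no point other than a (given here as a subgroup of the stabilizer of order one less than the number of points whose non-identity elements fix only a; it is the Frobenius kernel of the stabilizer). Then an element outside the stabilizer of a conjugates no non-identity element of H into H, and the normalizer of H is exactly the stabilizer of a. -/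
theorem result {G Ω : Type*} [Group G] [Finite G] [MulAction G Ω] [Fintype Ω] (hZ : Cfsg.IsZassenhausGroup G Ω) (a : Ω) (H : Subgroup G) (hHa : H ≤ MulAction.stabilizer G a) (hHcard : Nat.card H + 1 = Fintype.card Ω) (hHfix : ∀ u ∈ H, u ≠ 1 → ∀ c : Ω, u • c = c → c = a) : (∀ g : G, g ∉ MulAction.stabilizer G a → ∀ u ∈ H, g * u * g⁻¹ ∈ H → u = 1) ∧ Subgroup.normalizer (H : Set G) = MulAction.stabilizer G a := by
  classical
  haveI := Fintype.ofFinite G
  obtain ⟨hfaith, h2, h3, ⟨g₀, hg₀, a₀, b₀, hab₀, hga₀, hgb₀⟩, -⟩ := hZ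
  haveI := hfaith
  have hcard2 : 2 < Fintype.card Ω := by
    by_contra h
    refine hg₀ (eq_of_smul_eq_smul (α := Ω) fun c => ?_)
    have hc : c = a₀ ∨ c = b₀ := by
      by_contra hne
      simp only [not_or] at hne
      exact h (Fintype.two_lt_card_iff.2 ⟨a₀, b₀, c, hab₀, Ne.symm hne.1, Ne.symm hne.2⟩)
    rcases hc with rfl | rfl <;> simp [hga₀, hgb₀]
  have hHa' : ∀ u ∈ H, u • a = a := fun u hu => hHa hu
  have hfixa : ∀ g : G, ∀ u ∈ H, u ≠ 1 → g * u * g⁻¹ ∈ H → g • a = a := fun g u hu hu1 hg =>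
    hHfix _ hg (fun e => hu1 (conj_eq_one_iff.1 e)) (g • a) (by rw [mul_smul, mul_smul, inv_smul_smul, hHa' u hu])
  refine ⟨fun g hg u hu hc => by_contra fun hu1 => hg (MulAction.mem_stabilizer_iff.2 (hfixa g u hu hu1 hc)), ?_⟩
  refine le_antisymm (fun g hg => ?_) (fun g hg => ?_)
  · obtain ⟨⟨u, hu⟩, hu1⟩ : ∃ u : H, u ≠ 1 := by
      haveI : Nontrivial H := Finite.one_lt_card_iff_nontrivial.1 (by omega)
      exact exists_ne 1
    exact MulAction.mem_stabilizer_iff.2 (hfixa g u hu (fun e => hu1 (Subtype.ext e)) ((Subgroup.mem_normalizer_iff.1 hg u).1 hu))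
  obtain ⟨b, hb⟩ : ∃ b : Ω, b ≠ a := Fintype.exists_ne_of_one_lt_card (by omega) a
  have hne : ∀ u ∈ H, u • b ≠ a := fun u hu e => hb (MulAction.injective u (e.trans (hHa' u hu).symm))
  have hinjb : ∀ u ∈ H, ∀ v ∈ H, u • b = v • b → u = v := fun u hu v hv e => by
    by_contra huv
    exact hb (hHfix _ (mul_mem (inv_mem hv) hu) (fun e1 => huv (inv_mul_eq_one.1 e1).symm) b (by
      rw [mul_smul, e, inv_smul_smul]))
  have hsurjb : ∀ c : Ω, c ≠ a → ∃ u ∈ H, u • b = c := by
    intro c hc
    have hbij : Function.Bijective (fun u : H => (⟨(u : G) • b, hne u u.2⟩ : {d : Ω // d ≠ a})) :=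
      (Nat.bijective_iff_injective_and_card _).2 ⟨fun u v e => Subtype.ext (hinjb u u.2 v v.2 (congrArg Subtype.val e)), by
        rw [Nat.card_eq_fintype_card (α := {d : Ω // d ≠ a}), Fintype.card_subtype_compl, Fintype.card_subtype_eq]
        omega⟩
    obtain ⟨u, hu⟩ := hbij.2 ⟨c, hc⟩
    exact ⟨u, u.2, congrArg Subtype.val hu⟩
  let E : Subgroup G := MulAction.stabilizer G a ⊓ MulAction.stabilizer G b
  have hcardS : Nat.card (H × E) = Nat.card (MulAction.stabilizer G a) := by
    refine Nat.card_eq_of_bijective (fun t => ⟨(t.1 : G) * t.2, mul_mem (hHa t.1.2) t.2.2.1⟩) ⟨?_, ?_⟩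
    · rintro ⟨u, x⟩ ⟨v, y⟩ e
      have e1 : (u : G) * x = v * y := congrArg Subtype.val e
      have e2 := congrArg (· • b) e1
      simp only [mul_smul] at e2
      rw [show (x : G) • b = b from x.2.2, show (y : G) • b = b from y.2.2] at e2
      have huv : u = v := Subtype.ext (hinjb u u.2 v v.2 e2)
      subst huv
      exact Prod.ext rfl (Subtype.ext (mul_left_cancel e1))
    · rintro ⟨s, hs⟩
      have hs' : s • a = a := hs
      obtain ⟨u, hu, e⟩ := hsurjb (s • b) fun e => hb (MulAction.injective s (e.trans hs'.symm))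
      refine ⟨(⟨u, hu⟩, ⟨u⁻¹ * s, Subgroup.mem_inf.2 ⟨mul_mem (inv_mem (hHa hu)) hs, ?_⟩⟩), Subtype.ext (mul_inv_cancel_left u s)⟩
      show u⁻¹ * s ∈ MulAction.stabilizer G b
      rw [MulAction.mem_stabilizer_iff, mul_smul, ← e, inv_smul_smul]
  have hkey : ∀ s : G, s • a = a → (∀ c : Ω, s • c = c → c = a) → s ∈ H := by
    intro s hs hfix
    let f : H × E → MulAction.stabilizer G a := fun t => if (t.2 : G) = 1 then ⟨t.1, hHa t.1.2⟩ else
      ⟨(t.1 : G) * t.2 * (t.1 : G)⁻¹, mul_mem (mul_mem (hHa t.1.2) t.2.2.1) (inv_mem (hHa t.1.2))⟩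
    have hfixb : ∀ t : H × E, ((t.1 : G) * t.2 * (t.1 : G)⁻¹) • ((t.1 : G) • b) = (t.1 : G) • b := fun t => by
      rw [mul_smul, mul_smul, inv_smul_smul, show (t.2 : G) • b = b from t.2.2.2]
    have hfinj : Function.Injective f := by
      rintro ⟨u, x⟩ ⟨v, y⟩ e
      simp only [f] at e
      split_ifs at e with hx hy hy
      · exact Prod.ext (Subtype.ext (congrArg Subtype.val e :)) (Subtype.ext (hx.trans hy.symm))
      · exfalso
        have e1 : (u : G) = v * y * (v : G)⁻¹ := congrArg Subtype.val e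
        by_cases hu : (u : G) = 1
        · exact hy (conj_eq_one_iff.1 (e1.symm.trans hu))
        · exact hne v v.2 (hHfix u u.2 hu _ (by rw [e1]; exact hfixb (v, y)))
      · exfalso
        have e1 : (u : G) * x * (u : G)⁻¹ = v := congrArg Subtype.val e
        by_cases hv : (v : G) = 1
        · exact hx (conj_eq_one_iff.1 (e1.trans hv))
        · exact hne u u.2 (hHfix v v.2 hv _ (by rw [← e1]; exact hfixb (u, x)))
      · have e1 : (u : G) * x * (u : G)⁻¹ = v * y * (v : G)⁻¹ := congrArg Subtype.val e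
        have huv : (u : G) • b = (v : G) • b := by
          by_contra hne'
          refine hx (conj_eq_one_iff.1 (h3 _ a ((u : G) • b) ((v : G) • b) (Ne.symm (hne u u.2)) hne'
            (Ne.symm (hne v v.2)) ?_ (hfixb (u, x)) (by rw [e1]; exact hfixb (v, y))))
          exact mul_mem (mul_mem (hHa u.2) x.2.1) (inv_mem (hHa u.2))
        have h' : u = v := Subtype.ext (hinjb u u.2 v v.2 huv)
        subst h'
        simp only [mul_left_inj, mul_right_inj] at e1
        exact Prod.ext rfl (Subtype.ext e1)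
    obtain ⟨⟨u, x⟩, ht⟩ := ((Nat.bijective_iff_injective_and_card f).2 ⟨hfinj, hcardS⟩).2 ⟨s, hs⟩
    simp only [f] at ht
    split_ifs at ht with hx
    · rw [show s = (u : G) from (congrArg Subtype.val ht).symm]; exact u.2
    · exact (hne u u.2 (hfix _ (by rw [show s = (u : G) * x * (u : G)⁻¹ from (congrArg Subtype.val ht).symm]; exact hfixb (u, x)))).elim
  have hconj : ∀ g : G, g • a = a → ∀ u ∈ H, g * u * g⁻¹ ∈ H := by
    intro g hga u hu
    by_cases hu1 : u = 1
    · simp [hu1]
    have hga' : g⁻¹ • a = a := inv_smul_eq_iff.2 hga.symm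
    refine hkey _ (by rw [mul_smul, mul_smul, hga', hHa' u hu, hga]) fun c hc => ?_
    rw [mul_smul, mul_smul, smul_eq_iff_eq_inv_smul] at hc
    rw [← hga, ← hHfix u hu hu1 _ hc, smul_inv_smul]
  refine Subgroup.mem_normalizer_iff.2 fun u => ⟨hconj g hg u, fun h => ?_⟩
  have := hconj g⁻¹ (inv_smul_eq_iff.2 (show g • a = a from hg).symm) _ h
  simpa [mul_assoc] using this

end Cfsg.Agent.S0878
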