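import Cfsg.Statements.S0879
import Mathlib.GroupTheory.GroupAction.MultipleTransitivity
import Mathlib.GroupTheory.Index
import Mathlib.Tactic.Group

set_option autoImplicit false
open Cfsg

namespace Cfsg.Agent.S0879

/-- Let G be a Zassenhaus group on the finite set Ω and E the stabilizer of two distinct points a, b. Then an element outside the normalizer of E conjugates no non-identity element of E into E, and E has index 2 in its normalizer. -/
theorem result {G Ω : Type*} [Group G] [Finite G] [MulAction G Ω] [Fintype Ω] (hZ : Cfsg.IsZassenhausGroup G Ω) {a b : Ω} (hab : a ≠ b) : (∀ g : G, g ∉ Subgroup.normalizer ((MulAction.stabilizer G a ⊓ MulAction.stabilizer G b : Subgroup G) : Set G) → ∀ x ∈ (MulAction.stabilizer G a ⊓ MulAction.stabilizer G b : Subgroup G), g * x * g⁻¹ ∈ (MulAction.stabilizer G a ⊓ MulAction.stabilizer G b : Subgroup G) → x = 1) ∧ ((MulAction.stabilizer G a ⊓ MulAction.stabilizer G b : Subgroup G).subgroupOf (Subgroup.normalizer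 ((MulAction.stabilizer G a ⊓ MulAction.stabilizer G b : Subgroup G) : Set G))).index = 2 := by
  classical
  obtain ⟨hfaith, h2, h3, ⟨g₀, hg₀, a₀, b₀, hab₀, hga₀, hgb₀⟩, -⟩ := hZ
  haveI := hfaith
  haveI := h2
  set E : Subgroup G := MulAction.stabilizer G a ⊓ MulAction.stabilizer G b with hE
  have hmem : ∀ x, x ∈ E ↔ x • a = a ∧ x • b = b := fun x => Iff.rfl
  have hpair : ∀ g x : G, x ∈ E → x ≠ 1 → g * x * g⁻¹ ∈ E →
      (g • a = a ∧ g • b = b) ∨ (g • a = b ∧ g • b = a) := by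
    intro g x hx hx1 hg
    obtain ⟨hxa, hxb⟩ := (hmem x).1 hx
    have hy1 : g * x * g⁻¹ ≠ 1 := fun e => hx1 (conj_eq_one_iff.1 e)
    obtain ⟨hya, hyb⟩ := (hmem _).1 hg
    have key : ∀ c, x • c = c → g • c = a ∨ g • c = b := by
      intro c hc
      by_contra hne
      simp only [not_or] at hne
      exact hy1 (h3 _ a b (g • c) hab (Ne.symm hne.2) (Ne.symm hne.1) hya hyb (by rw [mul_smul, mul_smul, inv_smul_smul, hc]))
    rcases key a hxa with h | h <;> rcases key b hxb with h' | h'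
    · exact absurd (MulAction.injective g (h.trans h'.symm)) hab
    · exact Or.inl ⟨h, h'⟩
    · exact Or.inr ⟨h, h'⟩
    · exact absurd (MulAction.injective g (h.trans h'.symm)) hab
  have hnorm : ∀ g : G, (g • a = a ∧ g • b = b) ∨ (g • a = b ∧ g • b = a) →
      g ∈ Subgroup.normalizer (E : Set G) := by
    intro g hg
    refine Subgroup.mem_normalizer_iff.2 fun x => ?_
    have e : ∀ c : Ω, (g * x * g⁻¹) • (g • c) = g • c ↔ x • c = c := fun c => by
      rw [mul_smul, mul_smul, inv_smul_smul, smul_left_cancel_iff]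
    rw [hmem, hmem, ← e a, ← e b]
    rcases hg with ⟨h, h'⟩ | ⟨h, h'⟩ <;> rw [h, h']
    exact and_comm
  refine ⟨fun g hg x hx hgx => by_contra fun hx1 => hg (hnorm g (hpair g x hx hx1 hgx)), ?_⟩
  obtain ⟨k, hk1, hk2⟩ := MulAction.is_two_pretransitive_iff.1 h2 hab₀ hab
  have hx0 : k * g₀ * k⁻¹ ∈ E := by
    refine (hmem _).2 ⟨?_, ?_⟩
    · rw [← hk1, mul_smul, mul_smul, inv_smul_smul, hga₀]
    · rw [← hk2, mul_smul, mul_smul, inv_smul_smul, hgb₀]
  obtain ⟨t, ht1, ht2⟩ := MulAction.is_two_pretransitive_iff.1 h2 hab (Ne.symm hab)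
  have htN := hnorm t (Or.inr ⟨ht1, ht2⟩)
  rw [Subgroup.index_eq_two_iff']
  refine ⟨⟨t, htN⟩, fun g => ?_⟩
  rw [Subgroup.mem_subgroupOf, Subgroup.mem_subgroupOf, Subgroup.coe_mul, xor_iff_iff_not]
  show t * (g : G) ∈ E ↔ ¬ (g : G) ∈ E
  constructor
  · intro h h'
    have h1 : t ∈ E := by simpa using mul_mem h (inv_mem h')
    exact hab (((hmem t).1 h1).1.symm.trans ht1)
  · intro h
    rcases hpair g _ hx0 (fun e => hg₀ (conj_eq_one_iff.1 e)) ((Subgroup.mem_normalizer_iff.1 g.2 _).1 hx0) with ⟨h1, h1'⟩ | ⟨h1, h1'⟩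
    · exact absurd ((hmem _).2 ⟨h1, h1'⟩) h
    · refine (hmem _).2 ⟨?_, ?_⟩
      · rw [mul_smul, h1, ht2]
      · rw [mul_smul, h1', ht1]

end Cfsg.Agent.S0879
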