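import Cfsg.Statements.S0880
import Cfsg.Agent.Char.Classes

set_option autoImplicit false
open Cfsg

namespace Cfsg.Agent.S0880

/-- Let G be a finite simple Zassenhaus group on Ω with n points whose two-point stabilizer E has odd order less than n - 2. Then there are two elements of G, each fixing no point of Ω, that are not conjugate. -/
theorem result {G Ω : Type*} [Group G] [Finite G] [MulAction G Ω] [Fintype Ω] (hZ : Cfsg.IsZassenhausGroup G Ω) {a b : Ω} (hab : a ≠ b) [IsSimpleGroup G] (hodd : Odd (Nat.card ↥(MulAction.stabilizer G a ⊓ MulAction.stabilizer G b : Subgroup G))) (hlt : Nat.card ↥(MulAction.stabilizer G a ⊓ MulAction.stabilizer G b : Subgroup G) < Fintype.card Ω - 2) : ∃ x y : G, (∀ c : Ω, x • c ≠ c) ∧ (∀ c : Ω, y • c ≠ c) ∧ ¬ IsConj x y := by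
  classical
  haveI := Fintype.ofFinite G
  obtain ⟨-, h2t, hthree, ⟨g0, hg0, a0, b0, hab0, hga, hgb⟩, -⟩ := hZ
  haveI := h2t
  haveI : MulAction.IsPretransitive G Ω := by
    have h1 : MulAction.IsMultiplyPretransitive G Ω 1 :=
      MulAction.isMultiplyPretransitive_of_le (n := 2) (by norm_num)
        (by rw [Nat.card_eq_fintype_card]; exact Fintype.one_lt_card_iff.2 ⟨a, b, hab⟩)
    exact MulAction.is_one_pretransitive_iff.1 h1
  set E := MulAction.stabilizer G a ⊓ MulAction.stabilizer G b
  set e := Nat.card E with he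
  -- two point stabilisers all have order `e`
  have hpair : ∀ c d : Ω, c ≠ d →
      (Finset.univ.filter fun g : G => g • c = c ∧ g • d = d).card = e := by
    intro c d hcd
    obtain ⟨g, hgc, hgd⟩ := MulAction.is_two_pretransitive_iff.1 h2t hab hcd
    rw [he, ← Fintype.card_subtype, Fintype.card_eq_nat_card]
    refine Nat.card_congr ((Equiv.subtypeEquiv (MulAut.conj g⁻¹).toEquiv fun x => ?_).trans
      (Equiv.refl E))
    show _ ↔ (MulAut.conj g⁻¹ x) • a = a ∧ (MulAut.conj g⁻¹ x) • b = b
    simp only [MulAut.conj_apply, inv_inv, mul_smul, hgc, hgd, inv_smul_eq_iff]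
  have he1 : e ≠ 1 := by
    intro h
    have hmem := hpair a0 b0 hab0
    rw [h, Finset.card_eq_one] at hmem
    obtain ⟨x, hx⟩ := hmem
    have h1 : (1 : G) ∈ ({x} : Finset G) := by rw [← hx]; simp
    have h2 : g0 ∈ ({x} : Finset G) := by rw [← hx]; simp [hga, hgb]
    rw [Finset.mem_singleton] at h1 h2
    exact hg0 (h2.trans h1.symm)
  set n := Fintype.card Ω with hn
  -- fixed point counts
  let fx : G → Finset Ω := fun g => Finset.univ.filter fun c => g • c = c
  have hfx : ∀ g : G, g ≠ 1 → (fx g).card ≤ 2 := by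
    intro g hg
    by_contra h
    obtain ⟨c1, c2, c3, h1, h2, h3, h12, h13, h23⟩ := Finset.two_lt_card_iff.1 (not_le.1 h)
    exact hg (hthree g c1 c2 c3 h12 h23 h13 (Finset.mem_filter.1 h1).2 (Finset.mem_filter.1 h2).2
      (Finset.mem_filter.1 h3).2)
  set N : ℕ → ℕ := fun i => (Finset.univ.filter fun g : G => g ≠ 1 ∧ (fx g).card = i).card with hN
  set s := Nat.card (MulAction.stabilizer G a) with hs
  have hstab : ∀ c : Ω, (Finset.univ.filter fun g : G => g • c = c).card = s := by
    intro c
    obtain ⟨g, hg⟩ := MulAction.exists_smul_eq G a c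
    rw [hs, ← Fintype.card_subtype, Fintype.card_eq_nat_card]
    refine Nat.card_congr ((Equiv.subtypeEquiv (MulAut.conj g⁻¹).toEquiv fun x => ?_).trans
      (Equiv.refl _))
    show _ ↔ (MulAut.conj g⁻¹ x) • a = a
    simp only [MulAut.conj_apply, inv_inv, mul_smul, hg, inv_smul_eq_iff]
  have hG : Nat.card G = n * s := by
    rw [hs, hn, ← Nat.card_eq_fintype_card, ← MulAction.index_stabilizer_of_transitive G a,
      Subgroup.index_mul_card]
  have hdecomp : ∀ F : ℕ → ℕ, ∑ g : G, F ((fx g).card) = F n + (N 0 * F 0 + N 1 * F 1 + N 2 * F 2) := by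
    intro F
    rw [← Finset.add_sum_erase _ _ (Finset.mem_univ (1 : G))]
    congr 1
    · congr 1
      simp [fx, hn]
    rw [← Finset.sum_fiberwise_of_maps_to (t := Finset.range 3) (g := fun g => (fx g).card)
      (fun g hg => Finset.mem_range.2 (Nat.lt_succ_of_le (hfx g (Finset.mem_erase.1 hg).1)))]
    simp only [Finset.sum_range_succ, Finset.sum_range_zero, zero_add]
    have h : ∀ i, ∑ g ∈ ((Finset.univ : Finset G).erase 1).filter (fun g => (fx g).card = i),
        F ((fx g).card) = N i * F i := by
      intro i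
      rw [Finset.sum_congr rfl (g := fun _ => F i) (fun g hg => by rw [(Finset.mem_filter.1 hg).2]),
        Finset.sum_const, smul_eq_mul]
      congr 2
      ext g; simp
    rw [h 0, h 1, h 2]
  have h0 : Nat.card G = 1 + (N 0 + N 1 + N 2) := by
    have := hdecomp fun _ => 1
    simpa [Nat.card_eq_fintype_card] using this
  have h1 : n * s = n + (N 1 + 2 * N 2) := by
    have := hdecomp fun i => i
    have h' : ∑ g : G, (fx g).card = n * s := by
      simp only [fx, Finset.card_filter]
      rw [Finset.sum_comm, Finset.sum_congr rfl (g := fun _ => s) (fun c _ => by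
        rw [← Finset.card_filter]; exact hstab c), Finset.sum_const, Finset.card_univ, smul_eq_mul]
    rw [h'] at this
    linarith
  have h2 : n * (n - 1) * e = n * (n - 1) + 2 * N 2 := by
    have := hdecomp fun i => i * (i - 1)
    have h' : ∑ g : G, (fx g).card * ((fx g).card - 1) = n * (n - 1) * e := by
      have hoff : ∀ g : G, (fx g).card * ((fx g).card - 1) =
          ((Finset.univ : Finset Ω).offDiag.filter fun cd => g • cd.1 = cd.1 ∧ g • cd.2 = cd.2).card := by
        intro g
        rw [Nat.mul_sub_one, ← Finset.offDiag_card]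
        congr 1
        ext cd
        simp [fx]; tauto
      simp only [hoff, Finset.card_filter]
      rw [Finset.sum_comm, Finset.sum_congr rfl (g := fun _ => e) (fun cd hcd => by
        rw [← Finset.card_filter]
        exact hpair cd.1 cd.2 (Finset.mem_offDiag.1 hcd).2.2), Finset.sum_const,
        Finset.offDiag_card, Finset.card_univ, ← Nat.mul_sub_one, smul_eq_mul]
    rw [h'] at this
    simp only [mul_zero, zero_mul, add_zero, Nat.sub_self, mul_one] at this
    linarith
  have hse : s = (n - 1) * e := by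
    have h1' : (Finset.univ.filter fun g : G => g • a = a).card = s := hstab a
    have : (MulAction.stabilizer G a).relIndex ⊤ = n := by
      rw [Subgroup.relIndex_top_right, MulAction.index_stabilizer_of_transitive,
        Nat.card_eq_fintype_card]
    -- double counting on the ordered pairs
    have hcount : ∀ d ∈ (Finset.univ : Finset Ω).erase a,
        ((Finset.univ.filter fun g : G => g • a = a).filter fun g => g • b = d).card = e := by
      intro d hd
      obtain ⟨g, hga', hgd⟩ := MulAction.is_two_pretransitive_iff.1 h2t hab (Finset.mem_erase.1 hd).1.symm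
      rw [← hpair a b hab]
      refine Finset.card_bij (fun x _ => g⁻¹ * x) (fun x hx => ?_) (fun _ _ _ _ h => mul_left_cancel h)
        (fun y hy => ⟨g * y, ?_, by group⟩)
      · simp only [Finset.mem_filter, Finset.mem_univ, true_and] at hx ⊢
        exact ⟨by rw [mul_smul, hx.1, inv_smul_eq_iff, hga'], by rw [mul_smul, hx.2, inv_smul_eq_iff, hgd]⟩
      · simp only [Finset.mem_filter, Finset.mem_univ, true_and] at hy ⊢
        exact ⟨by rw [mul_smul, hy.1, hga'], by rw [mul_smul, hy.2, hgd]⟩
    rw [← h1', Finset.card_eq_sum_card_fiberwise (f := fun g => g • b)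
      (t := (Finset.univ : Finset Ω).erase a) (fun g hg => ?_), Finset.sum_congr rfl hcount,
      Finset.sum_const, Finset.card_erase_of_mem (Finset.mem_univ a), Finset.card_univ, smul_eq_mul]
    refine Finset.mem_coe.2 (Finset.mem_erase.2 ⟨fun h => hab ?_, Finset.mem_univ _⟩)
    rw [← (Finset.mem_filter.1 (Finset.mem_coe.1 hg)).2] at h
    exact (smul_left_cancel g h).symm
  by_contra hcon
  push Not at hcon
  obtain ⟨h, hh⟩ : ∃ h, n = h + 1 := ⟨n - 1, by have := hlt; omega⟩
  rw [hh, Nat.add_sub_cancel] at h2 hse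
  have hN0 : 0 < N 0 := by
    by_contra hz
    rw [hG, hh, hse, Nat.eq_zero_of_not_pos hz] at h0
    rw [hh, hse] at h1
    nlinarith
  obtain ⟨x, hx⟩ := Finset.card_pos.1 hN0
  have hx' : ∀ c : Ω, x • c ≠ c := by
    intro c hc
    have := (Finset.mem_filter.1 hx).2.2
    rw [Finset.card_eq_zero] at this
    exact Finset.notMem_empty c (this ▸ Finset.mem_filter.2 ⟨Finset.mem_univ _, hc⟩)
  have hclass : N 0 = (Subgroup.centralizer ({x} : Set G)).index := by
    rw [← CfsgLib.Char.card_filter_isConj]
    show Finset.card _ = _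
    congr 1
    ext y
    simp only [Finset.mem_filter, Finset.mem_univ, true_and]
    constructor
    · rintro ⟨-, hy⟩
      refine hcon x y hx' fun c hc => ?_
      rw [Finset.card_eq_zero] at hy
      exact Finset.notMem_empty c (hy ▸ Finset.mem_filter.2 ⟨Finset.mem_univ _, hc⟩)
    · intro hy
      obtain ⟨g, rfl⟩ := isConj_iff.1 hy
      refine ⟨fun h1 => (Finset.mem_filter.1 hx).2.1 (conj_eq_one_iff.1 h1), ?_⟩
      rw [Finset.card_eq_zero, Finset.filter_eq_empty_iff]
      intro c _ hc
      apply hx' (g⁻¹ • c)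
      rw [mul_smul, mul_smul, ← eq_inv_smul_iff] at hc
      exact hc
  obtain ⟨c, hc⟩ : N 0 ∣ Nat.card G := hclass ▸ Subgroup.index_dvd_card _
  rw [hG, hh, hse] at hc h0
  rw [hh, hse] at h1
  obtain ⟨j, hj⟩ := hodd
  have hj' : e = 2 * j + 1 := hj
  have key : 2 * N 0 + h * h = (h + 1) * (h * e) + h := by linarith
  have hhpos : 0 < h := by omega
  have A : h * (c * (e * (h + 1)) + c) = h * (2 * ((h + 1) * e) + c * h) := by
    nlinarith
  have A' := Nat.eq_of_mul_eq_mul_left hhpos A
  obtain ⟨X, hX⟩ : ∃ X, (h + 1) * e = X := ⟨_, rfl⟩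
  rw [mul_comm e (h + 1), hX] at A'
  have hX3 : 3 * h + 3 ≤ X := by
    rw [← hX]
    calc 3 * h + 3 = (h + 1) * 3 := by ring
      _ ≤ (h + 1) * e := Nat.mul_le_mul_left _ (by omega)
  rcases Nat.lt_or_ge c 3 with hc3 | hc3
  · rcases (by omega : c = 0 ∨ c = 1 ∨ c = 2) with rfl | rfl | rfl <;> omega
  · obtain ⟨k, rfl⟩ : ∃ k, c = 3 + k := ⟨c - 3, by omega⟩
    have h5 : k * h ≤ k * X := Nat.mul_le_mul_left k (by omega)
    simp only [add_mul, mul_add] at A'
    omega

end Cfsg.Agent.S0880
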