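import Cfsg.Statements.S0881
import Cfsg.Agent.Char.Induce
import Cfsg.Agent.Char.Central
import Cfsg.Agent.Inv.Transfer
import Mathlib.GroupTheory.GroupAction.SubMulAction
import Mathlib.GroupTheory.GroupAction.MultipleTransitivity

set_option autoImplicit false
open Cfsg
open scoped CfsgLib.Char ComplexConjugate

namespace Cfsg.Agent.S0881

/-- Let G be a finite simple Zassenhaus group on Ω with n points, a ≠ b points with two-point stabilizer E of odd order less than n - 2, and let H be the subgroup of the stabilizer of a consisting of the identity and the elements fixing no point other than a (given here as a subgroup of the stabilizer of order one less than the number of points whose non-identity elements fix only a; it is the Frobenius kernel of the stabilizer). Let μ be a character of degree 1 of the stabilizer of a that is identically 1 on H but not identically 1. Then the function induced from μ to G is an irreducible character of G, and it takes the value 1 at every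 non-identity element of H. -/
theorem result {G Ω : Type*} [Group G] [Fintype G] [MulAction G Ω] [Fintype Ω] (hZ : Cfsg.IsZassenhausGroup G Ω) {a b : Ω} (hab : a ≠ b) [IsSimpleGroup G] (hodd : Odd (Nat.card ↥(MulAction.stabilizer G a ⊓ MulAction.stabilizer G b : Subgroup G))) (hlt : Nat.card ↥(MulAction.stabilizer G a ⊓ MulAction.stabilizer G b : Subgroup G) < Fintype.card Ω - 2) (H : Subgroup G) (hHa : H ≤ MulAction.stabilizer G a) (hHcard : Nat.card H + 1 = Fintype.card Ω) (hHfix : ∀ u ∈ H, u ≠ 1 → ∀ c : Ω, u • c = c → c = a) (μ : MulAction.stabilizer G a → ℂ) (hμ : Cfsg.IsCharacter (MulAction.stabilizer G a) μ ∧ μ 1 = 1) (hμH : ∀ u : MulAction.stabilizer G a, (u : G) ∈ H → μ u = 1) (hμne : μ ≠ fun _ => 1) : Cfsg.IsIrrCharacter G (Cfsg.indFun (MulAction.stabilizer G a) μ) ∧ ∀ u ∈ H, u ≠ 1 → Cfsg.indFun (MulAction.stabilizer G a) μ u = 1 := by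
  classical
  obtain ⟨hfaith, h2, h3, ⟨g₀, hg₀, a₀, b₀, hab₀, hga₀, hgb₀⟩, -⟩ := hZ
  haveI := hfaith
  haveI := h2
  set N : Subgroup G := MulAction.stabilizer G a with hN
  set E : Subgroup G := MulAction.stabilizer G a ⊓ MulAction.stabilizer G b with hEdef
  haveI := Fintype.ofFinite N
  haveI : MulAction.IsPretransitive G Ω := MulAction.isPretransitive_of_is_two_pretransitive
  have hmem : ∀ x, x ∈ E ↔ x • a = a ∧ x • b = b := fun x => Iff.rfl
  have hEN : E ≤ N := inf_le_left
  have htwo : ∀ {c d c' d' : Ω}, c ≠ d → c' ≠ d' → ∃ g : G, g • c = c' ∧ g • d = d' :=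
    MulAction.is_two_pretransitive_iff.1 h2
  obtain ⟨lam, hlam⟩ := CfsgLib.Char.exists_hom_of_degree_one hμ.1 hμ.2
  subst hlam
  obtain ⟨w, hwa, hwb⟩ := htwo hab (Ne.symm hab)
  -- H is regular away from a
  let Φ : H → {c : Ω // c ≠ a} := fun u => ⟨(u : G) • b, fun e => hab (by
    have h1 : (u : G) • a = a := MulAction.mem_stabilizer_iff.1 (hHa u.2)
    exact MulAction.injective (u : G) (h1.trans e.symm))⟩
  have hΦi : Function.Injective Φ := by
    intro u v huv
    have h1 : (u : G) • b = (v : G) • b := congrArg Subtype.val huv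
    by_contra hne
    refine hab (hHfix _ (mul_mem (inv_mem v.2) u.2) (fun e => hne (Subtype.ext (inv_mul_eq_one.1 e).symm)) b ?_).symm
    rw [mul_smul, h1, inv_smul_smul]
  have hΦ : Function.Bijective Φ := hΦi.bijective_of_nat_card_le (by
    rw [Nat.card_eq_fintype_card (α := {c : Ω // c ≠ a}), Fintype.card_subtype_compl,
      Fintype.card_subtype_eq]
    omega)
  have hdec : ∀ m : N, ∃ u ∈ H, u⁻¹ * (m : G) ∈ E := by
    intro m
    have hma : (m : G) • a = a := MulAction.mem_stabilizer_iff.1 m.2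
    obtain ⟨u, hu⟩ := hΦ.surjective ⟨(m : G) • b, fun e => hab (MulAction.injective (m : G) (hma.trans e.symm))⟩
    have hub : (u : G) • b = (m : G) • b := congrArg Subtype.val hu
    have hua : (u : G) • a = a := MulAction.mem_stabilizer_iff.1 (hHa u.2)
    refine ⟨u, u.2, (hmem _).2 ⟨?_, ?_⟩⟩
    · rw [mul_smul, hma, inv_smul_eq_iff, hua]
    · rw [mul_smul, ← hub, inv_smul_smul]
  -- orders
  have hfree : ∀ g ∈ E, g ≠ 1 → ∀ c : Ω, g • c = c → c = a ∨ c = b := by
    intro g hg hg1 c hc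
    by_contra hne
    simp only [not_or] at hne
    exact hg1 (h3 g a b c hab (Ne.symm hne.2) (Ne.symm hne.1) ((hmem g).1 hg).1 ((hmem g).1 hg).2 hc)
  have hwE : ∀ y ∈ E, w⁻¹ * y * w ∈ E := by
    intro y hy
    obtain ⟨hya, hyb⟩ := (hmem y).1 hy
    refine (hmem _).2 ⟨?_, ?_⟩
    · rw [mul_smul, hwa, mul_smul, hyb, inv_smul_eq_iff, hwa]
    · rw [mul_smul, hwb, mul_smul, hya, inv_smul_eq_iff, hwb]
  obtain ⟨k, hk1, hk2⟩ := htwo hab₀ hab
  set e₀ := k * g₀ * k⁻¹
  have he₀ : e₀ ∈ E := by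
    refine (hmem _).2 ⟨?_, ?_⟩
    · rw [← hk1, mul_smul, mul_smul, inv_smul_smul, hga₀]
    · rw [← hk2, mul_smul, mul_smul, inv_smul_smul, hgb₀]
  have he₀1 : e₀ ≠ 1 := fun e => hg₀ (conj_eq_one_iff.1 e)
  -- the linear character is not invariant under w
  have hne : ∃ y, ∃ hy : y ∈ E, lam ⟨w⁻¹ * y * w, hEN (hwE y hy)⟩ ≠ lam ⟨y, hEN hy⟩ := by
    by_contra hinv
    push Not at hinv
    let ϕ : E →* ℂˣ := lam.comp (Subgroup.inclusion hEN)
    have hctrl : ∀ x ∈ E, ∀ g : G, ∀ h : g⁻¹ * x * g ∈ E, ∀ hx : x ∈ E, ϕ ⟨_, h⟩ = ϕ ⟨x, hx⟩ := by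
      intro x _ g h hx
      by_cases hx1 : x = 1
      · subst hx1
        congr 1
        exact Subtype.ext (by simp)
      have hy1 : g⁻¹ * x * g ≠ 1 := fun e => hx1 (by simpa [mul_assoc] using congrArg (fun z => g * z * g⁻¹) e)
      have key : ∀ c, (g⁻¹ * x * g) • c = c → g • c = a ∨ g • c = b := fun c hc => by
        refine hfree x hx hx1 _ ?_
        rw [mul_smul, mul_smul, inv_smul_eq_iff] at hc
        exact hc
      have hcase : ∃ e ∈ E, g = e ∨ g = w * e := by
        rcases key a ((hmem _).1 h).1 with h1 | h1 <;> rcases key b ((hmem _).1 h).2 with h2 | h2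
        · exact absurd (MulAction.injective g (h1.trans h2.symm)) hab
        · exact ⟨g, (hmem _).2 ⟨h1, h2⟩, Or.inl rfl⟩
        · refine ⟨w⁻¹ * g, (hmem _).2 ⟨?_, ?_⟩, Or.inr (by group)⟩
          · rw [mul_smul, h1, inv_smul_eq_iff, hwa]
          · rw [mul_smul, h2, inv_smul_eq_iff, hwb]
        · exact absurd (MulAction.injective g (h1.trans h2.symm)) hab
      obtain ⟨e, he, rfl | rfl⟩ := hcase
      · have e1 : (⟨_, h⟩ : E) = ⟨g, he⟩⁻¹ * ⟨x, hx⟩ * ⟨g, he⟩ := Subtype.ext rfl
        rw [e1, map_mul, map_mul, map_inv, mul_comm (ϕ ⟨g, he⟩)⁻¹, inv_mul_cancel_right]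
      · have e1 : (⟨_, h⟩ : E) = ⟨e, he⟩⁻¹ * ⟨w⁻¹ * x * w, hwE x hx⟩ * ⟨e, he⟩ :=
          Subtype.ext (by show _ = e⁻¹ * (w⁻¹ * x * w) * e; group)
        rw [e1, map_mul, map_mul, map_inv, mul_comm (ϕ ⟨e, he⟩)⁻¹, inv_mul_cancel_right]
        exact hinv x hx
    obtain ⟨m, hm⟩ : ∃ m : E, ϕ m ≠ 1 := by
      by_contra hno
      push Not at hno
      refine hμne (funext fun m => ?_)
      obtain ⟨u, hu, hum⟩ := hdec m
      have e1 : m = ⟨u, hHa hu⟩ * ⟨_, hEN hum⟩ := Subtype.ext (by show (m : G) = u * (u⁻¹ * m); group)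
      have h1 : ((lam ⟨u, hHa hu⟩ : ℂˣ) : ℂ) = 1 := hμH ⟨u, hHa hu⟩ hu
      have h2 : lam ⟨_, hEN hum⟩ = 1 := hno ⟨_, hum⟩
      show ((lam m : ℂˣ) : ℂ) = 1
      rw [e1, map_mul, h2, mul_one, h1]
    have htr := CfsgLib.Inv.transfer_eq_pow_of_ctrl E ϕ m.2 fun j g h => by
      rw [hctrl _ (pow_mem m.2 j) g h (pow_mem m.2 j), ← map_pow]
      rfl
    -- the index is prime to the order of E
    have hEdvd : Nat.card E ∣ Fintype.card Ω - 2 := by
      let X : SubMulAction E Ω :=
        { carrier := {c | c ≠ a ∧ c ≠ b}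
          smul_mem' := fun e c hc => by
            obtain ⟨ha', hb'⟩ := (hmem (e : G)).1 e.2
            exact ⟨fun h => hc.1 (MulAction.injective (e : G) (h.trans ha'.symm)),
              fun h => hc.2 (MulAction.injective (e : G) (h.trans hb'.symm))⟩ }
      have hst : ∀ c : X, MulAction.stabilizer E c = ⊥ := by
        intro c
        rw [eq_bot_iff]
        intro e he
        rw [Subgroup.mem_bot]
        by_contra h1
        have hc : (e : G) • (c : Ω) = c := congrArg Subtype.val (MulAction.mem_stabilizer_iff.1 he)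
        rcases hfree _ e.2 (fun h => h1 (Subtype.ext h)) _ hc with h | h
        · exact c.2.1 h
        · exact c.2.2 h
      have hX : Nat.card X = Fintype.card Ω - 2 := by
        show Nat.card {c : Ω // c ≠ a ∧ c ≠ b} = _
        rw [Nat.card_eq_fintype_card, Fintype.card_subtype,
          show (Finset.univ.filter fun c : Ω => c ≠ a ∧ c ≠ b) = ({a, b} : Finset Ω)ᶜ from by ext; simp,
          Finset.card_compl, Finset.card_pair hab]
      exact ⟨_, by rw [← hX, Nat.card_congr (MulAction.selfEquivOrbitsQuotientProd hst), Nat.card_prod, mul_comm]⟩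
    have hNcard : Nat.card N = (Fintype.card Ω - 1) * Nat.card E := by
      have : Nat.card (H × E) = Nat.card N := by
        refine Nat.card_eq_of_bijective (fun p => (⟨(p.1 : G) * p.2, mul_mem (hHa p.1.2) (hEN p.2.2)⟩ : N)) ⟨?_, ?_⟩
        · intro p q hpq
          have h1 : (p.1 : G) * p.2 = q.1 * q.2 := congrArg Subtype.val hpq
          have h2 : p.1 = q.1 := hΦi (Subtype.ext (by
            show (p.1 : G) • b = (q.1 : G) • b
            have := congrArg (fun z => z • b) h1
            simpa [mul_smul, ((hmem _).1 p.2.2).2, ((hmem _).1 q.2.2).2] using this))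
          refine Prod.ext h2 (Subtype.ext ?_)
          rw [h2] at h1
          exact mul_left_cancel h1
        · intro m
          obtain ⟨u, hu, hum⟩ := hdec m
          exact ⟨(⟨u, hu⟩, ⟨_, hum⟩), Subtype.ext (by show u * (u⁻¹ * (m : G)) = m; group)⟩
      rw [← this, Nat.card_prod]
      congr 1
      omega
    have hNi : N.index = Fintype.card Ω := by
      rw [hN, MulAction.index_stabilizer_of_transitive, Nat.card_eq_fintype_card]
    have hidx : E.index = Fintype.card Ω * (Fintype.card Ω - 1) := by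
      have h1 := E.index_mul_card
      rw [← N.index_mul_card, hNi, hNcard, ← mul_assoc] at h1
      exact Nat.eq_of_mul_eq_mul_right Nat.card_pos h1
    have hcop : Nat.Coprime (Nat.card E) E.index := by
      rw [hidx]
      refine Nat.coprime_of_dvd fun p hp hpe hpn => ?_
      have hp2 : p ≠ 2 := fun h => (Nat.not_even_iff_odd.2 hodd) (even_iff_two_dvd.2 (h ▸ hpe))
      have h5 : p ∣ Fintype.card Ω - 2 := hpe.trans hEdvd
      rcases hp.dvd_mul.1 hpn with h | h
      · have := Nat.dvd_sub h h5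
        rw [show Fintype.card Ω - (Fintype.card Ω - 2) = 2 by omega] at this
        exact hp2 ((Nat.prime_dvd_prime_iff_eq hp Nat.prime_two).1 this)
      · have := Nat.dvd_sub h h5
        rw [show Fintype.card Ω - 1 - (Fintype.card Ω - 2) = 1 by omega] at this
        exact hp.not_dvd_one this
    have hne1 : MonoidHom.transfer ϕ (m : G) ≠ 1 := by
      rw [htr]
      intro h
      refine hm (orderOf_eq_one_iff.1 (Nat.eq_one_of_dvd_coprimes hcop ?_ (orderOf_dvd_of_pow_eq_one h)))
      exact (orderOf_map_dvd ϕ m).trans (orderOf_dvd_natCard m)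
    rcases (MonoidHom.normal_ker (MonoidHom.transfer ϕ)).eq_bot_or_eq_top with hbot | htop
    · have hinj := (MonoidHom.ker_eq_bot_iff _).1 hbot
      refine he₀1 (eq_of_smul_eq_smul fun c : Ω => ?_)
      obtain ⟨g, rfl⟩ := MulAction.exists_smul_eq G a c
      rw [one_smul, ← mul_smul, hinj ((map_mul (MonoidHom.transfer ϕ) e₀ g).trans ((mul_comm _ _).trans (map_mul (MonoidHom.transfer ϕ) g e₀).symm)),
        mul_smul, ((hmem _).1 he₀).1]
    · exact hne1 (by
        have : (m : G) ∈ (MonoidHom.transfer ϕ).ker := htop ▸ Subgroup.mem_top _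
        exact this)
  -- values
  set μ : N → ℂ := fun n => (lam n : ℂ) with hμdef
  have hμc := CfsgLib.Char.classFun_of_char hμ.1
  have hout : ∀ x : G, x ∈ N ↔ x • a = a := fun x => MulAction.mem_stabilizer_iff
  constructor
  · refine CfsgLib.Char.isIrr_of_char_norm (CfsgLib.Char.isCharacter_indFun N hμ.1) ?_
    rw [CfsgLib.Char.frobenius' _ _ (CfsgLib.Char.indFun_classFun N μ)]
    let S : G → ℂ := fun x => ∑ n : N, Cfsg.extendByZero N μ (x⁻¹ * n * x) * conj (μ n)
    have hS1 : ∀ x ∈ N, S x = (Nat.card N : ℂ) := by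
      intro x hx
      have hone : ∀ n : N, μ n * conj (μ n) = 1 := by
        intro n
        have h : ‖μ n‖ = 1 := Complex.norm_eq_one_of_pow_eq_one (CfsgLib.Char.linear_root lam n) (orderOf_pos n).ne'
        rw [Complex.mul_conj', h]; simp
      show ∑ n : N, _ = _
      rw [show (Nat.card N : ℂ) = ∑ _n : N, (1 : ℂ) by simp]
      refine Finset.sum_congr rfl fun n _ => ?_
      have e : μ ⟨x⁻¹ * n * x, mul_mem (mul_mem (inv_mem hx) n.2) hx⟩ = μ n := by
        refine Eq.trans (congrArg μ (Subtype.ext ?_)) (hμc n ⟨x⁻¹, inv_mem hx⟩)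
        simp
      rw [CfsgLib.Char.extendByZero_mem' N μ (mul_mem (mul_mem (inv_mem hx) n.2) hx), e]
      exact hone n
    have hS2 : ∀ (p q : N) (x : G), S ((p : G) * x * q) = S x := by
      intro p q x
      refine Fintype.sum_equiv (MulAut.conj p⁻¹).toEquiv _ _ fun n => ?_
      have e2 : μ ((MulAut.conj p⁻¹).toEquiv n) = μ n := hμc n p⁻¹
      rw [e2]
      congr 1
      have e3 : ((p : G) * x * q)⁻¹ * (n : G) * ((p : G) * x * q) =
          (q : G)⁻¹ * (x⁻¹ * (((MulAut.conj p⁻¹).toEquiv n : N) : G) * x) * q := by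
        show _ = (q : G)⁻¹ * (x⁻¹ * ((p : G)⁻¹ * (n : G) * (p : G)⁻¹⁻¹) * x) * q
        group
      rw [e3]
      generalize (x⁻¹ * (((MulAut.conj p⁻¹).toEquiv n : N) : G) * x) = z
      by_cases hz : z ∈ N
      · rw [CfsgLib.Char.extendByZero_mem' N μ hz,
          CfsgLib.Char.extendByZero_mem' N μ (mul_mem (mul_mem (inv_mem q.2) hz) q.2)]
        refine Eq.trans (congrArg μ (Subtype.ext ?_)) (hμc ⟨z, hz⟩ q⁻¹)
        simp
      · rw [CfsgLib.Char.extendByZero_not_mem _ _ hz, CfsgLib.Char.extendByZero_not_mem _ _ fun h => hz ?_]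
        simpa [mul_assoc] using mul_mem (mul_mem q.2 h) (inv_mem q.2)
    have hSw : S w = 0 := by
      have hiff : ∀ n : N, w⁻¹ * (n : G) * w ∈ N ↔ (n : G) ∈ E := by
        intro n
        rw [hout, mul_smul, mul_smul, hwa, inv_smul_eq_iff, hwa, hmem, and_iff_right ((hout _).1 n.2)]
      let f : E →* ℂˣ :=
        { toFun := fun y => lam ⟨w⁻¹ * y * w, hEN (hwE y y.2)⟩ * (lam ⟨y, hEN y.2⟩)⁻¹
          map_one' := by
            rw [show (⟨w⁻¹ * ((1 : E) : G) * w, hEN (hwE _ (1 : E).2)⟩ : N) = 1 from Subtype.ext (by simp),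
              show (⟨((1 : E) : G), hEN (1 : E).2⟩ : N) = 1 from rfl]
            simp
          map_mul' := fun y z => by
            rw [show (⟨w⁻¹ * ((y * z : E) : G) * w, hEN (hwE _ (y * z).2)⟩ : N) =
                ⟨w⁻¹ * y * w, hEN (hwE y y.2)⟩ * ⟨w⁻¹ * z * w, hEN (hwE z z.2)⟩ from Subtype.ext (by simp [mul_assoc]),
              show (⟨((y * z : E) : G), hEN (y * z).2⟩ : N) = ⟨y, hEN y.2⟩ * ⟨z, hEN z.2⟩ from rfl,
              map_mul, map_mul, mul_inv]
            exact mul_mul_mul_comm _ _ _ _ }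
      have hf : f ≠ 1 := by
        obtain ⟨y, hy, hyne⟩ := hne
        intro h
        have h' : f ⟨y, hy⟩ = 1 := by rw [h]; rfl
        exact hyne (mul_inv_eq_one.1 h')
      haveI := Fintype.ofFinite E
      have h0 : ∑ y : E, ((f y : ℂˣ) : ℂ) = 0 :=
        sum_hom_units_eq_zero ((Units.coeHom ℂ).comp f) fun h => hf (by
          ext y; exact DFunLike.congr_fun h y)
      have : S w = ∑ y : E, ((f y : ℂˣ) : ℂ) := by
        show ∑ n : N, _ = _
        rw [← Finset.sum_filter_add_sum_filter_not Finset.univ (fun n : N => (n : G) ∈ E),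
          Finset.sum_eq_zero (s := Finset.univ.filter fun n : N => ¬ (n : G) ∈ E) (fun n hn => by
            rw [CfsgLib.Char.extendByZero_not_mem _ _ fun h => (Finset.mem_filter.1 hn).2 ((hiff n).1 h), zero_mul]),
          add_zero, Finset.sum_subtype (p := fun n : N => (n : G) ∈ E) _ (by simp)]
        refine Fintype.sum_equiv
          ⟨fun n => ⟨(n.1 : G), n.2⟩, fun y => ⟨⟨y, hEN y.2⟩, y.2⟩, fun n => rfl, fun y => rfl⟩ _ _ fun n => ?_
        rw [CfsgLib.Char.extendByZero_mem' N μ ((hiff n.1).2 n.2)]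
        show μ _ * conj (μ n.1) = ((lam _ * (lam n.1)⁻¹ : ℂˣ) : ℂ)
        rw [Units.val_mul, Units.val_inv_eq_inv_val]
        congr 1
        refine (Complex.inv_eq_conj ?_).symm
        exact Complex.norm_eq_one_of_pow_eq_one (CfsgLib.Char.linear_root lam n.1) (orderOf_pos n.1).ne'
      rw [this, h0]
    have hS0 : ∀ x ∉ N, S x = 0 := by
      intro x hx
      have hc : x • a ≠ a := fun h => hx ((hout x).2 h)
      obtain ⟨p, hp1, hp2⟩ := htwo hab (Ne.symm hc)
      have hq : w⁻¹ * p⁻¹ * x ∈ N := by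
        rw [hout, mul_smul, mul_smul, inv_smul_eq_iff, hwa, inv_smul_eq_iff, hp2]
      rw [show x = ((⟨p, (hout p).2 hp1⟩ : N) : G) * w * ((⟨_, hq⟩ : N) : G) by
        show x = p * w * (w⁻¹ * p⁻¹ * x); group, hS2, hSw]
    simp only [CfsgLib.Char.classInner_def, CfsgLib.Char.indFun_apply]
    calc (Nat.card N : ℂ)⁻¹ * ∑ n : N, (Nat.card N : ℂ)⁻¹ *
          (∑ x : G, Cfsg.extendByZero N μ (x⁻¹ * n * x)) * conj (μ n)
        = (Nat.card N : ℂ)⁻¹ * ((Nat.card N : ℂ)⁻¹ * ∑ x : G, S x) := by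
          congr 1
          simp only [S, Finset.mul_sum, Finset.sum_mul]
          rw [Finset.sum_comm]
          simp only [mul_assoc]
      _ = 1 := by
          rw [CfsgLib.Char.sum_subgroup N S hS0, Finset.sum_congr rfl fun (x : N) _ => hS1 x x.2, Finset.sum_const,
            Finset.card_univ, nsmul_eq_mul, ← Nat.card_eq_fintype_card]
          have := CfsgLib.Char.natCard_ne_zero N
          field_simp
  · intro u hu hu1
    rw [CfsgLib.Char.indFun_apply,
      CfsgLib.Char.sum_subgroup N (fun x => Cfsg.extendByZero N μ (x⁻¹ * u * x)) fun x hx =>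
        CfsgLib.Char.extendByZero_not_mem _ _ fun h => hx ((hout x).2 (hHfix u hu hu1 _ ?_))]
    pick_goal 2
    · rw [hout, mul_smul, mul_smul, inv_smul_eq_iff] at h
      exact h
    rw [Finset.sum_congr rfl fun (x : N) _ => show Cfsg.extendByZero N μ ((x : G)⁻¹ * u * x) = 1 from ?_,
      Finset.sum_const, Finset.card_univ, ← Nat.card_eq_fintype_card, nsmul_eq_mul, mul_one]
    · exact inv_mul_cancel₀ (CfsgLib.Char.natCard_ne_zero N)
    · rw [CfsgLib.Char.extendByZero_mem' N μ (mul_mem (mul_mem (inv_mem x.2) (hHa hu)) x.2)]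
      refine Eq.trans ?_ (hμH ⟨u, hHa hu⟩ hu)
      refine Eq.trans (congrArg μ (Subtype.ext ?_)) (hμc ⟨u, hHa hu⟩ x⁻¹)
      simp


end Cfsg.Agent.S0881
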