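import Cfsg.Statements.S0883
import Cfsg.Agent.Inv.SECount
import Cfsg.Agent.Solv.FrobeniusNilp
import Cfsg.Agent.OddLocal.TypeP

set_option autoImplicit false
open Cfsg

namespace Cfsg.Agent.S0883

/-- Let G be a finite simple Zassenhaus group on Ω with h + 1 points whose two-point stabilizer E has odd order e with 2e < h - 1, and let H be the subgroup of the stabilizer of a consisting of the identity and the elements fixing no point other than a (given here as a subgroup of the stabilizer of order one less than the number of points whose non-identity elements fix only a; it is the Frobenius kernel of the stabilizer). If a non-identity element u of H is a product of two involutions of G, then u is an involution. -/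
theorem result {G Ω : Type*} [Group G] [Finite G] [MulAction G Ω] [Fintype Ω] (hZ : Cfsg.IsZassenhausGroup G Ω) {a b : Ω} (hab : a ≠ b) [IsSimpleGroup G] (h e : ℕ) (hh : Fintype.card Ω = h + 1) (he : Nat.card ↥(MulAction.stabilizer G a ⊓ MulAction.stabilizer G b : Subgroup G) = e) (hodd : Odd e) (hlt : 2 * e < h - 1) (H : Subgroup G) (hHa : H ≤ MulAction.stabilizer G a) (hHcard : Nat.card H + 1 = Fintype.card Ω) (hHfix : ∀ u ∈ H, u ≠ 1 → ∀ c : Ω, u • c = c → c = a) (u : G) (hu : u ∈ H) (hu1 : u ≠ 1) (x y : G) (hx : orderOf x = 2) (hy : orderOf y = 2) (hxy : x * y = u) : orderOf u = 2 := by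
  classical
  haveI := Fintype.ofFinite G
  obtain ⟨hfaith, h2t, hthree, ⟨g0, hg0, a0, b0, hab0, hga, hgb⟩, -⟩ := hZ
  haveI := hfaith
  set B := MulAction.stabilizer G a
  have htr : ∀ c d c' d' : Ω, c ≠ d → c' ≠ d' → ∃ g : G, g • c = c' ∧ g • d = d' :=
    fun c d c' d' h1 h2 => MulAction.is_two_pretransitive_iff.1 h2t h1 h2
  have hpair : ∀ c d : Ω, c ≠ d →
      (Finset.univ.filter fun g : G => g • c = c ∧ g • d = d).card = e := by
    intro c d hcd
    obtain ⟨g, hgc, hgd⟩ := htr a b c d hab hcd
    rw [← he, ← Fintype.card_subtype, Fintype.card_eq_nat_card]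
    refine Nat.card_congr ((Equiv.subtypeEquiv (MulAut.conj g⁻¹).toEquiv fun w => ?_).trans
      (Equiv.refl _))
    show _ ↔ (MulAut.conj g⁻¹ w) • a = a ∧ (MulAut.conj g⁻¹ w) • b = b
    simp only [MulAut.conj_apply, inv_inv, mul_smul, hgc, hgd, inv_smul_eq_iff]
  -- an involution fixes at most one point
  have hinv1 : ∀ w : G, orderOf w = 2 → ∀ c d : Ω, w • c = c → w • d = d → c = d := by
    intro w hw c d h1 h2
    by_contra hcd
    let T := MulAction.stabilizer G c ⊓ MulAction.stabilizer G d
    have hT : Nat.card T = e := by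
      rw [← hpair c d hcd, ← Fintype.card_subtype, Fintype.card_eq_nat_card]
      rfl
    have h3 := Subgroup.orderOf_dvd_natCard T (show w ∈ T from ⟨h1, h2⟩)
    rw [hT, hw] at h3
    exact (Nat.not_even_iff_odd.2 hodd) (even_iff_two_dvd.2 h3)
  have hconjinv : x * u * x⁻¹ = u⁻¹ := by
    have hxi : x⁻¹ = x := inv_eq_of_mul_eq_one_right (by rw [← pow_two, ← hx, pow_orderOf_eq_one])
    have hyi : y⁻¹ = y := inv_eq_of_mul_eq_one_right (by rw [← pow_two, ← hy, pow_orderOf_eq_one])
    rw [← hxy, mul_inv_rev, hyi]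
    have : x * x = 1 := by rw [← pow_two, ← hx, pow_orderOf_eq_one]
    rw [← mul_assoc x x y, this, one_mul]
  have hxa : x • a = a := by
    refine hHfix u⁻¹ (H.inv_mem hu) (inv_ne_one.2 hu1) _ ?_
    have hua : u • a = a := hHa hu
    rw [← hconjinv, mul_smul, mul_smul, inv_smul_smul, hua]
  have hyB : y ∈ B := by
    have e1 : y = x⁻¹ * u := by rw [← hxy]; group
    rw [e1]; exact B.mul_mem (B.inv_mem hxa) (hHa hu)
  -- elements of the stabiliser fixing only `a` are the non-identity elements of `H`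
  have hHiff : ∀ g : G, g ∈ B → g ≠ 1 → (∀ c, g • c = c → c = a) → g ∈ H := by
    let F : Finset G := Finset.univ.filter fun g => g • a = a ∧ g ≠ 1 ∧ ∀ c, g • c = c → c = a
    have hsub : (Finset.univ.filter fun g : G => g ∈ H ∧ g ≠ 1) ⊆ F := fun g hg => by
      obtain ⟨-, h1, h2⟩ := Finset.mem_filter.1 hg
      exact Finset.mem_filter.2 ⟨Finset.mem_univ _, hHa h1, h2, hHfix g h1 h2⟩
    have hB : (Finset.univ.filter fun g : G => g • a = a).card = h * e := by
      have hcount : ∀ d ∈ (Finset.univ : Finset Ω).erase a,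
          ((Finset.univ.filter fun g : G => g • a = a).filter fun g => g • b = d).card = e := by
        intro d hd
        obtain ⟨g, hga', hgd⟩ := htr a b a d hab (Finset.mem_erase.1 hd).1.symm
        rw [← hpair a b hab]
        refine Finset.card_bij (fun w _ => g⁻¹ * w) (fun w hw => ?_)
          (fun _ _ _ _ h => mul_left_cancel h) (fun w hw => ⟨g * w, ?_, by group⟩)
        · simp only [Finset.mem_filter, Finset.mem_univ, true_and] at hw ⊢
          exact ⟨by rw [mul_smul, hw.1, inv_smul_eq_iff, hga'],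
            by rw [mul_smul, hw.2, inv_smul_eq_iff, hgd]⟩
        · simp only [Finset.mem_filter, Finset.mem_univ, true_and] at hw ⊢
          exact ⟨by rw [mul_smul, hw.1, hga'], by rw [mul_smul, hw.2, hgd]⟩
      rw [Finset.card_eq_sum_card_fiberwise (f := fun g => g • b)
        (t := (Finset.univ : Finset Ω).erase a) (fun g hg => ?_), Finset.sum_congr rfl hcount,
        Finset.sum_const, Finset.card_erase_of_mem (Finset.mem_univ a), Finset.card_univ, hh,
        Nat.add_sub_cancel, smul_eq_mul]
      refine Finset.mem_coe.2 (Finset.mem_erase.2 ⟨fun h => hab ?_, Finset.mem_univ _⟩)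
      rw [← (Finset.mem_filter.1 (Finset.mem_coe.1 hg)).2] at h
      exact (smul_left_cancel g h).symm
    let W : Ω → Finset G := fun d => (Finset.univ.filter fun g : G => g • a = a ∧ g • d = d).erase 1
    have hW : (((Finset.univ : Finset Ω).erase a).biUnion W).card = h * (e - 1) := by
      rw [Finset.card_biUnion, Finset.sum_congr rfl (g := fun _ => e - 1) (fun d hd => by
        show (Finset.erase _ 1).card = _
        rw [Finset.card_erase_of_mem (Finset.mem_filter.2 ⟨Finset.mem_univ _, one_smul _ _, one_smul _ _⟩),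
          hpair a d (Finset.mem_erase.1 hd).1.symm]), Finset.sum_const,
        Finset.card_erase_of_mem (Finset.mem_univ a), Finset.card_univ, hh, Nat.add_sub_cancel,
        smul_eq_mul]
      intro d hd d' hd' hne
      rw [Function.onFun, Finset.disjoint_left]
      intro g hg hg'
      obtain ⟨h1, h2⟩ := Finset.mem_erase.1 hg
      obtain ⟨-, h3⟩ := Finset.mem_erase.1 hg'
      exact h1 (hthree g a d d' (Finset.mem_erase.1 hd).1.symm hne (Finset.mem_erase.1 hd').1.symm
        (Finset.mem_filter.1 h2).2.1 (Finset.mem_filter.1 h2).2.2 (Finset.mem_filter.1 h3).2.2)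
    have hF : F.card + h * (e - 1) + 1 ≤ h * e := by
      rw [← hW, ← hB]
      have hd : Disjoint F (((Finset.univ : Finset Ω).erase a).biUnion W) := by
        rw [Finset.disjoint_left]
        intro g hg hg'
        obtain ⟨d, hd, hd'⟩ := Finset.mem_biUnion.1 hg'
        exact (Finset.mem_erase.1 hd).1 ((Finset.mem_filter.1 hg).2.2.2 d
          (Finset.mem_filter.1 (Finset.mem_erase.1 hd').2).2.2)
      rw [← Finset.card_union_of_disjoint hd, ← Finset.card_insert_of_notMem (a := (1 : G)) ?_]
      · refine Finset.card_le_card fun g hg => Finset.mem_filter.2 ⟨Finset.mem_univ _, ?_⟩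
        rcases Finset.mem_insert.1 hg with rfl | hg
        · exact one_smul _ _
        rcases Finset.mem_union.1 hg with hg | hg
        · exact (Finset.mem_filter.1 hg).2.1
        · obtain ⟨d, -, hd'⟩ := Finset.mem_biUnion.1 hg
          exact (Finset.mem_filter.1 (Finset.mem_erase.1 hd').2).2.1
      · intro h1
        rcases Finset.mem_union.1 h1 with h1 | h1
        · exact (Finset.mem_filter.1 h1).2.2.1 rfl
        · obtain ⟨d, -, hd'⟩ := Finset.mem_biUnion.1 h1
          exact (Finset.mem_erase.1 hd').1 rfl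
    have hcardH : (Finset.univ.filter fun g : G => g ∈ H ∧ g ≠ 1).card + 1 = h := by
      have h1 : (Finset.univ.filter fun g : G => g ∈ H).card = Nat.card H := by
        rw [← Fintype.card_subtype, Fintype.card_eq_nat_card]
      have h2 : (Finset.univ.filter fun g : G => g ∈ H ∧ g ≠ 1) =
          (Finset.univ.filter fun g : G => g ∈ H).erase 1 := by ext g; simp [and_comm]
      rw [h2, Finset.card_erase_of_mem (Finset.mem_filter.2 ⟨Finset.mem_univ _, H.one_mem⟩), h1]
      have := Nat.card_pos (α := H)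
      omega
    intro g hg hg1 hg2
    have he1 : 1 ≤ e := hodd.pos
    have hle : F.card ≤ (Finset.univ.filter fun g : G => g ∈ H ∧ g ≠ 1).card := by
      have : h * (e - 1) + h = h * e := by
        rw [← Nat.mul_succ]; congr 1; omega
      omega
    have heq := Finset.eq_of_subset_of_card_le hsub hle
    have : g ∈ F := Finset.mem_filter.2 ⟨Finset.mem_univ _, hg, hg1, hg2⟩
    rw [← heq] at this
    exact (Finset.mem_filter.1 this).2.1
  have hinvH : ∀ w : G, orderOf w = 2 → w • a = a → w ∈ H := fun w hw hwa =>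
    hHiff w hwa (fun h1 => by rw [h1, orderOf_one] at hw; omega) fun c hc => hinv1 w hw c a hc hwa
  have hHn : ∀ g ∈ B, ∀ w ∈ H, g * w * g⁻¹ ∈ H := by
    intro g hg w hw
    by_cases hw1 : w = 1
    · simp [hw1]
    refine hHiff _ (B.mul_mem (B.mul_mem hg (hHa hw)) (B.inv_mem hg))
      (fun h1 => hw1 (conj_eq_one_iff.1 h1)) fun c hc => ?_
    rw [mul_smul, mul_smul, ← eq_inv_smul_iff] at hc
    have h1 := hHfix w hw hw1 _ hc
    rw [inv_smul_eq_iff] at h1
    rw [h1]; exact hg
  -- strong embedding of the point stabiliser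
  obtain ⟨gm, hgm1, -⟩ := htr a b b a hab hab.symm
  have hgm : gm ∉ B := fun h1 => hab ((show gm • a = a from h1).symm.trans hgm1)
  have hSE : Cfsg.IsStronglyEmbedded B := by
    rw [CfsgLib.Inv.se_iff_invol]
    refine ⟨fun h1 => hgm (h1 ▸ Subgroup.mem_top _), ?_, ?_⟩
    · have := Subgroup.orderOf_dvd_natCard B (show x ∈ B from hxa)
      rw [hx] at this
      exact even_iff_two_dvd.2 this
    · intro g w hw hwB hgw
      by_contra hg
      refine hg (hinv1 w hw (g • a) a ?_ hwB)
      have h1 : (g⁻¹ * w * g) • a = a := hgw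
      rw [mul_smul, mul_smul, inv_smul_eq_iff] at h1
      exact h1
  -- an involution moving the coset of `B`
  set v : G := gm * x * gm⁻¹
  have hv : orderOf v = 2 := by
    rw [show v = MulAut.conj gm x from rfl, MulEquiv.orderOf_eq, hx]
  have hvb : v • (QuotientGroup.mk 1 : G ⧸ B) ≠ QuotientGroup.mk 1 := by
    intro h1
    rw [MulAction.Quotient.smul_mk, smul_eq_mul, mul_one] at h1
    have hvB : v ∈ B := by simpa using QuotientGroup.eq.1 h1.symm
    refine hab (hinv1 v hv a b hvB ?_)
    rw [show v = gm * x * gm⁻¹ from rfl, mul_smul, mul_smul,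
      show gm⁻¹ • b = a by rw [inv_smul_eq_iff, hgm1], hxa, hgm1]
  have hBfix : ∀ w ∈ B, w • (QuotientGroup.mk 1 : G ⧸ B) = QuotientGroup.mk 1 := fun w hw => by
    rw [MulAction.Quotient.smul_mk, smul_eq_mul, mul_one, QuotientGroup.eq]
    simpa using hw
  have hconj : ∀ s w : G, orderOf s = 2 → s ∈ B → orderOf w = 2 → w ∈ B →
      ∃ d ∈ B, d * s * d⁻¹ = w := by
    intro s w hs hsB hw hwB
    obtain ⟨d, hd, -, hds⟩ := CfsgLib.Inv.se_transitive hSE (Ne.symm hvb) hv rfl hs (hBfix s hsB)
      hw (hBfix w hwB)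
    rw [MulAction.Quotient.smul_mk, smul_eq_mul, mul_one, QuotientGroup.eq] at hd
    exact ⟨d, by simpa using hd, hds⟩
  -- `H` is nilpotent
  haveI hHnorm : (H.subgroupOf B).Normal := ⟨fun w hw g => hHn g g.2 w hw⟩
  have hE1 : e ≠ 1 := by
    intro h1
    have hmem := hpair a0 b0 hab0
    rw [h1, Finset.card_eq_one] at hmem
    obtain ⟨w, hw⟩ := hmem
    have h2 : (1 : G) ∈ ({w} : Finset G) := by rw [← hw]; simp
    have h3 : g0 ∈ ({w} : Finset G) := by rw [← hw]; simp [hga, hgb]
    rw [Finset.mem_singleton] at h2 h3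
    exact hg0 (h3.trans h2.symm)
  obtain ⟨q, hq, hqe⟩ := Nat.exists_prime_and_dvd hE1
  haveI := Fact.mk hq
  obtain ⟨⟨w, hwE⟩, hwq⟩ := exists_prime_orderOf_dvd_card' (G := ↥(MulAction.stabilizer G a ⊓
    MulAction.stabilizer G b : Subgroup G)) q (he ▸ hqe)
  have hwq' : orderOf w = q := (Subgroup.orderOf_mk w hwE).symm.trans hwq
  have hw1 : w ≠ 1 := fun h1 => by rw [h1, orderOf_one] at hwq'; exact hq.ne_one hwq'.symm
  haveI : Group.IsNilpotent (H.subgroupOf B) := by
    refine CfsgLib.Solv.isNilpotent_of_fpf_element (K := H.subgroupOf B) (h := (⟨w, hwE.1⟩ : B))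
      (p := q) (Subtype.ext (by rw [← hwq']; exact pow_orderOf_eq_one w)) ?_
    refine eq_bot_iff.2 fun k hk => Subgroup.mem_bot.2 (Subtype.ext ?_)
    by_contra hk1
    have hcomm : (k : G) * w = w * k :=
      (congrArg Subtype.val (Subgroup.mem_centralizer_iff.1 hk.2 _ (Set.mem_singleton _))).symm
    refine hab (hHfix k hk.1 hk1 b ?_).symm
    have h1 : w • ((k : G) • b) = (k : G) • b := by
      rw [← mul_smul, ← hcomm, mul_smul, (hwE.2 : w • b = b)]
    by_contra hkb
    exact hw1 (hthree w a b ((k : G) • b) hab (Ne.symm hkb)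
      (fun h2 => hab (smul_left_cancel (k : G) (((hHa hk.1 : (k : G) • a = a)).trans h2)))
      hwE.1 hwE.2 h1)
  -- a central involution
  haveI : Fact (Nat.Prime 2) := ⟨Nat.prime_two⟩
  set K := H.subgroupOf B
  obtain ⟨S⟩ := (inferInstance : Nonempty (Sylow 2 K))
  have hxK : (⟨x, hxa⟩ : B) ∈ K := hinvH x hx hxa
  have hS : Nontrivial (S : Subgroup K) := by
    refine (Subgroup.nontrivial_iff_ne_bot _).2 fun h1 => S.not_dvd_index ?_
    rw [h1, Subgroup.index_bot]
    have := Subgroup.orderOf_dvd_natCard K hxK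
    rw [show orderOf (⟨x, hxa⟩ : B) = 2 from (Subgroup.orderOf_mk x hxa).trans hx] at this
    exact this
  haveI := hS
  haveI : Nontrivial (Subgroup.center (S : Subgroup K)) := S.2.center_nontrivial
  obtain ⟨⟨z0, hz0⟩, hz0'⟩ := exists_prime_orderOf_dvd_card' (G := Subgroup.center (S : Subgroup K)) 2
    (by
      obtain ⟨k, hk⟩ := IsPGroup.iff_card.1 (S.2.to_subgroup (Subgroup.center (S : Subgroup K)))
      rw [hk]
      refine dvd_pow_self 2 fun h1 => ?_
      rw [h1, pow_zero] at hk
      exact (Finite.one_lt_card (α := Subgroup.center (S : Subgroup K))).ne' hk)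
  have hzo : orderOf z0 = 2 := (Subgroup.orderOf_mk z0 hz0).symm.trans hz0'
  set z : K := (z0 : K)
  have hzo' : orderOf z = 2 := by rw [← hzo]; exact Subgroup.orderOf_coe _
  have hzc : ∀ k : K, z * k = k * z := by
    have htop : Subgroup.centralizer ({z} : Set K) = ⊤ := by
      refine Subgroup.index_eq_one.1 (by_contra fun h1 => ?_)
      obtain ⟨r, hr, hrd⟩ := Nat.exists_prime_and_dvd h1
      haveI := Fact.mk hr
      by_cases hr2 : r = 2
      · subst hr2
        refine S.not_dvd_index (hrd.trans (Subgroup.index_dvd_of_le fun k hk =>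
          Subgroup.mem_centralizer_singleton_iff.2 ?_))
        exact congrArg Subtype.val (Subgroup.mem_center_iff.1 hz0 ⟨k, hk⟩)
      · obtain ⟨R⟩ := (inferInstance : Nonempty (Sylow r K))
        refine R.not_dvd_index (hrd.trans (Subgroup.index_dvd_of_le fun k hk =>
          Subgroup.mem_centralizer_singleton_iff.2 ?_))
        refine CfsgLib.OddLocal.commute_of_coprime_nilpotent ?_
        obtain ⟨i, hi⟩ := R.2 ⟨k, hk⟩
        rw [hzo']
        exact Nat.Coprime.coprime_dvd_left (orderOf_dvd_of_pow_eq_one (congrArg Subtype.val hi))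
          (((Nat.coprime_primes hr Nat.prime_two).2 hr2).pow_left i)
    intro k
    exact (Subgroup.mem_centralizer_singleton_iff.1 (htop ▸ Subgroup.mem_top k)).symm
  have hzG : orderOf ((z : B) : G) = 2 := by rw [Subgroup.orderOf_coe, Subgroup.orderOf_coe, hzo']
  have hcentral : ∀ s : G, orderOf s = 2 → s • a = a → ∀ k ∈ H, s * k = k * s := by
    intro s hs hsa k hk
    obtain ⟨d, hd, rfl⟩ := hconj ((z : B) : G) s hzG (z : B).2 hs hsa
    have hk' : d⁻¹ * k * d ∈ H := by simpa using hHn d⁻¹ (B.inv_mem hd) k hk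
    have h1 := congrArg (fun w : K => ((w : B) : G))
      (hzc ⟨⟨d⁻¹ * k * d, hHa hk'⟩, hk'⟩)
    simp only [Subgroup.coe_mul] at h1
    calc d * ((z : B) : G) * d⁻¹ * k = d * (((z : B) : G) * (d⁻¹ * k * d)) * d⁻¹ := by group
      _ = d * ((d⁻¹ * k * d) * ((z : B) : G)) * d⁻¹ := by rw [h1]
      _ = k * (d * ((z : B) : G) * d⁻¹) := by group
  have hxy' : x * y = y * x := hcentral x hx hxa y (hinvH y hy hyB)
  refine orderOf_eq_prime ?_ hu1
  have hx2 : x * x = 1 := by rw [← pow_two, ← hx, pow_orderOf_eq_one]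
  have hy2 : y * y = 1 := by rw [← pow_two, ← hy, pow_orderOf_eq_one]
  rw [← hxy, pow_two]
  calc x * y * (x * y) = x * (y * x) * y := by group
    _ = x * (x * y) * y := by rw [hxy']
    _ = (x * x) * (y * y) := by group
    _ = 1 := by rw [hx2, hy2, one_mul]

end Cfsg.Agent.S0883
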