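import Cfsg.Statements.S0891
import Mathlib.GroupTheory.SpecificGroups.Alternating
import Mathlib.GroupTheory.Perm.Sign
import Mathlib.GroupTheory.Commutator.Basic
import Mathlib.Algebra.Module.LinearMap.End
import Mathlib.Data.ZMod.Basic
import Mathlib.Algebra.Field.ZMod
import Mathlib.Tactic

set_option autoImplicit false
open Cfsg

namespace Cfsg.Agent.S0891

section Clifford

open scoped symmDiff commutatorElement

variable (n : ℕ)

/-- the underlying module -/
abbrev Mod3 := Finset (Fin n) → ZMod 3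

variable {n}

/-- the sign cocycle -/
def cs (i j : Fin n) : ZMod 3 := if j < i then -1 else 1

/-- left sign -/
def sL (i : Fin n) (S : Finset (Fin n)) : ZMod 3 := ∏ j ∈ S, cs i j

/-- right sign -/
def sR (i : Fin n) (S : Finset (Fin n)) : ZMod 3 := ∏ j ∈ S, cs j i

theorem cs_sq (i j : Fin n) : cs i j * cs i j = 1 := by unfold cs; split_ifs <;> simp

theorem cs_self (i : Fin n) : cs i i = 1 := by simp [cs]

theorem cs_swap {i j : Fin n} (h : i ≠ j) : cs i j = - cs j i := by
  unfold cs
  rcases lt_or_gt_of_ne h with h' | h'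
  · simp [h', not_lt.mpr h'.le]
  · simp [h', not_lt.mpr h'.le]

theorem prod_toggle (f : Fin n → ZMod 3) (hf : ∀ j, f j * f j = 1) (S : Finset (Fin n)) (a : Fin n) :
    ∏ j ∈ S ∆ {a}, f j = (∏ j ∈ S, f j) * f a := by
  by_cases ha : a ∈ S
  · have e : S ∆ {a} = S.erase a := by
      ext j; simp only [Finset.mem_symmDiff, Finset.mem_singleton, Finset.mem_erase]
      constructor
      · rintro (⟨h1, h2⟩ | ⟨rfl, h2⟩)
        · exact ⟨h2, h1⟩
        · exact absurd ha h2
      · rintro ⟨h1, h2⟩; exact Or.inl ⟨h2, h1⟩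
    rw [e, ← Finset.mul_prod_erase S f ha, mul_comm (f a), mul_assoc, hf, mul_one]
  · have e : S ∆ {a} = insert a S := by
      ext j; simp only [Finset.mem_symmDiff, Finset.mem_singleton, Finset.mem_insert]
      constructor
      · rintro (⟨h1, -⟩ | ⟨h1, -⟩)
        · exact Or.inr h1
        · exact Or.inl h1
      · rintro (rfl | h1)
        · exact Or.inr ⟨rfl, ha⟩
        · exact Or.inl ⟨h1, fun h => ha (h ▸ h1)⟩
    rw [e, Finset.prod_insert ha, mul_comm]

theorem sL_toggle (i a : Fin n) (S : Finset (Fin n)) : sL i (S ∆ {a}) = sL i S * cs i a :=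
  prod_toggle _ (fun _ => cs_sq _ _) S a

theorem sR_toggle (i a : Fin n) (S : Finset (Fin n)) : sR i (S ∆ {a}) = sR i S * cs a i :=
  prod_toggle (fun j => cs j i) (fun _ => cs_sq _ _) S a

/-- left multiplication by a generator -/
def opL (i : Fin n) : Module.End (ZMod 3) (Mod3 n) where
  toFun f := fun S => sL i S * f (S ∆ {i})
  map_add' f g := by funext S; simp [mul_add]
  map_smul' c f := by funext S; simp only [Pi.smul_apply, smul_eq_mul, RingHom.id_apply]; ring

/-- right multiplication by a generator -/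
def opR (i : Fin n) : Module.End (ZMod 3) (Mod3 n) where
  toFun f := fun S => sR i S * f (S ∆ {i})
  map_add' f g := by funext S; simp [mul_add]
  map_smul' c f := by funext S; simp only [Pi.smul_apply, smul_eq_mul, RingHom.id_apply]; ring

/-- the parity operator -/
def opP : Module.End (ZMod 3) (Mod3 n) where
  toFun f := fun S => (-1) ^ S.card * f S
  map_add' f g := by funext S; simp [mul_add]
  map_smul' c f := by funext S; simp only [Pi.smul_apply, smul_eq_mul, RingHom.id_apply]; ring

theorem opL_apply (i : Fin n) (f : Mod3 n) (S : Finset (Fin n)) :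
    opL i f S = sL i S * f (S ∆ {i}) := rfl

theorem opR_apply (i : Fin n) (f : Mod3 n) (S : Finset (Fin n)) :
    opR i f S = sR i S * f (S ∆ {i}) := rfl

theorem toggle_comm (S : Finset (Fin n)) (i j : Fin n) : (S ∆ {i}) ∆ {j} = (S ∆ {j}) ∆ {i} :=
  symmDiff_right_comm S {i} {j}

theorem nm (a b : Module.End (ZMod 3) (Mod3 n)) : -a * b = -(a * b) := neg_mul a b

theorem mn (a b : Module.End (ZMod 3) (Mod3 n)) : a * -b = -(a * b) := mul_neg a b

theorem nsl (c : ZMod 3) (a : Module.End (ZMod 3) (Mod3 n)) : -c • a = -(c • a) := neg_smul c a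

theorem nn : (-1 : Module.End (ZMod 3) (Mod3 n)) * -1 = 1 := by rw [nm, mn, neg_neg, one_mul]

theorem opL_sq (i : Fin n) : opL i * opL i = 1 := by
  refine LinearMap.ext fun f => funext fun S => ?_
  simp only [Module.End.mul_apply, Module.End.one_apply, opL_apply, sL_toggle, cs_self, mul_one,
    symmDiff_symmDiff_cancel_right]
  rw [← mul_assoc, sL, ← Finset.prod_mul_distrib]
  simp [cs_sq]

theorem opL_anti {i j : Fin n} (h : i ≠ j) : opL i * opL j = -(opL j * opL i) := by
  refine LinearMap.ext fun f => funext fun S => ?_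
  simp only [Module.End.mul_apply, LinearMap.neg_apply, Pi.neg_apply, opL_apply, sL_toggle,
    toggle_comm S i j]
  rw [cs_swap h.symm]; ring

theorem opLR (i j : Fin n) : opL i * opR j = opR j * opL i := by
  refine LinearMap.ext fun f => funext fun S => ?_
  simp only [Module.End.mul_apply, opL_apply, opR_apply, sL_toggle, sR_toggle, toggle_comm S i j]
  ring

theorem opP_L (i : Fin n) : (opP (n := n)) * opL i = -(opL i * (opP (n := n))) := by
  refine LinearMap.ext fun f => funext fun S => ?_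
  simp only [Module.End.mul_apply, LinearMap.neg_apply, Pi.neg_apply, opL_apply]
  show (-1) ^ S.card * (sL i S * f (S ∆ {i})) = -(sL i S * ((-1) ^ (S ∆ {i}).card * f (S ∆ {i})))
  have : ((-1 : ZMod 3)) ^ (S ∆ {i}).card = (-1) ^ S.card * (-1) := by
    rw [← Finset.prod_const, ← Finset.prod_const]
    exact prod_toggle (fun _ => -1) (fun _ => by simp) S i
  rw [this]; ring

/-- the reflection vector -/
def vv (a b : Fin n) : Module.End (ZMod 3) (Mod3 n) := opL a - opL b

theorem three_eq_zero (x : Module.End (ZMod 3) (Mod3 n)) : x + x + x = 0 := by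
  have : (3 : ZMod 3) • x = 0 := by rw [show (3 : ZMod 3) = 0 from rfl, zero_smul]
  rw [← this]; module

theorem vv_sq {a b : Fin n} (h : a ≠ b) : vv a b * vv a b = -1 := by
  rw [vv, sub_mul, mul_sub, mul_sub, opL_sq, opL_sq, opL_anti h]
  have := three_eq_zero (1 : Module.End (ZMod 3) (Mod3 n))
  linear_combination (norm := abel) this

theorem vv_conj {a b : Fin n} (h : a ≠ b) (k : Fin n) :
    vv a b * opL k * vv a b = opL (Equiv.swap a b k) := by
  have h3 := fun i : Fin n => three_eq_zero (opL i)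
  have e1 : opL b * opL a * opL a = opL b := by rw [mul_assoc, opL_sq, mul_one]
  have e2 : opL a * opL b * opL b = opL a := by rw [mul_assoc, opL_sq, mul_one]
  by_cases ha : k = a
  · subst ha
    rw [Equiv.swap_apply_left, vv, sub_mul, opL_sq, mul_sub, sub_mul, sub_mul, one_mul, one_mul, e1,
      opL_anti h.symm, nm, e2]
    linear_combination (norm := abel) -(h3 b)
  by_cases hb : k = b
  · subst hb
    rw [Equiv.swap_apply_right, vv, sub_mul, opL_sq, mul_sub, sub_mul, sub_mul, one_mul, one_mul, e2,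
      opL_anti h, nm, e1]
    linear_combination (norm := abel) -(h3 a)
  rw [Equiv.swap_apply_of_ne_of_ne ha hb]
  have : vv a b * opL k = -(opL k * vv a b) := by
    rw [vv, sub_mul, mul_sub, opL_anti (Ne.symm ha), opL_anti (Ne.symm hb)]; abel
  rw [this, nm, mul_assoc, vv_sq h, mn, mul_one, neg_neg]

theorem vv_mul {a b : Fin n} (h : a ≠ b) (k : Fin n) :
    vv a b * opL k = -(opL (Equiv.swap a b k) * vv a b) := by
  rw [← vv_conj h, mul_assoc _ (vv a b), vv_sq h, mn, mul_one, neg_neg]

theorem vv_R (a b : Fin n) (k : Fin n) : vv a b * opR k = opR k * vv a b := by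
  rw [vv, sub_mul, mul_sub, opLR, opLR]

theorem vv_P (a b : Fin n) : (opP (n := n)) * vv a b = -(vv a b * (opP (n := n))) := by
  rw [vv, sub_mul, mul_sub, opP_L, opP_L]; abel

/-- a signed lift of a permutation -/
theorem exists_lift (σ : Equiv.Perm (Fin n)) : ∃ g : (Module.End (ZMod 3) (Mod3 n))ˣ,
    (∀ k, g.1 * opL k = ((Equiv.Perm.sign σ : ℤ) : ZMod 3) • (opL (σ k) * g.1)) ∧
    (∀ k, g.1 * opR k = opR k * g.1) ∧
    (opP (n := n)) * g.1 = ((Equiv.Perm.sign σ : ℤ) : ZMod 3) • (g.1 * (opP (n := n))) := by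
  induction σ using Equiv.Perm.swap_induction_on with
  | one => exact ⟨1, fun k => by simp, fun k => by simp, by simp⟩
  | swap_mul f x y hxy ih =>
    obtain ⟨g, h1, h2, h3⟩ := ih
    let v : (Module.End (ZMod 3) (Mod3 n))ˣ := ⟨vv x y, -vv x y, by rw [mn, vv_sq hxy, neg_neg],
      by rw [nm, vv_sq hxy, neg_neg]⟩
    have hs : ((Equiv.Perm.sign (Equiv.swap x y * f) : ℤ) : ZMod 3) = -((Equiv.Perm.sign f : ℤ) : ZMod 3) := by
      rw [map_mul, Equiv.Perm.sign_swap hxy]; simp
    refine ⟨v * g, fun k => ?_, fun k => ?_, ?_⟩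
    · show vv x y * g.1 * opL k = _ • (_ * (vv x y * g.1))
      rw [hs, mul_assoc, h1, mul_smul_comm, ← mul_assoc, vv_mul hxy, nm, smul_neg, nsl,
        mul_assoc, Equiv.Perm.mul_apply]
    · show vv x y * g.1 * opR k = opR k * (vv x y * g.1)
      rw [mul_assoc, h2, ← mul_assoc, vv_R, mul_assoc]
    · show (opP (n := n)) * (vv x y * g.1) = _ • (vv x y * g.1 * (opP (n := n)))
      rw [hs, ← mul_assoc, vv_P, nm, mul_assoc, h3, mul_smul_comm, nsl, mul_assoc]

variable (n) in
/-- the covering group -/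
def spinAlt : Subgroup ((alternatingGroup (Fin n)) × (Module.End (ZMod 3) (Mod3 n))ˣ) where
  carrier := {p | (∀ k, p.2.1 * opL k = opL ((p.1 : Equiv.Perm (Fin n)) k) * p.2.1) ∧
    (∀ k, p.2.1 * opR k = opR k * p.2.1) ∧
    (opP (n := n)) * p.2.1 = p.2.1 * (opP (n := n))}
  mul_mem' {p q} hp hq := by
    obtain ⟨a1, a2, a3⟩ := hp
    obtain ⟨b1, b2, b3⟩ := hq
    refine ⟨fun k => ?_, fun k => ?_, ?_⟩ <;> simp only [Prod.fst_mul, Prod.snd_mul, Units.val_mul,
      Subgroup.coe_mul, Equiv.Perm.mul_apply]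
    · rw [mul_assoc, b1, ← mul_assoc, a1, mul_assoc]
    · rw [mul_assoc, b2, ← mul_assoc, a2, mul_assoc]
    · rw [← mul_assoc, a3, mul_assoc, b3, mul_assoc]
  one_mem' := ⟨fun k => by simp, fun k => by simp, by simp⟩
  inv_mem' {p} hp := by
    obtain ⟨a1, a2, a3⟩ := hp
    refine ⟨fun k => ?_, fun k => ?_, ?_⟩ <;> simp only [Prod.fst_inv, Prod.snd_inv, Subgroup.coe_inv]
    · have h := a1 ((p.1 : Equiv.Perm (Fin n))⁻¹ k)
      rw [show (p.1 : Equiv.Perm (Fin n)) ((p.1 : Equiv.Perm (Fin n))⁻¹ k) = k from Equiv.apply_symm_apply _ _] at h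
      rw [Units.inv_mul_eq_iff_eq_mul, ← mul_assoc, Units.eq_mul_inv_iff_mul_eq]
      exact h.symm
    · rw [Units.inv_mul_eq_iff_eq_mul, ← mul_assoc, Units.eq_mul_inv_iff_mul_eq]
      exact (a2 k).symm
    · rw [Units.eq_inv_mul_iff_mul_eq, ← mul_assoc, ← a3, Units.mul_inv_cancel_right]

theorem mem_spin {p : (alternatingGroup (Fin n)) × (Module.End (ZMod 3) (Mod3 n))ˣ} :
    p ∈ spinAlt n ↔ (∀ k, p.2.1 * opL k = opL ((p.1 : Equiv.Perm (Fin n)) k) * p.2.1) ∧
    (∀ k, p.2.1 * opR k = opR k * p.2.1) ∧ (opP (n := n)) * p.2.1 = p.2.1 * (opP (n := n)) := Iff.rfl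

/-- a kernel element is a scalar -/
theorem scalar_of_comm (g : Module.End (ZMod 3) (Mod3 n)) (hL : ∀ k, g * opL k = opL k * g)
    (hR : ∀ k, g * opR k = opR k * g) (hP : (opP (n := n)) * g = g * (opP (n := n))) : ∃ a : ZMod 3, g = a • 1 := by
  classical
  let δ : Finset (Fin n) → Mod3 n := fun T => Pi.single T 1
  set v := g (δ ∅) with hv
  have hdd : ∀ (T : Finset (Fin n)) i, opL i (δ T) = sL i (T ∆ {i}) • δ (T ∆ {i}) := by
    intro T i; funext S
    rw [opL_apply, Pi.smul_apply, smul_eq_mul]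
    by_cases h : S = T ∆ {i}
    · subst h; simp [δ]
    · have : S ∆ {i} ≠ T := fun e => h (by rw [← e, symmDiff_symmDiff_cancel_right])
      simp [δ, h, this]
  have hRL : ∀ j, opR j (δ ∅) = opL j (δ ∅) := by
    intro j; funext S
    rw [opL_apply, opR_apply]
    by_cases h : S ∆ {j} = ∅
    · have : S = {j} := symmDiff_eq_bot.mp h
      subst this; simp [sL, sR]
    · simp [δ, h]
  have hsupp : ∀ S, S ≠ ∅ → v S = 0 := by
    intro S hS
    have hev : (-1 : ZMod 3) ^ S.card * v S = v S := by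
      have h := congrFun (LinearMap.congr_fun hP (δ ∅)) S
      have e : opP (δ ∅) = δ ∅ := by
        funext T; show (-1 : ZMod 3) ^ T.card * _ = _
        by_cases hT : T = ∅
        · subst hT; simp [δ]
        · simp [δ, hT]
      simp only [Module.End.mul_apply, e] at h
      exact h
    by_contra hne
    have hone : (-1 : ZMod 3) ^ S.card = 1 := mul_right_cancel₀ hne (hev.trans (one_mul _).symm)
    obtain ⟨j, hj⟩ := Finset.nonempty_iff_ne_empty.mpr hS
    have h1 : opL j v = opR j v := by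
      rw [hv, ← Module.End.mul_apply, ← hL, Module.End.mul_apply, ← hRL, ← Module.End.mul_apply, hR,
        Module.End.mul_apply]
    have h2 := congrFun h1 (S ∆ {j})
    rw [opL_apply, opR_apply, symmDiff_symmDiff_cancel_right, sL_toggle, sR_toggle, cs_self, mul_one,
      mul_one] at h2
    have h3 : sL j S = sR j S := mul_right_cancel₀ hne h2
    have h4 : sR j S = sL j S * (-1) ^ (S.erase j).card := by
      rw [sL, sR, ← Finset.mul_prod_erase S _ hj, ← Finset.mul_prod_erase S (cs j) hj, cs_self, one_mul,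
        one_mul, ← Finset.prod_const, ← Finset.prod_mul_distrib]
      refine Finset.prod_congr rfl fun k hk => ?_
      rw [cs_swap (Finset.ne_of_mem_erase hk), mul_neg_one]
    have h5 : sL j S * sL j S = 1 := by
      rw [sL, ← Finset.prod_mul_distrib]; simp [cs_sq]
    have h6 : (-1 : ZMod 3) ^ (S.erase j).card = 1 := by
      calc (-1 : ZMod 3) ^ (S.erase j).card = sL j S * sL j S * (-1) ^ (S.erase j).card := by rw [h5, one_mul]
        _ = 1 := by rw [mul_assoc, ← h4, ← h3, h5]
    rw [← Finset.card_erase_add_one hj, pow_succ, h6, one_mul] at hone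
    exact (by decide : (-1 : ZMod 3) ≠ 1) hone
  have hv' : v = v ∅ • δ ∅ := by
    funext S
    by_cases h : S = ∅
    · subst h; simp [δ]
    · simp [δ, h, hsupp S h]
  have hsq : ∀ (i : Fin n) S, sL i S * sL i S = 1 := fun i S => by
    rw [sL, ← Finset.prod_mul_distrib]; simp [cs_sq]
  have hall : ∀ T, g (δ T) = v ∅ • δ T := by
    intro T
    induction T using Finset.induction with
    | empty => rw [← hv]; exact hv'
    | @insert i T hi ih =>
      have e : T ∆ {i} = insert i T := by
        ext j; simp only [Finset.mem_symmDiff, Finset.mem_singleton, Finset.mem_insert]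
        constructor
        · rintro (⟨h1, -⟩ | ⟨h1, -⟩)
          · exact Or.inr h1
          · exact Or.inl h1
        · rintro (rfl | h1)
          · exact Or.inr ⟨rfl, hi⟩
          · exact Or.inl ⟨h1, fun h => hi (h ▸ h1)⟩
      have h := LinearMap.congr_fun (hL i) (δ T)
      simp only [Module.End.mul_apply] at h
      rw [hdd, map_smul, ih, map_smul, hdd, e, smul_comm] at h
      have := congrArg (sL i (insert i T) • ·) h
      simpa [smul_smul, ← mul_assoc, hsq] using this
  refine ⟨v ∅, LinearMap.ext fun f => ?_⟩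
  have hf : f = ∑ T, f T • δ T := by
    funext S; simp [δ, Finset.sum_apply, Pi.single_apply]
  rw [hf]
  simp [map_sum, map_smul, hall, smul_comm (v ∅)]

theorem spin_exists (n : ℕ) (hn : 4 ≤ n) : ∃ (Γ : Type) (_ : Group Γ) (_ : Finite Γ) (z : Γ)
    (_ : z ∈ Subgroup.center Γ), orderOf z = 2 ∧ z ∈ commutator Γ ∧
    ∃ _ : (Subgroup.zpowers z).Normal, Nonempty (Γ ⧸ Subgroup.zpowers z ≃* alternatingGroup (Fin n)) := by
  classical
  haveI : Finite (Module.End (ZMod 3) (Mod3 n)) := Finite.of_injective _ DFunLike.coe_injective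
  haveI : Finite (Module.End (ZMod 3) (Mod3 n))ˣ := Finite.of_injective _ Units.val_injective
  let z : spinAlt n := ⟨(1, -1), mem_spin.mpr ⟨fun k => by simp [nm, mn], fun k => by simp [nm, mn], by simp [nm, mn]⟩⟩
  have hzc : z ∈ Subgroup.center (spinAlt n) := Subgroup.mem_center_iff.mpr fun x => by
    apply Subtype.ext; apply Prod.ext
    · simp [z]
    · apply Units.ext; simp [z]
  have hnt : (-1 : Module.End (ZMod 3) (Mod3 n)) ≠ 1 := fun h => by
    have := congrFun (LinearMap.congr_fun h (fun _ => 1)) ∅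
    simp only [LinearMap.neg_apply, Module.End.one_apply, Pi.neg_apply] at this
    exact (by decide : (-1 : ZMod 3) ≠ 1) this
  have hz2 : orderOf z = 2 := by
    refine orderOf_eq_prime ?_ fun h => hnt ?_
    · rw [pow_two]
      apply Subtype.ext
      exact Prod.ext (one_mul 1) (Units.ext nn)
    · exact congrArg Units.val (congrArg Prod.snd (congrArg Subtype.val h))
  let π : spinAlt n →* alternatingGroup (Fin n) := (MonoidHom.fst _ _).comp (spinAlt n).subtype
  have hker : π.ker = Subgroup.zpowers z := by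
    refine le_antisymm ?_ (Subgroup.zpowers_le.mpr (MonoidHom.mem_ker.mpr rfl))
    rintro ⟨⟨σ, g⟩, hp⟩ hx
    obtain ⟨h1, h2, h3⟩ := mem_spin.mp hp
    have hσ : σ = 1 := hx
    subst hσ
    obtain ⟨a, ha⟩ := scalar_of_comm g.1 (fun k => by simpa using h1 k) h2 h3
    have hne : a ≠ 0 := by
      rintro rfl
      rw [zero_smul] at ha
      have h := g.inv_mul
      rw [ha, mul_zero] at h
      have := congrFun (LinearMap.congr_fun h (fun _ => 1)) ∅
      simp only [LinearMap.zero_apply, Module.End.one_apply, Pi.zero_apply] at this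
      exact (by decide : (0 : ZMod 3) ≠ 1) this
    have : a = 1 ∨ a = -1 := (by decide : ∀ b : ZMod 3, b ≠ 0 → b = 1 ∨ b = -1) a hne
    rcases this with rfl | rfl
    · have : g = 1 := Units.ext (by rw [ha, one_smul]; rfl)
      subst this; exact one_mem _
    · have : g = -1 := Units.ext (by rw [ha, nsl, one_smul]; rfl)
      subst this; exact Subgroup.mem_zpowers z
  have hsurj : Function.Surjective π := by
    intro σ
    obtain ⟨g, h1, h2, h3⟩ := exists_lift (σ : Equiv.Perm (Fin n))
    have hs : ((Equiv.Perm.sign (σ : Equiv.Perm (Fin n)) : ℤ) : ZMod 3) = 1 := by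
      rw [Equiv.Perm.mem_alternatingGroup.mp σ.2]; simp
    exact ⟨⟨(σ, g), mem_spin.mpr ⟨fun k => by rw [h1, hs, one_smul], h2, by rw [h3, hs, one_smul]⟩⟩, rfl⟩
  -- the commutator
  let a : Fin n := ⟨0, by omega⟩
  let b : Fin n := ⟨1, by omega⟩
  let c : Fin n := ⟨2, by omega⟩
  let d : Fin n := ⟨3, by omega⟩
  have hab : a ≠ b := by simp [a, b, Fin.ext_iff]
  have hac : a ≠ c := by simp [a, c, Fin.ext_iff]
  have had : a ≠ d := by simp [a, d, Fin.ext_iff]
  have hbc : b ≠ c := by simp [b, c, Fin.ext_iff]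
  have hbd : b ≠ d := by simp [b, d, Fin.ext_iff]
  have hcd : c ≠ d := by simp [c, d, Fin.ext_iff]
  have mk : ∀ x y u w : Fin n, x ≠ y → u ≠ w → ∃ e : spinAlt n,
      e.1.2.1 = vv x y * vv u w := by
    intro x y u w hxy huw
    let gx : (Module.End (ZMod 3) (Mod3 n))ˣ := ⟨vv x y, -vv x y, by rw [mn, vv_sq hxy, neg_neg],
      by rw [nm, vv_sq hxy, neg_neg]⟩
    let gu : (Module.End (ZMod 3) (Mod3 n))ˣ := ⟨vv u w, -vv u w, by rw [mn, vv_sq huw, neg_neg],
      by rw [nm, vv_sq huw, neg_neg]⟩
    refine ⟨⟨(⟨Equiv.swap x y * Equiv.swap u w, ?_⟩, gx * gu), mem_spin.mpr ⟨fun k => ?_, fun k => ?_, ?_⟩⟩, rfl⟩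
    · rw [Equiv.Perm.mem_alternatingGroup, map_mul, Equiv.Perm.sign_swap hxy, Equiv.Perm.sign_swap huw]; rfl
    · show vv x y * vv u w * opL k = opL (Equiv.swap x y (Equiv.swap u w k)) * (vv x y * vv u w)
      rw [mul_assoc, vv_mul huw, mn, ← mul_assoc, vv_mul hxy, nm, neg_neg, mul_assoc]
    · show vv x y * vv u w * opR k = opR k * (vv x y * vv u w)
      rw [mul_assoc, vv_R, ← mul_assoc, vv_R, mul_assoc]
    · show (opP (n := n)) * (vv x y * vv u w) = vv x y * vv u w * opP
      rw [← mul_assoc, vv_P, nm, mul_assoc, vv_P, mn, neg_neg, mul_assoc]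
  obtain ⟨X, hX⟩ := mk a b c d hab hcd
  obtain ⟨Y, hY⟩ := mk a c b d hac hbd
  have hg : ∀ k, vv a b * vv c d * opL k =
      opL (Equiv.swap a b (Equiv.swap c d k)) * (vv a b * vv c d) := fun k => by
    rw [mul_assoc, vv_mul hcd, mn, ← mul_assoc, vv_mul hab, nm, neg_neg, mul_assoc]
  have i1 : vv a b * vv c d * vv a c = vv b d * (vv a b * vv c d) := by
    rw [vv, vv, vv, vv, mul_sub, sub_mul (opL b) (opL d)]
    have e1 := hg a; have e2 := hg c
    rw [Equiv.swap_apply_of_ne_of_ne hac had, Equiv.swap_apply_left] at e1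
    rw [Equiv.swap_apply_left, Equiv.swap_apply_of_ne_of_ne had.symm hbd.symm] at e2
    simp only [vv] at e1 e2
    rw [e1, e2]
  have i2 : vv a b * vv c d * vv b d = vv a c * (vv a b * vv c d) := by
    rw [vv, vv, vv, vv, mul_sub, sub_mul (opL a) (opL c)]
    have e1 := hg b; have e2 := hg d
    rw [Equiv.swap_apply_of_ne_of_ne hbc hbd, Equiv.swap_apply_right] at e1
    rw [Equiv.swap_apply_right, Equiv.swap_apply_of_ne_of_ne hac.symm hbc.symm] at e2
    simp only [vv] at e1 e2
    rw [e1, e2]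
  have i3 : vv b d * vv a c = -(vv a c * vv b d) := by
    simp only [vv, sub_mul, mul_sub]
    rw [opL_anti hab.symm, opL_anti hbc, opL_anti had.symm, opL_anti hcd.symm]
    abel
  have hXY : ⁅X, Y⁆ = z := by
    have e : X * Y = z * (Y * X) := by
      apply Subtype.ext; apply Prod.ext
      swap
      · apply Units.ext
        show X.1.2.1 * Y.1.2.1 =
          -1 * (Y.1.2.1 * X.1.2.1)
        rw [hX, hY, ← mul_assoc, i1, mul_assoc, i2, ← mul_assoc, i3]
        noncomm_ring
      · have hc : ∀ p q : spinAlt n, (∀ k, ((p.1.1 : Equiv.Perm (Fin n)) k) = (q.1.1 : Equiv.Perm (Fin n)) k) →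
            p.1.1 = q.1.1 := fun p q h => Subtype.ext (Equiv.ext h)
        -- both sides have the same underlying permutation
        apply hc
        intro k
        have hl : ∀ p : spinAlt n, ∀ k, p.1.2.1 * opL k =
            opL ((p.1.1 : Equiv.Perm (Fin n)) k) * p.1.2.1 :=
          fun p => (mem_spin.mp p.2).1
        have h1 := hl (X * Y) k
        have h2 := hl (z * (Y * X)) k
        have hu : (X * Y).1.2.1 =
            (z * (Y * X)).1.2.1 := by
          show X.1.2.1 * Y.1.2.1 =
            -1 * (Y.1.2.1 * X.1.2.1)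
          rw [hX, hY, ← mul_assoc, i1, mul_assoc, i2, ← mul_assoc, i3]
          noncomm_ring
        rw [hu, h2] at h1
        have h3 := (Units.mul_left_inj _).mp h1
        by_contra hne
        have h4 := congrFun (LinearMap.congr_fun h3 (Pi.single {(((z * (Y * X)).1.1 : Equiv.Perm (Fin n)) k)} 1)) ∅
        have e0 : ∀ a : Fin n, (∅ : Finset (Fin n)) ∆ {a} = {a} := fun a => bot_symmDiff _
        rw [opL_apply, opL_apply, e0, e0, Pi.single_eq_same, Pi.single_eq_of_ne
          (fun e => hne (Finset.singleton_injective e))] at h4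
        simp [sL] at h4
    rw [commutatorElement_def, e]; group
  refine ⟨spinAlt n, inferInstance, inferInstance, z, hzc, hz2, ?_, ?_⟩
  · rw [← hXY]
    exact Subgroup.commutator_mem_commutator (Subgroup.mem_top X) (Subgroup.mem_top Y)
  · have hN : (Subgroup.zpowers z).Normal := hker ▸ inferInstance
    exact ⟨hN, ⟨(QuotientGroup.quotientMulEquivOfEq hker.symm).trans
      (QuotientGroup.quotientKerEquivOfSurjective π hsurj)⟩⟩

end Clifford

/-- For every n ≥ 4 there are a finite group Γ and a central element z of Γ of order 2 lying in the commutator subgroup of Γ such that the quotient of Γ by the (normal) subgroup generated by z is isomorphic to the alternating group on n letters. -/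
theorem result (n : ℕ) (hn : 4 ≤ n) : ∃ (Γ : Type) (_ : Group Γ) (_ : Finite Γ) (z : Γ) (hz : z ∈ Subgroup.center Γ), orderOf z = 2 ∧ z ∈ commutator Γ ∧ ∃ _ : (Subgroup.zpowers z).Normal, Nonempty (Γ ⧸ Subgroup.zpowers z ≃* alternatingGroup (Fin n)) := by
  exact spin_exists n hn

end Cfsg.Agent.S0891
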