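import Cfsg.Statements.S0893
import Cfsg.Agent.Char.Extraspecial

set_option autoImplicit false
open Cfsg

namespace Cfsg.Agent.S0893
open scoped CfsgLib.Char


/-- Let P be an extraspecial p-group of order p ^ (2 * n + 1), A an abelian subgroup of order p ^ (n + 1), and λ a character of A of degree 1 that is not identically 1 on the elements of A lying in the centre of P. Then the function induced from λ to P is an irreducible character of P and vanishes at every element outside the centre. -/
theorem result {P : Type*} [Group P] [Fintype P] (p n : ℕ) [Fact p.Prime] (hP : Cfsg.IsExtraspecial p P) (hcard : Nat.card P = p ^ (2 * n + 1)) (A : Subgroup P) (hab : ∀ a ∈ A, ∀ b ∈ A, a * b = b * a) (hA : Nat.card A = p ^ (n + 1)) (lam : A → ℂ) (hlam : Cfsg.IsCharacter A lam ∧ lam 1 = 1) (hZ : ∃ a : A, (a : P) ∈ Subgroup.center P ∧ lam a ≠ 1) : Cfsg.IsIrrCharacter P (Cfsg.indFun A lam) ∧ ∀ x : P, x ∉ Subgroup.center P → Cfsg.indFun A lam x = 0 := by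
  classical
  haveI : Fintype A := Fintype.ofFinite A
  open CfsgLib.Char in
  · obtain ⟨a, haZ, ha⟩ := hZ
    have hli := isCharacter_degree_one_irr hlam.1 hlam.2
    have hind := isCharacter_indFun A hlam.1
    have hindex : A.index = p ^ n := by
      have h := A.index_mul_card
      rw [hA, hcard, show 2 * n + 1 = n + (n + 1) by ring, pow_add p n (n + 1)] at h
      exact Nat.eq_of_mul_eq_mul_right (pow_pos (Fact.out : p.Prime).pos _) h
    have hne : Cfsg.indFun A lam ≠ 0 := fun e => by
      have h := congrFun e 1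
      rw [indFun_one, hlam.2, mul_one] at h
      exact Subgroup.index_ne_zero_of_finite (H := A) (Nat.cast_eq_zero.1 h)
    obtain ⟨χ, hχ⟩ := exists_constituent hind hne
    have hc : Cfsg.classInner (fun h : A => (χ : P → ℂ) h) lam ≠ 0 := fun e => hχ (by
      rw [CfsgLib.Char.frobenius A lam (classFun_of_irr χ.2), ← classInner_conj, e, map_zero])
    have hχa : (χ : P → ℂ) a ≠ (χ : P → ℂ) 1 := fun e => ha (by
      rw [kernel_of_constituent (isCharacter_restrict A (isCharacter_of_isIrr χ.2)) hli hc (g := a) e, hlam.2])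
    have hdeg := degree_of_extraspecial hP hcard χ.2 haZ hχa
    have heq : Cfsg.indFun A lam = (χ : P → ℂ) := by
      have hsub := isCharacter_sub_constituent hind χ.2 hχ
      have h1 : (Cfsg.indFun A lam - (χ : P → ℂ)) 1 = 0 := by
        rw [Pi.sub_apply, indFun_one, hlam.2, hdeg, hindex]; simp
      exact sub_eq_zero.1 ((char_eq_zero_iff hsub).1 h1)
    rw [heq]
    exact ⟨χ.2, fun x hx => vanish_of_extraspecial hP χ.2 haZ hχa hx⟩

end Cfsg.Agent.S0893
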