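import Cfsg.Statements.S0894
import Cfsg.Agent.Char.Extraspecial

set_option autoImplicit false
open Cfsg

namespace Cfsg.Agent.S0894
open scoped CfsgLib.Char


/-- Let P be an extraspecial p-group of order p ^ (2 * n + 1). Then every irreducible character of P has degree 1 or p ^ n, and exactly p - 1 of them have degree p ^ n. -/
theorem result {P : Type*} [Group P] [Finite P] (p n : ℕ) [Fact p.Prime] (hP : Cfsg.IsExtraspecial p P) (hcard : Nat.card P = p ^ (2 * n + 1)) : (∀ χ : Cfsg.IrrCharacter P, (χ : P → ℂ) 1 = 1 ∨ (χ : P → ℂ) 1 = (p : ℂ) ^ n) ∧ Nat.card {χ : Cfsg.IrrCharacter P // (χ : P → ℂ) 1 = (p : ℂ) ^ n} = p - 1 := by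
  classical
  haveI := Fintype.ofFinite P
  have hp : p.Prime := Fact.out
  open CfsgLib.Char in
  · have hn : n ≠ 0 := by
      rintro rfl
      have htop : Subgroup.center P = ⊤ := Subgroup.eq_top_of_card_eq _ (by rw [hP.2, hcard, mul_zero, zero_add, pow_one])
      have hcm : commutator P ≤ ⊥ := by
        rw [commutator_def, Subgroup.commutator_le]
        intro a _ b _
        rw [Subgroup.mem_bot, commutatorElement_eq_one_iff_mul_comm]
        exact (Subgroup.mem_center_iff.1 (htop ▸ Subgroup.mem_top a) b).symm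
      rw [hP.1.2.2, le_bot_iff] at hcm
      have h := hP.2
      rw [hcm, Subgroup.card_bot] at h
      exact hp.one_lt.ne h
    have hpn : (p : ℂ) ^ n ≠ 1 := by
      rw [← Nat.cast_pow, ← Nat.cast_one, Ne, Nat.cast_inj]
      exact (Nat.one_lt_pow hn hp.one_lt).ne'
    have hdeg : ∀ χ : Cfsg.IrrCharacter P, (χ : P → ℂ) 1 = 1 ∨ (χ : P → ℂ) 1 = (p : ℂ) ^ n := by
      intro χ
      by_cases h : ∀ z ∈ Subgroup.center P, (χ : P → ℂ) z = (χ : P → ℂ) 1
      · exact Or.inl (degree_one_of_center_kernel hP χ.2 h)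
      · push Not at h
        obtain ⟨z, hz, hne⟩ := h
        exact Or.inr (degree_of_extraspecial hP hcard χ.2 hz hne)
    refine ⟨hdeg, ?_⟩
    set B := Finset.univ.filter (fun χ : Cfsg.IrrCharacter P => (χ : P → ℂ) 1 = (p : ℂ) ^ n)
    set A := Finset.univ.filter (fun χ : Cfsg.IrrCharacter P => ¬ (χ : P → ℂ) 1 = (p : ℂ) ^ n)
    set Z := Finset.univ.filter (fun z : P => z ∈ Subgroup.center P)
    have hZcard : (Z.card : ℂ) = p := by
      rw [← Fintype.card_subtype, ← Nat.card_eq_fintype_card]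
      exact_mod_cast hP.2
    have hlin : ∀ χ ∈ A, ∀ z ∈ Z, (χ : P → ℂ) z = 1 := by
      intro χ hχ z hz
      have h1 := (hdeg χ).resolve_right (Finset.mem_filter.1 hχ).2
      by_contra hne
      exact (Finset.mem_filter.1 hχ).2 (degree_of_extraspecial hP hcard χ.2 (Finset.mem_filter.1 hz).2 (by rw [h1]; exact hne))
    have hB : ∀ χ ∈ B, ∑ z ∈ Z, (χ : P → ℂ) z = 0 := by
      intro χ hχ
      obtain ⟨z₀, hz₀, hne⟩ : ∃ z ∈ Subgroup.center P, (χ : P → ℂ) z ≠ (χ : P → ℂ) 1 := by
        by_contra h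
        push Not at h
        exact hpn ((Finset.mem_filter.1 hχ).2.symm.trans (degree_one_of_center_kernel hP χ.2 h))
      obtain ⟨ω, hω, hω1⟩ := exists_central_scalar χ.2 hz₀
      have h : ∑ z ∈ Z, (χ : P → ℂ) z = ω * ∑ z ∈ Z, (χ : P → ℂ) z := by
        rw [Finset.mul_sum]
        refine Finset.sum_bij (fun z _ => z * z₀⁻¹) (fun z hz => ?_) (fun a _ b _ e => mul_right_cancel e)
          (fun z hz => ⟨z * z₀, ?_, by simp⟩) (fun z _ => by rw [← hω, inv_mul_cancel_right])
        · exact Finset.mem_filter.2 ⟨Finset.mem_univ _, mul_mem (Finset.mem_filter.1 hz).2 (inv_mem hz₀)⟩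
        · exact Finset.mem_filter.2 ⟨Finset.mem_univ _, mul_mem (Finset.mem_filter.1 hz).2 hz₀⟩
      have hω' : ω ≠ 1 := fun e => hne (by rw [hω1, e, one_mul])
      by_contra h0
      exact hω' ((mul_eq_right₀ h0).1 h.symm)
    have hsq : ∀ z : P, ∑ χ : Cfsg.IrrCharacter P, (χ : P → ℂ) z * (starRingEnd ℂ) ((χ : P → ℂ) 1) =
        if z = 1 then (Nat.card P : ℂ) else 0 := by
      intro z
      rw [second_orth]
      refine if_ctx_congr ⟨fun h => isConj_one_left.1 h, fun h => h ▸ IsConj.refl _⟩ (fun h => ?_) (fun _ => rfl)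
      rw [h, show Subgroup.centralizer ({1} : Set P) = ⊤ from Subgroup.ext fun x => by simp [Subgroup.mem_centralizer_singleton_iff], Subgroup.card_top]
    have hsum : (Nat.card P : ℂ) = (A.card : ℂ) * p := by
      have h := Finset.sum_congr rfl (fun z (_ : z ∈ Z) => hsq z)
      rw [Finset.sum_ite_eq' Z (1 : P), if_pos (Finset.mem_filter.2 ⟨Finset.mem_univ _, one_mem _⟩), Finset.sum_comm,
        ← Finset.sum_filter_add_sum_filter_not Finset.univ (fun χ : Cfsg.IrrCharacter P => (χ : P → ℂ) 1 = (p : ℂ) ^ n)] at h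
      simp only [← Finset.sum_mul] at h
      rw [Finset.sum_eq_zero (s := B) (fun χ hχ => by rw [hB χ hχ, zero_mul]), zero_add,
        Finset.sum_congr rfl (s₁ := A) (g := fun _ => (p : ℂ)) (fun χ hχ => by
          rw [Finset.sum_congr rfl (hlin χ hχ), (hdeg χ).resolve_right (Finset.mem_filter.1 hχ).2, map_one, mul_one,
            Finset.sum_const, nsmul_eq_mul, mul_one, hZcard]),
        Finset.sum_const, nsmul_eq_mul] at h
      exact h.symm
    have htot := hsq 1
    rw [if_pos rfl, ← Finset.sum_filter_add_sum_filter_not Finset.univ (fun χ : Cfsg.IrrCharacter P => (χ : P → ℂ) 1 = (p : ℂ) ^ n),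
      Finset.sum_congr rfl (s₁ := B) (g := fun _ => ((p : ℂ) ^ n) * (p : ℂ) ^ n) (fun χ hχ => by
        rw [(Finset.mem_filter.1 hχ).2, map_pow, map_natCast]),
      Finset.sum_congr rfl (s₁ := A) (g := fun _ => (1 : ℂ)) (fun χ hχ => by
        rw [(hdeg χ).resolve_right (Finset.mem_filter.1 hχ).2, map_one, mul_one]),
      Finset.sum_const, Finset.sum_const, nsmul_eq_mul, nsmul_eq_mul, mul_one] at htot
    rw [Nat.card_eq_fintype_card, Fintype.card_subtype]
    have hA' : A.card = p ^ (2 * n) := by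
      have h : A.card * p = p ^ (2 * n) * p := by
        rw [← pow_succ, ← hcard]; exact_mod_cast hsum.symm
      exact Nat.eq_of_mul_eq_mul_right hp.pos h
    have hB' : B.card * p ^ (2 * n) + p ^ (2 * n) = p * p ^ (2 * n) := by
      rw [← pow_succ', ← hcard]
      nth_rewrite 2 [← hA']
      rw [two_mul, pow_add]
      exact_mod_cast htot
    have : (B.card + 1) * p ^ (2 * n) = p * p ^ (2 * n) := by rw [add_mul, one_mul]; exact hB'
    have := Nat.eq_of_mul_eq_mul_right (pow_pos hp.pos _) this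
    show B.card = p - 1
    omega

end Cfsg.Agent.S0894
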