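import Cfsg.Statements.S0896
import Cfsg.Agent.Char.Brauer
import Cfsg.Agent.Char.Clifford

set_option autoImplicit false
open scoped ComplexConjugate
open Cfsg
open scoped CfsgLib.Char

namespace Cfsg.Agent.S0896

universe u

open Classical in
theorem inner_mem_p {E : Type u} [Group E] [Fintype E] (D : Subgroup E) [D.Normal] [Fintype D]
    (p k : ℕ) (hp : p.Prime) (hk : D.index = p ^ k) {θ χ : E → ℂ}
    (hθ : IsCharacter E θ) (hχ : IsCharacter E χ) (ϑD : D → ℂ) (hϑ : IsCharacter D ϑD)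
    (hinv : ∀ g : E, CfsgLib.Char.conjN ϑD g = ϑD)
    (hall : ∀ φ : IrrCharacter D, (∀ g : E, CfsgLib.Char.conjN (φ : D → ℂ) g = φ) →
      ∃ m : ℕ, p ∣ m ∧ classInner ϑD (φ : D → ℂ) = m) :
    ∃ m : ℕ, p ∣ m ∧ classInner (fun d : D => χ d * ϑD d) ϑD = m := by
  have hb : IsCharacter D (fun d : D => χ d * ϑD d) :=
    CfsgLib.Char.isCharacter_mul (CfsgLib.Char.isCharacter_restrict D hχ) hϑ
  choose a ha using fun φ : IrrCharacter D => CfsgLib.Char.inner_char_irr hϑ φ.2
  choose b hb' using fun φ : IrrCharacter D => CfsgLib.Char.inner_char_irr hb φ.2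
  have hexp : classInner (fun d : D => χ d * ϑD d) ϑD =
      ((∑ φ : IrrCharacter D, a φ * b φ : ℕ) : ℂ) := by
    conv_lhs => arg 2; rw [CfsgLib.Char.classFun_eq_sum (CfsgLib.Char.classFun_of_char hϑ)]
    rw [CfsgLib.Char.classInner_sum_right, Nat.cast_sum]
    refine Finset.sum_congr rfl fun φ _ => ?_
    rw [CfsgLib.Char.classInner_smul_right, hb' φ, ha φ, Complex.conj_natCast, Nat.cast_mul]
  refine ⟨_, ?_, hexp⟩
  have hbinv : ∀ g : E, CfsgLib.Char.conjN (fun d : D => χ d * ϑD d) g = fun d : D => χ d * ϑD d := by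
    intro g
    ext d
    simp only [CfsgLib.Char.conjN]
    rw [show χ (g * (d : E) * g⁻¹) = χ d from CfsgLib.Char.classFun_of_char hχ d g]
    exact congrArg _ (congrFun (hinv g) d)
  let act : IrrCharacter D → E → IrrCharacter D := fun φ g =>
    ⟨CfsgLib.Char.conjN (φ : D → ℂ) g, CfsgLib.Char.irr_conjN φ.2 g⟩
  have hact : ∀ φ g, a (act φ g) = a φ ∧ b (act φ g) = b φ := by
    intro φ g
    constructor
    · apply Nat.cast_injective (R := ℂ)
      show (a (act φ g) : ℂ) = a φ
      rw [← ha, ← ha]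
      conv_lhs => arg 1; rw [← hinv g]
      exact CfsgLib.Char.classInner_conjN _ _ g
    · apply Nat.cast_injective (R := ℂ)
      show (b (act φ g) : ℂ) = b φ
      rw [← hb', ← hb']
      conv_lhs => arg 1; rw [← hbinv g]
      exact CfsgLib.Char.classInner_conjN _ _ g
  rw [← Finset.sum_fiberwise_of_maps_to (s := (Finset.univ : Finset (IrrCharacter D)))
    (t := Finset.univ.image fun φ => Finset.univ.image (act φ))
    (g := fun φ => Finset.univ.image (act φ)) (fun φ _ => Finset.mem_image_of_mem _ (Finset.mem_univ φ))]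
  refine Finset.dvd_sum fun O hO => ?_
  obtain ⟨φ, -, rfl⟩ := Finset.mem_image.1 hO
  have hmul : ∀ φ' g h, act (act φ' g) h = act φ' (g * h) := fun φ' g h =>
    Subtype.ext (CfsgLib.Char.conjN_mul _ g h)
  have hone : ∀ φ', act φ' 1 = φ' := fun φ' => Subtype.ext (CfsgLib.Char.conjN_one _)
  have hfib : Finset.univ.filter (fun ψ => Finset.univ.image (act ψ) = Finset.univ.image (act φ)) =
      Finset.univ.image (act φ) := by
    ext ψ
    simp only [Finset.mem_filter, Finset.mem_univ, true_and, Finset.mem_image]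
    constructor
    · intro h
      have : ψ ∈ Finset.univ.image (act ψ) := Finset.mem_image.2 ⟨1, Finset.mem_univ _, hone ψ⟩
      rw [h] at this
      obtain ⟨g, -, hg⟩ := Finset.mem_image.1 this
      exact ⟨g, hg⟩
    · rintro ⟨g, rfl⟩
      ext x
      simp only [Finset.mem_image, Finset.mem_univ, true_and]
      constructor
      · rintro ⟨h, rfl⟩; exact ⟨g * h, (hmul φ g h).symm⟩
      · rintro ⟨h, rfl⟩; exact ⟨g⁻¹ * h, by rw [hmul, mul_inv_cancel_left]⟩
  rw [hfib, Finset.sum_congr rfl (g := fun _ => a φ * b φ) (fun ψ hψ => by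
    obtain ⟨g, -, rfl⟩ := Finset.mem_image.1 hψ
    show a (act φ g) * b (act φ g) = a φ * b φ
    rw [(hact φ g).1, (hact φ g).2]), Finset.sum_const, smul_eq_mul]
  have hcard : (Finset.univ.image (act φ)).card = (CfsgLib.Char.inertia (φ : D → ℂ)).index := by
    rw [← CfsgLib.Char.card_orbit, ← Finset.card_image_of_injective _ Subtype.val_injective,
      Finset.image_image]
    rfl
  rw [hcard]
  have hdvd : (CfsgLib.Char.inertia (φ : D → ℂ)).index ∣ p ^ k := hk ▸ Subgroup.index_dvd_of_le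
    (CfsgLib.Char.le_inertia (CfsgLib.Char.classFun_of_irr φ.2))
  obtain ⟨j, -, hj⟩ := (Nat.dvd_prime_pow hp).1 hdvd
  rcases Nat.eq_zero_or_pos j with hj0 | hj0
  · obtain ⟨m, hm, hm'⟩ := hall φ fun g => CfsgLib.Char.mem_inertia.1 (by
      rw [Subgroup.index_eq_one.1 (show (CfsgLib.Char.inertia (φ : D → ℂ)).index = 1 by
        rw [hj, hj0, pow_zero])]
      exact Subgroup.mem_top g)
    rw [ha φ, Nat.cast_inj] at hm'
    exact dvd_mul_of_dvd_right (dvd_mul_of_dvd_left (hm' ▸ hm) _) _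
  · rw [hj]
    exact dvd_mul_of_dvd_left (dvd_pow_self p hj0.ne') _


/-- Let N be a normal subgroup of the finite group G with the index of N a power of the prime p, and ϑ an irreducible character of N invariant under conjugation by G. Then there are a p-elementary subgroup E of G with E ⊔ N = ⊤ and an irreducible character φ of the subgroup E ⊓ N, invariant under conjugation by E, such that the inner product of the restriction of ϑ to E ⊓ N with φ is an integer not divisible by p. -/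
theorem result {G : Type*} [Group G] [Fintype G] (p : ℕ) (hp : p.Prime) (N : Subgroup G) [hN : N.Normal] (hind : ∃ k : ℕ, N.index = p ^ k) (ϑ : N → ℂ) (hϑ : Cfsg.IsIrrCharacter N ϑ) (hinv : ∀ (g : G) (n : N), ϑ ⟨g * n * g⁻¹, hN.conj_mem (n : G) n.2 g⟩ = ϑ n) : ∃ (E : Subgroup G) (φ : ↥(E ⊓ N) → ℂ), Cfsg.IsElementary p E ∧ E ⊔ N = ⊤ ∧ Cfsg.IsIrrCharacter ↥(E ⊓ N) φ ∧ (∀ (g : G) (hg : g ∈ E) (x : ↥(E ⊓ N)), φ ⟨g * x * g⁻¹, ⟨(E.mul_mem (E.mul_mem hg x.2.1) (E.inv_mem hg)), hN.conj_mem (x : G) x.2.2 g⟩⟩ = φ x) ∧ ∃ m : ℕ, ¬ p ∣ m ∧ (Nat.card ↥(E ⊓ N) : ℂ)⁻¹ * ∑ᶠ x : ↥(E ⊓ N), ϑ ⟨(x : G), x.2.2⟩ * conj (φ x) = (m : ℂ) := by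
  classical
  haveI := Fintype.ofFinite N
  obtain ⟨kk, hkk⟩ := hind
  by_contra hcon
  set T : G → ℂ := extendByZero N ϑ with hT
  let F : (G → ℂ) → ℂ := fun f =>
    (Nat.card N : ℂ)⁻¹ * ∑ x : G, f x * (T x * conj (T x))
  have hTinv : ∀ g x : G, T (g * x * g⁻¹) = T x := by
    intro g x
    by_cases hx : x ∈ N
    · rw [hT, CfsgLib.Char.extendByZero_mem' N ϑ (hN.conj_mem x hx g),
        CfsgLib.Char.extendByZero_mem' N ϑ hx]
      exact hinv g ⟨x, hx⟩
    · rw [hT, CfsgLib.Char.extendByZero_not_mem N ϑ hx,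
        CfsgLib.Char.extendByZero_not_mem N ϑ]
      intro h
      exact hx (by simpa [mul_assoc] using hN.conj_mem _ h g⁻¹)
  have hgen : ∀ (E : Subgroup G) (χ : E → ℂ), IsElementary p E → IsCharacter E χ →
      ∃ z : ℤ, F (indFun E χ) = ((p * z : ℤ) : ℂ) := by
    intro E χ hE hχ
    haveI := Fintype.ofFinite E
    set D := N.subgroupOf E with hD
    haveI : D.Normal := hN.subgroupOf E
    haveI := Fintype.ofFinite D
    let ι : D →* N :=
      { toFun := fun x => ⟨((x : E) : G), x.2⟩, map_one' := rfl, map_mul' := fun _ _ => rfl }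
    set ϑD : D → ℂ := fun x => ϑ (ι x) with hϑD
    have hϑDc : IsCharacter D ϑD :=
      CfsgLib.Char.isCharacter_comp ι (CfsgLib.Char.isCharacter_of_isIrr hϑ)
    have hmain : F (indFun E χ) = ((E ⊔ N).index : ℂ) * classInner (fun d : D => χ d * ϑD d) ϑD := by
      have h1 : ∑ x : G, indFun E χ x * (T x * conj (T x)) =
          (Nat.card E : ℂ)⁻¹ * ∑ _g : G, ∑ d : D, χ d * ϑD d * conj (ϑD d) := by
        simp only [CfsgLib.Char.indFun_apply, mul_assoc (Nat.card E : ℂ)⁻¹, Finset.sum_mul,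
          ← Finset.mul_sum]
        rw [Finset.sum_comm]
        congr 1
        refine Finset.sum_congr rfl fun g _ => ?_
        rw [← Fintype.sum_equiv (MulAut.conj g).toEquiv
          (fun y => extendByZero E χ y * (T y * conj (T y))) _ (fun y => by
            show _ = extendByZero E χ (g⁻¹ * (g * y * g⁻¹) * g) *
              (T (g * y * g⁻¹) * conj (T (g * y * g⁻¹)))
            rw [hTinv g y, show g⁻¹ * (g * y * g⁻¹) * g = y by group]),
          CfsgLib.Char.sum_subgroup E _ (fun y hy => by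
            rw [CfsgLib.Char.extendByZero_not_mem E χ hy, zero_mul]),
          CfsgLib.Char.sum_subgroup D _ (fun y hy => by
            rw [hT, CfsgLib.Char.extendByZero_not_mem N ϑ (show (y : G) ∉ N from hy), zero_mul,
              mul_zero])]
        refine Finset.sum_congr rfl fun d _ => ?_
        rw [CfsgLib.Char.extendByZero_mem, hT,
          CfsgLib.Char.extendByZero_mem' N ϑ (show ((d : E) : G) ∈ N from d.2)]
        show _ * (ϑ (ι d) * conj (ϑ (ι d))) = _
        ring
      show (Nat.card N : ℂ)⁻¹ * ∑ x : G, indFun E χ x * (T x * conj (T x)) = _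
      rw [h1, Finset.sum_const, Finset.card_univ, nsmul_eq_mul, CfsgLib.Char.classInner_def,
        ← Nat.card_eq_fintype_card]
      have hcard : Nat.card G * Nat.card D = (E ⊔ N).index * (Nat.card N * Nat.card E) := by
        have a1 : N.relIndex (E ⊔ N) = D.index := Subgroup.relIndex_sup_right E N
        have a2 := Subgroup.relIndex_mul_index (le_sup_right : N ≤ E ⊔ N)
        rw [a1] at a2
        rw [← Subgroup.index_mul_card N, ← a2, ← Subgroup.index_mul_card D]
        ring
      have hcardC : (Nat.card G : ℂ) * Nat.card D =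
          ((E ⊔ N).index : ℂ) * ((Nat.card N : ℂ) * Nat.card E) := by exact_mod_cast hcard
      have n1 : (Nat.card N : ℂ) ≠ 0 := Nat.cast_ne_zero.2 Nat.card_pos.ne'
      have n2 : (Nat.card E : ℂ) ≠ 0 := Nat.cast_ne_zero.2 Nat.card_pos.ne'
      have n3 : (Nat.card D : ℂ) ≠ 0 := Nat.cast_ne_zero.2 Nat.card_pos.ne'
      field_simp
      linear_combination (∑ d : D, χ d * ϑD d * conj (ϑD d)) * hcardC
    by_cases htop : E ⊔ N = ⊤
    · have hkD : ∃ k, D.index = p ^ k := by
        refine ⟨kk, ?_⟩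
        have a1 : N.relIndex (E ⊔ N) = D.index := Subgroup.relIndex_sup_right E N
        rw [← a1, htop, Subgroup.relIndex_top_right, hkk]
      obtain ⟨k, hk⟩ := hkD
      obtain ⟨m, hpm, hm⟩ := inner_mem_p D p k hp hk (θ := χ) hχ hχ ϑD hϑDc
        (fun g => funext fun d => by
          simp only [CfsgLib.Char.conjN, hϑD]
          exact hinv (g : G) (ι d))
        (fun φ hφ => by
          obtain ⟨m, hm⟩ := CfsgLib.Char.inner_char_irr hϑDc φ.2
          refine ⟨m, by_contra fun hpm => hcon ?_, hm⟩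
          let e : ↥(E ⊓ N) ≃* D :=
            { toFun := fun x => ⟨⟨(x : G), x.2.1⟩, x.2.2⟩
              invFun := fun d => ⟨((d : E) : G), (d : E).2, d.2⟩
              left_inv := fun x => rfl
              right_inv := fun x => rfl
              map_mul' := fun x y => rfl }
          haveI := Fintype.ofFinite ↥(E ⊓ N)
          refine ⟨E, (φ : D → ℂ) ∘ e, hE, htop, CfsgLib.Char.irr_mulEquiv e φ.2,
            fun g hg x => ?_, m, hpm, ?_⟩
          · have := congrFun (hφ ⟨g, hg⟩) (e x)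
            exact this
          · rw [← hm, ← CfsgLib.Char.classInner_mulEquiv e, CfsgLib.Char.classInner_def,
              finsum_eq_sum_of_fintype]
            rfl)
      obtain ⟨c, rfl⟩ := hpm
      exact ⟨c, by rw [hmain, hm, htop, Subgroup.index_top]; push_cast; ring⟩
    · obtain ⟨m, hm⟩ := CfsgLib.Char.inner_char_char
        (CfsgLib.Char.isCharacter_mul (CfsgLib.Char.isCharacter_restrict D hχ) hϑDc) hϑDc
      have hdvd : (E ⊔ N).index ∣ p ^ kk := hkk ▸ Subgroup.index_dvd_of_le le_sup_right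
      obtain ⟨j, -, hj⟩ := (Nat.dvd_prime_pow hp).1 hdvd
      have hj0 : j ≠ 0 := fun h => htop (Subgroup.index_eq_one.1 (by rw [hj, h, pow_zero]))
      obtain ⟨c, hc⟩ := dvd_pow_self p hj0
      refine ⟨c * m, ?_⟩
      rw [hmain, hj, hc]
      refine (congrArg _ hm).trans ?_
      push_cast; ring
  obtain ⟨m, hm, hmem⟩ := CfsgLib.Char.exists_const_mem_elemSpan (G := G) hp
  have hall : ∀ f ∈ CfsgLib.Char.elemSpan p G, ∃ z : ℤ, F f = ((p * z : ℤ) : ℂ) := by
    intro f hf
    induction hf using AddSubgroup.closure_induction with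
    | mem f hf => obtain ⟨E, χ, hE, hχ, rfl⟩ := hf; exact hgen E χ hE hχ
    | zero => exact ⟨0, by simp [F]⟩
    | add f f' _ _ h h' =>
      obtain ⟨z, hz⟩ := h
      obtain ⟨z', hz'⟩ := h'
      refine ⟨z + z', ?_⟩
      show (Nat.card N : ℂ)⁻¹ * ∑ x : G, (f + f') x * (T x * conj (T x)) = _
      simp only [Pi.add_apply, add_mul, Finset.sum_add_distrib, mul_add]
      rw [show (Nat.card N : ℂ)⁻¹ * ∑ x : G, f x * (T x * conj (T x)) = _ from hz,
        show (Nat.card N : ℂ)⁻¹ * ∑ x : G, f' x * (T x * conj (T x)) = _ from hz']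
      push_cast; ring
    | neg f _ h =>
      obtain ⟨z, hz⟩ := h
      refine ⟨-z, ?_⟩
      show (Nat.card N : ℂ)⁻¹ * ∑ x : G, (-f) x * (T x * conj (T x)) = _
      simp only [Pi.neg_apply, neg_mul, Finset.sum_neg_distrib, mul_neg]
      rw [show (Nat.card N : ℂ)⁻¹ * ∑ x : G, f x * (T x * conj (T x)) = _ from hz]
      push_cast; ring
  obtain ⟨z, hz⟩ := hall _ hmem
  have hone : F (fun _ => (m : ℂ)) = (m : ℂ) := by
    show (Nat.card N : ℂ)⁻¹ * ∑ x : G, (m : ℂ) * (T x * conj (T x)) = _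
    rw [← Finset.mul_sum, CfsgLib.Char.sum_subgroup N _ (fun x hx => by
      rw [hT, CfsgLib.Char.extendByZero_not_mem N ϑ hx, zero_mul])]
    have h1 := CfsgLib.Char.irr_inner_self hϑ
    rw [CfsgLib.Char.classInner_def] at h1
    simp only [hT, CfsgLib.Char.extendByZero_mem]
    linear_combination (m : ℂ) * h1
  rw [hone] at hz
  exact hm ⟨z, by exact_mod_cast hz⟩

end Cfsg.Agent.S0896
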