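import Cfsg.Statements.S0897
import Cfsg.Agent.S0896
import Cfsg.Agent.Char.ExtCrit
import Cfsg.Agent.Char.Monomial
import Mathlib.GroupTheory.FiniteAbelian.Duality
import Mathlib.RingTheory.RootsOfUnity.AlgebraicallyClosed

set_option autoImplicit false
open Cfsg
open scoped CfsgLib.Char ComplexConjugate

namespace Cfsg.Agent.S0897

/-- Let N be a normal subgroup of the finite group G with the index of N a power of the prime p, and P a Sylow p-subgroup of G such that P ⊓ N lies in the centre of P and every character of degree 1 of P ⊓ N is the restriction of a character of degree 1 of P. Then every irreducible character of N invariant under conjugation by G is the restriction of an irreducible character of G. -/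
theorem result {G : Type*} [Group G] [Fintype G] (p : ℕ) [Fact p.Prime] (N : Subgroup G) [hN : N.Normal] (hind : ∃ k : ℕ, N.index = p ^ k) (P : Sylow p G) (hcent : ∀ x ∈ (P : Subgroup G) ⊓ N, ∀ y ∈ (P : Subgroup G), x * y = y * x) (hlin : ∀ lam : ↥((P : Subgroup G) ⊓ N) → ℂ, Cfsg.IsCharacter ↥((P : Subgroup G) ⊓ N) lam → lam 1 = 1 → ∃ μ : ↥(P : Subgroup G) → ℂ, Cfsg.IsCharacter ↥(P : Subgroup G) μ ∧ μ 1 = 1 ∧ ∀ x : ↥((P : Subgroup G) ⊓ N), μ ⟨(x : G), x.2.1⟩ = lam x) (ϑ : N → ℂ) (hϑ : Cfsg.IsIrrCharacter N ϑ) (hinv : ∀ (g : G) (n : N), ϑ ⟨g * n * g⁻¹, hN.conj_mem (n : G) n.2 g⟩ = ϑ n) : ∃ χ : G → ℂ, Cfsg.IsIrrCharacter G χ ∧ ∀ n : N, χ n = ϑ n := by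
  classical
  obtain ⟨E, φ, hE, htop, hφ, -, m, hpm, hinner⟩ :=
    Cfsg.Agent.S0896.result p Fact.out N hind ϑ hϑ hinv
  have hp : p.Prime := Fact.out
  obtain ⟨kk, hkk⟩ := hind
  haveI := Fintype.ofFinite E
  haveI := Fintype.ofFinite N
  -- the decomposition of `E`
  obtain ⟨x, hxc, hxp, j, hj⟩ := hE
  set Z : Subgroup E := Subgroup.zpowers x with hZ
  obtain ⟨S⟩ := (inferInstance : Nonempty (Sylow p E))
  have hzc : ∀ (z : Z) (s : E), (z : E) * s = s * z := fun z s => by
    have : (z : E) ∈ Subgroup.center E :=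
      (Subgroup.zpowers_le.2 hxc) z.2
    exact (Subgroup.mem_center_iff.1 this s).symm
  let π : Z × (S : Subgroup E) →* E :=
    { toFun := fun y => (y.1 : E) * (y.2 : E)
      map_one' := by simp
      map_mul' := fun a b => by
        show ((a.1 : E) * b.1) * ((a.2 : E) * b.2) = ((a.1 : E) * a.2) * ((b.1 : E) * b.2)
        rw [mul_assoc, ← mul_assoc (b.1 : E), hzc b.1 a.2]
        simp [mul_assoc] }
  have hZcard : Nat.Coprime (Nat.card Z) p := by rw [hZ, Nat.card_zpowers]; exact hxp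
  have hfac : (Nat.card E).factorization p = j := by
    rw [← Subgroup.index_mul_card Z, hj, Nat.factorization_mul (pow_ne_zero _ hp.ne_zero)
      Nat.card_pos.ne', Finsupp.add_apply, hp.factorization_pow, Finsupp.single_eq_same,
      Nat.factorization_eq_zero_of_not_dvd fun h => ?_, add_zero]
    exact hp.not_dvd_one (hZcard ▸ Nat.dvd_gcd h dvd_rfl)
  have hScard : Nat.card S = p ^ j := by rw [Sylow.card_eq_multiplicity, hfac]
  have hπ : Function.Bijective π := by
    have hinj : Function.Injective π := (injective_iff_map_eq_one π).2 fun y hy => by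
      have h1 : (y.2 : E) ∈ Z := by
        rw [← inv_mul_cancel_left (y.1 : E) (y.2 : E), show (y.1 : E) * y.2 = 1 from hy, mul_one]
        exact Z.inv_mem y.1.2
      have h2 : (y.2 : E) = 1 := orderOf_eq_one_iff.1 (Nat.eq_one_of_dvd_coprimes
        ((hZcard.pow_right j))
        (Subgroup.orderOf_dvd_natCard Z h1) (hScard ▸ Subgroup.orderOf_dvd_natCard _ y.2.2))
      have h3 : (y.1 : E) = 1 := by
        have := (show (y.1 : E) * y.2 = 1 from hy); rwa [h2, mul_one] at this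
      exact Prod.ext (Subtype.ext h3) (Subtype.ext h2)
    refine (Nat.bijective_iff_injective_and_card _).2 ⟨hinj, ?_⟩
    rw [Nat.card_prod, hScard, ← Subgroup.index_mul_card Z, hj, mul_comm]
  let π' := (MulEquiv.ofBijective π hπ).symm
  let prZ : E →* Z := (MonoidHom.fst _ _).comp π'.toMonoidHom
  let prS : E →* (S : Subgroup E) := (MonoidHom.snd _ _).comp π'.toMonoidHom
  have hdec : ∀ e : E, (prZ e : E) * (prS e : E) = e := fun e =>
    (MulEquiv.ofBijective π hπ).apply_symm_apply e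
  -- `Z` lies in `N`
  have hxN : (x : G) ∈ N := by
    have hx1 : (x : G) ^ N.index ∈ N := Subgroup.pow_index_mem N (x : G)
    have hco : Nat.Coprime (orderOf (x : G)) N.index := by
      rw [Subgroup.orderOf_coe, hkk]; exact hxp.pow_right kk
    obtain ⟨t, ht⟩ := exists_pow_eq_self_of_coprime hco.symm
    rw [← ht]; exact N.pow_mem hx1 t
  have hZN : ∀ z : Z, ((z : E) : G) ∈ N := fun z => by
    obtain ⟨i, hi⟩ := Subgroup.mem_zpowers_iff.1 z.2
    rw [← hi, Subgroup.coe_zpow]; exact N.zpow_mem hxN i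
  -- move the `p`-part into `P`
  have hSp : IsPGroup p ((S : Subgroup E).map E.subtype) := S.2.map _
  obtain ⟨P', hP'⟩ := hSp.exists_le_sylow
  obtain ⟨g, hg⟩ := MulAction.exists_smul_eq G P' P
  have hSP : ∀ s : (S : Subgroup E), g * ((s : E) : G) * g⁻¹ ∈ (P : Subgroup G) := by
    intro s
    rw [← hg, Sylow.smul_def]
    exact Subgroup.smul_mem_pointwise_smul _ (MulAut.conj g) _ (hP' ⟨s, s.2, rfl⟩)
  have hSN : ∀ d : E, (d : G) ∈ N → ((prS d : E) : G) ∈ N := by
    intro d hd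
    have h1 : ((prS d : E) : G) = ((prZ d : E) : G)⁻¹ * (d : G) := by
      conv_rhs => arg 2; rw [← hdec d]
      simp
    rw [h1]; exact N.mul_mem (N.inv_mem (hZN _)) hd
  -- `E ⊓ N` is abelian, so `φ` is linear
  have hab : ∀ a b : ↥(E ⊓ N), a * b = b * a := by
    intro a b
    set a' : E := ⟨a, a.2.1⟩ with ha'
    set b' : E := ⟨b, b.2.1⟩ with hb'
    have h1 : (prS a' : E) * (prS b' : E) = (prS b' : E) * (prS a' : E) := by
      have h := hcent _ (⟨hSP (prS a'), hN.conj_mem _ (hSN a' a.2.2) g⟩) _ (hSP (prS b'))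
      apply Subtype.ext
      apply mul_left_cancel (a := g)
      apply mul_right_cancel (b := g⁻¹)
      simpa [mul_assoc] using h
    have h2 : a' * b' = b' * a' := by
      have h3 : prS (a' * b') = prS (b' * a') := by
        rw [map_mul, map_mul]; exact Subtype.ext h1
      have h4 : prZ (a' * b') = prZ (b' * a') := by
        rw [map_mul, map_mul]
        exact Subtype.ext (hzc (prZ a') (prZ b' : E))
      rw [← hdec (a' * b'), ← hdec (b' * a'), h3, h4]
    exact Subtype.ext (congrArg (fun e : E => (e : G)) h2)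
  obtain ⟨lφ, hlφ⟩ := CfsgLib.Char.exists_hom_of_degree_one (CfsgLib.Char.isCharacter_of_isIrr hφ)
    (CfsgLib.Char.irr_degree_one_of_comm hab hφ)
  -- extend the `p`-part to `P`
  let Q : Subgroup G := (P : Subgroup G) ⊓ N
  letI : CommGroup Q := { (inferInstance : Group Q) with
    mul_comm := fun a b => Subtype.ext (hcent a a.2 b b.2.1) }
  let R : Subgroup Q :=
    ((((S : Subgroup E).map E.subtype) ⊓ N).map (MulAut.conj g).toMonoidHom).subgroupOf Q
  have hR : ∀ y : R, g⁻¹ * ((y : Q) : G) * g ∈ E ⊓ N := by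
    rintro ⟨y, hy⟩
    obtain ⟨z, hz, hzy⟩ := hy
    obtain ⟨s, -, rfl⟩ := hz.1
    show g⁻¹ * (y : G) * g ∈ E ⊓ N
    rw [show (y : G) = g * (s : G) * g⁻¹ from hzy.symm]
    simpa [mul_assoc] using And.intro s.2 hz.2
  let l0 : R →* ℂˣ :=
    { toFun := fun y => lφ ⟨_, hR y⟩
      map_one' := by rw [← map_one lφ]; congr 1; exact Subtype.ext (by simp)
      map_mul' := fun a b => by
        rw [← map_mul]; congr 1; exact Subtype.ext (by simp [mul_assoc]) }
  obtain ⟨l1, hl1⟩ := MonoidHom.domRestrict_surjective ℂ R l0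
  have hl1' : ∀ y : R, l1 (y : Q) = l0 y := fun y => DFunLike.congr_fun hl1 y
  obtain ⟨μc, hμc, hμ1, hμres⟩ := hlin (fun y : Q => (l1 y : ℂ))
    (CfsgLib.Char.isCharacter_linear l1) (by simp)
  obtain ⟨μ, rfl⟩ := CfsgLib.Char.exists_hom_of_degree_one hμc hμ1
  -- the extension of `φ` to `E`
  let cg : (S : Subgroup E) →* (P : Subgroup G) :=
    { toFun := fun s => ⟨g * ((s : E) : G) * g⁻¹, hSP s⟩
      map_one' := Subtype.ext (by simp)
      map_mul' := fun a b => Subtype.ext (by simp [mul_assoc]) }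
  let iZ : Z →* ↥(E ⊓ N) :=
    { toFun := fun z => ⟨((z : E) : G), (z : E).2, hZN z⟩
      map_one' := rfl
      map_mul' := fun a b => rfl }
  let ψ : E →* ℂˣ := (lφ.comp (iZ.comp prZ)) * (μ.comp (cg.comp prS))
  have hψ : ∀ d : ↥(E ⊓ N), (ψ ⟨d, d.2.1⟩ : ℂ) = φ d := by
    intro d
    set d' : E := ⟨d, d.2.1⟩
    have hq : g * ((prS d' : E) : G) * g⁻¹ ∈ Q := ⟨hSP _, hN.conj_mem _ (hSN d' d.2.2) g⟩
    have hqR : (⟨_, hq⟩ : Q) ∈ R :=
      ⟨((prS d' : E) : G), ⟨⟨_, (prS d').2, rfl⟩, hSN d' d.2.2⟩, rfl⟩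
    have h1 : (μ (cg (prS d')) : ℂ) = (l0 ⟨_, hqR⟩ : ℂ) := by
      rw [← hl1' ⟨_, hqR⟩]; exact hμres ⟨_, hq⟩
    show ((lφ (iZ (prZ d')) * μ (cg (prS d')) : ℂˣ) : ℂ) = φ d
    rw [Units.val_mul, h1, hlφ, ← Units.val_mul]
    show ((lφ (iZ (prZ d')) * lφ _ : ℂˣ) : ℂ) = lφ d
    rw [← map_mul]
    congr 2
    apply Subtype.ext
    show ((prZ d' : E) : G) * (g⁻¹ * (g * ((prS d' : E) : G) * g⁻¹) * g) = (d : G)
    rw [show g⁻¹ * (g * ((prS d' : E) : G) * g⁻¹) * g = ((prS d' : E) : G) by group,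
      ← Subgroup.coe_mul, hdec d']
  -- a constituent of the induced character
  set ξ : G → ℂ := indFun E (fun e => (ψ e : ℂ)) with hξ
  have hξc : IsCharacter G ξ :=
    CfsgLib.Char.isCharacter_indFun E (CfsgLib.Char.isCharacter_linear ψ)
  set T : G → ℂ := extendByZero N ϑ with hT
  have hTinv : ∀ k y : G, T (k * y * k⁻¹) = T y := by
    intro k y
    by_cases hy : y ∈ N
    · rw [hT, CfsgLib.Char.extendByZero_mem' N ϑ (hN.conj_mem y hy k),
        CfsgLib.Char.extendByZero_mem' N ϑ hy]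
      exact hinv k ⟨y, hy⟩
    · rw [hT, CfsgLib.Char.extendByZero_not_mem N ϑ hy,
        CfsgLib.Char.extendByZero_not_mem N ϑ]
      intro h
      exact hy (by simpa [mul_assoc] using hN.conj_mem _ h k⁻¹)
  have hξN : classInner (fun n : N => ξ n) ϑ = (m : ℂ) := by
    haveI := Fintype.ofFinite ↥(E ⊓ N)
    rw [finsum_eq_sum_of_fintype] at hinner
    have hs : ∑ y : G, extendByZero E (fun e => (ψ e : ℂ)) y * conj (T y) =
        ∑ d : ↥(E ⊓ N), φ d * conj (ϑ ⟨(d : G), d.2.2⟩) := by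
      rw [CfsgLib.Char.sum_subgroup (E ⊓ N) _ (fun y hy => by
        by_cases h1 : y ∈ E
        · rw [hT, CfsgLib.Char.extendByZero_not_mem N ϑ fun h2 => hy ⟨h1, h2⟩, map_zero, mul_zero]
        · rw [CfsgLib.Char.extendByZero_not_mem E _ h1, zero_mul])]
      refine Finset.sum_congr rfl fun d _ => ?_
      rw [CfsgLib.Char.extendByZero_mem' E _ d.2.1, hT, CfsgLib.Char.extendByZero_mem' N ϑ d.2.2,
        hψ d]
    have hs2 : ∑ n : N, ξ n * conj (ϑ n) = (Nat.card E : ℂ)⁻¹ *
        ((Nat.card G : ℂ) * ∑ d : ↥(E ⊓ N), φ d * conj (ϑ ⟨(d : G), d.2.2⟩)) := by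
      rw [← hs, Nat.card_eq_fintype_card (α := G), ← nsmul_eq_mul, ← Finset.card_univ,
        ← Finset.sum_const]
      have : ∑ n : N, ξ n * conj (ϑ n) = ∑ y : G, ξ y * conj (T y) := by
        rw [CfsgLib.Char.sum_subgroup N (fun y => ξ y * conj (T y)) (fun y hy => by
          rw [hT, CfsgLib.Char.extendByZero_not_mem N ϑ hy, map_zero, mul_zero])]
        exact Finset.sum_congr rfl fun n _ => by rw [hT, CfsgLib.Char.extendByZero_mem]
      rw [this]
      simp only [hξ, CfsgLib.Char.indFun_apply, mul_assoc (Nat.card E : ℂ)⁻¹, Finset.sum_mul,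
        ← Finset.mul_sum]
      rw [Finset.sum_comm]
      congr 1
      refine Finset.sum_congr rfl fun k _ => ?_
      refine (Fintype.sum_equiv (MulAut.conj k).toEquiv _ _ fun y => ?_).symm
      show _ = extendByZero E _ (k⁻¹ * (k * y * k⁻¹) * k) * conj (T (k * y * k⁻¹))
      rw [hTinv k y, show k⁻¹ * (k * y * k⁻¹) * k = y by group]
    have hcard : Nat.card G * Nat.card ↥(E ⊓ N) = Nat.card N * Nat.card E := by
      have a1 : N.relIndex (E ⊔ N) = N.relIndex E := Subgroup.relIndex_sup_right E N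
      rw [htop, Subgroup.relIndex_top_right] at a1
      have a2 := Subgroup.index_mul_card (N.subgroupOf E)
      rw [show (N.subgroupOf E).index = N.index from a1.symm,
        Nat.card_congr (show ↥(N.subgroupOf E) ≃ ↥(E ⊓ N) from
          { toFun := fun d => ⟨((d : E) : G), (d : E).2, d.2⟩
            invFun := fun d => ⟨⟨(d : G), d.2.1⟩, d.2.2⟩
            left_inv := fun d => rfl
            right_inv := fun d => rfl })] at a2
      rw [← Subgroup.index_mul_card N, ← a2]; ring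
    have hcardC : (Nat.card G : ℂ) * Nat.card ↥(E ⊓ N) = (Nat.card N : ℂ) * Nat.card E := by
      exact_mod_cast hcard
    have hconj : (Nat.card ↥(E ⊓ N) : ℂ)⁻¹ * ∑ d : ↥(E ⊓ N), φ d * conj (ϑ ⟨(d : G), d.2.2⟩) =
        (m : ℂ) := by
      have h := congrArg conj hinner
      simp only [map_mul, map_inv₀, map_sum, Complex.conj_natCast, Complex.conj_conj] at h
      rw [← h]
      congr 1
      exact Finset.sum_congr rfl fun d _ => mul_comm _ _
    rw [CfsgLib.Char.classInner_def, hs2, ← hconj]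
    have n1 : (Nat.card N : ℂ) ≠ 0 := Nat.cast_ne_zero.2 Nat.card_pos.ne'
    have n2 : (Nat.card E : ℂ) ≠ 0 := Nat.cast_ne_zero.2 Nat.card_pos.ne'
    have n3 : (Nat.card ↥(E ⊓ N) : ℂ) ≠ 0 := Nat.cast_ne_zero.2 Nat.card_pos.ne'
    field_simp
    linear_combination (∑ d : ↥(E ⊓ N), φ d * conj (ϑ ⟨(d : G), d.2.2⟩)) * hcardC
  choose a ha using fun χ : IrrCharacter G => CfsgLib.Char.inner_char_irr hξc χ.2
  choose b hb using fun χ : IrrCharacter G => CfsgLib.Char.inner_char_irr
    (CfsgLib.Char.isCharacter_restrict N (CfsgLib.Char.isCharacter_of_isIrr χ.2)) hϑ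
  have hsum : m = ∑ χ : IrrCharacter G, a χ * b χ := by
    apply Nat.cast_injective (R := ℂ)
    rw [← hξN, Nat.cast_sum]
    have : (fun n : N => ξ n) = ∑ χ : IrrCharacter G, classInner ξ (χ : G → ℂ) •
        fun n : N => (χ : G → ℂ) n := by
      ext n
      have h := congrFun (CfsgLib.Char.classFun_eq_sum (CfsgLib.Char.classFun_of_char hξc)) n
      simpa using h
    rw [this, CfsgLib.Char.classInner_sum_left]
    refine Finset.sum_congr rfl fun χ _ => ?_
    rw [CfsgLib.Char.classInner_smul_left, hb χ, ha χ, Nat.cast_mul]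
  obtain ⟨χ, hχ⟩ : ∃ χ, ¬ p ∣ b χ := by
    by_contra hall
    push Not at hall
    exact hpm (hsum ▸ Finset.dvd_sum fun χ _ => dvd_mul_of_dvd_right (hall χ) _)
  have hinv' : ∀ k : G, CfsgLib.Char.conjN ϑ k = ϑ := fun k => funext fun n => hinv k n
  have hc : classInner (fun n : N => (χ : G → ℂ) n) ϑ ≠ 0 := by
    rw [hb χ, Nat.cast_ne_zero]; intro h; exact hχ (h ▸ dvd_zero p)
  obtain ⟨e, he, hed⟩ := CfsgLib.Char.ramification_dvd_index χ.2 hϑ hinv' hc
  have heb : e = b χ := by rw [hb χ] at he; exact_mod_cast he.symm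
  have he1 : e = 1 := by
    obtain ⟨i, -, hi⟩ := (Nat.dvd_prime_pow hp).1 (hkk ▸ hed)
    rcases Nat.eq_zero_or_pos i with h | h
    · rw [hi, h, pow_zero]
    · exact absurd (heb ▸ hi ▸ dvd_pow_self p h.ne') hχ
  refine ⟨χ, χ.2, fun n => ?_⟩
  have := congrFun (CfsgLib.Char.res_homogeneous χ.2 hϑ hc hinv') n
  rw [he, he1, Nat.cast_one, one_smul] at this
  exact this

end Cfsg.Agent.S0897
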