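import Cfsg.Statements.S0901
import Cfsg.Agent.Blk.Local
import Mathlib.RingTheory.Polynomial.Cyclotomic.Basic
import Mathlib.RingTheory.RootsOfUnity.Complex
import Mathlib.FieldTheory.Finite.Basic
import Mathlib.RingTheory.Ideal.Quotient.Operations
import Mathlib.RingTheory.Polynomial.Cyclotomic.Roots
import Mathlib.RingTheory.RootsOfUnity.Minpoly
import Mathlib.Algebra.Algebra.ZMod

set_option autoImplicit false
open Cfsg

namespace Cfsg.Agent.S0901

/-- Let M be a maximal ideal of the ring of algebraic integers containing the prime p, and let U be the set of complex roots of unity of order prime to p. Then reduction modulo M is injective on U, and every algebraic integer not in M is congruent modulo M to an element of U (so U maps bijectively onto the nonzero residues). -/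
theorem result (p : ℕ) [Fact p.Prime] (M : Ideal Cfsg.AlgInt) (hM : Cfsg.IsPModular p M) : (∀ ε₁ ε₂ : Cfsg.AlgInt, (∃ m : ℕ, ¬ p ∣ m ∧ (ε₁ : ℂ) ^ m = 1) → (∃ m : ℕ, ¬ p ∣ m ∧ (ε₂ : ℂ) ^ m = 1) → ε₁ - ε₂ ∈ M → ε₁ = ε₂) ∧ (∀ a : Cfsg.AlgInt, a ∉ M → ∃ ε : Cfsg.AlgInt, (∃ m : ℕ, ¬ p ∣ m ∧ (ε : ℂ) ^ m = 1) ∧ a - ε ∈ M) := by
  haveI hMp : M.IsPrime := CfsgLib.Blk.IsPModular.isPrime hM
  haveI hMmax : M.IsMaximal := hM.2.1
  have key : ∀ m : ℕ, ¬ p ∣ m → ∃ ζ : AlgInt, IsPrimitiveRoot ζ m := by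
    intro m hm
    have hm0 : m ≠ 0 := fun h => hm (h ▸ dvd_zero p)
    have h := Complex.isPrimitiveRoot_exp m hm0
    refine ⟨⟨_, h.isIntegral (Nat.pos_of_ne_zero hm0)⟩, ?_⟩
    exact IsPrimitiveRoot.of_map_of_injective (f := AlgInt.val) (by exact h) Subtype.val_injective
  letI : Field (AlgInt ⧸ M) := Ideal.Quotient.field M
  haveI : CharP (AlgInt ⧸ M) p := by
    refine ⟨fun n => ?_⟩
    rw [← map_natCast (Ideal.Quotient.mk M), Ideal.Quotient.eq_zero_iff_mem,
      ← CfsgLib.Blk.memLocalIdeal_algInt (M := M), ← CfsgLib.Blk.natCast_memLocalIdeal_iff (M := M) hM]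
    norm_cast
  constructor
  · intro ε₁ ε₂ ⟨m₁, hm₁, h₁⟩ ⟨m₂, hm₂, h₂⟩ hd
    have hm : ¬ p ∣ m₁ * m₂ := fun h => ((Fact.out : p.Prime).dvd_mul.1 h).elim hm₁ hm₂
    have hm0 : 0 < m₁ * m₂ := Nat.pos_of_ne_zero (fun h => hm (h ▸ dvd_zero p))
    obtain ⟨ζ, hζ⟩ := key _ hm
    haveI : NeZero (m₁ * m₂) := ⟨hm0.ne'⟩
    have e₁ : ε₁ ^ (m₁ * m₂) = 1 := Subtype.ext (by push_cast; rw [pow_mul, h₁, one_pow])
    have e₂ : ε₂ ^ (m₁ * m₂) = 1 := Subtype.ext (by push_cast; rw [pow_mul', h₂, one_pow])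
    obtain ⟨i, hi, rfl⟩ := hζ.eq_pow_of_pow_eq_one e₁
    obtain ⟨j, hj, rfl⟩ := hζ.eq_pow_of_pow_eq_one e₂
    have hζ' : IsPrimitiveRoot (Ideal.Quotient.mk M ζ) (m₁ * m₂) := by
      haveI : NeZero ((m₁ * m₂ : ℕ) : AlgInt ⧸ M) :=
        ⟨fun h => hm ((CharP.cast_eq_zero_iff (AlgInt ⧸ M) p _).1 h)⟩
      rw [← Polynomial.isRoot_cyclotomic_iff, ← Polynomial.map_cyclotomic (m₁ * m₂) (Ideal.Quotient.mk M)]
      exact (hζ.isRoot_cyclotomic hm0).map
    have he : Ideal.Quotient.mk M ζ ^ i = Ideal.Quotient.mk M ζ ^ j := by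
      rw [← map_pow, ← map_pow, Ideal.Quotient.eq]
      exact hd
    rw [hζ'.pow_inj hi hj he]
  · intro a ha
    obtain ⟨f, hf, hfa⟩ := (integralClosure.AlgebraIsIntegral (R := ℤ) (A := ℂ)).isIntegral a
    let r := Ideal.Quotient.mk M a
    have hr : r ≠ 0 := fun h => ha (Ideal.Quotient.eq_zero_iff_mem.1 h)
    letI : Algebra (ZMod p) (AlgInt ⧸ M) := ZMod.algebra _ p
    have hint : IsIntegral (ZMod p) r := by
      refine ⟨f.map (Int.castRingHom (ZMod p)), hf.map _, ?_⟩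
      rw [Polynomial.eval₂_map]
      have h := congrArg (Ideal.Quotient.mk M) hfa
      rw [Polynomial.hom_eval₂, map_zero] at h
      rw [RingHom.ext_int ((algebraMap (ZMod p) (AlgInt ⧸ M)).comp (Int.castRingHom (ZMod p)))
        ((Ideal.Quotient.mk M).comp (algebraMap ℤ AlgInt))]
      exact h
    haveI hFD : FiniteDimensional (ZMod p) (IntermediateField.adjoin (ZMod p) {r}) :=
      IntermediateField.adjoin.finiteDimensional hint
    haveI : Finite (IntermediateField.adjoin (ZMod p) {r}) := Module.finite_of_finite (ZMod p)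
    letI := Fintype.ofFinite (IntermediateField.adjoin (ZMod p) {r})
    let m := Fintype.card (IntermediateField.adjoin (ZMod p) {r}) - 1
    have hrm : r ^ m = 1 := by
      have h := FiniteField.pow_card_sub_one_eq_one
        (⟨r, IntermediateField.mem_adjoin_simple_self _ r⟩ : IntermediateField.adjoin (ZMod p) {r})
        (fun h => hr (congrArg Subtype.val h))
      have h' := congrArg Subtype.val h
      push_cast at h'
      exact h'
    have hcard := FiniteField.card (IntermediateField.adjoin (ZMod p) {r}) p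
    obtain ⟨k, -, hk⟩ := hcard
    have hm : ¬ p ∣ m := by
      intro h
      have h1 : 1 ≤ p ^ (k : ℕ) := Nat.one_le_pow _ _ (Fact.out : p.Prime).pos
      have h2 : p ∣ p ^ (k : ℕ) := dvd_pow_self p k.pos.ne'
      simp only [m, hk] at h
      have := Nat.dvd_sub h2 h
      rw [Nat.sub_sub_self h1] at this
      exact (Fact.out : p.Prime).not_dvd_one this
    obtain ⟨ζ, hζ⟩ := key m hm
    have hm0 : 0 < m := Nat.pos_of_ne_zero (fun h => hm (h ▸ dvd_zero p))
    have hprod := Polynomial.X_pow_sub_one_eq_prod hm0 hζ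
    have h := congrArg (Polynomial.eval₂ (Ideal.Quotient.mk M) r) hprod
    rw [Polynomial.eval₂_sub, Polynomial.eval₂_X_pow, Polynomial.eval₂_one, hrm, sub_self,
      Polynomial.eval₂_finsetProd] at h
    obtain ⟨ε, hε, hε0⟩ := Finset.prod_eq_zero_iff.1 h.symm
    rw [Polynomial.eval₂_sub, Polynomial.eval₂_X, Polynomial.eval₂_C, sub_eq_zero] at hε0
    refine ⟨ε, ⟨m, hm, ?_⟩, Ideal.Quotient.eq.1 hε0⟩
    have := (Polynomial.mem_nthRootsFinset hm0 1).1 hε
    have := congrArg Subtype.val this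
    push_cast at this
    exact this

end Cfsg.Agent.S0901
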