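import Cfsg.Statements.S0902
import Cfsg.Agent.Blk.Regular

set_option autoImplicit false
open Cfsg

namespace Cfsg.Agent.S0902

open CfsgLib.Char

/-- If two irreducible characters of a finite group lie in the same block relative to one maximal ideal M of the algebraic integers containing the prime p, then at every element the difference of their central characters is an algebraic integer lying in every maximal ideal containing p; in particular they lie in the same block relative to any such ideal. -/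
theorem result {G : Type*} [Group G] [Finite G] (p : ℕ) [Fact p.Prime] (M : Ideal Cfsg.AlgInt) (hM : Cfsg.IsPModular p M) (χ ψ : Cfsg.IrrCharacter G) (h : Cfsg.SameBlock M (χ : G → ℂ) (ψ : G → ℂ)) (M' : Ideal Cfsg.AlgInt) (hM' : Cfsg.IsPModular p M') (g : G) : ∃ r : Cfsg.AlgInt, r ∈ M' ∧ (r : ℂ) = Cfsg.centralChar (χ : G → ℂ) g - Cfsg.centralChar (ψ : G → ℂ) g := by
  haveI := CfsgLib.Blk.IsPModular.isPrime hM
  classical
  haveI := Fintype.ofFinite G
  haveI := CfsgLib.Blk.IsPModular.isPrime hM'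
  have hA : ∀ η ∈ blockOf M' (χ : G → ℂ), ∀ θ ∉ blockOf M' (χ : G → ℂ),
      ∑ x : G, (if ¬ p ∣ orderOf x then (η : G → ℂ) x * (starRingEnd ℂ) ((θ : G → ℂ) x) else 0) = 0 :=
    fun η hη θ hθ => CfsgLib.Blk.regular_orth hM' fun hs =>
      hθ (CfsgLib.Blk.sameBlock_trans hη hs)
  have hψ : SameBlock M' (χ : G → ℂ) (ψ : G → ℂ) :=
    CfsgLib.Blk.blockOf_subset_of_regular_orth hM hA (CfsgLib.Blk.sameBlock_refl _) h
  have hmem : centralChar (χ : G → ℂ) g - centralChar (ψ : G → ℂ) g ∈ AlgInt :=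
    sub_mem (CfsgLib.Char.centralChar_mem_algInt χ.2 g) (CfsgLib.Char.centralChar_mem_algInt ψ.2 g)
  exact ⟨⟨_, hmem⟩, (CfsgLib.Blk.memLocalIdeal_algInt (a := ⟨_, hmem⟩)).1 (hψ g), rfl⟩

end Cfsg.Agent.S0902
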