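import Cfsg.Statements.S0903
import Mathlib.GroupTheory.PGroup
import Mathlib.Algebra.Group.End
import Mathlib.GroupTheory.GroupAction.ConjAct

set_option autoImplicit false
open Cfsg

namespace Cfsg.Agent.S0903

/-- Let P be a p-subgroup of the finite group G, let c centralize P and let g, h ∈ G. The number of pairs (x, y) with x conjugate to g, y conjugate to h and x * y = c is congruent modulo p to the number of such pairs in which x and y both centralize P. (This is why the Brauer map on class sums is multiplicative.) -/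
theorem result {G : Type*} [Group G] [Finite G] (p : ℕ) [Fact p.Prime] (P : Subgroup G) (hP : IsPGroup p P) (c : G) (hc : c ∈ Subgroup.centralizer (P : Set G)) (g h : G) : Nat.card {xy : G × G // IsConj g xy.1 ∧ IsConj h xy.2 ∧ xy.1 * xy.2 = c} ≡ Nat.card {xy : G × G // IsConj g xy.1 ∧ IsConj h xy.2 ∧ xy.1 * xy.2 = c ∧ xy.1 ∈ Subgroup.centralizer (P : Set G) ∧ xy.2 ∈ Subgroup.centralizer (P : Set G)} [MOD p] := by
  classical
  set X := {xy : G × G // IsConj g xy.1 ∧ IsConj h xy.2 ∧ xy.1 * xy.2 = c} with hX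
  have hcq : ∀ q : ↥P, (q : G) * c * (q : G)⁻¹ = c := fun q => by
    rw [Subgroup.mem_centralizer_iff.mp hc q q.2, mul_inv_cancel_right]
  letI : MulAction ↥P X :=
    { smul := fun q xy => ⟨((q : G) * xy.1.1 * (q : G)⁻¹, (q : G) * xy.1.2 * (q : G)⁻¹),
        xy.2.1.trans (isConj_iff.mpr ⟨q, rfl⟩), xy.2.2.1.trans (isConj_iff.mpr ⟨q, rfl⟩), by
          calc (q : G) * xy.1.1 * (q : G)⁻¹ * ((q : G) * xy.1.2 * (q : G)⁻¹)
              = (q : G) * (xy.1.1 * xy.1.2) * (q : G)⁻¹ := by group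
            _ = c := by rw [xy.2.2.2, hcq q]⟩
      one_smul := fun xy => Subtype.ext (Prod.ext
        (show ((1 : ↥P) : G) * xy.1.1 * ((1 : ↥P) : G)⁻¹ = xy.1.1 by simp)
        (show ((1 : ↥P) : G) * xy.1.2 * ((1 : ↥P) : G)⁻¹ = xy.1.2 by simp))
      mul_smul := fun a b xy => Subtype.ext (Prod.ext
        (show ((a * b : ↥P) : G) * xy.1.1 * ((a * b : ↥P) : G)⁻¹ =
          (a : G) * ((b : G) * xy.1.1 * (b : G)⁻¹) * (a : G)⁻¹ by simp [mul_assoc])
        (show ((a * b : ↥P) : G) * xy.1.2 * ((a * b : ↥P) : G)⁻¹ =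
          (a : G) * ((b : G) * xy.1.2 * (b : G)⁻¹) * (a : G)⁻¹ by simp [mul_assoc])) }
  refine (hP.card_modEq_card_fixedPoints X).trans (congrArg (fun k : ℕ => k % p) ?_)
  refine Nat.card_congr
    { toFun := fun xy => ⟨xy.1.1, xy.1.2.1, xy.1.2.2.1, xy.1.2.2.2, ?_, ?_⟩
      invFun := fun xy => ⟨⟨xy.1, xy.2.1, xy.2.2.1, xy.2.2.2.1⟩, ?_⟩
      left_inv := fun xy => rfl
      right_inv := fun xy => rfl }
  · refine Subgroup.mem_centralizer_iff.mpr fun q hq => ?_
    have h1 : q * xy.1.1.1 * q⁻¹ = xy.1.1.1 := congrArg (fun z : X => z.1.1) (xy.2 ⟨q, hq⟩)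
    exact mul_inv_eq_iff_eq_mul.mp h1
  · refine Subgroup.mem_centralizer_iff.mpr fun q hq => ?_
    have h1 : q * xy.1.1.2 * q⁻¹ = xy.1.1.2 := congrArg (fun z : X => z.1.2) (xy.2 ⟨q, hq⟩)
    exact mul_inv_eq_iff_eq_mul.mp h1
  · intro q
    refine Subtype.ext (Prod.ext ?_ ?_)
    · show (q : G) * xy.1.1 * (q : G)⁻¹ = xy.1.1
      rw [Subgroup.mem_centralizer_iff.mp xy.2.2.2.2.1 q q.2, mul_inv_cancel_right]
    · show (q : G) * xy.1.2 * (q : G)⁻¹ = xy.1.2
      rw [Subgroup.mem_centralizer_iff.mp xy.2.2.2.2.2 q q.2, mul_inv_cancel_right]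

end Cfsg.Agent.S0903
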