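import Cfsg.Statements.S0904
import Mathlib
import Cfsg.Agent.Blk.Defect
import Cfsg.Agent.Blk.Principal
import Cfsg.Agent.Char.Burnside
import Cfsg.Agent.S0165
-- import your own Cfsg.Agent.* helpers here

set_option autoImplicit false
open Cfsg

namespace Cfsg.Agent.S0904

open CfsgLib.Blk CfsgLib.Char
open scoped ComplexConjugate

theorem scalar_false {G : Type*} [Group G] [Finite G] [IsSimpleGroup G] (hG : ¬ (Nat.card G).Prime)
    {χ : G → ℂ} (hχ : IsIrrCharacter G χ) (h1 : χ ≠ fun _ => 1) {g : G} (hg : g ≠ 1)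
    (hnorm : ‖χ g‖ = (charDegree χ : ℝ)) : False := by
  obtain ⟨n, ρ, hirr, rfl⟩ := hχ
  have hf : Function.Injective ρ := by
    let f : G →* (Module.End ℂ (Fin n → ℂ))ˣ := ρ.toHomUnits
    have hval : ∀ x, (f x : Module.End ℂ (Fin n → ℂ)) = ρ x := fun x => rfl
    rcases f.normal_ker.eq_bot_or_eq_top with hb | ht
    · intro a b hab
      exact (MonoidHom.ker_eq_bot_iff f).mp hb (Units.ext (by rw [hval, hval, hab]))
    · exfalso
      have hone : ∀ x, ρ x = 1 := fun x => by
        have hx : f x = 1 := MonoidHom.mem_ker.mp (ht ▸ Subgroup.mem_top x)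
        rw [← hval, hx]; rfl
      have hirr' : IsIrrCharacter G ρ.character := ⟨n, ρ, hirr, rfl⟩
      have hconst : ρ.character = (n : ℂ) • (fun _ => (1 : ℂ)) := by
        ext x
        simp [Representation.character, hone x]
      haveI := Fintype.ofFinite G
      have := irr_inner_ne hirr' isIrr_one h1
      rw [hconst, classInner_smul_left, classInner_one_one, mul_one] at this
      exact irr_one_ne_zero hirr' (by rw [hconst]; simp [this])
  rw [charDegree_eq (n := Module.finrank ℂ (Fin n → ℂ)) (Representation.char_one ρ)] at hnorm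
  obtain ⟨w, hw⟩ := rep_scalar_of_norm ρ g hnorm
  have hc := central_of_scalar_faithful hf hw
  rcases (Subgroup.center G).normal_of_characteristic.eq_bot_or_eq_top with h | h
  · exact hg (by rwa [h, Subgroup.mem_bot] at hc)
  · haveI : IsMulCommutative G := ⟨⟨fun a b => by
      have hb : b ∈ Subgroup.center G := by rw [h]; trivial
      exact Subgroup.mem_center_iff.mp hb a⟩⟩
    exact hG (Group.is_simple_iff_prime_card.mp inferInstance)

/-- No element of order divisible by `p` and `r` in a simple group of order `p ^ a * q ^ b * r`. -/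
theorem no_mixed {G : Type*} [Group G] [Finite G] [IsSimpleGroup G] (p q r a b : ℕ) (hp : p.Prime) (hq : q.Prime)
    (hr : r.Prime) (hpq : p ≠ q) (hpr : p ≠ r) (hqr : q ≠ r) (hcard : Nat.card G = p ^ a * q ^ b * r) (z : G)
    (hzp : p ∣ orderOf z) (hzr : r ∣ orderOf z) : False := by
  classical
  haveI := Fact.mk hp
  haveI := Fintype.ofFinite G
  have hnp : ¬ (Nat.card G).Prime := by
    intro h
    have h1 : p ∣ Nat.card G := hzp.trans (orderOf_dvd_natCard z)
    have h2 : r ∣ Nat.card G := hzr.trans (orderOf_dvd_natCard z)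
    exact hpr (((Nat.prime_dvd_prime_iff_eq hp h).1 h1).trans ((Nat.prime_dvd_prime_iff_eq hr h).1 h2).symm)
  obtain ⟨M, hM⟩ := exists_isPModular hp
  haveI := hM.2.1.isPrime
  have h0 := blockCoeff_eq_zero_of_singular hM (isPBlock_principalBlock (M := M) (G := G)) hzp
  set B := Finset.univ.filter (fun χ : IrrCharacter G => χ ∈ principalBlock M G) with hB
  have hsum : ∑ χ ∈ B, (χ : G → ℂ) 1 * conj ((χ : G → ℂ) z) = 0 := by
    rw [Cfsg.blockCoeff, mul_eq_zero, inv_eq_zero, Nat.cast_eq_zero] at h0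
    rw [← h0.resolve_left Nat.card_pos.ne']
    exact (finsum_mem_eq_sum_of_inter_support_eq _ (by ext; simp [hB])).symm
  let one' : IrrCharacter G := ⟨fun _ => 1, isIrr_one⟩
  have hone : one' ∈ B := by simp [hB, one', one_mem_principalBlock]
  rw [← Finset.add_sum_erase B _ hone] at hsum
  obtain ⟨χ, hχB, hχ1, hχz, hqχ⟩ : ∃ χ : IrrCharacter G, χ ∈ B ∧ χ ≠ one' ∧ (χ : G → ℂ) z ≠ 0 ∧
      ¬ q ∣ charDegree (χ : G → ℂ) := by
    by_contra hc
    push Not at hc
    have hdiv : IsIntegral ℤ ((1 : ℂ) / (q : ℂ)) := by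
      have hq0 : (q : ℂ) ≠ 0 := by exact_mod_cast hq.ne_zero
      have h3 : (∑ χ ∈ B.erase one', (χ : G → ℂ) 1 * conj ((χ : G → ℂ) z)) =
          (q : ℂ) * ∑ χ ∈ B.erase one',
            conj ((χ : G → ℂ) z) * ((charDegree (χ : G → ℂ) / q : ℕ) : ℂ) := by
        rw [Finset.mul_sum]
        refine Finset.sum_congr rfl fun χ hχ => ?_
        rw [irr_one_eq χ.2]
        by_cases h0 : (χ : G → ℂ) z = 0
        · simp [h0]
        obtain ⟨t, ht⟩ := hc χ (Finset.mem_of_mem_erase hχ) (Finset.ne_of_mem_erase hχ) h0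
        rw [ht, Nat.mul_div_cancel_left _ hq.pos]; push_cast; ring
      have h2 : (1 : ℂ) / (q : ℂ) = -∑ χ ∈ B.erase one',
          conj ((χ : G → ℂ) z) * ((charDegree (χ : G → ℂ) / q : ℕ) : ℂ) := by
        rw [h3] at hsum
        simp only [one', map_one, mul_one] at hsum
        field_simp
        linear_combination hsum
      rw [h2]
      refine (IsIntegral.sum _ fun χ _ => IsIntegral.mul ?_ (isIntegral_natCast _)).neg
      exact (char_isIntegral (isCharacter_of_isIrr χ.2) z).map (Complex.conjAe.toAlgHom.restrictScalars ℤ)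
    exact hq.not_dvd_one (dvd_of_isIntegral_div hq.ne_zero (a := 1) (by simpa using hdiv))
  -- its degree is a power of `p`
  have hdr : ¬ r ∣ charDegree (χ : G → ℂ) := by
    intro hd
    obtain ⟨n, ρ, hirr, hρ⟩ := χ.2
    haveI := hirr
    apply hχz
    rw [← hρ]
    refine Cfsg.Agent.S0165.result ρ r 1 hr (by rw [pow_one, hcard]; exact dvd_mul_left r _) ?_ ?_ z hzr
    · rw [hcard, pow_succ, pow_one]
      intro h
      rcases hr.dvd_mul.1 (Nat.dvd_of_mul_dvd_mul_right hr.pos h) with h | h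
      · exact hpr ((Nat.prime_dvd_prime_iff_eq hr hp).1 (hr.dvd_of_dvd_pow h)).symm
      · exact hqr ((Nat.prime_dvd_prime_iff_eq hr hq).1 (hr.dvd_of_dvd_pow h)).symm
    · rw [pow_one, ← charDegree_eq (n := Module.finrank ℂ (Fin n → ℂ)) (Representation.char_one ρ)]
      rw [hρ]; exact hd
  have hdp : charDegree (χ : G → ℂ) ∣ p ^ a := by
    have hd := degree_dvd_card χ.2
    rw [hcard] at hd
    exact (((hq.coprime_iff_not_dvd.2 hqχ).pow_left b).symm).dvd_of_dvd_mul_right
      ((hr.coprime_iff_not_dvd.2 hdr).symm.dvd_of_dvd_mul_right hd)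
  -- a central element of a Sylow subgroup
  obtain ⟨P⟩ : Nonempty (Sylow p G) := inferInstance
  haveI : Nontrivial (P : Subgroup G) :=
    (Subgroup.nontrivial_iff_ne_bot _).mpr (Sylow.ne_bot_of_dvd_card P (hzp.trans (orderOf_dvd_natCard z)))
  haveI := P.isPGroup'.center_nontrivial
  obtain ⟨⟨u, hu⟩, hu1⟩ := exists_ne (1 : Subgroup.center (P : Subgroup G))
  have hune : (u : G) ≠ 1 := fun e => hu1 (Subtype.ext (Subtype.ext e))
  have hle : (P : Subgroup G) ≤ Subgroup.centralizer ({(u : G)} : Set G) := fun x hx =>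
    mem_centralizer_singleton.mpr (congrArg Subtype.val (Subgroup.mem_center_iff.mp hu ⟨x, hx⟩))
  have hidx : ¬ p ∣ (Subgroup.centralizer ({(u : G)} : Set G)).index := fun h =>
    P.not_dvd_index (h.trans (Subgroup.index_dvd_of_le hle))
  have hcop : Nat.Coprime (charDegree (χ : G → ℂ)) (Subgroup.centralizer ({(u : G)} : Set G)).index :=
    ((hp.coprime_iff_not_dvd.2 hidx).pow_left a).coprime_dvd_left hdp
  rcases burnside_zero_or_norm χ.2 (u : G) hcop with h | h
  · apply hidx
    have hmem : χ ∈ principalBlock M G := (Finset.mem_filter.1 hχB).2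
    have h2 : MemLocalIdeal M (Cfsg.centralChar (fun _ : G => (1 : ℂ)) (u : G) - Cfsg.centralChar (χ : G → ℂ) (u : G)) :=
      hmem (u : G)
    simp only [Cfsg.centralChar, h, mul_one, div_one, mul_zero, zero_div, sub_zero] at h2
    exact (natCast_memLocalIdeal_iff hM _).1 h2
  · exact scalar_false hnp χ.2 (fun e => hχ1 (Subtype.ext e)) hune h

end Cfsg.Agent.S0904

namespace Cfsg.Agent.S0904

/-- Let G be a finite simple group of order p ^ a * q ^ b * r with p, q, r distinct primes. Then every Sylow r-subgroup S of G satisfies C_G(S) = S. -/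
theorem result {G : Type*} [Group G] [Finite G] [IsSimpleGroup G] (p q r a b : ℕ) (hp : p.Prime) (hq : q.Prime) [Fact r.Prime] (hpq : p ≠ q) (hpr : p ≠ r) (hqr : q ≠ r) (hcard : Nat.card G = p ^ a * q ^ b * r) (S : Sylow r G) : Subgroup.centralizer (S : Set G) = (S : Subgroup G) := by
  classical
  have hr : r.Prime := Fact.out
  have hS : Nat.card (S : Subgroup G) = r := by
    rw [S.card_eq_multiplicity, hcard, Nat.factorization_mul (mul_ne_zero (pow_ne_zero _ hp.ne_zero)
      (pow_ne_zero _ hq.ne_zero)) hr.ne_zero, Finsupp.add_apply, hr.factorization_self,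
      Nat.factorization_eq_zero_of_not_dvd, zero_add, pow_one]
    intro h
    rcases hr.dvd_mul.1 h with h | h
    · exact hpr ((Nat.prime_dvd_prime_iff_eq hr hp).1 (hr.dvd_of_dvd_pow h)).symm
    · exact hqr ((Nat.prime_dvd_prime_iff_eq hr hq).1 (hr.dvd_of_dvd_pow h)).symm
  haveI : IsCyclic (S : Subgroup G) := isCyclic_of_prime_card hS
  have hle : (S : Subgroup G) ≤ Subgroup.centralizer (S : Set G) :=
    Subgroup.le_centralizer (H := (S : Subgroup G))
  refine le_antisymm ?_ hle
  by_contra hnle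
  set C := Subgroup.centralizer (S : Set G) with hC
  -- a prime other than `r` divides the centralizer
  have hlt : (S : Subgroup G) < C := lt_of_le_not_ge hle hnle
  obtain ⟨l, hl⟩ := Subgroup.card_dvd_of_le hle
  rw [hS] at hl
  have hl1 : l ≠ 1 := by
    rintro rfl
    exact hnle (Subgroup.eq_of_le_of_card_ge hle (by rw [hl, hS, mul_one])).ge
  obtain ⟨s, hs, hsl⟩ := Nat.exists_prime_and_dvd hl1
  have hsC : s ∣ Nat.card C := hl ▸ dvd_mul_of_dvd_right hsl r
  have hsr : s ≠ r := by
    rintro rfl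
    have h2 : s * s ∣ Nat.card G := (hl ▸ mul_dvd_mul_left s hsl : s * s ∣ Nat.card C).trans C.card_subgroup_dvd_card
    rw [hcard] at h2
    rcases hs.dvd_mul.1 (Nat.dvd_of_mul_dvd_mul_right hs.pos h2) with h | h
    · exact hpr ((Nat.prime_dvd_prime_iff_eq hs hp).1 (hs.dvd_of_dvd_pow h)).symm
    · exact hqr ((Nat.prime_dvd_prime_iff_eq hs hq).1 (hs.dvd_of_dvd_pow h)).symm
  haveI := Fact.mk hs
  obtain ⟨y, hy⟩ := exists_prime_orderOf_dvd_card' (G := C) s hsC
  obtain ⟨x, hx⟩ := exists_prime_orderOf_dvd_card' (G := (S : Subgroup G)) r (dvd_of_eq hS.symm)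
  have hxy : Commute (x : G) (y : G) := Subgroup.mem_centralizer_iff.1 y.2 x x.2
  have hox : orderOf (x : G) = r := (Subgroup.orderOf_coe x).trans hx
  have hoy : orderOf (y : G) = s := (Subgroup.orderOf_coe y).trans hy
  have hord : orderOf ((x : G) * y) = r * s := by
    rw [hxy.orderOf_mul_eq_mul_orderOf_of_coprime (by rw [hox, hoy]; exact (Nat.coprime_primes hr hs).2 hsr.symm),
      hox, hoy]
  have hsG : s ∣ p ^ a * q ^ b * r := hcard ▸ hsC.trans C.card_subgroup_dvd_card
  have hspq : s = p ∨ s = q := by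
    rcases hs.dvd_mul.1 hsG with h | h
    · rcases hs.dvd_mul.1 h with h | h
      · exact Or.inl ((Nat.prime_dvd_prime_iff_eq hs hp).1 (hs.dvd_of_dvd_pow h))
      · exact Or.inr ((Nat.prime_dvd_prime_iff_eq hs hq).1 (hs.dvd_of_dvd_pow h))
    · exact absurd ((Nat.prime_dvd_prime_iff_eq hs hr).1 h) hsr
  rcases hspq with rfl | rfl
  · exact Cfsg.Agent.S0904.no_mixed s q r a b hp hq hr hpq hpr hqr hcard _ (hord ▸ dvd_mul_left s r) (hord ▸ dvd_mul_right r s)
  · exact Cfsg.Agent.S0904.no_mixed s p r b a hq hp hr hpq.symm hqr hpr (by rw [hcard, mul_comm (p ^ a)]) _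
      (hord ▸ dvd_mul_left s r) (hord ▸ dvd_mul_right r s)

end Cfsg.Agent.S0904
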