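import Cfsg.Statements.S0905
import Cfsg.Agent.Blk.MinMax
import Cfsg.Agent.Solv.Basic

set_option autoImplicit false
open Cfsg

namespace Cfsg.Agent.S0905

/-- Let F be a field of characteristic p and let g be an element of the finite group G no conjugate of which centralizes O_p(G). Then the class sum of g is a nilpotent element of the group algebra F[G]. -/
theorem result {G : Type*} [Group G] [Finite G] (p : ℕ) [Fact p.Prime] (F : Type*) [Field F] [CharP F p] (g : G) (hg : ∀ x : G, IsConj g x → x ∉ Subgroup.centralizer (Cfsg.pCore p G : Set G)) : IsNilpotent (∑ᶠ x ∈ ConjClasses.carrier (ConjClasses.mk g), MonoidAlgebra.single x (1 : F) : MonoidAlgebra F G) := by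
  classical
  haveI := Fintype.ofFinite G
  haveI := CfsgLib.Solv.pCore_normal G p
  have h1 : (∑ᶠ x ∈ ConjClasses.carrier (ConjClasses.mk g),
      MonoidAlgebra.single x (1 : F) : MonoidAlgebra F G) = CfsgLib.Blk.classSum F g := by
    rw [CfsgLib.Blk.finsum_mem_eq_sum_ite, CfsgLib.Blk.classSum, Finset.sum_filter]
    refine Finset.sum_congr (by ext; simp) fun x _ => ?_
    have : x ∈ ConjClasses.carrier (ConjClasses.mk g) ↔ IsConj g x := by
      rw [ConjClasses.mem_carrier_iff_mk_eq, ConjClasses.mk_eq_mk_iff_isConj]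
      exact ⟨IsConj.symm, IsConj.symm⟩
    by_cases hx : IsConj g x
    · rw [if_pos (this.2 hx), if_pos hx]
    · rw [if_neg (fun h => hx (this.1 h)), if_neg hx]
  rw [h1]
  exact CfsgLib.Blk.isNilpotent_of_brMap_eq_zero (p := p) (pCore p G)
    (CfsgLib.Solv.pCore_isPGroup G p)
    (fun y _ x => CfsgLib.Blk.isClassCoeff_classSum F g x y)
    (CfsgLib.Blk.brMap_classSum_eq_zero _ g hg)

end Cfsg.Agent.S0905
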