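import Cfsg.Statements.S0910
import Cfsg.Agent.Char.Codegree
import Cfsg.Agent.Char.Burnside
import Cfsg.Agent.Blk.Local

set_option autoImplicit false
set_option linter.style.haveILetI false
open Cfsg

namespace Cfsg.Agent.S0910

open CfsgLib.Char CfsgLib.Blk

/-- Let G be a non-abelian finite simple group and p a prime. If an irreducible character χ lies in the principal block (relative to a maximal ideal of the algebraic integers containing p) and χ 1 is a power of p, then χ is the principal character. -/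
theorem result {G : Type*} [Group G] [Finite G] (p : ℕ) [Fact p.Prime] (M : Ideal Cfsg.AlgInt) (hM : Cfsg.IsPModular p M) [IsSimpleGroup G] (hna : ∃ a b : G, a * b ≠ b * a) (χ : Cfsg.IrrCharacter G) (hχ : χ ∈ Cfsg.principalBlock M G) (k : ℕ) (hdeg : (χ : G → ℂ) 1 = (p : ℂ) ^ k) : (χ : G → ℂ) = fun _ => 1 := by
  classical
  haveI := Fintype.ofFinite G
  haveI : M.IsPrime := hM.2.1.isPrime
  have hp : p.Prime := Fact.out
  have hd : charDegree (χ : G → ℂ) = p ^ k := by
    have h1 := irr_one_eq χ.2
    rw [hdeg] at h1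
    exact_mod_cast h1.symm
  obtain ⟨K, hK, hmem, hdvdK, -, -⟩ := irr_kernel χ.2
  rcases hK.eq_bot_or_eq_top with hKb | hKt
  swap
  · rw [hKt, Subgroup.index_top, Nat.dvd_one] at hdvdK
    funext g
    rw [(hmem g).mp (hKt ▸ Subgroup.mem_top g), irr_one_eq χ.2, hdvdK, Nat.cast_one]
  exfalso
  have hfaith : ∀ g : G, (χ : G → ℂ) g = (χ : G → ℂ) 1 → g = 1 := fun g hg => by
    have := (hmem g).mpr hg
    rwa [hKb, Subgroup.mem_bot] at this
  obtain ⟨a, b, hab⟩ := hna
  rcases Nat.eq_zero_or_pos k with rfl | hkpos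
  · -- linear
    obtain ⟨L, hL⟩ := exists_hom_of_degree_one (isCharacter_of_isIrr χ.2)
      (by rw [irr_one_eq χ.2, hd, pow_zero, Nat.cast_one])
    have h1 : (χ : G → ℂ) (a * b * (b * a)⁻¹) = (χ : G → ℂ) 1 := by
      rw [hL]
      simp only
      congr 1
      simp [mul_comm (L a) (L b)]
    exact hab (mul_inv_eq_one.mp (hfaith _ h1))
  have hpG : p ∣ Nat.card G :=
    ((dvd_pow_self p hkpos.ne').trans hd.symm.dvd).trans (degree_dvd_card χ.2)
  obtain ⟨P⟩ : Nonempty (Sylow p G) := inferInstance
  have hP1 : (P : Subgroup G) ≠ ⊥ := P.ne_bot_of_dvd_card hpG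
  haveI : Nontrivial (P : Subgroup G) := (Subgroup.nontrivial_iff_ne_bot _).mpr hP1
  haveI := P.isPGroup'.center_nontrivial
  obtain ⟨⟨z, hz⟩, hz1⟩ := exists_ne (1 : Subgroup.center (P : Subgroup G))
  have hzG : (z : G) ≠ 1 := fun h => hz1 (Subtype.ext (Subtype.ext h))
  have hle : (P : Subgroup G) ≤ Subgroup.centralizer ({(z : G)} : Set G) := fun x hx => by
    rw [Subgroup.mem_centralizer_singleton_iff]
    have := congrArg Subtype.val (Subgroup.mem_center_iff.mp hz ⟨x, hx⟩)
    simpa using this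
  have hnd : ¬ p ∣ (Subgroup.centralizer ({(z : G)} : Set G)).index := fun h =>
    P.not_dvd_index (h.trans (Subgroup.index_dvd_of_le hle))
  have hcop : Nat.Coprime (charDegree (χ : G → ℂ))
      (Subgroup.centralizer ({(z : G)} : Set G)).index := by
    rw [hd]
    exact (hp.coprime_iff_not_dvd.mpr hnd).pow_left k
  rcases burnside_zero_or_norm χ.2 (z : G) hcop with h0 | hn
  · have h := hχ (z : G)
    rw [centralChar, centralChar, h0, mul_zero, zero_div, sub_zero, mul_one, div_one] at h
    exact hnd ((natCast_memLocalIdeal_iff hM _).mp h)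
  · obtain ⟨n, ρ, hρi, hρ⟩ := χ.2
    have hfin : (Module.finrank ℂ (Fin n → ℂ)) = charDegree (χ : G → ℂ) := by
      have h1 := irr_one_eq χ.2
      rw [← hρ, Representation.char_one] at h1
      rw [← hρ]
      exact_mod_cast h1
    obtain ⟨w, hw⟩ := rep_scalar_of_norm ρ (z : G) (by rw [hfin, hρ]; exact hn)
    have hinj : Function.Injective ρ := by
      intro x y hxy
      have h1 : ρ (x * y⁻¹) = 1 := by
        rw [map_mul, hxy, ← map_mul, mul_inv_cancel, map_one]
      refine mul_inv_eq_one.mp (hfaith _ ?_)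
      rw [← hρ]
      exact congrArg (LinearMap.trace ℂ (Fin n → ℂ)) (h1.trans (map_one ρ).symm)
    have hc := central_of_scalar_faithful hinj hw
    rcases (Subgroup.center G).normal_of_characteristic.eq_bot_or_eq_top with h | h
    · exact hzG (by rwa [h, Subgroup.mem_bot] at hc)
    · exact hab (Subgroup.mem_center_iff.mp (h ▸ Subgroup.mem_top b) a)

end Cfsg.Agent.S0910
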