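import Cfsg.Statements.S0915
import Cfsg.Agent.Blk.NormalP
import Cfsg.Agent.Perm.HallHigman
import Cfsg.Agent.Solv.Basic

set_option autoImplicit false
open Cfsg

namespace Cfsg.Agent.S0915

open CfsgLib.Char CfsgLib.Blk

/-- Let G be a finite p-solvable group with trivial largest normal subgroup of order prime to p. Then any two irreducible characters of G lie in the same block relative to every maximal ideal M of the algebraic integers containing p: G has a single p-block. -/
theorem result {G : Type*} [Group G] [Finite G] (p : ℕ) [Fact p.Prime] (M : Ideal Cfsg.AlgInt) (hM : Cfsg.IsPModular p M) (hsolv : Cfsg.IsPSolvable p G) (hcore : Cfsg.pPrimeCore p G = ⊥) (χ ψ : Cfsg.IrrCharacter G) : Cfsg.SameBlock M (χ : G → ℂ) (ψ : G → ℂ) := by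
  classical
  haveI := Fintype.ofFinite G
  haveI : M.IsPrime := hM.2.1.isPrime
  have hp : p.Prime := Fact.out
  set Q := pCore p G
  haveI hQn : Q.Normal := CfsgLib.Solv.pCore_normal G p
  have hQp : IsPGroup p Q := CfsgLib.Solv.pCore_isPGroup G p
  have hHH : Subgroup.centralizer (Q : Set G) ≤ Q :=
    CfsgLib.Perm.centralizer_pCore_le_of_pSolvable hsolv hcore
  haveI := Fintype.ofFinite (G ⧸ Q)
  have key : ∀ (φ : IrrCharacter G) (g : G), ¬ p ∣ orderOf g →
      red M (centralChar (φ : G → ℂ) g) = if g = 1 then 1 else 0 := by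
    intro φ g hg
    split_ifs with hg1
    · rw [hg1, centralChar_one (irr_one_ne_zero φ.2), red_one]
    rw [red_eq_zero_iff (centralChar_mem φ.2 g)]
    obtain ⟨θ, hθ, htriv⟩ := exists_trivial_on hM (blockOf_isPBlock φ) Q hQp
    obtain ⟨θ', hθ', he⟩ := irr_descend (QuotientGroup.mk' Q) (QuotientGroup.mk'_surjective Q) θ.2
      (fun k hk => htriv k ((QuotientGroup.eq_one_iff k).1 hk))
    set T := (Subgroup.centralizer ({(g : G ⧸ Q)} : Set (G ⧸ Q))).comap (QuotientGroup.mk' Q)
    set C := Subgroup.centralizer ({g} : Set G) with hC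
    have hQT : Q ≤ T := fun x hx => by
      rw [Subgroup.mem_comap, Subgroup.mem_centralizer_singleton_iff,
        show QuotientGroup.mk' Q x = 1 from (QuotientGroup.eq_one_iff x).2 hx, one_mul, mul_one]
    have hCT : C ≤ T := fun x hx => by
      rw [hC, Subgroup.mem_centralizer_singleton_iff] at hx
      rw [Subgroup.mem_comap, Subgroup.mem_centralizer_singleton_iff, QuotientGroup.mk'_apply,
        ← QuotientGroup.mk_mul, ← QuotientGroup.mk_mul, hx]
    have hidx : C.index = C.relIndex T *
        (Subgroup.centralizer ({(g : G ⧸ Q)} : Set (G ⧸ Q))).index := by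
      rw [← Subgroup.index_comap_of_surjective _ (QuotientGroup.mk'_surjective Q),
        Subgroup.relIndex_mul_index hCT]
    have hgQ : ¬ g ∈ Subgroup.centralizer (Q : Set G) := fun h => by
      obtain ⟨j, hj⟩ := hQp.exists_orderOf_eq_pow (⟨g, hHH h⟩ : Q)
      rw [Subgroup.orderOf_mk] at hj
      rcases Nat.eq_zero_or_pos j with rfl | hj0
      · exact hg1 (orderOf_eq_one_iff.1 (by simpa using hj))
      · exact hg (hj ▸ dvd_pow_self p hj0.ne')
    have hdvd : p ∣ C.relIndex T := by
      refine dvd_trans ?_ (Dvd.intro _ (Subgroup.relIndex_mul_relIndex C (Q ⊔ C) T le_sup_right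
        (sup_le hQT hCT)))
      have e1 : Q.relIndex (Q ⊔ C) = Q.relIndex C := by rw [sup_comm, Subgroup.relIndex_sup_right]
      have e2 := Subgroup.relIndex_mul_relIndex ⊥ C (Q ⊔ C) bot_le le_sup_right
      have e3 := Subgroup.relIndex_mul_relIndex ⊥ Q (Q ⊔ C) bot_le le_sup_left
      have e4 := Subgroup.relIndex_mul_relIndex ⊥ (Q ⊓ C) C bot_le inf_le_right
      rw [Subgroup.inf_relIndex_right] at e4
      simp only [Subgroup.relIndex_bot_left] at e2 e3 e4
      rw [e1] at e3
      rw [← e3, ← e4, mul_right_comm] at e2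
      have e5 : Nat.card ↥(Q ⊓ C) * C.relIndex (Q ⊔ C) = Nat.card Q :=
        Nat.eq_of_mul_eq_mul_right (Nat.pos_of_ne_zero (fun h0 => by
          have := Nat.card_pos (α := C)
          rw [← e4, h0, mul_zero] at this
          exact lt_irrefl _ this)) e2
      obtain ⟨a, ha⟩ := IsPGroup.iff_card.1 hQp
      obtain ⟨i, -, hi⟩ := (Nat.dvd_prime_pow hp).1 (ha ▸ Dvd.intro_left _ e5 : C.relIndex (Q ⊔ C) ∣ p ^ a)
      rcases Nat.eq_zero_or_pos i with rfl | hi0
      · refine absurd (fun q hq => ?_) (show ¬ Q ≤ C from fun hle => hgQ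
          (Subgroup.mem_centralizer_iff.2 fun q hq => ?_))
        · exact (Subgroup.relIndex_eq_one.1 (by rw [hi, pow_zero] : C.relIndex (Q ⊔ C) = 1)) (Subgroup.mem_sup_left hq)
        · exact Subgroup.mem_centralizer_singleton_iff.1 (hle hq)
      · exact hi ▸ dvd_pow_self p hi0.ne'
    have hθM : MemLocalIdeal M (centralChar (θ : G → ℂ) g) := by
      have : centralChar (θ : G → ℂ) g = (C.relIndex T : ℂ) * centralChar θ' (g : G ⧸ Q) := by
        rw [centralChar, centralChar, ← hC, hidx, ← he]
        simp only [Function.comp_apply, QuotientGroup.mk'_apply, QuotientGroup.mk_one, Nat.cast_mul]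
        ring
      rw [this]
      exact memLocalIdeal_mul_right ((natCast_memLocalIdeal_iff hM _).2 hdvd) (centralChar_mem hθ' _)
    have h := hθ g
    simpa using memLocalIdeal_add h hθM
  exact sameBlock_of_regular hM fun g hg => by rw [key χ g hg, key ψ g hg]

end Cfsg.Agent.S0915
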