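import Cfsg.Statements.S0916
import Cfsg.Agent.Blk.SylowIn

set_option autoImplicit false
open Cfsg

namespace Cfsg.Agent.S0916

/-- Let P be a p-subgroup of the finite group G, C its centralizer and N its normalizer. Say that a conjugacy class (of G, or of N) has defect group P when P is a Sylow p-subgroup of the centralizer (in G, respectively in N) of some element of the class. Then: (i) if the class of g in G has defect group P, the elements of that class lying in C form a single N-class, again with defect group P; (ii) every N-class with defect group P arises this way from exactly one G-class with defect group P. -/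
theorem result {G : Type*} [Group G] [Finite G] (p : ℕ) [Fact p.Prime] (P : Subgroup G) (hP : IsPGroup p P) : (∀ g : G, (∃ S : Sylow p (Subgroup.centralizer ({g} : Set G)), (S : Subgroup (Subgroup.centralizer ({g} : Set G))).map (Subgroup.centralizer ({g} : Set G)).subtype = P) → (∃ c : G, IsConj g c ∧ c ∈ Subgroup.centralizer (P : Set G)) ∧ (∀ c₁ c₂ : G, IsConj g c₁ → IsConj g c₂ → c₁ ∈ Subgroup.centralizer (P : Set G) → c₂ ∈ Subgroup.centralizer (P : Set G) → ∃ n ∈ Subgroup.normalizer (P : Set G), n * c₁ * n⁻¹ = c₂)) ∧ (∀ c : G, c ∈ Subgroup.centralizer (P : Set G) → (∃ S : Sylow p (Subgroup.centralizer ({c} : Set G) ⊓ Subgroup.normalizer (P : Set G) : Subgroup G), (S : Subgroup ↥(Subgroup.centralizer ({c} : Set G) ⊓ Subgroup.normalizer (P : Set G))).map (Subgroup.centralizer ({c} : Set G) ⊓ Subgroup.normalizer (P : Set G)).subtype = P) → ∃ S : Sylow p (Subgroup.centralizer ({c} : Set G)), (S : Subgroup (Subgroup.centralizer ({c} : Set G))).map (Subgroup.centralizer ({c} : Set G)).subtype = P) := by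
  constructor
  · intro g hg
    rw [CfsgLib.Blk.exists_sylow_map_eq_iff] at hg
    refine ⟨⟨g, IsConj.refl g, ?_⟩, ?_⟩
    · rw [Subgroup.mem_centralizer_iff]
      intro x hx
      exact Subgroup.mem_centralizer_singleton_iff.1 (hg.1 hx)
    · intro c₁ c₂ h₁ h₂ hc₁ hc₂
      obtain ⟨x₁, rfl⟩ := isConj_iff.1 h₁
      obtain ⟨x₂, rfl⟩ := isConj_iff.1 h₂
      have key : ∀ x : G, x * g * x⁻¹ ∈ Subgroup.centralizer (P : Set G) →
          CfsgLib.Blk.IsSylowIn p P (Subgroup.centralizer ({x * g * x⁻¹} : Set G)) := by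
        intro x hx
        refine ⟨fun y hy => Subgroup.mem_centralizer_singleton_iff.2 (hx y hy), ?_⟩
        have := (hg.centralizer_conj x).2
        rwa [CfsgLib.Blk.card_map_conj] at this
      have h1 := (key x₁ hc₁).centralizer_conj (x₂ * x₁⁻¹)
      rw [show x₂ * x₁⁻¹ * (x₁ * g * x₁⁻¹) * (x₂ * x₁⁻¹)⁻¹ = x₂ * g * x₂⁻¹ by group] at h1
      obtain ⟨y, hy, hye⟩ := (key x₂ hc₂).exists_conj_eq h1
      refine ⟨y * (x₂ * x₁⁻¹), ?_, ?_⟩
      · rw [Subgroup.mem_normalizer_iff]
        intro z
        rw [Subgroup.map_map] at hye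
        have hz : y * (x₂ * x₁⁻¹) * z * (y * (x₂ * x₁⁻¹))⁻¹ ∈
            P.map ((MulAut.conj y).toMonoidHom.comp (MulAut.conj (x₂ * x₁⁻¹)).toMonoidHom) ↔
            z ∈ P := by
          constructor
          · rintro ⟨w, hw, he⟩
            have : w = z := by simpa [mul_assoc] using he
            exact this ▸ hw
          · intro hz; exact ⟨z, hz, by simp [mul_assoc]⟩
        rw [hye] at hz
        exact hz.symm
      · have hy' := Subgroup.mem_centralizer_singleton_iff.1 hy
        calc y * (x₂ * x₁⁻¹) * (x₁ * g * x₁⁻¹) * (y * (x₂ * x₁⁻¹))⁻¹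
            = y * (x₂ * g * x₂⁻¹) * y⁻¹ := by group
          _ = x₂ * g * x₂⁻¹ := by rw [hy']; group
  · intro c _ hc
    rw [CfsgLib.Blk.exists_sylow_map_eq_iff] at hc ⊢
    exact CfsgLib.Blk.isSylowIn_of_inf_normalizer hc

end Cfsg.Agent.S0916
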