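import Cfsg.Statements.S0918
import Cfsg.Agent.Blk.Induced

set_option autoImplicit false
open Cfsg

namespace Cfsg.Agent.S0918

/-- Let P be a p-subgroup of the finite group G and H a subgroup with P·C_G(P) ≤ H ≤ N_G(P); let b be a block of H and B a block of G relative to a maximal ideal M of the algebraic integers containing p. Then b induces B if and only if, for every g ∈ G, every ξ ∈ b and every χ ∈ B, the central character of χ at g is congruent modulo the local ideal at M to the sum of ξ h / ξ 1 over the elements h of H conjugate in G to g and centralizing P. -/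
theorem result {G : Type*} [Group G] [Finite G] (p : ℕ) [Fact p.Prime] (M : Ideal Cfsg.AlgInt) (hM : Cfsg.IsPModular p M) (P H : Subgroup G) (hP : IsPGroup p P) (hPH : P ≤ H) (hCH : Subgroup.centralizer (P : Set G) ≤ H) (hHN : H ≤ Subgroup.normalizer (P : Set G)) (b : Set (Cfsg.IrrCharacter H)) (hb : Cfsg.IsPBlock M b) (B : Set (Cfsg.IrrCharacter G)) (hB : Cfsg.IsPBlock M B) : Cfsg.IsInducedBlock M H b B ↔ ∀ ξ ∈ b, ∀ χ ∈ B, ∀ g : G, Cfsg.MemLocalIdeal M (Cfsg.brauerCentralChar P H (ξ : H → ℂ) g - Cfsg.centralChar (χ : G → ℂ) g) := by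
  haveI := CfsgLib.Blk.IsPModular.isPrime hM
  classical
  haveI := Fintype.ofFinite G
  haveI := Fintype.ofFinite H
  have key : ∀ ξ : IrrCharacter H, ∀ g : G,
      CfsgLib.Blk.omega (M := M) (ξ : H → ℂ) (CfsgLib.Blk.resA H (CfsgLib.Blk.brMap P
        (CfsgLib.Blk.classSum (CfsgLib.Blk.locRing M) g))) = brauerCentralChar P H (ξ : H → ℂ) g := by
    intro ξ g
    rw [CfsgLib.Blk.omega_resA, brauerCentralChar, CfsgLib.Blk.finsum_mem_eq_sum_ite,
      Finset.sum_div]
    refine Finset.sum_congr rfl fun h _ => ?_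
    rw [CfsgLib.Blk.coeff_brMap, CfsgLib.Blk.coeff_classSum]
    simp only [Set.mem_setOf_eq]
    by_cases h1 : IsConj g (h : G)
    · by_cases h2 : (h : G) ∈ Subgroup.centralizer (P : Set G)
      · rw [if_pos h2, if_pos h1, if_pos ⟨h1, h2⟩]; simp
      · rw [if_neg h2, if_neg fun hh => h2 hh.2]; simp
    · rw [if_neg h1, ite_self, if_neg fun hh => h1 hh.1]; simp
  have hcc : ∀ g : G, CfsgLib.Blk.IsClassCoeff (CfsgLib.Blk.classSum (CfsgLib.Blk.locRing M) g) :=
    fun g => CfsgLib.Blk.isClassCoeff_classSum _ g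
  have hmem : ∀ (ξ : IrrCharacter H) (g : G),
      brauerCentralChar P H (ξ : H → ℂ) g ∈ CfsgLib.Blk.locRing M := fun ξ g => by
    rw [← key]
    exact CfsgLib.Blk.omega_mem ξ.2 (CfsgLib.Blk.isClassCoeff_resA_brMap P H hHN (hcc g))
  have hred : ∀ (ξ : IrrCharacter H) (g : G),
      CfsgLib.Blk.red M (brauerCentralChar P H (ξ : H → ℂ) g) =
        CfsgLib.Blk.red M (inducedCentralChar H (ξ : H → ℂ) g) := fun ξ g => by
    rw [← key, ← CfsgLib.Blk.omega_resA_classSum (M := M)]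
    exact (CfsgLib.Blk.omegaBar_resA_brMap hM P H hP hPH hHN ξ.2 (hcc g)).symm
  have hiff : ∀ (ξ : IrrCharacter H) (χ : IrrCharacter G) (g : G),
      MemLocalIdeal M (brauerCentralChar P H (ξ : H → ℂ) g - centralChar (χ : G → ℂ) g) ↔
        MemLocalIdeal M (inducedCentralChar H (ξ : H → ℂ) g - centralChar (χ : G → ℂ) g) := by
    intro ξ χ g
    rw [← CfsgLib.Blk.red_eq_zero_iff (sub_mem (hmem ξ g) (CfsgLib.Blk.centralChar_mem χ.2 g)),
      ← CfsgLib.Blk.red_eq_zero_iff (sub_mem (CfsgLib.Blk.inducedCentralChar_mem H ξ.2 g)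
        (CfsgLib.Blk.centralChar_mem χ.2 g)),
      CfsgLib.Blk.red_sub (hmem ξ g) (CfsgLib.Blk.centralChar_mem χ.2 g),
      CfsgLib.Blk.red_sub (CfsgLib.Blk.inducedCentralChar_mem H ξ.2 g)
        (CfsgLib.Blk.centralChar_mem χ.2 g), hred]
  constructor
  · rintro ⟨-, -, h⟩ ξ hξ χ hχ g
    exact (hiff ξ χ g).2 (h ξ hξ χ hχ g)
  · intro h
    exact ⟨hb, hB, fun ξ hξ χ hχ g => (hiff ξ χ g).1 (h ξ hξ χ hχ g)⟩

end Cfsg.Agent.S0918
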