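import Cfsg.Statements.S0923
import Cfsg.Agent.Blk.SecondMain

set_option autoImplicit false
open Cfsg

namespace Cfsg.Agent.S0923

open CfsgLib.Char

/-- Brauer's Second Main Theorem, in terms of ordinary characters. Let x be a p-element of the finite group G with centralizer C, let χ lie in the block B of G and let b be a block of C that does not induce B (relative to a maximal ideal M of the algebraic integers containing p). Form the class function ϑ(c) = χ(x c) on C and its b-part (the sum over ψ ∈ b of the inner product of ϑ with ψ, times ψ). Then the b-part of ϑ vanishes at every p-regular element of C. (Equivalently, the generalized decomposition numbers of χ with respect to b are zero.) -/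
theorem result {G : Type*} [Group G] [Finite G] (p : ℕ) [Fact p.Prime] (M : Ideal Cfsg.AlgInt) (hM : Cfsg.IsPModular p M) (x : G) (hx : ∃ k : ℕ, orderOf x = p ^ k) (B : Set (Cfsg.IrrCharacter G)) (hB : Cfsg.IsPBlock M B) (χ : Cfsg.IrrCharacter G) (hχ : χ ∈ B) (b : Set (Cfsg.IrrCharacter (Subgroup.centralizer ({x} : Set G)))) (hb : Cfsg.IsPBlock M b) (hnot : ¬ Cfsg.IsInducedBlock M (Subgroup.centralizer ({x} : Set G)) b B) (y : Subgroup.centralizer ({x} : Set G)) (hy : ¬ p ∣ orderOf y) : Cfsg.blockPart b (fun c : Subgroup.centralizer ({x} : Set G) => (χ : G → ℂ) (x * (c : G))) y = 0 := by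
  haveI := CfsgLib.Blk.IsPModular.isPrime hM
  classical
  haveI := Fintype.ofFinite (Subgroup.centralizer ({x} : Set G))
  have hxy : Commute x (y : G) := (Subgroup.mem_centralizer_singleton_iff.1 y.2).symm
  have hxH : x ∈ Subgroup.centralizer ({x} : Set G) := Subgroup.mem_centralizer_singleton_iff.2 rfl
  have hf : IsClassFunction (Subgroup.centralizer ({x} : Set G))
      (fun c : Subgroup.centralizer ({x} : Set G) => (χ : G → ℂ) (x * (c : G))) := by
    intro g h
    have hh := Subgroup.mem_centralizer_singleton_iff.1 h.2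
    show (χ : G → ℂ) (x * ((h : G) * (g : G) * (h : G)⁻¹)) = (χ : G → ℂ) (x * (g : G))
    rw [← CfsgLib.Char.classFun_of_irr χ.2 (x * (g : G)) (h : G)]
    congr 1
    rw [← mul_assoc, ← mul_assoc, ← mul_assoc, ← hh]
  rw [CfsgLib.Blk.blockPart_eq_sum hM hb hf]
  have hyp : IsPPart p (x * (y : G)) x :=
    CfsgLib.Blk.isPPart_mul hx (by rwa [Subgroup.orderOf_coe]) hxy
  obtain ⟨B', hind⟩ := CfsgLib.Blk.inducedBlockDefined_centralizer hM hx hb
  rw [← CfsgLib.Blk.secondMain hM _ hind (mul_mem hxH y.2) hyp le_rfl
    (fun hχ' => hnot ((CfsgLib.Blk.eq_of_mem_of_mem hind.2.1 hB hχ' hχ) ▸ hind))]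
  refine Finset.sum_congr rfl fun k _ => ?_
  congr 2
  rw [Subgroup.coe_mul, ← mul_assoc, ← mul_assoc, Subgroup.mem_centralizer_singleton_iff.1 k.2]

end Cfsg.Agent.S0923
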