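import Cfsg.Statements.S0925
import Cfsg.Agent.Blk.Orth

set_option autoImplicit false
open Cfsg

namespace Cfsg.Agent.S0925

open CfsgLib.Char

/-- (i) Let ϑ be a class function on the finite group G and x a p-element, and suppose ϑ vanishes at every element whose p-part is conjugate to x. Then for every block B (relative to a maximal ideal M of the algebraic integers containing p) the B-part of ϑ — the sum over χ ∈ B of the inner product of ϑ with χ, times χ — also vanishes at every such element. (ii) Block orthogonality, its corollary: if the p-parts of g and h are not conjugate, then the sum over χ ∈ B of χ g * χ h⁻¹ is zero for every block B. -/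
theorem result {G : Type*} [Group G] [Finite G] (p : ℕ) [Fact p.Prime] (M : Ideal Cfsg.AlgInt) (hM : Cfsg.IsPModular p M) : (∀ (ϑ : G → ℂ), Cfsg.IsClassFunction G ϑ → ∀ x : G, (∃ k : ℕ, orderOf x = p ^ k) → (∀ u z : G, Cfsg.IsPPart p u z → IsConj x z → ϑ u = 0) → ∀ B : Set (Cfsg.IrrCharacter G), Cfsg.IsPBlock M B → ∀ u z : G, Cfsg.IsPPart p u z → IsConj x z → Cfsg.blockPart B ϑ u = 0) ∧ (∀ g h x y : G, Cfsg.IsPPart p g x → Cfsg.IsPPart p h y → ¬ IsConj x y → ∀ B : Set (Cfsg.IrrCharacter G), Cfsg.IsPBlock M B → ∑ᶠ χ ∈ B, (χ : G → ℂ) g * (χ : G → ℂ) h⁻¹ = 0) := by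
  haveI := CfsgLib.Blk.IsPModular.isPrime hM
  classical
  haveI := Fintype.ofFinite G
  refine ⟨fun ϑ _ x hx hϑ B hB u z hu hxz => ?_, fun g h x y hg hh hxy B hB => ?_⟩
  · have hp : p.Prime := Fact.out
    rw [blockPart]
    simp only [classInner]
    rw [CfsgLib.Blk.finsum_mem_eq_sum_ite]
    have e : ∀ χ : IrrCharacter G, (if χ ∈ B then ((Nat.card G : ℂ)⁻¹ *
        ∑ g : G, ϑ g * (starRingEnd ℂ) ((χ : G → ℂ) g)) * (χ : G → ℂ) u else 0) =
        ∑ g : G, (Nat.card G : ℂ)⁻¹ * ϑ g *
          (if χ ∈ B then (χ : G → ℂ) u * (starRingEnd ℂ) ((χ : G → ℂ) g) else 0) := by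
      intro χ
      split_ifs
      · rw [Finset.mul_sum, Finset.sum_mul]
        exact Finset.sum_congr rfl fun g _ => by ring
      · simp
    refine (Finset.sum_congr rfl fun χ _ => by convert e χ using 8).trans ?_
    rw [Finset.sum_comm]
    refine Finset.sum_eq_zero fun g _ => ?_
    rw [← Finset.mul_sum, ← CfsgLib.Blk.finsum_mem_eq_sum_ite]
    obtain ⟨z', hz'⟩ := CfsgLib.Blk.exists_isPPart hp g
    by_cases hzz : IsConj z z'
    · rw [hϑ g z' hz' (hxz.trans hzz), mul_zero, zero_mul]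
    · rw [CfsgLib.Blk.block_orth hM hB hu hz' hzz, mul_zero]
  · rw [← CfsgLib.Blk.block_orth hM hB hg hh hxy]
    refine finsum_congr fun χ => finsum_congr fun _ => ?_
    rw [CfsgLib.Char.char_conj_eq (CfsgLib.Char.isCharacter_of_isIrr χ.2)]

end Cfsg.Agent.S0925
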