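import Cfsg.Statements.S0926
import Cfsg.Agent.Blk.Defect

set_option autoImplicit false
open Cfsg

namespace Cfsg.Agent.S0926

/-- Let B be a block of the finite group G with defect group D (relative to a maximal ideal M of the algebraic integers containing p), let χ ∈ B have height zero, and let x be a p-element. Then some conjugate of x lies in D if and only if χ does not vanish on the whole p-section of x (the elements whose p-part is conjugate to x). -/
theorem result {G : Type*} [Group G] [Finite G] (p : ℕ) [Fact p.Prime] (M : Ideal Cfsg.AlgInt) (hM : Cfsg.IsPModular p M) (B : Set (Cfsg.IrrCharacter G)) (hB : Cfsg.IsPBlock M B) (D : Subgroup G) (hD : Cfsg.IsDefectGroup p M B D) (χ : Cfsg.IrrCharacter G) (hχ : χ ∈ B) (h0 : Cfsg.blockHeight p B (χ : G → ℂ) = 0) (x : G) (hx : ∃ k : ℕ, orderOf x = p ^ k) : (∃ g : G, g * x * g⁻¹ ∈ D) ↔ ∃ u : G, (∃ z : G, Cfsg.IsPPart p u z ∧ IsConj x z) ∧ (χ : G → ℂ) u ≠ 0 := by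
  haveI := CfsgLib.Blk.IsPModular.isPrime hM
  haveI := Fintype.ofFinite G
  have hp : p.Prime := Fact.out
  constructor
  · rintro ⟨g, hg⟩
    obtain ⟨g₀, hg₀, hs⟩ := CfsgLib.Blk.isDefectGroup_iff.1 hD
    have hc : Commute (g * x * g⁻¹) g₀ := Subgroup.mem_centralizer_singleton_iff.1 (hs.le hg)
    obtain ⟨k, hk⟩ := hx
    have hord : ∃ k, orderOf (g * x * g⁻¹) = p ^ k :=
      ⟨k, by rw [CfsgLib.Blk.isPPart_conj.orderOf_mulAut_conj, hk]⟩
    refine ⟨g * x * g⁻¹ * g₀, ⟨g * x * g⁻¹,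
      CfsgLib.Blk.isPPart_mul hord (CfsgLib.Blk.isDefectClass_regular hM hB hg₀) hc,
      isConj_iff.2 ⟨g, rfl⟩⟩, fun h => ?_⟩
    refine CfsgLib.Blk.defectClass_char_unit hM hB hg₀ hχ h0 ?_
    rw [← CfsgLib.Blk.red_eq_zero_iff (CfsgLib.Blk.irr_mem χ g₀),
      ← CfsgLib.Blk.red_char_eq hM (CfsgLib.Char.isCharacter_of_isIrr χ.2) rfl hc hord, h,
      CfsgLib.Blk.red_zero]
  · rintro ⟨u, ⟨z, hz, hxz⟩, hu⟩
    by_contra! hno
    refine hu (CfsgLib.Blk.char_eq_zero_of_notMem_defectGroup hM χ hz fun D' hD' hzD => ?_)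
    rw [← CfsgLib.Blk.eq_blockOf hB hχ] at hD'
    obtain ⟨y, hy⟩ := CfsgLib.Blk.isDefectGroup_conj_eq hM hB hD hD'
    obtain ⟨c, rfl⟩ := isConj_iff.1 hxz
    refine hno (y * c) ?_
    rw [← hy]
    exact ⟨c * x * c⁻¹, hzD, by simp [mul_assoc]⟩

end Cfsg.Agent.S0926
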