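import Cfsg.Statements.S0928
import Cfsg.Agent.Blk.Pair.FirstMain
import Cfsg.Agent.Blk.Pair.Maximal
import Cfsg.Agent.Blk.Criterion

set_option autoImplicit false
open Cfsg

namespace Cfsg.Agent.S0928

open CfsgLib.Char CfsgLib.Blk CfsgLib.Blk.Pair


/-- Let χ be an irreducible character of the finite group G and p a prime. If χ g = 0 for every element g of order p, then the exponent of p in the degree χ(1) equals the exponent of p in the order of G (χ has p-defect zero). -/
theorem result {G : Type*} [Group G] [Finite G] (p : ℕ) [Fact p.Prime] (χ : Cfsg.IrrCharacter G) (hvan : ∀ g : G, orderOf g = p → (χ : G → ℂ) g = 0) : (Cfsg.charDegree (χ : G → ℂ)).factorization p = (Nat.card G).factorization p := by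
  classical
  haveI := Fintype.ofFinite G
  have hp : p.Prime := Fact.out
  obtain ⟨M, hM⟩ := exists_isPModular (q := p) hp
  haveI := CfsgLib.Blk.IsPModular.isPrime hM
  haveI : CharP (Res M) p := charP_res hM
  have hB := blockOf_isPBlock (M := M) χ
  have hχ : χ ∈ blockOf M (χ : G → ℂ) := sameBlock_refl _
  obtain ⟨D, hD⟩ := exists_isDefectGroup hM hB
  have hDp := IsDefectGroup.isPGroup hD
  have hDbot : D = ⊥ := by
    by_contra hne
    obtain ⟨e, he⟩ := exists_maximal_of_defectGroup hM hB hD
    obtain ⟨ξ, hξ⟩ := isPBlock_nonempty he.1.1.2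
    -- a central element of order p
    haveI : Nontrivial D := D.nontrivial_iff_ne_bot.2 hne
    haveI := hDp.center_nontrivial
    obtain ⟨z, hz⟩ : ∃ z : Subgroup.center D, orderOf z = p := by
      refine exists_prime_orderOf_dvd_card' p ?_
      obtain ⟨k, hk⟩ := IsPGroup.iff_card.1 (hDp.to_subgroup (Subgroup.center D))
      rw [hk]
      refine dvd_pow_self p fun h0 => ?_
      rw [h0, pow_zero] at hk
      exact absurd hk (ne_of_gt Finite.one_lt_card)
    have hzo : orderOf ((z : D) : G) = p := by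
      rw [Subgroup.orderOf_coe, Subgroup.orderOf_coe, hz]
    have hzC : ((z : D) : G) ∈ Cn D := by
      rw [Subgroup.mem_centralizer_iff]
      intro d hd
      exact congrArg Subtype.val (Subgroup.mem_center_iff.1 z.2 ⟨d, hd⟩)
    let A : MonoidAlgebra (locRing M) G := MonoidAlgebra.ofCoeff (Finsupp.ofSupportFinite
      (fun g : G => if g ^ p = 1 then (1 : locRing M) else 0) (Set.toFinite _))
    have hAc : ∀ g, A.coeff g = if g ^ p = 1 then (1 : locRing M) else 0 := fun _ => rfl
    have hA : IsClassCoeff A := fun g h => by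
      rw [hAc, hAc]
      refine if_congr ?_ rfl rfl
      rw [conj_pow, conj_eq_one_iff]
    have hω : omega (χ : G → ℂ) A = 1 := by
      rw [omega_eq, Finset.sum_eq_single (1 : G)]
      · rw [hAc, if_pos (one_pow p), OneMemClass.coe_one, one_mul,
          div_self (irr_one_ne_zero χ.2)]
      · intro g _ hg
        rw [hAc]
        split_ifs with h
        · rw [hvan g (orderOf_eq_prime h hg), mul_zero]
        · simp
      · simp
    have h1 : lam (χ : G → ℂ) (redA A) = 1 := by
      rw [lam_redA χ.2 hA, omegaBar, hω, red_one]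
    rw [← val_eq_lam hM he.1 hξ hχ hA.redA, val] at h1
    refine one_ne_zero (α := Res M) (h1.symm.trans ?_)
    refine lam_eq_zero_of_isNilpotent ξ.2 (isClassCoeff_resA _ hA.redA) ⟨2, ?_⟩
    haveI := Fintype.ofFinite (Cn D)
    have hcoef : ∀ x : Cn D, (resA (Cn D) (redA A)).coeff x = if x ^ p = 1 then 1 else 0 := by
      intro x
      rw [coeff_resA, coeff_redA, hAc]
      simp only [← SubmonoidClass.coe_pow, OneMemClass.coe_eq_one]
      split_ifs <;> simp
    refine MonoidAlgebra.coeff_injective (Finsupp.ext fun g => ?_)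
    rw [sq, coeff_mul_sum, MonoidAlgebra.coeff_zero, Finsupp.zero_apply]
    simp only [hcoef]
    let w : Cn D := ⟨(z : D), hzC⟩
    have hw : ∀ y : Cn D, Commute w y := fun y =>
      Subtype.ext (Subgroup.mem_centralizer_iff.1 y.2 _ (z : D).2)
    have hwp : w ^ p = 1 := Subtype.ext (by
      show ((z : D) : G) ^ p = 1
      rw [← hzo]; exact pow_orderOf_eq_one _)
    have hQ : IsPGroup p (Subgroup.zpowers w) := IsPGroup.of_card (n := 1) (by
      rw [Nat.card_zpowers, ← Subgroup.orderOf_coe, pow_one]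
      exact hzo)
    have hinv : ∀ (q : Subgroup.zpowers w) (x : Cn D), ((q : Cn D) * x) ^ p = x ^ p := by
      rintro ⟨q, hq⟩ x
      obtain ⟨i, rfl⟩ := Subgroup.mem_zpowers_iff.1 hq
      rw [((hw x).zpow_left i).mul_pow, ← zpow_natCast (w ^ i), ← zpow_mul, mul_comm, zpow_mul,
        zpow_natCast, hwp, one_zpow, one_mul]
    rw [sum_eq_sum_fixedPoints hQ _ fun q x => ?_, Finset.sum_eq_zero]
    · intro x hx
      have h2 := (Finset.mem_filter.1 hx).2 ⟨w, Subgroup.mem_zpowers w⟩
      exfalso
      have h3 : w = 1 := mul_right_cancel (h2.trans (one_mul x).symm)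
      have h4 : orderOf w = p := by rw [← Subgroup.orderOf_coe]; exact hzo
      rw [h3, orderOf_one] at h4
      exact hp.ne_one h4.symm
    · show (if ((q : Cn D) * x) ^ p = 1 then (1 : Res M) else 0) *
        (if (((q : Cn D) * x)⁻¹ * g) ^ p = 1 then (1 : Res M) else 0) = _
      rw [hinv]
      congr 1
      refine if_congr ?_ rfl rfl
      have e : ((q : Cn D) * x)⁻¹ * g = ((q⁻¹ : Subgroup.zpowers w) : Cn D) * (x⁻¹ * g) := by
        obtain ⟨q, hq⟩ := q
        obtain ⟨i, rfl⟩ := Subgroup.mem_zpowers_iff.1 hq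
        show (w ^ i * x)⁻¹ * g = (w ^ i)⁻¹ * (x⁻¹ * g)
        rw [mul_inv_rev, ← ((hw x).zpow_left i).inv_inv.eq, mul_assoc]
      rw [e, hinv]
  have hd : Nat.card D = p ^ blockDefect p (blockOf M (χ : G → ℂ)) := card_defectGroup hM hB hD
  rw [hDbot, Subgroup.card_bot] at hd
  have h0 : blockDefect p (blockOf M (χ : G → ℂ)) = 0 := by
    by_contra h
    exact (Nat.one_lt_pow h hp.one_lt).ne hd
  rw [blockDefect, Nat.sub_eq_zero_iff_le] at h0
  refine le_antisymm ?_ (h0.trans (csInf_le (OrderBot.bddBelow _) ⟨χ, hχ, rfl⟩))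
  exact ((Nat.factorization_le_iff_dvd (charDegree_pos χ.2).ne' Nat.card_pos.ne').2
    (degree_dvd_card χ.2)) p

end Cfsg.Agent.S0928
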