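import Cfsg.Statements.S0930
import Cfsg.Agent.Blk.CentralUnit
import Cfsg.Agent.Blk.Bounds

set_option autoImplicit false
open Cfsg

namespace Cfsg.Agent.S0930

open CfsgLib.Blk

/-- Let H be a subgroup of the finite group G and fix a maximal ideal M of the algebraic integers containing the prime p. If the block b of H with defect group D induces the block B of G with defect group P, then every element of the centre of P is conjugate in G to an element of the centre of D. -/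
theorem result {G : Type*} [Group G] [Finite G] (p : ℕ) [Fact p.Prime] (M : Ideal Cfsg.AlgInt) (hM : Cfsg.IsPModular p M) (H : Subgroup G) (b : Set (Cfsg.IrrCharacter H)) (B : Set (Cfsg.IrrCharacter G)) (hind : Cfsg.IsInducedBlock M H b B) (D : Subgroup H) (hD : Cfsg.IsDefectGroup p M b D) (P : Subgroup G) (hP : Cfsg.IsDefectGroup p M B P) (x : G) (hx : x ∈ P) (hxc : ∀ w ∈ P, x * w = w * x) : ∃ g : G, g * x * g⁻¹ ∈ D.map H.subtype ∧ ∀ w ∈ D.map H.subtype, (g * x * g⁻¹) * w = w * (g * x * g⁻¹) := by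
  haveI := CfsgLib.Blk.IsPModular.isPrime hM
  haveI := Fintype.ofFinite G
  obtain ⟨y, hy, hs⟩ := isDefectGroup_iff.1 hP
  obtain ⟨hb, hB, hω⟩ := (isInducedBlock_iff H).1 hind
  obtain ⟨χ, hχ⟩ := isPBlock_nonempty hB
  obtain ⟨ξ, hξ⟩ := isPBlock_nonempty hb
  have hu := centralChar_mul_defectClass hM hB hy hs hx hxc hχ
  have h1 : ¬ Cfsg.MemLocalIdeal M (Cfsg.inducedCentralChar H (ξ : H → ℂ) (x * y)) := by
    rw [← red_eq_zero_iff (inducedCentralChar_mem H ξ.2 _), ← omegaBar_resA_classSum,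
      hω ξ hξ χ hχ _ (isClassCoeff_classSum _ _), omegaBar_classSum χ.2]
    exact (red_centralChar_ne_zero_iff χ.2 _).2 hu
  obtain ⟨h, hgh, hh⟩ := exists_class_of_inducedCentralChar H ξ.2 (x * y) h1
  obtain ⟨h', hhh', -, hz⟩ := exists_conj_central_part hM hb hD hξ hh
  obtain ⟨z, hzp⟩ := exists_isPPart (Fact.out : p.Prime) h'
  obtain ⟨hzD, hzc⟩ := hz z hzp
  have hxp : Cfsg.IsPPart p (x * y) x := isPPart_mul (by
      obtain ⟨i, hi⟩ := IsPGroup.iff_orderOf.1 (IsDefectGroup.isPGroup hP) ⟨x, hx⟩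
      exact ⟨i, by rw [← Subgroup.orderOf_mk x hx, hi]⟩)
    (isDefectClass_regular hM hB hy) (Subgroup.mem_centralizer_singleton_iff.1 (hs.le hx))
  obtain ⟨c, hc⟩ := isConj_iff.1 hgh
  obtain ⟨d, hd⟩ := isConj_iff.1 hhh'
  have hh' : ((d : G) * c) * (x * y) * ((d : G) * c)⁻¹ = (h' : G) := by
    rw [← hd, Subgroup.coe_mul, Subgroup.coe_mul, Subgroup.coe_inv, ← hc]; group
  have h2 := isPPart_conj hxp ((d : G) * c)
  rw [hh'] at h2
  refine ⟨(d : G) * c, ?_, ?_⟩
  · exact ⟨z, hzD, isPPart_unique Fact.out (isPPart_coe hzp) h2⟩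
  · rintro _ ⟨w, hw, rfl⟩
    rw [← isPPart_unique Fact.out (isPPart_coe hzp) h2]
    exact congrArg Subtype.val (hzc w hw)

end Cfsg.Agent.S0930
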