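import Cfsg.Statements.S0931
import Cfsg.Agent.Blk.Bounds

set_option autoImplicit false
open Cfsg

namespace Cfsg.Agent.S0931

/-- Let H be a subgroup of the finite group G and fix a maximal ideal M of the algebraic integers containing the prime p. If the block b of H induces the block B of G, then b has defect 0 if and only if B has defect 0. -/
theorem result {G : Type*} [Group G] [Finite G] (p : ℕ) [Fact p.Prime] (M : Ideal Cfsg.AlgInt) (hM : Cfsg.IsPModular p M) (H : Subgroup G) (b : Set (Cfsg.IrrCharacter H)) (B : Set (Cfsg.IrrCharacter G)) (hind : Cfsg.IsInducedBlock M H b B) : Cfsg.blockDefect p b = 0 ↔ Cfsg.blockDefect p B = 0 := by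
  haveI := CfsgLib.Blk.IsPModular.isPrime hM
  classical
  haveI := Fintype.ofFinite G
  have hp : p.Prime := Fact.out
  obtain ⟨D, hD⟩ := CfsgLib.Blk.exists_isDefectGroup hM hind.1
  have hDc := CfsgLib.Blk.card_defectGroup hM hind.1 hD
  obtain ⟨E, hE, hDE⟩ := CfsgLib.Blk.exists_defectGroup_ge hM hind hD
  have hEc := CfsgLib.Blk.card_defectGroup hM hind.2.1 hE
  constructor
  · intro hb
    rw [hb, pow_zero] at hDc
    by_contra hne
    obtain ⟨g, hg, hs⟩ := CfsgLib.Blk.isDefectGroup_iff.1 hE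
    haveI : Nontrivial E := (Subgroup.nontrivial_iff_ne_bot E).2 fun h => by
      rw [h, Subgroup.card_bot] at hEc
      exact hne ((Nat.pow_eq_one.1 hEc.symm).resolve_left hp.ne_one)
    haveI := (CfsgLib.Blk.IsDefectGroup.isPGroup hE).center_nontrivial
    obtain ⟨⟨x, hxc⟩, hx1⟩ := exists_ne (1 : Subgroup.center E)
    obtain ⟨χ, hχ⟩ := CfsgLib.Blk.isPBlock_nonempty hind.2.1
    obtain ⟨ξ, hξ⟩ := CfsgLib.Blk.isPBlock_nonempty hind.1
    have hu := CfsgLib.Blk.centralChar_mul_defectClass hM hind.2.1 hg hs x.2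
      (fun w hw => (congrArg Subtype.val (Subgroup.mem_center_iff.1 hxc ⟨w, hw⟩)).symm) hχ
    refine hu ?_
    have hcong := hind.2.2 ξ hξ χ hχ ((x : G) * g)
    have hzero : inducedCentralChar H (ξ : H → ℂ) ((x : G) * g) = 0 := by
      refine finsum_mem_eq_zero_of_forall_eq_zero fun h hh => ?_
      rw [div_eq_zero_iff]
      left
      obtain ⟨h', hh'⟩ := CfsgLib.Blk.exists_isPPart hp h
      refine CfsgLib.Blk.char_eq_zero_of_notMem_defectGroup hM ξ hh' fun D' hD' hmem => ?_
      rw [← CfsgLib.Blk.eq_blockOf hind.1 hξ] at hD'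
      have hD'c := CfsgLib.Blk.card_defectGroup hM hind.1 hD'
      rw [hb, pow_zero, Subgroup.card_eq_one] at hD'c
      rw [hD'c, Subgroup.mem_bot] at hmem
      have hreg := (CfsgLib.Blk.isPPart_eq_one_iff hp hh').1 hmem
      rw [← Subgroup.orderOf_coe, ← CfsgLib.Blk.regular_conj_iff hh] at hreg
      obtain ⟨i, hi⟩ := IsPGroup.iff_orderOf.1 (CfsgLib.Blk.IsDefectGroup.isPGroup hE) x
      have hpart : IsPPart p ((x : G) * g) (x : G) := CfsgLib.Blk.isPPart_mul
        ⟨i, by rw [Subgroup.orderOf_coe, hi]⟩ (CfsgLib.Blk.isDefectClass_regular hM hind.2.1 hg)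
        (Subgroup.mem_centralizer_singleton_iff.1 (hs.le x.2))
      exact hx1 (Subtype.ext (Subtype.ext ((CfsgLib.Blk.isPPart_eq_one_iff hp hpart).2 hreg)))
    rw [hzero, zero_sub] at hcong
    simpa using CfsgLib.Blk.memLocalIdeal_neg hcong
  · intro hB0
    have h1 := Subgroup.card_le_of_le hDE
    rw [Subgroup.card_subtype, hEc, hB0, pow_zero, hDc] at h1
    exact (Nat.pow_eq_one.1 (le_antisymm h1 (Nat.one_le_pow _ _ hp.pos))).resolve_left hp.ne_one

end Cfsg.Agent.S0931
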