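import Cfsg.Statements.S0934
import Cfsg.Agent.Blk.Induced

set_option autoImplicit false
open Cfsg

namespace Cfsg.Agent.S0934

open CfsgLib.Char

/-- Let H be a subgroup of the finite group G and fix a maximal ideal M of the algebraic integers containing the prime p. If the block b of H induces the block B of G and ξ ∈ b, then there is χ ∈ B whose restriction to H has nonzero inner product with ξ. -/
theorem result {G : Type*} [Group G] [Fintype G] (p : ℕ) [Fact p.Prime] (M : Ideal Cfsg.AlgInt) (hM : Cfsg.IsPModular p M) (H : Subgroup G) [Fintype H] (b : Set (Cfsg.IrrCharacter H)) (B : Set (Cfsg.IrrCharacter G)) (hind : Cfsg.IsInducedBlock M H b B) (ξ : Cfsg.IrrCharacter H) (hξ : ξ ∈ b) : ∃ χ ∈ B, Cfsg.classInner (fun h : H => (χ : G → ℂ) h) (ξ : H → ℂ) ≠ 0 := by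
  haveI := CfsgLib.Blk.IsPModular.isPrime hM
  classical
  obtain ⟨hb, hB, hω⟩ := (CfsgLib.Blk.isInducedBlock_iff H).1 hind
  obtain ⟨χ₀, hχ₀⟩ := CfsgLib.Blk.isPBlock_nonempty hB
  by_contra! hall
  have he := CfsgLib.Blk.isClassCoeff_blockIdem hM hB
  have h1 : CfsgLib.Blk.omega (indFun H (ξ : H → ℂ)) (CfsgLib.Blk.blockIdem hM hB) = 0 := by
    rw [CfsgLib.Blk.omega_eq]
    simp only [CfsgLib.Blk.coeff_blockIdem]
    have h2 := CfsgLib.Char.classFun_eq_sum (CfsgLib.Char.indFun_classFun H (ξ : H → ℂ))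
    rw [div_eq_zero_iff]
    left
    calc ∑ g : G, blockCoeff B g * indFun H (ξ : H → ℂ) g
        = ∑ g : G, blockCoeff B g * ∑ χ : IrrCharacter G,
            classInner (indFun H (ξ : H → ℂ)) (χ : G → ℂ) * (χ : G → ℂ) g := by
          refine Finset.sum_congr rfl fun g _ => ?_
          conv_lhs => rw [h2]
          simp
      _ = ∑ χ : IrrCharacter G, classInner (indFun H (ξ : H → ℂ)) (χ : G → ℂ) *
            ∑ g : G, blockCoeff B g * (χ : G → ℂ) g := by
          simp only [Finset.mul_sum]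
          rw [Finset.sum_comm]
          exact Finset.sum_congr rfl fun χ _ => Finset.sum_congr rfl fun g _ => by ring
      _ = 0 := by
          refine Finset.sum_eq_zero fun χ _ => ?_
          rw [CfsgLib.Blk.sum_blockCoeff_mul]
          split_ifs with hχ
          · rw [CfsgLib.Char.frobenius H _ (CfsgLib.Char.classFun_of_irr χ.2),
              ← CfsgLib.Char.classInner_conj, hall χ hχ, map_zero, zero_mul]
          · rw [mul_zero]
  rw [CfsgLib.Blk.omega_indFun H _ he] at h1
  have h3 := hω ξ hξ χ₀ hχ₀ _ he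
  rw [CfsgLib.Blk.omegaBar, h1, CfsgLib.Blk.red_zero, CfsgLib.Blk.omegaBar_blockIdem,
    if_pos hχ₀] at h3
  exact zero_ne_one h3

end Cfsg.Agent.S0934
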