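import Cfsg.Statements.S0935
import Cfsg.Agent.Blk.HeightZero

set_option autoImplicit false
open Cfsg

namespace Cfsg.Agent.S0935

open CfsgLib.Char

/-- Let H be a subgroup of the finite group G and χ an irreducible character of G whose restriction to H is irreducible; fix a maximal ideal M of the algebraic integers containing the prime p and suppose χ and its restriction have height zero in their blocks B and b. If e is a block of H whose induced block is defined, then e induces B if and only if e = b. -/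
theorem result {G : Type*} [Group G] [Finite G] (p : ℕ) [Fact p.Prime] (M : Ideal Cfsg.AlgInt) (hM : Cfsg.IsPModular p M) (H : Subgroup G) (χ : Cfsg.IrrCharacter G) (hres : Cfsg.IsIrrCharacter H (fun h : H => (χ : G → ℂ) h)) (hχ0 : Cfsg.blockHeight p (Cfsg.blockOf M (χ : G → ℂ)) (χ : G → ℂ) = 0) (hψ0 : Cfsg.blockHeight p (Cfsg.blockOf M (fun h : H => (χ : G → ℂ) h)) (fun h : H => (χ : G → ℂ) h) = 0) (e : Set (Cfsg.IrrCharacter H)) (he : Cfsg.InducedBlockDefined M H e) : Cfsg.IsInducedBlock M H e (Cfsg.blockOf M (χ : G → ℂ)) ↔ e = Cfsg.blockOf M (fun h : H => (χ : G → ℂ) h) := by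
  haveI := CfsgLib.Blk.IsPModular.isPrime hM
  classical
  haveI := Fintype.ofFinite G
  haveI := Fintype.ofFinite H
  set ψ : IrrCharacter H := ⟨_, hres⟩ with hψdef
  have hB : IsPBlock M (blockOf M (χ : G → ℂ)) := CfsgLib.Blk.blockOf_isPBlock χ
  have hχ : χ ∈ blockOf M (χ : G → ℂ) := CfsgLib.Blk.sameBlock_refl _
  constructor
  · intro hind
    obtain ⟨η, hη, -, n, hn, hnp⟩ := CfsgLib.Blk.exists_res_height_zero hM H hind hχ hχ0
    have h1 : classInner (ψ : H → ℂ) (η : H → ℂ) = (n : ℂ) := hn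
    rw [CfsgLib.Char.irrChar_inner] at h1
    split_ifs at h1 with heq
    · exact CfsgLib.Blk.eq_blockOf hind.1 (show ψ ∈ e from heq ▸ hη)
    · exact absurd (Nat.cast_eq_zero.1 h1.symm) (fun h => hnp (h ▸ dvd_zero p))
  · intro hee
    obtain ⟨B', hind⟩ := he
    obtain ⟨hb, hB', hω⟩ := (CfsgLib.Blk.isInducedBlock_iff H).1 hind
    obtain ⟨χ', hχ'⟩ := CfsgLib.Blk.isPBlock_nonempty hB'
    suffices hmem : χ ∈ B' by rwa [← CfsgLib.Blk.eq_blockOf hB' hmem]
    by_contra hmem
    have hψe : ψ ∈ e := hee ▸ CfsgLib.Blk.sameBlock_refl _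
    have hz := CfsgLib.Blk.isClassCoeff_regElt (M := M) (p := p) χ
    have hw := hω ψ hψe χ' hχ' _ hz
    rw [CfsgLib.Blk.omegaBar, CfsgLib.Blk.omegaBar, CfsgLib.Blk.omega_regElt_eq_zero hM
      (fun hs => hmem (CfsgLib.Blk.mem_of_sameBlock hB' hχ' hs)), CfsgLib.Blk.red_zero,
      CfsgLib.Blk.red_eq_zero_iff (CfsgLib.Blk.omega_mem ψ.2 (CfsgLib.Blk.isClassCoeff_resA H hz)),
      CfsgLib.Blk.omega_resA_regElt H χ (fun η => if η = ψ then 1 else 0)
        (fun h => by simp [hψdef]), Finset.sum_eq_single ψ] at hw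
    · rw [if_pos rfl, map_one, one_mul] at hw
      refine CfsgLib.Blk.omega_regElt_unit hM hb hψe ?_ hψe hw
      rw [hee]
      exact hψ0
    · intro η _ hne
      rw [if_neg hne, map_zero, zero_mul]
    · simp

end Cfsg.Agent.S0935
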