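import Cfsg.Statements.S0938
import Cfsg.Agent.Blk.Inflate
import Cfsg.Agent.Blk.DegSq

set_option autoImplicit false
open Cfsg

namespace Cfsg.Agent.S0938

set_option linter.unusedSectionVars false
open CfsgLib.Char CfsgLib.Blk
open scoped ComplexConjugate


/-- Let B be a block of the finite group G relative to a maximal ideal M of the algebraic integers containing the prime p, and let χ ∈ B. Then the kernel of B (the set of g with ψ g = ψ 1 for all ψ ∈ B) is a normal subgroup of order prime to p contained in the kernel of χ, and it contains every normal subgroup of order prime to p on which χ takes the value χ(1); that is, it is O_p' of the kernel of χ. -/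
theorem result {G : Type*} [Group G] [Finite G] (p : ℕ) [Fact p.Prime] (M : Ideal Cfsg.AlgInt) (hM : Cfsg.IsPModular p M) (B : Set (Cfsg.IrrCharacter G)) (hB : Cfsg.IsPBlock M B) (χ : Cfsg.IrrCharacter G) (hχ : χ ∈ B) : ∃ K : Subgroup G, K.Normal ∧ (K : Set G) = Cfsg.blockKer B ∧ ¬ p ∣ Nat.card K ∧ (∀ g ∈ K, (χ : G → ℂ) g = (χ : G → ℂ) 1) ∧ ∀ N : Subgroup G, N.Normal → ¬ p ∣ Nat.card N → (∀ g ∈ N, (χ : G → ℂ) g = (χ : G → ℂ) 1) → N ≤ K := by
  classical
  haveI := CfsgLib.Blk.IsPModular.isPrime hM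
  haveI := Fintype.ofFinite G
  choose K hKn hK _ using fun θ : IrrCharacter G => exists_kernel (isCharacter_of_isIrr θ.2)
  have hmem : ∀ g, g ∈ ⨅ θ ∈ B, K θ ↔ ∀ θ ∈ B, (θ : G → ℂ) g = (θ : G → ℂ) 1 := fun g => by
    simp only [Subgroup.mem_iInf, hK]
  refine ⟨⨅ θ ∈ B, K θ, ⟨fun n hn g => ?_⟩, Set.ext fun g => hmem g, ?_, fun g hg => (hmem g).1 hg χ hχ, ?_⟩
  · simp only [Subgroup.mem_iInf] at hn ⊢
    exact fun θ hθ => (hKn θ).conj_mem n (hn θ hθ) g
  · exact not_dvd_card_of_kills hM hB _ fun y hy θ hθ => (hmem y).1 hy θ hθ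
  · intro N hN hNp hk g hg
    exact (hmem g).2 fun θ hθ =>
      kernel_of_sameBlock N hM hNp (sameBlock_of_mem hB hχ hθ) hk hg

end Cfsg.Agent.S0938
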