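import Cfsg.Statements.S0940
import Cfsg.Agent.Blk.Frobenius

set_option autoImplicit false
open Cfsg

namespace Cfsg.Agent.S0940

open CfsgLib.Char

/-- Let G be a finite group and M a maximal ideal of the algebraic integers containing the prime p. For every p-regular g, the idempotent coefficient of the principal block at g (the inverse of the group order times the sum over χ in the principal block of χ 1 * conj (χ g)) is congruent modulo the local ideal at M to N / R, where N is the number of pairs (x, y) with x of p-power order, y of order prime to p and x * y = g, and R is the number of elements of G of order prime to p. -/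
theorem result {G : Type*} [Group G] [Finite G] (p : ℕ) [Fact p.Prime] (M : Ideal Cfsg.AlgInt) (hM : Cfsg.IsPModular p M) (g : G) (hg : ¬ p ∣ orderOf g) : Cfsg.MemLocalIdeal M (Cfsg.blockCoeff (Cfsg.principalBlock M G) g - (Nat.card {xy : G × G // (∃ k : ℕ, orderOf xy.1 = p ^ k) ∧ ¬ p ∣ orderOf xy.2 ∧ xy.1 * xy.2 = g} : ℂ) / (Nat.card {y : G // ¬ p ∣ orderOf y} : ℂ)) := by
  haveI := CfsgLib.Blk.IsPModular.isPrime hM
  classical
  haveI := Fintype.ofFinite G
  have hp : p.Prime := Fact.out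
  set Sp : MonoidAlgebra (CfsgLib.Blk.locRing M) G := MonoidAlgebra.ofCoeff
    (Finsupp.ofSupportFinite (fun u : G => if ∃ k : ℕ, orderOf u = p ^ k then 1 else 0)
      (Set.toFinite _)) with hSpdef
  have hSp : ∀ u, Sp.coeff u = if ∃ k : ℕ, orderOf u = p ^ k then 1 else 0 := fun u => rfl
  have hSpc : CfsgLib.Blk.IsClassCoeff Sp := fun u h => by
    simp only [hSp, CfsgLib.Blk.isPPart_conj.orderOf_mulAut_conj]
  set Sr := CfsgLib.Blk.regSum (CfsgLib.Blk.locRing M) p G
  have hSrc : CfsgLib.Blk.IsClassCoeff Sr := CfsgLib.Blk.isClassCoeff_regSum _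
  set e := CfsgLib.Blk.blockIdem hM (CfsgLib.Blk.isPBlock_principalBlock (M := M) (G := G))
  have hec : CfsgLib.Blk.IsClassCoeff e := CfsgLib.Blk.isClassCoeff_blockIdem _ _
  set r : ℕ := Nat.card {y : G // ¬ p ∣ orderOf y} with hr
  set N : ℕ := Nat.card {xy : G × G // (∃ k : ℕ, orderOf xy.1 = p ^ k) ∧ ¬ p ∣ orderOf xy.2 ∧
    xy.1 * xy.2 = g} with hN
  set one : IrrCharacter G := ⟨_, CfsgLib.Char.isIrr_one⟩
  have hr1 : CfsgLib.Blk.omega (one : G → ℂ) Sr = (r : ℂ) := by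
    rw [CfsgLib.Blk.omega_eq, hr, Nat.card_eq_fintype_card, Fintype.card_subtype]
    simp only [one, mul_one, div_one, Sr, CfsgLib.Blk.coeff_regSum]
    push_cast [apply_ite Subtype.val, Finset.sum_ite, Finset.sum_const_zero, zero_add]
    simp
  have hru : ¬ p ∣ r := fun hd => by
    refine CfsgLib.Blk.omegaBar_regSum_principal hM (χ := one)
      CfsgLib.Blk.one_mem_principalBlock ?_
    rw [CfsgLib.Blk.omegaBar, hr1, CfsgLib.Blk.red_eq_zero_iff (natCast_mem _ r),
      CfsgLib.Blk.natCast_memLocalIdeal_iff hM]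
    exact hd
  have hNc : ((Sp * Sr).coeff g : ℂ) = (N : ℂ) := by
    rw [CfsgLib.Blk.coeff_mul_sum, hN]
    push_cast
    simp only [hSp, Sr, CfsgLib.Blk.coeff_regSum]
    push_cast [apply_ite Subtype.val]
    rw [Nat.card_congr (show {xy : G × G // (∃ k : ℕ, orderOf xy.1 = p ^ k) ∧ ¬ p ∣ orderOf xy.2 ∧
        xy.1 * xy.2 = g} ≃ {u : G // (∃ k : ℕ, orderOf u = p ^ k) ∧ ¬ p ∣ orderOf (u⁻¹ * g)} from
      { toFun := fun q => ⟨q.1.1, q.2.1, by
          have h := q.2.2.2
          rw [show q.1.1⁻¹ * g = q.1.2 from inv_mul_eq_iff_eq_mul.2 h.symm]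
          exact q.2.2.1⟩
        invFun := fun u => ⟨(u.1, u.1⁻¹ * g), u.2.1, u.2.2, mul_inv_cancel_left _ _⟩
        left_inv := fun q => Subtype.ext (Prod.ext rfl (by
          have h := q.2.2.2
          exact inv_mul_eq_iff_eq_mul.2 h.symm))
        right_inv := fun u => rfl }), Nat.card_eq_fintype_card, Fintype.card_subtype,
      Finset.natCast_card_filter]
    refine Finset.sum_congr rfl fun u _ => ?_
    by_cases h1 : ∃ k : ℕ, orderOf u = p ^ k
    · by_cases h2 : p ∣ orderOf (u⁻¹ * g)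
      · simp [h1, h2]
      · simp [h1, h2]
    · simp [h1]
  -- the two products agree up to the count
  choose t ht htT using CfsgLib.Blk.sum_pElem_mem (p := p) hM (G := G)
  obtain ⟨m, hm, hmp⟩ := CfsgLib.Blk.exists_card_eq (p := p) (G := G)
  have hωSp : ∀ χ : IrrCharacter G, CfsgLib.Blk.omega (χ : G → ℂ) Sp * (χ : G → ℂ) 1 =
      (p : ℂ) ^ CfsgLib.Blk.pExp p G * starRingEnd ℂ (t χ) := by
    intro χ
    rw [CfsgLib.Blk.omega_eq, div_mul_cancel₀ _ (CfsgLib.Char.irr_one_ne_zero χ.2),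
      ← Complex.conj_natCast p, ← map_pow, ← map_mul, ← htT, map_sum]
    refine Finset.sum_congr rfl fun u _ => ?_
    rw [hSp]
    split_ifs <;> simp
  have hSpmem : ∀ χ : IrrCharacter G, starRingEnd ℂ (t χ) ∈ CfsgLib.Blk.locRing M := by
    intro χ
    have hcj : (fun g : G => starRingEnd ℂ ((χ : G → ℂ) g)) = fun g : G => (χ : G → ℂ) g⁻¹ :=
      funext fun g => (CfsgLib.Char.char_conj_eq (CfsgLib.Char.isCharacter_of_isIrr χ.2) g).symm
    have h1 : starRingEnd ℂ (t χ) * (p : ℂ) ^ CfsgLib.Blk.pExp p G =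
        t χ * (p : ℂ) ^ CfsgLib.Blk.pExp p G := by
      rw [mul_comm, ← hωSp, mul_comm (t χ), ← htT, CfsgLib.Blk.omega_eq,
        div_mul_cancel₀ _ (CfsgLib.Char.irr_one_ne_zero χ.2),
        ← Equiv.sum_comp (Equiv.inv G) (fun u => if ∃ k : ℕ, orderOf u = p ^ k then
          starRingEnd ℂ ((χ : G → ℂ) u) else 0)]
      refine Finset.sum_congr rfl fun u _ => ?_
      rw [hSp]
      simp only [Equiv.inv_apply, orderOf_inv, congrFun hcj, inv_inv]
      split_ifs <;> simp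
    rw [mul_right_cancel₀ (pow_ne_zero _ (CfsgLib.Blk.prime_cast_ne_zero (p := p))) h1]
    exact ht χ
  have hdiff : MemLocalIdeal M (((Sp * Sr).coeff g : ℂ) - (r : ℂ) * ((Sp * e).coeff g : ℂ)) := by
    rw [CfsgLib.Blk.omega_inversion (hSpc.mul hSrc), CfsgLib.Blk.omega_inversion (hSpc.mul hec),
      mul_left_comm (r : ℂ), ← mul_sub, Finset.mul_sum, ← Finset.sum_sub_distrib, Finset.mul_sum]
    refine CfsgLib.Blk.memLocalIdeal_sum _ _ fun χ _ => ?_
    rw [CfsgLib.Blk.omega_mul χ.2 hSpc, CfsgLib.Blk.omega_mul χ.2 hSpc,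
      CfsgLib.Blk.omega_blockIdem]
    have hterm : MemLocalIdeal M (CfsgLib.Blk.omega (χ : G → ℂ) Sr -
        (r : ℂ) * (if χ ∈ principalBlock M G then 1 else 0)) := by
      split_ifs with hχ
      · rw [mul_one, ← hr1, ← CfsgLib.Blk.red_eq_zero_iff (sub_mem (CfsgLib.Blk.omega_mem χ.2 hSrc)
          (CfsgLib.Blk.omega_mem one.2 hSrc)), CfsgLib.Blk.red_sub
          (CfsgLib.Blk.omega_mem χ.2 hSrc) (CfsgLib.Blk.omega_mem one.2 hSrc), sub_eq_zero]
        exact CfsgLib.Blk.omegaBar_congr χ.2 one.2 (CfsgLib.Blk.sameBlock_of_mem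
          CfsgLib.Blk.isPBlock_principalBlock hχ CfsgLib.Blk.one_mem_principalBlock) hSrc
      · rw [CfsgLib.Blk.omega_regSum_eq_zero hM hχ, mul_zero, sub_zero]
        exact CfsgLib.Blk.memLocalIdeal_zero
    have e1 : (Nat.card G : ℂ)⁻¹ *
        (CfsgLib.Blk.omega (χ : G → ℂ) Sp * CfsgLib.Blk.omega (χ : G → ℂ) Sr * (χ : G → ℂ) 1 *
            starRingEnd ℂ ((χ : G → ℂ) g) -
          (r : ℂ) * (CfsgLib.Blk.omega (χ : G → ℂ) Sp * (if χ ∈ principalBlock M G then 1 else 0) *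
            (χ : G → ℂ) 1 * starRingEnd ℂ ((χ : G → ℂ) g))) =
        ((m : ℂ)⁻¹ * starRingEnd ℂ (t χ) * starRingEnd ℂ ((χ : G → ℂ) g)) *
          (CfsgLib.Blk.omega (χ : G → ℂ) Sr -
            (r : ℂ) * (if χ ∈ principalBlock M G then 1 else 0)) := by
      have h2 := hωSp χ
      have hp0 := pow_ne_zero (CfsgLib.Blk.pExp p G) (CfsgLib.Blk.prime_cast_ne_zero (p := p))
      rw [hm]
      push_cast
      have h3 : starRingEnd ℂ (t χ) = CfsgLib.Blk.omega (χ : G → ℂ) Sp * (χ : G → ℂ) 1 /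
          (p : ℂ) ^ CfsgLib.Blk.pExp p G := by rw [h2]; field_simp
      rw [h3]
      have hm0 := CfsgLib.Blk.natCast_ne_zero_of_not_dvd hmp
      field_simp
    rw [e1]
    exact CfsgLib.Blk.memLocalIdeal_mul_left (mul_mem (mul_mem (CfsgLib.Blk.natCast_inv_mem hM hmp)
      (hSpmem χ)) (CfsgLib.Blk.conj_irr_mem χ g)) hterm
  have hsum : CfsgLib.Blk.red M ((Sp * e).coeff g : ℂ) =
      CfsgLib.Blk.red M (blockCoeff (principalBlock M G) g) := by
    rw [← CfsgLib.Blk.sum_pElem_blockCoeff hM hg, CfsgLib.Blk.coeff_mul_sum, AddSubmonoidClass.coe_finset_sum,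
      CfsgLib.Blk.red_sum _ _ fun u _ => SetLike.coe_mem _]
    refine Fintype.sum_equiv (Equiv.inv G) _ _ fun u => ?_
    rw [hSp]
    simp only [Equiv.inv_apply, orderOf_inv]
    split_ifs
    · rw [one_mul, CfsgLib.Blk.coeff_blockIdem]
    · rw [zero_mul, ZeroMemClass.coe_zero, CfsgLib.Blk.red_zero]
  have hb := CfsgLib.Blk.blockCoeff_mem hM
    (CfsgLib.Blk.isPBlock_principalBlock (M := M) (G := G)) g
  rw [← CfsgLib.Blk.memLocalIdeal_natCast_mul_iff hM hru, mul_sub,
    mul_div_cancel₀ _ (CfsgLib.Blk.natCast_ne_zero_of_not_dvd hru), ← hNc]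
  have h2 : MemLocalIdeal M ((r : ℂ) * (((Sp * e).coeff g : ℂ) -
      blockCoeff (principalBlock M G) g)) := by
    refine CfsgLib.Blk.memLocalIdeal_mul_left (natCast_mem _ r) ?_
    rw [← CfsgLib.Blk.red_eq_zero_iff (sub_mem (SetLike.coe_mem _) hb),
      CfsgLib.Blk.red_sub (SetLike.coe_mem _) hb, hsum, sub_self]
  have h3 := CfsgLib.Blk.memLocalIdeal_neg (CfsgLib.Blk.memLocalIdeal_add hdiff h2)
  convert h3 using 1
  ring

end Cfsg.Agent.S0940
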