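import Cfsg.Statements.S0944
import Cfsg.Agent.Char.Central

set_option autoImplicit false
open Cfsg

namespace Cfsg.Agent.S0944

open CfsgLib.Char

/-- Let χ be an irreducible character of the finite group G and u an involution. Then χ u is a rational integer n with n ≡ χ 1 (mod 2). -/
theorem result {G : Type*} [Group G] [Finite G] (χ : Cfsg.IrrCharacter G) (u : G) (hu : orderOf u = 2) : ∃ n : ℤ, (χ : G → ℂ) u = (n : ℂ) ∧ (2 : ℤ) ∣ (Cfsg.charDegree (χ : G → ℂ) : ℤ) - n := by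
  classical
  haveI : Fintype G := Fintype.ofFinite G
  obtain ⟨n, ρ, hirr, hρ⟩ := χ.2
  obtain ⟨ζ, hζ, -, hsum, -⟩ := exists_roots ρ u
  rw [← hρ]
  have hz : ∀ i, ∃ s : ℤ, ζ i = (s : ℂ) ∧ (2 : ℤ) ∣ 1 - s := fun i => by
    have h2 := hζ i
    rw [hu] at h2
    rcases eq_or_eq_neg_of_sq_eq_sq _ _ (h2.trans (one_pow 2).symm) with h | h
    · exact ⟨1, by simp [h], by norm_num⟩
    · exact ⟨-1, by simp [h], by norm_num⟩
  choose s hs hs2 using hz
  refine ⟨∑ i, s i, by rw [hsum]; push_cast; exact Finset.sum_congr rfl fun i _ => hs i, ?_⟩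
  have hdeg : (charDegree ρ.character : ℤ) = ∑ _i : Fin (Module.finrank ℂ (Fin n → ℂ)), (1 : ℤ) := by
    rw [charDegree_eq (Representation.char_one ρ)]
    simp
  rw [hdeg, ← Finset.sum_sub_distrib]
  exact Finset.dvd_sum fun i _ => hs2 i

end Cfsg.Agent.S0944
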