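import Cfsg.Statements.S0946
import Cfsg.Agent.Blk.HomocyclicTwo

set_option autoImplicit false
open Cfsg

namespace Cfsg.Agent.S0946

/-- Let P be a Sylow 2-subgroup of the finite group G isomorphic to Z/2^m × Z/2^m with m ≥ 1. Then either P has a normal complement in G, or all involutions of G are conjugate. -/
theorem result {G : Type*} [Group G] [Finite G] (P : Sylow 2 G) (m : ℕ) (hm : 1 ≤ m) (e : (P : Subgroup G) ≃* Multiplicative (ZMod (2 ^ m) × ZMod (2 ^ m))) : (∃ N : Subgroup G, N.Normal ∧ Subgroup.IsComplement' N (P : Subgroup G)) ∨ ∀ s t : G, orderOf s = 2 → orderOf t = 2 → IsConj s t := by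
  have _ := hm
  haveI : Fact (Nat.Prime 2) := ⟨Nat.prime_two⟩
  obtain ⟨h13, -, hfus⟩ := CfsgLib.HomocyclicTwo.automizer P m e
  by_cases h1 : (Subgroup.centralizer (P : Set G)).relIndex (Subgroup.normalizer (P : Set G)) = 1
  · left
    obtain ⟨S, K, hKn, hKS⟩ := CfsgLib.Solv.hnpc_of_normalizer_le_centralizer P
      (Subgroup.relIndex_eq_one.1 h1)
    refine ⟨K, hKn, Subgroup.isComplement'_of_coprime ?_ ?_⟩
    · rw [P.card_eq_multiplicity, ← S.card_eq_multiplicity]
      exact hKS.card_mul_card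
    · obtain ⟨k, hk⟩ := IsPGroup.iff_card.1 P.2
      rw [hk]
      refine Nat.Coprime.pow_right k (Nat.Coprime.symm ?_)
      rw [Nat.prime_two.coprime_iff_not_dvd, ← hKS.index_eq_card]
      exact S.not_dvd_index
  · exact Or.inr (hfus h1)

end Cfsg.Agent.S0946
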