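import Cfsg.Statements.S0947
import Cfsg.Agent.Blk.Principal
import Cfsg.Agent.Fus.CoreBasic

set_option autoImplicit false
open Cfsg

namespace Cfsg.Agent.S0947

open CfsgLib.Char

/-- Let z ≠ 1 be a p-element of the finite group G with centralizer H, and fix a maximal ideal M of the algebraic integers containing p. (i) For every y ∈ H of order prime to p, the sum over ζ in the principal block of G of |ζ (z * y)|² equals the sum over χ in the principal block of H of |χ y|². (ii) If moreover H has a normal p-complement (its largest normal subgroup of order prime to p has p-power index), that common value is the largest power of p dividing the order of H. -/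
theorem result {G : Type*} [Group G] [Finite G] (p : ℕ) [Fact p.Prime] (M : Ideal Cfsg.AlgInt) (hM : Cfsg.IsPModular p M) (z : G) (hz : ∃ k : ℕ, orderOf z = p ^ k) (hz1 : z ≠ 1) (y : Subgroup.centralizer ({z} : Set G)) (hy : ¬ p ∣ orderOf y) : (∑ᶠ ζ ∈ Cfsg.principalBlock M G, ‖(ζ : G → ℂ) (z * (y : G))‖ ^ 2 = ∑ᶠ χ ∈ Cfsg.principalBlock M (Subgroup.centralizer ({z} : Set G)), ‖(χ : Subgroup.centralizer ({z} : Set G) → ℂ) y‖ ^ 2) ∧ ((∃ k : ℕ, (Cfsg.pPrimeCore p (Subgroup.centralizer ({z} : Set G))).index = p ^ k) → ∑ᶠ ζ ∈ Cfsg.principalBlock M G, ‖(ζ : G → ℂ) (z * (y : G))‖ ^ 2 = ((p ^ (Nat.card (Subgroup.centralizer ({z} : Set G))).factorization p : ℕ) : ℝ)) := by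
  classical
  haveI := CfsgLib.Blk.IsPModular.isPrime hM
  haveI := CfsgLib.Fus.normal_pPrimeCore (G := ↥(Subgroup.centralizer ({z} : Set G))) p
  have key := CfsgLib.Blk.principal_transfer hM hz (Subgroup.centralizer ({z} : Set G)) rfl y hy
  have h1 : ∑ᶠ ζ ∈ Cfsg.principalBlock M G, ‖(ζ : G → ℂ) (z * (y : G))‖ ^ 2 =
      ∑ᶠ χ ∈ Cfsg.principalBlock M (Subgroup.centralizer ({z} : Set G)),
        ‖(χ : Subgroup.centralizer ({z} : Set G) → ℂ) y‖ ^ 2 := by
    rw [CfsgLib.Blk.finsum_mem_eq_sum_ite, CfsgLib.Blk.finsum_mem_eq_sum_ite]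
    apply Complex.ofReal_injective
    rw [Complex.ofReal_sum, Complex.ofReal_sum]
    simp only [apply_ite Complex.ofReal, Complex.ofReal_zero, Complex.ofReal_pow, ← Complex.mul_conj']
    exact key
  refine ⟨h1, fun hidx => ?_⟩
  rw [h1, CfsgLib.Blk.finsum_mem_eq_sum_ite]
  have hN := (Nat.Prime.coprime_iff_not_dvd Fact.out).1
      (CfsgLib.Fus.coprime_card_pPrimeCore (G := ↥(Subgroup.centralizer ({z} : Set G))) p).symm
  have h2 := CfsgLib.Blk.sum_principal_deg_sq hM _ hN hidx
  obtain ⟨k, hk⟩ := hidx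
  have hc : Nat.card ↥(Subgroup.centralizer ({z} : Set G)) =
      Nat.card ↥(Cfsg.pPrimeCore p ↥(Subgroup.centralizer ({z} : Set G))) * p ^ k := by
    rw [← hk, Subgroup.card_mul_index]
  rw [hc, Nat.factorization_mul (Nat.card_pos).ne' (pow_ne_zero _ (Fact.out : p.Prime).ne_zero),
    Finsupp.add_apply, Nat.factorization_eq_zero_of_not_dvd hN, zero_add,
    (Fact.out : p.Prime).factorization_pow, Finsupp.single_eq_same, ← hk]
  apply Complex.ofReal_injective
  rw [Complex.ofReal_sum, Complex.ofReal_natCast, ← h2]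
  refine Finset.sum_congr rfl fun χ _ => ?_
  split_ifs with hχ
  · rw [Complex.ofReal_pow, ← Complex.mul_conj',
      CfsgLib.Blk.principal_apply_one hM hχ _ hN
        ((CfsgLib.Blk.regular_iff_mem_complement _ hN ⟨k, hk⟩ y).1 hy),
      CfsgLib.Char.irr_one_eq χ.2, Complex.conj_natCast, sq]
  · simp

end Cfsg.Agent.S0947
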