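import Cfsg.Statements.S0948
import Cfsg.Agent.Blk.Principal
import Cfsg.Agent.Blk.ZStarQ8C

set_option autoImplicit false
open Cfsg

namespace Cfsg.Agent.S0948

set_option linter.style.haveILetI false
set_option linter.unusedSectionVars false
open CfsgLib.Char CfsgLib.Blk

variable {G : Type*} [Group G] [Finite G]

private theorem complement (P : Sylow 2 G) (hP : IsKleinFour (P : Subgroup G)) {z : G}
    (hzP : z ∈ (P : Subgroup G)) (hz1 : z ≠ 1) :
    ∃ N : Subgroup ↥(Subgroup.centralizer ({z} : Set G)), N.Normal ∧ ¬ 2 ∣ Nat.card N ∧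
      N.index = 4 := by
  haveI := hP
  haveI : Fact (Nat.Prime 2) := ⟨Nat.prime_two⟩
  letI := Fintype.ofFinite (P : Subgroup G)
  classical
  set H := Subgroup.centralizer ({z} : Set G) with hH
  have hcomm : ∀ a ∈ (P : Subgroup G), ∀ b ∈ (P : Subgroup G), a * b = b * a := fun a ha b hb =>
    congrArg Subtype.val ((mul_comm_of_exponent_two (IsKleinFour.exponent_two) :
      ∀ x y : (P : Subgroup G), x * y = y * x) ⟨a, ha⟩ ⟨b, hb⟩)
  have hle : (P : Subgroup G) ≤ H := fun a ha =>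
    Subgroup.mem_centralizer_singleton_iff.2 (hcomm a ha z hzP)
  have hmem : ∀ k : H, k ∈ ((P.subtype hle : Sylow 2 H) : Subgroup H) ↔ (k : G) ∈ (P : Subgroup G) :=
    fun k => Iff.rfl
  have hcardQ : Nat.card ((P.subtype hle : Sylow 2 H) : Subgroup H) = 4 := by
    rw [Sylow.coe_subtype, Nat.card_congr (Subgroup.subgroupOfEquivOfLe hle).toEquiv]
    exact IsKleinFour.card_four
  have hnorm : Subgroup.normalizer (((P.subtype hle : Sylow 2 H) : Subgroup H) : Set H) ≤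
      Subgroup.centralizer (((P.subtype hle : Sylow 2 H) : Subgroup H) : Set H) := by
    intro n hn
    obtain ⟨k, b, hb, hnb⟩ :=
      Nat.exists_eq_pow_mul_and_not_dvd (orderOf_pos n).ne' 2 (by norm_num)
    set m := n ^ b with hm
    have hmN : m ∈ Subgroup.normalizer (((P.subtype hle : Sylow 2 H) : Subgroup H) : Set H) :=
      pow_mem hn b
    have hmo : orderOf m ∣ 2 ^ k :=
      orderOf_dvd_of_pow_eq_one (by rw [hm, ← pow_mul, mul_comm, ← hnb, pow_orderOf_eq_one])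
    have hmQ : m ∈ ((P.subtype hle : Sylow 2 H) : Subgroup H) := by
      obtain ⟨j, -, hj⟩ := (Nat.dvd_prime_pow Nat.prime_two).1 hmo
      have hzp : IsPGroup 2 (Subgroup.zpowers m) :=
        IsPGroup.of_card (n := j) (by rw [Nat.card_zpowers, hj])
      have h : m ∈ Subgroup.zpowers m ⊓
          Subgroup.normalizer (((P.subtype hle : Sylow 2 H) : Subgroup H) : Set H) :=
        ⟨Subgroup.mem_zpowers m, hmN⟩
      exact ((hzp.inf_normalizer_sylow (P.subtype hle : Sylow 2 H)).le h).2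
    rw [Subgroup.mem_centralizer_iff]
    intro a ha
    have hsq : n ^ 2 * a = a * n ^ 2 := by
      by_cases ha1 : a = 1
      · simp [ha1]
      by_cases haz : (a : G) = z
      · have h2 : ((n ^ 2 : H) : G) * z = z * ((n ^ 2 : H) : G) :=
          Subgroup.mem_centralizer_singleton_iff.1 (n ^ 2).2
        exact Subtype.ext (by simpa [haz] using h2)
      -- the images of `a`
      have himg : ∀ x : H, x ∈ ((P.subtype hle : Sylow 2 H) : Subgroup H) → x ≠ 1 → (x : G) ≠ z →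
          (x : G) = a ∨ (x : G) = z * a := by
        intro x hx hx1 hxz
        have hu := IsKleinFour.eq_finset_univ (G := (P : Subgroup G)) (x := ⟨z, hzP⟩)
          (y := ⟨(a : G), (hmem a).1 ha⟩) (fun h => hz1 (congrArg Subtype.val h))
          (fun h => ha1 (Subtype.ext (by simpa using congrArg Subtype.val h)))
          (fun h => haz (congrArg Subtype.val h).symm)
        have hxu : (⟨(x : G), (hmem x).1 hx⟩ : (P : Subgroup G)) ∈
            (Finset.univ : Finset (P : Subgroup G)) := Finset.mem_univ _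
        rw [← hu] at hxu
        simp only [Finset.mem_insert, Finset.mem_singleton, Subtype.ext_iff, Subgroup.coe_mul,
          Subgroup.coe_one] at hxu
        rcases hxu with h | h | h | h
        · exact Or.inr h
        · exact absurd h hxz
        · exact Or.inl h
        · exact absurd (Subtype.ext (by simpa using h)) hx1
      have hn1 := (Subgroup.mem_normalizer_iff.1 hn a).1 ha
      have hnz : (n : G) * z = z * (n : G) := Subgroup.mem_centralizer_singleton_iff.1 n.2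
      have hn1' : n * a * n⁻¹ ≠ 1 := fun h => ha1 (by simpa using h)
      have hn1z : ((n * a * n⁻¹ : H) : G) ≠ z := by
        intro h
        refine haz ?_
        simp only [Subgroup.coe_mul, Subgroup.coe_inv, mul_inv_eq_iff_eq_mul] at h
        rw [← hnz] at h
        exact mul_left_cancel h
      rcases himg _ hn1 hn1' hn1z with h | h
      · have h' : n * a = a * n := mul_inv_eq_iff_eq_mul.1 (Subtype.ext h)
        rw [pow_two, mul_assoc, h', ← mul_assoc, h', mul_assoc]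
      · refine Subtype.ext ?_
        simp only [Subgroup.coe_mul, Subgroup.coe_inv, mul_inv_eq_iff_eq_mul] at h
        simp only [Subgroup.coe_mul, pow_two]
        have hzz : z * z = 1 := by
          have h := congrArg Subtype.val (IsKleinFour.mul_self (⟨z, hzP⟩ : (P : Subgroup G)))
          simpa using h
        calc (n : G) * n * a = n * (n * a) := mul_assoc _ _ _
          _ = n * (z * (a * n)) := by rw [h, mul_assoc]
          _ = z * (n * a) * n := by rw [← mul_assoc (n : G) z, hnz]; simp only [mul_assoc]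
          _ = z * z * ((a : G) * (n * n)) := by rw [h]; simp only [mul_assoc]
          _ = (a : G) * (n * n) := by rw [hzz, one_mul]
    have hb2 : b = 2 * (b / 2) + 1 := by omega
    have hc1 : Commute a m := by
      refine Subtype.ext ?_
      simpa using hcomm _ ((hmem a).1 ha) _ ((hmem m).1 hmQ)
    have hc2 : Commute a ((n ^ 2) ^ (b / 2)) := Commute.pow_right (Commute.symm hsq) _
    have hnm : n = ((n ^ 2) ^ (b / 2))⁻¹ * m := by
      rw [hm, ← pow_mul, eq_inv_mul_iff_mul_eq, ← pow_succ, ← hb2]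
    have := hc2.inv_right.mul_right hc1
    rw [← hnm] at this
    exact this.eq
  have hc := MonoidHom.ker_transferSylow_isComplement' (P.subtype hle : Sylow 2 H) hnorm
  refine ⟨_, inferInstance,
    MonoidHom.not_dvd_card_ker_transferSylow (P.subtype hle : Sylow 2 H) hnorm, ?_⟩
  rw [hc.symm.index_eq_card]
  exact hcardQ

private theorem arrange {M : Ideal AlgInt} {a b c : IrrCharacter G} {na nb nc : ℤ}
    (hb : nb = 1 ∨ nb = -1) (ha : na = 1) (hc : nc = -1)
    (hab : a ≠ b) (hac : a ≠ c) (hbc : b ≠ c)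
    (ha1 : (a : G → ℂ) ≠ fun _ => 1) (hb1 : (b : G → ℂ) ≠ fun _ => 1)
    (hB : ∀ χ : IrrCharacter G, χ ∈ principalBlock M G ↔
      (χ : G → ℂ) = (fun _ => 1) ∨ χ = a ∨ χ = b ∨ χ = c)
    (hva : ∀ z : G, orderOf z = 2 → (a : G → ℂ) z = (na : ℂ))
    (hvb : ∀ z : G, orderOf z = 2 → (b : G → ℂ) z = (nb : ℂ))
    (hvc : ∀ z : G, orderOf z = 2 → (c : G → ℂ) z = (nc : ℂ))
    (hda : (4 : ℤ) ∣ (charDegree (a : G → ℂ) : ℤ) - na)
    (hdb : (4 : ℤ) ∣ (charDegree (b : G → ℂ) : ℤ) - nb)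
    (hdc : (4 : ℤ) ∣ (charDegree (c : G → ℂ) : ℤ) - nc)
    (hrel : ∀ y : G, Odd (orderOf y) → 1 + (na : ℂ) * (a : G → ℂ) y + (nb : ℂ) * (b : G → ℂ) y +
      (nc : ℂ) * (c : G → ℂ) y = 0) :
    ∃ ζ₂ ζ₃ ζ₄ : Cfsg.IrrCharacter G, ∃ ε : ℤ, (ε = 1 ∨ ε = -1) ∧ (ζ₂ : G → ℂ) ≠ (fun _ => 1) ∧ (ζ₃ : G → ℂ) ≠ (fun _ => 1) ∧ ζ₂ ≠ ζ₃ ∧ ζ₂ ≠ ζ₄ ∧ ζ₃ ≠ ζ₄ ∧ Cfsg.principalBlock M G = {χ : Cfsg.IrrCharacter G | (χ : G → ℂ) = (fun _ => 1) ∨ χ = ζ₂ ∨ χ = ζ₃ ∨ χ = ζ₄} ∧ (∀ z : G, orderOf z = 2 → (ζ₂ : G → ℂ) z = 1 ∧ (ζ₃ : G → ℂ) z = (ε : ℂ) ∧ (ζ₄ : G → ℂ) z = -1) ∧ (4 : ℤ) ∣ (Cfsg.charDegree (ζ₂ : G → ℂ) : ℤ) - 1 ∧ (4 : ℤ) ∣ (Cfsg.charDegree (ζ₃ : G → ℂ) : ℤ) - ε ∧ (4 : ℤ) ∣ (Cfsg.charDegree (ζ₄ : G → ℂ) : ℤ) + 1 ∧ ∀ y : G, Odd (orderOf y) → 1 + (ζ₂ : G → ℂ) y + (ε : ℂ) * (ζ₃ : G → ℂ) y - (ζ₄ : G → ℂ) y = 0 := by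
  subst ha hc
  refine ⟨a, b, c, nb, hb, ha1, hb1, hab, hac, hbc, Set.ext hB,
    fun z hz => ⟨by simp [hva z hz], hvb z hz, by simp [hvc z hz]⟩, hda, hdb,
    by simpa using hdc, fun y hy => ?_⟩
  have h := hrel y hy
  push_cast at h
  linear_combination h

/-- Let the finite group G have a Sylow 2-subgroup P that is a Klein four-group, suppose all involutions of G are conjugate, and fix a maximal ideal M of the algebraic integers containing 2. Then the principal block consists of exactly four irreducible characters, the principal character and ζ₂, ζ₃, ζ₄, and there is a sign ε such that for every involution z: ζ₂ z = 1, ζ₃ z = ε, ζ₄ z = -1; moreover ζ₂ 1 ≡ 1, ζ₃ 1 ≡ ε, ζ₄ 1 ≡ -1 (mod 4), and 1 + ζ₂ y + ε ζ₃ y - ζ₄ y = 0 for every y of odd order. -/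
theorem result {G : Type*} [Group G] [Finite G] (M : Ideal Cfsg.AlgInt) (hM : Cfsg.IsPModular 2 M) (P : Sylow 2 G) (hP : IsKleinFour (P : Subgroup G)) (hone : ∀ s t : G, orderOf s = 2 → orderOf t = 2 → IsConj s t) : ∃ ζ₂ ζ₃ ζ₄ : Cfsg.IrrCharacter G, ∃ ε : ℤ, (ε = 1 ∨ ε = -1) ∧ (ζ₂ : G → ℂ) ≠ (fun _ => 1) ∧ (ζ₃ : G → ℂ) ≠ (fun _ => 1) ∧ ζ₂ ≠ ζ₃ ∧ ζ₂ ≠ ζ₄ ∧ ζ₃ ≠ ζ₄ ∧ Cfsg.principalBlock M G = {χ : Cfsg.IrrCharacter G | (χ : G → ℂ) = (fun _ => 1) ∨ χ = ζ₂ ∨ χ = ζ₃ ∨ χ = ζ₄} ∧ (∀ z : G, orderOf z = 2 → (ζ₂ : G → ℂ) z = 1 ∧ (ζ₃ : G → ℂ) z = (ε : ℂ) ∧ (ζ₄ : G → ℂ) z = -1) ∧ (4 : ℤ) ∣ (Cfsg.charDegree (ζ₂ : G → ℂ) : ℤ) - 1 ∧ (4 : ℤ) ∣ (Cfsg.charDegree (ζ₃ : G → ℂ) : ℤ) - ε ∧ (4 : ℤ) ∣ (Cfsg.charDegree (ζ₄ : G → ℂ) : ℤ) + 1 ∧ ∀ y : G, Odd (orderOf y) → 1 + (ζ₂ : G → ℂ) y + (ε : ℂ) * (ζ₃ : G → ℂ) y - (ζ₄ : G → ℂ) y = 0 := by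
  classical
  haveI := Fintype.ofFinite G
  haveI : Fact (Nat.Prime 2) := ⟨Nat.prime_two⟩
  haveI := CfsgLib.Blk.IsPModular.isPrime hM
  haveI := hP
  obtain ⟨z, hzP, hz1⟩ : ∃ z ∈ (P : Subgroup G), z ≠ 1 := by
    refine (Subgroup.bot_or_exists_ne_one (P : Subgroup G)).resolve_left fun h => ?_
    have h4 : Nat.card (P : Subgroup G) = 4 := IsKleinFour.card_four
    rw [h, Subgroup.card_bot] at h4
    omega
  have hsqP : ∀ a ∈ (P : Subgroup G), a * a = 1 := fun a ha => by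
    simpa using congrArg Subtype.val (IsKleinFour.mul_self (⟨a, ha⟩ : (P : Subgroup G)))
  have ho2 : ∀ a : G, a ≠ 1 → a * a = 1 → orderOf a = 2 := fun a h1 h2 =>
    orderOf_eq_prime (by rw [pow_two, h2]) h1
  have hzo : orderOf z = 2 := ho2 z hz1 (hsqP z hzP)
  have hpz : ∃ k : ℕ, orderOf z = 2 ^ k := ⟨1, by simp [hzo]⟩
  obtain ⟨N, hN, hN2, hidx⟩ := complement P hP hzP hz1
  haveI := hN
  have hsum := principal_column_sum hM hpz _ rfl N hN2 ⟨2, hidx⟩
  rw [hidx] at hsum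
  have hint : ∀ χ : IrrCharacter G, ∃ n : ℤ, (χ : G → ℂ) z = n := fun χ =>
    char_apply_int_of_sq (isCharacter_of_isIrr χ.2) (hsqP z hzP)
  choose n hn using hint
  obtain ⟨one, hone1⟩ : ∃ o : IrrCharacter G, o = ⟨_, isIrr_one⟩ := ⟨_, rfl⟩
  have hone0 : one ∈ principalBlock M G := hone1 ▸ one_mem_principalBlock
  have honev : ∀ g, (one : G → ℂ) g = 1 := fun g => by rw [hone1]
  obtain ⟨f, hf⟩ : ∃ f : IrrCharacter G → ℤ,
      ∀ χ, f χ = if χ ∈ principalBlock M G then n χ else 0 := ⟨_, fun _ => rfl⟩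
  have hfsum : ∑ χ, f χ ^ 2 = 4 := by
    have h : ((∑ χ, f χ ^ 2 : ℤ) : ℂ) = 4 := by
      rw [show (4 : ℂ) = ((4 : ℕ) : ℂ) by norm_num, ← hsum, Int.cast_sum]
      refine Finset.sum_congr rfl fun χ _ => ?_
      rw [hf]
      split_ifs with hχ
      · rw [hn, map_intCast, Int.cast_pow, sq]
      · simp
    exact_mod_cast h
  have hfone : f one = 1 := by
    rw [hf, if_pos hone0]
    have h : ((n one : ℤ) : ℂ) = 1 := by rw [← hn, honev]
    exact_mod_cast h
  obtain ⟨hpm, hcard⟩ := sq_eq_one_of_sum_sq_eq_four hfsum hfone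
  have hinv : ∀ (χ : IrrCharacter G) (t : G), orderOf t = 2 → (χ : G → ℂ) t = (n χ : ℂ) :=
    fun χ t ht => by rw [classFun_isConj (classFun_of_irr χ.2) (hone t z ht hzo), hn]
  -- no further characters
  have hnz : ∀ χ ∈ principalBlock M G, n χ ≠ 0 := by
    intro χ hχ h0
    have hχne : χ ≠ one := fun h => by
      rw [h, ← if_pos hone0 (t := n one) (e := 0), ← hf, hfone] at h0
      exact one_ne_zero h0
    have hvan : ∀ g : G, 2 ∣ orderOf g → (χ : G → ℂ) g = 0 := by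
      intro g hg
      obtain ⟨x, hx⟩ := exists_isPPart Nat.prime_two g
      obtain ⟨k, hk⟩ : ∃ k : ℕ, orderOf x = 2 ^ k := hx.choose_spec.2.2.1
      have hx1 : x ≠ 1 := by
        rintro rfl
        obtain ⟨s, hs, -, -, hs2⟩ := hx
        rw [one_mul] at hs
        exact hs2 (hs ▸ hg)
      obtain ⟨Q, hQ⟩ := (IsPGroup.of_card (n := k) (by rw [Nat.card_zpowers, hk]) :
        IsPGroup 2 (Subgroup.zpowers x)).exists_le_sylow
      have hx2 : x * x = 1 := by
        have h := IsKleinFour.mul_self ((Q.equiv P) ⟨x, hQ (Subgroup.mem_zpowers x)⟩)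
        rw [← map_mul, MulEquiv.map_eq_one_iff] at h
        simpa using congrArg Subtype.val h
      obtain ⟨c, hc⟩ := isConj_iff.1 (hone x z (ho2 x hx1 hx2) hzo)
      have hx' := isPPart_conj hx c
      rw [hc] at hx'
      obtain ⟨s, hs, hs1, -, hs2⟩ := hx'
      rw [classFun_isConj (classFun_of_irr χ.2) (isConj_iff.2 ⟨c, rfl⟩ : IsConj g (c * g * c⁻¹)),
        ← hs]
      have hsC : s ∈ Subgroup.centralizer ({z} : Set G) :=
        Subgroup.mem_centralizer_singleton_iff.2 hs1.symm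
      rw [principal_apply_mul_eq hM hpz N hN2 (v := ⟨s, hsC⟩)
        ((regular_iff_mem_complement N hN2 ⟨2, hidx⟩ _).1 (by rwa [Subgroup.orderOf_mk])) hχ,
        hn, h0, Int.cast_zero]
    refine omegaBar_regSum_principal hM hχ ?_
    have h := irrChar_inner χ one
    rw [if_neg hχne, classInner_def] at h
    simp only [honev, map_one, mul_one] at h
    have hs := (mul_eq_zero.1 h).resolve_left (inv_ne_zero (natCard_ne_zero G))
    rw [omegaBar, omega_eq, Finset.sum_congr rfl (g := fun g => (χ : G → ℂ) g), hs, zero_div,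
      red_zero]
    intro g _
    rw [coeff_regSum]
    split_ifs with h
    · simp [hvan g h]
    · simp
  have hfn : ∀ χ, f χ ≠ 0 ↔ χ ∈ principalBlock M G := fun χ => by
    rw [hf]; split_ifs with h <;> simp [h, hnz χ]
  have hpm' : ∀ χ ∈ principalBlock M G, n χ = 1 ∨ n χ = -1 := fun χ hχ => by
    have h := hpm χ ((hfn χ).2 hχ)
    rwa [hf, if_pos hχ, sq_eq_one_iff] at h
  rw [Finset.filter_congr (fun χ _ => hfn χ)] at hcard
  have hmem : one ∈ Finset.univ.filter (· ∈ principalBlock M G) := by simpa using hone0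
  obtain ⟨a, b, c, hab, hac, hbc, habc⟩ := Finset.card_eq_three.1
    (show ((Finset.univ.filter (· ∈ principalBlock M G)).erase one).card = 3 by
      rw [Finset.card_erase_of_mem hmem, hcard])
  have hB : ∀ χ : IrrCharacter G, χ ∈ principalBlock M G ↔
      χ = one ∨ χ = a ∨ χ = b ∨ χ = c := fun χ => by
    have h : χ ∈ insert one ((Finset.univ.filter (· ∈ principalBlock M G)).erase one) ↔
        χ = one ∨ χ = a ∨ χ = b ∨ χ = c := by
      rw [habc]; simp
    rw [Finset.insert_erase hmem] at h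
    simpa using h
  have hne : ∀ χ ∈ ({a, b, c} : Finset (IrrCharacter G)), χ ≠ one ∧ χ ∈ principalBlock M G := by
    intro χ hχ
    rw [← habc, Finset.mem_erase, Finset.mem_filter] at hχ
    exact ⟨hχ.1, hχ.2.2⟩
  have ha := hne a (by simp)
  have hb := hne b (by simp)
  have hc := hne c (by simp)
  have hne1 : ∀ χ : IrrCharacter G, χ ≠ one → (χ : G → ℂ) ≠ fun _ => 1 := fun χ h e =>
    h (Subtype.ext (by rw [e]; exact (funext honev).symm))
  have hB' : ∀ χ : IrrCharacter G, χ ∈ principalBlock M G ↔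
      (χ : G → ℂ) = (fun _ => 1) ∨ χ = a ∨ χ = b ∨ χ = c := fun χ => by
    rw [hB, hone1, Subtype.ext_iff]
  have hrel : ∀ y : G, Odd (orderOf y) → 1 + (n a : ℂ) * (a : G → ℂ) y +
      (n b : ℂ) * (b : G → ℂ) y + (n c : ℂ) * (c : G → ℂ) y = 0 := by
    intro y hy
    have hy2 : ¬ 2 ∣ orderOf y := hy.not_two_dvd_nat
    have h := block_orth hM (isPBlock_principalBlock (G := G)) (isPPart_one_of_regular hy2)
      (⟨1, mul_one z, Commute.one_right _, hpz, by simp⟩ : IsPPart 2 z z)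
      (fun hc => hz1 (isConj_one_right.1 hc))
    rw [finsum_mem_eq_sum_ite, ← Finset.sum_filter, ← Finset.insert_erase hmem, habc,
      Finset.sum_insert (by simp [Ne.symm ha.1, Ne.symm hb.1, Ne.symm hc.1]),
      Finset.sum_insert (by simp [hab, hac]), Finset.sum_insert (by simp [hbc]),
      Finset.sum_singleton] at h
    simp only [hn, map_intCast, honev] at h
    have h1 : (n one : ℂ) = 1 := by rw [← hn, honev]
    rw [h1] at h
    linear_combination h
  have hmod : ∀ χ : IrrCharacter G, (4 : ℤ) ∣ (charDegree (χ : G → ℂ) : ℤ) - n χ := by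
    intro χ
    obtain ⟨m, hm⟩ := inner_char_char (isCharacter_restrict (P : Subgroup G)
      (isCharacter_of_isIrr χ.2)) (isCharacter_one (G := (P : Subgroup G)))
    refine ⟨(m : ℤ) - n χ, ?_⟩
    have h4 : Nat.card (P : Subgroup G) = 4 := IsKleinFour.card_four
    have hval : ∀ v : (P : Subgroup G), (χ : G → ℂ) v =
        (n χ : ℂ) + if v = 1 then (charDegree (χ : G → ℂ) : ℂ) - n χ else 0 := by
      intro v
      split_ifs with hv
      · rw [hv, Subgroup.coe_one, irr_one_eq χ.2]; ring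
      · rw [hinv χ v (ho2 _ (fun h => hv (Subtype.ext h)) (hsqP v v.2)), add_zero]
    rw [classInner_def, h4] at hm
    simp only [map_one, mul_one, hval, Finset.sum_add_distrib, Finset.sum_const,
      Finset.sum_ite_eq', Finset.mem_univ, if_true, nsmul_eq_mul, Finset.card_univ,
      ← Nat.card_eq_fintype_card, h4] at hm
    push_cast at hm
    have h5 : ((charDegree (χ : G → ℂ) : ℤ) : ℂ) - (n χ : ℤ) =
        ((4 * ((m : ℤ) - n χ) : ℤ) : ℂ) := by
      push_cast
      linear_combination 4 * hm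
    exact_mod_cast h5
  have hdeg := hrel 1 (by simp)
  rw [irr_one_eq a.2, irr_one_eq b.2, irr_one_eq c.2] at hdeg
  have hdeg' : 1 + n a * (charDegree (a : G → ℂ) : ℤ) + n b * (charDegree (b : G → ℂ) : ℤ) +
      n c * (charDegree (c : G → ℂ) : ℤ) = 0 := by exact_mod_cast hdeg
  have hda := charDegree_pos a.2
  have hdb := charDegree_pos b.2
  have hdc := charDegree_pos c.2
  rcases hpm' a ha.2 with na | na <;> rcases hpm' b hb.2 with nb | nb <;>
    rcases hpm' c hc.2 with nc | nc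
  · rw [na, nb, nc] at hdeg'; omega
  · exact arrange (hpm' b hb.2) na nc hab hac hbc (hne1 a ha.1) (hne1 b hb.1) hB' (hinv a)
      (hinv b) (hinv c) (hmod a) (hmod b) (hmod c) hrel
  · exact arrange (hpm' c hc.2) na nb hac hab hbc.symm (hne1 a ha.1) (hne1 c hc.1)
      (fun χ => (hB' χ).trans (by tauto)) (hinv a) (hinv c) (hinv b) (hmod a) (hmod c) (hmod b)
      (fun y hy => by linear_combination hrel y hy)
  · exact arrange (hpm' b hb.2) na nc hab hac hbc (hne1 a ha.1) (hne1 b hb.1) hB' (hinv a)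
      (hinv b) (hinv c) (hmod a) (hmod b) (hmod c) hrel
  · exact arrange (hpm' c hc.2) nb na hbc hab.symm hac.symm (hne1 b hb.1) (hne1 c hc.1)
      (fun χ => (hB' χ).trans (by tauto)) (hinv b) (hinv c) (hinv a) (hmod b) (hmod c) (hmod a)
      (fun y hy => by linear_combination hrel y hy)
  · exact arrange (hpm' a ha.2) nb nc hab.symm hbc hac (hne1 b hb.1) (hne1 a ha.1)
      (fun χ => (hB' χ).trans (by tauto)) (hinv b) (hinv a) (hinv c) (hmod b) (hmod a) (hmod c)
      (fun y hy => by linear_combination hrel y hy)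
  · exact arrange (hpm' b hb.2) nc na hbc.symm hac.symm hab.symm (hne1 c hc.1) (hne1 b hb.1)
      (fun χ => (hB' χ).trans (by tauto)) (hinv c) (hinv b) (hinv a) (hmod c) (hmod b) (hmod a)
      (fun y hy => by linear_combination hrel y hy)
  · rw [na, nb, nc] at hdeg'; omega

end Cfsg.Agent.S0948
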