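import Cfsg.Statements.S0949
import Cfsg.Agent.Blk.ExcSylow
import Cfsg.Agent.Blk.InvolRel

set_option autoImplicit false
open Cfsg

namespace Cfsg.Agent.S0949

set_option linter.style.haveILetI false
set_option linter.unusedSectionVars false
open CfsgLib.Char CfsgLib.Blk CfsgLib.Blk.Exc CfsgLib.Inv Finset
open scoped ComplexConjugate

universe u

variable {G : Type u} [Group G] [Finite G] (P : Sylow 2 G)

theorem exists_conj_mem [Fact (Nat.Prime 2)] {w : G} (hw : ∃ k : ℕ, orderOf w = 2 ^ k) :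
    ∃ d : G, d * w * d⁻¹ ∈ (P : Subgroup G) := by
  obtain ⟨k, hk⟩ := hw
  obtain ⟨Q, hQ⟩ := (IsPGroup.of_card (p := 2) (G := Subgroup.zpowers w) (n := k)
    (by rw [Nat.card_zpowers, hk])).exists_le_sylow
  obtain ⟨g, hg⟩ := MulAction.exists_smul_eq G Q P
  refine ⟨g, ?_⟩
  rw [← hg, Sylow.coe_subgroup_smul]
  exact ⟨w, hQ (Subgroup.mem_zpowers _), rfl⟩

/-- The arithmetic of three relations. -/
theorem arith {a b δ fA fB f : ℤ} (ha : a = 1 ∨ a = -1) (hb : b = 1 ∨ b = -1)
    (hδ : δ = 1 ∨ δ = -1) (hA0 : 0 < fA) (hB0 : 0 < fB) (hf0 : 0 < f)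
    (hA : (16 : ℤ) ∣ fA - a) (hB : (16 : ℤ) ∣ fB - b)
    (R2 : 1 + a * fA + b * fB - δ * f = 0)
    (R1 : f * fA * fB + a * f * fB + b * f * fA - 9 * δ * fA * fB = 0) :
    a = 1 ∧ b = 1 ∧ δ = 1 ∧ fA = 1 ∧ fB = 1 ∧ f = 3 := by
  have hA15 : a = -1 → 15 ≤ fA := fun h => by subst h; omega
  have hB15 : b = -1 → 15 ≤ fB := fun h => by subst h; omega
  rcases ha with rfl | rfl <;> rcases hb with rfl | rfl <;> rcases hδ with rfl | rfl
  · obtain rfl : f = 1 + fA + fB := by linarith
    have h : fA * (fB - 1) ^ 2 + fB * (fA - 1) ^ 2 + (fA - fB) ^ 2 = 0 := by linear_combination R1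
    have h1 := mul_nonneg hA0.le (sq_nonneg (fB - 1))
    have h2 := mul_nonneg hB0.le (sq_nonneg (fA - 1))
    have h3 := sq_nonneg (fA - fB)
    have e1 : fA * (fB - 1) ^ 2 = 0 := by linarith
    have e2 : fB * (fA - 1) ^ 2 = 0 := by linarith
    rw [mul_eq_zero, sq_eq_zero_iff, sub_eq_zero] at e1 e2
    have hb1 : fB = 1 := e1.resolve_left hA0.ne'
    have ha1 : fA = 1 := e2.resolve_left hB0.ne'
    subst hb1 ha1
    norm_num
  · exfalso
    have := mul_pos hA0 hB0
    have := mul_pos hf0 hA0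
    have := mul_pos hf0 hB0
    have := mul_pos (mul_pos hA0 hB0) hf0
    linarith
  · exfalso
    have h15 := mul_le_mul_of_nonneg_left (hB15 rfl) hA0.le
    obtain ⟨i, hi⟩ := hA
    obtain ⟨j, hj⟩ := hB
    have hlt : f ≤ 10 := by
      by_contra h
      have := mul_nonneg (show (0 : ℤ) ≤ f - 11 by omega)
        (show (0 : ℤ) ≤ fA * fB + fB - fA by linarith)
      linarith
    obtain rfl : f = 3 := by omega
    linarith [mul_le_mul_of_nonneg_left (show (1 : ℤ) ≤ fA by omega) hB0.le]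
  · exfalso
    have h15 := mul_le_mul_of_nonneg_left (hB15 rfl) hA0.le
    have := mul_pos hf0 (show (0 : ℤ) < fA * fB + fB - fA by linarith)
    linarith
  · exfalso
    have h15 := mul_le_mul_of_nonneg_left (hA15 rfl) hB0.le
    obtain ⟨i, hi⟩ := hA
    obtain ⟨j, hj⟩ := hB
    have hlt : f ≤ 10 := by
      by_contra h
      have := mul_nonneg (show (0 : ℤ) ≤ f - 11 by omega)
        (show (0 : ℤ) ≤ fA * fB + fA - fB by linarith)
      linarith
    obtain rfl : f = 3 := by omega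
    linarith [mul_le_mul_of_nonneg_left (show (1 : ℤ) ≤ fB by omega) hA0.le]
  · exfalso
    have h15 := mul_le_mul_of_nonneg_left (hA15 rfl) hB0.le
    have := mul_pos hf0 (show (0 : ℤ) < fA * fB + fA - fB by linarith)
    linarith
  · exfalso
    linarith
  · exfalso
    have h15 := mul_le_mul_of_nonneg_left (hB15 rfl) hA0.le
    have h15' := mul_le_mul_of_nonneg_left (hA15 rfl) hB0.le
    have := mul_pos hf0 (show (0 : ℤ) < fA * fB - fA - fB by linarith)
    linarith

theorem index_three (hO : ∀ N : Subgroup G, N.Normal → Odd (Nat.card N) → N = ⊥)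
    (hab : IsMulCommutative ↥(P : Subgroup G)) (hq : 16 ≤ Nat.card ↥(P : Subgroup G))
    (hsq : ∃ y : ↥(P : Subgroup G), y * y ≠ 1)
    (hCN : (Subgroup.centralizer ((P : Subgroup G) : Set G)).relIndex
      (Subgroup.normalizer ((P : Subgroup G) : Set G)) = 3)
    (hfrob : ∀ y : G, y ∈ (P : Subgroup G) → y ≠ 1 →
      Subgroup.centralizer ({y} : Set G) ⊓ Subgroup.normalizer ((P : Subgroup G) : Set G) =
        Subgroup.centralizer ((P : Subgroup G) : Set G)) :
    (P : Subgroup G).Normal ∧ Subgroup.centralizer ((P : Subgroup G) : Set G) = (P : Subgroup G) ∧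
      (P : Subgroup G).index = 3 := by
  classical
  haveI : Fact (Nat.Prime 2) := ⟨Nat.prime_two⟩
  obtain ⟨M, hM⟩ := CfsgLib.Blk.exists_isPModular (q := 2) Nat.prime_two
  haveI := CfsgLib.Blk.IsPModular.isPrime hM
  haveI := Fintype.ofFinite G
  haveI := hab
  haveI := finite_lin P hab
  haveI : Fintype (Lin P) := Fintype.ofFinite _
  haveI : Fintype ↥(P : Subgroup G) := Fintype.ofFinite _
  haveI : Fintype ↥(Subgroup.normalizer ((P : Subgroup G) : Set G)) := Fintype.ofFinite _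
  set q := Nat.card ↥(P : Subgroup G) with hqdef
  set C := Subgroup.centralizer ((P : Subgroup G) : Set G) with hC
  obtain ⟨D⟩ := exists_data P hM hab hfrob 3 (by omega) hCN
  have htq : D.t * 3 = q - 1 := D.card_eq
  have ht5 : (5 : ℤ) ≤ D.t := by omega
  have hn := D.norm_X
  have hs := D.card_X_le_sum
  have hXpos : (1 : ℤ) ≤ Nat.card D.X := by
    haveI : Nonempty D.X := ⟨⟨_, D.one_mem_X⟩⟩
    exact_mod_cast (Nat.card_pos : 0 < Nat.card D.X)
  push_cast at hn
  have hd : D.d = 0 := by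
    by_contra hd
    have hd2 : 0 < D.d ^ 2 := sq_pos_of_ne_zero hd
    rcases D.sign with h | h <;> rw [h] at hn <;> rcases lt_trichotomy D.d 0 with h' | h' | h' <;>
      nlinarith
  have hsum3 : ∑ᶠ χ ∈ D.X, D.a χ ^ 2 = 3 := by rw [hd] at hn; linarith
  have hfin := finsum_mem_eq_finite_toFinset_sum (fun χ => D.a χ ^ 2) (Set.toFinite D.X)
  have hsmall : ∀ χ ∈ D.X, D.a χ = 1 ∨ D.a χ = -1 := by
    intro χ hχ
    have h : D.a χ ^ 2 ≤ 3 := by
      rw [← hsum3, hfin]
      exact Finset.single_le_sum (f := fun χ => D.a χ ^ 2) (fun x _ => sq_nonneg _)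
        ((Set.Finite.mem_toFinset _).2 hχ)
    have := D.a_ne χ hχ.1 hχ.2
    have : D.a χ < 2 := by nlinarith
    have : -2 < D.a χ := by nlinarith
    omega
  have hX : Nat.card D.X = 3 := by
    have h : ∑ᶠ χ ∈ D.X, D.a χ ^ 2 = (Nat.card D.X : ℤ) := by
      rw [hfin, Nat.card_coe_set_eq, Set.ncard_eq_toFinset_card _ (Set.toFinite _),
        Finset.card_eq_sum_ones, Nat.cast_sum]
      refine Finset.sum_congr rfl fun χ hχ => ?_
      rcases hsmall χ ((Set.Finite.mem_toFinset _).1 hχ) with e | e <;> simp [e]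
    rw [hsum3] at h
    exact_mod_cast h.symm
  -- a linear character trivial on the involutions
  obtain ⟨y₀, hy₀⟩ := hsq
  obtain ⟨ψ, hψ, hψsq⟩ : ∃ ψ : Lin P, ψ ≠ 1 ∧ ∀ w : ↥(P : Subgroup G), w * w = 1 → ψ w = 1 := by
    obtain ⟨χ, hχ⟩ : ∃ χ : Lin P, χ (y₀ * y₀) ≠ 1 := by
      by_contra h
      push Not at h
      have h0 := sum_all_lin P hab hy₀
      simp only [h, Units.val_one, Finset.sum_const, Finset.card_univ, nsmul_eq_mul, mul_one] at h0
      exact Fintype.card_ne_zero (Nat.cast_eq_zero.1 h0)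
    refine ⟨χ * χ, fun h => hχ ?_, fun w hw => ?_⟩
    · rw [map_mul]
      exact DFunLike.congr_fun h y₀
    · rw [MonoidHom.mul_apply, ← map_mul, hw, map_one]
  obtain ⟨t, htP, ht⟩ : ∃ t : G, t ∈ (P : Subgroup G) ∧ orderOf t = 2 := by
    obtain ⟨k, hk⟩ := IsPGroup.iff_card.1 P.2
    have h2 : 2 ∣ q := by
      rw [hqdef, hk]
      refine dvd_pow_self 2 fun h0 => ?_
      rw [hqdef, hk, h0] at hq
      omega
    obtain ⟨t, ht⟩ := exists_prime_orderOf_dvd_card' 2 h2
    exact ⟨t, t.2, by rw [Subgroup.orderOf_coe]; exact ht⟩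
  have htt : t * t = 1 := invol_mul_self ht
  have htinv : t⁻¹ = t := invol_inv ht
  have ht1 : t ≠ 1 := fun e => by simp [e] at ht
  have hsqc : ∀ y : ↥(P : Subgroup G), ψ y ≠ 1 → (y : G) * y ≠ 1 := fun y hy e =>
    hy (hψsq y (Subtype.ext e))
  have hodd3 : ∀ n : ↥(Subgroup.normalizer ((P : Subgroup G) : Set G)), (n : G) ^ 3 ∈ C := by
    intro n
    haveI : (C.subgroupOf (Subgroup.normalizer ((P : Subgroup G) : Set G))).Normal := by
      refine ⟨fun c hc k => Subgroup.mem_subgroupOf.2 fun w hw => ?_⟩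
      have h1 : (k : G)⁻¹ * w * k ∈ (P : Subgroup G) := (cjP P k ⟨w, hw⟩).2
      have h2 := Subgroup.mem_subgroupOf.1 hc _ h1
      simp only [Subgroup.coe_mul, Subgroup.coe_inv]
      calc w * ((k : G) * c * (k : G)⁻¹) = k * ((k : G)⁻¹ * w * k * c) * (k : G)⁻¹ := by group
        _ = (k : G) * c * (k : G)⁻¹ * w := by rw [h2]; group
    have h := Subgroup.pow_index_mem (C.subgroupOf (Subgroup.normalizer ((P : Subgroup G) : Set G))) n
    rw [show (C.subgroupOf (Subgroup.normalizer ((P : Subgroup G) : Set G))).index = 3 from hCN] at h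
    simpa [Subgroup.mem_subgroupOf] using h
  have hinv : ∀ y : G, y ∈ (P : Subgroup G) → IsConj y y⁻¹ → y * y = 1 := by
    intro y hy hc
    by_cases hy1 : y = 1
    · simp [hy1]
    obtain ⟨n, hn⟩ := fusion P hab hy (inv_mem hy) hc
    have h2 : ((n ^ 2 : ↥(Subgroup.normalizer ((P : Subgroup G) : Set G))) : G) ∈ C := by
      refine (fix_iff P hfrob hy hy1 _).1 ?_
      push_cast
      calc (n : G) ^ 2 * y * ((n : G) ^ 2)⁻¹ = n * (n * y * (n : G)⁻¹) * (n : G)⁻¹ := by rw [pow_two]; group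
        _ = n * y⁻¹ * (n : G)⁻¹ := by rw [hn]
        _ = (n * y * (n : G)⁻¹)⁻¹ := by group
        _ = y := by rw [hn, inv_inv]
    have h1 : (n : G) ∈ C := by
      have := C.mul_mem (C.inv_mem h2) (hodd3 n)
      push_cast at this
      simpa [pow_succ, mul_assoc] using this
    have e := (fix_iff P hfrob hy hy1 n).2 h1
    rw [hn] at e
    exact inv_eq_iff_mul_eq_one.1 e
  have hθ : ∀ y : ↥(P : Subgroup G), (1 - conj (ψ y : ℂ)) ≠ 0 → ψ y ≠ 1 := fun y hy e => hy (by simp [e])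
  let V : IrrCharacter G → ℤ := fun χ => D.a χ - D.δ * (if D.μ (D.idx ψ) = χ then 1 else 0)
  have hrel := invol_relations hM (isPBlock_principalBlock (G := G)) (P := (P : Subgroup G)) P.2 ht
    (fun y => 1 - conj (ψ y : ℂ)) (q : ℂ)⁻¹ (fun χ => (V χ : ℂ))
    (fun χ hχ => D.coef ψ hψ χ hχ)
    (fun y hy e => hsqc y (hθ y hy) (by rw [e, one_mul]))
    (fun _ y hy hc => hsqc y (hθ y hy) (by
      obtain ⟨c, hc'⟩ := isConj_iff.1 hc.symm
      rw [← hc']
      calc c * t * c⁻¹ * (c * t * c⁻¹) = c * (t * t) * c⁻¹ := by group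
        _ = 1 := by rw [htt]; group))
    (fun y hy s x hs hx hc => hsqc y (hθ y hy) (hinv _ y.2 (by
      have hs2 : s⁻¹ = s := by
        obtain ⟨c, rfl⟩ := isConj_iff.1 hs
        rw [mul_inv_rev, mul_inv_rev, inv_inv, htinv, mul_assoc]
      have hzt : t * (s * t)⁻¹ * t⁻¹ = ((s * t)⁻¹)⁻¹ := by
        rw [inv_inv, mul_inv_rev, hs2, htinv, ← mul_assoc, htt, one_mul]
      have h1 := isPPart_conj hx t
      rw [hzt] at h1
      have htx : t * x * t⁻¹ = x⁻¹ := isPPart_unique Fact.out h1 (isPPart_inv hx)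
      obtain ⟨c, hc⟩ := isConj_iff.1 hc.symm
      refine isConj_iff.2 ⟨c * t * c⁻¹, ?_⟩
      rw [← hc]
      calc c * t * c⁻¹ * (c * x * c⁻¹) * (c * t * c⁻¹)⁻¹ = c * (t * x * t⁻¹) * c⁻¹ := by group
        _ = (c * x * c⁻¹)⁻¹ := by rw [htx]; group)))
  simp only [← finsum_mem_eq_sum_ite] at hrel
  obtain ⟨A, A', hAA, hXeq⟩ : ∃ A A', A ≠ A' ∧
      D.X \ {(⟨_, isIrr_one⟩ : IrrCharacter G)} = {A, A'} := by
    refine Set.ncard_eq_two.1 ?_
    rw [Set.ncard_sdiff_singleton_of_mem D.one_mem_X, ← Nat.card_coe_set_eq, hX]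
  set one : IrrCharacter G := ⟨_, isIrr_one⟩ with hone
  have hA : A ∈ D.X \ {one} := by rw [hXeq]; simp
  have hA' : A' ∈ D.X \ {one} := by rw [hXeq]; simp
  have hXset : D.X = insert one {A, A'} := by
    rw [← hXeq, Set.insert_sdiff_singleton, Set.insert_eq_of_mem D.one_mem_X]
  set j := D.idx ψ with hj
  have hXsum : ∀ F : IrrCharacter G → ℂ, ∑ᶠ χ ∈ D.X, F χ = F one + (F A + F A') := by
    intro F
    rw [hXset, finsum_mem_insert _ (by
        simp only [Set.mem_insert_iff, Set.mem_singleton_iff, not_or]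
        exact ⟨fun e => hA.2 e.symm, fun e => hA'.2 e.symm⟩) (Set.toFinite _),
      finsum_mem_pair hAA]
  have hVX : ∀ χ ∈ D.X, V χ = D.a χ := fun χ hχ => by
    simp only [V, if_neg (hχ.2 _), mul_zero, sub_zero]
  have hsum : ∀ F : IrrCharacter G → ℂ, ∑ᶠ χ ∈ principalBlock M G, (V χ : ℂ) * F χ =
      F one + (D.a A : ℂ) * F A + (D.a A' : ℂ) * F A' + (-D.δ : ℂ) * F (D.μ j) := by
    intro F
    rw [D.sum_split, hXsum, hVX one D.one_mem_X, hVX A hA.1, hVX A' hA'.1, hone, D.a_one,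
      Finset.sum_eq_single j (fun i _ h => by
        have h' : D.μ (D.idx ψ) ≠ D.μ i := fun e => h (D.inj e).symm
        simp [V, D.a_μ, hd, h']) (by simp)]
    simp [V, D.a_μ, hd, hj]
    ring
  obtain ⟨f, hf⟩ : ∃ f : IrrCharacter G → ℤ, ∀ χ : IrrCharacter G, f χ = (charDegree (χ : G → ℂ) : ℤ) :=
    ⟨_, fun _ => rfl⟩
  have hfC : ∀ χ : IrrCharacter G, (χ : G → ℂ) 1 = (f χ : ℂ) := fun χ => by
    rw [irr_one_eq χ.2, hf, Int.cast_natCast]
  have hfpos : ∀ χ, 0 < f χ := fun χ => by rw [hf]; exact_mod_cast charDegree_pos χ.2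
  have hval : ∀ χ ∈ D.X, ∀ y : G, y ∈ (P : Subgroup G) → y ≠ 1 → (χ : G → ℂ) y = (D.a χ : ℂ) := by
    intro χ hχ y hy hy1
    obtain ⟨k, hk⟩ := IsPGroup.iff_orderOf.1 P.2 ⟨y, hy⟩
    exact D.value χ hχ.1 hχ.2 y y (isPPart_self ⟨k, by rw [← hk, Subgroup.orderOf_mk]⟩ Fact.out) hy hy1
  have hcongr : ∀ χ ∈ D.X, (16 : ℤ) ∣ f χ - D.a χ := by
    intro χ hχ
    obtain ⟨c, hc⟩ := inner_char_irr (isCharacter_restrict (P : Subgroup G) (isCharacter_of_isIrr χ.2))
      (irr_lin P 1)
    rw [classInner_def, inv_mul_eq_iff_eq_mul₀ (natCard_ne_zero _),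
      Finset.sum_eq_add_sum_sdiff_singleton_of_mem (Finset.mem_univ (1 : ↥(P : Subgroup G))),
      Finset.sum_congr rfl (g := fun _ => (D.a χ : ℂ)) fun y hy => ?_] at hc
    swap
    · rw [Finset.mem_sdiff, Finset.mem_singleton] at hy
      rw [hval χ hχ y y.2 fun e => hy.2 (Subtype.ext e)]
      simp
    rw [Finset.sum_const, ← Finset.compl_eq_univ_sdiff, Finset.card_compl, Finset.card_singleton,
      ← Nat.card_eq_fintype_card, ← hqdef, nsmul_eq_mul, OneMemClass.coe_one, hfC,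
      Nat.cast_sub (by omega), Nat.cast_one] at hc
    simp only [MonoidHom.one_apply, Units.val_one, map_one, mul_one] at hc
    have h : f χ - D.a χ = (q : ℤ) * ((c : ℤ) - D.a χ) := by
      apply Int.cast_injective (α := ℂ)
      push_cast
      linear_combination hc
    rw [h]
    refine Dvd.dvd.mul_right ?_ _
    obtain ⟨k, hk⟩ := IsPGroup.iff_card.1 P.2
    rw [← hqdef] at hk
    have h4 : 4 ≤ k := by
      by_contra h4
      have := Nat.pow_le_pow_right (show 0 < 2 by norm_num) (show k ≤ 3 by omega)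
      omega
    rw [hk, Nat.cast_pow]
    exact pow_dvd_pow 2 h4
  obtain ⟨r2, r3, r1⟩ := hrel
  rw [hsum] at r1 r2 r3
  rw [hval A hA.1 t htP ht1, hval A' hA'.1 t htP ht1] at r1 r3
  simp only [hone, mul_one, one_pow, hfC] at r1 r2 r3
  rw [← hone] at r1 r2
  have hf1 : f one = 1 := by
    have h : (f one : ℂ) = 1 := by rw [← hfC]
    exact_mod_cast h
  rw [hf1, Int.cast_one] at r1 r2
  generalize hZ : (D.μ j : G → ℂ) t = Z at r1 r3
  have haa : (D.a A : ℂ) * D.a A = 1 := by rcases hsmall A hA.1 with h | h <;> simp [h]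
  have hbb : (D.a A' : ℂ) * D.a A' = 1 := by rcases hsmall A' hA'.1 with h | h <;> simp [h]
  have hdd : (D.δ : ℂ) * D.δ = 1 := by rcases D.sign with h | h <;> simp [h]
  have hZ3 : Z = 3 * D.δ := by linear_combination (-(D.δ : ℂ)) * r3 + (-Z) * hdd + (D.δ : ℂ) * haa +
    (D.δ : ℂ) * hbb
  obtain ⟨ha1, hb1, hδ1, hfA, hfB, hf3⟩ := arith (hsmall A hA.1) (hsmall A' hA'.1) D.sign (hfpos A)
    (hfpos A') (hfpos (D.μ j)) (hcongr A hA.1) (hcongr A' hA'.1) (by
      apply Int.cast_injective (α := ℂ)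
      push_cast
      linear_combination r2) (by
      apply Int.cast_injective (α := ℂ)
      push_cast
      have n1 : (f A : ℂ) ≠ 0 := by exact_mod_cast (hfpos A).ne'
      have n2 : (f A' : ℂ) ≠ 0 := by exact_mod_cast (hfpos A').ne'
      have n3 : (f (D.μ j) : ℂ) ≠ 0 := by exact_mod_cast (hfpos (D.μ j)).ne'
      rw [hZ3, mul_pow, show (D.δ : ℂ) ^ 2 = 1 by rw [pow_two, hdd],
        show (D.a A : ℂ) ^ 2 = 1 by rw [pow_two, haa],
        show (D.a A' : ℂ) ^ 2 = 1 by rw [pow_two, hbb]] at r1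
      field_simp at r1
      linear_combination r1)
  have hdeg : ∀ i, (D.μ i : G → ℂ) 1 = 3 := by
    intro i
    rw [D.regular_eq i j (g := 1) (by simp), hfC, hf3]
    norm_num
  -- the joint kernel of the block
  choose K hKn hKmem hKtr using fun χ : IrrCharacter G => exists_kernel (isCharacter_of_isIrr χ.2)
  let J : Subgroup G := ⨅ χ ∈ principalBlock M G, K χ
  haveI hJn : J.Normal := Subgroup.normal_iInf_normal fun χ => Subgroup.normal_iInf_normal fun _ => hKn χ
  have hJ : ∀ g, g ∈ J ↔ ∀ χ ∈ principalBlock M G, (χ : G → ℂ) g = (χ : G → ℂ) 1 := fun g => by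
    simp only [J, Subgroup.mem_iInf, hKmem]
  have hJP : ∀ y ∈ J, y ∈ (P : Subgroup G) → y = 1 := by
    intro y hyJ hyP
    by_contra hy1
    have h := column_orth P hab hfrob hM (M := M) hyP hy1 hyP
    rw [card_conj_fiber P hfrob hyP hy1 1 (by simp), ← finsum_mem_eq_sum_ite] at h
    have e : ∀ χ : IrrCharacter G, χ ∈ principalBlock M G →
        (χ : G → ℂ) y * conj ((χ : G → ℂ) y) = (f χ : ℂ) ^ 2 := fun χ hχ => by
      rw [(hJ y).1 hyJ χ hχ, hfC, map_intCast, pow_two]
    rw [finsum_mem_congr rfl e, D.sum_split, hXsum, hf1, hfA, hfB,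
      Finset.sum_congr rfl (g := fun _ => (9 : ℂ)) fun i _ => by
        rw [← hfC, hdeg i]; norm_num] at h
    rw [Finset.sum_const, Finset.card_univ, Fintype.card_fin, nsmul_eq_mul, ← hqdef] at h
    have h' := mul_right_cancel₀ (natCard_ne_zero ↥C) h
    have h'' : (1 + (1 + 1) + D.t * 9 : ℕ) = q := by
      push_cast at h'
      exact_mod_cast h'
    omega
  have hJbot : J = ⊥ := by
    refine hO J hJn (Nat.odd_iff.2 (Nat.two_dvd_ne_zero.1 fun h2 => ?_))
    obtain ⟨x, hx⟩ := exists_prime_orderOf_dvd_card' 2 h2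
    obtain ⟨d, hd⟩ := exists_conj_mem P (w := (x : G)) ⟨1, by rw [Subgroup.orderOf_coe, hx, pow_one]⟩
    have := conj_eq_one_iff.1 (hJP _ (hJn.conj_mem _ x.2 d) hd)
    rw [← Subgroup.orderOf_coe, this, orderOf_one] at hx
    omega
  -- the kernel of the linear characters
  let L : Subgroup G := K A ⊓ K A'
  haveI hLn : L.Normal := by
    haveI := hKn A
    haveI := hKn A'
    infer_instance
  have hPL : (P : Subgroup G) ≤ L := by
    intro y hy
    by_cases hy1 : y = 1
    · rw [hy1]; exact one_mem _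
    refine Subgroup.mem_inf.2 ⟨(hKmem A y).2 ?_, (hKmem A' y).2 ?_⟩
    · rw [hval A hA.1 y hy hy1, hfC, hfA, ha1]
    · rw [hval A' hA'.1 y hy hy1, hfC, hfB, hb1]
  have hreg : ∀ v ∈ L, ¬ 2 ∣ orderOf v → v = 1 := by
    intro v hv hodd
    have hAv := (hKmem A v).1 (Subgroup.mem_inf.1 hv).1
    have hAv' := (hKmem A' v).1 (Subgroup.mem_inf.1 hv).2
    have hη : ∀ i, (D.μ i : G → ℂ) v = 3 := by
      intro i
      have h := D.regular_X i hodd
      rw [hXsum fun χ => (D.a χ : ℂ) * (χ : G → ℂ) v, hAv, hAv', hfC, hfC, hfA, hfB, ha1, hb1, hd, hδ1,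
        hone, D.a_one] at h
      push_cast at h
      linear_combination -h
    have hvJ : v ∈ J := by
      rw [hJ]
      intro χ hχ
      rw [D.block_eq, hXset] at hχ
      rcases hχ with (rfl | rfl | rfl) | ⟨i, rfl⟩
      · rfl
      · exact hAv
      · exact hAv'
      · rw [hη, hdeg]
    rwa [hJbot, Subgroup.mem_bot] at hvJ
  have hL2 : IsPGroup 2 L := by
    refine IsPGroup.iff_orderOf.2 fun v => ?_
    obtain ⟨x, u, hu, hcomm, ⟨k, hk⟩, hur⟩ := exists_isPPart (p := 2) Fact.out (v : G)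
    refine ⟨k, ?_⟩
    have hxL : x ∈ L := by
      obtain ⟨d, hd⟩ := exists_conj_mem P (w := x) ⟨k, hk⟩
      simpa [mul_assoc] using hLn.conj_mem _ (hPL hd) d⁻¹
    have hu1 : u = 1 := by
      refine hreg u ?_ hur
      have := mul_mem (inv_mem hxL) v.2
      rwa [← hu, inv_mul_cancel_left] at this
    rw [hu1, mul_one] at hu
    rw [← Subgroup.orderOf_coe, ← hu, hk]
  have hLP : L = (P : Subgroup G) := P.3 hL2 hPL
  have hPn : (P : Subgroup G).Normal := hLP ▸ hLn
  have hCP : C = (P : Subgroup G) := by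
    refine le_antisymm (fun g hg => ?_) fun y hy => mem_centralizer_self P hab hy
    -- the odd part is trivial
    obtain ⟨x, u, hu, hcomm, ⟨k, hk⟩, hur⟩ := exists_isPPart (p := 2) Fact.out g
    obtain ⟨N, hNn, hN, hidx⟩ := exists_complement P hab hfrob htP ht1
    obtain ⟨l, hl⟩ := IsPGroup.iff_card.1 P.2
    have hCH : C ≤ Subgroup.centralizer ({t} : Set G) := fun w hw =>
      Subgroup.mem_centralizer_singleton_iff.2 (hw t htP).symm
    have hmem : ∀ w (hw : w ∈ C), ¬ 2 ∣ orderOf w ↔ (⟨w, hCH hw⟩ : Subgroup.centralizer ({t} : Set G)) ∈ N :=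
      fun w hw => by
        rw [← regular_iff_mem_complement N hN ⟨l, hidx.trans hl⟩, ← Subgroup.orderOf_coe]
    let E : Subgroup G := N.map (Subgroup.centralizer ({t} : Set G)).subtype ⊓ C
    haveI := hPn
    haveI hCn : C.Normal := by rw [hC]; infer_instance
    have hEn : E.Normal := ⟨fun w hw c => by
      obtain ⟨⟨w', hw', rfl⟩, hwC⟩ := Subgroup.mem_inf.1 hw
      have hreg' : ¬ 2 ∣ orderOf (w' : G) := (hmem _ hwC).2 hw'
      have hcw := hCn.conj_mem _ hwC c
      have hreg'' : ¬ 2 ∣ orderOf (c * (w' : G) * c⁻¹) := by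
        have h : orderOf (c * (w' : G) * c⁻¹) = orderOf (w' : G) := (MulAut.conj c).orderOf_eq _
        rwa [h]
      exact Subgroup.mem_inf.2 ⟨⟨_, (hmem _ hcw).1 hreg'', rfl⟩, hcw⟩⟩
    have hE : E = ⊥ := by
      refine hO E hEn (Nat.odd_iff.2 (Nat.two_dvd_ne_zero.1 fun h2 => hN ?_))
      refine h2.trans ((Subgroup.card_dvd_of_le inf_le_left).trans ?_)
      rw [Subgroup.card_map_of_injective Subtype.val_injective]
    have hxP : x ∈ (P : Subgroup G) := by
      obtain ⟨d, hd⟩ := exists_conj_mem P (w := x) ⟨k, hk⟩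
      simpa [mul_assoc] using hPn.conj_mem _ hd d⁻¹
    have huC : u ∈ C := by
      have := mul_mem (inv_mem (mem_centralizer_self P hab hxP)) hg
      rwa [← hu, inv_mul_cancel_left] at this
    have hu1 : u = 1 := by
      rw [← Subgroup.mem_bot, ← hE]
      exact Subgroup.mem_inf.2 ⟨⟨_, (hmem u huC).1 hur, rfl⟩, huC⟩
    rw [← hu, hu1, mul_one]
    exact hxP
  refine ⟨hPn, hCP, ?_⟩
  haveI := hPn
  rw [← hCP, ← Subgroup.relIndex_top_right, ← Subgroup.normalizer_eq_top (H := (P : Subgroup G))]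
  exact hCN

/-- Let the finite group G have a Sylow 2-subgroup P isomorphic to Z/2^m × Z/2^m with m ≥ 2, and suppose G has no nontrivial normal subgroup of odd order. Then P is normal in G, C_G(P) = P, and the index of P is 1 or 3. -/
theorem result {G : Type*} [Group G] [Finite G] (P : Sylow 2 G) (m : ℕ) (hm : 2 ≤ m) (e : (P : Subgroup G) ≃* Multiplicative (ZMod (2 ^ m) × ZMod (2 ^ m))) (hO : ∀ N : Subgroup G, N.Normal → Odd (Nat.card N) → N = ⊥) : (P : Subgroup G).Normal ∧ Subgroup.centralizer (P : Set G) = (P : Subgroup G) ∧ ((P : Subgroup G).index = 1 ∨ (P : Subgroup G).index = 3) := by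
  classical
  haveI : Fact (Nat.Prime 2) := ⟨Nat.prime_two⟩
  haveI : NeZero (2 ^ m) := ⟨pow_ne_zero _ two_ne_zero⟩
  haveI : Fintype ↥(P : Subgroup G) := Fintype.ofFinite _
  have hab : IsMulCommutative ↥(P : Subgroup G) := ⟨⟨fun a b => e.injective (by rw [map_mul, map_mul, mul_comm])⟩⟩
  have hq : 16 ≤ Nat.card ↥(P : Subgroup G) := by
    rw [Nat.card_congr e.toEquiv, Nat.card_congr Multiplicative.toAdd, Nat.card_prod, Nat.card_zmod]
    calc 16 = 2 ^ 2 * 2 ^ 2 := by norm_num
      _ ≤ _ := Nat.mul_le_mul (Nat.pow_le_pow_right (by norm_num) hm) (Nat.pow_le_pow_right (by norm_num) hm)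
  have hsq : ∃ y : ↥(P : Subgroup G), y * y ≠ 1 := by
    refine ⟨e.symm (Multiplicative.ofAdd (1, 0)), fun h => ?_⟩
    have h' := congrArg (fun z => (Multiplicative.toAdd (e z)).1) h
    simp only [map_mul, MulEquiv.apply_symm_apply, map_one, toAdd_mul, toAdd_ofAdd, toAdd_one,
      Prod.fst_add, Prod.fst_zero, one_add_one_eq_two] at h'
    have : 2 ^ m ∣ 2 := (ZMod.natCast_eq_zero_iff _ _).1 (by exact_mod_cast h')
    have := Nat.le_of_dvd two_pos this
    have := Nat.pow_le_pow_right (show 0 < 2 by norm_num) hm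
    omega
  set C := Subgroup.centralizer ((P : Subgroup G) : Set G) with hC
  set N := Subgroup.normalizer ((P : Subgroup G) : Set G) with hN
  haveI hCn : (C.subgroupOf N).Normal := by
    refine ⟨fun c hc k => Subgroup.mem_subgroupOf.2 fun w hw => ?_⟩
    have h1 : (k : G)⁻¹ * w * k ∈ (P : Subgroup G) := (cjP P k ⟨w, hw⟩).2
    have h2 := Subgroup.mem_subgroupOf.1 hc _ h1
    simp only [Subgroup.coe_mul, Subgroup.coe_inv]
    calc w * ((k : G) * c * (k : G)⁻¹) = k * ((k : G)⁻¹ * w * k * c) * (k : G)⁻¹ := by group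
      _ = (k : G) * c * (k : G)⁻¹ * w := by rw [h2]; group
  set o := C.relIndex N with ho
  have hodd : Odd o := by
    refine Nat.odd_iff.2 (Nat.two_dvd_ne_zero.1 fun h2 => P.not_dvd_index (h2.trans ?_))
    have hPC : (P : Subgroup G) ≤ C := fun y hy => mem_centralizer_self P hab hy
    exact (Subgroup.relIndex_dvd_index_of_le (Subgroup.centralizer_le_normalizer _)).trans (Subgroup.index_dvd_of_le hPC)
  have hpow : ∀ n : N, (n : G) ^ o ∈ C := fun n => by
    simpa [Subgroup.mem_subgroupOf, ho, Subgroup.relIndex] using Subgroup.pow_index_mem (C.subgroupOf N) n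
  -- an element fixing the involutions centralizes
  have hfix : ∀ n : N, (∀ y : G, y ∈ (P : Subgroup G) → y * y = 1 → (n : G) * y * (n : G)⁻¹ = y) →
      (n : G) ∈ C := by
    intro n hn w hw
    suffices h : ∀ k : ℕ, ∀ y : G, y ∈ (P : Subgroup G) → y ^ 2 ^ k = 1 → (n : G) * y * (n : G)⁻¹ = y by
      obtain ⟨k, hk⟩ := IsPGroup.iff_orderOf.1 P.2 ⟨w, hw⟩
      rw [Subgroup.orderOf_mk] at hk
      exact (mul_inv_eq_iff_eq_mul.1 (h k w hw (by rw [← hk, pow_orderOf_eq_one]))).symm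
    intro k
    induction k with
    | zero => intro y _ hy; rw [pow_zero, pow_one] at hy; simp [hy]
    | succ k ih =>
      intro y hy hyk
      have hy2 := ih (y * y) (mul_mem hy hy) (by rw [← pow_two, ← pow_mul, ← pow_succ', hyk])
      have hny : (n : G) * y * (n : G)⁻¹ ∈ (P : Subgroup G) := (Subgroup.mem_normalizer_iff.1 n.2 y).1 hy
      set z := y⁻¹ * ((n : G) * y * (n : G)⁻¹) with hz
      have hcomm : ∀ a b : G, a ∈ (P : Subgroup G) → b ∈ (P : Subgroup G) → a * b = b * a :=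
        fun a b ha hb => congrArg Subtype.val (hab.is_comm.comm ⟨a, ha⟩ ⟨b, hb⟩)
      have hz2 : z * z = 1 := by
        rw [hz, hcomm y⁻¹ _ (inv_mem hy) hny]
        calc (n : G) * y * (n : G)⁻¹ * y⁻¹ * ((n : G) * y * (n : G)⁻¹ * y⁻¹)
            = (n : G) * y * (n : G)⁻¹ * (y⁻¹ * ((n : G) * y * (n : G)⁻¹)) * y⁻¹ := by group
          _ = (n : G) * (y * y) * (n : G)⁻¹ * (y * y)⁻¹ := by
            rw [hcomm y⁻¹ _ (inv_mem hy) hny]; group
          _ = 1 := by rw [hy2, mul_inv_cancel]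
      have hzf := hn z (mul_mem (inv_mem hy) hny) hz2
      have hn2 : (n : G) ^ 2 ∈ Subgroup.centralizer ({y} : Set G) := by
        rw [Subgroup.mem_centralizer_singleton_iff, ← mul_inv_eq_iff_eq_mul]
        have e1 : (n : G) * y * (n : G)⁻¹ = y * z := by rw [hz, mul_inv_cancel_left]
        calc (n : G) ^ 2 * y * ((n : G) ^ 2)⁻¹ = n * (n * y * (n : G)⁻¹) * (n : G)⁻¹ := by
              rw [pow_two]; group
          _ = n * (y * z) * (n : G)⁻¹ := by rw [e1]
          _ = (n * y * (n : G)⁻¹) * (n * z * (n : G)⁻¹) := by group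
          _ = y * (z * z) := by rw [e1, hzf, mul_assoc]
          _ = y := by rw [hz2, mul_one]
      have hno : (n : G) ^ o ∈ Subgroup.centralizer ({y} : Set G) :=
        Subgroup.mem_centralizer_singleton_iff.2 (hpow n y hy).symm
      obtain ⟨r, hr⟩ := hodd
      have hn1 := mul_mem (inv_mem (pow_mem hn2 r)) hno
      rw [hr, ← pow_mul, pow_succ _ (2 * r), inv_mul_cancel_left, Subgroup.mem_centralizer_singleton_iff] at hn1
      rw [mul_inv_eq_iff_eq_mul, hn1]
  -- the action on the involutions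
  let Ω := {y : ↥(P : Subgroup G) // y * y = 1 ∧ y ≠ 1}
  haveI : Fintype Ω := Fintype.ofFinite _
  have hΩ : Fintype.card Ω ≤ 3 := by
    have hS : (univ.filter fun a : ZMod (2 ^ m) => 2 • a = 0).card ≤ 2 :=
      IsAddCyclic.card_nsmul_eq_zero_le two_pos
    have hT : (univ.filter fun y : ↥(P : Subgroup G) => y * y = 1).card ≤ 4 := by
      refine le_trans (Finset.card_le_card_of_injOn (fun y => Multiplicative.toAdd (e y))
        (t := (univ.filter fun a : ZMod (2 ^ m) => 2 • a = 0) ×ˢ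
          (univ.filter fun a : ZMod (2 ^ m) => 2 • a = 0)) ?_ fun a _ b _ h => e.injective (Multiplicative.toAdd.injective h)) ?_
      · intro y hy
        have h := congrArg (fun z => Multiplicative.toAdd (e z)) (Finset.mem_filter.1 hy).2
        simp only [map_mul, map_one, toAdd_mul, toAdd_one, Prod.ext_iff, Prod.fst_add, Prod.snd_add,
          Prod.fst_zero, Prod.snd_zero] at h
        simp [two_mul, two_nsmul, h.1, h.2]
      · rw [Finset.card_product]
        calc _ ≤ 2 * 2 := Nat.mul_le_mul hS hS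
          _ = 4 := rfl
    have : Fintype.card Ω = ((univ.filter fun y : ↥(P : Subgroup G) => y * y = 1).erase 1).card :=
      Fintype.card_of_subtype _ fun y => by simp [and_comm]
    rw [this, Finset.card_erase_of_mem (by simp)]
    omega
  let act : N → Ω → Ω := fun n y => ⟨cjP P n⁻¹ y.1, by rw [← map_mul, y.2.1, map_one],
    fun h => y.2.2 (Subtype.ext (by
      have h' := congrArg Subtype.val h
      simp only [coe_cjP, Subgroup.coe_inv, inv_inv, OneMemClass.coe_one] at h'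
      exact conj_eq_one_iff.1 h'))⟩
  have hact : ∀ n y, ((act n y).1 : G) = (n : G) * y.1 * (n : G)⁻¹ := fun n y => by simp [act]
  have hmul : ∀ n k y, act (n * k) y = act n (act k y) := fun n k y =>
    Subtype.ext (Subtype.ext (by simp only [hact, Subgroup.coe_mul]; group))
  have hone : ∀ y, act 1 y = y := fun y => Subtype.ext (Subtype.ext (by simp [hact]))
  let φ : N →* Equiv.Perm Ω :=
    MonoidHom.mk' (fun n => ⟨act n, act n⁻¹, fun y => by rw [← hmul, inv_mul_cancel, hone],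
      fun y => by rw [← hmul, mul_inv_cancel, hone]⟩) fun n k => Equiv.ext fun y => hmul n k y
  have hker : φ.ker = C.subgroupOf N := by
    ext n
    rw [MonoidHom.mem_ker, Subgroup.mem_subgroupOf]
    refine ⟨fun h => hfix n fun y hy hy2 => ?_, fun h => Equiv.ext fun y => Subtype.ext (Subtype.ext ?_)⟩
    · by_cases hy1 : y = 1
      · simp [hy1]
      · have h' := congrArg (fun π : Equiv.Perm Ω => ((π ⟨⟨y, hy⟩, Subtype.ext hy2,
          fun e => hy1 (congrArg Subtype.val e)⟩).1 : G)) h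
        simpa [φ, hact] using h'
    · show ((act n y).1 : G) = y.1
      rw [hact, mul_inv_eq_iff_eq_mul]
      exact (h (y.1 : G) y.1.2).symm
  have ho13 : o = 1 ∨ o = 3 := by
    have h : o ∣ Nat.card (Equiv.Perm Ω) := by
      rw [ho, Subgroup.relIndex, ← hker, Subgroup.index_ker]
      exact Subgroup.card_subgroup_dvd_card _
    rw [Nat.card_perm, Nat.card_eq_fintype_card] at h
    have h6 : o ∣ 6 := h.trans (Nat.factorial_dvd_factorial hΩ)
    have hle := Nat.le_of_dvd (by norm_num) h6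
    obtain ⟨r, hr⟩ := hodd
    clear_value o
    interval_cases o <;> omega
  rcases ho13 with h1 | h3
  · -- Burnside
    have hnc : HasNormalPComplement 2 G := by
      refine CfsgLib.Solv.hnpc_of_normalizer_le_centralizer P ?_
      exact Subgroup.relIndex_eq_one.1 h1
    obtain ⟨S, K, hKn, hKS⟩ := hnc
    have hK : K = ⊥ := by
      refine hO K hKn (Nat.odd_iff.2 (Nat.two_dvd_ne_zero.1 fun h2 => S.not_dvd_index ?_))
      rwa [hKS.index_eq_card]
    have hS : (S : Subgroup G) = ⊤ := by rwa [hK, Subgroup.isComplement'_bot_left] at hKS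
    have hP : (P : Subgroup G) = ⊤ := Subgroup.eq_top_of_card_eq _ (by
      rw [P.card_eq_multiplicity, ← S.card_eq_multiplicity, hS, Subgroup.card_top])
    refine ⟨by rw [hP]; infer_instance, ?_, Or.inl (by rw [hP, Subgroup.index_top])⟩
    refine le_antisymm ?_ fun y hy => mem_centralizer_self P hab hy
    rw [hP]
    exact le_top
  · obtain ⟨h1, h2, h3'⟩ := index_three P hO hab hq hsq h3 fun y hy hy1 => by
      refine le_antisymm (fun n hn => ?_) fun n hn =>
        ⟨Subgroup.mem_centralizer_singleton_iff.2 (hn y hy).symm, Subgroup.centralizer_le_normalizer _ hn⟩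
      obtain ⟨hny, hnN⟩ := hn
      obtain ⟨k, hk⟩ := IsPGroup.iff_orderOf.1 P.2 ⟨y, hy⟩
      rw [Subgroup.orderOf_mk] at hk
      obtain ⟨j, rfl⟩ : ∃ j, k = j + 1 := Nat.exists_eq_succ_of_ne_zero fun h0 => hy1 (by
        rw [h0, pow_zero, orderOf_eq_one_iff] at hk; exact hk)
      have hw2 : y ^ 2 ^ j * y ^ 2 ^ j = 1 := by
        rw [← pow_two, ← pow_mul, ← pow_succ, ← hk, pow_orderOf_eq_one]
      have hw1 : y ^ 2 ^ j ≠ 1 := pow_ne_one_of_lt_orderOf (by positivity)
        (by rw [hk]; exact Nat.pow_lt_pow_right (by norm_num) (by omega))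
      let w : Ω := ⟨⟨y ^ 2 ^ j, pow_mem hy _⟩, Subtype.ext hw2, fun e => hw1 (congrArg Subtype.val e)⟩
      set π := φ ⟨n, hnN⟩ with hπ
      have hπw : π w = w := Subtype.ext (Subtype.ext (by
        show ((act ⟨n, hnN⟩ w).1 : G) = _
        rw [hact, ← conj_pow, mul_inv_eq_iff_eq_mul.2 (Subgroup.mem_centralizer_singleton_iff.1 hny)]))
      have hπ3 : π ^ 3 = 1 := by
        rw [hπ, ← map_pow, ← MonoidHom.mem_ker, hker, Subgroup.mem_subgroupOf]
        have := hpow ⟨n, hnN⟩
        rw [h3] at this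
        simpa using this
      have hπ1 : π = 1 := by
        refine Equiv.ext fun x => ?_
        by_contra hx
        have e3 : π (π (π x)) = x := DFunLike.congr_fun hπ3 x
        have d02 : x ≠ π (π x) := fun e => hx (by
          conv_lhs => rw [e]
          exact e3)
        have d12 : π x ≠ π (π x) := fun e => hx (π.injective e).symm
        have w0 : x ≠ w := fun e => hx (by rw [e]; exact hπw)
        have w1 : π x ≠ w := fun e => w0 (π.injective (e.trans hπw.symm))
        have w2 : π (π x) ≠ w := fun e => w1 (π.injective (e.trans hπw.symm))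
        have hx' : x ≠ π x := fun e => hx e.symm
        have h4 : ({x, π x, π (π x), w} : Finset Ω).card = 4 := by simp [hx', d02, d12, w0, w1, w2]
        have := Finset.card_le_univ ({x, π x, π (π x), w} : Finset Ω)
        omega
      have : (⟨n, hnN⟩ : N) ∈ φ.ker := hπ1
      rwa [hker, Subgroup.mem_subgroupOf] at this
    exact ⟨h1, h2, Or.inr h3'⟩

end Cfsg.Agent.S0949
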