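import Cfsg.Statements.S0950
import Cfsg.Agent.Inv.FusionInvariant
import Cfsg.Agent.Solv.PComplement
import Mathlib.GroupTheory.SpecificGroups.Quaternion

set_option autoImplicit false
open Cfsg

namespace Cfsg.Agent.S0950

open CfsgLib.Inv

private theorem q_cases : ∀ a : QuaternionGroup 2, a = 1 ∨ a = .a 2 ∨ a * a = .a 2 := by decide

private theorem q_facts : ∀ a : QuaternionGroup 2, a * a = .a 2 →
    (.a 2 : QuaternionGroup 2) ≠ 1 ∧ a ≠ 1 ∧ a ≠ .a 2 ∧ orderOf a ∣ 4 ∧
      ∃ x, x * a * x⁻¹ = a⁻¹ := by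
  refine fun a ha => ?_
  have h : ∀ a : QuaternionGroup 2, a * a = .a 2 →
      (.a 2 : QuaternionGroup 2) ≠ 1 ∧ a ≠ 1 ∧ a ≠ .a 2 ∧ a ^ 4 = 1 ∧
        ∃ x, x * a * x⁻¹ = a⁻¹ := by decide
  obtain ⟨h1, h2, h3, h4, h5⟩ := h a ha
  exact ⟨h1, h2, h3, orderOf_dvd_of_pow_eq_one h4, h5⟩

private theorem q_conj : ∀ s a : QuaternionGroup 2, s * a * s⁻¹ = a ∨ s * a * s⁻¹ = a⁻¹ := by decide

private theorem q_central : ∀ a : QuaternionGroup 2, a * .a 2 = .a 2 * a := by decide

private theorem q_gen : ∀ a b d : QuaternionGroup 2, a * a = .a 2 → b * b = .a 2 → b ≠ a → b ≠ a⁻¹ →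
    d = 1 ∨ d = .a 2 ∨ d = a ∨ d = a⁻¹ ∨ d = b ∨ d = b⁻¹ ∨ d = a * b ∨ d = (a * b)⁻¹ := by decide

private theorem q_class : ∃ c : QuaternionGroup 2 → Fin 3, ∀ a b : QuaternionGroup 2,
    a * a = .a 2 → b * b = .a 2 → c a = c b → b = a ∨ b = a⁻¹ :=
  ⟨fun q => match q with
    | .a _ => 0
    | .xa i => if i = 0 ∨ i = 2 then 1 else 2, by decide⟩

/-- a nontrivial permutation of odd period on at most three points is transitive -/
private theorem orbit_three {Ω : Type*} [Fintype Ω] (hΩ : Fintype.card Ω ≤ 3) (π : Equiv.Perm Ω)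
    {m : ℕ} (hm : Odd m) (hπm : π ^ m = 1) (hπ : π ≠ 1) (a b : Ω) :
    b = a ∨ b = π a ∨ b = π (π a) := by
  classical
  obtain ⟨u, hu⟩ : ∃ u, π u ≠ u := by
    by_contra! h
    exact hπ (Equiv.ext h)
  have h2 : π (π u) ≠ u := fun h => by
    obtain ⟨k, rfl⟩ := hm
    have hk : ∀ k : ℕ, (π ^ (2 * k)) u = u := by
      intro k
      induction k with
      | zero => rfl
      | succ k ih =>
        rw [mul_add, pow_add, Equiv.Perm.mul_apply, mul_one, pow_two, Equiv.Perm.mul_apply, h, ih]
    refine hu ?_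
    have h3 := DFunLike.congr_fun hπm u
    rw [Equiv.Perm.one_apply, pow_succ', Equiv.Perm.mul_apply, hk] at h3
    exact h3
  have h12 : π u ≠ π (π u) := fun h => hu (π.injective h).symm
  have huniv : ({u, π u, π (π u)} : Finset Ω) = Finset.univ :=
    Finset.eq_univ_of_card _ (le_antisymm (Finset.card_le_univ _) (by
      simp [hu.symm, h2.symm, h12]; exact hΩ))
  have h3u : π (π (π u)) = u := by
    have := Finset.mem_univ (π (π (π u)))
    rw [← huniv] at this
    simp only [Finset.mem_insert, Finset.mem_singleton] at this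
    rcases this with h | h | h
    · exact h
    · exact absurd (π.injective h) h2
    · exact absurd (π.injective (π.injective h)) hu
  have mem : ∀ w : Ω, w = u ∨ w = π u ∨ w = π (π u) := fun w => by
    have := Finset.mem_univ w
    rw [← huniv] at this
    simpa using this
  rcases mem a with rfl | rfl | rfl
  · exact mem b
  · rw [h3u]; rcases mem b with h | h | h <;> tauto
  · rw [h3u]; rcases mem b with h | h | h <;> tauto


/-- Let S be a Sylow 2-subgroup of the finite group G that is isomorphic to the quaternion group of order 8, and suppose S has no normal complement in G. Then any two subgroups of order 4 of S are conjugate by an element of the normalizer of S. -/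
theorem result {G : Type*} [Group G] [Finite G] (S : Sylow 2 G) (e : (S : Subgroup G) ≃* QuaternionGroup 2) (hnc : ∀ N : Subgroup G, N.Normal → ¬ Subgroup.IsComplement' N (S : Subgroup G)) (A B : Subgroup G) (hA : A ≤ S) (hB : B ≤ S) (hA4 : Nat.card A = 4) (hB4 : Nat.card B = 4) : ∃ n ∈ Subgroup.normalizer ((S : Subgroup G) : Set G), B = A.map (MulAut.conj n).toMonoidHom := by
  classical
  haveI : Fact (Nat.Prime 2) := ⟨Nat.prime_two⟩
  let φ : QuaternionGroup 2 →* G := (S : Subgroup G).subtype.comp e.symm.toMonoidHom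
  have hφi : Function.Injective φ := Subtype.val_injective.comp e.symm.injective
  have hφS : ∀ a, φ a ∈ (S : Subgroup G) := fun a => (e.symm a).2
  have hpre : ∀ x ∈ (S : Subgroup G), ∃ a, φ a = x := fun x hx =>
    ⟨e ⟨x, hx⟩, congrArg Subtype.val (e.symm_apply_apply ⟨x, hx⟩)⟩
  obtain ⟨z, hzd⟩ : ∃ z : G, z = φ (.a 2) := ⟨_, rfl⟩
  have hz1 : z ≠ 1 := fun h => (q_facts (.a 1) (by decide)).1 (hφi (by rw [← hzd, h, map_one]))
  have hzS : z ∈ (S : Subgroup G) := hzd ▸ hφS _
  have hzz : z * z = 1 := by rw [hzd, ← map_mul]; exact map_one φ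
  have hcases : ∀ x ∈ (S : Subgroup G), x = 1 ∨ x = z ∨ x * x = z := by
    intro x hx
    obtain ⟨a, rfl⟩ := hpre x hx
    rcases q_cases a with h | h | h
    · exact Or.inl (by rw [h, map_one])
    · exact Or.inr (Or.inl (by rw [h, hzd]))
    · exact Or.inr (Or.inr (by rw [← map_mul, h, hzd]))
  have hfour : ∀ x ∈ (S : Subgroup G), x * x = z → orderOf x = 4 := fun x hx hxx =>
    orderOf_eq_prime_pow (p := 2) (n := 1) (by simpa [pow_two, hxx] using hz1)
      (by rw [show 2 ^ (1 + 1) = 2 * 2 from rfl, pow_mul, pow_two x, hxx, pow_two, hzz])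
  have hzp : ∀ x ∈ (S : Subgroup G), x * x = z → ∀ y ∈ Subgroup.zpowers x,
      y = 1 ∨ y = z ∨ y = x ∨ y = x⁻¹ := by
    intro x hx hxx y hy
    obtain ⟨i, rfl⟩ := Subgroup.mem_zpowers_iff.1 hy
    rw [← zpow_mod_orderOf, hfour x hx hxx]
    have : i % ((4 : ℕ) : ℤ) = 0 ∨ i % ((4 : ℕ) : ℤ) = 1 ∨ i % ((4 : ℕ) : ℤ) = 2 ∨
        i % ((4 : ℕ) : ℤ) = 3 := by omega
    rcases this with h | h | h | h <;> rw [h]
    · simp
    · simp
    · exact Or.inr (Or.inl (by rw [zpow_two, hxx]))
    · refine Or.inr (Or.inr (Or.inr (eq_inv_of_mul_eq_one_left ?_)))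
      rw [← zpow_add_one, show (3 : ℤ) + 1 = 2 * 2 by norm_num, zpow_mul, zpow_two, zpow_two, hxx, hzz]
  -- an element of odd order in the normaliser moving one of the three pairs
  obtain ⟨n, hn, hodd, x₀, hx₀, hxx₀, hmove⟩ : ∃ n ∈ Subgroup.normalizer ((S : Subgroup G) : Set G),
      Odd (orderOf n) ∧ ∃ x ∈ (S : Subgroup G), x * x = z ∧
        n * x * n⁻¹ ≠ x ∧ n * x * n⁻¹ ≠ x⁻¹ := by
    by_contra hcon
    push Not at hcon
    let pr : G → Set G := fun x => {x, x⁻¹}
    have hpr : ∀ a b : G, (b = a ∨ b = a⁻¹) → pr b = pr a := by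
      rintro a b (rfl | rfl)
      · rfl
      · simp only [pr, inv_inv]; exact Set.pair_comm _ _
    have hinner : ∀ s ∈ (S : Subgroup G), ∀ x ∈ (S : Subgroup G), pr (s * x * s⁻¹) = pr x := by
      intro s hs x hx
      obtain ⟨c, rfl⟩ := hpre s hs
      obtain ⟨a, rfl⟩ := hpre x hx
      refine hpr _ _ ?_
      rw [← map_inv, ← map_inv, ← map_mul, ← map_mul]
      rcases q_conj c a with h | h
      · exact Or.inl (by rw [h])
      · exact Or.inr (by rw [h])
    have hnpc : Cfsg.HasNormalPComplement 2 G := by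
      refine CfsgLib.Solv.hnpc_of_fusion S fun x hx g hg => ?_
      have hmem : g * x * g⁻¹ ∈ pr x := by
        rw [← fusion_invariant S pr hinner ?_ hx hg]
        · exact Set.mem_insert _ _
        intro P hPS hcen k hk hkodd _ y hy
        have hky : k * y * k⁻¹ ∈ P := (Subgroup.mem_normalizer_iff.1 hk y).1 hy
        have hzP : z ∈ P := hcen z hzS (Subgroup.mem_centralizer_iff.2 fun w hw => by
          obtain ⟨a, rfl⟩ := hpre w (hPS hw)
          rw [hzd, ← map_mul, q_central, map_mul])
        refine hpr _ _ ?_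
        obtain ⟨a, ha, haa⟩ : ∃ a ∈ P, a * a = z := by
          by_contra! hno
          have hsmall : ∀ w ∈ P, w = 1 ∨ w = z := fun w hw => by
            rcases hcases w (hPS hw) with h | h | h
            exacts [Or.inl h, Or.inr h, absurd h (hno w hw)]
          refine hno (φ (.a 1)) (hcen _ (hφS _) (Subgroup.mem_centralizer_iff.2 fun w hw => ?_))
            (by rw [← map_mul, hzd]; rfl)
          rcases hsmall w hw with rfl | rfl
          · simp
          · rw [hzd, ← map_mul, ← q_central, map_mul]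
        by_cases hS : P = (S : Subgroup G)
        · subst hS
          rcases hcases y hy with rfl | rfl | h
          · simp
          · rcases hcases _ hky with h | h | h
            · exact absurd (conj_eq_one_iff.1 h) hz1
            · exact Or.inl h
            · exfalso
              rw [show k * y * k⁻¹ * (k * y * k⁻¹) = k * (y * y) * k⁻¹ by group, hzz] at h
              simp at h
              exact hz1 h.symm
          · by_cases h1 : k * y * k⁻¹ = y
            · exact Or.inl h1
            · exact Or.inr (hcon k hk hkodd y hy h h1)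
        have hP4 : ∀ w ∈ P, w = 1 ∨ w = z ∨ w = a ∨ w = a⁻¹ := by
          intro w hw
          rcases hcases w (hPS hw) with h | h | h
          · exact Or.inl h
          · exact Or.inr (Or.inl h)
          by_contra hne
          refine hS (le_antisymm hPS fun v hv => ?_)
          obtain ⟨qa, rfl⟩ := hpre a (hPS ha)
          obtain ⟨qb, rfl⟩ := hpre w (hPS hw)
          obtain ⟨qd, rfl⟩ := hpre v hv
          have hd := q_gen qa qb qd (hφi (by rw [map_mul, haa, hzd]))
            (hφi (by rw [map_mul, h, hzd]))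
            (fun e' => hne (Or.inr (Or.inr (Or.inl (by rw [e'])))))
            (fun e' => hne (Or.inr (Or.inr (Or.inr (by rw [e', map_inv])))))
          rcases hd with h' | h' | h' | h' | h' | h' | h' | h' <;> rw [h'] <;>
            (try simp only [map_one, map_inv, map_mul, ← hzd])
          exacts [one_mem _, hzP, ha, inv_mem ha, hw, inv_mem hw, mul_mem ha hw,
            inv_mem (mul_mem ha hw)]
        rcases hP4 y hy with rfl | rfl | hya
        · simp
        · rcases hcases _ (hPS hky) with h | h | h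
          · exact absurd (conj_eq_one_iff.1 h) hz1
          · exact Or.inl h
          · exfalso
            rw [show k * y * k⁻¹ * (k * y * k⁻¹) = k * (y * y) * k⁻¹ by group, hzz] at h
            simp at h
            exact hz1 h.symm
        · have hyy : y * y = z := by
            rcases hya with rfl | rfl
            · exact haa
            · rw [← mul_inv_rev, haa]; exact inv_eq_of_mul_eq_one_right hzz
          rcases hP4 _ hky with h | h | h
          · rw [conj_eq_one_iff.1 h, mul_one] at hyy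
            exact absurd hyy.symm hz1
          · exfalso
            have h2 : k * (y * y) * k⁻¹ = 1 := by
              rw [show k * (y * y) * k⁻¹ = k * y * k⁻¹ * (k * y * k⁻¹) by group, h, hzz]
            rw [conj_eq_one_iff, hyy] at h2
            exact hz1 h2
          · rcases hya with rfl | rfl <;> rcases h with h | h
            · exact Or.inl h
            · exact Or.inr h
            · exact Or.inr (by rw [inv_inv]; exact h)
            · exact Or.inl h
      rcases hmem with h | h
      · exact ⟨1, one_mem _, by rw [h]; simp⟩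
      · simp only [Set.mem_singleton_iff] at h
        rcases hcases x hx with rfl | rfl | hxx
        · exact ⟨1, one_mem _, by simp⟩
        · refine ⟨1, one_mem _, ?_⟩
          rw [h, inv_eq_of_mul_eq_one_right hzz]
          simp
        · obtain ⟨a, rfl⟩ := hpre x hx
          obtain ⟨s, hs⟩ := (q_facts a (hφi (by rw [map_mul, hxx, hzd]))).2.2.2.2
          exact ⟨φ s, hφS s, by rw [h, ← map_inv, ← map_inv, ← map_mul, ← map_mul, hs]⟩
    obtain ⟨S', N, hN, hc⟩ := hnpc
    refine hnc N hN (Subgroup.isComplement'_of_coprime ?_ ?_)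
    · rw [S.card_eq_multiplicity, ← S'.card_eq_multiplicity]
      exact hc.card_mul_card
    · obtain ⟨k, hk⟩ := IsPGroup.iff_card.1 S.2
      rw [hk]
      refine Nat.Coprime.pow_right k (Nat.Coprime.symm ?_)
      rw [Nat.prime_two.coprime_iff_not_dvd, ← hc.index_eq_card]
      exact S'.not_dvd_index
  -- the three subgroups of order four
  let Ω := {U : Subgroup G // U ≤ (S : Subgroup G) ∧ Nat.card U = 4}
  haveI : Finite Ω := Subtype.finite
  haveI : Fintype Ω := Fintype.ofFinite _
  have hgen : ∀ U : Ω, ∃ x ∈ (S : Subgroup G), x * x = z ∧ U.1 = Subgroup.zpowers x := by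
    intro U
    by_cases h : ∀ w ∈ U.1, w = 1 ∨ w = z
    · exfalso
      have hle : (U.1 : Set G) ⊆ {1, z} := fun w hw => by simpa using h w hw
      have h' := Set.ncard_le_ncard hle (Set.toFinite _)
      rw [Set.ncard_pair hz1.symm, ← Nat.card_coe_set_eq, SetLike.coe_sort_coe, U.2.2] at h'
      omega
    · push Not at h
      obtain ⟨x, hx, h1, h2⟩ := h
      have hxx : x * x = z := ((hcases x (U.2.1 hx)).resolve_left h1).resolve_left h2
      refine ⟨x, U.2.1 hx, hxx, (Subgroup.eq_of_le_of_card_ge (Subgroup.zpowers_le.2 hx) ?_).symm⟩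
      rw [U.2.2, Nat.card_zpowers, hfour x (U.2.1 hx) hxx]
  choose g hgS hgz hgU using hgen
  have hΩ : Fintype.card Ω ≤ 3 := by
    obtain ⟨c, hc⟩ := q_class
    choose q hq using fun U : Ω => hpre (g U) (hgS U)
    have hinj : Function.Injective fun U : Ω => c (q U) := by
      intro U V hUV
      refine Subtype.ext ?_
      have h2 := hc (q U) (q V) (hφi (by rw [map_mul, hq, hgz, hzd]))
        (hφi (by rw [map_mul, hq, hgz, hzd])) hUV
      rw [hgU U, hgU V]
      rcases h2 with h2 | h2
      · rw [← hq U, ← hq V, h2]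
      · rw [← hq U, ← hq V, h2, map_inv, Subgroup.zpowers_inv]
    simpa using Fintype.card_le_of_injective _ hinj
  let cj : G → Subgroup G → Subgroup G := fun m U => U.map (MulAut.conj m).toMonoidHom
  have hcj : ∀ m k U, cj (m * k) U = cj m (cj k U) := fun m k U => by
    simp only [cj, Subgroup.map_map]
    congr 1
    ext w
    simp
  have hcj1 : ∀ U, cj 1 U = U := fun U => by
    ext w
    simp [cj]
  have hmemΩ : ∀ (m : Subgroup.normalizer ((S : Subgroup G) : Set G)) (U : Ω),
      cj m U.1 ≤ (S : Subgroup G) ∧ Nat.card (cj m U.1) = 4 := by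
    intro m U
    refine ⟨?_, by exact (Subgroup.card_map_of_injective (MulAut.conj (m : G)).injective).trans U.2.2⟩
    rintro _ ⟨w, hw, rfl⟩
    exact (Subgroup.mem_normalizer_iff.1 m.2 w).1 (U.2.1 hw)
  let ψ : Subgroup.normalizer ((S : Subgroup G) : Set G) →* Equiv.Perm Ω :=
    MonoidHom.mk' (fun m => ⟨fun U => ⟨cj m U.1, hmemΩ m U⟩, fun U => ⟨cj (m⁻¹ : _) U.1, hmemΩ m⁻¹ U⟩,
      fun U => Subtype.ext (by simp only [Subgroup.coe_inv]; rw [← hcj, inv_mul_cancel, hcj1]),
      fun U => Subtype.ext (by simp only [Subgroup.coe_inv]; rw [← hcj, mul_inv_cancel, hcj1])⟩)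
      fun m k => Equiv.ext fun U => Subtype.ext (hcj m k U.1)
  set π := ψ ⟨n, hn⟩ with hπdef
  have hπm : π ^ orderOf n = 1 := by
    rw [hπdef, ← map_pow]
    have : (⟨n, hn⟩ : Subgroup.normalizer ((S : Subgroup G) : Set G)) ^ orderOf n = 1 :=
      Subtype.ext (by simp [pow_orderOf_eq_one])
    rw [this, map_one]
  have hπ : π ≠ 1 := by
    intro h1
    have hX : Nat.card (Subgroup.zpowers x₀) = 4 := by rw [Nat.card_zpowers, hfour x₀ hx₀ hxx₀]
    have h2 := congrArg Subtype.val (DFunLike.congr_fun h1 ⟨_, Subgroup.zpowers_le.2 hx₀, hX⟩)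
    change cj n (Subgroup.zpowers x₀) = Subgroup.zpowers x₀ at h2
    have h3 : n * x₀ * n⁻¹ ∈ Subgroup.zpowers x₀ := by
      rw [← h2]; exact ⟨x₀, Subgroup.mem_zpowers _, rfl⟩
    rcases hzp x₀ hx₀ hxx₀ _ h3 with h | h | h | h
    · rw [conj_eq_one_iff.1 h, mul_one] at hxx₀
      exact hz1 hxx₀.symm
    · have h4 : orderOf (n * x₀ * n⁻¹) = 4 := (MulEquiv.orderOf_eq (MulAut.conj n) x₀).trans (hfour x₀ hx₀ hxx₀)
      rw [h] at h4
      have := orderOf_dvd_of_pow_eq_one (show z ^ 2 = 1 by rw [pow_two, hzz])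
      rw [h4] at this
      norm_num at this
    · exact hmove.1 h
    · exact hmove.2 h
  rcases orbit_three hΩ π hodd hπm hπ ⟨A, hA, hA4⟩ ⟨B, hB, hB4⟩ with h | h | h
  · exact ⟨1, one_mem _, (congrArg Subtype.val h).trans (hcj1 A).symm⟩
  · exact ⟨n, hn, congrArg Subtype.val h⟩
  · exact ⟨n * n, mul_mem hn hn, (congrArg Subtype.val h).trans (hcj n n A).symm⟩

end Cfsg.Agent.S0950
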