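import Cfsg.Statements.S0951
import Cfsg.Agent.Blk.ZStarQ8C
import Cfsg.Agent.Base.QuaternionEight
import Cfsg.Agent.Solv.PComplement
import Cfsg.Agent.Perm.PComp

set_option autoImplicit false
open Cfsg

namespace Cfsg.Agent.S0951

set_option linter.style.haveILetI false
set_option linter.unusedSectionVars false
open CfsgLib.Char CfsgLib.Blk CfsgLib.Inv
open scoped ComplexConjugate

variable {G : Type*} [Group G] [Finite G]

private theorem q_cases : ∀ a : QuaternionGroup 2, a = 1 ∨ a = .a 2 ∨ a * a = .a 2 := by decide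

private theorem q_inv : ∀ a : QuaternionGroup 2, a * a = .a 2 → ∃ x, x * a * x⁻¹ = a⁻¹ := by decide

private theorem q_conj : ∀ s a : QuaternionGroup 2, s * a * s⁻¹ = a ∨ s * a * s⁻¹ = a⁻¹ := by decide

private theorem q_six : ∀ a b d : QuaternionGroup 2, a * a = .a 2 → b * b = .a 2 → b ≠ a → b ≠ a⁻¹ →
    d * d = .a 2 → d = a ∨ d = a⁻¹ ∨ d = b ∨ d = b⁻¹ ∨ d = a * b ∨ d = (a * b)⁻¹ := by decide

/-- All elements of order four are conjugate. -/
private theorem q8_data (S : Sylow 2 G) (e : (S : Subgroup G) ≃* QuaternionGroup 2)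
    (hO : ∀ N : Subgroup G, N.Normal → Odd (Nat.card N) → N = ⊥) (hG : (S : Subgroup G) ≠ ⊤) :
    ∃ z y : G, Q8Data S z y := by
  classical
  haveI : Fact (Nat.Prime 2) := ⟨Nat.prime_two⟩
  let φ : QuaternionGroup 2 →* G := (S : Subgroup G).subtype.comp e.symm.toMonoidHom
  have hφi : Function.Injective φ := Subtype.val_injective.comp e.symm.injective
  have hφS : ∀ a, φ a ∈ (S : Subgroup G) := fun a => (e.symm a).2
  have hpre : ∀ x ∈ (S : Subgroup G), ∃ a, φ a = x := fun x hx =>
    ⟨e ⟨x, hx⟩, congrArg Subtype.val (e.symm_apply_apply ⟨x, hx⟩)⟩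
  obtain ⟨z, hzd⟩ : ∃ z : G, z = φ (.a 2) := ⟨_, rfl⟩
  have hz : orderOf z = 2 := by
    rw [hzd, orderOf_injective φ hφi]
    exact orderOf_eq_prime (by decide) (by decide)
  have hzc : z ∈ Subgroup.center G := CfsgLib.Base.BS.invol_central hO S 1 le_rfl e hz
  have hcent : ∀ g : G, Commute z g := fun g => (Subgroup.mem_center_iff.1 hzc g).symm
  have hzS : z ∈ (S : Subgroup G) := hzd ▸ hφS _
  have hz2 : z * z = 1 := invol_mul_self hz
  have hz1 : z ≠ 1 := invol_ne_one hz
  -- transported facts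
  have hcases : ∀ x ∈ (S : Subgroup G), x = 1 ∨ x = z ∨ x * x = z := by
    intro x hx
    obtain ⟨a, rfl⟩ := hpre x hx
    rcases q_cases a with h | h | h
    · exact Or.inl (by rw [h, map_one])
    · exact Or.inr (Or.inl (by rw [h, hzd]))
    · exact Or.inr (Or.inr (by rw [← map_mul, h, hzd]))
  have hinvS : ∀ x ∈ (S : Subgroup G), x * x = z → ∃ s ∈ (S : Subgroup G), s * x * s⁻¹ = x⁻¹ := by
    intro x hx hxx
    obtain ⟨a, rfl⟩ := hpre x hx
    obtain ⟨s, hs⟩ := q_inv a (hφi (by rw [map_mul, hxx, hzd]))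
    exact ⟨φ s, hφS s, by rw [← map_inv, ← map_inv, ← map_mul, ← map_mul, hs]⟩
  have hxinv : ∀ x : G, x * x = z → z * x = x⁻¹ := fun x hx =>
    eq_inv_of_mul_eq_one_left (by rw [mul_assoc, hx, hz2])
  have huniqS : ∀ x ∈ (S : Subgroup G), orderOf x = 2 → x = z := by
    intro x hx ho
    rcases hcases x hx with h | h | h
    · exact absurd h (invol_ne_one ho)
    · exact h
    · rw [invol_mul_self ho] at h; exact absurd h.symm hz1
  have huniq : ∀ t : G, orderOf t = 2 → t = z := by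
    intro t ht
    obtain ⟨Q, hQ⟩ := (IsPGroup.of_card (p := 2) (n := 1)
      (by rw [Nat.card_zpowers, ht]; rfl) : IsPGroup 2 (Subgroup.zpowers t)).exists_le_sylow
    obtain ⟨c, rfl⟩ := MulAction.exists_smul_eq G S Q
    have h2 := hQ (Subgroup.mem_zpowers t)
    change t ∈ (S : Subgroup G).map (MulAut.conj c).toMonoidHom at h2
    obtain ⟨q, hq, hqt⟩ := Subgroup.mem_map.1 h2
    rw [MulEquiv.coe_toMonoidHom] at hqt
    have hqz := huniqS q hq (by rw [← ht, ← hqt, MulEquiv.orderOf_eq])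
    rw [← hqt, hqz, MulAut.conj_apply, ← (hcent c).eq, mul_inv_cancel_right]
  -- some element of the normalizer moves a pair
  obtain ⟨n, hn, x, hx, hnx1, hnx2⟩ : ∃ n ∈ Subgroup.normalizer ((S : Subgroup G) : Set G),
      ∃ x ∈ (S : Subgroup G), n * x * n⁻¹ ≠ x ∧ n * x * n⁻¹ ≠ z * x := by
    by_contra hcon
    push Not at hcon
    haveI hZn : (Subgroup.zpowers z).Normal := ⟨fun a ha g => by
      obtain ⟨i, rfl⟩ := Subgroup.mem_zpowers_iff.1 ha
      rw [← ((hcent g).zpow_left i).eq, mul_inv_cancel_right]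
      exact ha⟩
    have hZ : ∀ w ∈ Subgroup.zpowers z, w = 1 ∨ w = z := by
      intro w hw
      obtain ⟨i, rfl⟩ := Subgroup.mem_zpowers_iff.1 hw
      rw [← zpow_mod_orderOf, hz]
      rcases Int.emod_two_eq i with h | h
      · exact Or.inl (by simp [h])
      · exact Or.inr (by simp [h])
    obtain ⟨q, hq⟩ : ∃ q : G →* G ⧸ Subgroup.zpowers z, q = QuotientGroup.mk' _ := ⟨_, rfl⟩
    have hqs : Function.Surjective q := hq ▸ QuotientGroup.mk'_surjective _
    have hqeq : ∀ a b : G, q a = q b → b = a ∨ b = z * a := by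
      intro a b h
      rw [hq, QuotientGroup.mk'_eq_mk'] at h
      obtain ⟨w, hw, rfl⟩ := h
      rcases hZ w hw with rfl | rfl
      · exact Or.inl (mul_one a)
      · exact Or.inr (hcent a).eq.symm
    obtain ⟨P, hP⟩ : ∃ P : Sylow 2 (G ⧸ Subgroup.zpowers z),
        (P : Subgroup (G ⧸ Subgroup.zpowers z)) = (S : Subgroup G).map q :=
      ⟨S.mapSurjective hqs, Sylow.coe_mapSurjective hqs S⟩
    have hmemP : ∀ a : G, q a ∈ (P : Subgroup (G ⧸ Subgroup.zpowers z)) ↔ a ∈ (S : Subgroup G) := by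
      intro a
      rw [hP]
      refine ⟨fun h => ?_, fun h => Subgroup.mem_map_of_mem q h⟩
      obtain ⟨b, hb, hab⟩ := Subgroup.mem_map.1 h
      rcases hqeq b a hab with rfl | rfl
      · exact hb
      · exact mul_mem hzS hb
    have hab : IsMulCommutative (P : Subgroup (G ⧸ Subgroup.zpowers z)) := by
      refine ⟨⟨fun a b => Subtype.ext ?_⟩⟩
      obtain ⟨a₀, ha₀⟩ := hqs a.1
      obtain ⟨b₀, hb₀⟩ := hqs b.1
      have haS := (hmemP a₀).1 (ha₀ ▸ a.2)
      have hbS := (hmemP b₀).1 (hb₀ ▸ b.2)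
      obtain ⟨u, hu⟩ := hpre a₀ haS
      obtain ⟨v, hv⟩ := hpre b₀ hbS
      show (a : G ⧸ Subgroup.zpowers z) * b = b * a
      have hqz : q z = 1 := by
        rw [hq, QuotientGroup.mk'_apply, QuotientGroup.eq_one_iff]; exact Subgroup.mem_zpowers z
      rw [← ha₀, ← hb₀, ← map_mul, ← map_mul, ← hu, ← hv, ← map_mul φ, ← map_mul φ]
      have key : ∀ u v : QuaternionGroup 2, u * v = v * u ∨ u * v = .a 2 * (v * u) := by decide
      rcases key u v with h | h
      · rw [h]
      · rw [h, map_mul φ, ← hzd, map_mul q, hqz, one_mul]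
    refine absurd ?_ hG
    have hnpc : Cfsg.HasNormalPComplement 2 G := by
      refine CfsgLib.Solv.hnpc_of_fusion S fun x hx g hg => ?_
      obtain ⟨m, hm, hme⟩ := CfsgLib.Solv.exists_normalizer_conj_of_abelian_sylow P hab
        (x := q x) ((hmemP x).2 hx) (g := q g)
        (by rw [← map_inv, ← map_mul, ← map_mul]; exact (hmemP _).2 hg)
      obtain ⟨n, rfl⟩ := hqs m
      rw [← map_inv, ← map_inv, ← map_mul, ← map_mul, ← map_mul, ← map_mul] at hme
      have hn : n ∈ Subgroup.normalizer ((S : Subgroup G) : Set G) := by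
        rw [Subgroup.mem_normalizer_iff]
        intro a
        rw [← hmemP, ← hmemP (n * a * n⁻¹), map_mul, map_mul, map_inv]
        exact Subgroup.mem_normalizer_iff.1 hm (q a)
      have h1 : n * x * n⁻¹ = x ∨ n * x * n⁻¹ = z * x := or_iff_not_imp_left.2 (hcon n hn x hx)
      have h3 : g * x * g⁻¹ = x ∨ g * x * g⁻¹ = z * x := by
        rcases hqeq _ _ hme with h | h <;> rcases h1 with h' | h' <;> rw [h'] at h
        · exact Or.inl h
        · exact Or.inr h
        · exact Or.inr h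
        · exact Or.inl (by rw [h, ← mul_assoc, hz2, one_mul])
      rcases h3 with h | h
      · exact ⟨1, one_mem _, by rw [h]; simp⟩
      · rcases hcases x hx with rfl | rfl | hxx
        · exact ⟨1, one_mem _, by simp⟩
        · refine ⟨1, one_mem _, ?_⟩
          simp [← (hcent g).eq]
        · obtain ⟨s, hs, hsx⟩ := hinvS x hx hxx
          exact ⟨s, hs, by rw [hsx, h, hxinv x hxx]⟩
    obtain ⟨N, hN, hN2, k, hk⟩ := CfsgLib.Perm.exists_of_hasNormalPComplement hnpc
    have hbot := hO N hN (Nat.odd_iff.2 (Nat.two_dvd_ne_zero.1 hN2))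
    rw [hbot, Subgroup.index_bot] at hk
    refine Subgroup.eq_top_of_card_eq _ ?_
    rw [S.card_eq_multiplicity, hk, Nat.prime_two.factorization_pow, Finsupp.single_eq_same]
  have hxx : x * x = z := by
    rcases hcases x hx with rfl | rfl | h
    · exact absurd (by simp) hnx1
    · exact absurd (by rw [← (hcent n).eq, mul_inv_cancel_right]) hnx1
    · exact h
  rw [hxinv x hxx] at hnx2
  obtain ⟨x', hx'⟩ : ∃ x', x' = n * x * n⁻¹ := ⟨_, rfl⟩
  obtain ⟨x'', hx''⟩ : ∃ x'', x'' = n * x' * n⁻¹ := ⟨_, rfl⟩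
  rw [← hx'] at hnx1 hnx2
  have hsqc : ∀ g a : G, a * a = z → g * a * g⁻¹ * (g * a * g⁻¹) = z := fun g a ha => by
    rw [show g * a * g⁻¹ * (g * a * g⁻¹) = g * (a * a) * g⁻¹ by group, ha, ← (hcent g).eq,
      mul_inv_cancel_right]
  have hx'S : x' ∈ (S : Subgroup G) := hx' ▸ (Subgroup.mem_normalizer_iff.1 hn x).1 hx
  have hx''S : x'' ∈ (S : Subgroup G) := hx'' ▸ (Subgroup.mem_normalizer_iff.1 hn x').1 hx'S
  have hx'x : x' * x' = z := hx' ▸ hsqc n x hxx
  have hx''x : x'' * x'' = z := hx'' ▸ hsqc n x' hx'x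
  obtain ⟨a, ha⟩ := hpre x hx
  obtain ⟨b, hb⟩ := hpre x' hx'S
  have hsix : ∀ d ∈ (S : Subgroup G), d * d = z →
      d = x ∨ d = x⁻¹ ∨ d = x' ∨ d = x'⁻¹ ∨ d = x * x' ∨ d = (x * x')⁻¹ := by
    intro d hd hdd
    obtain ⟨c, rfl⟩ := hpre d hd
    have h := q_six a b c (hφi (by rw [map_mul, ha, hxx, hzd]))
      (hφi (by rw [map_mul, hb, hx'x, hzd]))
      (fun h => hnx1 (by rw [← hb, h, ha])) (fun h => hnx2 (by rw [← hb, h, map_inv, ha]))
      (hφi (by rw [map_mul, hdd, hzd]))
    rw [← ha, ← hb]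
    rcases h with h | h | h | h | h | h <;> rw [h] <;> simp
  -- the third pair
  have hx''1 : x'' ≠ x ∧ x'' ≠ x⁻¹ := by
    have hodd : ¬ (x'' = x ∨ x'' = x⁻¹) := by
      intro hcase
      obtain ⟨k, b', hb', hnb⟩ :=
        Nat.exists_eq_pow_mul_and_not_dvd (orderOf_pos n).ne' 2 (by norm_num)
      have hsq : ∀ i : ℕ, (n ^ 2) ^ i * x' * ((n ^ 2) ^ i)⁻¹ = x' ∨
          (n ^ 2) ^ i * x' * ((n ^ 2) ^ i)⁻¹ = x'⁻¹ := by
        have h2 : n ^ 2 * x' * (n ^ 2)⁻¹ = x' ∨ n ^ 2 * x' * (n ^ 2)⁻¹ = x'⁻¹ := by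
          have e1 : n ^ 2 * x' * (n ^ 2)⁻¹ = n * x'' * n⁻¹ := by rw [hx'', pow_two]; group
          rcases hcase with h | h
          · exact Or.inl (by rw [e1, h, hx'])
          · exact Or.inr (by rw [e1, h, hx']; group)
        intro i
        induction i with
        | zero => simp
        | succ i ih =>
          have e1 : (n ^ 2) ^ (i + 1) * x' * ((n ^ 2) ^ (i + 1))⁻¹ =
              n ^ 2 * ((n ^ 2) ^ i * x' * ((n ^ 2) ^ i)⁻¹) * (n ^ 2)⁻¹ := by
            rw [pow_succ']; group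
          have e2 : n ^ 2 * x'⁻¹ * (n ^ 2)⁻¹ = (n ^ 2 * x' * (n ^ 2)⁻¹)⁻¹ := by group
          rcases ih with h | h <;> rw [e1, h]
          · exact h2
          · rcases h2 with h2 | h2 <;> rw [e2, h2]
            · exact Or.inr rfl
            · exact Or.inl (inv_inv x')
      obtain ⟨j, -, hj⟩ := (Nat.dvd_prime_pow Nat.prime_two).1 (show orderOf (n ^ b') ∣ 2 ^ k from
        orderOf_dvd_of_pow_eq_one (by rw [← pow_mul, mul_comm, ← hnb, pow_orderOf_eq_one]))
      have hm : n ^ b' ∈ (S : Subgroup G) := by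
        have hzp : IsPGroup 2 (Subgroup.zpowers (n ^ b')) :=
          IsPGroup.of_card (n := j) (by rw [Nat.card_zpowers, hj])
        exact ((hzp.inf_normalizer_sylow S).le ⟨Subgroup.mem_zpowers _, pow_mem hn b'⟩).2
      obtain ⟨s, hs⟩ := hpre _ hm
      have hfix : n ^ b' * x * (n ^ b')⁻¹ = x ∨ n ^ b' * x * (n ^ b')⁻¹ = x⁻¹ := by
        rw [← hs, ← ha]
        rcases q_conj s a with h | h
        · exact Or.inl (by rw [← map_inv, ← map_mul, ← map_mul, h])
        · exact Or.inr (by rw [← map_inv, ← map_inv, ← map_mul, ← map_mul, h])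
      have hb2 : b' = 2 * (b' / 2) + 1 := by omega
      have e3 : n ^ b' * x * (n ^ b')⁻¹ = (n ^ 2) ^ (b' / 2) * x' * ((n ^ 2) ^ (b' / 2))⁻¹ := by
        rw [hx', hb2, pow_succ, pow_mul, show (2 * (b' / 2) + 1) / 2 = b' / 2 by omega]
        group
      rw [e3] at hfix
      rcases hsq (b' / 2) with h | h <;> rw [h] at hfix
      · rcases hfix with h' | h'
        exacts [hnx1 h', hnx2 h']
      · rcases hfix with h' | h'
        · exact hnx2 (by rw [← h', inv_inv])
        · exact hnx1 (inv_injective h')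
    exact not_or.1 hodd
  have hx''2 : x'' ≠ x' ∧ x'' ≠ x'⁻¹ := by
    have e1 : ∀ w, x'' = n * w * n⁻¹ → x' = w := fun w h => by
      rw [hx''] at h; simpa using h
    refine ⟨fun h => hnx1 (e1 x (by rw [h, hx'])), fun h => hnx2 ?_⟩
    exact e1 x⁻¹ (by rw [h, hx']; group)
  have hconjinv : ∀ d ∈ (S : Subgroup G), d * d = z → IsConj d d⁻¹ := fun d hd hdd => by
    obtain ⟨s, -, hs⟩ := hinvS d hd hdd
    exact isConj_iff.2 ⟨s, hs⟩
  have hc1 : IsConj x x' := isConj_iff.2 ⟨n, hx'.symm⟩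
  have hc2 : IsConj x (x * x') := by
    have hc : IsConj x x'' := hc1.trans (isConj_iff.2 ⟨n, hx''.symm⟩)
    rcases hsix x'' hx''S hx''x with h | h | h | h | h | h
    · exact absurd h hx''1.1
    · exact absurd h hx''1.2
    · exact absurd h hx''2.1
    · exact absurd h hx''2.2
    · exact h ▸ hc
    · have := hconjinv x'' hx''S hx''x
      rw [h, inv_inv] at this
      exact (h ▸ hc).trans this
  have hall : ∀ d ∈ (S : Subgroup G), d * d = z → IsConj x d := by
    intro d hd hdd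
    rcases hsix d hd hdd with h | h | h | h | h | h <;> rw [h]
    · exact hconjinv x hx hxx
    · exact hc1
    · exact hc1.trans (hconjinv x' hx'S hx'x)
    · exact hc2
    · refine hc2.trans ?_
      have h' := hconjinv _ hd hdd
      rw [h, inv_inv] at h'
      exact h'.symm
  refine ⟨z, x, hz, hcent, huniq, hxx, hx, ?_, fun w hw => ?_, hinvS x hx hxx⟩
  · rw [Nat.card_congr e.toEquiv, Nat.card_eq_fintype_card, QuaternionGroup.card]
  · have hw4 : orderOf w = 4 := orderOf_eq_prime_pow (p := 2) (n := 1)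
      (by simpa [pow_two, hw] using hz1)
      (by rw [show 2 ^ (1 + 1) = 2 * 2 from rfl, pow_mul, pow_two w, hw, pow_two, hz2])
    obtain ⟨Q, hQ⟩ := (IsPGroup.of_card (p := 2) (n := 2)
      (by rw [Nat.card_zpowers, hw4]; rfl) : IsPGroup 2 (Subgroup.zpowers w)).exists_le_sylow
    obtain ⟨c, rfl⟩ := MulAction.exists_smul_eq G S Q
    have h2 := hQ (Subgroup.mem_zpowers w)
    change w ∈ (S : Subgroup G).map (MulAut.conj c).toMonoidHom at h2
    obtain ⟨d, hd, hdw⟩ := Subgroup.mem_map.1 h2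
    rw [MulEquiv.coe_toMonoidHom, MulAut.conj_apply] at hdw
    refine (hall d hd ?_).trans (isConj_iff.2 ⟨c, hdw⟩)
    have he : d = c⁻¹ * w * c⁻¹⁻¹ := by rw [← hdw]; group
    rw [he]
    exact hsqc c⁻¹ w hw

/-- Let S be a Sylow 2-subgroup of the finite group G isomorphic to the quaternion group of order 8. Suppose G has no nontrivial normal subgroup of odd order and G ≠ S. Then, relative to any maximal ideal M of the algebraic integers containing 2, the principal block of G consists of exactly 7 irreducible characters. -/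
theorem result {G : Type*} [Group G] [Finite G] (M : Ideal Cfsg.AlgInt) (hM : Cfsg.IsPModular 2 M) (S : Sylow 2 G) (e : (S : Subgroup G) ≃* QuaternionGroup 2) (hO : ∀ N : Subgroup G, N.Normal → Odd (Nat.card N) → N = ⊥) (hG : (S : Subgroup G) ≠ ⊤) : Nat.card (Cfsg.principalBlock M G) = 7 := by
  classical
  haveI := Fintype.ofFinite G
  haveI : Fact (Nat.Prime 2) := ⟨Nat.prime_two⟩
  haveI := CfsgLib.Blk.IsPModular.isPrime hM
  obtain ⟨z, y, D⟩ := q8_data S e hO hG
  obtain ⟨one, hone⟩ : ∃ o : IrrCharacter G, o = ⟨_, isIrr_one⟩ := ⟨_, rfl⟩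
  have honev : (one : G → ℂ) = fun _ => 1 := by rw [hone]
  have hne1 : ∀ k : IrrCharacter G, k ≠ one → (k : G → ℂ) ≠ fun _ => 1 := fun k h e' =>
    h (Subtype.ext (by rw [e', honev]))
  obtain ⟨V, hVd⟩ : ∃ V, V = Finset.univ.filter (q8V M y) := ⟨_, rfl⟩
  have hVm : ∀ k, k ∈ V ↔ q8V M y k := fun k => by simp [hVd]
  have honeV : one ∈ V := (hVm _).2 (hone ▸ D.one_inV)
  obtain ⟨T, hTd⟩ : ∃ T, T = V.erase one := ⟨_, rfl⟩
  have hT : ∀ k ∈ T, q8V M y k ∧ (k : G → ℂ) ≠ fun _ => 1 := fun k hk => by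
    rw [hTd, Finset.mem_erase] at hk
    exact ⟨(hVm k).1 hk.2, hne1 k hk.1⟩
  have hcardT : T.card = 3 := by
    rw [hTd, Finset.card_erase_of_mem honeV, hVd, D.card_V hM]
  obtain ⟨β, hβ⟩ : ∃ β : IrrCharacter G → G → ℂ,
      ∀ k g, β k g = q8Alpha y k g - q8One y k g := ⟨_, fun _ _ => rfl⟩
  have hβreg : ∀ k ∈ T, ∀ g : G, ¬ 2 ∣ orderOf g →
      β k g = -q8One y k g ∧ β k (z * g) = q8One y k g := by
    intro k hk g hg
    rw [hβ, hβ, D.alpha_odd k hg, D.alpha_z hM (hT k hk).1 hg,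
      D.onePlus_translate hM (hT k hk).1]
    exact ⟨zero_sub _, by ring⟩
  have hβ4 : ∀ k ∈ T, ∀ g : G, 4 ∣ orderOf g → β k g = 0 := by
    intro k hk g hg
    rw [hβ, D.alpha_four k hg, D.onePlus_four hM (hT k hk).1 hg, sub_self]
  have hgram : ∀ k ∈ T, ∀ l ∈ T, classInner (β k) (β l) = if k = l then 1 else 0 := by
    intro k hk l hl
    obtain ⟨hkV, hk1⟩ := hT k hk
    obtain ⟨hlV, hl1⟩ := hT l hl
    obtain ⟨R, hR⟩ : ∃ R : ℂ, R = ∑ g : G,
        (if 2 ∣ orderOf g then (0 : ℂ) else q8One y k g * conj (q8One y l g)) := ⟨_, rfl⟩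
    obtain ⟨Y, hY⟩ : ∃ Y : ℂ, Y = ∑ g : G, (if 4 ∣ orderOf g then (1 : ℂ) else 0) := ⟨_, rfl⟩
    have hc := D.four_count hM
    rw [← hY] at hc
    have h1 : ∑ g : G, q8One y k g * conj (q8One y l g) = 2 * R + 4 * Y := by
      rw [D.sum_split, hR, hY, Finset.mul_sum, Finset.mul_sum]
      congr 1
      · refine Finset.sum_congr rfl fun g _ => ?_
        rw [D.onePlus_translate hM hkV, D.onePlus_translate hM hlV]; split_ifs <;> ring
      · refine Finset.sum_congr rfl fun g _ => ?_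
        split_ifs with hg
        · rw [D.onePlus_four hM hkV hg, D.onePlus_four hM hlV hg, map_ofNat]; norm_num
        · simp
    have h2 : ∑ g : G, β k g * conj (β l g) = 2 * R := by
      rw [D.sum_split, hR, Finset.mul_sum, Finset.sum_eq_zero
        (s := Finset.univ) (f := fun g : G => if 4 ∣ orderOf g then β k g * conj (β l g) else 0)
        fun g _ => by split_ifs with hg <;> [(rw [hβ4 k hk g hg, zero_mul]); rfl], add_zero]
      refine Finset.sum_congr rfl fun g _ => ?_
      split_ifs with hg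
      · simp
      · rw [(hβreg k hk g hg).1, (hβreg k hk g hg).2, (hβreg l hl g hg).1, (hβreg l hl g hg).2,
          map_neg]
        ring
    have h3 := D.inner_onePlus hM hkV hlV hk1 hl1
    rw [classInner_def, h1, inv_mul_eq_iff_eq_mul₀ (natCard_ne_zero G)] at h3
    rw [classInner_def, h2, inv_mul_eq_iff_eq_mul₀ (natCard_ne_zero G)]
    split_ifs with h
    · rw [if_pos h] at h3; linear_combination h3 - hc
    · rw [if_neg h] at h3; linear_combination h3 - hc
  have hirr : ∀ k : IrrCharacter G, ∃ η : IrrCharacter G, k ∈ T →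
      ∃ c : ℂ, c * c = 1 ∧ (η : G → ℂ) = c • β k := by
    intro k
    by_cases hk : k ∈ T
    swap
    · exact ⟨one, fun h => absurd h hk⟩
    obtain ⟨hkV, -⟩ := hT k hk
    obtain ⟨m, hm⟩ : ∃ m : ℤ, (k : G → ℂ) y = m :=
      char_apply_int_of_pow_conj (isCharacter_of_isIrr k.2) fun i hi =>
        isConj_pow_of_isConj_inv D.y_order D.conj_inv hi
    have hgen : IsGeneralizedCharacter G (β k) := by
      have h := gen_sub (D.gen_alpha hM hkV) (gen_add (gen_of_char (isCharacter_one (G := G)))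
        (gen_intMul (gen_of_char (isCharacter_of_isIrr k.2)) m))
      convert h using 1
      funext g
      simp [hβ, q8One, hm]
    have hn : classInner (β k) (β k) = 1 := by rw [hgram k hk k hk, if_pos rfl]
    rcases isIrr_or_neg_of_norm hgen hn with h | h
    · exact ⟨⟨_, h⟩, fun _ => ⟨1, one_mul 1, (one_smul ℂ (β k)).symm⟩⟩
    · exact ⟨⟨_, h⟩, fun _ => ⟨-1, by norm_num, (neg_one_smul ℂ (β k)).symm⟩⟩
  choose η hη using hirr
  have hηinj : Set.InjOn η T := by
    intro k hk l hl hkl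
    obtain ⟨c, hc, hck⟩ := hη k hk
    obtain ⟨d, hd, hdl⟩ := hη l hl
    by_contra hne
    have h := irr_inner_self (η k).2
    nth_rewrite 2 [hkl] at h
    rw [hck, hdl, classInner_smul_left, classInner_smul_right, hgram k hk l hl, if_neg hne,
      mul_zero, mul_zero] at h
    exact one_ne_zero h.symm
  have hηneg : ∀ k ∈ T, (η k : G → ℂ) z = -(η k : G → ℂ) 1 := by
    intro k hk
    obtain ⟨c, -, hc⟩ := hη k hk
    have h := hβreg k hk 1 (by simp)
    rw [mul_one] at h
    rw [hc, Pi.smul_apply, Pi.smul_apply, h.1, h.2]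
    simp
  have hηB : ∀ k ∈ T, η k ∈ principalBlock M G := by
    intro k hk
    by_contra hn
    obtain ⟨hkV, hk1⟩ := hT k hk
    obtain ⟨c, hc, hck⟩ := hη k hk
    have hηk : (k : G → ℂ) ≠ (η k : G → ℂ) := fun h => hn ((Subtype.ext h : k = η k) ▸ hkV.1)
    have hη1 : (fun _ : G => (1 : ℂ)) ≠ (η k : G → ℂ) := fun h =>
      hn ((Subtype.ext (honev.trans h) : one = η k) ▸ hone ▸ one_mem_principalBlock)
    have hone0 : classInner (q8One y k) (η k : G → ℂ) = 0 := by
      have ek : q8One y k = (fun _ => 1) + (k : G → ℂ) y • (k : G → ℂ) := rfl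
      rw [ek, classInner_add_left, classInner_smul_left, irr_inner_ne isIrr_one (η k).2 hη1,
        irr_inner_ne k.2 (η k).2 hηk, mul_zero, add_zero]
    have hb0 : classInner (β k) (η k : G → ℂ) = 0 := by
      rw [show β k = q8Alpha y k - q8One y k from funext (hβ k), classInner_sub_left,
        D.inner_alpha_notMem hM hkV hn, hone0, sub_zero]
    have h := irr_inner_self (η k).2
    nth_rewrite 1 [hck] at h
    rw [classInner_smul_left, hb0, mul_zero] at h
    exact zero_ne_one h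
  have hset : Cfsg.principalBlock M G = ((V ∪ T.image η : Finset (IrrCharacter G)) : Set _) := by
    ext ψ
    rw [Finset.coe_union, Set.mem_union, Finset.mem_coe, Finset.coe_image, Set.mem_image, hVm]
    refine ⟨fun hψ => ?_, ?_⟩
    swap
    · rintro (h | ⟨k, hk, rfl⟩)
      · exact h.1
      · exact hηB k hk
    by_cases h0 : (ψ : G → ℂ) y = 0
    swap
    · exact Or.inl ⟨hψ, h0⟩
    refine Or.inr ?_
    by_contra hcon
    push Not at hcon
    have hneg : ∀ g, (ψ : G → ℂ) (z * g) = -(ψ : G → ℂ) g :=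
      (D.sign ψ).resolve_left fun h => (D.mem_V hM ψ hψ).2 h h0
    obtain ⟨B, hB⟩ : ∃ B : G → ℂ, B = ∑ k ∈ T, β k := ⟨_, rfl⟩
    have hψB : classInner (ψ : G → ℂ) B = 0 := by
      rw [hB, classInner_sum_right]
      refine Finset.sum_eq_zero fun k hk => ?_
      obtain ⟨c, hc, hck⟩ := hη k hk
      have h := irr_inner_ne ψ.2 (η k).2 fun h => hcon k hk (Subtype.ext h).symm
      rw [hck, classInner_smul_right] at h
      refine (mul_eq_zero.1 h).resolve_left fun h' => ?_
      rw [map_eq_zero] at h'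
      simp [h'] at hc
    have hBreg : ∀ g : G, ¬ 2 ∣ orderOf g → B g = -2 ∧ B (z * g) = 2 := by
      intro g hg
      have h := D.column_relation hM hg
      rw [← hVd, ← Finset.insert_erase honeV, ← hTd,
        Finset.sum_insert (by rw [hTd]; exact Finset.notMem_erase _ _), honev] at h
      simp only [mul_one] at h
      rw [hB, Finset.sum_apply, Finset.sum_apply,
        Finset.sum_congr rfl fun k hk => (hβreg k hk g hg).1,
        Finset.sum_congr rfl fun k hk => (hβreg k hk g hg).2, Finset.sum_neg_distrib]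
      simp only [q8One, Finset.sum_add_distrib, Finset.sum_const, hcardT]
      constructor
      · simp only [nsmul_eq_mul, mul_one, Nat.cast_ofNat]; linear_combination -h
      · simp only [nsmul_eq_mul, mul_one, Nat.cast_ofNat]; linear_combination h
    rw [classInner_def, mul_eq_zero] at hψB
    have hs := hψB.resolve_left (inv_ne_zero (natCard_ne_zero G))
    rw [D.sum_split, Finset.sum_congr rfl (g := fun g => (-4 : ℂ) *
        (if 2 ∣ orderOf g then 0 else (ψ : G → ℂ) g)) fun g _ => by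
          split_ifs with hg
          · ring
          · rw [(hBreg g hg).1, (hBreg g hg).2, hneg, map_neg, map_ofNat]; ring,
      Finset.sum_eq_zero (s := Finset.univ)
        (f := fun g : G => if 4 ∣ orderOf g then (ψ : G → ℂ) g * conj (B g) else 0) fun g _ => by
          split_ifs with hg
          · rw [hB, Finset.sum_apply, Finset.sum_eq_zero fun k hk => hβ4 k hk g hg, map_zero,
              mul_zero]
          · rfl,
      add_zero, ← Finset.mul_sum, mul_eq_zero] at hs
    have h2 := hs.resolve_left (by norm_num)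
    refine omegaBar_regSum_principal hM hψ ?_
    rw [omegaBar, omega_eq, Finset.sum_congr rfl fun g _ => ?_, h2, zero_div, red_zero]
    rw [coeff_regSum]
    split_ifs <;> simp
  rw [hset, Nat.card_coe_set_eq, Set.ncard_coe_finset, Finset.card_union_of_disjoint,
    Finset.card_image_of_injOn hηinj, hVd, D.card_V hM, hcardT]
  rw [Finset.disjoint_left]
  intro ψ hψV hψI
  obtain ⟨k, hk, rfl⟩ := Finset.mem_image.1 hψI
  have h1 := (D.mem_V hM _ ((hVm _).1 hψV).1).1 ((hVm _).1 hψV).2 1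
  rw [mul_one, hηneg k hk] at h1
  exact irr_one_ne_zero (η k).2 (by linear_combination -(1 / 2 : ℂ) * h1)

end Cfsg.Agent.S0951
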