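import Cfsg.Statements.S0953
import Cfsg.Agent.Blk.ClassCount
import Cfsg.Agent.Blk.Pair.FirstMain
import Cfsg.Agent.Blk.FirstMain

set_option autoImplicit false
open Cfsg

namespace Cfsg.Agent.S0953

open CfsgLib.Char CfsgLib.Blk


/-- Let P be a Sylow p-subgroup of the finite group G with normalizer N, and fix a maximal ideal M of the algebraic integers containing p. The number of blocks of G having P as a defect group equals the number of conjugacy classes of N consisting of elements of order prime to p that centralize P. -/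
theorem result {G : Type*} [Group G] [Finite G] (p : ℕ) [Fact p.Prime] (M : Ideal Cfsg.AlgInt) (hM : Cfsg.IsPModular p M) (P : Sylow p G) : Nat.card {B : Set (Cfsg.IrrCharacter G) // Cfsg.IsPBlock M B ∧ Cfsg.IsDefectGroup p M B (P : Subgroup G)} = Nat.card {C : ConjClasses (Subgroup.normalizer ((P : Subgroup G) : Set G)) // ∀ n : Subgroup.normalizer ((P : Subgroup G) : Set G), ConjClasses.mk n = C → ¬ p ∣ orderOf n ∧ (n : G) ∈ Subgroup.centralizer ((P : Subgroup G) : Set G)} := by
  classical
  haveI := CfsgLib.Blk.IsPModular.isPrime hM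
  set D : Subgroup G := (P : Subgroup G) with hDdef
  have hle : D ≤ Subgroup.normalizer (D : Set G) := Subgroup.le_normalizer
  obtain ⟨h1, h2⟩ := Pair.brauerCorrespondence (G := G) hM (P := D) (le_refl (Subgroup.normalizer (D : Set G)))
  choose f hf hfu using h1
  -- every block of the normalizer has the Sylow subgroup as defect group
  let S : Sylow p ↥(Subgroup.normalizer (D : Set G)) := P.subtype hle
  have hS : (S : Subgroup ↥(Subgroup.normalizer (D : Set G))) =
      D.subgroupOf (Subgroup.normalizer (D : Set G)) := rfl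
  haveI : (D.subgroupOf (Subgroup.normalizer (D : Set G))).Normal :=
    Subgroup.normal_subgroupOf_of_le_normalizer le_rfl
  have hdef : ∀ c : Set (IrrCharacter ↥(Subgroup.normalizer (D : Set G))), IsPBlock M c →
      IsDefectGroup p M c (D.subgroupOf (Subgroup.normalizer (D : Set G))) := by
    intro c hc
    obtain ⟨E, hE⟩ := exists_isDefectGroup hM hc
    have h3 : D.subgroupOf (Subgroup.normalizer (D : Set G)) ≤ E :=
      normal_pgroup_le_defectGroup hM hc _ (hS ▸ S.2) hE
    rwa [← hS, ← S.is_maximal' (IsDefectGroup.isPGroup hE) (hS ▸ h3)]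
  have e1 : Nat.card {B : Set (IrrCharacter G) // IsPBlock M B ∧ IsDefectGroup p M B D} =
      Nat.card {c : Set (IrrCharacter ↥(Subgroup.normalizer (D : Set G))) // IsPBlock M c} := by
    refine Nat.card_congr (Equiv.ofBijective (fun B => ⟨f B.1 B.2.1 B.2.2, (hf B.1 B.2.1 B.2.2).1⟩)
      ⟨fun B B' e => Subtype.ext ?_, fun c => ?_⟩)
    · have e' : f B.1 B.2.1 B.2.2 = f B'.1 B'.2.1 B'.2.2 := congrArg Subtype.val e
      obtain ⟨hc, hcd, hcx⟩ := hf B.1 B.2.1 B.2.2
      exact (h2 _ hc hcd).unique ⟨B.2.1, B.2.2, hcx⟩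
        ⟨B'.2.1, B'.2.2, fun x hx => by rw [e']; exact (hf B'.1 B'.2.1 B'.2.2).2.2 x hx⟩
    · obtain ⟨B, ⟨hB, hBd, hBx⟩, -⟩ := h2 c.1 c.2 (hdef c.1 c.2)
      exact ⟨⟨B, hB, hBd⟩, Subtype.ext (hfu B hB hBd c.1 ⟨c.2, hdef c.1 c.2, hBx⟩).symm⟩
  rw [e1]
  let X : Set (ConjClasses ↥(Subgroup.normalizer (D : Set G))) :=
    {C | ∀ n : ↥(Subgroup.normalizer (D : Set G)), ConjClasses.mk n = C →
      ¬ p ∣ orderOf n ∧ (n : G) ∈ Subgroup.centralizer (D : Set G)}
  show _ = Nat.card X
  refine le_antisymm ?_ ?_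
  · refine le_trans (le_of_eq (Nat.card_congr (Equiv.subtypeEquivRight fun c => ⟨fun h => ⟨h, trivial⟩, And.left⟩)))
      (card_block_le_classes hM (fun _ => True) X fun B hB _ χ hχ g hg hgX => ?_)
    by_contra hne
    refine hgX fun n hn => ?_
    have hn' : IsConj g n := (ConjClasses.mk_eq_mk_iff_isConj.1 hn).symm
    refine ⟨fun h => (regular_conj_iff hn').1 hg h, ?_⟩
    have hgC := mem_centralizer_of_centralChar hM (D.subgroupOf (Subgroup.normalizer (D : Set G)))
      (hS ▸ S.2) χ.2 g ((red_centralChar_ne_zero_iff χ.2 g).1 hne)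
    obtain ⟨y, rfl⟩ := isConj_iff.1 hn'
    exact (mem_centralizer_subgroupOf hle _).1
      ((Subgroup.normal_centralizer (H := D.subgroupOf (Subgroup.normalizer (D : Set G)))).conj_mem _ hgC y)
  · obtain ⟨O, hOn, hO, hidx⟩ := exists_complement_centralizer S
    refine card_classes_le_block hM (O.map (Subgroup.centralizer
      ((S : Subgroup ↥(Subgroup.normalizer (D : Set G))) : Set _)).subtype) ?_ X fun n hn => ?_
    · rwa [Subgroup.card_map_of_injective (Subgroup.subtype_injective _)]
    · obtain ⟨hr, hC⟩ := hn n rfl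
      have hC' : n ∈ Subgroup.centralizer
          ((S : Subgroup ↥(Subgroup.normalizer (D : Set G))) : Set _) := by
        rw [hS]; exact (mem_centralizer_subgroupOf hle n).2 hC
      refine ⟨⟨n, hC'⟩, (regular_iff_mem_complement O hO hidx _).1 ?_, rfl⟩
      rwa [← Subgroup.orderOf_coe]

end Cfsg.Agent.S0953
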