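import Cfsg.Statements.S0955
import Cfsg.Agent.Blk.FirstMain
import Cfsg.Agent.Solv.Basic

set_option autoImplicit false
open Cfsg

namespace Cfsg.Agent.S0955

open CfsgLib.Blk

/-- Let D be a defect group of a block of the finite group G relative to a maximal ideal M of the algebraic integers containing the prime p. Then D is the largest normal p-subgroup of its own normalizer: O_p(N_G(D)) = D. -/
theorem result {G : Type*} [Group G] [Finite G] (p : ℕ) [Fact p.Prime] (M : Ideal Cfsg.AlgInt) (hM : Cfsg.IsPModular p M) (B : Set (Cfsg.IrrCharacter G)) (hB : Cfsg.IsPBlock M B) (D : Subgroup G) (hD : Cfsg.IsDefectGroup p M B D) : (Cfsg.pCore p (Subgroup.normalizer (D : Set G))).map (Subgroup.normalizer (D : Set G)).subtype = D := by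
  haveI := CfsgLib.Blk.IsPModular.isPrime hM
  have hle : D ≤ Subgroup.normalizer (D : Set G) := Subgroup.le_normalizer
  obtain ⟨b, hb, hbD⟩ := exists_induced_of_defectGroup hM hle (Subgroup.centralizer_le_normalizer _)
    le_rfl hB hD
  haveI := CfsgLib.Solv.pCore_normal ↥(Subgroup.normalizer (D : Set G)) p
  haveI : (D.subgroupOf (Subgroup.normalizer (D : Set G))).Normal :=
    Subgroup.normal_subgroupOf_of_le_normalizer le_rfl
  have h1 : Cfsg.pCore p ↥(Subgroup.normalizer (D : Set G)) =
      D.subgroupOf (Subgroup.normalizer (D : Set G)) :=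
    le_antisymm (normal_pgroup_le_defectGroup hM hb.1 _ (CfsgLib.Solv.pCore_isPGroup _ p) hbD)
      (CfsgLib.Solv.le_pCore ((IsDefectGroup.isPGroup hbD)))
  rw [h1, Subgroup.map_subgroupOf_eq_of_le hle]

end Cfsg.Agent.S0955
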