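import Cfsg.Statements.S0956
import Cfsg.Agent.Blk.Green

set_option autoImplicit false
open Cfsg

namespace Cfsg.Agent.S0956

open CfsgLib.Char CfsgLib.Blk


/-- Let D be a defect group of a block of the finite group G (relative to a maximal ideal M of the algebraic integers containing the prime p) and P a Sylow p-subgroup containing D. Then there is an element x of order prime to p such that D is a Sylow p-subgroup of the centralizer of x and D = P ∩ x P x⁻¹. -/
theorem result {G : Type*} [Group G] [Finite G] (p : ℕ) [Fact p.Prime] (M : Ideal Cfsg.AlgInt) (hM : Cfsg.IsPModular p M) (B : Set (Cfsg.IrrCharacter G)) (hB : Cfsg.IsPBlock M B) (D : Subgroup G) (hD : Cfsg.IsDefectGroup p M B D) (P : Sylow p G) (hDP : D ≤ P) : ∃ x : G, ¬ p ∣ orderOf x ∧ (∃ S : Sylow p (Subgroup.centralizer ({x} : Set G)), (S : Subgroup (Subgroup.centralizer ({x} : Set G))).map (Subgroup.centralizer ({x} : Set G)).subtype = D) ∧ (P : Subgroup G) ⊓ (P : Subgroup G).map (MulAut.conj x).toMonoidHom = D := by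
  classical
  haveI := CfsgLib.Blk.IsPModular.isPrime hM
  have hle : D ≤ Subgroup.normalizer (D : Set G) := Subgroup.le_normalizer
  obtain ⟨b, hb, hbD⟩ := exists_induced_of_defectGroup hM hle (Subgroup.centralizer_le_normalizer _)
    le_rfl hB hD
  haveI : (D.subgroupOf (Subgroup.normalizer (D : Set G))).Normal :=
    Subgroup.normal_subgroupOf_of_le_normalizer le_rfl
  obtain ⟨S, hS⟩ := (P.2.comap_of_injective (Subgroup.normalizer (D : Set G)).subtype
    (Subgroup.subtype_injective _)).exists_le_sylow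
  obtain ⟨x, hxr, hxs, hxk⟩ := exists_sylow_inter_eq_of_normal hM hb.1 _ hbD S
  have hxG := isSylowIn_of_normalizer (IsDefectGroup.isPGroup hD) x hxs
  refine ⟨(x : G), by rwa [Subgroup.orderOf_coe], exists_sylow_map_eq_iff.2 hxG, ?_⟩
  set Q : Subgroup G := (P : Subgroup G) ⊓ (P : Subgroup G).map (MulAut.conj (x : G)).toMonoidHom
    with hQ
  have hDQ : D ≤ Q := by
    intro d hd
    refine ⟨hDP hd, mem_map_conj.2 ?_⟩
    have h1 := Subgroup.mem_centralizer_singleton_iff.1 (hxG.le hd)
    rw [show (x : G)⁻¹ * d * (x : G) = d by rw [mul_assoc, h1, inv_mul_cancel_left]]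
    exact hDP hd
  by_contra hne
  have hlt : D < Q := lt_of_le_of_ne hDQ (Ne.symm hne)
  have hQp : IsPGroup p Q := P.2.to_le inf_le_left
  haveI : Group.IsNilpotent Q := hQp.isNilpotent
  have hlt' : D.subgroupOf Q < ⊤ := lt_top_iff_ne_top.2 fun h =>
    hlt.not_ge (Subgroup.subgroupOf_eq_top.1 h)
  obtain ⟨q, hqN, hqD⟩ := SetLike.exists_of_lt
    (Group.normalizerCondition_of_isNilpotent (D.subgroupOf Q) hlt')
  apply hqD
  have hqn : (q : G) ∈ Subgroup.normalizer (D : Set G) := by
    rw [Subgroup.mem_normalizer_iff]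
    intro h
    constructor
    · intro hh
      exact Subgroup.mem_subgroupOf.1 ((Subgroup.mem_normalizer_iff.1 hqN ⟨h, hDQ hh⟩).1
        (Subgroup.mem_subgroupOf.2 hh))
    · intro hh
      have hmem : (q : G) * h * (q : G)⁻¹ ∈ Q := hDQ hh
      have hh' : h ∈ Q := by
        have := mul_mem (mul_mem (inv_mem q.2) hmem) q.2
        simpa [mul_assoc] using this
      exact Subgroup.mem_subgroupOf.1 ((Subgroup.mem_normalizer_iff.1 hqN ⟨h, hh'⟩).2
        (Subgroup.mem_subgroupOf.2 hh))
  obtain ⟨hqP, hqP'⟩ := Subgroup.mem_inf.1 q.2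
  rw [Subgroup.mem_subgroupOf]
  exact Subgroup.mem_subgroupOf.1 (hxk ⟨(q : G), hqn⟩ (hS hqP) (hS (Subgroup.mem_comap.2 (by simpa using mem_map_conj.1 hqP'))))

end Cfsg.Agent.S0956
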