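import Cfsg.Statements.S0957


set_option autoImplicit false
open Cfsg

namespace Cfsg.Agent.S0957

/-- Let P be a Sylow p-subgroup of the finite group G, let g, h ∈ G and let p ^ d be the order of a Sylow p-subgroup of the centralizer of g. Then the number of pairs (y, z) with y conjugate to g, z conjugate to h and z * y⁻¹ ∈ P is divisible by the order of P divided by p ^ d. -/
theorem result {G : Type*} [Group G] [Finite G] (p : ℕ) [Fact p.Prime] (P : Sylow p G) (g h : G) (S : Sylow p (Subgroup.centralizer ({g} : Set G))) : Nat.card P / Nat.card S ∣ Nat.card {yz : G × G // IsConj g yz.1 ∧ IsConj h yz.2 ∧ yz.2 * yz.1⁻¹ ∈ (P : Subgroup G)} := by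
  classical
  set T : Set (G × G) := {yz | IsConj g yz.1 ∧ IsConj h yz.2 ∧ yz.2 * yz.1⁻¹ ∈ (P : Subgroup G)}
    with hT
  show _ ∣ Nat.card T
  have hp : p.Prime := Fact.out
  letI : MulAction (P : Subgroup G) T :=
    { smul := fun q yz => ⟨((q : G) * yz.1.1 * (q : G)⁻¹, (q : G) * yz.1.2 * (q : G)⁻¹),
        yz.2.1.trans (isConj_iff.2 ⟨q, rfl⟩), yz.2.2.1.trans (isConj_iff.2 ⟨q, rfl⟩), by
          have := mul_mem (mul_mem q.2 yz.2.2.2) (inv_mem q.2)
          simpa [mul_assoc] using this⟩
      one_smul := fun yz => Subtype.ext (Prod.ext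
        (by show ((1 : (P : Subgroup G)) : G) * _ * _ = _; simp)
        (by show ((1 : (P : Subgroup G)) : G) * _ * _ = _; simp))
      mul_smul := fun q r yz => Subtype.ext (Prod.ext
        (by show ((q * r : (P : Subgroup G)) : G) * _ * _ = (q : G) * ((r : G) * _ * _) * _
            simp [mul_assoc])
        (by show ((q * r : (P : Subgroup G)) : G) * _ * _ = (q : G) * ((r : G) * _ * _) * _
            simp [mul_assoc])) }
  haveI : Fintype T := Fintype.ofFinite _
  rw [Nat.card_congr (MulAction.selfEquivSigmaOrbits (P : Subgroup G) T)]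
  haveI : Fintype (MulAction.orbitRel.Quotient (P : Subgroup G) T) := Fintype.ofFinite _
  rw [Nat.card_sigma]
  refine Finset.dvd_sum fun ω _ => ?_
  set x : T := ω.out with hx
  have hmul : Nat.card (MulAction.orbit (P : Subgroup G) x) *
      Nat.card (MulAction.stabilizer (P : Subgroup G) x) = Nat.card (P : Subgroup G) := by
    rw [← Nat.card_prod]
    exact Nat.card_congr (MulAction.orbitProdStabilizerEquivGroup (P : Subgroup G) x)
  have hst : Nat.card (MulAction.stabilizer (P : Subgroup G) x) ∣ Nat.card S := by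
    obtain ⟨c, hc⟩ := isConj_iff.1 x.2.1
    let K : Subgroup G := ((MulAction.stabilizer (P : Subgroup G) x).map
      (P : Subgroup G).subtype).map (MulAut.conj c⁻¹).toMonoidHom
    have hK : Nat.card K = Nat.card (MulAction.stabilizer (P : Subgroup G) x) := by
      simp only [K]
      rw [Subgroup.card_map_of_injective (MulAut.conj c⁻¹).injective,
        Subgroup.card_map_of_injective (Subgroup.subtype_injective _)]
    have hKC : K ≤ Subgroup.centralizer ({g} : Set G) := by
      rintro _ ⟨_, ⟨q, hq, rfl⟩, rfl⟩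
      have h1 : (q : G) * x.1.1 * (q : G)⁻¹ = x.1.1 :=
        congrArg (fun t : T => t.1.1) (MulAction.mem_stabilizer_iff.1 hq)
      rw [← hc, mul_inv_eq_iff_eq_mul] at h1
      rw [Subgroup.mem_centralizer_singleton_iff]
      simp only [MulEquiv.toMonoidHom_eq_coe, Subgroup.coe_subtype, MonoidHom.coe_coe,
        MulAut.conj_apply, inv_inv]
      calc c⁻¹ * (q : G) * c * g = c⁻¹ * ((q : G) * (c * g * c⁻¹)) * c := by group
        _ = c⁻¹ * (c * g * c⁻¹ * (q : G)) * c := by rw [h1]
        _ = g * (c⁻¹ * (q : G) * c) := by group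
    have hKp : IsPGroup p K :=
      ((P.2.to_subgroup (MulAction.stabilizer (P : Subgroup G) x)).map _).map _
    obtain ⟨k, hk⟩ := IsPGroup.iff_card.1 hKp
    have h3 : Nat.card (K.subgroupOf (Subgroup.centralizer ({g} : Set G))) = p ^ k := by
      rw [Nat.card_congr (Subgroup.subgroupOfEquivOfLe hKC).toEquiv, hk]
    have h2 : p ^ k ∣ Nat.card (Subgroup.centralizer ({g} : Set G)) :=
      h3 ▸ Subgroup.card_subgroup_dvd_card _
    rw [← hK, hk, S.card_eq_multiplicity]
    exact Nat.pow_dvd_pow p ((hp.pow_dvd_iff_le_factorization Nat.card_pos.ne').1 h2)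
  obtain ⟨a, ha⟩ := IsPGroup.iff_card.1 S.2
  obtain ⟨d, hd⟩ := hst
  have hdvd : Nat.card (P : Subgroup G) / Nat.card S ∣ Nat.card (MulAction.orbit (P : Subgroup G) x) := by
    by_cases hSP : Nat.card S ∣ Nat.card (P : Subgroup G)
    · obtain ⟨e, he⟩ := hSP
      rw [he, Nat.mul_div_cancel_left _ Nat.card_pos]
      refine ⟨d, ?_⟩
      have hpos : 0 < Nat.card (MulAction.stabilizer (P : Subgroup G) x) := Nat.card_pos
      refine Nat.eq_of_mul_eq_mul_right hpos ?_
      rw [hmul, he, hd]
      ring
    · exfalso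
      apply hSP
      have h4 : p ^ a ∣ Nat.card G := by
        rw [← ha]
        exact (Subgroup.card_subgroup_dvd_card
          (S : Subgroup (Subgroup.centralizer ({g} : Set G)))).trans
            (Subgroup.card_subgroup_dvd_card _)
      rw [ha, P.card_eq_multiplicity]
      exact Nat.pow_dvd_pow p ((hp.pow_dvd_iff_le_factorization Nat.card_pos.ne').1 h4)
  exact hdvd

end Cfsg.Agent.S0957
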