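import Cfsg.Statements.S0958
import Cfsg.Agent.Blk.FirstMain

set_option autoImplicit false
open Cfsg

namespace Cfsg.Agent.S0958

open CfsgLib.Blk

/-- Let P be a p-subgroup of the finite group G and H a subgroup with P ⊔ C_G(P) ≤ H ≤ N_G(P); fix a maximal ideal M of the algebraic integers containing p. Then a block B of G is induced by some block of H if and only if some conjugate of P is contained in a defect group of B. -/
theorem result {G : Type*} [Group G] [Finite G] (p : ℕ) [Fact p.Prime] (M : Ideal Cfsg.AlgInt) (hM : Cfsg.IsPModular p M) (P H : Subgroup G) (hP : IsPGroup p P) (hPH : P ⊔ Subgroup.centralizer (P : Set G) ≤ H) (hHN : H ≤ Subgroup.normalizer (P : Set G)) (B : Set (Cfsg.IrrCharacter G)) (hB : Cfsg.IsPBlock M B) : (∃ b : Set (Cfsg.IrrCharacter H), Cfsg.IsInducedBlock M H b B) ↔ ∃ D : Subgroup G, Cfsg.IsDefectGroup p M B D ∧ ∃ x : G, P.map (MulAut.conj x).toMonoidHom ≤ D := by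
  haveI := CfsgLib.Blk.IsPModular.isPrime hM
  have hle : P ≤ H := le_sup_left.trans hPH
  have hC : Subgroup.centralizer (P : Set G) ≤ H := le_sup_right.trans hPH
  constructor
  · rintro ⟨b, hb⟩
    haveI : (P.subgroupOf H).Normal := Subgroup.normal_subgroupOf_of_le_normalizer hHN
    obtain ⟨E, hE⟩ := exists_isDefectGroup hM hb.1
    have h1 := normal_pgroup_le_defectGroup hM hb.1 _
      (hP.of_equiv (Subgroup.subgroupOfEquivOfLe hle).symm) hE
    obtain ⟨F, hF, hEF⟩ := exists_defectGroup_ge hM hb hE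
    refine ⟨F, hF, 1, ?_⟩
    rintro _ ⟨y, hy, rfl⟩
    simpa using hEF ⟨⟨y, hle hy⟩, h1 (Subgroup.mem_subgroupOf.2 hy), rfl⟩
  · rintro ⟨D, hD, x, hx⟩
    obtain ⟨g, hg, hs⟩ := isDefectGroup_iff.1 hD
    have hgC : x⁻¹ * g * x ∈ Subgroup.centralizer (P : Set G) := fun q hq => by
      have h2 : x * q * x⁻¹ ∈ D := hx ⟨q, hq, by simp⟩
      have h3 := Subgroup.mem_centralizer_singleton_iff.1 (hs.le h2)
      calc q * (x⁻¹ * g * x) = x⁻¹ * ((x * q * x⁻¹) * g) * x := by group
        _ = x⁻¹ * g * x * q := by rw [h3]; group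
    obtain ⟨b, hb, -⟩ := exists_induced_of_unit hM P H hP hle hC hHN hB ⟨_, hC hgC⟩ hgC (by
      have h4 := (isDefectClass_conj hg x⁻¹).2.1
      simpa using h4)
    exact ⟨b, hb⟩

end Cfsg.Agent.S0958
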