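import Cfsg.Statements.S0959
import Cfsg.Agent.Blk.MinMax

set_option autoImplicit false
open Cfsg

namespace Cfsg.Agent.S0959

/-- Let B be a block of the finite group G with defect group D (relative to a maximal ideal M of the algebraic integers containing the prime p), and let P be a p-subgroup. Then there is an element g whose idempotent coefficient for B is a local integer outside the local ideal at M and which has a conjugate centralizing P, if and only if some conjugate of P is contained in D. -/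
theorem result {G : Type*} [Group G] [Finite G] (p : ℕ) [Fact p.Prime] (M : Ideal Cfsg.AlgInt) (hM : Cfsg.IsPModular p M) (B : Set (Cfsg.IrrCharacter G)) (hB : Cfsg.IsPBlock M B) (D : Subgroup G) (hD : Cfsg.IsDefectGroup p M B D) (P : Subgroup G) (hP : IsPGroup p P) : (∃ g : G, Cfsg.MemLocalRing M (Cfsg.blockCoeff B g) ∧ ¬ Cfsg.MemLocalIdeal M (Cfsg.blockCoeff B g) ∧ ∃ c : G, IsConj g c ∧ c ∈ Subgroup.centralizer (P : Set G)) ↔ ∃ x : G, P.map (MulAut.conj x).toMonoidHom ≤ D := by
  haveI := CfsgLib.Blk.IsPModular.isPrime hM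
  obtain ⟨g₀, hg₀, hs⟩ := CfsgLib.Blk.isDefectGroup_iff.1 hD
  constructor
  · rintro ⟨g, -, hg, c, hc, hcP⟩
    obtain ⟨y, rfl⟩ := isConj_iff.1 hc
    refine CfsgLib.Blk.minmax_le hM hB hD (y * g * y⁻¹) ?_ hP fun q hq =>
      Subgroup.mem_centralizer_singleton_iff.2 (hcP q hq)
    rwa [CfsgLib.Blk.blockCoeff_conj]
  · rintro ⟨x, hx⟩
    refine ⟨g₀, hg₀.1, hg₀.2.1, x⁻¹ * g₀ * x, isConj_iff.2 ⟨x⁻¹, by group⟩, fun q hq => ?_⟩
    have h2 : x * q * x⁻¹ ∈ D := hx ⟨q, hq, by simp⟩
    have h3 := Subgroup.mem_centralizer_singleton_iff.1 (hs.le h2)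
    calc q * (x⁻¹ * g₀ * x) = x⁻¹ * ((x * q * x⁻¹) * g₀) * x := by group
      _ = x⁻¹ * g₀ * x * q := by rw [h3]; group

end Cfsg.Agent.S0959
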