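import Cfsg.Statements.S0963
import Cfsg.Agent.Blk.Cover

set_option autoImplicit false
open Cfsg

namespace Cfsg.Agent.S0963

open CfsgLib.Char CfsgLib.Blk


/-- Let N be a normal subgroup of the finite group G, χ an irreducible character of G and θ an irreducible character of N. Then θ occurs in the restriction of χ to N if and only if, for every n ∈ N, the central character of χ at n (class size in G times χ n over χ 1) equals the sum of θ m / θ 1 over the elements m of N conjugate in G to n. -/
theorem result {G : Type*} [Group G] [Fintype G] (N : Subgroup G) [N.Normal] [Fintype N] (χ : Cfsg.IrrCharacter G) (θ : Cfsg.IrrCharacter N) : Cfsg.classInner (fun n : N => (χ : G → ℂ) n) (θ : N → ℂ) ≠ 0 ↔ ∀ n : N, Cfsg.centralChar (χ : G → ℂ) (n : G) = Cfsg.inducedCentralChar N (θ : N → ℂ) (n : G) := by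
  classical
  refine ⟨fun h n => centralChar_eq_induced χ.2 θ.2 h n, fun h => ?_⟩
  obtain ⟨φ, hφi, hφ⟩ := exists_constituent_res (N := N) χ.2
  have hθ1 : indFun N (θ : N → ℂ) 1 ≠ 0 := by
    rw [indFun_one]
    exact mul_ne_zero (Nat.cast_ne_zero.2 Subgroup.index_ne_zero_of_finite) (irr_one_ne_zero θ.2)
  have hφ1 : indFun N φ 1 ≠ 0 := by
    rw [indFun_one]
    exact mul_ne_zero (Nat.cast_ne_zero.2 Subgroup.index_ne_zero_of_finite) (irr_one_ne_zero hφi)
  have e : (indFun N (θ : N → ℂ) 1) • indFun N φ = (indFun N φ 1) • indFun N (θ : N → ℂ) := by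
    funext g
    simp only [Pi.smul_apply, smul_eq_mul]
    by_cases hg : g ∈ N
    · have h1 := (h ⟨g, hg⟩).symm.trans (centralChar_eq_induced χ.2 hφi hφ ⟨g, hg⟩)
      rw [← centralChar_indFun, ← centralChar_indFun, centralChar, centralChar] at h1
      have hi : ((Subgroup.centralizer ({g} : Set G)).index : ℂ) ≠ 0 :=
        Nat.cast_ne_zero.2 Subgroup.index_ne_zero_of_finite
      field_simp at h1
      linear_combination (-1 : ℂ) * h1
    · rw [indFun_outside _ hg, indFun_outside _ hg, mul_zero, mul_zero]
  have h2 := congrArg (fun f => classInner (χ : G → ℂ) f) e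
  simp only [classInner_smul_right, frobenius' N _ (classFun_of_irr χ.2)] at h2
  intro h0
  rw [h0, mul_zero] at h2
  exact mul_ne_zero (by simpa using hθ1) hφ h2

end Cfsg.Agent.S0963
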