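import Cfsg.Statements.S0966
import Cfsg.Agent.Blk.Cover

set_option autoImplicit false
open Cfsg

namespace Cfsg.Agent.S0966

open CfsgLib.Char CfsgLib.Blk


/-- Let N be a normal subgroup of p-power index in the finite group G and b a block of N relative to a maximal ideal M of the algebraic integers containing p. Then there is exactly one block B of G containing a character whose restriction to N has a constituent in b. -/
theorem result {G : Type*} [Group G] [Fintype G] (p : ℕ) [Fact p.Prime] (M : Ideal Cfsg.AlgInt) (hM : Cfsg.IsPModular p M) (N : Subgroup G) [N.Normal] [Fintype N] (hidx : ∃ k : ℕ, N.index = p ^ k) (b : Set (Cfsg.IrrCharacter N)) (hb : Cfsg.IsPBlock M b) : ∃! B : Set (Cfsg.IrrCharacter G), Cfsg.IsPBlock M B ∧ ∃ χ ∈ B, ∃ θ ∈ b, Cfsg.classInner (fun n : N => (χ : G → ℂ) n) (θ : N → ℂ) ≠ 0 := by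
  classical
  haveI := CfsgLib.Blk.IsPModular.isPrime hM
  obtain ⟨θ, hθ⟩ := isPBlock_nonempty hb
  have hne : indFun N (θ : N → ℂ) ≠ 0 := fun e =>
    (mul_ne_zero (Nat.cast_ne_zero.2 Subgroup.index_ne_zero_of_finite) (irr_one_ne_zero θ.2))
      ((indFun_one N (θ : N → ℂ)).symm.trans (congrFun e 1))
  obtain ⟨χ, hχ⟩ := exists_constituent (isCharacter_indFun N (isCharacter_of_isIrr θ.2)) hne
  rw [frobenius N _ (classFun_of_irr χ.2), ← classInner_conj] at hχ
  have hcon : classInner (fun n : N => (χ : G → ℂ) n) (θ : N → ℂ) ≠ 0 := fun e => hχ (by simp [e])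
  refine ⟨_, ⟨blockOf_isPBlock χ, χ, sameBlock_refl _, θ, hθ, hcon⟩, ?_⟩
  rintro B ⟨hB, χ', hχ', θ', hθ', hcon'⟩
  rw [eq_blockOf hB hχ', blockOf_eq_iff]
  refine sameBlock_of_regular hM fun g hg => ?_
  have hgN := Pair.mem_N_of_regular hidx hg
  have h1 := red_centralChar_eq (sameBlock_refl (χ' : G → ℂ))
    (sameBlock_of_mem hb hθ' hθ) hcon' ⟨g, hgN⟩
  have h2 := red_centralChar_eq (M := M) (sameBlock_refl (χ : G → ℂ))
    (sameBlock_refl (θ : N → ℂ)) hcon ⟨g, hgN⟩
  exact h1.trans h2.symm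

end Cfsg.Agent.S0966
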