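import Cfsg.Statements.S0968
import Cfsg.Agent.Blk.Canonical

set_option autoImplicit false
open Cfsg

namespace Cfsg.Agent.S0968

set_option linter.style.haveILetI false
open CfsgLib.Char CfsgLib.Blk

/-- Let P be a p-subgroup of the finite group G with P ⊔ C_G(P) = G, and let B be a block with defect group P relative to a maximal ideal M of the algebraic integers containing p. Then there is exactly one θ ∈ B with θ x = θ 1 for all x ∈ P; for this θ the exponent of p in θ(1) equals the exponent of p in the index of P; and the number of members of B equals the number of conjugacy classes of P. -/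
theorem result {G : Type*} [Group G] [Finite G] (p : ℕ) [Fact p.Prime] (M : Ideal Cfsg.AlgInt) (hM : Cfsg.IsPModular p M) (P : Subgroup G) (hP : IsPGroup p P) (hG : P ⊔ Subgroup.centralizer (P : Set G) = ⊤) (B : Set (Cfsg.IrrCharacter G)) (hB : Cfsg.IsPBlock M B) (hD : Cfsg.IsDefectGroup p M B P) : (∃! θ : Cfsg.IrrCharacter G, θ ∈ B ∧ ∀ x ∈ P, (θ : G → ℂ) x = (θ : G → ℂ) 1) ∧ (∀ θ ∈ B, (∀ x ∈ P, (θ : G → ℂ) x = (θ : G → ℂ) 1) → (Cfsg.charDegree (θ : G → ℂ)).factorization p = P.index.factorization p) ∧ Nat.card B = Nat.card (ConjClasses P) := by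
  classical
  haveI := CfsgLib.Blk.IsPModular.isPrime hM
  haveI := Fintype.ofFinite G
  haveI := Fintype.ofFinite P
  haveI := normal_of_pc_top hG
  obtain ⟨θ, hθ, htriv⟩ := exists_trivial_on hM hB P hP
  obtain ⟨F, hF, hsur, hinj⟩ := canonical_param hP hG hM hB hD hθ htriv
  refine ⟨⟨θ, ⟨hθ, htriv⟩, fun θ' hθ' => ?_⟩,
    fun θ' h1 h2 => (canonical_facts hP hG hM hB hD h1 h2).1, ?_⟩
  · obtain ⟨ζ, rfl⟩ := hsur θ' hθ'.1
    obtain ⟨ζ₁, hζ₁⟩ := hsur θ hθ
    have hp1 : ¬ p ∣ orderOf (1 : G) := by simpa using (Fact.out : p.Prime).ne_one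
    have key : ∀ ξ : IrrCharacter P, (∀ y ∈ P, (F ξ : G → ℂ) y = (F ξ : G → ℂ) 1) →
        (ξ : P → ℂ) = fun _ => 1 := by
      intro ξ hξ
      have hc : ∀ y : P, (ξ : P → ℂ) y = (ξ : P → ℂ) 1 := by
        intro y
        have h := hξ y y.2
        rw [(hF ξ).2] at h
        have e1 := secFun_mul hP hG (θ : G → ℂ) (ξ : P → ℂ) y hp1
        have e2 := secFun_mul hP hG (θ : G → ℂ) (ξ : P → ℂ) 1 hp1
        rw [mul_one] at e1 e2
        rw [Subgroup.coe_one] at e2
        rw [e1, e2] at h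
        exact mul_right_cancel₀ (irr_one_ne_zero θ.2) h
      by_contra hne
      have h := irr_inner_ne ξ.2 isIrr_one hne
      rw [classInner_def] at h
      simp only [hc, map_one, mul_one, Finset.sum_const, nsmul_eq_mul, Finset.card_univ,
        ← Nat.card_eq_fintype_card] at h
      rw [inv_mul_cancel_left₀ (natCard_ne_zero P)] at h
      exact irr_one_ne_zero ξ.2 h
    rw [← hζ₁]
    congr 1
    exact Subtype.ext ((key ζ hθ'.2).trans (key ζ₁ (by rw [hζ₁]; exact htriv)).symm)
  · rw [← card_irr_eq_card_conjClasses]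
    exact Nat.card_congr (Equiv.ofBijective (fun ζ : IrrCharacter P => (⟨F ζ, (hF ζ).1⟩ : B))
      ⟨fun a b h => hinj (congrArg Subtype.val h), fun ψ => by
        obtain ⟨ζ, hζ⟩ := hsur ψ.1 ψ.2
        exact ⟨ζ, Subtype.ext hζ⟩⟩).symm

end Cfsg.Agent.S0968
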