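import Cfsg.Statements.S0969
import Cfsg.Agent.Blk.Canonical

set_option autoImplicit false
open Cfsg

namespace Cfsg.Agent.S0969

set_option linter.style.haveILetI false
open CfsgLib.Char CfsgLib.Blk

/-- Let D be a central p-subgroup of the finite group G and χ an irreducible character with the exponent of p in χ(1) equal to the exponent of p in the index of D; fix a maximal ideal M of the algebraic integers containing p. Then D is a defect group of the block of χ, and χ g = 0 whenever the p-part of g does not lie in D. -/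
theorem result {G : Type*} [Group G] [Finite G] (p : ℕ) [Fact p.Prime] (M : Ideal Cfsg.AlgInt) (hM : Cfsg.IsPModular p M) (D : Subgroup G) (hD : IsPGroup p D) (hDZ : D ≤ Subgroup.center G) (χ : Cfsg.IrrCharacter G) (hdeg : (Cfsg.charDegree (χ : G → ℂ)).factorization p = D.index.factorization p) : Cfsg.IsDefectGroup p M (Cfsg.blockOf M (χ : G → ℂ)) D ∧ ∀ g x : G, Cfsg.IsPPart p g x → x ∉ D → (χ : G → ℂ) g = 0 := by
  classical
  haveI := CfsgLib.Blk.IsPModular.isPrime hM
  haveI := Fintype.ofFinite G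
  haveI := Fintype.ofFinite D
  have hp : p.Prime := Fact.out
  have hcen : ∀ y ∈ D, ∀ g : G, Commute y g := fun y hy g =>
    (Subgroup.mem_center_iff.1 (hDZ hy) g).symm
  haveI : D.Normal := ⟨fun y hy g => by rw [← (hcen y hy g).eq, mul_inv_cancel_right]; exact hy⟩
  have hG : D ⊔ Subgroup.centralizer (D : Set G) = ⊤ :=
    eq_top_iff.2 fun g _ => Subgroup.mem_sup_right fun y hy => (hcen y hy g).eq
  have hcc : ∀ θ : IrrCharacter G, ∃ η : IrrCharacter D, (η : D → ℂ) 1 = 1 ∧
      ∀ (y : D) (x : G), (θ : G → ℂ) ((y : G) * x) = (η : D → ℂ) y * (θ : G → ℂ) x := by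
    intro θ
    have h0 := irr_one_ne_zero θ.2
    let hom : D →* ℂ :=
      { toFun := fun y => (θ : G → ℂ) (y : G) / (θ : G → ℂ) 1
        map_one' := by rw [Subgroup.coe_one, div_self h0]
        map_mul' := fun y w => by
          rw [Subgroup.coe_mul, center_apply_mul θ.2 (hcen y y.2) (w : G)]; ring }
    refine ⟨⟨fun y => hom y, isIrr_linear (MonoidHom.toHomUnits hom)⟩, map_one hom, fun y x => ?_⟩
    exact center_apply_mul θ.2 (hcen y y.2) x
  obtain ⟨μ, -, hμ⟩ := hcc χ
  obtain ⟨hvan, hreg⟩ := sec_norm hD hG hM χ hdeg μ (fun y x _ => hμ y x)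
  refine ⟨?_, fun g x hx hxD => hvan g (by rwa [ppOf_eq hx])⟩
  have hB : Cfsg.IsPBlock M (Cfsg.blockOf M (χ : G → ℂ)) := blockOf_isPBlock χ
  obtain ⟨ψ, hψ, h0⟩ := exists_height_zero hM hB
  obtain ⟨ν, hν1, hν⟩ := hcc ψ
  obtain ⟨hirr, -⟩ := sec_irr hD hG hM χ hdeg hreg ν
  have hne : classInner (ψ : G → ℂ) (secFun p D (χ : G → ℂ) (ν : D → ℂ)) ≠ 0 := by
    obtain ⟨S, hS⟩ : ∃ S : ℂ, S = ∑ x : G, (if p ∣ orderOf x then 0 else
        (ψ : G → ℂ) x * (starRingEnd ℂ) ((χ : G → ℂ) x)) := ⟨_, rfl⟩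
    have hS0 : S ≠ 0 := by
      intro h
      refine omega_regElt_unit hM hB hψ h0 (χ := χ) (sameBlock_refl _) ?_
      rw [omega_eq]
      have e : ∑ x : G, (((regElt M p ψ).coeff x : locRing M) : ℂ) * (χ : G → ℂ) x = 0 := by
        rw [show (0 : ℂ) = (starRingEnd ℂ) 0 from (map_zero _).symm, ← h, hS, map_sum]
        refine Finset.sum_congr rfl fun x _ => ?_
        rw [coeff_regElt]
        split_ifs <;> simp [Complex.conj_conj]
      rw [e, zero_div]
      exact memLocalIdeal_zero
    rw [inner_secFun hD hG]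
    have e : ∀ y : D, ∑ x : G, (if p ∣ orderOf x then (0 : ℂ) else
        (ψ : G → ℂ) ((y : G) * x) * (starRingEnd ℂ) ((χ : G → ℂ) x)) = (ν : D → ℂ) y * S := by
      intro y
      rw [hS, Finset.mul_sum]
      exact Finset.sum_congr rfl fun x _ => by
        split_ifs
        · simp
        · rw [hν, mul_assoc]
    simp only [e, ← mul_assoc]
    rw [← Finset.sum_mul]
    have hη : ∑ y : D, (starRingEnd ℂ) ((ν : D → ℂ) y) * (ν : D → ℂ) y = (Nat.card D : ℂ) := by
      have h := irr_inner_self ν.2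
      rw [classInner_def, inv_mul_eq_iff_eq_mul₀ (natCard_ne_zero D), mul_one] at h
      rw [← h]; exact Finset.sum_congr rfl fun y _ => mul_comm _ _
    rw [hη]
    exact mul_ne_zero (inv_ne_zero (natCard_ne_zero G)) (mul_ne_zero (natCard_ne_zero D) hS0)
  have heq : (ψ : G → ℂ) = secFun p D (χ : G → ℂ) (ν : D → ℂ) := by
    by_contra h; exact hne (irr_inner_ne ψ.2 hirr h)
  have hdψ : charDegree (ψ : G → ℂ) = charDegree (χ : G → ℂ) := by
    refine charDegree_eq ?_
    have e := secFun_mul hD hG (χ : G → ℂ) (ν : D → ℂ) 1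
      (show ¬ p ∣ orderOf (1 : G) by simpa using hp.ne_one)
    rw [Subgroup.coe_one, one_mul, hν1, one_mul, ← heq, irr_one_eq χ.2] at e
    exact e
  have hh := degExp_eq_height_add hM hB hψ
  have hle := blockDefect_le (p := p) hM (Cfsg.blockOf M (χ : G → ℂ))
  obtain ⟨E, hE⟩ := exists_isDefectGroup hM hB
  have hDE : D ≤ E := normal_pgroup_le_defectGroup hM hB D hD hE
  have hfac : (Nat.card G).factorization p =
      (Nat.card D).factorization p + D.index.factorization p := by
    rw [← Subgroup.card_mul_index D, Nat.factorization_mul Nat.card_pos.ne'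
      Subgroup.index_ne_zero_of_finite, Finsupp.add_apply]
  simp only [degExp, pExp, h0, hdψ, hdeg] at hh hle
  obtain ⟨k, hk⟩ := IsPGroup.iff_card.1 hD
  rw [hk, hp.factorization_pow, Finsupp.single_eq_same] at hfac
  have hcard : Nat.card E ≤ Nat.card D := by
    rw [card_defectGroup hM hB hE, hk]
    exact Nat.pow_le_pow_right hp.pos (by omega)
  exact (Subgroup.eq_of_le_of_card_ge hDE hcard) ▸ hE

end Cfsg.Agent.S0969
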