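import Cfsg.Statements.S0970
import Cfsg.Agent.Blk.Cover
import Cfsg.Agent.Blk.Defect
import Cfsg.Agent.Blk.MinMax
import Cfsg.Agent.Blk.Pair.Principal
import Cfsg.Agent.Blk.FirstMain

set_option autoImplicit false
open Cfsg

namespace Cfsg.Agent.S0970

open CfsgLib.Char CfsgLib.Blk CfsgLib.Blk.Pair MonoidAlgebra
set_option linter.unusedSectionVars false

theorem card_mul_relIndex {G : Type*} [Group G] {H K : Subgroup G} (h : H ≤ K) :
    Nat.card H * H.relIndex K = Nat.card K := by
  rw [← Subgroup.relIndex_bot_left, ← Subgroup.relIndex_bot_left]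
  exact Subgroup.relIndex_mul_relIndex ⊥ H K bot_le h

/-- The reduced central character of a block of a normal subgroup on a class of the group. -/
theorem lam_resA_classSum {G : Type*} [Group G] [Fintype G] {M : Ideal AlgInt} [M.IsPrime]
    (N : Subgroup G) [hN : N.Normal] [Fintype N] {θ : IrrCharacter N}
    (hinv : ∀ x : G, SameBlock M (conjN (θ : N → ℂ) x) (θ : N → ℂ)) (g : G) (hg : g ∈ N) :
    ∃ k : ℕ, k * (Subgroup.centralizer ({⟨g, hg⟩} : Set N)).index =
      (Subgroup.centralizer ({g} : Set G)).index ∧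
      red M (inducedCentralChar N (θ : N → ℂ) g) =
        (k : Res M) * red M (centralChar (θ : N → ℂ) ⟨g, hg⟩) := by
  classical
  haveI : Fintype (ConjClasses N) := Fintype.ofFinite _
  let S := Finset.univ.filter (fun C : ConjClasses N => IsConj g ((C.out : N) : G))
  have hsame : ∀ C ∈ S, (Subgroup.centralizer ({C.out} : Set N)).index =
      (Subgroup.centralizer ({⟨g, hg⟩} : Set N)).index ∧
      red M (centralChar (θ : N → ℂ) C.out) = red M (centralChar (θ : N → ℂ) ⟨g, hg⟩) := by
    intro C hC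
    obtain ⟨x, hx⟩ := isConj_iff.1 (Finset.mem_filter.1 hC).2
    have hy : (MulAut.conjNormal x : MulAut N) ⟨g, hg⟩ = C.out := Subtype.ext (by
      rw [MulAut.conjNormal_apply]; exact hx)
    refine ⟨by rw [← hy, index_centralizer_equiv], ?_⟩
    have h1 : centralChar (conjN (θ : N → ℂ) x) ⟨g, hg⟩ = centralChar (θ : N → ℂ) C.out := by
      rw [conjN_eq_comp, centralChar, centralChar, Function.comp_apply, Function.comp_apply,
        map_one, hy, ← index_centralizer_equiv (MulAut.conjNormal x : MulAut N) ⟨g, hg⟩, hy]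
    rw [← h1]
    exact (sameBlock_iff_red (irr_conjN θ.2 x) θ.2).1 (hinv x) _
  refine ⟨S.card, ?_, ?_⟩
  · have h1 : (Finset.univ.filter (fun n : N => IsConj g (n : G))).card =
        ∑ C ∈ S, (Finset.univ.filter (fun n : N => IsConj C.out n)).card := by
      rw [Finset.card_eq_sum_card_fiberwise (f := ConjClasses.mk) (t := S) fun n hn => ?_]
      · refine Finset.sum_congr rfl fun C hC => ?_
        congr 1
        ext n
        simp only [Finset.mem_filter, Finset.mem_univ, true_and]
        refine ⟨fun h => ?_, fun h => ?_⟩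
        · rw [← ConjClasses.mk_eq_mk_iff_isConj]; exact (Quotient.out_eq C).trans h.2.symm
        · refine ⟨(Finset.mem_filter.1 hC).2.trans (MonoidHom.map_isConj N.subtype h), ?_⟩
          exact ((ConjClasses.mk_eq_mk_iff_isConj.2 h).symm).trans (Quotient.out_eq C)
      · rw [Finset.mem_coe, Finset.mem_filter]
        have h2 : IsConj (ConjClasses.mk n).out n :=
          ConjClasses.mk_eq_mk_iff_isConj.1 (Quotient.out_eq _)
        exact ⟨Finset.mem_univ _, (Finset.mem_filter.1 hn).2.trans (MonoidHom.map_isConj N.subtype h2.symm)⟩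
    have h2 : ∀ C ∈ S, (Finset.univ.filter (fun n : N => IsConj C.out n)).card =
        (Subgroup.centralizer ({⟨g, hg⟩} : Set N)).index := by
      intro C hC
      rw [← (hsame C hC).1, ← card_isConj, Nat.card_eq_fintype_card, Fintype.card_subtype]
    rw [Finset.sum_congr rfl h2, Finset.sum_const, smul_eq_mul] at h1
    rw [← h1, ← card_isConj, ← Fintype.card_subtype, ← Nat.card_eq_fintype_card]
    exact Nat.card_congr
      { toFun := fun n => ⟨(n.1 : G), n.2⟩
        invFun := fun y => ⟨⟨y.1, by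
          obtain ⟨x, hx⟩ := isConj_iff.1 y.2
          rw [← hx]; exact hN.conj_mem g hg x⟩, y.2⟩
        left_inv := fun n => rfl
        right_inv := fun y => rfl }
  · rw [← omegaBar_resA_classSum, omegaBar_eq_sum θ.2 (isClassCoeff_resA N (isClassCoeff_classSum _ g))]
    rw [← Finset.sum_subset (Finset.subset_univ S) fun C _ hC => ?_,
      Finset.sum_congr rfl (g := fun _ => red M (centralChar (θ : N → ℂ) ⟨g, hg⟩)) fun C hC => ?_,
      Finset.sum_const, nsmul_eq_mul]
    · rw [coeff_resA, coeff_classSum, if_pos (Finset.mem_filter.1 hC).2, map_one, one_mul,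
        (hsame C hC).2]
    · rw [coeff_resA, coeff_classSum, if_neg (by simpa [S] using hC), map_zero, zero_mul]


/-- Let N be a normal subgroup of the finite group G and fix a maximal ideal M of the algebraic integers containing the prime p. Let b be a block of N that is invariant under conjugation by G, and B a block of G covering b (some χ ∈ B has a constituent in b) whose defect is at least that of every block covering b. If P is a defect group of B, then p does not divide the index of P ⊔ N, the subgroup P ∩ N of N is a defect group of b, and the defect of B equals the defect of b plus the exponent of p in the index of N. -/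
theorem result {G : Type*} [Group G] [Fintype G] (p : ℕ) [Fact p.Prime] (M : Ideal Cfsg.AlgInt) (hM : Cfsg.IsPModular p M) (N : Subgroup G) [hN : N.Normal] [Fintype N] (b : Set (Cfsg.IrrCharacter N)) (hb : Cfsg.IsPBlock M b) (hinv : ∀ g : G, ∀ θ ∈ b, ∀ θ' : Cfsg.IrrCharacter N, (∀ n : N, (θ' : N → ℂ) n = (θ : N → ℂ) ⟨g * n * g⁻¹, hN.conj_mem n n.2 g⟩) → θ' ∈ b) (B : Set (Cfsg.IrrCharacter G)) (hB : Cfsg.IsPBlock M B) (hcov : ∃ χ ∈ B, ∃ θ ∈ b, Cfsg.classInner (fun n : N => (χ : G → ℂ) n) (θ : N → ℂ) ≠ 0) (hmax : ∀ B' : Set (Cfsg.IrrCharacter G), Cfsg.IsPBlock M B' → (∃ χ ∈ B', ∃ θ ∈ b, Cfsg.classInner (fun n : N => (χ : G → ℂ) n) (θ : N → ℂ) ≠ 0) → Cfsg.blockDefect p B' ≤ Cfsg.blockDefect p B) (P : Subgroup G) (hP : Cfsg.IsDefectGroup p M B P) : ¬ p ∣ (P ⊔ N).index ∧ Cfsg.IsDefectGroup p M b ((P ⊓ N).subgroupOf N) ∧ Cfsg.blockDefect p B = Cfsg.blockDefect p b + N.index.factorization p := by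
  classical
  haveI := CfsgLib.Blk.IsPModular.isPrime hM
  have hp : p.Prime := Fact.out
  haveI : Fintype (ConjClasses G) := Fintype.ofFinite _
  haveI : Fintype {B : Set (IrrCharacter G) // IsPBlock M B} := Fintype.ofFinite _
  have hstab : ∀ (x : G) (θ : IrrCharacter N) (_ : θ ∈ b),
      (⟨conjN (θ : N → ℂ) x, irr_conjN θ.2 x⟩ : IrrCharacter N) ∈ b :=
    fun x θ hθ => hinv x θ hθ _ fun n => rfl
  -- the idempotent is stable
  have hfix : ∀ y, cjA y (inA N (bid M b)) = inA (M := M) N (bid M b) := by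
    intro y
    have hK : ∀ g, g ∈ N ↔ y⁻¹ * g * y ∈ N := fun g =>
      ⟨fun hg => by simpa using hN.conj_mem g hg y⁻¹,
        fun hg => by simpa [mul_assoc] using hN.conj_mem _ hg y⟩
    rw [← inA_bid_mvSet y hK b]
    congr 2
    ext ξ
    constructor
    · rintro ⟨θ, hθ, rfl⟩
      convert hstab y⁻¹ θ hθ using 1
      refine Subtype.ext (funext fun n => ?_)
      rw [mvChar_apply]
      exact congrArg (θ : N → ℂ) (Subtype.ext (by rw [coe_cjIso_symm]; simp))
    · intro hξ
      refine ⟨_, hstab y ξ hξ, Subtype.ext (funext fun n => ?_)⟩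
      rw [mvChar_apply]
      exact congrArg (ξ : N → ℂ) (Subtype.ext (by
        show y * (((cjIso y hK).symm n : N) : G) * y⁻¹ = n
        rw [coe_cjIso_symm]; simp [mul_assoc]))
  have hE := nSum_of_stable hM hb hfix
  have hEc := isClassCoeff_nSum (G := G) hM hb
  have hEi := nSum_idem (G := G) hM hb
  have hEs : ∀ g, g ∉ N → (nSum M N b).coeff g = 0 := fun g hg => nSum_supp hM hb hg
  obtain ⟨χ, hχ, θ, hθ, hcon⟩ := hcov
  have hlam : lam (χ : G → ℂ) (nSum M N b) = 1 := by
    rw [← lam_constituent χ.2 θ.2 hcon hEc hEs]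
    exact lam_nSum_self hM hb hθ
  -- a class
  rw [lam_eq_sum χ.2 hEc] at hlam
  obtain ⟨C, -, hC⟩ := Finset.exists_ne_zero_of_sum_ne_zero (ne_of_eq_of_ne hlam one_ne_zero)
  rw [mul_ne_zero_iff] at hC
  obtain ⟨hc0, hω0⟩ := hC
  obtain ⟨Q, hQ⟩ := exists_isSylowIn (p := p) (Subgroup.centralizer ({C.out} : Set G))
  obtain ⟨x, hx⟩ := minmax_ge hM hB hP hχ C.out ((red_centralChar_ne_zero_iff χ.2 _).1 hω0) hQ
  -- move to the conjugate
  obtain ⟨g, hg⟩ : ∃ g, g = x⁻¹ * C.out * x := ⟨_, rfl⟩
  have hgconj : IsConj C.out g := isConj_iff.2 ⟨x⁻¹, by rw [hg, inv_inv]⟩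
  have hcg : (nSum M N b).coeff g ≠ 0 := by
    rw [hg, show x⁻¹ * C.out * x = x⁻¹ * C.out * x⁻¹⁻¹ by rw [inv_inv], hEc]
    exact hc0
  have hgN : g ∈ N := by_contra fun h => hcg (hEs g h)
  have hωg : red M (centralChar (χ : G → ℂ) g) ≠ 0 := by
    rwa [show centralChar (χ : G → ℂ) g = centralChar (χ : G → ℂ) C.out by
      rw [hg, centralChar, centralChar,
        show x⁻¹ * C.out * x = x⁻¹ * C.out * x⁻¹⁻¹ by rw [inv_inv], classFun_of_irr χ.2,
        ← centralizer_singleton_conj, ← (show ((MulAut.conj x⁻¹ : MulAut G) : G ≃* G).toMonoidHom =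
          (MulAut.conj x⁻¹).toMonoidHom from rfl), Subgroup.index_map_of_bijective
          (MulAut.conj x⁻¹).bijective]]
  have hR := hQ.centralizer_conj x⁻¹
  rw [show x⁻¹ * C.out * x⁻¹⁻¹ = g by rw [inv_inv, hg]] at hR
  set R := Q.map (MulAut.conj x⁻¹).toMonoidHom with hRdef
  have hPR : P ≤ R := fun y hy => mem_map_conj.2 (by
    have := hx (mem_map_conj.2 (show x⁻¹ * (x * y * x⁻¹) * x ∈ P by simpa [mul_assoc] using hy))
    simpa using this)
  -- a covering block of large defect
  have hsum : nSum M N b = ∑ B' : {B : Set (IrrCharacter G) // IsPBlock M B},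
      nSum M N b * bid M B'.1 := by
    rw [← Finset.mul_sum, sum_bid hM, mul_one]
  have hcg' := hcg
  rw [hsum, MonoidAlgebra.coeff_sum, Finset.sum_apply'] at hcg'
  obtain ⟨B', -, hB'⟩ := Finset.exists_ne_zero_of_sum_ne_zero hcg'
  obtain ⟨χ', hχ'⟩ := isPBlock_nonempty B'.2
  have hmul : nSum M N b * bid M B'.1 = lam (χ' : G → ℂ) (nSum M N b) • bid M B'.1 := by
    rw [(hEc.commute _).eq, bid_mul_idem hM B'.2 hEc hEi hχ']
  have hl1 : lam (χ' : G → ℂ) (nSum M N b) = 1 :=
    (lam_idem χ'.2 hEc hEi).resolve_left fun h0 => by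
      rw [hmul, h0, zero_smul] at hB'; exact hB' rfl
  rw [hmul, hl1, one_smul, coeff_bid] at hB'
  have hcov' : ∃ χ ∈ B'.1, ∃ θ ∈ b, classInner (fun n : N => (χ : G → ℂ) n) (θ : N → ℂ) ≠ 0 := by
    obtain ⟨φ, hφi, hφ⟩ := exists_constituent_res (N := N) χ'.2
    obtain ⟨θ', hθ', y, e⟩ := conj_of_lam_nSum (G := G) hM hb (θ := ⟨φ, hφi⟩) (by
      rw [lam_constituent χ'.2 hφi hφ hEc hEs, hl1]; exact one_ne_zero)
    refine ⟨χ', hχ', θ', hθ', ?_⟩
    rw [← inner_res_conjN (classFun_of_irr χ'.2) _ y]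
    simpa only [← e] using hφ
  obtain ⟨D', hD'⟩ := exists_isDefectGroup hM B'.2
  obtain ⟨y, hy⟩ := minmax_le hM B'.2 hD' g (fun h => hB' (by
    rw [red_eq_zero_iff (blockCoeff_mem hM B'.2 g)]; exact h)) (hR.isPGroup) hR.le
  have hdB := card_defectGroup hM hB hP
  have hRd : Nat.card R ≤ Nat.card P := by
    have h1 := Subgroup.card_le_of_le hy
    rw [card_map_conj, card_defectGroup hM B'.2 hD'] at h1
    exact h1.trans (hdB ▸ Nat.pow_le_pow_right hp.pos (hmax B'.1 B'.2 hcov'))
  have hPeq : P = R := Subgroup.eq_of_le_of_card_ge hPR hRd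
  have hPC : IsSylowIn p P (Subgroup.centralizer ({g} : Set G)) := hPeq ▸ hR
  -- the class inside the subgroup
  have hinvθ : ∀ z : G, SameBlock M (conjN (θ : N → ℂ) z) (θ : N → ℂ) := fun z =>
    sameBlock_symm (sameBlock_of_mem hb hθ (hstab z θ hθ))
  obtain ⟨k, hk, hkω⟩ := lam_resA_classSum N hinvθ g hgN
  have hω' : (k : Res M) * red M (centralChar (θ : N → ℂ) ⟨g, hgN⟩) ≠ 0 := by
    rw [← hkω, ← centralChar_eq_induced χ.2 θ.2 hcon ⟨g, hgN⟩]
    exact hωg
  haveI := charP_res (M := M) hM
  have hpk : ¬ p ∣ k := fun h => hω' (by rw [(CharP.cast_eq_zero_iff (Res M) p k).2 h, zero_mul])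
  have hθg := (mul_ne_zero_iff.1 hω').2
  have hcb : red M (blockCoeff b ⟨g, hgN⟩) ≠ 0 := by
    rw [← coeff_bid, ← coeff_inA N, ← hE]
    exact hcg
  have hclass : IsDefectClass M b (⟨g, hgN⟩ : N) := by
    refine ⟨blockCoeff_mem hM hb _, fun h => hcb ((red_eq_zero_iff (blockCoeff_mem hM hb _)).2 h),
      fun θ' hθ' => (red_centralChar_ne_zero_iff θ'.2 _).1 ?_⟩
    rw [← (sameBlock_iff_red θ.2 θ'.2).1 (sameBlock_of_mem hb hθ hθ') _]
    exact hθg
  -- Sylow subgroup of the centralizer in the subgroup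
  set CG := Subgroup.centralizer ({g} : Set G) with hCG
  set CN := Subgroup.centralizer ({(⟨g, hgN⟩ : N)} : Set N) with hCN
  have hCN' : CN = CG.subgroupOf N := centralizer_subgroupOf N ⟨g, hgN⟩
  have hindex : k * CN.index = CG.index := hk
  have hvCG : (Nat.card CG).factorization p = (Nat.card CN).factorization p +
      N.index.factorization p := by
    have h1 := congrArg (fun t => t.factorization p) (show k * CN.index * Nat.card CG =
      Nat.card N * N.index by rw [hindex, Subgroup.index_mul_card, Subgroup.card_mul_index])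
    rw [← Subgroup.index_mul_card CN] at h1
    simp only [Nat.factorization_mul, ne_eq, mul_eq_zero, Subgroup.index_ne_zero_of_finite,
      Nat.card_pos.ne', or_self, not_false_eq_true, show k ≠ 0 from fun h => hpk (h ▸ dvd_zero p),
      Finsupp.coe_add, Pi.add_apply, Nat.factorization_eq_zero_of_not_dvd hpk] at h1
    omega
  have hPN : IsSylowIn p ((P ⊓ N).subgroupOf N) CN := by
    refine ⟨fun z hz => ?_, ?_⟩
    · rw [hCN']
      exact hPC.le (Subgroup.mem_inf.1 (Subgroup.mem_subgroupOf.1 hz)).1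
    · have hPp := hPC.isPGroup
      obtain ⟨a, ha⟩ := IsPGroup.iff_card.1 (hPp.to_le (inf_le_left (b := N)))
      rw [Nat.card_congr (Subgroup.subgroupOfEquivOfLe (inf_le_right : P ⊓ N ≤ N)).toEquiv, ha]
      congr 1
      refine le_antisymm ?_ ?_
      · refine (hp.pow_dvd_iff_le_factorization Nat.card_pos.ne').1 ?_
        rw [← ha, ← Nat.card_congr (Subgroup.subgroupOfEquivOfLe (inf_le_right : P ⊓ N ≤ N)).toEquiv]
        refine Subgroup.card_dvd_of_le fun z hz => ?_
        rw [hCN']
        exact hPC.le (Subgroup.mem_inf.1 (Subgroup.mem_subgroupOf.1 hz)).1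
      · have hd1 : (P ⊓ N).relIndex P ∣ N.index := by
          rw [Subgroup.inf_relIndex_left]
          exact Subgroup.relIndex_dvd_index_of_normal _ _
        have hcardP : Nat.card P = p ^ (Nat.card CG).factorization p := hPC.card
        have hmul := card_mul_relIndex (inf_le_left : P ⊓ N ≤ P)
        obtain ⟨r, -, hr⟩ := (Nat.dvd_prime_pow hp).1 (hcardP ▸ ⟨_, (mul_comm _ _).trans hmul |>.symm⟩ :
          (P ⊓ N).relIndex P ∣ p ^ (Nat.card CG).factorization p)
        rw [hr] at hd1 hmul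
        have h2 := (hp.pow_dvd_iff_le_factorization Subgroup.index_ne_zero_of_finite).1 hd1
        rw [ha, hcardP, ← pow_add] at hmul
        have h3 := Nat.pow_right_injective hp.two_le hmul
        omega
  have hbd : IsDefectGroup p M b ((P ⊓ N).subgroupOf N) :=
    isDefectGroup_iff.2 ⟨⟨g, hgN⟩, hclass, hPN⟩
  have hdb := card_defectGroup hM hb hbd
  have hd1 : blockDefect p b = (Nat.card CN).factorization p :=
    Nat.pow_right_injective hp.two_le (hdb.symm.trans hPN.card)
  have hd2 : blockDefect p B = (Nat.card CG).factorization p :=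
    Nat.pow_right_injective hp.two_le (hdB.symm.trans hPC.card)
  have hdeq : blockDefect p B = blockDefect p b + N.index.factorization p := by
    rw [hd1, hd2, hvCG]
  refine ⟨?_, hbd, hdeq⟩
  intro hdiv
  have h2 : N.relIndex P * (P ⊔ N).index = N.index := by
    rw [← Subgroup.relIndex_sup_right]
    exact Subgroup.relIndex_mul_index le_sup_right
  have h3 := congrArg (fun t => t.factorization p) h2
  have hne : N.relIndex P ≠ 0 := Subgroup.index_ne_zero_of_finite
  rw [Nat.factorization_mul hne Subgroup.index_ne_zero_of_finite,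
    Finsupp.add_apply] at h3
  have h4 : (P ⊓ N).relIndex P = N.relIndex P := Subgroup.inf_relIndex_left P N
  have h5 := card_mul_relIndex (inf_le_left : P ⊓ N ≤ P)
  rw [h4, ← Nat.card_congr (Subgroup.subgroupOfEquivOfLe (inf_le_right : P ⊓ N ≤ N)).toEquiv,
    hdb, hdB] at h5
  have h6 := congrArg (fun t => t.factorization p) h5
  rw [Nat.factorization_mul (pow_ne_zero _ hp.ne_zero) hne, Finsupp.add_apply,
    Nat.Prime.factorization_pow hp, Nat.Prime.factorization_pow hp, Finsupp.single_eq_same,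
    Finsupp.single_eq_same] at h6
  have h7 := hp.factorization_pos_of_dvd Subgroup.index_ne_zero_of_finite hdiv
  omega

end Cfsg.Agent.S0970
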