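import Cfsg.Statements.S0971
import Cfsg.Agent.Blk.Induced

set_option autoImplicit false
open Cfsg

namespace Cfsg.Agent.S0971

/-- Let Q be a normal p-subgroup of the finite group G, let N = Q ⊔ C_G(Q) (a normal subgroup) and let b be a block of N relative to a maximal ideal M of the algebraic integers containing p. Then b induces some block of G, and every block B of G containing a character whose restriction to N has a constituent in b is induced by b. -/
theorem result {G : Type*} [Group G] [Fintype G] (p : ℕ) [Fact p.Prime] (M : Ideal Cfsg.AlgInt) (hM : Cfsg.IsPModular p M) (Q : Subgroup G) [Q.Normal] (hQ : IsPGroup p Q) [Fintype ↥(Q ⊔ Subgroup.centralizer (Q : Set G))] (b : Set (Cfsg.IrrCharacter ↥(Q ⊔ Subgroup.centralizer (Q : Set G)))) (hb : Cfsg.IsPBlock M b) : Cfsg.InducedBlockDefined M (Q ⊔ Subgroup.centralizer (Q : Set G)) b ∧ ∀ B : Set (Cfsg.IrrCharacter G), Cfsg.IsPBlock M B → (∃ χ ∈ B, ∃ θ ∈ b, Cfsg.classInner (fun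 n : ↥(Q ⊔ Subgroup.centralizer (Q : Set G)) => (χ : G → ℂ) n) (θ : ↥(Q ⊔ Subgroup.centralizer (Q : Set G)) → ℂ) ≠ 0) → Cfsg.IsInducedBlock M (Q ⊔ Subgroup.centralizer (Q : Set G)) b B := by
  haveI := CfsgLib.Blk.IsPModular.isPrime hM
  classical
  have hN : Q ⊔ Subgroup.centralizer (Q : Set G) ≤ Subgroup.normalizer (Q : Set G) := by
    rw [Subgroup.normalizer_eq_top]; exact le_top
  refine ⟨CfsgLib.Blk.inducedBlockDefined_of_brauer hM Q _ hQ le_sup_left le_sup_right hN hb, ?_⟩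
  rintro B hB ⟨χ, hχ, θ, hθ, hcon⟩
  rw [CfsgLib.Blk.eq_blockOf hb hθ, CfsgLib.Blk.eq_blockOf hB hχ]
  refine CfsgLib.Blk.isInducedBlock_of_rep _ θ χ fun g => ?_
  have hg := CfsgLib.Blk.isClassCoeff_classSum (CfsgLib.Blk.locRing M) g
  set a := CfsgLib.Blk.classSum (CfsgLib.Blk.locRing M) g
  have hbr : CfsgLib.Blk.IsClassCoeff (CfsgLib.Blk.brMap Q a) := by
    intro x h
    have hn := (Subgroup.normal_centralizer (H := Q))
    by_cases hx : x ∈ Subgroup.centralizer (Q : Set G)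
    · rw [CfsgLib.Blk.coeff_brMap, CfsgLib.Blk.coeff_brMap, if_pos (hn.conj_mem _ hx h), if_pos hx,
        hg x h]
    · rw [CfsgLib.Blk.coeff_brMap_of_notMem _ _ hx, CfsgLib.Blk.coeff_brMap_of_notMem]
      intro hh
      exact hx (by simpa [mul_assoc] using hn.conj_mem _ hh h⁻¹)
  have h1 : CfsgLib.Blk.omegaBar (χ : G → ℂ) a =
      CfsgLib.Blk.omegaBar (χ : G → ℂ) (CfsgLib.Blk.brMap Q a) := by
    rw [← sub_eq_zero, ← CfsgLib.Blk.omegaBar_sub χ.2 hg hbr]
    refine CfsgLib.Blk.omegaBar_eq_zero_of_brMap hM Q hQ χ.2 (hg.sub hbr) ?_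
    refine MonoidAlgebra.coeff_injective (Finsupp.ext fun h => ?_)
    rw [CfsgLib.Blk.coeff_brMap]
    split_ifs with hh
    · simp [CfsgLib.Blk.coeff_brMap, hh]
    · rfl
  rw [h1, CfsgLib.Blk.omegaBar_resA_brMap hM Q _ hQ le_sup_left hN θ.2 hg, CfsgLib.Blk.omegaBar,
    CfsgLib.Blk.omegaBar, CfsgLib.Blk.omega_resA_of_constituent _ χ.2 θ.2 hcon hbr]
  intro x hx
  exact CfsgLib.Blk.coeff_brMap_of_notMem _ _ fun h => hx (le_sup_right (a := Q) h)

end Cfsg.Agent.S0971
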