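import Cfsg.Statements.S0972
import Cfsg.Agent.S0971
import Cfsg.Agent.Blk.Canonical
import Cfsg.Agent.Blk.Cover
import Cfsg.Agent.Blk.FirstMain
import Cfsg.Agent.Blk.Pair.Inertial
import Cfsg.Agent.Char.ExtCrit
import Cfsg.Agent.Char.Monomial

set_option autoImplicit false
open Cfsg

namespace Cfsg.Agent.S0972

open CfsgLib.Char CfsgLib.Blk CfsgLib.Blk.Pair MonoidAlgebra
open scoped ComplexConjugate
set_option linter.unusedSectionVars false

/-- A finite group all of whose irreducible characters are linear is abelian. -/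
theorem commute_of_linear {G : Type*} [Group G] [Finite G]
    (h : ∀ χ : IrrCharacter G, (χ : G → ℂ) 1 = 1) (a b : G) : a * b = b * a := by
  classical
  haveI := Fintype.ofFinite G
  set c := a * b * (b * a)⁻¹ with hc
  have hval : ∀ χ : IrrCharacter G, (χ : G → ℂ) c = 1 := by
    intro χ
    obtain ⟨L, hL⟩ := exists_hom_of_degree_one (isCharacter_of_isIrr χ.2) (h χ)
    rw [hL, hc]
    simp only [map_mul, map_inv, mul_comm (L a) (L b), mul_inv_cancel, Units.val_one]
  have h1 := second_orth c (1 : G)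
  have h2 := second_orth (1 : G) (1 : G)
  simp only [hval, h, map_one, mul_one] at h1 h2
  rw [if_pos (IsConj.refl _)] at h2
  rw [h2] at h1
  by_contra hne
  have hne' : ¬ IsConj c 1 := by
    rw [isConj_one_left, hc, mul_inv_eq_one]
    exact hne
  rw [if_neg hne', Nat.cast_eq_zero] at h1
  exact Nat.card_pos.ne' h1

/-- If the class of `g` carries a nonzero value of the central character and the Sylow subgroups
of its centralizer lie in `H`, then `H` has index prime to `p` in the inertia group. -/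
theorem not_dvd_relIndex_inertia {G : Type*} [Group G] [Fintype G] (p : ℕ) [Fact p.Prime]
    {M : Ideal AlgInt} [M.IsPrime] (hM : IsPModular p M)
    (H : Subgroup G) [hN : H.Normal] [Fintype H] {P : Subgroup G} (hPH : P ≤ H)
    {χ : IrrCharacter G} {θ : IrrCharacter H}
    (hcon : classInner (fun n : H => (χ : G → ℂ) n) (θ : H → ℂ) ≠ 0) {g : G} (hgH : g ∈ H)
    (hs : IsSylowIn p P (Subgroup.centralizer ({g} : Set G)))
    (hg : red M (centralChar (χ : G → ℂ) g) ≠ 0) :
    ¬ p ∣ H.relIndex (inertia (θ : H → ℂ)) := by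
  classical
  have hp : p.Prime := Fact.out
  haveI : CharP (Res M) p := charP_res hM
  haveI : Fintype (ConjClasses H) := Fintype.ofFinite _
  intro hdiv
  obtain ⟨S, hS⟩ : ∃ S : Subgroup G, S = ((Classical.arbitrary (Sylow p (inertia (θ : H → ℂ)))) :
      Subgroup (inertia (θ : H → ℂ))).map (inertia (θ : H → ℂ)).subtype := ⟨_, rfl⟩
  have hSp : IsPGroup p S := hS ▸ (Classical.arbitrary (Sylow p (inertia (θ : H → ℂ)))).2.map _
  have hST : S ≤ inertia (θ : H → ℂ) := hS ▸ Subgroup.map_subtype_le _
  have hSH : ¬ S ≤ H := by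
    intro h
    refine (Classical.arbitrary (Sylow p (inertia (θ : H → ℂ)))).not_dvd_index
      (hdiv.trans (Subgroup.index_dvd_of_le fun z hz => ?_))
    exact Subgroup.mem_subgroupOf.2 (h (hS ▸ Subgroup.mem_map_of_mem _ hz))
  let act : S → ConjClasses H → ConjClasses H := fun s =>
    ConjClasses.map ((MulAut.conjNormal (s : G) : MulAut H) : H ≃* H).toMonoidHom
  letI : MulAction S (ConjClasses H) :=
    { smul := act
      one_smul := fun C => by
        refine Quotient.inductionOn C fun x => ?_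
        change ConjClasses.mk ((MulAut.conjNormal ((1 : S) : G) : MulAut H) x) = ConjClasses.mk x
        rw [Subgroup.coe_one, map_one]
        rfl
      mul_smul := fun s t C => by
        refine Quotient.inductionOn C fun x => ?_
        change ConjClasses.mk ((MulAut.conjNormal ((s * t : S) : G) : MulAut H) x) =
          ConjClasses.mk ((MulAut.conjNormal (s : G) : MulAut H) ((MulAut.conjNormal (t : G) : MulAut H) x))
        rw [Subgroup.coe_mul, map_mul]
        rfl }
  let w : ConjClasses H → Res M := fun C =>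
    if IsConj g ((C.out : H) : G) then red M (centralChar (θ : H → ℂ) C.out) else 0
  have hout : ∀ x : H, IsConj (ConjClasses.mk x).out x := fun x =>
    ConjClasses.mk_eq_mk_iff_isConj.1 (Quotient.out_eq _)
  have hw : ∀ x : H, w (ConjClasses.mk x) =
      if IsConj g (x : G) then red M (centralChar (θ : H → ℂ) x) else 0 := by
    intro x
    have h1 : IsConj (((ConjClasses.mk x).out : H) : G) (x : G) :=
      MonoidHom.map_isConj H.subtype (hout x)
    simp only [w]
    rw [if_congr ⟨fun h => h.trans h1, fun h => h.trans h1.symm⟩ rfl rfl]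
    split_ifs with h
    · congr 1
      obtain ⟨c, hc⟩ := isConj_iff.1 (hout x)
      conv_rhs => rw [← hc]
      rw [centralChar, centralChar, classFun_of_irr θ.2, ← centralizer_singleton_conj,
        show (MulAut.conj c).toMonoidHom = ((MulAut.conj c : MulAut H) : H ≃* H).toMonoidHom from rfl,
        Subgroup.index_map_of_bijective (MulAut.conj c).bijective]
    · rfl
  have hsum : red M (centralChar (χ : G → ℂ) g) = ∑ C : ConjClasses H, w C := by
    rw [show g = ((⟨g, hgH⟩ : H) : G) from rfl, centralChar_eq_induced χ.2 θ.2 hcon ⟨g, hgH⟩,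
      ← omegaBar_resA_classSum,
      omegaBar_eq_sum θ.2 (isClassCoeff_resA H (isClassCoeff_classSum _ _))]
    refine Finset.sum_congr rfl fun C _ => ?_
    simp only [w, coeff_resA, coeff_classSum]
    split_ifs with h
    · rw [map_one, one_mul]
    · rw [map_zero, zero_mul]
  have hinv : ∀ (s : S) (C : ConjClasses H), w (s • C) = w C := by
    intro s C
    refine Quotient.inductionOn C fun x => ?_
    change w (ConjClasses.mk ((MulAut.conjNormal (s : G) : MulAut H) x)) = w (ConjClasses.mk x)
    rw [hw, hw]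
    have h1 : IsConj (x : G) (((MulAut.conjNormal (s : G) : MulAut H) x : H) : G) :=
      isConj_iff.2 ⟨(s : G), by rw [MulAut.conjNormal_apply]⟩
    rw [if_congr ⟨fun h => h.trans h1.symm, fun h => h.trans h1⟩ rfl rfl]
    split_ifs with h
    · congr 1
      have h2 : conjN (θ : H → ℂ) (s : G) = (θ : H → ℂ) := hST s.2
      conv_rhs => rw [← h2]
      rw [conjN_eq_comp, centralChar, centralChar, Function.comp_apply, Function.comp_apply,
        map_one, ← index_centralizer_equiv (MulAut.conjNormal (s : G) : MulAut H) x]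
    · rfl
  rw [hsum, sum_eq_sum_fixedPoints (p := p) hSp w hinv] at hg
  obtain ⟨C, hC, hne⟩ := Finset.exists_ne_zero_of_sum_ne_zero hg
  obtain ⟨x, rfl⟩ : ∃ x, ConjClasses.mk x = C := ⟨C.out, Quotient.out_eq _⟩
  have hfix := (Finset.mem_filter.1 hC).2
  rw [hw] at hne
  obtain ⟨hgx, -⟩ := ite_ne_right_iff.1 hne
  obtain ⟨t, ht⟩ := isConj_iff.1 hgx
  have hsx := hs.centralizer_conj t
  rw [ht] at hsx
  set Cx := Subgroup.centralizer ({(x : G)} : Set G)
  have hRH : P.map (MulAut.conj t).toMonoidHom ≤ H := fun y hy => by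
    simpa [mul_assoc] using hN.conj_mem _ (hPH (mem_map_conj.1 hy)) t
  have hCx : ¬ p ∣ H.relIndex Cx := by
    intro h
    have h1 : H.relIndex Cx ∣ (P.map (MulAut.conj t).toMonoidHom).relIndex Cx :=
      Subgroup.relIndex_dvd_of_le_left _ hRH
    have h3 : Nat.card (P.map (MulAut.conj t).toMonoidHom) *
        (P.map (MulAut.conj t).toMonoidHom).relIndex Cx = Nat.card Cx := by
      rw [← Subgroup.relIndex_bot_left, ← Subgroup.relIndex_bot_left]
      exact Subgroup.relIndex_mul_relIndex _ _ _ bot_le hsx.le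
    refine Nat.pow_succ_factorization_not_dvd (n := Nat.card Cx) Nat.card_pos.ne' hp ?_
    rw [pow_succ, ← hsx.card]
    exact (Nat.mul_dvd_mul_left _ (h.trans h1)).trans h3.dvd
  refine hSH fun s hs' => ?_
  have h1 : ConjClasses.mk ((MulAut.conjNormal s : MulAut H) x) = ConjClasses.mk x :=
    hfix ⟨s, hs'⟩
  obtain ⟨c, hc⟩ := isConj_iff.1 (ConjClasses.mk_eq_mk_iff_isConj.1 h1)
  have h2 : (c : G) * s ∈ Cx := by
    refine Subgroup.mem_centralizer_singleton_iff.2 ?_
    have h3 := congrArg Subtype.val hc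
    simp only [Subgroup.coe_mul, Subgroup.coe_inv, MulAut.conjNormal_apply] at h3
    conv_rhs => rw [← h3]
    group
  have hπ : (QuotientGroup.mk' H) ((c : G) * s) = QuotientGroup.mk' H s := by
    rw [map_mul, (QuotientGroup.eq_one_iff (c : G)).2 c.2 |> fun e : QuotientGroup.mk' H (c : G) = 1 => e,
      one_mul]
  obtain ⟨k, hk⟩ := (hSp.map (QuotientGroup.mk' H)) ⟨QuotientGroup.mk' H s, ⟨s, hs', rfl⟩⟩
  have hord1 : orderOf (QuotientGroup.mk' H s) ∣ p ^ k :=
    orderOf_dvd_of_pow_eq_one (by simpa using congrArg Subtype.val hk)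
  have hord2 : orderOf (QuotientGroup.mk' H s) ∣ H.relIndex Cx := by
    rw [show H.relIndex Cx = Nat.card (Cx.map (QuotientGroup.mk' H)) by
      rw [← Subgroup.relIndex_ker, QuotientGroup.ker_mk']]
    exact Subgroup.orderOf_dvd_natCard _ ⟨_, h2, hπ⟩
  exact (QuotientGroup.eq_one_iff s).1 (orderOf_eq_one_iff.1
    (Nat.eq_one_of_dvd_coprimes (Nat.Coprime.pow_left k (hp.coprime_iff_not_dvd.2 hCx)) hord1 hord2))


/-- Let B be a block of the finite group G (relative to a maximal ideal M of the algebraic integers containing the prime p) with a defect group P that is normal in G. Then P is commutative if and only if every member of B has height zero. -/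
theorem result {G : Type*} [Group G] [Finite G] (p : ℕ) [Fact p.Prime] (M : Ideal Cfsg.AlgInt) (hM : Cfsg.IsPModular p M) (B : Set (Cfsg.IrrCharacter G)) (hB : Cfsg.IsPBlock M B) (P : Subgroup G) [P.Normal] (hP : Cfsg.IsDefectGroup p M B P) : (∀ a ∈ P, ∀ c ∈ P, a * c = c * a) ↔ ∀ χ ∈ B, Cfsg.blockHeight p B (χ : G → ℂ) = 0 := by
  classical
  haveI := CfsgLib.Blk.IsPModular.isPrime hM
  have hp : p.Prime := Fact.out
  haveI := Fintype.ofFinite G
  haveI : Fintype P := Fintype.ofFinite _
  have hPp := IsDefectGroup.isPGroup hP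
  have hcP := card_defectGroup hM hB hP
  have hpE : pExp p G = blockDefect p B + P.index.factorization p := by
    rw [pExp, ← Subgroup.card_mul_index P, Nat.factorization_mul Nat.card_pos.ne'
      Subgroup.index_ne_zero_of_finite, Finsupp.add_apply, hcP, hp.factorization_pow,
      Finsupp.single_eq_same]
  constructor
  · intro hab χ hχ
    obtain ⟨θ, hθ, hcon⟩ := exists_constituent_res (N := P) χ.2
    obtain ⟨k, hk, hkd⟩ := degree_quotient χ.2 hθ hcon
    rw [irr_degree_one_of_comm (fun a b => Subtype.ext (hab a a.2 b b.2)) hθ, mul_one] at hk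
    have h1 := degExp_eq_height_add hM hB hχ
    have h2 : (charDegree (χ : G → ℂ)).factorization p ≤ P.index.factorization p :=
      (Nat.factorization_le_iff_dvd (charDegree_pos χ.2).ne' Subgroup.index_ne_zero_of_finite).2
        (charDegree_eq hk ▸ hkd) p
    simp only [degExp] at h1
    omega
  intro h0
  by_contra hna
  haveI : (Subgroup.centralizer (P : Set G)).Normal := Subgroup.normal_centralizer
  obtain ⟨g, hg, hs⟩ := isDefectGroup_iff.1 hP
  set H : Subgroup G := P ⊔ Subgroup.centralizer (P : Set G) with hH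
  haveI : Fintype H := Fintype.ofFinite _
  have hPH : P ≤ H := le_sup_left
  have hHN : H ≤ Subgroup.normalizer (P : Set G) := le_normalizer_pc P
  obtain ⟨χ₀, hχ₀⟩ := isPBlock_nonempty hB
  obtain ⟨θ₀, hθ₀i, hθ₀⟩ := exists_constituent_res (N := H) χ₀.2
  set b : Set (IrrCharacter H) := blockOf M ((⟨θ₀, hθ₀i⟩ : IrrCharacter H) : H → ℂ)
  have hb : IsPBlock M b := blockOf_isPBlock _
  have hS := Cfsg.Agent.S0971.result p M hM P hPp b hb
  have hind : IsInducedBlock M H b B :=
    hS.2 B hB ⟨χ₀, hχ₀, ⟨θ₀, hθ₀i⟩, sameBlock_refl _, hθ₀⟩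
  have hbD := defectGroup_of_induced hM hPH hHN hind hP
  have hP' : IsPGroup p (P.subgroupOf H) := hPp.of_equiv (Subgroup.subgroupOfEquivOfLe hPH).symm
  have hPC : P.subgroupOf H ⊔ Subgroup.centralizer ((P.subgroupOf H : Subgroup H) : Set H) = ⊤ := by
    rw [show Subgroup.centralizer ((P.subgroupOf H : Subgroup H) : Set H) =
      (Subgroup.centralizer (P : Set G)).subgroupOf H from
        SetLike.ext fun y => mem_centralizer_subgroupOf hPH y,
      ← Subgroup.subgroupOf_sup hPH le_sup_right, Subgroup.subgroupOf_self]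
  haveI := normal_of_pc_top hPC
  haveI : Fintype (P.subgroupOf H) := Fintype.ofFinite _
  obtain ⟨θc, hθc, htriv⟩ := exists_trivial_on hM hb _ hP'
  obtain ⟨F, hF, -, -⟩ := canonical_param hP' hPC hM hb hbD hθc htriv
  have hdegc := (canonical_facts hP' hPC hM hb hbD hθc htriv).1
  obtain ⟨ζ, hζ⟩ : ∃ ζ : IrrCharacter (P.subgroupOf H), (ζ : P.subgroupOf H → ℂ) 1 ≠ 1 := by
    by_contra hh
    push Not at hh
    refine hna fun a ha c hc => ?_
    have := commute_of_linear hh ⟨⟨a, hPH ha⟩, Subgroup.mem_subgroupOf.2 ha⟩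
      ⟨⟨c, hPH hc⟩, Subgroup.mem_subgroupOf.2 hc⟩
    exact congrArg (fun z : P.subgroupOf H => ((z : H) : G)) this
  have hdvd : p ∣ charDegree (ζ : P.subgroupOf H → ℂ) := by
    obtain ⟨m, hm⟩ := IsPGroup.iff_card.1 hP'
    obtain ⟨j, -, hj⟩ := (Nat.dvd_prime_pow hp).1 (hm ▸ degree_dvd_card ζ.2)
    rw [hj]
    refine dvd_pow_self p fun hj0 => hζ ?_
    rw [irr_one_eq ζ.2, hj, hj0, pow_zero, Nat.cast_one]
  have hθd : charDegree (F ζ : H → ℂ) =
      charDegree (ζ : P.subgroupOf H → ℂ) * charDegree (θc : H → ℂ) := by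
    refine charDegree_eq ?_
    have h1 := secFun_mul hP' hPC (θc : H → ℂ) (ζ : P.subgroupOf H → ℂ) 1
      (x := (1 : H)) (by simpa using hp.ne_one)
    rw [mul_one, OneMemClass.coe_one] at h1
    rw [(hF ζ).2, h1, irr_one_eq ζ.2, irr_one_eq θc.2, Nat.cast_mul]
  obtain ⟨χ, hχ⟩ := exists_constituent (isCharacter_indFun H (isCharacter_of_isIrr (F ζ).2))
    (fun h => by
      have h1 := congrFun h 1
      rw [indFun_one, Pi.zero_apply, mul_eq_zero, Nat.cast_eq_zero] at h1
      exact h1.elim Subgroup.index_ne_zero_of_finite (irr_one_ne_zero (F ζ).2))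
  have hcon : classInner (fun n : H => (χ : G → ℂ) n) (F ζ : H → ℂ) ≠ 0 := by
    rw [frobenius H _ (classFun_of_irr χ.2)] at hχ
    rw [← classInner_conj]
    simpa using hχ
  have hχB : χ ∈ B := isInducedBlock_unique H hind
    (hS.2 (blockOf M (χ : G → ℂ)) (blockOf_isPBlock χ)
      ⟨χ, sameBlock_refl _, F ζ, (hF ζ).1, hcon⟩) ▸ sameBlock_refl _
  have hgH : g ∈ H := Subgroup.mem_sup_right fun y hy =>
    Subgroup.mem_centralizer_singleton_iff.1 (hs.le hy)
  have hrel := not_dvd_relIndex_inertia p hM H hPH hcon hgH hs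
    ((red_centralChar_ne_zero_iff χ.2 g).2 (hg.2.2 χ hχB))
  obtain ⟨a, ha⟩ := inner_char_irr (isCharacter_restrict H (isCharacter_of_isIrr χ.2)) (F ζ).2
  have hdeg := degree_clifford χ.2 (F ζ).2 hcon
  rw [ha, irr_one_eq (F ζ).2, hθd, irr_one_eq χ.2] at hdeg
  have hdeg' : charDegree (χ : G → ℂ) = a * (inertia (F ζ : H → ℂ)).index *
      (charDegree (ζ : P.subgroupOf H → ℂ) * charDegree (θc : H → ℂ)) := by exact_mod_cast hdeg
  have ha0 : a ≠ 0 := fun h => hcon (by rw [ha, h, Nat.cast_zero])
  have hz0 := (charDegree_pos ζ.2).ne'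
  have hc0 := (charDegree_pos θc.2).ne'
  have hv := congrArg (fun n => n.factorization p) hdeg'
  rw [Nat.factorization_mul (mul_ne_zero ha0 Subgroup.index_ne_zero_of_finite)
    (mul_ne_zero hz0 hc0), Nat.factorization_mul ha0 Subgroup.index_ne_zero_of_finite,
    Nat.factorization_mul hz0 hc0, Finsupp.add_apply, Finsupp.add_apply, Finsupp.add_apply,
    hdegc] at hv
  have hi1 := congrArg (fun n => n.factorization p)
    (Subgroup.relIndex_mul_index (le_inertia (classFun_of_irr (F ζ).2)))
  have hi2 := congrArg (fun n => n.factorization p)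
    (Subgroup.relIndex_mul_index hPH)
  have hr1 : H.relIndex (inertia (F ζ : H → ℂ)) ≠ 0 := Subgroup.index_ne_zero_of_finite
  have hr2 : P.relIndex H ≠ 0 := Subgroup.index_ne_zero_of_finite
  rw [Nat.factorization_mul hr1 Subgroup.index_ne_zero_of_finite, Finsupp.add_apply,
    Nat.factorization_eq_zero_of_not_dvd hrel] at hi1
  rw [Nat.factorization_mul hr2 Subgroup.index_ne_zero_of_finite, Finsupp.add_apply,
    show P.relIndex H = (P.subgroupOf H).index from rfl] at hi2
  have hz1 := hp.factorization_pos_of_dvd hz0 hdvd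
  have h1 := degExp_eq_height_add hM hB hχB
  rw [h0 χ hχB] at h1
  simp only [degExp] at h1
  omega

end Cfsg.Agent.S0972
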