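import Cfsg.Statements.S0975
import Cfsg.Agent.Perm.SimpleOrderR
import Mathlib
-- import your own Cfsg.Agent.* helpers here

set_option autoImplicit false
open Cfsg

namespace Cfsg.Agent.S0975

/-- No finite simple group has order 3744 = 2^5 * 3^2 * 13. -/
theorem result {G : Type*} [Group G] [Finite G] [IsSimpleGroup G] : Nat.card G ≠ 3744 := by
  intro hG
  haveI : Fact (Nat.Prime 13) := ⟨by norm_num⟩
  obtain ⟨S⟩ : Nonempty (Sylow 13 G) := inferInstance
  have hfac : Nat.card G = 2 ^ 5 * 3 ^ 2 * 13 := by rw [hG]; norm_num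
  have hsc := CfsgLib.Perm.SimpleOrderR.selfCent_of_card (S := S) 2 3 5 2 (by norm_num) (by norm_num)
    (by norm_num) (by norm_num) (by norm_num) (by norm_num) hfac
  obtain ⟨e, he, he1, hcard, hmod, hrel⟩ := CfsgLib.Perm.SimpleOrderR.exists_automizer hsc
  generalize hns : Nat.card (Sylow 13 G) = ns at hcard hmod
  rw [hG] at hcard
  have hee : e ≤ 12 := Nat.le_of_dvd (by norm_num) he
  have he0 : e ≠ 0 := by rintro rfl; simp at he
  obtain rfl : e = 2 := by interval_cases e <;> omega
  obtain ⟨D⟩ := CfsgLib.Perm.SimpleOrderR.exists_exc hsc hrel (by norm_num)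
  obtain ⟨c, f, hc1, hf1, hcd, hfd, hcc, hcf, hcm, hrf, hinv⟩ := CfsgLib.Perm.SimpleOrderR.two_degrees hsc.2.2 D
  rw [hG] at hcd hfd hcc
  have hlt : c < 62 := by nlinarith
  have hres : False := by
    rcases hcf with h | h
    · obtain rfl : f = c - 1 := by omega
      interval_cases c <;> first | omega | norm_num at *
    · obtain rfl : f = c + 1 := by omega
      interval_cases c <;> first | omega | norm_num at *
  exact hres

end Cfsg.Agent.S0975
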