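import Cfsg.Statements.S0979
import Cfsg.Agent.Perm.SimpleOrderR
import Mathlib
-- import your own Cfsg.Agent.* helpers here

set_option autoImplicit false
open Cfsg

namespace Cfsg.Agent.S0979

open CfsgLib.Perm.SimpleOrderR CfsgLib.Char

end Cfsg.Agent.S0979

namespace Cfsg.Agent.S0979

/-- No finite simple group has order 5472 = 2^5 * 3^2 * 19. -/
theorem result {G : Type*} [Group G] [Finite G] [IsSimpleGroup G] : Nat.card G ≠ 5472 := by
  intro hG
  haveI : Fact (Nat.Prime 19) := ⟨by norm_num⟩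
  obtain ⟨S⟩ : Nonempty (Sylow 19 G) := inferInstance
  have hfac : Nat.card G = 2 ^ 5 * 3 ^ 2 * 19 := by rw [hG]; norm_num
  have hsc := CfsgLib.Perm.SimpleOrderR.selfCent_of_card (S := S) 2 3 5 2 (by norm_num) (by norm_num)
    (by norm_num) (by norm_num) (by norm_num) (by norm_num) hfac
  obtain ⟨e, he, he1, hcard, hmod, hrel⟩ := CfsgLib.Perm.SimpleOrderR.exists_automizer hsc
  generalize hns : Nat.card (Sylow 19 G) = ns at hcard hmod
  rw [hG] at hcard
  have hee : e ≤ 18 := Nat.le_of_dvd (by norm_num) he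
  have he0 : e ≠ 0 := by rintro rfl; simp at he
  obtain rfl : e = 3 := by interval_cases e <;> omega
  obtain ⟨D⟩ := CfsgLib.Perm.SimpleOrderR.exists_exc hsc hrel (by norm_num)
  haveI := Fintype.ofFinite G
  have ht : D.t = 6 := by have := D.card_eq; omega
  have hnorm := D.norm
  rw [ht] at hnorm
  push_cast at hnorm
  have hS0 : 0 ≤ ∑ χ ∈ D.X, D.a χ ^ 2 := Finset.sum_nonneg fun _ _ => sq_nonneg _
  have hd : D.d = 0 := by
    rcases D.sign with e | e <;> rw [e] at hnorm <;>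
      (by_contra hd
       rcases lt_or_gt_of_ne hd with h | h <;> nlinarith)
  rw [hd] at hnorm
  have hdeg : ∀ χ ∈ D.X, D.a χ ^ 2 = 1 → Cfsg.charDegree (χ : G → ℂ) = 18 := by
    intro χ hχ ha
    have h1 := CfsgLib.Perm.SimpleOrderR.deg_ne_one hsc.2.2 (D.one_notMem χ hχ)
    have h2 := CfsgLib.Perm.SimpleOrderR.deg_sq_lt (D.one_notMem χ hχ)
    have h3 := CfsgLib.Char.degree_dvd_card χ.2
    rw [hG] at h2 h3
    obtain ⟨l, hl⟩ := D.congr χ hχ
    generalize Cfsg.charDegree (χ : G → ℂ) = c at h1 h2 h3 hl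
    have hlt : c < 74 := by nlinarith
    have key : ∀ c < 74, c ≠ 1 → c ∣ 5472 → (c % 19 = 1 ∨ c % 19 = 18) → c = 18 := by decide +kernel
    refine key c hlt h1 h3 ?_
    rcases sq_eq_one_iff.1 ha with e | e <;> rw [e] at hl <;> omega
  have hsq : ∀ χ ∈ D.X, D.a χ ^ 2 = 1 := by
    intro χ hχ
    have h1 : D.a χ ^ 2 ≤ ∑ η ∈ D.X, D.a η ^ 2 :=
      Finset.single_le_sum (f := fun η => D.a η ^ 2) (fun _ _ => sq_nonneg _) hχ
    have h2 := sq_pos_of_ne_zero (D.a_ne χ hχ)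
    have h3 : (D.a χ).natAbs ≤ 1 := by
      have := D.a χ
      by_contra hc
      have h5 : (2 : ℤ) ≤ |D.a χ| := by rw [Int.abs_eq_natAbs]; omega
      nlinarith [abs_mul_abs_self (D.a χ)]
    have h4 : D.a χ = 1 ∨ D.a χ = -1 := by have := D.a_ne χ hχ; omega
    exact sq_eq_one_iff.2 h4
  have hcard2 : (D.X.card : ℤ) = 2 := by
    rw [Finset.sum_congr rfl hsq, Finset.sum_const, nsmul_eq_mul, mul_one] at hnorm
    linarith
  have hreg := D.regular 1 (by simp)
  rw [CfsgLib.Char.irr_one_eq D.μ.2, Finset.sum_congr rfl (g := fun χ => (D.a χ : ℂ) * ((18 : ℕ) : ℂ)) fun χ hχ => by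
    rw [CfsgLib.Char.irr_one_eq χ.2, hdeg χ hχ (hsq χ hχ)]] at hreg
  have hf := CfsgLib.Char.degree_dvd_card D.μ.2
  have hf1 := CfsgLib.Perm.SimpleOrderR.deg_ne_one hsc.2.2 D.μ_ne
  rw [hG] at hf
  generalize Cfsg.charDegree (D.μ : G → ℂ) = f at hf hf1 hreg
  have heq : ((D.t : ℤ) * D.d - D.δ) * (f : ℤ) + (1 + ∑ χ ∈ D.X, D.a χ * 18) = 0 := by
    rw [← Int.cast_inj (α := ℂ)]
    push_cast at hreg ⊢
    exact hreg
  rw [ht, hd, ← Finset.sum_mul] at heq
  obtain ⟨u, v, huv, hXs⟩ := Finset.card_eq_two.1 (show D.X.card = 2 by exact_mod_cast hcard2)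
  rw [hXs, Finset.sum_pair huv] at heq
  have hf35 : f ≠ 35 ∧ f ≠ 37 := by
    constructor <;> (intro h; rw [h] at hf; norm_num at hf)
  rcases sq_eq_one_iff.1 (hsq u (by rw [hXs]; simp)) with e | e <;>
    rcases sq_eq_one_iff.1 (hsq v (by rw [hXs]; simp)) with e' | e' <;>
    rcases D.sign with e'' | e'' <;> rw [e, e', e''] at heq <;> omega

end Cfsg.Agent.S0979
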