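import Cfsg.Statements.S0980
import Cfsg.Agent.Perm.SimpleOrderR
import Mathlib
-- import your own Cfsg.Agent.* helpers here

set_option autoImplicit false
open Cfsg

namespace Cfsg.Agent.S0980

/-- No finite simple group has order 5760 = 2^7 * 3^2 * 5. -/
theorem result {G : Type*} [Group G] [Finite G] [IsSimpleGroup G] : Nat.card G ≠ 5760 := by
  intro hG
  haveI : Fact (Nat.Prime 5) := ⟨by norm_num⟩
  obtain ⟨S⟩ : Nonempty (Sylow 5 G) := inferInstance
  have hfac : Nat.card G = 2 ^ 7 * 3 ^ 2 * 5 := by rw [hG]; norm_num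
  have hsc := CfsgLib.Perm.SimpleOrderR.selfCent_of_card (S := S) 2 3 7 2 (by norm_num) (by norm_num)
    (by norm_num) (by norm_num) (by norm_num) (by norm_num) hfac
  obtain ⟨e, he, he1, hcard, hmod, hrel⟩ := CfsgLib.Perm.SimpleOrderR.exists_automizer hsc
  generalize hns : Nat.card (Sylow 5 G) = ns at hcard hmod
  rw [hG] at hcard
  have hee : e ≤ 4 := Nat.le_of_dvd (by norm_num) he
  have he0 : e ≠ 0 := by rintro rfl; simp at he
  obtain rfl : e = 2 := by interval_cases e <;> omega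
  obtain ⟨D⟩ := CfsgLib.Perm.SimpleOrderR.exists_exc hsc hrel (by norm_num)
  obtain ⟨c, f, hc1, hf1, hcd, hfd, hcc, hcf, hcm, hrf, hinv⟩ := CfsgLib.Perm.SimpleOrderR.two_degrees hsc.2.2 D
  rw [hG] at hcd hfd hcc
  have hlt : c < 76 := by nlinarith
  have hres : (c = 4 ∧ f = 3) ∨ (c = 9 ∧ f = 8) := by
    rcases hcf with h | h
    · obtain rfl : f = c - 1 := by omega
      interval_cases c <;> first | omega | norm_num at *
    · obtain rfl : f = c + 1 := by omega
      interval_cases c <;> first | omega | norm_num at *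
  haveI : Fact (Nat.Prime 2) := ⟨Nat.prime_two⟩
  obtain ⟨P⟩ : Nonempty (Sylow 2 G) := inferInstance
  haveI : Nontrivial (P : Subgroup G) :=
    (Subgroup.nontrivial_iff_ne_bot _).mpr (Sylow.ne_bot_of_dvd_card P (by rw [hG]; norm_num))
  haveI := P.isPGroup'.center_nontrivial
  obtain ⟨k0, hk0⟩ := IsPGroup.iff_card.1 (P.isPGroup'.to_subgroup (Subgroup.center (P : Subgroup G)))
  have hk1 : k0 ≠ 0 := by
    rintro rfl
    have := Finite.one_lt_card (α := Subgroup.center (P : Subgroup G))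
    omega
  obtain ⟨⟨⟨z, hzP⟩, hzc⟩, hz⟩ := exists_prime_orderOf_dvd_card' (G := Subgroup.center (P : Subgroup G)) 2
    (hk0 ▸ dvd_pow_self 2 hk1)
  rw [Subgroup.orderOf_mk, Subgroup.orderOf_mk] at hz
  have hle : (P : Subgroup G) ≤ Subgroup.centralizer ({z} : Set G) := fun x hx =>
    Subgroup.mem_centralizer_singleton_iff.2 (congrArg Subtype.val (Subgroup.mem_center_iff.mp hzc ⟨x, hx⟩))
  have hPc : Nat.card (P : Subgroup G) = 128 := by
    rw [P.card_eq_multiplicity, hfac, Nat.factorization_mul (by norm_num) (by norm_num), Finsupp.add_apply,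
      Nat.factorization_mul (by norm_num) (by norm_num), Finsupp.add_apply,
      Nat.factorization_pow_self Nat.prime_two, Nat.factorization_eq_zero_of_not_dvd (by norm_num : ¬ 2 ∣ 3 ^ 2),
      Nat.factorization_eq_zero_of_not_dvd (by norm_num : ¬ 2 ∣ 5)]
    norm_num
  obtain ⟨m, hm⟩ := Subgroup.card_dvd_of_le hle
  obtain ⟨n, k, hk0', hk2, hkey⟩ := hinv z hz (by norm_num)
  rw [hm, hPc, hG] at hkey
  have key2 : 16384 * (c * f) ∣ 5760 * k ^ 2 := ⟨n * m ^ 2, by rw [← hkey]; ring⟩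
  rcases hres with ⟨rfl, rfl⟩ | ⟨rfl, rfl⟩ <;> (norm_num at hk2; interval_cases k <;> norm_num at key2)

end Cfsg.Agent.S0980
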