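import Cfsg.Statements.S0985

import Mathlib

set_option autoImplicit false
set_option linter.style.haveILetI false
open Cfsg

namespace Cfsg.Agent.S0985
open scoped Pointwise

/-- If the number of Sylow p-subgroups of a finite group is not congruent to 1 modulo p^k, then there are two distinct Sylow p-subgroups P and R such that the index of P ∩ R in P is at most p^(k-1). -/
theorem result {G : Type*} [Group G] [Finite G] (p k : ℕ) [Fact p.Prime] (h : ¬ Nat.card (Sylow p G) ≡ 1 [MOD p ^ k]) : ∃ P R : Sylow p G, P ≠ R ∧ ((R : Subgroup G).subgroupOf (P : Subgroup G)).index ≤ p ^ (k - 1) := by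
  classical
  obtain ⟨P⟩ : Nonempty (Sylow p G) := inferInstance
  by_contra hcon
  push Not at hcon
  apply h
  let S : SubMulAction (P : Subgroup G) (Sylow p G) :=
    { carrier := {R | R ≠ P}
      smul_mem' := fun u R hR he => hR (MulAction.injective u (he.trans
        (Sylow.smul_eq_iff_mem_normalizer.mpr (Subgroup.le_normalizer u.2) : (u : G) • P = P).symm)) }
  have hdvd : p ^ k ∣ Nat.card S := by
    haveI : Fintype (S : Set (Sylow p G)) := Fintype.ofFinite _
    rw [Nat.card_congr (MulAction.selfEquivSigmaOrbits (P : Subgroup G) S), Nat.card_sigma]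
    refine Finset.dvd_sum fun ω _ => ?_
    rw [Nat.card_coe_set_eq, ← MulAction.index_stabilizer]
    have hle : MulAction.stabilizer (P : Subgroup G) ω.out
        ≤ ((ω.out : Sylow p G) : Subgroup G).subgroupOf (P : Subgroup G) := by
      intro u hu
      rw [MulAction.mem_stabilizer_iff] at hu
      have h1 : (u : G) • (ω.out : Sylow p G) = (ω.out : Sylow p G) := congrArg Subtype.val hu
      rw [Sylow.smul_eq_iff_mem_normalizer] at h1
      rw [Subgroup.mem_subgroupOf]
      obtain ⟨i, hi⟩ := P.isPGroup' u
      have h2 : IsPGroup p (Subgroup.zpowers (u : G)) :=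
        P.isPGroup'.to_le (Subgroup.zpowers_le.mpr u.2)
      have h3 : Subgroup.zpowers (u : G) ≤ ((ω.out : Sylow p G) : Subgroup G) := by
        have h4 := h2.inf_normalizer_sylow (ω.out : Sylow p G)
        have h5 : Subgroup.zpowers (u : G) ≤
            Subgroup.zpowers (u : G) ⊓ Subgroup.normalizer ((ω.out : Sylow p G) : Set G) :=
          le_inf le_rfl (Subgroup.zpowers_le.mpr h1)
        exact (h5.trans h4.le).trans inf_le_right
      exact h3 (Subgroup.mem_zpowers (u : G))
    have hne : P ≠ (ω.out : Sylow p G) := fun he => ω.out.2 he.symm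
    obtain ⟨i, hi⟩ := IsPGroup.index (P.isPGroup') (MulAction.stabilizer (P : Subgroup G) ω.out)
    have hlt := hcon P (ω.out : Sylow p G) hne
    have hdiv := Subgroup.index_dvd_of_le hle
    rw [hi] at hdiv ⊢
    have hle2 := Nat.le_of_dvd (pow_pos (Fact.out : p.Prime).pos i) hdiv
    refine pow_dvd_pow p ?_
    by_contra hlt2
    have : p ^ i ≤ p ^ (k - 1) := Nat.pow_le_pow_right (Fact.out : p.Prime).pos (by omega)
    omega
  have hcard : Nat.card (Sylow p G) = Nat.card S + 1 := by
    have h1 : Nat.card S = ({P}ᶜ : Set (Sylow p G)).ncard := Nat.card_coe_set_eq _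
    rw [h1, ← Set.ncard_add_ncard_compl {P}, Set.ncard_singleton, add_comm]
  rw [hcard]
  calc Nat.card S + 1 ≡ 0 + 1 [MOD p ^ k] :=
        (Nat.modEq_zero_iff_dvd.mpr hdvd).add_right 1
    _ = 1 := by norm_num

end Cfsg.Agent.S0985
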