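import Cfsg.Statements.S0986

import Mathlib

set_option autoImplicit false
set_option linter.style.haveILetI false
open Cfsg

namespace Cfsg.Agent.S0986
open scoped Pointwise

/-- Let P and Q be distinct Sylow p-subgroups of a finite group G chosen so that the order of P ∩ Q is as large as possible among intersections of two distinct Sylow p-subgroups, and let N be the normalizer of P ∩ Q. Then N has more than one Sylow p-subgroup, any two distinct Sylow p-subgroups of N intersect exactly in P ∩ Q, and each Sylow p-subgroup of N lies in exactly one Sylow p-subgroup of G. -/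
theorem result {G : Type*} [Group G] [Finite G] (p : ℕ) [Fact p.Prime] (P Q : Sylow p G) (hPQ : P ≠ Q) (hmax : ∀ P' Q' : Sylow p G, P' ≠ Q' → Nat.card ↥((P' : Subgroup G) ⊓ (Q' : Subgroup G)) ≤ Nat.card ↥((P : Subgroup G) ⊓ (Q : Subgroup G))) : 1 < Nat.card (Sylow p ↥(Subgroup.normalizer (((P : Subgroup G) ⊓ (Q : Subgroup G) : Subgroup G) : Set G))) ∧ (∀ S T : Sylow p ↥(Subgroup.normalizer (((P : Subgroup G) ⊓ (Q : Subgroup G) : Subgroup G) : Set G)), S ≠ T → (S : Subgroup _) ⊓ (T : Subgroup _) = ((P : Subgroup G) ⊓ (Q : Subgroup G)).subgroupOf (Subgroup.normalizer (((P : Subgroup G) ⊓ (Q : Subgroup G) : Subgroup G) : Set G))) ∧ ∀ S : Sylow p ↥(Subgroup.normalizer (((P : Subgroup G) ⊓ (Q : Subgroup G) : Subgroup G) : Set G)), ∃! T : Sylow p G, (S : Subgroup _).map (Subgroup.normalizer (((P : Subgroup G) ⊓ (Q : Subgroup G) : Subgroup G) : Set G)).subtype ≤ (T : Subgroup G) := by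
  classical
  set D := (P : Subgroup G) ⊓ (Q : Subgroup G) with hD
  set N := Subgroup.normalizer (D : Set G) with hN
  have hDN : D ≤ N := Subgroup.le_normalizer
  have hDp : IsPGroup p D := P.isPGroup'.to_le inf_le_left
  haveI : (D.subgroupOf N).Normal := Subgroup.normal_in_normalizer
  have hnle : ∀ R S : Sylow p G, (R : Subgroup G) ≤ S → R = S := fun R S h =>
    (Sylow.ext (R.3 S.isPGroup' h)).symm
  have hgrow : ∀ R : Sylow p G, D ≤ (R : Subgroup G) → D ≠ (R : Subgroup G) →
      Nat.card D < Nat.card ↥((R : Subgroup G) ⊓ N) := by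
    intro R hle hne
    have hlt : D.subgroupOf (R : Subgroup G) < ⊤ := by
      rw [lt_top_iff_ne_top, Ne, Subgroup.subgroupOf_eq_top]
      exact fun h => hne (le_antisymm hle h)
    haveI := R.isPGroup'.isNilpotent
    have h1 := Group.normalizerCondition_of_isNilpotent (G := (R : Subgroup G)) _ hlt
    obtain ⟨u, hu, hu2⟩ := SetLike.exists_of_lt h1
    have hlt2 : D < (R : Subgroup G) ⊓ N := by
      refine SetLike.lt_iff_le_and_exists.mpr
        ⟨le_inf hle hDN, (u : G), Subgroup.mem_inf.mpr ⟨u.2, ?_⟩, hu2⟩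
      refine Subgroup.mem_normalizer_fintype fun d hd => ?_
      have h2 := (Subgroup.mem_normalizer_iff.mp hu ⟨d, hle hd⟩).mp hd
      exact h2
    by_contra hc
    exact hlt2.ne (Subgroup.eq_of_le_of_card_ge hlt2.le (not_lt.mp hc))
  have hDP : D ≠ (P : Subgroup G) := fun h => hPQ (hnle P Q (h.symm ▸ inf_le_right))
  have hDQ : D ≠ (Q : Subgroup G) := fun h => hPQ (hnle Q P (h.symm ▸ inf_le_left)).symm
  have hgP := hgrow P inf_le_left hDP
  have hgQ := hgrow Q inf_le_right hDQ
  have huniq : ∀ (X : Subgroup G), Nat.card D < Nat.card X → ∀ R S : Sylow p G,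
      X ≤ (R : Subgroup G) → X ≤ (S : Subgroup G) → R = S := by
    intro X hX R S hR hS
    by_contra hne
    have h1 := (Subgroup.card_le_of_le (le_inf hR hS)).trans (hmax R S hne)
    omega
  have hex : ∀ S : Sylow p N, ∃ T : Sylow p G, (S : Subgroup N).map N.subtype ≤ (T : Subgroup G) :=
    fun S => (S.isPGroup'.map _).exists_le_sylow
  have hin : ∀ R : Sylow p G, ∃ S : Sylow p N,
      (R : Subgroup G) ⊓ N ≤ (S : Subgroup N).map N.subtype := by
    intro R
    have h1 : IsPGroup p ↥(((R : Subgroup G) ⊓ N).subgroupOf N) :=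
      (R.isPGroup'.to_le inf_le_left).of_equiv (Subgroup.subgroupOfEquivOfLe inf_le_right).symm
    obtain ⟨S, hS⟩ := h1.exists_le_sylow
    exact ⟨S, fun x hx => ⟨⟨x, hx.2⟩, hS hx, rfl⟩⟩
  have hbig : ∀ S : Sylow p N, Nat.card D < Nat.card ↥((S : Subgroup N).map N.subtype) := by
    intro S
    obtain ⟨S₀, hS₀⟩ := hin P
    have h1 := hgP.trans_le (Subgroup.card_le_of_le hS₀)
    have h2 : Nat.card (S₀ : Subgroup N) = Nat.card (S : Subgroup N) := by
      rw [Sylow.card_eq_multiplicity, Sylow.card_eq_multiplicity]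
    rw [Subgroup.card_subtype] at h1 ⊢
    omega
  have hDS : ∀ S : Sylow p N, D.subgroupOf N ≤ (S : Subgroup N) := fun S => by
    have h1 : IsPGroup p (D.subgroupOf N) :=
      hDp.of_equiv (Subgroup.subgroupOfEquivOfLe hDN).symm
    obtain ⟨T, hT⟩ := h1.exists_le_sylow
    obtain ⟨g, hg⟩ := MulAction.exists_smul_eq N T S
    intro x hx
    rw [← hg, Sylow.coe_subgroup_smul, Subgroup.mem_pointwise_smul_iff_inv_smul_mem]
    exact hT (by simpa using Subgroup.Normal.conj_mem inferInstance x hx g⁻¹)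
  refine ⟨?_, fun S T hST => ?_, fun S => ?_⟩
  · obtain ⟨S, hS⟩ := hin P
    obtain ⟨T, hT⟩ := hin Q
    haveI : Nontrivial (Sylow p N) := by
      refine ⟨⟨S, T, fun hST => ?_⟩⟩
      obtain ⟨U, hU⟩ := hex S
      have h1 := huniq _ hgP P U inf_le_left (hS.trans hU)
      have h2 := huniq _ hgQ Q U inf_le_left (hT.trans (hST ▸ hU))
      exact hPQ (h1.trans h2.symm)
    exact Finite.one_lt_card
  · refine le_antisymm ?_ (le_inf (hDS S) (hDS T))
    obtain ⟨U, hU⟩ := hex S
    obtain ⟨V, hV⟩ := hex T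
    have hUV : U ≠ V := by
      intro h
      apply hST
      have hp1 : IsPGroup p ↥((U : Subgroup G).subgroupOf N) :=
        U.isPGroup'.comap_of_injective _ N.subtype_injective
      have h2 : (S : Subgroup N) ≤ (U : Subgroup G).subgroupOf N := fun x hx => hU ⟨x, hx, rfl⟩
      have h3 : (T : Subgroup N) ≤ (U : Subgroup G).subgroupOf N := fun x hx =>
        (h ▸ hV ⟨x, hx, rfl⟩ : (x : G) ∈ (U : Subgroup G))
      exact Sylow.ext ((S.3 hp1 h2).symm.trans (T.3 hp1 h3))
    have h4 := hmax U V hUV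
    refine (Subgroup.eq_of_le_of_card_ge (le_inf (hDS S) (hDS T)) ?_).ge
    rw [Nat.card_congr (Subgroup.subgroupOfEquivOfLe hDN).toEquiv]
    refine le_trans ?_ h4
    rw [← Subgroup.card_subtype (K := N)]
    exact Subgroup.card_le_of_le fun x hx => by
      obtain ⟨y, hy, rfl⟩ := hx
      exact ⟨hU ⟨y, hy.1, rfl⟩, hV ⟨y, hy.2, rfl⟩⟩
  · obtain ⟨U, hU⟩ := hex S
    exact ⟨U, hU, fun V hV => huniq _ (hbig S) V U hV hU⟩

end Cfsg.Agent.S0986
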