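import Cfsg.Statements.S0987

import Mathlib

set_option autoImplicit false
set_option linter.style.haveILetI false
open Cfsg

namespace Cfsg.Agent.S0987
open scoped Pointwise

/-- If a finite group has order pqr for primes p < q < r, then its Sylow r-subgroups are normal. -/
theorem result {G : Type*} [Group G] [Finite G] (p q r : ℕ) (hp : p.Prime) (hq : q.Prime) [Fact r.Prime] (hpq : p < q) (hqr : q < r) (hG : Nat.card G = p * q * r) (R : Sylow r G) : (R : Subgroup G).Normal := by
  classical
  have hsf : Squarefree (Nat.card G) := by
    rw [hG, Nat.squarefree_mul (Nat.Coprime.mul_left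
        ((Nat.coprime_primes hp Fact.out).mpr (by omega)) ((Nat.coprime_primes hq Fact.out).mpr (by omega))),
      Nat.squarefree_mul ((Nat.coprime_primes hp hq).mpr (by omega))]
    exact ⟨⟨hp.squarefree, hq.squarefree⟩, (Fact.out : r.Prime).squarefree⟩
  haveI : IsZGroup G := IsZGroup.of_squarefree hsf
  have hr : r.Prime := Fact.out
  have hR : Nat.card (R : Subgroup G) = r := by
    rw [R.card_eq_multiplicity, hG, Nat.factorization_mul (Nat.mul_ne_zero hp.ne_zero hq.ne_zero)
      hr.ne_zero, Finsupp.add_apply, hr.factorization_self, Nat.factorization_eq_zero_of_not_dvd,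
      zero_add, pow_one]
    intro h
    rcases (Nat.Prime.dvd_mul hr).mp h with h | h
    · have := Nat.le_of_dvd hp.pos h; omega
    · have := Nat.le_of_dvd hq.pos h; omega
  haveI : IsCyclic (commutator G) := IsZGroup.isCyclic_commutator G
  by_cases hdvd : r ∣ Nat.card (commutator G)
  · letI : CommGroup (commutator G) := IsCyclic.commGroup
    obtain ⟨R₀⟩ : Nonempty (Sylow r (commutator G)) := inferInstance
    haveI : (R₀ : Subgroup (commutator G)).Characteristic :=
      Sylow.characteristic_of_normal R₀ inferInstance
    have hnorm : ((R₀ : Subgroup (commutator G)).map (commutator G).subtype).Normal := inferInstance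
    set Z := (R₀ : Subgroup (commutator G)).map (commutator G).subtype with hZ
    have hZp : IsPGroup r Z := R₀.isPGroup'.map _
    have hZc : r ≤ Nat.card Z := by
      rw [hZ, Subgroup.card_subtype]
      exact Nat.le_of_dvd Nat.card_pos (R₀.dvd_card_of_dvd_card hdvd)
    obtain ⟨Q, hQ⟩ := hZp.exists_le_sylow
    obtain ⟨c, hc⟩ := MulAction.exists_smul_eq G Q R
    have hQZ : (Q : Subgroup G) = Z := (Subgroup.eq_of_le_of_card_ge hQ (by
      have h1 : Nat.card (Q : Subgroup G) = Nat.card (R : Subgroup G) := by
        rw [Sylow.card_eq_multiplicity, Sylow.card_eq_multiplicity]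
      exact (h1.trans hR).le.trans hZc)).symm
    haveI : (Q : Subgroup G).Normal := hQZ ▸ hnorm
    haveI := Sylow.unique_of_normal Q inferInstance
    rw [show R = Q from Subsingleton.elim _ _]
    infer_instance
  · have hcent : (R : Subgroup G) ≤ Subgroup.centralizer ((commutator G : Subgroup G) : Set G) := by
      intro x hx
      rw [Subgroup.mem_centralizer_iff]
      intro y hy
      have h1 : orderOf (MulAut.conjNormal (H := commutator G) x) ∣ Nat.card (MulAut (commutator G)) :=
        orderOf_dvd_natCard _
      have h2 : orderOf (MulAut.conjNormal (H := commutator G) x) ∣ r :=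
        (orderOf_map_dvd _ x).trans (hR ▸ Subgroup.orderOf_dvd_natCard _ hx)
      rw [IsCyclic.card_mulAut] at h1
      have hm : Nat.card (commutator G) ∣ p * q := by
        have h3 : Nat.card (commutator G) ∣ p * q * r := hG ▸ Subgroup.card_subgroup_dvd_card _
        exact (Nat.Coprime.dvd_of_dvd_mul_right
          (((hr.coprime_iff_not_dvd).mpr hdvd).symm) h3)
      have h4 : orderOf (MulAut.conjNormal (H := commutator G) x) = 1 := by
        rcases (Nat.dvd_prime hr).mp h2 with h | h
        · exact h
        · exfalso
          rw [h] at h1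
          have h5 := h1.trans (Nat.totient_dvd_of_dvd hm)
          rw [Nat.totient_mul ((Nat.coprime_primes hp hq).mpr (by omega)), Nat.totient_prime hp,
            Nat.totient_prime hq] at h5
          rcases (Nat.Prime.dvd_mul hr).mp h5 with h6 | h6
          · have := Nat.le_of_dvd (by have := hp.two_le; omega) h6; omega
          · have := Nat.le_of_dvd (by have := hq.two_le; omega) h6; omega
      have h7 := congrArg Subtype.val
        (DFunLike.congr_fun (orderOf_eq_one_iff.mp h4) (⟨y, hy⟩ : commutator G))
      rw [MulAut.conjNormal_apply] at h7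
      have h8 : x * y * x⁻¹ = y := h7
      rw [← mul_inv_eq_iff_eq_mul.mp h8]
    haveI hK : ((R : Subgroup G) ⊔ commutator G).Normal :=
      Subgroup.Normal.of_commutator_le (G := G) le_sup_right
    have hRK : (R : Subgroup G) ⊔ commutator G ≤ Subgroup.normalizer ((R : Subgroup G) : Set G) := by
      refine sup_le Subgroup.le_normalizer fun y hy => Subgroup.centralizer_le_normalizer _ ?_
      rw [Subgroup.mem_centralizer_iff]
      exact fun x hx => ((Subgroup.mem_centralizer_iff.mp (hcent hx)) y hy).symm
    have hfr := Sylow.normalizer_sup_eq_top (R.subtype (le_sup_left : (R : Subgroup G) ≤ (R : Subgroup G) ⊔ commutator G))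
    rw [← Subgroup.normalizer_eq_top_iff, eq_top_iff, ← hfr]
    refine sup_le ?_ hRK
    have h9 : (↑(R.subtype (le_sup_left : (R : Subgroup G) ≤ (R : Subgroup G) ⊔ commutator G)) :
        Subgroup ↥((R : Subgroup G) ⊔ commutator G)).map ((R : Subgroup G) ⊔ commutator G).subtype
        = (R : Subgroup G) := by
      rw [Sylow.coe_subtype, Subgroup.map_subgroupOf_eq_of_le le_sup_left]
    rw [h9]

end Cfsg.Agent.S0987
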