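import Cfsg.Statements.S0988

import Mathlib
import Cfsg.Agent.Char.Burnside
import Cfsg.Agent.Perm.SylowPrime

set_option autoImplicit false
set_option linter.style.haveILetI false
open Cfsg

namespace Cfsg.Agent.S0988
open scoped commutatorElement

/-- If a finite simple group has order p^2 * q * r with p, q and r prime, then its order is 60. -/
theorem result {G : Type*} [Group G] [Finite G] [IsSimpleGroup G] (p q r : ℕ) (hp : p.Prime) (hq : q.Prime) (hr : r.Prime) (hG : Nat.card G = p ^ 2 * q * r) : Nat.card G = 60 := by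
  classical
  have hnprime : ¬ (Nat.card G).Prime := by
    rw [hG]
    refine Nat.not_prime_mul ?_ hr.ne_one
    intro h
    have := hq.one_lt
    have h1 : 1 ≤ p ^ 2 := Nat.one_le_pow _ _ hp.pos
    nlinarith
  have hnotcomm : ¬ IsMulCommutative G := fun hc => by
    haveI := hc
    exact hnprime (Group.is_simple_iff_prime_card.mp inferInstance)
  have hnotsolv : ¬ Group.IsSolvable G := fun hs => hnotcomm (by
    have hlt := hs.commutator_lt_top_of_nontrivial
    rcases (inferInstance : (commutator G).Normal).eq_bot_or_eq_top with h | h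
    · refine ⟨⟨fun a b => ?_⟩⟩
      have h1 : ⁅a, b⁆ ∈ commutator G := Subgroup.commutator_mem_commutator (Subgroup.mem_top a) (Subgroup.mem_top b)
      rw [h, Subgroup.mem_bot] at h1
      exact commutatorElement_eq_one_iff_commute.mp h1
    · exact absurd h hlt.ne)
  have hpq : p ≠ q := by
    rintro rfl
    exact hnotsolv (CfsgLib.Char.solvable_of_card_two_primes p r 3 1 hp hr (by rw [hG]; ring))
  have hpr : p ≠ r := by
    rintro rfl
    exact hnotsolv (CfsgLib.Char.solvable_of_card_two_primes p q 3 1 hp hq (by rw [hG]; ring))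
  have hqr : q ≠ r := by
    rintro rfl
    exact hnotsolv (CfsgLib.Char.solvable_of_card_two_primes p q 2 2 hp hq (by rw [hG]; ring))
  wlog hlt : q < r generalizing q r
  · exact this r q hr hq (by rw [hG]; ring) hpr hpq hqr.symm (by omega)
  clear hnprime
  set s := (Nat.card G).minFac with hsdef
  have hcard1 : Nat.card G ≠ 1 := fun h => by
    haveI := (Nat.card_eq_one_iff_unique.mp h).1
    exact hnotsolv inferInstance
  have hs : s.Prime := Nat.minFac_prime hcard1
  haveI : Fact s.Prime := ⟨hs⟩
  let S : Sylow s G := default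
  have hle_of : Subgroup.normalizer ((S : Subgroup G) : Set G) ≤ Subgroup.centralizer ((S : Subgroup G) : Set G) → False := by
    intro hle
    have hcomp := MonoidHom.ker_transferSylow_isComplement' S hle
    rcases (MonoidHom.normal_ker (MonoidHom.transferSylow S hle)).eq_bot_or_eq_top with h | h
    · rw [h, Subgroup.isComplement'_bot_left] at hcomp
      have hP : IsPGroup s G := (hcomp ▸ S.isPGroup' : IsPGroup s (⊤ : Subgroup G)).of_equiv Subgroup.topEquiv
      haveI := hP.isNilpotent
      exact hnotsolv inferInstance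
    · rw [h, Subgroup.isComplement'_top_left] at hcomp
      have h1 : Nat.card (S : Subgroup G) = 1 := by rw [hcomp, Subgroup.card_bot]
      have h2 := S.dvd_card_of_dvd_card (Nat.minFac_dvd (Nat.card G))
      rw [h1] at h2
      exact hs.not_dvd_one h2
  have hncyc : ¬ IsCyclic (S : Subgroup G) := fun h =>
    hle_of (IsCyclic.normalizer_le_centralizer rfl h)
  have hsd : s ∣ p ^ 2 * q * r := hG ▸ Nat.minFac_dvd _
  have hcop : ∀ x, x ≠ p → x.Prime → ¬ p ∣ x := fun x hx hxp h => hx ((Nat.prime_dvd_prime_iff_eq hp hxp).mp h).symm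
  have hfac : ∀ x : ℕ, (Nat.card G).factorization x
      = 2 * p.factorization x + q.factorization x + r.factorization x := by
    intro x
    rw [hG, Nat.factorization_mul (Nat.mul_ne_zero (pow_ne_zero _ hp.ne_zero) hq.ne_zero) hr.ne_zero,
      Nat.factorization_mul (pow_ne_zero _ hp.ne_zero) hq.ne_zero, Nat.factorization_pow]
    simp
  have hsp : s = p := by
    by_contra hne
    apply hncyc
    have h1 : (Nat.card G).factorization s = 1 := by
      rw [hfac, Nat.factorization_eq_zero_of_not_dvd
        (fun h => hne ((Nat.prime_dvd_prime_iff_eq hs hp).mp h))]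
      rcases (Nat.Prime.dvd_mul hs).mp hsd with h | h
      · rcases (Nat.Prime.dvd_mul hs).mp h with h | h
        · exact absurd ((Nat.prime_dvd_prime_iff_eq hs hp).mp (hs.dvd_of_dvd_pow h)) hne
        · have he := (Nat.prime_dvd_prime_iff_eq hs hq).mp h
          rw [he, hq.factorization_self, Nat.factorization_eq_zero_of_not_dvd
            (fun h => hqr ((Nat.prime_dvd_prime_iff_eq hq hr).mp h))]
      · have he := (Nat.prime_dvd_prime_iff_eq hs hr).mp h
        rw [he, hr.factorization_self, Nat.factorization_eq_zero_of_not_dvd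
          (fun h => hqr.symm ((Nat.prime_dvd_prime_iff_eq hr hq).mp h))]
    exact isCyclic_of_prime_card (p := s) (by rw [S.card_eq_multiplicity, h1, pow_one])
  have hpmin : p < q := lt_of_le_of_ne
    (hsp ▸ Nat.minFac_le_of_dvd hq.two_le (hG ▸ ⟨p ^ 2 * r, by ring⟩)) hpq
  have hS4 : Nat.card (S : Subgroup G) = s ^ 2 := by
    rw [S.card_eq_multiplicity, hfac, hsp, hp.factorization_self,
      Nat.factorization_eq_zero_of_not_dvd (hcop q hpq.symm hq),
      Nat.factorization_eq_zero_of_not_dvd (hcop r hpr.symm hr)]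
  haveI hScomm : IsMulCommutative (S : Subgroup G) := IsPGroup.isMulCommutative_of_card_eq_prime_sq hS4
  set N := Subgroup.normalizer ((S : Subgroup G) : Set G) with hN
  set φ := Subgroup.normalizerMonoidHom (S : Subgroup G) with hφ
  obtain ⟨x, hxne⟩ : ∃ x : φ.range, x ≠ 1 := by
    by_contra hc
    push Not at hc
    refine hle_of fun u hu => ?_
    have h1 : (⟨u, hu⟩ : N) ∈ φ.ker := congrArg Subtype.val (hc ⟨φ ⟨u, hu⟩, ⟨⟨u, hu⟩, rfl⟩⟩)
    rw [hφ, Subgroup.normalizerMonoidHom_ker, Subgroup.mem_subgroupOf] at h1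
    exact h1
  have hker : ¬ p ∣ φ.ker.index := by
    intro h
    have hSker : (S : Subgroup G).subgroupOf N ≤ φ.ker := by
      rw [hφ, Subgroup.normalizerMonoidHom_ker]
      intro u hu
      rw [Subgroup.mem_subgroupOf, Subgroup.mem_centralizer_iff]
      intro v hv
      exact congrArg Subtype.val (hScomm.is_comm.comm ⟨v, hv⟩ ⟨u, hu⟩)
    have h1 := h.trans (Subgroup.index_dvd_of_le hSker)
    apply S.not_dvd_index
    refine hsp.dvd.trans ?_
    exact h1.trans (Subgroup.relIndex_dvd_index_of_le Subgroup.le_normalizer)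
  obtain ⟨t, ht, htd⟩ := Nat.exists_prime_and_dvd (n := orderOf x) (by rwa [Ne, orderOf_eq_one_iff])
  have htR : t ∣ φ.ker.index := by
    rw [Subgroup.index_ker]
    exact htd.trans (orderOf_dvd_natCard x)
  have htp : t ≠ p := fun h => hker (h ▸ htR)
  have htG : t ∣ p ^ 2 * q * r := hG ▸ (htR.trans (Subgroup.index_dvd_card _)).trans (Subgroup.card_subgroup_dvd_card N)
  have hqt : q ≤ t := by
    rcases (Nat.Prime.dvd_mul ht).mp htG with h | h
    · rcases (Nat.Prime.dvd_mul ht).mp h with h | h
      · exact absurd ((Nat.prime_dvd_prime_iff_eq ht hp).mp (ht.dvd_of_dvd_pow h)) htp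
      · exact ((Nat.prime_dvd_prime_iff_eq ht hq).mp h).ge
    · exact hlt.le.trans ((Nat.prime_dvd_prime_iff_eq ht hr).mp h).ge
  have hp2 : p = 2 ∧ q = 3 := by
    haveI : Fact t.Prime := ⟨ht⟩
    obtain ⟨ψ, hψ⟩ := exists_prime_orderOf_dvd_card' (G := φ.range) t
      (by rw [← Subgroup.index_ker]; exact htR)
    set ψ' : MulAut (S : Subgroup G) := (ψ : MulAut (S : Subgroup G)) with hψ'def
    have hψ' : orderOf ψ' = t := by rw [hψ'def, Subgroup.orderOf_coe]; exact hψ
    have hT : IsPGroup t (Subgroup.zpowers ψ') :=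
      IsPGroup.of_card (n := 1) (by rw [Nat.card_zpowers, hψ', pow_one])
    let F : Subgroup (S : Subgroup G) := MonoidHom.eqLocus ψ'.toMonoidHom (MonoidHom.id _)
    have hmod := hT.card_modEq_card_fixedPoints (α := (S : Subgroup G))
    have hFeq : MulAction.fixedPoints (Subgroup.zpowers ψ') (S : Subgroup G) = (F : Set (S : Subgroup G)) := by
      ext y
      constructor
      · exact fun h => h ⟨ψ', Subgroup.mem_zpowers _⟩
      · intro h u
        have hle : Subgroup.zpowers ψ' ≤ MulAction.stabilizer (MulAut (S : Subgroup G)) y :=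
          Subgroup.zpowers_le.mpr h
        exact hle u.2
    have hsp2 : s ^ 2 = p ^ 2 := by rw [hsp]
    rw [hFeq, hS4, hsp2] at hmod
    have hne : F ≠ ⊤ := by
      intro h
      have h1 : ψ' = 1 := MulEquiv.ext fun y => (h.symm ▸ Subgroup.mem_top y : y ∈ F)
      rw [h1, orderOf_one] at hψ'
      exact ht.one_lt.ne hψ'
    have hFd : Nat.card F ∣ p ^ 2 := (Subgroup.card_subgroup_dvd_card F).trans (hS4.trans (by rw [hsp])).dvd
    obtain ⟨i, hi, hiF⟩ := (Nat.dvd_prime_pow hp).mp hFd
    have h2 : t ∣ p ^ 2 - 1 ∨ t ∣ p ^ 2 - p := by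
      have hsq : 1 ≤ p ^ 2 := Nat.one_le_pow _ _ hp.pos
      have hsq' : p ≤ p ^ 2 := Nat.le_self_pow two_ne_zero p
      interval_cases i
      · left; rw [pow_zero] at hiF
        exact (Nat.modEq_iff_dvd' hsq).mp (hiF ▸ hmod : p ^ 2 ≡ 1 [MOD t]).symm
      · right; rw [pow_one] at hiF
        exact (Nat.modEq_iff_dvd' hsq').mp (hiF ▸ hmod : p ^ 2 ≡ p [MOD t]).symm
      · exact absurd (Subgroup.eq_top_of_card_eq _ (hiF.trans (hS4.trans hsp2).symm)) hne
    have e1 : p ^ 2 - 1 = (p + 1) * (p - 1) := by
      obtain ⟨m, rfl⟩ : ∃ m, p = m + 1 := ⟨p - 1, by have := hp.one_le; omega⟩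
      rw [Nat.add_sub_cancel]
      refine (Nat.sub_eq_iff_eq_add (Nat.one_le_pow _ _ (by omega))).mpr ?_
      ring
    have e2 : p ^ 2 - p = p * (p - 1) := by rw [Nat.mul_sub, mul_one, pow_two]
    rw [e1, e2] at h2
    have htlt : ∀ m, 0 < m → t ∣ m → m ≤ p + 1 → t ≤ p + 1 := fun m hm h h' => (Nat.le_of_dvd hm h).trans h'
    have htle : t ≤ p + 1 := by
      rcases h2 with h | h <;> rcases (Nat.Prime.dvd_mul ht).mp h with h | h
      · exact htlt _ (by omega) h le_rfl
      · exact htlt _ (by have := hp.two_le; omega) h (by omega)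
      · exact htlt _ hp.pos h (by omega)
      · exact htlt _ (by have := hp.two_le; omega) h (by omega)
    have hq3 : q = p + 1 := by omega
    rcases hp.eq_two_or_odd with h | h
    · exact ⟨h, by omega⟩
    · exfalso
      rcases hq.eq_two_or_odd with h' | h'
      · have := hp.two_le; omega
      · omega
  obtain ⟨rfl, rfl⟩ := hp2
  haveI : Fact r.Prime := ⟨hr⟩
  let R : Sylow r G := default
  have hRc : Nat.card (R : Subgroup G) = r := by
    rw [R.card_eq_multiplicity, hfac, hr.factorization_self, Nat.factorization_eq_zero_of_not_dvd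
      (fun h => hpr.symm ((Nat.prime_dvd_prime_iff_eq hr hp).mp h)), Nat.factorization_eq_zero_of_not_dvd
      (fun h => hqr.symm ((Nat.prime_dvd_prime_iff_eq hr hq).mp h)), pow_one]
  have hmod := card_sylow_modEq_one r G
  have hidx : Nat.card (Sylow r G) ∣ 12 := by
    have h1 : Nat.card (Sylow r G) ∣ (R : Subgroup G).index := R.card_dvd_index
    have h2 := (R : Subgroup G).card_mul_index
    rw [hRc, hG] at h2
    have h3 : (R : Subgroup G).index = 12 := Nat.eq_of_mul_eq_mul_left hr.pos (h2.trans (by ring))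
    rwa [h3] at h1
  have hne1 : Nat.card (Sylow r G) ≠ 1 := by
    intro h
    haveI := (Nat.card_eq_one_iff_unique.mp h).1
    haveI : (R : Subgroup G).Normal := Sylow.normal_of_subsingleton R
    rcases (inferInstance : (R : Subgroup G).Normal).eq_bot_or_eq_top with h | h
    · rw [h, Subgroup.card_bot] at hRc; exact hr.one_lt.ne hRc
    · rw [h, Subgroup.card_top] at hRc
      exact hnotsolv (CfsgLib.Char.solvable_of_card_two_primes r r 1 0 hr hr (by simpa using hRc))
  have hnpos : 0 < Nat.card (Sylow r G) := Nat.card_pos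
  have hle12 := Nat.le_of_dvd (by norm_num) hidx
  have hdd := (Nat.modEq_iff_dvd' hnpos).mp hmod.symm
  have hrle : r ≤ 11 := (Nat.le_of_dvd (by omega) hdd).trans (by omega)
  have h5 : 5 ≤ r := by
    by_contra h
    interval_cases r
    exact absurd hr (by norm_num)
  by_cases h11 : r = 11
  · exfalso
    subst h11
    have hn12 : Nat.card (Sylow 11 G) = 12 := by
      have h3 : 11 ≤ Nat.card (Sylow 11 G) - 1 := Nat.le_of_dvd (by omega) hdd
      omega
    have hallR : ∀ R' : Sylow 11 G, Nat.card (R' : Subgroup G) = 11 := fun R' => by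
      rw [R'.card_eq_multiplicity, ← R.card_eq_multiplicity, hRc]
    haveI : Fact (Nat.Prime 3) := ⟨Nat.prime_three⟩
    let Q : Sylow 3 G := default
    have hQc : Nat.card (Q : Subgroup G) = 3 := by
      rw [Q.card_eq_multiplicity, hfac, Nat.prime_three.factorization_self,
        Nat.factorization_eq_zero_of_not_dvd (by norm_num : ¬ 3 ∣ 2),
        Nat.factorization_eq_zero_of_not_dvd (by norm_num : ¬ 3 ∣ 11), pow_one]
    have hallQ : ∀ Q' : Sylow 3 G, Nat.card (Q' : Subgroup G) = 3 := fun Q' => by
      rw [Q'.card_eq_multiplicity, ← Q.card_eq_multiplicity, hQc]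
    have hG132 : Nat.card G = 132 := by rw [hG]; norm_num
    have hfact := CfsgLib.Perm.SylowPrime.card_dvd_factorial (p := 3) hnotcomm (by rw [hG132]; norm_num)
    rw [hG132] at hfact
    have hn3 : 4 < Nat.card (Sylow 3 G) := by
      by_contra hle
      have h1 : (Nat.card (Sylow 3 G)).factorial ≤ 24 := by
        calc _ ≤ Nat.factorial 4 := Nat.factorial_le (not_lt.mp hle)
          _ = 24 := rfl
      have := Nat.le_of_dvd (Nat.factorial_pos _) hfact
      omega
    have hn3' : Nat.card (Sylow 3 G) ∣ 44 :=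
      CfsgLib.Perm.SylowPrime.card_sylow_dvd Q (by rw [hQc, hG132])
    have hn3'' : 22 ≤ Nat.card (Sylow 3 G) := by
      have hm := card_sylow_modEq_one 3 G
      have hle44 := Nat.le_of_dvd (by norm_num) hn3'
      generalize Nat.card (Sylow 3 G) = n at *
      by_contra hlt
      interval_cases n <;> (revert hm hn3'; decide)
    have hA := CfsgLib.Perm.SylowPrime.card_orderOf_eq (p := 11) hallR
    have hB := CfsgLib.Perm.SylowPrime.card_orderOf_eq (p := 3) hallQ
    rw [hn12] at hA
    have hsum : Nat.card ({g : G // orderOf g = 11} ⊕ {g : G // orderOf g = 3}) ≤ Nat.card G :=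
      Nat.card_le_card_of_injective (Sum.elim Subtype.val Subtype.val) (by
        rintro (⟨a, ha⟩ | ⟨a, ha⟩) (⟨b, hb⟩ | ⟨b, hb⟩) hab <;> simp only [Sum.elim_inl, Sum.elim_inr] at hab <;>
          subst hab <;> first | rfl | omega)
    rw [Nat.card_sum, hA, hB, hG132] at hsum
    omega
  · have hr5 : r = 5 := by
      interval_cases Nat.card (Sylow r G) <;> (try omega) <;>
      · interval_cases r <;> norm_num at *
    rw [hG, hr5]
    norm_num

end Cfsg.Agent.S0988
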