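import Cfsg.Statements.S0992

import Mathlib
import Cfsg.Agent.Inv.CyclicSylow

set_option autoImplicit false
set_option linter.style.haveILetI false
open Cfsg

namespace Cfsg.Agent.S0992

/-- Let G be a non-abelian finite simple group of even order not divisible by 8, and T a Sylow 2-subgroup. Then T is a Klein four-group and the centralizer of T has index 3 in the normalizer of T. -/
theorem result {G : Type*} [Group G] [Finite G] [IsSimpleGroup G] (hG : ¬ IsMulCommutative G) (h2 : Even (Nat.card G)) (h8 : ¬ 8 ∣ Nat.card G) (T : Sylow 2 G) : IsKleinFour ↥(T : Subgroup G) ∧ (Subgroup.centralizer ((T : Subgroup G) : Set G)).relIndex (Subgroup.normalizer ((T : Subgroup G) : Set G)) = 3 := by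
  classical
  haveI : Fact (Nat.Prime 2) := ⟨Nat.prime_two⟩
  have hnotwo : ∀ H : Subgroup G, H.index ≠ 2 := by
    intro H hH
    haveI : H.Normal := Subgroup.normal_of_index_eq_two hH
    rcases (inferInstance : H.Normal).eq_bot_or_eq_top with h | h
    · rw [h, Subgroup.index_bot] at hH
      haveI : Fact (Nat.Prime 2) := ⟨Nat.prime_two⟩
      haveI := isCyclic_of_prime_card hH
      exact hG inferInstance
    · rw [h, Subgroup.index_top] at hH
      omega
  have hcard : Nat.card (T : Subgroup G) = 4 := by
    have h1 := T.card_eq_multiplicity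
    have h3 : (Nat.card G).factorization 2 ≤ 2 := by
      by_contra hlt
      apply h8
      exact (pow_dvd_pow 2 (show 3 ≤ (Nat.card G).factorization 2 by omega)).trans
        (Nat.ordProj_dvd _ _)
    have h4 : (Nat.card G).factorization 2 ≠ 1 := by
      intro h
      rw [h, pow_one] at h1
      haveI := isCyclic_of_prime_card h1
      obtain ⟨H, hH⟩ := CfsgLib.Inv.exists_index_two_of_cyclic_sylow h2 T inferInstance
      exact hnotwo H hH
    have h5 : 0 < (Nat.card G).factorization 2 :=
      Nat.Prime.factorization_pos_of_dvd Nat.prime_two Nat.card_pos.ne' h2.two_dvd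
    rw [show (Nat.card G).factorization 2 = 2 by omega] at h1
    rw [h1]; norm_num
  have hncyc : ¬ IsCyclic (T : Subgroup G) := fun h => by
    obtain ⟨H, hH⟩ := CfsgLib.Inv.exists_index_two_of_cyclic_sylow h2 T h
    exact hnotwo H hH
  haveI hK : IsKleinFour (T : Subgroup G) :=
    { card_four := hcard
      exponent_two := by
        haveI : Nontrivial (T : Subgroup G) :=
          Finite.one_lt_card_iff_nontrivial.mp (by rw [hcard]; norm_num)
        refine (Monoid.exponent_eq_prime_iff Nat.prime_two).mpr fun g hg => ?_
        have h1 : orderOf g ∣ 2 ^ 2 := (orderOf_dvd_natCard g).trans hcard.dvd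
        obtain ⟨i, hi, hio⟩ := (Nat.dvd_prime_pow Nat.prime_two).mp h1
        interval_cases i
        · exact absurd (orderOf_eq_one_iff.mp (by rw [hio]; norm_num)) hg
        · rw [hio]; norm_num
        · exact absurd (isCyclic_of_orderOf_eq_card g (by rw [hio, hcard]; norm_num)) hncyc }
  refine ⟨hK, ?_⟩
  set N := Subgroup.normalizer ((T : Subgroup G) : Set G) with hN
  set C := Subgroup.centralizer ((T : Subgroup G) : Set G) with hC
  have hidx : C.relIndex N = Nat.card (Subgroup.normalizerMonoidHom (T : Subgroup G)).range := by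
    rw [← Subgroup.index_ker, Subgroup.normalizerMonoidHom_ker]
    rfl
  have hTC : (T : Subgroup G) ≤ C := by
    intro x hx
    rw [hC, Subgroup.mem_centralizer_iff]
    intro y hy
    exact congrArg Subtype.val (mul_comm_of_exponent_two hK.exponent_two ⟨y, hy⟩ ⟨x, hx⟩)
  have hodd : ¬ 2 ∣ C.relIndex N := by
    intro h
    apply T.not_dvd_index
    exact (h.trans (Subgroup.relIndex_dvd_of_le_left N hTC)).trans
      (Subgroup.relIndex_dvd_index_of_le Subgroup.le_normalizer)
  have hdvd : C.relIndex N ∣ 6 := by
    rw [hidx]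
    refine (Subgroup.card_subgroup_dvd_card _).trans ?_
    have hinj : ∃ f : MulAut (T : Subgroup G) →* Equiv.Perm {x : (T : Subgroup G) // x ≠ 1},
        Function.Injective f := by
      refine ⟨{ toFun := fun φ => φ.toEquiv.subtypeEquiv (fun x => by simp)
                map_one' := rfl
                map_mul' := fun _ _ => rfl }, ?_⟩
      intro φ ψ h
      apply MulEquiv.ext
      intro x
      by_cases hx : x = 1
      · simp [hx]
      · exact congrArg Subtype.val (DFunLike.congr_fun h ⟨x, hx⟩)
    obtain ⟨f, hf⟩ := hinj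
    refine (Subgroup.card_dvd_of_injective f hf).trans ?_
    have h3 : Nat.card {x : (T : Subgroup G) // x ≠ 1} = 3 := by
      have h4 : ({(1 : (T : Subgroup G))}ᶜ : Set (T : Subgroup G)).ncard = 3 := by
        rw [Set.ncard_compl, Set.ncard_singleton, hcard]
      rw [← h4, ← Nat.card_coe_set_eq]
      rfl
    rw [Nat.card_perm, h3]
    rfl
  have hne1 : C.relIndex N ≠ 1 := by
    intro h
    have hle : N ≤ C := Subgroup.relIndex_eq_one.mp h
    have hcomp := MonoidHom.ker_transferSylow_isComplement' T hle
    have hidx4 : (MonoidHom.transferSylow T hle).ker.index = 4 := by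
      rw [hcomp.symm.index_eq_card, hcard]
    rcases (MonoidHom.normal_ker (MonoidHom.transferSylow T hle)).eq_bot_or_eq_top with h | h
    · rw [h, Subgroup.index_bot] at hidx4
      apply hG
      have h4 : (T : Subgroup G) = ⊤ := Subgroup.eq_top_of_card_eq _ (hcard.trans hidx4.symm)
      exact ⟨⟨fun a b => congrArg Subtype.val (mul_comm_of_exponent_two hK.exponent_two
        ⟨a, h4 ▸ Subgroup.mem_top a⟩ ⟨b, h4 ▸ Subgroup.mem_top b⟩)⟩⟩
    · rw [h, Subgroup.index_top] at hidx4
      omega
  have hle := Nat.le_of_dvd (by norm_num) hdvd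
  interval_cases C.relIndex N <;> omega

end Cfsg.Agent.S0992
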