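import Cfsg.Statements.S0994

import Mathlib
import Cfsg.Agent.Perm.SimpleOrder

set_option autoImplicit false
set_option linter.style.haveILetI false
open Cfsg

namespace Cfsg.Agent.S0994

/-- No finite simple group has order 1188 = 2^2 * 3^3 * 11. -/
theorem result {G : Type*} [Group G] [Finite G] [IsSimpleGroup G] : Nat.card G ≠ 1188 := by
  classical
  intro hG
  have hc : ¬ IsMulCommutative G := CfsgLib.Perm.SimpleOrder.not_comm (by rw [hG]; norm_num)
  haveI : Fact (Nat.Prime 11) := ⟨by norm_num⟩
  let P : Sylow 11 G := default
  have hP : Nat.card (P : Subgroup G) = 11 := by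
    rw [P.card_eq_multiplicity, hG, show (1188 : ℕ) = 11 * 108 by norm_num,
      Nat.factorization_mul (by norm_num) (by norm_num), Finsupp.add_apply,
      (by norm_num : Nat.Prime 11).factorization_self,
      Nat.factorization_eq_zero_of_not_dvd (by norm_num : ¬ 11 ∣ 108), pow_one]
  have hd := CfsgLib.Perm.SylowPrime.card_sylow_dvd P (m := 108) (by rw [hP, hG])
  have hmod := card_sylow_modEq_one 11 G
  have hf := CfsgLib.Perm.SylowPrime.card_dvd_factorial (p := 11) hc (by rw [hG]; norm_num)
  have hn : Nat.card (Sylow 11 G) = 12 := by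
    generalize Nat.card (Sylow 11 G) = n at *
    have hle := Nat.le_of_dvd (by norm_num) hd
    rw [hG] at hf
    unfold Nat.ModEq at hmod
    by_contra hne
    interval_cases n <;> simp_all (config := { decide := true })
  have h := CfsgLib.Perm.SimpleOrder.two_mul_normalizer_dvd hc (p := 11) (by norm_num)
    (by rw [hG]; norm_num) hn P
  have hN := (Subgroup.normalizer ((P : Subgroup G) : Set G)).card_mul_index
  have hi : (Subgroup.normalizer ((P : Subgroup G) : Set G)).index = 12 :=
    P.card_eq_index_normalizer.symm.trans hn
  rw [hi, hG] at hN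
  rw [show Nat.card (Subgroup.normalizer ((P : Subgroup G) : Set G)) = 99 by omega] at h
  norm_num at h

end Cfsg.Agent.S0994
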