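import Cfsg.Statements.S0995

import Mathlib
import Cfsg.Agent.Perm.ClassSize

set_option autoImplicit false
set_option linter.style.haveILetI false
open Cfsg

namespace Cfsg.Agent.S0995
open scoped Pointwise

/-- Let G be a finite perfect group containing an element z of prime order p whose centralizer is the cyclic group it generates. Let t be the number of conjugacy classes of elements of order p. Then t divides p - 1, the number of Sylow p-subgroups has the form 1 + n * p, and |G| * t = (p - 1) * p * (1 + n * p). -/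
theorem result {G : Type*} [Group G] [Finite G] (hperf : commutator G = ⊤) (p : ℕ) [Fact p.Prime] (z : G) (hz : orderOf z = p) (hC : Subgroup.centralizer ({z} : Set G) = Subgroup.zpowers z) : ∃ n t : ℕ, t = Nat.card {c : ConjClasses G // ∃ g : G, ConjClasses.mk g = c ∧ orderOf g = p} ∧ t ∣ p - 1 ∧ Nat.card (Sylow p G) = 1 + n * p ∧ Nat.card G * t = (p - 1) * p * (1 + n * p) := by
  classical
  have hp : p.Prime := Fact.out
  set Z := Subgroup.zpowers z with hZ
  have hZc : Nat.card Z = p := by rw [hZ, Nat.card_zpowers, hz]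
  obtain ⟨P, hP⟩ := (IsPGroup.of_card (n := 1) (by rw [hZc, pow_one]) : IsPGroup p Z).exists_le_sylow
  have hzP : z ∈ (P : Subgroup G) := hP (Subgroup.mem_zpowers z)
  have hmemC : ∀ u : G, u * z = z * u → u ∈ Z := by
    intro u hu
    rw [← hC]
    exact Subgroup.mem_centralizer_singleton_iff.mpr hu
  have hcentral : ∀ u ∈ (P : Subgroup G), u * z = z * u := by
    haveI : Nontrivial (P : Subgroup G) := by
      refine ⟨⟨⟨z, hzP⟩, 1, fun h => ?_⟩⟩
      have : z = 1 := congrArg Subtype.val h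
      rw [this, orderOf_one] at hz
      exact hp.one_lt.ne hz
    haveI := P.isPGroup'.center_nontrivial
    obtain ⟨c, hc⟩ := exists_ne (1 : Subgroup.center (P : Subgroup G))
    have hcc : ∀ u : (P : Subgroup G), u * (c : (P : Subgroup G)) = c * u :=
      Subgroup.mem_center_iff.mp c.2
    have hcz : ((c : (P : Subgroup G)) : G) ∈ Z :=
      hmemC _ (congrArg Subtype.val (hcc ⟨z, hzP⟩)).symm
    have hgen : Subgroup.zpowers ((c : (P : Subgroup G)) : G) = Z := by
      refine Subgroup.eq_of_le_of_card_ge (Subgroup.zpowers_le.mpr hcz) ?_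
      rw [hZc, Nat.card_zpowers]
      have h1 : orderOf ((c : (P : Subgroup G)) : G) ∣ p :=
        (Subgroup.orderOf_dvd_natCard _ hcz).trans hZc.dvd
      rcases (Nat.dvd_prime hp).mp h1 with h | h
      · exact absurd (Subtype.ext (Subtype.ext (orderOf_eq_one_iff.mp h))) hc
      · rw [h]
    intro u hu
    obtain ⟨i, hi⟩ := Subgroup.mem_zpowers_iff.mp (hgen.symm ▸ Subgroup.mem_zpowers z :
      z ∈ Subgroup.zpowers ((c : (P : Subgroup G)) : G))
    rw [← hi]
    exact ((show Commute u ((c : (P : Subgroup G)) : G) from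
      congrArg Subtype.val (hcc ⟨u, hu⟩)).zpow_right i).eq
  have hPZ : (P : Subgroup G) = Z := le_antisymm (fun u hu => hmemC u (hcentral u hu)) hP
  have hPc : Nat.card (P : Subgroup G) = p := by rw [hPZ, hZc]
  have hconj : ∀ g : G, orderOf g = p →
      (ConjClasses.mk g).carrier.ncard * p = Nat.card G := by
    intro g hg
    have hgc : Nat.card (Subgroup.zpowers g) = p := by rw [Nat.card_zpowers, hg]
    obtain ⟨R, hR⟩ := (IsPGroup.of_card (n := 1) (by rw [hgc, pow_one]) :
      IsPGroup p (Subgroup.zpowers g)).exists_le_sylow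
    obtain ⟨c, hc⟩ := MulAction.exists_smul_eq G P R
    have hgP : c⁻¹ * g * c ∈ (P : Subgroup G) := by
      have h1 : g ∈ ((c • P : Sylow p G) : Subgroup G) := hc ▸ hR (Subgroup.mem_zpowers g)
      rw [Sylow.coe_subgroup_smul, Subgroup.mem_pointwise_smul_iff_inv_smul_mem] at h1
      simpa using h1
    have hord : orderOf (c⁻¹ * g * c) = p := by
      have := MulEquiv.orderOf_eq (MulAut.conj c⁻¹) g
      rw [MulAut.conj_apply, inv_inv, hg] at this
      exact this
    rw [hPZ] at hgP
    have hgen : Subgroup.zpowers (c⁻¹ * g * c) = Z := Subgroup.eq_of_le_of_card_ge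
      (Subgroup.zpowers_le.mpr hgP) (by rw [hZc, Nat.card_zpowers, hord])
    have hcard : Nat.card (Subgroup.centralizer ({g} : Set G)) = p := by
      rw [← hZc]
      refine Nat.card_congr (((MulAut.conj c⁻¹).toEquiv).subtypeEquiv fun u => ?_)
      show u ∈ Subgroup.centralizer ({g} : Set G) ↔ c⁻¹ * u * c⁻¹⁻¹ ∈ Z
      rw [inv_inv, Subgroup.mem_centralizer_singleton_iff]
      constructor
      · intro hu
        apply hmemC
        obtain ⟨i, hi⟩ := Subgroup.mem_zpowers_iff.mp (hgen.symm ▸ Subgroup.mem_zpowers z :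
          z ∈ Subgroup.zpowers (c⁻¹ * g * c))
        rw [← hi]
        refine (Commute.zpow_right ?_ i).eq
        show c⁻¹ * u * c * (c⁻¹ * g * c) = c⁻¹ * g * c * (c⁻¹ * u * c)
        calc c⁻¹ * u * c * (c⁻¹ * g * c) = c⁻¹ * (u * g) * c := by group
          _ = c⁻¹ * (g * u) * c := by rw [hu]
          _ = _ := by group
      · intro hu
        obtain ⟨i, hi⟩ := Subgroup.mem_zpowers_iff.mp (hgen.symm ▸ hu :
          c⁻¹ * u * c ∈ Subgroup.zpowers (c⁻¹ * g * c))
        have h2 : (c⁻¹ * u * c) * (c⁻¹ * g * c) = (c⁻¹ * g * c) * (c⁻¹ * u * c) := by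
          rw [← hi]; exact ((Commute.refl _).zpow_left i).eq
        calc u * g = c * ((c⁻¹ * u * c) * (c⁻¹ * g * c)) * c⁻¹ := by group
          _ = c * ((c⁻¹ * g * c) * (c⁻¹ * u * c)) * c⁻¹ := by rw [h2]
          _ = g * u := by group
    have h3 := (Subgroup.centralizer ({g} : Set G)).card_mul_index
    rw [hcard, ← CfsgLib.Perm.ncard_carrier_eq_index g] at h3
    rw [mul_comm]; exact h3
  haveI : Fintype (ConjClasses G) := Fintype.ofFinite _
  haveI : Fintype (Sylow p G) := Fintype.ofFinite _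
  set Cl := {c : ConjClasses G // ∃ g : G, ConjClasses.mk g = c ∧ orderOf g = p}
  have hcount1 : Nat.card {g : G // orderOf g = p} * p = Nat.card Cl * Nat.card G := by
    have hord : ∀ x : (Σ c : Cl, c.1.carrier), orderOf (x.2.1 : G) = p := by
      rintro ⟨⟨c, g, rfl, ho⟩, y, hy⟩
      have h1 : ConjClasses.mk y = ConjClasses.mk g := ConjClasses.mem_carrier_iff_mk_eq.mp hy
      obtain ⟨d, hd⟩ := isConj_iff.mp (ConjClasses.mk_eq_mk_iff_isConj.mp h1).symm
      show orderOf y = p
      rw [← hd]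
      exact (MulEquiv.orderOf_eq (MulAut.conj d) g).trans ho
    rw [← Nat.card_eq_of_bijective (fun x : (Σ c : Cl, c.1.carrier) =>
        (⟨x.2.1, hord x⟩ : {g : G // orderOf g = p})) ⟨?_, ?_⟩]
    rotate_left
    · rintro ⟨⟨c, hc⟩, y, hy⟩ ⟨⟨c', hc'⟩, y', hy'⟩ h
      have h0 : y = y' := congrArg Subtype.val h
      subst h0
      obtain rfl : c = c' := (ConjClasses.mem_carrier_iff_mk_eq.mp hy).symm.trans
        (ConjClasses.mem_carrier_iff_mk_eq.mp hy')
      rfl
    · rintro ⟨g, hg⟩
      exact ⟨⟨⟨ConjClasses.mk g, g, rfl, hg⟩, g, ConjClasses.mem_carrier_mk⟩, rfl⟩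
    rw [Nat.card_sigma, Finset.sum_mul]
    have hcl : ∀ c : Cl, Nat.card c.1.carrier * p = Nat.card G := by
      intro c
      obtain ⟨g, hg, ho⟩ := c.2
      rw [Nat.card_coe_set_eq, ← hg]
      exact hconj g ho
    rw [Finset.sum_congr rfl fun c _ => hcl c,
      Finset.sum_const, Finset.card_univ, smul_eq_mul, Nat.card_eq_fintype_card (α := Cl)]
  have hcount2 : Nat.card {g : G // orderOf g = p} = Nat.card (Sylow p G) * (p - 1) := by
    have hRc : ∀ R : Sylow p G, Nat.card (R : Subgroup G) = p := fun R => by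
      rw [R.card_eq_multiplicity, ← P.card_eq_multiplicity, hPc]
    have hex : ∀ g : {g : G // orderOf g = p}, ∃ R : Sylow p G, g.1 ∈ (R : Subgroup G) := by
      intro g
      obtain ⟨R, hR⟩ := (IsPGroup.of_card (n := 1) (by rw [Nat.card_zpowers, g.2, pow_one]) :
        IsPGroup p (Subgroup.zpowers g.1)).exists_le_sylow
      exact ⟨R, hR (Subgroup.mem_zpowers _)⟩
    choose S hS using hex
    have hne : ∀ g : {g : G // orderOf g = p}, g.1 ≠ 1 := fun g h => by
      have := g.2; rw [h, orderOf_one] at this; exact hp.one_lt.ne this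
    have hord : ∀ (R : Sylow p G) (u : {u : (R : Subgroup G) // u ≠ 1}), orderOf ((u.1 : G)) = p := by
      intro R u
      have h1 : orderOf (u.1 : G) ∣ p := (Subgroup.orderOf_dvd_natCard _ u.1.2).trans (hRc R).dvd
      rcases (Nat.dvd_prime hp).mp h1 with h | h
      · exact absurd (Subtype.ext (orderOf_eq_one_iff.mp h)) u.2
      · exact h
    have hgen : ∀ (R : Sylow p G) (g : G), g ∈ (R : Subgroup G) → orderOf g = p →
        Subgroup.zpowers g = R := fun R g hg ho => Subgroup.eq_of_le_of_card_ge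
      (Subgroup.zpowers_le.mpr hg) (by rw [hRc, Nat.card_zpowers, ho])
    rw [← Nat.card_eq_of_bijective (fun x : (Σ R : Sylow p G, {u : (R : Subgroup G) // u ≠ 1}) =>
        (⟨x.2.1.1, hord x.1 x.2⟩ : {g : G // orderOf g = p})) ⟨?_, ?_⟩]
    rotate_left
    · rintro ⟨R, ⟨u, hu⟩, hu1⟩ ⟨R', ⟨u', hu'⟩, hu1'⟩ h
      have h0 : u = u' := congrArg Subtype.val h
      subst h0
      obtain rfl : R = R' := Sylow.ext ((hgen R u hu (hord R ⟨⟨u, hu⟩, hu1⟩)).symm.trans
        (hgen R' u hu' (hord R ⟨⟨u, hu⟩, hu1⟩)))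
      rfl
    · intro g
      exact ⟨⟨S g, ⟨g.1, hS g⟩, fun h => hne g (congrArg Subtype.val h)⟩, rfl⟩
    rw [Nat.card_sigma]
    have h4 : ∀ R : Sylow p G, Nat.card {u : (R : Subgroup G) // u ≠ 1} = p - 1 := by
      intro R
      have h5 : ({(1 : (R : Subgroup G))}ᶜ : Set (R : Subgroup G)).ncard = p - 1 := by
        rw [Set.ncard_compl, Set.ncard_singleton, hRc]
      rw [← h5, ← Nat.card_coe_set_eq]
      rfl
    rw [Finset.sum_congr rfl fun R _ => h4 R, Finset.sum_const, Finset.card_univ, smul_eq_mul,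
      Nat.card_eq_fintype_card]
  rw [hcount2] at hcount1
  have hmod := card_sylow_modEq_one p G
  have hpos : 1 ≤ Nat.card (Sylow p G) := Nat.card_pos
  obtain ⟨n, hn⟩ := (Nat.modEq_iff_dvd' hpos).mp hmod.symm
  refine ⟨n, Nat.card Cl, rfl, ?_, by rw [mul_comm] at hn; omega, ?_⟩
  · have h6 : Nat.card (Sylow p G) = (Subgroup.normalizer ((P : Subgroup G) : Set G)).index := P.card_eq_index_normalizer
    have h7 := (Subgroup.normalizer ((P : Subgroup G) : Set G)).card_mul_index
    have h8 : p ∣ Nat.card (Subgroup.normalizer ((P : Subgroup G) : Set G)) :=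
      hPc.symm.dvd.trans (Subgroup.card_dvd_of_le Subgroup.le_normalizer)
    obtain ⟨e', he'⟩ := h8
    rw [← h6, he'] at h7
    rw [← h7] at hcount1
    refine ⟨e', Nat.eq_of_mul_eq_mul_left (Nat.mul_pos hp.pos (Nat.card_pos (α := Sylow p G))) ?_⟩
    calc p * Nat.card (Sylow p G) * (p - 1) = Nat.card (Sylow p G) * (p - 1) * p := by ring
      _ = Nat.card Cl * (p * e' * Nat.card (Sylow p G)) := hcount1
      _ = p * Nat.card (Sylow p G) * (Nat.card Cl * e') := by ring
  · have h9 : Nat.card (Sylow p G) = 1 + n * p := by rw [mul_comm] at hn; omega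
    calc Nat.card G * Nat.card Cl = Nat.card Cl * Nat.card G := mul_comm _ _
      _ = Nat.card (Sylow p G) * (p - 1) * p := hcount1.symm
      _ = _ := by rw [h9]; ring

end Cfsg.Agent.S0995
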