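import Cfsg.Statements.S1001
import Cfsg.Agent.S0904
import Cfsg.Agent.S0144
-- import your own Cfsg.Agent.* helpers here

set_option autoImplicit false
open Cfsg

namespace Cfsg.Agent.S1001

/-- In a finite simple group whose order has the form p * 3^a * 2^b with p prime, the centralizer of any element of order p is the cyclic group it generates. -/
theorem result {G : Type*} [Group G] [Finite G] [IsSimpleGroup G] (p a b : ℕ) (hp : p.Prime) (hG : Nat.card G = p * 3 ^ a * 2 ^ b) (x : G) (hx : orderOf x = p) : Subgroup.centralizer ({x} : Set G) = Subgroup.zpowers x := by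
  haveI := Fact.mk hp
  by_cases h : p = 2 ∨ p = 3
  · have hsol : Group.IsSolvable G := by
      rcases h with rfl | rfl
      · exact Cfsg.Agent.S0144.result 2 3 (b + 1) a Nat.prime_two Nat.prime_three (by rw [hG]; ring)
      · exact Cfsg.Agent.S0144.result 2 3 b (a + 1) Nat.prime_two Nat.prime_three (by rw [hG]; ring)
    haveI := hsol
    have hcomm : ∀ u v : G, u * v = v * u := IsSimpleGroup.comm_iff_isSolvable.2 hsol
    haveI : IsMulCommutative G := ⟨⟨hcomm⟩⟩
    have hpr : (Nat.card G).Prime := Group.is_simple_iff_prime_card.mp inferInstance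
    have htop : Subgroup.zpowers x = ⊤ := by
      apply Subgroup.eq_top_of_card_eq
      rw [Nat.card_zpowers, hx]
      exact (Nat.prime_dvd_prime_iff_eq hp hpr).1 (hx ▸ orderOf_dvd_natCard x)
    rw [htop]
    exact eq_top_iff.2 fun g _ => Subgroup.mem_centralizer_singleton_iff.2 (hcomm g x)
  push Not at h
  obtain ⟨S, hS⟩ := (IsPGroup.of_card (n := 1) (show Nat.card (Subgroup.zpowers x) = p ^ 1 by
    rw [Nat.card_zpowers, hx, pow_one])).exists_le_sylow
  have hcS := Cfsg.Agent.S0904.result 2 3 p b a Nat.prime_two Nat.prime_three (by norm_num)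
    (Ne.symm h.1) (Ne.symm h.2) (by rw [hG]; ring) S
  have hSc : Nat.card (S : Subgroup G) = p := by
    rw [S.card_eq_multiplicity, hG, show p * 3 ^ a * 2 ^ b = (3 ^ a * 2 ^ b) * p by ring,
      Nat.factorization_mul (by positivity) hp.ne_zero, Finsupp.add_apply, hp.factorization_self,
      Nat.factorization_eq_zero_of_not_dvd, zero_add, pow_one]
    intro hd
    rcases hp.dvd_mul.1 hd with hd | hd
    · exact h.2 ((Nat.prime_dvd_prime_iff_eq hp Nat.prime_three).1 (hp.dvd_of_dvd_pow hd))
    · exact h.1 ((Nat.prime_dvd_prime_iff_eq hp Nat.prime_two).1 (hp.dvd_of_dvd_pow hd))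
  have hSx : (S : Subgroup G) = Subgroup.zpowers x :=
    (Subgroup.eq_of_le_of_card_ge hS (by rw [hSc, Nat.card_zpowers, hx])).symm
  rw [hSx] at hcS
  rw [← hcS, ← Subgroup.centralizer_closure {x}, ← Subgroup.zpowers_eq_closure]
  exact congrArg _ (congrArg _ hSx.symm)

end Cfsg.Agent.S1001
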