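import Cfsg.Statements.S1002
import Cfsg.Agent.Perm.SimpleOrderR
import Mathlib
-- import your own Cfsg.Agent.* helpers here

set_option autoImplicit false
open Cfsg

namespace Cfsg.Agent.S1002

open CfsgLib.Perm.SimpleOrderR CfsgLib.Char

theorem sum_sq_le {G : Type*} [Group G] [Finite G] (X : Finset (IrrCharacter G)) :
    ∑ η ∈ X, charDegree (η : G → ℂ) ^ 2 ≤ Nat.card G := by
  classical
  haveI := Fintype.ofFinite G
  have h := sum_degree_sq (G := G)
  rw [Finset.sum_congr rfl (g := fun η : IrrCharacter G => ((charDegree (η : G → ℂ) ^ 2 : ℕ) : ℂ))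
    fun η _ => by rw [irr_one_eq η.2, Nat.cast_pow], ← Nat.cast_sum, Nat.cast_inj] at h
  rw [← h]
  exact Finset.sum_le_sum_of_subset (Finset.subset_univ _)

end Cfsg.Agent.S1002

namespace Cfsg.Agent.S1002

/-- No finite simple group has order 1004913 = 3^3 * 7 * 13 * 409. -/
theorem result {G : Type*} [Group G] [Finite G] [IsSimpleGroup G] : Nat.card G ≠ 1004913 := by
  classical
  intro hG
  haveI : Fact (Nat.Prime 409) := ⟨by norm_num⟩
  obtain ⟨S⟩ : Nonempty (Sylow 409 G) := inferInstance
  have hnp : ¬ (Nat.card G).Prime := by rw [hG]; norm_num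
  have hS : Nat.card (S : Subgroup G) = 409 := by
    rw [S.card_eq_multiplicity, hG, show (1004913 : ℕ) = 409 * 2457 by norm_num,
      Nat.factorization_mul (by norm_num) (by norm_num), Finsupp.add_apply,
      Nat.Prime.factorization_self (by norm_num), Nat.factorization_eq_zero_of_not_dvd (by norm_num : ¬ 409 ∣ 2457)]
    norm_num
  set N := Subgroup.normalizer ((S : Subgroup G) : Set G) with hN
  have hnS : Nat.card (Sylow 409 G) = N.index := S.card_eq_index_normalizer
  have hmod := card_sylow_modEq_one 409 G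
  rw [Nat.ModEq, hnS, Nat.one_mod_eq_one.2 (by norm_num)] at hmod
  set C := Subgroup.centralizer ((S : Subgroup G) : Set G) with hC
  haveI : IsCyclic (S : Subgroup G) := isCyclic_of_prime_card hS
  have hSC : (S : Subgroup G) ≤ C := Subgroup.le_centralizer (H := (S : Subgroup G))
  have hCN : C ≤ N := Subgroup.centralizer_le_normalizer _
  have hne : ¬ N ≤ C := by
    intro hle
    have hcomp := MonoidHom.ker_transferSylow_isComplement' (P := S) hle
    rcases (MonoidHom.normal_ker (MonoidHom.transferSylow S hle)).eq_bot_or_eq_top with hb | ht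
    · have := hcomp.card_mul
      rw [hb, Subgroup.card_bot, one_mul, hS, hG] at this
      omega
    · have := hcomp.disjoint
      rw [ht, top_disjoint] at this
      have h2 := congrArg (fun K : Subgroup G => Nat.card K) this
      simp only [hS, Subgroup.card_bot] at h2
      omega
  have h1 := Subgroup.relIndex_mul_index (hSC.trans hCN)
  have h2 := Subgroup.card_mul_index (S : Subgroup G)
  rw [hS, hG, ← h1] at h2
  have hidx : N.index ∣ 2457 := ⟨(S : Subgroup G).relIndex N, by
    apply Nat.eq_of_mul_eq_mul_left (show 0 < 409 by norm_num)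
    rw [mul_comm N.index, h2]⟩
  have hNi : N.index = 819 := by
    have hne1 : N.index ≠ 1 := by
      intro h0
      haveI : (S : Subgroup G).Normal := Subgroup.normalizer_eq_top_iff.1 (Subgroup.index_eq_one.1 h0)
      rcases (inferInstance : (S : Subgroup G).Normal).eq_bot_or_eq_top with h | h
      · rw [h, Subgroup.card_bot] at hS; omega
      · rw [h, Subgroup.card_top, hG] at hS; omega
    obtain ⟨l, hl⟩ : ∃ l, N.index = 409 * l + 1 := ⟨N.index / 409, by omega⟩
    have := Nat.le_of_dvd (by norm_num) hidx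
    have : l ≤ 6 := by omega
    interval_cases l <;> first | omega | (rw [hl] at hidx; norm_num at hidx)
  rw [hNi] at h2
  have hrel : (S : Subgroup G).relIndex N = 3 := by omega
  have h3 := Subgroup.relIndex_mul_relIndex _ _ _ hSC hCN
  rw [hrel] at h3
  have hCN1 : C.relIndex N ≠ 1 := fun h => hne (Subgroup.relIndex_eq_one.1 h)
  have hCe : C.relIndex N = 3 :=
    ((Nat.dvd_prime (by norm_num)).1 (Dvd.intro_left _ h3)).resolve_left hCN1
  have hCS : C = (S : Subgroup G) := by
    rw [hCe] at h3
    exact le_antisymm (Subgroup.relIndex_eq_one.1 (by omega)) hSC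
  obtain ⟨D⟩ := CfsgLib.Perm.SimpleOrderR.exists_exc (S := S) ⟨hS, hCS, hnp⟩ hCe (by norm_num)
  haveI := Fintype.ofFinite G
  have ht : D.t = 136 := by have := D.card_eq; omega
  have hnorm := D.norm
  rw [ht] at hnorm
  push_cast at hnorm
  have hS0 : 0 ≤ ∑ χ ∈ D.X, D.a χ ^ 2 := Finset.sum_nonneg fun _ _ => sq_nonneg _
  have hd : D.d = 0 := by
    rcases D.sign with e | e <;> rw [e] at hnorm <;>
      (by_contra hd
       rcases lt_or_gt_of_ne hd with h | h <;> nlinarith)
  rw [hd] at hnorm
  have hsum : ∑ χ ∈ D.X, D.a χ ^ 2 = 2 := by linarith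
  have hdeg : ∀ χ ∈ D.X, Cfsg.charDegree (χ : G → ℂ) = 819 := by
    intro χ hχ
    have h1 := CfsgLib.Perm.SimpleOrderR.deg_ne_one hnp (D.one_notMem χ hχ)
    have h2 := CfsgLib.Perm.SimpleOrderR.deg_sq_lt (D.one_notMem χ hχ)
    have h3 := CfsgLib.Char.degree_dvd_card χ.2
    rw [hG] at h2 h3
    obtain ⟨l, hl⟩ := D.congr χ hχ
    have ha : D.a χ ^ 2 ≤ 2 :=
      (Finset.single_le_sum (f := fun η => D.a η ^ 2) (fun _ _ => sq_nonneg _) hχ).trans hsum.le
    have ha1 : D.a χ = 1 ∨ D.a χ = -1 := by
      have := D.a_ne χ hχ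
      have hu : D.a χ ≤ 1 := by nlinarith
      have hl : -1 ≤ D.a χ := by nlinarith
      omega
    generalize Cfsg.charDegree (χ : G → ℂ) = c at h1 h2 h3 hl
    have hlt : c < 1003 := by nlinarith
    have hl2 : 0 ≤ l ∧ l ≤ 2 := by rcases ha1 with e | e <;> rw [e] at hl <;> omega
    obtain ⟨hl0, hl2⟩ := hl2
    rcases ha1 with e | e <;> rw [e] at hl <;> interval_cases l <;>
      (first | omega | (exfalso; norm_num at hl; have hc : c = 408 ∨ c = 410 ∨ c = 817 ∨ c = 818 := by omega
                        rcases hc with rfl | rfl | rfl | rfl <;> norm_num at h3))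
  have hsq : ∀ χ ∈ D.X, D.a χ ^ 2 = 1 := by
    intro χ hχ
    have ha : D.a χ ^ 2 ≤ 2 :=
      (Finset.single_le_sum (f := fun η => D.a η ^ 2) (fun _ _ => sq_nonneg _) hχ).trans hsum.le
    have := D.a_ne χ hχ
    have hu : D.a χ ≤ 1 := by nlinarith
    have hl : -1 ≤ D.a χ := by nlinarith
    exact sq_eq_one_iff.2 (by omega)
  rw [Finset.sum_congr rfl hsq, Finset.sum_const, nsmul_eq_mul, mul_one] at hsum
  have hcard : D.X.card = 2 := by exact_mod_cast hsum
  have hle := Cfsg.Agent.S1002.sum_sq_le D.X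
  rw [Finset.sum_congr rfl (g := fun _ => 670761) fun η hη => by rw [hdeg η hη]; norm_num,
    Finset.sum_const, hcard, hG, smul_eq_mul] at hle
  omega

end Cfsg.Agent.S1002
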