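import Cfsg.Statements.S1005

import Cfsg.Agent.Perm.Order168Sub

set_option autoImplicit false
set_option linter.style.haveILetI false
open Cfsg

namespace Cfsg.Agent.S1005
open CfsgLib.Perm CfsgLib.Perm.Order168

/-- In a simple group of order 168 every element has order 1, 2, 3, 4 or 7; there are exactly 21 elements of order 2, and any two of them are conjugate. -/
theorem result {G : Type*} [Group G] [Finite G] [IsSimpleGroup G] (h : Nat.card G = 168) : (∀ g : G, orderOf g = 1 ∨ orderOf g = 2 ∨ orderOf g = 3 ∨ orderOf g = 4 ∨ orderOf g = 7) ∧ Nat.card {g : G // orderOf g = 2} = 21 ∧ ∀ s t : G, orderOf s = 2 → orderOf t = 2 → IsConj s t := by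
  haveI : Fact (Nat.Prime 2) := ⟨Nat.prime_two⟩
  obtain ⟨hconj, hcen⟩ := invol_conj h
  refine ⟨orders h, ?_, hconj⟩
  obtain ⟨x, hx⟩ := exists_prime_orderOf_dvd_card' (G := G) 2 (by rw [h]; norm_num)
  obtain ⟨T, -, hC⟩ := hcen x hx
  have h1 := card_conj_class x
  rw [hC, card_sylow_two h, h] at h1
  have e : Nat.card {g : G // orderOf g = 2} = Nat.card {g : G // IsConj x g} :=
    Nat.card_congr (Equiv.subtypeEquivRight fun g => ⟨hconj x g hx, fun hg => by
      obtain ⟨k, hk⟩ := isConj_iff.1 hg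
      rw [← hk, ← MulAut.conj_apply, MulEquiv.orderOf_eq, hx]⟩)
  rw [e]; omega

end Cfsg.Agent.S1005
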