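import Cfsg.Statements.S1006

import Cfsg.Agent.Perm.Order168Sub

set_option autoImplicit false
set_option linter.style.haveILetI false
open Cfsg

namespace Cfsg.Agent.S1006
open CfsgLib.Perm CfsgLib.Perm.Order168

/-- In a simple group of order 168 there are 56 elements of order 3, all conjugate; 42 elements of order 4, all conjugate; and 48 elements of order 7 falling into two conjugacy classes of size 24, an element of order 7 not being conjugate to its inverse. -/
theorem result {G : Type*} [Group G] [Finite G] [IsSimpleGroup G] (h : Nat.card G = 168) : Nat.card {g : G // orderOf g = 3} = 56 ∧ (∀ s t : G, orderOf s = 3 → orderOf t = 3 → IsConj s t) ∧ Nat.card {g : G // orderOf g = 4} = 42 ∧ (∀ s t : G, orderOf s = 4 → orderOf t = 4 → IsConj s t) ∧ Nat.card {g : G // orderOf g = 7} = 48 ∧ ∀ x : G, orderOf x = 7 → Nat.card {g : G // IsConj x g} = 24 ∧ ¬ IsConj x x⁻¹ := by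
  classical
  haveI : Fact (Nat.Prime 2) := ⟨Nat.prime_two⟩
  haveI : Fact (Nat.Prime 3) := ⟨Nat.prime_three⟩
  haveI : Fact (Nat.Prime 7) := ⟨Nat.prime_seven⟩
  obtain ⟨hconj, hcen⟩ := invol_conj h
  have conj3 : ∀ s t : G, orderOf s = 3 → orderOf t = 3 → IsConj s t := by
    intro s t hs ht
    obtain ⟨P, hP⟩ := (IsPGroup.of_card (n := 1) (by rw [Nat.card_zpowers, hs, pow_one]) :
      IsPGroup 3 (Subgroup.zpowers s)).exists_le_sylow
    obtain ⟨Q, hQ⟩ := (IsPGroup.of_card (n := 1) (by rw [Nat.card_zpowers, ht, pow_one]) :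
      IsPGroup 3 (Subgroup.zpowers t)).exists_le_sylow
    obtain ⟨g, hg⟩ := MulAction.exists_smul_eq G P Q
    have hQe := Subgroup.eq_of_le_of_card_ge hQ (by rw [Nat.card_zpowers, ht, card_sylow_three h])
    have h1 : g * s * g⁻¹ ∈ Subgroup.zpowers t := by
      rw [hQe, ← hg, SylowNumber.smul_coe]
      exact ⟨s, hP (Subgroup.mem_zpowers s), rfl⟩
    have h2 : orderOf (g * s * g⁻¹) = 3 := by rw [← MulAut.conj_apply, MulEquiv.orderOf_eq, hs]
    rw [mem_zpowers_iff_mem_range_orderOf, ht, Finset.mem_image] at h1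
    obtain ⟨k, hk, hke⟩ := h1
    rw [Finset.mem_range] at hk
    have hst : IsConj s (t ^ k) := isConj_iff.2 ⟨g, hke.symm⟩
    interval_cases k
    · rw [← hke, pow_zero, orderOf_one] at h2; omega
    · rwa [pow_one] at hst
    · obtain ⟨-, u, hu⟩ := cen_three h ht
      refine hst.trans (IsConj.symm (isConj_iff.2 ⟨u, ?_⟩))
      rw [hu]
      refine inv_eq_of_mul_eq_one_right ?_
      rw [← pow_succ']
      rw [show (2 + 1 : ℕ) = orderOf t from ht.symm]; exact pow_orderOf_eq_one t
  have fib : ∀ z : G, orderOf z = 2 → Nat.card {x : G // x * x = z} = 2 := by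
    intro z hz
    obtain ⟨T, hzT, hC⟩ := hcen z hz
    obtain ⟨e⟩ := sylow_two_iso h T
    have hz1 : z ≠ 1 := fun e1 => by rw [e1, orderOf_one] at hz; omega
    have he : e ⟨z, hzT⟩ = DihedralGroup.r 2 :=
      central_coord e (fun e1 => hz1 (congrArg Subtype.val e1)) fun t => Subtype.ext (by
        have h5 : (t : G) ∈ Subgroup.centralizer ({z} : Set G) := hC.ge t.2
        exact Subgroup.mem_centralizer_singleton_iff.1 h5)
    have hmem : ∀ x : G, x * x = z → x ∈ (T : Subgroup G) := fun x hx => by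
      rw [← hC, Subgroup.mem_centralizer_singleton_iff, ← hx, mul_assoc]
    have hd : Nat.card {x : DihedralGroup 4 // x * x = DihedralGroup.r 2} = 2 := by
      rw [Nat.card_eq_fintype_card]; decide
    rw [← hd]
    refine Nat.card_eq_of_bijective (fun x => ⟨e ⟨x.1, hmem x.1 x.2⟩, by
      rw [← map_mul, ← he]; exact congrArg e (Subtype.ext x.2)⟩) ⟨fun x y hxy => ?_, fun y => ?_⟩
    · exact Subtype.ext (Subtype.mk.inj (e.injective (Subtype.mk.inj hxy)))
    · refine ⟨⟨((e.symm y.1 : (T : Subgroup G)) : G), ?_⟩, Subtype.ext (e.apply_symm_apply y.1)⟩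
      have h1 : e (e.symm y.1 * e.symm y.1) = e ⟨z, hzT⟩ := by rw [map_mul, e.apply_symm_apply, y.2, he]
      exact congrArg Subtype.val (e.injective h1)
  have ord4 : ∀ x : G, orderOf x = 4 ↔ orderOf (x * x) = 2 := fun x => by
    constructor
    · intro hx
      rw [← pow_two, orderOf_pow, hx]; rfl
    · intro hx
      rcases orders h x with e | e | e | e | e
      all_goals first
        | exact e
        | (rw [← pow_two, orderOf_pow, e] at hx; norm_num at hx)
  have conj4 : ∀ s t : G, orderOf s = 4 → orderOf t = 4 → IsConj s t := by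
    intro s t hs ht
    obtain ⟨g, hg⟩ := isConj_iff.1 (hconj _ _ ((ord4 s).1 hs) ((ord4 t).1 ht))
    obtain ⟨T, -, hC⟩ := hcen _ ((ord4 t).1 ht)
    set s' := g * s * g⁻¹ with hs'
    have hsq : s' * s' = t * t := by rw [← hg, hs']; group
    have hm : ∀ x : G, x * x = t * t → x ∈ (T : Subgroup G) := fun x hx => by
      rw [← hC, Subgroup.mem_centralizer_singleton_iff, ← hx, mul_assoc]
    obtain ⟨e⟩ := sylow_two_iso h T
    have hne : t * t ≠ 1 := fun e1 => by
      have := (ord4 t).1 ht
      rw [e1, orderOf_one] at this; omega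
    have hne' : ∀ (x : G) (hx : x * x = t * t), e ⟨x, hm x hx⟩ * e ⟨x, hm x hx⟩ ≠ 1 := fun x hx e1 => hne (by
      rw [← map_mul, e.map_eq_one_iff] at e1
      rw [← hx]; exact congrArg Subtype.val e1)
    obtain ⟨d, hd⟩ := d4_four_conj _ _ (hne' s' hsq) (hne' t rfl)
    obtain ⟨d, rfl⟩ := e.surjective d
    rw [← map_inv, ← map_mul, ← map_mul] at hd
    have h1 : (d : G) * s' * (d : G)⁻¹ = t := congrArg Subtype.val (e.injective hd)
    exact (isConj_iff.2 ⟨g, rfl⟩).trans (isConj_iff.2 ⟨(d : G), h1⟩)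
  have c42 : Nat.card {g : G // orderOf g = 4} = 42 := by
    obtain ⟨x, hx⟩ := exists_prime_orderOf_dvd_card' (G := G) 2 (by rw [h]; norm_num)
    obtain ⟨T, -, hC⟩ := hcen x hx
    have h1 := card_conj_class x
    rw [hC, card_sylow_two h, h] at h1
    have e21 : Nat.card {g : G // orderOf g = 2} = Nat.card {g : G // IsConj x g} :=
      Nat.card_congr (Equiv.subtypeEquivRight fun g => ⟨hconj x g hx, fun hg => by
        obtain ⟨k, hk⟩ := isConj_iff.1 hg
        rw [← hk, ← MulAut.conj_apply, MulEquiv.orderOf_eq, hx]⟩)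
    let φ : {g : G // orderOf g = 4} ≃ Σ z : {g : G // orderOf g = 2}, {y : G // y * y = z.1} :=
      { toFun := fun g => ⟨⟨g.1 * g.1, (ord4 g.1).1 g.2⟩, ⟨g.1, rfl⟩⟩
        invFun := fun w => ⟨w.2.1, (ord4 _).2 (by rw [w.2.2]; exact w.1.2)⟩
        left_inv := fun g => rfl
        right_inv := by
          rintro ⟨⟨z, hz⟩, ⟨y, hy⟩⟩
          obtain rfl : y * y = z := hy
          rfl }
    haveI : Fintype {g : G // orderOf g = 2} := Fintype.ofFinite _
    rw [Nat.card_congr φ, Nat.card_sigma, Finset.sum_congr rfl fun z _ => fib z.1 z.2, Finset.sum_const,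
      Finset.card_univ, ← Nat.card_eq_fintype_card, e21]
    rw [smul_eq_mul]; omega
  refine ⟨?_, conj3, c42, conj4, ?_, fun x hx => ⟨?_, fun hc => ?_⟩⟩
  · rw [SylowPrime.card_orderOf_eq (card_sylow_three h), card_three h]
  · rw [SylowPrime.card_orderOf_eq (card_sylow_seven h), card_seven h]
  · have h1 := card_conj_class x
    rw [cen_seven h hx, Nat.card_zpowers, hx, h] at h1
    omega
  · obtain ⟨g, hg⟩ := isConj_iff.1 hc
    have h2 : g * g ∈ Subgroup.centralizer ({x} : Set G) := by
      rw [Subgroup.mem_centralizer_singleton_iff]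
      have hg' : g * x⁻¹ * g⁻¹ = x := by rw [← conj_inv, hg, inv_inv]
      calc g * g * x = g * (g * x * g⁻¹) * g⁻¹ * (g * g) := by group
        _ = g * x⁻¹ * g⁻¹ * (g * g) := by rw [hg]
        _ = x * (g * g) := by rw [hg']
    rw [cen_seven h hx] at h2
    have h3 := Subgroup.orderOf_dvd_natCard _ h2
    rw [Nat.card_zpowers, hx] at h3
    rcases orders h g with e | e | e | e | e
    · rw [orderOf_eq_one_iff.1 e, one_mul, inv_one, mul_one] at hg
      have h4 : x * x = 1 := by nth_rw 2 [hg]; exact mul_inv_cancel x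
      have := orderOf_dvd_of_pow_eq_one (show x ^ 2 = 1 by rw [pow_two]; exact h4)
      rw [hx] at this; norm_num at this
    · have hgg : g ^ 2 = 1 := e ▸ pow_orderOf_eq_one g
      obtain ⟨P, hP⟩ := (IsPGroup.of_card (n := 1) (by rw [Nat.card_zpowers, hx, pow_one]) :
        IsPGroup 7 (Subgroup.zpowers x)).exists_le_sylow
      have hPe := Subgroup.eq_of_le_of_card_ge hP (by rw [Nat.card_zpowers, hx, card_sylow_seven h])
      have hgN : g ∈ Subgroup.normalizer ((P : Subgroup G) : Set G) := by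
        rw [← hPe, Subgroup.mem_normalizer_iff_map_conj_eq, MonoidHom.map_zpowers]
        show Subgroup.zpowers (g * x * g⁻¹) = _
        rw [hg, Subgroup.zpowers_inv]
      have := Subgroup.orderOf_dvd_natCard _ hgN
      rw [card_normalizer_seven h, e] at this
      norm_num at this
    · rw [show orderOf (g * g) = 3 by rw [← pow_two, orderOf_pow, e]; rfl] at h3
      norm_num at h3
    · rw [show orderOf (g * g) = 2 by rw [← pow_two, orderOf_pow, e]; rfl] at h3
      norm_num at h3
    · have h4 : g ∈ Subgroup.centralizer ({x} : Set G) := by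
        rw [cen_seven h hx]
        have h5 : (g * g) ^ 4 = g := by
          rw [← pow_two, ← pow_mul, show 2 * 4 = orderOf g + 1 by rw [e], pow_succ, pow_orderOf_eq_one, one_mul]
        rw [← h5]
        exact Subgroup.pow_mem _ h2 4
      have h6 : g * x * g⁻¹ = x := mul_inv_eq_iff_eq_mul.2 (Subgroup.mem_centralizer_singleton_iff.1 h4)
      have h7 : x * x = 1 := by nth_rw 2 [h6.symm.trans hg]; exact mul_inv_cancel x
      have := orderOf_dvd_of_pow_eq_one (show x ^ 2 = 1 by rw [pow_two]; exact h7)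
      rw [hx] at this; norm_num at this

end Cfsg.Agent.S1006
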