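import Cfsg.Statements.S1007

import Cfsg.Agent.Perm.Order168Sub

set_option autoImplicit false
set_option linter.style.haveILetI false
open Cfsg

namespace Cfsg.Agent.S1007
open CfsgLib.Perm CfsgLib.Perm.Order168

/-- Let G be a simple group of order 168 and T a Sylow 2-subgroup. Then T contains exactly two subgroups that are Klein four-groups; they are not conjugate in G; and the normalizer of every Klein four-subgroup of G is isomorphic to the symmetric group of degree 4. -/
theorem result {G : Type*} [Group G] [Finite G] [IsSimpleGroup G] (h : Nat.card G = 168) (T : Sylow 2 G) : Nat.card {U : Subgroup G // U ≤ (T : Subgroup G) ∧ IsKleinFour ↥U} = 2 ∧ (∀ U W : Subgroup G, U ≤ (T : Subgroup G) → W ≤ (T : Subgroup G) → IsKleinFour ↥U → IsKleinFour ↥W → U ≠ W → ∀ g : G, U.map (MulAut.conj g).toMonoidHom ≠ W) ∧ ∀ U : Subgroup G, IsKleinFour ↥U → Nonempty (↥(Subgroup.normalizer (U : Set G)) ≃* Equiv.Perm (Fin 4)) := by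
  haveI : Fact (Nat.Prime 2) := ⟨Nat.prime_two⟩
  refine ⟨?_, fun U W hU hW hUK _ hne g hg => hne (klein_not_conj h T hU hW hUK hg),
    fun U hU => iso_s4 h (klein_normalizer h U hU).1⟩
  obtain ⟨U₀, U₁, hne, h0, h1, hK0, hK1, hall⟩ := klein_pair h T
  have hs : {U : Subgroup G | U ≤ (T : Subgroup G) ∧ IsKleinFour U} = {U₀, U₁} := by
    ext U
    simp only [Set.mem_setOf_eq, Set.mem_insert_iff, Set.mem_singleton_iff]
    refine ⟨fun hU => hall U hU.1 hU.2, ?_⟩
    rintro (rfl | rfl)
    · exact ⟨h0, hK0⟩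
    · exact ⟨h1, hK1⟩
  show Nat.card {U : Subgroup G | U ≤ (T : Subgroup G) ∧ IsKleinFour U} = 2
  rw [Nat.card_coe_set_eq, hs, Set.ncard_pair hne]

end Cfsg.Agent.S1007
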