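import Cfsg.Statements.S1008

import Cfsg.Agent.Perm.Order168Sub

set_option autoImplicit false
set_option linter.style.haveILetI false
open Cfsg

namespace Cfsg.Agent.S1008
open CfsgLib.Perm CfsgLib.Perm.Order168

/-- In a simple group of order 168 every maximal subgroup is either isomorphic to the symmetric group of degree 4 or non-abelian of order 21; the maximal subgroups of order 21 form one conjugacy class and those isomorphic to the symmetric group of degree 4 form exactly two conjugacy classes. -/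
theorem result {G : Type*} [Group G] [Finite G] [IsSimpleGroup G] (h : Nat.card G = 168) : (∀ M : Subgroup G, IsCoatom M → Nonempty (↥M ≃* Equiv.Perm (Fin 4)) ∨ (Nat.card ↥M = 21 ∧ ¬ IsMulCommutative ↥M)) ∧ (∀ M M' : Subgroup G, IsCoatom M → IsCoatom M' → Nat.card ↥M = 21 → Nat.card ↥M' = 21 → ∃ g : G, M' = M.map (MulAut.conj g).toMonoidHom) ∧ ∃ M₁ M₂ : Subgroup G, IsCoatom M₁ ∧ IsCoatom M₂ ∧ Nonempty (↥M₁ ≃* Equiv.Perm (Fin 4)) ∧ Nonempty (↥M₂ ≃* Equiv.Perm (Fin 4)) ∧ (∀ g : G, M₂ ≠ M₁.map (MulAut.conj g).toMonoidHom) ∧ ∀ M : Subgroup G, IsCoatom M → Nonempty (↥M ≃* Equiv.Perm (Fin 4)) → ∃ g : G, M = M₁.map (MulAut.conj g).toMonoidHom ∨ M = M₂.map (MulAut.conj g).toMonoidHom := by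
  haveI : Fact (Nat.Prime 2) := ⟨Nat.prime_two⟩
  haveI : Fact (Nat.Prime 7) := ⟨Nat.prime_seven⟩
  have hmax : ∀ M : Subgroup G, IsCoatom M → (∃ P : Sylow 7 G, M = Subgroup.normalizer ((P : Subgroup G) : Set G)) ∨
      Nat.card M = 24 := by
    intro M hM
    obtain ⟨H, hle, htop, hH⟩ := exists_big h hM.1
    obtain rfl : M = H := hle.antisymm (le_of_eq ((hM.le_iff.1 hle).resolve_left htop))
    rcases hH with ⟨hf, P, hP⟩ | hc
    · exact Or.inl ⟨P, hP⟩
    · exact Or.inr hc
  have h24max : ∀ M : Subgroup G, Nat.card M = 24 → IsCoatom M := by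
    intro M hM
    have hne : M ≠ ⊤ := fun e => by rw [e, Subgroup.card_top, h] at hM; omega
    refine ⟨hne, fun K hK => ?_⟩
    by_contra hKtop
    have h1 := card_proper h hKtop
    exact hK.ne (Subgroup.eq_of_le_of_card_ge hK.le (by rw [hM]; exact h1))
  refine ⟨fun M hM => ?_, fun M M' hM hM' h21 h21' => ?_, ?_⟩
  · rcases hmax M hM with ⟨P, rfl⟩ | hc
    · exact Or.inr ⟨card_normalizer_seven h P, not_comm_normalizer h P⟩
    · exact Or.inl (iso_s4 h hc)
  · rcases hmax M hM with ⟨P, rfl⟩ | hc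
    swap; · omega
    rcases hmax M' hM' with ⟨P', rfl⟩ | hc
    swap; · omega
    obtain ⟨g, rfl⟩ := MulAction.exists_smul_eq G P P'
    exact ⟨g, by rw [SylowNumber.smul_coe, conj_normalizer]⟩
  · obtain ⟨T⟩ : Nonempty (Sylow 2 G) := inferInstance
    obtain ⟨U₀, U₁, hne, h0, h1, hK0, hK1, hall⟩ := klein_pair h T
    have c0 := (klein_normalizer h U₀ hK0).1
    have c1 := (klein_normalizer h U₁ hK1).1
    refine ⟨_, _, h24max _ c0, h24max _ c1, iso_s4 h c0, iso_s4 h c1, fun g hg => hne ?_, fun M _ hM => ?_⟩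
    · set W := U₀.map (MulAut.conj g).toMonoidHom with hW
      have hWN : Subgroup.normalizer (W : Set G) = Subgroup.normalizer (U₁ : Set G) := by
        rw [hW, conj_normalizer, ← hg]
      have hW4 : Nat.card W = 4 := by rw [hW, conj_map_card, hK0.card_four]
      have hWU := klein_unique h hK1 hW4 hWN.ge (hWN ▸ Subgroup.le_normalizer)
      exact klein_not_conj h T h0 h1 hK0 hWU
    · obtain ⟨e⟩ := hM
      have hc : Nat.card M = 24 := by rw [Nat.card_congr e.toEquiv, Nat.card_perm, Nat.card_fin]; rfl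
      obtain ⟨U, hU, rfl⟩ := exists_klein_of_card h hc
      obtain ⟨T', hT'⟩ := (IsPGroup.of_card (n := 2) (by rw [hU.card_four]; norm_num) : IsPGroup 2 U).exists_le_sylow
      obtain ⟨g, rfl⟩ := MulAction.exists_smul_eq G T T'
      refine ⟨g, ?_⟩
      set U' := U.map (MulAut.conj g⁻¹).toMonoidHom with hU'
      have hle : U' ≤ (T : Subgroup G) := by
        rintro _ ⟨u, hu, rfl⟩
        have := hT' hu
        rw [SylowNumber.smul_coe] at this
        obtain ⟨t, ht, rfl⟩ := this
        show (MulAut.conj g⁻¹) ((MulAut.conj g) t) ∈ (T : Subgroup G)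
        have e : (MulAut.conj g⁻¹) ((MulAut.conj g) t) = t := by simp [mul_assoc]
        rw [e]; exact ht
      have hc4 : Nat.card U' = 4 := by rw [hU', conj_map_card, hU.card_four]
      haveI : Nontrivial U' := Finite.one_lt_card_iff_nontrivial.1 (by omega)
      have hK' : IsKleinFour U' := ⟨hc4, (Monoid.exponent_eq_prime_iff Nat.prime_two).2 fun x hx => orderOf_eq_prime (by
        obtain ⟨u, hu, hue⟩ := x.2
        refine Subtype.ext ?_
        show (x : G) ^ 2 = 1
        rw [← hue, ← map_pow]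
        have : u ^ 2 = 1 := by rw [pow_two]; exact congrArg Subtype.val (IsKleinFour.mul_self (⟨u, hu⟩ : U))
        rw [this, map_one]) hx⟩
      have hback : U = U'.map (MulAut.conj g).toMonoidHom := by
        rw [hU', Subgroup.map_map]
        conv_lhs => rw [← Subgroup.map_id U]
        congr 1
        ext x
        simp [mul_assoc]
      rcases hall U' hle hK' with e | e
      · exact Or.inl (by rw [hback, conj_normalizer, e])
      · exact Or.inr (by rw [hback, conj_normalizer, e])

end Cfsg.Agent.S1008
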