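import Cfsg.Statements.S1009

import Mathlib

set_option autoImplicit false
set_option linter.style.haveILetI false
open Cfsg

namespace Cfsg.Agent.S1009
open scoped Pointwise

/-- Brodkey's Theorem: if a finite group has abelian Sylow p-subgroups, then there are two Sylow p-subgroups whose intersection equals the intersection of all Sylow p-subgroups. -/
theorem result {G : Type*} [Group G] [Finite G] (p : ℕ) [Fact p.Prime] (hab : ∀ P : Sylow p G, IsMulCommutative ↥(P : Subgroup G)) : ∃ P Q : Sylow p G, (P : Subgroup G) ⊓ (Q : Subgroup G) = ⨅ R : Sylow p G, (R : Subgroup G) := by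
  classical
  haveI : Fintype (Sylow p G) := Fintype.ofFinite _
  obtain ⟨⟨P, Q⟩, -, hmin⟩ := Finset.exists_min_image (Finset.univ : Finset (Sylow p G × Sylow p G))
    (fun x => Nat.card ↥((x.1 : Subgroup G) ⊓ (x.2 : Subgroup G))) Finset.univ_nonempty
  refine ⟨P, Q, le_antisymm (le_iInf fun R => ?_) (le_inf (iInf_le _ P) (iInf_le _ Q))⟩
  set D := (P : Subgroup G) ⊓ (Q : Subgroup G) with hD
  set N := Subgroup.normalizer (D : Set G) with hN
  have habN : ∀ S : Sylow p G, D ≤ (S : Subgroup G) → (S : Subgroup G) ≤ N := by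
    intro S hS x hx
    refine Subgroup.centralizer_le_normalizer _ ?_
    rw [Subgroup.mem_centralizer_iff]
    intro d hd
    exact congrArg Subtype.val ((hab S).1.1 ⟨d, hS hd⟩ ⟨x, hx⟩)
  have hPN : (P : Subgroup G) ≤ N := habN P inf_le_left
  have hQN : (Q : Subgroup G) ≤ N := habN Q inf_le_right
  have hK : IsPGroup p ↥(((R : Subgroup G) ⊓ N).subgroupOf N) :=
    (R.isPGroup'.to_le inf_le_left).of_equiv (Subgroup.subgroupOfEquivOfLe inf_le_right).symm
  obtain ⟨S, hS⟩ := hK.exists_le_sylow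
  obtain ⟨n, hn⟩ := MulAction.exists_smul_eq N S (P.subtype hPN)
  set T : Sylow p G := (n : G) • R with hT
  have hTD : (T : Subgroup G) ⊓ (Q : Subgroup G) ≤ D := by
    intro x hx
    refine ⟨?_, hx.2⟩
    have h1 : (n : G)⁻¹ * x * n ∈ (R : Subgroup G) := by
      have h0 : x ∈ (((n : G) • R : Sylow p G) : Subgroup G) := hx.1
      rw [Sylow.coe_subgroup_smul, Subgroup.mem_pointwise_smul_iff_inv_smul_mem] at h0
      simpa using h0
    have hxN : x ∈ N := hQN hx.2
    have h2 : (n : G)⁻¹ * x * n ∈ N := N.mul_mem (N.mul_mem (N.inv_mem n.2) hxN) n.2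
    have h3 : (⟨_, h2⟩ : N) ∈ (S : Subgroup N) := hS (show _ ∈ _ from ⟨h1, h2⟩)
    have h4 : n * ⟨_, h2⟩ * n⁻¹ ∈ ((P.subtype hPN : Sylow p N) : Subgroup N) := by
      rw [← hn, Sylow.coe_subgroup_smul, Subgroup.mem_pointwise_smul_iff_inv_smul_mem]
      simpa [mul_assoc] using h3
    rw [Sylow.coe_subtype, Subgroup.mem_subgroupOf] at h4
    have h7 : ((n : G) * ((n : G)⁻¹ * x * n) * (n : G)⁻¹) ∈ (P : Subgroup G) := h4
    simp only [mul_assoc, mul_inv_cancel_left, mul_inv_cancel, mul_one] at h7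
    exact h7
  have hge : Nat.card D ≤ Nat.card ↥((T : Subgroup G) ⊓ (Q : Subgroup G)) :=
    hmin (T, Q) (Finset.mem_univ _)
  have heq := Subgroup.eq_of_le_of_card_ge hTD hge
  intro d hd
  have h5 : (n : G) * d * (n : G)⁻¹ ∈ D := (Subgroup.mem_normalizer_iff.mp n.2 d).mp hd
  rw [← heq] at h5
  have h6 : (n : G) * d * (n : G)⁻¹ ∈ (((n : G) • R : Sylow p G) : Subgroup G) := h5.1
  rw [Sylow.coe_subgroup_smul, Subgroup.mem_pointwise_smul_iff_inv_smul_mem] at h6
  simpa [mul_assoc] using h6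

end Cfsg.Agent.S1009
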