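import Cfsg.Statements.S1010
import Cfsg.Agent.Perm.SylowNumber
import Cfsg.Agent.Inv.Transfer

set_option autoImplicit false
set_option linter.style.haveILetI false
open Cfsg

namespace Cfsg.Agent.S1010

--- pre
open CfsgLib.Perm.SylowNumber

universe u

theorem involution_fix {G : Type*} [Group G] [Finite G] [Fact (Nat.Prime 5)]
    (h : Reduced 5 G) (hG : Nat.card G ≠ 2) (h21 : Nat.card (Sylow 5 G) = 21) (P : Sylow 5 G)
    (hP : Nat.card (P : Subgroup G) = 5) {t : G}
    (ht : t ∈ Subgroup.centralizer ((P : Subgroup G) : Set G)) (ht2 : t ^ 2 = 1) (ht1 : t ≠ 1)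
    {Z : Sylow 5 G} (hZ : t • Z = Z) : Z = P := by
  classical
  haveI := Fintype.ofFinite (Sylow 5 G)
  have hs := h.sign_eq_one (by norm_num) hG t
  have hsq : (MulAction.toPerm t : Equiv.Perm (Sylow 5 G)) ^ 2 = 1 := by
    ext W
    rw [pow_two, Equiv.Perm.mul_apply, MulAction.toPerm_apply, MulAction.toPerm_apply, smul_smul,
      ← pow_two, ht2, one_smul, Equiv.Perm.one_apply]
  rw [sign_involution _ hsq] at hs
  set f := Fintype.card (Function.fixedPoints (MulAction.toPerm t : Equiv.Perm (Sylow 5 G))) with hf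
  have hmod : f % 5 = 1 := by
    have h1 := card_fixedPoints_modEq_one P hP ht
    rw [hf, ← Nat.card_eq_fintype_card]
    exact h1
  have hfix : f = Fintype.card (Sylow 5 G) - (MulAction.toPerm t : Equiv.Perm (Sylow 5 G)).cycleType.sum :=
    Equiv.Perm.card_fixedPoints _
  have heven : 2 ∣ (MulAction.toPerm t : Equiv.Perm (Sylow 5 G)).cycleType.sum := by
    refine Multiset.dvd_sum fun n hn => ?_
    have h1 : n ∣ orderOf (MulAction.toPerm t : Equiv.Perm (Sylow 5 G)) :=
      Equiv.Perm.lcm_cycleType (MulAction.toPerm t : Equiv.Perm (Sylow 5 G)) ▸ Multiset.dvd_lcm hn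
    have h2 := h1.trans (orderOf_dvd_of_pow_eq_one hsq)
    have h3 := Equiv.Perm.two_le_of_mem_cycleType hn
    have h4 := Nat.le_of_dvd (by norm_num) h2
    omega
  rw [← Nat.card_eq_fintype_card, h21] at hfix hs
  have hf21 : f ≠ 21 := by
    intro e
    refine ht1 (h.1 t fun W => ?_)
    have h1 : Function.fixedPoints (MulAction.toPerm t : Equiv.Perm (Sylow 5 G)) = Set.univ := by
      refine Set.eq_univ_of_forall fun V => ?_
      by_contra hV
      have := Fintype.card_subtype_lt (p := fun V => V ∈ Function.fixedPoints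
        (MulAction.toPerm t : Equiv.Perm (Sylow 5 G))) hV
      rw [← Nat.card_eq_fintype_card (α := Sylow 5 G), h21] at this
      simp only [hf] at e
      exact absurd e (ne_of_lt (by convert this))
    exact (Set.eq_univ_iff_forall.1 h1) W
  have hf1 : f = 1 := by
    have : f = 1 ∨ f = 11 := by omega
    rcases this with h1 | h1
    · exact h1
    · rw [h1] at hs
      exact absurd hs (by decide)
  rw [hf, Fintype.card_eq_one_iff] at hf1
  obtain ⟨W, hW⟩ := hf1
  exact congrArg Subtype.val ((hW ⟨Z, hZ⟩).trans (hW ⟨P, Sylow.smul_eq_iff_mem_normalizer.2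
    (Subgroup.centralizer_le_normalizer _ ht)⟩).symm)

/-- The normalizer of a Sylow subgroup centralizes it. -/
theorem normalizer_le {G : Type*} [Group G] [Finite G] [Fact (Nat.Prime 5)]
    (h : Reduced 5 G) (hG : Nat.card G ≠ 2) (h21 : Nat.card (Sylow 5 G) = 21) (P : Sylow 5 G)
    (hP : Nat.card (P : Subgroup G) = 5) :
    Subgroup.normalizer ((P : Subgroup G) : Set G) ≤
      Subgroup.centralizer ((P : Subgroup G) : Set G) := by
  classical
  set N := Subgroup.normalizer ((P : Subgroup G) : Set G) with hNdef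
  haveI : IsCyclic (P : Subgroup G) := isCyclic_of_prime_card hP
  let φ : N →* (ZMod (Nat.card (P : Subgroup G)))ˣ :=
    (IsCyclic.mulAutMulEquiv (P : Subgroup G)).toMonoidHom.comp
      (P : Subgroup G).normalizerMonoidHom
  have hker : ∀ n : N, φ n = 1 ↔ (n : G) ∈ Subgroup.centralizer ((P : Subgroup G) : Set G) := by
    intro n
    rw [← Subgroup.mem_subgroupOf, ← Subgroup.normalizerMonoidHom_ker, MonoidHom.mem_ker]
    exact (IsCyclic.mulAutMulEquiv (P : Subgroup G)).map_eq_one_iff
  by_contra hne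
  set m := Nat.card φ.range with hm
  have hm4 : m ∣ 4 := by
    have h1 : Nat.card (ZMod (Nat.card (P : Subgroup G)))ˣ = 4 := by
      rw [Nat.card_congr (IsCyclic.mulAutMulEquiv (P : Subgroup G)).symm.toEquiv, IsCyclic.card_mulAut,
        hP, Nat.totient_prime (by norm_num)]
    exact h1 ▸ Subgroup.card_subgroup_dvd_card φ.range
  have hm1 : m ≠ 1 := fun e => hne fun n hn => (hker ⟨n, hn⟩).1
    (Subgroup.mem_bot.1 ((Subgroup.card_eq_one.1 e).le ⟨⟨n, hn⟩, rfl⟩))
  have hm2 : 2 ∣ m := by
    rcases (Nat.dvd_prime_pow Nat.prime_two).1 (show m ∣ 2 ^ 2 from hm4) with ⟨i, -, hi⟩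
    rw [hi]
    exact dvd_pow_self 2 fun e => hm1 (by rw [hi, e, pow_zero])
  haveI : IsCyclic φ.range := by
    haveI : IsCyclic (ZMod 5)ˣ := inferInstance
    haveI : IsCyclic (ZMod (Nat.card (P : Subgroup G)))ˣ := by rw [hP]; exact this
    infer_instance
  let ψ : N →* (ZMod (Nat.card (P : Subgroup G)))ˣ := (powMonoidHom (m / 2)).comp φ
  have hψ : ∀ n : N, ψ n = φ n ^ (m / 2) := fun n => rfl
  have hφm : ∀ n : N, φ n ^ m = 1 := fun n => by
    have := pow_card_eq_one' (x := (⟨φ n, ⟨n, rfl⟩⟩ : φ.range))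
    exact congrArg Subtype.val this
  have hψdvd : ∀ n : N, ψ n = 1 ↔ orderOf (φ n) ∣ m / 2 := fun n => orderOf_dvd_iff_pow_eq_one.symm
  -- `ψ` takes two values
  have hψtwo : ∀ a b : N, (ψ a = 1 ↔ ψ b = 1) → ψ a = ψ b := by
    intro a b hab
    by_cases ha : ψ a = 1
    · rw [ha, hab.1 ha]
    have hb : ψ b ≠ 1 := fun e => ha (hab.2 e)
    have key : ∀ n : N, (⟨ψ n, ⟨n ^ (m / 2), map_pow φ n _⟩⟩ : φ.range) ^ 2 = 1 := fun n =>
      Subtype.ext (by
        show (φ n ^ (m / 2)) ^ 2 = 1
        rw [← pow_mul, Nat.div_mul_cancel hm2, hφm])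
    haveI := Fintype.ofFinite φ.range
    have hle := IsCyclic.card_pow_eq_one_le (α := φ.range) (n := 2) two_pos
    by_contra hab'
    have h3 : ({1, ⟨ψ a, ⟨a ^ (m / 2), map_pow φ a _⟩⟩, ⟨ψ b, ⟨b ^ (m / 2), map_pow φ b _⟩⟩} :
        Finset φ.range) ⊆ Finset.univ.filter fun x => x ^ 2 = 1 := by
      intro x hx
      simp only [Finset.mem_insert, Finset.mem_singleton] at hx
      refine Finset.mem_filter.2 ⟨Finset.mem_univ _, ?_⟩
      rcases hx with rfl | rfl | rfl
      · simp
      · exact key a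
      · exact key b
    have h4 := (Finset.card_le_card h3).trans (by convert hle)
    rw [Finset.card_eq_three.2 ⟨_, _, _, fun e => ha (congrArg Subtype.val e).symm,
      fun e => hb (congrArg Subtype.val e).symm, fun e => hab' (congrArg Subtype.val e), rfl⟩] at h4
    omega
  -- an element of two-power order with non-trivial value
  obtain ⟨⟨z, n₀, rfl⟩, hz⟩ := IsCyclic.exists_generator (α := φ.range)
  have hn₀ : orderOf (φ n₀) = m := by
    rw [hm, ← orderOf_eq_card_of_forall_mem_zpowers hz, ← Subgroup.orderOf_coe]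
  obtain ⟨i, l, hl, hil⟩ := Nat.exists_eq_pow_mul_and_not_dvd (orderOf_pos n₀).ne' 2 (by norm_num)
  set g := n₀ ^ l with hg
  have hgo : g ^ 2 ^ i = 1 := by
    rw [hg, ← pow_mul, mul_comm, ← hil, pow_orderOf_eq_one]
  have hgm : orderOf (φ g) = m := by
    rw [hg, map_pow, Nat.Coprime.orderOf_pow, hn₀]
    rw [hn₀]
    exact Nat.Coprime.of_dvd_left hm4
      ((Nat.prime_two.coprime_iff_not_dvd.2 hl).pow_left 2)
  have hψg : ψ g ≠ 1 := fun e => by
    have h1 := (hψdvd g).1 e
    rw [hgm] at h1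
    have h2 : 0 < m := Nat.card_pos
    have h3 := Nat.le_of_dvd (Nat.div_pos (Nat.le_of_dvd h2 hm2) two_pos) h1
    omega
  -- fusion preserves `ψ` on elements of two-power order
  have hfusion : ∀ (a b : N) (c : G) (j : ℕ), a ^ 2 ^ j = 1 → (b : G) = c * a * c⁻¹ → ψ a = ψ b := by
    intro a b c j haj hbc
    by_cases hcN : c ∈ N
    · rw [show b = (⟨c, hcN⟩ : N) * a * (⟨c, hcN⟩ : N)⁻¹ from Subtype.ext hbc, map_mul, map_mul,
        map_inv, mul_comm (ψ _), mul_inv_cancel_right]
    -- otherwise no non-trivial power lies in the centralizer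
    have hfree : ∀ (a b : N) (c : G) (j : ℕ), c ∉ N → a ^ 2 ^ j = 1 → (b : G) = c * a * c⁻¹ →
        orderOf (φ a) = orderOf a := by
      intro a b c j hcN haj hbc
      obtain ⟨e, he1, he⟩ := (Nat.dvd_prime_pow Nat.prime_two).1 (orderOf_dvd_of_pow_eq_one haj)
      obtain ⟨e', he'1, he'⟩ := (Nat.dvd_prime_pow Nat.prime_two).1
        (he ▸ orderOf_map_dvd φ a)
      rw [he, he']
      by_contra hne'
      have hlt : e' < e := lt_of_le_of_ne he'1 fun e'' => hne' (by rw [e''])
      have ht1 : a ^ 2 ^ (e - 1) ≠ 1 := fun e'' => by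
        have := orderOf_dvd_of_pow_eq_one e''
        rw [he, Nat.pow_dvd_pow_iff_le_right (le_refl 2)] at this
        omega
      have htC : ((a ^ 2 ^ (e - 1) : N) : G) ∈ Subgroup.centralizer ((P : Subgroup G) : Set G) := by
        rw [← hker, map_pow, ← orderOf_dvd_iff_pow_eq_one, he']
        exact pow_dvd_pow 2 (by omega)
      have ht2 : ((a ^ 2 ^ (e - 1) : N) : G) ^ 2 = 1 := by
        rw [← SubmonoidClass.coe_pow, ← pow_mul, ← pow_succ, show e - 1 + 1 = e by omega, ← he,
          pow_orderOf_eq_one, OneMemClass.coe_one]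
      have htfix : ((a ^ 2 ^ (e - 1) : N) : G) • (c⁻¹ • P) = c⁻¹ • P := by
        have h1 : ((b ^ 2 ^ (e - 1) : N) : G) • P = P :=
          Sylow.smul_eq_iff_mem_normalizer.2 (b ^ 2 ^ (e - 1)).2
        rw [SubmonoidClass.coe_pow, hbc, conj_pow, mul_smul, mul_smul] at h1
        rw [SubmonoidClass.coe_pow]
        exact eq_inv_smul_iff.2 h1
      have h2 := involution_fix h hG h21 P hP htC ht2
        (fun e'' => ht1 (Subtype.ext e'')) htfix
      exact hcN (Sylow.smul_eq_iff_mem_normalizer.1 (inv_smul_eq_iff.1 h2).symm)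
    have h1 := hfree a b c j hcN haj hbc
    have hab : orderOf b = orderOf a := by
      rw [← Subgroup.orderOf_coe, ← Subgroup.orderOf_coe, hbc]
      exact MulEquiv.orderOf_eq (MulAut.conj c) (a : G)
    have h2 := hfree b a c⁻¹ j (fun e => hcN (inv_inv c ▸ N.inv_mem e))
      (by rw [← orderOf_dvd_iff_pow_eq_one, hab, orderOf_dvd_iff_pow_eq_one]; exact haj)
      (by rw [hbc]; group)
    refine hψtwo a b ?_
    rw [hψdvd, hψdvd, h1, h2, hab]
  have htr := CfsgLib.Inv.transfer_eq_pow_of_ctrl N ψ g.2 (by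
    intro k g₀ hk
    rw [← map_pow]
    refine (hfusion (g ^ k) ⟨_, hk⟩ g₀⁻¹ i ?_ ?_).symm
    · rw [← pow_mul, mul_comm, pow_mul, hgo, one_pow]
    · simp)
  set T := MonoidHom.transfer ψ
  rw [index_normalizer P, h21] at htr
  have hψ2 : ∀ n : N, ψ n ^ 2 = 1 := fun n => by
    rw [hψ, ← pow_mul, Nat.div_mul_cancel hm2, hφm]
  have hTg : T (g : G) = ψ g := by
    rw [htr, show (21 : ℕ) = 2 * 10 + 1 by norm_num, pow_succ, pow_mul, hψ2, one_pow, one_mul]
  -- every value of the transfer has order dividing two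
  have hT2 : ∀ x : G, T x ^ 2 = 1 := by
    intro x
    have h1 : T x = MonoidHom.transfer ψ x := rfl
    let := N.fintypeQuotientOfFiniteIndex
    rw [h1, MonoidHom.transfer_eq_prod_quotient_orbitRel_zpowers_quot, ← Finset.prod_pow]
    exact Finset.prod_eq_one fun q _ => hψ2 _
  have h4 : Nat.card T.range = 2 := by
    haveI : IsCyclic (ZMod (Nat.card (P : Subgroup G)))ˣ := by rw [hP]; infer_instance
    have h5 : Nat.card T.range ∣ 2 := by
      obtain ⟨⟨v, w, rfl⟩, hv⟩ := IsCyclic.exists_generator (α := T.range)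
      rw [← orderOf_eq_card_of_forall_mem_zpowers hv]
      exact orderOf_dvd_of_pow_eq_one (Subtype.ext (hT2 w))
    rcases (Nat.dvd_prime Nat.prime_two).1 h5 with h6 | h6
    · exact absurd (Subgroup.mem_bot.1 ((Subgroup.card_eq_one.1 h6).le ⟨(g : G), rfl⟩))
        (hTg ▸ hψg)
    · exact h6
  exact h.index_ne_two (by norm_num) hG T.ker (by rw [Subgroup.index_ker]; exact h4)

theorem key (G : Type u) [Group G] [Finite G] [Fact (Nat.Prime 5)] (h : Reduced 5 G) :
    Nat.card (Sylow 5 G) ≠ 21 := by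
  intro h21
  haveI : Fact (Nat.Prime 7) := ⟨by norm_num⟩
  obtain ⟨P⟩ := (inferInstance : Nonempty (Sylow 5 G))
  have hP : Nat.card (P : Subgroup G) = 5 :=
    card_sylow_eq_prime_of_small h.1 (h21 ▸ by norm_num)
      (fun A B hAB => mul_card_inf_eq (h21 ▸ by norm_num) hAB) (h21 ▸ by norm_num) P
  have h21G : 21 ∣ Nat.card G := h21 ▸ index_normalizer P ▸ Subgroup.index_dvd_card _
  have hG2 : Nat.card G ≠ 2 := fun e => by rw [e] at h21G; norm_num at h21G
  have hNC := normalizer_le h hG2 h21 P hP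
  set C := Subgroup.centralizer ((P : Subgroup G) : Set G)
  -- no element of order 7 centralizes `P`
  have h7C : ∀ y ∈ C, y ^ 7 = 1 → y = 1 := by
    intro y hy hy7
    refine h.1 y fun Z => ?_
    by_cases hZ : Z = P
    · rw [hZ]; exact Sylow.smul_eq_iff_mem_normalizer.2 (Subgroup.centralizer_le_normalizer _ hy)
    haveI : Nontrivial (P : Subgroup G) := Finite.one_lt_card_iff_nontrivial.1 (by rw [hP]; norm_num)
    obtain ⟨⟨x, hxP⟩, hx⟩ := exists_ne (1 : (P : Subgroup G))
    have hx1 : x ≠ 1 := fun e => hx (Subtype.ext e)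
    have hcomm : Commute y x := (Subgroup.mem_centralizer_iff.1 hy x hxP).symm
    have hx5 : x ^ 5 = 1 := by
      have : (⟨x, hxP⟩ : (P : Subgroup G)) ^ Nat.card (P : Subgroup G) = 1 := pow_card_eq_one'
      rw [hP] at this
      exact congrArg Subtype.val this
    set w := y * x
    have hw35 : w ^ 35 = 1 := by
      rw [hcomm.mul_pow, show 35 = 7 * 5 by norm_num, pow_mul, hy7, one_pow, one_mul,
        mul_comm 7 5, pow_mul, hx5, one_pow]
    have hw7 : w ^ 7 = x ^ 2 := by
      rw [hcomm.mul_pow, hy7, one_mul, show 7 = 5 + 2 by norm_num, pow_add, hx5, one_mul]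
    have hw15 : w ^ 15 = y := by
      rw [hcomm.mul_pow, show 15 = 7 * 2 + 1 by norm_num, pow_succ, pow_mul, hy7, one_pow, one_mul,
        show 7 * 2 + 1 = 5 * 3 by norm_num, pow_mul, hx5, one_pow, mul_one]
    obtain hper | hper | hper : Function.minimalPeriod (w • ·) Z ∈ ({1, 7} : Set ℕ) ∨
        Function.minimalPeriod (w • ·) Z = 5 ∨ Function.minimalPeriod (w • ·) Z = 35 := by
      have h1 : Function.minimalPeriod (w • ·) Z ∣ 35 := by
        refine Function.IsPeriodicPt.minimalPeriod_dvd ?_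
        show (w • ·)^[35] Z = Z
        rw [smul_iterate_apply, hw35, one_smul]
      have h2 := Nat.mem_divisors.2 ⟨h1, by norm_num⟩
      rw [show Nat.divisors 35 = {1, 5, 7, 35} by decide] at h2
      simp only [Finset.mem_insert, Finset.mem_singleton] at h2
      simp only [Set.mem_insert_iff, Set.mem_singleton_iff]
      tauto
    · exfalso
      have h7 : w ^ 7 • Z = Z := by
        rw [MulAction.pow_smul_eq_iff_minimalPeriod_dvd]
        rcases hper with hp | hp <;> rw [hp] <;> norm_num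
      rw [hw7] at h7
      refine hZ (eq_of_smul_eq P hP (Subgroup.pow_mem _ hxP 2) (fun e => hx1 ?_) h7)
      rw [← pow_one x, show x ^ 1 = (x ^ 2) ^ 3 * (x ^ 5)⁻¹ by group, e, hx5]
      simp
    · rw [← hw15, MulAction.pow_smul_eq_iff_minimalPeriod_dvd, hper]
      norm_num
    · exfalso
      haveI := Fintype.ofFinite (MulAction.orbit (Subgroup.zpowers w) Z)
      rw [MulAction.minimalPeriod_eq_card, ← Nat.card_eq_fintype_card, Nat.card_coe_set_eq] at hper
      have h2 := Set.ncard_le_card (MulAction.orbit (Subgroup.zpowers w) Z)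
      rw [hper, h21] at h2
      norm_num at h2
  -- the normal complement
  have hc := MonoidHom.ker_transferSylow_isComplement' P hNC
  set R := (MonoidHom.transferSylow P hNC).ker
  have hR5 : R.index = 5 := by rw [hc.symm.index_eq_card, hP]
  obtain ⟨S⟩ := (inferInstance : Nonempty (Sylow 7 R))
  have hfr := Sylow.normalizer_sup_eq_top S
  set M := Subgroup.normalizer (((S : Subgroup R).map R.subtype : Subgroup G) : Set G)
  have h5M : 5 ∣ Nat.card M := by
    have h1 : R.relIndex M = R.index := by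
      rw [← Subgroup.relIndex_top_right, ← hfr, Subgroup.relIndex_sup_right]
    exact hR5 ▸ h1 ▸ Subgroup.relIndex_dvd_card _ _
  obtain ⟨x, hx⟩ := exists_prime_orderOf_dvd_card' (G := M) 5 h5M
  set S' := (S : Subgroup R).map R.subtype
  have hS'7 : 7 ∣ Nat.card S' := by
    rw [Subgroup.card_map_of_injective R.subtype_injective]
    refine S.dvd_card_of_dvd_card ?_
    have h1 : 21 ∣ 5 * Nat.card R := by rw [← hR5, mul_comm, R.card_mul_index]; exact h21G
    exact (Nat.Coprime.dvd_of_dvd_mul_left (by norm_num) (dvd_trans (by norm_num) h1))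
  -- the element of order 5 centralizes an element of order 7
  obtain ⟨Q, hQ⟩ := (IsPGroup.of_card (p := 5) (n := 1) (G := Subgroup.zpowers (x : G)) (by
    rw [Nat.card_zpowers, Subgroup.orderOf_coe, hx, pow_one])).exists_le_sylow
  have hQP : (Q : Subgroup G) = Subgroup.zpowers (x : G) := by
    refine (Subgroup.eq_of_le_of_card_ge hQ ?_).symm
    rw [Nat.card_congr (Sylow.equiv Q P).toEquiv, hP, Nat.card_zpowers, Subgroup.orderOf_coe, hx]
  obtain ⟨c, hc'⟩ := MulAction.exists_smul_eq G Q P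
  obtain ⟨s₀, hs₀⟩ := exists_prime_orderOf_dvd_card' (G := S') 7 hS'7
  have hS'card : Nat.card S' = 7 := by
    have h1 : Nat.card S' ∣ Nat.card G := Subgroup.card_subgroup_dvd_card S'
    obtain ⟨e, he⟩ := IsPGroup.iff_card.1 (S.2.map R.subtype)
    have hval : Nat.card S' = 7 := by
      by_contra hne
      have he2 : 2 ≤ e := by
        rcases e with _ | _ | e
        · rw [pow_zero] at he; rw [he] at hS'7; norm_num at hS'7
        · exact absurd (he.trans (pow_one 7)) hne
        · omega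
      have h2 : 49 ∣ 21 * Nat.card (Subgroup.normalizer ((P : Subgroup G) : Set G)) := by
        rw [← h21, ← index_normalizer P, mul_comm, Subgroup.card_mul_index]
        exact (he ▸ pow_dvd_pow 7 he2).trans h1
      have h3 : 7 * 7 ∣ 7 * (3 * Nat.card (Subgroup.normalizer ((P : Subgroup G) : Set G))) := by
        rw [← mul_assoc]; exact h2
      have h4 := Nat.dvd_of_mul_dvd_mul_left (by norm_num) h3
      have h5 : 7 ∣ Nat.card (Subgroup.normalizer ((P : Subgroup G) : Set G)) :=
        (Nat.Coprime.dvd_of_dvd_mul_left (by norm_num) h4)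
      obtain ⟨y, hy⟩ := exists_prime_orderOf_dvd_card'
        (G := Subgroup.normalizer ((P : Subgroup G) : Set G)) 7 h5
      have := h7C y (hNC y.2) (by rw [← hy, ← Subgroup.orderOf_coe, pow_orderOf_eq_one])
      rw [← Subgroup.orderOf_coe, this, orderOf_one] at hy
      norm_num at hy
    exact hval
  have hxC : (x : G) ∈ Subgroup.centralizer (S' : Set G) := by
    have h1 := relIndex_centralizer_dvd (q := 7) S' hS'card
    have hxN : (x : G) ∈ Subgroup.normalizer (S' : Set G) := x.2
    set K := (Subgroup.centralizer (S' : Set G)).subgroupOf (Subgroup.normalizer (S' : Set G))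
    haveI : K.Normal := by
      show ((Subgroup.centralizer (S' : Set G)).subgroupOf _).Normal
      rw [← Subgroup.normalizerMonoidHom_ker]; infer_instance
    have h2 : orderOf ((⟨x, hxN⟩ : Subgroup.normalizer (S' : Set G)) :
        Subgroup.normalizer (S' : Set G) ⧸ K) ∣ Nat.gcd 5 6 :=
      Nat.dvd_gcd (hx ▸ (orderOf_map_dvd (QuotientGroup.mk' K) _).trans
        (by rw [← Subgroup.orderOf_coe, Subgroup.orderOf_coe x]))
        ((orderOf_dvd_natCard _).trans h1)
    rw [show Nat.gcd 5 6 = 1 by decide, Nat.dvd_one, orderOf_eq_one_iff] at h2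
    exact Subgroup.mem_subgroupOf.1 ((QuotientGroup.eq_one_iff (N := K)
      (⟨x, hxN⟩ : Subgroup.normalizer (S' : Set G))).1 h2)
  have hyC : c * (s₀ : G) * c⁻¹ ∈ C := by
    refine Subgroup.mem_centralizer_iff.2 fun v hv => ?_
    rw [← hc', Sylow.coe_subgroup_smul] at hv
    obtain ⟨v', hv', rfl⟩ := hv
    rw [hQP] at hv'
    obtain ⟨k, rfl⟩ := Subgroup.mem_zpowers_iff.1 hv'
    have hcm : Commute (x : G) (s₀ : G) := (Subgroup.mem_centralizer_iff.1 hxC s₀ s₀.2).symm
    show MulAut.conj c ((x : G) ^ k) * MulAut.conj c (s₀ : G) =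
      MulAut.conj c (s₀ : G) * MulAut.conj c ((x : G) ^ k)
    rw [← map_mul, (hcm.zpow_left k).eq, map_mul]
  have hs1 := h7C _ hyC (by
    rw [conj_pow, show ((s₀ : G)) ^ 7 = 1 by
      rw [← hs₀, ← Subgroup.orderOf_coe, pow_orderOf_eq_one], mul_one, mul_inv_cancel])
  rw [mul_inv_eq_one] at hs1
  have : orderOf s₀ = 1 := orderOf_eq_one_iff.2 (Subtype.ext (mul_eq_left.1 hs1))
  rw [hs₀] at this
  norm_num at this

/-- No finite group has exactly twenty-one Sylow 5-subgroups. -/
theorem result {G : Type*} [Group G] [Finite G] : Nat.card (Sylow 5 G) ≠ 21 := by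
  haveI : Fact (Nat.Prime 5) := ⟨by norm_num⟩
  refine card_sylow_ne_of_reduced (by norm_num) ?_ (fun G _ _ h => key G h) _ G rfl
  intro a b hab ha hb
  have h1 : a ∈ Nat.divisors 21 := Nat.mem_divisors.2 ⟨Dvd.intro b hab, by norm_num⟩
  rw [show Nat.divisors 21 = {1, 3, 7, 21} by decide] at h1
  simp only [Finset.mem_insert, Finset.mem_singleton] at h1
  unfold Nat.ModEq at ha hb
  rcases h1 with rfl | rfl | rfl | rfl <;> omega

end Cfsg.Agent.S1010
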