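import Cfsg.Statements.S1011

import Cfsg.Agent.Perm.SimplePSLTwo
import Cfsg.Agent.Perm.ZassenhausLocal

set_option autoImplicit false
set_option linter.style.haveILetI false
open Cfsg

namespace Cfsg.Agent.S1011
open CfsgLib.Perm CfsgLib.Perm.SimpleTwo

/-- A simple group of order 504 is isomorphic to the projective special linear group of dimension 2 over the field with 8 elements. -/
theorem result {G : Type*} [Group G] [Finite G] [IsSimpleGroup G] (h : Nat.card G = 504) {F : Type*} [Field F] [Fintype F] (hF : Fintype.card F = 8) : Nonempty (G ≃* Matrix.ProjectiveSpecialLinearGroup (Fin 2) F) := by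
  classical
  haveI : Fact (Nat.Prime 2) := ⟨Nat.prime_two⟩
  haveI : Fact (Nat.Prime 3) := ⟨Nat.prime_three⟩
  haveI : Fact (Nat.Prime 7) := ⟨Nat.prime_seven⟩
  have hG : ¬ IsMulCommutative G := SimpleOrder.not_comm (by rw [h]; norm_num)
  have hidx : ∀ H : Subgroup G, H ≠ ⊤ → 7 < H.index := fun H hH =>
    seven_lt_index hG (by rw [h]; norm_num) (by rw [h]; norm_num) (by rw [h]; norm_num) hH
  have hprop : ∀ H : Subgroup G, H ≠ ⊤ → Nat.card H ≤ 63 := fun H hH => by
    have h1 := H.card_mul_index
    have := hidx H hH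
    rw [h] at h1
    nlinarith
  have ctop : ∀ x : G, x ≠ 1 → Subgroup.centralizer ({x} : Set G) ≠ ⊤ := by
    intro x hx e
    rcases (Subgroup.Normal.eq_bot_or_eq_top (H := Subgroup.center G) inferInstance) with hb | hb
    · refine hx (Subgroup.mem_bot.1 (hb ▸ Subgroup.mem_center_iff.2 fun g => ?_))
      exact Subgroup.mem_centralizer_singleton_iff.1 (e ▸ Subgroup.mem_top g)
    · exact hG ⟨⟨fun a b => ((Subgroup.mem_center_iff.1 (hb ▸ Subgroup.mem_top a)) b).symm⟩⟩
  -- the Sylow seven-subgroups
  have hS7 : ∀ P : Sylow 7 G, Nat.card (P : Subgroup G) = 7 := fun P => by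
    rw [P.card_eq_multiplicity, h, show (504 : ℕ) = 7 * 72 from rfl, Nat.factorization_mul (by norm_num) (by norm_num),
      Finsupp.add_apply, Nat.prime_seven.factorization_self, Nat.factorization_eq_zero_of_not_dvd (by norm_num : ¬ 7 ∣ 72)]
    rfl
  have hn7 : Nat.card (Sylow 7 G) = 36 := by
    obtain ⟨P⟩ : Nonempty (Sylow 7 G) := inferInstance
    have hd : Nat.card (Sylow 7 G) ∣ 72 := SylowPrime.card_sylow_dvd P (by rw [hS7, h])
    have hm : Nat.card (Sylow 7 G) % 7 = 1 := card_sylow_modEq_one 7 G
    have hle := Nat.le_of_dvd (by norm_num) hd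
    have key : ∀ e < 73, e ∣ 72 → e % 7 = 1 → e = 36 ∨ e = 8 ∨ e = 1 := by decide +kernel
    rcases key _ (by omega) hd hm with e | e | e
    · exact e
    · exfalso
      have h3 := SimpleOrder.two_mul_normalizer_dvd hG (by norm_num) (by rw [h]; norm_num) e P
      have h4 := (Subgroup.normalizer ((P : Subgroup G) : Set G)).card_mul_index
      rw [SylowNumber.index_normalizer, e, h] at h4
      rw [show Nat.card (Subgroup.normalizer ((P : Subgroup G) : Set G)) = 63 by omega] at h3
      norm_num at h3
    · exfalso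
      have := SylowPrime.card_dvd_factorial hG (p := 7) (by rw [h]; norm_num)
      rw [e, h] at this
      norm_num at this
  have hC7 : ∀ x : G, orderOf x = 7 → Nat.card (Subgroup.centralizer ({x} : Set G)) = 7 := by
    intro x hx
    obtain ⟨P, hP⟩ := (IsPGroup.of_card (n := 1) (by rw [Nat.card_zpowers, hx, pow_one]) :
      IsPGroup 7 (Subgroup.zpowers x)).exists_le_sylow
    have hz : Subgroup.zpowers x = P := Subgroup.eq_of_le_of_card_ge hP (by rw [Nat.card_zpowers, hx, hS7])
    have hC : Subgroup.centralizer ({x} : Set G) = Subgroup.centralizer ((P : Subgroup G) : Set G) := by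
      rw [← hz, Subgroup.zpowers_eq_closure, Subgroup.centralizer_closure]
    have hN : Nat.card (Subgroup.normalizer ((P : Subgroup G) : Set G)) = 14 := by
      have h4 := (Subgroup.normalizer ((P : Subgroup G) : Set G)).card_mul_index
      rw [SylowNumber.index_normalizer, hn7, h] at h4
      omega
    have hd : Nat.card (Subgroup.centralizer ({x} : Set G)) ∣ 14 := by
      rw [hC, ← hN]; exact Subgroup.card_dvd_of_le (Subgroup.centralizer_le_normalizer _)
    have h7 : 7 ∣ Nat.card (Subgroup.centralizer ({x} : Set G)) := by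
      refine dvd_trans (dvd_of_eq (by rw [Nat.card_zpowers, hx])) (Subgroup.card_dvd_of_le (H := Subgroup.zpowers x) ?_)
      rw [Subgroup.zpowers_le, Subgroup.mem_centralizer_singleton_iff]
    have hne : Nat.card (Subgroup.centralizer ({x} : Set G)) ≠ 14 := fun e => by
      refine not_burnside P (by rw [hS7]; norm_num) (by rw [hS7, h]; norm_num) ?_
      exact (Subgroup.eq_of_le_of_card_ge (Subgroup.centralizer_le_normalizer _) (by rw [← hC, e, hN])).ge
    have key : ∀ e < 15, e ∣ 14 → 7 ∣ e → e ≠ 14 → e = 7 := by decide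
    exact key _ (by have := Nat.le_of_dvd (by norm_num) hd; omega) hd h7 hne
  -- the Sylow three-subgroups
  have hS3 : ∀ P : Sylow 3 G, Nat.card (P : Subgroup G) = 9 := fun P => by
    rw [P.card_eq_multiplicity, h, show (504 : ℕ) = 3 ^ 2 * 56 from rfl, Nat.factorization_mul (by norm_num) (by norm_num),
      Finsupp.add_apply, Nat.factorization_pow, Finsupp.smul_apply, Nat.prime_three.factorization_self,
      Nat.factorization_eq_zero_of_not_dvd (by norm_num : ¬ 3 ∣ 56)]
    rfl
  have hN3 : ∀ P : Sylow 3 G, Nat.card (Subgroup.normalizer ((P : Subgroup G) : Set G)) = 18 := fun P => by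
    have h4 := (Subgroup.normalizer ((P : Subgroup G) : Set G)).card_mul_index
    rw [SylowNumber.index_normalizer, h] at h4
    have hd := SylowPrime.card_sylow_dvd P (m := 56) (by rw [hS3, h])
    have hm : Nat.card (Sylow 3 G) % 3 = 1 := card_sylow_modEq_one 3 G
    have hle := Nat.le_of_dvd (by norm_num) hd
    have key : ∀ e < 57, e ∣ 56 → e % 3 = 1 → e = 28 ∨ e ≤ 7 := by decide +kernel
    rcases key _ (by omega) hd hm with e | e
    · rw [e] at h4; omega
    · exfalso
      have htop := SimpleOrder.normalizer_ne_top hG (by rw [h]; norm_num) P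
      have := hidx _ htop
      rw [SylowNumber.index_normalizer] at this
      omega
  have hC3 : ∀ (P : Sylow 3 G), ∀ x ∈ (P : Subgroup G), x ≠ 1 → Nat.card (Subgroup.centralizer ({x} : Set G)) = 9 := by
    intro P x hx hx1
    haveI : IsMulCommutative (P : Subgroup G) := IsPGroup.isMulCommutative_of_card_eq_prime_sq (p := 3) (by rw [hS3]; norm_num)
    set C := Subgroup.centralizer ({x} : Set G) with hCdef
    set N := Subgroup.normalizer ((P : Subgroup G) : Set G) with hNdef
    have hPC : (P : Subgroup G) ≤ C := fun u hu => Subgroup.mem_centralizer_singleton_iff.2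
      (congrArg Subtype.val (mul_comm' (⟨u, hu⟩ : (P : Subgroup G)) ⟨x, hx⟩))
    have hxN : ¬ N ≤ C := fun hle => hx1 (no_central_in_normalizer hG P hx fun n hn =>
      Subgroup.mem_centralizer_singleton_iff.1 (hle hn))
    obtain ⟨s, hsN, hsC⟩ := SetLike.not_le_iff_exists.1 hxN
    have h9 : 9 ∣ Nat.card C := hS3 P ▸ Subgroup.card_dvd_of_le hPC
    have hd : Nat.card C ∣ 504 := h ▸ Subgroup.card_subgroup_dvd_card C
    have hle := hprop C (ctop x hx1)
    have h7 : ¬ 7 ∣ Nat.card C := fun hd7 => by
      obtain ⟨u, hu⟩ := exists_prime_orderOf_dvd_card' (G := C) 7 hd7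
      have hu' : orderOf (u : G) = 7 := by rw [Subgroup.orderOf_coe, hu]
      have hxm : x ∈ Subgroup.centralizer ({(u : G)} : Set G) :=
        Subgroup.mem_centralizer_singleton_iff.2 (Subgroup.mem_centralizer_singleton_iff.1 u.2).symm
      have := Subgroup.orderOf_dvd_natCard _ hxm
      rw [hC7 _ hu'] at this
      have h3 := (Subgroup.orderOf_dvd_natCard _ hx).trans (dvd_of_eq (hS3 P))
      exact hx1 (orderOf_eq_one_iff.1 (Nat.eq_one_of_dvd_coprimes (by norm_num : Nat.Coprime 7 9) this h3))
    have key : ∀ e < 64, e ∣ 504 → 9 ∣ e → ¬ 7 ∣ e → e = 9 ∨ e = 18 ∨ e = 36 := by decide +kernel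
    rcases key _ (by omega) hd h9 h7 with e | e | e
    · exact e
    all_goals exfalso
    all_goals (
      -- the element inverted or moved by `s`
      have hs2 : s * s ∈ C := by
        have h1 : (s * s) ∈ (P : Subgroup G) := by
          have hi : ((P : Subgroup G).subgroupOf N).index = 2 := by
            have h2 := ((P : Subgroup G).subgroupOf N).card_mul_index
            rw [Nat.card_congr (Subgroup.subgroupOfEquivOfLe Subgroup.le_normalizer).toEquiv, hS3, hN3] at h2
            omega
          have h2 := Subgroup.sq_mem_of_index_two hi (⟨s, hsN⟩ : N)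
          rw [pow_two] at h2
          exact h2
        exact hPC h1
      have hy : x * (s * x * s⁻¹) = 1 := by
        have hsx : s * x * s⁻¹ ∈ (P : Subgroup G) := (Subgroup.mem_normalizer_iff.1 hsN x).1 hx
        refine no_central_in_normalizer hG P ((P : Subgroup G).mul_mem hx hsx) fun n hn => ?_
        have hfix : s * (x * (s * x * s⁻¹)) = x * (s * x * s⁻¹) * s := by
          have h1 : s * s * x = x * (s * s) := Subgroup.mem_centralizer_singleton_iff.1 hs2
          have hcx : x * (s * x * s⁻¹) = s * x * s⁻¹ * x :=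
            congrArg Subtype.val (mul_comm' (⟨x, hx⟩ : (P : Subgroup G)) ⟨_, hsx⟩)
          calc s * (x * (s * x * s⁻¹)) = s * x * s⁻¹ * (s * s * x) * s⁻¹ := by group
            _ = s * x * s⁻¹ * (x * (s * s)) * s⁻¹ := by rw [h1]
            _ = s * x * s⁻¹ * x * s := by group
            _ = x * (s * x * s⁻¹) * s := by rw [hcx]
        -- every element of the normaliser is in `P` or in `P * s`
        have hi : ((P : Subgroup G).subgroupOf N).index = 2 := by
          have h2 := ((P : Subgroup G).subgroupOf N).card_mul_index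
          rw [Nat.card_congr (Subgroup.subgroupOfEquivOfLe Subgroup.le_normalizer).toEquiv, hS3, hN3] at h2
          omega
        have hPy : ∀ u ∈ (P : Subgroup G), u * (x * (s * x * s⁻¹)) = x * (s * x * s⁻¹) * u := fun u hu =>
          congrArg Subtype.val (mul_comm' (⟨u, hu⟩ : (P : Subgroup G)) ⟨_, (P : Subgroup G).mul_mem hx hsx⟩)
        by_cases hnP : n ∈ (P : Subgroup G)
        · exact hPy n hnP
        · have hsP : s ∉ (P : Subgroup G) := fun hm => hsC (hPC hm)
          have h3 : (⟨n, hn⟩ * ⟨s, hsN⟩ : N) ∈ (P : Subgroup G).subgroupOf N :=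
            (Subgroup.mul_mem_iff_of_index_two hi).2 (iff_of_false hnP hsP)
          have h4 := hPy (n * s) h3
          have h5 : n * (x * (s * x * s⁻¹)) * s = x * (s * x * s⁻¹) * n * s := by
            rw [mul_assoc n, ← hfix, ← mul_assoc n s, h4, ← mul_assoc]
          exact mul_right_cancel h5
      have hinv : s * x * s⁻¹ = x⁻¹ := eq_inv_of_mul_eq_one_right hy
      set M := Subgroup.normalizer ((Subgroup.zpowers x : Subgroup G) : Set G)
      have hCM : C ≤ M := by
        intro c hc
        rw [Subgroup.mem_normalizer_iff_map_conj_eq, MonoidHom.map_zpowers]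
        show Subgroup.zpowers (c * x * c⁻¹) = _
        rw [mul_inv_eq_iff_eq_mul.2 (Subgroup.mem_centralizer_singleton_iff.1 hc)]
      have hsM : s ∈ M := by
        rw [Subgroup.mem_normalizer_iff_map_conj_eq, MonoidHom.map_zpowers]
        show Subgroup.zpowers (s * x * s⁻¹) = _
        rw [hinv, Subgroup.zpowers_inv]
      have hMtop : M ≠ ⊤ := fun htop => by
        haveI := Subgroup.normalizer_eq_top_iff.1 htop
        rcases (Subgroup.Normal.eq_bot_or_eq_top (H := Subgroup.zpowers x) inferInstance) with hb | hb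
        · exact hx1 (Subgroup.zpowers_eq_bot.1 hb)
        · exact hG (by
            haveI : IsCyclic G := ⟨⟨x, fun g => (Subgroup.eq_top_iff' _).1 hb g⟩⟩
            exact IsCyclic.isMulCommutative)
      have hM := hprop M hMtop
      have hdC := Subgroup.card_dvd_of_le hCM
      have hdM : Nat.card M ∣ 504 := h ▸ Subgroup.card_subgroup_dvd_card M
      have hneM : Nat.card M ≠ Nat.card C := fun e' =>
        hsC ((Subgroup.eq_of_le_of_card_ge hCM e'.le).symm ▸ hsM)
      rw [e] at hdC hneM
      have key2 : ∀ m < 64, m ∣ 504 → 18 ∣ m → m ≠ 18 → m = 36 := by decide +kernel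
      first
        | (obtain ⟨t, ht⟩ := hdC
           have : 36 * t ≤ 63 := ht ▸ hM
           have ht1 : t = 1 := by
             have := Nat.card_pos (α := M)
             rw [ht] at this; omega
           exact hneM (by rw [ht, ht1, mul_one]))
        | (have hM36 := key2 _ (by omega) hdM hdC hneM
           -- then the Sylow subgroup is normal in the centraliser, hence in the normaliser
           have hPn : ((P : Subgroup G).subgroupOf C).Normal := by
             refine Subgroup.normal_of_index_eq_two ?_
             have h2 := ((P : Subgroup G).subgroupOf C).card_mul_index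
             rw [Nat.card_congr (Subgroup.subgroupOfEquivOfLe hPC).toEquiv, hS3, e] at h2
             omega
           have hCN : C ≤ N := (Subgroup.normal_subgroupOf_iff_le_normalizer hPC).1 hPn
           exact hsC ((Subgroup.eq_of_le_of_card_ge hCN (by rw [e, hN3])).symm ▸ hsN)))
  -- involution centralisers are two-groups
  have two_cen : ∀ t : G, orderOf t = 2 → IsPGroup 2 (Subgroup.centralizer ({t} : Set G)) := by
    intro t ht
    refine IsPGroup.of_card (n := (Nat.card (Subgroup.centralizer ({t} : Set G))).primeFactorsList.length)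
      (Nat.eq_prime_pow_of_unique_prime_dvd Nat.card_pos.ne' fun {d} hd hdd => ?_)
    by_contra hd2
    haveI := Fact.mk hd
    obtain ⟨u, hu⟩ := exists_prime_orderOf_dvd_card' (G := Subgroup.centralizer ({t} : Set G)) d hdd
    have hu' : orderOf (u : G) = d := by rw [Subgroup.orderOf_coe, hu]
    have htm : t ∈ Subgroup.centralizer ({(u : G)} : Set G) :=
      Subgroup.mem_centralizer_singleton_iff.2 (Subgroup.mem_centralizer_singleton_iff.1 u.2).symm
    have hdvd := Subgroup.orderOf_dvd_natCard _ htm
    have hd504 : d ∣ 504 := h ▸ hu' ▸ orderOf_dvd_natCard (u : G)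
    have key : ∀ e < 505, e ∣ 504 → e.Prime → e = 2 ∨ e = 3 ∨ e = 7 := by decide +kernel
    rcases key d (by have := Nat.le_of_dvd (by norm_num) hd504; omega) hd504 hd with rfl | rfl | rfl
    · exact hd2 rfl
    · obtain ⟨P, hP⟩ := (IsPGroup.of_card (n := 1) (by rw [Nat.card_zpowers, hu', pow_one]) :
        IsPGroup 3 (Subgroup.zpowers (u : G))).exists_le_sylow
      rw [hC3 P u (hP (Subgroup.mem_zpowers _)) (fun e => by rw [e, orderOf_one] at hu'; omega), ht] at hdvd
      norm_num at hdvd
    · rw [hC7 _ hu', ht] at hdvd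
      norm_num at hdvd
  have hS2 : ∀ T : Sylow 2 G, Nat.card (T : Subgroup G) = 8 := fun T => by
    rw [T.card_eq_multiplicity, h, show (504 : ℕ) = 2 ^ 3 * 63 from rfl, Nat.factorization_mul (by norm_num) (by norm_num),
      Finsupp.add_apply, Nat.factorization_pow, Finsupp.smul_apply, Nat.prime_two.factorization_self,
      Nat.factorization_eq_zero_of_not_dvd (by norm_num : ¬ 2 ∣ 63)]
    rfl
  -- elements of odd order normalising a Sylow two-subgroup act without fixed points
  have fpf : ∀ (T : Sylow 2 G) (p : ℕ), (p = 3 ∨ p = 7) → ∀ u : G, orderOf u = p →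
      ∀ t ∈ (T : Subgroup G), u * t = t * u → t = 1 := by
    intro T p hp u hu t ht hc
    have h1 : t ∈ Subgroup.centralizer ({u} : Set G) := Subgroup.mem_centralizer_singleton_iff.2 hc.symm
    have h2 := Subgroup.orderOf_dvd_natCard _ h1
    have h3 := (Subgroup.orderOf_dvd_natCard _ ht).trans (dvd_of_eq (hS2 T))
    refine orderOf_eq_one_iff.1 ?_
    rcases hp with rfl | rfl
    · obtain ⟨P, hP⟩ := (IsPGroup.of_card (n := 1) (by rw [Nat.card_zpowers, hu, pow_one]) :
        IsPGroup 3 (Subgroup.zpowers u)).exists_le_sylow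
      rw [hC3 P u (hP (Subgroup.mem_zpowers u)) (fun e => by rw [e, orderOf_one] at hu; omega)] at h2
      exact Nat.eq_one_of_dvd_coprimes (by norm_num : Nat.Coprime 9 8) h2 h3
    · rw [hC7 u hu] at h2
      exact Nat.eq_one_of_dvd_coprimes (by norm_num : Nat.Coprime 7 8) h2 h3
  -- the action by conjugation of a normalising element
  have hcount : ∀ (T : Sylow 2 G) (u : G), u ∈ Subgroup.normalizer ((T : Subgroup G) : Set G) →
      orderOf u = 3 → False := by
    intro T u hu h3o
    let A := Subgroup.zpowers u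
    have hA : A ≤ Subgroup.normalizer ((T : Subgroup G) : Set G) := Subgroup.zpowers_le.2 hu
    let Nh := ((T : Subgroup G).normalizerMonoidHom).comp (Subgroup.inclusion hA)
    letI : MulAction A (T : Subgroup G) := MulAction.compHom _ Nh
    have hp : IsPGroup 3 A := IsPGroup.of_card (n := 1) (by rw [Nat.card_zpowers, h3o, pow_one])
    have hm := hp.card_modEq_card_fixedPoints (T : Subgroup G)
    have hfp : MulAction.fixedPoints A (T : Subgroup G) = {1} := by
      ext v
      simp only [MulAction.mem_fixedPoints, Set.mem_singleton_iff]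
      refine ⟨fun hv => Subtype.ext (fpf T 3 (Or.inl rfl) u h3o v v.2 ?_), ?_⟩
      · have h1 := congrArg Subtype.val (hv ⟨u, Subgroup.mem_zpowers u⟩)
        change u * (v : G) * u⁻¹ = v at h1
        exact mul_inv_eq_iff_eq_mul.1 h1
      · rintro rfl a
        exact map_one (Nh a)
    rw [hfp, hS2, Nat.card_coe_set_eq, Set.ncard_singleton] at hm
    exact absurd hm (by decide)
  obtain ⟨T⟩ : Nonempty (Sylow 2 G) := inferInstance
  set NT := Subgroup.normalizer ((T : Subgroup G) : Set G) with hNT
  have hTtop : NT ≠ ⊤ := SimpleOrder.normalizer_ne_top hG (by rw [h]; norm_num) T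
  have hNTd : Nat.card NT ∣ 504 := h ▸ Subgroup.card_subgroup_dvd_card NT
  have hNT8 : 8 ∣ Nat.card NT := hS2 T ▸ Subgroup.card_dvd_of_le Subgroup.le_normalizer
  have hNT3 : ¬ 3 ∣ Nat.card NT := fun hd => by
    obtain ⟨u, hu⟩ := exists_prime_orderOf_dvd_card' (G := NT) 3 hd
    exact hcount T u u.2 (by rw [Subgroup.orderOf_coe, hu])
  have key56 : ∀ e < 64, e ∣ 504 → 8 ∣ e → ¬ 3 ∣ e → e = 8 ∨ e = 56 := by decide +kernel
  have hNT56 : Nat.card NT = 56 := by
    refine (key56 _ (by have := hprop NT hTtop; omega) hNTd hNT8 hNT3).resolve_left fun h8 => ?_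
    have hNeq : NT = T := (Subgroup.eq_of_le_of_card_ge Subgroup.le_normalizer (by rw [h8, hS2])).symm
    by_cases hab : IsMulCommutative (T : Subgroup G)
    · haveI := hab
      refine not_burnside T (by rw [hS2]; norm_num) (by rw [hS2, h]; norm_num) ?_
      rw [← hNT, hNeq]
      exact Subgroup.le_centralizer (T : Subgroup G)
    -- a non-abelian group of order eight: count elements
    have hn : Nat.card (Sylow 2 G) = 63 := by
      have := NT.card_mul_index
      rw [SylowNumber.index_normalizer, h8, h] at this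
      omega
    obtain ⟨c, hcT, hc2⟩ : ∃ c ∈ (T : Subgroup G), c * c ≠ 1 := by
      by_contra hcon
      push Not at hcon
      refine hab ⟨⟨fun a b => Subtype.ext ?_⟩⟩
      have ha := hcon a a.2
      have hb := hcon b b.2
      have habm := hcon _ ((T : Subgroup G).mul_mem a.2 b.2)
      show (a : G) * b = b * a
      have h1 : (a : G)⁻¹ = a := inv_eq_of_mul_eq_one_right ha
      have h2 : (b : G)⁻¹ = b := inv_eq_of_mul_eq_one_right hb
      have h3 := inv_eq_of_mul_eq_one_right habm
      rw [mul_inv_rev, h1, h2] at h3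
      exact h3.symm
    -- a central involution in each Sylow subgroup
    have hz : ∀ S : Sylow 2 G, ∃ z : G, orderOf z = 2 ∧ Subgroup.centralizer ({z} : Set G) = S := by
      intro S
      haveI : Nontrivial (S : Subgroup G) := Finite.one_lt_card_iff_nontrivial.1 (by rw [hS2]; norm_num)
      haveI := S.2.center_nontrivial
      obtain ⟨⟨z, hzc⟩, hz1⟩ := exists_ne (1 : Subgroup.center (S : Subgroup G))
      obtain ⟨k, hk⟩ := IsPGroup.iff_orderOf.1 S.2 z
      have hk0 : k ≠ 0 := fun e => by
        rw [e, pow_zero, orderOf_eq_one_iff] at hk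
        exact hz1 (Subtype.ext hk)
      set w : (S : Subgroup G) := z ^ (2 ^ (k - 1))
      have hw : orderOf w = 2 := by
        rw [orderOf_pow' _ (by positivity), hk, Nat.gcd_eq_right (Nat.pow_dvd_pow 2 (by omega))]
        rw [Nat.pow_div (by omega) two_pos, show k - (k - 1) = 1 by omega, pow_one]
      have hwc : w ∈ Subgroup.center (S : Subgroup G) := Subgroup.pow_mem _ hzc _
      have hw' : orderOf (w : G) = 2 := by rw [Subgroup.orderOf_coe, hw]
      refine ⟨w, hw', S.is_maximal' (two_cen _ hw') fun v hv => ?_⟩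
      exact Subgroup.mem_centralizer_singleton_iff.2 (congrArg Subtype.val (Subgroup.mem_center_iff.1 hwc ⟨v, hv⟩))
    choose zf hzo hzC using hz
    haveI := Fintype.ofFinite G
    haveI := Fintype.ofFinite (Sylow 2 G)
    haveI := Fintype.ofFinite (Sylow 3 G)
    set A7 := Finset.univ.filter fun g : G => orderOf g = 7
    set A2 := Finset.univ.image zf
    set A3 := Finset.univ.filter fun g : G => orderOf g ∣ 9 ∧ g ≠ 1
    have c7 : A7.card = 216 := by
      have h1 := SylowPrime.card_orderOf_eq (G := G) (p := 7) hS7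
      rw [hn7, Nat.card_eq_fintype_card, Fintype.card_subtype] at h1
      exact h1
    have c2 : A2.card = 63 := by
      rw [Finset.card_image_of_injective _ fun S S' e => Sylow.ext ((hzC S).symm.trans (by rw [e]; exact hzC S')),
        Finset.card_univ, ← Nat.card_eq_fintype_card, hn]
    have c3 : 224 ≤ A3.card := by
      have hn3 : Nat.card (Sylow 3 G) = 28 := by
        obtain ⟨P⟩ : Nonempty (Sylow 3 G) := inferInstance
        have := (Subgroup.normalizer ((P : Subgroup G) : Set G)).card_mul_index
        rw [SylowNumber.index_normalizer, hN3, h] at this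
        omega
      have hmap : (Finset.univ.sigma fun P : Sylow 3 G =>
          Finset.univ.filter fun g : G => g ∈ (P : Subgroup G) ∧ g ≠ 1).card ≤ A3.card := by
        refine Finset.card_le_card_of_injOn (fun q => q.2) (fun q hq => ?_) ?_
        · have hq' := (Finset.mem_filter.1 (Finset.mem_sigma.1 hq).2).2
          refine Finset.mem_filter.2 ⟨Finset.mem_univ _, ?_, hq'.2⟩
          exact (Subgroup.orderOf_dvd_natCard _ hq'.1).trans (dvd_of_eq (hS3 q.1))
        · rintro ⟨P, g⟩ hq ⟨P', g'⟩ hq' (rfl : g = g')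
          obtain ⟨hgP, hg1⟩ := (Finset.mem_filter.1 (Finset.mem_sigma.1 hq).2).2
          obtain ⟨hgP', -⟩ := (Finset.mem_filter.1 (Finset.mem_sigma.1 hq').2).2
          have hsub : ∀ R : Sylow 3 G, g ∈ (R : Subgroup G) → (R : Subgroup G) = Subgroup.centralizer ({g} : Set G) := by
            intro R hgR
            haveI : IsMulCommutative (R : Subgroup G) := IsPGroup.isMulCommutative_of_card_eq_prime_sq (p := 3) (by rw [hS3]; norm_num)
            refine Subgroup.eq_of_le_of_card_ge (fun v hv => Subgroup.mem_centralizer_singleton_iff.2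
              (congrArg Subtype.val (mul_comm' (⟨v, hv⟩ : (R : Subgroup G)) ⟨g, hgR⟩))) (by rw [hC3 R g hgR hg1, hS3])
          obtain rfl : P = P' := Sylow.ext ((hsub P hgP).trans (hsub P' hgP').symm)
          rfl
      rw [Finset.card_sigma, Finset.sum_const_nat (m := 8) fun P _ => ?_, Finset.card_univ, ← Nat.card_eq_fintype_card, hn3] at hmap
      · omega
      · rw [← Fintype.card_subtype, ← Nat.card_eq_fintype_card]
        have h1 : Nat.card {g : G // g ∈ (P : Subgroup G) ∧ g ≠ 1} = Nat.card {g : (P : Subgroup G) // g ≠ 1} :=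
          Nat.card_congr
            { toFun := fun g => ⟨⟨g.1, g.2.1⟩, fun e => g.2.2 (congrArg Subtype.val e)⟩
              invFun := fun g => ⟨g.1.1, g.1.2, fun e => g.2 (Subtype.ext e)⟩
              left_inv := fun g => rfl
              right_inv := fun g => rfl }
        rw [h1, Nat.card_eq_fintype_card, Fintype.card_subtype_compl, Fintype.card_subtype_eq,
          ← Nat.card_eq_fintype_card, hS3]
    have hco : orderOf c ≠ 2 ∧ orderOf c ∣ 8 ∧ c ≠ 1 := by
      refine ⟨fun e => hc2 (by rw [← pow_two, ← e]; exact pow_orderOf_eq_one c),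
        (Subgroup.orderOf_dvd_natCard _ hcT).trans (dvd_of_eq (hS2 T)), fun e => hc2 (by rw [e, mul_one])⟩
    have hA2o : ∀ g ∈ A2, orderOf g = 2 := fun g hg => by
      obtain ⟨S, -, rfl⟩ := Finset.mem_image.1 hg
      exact hzo S
    have hsum : (A7 ∪ A2 ∪ A3 ∪ {1, c}).card ≤ 504 := by
      rw [← h, Nat.card_eq_fintype_card]; exact Finset.card_le_univ _
    have key8 : ∀ e < 9, e ∣ 8 → e ∣ 9 → e = 1 := by decide
    rw [Finset.card_union_of_disjoint, Finset.card_union_of_disjoint, Finset.card_union_of_disjoint,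
      Finset.card_pair (Ne.symm hco.2.2), c7, c2] at hsum
    · omega
    all_goals rw [Finset.disjoint_left]
    · intro g hg hg'
      exact absurd ((Finset.mem_filter.1 hg).2.symm.trans (hA2o g hg')) (by norm_num)
    · intro g hg hg'
      have h9 := (Finset.mem_filter.1 hg').2.1
      rcases Finset.mem_union.1 hg with hh | hh
      · rw [(Finset.mem_filter.1 hh).2] at h9; norm_num at h9
      · rw [hA2o g hh] at h9; norm_num at h9
    · intro g hg hg'
      simp only [Finset.mem_insert, Finset.mem_singleton] at hg'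
      rcases Finset.mem_union.1 hg with hh | hh
      · rcases Finset.mem_union.1 hh with hh | hh
        · have := (Finset.mem_filter.1 hh).2
          rcases hg' with rfl | rfl
          · rw [orderOf_one] at this; omega
          · have := hco.2.1; rw [‹orderOf g = 7›] at this; norm_num at this
        · have := hA2o g hh
          rcases hg' with rfl | rfl
          · rw [orderOf_one] at this; omega
          · exact hco.1 this
      · obtain ⟨h9, hg1⟩ := (Finset.mem_filter.1 hh).2
        rcases hg' with rfl | rfl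
        · exact hg1 rfl
        · exact hg1 (orderOf_eq_one_iff.1 (key8 _ (by have := Nat.le_of_dvd (by norm_num) hco.2.1; omega) hco.2.1 h9))
  have hn2 : Nat.card (Sylow 2 G) = 2 ^ 3 + 1 := by
    have := NT.card_mul_index
    rw [SylowNumber.index_normalizer, hNT56, h] at this
    omega
  -- the normaliser is transitive on the non-identity elements
  have hC : ∀ S : Sylow 2 G, ∀ t ∈ (S : Subgroup G), t ≠ 1 → Subgroup.centralizer ({t} : Set G) = S := by
    intro S t ht ht1
    obtain ⟨u, huN, hu7⟩ : ∃ u ∈ Subgroup.normalizer ((S : Subgroup G) : Set G), orderOf u = 7 := by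
      have hc : Nat.card (Subgroup.normalizer ((S : Subgroup G) : Set G)) = 56 := by
        have := (Subgroup.normalizer ((S : Subgroup G) : Set G)).card_mul_index
        rw [SylowNumber.index_normalizer, hn2, h] at this
        omega
      obtain ⟨u, hu⟩ := exists_prime_orderOf_dvd_card' (G := Subgroup.normalizer ((S : Subgroup G) : Set G)) 7 (by rw [hc]; norm_num)
      exact ⟨u, u.2, by rw [Subgroup.orderOf_coe, hu]⟩
    haveI : Nontrivial (S : Subgroup G) := Finite.one_lt_card_iff_nontrivial.1 (by rw [hS2]; norm_num)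
    haveI := S.2.center_nontrivial
    obtain ⟨⟨z, hzc⟩, hz1⟩ := exists_ne (1 : Subgroup.center (S : Subgroup G))
    have hz1' : (z : G) ≠ 1 := fun e => hz1 (Subtype.ext (Subtype.ext e))
    have hmem : ∀ i : ℕ, u ^ i * (z : G) * (u ^ i)⁻¹ ∈ (S : Subgroup G) := fun i =>
      (Subgroup.mem_normalizer_iff.1 (Subgroup.pow_mem _ huN i) _).1 z.2
    have hinj : Function.Injective (fun i : Fin 7 => (⟨⟨_, hmem i⟩, fun e => hz1' (conj_eq_one_iff.1 (congrArg Subtype.val e))⟩ :
        {v : (S : Subgroup G) // v ≠ 1})) := by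
      have key : ∀ i j : ℕ, i ≤ j → j < 7 → u ^ i * (z : G) * (u ^ i)⁻¹ = u ^ j * (z : G) * (u ^ j)⁻¹ → i = j := by
        intro i j hij hj e
        by_contra hne
        obtain ⟨d, rfl⟩ := Nat.exists_eq_add_of_le hij
        have h1 : u ^ d * (z : G) = z * u ^ d := by
          rw [pow_add] at e
          have h2 : (z : G) = u ^ d * z * (u ^ d)⁻¹ := by
            have := congrArg (fun v => (u ^ i)⁻¹ * v * u ^ i) e
            simpa [mul_assoc] using this
          exact (mul_inv_eq_iff_eq_mul.1 h2.symm)
        have hud : orderOf (u ^ d) = 7 := by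
          rw [orderOf_pow' _ (by omega), hu7]
          have : Nat.gcd 7 d = 1 := (Nat.prime_seven.coprime_iff_not_dvd.2 fun hd => by
            have := Nat.le_of_dvd (by omega) hd; omega)
          rw [this]
        exact hz1' (fpf S 7 (Or.inr rfl) (u ^ d) hud z z.2 h1)
      intro i j e
      have e' : u ^ (i : ℕ) * (z : G) * (u ^ (i : ℕ))⁻¹ = u ^ (j : ℕ) * (z : G) * (u ^ (j : ℕ))⁻¹ :=
        congrArg (fun v : {v : (S : Subgroup G) // v ≠ 1} => ((v.1 : (S : Subgroup G)) : G)) e
      rcases le_total (i : ℕ) j with hle | hle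
      · exact Fin.ext (key i j hle j.2 e')
      · exact Fin.ext (key j i hle i.2 e'.symm).symm
    haveI := Fintype.ofFinite (S : Subgroup G)
    have hbij := (Fintype.bijective_iff_injective_and_card _).2 ⟨hinj, by
      rw [Fintype.card_fin, Fintype.card_subtype_compl, Fintype.card_subtype_eq, ← Nat.card_eq_fintype_card, hS2]⟩
    obtain ⟨i, hi⟩ := hbij.2 ⟨⟨t, ht⟩, fun e => ht1 (congrArg Subtype.val e)⟩
    have hti : u ^ (i : ℕ) * (z : G) * (u ^ (i : ℕ))⁻¹ = t := congrArg (fun v : {v : (S : Subgroup G) // v ≠ 1} => ((v.1 : (S : Subgroup G)) : G)) hi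
    have hzcen : ∀ v ∈ (S : Subgroup G), v * (z : G) = z * v := fun v hv =>
      congrArg Subtype.val (Subgroup.mem_center_iff.1 hzc ⟨v, hv⟩)
    have hcen : ∀ v ∈ (S : Subgroup G), v * t = t * v := fun v hv => by
      set g := u ^ (i : ℕ)
      have h1 := hzcen _ ((Subgroup.mem_normalizer_iff''.1 (Subgroup.pow_mem _ huN i) v).1 hv)
      rw [← hti]
      calc v * (g * z * g⁻¹) = g * (g⁻¹ * v * g * z) * g⁻¹ := by group
        _ = g * ((z : G) * (g⁻¹ * v * g)) * g⁻¹ := by rw [h1]
        _ = g * z * g⁻¹ * v := by group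
    obtain ⟨k, hk⟩ := IsPGroup.iff_orderOf.1 S.2 ⟨t, ht⟩
    rw [Subgroup.orderOf_mk] at hk
    have hk0 : k ≠ 0 := fun e => ht1 (by rwa [e, pow_zero, orderOf_eq_one_iff] at hk)
    have hw : orderOf (t ^ (2 ^ (k - 1))) = 2 := by
      rw [orderOf_pow' _ (by positivity), hk, Nat.gcd_eq_right (Nat.pow_dvd_pow 2 (by omega))]
      rw [Nat.pow_div (by omega) two_pos, show k - (k - 1) = 1 by omega, pow_one]
    have hp : IsPGroup 2 (Subgroup.centralizer ({t} : Set G)) := (two_cen _ hw).to_le fun v hv => by
      rw [Subgroup.mem_centralizer_singleton_iff] at hv ⊢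
      exact (Commute.pow_right hv _).eq
    exact S.is_maximal' hp fun v hv => Subgroup.mem_centralizer_singleton_iff.2 (hcen v hv)
  exact iso_psl_char_two (f := 3) (by norm_num) hn2 (by rw [h]; norm_num) (fun S => by rw [hS2]; norm_num) hC
    (by rw [hF]; norm_num)

end Cfsg.Agent.S1011
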