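import Cfsg.Statements.S1012

import Mathlib

set_option autoImplicit false
set_option linter.style.haveILetI false
open Cfsg

namespace Cfsg.Agent.S1012

/-- A group of order 24 containing no element of order 6 is isomorphic to the symmetric group of degree 4. -/
theorem result {G : Type*} [Group G] [Finite G] (h : Nat.card G = 24) (h6 : ∀ g : G, orderOf g ≠ 6) : Nonempty (G ≃* Equiv.Perm (Fin 4)) := by
  classical
  haveI : Fact (Nat.Prime 3) := ⟨Nat.prime_three⟩
  haveI : Fact (Nat.Prime 2) := ⟨Nat.prime_two⟩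
  have hcomm : ∀ x y : G, orderOf x = 3 → orderOf y = 2 → ¬ Commute x y := fun x y hx hy hc =>
    h6 (x * y) (by rw [hc.orderOf_mul_eq_mul_orderOf_of_coprime (by rw [hx, hy]; decide), hx, hy])
  obtain ⟨P⟩ : Nonempty (Sylow 3 G) := inferInstance
  have hP : Nat.card P = 3 := by
    refine P.card_eq_multiplicity.trans ?_
    rw [h, show (24 : ℕ) = 2 ^ 3 * 3 by norm_num, Nat.factorization_mul (by norm_num) (by norm_num)]
    rw [Finsupp.add_apply, Nat.factorization_pow, Finsupp.smul_apply, Nat.factorization_eq_zero_of_not_dvd (n := 2) (by norm_num : ¬ 3 ∣ 2),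
      Nat.Prime.factorization_self Nat.prime_three]
    norm_num
  set N := Subgroup.normalizer ((P : Subgroup G) : Set G)
  set C := Subgroup.centralizer ((P : Subgroup G) : Set G)
  obtain ⟨x, hx⟩ := exists_prime_orderOf_dvd_card' (G := P) 3 (dvd_of_eq hP.symm)
  have hx3 : orderOf (x : G) = 3 := by rw [Subgroup.orderOf_coe, hx]
  have hC : ¬ 2 ∣ Nat.card C := fun hd => by
    obtain ⟨y, hy⟩ := exists_prime_orderOf_dvd_card' 2 hd
    exact hcomm x y hx3 (by rw [Subgroup.orderOf_coe, hy]) (Subgroup.mem_centralizer_iff.1 y.2 x x.2)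
  have hidx : (C.subgroupOf N).index ∣ 2 := by
    haveI : IsCyclic P := isCyclic_of_prime_card hP
    rw [← Subgroup.normalizerMonoidHom_ker, Subgroup.index_ker]
    refine (Subgroup.card_subgroup_dvd_card _).trans ?_
    rw [IsCyclic.card_mulAut, hP]
    decide
  have hN : Nat.card N ∣ 6 := by
    rw [← (C.subgroupOf N).card_mul_index, show (6 : ℕ) = 3 * 2 from rfl,
      Nat.card_congr (Subgroup.subgroupOfEquivOfLe (Subgroup.centralizer_le_normalizer _)).toEquiv]
    refine mul_dvd_mul ?_ hidx
    have h24 : Nat.card C ∣ 2 ^ 3 * 3 := by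
      have := C.card_subgroup_dvd_card
      rwa [h] at this
    exact Nat.Coprime.dvd_of_dvd_mul_left (Nat.Coprime.pow_right 3 ((Nat.prime_two.coprime_iff_not_dvd.2 hC).symm)) h24
  have hn : Nat.card (Sylow 3 G) = 4 := by
    have e := (N.index_mul_card).trans h
    have h1 := card_sylow_modEq_one 3 G
    rw [Sylow.card_eq_index_normalizer P] at h1 ⊢
    have hd : N.index ∣ 8 := by
      have h2 : N.index ∣ 2 ^ 3 * 3 := by
        rw [show (2:ℕ)^3*3 = 24 by norm_num, ← e]; exact dvd_mul_right _ _
      refine Nat.Coprime.dvd_of_dvd_mul_right (Nat.Coprime.symm (Nat.prime_three.coprime_iff_not_dvd.2 ?_)) h2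
      exact fun hd => P.not_dvd_index (hd.trans (Subgroup.index_dvd_of_le Subgroup.le_normalizer))
    have h4 : 4 ≤ N.index := by
      have := Nat.le_of_dvd (by norm_num) hN
      nlinarith
    have h8 := Nat.le_of_dvd (by norm_num) hd
    unfold Nat.ModEq at h1
    interval_cases hi : N.index <;> omega
  let φ := MulAction.toPermHom G (Sylow 3 G)
  have hker : φ.ker = ⊥ := by
    have hle : φ.ker ≤ N := fun g hg => by
      have e := Equiv.ext_iff.1 (MonoidHom.mem_ker.1 hg) P
      exact Sylow.smul_eq_iff_mem_normalizer.1 e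
    have hd6 : Nat.card φ.ker ∣ 6 := (Subgroup.card_dvd_of_le hle).trans hN
    by_contra hne
    have h3 : ¬ 3 ∣ Nat.card φ.ker := by
      intro hd
      obtain ⟨y, hy⟩ := exists_prime_orderOf_dvd_card' 3 hd
      have key : ∀ Q : Sylow 3 G, (Q : Subgroup G) = Subgroup.zpowers (y : G) := by
        intro Q
        obtain ⟨g, rfl⟩ := MulAction.exists_smul_eq G P Q
        have hyN : (y : G) ∈ Subgroup.normalizer ((g • P : Sylow 3 G) : Set G) := by
          have e := Equiv.ext_iff.1 (MonoidHom.mem_ker.1 y.2) (g • P)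
          exact Sylow.smul_eq_iff_mem_normalizer.1 e
        have hyQ : (y : G) ∈ ((g • P : Sylow 3 G) : Subgroup G) := by
          have hp : IsPGroup 3 (Subgroup.zpowers (y : G)) := IsPGroup.of_card (n := 1) (by rw [Nat.card_zpowers, Subgroup.orderOf_coe, hy, pow_one])
          have hle' := hp.inf_normalizer_sylow (g • P)
          exact (Subgroup.mem_inf.1 (hle'.le ⟨Subgroup.mem_zpowers _, hyN⟩)).2
        refine (Subgroup.eq_of_le_of_card_ge (Subgroup.zpowers_le.2 hyQ) ?_).symm
        rw [Nat.card_zpowers, Subgroup.orderOf_coe, hy]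
        exact le_of_eq ((Sylow.card_eq_multiplicity _).trans (P.card_eq_multiplicity.symm.trans hP))
      have : Nat.card (Sylow 3 G) ≤ 1 := Finite.card_le_one_iff_subsingleton.2 ⟨fun Q R => Sylow.ext ((key Q).trans (key R).symm)⟩
      omega
    have h2 : Nat.card φ.ker = 2 := by
      have h2' : Nat.card φ.ker ∣ 2 := Nat.Coprime.dvd_of_dvd_mul_left (Nat.prime_three.coprime_iff_not_dvd.2 h3).symm (show _ ∣ 3 * 2 from hd6)
      rcases (Nat.dvd_prime Nat.prime_two).1 h2' with e | e
      · exact absurd (Subgroup.card_eq_one.1 e) hne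
      · exact e
    obtain ⟨y, hy⟩ := exists_prime_orderOf_dvd_card' (G := φ.ker) 2 (dvd_of_eq h2.symm)
    refine hcomm x y hx3 (by rw [Subgroup.orderOf_coe, hy]) ?_
    have hc : ∀ z : φ.ker, z = 1 ∨ z = y := by
      intro z
      by_contra hz
      push Not at hz
      haveI := Fintype.ofFinite φ.ker
      have hne1 : y ≠ 1 := fun e => by rw [e, orderOf_one] at hy; omega
      have hle3 := Finset.card_le_univ ({1, y, z} : Finset φ.ker)
      rw [Finset.card_insert_of_notMem (by simp [hne1.symm, hz.1.symm]), Finset.card_insert_of_notMem (by simp [hz.2.symm]),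
        Finset.card_singleton, ← Nat.card_eq_fintype_card, h2] at hle3
      omega
    have hconj := φ.normal_ker.conj_mem y y.2 x
    rcases hc ⟨_, hconj⟩ with e | e
    · have e' : (x : G) * y * (x : G)⁻¹ = 1 := congrArg Subtype.val e
      rw [conj_eq_one_iff] at e'
      rw [← Subgroup.orderOf_coe, e', orderOf_one] at hy
      omega
    · have e' : (x : G) * y * (x : G)⁻¹ = y := congrArg Subtype.val e
      show (x : G) * y = y * x
      calc (x : G) * y = (x : G) * y * (x : G)⁻¹ * x := by group
        _ = y * x := by rw [e']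
  have hinj : Function.Injective φ := (MonoidHom.ker_eq_bot_iff φ).1 hker
  have hcard : Nat.card G = Nat.card (Equiv.Perm (Sylow 3 G)) := by
    rw [h, Nat.card_perm, hn]; decide
  exact ⟨(MulEquiv.ofBijective φ ((Nat.bijective_iff_injective_and_card φ).2 ⟨hinj, hcard⟩)).trans
    (Finite.equivFinOfCardEq hn).permCongrHom⟩

end Cfsg.Agent.S1012
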