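import Cfsg.Statements.S1013

import Mathlib

set_option autoImplicit false
set_option linter.style.haveILetI false
open Cfsg

namespace Cfsg.Agent.S1013

/-- Let G be a transitive permutation group of prime degree p having more than one Sylow p-subgroup, and suppose a Sylow p-subgroup P has prime index in its normalizer. Then G is simple. -/
theorem result {α : Type*} [Fintype α] [DecidableEq α] {p : ℕ} [Fact p.Prime] (hα : Fintype.card α = p) (G : Subgroup (Equiv.Perm α)) [MulAction.IsPretransitive ↥G α] (P : Sylow p ↥G) (hn : 1 < Nat.card (Sylow p ↥G)) (ht : (((P : Subgroup ↥G).subgroupOf (Subgroup.normalizer ((P : Subgroup ↥G) : Set ↥G))).index).Prime) : IsSimpleGroup ↥G := by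
  classical
  have hp : p.Prime := Fact.out
  haveI : Nontrivial G := by
    by_contra h
    rw [not_nontrivial_iff_subsingleton] at h
    have : Subsingleton (Sylow p G) := ⟨fun A B => Sylow.ext (Subsingleton.elim _ _)⟩
    have := Finite.card_le_one_iff_subsingleton.mpr this
    omega
  have hpG : p ∣ Nat.card G := by
    obtain ⟨a⟩ : Nonempty α := Fintype.card_pos_iff.mp (hα.symm ▸ hp.pos)
    have h := MulAction.index_stabilizer_of_transitive G a
    rw [Nat.card_eq_fintype_card (α := α), hα] at h
    exact h ▸ Subgroup.index_dvd_card _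
  have hfac : (Nat.card G).factorization p = 1 := by
    have h1 : Nat.card G ∣ p.factorial := by
      have h := Subgroup.card_subgroup_dvd_card G
      rwa [Nat.card_perm, Nat.card_eq_fintype_card (α := α), hα] at h
    have h2 := (Nat.factorization_le_iff_dvd Nat.card_pos.ne' (Nat.factorial_ne_zero p)).mpr h1 p
    have h3 : p.factorial.factorization p = 1 := by
      obtain ⟨q, hq⟩ : ∃ q, p = q + 1 := ⟨p - 1, by have := hp.one_le; omega⟩
      conv_lhs => arg 1; arg 1; rw [hq]
      rw [Nat.factorial_succ, ← hq, Nat.factorization_mul hp.ne_zero (Nat.factorial_ne_zero q),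
        Finsupp.add_apply, hp.factorization_self, Nat.factorization_eq_zero_of_not_dvd]
      rw [hp.dvd_factorial]
      omega
    have := hp.factorization_pos_of_dvd Nat.card_pos.ne' hpG
    omega
  have hPc : Nat.card (P : Subgroup G) = p := by rw [P.card_eq_multiplicity, hfac, pow_one]
  haveI : Nontrivial α := Fintype.one_lt_card_iff_nontrivial.mp (hα.symm ▸ hp.one_lt)
  haveI : MulAction.IsPreprimitive G α := MulAction.IsPreprimitive.of_prime_card (by
    rw [Nat.card_eq_fintype_card, hα]; exact hp)
  have hdvd : ∀ L : Subgroup G, L.Normal → L ≠ ⊥ → p ∣ Nat.card L := by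
    intro L hL hne
    haveI := hL
    haveI : MulAction.IsPretransitive L α :=
      MulAction.IsQuasiPreprimitive.isPretransitive_of_normal (G := G) fun h => hne (by
        rw [Subgroup.eq_bot_iff_forall]
        intro u hu
        apply Subtype.ext
        apply Equiv.ext
        intro x
        exact (Set.eq_univ_iff_forall.mp h x) ⟨u, hu⟩)
    obtain ⟨a⟩ : Nonempty α := inferInstance
    have h := MulAction.index_stabilizer_of_transitive L a
    rw [Nat.card_eq_fintype_card (α := α), hα] at h
    exact h ▸ Subgroup.index_dvd_card _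
  refine ⟨fun M hM => ?_⟩
  by_contra hcon
  push Not at hcon
  have hpM := hdvd M hM hcon.1
  have hidx : ¬ p ∣ M.index := by
    intro h
    have h1 : p * p ∣ Nat.card G := M.card_mul_index ▸ Nat.mul_dvd_mul hpM h
    rw [← pow_two, hp.pow_dvd_iff_le_factorization Nat.card_pos.ne', hfac] at h1
    omega
  haveI := hM
  have hPM : (P : Subgroup G) ≤ M := by
    intro u hu
    rw [← QuotientGroup.eq_one_iff, ← orderOf_eq_one_iff]
    have h1 : orderOf (QuotientGroup.mk u : G ⧸ M) ∣ p :=
      (orderOf_map_dvd (QuotientGroup.mk' M) u).trans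
        ((Subgroup.orderOf_dvd_natCard _ hu).trans hPc.dvd)
    rcases (Nat.dvd_prime hp).mp h1 with h | h
    · exact h
    · exact absurd (h ▸ (orderOf_dvd_natCard (QuotientGroup.mk u : G ⧸ M))) hidx
  set N := Subgroup.normalizer ((P : Subgroup G) : Set G) with hN
  have hfr : N ⊔ M = ⊤ := by
    have h := Sylow.normalizer_sup_eq_top (P.subtype hPM)
    have h9 : ((P.subtype hPM : Sylow p M) : Subgroup M).map M.subtype = (P : Subgroup G) := by
      rw [Sylow.coe_subtype, Subgroup.map_subgroupOf_eq_of_le hPM]
    rw [h9] at h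
    exact h
  have hPN : (P : Subgroup G) ≤ N ⊓ M := le_inf Subgroup.le_normalizer hPM
  have hmul := Subgroup.relIndex_mul_relIndex (P : Subgroup G) (N ⊓ M) N hPN inf_le_left
  have hNM : N ⊓ M = (P : Subgroup G) := by
    rcases (Nat.dvd_prime ht).mp (Dvd.intro _ hmul) with h | h
    · exact (le_antisymm hPN (Subgroup.relIndex_eq_one.mp h)).symm
    · exfalso
      apply hcon.2
      have h1 : (N ⊓ M).relIndex N = 1 := by
        have h2 : 0 < (P : Subgroup G).relIndex N := ht.pos
        rw [h] at hmul
        exact Nat.eq_of_mul_eq_mul_left h2 (hmul.trans (mul_one _).symm)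
      have h3 : N ≤ M := (Subgroup.relIndex_eq_one.mp h1).trans inf_le_right
      rw [← hfr, sup_eq_right.mpr h3]
  set PM : Sylow p M := P.subtype hPM with hPM'
  have hle : Subgroup.normalizer ((PM : Subgroup M) : Set M) ≤ Subgroup.centralizer ((PM : Subgroup M) : Set M) := by
    intro u hu
    have huP : (u : G) ∈ (P : Subgroup G) := by
      rw [← hNM]
      refine ⟨?_, u.2⟩
      rw [hPM', Sylow.coe_subtype, ← Subgroup.subgroupOf_normalizer_eq hPM] at hu
      exact hu
    rw [Subgroup.mem_centralizer_iff]
    intro v hv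
    haveI : IsCyclic (P : Subgroup G) := isCyclic_of_prime_card hPc
    letI : CommGroup (P : Subgroup G) := IsCyclic.commGroup
    apply Subtype.ext
    show (v : G) * (u : G) = (u : G) * (v : G)
    exact congrArg Subtype.val (mul_comm (⟨(v : G), hv⟩ : (P : Subgroup G)) ⟨u, huP⟩)
  have hcomp := MonoidHom.ker_transferSylow_isComplement' PM hle
  set K := (MonoidHom.transferSylow PM hle).ker with hK
  have hPMc : Nat.card (PM : Subgroup M) = p := by
    rw [hPM', Sylow.coe_subtype, Nat.card_congr (Subgroup.subgroupOfEquivOfLe hPM).toEquiv, hPc]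
  have hKi : K.index = p := by rw [hcomp.symm.index_eq_card, hPMc]
  have hKc : ¬ p ∣ Nat.card K := by
    intro h
    have h1 : p * p ∣ Nat.card M := K.card_mul_index ▸ Nat.mul_dvd_mul h hKi.symm.dvd
    have h4 : p * p ∣ Nat.card G := h1.trans (Subgroup.card_subgroup_dvd_card M)
    rw [← pow_two, hp.pow_dvd_iff_le_factorization Nat.card_pos.ne', hfac] at h4
    omega
  have hKmem : ∀ u : M, ¬ p ∣ orderOf u → u ∈ K := by
    intro u hu
    rw [← QuotientGroup.eq_one_iff, ← orderOf_eq_one_iff]
    have h1 : orderOf (QuotientGroup.mk u : M ⧸ K) ∣ p := (orderOf_dvd_natCard _).trans hKi.dvd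
    rcases (Nat.dvd_prime hp).mp h1 with h | h
    · exact h
    · exact absurd (h ▸ orderOf_map_dvd (QuotientGroup.mk' K) u) hu
  have hKn : (K.map M.subtype).Normal := by
    constructor
    rintro _ ⟨u, hu, rfl⟩ g
    refine ⟨MulAut.conjNormal g u, hKmem _ ?_, by simp⟩
    rw [MulEquiv.orderOf_eq]
    exact fun h => hKc (h.trans (Subgroup.orderOf_dvd_natCard _ hu))
  by_cases hKb : K.map M.subtype = ⊥
  · have hKb' : K = ⊥ := (Subgroup.map_eq_bot_iff_of_injective _ M.subtype_injective).mp hKb
    rw [hKb', Subgroup.index_bot] at hKi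
    have hMP : (P : Subgroup G) = M := Subgroup.eq_of_le_of_card_ge hPM (hKi.trans hPc.symm).le
    haveI : (P : Subgroup G).Normal := hMP ▸ hM
    haveI := Sylow.unique_of_normal P inferInstance
    simp [Nat.card_unique] at hn
  · exact hKc (Subgroup.card_subtype (K := M) (L := K) ▸ hdvd _ hKn hKb)

end Cfsg.Agent.S1013
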