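import Cfsg.Statements.S1015

import Mathlib
import Cfsg.Agent.Perm.SimpleOrder
import Cfsg.Agent.S0985

set_option autoImplicit false
set_option linter.style.haveILetI false
open Cfsg

namespace Cfsg.Agent.S1015

/-- No finite simple group has order 1200 = 2^4 * 3 * 5^2. -/
theorem result {G : Type*} [Group G] [Finite G] [IsSimpleGroup G] : Nat.card G ≠ 1200 := by
  classical
  intro hG
  have hc : ¬ IsMulCommutative G := CfsgLib.Perm.SimpleOrder.not_comm (by rw [hG]; norm_num)
  haveI : Fact (Nat.Prime 5) := ⟨by norm_num⟩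
  have hPc : ∀ P : Sylow 5 G, Nat.card (P : Subgroup G) = 25 := fun P => by
    rw [P.card_eq_multiplicity, hG, show (1200 : ℕ) = 5 ^ 2 * 48 by norm_num,
      Nat.factorization_mul (by norm_num) (by norm_num), Finsupp.add_apply,
      Nat.factorization_pow_self (by norm_num : Nat.Prime 5),
      Nat.factorization_eq_zero_of_not_dvd (by norm_num : ¬ 5 ∣ 48)]
    norm_num
  let P₀ : Sylow 5 G := default
  have hd := CfsgLib.Perm.SylowPrime.card_sylow_dvd P₀ (m := 48) (by rw [hPc, hG])
  have hmod := card_sylow_modEq_one 5 G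
  have hf := CfsgLib.Perm.SylowPrime.card_dvd_factorial (p := 5) hc (by rw [hG]; norm_num)
  have hn : Nat.card (Sylow 5 G) = 16 := by
    generalize Nat.card (Sylow 5 G) = n at *
    have hle := Nat.le_of_dvd (by norm_num) hd
    rw [hG] at hf
    unfold Nat.ModEq at hmod
    by_contra hne
    interval_cases n <;> simp_all (config := { decide := true })
  obtain ⟨P, R, hPR, hPRi⟩ := Cfsg.Agent.S0985.result (G := G) 5 2 (by
    rw [hn]; decide)
  set D := (P : Subgroup G) ⊓ (R : Subgroup G) with hD
  have hDc : Nat.card D = 5 := by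
    have h1 := ((R : Subgroup G).subgroupOf (P : Subgroup G)).card_mul_index
    have h2 : Nat.card ((R : Subgroup G).subgroupOf (P : Subgroup G)) = Nat.card D :=
      Nat.card_congr ⟨fun u => ⟨u.1.1, u.1.2, u.2⟩, fun u => ⟨⟨u.1, u.2.1⟩, u.2.2⟩, fun _ => rfl, fun _ => rfl⟩
    rw [h2, hPc] at h1
    have h3 : Nat.card D ∣ 5 ^ 2 := Dvd.intro _ h1
    obtain ⟨i, hi, hiD⟩ := (Nat.dvd_prime_pow (by norm_num)).mp h3
    interval_cases i <;> simp at hiD <;> rw [hiD] at h1 ⊢ <;> norm_num at hPRi h1
    · omega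
    · exfalso
      apply hPR
      have h4 : D = (P : Subgroup G) := Subgroup.eq_of_le_of_card_ge inf_le_left
        (by rw [hPc, hiD])
      exact (Sylow.ext (P.3 R.isPGroup' (h4 ▸ inf_le_right))).symm
  set N := Subgroup.normalizer (D : Set G) with hN
  have hle : ∀ S : Sylow 5 G, D ≤ (S : Subgroup G) → (S : Subgroup G) ≤ N := by
    intro S hS x hx
    refine Subgroup.centralizer_le_normalizer _ ?_
    haveI : IsMulCommutative (S : Subgroup G) :=
      IsPGroup.isMulCommutative_of_card_eq_prime_sq (p := 5) (by rw [hPc]; norm_num)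
    rw [Subgroup.mem_centralizer_iff]
    intro d hd
    exact congrArg Subtype.val (IsMulCommutative.is_comm.comm (⟨d, hS hd⟩ : (S : Subgroup G)) ⟨x, hx⟩)
  have hPN := hle P inf_le_left
  have hRN := hle R inf_le_right
  have hNtop : N ≠ ⊤ := by
    intro h
    haveI : D.Normal := Subgroup.normalizer_eq_top_iff.mp h
    rcases (inferInstance : D.Normal).eq_bot_or_eq_top with h1 | h1
    · rw [h1, Subgroup.card_bot] at hDc; omega
    · rw [h1, Subgroup.card_top, hG] at hDc; omega
  have hidx := CfsgLib.Perm.SimpleOrder.card_dvd_index_factorial hc hNtop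
  rw [hG] at hidx
  have h6 : 6 ≤ Nat.card (Sylow 5 N) := by
    have hne : P.subtype hPN ≠ R.subtype hRN := fun h => hPR (by
      apply Sylow.ext
      have h2 := congrArg (fun S : Sylow 5 N => (S : Subgroup N).map N.subtype) h
      simpa [Sylow.coe_subtype, hPN, hRN] using h2)
    haveI : Nontrivial (Sylow 5 N) := ⟨⟨_, _, hne⟩⟩
    have h3 := Finite.one_lt_card (α := Sylow 5 N)
    have h4 := card_sylow_modEq_one 5 N
    unfold Nat.ModEq at h4
    omega
  have h5 : Nat.card (Sylow 5 N) * 25 ∣ Nat.card N := by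
    have h7 := (P.subtype hPN).card_dvd_index
    have h8 : Nat.card ((P.subtype hPN : Sylow 5 N) : Subgroup N) = 25 := by
      rw [Sylow.coe_subtype, Nat.card_congr (Subgroup.subgroupOfEquivOfLe hPN).toEquiv, hPc]
    have h9 := ((P.subtype hPN : Sylow 5 N) : Subgroup N).card_mul_index
    rw [h8] at h9
    rw [← h9, mul_comm 25]
    exact Nat.mul_dvd_mul_right h7 25
  have hNi := N.card_mul_index
  rw [hG] at hNi
  have hle8 : N.index ≤ 8 := by
    have h10 := Nat.le_of_dvd Nat.card_pos h5
    nlinarith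
  have h11 := hidx.trans (Nat.factorial_dvd_factorial hle8)
  exact absurd h11 (by decide +kernel)

end Cfsg.Agent.S1015
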