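import Cfsg.Statements.S1018

import Mathlib

set_option autoImplicit false
set_option linter.style.haveILetI false
open Cfsg

namespace Cfsg.Agent.S1018
open scoped Pointwise

/-- Let P be a Sylow p-subgroup of order p of a finite group G, and consider the action of G on the left cosets of the normalizer N of P. Then every element of order p fixes exactly one coset, and an element of N that does not centralize P fixes at most as many cosets as there are orbits of P. -/
theorem result {G : Type*} [Group G] [Finite G] (p : ℕ) [Fact p.Prime] (P : Sylow p G) (hP : Nat.card ↥(P : Subgroup G) = p) : (∀ y : G, orderOf y = p → Nat.card (MulAction.fixedBy (G ⧸ Subgroup.normalizer ((P : Subgroup G) : Set G)) y) = 1) ∧ ∀ x : G, x ∈ Subgroup.normalizer ((P : Subgroup G) : Set G) → x ∉ Subgroup.centralizer ((P : Subgroup G) : Set G) → Nat.card (MulAction.fixedBy (G ⧸ Subgroup.normalizer ((P : Subgroup G) : Set G)) x) ≤ Nat.card (MulAction.orbitRel.Quotient ↥(P : Subgroup G) (G ⧸ Subgroup.normalizer ((P : Subgroup G) : Set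 G))) := by
  classical
  set N := Subgroup.normalizer ((P : Subgroup G) : Set G) with hN
  have hfix : ∀ (u g : G), u • ((g : G ⧸ N)) = (g : G ⧸ N) ↔ g⁻¹ * u * g ∈ N := by
    intro u g
    show ((u * g : G) : G ⧸ N) = (g : G ⧸ N) ↔ _
    rw [eq_comm, QuotientGroup.eq, mul_assoc]
  have hzp : ∀ u : G, orderOf u = p → u ∈ N → Subgroup.zpowers u = P := by
    intro u hu huN
    have h1 : IsPGroup p (Subgroup.zpowers u) :=
      IsPGroup.of_card (n := 1) (by rw [Nat.card_zpowers, hu, pow_one])
    have h2 := h1.inf_normalizer_sylow P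
    have h3 : Subgroup.zpowers u ≤ (P : Subgroup G) := by
      refine ((le_inf le_rfl (Subgroup.zpowers_le.mpr huN)).trans h2.le).trans inf_le_right
    refine Subgroup.eq_of_le_of_card_ge h3 ?_
    rw [hP, Nat.card_zpowers, hu]
  have hone : ∀ y : G, orderOf y = p → ∀ g k : G, g⁻¹ * y * g ∈ N → k⁻¹ * y * k ∈ N →
      (g : G ⧸ N) = (k : G ⧸ N) := by
    intro y hy g k hg hk
    have ho : ∀ g : G, orderOf (g⁻¹ * y * g) = p := fun g => by
      have := MulEquiv.orderOf_eq (MulAut.conj g⁻¹) y
      rw [MulAut.conj_apply, inv_inv, hy] at this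
      exact this
    have h1 := hzp _ (ho g) hg
    have h2 := hzp _ (ho k) hk
    have hmap : ∀ g : G, g⁻¹ * y * g ∈ N →
        (Subgroup.zpowers y).map (MulAut.conj g⁻¹).toMonoidHom = P := by
      intro g hg
      rw [MonoidHom.map_zpowers]
      show Subgroup.zpowers (g⁻¹ * y * g⁻¹⁻¹) = _
      rw [inv_inv]
      exact hzp _ (ho g) hg
    rw [QuotientGroup.eq, hN, Subgroup.mem_normalizer_iff]
    intro u
    have hg' := hmap g hg
    have hk' := hmap k hk
    have key : ∀ (g v : G), (Subgroup.zpowers y).map (MulAut.conj g⁻¹).toMonoidHom = P →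
        (v ∈ (P : Subgroup G) ↔ g * v * g⁻¹ ∈ Subgroup.zpowers y) := by
      intro g v h
      rw [← h, Subgroup.mem_map]
      constructor
      · rintro ⟨w, hw, rfl⟩
        simpa [mul_assoc] using hw
      · intro hw
        exact ⟨_, hw, by simp [mul_assoc]⟩
    rw [key k u hk', key g _ hg']
    simp [mul_assoc]
  refine ⟨fun y hy => ?_, fun x hxN hxC => ?_⟩
  · obtain ⟨c, hc⟩ : ∃ c : G, c⁻¹ * y * c ∈ N := by
      have hQ : Nat.card (Subgroup.zpowers y) = p ^ 1 := by rw [Nat.card_zpowers, hy, pow_one]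
      obtain ⟨Q, hQle⟩ := (IsPGroup.of_card hQ).exists_le_sylow
      obtain ⟨c, hc⟩ := MulAction.exists_smul_eq G P Q
      refine ⟨c, ?_⟩
      have h1 : y ∈ ((c • P : Sylow p G) : Subgroup G) := hc ▸ hQle (Subgroup.mem_zpowers y)
      rw [Sylow.coe_subgroup_smul, Subgroup.mem_pointwise_smul_iff_inv_smul_mem] at h1
      have h2 : c⁻¹ * y * c ∈ (P : Subgroup G) := by simpa using h1
      exact Subgroup.le_normalizer h2
    rw [Nat.card_eq_one_iff_unique]
    refine ⟨⟨?_⟩, ⟨⟨(c : G ⧸ N), (hfix y c).mpr hc⟩⟩⟩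
    rintro ⟨a, ha⟩ ⟨b, hb⟩
    apply Subtype.ext
    induction a using QuotientGroup.induction_on with
    | H g =>
      induction b using QuotientGroup.induction_on with
      | H k => exact hone y hy g k ((hfix y g).mp ha) ((hfix y k).mp hb)
  · haveI : Finite (MulAction.orbitRel.Quotient (P : Subgroup G) (G ⧸ N)) := Quotient.finite _
    refine Nat.card_le_card_of_injective
      (fun ω : MulAction.fixedBy (G ⧸ N) x => (Quotient.mk'' ω.1 :
        MulAction.orbitRel.Quotient (P : Subgroup G) (G ⧸ N))) ?_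
    rintro ⟨a, ha⟩ ⟨b, hb⟩ hab
    apply Subtype.ext
    obtain ⟨u, hu⟩ := MulAction.orbitRel_apply.mp (Quotient.eq''.mp hab)
    show a = b
    have hua : (u : G) • b = a := hu
    by_cases hu1 : (u : G) = 1
    · rw [← hua, hu1, one_smul]
    have ha' : x • a = a := ha
    have hb' : x • b = b := hb
    set v : G := (u : G)⁻¹ * (x * (u : G) * x⁻¹) with hv
    have hvP : v ∈ (P : Subgroup G) := (P : Subgroup G).mul_mem ((P : Subgroup G).inv_mem u.2)
      ((Subgroup.mem_normalizer_iff.mp hxN _).mp u.2)
    have hvb : v • b = b := by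
      have h1 : x⁻¹ • b = b := by rw [inv_smul_eq_iff, hb']
      rw [hv, mul_smul, mul_smul, mul_smul, h1, hua, ha', inv_smul_eq_iff, hua]
    have hordP : ∀ w ∈ (P : Subgroup G), w ≠ 1 → orderOf w = p := by
      intro w hw hw1
      have h1 : orderOf w ∣ p := hP ▸ Subgroup.orderOf_dvd_natCard _ hw
      rcases (Nat.dvd_prime Fact.out).mp h1 with h | h
      · exact absurd (orderOf_eq_one_iff.mp h) hw1
      · exact h
    by_cases hv1 : v = 1
    · exfalso
      apply hxC
      rw [Subgroup.mem_centralizer_iff]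
      intro w hw
      have hcom : Commute (u : G) x := by
        rw [hv, inv_mul_eq_one, eq_mul_inv_iff_mul_eq] at hv1
        exact hv1
      have hgen := hzp (u : G) (hordP _ u.2 hu1) (Subgroup.le_normalizer u.2)
      have hw' : w ∈ Subgroup.zpowers (u : G) := hgen.symm ▸ hw
      obtain ⟨i, rfl⟩ := Subgroup.mem_zpowers_iff.mp hw'
      exact (hcom.zpow_left i).eq
    · have hbase : ∀ w ∈ (P : Subgroup G), w • ((1 : G) : G ⧸ N) = ((1 : G) : G ⧸ N) :=
        fun w hw => (hfix w 1).mpr (by rw [inv_one, one_mul, mul_one]; exact Subgroup.le_normalizer hw)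
      have hb1 : b = ((1 : G) : G ⧸ N) := by
        induction b using QuotientGroup.induction_on with
        | H k =>
          exact hone v (hordP v hvP hv1) k 1 ((hfix v k).mp hvb)
            (by rw [inv_one, one_mul, mul_one]; exact Subgroup.le_normalizer hvP)
      rw [← hua, hb1, hbase _ u.2]

end Cfsg.Agent.S1018
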