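import Cfsg.Statements.S1019

import Mathlib

set_option autoImplicit false
set_option linter.style.haveILetI false
open Cfsg

namespace Cfsg.Agent.S1019
open scoped Pointwise

/-- Let H be a subgroup of a finite group G and x an element of H. In the action of G on the left cosets of H, the number of cosets fixed by x, multiplied by the size of the conjugacy class of x, equals the index of H multiplied by the number of conjugates of x that lie in H. -/
theorem result {G : Type*} [Group G] [Finite G] (H : Subgroup G) (x : G) (hx : x ∈ H) : Nat.card (MulAction.fixedBy (G ⧸ H) x) * Nat.card {g : G // IsConj x g} = H.index * Nat.card {g : G // IsConj x g ∧ g ∈ H} := by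
  classical
  let C := Subgroup.centralizer ({x} : Set G)
  have hCmem : ∀ u : G, u ∈ C ↔ u * x = x * u := fun u =>
    Subgroup.mem_centralizer_singleton_iff
  have hA : ∀ (P : G → Prop), Nat.card {g : G // P (g⁻¹ * x * g)}
      = Nat.card {y : G // IsConj x y ∧ P y} * Nat.card C := by
    intro P
    have hc : ∀ y : {y : G // IsConj x y ∧ P y}, ∃ c : G, c⁻¹ * x * c = y.1 := by
      intro y
      obtain ⟨c, hc⟩ := isConj_iff.mp y.2.1
      exact ⟨c⁻¹, by rw [inv_inv]; exact hc⟩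
    choose c hc using hc
    rw [← Nat.card_prod]
    refine Nat.card_eq_of_bijective (fun g =>
      (⟨g.1⁻¹ * x * g.1, isConj_iff.mpr ⟨g.1⁻¹, by rw [inv_inv]⟩, g.2⟩,
        ⟨g.1 * (c ⟨g.1⁻¹ * x * g.1, isConj_iff.mpr ⟨g.1⁻¹, by rw [inv_inv]⟩, g.2⟩)⁻¹, ?_⟩)) ⟨?_, ?_⟩
    · rw [hCmem]
      set d := c ⟨g.1⁻¹ * x * g.1, isConj_iff.mpr ⟨g.1⁻¹, by rw [inv_inv]⟩, g.2⟩ with hd
      have h1 : d⁻¹ * x * d = g.1⁻¹ * x * g.1 := hc _
      calc g.1 * d⁻¹ * x = g.1 * (d⁻¹ * x * d) * d⁻¹ := by group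
        _ = g.1 * (g.1⁻¹ * x * g.1) * d⁻¹ := by rw [h1]
        _ = x * (g.1 * d⁻¹) := by group
    · intro g k hgk
      simp only [Prod.mk.injEq, Subtype.mk.injEq] at hgk
      obtain ⟨h1, h2⟩ := hgk
      have h3 : (⟨g.1⁻¹ * x * g.1, isConj_iff.mpr ⟨g.1⁻¹, by rw [inv_inv]⟩, g.2⟩ :
          {y : G // IsConj x y ∧ P y}) = ⟨k.1⁻¹ * x * k.1, isConj_iff.mpr ⟨k.1⁻¹, by rw [inv_inv]⟩, k.2⟩ :=
        Subtype.ext h1
      rw [h3] at h2
      exact Subtype.ext (mul_right_cancel h2)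
    · rintro ⟨y, u⟩
      have h1 : ((u : G) * c y)⁻¹ * x * ((u : G) * c y) = y.1 := by
        have h2 : (u : G) * x = x * u := (hCmem _).mp u.2
        calc ((u : G) * c y)⁻¹ * x * ((u : G) * c y)
            = (c y)⁻¹ * ((u : G)⁻¹ * (x * u)) * c y := by group
          _ = y.1 := by rw [← h2, inv_mul_cancel_left, hc]
      refine ⟨⟨(u : G) * c y, h1.symm ▸ y.2.2⟩, ?_⟩
      simp only [Prod.mk.injEq, Subtype.ext_iff]
      refine ⟨h1, ?_⟩
      have h3 : (⟨((u : G) * c y)⁻¹ * x * ((u : G) * c y), isConj_iff.mpr ⟨((u : G) * c y)⁻¹,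
          by rw [inv_inv]⟩, h1.symm ▸ y.2.2⟩ : {y : G // IsConj x y ∧ P y}) = y := Subtype.ext h1
      rw [h3]
      exact mul_inv_cancel_right _ _
  have hB : Nat.card {g : G // g⁻¹ * x * g ∈ H}
      = Nat.card (MulAction.fixedBy (G ⧸ H) x) * Nat.card H := by
    rw [← Nat.card_prod]
    have hfix : ∀ g : G, (g : G ⧸ H) ∈ MulAction.fixedBy (G ⧸ H) x ↔ g⁻¹ * x * g ∈ H := by
      intro g
      show ((x * g : G) : G ⧸ H) = (g : G ⧸ H) ↔ _
      rw [eq_comm, QuotientGroup.eq, mul_assoc]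
    refine Nat.card_eq_of_bijective (fun g =>
      (⟨(g.1 : G ⧸ H), (hfix g.1).mpr g.2⟩,
        ⟨(g.1 : G ⧸ H).out⁻¹ * g.1, QuotientGroup.eq.mp (QuotientGroup.out_eq' _)⟩)) ⟨?_, ?_⟩
    · intro g k hgk
      simp only [Prod.mk.injEq, Subtype.mk.injEq] at hgk
      obtain ⟨h1, h2⟩ := hgk
      rw [h1] at h2
      exact Subtype.ext (mul_left_cancel h2)
    · rintro ⟨⟨q, hq⟩, u⟩
      have h1 : ((q.out * u : G) : G ⧸ H) = q := by
        rw [QuotientGroup.mk_mul_of_mem _ u.2, QuotientGroup.out_eq']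
      refine ⟨⟨q.out * u, (hfix _).mp (by rw [h1]; exact hq)⟩, ?_⟩
      simp only [Prod.mk.injEq, Subtype.ext_iff]
      refine ⟨h1, ?_⟩
      rw [h1]
      exact inv_mul_cancel_left _ _
  have h1 := hA (fun y => y ∈ H)
  rw [hB] at h1
  have h2 := hA (fun _ => True)
  have h3 : Nat.card {g : G // (fun _ => True) (g⁻¹ * x * g)} = Nat.card G :=
    Nat.card_congr (Equiv.subtypeUnivEquiv fun _ => trivial)
  have h4 : Nat.card {y : G // IsConj x y ∧ (fun _ => True) y} = Nat.card {g : G // IsConj x g} :=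
    Nat.card_congr (Equiv.subtypeEquivRight fun y => and_iff_left trivial)
  rw [h3, h4] at h2
  have h5 := H.card_mul_index
  have hH : 0 < Nat.card H := Nat.card_pos
  have hC : 0 < Nat.card C := Nat.card_pos
  apply Nat.eq_of_mul_eq_mul_right (Nat.mul_pos hH hC)
  calc Nat.card (MulAction.fixedBy (G ⧸ H) x) * Nat.card {g : G // IsConj x g} *
        (Nat.card H * Nat.card C)
      = (Nat.card (MulAction.fixedBy (G ⧸ H) x) * Nat.card H) *
        (Nat.card {g : G // IsConj x g} * Nat.card C) := by ring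
    _ = (Nat.card {y : G // IsConj x y ∧ y ∈ H} * Nat.card C) * (Nat.card H * H.index) := by
        rw [h1, ← h2, h5]
    _ = _ := by ring

end Cfsg.Agent.S1019
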