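import Cfsg.Statements.S1020

import Cfsg.Agent.Perm.PrimePSLField

set_option autoImplicit false
set_option linter.style.haveILetI false
open Cfsg

namespace Cfsg.Agent.S1020
open CfsgLib.Perm.PrimePSL

/-- A simple group of order 2448 is isomorphic to the projective special linear group of dimension 2 over the field with 17 elements. -/
theorem result {G : Type*} [Group G] [Finite G] [IsSimpleGroup G] (h : Nat.card G = 2448) {F : Type*} [Field F] [Fintype F] (hF : Fintype.card F = 17) : Nonempty (G ≃* Matrix.ProjectiveSpecialLinearGroup (Fin 2) F) := by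
  classical
  haveI : Fact (Nat.Prime 17) := ⟨by norm_num⟩
  have hn : Nat.card (Sylow 17 G) = 17 + 1 := by
    refine card_sylow_eq (r := 144) (by rw [h]) (by rw [h]; norm_num) (by norm_num) fun d hd h1 h2 => ?_
    have hle := Nat.le_of_dvd (by norm_num) hd
    have key : ∀ e < 144 + 1, e ∣ 144 → e % 17 = 1 % 17 → e ≠ 1 → e = 17 + 1 := by decide +kernel
    exact key d (by omega) hd h1 h2
  obtain ⟨e⟩ := iso_PSL data_seventeen hn (by rw [h]) (fun h3 => absurd h3 (by norm_num))
  obtain ⟨i⟩ := psl_congr (ZMod.ringEquivOfPrime F (by norm_num : Nat.Prime 17) hF)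
  exact ⟨e.trans i⟩

end Cfsg.Agent.S1020
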