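import Cfsg.Statements.S1045
import Cfsg.Agent.Chev.All
import Cfsg.Agent.Chev.BN

set_option autoImplicit false
open Cfsg

namespace Cfsg.Agent.S1045

/-- For a fundamental root `p`, the subgroup `U_p` generated by the `X_s`, `s` positive and `s ≠ p`, is normalised by `X_p` and `X_{-p}`, and `U = U_p ⊔ X_p`. -/
theorem result {F : Type*} [Field F] (D : Cfsg.Lie.ChevalleyDatum) (hD : D ∈ [Cfsg.Lie.chevG2, Cfsg.Lie.chevB2, Cfsg.Lie.chevD4, Cfsg.Lie.chevF4, Cfsg.Lie.chevE6, Cfsg.Lie.chevE7, Cfsg.Lie.chevE8]) (i : ℕ) (hi : i < D.rank) :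
    D.rootSubgroup F (D.simple i) ⊔ D.rootSubgroup F (D.neg (D.simple i)) ≤
        Subgroup.normalizer (Subgroup.closure {g : GL D.Idx F | ∃ (s : ℕ) (t : F), D.IsPosRoot s ∧ s ≠ D.simple i ∧
          (g : Matrix D.Idx D.Idx F) = D.x F s t} : Set (GL D.Idx F)) ∧
      Subgroup.closure {g : GL D.Idx F | ∃ (s : ℕ) (t : F), D.IsPosRoot s ∧ s ≠ D.simple i ∧
          (g : Matrix D.Idx D.Idx F) = D.x F s t} ⊔ D.rootSubgroup F (D.simple i) = D.posUnipotent F := by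
  obtain ⟨K, hK⟩ := CfsgLib.Chev.fine_of_mem hD
  have e : Subgroup.closure {g : GL D.Idx F | ∃ (s : ℕ) (t : F), D.IsPosRoot s ∧ s ≠ D.simple i ∧
      (g : Matrix D.Idx D.Idx F) = D.x F s t} =
      CfsgLib.Chev.genU hK F (CfsgLib.Chev.posExcept K D i) := by
    unfold CfsgLib.Chev.genU CfsgLib.Chev.posExcept
    congr 1
    ext g
    constructor
    · rintro ⟨s, t, hs, hne, hg⟩
      exact ⟨s, ⟨(hK.toGood.isPosRoot_iff s).1 hs, hK.toGood.simple_eq hi ▸ hne⟩, t,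
        CfsgLib.Chev.eq_xU hK hg⟩
    · rintro ⟨s, ⟨hs, hne⟩, t, rfl⟩
      exact ⟨s, t, (hK.toGood.isPosRoot_iff s).2 hs, by rw [hK.toGood.simple_eq hi]; exact hne,
        CfsgLib.Chev.coe_xU hK s t⟩
  rw [e, hK.toGood.simple_eq hi, hK.toGood.neg_eq (hK.toGood.p_lt hi), ← hK.toGood.Kneg_eq]
  exact ⟨hK.root_pair_le_normalizer hi, hK.pos_eq_sup hi⟩

end Cfsg.Agent.S1045
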