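import Cfsg.Statements.S1058
import Cfsg.Agent.Chev.Presented
import Cfsg.Agent.Chev.OrdB2

set_option autoImplicit false
open Cfsg

namespace Cfsg.Agent.S1058

open Cfsg.Lie CfsgLib.Chev

/-- the images of the eight root generators -/
def rootImg : ℕ → Equiv.Perm (Fin 6)
  | 0 => Equiv.swap 0 2 * Equiv.swap 1 4 * Equiv.swap 3 5
  | 1 => Equiv.swap 0 2
  | 2 => Equiv.swap 3 5
  | 3 => Equiv.swap 0 2 * Equiv.swap 1 3 * Equiv.swap 4 5
  | 4 => Equiv.swap 0 1 * Equiv.swap 2 4 * Equiv.swap 3 5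
  | 5 => Equiv.swap 4 5
  | 6 => Equiv.swap 0 1
  | 7 => Equiv.swap 0 1 * Equiv.swap 2 3 * Equiv.swap 4 5
  | _ => 1

theorem rootImg_sq : ∀ r : Fin 8, rootImg r * rootImg r = 1 := by decide +kernel

theorem rootImg_rel : ∀ r s : Fin 8, s ≠ r → (s : ℕ) ≠ chevB2.neg r →
    (rootImg s)⁻¹ * (rootImg r)⁻¹ * rootImg s * rootImg r =
      ((chevB2.commTerms r s).map fun c => if (2 : ℤ) ∣ c.2.1 then 1 else rootImg c.1).prod := by
  decide +kernel

theorem rootImg_exps : ∀ r s : Fin 8, ∀ c ∈ chevB2.commTerms r s, c.2.2.1 ≠ 0 ∧ c.2.2.2 ≠ 0 := by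
  decide +kernel

theorem exists_hom {F : Type*} [Field F] [CharP F 2] (two : ∀ t : F, t = 0 ∨ t = 1) :
    ∃ f : chevB2.SteinbergCover F →* Equiv.Perm (Fin 6), Function.Surjective f := by
  classical
  let v : ℕ → F → Equiv.Perm (Fin 6) := fun r t => if t = 0 then 1 else rootImg r
  let f₀ : Fin chevB2.nroots × F → Equiv.Perm (Fin 6) := fun p => v p.1 p.2
  have hn : chevB2.nroots = 8 := rfl
  have himg : ∀ r, ¬ r < 8 → rootImg r = 1 := by
    intro r hr
    obtain ⟨k, rfl⟩ : ∃ k, r = k + 8 := ⟨r - 8, by omega⟩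
    rfl
  have hX : ∀ r t, FreeGroup.lift f₀ (chevB2.stX r t) = v r t := by
    intro r t
    by_cases hr : r < chevB2.nroots
    · simp [ChevalleyDatum.stX, hr, f₀]
    · simp [ChevalleyDatum.stX, hr, v, himg r hr]
  have hW : ∀ w : List (ℕ × F), FreeGroup.lift f₀ (chevB2.stWord w) = (w.map fun p => v p.1 p.2).prod := by
    intro w
    rw [ChevalleyDatum.stWord, map_list_prod, List.map_map]
    congr 1
    exact List.map_congr_left fun p _ => hX p.1 p.2
  have hneg : (-1 : F) = 1 := CharTwo.neg_eq 1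
  have h11 : (1 + 1 : F) = 0 := CharTwo.add_self_eq_zero 1
  have hrel : ∀ g ∈ chevB2.steinbergRelsAB F, FreeGroup.lift f₀ g = 1 := by
    rintro g (⟨r, t, u, hr, rfl⟩ | ⟨r, s, t, u, hr, hs, h1, h2, rfl⟩)
    · simp only [map_mul, map_inv, hX]
      rcases two t with rfl | rfl <;> rcases two u with rfl | rfl <;>
        simp [v, h11, rootImg_sq ⟨r, hr⟩]
    · simp only [map_mul, map_inv, hX, hW, ChevalleyDatum.commWord, List.map_map]
      rw [mul_inv_eq_one]
      by_cases htu : t = 0 ∨ u = 0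
      · have hp : ((chevB2.commTerms r s).map ((fun p => v p.1 p.2) ∘ fun c => (c.1, (c.2.1 : F) * (-t) ^ c.2.2.1 * u ^ c.2.2.2))).prod = 1 := by
          refine List.prod_eq_one fun x hx => ?_
          obtain ⟨c, hc, rfl⟩ := List.mem_map.1 hx
          have he := rootImg_exps ⟨r, hr⟩ ⟨s, hs⟩ c hc
          rcases htu with rfl | rfl <;> simp [v, he.1, he.2]
        rw [hp]
        have hv0 : ∀ k, v k 0 = 1 := fun k => if_pos rfl
        rcases htu with rfl | rfl <;> simp [hv0]
      · push Not at htu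
        obtain rfl := (two t).resolve_left htu.1
        obtain rfl := (two u).resolve_left htu.2
        have hl : ∀ k, v k 1 = rootImg k := fun k => if_neg one_ne_zero
        rw [hl, hl, rootImg_rel ⟨r, hr⟩ ⟨s, hs⟩ (fun e => h1 (congrArg Fin.val e)) h2]
        refine congrArg List.prod (List.map_congr_left fun c _ => ?_)
        have hd : ((c.2.1 : F) = 0) ↔ (2 : ℤ) ∣ c.2.1 := CharP.intCast_eq_zero_iff F 2 c.2.1
        simp [v, hneg, hd]
  refine ⟨PresentedGroup.toGroup hrel, MonoidHom.range_eq_top.1 ?_⟩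
  have hgen : ∀ r : Fin 8, rootImg r ∈ (PresentedGroup.toGroup hrel).range := fun r =>
    ⟨PresentedGroup.of ((⟨r, r.isLt⟩ : Fin chevB2.nroots), (1 : F)), by
      rw [PresentedGroup.toGroup.of]; exact if_neg one_ne_zero⟩
  have hsw : ∀ i : Fin 5, Equiv.swap (i.castSucc) i.succ ∈ (PresentedGroup.toGroup hrel).range := by
    have e : ∀ i : Fin 5, Equiv.swap (i.castSucc) i.succ =
        ((![[6], [1, 6, 1], [3, 6, 3], [2, 5, 2], [5]] : Fin 5 → List (Fin 8)) i |>.map fun r : Fin 8 => rootImg r).prod := by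
      decide +kernel
    intro i
    rw [e i]
    refine Subgroup.list_prod_mem _ fun x hx => ?_
    obtain ⟨r, -, rfl⟩ := List.mem_map.1 hx
    exact hgen r
  refine top_unique ?_
  intro g _
  have hg : g ∈ (⊤ : Submonoid (Equiv.Perm (Fin 6))) := trivial
  rw [← Equiv.Perm.mclosure_swap_castSucc_succ 5] at hg
  refine (Submonoid.closure_le (S := (PresentedGroup.toGroup hrel).range.toSubmonoid)).2 ?_ hg
  rintro _ ⟨i, rfl⟩
  exact hsw i

/-- B₂(2) ≅ S₆. -/
theorem result {F : Type*} [Field F] [Fintype F] (hF : Fintype.card F = 2) :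
    Nonempty (↥(Cfsg.Lie.chevB2.group F) ≃* Equiv.Perm (Fin 6)) := by
  classical
  have two : ∀ t : F, t = 0 ∨ t = 1 := by
    intro t
    by_contra h
    push Not at h
    have := Finset.card_le_univ ({0, 1, t} : Finset F)
    rw [hF, Finset.card_insert_of_notMem (by simp [h.1.symm]),
      Finset.card_pair h.2.symm] at this
    omega
  have h2 : (2 : F) = 0 := by
    have := Nat.cast_card_eq_zero F
    rw [hF] at this
    exact_mod_cast this
  have : CharP F 2 := CharTwo.of_one_ne_zero_of_two_eq_zero one_ne_zero h2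
  have hD : chevB2 ∈ [chevG2, chevB2, chevD4, chevF4, chevE6, chevE7, chevE8] := by simp
  obtain ⟨K, hd⟩ := LiftData.of_mem hD
  let c := Lift.ofCover hd.comb.fine F
  have htor : c.torC = ⊥ := by
    refine (Subgroup.closure_eq_bot_iff).2 ?_
    rintro _ ⟨i, x, hx, rfl⟩
    obtain rfl := (two x).resolve_left hx
    simp [c.hC_eq, c.nC_neg]
  have hinj : Function.Injective c.projGroup := by
    rw [← MonoidHom.ker_eq_bot_iff, Lift.projGroup_ker, eq_bot_iff]
    exact (c.ker_le hd).trans (inf_le_left.trans htor.le)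
  let ψ := MulEquiv.ofBijective c.projGroup ⟨hinj, c.projGroup_surjective⟩
  obtain ⟨f, hf⟩ := exists_hom two
  let θ : ↥(chevB2.group F) →* Equiv.Perm (Fin 6) := f.comp ψ.symm.toMonoidHom
  have hθ : Function.Surjective θ := hf.comp ψ.symm.surjective
  have hc : Nat.card ↥(chevB2.group F) = Nat.card (Equiv.Perm (Fin 6)) := by
    have h := CfsgLib.Chev.B2.card_group (F := F) hF
    rw [show Cfsg.Lie.chevB2.nroots / 2 = 4 from rfl] at h
    rw [Nat.card_perm, Nat.card_fin]
    norm_num [Nat.factorial] at h ⊢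
    omega
  exact ⟨MulEquiv.ofBijective θ ((Nat.bijective_iff_surjective_and_card θ).2 ⟨hθ, hc⟩)⟩

end Cfsg.Agent.S1058
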