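import Cfsg.Statements.S1081
import Cfsg.Agent.Chev.GraphAll

set_option autoImplicit false
open Cfsg

namespace Cfsg.Agent.S1081

/-- Graph automorphisms: for E₆ with ρ = (p₁ p₆)(p₃ p₅) and for D₄ with ρ the 3-cycle on the outer nodes there is a group automorphism sending `x_p(t) ↦ x_{ρ(p)}(t)` and `x_{-p}(t) ↦ x_{-ρ(p)}(t)` for every fundamental root `p`. -/
theorem result {F : Type*} [Field F] (p : Cfsg.Lie.ChevalleyDatum × List ℕ)
    (hp : p ∈ [(Cfsg.Lie.chevE6, [5, 1, 4, 3, 2, 0]), (Cfsg.Lie.chevD4, [2, 1, 3, 0]), (Cfsg.Lie.chevD4, [3, 1, 0, 2])]) :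
    ∃ α : ↥(p.1.group F) ≃* ↥(p.1.group F), ∀ (g : ↥(p.1.group F)) (i : ℕ) (t : F), i < p.1.rank →
      (((g : GL p.1.Idx F) : Matrix p.1.Idx p.1.Idx F) = p.1.x F (p.1.simple i) t →
        ((α g : GL p.1.Idx F) : Matrix p.1.Idx p.1.Idx F) = p.1.x F (p.1.simple (p.2.getD i 0)) t) ∧
      (((g : GL p.1.Idx F) : Matrix p.1.Idx p.1.Idx F) = p.1.x F (p.1.neg (p.1.simple i)) t →
        ((α g : GL p.1.Idx F) : Matrix p.1.Idx p.1.Idx F) = p.1.x F (p.1.neg (p.1.simple (p.2.getD i 0))) t) := by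
  simp only [List.mem_cons, List.not_mem_nil, or_false] at hp
  rcases hp with rfl | rfl | rfl
  · obtain ⟨α, hα⟩ := CfsgLib.Chev.graphE6_data.exists_named (CfsgLib.Chev.ExpOK.zero_case F) (by norm_num : 0 < 2) CfsgLib.Chev.graphE6_pow (Or.inl rfl) CfsgLib.Chev.onSimple_E6
    refine ⟨α, fun g i t hi => ?_⟩
    have := hα g i t hi
    have hc : i = 0 ∨ i = 1 ∨ i = 2 ∨ i = 3 ∨ i = 4 ∨ i = 5 := by
      have : i < 6 := hi
      omega
    rcases hc with rfl | rfl | rfl | rfl | rfl | rfl <;> simpa using this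
  · obtain ⟨α, hα⟩ := (CfsgLib.Chev.GraphData.mk CfsgLib.Chev.liftD4 CfsgLib.Chev.graphD4a_ok).exists_named (CfsgLib.Chev.ExpOK.zero_case F) (by norm_num : 0 < 3) CfsgLib.Chev.graphD4a_pow (Or.inl rfl) CfsgLib.Chev.onSimple_D4a
    refine ⟨α, fun g i t hi => ?_⟩
    have := hα g i t hi
    have hc : i = 0 ∨ i = 1 ∨ i = 2 ∨ i = 3 := by
      have : i < 4 := hi
      omega
    rcases hc with rfl | rfl | rfl | rfl <;> simpa using this
  · obtain ⟨α, hα⟩ := (CfsgLib.Chev.GraphData.mk CfsgLib.Chev.liftD4 CfsgLib.Chev.graphD4b_ok).exists_named (CfsgLib.Chev.ExpOK.zero_case F) (by norm_num : 0 < 3) CfsgLib.Chev.graphD4b_pow (Or.inl rfl) CfsgLib.Chev.onSimple_D4b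
    refine ⟨α, fun g i t hi => ?_⟩
    have := hα g i t hi
    have hc : i = 0 ∨ i = 1 ∨ i = 2 ∨ i = 3 := by
      have : i < 4 := hi
      omega
    rcases hc with rfl | rfl | rfl | rfl <;> simpa using this

end Cfsg.Agent.S1081
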