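import Cfsg.Statements.S1097
import Cfsg.Agent.Chev.Presented

set_option autoImplicit false
open Cfsg

namespace Cfsg.Agent.S1097

/-- Any homomorphism from the presented group to the Chevalley group with `x̄_r(t) ↦ x_r(t)` has kernel contained in `H̄ = ⟨h̄_p(t) : p fundamental, t ≠ 0⟩`. -/
theorem result {K : Type*} [Field K] (D : Cfsg.Lie.ChevalleyDatum) (hD : D ∈ [Cfsg.Lie.chevG2, Cfsg.Lie.chevB2, Cfsg.Lie.chevD4, Cfsg.Lie.chevF4, Cfsg.Lie.chevE6, Cfsg.Lie.chevE7, Cfsg.Lie.chevE8]) (θ : D.SteinbergGroup K →* ↥(D.group K))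
    (hθ : ∀ (r : ℕ) (t : K), r < D.nroots → ((θ (D.stGen K r t) : GL D.Idx K) : Matrix D.Idx D.Idx K) = D.x K r t) :
    θ.ker ≤ Subgroup.closure {h | ∃ (i : ℕ) (t : K), i < D.rank ∧ t ≠ 0 ∧ h = PresentedGroup.mk (D.steinbergRels K) (D.stH (D.simple i) t)} := by
  obtain ⟨Kd, hd⟩ := CfsgLib.Chev.LiftData.of_mem hD
  set c := CfsgLib.Chev.Lift.ofSteinberg hd.comb.fine K with hc
  have heq : (D.group K).subtype.comp θ = c.proj := by
    refine PresentedGroup.ext fun p => Units.ext ?_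
    have e : D.stGen K p.1.val p.2 = PresentedGroup.of p := by
      simp only [Cfsg.Lie.ChevalleyDatum.stGen, Cfsg.Lie.ChevalleyDatum.stX, dif_pos p.1.isLt]; rfl
    have h := hθ p.1.val p.2 p.1.isLt
    rw [e] at h
    show ((θ (PresentedGroup.of p) : GL D.Idx K) : Matrix D.Idx D.Idx K) = _
    rw [h, ← c.projGroup_e, ← e]
    rfl
  intro g hg
  have h1 : g ∈ c.proj.ker := by
    rw [MonoidHom.mem_ker, ← heq]
    simp [MonoidHom.mem_ker.1 hg]
  refine (Subgroup.closure_le _).2 ?_ (c.ker_le hd h1).1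
  rintro _ ⟨i, t, ht, rfl⟩
  exact Subgroup.subset_closure ⟨i.val, t, i.isLt, ht, CfsgLib.Chev.Lift.mk_stWord _⟩

end Cfsg.Agent.S1097
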