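import Cfsg.Statements.S1118
import Cfsg.Agent.Lie.RankOne

set_option autoImplicit false
open Cfsg CfsgLib.Lie.RankOne

namespace Cfsg.Agent.S1118

/-- In the rank-one set-up (`G` finite and doubly transitive on `Ω`, `t` an involution moving `a`, `Q` normal in `G_a` with `G_a = Q D`, `Q ⊓ D = 1` for the two-point stabiliser `D = G_a ⊓ G_{t • a}`, `|Q|` even, `|D|` odd), the normaliser of a subset of `Q` containing a non-identity element lies in `G_a`; consequently `N_G(Q) = N_G(G_a) = G_a`. -/
theorem result {G Ω : Type*} [Group G] [Finite G] [MulAction G Ω] {a : Ω} {t : G} {Q : Subgroup G}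
    (hS : Cfsg.IsRankOneSetup G Ω a t Q) :
    (∀ X : Set G, X ⊆ (Q : Set G) → (∃ x ∈ X, x ≠ 1) → Subgroup.normalizer X ≤ MulAction.stabilizer G a) ∧
      Subgroup.normalizer (Q : Set G) = MulAction.stabilizer G a ∧
      Subgroup.normalizer (MulAction.stabilizer G a : Set G) = MulAction.stabilizer G a := by
  refine ⟨fun X hX ⟨x, hx, hx1⟩ g hg => ?_, ?_, ?_⟩
  · have hx' : g * x * g⁻¹ ∈ X := (Subgroup.mem_set_normalizer_iff.1 hg x).1 hx
    refine MulAction.mem_stabilizer_iff.2 (fix_only hS (hX hx') (fun e => hx1 ?_) ?_)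
    · have := congrArg (fun z => g⁻¹ * z * g) e
      simpa [mul_assoc] using this
    · rw [mul_smul, mul_smul, inv_smul_smul, Q_fix hS (hX hx)]
  · obtain ⟨s, hs, hs1, -⟩ := exists_inv_Q hS
    refine le_antisymm (fun g hg => ?_) (fun g hg => Subgroup.mem_normalizer_iff.2 fun x => ⟨hS.conj_mem g hg x, fun h => ?_⟩)
    · have hx' : g * s * g⁻¹ ∈ Q := (Subgroup.mem_normalizer_iff.1 hg s).1 hs
      refine MulAction.mem_stabilizer_iff.2 (fix_only hS hx' (fun e => hs1 ?_) ?_)
      · have := congrArg (fun z => g⁻¹ * z * g) e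
        simpa [mul_assoc] using this
      · rw [mul_smul, mul_smul, inv_smul_smul, Q_fix hS hs]
    · have := hS.conj_mem g⁻¹ (inv_mem hg) _ h
      simpa [mul_assoc] using this
  · obtain ⟨s, hs, hs1, -⟩ := exists_inv_Q hS
    refine le_antisymm (fun g hg => ?_) Subgroup.le_normalizer
    have h : g⁻¹ * s * g ∈ MulAction.stabilizer G a :=
      (Subgroup.mem_normalizer_iff''.1 hg s).1 (hS.le hs)
    refine MulAction.mem_stabilizer_iff.2 (fix_only hS hs hs1 ?_)
    have h' := congrArg (fun z => g • z) (MulAction.mem_stabilizer_iff.1 h)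
    simpa [mul_smul] using h'

end Cfsg.Agent.S1118
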