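import Cfsg.Statements.S1127
import Cfsg.Agent.Lie.RankOne

set_option autoImplicit false
open Cfsg CfsgLib.Lie.RankOne

namespace Cfsg.Agent.S1127

/-- In the rank-one set-up (`G` finite and doubly transitive on `Ω`, `t` an involution moving `a`, `Q` normal in `G_a` with `G_a = Q D`, `Q ⊓ D = 1` for the two-point stabiliser `D = G_a ⊓ G_{t • a}`, `|Q|` even, `|D|` odd): if `s` is an involution of `G_a` and `r ∈ Q` satisfy `t s t = r⁻¹ t r`, then `C_D(t) = C_D(s)`; moreover `C_D(t) ⊓ C_D(K) = C_D(I ∩ G_a)`, where `K` is the set of elements of `D` inverted by `t` and `I ∩ G_a` the set of involutions of `G_a`. -/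
theorem result {G Ω : Type*} [Group G] [Finite G] [MulAction G Ω] {a : Ω} {t : G} {Q : Subgroup G}
    (hS : Cfsg.IsRankOneSetup G Ω a t Q) :
    (∀ s r : G, s ∈ Cfsg.involutionsIn (MulAction.stabilizer G a : Set G) → r ∈ Q → t * s * t = r⁻¹ * t * r →
        (MulAction.stabilizer G a ⊓ MulAction.stabilizer G (t • a)) ⊓ Subgroup.centralizer {t} = (MulAction.stabilizer G a ⊓ MulAction.stabilizer G (t • a)) ⊓ Subgroup.centralizer {s}) ∧
      (MulAction.stabilizer G a ⊓ MulAction.stabilizer G (t • a)) ⊓ Subgroup.centralizer {t} ⊓ Subgroup.centralizer (Cfsg.invertedBy (MulAction.stabilizer G a ⊓ MulAction.stabilizer G (t • a)) t) =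
        (MulAction.stabilizer G a ⊓ MulAction.stabilizer G (t • a)) ⊓ Subgroup.centralizer (Cfsg.involutionsIn (MulAction.stabilizer G a : Set G)) := by
  refine ⟨fun s r hs hr e => cent_pair hS hs hr e, le_antisymm (fun c hc => ?_) fun c hc => ?_⟩
  · obtain ⟨hc1, hcK⟩ := Subgroup.mem_inf.1 hc
    obtain ⟨⟨s0, r⟩, ⟨hs0, hr, e⟩, -⟩ := pair hS
    rw [cent_pair hS hs0 hr e] at hc1
    obtain ⟨hcD, hcs⟩ := Subgroup.mem_inf.1 hc1
    refine Subgroup.mem_inf.2 ⟨hcD, Subgroup.mem_centralizer_iff.2 fun s hs => ?_⟩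
    obtain ⟨k, hk, rfl⟩ := conj_K hS hs0 hs
    have h1 : Commute c k := ((Subgroup.mem_centralizer_iff.1 hcK k hk)).symm
    have h2 : Commute c s0 := Subgroup.mem_centralizer_singleton_iff.1 hcs
    exact ((h1.inv_right.mul_right h2).mul_right h1).symm
  · obtain ⟨hcD, hcI⟩ := Subgroup.mem_inf.1 hc
    obtain ⟨⟨s0, r⟩, ⟨hs0, hr, e⟩, -⟩ := pair hS
    have hmem : ∀ d ∈ (MulAction.stabilizer G a ⊓ MulAction.stabilizer G (t • a)), Commute d s0 →
        t * d = d * t := fun d hd hds => by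
      have h : d ∈ (MulAction.stabilizer G a ⊓ MulAction.stabilizer G (t • a)) ⊓ Subgroup.centralizer {s0} :=
        Subgroup.mem_inf.2 ⟨hd, Subgroup.mem_centralizer_singleton_iff.2 hds⟩
      rw [← cent_pair hS hs0 hr e] at h
      exact (Subgroup.mem_centralizer_singleton_iff.1 (Subgroup.mem_inf.1 h).2).symm
    have hc0 : Commute c s0 := (Subgroup.mem_centralizer_iff.1 hcI s0 hs0).symm
    have hct := hmem c hcD hc0
    refine Subgroup.mem_inf.2 ⟨Subgroup.mem_inf.2 ⟨hcD, Subgroup.mem_centralizer_singleton_iff.2 hct.symm⟩,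
      Subgroup.mem_centralizer_iff.2 fun k hk => ?_⟩
    have hs' : k⁻¹ * s0 * k ∈ Cfsg.involutionsIn (MulAction.stabilizer G a : Set G) :=
      ⟨mul_mem (mul_mem (inv_mem hk.1.1) hs0.1) hk.1.1, fun h => hs0.2.1 (by
        have := congrArg (fun z => k * z * k⁻¹) h
        simpa [mul_assoc] using this), by
        rw [show k⁻¹ * s0 * k * (k⁻¹ * s0 * k) = k⁻¹ * (s0 * s0) * k by group, hs0.2.2, mul_one, inv_mul_cancel]⟩
    have hd : Commute (k * c * k⁻¹) s0 := by
      have h := Subgroup.mem_centralizer_iff.1 hcI _ hs'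
      calc k * c * k⁻¹ * s0 = k * (c * (k⁻¹ * s0 * k)) * k⁻¹ := by group
        _ = k * (k⁻¹ * s0 * k * c) * k⁻¹ := by rw [h]
        _ = s0 * (k * c * k⁻¹) := by group
    have h1 := hmem _ (mul_mem (mul_mem hk.1 hcD) (inv_mem hk.1)) hd
    have hti : t⁻¹ = t := t_inv hS
    have htk : t * k * t = k⁻¹ := by have := hk.2; rwa [hti] at this
    have htki : t * k⁻¹ * t = k := by
      calc t * k⁻¹ * t = (t⁻¹ * k * t⁻¹)⁻¹ := by group
        _ = k := by rw [hti, htk, inv_inv]
    have h2 : k * c * k⁻¹ = k⁻¹ * c * k := by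
      calc k * c * k⁻¹ = t * (t * (k * c * k⁻¹)) := by rw [← mul_assoc, hS.mul_self, one_mul]
        _ = t * k * c * k⁻¹ * t := by rw [h1]; group
        _ = t * k * (t * t) * c * k⁻¹ * t := by rw [hS.mul_self, mul_one]
        _ = (t * k * t) * (t * c) * k⁻¹ * t := by group
        _ = k⁻¹ * c * (t * k⁻¹ * t) := by rw [htk, hct]; group
        _ = _ := by rw [htki]
    have h3 : Commute (k * k) c := by
      calc k * k * c = k * (k * c * k⁻¹) * k := by group
        _ = k * (k⁻¹ * c * k) * k := by rw [h2]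
        _ = c * (k * k) := by group
    obtain ⟨i, hi⟩ := eq_half hS.odd_card hk.1
    have h4 := h3.zpow_left i
    rw [show (k * k) ^ i = k from hi] at h4
    exact h4.eq

end Cfsg.Agent.S1127
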