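import Cfsg.Statements.S1137
import Mathlib.GroupTheory.PGroup
import Mathlib.GroupTheory.QuotientGroup.Basic
import Mathlib.Algebra.Group.Subgroup.Basic

set_option autoImplicit false
open Cfsg

namespace Cfsg.Agent.S1137

section Alt

variable {V K : Type*} [CommGroup V] [CommGroup K] [Finite K] [MulDistribMulAction K V]

/-- an equivariant alternating pairing on a regular module is trivial -/
theorem alt_pairing_trivial (h2 : ∀ v : V, v * v = 1)
    (hreg : ∀ x y : V, x ≠ 1 → y ≠ 1 → ∃! k : K, k • x = y)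
    (B : V → V → V) (hl : ∀ a b c, B (a * b) c = B a c * B b c)
    (hr : ∀ a b c, B a (b * c) = B a b * B a c)
    (hk : ∀ (k : K) a b, B (k • a) (k • b) = k • B a b) (hd : ∀ a, B a a = 1) :
    ∀ a b, B a b = 1 := by
  have hinv : ∀ u w : V, u * w = 1 → u = w := fun u w h =>
    calc u = u * (w * w) := by rw [h2, mul_one]
      _ = w := by rw [← mul_assoc, h, one_mul]
  have hsym : ∀ a b, B a b = B b a := by
    intro a b
    have h := hd (a * b)
    rw [hl, hr, hr, hd, hd, one_mul, mul_one] at h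
    exact hinv _ _ h
  have h1 : ∀ a, B a 1 = 1 := fun a => by
    have h := hr a 1 1; rw [one_mul] at h; exact left_eq_mul.mp h
  intro a b
  rcases eq_or_ne a 1 with rfl | ha
  · rw [hsym]; exact h1 b
  let L : V → V := B a
  have hLinv : ∀ k : K, L (k • a) = k • L (k⁻¹ • a) := fun k => by
    show B a (k • a) = k • B a (k⁻¹ • a)
    rw [← hk, smul_inv_smul, hsym]
  have hne : ∀ (k : K) (x : V), x ≠ 1 → k • x ≠ 1 := fun k x hx h => hx (by
    have := congrArg (fun w => k⁻¹ • w) h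
    simpa using this)
  have hsq : Function.Surjective (fun k : K => k * k) := by
    refine Finite.injective_iff_surjective.mp fun k l (h : k * k = l * l) => ?_
    have hfix : ∀ m : K, m * m = 1 → m = 1 := by
      intro m hm
      have hma : m • (a * m • a) = a * m • a := by
        rw [smul_mul', ← mul_smul, hm, one_smul, mul_comm]
      by_cases hw : a * m • a = 1
      · exact (hreg a a ha ha).unique (hinv _ _ hw).symm (one_smul K a)
      · exact (hreg _ _ hw hw).unique hma (one_smul K _)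
    exact div_eq_one.mp (hfix (k / l) (by rw [div_mul_div_comm, h, div_self']))
  have hkey : ∀ k : K, L ((k * k) • a) = 1 := by
    intro k
    rcases eq_or_ne (k • a * a) 1 with hx | hx
    · have : k = 1 := (hreg a a ha ha).unique (hinv _ _ hx) (one_smul K a)
      rw [this, one_mul, one_smul]; exact hd a
    · obtain ⟨l, hl', -⟩ := hreg a (k • a * a) ha hx
      have hlk : ∀ w : V, l • w = k • w * w := by
        intro w
        rcases eq_or_ne w 1 with rfl | hw
        · simp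
        obtain ⟨m, rfl, -⟩ := hreg a w ha hw
        rw [← mul_smul, mul_comm l m, mul_smul, hl', smul_mul', ← mul_smul, mul_comm m k, mul_smul]
      have hsum : k⁻¹ • a * l⁻¹ • a = (k * l)⁻¹ • a := by
        apply MulAction.injective (k * l)
        show (k * l) • (k⁻¹ • a * l⁻¹ • a) = (k * l) • (k * l)⁻¹ • a
        rw [smul_inv_smul, smul_mul', ← mul_smul, ← mul_smul, mul_inv_cancel_comm, mul_inv_cancel_right,
          hl', mul_comm (k • a) a, mul_assoc, h2, mul_one]
      have hLl : L (l • a) = L (k • a) := by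
        show B a (l • a) = B a (k • a)
        rw [hl', hr, hd, mul_one]
      have h3 : L ((k * l)⁻¹ • a) = (k * l)⁻¹ • L (k • a) := by
        rw [← hsum]
        show B a (k⁻¹ • a * l⁻¹ • a) = _
        rw [hr]
        show L (k⁻¹ • a) * L (l⁻¹ • a) = _
        rw [hLinv k⁻¹, hLinv l⁻¹, inv_inv, inv_inv, hLl]
        apply MulAction.injective (k * l)
        show (k * l) • _ = (k * l) • _
        rw [smul_inv_smul, smul_mul', ← mul_smul, ← mul_smul, mul_inv_cancel_comm,
          mul_inv_cancel_right, hlk, mul_comm (k • L (k • a)), mul_assoc, h2, mul_one]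
      have h4 := hLinv (k * l)
      rw [h3, smul_inv_smul, mul_smul, hl', smul_mul', ← mul_smul] at h4
      change B a ((k * k) • a * k • a) = B a (k • a) at h4
      rw [hr] at h4
      exact mul_eq_right.mp h4
  rcases eq_or_ne b 1 with rfl | hb
  · exact h1 a
  obtain ⟨m, rfl, -⟩ := hreg a b ha hb
  obtain ⟨k, rfl⟩ := hsq m
  exact hkey k

end Alt

section Main

variable {P : Type*} [Group P]

/-- conjugation difference -/
def dl (y a : P) : P := a⁻¹ * (y * a * y⁻¹)

theorem dl_one_iff (y a : P) : dl y a = 1 ↔ y * a = a * y := by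
  rw [dl, inv_mul_eq_one, eq_mul_inv_iff_mul_eq, eq_comm]

theorem suzuki_center_sq (hP : Cfsg.IsSuzukiTwoGroup P) :
    (∀ x : P, x * x = 1 → x ∈ Subgroup.center P) ∧ ∀ z ∈ Subgroup.center P, z * z = 1 := by
  classical
  obtain ⟨hfin, hp, ⟨x0, y0, hxy⟩, -, K, hcyc, hreg⟩ := hP
  haveI := Fact.mk Nat.prime_two
  haveI : Nontrivial P := ⟨⟨x0 * y0, y0 * x0, hxy⟩⟩
  have hzk : ∀ (k : MulAut P) (z : P), z ∈ Subgroup.center P → k z ∈ Subgroup.center P := by
    intro k z hz
    rw [Subgroup.mem_center_iff] at hz ⊢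
    intro g
    have := congrArg k (hz (k.symm g))
    simpa using this
  -- involutions are central
  haveI := hp.center_nontrivial
  obtain ⟨t, ht⟩ := exists_prime_orderOf_dvd_card' (G := Subgroup.center P) 2 (by
    obtain ⟨k, hk0, hk⟩ := (hp.to_subgroup (Subgroup.center P)).nontrivial_iff_card.mp inferInstance
    rw [hk]; exact dvd_pow_self 2 hk0.ne')
  have ht1 : (t : P) ≠ 1 := fun h => by
    rw [show t = 1 from Subtype.ext h, orderOf_one] at ht; omega
  have ht2 : (t : P) * t = 1 := by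
    have h := pow_orderOf_eq_one t
    rw [ht, pow_two] at h
    exact congrArg Subtype.val h
  have hinvc : ∀ x : P, x * x = 1 → x ∈ Subgroup.center P := by
    intro x hx
    rcases eq_or_ne x 1 with rfl | hx1
    · exact one_mem _
    obtain ⟨k, hk, -⟩ := hreg t x ht1 ht2 hx1 hx
    rw [← hk]; exact hzk _ _ t.2
  refine ⟨hinvc, ?_⟩
  by_contra hcon
  push Not at hcon
  obtain ⟨z, hzc, hz2⟩ := hcon
  -- a central element of order four
  obtain ⟨i, hi⟩ := (IsPGroup.iff_orderOf.mp hp) z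
  have hi2 : 2 ≤ i := by
    by_contra h
    interval_cases i
    · rw [pow_zero, orderOf_eq_one_iff] at hi; exact hz2 (by rw [hi, mul_one])
    · have h := pow_orderOf_eq_one z; rw [hi, pow_one, pow_two] at h; exact hz2 h
  have h4c : ∀ x : P, x ^ 4 = 1 → x ∈ Subgroup.center P := by
    intro x hx
    have hxx : x * x * (x * x) = 1 := by rw [← hx]; simp only [pow_succ, pow_zero, one_mul, mul_assoc]
    rcases eq_or_ne (x * x) 1 with h | h
    · exact hinvc x h
    set w := z ^ 2 ^ (i - 2) with hw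
    have hwc : w ∈ Subgroup.center P := pow_mem hzc _
    have hw4 : w * w * (w * w) = 1 := by
      have h := pow_orderOf_eq_one z
      rw [hi] at h
      simp only [hw, ← pow_add]
      rw [← h]; congr 1
      obtain ⟨j, rfl⟩ := Nat.exists_eq_add_of_le hi2
      rw [Nat.add_sub_cancel_left, pow_add]; ring
    have hww : w * w ≠ 1 := by
      intro he
      rw [hw, ← pow_add] at he
      have := orderOf_dvd_of_pow_eq_one he
      rw [hi] at this
      obtain ⟨j, rfl⟩ := Nat.exists_eq_add_of_le hi2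
      rw [Nat.add_sub_cancel_left, ← two_mul, ← pow_succ',
        Nat.pow_dvd_pow_iff_le_right (by norm_num)] at this
      omega
    obtain ⟨k, hk, -⟩ := hreg (w * w) (x * x) hww hw4 h hxx
    set u := (k : MulAut P) w with hu
    have huc : u ∈ Subgroup.center P := hzk _ _ hwc
    rw [map_mul, ← hu] at hk
    have hxu : x * u⁻¹ ∈ Subgroup.center P := hinvc _ (by
      have hc : x * u⁻¹ = u⁻¹ * x := Subgroup.mem_center_iff.mp (inv_mem huc) x
      calc x * u⁻¹ * (x * u⁻¹) = x * (u⁻¹ * x) * u⁻¹ := by group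
        _ = x * x * (u⁻¹ * u⁻¹) := by rw [← hc]; group
        _ = 1 := by rw [← hk]; group)
    simpa using mul_mem hxu huc
  -- maximal invariant abelian normal subgroup over the centre
  let S : Set (Subgroup P) := {A | A.Normal ∧ (∀ a ∈ A, ∀ b ∈ A, a * b = b * a) ∧
    (∀ k ∈ K, ∀ a ∈ A, k a ∈ A) ∧ Subgroup.center P ≤ A}
  obtain ⟨A, hAS, hAmax⟩ := S.toFinite.exists_maximal ⟨Subgroup.center P,
    ⟨inferInstance, fun a _ b hb => Subgroup.mem_center_iff.mp hb a,
      fun k _ a ha => hzk k a ha, le_rfl⟩⟩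
  obtain ⟨hAn, hAc, hAK, hZA⟩ := hAS
  have hcomm : ∀ a ∈ A, ∀ b ∈ A, ∀ n : ℕ, (a * b) ^ n = a ^ n * b ^ n :=
    fun a ha b hb n => (show Commute a b from hAc a ha b hb).mul_pow n
  -- the exponent of A
  obtain ⟨⟨w0, hw0⟩, hw0max⟩ := Finite.exists_max (fun a : A => orderOf (a : P))
  obtain ⟨m, hm⟩ := (IsPGroup.iff_orderOf.mp hp) w0
  have hexp : ∀ a ∈ A, a ^ 2 ^ m = 1 := by
    intro a ha
    obtain ⟨j, hj⟩ := (IsPGroup.iff_orderOf.mp hp) a
    have h := hw0max ⟨a, ha⟩
    simp only [hj, hm] at h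
    refine orderOf_dvd_iff_pow_eq_one.mp ?_
    rw [hj]; exact pow_dvd_pow 2 ((Nat.pow_le_pow_iff_right (by norm_num)).mp h)
  have hm2 : 2 ≤ m := by
    have h := hw0max ⟨z, hZA hzc⟩
    simp only [hi, hm] at h
    exact hi2.trans ((Nat.pow_le_pow_iff_right (by norm_num)).mp h)
  obtain ⟨n, rfl⟩ : ∃ n, m = n + 2 := ⟨m - 2, by omega⟩
  have hw0top : w0 ^ 2 ^ (n + 1) ≠ 1 := by
    intro h
    have := orderOf_dvd_of_pow_eq_one h
    rw [hm, Nat.pow_dvd_pow_iff_le_right (by norm_num)] at this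
    omega
  -- g
  let g : P → P := fun a => a ^ 2 ^ (n + 1)
  have hg2 : ∀ a ∈ A, g a * g a = 1 := fun a ha => by
    show a ^ _ * a ^ _ = 1
    rw [← pow_add, ← two_mul, ← pow_succ']; exact hexp a ha
  have hgsurj : ∀ v : P, v * v = 1 → ∃ a ∈ A, g a = v := by
    intro v hv
    rcases eq_or_ne v 1 with rfl | hv1
    · exact ⟨1, one_mem A, one_pow _⟩
    obtain ⟨k, hk, -⟩ := hreg (g w0) v hw0top (hg2 w0 hw0) hv1 hv
    exact ⟨(k : MulAut P) w0, hAK _ k.2 _ hw0, by rw [← hk]; exact (map_pow _ _ _).symm⟩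
  have hroot : ∀ r, r ≤ n + 1 → ∀ a ∈ A, a ^ 2 ^ r = 1 → ∃ b ∈ A, b * b = a := by
    intro r
    induction r with
    | zero => intro _ a _ h; exact ⟨1, one_mem A, by simpa using h.symm⟩
    | succ r ih =>
      intro hr a ha h
      obtain ⟨w, hwA, hw⟩ := hgsurj (a ^ 2 ^ r) (by rw [← pow_add, ← two_mul, ← pow_succ']; exact h)
      obtain ⟨j, hj⟩ := Nat.exists_eq_add_of_le hr
      set c := w ^ 2 ^ j with hc
      have hcA : c ∈ A := pow_mem hwA _
      have hcpow : (c * c) ^ 2 ^ r = a ^ 2 ^ r := by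
        rw [← hw, hc, ← pow_add, ← two_mul, ← pow_succ', ← pow_mul, ← pow_add]
        show _ = w ^ _
        congr 2; omega
      obtain ⟨b, hbA, hb⟩ := ih (by omega) (a * (c * c)⁻¹) (mul_mem ha (inv_mem (mul_mem hcA hcA)))
        (by rw [hcomm a ha _ (inv_mem (mul_mem hcA hcA)), inv_pow, hcpow, mul_inv_cancel])
      refine ⟨b * c, mul_mem hbA hcA, ?_⟩
      calc b * c * (b * c) = b * (c * b) * c := by group
        _ = (b * b) * (c * c) := by rw [hAc c hcA b hbA]; group
        _ = a := by rw [hb, inv_mul_cancel_right]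
  have hgker : ∀ a ∈ A, g a = 1 → ∃ b ∈ A, b * b = a := hroot (n + 1) le_rfl
  -- U
  let q := QuotientGroup.mk' A
  let U : Subgroup P :=
    { carrier := {y | q y * q y = 1 ∧ q y ∈ Subgroup.center (P ⧸ A)}
      mul_mem' := fun {x y} hx hy => ⟨by
        rw [map_mul]
        calc q x * q y * (q x * q y) = q x * (q y * q x) * q y := by group
          _ = (q x * q x) * (q y * q y) := by
            rw [Subgroup.mem_center_iff.mp hx.2 (q y)]; group
          _ = 1 := by rw [hx.1, hy.1, one_mul],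
        by rw [map_mul]; exact mul_mem hx.2 hy.2⟩
      one_mem' := ⟨by simp, by simp⟩
      inv_mem' := fun {x} hx => ⟨by
        rw [map_inv, ← mul_inv_rev, hx.1, inv_one], by rw [map_inv]; exact inv_mem hx.2⟩ }
  have hAU : A ≤ U := fun a ha => by
    have : q a = 1 := (QuotientGroup.eq_one_iff a).mpr ha
    exact ⟨by rw [this, one_mul], by rw [this]; exact one_mem _⟩
  have hUA2 : ∀ y ∈ U, y * y ∈ A := fun y hy => (QuotientGroup.eq_one_iff _).mp hy.1
  have hUcom : ∀ y ∈ U, ∀ x : P, y⁻¹ * x * y * x⁻¹ ∈ A := fun y hy x => by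
    refine (QuotientGroup.eq_one_iff _).mp ?_
    show q (y⁻¹ * x * y * x⁻¹) = 1
    rw [map_mul, map_mul, map_mul, map_inv, map_inv, mul_assoc (q y)⁻¹,
      Subgroup.mem_center_iff.mp hy.2 (q x)]
    group
  have hUn : U.Normal := ⟨fun y hy x => by
    have : q (x * y * x⁻¹) = q y := by
      rw [map_mul, map_mul, map_inv, Subgroup.mem_center_iff.mp hy.2 (q x)]; group
    exact ⟨by rw [this]; exact hy.1, by rw [this]; exact hy.2⟩⟩
  have hUK : ∀ k ∈ K, ∀ y ∈ U, k y ∈ U := by
    intro k hk y hy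
    refine ⟨?_, Subgroup.mem_center_iff.mpr fun x => ?_⟩
    · show q (k y) * q (k y) = 1
      rw [← map_mul, ← map_mul]
      exact (QuotientGroup.eq_one_iff _).mpr (hAK k hk _ (hUA2 y hy))
    · obtain ⟨x, rfl⟩ := QuotientGroup.mk'_surjective A x
      have h := hAK k hk _ (hUcom y hy (k.symm x))
      simp only [map_mul, map_inv, MulEquiv.apply_symm_apply] at h
      have h1 : q ((k y)⁻¹ * x * k y * x⁻¹) = 1 := (QuotientGroup.eq_one_iff _).mpr h
      rw [map_mul, map_mul, map_mul, map_inv, map_inv] at h1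
      rw [mul_inv_eq_one, mul_assoc, inv_mul_eq_iff_eq_mul] at h1
      exact h1
  have hUne : ∃ y ∈ U, y ∉ A := by
    haveI : Nontrivial (P ⧸ A) := by
      rw [QuotientGroup.nontrivial_iff]
      intro h
      exact hxy (hAc x0 (h ▸ Subgroup.mem_top _) y0 (h ▸ Subgroup.mem_top _))
    haveI := (hp.to_quotient A).center_nontrivial
    obtain ⟨s, hs⟩ := exists_prime_orderOf_dvd_card' (G := Subgroup.center (P ⧸ A)) 2 (by
      obtain ⟨k, hk0, hk⟩ :=
        ((hp.to_quotient A).to_subgroup (Subgroup.center (P ⧸ A))).nontrivial_iff_card.mp inferInstance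
      rw [hk]; exact dvd_pow_self 2 hk0.ne')
    obtain ⟨y, hy⟩ := QuotientGroup.mk'_surjective A s.1
    refine ⟨y, ⟨?_, by rw [show q y = s.1 from hy]; exact s.2⟩, fun hyA => ?_⟩
    · have h := pow_orderOf_eq_one s
      rw [hs, pow_two] at h
      rw [show q y = s.1 from hy]; exact congrArg Subtype.val h
    · have : s = 1 := Subtype.ext (hy.symm.trans ((QuotientGroup.eq_one_iff y).mpr hyA))
      rw [this, orderOf_one] at hs; omega
  -- δ
  have hdA : ∀ y : P, ∀ a ∈ A, dl y a ∈ A := fun y a ha => mul_mem (inv_mem ha) (hAn.conj_mem a ha y)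
  have hdmul : ∀ y : P, ∀ a ∈ A, ∀ b ∈ A, dl y (a * b) = dl y a * dl y b := fun y a ha b hb => by
    show (a * b)⁻¹ * (y * (a * b) * y⁻¹) = _
    calc (a * b)⁻¹ * (y * (a * b) * y⁻¹) = b⁻¹ * dl y a * (y * b * y⁻¹) := by rw [dl]; group
      _ = dl y a * b⁻¹ * (y * b * y⁻¹) := by rw [hAc _ (inv_mem hb) _ (hdA y a ha)]
      _ = dl y a * dl y b := by simp only [dl]; group
  have hdc : ∀ y c : P, c ∈ Subgroup.center P → dl y c = 1 := fun y c hc =>
    (dl_one_iff y c).mpr (Subgroup.mem_center_iff.mp hc y)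
  have hd1 : ∀ y : P, dl y 1 = 1 := fun y => hdc y 1 (one_mem _)
  have hdpow : ∀ y : P, ∀ a ∈ A, ∀ j : ℕ, dl y (a ^ j) = dl y a ^ j := by
    intro y a ha j
    induction j with
    | zero => simpa using hd1 y
    | succ j ih => rw [pow_succ, pow_succ, hdmul y _ (pow_mem ha j) _ ha, ih]
  have hdd : ∀ y ∈ U, ∀ a ∈ A, dl y (dl y a) = (dl y a)⁻¹ * (dl y a)⁻¹ := by
    intro y hy a ha
    have h2 := hAc _ (hUA2 y hy) a ha
    have : y * dl y a * y⁻¹ = (dl y a)⁻¹ := by
      calc y * dl y a * y⁻¹ = (y * a⁻¹ * y⁻¹) * ((y * y) * a * (y * y)⁻¹) := by rw [dl]; group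
        _ = (dl y a)⁻¹ := by rw [h2, dl]; group
    show (dl y a)⁻¹ * (y * dl y a * y⁻¹) = _
    rw [this]
  have hd2 : ∀ y ∈ U, ∀ r, ∀ a ∈ A, a ^ 2 ^ r = 1 → dl y a * dl y a = 1 := by
    intro y hy r
    induction r with
    | zero => intro a _ h; rw [pow_zero, pow_one] at h; rw [h, hd1, one_mul]
    | succ r ih =>
      intro a ha h
      have hdA' := hdA y a ha
      have h1 : dl y a ^ 2 ^ r = 1 := by
        rw [← hdpow y a ha]
        exact hdc y _ (hinvc _ (by rw [← pow_add, ← two_mul, ← pow_succ']; exact h))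
      have h2 := ih _ hdA' h1
      rw [hdd y hy a ha] at h2
      have h4 : dl y a ^ 4 = 1 := by
        apply inv_injective; rw [inv_one]; rw [← h2]; group
      have h5 := hdd y hy a ha
      rw [hdc y _ (h4c _ h4), ← mul_inv_rev, eq_comm, inv_eq_one] at h5
      exact h5
  have hdV : ∀ y ∈ U, ∀ a ∈ A, dl y a * dl y a = 1 := fun y hy a ha =>
    hd2 y hy (n + 2) a ha (hexp a ha)
  have hdl : ∀ y y', y' ∈ U → ∀ a ∈ A, dl (y * y') a = dl y a * dl y' a := fun y y' hy' a ha => by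
    have hc := Subgroup.mem_center_iff.mp (hinvc _ (hdV y' hy' a ha)) y
    calc dl (y * y') a = a⁻¹ * (y * (a * dl y' a) * y⁻¹) := by simp only [dl]; group
      _ = a⁻¹ * (y * a * (dl y' a * y⁻¹)) := by group
      _ = dl y a * dl y' a := by
        rw [← Subgroup.mem_center_iff.mp (hinvc _ (hdV y' hy' a ha)) y⁻¹]; simp only [dl]; group
  -- f
  let f : P → P := fun y => g (y * y)
  have hfker : ∀ y ∈ U, f y = 1 → y ∈ A := by
    intro y hy hf
    obtain ⟨b, hb, hbb⟩ := hgker _ (hUA2 y hy) hf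
    have hc := hdV y hy b⁻¹ (inv_mem hb)
    obtain ⟨w, hwA, hw⟩ := hgsurj (dl y b⁻¹) hc
    set d := w ^ 2 ^ n with hd
    have hdd' : d * d = dl y b⁻¹ := by
      rw [← hw, hd, ← pow_add, ← two_mul, ← pow_succ']
    have hdA2 : d ∈ A := pow_mem hwA _
    have hdcen : d ∈ Subgroup.center P := h4c d (by
      rw [show d ^ 4 = d * d * (d * d) by simp only [pow_succ, pow_zero, one_mul, mul_assoc], hdd', hc])
    have hsq : (y * b⁻¹) * (y * b⁻¹) = d * d := by
      have h1 : y * b⁻¹ = b⁻¹ * dl y b⁻¹ * y := by rw [dl]; group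
      calc (y * b⁻¹) * (y * b⁻¹) = (b⁻¹ * dl y b⁻¹ * y) * (y * b⁻¹) := by conv_lhs => arg 1; rw [h1]
        _ = b⁻¹ * dl y b⁻¹ * ((y * y) * b⁻¹) := by group
        _ = b⁻¹ * dl y b⁻¹ * b := by rw [← hbb]; group
        _ = d * d := by
          rw [← hAc _ (hdA y _ (inv_mem hb)) _ (inv_mem hb), inv_mul_cancel_right, hdd']
    have hin : y * b⁻¹ * d⁻¹ ∈ Subgroup.center P := hinvc _ (by
      calc y * b⁻¹ * d⁻¹ * (y * b⁻¹ * d⁻¹) = y * b⁻¹ * (d⁻¹ * (y * b⁻¹)) * d⁻¹ := by group
        _ = (y * b⁻¹) * (y * b⁻¹) * (d⁻¹ * d⁻¹) := by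
          rw [← Subgroup.mem_center_iff.mp (inv_mem hdcen) (y * b⁻¹)]; group
        _ = 1 := by rw [hsq]; group)
    have := mul_mem (mul_mem (hZA hin) hdA2) hb
    simpa [mul_assoc] using this
  -- c
  have hkey : ∀ y ∈ U, ∀ y' ∈ U,
      let c := y⁻¹ * y' * y * y'⁻¹
      c * c * c * c = 1 ∧ ((∀ a ∈ A, dl y a = 1) → c * c = 1) ∧ g c = 1 := by
    intro y hy y' hy' c
    have hcA : c ∈ A := hUcom y hy y'
    have ha := hUA2 y' hy'
    have h1 : c * c * dl y' c = dl y⁻¹ (y' * y') := by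
      calc c * c * dl y' c = c * (y' * c * y'⁻¹) := by rw [dl]; group
        _ = y⁻¹ * (y' * y') * y * (y' * y')⁻¹ := by simp only [c]; group
        _ = dl y⁻¹ (y' * y') := by
          have h := hAc _ (inv_mem ha) _ (hAn.conj_mem _ ha y⁻¹)
          rw [inv_inv] at h
          rw [dl, inv_inv, ← h]
    have hv := hdV y⁻¹ (inv_mem hy) _ ha
    have hw := hdV y' hy' c hcA
    have h4 : c * c * c * c = 1 := by
      have hcomm' := Subgroup.mem_center_iff.mp (hinvc _ hw) (c * c)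
      calc c * c * c * c = (c * c) * (c * c) * (dl y' c * dl y' c) := by rw [hw]; group
        _ = (c * c) * ((c * c) * dl y' c) * dl y' c := by group
        _ = (c * c) * (dl y' c * (c * c)) * dl y' c := by rw [hcomm']
        _ = (c * c * dl y' c) * (c * c * dl y' c) := by group
        _ = 1 := by rw [h1, hv]
    have hcc : c ∈ Subgroup.center P := h4c c (by rw [← h4]; simp only [pow_succ, pow_zero, one_mul, mul_assoc])
    rw [hdc y' c hcc, mul_one] at h1
    refine ⟨h4, fun h => ?_, ?_⟩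
    · rw [h1, dl_one_iff]
      have := (dl_one_iff y _).mp (h _ ha)
      exact (show Commute y (y' * y') from this).inv_left.eq
    · rcases Nat.eq_zero_or_pos n with hn | hn
      · have hac : y' * y' ∈ Subgroup.center P := h4c _ (by
          have := hexp _ ha; rw [hn] at this; exact this)
        rw [hdc _ _ hac] at h1
        show c ^ 2 ^ (n + 1) = 1
        rw [hn]; rw [show c ^ 2 ^ (0 + 1) = c * c by simp [pow_two], h1]
      · obtain ⟨j, rfl⟩ : ∃ j, n = j + 1 := ⟨n - 1, by omega⟩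
        show c ^ 2 ^ (j + 1 + 1) = 1
        rw [pow_add, pow_add, show (2 : ℕ) ^ j * 2 ^ 1 * 2 ^ 1 = 4 * 2 ^ j by ring, pow_mul,
          show c ^ 4 = c * c * c * c by simp only [pow_succ, pow_zero, one_mul], h4, one_pow]
  have hfmul : ∀ y ∈ U, ∀ y' ∈ U, f (y * y') = f y * f y' := by
    intro y hy y' hy'
    obtain ⟨-, -, hgc⟩ := hkey y hy y' hy'
    set c := y⁻¹ * y' * y * y'⁻¹ with hc
    have hcA : c ∈ A := hUcom y hy y'
    have : y * y' * (y * y') = (y * y) * c * (y' * y') := by rw [hc]; group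
    show g (y * y' * (y * y')) = g (y * y) * g (y' * y')
    rw [this]
    show (y * y * c * (y' * y')) ^ 2 ^ (n + 1) = _
    rw [hcomm _ (mul_mem (hUA2 y hy) hcA) _ (hUA2 y' hy'), hcomm _ (hUA2 y hy) _ hcA,
      show c ^ 2 ^ (n + 1) = 1 from hgc, mul_one]
  have hfsurj : ∀ v : P, v * v = 1 → ∃ y ∈ U, f y = v := by
    intro v hv
    rcases eq_or_ne v 1 with rfl | hv1
    · exact ⟨1, one_mem U, by simp [f, g]⟩
    obtain ⟨y, hyU, hyA⟩ := hUne
    obtain ⟨k, hk, -⟩ := hreg (f y) v (fun h => hyA (hfker y hyU h)) (hg2 _ (hUA2 y hyU)) hv1 hv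
    exact ⟨(k : MulAut P) y, hUK _ k.2 y hyU, by rw [← hk]; simp [f, g]⟩
  -- the module
  let V : Subgroup P :=
    { carrier := {x | x * x = 1}
      mul_mem' := fun {x y} (hx : x * x = 1) (hy : y * y = 1) => by
        show x * y * (x * y) = 1
        calc x * y * (x * y) = x * (y * x) * y := by group
          _ = x * x * (y * y) := by rw [Subgroup.mem_center_iff.mp (hinvc x hx) y]; group
          _ = 1 := by rw [hx, hy, one_mul]
      one_mem' := one_mul 1
      inv_mem' := fun {x} (hx : x * x = 1) => by show x⁻¹ * x⁻¹ = 1; rw [← mul_inv_rev, hx, inv_one] }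
  letI : CommGroup V :=
    { (inferInstance : Group V) with
      mul_comm := fun a b => Subtype.ext (Subgroup.mem_center_iff.mp (hinvc _ b.2) a.1) }
  letI : CommGroup K := { (inferInstance : Group K) with mul_comm := hcyc.commutative.is_comm.comm }
  haveI : Finite K := Finite.of_injective (fun k : K => ((k : MulAut P) : P → P))
    (fun k l h => Subtype.ext (MulEquiv.ext (congrFun h)))
  letI : MulDistribMulAction K V :=
    { smul := fun k v => ⟨(k : MulAut P) v, by
        show (k : MulAut P) v * (k : MulAut P) v = 1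
        rw [← map_mul, show (v : P) * v = 1 from v.2, map_one]⟩
      one_smul := fun v => Subtype.ext rfl
      mul_smul := fun k l v => Subtype.ext rfl
      smul_mul := fun k a b => Subtype.ext (map_mul (k : MulAut P) a.1 b.1)
      smul_one := fun k => Subtype.ext (map_one (k : MulAut P)) }
  have hreg' : ∀ x y : V, x ≠ 1 → y ≠ 1 → ∃! k : K, k • x = y := by
    intro x y hx hy
    obtain ⟨k, hk, hu⟩ := hreg x y (fun h => hx (Subtype.ext h)) x.2 (fun h => hy (Subtype.ext h)) y.2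
    exact ⟨k, Subtype.ext hk, fun l hl => hu l (congrArg Subtype.val hl)⟩
  have hV2 : ∀ v : V, v * v = 1 := fun v => Subtype.ext v.2
  choose sy hsyU hsy using fun v : V => hfsurj v v.2
  choose sa hsaA hsa using fun v : V => hgsurj v v.2
  -- dl depends only on f, g
  have hwa : ∀ y ∈ U, ∀ a ∈ A, g a = 1 → dl y a = 1 := fun y hy a ha h => by
    obtain ⟨b, hb, rfl⟩ := hgker a ha h
    rw [hdmul y b hb b hb]; exact hdV y hy b hb
  have hwA : ∀ y ∈ A, ∀ a ∈ A, dl y a = 1 := fun y hy a ha => (dl_one_iff y a).mpr (hAc y hy a ha)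
  have hdeq : ∀ y ∈ U, ∀ y' ∈ U, f y = f y' → ∀ a ∈ A, ∀ a' ∈ A, g a = g a' →
      dl y a = dl y' a' := by
    intro y hy y' hy' hff a ha a' ha' hgg
    have h1 : y * y'⁻¹ ∈ A := hfker _ (mul_mem hy (inv_mem hy')) (by
      have h := hfmul _ (mul_mem hy (inv_mem hy')) y' hy'
      rw [inv_mul_cancel_right, hff] at h; exact right_eq_mul.mp h)
    have h2 : dl y a = dl y' a := by
      have h := hdl (y * y'⁻¹) y' hy' a ha
      rw [inv_mul_cancel_right, hwA _ h1 a ha, one_mul] at h; exact h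
    have h3 : dl y' a = dl y' a' := by
      have hga : g (a * a'⁻¹) = 1 := by
        show (a * a'⁻¹) ^ _ = 1
        rw [hcomm a ha _ (inv_mem ha'), inv_pow]
        exact mul_inv_eq_one.mpr hgg
      have h := hdmul y' (a * a'⁻¹) (mul_mem ha (inv_mem ha')) a' ha'
      rw [inv_mul_cancel_right, hwa y' hy' _ (mul_mem ha (inv_mem ha')) hga, one_mul] at h; exact h
    exact h2.trans h3
  let B : V → V → V := fun u v => ⟨dl (sy u) (sa v), hdV _ (hsyU u) _ (hsaA v)⟩
  have hB := alt_pairing_trivial (K := K) hV2 hreg' B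
    (fun u v w => Subtype.ext (by
      show dl (sy (u * v)) (sa w) = dl (sy u) (sa w) * dl (sy v) (sa w)
      rw [← hdl (sy u) (sy v) (hsyU v) _ (hsaA w)]
      exact hdeq _ (hsyU _) _ (mul_mem (hsyU u) (hsyU v))
        (by rw [hsy, hfmul _ (hsyU u) _ (hsyU v), hsy, hsy]; rfl) _ (hsaA w) _ (hsaA w) rfl))
    (fun u v w => Subtype.ext (by
      show dl (sy u) (sa (v * w)) = dl (sy u) (sa v) * dl (sy u) (sa w)
      rw [← hdmul _ _ (hsaA v) _ (hsaA w)]
      exact hdeq _ (hsyU u) _ (hsyU u) rfl _ (hsaA _) _ (mul_mem (hsaA v) (hsaA w))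
        (by rw [hsa]; show _ = (sa v * sa w) ^ _; rw [hcomm _ (hsaA v) _ (hsaA w)]
            exact (congrArg₂ (· * ·) (hsa v) (hsa w)).symm)))
    (fun k u v => Subtype.ext (by
      show dl (sy (k • u)) (sa (k • v)) = (k : MulAut P) (dl (sy u) (sa v))
      rw [show (k : MulAut P) (dl (sy u) (sa v)) = dl ((k : MulAut P) (sy u)) ((k : MulAut P) (sa v))
        by simp [dl]]
      exact hdeq _ (hsyU _) _ (hUK _ k.2 _ (hsyU u))
        (by rw [hsy]; show (k : MulAut P) u.1 = _; rw [← hsy u]; simp [f, g])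
        _ (hsaA _) _ (hAK _ k.2 _ (hsaA v))
        (by rw [hsa]; show (k : MulAut P) v.1 = _; rw [← hsa v]; simp [g])))
    (fun u => Subtype.ext (by
      show dl (sy u) (sa u) = 1
      rw [hdeq _ (hsyU u) _ (hsyU u) rfl _ (hsaA u) _ (hUA2 _ (hsyU u))
        (by rw [hsa]; exact (hsy u).symm), dl_one_iff]
      group))
  have hUA : ∀ y ∈ U, ∀ a ∈ A, dl y a = 1 := fun y hy a ha => by
    have h := congrArg Subtype.val (hB ⟨f y, hg2 _ (hUA2 y hy)⟩ ⟨g a, hg2 a ha⟩)
    change dl _ _ = 1 at h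
    rw [← h]
    exact hdeq _ hy _ (hsyU _) (hsy ⟨f y, hg2 _ (hUA2 y hy)⟩).symm _ ha _ (hsaA _) (hsa ⟨g a, hg2 a ha⟩).symm
  -- second pairing
  let cm : P → P → P := fun y y' => y⁻¹ * y' * y * y'⁻¹
  have hc2 : ∀ y ∈ U, ∀ y' ∈ U, cm y y' * cm y y' = 1 := fun y hy y' hy' =>
    (hkey y hy y' hy').2.1 (hUA y hy)
  have hcr : ∀ y ∈ U, ∀ u ∈ U, ∀ v ∈ U, cm y (u * v) = cm y u * cm y v := fun y hy u hu v hv => by
    have hc := Subgroup.mem_center_iff.mp (hinvc _ (hc2 y hy v hv))
    calc cm y (u * v) = (y⁻¹ * u * y) * cm y v * u⁻¹ := by simp only [cm]; group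
      _ = (y⁻¹ * u * y) * (u⁻¹ * cm y v) := by rw [mul_assoc, ← hc u⁻¹]
      _ = cm y u * cm y v := by simp only [cm]; group
  have hcl : ∀ y ∈ U, ∀ u ∈ U, ∀ v ∈ U, cm (u * v) y = cm u y * cm v y := fun y hy u hu v hv => by
    have hc := Subgroup.mem_center_iff.mp (hinvc _ (hc2 u hu y hy))
    calc cm (u * v) y = v⁻¹ * cm u y * (y * v * y⁻¹) := by simp only [cm]; group
      _ = cm u y * v⁻¹ * (y * v * y⁻¹) := by rw [hc v⁻¹]
      _ = cm u y * cm v y := by simp only [cm]; group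
  have hcA' : ∀ a ∈ A, ∀ y ∈ U, cm a y = 1 ∧ cm y a = 1 := fun a ha y hy => by
    have h := (dl_one_iff y a).mp (hUA y hy a ha)
    constructor
    · show a⁻¹ * y * a * y⁻¹ = 1
      rw [mul_assoc a⁻¹, h]; group
    · show y⁻¹ * a * y * a⁻¹ = 1
      rw [mul_assoc y⁻¹, ← h]; group
  have hceq : ∀ y ∈ U, ∀ y' ∈ U, ∀ u ∈ U, f y = f y' → cm y u = cm y' u ∧ cm u y = cm u y' := by
    intro y hy y' hy' u hu hff
    have h1 : y * y'⁻¹ ∈ A := hfker _ (mul_mem hy (inv_mem hy')) (by
      have h := hfmul _ (mul_mem hy (inv_mem hy')) y' hy'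
      rw [inv_mul_cancel_right, hff] at h; exact right_eq_mul.mp h)
    have e : y = (y * y'⁻¹) * y' := by group
    constructor
    · rw [e, hcl u hu _ (hAU h1) _ hy', (hcA' _ h1 u hu).1, one_mul]
    · rw [e, hcr u hu _ (hAU h1) _ hy', (hcA' _ h1 u hu).2, one_mul]
  let C : V → V → V := fun u v => ⟨cm (sy u) (sy v), hc2 _ (hsyU u) _ (hsyU v)⟩
  have hC := alt_pairing_trivial (K := K) hV2 hreg' C
    (fun u v w => Subtype.ext (by
      show cm (sy (u * v)) (sy w) = cm (sy u) (sy w) * cm (sy v) (sy w)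
      rw [← hcl _ (hsyU w) _ (hsyU u) _ (hsyU v)]
      exact (hceq _ (hsyU _) _ (mul_mem (hsyU u) (hsyU v)) _ (hsyU w)
        (by rw [hsy, hfmul _ (hsyU u) _ (hsyU v), hsy, hsy]; rfl)).1))
    (fun u v w => Subtype.ext (by
      show cm (sy u) (sy (v * w)) = cm (sy u) (sy v) * cm (sy u) (sy w)
      rw [← hcr _ (hsyU u) _ (hsyU v) _ (hsyU w)]
      exact (hceq _ (hsyU _) _ (mul_mem (hsyU v) (hsyU w)) _ (hsyU u)
        (by rw [hsy, hfmul _ (hsyU v) _ (hsyU w), hsy, hsy]; rfl)).2))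
    (fun k u v => Subtype.ext (by
      show cm (sy (k • u)) (sy (k • v)) = (k : MulAut P) (cm (sy u) (sy v))
      have hu := hUK _ k.2 _ (hsyU u)
      have hv := hUK _ k.2 _ (hsyU v)
      rw [show (k : MulAut P) (cm (sy u) (sy v)) = cm ((k : MulAut P) (sy u)) ((k : MulAut P) (sy v))
        by simp [cm]]
      rw [(hceq _ (hsyU (k • u)) _ hu _ (hsyU (k • v))
        (by rw [hsy]; show (k : MulAut P) u.1 = _; rw [← hsy u]; simp [f, g])).1]
      exact (hceq _ (hsyU (k • v)) _ hv _ hu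
        (by rw [hsy]; show (k : MulAut P) v.1 = _; rw [← hsy v]; simp [f, g])).2))
    (fun u => Subtype.ext (by show cm (sy u) (sy u) = 1; simp [cm]))
  have hUab : ∀ a ∈ U, ∀ b ∈ U, a * b = b * a := fun a ha b hb => by
    have h := congrArg Subtype.val (hC ⟨f a, hg2 _ (hUA2 a ha)⟩ ⟨f b, hg2 _ (hUA2 b hb)⟩)
    change cm _ _ = 1 at h
    rw [(hceq _ (hsyU _) _ ha _ (hsyU _) (hsy _)).1, (hceq _ (hsyU _) _ hb _ ha (hsy _)).2] at h
    calc a * b = a * (a⁻¹ * b * a * b⁻¹) * b := by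
          rw [show a⁻¹ * b * a * b⁻¹ = 1 from h, mul_one]
      _ = b * a := by group
  obtain ⟨y, hyU, hyA⟩ := hUne
  exact hyA (hAmax ⟨hUn, hUab, hUK, hZA.trans hAU⟩ hAU hyU)

end Main

/-- In a Suzuki 2-group `P` (a finite non-abelian 2-group with more than one involution admitting a cyclic group of automorphisms regular on its involutions) the involutions are exactly the non-identity central elements, and `Z(P)` is elementary abelian. -/
theorem result {P : Type*} [Group P] (hP : Cfsg.IsSuzukiTwoGroup P) :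
    (∀ x : P, (x ≠ 1 ∧ x * x = 1) ↔ (x ∈ Subgroup.center P ∧ x ≠ 1)) ∧
      ∀ z ∈ Subgroup.center P, z * z = 1 := by
  obtain ⟨h1, h2⟩ := suzuki_center_sq hP
  exact ⟨fun x => ⟨fun h => ⟨h1 x h.2, h.1⟩, fun h => ⟨h.2, h2 x h.1⟩⟩, h2⟩

end Cfsg.Agent.S1137
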