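import Cfsg.Statements.S1140
import Mathlib.FieldTheory.Finite.GaloisField

set_option autoImplicit false
open Cfsg

namespace Cfsg.Agent.S1140

/-- For a finite field `F` of characteristic 2, the automorphisms of `F`, viewed as additive maps `F → F`, are linearly independent over `F` (acting on values) every additive endomorphism of `F` is an `F`-linear combination of them, and every biadditive map `F → F → F` is an `F`-combination of the maps `(x, y) ↦ σ(x) τ(y)`. -/
theorem result {F : Type*} [Field F] [Fintype F] [CharP F 2] :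
    LinearIndependent F (fun σ : F ≃+* F => ((σ : F →+* F) : F → F)) ∧
      (∀ f : F →+ F, ∃ (s : Finset (F ≃+* F)) (c : (F ≃+* F) → F), ∀ x : F, f x = ∑ σ ∈ s, c σ * σ x) ∧
      ∀ B : F →+ F →+ F, ∃ (s : Finset ((F ≃+* F) × (F ≃+* F))) (c : (F ≃+* F) × (F ≃+* F) → F),
        ∀ x y : F, B x y = ∑ p ∈ s, c p * (p.1 x * p.2 y) := by
  classical
  haveI : Finite (F ≃+* F) := Finite.of_injective (fun σ => (σ : F → F)) DFunLike.coe_injective
  haveI : Fintype (F ≃+* F) := Fintype.ofFinite _
  have hli : LinearIndependent F (fun σ : F ≃+* F => ((σ : F →+* F) : F → F)) := by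
    have h := linearIndependent_monoidHom F F
    exact h.comp (fun σ : F ≃+* F => ((σ : F →+* F) : F →* F)) fun σ τ e => RingEquiv.ext fun x =>
      DFunLike.congr_fun e x
  have hspan : ∀ f : F →+ F, ∃ c : (F ≃+* F) → F, ∀ x : F, f x = ∑ σ, c σ * σ x := by
    intro f
    letI : Algebra (ZMod 2) F := ZMod.algebra F 2
    let V : Submodule F (F → F) :=
      { carrier := {g | ∀ x y, g (x + y) = g x + g y}
        add_mem' := fun {g h} hg hh x y => by simp only [Pi.add_apply, hg x y, hh x y]; ring
        zero_mem' := fun x y => by simp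
        smul_mem' := fun c g hg x y => by simp only [Pi.smul_apply, smul_eq_mul, hg x y]; ring }
    let e : (F →ₗ[ZMod 2] F) ≃ₗ[F] V :=
      { toFun := fun g => ⟨g, fun x y => g.map_add x y⟩
        map_add' := fun g h => rfl
        map_smul' := fun c g => rfl
        invFun := fun g => AddMonoidHom.toZModLinearMap 2 (AddMonoidHom.mk' g.1 g.2)
        left_inv := fun g => rfl
        right_inv := fun g => rfl }
    have hVdim : Module.finrank F V = Module.finrank (ZMod 2) F := by
      rw [← e.finrank_eq, Module.finrank_linearMap_self]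
    have hcard : Fintype.card (F ≃+* F) = Module.finrank (ZMod 2) F := by
      rw [← IsGalois.card_aut_eq_finrank (ZMod 2) F, ← Nat.card_eq_fintype_card]
      refine Nat.card_congr
        { toFun := fun σ => AlgEquiv.ofRingEquiv (f := σ) fun c => DFunLike.congr_fun
            (Subsingleton.elim ((σ : F →+* F).comp (algebraMap (ZMod 2) F)) (algebraMap (ZMod 2) F)) c
          invFun := fun σ => σ.toRingEquiv
          left_inv := fun σ => rfl
          right_inv := fun σ => rfl }
    have hle : Submodule.span F (Set.range fun σ : F ≃+* F => ((σ : F →+* F) : F → F)) ≤ V :=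
      Submodule.span_le.2 (by rintro _ ⟨σ, rfl⟩ x y; exact map_add σ x y)
    have heq := Submodule.eq_of_le_of_finrank_eq hle (by rw [finrank_span_eq_card hli, hcard, hVdim])
    have hf : (f : F → F) ∈ V := map_add f
    rw [← heq] at hf
    obtain ⟨c, hc⟩ := (Submodule.mem_span_range_iff_exists_fun F).1 hf
    refine ⟨c, fun x => ?_⟩
    have hx := congrFun hc x
    simp only [Finset.sum_apply, Pi.smul_apply, smul_eq_mul] at hx
    rw [← hx]
    rfl
  refine ⟨hli, fun f => ?_, fun B => ?_⟩
  · obtain ⟨c, hc⟩ := hspan f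
    exact ⟨Finset.univ, c, hc⟩
  · have hB : ∀ x, ∃ d : (F ≃+* F) → F, ∀ y : F, B x y = ∑ τ, d τ * τ y := fun x => hspan (B x)
    choose d hd using hB
    have hli' := Fintype.linearIndependent_iff.1 hli
    have huniq : ∀ u w : (F ≃+* F) → F, (∀ y : F, ∑ τ, u τ * τ y = ∑ τ, w τ * τ y) → ∀ τ, u τ = w τ :=
      fun u w h τ => sub_eq_zero.1 (hli' (fun τ => u τ - w τ) (funext fun y => by
        simp only [Finset.sum_apply, Pi.smul_apply, smul_eq_mul, Pi.zero_apply, sub_mul, Finset.sum_sub_distrib]
        exact sub_eq_zero.2 (h y)) τ)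
    have hadd : ∀ τ x x', d (x + x') τ = d x τ + d x' τ := by
      intro τ x x'
      refine huniq (d (x + x')) (fun τ => d x τ + d x' τ) (fun y => ?_) τ
      simp only [add_mul, Finset.sum_add_distrib, ← hd, map_add, AddMonoidHom.add_apply]
    have hc : ∀ τ, ∃ c : (F ≃+* F) → F, ∀ x : F, d x τ = ∑ σ, c σ * σ x :=
      fun τ => hspan (AddMonoidHom.mk' (fun x => d x τ) (hadd τ))
    choose c hc using hc
    refine ⟨Finset.univ, fun p => c p.2 p.1, fun x y => ?_⟩
    rw [hd, Fintype.sum_prod_type, Finset.sum_comm]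
    refine Finset.sum_congr rfl fun τ _ => ?_
    rw [hc, Finset.sum_mul]
    exact Finset.sum_congr rfl fun σ _ => by ring

end Cfsg.Agent.S1140
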