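import Cfsg.Statements.S1141
import Cfsg.Agent.Lie.SUThreeTransfer
-- import your own Cfsg.Agent.* helpers here

set_option autoImplicit false
open Cfsg

namespace Cfsg.Agent.S1141

/-- Let `q = 2^n ≥ 4` and `|F| = q²`. A Sylow 2-subgroup `S` of `PSU₃(q)` has order `q³`, its centre has order `q`, and `S` is a Suzuki 2-group. -/
theorem result {F : Type*} [Field F] [Fintype F] {n : ℕ} (hn : 2 ≤ n)
    (hF : Fintype.card F = (2 ^ n) ^ 2) (S : Sylow 2 (Cfsg.PSU 3 F (2 ^ n))) :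
    Nat.card S = (2 ^ n) ^ 3 ∧ Nat.card (Subgroup.center ↥(S : Subgroup (Cfsg.PSU 3 F (2 ^ n)))) = 2 ^ n ∧
      Cfsg.IsSuzukiTwoGroup ↥(S : Subgroup (Cfsg.PSU 3 F (2 ^ n))) := by
  haveI : CharP F 2 := by
    haveI : Fact (Nat.Prime 2) := ⟨Nat.prime_two⟩
    exact charP_of_card_eq_prime_pow (R := F) (p := 2) (f := n * 2) (by rw [hF, pow_mul])
  haveI : Fact (Fintype.card F = (2 ^ n) ^ 2) := ⟨hF⟩
  obtain ⟨e⟩ := CfsgLib.Lie.SUThreeSylow.exists_iso hn rfl S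
  have hc := Nat.card_congr e.toEquiv
  rw [CfsgLib.Lie.SUThreeSylow.card_U] at hc
  refine ⟨hc, ?_, ?_⟩
  · rw [CfsgLib.Lie.SUThreeSylow.card_center_congr e, CfsgLib.Lie.SUThreeSylow.card_center]
  · refine CfsgLib.Lie.SUThreeSylow.isSuzuki_congr e (CfsgLib.Lie.SUThreeSylow.isSuzuki ?_ ?_)
    · exact (show (4 : ℕ) = 2 ^ 2 by norm_num) ▸ Nat.pow_le_pow_right two_pos hn
    · exact IsPGroup.of_card (n := n * 3) (by rw [CfsgLib.Lie.SUThreeSylow.card_U, pow_mul])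


end Cfsg.Agent.S1141
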