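import Cfsg.Statements.S1151
import Cfsg.Agent.Lie.ReeSylow

set_option autoImplicit false
open Cfsg

namespace Cfsg.Agent.S1151

/-- In the small Ree group ²G₂(q), q = 3^(2m+1), realised as G¹ inside the Chevalley group G₂ over the field with q elements (θ the 3^m-th power map), with H¹ = G¹ ∩ H and U¹ = G¹ ∩ U the intersections with the ambient diagonal and positive unipotent subgroups: `H¹` has exactly `(q - 1)/2` elements of odd order, and each non-identity one centralises no non-identity element of `U¹`. -/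
theorem result {K : Type*} [Field K] [Fintype K] {m : ℕ} (hK : Fintype.card K = 3 ^ (2 * m + 1)) :
    2 * Nat.card {h : ↥(Cfsg.Lie.chevG2.diagonalSubgroup K ⊓ Cfsg.Lie.twistedG2 K (3 ^ m)) // Odd (orderOf h)} = 3 ^ (2 * m + 1) - 1 ∧
      ∀ h ∈ (Cfsg.Lie.chevG2.diagonalSubgroup K ⊓ Cfsg.Lie.twistedG2 K (3 ^ m)), h ≠ 1 → Odd (orderOf h) →
        (Cfsg.Lie.chevG2.posUnipotent K ⊓ Cfsg.Lie.twistedG2 K (3 ^ m)) ⊓ Subgroup.centralizer {h} = ⊥ := by
  classical
  obtain ⟨A⟩ := CfsgLib.Chev.TwG2.exists_setup hK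
  let e : Kˣ ≃* ↥(Cfsg.Lie.chevG2.diagonalSubgroup K ⊓ Cfsg.Lie.twistedG2 K (3 ^ m)) :=
    (MonoidHom.ofInjective (CfsgLib.Chev.TwG2.Setup.diagHom_inj (F := K) (m := m))).trans
      (MulEquiv.subgroupCongr A.diagHom_range)
  obtain ⟨k, hk, hodd⟩ : ∃ k, 3 ^ (2 * m + 1) - 1 = 2 * k ∧ Odd k := by
    refine ⟨(3 ^ (2 * m + 1) - 1) / 2, ?_⟩
    have h4 : 3 ^ (2 * m + 1) % 4 = 3 := by
      rw [pow_succ, pow_mul, Nat.mul_mod, Nat.pow_mod]; simp
    generalize 3 ^ (2 * m + 1) = q at h4 ⊢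
    rw [Nat.odd_iff]
    omega
  have hcard : Nat.card Kˣ = 2 * k := by rw [Nat.card_units, Nat.card_eq_fintype_card, hK, hk]
  have hiff : ∀ a : Kˣ, Odd (orderOf a) ↔ a ^ k = 1 := fun a => by
    rw [← orderOf_dvd_iff_pow_eq_one]
    refine ⟨fun h => ?_, fun h => hodd.of_dvd_nat h⟩
    exact (Nat.coprime_two_right.2 h).dvd_of_dvd_mul_left (hcard ▸ orderOf_dvd_natCard a)
  refine ⟨?_, ?_⟩
  · rw [hk]
    congr 1
    rw [← Nat.card_congr (e.toEquiv.subtypeEquiv (p := fun a : Kˣ => a ∈ (powMonoidHom k : Kˣ →* Kˣ).ker)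
      (fun a => by rw [MonoidHom.mem_ker, powMonoidHom_apply, ← hiff]; exact Iff.of_eq (by rw [← MulEquiv.orderOf_eq e a]; rfl)))]
    rw [IsCyclic.card_powMonoidHom_ker, hcard]
    exact Nat.gcd_mul_left_left 2 k
  · intro h hh h1 ho
    obtain ⟨a, rfl⟩ : ∃ a, CfsgLib.Chev.TwG2.Setup.diagHom (F := K) (m := m) a = h := by
      have : h ∈ (CfsgLib.Chev.TwG2.Setup.diagHom (F := K) (m := m)).range := A.diagHom_range ▸ hh
      exact this
    rw [orderOf_injective _ CfsgLib.Chev.TwG2.Setup.diagHom_inj] at ho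
    have ha : a ^ 2 ≠ 1 := fun h2 => by
      rcases (Nat.dvd_prime Nat.prime_two).1 (orderOf_dvd_of_pow_eq_one h2) with e1 | e2
      · exact h1 (by rw [orderOf_eq_one_iff.1 e1, map_one])
      · rw [e2] at ho; exact absurd ho (by decide)
    rw [eq_bot_iff]
    rintro g ⟨hg, hc⟩
    obtain ⟨t, u, v, rfl⟩ := A.exists_ree hg
    rw [Subgroup.mem_bot]
    refine A.torus_fix_trivial a ha t u v ?_
    rw [mul_inv_eq_iff_eq_mul]
    exact (Subgroup.mem_centralizer_singleton_iff.1 hc).symm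

end Cfsg.Agent.S1151
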