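import Cfsg.Statements.S1153
import Cfsg.Agent.Lie.ReeBruhat

set_option autoImplicit false
open Cfsg

namespace Cfsg.Agent.S1153

/-- In the small Ree group ²G₂(q), q = 3^(2m+1), realised as G¹ inside the Chevalley group G₂ over the field with q elements, with `B¹ = G¹ ∩ B`: in the action of `G¹` on the cosets of `B¹`, the joint stabiliser of any three distinct cosets has order at most 2, and for some three distinct cosets it has order exactly 2. -/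
theorem result {K : Type*} [Field K] [Fintype K] {m : ℕ} (hK : Fintype.card K = 3 ^ (2 * m + 1)) :
    (∀ x y z : ↥(Cfsg.Lie.twistedG2 K (3 ^ m)) ⧸ ((Cfsg.Lie.chevG2.borelSubgroup K ⊓ Cfsg.Lie.twistedG2 K (3 ^ m))).subgroupOf (Cfsg.Lie.twistedG2 K (3 ^ m)), x ≠ y → x ≠ z → y ≠ z →
        Nat.card ↥(MulAction.stabilizer ↥(Cfsg.Lie.twistedG2 K (3 ^ m)) x ⊓ MulAction.stabilizer ↥(Cfsg.Lie.twistedG2 K (3 ^ m)) y ⊓ MulAction.stabilizer ↥(Cfsg.Lie.twistedG2 K (3 ^ m)) z) ≤ 2) ∧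
      ∃ x y z : ↥(Cfsg.Lie.twistedG2 K (3 ^ m)) ⧸ ((Cfsg.Lie.chevG2.borelSubgroup K ⊓ Cfsg.Lie.twistedG2 K (3 ^ m))).subgroupOf (Cfsg.Lie.twistedG2 K (3 ^ m)), x ≠ y ∧ x ≠ z ∧ y ≠ z ∧
        Nat.card ↥(MulAction.stabilizer ↥(Cfsg.Lie.twistedG2 K (3 ^ m)) x ⊓ MulAction.stabilizer ↥(Cfsg.Lie.twistedG2 K (3 ^ m)) y ⊓ MulAction.stabilizer ↥(Cfsg.Lie.twistedG2 K (3 ^ m)) z) = 2 := by
  classical
  obtain ⟨A⟩ := CfsgLib.Chev.TwG2.exists_setup hK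
  set G := Cfsg.Lie.twistedG2 K (3 ^ m)
  let ν : ↥G := ⟨A.grp.nu 0, A.grp.nu_mem 0⟩
  have hνB : ((ν : ↥G) : GL Cfsg.Lie.chevG2.Idx K) ∉ Cfsg.Lie.chevG2.borelSubgroup K := fun h => by
    have hd : A.grp.nu 0 ∈ Cfsg.Lie.chevG2.diagonalSubgroup K := by
      rw [← A.T.hC.fine.borel_inf_monomial]
      exact ⟨h, A.grp.nu_mon 0⟩
    exact A.wJ_ne_one (A.T.hC.fine.moves_unique (A.grp.nu_moves 0) (A.T.hC.fine.moves_diagonal hd))
  set Bs := ((Cfsg.Lie.chevG2.borelSubgroup K ⊓ G)).subgroupOf G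
  have hBs : ∀ g : ↥G, g ∈ Bs ↔ (g : GL Cfsg.Lie.chevG2.Idx K) ∈ Cfsg.Lie.chevG2.borelSubgroup K :=
    fun g => A.grp.mem_B_iff
  have hstab : ∀ g b : ↥G, b ∈ MulAction.stabilizer ↥G ((g : ↥G) : ↥G ⧸ Bs) ↔ g⁻¹ * b * g ∈ Bs := fun g b => by
    rw [MulAction.mem_stabilizer_iff, MulAction.Quotient.smul_coe, eq_comm, QuotientGroup.eq, smul_eq_mul, mul_assoc]
  -- every point other than the base point is a translate of `ν`
  have hpt : ∀ g : ↥G, (g : ↥G ⧸ Bs) ≠ ((1 : ↥G) : ↥G ⧸ Bs) → ∃ v : ↥G,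
      (v : GL Cfsg.Lie.chevG2.Idx K) ∈ Cfsg.Lie.chevG2.posUnipotent K ⊓ G ∧
        (g : ↥G ⧸ Bs) = ((v * ν : ↥G) : ↥G ⧸ Bs) := by
    intro g hg
    have hgB : (g : GL Cfsg.Lie.chevG2.Idx K) ∉ Cfsg.Lie.chevG2.borelSubgroup K := fun h => hg (by
      rw [QuotientGroup.eq, mul_one, hBs]; exact Subgroup.inv_mem _ h)
    obtain ⟨v, hv, k, hk, hmov, u, hu, e⟩ := (A.cases_elem g.2).resolve_left hgB
    refine ⟨⟨v, hv.2⟩, hv, ?_⟩
    rw [QuotientGroup.eq, hBs]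
    show (g : GL Cfsg.Lie.chevG2.Idx K)⁻¹ * (v * A.grp.nu 0) ∈ _
    rw [e, show (v * k * u)⁻¹ * (v * A.grp.nu 0) = u⁻¹ * (k⁻¹ * A.grp.nu 0) by group]
    refine Subgroup.mul_mem _ (Subgroup.inv_mem _ (CfsgLib.Chev.TwG2.Setup.pos_le_borel hu.1))
      (Subgroup.mem_sup_right ?_)
    refine A.T.hC.fine.mem_diagonal_of_moves_one (Subgroup.mul_mem _ (Subgroup.inv_mem _ hk.2) (A.grp.nu_mon 0)) ?_
    have := A.T.hC.fine.moves_mul (A.T.hC.fine.moves_inv hmov) (A.grp.nu_moves 0)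
    rwa [inv_mul_cancel] at this
  let C (v : ↥G) : Subgroup ↥G := MulAction.stabilizer ↥G ((1 : ↥G) : ↥G ⧸ Bs) ⊓
    MulAction.stabilizer ↥G ((ν : ↥G) : ↥G ⧸ Bs) ⊓ MulAction.stabilizer ↥G ((v * ν : ↥G) : ↥G ⧸ Bs)
  let f : Kˣ →* GL Cfsg.Lie.chevG2.Idx K := CfsgLib.Chev.TwG2.Setup.diagHom (F := K) (m := m)
  have hker : Nat.card (powMonoidHom 2 : Kˣ →* Kˣ).ker = 2 := by
    rw [IsCyclic.card_powMonoidHom_ker, Nat.card_units, Nat.card_eq_fintype_card, hK]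
    refine Nat.gcd_eq_right ?_
    have : Odd (3 ^ (2 * m + 1)) := (by decide : Odd 3).pow
    obtain ⟨r, hr⟩ := this
    omega
  have hfi : ((powMonoidHom 2 : Kˣ →* Kˣ).ker.map f) ≤ Cfsg.Lie.chevG2.diagonalSubgroup K ⊓ G := by
    rintro _ ⟨a, -, rfl⟩
    exact A.diagHom_range ▸ ⟨a, rfl⟩
  have hcard2 : Nat.card ((powMonoidHom 2 : Kˣ →* Kˣ).ker.map f) = 2 := by
    rw [Subgroup.card_map_of_injective CfsgLib.Chev.TwG2.Setup.diagHom_inj, hker]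
  have hbound : ∀ v : ↥G, (v : GL Cfsg.Lie.chevG2.Idx K) ∈ Cfsg.Lie.chevG2.posUnipotent K ⊓ G → v ≠ 1 →
      (C v).map G.subtype ≤ (powMonoidHom 2 : Kˣ →* Kˣ).ker.map f := by
    rintro v hv hv1 _ ⟨b, ⟨⟨h0, h1⟩, h2⟩, rfl⟩
    replace h0 := (hBs _).1 ((hstab _ _).1 h0)
    replace h1 := (hBs _).1 ((hstab _ _).1 h1)
    replace h2 := (hBs _).1 ((hstab _ _).1 h2)
    have h0' : (b : GL Cfsg.Lie.chevG2.Idx K) ∈ Cfsg.Lie.chevG2.borelSubgroup K := by simpa using h0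
    obtain ⟨a, ha, hfix⟩ := A.three_fix h0' b.2 h1 hv h2
    refine ⟨a, ?_, ha.symm⟩
    rw [SetLike.mem_coe, MonoidHom.mem_ker, powMonoidHom_apply]
    by_contra hne
    obtain ⟨t, u, w, e⟩ := A.exists_ree hv
    rw [e, ha] at hfix
    exact hv1 (Subtype.ext (e.trans (A.torus_fix_trivial a hne t u w hfix)))
  have hmapC : ∀ v, Nat.card ((C v).map G.subtype) = Nat.card (C v) := fun v =>
    Subgroup.card_map_of_injective Subtype.val_injective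
  refine ⟨fun x y z hxy hxz hyz => ?_, ?_⟩
  · obtain ⟨g, rfl⟩ := QuotientGroup.mk_surjective x
    obtain ⟨g2, rfl⟩ := QuotientGroup.mk_surjective y
    obtain ⟨g3, rfl⟩ := QuotientGroup.mk_surjective z
    have hmove : ∀ (w : ↥G) (r : ↥G ⧸ Bs), w⁻¹ • r ≠ ((1 : ↥G) : ↥G ⧸ Bs) ↔ r ≠ (w : ↥G ⧸ Bs) := fun w r => by
      rw [ne_eq, inv_smul_eq_iff, MulAction.Quotient.smul_coe, smul_eq_mul, mul_one]
    obtain ⟨v, hv, ev⟩ := hpt (g⁻¹ * g2) ((hmove g _).2 hxy.symm)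
    obtain ⟨v', hv', ev'⟩ := hpt ((g * v)⁻¹ * g3) (by
      refine (hmove (g * v) _).2 fun h => hxz (h.trans ?_).symm
      rw [QuotientGroup.eq, hBs]
      show ((g * v)⁻¹ * g : ↥G).1 ∈ _
      rw [show (g * v)⁻¹ * g = v⁻¹ by group]
      exact Subgroup.inv_mem _ (CfsgLib.Chev.TwG2.Setup.pos_le_borel hv.1))
    set w := g * v with hw
    have e1 : (g : ↥G ⧸ Bs) = w • ((1 : ↥G) : ↥G ⧸ Bs) := by
      rw [MulAction.Quotient.smul_coe, smul_eq_mul, mul_one, QuotientGroup.eq, hBs, hw]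
      show (g⁻¹ * (g * v) : ↥G).1 ∈ _
      rw [inv_mul_cancel_left]
      exact CfsgLib.Chev.TwG2.Setup.pos_le_borel hv.1
    have e2 : (g2 : ↥G ⧸ Bs) = w • (ν : ↥G ⧸ Bs) := by
      have := congrArg (g • ·) ev
      simp only [MulAction.Quotient.smul_coe, smul_eq_mul, mul_inv_cancel_left] at this
      rw [this, MulAction.Quotient.smul_coe, smul_eq_mul, hw, mul_assoc]
    have e3 : (g3 : ↥G ⧸ Bs) = w • ((v' * ν : ↥G) : ↥G ⧸ Bs) := by
      have := congrArg (w • ·) ev'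
      simp only [MulAction.Quotient.smul_coe, smul_eq_mul, mul_inv_cancel_left] at this
      rw [this, MulAction.Quotient.smul_coe, smul_eq_mul]
    have hv1 : v' ≠ 1 := fun h => hyz (by rw [e2, e3, h, one_mul])
    rw [e1, e2, e3, MulAction.stabilizer_smul_eq_stabilizer_map_conj,
      MulAction.stabilizer_smul_eq_stabilizer_map_conj, MulAction.stabilizer_smul_eq_stabilizer_map_conj,
      ← Subgroup.map_inf _ _ _ (MulAut.conj w).injective, ← Subgroup.map_inf _ _ _ (MulAut.conj w).injective,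
      Subgroup.card_map_of_injective (MulAut.conj w).injective]
    change Nat.card (C v') ≤ 2
    rw [← hmapC, ← hcard2]
    exact Nat.le_of_dvd Nat.card_pos (Subgroup.card_dvd_of_le (hbound v' hv' hv1))
  · let v : ↥G := ⟨A.ree false 0 1 0, (A.ree_pos _ _ _).2⟩
    have hv : (v : GL Cfsg.Lie.chevG2.Idx K) ∈ Cfsg.Lie.chevG2.posUnipotent K ⊓ G := A.ree_pos _ _ _
    have hv1 : v ≠ 1 := fun h => by
      have h' : A.ree false 0 1 0 = A.ree false 0 0 0 := by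
        rw [show A.ree false 0 0 0 = (1 : GL Cfsg.Lie.chevG2.Idx K) by
          simp [CfsgLib.Chev.TwG2.Setup.ree, CfsgLib.Chev.TwG2.nf, CfsgLib.Chev.TwG2.tail, CfsgLib.Chev.TwG2.z_zero]]
        exact congrArg Subtype.val h
      exact one_ne_zero (A.ree_inj h').2.1
    refine ⟨((1 : ↥G) : ↥G ⧸ Bs), (ν : ↥G ⧸ Bs), ((v * ν : ↥G) : ↥G ⧸ Bs), ?_, ?_, ?_, ?_⟩
    · rw [ne_eq, QuotientGroup.eq, inv_one, one_mul, hBs]
      exact hνB
    · rw [ne_eq, QuotientGroup.eq, inv_one, one_mul, hBs]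
      intro h
      refine hνB ?_
      have := Subgroup.mul_mem _ (Subgroup.inv_mem _ (CfsgLib.Chev.TwG2.Setup.pos_le_borel hv.1)) h
      rwa [Subgroup.coe_mul, inv_mul_cancel_left] at this
    · rw [ne_eq, QuotientGroup.eq, hBs]
      intro h
      refine hv1 (Subtype.ext ?_)
      refine A.eq_one_of_conj_borel (k := (A.grp.nu 0)⁻¹) ?_ hv ?_
      · have := A.T.hC.fine.moves_inv (A.grp.nu_moves 0)
        rwa [A.grp.wJ_inv] at this
      · rw [inv_inv, mul_assoc]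
        exact h
    · change Nat.card (C v) = 2
      rw [← hmapC, ← hcard2]
      congr 2
      refine le_antisymm (hbound v hv hv1) ?_
      rintro _ ⟨a, ha, rfl⟩
      have hd : f a ∈ Cfsg.Lie.chevG2.diagonalSubgroup K ⊓ G := hfi ⟨a, ha, rfl⟩
      have hdν : (A.grp.nu 0)⁻¹ * f a * A.grp.nu 0 ∈ Cfsg.Lie.chevG2.borelSubgroup K := by
        have := (Subgroup.mem_normalizer_iff.1 (A.T.hC.fine.monomial_le_normalizer_diagonal
          (inv_mem (A.grp.nu_mon 0))) (f a)).1 hd.1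
        rw [inv_inv] at this
        exact Subgroup.mem_sup_right this
      have hfix : f a * A.ree false 0 1 0 * (f a)⁻¹ = A.ree false 0 1 0 := A.ree_torus_fix a ha
      refine ⟨⟨f a, hd.2⟩, ⟨⟨(hstab _ _).2 ((hBs _).2 ?_), (hstab _ _).2 ((hBs _).2 ?_)⟩, (hstab _ _).2 ((hBs _).2 ?_)⟩, rfl⟩
      · show (1 : GL Cfsg.Lie.chevG2.Idx K)⁻¹ * f a * 1 ∈ _
        rw [inv_one, one_mul, mul_one]
        exact Subgroup.mem_sup_right hd.1
      · exact hdν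
      · show (A.ree false 0 1 0 * A.grp.nu 0)⁻¹ * f a * (A.ree false 0 1 0 * A.grp.nu 0) ∈ _
        rw [mul_inv_eq_iff_eq_mul] at hfix
        rw [show (A.ree false 0 1 0 * A.grp.nu 0)⁻¹ * f a * (A.ree false 0 1 0 * A.grp.nu 0) =
          (A.grp.nu 0)⁻¹ * ((A.ree false 0 1 0)⁻¹ * (f a * A.ree false 0 1 0)) * A.grp.nu 0 by group,
          hfix, inv_mul_cancel_left]
        exact hdν

end Cfsg.Agent.S1153
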