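import Cfsg.Statements.S1154
import Cfsg.Agent.Lie.ReeSylow

set_option autoImplicit false
open Cfsg

namespace Cfsg.Agent.S1154

/-- In the small Ree group ²G₂(q), q = 3^(2m+1) with m ≥ 1, realised as G¹ inside the Chevalley group G₂ over the field with q elements (θ the 3^m-th power map), with `U¹ = G¹ ∩ U` (U the positive unipotent subgroup of the ambient G₂): `U¹` has exactly `q² - 1` elements of order 3. -/
theorem result {K : Type*} [Field K] [Fintype K] {m : ℕ} (hm : 1 ≤ m) (hK : Fintype.card K = 3 ^ (2 * m + 1)) :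
    Nat.card {u : ↥(Cfsg.Lie.chevG2.posUnipotent K ⊓ Cfsg.Lie.twistedG2 K (3 ^ m)) // orderOf u = 3} = (3 ^ (2 * m + 1)) ^ 2 - 1 := by
  classical
  obtain ⟨A⟩ := CfsgLib.Chev.TwG2.exists_setup hK
  haveI : Fact (Nat.Prime 3) := ⟨Nat.prime_three⟩
  let f : {p : K × K // p ≠ (0, 0)} →
      {u : ↥(Cfsg.Lie.chevG2.posUnipotent K ⊓ Cfsg.Lie.twistedG2 K (3 ^ m)) // orderOf u = 3} := fun p =>
    ⟨⟨A.ree false 0 p.1.1 p.1.2, A.ree_pos _ _ _⟩, by
      rw [← orderOf_injective (Subgroup.subtype _) Subtype.val_injective]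
      refine orderOf_eq_prime ((A.ree_cube _ _ _).2 rfl) fun h => p.2 ?_
      have h0 : A.ree false 0 0 0 = (1 : GL Cfsg.Lie.chevG2.Idx K) := by
        simp [CfsgLib.Chev.TwG2.Setup.ree, CfsgLib.Chev.TwG2.nf, CfsgLib.Chev.TwG2.tail, CfsgLib.Chev.TwG2.z_zero]
      rw [← h0] at h
      obtain ⟨-, hu, hv⟩ := A.ree_inj h
      exact Prod.ext hu hv⟩
  have hf : Function.Bijective f := by
    constructor
    · intro p p' h
      obtain ⟨-, hu, hv⟩ := A.ree_inj (congrArg (fun x => (x.1.1 : GL Cfsg.Lie.chevG2.Idx K)) h)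
      exact Subtype.ext (Prod.ext hu hv)
    · rintro ⟨⟨g, hg⟩, hord⟩
      obtain ⟨t, u, v, rfl⟩ := A.exists_ree hg
      rw [← orderOf_injective (Subgroup.subtype _) Subtype.val_injective] at hord
      have hord' : orderOf (A.ree false t u v) = 3 := hord
      obtain rfl := (A.ree_cube t u v).1 (by rw [← hord', pow_orderOf_eq_one])
      refine ⟨⟨(u, v), fun h => ?_⟩, rfl⟩
      obtain ⟨rfl, rfl⟩ := Prod.mk_eq_zero.1 h
      rw [show A.ree false 0 0 0 = (1 : GL Cfsg.Lie.chevG2.Idx K) by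
        simp [CfsgLib.Chev.TwG2.Setup.ree, CfsgLib.Chev.TwG2.nf, CfsgLib.Chev.TwG2.tail, CfsgLib.Chev.TwG2.z_zero],
        orderOf_one] at hord'
      omega
  rw [← Nat.card_eq_of_bijective f hf, Nat.card_eq_fintype_card, Fintype.card_subtype_compl,
    Fintype.card_subtype_eq, Fintype.card_prod, hK, pow_two]

end Cfsg.Agent.S1154
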