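import Cfsg.Statements.S1155
import Cfsg.Agent.Lie.ReeBruhat

set_option autoImplicit false
open Cfsg

namespace Cfsg.Agent.S1155

/-- In the small Ree group ²G₂(q), q = 3^(2m+1) with m ≥ 1, realised as G¹ inside the Chevalley group G₂ over the field with q elements (θ the 3^m-th power map): distinct Sylow 3-subgroups of `G¹` meet trivially. -/
theorem result {K : Type*} [Field K] [Fintype K] {m : ℕ} (hm : 1 ≤ m) (hK : Fintype.card K = 3 ^ (2 * m + 1))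
    (P Q : Sylow 3 ↥(Cfsg.Lie.twistedG2 K (3 ^ m))) (hPQ : P ≠ Q) : (P : Subgroup ↥(Cfsg.Lie.twistedG2 K (3 ^ m))) ⊓ (Q : Subgroup ↥(Cfsg.Lie.twistedG2 K (3 ^ m))) = ⊥ := by
  classical
  obtain ⟨A⟩ := CfsgLib.Chev.TwG2.exists_setup hK
  haveI : Fact (Nat.Prime 3) := ⟨Nat.prime_three⟩
  let G := Cfsg.Lie.twistedG2 K (3 ^ m)
  set q := 3 ^ (2 * m + 1) with hq
  let U₀ : Subgroup ↥G := (Cfsg.Lie.chevG2.posUnipotent K ⊓ G).subgroupOf G
  have hcU : Nat.card U₀ = q ^ 3 := by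
    rw [Nat.card_congr (Subgroup.subgroupOfEquivOfLe (inf_le_right : Cfsg.Lie.chevG2.posUnipotent K ⊓ G ≤ G)).toEquiv]
    exact A.card_pos
  have hidx : ¬ 3 ∣ U₀.index := by
    have h := U₀.card_mul_index
    have hG : Nat.card ↥G = q ^ 3 * (q - 1) * (q ^ 3 + 1) := A.card_group
    rw [hcU, hG, mul_assoc] at h
    rw [Nat.eq_of_mul_eq_mul_left (by positivity) h]
    have h3 : 3 ∣ q := dvd_pow_self 3 (by omega)
    have hq1 : 1 ≤ q := Nat.one_le_pow _ _ (by norm_num)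
    refine Nat.Prime.not_dvd_mul Nat.prime_three (fun h1 => ?_) (fun h1 => ?_)
    · omega
    · have : 3 ∣ q ^ 3 := dvd_pow h3 (by norm_num)
      omega
  let S₀ : Sylow 3 ↥G :=
    (IsPGroup.of_card (p := 3) (n := (2 * m + 1) * 3) (by rw [hcU, hq, ← pow_mul]) : IsPGroup 3 U₀).toSylow hidx
  obtain ⟨g, hg⟩ := MulAction.exists_smul_eq ↥G S₀ P
  obtain ⟨g', hg'⟩ := MulAction.exists_smul_eq ↥G S₀ Q
  have hP : (P : Subgroup ↥G) = U₀.map (MulAut.conj g).toMonoidHom := by rw [← hg]; rfl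
  have hQ : (Q : Subgroup ↥G) = U₀.map (MulAut.conj g').toMonoidHom := by rw [← hg']; rfl
  rw [hP, hQ]
  rw [eq_bot_iff]
  intro x hx
  obtain ⟨hx1, hx2⟩ := hx
  obtain ⟨u, hu, hux⟩ : ∃ u ∈ U₀, g * u * g⁻¹ = x := hx1
  obtain ⟨u', hu', hux'⟩ : ∃ u ∈ U₀, g' * u * g'⁻¹ = x := hx2
  have hu1 : (u : GL Cfsg.Lie.chevG2.Idx K) ∈ Cfsg.Lie.chevG2.posUnipotent K ⊓ G := hu
  have hu1' : (u' : GL Cfsg.Lie.chevG2.Idx K) ∈ Cfsg.Lie.chevG2.posUnipotent K ⊓ G := hu'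
  have e : g * u * g⁻¹ = x := hux
  have e' : g' * u' * g'⁻¹ = x := hux'
  by_cases hB : ((g'⁻¹ * g : ↥G) : GL Cfsg.Lie.chevG2.Idx K) ∈ Cfsg.Lie.chevG2.borelSubgroup K
  · exfalso
    apply hPQ
    rw [← hg, ← hg']
    rw [← inv_smul_eq_iff, ← mul_smul]
    refine Sylow.ext ?_
    ext y
    constructor
    · rintro ⟨z, hz, rfl⟩
      exact A.borel_normalizes hB (g'⁻¹ * g).2 hz
    · intro hy
      refine ⟨(g'⁻¹ * g)⁻¹ * y * (g'⁻¹ * g), ?_, ?_⟩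
      · have := A.borel_normalizes (Subgroup.inv_mem _ hB) ((g'⁻¹ * g)⁻¹).2 hy
        rw [inv_inv] at this
        exact this
      · show (g'⁻¹ * g) * ((g'⁻¹ * g)⁻¹ * y * (g'⁻¹ * g)) * (g'⁻¹ * g)⁻¹ = y
        group
  · have h1 : (u : GL Cfsg.Lie.chevG2.Idx K) = 1 := by
      refine A.ti (g'⁻¹ * g).2 hB hu1 ?_
      have : (g'⁻¹ * g) * u * (g'⁻¹ * g)⁻¹ = u' := by
        rw [show (g'⁻¹ * g) * u * (g'⁻¹ * g)⁻¹ = g'⁻¹ * (g * u * g⁻¹) * g' by group, e, ← e']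
        group
      rw [← this] at hu1'
      exact hu1'
    rw [Subgroup.mem_bot, ← e, show u = 1 from Subtype.ext h1]
    group

end Cfsg.Agent.S1155
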