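import Cfsg.Statements.S1160
import Cfsg.Agent.S0126
import Cfsg.Agent.Solv.SmallTransfer

set_option autoImplicit false
open Cfsg

namespace Cfsg.Agent.S1160

section

variable {P E : Type*} [Group P] [AddCommGroup E] [DistribMulAction P E] {p : ℕ}

/-- the orbit sum -/
def avg (p : ℕ) (h : P) (x : E) : E := ∑ k ∈ Finset.range p, (h ^ k) • x

theorem avg_fix {h : P} (hh : h ^ p = 1) (x : E) : h • avg p h x = avg p h x := by
  have e1 := Finset.sum_range_succ' (fun k => (h ^ k) • x) p
  have e2 := Finset.sum_range_succ (fun k => (h ^ k) • x) p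
  simp only [pow_zero, one_smul] at e1
  rw [hh, one_smul, e1] at e2
  rw [avg, Finset.smul_sum]
  simp only [smul_smul, ← pow_succ']
  exact add_right_cancel e2

theorem avg_of_fix {h : P} {x : E} (hx : h • x = x) : avg p h x = p • x := by
  have e : ∀ k : ℕ, (h ^ k) • x = x := fun k => by
    induction k with
    | zero => simp
    | succ k ih => rw [pow_succ, mul_smul, hx, ih]
  rw [avg, Finset.sum_congr rfl fun k _ => e k, Finset.sum_const, Finset.card_range]

theorem avg_add (h : P) (x y : E) : avg p h (x + y) = avg p h x + avg p h y := by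
  simp only [avg, smul_add, Finset.sum_add_distrib]

theorem smul_avg {g h : P} {x : E} : g • avg p h x = avg p (g * h * g⁻¹) (g • x) := by
  simp only [avg, Finset.smul_sum, smul_smul, conj_pow, inv_mul_cancel_right]

theorem nsmul_smul_comm (g : P) (n : ℕ) (x : E) : g • (n • x) = n • (g • x) :=
  map_nsmul (DistribMulAction.toAddMonoidHom E g) n x

theorem nsmul_cancel [Finite E] {q : ℕ} (hpq : p.Coprime q) (hE : ∀ e : E, q • e = 0) {x y : E}
    (h : p • x = p • y) : x = y := by
  have h0 : p • (x - y) = 0 := by rw [nsmul_sub, h, sub_self]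
  have h1 : addOrderOf (x - y) ∣ p := addOrderOf_dvd_of_nsmul_eq_zero h0
  have h2 : addOrderOf (x - y) ∣ q := addOrderOf_dvd_of_nsmul_eq_zero (hE _)
  have h3 := Nat.dvd_gcd h1 h2
  rw [hpq.gcd_eq_one, Nat.dvd_one, AddMonoid.addOrderOf_eq_one_iff, sub_eq_zero] at h3
  exact h3

variable [Finite P] [Fact p.Prime]

/-- an element of order `p` generates with its powers -/
theorem fix_of_pow {z y : P} (hz : z ^ p = 1) (hy : y ∈ Subgroup.zpowers z) (hy1 : y ≠ 1) {x : E}
    (hx : y • x = x) : z • x = x := by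
  have hz1 : z ≠ 1 := fun h => hy1 (by simpa [h] using hy)
  have hcard : Nat.card (Subgroup.zpowers z) = p := by rw [Nat.card_zpowers, orderOf_eq_prime hz hz1]
  have hle : Subgroup.zpowers y ≤ Subgroup.zpowers z := Subgroup.zpowers_le.2 hy
  have hd := Subgroup.card_dvd_of_le hle
  rw [hcard, Nat.dvd_prime Fact.out] at hd
  have hmem : z ∈ Subgroup.zpowers y := by
    rcases hd with h | h
    · rw [Nat.card_zpowers, orderOf_eq_one_iff] at h
      exact absurd h hy1
    · rw [Subgroup.eq_of_le_of_card_ge hle (by rw [hcard, h])]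
      exact Subgroup.mem_zpowers z
  have hle' : Subgroup.zpowers y ≤ MulAction.stabilizer P x := Subgroup.zpowers_le.2 hx
  exact hle' hmem

end

/-- Let `p ≠ 2` be prime and `P` a finite `p`-group acting faithfully by additive automorphisms on a finite elementary abelian `q`-group `E` (`q` prime), such that `|P_a|` is the same for all `a ≠ 0`. Then `P` is cyclic and every non-identity element of `P` fixes only `0`. -/
theorem result {P E : Type*} [Group P] [Finite P]
    [AddCommGroup E] [Finite E] [DistribMulAction P E] [FaithfulSMul P E]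
    {p q : ℕ} [Fact p.Prime] (hp2 : p ≠ 2) (hP : IsPGroup p P) (hq : q.Prime) (hE : ∀ e : E, q • e = 0)
    (hconst : ∀ a b : E, a ≠ 0 → b ≠ 0 →
      Nat.card (MulAction.stabilizer P a) = Nat.card (MulAction.stabilizer P b)) :
    IsCyclic P ∧ ∀ g : P, g ≠ 1 → ∀ a : E, g • a = a → a = 0 := by
  classical
  have hp := (Fact.out : p.Prime)
  by_cases hE0 : ∀ a : E, a = 0
  · haveI : Subsingleton P := ⟨fun g h => FaithfulSMul.eq_of_smul_eq_smul (α := E) fun a => by
      rw [hE0 (g • a), hE0 (h • a)]⟩
    exact ⟨inferInstance, fun g _ a _ => hE0 a⟩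
  push Not at hE0
  obtain ⟨a0, ha0⟩ := hE0
  rcases subsingleton_or_nontrivial P with h1 | h1
  · exact ⟨inferInstance, fun g hg => absurd (Subsingleton.elim g 1) hg⟩
  -- the characteristic differs from `p`
  have hpq : p.Coprime q := (Nat.coprime_primes hp hq).2 fun e => by
    subst e
    have hd : p ∣ Nat.card E := by
      have := addOrderOf_dvd_natCard a0
      rwa [addOrderOf_eq_prime (hE a0) ha0] at this
    obtain ⟨c, hc, hc0⟩ := hP.exists_fixed_point_of_prime_dvd_card_of_fixed_point E hd (a := 0)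
      (fun g => smul_zero g)
    obtain ⟨g, hg⟩ := exists_ne (1 : P)
    refine hg (FaithfulSMul.eq_of_smul_eq_smul (α := E) fun a => ?_)
    rcases eq_or_ne a 0 with rfl | ha
    · rw [smul_zero, one_smul]
    have htop : MulAction.stabilizer P c = ⊤ := eq_top_iff.2 fun g _ => hc g
    have h2 : Nat.card (MulAction.stabilizer P a) = Nat.card P := by
      rw [hconst a c ha (Ne.symm hc0), htop, Subgroup.card_top]
    have h3 : g ∈ MulAction.stabilizer P a := by
      rw [(Subgroup.card_eq_iff_eq_top _).1 h2]; trivial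
    rw [one_smul]; exact h3
  have hinj : ∀ {x y : E}, p • x = p • y → x = y := fun h => nsmul_cancel hpq hE h
  have hp0 : ∀ {x : E}, p • x = 0 → x = 0 := fun h => hinj (by rw [h, nsmul_zero])
  haveI : Nontrivial (Subgroup.center P) := hP.center_nontrivial
  obtain ⟨⟨z, hzc⟩, hzo⟩ := exists_prime_orderOf_dvd_card' (G := Subgroup.center P) p
    ((hP.to_subgroup _).card_eq_or_dvd.resolve_left Finite.one_lt_card.ne')
  rw [Subgroup.orderOf_mk] at hzo
  have hzp : z ^ p = 1 := hzo ▸ pow_orderOf_eq_one z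
  have hz1 : z ≠ 1 := fun h => hp.ne_one (by rw [← hzo, h, orderOf_one])
  have hzg : ∀ g : P, g * z * g⁻¹ = z := fun g => by
    rw [(Subgroup.mem_center_iff.1 hzc g), mul_inv_cancel_right]
  -- equal stabilisers from an inclusion of stabilisers
  have hsame : ∀ {u v : E}, u ≠ 0 → v ≠ 0 → u + v ≠ 0 →
      (∀ g : P, g • (u + v) = u + v → g • u = u ∧ g • v = v) → MulAction.stabilizer P u = MulAction.stabilizer P v := by
    intro u v hu hv huv h
    have e1 : MulAction.stabilizer P (u + v) = MulAction.stabilizer P u :=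
      Subgroup.eq_of_le_of_card_ge (fun g hg => (h g hg).1) (hconst u _ hu huv).le
    have e2 : MulAction.stabilizer P (u + v) = MulAction.stabilizer P v :=
      Subgroup.eq_of_le_of_card_ge (fun g hg => (h g hg).2) (hconst v _ hv huv).le
    rw [← e1, e2]
  have hcfpf : ∀ y : P, (∀ g : P, g * y * g⁻¹ = y) → y ^ p = 1 → y ≠ 1 → ∀ a : E, y • a = a → a = 0 := by
    intro y hyg hyp hy1 c hc
    by_contra hc0
    obtain ⟨x, hx⟩ : ∃ x : E, y • x ≠ x := by
      by_contra h
      push Not at h
      exact hy1 (FaithfulSMul.eq_of_smul_eq_smul (α := E) fun a => by rw [h a, one_smul])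
    have hw : ∀ x : E, avg p y (p • x - avg p y x) = 0 := fun x => by
      have h1 : avg p y (p • x) = p • avg p y x := by simp only [avg, nsmul_smul_comm, Finset.smul_sum]
      have h2 := avg_add (p := p) y (p • x - avg p y x) (avg p y x)
      rw [sub_add_cancel, h1, avg_of_fix (avg_fix hyp x), eq_comm, add_eq_right] at h2
      exact h2
    have hpair : ∀ {d w : E}, d ≠ 0 → y • d = d → w ≠ 0 → avg p y w = 0 →
        MulAction.stabilizer P d = MulAction.stabilizer P w := by
      intro d w hd hyd hw0 hw'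
      refine hsame hd hw0 (fun e => hd (hp0 ?_)) fun g hg => ?_
      · have := avg_add (p := p) y d w
        rw [e, avg_of_fix hyd, hw', add_zero, avg_of_fix (smul_zero y), nsmul_zero] at this
        exact this.symm
      · have h1 : avg p y (g • (d + w)) = p • (g • d) := by
          nth_rewrite 1 [← hyg g]
          rw [← smul_avg, avg_add, avg_of_fix hyd, hw', add_zero, nsmul_smul_comm]
        rw [hg, avg_add, avg_of_fix hyd, hw', add_zero] at h1
        have hd' := (hinj h1).symm
        rw [smul_add, hd', add_right_inj] at hg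
        exact ⟨hd', hg⟩
    refine hy1 (FaithfulSMul.eq_of_smul_eq_smul (α := E) fun v => ?_)
    have h1 : y • (p • v - avg p y v) = p • v - avg p y v := by
      rcases eq_or_ne (p • v - avg p y v) 0 with e | e
      · rw [e, smul_zero]
      · have hm : y ∈ MulAction.stabilizer P c := hc
        rw [hpair hc0 hc e (hw v)] at hm
        exact hm
    rw [one_smul]
    refine hinj ?_
    rw [← nsmul_smul_comm, ← sub_add_cancel (p • v) (avg p y v), smul_add, h1, avg_fix hyp]
  have hfpf := hcfpf z hzg hzp hz1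
  by_cases hcyc : IsCyclic P
  · refine ⟨hcyc, fun g hg a ha => hfpf a ?_⟩
    obtain ⟨k, hk⟩ := IsPGroup.iff_orderOf.1 hP g
    have hk0 : k ≠ 0 := fun e => hg (orderOf_eq_one_iff.1 (by rw [hk, e, pow_zero]))
    have hle : Subgroup.zpowers g ≤ MulAction.stabilizer P a := Subgroup.zpowers_le.2 ha
    refine hle ?_
    haveI := hcyc
    obtain ⟨y, hy⟩ : ∃ y, y = g ^ (orderOf g / p) := ⟨_, rfl⟩
    have hyo : orderOf y = p := hy ▸ orderOf_pow_orderOf_div (orderOf_pos g).ne' (hk ▸ dvd_pow_self p hk0)
    have hzy : z ∈ Subgroup.zpowers y := by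
      haveI : Fintype P := Fintype.ofFinite P
      by_contra hzn
      have h1 := IsCyclic.card_pow_eq_one_le (α := P) hp.pos
      have h2 : insert z ((Finset.range p).image fun i => y ^ i) ⊆ Finset.univ.filter fun u : P => u ^ p = 1 := by
        intro u hu
        rw [Finset.mem_filter]
        refine ⟨Finset.mem_univ _, ?_⟩
        rcases Finset.mem_insert.1 hu with rfl | hu
        · exact hzp
        · obtain ⟨i, -, rfl⟩ := Finset.mem_image.1 hu
          rw [← pow_mul, mul_comm, pow_mul, show y ^ p = 1 from hyo ▸ pow_orderOf_eq_one y, one_pow]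
      have h3 := Finset.card_le_card h2
      rw [Finset.card_insert_of_notMem (fun hu => hzn (by
          obtain ⟨i, -, rfl⟩ := Finset.mem_image.1 hu
          exact Subgroup.pow_mem _ (Subgroup.mem_zpowers y) i)),
        Finset.card_image_of_injOn (fun i hi j hj e => pow_injOn_Iio_orderOf
          (by simpa [hyo] using hi) (by simpa [hyo] using hj) e), Finset.card_range] at h3
      exact absurd h1 (by omega)
    exact Subgroup.zpowers_le.2 (hy ▸ Subgroup.pow_mem _ (Subgroup.mem_zpowers g) _) hzy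
  exfalso
  obtain ⟨A, hAn, ⟨hAc, hAp⟩, hAcard⟩ := Cfsg.Agent.S0126.result hp2 hP hcyc
  haveI := hAn
  obtain ⟨y, hyA, hyc, hy1⟩ : ∃ y ∈ A, y ∈ Subgroup.center P ∧ y ≠ 1 := by
    haveI : Nontrivial A := Finite.one_lt_card_iff_nontrivial.1 (by rw [hAcard]; exact Nat.one_lt_pow two_ne_zero hp.one_lt)
    letI : MulAction P A := MulAction.compHom A (MulAut.conjNormal : P →* MulAut A)
    have hd : p ∣ Nat.card A := hAcard ▸ dvd_pow_self p two_ne_zero
    obtain ⟨y, hy, hy1⟩ := IsPGroup.exists_fixed_point_of_prime_dvd_card_of_fixed_point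
      (G := P) hP A hd (a := 1) (fun g => map_one (MulAut.conjNormal g : MulAut A))
    refine ⟨y, y.2, Subgroup.mem_center_iff.2 fun g => ?_, fun h => hy1 (Subtype.ext h.symm)⟩
    exact mul_inv_eq_iff_eq_mul.1 (congrArg Subtype.val (hy g : (MulAut.conjNormal g : MulAut A) y = y))
  -- the centre element of order `p` may be taken inside `A`
  have hyg : ∀ g : P, g * y * g⁻¹ = y := fun g => by rw [Subgroup.mem_center_iff.1 hyc g, mul_inv_cancel_right]
  have hyp : y ^ p = 1 := hAp y hyA
  have hyfpf := hcfpf y hyg hyp hy1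
  -- lines of `A`
  obtain ⟨b, hbA, hby⟩ : ∃ b ∈ A, b ∉ Subgroup.zpowers y := by
    by_contra h
    push Not at h
    have := Subgroup.card_le_of_le (show A ≤ Subgroup.zpowers y from h)
    rw [hAcard, Nat.card_zpowers, orderOf_eq_prime hyp hy1] at this
    have := hp.two_le
    nlinarith
  have hAcomm : ∀ {u v : P}, u ∈ A → v ∈ A → Commute u v := fun hu hv =>
    congrArg Subtype.val (hAc.is_comm.comm ⟨_, hu⟩ ⟨_, hv⟩)
  have hbp : ∀ i : ℤ, (b * y ^ i) ^ p = 1 := fun i => hAp _ (mul_mem hbA (zpow_mem hyA i))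
  -- conjugates stay in the coset
  have hcoset : ∀ g : P, ∃ m : ℤ, g * b * g⁻¹ = b * y ^ m := by
    haveI hZn : (Subgroup.zpowers y).Normal := ⟨fun u hu g => by
      obtain ⟨i, rfl⟩ := Subgroup.mem_zpowers_iff.1 hu
      rw [← conj_zpow, hyg]; exact Subgroup.zpow_mem _ (Subgroup.mem_zpowers y) i⟩
    let π := QuotientGroup.mk' (Subgroup.zpowers y)
    have hP' : IsPGroup p (P ⧸ Subgroup.zpowers y) := hP.to_quotient _
    have hcardA : Nat.card (A.map π) = p := by
      have h1 := Subgroup.relIndex_ker (K := A) π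
      rw [QuotientGroup.ker_mk'] at h1
      rw [← h1]
      have h2 := Subgroup.relIndex_mul_relIndex (⊥ : Subgroup P) (Subgroup.zpowers y) A bot_le
        (Subgroup.zpowers_le.2 hyA)
      rw [Subgroup.relIndex_bot_left, Subgroup.relIndex_bot_left, Nat.card_zpowers, orderOf_eq_prime hyp hy1,
        hAcard, pow_two] at h2
      exact Nat.eq_of_mul_eq_mul_left hp.pos h2
    haveI : (A.map π).Normal := hAn.map π (QuotientGroup.mk'_surjective _)
    have hcen := CfsgLib.Solv.le_center_of_card_prime hP' hcardA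
    intro g
    have h := Subgroup.mem_center_iff.1 (hcen (Subgroup.mem_map_of_mem π hbA)) (π g)
    have h' : π (b⁻¹ * (g * b * g⁻¹)) = 1 := by
      rw [map_mul, map_mul, map_mul, map_inv, map_inv, h]; group
    rw [QuotientGroup.mk'_apply, QuotientGroup.eq_one_iff] at h'
    obtain ⟨m, hm⟩ := Subgroup.mem_zpowers_iff.1 h'
    exact ⟨m, by rw [hm]; group⟩
  have hyfix : ∀ {i : ℤ} {d : E}, y ^ i • d = d → y ^ i ≠ 1 → d = 0 := fun {i d} hd h1 =>
    hyfpf d (fix_of_pow hyp (Subgroup.zpow_mem _ (Subgroup.mem_zpowers y) i) h1 hd)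
  have hcross : ∀ {i l : ℤ} {d : E}, (b * y ^ i) • d = d → y ^ l ≠ y ^ i → avg p (b * y ^ l) d = 0 := by
    intro i l d hd hne
    refine hyfix (i := l - i) ?_ fun e => hne (by rw [zpow_sub, mul_inv_eq_one] at e; exact e)
    have hc : Commute (b * y ^ i) (b * y ^ l) := hAcomm (mul_mem hbA (zpow_mem hyA i)) (mul_mem hbA (zpow_mem hyA l))
    have h1 : (b * y ^ i) • avg p (b * y ^ l) d = avg p (b * y ^ l) d := by
      rw [smul_avg, hd, hc.eq, mul_inv_cancel_right]
    calc y ^ (l - i) • avg p (b * y ^ l) d = y ^ (l - i) • (b * y ^ i) • avg p (b * y ^ l) d := by rw [h1]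
      _ = (b * y ^ l) • avg p (b * y ^ l) d := by
        rw [smul_smul, ← mul_assoc, ← ((hAcomm hbA (zpow_mem hyA (l - i)))).eq, mul_assoc, ← zpow_add,
          sub_add_cancel]
      _ = _ := avg_fix (hbp l) _
  have hsum : ∀ x : E, ∑ i ∈ Finset.range p, avg p (b * y ^ (i : ℤ)) x = p • x := by
    intro x
    simp only [avg]
    rw [Finset.sum_comm, Finset.sum_eq_single 0]
    · simp
    · intro k hk hk0
      have e : ∀ i : ℕ, (b * y ^ (i : ℤ)) ^ k • x = (b ^ k) • ((y ^ k) ^ i • x) := fun i => by
        rw [zpow_natCast, (hAcomm hbA (pow_mem hyA i)).mul_pow, mul_smul, ← pow_mul, ← pow_mul, mul_comm i k]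
      rw [Finset.sum_congr rfl fun i _ => e i, ← Finset.smul_sum]
      suffices h : avg p (y ^ k) x = 0 by rw [show ∑ i ∈ Finset.range p, (y ^ k) ^ i • x = 0 from h, smul_zero]
      refine hyfpf _ (fix_of_pow hyp (Subgroup.pow_mem _ (Subgroup.mem_zpowers y) k) ?_
        (avg_fix (by rw [← pow_mul, mul_comm, pow_mul, hyp, one_pow]) x))
      intro e1
      have h2 := orderOf_dvd_of_pow_eq_one e1
      rw [orderOf_eq_prime hyp hy1] at h2
      exact absurd (Nat.le_of_dvd (Nat.pos_of_ne_zero hk0) h2) (by have := Finset.mem_range.1 hk; omega)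
    · intro h
      exact absurd (Finset.mem_range.2 hp.pos) h
  obtain ⟨i0, c0, hc0, hb0⟩ : ∃ (i : ℤ) (c : E), c ≠ 0 ∧ (b * y ^ i) • c = c := by
    by_contra h
    push Not at h
    refine ha0 (hp0 ?_)
    rw [← hsum a0]
    refine Finset.sum_eq_zero fun i _ => ?_
    by_contra hne
    exact h i _ hne (avg_fix (hbp i) a0)
  have key : ∀ {i j : ℤ} {u v : E}, y ^ i ≠ y ^ j → u ≠ 0 → v ≠ 0 → (b * y ^ i) • u = u → (b * y ^ j) • v = v →
      MulAction.stabilizer P u = MulAction.stabilizer P v := by
    intro i j u v hij hu hv hbu hbv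
    refine hsame hu hv (fun e => hu (hp0 ?_)) fun g hg => ?_
    · have := avg_add (p := p) (b * y ^ i) u v
      rw [e, avg_of_fix hbu, hcross hbv hij, add_zero, avg_of_fix (smul_zero _), nsmul_zero] at this
      exact this.symm
    obtain ⟨m, hm⟩ := hcoset g
    have hmove : ∀ {l : ℤ} {d : E}, (b * y ^ l) • d = d → (b * y ^ (m + l)) • g • d = g • d := by
      intro l d hd
      have e : g * (b * y ^ l) * g⁻¹ = b * y ^ (m + l) := by
        rw [show g * (b * y ^ l) * g⁻¹ = g * b * g⁻¹ * (g * y ^ l * g⁻¹) by group, hm, ← conj_zpow, hyg, mul_assoc,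
          ← zpow_add]
      rw [← e, mul_smul, mul_smul, inv_smul_smul, hd]
    by_cases h1 : y ^ (m + i) = y ^ i
    · have hgu := hmove hbu
      rw [h1] at hgu
      have hgv := hmove hbv
      have hne : y ^ i ≠ y ^ (m + j) := fun e => hij (by
        rw [zpow_add] at h1 e
        exact mul_left_cancel (h1.trans e))
      have h3 := avg_add (p := p) (b * y ^ i) (g • u) (g • v)
      rw [← smul_add, hg, avg_add, avg_of_fix hbu, hcross hbv hij, avg_of_fix hgu, hcross hgv hne,
        add_zero, add_zero] at h3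
      have h4 := (hinj h3).symm
      rw [smul_add, h4, add_right_inj] at hg
      exact ⟨h4, hg⟩
    · exfalso
      by_cases h2 : y ^ (m + i) = y ^ j
      · have hgu := hmove hbu
        rw [h2] at hgu
        have hgv := hmove hbv
        have hne : y ^ i ≠ y ^ (m + j) := by
          intro e
          have e4 : (y ^ m) ^ (2 : ℤ) = 1 := by
            rw [zpow_two]
            rw [zpow_add] at h2 e
            have : y ^ m * y ^ m * y ^ i = 1 * y ^ i := by rw [mul_assoc, h2, ← e, one_mul]
            exact mul_right_cancel this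
          have e5 : y ^ m = 1 := by
            rw [zpow_two, ← pow_two] at e4
            have e6 : (y ^ m) ^ p = 1 := by rw [← zpow_natCast, zpow_comm, zpow_natCast, hyp, one_zpow]
            have e7 := pow_gcd_eq_one.2 ⟨e4, e6⟩
            rwa [Nat.Coprime.gcd_eq_one ((Nat.coprime_primes Nat.prime_two hp).2 (Ne.symm hp2)), pow_one] at e7
          exact h1 (by rw [zpow_add, e5, one_mul])
        have h3 := avg_add (p := p) (b * y ^ i) (g • u) (g • v)
        rw [← smul_add, hg, avg_add, avg_of_fix hbu, hcross hbv hij, hcross hgu hij,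
          hcross hgv hne, add_zero, add_zero] at h3
        exact hu (hp0 h3)
      · have hgu := hmove hbu
        have hgv := hmove hbv
        have h3 := avg_add (p := p) (b * y ^ (m + i)) (g • u) (g • v)
        have hne : y ^ (m + i) ≠ y ^ (m + j) := fun e => hij (by
          rw [zpow_add, zpow_add] at e; exact mul_left_cancel e)
        rw [← smul_add, hg, avg_add, hcross hbu h1, hcross hbv h2, avg_of_fix hgu, hcross hgv hne,
          add_zero, add_zero] at h3
        exact hu (by simpa [smul_eq_zero_iff_eq] using hp0 h3.symm)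
  obtain ⟨x, hx⟩ : ∃ x : E, (b * y ^ i0) • x ≠ x := by
    by_contra h
    push Not at h
    refine hby ?_
    have e : b * y ^ i0 = 1 := FaithfulSMul.eq_of_smul_eq_smul (α := E) fun a => by rw [h a, one_smul]
    rw [eq_inv_of_mul_eq_one_left e]
    exact inv_mem (Subgroup.zpow_mem _ (Subgroup.mem_zpowers y) i0)
  obtain ⟨j0, cj, hij0, hcj, hbj⟩ : ∃ (j : ℤ) (c : E), y ^ i0 ≠ y ^ j ∧ c ≠ 0 ∧ (b * y ^ j) • c = c := by
    by_contra h
    push Not at h
    refine hx (hinj ?_)
    rw [← nsmul_smul_comm, ← hsum x, Finset.smul_sum]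
    refine Finset.sum_congr rfl fun i _ => ?_
    by_cases e : y ^ i0 = y ^ (i : ℤ)
    · rw [e]; exact avg_fix (hbp _) x
    · have : avg p (b * y ^ (i : ℤ)) x = 0 := by
        by_contra hne
        exact h i _ e hne (avg_fix (hbp _) x)
      rw [this, smul_zero]
  have hs := key hij0 hc0 hcj hb0 hbj
  refine hby ?_
  have e : b * y ^ i0 = 1 := FaithfulSMul.eq_of_smul_eq_smul (α := E) fun a => by
    rw [one_smul]
    refine hinj ?_
    rw [← nsmul_smul_comm, ← hsum a, Finset.smul_sum]
    refine Finset.sum_congr rfl fun i _ => ?_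
    rcases eq_or_ne (avg p (b * y ^ (i : ℤ)) a) 0 with h0 | h0
    · rw [h0, smul_zero]
    have hmem : b * y ^ i0 ∈ MulAction.stabilizer P c0 := hb0
    by_cases e : y ^ i0 = y ^ (i : ℤ)
    · rw [e]; exact avg_fix (hbp _) a
    · rw [key e hc0 h0 hb0 (avg_fix (hbp _) a)] at hmem
      exact hmem
  rw [eq_inv_of_mul_eq_one_left e]
  exact inv_mem (Subgroup.zpow_mem _ (Subgroup.mem_zpowers y) i0)

end Cfsg.Agent.S1160
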