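import Cfsg.Statements.S1163
import Cfsg.Agent.Lie.SzModels

set_option autoImplicit false
open Cfsg

namespace Cfsg.Agent.S1163

theorem two_trans_cosets {H X : Type*} [Group H] [MulAction H X] (x0 : X)
    (h2 : ∀ a b c d : X, a ≠ b → c ≠ d → ∃ g : H, g • a = c ∧ g • b = d) :
    MulAction.IsMultiplyPretransitive H (H ⧸ MulAction.stabilizer H x0) 2 := by
  refine MulAction.is_two_pretransitive_iff.2 fun {a b c d} hab hcd => ?_
  have hinj := MulAction.injective_ofQuotientStabilizer H x0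
  obtain ⟨g, h1, h2'⟩ := h2 _ _ _ _ (hinj.ne hab) (hinj.ne hcd)
  exact ⟨g, hinj ((MulAction.ofQuotientStabilizer_smul H x0 g a).trans h1),
    hinj ((MulAction.ofQuotientStabilizer_smul H x0 g b).trans h2')⟩

/-- For the Suzuki group Sz(q), q = 2^(2m+1) ≥ 8, realised as the elements g of Sp₄(F) with g* = g^θ (θ the 2^(m+1)-th power map, so that θ² is squaring): `|Sz(q)| = q² (q - 1) (q² + 1)`, and there is a Sylow 2-subgroup `S` whose normaliser `H` has order `q²(q-1)` and index `q² + 1`, the action of `Sz(q)` on the cosets of `H` is doubly transitive, and `S` acts regularly on the cosets other than `H` itself. -/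
theorem result {F : Type*} [Field F] [Fintype F] {m : ℕ} (hm : 1 ≤ m) (hF : Fintype.card F = 2 ^ (2 * m + 1)) :
    Nat.card ↥(Cfsg.Lie.Sz F (2 ^ (m + 1))) = (2 ^ (2 * m + 1)) ^ 2 * (2 ^ (2 * m + 1) - 1) * ((2 ^ (2 * m + 1)) ^ 2 + 1) ∧
    ∃ S : Sylow 2 ↥(Cfsg.Lie.Sz F (2 ^ (m + 1))),
      Nat.card (Subgroup.normalizer ((S : Subgroup ↥(Cfsg.Lie.Sz F (2 ^ (m + 1)))) : Set ↥(Cfsg.Lie.Sz F (2 ^ (m + 1))))) = (2 ^ (2 * m + 1)) ^ 2 * (2 ^ (2 * m + 1) - 1) ∧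
      (Subgroup.normalizer ((S : Subgroup ↥(Cfsg.Lie.Sz F (2 ^ (m + 1)))) : Set ↥(Cfsg.Lie.Sz F (2 ^ (m + 1))))).index = (2 ^ (2 * m + 1)) ^ 2 + 1 ∧
      MulAction.IsMultiplyPretransitive ↥(Cfsg.Lie.Sz F (2 ^ (m + 1))) (↥(Cfsg.Lie.Sz F (2 ^ (m + 1))) ⧸ Subgroup.normalizer ((S : Subgroup ↥(Cfsg.Lie.Sz F (2 ^ (m + 1)))) : Set ↥(Cfsg.Lie.Sz F (2 ^ (m + 1))))) 2 ∧
      ∀ x y : ↥(Cfsg.Lie.Sz F (2 ^ (m + 1))) ⧸ Subgroup.normalizer ((S : Subgroup ↥(Cfsg.Lie.Sz F (2 ^ (m + 1)))) : Set ↥(Cfsg.Lie.Sz F (2 ^ (m + 1)))),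
        x ≠ (QuotientGroup.mk 1) → y ≠ (QuotientGroup.mk 1) → ∃! s : ↥(S : Subgroup ↥(Cfsg.Lie.Sz F (2 ^ (m + 1)))), (s : ↥(Cfsg.Lie.Sz F (2 ^ (m + 1)))) • x = y := by
  classical
  haveI : Fact (Nat.Prime 2) := ⟨Nat.prime_two⟩
  have A : CfsgLib.Suz.Setup F m := ⟨hm, hF⟩
  let e := CfsgLib.Lie.SzModels.iso A
  have hcard : Nat.card ↥(Cfsg.Lie.Sz F (2 ^ (m + 1))) =
      (2 ^ (2 * m + 1)) ^ 2 * (2 ^ (2 * m + 1) - 1) * ((2 ^ (2 * m + 1)) ^ 2 + 1) := by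
    rw [← Nat.card_congr e.toEquiv, A.card_Sz]; ring
  refine ⟨hcard, ?_⟩
  letI : MulAction ↥(Cfsg.Lie.Sz F (2 ^ (m + 1))) (Cfsg.suzukiOvoid F m) :=
    MulAction.compHom _ e.symm.toMonoidHom
  have hsmul : ∀ g (p : Cfsg.suzukiOvoid F m), e g • p = g • p := fun g p => by
    show e.symm (e g) • p = g • p
    rw [e.symm_apply_apply]
  let x0 := CfsgLib.Suz.inf F m
  let S : Sylow 2 ↥(Cfsg.Lie.Sz F (2 ^ (m + 1))) :=
    Sylow.mapSurjective (f := e.toMonoidHom) e.surjective A.sylU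
  have hScoe : (S : Subgroup ↥(Cfsg.Lie.Sz F (2 ^ (m + 1)))) = A.U.map e.toMonoidHom := rfl
  have hN : Subgroup.normalizer ((S : Subgroup ↥(Cfsg.Lie.Sz F (2 ^ (m + 1)))) : Set ↥(Cfsg.Lie.Sz F (2 ^ (m + 1)))) =
      MulAction.stabilizer ↥(Cfsg.Lie.Sz F (2 ^ (m + 1))) x0 := by
    ext h
    obtain ⟨g, rfl⟩ := e.surjective h
    rw [MulAction.mem_stabilizer_iff, hsmul, ← MulAction.mem_stabilizer_iff (G := Cfsg.Sz F m), ← A.normalizer_U,
      hScoe, Subgroup.mem_normalizer_iff, Subgroup.mem_normalizer_iff]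
    constructor
    · intro h u
      have := h (e u)
      rw [← map_inv, ← map_mul, ← map_mul] at this
      exact ((Subgroup.mem_map_iff_mem e.injective).symm.trans this).trans (Subgroup.mem_map_iff_mem e.injective)
    · intro h u
      obtain ⟨u, rfl⟩ := e.surjective u
      rw [← map_inv, ← map_mul, ← map_mul]
      exact ((Subgroup.mem_map_iff_mem e.injective).trans (h u)).trans (Subgroup.mem_map_iff_mem e.injective).symm
  refine ⟨S, ?_⟩
  rw [hN]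
  have htrans : MulAction.IsPretransitive ↥(Cfsg.Lie.Sz F (2 ^ (m + 1))) (Cfsg.suzukiOvoid F m) := by
    haveI := A.isPretransitive
    exact ⟨fun p r => by
      obtain ⟨g, hg⟩ := MulAction.exists_smul_eq (Cfsg.Sz F m) p r
      exact ⟨e g, (hsmul g p).trans hg⟩⟩
  have hidx : (MulAction.stabilizer ↥(Cfsg.Lie.Sz F (2 ^ (m + 1))) x0).index = (2 ^ (2 * m + 1)) ^ 2 + 1 := by
    rw [MulAction.index_stabilizer_of_transitive, CfsgLib.Suz.card_ovoid, hF]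
  refine ⟨?_, hidx, ?_, ?_⟩
  · have h := (MulAction.stabilizer ↥(Cfsg.Lie.Sz F (2 ^ (m + 1))) x0).card_mul_index
    rw [hidx, hcard] at h
    exact Nat.eq_of_mul_eq_mul_right (by positivity) h
  · refine two_trans_cosets x0 fun a b c d hab hcd => ?_
    obtain ⟨g, h1, h2⟩ := MulAction.is_two_pretransitive_iff.1 A.two_trans hab hcd
    exact ⟨e g, (hsmul g a).trans h1, (hsmul g b).trans h2⟩
  · intro x y hx hy
    have hne : ∀ z : ↥(Cfsg.Lie.Sz F (2 ^ (m + 1))) ⧸ MulAction.stabilizer ↥(Cfsg.Lie.Sz F (2 ^ (m + 1))) x0,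
        z ≠ QuotientGroup.mk 1 → MulAction.ofQuotientStabilizer ↥(Cfsg.Lie.Sz F (2 ^ (m + 1))) x0 z ≠ x0 :=
      fun z hz h => hz (MulAction.injective_ofQuotientStabilizer _ x0 (h.trans (by
        rw [MulAction.ofQuotientStabilizer_mk, one_smul])))
    obtain ⟨a, b, ha⟩ := (CfsgLib.Suz.cases_pt _).resolve_left (hne x hx)
    obtain ⟨c, d, hc⟩ := (CfsgLib.Suz.cases_pt _).resolve_left (hne y hy)
    have hmem : ∀ u v : F, e (A.T u v) ∈ (S : Subgroup ↥(Cfsg.Lie.Sz F (2 ^ (m + 1)))) := fun u v =>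
      ⟨_, A.T_mem_U u v, rfl⟩
    refine ⟨⟨_, hmem (c - a) (d - b - CfsgLib.Suz.sg m (c - a) * a)⟩, ?_, ?_⟩
    · refine MulAction.injective_ofQuotientStabilizer _ x0 ?_
      rw [MulAction.ofQuotientStabilizer_smul, ha, hc, hsmul, A.T_pt]
      congr 1 <;> ring
    · rintro ⟨s, hs⟩ hsx
      rw [hScoe] at hs
      obtain ⟨g, hg, rfl⟩ := hs
      obtain ⟨u, v, rfl⟩ := A.mem_U.1 hg
      have h := congrArg (MulAction.ofQuotientStabilizer ↥(Cfsg.Lie.Sz F (2 ^ (m + 1))) x0) hsx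
      rw [MulAction.ofQuotientStabilizer_smul, ha, hc] at h
      change e (A.T u v) • _ = _ at h
      rw [hsmul, A.T_pt] at h
      obtain ⟨h1, h2⟩ := CfsgLib.Suz.pt_inj h
      obtain rfl : u = c - a := by linear_combination h1
      obtain rfl : v = d - b - CfsgLib.Suz.sg m (c - a) * a := by linear_combination h2
      rfl

end Cfsg.Agent.S1163
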