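import Cfsg.Statements.S1165
import Cfsg.Agent.Lie.RankOne

set_option autoImplicit false
open Cfsg CfsgLib.Lie.RankOne

namespace Cfsg.Agent.S1165

/-- In the rank-one set-up (`G` finite and doubly transitive on `Ω`, `t` an involution moving `a`, `Q` normal in `G_a` with `G_a = Q D`, `Q ⊓ D = 1` for the two-point stabiliser `D = G_a ⊓ G_{t • a}`, `|Q|` even, `|D|` odd): every `x ∈ Q`, `x ≠ 1`, determines unique `g, f ∈ Q`, `h ∈ D` with `t x t = g h t f` (a consequence of the canonical form). For these: (H1) the `f`-part of `x⁻¹` is `g⁻¹`; (H2) the `f`-part of `f` is `x`; (H3) for `a ∈ D` the `f`-part of `a⁻¹ x a` is `(t a t)⁻¹ f (t a t)`; (H4) the `h`-part of `a⁻¹ x a` is `(t a t)⁻¹ h a`, that of `x⁻¹` is `t h⁻¹ t`, and that of `f` is `h⁻¹`. -/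
theorem result {G Ω : Type*} [Group G] [Finite G] [MulAction G Ω] {a : Ω} {t : G} {Q : Subgroup G}
    (hS : Cfsg.IsRankOneSetup G Ω a t Q)
    (x g h f : G) (hx : x ∈ Q) (hx1 : x ≠ 1) (hg : g ∈ Q) (hh : h ∈ (MulAction.stabilizer G a ⊓ MulAction.stabilizer G (t • a))) (hf : f ∈ Q)
    (heq : t * x * t = g * h * t * f) :
    (∀ g₁ h₁ f₁ : G, g₁ ∈ Q → h₁ ∈ (MulAction.stabilizer G a ⊓ MulAction.stabilizer G (t • a)) → f₁ ∈ Q → t * x⁻¹ * t = g₁ * h₁ * t * f₁ →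
        f₁ = g⁻¹ ∧ h₁ = t * h⁻¹ * t) ∧
      (∀ g₂ h₂ f₂ : G, g₂ ∈ Q → h₂ ∈ (MulAction.stabilizer G a ⊓ MulAction.stabilizer G (t • a)) → f₂ ∈ Q → t * f * t = g₂ * h₂ * t * f₂ →
        f₂ = x ∧ h₂ = h⁻¹) ∧
      ∀ c ∈ (MulAction.stabilizer G a ⊓ MulAction.stabilizer G (t • a)), ∀ g₃ h₃ f₃ : G, g₃ ∈ Q → h₃ ∈ (MulAction.stabilizer G a ⊓ MulAction.stabilizer G (t • a)) → f₃ ∈ Q →
        t * (c⁻¹ * x * c) * t = g₃ * h₃ * t * f₃ →
          f₃ = (t * c * t)⁻¹ * f * (t * c * t) ∧ h₃ = (t * c * t)⁻¹ * h * c := by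
  have hti := t_inv hS
  have ht2 := hS.mul_self
  refine ⟨fun g₁ h₁ f₁ hg₁ hh₁ hf₁ e => ?_, fun g₂ h₂ f₂ hg₂ hh₂ hf₂ e => ?_,
    fun c hc g₃ h₃ f₃ hg₃ hh₃ hf₃ e => ?_⟩
  · have e' : g₁ * h₁ * t * f₁ = f⁻¹ * (t * h⁻¹ * t) * t * g⁻¹ := by
      rw [← e, show t * x⁻¹ * t = (t⁻¹ * x * t⁻¹)⁻¹ by group, hti, heq]
      calc (g * h * t * f)⁻¹ = f⁻¹ * t⁻¹ * h⁻¹ * (t * t) * g⁻¹ := by rw [ht2]; group
        _ = _ := by rw [hti]; group
    obtain ⟨-, e2, e3⟩ := bruhat_unique hS hg₁ hh₁ hf₁ (inv_mem hf) (conj_D hS (inv_mem hh)) (inv_mem hg) e'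
    exact ⟨e3, e2⟩
  · have e' : g₂ * h₂ * t * f₂ = (h⁻¹ * g⁻¹ * h) * h⁻¹ * t * x := by
      have h1 : t * f = h⁻¹ * g⁻¹ * (t * x * t) := by rw [heq]; group
      rw [← e, h1]
      calc h⁻¹ * g⁻¹ * (t * x * t) * t = h⁻¹ * g⁻¹ * t * x * (t * t) := by group
        _ = _ := by rw [ht2]; group
    obtain ⟨-, e2, e3⟩ := bruhat_unique hS hg₂ hh₂ hf₂
      (by have := hS.conj_mem h⁻¹ (inv_mem hh.1) _ (inv_mem hg); rwa [inv_inv] at this) (inv_mem hh) hx e'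
    exact ⟨e3, e2⟩
  · obtain ⟨d, hd⟩ : ∃ d, d = t * c * t := ⟨_, rfl⟩
    have hdD := hd ▸ conj_D hS hc
    have htd : t * d = c * t := by
      rw [hd, ← mul_assoc, ← mul_assoc, ht2, one_mul]
    have htc : d * t = t * c := by rw [hd, mul_assoc, ht2, mul_one]
    have hcd : t * c⁻¹ = d⁻¹ * t := by rw [eq_inv_mul_iff_mul_eq, ← mul_assoc, htc]; group
    rw [← hd]
    have e' : g₃ * h₃ * t * f₃ = (d⁻¹ * g * d) * (d⁻¹ * h * c) * t * (d⁻¹ * f * d) := by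
      rw [← e]
      calc t * (c⁻¹ * x * c) * t = (t * c⁻¹) * x * (c * t) := by group
        _ = d⁻¹ * (t * x * t) * d := by rw [hcd, ← htd]; group
        _ = d⁻¹ * g * h * t * f * d := by rw [heq]; group
        _ = d⁻¹ * g * h * (t * d) * (d⁻¹ * f * d) := by group
        _ = _ := by rw [htd]; group
    obtain ⟨-, e2, e3⟩ := bruhat_unique hS hg₃ hh₃ hf₃
      (by have := hS.conj_mem d⁻¹ (inv_mem hdD.1) _ hg; rwa [inv_inv] at this) (mul_mem (mul_mem (inv_mem hdD) hh) hc)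
      (by have := hS.conj_mem d⁻¹ (inv_mem hdD.1) _ hf; rwa [inv_inv] at this) e'
    exact ⟨e3, e2⟩

end Cfsg.Agent.S1165
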