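import Cfsg.Statements.S1168
import Cfsg.Agent.S1140

set_option autoImplicit false
open Cfsg

namespace Cfsg.Agent.S1168

/-- For a finite field `F` of characteristic 2: if `q : F → F` is quadratic over the prime field, i.e. `(x, y) ↦ q (x + y) + q x + q y` is additive in each variable, then `q x = Σ c_{σ,τ} σ(x) τ(x)` for some coefficients indexed by pairs of field automorphisms. -/
theorem result {F : Type*} [Field F] [Fintype F] [CharP F 2]
    (q : F → F)
    (hq : ∀ x y z : F, q (x + y + z) + q (x + y) + q (x + z) + q (y + z) + q x + q y + q z = 0) :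
    ∃ (s : Finset ((F ≃+* F) × (F ≃+* F))) (c : (F ≃+* F) × (F ≃+* F) → F),
      ∀ x : F, q x = ∑ p ∈ s, c p * (p.1 x * p.2 x) := by
  classical
  haveI : Finite (F ≃+* F) := Finite.of_injective (fun σ => (σ : F → F)) DFunLike.coe_injective
  haveI : Fintype (F ≃+* F) := Fintype.ofFinite _
  letI : Algebra (ZMod 2) F := ZMod.algebra F 2
  obtain ⟨-, hlin, -⟩ := Cfsg.Agent.S1140.result (F := F)
  have h2 : ∀ x : F, x + x = 0 := fun x => CharTwo.add_self_eq_zero x
  have hq0 : q 0 = 0 := by
    have h := hq 0 0 0
    simp only [add_zero, h2, zero_add] at h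
    exact h
  obtain ⟨B, hB⟩ : ∃ B : F → F → F, ∀ x y, B x y = q (x + y) + q x + q y := ⟨_, fun _ _ => rfl⟩
  have hBadd : ∀ x x' y, B (x + x') y = B x y + B x' y := fun x x' y => by
    rw [hB, hB, hB]
    linear_combination hq x x' y - h2 (q (x + x' + y)) * 0 - CharTwo.two_eq_zero (R := F) * (q (x + y) + q (x' + y) + q x + q x' + q y)
  obtain ⟨M, hM⟩ : ∃ M : Submodule F (F → F), M = Submodule.span F
      (Set.range fun p : (F ≃+* F) × (F ≃+* F) => fun x : F => p.1 x * p.2 x) := ⟨_, rfl⟩
  have hprod : ∀ f g : F →+ F, (fun x => f x * g x) ∈ M := by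
    intro f g
    obtain ⟨s, a, ha⟩ := hlin f
    obtain ⟨r, b, hb⟩ := hlin g
    have e : (fun x => f x * g x) = ∑ σ ∈ s, ∑ τ ∈ r, (a σ * b τ) • fun x : F => σ x * τ x := by
      funext x
      simp only [Finset.sum_apply, Pi.smul_apply, smul_eq_mul]
      rw [ha, hb, Finset.sum_mul_sum]
      exact Finset.sum_congr rfl fun σ _ => Finset.sum_congr rfl fun τ _ => by ring
    rw [e, hM]
    exact Submodule.sum_mem _ fun σ _ => Submodule.sum_mem _ fun τ _ =>
      Submodule.smul_mem _ _ (Submodule.subset_span ⟨(σ, τ), rfl⟩)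
  obtain ⟨ι, b⟩ : ∃ ι : Finset F, Nonempty (Module.Basis ι (ZMod 2) F) := by
    obtain ⟨s, hs⟩ := Module.Basis.exists_basis (ZMod 2) F
    exact ⟨s.toFinite.toFinset, hs.map fun b => b.reindex (Equiv.subtypeEquivRight fun x => s.toFinite.mem_toFinset.symm)⟩
  obtain ⟨b⟩ := b
  let l : ι → F →+ F := fun i =>
    { toFun := fun x => algebraMap (ZMod 2) F (b.repr x i)
      map_zero' := by simp
      map_add' := fun x y => by simp }
  have hl01 : ∀ i x, l i x = 0 ∨ l i x = 1 := fun i x => by
    have : ∀ c : ZMod 2, c = 0 ∨ c = 1 := by decide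
    show algebraMap (ZMod 2) F (b.repr x i) = 0 ∨ algebraMap (ZMod 2) F (b.repr x i) = 1
    rcases this (b.repr x i) with h | h <;> simp [h]
  have key : ∀ S : Finset ι, (fun x => q (∑ i ∈ S, l i x * (b i : F))) ∈ M := by
    intro S
    induction S using Finset.induction_on with
    | empty =>
      simp only [Finset.sum_empty, hq0]
      exact M.zero_mem
    | @insert i S hi ih =>
      let g : F →+ F :=
        { toFun := fun x => B (∑ j ∈ S, l j x * (b j : F)) (b i)
          map_zero' := by simp [hB, hq0, h2]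
          map_add' := fun x y => by
            rw [← hBadd]
            simp only [map_add, add_mul, Finset.sum_add_distrib] }
      have e : (fun x => q (∑ j ∈ insert i S, l j x * (b j : F))) =
          (fun x => q (∑ j ∈ S, l j x * (b j : F))) + q (b i) • (fun x => l i x * l i x) + fun x => l i x * g x := by
        funext x
        rw [Finset.sum_insert hi]
        simp only [Pi.add_apply, Pi.smul_apply, smul_eq_mul]
        show _ = _ + l i x * B (∑ j ∈ S, l j x * (b j : F)) (b i)
        rw [hB]
        rcases hl01 i x with h | h <;> rw [h]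
        · simp
        · rw [one_mul, one_mul, one_mul, mul_one, add_comm (b i : F)]
          linear_combination -CharTwo.two_eq_zero (R := F) * (q (b i) + q (∑ j ∈ S, l j x * (b j : F)))
      rw [e]
      exact M.add_mem (M.add_mem ih (M.smul_mem _ (hprod _ _))) (hprod _ _)
  have hfin : q ∈ M := by
    have h := key Finset.univ
    have e : ∀ x : F, ∑ i, l i x * (b i : F) = x := fun x => by
      conv_rhs => rw [← b.sum_repr x]
      exact Finset.sum_congr rfl fun i _ => (Algebra.smul_def (b.repr x i) (b i)).symm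
    simp only [e] at h
    exact h
  rw [hM] at hfin
  obtain ⟨c, hc⟩ := (Submodule.mem_span_range_iff_exists_fun F).1 hfin
  refine ⟨Finset.univ, c, fun x => ?_⟩
  rw [← hc]
  simp only [Finset.sum_apply, Pi.smul_apply, smul_eq_mul]

end Cfsg.Agent.S1168
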