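import Cfsg.Statements.S1176
import Cfsg.Agent.Inv.Dihedral

set_option autoImplicit false
open Cfsg
open scoped commutatorElement

namespace Cfsg.Agent.S1176

/-- Let x₀ be an involution of the finite group G and D its conjugacy class. Assume (a) for each x ∈ D the subgroup W(x) generated by the members of D commuting with x is a 2-group of nilpotency class at most 2, and (b) the product of two distinct commuting members of D again lies in D. Then for all x, y ∈ D, if xy has even order greater than 2, its order is 4. -/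
theorem result {G : Type*} [Group G] [Finite G] (x₀ : G) (hx₀ : orderOf x₀ = 2) (ha : ∀ x : G, IsConj x₀ x → IsPGroup 2 ↥(Subgroup.closure {y : G | IsConj x₀ y ∧ Commute y x}) ∧ ⁅⁅Subgroup.closure {y : G | IsConj x₀ y ∧ Commute y x}, Subgroup.closure {y : G | IsConj x₀ y ∧ Commute y x}⁆, Subgroup.closure {y : G | IsConj x₀ y ∧ Commute y x}⁆ = ⊥) (hb : ∀ x y : G, IsConj x₀ x → IsConj x₀ y → x ≠ y → Commute x y → IsConj x₀ (x * y)) (x y : G) (hx : IsConj x₀ x) (hy : IsConj x₀ y) (heven : Even (orderOf (x * y))) (hgt : 2 < orderOf (x * y)) : orderOf (x * y) = 4 := by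
  haveI : Fact (Nat.Prime 2) := ⟨Nat.prime_two⟩
  have hinv : ∀ v : G, IsConj x₀ v → orderOf v = 2 := fun v hv => by
    obtain ⟨c, rfl⟩ := isConj_iff.1 hv
    exact CfsgLib.Inv.invol_conj hx₀ c
  have hx2 := hinv x hx
  have hy2 := hinv y hy
  obtain ⟨hw, hwx, hwy⟩ := CfsgLib.Inv.even_center hx2 hy2 heven
  obtain ⟨m, hm⟩ := heven
  have hm' : orderOf (x * y) / 2 = m := by omega
  rw [hm'] at hw hwx hwy
  set w := (x * y) ^ m with hwdef
  -- `x * w` lies in the class
  have hxw : IsConj x₀ (x * w) := by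
    rcases Nat.even_or_odd m with ⟨l, hl⟩ | ⟨l, hl⟩
    · refine hx.trans (isConj_iff.2 ⟨(x * y) ^ (-(l : ℤ)), ?_⟩)
      rw [CfsgLib.Inv.conj_by_zpow hx2 hy2, hwdef, ← zpow_natCast (x * y) m]
      congr 2; omega
    · refine hy.trans (isConj_iff.2 ⟨(x * y) ^ (-(l : ℤ)), ?_⟩)
      calc (x * y) ^ (-(l : ℤ)) * y * ((x * y) ^ (-(l : ℤ)))⁻¹
          = ((x * y) ^ (-(l : ℤ)) * x) * ((x * y) * (x * y) ^ (l : ℤ)) := by
            rw [mul_assoc ((x * y) ^ (-(l : ℤ))) x, ← mul_assoc x (x * y), ← CfsgLib.Inv.right_eq hx2,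
              ← zpow_neg, neg_neg, mul_assoc]
        _ = x * ((x * y) ^ (l : ℤ) * ((x * y) * (x * y) ^ (l : ℤ))) := by
            rw [CfsgLib.Inv.pair_flip hx2 hy2, neg_neg, mul_assoc]
        _ = x * w := by
            rw [← zpow_one_add, ← zpow_add, hwdef, ← zpow_natCast (x * y) m]
            congr 2; omega
  have hw1 : w ≠ 1 := CfsgLib.Inv.invol_ne_one hw
  have hwD : IsConj x₀ w := by
    have h := hb x (x * w) hx hxw (fun h => hw1 (mul_eq_left.1 h.symm)) ((Commute.refl x).mul_right hwx.symm)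
    rwa [← mul_assoc, CfsgLib.Inv.invol_mul_self hx2, one_mul] at h
  obtain ⟨hp, hcl⟩ := ha w hwD
  set W := Subgroup.closure {v : G | IsConj x₀ v ∧ Commute v w}
  have hxW : x ∈ W := Subgroup.subset_closure ⟨hx, hwx.symm⟩
  have hyW : y ∈ W := Subgroup.subset_closure ⟨hy, hwy.symm⟩
  have hc : ⁅⁅x, y⁆, y⁆ = 1 := by
    rw [← Subgroup.mem_bot, ← hcl]
    exact Subgroup.commutator_mem_commutator (Subgroup.commutator_mem_commutator hxW hyW) hyW
  have ha2 : ⁅x, y⁆ = (x * y) * (x * y) := by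
    rw [commutatorElement_def, CfsgLib.Inv.invol_inv hx2, CfsgLib.Inv.invol_inv hy2]; group
  have h4 : (x * y) ^ 4 = 1 := by
    rw [commutatorElement_def, ha2, CfsgLib.Inv.invol_inv hy2] at hc
    have hflip : y * ((x * y) * (x * y))⁻¹ * y = (x * y) * (x * y) := by
      rw [mul_inv_rev, mul_inv_rev, CfsgLib.Inv.invol_inv hx2, CfsgLib.Inv.invol_inv hy2]
      calc y * (y * x * (y * x)) * y = (y * y) * (x * y * x * y) := by group
        _ = _ := by rw [CfsgLib.Inv.invol_mul_self hy2, one_mul]; group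
    rw [show x * y * (x * y) * y * (x * y * (x * y))⁻¹ * y
      = (x * y * (x * y)) * (y * (x * y * (x * y))⁻¹ * y) by group, hflip] at hc
    rw [show (4 : ℕ) = 2 + 2 by rfl, pow_add, pow_two]; exact hc
  have hdvd := orderOf_dvd_of_pow_eq_one h4
  have := Nat.le_of_dvd (by norm_num) hdvd
  rcases (show orderOf (x * y) = 3 ∨ orderOf (x * y) = 4 by omega) with h | h
  · omega
  · exact h

end Cfsg.Agent.S1176
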