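import Cfsg.Statements.S1177
import Mathlib.GroupTheory.Index

set_option autoImplicit false
open Cfsg

namespace Cfsg.Agent.S1177

/-- Let A be a nontrivial elementary abelian 2-subgroup of a finite group G which is a T.I. set (each conjugate of A meets A trivially or equals A) and which does not commute elementwise with any conjugate of A other than A itself. Then for every a ∈ A, a ≠ 1, every conjugate of A contained in C_G(a) is equal to A (A is weakly closed in C_G(a)). -/
theorem result {G : Type*} [Group G] [Finite G] (A : Subgroup G) (hA : Cfsg.IsElementaryAbelian 2 A) (hA1 : A ≠ ⊥) (hTI : ∀ g : G, A.map (MulAut.conj g).toMonoidHom ⊓ A = ⊥ ∨ A.map (MulAut.conj g).toMonoidHom = A) (hb : ∀ g : G, (∀ a ∈ A, ∀ b ∈ A.map (MulAut.conj g).toMonoidHom, a * b = b * a) → A.map (MulAut.conj g).toMonoidHom = A) (a : G) (ha : a ∈ A) (ha1 : a ≠ 1) (g : G) (hg : A.map (MulAut.conj g).toMonoidHom ≤ Subgroup.centralizer ({a} : Set G)) : A.map (MulAut.conj g).toMonoidHom = A := by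
  classical
  obtain ⟨hAc, hAe⟩ := hA
  set B := A.map (MulAut.conj g).toMonoidHom with hB
  by_contra hne
  have hdisj : B ⊓ A = ⊥ := (hTI g).resolve_right hne
  have hsq : ∀ b ∈ B, b * b = 1 := by
    rintro _ ⟨c, hc, rfl⟩
    rw [← map_mul, ← pow_two, hAe c hc, map_one]
  -- `B` normalizes `A`
  have hBN : ∀ b ∈ B, ∀ x ∈ A, b * x * b⁻¹ ∈ A := by
    intro b hb x hx
    rcases hTI b with h | h
    · refine absurd ?_ ha1
      rw [← Subgroup.mem_bot, ← h]
      refine ⟨⟨a, ha, ?_⟩, ha⟩
      show b * a * b⁻¹ = a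
      rw [Subgroup.mem_centralizer_singleton_iff.1 (hg hb), mul_inv_cancel_right]
    · rw [← h]; exact ⟨x, hx, rfl⟩
  -- every element of `A` normalizes `B`
  have hAN : ∀ x ∈ A, ∀ b ∈ B, x * b * x⁻¹ ∈ B := by
    intro x hx
    by_cases hx1 : x = 1
    · intro b hb; simpa [hx1] using hb
    obtain ⟨c, hc, hc1, hcx⟩ : ∃ c ∈ B, c ≠ 1 ∧ x * c = c * x := by
      by_contra hno
      push Not at hno
      let f : B → A := fun b => ⟨x * ((b : G) * x * (b : G)⁻¹), mul_mem hx (hBN b b.2 x hx)⟩
      have hf : Function.Injective f := by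
        intro b b' he
        have he' : (b : G) * x * (b : G)⁻¹ = (b' : G) * x * (b' : G)⁻¹ :=
          mul_left_cancel (congrArg (fun y : A => (y : G)) he)
        refine Subtype.ext ?_
        by_contra hbb
        refine hno ((b : G)⁻¹ * b') (mul_mem (inv_mem b.2) b'.2) (fun h => hbb (inv_mul_eq_one.1 h)) ?_
        calc x * ((b : G)⁻¹ * b') = (b : G)⁻¹ * ((b : G) * x * (b : G)⁻¹) * b' := by group
          _ = (b : G)⁻¹ * b' * x := by rw [he']; group
      have hcard : Nat.card A = Nat.card B :=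
        (Subgroup.card_map_of_injective (MulAut.conj g).injective).symm
      obtain ⟨b, hb⟩ := ((Nat.bijective_iff_injective_and_card f).2 ⟨hf, hcard.symm⟩).2 ⟨x, hx⟩
      have hb' : x * ((b : G) * x * (b : G)⁻¹) = x := congrArg (fun y : A => (y : G)) hb
      exact hx1 (conj_eq_one_iff.1 (mul_eq_left.1 hb'))
    intro b hb
    have hmap : B.map (MulAut.conj x).toMonoidHom = B := by
      rcases hTI (g⁻¹ * x * g) with h | h
      · exfalso
        refine hc1 ?_
        obtain ⟨d, hd, hdc⟩ := hc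
        have hdc' : g * d * g⁻¹ = c := hdc
        have hfix : (g⁻¹ * x * g) * d * (g⁻¹ * x * g)⁻¹ = d := by
          calc (g⁻¹ * x * g) * d * (g⁻¹ * x * g)⁻¹ = g⁻¹ * (x * (g * d * g⁻¹)) * x⁻¹ * g := by group
            _ = d := by rw [hdc', hcx, ← hdc']; group
        have hd1 : d = 1 := by
          rw [← Subgroup.mem_bot, ← h]
          exact ⟨⟨d, hd, hfix⟩, hd⟩
        rw [← hdc', hd1]; group
      · calc B.map (MulAut.conj x).toMonoidHom
            = (A.map (MulAut.conj (g⁻¹ * x * g)).toMonoidHom).map (MulAut.conj g).toMonoidHom := by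
              rw [hB, Subgroup.map_map, Subgroup.map_map]
              congr 1
              ext y; simp [mul_assoc]
          _ = B := by rw [h]
    rw [← hmap]; exact ⟨b, hb, rfl⟩
  refine hne (hb g fun x hx b hbB => ?_)
  have hm : x * b * x⁻¹ * b⁻¹ ∈ B ⊓ A := Subgroup.mem_inf.2 ⟨mul_mem (hAN x hx b hbB) (inv_mem hbB), by
    rw [show x * b * x⁻¹ * b⁻¹ = x * (b * x⁻¹ * b⁻¹) by group]
    exact mul_mem hx (hBN b hbB _ (inv_mem hx))⟩
  rw [hdisj, Subgroup.mem_bot, mul_inv_eq_one, mul_inv_eq_iff_eq_mul] at hm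
  exact hm

end Cfsg.Agent.S1177
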