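import Cfsg.Statements.S1178
import Mathlib.GroupTheory.Sylow

set_option autoImplicit false
open Cfsg

namespace Cfsg.Agent.S1178

/-- Let A be a subgroup of a Sylow 2-subgroup S of the finite group G which is weakly closed in S. If a conjugate g A g⁻¹ commutes elementwise with A, then g A g⁻¹ = A. -/
theorem result {G : Type*} [Group G] [Finite G] (S : Sylow 2 G) (A : Subgroup G) (hW : Cfsg.IsWeaklyClosed A (S : Subgroup G)) (g : G) (hc : ∀ a ∈ A, ∀ b ∈ A.map (MulAut.conj g).toMonoidHom, a * b = b * a) : A.map (MulAut.conj g).toMonoidHom = A := by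
  haveI : Fact (Nat.Prime 2) := ⟨Nat.prime_two⟩
  have hA : IsPGroup 2 A := S.isPGroup'.to_le hW.1
  set B := A.map (MulAut.conj g).toMonoidHom with hB
  have hAB : IsPGroup 2 ↥(A ⊔ B) := by
    refine hA.to_sup_of_normal_right' (hA.map _) fun a ha => ?_
    exact Subgroup.centralizer_le_normalizer (B : Set G) (Subgroup.mem_centralizer_iff.2 fun b hb => (hc a ha b hb).symm)
  obtain ⟨Q, hQ⟩ := hAB.exists_le_sylow
  obtain ⟨h, rfl⟩ := MulAction.exists_smul_eq G S Q
  have key : ∀ k : G, A.map (MulAut.conj k).toMonoidHom ≤ A ⊔ B →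
      A.map (MulAut.conj k).toMonoidHom = A.map (MulAut.conj h).toMonoidHom := by
    intro k hk
    have h1 : A.map (MulAut.conj (h⁻¹ * k)).toMonoidHom = A := by
      refine hW.2 _ ?_
      rintro _ ⟨a, ha, rfl⟩
      have h2 : k * a * k⁻¹ ∈ (S : Subgroup G).map (MulAut.conj h).toMonoidHom := hQ (hk ⟨a, ha, rfl⟩)
      obtain ⟨s, hs, he⟩ := h2
      have he' : h * s * h⁻¹ = k * a * k⁻¹ := he
      show h⁻¹ * k * a * (h⁻¹ * k)⁻¹ ∈ (S : Subgroup G)
      rw [show h⁻¹ * k * a * (h⁻¹ * k)⁻¹ = h⁻¹ * (k * a * k⁻¹) * h by group, ← he']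
      rw [show h⁻¹ * (h * s * h⁻¹) * h = s by group]; exact hs
    conv_rhs => rw [← h1]
    rw [Subgroup.map_map]
    congr 1
    ext x; simp [mul_assoc]
  have h1 := key g le_sup_right
  have h2 := key 1 (by
    rintro _ ⟨a, ha, rfl⟩
    simpa using Subgroup.mem_sup_left ha)
  rw [hB, h1, ← h2]
  ext x; simp

end Cfsg.Agent.S1178
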