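import Cfsg.Statements.S1181
import Cfsg.Agent.Inv.Isolated

set_option autoImplicit false
open Cfsg

namespace Cfsg.Agent.S1181

/-- Let z be an isolated involution of the finite group G and N a normal subgroup with z ∉ N. Then the centralizer of zN in G/N is the image of C_G(z), and zN is an isolated involution of G/N. -/
theorem result {G : Type*} [Group G] [Finite G] (z : G) (hz : Cfsg.IsIsolatedInvolution z) (N : Subgroup G) [N.Normal] (hzN : z ∉ N) : Subgroup.centralizer ({(QuotientGroup.mk z : G ⧸ N)} : Set (G ⧸ N)) = (Subgroup.centralizer ({z} : Set G)).map (QuotientGroup.mk' N) ∧ Cfsg.IsIsolatedInvolution (QuotientGroup.mk z : G ⧸ N) := by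
  obtain ⟨hz1, hz2⟩ := hz
  have hzz : (QuotientGroup.mk z : G ⧸ N) * QuotientGroup.mk z = 1 := by
    rw [← QuotientGroup.mk_mul, CfsgLib.Inv.invol_mul_self hz1]; rfl
  refine ⟨le_antisymm ?_ ?_, ⟨CfsgLib.Inv.invol_iff.2 ⟨?_, hzz⟩, ?_⟩⟩
  · intro x hx
    obtain ⟨g, rfl⟩ := QuotientGroup.mk_surjective x
    rw [Subgroup.mem_centralizer_singleton_iff] at hx
    obtain ⟨k, hk, -, -, he⟩ := CfsgLib.Inv.rep_exists hz1 (CfsgLib.Inv.invol_conj hz1 g)
      (CfsgLib.Inv.isolated_odd' hz1 hz2 g)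
    have hkN : k ∈ N := by
      refine Subgroup.zpowers_le.2 ?_ hk
      rw [← QuotientGroup.eq_one_iff, QuotientGroup.mk_mul, QuotientGroup.mk_mul,
        QuotientGroup.mk_mul, QuotientGroup.mk_inv, hx, mul_inv_cancel_right, hzz]
    refine ⟨k⁻¹ * g, ?_, ?_⟩
    · change k⁻¹ * g ∈ Subgroup.centralizer ({z} : Set G)
      rw [Subgroup.mem_centralizer_singleton_iff]
      calc k⁻¹ * g * z = k⁻¹ * (g * z * g⁻¹) * g := by group
        _ = z * (k⁻¹ * g) := by rw [← he]; group
    · simp [(QuotientGroup.eq_one_iff k).2 hkN]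
  · rintro _ ⟨c, hc, rfl⟩
    change c ∈ Subgroup.centralizer ({z} : Set G) at hc
    rw [Subgroup.mem_centralizer_singleton_iff] at hc ⊢
    simp only [QuotientGroup.mk'_apply, ← QuotientGroup.mk_mul, hc]
  · rwa [ne_eq, QuotientGroup.eq_one_iff]
  · intro x hx
    obtain ⟨g, rfl⟩ := QuotientGroup.mk_surjective x
    set a := (QuotientGroup.mk z : G ⧸ N)
    set b := (QuotientGroup.mk g : G ⧸ N) * a * (QuotientGroup.mk g)⁻¹
    have hb : b * b = 1 := by
      calc b * b = QuotientGroup.mk g * a * (QuotientGroup.mk g)⁻¹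
            * (QuotientGroup.mk g * a * (QuotientGroup.mk g)⁻¹) := rfl
        _ = QuotientGroup.mk g * (a * a) * (QuotientGroup.mk g)⁻¹ := by group
        _ = 1 := by rw [hzz]; group
    obtain ⟨l, hl⟩ := CfsgLib.Inv.isolated_odd hz1 hz2 g
    have h2 : (a * b) ^ 2 = 1 := by
      rw [pow_two, hx.symm.mul_mul_mul_comm, hzz, hb, one_mul]
    have h1 : (a * b) ^ (2 * l + 1) = 1 := by
      rw [← hl]
      exact congrArg (QuotientGroup.mk' N) (pow_orderOf_eq_one (z * (g * z * g⁻¹)))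
    rw [pow_succ, pow_mul, h2, one_pow, one_mul] at h1
    rw [eq_inv_of_mul_eq_one_right h1, inv_eq_of_mul_eq_one_right hzz]

end Cfsg.Agent.S1181
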