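import Cfsg.Statements.S1182
import Cfsg.Agent.Inv.Isolated

set_option autoImplicit false
open Cfsg

namespace Cfsg.Agent.S1182

/-- Let z be an isolated involution of the finite group G and H a subgroup normalized by z. If x, y ∈ H both commute with z and y = h x h⁻¹ for some h ∈ H, then y = c x c⁻¹ for some c ∈ H commuting with z. -/
theorem result {G : Type*} [Group G] [Finite G] (z : G) (hz : Cfsg.IsIsolatedInvolution z) (H : Subgroup G) (hzH : z ∈ Subgroup.normalizer (H : Set G)) (x y : G) (hx : x ∈ H) (hy : y ∈ H) (hxz : Commute x z) (hyz : Commute y z) (h : G) (hh : h ∈ H) (hconj : h * x * h⁻¹ = y) : ∃ c ∈ H, Commute c z ∧ c * x * c⁻¹ = y := by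
  obtain ⟨hz1, hz2⟩ := hz
  obtain ⟨k, hk, -, -, he⟩ := CfsgLib.Inv.rep_exists hz1 (CfsgLib.Inv.invol_conj hz1 h)
    (CfsgLib.Inv.isolated_odd' hz1 hz2 h)
  have hkH : k ∈ H := by
    refine Subgroup.zpowers_le.2 ?_ hk
    have e : h * z * h⁻¹ * z = h * (z * h⁻¹ * z⁻¹) := by
      rw [CfsgLib.Inv.invol_inv hz1]; group
    rw [e]
    exact mul_mem hh ((Subgroup.mem_normalizer_iff.1 hzH _).1 (inv_mem hh))
  have hv : Commute y (h * z * h⁻¹) := by
    rw [← hconj]
    exact hxz.map (MulAut.conj h).toMonoidHom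
  have hyk : Commute y k := CfsgLib.Inv.commute_of_mem_zpowers (hv.mul_right hyz) hk
  refine ⟨k⁻¹ * h, mul_mem (inv_mem hkH) hh, ?_, ?_⟩
  · change k⁻¹ * h * z = z * (k⁻¹ * h)
    calc k⁻¹ * h * z = k⁻¹ * (h * z * h⁻¹) * h := by group
      _ = z * (k⁻¹ * h) := by rw [← he]; group
  · calc k⁻¹ * h * x * (k⁻¹ * h)⁻¹ = k⁻¹ * (h * x * h⁻¹) * k := by group
      _ = k⁻¹ * (y * k) := by rw [hconj]; group
      _ = y := by rw [hyk.eq, inv_mul_cancel_left]

end Cfsg.Agent.S1182
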