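import Cfsg.Statements.S1183
import Cfsg.Agent.Inv.Isolated
import Cfsg.Agent.Inv.Transfer
import Cfsg.Agent.S1182

set_option autoImplicit false
open Cfsg

namespace Cfsg.Agent.S1183

/-- Let z be an isolated involution of the finite group G and C = C_G(z). Then the subgroup of G generated by its elements of odd order is all of G if and only if the subgroup of C generated by its elements of odd order is all of C. -/
theorem result {G : Type*} [Group G] [Finite G] (z : G) (hz : Cfsg.IsIsolatedInvolution z) : Cfsg.pResidual 2 G = ⊤ ↔ Cfsg.pResidual 2 ↥(Subgroup.centralizer ({z} : Set G)) = ⊤ := by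
  obtain ⟨hz1, hz2⟩ := hz
  set C := Subgroup.centralizer ({z} : Set G) with hC
  have hidx : Nat.Coprime 2 C.index := by
    have hzp : IsPGroup 2 ↥(Subgroup.zpowers z) :=
      IsPGroup.of_card (n := 1) (by rw [Nat.card_zpowers, hz1, pow_one])
    obtain ⟨P, hP⟩ := hzp.exists_le_sylow
    have hzP : z ∈ P := hP (Subgroup.mem_zpowers z)
    have hPC : (P : Subgroup G) ≤ C := by
      intro g hg
      rw [hC, Subgroup.mem_centralizer_singleton_iff]
      have hm : z * (g * z * g⁻¹) ∈ P := mul_mem hzP (mul_mem (mul_mem hg hzP) (inv_mem hg))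
      obtain ⟨k, hk⟩ := P.isPGroup' ⟨_, hm⟩
      have hk' : (z * (g * z * g⁻¹)) ^ (2 ^ k) = 1 := by simpa [Subtype.ext_iff] using hk
      have h1 : orderOf (z * (g * z * g⁻¹)) = 1 :=
        Nat.eq_one_of_dvd_coprimes (Nat.Coprime.pow_right k
          (Nat.coprime_two_right.2 (CfsgLib.Inv.isolated_odd hz1 hz2 g)))
          dvd_rfl (orderOf_dvd_of_pow_eq_one hk')
      have h2 := eq_inv_of_mul_eq_one_right (orderOf_eq_one_iff.1 h1)
      rw [CfsgLib.Inv.invol_inv hz1] at h2
      calc g * z = g * z * g⁻¹ * g := by group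
        _ = z * g := by rw [h2]
    exact Nat.Coprime.coprime_dvd_right (Subgroup.index_dvd_of_le hPC)
      ((Nat.Prime.coprime_iff_not_dvd Nat.prime_two).2 P.not_dvd_index)
  have hfus : ∀ g ∈ C, (∃ k : ℕ, orderOf g = 2 ^ k) → ∀ a : G, a * g * a⁻¹ ∈ C →
      ∃ h ∈ C, h * g * h⁻¹ = a * g * a⁻¹ := by
    intro g hg _ a ha
    rw [hC, Subgroup.mem_centralizer_singleton_iff] at hg ha
    obtain ⟨c, -, hc, he⟩ := Cfsg.Agent.S1182.result z ⟨hz1, hz2⟩ ⊤
      (Subgroup.le_normalizer (Subgroup.mem_top z)) g (a * g * a⁻¹) (Subgroup.mem_top _)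
      (Subgroup.mem_top _) hg ha a (Subgroup.mem_top _) rfl
    exact ⟨c, Subgroup.mem_centralizer_singleton_iff.2 hc, he⟩
  have key := CfsgLib.Inv.residual_inf_eq C hidx hfus
  constructor
  · intro h
    rw [h, top_sup_eq, top_inf_eq] at key
    refine CfsgLib.Inv.pResidual_eq_top_of_sup (Subgroup.map_injective C.subtype_injective ?_)
    rw [← key, ← MonoidHom.range_eq_map, Subgroup.range_subtype]
  · intro h
    rw [h, top_sup_eq, ← MonoidHom.range_eq_map, Subgroup.range_subtype, inf_eq_right] at key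
    haveI := CfsgLib.Inv.pResidual_normal 2 G
    refine CfsgLib.Inv.pResidual_eq_top_of_sup ?_
    set N := Cfsg.pResidual 2 G ⊔ commutator G
    obtain ⟨n, hn⟩ := IsPGroup.iff_card.1 (CfsgLib.Inv.isPGroup_quot_pResidual (G := G) (p := 2))
    rw [← Subgroup.index_eq_card] at hn
    exact Subgroup.index_eq_one.1 (Nat.eq_one_of_dvd_coprimes (Nat.Coprime.pow_left n hidx)
      (hn ▸ Subgroup.index_dvd_of_le le_sup_left) (Subgroup.index_dvd_of_le key))

end Cfsg.Agent.S1183
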