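import Cfsg.Statements.S1184
import Cfsg.Agent.Inv.Isolated

set_option autoImplicit false
open Cfsg

namespace Cfsg.Agent.S1184

/-- Let z be an isolated involution of the finite group G. If s and t are distinct conjugates of z, then st does not commute with z. -/
theorem result {G : Type*} [Group G] [Finite G] (z : G) (hz : Cfsg.IsIsolatedInvolution z) (g h : G) (hne : g * z * g⁻¹ ≠ h * z * h⁻¹) : ¬ Commute (g * z * g⁻¹ * (h * z * h⁻¹)) z := by
  obtain ⟨hz1, hz2⟩ := hz
  intro hc
  set v := g * z * g⁻¹ with hv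
  set w := h * z * h⁻¹ with hw
  have hv2 : orderOf v = 2 := CfsgLib.Inv.invol_conj hz1 g
  have hodd : Odd (orderOf (v * w)) := by
    have e : w = (h * g⁻¹) * v * (h * g⁻¹)⁻¹ := by rw [hv, hw]; group
    rw [e]
    exact CfsgLib.Inv.isolated_odd hv2 (CfsgLib.Inv.isolated_conj hz2 g) _
  have hinv : v * (v * w) * v⁻¹ = (v * w)⁻¹ :=
    CfsgLib.Inv.pair_conj hv2 (CfsgLib.Inv.invol_conj hz1 h)
  obtain ⟨d, hd, hdz⟩ := CfsgLib.Inv.conj_of_odd hz1 hv2 (CfsgLib.Inv.isolated_odd hz1 hz2 g)
  set a := v * w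
  have hd' : d * a * d⁻¹ = a ∨ d * a * d⁻¹ = a⁻¹ := by
    clear hdz
    induction hd using Subgroup.closure_induction with
    | mem x hx =>
      rcases hx with rfl | rfl
      · exact .inl (by rw [← hc.eq, mul_inv_cancel_right])
      · exact .inr hinv
    | one => exact .inl (by simp)
    | mul x y _ _ ihx ihy =>
      have e : x * y * a * (x * y)⁻¹ = x * (y * a * y⁻¹) * x⁻¹ := by group
      rw [e]
      rcases ihy with hy | hy <;> rw [hy] <;> rcases ihx with hx | hx
      · exact .inl hx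
      · exact .inr hx
      · exact .inr (by rw [← conj_inv, hx])
      · exact .inl (by rw [← conj_inv, hx, inv_inv])
    | inv x _ ihx =>
      rcases ihx with hx | hx
      · exact .inl (by nth_rw 1 [← hx]; group)
      · refine .inr ?_
        have hx' : x * a⁻¹ * x⁻¹ = a := by rw [← conj_inv, hx, inv_inv]
        nth_rw 1 [← hx']; group
  have hfix : v * a * v⁻¹ = a := by
    rw [← hdz]
    have e : d * z * d⁻¹ * a * (d * z * d⁻¹)⁻¹ = d * (z * (d⁻¹ * a * d) * z⁻¹) * d⁻¹ := by group
    rw [e]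
    have hc' : Commute z (d⁻¹ * a * d) := by
      rcases hd' with hx | hx
      · have : d⁻¹ * a * d = a := by nth_rw 1 [← hx]; group
        rw [this]; exact hc.symm
      · have hx' : d * a⁻¹ * d⁻¹ = a := by rw [← conj_inv, hx, inv_inv]
        have : d⁻¹ * a * d = a⁻¹ := by nth_rw 1 [← hx']; group
        rw [this]; exact hc.symm.inv_right
    rw [hc'.eq]; group
  rw [hinv] at hfix
  have ha : a = 1 := by
    refine CfsgLib.Inv.eq_of_sq_eq hodd (by simp) ?_
    rw [one_pow, pow_two]
    nth_rw 1 [← hfix]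
    exact inv_mul_cancel a
  exact hne (by rw [← inv_inv w, ← eq_inv_of_mul_eq_one_left ha, CfsgLib.Inv.invol_inv hv2])

end Cfsg.Agent.S1184
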