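import Cfsg.Statements.S1186
import Cfsg.Agent.Inv.Isolated

set_option autoImplicit false
open Cfsg

namespace Cfsg.Agent.S1186

/-- Let z be an isolated involution of the finite group G, C = C_G(z), K the set of elements of odd order inverted by z, and s an involution of C. Then |G| = |C| · |C_K(sz)| · |C_K(s)|. -/
theorem result {G : Type*} [Group G] [Finite G] (z : G) (hz : Cfsg.IsIsolatedInvolution z) (s : G) (hs : orderOf s = 2) (hsz : Commute s z) : Nat.card G = Nat.card (Subgroup.centralizer ({z} : Set G)) * Nat.card {k : G // Odd (orderOf k) ∧ z * k * z⁻¹ = k⁻¹ ∧ Commute k (s * z)} * Nat.card {k : G // Odd (orderOf k) ∧ z * k * z⁻¹ = k⁻¹ ∧ Commute k s} := by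
  open CfsgLib.Inv in
  exact (by
    obtain ⟨hz1, hz2⟩ := hz
    let f : (Subgroup.centralizer ({z} : Set G)) ×
        {k : G // Odd (orderOf k) ∧ z * k * z⁻¹ = k⁻¹ ∧ Commute k (s * z)} ×
        {k : G // Odd (orderOf k) ∧ z * k * z⁻¹ = k⁻¹ ∧ Commute k s} → G :=
      fun p => (p.2.2 : G) * p.2.1 * p.1
    have hsinv : ∀ a : G, Commute a (s * z) → z * a * z⁻¹ = a⁻¹ → s * a * s⁻¹ = a⁻¹ := by
      intro a hc hi
      have h1 : s * (z * a * z⁻¹) * s⁻¹ = a := by
        calc s * (z * a * z⁻¹) * s⁻¹ = (s * z) * a * (s * z)⁻¹ := by group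
          _ = a := by rw [← hc.eq]; group
      rw [hi, ← conj_inv] at h1
      rw [← inv_inv (s * a * s⁻¹), h1]
    have hinj : Function.Injective f := by
      rintro ⟨⟨c, hc⟩, ⟨a, ha, hai, hac⟩, ⟨b, hb, hbi, hbc⟩⟩
        ⟨⟨c', hc'⟩, ⟨a', ha', hai', hac'⟩, ⟨b', hb', hbi', hbc'⟩⟩ he
      simp only [f] at he
      rw [Subgroup.mem_centralizer_singleton_iff] at hc hc'
      have hform : ∀ a b c : G, z * a * z⁻¹ = a⁻¹ → z * b * z⁻¹ = b⁻¹ → c * z = z * c →
          b * a * c * z * (b * a * c)⁻¹ = b * a ^ 2 * b * z := by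
        intro a b c hai hbi hc
        have e2 : z * b⁻¹ = b * z := by
          have h : z * b⁻¹ * z⁻¹ = b := by rw [← conj_inv, hbi, inv_inv]
          nth_rw 2 [← h]; group
        calc b * a * c * z * (b * a * c)⁻¹
            = b * (a * (c * z * c⁻¹) * a⁻¹) * b⁻¹ := by group
          _ = b * (a ^ 2 * z) * b⁻¹ := by rw [hc, mul_inv_cancel_right, sq_of_inverted hz1 hai]
          _ = b * a ^ 2 * (z * b⁻¹) := by group
          _ = b * a ^ 2 * b * z := by rw [e2]; group
      have h1 : b * a ^ 2 * b = b' * a' ^ 2 * b' := by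
        refine mul_right_cancel (b := z) ?_
        rw [← hform a b c hai hbi hc, ← hform a' b' c' hai' hbi' hc', he]
      have h2 : b * (a⁻¹) ^ 2 * b = b' * (a'⁻¹) ^ 2 * b' := by
        have hsb : ∀ b : G, Commute b s → s * b * s⁻¹ = b := fun b h => by
          rw [← h.eq, mul_inv_cancel_right]
        have h := congrArg (fun x => s * x * s⁻¹) h1
        simp only [← conj_mul, ← conj_pow, hsb b hbc, hsb b' hbc', hsinv a hac hai,
          hsinv a' hac' hai'] at h
        exact h
      have h3 : (b * a ^ 2 * b⁻¹) ^ 2 = (b' * a' ^ 2 * b'⁻¹) ^ 2 := by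
        calc (b * a ^ 2 * b⁻¹) ^ 2 = (b * a ^ 2 * b) * (b * (a⁻¹) ^ 2 * b)⁻¹ := by
              rw [pow_two (b * a ^ 2 * b⁻¹), inv_pow]; group
          _ = (b' * a' ^ 2 * b') * (b' * (a'⁻¹) ^ 2 * b')⁻¹ := by rw [h1, h2]
          _ = (b' * a' ^ 2 * b'⁻¹) ^ 2 := by rw [pow_two (b' * a' ^ 2 * b'⁻¹), inv_pow]; group
      have hodd : ∀ a b : G, Odd (orderOf a) → Odd (orderOf (b * a ^ 2 * b⁻¹)) := by
        intro a b h
        have e : orderOf (b * a ^ 2 * b⁻¹) = orderOf (a ^ 2) :=
          MulEquiv.orderOf_eq (MulAut.conj b) (a ^ 2)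
        rw [e]
        exact h.of_dvd_nat (orderOf_pow_dvd 2)
      have h4 := eq_of_sq_eq (hodd a b ha) (hodd a' b' ha') h3
      have h5 : b ^ 2 = b' ^ 2 := by
        calc b ^ 2 = (b * a ^ 2 * b⁻¹)⁻¹ * (b * a ^ 2 * b) := by rw [pow_two b]; group
          _ = (b' * a' ^ 2 * b'⁻¹)⁻¹ * (b' * a' ^ 2 * b') := by rw [h4, h1]
          _ = b' ^ 2 := by rw [pow_two b']; group
      obtain rfl := eq_of_sq_eq hb hb' h5
      obtain rfl := eq_of_sq_eq ha ha' (mul_left_cancel (mul_right_cancel h1))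
      obtain rfl := mul_left_cancel he
      rfl
    have hsurj : Function.Surjective f := by
      intro g
      set v := g * z * g⁻¹ with hv
      have hv2 : orderOf v = 2 := invol_conj hz1 g
      have hiv : Cfsg.IsIsolated v := isolated_conj hz2 g
      set w := s * v * s⁻¹ with hw
      have hw2 : orderOf w = 2 := invol_conj hv2 s
      obtain ⟨e, hem, -, hei, hev⟩ := rep_exists hv2 hw2 (isolated_odd' hv2 hiv s)
      have hsw : s * w * s⁻¹ = v := by
        rw [hw]
        calc s * (s * v * s⁻¹) * s⁻¹ = (s * s) * v * (s * s)⁻¹ := by group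
          _ = v := by rw [invol_mul_self hs]; group
      have hse : s * e * s⁻¹ = e⁻¹ := by
        refine inv_of_mem_zpowers ?_ hem
        rw [← conj_mul, hsw, ← hw, mul_inv_rev, invol_inv hv2, invol_inv hw2]
      have hev2 : v * e⁻¹ = e * v := by
        have h : v * e⁻¹ * v⁻¹ = e := by rw [← conj_inv, hei, inv_inv]
        nth_rw 2 [← h]; group
      have hu : e * v = w * e := by rw [← hev]; group
      have hwv : e⁻¹ * w = v * e⁻¹ := by rw [← hev]; group
      -- `u = e * v` is a conjugate of `z` commuting with `s`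
      obtain ⟨i, hi⟩ : ∃ i : G, e * v = i * z * i⁻¹ := by
        obtain ⟨f, -, -, hfi, hfe⟩ : ∃ f ∈ Subgroup.zpowers e, Odd (orderOf f) ∧
            v * f * v⁻¹ = f⁻¹ ∧ f ^ 2 = e := by
          have ho : Odd (orderOf e) := odd_of_mem_zpowers (isolated_odd' hv2 hiv s) hem
          obtain ⟨m, hm⟩ := ho
          refine ⟨e ^ (m + 1), pow_mem (Subgroup.mem_zpowers e) _,
            odd_of_mem_zpowers ⟨m, hm⟩ (pow_mem (Subgroup.mem_zpowers e) _),
            inv_of_mem_zpowers hei (pow_mem (Subgroup.mem_zpowers e) _), ?_⟩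
          rw [← pow_mul, show (m + 1) * 2 = (2 * m + 1) + 1 by ring, ← hm, pow_succ,
            pow_orderOf_eq_one, one_mul]
        refine ⟨f * g, ?_⟩
        rw [← hfe, ← sq_of_inverted hv2 hfi, hv]
        group
      have hu2 : orderOf (e * v) = 2 := by rw [hi]; exact invol_conj hz1 i
      have hus : Commute s (e * v) := by
        have h : s * (e * v) * s⁻¹ = e * v := by
          rw [← conj_mul, hse, ← hw, hwv, hev2]
        calc s * (e * v) = s * (e * v) * s⁻¹ * s := by group
          _ = (e * v) * s := by rw [h]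
      obtain ⟨b, hbm, hb, hbi, hbe⟩ := rep_exists hz1 hu2 (by rw [hi]; exact isolated_odd' hz1 hz2 i)
      have hbs : Commute s b := commute_of_mem_zpowers (hus.mul_right hsz) hbm
      have hv' : orderOf (b⁻¹ * v * b) = 2 := by
        have := invol_conj hv2 b⁻¹
        rwa [inv_inv] at this
      have hodd' : Odd (orderOf (b⁻¹ * v * b * z)) := by
        have h : b⁻¹ * v * b = (b⁻¹ * g) * z * (b⁻¹ * g)⁻¹ := by rw [hv]; group
        rw [h]; exact isolated_odd' hz1 hz2 _
      obtain ⟨a, ham, ha, hai, hae⟩ := rep_exists hz1 hv' hodd'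
      have hsa : s * a * s⁻¹ = a⁻¹ := by
        refine inv_of_mem_zpowers ?_ ham
        have hbs' : s * b * s⁻¹ = b := by rw [hbs.eq, mul_inv_cancel_right]
        have hzs : s * z * s⁻¹ = z := by rw [hsz.eq, mul_inv_cancel_right]
        rw [← conj_mul, ← conj_mul, ← conj_mul, ← conj_inv, hbs', ← hw, hzs,
          mul_inv_rev, invol_inv hz1, invol_inv hv']
        calc b⁻¹ * w * b * z = b⁻¹ * w * (b * z * b⁻¹) * b := by group
          _ = b⁻¹ * (w * (w * e)) * b := by rw [hbe, hu]; group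
          _ = b⁻¹ * e * b := by rw [← mul_assoc w w, invol_mul_self hw2, one_mul]
          _ = b⁻¹ * (e * (v * v)) * b := by rw [invol_mul_self hv2, mul_one]
          _ = b⁻¹ * (e * v) * v * b := by group
          _ = b⁻¹ * (b * z * b⁻¹) * v * b := by rw [hbe]
          _ = z * (b⁻¹ * v * b) := by group
      have hac : Commute a (s * z) := by
        have hza : z * a⁻¹ * z⁻¹ = a := by rw [← conj_inv, hai, inv_inv]
        have h : s * z * a * (s * z)⁻¹ = a := by
          calc s * z * a * (s * z)⁻¹ = s * (z * a * z⁻¹) * s⁻¹ := by group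
            _ = a := by rw [hai, ← conj_inv, hsa, inv_inv]
        calc a * (s * z) = s * z * a * (s * z)⁻¹ * (s * z) := by rw [h]
          _ = s * z * a := by group
      have hc : (b * a)⁻¹ * g ∈ Subgroup.centralizer ({z} : Set G) := by
        rw [Subgroup.mem_centralizer_singleton_iff]
        have h : b * a * z * (b * a)⁻¹ = v := by
          calc b * a * z * (b * a)⁻¹ = b * (a * z * a⁻¹) * b⁻¹ := by group
            _ = v := by rw [hae]; group
        calc (b * a)⁻¹ * g * z = (b * a)⁻¹ * v * g := by rw [hv]; group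
          _ = z * ((b * a)⁻¹ * g) := by rw [← h]; group
      refine ⟨(⟨_, hc⟩, ⟨a, ha, hai, hac⟩, ⟨b, hb, hbi, hbs.symm⟩), ?_⟩
      simp only [f]
      group
    rw [← Nat.card_congr (Equiv.ofBijective f ⟨hinj, hsurj⟩), Nat.card_prod, Nat.card_prod,
      mul_assoc])

end Cfsg.Agent.S1186
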