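import Cfsg.Statements.S1189
import Cfsg.Agent.Inv.QuasiDihedral

set_option autoImplicit false
open Cfsg

namespace Cfsg.Agent.S1189

/-- A quasi-dihedral 2-group has exactly two conjugacy classes of elements of order 2 and exactly two conjugacy classes of elements of order 4. -/
theorem result {S : Type*} [Group S] [Finite S] (hS : Cfsg.IsQuasiDihedral S) : Nat.card {C : ConjClasses S // ∃ t : S, orderOf t = 2 ∧ ConjClasses.mk t = C} = 2 ∧ Nat.card {C : ConjClasses S // ∃ t : S, orderOf t = 4 ∧ ConjClasses.mk t = C} = 2 := by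
  open CfsgLib.Inv in
  exact (by
    classical
    obtain ⟨d, ⟨D⟩⟩ := QDData.of_qd hS
    have hmk : ∀ a b g : S, g * a * g⁻¹ = b → ConjClasses.mk a = ConjClasses.mk b := fun a b g h =>
      ConjClasses.mk_eq_mk_iff_isConj.2 (isConj_iff.2 ⟨g, h⟩)
    constructor
    · have hset : {C : ConjClasses S | ∃ t : S, orderOf t = 2 ∧ ConjClasses.mk t = C} =
          {ConjClasses.mk D.z, ConjClasses.mk (D.x ^ (0 : ℤ) * D.y)} := by
        ext C
        constructor
        · rintro ⟨t, ht, rfl⟩
          rcases D.cases_order ht with rfl | ⟨i, hi, rfl⟩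
          · exact .inl rfl
          · obtain ⟨l, hl⟩ := D.isConj_out (i := i) (j := 0) (by simpa using hi)
            exact .inr (hmk _ _ _ hl)
        · rintro (rfl | rfl)
          · exact ⟨_, D.z_order, rfl⟩
          · exact ⟨_, D.out_sq_even (by simp), rfl⟩
      show Nat.card ↑{C : ConjClasses S | ∃ t : S, orderOf t = 2 ∧ ConjClasses.mk t = C} = 2
      rw [hset, Nat.card_coe_set_eq, Set.ncard_pair]
      intro h
      obtain ⟨g, hg⟩ := isConj_iff.1 (ConjClasses.mk_eq_mk_iff_isConj.1 h)
      rw [Subgroup.mem_center_iff.1 D.z_central g, mul_inv_cancel_right] at hg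
      exact D.out_not_mem 0 (hg ▸ Subgroup.zpow_mem_zpowers D.x _)
    · have hset : {C : ConjClasses S | ∃ t : S, orderOf t = 4 ∧ ConjClasses.mk t = C} =
          {ConjClasses.mk D.w, ConjClasses.mk (D.x ^ (1 : ℤ) * D.y)} := by
        ext C
        constructor
        · rintro ⟨t, ht, rfl⟩
          rcases D.cases t with ⟨i, rfl⟩ | ⟨i, rfl⟩
          · rcases D.zpow_order_four ht with h | h
            · exact .inl (by rw [h])
            · refine .inl (hmk _ _ D.y ?_)
              rw [h, QDData.w, ← zpow_neg, D.y_mul_zpow, mul_inv_cancel_right, D.zpow_x_eq]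
              refine ⟨-(2 : ℤ) ^ d, ?_⟩
              simp only [QDData.k]
              rw [pow_succ (2 : ℤ) (d + 2), pow_succ (2 : ℤ) (d + 1), pow_succ (2 : ℤ) d]
              ring
          · rcases Int.even_or_odd i with hi | hi
            · rw [D.out_sq_even hi] at ht; omega
            · obtain ⟨l, hl⟩ := D.isConj_out (i := i) (j := 1) (hi.sub_odd odd_one)
              exact .inr (hmk _ _ _ hl)
        · rintro (rfl | rfl)
          · exact ⟨_, D.w_order, rfl⟩
          · exact ⟨_, D.out_order_odd odd_one, rfl⟩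
      show Nat.card ↑{C : ConjClasses S | ∃ t : S, orderOf t = 4 ∧ ConjClasses.mk t = C} = 2
      rw [hset, Nat.card_coe_set_eq, Set.ncard_pair]
      intro h
      obtain ⟨g, hg⟩ := isConj_iff.1 (ConjClasses.mk_eq_mk_iff_isConj.1 h)
      haveI : (Subgroup.zpowers D.x).Normal := Subgroup.normal_of_index_eq_two D.index_zpowers_x
      exact D.out_not_mem 1 (hg ▸ Subgroup.Normal.conj_mem inferInstance _ (Subgroup.zpow_mem_zpowers D.x _) g))

end Cfsg.Agent.S1189
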