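import Cfsg.Statements.S1190
import Cfsg.Agent.Inv.QuasiDihedral

set_option autoImplicit false
open Cfsg

namespace Cfsg.Agent.S1190

/-- In a quasi-dihedral 2-group S, any two Klein four-subgroups are conjugate, and every Klein four-subgroup T satisfies C_S(T) = T and |N_S(T) : T| = 2. -/
theorem result {S : Type*} [Group S] [Finite S] (hS : Cfsg.IsQuasiDihedral S) : (∀ T₁ T₂ : Subgroup S, IsKleinFour T₁ → IsKleinFour T₂ → ∃ s : S, T₁.map (MulAut.conj s).toMonoidHom = T₂) ∧ (∀ T : Subgroup S, IsKleinFour T → Subgroup.centralizer (T : Set S) = T ∧ T.relIndex (Subgroup.normalizer (T : Set S)) = 2) := by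
  open CfsgLib.Inv in
  exact (by
    obtain ⟨d, ⟨D⟩⟩ := QDData.of_qd hS
    refine ⟨fun T₁ T₂ h1 h2 => ?_, fun T hT => ⟨?_, ?_⟩⟩
    · obtain ⟨i, hi, rfl⟩ := D.klein_eq h1
      obtain ⟨j, hj, rfl⟩ := D.klein_eq h2
      obtain ⟨l, hl⟩ := D.isConj_out (hi.sub hj)
      refine ⟨D.x ^ l, ?_⟩
      refine le_antisymm ((Subgroup.map_centralizer_le_centralizer_image _ _).trans
        (le_of_eq (by rw [Set.image_singleton, MulEquiv.coe_toMonoidHom, MulAut.conj_apply, hl]))) ?_
      intro a ha
      rw [Subgroup.mem_centralizer_singleton_iff, ← hl] at ha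
      refine ⟨(D.x ^ l)⁻¹ * a * D.x ^ l, Subgroup.mem_centralizer_singleton_iff.2 ?_, ?_⟩
      · have e : ∀ g t a : S, a * (g * t * g⁻¹) = g * t * g⁻¹ * a →
            g⁻¹ * a * g * t = t * (g⁻¹ * a * g) := by
          intro g t a h
          calc g⁻¹ * a * g * t = g⁻¹ * (a * (g * t * g⁻¹)) * g := by group
            _ = g⁻¹ * (g * t * g⁻¹ * a) * g := by rw [h]
            _ = _ := by group
        exact e _ _ _ ha
      · show D.x ^ l * ((D.x ^ l)⁻¹ * a * D.x ^ l) * (D.x ^ l)⁻¹ = a
        group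
    · obtain ⟨i, hi, rfl⟩ := D.klein_eq hT
      refine le_antisymm (fun g hg => ?_) fun g hg => ?_
      · have ht : D.x ^ i * D.y ∈ Subgroup.centralizer ({D.x ^ i * D.y} : Set S) :=
          Subgroup.mem_centralizer_singleton_iff.2 rfl
        exact Subgroup.mem_centralizer_singleton_iff.2 (Subgroup.mem_centralizer_iff.1 hg _ ht).symm
      · rw [Subgroup.mem_centralizer_iff]
        intro a ha
        exact congrArg Subtype.val ((@IsKleinFour.isMulCommutative _ _ hT).is_comm.comm
          (⟨a, ha⟩ : Subgroup.centralizer ({D.x ^ i * D.y} : Set S)) ⟨g, hg⟩)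
    · have h := (T.subgroupOf (Subgroup.normalizer (T : Set S))).card_mul_index
      rw [Nat.card_congr (Subgroup.subgroupOfEquivOfLe Subgroup.le_normalizer).toEquiv, hT.card_four,
        D.card_normalizer_klein hT] at h
      show (T.subgroupOf (Subgroup.normalizer (T : Set S))).index = 2
      omega)

end Cfsg.Agent.S1190
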