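import Cfsg.Statements.S1191
import Cfsg.Agent.Inv.QuasiDihedral

set_option autoImplicit false
open Cfsg

namespace Cfsg.Agent.S1191

/-- In a quasi-dihedral 2-group S, any two subgroups isomorphic to the quaternion group of order 8 are conjugate, and each such subgroup Q satisfies C_S(Q) = Z(Q) and |N_S(Q) : Q| = 2. -/
theorem result {S : Type*} [Group S] [Finite S] (hS : Cfsg.IsQuasiDihedral S) : (∀ Q₁ Q₂ : Subgroup S, Nonempty (Q₁ ≃* QuaternionGroup 2) → Nonempty (Q₂ ≃* QuaternionGroup 2) → ∃ s : S, Q₁.map (MulAut.conj s).toMonoidHom = Q₂) ∧ (∀ Q : Subgroup S, Nonempty (Q ≃* QuaternionGroup 2) → Subgroup.centralizer (Q : Set S) = (Subgroup.center Q).map Q.subtype ∧ Q.relIndex (Subgroup.normalizer (Q : Set S)) = 2) := by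
  open CfsgLib.Inv in
  exact (by
    obtain ⟨d, ⟨D⟩⟩ := QDData.of_qd hS
    refine ⟨fun Q₁ Q₂ h1 h2 => ?_, fun Q hQ => ?_⟩
    · obtain ⟨e1⟩ := h1
      obtain ⟨e2⟩ := h2
      obtain ⟨i, hi, rfl⟩ := D.quaternion_eq e1
      obtain ⟨j, hj, rfl⟩ := D.quaternion_eq e2
      obtain ⟨l, hl⟩ := D.isConj_out (hi.sub_odd hj)
      refine ⟨D.x ^ l, ?_⟩
      rw [Subgroup.map_sup, MonoidHom.map_zpowers, MonoidHom.map_zpowers]
      simp only [MulEquiv.coe_toMonoidHom, MulAut.conj_apply, hl]
      congr 2
      rw [QDData.w, ← zpow_neg, ← zpow_add, ← zpow_add, add_neg_cancel_comm]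
    · obtain ⟨e⟩ := hQ
      obtain ⟨i, -, htQ, hwQ, hcard, -⟩ := D.quaternion_gens e
      constructor
      · ext g
        constructor
        · intro hg
          have hgQ : g ∈ Q := by
            rcases D.centralizer_quaternion e hg with rfl | rfl
            · exact one_mem _
            · rw [← D.w_sq]; exact mul_mem hwQ hwQ
          exact ⟨⟨g, hgQ⟩, Subgroup.mem_center_iff.2 fun a =>
            Subtype.ext (Subgroup.mem_centralizer_iff.1 hg a a.2), rfl⟩
        · rintro ⟨a, ha, rfl⟩
          rw [Subgroup.mem_centralizer_iff]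
          exact fun b hb => congrArg Subtype.val (Subgroup.mem_center_iff.1 ha ⟨b, hb⟩)
      · have h := (Q.subgroupOf (Subgroup.normalizer (Q : Set S))).card_mul_index
        rw [Nat.card_congr (Subgroup.subgroupOfEquivOfLe Subgroup.le_normalizer).toEquiv, hcard,
          D.card_normalizer_quaternion e] at h
        show (Q.subgroupOf (Subgroup.normalizer (Q : Set S))).index = 2
        omega)

end Cfsg.Agent.S1191
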