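import Cfsg.Statements.S1192
import Cfsg.Agent.Inv.QuasiDihedral

set_option autoImplicit false
open Cfsg

namespace Cfsg.Agent.S1192

/-- A quasi-dihedral group S of order 2^(n+1) has exactly three maximal subgroups; one is cyclic, one is isomorphic to the generalized quaternion group of order 2^n and one to the dihedral group of order 2^n. -/
theorem result {S : Type*} [Group S] [Finite S] (hS : Cfsg.IsQuasiDihedral S) (n : ℕ) (hn : Nat.card S = 2 ^ (n + 1)) : ∃ M₁ M₂ M₃ : Subgroup S, IsCoatom M₁ ∧ IsCoatom M₂ ∧ IsCoatom M₃ ∧ M₁ ≠ M₂ ∧ M₁ ≠ M₃ ∧ M₂ ≠ M₃ ∧ (∀ M : Subgroup S, IsCoatom M → M = M₁ ∨ M = M₂ ∨ M = M₃) ∧ IsCyclic M₁ ∧ Nonempty (M₂ ≃* QuaternionGroup (2 ^ (n - 2))) ∧ Nonempty (M₃ ≃* DihedralGroup (2 ^ (n - 1))) := by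
  open CfsgLib.Inv in
  exact (by
    obtain ⟨d, ⟨D⟩⟩ := QDData.of_qd hS
    obtain rfl : n = d + 3 := by
      have h : 2 ^ (n + 1) = 2 ^ (d + 4) := hn.symm.trans D.card_eq
      have := Nat.pow_right_injective (le_refl 2) h
      omega
    have hne : ∀ e : ℤ, Subgroup.zpowers D.x ≠ D.outSub e := fun e h =>
      D.out_not_mem e (h ▸ D.mem_outSub_out e (i := e) (by simp))
    refine ⟨Subgroup.zpowers D.x, D.outSub 1, D.outSub 0, QDData.coatom_of_index_two D.index_zpowers_x,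
      QDData.coatom_of_index_two (D.index_outSub 1), QDData.coatom_of_index_two (D.index_outSub 0),
      hne 1, hne 0, ?_, fun M hM => D.coatom_cases hM, inferInstance, ?_, ?_⟩
    · intro h
      have hm : D.x ^ (1 : ℤ) * D.y ∈ D.outSub 0 := h ▸ D.mem_outSub_out 1 (by simp)
      rcases (D.mem_outSub_iff 0).1 hm with ⟨j, -, he⟩ | ⟨j, hj, he⟩
      · exact D.out_not_mem 1 (he ▸ Subgroup.zpow_mem_zpowers D.x j)
      · rw [mul_left_inj, D.zpow_x_eq, pow_succ (2 : ℤ) (d + 2)] at he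
        obtain ⟨c, hc⟩ := he
        obtain ⟨a, ha⟩ := hj
        have : (2 : ℤ) ^ (d + 2) * 2 * c = 2 * ((2 : ℤ) ^ (d + 2) * c) := by ring
        omega
    · rw [show d + 3 - 2 = d + 1 by omega]; exact D.quaternion_equiv
    · rw [show d + 3 - 1 = d + 2 by omega]; exact D.dihedral_equiv')

end Cfsg.Agent.S1192
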