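import Cfsg.Statements.S1193
import Cfsg.Agent.Inv.QuasiDihedral

set_option autoImplicit false
open Cfsg

namespace Cfsg.Agent.S1193

/-- Let S be quasi-dihedral of order 2^(n+1). Then S' = Φ(S) is cyclic of order 2^(n-1), the centre of S has order 2, and the subgroup generated by the involutions of S is dihedral of order 2^n. -/
theorem result {S : Type*} [Group S] [Finite S] (hS : Cfsg.IsQuasiDihedral S) (n : ℕ) (hn : Nat.card S = 2 ^ (n + 1)) : commutator S = frattini S ∧ IsCyclic (commutator S) ∧ Nat.card (commutator S) = 2 ^ (n - 1) ∧ Nat.card (Subgroup.center S) = 2 ∧ Nonempty (↥(Subgroup.closure {x : S | orderOf x = 2}) ≃* DihedralGroup (2 ^ (n - 1))) := by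
  open CfsgLib.Inv in
  exact (by
    obtain ⟨d, ⟨D⟩⟩ := QDData.of_qd hS
    obtain rfl : n = d + 3 := by
      have h : 2 ^ (n + 1) = 2 ^ (d + 4) := hn.symm.trans D.card_eq
      have := Nat.pow_right_injective (le_refl 2) h
      omega
    have h2 := D.card_zpow_sub (e := 1) (by omega)
    rw [pow_one] at h2
    refine ⟨by rw [D.commutator_eq, D.frattini_eq], by rw [D.commutator_eq]; infer_instance,
      by rw [D.commutator_eq, h2], D.card_center, ?_⟩
    rw [show d + 3 - 1 = d + 2 by omega, D.closure_invol]
    exact D.dihedral_equiv')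

end Cfsg.Agent.S1193
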