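import Cfsg.Statements.S1194
import Cfsg.Agent.Inv.QuasiDihedral

set_option autoImplicit false
open Cfsg

namespace Cfsg.Agent.S1194

/-- In a quasi-dihedral 2-group S, every proper normal subgroup is either a maximal subgroup or a cyclic subgroup contained in the derived subgroup S'. -/
theorem result {S : Type*} [Group S] [Finite S] (hS : Cfsg.IsQuasiDihedral S) (N : Subgroup S) [N.Normal] (hN : N ≠ ⊤) : IsCoatom N ∨ (IsCyclic N ∧ N ≤ commutator S) := by
  open CfsgLib.Inv in
  exact (by
    obtain ⟨d, ⟨D⟩⟩ := QDData.of_qd hS
    rcases D.normal_cases N with h | ⟨e, he⟩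
    · by_cases h2 : N ≤ Subgroup.zpowers (D.x ^ (2 : ℤ))
      · exact .inr ⟨isCyclic_of_injective (Subgroup.inclusion h) (Subgroup.inclusion_injective h),
          D.commutator_eq ▸ h2⟩
      · left
        have hN : N = Subgroup.zpowers D.x := by
          refine le_antisymm h ?_
          obtain ⟨g, hg, hg2⟩ := SetLike.not_le_iff_exists.1 h2
          obtain ⟨i, rfl⟩ := h hg
          have hg' : D.x ^ i ∈ N := hg
          obtain ⟨l, hl⟩ : Odd i := Int.not_even_iff_odd.1 fun he => hg2 (D.mem_sq_iff.2 he)
          rw [Subgroup.zpowers_le]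
          -- an odd power of `x` generates
          have hcop : Nat.Coprime i.natAbs (2 ^ (d + 3)) := by
            refine Nat.Coprime.pow_right _ (Nat.coprime_two_right.2 ?_)
            rw [Int.natAbs_odd]; exact ⟨l, hl⟩
          obtain ⟨a, b, hab⟩ : IsCoprime i ((2 : ℤ) ^ (d + 3)) := by
            rw [Int.isCoprime_iff_gcd_eq_one, Int.gcd_def, Int.natAbs_pow]
            exact hcop
          have e : D.x = (D.x ^ i) ^ a := by
            rw [← zpow_mul]
            conv_lhs => rw [← zpow_one D.x]
            rw [D.zpow_x_eq]
            exact ⟨b, by linear_combination -hab⟩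
          rw [e]
          exact zpow_mem hg' a
        rw [hN]; exact QDData.coatom_of_index_two D.index_zpowers_x
    · left
      refine QDData.coatom_of_index_two ?_
      have hd := Subgroup.index_dvd_of_le he
      rw [D.index_outSub] at hd
      exact ((Nat.dvd_prime Nat.prime_two).1 hd).resolve_left fun h => hN (Subgroup.index_eq_one.1 h))

end Cfsg.Agent.S1194
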