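import Cfsg.Statements.S1201
import Cfsg.Agent.Inv.WreathProps

set_option autoImplicit false
open Cfsg

namespace Cfsg.Agent.S1201

/-- If X is a non-commutative subgroup of a wreathed 2-group S, then Z(X) ≤ Z(S). -/
theorem result {S : Type*} [Group S] [Finite S] (hS : Cfsg.IsWreathed S) (X : Subgroup S) (hX : ¬ IsMulCommutative X) : (Subgroup.center X).map X.subtype ≤ Subgroup.center S := by
  open CfsgLib.Inv in
  exact (by
    obtain ⟨m, ⟨D⟩⟩ := WData.of_wreathed hS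
    rintro _ ⟨v, hv, rfl⟩
    have hX' : ¬ ∀ a ∈ X, ∀ b ∈ X, a * b = b * a := fun h => hX ⟨⟨fun a b => Subtype.ext (h _ a.2 _ b.2)⟩⟩
    obtain ⟨c, hc⟩ := D.center_sub_cases hX' v.2 fun a ha =>
      congrArg Subtype.val (Subgroup.mem_center_iff.1 hv ⟨a, ha⟩)
    exact D.mem_center_iff.2 ⟨c, hc⟩)

end Cfsg.Agent.S1201
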