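import Cfsg.Statements.S1217
import Mathlib.LinearAlgebra.Matrix.GeneralLinearGroup.Card
import Cfsg.Agent.Solv.Basic

set_option autoImplicit false
open scoped MatrixGroups
open Cfsg

namespace Cfsg.Agent.S1217

open Matrix

theorem two_part {N : ℕ} {G : Type*} [Group G] [Finite G] (hG : ∃ o, Odd o ∧ Nat.card G = 2 ^ N * o) (W : Subgroup G)
    (hW : IsPGroup 2 W) (hbig : 2 ^ (N - 1) < Nat.card W) (P : Sylow 2 G) (hN : 1 ≤ N) :
    Nat.card W = 2 ^ N ∧ Nonempty (↥W ≃* ↥(P : Subgroup G)) := by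
  obtain ⟨o, ho, hcard⟩ := hG
  haveI : Fact (Nat.Prime 2) := ⟨Nat.prime_two⟩
  obtain ⟨U, hU⟩ := hW.exists_le_sylow
  have hUc : Nat.card U = 2 ^ N := by
    rw [Sylow.card_eq_multiplicity, hcard, Nat.factorization_mul (by positivity) (Nat.pos_iff_ne_zero.1 ho.pos),
      Finsupp.add_apply, Nat.Prime.factorization_pow Nat.prime_two, Finsupp.single_eq_same,
      Nat.factorization_eq_zero_of_not_dvd ho.not_two_dvd_nat, add_zero]
  obtain ⟨k, hk⟩ := hW.exists_card_eq
  have hk1 : N - 1 < k := (Nat.pow_lt_pow_iff_right one_lt_two).1 (hk ▸ hbig)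
  have hk2 : k ≤ N := (Nat.pow_le_pow_iff_right one_lt_two).1 (hk ▸ hUc ▸ Subgroup.card_le_of_le hU)
  have hWc : Nat.card W = 2 ^ N := by rw [hk, show k = N by omega]
  have hWU : W = (U : Subgroup G) := Subgroup.eq_of_le_of_card_ge hU (by rw [hWc]; exact hUc.le)
  exact ⟨hWc, ⟨(MulEquiv.subgroupCongr hWU).trans (U.equiv P)⟩⟩

variable {F : Type*} [Field F] [Fintype F]

theorem card_GL2 : Nat.card (GL (Fin 2) F) = (Fintype.card F ^ 2 - 1) * (Fintype.card F ^ 2 - Fintype.card F) := by
  rw [Matrix.card_GL_field, Fin.prod_univ_two]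
  simp

theorem exists_order_two_pow {C : Type*} [CommGroup C] [Finite C] (hinv : ∀ c : C, c * c = 1 → c = 1 ∨ ∀ d : C, d * d = 1 → d = 1 ∨ d = c)
    {k : ℕ} (hdvd : 2 ^ (k + 1) ∣ Nat.card C) : ∃ c : C, orderOf c = 2 ^ (k + 1) := by
  haveI : Fact (Nat.Prime 2) := ⟨Nat.prime_two⟩
  obtain ⟨H, hH⟩ := Sylow.exists_subgroup_card_pow_prime 2 hdvd
  have hker : ∀ j : ℕ, Nat.card {c : C // c ^ 2 ^ j = 1} ≤ 2 ^ j := by
    intro j
    induction j with
    | zero =>
      haveI : Subsingleton {c : C // c ^ 2 ^ 0 = 1} := ⟨fun a b => Subtype.ext (by have := a.2; have := b.2; simp_all)⟩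
      simpa using Finite.card_le_one_iff_subsingleton.2 this
    | succ j ih =>
      let f : (powMonoidHom (2 ^ (j + 1)) : C →* C).ker →* C := (powMonoidHom 2).comp (Subgroup.subtype _)
      have h1 : Nat.card f.range ≤ 2 ^ j := by
        refine le_trans (Nat.card_le_card_of_injective (fun x => (⟨(x : C), ?_⟩ : {c : C // c ^ 2 ^ j = 1})) ?_) ih
        · obtain ⟨y, hy⟩ := x.2
          rw [← hy]
          show ((y : C) ^ 2) ^ 2 ^ j = 1
          rw [← pow_mul, ← pow_succ']
          exact y.2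
        · intro a b h
          exact Subtype.ext (congrArg Subtype.val h :)
      have h2 : Nat.card f.ker ≤ 2 := by
        by_cases he : ∀ c : C, c * c = 1 → c = 1
        · haveI : Subsingleton f.ker := ⟨fun a b => by
            have ha : ((a : _) : C) ^ 2 = 1 := a.2
            have hb : ((b : _) : C) ^ 2 = 1 := b.2
            rw [pow_two] at ha hb
            exact Subtype.ext (Subtype.ext ((he _ ha).trans (he _ hb).symm))⟩
          exact le_trans (Finite.card_le_one_iff_subsingleton.2 this) (by norm_num)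
        · push Not at he
          obtain ⟨c, hc, hc1⟩ := he
          classical
          refine le_trans (Nat.card_le_card_of_injective (fun x : f.ker => decide (((x : _) : C) = 1)) ?_) (by simp)
          intro a b h
          simp only [decide_eq_decide] at h
          have ha : ((a : _) : C) * ((a : _) : C) = 1 := by rw [← pow_two]; exact a.2
          have hb : ((b : _) : C) * ((b : _) : C) = 1 := by rw [← pow_two]; exact b.2
          have key := (hinv c hc).resolve_left hc1
          apply Subtype.ext; apply Subtype.ext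
          rcases key _ ha with e | e
          · rw [e, h.1 e]
          · rcases key _ hb with e' | e'
            · exact absurd (h.2 e') (e ▸ hc1)
            · rw [e, e']
      have h3 := Subgroup.card_mul_index f.ker
      rw [Subgroup.index_ker] at h3
      calc Nat.card {c : C // c ^ 2 ^ (j + 1) = 1} = Nat.card f.ker * Nat.card f.range :=
            (Nat.card_congr (Equiv.subtypeEquivRight (p := fun c : C => c ^ 2 ^ (j + 1) = 1) (q := fun c => c ∈ (powMonoidHom (2 ^ (j + 1)) : C →* C).ker) fun c => Iff.rfl)).trans h3.symm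
        _ ≤ 2 * 2 ^ j := Nat.mul_le_mul h2 h1
        _ = _ := (pow_succ' 2 j).symm
  obtain ⟨c, hc⟩ : ∃ c : H, (c : C) ^ 2 ^ k ≠ 1 := by
    by_contra h
    push Not at h
    have h1 := Nat.card_le_card_of_injective (fun x : H => (⟨x, h x⟩ : {c : C // c ^ 2 ^ k = 1}))
      (fun a b e => Subtype.ext (congrArg Subtype.val e :))
    rw [hH] at h1
    have := h1.trans (hker k)
    rw [pow_succ] at this
    have := Nat.two_pow_pos k
    omega
  refine ⟨c, orderOf_eq_prime_pow hc ?_⟩
  rw [← hH, ← Subgroup.coe_pow, pow_card_eq_one', OneMemClass.coe_one]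

theorem sd_case (hF : Fintype.card F % 4 = 3) (P : Sylow 2 (GL (Fin 2) F)) :
    Cfsg.IsQuasiDihedral (P : Subgroup (GL (Fin 2) F)) := by
  classical
  set q := Fintype.card F with hq
  haveI : Fact (Nat.Prime 2) := ⟨Nat.prime_two⟩
  have hchar : ringChar F ≠ 2 := by
    intro h
    have := FiniteField.even_card_iff_char_two.1 h
    omega
  obtain ⟨d, hd⟩ := FiniteField.exists_nonsquare hchar
  have hd0 : d ≠ 0 := fun e => hd (e ▸ IsSquare.zero)
  obtain ⟨m, o, ho, hqo⟩ := Nat.exists_eq_pow_mul_and_not_dvd (n := q + 1) (by omega) 2 (by omega)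
  have hm2 : 2 ≤ m := by
    by_contra h
    interval_cases m <;> omega
  have hdet : ∀ a b : F, (a ≠ 0 ∨ b ≠ 0) → a * a - b * d * b ≠ 0 := by
    intro a b hab e
    by_cases hb : b = 0
    · subst hb; simp at e hab; exact hab e
    · exact hd ⟨a / b, by field_simp; linear_combination -e⟩
  let C : Subgroup (GL (Fin 2) F) :=
    { carrier := {g | ∃ a b : F, (g : Matrix (Fin 2) (Fin 2) F) = !![a, b * d; b, a]}
      one_mem' := ⟨1, 0, by simp [Matrix.one_fin_two]⟩
      mul_mem' := by
        rintro g g' ⟨a, b, h⟩ ⟨a', b', h'⟩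
        refine ⟨a * a' + b * b' * d, a * b' + b * a', ?_⟩
        rw [Units.val_mul, h, h']
        ext i j; fin_cases i <;> fin_cases j <;> simp [Matrix.mul_apply, Fin.sum_univ_two] <;> ring
      inv_mem' := by
        rintro g ⟨a, b, h⟩
        refine ⟨((g : Matrix (Fin 2) (Fin 2) F).det)⁻¹ * a, -(((g : Matrix (Fin 2) (Fin 2) F).det)⁻¹ * b), ?_⟩
        rw [Matrix.coe_units_inv, Matrix.inv_def, Ring.inverse_eq_inv', h, Matrix.adjugate_fin_two]
        ext i j; fin_cases i <;> fin_cases j <;> simp <;> ring }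
  have hmk : ∀ a b : F, (a ≠ 0 ∨ b ≠ 0) → (!![a, b * d; b, a] : Matrix (Fin 2) (Fin 2) F).det ≠ 0 := fun a b h => by
    rw [Matrix.det_fin_two_of, show a * a - b * d * b = a * a - b * d * b from rfl]; exact hdet a b h
  have hCcard : q ^ 2 - 1 ≤ Nat.card C := by
    have h1 : Nat.card {v : F × F // v ≠ 0} = q ^ 2 - 1 := by
      rw [Nat.card_eq_fintype_card, Fintype.card_subtype_compl, Fintype.card_subtype_eq, Fintype.card_prod, pow_two]
    rw [← h1]
    refine Nat.card_le_card_of_injective (fun v => (⟨Matrix.GeneralLinearGroup.mkOfDetNeZero !![v.1.1, v.1.2 * d; v.1.2, v.1.1]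
      (hmk _ _ (by by_contra h; push Not at h; exact v.2 (Prod.ext h.1 h.2))), v.1.1, v.1.2, rfl⟩ : C)) ?_
    intro v w e
    have e' := fun i j => congrFun (congrFun (congrArg (fun g : C => ((g : GL (Fin 2) F) : Matrix (Fin 2) (Fin 2) F)) e) i) j
    exact Subtype.ext (Prod.ext (by simpa [Matrix.GeneralLinearGroup.mkOfDetNeZero] using e' 0 0)
      (by simpa [Matrix.GeneralLinearGroup.mkOfDetNeZero] using e' 1 0))
  have hCle : Nat.card C ≤ q ^ 2 - 1 := by
    have h1 : Nat.card {v : F × F // v ≠ 0} = q ^ 2 - 1 := by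
      rw [Nat.card_eq_fintype_card, Fintype.card_subtype_compl, Fintype.card_subtype_eq, Fintype.card_prod, pow_two]
    rw [← h1]
    refine Nat.card_le_card_of_injective (fun g : C => (⟨(((g : GL (Fin 2) F) : Matrix (Fin 2) (Fin 2) F) 0 0,
      ((g : GL (Fin 2) F) : Matrix (Fin 2) (Fin 2) F) 1 0), ?_⟩ : {v : F × F // v ≠ 0})) ?_
    · obtain ⟨g, a, b, hg⟩ := g
      intro e
      have ha : a = 0 := by simpa [hg] using congrArg Prod.fst e
      have hb : b = 0 := by simpa [hg] using congrArg Prod.snd e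
      have := Matrix.GeneralLinearGroup.det_ne_zero g
      rw [hg, ha, hb] at this
      simp [Matrix.det_fin_two] at this
    · rintro ⟨g, a, b, hg⟩ ⟨g', a', b', hg'⟩ e
      have e1 : a = a' := by simpa [hg, hg'] using congrArg (fun v => v.1.1) e
      have e2 : b = b' := by simpa [hg, hg'] using congrArg (fun v => v.1.2) e
      exact Subtype.ext (Units.ext (by rw [hg, hg', e1, e2]))
  haveI : IsMulCommutative C := ⟨⟨fun g g' => by
    obtain ⟨g, a, b, h⟩ := g
    obtain ⟨g', a', b', h'⟩ := g'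
    apply Subtype.ext; apply Units.ext
    show (g : Matrix (Fin 2) (Fin 2) F) * (g' : Matrix (Fin 2) (Fin 2) F) = (g' : Matrix (Fin 2) (Fin 2) F) * (g : Matrix (Fin 2) (Fin 2) F)
    rw [h, h']
    ext i j; fin_cases i <;> fin_cases j <;> simp [Matrix.mul_apply, Fin.sum_univ_two] <;> ring⟩⟩
  letI : CommGroup C := { (inferInstance : Group C) with mul_comm := fun a b => mul_comm' a b }
  obtain ⟨x, hx⟩ : ∃ x : C, orderOf x = 2 ^ (m + 1) := by
    refine exists_order_two_pow (fun c hc => ?_) ?_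
    · by_cases hc1 : c = 1
      · exact Or.inl hc1
      refine Or.inr fun e he => ?_
      have key : ∀ u : C, u * u = 1 → u = 1 ∨ ((u : GL (Fin 2) F) : Matrix (Fin 2) (Fin 2) F) = -1 := by
        rintro ⟨g, a, b, h⟩ hu
        have hu' : (g : Matrix (Fin 2) (Fin 2) F) * g = 1 := by
          have := congrArg (fun z : C => ((z : GL (Fin 2) F) : Matrix (Fin 2) (Fin 2) F)) hu
          simpa using this
        rw [h] at hu'
        have e00 := congrFun (congrFun hu' 0) 0
        have e10 := congrFun (congrFun hu' 1) 0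
        simp [Matrix.mul_apply, Fin.sum_univ_two] at e00 e10
        have h2 : (2 : F) ≠ 0 := Ring.two_ne_zero hchar
        have hab : a * b = 0 := by
          have : (2 : F) * (a * b) = 0 := by linear_combination e10
          exact (mul_eq_zero.1 this).resolve_left h2
        have hb : b = 0 := by
          rcases mul_eq_zero.1 hab with ha | hb
          · exfalso
            rw [ha, mul_zero, zero_add] at e00
            have hb0 : b ≠ 0 := fun e' => by rw [e'] at e00; simp at e00
            exact hd ⟨b⁻¹, by field_simp; linear_combination e00⟩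
          · exact hb
        rw [hb] at e00 h
        simp at e00
        rcases mul_self_eq_one_iff.1 e00 with ha | ha
        · left; apply Subtype.ext; apply Units.ext
          show (g : Matrix (Fin 2) (Fin 2) F) = 1
          rw [h, ha]; ext i j; fin_cases i <;> fin_cases j <;> simp
        · right
          show (g : Matrix (Fin 2) (Fin 2) F) = -1
          rw [h, ha]; ext i j; fin_cases i <;> fin_cases j <;> simp
      rcases key e he with h | h
      · exact Or.inl h
      · rcases key c hc with h' | h'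
        · exact absurd h' hc1
        · exact Or.inr (Subtype.ext (Units.ext (h.trans h'.symm)))
    · rw [le_antisymm hCle hCcard]
      obtain ⟨t, ht⟩ : ∃ t, q = 4 * t + 3 := ⟨q / 4, by omega⟩
      refine ⟨o * (2 * t + 1), ?_⟩
      calc q ^ 2 - 1 = (q + 1) * (q - 1) := by simpa using Nat.sq_sub_sq q 1
        _ = (2 ^ m * o) * (2 * (2 * t + 1)) := by rw [← hqo]; congr 1; omega
        _ = _ := by ring
  -- the Frobenius action
  obtain ⟨a, b, hab⟩ := (x : C).2
  set J : Matrix (Fin 2) (Fin 2) F := !![0, d; 1, 0] with hJ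
  have hxJ : ((x : GL (Fin 2) F) : Matrix (Fin 2) (Fin 2) F) = a • 1 + b • J := by
    rw [hab]; ext i j; fin_cases i <;> fin_cases j <;> simp [hJ]
  have hJ2 : J ^ 2 = d • 1 := by
    rw [pow_two]; ext i j; fin_cases i <;> fin_cases j <;> simp [hJ, Matrix.mul_apply, Fin.sum_univ_two]
  have hJq : J ^ q = -J := by
    have h1 : d ^ (q / 2) = -1 := (FiniteField.pow_dichotomy hchar hd0).resolve_left
      (fun e => hd ((FiniteField.isSquare_iff hchar hd0).2 e))
    conv_lhs => rw [show q = 2 * (q / 2) + 1 by omega, pow_succ, pow_mul, hJ2, smul_pow, one_pow, h1]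
    simp
  obtain ⟨r, hr⟩ := CharP.exists F
  obtain ⟨n, hrp, hn⟩ := FiniteField.card F r
  haveI := Fact.mk hrp
  have hxq : ((x : GL (Fin 2) F) : Matrix (Fin 2) (Fin 2) F) ^ q = !![a, -(b * d); -b, a] := by
    rw [hxJ, hq, hn, add_pow_char_pow_of_commute _ _ (((Commute.one_left J).smul_left a).smul_right b), smul_pow, smul_pow,
      one_pow, ← hn, FiniteField.pow_card, FiniteField.pow_card, ← hq, hJq]
    ext i j; fin_cases i <;> fin_cases j <;> simp [hJ]
  let y : GL (Fin 2) F := ⟨!![1, 0; 0, -1], !![1, 0; 0, -1],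
    by ext i j; fin_cases i <;> fin_cases j <;> simp, by ext i j; fin_cases i <;> fin_cases j <;> simp⟩
  set X : GL (Fin 2) F := (x : GL (Fin 2) F) with hX
  have hXord : orderOf X = 2 ^ (m + 1) := by rw [hX, Subgroup.orderOf_coe, hx]
  have hy1 : y * y = 1 := Units.ext (by ext i j; fin_cases i <;> fin_cases j <;> simp [y])
  have hexp : X ^ q = X ^ (2 ^ m - 1) := by
    rw [pow_inj_mod, hXord]
    obtain ⟨s, hs⟩ : ∃ s, o = 2 * s + 1 := ⟨o / 2, by omega⟩
    have hpos : 1 ≤ 2 ^ m := Nat.one_le_two_pow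
    rw [show q = (2 ^ m - 1) + 2 ^ (m + 1) * s by rw [hs, mul_add, mul_one, ← mul_assoc, ← pow_succ] at hqo; omega,
      Nat.add_mul_mod_self_left]
  have hconj : y * X * y⁻¹ = X ^ (2 ^ m - 1) := by
    rw [← hexp, inv_eq_of_mul_eq_one_right hy1]
    apply Units.ext
    rw [Units.val_pow_eq_pow_val, hxq, Units.val_mul, Units.val_mul, hab]
    ext i j; fin_cases i <;> fin_cases j <;> simp [y, Matrix.mul_apply, Fin.sum_univ_two]
  have hy0 : y ∉ Subgroup.zpowers X := fun hy => by
    obtain ⟨a', b', h⟩ := (Subgroup.zpowers_le.2 (x : C).2 hy : y ∈ C)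
    have h00 := congrFun (congrFun h 0) 0
    have h11 := congrFun (congrFun h 1) 1
    simp [y] at h00 h11
    exact Ring.neg_one_ne_one_of_char_ne_two hchar (h11.trans h00.symm)
  have hyord : orderOf y = 2 := orderOf_eq_prime (by rw [pow_two, hy1]) (fun e => hy0 (e ▸ one_mem _))
  set W : Subgroup (GL (Fin 2) F) := Subgroup.zpowers y ⊔ Subgroup.zpowers X with hW
  have hWp : IsPGroup 2 W := by
    refine IsPGroup.to_sup_of_normal_right' (IsPGroup.of_card (n := 1) ?_) (IsPGroup.of_card (n := m + 1) ?_) ?_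
    · rw [Nat.card_zpowers, hyord, pow_one]
    · rw [Nat.card_zpowers, hXord]
    · rw [Subgroup.zpowers_le]
      refine Subgroup.mem_normalizer_fintype fun z hz => ?_
      obtain ⟨i, rfl⟩ := hz
      rw [← conj_zpow, hconj]
      exact zpow_mem (pow_mem (Subgroup.mem_zpowers X) _) i
  have hG : ∃ o', Odd o' ∧ Nat.card (GL (Fin 2) F) = 2 ^ (m + 2) * o' := by
    obtain ⟨t, ht⟩ : ∃ t, q = 4 * t + 3 := ⟨q / 4, by omega⟩
    refine ⟨q * (2 * t + 1) ^ 2 * o, ((Nat.odd_iff.2 (by omega)).mul (Odd.pow ⟨t, rfl⟩)).mul (Nat.odd_iff.2 (by omega)), ?_⟩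
    rw [card_GL2, ← hq]
    have e1 : q ^ 2 - 1 = (q + 1) * (q - 1) := by simpa using Nat.sq_sub_sq q 1
    have e2 : q ^ 2 - q = q * (q - 1) := by rw [Nat.mul_sub, mul_one, pow_two]
    rw [e1, e2, hqo, show q - 1 = 2 * (2 * t + 1) by omega]
    ring
  have hbig : 2 ^ (m + 2 - 1) < Nat.card W := by
    rw [show m + 2 - 1 = m + 1 from rfl, ← hXord, ← Nat.card_zpowers]
    exact Set.Finite.card_lt_card (Set.toFinite _) (SetLike.coe_ssubset_coe.2 (lt_of_le_of_ne le_sup_right
      fun h => hy0 (h ▸ le_sup_left (b := Subgroup.zpowers X) (Subgroup.mem_zpowers y))))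
  obtain ⟨hWc, ⟨e⟩⟩ := two_part (N := m + 2) hG W hWp hbig P (by omega)
  refine ⟨m + 1, by omega, ?_, e ⟨X, le_sup_right (a := Subgroup.zpowers y) (Subgroup.mem_zpowers X)⟩,
    e ⟨y, le_sup_left (b := Subgroup.zpowers X) (Subgroup.mem_zpowers y)⟩, ?_, ?_, ?_⟩
  · rw [← Nat.card_congr e.toEquiv, hWc]
  · rw [MulEquiv.orderOf_eq, Subgroup.orderOf_mk, hXord]
  · rw [MulEquiv.orderOf_eq, Subgroup.orderOf_mk, hyord]
  · rw [← map_inv, ← map_mul, ← map_mul, ← map_pow]
    exact congrArg e (Subtype.ext (by simpa using hconj))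


theorem wr_case (hF : Fintype.card F % 4 = 1) (P : Sylow 2 (GL (Fin 2) F)) :
    Cfsg.IsWreathed (P : Subgroup (GL (Fin 2) F)) := by
  classical
  set q := Fintype.card F with hq
  haveI : Fact (Nat.Prime 2) := ⟨Nat.prime_two⟩
  have hq1 : 1 < q := Fintype.one_lt_card
  obtain ⟨n, o, ho, hqo⟩ := Nat.exists_eq_pow_mul_and_not_dvd (n := q - 1) (by omega) 2 (by omega)
  have hn : 2 ≤ n := by
    by_contra h
    interval_cases n <;> omega
  obtain ⟨c, hc⟩ := IsCyclic.exists_generator (α := Fˣ)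
  have hcord : orderOf c = 2 ^ n * o := by
    rw [orderOf_eq_card_of_forall_mem_zpowers hc, Nat.card_units, Nat.card_eq_fintype_card, ← hq, hqo]
  set α := c ^ o with hα
  have hαord : orderOf α = 2 ^ n := by
    rw [hα, orderOf_pow_of_dvd (by omega) (hcord ▸ dvd_mul_left o _), hcord, Nat.mul_div_cancel _ (by omega)]
  let f : ↥(Subgroup.zpowers α) × ↥(Subgroup.zpowers α) →* GL (Fin 2) F :=
    MonoidHom.mk' (fun t => ⟨!![((t.1 : Fˣ) : F), 0; 0, ((t.2 : Fˣ) : F)], !![(((t.1 : Fˣ)⁻¹ : Fˣ) : F), 0; 0, (((t.2 : Fˣ)⁻¹ : Fˣ) : F)],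
      by ext i j; fin_cases i <;> fin_cases j <;> simp, by ext i j; fin_cases i <;> fin_cases j <;> simp⟩)
      (fun s t => Units.ext (by ext i j; fin_cases i <;> fin_cases j <;> simp))
  have hf : Function.Injective f := by
    intro s t e
    have e' := fun i j => congrFun (congrFun (congrArg (fun g : GL (Fin 2) F => (g : Matrix (Fin 2) (Fin 2) F)) e) i) j
    exact Prod.ext (Subtype.ext (Units.ext (by simpa [f] using e' 0 0))) (Subtype.ext (Units.ext (by simpa [f] using e' 1 1)))
  let z : GL (Fin 2) F := ⟨!![0, 1; 1, 0], !![0, 1; 1, 0],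
    by ext i j; fin_cases i <;> fin_cases j <;> simp, by ext i j; fin_cases i <;> fin_cases j <;> simp⟩
  have hz1 : z * z = 1 := Units.ext (by ext i j; fin_cases i <;> fin_cases j <;> simp [z])
  have hswap : ∀ t, z * f t * z⁻¹ = f (t.2, t.1) := fun t => by
    rw [inv_eq_of_mul_eq_one_right hz1]
    exact Units.ext (by ext i j; fin_cases i <;> fin_cases j <;> simp [f, z])
  have hz0 : z ∉ f.range := by
    rintro ⟨t, ht⟩
    simpa [f, z] using congrFun (congrFun (congrArg (fun g : GL (Fin 2) F => (g : Matrix (Fin 2) (Fin 2) F)) ht) 1) 0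
  have hzord : orderOf z = 2 := orderOf_eq_prime (by rw [pow_two, hz1]) (fun e => hz0 (e ▸ one_mem _))
  have hfc : Nat.card f.range = 2 ^ (2 * n) := by
    rw [← Nat.card_congr (MonoidHom.ofInjective hf).toEquiv, Nat.card_prod, Nat.card_zpowers, hαord, ← pow_add, two_mul]
  set W : Subgroup (GL (Fin 2) F) := Subgroup.zpowers z ⊔ f.range with hW
  have hWp : IsPGroup 2 W := by
    refine IsPGroup.to_sup_of_normal_right' (IsPGroup.of_card (n := 1) ?_) (IsPGroup.of_card hfc) ?_
    · rw [Nat.card_zpowers, hzord, pow_one]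
    · rw [Subgroup.zpowers_le]
      refine Subgroup.mem_normalizer_fintype fun w hw => ?_
      obtain ⟨t, rfl⟩ := hw
      exact ⟨_, (hswap t).symm⟩
  have hG : ∃ o', Odd o' ∧ Nat.card (GL (Fin 2) F) = 2 ^ (2 * n + 1) * o' := by
    obtain ⟨t, ht⟩ : ∃ t, q = 4 * t + 1 := ⟨q / 4, by omega⟩
    refine ⟨q * o ^ 2 * (2 * t + 1), ((Nat.odd_iff.2 (by omega)).mul (Odd.pow (Nat.odd_iff.2 (by omega)))).mul ⟨t, rfl⟩, ?_⟩
    rw [card_GL2, ← hq]
    have e1 : q ^ 2 - 1 = (q + 1) * (q - 1) := by simpa using Nat.sq_sub_sq q 1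
    have e2 : q ^ 2 - q = q * (q - 1) := by rw [Nat.mul_sub, mul_one, pow_two]
    rw [e1, e2, hqo, show q + 1 = 2 * (2 * t + 1) by omega]
    ring
  have hbig : 2 ^ (2 * n + 1 - 1) < Nat.card W := by
    rw [show 2 * n + 1 - 1 = 2 * n from rfl, ← hfc]
    exact Set.Finite.card_lt_card (Set.toFinite _) (SetLike.coe_ssubset_coe.2 (lt_of_le_of_ne le_sup_right
      fun h => hz0 (h ▸ le_sup_left (b := f.range) (Subgroup.mem_zpowers z))))

  obtain ⟨hWc, ⟨e⟩⟩ := two_part (N := 2 * n + 1) hG W hWp hbig P (by omega)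
  set u : Subgroup.zpowers α := ⟨α, Subgroup.mem_zpowers α⟩ with hu
  have hin : ∀ t, f t ∈ W := fun t => le_sup_right (a := Subgroup.zpowers z) ⟨t, rfl⟩
  refine ⟨n, hn, ?_, e ⟨f (u, 1), hin _⟩, e ⟨f (1, u), hin _⟩,
    e ⟨z, le_sup_left (b := f.range) (Subgroup.mem_zpowers z)⟩, ?_, ?_, ?_, ?_, ?_⟩
  · rw [← Nat.card_congr e.toEquiv, hWc]
  · rw [MulEquiv.orderOf_eq, Subgroup.orderOf_mk, orderOf_injective f hf, Prod.orderOf_mk, orderOf_one, Nat.lcm_one_right, hu,
      Subgroup.orderOf_mk, hαord]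
  · rw [← map_mul, ← map_mul]
    exact congrArg e (Subtype.ext (show f (u, 1) * f (1, u) = f (1, u) * f (u, 1) by rw [← map_mul, ← map_mul, mul_comm]))
  · rw [Subgroup.eq_bot_iff_forall]
    rintro w ⟨⟨i, hi⟩, ⟨j, hj⟩⟩
    have h : f ((u, 1) ^ i) = f ((1, u) ^ j) := by
      have := congrArg (fun v => ((e.symm v : ↥W) : GL (Fin 2) F)) (hi.trans hj.symm)
      rw [map_zpow, map_zpow]; simpa using this
    have h2 := congrArg Prod.fst (hf h)
    simp at h2
    have h3 : e ⟨f (u, 1), hin _⟩ ^ i = 1 := by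
      rw [← map_zpow, ← map_one e]
      refine congrArg e (Subtype.ext ?_)
      rw [Subgroup.coe_zpow, ← map_zpow]
      show f ((u, 1) ^ i) = 1
      rw [show ((u, 1) : _ × ↥(Subgroup.zpowers α)) ^ i = 1 by simp [h2], map_one]
    exact hi.symm.trans h3
  · rw [MulEquiv.orderOf_eq, Subgroup.orderOf_mk, hzord]
  · rw [← map_inv, ← map_mul, ← map_mul]
    exact congrArg e (Subtype.ext (hswap _))

/-- Let F be a finite field with q elements, q odd, and P a Sylow 2-subgroup of GL(2,F). If q ≡ 3 (mod 4) then P is quasi-dihedral; if q ≡ 1 (mod 4) then P is wreathed. -/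
theorem result {F : Type*} [Field F] [Fintype F] (P : Sylow 2 (GL (Fin 2) F)) : (Fintype.card F % 4 = 3 → Cfsg.IsQuasiDihedral (P : Subgroup (GL (Fin 2) F))) ∧ (Fintype.card F % 4 = 1 → Cfsg.IsWreathed (P : Subgroup (GL (Fin 2) F))) := by
    exact ⟨fun h => sd_case h P, fun h => wr_case h P⟩

end Cfsg.Agent.S1217
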