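import Cfsg.Statements.S1218
import Cfsg.Agent.Lie.Herm
import Cfsg.Agent.S1217

set_option autoImplicit false
open scoped MatrixGroups
open Cfsg

namespace Cfsg.Agent.S1218

open Matrix

variable {F : Type*} [Field F] [Fintype F]

theorem q_hom {q : ℕ} (hF : Fintype.card F = q ^ 2) :
    (∀ x y : F, (x + y) ^ q = x ^ q + y ^ q) ∧ (∀ x : F, (x ^ q) ^ q = x) := by
  haveI : Fact (ringChar F).Prime := ⟨CharP.char_is_prime F (ringChar F)⟩
  obtain ⟨k, hp, hk⟩ := FiniteField.card F (ringChar F)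
  have hq : q ∣ ringChar F ^ (k : ℕ) := ⟨q, by rw [← hk, hF, pow_two]⟩
  obtain ⟨j, -, rfl⟩ := (Nat.dvd_prime_pow hp).1 hq
  exact ⟨fun x y => add_pow_char_pow x y (ringChar F) j, fun x => by rw [← pow_mul, ← pow_two, ← hF, FiniteField.pow_card]⟩

theorem mem_of_cols {q : ℕ} (hF : Fintype.card F = q ^ 2) (g : GL (Fin 2) F) {a b c d : F}
    (hg : (g : Matrix (Fin 2) (Fin 2) F) = !![a, b; c, d]) (h1 : a * a ^ q + c * c ^ q = 1) (h2 : b * b ^ q + d * d ^ q = 1)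
    (h3 : a * b ^ q + c * d ^ q = 0) (h4 : b * a ^ q + d * c ^ q = 0) :
    g ∈ Cfsg.preserving (Units.coeHom (Matrix (Fin 2) (Fin 2) F)) (Cfsg.hermForm 2 F q) := by
  intro u v
  show Cfsg.hermForm 2 F q ((g : Matrix (Fin 2) (Fin 2) F) *ᵥ u) ((g : Matrix (Fin 2) (Fin 2) F) *ᵥ v) = _
  rw [hg]
  simp only [Cfsg.hermForm, Fin.sum_univ_two, Matrix.mulVec, dotProduct, Matrix.cons_val_zero, Matrix.cons_val_one,
    Matrix.of_apply, (q_hom hF).1, mul_pow]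
  linear_combination (u 0 * v 0 ^ q) * h1 + (u 1 * v 1 ^ q) * h2 + (u 0 * v 1 ^ q) * h3 + (u 1 * v 0 ^ q) * h4

theorem exists_order {k : ℕ} (hk : k ∣ Fintype.card F - 1) (hk0 : k ≠ 0) : ∃ c : Fˣ, orderOf c = k := by
  classical
  obtain ⟨g, hg⟩ := IsCyclic.exists_ofOrder_eq_natCard (α := Fˣ)
  rw [Nat.card_units, Nat.card_eq_fintype_card] at hg
  refine ⟨g ^ ((Fintype.card F - 1) / k), ?_⟩
  have h0 : Fintype.card F - 1 ≠ 0 := by have := Fintype.one_lt_card (α := F); omega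
  rw [orderOf_pow, hg, Nat.gcd_eq_right (Nat.div_dvd_of_dvd hk), Nat.div_div_self hk h0]

theorem card_GU2 {q : ℕ} (hF : Fintype.card F = q ^ 2) :
    Nat.card ↥(Cfsg.preserving (Units.coeHom (Matrix (Fin 2) (Fin 2) F)) (Cfsg.hermForm 2 F q)) =
      q * ((q + 1) * (q ^ 2 - 1)) := by
  refine (CfsgLib.Lie.Herm.card_GU hF 2).trans ?_
  simp [Finset.prod_range_succ]

/-- diagonal matrices -/
noncomputable def diagHom (F : Type*) [Field F] : Fˣ × Fˣ →* GL (Fin 2) F :=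
  ({ toFun := fun p : Fˣ × Fˣ => !![(p.1 : F), 0; 0, p.2]
     map_one' := by ext i j; fin_cases i <;> fin_cases j <;> simp
     map_mul' := fun p p' => by
      ext i j; fin_cases i <;> fin_cases j <;> simp [Matrix.mul_apply, Fin.sum_univ_two] } :
    Fˣ × Fˣ →* Matrix (Fin 2) (Fin 2) F).toHomUnits

theorem diagHom_coe (p : Fˣ × Fˣ) : ((diagHom F p : GL (Fin 2) F) : Matrix (Fin 2) (Fin 2) F) = !![(p.1 : F), 0; 0, p.2] := rfl

theorem diagHom_inj : Function.Injective (diagHom F) := fun p p' h => by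
  have h' := congrArg Units.val h
  rw [diagHom_coe, diagHom_coe] at h'
  exact Prod.ext (Units.ext (congrFun (congrFun h' 0) 0)) (Units.ext (congrFun (congrFun h' 1) 1))

/-- a subgroup of the form `D ⋊ ⟨w⟩` -/
theorem semidirect {G : Type*} [Group G] {D : Type*} [CommGroup D] (φ : D →* G) (hφ : Function.Injective φ)
    (w : G) (hw : w * w = 1) (hwn : ∀ d, φ d ≠ w) (τ : D → D) (hτ : ∀ d, w * φ d * w⁻¹ = φ (τ d)) :
    ∃ W : Subgroup G, Nat.card ↥W = 2 * Nat.card D ∧ (∀ d, φ d ∈ W) ∧ w ∈ W ∧ ∀ g ∈ W, ∃ d, g = φ d ∨ g = φ d * w := by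
  have hwi : w⁻¹ = w := inv_eq_of_mul_eq_one_right hw
  have hcomm : ∀ d, w * φ d = φ (τ d) * w := fun d => by rw [← hτ, inv_mul_cancel_right]
  let W : Subgroup G :=
    { carrier := {g | ∃ d, g = φ d ∨ g = φ d * w}
      one_mem' := ⟨1, Or.inl (map_one φ).symm⟩
      mul_mem' := by
        rintro a b ⟨d, hd⟩ ⟨e, he⟩
        rcases hd with rfl | rfl <;> rcases he with rfl | rfl
        · exact ⟨d * e, Or.inl (map_mul φ d e).symm⟩
        · exact ⟨d * e, Or.inr (by rw [map_mul, mul_assoc])⟩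
        · exact ⟨d * τ e, Or.inr (by rw [map_mul, mul_assoc, hcomm, mul_assoc])⟩
        · exact ⟨d * τ e, Or.inl (by
            rw [map_mul, mul_assoc, ← mul_assoc w, hcomm, mul_assoc (φ (τ e)), hw, mul_one])⟩
      inv_mem' := by
        rintro a ⟨d, rfl | rfl⟩
        · exact ⟨d⁻¹, Or.inl (map_inv φ d).symm⟩
        · exact ⟨τ d⁻¹, Or.inr (by rw [_root_.mul_inv_rev, hwi, ← map_inv, hcomm])⟩ }
  refine ⟨W, ?_, fun d => ⟨d, Or.inl rfl⟩, ⟨1, Or.inr (by rw [map_one, one_mul])⟩, fun g hg => hg⟩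
  have hbij : Function.Bijective (fun p : D × Bool => (⟨if p.2 then φ p.1 * w else φ p.1, by
      cases p.2
      · exact ⟨p.1, Or.inl rfl⟩
      · exact ⟨p.1, Or.inr rfl⟩⟩ : W)) := by
    constructor
    · rintro ⟨d, s⟩ ⟨e, t⟩ h
      have h' := congrArg Subtype.val h
      cases s <;> cases t <;> simp at h'
      · rw [hφ h']
      · exact absurd (show φ (e⁻¹ * d) = w by rw [map_mul, map_inv, h', inv_mul_cancel_left]) (hwn _)
      · exact absurd (show φ (d⁻¹ * e) = w by rw [map_mul, map_inv, ← h', inv_mul_cancel_left]) (hwn _)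
      · rw [hφ h']
    · rintro ⟨g, d, rfl | rfl⟩
      · exact ⟨(d, false), rfl⟩
      · exact ⟨(d, true), rfl⟩
  rw [← Nat.card_eq_of_bijective _ hbij, Nat.card_prod, mul_comm]
  simp

theorem wreathed_case {q : ℕ} (hF : Fintype.card F = q ^ 2) (h3 : q % 4 = 3)
    (P : Sylow 2 ↥(Cfsg.preserving (Units.coeHom (Matrix (Fin 2) (Fin 2) F)) (Cfsg.hermForm 2 F q))) :
    Cfsg.IsWreathed (P : Subgroup ↥(Cfsg.preserving (Units.coeHom (Matrix (Fin 2) (Fin 2) F)) (Cfsg.hermForm 2 F q))) := by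
  classical
  haveI : Fact (Nat.Prime 2) := ⟨Nat.prime_two⟩
  obtain ⟨a, o, ho, hqo⟩ := Nat.exists_eq_pow_mul_and_not_dvd (n := q + 1) (by omega) 2 (by omega)
  have ha : 2 ≤ a := by
    by_contra h
    interval_cases a <;> omega
  have hq2 : q ^ 2 - 1 = (q + 1) * (q - 1) := by simpa using Nat.sq_sub_sq q 1
  obtain ⟨c, hc⟩ := exists_order (F := F) (k := 2 ^ a) (by
    rw [hF, hq2]; exact Dvd.dvd.mul_right ⟨o, hqo⟩ _) (by positivity)
  let U := Subgroup.zpowers c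
  have hUcard : Nat.card U = 2 ^ a := by rw [Nat.card_zpowers, hc]
  have hUq : ∀ u : U, ((u : Fˣ) : F) * ((u : Fˣ) : F) ^ q = 1 := fun u => by
    rw [← pow_succ', ← Units.val_pow_eq_pow_val, hqo, pow_mul,
      show (u : Fˣ) ^ 2 ^ a = 1 by rw [← hUcard, ← Subgroup.coe_pow, pow_card_eq_one']; rfl, one_pow, Units.val_one]
  have hz : ∃ z : GL (Fin 2) F, (z : Matrix (Fin 2) (Fin 2) F) = !![0, 1; 1, 0] :=
    ⟨Matrix.GeneralLinearGroup.mkOfDetNeZero !![0, 1; 1, 0] (by simp [Matrix.det_fin_two]), rfl⟩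
  obtain ⟨z, hzc⟩ := hz
  have hq0 : q ≠ 0 := by omega
  let H := Cfsg.preserving (Units.coeHom (Matrix (Fin 2) (Fin 2) F)) (Cfsg.hermForm 2 F q)
  have hzH : z ∈ H := mem_of_cols hF z hzc (by simp [zero_pow hq0]) (by simp [zero_pow hq0]) (by simp [zero_pow hq0])
    (by simp [zero_pow hq0])
  let φ0 : U × U →* GL (Fin 2) F := (diagHom F).comp (U.subtype.prodMap U.subtype)
  have hφH : ∀ p, φ0 p ∈ H := fun p => mem_of_cols hF (φ0 p) (diagHom_coe ((p.1 : Fˣ), (p.2 : Fˣ)))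
    (by simp [zero_pow hq0, hUq]) (by simp [zero_pow hq0, hUq]) (by simp [zero_pow hq0]) (by simp [zero_pow hq0])
  let φ : U × U →* ↥H := φ0.codRestrict H hφH
  have hφi : Function.Injective φ := fun p p' h => by
    have h2 := diagHom_inj (congrArg Subtype.val h)
    exact Prod.ext (Subtype.ext (congrArg Prod.fst h2)) (Subtype.ext (congrArg Prod.snd h2))
  have hzz : (⟨z, hzH⟩ : ↥H) * ⟨z, hzH⟩ = 1 := Subtype.ext (Units.ext (by
    show (z : Matrix (Fin 2) (Fin 2) F) * (z : Matrix (Fin 2) (Fin 2) F) = 1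
    rw [hzc]; ext i j; fin_cases i <;> fin_cases j <;> simp))
  have hτ : ∀ p : U × U, (⟨z, hzH⟩ : ↥H) * φ p * (⟨z, hzH⟩ : ↥H)⁻¹ = φ (p.2, p.1) := fun p => by
    rw [mul_inv_eq_iff_eq_mul]
    refine Subtype.ext (Units.ext ?_)
    show (z : Matrix (Fin 2) (Fin 2) F) * !![((p.1 : Fˣ) : F), 0; 0, ((p.2 : Fˣ) : F)] =
      !![((p.2 : Fˣ) : F), 0; 0, ((p.1 : Fˣ) : F)] * (z : Matrix (Fin 2) (Fin 2) F)
    rw [hzc]; ext i j; fin_cases i <;> fin_cases j <;> simp [Matrix.mul_apply, Fin.sum_univ_two]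
  obtain ⟨W, hWc, hWφ, hWz, -⟩ := semidirect φ hφi ⟨z, hzH⟩ hzz (fun p e => by
    have h := congrArg (fun g : ↥H => ((g : GL (Fin 2) F) : Matrix (Fin 2) (Fin 2) F) 0 1) e
    simp [φ, φ0, hzc, diagHom_coe] at h) _ hτ
  have hWcard : Nat.card W = 2 ^ (2 * a + 1) := by
    rw [hWc, Nat.card_prod, hUcard, ← pow_add, ← pow_succ', two_mul]
  have hG : ∃ o', Odd o' ∧ Nat.card ↥H = 2 ^ (2 * a + 1) * o' := by
    obtain ⟨r, hr⟩ : ∃ r, q - 1 = 2 * r := ⟨(q - 1) / 2, by omega⟩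
    refine ⟨q * (o * o * r), ?_, ?_⟩
    · have h1 : Odd q := Nat.odd_iff.2 (by omega)
      have h2 : Odd o := Nat.odd_iff.2 (by omega)
      have h3 : Odd r := Nat.odd_iff.2 (by omega)
      exact h1.mul ((h2.mul h2).mul h3)
    · rw [card_GU2 hF, hq2, hr, hqo, pow_succ, pow_mul']
      ring
  obtain ⟨-, ⟨e⟩⟩ := Cfsg.Agent.S1217.two_part hG W (IsPGroup.of_card hWcard)
    (by rw [hWcard]; exact Nat.pow_lt_pow_right one_lt_two (by omega)) P (by omega)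
  have hcU : c ∈ U := Subgroup.mem_zpowers c
  obtain ⟨X, hX⟩ : ∃ X : ↥W, X = ⟨φ (⟨c, hcU⟩, 1), hWφ _⟩ := ⟨_, rfl⟩
  obtain ⟨Y, hY⟩ : ∃ Y : ↥W, Y = ⟨φ (1, ⟨c, hcU⟩), hWφ _⟩ := ⟨_, rfl⟩
  refine ⟨a, ha, by rw [← Nat.card_congr e.toEquiv, hWcard], e X, e Y, e ⟨⟨z, hzH⟩, hWz⟩, ?_, ?_, ?_, ?_, ?_⟩
  · rw [MulEquiv.orderOf_eq, hX, ← Subgroup.orderOf_coe, orderOf_injective φ hφi, ← hc, Prod.orderOf,
      orderOf_one, Nat.lcm_one_right, ← Subgroup.orderOf_coe]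
  · rw [← map_mul, ← map_mul, hX, hY]
    congr 1
    refine Subtype.ext ?_
    show φ _ * φ _ = φ _ * φ _
    rw [← map_mul, ← map_mul, mul_comm]
  · rw [eq_bot_iff]
    rintro g ⟨⟨i, hi⟩, ⟨j, hj⟩⟩
    have h : e (X ^ i) = e (Y ^ j) := by rw [map_zpow, map_zpow]; exact hi.trans hj.symm
    have h2 := congrArg Subtype.val (e.injective h)
    rw [hX, hY, Subgroup.coe_zpow, Subgroup.coe_zpow, ← map_zpow, ← map_zpow] at h2
    have h3 := congrArg Prod.fst (hφi h2)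
    simp at h3
    have h4 : X ^ i = 1 := by
      refine Subtype.ext ?_
      rw [hX, Subgroup.coe_zpow, ← map_zpow]
      show φ _ = (1 : ↥H)
      rw [Prod.pow_mk, h3, _root_.one_zpow, Prod.mk_one_one, map_one]
    rw [Subgroup.mem_bot, ← hi]
    show e X ^ i = 1
    rw [← map_zpow, h4, map_one]
  · rw [MulEquiv.orderOf_eq, ← Subgroup.orderOf_coe]
    refine orderOf_eq_prime (by rw [pow_two]; exact hzz) fun h => ?_
    have h' := congrArg (fun g : ↥H => ((g : GL (Fin 2) F) : Matrix (Fin 2) (Fin 2) F) 0 1) h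
    simp [hzc] at h'
  · rw [← map_inv, ← map_mul, ← map_mul, hX, hY]
    congr 1
    refine Subtype.ext ?_
    exact hτ _

theorem sd_case' {q : ℕ} (hF : Fintype.card F = q ^ 2) (h1 : q % 4 = 1) (h5 : 5 ≤ q)
    (P : Sylow 2 ↥(Cfsg.preserving (Units.coeHom (Matrix (Fin 2) (Fin 2) F)) (Cfsg.hermForm 2 F q))) :
    Cfsg.IsQuasiDihedral (P : Subgroup ↥(Cfsg.preserving (Units.coeHom (Matrix (Fin 2) (Fin 2) F)) (Cfsg.hermForm 2 F q))) := by
  classical
  haveI : Fact (Nat.Prime 2) := ⟨Nat.prime_two⟩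
  obtain ⟨b, o, ho, hqo⟩ := Nat.exists_eq_pow_mul_and_not_dvd (n := q - 1) (by omega) 2 (by omega)
  have hb : 2 ≤ b := by
    by_contra h
    interval_cases b <;> omega
  have hq2 : q ^ 2 - 1 = (q + 1) * (q - 1) := by simpa using Nat.sq_sub_sq q 1
  obtain ⟨s, hs⟩ : ∃ s, q + 1 = 2 * s := ⟨(q + 1) / 2, by omega⟩
  have hh2 : (2 : F) ≠ 0 := by
    intro h
    have h' : ((2 : ℕ) : F) = 0 := by exact_mod_cast h
    obtain ⟨k, hp, hk⟩ := FiniteField.card F (ringChar F)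
    have hd : ringChar F ∣ 2 := (ringChar.spec F 2).1 h'
    have := (Nat.prime_dvd_prime_iff_eq hp Nat.prime_two).1 hd
    rw [this, hF] at hk
    have : 2 ∣ q := Nat.prime_two.dvd_of_dvd_pow (hk ▸ dvd_pow_self 2 k.ne_zero)
    omega
  obtain ⟨c, hc⟩ := exists_order (F := F) (k := 2 ^ (b + 1)) (by
    rw [hF, hq2, hs, hqo, pow_succ]; exact ⟨s * o, by ring⟩) (by positivity)
  obtain ⟨hadd, hqq⟩ := q_hom hF
  have hc2 : c ^ 2 ^ b = -1 := by
    have hne : c ^ 2 ^ b ≠ 1 := fun h => by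
      have := Nat.le_of_dvd (Nat.two_pow_pos b) (orderOf_dvd_of_pow_eq_one h)
      rw [hc, pow_succ] at this
      have := Nat.two_pow_pos b
      omega
    have hsq : (c ^ 2 ^ b) ^ 2 = 1 := by rw [← pow_mul, ← pow_succ, ← hc, pow_orderOf_eq_one]
    rcases sq_eq_one_iff.1 (show ((c ^ 2 ^ b : Fˣ) : F) ^ 2 = 1 by rw [← Units.val_pow_eq_pow_val, hsq]; rfl) with h | h
    · exact absurd (Units.ext h) hne
    · exact Units.ext (by rw [h]; simp)
  have hcq : c⁻¹ ^ q = c ^ (2 ^ b - 1) := by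
    have hqd : q = 2 ^ b * o + 1 := by omega
    have ho' : Odd o := Nat.odd_iff.2 (by omega)
    rw [inv_pow, hqd, pow_succ, pow_mul, hc2, ho'.neg_one_pow, neg_one_mul]
    refine inv_eq_of_mul_eq_one_right ?_
    rw [neg_mul, ← pow_succ', Nat.sub_add_cancel (Nat.one_le_two_pow), hc2, neg_neg]
  obtain ⟨μ, hμ⟩ : ∃ μ : F, μ * μ ^ q = -1 := by
    obtain ⟨g, hg⟩ := exists_order (F := F) (k := 2 * (q + 1)) (by
      rw [hF, hq2, hqo, show b = b - 1 + 1 by omega, pow_succ]; exact ⟨2 ^ (b - 1) * o, by ring⟩) (by omega)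
    refine ⟨g, ?_⟩
    rw [← pow_succ']
    have hsq : ((g : F) ^ (q + 1)) ^ 2 = 1 := by
      rw [← pow_mul, mul_comm (q + 1), ← hg, ← Units.val_pow_eq_pow_val, pow_orderOf_eq_one, Units.val_one]
    refine (sq_eq_one_iff.1 hsq).resolve_left fun h => ?_
    have := Nat.le_of_dvd (by omega) (orderOf_dvd_of_pow_eq_one (x := g) (n := q + 1)
      (Units.ext (by rw [Units.val_pow_eq_pow_val, h]; rfl)))
    omega
  have hμ0 : μ ≠ 0 := fun h => by simp [h] at hμ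
  let Mm : Fˣ × Fˣ →* Matrix (Fin 2) (Fin 2) F :=
    { toFun := fun p => !![((p.1 : F) + p.2) / 2, ((p.1 : F) - p.2) / (2 * μ); μ * ((p.1 : F) - p.2) / 2, ((p.1 : F) + p.2) / 2]
      map_one' := by ext i j; fin_cases i <;> fin_cases j <;> simp <;> field_simp <;> norm_num
      map_mul' := fun p p' => by
        ext i j; fin_cases i <;> fin_cases j <;> simp [Matrix.mul_apply, Fin.sum_univ_two] <;> field_simp <;> ring }
  let Mu : Fˣ × Fˣ →* GL (Fin 2) F := Mm.toHomUnits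
  have hMu : ∀ r s : Fˣ, ((Mu (r, s) : GL (Fin 2) F) : Matrix (Fin 2) (Fin 2) F) =
      !![((r : F) + s) / 2, ((r : F) - s) / (2 * μ); μ * ((r : F) - s) / 2, ((r : F) + s) / 2] := fun r s => rfl
  let U := Subgroup.zpowers c
  have hUcard : Nat.card U = 2 ^ (b + 1) := by rw [Nat.card_zpowers, hc]
  let φ0 : U →* GL (Fin 2) F := MonoidHom.mk' (fun r => Mu ((r : Fˣ), ((r : Fˣ)⁻¹) ^ q)) (fun r r' => by
    rw [← map_mul, Prod.mk_mul_mk, Subgroup.coe_mul, mul_inv, mul_pow])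
  have hq0 : q ≠ 0 := by omega
  let H := Cfsg.preserving (Units.coeHom (Matrix (Fin 2) (Fin 2) F)) (Cfsg.hermForm 2 F q)
  obtain ⟨hμq, h2q⟩ : μ ^ q = -μ⁻¹ ∧ (2 : F) ^ q = 2 := by
    refine ⟨by field_simp; linear_combination hμ, ?_⟩
    rw [show (2 : F) = 1 + 1 by norm_num, hadd, one_pow]
  have hφH : ∀ r, φ0 r ∈ H := fun r => by
    obtain ⟨u, hu⟩ : ∃ u : F, u = ((r : Fˣ) : F) := ⟨_, rfl⟩
    obtain ⟨v, hv⟩ : ∃ v : F, v = ((((r : Fˣ)⁻¹) ^ q : Fˣ) : F) := ⟨_, rfl⟩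
    have hv' : v = u⁻¹ ^ q := by rw [hv, hu, Units.val_pow_eq_pow_val, Units.val_inv_eq_inv_val]
    have hu0 : u ≠ 0 := by rw [hu]; exact Units.ne_zero _
    have e1 : v * u ^ q = 1 := by rw [hv', ← mul_pow, inv_mul_cancel₀ hu0, one_pow]
    have e2 : u * v ^ q = 1 := by rw [hv', hqq, mul_inv_cancel₀ hu0]
    have hneg : ∀ x : F, (-x) ^ q = -x ^ q := fun x => by
      have : Odd q := Nat.odd_iff.2 (by omega)
      exact this.neg_pow x
    have hsub : (u - v) ^ q = u ^ q - v ^ q := by rw [sub_eq_add_neg, hadd, hneg, sub_eq_add_neg]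
    refine mem_of_cols hF (φ0 r) (a := (u + v) / 2) (b := (u - v) / (2 * μ)) (c := μ * (u - v) / 2) (d := (u + v) / 2)
      (by rw [hu, hv]; exact hMu _ _) ?_ ?_ ?_ ?_ <;>
      simp only [div_pow, mul_pow, hadd, hsub, h2q, hμq] <;> field_simp
    · linear_combination 2 * e1 + 2 * e2
    · linear_combination 2 * e1 + 2 * e2
    · linear_combination (2 * μ) * e2 + (-2 * μ) * e1
    · linear_combination (2 : F) * e2 + (-2 : F) * e1
  let φ : U →* ↥H := φ0.codRestrict H hφH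
  have hentry : ∀ r : U, ((φ0 r : GL (Fin 2) F) : Matrix (Fin 2) (Fin 2) F) =
      !![(((r : Fˣ) : F) + ((((r : Fˣ)⁻¹) ^ q : Fˣ) : F)) / 2, (((r : Fˣ) : F) - ((((r : Fˣ)⁻¹) ^ q : Fˣ) : F)) / (2 * μ);
        μ * (((r : Fˣ) : F) - ((((r : Fˣ)⁻¹) ^ q : Fˣ) : F)) / 2, (((r : Fˣ) : F) + ((((r : Fˣ)⁻¹) ^ q : Fˣ) : F)) / 2] :=
    fun r => rfl
  have hφi : Function.Injective φ := fun r r' h => by
    have h' := congrArg (fun g : ↥H => ((g : GL (Fin 2) F) : Matrix (Fin 2) (Fin 2) F)) h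
    change ((φ0 r : GL (Fin 2) F) : Matrix (Fin 2) (Fin 2) F) = ((φ0 r' : GL (Fin 2) F) : Matrix (Fin 2) (Fin 2) F) at h'
    rw [hentry, hentry] at h'
    have e00 := congrFun (congrFun h' 0) 0
    have e10 := congrFun (congrFun h' 1) 0
    simp only [Matrix.of_apply, Matrix.cons_val_zero, Matrix.cons_val_one, Matrix.cons_val'] at e00 e10
    have a1 := (div_left_inj' hh2).1 e00
    have a2 := mul_left_cancel₀ hμ0 ((div_left_inj' hh2).1 e10)
    refine Subtype.ext (Units.ext (mul_left_cancel₀ hh2 ?_))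
    linear_combination a1 + a2
  obtain ⟨w, hw⟩ : ∃ w : GL (Fin 2) F, (w : Matrix (Fin 2) (Fin 2) F) = !![1, 0; 0, -1] :=
    ⟨Matrix.GeneralLinearGroup.mkOfDetNeZero !![1, 0; 0, -1] (by simp [Matrix.det_fin_two]), rfl⟩
  have hwH : w ∈ H := mem_of_cols hF w hw (by simp [zero_pow hq0])
    (by simp [zero_pow hq0, (Nat.odd_iff.2 (by omega : q % 2 = 1)).neg_one_pow]) (by simp [zero_pow hq0]) (by simp [zero_pow hq0])
  have hww : (⟨w, hwH⟩ : ↥H) * ⟨w, hwH⟩ = 1 := Subtype.ext (Units.ext (by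
    show (w : Matrix (Fin 2) (Fin 2) F) * (w : Matrix (Fin 2) (Fin 2) F) = 1
    rw [hw]; ext i j; fin_cases i <;> fin_cases j <;> simp))
  have hτ : ∀ r : U, (⟨w, hwH⟩ : ↥H) * φ r * (⟨w, hwH⟩ : ↥H)⁻¹ = φ (r ^ (2 ^ b - 1)) := fun r => by
    rw [mul_inv_eq_iff_eq_mul]
    refine Subtype.ext (Units.ext ?_)
    show (w : Matrix (Fin 2) (Fin 2) F) * ((φ0 r : GL (Fin 2) F) : Matrix (Fin 2) (Fin 2) F) =
      ((φ0 (r ^ (2 ^ b - 1)) : GL (Fin 2) F) : Matrix (Fin 2) (Fin 2) F) * (w : Matrix (Fin 2) (Fin 2) F)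
    obtain ⟨i, hi⟩ := Subgroup.mem_zpowers_iff.1 r.2
    have e1 : ((r : Fˣ)⁻¹) ^ q = ((r ^ (2 ^ b - 1) : U) : Fˣ) := by
      rw [Subgroup.coe_pow, ← hi, ← _root_.inv_zpow]
      calc (c⁻¹ ^ i) ^ q = (c⁻¹ ^ q) ^ i := by
            rw [← zpow_natCast (c⁻¹ ^ i), ← zpow_natCast c⁻¹ q, ← _root_.zpow_mul, ← _root_.zpow_mul, mul_comm]
        _ = _ := by
            rw [hcq, ← zpow_natCast c, ← zpow_natCast (c ^ i), ← _root_.zpow_mul, ← _root_.zpow_mul, mul_comm]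
    have e2 : (((r ^ (2 ^ b - 1) : U) : Fˣ)⁻¹) ^ q = (r : Fˣ) := by
      rw [← e1]
      refine Units.ext ?_
      simp only [Units.val_pow_eq_pow_val, Units.val_inv_eq_inv_val, inv_pow, inv_inv]
      exact hqq _
    rw [hentry, hentry, hw, e2, ← e1]
    ext i j; fin_cases i <;> fin_cases j <;> simp [Matrix.mul_apply, Fin.sum_univ_two] <;> ring
  obtain ⟨W, hWc, hWφ, hWw, -⟩ := semidirect φ hφi ⟨w, hwH⟩ hww (fun r e => by
    have h := congrArg (fun g : ↥H => ((g : GL (Fin 2) F) : Matrix (Fin 2) (Fin 2) F)) e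
    change ((φ0 r : GL (Fin 2) F) : Matrix (Fin 2) (Fin 2) F) = (w : Matrix (Fin 2) (Fin 2) F) at h
    rw [hentry, hw] at h
    have e00 := congrFun (congrFun h 0) 0
    have e11 := congrFun (congrFun h 1) 1
    simp at e00 e11
    exact hh2 (by linear_combination e11 - e00)) _ hτ
  have hWcard : Nat.card W = 2 ^ (b + 2) := by rw [hWc, hUcard, ← pow_succ']
  have hG : ∃ o', Odd o' ∧ Nat.card ↥H = 2 ^ (b + 2) * o' := by
    refine ⟨q * (s * s * o), ?_, ?_⟩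
    · have h1 : Odd q := Nat.odd_iff.2 (by omega)
      have h2 : Odd s := Nat.odd_iff.2 (by omega)
      have h3 : Odd o := Nat.odd_iff.2 (by omega)
      exact h1.mul ((h2.mul h2).mul h3)
    · rw [card_GU2 hF, hq2, hs, hqo, pow_succ, pow_succ]
      ring
  obtain ⟨-, ⟨e⟩⟩ := Cfsg.Agent.S1217.two_part hG W (IsPGroup.of_card hWcard)
    (by rw [hWcard]; exact Nat.pow_lt_pow_right one_lt_two (by omega)) P (by omega)
  have hcU : c ∈ U := Subgroup.mem_zpowers c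
  refine ⟨b + 1, by omega, by rw [← Nat.card_congr e.toEquiv, hWcard], e ⟨φ ⟨c, hcU⟩, hWφ _⟩, e ⟨⟨w, hwH⟩, hWw⟩, ?_, ?_, ?_⟩
  · rw [MulEquiv.orderOf_eq, ← Subgroup.orderOf_coe, orderOf_injective φ hφi, ← hc, ← Subgroup.orderOf_coe]
  · rw [MulEquiv.orderOf_eq, ← Subgroup.orderOf_coe]
    refine orderOf_eq_prime (by rw [pow_two]; exact hww) fun h => ?_
    have h' := congrArg (fun g : ↥H => ((g : GL (Fin 2) F) : Matrix (Fin 2) (Fin 2) F) 1 1) h
    simp [hw] at h'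
    exact hh2 (by linear_combination -h')
  · rw [← map_inv, ← map_mul, ← map_mul, ← map_pow, Nat.add_sub_cancel]
    congr 1
    refine Subtype.ext ?_
    show _ = ((⟨φ ⟨c, hcU⟩, hWφ _⟩ : ↥W) ^ (2 ^ b - 1) : ↥W).1
    rw [Subgroup.coe_pow, ← map_pow]
    exact hτ _

/-- Let F be a finite field with q² elements, q odd, let GU be the subgroup of GL(2,F) preserving the Hermitian form u₁v₁^q + u₂v₂^q, and P a Sylow 2-subgroup of GU. If q ≡ 1 (mod 4) then P is quasi-dihedral; if q ≡ 3 (mod 4) then P is wreathed. -/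
theorem result {F : Type*} [Field F] [Fintype F] (q : ℕ) (hF : Fintype.card F = q ^ 2) (hq : Odd q) (P : Sylow 2 ↥(Cfsg.preserving (Units.coeHom (Matrix (Fin 2) (Fin 2) F)) (Cfsg.hermForm 2 F q))) : (q % 4 = 1 → Cfsg.IsQuasiDihedral (P : Subgroup ↥(Cfsg.preserving (Units.coeHom (Matrix (Fin 2) (Fin 2) F)) (Cfsg.hermForm 2 F q)))) ∧ (q % 4 = 3 → Cfsg.IsWreathed (P : Subgroup ↥(Cfsg.preserving (Units.coeHom (Matrix (Fin 2) (Fin 2) F)) (Cfsg.hermForm 2 F q)))) := by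
    refine ⟨fun h1 => ?_, fun h3 => wreathed_case hF h3 P⟩
    have h5 : 5 ≤ q := by
      have hc := Fintype.one_lt_card (α := F)
      rw [hF] at hc
      by_contra h
      interval_cases q <;> omega
    exact sd_case' hF h1 h5 P

end Cfsg.Agent.S1218
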