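import Cfsg.Statements.S1219
import Mathlib.GroupTheory.SpecificGroups.Cyclic
import Mathlib.LinearAlgebra.Matrix.ProjectiveSpecialLinearGroup
import Mathlib.Tactic

set_option autoImplicit false
open scoped MatrixGroups
open Cfsg

namespace Cfsg.Agent.S1219

open Matrix

theorem diag_form {F : Type*} [Field F] (h2 : (2 : F) ≠ 0) (T : Matrix (Fin 3) (Fin 3) F) (hT : T * T = 1) (hdet : T.det = 1)
    (hne : T ≠ 1) : ∃ g : GL (Fin 3) F, T * (g : Matrix (Fin 3) (Fin 3) F) = (g : Matrix (Fin 3) (Fin 3) F) * diagonal ![1, -1, -1] := by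
  classical
  set s : Set (Fin 3 → F) := {v | T *ᵥ v = v ∨ T *ᵥ v = -v}
  obtain ⟨b, hbs, hspan, hli⟩ := exists_linearIndependent F s
  have htop : Submodule.span F b = ⊤ := by
    rw [hspan, eq_top_iff]
    intro v _
    have hTT : T *ᵥ (T *ᵥ v) = v := by rw [mulVec_mulVec, hT, one_mulVec]
    have h1 : (2 : F)⁻¹ • (v + T *ᵥ v) ∈ s := Or.inl (by rw [mulVec_smul, mulVec_add, hTT, add_comm])
    have h3 : (2 : F)⁻¹ • (v - T *ᵥ v) ∈ s := Or.inr (by rw [mulVec_smul, mulVec_sub, hTT, ← smul_neg, neg_sub])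
    have e : v = (2 : F)⁻¹ • (v + T *ᵥ v) + (2 : F)⁻¹ • (v - T *ᵥ v) := by
      rw [← smul_add, show v + T *ᵥ v + (v - T *ᵥ v) = (2 : F) • v by rw [two_smul]; abel, smul_smul, inv_mul_cancel₀ h2, one_smul]
    rw [e]
    exact add_mem (Submodule.subset_span h1) (Submodule.subset_span h3)
  let B : Module.Basis b F (Fin 3 → F) := Module.Basis.mk hli (by rw [Subtype.range_coe, htop])
  haveI : Finite b := Module.Finite.finite_basis B
  have hcard : Nat.card b = 3 := by
    rw [← Module.finrank_eq_nat_card_basis B, Module.finrank_fin_fun]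
  have build : ∀ e : Fin 3 ≃ b, ∃ (g : GL (Fin 3) F) (ε : Fin 3 → F),
      (∀ j, T *ᵥ (e j : Fin 3 → F) = ε j • (e j : Fin 3 → F)) ∧ (∀ j, ε j = 1 ∨ ε j = -1) ∧
      T * (g : Matrix (Fin 3) (Fin 3) F) = (g : Matrix (Fin 3) (Fin 3) F) * diagonal ε ∧
      ε 0 * ε 1 * ε 2 = 1 := by
    intro e
    set M : Matrix (Fin 3) (Fin 3) F := Matrix.of fun i j => (e j : Fin 3 → F) i with hM
    have hu : IsUnit M := linearIndependent_cols_iff_isUnit.1 (hli.comp e e.injective)
    let ε : Fin 3 → F := fun j => if T *ᵥ (e j : Fin 3 → F) = (e j : Fin 3 → F) then 1 else -1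
    have hev : ∀ j, T *ᵥ (e j : Fin 3 → F) = ε j • (e j : Fin 3 → F) := by
      intro j
      by_cases h : T *ᵥ (e j : Fin 3 → F) = (e j : Fin 3 → F)
      · simp [ε, h]
      · simp [ε, if_neg h, (hbs (e j).2).resolve_left h]
    have hTM : T * M = M * diagonal ε := by
      ext i j
      rw [Matrix.mul_diagonal]
      have := congrFun (hev j) i
      simp only [Matrix.mulVec, dotProduct, Pi.smul_apply, smul_eq_mul] at this
      simpa [Matrix.mul_apply, hM, mul_comm (ε j)] using this
    refine ⟨hu.unit, ε, hev, fun j => by by_cases h : T *ᵥ (e j : Fin 3 → F) = (e j : Fin 3 → F) <;> simp [ε, h], by simpa using hTM, ?_⟩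
    have h := congrArg Matrix.det hTM
    rw [det_mul, det_mul, hdet, one_mul, det_diagonal, Fin.prod_univ_three] at h
    exact (mul_eq_left₀ ((Matrix.isUnit_iff_isUnit_det M).1 hu).ne_zero).1 h.symm
  obtain ⟨g, ε, hev, hpm, hTg, hprod⟩ := build (Finite.equivFinOfCardEq hcard).symm
  have hne' : ¬ (ε 0 = 1 ∧ ε 1 = 1 ∧ ε 2 = 1) := by
    rintro ⟨a, c, d⟩
    apply hne
    have e : ε = fun _ => 1 := by ext j; fin_cases j <;> assumption
    rw [e, diagonal_one, mul_one] at hTg
    exact (Units.mul_left_inj g).1 (hTg.trans (one_mul _).symm)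
  obtain ⟨j₀, hj₀⟩ : ∃ j₀, ε j₀ = 1 := by
    by_contra h
    push Not at h
    have h' := fun j => (hpm j).resolve_left (h j)
    rw [h' 0, h' 1, h' 2] at hprod
    exact h2 (by linear_combination -hprod)
  obtain ⟨g', ε', hev', hpm', hTg', hprod'⟩ := build ((Equiv.swap 0 j₀).trans (Finite.equivFinOfCardEq hcard).symm)
  have hεε : ∀ j, ε' j = ε (Equiv.swap 0 j₀ j) := by
    intro j
    have hv : ((Finite.equivFinOfCardEq hcard).symm (Equiv.swap 0 j₀ j) : Fin 3 → F) ≠ 0 := hli.ne_zero _
    exact smul_left_injective F hv ((hev' j).symm.trans (hev _))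
  have h0 : ε' 0 = 1 := by rw [hεε, Equiv.swap_apply_left, hj₀]
  rw [h0, one_mul] at hprod'
  have hall : ¬ (ε' 1 = 1 ∧ ε' 2 = 1) := by
    rintro ⟨a, c⟩
    apply hne'
    have : ∀ j, ε j = 1 := fun j => by
      have := hεε (Equiv.swap 0 j₀ j)
      rw [Equiv.swap_apply_self] at this
      rw [← this]
      generalize Equiv.swap 0 j₀ j = k
      fin_cases k <;> assumption
    exact ⟨this 0, this 1, this 2⟩
  refine ⟨g', ?_⟩
  rw [hTg']
  congr 2
  ext j
  rcases hpm' 1 with a | a <;> rcases hpm' 2 with c | c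
  · exact absurd ⟨a, c⟩ hall
  · exfalso; rw [a, c] at hprod'; exact h2 (by linear_combination -hprod')
  · exfalso; rw [a, c] at hprod'; exact h2 (by linear_combination -hprod')
  · fin_cases j <;> simp [h0, a, c]

/-- The block embedding. -/
def blk {F : Type*} [Field F] : GL (Fin 2) F →* SpecialLinearGroup (Fin 3) F :=
  MonoidHom.mk' (fun A => ⟨!![((A : Matrix (Fin 2) (Fin 2) F).det)⁻¹, 0, 0;
      0, (A : Matrix (Fin 2) (Fin 2) F) 0 0, (A : Matrix (Fin 2) (Fin 2) F) 0 1;
      0, (A : Matrix (Fin 2) (Fin 2) F) 1 0, (A : Matrix (Fin 2) (Fin 2) F) 1 1], by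
    have h := Matrix.GeneralLinearGroup.det_ne_zero A
    rw [det_fin_three]
    simp [det_fin_two] at h ⊢
    field_simp⟩)
    (fun A B => Subtype.ext (by
      show _ = (!![((A : Matrix (Fin 2) (Fin 2) F).det)⁻¹, 0, 0;
          0, (A : Matrix (Fin 2) (Fin 2) F) 0 0, (A : Matrix (Fin 2) (Fin 2) F) 0 1;
          0, (A : Matrix (Fin 2) (Fin 2) F) 1 0, (A : Matrix (Fin 2) (Fin 2) F) 1 1] : Matrix (Fin 3) (Fin 3) F) *
        (!![((B : Matrix (Fin 2) (Fin 2) F).det)⁻¹, 0, 0;
          0, (B : Matrix (Fin 2) (Fin 2) F) 0 0, (B : Matrix (Fin 2) (Fin 2) F) 0 1;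
          0, (B : Matrix (Fin 2) (Fin 2) F) 1 0, (B : Matrix (Fin 2) (Fin 2) F) 1 1] : Matrix (Fin 3) (Fin 3) F)
      ext i j; fin_cases i <;> fin_cases j <;> simp [Matrix.mul_apply, Fin.sum_univ_three, Fin.sum_univ_two, mul_comm]))

theorem coe_blk {F : Type*} [Field F] (A : GL (Fin 2) F) : (blk A : Matrix (Fin 3) (Fin 3) F) =
    !![((A : Matrix (Fin 2) (Fin 2) F).det)⁻¹, 0, 0;
      0, (A : Matrix (Fin 2) (Fin 2) F) 0 0, (A : Matrix (Fin 2) (Fin 2) F) 0 1;
      0, (A : Matrix (Fin 2) (Fin 2) F) 1 0, (A : Matrix (Fin 2) (Fin 2) F) 1 1] := rfl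

/-- Let F be a finite field of odd order q and t an involution of PSL(3,F). Then C(t) is isomorphic to the quotient of GL(2,F) by a central subgroup of order gcd(q−1, 3). -/
theorem result {F : Type*} [Field F] [Fintype F] (hF : Odd (Fintype.card F)) (t : Matrix.ProjectiveSpecialLinearGroup (Fin 3) F) (ht : orderOf t = 2) : ∃ (Z : Subgroup (GL (Fin 2) F)) (_ : Z.Normal), Z ≤ Subgroup.center (GL (Fin 2) F) ∧ Nat.card Z = Nat.gcd (Fintype.card F - 1) 3 ∧ Nonempty (↥(Subgroup.centralizer ({t} : Set (Matrix.ProjectiveSpecialLinearGroup (Fin 3) F))) ≃* GL (Fin 2) F ⧸ Z) := by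
    classical
    have hchar : (2 : F) ≠ 0 := Ring.two_ne_zero fun h => by
      have := FiniteField.even_card_iff_char_two.1 h
      rw [← Nat.not_even_iff_odd, Nat.even_iff] at hF
      exact hF this
    obtain ⟨T₀, rfl⟩ := QuotientGroup.mk_surjective t
    have hsq : T₀ * T₀ ∈ Subgroup.center (SpecialLinearGroup (Fin 3) F) := by
      rw [← QuotientGroup.eq_one_iff, QuotientGroup.mk_mul, ← pow_two, ← ht, pow_orderOf_eq_one]
    obtain ⟨l, hl3, hl⟩ := SpecialLinearGroup.mem_center_iff.1 hsq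
    rw [Fintype.card_fin] at hl3
    let L : SpecialLinearGroup (Fin 3) F := ⟨Matrix.scalar (Fin 3) l, by simp [hl3]⟩
    have hLc : L ∈ Subgroup.center (SpecialLinearGroup (Fin 3) F) :=
      SpecialLinearGroup.mem_center_iff.2 ⟨l, by rw [Fintype.card_fin, hl3], rfl⟩
    set T := L * T₀ with hTdef
    have hTmk : (QuotientGroup.mk T : ProjectiveSpecialLinearGroup (Fin 3) F) = QuotientGroup.mk T₀ := by
      rw [hTdef, QuotientGroup.mk_mul, (QuotientGroup.eq_one_iff _).2 hLc, one_mul]
    have hTT : (T : Matrix (Fin 3) (Fin 3) F) * T = 1 := by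
      have e : T * T = L * L * (T₀ * T₀) := by
        rw [hTdef, mul_assoc, ← mul_assoc T₀, Subgroup.mem_center_iff.1 hLc T₀]; group
      rw [← SpecialLinearGroup.coe_mul, e, SpecialLinearGroup.coe_mul, SpecialLinearGroup.coe_mul, ← hl]
      show Matrix.scalar (Fin 3) l * Matrix.scalar (Fin 3) l * Matrix.scalar (Fin 3) l = 1
      rw [← map_mul, ← map_mul, show l * l * l = 1 by rw [← hl3]; ring, map_one]
    have hT1 : (T : Matrix (Fin 3) (Fin 3) F) ≠ 1 := fun h => by
      have h1 : T = 1 := Subtype.ext h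
      rw [← hTmk, h1, QuotientGroup.mk_one, orderOf_one] at ht
      omega
    obtain ⟨g, hg⟩ := diag_form hchar _ hTT T.2 hT1
    set gm : Matrix (Fin 3) (Fin 3) F := (g : Matrix (Fin 3) (Fin 3) F) with hgm
    set gi : Matrix (Fin 3) (Fin 3) F := ((g⁻¹ : GL (Fin 3) F) : Matrix (Fin 3) (Fin 3) F) with hgi
    have hgg : gm * gi = 1 := g.mul_inv
    have hgg' : gi * gm = 1 := g.inv_mul
    have hgdet : gm.det * gi.det = 1 := by rw [← det_mul, hgg, det_one]
    let φ : SpecialLinearGroup (Fin 3) F →* SpecialLinearGroup (Fin 3) F :=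
      MonoidHom.mk' (fun M => ⟨gm * M * gi, by rw [det_mul, det_mul, M.2, mul_one, hgdet]⟩) (fun M N => Subtype.ext (by
        show gm * ((M * N : SpecialLinearGroup (Fin 3) F) : Matrix (Fin 3) (Fin 3) F) * gi = gm * M * gi * (gm * N * gi)
        rw [SpecialLinearGroup.coe_mul, show gm * (M : Matrix (Fin 3) (Fin 3) F) * gi * (gm * N * gi) = gm * M * (gi * gm) * N * gi by
          simp only [Matrix.mul_assoc], hgg']
        simp only [Matrix.mul_one, Matrix.mul_assoc]))
    set D : Matrix (Fin 3) (Fin 3) F := diagonal ![1, -1, -1] with hD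
    have hTD : (T : Matrix (Fin 3) (Fin 3) F) = gm * D * gi := by rw [← hg, Matrix.mul_assoc, hgg, Matrix.mul_one]
    have hmem : ∀ A : GL (Fin 2) F, (QuotientGroup.mk (φ (blk A)) : ProjectiveSpecialLinearGroup (Fin 3) F) ∈
        Subgroup.centralizer ({(QuotientGroup.mk T₀ : ProjectiveSpecialLinearGroup (Fin 3) F)} : Set (ProjectiveSpecialLinearGroup (Fin 3) F)) := by
      intro A
      rw [Subgroup.mem_centralizer_singleton_iff, ← hTmk, ← QuotientGroup.mk_mul, ← QuotientGroup.mk_mul]
      congr 1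
      apply Subtype.ext
      show gm * (blk A : Matrix (Fin 3) (Fin 3) F) * gi * (T : Matrix (Fin 3) (Fin 3) F) =
        (T : Matrix (Fin 3) (Fin 3) F) * (gm * (blk A : Matrix (Fin 3) (Fin 3) F) * gi)
      rw [hTD]
      have hc : (blk A : Matrix (Fin 3) (Fin 3) F) * D = D * (blk A : Matrix (Fin 3) (Fin 3) F) := by
        ext i j; fin_cases i <;> fin_cases j <;> simp [coe_blk, hD, Matrix.mul_apply, Fin.sum_univ_three]
      calc gm * (blk A : Matrix (Fin 3) (Fin 3) F) * gi * (gm * D * gi)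
          = gm * ((blk A : Matrix (Fin 3) (Fin 3) F) * (gi * gm) * D) * gi := by simp only [Matrix.mul_assoc]
        _ = gm * (D * (gi * gm) * (blk A : Matrix (Fin 3) (Fin 3) F)) * gi := by rw [hgg', Matrix.mul_one, Matrix.mul_one, hc]
        _ = _ := by simp only [Matrix.mul_assoc]
    let ψ := (((QuotientGroup.mk' (Subgroup.center (SpecialLinearGroup (Fin 3) F))).comp φ).comp blk).codRestrict
      (Subgroup.centralizer ({(QuotientGroup.mk T₀ : ProjectiveSpecialLinearGroup (Fin 3) F)} : Set (ProjectiveSpecialLinearGroup (Fin 3) F))) hmem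
    have hsurj : Function.Surjective ψ := by
      rintro ⟨y, hy⟩
      obtain ⟨Y, rfl⟩ := QuotientGroup.mk_surjective y
      rw [Subgroup.mem_centralizer_singleton_iff, ← hTmk, ← QuotientGroup.mk_mul, ← QuotientGroup.mk_mul, QuotientGroup.eq] at hy
      obtain ⟨z, hz3, hz⟩ := SpecialLinearGroup.mem_center_iff.1 hy
      rw [Fintype.card_fin] at hz3
      have hYT : (T : Matrix (Fin 3) (Fin 3) F) * Y = z • ((Y : Matrix (Fin 3) (Fin 3) F) * T) := by
        have e : T * Y = (Y * T) * ((Y * T)⁻¹ * (T * Y)) := by group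
        have e' := congrArg (fun M : SpecialLinearGroup (Fin 3) F => (M : Matrix (Fin 3) (Fin 3) F)) e
        simp only [SpecialLinearGroup.coe_mul] at e' hz
        rw [← hz] at e'
        rw [e', Matrix.scalar_apply, ← Matrix.smul_one_eq_diagonal, Matrix.mul_smul, Matrix.mul_one]
      have hz2 : z * z = 1 := by
        have h := congrArg (fun M => (T : Matrix (Fin 3) (Fin 3) F) * M) hYT
        simp only [← Matrix.mul_assoc, hTT, Matrix.one_mul, Matrix.mul_smul] at h
        rw [hYT, Matrix.smul_mul, Matrix.mul_assoc, hTT, Matrix.mul_one, smul_smul] at h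
        have hne : (Y : Matrix (Fin 3) (Fin 3) F) ≠ 0 := fun e0 => by
          have := Y.2; rw [e0, Matrix.det_zero] at this; exact zero_ne_one this
        by_contra hne'
        exact hne (smul_eq_zero.1 (show ((z * z) - 1) • (Y : Matrix (Fin 3) (Fin 3) F) = 0 by
          rw [sub_smul, one_smul, ← h, sub_self]) |>.resolve_left (sub_ne_zero.2 hne'))
      have hz1 : z = 1 := by linear_combination hz3 - z * hz2
      rw [hz1, one_smul] at hYT
      set X : Matrix (Fin 3) (Fin 3) F := gi * Y * gm with hX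
      have hXD : X * D = D * X := by
        have h1 : gm * (D * X) * gi = gm * (X * D) * gi := by
          calc gm * (D * X) * gi = (gm * D * gi) * Y * (gm * gi) := by rw [hX]; simp only [Matrix.mul_assoc]
            _ = (gm * gi) * Y * (gm * D * gi) := by rw [hgg, Matrix.mul_one, Matrix.one_mul, ← hTD, hYT]
            _ = gm * (X * D) * gi := by rw [hX]; simp only [Matrix.mul_assoc]
        have h2' := congrArg (fun M => gi * M * gm) h1
        rw [show ∀ M, gi * (gm * M * gi) * gm = (gi * gm) * M * (gi * gm) from fun M => by simp only [Matrix.mul_assoc],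
          show gi * (gm * (X * D) * gi) * gm = (gi * gm) * (X * D) * (gi * gm) by simp only [Matrix.mul_assoc], hgg',
          Matrix.one_mul, Matrix.mul_one, Matrix.one_mul, Matrix.mul_one] at h2'
        exact h2'.symm
      have hoff : X 0 1 = 0 ∧ X 0 2 = 0 ∧ X 1 0 = 0 ∧ X 2 0 = 0 := by
        have e := fun i j => congrFun (congrFun hXD i) j
        have e1 := e 0 1; have e2 := e 0 2; have e3 := e 1 0; have e4 := e 2 0
        simp [hD, Matrix.mul_apply, Fin.sum_univ_three] at e1 e2 e3 e4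
        refine ⟨?_, ?_, ?_, ?_⟩
        · exact (mul_eq_zero.1 (show (2 : F) * X 0 1 = 0 by linear_combination -e1)).resolve_left hchar
        · exact (mul_eq_zero.1 (show (2 : F) * X 0 2 = 0 by linear_combination -e2)).resolve_left hchar
        · exact (mul_eq_zero.1 (show (2 : F) * X 1 0 = 0 by linear_combination e3)).resolve_left hchar
        · exact (mul_eq_zero.1 (show (2 : F) * X 2 0 = 0 by linear_combination e4)).resolve_left hchar
      obtain ⟨h01, h02, h10, h20⟩ := hoff
      have hXdet : X 0 0 * (X 1 1 * X 2 2 - X 1 2 * X 2 1) = 1 := by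
        have h := det_fin_three X
        rw [hX, det_mul, det_mul, Y.2, mul_one, ← det_mul, hgg', det_one, ← hX, h01, h02, h10, h20] at h
        linear_combination -h
      refine ⟨Matrix.GeneralLinearGroup.mkOfDetNeZero !![X 1 1, X 1 2; X 2 1, X 2 2] (by
        rw [det_fin_two_of]; exact right_ne_zero_of_mul (hXdet ▸ one_ne_zero)), Subtype.ext ?_⟩
      show QuotientGroup.mk (φ (blk _)) = QuotientGroup.mk Y
      congr 1
      apply Subtype.ext
      show gm * ((blk _ : SpecialLinearGroup (Fin 3) F) : Matrix (Fin 3) (Fin 3) F) * gi = Y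
      have hb : (blk (Matrix.GeneralLinearGroup.mkOfDetNeZero !![X 1 1, X 1 2; X 2 1, X 2 2] (by
        rw [det_fin_two_of]; exact right_ne_zero_of_mul (hXdet ▸ one_ne_zero))) : Matrix (Fin 3) (Fin 3) F) = X := by
        ext i j; fin_cases i <;> fin_cases j <;>
          simp [coe_blk, Matrix.GeneralLinearGroup.mkOfDetNeZero, h01, h02, h10, h20, det_fin_two, inv_eq_of_mul_eq_one_left hXdet]
      rw [hb, hX]
      calc gm * (gi * Y * gm) * gi = (gm * gi) * Y * (gm * gi) := by simp only [Matrix.mul_assoc]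
        _ = _ := by rw [hgg, Matrix.one_mul, Matrix.mul_one]
    have hker : ∀ A : GL (Fin 2) F, A ∈ ψ.ker ↔ ∃ r : F, r ^ 3 = 1 ∧ (A : Matrix (Fin 2) (Fin 2) F) = r • 1 := by
      intro A
      have h1 : A ∈ ψ.ker ↔ φ (blk A) ∈ Subgroup.center (SpecialLinearGroup (Fin 3) F) := by
        rw [MonoidHom.mem_ker, ← QuotientGroup.eq_one_iff]
        exact ⟨fun h => congrArg Subtype.val h, fun h => Subtype.ext h⟩
      rw [h1, SpecialLinearGroup.mem_center_iff]
      constructor
      · rintro ⟨r, hr, h⟩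
        rw [Fintype.card_fin] at hr
        refine ⟨r, hr, ?_⟩
        have hb : (blk A : Matrix (Fin 3) (Fin 3) F) = r • 1 := by
          have h' : gm * (blk A : Matrix (Fin 3) (Fin 3) F) * gi = r • 1 := by
            rw [Matrix.smul_one_eq_diagonal]; exact h.symm
          calc (blk A : Matrix (Fin 3) (Fin 3) F) = (gi * gm) * (blk A : Matrix (Fin 3) (Fin 3) F) * (gi * gm) := by
                rw [hgg', Matrix.one_mul, Matrix.mul_one]
            _ = gi * (gm * (blk A : Matrix (Fin 3) (Fin 3) F) * gi) * gm := by simp only [Matrix.mul_assoc]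
            _ = r • 1 := by rw [h', Matrix.mul_smul, Matrix.mul_one, Matrix.smul_mul, hgg']
        have e := fun i j => congrFun (congrFun hb i) j
        have e11 := e 1 1; have e12 := e 1 2; have e21 := e 2 1; have e22 := e 2 2
        simp [coe_blk] at e11 e12 e21 e22
        ext i j; fin_cases i <;> fin_cases j <;> simp [e11, e12, e21, e22]
      · rintro ⟨r, hr, h⟩
        refine ⟨r, by rw [Fintype.card_fin, hr], ?_⟩
        show Matrix.scalar (Fin 3) r = gm * (blk A : Matrix (Fin 3) (Fin 3) F) * gi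
        have hr0 : r ≠ 0 := fun e0 => by rw [e0] at hr; simp at hr
        have hb : (blk A : Matrix (Fin 3) (Fin 3) F) = r • 1 := by
          have hd : ((A : Matrix (Fin 2) (Fin 2) F).det)⁻¹ = r := by
            rw [h]; simp; field_simp; linear_combination -hr
          ext i j; fin_cases i <;> fin_cases j <;> simp [coe_blk, hd]
          all_goals simp [h]
        rw [hb, Matrix.mul_smul, Matrix.mul_one, Matrix.smul_mul, hgg, Matrix.scalar_apply, Matrix.smul_one_eq_diagonal]
    refine ⟨ψ.ker, inferInstance, ?_, ?_, ⟨(QuotientGroup.quotientKerEquivOfSurjective ψ hsurj).symm⟩⟩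
    · intro A hA
      obtain ⟨r, -, h⟩ := (hker A).1 hA
      exact Subgroup.mem_center_iff.2 fun B => Units.ext (by
        rw [Units.val_mul, Units.val_mul, h, Matrix.mul_smul, Matrix.smul_mul, Matrix.mul_one, Matrix.one_mul])
    · have hc := IsCyclic.card_powMonoidHom_ker (G := Fˣ) 3
      rw [Nat.card_units, Nat.card_eq_fintype_card (α := F)] at hc
      rw [← hc]
      symm
      refine Nat.card_eq_of_bijective (fun u => (⟨Units.map (Matrix.scalar (Fin 2)).toMonoidHom u.1, (hker _).2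
        ⟨((u.1 : Fˣ) : F), by have h : u.1 ^ 3 = 1 := u.2; simpa [Units.ext_iff] using h, by simp [Matrix.smul_one_eq_diagonal]⟩⟩ : ψ.ker)) ⟨?_, ?_⟩
      · intro u v e
        have h := congrFun (congrFun (congrArg (fun a : ψ.ker => ((a : GL (Fin 2) F) : Matrix (Fin 2) (Fin 2) F)) e) 0) 0
        exact Subtype.ext (Units.ext (by simpa using h))
      · rintro ⟨A, hA⟩
        obtain ⟨r, hr, h⟩ := (hker A).1 hA
        refine ⟨⟨Units.mk0 r (fun e0 => by rw [e0] at hr; simp at hr), Units.ext hr⟩, Subtype.ext (Units.ext ?_)⟩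
        show Matrix.scalar (Fin 2) r = (A : Matrix (Fin 2) (Fin 2) F)
        rw [h, Matrix.smul_one_eq_diagonal]; rfl

end Cfsg.Agent.S1219
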