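import Cfsg.Statements.S1225
import Cfsg.Agent.Inv.SECount

set_option autoImplicit false
open Cfsg

namespace Cfsg.Agent.S1225

/-- Let H be a strongly embedded subgroup of the finite group G, u an involution outside H and D = H ∩ uHu⁻¹. Then any two involutions of H are conjugate by an element of D, and any two involutions of G are conjugate in G. -/
theorem result {G : Type*} [Group G] [Finite G] (H : Subgroup G) (hH : Cfsg.IsStronglyEmbedded H) (u : G) (hu : orderOf u = 2) (huH : u ∉ H) (s t : G) (hs : orderOf s = 2) (hsH : s ∈ H) (ht : orderOf t = 2) (htH : t ∈ H) : (∃ d ∈ (H ⊓ H.map (MulAut.conj u).toMonoidHom), d * s * d⁻¹ = t) ∧ ∀ a b : G, orderOf a = 2 → orderOf b = 2 → IsConj a b := by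
  open CfsgLib.Inv in
  exact (by
    set x : G ⧸ H := ((1 : G) : G ⧸ H) with hx
    have hfix : ∀ g : G, g ∈ H ↔ g • x = x := fun g => by rw [hx, fixed_coset_iff]; simp
    have hux : u • x ≠ x := fun h => huH ((hfix u).2 h)
    obtain ⟨d, hd1, hd2, hd3⟩ := se_transitive hH (fun h => hux h.symm) hu rfl hs ((hfix s).1 hsH) ht ((hfix t).1 htH)
    refine ⟨⟨d, Subgroup.mem_inf.2 ⟨(hfix d).2 hd1, mem_conj_map.2 ((hfix _).2 ?_)⟩, hd3⟩, ?_⟩
    · rw [← smul_smul, ← smul_smul, hd2, inv_smul_smul]
    · have key : ∀ a : G, orderOf a = 2 → IsConj s a ∨ IsConj u a := by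
        intro a ha
        by_cases h : a • x = x
        · obtain ⟨d', -, -, hd'⟩ := se_transitive hH (fun h => hux h.symm) hu rfl hs ((hfix s).1 hsH) ha h
          exact Or.inl (isConj_iff.2 ⟨d', hd'⟩)
        · obtain ⟨k, -, hk⟩ := se_conj_of_fix_ne hH hs ha ((hfix s).1 hsH) h
          exact Or.inl (isConj_iff.2 ⟨k, hk⟩)
      obtain ⟨k, -, hk⟩ := se_conj_of_fix_ne hH hs hu ((hfix s).1 hsH) hux
      have hall : ∀ a : G, orderOf a = 2 → IsConj s a := fun a ha => (key a ha).elim id fun h =>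
        (isConj_iff.2 ⟨k, hk⟩).trans h
      exact fun a b ha hb => (hall a ha).symm.trans (hall b hb))

end Cfsg.Agent.S1225
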