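import Cfsg.Statements.S1226
import Cfsg.Agent.Inv.StronglyEmbedded

set_option autoImplicit false
open Cfsg

namespace Cfsg.Agent.S1226

/-- Let G be a finite group with a Sylow 2-subgroup T that is neither cyclic nor normal, such that the centralizer of every involution is an elementary abelian 2-group. Then N_G(T) is a strongly embedded subgroup of G. -/
theorem result {G : Type*} [Group G] [Finite G] (T : Sylow 2 G) (hnc : ¬ IsCyclic (T : Subgroup G)) (hnn : ¬ (T : Subgroup G).Normal) (hC : ∀ t : G, orderOf t = 2 → IsMulCommutative (Subgroup.centralizer ({t} : Set G)) ∧ ∀ c ∈ Subgroup.centralizer ({t} : Set G), c ^ 2 = 1) : Cfsg.IsStronglyEmbedded (Subgroup.normalizer ((T : Subgroup G) : Set G)) := by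
  haveI : Fact (Nat.Prime 2) := ⟨Nat.prime_two⟩
  have hCp : ∀ t : G, orderOf t = 2 → IsPGroup 2 ↥(Subgroup.centralizer ({t} : Set G)) := fun t ht c =>
    ⟨1, Subtype.ext (by simpa using (hC t ht).2 c c.2)⟩
  have hT1 : (T : Subgroup G) ≠ ⊥ := fun h => hnc (by rw [h]; infer_instance)
  haveI : Nontrivial (T : Subgroup G) := (Subgroup.nontrivial_iff_ne_bot _).2 hT1
  haveI := T.isPGroup'.center_nontrivial
  obtain ⟨z, hz⟩ : ∃ z : Subgroup.center (T : Subgroup G), orderOf z = 2 := by
    refine exists_prime_orderOf_dvd_card' 2 ?_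
    obtain ⟨j, hj, hj1⟩ := (T.isPGroup'.to_subgroup (Subgroup.center (T : Subgroup G))).nontrivial_iff_card.1 inferInstance
    exact hj1 ▸ dvd_pow_self 2 hj.ne'
  have hz2 : orderOf ((z : (T : Subgroup G)) : G) = 2 := by
    rw [Subgroup.orderOf_coe, Subgroup.orderOf_coe, hz]
  have hTCz : (T : Subgroup G) ≤ Subgroup.centralizer ({((z : (T : Subgroup G)) : G)} : Set G) := fun x hx =>
    Subgroup.mem_centralizer_singleton_iff.2 (congrArg Subtype.val (Subgroup.mem_center_iff.1 z.2 ⟨x, hx⟩))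
  have hTab : ∀ x ∈ (T : Subgroup G), ∀ y ∈ (T : Subgroup G), x * y = y * x := fun x hx y hy =>
    congrArg Subtype.val ((hC _ hz2).1.is_comm.comm ⟨x, hTCz hx⟩ ⟨y, hTCz hy⟩)
  have hCT : ∀ t ∈ (T : Subgroup G), orderOf t = 2 → Subgroup.centralizer ({t} : Set G) = T := fun t ht ht2 =>
    T.3 (hCp t ht2) fun x hx => Subgroup.mem_centralizer_singleton_iff.2 (hTab x hx t ht)
  rw [CfsgLib.Inv.se_iff_invol]
  refine ⟨fun h => hnn (Subgroup.normalizer_eq_top_iff.1 h), ?_, ?_⟩
  · have h := orderOf_dvd_natCard (⟨_, Subgroup.le_normalizer ((z : (T : Subgroup G)).2)⟩ :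
      Subgroup.normalizer ((T : Subgroup G) : Set G))
    rw [Subgroup.orderOf_mk, hz2] at h
    exact even_iff_two_dvd.2 h
  · intro g t ht htH htg
    have hmemT : ∀ u : G, orderOf u = 2 → u ∈ Subgroup.normalizer ((T : Subgroup G) : Set G) → u ∈ (T : Subgroup G) := by
      intro u hu hun
      have hp : IsPGroup 2 ↥(Subgroup.zpowers u) := IsPGroup.of_card (n := 1) (by rw [Nat.card_zpowers, hu, pow_one])
      have hm : u ∈ Subgroup.zpowers u ⊓ Subgroup.normalizer (T : Set G) := ⟨Subgroup.mem_zpowers u, hun⟩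
      rw [hp.inf_normalizer_sylow T] at hm
      exact hm.2
    have hs2 : orderOf (g⁻¹ * t * g) = 2 := by simpa using CfsgLib.Inv.invol_conj ht g⁻¹
    have h1 := hCT t (hmemT t ht htH) ht
    have h2 := hCT _ (hmemT _ hs2 htg) hs2
    rw [Subgroup.mem_normalizer_iff]
    intro x
    conv_lhs => rw [← h2]
    conv_rhs => rw [← h1]
    rw [Subgroup.mem_centralizer_singleton_iff, Subgroup.mem_centralizer_singleton_iff]
    constructor
    · intro hx
      calc g * x * g⁻¹ * t = g * (x * (g⁻¹ * t * g)) * g⁻¹ := by group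
        _ = _ := by rw [hx]; group
    · intro hx
      calc x * (g⁻¹ * t * g) = g⁻¹ * (g * x * g⁻¹ * t) * g := by group
        _ = _ := by rw [hx]; group

end Cfsg.Agent.S1226
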