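import Cfsg.Statements.S1227
import Cfsg.Agent.Inv.ElemCentralizer

set_option autoImplicit false
open Cfsg

namespace Cfsg.Agent.S1227

/-- Let G be a finite group with a Sylow 2-subgroup T that is neither cyclic nor normal, such that the centralizer of every involution is an elementary abelian 2-group; put H = N_G(T), let u be an involution outside H and D = H ∩ uHu⁻¹. Then u inverts every element of D, |H| = |T|·(|T| − 1), and D is a complement to T in H. -/
theorem result {G : Type*} [Group G] [Finite G] (T : Sylow 2 G) (hnc : ¬ IsCyclic (T : Subgroup G)) (hnn : ¬ (T : Subgroup G).Normal) (hC : ∀ t : G, orderOf t = 2 → IsMulCommutative (Subgroup.centralizer ({t} : Set G)) ∧ ∀ c ∈ Subgroup.centralizer ({t} : Set G), c ^ 2 = 1) (u : G) (hu : orderOf u = 2) (huH : u ∉ Subgroup.normalizer ((T : Subgroup G) : Set G)) : (∀ d ∈ Subgroup.normalizer ((T : Subgroup G) : Set G) ⊓ (Subgroup.normalizer ((T : Subgroup G) : Set G)).map (MulAut.conj u).toMonoidHom, u * d * u⁻¹ = d⁻¹) ∧ Nat.card (Subgroup.normalizer ((T : Subgroup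 G) : Set G)) = Nat.card T * (Nat.card T - 1) ∧ Subgroup.IsComplement' ((Subgroup.normalizer ((T : Subgroup G) : Set G) ⊓ (Subgroup.normalizer ((T : Subgroup G) : Set G)).map (MulAut.conj u).toMonoidHom).subgroupOf (Subgroup.normalizer ((T : Subgroup G) : Set G))) ((T : Subgroup G).subgroupOf (Subgroup.normalizer ((T : Subgroup G) : Set G))) := by
    open CfsgLib.Inv CfsgLib.Inv.ElemCent in
    exact (by
      have hh : Hyp T := ⟨hnc, hnn, hC⟩
      have hy := smul_pt_ne (T := T) huH
      rw [inf_conj_eq_stab]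
      refine ⟨fun d hd => swap_inverts hh hy hu rfl hd, card_normalizer hh hy, ?_⟩
      refine Subgroup.isComplement'_of_disjoint_and_mul_eq_univ ?_ (Set.eq_univ_of_forall fun h => ?_)
      · rw [disjoint_iff, Subgroup.eq_bot_iff_forall]
        intro a ha
        exact Subtype.ext (stab_inf hh hy (Subgroup.mem_inf.1 ha).1 (Subgroup.mem_inf.1 ha).2)
      · obtain ⟨d, hd, t, ht, he⟩ := exists_decomp hh hy h.2
        exact ⟨⟨d, stab_le hd⟩, hd, ⟨t, Subgroup.le_normalizer ht⟩, ht, Subtype.ext he.symm⟩)

end Cfsg.Agent.S1227
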