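import Cfsg.Statements.S1231
import Cfsg.Agent.Solv.MinNonNilp
import Cfsg.Agent.Solv.CoprimeSylow

set_option autoImplicit false
open Cfsg

namespace Cfsg.Agent.S1231

theorem rank_mono {p k : ℕ} {A B : Type*} [Group A] [Group B] [Finite B] (f : A →* B) (hf : Function.Injective f)
    (h : Cfsg.PRankLE p k B) : Cfsg.PRankLE p k A := by
  intro E hE hexp
  haveI := hE
  refine (Nat.card_congr (Subgroup.equivMapOfInjective E f hf).toEquiv).le.trans (h _ ⟨⟨?_⟩⟩ ?_)
  · rintro ⟨a, u, hu, rfl⟩ ⟨b, v, hv, rfl⟩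
    apply Subtype.ext
    show f u * f v = f v * f u
    rw [← map_mul, ← map_mul]
    exact congrArg f (congrArg Subtype.val (hE.is_comm.comm (⟨u, hu⟩ : E) ⟨v, hv⟩))
  · rintro _ ⟨u, hu, rfl⟩
    rw [← map_pow, hexp u hu, map_one]

theorem rank_le_of_le {G : Type*} [Group G] [Finite G] {p k : ℕ} {A B : Subgroup G} (hAB : A ≤ B)
    (h : ¬ Cfsg.PRankLE p k A) : ¬ Cfsg.PRankLE p k B :=
  fun hB => h (rank_mono (Subgroup.inclusion hAB) (Subgroup.inclusion_injective hAB) hB)

open CfsgLib.Solv in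
open scoped Pointwise in
theorem rank_conj {G : Type*} [Group G] [Finite G] {p k : ℕ} (x : G) {A : Subgroup G}
    (h : ¬ Cfsg.PRankLE p k A) : ¬ Cfsg.PRankLE p k ↥(MulAut.conj x • A : Subgroup G) :=
  fun hB => h (rank_mono (Subgroup.equivSMul (MulAut.conj x) A).toMonoidHom
    (Subgroup.equivSMul (MulAut.conj x) A).injective hB)

open CfsgLib.Solv in
open scoped Pointwise in
theorem normalizer_smul {G : Type*} [Group G] (x : G) (A : Subgroup G) {y : G} :
    y ∈ Subgroup.normalizer ((MulAut.conj x • A : Subgroup G) : Set G) ↔ x⁻¹ * y * x ∈ Subgroup.normalizer (A : Set G) := by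
  simp only [Subgroup.mem_normalizer_iff, mem_conj_smul_iff]
  constructor
  · intro h a
    have := h (x * a * x⁻¹)
    simpa [mul_assoc] using this
  · intro h a
    have := h (x⁻¹ * a * x)
    simpa [mul_assoc] using this

open CfsgLib.Solv in
open scoped Pointwise in
theorem conj_key {G : Type*} [Group G] [Finite G] {p : ℕ} [Fact p.Prime] {k : ℕ} {H : Subgroup G}
    (P : Sylow p ↥H)
    (hN : ∀ X : Subgroup G, X ≤ (P : Subgroup ↥H).map H.subtype → ¬ Cfsg.PRankLE p k ↥X →
      Subgroup.normalizer (X : Set G) ≤ H) :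
    ∀ n : ℕ, ∀ E : Subgroup G, E ≤ (P : Subgroup ↥H).map H.subtype →
      Nat.card ((P : Subgroup ↥H).map H.subtype : Subgroup G) - Nat.card E = n → ¬ Cfsg.PRankLE p k ↥E →
      ∀ x : G, MulAut.conj x • E ≤ H → x ∈ H := by
  intro n
  induction n using Nat.strong_induction_on with
  | _ n ih =>
  intro E hE hn hr x hx
  set P' := (P : Subgroup ↥H).map H.subtype with hP'
  have hPp : IsPGroup p P' := P.2.map _
  have hto : ∀ F : Subgroup G, F ≤ H → IsPGroup p F → ∃ h ∈ H, MulAut.conj h • F ≤ P' := by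
    intro F hFH hFp
    obtain ⟨T, hT⟩ := ((hFp.comap_of_injective H.subtype H.subtype_injective :
      IsPGroup p (F.subgroupOf H))).exists_le_sylow
    obtain ⟨h, hh⟩ := MulAction.exists_smul_eq H T P
    refine ⟨h, h.2, fun f hf => ?_⟩
    rw [mem_conj_smul_iff] at hf
    refine ⟨h * ⟨_, hFH hf⟩ * h⁻¹, ?_, by simp [mul_assoc]⟩
    rw [← hh, Sylow.coe_subgroup_smul, SetLike.mem_coe, mem_conj_smul_iff]
    have e : h⁻¹ * (h * (⟨_, hFH hf⟩ : H) * h⁻¹) * h = ⟨_, hFH hf⟩ := by group
    rw [e]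
    exact hT hf
  by_cases hEP : E = P'
  · subst hEP
    obtain ⟨h, hh, hle⟩ := hto _ hx (IsPGroup.of_equiv hPp (Subgroup.equivSMul (MulAut.conj x) P'))
    have he : MulAut.conj (h * x) • P' = P' := by
      rw [map_mul, mul_smul]
      exact Subgroup.eq_of_le_of_card_ge hle (by rw [card_conj_smul, card_conj_smul])
    have hmem : h * x ∈ Subgroup.normalizer (P' : Set G) := by
      rw [Subgroup.mem_normalizer_iff]
      intro a
      conv_rhs => rw [← he, mem_conj_smul_iff]
      simp [mul_assoc]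
    simpa using mul_mem (inv_mem hh) (hN P' le_rfl hr hmem)
  · obtain hlt := lt_normalizer_inf_of_nilpotent hPp.isNilpotent (lt_of_le_of_ne hE hEP)
    set R := Subgroup.normalizer (E : Set G) ⊓ P' with hR
    refine ih _ ?_ R inf_le_right rfl (rank_le_of_le hlt.le hr) x ?_
    · have h1 := Subgroup.card_le_of_le (inf_le_right : R ≤ P')
      have h2 : Nat.card E < Nat.card R :=
        lt_of_le_of_ne (Subgroup.card_le_of_le hlt.le) fun h => hlt.ne (Subgroup.eq_of_le_of_card_ge hlt.le h.ge)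
      have h3 : Nat.card R ≤ Nat.card P' := h1
      rw [← hn]
      show Nat.card P' - Nat.card R < _
      omega
    · obtain ⟨h, hh, hle⟩ := hto _ hx (IsPGroup.of_equiv (hPp.to_le hE) (Subgroup.equivSMul (MulAut.conj x) E))
      intro y hy
      rw [mem_conj_smul_iff] at hy
      have hy' : y ∈ Subgroup.normalizer ((MulAut.conj x • E : Subgroup G) : Set G) :=
        (normalizer_smul x E).2 (Subgroup.mem_inf.1 hy).1
      have hy2 : h * y * h⁻¹ ∈ Subgroup.normalizer ((MulAut.conj h • (MulAut.conj x • E) : Subgroup G) : Set G) := by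
        rw [normalizer_smul]
        simpa [mul_assoc] using hy'
      have := mul_mem (mul_mem (inv_mem hh) (hN _ hle (rank_conj h (rank_conj x hr)) hy2)) hh
      simpa [mul_assoc] using this

/-- Let H be a subgroup of the finite group G, p a prime, k ≥ 1, and P a Sylow p-subgroup of H whose p-rank is at least k. Then N_G(X) ≤ H for every subgroup X of P of p-rank at least k if and only if H ∩ gHg⁻¹ has p-rank less than k for every g ∉ H. -/
theorem result {G : Type*} [Group G] [Finite G] {p : ℕ} [Fact p.Prime] (k : ℕ) (hk : 1 ≤ k) (H : Subgroup G) (P : Sylow p ↥H) (hP : ¬ Cfsg.PRankLE p (k - 1) ↥(P : Subgroup ↥H)) : (∀ X : Subgroup G, X ≤ (P : Subgroup ↥H).map H.subtype → ¬ Cfsg.PRankLE p (k - 1) ↥X → Subgroup.normalizer (X : Set G) ≤ H) ↔ (∀ g : G, g ∉ H → Cfsg.PRankLE p (k - 1) ↥(H ⊓ H.map (MulAut.conj g).toMonoidHom)) := by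
  open CfsgLib.Solv in
  open scoped Pointwise in
  exact (by
    set P' := (P : Subgroup ↥H).map H.subtype with hP'
    constructor
    · intro hN g hg
      by_contra hr
      simp only [Cfsg.PRankLE, not_forall, not_le] at hr
      obtain ⟨A, hA, hexp, hcard⟩ := hr
      set A' := A.map (H ⊓ H.map (MulAut.conj g).toMonoidHom).subtype with hA'
      have hA'le : A' ≤ H ⊓ H.map (MulAut.conj g).toMonoidHom := Subgroup.map_subtype_le A
      have hAp : IsPGroup p A' := (IsPGroup.map (fun a => ⟨1, Subtype.ext (by rw [pow_one, SubmonoidClass.coe_pow]; exact hexp a a.2)⟩) _)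
      have hAr : ¬ Cfsg.PRankLE p (k - 1) ↥A' := by
        intro hr'
        have := rank_mono (((H ⊓ H.map (MulAut.conj g).toMonoidHom).subtype.comp A.subtype).codRestrict A'
          (fun a => ⟨a, a.2, rfl⟩)) (fun a b hab => Subtype.ext (Subtype.ext (congrArg Subtype.val hab :))) hr'
        have := this ⊤ (⟨⟨fun a b => Subtype.ext (hA.is_comm.comm a.1 b.1)⟩⟩)
          (fun a _ => Subtype.ext (by rw [SubmonoidClass.coe_pow]; exact hexp a a.2))
        rw [Subgroup.card_top] at this
        omega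
      obtain ⟨T, hT⟩ := ((hAp.comap_of_injective H.subtype H.subtype_injective :
        IsPGroup p (A'.subgroupOf H))).exists_le_sylow
      obtain ⟨h, hh⟩ := MulAction.exists_smul_eq H T P
      have hE : MulAut.conj (h : G) • A' ≤ P' := by
        intro f hf
        rw [mem_conj_smul_iff] at hf
        have hfH : (h : G)⁻¹ * f * h ∈ H := (Subgroup.mem_inf.1 (hA'le hf)).1
        refine ⟨h * ⟨_, hfH⟩ * h⁻¹, ?_, by simp [mul_assoc]⟩
        rw [← hh, Sylow.coe_subgroup_smul, SetLike.mem_coe, mem_conj_smul_iff]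
        have e : h⁻¹ * (h * (⟨_, hfH⟩ : H) * h⁻¹) * h = ⟨_, hfH⟩ := by group
        rw [e]
        exact hT hf
      refine hg ?_
      have hx := conj_key P (k := k - 1) hN _ _ hE rfl (rank_conj _ hAr) (g⁻¹ * (h : G)⁻¹) (by
        intro y hy
        rw [← mul_smul, ← map_mul, mem_conj_smul_iff] at hy
        have h2 : (g⁻¹ * (h : G)⁻¹ * h)⁻¹ * y * (g⁻¹ * (h : G)⁻¹ * h) = g * y * g⁻¹ := by group
        rw [h2] at hy
        have h3 := mem_map_conj_iff.1 (Subgroup.mem_inf.1 (hA'le hy)).2
        simpa [mul_assoc] using h3)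
      simpa using inv_mem (mul_mem hx h.2)
    · intro hR X hX hr x hx
      by_contra hxH
      refine rank_le_of_le (B := H ⊓ H.map (MulAut.conj x).toMonoidHom) ?_ hr (hR x hxH)
      intro a ha
      refine Subgroup.mem_inf.2 ⟨Subgroup.map_subtype_le _ (hX ha), mem_map_conj_iff.2 (Subgroup.map_subtype_le _ (hX ?_))⟩
      have := (Subgroup.mem_normalizer_iff.1 (inv_mem hx) a).1 ha
      simpa using this)

end Cfsg.Agent.S1231
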