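import Cfsg.Statements.S1236
import Cfsg.Agent.Inv.QDFusion

set_option autoImplicit false
open Cfsg

namespace Cfsg.Agent.S1236

theorem aux_four {Q : Type*} [Group Q] [Finite Q] {V : Subgroup Q} (hV : Nat.card V = 4) (hab : IsMulCommutative V)
    {u : Q} (hu : u ∈ V) (hc : Nat.card (Subgroup.centralizer ({u} : Set Q)) ≤ 4) :
    Subgroup.centralizer (V : Set Q) = V := by
  have h1 : V ≤ Subgroup.centralizer (V : Set Q) := fun a ha b hb =>
    congrArg Subtype.val (hab.is_comm.comm (⟨b, hb⟩ : V) ⟨a, ha⟩)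
  have h2 : Subgroup.centralizer (V : Set Q) ≤ Subgroup.centralizer ({u} : Set Q) :=
    Subgroup.centralizer_le (Set.singleton_subset_iff.2 hu)
  exact (Subgroup.eq_of_le_of_card_ge h1 (((Subgroup.card_le_of_le h2).trans hc).trans hV.ge)).symm

theorem aux_dihedral {m : ℕ} [NeZero m] {V : Subgroup (DihedralGroup m)} (hV : Nat.card V = 4)
    (hsq : ∀ g ∈ V, g * g = 1) :
    ∃ u ∈ V, Nat.card (Subgroup.centralizer ({u} : Set (DihedralGroup m))) ≤ 4 := by
  classical
  have key : ∀ j : ZMod m, j + j = 0 → j = 0 ∨ j = ((m / 2 : ℕ) : ZMod m) := by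
    intro j hj
    rcases (ZMod.neg_eq_self_iff j).1 (neg_eq_of_add_eq_zero_left hj) with h | h
    · exact Or.inl h
    · right
      rw [← ZMod.natCast_zmod_val j]
      congr 1
      omega
  by_cases hex : ∃ i, DihedralGroup.sr i ∈ V
  · obtain ⟨i, hi⟩ := hex
    refine ⟨_, hi, ?_⟩
    have hsub : (Subgroup.centralizer ({DihedralGroup.sr i} : Set (DihedralGroup m)) : Set (DihedralGroup m)) ⊆
        {DihedralGroup.r 0, DihedralGroup.r ((m / 2 : ℕ) : ZMod m), DihedralGroup.sr i,
          DihedralGroup.sr (i + ((m / 2 : ℕ) : ZMod m))} := by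
      intro g hg
      have h := Subgroup.mem_centralizer_singleton_iff.1 hg
      cases g with
      | r j =>
        rw [DihedralGroup.r_mul_sr, DihedralGroup.sr_mul_r, DihedralGroup.sr.injEq] at h
        rcases key j (by linear_combination -h) with rfl | rfl <;> simp
      | sr k =>
        rw [DihedralGroup.sr_mul_sr, DihedralGroup.sr_mul_sr, DihedralGroup.r.injEq] at h
        rcases key (k - i) (by linear_combination -h) with e | e
        · simp [sub_eq_zero.1 e]
        · simp [← e]
    have h := Set.ncard_le_ncard hsub (Set.toFinite _)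
    rw [← Nat.card_coe_set_eq] at h
    refine h.trans ((Set.ncard_insert_le _ _).trans (Nat.succ_le_succ ?_))
    exact (Set.ncard_insert_le _ _).trans (Nat.succ_le_succ
      ((Set.ncard_insert_le _ _).trans (by rw [Set.ncard_singleton])))
  · exfalso
    have hsub : (V : Set (DihedralGroup m)) ⊆ {DihedralGroup.r 0, DihedralGroup.r ((m / 2 : ℕ) : ZMod m)} := by
      intro g hg
      cases g with
      | r j =>
        have h := hsq _ hg
        rw [DihedralGroup.r_mul_r, DihedralGroup.one_def, DihedralGroup.r.injEq] at h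
        rcases key j h with rfl | rfl <;> simp
      | sr k => exact absurd ⟨k, hg⟩ hex
    have h := Set.ncard_le_ncard hsub (Set.toFinite _)
    rw [← Nat.card_coe_set_eq, show Nat.card ((V : Set (DihedralGroup m))) = 4 from hV] at h
    have h2 := h.trans ((Set.ncard_insert_le _ _).trans (by rw [Set.ncard_singleton]))
    omega

theorem aux_qd {Q : Type*} [Group Q] [Finite Q] {d : ℕ} (D : CfsgLib.Inv.QDData Q d) {V : Subgroup Q}
    (hV : Nat.card V = 4) (hsq : ∀ g ∈ V, g * g = 1) :
    ∃ u ∈ V, Nat.card (Subgroup.centralizer ({u} : Set Q)) ≤ 4 := by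
  classical
  by_cases hex : ∃ g ∈ V, g ≠ 1 ∧ g ≠ D.z
  · obtain ⟨g, hg, h1, hz⟩ := hex
    refine ⟨g, hg, ?_⟩
    rcases D.cases_order (CfsgLib.Inv.invol_iff.2 ⟨h1, hsq g hg⟩) with e | ⟨i, -, e⟩
    · exact absurd e hz
    subst e
    have hsub : (Subgroup.centralizer ({D.x ^ i * D.y} : Set Q) : Set Q) ⊆
        {1, D.z, D.x ^ i * D.y, D.z * (D.x ^ i * D.y)} := by
      intro w hw
      rcases D.mem_commute_out.1 (Subgroup.mem_centralizer_singleton_iff.1 hw) with e | e | e | e <;> simp [e]
    have h := Set.ncard_le_ncard hsub (Set.toFinite _)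
    rw [← Nat.card_coe_set_eq] at h
    refine h.trans ((Set.ncard_insert_le _ _).trans (Nat.succ_le_succ ?_))
    exact (Set.ncard_insert_le _ _).trans (Nat.succ_le_succ
      ((Set.ncard_insert_le _ _).trans (by rw [Set.ncard_singleton])))
  · exfalso
    have hsub : (V : Set Q) ⊆ {1, D.z} := by
      intro g hg
      by_contra h
      exact hex ⟨g, hg, fun e => h (by simp [e]), fun e => h (by simp [e])⟩
    have h := Set.ncard_le_ncard hsub (Set.toFinite _)
    rw [← Nat.card_coe_set_eq, show Nat.card ((V : Set Q)) = 4 from hV] at h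
    have h2 := h.trans ((Set.ncard_insert_le _ _).trans (by rw [Set.ncard_singleton]))
    omega

/-- Let R be a finite group, t a central involution of R such that R ⧸ ⟨t⟩ is dihedral (of order ≥ 4) or quasi-dihedral, and A ≤ R an elementary abelian subgroup of order 8 containing t. Then C_R(A) = A. -/
theorem result {R : Type*} [Group R] [Finite R] (t : R) (ht : orderOf t = 2) (htz : t ∈ Subgroup.center R) [(Subgroup.zpowers t).Normal] (hq : (∃ m : ℕ, 2 ≤ m ∧ Nonempty (R ⧸ Subgroup.zpowers t ≃* DihedralGroup m)) ∨ Cfsg.IsQuasiDihedral (R ⧸ Subgroup.zpowers t)) (A : Subgroup R) (hA : Cfsg.IsElementaryAbelian 2 A) (hA8 : Nat.card A = 8) (htA : t ∈ A) : Subgroup.centralizer (A : Set R) = A := by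
  set π := QuotientGroup.mk' (Subgroup.zpowers t)
  set V := A.map π
  have hab : ∀ a ∈ A, ∀ b ∈ A, a * b = b * a := fun a ha b hb =>
    congrArg Subtype.val (hA.1.is_comm.comm (⟨a, ha⟩ : A) ⟨b, hb⟩)
  have hcomap : V.comap π = A := by
    rw [Subgroup.comap_map_eq, QuotientGroup.ker_mk', sup_eq_left, Subgroup.zpowers_le]
    exact htA
  have hV : Nat.card V = 4 := by
    have h1 := Subgroup.card_mul_index A
    have h2 := Subgroup.card_mul_index V
    have h3 := Subgroup.card_eq_card_quotient_mul_card_subgroup (Subgroup.zpowers t)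
    have h4 : A.index = V.index := by
      rw [← hcomap, Subgroup.index_comap_of_surjective _ (QuotientGroup.mk'_surjective _)]
    rw [Nat.card_zpowers, ht, ← h1, ← h2, hA8, h4] at h3
    have : 0 < V.index := Nat.pos_of_ne_zero Subgroup.index_ne_zero_of_finite
    nlinarith
  have hsq : ∀ g ∈ V, g * g = 1 := by
    rintro _ ⟨a, ha, rfl⟩
    rw [← map_mul]
    have h : a ^ 2 = 1 := by
      exact hA.2 a ha
    rw [← pow_two, h, map_one]
  have hVab : IsMulCommutative V := ⟨⟨by
    rintro ⟨_, a, ha, rfl⟩ ⟨_, b, hb, rfl⟩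
    exact Subtype.ext (by simp only [Subgroup.coe_mul, ← map_mul, hab a ha b hb])⟩⟩
  have hcent : Subgroup.centralizer (V : Set _) = V := by
    rcases hq with ⟨m, hm, ⟨e⟩⟩ | hQ
    · haveI : NeZero m := ⟨by omega⟩
      obtain ⟨u, hu, hc⟩ := aux_dihedral (V := V.map e.toMonoidHom)
        (by rw [Subgroup.card_map_of_injective e.injective, hV]) (by
          rintro _ ⟨v, hv, rfl⟩
          rw [← map_mul, hsq v hv, map_one])
      obtain ⟨v, hv, rfl⟩ := hu
      refine aux_four hV hVab hv (le_trans (le_of_eq ?_) hc)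
      refine Nat.card_congr (e.toEquiv.subtypeEquiv fun w => ?_)
      simp only [SetLike.mem_coe, Subgroup.mem_centralizer_singleton_iff]
      constructor <;> intro h
      · show e w * e v = e v * e w
        rw [← map_mul, h, map_mul]
      · exact e.injective (by rw [map_mul, map_mul]; exact h)
    · obtain ⟨d, ⟨D⟩⟩ := CfsgLib.Inv.QDData.of_qd hQ
      obtain ⟨u, hu, hc⟩ := aux_qd D hV hsq
      exact aux_four hV hVab hu hc
  refine le_antisymm (fun c hc => ?_) fun a ha b hb => hab b hb a ha
  have h : π c ∈ V := hcent ▸ (by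
    rintro _ ⟨a, ha, rfl⟩
    rw [← map_mul, ← map_mul, hc a ha] : π c ∈ Subgroup.centralizer (V : Set _))
  rw [← hcomap]
  exact h

end Cfsg.Agent.S1236
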