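import Cfsg.Statements.S1239
import Cfsg.Agent.Inv.WreathClasses
import Cfsg.Agent.Inv.QuasiDihedral

set_option autoImplicit false
open Cfsg

namespace Cfsg.Agent.S1239

/-- Let X be a finite group whose Sylow 2-subgroup S is quasi-dihedral or wreathed, and suppose some involution of S is isolated in X. Then the product of the largest normal odd-order subgroup O(X) with the centre of S is normal in X. -/
theorem result {X : Type*} [Group X] [Finite X] (S : Sylow 2 X) (hS : Cfsg.IsQuasiDihedral (S : Subgroup X) ∨ Cfsg.IsWreathed (S : Subgroup X)) (z : X) (hzS : z ∈ S) (hz : Cfsg.IsIsolatedInvolution z) : (Cfsg.oddCore X ⊔ (Subgroup.center (S : Subgroup X)).map (S : Subgroup X).subtype).Normal := by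
  open CfsgLib.Inv in
  exact (by
    haveI : Fact (Nat.Prime 2) := ⟨Nat.prime_two⟩
    obtain ⟨hz2, hiso⟩ := hz
    have hzc : (⟨z, hzS⟩ : (S : Subgroup X)) ∈ Subgroup.center (S : Subgroup X) :=
      Subgroup.mem_center_iff.2 fun y => Subtype.ext (iso_commute (p := 2) hiso S.2 hzS y.2)
    refine sup_normal_of_fixed S (Subgroup.map_subtype_le _) ?_
    rintro _ ⟨u, hu, rfl⟩ g hg
    rcases hS with hQD | hW
    · obtain ⟨d, ⟨D⟩⟩ := QDData.of_qd hQD
      have hc : Subgroup.center (S : Subgroup X) = Subgroup.zpowers (⟨z, hzS⟩ : (S : Subgroup X)) :=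
        (Subgroup.eq_of_le_of_card_ge (Subgroup.zpowers_le.2 hzc)
          (by rw [Nat.card_zpowers, Subgroup.orderOf_mk, hz2, D.card_center])).symm
      rw [hc] at hu
      obtain ⟨i, rfl⟩ := Subgroup.mem_zpowers_iff.1 hu
      rcases Int.even_or_odd i with ⟨r, rfl⟩ | ⟨r, rfl⟩
      · have h1 : (⟨z, hzS⟩ : (S : Subgroup X)) ^ (r + r) = 1 := by
          rw [← orderOf_dvd_iff_zpow_eq_one, Subgroup.orderOf_mk, hz2]; exact ⟨r, by push_cast; ring⟩
        simp [h1]
      · have h1 : (⟨z, hzS⟩ : (S : Subgroup X)) ^ (2 * r + 1) = ⟨z, hzS⟩ := by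
          rw [zpow_add_one, (orderOf_dvd_iff_zpow_eq_one (x := (⟨z, hzS⟩ : (S : Subgroup X)))).1
            (by rw [Subgroup.orderOf_mk, hz2]; exact ⟨r, by push_cast; ring⟩), one_mul]
        simp only [h1, Subgroup.coe_subtype] at hg ⊢
        exact iso_eq (p := 2) hiso S.2 hzS hg
    · obtain ⟨m, ⟨D⟩⟩ := WData.of_wreathed hW
      have hzeq : (⟨z, hzS⟩ : (S : Subgroup X)) = D.zc := by
        obtain ⟨c, hc⟩ := D.mem_center_iff.1 hzc
        obtain ⟨h2, h1⟩ := WData.orderOf_two_iff.1
          ((Subgroup.orderOf_mk z hzS).trans hz2 : orderOf (⟨z, hzS⟩ : (S : Subgroup X)) = 2)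
        rw [hc] at h2 h1 ⊢
        rcases D.double_zero (D.el_invol.1 h2).1 with rfl | rfl
        · exact absurd D.el_zero h1
        · rfl
      have hU : ¬ FusU S D := fun h => by
        obtain ⟨a, ha⟩ := isConj_iff.1 (isConj_zc_wh S D h)
        have hzG : (D.zc : X) = z := (congrArg Subtype.val hzeq).symm
        have h3 := iso_eq (p := 2) hiso S.2 hzS (g := a) (by rw [← hzG, ha]; exact Subtype.mem _)
        rw [← hzG] at h3
        exact D.hh_ne (D.el_inj (Subtype.ext (ha.symm.trans h3))).2.symm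
      exact congrArg Subtype.val (central_fixed S D hU (v := ⟨_, hg⟩) (g := g) rfl hu))

end Cfsg.Agent.S1239
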