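import Cfsg.Statements.S1241
import Cfsg.Agent.Inv.Transfer

set_option autoImplicit false
open Cfsg

namespace Cfsg.Agent.S1241

/-- Let G be a finite group, p a prime, H a subgroup of index prime to p, K a subgroup of H normal in H with H/K commutative, and g ∈ H ∖ K an element of p-power order such that for all integers m and all a ∈ G with a g^m a⁻¹ ∈ H one has a g^m a⁻¹ ∈ g^m K. Then g ∉ G'. -/
theorem result {G : Type*} [Group G] [Finite G] {p : ℕ} [Fact p.Prime] (H K : Subgroup G) (hHK : K ≤ H) (hKn : (K.subgroupOf H).Normal) (hab : ∀ x ∈ H, ∀ y ∈ H, x * y * x⁻¹ * y⁻¹ ∈ K) (hidx : Nat.Coprime p H.index) (g : G) (hgH : g ∈ H) (hgK : g ∉ K) (hgp : ∃ k : ℕ, orderOf g = p ^ k) (hctrl : ∀ (m : ℤ) (a : G), a * g ^ m * a⁻¹ ∈ H → (a * g ^ m * a⁻¹) * (g ^ m)⁻¹ ∈ K) : g ∉ commutator G := by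
  intro hg'
  haveI := hKn
  letI : CommGroup (↥H ⧸ K.subgroupOf H) :=
    { (inferInstance : Group (↥H ⧸ K.subgroupOf H)) with
      mul_comm := fun a b => by
        obtain ⟨⟨a, ha⟩, rfl⟩ := QuotientGroup.mk_surjective a
        obtain ⟨⟨b, hb⟩, rfl⟩ := QuotientGroup.mk_surjective b
        have h : (⟨a, ha⟩ * ⟨b, hb⟩ * ⟨a, ha⟩⁻¹ * ⟨b, hb⟩⁻¹ : ↥H) ∈ K.subgroupOf H :=
          hab a ha b hb
        have h2 := (QuotientGroup.eq_one_iff _).2 h
        rw [QuotientGroup.mk_mul, QuotientGroup.mk_mul, QuotientGroup.mk_mul,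
          QuotientGroup.mk_inv, QuotientGroup.mk_inv, mul_inv_eq_one, mul_inv_eq_iff_eq_mul] at h2
        exact h2 }
  let ϕ : ↥H →* ↥H ⧸ K.subgroupOf H := QuotientGroup.mk' _
  have h1 : MonoidHom.transfer ϕ g = ϕ ⟨g, hgH⟩ ^ H.index := by
    refine CfsgLib.Inv.transfer_eq_pow_of_ctrl H ϕ hgH fun k g₀ h => ?_
    rw [← map_pow, ← mul_inv_eq_one, ← map_inv, ← map_mul]
    refine (QuotientGroup.eq_one_iff _).2 ?_
    show g₀⁻¹ * g ^ k * g₀ * (g ^ k)⁻¹ ∈ K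
    have := hctrl k g₀⁻¹ (by simpa using h)
    simpa using this
  rw [MonoidHom.mem_ker.1 (Abelianization.commutator_subset_ker (MonoidHom.transfer ϕ) hg')] at h1
  obtain ⟨k, hk⟩ := hgp
  have h2 : ϕ ⟨g, hgH⟩ = 1 := by
    rw [← orderOf_eq_one_iff]
    refine Nat.eq_one_of_dvd_coprimes (Nat.Coprime.pow_left k hidx) ?_ (orderOf_dvd_of_pow_eq_one h1.symm)
    rw [← hk, ← Subgroup.orderOf_mk g hgH]
    exact orderOf_map_dvd ϕ _
  exact hgK ((QuotientGroup.eq_one_iff (⟨g, hgH⟩ : ↥H)).1 h2)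

end Cfsg.Agent.S1241
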