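import Cfsg.Statements.S1243
import Mathlib.GroupTheory.Sylow

set_option autoImplicit false
open Cfsg

namespace Cfsg.Agent.S1243

/-- Let T be a Sylow p-subgroup of the finite group G and W ≤ T a subgroup weakly closed in T. If d and g d g⁻¹ both centralize W, then g d g⁻¹ = h d h⁻¹ for some h ∈ N_G(W). -/
theorem result {G : Type*} [Group G] [Finite G] {p : ℕ} [Fact p.Prime] (T : Sylow p G) (W : Subgroup G) (hW : Cfsg.IsWeaklyClosed W (T : Subgroup G)) (d g : G) (hd : d ∈ Subgroup.centralizer (W : Set G)) (hgd : g * d * g⁻¹ ∈ Subgroup.centralizer (W : Set G)) : ∃ h ∈ Subgroup.normalizer (W : Set G), h * d * h⁻¹ = g * d * g⁻¹ := by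
  have hWp : IsPGroup p W := T.isPGroup'.to_le hW.1
  set C := Subgroup.centralizer ({d} : Set G)
  have hWC : W ≤ C := fun w hw => Subgroup.mem_centralizer_singleton_iff.2 (Subgroup.mem_centralizer_iff.1 hd w hw)
  set V := W.map (MulAut.conj g⁻¹).toMonoidHom
  have hVC : V ≤ C := by
    rintro _ ⟨w, hw, rfl⟩
    have hcw := Subgroup.mem_centralizer_iff.1 hgd w hw
    rw [Subgroup.mem_centralizer_singleton_iff]
    show g⁻¹ * w * g⁻¹⁻¹ * d = d * (g⁻¹ * w * g⁻¹⁻¹)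
    calc g⁻¹ * w * g⁻¹⁻¹ * d = g⁻¹ * (w * (g * d * g⁻¹)) * g := by group
      _ = _ := by rw [hcw]; group
  obtain ⟨Q₁, hQ₁⟩ := (hWp.comap_of_injective C.subtype C.subtype_injective : IsPGroup p (W.subgroupOf C)).exists_le_sylow
  obtain ⟨Q₂, hQ₂⟩ := ((hWp.map _).comap_of_injective C.subtype C.subtype_injective : IsPGroup p (V.subgroupOf C)).exists_le_sylow
  obtain ⟨c, hc⟩ := MulAction.exists_smul_eq C Q₂ Q₁
  have hQG : IsPGroup p ((Q₁ : Subgroup C).map C.subtype) := Q₁.isPGroup'.map _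
  obtain ⟨R, hR⟩ := hQG.exists_le_sylow
  obtain ⟨h, rfl⟩ := MulAction.exists_smul_eq G T R
  have key : ∀ k : G, W.map (MulAut.conj k).toMonoidHom ≤ (h • T : Sylow p G) →
      W.map (MulAut.conj k).toMonoidHom = W.map (MulAut.conj h).toMonoidHom := by
    intro k hk
    have h1 : W.map (MulAut.conj (h⁻¹ * k)).toMonoidHom = W := by
      refine hW.2 _ ?_
      rintro _ ⟨a, ha, rfl⟩
      obtain ⟨t, ht, he⟩ := (hk ⟨a, ha, rfl⟩ : k * a * k⁻¹ ∈ (T : Subgroup G).map (MulAut.conj h).toMonoidHom)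
      have he' : h * t * h⁻¹ = k * a * k⁻¹ := he
      show h⁻¹ * k * a * (h⁻¹ * k)⁻¹ ∈ (T : Subgroup G)
      rw [show h⁻¹ * k * a * (h⁻¹ * k)⁻¹ = h⁻¹ * (k * a * k⁻¹) * h by group, ← he']
      rw [show h⁻¹ * (h * t * h⁻¹) * h = t by group]; exact ht
    conv_rhs => rw [← h1]
    rw [Subgroup.map_map]
    congr 1
    ext x; simp [mul_assoc]
  have e1 := key 1 (by
    rintro _ ⟨w, hw, rfl⟩
    exact hR ⟨⟨w, hWC hw⟩, hQ₁ hw, by simp⟩)
  have e2 := key ((c : G) * g⁻¹) (by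
    rintro _ ⟨w, hw, rfl⟩
    have hv : g⁻¹ * w * g ∈ V := ⟨w, hw, by simp⟩
    refine hR ⟨c * ⟨g⁻¹ * w * g, hVC hv⟩ * c⁻¹, ?_, ?_⟩
    · rw [← hc]
      exact ⟨⟨g⁻¹ * w * g, hVC hv⟩, hQ₂ hv, rfl⟩
    · simp [mul_assoc])
  have hN : W.map (MulAut.conj ((c : G) * g⁻¹)).toMonoidHom = W := by
    rw [e2, ← e1]; ext x; simp
  refine ⟨g * (c : G)⁻¹, ?_, ?_⟩
  · have hmem : (c : G) * g⁻¹ ∈ Subgroup.normalizer (W : Set G) := by
      rw [Subgroup.mem_normalizer_iff]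
      intro x
      constructor
      · intro hx; rw [← hN]; exact ⟨x, hx, rfl⟩
      · intro hx
        rw [← hN] at hx
        obtain ⟨y, hy, he⟩ := hx
        simp only [MulEquiv.coe_toMonoidHom, MulAut.conj_apply] at he
        rwa [← mul_left_cancel (mul_right_cancel he)]
    simpa using inv_mem hmem
  · have hcd : (c : G) * d = d * c := Subgroup.mem_centralizer_singleton_iff.1 c.2
    calc g * (c : G)⁻¹ * d * (g * (c : G)⁻¹)⁻¹ = g * (c : G)⁻¹ * (d * c) * g⁻¹ := by group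
      _ = g * d * g⁻¹ := by rw [← hcd]; group

end Cfsg.Agent.S1243
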