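import Cfsg.Statements.S1244
import Cfsg.Agent.S0090
import Cfsg.Agent.S0074
import Cfsg.Agent.Solv.Basic

set_option autoImplicit false
open Cfsg

namespace Cfsg.Agent.S1244

theorem exists_index_two {Q : Type*} [Group Q] [Finite Q] (hc : ∀ a b : Q, a * b = b * a) (h : 2 ∣ Nat.card Q) :
    ∃ M : Subgroup Q, M.index = 2 := by
  letI : CommGroup Q := { (inferInstance : Group Q) with mul_comm := hc }
  haveI : Fact (Nat.Prime 2) := ⟨Nat.prime_two⟩
  set R := (powMonoidHom 2 : Q →* Q).range with hR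
  have hRt : R ≠ ⊤ := by
    intro hR'
    have hs : Function.Surjective (powMonoidHom 2 : Q →* Q) := MonoidHom.range_eq_top.1 hR'
    obtain ⟨x, hx⟩ := exists_prime_orderOf_dvd_card' 2 h
    have h1 : (powMonoidHom 2 : Q →* Q) x = (powMonoidHom 2 : Q →* Q) 1 := by
      show x ^ 2 = 1 ^ 2
      rw [one_pow, ← hx, pow_orderOf_eq_one]
    rw [(Finite.injective_iff_surjective.2 hs) h1, orderOf_one] at hx
    omega
  obtain ⟨M, hM, hRM⟩ := (IsCoatomic.eq_top_or_exists_le_coatom R).resolve_left hRt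
  obtain ⟨a, -, ha⟩ := SetLike.exists_of_lt (lt_top_iff_ne_top.2 hM.1)
  refine ⟨M, Subgroup.index_eq_two_iff.2 ⟨a, fun b => ?_⟩⟩
  by_cases hb : b ∈ M
  · exact Or.inr ⟨hb, fun h => ha (by simpa using mul_mem (inv_mem hb) h)⟩
  refine Or.inl ⟨?_, hb⟩
  have ha2 : a * a ∈ M := hRM ⟨a, by show a ^ 2 = a * a; rw [pow_two]⟩
  have htop : M ⊔ Subgroup.zpowers a = ⊤ := hM.2 _ (left_lt_sup.2 fun h => ha (h (Subgroup.mem_zpowers a)))
  have hbm : b ∈ ((M ⊔ Subgroup.zpowers a : Subgroup Q) : Set Q) := by rw [htop]; trivial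
  rw [Subgroup.normal_mul] at hbm
  obtain ⟨m, hm, _, ⟨i, rfl⟩, rfl⟩ := hbm
  rcases Int.even_or_odd i with ⟨j, rfl⟩ | ⟨j, rfl⟩
  · refine absurd ?_ hb
    show m * a ^ (j + j) ∈ M
    rw [← two_mul, zpow_mul, zpow_two]
    exact mul_mem hm (zpow_mem ha2 j)
  · show m * a ^ (2 * j + 1) * a ∈ M
    rw [mul_assoc, ← zpow_add_one, show 2 * j + 1 + 1 = 2 * (j + 1) by ring, zpow_mul, zpow_two]
    exact mul_mem hm (zpow_mem ha2 _)

/-- Let G be a finite group with no subgroup of index 2 whose Sylow 2-subgroup S is commutative, and let R ≤ S be a subgroup whose 2-rank is exactly one less than the 2-rank r of S. Then every involution of S is conjugate, by an element of N_G(S), to an element of R. -/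
theorem result {G : Type*} [Group G] [Finite G] (hG : ∀ H : Subgroup G, H.index ≠ 2) (S : Sylow 2 G) (hS : IsMulCommutative (S : Subgroup G)) (r : ℕ) (hr1 : 1 ≤ r) (hSr : Cfsg.PRankLE 2 r (S : Subgroup G) ∧ ¬ Cfsg.PRankLE 2 (r - 1) (S : Subgroup G)) (R : Subgroup G) (hRS : R ≤ S) (hRr : Cfsg.PRankLE 2 (r - 1) R ∧ (r = 1 ∨ ¬ Cfsg.PRankLE 2 (r - 2) R)) (t : G) (ht : orderOf t = 2) (htS : t ∈ S) : ∃ n ∈ Subgroup.normalizer ((S : Subgroup G) : Set G), n * t * n⁻¹ ∈ R := by
  open scoped commutatorElement in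
  exact (by
    classical
    haveI : Fact (Nat.Prime 2) := ⟨Nat.prime_two⟩
    set N := Subgroup.normalizer ((S : Subgroup G) : Set G) with hN
    have hSN : (S : Subgroup G) ≤ N := Subgroup.le_normalizer
    -- `S` lies in the derived group
    have hidx : ¬ 2 ∣ (commutator G).index := by
      intro h2
      obtain ⟨M, hM⟩ := exists_index_two (Q := G ⧸ commutator G) (mul_comm (G := Abelianization G)) h2
      exact hG (M.comap (QuotientGroup.mk' (commutator G)))
        (by rw [M.index_comap_of_surjective (QuotientGroup.mk'_surjective _)]; exact hM)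
    have hSG : (S : Subgroup G) ≤ commutator G := by
      intro s hs
      obtain ⟨k, hk⟩ := IsPGroup.iff_orderOf.1 S.2 ⟨s, hs⟩
      rw [Subgroup.orderOf_mk] at hk
      rw [← QuotientGroup.eq_one_iff, ← orderOf_eq_one_iff]
      refine Nat.eq_one_of_dvd_coprimes (a := 2 ^ k) (b := (commutator G).index)
        (Nat.Coprime.pow_left k ((Nat.Prime.coprime_iff_not_dvd Nat.prime_two).2 hidx)) ?_ (orderOf_dvd_natCard _)
      rw [← hk]
      exact orderOf_map_dvd (QuotientGroup.mk' (commutator G)) s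
    -- the normalizer has no fixed points in `S`
    have hfix : ∀ z ∈ (S : Subgroup G), (∀ n ∈ N, n * z * n⁻¹ = z) → z = 1 := by
      intro z hz hzn
      have h1 : z ∈ ⁅N, N⁆ := by
        have h := Cfsg.Agent.S0074.result S hS
        have : z ∈ commutator G ⊓ (S : Subgroup G) := Subgroup.mem_inf.2 ⟨hSG hz, hz⟩
        rw [h] at this
        exact (Subgroup.mem_inf.1 this).1
      haveI : ((S : Subgroup G).subgroupOf N).Normal := Subgroup.normal_in_normalizer
      have hc : IsMulCommutative ((S : Subgroup G).subgroupOf N) :=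
        ⟨⟨fun a b => Subtype.ext (Subtype.ext (congrArg Subtype.val (hS.is_comm.comm (⟨_, a.2⟩ : (S : Subgroup G)) ⟨_, b.2⟩) :))⟩⟩
      have hHall : Nat.Coprime (Nat.card ((S : Subgroup G).subgroupOf N)) ((S : Subgroup G).subgroupOf N).index := by
        rw [Nat.card_congr (Subgroup.subgroupOfEquivOfLe hSN).toEquiv]
        obtain ⟨k, hk⟩ := IsPGroup.iff_card.1 S.2
        rw [hk]
        refine Nat.Coprime.pow_left k ((Nat.Prime.coprime_iff_not_dvd Nat.prime_two).2 fun h2 => S.not_dvd_index ?_)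
        rw [← Subgroup.relIndex_mul_index hSN]
        exact h2.mul_right _
      have h3 := (Cfsg.Agent.S0090.result ((S : Subgroup G).subgroupOf N) hc hHall).2.1
      have h4 : (⟨z, hSN hz⟩ : N) ∈ (commutator N ⊓ (S : Subgroup G).subgroupOf N) ⊓
          (Subgroup.center N ⊓ (S : Subgroup G).subgroupOf N) := by
        refine ⟨⟨?_, hz⟩, ⟨Subgroup.mem_center_iff.2 fun n => Subtype.ext ?_, hz⟩⟩
        · have e : ⁅N, N⁆ = (commutator N).map N.subtype := by
            rw [commutator_def, Subgroup.map_commutator, ← MonoidHom.range_eq_map, Subgroup.range_subtype]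
          rw [e] at h1
          obtain ⟨w, hw, hwz⟩ := h1
          have : w = ⟨z, hSN hz⟩ := Subtype.ext hwz
          rwa [this] at hw
        · show (n : G) * z = z * n
          exact mul_inv_eq_iff_eq_mul.1 (hzn n n.2)
      rw [h3, Subgroup.mem_bot] at h4
      exact congrArg Subtype.val h4
    -- the elements of order at most two
    let V : Subgroup G :=
      { carrier := {x | x ∈ (S : Subgroup G) ∧ x ^ 2 = 1}
        one_mem' := ⟨one_mem _, one_pow 2⟩
        mul_mem' := by
          rintro x y ⟨hx, hx'⟩ ⟨hy, hy'⟩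
          have hc : Commute x y := congrArg Subtype.val (hS.is_comm.comm (⟨x, hx⟩ : (S : Subgroup G)) ⟨y, hy⟩)
          exact ⟨mul_mem hx hy, by rw [hc.mul_pow, hx', hy', one_mul]⟩
        inv_mem' := by
          rintro x ⟨hx, hx'⟩
          exact ⟨inv_mem hx, by rw [inv_pow, hx', inv_one]⟩ }
    have hVS : V ≤ (S : Subgroup G) := fun x hx => hx.1
    have hbound : ∀ (T : Subgroup G) (j : ℕ), T ≤ (S : Subgroup G) → Cfsg.PRankLE 2 j T → Nat.card (V ⊓ T : Subgroup G) ≤ 2 ^ j := by
      intro T j hT h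
      rw [← Nat.card_congr (Subgroup.subgroupOfEquivOfLe (inf_le_right : V ⊓ T ≤ T)).toEquiv]
      exact h _ ⟨⟨fun a b => Subtype.ext (Subtype.ext (congrArg Subtype.val (hS.is_comm.comm (⟨_, hT a.1.2⟩ : (S : Subgroup G)) ⟨_, hT b.1.2⟩) :))⟩⟩
        (fun a ha => Subtype.ext (by rw [SubmonoidClass.coe_pow]; exact (Subgroup.mem_inf.1 ha).1.2))
    have hlower : ∀ (T : Subgroup G) (j : ℕ), T ≤ (S : Subgroup G) → ¬ Cfsg.PRankLE 2 j T → 2 ^ j < Nat.card (V ⊓ T : Subgroup G) := by
      intro T j hT h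
      simp only [Cfsg.PRankLE, not_forall, not_le] at h
      obtain ⟨A, -, hexp, hcard⟩ := h
      refine hcard.trans_le ?_
      rw [Nat.card_congr (Subgroup.equivMapOfInjective A T.subtype T.subtype_injective).toEquiv]
      refine Subgroup.card_le_of_le ?_
      rintro _ ⟨a, ha, rfl⟩
      exact Subgroup.mem_inf.2 ⟨⟨hT a.2, by rw [← map_pow, hexp a ha, map_one]⟩, a.2⟩
    have hexact : ∀ (T : Subgroup G) (j : ℕ), T ≤ (S : Subgroup G) → Cfsg.PRankLE 2 j T → (j = 0 ∨ ¬ Cfsg.PRankLE 2 (j - 1) T) →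
        Nat.card (V ⊓ T : Subgroup G) = 2 ^ j := by
      intro T j hT h1 h2
      obtain ⟨k, hk⟩ := IsPGroup.iff_card.1 (S.2.to_le ((inf_le_left).trans hVS) : IsPGroup 2 (V ⊓ T : Subgroup G))
      have hle := hbound T j hT h1
      rw [hk] at hle ⊢
      have hkj : k ≤ j := (Nat.pow_le_pow_iff_right (by norm_num)).1 hle
      rcases h2 with rfl | h2
      · simp [Nat.le_zero.1 hkj]
      · have h3 := hlower T (j - 1) hT h2
        rw [hk] at h3
        have h4 : j - 1 < k := (Nat.pow_lt_pow_iff_right (by norm_num)).1 h3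
        rw [show k = j by omega]
    have hVcard : Nat.card V = 2 ^ r := by
      rw [← hexact (S : Subgroup G) r le_rfl hSr.1 (Or.inr hSr.2), inf_eq_left.2 hVS]
    have hWcard : Nat.card (V ⊓ R : Subgroup G) = 2 ^ (r - 1) := by
      refine hexact R (r - 1) hRS hRr.1 ?_
      rcases hRr.2 with h | h
      · left; omega
      · right; rwa [show r - 1 - 1 = r - 2 by omega]
    set W := (V ⊓ R).subgroupOf V with hW
    have hWidx : W.index = 2 := by
      have h1 := W.card_mul_index
      rw [hW, Nat.card_congr (Subgroup.subgroupOfEquivOfLe inf_le_left).toEquiv, hWcard, hVcard] at h1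
      have h2 : 2 ^ r = 2 ^ (r - 1) * 2 := by rw [← pow_succ, show r - 1 + 1 = r by omega]
      rw [h2] at h1
      exact Nat.eq_of_mul_eq_mul_left (pow_pos two_pos _) h1
    by_contra hcon
    push Not at hcon
    have htV : t ∈ V := ⟨htS, by rw [← ht, pow_orderOf_eq_one]⟩
    have hconjV : ∀ n ∈ N, ∀ x ∈ V, n * x * n⁻¹ ∈ V := fun n hn x hx =>
      ⟨(Subgroup.mem_normalizer_iff.1 hn x).1 hx.1, by rw [conj_pow, hx.2, mul_one, mul_inv_cancel]⟩
    letI : CommGroup V :=
      { (inferInstance : Group V) with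
        mul_comm := fun a b => Subtype.ext (congrArg Subtype.val (hS.is_comm.comm (⟨_, hVS a.2⟩ : (S : Subgroup G)) ⟨_, hVS b.2⟩) :) }
    set S' := (S : Subgroup G).subgroupOf N with hS'
    let f : N ⧸ S' → V := fun c => Quotient.liftOn' c
      (fun n => (⟨(n : G) * t * (n : G)⁻¹, hconjV n n.2 t htV⟩ : V)) (fun a b hab => Subtype.ext (by
        have h1 : ((a⁻¹ * b : N) : G) ∈ (S : Subgroup G) := Subgroup.mem_subgroupOf.1 (QuotientGroup.leftRel_apply.1 hab)
        have h2 : Commute ((a⁻¹ * b : N) : G) t :=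
          congrArg Subtype.val (hS.is_comm.comm (⟨_, h1⟩ : (S : Subgroup G)) ⟨t, htS⟩)
        have h3 : (b : G) = a * ((a⁻¹ * b : N) : G) := by simp
        show (a : G) * t * (a : G)⁻¹ = (b : G) * t * (b : G)⁻¹
        rw [h3]
        calc (a : G) * t * (a : G)⁻¹ = a * (((a⁻¹ * b : N) : G) * t * ((a⁻¹ * b : N) : G)⁻¹) * (a : G)⁻¹ := by
              rw [h2.eq, mul_inv_cancel_right]
          _ = _ := by group))
    haveI : Fintype (N ⧸ S') := Fintype.ofFinite _
    have hnotW : ∀ c, f c ∉ W := by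
      intro c
      induction c using QuotientGroup.induction_on with
      | _ n => exact fun h => hcon n n.2 (Subgroup.mem_inf.1 (Subgroup.mem_subgroupOf.1 h)).2
    have hprod : ∀ F : Finset (N ⧸ S'), (∏ c ∈ F, f c) ∈ W ↔ Even F.card := by
      intro F
      induction F using Finset.induction with
      | empty => simp
      | insert c F hc ih =>
        rw [Finset.prod_insert hc, Subgroup.mul_mem_iff_of_index_two hWidx, ih, Finset.card_insert_of_notMem hc, Nat.even_add_one]
        constructor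
        · exact fun h he => hnotW c (h.2 he)
        · exact fun h => iff_of_false (hnotW c) h
    have hodd : Odd (Fintype.card (N ⧸ S')) := by
      rw [← Nat.card_eq_fintype_card, ← Nat.not_even_iff_odd, even_iff_two_dvd]
      intro h2
      refine S.not_dvd_index ?_
      rw [← Subgroup.relIndex_mul_index hSN]
      exact h2.mul_right _
    have h1 : (∏ c, f c) ∈ W := by
      have h : ((∏ c, f c : V) : G) = 1 := by
        refine hfix _ (hVS (∏ c, f c : V).2) fun n hn => ?_
        let φ : V →* V :=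
          { toFun := fun x => ⟨n * x * n⁻¹, hconjV n hn x x.2⟩
            map_one' := Subtype.ext (by simp)
            map_mul' := fun x y => Subtype.ext (show n * ((x : G) * y) * n⁻¹ = n * x * n⁻¹ * (n * y * n⁻¹) by group) }
        have h2 : φ (∏ c, f c) = ∏ c, f c := by
          rw [map_prod, ← Equiv.prod_comp (MulAction.toPerm (⟨n, hn⟩ : N)) f]
          refine Finset.prod_congr rfl fun c _ => ?_
          induction c using QuotientGroup.induction_on with
          | _ m => exact Subtype.ext (show n * ((m : G) * t * (m : G)⁻¹) * n⁻¹ = n * m * t * (n * m : G)⁻¹ by group)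
        exact congrArg (Subtype.val : V → G) h2
      rw [OneMemClass.coe_eq_one.1 h]
      exact one_mem W
    rw [hprod, Finset.card_univ] at h1
    exact Nat.not_odd_iff_even.2 h1 hodd)

end Cfsg.Agent.S1244
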