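import Cfsg.Statements.S1246
import Cfsg.Agent.Inv.CharPLocal

set_option autoImplicit false
open Cfsg

namespace Cfsg.Agent.S1246

/-- Let V ≤ U be p-subgroups of the finite group G. If the generalized Fitting subgroup of C_G(V) is a p-group, then so is that of C_G(U). -/
theorem result {G : Type*} [Group G] [Finite G] {p : ℕ} [Fact p.Prime] (U V : Subgroup G) (hVU : V ≤ U) (hU : IsPGroup p U) (hV : IsPGroup p ↥(Cfsg.generalizedFittingSubgroup ↥(Subgroup.centralizer (V : Set G)))) : IsPGroup p ↥(Cfsg.generalizedFittingSubgroup ↥(Subgroup.centralizer (U : Set G))) := by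
  open CfsgLib.Inv in
  exact (by
    rw [genFitting_pgroup_iff] at hV ⊢
    induction V using (wellFounded_gt (α := Subgroup G)).induction with
    | _ V ih =>
      rcases eq_or_ne V U with rfl | hne
      · exact hV
      set H := Subgroup.normalizer (V : Set G) with hH
      have hVp : IsPGroup p V := hU.to_le hVU
      have hHchar : Subgroup.centralizer (Cfsg.pCore p ↥H : Set ↥H) ≤ Cfsg.pCore p ↥H := by
        refine charP_of_coprime fun x hxo hxc => Subtype.ext ?_
        rw [← Subgroup.orderOf_coe] at hxo
        haveI : (V.subgroupOf H).Normal := Subgroup.normal_in_normalizer (H := V)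
        have hxQ : (x : G) ∈ Subgroup.centralizer (Cfsg.pCoreOf p H : Set G) := by
          refine Subgroup.mem_centralizer_iff.2 ?_
          rintro _ ⟨q, hq, rfl⟩
          exact congrArg Subtype.val (Subgroup.mem_centralizer_iff.1 hxc q hq)
        have hxV : (x : G) ∈ Subgroup.centralizer (V : Set G) := by
          refine Subgroup.centralizer_le (fun v hv => ?_) hxQ
          exact Subgroup.mem_map.2 ⟨⟨v, Subgroup.le_normalizer hv⟩,
            CfsgLib.Solv.le_pCore (G := ↥H) (N := V.subgroupOf H) hVp.comap_subtype hv, rfl⟩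
        have hn : H ≤ Subgroup.normalizer ((Subgroup.centralizer (V : Set G) : Subgroup G) : Set G) := by
          rw [CfsgLib.Solv.le_normalizer_iff_forall_conj_mem]
          intro n hn c hc
          refine Subgroup.mem_centralizer_iff.2 fun b hb => ?_
          have h1 := Subgroup.mem_centralizer_iff.1 hc _ ((Subgroup.mem_normalizer_iff''.1 hn b).1 hb)
          calc b * (n * c * n⁻¹) = n * (n⁻¹ * b * n * c) * n⁻¹ := by group
            _ = n * (c * (n⁻¹ * b * n)) * n⁻¹ := by rw [h1]
            _ = _ := by group
        have hxQ' := Subgroup.centralizer_le (pCoreOf_le (p := p) (Subgroup.centralizer_le_normalizer _) hn) hxQ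
        have h1 : (⟨(x : G), hxV⟩ : ↥(Subgroup.centralizer (V : Set G))) ∈
            Cfsg.pCore p ↥(Subgroup.centralizer (V : Set G)) := hV (Subgroup.mem_centralizer_iff.2 fun q hq =>
          Subtype.ext (Subgroup.mem_centralizer_iff.1 hxQ' q (Subgroup.mem_map.2 ⟨q, hq, rfl⟩)))
        exact eq_one_of_coprime_mem ((CfsgLib.Solv.pCore_isPGroup ↥(Subgroup.centralizer (V : Set G)) p).map
          (Subgroup.centralizer (V : Set G)).subtype) (Subgroup.mem_map.2 ⟨_, h1, rfl⟩) hxo
      have hlt : V.subgroupOf U < ⊤ := lt_top_iff_ne_top.2 fun e =>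
        hne (le_antisymm hVU (Subgroup.subgroupOf_eq_top.1 e))
      haveI := hU.isNilpotent
      obtain ⟨n, hn, hnV⟩ := SetLike.exists_of_lt (Group.normalizerCondition_of_isNilpotent _ hlt)
      have hnH : (n : G) ∈ H := by
        rw [hH, Subgroup.mem_normalizer_iff'']
        intro y
        constructor
        · intro hy
          exact (Subgroup.mem_normalizer_iff''.1 hn ⟨y, hVU hy⟩).1 hy
        · intro hy
          have hy' : y ∈ U := by
            have := mul_mem (mul_mem n.2 (hVU hy)) (inv_mem n.2)
            simpa [mul_assoc] using this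
          exact (Subgroup.mem_normalizer_iff''.1 hn ⟨y, hy'⟩).2 hy
      refine ih (H ⊓ U) (lt_of_le_of_ne (le_inf Subgroup.le_normalizer hVU) fun e => hnV ?_) inf_le_right ?_
      · have : (n : G) ∈ V := by rw [e]; exact Subgroup.mem_inf.2 ⟨hnH, n.2⟩
        exact this
      · exact charP_centralizer hHchar (hU.to_le inf_le_right) inf_le_left
          ((Subgroup.centralizer_le (le_inf Subgroup.le_normalizer hVU)).trans (Subgroup.centralizer_le_normalizer _)))

end Cfsg.Agent.S1246
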