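import Cfsg.Statements.S1247
import Cfsg.Agent.Inv.CharPLocal
import Cfsg.Agent.Solv.CoprimeAction
import Cfsg.Agent.OddLocal.TypeP

set_option autoImplicit false
set_option linter.style.haveILetI false
open Cfsg

namespace Cfsg.Agent.S1247

open CfsgLib.Inv

variable {Γ : Type*} [Group Γ] [Finite Γ]

theorem pCore_ne_bot {p : ℕ} [hp : Fact p.Prime] (h : p ∣ Nat.card (fittingSubgroup Γ)) : pCore p Γ ≠ ⊥ := by
  obtain ⟨g, hg⟩ := exists_prime_orderOf_dvd_card' (G := ↥(fittingSubgroup Γ)) p h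
  haveI := fitting_nilpotent (G := Γ)
  haveI := fitting_characteristic (G := Γ)
  have hsn : ((Subgroup.zpowers g).map (fittingSubgroup Γ).subtype).IsSubnormal :=
    (subnormal_of_nilpotent _).trans' (inferInstance : (fittingSubgroup Γ).Normal).isSubnormal
  have hp' : IsPGroup p ↥((Subgroup.zpowers g).map (fittingSubgroup Γ).subtype) :=
    (IsPGroup.of_card (n := 1) (by rw [Nat.card_zpowers, hg, pow_one])).map _
  intro hbot
  have := subnormal_pgroup_le_pCore hsn hp' (Subgroup.mem_map_of_mem _ (Subgroup.mem_zpowers g))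
  rw [hbot, Subgroup.mem_bot] at this
  rw [show g = 1 from Subtype.ext this, orderOf_one] at hg
  exact hp.out.one_lt.ne hg

/-- The part of `F*` of order prime to `p`, together with the layer. -/
abbrev M (p : ℕ) (Γ : Type*) [Group Γ] : Subgroup Γ :=
  layer Γ ⊔ ⨆ r : {r : ℕ // r.Prime ∧ r ≠ p}, pCore (r : ℕ) Γ

theorem genFitting_le (p : ℕ) [hp : Fact p.Prime] : generalizedFittingSubgroup Γ ≤ M p Γ ⊔ pCore p Γ := by
  refine sup_le (le_sup_left.trans le_sup_left) ?_
  rw [CfsgLib.Solv.fittingSubgroup_eq_iSup_pCore]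
  refine iSup_le fun q => ?_
  rcases eq_or_ne (q : ℕ) p with h | h
  · rw [h]; exact le_sup_right
  · exact le_sup_of_le_left (le_sup_of_le_right
      (le_iSup (fun r : {r : ℕ // r.Prime ∧ r ≠ p} => pCore (r : ℕ) Γ) ⟨(q : ℕ), q.2, h⟩))

theorem mem_M {p : ℕ} [hp : Fact p.Prime] {g : Γ} (hg : g ∈ generalizedFittingSubgroup Γ)
    (hgo : (orderOf g).Coprime p) : g ∈ M p Γ := by
  haveI := layer_normal (G := Γ)
  haveI : ∀ r : {r : ℕ // r.Prime ∧ r ≠ p}, (pCore (r : ℕ) Γ).Normal := fun r =>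
    CfsgLib.Solv.pCore_normal Γ _
  haveI := CfsgLib.Solv.pCore_normal Γ p
  haveI : (M p Γ).Normal := inferInstance
  obtain ⟨a, ha, b, hb, hab⟩ := Subgroup.mem_sup_of_normal_right.1 (genFitting_le p hg)
  obtain ⟨k, hk⟩ : ∃ k, orderOf (QuotientGroup.mk' (M p Γ) g) ∣ p ^ k := by
    obtain ⟨k, hk⟩ := CfsgLib.Solv.pCore_isPGroup Γ p ⟨b, hb⟩
    refine ⟨k, orderOf_dvd_of_pow_eq_one ?_⟩
    rw [← hab, map_mul, show QuotientGroup.mk' (M p Γ) a = 1 from (QuotientGroup.eq_one_iff a).2 ha, one_mul,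
      ← map_pow, show b ^ p ^ k = 1 from congrArg Subtype.val hk, map_one]
  have h1 : orderOf (QuotientGroup.mk' (M p Γ) g) = 1 :=
    Nat.eq_one_of_dvd_coprimes (hgo.pow_right k) (orderOf_map_dvd _ g) hk
  exact (QuotientGroup.eq_one_iff g).1 (orderOf_eq_one_iff.1 h1)

theorem center_core_central {r : ℕ} [Fact r.Prime] {z : Γ} (hz : z ∈ pCore r Γ)
    (hzc : z ∈ Subgroup.centralizer (pCore r Γ : Set Γ)) :
    z ∈ Subgroup.centralizer (generalizedFittingSubgroup Γ : Set Γ) := by
  haveI := CfsgLib.Solv.pCore_normal Γ r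
  suffices h : generalizedFittingSubgroup Γ ≤ Subgroup.centralizer (Subgroup.zpowers z : Set Γ) from
    Subgroup.mem_centralizer_iff.2 fun f hf =>
      (Subgroup.mem_centralizer_iff.1 (h hf) z (Subgroup.mem_zpowers z)).symm
  refine sup_le ?_ ?_
  · haveI := (CfsgLib.Solv.pCore_isPGroup Γ r).isNilpotent
    exact (layer_le_centralizer_of_solvable (inferInstance : (pCore r Γ).Normal).isSubnormal inferInstance).trans
      (Subgroup.centralizer_le (SetLike.coe_subset_coe.2 (Subgroup.zpowers_le.2 hz)))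
  · rw [CfsgLib.Solv.fittingSubgroup_eq_iSup_pCore]
    refine iSup_le fun q => ?_
    rcases eq_or_ne (q : ℕ) r with h | h
    · rw [h, Subgroup.le_centralizer_iff, Subgroup.zpowers_le]
      exact hzc
    · haveI : Fact (Nat.Prime (q : ℕ)) := ⟨q.2⟩
      haveI := CfsgLib.Solv.pCore_normal Γ (q : ℕ)
      have hd : Disjoint (pCore (q : ℕ) Γ) (pCore r Γ) :=
        IsPGroup.disjoint_of_ne (q : ℕ) r h _ _ (CfsgLib.Solv.pCore_isPGroup Γ _) (CfsgLib.Solv.pCore_isPGroup Γ _)
      have h1 : ⁅pCore (q : ℕ) Γ, pCore r Γ⁆ = ⊥ := le_bot_iff.1 ((Subgroup.commutator_le_inf _ _).trans hd.le_bot)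
      exact (Subgroup.commutator_eq_bot_iff_le_centralizer.1 h1).trans
        (Subgroup.centralizer_le (SetLike.coe_subset_coe.2 (Subgroup.zpowers_le.2 hz)))

variable {S : Subgroup Γ}

theorem layer_le (hS : S.IsSubnormal)
    (hC : generalizedFittingSubgroup Γ ⊓ Subgroup.centralizer (S : Set Γ) ≤ S) : layer Γ ≤ S :=
  sSup_le fun K hK => (component_dichotomy hK hS).elim id fun h =>
    (le_inf ((component_le_layer hK).trans le_sup_left)
      (Subgroup.commutator_eq_bot_iff_le_centralizer.1 h)).trans hC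

/-- A `p`-subgroup normalized by `S` centralizes the `p'`-part of `F*`. -/
theorem le_centralizer_M (hS : S.IsSubnormal) (hSF : S ≤ generalizedFittingSubgroup Γ)
    (hC : generalizedFittingSubgroup Γ ⊓ Subgroup.centralizer (S : Set Γ) ≤ S) {p : ℕ} [hp : Fact p.Prime]
    {R : Subgroup Γ} (hR : IsPGroup p R) (hSR : S ≤ Subgroup.normalizer (R : Set Γ)) :
    M p Γ ≤ Subgroup.centralizer (R : Set Γ) := by
  haveI := layer_normal (G := Γ)
  have hL := layer_le hS hC
  have hRL : R ≤ Subgroup.normalizer (layer Γ : Set Γ) :=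
    le_top.trans (Subgroup.normalizer_eq_top_iff.2 inferInstance).ge
  have hlay : layer Γ ≤ Subgroup.centralizer (R : Set Γ) := by
    have hW : ((R ⊓ layer Γ).subgroupOf (layer Γ)).Normal :=
      (Subgroup.normal_subgroupOf_iff_le_normalizer inf_le_right).2
        (CfsgLib.Solv.le_normalizer_inf_of_le (hL.trans hSR) Subgroup.le_normalizer)
    have h1 : R ⊓ layer Γ ≤ pCore p Γ := subnormal_pgroup_le_pCore
      (Subgroup.IsSubnormal.step _ _ inf_le_right (layer_normal (G := Γ)).isSubnormal hW) (hR.to_le inf_le_left)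
    have h2 : ⁅R, layer Γ⁆ ≤ pCore p Γ := by
      refine le_trans (le_inf ?_ ?_) h1
      · exact Subgroup.commutator_le.2 fun r hr l hl => by
          have := (Subgroup.mem_normalizer_iff.1 (hSR (hL hl)) r⁻¹).1 (inv_mem hr)
          rw [commutatorElement_def]
          simpa [mul_assoc] using mul_mem hr this
      · exact Subgroup.commutator_le_right R _
    haveI := CfsgLib.Solv.pCore_normal Γ p
    haveI := (CfsgLib.Solv.pCore_isPGroup Γ p).isNilpotent
    have h3 : ⁅⁅R, layer Γ⁆, layer Γ⁆ = ⊥ := Subgroup.commutator_eq_bot_iff_le_centralizer.2 (h2.trans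
      (Subgroup.le_centralizer_iff.1 (layer_le_centralizer_of_solvable
        (inferInstance : (pCore p Γ).Normal).isSubnormal inferInstance)))
    have h4 : ⁅⁅layer Γ, layer Γ⁆, R⁆ = ⊥ :=
      Subgroup.commutator_commutator_eq_bot_of_rotate (by rw [Subgroup.commutator_comm (layer Γ) R]; exact h3) h3
    rw [layer_perfect] at h4
    exact Subgroup.commutator_eq_bot_iff_le_centralizer.1 h4
  refine sup_le hlay (iSup_le ?_)
  rintro ⟨r, hr, hrp⟩
  haveI : Fact r.Prime := ⟨hr⟩
  haveI := CfsgLib.Solv.pCore_normal Γ r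
  set O := pCore r Γ with hO
  set X := O ⊓ S with hX
  have hOp : IsPGroup r O := CfsgLib.Solv.pCore_isPGroup Γ r
  have hXC : X ≤ Subgroup.centralizer (R : Set Γ) := by
    have h1 : ⁅R, X⁆ ≤ R ⊓ O := le_inf (Subgroup.commutator_le.2 fun a ha x hx => by
        have := (Subgroup.mem_normalizer_iff.1 (hSR hx.2) a⁻¹).1 (inv_mem ha)
        rw [commutatorElement_def]
        simpa [mul_assoc] using mul_mem ha this)
      ((Subgroup.commutator_mono le_rfl inf_le_left).trans (Subgroup.commutator_le_right R O))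
    have hd : R ⊓ O = ⊥ := (IsPGroup.disjoint_of_ne p r hrp.symm _ _ hR hOp).eq_bot
    rw [hd, le_bot_iff, Subgroup.commutator_comm] at h1
    exact Subgroup.commutator_eq_bot_iff_le_centralizer.1 h1
  -- an element of `O` centralizing `X` lies in `S`
  have hcen : O ⊓ Subgroup.centralizer (X : Set Γ) ≤ X := by
    intro c hc
    refine Subgroup.mem_inf.2 ⟨hc.1, hC (Subgroup.mem_inf.2
      ⟨(le_sup_right : fittingSubgroup Γ ≤ generalizedFittingSubgroup Γ) (CfsgLib.Solv.pCore_le_fittingSubgroup hc.1), Subgroup.mem_centralizer_iff.2 fun s hs => ?_⟩)⟩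
    haveI := fitting_characteristic (G := Γ)
    haveI : (fittingSubgroup Γ).Normal := inferInstance
    obtain ⟨e, he, f, hf, hef⟩ := Subgroup.mem_sup_of_normal_right.1 (hSF hs)
    have hce : Commute c e := by
      haveI := hOp.isNilpotent
      exact Subgroup.mem_centralizer_iff.1 (layer_le_centralizer_of_solvable
        (inferInstance : O.Normal).isSubnormal inferInstance he) c hc.1
    have hfS : f ∈ S := by
      have := mul_mem (inv_mem (hL he)) hs
      rwa [← hef, inv_mul_cancel_left] at this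
    haveI := fitting_nilpotent (G := Γ)
    obtain ⟨a, b, hb, hab⟩ := Nat.exists_eq_pow_mul_and_not_dvd (orderOf_pos f).ne' r hr.ne_one
    have h1 : Commute c (f ^ b) := by
      have hsn : ((Subgroup.zpowers (⟨f, hf⟩ : ↥(fittingSubgroup Γ)) ).map (fittingSubgroup Γ).subtype).IsSubnormal :=
        (subnormal_of_nilpotent _).trans' (inferInstance : (fittingSubgroup Γ).Normal).isSubnormal
      rw [MonoidHom.map_zpowers] at hsn
      have hsn' : (Subgroup.zpowers (f ^ b)).IsSubnormal := by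
        have h := (subnormal_of_nilpotent (Subgroup.zpowers ((⟨f, hf⟩ : ↥(fittingSubgroup Γ)) ^ b))).trans'
          (inferInstance : (fittingSubgroup Γ).Normal).isSubnormal
        rwa [MonoidHom.map_zpowers] at h
      have hbo : orderOf (f ^ b) = r ^ a := by
        rw [orderOf_pow, hab, Nat.gcd_mul_left_left, Nat.mul_div_cancel _ (Nat.pos_of_ne_zero (by rintro rfl; exact hb (dvd_zero r)))]
      have hmem : f ^ b ∈ O := subnormal_pgroup_le_pCore hsn'
        (IsPGroup.of_card (n := a) (by rw [Nat.card_zpowers, hbo])) (Subgroup.mem_zpowers _)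
      exact (Subgroup.mem_centralizer_iff.1 hc.2 _ ⟨hmem, pow_mem hfS b⟩).symm
    have h2 : Commute c (f ^ r ^ a) := by
      have hco : (orderOf c).Coprime (orderOf (f ^ r ^ a)) := by
        obtain ⟨j, hj⟩ := IsPGroup.iff_orderOf.1 hOp ⟨c, hc.1⟩
        rw [← Subgroup.orderOf_coe] at hj
        rw [hj, orderOf_pow, hab, Nat.gcd_mul_right_left, Nat.mul_div_cancel_left _ (pow_pos hr.pos a)]
        exact Nat.Coprime.pow_left _ (hr.coprime_iff_not_dvd.2 hb)
      have := CfsgLib.OddLocal.commute_of_coprime_nilpotent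
        (a := (⟨c, CfsgLib.Solv.pCore_le_fittingSubgroup hc.1⟩ : ↥(fittingSubgroup Γ))) (b := ⟨f ^ r ^ a, pow_mem hf _⟩)
        (by rw [← Subgroup.orderOf_coe, ← Subgroup.orderOf_coe]; exact hco)
      exact congrArg Subtype.val this.eq
    have h3 : Commute c f := by
      have hg : Int.gcd (b : ℤ) ((r ^ a : ℕ) : ℤ) = 1 := by
        rw [Int.gcd_natCast_natCast]
        exact (Nat.Coprime.pow_left a (hr.coprime_iff_not_dvd.2 hb)).symm
      obtain ⟨u, v, huv⟩ := Int.isCoprime_iff_gcd_eq_one.2 hg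
      have e : f = (f ^ b) ^ u * (f ^ r ^ a) ^ v := by
        rw [← zpow_natCast f b, ← zpow_natCast f (r ^ a), ← zpow_mul, ← zpow_mul, ← zpow_add]
        conv_lhs => rw [← zpow_one f, ← huv]
        ring_nf
      rw [e]
      exact (h1.zpow_right u).mul_right (h2.zpow_right v)
    rw [← hef]
    exact (hce.mul_right h3).symm.eq
  set C := O ⊓ Subgroup.centralizer (R : Set Γ) with hC'
  suffices h : C = O from h ▸ inf_le_right
  by_contra hne
  haveI := hOp.isNilpotent
  have hlt : C.subgroupOf O < ⊤ := lt_top_iff_ne_top.2 fun h => hne (le_antisymm inf_le_left (Subgroup.subgroupOf_eq_top.1 h))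
  obtain ⟨n, hn, hnC⟩ := SetLike.exists_of_lt (Group.normalizerCondition_of_isNilpotent (C.subgroupOf O) hlt)
  refine hnC (Subgroup.mem_subgroupOf.2 ⟨n.2, Subgroup.mem_centralizer_iff.2 fun ρ hρ => ?_⟩)
  set d := (n : Γ)⁻¹ * (ρ * n * ρ⁻¹) with hd
  have hdO : d ∈ O := mul_mem (inv_mem n.2) ((inferInstance : O.Normal).conj_mem _ n.2 ρ)
  have hdC : d ∈ C := by
    refine Subgroup.mem_inf.2 ⟨hdO, hXC (hcen (Subgroup.mem_inf.2 ⟨hdO, Subgroup.mem_centralizer_iff.2 fun x hx => ?_⟩))⟩
    have hxC : x ∈ C := ⟨hx.1, hXC hx⟩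
    have hnx : (n : Γ) * x * (n : Γ)⁻¹ ∈ C :=
      (Subgroup.mem_normalizer_iff.1 hn ⟨x, hx.1⟩).1 (Subgroup.mem_subgroupOf.2 hxC)
    have e1 := Subgroup.mem_centralizer_iff.1 hnx.2 ρ hρ
    have e2 := Subgroup.mem_centralizer_iff.1 hxC.2 ρ hρ
    calc x * d = (n : Γ)⁻¹ * ((n : Γ) * x * (n : Γ)⁻¹ * ρ) * n * ρ⁻¹ := by rw [hd]; group
      _ = (n : Γ)⁻¹ * ρ * n * (x * ρ⁻¹) := by rw [← e1]; group
      _ = (n : Γ)⁻¹ * ρ * n * (ρ⁻¹ * x) := by
          rw [show x * ρ⁻¹ = ρ⁻¹ * x from ((show Commute ρ x from e2).inv_left).eq.symm]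
      _ = d * x := by rw [hd]; group
  have hdρ : ρ * d * ρ⁻¹ = d := mul_inv_eq_iff_eq_mul.2 (Subgroup.mem_centralizer_iff.1 hdC.2 ρ hρ)
  have hpow : ∀ k : ℕ, ρ ^ k * (n : Γ) * (ρ ^ k)⁻¹ = (n : Γ) * d ^ k := by
    intro k
    induction k with
    | zero => simp
    | succ k ih =>
      calc ρ ^ (k + 1) * (n : Γ) * (ρ ^ (k + 1))⁻¹ = ρ * (ρ ^ k * n * (ρ ^ k)⁻¹) * ρ⁻¹ := by
            rw [pow_succ']; group
        _ = ρ * ((n : Γ) * d ^ k) * ρ⁻¹ := by rw [ih]
        _ = (ρ * n * ρ⁻¹) * (ρ * d * ρ⁻¹) ^ k := by rw [conj_pow]; group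
        _ = (n : Γ) * d ^ (k + 1) := by rw [hdρ, show ρ * (n : Γ) * ρ⁻¹ = n * d by rw [hd]; group, pow_succ', mul_assoc]
  have h1 := hpow (orderOf ρ)
  rw [pow_orderOf_eq_one, one_mul, inv_one, mul_one] at h1
  have h1' : d ^ orderOf ρ = 1 := by simpa using h1
  obtain ⟨i, hi⟩ := IsPGroup.iff_orderOf.1 hR ⟨ρ, hρ⟩
  obtain ⟨j, hj⟩ := IsPGroup.iff_orderOf.1 hOp ⟨d, hdO⟩
  rw [← Subgroup.orderOf_coe] at hi hj
  have hdvd := orderOf_dvd_of_pow_eq_one h1'
  rw [hi, hj] at hdvd
  have hd1 : orderOf d = 1 := by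
    rw [hj]
    exact Nat.eq_one_of_dvd_coprimes (((Nat.coprime_primes hr hp.out).2 hrp).pow j i) dvd_rfl hdvd
  have := orderOf_eq_one_iff.1 hd1
  rw [hd, inv_mul_eq_one] at this
  exact (mul_inv_eq_iff_eq_mul.1 this.symm)

/-- Let G be a non-abelian finite simple group, A a maximal subgroup, F = F*(A) its generalized Fitting subgroup (viewed in G), and S ≤ F a subgroup subnormal in F with C_F(S) ≤ S. Let B be any subgroup of G containing S. Then (a) for every prime q not dividing |F(A)|, O_q(B) ∩ A = 1; and (b) for every prime p dividing |F(A)|, O_p(B) commutes elementwise with the subgroup of F generated by its elements of order prime to p. -/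
theorem result {G : Type*} [Group G] [Finite G] [IsSimpleGroup G] (hna : ¬ IsMulCommutative G) (A : Subgroup G) (hA : IsCoatom A) (S : Subgroup G) (hSF : S ≤ (Cfsg.generalizedFittingSubgroup ↥A).map A.subtype) (hSsn : (S.subgroupOf ((Cfsg.generalizedFittingSubgroup ↥A).map A.subtype)).IsSubnormal) (hSC : (Cfsg.generalizedFittingSubgroup ↥A).map A.subtype ⊓ Subgroup.centralizer (S : Set G) ≤ S) (B : Subgroup G) (hSB : S ≤ B) : (∀ q : ℕ, q.Prime → ¬ q ∣ Nat.card (Cfsg.fittingSubgroup ↥A) → (Cfsg.pCore q ↥B).map B.subtype ⊓ A = ⊥) ∧ (∀ p : ℕ, p.Prime → p ∣ Nat.card (Cfsg.fittingSubgroup ↥A) → ∀ x ∈ (Cfsg.pCore p ↥B).map B.subtype, ∀ y ∈ (Cfsg.pResidual p ↥(Cfsg.generalizedFittingSubgroup ↥A)).map ((Cfsg.generalizedFittingSubgroup ↥A).subtype) , x * (A.subtype y) = (A.subtype y) * x) := by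
  haveI := genFitting_normal (G := ↥A)
  set F := Cfsg.generalizedFittingSubgroup ↥A with hF
  have hSA : S ≤ A := hSF.trans (Subgroup.map_subtype_le F)
  set SA := S.subgroupOf A with hSAdef
  have hSAF : SA ≤ F := fun s hs => by
    obtain ⟨t, ht, e⟩ := hSF (Subgroup.mem_subgroupOf.1 hs)
    rwa [← Subtype.ext (a1 := t) (a2 := s) e]
  have hSAs : SA.IsSubnormal := by
    have h := (hSsn.comap (F.equivMapOfInjective A.subtype A.subtype_injective).toMonoidHom).trans'
      (inferInstance : F.Normal).isSubnormal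
    have e : ((S.subgroupOf (F.map A.subtype)).comap
        (F.equivMapOfInjective A.subtype A.subtype_injective).toMonoidHom).map F.subtype = SA := by
      ext s
      constructor
      · rintro ⟨t, ht, rfl⟩
        exact ht
      · intro hs
        exact ⟨⟨s, hSAF hs⟩, hs, rfl⟩
    rwa [e] at h
  have hSAc : F ⊓ Subgroup.centralizer (SA : Set ↥A) ≤ SA := fun c hc =>
    Subgroup.mem_subgroupOf.2 (hSC ⟨Subgroup.mem_map_of_mem _ hc.1, Subgroup.mem_centralizer_iff.2 fun s hs =>
      congrArg Subtype.val (Subgroup.mem_centralizer_iff.1 hc.2 ⟨s, hSA hs⟩ hs)⟩)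
  have hB : ∀ q : ℕ, S ≤ Subgroup.normalizer (((Cfsg.pCore q ↥B).map B.subtype : Subgroup G) : Set G) := by
    intro q
    haveI := CfsgLib.Solv.pCore_normal ↥B q
    refine hSB.trans ?_
    refine le_trans ?_ (Subgroup.le_normalizer_map B.subtype)
    rw [Subgroup.normalizer_eq_top, ← MonoidHom.range_eq_map, Subgroup.range_subtype]
  have hR : ∀ q : ℕ, q.Prime → M q ↥A ≤
      Subgroup.centralizer ((((Cfsg.pCore q ↥B).map B.subtype).subgroupOf A : Subgroup ↥A) : Set ↥A) := by
    intro q hq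
    haveI : Fact q.Prime := ⟨hq⟩
    refine le_centralizer_M hSAs hSAF hSAc ((CfsgLib.Solv.pCore_isPGroup ↥B q).map _).comap_subtype ?_
    exact fun s hs => Subgroup.mem_normalizer_iff.2 fun w =>
      Subgroup.mem_normalizer_iff.1 (hB q (Subgroup.mem_subgroupOf.1 hs)) (w : G)
  refine ⟨fun q hq hqF => ?_, fun p hp hpF x hx y hy => ?_⟩
  · haveI : Fact q.Prime := ⟨hq⟩
    set R := ((Cfsg.pCore q ↥B).map B.subtype).subgroupOf A with hRdef
    have hO : Cfsg.pCore q ↥A = ⊥ := by
      by_contra h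
      haveI : Nontrivial ↥(Cfsg.pCore q ↥A) := (Subgroup.nontrivial_iff_ne_bot _).2 h
      obtain ⟨n, hn, hc⟩ := (CfsgLib.Solv.pCore_isPGroup ↥A q).nontrivial_iff_card.1 inferInstance
      exact hqF ((dvd_pow_self q hn.ne').trans (hc ▸ Subgroup.card_dvd_of_le CfsgLib.Solv.pCore_le_fittingSubgroup))
    have h1 : F ≤ Subgroup.centralizer (R : Set ↥A) :=
      (genFitting_le q).trans (by rw [hO, sup_bot_eq]; exact hR q hq)
    have h2 : R ≤ Subgroup.centralizer (F : Set ↥A) := Subgroup.le_centralizer_iff.1 h1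
    have h3 : R ≤ F ⊓ Subgroup.centralizer (F : Set ↥A) := le_inf (h2.trans centralizer_genFitting_le) h2
    set Z := F ⊓ Subgroup.centralizer (F : Set ↥A) with hZ
    haveI : Z.Normal := inferInstance
    have hZf : Z ≤ Cfsg.fittingSubgroup ↥A := by
      refine subnormal_le_fitting (inferInstance : Z.Normal).isSubnormal ?_
      letI : CommGroup ↥Z := { (inferInstance : Group ↥Z) with
        mul_comm := fun a b => Subtype.ext (Subgroup.mem_centralizer_iff.1 b.2.2 a a.2.1) }
      exact CommGroup.isNilpotent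
    refine eq_bot_iff.2 fun g hg => Subgroup.mem_bot.2 ?_
    have hgR : (⟨g, hg.2⟩ : ↥A) ∈ R := hg.1
    have h4 : orderOf g ∣ Nat.card (Cfsg.fittingSubgroup ↥A) := by
      have := Subgroup.orderOf_dvd_natCard _ (hZf (h3 hgR))
      rwa [← Subgroup.orderOf_coe] at this
    obtain ⟨k, hk⟩ := IsPGroup.iff_orderOf.1 ((CfsgLib.Solv.pCore_isPGroup ↥B q).map B.subtype) ⟨g, hg.1⟩
    rw [← Subgroup.orderOf_coe] at hk
    simp only at hk
    rcases k with _ | k
    · exact orderOf_eq_one_iff.1 (by simpa using hk)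
    · exact absurd ((dvd_pow_self q k.succ_ne_zero).trans (hk ▸ h4)) hqF
  · haveI : Fact p.Prime := ⟨hp⟩
    set P₀ := (Cfsg.pCore p ↥B).map B.subtype with hP₀
    have hP₀p : IsPGroup p P₀ := (CfsgLib.Solv.pCore_isPGroup ↥B p).map _
    have hnorm : ∀ N : Subgroup ↥A, N.Normal → N ≠ ⊥ →
        Subgroup.normalizer ((N.map A.subtype : Subgroup G) : Set G) = A := by
      intro N hN hN1
      have hle : A ≤ Subgroup.normalizer ((N.map A.subtype : Subgroup G) : Set G) := by
        refine le_trans ?_ (Subgroup.le_normalizer_map A.subtype)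
        rw [Subgroup.normalizer_eq_top, ← MonoidHom.range_eq_map, Subgroup.range_subtype]
      rcases hA.le_iff.1 hle with h | h
      · exfalso
        haveI : (N.map A.subtype).Normal := Subgroup.normalizer_eq_top_iff.1 h
        rcases (inferInstance : (N.map A.subtype).Normal).eq_bot_or_eq_top with h' | h'
        · exact hN1 ((Subgroup.map_eq_bot_iff_of_injective _ A.subtype_injective).1 h')
        · exact hA.1 (top_le_iff.1 (h' ▸ Subgroup.map_subtype_le N))
      · exact h
    -- `p'`-elements of `S` centralize `P₀`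
    set O := Cfsg.pCore p ↥A with hOdef
    haveI := CfsgLib.Solv.pCore_normal ↥A p
    set Z := O ⊓ Subgroup.centralizer (O : Set ↥A) with hZdef
    have hZn : Z.Normal := inferInstance
    have hZ1 : Z ≠ ⊥ := by
      obtain ⟨z, hz, ho, hc⟩ := exists_central_order_p (CfsgLib.Solv.pCore_isPGroup ↥A p) (pCore_ne_bot hpF)
      intro h
      have hzZ : z ∈ Z := ⟨hz, Subgroup.mem_centralizer_iff.2 hc⟩
      rw [h, Subgroup.mem_bot] at hzZ
      rw [hzZ, orderOf_one] at ho
      exact hp.one_lt.ne ho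
    have hZF : Z ≤ Subgroup.centralizer (F : Set ↥A) := fun z hz => center_core_central hz.1 hz.2
    have hZS : Z.map A.subtype ≤ S := by
      rintro _ ⟨z, hz, rfl⟩
      exact Subgroup.mem_subgroupOf.1 (hSAc ⟨(le_sup_right : Cfsg.fittingSubgroup ↥A ≤ F) (CfsgLib.Solv.pCore_le_fittingSubgroup hz.1),
        Subgroup.centralizer_le (SetLike.coe_subset_coe.2 hSAF) (hZF hz)⟩)
    have hs0 : ∀ s ∈ SA, (orderOf s).Coprime p → (s : G) ∈ Subgroup.centralizer (P₀ : Set G) := by
      intro s hs hso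
      have hsM : s ∈ M p ↥A := mem_M (hSAF hs) hso
      refine CfsgLib.Solv.thompson_pq (P := Z.map A.subtype) (Q := Subgroup.zpowers (s : G))
        ((CfsgLib.Solv.pCore_isPGroup ↥A p).to_le (inf_le_left : Z ≤ O) |>.map _)
        (by rw [Nat.card_zpowers, Subgroup.orderOf_coe]; exact hso) ?_ P₀ hP₀p (hZS.trans (hB p))
        (Subgroup.zpowers_le.2 (hB p hs)) ?_ (Subgroup.mem_zpowers _)
      · rw [Subgroup.le_centralizer_iff, Subgroup.zpowers_le]
        refine Subgroup.mem_centralizer_iff.2 ?_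
        rintro _ ⟨z, hz, rfl⟩
        exact (congrArg Subtype.val (Subgroup.mem_centralizer_iff.1 (hZF hz) s (hSAF hs))).symm
      · intro u hu
        have huA : u ∈ A := (hnorm Z hZn hZ1) ▸ Subgroup.centralizer_le_normalizer _ hu.2
        have e := Subgroup.mem_centralizer_iff.1 (hR p hp hsM) ⟨u, huA⟩ hu.1
        have h' : Subgroup.zpowers (s : G) ≤ Subgroup.centralizer ({u} : Set G) :=
          Subgroup.zpowers_le.2 (Subgroup.mem_centralizer_singleton_iff.2 (congrArg Subtype.val e).symm)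
        exact Subgroup.mem_centralizer_iff.2 fun w hw => Subgroup.mem_centralizer_singleton_iff.1 (h' hw)
    -- `P₀ ≤ A` unless the `p'`-part is trivial
    have hkey : M p ↥A ≠ ⊥ → P₀ ≤ A := by
      intro hM1
      obtain ⟨N, hN, hN1, hNc⟩ : ∃ N : Subgroup ↥A, N.Normal ∧ N ≠ ⊥ ∧
          ∀ g ∈ N, (g : G) ∈ Subgroup.centralizer (P₀ : Set G) := by
        by_cases hL : Cfsg.layer ↥A = ⊥
        · obtain ⟨⟨r, hr, hrp⟩, hrne⟩ : ∃ r : {r : ℕ // r.Prime ∧ r ≠ p}, Cfsg.pCore (r : ℕ) ↥A ≠ ⊥ := by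
            by_contra h
            push Not at h
            exact hM1 (by simp [M, hL, h])
          haveI : Fact r.Prime := ⟨hr⟩
          haveI := CfsgLib.Solv.pCore_normal ↥A r
          refine ⟨Cfsg.pCore r ↥A ⊓ Subgroup.centralizer (Cfsg.pCore r ↥A : Set ↥A), inferInstance, ?_, fun g hg => ?_⟩
          · obtain ⟨z, hz, ho, hc⟩ := exists_central_order_p (CfsgLib.Solv.pCore_isPGroup ↥A r) hrne
            intro h
            have hzZ : z ∈ Cfsg.pCore r ↥A ⊓ Subgroup.centralizer (Cfsg.pCore r ↥A : Set ↥A) :=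
              ⟨hz, Subgroup.mem_centralizer_iff.2 hc⟩
            rw [h, Subgroup.mem_bot] at hzZ
            rw [hzZ, orderOf_one] at ho
            exact hr.one_lt.ne ho
          · refine hs0 g (hSAc ⟨(le_sup_right : Cfsg.fittingSubgroup ↥A ≤ F) (CfsgLib.Solv.pCore_le_fittingSubgroup hg.1),
              Subgroup.centralizer_le (SetLike.coe_subset_coe.2 hSAF) (center_core_central hg.1 hg.2)⟩) ?_
            obtain ⟨k, hk⟩ := IsPGroup.iff_orderOf.1 (CfsgLib.Solv.pCore_isPGroup ↥A r) ⟨g, hg.1⟩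
            rw [← Subgroup.orderOf_coe] at hk
            rw [hk]
            exact ((Nat.coprime_primes hr hp).2 hrp).pow_left k
        · refine ⟨Cfsg.layer ↥A, layer_normal, hL, ?_⟩
          set L := Cfsg.layer ↥A with hLdef
          set N := Cfsg.pResidual p ↥L with hNdef
          haveI : N.Normal := CfsgLib.Inv.pResidual_normal _ _
          have hq := pResidual_quotient_pgroup N le_rfl
          haveI := hq.isNilpotent
          have htop : commutator (↥L ⧸ N) = ⊤ := by
            have hperf : commutator ↥L = ⊤ := by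
              apply Subgroup.map_injective L.subtype_injective
              rw [commutator_def, Subgroup.map_commutator, ← MonoidHom.range_eq_map, Subgroup.range_subtype, hLdef,
                layer_perfect]
            rw [commutator_def, ← Subgroup.map_top_of_surjective (QuotientGroup.mk' N) (QuotientGroup.mk'_surjective N),
              ← Subgroup.map_commutator, ← commutator_def, hperf]
          have hds : ∀ n, derivedSeries (↥L ⧸ N) n = ⊤ := by
            intro n
            induction n with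
            | zero => rfl
            | succ n ih => rw [derivedSeries_succ, ih, ← commutator_def, htop]
          obtain ⟨n, hn⟩ := (inferInstance : Group.IsSolvable (↥L ⧸ N)).solvable
          rw [hds n] at hn
          have hNtop : N = ⊤ := eq_top_iff.2 fun g _ => (QuotientGroup.eq_one_iff g).1
            (Subgroup.mem_bot.1 (hn ▸ Subgroup.mem_top (g : ↥L ⧸ N)))
          intro g hg
          have hgN : (⟨g, hg⟩ : ↥L) ∈ N := hNtop.symm ▸ Subgroup.mem_top _
          have hle : N ≤ (Subgroup.centralizer (P₀ : Set G)).comap (A.subtype.comp L.subtype) := by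
            rw [hNdef, Cfsg.pResidual, Subgroup.closure_le]
            intro l hl
            exact hs0 (l : ↥A) (layer_le hSAs hSAc l.2) (by rw [Subgroup.orderOf_coe]; exact hl)
          exact hle hgN
      rw [← hnorm N hN hN1]
      refine le_trans ?_ (Subgroup.centralizer_le_normalizer _)
      rw [Subgroup.le_centralizer_iff]
      rintro _ ⟨g, hg, rfl⟩
      exact hNc g hg
    obtain ⟨w, hw, rfl⟩ := hy
    induction hw using Subgroup.closure_induction with
    | mem w hw =>
      have hwM : (w : ↥A) ∈ M p ↥A := mem_M w.2 (by rw [Subgroup.orderOf_coe]; exact hw)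
      rcases eq_or_ne (M p ↥A) ⊥ with h | h
      · rw [h, Subgroup.mem_bot] at hwM
        show x * ((w : ↥A) : G) = ((w : ↥A) : G) * x
        rw [hwM]; simp
      · exact congrArg Subtype.val (Subgroup.mem_centralizer_iff.1 (hR p hp hwM) ⟨x, hkey h hx⟩ hx)
    | one => simp
    | mul a b _ _ ha hb =>
      rw [map_mul, map_mul]
      exact ((show Commute x _ from ha).mul_right (show Commute x _ from hb)).eq
    | inv a _ ha =>
      rw [map_inv, map_inv]
      exact (show Commute x _ from ha).inv_right.eq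

end Cfsg.Agent.S1247
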