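import Cfsg.Statements.S1248
import Cfsg.Agent.Lie.SUThreeTransfer
-- import your own Cfsg.Agent.* helpers here

set_option autoImplicit false
open Cfsg

open scoped commutatorElement

namespace Cfsg.Agent.S1248

/-- Let F be a field with 16 elements and S a Sylow 2-subgroup of PSU(3) over F (the unitary group U₃(4)). Then |S| = 64; the centre Z(S) is a Klein four-group and coincides with the subgroup generated by the involutions of S and with the derived subgroup; and every element of S ⧸ Z(S) squares to the identity, S ⧸ Z(S) having order 16. -/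
theorem result {F : Type*} [Field F] [Fintype F] (hF : Fintype.card F = 16) (S : Sylow 2 (Cfsg.PSU 3 F 4)) : Nat.card S = 64 ∧ IsKleinFour (Subgroup.center (S : Subgroup (Cfsg.PSU 3 F 4))) ∧ Subgroup.center (S : Subgroup (Cfsg.PSU 3 F 4)) = Subgroup.closure {x : (S : Subgroup (Cfsg.PSU 3 F 4)) | orderOf x = 2} ∧ Subgroup.center (S : Subgroup (Cfsg.PSU 3 F 4)) = commutator (S : Subgroup (Cfsg.PSU 3 F 4)) ∧ Nat.card ((S : Subgroup (Cfsg.PSU 3 F 4)) ⧸ Subgroup.center (S : Subgroup (Cfsg.PSU 3 F 4))) = 16 ∧ ∀ x : (S : Subgroup (Cfsg.PSU 3 F 4)) ⧸ Subgroup.center (S : Subgroup (Cfsg.PSU 3 F 4)), x ^ 2 = 1 := by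
  haveI : Fact (Nat.Prime 2) := ⟨Nat.prime_two⟩
  haveI : CharP F 2 := charP_of_card_eq_prime_pow (R := F) (p := 2) (f := 4) (by rw [hF]; norm_num)
  haveI : Fact (Fintype.card F = 4 ^ 2) := ⟨by rw [hF]; norm_num⟩
  obtain ⟨e⟩ := CfsgLib.Lie.SUThreeSylow.exists_iso (n := 2) le_rfl (by norm_num) S
  have hc : Nat.card S = 64 := by
    rw [Nat.card_congr e.toEquiv, CfsgLib.Lie.SUThreeSylow.card_U]; norm_num
  have hmem : ∀ x, x ∈ Subgroup.center ↥(S : Subgroup (Cfsg.PSU 3 F 4)) ↔ (e x).a = 0 := fun x => by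
    rw [CfsgLib.Lie.SUThreeSylow.mem_center_congr e, CfsgLib.Lie.SUThreeSylow.mem_center]
  have hsq : ∀ x : ↥(S : Subgroup (Cfsg.PSU 3 F 4)), x * x = 1 ↔ (e x).a = 0 := fun x => by
    rw [← CfsgLib.Lie.SUThreeSylow.inv_iff, ← map_mul]
    exact ⟨fun h => by rw [h, map_one], fun h => e.injective (h.trans (map_one e).symm)⟩
  have hZ : Nat.card (Subgroup.center ↥(S : Subgroup (Cfsg.PSU 3 F 4))) = 4 := by
    rw [CfsgLib.Lie.SUThreeSylow.card_center_congr e, CfsgLib.Lie.SUThreeSylow.card_center]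
  have hZ2 : ∀ x : Subgroup.center ↥(S : Subgroup (Cfsg.PSU 3 F 4)), x ^ 2 = 1 := fun x =>
    Subtype.ext (by rw [SubgroupClass.coe_pow, pow_two, (hsq x.1).2 ((hmem x.1).1 x.2)]; rfl)
  refine ⟨hc, ⟨hZ, ?_⟩, ?_, ?_, ?_, ?_⟩
  · have hd : Monoid.exponent (Subgroup.center ↥(S : Subgroup (Cfsg.PSU 3 F 4))) ∣ 2 :=
      Monoid.exponent_dvd_of_forall_pow_eq_one hZ2
    rcases (Nat.dvd_prime Nat.prime_two).1 hd with h | h
    · exfalso
      haveI := Monoid.exp_eq_one_iff.1 h
      have := Finite.card_le_one_iff_subsingleton.2 this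
      omega
    · exact h
  · refine le_antisymm (fun x hx => ?_) ((Subgroup.closure_le _).2 fun x hx => ?_)
    · by_cases h1 : x = 1
      · rw [h1]; exact one_mem _
      · refine Subgroup.subset_closure (orderOf_eq_prime ?_ h1)
        rw [pow_two]; exact (hsq x).2 ((hmem x).1 hx)
    · refine (hmem x).2 ((hsq x).1 ?_)
      have h2 : x ^ orderOf x = x ^ 2 := congrArg (x ^ ·) (show orderOf x = 2 from hx)
      rw [← pow_two, ← h2, pow_orderOf_eq_one]
  · refine le_antisymm (fun x hx => ?_) (Subgroup.commutator_le.2 fun a _ b _ => ?_)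
    · obtain ⟨a, b, hab⟩ := CfsgLib.Lie.SUThreeSylow.center_le_commutator ((hmem x).1 hx)
      have hx' : x = ⁅e.symm a, e.symm b⁆ := by rw [← map_commutatorElement, hab, MulEquiv.symm_apply_apply]
      rw [hx']
      exact Subgroup.commutator_mem_commutator (Subgroup.mem_top _) (Subgroup.mem_top _)
    · rw [hmem, map_commutatorElement]; exact CfsgLib.Lie.SUThreeSylow.comm_a _ _
  · have h := Subgroup.card_eq_card_quotient_mul_card_subgroup
      (Subgroup.center ↥(S : Subgroup (Cfsg.PSU 3 F 4)))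
    rw [hc, hZ] at h
    omega
  · intro x
    obtain ⟨y, rfl⟩ := QuotientGroup.mk'_surjective _ x
    rw [← map_pow, QuotientGroup.mk'_apply, QuotientGroup.eq_one_iff, hmem, pow_two, map_mul]
    exact (CfsgLib.Lie.SUThreeSylow.sq_eq (e y)).1


end Cfsg.Agent.S1248
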