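import Cfsg.Statements.S1249
import Mathlib.GroupTheory.Sylow

set_option autoImplicit false
open Cfsg

namespace Cfsg.Agent.S1249

/-- Let P and Q be Sylow p-subgroups of the finite group G both containing the subgroup A. If A is strongly closed in P, then A is strongly closed in Q. -/
theorem result {G : Type*} [Group G] [Finite G] {p : ℕ} [Fact p.Prime] (P Q : Sylow p G) (A : Subgroup G) (hAQ : A ≤ Q) (hA : Cfsg.IsStronglyClosed A (P : Subgroup G)) : Cfsg.IsStronglyClosed A (Q : Subgroup G) := by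
  obtain ⟨h, rfl⟩ := MulAction.exists_smul_eq G P Q
  refine ⟨hAQ, fun x hx g hg => ?_⟩
  have hinvA : ∀ a ∈ A, h⁻¹ * a * h ∈ A := by
    intro a ha
    have h1 : a ∈ (P : Subgroup G).map (MulAut.conj h).toMonoidHom := hAQ ha
    obtain ⟨p', hp', he⟩ := h1
    have he' : h * p' * h⁻¹ = a := he
    have h2 : h⁻¹ * a * h ∈ (P : Subgroup G) := by
      rw [← he', show h⁻¹ * (h * p' * h⁻¹) * h = p' by group]; exact hp'
    simpa using hA.2 a ha h⁻¹ (by simpa using h2)
  have h1 : g * x * g⁻¹ ∈ (P : Subgroup G).map (MulAut.conj h).toMonoidHom := hg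
  obtain ⟨q, hq, he⟩ := h1
  have he' : h * q * h⁻¹ = g * x * g⁻¹ := he
  have hqA : q ∈ A := by
    have e : q = (h⁻¹ * g) * x * (h⁻¹ * g)⁻¹ := by
      calc q = h⁻¹ * (h * q * h⁻¹) * h := by group
        _ = _ := by rw [he']; group
    rw [e] at hq ⊢
    exact hA.2 x hx _ hq
  let f : A → A := fun a => ⟨h⁻¹ * (a : G) * h, hinvA a a.2⟩
  have hf : Function.Injective f := fun a b e =>
    Subtype.ext (mul_left_cancel (mul_right_cancel (congrArg (fun y : A => (y : G)) e)))
  obtain ⟨⟨a, ha⟩, hb⟩ := Finite.injective_iff_surjective.1 hf ⟨q, hqA⟩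
  have hb' : h⁻¹ * a * h = q := congrArg (fun y : A => (y : G)) hb
  rw [← he', ← hb']
  simpa [mul_assoc] using ha

end Cfsg.Agent.S1249
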