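import Cfsg.Statements.S1250
import Mathlib.GroupTheory.Sylow

set_option autoImplicit false
open Cfsg

namespace Cfsg.Agent.S1250

/-- Let S be a Sylow p-subgroup of the finite group G, A ≤ S strongly closed in S, and N a normal subgroup. Then the image of A in G ⧸ N is strongly closed in the image of S (which is a Sylow p-subgroup of G ⧸ N). -/
theorem result {G : Type*} [Group G] [Finite G] {p : ℕ} [Fact p.Prime] (S : Sylow p G) (A : Subgroup G) (hA : Cfsg.IsStronglyClosed A (S : Subgroup G)) (N : Subgroup G) [N.Normal] : Cfsg.IsStronglyClosed (A.map (QuotientGroup.mk' N)) ((S : Subgroup G).map (QuotientGroup.mk' N)) := by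
  refine ⟨Subgroup.map_mono hA.1, ?_⟩
  rintro _ ⟨x, hx, rfl⟩ q hq
  obtain ⟨g, rfl⟩ := QuotientGroup.mk_surjective q
  set M := (S : Subgroup G) ⊔ N
  set y := g * x * g⁻¹
  have hyM : y ∈ M := by
    obtain ⟨s, hs, he⟩ := hq
    have he' : (QuotientGroup.mk s : G ⧸ N) = QuotientGroup.mk y := he
    have : s⁻¹ * y ∈ N := QuotientGroup.eq.1 he'
    simpa using Subgroup.mul_mem_sup hs this
  have hyp : IsPGroup p ↥(Subgroup.zpowers (⟨y, hyM⟩ : M)) := by
    obtain ⟨k, hk⟩ := S.isPGroup' ⟨x, hA.1 hx⟩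
    have hxk : x ^ (p ^ k) = 1 := by simpa [Subtype.ext_iff] using hk
    rintro ⟨_, i, rfl⟩
    refine ⟨k, Subtype.ext (Subtype.ext ?_)⟩
    simp only [SubmonoidClass.coe_pow, SubgroupClass.coe_zpow, OneMemClass.coe_one, y]
    rw [← zpow_natCast, zpow_comm, zpow_natCast, conj_pow, hxk]
    simp
  obtain ⟨Q, hQ⟩ := hyp.exists_le_sylow
  obtain ⟨m, rfl⟩ := MulAction.exists_smul_eq M (S.subtype (le_sup_left : (S : Subgroup G) ≤ M)) Q
  obtain ⟨s, hs, he⟩ := (hQ (Subgroup.mem_zpowers _) :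
    (⟨y, hyM⟩ : M) ∈ ((S.subtype (le_sup_left : (S : Subgroup G) ≤ M) : Sylow p M) : Subgroup M).map (MulAut.conj m).toMonoidHom)
  have he' : (m : G) * s * (m : G)⁻¹ = y := congrArg Subtype.val he
  have hs' : (s : G) ∈ (S : Subgroup G) := hs
  obtain ⟨s₀, hs₀, n, hn, hm⟩ := Subgroup.mem_sup_of_normal_right.1 m.2
  set w := (s : G)
  have hwA : w ∈ A := by
    have e : w = ((m : G)⁻¹ * g) * x * ((m : G)⁻¹ * g)⁻¹ := by
      calc w = (m : G)⁻¹ * ((m : G) * w * (m : G)⁻¹) * m := by group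
        _ = _ := by rw [he']; simp [y, mul_assoc]
    rw [e] at hs' ⊢
    exact hA.2 x hx _ hs'
  have hw2 : s₀ * w * s₀⁻¹ ∈ A := hA.2 w hwA s₀ (mul_mem (mul_mem hs₀ (hA.1 hwA)) (inv_mem hs₀))
  refine ⟨_, hw2, ?_⟩
  show (QuotientGroup.mk (s₀ * w * s₀⁻¹) : G ⧸ N) = QuotientGroup.mk g * QuotientGroup.mk x * (QuotientGroup.mk g)⁻¹
  rw [← QuotientGroup.mk_inv, ← QuotientGroup.mk_mul, ← QuotientGroup.mk_mul]
  show _ = QuotientGroup.mk y
  rw [← he', ← hm]
  simp [(QuotientGroup.eq_one_iff n).2 hn, mul_assoc]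

end Cfsg.Agent.S1250
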