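import Cfsg.Statements.S1251
import Cfsg.Agent.Base.ZStar.Holds
import Cfsg.Agent.Solv.CoprimeSylow

set_option autoImplicit false
open Cfsg

namespace Cfsg.Agent.S1251

universe w in
open scoped commutatorElement in
theorem central_of_isolated_set : ∀ (n : ℕ) (L : Type w) [Group L] [Finite L], Nat.card L = n →
    ∀ (H A : Subgroup L) (_ : H.Normal) (P : Sylow 2 L), A ≤ (P : Subgroup L) → A ⊓ H = ⊥ → A ⊔ H = ⊤ →
      (∀ N : Subgroup L, N.Normal → N ≤ H → Odd (Nat.card N) → N = ⊥) →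
      (∀ a ∈ A, ∀ g ∈ H, g * a * g⁻¹ ∈ P → g * a * g⁻¹ = a) →
      A ≤ Subgroup.centralizer (H : Set L) := by
  intro n
  induction n using Nat.strong_induction_on with
  | _ n ih =>
  intro L _ _ hn H A hHn P hAP hdisj hsup hO hiso
  haveI := hHn
  haveI : Fact (Nat.Prime 2) := ⟨Nat.prime_two⟩
  by_cases hA : A = ⊥
  · rw [hA]; exact bot_le
  have hAp : IsPGroup 2 A := P.2.to_le hAP
  obtain ⟨k, hk⟩ := IsPGroup.iff_card.1 hAp
  haveI : Nontrivial A := (Subgroup.nontrivial_iff_ne_bot A).2 hA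
  haveI := hAp.center_nontrivial
  obtain ⟨j, hj0, hj⟩ := (hAp.to_subgroup (Subgroup.center A)).nontrivial_iff_card.1 inferInstance
  obtain ⟨c, hc⟩ := exists_prime_orderOf_dvd_card' 2 (hj ▸ dvd_pow_self 2 hj0.ne' : 2 ∣ Nat.card (Subgroup.center A))
  set z : L := ((c : A) : L) with hzdef
  have hzA : z ∈ A := (c : A).2
  have hz : orderOf z = 2 := by rw [hzdef, Subgroup.orderOf_coe, Subgroup.orderOf_coe, hc]
  have hzZ : ∀ a ∈ A, a * z = z * a := fun a ha =>
    congrArg Subtype.val (Subgroup.mem_center_iff.1 c.2 ⟨a, ha⟩)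
  obtain ⟨N, hNn, hNodd, hN⟩ := CfsgLib.Base.ZStar.zstar P z hz (hAP hzA) (fun g hg => by
    have hg' : g ∈ ((A ⊔ H : Subgroup L) : Set L) := by rw [hsup]; trivial
    rw [Subgroup.mul_normal] at hg'
    obtain ⟨a, ha, x, hx, rfl⟩ := hg'
    have e : a * x * z * (a * x)⁻¹ = a * (x * z * x⁻¹) * a⁻¹ := by group
    rw [e] at hg ⊢
    have h1 : x * z * x⁻¹ ∈ P := by
      show x * z * x⁻¹ ∈ (P : Subgroup L)
      simpa [mul_assoc] using mul_mem (mul_mem (inv_mem (hAP ha)) hg) (hAP ha)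
    rw [hiso z hzA x hx h1, hzZ a ha, mul_inv_cancel_right])
  haveI := hNn
  have hN1 : N = ⊥ := by
    have hNH : N ⊓ H = ⊥ := hO _ inferInstance inf_le_right (hNodd.of_dvd_nat (Subgroup.card_dvd_of_le inf_le_left))
    have h1 := CfsgLib.Solv.card_sup_mul_card_inf N H
    rw [hNH, Subgroup.card_bot, mul_one] at h1
    have h3 := CfsgLib.Solv.card_sup_mul_card_inf A H
    rw [hdisj, Subgroup.card_bot, mul_one, hsup, hk] at h3
    have hd : Nat.card N ∣ 2 ^ k := by
      refine Nat.dvd_of_mul_dvd_mul_right (Nat.card_pos (α := H)) ?_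
      rw [← h1, ← h3]
      exact Subgroup.card_dvd_of_le le_top
    exact Subgroup.eq_bot_of_card_eq N (Nat.eq_one_of_dvd_coprimes
      (Nat.Coprime.pow_right k (Nat.coprime_two_right.2 hNodd)) dvd_rfl hd)
  have hzc : ∀ g : L, Commute g z := by
    intro g
    have h := hN g
    rw [hN1, Subgroup.mem_bot] at h
    exact ((mul_inv_eq_iff_eq_mul.1 (mul_inv_eq_one.1 h)).symm : g * z = z * g)
  set Z := Subgroup.zpowers z with hZdef
  haveI : Z.Normal := ⟨fun x hx g => by
    obtain ⟨i, rfl⟩ := Subgroup.mem_zpowers_iff.1 hx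
    rw [((hzc g).zpow_right i).eq, mul_inv_cancel_right]
    exact zpow_mem (Subgroup.mem_zpowers z) i⟩
  have hZA : Z ≤ A := Subgroup.zpowers_le.2 hzA
  set π := QuotientGroup.mk' Z with hπ
  have hπs : Function.Surjective π := QuotientGroup.mk'_surjective Z
  have hcZ : Nat.card Z = 2 := by rw [hZdef, Nat.card_zpowers, hz]
  have hlt : Nat.card (L ⧸ Z) < n := by
    rw [← hn, Z.card_eq_card_quotient_mul_card_subgroup, hcZ]
    have := Nat.card_pos (α := L ⧸ Z)
    omega
  have hmapP : ∀ x : L, π x ∈ (P : Subgroup L).map π → x ∈ (P : Subgroup L) := by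
    rintro x ⟨y, hy, hxy⟩
    have h : y⁻¹ * x ∈ Z := by
      rw [← QuotientGroup.eq_one_iff, ← QuotientGroup.mk'_apply, ← hπ, map_mul, map_inv, hxy, inv_mul_cancel]
    simpa using mul_mem hy (hAP (hZA h))
  have h := ih _ hlt (L ⧸ Z) rfl (H.map π) (A.map π) (Subgroup.Normal.map inferInstance _ hπs)
    (P.mapSurjective hπs) ?_ ?_ ?_ ?_ ?_
  · intro a ha
    rw [Subgroup.mem_centralizer_iff]
    intro x hx
    have h1 : π (⁅x, a⁆) = 1 := by
      rw [map_commutatorElement, commutatorElement_eq_one_iff_mul_comm]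
      exact Subgroup.mem_centralizer_iff.1 (h ⟨a, ha, rfl⟩) (π x) ⟨x, hx, rfl⟩
    rw [hπ, QuotientGroup.mk'_apply, QuotientGroup.eq_one_iff] at h1
    have h2 : ⁅x, a⁆ ∈ A ⊓ H := by
      refine Subgroup.mem_inf.2 ⟨hZA h1, ?_⟩
      have e : ⁅x, a⁆ = x * (a * x⁻¹ * a⁻¹) := by rw [commutatorElement_def]; group
      rw [e]
      exact mul_mem hx (hHn.conj_mem _ (inv_mem hx) a)
    rw [hdisj, Subgroup.mem_bot, commutatorElement_eq_one_iff_mul_comm] at h2
    exact h2
  · rintro _ ⟨a, ha, rfl⟩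
    exact ⟨a, hAP ha, rfl⟩
  · rw [eq_bot_iff]
    rintro _ ⟨⟨a, ha, rfl⟩, x, hx, hxa⟩
    have h1 : a⁻¹ * x ∈ Z := by
      rw [← QuotientGroup.eq_one_iff, ← QuotientGroup.mk'_apply, ← hπ, map_mul, map_inv, hxa, inv_mul_cancel]
    have h2 : x ∈ A ⊓ H := Subgroup.mem_inf.2 ⟨by simpa using mul_mem ha (hZA h1), hx⟩
    rw [hdisj, Subgroup.mem_bot] at h2
    rw [← hxa, h2, map_one]
    exact one_mem _
  · rw [← Subgroup.map_sup, hsup, Subgroup.map_top_of_surjective _ hπs]
  · intro N' hN' hle hodd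
    haveI := hN'
    haveI : (N'.comap π).Normal := inferInstance
    set M := N'.comap π ⊓ H with hM
    have hModd : Odd (Nat.card M) := by
      rw [← Nat.not_even_iff_odd, even_iff_two_dvd]
      intro h
      obtain ⟨⟨m, hm⟩, hmo⟩ := exists_prime_orderOf_dvd_card' 2 h
      rw [Subgroup.orderOf_mk] at hmo
      have h1 : orderOf (π m) ∣ 2 := hmo ▸ orderOf_map_dvd π m
      have h2 : orderOf (π m) ∣ Nat.card N' := Subgroup.orderOf_dvd_natCard N' (Subgroup.mem_inf.1 hm).1
      have h3 : π m = 1 := orderOf_eq_one_iff.1 (Nat.eq_one_of_dvd_coprimes (Nat.coprime_two_left.2 hodd) h1 h2)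
      have h4 : m ∈ A ⊓ H := Subgroup.mem_inf.2 ⟨hZA ((QuotientGroup.eq_one_iff m).1 h3), (Subgroup.mem_inf.1 hm).2⟩
      rw [hdisj, Subgroup.mem_bot] at h4
      rw [h4, orderOf_one] at hmo
      omega
    have hMb : M = ⊥ := hO M inferInstance inf_le_right hModd
    rw [eq_bot_iff]
    intro y hy
    obtain ⟨x, hx, rfl⟩ := hle hy
    have : x ∈ M := Subgroup.mem_inf.2 ⟨hy, hx⟩
    rw [hMb, Subgroup.mem_bot] at this
    rw [this, map_one]; exact one_mem _
  · rintro _ ⟨a, ha, rfl⟩ _ ⟨g, hgH, rfl⟩ hg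
    rw [← map_inv, ← map_mul, ← map_mul] at hg ⊢
    rw [hiso a ha g hgH (hmapP _ hg)]

/-- Let S be a Sylow 2-subgroup of the finite group G and A ≤ S strongly closed in S. If H is a subgroup normalized by A with no nontrivial normal subgroup of odd order and A ∩ H = 1, then A ≤ C_G(H). -/
theorem result {G : Type*} [Group G] [Finite G] (S : Sylow 2 G) (A : Subgroup G) (hA : Cfsg.IsStronglyClosed A (S : Subgroup G)) (H : Subgroup G) (hAH : A ≤ Subgroup.normalizer (H : Set G)) (hO : Cfsg.oddCore ↥H = ⊥) (hdisj : A ⊓ H = ⊥) : A ≤ Subgroup.centralizer (H : Set G) := by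
  open CfsgLib.Solv in
  open scoped Pointwise in
  exact (by
    set L := A ⊔ H with hL
    have hAL : A ≤ L := le_sup_left
    have hHL : H ≤ L := le_sup_right
    have hLN : L ≤ Subgroup.normalizer (H : Set G) := sup_le hAH Subgroup.le_normalizer
    have hn : (H.subgroupOf L).Normal := Subgroup.normal_subgroupOf_of_le_normalizer hLN
    have hAp : IsPGroup 2 (A.subgroupOf L) := (S.2.to_le hA.1).comap_of_injective L.subtype L.subtype_injective
    obtain ⟨P, hP⟩ := hAp.exists_le_sylow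
    obtain ⟨T, hT⟩ := (P.2.map L.subtype).exists_le_sylow
    obtain ⟨x, hx⟩ := MulAction.exists_smul_eq G S T
    have hAT : A ≤ (T : Subgroup G) := fun a ha => hT ⟨⟨a, hAL ha⟩, hP (Subgroup.mem_subgroupOf.2 ha), rfl⟩
    have hcl : ∀ a ∈ A, x⁻¹ * a * x ∈ A := fun a ha => by
      have h := hAT ha
      rw [← hx, Sylow.coe_subgroup_smul, mem_conj_smul_iff] at h
      have := hA.2 a ha x⁻¹ (by simpa using h)
      simpa using this
    have hxA : MulAut.conj x • A = A := by
      refine (Subgroup.eq_of_le_of_card_ge (fun a ha => ?_) (card_conj_smul x A).le).symm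
      rw [mem_conj_smul_iff]
      exact hcl a ha
    have key := central_of_isolated_set _ L rfl (H.subgroupOf L) (A.subgroupOf L) hn P hP ?_ ?_ ?_ ?_
    · intro a ha
      rw [Subgroup.mem_centralizer_iff]
      intro y hy
      have h := Subgroup.mem_centralizer_iff.1 (key (Subgroup.mem_subgroupOf.2 ha : (⟨a, hAL ha⟩ : L) ∈ A.subgroupOf L))
        ⟨y, hHL hy⟩ (Subgroup.mem_subgroupOf.2 hy)
      exact congrArg Subtype.val h
    · rw [eq_bot_iff]
      rintro y ⟨hy1, hy2⟩
      have : (y : G) ∈ A ⊓ H := Subgroup.mem_inf.2 ⟨hy1, hy2⟩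
      rw [hdisj, Subgroup.mem_bot, OneMemClass.coe_eq_one] at this
      rw [this]; exact one_mem _
    · rw [eq_top_iff]
      intro y _
      have hy : (y : G) ∈ L := y.2
      have hmap : (A.subgroupOf L ⊔ H.subgroupOf L).map L.subtype = L := by
        rw [Subgroup.map_sup, Subgroup.map_subgroupOf_eq_of_le hAL, Subgroup.map_subgroupOf_eq_of_le hHL]
      obtain ⟨w, hw, he⟩ := hmap.ge hy
      rwa [L.subtype_injective he] at hw
    · intro N hN hNH hodd
      haveI := hN
      set N0 := N.map L.subtype with hN0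
      have hN0H : N0 ≤ H := by
        rintro _ ⟨m, hm, rfl⟩
        exact hNH hm
      haveI : (N0.subgroupOf H).Normal := ⟨fun m hm h => by
        obtain ⟨m', hm', he⟩ := hm
        exact ⟨_, hN.conj_mem m' hm' ⟨h, hHL h.2⟩, by
          show (h : G) * (m' : G) * (h : G)⁻¹ = (h : G) * (m : G) * (h : G)⁻¹
          rw [show (m' : G) = (m : G) from he]⟩⟩
      have h1 : N0.subgroupOf H ≤ Cfsg.oddCore ↥H := CfsgLib.Base.ZStar.le_oddCore inferInstance
        (by rw [Nat.card_congr (Subgroup.subgroupOfEquivOfLe hN0H).toEquiv, hN0,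
          ← Nat.card_congr (Subgroup.equivMapOfInjective N _ L.subtype_injective).toEquiv]; exact hodd)
      rw [hO, le_bot_iff, Subgroup.subgroupOf_eq_bot, disjoint_iff, inf_eq_left.2 hN0H, hN0,
        Subgroup.map_eq_bot_iff_of_injective _ L.subtype_injective] at h1
      exact h1
    · intro a ha g hg hgP
      have hT' : (g : G) * (a : G) * (g : G)⁻¹ ∈ (T : Subgroup G) := hT ⟨_, hgP, rfl⟩
      rw [← hx, Sylow.coe_subgroup_smul, mem_conj_smul_iff] at hT'
      have h1 := hA.2 _ ha (x⁻¹ * g) (by simpa [mul_assoc] using hT')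
      have h2 : (g : G) * (a : G) * (g : G)⁻¹ ∈ A := by
        rw [← hxA, mem_conj_smul_iff]
        simpa [mul_assoc] using h1
      have hgH : (g : G) ∈ H := hg
      have haA : (a : G) ∈ A := ha
      have h3 : (g : G) * a * (g : G)⁻¹ * (a : G)⁻¹ ∈ A ⊓ H := by
        refine Subgroup.mem_inf.2 ⟨mul_mem h2 (inv_mem haA), ?_⟩
        have e : (g : G) * a * (g : G)⁻¹ * (a : G)⁻¹ = g * (a * (g : G)⁻¹ * (a : G)⁻¹) := by group
        rw [e]
        exact mul_mem hgH ((Subgroup.mem_normalizer_iff.1 (hAH haA) _).1 (inv_mem hgH))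
      rw [hdisj, Subgroup.mem_bot, mul_inv_eq_one] at h3
      exact Subtype.ext h3)

end Cfsg.Agent.S1251
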