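import Cfsg.Statements.S1254
import Cfsg.Agent.Inv.DihedralFusion

set_option autoImplicit false
open Cfsg

namespace Cfsg.Agent.S1254

/-- Let X be a finite group whose Sylow 2-subgroup S is dihedral (of order at least 4). Then X has a normal 2-complement if and only if, for every Klein four-subgroup U ≤ S, the normalizer N_X(U) is generated by C_X(U) and N_S(U). -/
theorem result {X : Type*} [Group X] [Finite X] (S : Sylow 2 X) (m : ℕ) (hm : 2 ≤ m) (eS : (S : Subgroup X) ≃* DihedralGroup m) : Cfsg.HasNormalPComplement 2 X ↔ ∀ U : Subgroup X, U ≤ S → IsKleinFour U → Subgroup.normalizer (U : Set X) = Subgroup.centralizer (U : Set X) ⊔ ((S : Subgroup X) ⊓ Subgroup.normalizer (U : Set X)) := by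
  open CfsgLib.Inv CfsgLib.Solv in
  open scoped Pointwise in
  exact (by
    haveI : Fact (Nat.Prime 2) := ⟨Nat.prime_two⟩
    obtain ⟨d, -, ⟨D⟩⟩ := DData.of_equiv hm S.2 eS
    constructor
    · intro h U hUS hU
      refine le_antisymm (fun n hn => ?_) (sup_le (Subgroup.centralizer_le_normalizer _) inf_le_right)
      obtain ⟨K, hK, hKc⟩ : ∃ K : Subgroup X, K.Normal ∧ Subgroup.IsComplement' K (S : Subgroup X) :=
        ⟨Cfsg.pResidual 2 X, CfsgLib.Inv.pResidual_normal 2 X, isComplement'_pResidual h S⟩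
      haveI := hK
      obtain ⟨⟨⟨s, hs⟩, ⟨k, hk⟩⟩, he : s * k = n⟩ := hKc.symm.existsUnique n |>.exists
      have hconj : ∀ u ∈ U, k * u * k⁻¹ = u := by
        intro u hu
        have h1 : k * u * k⁻¹ ∈ (S : Subgroup X) := by
          have h2 := hUS ((Subgroup.mem_normalizer_iff.1 hn u).1 hu)
          have e : k * u * k⁻¹ = s⁻¹ * (n * u * n⁻¹) * s := by rw [← he]; group
          rw [e]
          exact mul_mem (mul_mem (inv_mem hs) h2) hs
        have h3 : k * u * k⁻¹ * u⁻¹ ∈ K ⊓ (S : Subgroup X) := by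
          refine Subgroup.mem_inf.2 ⟨?_, mul_mem h1 (inv_mem (hUS hu))⟩
          have e : k * u * k⁻¹ * u⁻¹ = k * (u * k⁻¹ * u⁻¹) := by group
          rw [e]
          exact mul_mem hk (hK.conj_mem _ (inv_mem hk) u)
        rw [disjoint_iff.1 hKc.disjoint, Subgroup.mem_bot, mul_inv_eq_one] at h3
        exact h3
      have hkC : k ∈ Subgroup.centralizer (U : Set X) :=
        Subgroup.mem_centralizer_iff.2 fun u hu => (mul_inv_eq_iff_eq_mul.1 (hconj u hu)).symm
      have hsN : s ∈ Subgroup.normalizer (U : Set X) := by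
        have : s = n * k⁻¹ := by rw [← he, mul_inv_cancel_right]
        rw [this]
        exact mul_mem hn (inv_mem (Subgroup.centralizer_le_normalizer _ hkC))
      rw [← he]
      exact mul_mem (Subgroup.mem_sup_right (Subgroup.mem_inf.2 ⟨hs, hsN⟩)) (Subgroup.mem_sup_left hkC)
    · intro h
      refine hnpc_iff_frobCond.2 (frobCond_of_not_fused S D fun U hUS hU => ?_)
      rintro ⟨g, hg, hodd, hgc⟩
      refine hgc ?_
      set N := Subgroup.normalizer (U : Set X) with hN
      set C := (Subgroup.centralizer (U : Set X)).subgroupOf N with hC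
      haveI : C.Normal := centralizer_normal_in_normalizer U
      set R := ((S : Subgroup X) ⊓ N).subgroupOf N with hR
      have hgen : (⟨g, hg⟩ : N) ∈ C ⊔ R := by
        have hCN : Subgroup.centralizer (U : Set X) ≤ N := Subgroup.centralizer_le_normalizer _
        have hmap : (C ⊔ R).map N.subtype = N := by
          rw [Subgroup.map_sup, hC, hR, Subgroup.map_subgroupOf_eq_of_le hCN, Subgroup.map_subgroupOf_eq_of_le inf_le_right]
          exact (h U hUS hU).symm
        obtain ⟨w, hw, he⟩ := hmap.ge hg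
        rwa [show (⟨g, hg⟩ : N) = w from Subtype.ext he.symm]
      have hgen' : (⟨g, hg⟩ : N) ∈ (C : Set N) * (R : Set N) := by
        rw [← Subgroup.normal_mul]; exact hgen
      obtain ⟨c, hc, r, hr, he⟩ := hgen'
      have h1 : (QuotientGroup.mk' C) ⟨g, hg⟩ = QuotientGroup.mk' C r := by
        rw [← he, map_mul, show QuotientGroup.mk' C c = 1 from (QuotientGroup.eq_one_iff c).2 hc, one_mul]
      obtain ⟨k, hk⟩ := IsPGroup.iff_orderOf.1 S.2 ⟨(r : X), (Subgroup.mem_inf.1 (Subgroup.mem_subgroupOf.1 hr)).1⟩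
      rw [Subgroup.orderOf_mk, Subgroup.orderOf_coe] at hk
      have h2 : QuotientGroup.mk' C ⟨g, hg⟩ = 1 := by
        refine orderOf_eq_one_iff.1 (Nat.eq_one_of_dvd_coprimes (a := 2 ^ k) (b := orderOf (⟨g, hg⟩ : N))
          (Nat.Coprime.pow_left k (Nat.coprime_two_left.2 (by rwa [Subgroup.orderOf_mk]))) ?_ (orderOf_map_dvd _ _))
        rw [h1, ← hk]
        exact orderOf_map_dvd _ _
      exact Subgroup.mem_subgroupOf.1 ((QuotientGroup.eq_one_iff _).1 h2))

end Cfsg.Agent.S1254
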