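import Cfsg.Statements.S1256
import Cfsg.Agent.Inv.DihedralFusion

set_option autoImplicit false
open Cfsg

namespace Cfsg.Agent.S1256

/-- Let X be a finite group whose Sylow 2-subgroup S is dihedral of order 2m ≥ 4. If |S| = 4, any two Klein four-subgroups of X are conjugate; if |S| > 4, there are Klein four-subgroups U₁, U₂ of X that are not conjugate, and every Klein four-subgroup of X is conjugate to U₁ or to U₂. -/
theorem result {X : Type*} [Group X] [Finite X] (S : Sylow 2 X) (m : ℕ) (hm : 2 ≤ m) (eS : (S : Subgroup X) ≃* DihedralGroup m) : (Nat.card S = 4 → ∀ U V : Subgroup X, IsKleinFour U → IsKleinFour V → (∃ x : X, U.map (MulAut.conj x).toMonoidHom = V)) ∧ (4 < Nat.card S → ∃ U₁ U₂ : Subgroup X, IsKleinFour U₁ ∧ IsKleinFour U₂ ∧ ¬ (∃ x : X, U₁.map (MulAut.conj x).toMonoidHom = U₂) ∧ ∀ V : Subgroup X, IsKleinFour V → (∃ x : X, V.map (MulAut.conj x).toMonoidHom = U₁) ∨ (∃ x : X, V.map (MulAut.conj x).toMonoidHom = U₂)) := by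
  open CfsgLib.Inv CfsgLib.Solv in
  open scoped Pointwise in
  exact (by
    obtain ⟨d, -, ⟨D⟩⟩ := DData.of_equiv hm S.2 eS
    have hd : Nat.card S = 2 ^ (d + 2) := D.card_eq
    constructor
    · intro h4 U V hU hV
      have hd0 : d = 0 := by
        rw [hd, show (4 : ℕ) = 2 ^ 2 by rfl] at h4
        have := Nat.pow_right_injective le_rfl h4
        omega
      obtain ⟨g, i, hg⟩ := klein_conj S D hU
      obtain ⟨g', j, hg'⟩ := klein_conj S D hV
      obtain ⟨s, -, hs⟩ := dsub_four_conj S D (i := i) (j := j) (Or.inr hd0)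
      refine ⟨g'⁻¹ * s * g, ?_⟩
      rw [map_conj_eq, map_mul, map_mul, mul_smul, mul_smul, hg, hs, ← hg', ← mul_smul, ← map_mul, inv_mul_cancel, map_one, one_smul]
    · intro h4
      have hd1 : 1 ≤ d := by
        by_contra hd0
        rw [hd, show d = 0 by omega] at h4
        norm_num at h4
      refine ⟨dsub S D 0 d, dsub S D 1 d, dsub_isKlein S D 0, dsub_isKlein S D 1, ?_, fun V hV => ?_⟩
      · rintro ⟨x, hx⟩
        have := dsub_parity S D d le_rfl 0 1 x hd1 (fun q hq => by
          rw [← hx]; exact ⟨q, hq, rfl⟩)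
        omega
      · obtain ⟨g, i, hg⟩ := klein_conj S D hV
        rcases Int.even_or_odd i with hi | hi
        · obtain ⟨s, -, hs⟩ := dsub_four_conj S D (i := i) (j := 0) (Or.inl (by rwa [sub_zero]))
          exact Or.inl ⟨s * g, by rw [map_conj_eq, map_mul, mul_smul, hg, hs]⟩
        · obtain ⟨s, -, hs⟩ := dsub_four_conj S D (i := i) (j := 1) (Or.inl (hi.sub_odd odd_one))
          exact Or.inr ⟨s * g, by rw [map_conj_eq, map_mul, mul_smul, hg, hs]⟩)

end Cfsg.Agent.S1256
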