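import Cfsg.Statements.S1270
import Cfsg.Agent.Solv.CompBalanceMain

set_option autoImplicit false
open Cfsg
open scoped commutatorElement Pointwise

namespace Cfsg.Agent.S1270

/-- Let G be finite with O_{p'}(G) = 1, x of order p, and L a component with ⁅L, ⟨x⟩⁆ ≠ L. Then ⁅L, O_{p'}(C_G(x))⁆ = 1. -/
theorem result {G : Type*} [Group G] [Finite G] (p : ℕ) [Fact p.Prime] (hO : Cfsg.pPrimeCore p G = ⊥) (x : G) (hx : orderOf x = p) (L : Subgroup G) (hL : Cfsg.IsComponent L) (hne : ⁅L, Subgroup.zpowers x⁆ ≠ L) : ⁅L, Cfsg.centralizerPPrimeCore p x⁆ = ⊥ := by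
  have hdvd := CfsgLib.Solv.CompBal.dvd_card_component hO hL
  set C := Subgroup.centralizer ({x} : Set G) with hC
  haveI := CfsgLib.Solv.pPrimeCore_normal C p
  set Y := Cfsg.centralizerPPrimeCore p x with hY
  have hYN : C ≤ Subgroup.normalizer (Y : Set G) := fun c hc => Subgroup.mem_normalizer_fintype fun z hz => by
    obtain ⟨z', hz', rfl⟩ := hz
    exact ⟨⟨c, hc⟩ * z' * ⟨c, hc⟩⁻¹, (CfsgLib.Solv.pPrimeCore_normal C p).conj_mem _ hz' _, rfl⟩
  rw [Subgroup.commutator_eq_bot_iff_le_centralizer, Subgroup.le_centralizer_iff]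
  by_cases hxN : x ∈ Subgroup.normalizer (L : Set G)
  swap
  · exact CfsgLib.Solv.CompBal.moved_commutes hx hL hdvd
      (fun e => hxN (CfsgLib.Solv.mem_normalizer_of_conj_smul_eq e)) (CfsgLib.Solv.CompBal.core_cent_le x)
      (CfsgLib.Solv.CompBal.core_cent_coprime x) hYN
  refine CfsgLib.Solv.CompBal.fixed_commutes hL hdvd ?_ (CfsgLib.Solv.CompBal.core_cent_le x)
    (CfsgLib.Solv.CompBal.core_cent_coprime x) hYN
  have hle : ⁅L, Subgroup.zpowers x⁆ ≤ L :=
    CfsgLib.Solv.commutator_le_of_le_normalizer (Subgroup.zpowers_le.2 hxN)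
  haveI hn : (⁅L, Subgroup.zpowers x⁆.subgroupOf L).Normal :=
    Subgroup.normal_subgroupOf_of_le_normalizer (CfsgLib.Solv.left_le_normalizer_commutator L (Subgroup.zpowers x))
  rcases CfsgLib.Inv.quasisimple_subnormal hL.2 hn.isSubnormal with h | h
  swap
  · exact absurd (le_antisymm hle (Subgroup.subgroupOf_eq_top.1 h)) hne
  have hxC : x ∈ Subgroup.centralizer (L : Set G) := by
    refine CfsgLib.Solv.CompBal.centralizes_of_mod_center hL hxN fun e he => Subgroup.mem_centralizer_iff.2 fun m hm => ?_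
    have h1 : ⁅x, e⁆ ∈ ⁅L, Subgroup.zpowers x⁆ := by
      rw [Subgroup.commutator_comm]
      exact Subgroup.commutator_mem_commutator (Subgroup.mem_zpowers x) he
    exact congrArg Subtype.val (Subgroup.mem_center_iff.1 (h (show (⟨_, hle h1⟩ : L) ∈ _ from h1)) ⟨m, hm⟩)
  intro l hl
  rw [Subgroup.mem_centralizer_singleton_iff]
  exact Subgroup.mem_centralizer_iff.1 hxC l hl

end Cfsg.Agent.S1270
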