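import Cfsg.Statements.S1271
import Cfsg.Agent.Solv.CompBalanceMain

set_option autoImplicit false
open Cfsg
open scoped commutatorElement Pointwise

namespace Cfsg.Agent.S1271

/-- Let G be finite with O_{p'}(G) = 1. Suppose that for every component L of G and every subgroup H ≥ L in which L is normal, the quotient H / C_H(L) is balanced for the prime p. Then G is balanced for p. -/
theorem result {G : Type*} [Group G] [Finite G] (p : ℕ) [Fact p.Prime] (hO : Cfsg.pPrimeCore p G = ⊥) (h : ∀ L : Subgroup G, Cfsg.IsComponent L → ∀ H : Subgroup G, L ≤ H → (L.subgroupOf H).Normal → ∀ [((Subgroup.centralizer (L : Set G)).subgroupOf H).Normal], Cfsg.IsBalancedFor p (↥H ⧸ (Subgroup.centralizer (L : Set G)).subgroupOf H)) : Cfsg.IsBalancedFor p G := by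
  classical
  intro x hx
  haveI := CfsgLib.Solv.pPrimeCore_normal G p
  rw [hO, le_bot_iff]
  by_contra hne
  set Y := Cfsg.centralizerPPrimeCore p x with hY
  obtain ⟨E, hE, hxN, hYN, hxC, hYC⟩ := CfsgLib.Solv.CompBal.exists_component_one hO hx (le_refl Y) hne
  set D := Subgroup.zpowers x ⊔ Y with hD
  have hDE : D ≤ Subgroup.normalizer (E : Set G) := sup_le (Subgroup.zpowers_le.2 hxN) hYN
  have hDC : D ≤ Subgroup.centralizer ({x} : Set G) :=
    sup_le (Subgroup.zpowers_le.2 (Subgroup.mem_centralizer_singleton_iff.2 rfl)) (CfsgLib.Solv.CompBal.core_cent_le x)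
  have hxD : x ∈ D := Subgroup.mem_sup_left (Subgroup.mem_zpowers x)
  set H := E ⊔ D with hH
  have hEH : E ≤ H := le_sup_left
  have hHE : H ≤ Subgroup.normalizer (E : Set G) := sup_le Subgroup.le_normalizer hDE
  haveI hn : (E.subgroupOf H).Normal := Subgroup.normal_subgroupOf_of_le_normalizer hHE
  haveI hcn : ((Subgroup.centralizer (E : Set G)).subgroupOf H).Normal :=
    Subgroup.normal_subgroupOf_of_le_normalizer fun g hg => Subgroup.mem_normalizer_fintype fun c hc => by
      rw [SetLike.mem_coe, Subgroup.mem_centralizer_iff] at hc ⊢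
      intro e he
      have h1 := hc _ ((Subgroup.mem_normalizer_iff.1 (inv_mem (hHE hg)) e).1 he)
      calc e * (g * c * g⁻¹) = g * ((g⁻¹ * e * g⁻¹⁻¹) * c) * g⁻¹ := by group
        _ = g * c * g⁻¹ * e := by rw [h1]; group
  set K := (Subgroup.centralizer (E : Set G)).subgroupOf H with hK
  have hbal := h E hE H hEH hn
  set ψ := QuotientGroup.mk' K with hψ
  have hψs : Function.Surjective ψ := QuotientGroup.mk'_surjective K
  have hψ1 : ∀ g : H, ψ g = 1 → (g : G) ∈ Subgroup.centralizer (E : Set G) := fun g hg =>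
    (QuotientGroup.eq_one_iff g).1 hg
  haveI := CfsgLib.Solv.pPrimeCore_normal (↥H ⧸ K) p
  have hxH : x ∈ H := Subgroup.mem_sup_right hxD
  have hxo : orderOf (ψ ⟨x, hxH⟩) = p :=
    orderOf_eq_prime (by
      rw [← map_pow, show (⟨x, hxH⟩ : H) ^ p = 1 from Subtype.ext (by rw [SubmonoidClass.coe_pow, ← hx, pow_orderOf_eq_one]; rfl),
        map_one]) (fun e => hxC (hψ1 _ e))
  -- the quotient has trivial core
  have hcore : Cfsg.pPrimeCore p (↥H ⧸ K) = ⊥ := by
    set M := ((Cfsg.pPrimeCore p (↥H ⧸ K)).comap ψ).map H.subtype with hM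
    have hMH : M ≤ H := Subgroup.map_subtype_le _
    have hMn : H ≤ Subgroup.normalizer (M : Set G) := fun g hg => Subgroup.mem_normalizer_fintype (by
      rintro _ ⟨m, hm, rfl⟩
      exact ⟨⟨g, hg⟩ * m * ⟨g, hg⟩⁻¹, ((CfsgLib.Solv.pPrimeCore_normal (↥H ⧸ K) p).comap ψ).conj_mem m hm _, rfl⟩)
    haveI : ((M ⊓ E).subgroupOf E).Normal := Subgroup.normal_subgroupOf_of_le_normalizer
      (CfsgLib.Solv.le_normalizer_inf_of_le (hEH.trans hMn) Subgroup.le_normalizer)
    rcases CfsgLib.Inv.quasisimple_subnormal hE.2 (inferInstance : ((M ⊓ E).subgroupOf E).Normal).isSubnormal with hz | hz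
    · rw [eq_bot_iff]
      intro q hq
      obtain ⟨g, rfl⟩ := hψs q
      rw [Subgroup.mem_bot]
      refine (QuotientGroup.eq_one_iff g).2 ?_
      refine CfsgLib.Solv.CompBal.centralizes_of_mod_center hE (hHE g.2) fun e he => Subgroup.mem_centralizer_iff.2 fun m hm => ?_
      have h1 : ⁅(g : G), e⁆ ∈ M ⊓ E := by
        have hgM : (g : G) ∈ M := ⟨g, hq, rfl⟩
        refine Subgroup.mem_inf.2 ⟨?_, ?_⟩
        · rw [show ⁅(g : G), e⁆ = (g : G) * (e * (g : G)⁻¹ * e⁻¹) by rw [commutatorElement_def]; group]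
          exact mul_mem hgM ((Subgroup.mem_normalizer_iff.1 (hMn (hEH he)) _).1 (inv_mem hgM))
        · rw [commutatorElement_def]
          exact mul_mem ((Subgroup.mem_normalizer_iff.1 (hHE g.2) e).1 he) (inv_mem he)
      exact congrArg Subtype.val (Subgroup.mem_center_iff.1 (hz (show (⟨_, h1.2⟩ : E) ∈ _ from h1)) ⟨m, hm⟩)
    · exfalso
      rw [Subgroup.subgroupOf_eq_top] at hz
      set g := ψ.comp (Subgroup.inclusion hEH) with hg
      have hker : g.ker ≤ Subgroup.center E := fun e he => Subgroup.mem_center_iff.2 fun m => Subtype.ext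
        (Subgroup.mem_centralizer_iff.1 (hψ1 _ he) m m.2)
      have h1 : g.range ≤ Cfsg.pPrimeCore p (↥H ⧸ K) := by
        rintro _ ⟨e, rfl⟩
        obtain ⟨m, hm, hme⟩ := (hz e.2).1
        rw [show g e = ψ m from congrArg ψ (Subtype.ext hme.symm)]
        exact hm
      have h2 := ((CfsgLib.Solv.dvd_index_of_le_center hE.2 (CfsgLib.Solv.CompBal.dvd_card_component hO hE)
        (Subgroup.center E) le_rfl).trans (Subgroup.index_dvd_of_le hker))
      rw [Subgroup.index_ker] at h2
      exact CfsgLib.Solv.not_dvd_card_pPrimeCore (h2.trans (Subgroup.card_dvd_of_le h1))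
  refine hYC fun y hy => hψ1 ⟨y, Subgroup.mem_sup_right (Subgroup.mem_sup_right hy)⟩ ?_
  rw [← Subgroup.mem_bot, ← hcore]
  refine hbal _ hxo ?_
  set N := (Y.subgroupOf H).map ψ with hN
  have hNC : N ≤ Subgroup.centralizer ({ψ ⟨x, hxH⟩} : Set (↥H ⧸ K)) := by
    rintro _ ⟨u, hu, rfl⟩
    rw [Subgroup.mem_centralizer_singleton_iff, ← map_mul, show u * (⟨x, hxH⟩ : H) = ⟨x, hxH⟩ * u from
      Subtype.ext (Subgroup.mem_centralizer_singleton_iff.1 (CfsgLib.Solv.CompBal.core_cent_le x hu)), map_mul]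
  refine (CfsgLib.Solv.CompBal.le_core_cent (N := N) hNC ?_ ?_ : N ≤ _) ⟨⟨y, Subgroup.mem_sup_right (Subgroup.mem_sup_right hy)⟩, hy, rfl⟩
  · refine (CfsgLib.Solv.CompBal.core_cent_coprime x).coprime_dvd_left ((Subgroup.card_map_dvd _ _).trans ?_)
    rw [CfsgLib.Solv.card_subgroupOf (le_sup_right.trans le_sup_right)]
  · refine (Subgroup.normal_subgroupOf_of_le_normalizer fun c hc => Subgroup.mem_normalizer_fintype ?_).isSubnormal
    rintro _ ⟨u, hu, rfl⟩
    obtain ⟨h', rfl⟩ := hψs c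
    obtain ⟨u', hu', he⟩ := CfsgLib.Solv.CompBal.map_core_normalized hO hx hE hDC hDE hxD ψ hψ1 h'
      (Subgroup.mem_centralizer_singleton_iff.1 hc) u hu
    exact ⟨u', hu', he.symm⟩

end Cfsg.Agent.S1271
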