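import Cfsg.Statements.S1272
import Cfsg.Agent.Solv.PCompLayer

set_option autoImplicit false
open Cfsg
open scoped commutatorElement

namespace Cfsg.Agent.S1272

/-- Let X be finite and Q = X / O_{p'}(X). For every component Kbar of Q there is a unique p-component K of X whose image in Q is Kbar; and the image of the p-layer L_{p'}(X) in Q is E(Q). -/
theorem result {X : Type*} [Group X] [Finite X] (p : ℕ) [Fact p.Prime] : (∀ Kbar : Subgroup (X ⧸ Cfsg.pPrimeCore p X), Cfsg.IsComponent Kbar → ∃! K : Subgroup X, Cfsg.IsPComponent p K ∧ K.map (QuotientGroup.mk' (Cfsg.pPrimeCore p X)) = Kbar) ∧ (Cfsg.pLayer p X).map (QuotientGroup.mk' (Cfsg.pPrimeCore p X)) = Cfsg.layer (X ⧸ Cfsg.pPrimeCore p X) := by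
  haveI := CfsgLib.Solv.pPrimeCore_normal X p
  refine ⟨fun Kbar hKbar => ?_, ?_⟩
  · obtain ⟨K, hK, he⟩ := CfsgLib.Solv.exists_pComp_over hKbar
    exact ⟨K, ⟨hK, he⟩, fun L hL => CfsgLib.Solv.pComp_eq_of_map_eq hL.1 hK (hL.2.trans he.symm)⟩
  · refine le_antisymm ?_ (sSup_le fun Kbar hKbar => ?_)
    · rw [Subgroup.map_le_iff_le_comap]
      refine sSup_le fun K hK => ?_
      rw [← Subgroup.map_le_iff_le_comap]
      exact CfsgLib.Inv.component_le_layer hK.2.1
    · obtain ⟨K, hK, he⟩ := CfsgLib.Solv.exists_pComp_over hKbar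
      rw [← he]
      exact Subgroup.map_mono (le_sSup hK)

end Cfsg.Agent.S1272
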