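import Cfsg.Statements.S1276
import Cfsg.Agent.Solv.PComponents

set_option autoImplicit false
open Cfsg

namespace Cfsg.Agent.S1276

/-- Let K be a 2-component of the finite group X. Then K is quasisimple if and only if ⁅K, O(K)⁆ = 1. -/
theorem result {X : Type*} [Group X] [Finite X] (K : Subgroup X) (hK : Cfsg.IsPComponent 2 K) : Cfsg.IsQuasisimple ↥K ↔ ⁅K, ((Cfsg.oddCore ↥K).map K.subtype)⁆ = ⊥ := by
  haveI : Fact (Nat.Prime 2) := ⟨Nat.prime_two⟩
  haveI hOn := CfsgLib.Solv.pPrimeCore_normal ↥K 2
  set O : Subgroup ↥K := Cfsg.oddCore ↥K with hO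
  have hKK : ⁅(⊤ : Subgroup ↥K).map K.subtype, O.map K.subtype⁆ = ⁅K, O.map K.subtype⁆ := by
    rw [← MonoidHom.range_eq_map, Subgroup.range_subtype]
  rw [← hKK, CfsgLib.Inv.map_commutator_eq_bot]
  constructor
  · intro hqs
    rcases CfsgLib.Inv.quasisimple_normal hqs O with h | h
    · rw [Subgroup.commutator_comm, Subgroup.commutator_eq_bot_iff_le_centralizer, Subgroup.coe_top, Subgroup.centralizer_univ]
      exact h
    · exfalso
      have h2 := CfsgLib.Solv.pComp_dvd_card hK
      have h3 : ¬ 2 ∣ Nat.card O := CfsgLib.Solv.not_dvd_card_pPrimeCore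
      rw [h, Subgroup.card_top] at h3
      exact h3 h2
  · intro hc
    rw [Subgroup.commutator_comm, Subgroup.commutator_eq_bot_iff_le_centralizer, Subgroup.coe_top, Subgroup.centralizer_univ] at hc
    have hperf : Group.IsPerfect ↥K := Subgroup.isPerfect_iff.2 (CfsgLib.Solv.pComp_perfect hK)
    refine ⟨hperf, ?_⟩
    have hq : Cfsg.IsQuasisimple (↥K ⧸ O) := CfsgLib.Solv.pComp_quotient_quasisimple hK
    set f := (QuotientGroup.mk' (Subgroup.center (↥K ⧸ O))).comp (QuotientGroup.mk' O) with hf
    have hfs : Function.Surjective f := (QuotientGroup.mk'_surjective _).comp (QuotientGroup.mk'_surjective _)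
    have hker : f.ker = Subgroup.center ↥K := by
      ext x
      rw [MonoidHom.mem_ker, hf, MonoidHom.comp_apply]
      show (QuotientGroup.mk' O x : (↥K ⧸ O) ⧸ Subgroup.center (↥K ⧸ O)) = 1 ↔ _
      rw [QuotientGroup.eq_one_iff]
      constructor
      · intro hx
        -- `k ↦ ⁅x, k⁆` is a homomorphism into the central subgroup `O`
        have hmem : ∀ k : ↥K, x * k * x⁻¹ * k⁻¹ ∈ O := fun k => by
          rw [← QuotientGroup.eq_one_iff]
          show QuotientGroup.mk' O (x * k * x⁻¹ * k⁻¹) = 1
          simp only [map_mul, map_inv]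
          rw [(Subgroup.mem_center_iff.1 hx (QuotientGroup.mk' O k)).symm]
          group
        let φ : ↥K →* ↥O :=
          { toFun := fun k => ⟨x * k * x⁻¹ * k⁻¹, hmem k⟩
            map_one' := Subtype.ext (show x * 1 * x⁻¹ * 1⁻¹ = (1 : ↥K) by group)
            map_mul' := fun a b => Subtype.ext (by
              show x * (a * b) * x⁻¹ * (a * b)⁻¹ = (x * a * x⁻¹ * a⁻¹) * (x * b * x⁻¹ * b⁻¹)
              have h := Subgroup.mem_center_iff.1 (hc (hmem b)) a
              calc x * (a * b) * x⁻¹ * (a * b)⁻¹ = x * a * x⁻¹ * a⁻¹ * (a * (x * b * x⁻¹ * b⁻¹)) * a⁻¹ := by group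
                _ = _ := by rw [h]; group) }
        have hφ : commutator ↥K ≤ φ.ker := by
          rw [commutator_def, Subgroup.commutator_le]
          intro a _ b _
          rw [MonoidHom.mem_ker, map_commutatorElement, commutatorElement_eq_one_iff_mul_comm]
          exact Subtype.ext (Subgroup.mem_center_iff.1 (hc (φ b).2) (φ a))
        rw [hperf.commutator_eq_top] at hφ
        refine Subgroup.mem_center_iff.2 fun k => ?_
        have h : x * k * x⁻¹ * k⁻¹ = 1 := congrArg Subtype.val (hφ (Subgroup.mem_top k))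
        rw [mul_inv_eq_one, mul_inv_eq_iff_eq_mul] at h
        exact h.symm
      · intro hx
        exact Subgroup.mem_center_iff.2 fun q => by
          obtain ⟨k, rfl⟩ := QuotientGroup.mk'_surjective O q
          rw [← map_mul, ← map_mul, Subgroup.mem_center_iff.1 hx k]
    haveI := hq.2
    let e : ↥K ⧸ Subgroup.center ↥K ≃* (↥K ⧸ O) ⧸ Subgroup.center (↥K ⧸ O) :=
      (QuotientGroup.quotientMulEquivOfEq hker.symm).trans (QuotientGroup.quotientKerEquivOfSurjective f hfs)
    exact e.isSimpleGroup

end Cfsg.Agent.S1276
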