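import Cfsg.Statements.S1277
import Cfsg.Agent.Solv.PCompLayer
import Cfsg.Agent.S1272
import Cfsg.Agent.Inv.CharTwo

set_option autoImplicit false
open Cfsg

namespace Cfsg.Agent.S1277

/-- For a finite group X with core O(X): the image of E(X) in X / O(X) is all of E(X / O(X)) if and only if every 2-component of X is a component, i.e. L_{2'}(X) ≤ E(X). -/
theorem result {X : Type*} [Group X] [Finite X] : (Cfsg.layer X).map (QuotientGroup.mk' (Cfsg.oddCore X)) = Cfsg.layer (X ⧸ Cfsg.oddCore X) ↔ Cfsg.pLayer 2 X ≤ Cfsg.layer X := by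
  classical
  haveI := CfsgLib.Solv.pPrimeCore_normal X 2
  have h1272 := (Cfsg.Agent.S1272.result (X := X) 2).2
  set O := Cfsg.oddCore X with hO
  haveI : O.Normal := CfsgLib.Solv.pPrimeCore_normal X 2
  set π := QuotientGroup.mk' O with hπ
  have hsurj : Function.Surjective π := QuotientGroup.mk'_surjective O
  have hodd : ¬ 2 ∣ Nat.card O := CfsgLib.Solv.not_dvd_card_pPrimeCore
  -- a component with nontrivial image is a 2-component
  have hcomp : ∀ K : Subgroup X, Cfsg.IsComponent K → ¬ K ≤ O → Cfsg.IsPComponent 2 K := by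
    intro K hK hKO
    have hne : K.map π ≠ ⊥ := by rwa [Ne, Subgroup.map_eq_bot_iff, QuotientGroup.ker_mk']
    refine ⟨hK.1, ⟨hK.1.map hsurj, ?_⟩, fun H hH hle he => ?_⟩
    · haveI : Nontrivial (K.map π) := (Subgroup.nontrivial_iff_ne_bot _).2 hne
      refine CfsgLib.Inv.quasisimple_of_dichotomy ?_ fun N hN => ?_
      · refine Subgroup.map_injective (K.map π).subtype_injective ?_
        rw [map_commutator_eq, Subgroup.range_subtype, ← Subgroup.map_commutator, CfsgLib.Inv.component_commutator hK,
          ← MonoidHom.range_eq_map, Subgroup.range_subtype]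
      haveI := hN
      rcases CfsgLib.Inv.quasisimple_subnormal hK.2 ((hN.comap (π.subgroupMap K)).isSubnormal) with h | h
      · refine Or.inl fun y hy => ?_
        obtain ⟨x, rfl⟩ := MonoidHom.subgroupMap_surjective π K y
        rw [Subgroup.mem_center_iff]
        intro z
        obtain ⟨z, rfl⟩ := MonoidHom.subgroupMap_surjective π K z
        rw [← map_mul, ← map_mul, Subgroup.mem_center_iff.1 (h hy) z]
      · refine Or.inr (eq_top_iff.2 fun y _ => ?_)
        obtain ⟨x, rfl⟩ := MonoidHom.subgroupMap_surjective π K y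
        exact (show x ∈ N.comap (π.subgroupMap K) by rw [h]; exact Subgroup.mem_top x)
    · rcases CfsgLib.Inv.quasisimple_subnormal hK.2 hH.subgroupOf with h | h
      · exfalso
        refine hne ?_
        have hHc : ⁅H, H⁆ = ⊥ := by
          rw [Subgroup.commutator_eq_bot_iff_le_centralizer]
          intro a ha
          rw [Subgroup.mem_centralizer_iff]
          intro b hb
          exact congrArg Subtype.val (Subgroup.mem_center_iff.1 (h (show (⟨a, hle ha⟩ : K) ∈ H.subgroupOf K from ha)) ⟨b, hle hb⟩)
        have he' : H.map π = K.map π := he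
        rw [← CfsgLib.Inv.component_commutator hK, Subgroup.map_commutator, ← he', ← Subgroup.map_commutator, hHc,
          Subgroup.map_bot]
      · rw [Subgroup.subgroupOf_eq_top] at h
        exact le_antisymm hle h
  constructor
  · intro he
    refine sSup_le fun K hK => ?_
    have hKb : K.map π ≤ (Cfsg.layer X).map π := by rw [he]; exact CfsgLib.Inv.component_le_layer hK.2.1
    -- some component has the same image
    obtain ⟨C, hC, hCO, hne⟩ : ∃ C : Subgroup X, Cfsg.IsComponent C ∧ ¬ C ≤ O ∧ C.map π = K.map π := by
      by_contra hno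
      push Not at hno
      have hc : ⁅K.map π, K.map π⁆ = ⊥ := by
        rw [Subgroup.commutator_eq_bot_iff_le_centralizer]
        refine hKb.trans ?_
        rw [Cfsg.layer, Subgroup.map_le_iff_le_comap]
        refine sSup_le fun C hC => ?_
        by_cases hCO : C ≤ O
        · intro c hc
          show π c ∈ Subgroup.centralizer ((K.map π : Subgroup (X ⧸ O)) : Set (X ⧸ O))
          rw [show π c = 1 from (QuotientGroup.eq_one_iff c).2 (hCO hc)]
          exact one_mem _
        · rw [← Subgroup.map_le_iff_le_comap, ← Subgroup.commutator_eq_bot_iff_le_centralizer]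
          exact CfsgLib.Inv.components_commute (hcomp C hC hCO).2.1 hK.2.1 (hno C hC hCO)
      exact CfsgLib.Inv.component_ne_bot hK.2.1 ((CfsgLib.Inv.component_commutator hK.2.1).symm.trans hc)
    rw [CfsgLib.Solv.pComp_eq_of_map_eq hK (hcomp C hC hCO) hne.symm]
    exact CfsgLib.Inv.component_le_layer hC
  · intro hle
    refine le_antisymm ?_ ?_
    · rw [Subgroup.map_le_iff_le_comap]
      refine sSup_le fun C hC => ?_
      rw [← Subgroup.map_le_iff_le_comap]
      by_cases hCO : C ≤ O
      · rw [(Subgroup.map_eq_bot_iff C).2 (by rwa [QuotientGroup.ker_mk'])]; exact bot_le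
      · exact CfsgLib.Inv.component_le_layer (hcomp C hC hCO).2.1
    · exact h1272.ge.trans (Subgroup.map_mono hle)

end Cfsg.Agent.S1277
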