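import Cfsg.Statements.S1278
import Cfsg.Agent.Solv.PCompLayer
import Cfsg.Agent.S1276

set_option autoImplicit false
open Cfsg
open scoped commutatorElement

namespace Cfsg.Agent.S1278

/-- Let K ≠ L be 2-components of the finite group X. Then ⁅K, L⁆ ≤ O(K) ⊓ O(L), and if K is quasisimple then ⁅K, L⁆ = 1. -/
theorem result {X : Type*} [Group X] [Finite X] (K L : Subgroup X) (hK : Cfsg.IsPComponent 2 K) (hL : Cfsg.IsPComponent 2 L) (hne : K ≠ L) : ⁅K, L⁆ ≤ ((Cfsg.oddCore ↥K).map K.subtype) ⊓ ((Cfsg.oddCore ↥L).map L.subtype) ∧ (Cfsg.IsQuasisimple ↥K → ⁅K, L⁆ = ⊥) := by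
  haveI : Fact (Nat.Prime 2) := ⟨Nat.prime_two⟩
  have hb := (Cfsg.Agent.S1887.result (X := X) (p := 2)).1 K L hK hL hne
  have hsub : ∀ J : Subgroup X, Cfsg.IsPComponent 2 J →
      (Cfsg.oddCore ↥J).map J.subtype = J ⊓ Cfsg.pPrimeCore 2 X := by
    intro J hJ
    rw [Cfsg.oddCore, CfsgLib.Solv.pComp_pPrimeCore hJ, Subgroup.subgroupOf_map_subtype, inf_comm]
  have hLK : L ≤ Subgroup.normalizer (K : Set X) :=
    (le_sSup hL : L ≤ Cfsg.pLayer 2 X).trans (CfsgLib.Solv.pLayer_le_normalizer hK)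
  have hKL : K ≤ Subgroup.normalizer (L : Set X) :=
    (le_sSup hK : K ≤ Cfsg.pLayer 2 X).trans (CfsgLib.Solv.pLayer_le_normalizer hL)
  have h1 : ⁅K, L⁆ ≤ K := Subgroup.le_normalizer_iff_commutator_le_left.1 hLK
  have h2 : ⁅K, L⁆ ≤ L := by
    rw [Subgroup.commutator_comm]; exact Subgroup.le_normalizer_iff_commutator_le_left.1 hKL
  refine ⟨?_, fun hq => ?_⟩
  · rw [hsub K hK, hsub L hL]; exact le_inf (le_inf h1 hb) (le_inf h2 hb)
  have hcent := (Cfsg.Agent.S1276.result K hK).1 hq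
  rw [hsub K hK, Subgroup.commutator_comm, Subgroup.commutator_eq_bot_iff_le_centralizer] at hcent
  rw [Subgroup.commutator_eq_bot_iff_le_centralizer]
  intro k hk
  refine Subgroup.mem_centralizer_iff.2 fun l hl => ?_
  let Z : Subgroup ↥K := Subgroup.center ↥K
  have hmem : ∀ a : ↥K, ∃ z : ↥Z, ((z : ↥K) : X) = ⁅(a : X), l⁆ := fun a => by
    have hm : ⁅(a : X), l⁆ ∈ K ⊓ Cfsg.pPrimeCore 2 X :=
      ⟨h1 (Subgroup.commutator_mem_commutator a.2 hl), hb (Subgroup.commutator_mem_commutator a.2 hl)⟩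
    exact ⟨⟨⟨_, hm.1⟩, Subgroup.mem_center_iff.2 fun b => Subtype.ext
      (Subgroup.mem_centralizer_iff.1 (hcent hm) b b.2)⟩, rfl⟩
  choose φ hφ using hmem
  let f : ↥K →* ↥Z :=
    { toFun := φ
      map_one' := Subtype.ext (Subtype.ext (by rw [hφ]; simp [commutatorElement_def]))
      map_mul' := fun a b => Subtype.ext (Subtype.ext (by
        show ((φ (a * b) : ↥K) : X) = ((φ a : ↥K) : X) * ((φ b : ↥K) : X)
        have hc := congrArg Subtype.val (Subgroup.mem_center_iff.1 (φ b).2 a)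
        have hc2 := congrArg Subtype.val (Subgroup.mem_center_iff.1 (φ a).2 (φ b : ↥K))
        simp only [Subgroup.coe_mul, hφ] at hc hc2
        rw [hφ, hφ, hφ, Subgroup.coe_mul,
          show ⁅(a : X) * b, l⁆ = ((a : X) * ⁅(b : X), l⁆) * (a : X)⁻¹ * ⁅(a : X), l⁆ by
            simp [commutatorElement_def, mul_assoc], hc, mul_inv_cancel_right, hc2])) }
  have hker : commutator ↥K ≤ f.ker := by
    rw [commutator_def, Subgroup.commutator_le]
    intro a _ b _
    rw [MonoidHom.mem_ker, map_commutatorElement, commutatorElement_eq_one_iff_mul_comm]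
    exact Subtype.ext (Subgroup.mem_center_iff.1 (φ b).2 (φ a))
  rw [hq.1.commutator_eq_top] at hker
  have h : ((φ ⟨k, hk⟩ : ↥K) : X) = 1 := by
    have := hker (Subgroup.mem_top (⟨k, hk⟩ : ↥K))
    exact congrArg (fun z : ↥Z => ((z : ↥K) : X)) this
  rw [hφ] at h
  exact (commutatorElement_eq_one_iff_mul_comm.1 h).symm

end Cfsg.Agent.S1278
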