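import Cfsg.Statements.S1279
import Cfsg.Agent.Solv.BalanceSolvable
-- import your own Cfsg.Agent.* helpers here

set_option autoImplicit false
open Cfsg

namespace Cfsg.Agent.S1279

/-- Let A be a noncyclic elementary abelian p-subgroup of the finite group G such that C_G(a) is solvable for every non-identity a ∈ A. Then a ↦ O_{p'}(C_G(a)) is a solvable A-signalizer functor on G. -/
theorem result {G : Type*} [Group G] [Finite G] (p : ℕ) [Fact p.Prime] (A : Subgroup G) (hA : Cfsg.IsElementaryAbelian p A) (hA2 : p ^ 2 ≤ Nat.card ↥A) (hsolv : ∀ a ∈ A, a ≠ 1 → Group.IsSolvable ↥(Subgroup.centralizer ({a} : Set G))) : Cfsg.IsSolvableSignalizerFunctor p A (fun a => Cfsg.centralizerPPrimeCore p a) := by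
  have hc : ∀ a b : G, a ∈ A → b ∈ A → a * b = b * a := fun a b ha hb =>
    congrArg Subtype.val (hA.1.is_comm.comm ⟨a, ha⟩ ⟨b, hb⟩)
  refine ⟨⟨fun a ha ha1 => Subgroup.map_subtype_le _, fun a ha ha1 => ?_, fun a ha ha1 b hb x hx => ?_,
    fun a ha ha1 b hb hb1 => ?_⟩, fun a ha ha1 => ?_⟩
  · show ¬ p ∣ Nat.card ((Cfsg.pPrimeCore p ↥(Subgroup.centralizer ({a} : Set G))).map _ : Subgroup G)
    rw [CfsgLib.Solv.card_map_subtype]
    exact ((Fact.out : p.Prime).coprime_iff_not_dvd).1 (CfsgLib.Solv.pPrimeCore_coprime _ p).symm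
  · obtain ⟨u, hu, rfl⟩ := hx
    have hbC : b ∈ Subgroup.centralizer ({a} : Set G) := Subgroup.mem_centralizer_singleton_iff.2 (hc b a hb ha)
    exact ⟨⟨b, hbC⟩ * u * ⟨b, hbC⟩⁻¹, (CfsgLib.Solv.pPrimeCore_normal _ p).conj_mem u hu _, rfl⟩
  · exact CfsgLib.Solv.inf_centralizer_le_centralizerPPrimeCore ⟨1, by simpa using hA.2 a ha⟩ (hc a b ha hb)
      (hsolv b hb hb1)
  · haveI := hsolv a ha ha1
    exact CfsgLib.Solv.isSolvable_of_le (Subgroup.map_subtype_le _)

end Cfsg.Agent.S1279
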