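import Cfsg.Statements.S1281
import Cfsg.Agent.Solv.Signalizer
-- import your own Cfsg.Agent.* helpers here

set_option autoImplicit false
open Cfsg

namespace Cfsg.Agent.S1281

/-- Let θ be a solvable A-signalizer functor on the finite group G (A a noncyclic elementary abelian p-subgroup) and N a normal subgroup of order prime to p. Then for all non-identity a, b ∈ A, the image of θ a in G / N meets the centralizer of the image of b inside the image of θ b. -/
theorem result {G : Type*} [Group G] [Finite G] (p : ℕ) [Fact p.Prime] (A : Subgroup G) (hA : Cfsg.IsElementaryAbelian p A) (hA2 : p ^ 2 ≤ Nat.card ↥A) (θ : G → Subgroup G) (hθ : Cfsg.IsSolvableSignalizerFunctor p A θ) (N : Subgroup G) [N.Normal] (hN : ¬ p ∣ Nat.card ↥N) (a b : G) (ha : a ∈ A) (ha1 : a ≠ 1) (hb : b ∈ A) (hb1 : b ≠ 1) : (θ a).map (QuotientGroup.mk' N) ⊓ Subgroup.centralizer {QuotientGroup.mk' N b} ≤ (θ b).map (QuotientGroup.mk' N) := by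
  rintro y hy
  obtain ⟨hy1, hy2⟩ := Subgroup.mem_inf.1 hy
  have hab : ∀ x ∈ Subgroup.zpowers b, ∀ z ∈ θ a, x * z * x⁻¹ ∈ θ a := fun x hx =>
    hθ.1.2.2.1 a ha ha1 x (Subgroup.zpowers_le.2 hb hx)
  obtain ⟨k, hk, hkx⟩ := CfsgLib.Solv.fixed_image (QuotientGroup.mk' N) (B := Subgroup.zpowers b) (K := θ a)
    (CfsgLib.Solv.le_normalizer_iff_forall_conj_mem.2 hab)
    ((CfsgLib.Solv.Sig.coprime_card hA (hθ.1.2.1 a ha ha1)).coprime_dvd_left
      (Subgroup.card_dvd_of_le (Subgroup.zpowers_le.2 hb)))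
    (CfsgLib.Solv.isSolvable_zpowers b) hy1 (fun x hx => by
      obtain ⟨i, rfl⟩ := Subgroup.mem_zpowers_iff.1 hx
      rw [map_zpow]
      exact ((show Commute (QuotientGroup.mk' N b) y from
        (Subgroup.mem_centralizer_singleton_iff.1 hy2).symm).zpow_left i).eq)
  obtain ⟨hka, hkb⟩ := Subgroup.mem_inf.1 hk
  exact ⟨k, hθ.1.2.2.2 a ha ha1 b hb hb1 (Subgroup.mem_inf.2 ⟨hka, Subgroup.mem_centralizer_singleton_iff.2
    (Subgroup.mem_centralizer_iff.1 hkb b (Subgroup.mem_zpowers b)).symm⟩), hkx⟩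

end Cfsg.Agent.S1281
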