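import Cfsg.Statements.S1282
import Cfsg.Agent.Solv.Signalizer

set_option autoImplicit false
open Cfsg

namespace Cfsg.Agent.S1282

/-- Let A be an elementary abelian p-subgroup of rank at least 3 of the finite group G, q ≠ p a prime, and Q₁, Q₂ q-subgroups normalized by A with D = Q₁ ∩ Q₂ different from both. Then there is a non-identity a ∈ A such that, for i = 1 and i = 2, N_{Q_i}(D) ∩ C_G(a) is not contained in D. -/
theorem result {G : Type*} [Group G] [Finite G] (p : ℕ) [Fact p.Prime] (A : Subgroup G) (hA : Cfsg.IsElementaryAbelian p A) (hA3 : p ^ 3 ≤ Nat.card ↥A) (q : ℕ) [Fact q.Prime] (hqp : q ≠ p) (Q₁ Q₂ : Subgroup G) (h₁ : IsPGroup q ↥Q₁) (h₂ : IsPGroup q ↥Q₂) (hA₁ : A ≤ Subgroup.normalizer (Q₁ : Set G)) (hA₂ : A ≤ Subgroup.normalizer (Q₂ : Set G)) (hD₁ : Q₁ ⊓ Q₂ ≠ Q₁) (hD₂ : Q₁ ⊓ Q₂ ≠ Q₂) : ∃ a ∈ A, a ≠ 1 ∧ ¬ (Subgroup.normalizer ((Q₁ ⊓ Q₂ :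 Subgroup G) : Set G) ⊓ Q₁ ⊓ Subgroup.centralizer {a} ≤ Q₁ ⊓ Q₂) ∧ ¬ (Subgroup.normalizer ((Q₁ ⊓ Q₂ : Subgroup G) : Set G) ⊓ Q₂ ⊓ Subgroup.centralizer {a} ≤ Q₁ ⊓ Q₂) := by
  classical
  haveI := hA.1
  have hp := (Fact.out : p.Prime)
  have hq := (Fact.out : q.Prime)
  set Q := Q₁ ⊓ Q₂ with hQdef
  have hAQ : A ≤ Subgroup.normalizer (Q : Set G) := CfsgLib.Solv.le_normalizer_inf_of_le hA₁ hA₂
  have hcop : ∀ X : Subgroup G, IsPGroup q X → (Nat.card A).Coprime (Nat.card X) := fun X hX =>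
    CfsgLib.Solv.Sig.coprime_card hA fun h => by
      obtain ⟨n, hn⟩ := IsPGroup.iff_card.1 hX
      rw [hn] at h
      exact hqp.symm ((Nat.prime_dvd_prime_iff_eq hp hq).1 (hp.dvd_of_dvd_pow h))
  have hlt : ∀ X : Subgroup G, IsPGroup q X → A ≤ Subgroup.normalizer (X : Set G) → Q ≤ X → Q ≠ X →
      ∃ B, B ≤ A ∧ (∃ a ∈ A, B ⊔ Subgroup.zpowers a = A) ∧
        ∃ z ∈ Subgroup.normalizer (Q : Set G) ⊓ X ⊓ Subgroup.centralizer (B : Set G), z ∉ Q := by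
    intro X hX hAX hQX hneX
    by_contra hno
    push Not at hno
    set N := Subgroup.normalizer (Q : Set G) ⊓ X
    have hle : N ≤ Q := CfsgLib.Solv.le_of_cocyclic_centralizers (A := A)
      (CfsgLib.Solv.le_normalizer_inf_of_le (hAQ.trans Subgroup.le_normalizer) hAX)
      ((hcop X hX).coprime_dvd_right (Subgroup.card_dvd_of_le inf_le_right))
      fun B hB hBc z hz => hno B hB hBc z hz
    have hlt' : Q.subgroupOf X < ⊤ := by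
      rw [lt_top_iff_ne_top, Ne, Subgroup.subgroupOf_eq_top]
      exact fun h => hneX (le_antisymm hQX h)
    haveI := hX.isNilpotent
    refine (Group.normalizerCondition_of_isNilpotent (G := X) _ hlt').not_ge fun z hz => ?_
    exact hle (Subgroup.mem_inf.2 ⟨Subgroup.mem_normalizer_fintype fun u hu =>
      (Subgroup.mem_normalizer_iff.1 hz ⟨u, hQX hu⟩).1 hu, z.2⟩ : (z : G) ∈ N)
  obtain ⟨B₁, hB₁, hB₁c, x₁, hx₁, hx₁Q⟩ := hlt Q₁ h₁ hA₁ inf_le_left hD₁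
  obtain ⟨B₂, hB₂, hB₂c, x₂, hx₂, hx₂Q⟩ := hlt Q₂ h₂ hA₂ inf_le_right hD₂
  obtain ⟨a, ha, ha1⟩ := (B₁ ⊓ B₂).bot_or_exists_ne_one.resolve_left
    (CfsgLib.Solv.Sig.inf_ne_bot_of_cocyclic hA hA3 hB₁ hB₂ hB₁c hB₂c)
  refine ⟨a, hB₁ ha.1, ha1, fun h => hx₁Q (h (Subgroup.mem_inf.2 ⟨hx₁.1, ?_⟩)),
    fun h => hx₂Q (h (Subgroup.mem_inf.2 ⟨hx₂.1, ?_⟩))⟩
  · exact Subgroup.mem_centralizer_singleton_iff.2 (Subgroup.mem_centralizer_iff.1 hx₁.2 a ha.1).symm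
  · exact Subgroup.mem_centralizer_singleton_iff.2 (Subgroup.mem_centralizer_iff.1 hx₂.2 a ha.2).symm

end Cfsg.Agent.S1282
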