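import Cfsg.Statements.S1284
import Cfsg.Agent.Solv.Signalizer
-- import your own Cfsg.Agent.* helpers here

set_option autoImplicit false
open Cfsg

open scoped Pointwise

namespace Cfsg.Agent.S1284

/-- Let θ be a solvable A-signalizer functor on the finite group G, A elementary abelian of rank at least 3, q a prime dividing some |θ a|, and Q maximal among the q-subgroups in the family of θ. Then (a) for every member H of the family, some c in the intersection of the θ a (a ∈ A non-identity) makes c Q c⁻¹ ∩ H a Sylow q-subgroup of H; and (b) for every nontrivial subgroup B ≤ A, C_Q(B) is a Sylow q-subgroup of the intersection of the θ b over the non-identity b ∈ B. -/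
theorem result {G : Type*} [Group G] [Finite G] (p : ℕ) [Fact p.Prime] (A : Subgroup G) (hA : Cfsg.IsElementaryAbelian p A) (hA3 : p ^ 3 ≤ Nat.card ↥A) (θ : G → Subgroup G) (hθ : Cfsg.IsSolvableSignalizerFunctor p A θ) (q : ℕ) [Fact q.Prime] (hq : ∃ a ∈ A, a ≠ 1 ∧ q ∣ Nat.card ↥(θ a)) (Q : Subgroup G) (hQW : Q ∈ Cfsg.signalizerFamily p A θ) (hQq : IsPGroup q ↥Q) (hQmax : ∀ R ∈ Cfsg.signalizerFamily p A θ, IsPGroup q ↥R → Q ≤ R → R = Q) : (∀ H : Subgroup G, H ∈ Cfsg.signalizerFamily p A θ → ∃ c ∈ Cfsg.signalizerInf A θ, ∃ S : Sylow q ↥H, (S : Subgroup ↥H).map H.subtype = Q.map (MulAut.conj c).toMonoidHom ⊓ H) ∧ (∀ B : Subgroup G, B ≤ A → B ≠ ⊥ → ∃ S : Sylow q ↥(Cfsg.signalizerInf B θ), (S : Subgroup ↥(Cfsg.signalizerInf B θ)).map (Cfsg.signalizerInf B θ).subtype = Q ⊓ Subgroup.centralizer (B : Set G)) := by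
  have hQ : CfsgLib.Solv.Sig.MaxQ p A θ q Q := ⟨hQW, hQq, hQmax⟩
  refine ⟨fun H hH => ?_, fun B hB hne => ?_⟩
  · obtain ⟨c, hc, S, hS⟩ := CfsgLib.Solv.Sig.exists_sylow_inter hA hA3 hθ hQ hH
    exact ⟨c, hc, S, by rw [hS, CfsgLib.Solv.conj_smul_eq_map]⟩
  set H := Cfsg.signalizerInf B θ with hHdef
  have hH : H ∈ Cfsg.signalizerFamily p A θ := CfsgLib.Solv.Sig.signalizerInf_mem hθ hB hne
  obtain ⟨c, hc, S, hS⟩ := CfsgLib.Solv.Sig.exists_sylow_inter hA hA3 hθ hQ hH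
  have hcH : c ∈ H := Subgroup.mem_iInf.2 fun d =>
    (Subgroup.mem_iInf.1 hc ⟨d.1, hB d.2.1, d.2.2⟩ : c ∈ θ d.1)
  refine ⟨(⟨c, hcH⟩ : H)⁻¹ • S, ?_⟩
  have hQH : Q ⊓ H = Q ⊓ Subgroup.centralizer (B : Set G) :=
    le_antisymm (inf_le_inf_left _ (CfsgLib.Solv.Sig.signalizerInf_le_centralizer hθ hB))
      (le_inf inf_le_left (CfsgLib.Solv.Sig.inf_le_signalizerInf hQW hB))
  rw [← hQH, Sylow.coe_subgroup_smul]
  ext z
  constructor
  · rintro ⟨w, hw, rfl⟩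
    have hw' := CfsgLib.Solv.mem_conj_smul_iff.1 hw
    rw [inv_inv] at hw'
    have h1 : (((⟨c, hcH⟩ : H) * w * (⟨c, hcH⟩ : H)⁻¹ : H) : G) ∈ MulAut.conj c • Q ⊓ H :=
      hS ▸ Subgroup.mem_map_of_mem H.subtype hw'
    refine Subgroup.mem_inf.2 ⟨?_, w.2⟩
    simpa [mul_assoc] using CfsgLib.Solv.mem_conj_smul_iff.1 (Subgroup.mem_inf.1 h1).1
  · intro hz
    obtain ⟨hzQ, hzH⟩ := Subgroup.mem_inf.1 hz
    refine ⟨⟨z, hzH⟩, CfsgLib.Solv.mem_conj_smul_iff.2 ?_, rfl⟩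
    have h1 : c * z * c⁻¹ ∈ (S : Subgroup H).map H.subtype := by
      rw [hS]
      exact Subgroup.mem_inf.2 ⟨CfsgLib.Solv.mem_conj_smul_iff.2 (by simpa [mul_assoc] using hzQ),
        mul_mem (mul_mem hcH hzH) (inv_mem hcH)⟩
    obtain ⟨w, hw, hwe⟩ := h1
    rw [inv_inv]
    exact (Subtype.ext hwe : w = (⟨c, hcH⟩ : H) * ⟨z, hzH⟩ * (⟨c, hcH⟩ : H)⁻¹) ▸ hw

end Cfsg.Agent.S1284
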