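import Cfsg.Statements.S1285
import Cfsg.Agent.Solv.Signalizer
-- import your own Cfsg.Agent.* helpers here

set_option autoImplicit false
open Cfsg

namespace Cfsg.Agent.S1285

/-- Let θ be a solvable A-signalizer functor on the finite group G with A elementary abelian of rank at least 3, and suppose that for some prime q every θ a (a ∈ A non-identity) is a q-group. Then θ is complete. -/
theorem result {G : Type*} [Group G] [Finite G] (p : ℕ) [Fact p.Prime] (A : Subgroup G) (hA : Cfsg.IsElementaryAbelian p A) (hA3 : p ^ 3 ≤ Nat.card ↥A) (θ : G → Subgroup G) (hθ : Cfsg.IsSolvableSignalizerFunctor p A θ) (q : ℕ) [Fact q.Prime] (hq : ∀ a ∈ A, a ≠ 1 → IsPGroup q ↥(θ a)) : Cfsg.IsCompleteSignalizerFunctor p A θ := by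
  haveI := hA.1
  have hp := (Fact.out : p.Prime)
  have hall : ∀ U ∈ Cfsg.signalizerFamily p A θ, IsPGroup q U := by
    intro U hU
    have hle : ∀ (r : ℕ) [Fact r.Prime], r ≠ q → ¬ r ∣ Nat.card U := by
      intro r _ hrq hd
      obtain ⟨S, hS⟩ := CfsgLib.Solv.exists_invariant_sylow (p := r) (CfsgLib.Solv.Sig.mem_family.1 hU).2.2.1
        (CfsgLib.Solv.Sig.coprime_card hA hU.2.1) (Or.inl (CfsgLib.Solv.Sig.isSolvable_of_elementary hA))
      set R := (S : Subgroup U).map U.subtype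
      have hR : R ∈ Cfsg.signalizerFamily p A θ :=
        CfsgLib.Solv.Sig.mem_of_le hU (Subgroup.map_subtype_le _) hS
      have hbot : R ≤ ⊥ := by
        refine CfsgLib.Solv.le_of_cocyclic_centralizers (A := A) hS
          (CfsgLib.Solv.Sig.coprime_card hA hR.2.1) fun B hB hBc => ?_
        have hne : B ≠ ⊥ := by
          intro e
          have := CfsgLib.Solv.Sig.card_le_of_cocyclic hA hB hBc
          rw [e, Subgroup.card_bot, one_mul] at this
          nlinarith [hp.two_le, sq_nonneg (p : ℤ), this, hA3]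
        obtain ⟨b, hb, hb1⟩ := B.bot_or_exists_ne_one.resolve_left hne
        refine le_of_eq ?_
        rw [← Subgroup.card_eq_one]
        refine Nat.eq_one_of_dvd_coprimes (a := Nat.card R) (b := Nat.card (θ b)) ?_
          (Subgroup.card_dvd_of_le inf_le_left)
          (Subgroup.card_dvd_of_le ((CfsgLib.Solv.Sig.inf_le_signalizerInf hR hB).trans
            (CfsgLib.Solv.Sig.signalizerInf_le hb hb1)))
        exact IsPGroup.coprime_card_of_ne r q hrq R (θ b) (S.2.map _) (hq b (hB hb) hb1)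
      have h1 : Nat.card R = 1 := by rw [le_bot_iff.1 hbot, Subgroup.card_bot]
      rw [CfsgLib.Solv.card_map_subtype] at h1
      have := Sylow.dvd_card_of_dvd_card S hd
      rw [h1] at this
      exact (Fact.out : r.Prime).one_lt.ne' (Nat.dvd_one.1 this)
    refine IsPGroup.iff_card.2 ?_
    refine ⟨_, Nat.eq_prime_pow_of_unique_prime_dvd Nat.card_pos.ne' fun {r} hr hd => ?_⟩
    by_contra hrq
    exact @hle r ⟨hr⟩ hrq hd
  have hne : A ≠ ⊥ := by
    intro e
    rw [e, Subgroup.card_bot] at hA3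
    nlinarith [hp.two_le, Nat.pow_le_pow_right hp.pos (show 1 ≤ 3 by norm_num), hA3]
  have hD := CfsgLib.Solv.Sig.signalizerInf_mem hθ (le_refl A) hne
  obtain ⟨Q, hQ, hDQ⟩ := CfsgLib.Solv.Sig.exists_maxQ_ge hD (hall _ hD)
  refine ⟨hθ.1, Q, hQ.1.2.2.1, hQ.1.2.1, fun a ha ha1 => le_antisymm (hQ.1.2.2.2 a ha ha1) (le_inf ?_ (hθ.1.1 a ha ha1))⟩
  obtain ⟨Q', hQ', haQ'⟩ := CfsgLib.Solv.Sig.exists_maxQ_ge (CfsgLib.Solv.Sig.theta_mem hθ ha ha1) (hq a ha ha1)
  obtain ⟨c, hc, he⟩ := CfsgLib.Solv.Sig.transitivity hA hA3 hθ hQ hQ'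
  rw [CfsgLib.Solv.conj_smul_eq_self_of_mem_normalizer (Subgroup.le_normalizer (hDQ hc))] at he
  exact he ▸ haQ'

end Cfsg.Agent.S1285
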