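import Cfsg.Statements.S1286
import Mathlib
-- import your own Cfsg.Agent.* helpers here

set_option autoImplicit false
open Cfsg

namespace Cfsg.Agent.S1286

/-- There exist a finite group X, an elementary abelian subgroup A of order 4 and a solvable A-signalizer functor θ on X for the prime 2 which is not complete. -/
theorem result : ∃ (X : Type) (_ : Group X) (_ : Finite X) (A : Subgroup X) (θ : X → Subgroup X), Cfsg.IsElementaryAbelian 2 A ∧ Nat.card ↥A = 4 ∧ Cfsg.IsSolvableSignalizerFunctor 2 A θ ∧ ¬ Cfsg.IsCompleteSignalizerFunctor 2 A θ := by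
  classical
  let a : Equiv.Perm (Fin 5) := Equiv.swap 0 1
  let b : Equiv.Perm (Fin 5) := Equiv.swap 2 3
  let g : Equiv.Perm (Fin 5) := Equiv.swap 2 3 * Equiv.swap 3 4
  let h : Equiv.Perm (Fin 5) := Equiv.swap 0 1 * Equiv.swap 1 4
  let A : Subgroup (Equiv.Perm (Fin 5)) :=
    { carrier := {x | x = 1 ∨ x = a ∨ x = b ∨ x = a * b}
      mul_mem' := by
        rintro x y (rfl | rfl | rfl | rfl) (rfl | rfl | rfl | rfl) <;> simp only [Set.mem_setOf_eq] <;> decide
      one_mem' := Or.inl rfl
      inv_mem' := by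
        rintro x (rfl | rfl | rfl | rfl) <;> simp only [Set.mem_setOf_eq] <;> decide }
  have hA : ∀ x, x ∈ A ↔ x = 1 ∨ x = a ∨ x = b ∨ x = a * b := fun x => Iff.rfl
  let θ : Equiv.Perm (Fin 5) → Subgroup (Equiv.Perm (Fin 5)) := fun x =>
    if x = a then Subgroup.zpowers g else if x = b then Subgroup.zpowers h else ⊥
  have ea : θ a = Subgroup.zpowers g := if_pos rfl
  have eb : θ b = Subgroup.zpowers h := (if_neg (by decide)).trans (if_pos rfl)
  have eab : θ (a * b) = ⊥ := (if_neg (by decide)).trans (if_neg (by decide))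
  have h3 : ∀ g : Equiv.Perm (Fin 5), g ^ 3 = 1 → ∀ x ∈ Subgroup.zpowers g, x = 1 ∨ x = g ∨ x = g * g := by
    intro g hg x hx
    obtain ⟨i, rfl⟩ := Subgroup.mem_zpowers_iff.1 hx
    have e : g ^ i = g ^ (i % 3) := by
      conv_lhs => rw [← Int.emod_add_ediv_mul i 3]
      rw [zpow_add, mul_comm, zpow_mul, show g ^ (3 : ℤ) = 1 by exact_mod_cast hg, one_zpow, mul_one]
    have h1 := Int.emod_nonneg i (show (3 : ℤ) ≠ 0 by norm_num)
    have h2 := Int.emod_lt_of_pos i (show (0 : ℤ) < 3 by norm_num)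
    rw [e]
    interval_cases i % 3
    · exact Or.inl (zpow_zero g)
    · exact Or.inr (Or.inl (zpow_one g))
    · exact Or.inr (Or.inr (zpow_two g))
  have hg3 := h3 g (by decide)
  have hh3 := h3 h (by decide)
  have hcard : ∀ g : Equiv.Perm (Fin 5), g ^ 3 = 1 → g ≠ 1 → ¬ 2 ∣ Nat.card (Subgroup.zpowers g) := by
    intro g hg hg1
    rw [Nat.card_zpowers, orderOf_eq_prime (hp := ⟨Nat.prime_three⟩) hg hg1]
    norm_num
  have hconj : ∀ g y : Equiv.Perm (Fin 5), (y * g * y⁻¹ = g ∨ y * g * y⁻¹ = g * g) →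
      ∀ z ∈ Subgroup.zpowers g, y * z * y⁻¹ ∈ Subgroup.zpowers g := by
    intro g y hy z hz
    obtain ⟨i, rfl⟩ := Subgroup.mem_zpowers_iff.1 hz
    rw [← conj_zpow]
    rcases hy with e | e <;> rw [e]
    · exact zpow_mem (Subgroup.mem_zpowers g) i
    · exact zpow_mem (mul_mem (Subgroup.mem_zpowers g) (Subgroup.mem_zpowers g)) i
  refine ⟨Equiv.Perm (Fin 5), inferInstance, inferInstance, A, θ, ⟨⟨⟨?_⟩⟩, ?_⟩, ?_, ⟨⟨?_, ?_, ?_, ?_⟩, ?_⟩, ?_⟩
  · rintro ⟨x, hx⟩ ⟨y, hy⟩
    refine Subtype.ext ?_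
    show x * y = y * x
    rcases (hA x).1 hx with rfl | rfl | rfl | rfl <;> rcases (hA y).1 hy with rfl | rfl | rfl | rfl <;> decide
  · intro x hx
    rcases (hA x).1 hx with rfl | rfl | rfl | rfl <;> decide
  · have e : (A : Set (Equiv.Perm (Fin 5))) = ({1, a, b, a * b} : Finset (Equiv.Perm (Fin 5))) := by
      ext x; simp [hA]
    show Nat.card ↥(A : Set (Equiv.Perm (Fin 5))) = 4
    rw [Nat.card_coe_set_eq, e, Set.ncard_coe_finset]
    decide
  · intro x hx hx1
    rcases (hA x).1 hx with rfl | rfl | rfl | rfl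
    · exact absurd rfl hx1
    · rw [ea, Subgroup.zpowers_le, Subgroup.mem_centralizer_singleton_iff]; decide
    · rw [eb, Subgroup.zpowers_le, Subgroup.mem_centralizer_singleton_iff]; decide
    · rw [eab]; exact bot_le
  · intro x hx hx1
    rcases (hA x).1 hx with rfl | rfl | rfl | rfl
    · exact absurd rfl hx1
    · rw [ea]; exact hcard g (by decide) (by decide)
    · rw [eb]; exact hcard h (by decide) (by decide)
    · rw [eab, Subgroup.card_bot]; norm_num
  · intro x hx hx1 y hy z hz
    rcases (hA x).1 hx with rfl | rfl | rfl | rfl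
    · exact absurd rfl hx1
    · rw [ea] at hz ⊢
      exact hconj g y (by rcases (hA y).1 hy with rfl | rfl | rfl | rfl <;> decide) z hz
    · rw [eb] at hz ⊢
      exact hconj h y (by rcases (hA y).1 hy with rfl | rfl | rfl | rfl <;> decide) z hz
    · rw [eab] at hz ⊢
      rw [Subgroup.mem_bot] at hz ⊢
      simp [hz]
  · intro x hx hx1 y hy hy1 z hz
    obtain ⟨hz1, hz2⟩ := Subgroup.mem_inf.1 hz
    rw [Subgroup.mem_centralizer_singleton_iff] at hz2
    rcases (hA x).1 hx with rfl | rfl | rfl | rfl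
    · exact absurd rfl hx1
    · rcases (hA y).1 hy with rfl | rfl | rfl | rfl
      · exact absurd rfl hy1
      · exact hz1
      all_goals
        rw [ea] at hz1
        rcases hg3 z hz1 with rfl | rfl | rfl <;>
          first | exact one_mem _ | exact absurd hz2 (by decide)
    · rcases (hA y).1 hy with rfl | rfl | rfl | rfl
      · exact absurd rfl hy1
      swap
      · exact hz1
      all_goals
        rw [eb] at hz1
        rcases hh3 z hz1 with rfl | rfl | rfl <;>
          first | exact one_mem _ | exact absurd hz2 (by decide)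
    · rw [eab, Subgroup.mem_bot] at hz1
      rw [hz1]; exact one_mem _
  · intro x hx hx1
    rcases (hA x).1 hx with rfl | rfl | rfl | rfl
    · exact absurd rfl hx1
    · rw [ea]; infer_instance
    · rw [eb]; infer_instance
    · rw [eab]; infer_instance
  · rintro ⟨-, X, -, hX, hθX⟩
    have hgX : g ∈ X := by
      have := Subgroup.mem_zpowers g
      rw [← ea, ← hθX a ((hA a).2 (Or.inr (Or.inl rfl))) (by decide)] at this
      exact (Subgroup.mem_inf.1 this).1
    have hhX : h ∈ X := by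
      have := Subgroup.mem_zpowers h
      rw [← eb, ← hθX b ((hA b).2 (Or.inr (Or.inr (Or.inl rfl)))) (by decide)] at this
      exact (Subgroup.mem_inf.1 this).1
    have hw : g * g * h * g * h ∈ X := mul_mem (mul_mem (mul_mem (mul_mem hgX hgX) hhX) hgX) hhX
    have ho : orderOf (g * g * h * g * h) = 2 := orderOf_eq_prime (by decide) (by decide)
    exact hX (ho ▸ (Subgroup.orderOf_mk _ hw ▸ orderOf_dvd_natCard (⟨_, hw⟩ : X)))

end Cfsg.Agent.S1286
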