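import Cfsg.Statements.S1287
import Cfsg.Agent.Solv.BrauerWielandt
import Cfsg.Agent.Solv.Signalizer

set_option autoImplicit false
open scoped Pointwise
open Cfsg

namespace Cfsg.Agent.S1287

/-- Let A be a noncyclic elementary abelian p-subgroup of a finite group H normalizing a subgroup K of order prime to p, and X, Y ≤ K subgroups normalized by A with C_K(a) = C_X(a) C_Y(a) (as sets) for every non-identity a ∈ A, where X is also normalized by C_K(A). Then K = XY as sets. -/
theorem result {H : Type*} [Group H] [Finite H] (p : ℕ) [Fact p.Prime] (A K X Y : Subgroup H) (hA : Cfsg.IsElementaryAbelian p A) (hA2 : p ^ 2 ≤ Nat.card ↥A) (hK : ¬ p ∣ Nat.card ↥K) (hAK : A ≤ Subgroup.normalizer (K : Set H)) (hX : X ≤ K) (hY : Y ≤ K) (hAX : A ≤ Subgroup.normalizer (X : Set H)) (hAY : A ≤ Subgroup.normalizer (Y : Set H)) (hCX : K ⊓ Subgroup.centralizer (A : Set H) ≤ Subgroup.normalizer (X : Set H)) (hfac : ∀ a ∈ A, a ≠ 1 → ((K ⊓ Subgroup.centralizer {a} : Subgroup H) : Set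 H) = ((X ⊓ Subgroup.centralizer {a} : Subgroup H) : Set H) * ((Y ⊓ Subgroup.centralizer {a} : Subgroup H) : Set H)) : (K : Set H) = (X : Set H) * (Y : Set H) := by

  open CfsgLib.Solv CfsgLib.Solv.BW in
  classical
  have hp := (Fact.out : p.Prime)
  haveI := hA.1
  obtain ⟨r, hr, hrA, u, v, hu, hv, hv1, huv⟩ : ∃ r : ℕ, r.Prime ∧ r ∣ Nat.card A ∧ ∃ u v : A,
      u ^ r = 1 ∧ v ^ r = 1 ∧ v ≠ 1 ∧ u ∉ Subgroup.zpowers v := by
    open scoped IsMulCommutative in
    exact exists_pair_of_not_isCyclic (CfsgLib.Solv.Sig.not_isCyclic hA hA2)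
  obtain ⟨m, hm⟩ := CfsgLib.Solv.Sig.card_eq_pow hA
  have hrp : r = p := (Nat.prime_dvd_prime_iff_eq hr hp).1 (hr.dvd_of_dvd_pow (hm ▸ hrA))
  subst hrp
  have hu' : (u : H) ^ r = 1 := congrArg Subtype.val hu
  have hv' : (v : H) ^ r = 1 := congrArg Subtype.val hv
  have hc : Commute (u : H) (v : H) := commute_of_isMulCommutative u.2 v.2
  set B := Subgroup.closure ({(u : H), (v : H)} : Set H) with hB
  have hBA : B ≤ A := (Subgroup.closure_le A).2 (by
    rintro z (rfl | rfl)
    · exact u.2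
    · exact v.2)
  have hne : ∀ i : Option (Fin r), line (u : H) (v : H) i ≠ 1 := by
    rintro (_ | i) h
    · exact hv1 (Subtype.ext h)
    · refine huv ?_
      have h1 : u = (v ^ (i : ℕ))⁻¹ := eq_inv_of_mul_eq_one_left (Subtype.ext h)
      rw [h1]
      exact inv_mem (pow_mem (Subgroup.mem_zpowers v) _)
  have hprod : ∀ i : Option (Fin r), cd K {line (u : H) (v : H) i} * cd (X ⊓ Y) {line (u : H) (v : H) i} =
      cd X {line (u : H) (v : H) i} * cd Y {line (u : H) (v : H) i} := by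
    intro i
    have h1 := card_set_mul_card_inf (X ⊓ Subgroup.centralizer {line (u : H) (v : H) i})
      (Y ⊓ Subgroup.centralizer {line (u : H) (v : H) i})
    rw [← hfac _ (hBA (line_mem hu' hv' hc i)) (hne i), ← inf_inf_distrib_right] at h1
    exact h1
  have hfix : cd K ({(u : H), (v : H)} : Set H) * cd (X ⊓ Y) ({(u : H), (v : H)} : Set H) =
      cd X ({(u : H), (v : H)} : Set H) * cd Y ({(u : H), (v : H)} : Set H) := by
    have h1 := card_set_mul_card_inf (X ⊓ Subgroup.centralizer ({(u : H), (v : H)} : Set H))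
      (Y ⊓ Subgroup.centralizer ({(u : H), (v : H)} : Set H))
    rw [← inf_inf_distrib_right] at h1
    suffices e : ((X ⊓ Subgroup.centralizer ({(u : H), (v : H)} : Set H) : Subgroup H) : Set H) *
        ((Y ⊓ Subgroup.centralizer ({(u : H), (v : H)} : Set H) : Subgroup H) : Set H) =
        ((K ⊓ Subgroup.centralizer ({(u : H), (v : H)} : Set H) : Subgroup H) : Set H) by
      rw [e] at h1
      exact h1
    apply Set.Subset.antisymm
    · rintro _ ⟨x, hx, y, hy, rfl⟩
      exact Subgroup.mem_inf.2 ⟨mul_mem (hX hx.1) (hY hy.1), mul_mem hx.2 hy.2⟩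
    intro g hg
    obtain ⟨hgK, hgC⟩ := Subgroup.mem_inf.1 hg
    have hgv : g ∈ ((K ⊓ Subgroup.centralizer {(v : H)} : Subgroup H) : Set H) :=
      ⟨hgK, Subgroup.mem_centralizer_singleton_iff.2
        (Subgroup.mem_centralizer_iff.1 hgC v (Or.inr rfl)).symm⟩
    rw [hfac _ v.2 (fun h => hv1 (Subtype.ext h))] at hgv
    obtain ⟨x, hx, y, hy, rfl⟩ := hgv
    have hBx : ∀ a ∈ B, Commute a (x * y) := fun a ha => by
      have : B ≤ Subgroup.centralizer {x * y} := (Subgroup.closure_le _).2 fun z hz =>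
        Subgroup.mem_centralizer_singleton_iff.2 (Subgroup.mem_centralizer_iff.1 hgC z hz)
      exact Subgroup.mem_centralizer_singleton_iff.1 (this ha)
    have hD : B ≤ Subgroup.normalizer ((X ⊓ Y : Subgroup H) : Set H) :=
      le_normalizer_inf_of_le (hBA.trans hAX) (hBA.trans hAY)
    have hDK : X ⊓ Y ≤ K := inf_le_left.trans hX
    have hD' := normalizes_centralizer hu' hv' hc (K := X ⊓ Y) hD
      (S := {(v : H)}) (Set.singleton_subset_iff.2 (Subgroup.subset_closure (Or.inr rfl)))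
    have hcop := coprime_of_not_dvd hu' hv' hc hK
    obtain ⟨d, hd, hxd⟩ := exists_centralizing_in_coset (hBA.trans hAK)
      (inf_eq_bot_of_coprime_card hcop) ((inf_le_left).trans hDK) hD'
      (hcop.coprime_dvd_right (Subgroup.card_dvd_of_le ((inf_le_left).trans hDK)))
      (Or.inl (isSolvable_closure hu' hv' hc)) (hX hx.1)
      (fun a ha => by
        have e : x⁻¹ * a * x * a⁻¹ = y * (a * y⁻¹ * a⁻¹) := by
          rw [show x⁻¹ * a * x * a⁻¹ = x⁻¹ * (a * (x * y)) * y⁻¹ * a⁻¹ by group, (hBx a ha).eq]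
          group
        refine Subgroup.mem_inf.2 ⟨Subgroup.mem_inf.2 ⟨?_, ?_⟩, ?_⟩
        · have h2 := X.mul_mem (X.inv_mem hx.1) (le_normalizer_iff_forall_conj_mem.1 hAX a (hBA ha) x hx.1)
          simpa [mul_assoc] using h2
        · rw [e]
          exact mul_mem hy.1 (le_normalizer_iff_forall_conj_mem.1 hAY a (hBA ha) _ (inv_mem hy.1))
        · rw [e]
          refine mul_mem hy.2 ?_
          rw [Subgroup.mem_centralizer_singleton_iff]
          have e1 : Commute (v : H) a := commute_of_isMulCommutative v.2 (hBA ha)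
          have e2 : Commute (v : H) y⁻¹ :=
            (Subgroup.mem_centralizer_singleton_iff.1 (inv_mem hy.2)).symm
          exact (((e1.mul_right e2).mul_right e1.inv_right).eq).symm)
    obtain ⟨⟨hdX, hdY⟩, hdv⟩ := hd
    have hxd' : x * d ∈ Subgroup.centralizer ({(u : H), (v : H)} : Set H) :=
      Subgroup.centralizer_le Subgroup.subset_closure hxd
    refine ⟨x * d, ⟨mul_mem hx.1 hdX, hxd'⟩, (x * d)⁻¹ * (x * y), ⟨?_, ?_⟩, by group⟩
    · rw [show (x * d)⁻¹ * (x * y) = d⁻¹ * y by group]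
      exact Y.mul_mem (Y.inv_mem hdY) hy.1
    · exact Subgroup.mul_mem _ (Subgroup.inv_mem _ hxd') hgC
  have eK := formula hu' hv' hc (hBA.trans hAK) hK
  have hdvd : ∀ {T : Subgroup H}, T ≤ K → ¬ r ∣ Nat.card T :=
    fun hT h => hK (h.trans (Subgroup.card_dvd_of_le hT))
  have eX := formula hu' hv' hc (hBA.trans hAX) (hdvd hX)
  have eY := formula hu' hv' hc (hBA.trans hAY) (hdvd hY)
  have eD := formula hu' hv' hc (le_normalizer_inf_of_le (hBA.trans hAX) (hBA.trans hAY))
    (hdvd (inf_le_left.trans hX : X ⊓ Y ≤ K))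
  have key : Nat.card X * Nat.card Y = Nat.card K * Nat.card (X ⊓ Y : Subgroup H) := by
    have h1 : (Nat.card X * Nat.card Y) * (cd X ({(u : H), (v : H)} : Set H) * cd Y ({(u : H), (v : H)} : Set H)) ^ r =
        (Nat.card K * Nat.card (X ⊓ Y : Subgroup H)) * (cd K ({(u : H), (v : H)} : Set H) * cd (X ⊓ Y) ({(u : H), (v : H)} : Set H)) ^ r := by
      rw [mul_pow, mul_pow, mul_mul_mul_comm, mul_mul_mul_comm (Nat.card K), eX, eY, eK, eD,
        ← Finset.prod_mul_distrib, ← Finset.prod_mul_distrib]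
      exact Finset.prod_congr rfl fun i _ => (hprod i).symm
    rw [hfix] at h1
    exact Nat.eq_of_mul_eq_mul_right (pow_pos (Nat.mul_pos Nat.card_pos Nat.card_pos) r) h1
  have hsub : (X : Set H) * (Y : Set H) ⊆ (K : Set H) := by
    rintro _ ⟨x, hx, y, hy, rfl⟩
    exact mul_mem (hX hx) (hY hy)
  have hcard := card_set_mul_card_inf X Y
  rw [key] at hcard
  have hc' := Nat.eq_of_mul_eq_mul_right Nat.card_pos hcard
  refine (Set.eq_of_subset_of_ncard_le hsub ?_ (Set.toFinite _)).symm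
  rw [← Nat.card_coe_set_eq, ← Nat.card_coe_set_eq, hc']
  rfl

end Cfsg.Agent.S1287
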