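import Cfsg.Statements.S1288
import Cfsg.Agent.Solv.Generation
import Cfsg.Agent.Solv.FittingBasic
import Cfsg.Agent.Solv.Signalizer
import Cfsg.Agent.Solv.PLocalLayer
import Cfsg.Agent.Fus.CoreBasic

set_option autoImplicit false
open Cfsg

namespace Cfsg.Agent.S1288

/-- Let A be a noncyclic elementary abelian p-subgroup of a finite group H normalizing a solvable subgroup K of order prime to p, q a prime dividing |K|, and U ≤ K a subgroup of order prime to q such that ⁅U, C_K(B)⁆ has order prime to q for every subgroup B of index p in A. Then U ≤ O_{q'}(K). -/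
theorem result {H : Type*} [Group H] [Finite H] (p : ℕ) [Fact p.Prime] (A K : Subgroup H) (hA : Cfsg.IsElementaryAbelian p A) (hA2 : p ^ 2 ≤ Nat.card ↥A) (hK : ¬ p ∣ Nat.card ↥K) (hKs : Group.IsSolvable ↥K) (hAK : A ≤ Subgroup.normalizer (K : Set H)) (q : ℕ) [Fact q.Prime] (hqK : q ∣ Nat.card ↥K) (U : Subgroup H) (hU : U ≤ K) (hUq : ¬ q ∣ Nat.card ↥U) (hcomm : ∀ B : Subgroup H, B ≤ A → B.relIndex A = p → ¬ q ∣ Nat.card ↥⁅U, K ⊓ Subgroup.centralizer (B : Set H)⁆) : U ≤ (Cfsg.pPrimeCore q ↥K).map K.subtype := by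

  open CfsgLib.Solv CfsgLib.Solv.Sig in
  open scoped commutatorElement in
  classical
  have hp := (Fact.out : p.Prime)
  haveI := hA.1
  set O := Cfsg.pPrimeCore q K with hO
  haveI : O.Normal := CfsgLib.Solv.pPrimeCore_normal K q
  set π := QuotientGroup.mk' O with hπ
  haveI : (Cfsg.pCore q (↥K ⧸ O)).Normal := CfsgLib.Solv.pCore_normal _ q
  haveI : Group.IsSolvable ↥K := hKs
  haveI : Group.IsSolvable (↥K ⧸ O) :=
    solvable_of_surjective (f := π) (QuotientGroup.mk'_surjective O)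
  set F := ((Cfsg.pCore q (↥K ⧸ O)).comap π).map K.subtype with hF
  set Ub := ((U.subgroupOf K).map π) with hUb
  set W := ((Subgroup.centralizer (Ub : Set (↥K ⧸ O))).comap π).map K.subtype with hW
  have hFK : F ≤ K := Subgroup.map_subtype_le _
  have hAF : A ≤ Subgroup.normalizer (F : Set H) := by
    intro a ha
    refine Subgroup.mem_normalizer_fintype ?_
    rintro _ ⟨x, hx, rfl⟩
    let φ : K ≃* K := (MulAut.conj a).subgroupMap K |>.trans (MulEquiv.subgroupCongr (by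
      show K.map (MulAut.conj a).toMonoidHom = K
      rw [← conj_smul_eq_map]
      exact conj_smul_eq_self_of_mem_normalizer (hAK ha)))
    haveI hOc : O.Characteristic := CfsgLib.Fus.characteristic_pPrimeCore q
    haveI := CfsgLib.Fus.characteristic_pCore (G := ↥K ⧸ O) q
    let Ψ := QuotientGroup.congr O O φ (Subgroup.characteristic_iff_map_eq.1 hOc φ)
    refine ⟨φ x, ?_, rfl⟩
    show π (φ x) ∈ Cfsg.pCore q (↥K ⧸ O)
    have h2 : Ψ (π x) = π (φ x) := rfl
    rw [← h2, ← Subgroup.characteristic_iff_map_eq.1 (inferInstance : (Cfsg.pCore q (↥K ⧸ O)).Characteristic) Ψ]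
    exact ⟨_, hx, rfl⟩
  have hcopF : (Nat.card A).Coprime (Nat.card F) :=
    (coprime_card hA hK).coprime_dvd_right (Subgroup.card_dvd_of_le hFK)
  have hidx : ∀ B : Subgroup H, B ≤ A → (∃ a ∈ A, B ⊔ Subgroup.zpowers a = A) →
      ∃ B' : Subgroup H, B' ≤ B ∧ B'.relIndex A = p := by
    intro B hB hc
    obtain ⟨n, hn⟩ := card_eq_pow hA
    have hd : Nat.card B ∣ p ^ n := hn ▸ Subgroup.card_dvd_of_le hB
    obtain ⟨m, hm, hBm⟩ := (Nat.dvd_prime_pow hp).1 hd
    have hle := card_le_of_cocyclic hA hB hc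
    rw [hn, hBm, ← pow_succ] at hle
    have hnm : n ≤ m + 1 := (Nat.pow_le_pow_iff_right hp.one_lt).1 hle
    have hn2 : 2 ≤ n := (Nat.pow_le_pow_iff_right hp.one_lt).1 (hn ▸ hA2)
    obtain ⟨C, hC⟩ := Sylow.exists_subgroup_card_pow_prime p (G := B) (n := n - 1)
      (hBm ▸ pow_dvd_pow p (by omega))
    refine ⟨C.map B.subtype, Subgroup.map_subtype_le _, ?_⟩
    have h1 := Subgroup.card_mul_index ((C.map B.subtype).subgroupOf A)
    rw [card_subgroupOf ((Subgroup.map_subtype_le _).trans hB), card_map_subtype, hC, hn,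
      show n = n - 1 + 1 by omega, pow_succ] at h1
    simp only [Nat.add_sub_cancel] at h1
    exact Nat.eq_of_mul_eq_mul_left (pow_pos hp.pos _) h1
  have hgen : F ≤ W := by
    refine le_of_cocyclic_centralizers hAF hcopF fun B hB hc => ?_
    obtain ⟨B', hB', hi⟩ := hidx B hB hc
    intro x hx
    obtain ⟨⟨xk, hxk, rfl⟩, hxB⟩ := hx
    refine ⟨xk, Subgroup.mem_centralizer_iff.2 ?_, rfl⟩
    rintro _ ⟨u, hu, rfl⟩
    rw [← commutatorElement_eq_one_iff_mul_comm]
    have hmem : (⁅u, xk⁆ : K).1 ∈ ⁅U, K ⊓ Subgroup.centralizer (B' : Set H)⁆ := by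
      show ⁅(u : H), (xk : H)⁆ ∈ _
      exact Subgroup.commutator_mem_commutator hu ⟨xk.2, Subgroup.centralizer_le hB' hxB⟩
    have h1 : ¬ q ∣ orderOf ⁅u, xk⁆ := fun h => hcomm B' (hB'.trans hB) hi
      (h.trans (Subgroup.orderOf_coe ⁅u, xk⁆ ▸ Subgroup.orderOf_dvd_natCard _ hmem))
    have h2 : π ⁅u, xk⁆ ∈ Cfsg.pCore q (↥K ⧸ O) := by
      rw [map_commutatorElement, commutatorElement_def]
      exact mul_mem ((CfsgLib.Solv.pCore_normal (↥K ⧸ O) q).conj_mem _ hxk (π u)) (inv_mem hxk)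
    have h3 : (orderOf (π ⁅u, xk⁆)).Coprime q :=
      Nat.Coprime.coprime_dvd_left (orderOf_map_dvd π _) (((Fact.out : q.Prime).coprime_iff_not_dvd.2 h1).symm)
    rw [← map_commutatorElement π u xk]
    exact eq_one_of_pPrime_of_mem_pGroup (CfsgLib.Solv.pCore_isPGroup _ q) h2 h3
  have hUC : Ub ≤ Subgroup.centralizer (Cfsg.pCore q (↥K ⧸ O) : Set (↥K ⧸ O)) := by
    intro z hz
    refine Subgroup.mem_centralizer_iff.2 fun f hf => ?_
    obtain ⟨fk, rfl⟩ := QuotientGroup.mk'_surjective O f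
    obtain ⟨w, hw, hwe⟩ := hgen ⟨fk, hf, rfl⟩
    rw [Subtype.ext hwe] at hw
    exact (Subgroup.mem_centralizer_iff.1 hw z hz).symm
  have hcore : Cfsg.pPrimeCore q (↥K ⧸ O) = ⊥ := CfsgLib.Solv.pPrimeCore_quotient_self
  have hUF : Ub ≤ Cfsg.pCore q (↥K ⧸ O) := hUC.trans (centralizer_pCore_le hcore)
  intro u hu
  refine ⟨⟨u, hU hu⟩, ?_, rfl⟩
  refine (QuotientGroup.eq_one_iff _).1 ?_
  refine eq_one_of_pPrime_of_mem_pGroup (CfsgLib.Solv.pCore_isPGroup _ q) (hUF ⟨⟨u, hU hu⟩, hu, rfl⟩) ?_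
  refine Nat.Coprime.coprime_dvd_left (orderOf_map_dvd π _) ?_
  rw [Subgroup.orderOf_mk]
  exact ((Fact.out : q.Prime).coprime_iff_not_dvd.2 fun h => hUq (h.trans (Subgroup.orderOf_dvd_natCard _ hu))).symm

end Cfsg.Agent.S1288
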