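-- Statement S1292
import Cfsg.Statements.S1292
import Cfsg.Agent.Solv.CompBasic

set_option autoImplicit false
open Cfsg
set_option linter.style.haveILetI false
set_option linter.deprecated false

namespace Cfsg.Agent.S1292

/-- Let G be a finite group such that F*(C_G(t)) = O_2(C_G(t)) for every involution t. Then F*(N_G(T)) = O_2(N_G(T)) for every nontrivial 2-subgroup T of G. -/
theorem result {G : Type*} [Group G] [Finite G] (h : ∀ t : G, orderOf t = 2 → Cfsg.generalizedFittingSubgroup ↥(Subgroup.centralizer ({t} : Set G)) = Cfsg.pCore 2 ↥(Subgroup.centralizer ({t} : Set G))) (T : Subgroup G) (hT : IsPGroup 2 ↥T) (hT1 : T ≠ ⊥) : Cfsg.generalizedFittingSubgroup ↥(Subgroup.normalizer (T : Set G)) = Cfsg.pCore 2 ↥(Subgroup.normalizer (T : Set G)) := by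
    haveI : Fact (Nat.Prime 2) := ⟨Nat.prime_two⟩
    haveI : Nontrivial T := T.nontrivial_iff_ne_bot.2 hT1
    haveI := hT.center_nontrivial
    obtain ⟨k, hk0, hk⟩ := (hT.to_subgroup (Subgroup.center T)).nontrivial_iff_card.1 inferInstance
    obtain ⟨⟨⟨z, hzT⟩, hzc⟩, hzo⟩ :=
      exists_prime_orderOf_dvd_card' (G := Subgroup.center T) 2 (hk ▸ dvd_pow_self 2 hk0.ne')
    rw [Subgroup.orderOf_mk, Subgroup.orderOf_mk] at hzo
    rw [CfsgLib.Inv.genFitting_eq_pCore_iff]
    refine CfsgLib.Inv.charP_normalizer (CfsgLib.Inv.genFitting_eq_pCore_iff.1 (h z hzo)) hT ?_ ?_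
    · intro t ht
      rw [Subgroup.mem_centralizer_iff]
      rintro y rfl
      exact (congrArg Subtype.val (Subgroup.mem_center_iff.1 hzc ⟨t, ht⟩)).symm
    · exact Subgroup.centralizer_le (by rintro y rfl; exact hzT)

end Cfsg.Agent.S1292
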