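import Cfsg.Statements.S1327
import Cfsg.Agent.Base.Constrained
import Cfsg.Agent.Solv.FittingBasic
-- import your own Cfsg.Agent.* helpers here

set_option autoImplicit false
open Cfsg

namespace Cfsg.Agent.S1327

/-- A finite group X is p-constrained if and only if its p-layer L_{p'}(X) is trivial (equivalently X / O_{p'}(X) has trivial layer). -/
theorem result {X : Type*} [Group X] [Finite X] (p : ℕ) [Fact p.Prime] : Cfsg.IsPConstrained p X ↔ Cfsg.pLayer p X = ⊥ := by
  classical
  haveI := CfsgLib.Solv.pPrimeCore_normal X p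
  set K := Cfsg.pPrimeCore p X with hK
  set π := QuotientGroup.mk' K with hπ
  have hbot : Cfsg.pPrimeCore p (X ⧸ K) = ⊥ := CfsgLib.Solv.pPrimeCore_quotient_self
  have hF := CfsgLib.Solv.fittingSubgroup_eq_pCore hbot
  have h1 : Cfsg.IsPConstrained p X ↔ Cfsg.layer (X ⧸ K) = ⊥ := by
    rw [Cfsg.Agent.S0630.result, CfsgLib.Base.Constrained.constrained_iff_of_core_bot hbot]
    show Subgroup.centralizer _ ≤ _ ↔ _
    rw [← CfsgLib.Inv.genFitting_eq_pCore_iff]
    constructor
    · intro h
      by_contra hne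
      rw [CfsgLib.Inv.layer_eq_bot_iff] at hne
      push_neg at hne
      obtain ⟨C, hC⟩ := hne
      haveI := (CfsgLib.Solv.pCore_isPGroup (X ⧸ K) p).isNilpotent
      refine CfsgLib.Inv.component_not_le_solvable hC (H := Cfsg.pCore p (X ⧸ K)) inferInstance ?_
      exact (CfsgLib.Inv.component_le_layer hC).trans (CfsgLib.Inv.layer_le_genFitting.trans h.le)
    · intro h
      rw [Cfsg.generalizedFittingSubgroup, h, bot_sup_eq, hF]
  rw [h1]
  constructor
  · intro h
    rw [Cfsg.pLayer, sSup_eq_bot]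
    intro C hC
    exact absurd hC.2.1 (CfsgLib.Inv.layer_eq_bot_iff.mp h _)
  · intro h
    rw [CfsgLib.Inv.layer_eq_bot_iff]
    intro C hC
    have hM : (C.comap π).IsSubnormal := hC.1.comap π
    have hMC : (C.comap π).map π = C := Subgroup.map_comap_eq_self_of_surjective (QuotientGroup.mk'_surjective K) C
    obtain ⟨L, hL, hmin⟩ := Finite.exists_le_minimal (p := fun L : Subgroup X => L.IsSubnormal ∧ L.map π = C)
      (a := C.comap π) ⟨hM, hMC⟩
    have hLp : Cfsg.IsPComponent p L := ⟨hmin.1.1, by rw [show L.map (QuotientGroup.mk' (Cfsg.pPrimeCore p X)) = C from hmin.1.2]; exact hC,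
      fun H hH hHL he => le_antisymm hHL (hmin.2 ⟨hH, he.trans hmin.1.2⟩ hHL)⟩
    have : L = ⊥ := le_bot_iff.mp (h ▸ le_sSup hLp : L ≤ ⊥)
    refine CfsgLib.Inv.component_ne_bot hC ?_
    rw [← hmin.1.2, this, Subgroup.map_bot]

end Cfsg.Agent.S1327
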