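import Cfsg.Statements.S1293
import Cfsg.Agent.Solv.PLocalLayer
import Cfsg.Agent.S1327
import Cfsg.Agent.Solv.PCompLayer

set_option autoImplicit false
open Cfsg

namespace Cfsg.Agent.S1293

/-- Let G be finite with L_{p'}(G) = 1, and H = N_G(P) for a nontrivial p-subgroup P. Then L_{p'}(H) = 1 and O_{p'}(H) ≤ O_{p'}(G). -/
theorem result {G : Type*} [Group G] [Finite G] (p : ℕ) [Fact p.Prime] (hL : Cfsg.pLayer p G = ⊥) (P : Subgroup G) (hP : IsPGroup p ↥P) (hP1 : P ≠ ⊥) : Cfsg.pLayer p ↥(Subgroup.normalizer (P : Set G)) = ⊥ ∧ (Cfsg.pPrimeCore p ↥(Subgroup.normalizer (P : Set G))).map (Subgroup.normalizer (P : Set G)).subtype ≤ Cfsg.pPrimeCore p G := by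
  classical
  have hL' := hL
  set N := Subgroup.normalizer (P : Set G) with hN
  haveI := CfsgLib.Solv.pPrimeCore_normal N p
  haveI := CfsgLib.Solv.pPrimeCore_normal G p
  set O := Cfsg.pPrimeCore p G with hO
  set π := QuotientGroup.mk' O with hπ
  haveI := CfsgLib.Solv.pCore_normal (G ⧸ O) p
  have hbot : Cfsg.pPrimeCore p (G ⧸ O) = ⊥ := CfsgLib.Solv.pPrimeCore_quotient_self
  have hlay : Cfsg.layer (G ⧸ O) = ⊥ := by
    rw [CfsgLib.Inv.layer_eq_bot_iff]
    intro C hC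
    obtain ⟨L, hL, he⟩ := CfsgLib.Solv.exists_pComp_over hC
    have hLb : L = ⊥ := le_bot_iff.1 (hL' ▸ le_sSup hL)
    exact CfsgLib.Inv.component_ne_bot hC (by rw [← he, hLb, Subgroup.map_bot])
  have hself : Subgroup.centralizer (Cfsg.pCore p (G ⧸ O) : Set (G ⧸ O)) ≤ Cfsg.pCore p (G ⧸ O) := by
    have h := CfsgLib.Inv.centralizer_genFitting_le (G := G ⧸ O)
    rwa [Cfsg.generalizedFittingSubgroup, hlay, bot_sup_eq, CfsgLib.Solv.fittingSubgroup_eq_pCore hbot] at h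
  have hcore : ∀ w : N, QuotientGroup.mk' (Cfsg.pPrimeCore p N) w ∈ Cfsg.layer (N ⧸ Cfsg.pPrimeCore p N) →
      π (w : G) ∈ Cfsg.pCore p (G ⧸ O) := fun w hw =>
    hself (CfsgLib.Solv.layerPre_centralizes π (QuotientGroup.mk'_surjective O)
      (by rw [hπ, QuotientGroup.ker_mk']; exact CfsgLib.Solv.pPrimeCore_coprime G p)
      (Cfsg.pCore p (G ⧸ O)) (CfsgLib.Solv.pCore_isPGroup (G ⧸ O) p) P hP w hw)
  have hON : (Cfsg.pPrimeCore p N).map N.subtype ≤ O := by
    rintro _ ⟨o, ho, rfl⟩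
    refine (QuotientGroup.eq_one_iff _).1 (CfsgLib.Solv.eq_one_of_pPrime_of_mem_pGroup
      (CfsgLib.Solv.pCore_isPGroup (G ⧸ O) p) (hcore o ?_) ?_)
    · rw [show QuotientGroup.mk' (Cfsg.pPrimeCore p N) o = 1 from (QuotientGroup.eq_one_iff o).2 ho]
      exact one_mem _
    · refine Nat.Coprime.coprime_dvd_left (orderOf_map_dvd π _) ?_
      rw [Subgroup.coe_subtype, Subgroup.orderOf_coe]
      exact (CfsgLib.Solv.pPrimeCore_coprime N p).coprime_dvd_left (Subgroup.orderOf_dvd_natCard _ ho)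
  refine ⟨le_bot_iff.1 (sSup_le fun K hK => ?_), hON⟩
  exfalso
  set K' := (K.map N.subtype).map π with hK'
  have hle : K' ≤ Cfsg.pCore p (G ⧸ O) := by
    rintro _ ⟨_, ⟨k, hk, rfl⟩, rfl⟩
    exact hcore k (CfsgLib.Inv.component_le_layer hK.2.1 ⟨k, hk, rfl⟩)
  have hperf : ⁅K', K'⁆ = K' := by
    rw [hK', ← Subgroup.map_commutator, ← Subgroup.map_commutator, CfsgLib.Solv.pComp_perfect hK]
  haveI := ((CfsgLib.Solv.pCore_isPGroup (G ⧸ O) p).to_le hle).isNilpotent
  have hbotK : K' = ⊥ := by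
    by_contra hne
    haveI : Nontrivial K' := (Subgroup.nontrivial_iff_ne_bot _).2 hne
    refine (Group.IsSolvable.commutator_lt_top_of_nontrivial K').ne ?_
    refine Subgroup.map_injective K'.subtype_injective ?_
    rw [map_commutator_eq, Subgroup.range_subtype, hperf, ← MonoidHom.range_eq_map, Subgroup.range_subtype]
  rw [hK', Subgroup.map_eq_bot_iff, QuotientGroup.ker_mk'] at hbotK
  refine CfsgLib.Solv.not_dvd_card_pPrimeCore (G := G) (p := p) ((CfsgLib.Solv.pComp_dvd_card hK).trans ?_)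
  rw [← Subgroup.card_map_of_injective N.subtype_injective]
  exact Subgroup.card_dvd_of_le hbotK

end Cfsg.Agent.S1293
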