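import Cfsg.Statements.S1297
import Cfsg.Agent.Solv.CompBalanceMain

set_option autoImplicit false
open Cfsg
open scoped commutatorElement Pointwise

namespace Cfsg.Agent.S1297

/-- Let G be finite. Suppose that for every involution x, writing C = C_G(x), every component K of C / O(C) has K / Z(K) locally balanced. Then G is balanced. -/
theorem result {G : Type*} [Group G] [Finite G] (h : ∀ x : G, orderOf x = 2 → ∀ K : Subgroup (↥(Subgroup.centralizer ({x} : Set G)) ⧸ Cfsg.oddCore ↥(Subgroup.centralizer ({x} : Set G))), Cfsg.IsComponent K → Cfsg.IsLocallyBalanced (↥K ⧸ Subgroup.center ↥K)) : Cfsg.IsBalanced G := by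
  intro x y hx hy hxy
  have key : ∀ x y : G, orderOf x = 2 → orderOf y = 2 → x * y = y * x →
      Cfsg.centralizerPPrimeCore 2 x ⊓ Subgroup.centralizer {y} ≤
        Cfsg.centralizerPPrimeCore 2 y ⊓ Subgroup.centralizer {x} := by
    intro x y hx hy hxy
    refine le_inf ?_ (inf_le_left.trans (CfsgLib.Solv.CompBal.core_cent_le x))
    have hA : Cfsg.IsElementaryAbelian 2 (Subgroup.zpowers x) := ⟨inferInstance, fun a ha => by
      obtain ⟨i, rfl⟩ := Subgroup.mem_zpowers_iff.1 ha
      rw [← zpow_natCast, ← zpow_mul, mul_comm, zpow_mul, zpow_natCast, ← hx, pow_orderOf_eq_one, one_zpow]⟩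
    refine le_trans (inf_le_inf_right _ ?_) (CfsgLib.Solv.CompBal.delta_inf_le (k := 1) le_rfl hA
      (by rw [Nat.card_zpowers, hx, pow_one]) (fun a ha => ?_) fun K hK H hH B hB hBc => ?_)
    · refine le_iInf fun a => ?_
      obtain ⟨a, ha, ha1⟩ := a
      obtain ⟨i, rfl⟩ := Subgroup.mem_zpowers_iff.1 ha
      have : x ^ i = x := by
        rcases Int.even_or_odd i with ⟨j, rfl⟩ | ⟨j, rfl⟩
        · exfalso; apply ha1; rw [← two_mul, zpow_mul, zpow_two, ← sq, ← hx, pow_orderOf_eq_one, one_zpow]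
        · rw [zpow_add_one, zpow_mul, zpow_two, ← sq, ← hx, pow_orderOf_eq_one, one_zpow, one_mul]
      show _ ≤ Cfsg.centralizerPPrimeCore 2 (x ^ i)
      rw [this]
    · obtain ⟨i, rfl⟩ := Subgroup.mem_zpowers_iff.1 ha
      exact ((show Commute x y from hxy).zpow_left i).eq
    · obtain ⟨u, hu, hu1⟩ := B.bot_or_exists_ne_one.resolve_left fun e => by
        rw [e, Subgroup.card_bot] at hBc; omega
      have hb := h y hy K hK H hH u (orderOf_eq_prime (hB.2 u hu) hu1)
      rw [Cfsg.signalizerDelta, ← le_bot_iff]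
      exact (iInf_le (fun a : {a : ↥H // a ∈ B ∧ a ≠ 1} => Cfsg.centralizerPPrimeCore 2 (a : ↥H)) ⟨u, hu, hu1⟩).trans hb.le
  exact le_antisymm (key x y hx hy hxy) (key y x hy hx hxy.symm)

end Cfsg.Agent.S1297
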