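-- Statement S1300
import Cfsg.Statements.S1300
import Cfsg.Agent.Solv.CompBasic

set_option autoImplicit false
open Cfsg
set_option linter.style.haveILetI false
set_option linter.deprecated false

namespace Cfsg.Agent.S1300

/-- For a finite group G, balance in the sense of commuting involutions is the same as 1-balance for the prime 2. -/
theorem result {G : Type*} [Group G] [Finite G] : Cfsg.IsBalanced G ↔ Cfsg.IsKBalanced 2 1 G := by
    have key : ∀ (A : Subgroup G) (a : G), a ∈ A → a ≠ 1 → Nat.card A = 2 →
        Cfsg.signalizerDelta 2 A = Cfsg.centralizerPPrimeCore 2 a ∧ ∀ x ∈ A, x = 1 ∨ x = a := by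
      intro A a ha ha1 hcard
      have hall : ∀ x ∈ A, x = 1 ∨ x = a := by
        intro x hx
        by_contra hne
        obtain ⟨h1, h2⟩ := not_or.1 hne
        obtain ⟨u, v, huv, huniv⟩ := Nat.card_eq_two_iff.1 hcard
        have hmem : ∀ w : A, w = u ∨ w = v := fun w => by
          have : w ∈ ({u, v} : Set A) := huniv ▸ Set.mem_univ w
          simpa using this
        rcases hmem 1 with e1 | e1 <;> rcases hmem ⟨a, ha⟩ with e2 | e2 <;>
          rcases hmem ⟨x, hx⟩ with e3 | e3 <;>
          first
            | exact ha1 (congrArg Subtype.val (e2.trans e1.symm))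
            | exact h1 (congrArg Subtype.val (e3.trans e1.symm))
            | exact h2 (congrArg Subtype.val (e3.trans e2.symm))
      refine ⟨le_antisymm (iInf_le (fun b : {b : G // b ∈ A ∧ b ≠ 1} => Cfsg.centralizerPPrimeCore 2 (b : G))
        ⟨a, ha, ha1⟩) (le_iInf fun b => ?_), hall⟩
      rw [(hall b.1 b.2.1).resolve_left b.2.2]
    constructor
    · intro h A hA hcard b hb hcomm
      rw [pow_one] at hcard
      haveI : Nontrivial A := Finite.one_lt_card_iff_nontrivial.1 (by omega)
      obtain ⟨⟨a, ha⟩, ha1⟩ := exists_ne (1 : A)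
      have ha1' : a ≠ 1 := fun e => ha1 (Subtype.ext e)
      rw [(key A a ha ha1' hcard).1]
      have hoa : orderOf a = 2 := orderOf_eq_prime (hp := ⟨Nat.prime_two⟩) (hA.2 a ha) ha1'
      rw [h a b hoa hb (hcomm a ha)]
      exact inf_le_left
    · intro h x y hx hy hxy
      have main : ∀ u v : G, orderOf u = 2 → orderOf v = 2 → u * v = v * u →
          Cfsg.centralizerPPrimeCore 2 u ⊓ Subgroup.centralizer {v} ≤
            Cfsg.centralizerPPrimeCore 2 v ⊓ Subgroup.centralizer {u} := by
        intro u v hu hv huv
        have hu1 : u ≠ 1 := fun e => by rw [e, orderOf_one] at hu; omega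
        have hc : Nat.card (Subgroup.zpowers u) = 2 ^ 1 := by rw [Nat.card_zpowers, hu, pow_one]
        have hea : Cfsg.IsElementaryAbelian 2 (Subgroup.zpowers u) :=
          ⟨inferInstance, fun a ⟨i, hi⟩ => by
            rw [← hi, ← zpow_natCast, ← zpow_mul, mul_comm, zpow_mul, zpow_natCast, ← hu,
              pow_orderOf_eq_one, one_zpow]⟩
        have h1 := h (Subgroup.zpowers u) hea hc v hv (fun a ⟨i, hi⟩ => by
          rw [← hi]; exact ((show Commute u v from huv).zpow_left i).eq)
        rw [(key _ u (Subgroup.mem_zpowers u) hu1 (by rw [hc, pow_one])).1] at h1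
        refine le_inf h1 (inf_le_left.trans ?_)
        exact (Subgroup.map_subtype_le _).trans le_rfl
      exact le_antisymm (main x y hx hy hxy) (main y x hy hx hxy.symm)

end Cfsg.Agent.S1300
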