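import Cfsg.Statements.S1302
import Cfsg.Agent.Solv.BaerFixedGroup
import Cfsg.Agent.Base.Constrained
import Cfsg.Agent.Solv.CoprimeAction
import Cfsg.Agent.Solv.ThompsonPre
import Cfsg.Agent.Solv.PComplement

set_option autoImplicit false
open Cfsg

namespace Cfsg.Agent.S1302

/-- Let X be a finite p-constrained group, p an odd prime, and A an abelian p-subgroup of X containing every element of order p of C_X(A). Then every subgroup of X of order prime to p that is normalized by A lies in O_{p'}(X). -/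
theorem result {X : Type*} [Group X] [Finite X] (p : ℕ) [Fact p.Prime] (hp : p ≠ 2) (hX : Cfsg.IsPConstrained p X) (A : Subgroup X) (hA : IsMulCommutative ↥A) (hAp : IsPGroup p ↥A) (hΩ : ∀ x ∈ Subgroup.centralizer (A : Set X), orderOf x = p → x ∈ A) (Q : Subgroup X) (hQ : ¬ p ∣ Nat.card ↥Q) (hAQ : A ≤ Subgroup.normalizer (Q : Set X)) : Q ≤ Cfsg.pPrimeCore p X := by
  set K := Cfsg.pPrimeCore p X with hKdef
  haveI : K.Normal := CfsgLib.Solv.pPrimeCore_normal X p
  have hK : (Nat.card K).Coprime p := CfsgLib.Solv.pPrimeCore_coprime X p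
  set f := QuotientGroup.mk' K
  set R := Cfsg.pCore p (X ⧸ K) with hR
  haveI : R.Normal := CfsgLib.Solv.pCore_normal _ p
  have hRp : IsPGroup p R := CfsgLib.Solv.pCore_isPGroup _ p
  have hCR : Subgroup.centralizer (R : Set (X ⧸ K)) ≤ R := CfsgLib.Base.Constrained.quotient_charP hX
  have hp1 := (Fact.out : p.Prime)
  have hQc : (Nat.card (Q.map f)).Coprime p :=
    ((hp1.coprime_iff_not_dvd.2 hQ).symm).coprime_dvd_left (Subgroup.card_map_dvd ..)
  have hRN : ∀ S : Subgroup (X ⧸ K), S ≤ Subgroup.normalizer (R : Set (X ⧸ K)) := fun S => by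
    rw [Subgroup.normalizer_eq_top_iff.2 inferInstance]; exact le_top
  have hAQ' : A.map f ≤ Subgroup.normalizer ((Q.map f : Subgroup _) : Set (X ⧸ K)) :=
    (Subgroup.map_mono hAQ).trans (Subgroup.le_normalizer_map f)
  have hAK : (Nat.card A).Coprime (Nat.card K) := by
    obtain ⟨n, hn⟩ := hAp.exists_card_eq
    rw [hn]
    exact hK.symm.pow_left n
  have hRQ : R ⊓ Q.map f = ⊥ := by
    obtain ⟨n, hn⟩ := hRp.exists_card_eq
    exact Subgroup.inf_eq_bot_of_coprime (by rw [hn]; exact hQc.symm.pow_left n)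
  have hmain : Q.map f ≤ Subgroup.centralizer (R : Set (X ⧸ K)) := by
    refine CfsgLib.Solv.BaerGroup.le_centralizer_of_fixed_omega hp R (Q.map f) hRp hQc (hRN _) (A.map f)
      (hAp.map f) (hRN _) hAQ' ?_
    intro u hu hup huA q hq
    haveI := hAp.isNilpotent
    obtain ⟨x, hxC, hxu⟩ := CfsgLib.Solv.centralizer_map_mk'_le (M := K) hAK inferInstance
      (Subgroup.mem_centralizer_iff.2 (fun a ha => huA a ha) : u ∈ Subgroup.centralizer ((A.map f : Subgroup _) : Set (X ⧸ K)))
    obtain ⟨c, hc⟩ := Nat.exists_mul_mod_eq_one_of_coprime hK hp1.one_lt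
    set w := x ^ (Nat.card K * c) with hw
    have hwp : w ^ p = 1 := by
      have hxK : x ^ p ∈ K := (QuotientGroup.eq_one_iff _).1 (by
        show f (x ^ p) = 1
        rw [map_pow, hxu, hup])
      rw [hw, ← pow_mul, show Nat.card K * c * p = p * Nat.card K * c by ring, pow_mul, pow_mul]
      rw [show (x ^ p) ^ Nat.card K = 1 from congrArg Subtype.val (pow_card_eq_one' (x := (⟨x ^ p, hxK⟩ : K))),
        one_pow]
    have hwf : f w = u := by
      have h0 : f x = u := hxu
      rw [hw, map_pow, h0, pow_eq_pow_mod _ hup, hc.2, pow_one]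
    have hwA : w ∈ A := by
      rcases (Nat.dvd_prime hp1).1 (orderOf_dvd_of_pow_eq_one hwp) with h | h
      · rw [orderOf_eq_one_iff.1 h]; exact one_mem _
      · exact hΩ w (pow_mem hxC _) h
    have h1 : q * u * q⁻¹ * u⁻¹ ∈ R ⊓ Q.map f := by
      refine ⟨mul_mem (Subgroup.Normal.conj_mem inferInstance u hu q) (Subgroup.inv_mem R hu), ?_⟩
      rw [mul_assoc q u, mul_assoc q]
      exact mul_mem hq ((Subgroup.mem_normalizer_iff.1 (hAQ' ⟨w, hwA, hwf⟩) _).1 (Subgroup.inv_mem _ hq))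
    rw [hRQ, Subgroup.mem_bot] at h1
    exact mul_inv_eq_iff_eq_mul.1 (mul_inv_eq_one.1 h1)
  intro q hq
  refine (QuotientGroup.eq_one_iff q).1 ?_
  have : f q ∈ R ⊓ Q.map f := ⟨hCR (hmain ⟨q, hq, rfl⟩), ⟨q, hq, rfl⟩⟩
  rw [hRQ, Subgroup.mem_bot] at this
  exact this

end Cfsg.Agent.S1302
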