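import Cfsg.Statements.S1303
import Cfsg.Agent.S1327
import Cfsg.Agent.Inv.Component
import Cfsg.Agent.Char.Burnside

set_option autoImplicit false
open Cfsg
open scoped commutatorElement

namespace Cfsg.Agent.S1303

/-- The group X = SL(2, 3): it is 2-constrained, O_{2'}(X) = 1, its centre A = Z(X) contains every involution of X = C_X(A), and X has a subgroup of order 3 (normalized by A) not contained in O_{2'}(X). -/
theorem result : Cfsg.IsPConstrained 2 (Matrix.SpecialLinearGroup (Fin 2) (ZMod 3)) ∧ Cfsg.pPrimeCore 2 (Matrix.SpecialLinearGroup (Fin 2) (ZMod 3)) = ⊥ ∧ (∀ t : Matrix.SpecialLinearGroup (Fin 2) (ZMod 3), orderOf t = 2 → t ∈ Subgroup.center (Matrix.SpecialLinearGroup (Fin 2) (ZMod 3))) ∧ ∃ Q : Subgroup (Matrix.SpecialLinearGroup (Fin 2) (ZMod 3)), Nat.card ↥Q = 3 ∧ ¬ (Q ≤ Cfsg.pPrimeCore 2 (Matrix.SpecialLinearGroup (Fin 2) (ZMod 3))) := by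
  haveI : Fact (Nat.Prime 2) := ⟨Nat.prime_two⟩
  have hcard : Nat.card (Matrix.SpecialLinearGroup (Fin 2) (ZMod 3)) = 24 := by
    rw [Nat.card_eq_fintype_card]; decide +kernel
  haveI hsol : Group.IsSolvable (Matrix.SpecialLinearGroup (Fin 2) (ZMod 3)) :=
    CfsgLib.Char.solvable_of_card_two_primes 2 3 3 1 Nat.prime_two Nat.prime_three hcard
  have hO : Cfsg.pPrimeCore 2 (Matrix.SpecialLinearGroup (Fin 2) (ZMod 3)) = ⊥ := by
    haveI hn := CfsgLib.Solv.pPrimeCore_normal (Matrix.SpecialLinearGroup (Fin 2) (ZMod 3)) 2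
    set N := Cfsg.pPrimeCore 2 (Matrix.SpecialLinearGroup (Fin 2) (ZMod 3))
    have hc : Nat.card N ∣ 3 := by
      have h1 : Nat.card N ∣ 2 ^ 3 * 3 := by
        have := Subgroup.card_subgroup_dvd_card N
        rwa [hcard] at this
      exact ((CfsgLib.Solv.pPrimeCore_coprime _ 2).pow_right 3).dvd_of_dvd_mul_left h1
    rw [Subgroup.eq_bot_iff_forall]
    intro x hx
    by_contra hx1
    rcases (Nat.dvd_prime Nat.prime_three).1 hc with h | h
    · exact hx1 (by
        have := Subgroup.card_eq_one.1 h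
        rwa [this, Subgroup.mem_bot] at hx)
    · have hx3 : x ^ 3 = 1 := by
        have := pow_card_eq_one' (x := (⟨x, hx⟩ : N))
        rw [h] at this
        exact congrArg Subtype.val this
      have key : ∀ x : Matrix.SpecialLinearGroup (Fin 2) (ZMod 3), x ^ 3 = 1 → x ≠ 1 →
          ∃ g, g * x * g⁻¹ ≠ 1 ∧ g * x * g⁻¹ ≠ x ∧ g * x * g⁻¹ ≠ x * x := by decide +kernel
      obtain ⟨g, hg1, hg2, hg3⟩ := key x hx3 hx1
      have hz : Subgroup.zpowers x = N := Subgroup.eq_of_le_of_card_ge (Subgroup.zpowers_le.2 hx)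
        (by rw [h, Nat.card_zpowers, orderOf_eq_prime hx3 hx1])
      have hmem : g * x * g⁻¹ ∈ Subgroup.zpowers x := hz ▸ hn.conj_mem x hx g
      obtain ⟨k, hk, hke⟩ := (mem_zpowers_iff_mem_range_orderOf.1 hmem |> Finset.mem_image.1)
      rw [orderOf_eq_prime hx3 hx1, Finset.mem_range] at hk
      interval_cases k
      · exact hg1 (by rw [← hke, pow_zero])
      · exact hg2 (by rw [← hke, pow_one])
      · exact hg3 (by rw [← hke, pow_two])
  refine ⟨?_, hO, ?_, ?_⟩
  · refine (Cfsg.Agent.S1327.result 2).2 ?_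
    rw [Cfsg.pLayer, ← le_bot_iff]
    refine sSup_le fun K hK => absurd ?_ (CfsgLib.Inv.component_not_solvable hK.2.1)
    haveI := CfsgLib.Solv.pPrimeCore_normal (Matrix.SpecialLinearGroup (Fin 2) (ZMod 3)) 2
    infer_instance
  · intro t ht
    have key : ∀ t : Matrix.SpecialLinearGroup (Fin 2) (ZMod 3), t ^ 2 = 1 → ∀ g, g * t = t * g := by decide +kernel
    exact Subgroup.mem_center_iff.2 (key t (by have h := pow_orderOf_eq_one t; rwa [ht] at h))
  · obtain ⟨x, hx⟩ := exists_prime_orderOf_dvd_card' (G := Matrix.SpecialLinearGroup (Fin 2) (ZMod 3)) 3 (by rw [hcard]; norm_num)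
    refine ⟨Subgroup.zpowers x, by rw [Nat.card_zpowers, hx], fun h => ?_⟩
    rw [hO, le_bot_iff, Subgroup.zpowers_eq_bot] at h
    rw [h, orderOf_one] at hx
    exact absurd hx (by norm_num)

end Cfsg.Agent.S1303
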