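-- Statement S1304
import Cfsg.Statements.S1304
import Cfsg.Agent.Solv.CompBasic

set_option autoImplicit false
open Cfsg
set_option linter.style.haveILetI false
set_option linter.deprecated false

namespace Cfsg.Agent.S1304

/-- Let X be a perfect group and α an automorphism of X with α(x) x⁻¹ central for every x. Then α is the identity. -/
theorem result {X : Type*} [Group X] (hperf : commutator X = ⊤) (α : X ≃* X) (h : ∀ x : X, α x * x⁻¹ ∈ Subgroup.center X) : ∀ x : X, α x = x := by
    let f : X →* Subgroup.center X :=
      { toFun := fun x => ⟨α x * x⁻¹, h x⟩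
        map_one' := Subtype.ext (by simp)
        map_mul' := fun x y => Subtype.ext (by
          show α (x * y) * (x * y)⁻¹ = α x * x⁻¹ * (α y * y⁻¹)
          have h1 := Subgroup.mem_center_iff.1 (h y) x⁻¹
          calc α (x * y) * (x * y)⁻¹ = α x * ((α y * y⁻¹) * x⁻¹) := by rw [map_mul]; group
            _ = α x * (x⁻¹ * (α y * y⁻¹)) := by rw [← h1]
            _ = _ := by group) }
    intro x
    have h2 := CfsgLib.Solv.hom_eq_one_of_perfect hperf f
      (fun a b => Subtype.ext (Subgroup.mem_center_iff.1 (f b).2 _)) x
    exact mul_inv_eq_one.1 (congrArg Subtype.val h2)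

end Cfsg.Agent.S1304
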