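import Cfsg.Statements.S1305
import Cfsg.Agent.Solv.CompTrichotomy
import Cfsg.Agent.Solv.LBalanceTwo
import Cfsg.Agent.Solv.PCompLayer
import Cfsg.Agent.Solv.ThompsonBasic
import Cfsg.Agent.S1276

set_option autoImplicit false
open Cfsg

namespace Cfsg.Agent.S1305

open scoped Pointwise

/-- Let G be a finite group of component type with the B-property and no nontrivial normal subgroup of odd order. Let a be an involution and K a component of C_G(a) such that (a) |K| is maximal among the orders of components of centralizers of involutions of G, (b) subject to (a) the 2-rank of the centralizer of K in C_G(a) is as large as possible, and (c) K has 2-rank at least 2. If B is an elementary abelian 2-subgroup of that centralizer of the largest possible order, then K is a component of C_G(b) for every non-identity b ∈ B. -/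
theorem result {G : Type*} [Group G] [Finite G] (hO : Cfsg.oddCore G = ⊥) (hB : Cfsg.HasBProperty G) (hct : Cfsg.IsComponentType G) (a : G) (ha : orderOf a = 2) (K : Subgroup G) (hKa : K ≤ Subgroup.centralizer ({a} : Set G)) (hK : Cfsg.IsComponent (K.subgroupOf (Subgroup.centralizer ({a} : Set G)))) (hmax : ∀ y : G, orderOf y = 2 → ∀ K' : Subgroup G, K' ≤ Subgroup.centralizer ({y} : Set G) → Cfsg.IsComponent (K'.subgroupOf (Subgroup.centralizer ({y} : Set G))) → Nat.card ↥K' ≤ Nat.card ↥K ∧ (Nat.card ↥K' = Nat.card ↥K → ∀ k : ℕ, Cfsg.PRankLE 2 k ↥(Subgroup.centralizer ({a} : Set G) ⊓ Subgroup.centralizer (K : Set G)) → Cfsg.PRankLE 2 k ↥(Subgroup.centralizer ({y} : Set G) ⊓ Subgroup.centralizer (K' : Set G)))) (hrk : ¬ Cfsg.PRankLE 2 1 ↥K) (B : Subgroup G) (hBle : B ≤ Subgroup.centralizer ({a} : Set G) ⊓ Subgroup.centralizer (K : Set G)) (hBel : Cfsg.IsElementaryAbelian 2 B) (hBmax : ∀ B' : Subgroup G, B' ≤ Subgroup.centralizer ({a} : Set G) ⊓ Subgroup.centralizer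 (K : Set G) → Cfsg.IsElementaryAbelian 2 B' → Nat.card ↥B' ≤ Nat.card ↥B) (b : G) (hb : b ∈ B) (hb1 : b ≠ 1) : K ≤ Subgroup.centralizer ({b} : Set G) ∧ Cfsg.IsComponent (K.subgroupOf (Subgroup.centralizer ({b} : Set G))) := by
  classical
  haveI : Fact (Nat.Prime 2) := ⟨Nat.prime_two⟩
  have hb2 : b ^ 2 = 1 := hBel.2 b hb
  have hbo : orderOf b = 2 := orderOf_eq_prime hb2 hb1
  have ha2 : a * a = 1 := by rw [← pow_two, ← ha, pow_orderOf_eq_one]
  set R := Subgroup.centralizer ({a} : Set G) ⊓ Subgroup.centralizer (K : Set G) with hR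
  have hBcomm : ∀ {x y : G}, x ∈ B → y ∈ B → x * y = y * x := fun hx hy =>
    congrArg Subtype.val (hBel.1.is_comm.comm ⟨_, hx⟩ ⟨_, hy⟩)
  have hKb : K ≤ Subgroup.centralizer ({b} : Set G) := fun k hk =>
    Subgroup.mem_centralizer_singleton_iff.2 (Subgroup.mem_centralizer_iff.1 (hBle hb).2 k hk)
  refine ⟨hKb, ?_⟩
  -- `a ∈ B`
  have haB : a ∈ B := by
    have hc : Subgroup.zpowers a ≤ Subgroup.centralizer (B : Set G) := Subgroup.zpowers_le.2
      (Subgroup.mem_centralizer_iff.2 fun x hx => Subgroup.mem_centralizer_singleton_iff.1 (hBle hx).1)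
    have hea := CfsgLib.Solv.isElementaryAbelian_sup hBel
      (CfsgLib.Solv.isElementaryAbelian_zpowers (p := 2) (x := a) (by rw [pow_two]; exact ha2)) hc
    have haR : a ∈ R := ⟨Subgroup.mem_centralizer_singleton_iff.2 rfl,
      Subgroup.mem_centralizer_iff.2 fun k hk => Subgroup.mem_centralizer_singleton_iff.1 (hKa hk)⟩
    have := Subgroup.eq_of_le_of_card_ge le_sup_left
      (hBmax _ (sup_le hBle (Subgroup.zpowers_le.2 haR)) hea)
    exact this.ge (Subgroup.mem_sup_right (Subgroup.mem_zpowers a))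
  set Cb := Subgroup.centralizer ({b} : Set G) with hCb
  have hab : a ∈ Cb := Subgroup.mem_centralizer_singleton_iff.2 (hBcomm haB hb)
  set t : ↥Cb := ⟨a, hab⟩ with ht
  have htt : t * t = 1 := Subtype.ext ha2
  set L := K.subgroupOf Cb with hLdef
  have hLt : L ≤ Subgroup.centralizer ({t} : Set ↥Cb) := fun x hx =>
    Subgroup.mem_centralizer_singleton_iff.2 (Subtype.ext (Subgroup.mem_centralizer_singleton_iff.1 (hKa hx)))
  set Y := Subgroup.centralizer ({t} : Set ↥Cb) with hY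
  let ι : ↥Y →* ↥(Subgroup.centralizer ({a} : Set G)) :=
    (Cb.subtype.comp Y.subtype).codRestrict _ fun y => Subgroup.mem_centralizer_singleton_iff.2
      (congrArg Subtype.val (Subgroup.mem_centralizer_singleton_iff.1 y.2))
  have hι : Function.Injective ι := fun x y h => Subtype.ext (Subtype.ext
    (congrArg (fun z : ↥(Subgroup.centralizer ({a} : Set G)) => (z : G)) h))
  have hLY : L.subgroupOf Y = (K.subgroupOf (Subgroup.centralizer ({a} : Set G))).comap ι := rfl
  have hLc : Cfsg.IsComponent (L.subgroupOf Y) := by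
    refine ⟨hLY ▸ hK.1.comap ι, CfsgLib.Inv.quasisimple_congr ?_ hK.2⟩
    exact ((Subgroup.subgroupOfEquivOfLe hKa).trans ((Subgroup.subgroupOfEquivOfLe hKb).symm)).trans
      (Subgroup.subgroupOfEquivOfLe hLt).symm
  -- the 2-layer of `C(b)` consists of components
  have hbal : ⁅Cfsg.pLayer 2 ↥Cb, Cfsg.oddCore ↥Cb⁆ = ⊥ := by
    have h := hB b hbo
    rw [hO, le_bot_iff, Subgroup.map_eq_bot_iff_of_injective _ (Subgroup.subtype_injective _)] at h
    exact h
  have hlayer : Cfsg.pLayer 2 ↥Cb ≤ Cfsg.layer ↥Cb := by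
    refine sSup_le fun J hJ => CfsgLib.Inv.component_le_layer ⟨hJ.1, (Cfsg.Agent.S1276.result J hJ).2 ?_⟩
    refine le_bot_iff.1 (le_trans ?_ hbal.le)
    refine Subgroup.commutator_mono (le_sSup hJ) ?_
    rw [Cfsg.oddCore, CfsgLib.Solv.pComp_pPrimeCore hJ, Subgroup.subgroupOf_map_subtype]
    exact inf_le_left
  have hLE : L ≤ Cfsg.layer ↥Cb := by
    refine le_trans ?_ hlayer
    have hYeq : Subgroup.centralizer ((Subgroup.zpowers t : Subgroup ↥Cb) : Set ↥Cb) = Y := by
      rw [Subgroup.zpowers_eq_closure, Subgroup.centralizer_closure]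
    have hlb := CfsgLib.Solv.LBal.lBalance (X := ↥Cb) (Subgroup.zpowers t)
      (IsPGroup.of_card (n := 1) (by
        rw [Nat.card_zpowers, pow_one, ht, Subgroup.orderOf_mk, ha]))
    rw [hYeq] at hlb
    refine le_trans ?_ hlb
    haveI := CfsgLib.Solv.pPrimeCore_normal ↥Y 2
    set L' := L.subgroupOf Y with hL'
    set π := QuotientGroup.mk' (Cfsg.pPrimeCore 2 ↥Y)
    have hev : 2 ∣ Nat.card ↥L' := by
      by_contra hodd
      refine hrk fun A _ hA2 => ?_
      have h1 : Nat.card ↥A ∣ Nat.card ↥L' := by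
        rw [Nat.card_congr (Subgroup.subgroupOfEquivOfLe hLt).toEquiv,
          Nat.card_congr (Subgroup.subgroupOfEquivOfLe hKb).toEquiv]
        exact Subgroup.card_subgroup_dvd_card A
      obtain ⟨k, hk⟩ := (show IsPGroup 2 A from fun x => ⟨1, Subtype.ext (by simpa using hA2 x x.2)⟩).exists_card_eq
      rcases Nat.eq_zero_or_pos k with rfl | hk0
      · rw [hk]; norm_num
      · exact absurd ((hk ▸ dvd_pow_self 2 hk0.ne').trans h1) hodd
    have hne : L'.map π ≠ ⊥ := by
      rw [Ne, Subgroup.map_eq_bot_iff, QuotientGroup.ker_mk']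
      intro h
      exact CfsgLib.Solv.not_dvd_card_pPrimeCore (p := 2) (hev.trans (Subgroup.card_dvd_of_le h))
    have hcompi : Cfsg.IsComponent (L'.map π) := by
      refine ⟨hLc.1.map (QuotientGroup.mk'_surjective _), ?_⟩
      have h := CfsgLib.Solv.CompBal.quasisimple_range hLc.2 (π.comp L'.subtype)
        (by rwa [MonoidHom.range_comp, Subgroup.range_subtype])
      rwa [MonoidHom.range_comp, Subgroup.range_subtype] at h
    obtain ⟨P, hP, hPm⟩ := CfsgLib.Solv.exists_pComp_over hcompi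
    have hLP : L' ≤ P := by
      refine (CfsgLib.Inv.component_dichotomy hLc hP.1).resolve_right fun h => hne ?_
      have := congrArg (Subgroup.map π) h
      rwa [Subgroup.map_commutator, Subgroup.map_bot, hPm, CfsgLib.Inv.component_commutator hcompi] at this
    intro x hx
    exact ⟨⟨x, hLt hx⟩, (le_sSup hP : P ≤ Cfsg.pLayer 2 ↥Y) (hLP hx), rfl⟩
  obtain ⟨D, hD, hcase⟩ := CfsgLib.Solv.Tricho.trichotomy htt hLt hLc hLE
  set DG := D.map Cb.subtype with hDG
  have hDGle : DG ≤ Cb := Subgroup.map_subtype_le _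
  have hDGs : DG.subgroupOf Cb = D := Subgroup.comap_map_eq_self_of_injective Cb.subtype_injective D
  have hmD := hmax b hbo DG hDGle (by rw [hDGs]; exact hD)
  have hDcard : Nat.card ↥DG = Nat.card ↥D := Subgroup.card_map_of_injective Cb.subtype_injective
  have hLcard : Nat.card ↥L = Nat.card ↥K := Nat.card_congr (Subgroup.subgroupOfEquivOfLe hKb).toEquiv
  rcases hcase with hle | ⟨hmv, hmem, hsurj⟩
  · rwa [Subgroup.eq_of_le_of_card_ge hle (by rw [hLcard, ← hDcard]; exact hmD.1)]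
  exfalso
  let δ : ↥D → ↥L := fun d => ⟨d.1 * (t * d.1 * t⁻¹), hmem d.1 d.2⟩
  have hδs : Function.Surjective δ := fun l => by
    obtain ⟨d, hd, h⟩ := hsurj l.1 l.2
    exact ⟨⟨d, hd⟩, Subtype.ext h.symm⟩
  have hceq : Nat.card ↥D = Nat.card ↥L :=
    le_antisymm (by rw [hLcard, ← hDcard]; exact hmD.1) (Nat.card_le_card_of_surjective δ hδs)
  have hδi : Function.Injective δ := (Nat.bijective_iff_surjective_and_card δ).2 ⟨hδs, hceq⟩ |>.1
  set D' := D.map (MulAut.conj t).toMonoidHom with hD'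
  have hD'c : Cfsg.IsComponent D' := CfsgLib.Inv.isComponent_conj hD t
  -- the elements of `B` inside `C(b)`
  set B' := B.subgroupOf Cb with hB'
  have hBCb : B ≤ Cb := fun x hx => Subgroup.mem_centralizer_singleton_iff.2 (hBcomm hx hb)
  have hB't : ∀ c ∈ B', c * t = t * c := fun c hc => Subtype.ext (hBcomm hc haB)
  have hB'L : ∀ c ∈ B', ∀ l ∈ L, c * l * c⁻¹ = l := fun c hc l hl => Subtype.ext (by
    show (c : G) * l * (c : G)⁻¹ = l
    have h : (l : G) * c = (c : G) * l := Subgroup.mem_centralizer_iff.1 (hBle hc).2 _ hl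
    rw [← h, mul_inv_cancel_right])
  have hconjδ : ∀ c ∈ B', ∀ d ∈ D, (c * d * c⁻¹) * (t * (c * d * c⁻¹) * t⁻¹) = d * (t * d * t⁻¹) := by
    intro c hc d hd
    calc (c * d * c⁻¹) * (t * (c * d * c⁻¹) * t⁻¹) = (c * d * c⁻¹) * ((t * c) * d * (t * c)⁻¹) := by group
      _ = (c * d * c⁻¹) * ((c * t) * d * (c * t)⁻¹) := by rw [hB't c hc]
      _ = c * (d * (t * d * t⁻¹)) * c⁻¹ := by group
      _ = _ := hB'L c hc _ (hmem d hd)
  set B0 := B' ⊓ Subgroup.normalizer (D : Set ↥Cb) with hB0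
  have hB0C : B0 ≤ Subgroup.centralizer (D : Set ↥Cb) := by
    intro c hc
    obtain ⟨hcB, hcN⟩ := Subgroup.mem_inf.1 hc
    refine Subgroup.mem_centralizer_iff.2 fun d hd => ?_
    have hd' : c * d * c⁻¹ ∈ D := (Subgroup.mem_normalizer_iff.1 hcN d).1 hd
    have h := congrArg Subtype.val (hδi (a₁ := ⟨_, hd'⟩) (a₂ := ⟨d, hd⟩) (Subtype.ext (hconjδ c hcB d hd)))
    exact (mul_inv_eq_iff_eq_mul.1 h).symm
  have hperm : ∀ c ∈ B', D.map (MulAut.conj c).toMonoidHom = D ∨ D.map (MulAut.conj c).toMonoidHom = D' := by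
    intro c hc
    set D'' := D.map (MulAut.conj c).toMonoidHom with hD''
    have hc'' : Cfsg.IsComponent D'' := CfsgLib.Inv.isComponent_conj hD c
    by_contra hno
    push Not at hno
    refine CfsgLib.Inv.component_ne_bot hc'' ?_
    rw [← CfsgLib.Inv.component_commutator hc'', Subgroup.commutator_eq_bot_iff_le_centralizer]
    have hne2 : D''.map (MulAut.conj t).toMonoidHom ≠ D'' := by
      intro e
      refine hmv (Subgroup.map_injective (f := (MulAut.conj c).toMonoidHom) (MulAut.conj c).injective ?_)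
      rw [← hD'', hD', Subgroup.map_map]
      refine Eq.trans ?_ e
      rw [hD'', Subgroup.map_map]
      congr 1
      ext x
      show (((c * (t * x * t⁻¹) * c⁻¹ : ↥Cb)) : G) = ((t * (c * x * c⁻¹) * t⁻¹ : ↥Cb) : G)
      congr 1
      calc c * (t * x * t⁻¹) * c⁻¹ = (c * t) * x * (c * t)⁻¹ := by group
        _ = (t * c) * x * (t * c)⁻¹ := by rw [hB't c hc]
        _ = _ := by group
    rintro _ ⟨u, hu, rfl⟩
    refine Subgroup.mem_centralizer_iff.2 ?_
    rintro _ ⟨v, hv, rfl⟩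
    show (c * v * c⁻¹) * (c * u * c⁻¹) = (c * u * c⁻¹) * (c * v * c⁻¹)
    have hcv : c * v * c⁻¹ ∈ D'' := ⟨v, hv, rfl⟩
    have hcu : c * u * c⁻¹ ∈ D'' := ⟨u, hu, rfl⟩
    -- `c u c⁻¹` commutes with `L`
    have hcm : ∀ {U V : Subgroup ↥Cb}, Cfsg.IsComponent U → Cfsg.IsComponent V → U ≠ V →
        ∀ {x y : ↥Cb}, x ∈ U → y ∈ V → Commute x y := fun hU hV hne _ _ hx hy =>
      (Subgroup.mem_centralizer_iff.1 (Subgroup.commutator_eq_bot_iff_le_centralizer.1
        (CfsgLib.Inv.components_commute hU hV hne) hx) _ hy).symm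
    have h1 : Commute (c * u * c⁻¹) (v * (t * v * t⁻¹)) :=
      (hcm hc'' hD hno.1 hcu hv).mul_right (hcm hc'' hD'c hno.2 hcu ⟨v, hv, rfl⟩)
    rw [← hconjδ c hc v hv] at h1
    have h2 : Commute (c * u * c⁻¹) (t * (c * v * c⁻¹) * t⁻¹) :=
      hcm hc'' (CfsgLib.Inv.isComponent_conj hc'' t) (fun e => hne2 e.symm) hcu ⟨_, hcv, rfl⟩
    have h3 := h1.mul_right h2.inv_right
    rw [mul_inv_cancel_right] at h3
    exact h3.eq.symm
  have hcardB : Nat.card ↥B' ≤ 2 * Nat.card ↥B0 := by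
    have htB : t ∈ B' := haB
    let g : ↥B0 × Bool → ↥B' := fun x => ⟨bif x.2 then t * x.1.1 else x.1.1, by
      cases x.2
      · exact x.1.2.1
      · exact mul_mem htB x.1.2.1⟩
    have hg : Function.Surjective g := by
      intro c
      rcases hperm c.1 c.2 with h | h
      · exact ⟨(⟨c.1, c.2, CfsgLib.Solv.mem_normalizer_of_conj_smul_eq
          (by rw [CfsgLib.Solv.conj_smul_eq_map]; exact h)⟩, false), Subtype.ext rfl⟩
      · refine ⟨(⟨t * c.1, mul_mem htB c.2, CfsgLib.Solv.mem_normalizer_of_conj_smul_eq ?_⟩, true),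
          Subtype.ext ?_⟩
        · rw [map_mul, mul_smul, CfsgLib.Solv.conj_smul_eq_map c.1, h, hD',
            ← CfsgLib.Solv.conj_smul_eq_map t, smul_smul, ← map_mul, htt, map_one, one_smul]
        · show t * (t * c.1) = c.1
          rw [← mul_assoc, htt, one_mul]
    have := Nat.card_le_card_of_surjective g hg
    rw [Nat.card_prod, Nat.card_eq_fintype_card (α := Bool), Fintype.card_bool] at this
    omega
  -- a four-group in `D'`
  obtain ⟨A4, hA4c, hA4e, hA4n⟩ : ∃ A : Subgroup ↥K, IsMulCommutative ↥A ∧ (∀ x ∈ A, x ^ 2 = 1) ∧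
      2 < Nat.card ↥A := by
    by_contra h
    push Not at h
    exact hrk fun A hA hA' => by rw [pow_one]; exact h A hA hA'
  let δh : ↥D →* ↥L := MonoidHom.mk' δ fun x y => Subtype.ext (by
    show (x : ↥Cb) * y * (t * ((x : ↥Cb) * y) * t⁻¹) = (x : ↥Cb) * (t * x * t⁻¹) * ((y : ↥Cb) * (t * y * t⁻¹))
    have hxy : (y : ↥Cb) * (t * x * t⁻¹) = (t * x * t⁻¹) * y :=
      (Subgroup.mem_centralizer_iff.1 (Subgroup.commutator_eq_bot_iff_le_centralizer.1
        (CfsgLib.Inv.components_commute hD hD'c fun e => hmv e.symm) y.2) _ ⟨x, x.2, rfl⟩).symm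
    calc (x : ↥Cb) * y * (t * ((x : ↥Cb) * y) * t⁻¹)
        = (x : ↥Cb) * ((y : ↥Cb) * (t * x * t⁻¹)) * (t * y * t⁻¹) := by group
      _ = (x : ↥Cb) * ((t * x * t⁻¹) * y) * (t * y * t⁻¹) := by rw [hxy]
      _ = _ := by group)
  let e : ↥D ≃* ↥K := (MulEquiv.ofBijective δh ⟨hδi, hδs⟩).trans (Subgroup.subgroupOfEquivOfLe hKb)
  let φ : ↥K →* G := (Cb.subtype.comp ((MulAut.conj t).toMonoidHom.comp D.subtype)).comp e.symm.toMonoidHom
  have hφinj : Function.Injective φ :=
    ((Cb.subtype_injective.comp (MulAut.conj t).injective).comp D.subtype_injective).comp e.symm.injective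
  set E2 := A4.map φ with hE2
  have hE2e : Cfsg.IsElementaryAbelian 2 E2 :=
    CfsgLib.Solv.isElementaryAbelian_map ⟨hA4c, hA4e⟩
  have hφD' : ∀ k, ∃ d' ∈ D', φ k = (d' : G) := fun k =>
    ⟨MulAut.conj t (e.symm k : ↥Cb), ⟨_, (e.symm k).2, rfl⟩, rfl⟩
  set B0G := B0.map Cb.subtype with hB0G
  have hB0e : Cfsg.IsElementaryAbelian 2 B0G := CfsgLib.Solv.isElementaryAbelian_of_le hBel (by
    rintro _ ⟨c, hc, rfl⟩; exact hc.1)
  have hB0D' : ∀ c ∈ B0, ∀ d' ∈ D', d' * c = c * d' := by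
    rintro c hc _ ⟨d, hd, rfl⟩
    have h1 : d * c = c * d := Subgroup.mem_centralizer_iff.1 (hB0C hc) d hd
    have h2 := hB't c hc.1
    show (t * d * t⁻¹) * c = c * (t * d * t⁻¹)
    have h3 : t⁻¹ * c = c * t⁻¹ := ((show Commute c t from h2).inv_right).eq.symm
    calc (t * d * t⁻¹) * c = t * d * (t⁻¹ * c) := by group
      _ = t * (d * c) * t⁻¹ := by rw [h3]; group
      _ = (t * c) * d * t⁻¹ := by rw [h1]; group
      _ = c * (t * d * t⁻¹) := by rw [← h2]; group
  have hcomm0 : E2 ≤ Subgroup.centralizer (B0G : Set G) := by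
    rintro _ ⟨k, -, rfl⟩
    refine Subgroup.mem_centralizer_iff.2 ?_
    rintro _ ⟨c, hc, rfl⟩
    obtain ⟨d', hd', hk⟩ := hφD' k
    rw [hk]
    exact (congrArg Subtype.val (hB0D' c hc d' hd')).symm
  have hinf : B0G ⊓ E2 = ⊥ := by
    refine le_bot_iff.1 fun z hz => ?_
    obtain ⟨⟨c, hc, rfl⟩, ⟨k, -, hk⟩⟩ := Subgroup.mem_inf.1 hz
    obtain ⟨d', hd', hk'⟩ := hφD' k
    have hcd : c = d' := Subtype.ext (hk.symm.trans hk')
    subst hcd
    obtain ⟨w, hw, hwc⟩ := Subgroup.mem_map.1 hd'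
    have hwc' : t * w * t⁻¹ = c := hwc
    have h1 : w = c := by
      calc w = t⁻¹ * c * t := by rw [← hwc']; group
        _ = t⁻¹ * (c * t) := by group
        _ = c := by rw [hB't c hc.1]; group
    subst h1
    have h2 : δ ⟨w, hw⟩ = δ 1 := Subtype.ext (by
      show w * (t * w * t⁻¹) = (1 : ↥Cb) * (t * 1 * t⁻¹)
      rw [hwc', ← pow_two]
      refine Subtype.ext ?_
      have := hBel.2 (w : G) hc.1
      simpa using this)
    rw [Subgroup.mem_bot, show w = 1 from congrArg Subtype.val (hδi h2)]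
    rfl
  obtain ⟨j, hj⟩ := (CfsgLib.Solv.isPGroup_of_isElementaryAbelian hBel).exists_card_eq
  have hRk : Cfsg.PRankLE 2 j ↥R := by
    intro A hA hA'
    rw [← hj, ← Subgroup.card_map_of_injective R.subtype_injective]
    exact hBmax _ (Subgroup.map_subtype_le A) (CfsgLib.Solv.isElementaryAbelian_map ⟨hA, hA'⟩)
  have hfinal := hmD.2 (by rw [hDcard, hceq, hLcard]) j hRk
  set R' := Cb ⊓ Subgroup.centralizer (DG : Set G) with hR'
  set F := B0G ⊔ E2
  have hFe : Cfsg.IsElementaryAbelian 2 F := CfsgLib.Solv.isElementaryAbelian_sup hB0e hE2e hcomm0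
  have hFR : F ≤ R' := by
    refine sup_le ?_ ?_
    · rintro _ ⟨c, hc, rfl⟩
      refine Subgroup.mem_inf.2 ⟨c.2, Subgroup.mem_centralizer_iff.2 ?_⟩
      rintro _ ⟨d, hd, rfl⟩
      exact congrArg Subtype.val (Subgroup.mem_centralizer_iff.1 (hB0C hc) d hd)
    · rintro _ ⟨k, -, rfl⟩
      obtain ⟨d', hd', hk⟩ := hφD' k
      rw [hk]
      refine Subgroup.mem_inf.2 ⟨d'.2, Subgroup.mem_centralizer_iff.2 ?_⟩
      rintro _ ⟨d, hd, rfl⟩
      exact congrArg Subtype.val ((Subgroup.mem_centralizer_iff.1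
        (Subgroup.commutator_eq_bot_iff_le_centralizer.1
          (CfsgLib.Inv.components_commute hD hD'c fun e => hmv e.symm) hd) d' hd').symm)
  have hle := hfinal (F.subgroupOf R')
    ⟨⟨fun x y => Subtype.ext (Subtype.ext (CfsgLib.Solv.commute_of_isElementaryAbelian hFe x.2 y.2))⟩⟩
    (fun x hx => Subtype.ext (by simpa using hFe.2 x.1 hx))
  rw [Nat.card_congr (Subgroup.subgroupOfEquivOfLe hFR).toEquiv, ← hj] at hle
  have hB'card : Nat.card ↥B' = Nat.card ↥B := Nat.card_congr (Subgroup.subgroupOfEquivOfLe hBCb).toEquiv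
  let μ : ↥B0G × ↥E2 → ↥F := fun x =>
    ⟨x.1.1 * x.2.1, mul_mem (Subgroup.mem_sup_left x.1.2) (Subgroup.mem_sup_right x.2.2)⟩
  have hμ : Function.Injective μ := fun x y h =>
    Subgroup.mul_injective_of_disjoint (disjoint_iff.2 hinf) (congrArg Subtype.val h)
  have hF := Nat.card_le_card_of_injective μ hμ
  rw [Nat.card_prod, hB0G, Subgroup.card_map_of_injective Cb.subtype_injective, hE2,
    Subgroup.card_map_of_injective hφinj] at hF
  have h0 : 0 < Nat.card ↥B0 := Nat.card_pos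
  have h3 : Nat.card ↥B0 * 3 ≤ Nat.card ↥B0 * Nat.card ↥A4 := Nat.mul_le_mul_left _ hA4n
  omega

end Cfsg.Agent.S1305
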