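import Cfsg.Statements.S1306
import Cfsg.Agent.Inv.Component

set_option autoImplicit false
open Cfsg

namespace Cfsg.Agent.S1306

/-- Let G be finite, x an involution and L ≤ C_G(x) a component of C_G(x). Suppose L is a component of C_G(y) for every involution y ∈ C_G(L), and ⁅L, g L g⁻¹⁆ ≠ 1 whenever g L g⁻¹ ≠ L. Then L is a standard subgroup of G. -/
theorem result {G : Type*} [Group G] [Finite G] (x : G) (hx : orderOf x = 2) (L : Subgroup G) (hLx : L ≤ Subgroup.centralizer ({x} : Set G)) (hL : Cfsg.IsComponent (L.subgroupOf (Subgroup.centralizer ({x} : Set G)))) (hne : ∀ y : G, orderOf y = 2 → y ∈ Subgroup.centralizer (L : Set G) → L ≤ Subgroup.centralizer ({y} : Set G) ∧ Cfsg.IsComponent (L.subgroupOf (Subgroup.centralizer ({y} : Set G)))) (hnc : ∀ g : G, L.map (MulAut.conj g).toMonoidHom ≠ L → ⁅L, L.map (MulAut.conj g).toMonoidHom⁆ ≠ ⊥) : Cfsg.IsStandardSubgroup L := by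
  classical
  set K := Subgroup.centralizer (L : Set G) with hK
  have hq : Cfsg.IsQuasisimple L := CfsgLib.Inv.quasisimple_congr (Subgroup.subgroupOfEquivOfLe hLx) hL.2
  have key : ∀ g y : G, orderOf y = 2 → y ∈ K → g * y * g⁻¹ ∈ K → g ∈ Subgroup.normalizer (L : Set G) := by
    intro g y hy hyK hgy
    set z := g * y * g⁻¹ with hz
    have hzo : orderOf z = 2 := by rw [hz, ← MulAut.conj_apply, MulEquiv.orderOf_eq, hy]
    obtain ⟨hLz, hcz⟩ := hne z hzo hgy
    obtain ⟨hLy, hcy⟩ := hne y hy hyK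
    set C := Subgroup.centralizer ({y} : Set G) with hC
    set C' := Subgroup.centralizer ({z} : Set G) with hC'
    have hfor : ∀ c : C, g * (c : G) * g⁻¹ ∈ C' := fun c => by
      rw [hC', Subgroup.mem_centralizer_singleton_iff, hz]
      calc g * (c : G) * g⁻¹ * (g * y * g⁻¹) = g * ((c : G) * y) * g⁻¹ := by group
        _ = _ := by rw [Subgroup.mem_centralizer_singleton_iff.1 c.2]; group
    have hbak : ∀ c : C', g⁻¹ * (c : G) * g ∈ C := fun c => by
      rw [hC, Subgroup.mem_centralizer_singleton_iff]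
      have h := Subgroup.mem_centralizer_singleton_iff.1 c.2
      calc g⁻¹ * (c : G) * g * y = g⁻¹ * ((c : G) * z) * g := by rw [hz]; group
        _ = _ := by rw [h, hz]; group
    let e : C ≃* C' :=
      { toFun := fun c => ⟨_, hfor c⟩
        invFun := fun c => ⟨_, hbak c⟩
        left_inv := fun c => Subtype.ext (by simp [mul_assoc])
        right_inv := fun c => Subtype.ext (by simp [mul_assoc])
        map_mul' := fun a b => Subtype.ext (by simp [mul_assoc]) }
    have hconj := CfsgLib.Inv.isComponent_map e hcy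
    set L' := L.map (MulAut.conj g).toMonoidHom with hL'
    have heq : (L.subgroupOf C).map e.toMonoidHom = L'.subgroupOf C' := by
      ext c
      constructor
      · rintro ⟨d, hd, rfl⟩
        exact ⟨d, hd, rfl⟩
      · rintro ⟨l, hl, hlc⟩
        exact ⟨⟨l, hLy hl⟩, hl, Subtype.ext hlc⟩
    rw [heq] at hconj
    have hL'C : L' ≤ C' := by
      rintro _ ⟨l, hl, rfl⟩
      exact hfor ⟨l, hLy hl⟩
    have hLL' : L' = L := by
      by_contra hne'
      have hneq : L.subgroupOf C' ≠ L'.subgroupOf C' := fun e' => hne' (by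
        rw [← Subgroup.map_subgroupOf_eq_of_le hL'C, ← e', Subgroup.map_subgroupOf_eq_of_le hLz])
      have h := CfsgLib.Inv.map_commutator_eq_bot.2 (CfsgLib.Inv.components_commute hcz hconj hneq)
      rw [Subgroup.map_subgroupOf_eq_of_le hLz, Subgroup.map_subgroupOf_eq_of_le hL'C] at h
      exact hnc g hne' h
    refine Subgroup.mem_normalizer_fintype fun l hl => ?_
    exact hLL'.le ⟨l, hl, rfl⟩
  have hxK : x ∈ K := by
    rw [hK, Subgroup.mem_centralizer_iff]
    intro l hl
    exact Subgroup.mem_centralizer_singleton_iff.1 (hLx hl)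
  have hLK : Subgroup.normalizer (L : Set G) ≤ Subgroup.normalizer (K : Set G) := fun g hg =>
    Subgroup.mem_normalizer_fintype fun c hc => by
      rw [SetLike.mem_coe, hK, Subgroup.mem_centralizer_iff] at hc ⊢
      intro l hl
      have h1 := hc _ ((Subgroup.mem_normalizer_iff.1 (inv_mem hg) l).1 hl)
      calc l * (g * c * g⁻¹) = g * ((g⁻¹ * l * g⁻¹⁻¹) * c) * g⁻¹ := by group
        _ = g * c * g⁻¹ * l := by rw [h1]; group
  refine ⟨hq, ⟨?_, fun g hg => ?_⟩, hnc, le_antisymm hLK fun g hg =>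
    key g x hx hxK ((Subgroup.mem_normalizer_iff.1 hg x).1 hxK)⟩
  · rw [even_iff_two_dvd, ← hx]
    exact Subgroup.orderOf_dvd_natCard _ hxK
  · rw [← Nat.not_even_iff_odd, even_iff_two_dvd]
    intro hd
    obtain ⟨⟨z, hz⟩, hzo⟩ := exists_prime_orderOf_dvd_card' 2 hd
    rw [Subgroup.orderOf_mk] at hzo
    obtain ⟨hz1, y, hy, hyz⟩ := hz
    have hyz' : g * y * g⁻¹ = z := hyz
    refine hg (hLK (key g y ?_ hy (hyz' ▸ hz1)))
    rw [← hyz', ← MulAut.conj_apply, MulEquiv.orderOf_eq] at hzo
    exact hzo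

end Cfsg.Agent.S1306
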