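import Cfsg.Statements.S1307
import Cfsg.Agent.Base.ZStar.App
import Cfsg.Agent.Base.ZStar.Holds
import Cfsg.Agent.Solv.UniqueSub
import Cfsg.Agent.Inv.Component

set_option autoImplicit false
open Cfsg

namespace Cfsg.Agent.S1307

/-- Let G be finite, x an involution and L ≤ C_G(x) a component of C_G(x) of even order and 2-rank 1, such that L is a component of C_G(y) for every involution y ∈ C_G(L). Then some involution of L is a classical involution of G. -/
theorem result {G : Type*} [Group G] [Finite G] (x : G) (hx : orderOf x = 2) (L : Subgroup G) (hLx : L ≤ Subgroup.centralizer ({x} : Set G)) (hL : Cfsg.IsComponent (L.subgroupOf (Subgroup.centralizer ({x} : Set G)))) (heven : Even (Nat.card ↥L)) (hrk : Cfsg.PRankLE 2 1 ↥L) (hne : ∀ y : G, orderOf y = 2 → y ∈ Subgroup.centralizer (L : Set G) → L ≤ Subgroup.centralizer ({y} : Set G) ∧ Cfsg.IsComponent (L.subgroupOf (Subgroup.centralizer ({y} : Set G)))) : ∃ t ∈ L, Cfsg.IsClassicalInvolution t := by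
  classical
  set C := Subgroup.centralizer ({x} : Set G) with hC
  have hq : Cfsg.IsQuasisimple ↥L := CfsgLib.Inv.quasisimple_congr (Subgroup.subgroupOfEquivOfLe hLx) hL.2
  have hperf : commutator ↥L = ⊤ := hq.1.commutator_eq_top
  have hK : ∀ a b : ↥L, orderOf a = 2 → orderOf b = 2 → Commute a b → a = b := by
    intro a b ha hb hab
    by_contra hne
    have ha1 : a ≠ 1 := fun h => by rw [h, orderOf_one] at ha; omega
    have hb1 : b ≠ 1 := fun h => by rw [h, orderOf_one] at hb; omega
    have ha2 : a * a = 1 := by rw [← pow_two, ← ha, pow_orderOf_eq_one]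
    have hb2 : b * b = 1 := by rw [← pow_two, ← hb, pow_orderOf_eq_one]
    let E : Subgroup ↥L :=
      { carrier := {1, a, b, a * b}
        mul_mem' := by
          intro u v hu hv
          simp only [Set.mem_insert_iff, Set.mem_singleton_iff] at hu hv ⊢
          have h1 : b * a = a * b := hab.eq.symm
          have h2 : a * (a * b) = b := by rw [← mul_assoc, ha2, one_mul]
          have h3 : b * (a * b) = a := by rw [← mul_assoc, h1, mul_assoc, hb2, mul_one]
          have h4 : a * b * a = b := by rw [mul_assoc, h1, ← mul_assoc, ha2, one_mul]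
          have h5 : a * b * b = a := by rw [mul_assoc, hb2, mul_one]
          have h6 : a * b * (a * b) = 1 := by rw [← mul_assoc, h4, hb2]
          rcases hu with rfl | rfl | rfl | rfl <;> rcases hv with rfl | rfl | rfl | rfl <;>
            simp [ha2, hb2, h1, h2, h3, h4, h5, h6]
        one_mem' := Set.mem_insert _ _
        inv_mem' := by
          intro u hu
          simp only [Set.mem_insert_iff, Set.mem_singleton_iff] at hu ⊢
          rcases hu with rfl | rfl | rfl | rfl
          · simp
          · simp [inv_eq_of_mul_eq_one_right ha2]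
          · simp [inv_eq_of_mul_eq_one_right hb2]
          · simp [inv_eq_of_mul_eq_one_right ha2, inv_eq_of_mul_eq_one_right hb2, hab.eq.symm] }
    have hE2 : ∀ u ∈ E, u ^ 2 = 1 := by
      intro u hu
      change u ∈ ({1, a, b, a * b} : Set ↥L) at hu
      simp only [Set.mem_insert_iff, Set.mem_singleton_iff] at hu
      rw [pow_two]
      rcases hu with rfl | rfl | rfl | rfl
      · rw [one_mul]
      · exact ha2
      · exact hb2
      · rw [mul_assoc, ← mul_assoc b, hab.eq.symm, mul_assoc a b b, hb2, mul_one, ha2]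
    have hEa : IsMulCommutative ↥E := ⟨⟨fun u v => Subtype.ext (by
      have hi : ∀ w ∈ E, w⁻¹ = w := fun w hw => inv_eq_of_mul_eq_one_right (by rw [← pow_two]; exact hE2 w hw)
      calc (u : ↥L) * v = ((u : ↥L) * v)⁻¹ := (hi _ (E.mul_mem u.2 v.2)).symm
        _ = (v : ↥L) * u := by rw [mul_inv_rev, hi _ u.2, hi _ v.2])⟩⟩
    have h4 : Nat.card ↥E = 4 := by
      rw [← SetLike.coe_sort_coe, Nat.card_coe_set_eq]
      show ({1, a, b, a * b} : Set ↥L).ncard = 4
      have hab1 : a * b ≠ 1 := fun h => hne (by rw [← mul_one a, ← hb2, ← mul_assoc, h, one_mul])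
      rw [Set.ncard_insert_of_notMem (by simp [ha1.symm, hb1.symm, hab1.symm]),
        Set.ncard_insert_of_notMem (by simp [hne, hb1]),
        Set.ncard_insert_of_notMem (by simp [ha1]), Set.ncard_singleton]
    have := hrk E hEa hE2
    rw [h4] at this
    norm_num at this
  obtain ⟨z, hz, N, hN, hNodd, hzN⟩ := CfsgLib.Base.ZStar.exists_central_of_rank_one CfsgLib.Base.ZStar.holds
    heven (fun E hE => by
      haveI := hE
      obtain ⟨a, b, ha, hb, hab⟩ : ∃ a b : ↥E, a ≠ 1 ∧ b ≠ 1 ∧ a ≠ b := by
        have h4 : Nat.card ↥E = 4 := hE.card_four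
        haveI : Fintype ↥E := Fintype.ofFinite _
        have h3 : 2 < (Finset.univ.erase (1 : ↥E)).card := by
          rw [Finset.card_erase_of_mem (Finset.mem_univ _), Finset.card_univ, ← Nat.card_eq_fintype_card, h4]
          norm_num
        obtain ⟨a, ha, b, hb, hab⟩ := Finset.one_lt_card.1 (show 1 < (Finset.univ.erase (1 : ↥E)).card by omega)
        exact ⟨a, b, (Finset.mem_erase.1 ha).1, (Finset.mem_erase.1 hb).1, hab⟩
      have hord : ∀ u : ↥E, u ≠ 1 → orderOf (u : ↥L) = 2 := fun u hu => by
        rw [Subgroup.orderOf_coe]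
        exact orderOf_eq_prime (by rw [← hE.exponent_two]; exact Monoid.pow_exponent_eq_one u) hu
      haveI := IsKleinFour.isMulCommutative (G := ↥E)
      exact hab (Subtype.ext (hK _ _ (hord a ha) (hord b hb)
        (congrArg Subtype.val (IsMulCommutative.is_comm.comm a b)))))
  have hNc : N ≤ Subgroup.center ↥L := by
    rcases CfsgLib.Inv.quasisimple_subnormal hq hN.isSubnormal with h | h
    · exact h
    · rw [h, Subgroup.card_top] at hNodd
      exact absurd heven (Nat.not_even_iff_odd.2 hNodd)
  have hzc : ∀ g : ↥L, z * g = g * z := by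
    let φ : ↥L →* ↥(Subgroup.center ↥L) :=
      { toFun := fun g => ⟨z * g * z⁻¹ * g⁻¹, hNc (hzN g)⟩
        map_one' := Subtype.ext (by simp)
        map_mul' := fun g g' => Subtype.ext (by
          have hc := Subgroup.mem_center_iff.1 (hNc (hzN g')) g
          show z * (g * g') * z⁻¹ * (g * g')⁻¹ = z * g * z⁻¹ * g⁻¹ * (z * g' * z⁻¹ * g'⁻¹)
          calc z * (g * g') * z⁻¹ * (g * g')⁻¹ = z * g * z⁻¹ * ((z * g' * z⁻¹ * g'⁻¹) * g⁻¹) := by group
            _ = _ := by
              have hc' : (z * g' * z⁻¹ * g'⁻¹) * g⁻¹ = g⁻¹ * (z * g' * z⁻¹ * g'⁻¹) :=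
                (Subgroup.mem_center_iff.1 (hNc (hzN g')) g⁻¹).symm
              rw [hc']; group) }
    intro g
    have hg : φ g = 1 := by
      have h1 : commutator ↥L ≤ φ.ker := by
        rw [commutator_def]
        refine Subgroup.commutator_le.2 fun u _ v _ => ?_
        rw [MonoidHom.mem_ker, map_commutatorElement, commutatorElement_eq_one_iff_mul_comm]
        exact Subtype.ext (Subgroup.mem_center_iff.1 (φ v).2 (φ u : ↥L))
      exact h1 (hperf.ge (Subgroup.mem_top g))
    have h2 : z * g * z⁻¹ * g⁻¹ = 1 := congrArg Subtype.val hg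
    calc z * g = z * g * z⁻¹ * g⁻¹ * (g * z) := by group
      _ = g * z := by rw [h2, one_mul]
  have hzG : orderOf (z : G) = 2 := by rw [Subgroup.orderOf_coe, hz]
  obtain ⟨hLz, hcomp⟩ := hne z hzG (fun g hg => (congrArg Subtype.val (hzc ⟨g, hg⟩)).symm)
  refine ⟨z, z.2, hzG, L, hLz, z.2, hcomp.1, ?_⟩
  obtain ⟨S⟩ : Nonempty (Sylow 2 ↥L) := inferInstance
  haveI : Fact (Nat.Prime 2) := ⟨Nat.prime_two⟩
  rcases CfsgLib.Solv.pgroup_unique_sub S.isPGroup' (fun a b ha hb => by
    have h1 : ∀ u : ↥(S : Subgroup ↥L), orderOf u = 2 → (u : ↥L) = z := fun u hu =>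
      hK _ _ (by rw [Subgroup.orderOf_coe, hu]) hz (hzc u).symm
    rw [show b = a from Subtype.ext ((h1 b hb).trans (h1 a ha).symm)]
    exact Subgroup.mem_zpowers a) with hcyc | ⟨-, n, hn⟩
  · exfalso
    have hmin : (Nat.card ↥L).minFac = 2 := (Nat.minFac_eq_two_iff _).2 (even_iff_two_dvd.1 heven)
    have hle := hcyc.normalizer_le_centralizer hmin
    have hker : (MonoidHom.transferSylow S hle).ker = ⊤ := by
      rw [eq_top_iff, ← hperf]
      rw [commutator_def]
      refine Subgroup.commutator_le.2 fun u _ v _ => ?_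
      rw [MonoidHom.mem_ker, map_commutatorElement, commutatorElement_eq_one_iff_mul_comm]
      obtain ⟨a, ha⟩ := hcyc.exists_generator
      obtain ⟨i, hi⟩ := ha (MonoidHom.transferSylow S hle u)
      obtain ⟨j, hj⟩ := ha (MonoidHom.transferSylow S hle v)
      rw [← hi, ← hj]
      exact (Commute.zpow_zpow_self a i j).eq
    have h := (MonoidHom.ker_transferSylow_isComplement' S hle).index_eq_card
    rw [hker] at h
    have h1 := (MonoidHom.ker_transferSylow_isComplement' S hle).disjoint
    rw [hker, top_disjoint] at h1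
    have := S.not_dvd_index
    rw [h1, Subgroup.index_bot] at this
    exact this (even_iff_two_dvd.1 heven)
  · exact ⟨S, n, hn⟩

end Cfsg.Agent.S1307
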