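import Cfsg.Statements.S1312
import Cfsg.Agent.Solv.PrimitivePair

set_option autoImplicit false
open Cfsg

namespace Cfsg.Agent.S1312

/-- Let G be a non-abelian finite simple group and M ≠ N maximal subgroups of G with F*(M) ≤ N and F*(N) ≤ M. Then there is a prime p such that F*(M) and F*(N) are both p-groups. -/
theorem result {G : Type*} [Group G] [Finite G] [IsSimpleGroup G] (hna : ¬ IsMulCommutative G) (M N : Subgroup G) (hM : IsCoatom M) (hN : IsCoatom N) (hMN : M ≠ N) (h1 : (Cfsg.generalizedFittingSubgroup ↥M).map M.subtype ≤ N) (h2 : (Cfsg.generalizedFittingSubgroup ↥N).map N.subtype ≤ M) : ∃ p : ℕ, p.Prime ∧ IsPGroup p ↥(Cfsg.generalizedFittingSubgroup ↥M) ∧ IsPGroup p ↥(Cfsg.generalizedFittingSubgroup ↥N) := by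

  have hP : ∀ (X : Subgroup G), IsCoatom X → ∀ A : Subgroup G, A ≠ ⊥ → A ≤ X →
      X ≤ Subgroup.normalizer (A : Set G) → Subgroup.normalizer (A : Set G) = X := by
    intro X hX A hA hle hn
    rcases hX.le_iff.1 hn with h | h
    · exfalso
      haveI : A.Normal := Subgroup.normalizer_eq_top_iff.1 h
      rcases (inferInstance : A.Normal).eq_bot_or_eq_top with e | e
      · exact hA e
      · exact hX.1 (top_le_iff.1 (e ▸ hle))
    · exact h
  obtain ⟨p, hp, e1, e2⟩ := CfsgLib.Solv.PrimPair.bender hMN (fun A hA hle =>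
    ⟨fun h => by rw [hP M hM A hA (hle.trans inf_le_left) h, inf_comm],
     fun h => by rw [hP N hN A hA (hle.trans inf_le_right) h]⟩) h1 h2
  exact ⟨p, hp, e1 ▸ CfsgLib.Solv.pCore_isPGroup ↥M p, e2 ▸ CfsgLib.Solv.pCore_isPGroup ↥N p⟩

end Cfsg.Agent.S1312
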