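import Cfsg.Statements.S1314
import Cfsg.Agent.Solv.Basic

set_option autoImplicit false
open Cfsg
open scoped commutatorElement

namespace Cfsg.Agent.S1314

/-- Let x be an involution of a group G and L a perfect subgroup with ⁅L, x L x⁻¹⁆ = 1. Then l ↦ l (x l x⁻¹) is a group homomorphism π from L to G whose kernel is central in L and whose image lies in C_G(x); and the commutator subgroup of C_{L ⊔ xLx⁻¹}(x) equals the image of π. -/
theorem result {G : Type*} [Group G] [Finite G] (x : G) (hx : orderOf x = 2) (L : Subgroup G) (hperf : ⁅L, L⁆ = L) (hcomm : ⁅L, L.map (MulAut.conj x).toMonoidHom⁆ = ⊥) : ∃ π : ↥L →* G, (∀ l : ↥L, π l = (l : G) * (x * (l : G) * x⁻¹)) ∧ π.ker ≤ Subgroup.center ↥L ∧ π.range ≤ Subgroup.centralizer ({x} : Set G) ∧ ⁅(L ⊔ L.map (MulAut.conj x).toMonoidHom) ⊓ Subgroup.centralizer ({x} : Set G), (L ⊔ L.map (MulAut.conj x).toMonoidHom) ⊓ Subgroup.centralizer ({x} : Set G)⁆ = π.range := by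
  classical
  have hxx : x * x = 1 := by rw [← pow_two, ← hx, pow_orderOf_eq_one]
  have hxi : x⁻¹ = x := inv_eq_of_mul_eq_one_right hxx
  set L' := L.map (MulAut.conj x).toMonoidHom with hL'
  have hmem' : ∀ l ∈ L, x * l * x⁻¹ ∈ L' := fun l hl => ⟨l, hl, rfl⟩
  have hback : ∀ b ∈ L', x * b * x⁻¹ ∈ L := by
    rintro _ ⟨l, hl, rfl⟩
    show x * (x * l * x⁻¹) * x⁻¹ ∈ L
    rw [hxi, ← mul_assoc x (x * l), ← mul_assoc x x, hxx, one_mul, mul_assoc, hxx, mul_one]
    exact hl
  have hinv2 : ∀ g, x * (x * g * x⁻¹) * x⁻¹ = g := fun g => by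
    rw [hxi, ← mul_assoc x (x * g), ← mul_assoc x x, hxx, one_mul, mul_assoc, hxx, mul_one]
  have hc : ∀ a ∈ L, ∀ b ∈ L', a * b = b * a := fun a ha b hb => by
    refine commutatorElement_eq_one_iff_mul_comm.1 ?_
    rw [← Subgroup.mem_bot, ← hcomm]
    exact Subgroup.commutator_mem_commutator ha hb
  let π : L →* G :=
    { toFun := fun l => (l : G) * (x * l * x⁻¹)
      map_one' := by simp
      map_mul' := fun a b => by
        calc (a : G) * b * (x * (a * b) * x⁻¹) = a * (b * (x * a * x⁻¹)) * (x * b * x⁻¹) := by group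
          _ = a * ((x * a * x⁻¹) * b) * (x * b * x⁻¹) := by rw [hc b b.2 _ (hmem' a a.2)]
          _ = _ := by group }
  have hfix : ∀ l : L, x * π l * x⁻¹ = π l := fun l => by
    show x * ((l : G) * (x * l * x⁻¹)) * x⁻¹ = (l : G) * (x * l * x⁻¹)
    rw [hc l l.2 _ (hmem' l l.2)]
    calc x * (x * (l : G) * x⁻¹ * l) * x⁻¹ = x * (x * (l : G) * x⁻¹) * x⁻¹ * (x * l * x⁻¹) := by group
      _ = (l : G) * (x * l * x⁻¹) := by rw [hinv2]
      _ = _ := hc l l.2 _ (hmem' l l.2)
  have hrC : π.range ≤ Subgroup.centralizer ({x} : Set G) := by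
    rintro _ ⟨l, rfl⟩
    rw [Subgroup.mem_centralizer_singleton_iff, ← mul_inv_eq_iff_eq_mul.1 (hfix l)]
  refine ⟨π, fun l => rfl, fun l hl => ?_, hrC, ?_⟩
  · have h1 : (l : G) ∈ L' := by
      have : (l : G) = x * ((l⁻¹ : L) : G) * x⁻¹ := by
        rw [eq_comm, Subgroup.coe_inv, ← conj_inv]
        exact inv_eq_of_mul_eq_one_left (hl : (l : G) * (x * l * x⁻¹) = 1)
      rw [this]; exact hmem' _ (l⁻¹).2
    exact Subgroup.mem_center_iff.2 fun a => Subtype.ext (hc a a.2 _ h1)
  have hperf' : ⁅π.range, π.range⁆ = π.range := by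
    have h := Subgroup.map_commutator (⊤ : Subgroup L) ⊤ π
    rw [← MonoidHom.range_eq_map] at h
    rw [← h, ← commutator_def]
    have : commutator L = ⊤ := by
      apply Subgroup.map_injective L.subtype_injective
      rw [commutator_def, Subgroup.map_commutator, ← MonoidHom.range_eq_map, Subgroup.range_subtype, hperf]
    rw [this, ← MonoidHom.range_eq_map]
  set C := (L ⊔ L') ⊓ Subgroup.centralizer ({x} : Set G) with hC
  refine le_antisymm ?_ ?_
  · have hnorm : L' ≤ Subgroup.normalizer (L : Set G) := fun b hb => Subgroup.mem_normalizer_iff.2 fun a => by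
      constructor
      · intro ha; rw [← hc a ha b hb, mul_inv_cancel_right]; exact ha
      · intro ha
        have h := hc _ ha b hb
        have : a = b * a * b⁻¹ := by
          have h2 : b * a = b * (b * a * b⁻¹) := by rw [← h]; group
          exact mul_left_cancel h2
        rw [this]; exact ha
    have hdec : ∀ g ∈ C, ∃ l : L, ∃ z : G, g = π l * z ∧ ∀ k ∈ C, Commute z k := by
      intro g hg
      have hmul : g ∈ ((L ⊔ L' : Subgroup G) : Set G) := hg.1
      rw [sup_comm, Subgroup.coe_mul_of_left_le_normalizer_right L' L hnorm] at hmul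
      obtain ⟨b, hb, a, ha, hgab⟩ := hmul
      have hgab' : g = b * a := hgab.symm
      set c : G := x * a⁻¹ * x⁻¹ * b with hcdef
      have hcL' : c ∈ L' := mul_mem (hmem' _ (inv_mem ha)) hb
      have hgc : g = π ⟨a, ha⟩ * c := by
        show g = a * (x * a * x⁻¹) * (x * a⁻¹ * x⁻¹ * b)
        rw [hgab', ← hc a ha b hb]; group
      have hcx : x * c * x⁻¹ = c := by
        have h1 : x * g * x⁻¹ = g := by
          rw [← Subgroup.mem_centralizer_singleton_iff.1 hg.2, mul_inv_cancel_right]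
        have h2 : x * g * x⁻¹ = (x * π ⟨a, ha⟩ * x⁻¹) * (x * c * x⁻¹) := by rw [hgc]; group
        rw [h1, hfix] at h2
        exact (mul_left_cancel (hgc.symm.trans h2)).symm
      have hcL : c ∈ L := by rw [← hcx]; exact hback c hcL'
      refine ⟨⟨a, ha⟩, c, hgc, fun k hk => ?_⟩
      have hk1 : L ⊔ L' ≤ Subgroup.centralizer ({c} : Set G) := sup_le
        (fun a' ha' => Subgroup.mem_centralizer_singleton_iff.2 (hc a' ha' c hcL'))
        (fun b' hb' => Subgroup.mem_centralizer_singleton_iff.2 (hc c hcL b' hb').symm)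
      exact (Subgroup.mem_centralizer_singleton_iff.1 (hk1 hk.1)).symm
    have hπC : ∀ l : L, π l ∈ C := fun l => ⟨Subgroup.mul_mem_sup l.2 (hmem' l l.2), hrC ⟨l, rfl⟩⟩
    rw [Subgroup.commutator_le]
    intro g hg k hk
    obtain ⟨l, z, rfl, hz⟩ := hdec g hg
    obtain ⟨m, w, rfl, hw⟩ := hdec k hk
    have hzC : z ∈ C := by simpa using mul_mem (inv_mem (hπC l)) hg
    have h1 : Commute z (π m * w) := hz _ hk
    have h2 : Commute w (π l) := hw _ (hπC l)
    refine ⟨⁅l, m⁆, ?_⟩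
    rw [map_commutatorElement, commutatorElement_def, commutatorElement_def]
    symm
    calc π l * z * (π m * w) * (π l * z)⁻¹ * (π m * w)⁻¹
        = π l * (z * (π m * w) * z⁻¹) * (π l)⁻¹ * (w⁻¹ * (π m)⁻¹) := by group
      _ = π l * (π m * w) * (π l)⁻¹ * (w⁻¹ * (π m)⁻¹) := by rw [h1.eq, mul_inv_cancel_right]
      _ = π l * π m * (w * (π l)⁻¹) * (w⁻¹ * (π m)⁻¹) := by group
      _ = π l * π m * ((π l)⁻¹ * w) * (w⁻¹ * (π m)⁻¹) := by rw [h2.inv_right.eq]
      _ = _ := by group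
  · conv_lhs => rw [← hperf']
    refine Subgroup.commutator_mono ?_ ?_ <;>
    · rintro _ ⟨l, rfl⟩; exact ⟨Subgroup.mul_mem_sup l.2 (hmem' l l.2), hrC ⟨l, rfl⟩⟩

end Cfsg.Agent.S1314
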