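-- Statement S1318
import Cfsg.Statements.S1318
import Cfsg.Agent.Solv.CompBasic

set_option autoImplicit false
open Cfsg
set_option linter.style.haveILetI false
set_option linter.deprecated false

namespace Cfsg.Agent.S1318

/-- Let X be finite and S ≤ F*(X) a subgroup subnormal in F*(X). Then F(S) = F(X) ∩ S (inside X) and S = F(S)E(S). -/
theorem result {X : Type*} [Group X] [Finite X] (S : Subgroup X) (hS : S ≤ Cfsg.generalizedFittingSubgroup X) (hsn : (S.subgroupOf (Cfsg.generalizedFittingSubgroup X)).IsSubnormal) : (Cfsg.fittingSubgroup ↥S).map S.subtype = Cfsg.fittingSubgroup X ⊓ S ∧ Cfsg.fittingSubgroup ↥S ⊔ Cfsg.layer ↥S = ⊤ := by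
    haveI := CfsgLib.Inv.genFitting_normal (G := X)
    have hsX : S.IsSubnormal := Subgroup.IsSubnormal.trans hS hsn
      (inferInstance : (Cfsg.generalizedFittingSubgroup X).Normal).isSubnormal
    refine ⟨le_antisymm (le_inf (CfsgLib.Inv.fitting_subnormal_map_le hsX) (Subgroup.map_subtype_le _)) ?_, ?_⟩
    · intro x hx
      obtain ⟨hxF, hxS⟩ := Subgroup.mem_inf.1 hx
      haveI := CfsgLib.Inv.fitting_nilpotent (G := X)
      haveI := CfsgLib.Solv.fittingSubgroup_normal X
      refine ⟨⟨x, hxS⟩, CfsgLib.Solv.le_fittingSubgroup (N := (Cfsg.fittingSubgroup X).subgroupOf S) ?_ hxF, rfl⟩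
      let φ : (Cfsg.fittingSubgroup X).subgroupOf S →* Cfsg.fittingSubgroup X :=
        { toFun := fun n => ⟨((n : S) : X), n.2⟩
          map_one' := rfl
          map_mul' := fun _ _ => rfl }
      exact Group.nilpotent_of_mulEquiv (MonoidHom.ofInjective (f := φ) fun m n e =>
        Subtype.ext (Subtype.ext (congrArg Subtype.val e : _))).symm
    · rw [eq_top_iff, sup_comm]
      intro x _
      have h := (CfsgLib.Solv.genFitting_inf_subnormal hsX).le (Subgroup.mem_inf.2 ⟨hS x.2, x.2⟩)
      obtain ⟨y, hy, e⟩ := h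
      rw [Subtype.ext e] at hy
      exact hy

end Cfsg.Agent.S1318
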