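-- Statement S1324
import Cfsg.Statements.S1324
import Cfsg.Agent.Solv.Generation

set_option autoImplicit false
open Cfsg

namespace Cfsg.Agent.S1324

/-- Let A be a noncyclic elementary abelian p-subgroup of a finite group H normalizing a subgroup X of order prime to p. Then X is generated by the subgroups X ∩ C_H(B), B ranging over the subgroups of A of index at most p. -/
theorem result {H : Type*} [Group H] [Finite H] (p : ℕ) [Fact p.Prime] (A X : Subgroup H) (hA : Cfsg.IsElementaryAbelian p A) (hA2 : p ^ 2 ≤ Nat.card ↥A) (hX : ¬ p ∣ Nat.card ↥X) (hAX : A ≤ Subgroup.normalizer (X : Set H)) : X = ⨆ B : {B : Subgroup H // B ≤ A ∧ B.relIndex A ≤ p}, X ⊓ Subgroup.centralizer ((B : Subgroup H) : Set H) := by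
  haveI := hA.1
  have hp := (Fact.out : p.Prime)
  have hcard : (Nat.card A).Coprime (Nat.card X) := by
    have hpg : IsPGroup p A := fun a => ⟨1, by
      rw [pow_one]; exact Subtype.ext (by simpa using hA.2 a a.2)⟩
    obtain ⟨n, hn⟩ := IsPGroup.iff_card.1 hpg
    rw [hn]
    exact Nat.Coprime.pow_left n ((Nat.Prime.coprime_iff_not_dvd hp).2 hX)
  refine le_antisymm ?_ (iSup_le fun B => inf_le_left)
  refine CfsgLib.Solv.le_of_cocyclic_centralizers hAX hcard fun B hB ⟨a, ha, hBa⟩ => ?_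
  refine le_iSup (fun B : {B : Subgroup H // B ≤ A ∧ B.relIndex A ≤ p} =>
    X ⊓ Subgroup.centralizer ((B : Subgroup H) : Set H)) ⟨B, hB, ?_⟩
  have hn : Subgroup.zpowers a ≤ Subgroup.normalizer (B : Set H) := by
    rw [CfsgLib.Solv.le_normalizer_iff_forall_conj_mem]
    intro x hx b hb
    rw [CfsgLib.Solv.commute_of_isMulCommutative (Subgroup.zpowers_le.2 ha hx) (hB hb)]
    simpa using hb
  have hsurj : Function.Surjective
      (fun z : Subgroup.zpowers a =>
        (QuotientGroup.mk (⟨(z : H), Subgroup.zpowers_le.2 ha z.2⟩ : A) : A ⧸ B.subgroupOf A)) := by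
    intro y
    obtain ⟨x, rfl⟩ := QuotientGroup.mk_surjective y
    have hx : (x : H) ∈ Subgroup.zpowers a ⊔ B := by rw [sup_comm, hBa]; exact x.2
    obtain ⟨b, hb, z, hz, hxe⟩ := CfsgLib.Solv.exists_mul_of_mem_sup hn hx
    refine ⟨⟨z, hz⟩, QuotientGroup.eq.2 ?_⟩
    rw [Subgroup.mem_subgroupOf]
    have hc : b * z = z * b :=
      CfsgLib.Solv.commute_of_isMulCommutative (hB hb) (Subgroup.zpowers_le.2 ha hz)
    simpa [hxe, hc] using hb
  have h1 := Nat.card_le_card_of_surjective _ hsurj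
  refine le_trans h1 ?_
  rw [Nat.card_zpowers]
  exact Nat.le_of_dvd hp.pos (orderOf_dvd_of_pow_eq_one (hA.2 a ha))

end Cfsg.Agent.S1324
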