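import Cfsg.Statements.S1328
import Cfsg.Agent.Solv.CompBalanceMain

set_option autoImplicit false
open Cfsg
open scoped commutatorElement Pointwise

namespace Cfsg.Agent.S1328

/-- Let G be finite, H ≤ G with O(H) = 1, t an involution of G normalizing H, and Y a nontrivial subgroup of O(C_H(t)). Then some component E of H is normalized by t and by Y and centralized by neither t nor Y. -/
theorem result {G : Type*} [Group G] [Finite G] (H : Subgroup G) (hO : Cfsg.oddCore ↥H = ⊥) (t : G) (ht : orderOf t = 2) (htH : t ∈ Subgroup.normalizer (H : Set G)) (Y : Subgroup G) (hY1 : Y ≠ ⊥) (hY : Y ≤ (Cfsg.oddCore ↥(H ⊓ Subgroup.centralizer ({t} : Set G))).map (H ⊓ Subgroup.centralizer ({t} : Set G)).subtype) : ∃ E : Subgroup ↥H, Cfsg.IsComponent E ∧ (E.map H.subtype).map (MulAut.conj t).toMonoidHom = E.map H.subtype ∧ Y ≤ Subgroup.normalizer ((E.map H.subtype : Subgroup G) : Set G) ∧ ¬ (t ∈ Subgroup.centralizer ((E.map H.subtype : Subgroup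 G) : Set G)) ∧ ¬ (Y ≤ Subgroup.centralizer ((E.map H.subtype : Subgroup G) : Set G)) := by
  classical
  set Γ := H ⊔ Subgroup.zpowers t with hΓ
  have hHΓ : H ≤ Γ := le_sup_left
  have htΓ : t ∈ Γ := Subgroup.mem_sup_right (Subgroup.mem_zpowers t)
  haveI hHn : (H.subgroupOf Γ).Normal :=
    Subgroup.normal_subgroupOf_of_le_normalizer (sup_le Subgroup.le_normalizer (Subgroup.zpowers_le.2 htH))
  haveI := CfsgLib.Solv.pPrimeCore_normal ↥H 2
  haveI := CfsgLib.Solv.pPrimeCore_normal ↥Γ 2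
  set μ := QuotientGroup.mk' (H.subgroupOf Γ) with hμ
  have hdec : ∀ g : Γ, ∃ i : ℤ, μ g = μ ⟨t, htΓ⟩ ^ i := fun g => by
    obtain ⟨h', hh', w, hw, hg⟩ := CfsgLib.Solv.exists_mul_of_mem_sup (Subgroup.zpowers_le.2 htH)
      (show (g : G) ∈ Subgroup.zpowers t ⊔ H by rw [sup_comm]; exact g.2)
    obtain ⟨i, rfl⟩ := Subgroup.mem_zpowers_iff.1 hw
    refine ⟨i, ?_⟩
    rw [show g = ⟨h', hHΓ hh'⟩ * ⟨t, htΓ⟩ ^ i from Subtype.ext hg, map_mul, map_zpow,
      show μ ⟨h', hHΓ hh'⟩ = 1 from (QuotientGroup.eq_one_iff _).2 hh', one_mul]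
  -- the core of the extension is trivial
  have hcore : Cfsg.pPrimeCore 2 ↥Γ = ⊥ := by
    have hle : Cfsg.pPrimeCore 2 ↥Γ ≤ H.subgroupOf Γ := fun g hg => by
      refine (QuotientGroup.eq_one_iff g).1 ?_
      obtain ⟨i, hi⟩ := hdec g
      have h2 : (μ g) ^ 2 = 1 := by
        show (μ g) ^ 2 = 1
        rw [hi, ← zpow_natCast, ← zpow_mul, mul_comm, zpow_mul, zpow_natCast, ← map_pow,
          show (⟨t, htΓ⟩ : Γ) ^ 2 = 1 from Subtype.ext (by rw [SubmonoidClass.coe_pow, ← ht, pow_orderOf_eq_one]; rfl),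
          map_one, one_zpow]
      show μ g = 1
      rw [← orderOf_eq_one_iff]
      exact Nat.Coprime.eq_one_of_dvd ((((CfsgLib.Solv.pPrimeCore_coprime ↥Γ 2).coprime_dvd_left
        (Subgroup.orderOf_dvd_natCard _ hg)).coprime_dvd_left (orderOf_map_dvd μ g)))
        (orderOf_dvd_of_pow_eq_one h2)
    have h1 : (Cfsg.pPrimeCore 2 ↥Γ).map Γ.subtype ≤ H := by
      rintro _ ⟨g, hg, rfl⟩; exact hle hg
    haveI : (((Cfsg.pPrimeCore 2 ↥Γ).map Γ.subtype).subgroupOf H).Normal :=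
      Subgroup.normal_subgroupOf_of_le_normalizer fun h' hh' => Subgroup.mem_normalizer_fintype (by
        rintro _ ⟨g, hg, rfl⟩
        exact ⟨⟨h', hHΓ hh'⟩ * g * ⟨h', hHΓ hh'⟩⁻¹, (CfsgLib.Solv.pPrimeCore_normal ↥Γ 2).conj_mem g hg _, rfl⟩)
    have h2 := CfsgLib.Solv.le_pPrimeCore (p := 2) (N := ((Cfsg.pPrimeCore 2 ↥Γ).map Γ.subtype).subgroupOf H) (by
      rw [CfsgLib.Solv.card_subgroupOf h1, Subgroup.card_map_of_injective Γ.subtype_injective]
      exact CfsgLib.Solv.pPrimeCore_coprime ↥Γ 2)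
    rw [show Cfsg.pPrimeCore 2 ↥H = ⊥ from hO, le_bot_iff, Subgroup.subgroupOf_eq_bot, disjoint_iff,
      inf_eq_left.2 h1, Subgroup.map_eq_bot_iff_of_injective _ Γ.subtype_injective] at h2
    exact h2
  set C := H ⊓ Subgroup.centralizer ({t} : Set G) with hC
  haveI := CfsgLib.Solv.pPrimeCore_normal ↥C 2
  set O := (Cfsg.oddCore ↥C).map C.subtype with hOdef
  have hOC : O ≤ C := Subgroup.map_subtype_le _
  set x : Γ := ⟨t, htΓ⟩ with hx
  have hxo : orderOf x = 2 := by rw [hx, Subgroup.orderOf_mk, ht]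
  -- `Y` lies in the core of the centralizer of `t` in the extension
  have hYle : Y.subgroupOf Γ ≤ Cfsg.centralizerPPrimeCore 2 x := by
    refine le_trans (show Y.subgroupOf Γ ≤ O.subgroupOf Γ from fun g hg => hY hg) ?_
    set CΓ := Subgroup.centralizer ({x} : Set Γ) with hCΓ
    have hle : O.subgroupOf Γ ≤ CΓ := fun g hg => Subgroup.mem_centralizer_singleton_iff.2
      (Subtype.ext (Subgroup.mem_centralizer_singleton_iff.1 (hOC hg).2))
    refine CfsgLib.Solv.CompBal.le_core_cent hle ?_ ?_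
    · rw [CfsgLib.Solv.card_subgroupOf (hOC.trans (inf_le_left.trans hHΓ)),
        Subgroup.card_map_of_injective C.subtype_injective]
      exact CfsgLib.Solv.pPrimeCore_coprime ↥C 2
    haveI h1 : ((C.subgroupOf Γ).subgroupOf CΓ).Normal := by
      refine Subgroup.normal_subgroupOf_of_le_normalizer fun c hc => Subgroup.mem_normalizer_fintype fun g hg => ?_
      refine ⟨hHn.conj_mem _ (show g ∈ H.subgroupOf Γ from hg.1) c, Subgroup.mem_centralizer_singleton_iff.2 ?_⟩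
      have hc1 : Commute (c : G) t := congrArg Subtype.val (Subgroup.mem_centralizer_singleton_iff.1 hc)
      have hg1 : Commute (g : G) t := Subgroup.mem_centralizer_singleton_iff.1 hg.2
      exact ((hc1.mul_left hg1).mul_left hc1.inv_left).eq
    haveI h2 : (((O.subgroupOf Γ).subgroupOf CΓ).subgroupOf ((C.subgroupOf Γ).subgroupOf CΓ)).Normal := by
      refine Subgroup.normal_subgroupOf_of_le_normalizer fun c hc => Subgroup.mem_normalizer_fintype fun g hg => ?_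
      obtain ⟨g', hg', hge⟩ := hg
      refine ⟨⟨((c : Γ) : G), hc⟩ * g' * ⟨((c : Γ) : G), hc⟩⁻¹, (CfsgLib.Solv.pPrimeCore_normal ↥C 2).conj_mem g' hg' _, ?_⟩
      show ((c : Γ) : G) * C.subtype g' * ((c : Γ) : G)⁻¹ = _
      rw [hge]; rfl
    have h3 := h2.isSubnormal.trans' h1.isSubnormal
    rwa [Subgroup.map_subgroupOf_eq_of_le
      (show (O.subgroupOf Γ).subgroupOf CΓ ≤ (C.subgroupOf Γ).subgroupOf CΓ from fun z hz => hOC hz)] at h3
  have hYH : Y ≤ H := hY.trans (hOC.trans inf_le_left)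
  have hne : Y.subgroupOf Γ ≠ ⊥ := fun e => hY1 (by
    rw [Subgroup.subgroupOf_eq_bot, disjoint_iff, inf_eq_left.2 (hYH.trans hHΓ)] at e; exact e)
  obtain ⟨E, hE, hxN, hYN, hxC, hYC⟩ := CfsgLib.Solv.CompBal.exists_component_one hcore hxo hYle hne
  have hEH : E ≤ H.subgroupOf Γ := by
    rw [← CfsgLib.Inv.component_commutator hE, Subgroup.commutator_le]
    intro a _ b _
    refine (QuotientGroup.eq_one_iff _).1 ?_
    show μ ⁅a, b⁆ = 1
    obtain ⟨i, hi⟩ := hdec a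
    obtain ⟨j, hj⟩ := hdec b
    rw [map_commutatorElement, hi, hj, commutatorElement_eq_one_iff_mul_comm]
    exact ((Commute.refl _).zpow_zpow i j).eq
  let e := Subgroup.subgroupOfEquivOfLe hHΓ
  have hEc := CfsgLib.Inv.isComponent_map e (CfsgLib.Inv.isComponent_subgroupOf hE hEH)
  set E' := (E.subgroupOf (H.subgroupOf Γ)).map e.toMonoidHom with hE'
  have hmap : E'.map H.subtype = E.map Γ.subtype := by
    rw [hE', Subgroup.map_map]
    refine le_antisymm ?_ ?_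
    · rintro _ ⟨z, hz, rfl⟩
      exact ⟨(z : Γ), hz, rfl⟩
    · rintro _ ⟨z, hz, rfl⟩
      exact ⟨⟨z, hEH hz⟩, hz, rfl⟩
  refine ⟨E', hEc, ?_, ?_, ?_, ?_⟩
  · rw [hmap, ← CfsgLib.Solv.conj_smul_eq_map]
    refine CfsgLib.Solv.conj_smul_eq_self_of_mem_normalizer (Subgroup.mem_normalizer_fintype ?_)
    rintro _ ⟨z, hz, rfl⟩
    exact ⟨x * z * x⁻¹, (Subgroup.mem_normalizer_iff.1 hxN z).1 hz, rfl⟩
  · rw [hmap]
    intro y hy
    refine Subgroup.mem_normalizer_fintype ?_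
    rintro _ ⟨z, hz, rfl⟩
    exact ⟨⟨y, hHΓ (hYH hy)⟩ * z * ⟨y, hHΓ (hYH hy)⟩⁻¹,
      (Subgroup.mem_normalizer_iff.1 (hYN (show (⟨y, hHΓ (hYH hy)⟩ : Γ) ∈ Y.subgroupOf Γ from hy)) z).1 hz, rfl⟩
  · rw [hmap]
    exact fun h => hxC (Subgroup.mem_centralizer_iff.2 fun z hz =>
      Subtype.ext (Subgroup.mem_centralizer_iff.1 h z ⟨z, hz, rfl⟩))
  · rw [hmap]
    exact fun h => hYC fun y hy => Subgroup.mem_centralizer_iff.2 fun z hz =>
      Subtype.ext (Subgroup.mem_centralizer_iff.1 (h hy) z ⟨z, hz, rfl⟩)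

end Cfsg.Agent.S1328
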