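import Cfsg.Statements.S1331
import Cfsg.Agent.Solv.Signalizer
-- import your own Cfsg.Agent.* helpers here

set_option autoImplicit false
open Cfsg

namespace Cfsg.Agent.S1331

/-- Let θ be a solvable A-signalizer functor on the finite group G for the prime p, A elementary abelian of rank at least 3, X a member of the family of θ, and B ≤ A with |B| ≥ p². Then X is generated by the subgroups X ∩ ⋂_{d ∈ D, d ≠ 1} θ d, D ranging over the subgroups of index p in B. -/
theorem result {G : Type*} [Group G] [Finite G] (p : ℕ) [Fact p.Prime] (A : Subgroup G) (hA : Cfsg.IsElementaryAbelian p A) (hA3 : p ^ 3 ≤ Nat.card ↥A) (θ : G → Subgroup G) (hθ : Cfsg.IsSolvableSignalizerFunctor p A θ) (X : Subgroup G) (hX : X ∈ Cfsg.signalizerFamily p A θ) (B : Subgroup G) (hB : B ≤ A) (hB2 : p ^ 2 ≤ Nat.card ↥B) : X = ⨆ D : {D : Subgroup G // D ≤ B ∧ D.relIndex B = p}, X ⊓ Cfsg.signalizerInf (D : Subgroup G) θ := by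
  have hp := (Fact.out : p.Prime)
  have hBe : Cfsg.IsElementaryAbelian p B :=
    ⟨⟨⟨fun x y => Subtype.ext (CfsgLib.Solv.Sig.comm hA (hB x.2) (hB y.2))⟩⟩, fun b hb => hA.2 b (hB hb)⟩
  haveI := hBe.1
  refine le_antisymm ?_ (iSup_le fun D => inf_le_left)
  obtain ⟨n, hn⟩ := CfsgLib.Solv.Sig.card_eq_pow hBe
  refine CfsgLib.Solv.le_of_cocyclic_centralizers (A := B) (hB.trans (CfsgLib.Solv.Sig.mem_family.1 hX).2.2.1)
    (CfsgLib.Solv.Sig.coprime_card hBe hX.2.1) fun D hD hDc => ?_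
  have hstep : ∀ E : Subgroup G, E ≤ B → E.relIndex B = p → E ≤ D ∨ D = B →
      X ⊓ Subgroup.centralizer (D : Set G) ≤
        ⨆ D : {D : Subgroup G // D ≤ B ∧ D.relIndex B = p}, X ⊓ Cfsg.signalizerInf (D : Subgroup G) θ := by
    intro E hE hEi hED
    refine le_trans ?_ (le_iSup (fun D : {D : Subgroup G // D ≤ B ∧ D.relIndex B = p} =>
      X ⊓ Cfsg.signalizerInf (D : Subgroup G) θ) ⟨E, hE, hEi⟩)
    refine le_inf inf_le_left (le_trans (inf_le_inf_left _ (Subgroup.centralizer_le ?_))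
      (CfsgLib.Solv.Sig.inf_le_signalizerInf hX (hE.trans hB)))
    rcases hED with h | h
    exacts [h, h ▸ hE]
  have hmul := Subgroup.relIndex_mul_relIndex ⊥ D B bot_le hD
  rw [Subgroup.relIndex_bot_left, Subgroup.relIndex_bot_left] at hmul
  have hle : D.relIndex B ≤ p := by
    have := CfsgLib.Solv.Sig.card_le_of_cocyclic hBe hD hDc
    rw [← hmul] at this
    exact Nat.le_of_mul_le_mul_left this Nat.card_pos
  obtain ⟨i, -, hi⟩ := (Nat.dvd_prime_pow hp).1 (show D.relIndex B ∣ p ^ n from hn ▸ Dvd.intro_left _ hmul)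
  rcases Nat.lt_trichotomy i 1 with h0 | rfl | h2
  · have hDB : D = B := le_antisymm hD (Subgroup.relIndex_eq_one.1 (by rw [hi, Nat.lt_one_iff.1 h0, pow_zero]))
    have hn2 : 2 ≤ n := (Nat.pow_le_pow_iff_right hp.one_lt).1 (hn ▸ hB2)
    obtain ⟨K, hK⟩ := Sylow.exists_subgroup_card_pow_prime (G := B) p (n := n - 1)
      (hn ▸ pow_dvd_pow p (Nat.sub_le n 1))
    have hKi : (K.map B.subtype).relIndex B = p := by
      have h := Subgroup.relIndex_mul_relIndex ⊥ (K.map B.subtype) B bot_le (Subgroup.map_subtype_le _)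
      rw [Subgroup.relIndex_bot_left, Subgroup.relIndex_bot_left, CfsgLib.Solv.card_map_subtype, hK, hn] at h
      have e : p ^ n = p ^ (n - 1) * p := by rw [← pow_succ]; congr 1; omega
      exact Nat.eq_of_mul_eq_mul_left (pow_pos hp.pos _) (h.trans e)
    exact hstep _ (Subgroup.map_subtype_le _) hKi (Or.inr hDB)
  · exact hstep D hD (by rw [hi, pow_one]) (Or.inl le_rfl)
  · have h3 : p ^ 2 ≤ p := le_trans (Nat.pow_le_pow_right hp.pos h2) (hi ▸ hle)
    nlinarith [hp.two_le]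

end Cfsg.Agent.S1331
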