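import Cfsg.Statements.S1335
import Cfsg.Agent.Solv.Basic

set_option autoImplicit false
open Cfsg
open scoped commutatorElement

namespace Cfsg.Agent.S1335

theorem rank_equiv {A B : Type*} [Group A] [Group B] (e : A ≃* B) {p k : ℕ} (h : Cfsg.PRankLE p k B) :
    Cfsg.PRankLE p k A := fun C hC hCp => by
  have h1 := h (C.map e.toMonoidHom) (Subgroup.map_isMulCommutative C e.toMonoidHom) (by
    rintro _ ⟨c, hc, rfl⟩; rw [← map_pow, hCp c hc, map_one])
  rwa [Subgroup.card_map_of_injective e.injective] at h1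


/-- Let H be a subgroup of the finite group G, p a prime, k ≥ 1, P a Sylow p-subgroup of H of p-rank at least k, and suppose N_G(X) ≤ H for every subgroup X ≤ P of p-rank at least k. Then P is a Sylow p-subgroup of G. -/
theorem result {G : Type*} [Group G] [Finite G] {p : ℕ} [Fact p.Prime] (k : ℕ) (hk : 1 ≤ k) (H : Subgroup G) (P : Sylow p ↥H) (hP : ¬ Cfsg.PRankLE p (k - 1) ↥(P : Subgroup ↥H)) (hΓ : (∀ X : Subgroup G, X ≤ (P : Subgroup ↥H).map H.subtype → ¬ Cfsg.PRankLE p (k - 1) ↥X → Subgroup.normalizer (X : Set G) ≤ H)) : ∃ Q : Sylow p G, (Q : Subgroup G) = (P : Subgroup ↥H).map H.subtype := by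
  classical
  set P' := (P : Subgroup ↥H).map H.subtype with hP'
  obtain ⟨Q, hQ⟩ := (P.2.map H.subtype : IsPGroup p P').exists_le_sylow
  refine ⟨Q, le_antisymm ?_ hQ⟩
  have hN : Subgroup.normalizer (P' : Set G) ≤ H := hΓ P' le_rfl fun h =>
    hP (rank_equiv ((P : Subgroup ↥H).equivMapOfInjective _ H.subtype_injective) h)
  by_contra hlt
  haveI := Q.2.isNilpotent
  have hne : P'.subgroupOf (Q : Subgroup G) ≠ ⊤ := fun h => hlt (Subgroup.subgroupOf_eq_top.1 h)
  obtain ⟨x, hx, hxP⟩ := SetLike.exists_of_lt (normalizerCondition_of_isNilpotent _ (lt_top_iff_ne_top.2 hne))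
  have hxN : (x : G) ∈ Subgroup.normalizer (P' : Set G) := by
    refine Subgroup.mem_normalizer_iff.2 fun a => ⟨fun ha => (Subgroup.mem_normalizer_iff.1 hx ⟨a, hQ ha⟩).1 ha, fun ha => ?_⟩
    have haQ : a ∈ (Q : Subgroup G) := by
      simpa [mul_assoc] using (Q : Subgroup G).mul_mem ((Q : Subgroup G).mul_mem (inv_mem x.2) (hQ ha)) x.2
    exact (Subgroup.mem_normalizer_iff.1 hx ⟨a, haQ⟩).2 ha
  have hle : (P : Subgroup ↥H) ≤ (Q : Subgroup G).subgroupOf H := fun y hy => hQ ⟨y, hy, rfl⟩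
  have heq := P.3 (Q.2.comap_of_injective H.subtype H.subtype_injective) hle
  refine hxP ?_
  show (x : G) ∈ P'
  exact ⟨⟨x, hN hxN⟩, heq.le x.2, rfl⟩

end Cfsg.Agent.S1335
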