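import Cfsg.Statements.S1336
import Cfsg.Agent.Solv.Basic

set_option autoImplicit false
open Cfsg
open scoped commutatorElement

namespace Cfsg.Agent.S1336

/-- Let G be finite and p prime. Then G has a proper subgroup H with p ∣ |H| and p ∤ |H ∩ gHg⁻¹| for every g ∉ H (a strongly p-embedded subgroup) if and only if G is not 1-connected for p. -/
theorem result {G : Type*} [Group G] [Finite G] (p : ℕ) [Fact p.Prime] : (∃ H : Subgroup G, H ≠ ⊤ ∧ p ∣ Nat.card ↥H ∧ ∀ g : G, g ∉ H → ¬ p ∣ Nat.card ↥(H ⊓ H.map (MulAut.conj g).toMonoidHom)) ↔ ¬ Cfsg.IsKConnected p 1 G := by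
  classical
  have hpp : p.Prime := Fact.out
  set R : Subgroup G → Subgroup G → Prop := fun A B => Cfsg.IsElementaryAbelian p A ∧ p ^ 1 ≤ Nat.card ↥A ∧
    Cfsg.IsElementaryAbelian p B ∧ p ^ 1 ≤ Nat.card ↥B ∧ ∀ a ∈ A, ∀ b ∈ B, a * b = b * a with hR
  have hsymm : ∀ A B, R A B → R B A := fun A B h => ⟨h.2.2.1, h.2.2.2.1, h.1, h.2.1, fun a ha b hb => (h.2.2.2.2 b hb a ha).symm⟩
  have hsy : ∀ A B, Relation.ReflTransGen R A B → Relation.ReflTransGen R B A := fun A B h => by
    induction h with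
    | refl => exact .refl
    | tail _ hbc ih => exact (Relation.ReflTransGen.single (hsymm _ _ hbc)).trans ih
  have hz : ∀ x : G, orderOf x = p → Cfsg.IsElementaryAbelian p (Subgroup.zpowers x) ∧ p ^ 1 ≤ Nat.card ↥(Subgroup.zpowers x) := by
    intro x hx
    refine ⟨⟨inferInstance, fun a ha => ?_⟩, by rw [pow_one, Nat.card_zpowers, hx]⟩
    obtain ⟨i, rfl⟩ := ha
    show (x ^ i) ^ p = 1
    rw [← zpow_natCast, zpow_comm, zpow_natCast, ← hx, pow_orderOf_eq_one, one_zpow]
  have hcontains : ∀ E : Subgroup G, Cfsg.IsElementaryAbelian p E → p ^ 1 ≤ Nat.card ↥E → ∃ x ∈ E, orderOf x = p := by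
    intro E hE hc
    haveI : Nontrivial E := Finite.one_lt_card_iff_nontrivial.1 (lt_of_lt_of_le (by rw [pow_one]; exact hpp.one_lt) hc)
    obtain ⟨x, hx⟩ := exists_ne (1 : E)
    exact ⟨x, x.2, orderOf_eq_prime (hE.2 x x.2) fun h => hx (Subtype.ext h)⟩
  constructor
  · rintro ⟨H, hH, hpH, hHg⟩ hconn
    obtain ⟨x, hx⟩ := exists_prime_orderOf_dvd_card' p hpH
    have hxo : orderOf (x : G) = p := by rw [Subgroup.orderOf_coe, hx]
    have hmem : ∀ A B : Subgroup G, R A B → A ≤ H → B ≤ H := by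
      rintro A B ⟨hA, hA1, -, -, hab⟩ hAH b hb
      obtain ⟨a, ha, hao⟩ := hcontains A hA hA1
      by_contra hbH
      refine hHg b hbH (hao ▸ ?_)
      rw [← Nat.card_zpowers]
      refine Subgroup.card_dvd_of_le (Subgroup.zpowers_le.2 ⟨hAH ha, a, hAH ha, ?_⟩)
      show b * a * b⁻¹ = a
      rw [← hab a ha b hb, mul_inv_cancel_right]
    have hall : ∀ y : G, orderOf y = p → y ∈ H := by
      intro y hy
      have hc := hconn _ _ (hz _ hxo).1 (hz _ hxo).2 (hz _ hy).1 (hz _ hy).2
      have hle : ∀ B, Relation.ReflTransGen R (Subgroup.zpowers (x : G)) B → B ≤ H := by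
        intro B hB
        induction hB with
        | refl => exact Subgroup.zpowers_le.2 x.2
        | tail _ hbc ih => exact hmem _ _ hbc ih
      exact hle _ hc (Subgroup.mem_zpowers y)
    refine hH (eq_top_iff.2 fun g _ => ?_)
    by_contra hg
    refine hHg g hg (hxo ▸ ?_)
    rw [← Nat.card_zpowers]
    refine Subgroup.card_dvd_of_le (Subgroup.zpowers_le.2 ⟨x.2, g⁻¹ * x * g, ?_, show g * (g⁻¹ * x * g) * g⁻¹ = x by group⟩)
    refine hall _ ?_
    have h := orderOf_injective (MulAut.conj g⁻¹).toMonoidHom (MulAut.conj g⁻¹).injective (x : G)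
    simpa [hxo] using h
  · intro hnot
    rw [Cfsg.IsKConnected] at hnot
    push Not at hnot
    obtain ⟨E₁, E₂, hE₁, hE₁c, hE₂, hE₂c, hne⟩ := hnot
    -- every member is joined to the centre of a Sylow subgroup
    obtain ⟨S⟩ : Nonempty (Sylow p G) := inferInstance
    obtain ⟨x₁, hx₁, hx₁o⟩ := hcontains E₁ hE₁ hE₁c
    have hdvd : p ∣ Nat.card G := hx₁o ▸ orderOf_dvd_natCard x₁
    obtain ⟨z, hzS, hzo, hzc⟩ : ∃ z ∈ (S : Subgroup G), orderOf z = p ∧ ∀ s ∈ (S : Subgroup G), s * z = z * s := by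
      haveI : Nontrivial (S : Subgroup G) := (Subgroup.nontrivial_iff_ne_bot _).2 (S.ne_bot_of_dvd_card hdvd)
      haveI := S.2.center_nontrivial
      obtain ⟨k, hk0, hk⟩ := (S.2.to_subgroup (Subgroup.center ↥(S : Subgroup G))).nontrivial_iff_card.1 inferInstance
      obtain ⟨z, hz⟩ := exists_prime_orderOf_dvd_card' p (G := Subgroup.center ↥(S : Subgroup G)) (hk ▸ dvd_pow_self p hk0.ne')
      exact ⟨z.1.1, z.1.2, by rw [Subgroup.orderOf_coe, Subgroup.orderOf_coe, hz], fun s hs =>
        congrArg Subtype.val (Subgroup.mem_center_iff.1 z.2 ⟨s, hs⟩)⟩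
    set Z := Subgroup.zpowers z with hZ
    let cj : G → Subgroup G → Subgroup G := fun g A => A.map (MulAut.conj g).toMonoidHom
    have hcR : ∀ g A B, R A B → R (cj g A) (cj g B) := by
      rintro g A B ⟨hA, hA1, hB, hB1, hab⟩
      refine ⟨⟨haveI := hA.1; Subgroup.map_isMulCommutative A _, ?_⟩, by rwa [Subgroup.card_map_of_injective (MulAut.conj g).injective],
        ⟨haveI := hB.1; Subgroup.map_isMulCommutative B _, ?_⟩, by rwa [Subgroup.card_map_of_injective (MulAut.conj g).injective], ?_⟩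
      · rintro _ ⟨a, ha, rfl⟩; rw [← map_pow, hA.2 a ha, map_one]
      · rintro _ ⟨a, ha, rfl⟩; rw [← map_pow, hB.2 a ha, map_one]
      · rintro _ ⟨a, ha, rfl⟩ _ ⟨b, hb, rfl⟩; rw [← map_mul, ← map_mul, hab a ha b hb]
    have hcT : ∀ g A B, Relation.ReflTransGen R A B → Relation.ReflTransGen R (cj g A) (cj g B) :=
      fun g A B h => h.lift (cj g) (fun a b hab => hcR g a b hab)
    have hcc : ∀ a b A, cj a (cj b A) = cj (a * b) A := fun a b A => by
      show (A.map _).map _ = A.map _
      rw [Subgroup.map_map, map_mul]; rfl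
    have hc1 : ∀ A, cj 1 A = A := fun A => by show A.map _ = A; rw [map_one]; exact Subgroup.map_id A
    -- members of the Sylow subgroup are adjacent to its central element
    have hadj : ∀ A : Subgroup G, A ≤ (S : Subgroup G) → Cfsg.IsElementaryAbelian p A → p ^ 1 ≤ Nat.card A → R A Z := by
      intro A hAS hA hA1
      refine ⟨hA, hA1, (hz z hzo).1, (hz z hzo).2, fun a ha b hb => ?_⟩
      obtain ⟨i, rfl⟩ := hb
      exact ((show Commute a z from hzc a (hAS ha)).zpow_right i).eq
    let H : Subgroup G :=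
      { carrier := {g | Relation.ReflTransGen R (cj g Z) Z}
        one_mem' := by show Relation.ReflTransGen R (cj 1 Z) Z; rw [hc1]
        mul_mem' := fun {a b} ha hb => by
          show Relation.ReflTransGen R (cj (a * b) Z) Z
          rw [← hcc]; exact (hcT a _ _ hb).trans ha
        inv_mem' := fun {a} ha => by
          show Relation.ReflTransGen R (cj a⁻¹ Z) Z
          have h := hcT a⁻¹ _ _ ha
          rw [hcc, inv_mul_cancel, hc1] at h
          exact hsy _ _ h }
    have hgen : ∀ x : G, orderOf x = p → ∃ g, Relation.ReflTransGen R (Subgroup.zpowers x) (cj g Z) := by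
      intro x hx
      obtain ⟨Q, hQ⟩ := (IsPGroup.of_card (n := 1) (by rw [Nat.card_zpowers, hx, pow_one]) : IsPGroup p (Subgroup.zpowers x)).exists_le_sylow
      obtain ⟨g, hg⟩ := MulAction.exists_smul_eq G S Q
      refine ⟨g, .single ?_⟩
      have hle : cj g⁻¹ (Subgroup.zpowers x) ≤ (S : Subgroup G) := by
        rintro _ ⟨y, hy, rfl⟩
        have hyQ : y ∈ ((g • S : Sylow p G) : Subgroup G) := hg.symm ▸ hQ hy
        obtain ⟨s, hs, hsy⟩ := hyQ
        have : g * s * g⁻¹ = y := hsy
        show g⁻¹ * y * g⁻¹⁻¹ ∈ (S : Subgroup G)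
        rw [← this, show g⁻¹ * (g * s * g⁻¹) * g⁻¹⁻¹ = s by group]; exact hs
      have hc : p ^ 1 ≤ Nat.card ↥(cj g⁻¹ (Subgroup.zpowers x)) := by
        rw [Subgroup.card_map_of_injective (MulAut.conj g⁻¹).injective]; exact (hz x hx).2
      have he : Cfsg.IsElementaryAbelian p (cj g⁻¹ (Subgroup.zpowers x)) :=
        ⟨Subgroup.map_isMulCommutative _ _, by rintro _ ⟨a, ha, rfl⟩; rw [← map_pow, (hz x hx).1.2 a ha, map_one]⟩
      have h := hcR g _ _ (hadj _ hle he hc)
      rwa [hcc, mul_inv_cancel, hc1] at h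
    have hSH : (S : Subgroup G) ≤ H := fun s hs => by
      have : cj s Z = Z := by
        show (Subgroup.zpowers z).map _ = _
        rw [MonoidHom.map_zpowers]
        congr 1
        show s * z * s⁻¹ = z
        rw [hzc s hs, mul_inv_cancel_right]
      show Relation.ReflTransGen R (cj s Z) Z
      rw [this]
    refine ⟨H, fun htop => hne ?_, (hzo ▸ Subgroup.orderOf_dvd_natCard H (hSH hzS)), fun g hg hd => hg ?_⟩
    · have hto : ∀ E : Subgroup G, Cfsg.IsElementaryAbelian p E → p ^ 1 ≤ Nat.card ↥E → Relation.ReflTransGen R E Z := by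
        intro E hE hEc
        obtain ⟨y, hy, hyo⟩ := hcontains E hE hEc
        obtain ⟨g, hg⟩ := hgen y hyo
        have hgH : g ∈ H := htop.symm ▸ Subgroup.mem_top g
        refine (Relation.ReflTransGen.single ⟨hE, hEc, (hz y hyo).1, (hz y hyo).2, fun a ha b hb => ?_⟩).trans (hg.trans hgH)
        exact congrArg Subtype.val (hE.1.is_comm.comm ⟨a, ha⟩ ⟨b, Subgroup.zpowers_le.2 hy hb⟩)
      exact (hto E₁ hE₁ hE₁c).trans (hsy _ _ (hto E₂ hE₂ hE₂c))
    · -- an element of order `p` of `H` is joined to `Z`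
      have hinH : ∀ y ∈ H, orderOf y = p → Relation.ReflTransGen R (Subgroup.zpowers y) Z := by
        intro y hyH hyo
        let SH : Sylow p H := S.subtype hSH
        obtain ⟨Q, hQ⟩ := (IsPGroup.of_card (n := 1) (by
          rw [Nat.card_zpowers, Subgroup.orderOf_mk, hyo, pow_one]) : IsPGroup p (Subgroup.zpowers (⟨y, hyH⟩ : H))).exists_le_sylow
        obtain ⟨h, hh⟩ := MulAction.exists_smul_eq H SH Q
        obtain ⟨s, hs, hsy'⟩ : (⟨y, hyH⟩ : H) ∈ ((h • SH : Sylow p H) : Subgroup H) := hh.symm ▸ hQ (Subgroup.mem_zpowers _)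
        have hsG : ((s : H) : G) ∈ (S : Subgroup G) := hs
        have hyeq : (h : G) * (s : H) * (h : G)⁻¹ = y := congrArg Subtype.val hsy'
        have hso : orderOf ((s : H) : G) = p := by
          rw [← hyo, ← hyeq]
          exact (orderOf_injective (MulAut.conj (h : G)).toMonoidHom (MulAut.conj (h : G)).injective _).symm
        have h1 := hcR (h : G) _ _ (hadj _ (Subgroup.zpowers_le.2 hsG) (hz _ hso).1 (hz _ hso).2)
        have e : cj (h : G) (Subgroup.zpowers ((s : H) : G)) = Subgroup.zpowers y := by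
          show (Subgroup.zpowers _).map _ = _
          rw [MonoidHom.map_zpowers]
          exact congrArg Subgroup.zpowers hyeq
        rw [e] at h1
        exact (Relation.ReflTransGen.single h1).trans h.2
      obtain ⟨y, hy⟩ := exists_prime_orderOf_dvd_card' p hd
      obtain ⟨hyH, w, hwH, hwy⟩ := y.2
      have hwy' : g * w * g⁻¹ = (y : G) := hwy
      have hyo : orderOf (y : G) = p := by rw [Subgroup.orderOf_coe, hy]
      have hwo : orderOf w = p := by
        rw [← hyo, ← hwy']
        exact (orderOf_injective (MulAut.conj g).toMonoidHom (MulAut.conj g).injective w).symm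
      have h1 := hcT g _ _ (hinH w hwH hwo)
      have e : cj g (Subgroup.zpowers w) = Subgroup.zpowers (y : G) := by
        show (Subgroup.zpowers _).map _ = _
        rw [MonoidHom.map_zpowers]
        exact congrArg Subgroup.zpowers hwy'
      rw [e] at h1
      exact (hsy _ _ h1).trans (hinH _ hyH hyo)

end Cfsg.Agent.S1336
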