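import Cfsg.Statements.S1337
import Cfsg.Agent.Inv.NormalFour
import Cfsg.Agent.Solv.RankTwoNormal
import Cfsg.Agent.Solv.NormalSquare

set_option autoImplicit false
open Cfsg

namespace Cfsg.Agent.S1337

/-- Let P be a finite p-group of p-rank greater than 2. Then P has a normal elementary abelian subgroup U of order p², and for every elementary abelian X ≤ P with |X| ≥ p²: X is joined to U by a chain of pairwise commuting elementary abelian subgroups of order ≥ p² if and only if C_P(X) has p-rank greater than 2. -/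
theorem result {P : Type*} [Group P] [Finite P] (p : ℕ) [Fact p.Prime] (hP : IsPGroup p P) (hrk : ¬ Cfsg.PRankLE p 2 P) : ∃ U : Subgroup P, U.Normal ∧ Cfsg.IsElementaryAbelian p U ∧ Nat.card ↥U = p ^ 2 ∧ ∀ X : Subgroup P, Cfsg.IsElementaryAbelian p X → p ^ 2 ≤ Nat.card ↥X → (Relation.ReflTransGen (fun A B : Subgroup P => Cfsg.IsElementaryAbelian p A ∧ p ^ 2 ≤ Nat.card ↥A ∧ Cfsg.IsElementaryAbelian p B ∧ p ^ 2 ≤ Nat.card ↥B ∧ ∀ a ∈ A, ∀ b ∈ B, a * b = b * a) X U ↔ ¬ Cfsg.PRankLE p 2 ↥(Subgroup.centralizer (X : Set P))) := by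
  classical
  simp only [Cfsg.PRankLE, not_forall, not_le] at hrk
  obtain ⟨F, hF, hFp, hFc⟩ := hrk
  have hFcomm : ∀ a ∈ F, ∀ b ∈ F, a * b = b * a := fun a ha b hb =>
    congrArg Subtype.val (hF.is_comm.comm ⟨a, ha⟩ ⟨b, hb⟩)
  obtain ⟨U, hUn, hUe, hUc⟩ : ∃ U : Subgroup P, U.Normal ∧ Cfsg.IsElementaryAbelian p U ∧ Nat.card ↥U = p ^ 2 := by
    by_cases hp2 : p = 2
    · subst hp2
      obtain ⟨k, hk⟩ := IsPGroup.iff_card.1 (hP.to_subgroup F)
      have h3 : 3 ≤ k := by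
        rw [hk] at hFc
        exact (Nat.pow_lt_pow_iff_right (by norm_num)).1 hFc
      obtain ⟨E, hEn, hEF⟩ := Sylow.exists_subgroup_card_pow_prime_le 2
        (hk ▸ pow_dvd_pow 2 h3 : 2 ^ 3 ∣ Nat.card F) (⊥ : Subgroup ↥F) (n := 0) (by simp) (Nat.zero_le 3)
      obtain ⟨U, hUn, hU4, hU2⟩ := CfsgLib.Inv.exists_normal_four_of_eight hP (E := E.map F.subtype)
        (by rw [Subgroup.card_map_of_injective F.subtype_injective, hEn]; norm_num)
        (fun e he => by obtain ⟨w, -, rfl⟩ := he; exact hFp w w.2)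
      refine ⟨U, hUn, ⟨⟨⟨fun a b => Subtype.ext ?_⟩⟩, hU2⟩, by rw [hU4]; norm_num⟩
      have hi : ∀ w ∈ U, w⁻¹ = w := fun w hw => inv_eq_of_mul_eq_one_right (by rw [← pow_two]; exact hU2 w hw)
      calc (a : P) * b = ((a : P) * b)⁻¹ := (hi _ (U.mul_mem a.2 b.2)).symm
        _ = (b : P) * a := by rw [mul_inv_rev, hi _ a.2, hi _ b.2]
    · have hnc : ¬ IsCyclic ↥(⊤ : Subgroup P) := fun h => by
        haveI : IsCyclic P := Subgroup.topEquiv.isCyclic.1 h
        haveI : IsCyclic F := Subgroup.isCyclic F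
        rw [← IsCyclic.exponent_eq_card] at hFc
        have h1 : Monoid.exponent ↥F ≤ p := Nat.le_of_dvd (Fact.out : p.Prime).pos
          (Monoid.exponent_dvd_of_forall_pow_eq_one fun x => Subtype.ext (hFp x x.2))
        exact absurd (h1.trans (Nat.le_self_pow two_ne_zero p)) (not_le.2 hFc)
      obtain ⟨A, -, hAn, hAe, hAc⟩ := CfsgLib.Solv.exists_normal_rank_two_le hp2 hP ⊤ hnc
      exact ⟨A, hAn, hAe, hAc⟩
  haveI := hUn
  have helem : ∀ A B : Subgroup P, Cfsg.IsElementaryAbelian p A → Cfsg.IsElementaryAbelian p B →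
      (∀ a ∈ A, ∀ b ∈ B, a * b = b * a) → Cfsg.IsElementaryAbelian p (A ⊔ B) := by
    intro A B hA hB hAB
    have hAc : ∀ a ∈ A, ∀ b ∈ A, a * b = b * a := fun a ha b hb =>
      congrArg Subtype.val (hA.1.is_comm.comm ⟨a, ha⟩ ⟨b, hb⟩)
    have hBc : ∀ a ∈ B, ∀ b ∈ B, a * b = b * a := fun a ha b hb =>
      congrArg Subtype.val (hB.1.is_comm.comm ⟨a, ha⟩ ⟨b, hb⟩)
    have h1 : A ⊔ B ≤ Subgroup.centralizer (((A ⊔ B : Subgroup P)) : Set P) := by
      have hA1 : A ⊔ B ≤ Subgroup.centralizer (A : Set P) := sup_le (fun x hx y hy => hAc y hy x hx)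
        (fun x hx y hy => hAB y hy x hx)
      have hB1 : A ⊔ B ≤ Subgroup.centralizer (B : Set P) := sup_le (fun x hx y hy => (hAB x hx y hy).symm)
        (fun x hx y hy => hBc y hy x hx)
      refine Subgroup.le_centralizer_iff.2 (sup_le (Subgroup.le_centralizer_iff.1 hA1) (Subgroup.le_centralizer_iff.1 hB1))
    refine ⟨⟨⟨fun a b => Subtype.ext (h1 b.2 a a.2)⟩⟩, fun x hx => ?_⟩
    have hx' := hx
    rw [Subgroup.sup_eq_closure] at hx'
    induction hx' using Subgroup.closure_induction with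
    | mem u hu => exact hu.elim (hA.2 u) (hB.2 u)
    | one => exact one_pow p
    | mul a b ha hb iha ihb =>
      rw [← Subgroup.sup_eq_closure] at ha hb
      rw [(show Commute a b from h1 hb a ha).mul_pow, iha ha, ihb hb, one_mul]
    | inv a ha iha =>
      rw [← Subgroup.sup_eq_closure] at ha
      rw [inv_pow, iha ha, inv_one]
  have hmk : ∀ X M : Subgroup P, Cfsg.IsElementaryAbelian p M → M ≤ Subgroup.centralizer (X : Set P) →
      p ^ 2 < Nat.card ↥M → ¬ Cfsg.PRankLE p 2 ↥(Subgroup.centralizer (X : Set P)) := by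
    intro X M hM hMC hc h
    have := h (M.subgroupOf (Subgroup.centralizer (X : Set P)))
      ⟨⟨fun a b => Subtype.ext (Subtype.ext (congrArg (fun w : ↥M => (w : P))
        (hM.1.is_comm.comm ⟨_, Subgroup.mem_subgroupOf.1 a.2⟩ ⟨_, Subgroup.mem_subgroupOf.1 b.2⟩)))⟩⟩
      (fun a ha => Subtype.ext (hM.2 _ (Subgroup.mem_subgroupOf.1 ha)))
    rw [Nat.card_congr (Subgroup.subgroupOfEquivOfLe hMC).toEquiv] at this
    omega
  have hhalf : ∀ E : Subgroup P, p ^ 2 < Nat.card ↥E →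
      p ^ 2 ≤ Nat.card ↥(E ⊓ Subgroup.centralizer (U : Set P)) := by
    intro E hE
    obtain ⟨k, hk⟩ := IsPGroup.iff_card.1 (hP.to_subgroup E)
    obtain ⟨j, hj⟩ := IsPGroup.iff_card.1 (hP.to_subgroup (E ⊓ Subgroup.centralizer (U : Set P)))
    have h1 : Nat.card ↥E ≤ p * Nat.card ↥(E ⊓ Subgroup.centralizer (U : Set P)) := by
      rw [← Nat.card_congr (Subgroup.subgroupOfEquivOfLe (inf_le_left : E ⊓ Subgroup.centralizer (U : Set P) ≤ E)).toEquiv,
        Subgroup.inf_subgroupOf_left, ← Subgroup.index_mul_card ((Subgroup.centralizer (U : Set P)).subgroupOf E)]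
      refine Nat.mul_le_mul_right _ (Nat.le_of_dvd (Fact.out : p.Prime).pos ?_)
      exact (Subgroup.relIndex_dvd_index_of_normal _ E).trans (CfsgLib.Solv.index_centralizer_normal_sq hP U hUc)
    have hp1 := (Fact.out : p.Prime).one_lt
    rw [hk] at hE h1
    rw [hj] at h1 ⊢
    have h3 : 3 ≤ k := (Nat.pow_lt_pow_iff_right hp1).1 hE
    refine Nat.pow_le_pow_right (by omega) ?_
    rw [← pow_succ'] at h1
    have := (Nat.pow_le_pow_iff_right hp1).1 h1
    omega
  have hUrank : ¬ Cfsg.PRankLE p 2 ↥(Subgroup.centralizer (U : Set P)) := by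
    have hW := hhalf F hFc
    set W := F ⊓ Subgroup.centralizer (U : Set P) with hWdef
    have hWe : Cfsg.IsElementaryAbelian p W := ⟨⟨⟨fun a b => Subtype.ext (hFcomm a a.2.1 b b.2.1)⟩⟩, fun w hw => hFp w hw.1⟩
    have hUW := helem U W hUe hWe fun u hu w hw => hw.2 u hu
    by_cases hle : W ≤ U
    · have hUF : U ≤ F := (Subgroup.eq_of_le_of_card_ge hle (hUc ▸ hW)).ge.trans inf_le_left
      exact hmk U F ⟨hF, hFp⟩ (fun f hf u hu => hFcomm u (hUF hu) f hf) hFc
    · refine hmk U (U ⊔ W) hUW (sup_le (fun a ha b hb => congrArg Subtype.val (hUe.1.is_comm.comm ⟨b, hb⟩ ⟨a, ha⟩))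
        inf_le_right) ?_
      rw [← hUc]
      exact lt_of_not_ge fun hge => hle ((Subgroup.eq_of_le_of_card_ge le_sup_left hge).symm ▸ le_sup_right)
  refine ⟨U, hUn, hUe, hUc, fun X hX hXc => ⟨fun hch => ?_, fun hr => ?_⟩⟩
  · induction hch using Relation.ReflTransGen.head_induction_on with
    | refl => exact hUrank
    | @head A B hAB hrest ih =>
      obtain ⟨hA, hAc, hB, hBc, hcomm⟩ := hAB
      by_cases heq : A = B
      · exact heq ▸ ih hB hBc
      refine hmk A (A ⊔ B) (helem A B hA hB hcomm)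
        (sup_le (fun a ha b hb => congrArg Subtype.val (hA.1.is_comm.comm ⟨b, hb⟩ ⟨a, ha⟩))
          fun b hb a ha => hcomm a ha b hb) ?_
      refine lt_of_not_ge fun hge => heq ?_
      have e1 : A = A ⊔ B := Subgroup.eq_of_le_of_card_ge le_sup_left (hge.trans hAc)
      have e2 : B = A ⊔ B := Subgroup.eq_of_le_of_card_ge le_sup_right (hge.trans hBc)
      exact e1.trans e2.symm
  · set C := Subgroup.centralizer (X : Set P) with hC
    simp only [Cfsg.PRankLE, not_forall, not_le] at hr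
    obtain ⟨E₀, hE₀, hE₀p, hE₀c⟩ := hr
    set E := E₀.map C.subtype with hE
    have hEc : Nat.card ↥E = Nat.card ↥E₀ := Subgroup.card_map_of_injective C.subtype_injective
    have hEe : Cfsg.IsElementaryAbelian p E := by
      refine ⟨⟨⟨?_⟩⟩, ?_⟩
      · rintro ⟨_, a, ha, rfl⟩ ⟨_, b, hb, rfl⟩
        exact Subtype.ext (congrArg (fun w : ↥E₀ => ((w : ↥C) : P)) (hE₀.is_comm.comm ⟨a, ha⟩ ⟨b, hb⟩))
      · rintro _ ⟨a, ha, rfl⟩
        exact congrArg Subtype.val (hE₀p a ha)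
    have hW := hhalf E (hEc.symm ▸ hE₀c)
    set W := E ⊓ Subgroup.centralizer (U : Set P) with hWdef
    have hWe : Cfsg.IsElementaryAbelian p W := ⟨⟨⟨fun a b => Subtype.ext
      (congrArg (fun w : ↥E => (w : P)) (hEe.1.is_comm.comm ⟨a, a.2.1⟩ ⟨b, b.2.1⟩))⟩⟩, fun w hw => hEe.2 w hw.1⟩
    refine Relation.ReflTransGen.head ⟨hX, hXc, hEe, by omega, ?_⟩
      (Relation.ReflTransGen.head ⟨hEe, by omega, hWe, hW, fun a ha b hb =>
        congrArg Subtype.val (hEe.1.is_comm.comm ⟨a, ha⟩ ⟨b, hb.1⟩)⟩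
        (Relation.ReflTransGen.single ⟨hWe, hW, hUe, hUc.ge, fun a ha b hb => (ha.2 b hb).symm⟩))
    rintro a ha _ ⟨c, -, rfl⟩
    exact c.2 a ha

end Cfsg.Agent.S1337
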