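import Cfsg.Statements.S1339
import Cfsg.Agent.Inv.CharPLocal
import Mathlib.LinearAlgebra.Matrix.Transvection

set_option autoImplicit false
open Cfsg

namespace Cfsg.Agent.S1339

/-- Let F be a field with 2 elements, n ≥ 3, and t ∈ SL(n, F) a transvection (t = 1 + E_{ij}, i ≠ j). Then the generalized Fitting subgroup of C(t) is O_2(C(t)). -/
theorem result {F : Type*} [Field F] [Fintype F] [DecidableEq F] (hF : Fintype.card F = 2) (n : ℕ) (hn : 3 ≤ n) (i j : Fin n) (hij : i ≠ j) (t : Matrix.SpecialLinearGroup (Fin n) F) (ht : (t : Matrix (Fin n) (Fin n) F) = Matrix.transvection i j 1) : Cfsg.generalizedFittingSubgroup ↥(Subgroup.centralizer ({t} : Set (Matrix.SpecialLinearGroup (Fin n) F))) = Cfsg.pCore 2 ↥(Subgroup.centralizer ({t} : Set (Matrix.SpecialLinearGroup (Fin n) F))) := by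
  classical
  haveI : Fact (Nat.Prime 2) := ⟨Nat.prime_two⟩
  have h01 : ∀ a : F, a = 0 ∨ a = 1 := fun a => by
    by_contra h
    push Not at h
    have : ({0, 1, a} : Finset F).card = 3 := by
      rw [Finset.card_insert_of_notMem (by simp [h.1.symm]), Finset.card_insert_of_notMem (by simp [h.2.symm]),
        Finset.card_singleton]
    have := Finset.card_le_univ ({0, 1, a} : Finset F)
    omega
  have h2 : (1 : F) + 1 = 0 := by
    rcases h01 (1 + 1) with h | h
    · exact h
    · exact absurd (add_eq_left.1 h) (one_ne_zero (α := F))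
  set C := Subgroup.centralizer ({t} : Set (Matrix.SpecialLinearGroup (Fin n) F))
  -- the entries forced by commuting with the transvection
  have hC : ∀ g : ↥C, (∀ k, (g.1 : Matrix (Fin n) (Fin n) F) k i = (1 : Matrix (Fin n) (Fin n) F) k i) ∧
      ∀ l, (g.1 : Matrix (Fin n) (Fin n) F) j l = (1 : Matrix (Fin n) (Fin n) F) j l := by
    intro g
    have h := congrArg (fun x : Matrix.SpecialLinearGroup (Fin n) F => (x : Matrix (Fin n) (Fin n) F))
      (Subgroup.mem_centralizer_singleton_iff.1 g.2)
    simp only [Matrix.SpecialLinearGroup.coe_mul, ht, Matrix.transvection, mul_add, add_mul, mul_one, one_mul,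
      add_right_inj] at h
    have hki : ∀ k, k ≠ i → (g.1 : Matrix (Fin n) (Fin n) F) k i = 0 := fun k hk => by
      have := congrFun (congrFun h k) j
      simpa [hk] using this
    have hjl : ∀ l, l ≠ j → (g.1 : Matrix (Fin n) (Fin n) F) j l = 0 := fun l hl => by
      have := congrFun (congrFun h i) l
      simpa [hl] using this.symm
    have hii : (g.1 : Matrix (Fin n) (Fin n) F) i i = (g.1 : Matrix (Fin n) (Fin n) F) j j := by
      have := congrFun (congrFun h i) j
      simpa using this
    have hc : (g.1 : Matrix (Fin n) (Fin n) F) i i = 1 := by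
      refine (h01 _).resolve_left fun h0 => ?_
      have hd : ((g.1 : Matrix (Fin n) (Fin n) F)).det = 0 :=
        Matrix.det_eq_zero_of_column_eq_zero i fun k => by
          by_cases hk : k = i
          · rw [hk]; exact h0
          · exact hki k hk
      rw [g.1.2] at hd
      exact one_ne_zero hd
    refine ⟨fun k => ?_, fun l => ?_⟩
    · by_cases hk : k = i
      · subst hk; simpa using hc
      · simp [hk, hki k hk]
    · by_cases hl : l = j
      · subst hl; simpa [hii] using hc
      · simp [Ne.symm hl, hjl l hl]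
  let ok : ↥C → Prop := fun g => ∀ k l, k ≠ i → l ≠ j →
    (g.1 : Matrix (Fin n) (Fin n) F) k l = (1 : Matrix (Fin n) (Fin n) F) k l
  have hleft : ∀ g c : ↥C, ok g → ∀ k l, k ≠ i → l ≠ j →
      ((g * c).1 : Matrix (Fin n) (Fin n) F) k l = (c.1 : Matrix (Fin n) (Fin n) F) k l := by
    intro g c hg k l hk hl
    show ((g.1 : Matrix (Fin n) (Fin n) F) * (c.1 : Matrix (Fin n) (Fin n) F)) k l = _
    conv_rhs => rw [← one_mul (c.1 : Matrix (Fin n) (Fin n) F)]
    rw [Matrix.mul_apply, Matrix.mul_apply]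
    refine Finset.sum_congr rfl fun m _ => ?_
    by_cases hm : m = j
    · subst hm; rw [(hC c).2, Matrix.one_apply_ne (Ne.symm hl), mul_zero, mul_zero]
    · rw [hg k m hk hm]
  have hright : ∀ c g : ↥C, ok g → ∀ k l, k ≠ i → l ≠ j →
      ((c * g).1 : Matrix (Fin n) (Fin n) F) k l = (c.1 : Matrix (Fin n) (Fin n) F) k l := by
    intro c g hg k l hk hl
    show ((c.1 : Matrix (Fin n) (Fin n) F) * (g.1 : Matrix (Fin n) (Fin n) F)) k l = _
    conv_rhs => rw [← mul_one (c.1 : Matrix (Fin n) (Fin n) F)]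
    rw [Matrix.mul_apply, Matrix.mul_apply]
    refine Finset.sum_congr rfl fun m _ => ?_
    by_cases hm : m = i
    · subst hm; rw [(hC c).1, Matrix.one_apply_ne hk, zero_mul, zero_mul]
    · rw [hg m l hm hl]
  let U : Subgroup ↥C :=
    { carrier := {g | ok g}
      one_mem' := fun k l _ _ => by simp
      mul_mem' := fun {g c} hg hc k l hk hl => (hleft g c hg k l hk hl).trans (hc k l hk hl)
      inv_mem' := fun {g} hg k l hk hl => by
        have h := hleft g g⁻¹ hg k l hk hl
        rw [mul_inv_cancel] at h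
        exact h.symm.trans (by simp) }
  have hUn : U.Normal := ⟨fun g hg c k l hk hl => by
    show ((c * g * c⁻¹).1 : Matrix (Fin n) (Fin n) F) k l = _
    rw [show c * g * c⁻¹ = (c * g) * c⁻¹ from rfl]
    show (((c * g).1 : Matrix (Fin n) (Fin n) F) * ((c⁻¹).1 : Matrix (Fin n) (Fin n) F)) k l = _
    have h := congrArg (fun x : ↥C => (x.1 : Matrix (Fin n) (Fin n) F) k l) (mul_inv_cancel c)
    simp only [Subgroup.coe_mul, Matrix.SpecialLinearGroup.coe_mul, Subgroup.coe_one,
      Matrix.SpecialLinearGroup.coe_one] at h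
    rw [← h, Matrix.mul_apply, Matrix.mul_apply]
    refine Finset.sum_congr rfl fun m _ => ?_
    by_cases hm : m = j
    · subst hm; rw [(hC c⁻¹).2, Matrix.one_apply_ne (Ne.symm hl), mul_zero, mul_zero]
    · rw [hright c g hg k m hk hm]⟩
  have hU2 : IsPGroup 2 ↥U := by
    rintro ⟨g, hg⟩
    refine ⟨2, ?_⟩
    refine Subtype.ext (Subtype.ext (Subtype.ext ?_))
    show ((g.1 ^ 2 ^ 2 : Matrix.SpecialLinearGroup (Fin n) F) : Matrix (Fin n) (Fin n) F) = 1
    rw [Matrix.SpecialLinearGroup.coe_pow]
    set M := (g.1 : Matrix (Fin n) (Fin n) F) with hM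
    set x := M - 1 with hx
    have hx0 : ∀ k l, k ≠ i → l ≠ j → x k l = 0 := fun k l hk hl => by
      rw [hx, Matrix.sub_apply, hM, hg k l hk hl, sub_self]
    have hxi : ∀ k, x k i = 0 := fun k => by rw [hx, Matrix.sub_apply, hM, (hC g).1, sub_self]
    have hxj : ∀ l, x j l = 0 := fun l => by rw [hx, Matrix.sub_apply, hM, (hC g).2, sub_self]
    have hxx : ∀ k l, k ≠ i → (x * x) k l = 0 := fun k l hk => by
      rw [Matrix.mul_apply]
      refine Finset.sum_eq_zero fun m _ => ?_
      by_cases hm : m = j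
      · rw [hm, hxj, mul_zero]
      · rw [hx0 k m hk hm, zero_mul]
    have hx4 : x * x * (x * x) = 0 := by
      ext k l
      rw [Matrix.mul_apply, Matrix.zero_apply]
      refine Finset.sum_eq_zero fun m _ => ?_
      by_cases hm : m = i
      · have : (x * x) k m = 0 := by
          rw [hm, Matrix.mul_apply]
          exact Finset.sum_eq_zero fun q _ => by rw [hxi, mul_zero]
        rw [this, zero_mul]
      · rw [hxx m l hm, mul_zero]
    have htwo : ∀ y : Matrix (Fin n) (Fin n) F, y + y = 0 := fun y => by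
      ext k l
      rw [Matrix.add_apply, Matrix.zero_apply, ← mul_one (y k l), ← mul_add, h2, mul_zero]
    have hsq : ∀ y : Matrix (Fin n) (Fin n) F, (1 + y) * (1 + y) = 1 + y * y := fun y => by
      rw [mul_add, add_mul, add_mul, one_mul, one_mul, mul_one, show 1 + y + (y + y * y) = 1 + (y + y) + y * y by abel,
        htwo, add_zero]
    rw [show M = 1 + x by rw [hx]; abel, show (2 : ℕ) ^ 2 = 2 * 2 by norm_num, pow_mul, pow_two, pow_two, hsq,
      hsq, hx4, add_zero]
  refine CfsgLib.Inv.genFitting_eq_pCore_iff.2 ?_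
  have hUle : U ≤ Cfsg.pCore 2 ↥C := CfsgLib.Solv.le_pCore (hN := hUn) hU2
  refine le_trans ?_ hUle
  refine le_trans (Subgroup.centralizer_le (show (U : Set ↥C) ⊆ (Cfsg.pCore 2 ↥C : Set ↥C) from hUle)) ?_
  intro g hg k l hk hl
  by_cases hkj : k = j
  · subst hkj; exact (hC g).2 l
  have hu1 : Matrix.det (Matrix.transvection i k (1 : F)) = 1 :=
    Matrix.det_transvection_of_ne i k (Ne.symm hk) 1
  obtain ⟨u, hu⟩ : ∃ u : Matrix.SpecialLinearGroup (Fin n) F,
      (u : Matrix (Fin n) (Fin n) F) = Matrix.transvection i k 1 := ⟨⟨_, hu1⟩, rfl⟩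
  have huC : u ∈ C := by
    rw [Subgroup.mem_centralizer_singleton_iff]
    refine Subtype.ext ?_
    simp only [Matrix.SpecialLinearGroup.coe_mul, ht, hu]
    simp [Matrix.transvection, mul_add, add_mul, Matrix.single_mul_single_of_ne, hk, Ne.symm hk, hij, Ne.symm hij]
    abel
  have huU : (⟨_, huC⟩ : ↥C) ∈ U := fun a b ha _ => by
    show (u : Matrix (Fin n) (Fin n) F) a b = _
    rw [hu]
    simp [Matrix.transvection, Ne.symm ha]
  have h : Matrix.transvection i k (1 : F) * (g.1 : Matrix (Fin n) (Fin n) F) =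
      (g.1 : Matrix (Fin n) (Fin n) F) * Matrix.transvection i k (1 : F) :=
    hu ▸ congrArg (fun x : ↥C => (x.1 : Matrix (Fin n) (Fin n) F)) (Subgroup.mem_centralizer_iff.1 hg _ huU)
  simp only [Matrix.transvection, mul_add, add_mul, mul_one, one_mul, add_right_inj] at h
  have h' := congrFun (congrFun h i) l
  by_cases hlk : l = k
  · subst hlk
    simp at h'
    simpa [(hC g).1] using h'
  · simp [hlk] at h'
    simpa [Ne.symm hlk] using h'

end Cfsg.Agent.S1339
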