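import Cfsg.Statements.S1340
import Cfsg.Agent.Lie.SLn
import Cfsg.Agent.Solv.CompBalance

set_option autoImplicit false
open Cfsg

namespace Cfsg.Agent.S1340


open Matrix

variable {F : Type*} [Field F] {m : ℕ}

def bd (A : Matrix (Fin m) (Fin m) F) : Matrix (Fin (m + 1)) (Fin (m + 1)) F :=
  Matrix.of fun i j => Fin.cases (Fin.cases 1 (fun _ => 0) j) (fun i' => Fin.cases 0 (A i') j) i

@[simp] theorem bd_zz (A : Matrix (Fin m) (Fin m) F) : bd A 0 0 = 1 := rfl
@[simp] theorem bd_zs (A : Matrix (Fin m) (Fin m) F) (j : Fin m) : bd A 0 j.succ = 0 := by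
  simp [bd]
@[simp] theorem bd_sz (A : Matrix (Fin m) (Fin m) F) (i : Fin m) : bd A i.succ 0 = 0 := by
  simp [bd]
@[simp] theorem bd_ss (A : Matrix (Fin m) (Fin m) F) (i j : Fin m) : bd A i.succ j.succ = A i j := by
  simp [bd]

theorem bd_one : bd (1 : Matrix (Fin m) (Fin m) F) = 1 := by
  ext i j
  induction i using Fin.cases <;> induction j using Fin.cases <;>
    simp [Matrix.one_apply, Fin.succ_ne_zero, (Fin.succ_ne_zero _).symm]

theorem bd_mul (A B : Matrix (Fin m) (Fin m) F) : bd (A * B) = bd A * bd B := by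
  ext i j
  induction i using Fin.cases <;> induction j using Fin.cases <;>
    simp [Matrix.mul_apply, Fin.sum_univ_succ]

theorem det_bd (A : Matrix (Fin m) (Fin m) F) : (bd A).det = A.det := by
  have h : (bd A).submatrix Fin.succ Fin.succ = A := by
    ext i j
    simp
  rw [Matrix.det_succ_row_zero]
  simp [Fin.sum_univ_succ, h]

theorem bd_sub {g : Matrix (Fin (m + 1)) (Fin (m + 1)) F} (h0 : g 0 0 = 1)
    (hr : ∀ j : Fin m, g 0 j.succ = 0) (hc : ∀ i : Fin m, g i.succ 0 = 0) :
    bd (g.submatrix Fin.succ Fin.succ) = g := by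
  ext i j
  induction i using Fin.cases <;> induction j using Fin.cases <;> simp [*]

def bdHom : SpecialLinearGroup (Fin m) F →* GL (Fin (m + 1)) F :=
  MonoidHom.toHomUnits
    { toFun := fun A => bd A.1
      map_one' := bd_one
      map_mul' := fun A B => bd_mul A.1 B.1 }

theorem bdHom_coe (A : SpecialLinearGroup (Fin m) F) : ((bdHom A : GL (Fin (m + 1)) F) :
    Matrix (Fin (m + 1)) (Fin (m + 1)) F) = bd A.1 := rfl

theorem bdHom_injective : Function.Injective (bdHom (F := F) (m := m)) := by
  intro A B h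
  have h' : bd A.1 = bd B.1 := by rw [← bdHom_coe, ← bdHom_coe, h]
  ext i j
  simpa using congrFun₂ h' i.succ j.succ

def dia (m : ℕ) (F : Type*) [Field F] : Fin (m + 1) → F := Fin.cases (-1) fun _ => 1

theorem dia_sq : Matrix.diagonal (dia m F) * Matrix.diagonal (dia m F) = 1 := by
  rw [Matrix.diagonal_mul_diagonal, ← Matrix.diagonal_one]
  congr 1
  funext i
  induction i using Fin.cases <;> simp [dia]

def invol (m : ℕ) (F : Type*) [Field F] : GL (Fin (m + 1)) F :=
  ⟨Matrix.diagonal (dia m F), Matrix.diagonal (dia m F), dia_sq, dia_sq⟩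

theorem mem_cent_entries (h2 : (2 : F) ≠ 0) {g : GL (Fin (m + 1)) F}
    (hg : g ∈ Subgroup.centralizer ({invol m F} : Set (GL (Fin (m + 1)) F))) (j : Fin m) :
    (g : Matrix (Fin (m + 1)) (Fin (m + 1)) F) 0 j.succ = 0 ∧
      (g : Matrix (Fin (m + 1)) (Fin (m + 1)) F) j.succ 0 = 0 := by
  have h : Matrix.diagonal (dia m F) * (g : Matrix (Fin (m + 1)) (Fin (m + 1)) F) =
      (g : Matrix (Fin (m + 1)) (Fin (m + 1)) F) * Matrix.diagonal (dia m F) :=
    congrArg Units.val (Subgroup.mem_centralizer_singleton_iff.1 hg).symm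
  constructor
  · have h' := congrFun₂ h 0 j.succ
    simp only [Matrix.diagonal_mul, Matrix.mul_diagonal, dia, Fin.cases_zero, Fin.cases_succ] at h'
    refine (mul_eq_zero.1 (?_ : (2 : F) * _ = 0)).resolve_left h2
    linear_combination -h'
  · have h' := congrFun₂ h j.succ 0
    simp only [Matrix.diagonal_mul, Matrix.mul_diagonal, dia, Fin.cases_zero, Fin.cases_succ] at h'
    refine (mul_eq_zero.1 (?_ : (2 : F) * _ = 0)).resolve_left h2
    linear_combination h'

theorem bdHom_mem (A : SpecialLinearGroup (Fin m) F) :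
    bdHom A ∈ Subgroup.centralizer ({invol m F} : Set (GL (Fin (m + 1)) F)) := by
  rw [Subgroup.mem_centralizer_singleton_iff]
  apply Units.ext
  ext i j
  show (bd A.1 * Matrix.diagonal (dia m F)) i j = (Matrix.diagonal (dia m F) * bd A.1) i j
  induction i using Fin.cases <;> induction j using Fin.cases <;> simp [dia]


/-- Let F be a finite field of odd order and n ≥ 3 with (n, |F|) ≠ (3, 3). Then GL(n, F) has a non-central involution t such that C(t) / O(C(t)) has a component. -/
theorem result {F : Type*} [Field F] [Fintype F] [DecidableEq F] (hF : Odd (Fintype.card F)) (n : ℕ) (hn : 3 ≤ n) (h33 : ¬ (n = 3 ∧ Fintype.card F = 3)) : ∃ t : Matrix.GeneralLinearGroup (Fin n) F, orderOf t = 2 ∧ t ∉ Subgroup.center (Matrix.GeneralLinearGroup (Fin n) F) ∧ Cfsg.HasComponent (↥(Subgroup.centralizer ({t} : Set (Matrix.GeneralLinearGroup (Fin n) F))) ⧸ Cfsg.oddCore ↥(Subgroup.centralizer ({t} : Set (Matrix.GeneralLinearGroup (Fin n) F)))) := by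
  obtain ⟨m, rfl⟩ : ∃ m, n = m + 1 := ⟨n - 1, by omega⟩
  have hm2 : 2 ≤ m := by omega
  have hchar : ringChar F ≠ 2 := fun h => by
    have h2 := FiniteField.even_card_of_char_two (F := F) h
    rw [Nat.odd_iff] at hF
    omega
  have h2 : (2 : F) ≠ 0 := Ring.two_ne_zero hchar
  have hne : (-1 : F) ≠ 1 := Ring.neg_one_ne_one_of_char_ne_two hchar
  set t := invol m F with ht
  set H := Subgroup.centralizer ({t} : Set (GL (Fin (m + 1)) F)) with hH
  have hord : orderOf t = 2 := by
    have htt : t ^ 2 = 1 := by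
      rw [pow_two]
      exact Units.ext dia_sq
    refine orderOf_eq_prime htt fun h => hne ?_
    have h0 : (t : Matrix (Fin (m + 1)) (Fin (m + 1)) F) = 1 := congrArg Units.val h
    have h' := congrFun₂ h0 0 0
    rw [ht] at h'
    change Matrix.diagonal (dia m F) 0 0 = (1 : Matrix (Fin (m + 1)) (Fin (m + 1)) F) 0 0 at h'
    rwa [Matrix.diagonal_apply_eq, Matrix.one_apply_eq] at h'
  refine ⟨t, hord, fun hz => ?_, ?_⟩
  · have hv : (Matrix.transvection (0 : Fin (m + 1)) (Fin.succ ⟨0, by omega⟩) (1 : F)).det = 1 :=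
      Matrix.det_transvection_of_ne _ _ (Fin.succ_ne_zero _).symm 1
    let g : GL (Fin (m + 1)) F := Matrix.GeneralLinearGroup.mkOfDetNeZero _ (by rw [hv]; exact one_ne_zero)
    have hg : g ∈ Subgroup.centralizer ({t} : Set (GL (Fin (m + 1)) F)) :=
      Subgroup.mem_centralizer_singleton_iff.2 (Subgroup.mem_center_iff.1 hz g)
    have := (mem_cent_entries h2 hg ⟨0, by omega⟩).1
    simp [g, Matrix.GeneralLinearGroup.mkOfDetNeZero, Matrix.transvection, Matrix.one_apply,
      (Fin.succ_ne_zero _).symm] at this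
  · have hcond : 3 ≤ Fintype.card (Fin m) ∨ ∃ a : F, a ≠ 0 ∧ a ^ 2 ≠ 1 := by
      rcases Nat.lt_or_ge m 3 with hm | hm
      · refine Or.inr ?_
        by_contra hc
        push Not at hc
        have hsub : (Finset.univ : Finset F) ⊆ {0, 1, -1} := by
          intro a _
          by_cases ha : a = 0
          · simp [ha]
          · rcases sq_eq_one_iff.1 (hc a ha) with h | h <;> simp [h]
        have h3 := Finset.card_le_card hsub
        rw [Finset.card_univ] at h3
        have h4 : ({0, 1, -1} : Finset F).card ≤ 3 := by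
          exact (Finset.card_insert_le _ _).trans
            (by simpa using Nat.add_le_add_right (Finset.card_insert_le (1 : F) {-1}) 1)
        have h5 := Fintype.one_lt_card (α := F)
        rw [Nat.odd_iff] at hF
        exact h33 ⟨by omega, by omega⟩
      · exact Or.inl (by rw [Fintype.card_fin]; exact hm)
    haveI : Nontrivial (Fin m) := Fin.nontrivial_iff_two_le.2 hm2
    have hqs : Cfsg.IsQuasisimple (SpecialLinearGroup (Fin m) F) :=
      ⟨⟨CfsgLib.Lie.SLn.commutator_eq_top hcond⟩, CfsgLib.Lie.SLn.isSimpleGroup_PSL hcond⟩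
    let ψ : SpecialLinearGroup (Fin m) F →* H :=
      (bdHom (F := F) (m := m)).codRestrict H bdHom_mem
    have hψinj : Function.Injective ψ := fun A B h => bdHom_injective (congrArg Subtype.val h)
    let χ : H →* F :=
      { toFun := fun g => ((g : GL (Fin (m + 1)) F) : Matrix (Fin (m + 1)) (Fin (m + 1)) F) 0 0
        map_one' := by simp
        map_mul' := fun g h => by
          simp [Matrix.mul_apply, Fin.sum_univ_succ, (mem_cent_entries h2 g.2 _).1] }
    haveI hn : ψ.range.Normal := by
      have : ψ.range = (Matrix.GeneralLinearGroup.det.comp H.subtype).ker ⊓ χ.ker := by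
        ext g
        simp only [MonoidHom.mem_range, Subgroup.mem_inf, MonoidHom.mem_ker]
        constructor
        · rintro ⟨A, rfl⟩
          refine ⟨Units.ext ?_, rfl⟩
          show (bd A.1).det = 1
          rw [det_bd, A.2]
        · rintro ⟨hdet, hχ⟩
          set M := ((g : GL (Fin (m + 1)) F) : Matrix (Fin (m + 1)) (Fin (m + 1)) F) with hM
          have hs : bd (M.submatrix Fin.succ Fin.succ) = M :=
            bd_sub hχ (fun j => (mem_cent_entries h2 g.2 j).1) fun j => (mem_cent_entries h2 g.2 j).2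
          have hd : (M.submatrix Fin.succ Fin.succ).det = 1 := by
            rw [← det_bd, hs]
            exact congrArg Units.val hdet
          exact ⟨⟨_, hd⟩, Subtype.ext (Units.ext hs)⟩
      rw [this]
      exact Subgroup.normal_inf_normal _ _
    set π := QuotientGroup.mk' (Cfsg.oddCore H) with hπ
    refine ⟨(π.comp ψ).range, ?_, ?_⟩
    · rw [MonoidHom.range_comp]
      exact (hn.map π (QuotientGroup.mk'_surjective _)).isSubnormal
    · refine CfsgLib.Solv.CompBal.quasisimple_range hqs _ fun hbot => ?_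
      have hle : ∀ A, ψ A ∈ Cfsg.oddCore H := fun A => by
        rw [← QuotientGroup.eq_one_iff]
        exact Subgroup.mem_bot.1 (hbot ▸ ⟨A, rfl⟩ : π (ψ A) ∈ (⊥ : Subgroup _))
      let dv : Fin m → F := fun k => if k = ⟨0, by omega⟩ ∨ k = ⟨1, by omega⟩ then -1 else 1
      have hdv : (Matrix.diagonal dv).det = 1 := by
        have h01 : (⟨0, by omega⟩ : Fin m) ≠ ⟨1, by omega⟩ := by simp [Fin.ext_iff]
        rw [Matrix.det_diagonal, ← Finset.prod_subset (s₁ := ({⟨0, _⟩, ⟨1, _⟩} : Finset (Fin m)))
          (Finset.subset_univ _) (fun k _ hk => if_neg (by simpa using hk)), Finset.prod_pair h01]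
        simp [dv]
      set A : SpecialLinearGroup (Fin m) F := ⟨Matrix.diagonal dv, hdv⟩ with hA
      have hA2 : orderOf A = 2 := by
        refine orderOf_eq_prime ?_ fun h => hne ?_
        · apply Subtype.ext
          show Matrix.diagonal dv ^ 2 = 1
          rw [Matrix.diagonal_pow, ← Matrix.diagonal_one]
          congr 1
          funext k
          simp only [dv, Pi.pow_apply]
          split_ifs <;> simp
        · have := congrFun₂ (congrArg Subtype.val h) ⟨0, by omega⟩ ⟨0, by omega⟩
          simpa [hA, dv] using this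
      have h1 : orderOf (⟨ψ A, hle A⟩ : Cfsg.oddCore H) = 2 := by
        rw [← Subgroup.orderOf_coe, orderOf_injective ψ hψinj, hA2]
      have h3 := orderOf_dvd_natCard (⟨ψ A, hle A⟩ : Cfsg.oddCore H)
      rw [h1] at h3
      exact CfsgLib.Solv.not_dvd_card_pPrimeCore (p := 2) h3

end Cfsg.Agent.S1340
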