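import Cfsg.Statements.S1348
import Cfsg.Agent.Lie.SLn
import Cfsg.Agent.Inv.Component
import Cfsg.Agent.S1306

set_option autoImplicit false
open Cfsg

namespace Cfsg.Agent.S1348

open Matrix

variable {F : Type*} [Field F] {m : ℕ}

def bl (A : Matrix (Fin m) (Fin m) F) : Matrix (Fin (m + 1)) (Fin (m + 1)) F :=
  Matrix.of fun i j => Fin.lastCases (Fin.lastCases 1 (fun _ => 0) j) (fun i' => Fin.lastCases 0 (A i') j) i

@[simp] theorem bl_ll (A : Matrix (Fin m) (Fin m) F) : bl A (Fin.last m) (Fin.last m) = 1 := by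
  simp [bl]
@[simp] theorem bl_ls (A : Matrix (Fin m) (Fin m) F) (j : Fin m) : bl A (Fin.last m) j.castSucc = 0 := by
  simp [bl]
@[simp] theorem bl_sl (A : Matrix (Fin m) (Fin m) F) (i : Fin m) : bl A i.castSucc (Fin.last m) = 0 := by
  simp [bl]
@[simp] theorem bl_ss (A : Matrix (Fin m) (Fin m) F) (i j : Fin m) :
    bl A i.castSucc j.castSucc = A i j := by
  simp [bl]

theorem bl_one : bl (1 : Matrix (Fin m) (Fin m) F) = 1 := by
  ext i j
  induction i using Fin.lastCases <;> induction j using Fin.lastCases <;>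
    simp [Matrix.one_apply, Fin.castSucc_ne_last, (Fin.castSucc_ne_last _).symm]

theorem bl_mul (A B : Matrix (Fin m) (Fin m) F) : bl (A * B) = bl A * bl B := by
  ext i j
  induction i using Fin.lastCases <;> induction j using Fin.lastCases <;>
    simp [Matrix.mul_apply, Fin.sum_univ_castSucc]

theorem det_bl (A : Matrix (Fin m) (Fin m) F) : (bl A).det = A.det := by
  have h : (bl A).submatrix Fin.castSucc Fin.castSucc = A := by
    ext i j
    simp
  rw [Matrix.det_succ_row _ (Fin.last m)]
  simp [Fin.sum_univ_castSucc, Fin.succAbove_last, h]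

def blHom : SpecialLinearGroup (Fin m) F →* SpecialLinearGroup (Fin (m + 1)) F where
  toFun A := ⟨bl A.1, by rw [det_bl]; exact A.2⟩
  map_one' := Subtype.ext bl_one
  map_mul' A B := Subtype.ext (bl_mul A.1 B.1)

theorem blHom_injective : Function.Injective (blHom (F := F) (m := m)) := by
  intro A B h
  have h' : bl A.1 = bl B.1 := congrArg Subtype.val h
  ext i j
  simpa using congrFun₂ h' i.castSucc j.castSucc

theorem cent_range (hm : 2 ≤ m) {g : SpecialLinearGroup (Fin (m + 1)) F}
    (hg : g ∈ Subgroup.centralizer ((blHom (F := F) (m := m)).range : Set (SpecialLinearGroup (Fin (m + 1)) F))) :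
    (g.1).IsDiag ∧ ∀ i j : Fin m, g.1 i.castSucc i.castSucc = g.1 j.castSucc j.castSucc := by
  have key : ∀ i j : Fin m, i ≠ j → (∀ k : Fin (m + 1), k ≠ i.castSucc → g.1 k i.castSucc = 0) ∧
      (∀ l : Fin (m + 1), l ≠ j.castSucc → g.1 j.castSucc l = 0) ∧
      g.1 i.castSucc i.castSucc = g.1 j.castSucc j.castSucc := by
    intro i j hij
    let A : SpecialLinearGroup (Fin m) F :=
      ⟨Matrix.transvection i j 1, Matrix.det_transvection_of_ne _ _ hij 1⟩
    have hb : bl A.1 = 1 + Matrix.single i.castSucc j.castSucc (1 : F) := by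
      ext k l
      induction k using Fin.lastCases <;> induction l using Fin.lastCases <;>
        simp [A, Matrix.transvection, Matrix.one_apply, Matrix.single, Fin.castSucc_ne_last,
          (Fin.castSucc_ne_last _).symm]
    have h : bl A.1 * g.1 = g.1 * bl A.1 :=
      congrArg Subtype.val (Subgroup.mem_centralizer_iff.1 hg (blHom A) ⟨A, rfl⟩)
    rw [hb, add_mul, mul_add, one_mul, mul_one] at h
    have h' := add_left_cancel h
    refine ⟨fun k hk => ?_, fun l hl => ?_, ?_⟩
    · have e := congrFun₂ h' k j.castSucc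
      simp [Matrix.single_mul_apply_of_ne, hk] at e
      exact e.symm
    · have e := congrFun₂ h' i.castSucc l
      simp [Matrix.mul_single_apply_of_ne, hl] at e
      exact e
    · have e := congrFun₂ h' i.castSucc j.castSucc
      simp at e
      exact e.symm
  obtain ⟨i0, i1, hne⟩ : ∃ i j : Fin m, i ≠ j := ⟨⟨0, by omega⟩, ⟨1, by omega⟩, by simp [Fin.ext_iff]⟩
  have hother : ∀ i : Fin m, ∃ j : Fin m, i ≠ j := fun i => by
    by_cases h : i = i0
    · exact ⟨i1, h ▸ hne⟩
    · exact ⟨i0, h⟩
  refine ⟨fun k l hkl => ?_, fun i j => ?_⟩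
  · induction l using Fin.lastCases with
    | last =>
      induction k using Fin.lastCases with
      | last => exact absurd rfl hkl
      | cast k =>
        obtain ⟨i, hi⟩ := hother k
        exact (key i k hi.symm).2.1 _ (Fin.castSucc_ne_last k).symm
    | cast l =>
      obtain ⟨j, hj⟩ := hother l
      exact (key l j hj).1 k hkl
  · by_cases h : i = j
    · rw [h]
    · exact (key i j h).2.2

theorem cent_comm (hm : 2 ≤ m) {g h : SpecialLinearGroup (Fin (m + 1)) F}
    (hg : g ∈ Subgroup.centralizer ((blHom (F := F) (m := m)).range : Set (SpecialLinearGroup (Fin (m + 1)) F)))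
    (hh : h ∈ Subgroup.centralizer ((blHom (F := F) (m := m)).range : Set (SpecialLinearGroup (Fin (m + 1)) F))) :
    g * h = h * g := by
  apply Subtype.ext
  show g.1 * h.1 = h.1 * g.1
  rw [← (cent_range hm hg).1.diagonal_diag, ← (cent_range hm hh).1.diagonal_diag,
    Matrix.diagonal_mul_diagonal, Matrix.diagonal_mul_diagonal]
  congr 1
  funext i
  exact mul_comm _ _

/-- Let F be a finite field of odd order, n ≥ 7 odd, and t ∈ SL(n, F) the diagonal matrix with entries −1, …, −1, 1. Then E(C(t)) is a standard subgroup of SL(n, F). -/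
theorem result {F : Type*} [Field F] [Fintype F] [DecidableEq F] (hF : Odd (Fintype.card F)) (n : ℕ) (hn : 7 ≤ n) (hodd : Odd n) (t : Matrix.SpecialLinearGroup (Fin n) F) (ht : (t : Matrix (Fin n) (Fin n) F) = Matrix.diagonal (fun i : Fin n => if (i : ℕ) + 1 = n then (1 : F) else -1)) : Cfsg.IsStandardSubgroup ((Cfsg.layer ↥(Subgroup.centralizer ({t} : Set (Matrix.SpecialLinearGroup (Fin n) F)))).map (Subgroup.centralizer ({t} : Set (Matrix.SpecialLinearGroup (Fin n) F))).subtype) := by
  classical
  obtain ⟨m, rfl⟩ : ∃ m, n = m + 1 := ⟨n - 1, by omega⟩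
  have hm2 : 2 ≤ m := by omega
  have hmeven : Even m := by rcases hodd with ⟨k, hk⟩; exact ⟨k, by omega⟩
  have hchar : ringChar F ≠ 2 := fun h => by
    have h2 := FiniteField.even_card_of_char_two (F := F) h
    rw [Nat.odd_iff] at hF
    omega
  have h2 : (2 : F) ≠ 0 := Ring.two_ne_zero hchar
  have hne : (-1 : F) ≠ 1 := Ring.neg_one_ne_one_of_char_ne_two hchar
  set dv : Fin (m + 1) → F := fun i => if (i : ℕ) + 1 = m + 1 then (1 : F) else -1 with hdv
  have hdl : dv (Fin.last m) = 1 := by simp [hdv]
  have hds : ∀ i : Fin m, dv i.castSucc = -1 := fun i => by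
    have := i.2
    simp [hdv]; omega
  set H := Subgroup.centralizer ({t} : Set (Matrix.SpecialLinearGroup (Fin (m + 1)) F)) with hH
  have hent : ∀ g ∈ H, ∀ j : Fin m, g.1 (Fin.last m) j.castSucc = 0 ∧ g.1 j.castSucc (Fin.last m) = 0 := by
    intro g hg j
    have hgt : g * t = t * g := Subgroup.mem_centralizer_singleton_iff.1 hg
    have h : g.1 * t.1 = t.1 * g.1 := congrArg Subtype.val hgt
    rw [ht] at h
    constructor
    · have h' := congrFun₂ h (Fin.last m) j.castSucc
      rw [Matrix.mul_diagonal, Matrix.diagonal_mul, hdl, hds] at h'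
      refine (mul_eq_zero.1 (?_ : (2 : F) * _ = 0)).resolve_left h2
      linear_combination -h'
    · have h' := congrFun₂ h j.castSucc (Fin.last m)
      rw [Matrix.mul_diagonal, Matrix.diagonal_mul, hdl, hds] at h'
      refine (mul_eq_zero.1 (?_ : (2 : F) * _ = 0)).resolve_left h2
      linear_combination h'
  have hblH : ∀ A : Matrix.SpecialLinearGroup (Fin m) F, blHom A ∈ H := by
    intro A
    rw [Subgroup.mem_centralizer_singleton_iff]
    apply Subtype.ext
    show bl A.1 * t.1 = t.1 * bl A.1
    rw [ht]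
    ext i j
    rw [Matrix.mul_diagonal, Matrix.diagonal_mul]
    induction i using Fin.lastCases <;> induction j using Fin.lastCases <;> simp [hdl, hds]
  set L0 := (blHom (F := F) (m := m)).range with hL0
  have hL0H : L0 ≤ H := by rintro _ ⟨A, rfl⟩; exact hblH A
  haveI : Nontrivial (Fin m) := Fin.nontrivial_iff_two_le.2 hm2
  have hcond : 3 ≤ Fintype.card (Fin m) ∨ ∃ a : F, a ≠ 0 ∧ a ^ 2 ≠ 1 :=
    Or.inl (by rw [Fintype.card_fin]; omega)
  have hqs0 : Cfsg.IsQuasisimple (Matrix.SpecialLinearGroup (Fin m) F) :=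
    ⟨⟨CfsgLib.Lie.SLn.commutator_eq_top hcond⟩, CfsgLib.Lie.SLn.isSimpleGroup_PSL hcond⟩
  let χ : H →* F :=
    { toFun := fun g => (g : Matrix.SpecialLinearGroup (Fin (m + 1)) F).1 (Fin.last m) (Fin.last m)
      map_one' := by simp
      map_mul' := fun g h => by simp [Matrix.mul_apply, Fin.sum_univ_castSucc, (hent _ g.2 _).1] }
  have hker : L0.subgroupOf H = χ.ker := by
    ext g
    rw [Subgroup.mem_subgroupOf, MonoidHom.mem_ker]
    constructor
    · rintro ⟨A, hA⟩
      show (g : Matrix.SpecialLinearGroup (Fin (m + 1)) F).1 (Fin.last m) (Fin.last m) = 1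
      rw [← hA]
      exact bl_ll A.1
    · intro hχ
      set M := (g : Matrix.SpecialLinearGroup (Fin (m + 1)) F).1 with hM
      have hχ' : M (Fin.last m) (Fin.last m) = 1 := hχ
      have hs : bl (M.submatrix Fin.castSucc Fin.castSucc) = M := by
        ext i j
        induction i using Fin.lastCases <;> induction j using Fin.lastCases <;>
          first
            | (simp [hM]; done)
            | exact ((bl_ll _).trans hχ'.symm)
            | exact ((bl_ls _ _).trans (hent _ g.2 _).1.symm)
            | exact ((bl_sl _ _).trans (hent _ g.2 _).2.symm)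
      have hd : (M.submatrix Fin.castSucc Fin.castSucc).det = 1 := by
        rw [← det_bl, hs]
        exact (g : Matrix.SpecialLinearGroup (Fin (m + 1)) F).2
      exact ⟨⟨_, hd⟩, Subtype.ext hs⟩
  haveI hnormal : (L0.subgroupOf H).Normal := hker ▸ MonoidHom.normal_ker χ
  have hcomp : Cfsg.IsComponent (L0.subgroupOf H) :=
    ⟨hnormal.isSubnormal, CfsgLib.Inv.quasisimple_congr
      ((MonoidHom.ofInjective blHom_injective).trans (Subgroup.subgroupOfEquivOfLe hL0H).symm) hqs0⟩
  have hlayer : (Cfsg.layer ↥H).map H.subtype = L0 := by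
    have h1 : Cfsg.layer ↥H = L0.subgroupOf H := by
      refine le_antisymm (sSup_le fun K hK => ?_) (CfsgLib.Inv.component_le_layer hcomp)
      refine (CfsgLib.Inv.component_le_or_commute hK (L0.subgroupOf H)).resolve_right fun hc => ?_
      refine CfsgLib.Inv.component_ne_bot hK ?_
      rw [← CfsgLib.Inv.component_commutator hK, Subgroup.commutator_eq_bot_iff_le_centralizer]
      have hmem : ∀ x ∈ K, (x : Matrix.SpecialLinearGroup (Fin (m + 1)) F) ∈ Subgroup.centralizer (L0 : Set _) := by
        intro x hx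
        refine Subgroup.mem_centralizer_iff.2 fun l hl => ?_
        exact congrArg Subtype.val (Subgroup.mem_centralizer_iff.1
          (Subgroup.commutator_eq_bot_iff_le_centralizer.1 hc hx) ⟨l, hL0H hl⟩ hl)
      exact fun x hx => Subgroup.mem_centralizer_iff.2 fun y hy =>
        Subtype.ext (cent_comm hm2 (hmem y hy) (hmem x hx))
    rw [h1, Subgroup.map_subgroupOf_eq_of_le hL0H]
  have hto : orderOf t = 2 := by
    refine orderOf_eq_prime (Subtype.ext ?_) fun h => hne ?_
    · rw [pow_two]
      show t.1 * t.1 = 1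
      rw [ht, Matrix.diagonal_mul_diagonal, ← Matrix.diagonal_one]
      congr 1
      funext i
      simp only [hdv]
      split_ifs <;> simp
    · have h0 : t.1 = 1 := congrArg Subtype.val h
      have h' := congrFun₂ h0 (Fin.castSucc ⟨0, by omega⟩) (Fin.castSucc ⟨0, by omega⟩)
      rwa [ht, Matrix.diagonal_apply_eq, Matrix.one_apply_eq, hds] at h'
  have hLperf : ⁅L0, L0⁆ = L0 := Subgroup.isPerfect_iff.1
    (CfsgLib.Inv.quasisimple_congr (MonoidHom.ofInjective blHom_injective) hqs0).1
  rw [hlayer]
  refine Cfsg.Agent.S1306.result t hto L0 hL0H hcomp (fun y hy hyL => ?_) fun g hg hc => ?_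
  · suffices hyt : y = t by rw [hyt]; exact ⟨hL0H, hcomp⟩
    obtain ⟨hd, heq⟩ := cent_range hm2 hyL
    have hy2 : y.1 * y.1 = 1 := by
      have h2' : y ^ 2 = 1 := by rw [← hy, pow_orderOf_eq_one]
      rw [pow_two] at h2'
      exact congrArg Subtype.val h2' 
    rw [← hd.diagonal_diag, Matrix.diagonal_mul_diagonal, ← Matrix.diagonal_one] at hy2
    have hsq : ∀ i, y.1 i i * y.1 i i = 1 := fun i => congrFun (Matrix.diagonal_injective hy2) i
    set i0 : Fin (m + 1) := Fin.castSucc ⟨0, by omega⟩
    have hdet : ∏ i, y.1 i i = 1 := by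
      have := y.2
      rw [← hd.diagonal_diag, Matrix.det_diagonal] at this
      exact this
    rw [Fin.prod_univ_castSucc, Finset.prod_congr rfl (fun i _ => heq i ⟨0, by omega⟩),
      Finset.prod_const, Finset.card_univ, Fintype.card_fin] at hdet
    have hlast : y.1 (Fin.last m) (Fin.last m) = 1 := by
      obtain ⟨k, hk⟩ := hmeven
      have hp : ∀ a : F, a * a = 1 → a ^ m = 1 := fun a ha => by
        calc a ^ m = a ^ (2 * k) := by congr 1; omega
          _ = 1 := by rw [pow_mul, pow_two, ha, one_pow]
      rwa [hp _ (hsq _), one_mul] at hdet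
    have hc : y.1 i0 i0 = -1 := by
      refine (mul_self_eq_one_iff.1 (hsq i0)).resolve_left fun h1 => ?_
      have : y = 1 := by
        apply Subtype.ext
        rw [← hd.diagonal_diag]
        show _ = (1 : Matrix (Fin (m + 1)) (Fin (m + 1)) F)
        rw [← Matrix.diagonal_one]
        congr 1
        funext i
        induction i using Fin.lastCases with
        | last => exact hlast
        | cast i => exact (heq i ⟨0, by omega⟩).trans h1
      rw [this, orderOf_one] at hy
      norm_num at hy
    apply Subtype.ext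
    rw [← hd.diagonal_diag]
    refine Eq.trans ?_ ht.symm
    congr 1
    funext i
    show y.1 i i = dv i
    induction i using Fin.lastCases with
    | last => rw [hdl]; exact hlast
    | cast i => rw [hds]; exact (heq i ⟨0, by omega⟩).trans hc
  · set L' := L0.map (MulAut.conj g).toMonoidHom with hL'
    have hab : ⁅L', L'⁆ = ⊥ := by
      rw [Subgroup.commutator_eq_bot_iff_le_centralizer]
      have hle : L' ≤ Subgroup.centralizer (L0 : Set _) :=
        Subgroup.le_centralizer_iff.1 (Subgroup.commutator_eq_bot_iff_le_centralizer.1 hc)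
      exact fun x hx => Subgroup.mem_centralizer_iff.2 fun y hy => cent_comm hm2 (hle hy) (hle hx)
    rw [hL', ← Subgroup.map_commutator, hLperf,
      Subgroup.map_eq_bot_iff_of_injective _ (MulAut.conj g).injective] at hab
    exact CfsgLib.Inv.component_ne_bot hcomp (by rw [hab, Subgroup.bot_subgroupOf])

end Cfsg.Agent.S1348
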