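import Cfsg.Statements.S1349
import Cfsg.Agent.Solv.Generation
import Cfsg.Agent.Solv.FittingBasic
import Cfsg.Agent.Solv.Signalizer
import Cfsg.Agent.Inv.Component
import Cfsg.Agent.Inv.Dihedral

set_option autoImplicit false
open Cfsg

namespace Cfsg.Agent.S1349


open scoped commutatorElement

section Aux

variable {G : Type*} [Group G] [Finite G]

theorem eq_one_of_sq {K : Subgroup G} (hK : Odd (Nat.card K)) {x : G} (hx : x ∈ K) (h : x * x = 1) : x = 1 := by
  rw [← orderOf_eq_one_iff]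
  refine Nat.eq_one_of_dvd_coprimes (a := 2) (b := Nat.card K) (Nat.coprime_two_left.2 hK)
    (orderOf_dvd_of_pow_eq_one (by rw [pow_two]; exact h)) (Subgroup.orderOf_dvd_natCard K hx)

/-- An involution fixing `K` pointwise, where the centralizer of `K` in `L` is fixed, fixes `L ∩ N(K)`. -/
theorem fixed_of_fixed {L K : Subgroup G} (hL : Odd (Nat.card L)) {a : G} (ha2 : a * a = 1)
    (haL : ∀ l ∈ L, a * l * a⁻¹ ∈ L) {S : Set G} (hS : ∀ s ∈ S, a * s * a⁻¹ = s)
    (hK : ∀ k ∈ K, a * k * a⁻¹ = k)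
    (hC : ∀ c ∈ L, c ∈ Subgroup.centralizer S → a * c * a⁻¹ = c)
    {y : G} (hy : y ∈ L) (hyK : ∀ s ∈ S, y⁻¹ * s * y ∈ K) : a * y * a⁻¹ = y := by
  have hai : a⁻¹ = a := inv_eq_of_mul_eq_one_left ha2
  set c := a * y * a⁻¹ * y⁻¹ with hc
  have hcL : c ∈ L := mul_mem (haL y hy) (inv_mem hy)
  have hcS : c ∈ Subgroup.centralizer S := by
    rw [Subgroup.mem_centralizer_iff]
    intro s hs
    have h1 := hK _ (hyK s hs)
    have h2 : (a * y * a⁻¹)⁻¹ * s * (a * y * a⁻¹) = y⁻¹ * s * y := by
      calc (a * y * a⁻¹)⁻¹ * s * (a * y * a⁻¹) = (a * y * a⁻¹)⁻¹ * (a * s * a⁻¹) * (a * y * a⁻¹) := by rw [hS s hs]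
        _ = a * (y⁻¹ * s * y) * a⁻¹ := by group
        _ = _ := h1
    calc s * c = (a * y * a⁻¹) * ((a * y * a⁻¹)⁻¹ * s * (a * y * a⁻¹)) * y⁻¹ := by rw [hc]; group
      _ = c * s := by rw [h2, hc]; group
  have h3 : a * c * a⁻¹ = c⁻¹ := by
    rw [hc, hai]
    calc a * (a * y * a * y⁻¹) * a = (a * a) * y * a * y⁻¹ * a := by group
      _ = y * a * y⁻¹ * a := by rw [ha2]; group
      _ = y * a⁻¹ * y⁻¹ * a⁻¹ := by rw [hai]
      _ = _ := by group
  rw [hC c hcL hcS] at h3
  have h4 := eq_one_of_sq hL hcL (by nth_rw 1 [h3]; exact inv_mul_cancel c)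
  rwa [hc, mul_inv_eq_one] at h4

/-- The nilpotent case. -/
theorem core : ∀ (d : ℕ) (A L : Subgroup G), Cfsg.IsElementaryAbelian 2 A → Nat.card A = 2 ^ d →
    Group.IsNilpotent L → Odd (Nat.card L) → A ≤ Subgroup.normalizer (L : Set G) →
    A ⊓ Subgroup.centralizer (L : Set G) = ⊥ →
    ∃ (a x : Fin d → G), (∀ i, a i ∈ A ∧ x i ∈ L ∧ x i ≠ 1 ∧ a i * x i * (a i)⁻¹ = (x i)⁻¹) ∧
      (∀ i j, i ≠ j → Commute (a i) (x j) ∧ Commute (x i) (x j)) ∧
      A ≤ Subgroup.closure (Set.range a) := by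
  intro d
  induction d with
  | zero =>
    intro A L _ hcard _ _ _ _
    rw [pow_zero, Subgroup.card_eq_one] at hcard
    exact ⟨finZeroElim, finZeroElim, fun i => i.elim0, fun i => i.elim0, hcard ▸ bot_le⟩
  | succ d ih =>
    intro A L hA hcard hLn hLodd hAL hfaith
    classical
    haveI := hA.1
    haveI : Fact (Nat.Prime 2) := ⟨Nat.prime_two⟩
    have hcomm : ∀ {u v : G}, u ∈ A → v ∈ A → u * v = v * u :=
      fun hu hv => CfsgLib.Solv.Sig.comm hA hu hv
    have hsq : ∀ u ∈ A, u * u = 1 := fun u hu => by rw [← pow_two]; exact hA.2 u hu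
    have hzsq : ∀ u ∈ A, u ^ (2 : ℤ) = 1 := fun u hu => by rw [zpow_two]; exact hsq u hu
    have hcop : (Nat.card A).Coprime (Nat.card L) := by
      rw [hcard]; exact (Nat.coprime_two_left.2 hLodd).pow_left _
    have hne : A ≠ ⊥ := fun e => by
      rw [e, Subgroup.card_bot, pow_succ] at hcard
      have := Nat.one_le_two_pow (n := d)
      omega
    obtain ⟨a₀, ha₀, ha₀1⟩ := A.bot_or_exists_ne_one.resolve_left hne
    obtain ⟨a, ⟨haA, ha1⟩, hmax⟩ := (Set.toFinite {a : G | a ∈ A ∧ a ≠ 1}).exists_maximalFor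
      (fun a : G => Nat.card (L ⊓ Subgroup.centralizer {a} : Subgroup G)) _ ⟨a₀, ha₀, ha₀1⟩
    -- a complement of `a` in `A`
    obtain ⟨B, ⟨hBA, haB⟩, hBmax⟩ := (Set.toFinite {B : Subgroup G | B ≤ A ∧ a ∉ B}).exists_maximal
      ⟨⊥, bot_le, fun h => ha1 (Subgroup.mem_bot.1 h)⟩
    have hAB : ∀ u ∈ A, u ∈ B ∨ a⁻¹ * u ∈ B := by
      intro u hu
      by_contra hcon
      push Not at hcon
      have hun : Subgroup.zpowers u ≤ Subgroup.normalizer (B : Set G) :=
        fun z hz => Subgroup.mem_normalizer_fintype fun w hw => by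
          rwa [hcomm (Subgroup.zpowers_le.2 hu hz) (hBA hw), mul_inv_cancel_right]
      have h1 : a ∈ Subgroup.zpowers u ⊔ B := by
        by_contra h
        exact hcon.1 (hBmax ⟨sup_le (Subgroup.zpowers_le.2 hu) hBA, h⟩ le_sup_right
          (Subgroup.mem_sup_left (Subgroup.mem_zpowers u)))
      obtain ⟨b, hb, z, hz, e⟩ := CfsgLib.Solv.exists_mul_of_mem_sup hun h1
      obtain ⟨k, rfl⟩ := Subgroup.mem_zpowers_iff.1 hz
      rcases Int.even_or_odd' k with ⟨m, rfl | rfl⟩
      · refine haB ?_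
        rw [e, zpow_mul, hzsq u hu, one_zpow, mul_one]
        exact hb
      · refine hcon.2 ?_
        rw [zpow_add_one, zpow_mul, hzsq u hu, one_zpow, one_mul] at e
        rw [e, mul_inv_rev, mul_assoc, hcomm (inv_mem (hBA hb)) hu, ← mul_assoc, inv_mul_cancel, one_mul]
        exact inv_mem hb
    have hBcard : Nat.card B = 2 ^ d := by
      have h1 : (B.subgroupOf A).index = 2 := by
        refine Subgroup.index_eq_two_iff.2 ⟨⟨a, haA⟩, fun u => ?_⟩
        rcases hAB u u.2 with h | h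
        · refine Or.inr ⟨h, fun h' => haB ?_⟩
          have h2 := mul_mem (inv_mem h) (Subgroup.mem_subgroupOf.1 h')
          simp only [Subgroup.coe_mul] at h2
          rwa [← mul_assoc, inv_mul_cancel, one_mul] at h2
        · have h2 : (u : G) * a ∈ B := by
            rw [hcomm u.2 haA]
            rwa [inv_eq_of_mul_eq_one_left (hsq a haA)] at h
          refine Or.inl ⟨h2, fun h' => haB ?_⟩
          have h3 := mul_mem (inv_mem (Subgroup.mem_subgroupOf.1 h')) h2
          rwa [← mul_assoc, inv_mul_cancel, one_mul] at h3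
      have h2 := (B.subgroupOf A).card_mul_index
      rw [h1, CfsgLib.Solv.card_subgroupOf hBA, hcard, pow_succ] at h2
      omega
    set D := L ⊓ Subgroup.centralizer {a} with hD
    have hconjC : ∀ {u v : G}, u ∈ A → v ∈ A → ∀ l ∈ Subgroup.centralizer {v}, u * l * u⁻¹ ∈ Subgroup.centralizer {v} := by
      intro u v hu hv l hl
      rw [Subgroup.mem_centralizer_singleton_iff] at hl ⊢
      have h1 : Commute v u := hcomm hv hu
      have h2 : Commute v l := hl.symm
      exact ((h1.mul_right h2).mul_right h1.inv_right).eq.symm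
    have hBD : B ≤ Subgroup.normalizer (D : Set G) := fun b hb => Subgroup.mem_normalizer_fintype fun l hl =>
      ⟨(Subgroup.mem_normalizer_iff.1 (hAL (hBA hb)) l).1 hl.1, hconjC (hBA hb) haA l hl.2⟩
    have hDfaith : B ⊓ Subgroup.centralizer (D : Set G) = ⊥ := by
      rw [eq_bot_iff]
      rintro b ⟨hb, hbD⟩
      rw [Subgroup.mem_bot]
      by_contra hb1
      have hbA := hBA hb
      have hab : a * b ≠ 1 := fun h => haB (by
        rw [eq_inv_of_mul_eq_one_left h]; exact inv_mem hb)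
      have heq : ∀ v : G, v ∈ A → v ≠ 1 → (∀ l ∈ D, l * v = v * l) → L ⊓ Subgroup.centralizer {v} = D := by
        intro v hv hv1 hvD
        have hle : D ≤ L ⊓ Subgroup.centralizer {v} := fun l hl =>
          ⟨hl.1, Subgroup.mem_centralizer_singleton_iff.2 (hvD l hl)⟩
        exact (Subgroup.eq_of_le_of_card_ge hle (hmax ⟨hv, hv1⟩ (Subgroup.card_le_of_le hle))).symm
      have e1 := heq b hbA hb1 (fun l hl => Subgroup.mem_centralizer_iff.1 hbD l hl)
      have e2 := heq (a * b) (mul_mem haA hbA) hab (fun l hl =>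
        (Commute.mul_right (Subgroup.mem_centralizer_singleton_iff.1 hl.2) (Subgroup.mem_centralizer_iff.1 hbD l hl)).eq)
      have hle : L ≤ D := CfsgLib.Solv.le_of_centralizers_pair' (q := 2) (A := A) (u := a) (v := b) haA hbA hAL hcop
        (Nat.coprime_two_left.2 hLodd) (fun x _ => by rw [hA.2 a haA, one_mul, mul_one])
        (fun x _ => by rw [hA.2 b hbA, one_mul, mul_one]) (fun i => by
          rcases Nat.even_or_odd' i with ⟨m, rfl | rfl⟩
          · rw [pow_mul, hA.2 b hbA, one_pow, mul_one]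
          · rw [pow_succ, pow_mul, hA.2 b hbA, one_pow, one_mul, e2]) e1.le
      have : a ∈ A ⊓ Subgroup.centralizer (L : Set G) := ⟨haA, Subgroup.mem_centralizer_iff.2 fun l hl =>
        Subgroup.mem_centralizer_singleton_iff.1 (hle hl).2⟩
      rw [hfaith, Subgroup.mem_bot] at this
      exact ha1 this
    have hDL : D ≤ L := inf_le_left
    haveI := hLn
    have hDn : Group.IsNilpotent D :=
      Group.nilpotent_of_mulEquiv (Subgroup.subgroupOfEquivOfLe hDL)
    obtain ⟨a', x', hax, hcx, hgen⟩ := ih B D ⟨⟨⟨fun u v => Subtype.ext (hcomm (hBA u.2) (hBA v.2))⟩⟩,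
      fun u hu => hA.2 u (hBA hu)⟩ hBcard hDn (Odd.of_dvd_nat hLodd (Subgroup.card_dvd_of_le hDL)) hBD hDfaith
    set X : Subgroup G := Subgroup.closure (Set.range x') with hX
    have hxD : ∀ i, x' i ∈ D := fun i => (hax i).2.1
    have hXL : X ≤ L := (Subgroup.closure_le L).2 (by rintro _ ⟨i, rfl⟩; exact (hxD i).1)
    set M := L ⊓ Subgroup.centralizer (Set.range x') with hM
    have hfixa : ∀ i, a * x' i * a⁻¹ = x' i := fun i => by
      rw [← Subgroup.mem_centralizer_singleton_iff.1 (hxD i).2, mul_inv_cancel_right]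
    -- each element of `A` fixes or inverts each `x' i`
    have hAx : ∀ u ∈ A, ∀ i, u * x' i * u⁻¹ = x' i ∨ u * x' i * u⁻¹ = (x' i)⁻¹ := by
      have hBx : ∀ u ∈ B, ∀ i, u * x' i * u⁻¹ = x' i ∨ u * x' i * u⁻¹ = (x' i)⁻¹ := by
        intro u hu i
        refine Subgroup.closure_induction (p := fun u _ => u * x' i * u⁻¹ = x' i ∨ u * x' i * u⁻¹ = (x' i)⁻¹)
          ?_ (Or.inl (by group)) ?_ ?_ (hgen hu)
        · rintro _ ⟨j, rfl⟩
          by_cases hji : j = i
          · exact Or.inr (hji ▸ (hax j).2.2.2)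
          · exact Or.inl (by rw [(hcx j i hji).1.eq, mul_inv_cancel_right])
        · intro v w _ _ hv hw
          rw [show v * w * x' i * (v * w)⁻¹ = v * (w * x' i * w⁻¹) * v⁻¹ by group]
          rcases hw with hw | hw <;> rw [hw]
          · exact hv
          · rcases hv with hv | hv
            · right; rw [show v * (x' i)⁻¹ * v⁻¹ = (v * x' i * v⁻¹)⁻¹ by group, hv]
            · left; rw [show v * (x' i)⁻¹ * v⁻¹ = (v * x' i * v⁻¹)⁻¹ by group, hv, inv_inv]
        · intro v _ hv
          rcases hv with hv | hv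
          · left; nth_rw 1 [← hv]; group
          · right
            have : v⁻¹ * (v * x' i * v⁻¹)⁻¹ * v = (x' i)⁻¹ := by group
            rw [hv, inv_inv] at this
            rw [inv_inv]; exact this
      intro u hu i
      rcases hAB u hu with h | h
      · exact hBx u h i
      · have e : u * x' i * u⁻¹ = a * ((a⁻¹ * u) * x' i * (a⁻¹ * u)⁻¹) * a⁻¹ := by group
        rcases hBx _ h i with h' | h' <;> rw [h'] at e
        · exact Or.inl (e.trans (hfixa i))
        · right
          rw [e, show a * (x' i)⁻¹ * a⁻¹ = (a * x' i * a⁻¹)⁻¹ by group, hfixa i]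
    have hAM : A ≤ Subgroup.normalizer (M : Set G) := fun u hu => Subgroup.mem_normalizer_fintype fun m hm => by
      refine ⟨(Subgroup.mem_normalizer_iff.1 (hAL hu) m).1 hm.1, ?_⟩
      show _ ∈ Subgroup.centralizer _
      rw [Subgroup.mem_centralizer_iff]
      rintro _ ⟨i, rfl⟩
      have hc : Commute (x' i) m := Subgroup.mem_centralizer_iff.1 hm.2 _ ⟨i, rfl⟩
      have h2 : Commute (u⁻¹ * x' i * u) m := by
        rcases hAx u⁻¹ (inv_mem hu) i with h | h <;> rw [inv_inv] at h <;> rw [h]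
        exacts [hc, hc.inv_left]
      calc x' i * (u * m * u⁻¹) = u * ((u⁻¹ * x' i * u) * m) * u⁻¹ := by group
        _ = u * m * u⁻¹ * x' i := by rw [h2.eq]; group
    have hMa : ¬ M ≤ Subgroup.centralizer {a} := by
      intro hle
      have hnt : ¬ L ≤ D := fun h => ha1 (by
        have : a ∈ A ⊓ Subgroup.centralizer (L : Set G) := ⟨haA, Subgroup.mem_centralizer_iff.2 fun l hl =>
          Subgroup.mem_centralizer_singleton_iff.1 (h hl).2⟩
        rwa [hfaith, Subgroup.mem_bot] at this)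
      have hlt : D.subgroupOf L < ⊤ := by
        rw [lt_top_iff_ne_top, Ne, Subgroup.subgroupOf_eq_top]
        exact hnt
      obtain ⟨y, hyN, hyD⟩ := SetLike.exists_of_lt (Group.normalizerCondition_of_isNilpotent _ hlt)
      have hfix : ∀ k ∈ D, a * k * a⁻¹ = k := fun k hk => by
        rw [← Subgroup.mem_centralizer_singleton_iff.1 hk.2, mul_inv_cancel_right]
      have hy : a * (y : G) * a⁻¹ = y := fixed_of_fixed (K := D) (S := Set.range x') hLodd (hsq a haA)
        (fun l hl => (Subgroup.mem_normalizer_iff.1 (hAL haA) l).1 hl)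
        (by rintro _ ⟨i, rfl⟩; exact hfixa i) hfix
        (fun c hc hcS => by
          rw [← Subgroup.mem_centralizer_singleton_iff.1 (hle ⟨hc, hcS⟩), mul_inv_cancel_right]) y.2
        (by
          rintro _ ⟨i, rfl⟩
          have := (Subgroup.mem_normalizer_iff.1 (inv_mem hyN) ⟨x' i, (hxD i).1⟩).1 (hxD i)
          rw [Subgroup.mem_subgroupOf, inv_inv] at this
          exact this)
      refine hyD (Subgroup.mem_subgroupOf.2 ⟨y.2, ?_⟩)
      show _ ∈ Subgroup.centralizer _
      rw [Subgroup.mem_centralizer_singleton_iff]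
      exact (mul_inv_eq_iff_eq_mul.1 hy).symm
    -- a hyperplane through which `a` acts nontrivially
    obtain ⟨B', hB', ⟨c, hcA, hcB⟩, hB'a⟩ : ∃ B' : Subgroup G, B' ≤ A ∧ (∃ c ∈ A, B' ⊔ Subgroup.zpowers c = A) ∧
        ¬ M ⊓ Subgroup.centralizer (B' : Set G) ≤ Subgroup.centralizer {a} := by
      by_contra hcon
      push Not at hcon
      exact hMa (CfsgLib.Solv.le_of_cocyclic_centralizers hAM
        (hcop.coprime_dvd_right (Subgroup.card_dvd_of_le inf_le_left)) (fun B' h1 h2 => hcon B' h1 h2))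
    have haB' : a ∉ B' := fun h => hB'a fun m hm => by
      rw [Subgroup.mem_centralizer_singleton_iff]
      exact (Subgroup.mem_centralizer_iff.1 hm.2 a h).symm
    have hsplit : ∀ u ∈ A, u ∈ B' ∨ a⁻¹ * u ∈ B' := by
      have hcn : Subgroup.zpowers c ≤ Subgroup.normalizer (B' : Set G) :=
        fun z hz => Subgroup.mem_normalizer_fintype fun w hw => by
          rwa [hcomm (Subgroup.zpowers_le.2 hcA hz) (hB' hw), mul_inv_cancel_right]
      have h1 : ∀ u ∈ A, ∃ b ∈ B', u = b ∨ u = b * c := by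
        intro u hu
        rw [← hcB, sup_comm] at hu
        obtain ⟨b, hb, z, hz, e⟩ := CfsgLib.Solv.exists_mul_of_mem_sup hcn hu
        obtain ⟨k, rfl⟩ := Subgroup.mem_zpowers_iff.1 hz
        refine ⟨b, hb, ?_⟩
        rcases Int.even_or_odd' k with ⟨m, rfl | rfl⟩
        · left; rw [e, zpow_mul, hzsq c hcA, one_zpow, mul_one]
        · right; rw [e, zpow_add_one, zpow_mul, hzsq c hcA, one_zpow, one_mul]
      intro u hu
      obtain ⟨b, hb, e | e⟩ := h1 u hu
      · exact Or.inl (e ▸ hb)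
      obtain ⟨b', hb', e' | e'⟩ := h1 a haA
      · exact absurd (e' ▸ hb') haB'
      · right
        rw [e, e', show (b' * c)⁻¹ * (b * c) = c⁻¹ * (b'⁻¹ * b) * c by group,
          hcomm (inv_mem hcA) (hB' (mul_mem (inv_mem hb') hb)), inv_mul_cancel_right]
        exact mul_mem (inv_mem hb') hb
    obtain ⟨m, hm, hma⟩ := SetLike.not_le_iff_exists.1 hB'a
    set z := m * a * m⁻¹ * a⁻¹ with hz
    have hai : a⁻¹ = a := inv_eq_of_mul_eq_one_left (hsq a haA)
    have hz1 : z ≠ 1 := fun h => hma (by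
      rw [Subgroup.mem_centralizer_singleton_iff]
      exact commutatorElement_eq_one_iff_mul_comm.1 h)
    have hzinv : a * z * a⁻¹ = z⁻¹ := by
      rw [hz, hai]
      calc a * (m * a * m⁻¹ * a) * a = a * m * a * m⁻¹ * (a * a) := by group
        _ = a⁻¹⁻¹ * m * a⁻¹ * m⁻¹ := by rw [hsq a haA, inv_inv, hai]; group
        _ = _ := by rw [inv_inv]; nth_rw 1 [← hai]; group
    have hzM : z ∈ M := by
      rw [show z = m * (a * m⁻¹ * a⁻¹) by rw [hz]; group]
      exact M.mul_mem hm.1 ((Subgroup.mem_normalizer_iff.1 (hAM haA) _).1 (M.inv_mem hm.1))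
    have hzB : ∀ b ∈ B', Commute b z := fun b hb => by
      have h1 : Commute b m := Subgroup.mem_centralizer_iff.1 hm.2 b hb
      have h2 : Commute b a := hcomm (hB' hb) haA
      exact ((h1.mul_right h2).mul_right h1.inv_right).mul_right h2.inv_right
    let a'' : Fin d → G := fun i => if a' i ∈ B' then a' i else a⁻¹ * a' i
    have ha'' : ∀ i, a'' i ∈ B' := fun i => by
      simp only [a'']
      split_ifs with h
      · exact h
      · exact (hsplit _ (hBA (hax i).1)).resolve_left h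
    have hconj : ∀ i (w : G), w ∈ D → a'' i * w * (a'' i)⁻¹ = a' i * w * (a' i)⁻¹ := fun i w hw => by
      simp only [a'']
      split_ifs
      · rfl
      · have e : a' i * w * (a' i)⁻¹ ∈ D := (Subgroup.mem_normalizer_iff.1 (hBD (hax i).1) w).1 hw
        rw [show a⁻¹ * a' i * w * (a⁻¹ * a' i)⁻¹ = a⁻¹ * (a' i * w * (a' i)⁻¹) * a by group, mul_assoc,
          Subgroup.mem_centralizer_singleton_iff.1 e.2, inv_mul_cancel_left]
    refine ⟨Fin.cons a a'', Fin.cons z x', fun i => ?_, fun i j hij => ?_, ?_⟩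
    · refine Fin.cases ?_ (fun i => ?_) i
      · simp only [Fin.cons_zero]
        exact ⟨haA, hzM.1, hz1, hzinv⟩
      · simp only [Fin.cons_succ]
        exact ⟨hB' (ha'' i), (hxD i).1, (hax i).2.2.1, by rw [hconj i _ (hxD i)]; exact (hax i).2.2.2⟩
    · revert i j
      refine Fin.cases (Fin.cases (fun h => absurd rfl h) (fun j _ => ?_))
        (fun i => Fin.cases (fun _ => ?_) (fun j hij => ?_))
      · simp only [Fin.cons_zero, Fin.cons_succ]
        exact ⟨(Subgroup.mem_centralizer_singleton_iff.1 (hxD j).2).symm,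
          (Subgroup.mem_centralizer_iff.1 hzM.2 _ ⟨j, rfl⟩).symm⟩
      · simp only [Fin.cons_zero, Fin.cons_succ]
        exact ⟨hzB _ (ha'' i), Subgroup.mem_centralizer_iff.1 hzM.2 _ ⟨i, rfl⟩⟩
      · simp only [Fin.cons_succ]
        have hne : i ≠ j := fun h => hij (congrArg Fin.succ h)
        refine ⟨?_, (hcx i j hne).2⟩
        have := hconj i _ (hxD j)
        rw [(hcx i j hne).1.eq, mul_inv_cancel_right] at this
        exact mul_inv_eq_iff_eq_mul.1 this
    · intro u hu
      set T := Subgroup.closure (Set.range (Fin.cons a a'' : Fin (d + 1) → G))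
      have haT : a ∈ T := Subgroup.subset_closure ⟨0, Fin.cons_zero _ _⟩
      have hBT : Subgroup.closure (Set.range a') ≤ T := (Subgroup.closure_le T).2 (by
        rintro _ ⟨i, rfl⟩
        have h1 : a'' i ∈ T := Subgroup.subset_closure ⟨i.succ, Fin.cons_succ _ _ _⟩
        simp only [a''] at h1
        split_ifs at h1
        · exact h1
        · have h2 := T.mul_mem haT h1
          rwa [mul_inv_cancel_left] at h2)
      rcases hAB u hu with h | h
      · exact hBT (hgen h)
      · have h2 := T.mul_mem haT (hBT (hgen h))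
        rwa [mul_inv_cancel_left] at h2

end Aux


/-- Let G be finite, L ≤ G solvable of odd order, and A an elementary abelian 2-subgroup of order 2^d (d ≥ 1) normalizing L with C_A(L) = 1. Then there are subgroups A_1, …, A_d of A of order 2 generating A and subgroups L_1, …, L_d of L such that each A_i ⊔ L_i is dihedral of order 2 n_i with n_i odd and at least 3, and A_i ⊔ L_i commutes elementwise with A_j ⊔ L_j for i ≠ j. -/
theorem result {G : Type*} [Group G] [Finite G] (L A : Subgroup G) (hLs : Group.IsSolvable ↥L) (hLodd : Odd (Nat.card ↥L)) (hA : Cfsg.IsElementaryAbelian 2 A) (d : ℕ) (hd : 1 ≤ d) (hAd : Nat.card ↥A = 2 ^ d) (hAL : A ≤ Subgroup.normalizer (L : Set G)) (hfaith : A ⊓ Subgroup.centralizer (L : Set G) = ⊥) : ∃ (Ai : Fin d → Subgroup G) (Li : Fin d → Subgroup G) (n : Fin d → ℕ), (∀ i, Ai i ≤ A ∧ Nat.card ↥(Ai i) = 2 ∧ Li i ≤ L ∧ Odd (n i) ∧ 3 ≤ n i ∧ Nonempty (↥(Ai i ⊔ Li i) ≃* DihedralGroup (n i))) ∧ (⨆ i, Ai i) = A ∧ ∀ i j, i ≠ j → ∀ x ∈ Ai i ⊔ Li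 i, ∀ y ∈ Ai j ⊔ Li j, x * y = y * x := by

  classical
  haveI := hLs
  set F := (Cfsg.fittingSubgroup ↥L).map L.subtype with hF
  have hFL : F ≤ L := Subgroup.map_subtype_le _
  haveI := CfsgLib.Inv.fitting_nilpotent (G := ↥L)
  have hFn : Group.IsNilpotent F :=
    Group.nilpotent_of_mulEquiv (Subgroup.equivMapOfInjective _ _ L.subtype_injective)
  haveI hchar := CfsgLib.Inv.fitting_characteristic (G := ↥L)
  have hsq : ∀ u ∈ A, u * u = 1 := fun u hu => by rw [← pow_two]; exact hA.2 u hu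
  have hAF : A ≤ Subgroup.normalizer (F : Set G) := by
    intro a ha
    refine Subgroup.mem_normalizer_fintype ?_
    rintro _ ⟨x, hx, rfl⟩
    let φ : L ≃* L := (MulAut.conj a).subgroupMap L |>.trans (MulEquiv.subgroupCongr (by
      show L.map (MulAut.conj a).toMonoidHom = L
      rw [← CfsgLib.Solv.conj_smul_eq_map]
      exact CfsgLib.Solv.conj_smul_eq_self_of_mem_normalizer (hAL ha)))
    refine ⟨φ x, ?_, rfl⟩
    rw [← Subgroup.characteristic_iff_map_eq.1 hchar φ]
    exact Subgroup.mem_map_of_mem _ hx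
  have hFfaith : A ⊓ Subgroup.centralizer (F : Set G) = ⊥ := by
    rw [eq_bot_iff]
    rintro a ⟨ha, haF⟩
    rw [← hfaith]
    have hfix : ∀ k ∈ F, a * k * a⁻¹ = k := fun k hk => by
      rw [← Subgroup.mem_centralizer_iff.1 haF k hk, mul_inv_cancel_right]
    refine ⟨ha, Subgroup.mem_centralizer_iff.2 fun l hl => (mul_inv_eq_iff_eq_mul.1
      (fixed_of_fixed (K := F) (S := (F : Set G)) hLodd (hsq a ha)
        (fun l hl => (Subgroup.mem_normalizer_iff.1 (hAL ha) l).1 hl) hfix hfix ?_ hl ?_)).symm⟩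
    · intro c hc hcS
      refine hfix c ?_
      exact ⟨⟨c, hc⟩, CfsgLib.Solv.centralizer_fittingSubgroup_le (Subgroup.mem_centralizer_iff.2
        fun f hf => Subtype.ext (Subgroup.mem_centralizer_iff.1 hcS _ ⟨f, hf, rfl⟩)), rfl⟩
    · rintro _ ⟨f, hf, rfl⟩
      have := (CfsgLib.Solv.fittingSubgroup_normal ↥L).conj_mem f hf ⟨l, hl⟩⁻¹
      rw [inv_inv] at this
      exact ⟨_, this, rfl⟩
  obtain ⟨a, x, hax, hcx, hgen⟩ :=
    core d A F hA hAd hFn (Odd.of_dvd_nat hLodd (Subgroup.card_dvd_of_le hFL)) hAF hFfaith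
  have ha2 : ∀ i, orderOf (a i) = 2 := fun i => orderOf_eq_prime (hA.2 _ (hax i).1) fun h => by
    obtain ⟨-, hxi, hx1, hinv⟩ := hax i
    rw [h, one_mul, inv_one, mul_one] at hinv
    refine hx1 (eq_one_of_sq hLodd (hFL hxi) ?_)
    nth_rw 1 [hinv]; exact inv_mul_cancel _
  refine ⟨fun i => Subgroup.zpowers (a i), fun i => Subgroup.zpowers (x i), fun i => orderOf (x i), fun i => ?_, ?_, ?_⟩
  · obtain ⟨hai, hxi, hx1, hinv⟩ := hax i
    have hodd : Odd (orderOf (x i)) := Odd.of_dvd_nat hLodd (Subgroup.orderOf_dvd_natCard L (hFL hxi))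
    refine ⟨Subgroup.zpowers_le.2 hai, by rw [Nat.card_zpowers, ha2], Subgroup.zpowers_le.2 (hFL hxi), hodd, ?_, ?_⟩
    · rcases hodd with ⟨k, hk⟩
      show 3 ≤ orderOf (x i)
      have : orderOf (x i) ≠ 1 := fun h => hx1 (orderOf_eq_one_iff.1 h)
      omega
    · have hai' : (a i)⁻¹ = a i := inv_eq_of_mul_eq_one_left (hsq _ hai)
      have hy : orderOf (a i * x i) = 2 := by
        refine orderOf_eq_prime ?_ fun h => ?_
        · rw [pow_two]
          nth_rw 2 [← hai']
          rw [show a i * x i * ((a i)⁻¹ * x i) = a i * x i * (a i)⁻¹ * x i by group, hinv, inv_mul_cancel]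
        · have h1 : x i = a i := by rw [← hai']; exact eq_inv_of_mul_eq_one_right h
          have h2 : Odd (orderOf (a i)) := h1 ▸ hodd
          rw [ha2] at h2
          exact absurd h2 (by decide)
      obtain ⟨e⟩ := CfsgLib.Inv.dihedral_equiv (ha2 i) hy
      have hprod : a i * (a i * x i) = x i := by rw [← mul_assoc, hsq _ hai, one_mul]
      rw [hprod] at e
      have hset : Subgroup.closure ({a i, a i * x i} : Set G) = Subgroup.zpowers (a i) ⊔ Subgroup.zpowers (x i) := by
        refine le_antisymm ((Subgroup.closure_le _).2 ?_) (sup_le (Subgroup.zpowers_le.2 ?_) (Subgroup.zpowers_le.2 ?_))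
        · rintro w (rfl | rfl)
          · exact Subgroup.mem_sup_left (Subgroup.mem_zpowers _)
          · exact Subgroup.mul_mem_sup (Subgroup.mem_zpowers _) (Subgroup.mem_zpowers _)
        · exact Subgroup.subset_closure (Or.inl rfl)
        · have := Subgroup.mul_mem (Subgroup.closure ({a i, a i * x i} : Set G))
            (Subgroup.subset_closure (Or.inl rfl)) (Subgroup.subset_closure (Or.inr rfl))
          rwa [hprod] at this
      exact ⟨((MulEquiv.subgroupCongr hset).symm.trans e)⟩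
  · refine le_antisymm (iSup_le fun i => Subgroup.zpowers_le.2 (hax i).1) (hgen.trans ((Subgroup.closure_le _).2 ?_))
    rintro _ ⟨i, rfl⟩
    exact le_iSup (fun i => Subgroup.zpowers (a i)) i (Subgroup.mem_zpowers _)
  · intro i j hij u hu v hv
    have hgens : ∀ g ∈ ({a i, x i} : Set G), ∀ h ∈ ({a j, x j} : Set G), Commute g h := by
      rintro g (rfl | rfl) h (rfl | rfl)
      · exact CfsgLib.Solv.Sig.comm hA (hax i).1 (hax j).1
      · exact (hcx i j hij).1
      · exact ((hcx j i (Ne.symm hij)).1).symm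
      · exact (hcx i j hij).2
    have hle : ∀ k, Subgroup.zpowers (a k) ⊔ Subgroup.zpowers (x k) ≤ Subgroup.closure ({a k, x k} : Set G) := fun k =>
      sup_le (Subgroup.zpowers_le.2 (Subgroup.subset_closure (Or.inl rfl)))
        (Subgroup.zpowers_le.2 (Subgroup.subset_closure (Or.inr rfl)))
    have hcl : Subgroup.closure ({a i, x i} : Set G) ≤
        Subgroup.centralizer (Subgroup.closure ({a j, x j} : Set G) : Set G) := by
      rw [Subgroup.centralizer_closure, Subgroup.closure_le]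
      intro g hg
      rw [SetLike.mem_coe, Subgroup.mem_centralizer_iff]
      exact fun h hh => (hgens g hg h hh).symm
    exact (Subgroup.mem_centralizer_iff.1 (hcl (hle i hu)) v (hle j hv)).symm

end Cfsg.Agent.S1349
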