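import Cfsg.Statements.S1350
import Cfsg.Agent.OddLocal.Sigma

set_option autoImplicit false
open Cfsg

namespace Cfsg.Agent.S1350

/-- Let G be a minimal simple group of odd order and M a maximal subgroup. Then M_σ (the largest normal σ(M)-subgroup of M) is a Hall σ(M)-subgroup of M and also of G, and every Hall σ(M)-subgroup of M that is normal in M equals M_σ. -/
theorem result {G : Type*} [Group G] [Finite G] (hG : Cfsg.IsMinSimpleOddOrder G)
    (M : Subgroup G) (hM : IsCoatom M) :
    Cfsg.IsPiHallOf (Cfsg.sigma M) (Cfsg.sigmaCore M) M ∧ Cfsg.IsPiHall (Cfsg.sigma M) (Cfsg.sigmaCore M) ∧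
      ∀ N : Subgroup G, M ≤ Subgroup.normalizer (N : Set G) → Cfsg.IsPiHallOf (Cfsg.sigma M) N M →
        N = Cfsg.sigmaCore M := by
  open CfsgLib.OddLocal CfsgLib.Solv in
  exact (by
    have hh := Sigma.hall hG hM (π := Cfsg.sigma M) subset_rfl
      fun p hp hpσ => Sigma.not_dvd_index_sigma hG hM hp hpσ
    refine ⟨hh.1, hh.2, fun N hMN hN => ?_⟩
    haveI : (Cfsg.piCore (Cfsg.sigma M) M).Normal := by
      haveI := piCore_characteristic (π := Cfsg.sigma M) (G := M); infer_instance
    haveI : (N.subgroupOf M).Normal := Subgroup.normal_subgroupOf_of_le_normalizer hMN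
    have hle : N ≤ Cfsg.sigmaCore M := by
      rw [← Subgroup.map_subgroupOf_eq_of_le hN.1]
      refine Subgroup.map_mono (le_piCore ?_)
      rw [Nat.card_congr (Subgroup.subgroupOfEquivOfLe hN.1).toEquiv]
      exact hN.2.1
    refine le_antisymm hle ?_
    have h2 : Cfsg.piCore (Cfsg.sigma M) M ≤ N.subgroupOf M :=
      Sigma.le_of_piNat_of_index (piNat_card_piCore _) hN.2.2
    rw [← Subgroup.map_subgroupOf_eq_of_le hN.1]
    exact Subgroup.map_mono h2)

end Cfsg.Agent.S1350
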