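import Cfsg.Statements.S1386
import Cfsg.Agent.OddLocal.TypeP

set_option autoImplicit false
open Cfsg

namespace Cfsg.Agent.S1386

/-- Let G be a finite group, W₁, W₂ subgroups forming a self-normalizing cyclic pair, S a subgroup with W₂ ≤ S and W₁ a complement to S' in S, and (W₁, U, W₂') type-P data for S. Then W₂' = W₂ (that is, C_{S'}(W₁) = W₂). -/
theorem result {G : Type*} [Group G] [Finite G] (W₁ W₂ S U W₂' : Subgroup G) (hW : Cfsg.IsSelfNormalizingCyclic W₁ W₂)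
    (hSW : Cfsg.IsComplIn ⁅S, S⁆ W₁ S) (hW₂S : W₂ ≤ S) (hP : Cfsg.IsTypePWith S W₁ U W₂') :
    W₂' = W₂ := by
  obtain ⟨hne1, hne2, hi, hcomm, hcyc, hN⟩ := hW
  obtain ⟨-, hne2', hi', hcomm', hcyc', hN'⟩ := hP.selfNormalizing
  obtain ⟨hS', hW1S, hSi, hprod⟩ := hSW
  obtain ⟨x, hxW, hx1⟩ : ∃ x ∈ W₁, x ≠ 1 := W₁.ne_bot_iff_exists_ne_one.1 hne1 |>.elim
    fun x hx => ⟨x.1, x.2, fun e => hx (Subtype.ext e)⟩
  obtain ⟨y, hyW, hy1⟩ : ∃ y ∈ W₂, y ≠ 1 := W₂.ne_bot_iff_exists_ne_one.1 hne2 |>.elim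
    fun y hy => ⟨y.1, y.2, fun e => hy (Subtype.ext e)⟩
  set W := W₁ ⊔ W₂
  set W' := W₁ ⊔ W₂'
  -- W is abelian
  have hWc : ∀ a ∈ W, ∀ b ∈ W, a * b = b * a := fun a ha b hb =>
    congrArg Subtype.val (hcyc.commGroup.mul_comm ⟨a, ha⟩ ⟨b, hb⟩)
  have hW'c : ∀ a ∈ W', ∀ b ∈ W', a * b = b * a := fun a ha b hb =>
    congrArg Subtype.val (hcyc'.commGroup.mul_comm ⟨a, ha⟩ ⟨b, hb⟩)
  have hWS : W ≤ S := sup_le hW1S hW₂S
  have hWW' : W ≤ W' := by
    intro w hw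
    obtain ⟨a, ha, b, hb, rfl⟩ := hprod w (hWS hw)
    have haW : a ∈ W := by
      have := W.mul_mem hw (W.inv_mem (Subgroup.mem_sup_left hb))
      rwa [mul_inv_cancel_right] at this
    refine mul_mem (Subgroup.mem_sup_right ?_) (Subgroup.mem_sup_left hb)
    rw [← hP.W₂_centralizer x hxW hx1]
    exact ⟨ha, Subgroup.mem_centralizer_singleton_iff.2 (hWc a haW x (Subgroup.mem_sup_left hxW))⟩
  have hw : x * y ∈ (↑W : Set G) \ (↑W₁ ∪ ↑W₂) := by
    refine ⟨mul_mem (Subgroup.mem_sup_left hxW) (Subgroup.mem_sup_right hyW), ?_⟩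
    rintro (h | h)
    · have : y ∈ W₁ ⊓ W₂ := ⟨by simpa using W₁.mul_mem (W₁.inv_mem hxW) h, hyW⟩
      rw [hi, Subgroup.mem_bot] at this; exact hy1 this
    · have : x ∈ W₁ ⊓ W₂ := ⟨hxW, by simpa using W₂.mul_mem h (W₂.inv_mem hyW)⟩
      rw [hi, Subgroup.mem_bot] at this; exact hx1 this
  have hW'W : W' ≤ W := by
    have hcz : W' ≤ Subgroup.centralizer ({x * y} : Set G) := fun z hz =>
      Subgroup.mem_centralizer_singleton_iff.2 (hW'c z hz (x * y) (hWW' hw.1))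
    refine (hcz.trans (Subgroup.centralizer_le_normalizer _)).trans (le_of_eq ?_)
    exact hN {x * y} (Set.singleton_subset_iff.2 hw) (Set.singleton_nonempty _)
  have heq : W' = W := le_antisymm hW'W hWW'
  -- both factors have the same order
  have hc1 := CfsgLib.OddLocal.card_eq_mul_of_isComplIn (CfsgLib.OddLocal.isComplIn_sup hi hcomm)
  have hc2 := CfsgLib.OddLocal.card_eq_mul_of_isComplIn (CfsgLib.OddLocal.isComplIn_sup hi' hcomm')
  refine CfsgLib.OddLocal.eq_of_card_eq_of_cyclic hcyc (le_sup_right.trans hW'W) le_sup_right ?_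
  have hcc : Nat.card W' = Nat.card W := by rw [heq]
  exact mul_left_cancel₀ Nat.card_pos.ne' ((hc2.symm.trans hcc).trans hc1)

end Cfsg.Agent.S1386
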