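import Cfsg.Statements.S1387
import Cfsg.Agent.OddLocal.TypeP

set_option autoImplicit false
open Cfsg

namespace Cfsg.Agent.S1387

/-- Let M be a subgroup of a finite group G with type-P data (W₁, U, W₂) and H = M_F. Then the Fitting subgroup F(M) is generated by H and the centralizer of H in U. -/
theorem result {G : Type*} [Group G] [Finite G] (M W₁ U W₂ : Subgroup G) (hP : Cfsg.IsTypePWith M W₁ U W₂) :
    Cfsg.fittingOf M = Cfsg.fittingHallOf M ⊔ (U ⊓ Subgroup.centralizer (Cfsg.fittingHallOf M : Set G)) := by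
  refine le_antisymm (fun f hf => ?_) (sup_le ?_ ?_)
  · obtain ⟨h, hh, u, hu, rfl⟩ := hP.U_compl.2.2.2 f (hP.fitting_le hf)
    have hhF : h ∈ fittingOf M := hP.fitting_eq ▸ Subgroup.mem_sup_left hh
    have huF : u ∈ fittingOf M := by
      have := (fittingOf M).mul_mem ((fittingOf M).inv_mem hhF) hf
      rwa [inv_mul_cancel_left] at this
    exact mul_mem (Subgroup.mem_sup_left hh) (Subgroup.mem_sup_right
      ⟨hu, CfsgLib.OddLocal.inf_fitting_le_centralizer hP ⟨hu, huF⟩⟩)
  · rw [← hP.fitting_eq]; exact le_sup_left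
  · rw [← hP.fitting_eq]
    refine le_trans (inf_le_inf_right _ (hP.U_compl.2.1.trans (Subgroup.commutator_le.2 fun a ha b hb => ?_))) le_sup_right
    exact mul_mem (mul_mem (mul_mem ha hb) (inv_mem ha)) (inv_mem hb)

end Cfsg.Agent.S1387
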