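import Cfsg.Statements.S1388
import Cfsg.Agent.OddLocal.TypeP

set_option autoImplicit false
open Cfsg

namespace Cfsg.Agent.S1388

/-- Let M be a subgroup of a finite group G with type-P data (W₁, U, W₂) and H = M_F. Then the derived subgroup of U centralizes H, and if U ≠ 1 then U does not centralize H. -/
theorem result {G : Type*} [Group G] [Finite G] (M W₁ U W₂ : Subgroup G) (hP : Cfsg.IsTypePWith M W₁ U W₂) :
    ⁅U, U⁆ ≤ Subgroup.centralizer (Cfsg.fittingHallOf M : Set G) ∧ (U ≠ ⊥ → ¬ U ≤ Subgroup.centralizer (Cfsg.fittingHallOf M : Set G)) := by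
  have hM' : ⁅M, M⁆ ≤ M := Subgroup.commutator_le.2 fun a ha b hb =>
    mul_mem (mul_mem (mul_mem ha hb) (inv_mem ha)) (inv_mem hb)
  obtain ⟨hH, hU, hi, hprod⟩ := hP.U_compl
  refine ⟨(le_inf (Subgroup.commutator_le.2 fun a ha b hb => ?_) ?_).trans
    (CfsgLib.OddLocal.inf_fitting_le_centralizer hP), fun hne hc => hne ?_⟩
  · exact mul_mem (mul_mem (mul_mem ha hb) (inv_mem ha)) (inv_mem hb)
  · rw [← hP.fitting_eq]
    exact (Subgroup.commutator_mono hU hU).trans hP.derived_two_le
  -- M' is then normal, nilpotent and of coprime index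
  haveI : Group.IsNilpotent U := hP.U_nilpotent
  have hle : ⁅M, M⁆ ≤ fittingHallOf M := by
    have hFeq : ⁅M, M⁆ ≤ fittingOf M := by
      intro m hm
      obtain ⟨h, hh, u, hu, rfl⟩ := hprod m hm
      rw [← hP.fitting_eq]
      exact mul_mem (Subgroup.mem_sup_left hh) (Subgroup.mem_sup_right ⟨hM' (hU hu), hc hu⟩)
    have hsub : ⁅M, M⁆.subgroupOf M = ⁅(⊤ : Subgroup M), ⊤⁆ := by
      apply Subgroup.map_injective M.subtype_injective
      rw [Subgroup.subgroupOf_map_subtype, inf_eq_left.2 hM', Subgroup.map_commutator,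
        ← MonoidHom.range_eq_map, Subgroup.range_subtype]
    have : ⁅M, M⁆.subgroupOf M ≤ fittingHall M := by
      refine CfsgLib.OddLocal.le_fittingHall ?_ ?_ ?_
      · rw [hsub]; infer_instance
      · haveI := CfsgLib.OddLocal.fittingOf_nilpotent M
        haveI : Group.IsNilpotent ↥⁅M, M⁆ := Group.nilpotent_of_mulEquiv (Subgroup.subgroupOfEquivOfLe hFeq)
        exact Group.nilpotent_of_mulEquiv (Subgroup.subgroupOfEquivOfLe hM').symm
      · have h2 := CfsgLib.OddLocal.card_eq_mul_of_isComplIn hP.W₁_compl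
        have hW := Subgroup.card_mul_index (W₁.subgroupOf M)
        have hS := Subgroup.card_mul_index (⁅M, M⁆.subgroupOf M)
        rw [Nat.card_congr (Subgroup.subgroupOfEquivOfLe hP.W₁_compl.2.1).toEquiv] at hW
        rw [Nat.card_congr (Subgroup.subgroupOfEquivOfLe hM').toEquiv] at hS
        rw [Nat.card_congr (Subgroup.subgroupOfEquivOfLe hM').toEquiv,
          show (⁅M, M⁆.subgroupOf M).index = Nat.card W₁ from
            mul_left_cancel₀ Nat.card_pos.ne' (hS.trans h2),
          show Nat.card ↥⁅M, M⁆ = (W₁.subgroupOf M).index from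
            (mul_left_cancel₀ Nat.card_pos.ne' (hW.trans (h2.trans (mul_comm _ _)))).symm]
        exact hP.W₁_hall.symm
    have h' := Subgroup.map_mono (f := M.subtype) this
    rwa [Subgroup.subgroupOf_map_subtype, inf_eq_left.2 hM'] at h'
  exact le_bot_iff.1 (hi ▸ le_inf (hU.trans hle) le_rfl)

end Cfsg.Agent.S1388
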