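import Cfsg.Statements.S1394
import Cfsg.Agent.OddLocal.Transitivity

set_option autoImplicit false
open Cfsg

namespace Cfsg.Agent.S1394

theorem exists_elementary {G : Type*} [Group G] [Finite G] {Z : Subgroup G} {k : ℕ}
    (h : ¬ Cfsg.RankLE k Z) :
    ∃ p : ℕ, p.Prime ∧ ∃ B : Subgroup G, B ≤ Z ∧ Cfsg.IsElementaryAbelian p B ∧
      p ^ (k + 1) ≤ Nat.card B := by
  simp only [Cfsg.RankLE, Cfsg.PRankLE, not_forall, not_le] at h
  obtain ⟨p, hp, B, hB, hBp, hlt⟩ := h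
  haveI := Fact.mk hp
  refine ⟨p, hp, B.map Z.subtype, Subgroup.map_subtype_le _, ⟨⟨⟨?_⟩⟩, ?_⟩, ?_⟩
  · rintro ⟨_, a, ha, rfl⟩ ⟨_, b, hb, rfl⟩
    exact Subtype.ext (congrArg (fun z : B => ((z : Z) : G)) (hB.is_comm.comm ⟨a, ha⟩ ⟨b, hb⟩))
  · rintro _ ⟨a, ha, rfl⟩
    rw [← map_pow, hBp a ha, map_one]
  · rw [Subgroup.card_map_of_injective Z.subtype_injective]
    obtain ⟨n, hn⟩ := (IsPGroup.iff_card (p := p) (G := B)).1
      (fun x => ⟨1, by rw [pow_one]; exact Subtype.ext (hBp x x.2)⟩)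
    rw [hn] at hlt ⊢
    exact Nat.pow_le_pow_right hp.pos ((Nat.pow_lt_pow_iff_right hp.one_lt).1 hlt)

/-- Let G be a minimal simple group of odd order, A a subgroup satisfying the transitivity hypothesis whose centre has rank at least 2, K = O_{π(A)'}(C_G(A)), and q a prime dividing the order of C_G(A) but not that of A. Then any two maximal A-invariant q-subgroups of G are conjugate by an element of K. -/
theorem result {G : Type*} [Group G] [Finite G] (hG : Cfsg.IsMinSimpleOddOrder G)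
    (A : Subgroup G) (hA : Cfsg.TransitivityHypothesis A) (hZ : ¬ Cfsg.RankLE 1 ↥(A ⊓ Subgroup.centralizer (A : Set G)))
    (q : ℕ) (hq : q.Prime) (hqA : ¬ q ∣ Nat.card A) (hqC : q ∣ Nat.card (Subgroup.centralizer (A : Set G))) :
    ∀ Q₁ ∈ Cfsg.maxInvSubgroups ⊤ A {q}, ∀ Q₂ ∈ Cfsg.maxInvSubgroups ⊤ A {q}, ∃ k ∈ Cfsg.piCoreOf (Cfsg.primesNotDvd (Nat.card A)) (Subgroup.centralizer (A : Set G)), Q₂ = Q₁.map (MulAut.conj k).toMonoidHom := by
  haveI := Fact.mk hq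
  obtain ⟨p, hp, B, hBZ, hB, hB2⟩ := exists_elementary hZ
  haveI := Fact.mk hp
  haveI := hB.1
  exact fun Q₁ h₁ Q₂ h₂ => CfsgLib.OddLocal.Trans.conj_of_rank_two hG hA hqA
    (CfsgLib.Solv.Sig.not_isCyclic hB hB2) hBZ hqC h₁ h₂

end Cfsg.Agent.S1394
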