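import Cfsg.Statements.S1395
import Cfsg.Agent.OddLocal.Transitivity

set_option autoImplicit false
open Cfsg

namespace Cfsg.Agent.S1395

/-- Let G be a minimal simple group of odd order, A a subgroup satisfying the transitivity hypothesis with K = O_{π(A)'}(C_G(A)), q a prime not dividing the order of A, and P a proper subgroup all of whose prime divisors divide the order of A, containing A as a subnormal subgroup, such that any two maximal A-invariant q-subgroups are conjugate under K. Then (a) K ∩ C_G(P) = O_{π(A)'}(C_G(P)); (b) any two maximal P-invariant q-subgroups are conjugate under O_{π(A)'}(C_G(P)); (c) every maximal P-invariant q-subgroup is a maximal A-invariant q-subgroup; (d) for every maximal P-invariant q-subgroup Q, P ∩ N_G(P)' ≤ N_G(Q)' and N_G(P) is generated by O_{π(A)'}(C_G(P)) and N_G(P) ∩ N_G(Q). -/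
theorem result {G : Type*} [Group G] [Finite G] (hG : Cfsg.IsMinSimpleOddOrder G)
    (A : Subgroup G) (hA : Cfsg.TransitivityHypothesis A) (q : ℕ) (hq : q.Prime) (hqA : ¬ q ∣ Nat.card A)
    (P : Subgroup G) (hP : P ≠ ⊤) (hPπ : (∀ r : ℕ, r.Prime → r ∣ Nat.card P → r ∣ Nat.card A)) (hAP : A ≤ P) (hsn : (A.subgroupOf P).IsSubnormal)
    (htr : ∀ Q₁ ∈ Cfsg.maxInvSubgroups ⊤ A {q}, ∀ Q₂ ∈ Cfsg.maxInvSubgroups ⊤ A {q}, ∃ k ∈ Cfsg.piCoreOf (Cfsg.primesNotDvd (Nat.card A)) (Subgroup.centralizer (A : Set G)), Q₂ = Q₁.map (MulAut.conj k).toMonoidHom) :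
    Cfsg.piCoreOf (Cfsg.primesNotDvd (Nat.card A)) (Subgroup.centralizer (A : Set G)) ⊓ Subgroup.centralizer (P : Set G) = Cfsg.piCoreOf (Cfsg.primesNotDvd (Nat.card A)) (Subgroup.centralizer (P : Set G)) ∧
      (∀ Q₁ ∈ Cfsg.maxInvSubgroups ⊤ P {q}, ∀ Q₂ ∈ Cfsg.maxInvSubgroups ⊤ P {q}, ∃ k ∈ Cfsg.piCoreOf (Cfsg.primesNotDvd (Nat.card A)) (Subgroup.centralizer (P : Set G)), Q₂ = Q₁.map (MulAut.conj k).toMonoidHom) ∧
      Cfsg.maxInvSubgroups ⊤ P {q} ⊆ Cfsg.maxInvSubgroups ⊤ A {q} ∧
      ∀ Q ∈ Cfsg.maxInvSubgroups ⊤ P {q},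
        P ⊓ ⁅Subgroup.normalizer (P : Set G), Subgroup.normalizer (P : Set G)⁆ ≤ ⁅Subgroup.normalizer (Q : Set G), Subgroup.normalizer (Q : Set G)⁆ ∧
        Subgroup.normalizer (P : Set G) = Cfsg.piCoreOf (Cfsg.primesNotDvd (Nat.card A)) (Subgroup.centralizer (P : Set G)) ⊔ (Subgroup.normalizer (P : Set G) ⊓ Subgroup.normalizer (Q : Set G)) := by
  haveI := Fact.mk hq
  open CfsgLib.OddLocal.Trans in
  exact (by
    have hgood : Good A q P := good_of_subnormal hG hA hqA hPπ hAP hsn ⟨htr, subset_rfl⟩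
    have hCC : Subgroup.centralizer (P : Set G) ≤ Subgroup.centralizer (A : Set G) :=
      Subgroup.centralizer_le hAP
    set KP := piCoreOf (primesNotDvd (Nat.card A)) (Subgroup.centralizer (P : Set G))
    refine ⟨le_antisymm (le_piCoreOf inf_le_right ?_ ((piNat_piCoreOf _ _).of_dvd
      (Subgroup.card_dvd_of_le inf_le_left))) (le_inf (le_K hG hA ((piCoreOf_le _ _).trans hCC)
        (piNat_piCoreOf _ _)) (piCoreOf_le _ _)), hgood.1, hgood.2, fun Q hQ => ?_⟩
    · exact CfsgLib.Solv.le_normalizer_inf_of_le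
        (hCC.trans (Subgroup.le_normalizer.trans (normalizes_piCoreOf _ _))) Subgroup.le_normalizer
    set N := Subgroup.normalizer (P : Set G)
    set N' := N ⊓ Subgroup.normalizer (Q : Set G)
    have hCN : Subgroup.centralizer (P : Set G) ≤ N := Subgroup.centralizer_le_normalizer _
    have hKN : KP ≤ N := (piCoreOf_le _ _).trans hCN
    have hfac : ∀ g ∈ N, ∃ k ∈ KP, k⁻¹ * g ∈ N' := by
      intro g hg
      obtain ⟨k, hk, e⟩ := hgood.1 Q hQ _ (conj_max g hg hQ)
      refine ⟨k, hk, N.mul_mem (N.inv_mem (hKN hk)) hg, ?_⟩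
      show k⁻¹ * g ∈ Subgroup.normalizer (Q : Set G)
      rw [Subgroup.mem_normalizer_iff_map_conj_eq]
      change Q.map (MulAut.conj (k⁻¹ * g)).toMonoidHom = Q
      rw [← conj_map_mul, e, conj_map_mul, inv_mul_cancel, map_conj_one]
    refine ⟨?_, le_antisymm (fun g hg => ?_) (sup_le hKN inf_le_left)⟩
    · -- `P ∩ N(P)' ≤ N(Q)'`
      haveI hKn : (KP.subgroupOf N).Normal := by
        refine Subgroup.normal_subgroupOf_of_le_normalizer ?_
        refine le_trans ?_ (normalizes_piCoreOf _ _)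
        intro g hg
        refine Subgroup.mem_normalizer_fintype fun c hc => Subgroup.mem_centralizer_iff.2 fun x hx => ?_
        have h1 : g⁻¹ * x * g ∈ P := by
          simpa using (Subgroup.mem_normalizer_iff.1 (inv_mem hg) x).1 hx
        have h2 := Subgroup.mem_centralizer_iff.1 hc _ h1
        calc x * (g * c * g⁻¹) = g * ((g⁻¹ * x * g) * c) * g⁻¹ := by group
          _ = g * (c * (g⁻¹ * x * g)) * g⁻¹ := by rw [h2]
          _ = _ := by group
      set f := QuotientGroup.mk' (KP.subgroupOf N)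
      have hN'N : N' ≤ N := inf_le_left
      set T : Subgroup ↥N := N'.subgroupOf N
      have hsurj : (T.map f) = ⊤ := by
        rw [eq_top_iff]
        rintro x -
        obtain ⟨⟨g, hg⟩, rfl⟩ := QuotientGroup.mk'_surjective _ x
        obtain ⟨k, hk, hk'⟩ := hfac g hg
        refine ⟨⟨k⁻¹ * g, hk'.1⟩, Subgroup.mem_subgroupOf.2 hk', ?_⟩
        exact (QuotientGroup.eq.2 (Subgroup.mem_subgroupOf.2 (by
          show (k⁻¹ * g)⁻¹ * g ∈ KP
          rw [show (k⁻¹ * g)⁻¹ * g = g⁻¹ * k * g by group]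
          have := Subgroup.mem_subgroupOf.1 (hKn.conj_mem' ⟨k, hKN hk⟩ (Subgroup.mem_subgroupOf.2 hk)
            ⟨g, hg⟩)
          simpa using this)))
      rintro x ⟨hxP, hx⟩
      have hx' : f ⟨x, Subgroup.le_normalizer hxP⟩ ∈ (⁅T, T⁆ : Subgroup ↥N).map f := by
        rw [Subgroup.map_commutator, hsurj]
        have h1 : (⟨x, Subgroup.le_normalizer hxP⟩ : ↥N) ∈ commutator ↥N := by
          have := hx
          rw [← Subgroup.map_subtype_commutator N] at this
          obtain ⟨y, hy, hye⟩ := this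
          rwa [show (⟨x, Subgroup.le_normalizer hxP⟩ : ↥N) = y from Subtype.ext hye.symm]
        rw [← Subgroup.map_top_of_surjective f (QuotientGroup.mk'_surjective _), ← Subgroup.map_commutator]
        exact Subgroup.mem_map_of_mem f h1
      obtain ⟨d, hd, hde⟩ := hx'
      have hdD : (d : G) ∈ ⁅N', N'⁆ := by
        have := Subgroup.mem_map_of_mem N.subtype hd
        rwa [Subgroup.map_commutator, Subgroup.map_subgroupOf_eq_of_le hN'N] at this
      have hsle : ⁅N', N'⁆ ≤ ⁅Subgroup.normalizer (Q : Set G), Subgroup.normalizer (Q : Set G)⁆ :=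
        Subgroup.commutator_mono inf_le_right inf_le_right
      refine hsle ?_
      have hkK : (d : G)⁻¹ * x ∈ KP := by
        have := QuotientGroup.eq.1 hde
        exact Subgroup.mem_subgroupOf.1 this
      have hxN' : x ∈ N' := ⟨Subgroup.le_normalizer hxP, hQ.1.2.2 hxP⟩
      have hdN' : (d : G) ∈ N' := Subgroup.commutator_le_self N' hdD
      -- compare orders modulo the commutator subgroup of `N'`
      set φ := (Abelianization.of (G := ↥N'))
      have he : φ ⟨(d : G)⁻¹ * x, mul_mem (inv_mem hdN') hxN'⟩ = φ ⟨x, hxN'⟩ := by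
        have h0 : φ ⟨d, hdN'⟩ = 1 := by
          rw [← MonoidHom.mem_ker, Abelianization.ker_of, ← Subgroup.mem_map_iff_mem N'.subtype_injective,
            Subgroup.map_subtype_commutator]
          exact hdD
        rw [show (⟨(d : G)⁻¹ * x, mul_mem (inv_mem hdN') hxN'⟩ : ↥N') = ⟨d, hdN'⟩⁻¹ * ⟨x, hxN'⟩ from rfl,
          map_mul, map_inv, h0, inv_one, one_mul]
      have hone : φ ⟨x, hxN'⟩ = 1 := by
        rw [← orderOf_eq_one_iff]
        refine Nat.eq_one_of_dvd_coprimes (coprime_of_piNat hPπ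
          (piNat_piCoreOf (primesNotDvd (Nat.card A)) (Subgroup.centralizer (P : Set G)))) ?_ ?_
        · refine (orderOf_map_dvd φ _).trans ?_
          rw [Subgroup.orderOf_mk, ← Subgroup.orderOf_mk (H := P) x hxP]
          exact orderOf_dvd_natCard _
        · rw [← he]
          refine (orderOf_map_dvd φ _).trans ?_
          rw [Subgroup.orderOf_mk, ← Subgroup.orderOf_mk (H := KP) _ hkK]
          exact orderOf_dvd_natCard _
      rw [← MonoidHom.mem_ker, Abelianization.ker_of, ← Subgroup.mem_map_iff_mem N'.subtype_injective,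
        Subgroup.map_subtype_commutator] at hone
      exact hone
    · obtain ⟨k, hk, hk'⟩ := hfac g hg
      rw [show g = k * (k⁻¹ * g) by group]
      exact Subgroup.mul_mem_sup hk hk')

end Cfsg.Agent.S1395
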