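import Cfsg.Statements.S1399
import Cfsg.Agent.OddLocal.UniqueBasic

set_option autoImplicit false
open Cfsg

namespace Cfsg.Agent.S1399

/-- Let G be a minimal simple group of odd order, L a subgroup contained in exactly one maximal subgroup of G, and K a subgroup of C_G(L) having, for some prime p, an elementary abelian subgroup of order p ^ 2. Then K is contained in exactly one maximal subgroup of G. -/
theorem result {G : Type*} [Group G] [Finite G] (hG : Cfsg.IsMinSimpleOddOrder G)
    (L K : Subgroup G) (hL : Cfsg.InUniqueMaximal L) (hK : K ≤ Subgroup.centralizer (L : Set G)) (hKr : ¬ Cfsg.RankLE 1 K) :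
    Cfsg.InUniqueMaximal K := by
  open CfsgLib.OddLocal in
  exact (by
    simp only [RankLE, PRankLE, not_forall, not_le] at hKr
    obtain ⟨p, hp, B, hB, hBp, hlt⟩ := hKr
    haveI := Fact.mk hp
    have hBe : IsElementaryAbelian p (B.map K.subtype) := by
      refine ⟨⟨⟨?_⟩⟩, ?_⟩
      · rintro ⟨_, a, ha, rfl⟩ ⟨_, b, hb, rfl⟩
        exact Subtype.ext (congrArg (fun z : B => ((z : K) : G)) (hB.is_comm.comm ⟨a, ha⟩ ⟨b, hb⟩))
      · rintro _ ⟨a, ha, rfl⟩
        rw [← map_pow, hBp a ha, map_one]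
    have hc : p ^ 2 ≤ Nat.card (B.map K.subtype : Subgroup G) := by
      rw [Subgroup.card_map_of_injective K.subtype_injective]
      obtain ⟨n, hn⟩ := (IsPGroup.iff_card (p := p) (G := B)).1
        (fun x => ⟨1, by rw [pow_one]; exact Subtype.ext (hBp x x.2)⟩)
      rw [hn] at hlt ⊢
      exact Nat.pow_le_pow_right hp.pos ((Nat.pow_lt_pow_iff_right hp.one_lt).1 hlt)
    have hU := Uniq.of_centralizing hG hL (Uniq.isPGroup_elementary hBe) hBe.1
      (CfsgLib.Solv.Sig.not_isCyclic hBe hc) ((Subgroup.map_subtype_le _).trans hK)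
    obtain ⟨M, ⟨hM, hLM⟩, -⟩ := id hL
    refine Uniq.mono hU (Subgroup.map_subtype_le _) fun e => ?_
    have hLt : L ≠ ⊤ := fun e' => hM.1 (top_le_iff.1 (e' ▸ hLM))
    exact Trans.normalizer_ne_top hG (Uniq.ne_bot hG hL) hLt
      (top_le_iff.1 ((e ▸ hK).trans (Subgroup.centralizer_le_normalizer _))))

end Cfsg.Agent.S1399
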