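import Cfsg.Statements.S1401
import Cfsg.Agent.OddLocal.FittingUnique

set_option autoImplicit false
open Cfsg

namespace Cfsg.Agent.S1401

/-- Let G be a minimal simple group of odd order, p a prime, and M a maximal subgroup whose Fitting subgroup contains an elementary abelian subgroup of order p ^ 3. Then every abelian p-subgroup of G containing an elementary abelian subgroup of order p ^ 3 lies in exactly one maximal subgroup of G. -/
theorem result {G : Type*} [Group G] [Finite G] (hG : Cfsg.IsMinSimpleOddOrder G)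
    (M : Subgroup G) (hM : IsCoatom M) (p : ℕ) [Fact p.Prime] (hF : ¬ Cfsg.PRankLE p 2 ↥(Cfsg.fittingOf M))
    (A : Subgroup G) (hAp : IsPGroup p A) (hAc : IsMulCommutative A) (hA3 : ¬ Cfsg.PRankLE p 2 ↥A) :
    Cfsg.InUniqueMaximal A := by
  open CfsgLib.OddLocal in
  exact (by
    refine FitUniq.of_fitting_rank_three hG hM hF hAp (fun hcyc => ?_) (fun h => hA3 (FitUniq.rank_of_le
      (fun x hx => Subgroup.mem_centralizer_iff.2 fun a ha =>
        congrArg (fun w : A => (w : G)) (hAc.is_comm.comm ⟨a, ha⟩ ⟨x, hx⟩)) h))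
    obtain ⟨E, hEA, hEe, hE3⟩ := Uniq.exists_cube hA3
    haveI := hcyc
    exact CfsgLib.Solv.Sig.not_isCyclic hEe
      ((Nat.pow_le_pow_right (Fact.out : p.Prime).pos (by norm_num)).trans hE3)
      (isCyclic_of_injective (Subgroup.inclusion hEA) (Subgroup.inclusion_injective hEA)))

end Cfsg.Agent.S1401
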