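import Cfsg.Statements.S1403
import Cfsg.Agent.OddLocal.UniqueSCN

set_option autoImplicit false
open Cfsg

namespace Cfsg.Agent.S1403

/-- Let G be a minimal simple group of odd order and K a proper subgroup having an elementary abelian subgroup of order p ^ 2 for some prime p. If K, or its centralizer C_G(K), has an elementary abelian subgroup of order q ^ 3 for some prime q, then K lies in exactly one maximal subgroup of G. -/
theorem result {G : Type*} [Group G] [Finite G] (hG : Cfsg.IsMinSimpleOddOrder G)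
    (K : Subgroup G) (hK : K ≠ ⊤) (hK2 : ¬ Cfsg.RankLE 1 K)
    (hK3 : ¬ Cfsg.RankLE 2 K ∨ ¬ Cfsg.RankLE 2 (Subgroup.centralizer (K : Set G))) :
    Cfsg.InUniqueMaximal K := by
  open CfsgLib.OddLocal in
  exact (by
    simp only [RankLE, not_forall] at hK2 hK3
    obtain ⟨r, hr, hr1⟩ := hK2
    haveI := Fact.mk hr
    obtain ⟨E₂, hE₂K, hE₂e, hE₂c⟩ : ∃ E : Subgroup G, E ≤ K ∧ IsElementaryAbelian r E ∧ r ^ 2 ≤ Nat.card E := by
      simp only [PRankLE, not_forall, not_le] at hr1
      obtain ⟨B, hB, hBp, hlt⟩ := hr1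
      refine ⟨B.map K.subtype, Subgroup.map_subtype_le _, ⟨⟨⟨?_⟩⟩, ?_⟩, ?_⟩
      · rintro ⟨_, a, ha, rfl⟩ ⟨_, b, hb, rfl⟩
        exact Subtype.ext (congrArg (fun z : B => ((z : K) : G)) (hB.is_comm.comm ⟨a, ha⟩ ⟨b, hb⟩))
      · rintro _ ⟨a, ha, rfl⟩
        rw [← map_pow, hBp a ha, map_one]
      · rw [Subgroup.card_map_of_injective K.subtype_injective]
        obtain ⟨n, hn⟩ := (IsPGroup.iff_card (p := r) (G := B)).1
          (fun x => ⟨1, by rw [pow_one]; exact Subtype.ext (hBp x x.2)⟩)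
        rw [hn] at hlt ⊢
        exact Nat.pow_le_pow_right hr.pos ((Nat.pow_lt_pow_iff_right hr.one_lt).1 hlt)
    have key : ∀ (q : ℕ) [Fact q.Prime] (E : Subgroup G), IsElementaryAbelian q E →
        q ^ 3 ≤ Nat.card E → InUniqueMaximal E := by
      intro q _ E hE hE3
      have hq := (Fact.out : q.Prime)
      have hqG : q ∣ Nat.card G := by
        obtain ⟨n, hn⟩ := CfsgLib.Solv.Sig.card_eq_pow hE
        refine dvd_trans ?_ (Subgroup.card_subgroup_dvd_card E)
        rw [hn]
        refine dvd_pow_self q fun e => ?_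
        rw [hn, e, pow_zero] at hE3
        exact absurd hE3 (not_le.2 (Nat.one_lt_pow (by norm_num) hq.one_lt))
      have hq2 := TransHyp.ne_two hG hqG
      have hEtop : ¬ PRankLE q 2 E := fun h => by
        have h1 := h ⊤ (by haveI := hE.1; infer_instance) fun a _ => Subtype.ext (hE.2 a a.2)
        rw [Subgroup.card_top] at h1
        exact absurd (hE3.trans h1) (not_le.2 (Nat.pow_lt_pow_right hq.one_lt (by norm_num)))
      obtain ⟨P, hP⟩ := (Uniq.isPGroup_elementary hE).exists_le_sylow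
      have hPr : ¬ PRankLE q 2 (P : Subgroup G) := fun h => hEtop (FitUniq.rank_of_le hP h)
      obtain ⟨B, hBn, hBc, hBs, hB3⟩ := SCN3.exists_scn3 hq2 P.isPGroup' hPr
      set A := B.map (P : Subgroup G).subtype
      have hAc : IsMulCommutative A := ⟨⟨by
        rintro ⟨_, a, ha, rfl⟩ ⟨_, b, hb, rfl⟩
        exact Subtype.ext (congrArg (fun w : B => ((w : (P : Subgroup G)) : G))
          (hBc.is_comm.comm ⟨a, ha⟩ ⟨b, hb⟩))⟩⟩
      have hscn : IsSCN (P : Subgroup G) A := by
        refine ⟨Subgroup.map_subtype_le _, ?_, le_antisymm ?_ ?_⟩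
        · intro x hx
          exact Uniq.map_le_normalizer (x := ⟨x, hx⟩)
            (Subgroup.normalizer_eq_top_iff.2 hBn ▸ Subgroup.mem_top _)
        · rintro x ⟨hxP, hxc⟩
          refine ⟨⟨x, hxP⟩, ?_, rfl⟩
          rw [← hBs]
          exact Subgroup.mem_centralizer_iff.2 fun a ha => Subtype.ext
            (Subgroup.mem_centralizer_iff.1 hxc a (Subgroup.mem_map_of_mem _ ha))
        · exact le_inf (Subgroup.map_subtype_le _) fun x hx =>
            Subgroup.mem_centralizer_iff.2 fun a ha =>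
              congrArg (fun w : A => (w : G)) (hAc.is_comm.comm ⟨a, ha⟩ ⟨x, hx⟩)
      have hA3 : ¬ PRankLE q 2 A := fun h => hB3 (FitUniq.rank_of_map h)
      refine Uniq.of_rank_three_member hG hq2 hAc hA3
        (UniqSCN.inUniqueMaximal_scn hG P hscn hA3) (Uniq.isPGroup_elementary hE)
        (CfsgLib.Solv.Sig.not_isCyclic hE ((Nat.pow_le_pow_right hq.pos (by norm_num)).trans hE3))
        fun h => hEtop (FitUniq.rank_of_le (fun x hx => Subgroup.mem_centralizer_iff.2 fun a ha =>
          congrArg (fun w : E => (w : G)) (hE.1.is_comm.comm ⟨a, ha⟩ ⟨x, hx⟩)) h)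
    rcases hK3 with ⟨q, hq, hq3⟩ | ⟨q, hq, hq3⟩
    · haveI := Fact.mk hq
      obtain ⟨E, hEK, hEe, hE3⟩ := Uniq.exists_cube hq3
      exact Uniq.mono (key q E hEe hE3) hEK hK
    · haveI := Fact.mk hq
      obtain ⟨E, hEC, hEe, hE3⟩ := Uniq.exists_cube hq3
      refine Uniq.mono (Uniq.of_centralizing hG (key q E hEe hE3) (Uniq.isPGroup_elementary hE₂e)
        hE₂e.1 (CfsgLib.Solv.Sig.not_isCyclic hE₂e hE₂c) ?_) hE₂K hK
      exact hE₂K.trans (Subgroup.le_centralizer_iff.1 hEC))

end Cfsg.Agent.S1403
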