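import Cfsg.Statements.S1404
import Cfsg.Agent.OddLocal.Sigma

set_option autoImplicit false
open Cfsg

namespace Cfsg.Agent.S1404

open CfsgLib.Solv CfsgLib.OddLocal in
theorem into {G : Type*} [Group G] [Finite G] {p : ℕ} [Fact p.Prime] {H R : Subgroup G}
    (S : Sylow p H) (hR : IsPGroup p R) (hRH : R ≤ H) :
    ∃ h ∈ H, R.map (MulAut.conj h).toMonoidHom ≤ (S : Subgroup H).map H.subtype := by
  obtain ⟨Q, hQ⟩ := (hR.comap_of_injective H.subtype H.subtype_injective :
    IsPGroup p (R.subgroupOf H)).exists_le_sylow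
  obtain ⟨h, hh⟩ := MulAction.exists_smul_eq H Q S
  refine ⟨h, h.2, ?_⟩
  rintro _ ⟨r, hr, rfl⟩
  refine ⟨h * ⟨r, hRH hr⟩ * h⁻¹, ?_, rfl⟩
  rw [← hh, Sylow.coe_subgroup_smul]
  exact mem_conj_smul_iff.2 (by simpa [mul_assoc] using hQ (Subgroup.mem_subgroupOf.2 hr))

open CfsgLib.Solv CfsgLib.OddLocal in
theorem main {G : Type*} [Group G] [Finite G] (hG : Cfsg.IsMinSimpleOddOrder G)
    (M : Subgroup G) (hM : IsCoatom M) (p : ℕ) [hpf : Fact p.Prime] (hp : p ∈ Cfsg.sigma M) :
    ∀ X : Subgroup G, IsPGroup p X → X ≠ ⊥ → X ≤ M →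
      (∀ g : G, X.map (MulAut.conj g).toMonoidHom ≤ M →
        ∃ m ∈ M, ∃ c ∈ Subgroup.centralizer (X : Set G), g = m * c) ∧
      ∃ T : Subgroup G, IsPGroup p T ∧ T ≤ M ⊓ Subgroup.normalizer (X : Set G) ∧
        ∀ R : Subgroup G, IsPGroup p R → T ≤ R → R ≤ Subgroup.normalizer (X : Set G) → R = T := by
  intro X
  induction h : Nat.card G - Nat.card X using Nat.strong_induction_on generalizing X with
  | _ k ih => ?_
  intro hXp hX1 hXM
  set H := Subgroup.normalizer (X : Set G) with hH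
  -- a Sylow subgroup of `M ∩ N(Y)` strictly above `Y` is one of `N(Y)`
  have claim : ∀ Y : Subgroup G, Nat.card Y = Nat.card X → IsPGroup p Y → Y ≠ ⊥ →
      ∀ T : Subgroup G, IsPGroup p T → Y < T → T ≤ M ⊓ Subgroup.normalizer (Y : Set G) →
      (∀ R : Subgroup G, IsPGroup p R → T ≤ R → R ≤ M ⊓ Subgroup.normalizer (Y : Set G) → R = T) →
      ∀ R : Subgroup G, IsPGroup p R → T ≤ R → R ≤ Subgroup.normalizer (Y : Set G) → R = T := by
    intro Y hYc hYp hY1 T hT hYT hTM hmax R hR hTR hRN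
    refine Uniq.eq_of_normalizer_max hR hTR fun U hU hTU hUR hUN => ?_
    have hT1 : T ≠ ⊥ := fun e => not_lt_bot (e ▸ hYT)
    have hcard : Nat.card Y < Nat.card T := by
      rcases lt_or_ge (Nat.card Y) (Nat.card T) with h' | h'
      · exact h'
      · exact absurd (Subgroup.eq_of_le_of_card_ge hYT.le h') hYT.ne
    have hle := Subgroup.card_le_card_group T
    obtain ⟨hconj, T₁, hT₁, hT₁M, hT₁max⟩ :=
      ih (Nat.card G - Nat.card T) (by omega) T rfl hT hT1 (hTM.trans inf_le_left)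
    obtain ⟨S, hS⟩ := Uniq.exists_sylow_of_max hT₁ (hT₁M.trans inf_le_right) hT₁max
    obtain ⟨n, hn, hnU⟩ := into S hU hUN
    rw [hS] at hnU
    have hnUM : U.map (MulAut.conj n).toMonoidHom ≤ M := hnU.trans (hT₁M.trans inf_le_left)
    obtain ⟨m, hm, c, hc, rfl⟩ := hconj n ((Subgroup.map_mono hTU).trans hnUM)
    have hcT : T ≤ U.map (MulAut.conj c).toMonoidHom := fun t ht => ⟨t, hTU ht, by
      show c * t * c⁻¹ = t
      rw [← Subgroup.mem_centralizer_iff.1 hc t ht, mul_inv_cancel_right]⟩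
    have hcU : U.map (MulAut.conj c).toMonoidHom ≤ M ⊓ Subgroup.normalizer (Y : Set G) := by
      rintro _ ⟨u, hu, rfl⟩
      refine ⟨?_, ?_⟩
      · have h1 := mul_mem (mul_mem (inv_mem hm) (hnUM (Subgroup.mem_map_of_mem _ hu))) hm
        simpa [mul_assoc] using h1
      · have hcY : c ∈ Subgroup.normalizer (Y : Set G) :=
          Subgroup.centralizer_le_normalizer _ (Subgroup.centralizer_le hYT.le hc)
        exact (Subgroup.normalizer (Y : Set G)).mul_mem ((Subgroup.normalizer (Y : Set G)).mul_mem hcY (hRN (hUR hu)))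
          ((Subgroup.normalizer (Y : Set G)).inv_mem hcY)
    have e := hmax _ (hU.map _) hcT hcU
    refine (Subgroup.eq_of_le_of_card_ge hTU ?_).symm
    rw [← Subgroup.card_map_of_injective (f := (MulAut.conj c).toMonoidHom) (MulAut.conj c).injective, e]
  have hex : ∀ Y : Subgroup G, Nat.card Y = Nat.card X → IsPGroup p Y → Y ≤ M →
      ∃ T : Subgroup G, IsPGroup p T ∧ Y ≤ T ∧ T ≤ M ⊓ Subgroup.normalizer (Y : Set G) ∧
        ∀ R : Subgroup G, IsPGroup p R → T ≤ R → R ≤ M ⊓ Subgroup.normalizer (Y : Set G) → R = T := by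
    intro Y _ hYp hYM
    obtain ⟨T, hYT, hT⟩ := Finite.exists_le_maximal
      (p := fun T : Subgroup G => IsPGroup p T ∧ T ≤ M ⊓ Subgroup.normalizer (Y : Set G)) (a := Y)
      ⟨hYp, le_inf hYM Subgroup.le_normalizer⟩
    exact ⟨T, hT.1.1, hYT, hT.1.2, fun R hR hTR hRM => le_antisymm (hT.2 ⟨hR, hRM⟩ hTR) hTR⟩
  obtain ⟨T, hT, hXT, hTM, hTmax⟩ := hex X rfl hXp hXM
  rcases eq_or_lt_of_le hXT with rfl | hlt
  · -- `X` is a Sylow subgroup of `M`
    obtain ⟨P, hP⟩ := Uniq.exists_sylow_of_max hXp hXM fun R hR hXR hRM =>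
      Uniq.eq_of_normalizer_max hR hXR fun U hU hXU hUR hUN =>
        hTmax U hU hXU (le_inf (hUR.trans hRM) hUN)
    have hNM : H ≤ M := by
      have := Sigma.normalizer_le hp P
      rwa [Sigma.top, hP] at this
    refine ⟨fun g hg => ?_, X, hXp, hTM, fun R hR hXR hRN => hTmax R hR hXR (le_inf (hRN.trans hNM) hRN)⟩
    obtain ⟨h, hh, hle⟩ := into P (hXp.map (MulAut.conj g).toMonoidHom) hg
    rw [hP, Trans.conj_map_mul] at hle
    have hmem : h * g ∈ H := Subgroup.mem_normalizer_iff_map_conj_eq.2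
      (Subgroup.eq_of_le_of_card_ge hle (Subgroup.card_map_of_injective (MulAut.conj (h * g)).injective).ge)
    exact ⟨g, by simpa using mul_mem (inv_mem hh) (hNM hmem), 1, one_mem _, by simp⟩
  have hTsyl := claim X rfl hXp hX1 T hT hlt hTM hTmax
  refine ⟨fun g hg => ?_, T, hT, hTM, hTsyl⟩
  have hTN : T ≤ H := hTM.trans inf_le_right
  have hT1 : T ≠ ⊥ := fun e => not_lt_bot (e ▸ hlt)
  have hcard : Nat.card X < Nat.card T := by
    rcases lt_or_ge (Nat.card X) (Nat.card T) with h' | h'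
    · exact h'
    · exact absurd (Subgroup.eq_of_le_of_card_ge hXT h') hlt.ne
  have hle := Subgroup.card_le_card_group T
  obtain ⟨hconj, -⟩ := ih (Nat.card G - Nat.card T) (by omega) T rfl hT hT1 (hTM.trans inf_le_left)
  -- `N(X) = N_M(X) C(X)`
  have hdec : ∀ n ∈ H, ∃ m ∈ M, ∃ c ∈ Subgroup.centralizer (X : Set G), n = m * c := by
    have hHt : H ≠ ⊤ := Trans.normalizer_ne_top hG hX1 fun e => hM.1 (top_le_iff.1 (e ▸ hXM))
    by_cases hr : Cfsg.PRankLE p 2 T
    swap
    · intro n hn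
      exact ⟨n, Uniq.le_unique (Sigma.member_pGroup hG hT hr) hM (hTM.trans inf_le_left) hHt hTN hn, 1,
        one_mem _, by simp⟩
    haveI := Trans.solvable_proper hG hHt
    obtain ⟨S, hS⟩ := Uniq.exists_sylow_of_max hT hTN hTsyl
    have hpH : p ∣ Nat.card H := by
      obtain ⟨j, hj⟩ := IsPGroup.iff_card.1 hT
      have hj0 : j ≠ 0 := fun e => hT1 (Subgroup.card_eq_one.1 (by rw [hj, e, pow_zero]))
      exact ((dvd_pow_self p hj0).trans hj.symm.dvd).trans (Subgroup.card_dvd_of_le hTN)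
    have hrS : Cfsg.PRankLE p 2 (S : Subgroup H) := FitUniq.rank_of_map (S := H) (hS ▸ hr)
    have hidx := (Cfsg.Agent.S1450.result (hG.1.of_dvd_nat H.card_subgroup_dvd_card) p hpH
      (Uniq.rank_of_sylow S hrS)).2.2.2.2.2
    have h0 := Uniq.sup_normalizer_inf S
    rw [Uniq.inf_pPrimePCore_of_index S hidx] at h0
    intro n hn
    haveI := CfsgLib.Solv.pPrimeCore_normal H p
    have hmem : (⟨n, hn⟩ : H) ∈ ((pPrimeCore p H ⊔ Subgroup.normalizer ((S : Subgroup H) : Set H) :
        Subgroup H) : Set H) := h0.ge (Subgroup.mem_top _)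
    rw [Subgroup.normal_mul] at hmem
    obtain ⟨u, hu, v, hv, huv⟩ := hmem
    have hcore : Uniq.core p H ≤ Subgroup.centralizer (X : Set G) := by
      refine Bender.le_centralizer_of_normalizes (Uniq.core_le H)
        (Subgroup.le_normalizer.trans (Uniq.le_normalizer_core H)) (inf_eq_bot_of_coprime_card ?_)
      obtain ⟨j, hj⟩ := IsPGroup.iff_card.1 hXp
      exact hj ▸ (Uniq.coprime_core H).pow_right j
    have huC : (u : G) ∈ Subgroup.centralizer (X : Set G) := hcore (Subgroup.mem_map_of_mem _ hu)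
    have hvT : (v : G) ∈ Subgroup.normalizer (T : Set G) := hS ▸ Uniq.map_le_normalizer hv
    have hvfix : T.map (MulAut.conj (v : G)).toMonoidHom = T :=
      Subgroup.mem_normalizer_iff_map_conj_eq.1 hvT
    obtain ⟨m, hm, c, hc, hvmc⟩ := hconj v (hvfix.le.trans (hTM.trans inf_le_left))
    have hcX : c ∈ Subgroup.centralizer (X : Set G) := Subgroup.centralizer_le hXT hc
    have hmH : m ∈ H := by
      have h1 := mul_mem (show (v : G) ∈ H from v.2) (inv_mem (Subgroup.centralizer_le_normalizer _ hcX))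
      rwa [hvmc, mul_inv_cancel_right] at h1
    refine ⟨m, hm, m⁻¹ * u * m * c, mul_mem ?_ hcX, ?_⟩
    · have h1 := (Subgroup.mem_normalizer_iff.1 (Uniq.normalizer_centralizer X (inv_mem hmH)) (u : G)).1 huC
      simpa using h1
    · have e : n = (u : G) * v := (congrArg Subtype.val huv).symm
      rw [e, hvmc]; group
  set X' := X.map (MulAut.conj g).toMonoidHom with hX'
  have hX'c : Nat.card X' = Nat.card X := Subgroup.card_map_of_injective (MulAut.conj g).injective
  have hX'p : IsPGroup p X' := hXp.map _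
  have hX'1 : X' ≠ ⊥ := fun e => hX1 (Subgroup.card_eq_one.1 (by rw [← hX'c, e, Subgroup.card_bot]))
  obtain ⟨T', hT', hX'T', hT'M, hT'max⟩ := hex X' hX'c hX'p hg
  have hT'syl : ∀ R : Subgroup G, IsPGroup p R → T' ≤ R → R ≤ Subgroup.normalizer (X' : Set G) → R = T' := by
    rcases eq_or_lt_of_le hX'T' with rfl | hlt'
    · -- impossible: `X'` would be Sylow in `M`
      obtain ⟨P, hP⟩ := Uniq.exists_sylow_of_max hX'p hg fun R hR hXR hRM =>
        Uniq.eq_of_normalizer_max hR hXR fun U hU hXU hUR hUN =>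
          hT'max U hU hXU (le_inf (hUR.trans hRM) hUN)
      have hNM : Subgroup.normalizer (X' : Set G) ≤ M := by
        have := Sigma.normalizer_le hp P
        rwa [Sigma.top, hP] at this
      exact fun R hR hXR hRN => hT'max R hR hXR (le_inf (hRN.trans hNM) hRN)
    · exact claim X' hX'c hX'p hX'1 T' hT' hlt' hT'M hT'max
  obtain ⟨S', hS'⟩ := Uniq.exists_sylow_of_max hT' (hT'M.trans inf_le_right) hT'syl
  obtain ⟨h, hh, hle⟩ := into S' (hT.map (MulAut.conj g).toMonoidHom)
    ((Subgroup.map_mono hTN).trans (Trans.map_conj_normalizer g X).le)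
  rw [hS', Trans.conj_map_mul] at hle
  obtain ⟨m, hm, c, hc, he⟩ := hconj (h * g) (hle.trans (hT'M.trans inf_le_left))
  have hcX : c ∈ Subgroup.centralizer (X : Set G) := Subgroup.centralizer_le hXT hc
  have hcfix : X.map (MulAut.conj c).toMonoidHom = X :=
    Subgroup.mem_normalizer_iff_map_conj_eq.1 (Subgroup.centralizer_le_normalizer _ hcX)
  have hhfix : X'.map (MulAut.conj h).toMonoidHom = X' := Subgroup.mem_normalizer_iff_map_conj_eq.1 hh
  have hmX : X.map (MulAut.conj m).toMonoidHom = X' := by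
    conv_lhs => rw [← hcfix]
    rw [Trans.conj_map_mul, ← he, ← Trans.conj_map_mul]
    exact hhfix
  have hn : m⁻¹ * g * c⁻¹ ∈ H := by
    refine Subgroup.mem_normalizer_iff_map_conj_eq.2 ?_
    show X.map (MulAut.conj (m⁻¹ * g * c⁻¹)).toMonoidHom = X
    have hcfix' : X.map (MulAut.conj c⁻¹).toMonoidHom = X := Subgroup.mem_normalizer_iff_map_conj_eq.1
      (Subgroup.centralizer_le_normalizer _ (inv_mem hcX))
    rw [← Trans.conj_map_mul, hcfix', ← Trans.conj_map_mul, ← hX', ← hmX, Trans.conj_map_mul,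
      inv_mul_cancel, Trans.map_conj_one]
  obtain ⟨m', hm', c', hc', hn'⟩ := hdec _ hn
  exact ⟨m * m', mul_mem hm hm', c' * c, mul_mem hc' hcX, by
    rw [mul_assoc, ← mul_assoc m', ← hn']; group⟩


/-- Let G be a minimal simple group of odd order, M a maximal subgroup, p a prime in σ(M), and X a nontrivial p-subgroup of M. If gXg⁻¹ ≤ M for some g ∈ G then g = m c with m ∈ M and c ∈ C_G(X); and the normalizer of X is generated by N_M(X) and C_G(X). -/
theorem result {G : Type*} [Group G] [Finite G] (hG : Cfsg.IsMinSimpleOddOrder G)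
    (M : Subgroup G) (hM : IsCoatom M) (p : ℕ) [Fact p.Prime] (hp : p ∈ Cfsg.sigma M)
    (X : Subgroup G) (hXp : IsPGroup p X) (hX1 : X ≠ ⊥) (hXM : X ≤ M) :
    (∀ g : G, X.map (MulAut.conj g).toMonoidHom ≤ M → ∃ m ∈ M, ∃ c ∈ Subgroup.centralizer (X : Set G), g = m * c) ∧
      Subgroup.normalizer (X : Set G) = (M ⊓ Subgroup.normalizer (X : Set G)) ⊔ Subgroup.centralizer (X : Set G) := by
  have h := (main hG M hM p hp X hXp hX1 hXM).1
  refine ⟨h, le_antisymm (fun n hn => ?_) (sup_le inf_le_right (Subgroup.centralizer_le_normalizer _))⟩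
  have hfix : X.map (MulAut.conj n).toMonoidHom = X := Subgroup.mem_normalizer_iff_map_conj_eq.1 hn
  obtain ⟨m, hm, c, hc, rfl⟩ := h n (hfix.le.trans hXM)
  refine Subgroup.mul_mem_sup ⟨hm, ?_⟩ hc
  have := mul_mem hn (inv_mem (Subgroup.centralizer_le_normalizer _ hc))
  simpa using this

end Cfsg.Agent.S1404
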