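import Cfsg.Statements.S1405
import Cfsg.Agent.OddLocal.Sigma

set_option autoImplicit false
open Cfsg

namespace Cfsg.Agent.S1405

/-- Let G be a minimal simple group of odd order and M a maximal subgroup, α(M) the set of primes p with M of p-rank at least 3, and M_α = O_{α(M)}(M). Then M_α is a Hall α(M)-subgroup of M and of G, M_α ≤ M_σ, the quotient M/M_α has no elementary abelian subgroup of order p ^ 3 for any prime p, and the image of M' in M/M_α is nilpotent. -/
theorem result {G : Type*} [Group G] [Finite G] (hG : Cfsg.IsMinSimpleOddOrder G)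
    (M : Subgroup G) (hM : IsCoatom M) :
    Cfsg.IsPiHallOf (Cfsg.alpha M) (Cfsg.alphaCore M) M ∧ Cfsg.IsPiHall (Cfsg.alpha M) (Cfsg.alphaCore M) ∧
      Cfsg.alphaCore M ≤ Cfsg.sigmaCore M ∧ Cfsg.RankLE 2 (↥M ⧸ Cfsg.piCore (Cfsg.alpha M) ↥M) ∧
      Group.IsNilpotent ↥((commutator ↥M).map (QuotientGroup.mk' (Cfsg.piCore (Cfsg.alpha M) ↥M))) := by
  open CfsgLib.OddLocal in
  exact (by
    haveI : (piCore (alpha M) M).Normal := by
      haveI := CfsgLib.Solv.piCore_characteristic (π := alpha M) (G := M); infer_instance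
    have hh := Sigma.hall hG hM (Sigma.alpha_subset_sigma hG hM)
      fun p hp hpα => Sigma.not_dvd_index_alpha hG hM hp hpα
    refine ⟨hh.1, hh.2, Subgroup.map_mono (CfsgLib.Solv.le_piCore
      ((Sigma.piNat_alphaCore M).mono (Sigma.alpha_subset_sigma hG hM))), fun q hq => ?_, ?_⟩
    · haveI := Fact.mk hq
      by_cases hqα : q ∈ alpha M
      swap
      · exact Sigma.rank_quotient hG hqα
      intro C _ hCp
      by_cases hC : C = ⊥
      · rw [hC, Subgroup.card_bot]; exact Nat.one_le_pow _ _ hq.pos
      obtain ⟨k, hk⟩ := (IsPGroup.iff_card (p := q) (G := C)).1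
        fun x => ⟨1, by rw [pow_one]; exact Subtype.ext (hCp x x.2)⟩
      have hk0 : k ≠ 0 := fun e => hC (Subgroup.card_eq_one.1 (by rw [hk, e, pow_zero]))
      exact absurd (((dvd_pow_self q hk0).trans hk.symm.dvd).trans C.card_subgroup_dvd_card)
        (Subgroup.index_eq_card (piCore (alpha M) M) ▸ Sigma.not_dvd_index_alpha hG hM hq hqα)
    · have e : (commutator M).map (QuotientGroup.mk' (piCore (alpha M) M)) =
          commutator (M ⧸ piCore (alpha M) M) := by
        rw [commutator_def, commutator_def, Subgroup.map_commutator,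
          Subgroup.map_top_of_surjective _ (QuotientGroup.mk'_surjective _)]
      rw [e]
      exact (Sigma.commutator_quotient hG hM).1)

end Cfsg.Agent.S1405
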