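import Cfsg.Statements.S1408
import Cfsg.Agent.OddLocal.Sigma

set_option autoImplicit false
open Cfsg

namespace Cfsg.Agent.S1408

/-- Let G be a minimal simple group of odd order, M a maximal subgroup, and p a prime not in σ(M) such that M has p-rank exactly 2. Then p is not an ideal prime for G, and every elementary abelian subgroup of M of order p ^ 2 is maximal among elementary abelian p-subgroups of G. -/
theorem result {G : Type*} [Group G] [Finite G] (hG : Cfsg.IsMinSimpleOddOrder G)
    (M : Subgroup G) (hM : IsCoatom M) (p : ℕ) [Fact p.Prime] (hp : p ∉ Cfsg.sigma M) (hr2 : Cfsg.PRankLE p 2 M) (hr1 : ¬ Cfsg.PRankLE p 1 M) :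
    ¬ Cfsg.IsIdealPrime p G ∧ ∀ A : Subgroup G, A ≤ M → Cfsg.IsElementaryAbelian p A → Nat.card A = p ^ 2 →
        ∀ B : Subgroup G, Cfsg.IsElementaryAbelian p B → A ≤ B → B = A := by
  open CfsgLib.OddLocal in
  exact (by
    have hmax : ∀ A : Subgroup G, A ≤ M → IsElementaryAbelian p A → Nat.card A = p ^ 2 →
        ∀ B : Subgroup G, IsElementaryAbelian p B → A ≤ B → B = A := by
      intro A hAM hA hA2 B hB hAB
      by_contra hne
      have hlt : Nat.card A < Nat.card B := by
        rcases lt_or_ge (Nat.card A) (Nat.card B) with h | h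
        · exact h
        · exact absurd (Subgroup.eq_of_le_of_card_ge hAB h).symm hne
      have hB3 : ¬ PRankLE p 2 (Subgroup.centralizer (A : Set G)) := by
        intro h
        have hBC : B ≤ Subgroup.centralizer (A : Set G) := fun b hb =>
          Subgroup.mem_centralizer_iff.2 fun a ha =>
            congrArg (fun w : B => (w : G)) (hB.1.is_comm.comm ⟨a, hAB ha⟩ ⟨b, hb⟩)
        have h1 := FitUniq.rank_of_le hBC h ⊤ (by haveI := hB.1; infer_instance)
          fun a _ => Subtype.ext (hB.2 a a.2)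
        rw [Subgroup.card_top] at h1
        omega
      obtain ⟨P, hP⟩ := ((Uniq.isPGroup_elementary hA).comap_of_injective M.subtype M.subtype_injective :
        IsPGroup p (A.subgroupOf M)).exists_le_sylow
      have hAS : A ≤ Sigma.top P :=
        (Subgroup.map_subgroupOf_eq_of_le hAM).ge.trans (Subgroup.map_mono hP)
      have hU := Sigma.member hG hA hA2.ge hB3 hAS (Sigma.top_ne_top hG hM P)
      have hpM : p ∣ Nat.card M :=
        ((dvd_pow_self p two_ne_zero).trans hA2.symm.dvd).trans (Subgroup.card_dvd_of_le hAM)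
      exact hp ⟨Fact.out, hpM, P, Uniq.le_unique hU hM (Subgroup.map_subtype_le _)
        (Trans.normalizer_ne_top hG (Uniq.ne_bot hG hU) (Sigma.top_ne_top hG hM P)) Subgroup.le_normalizer⟩
    refine ⟨fun hI => ?_, hmax⟩
    simp only [PRankLE, not_forall, not_le] at hr1
    obtain ⟨C, hC, hCp, hCc⟩ := hr1
    have hC2 : Nat.card C = p ^ 2 := by
      obtain ⟨n, hn⟩ := (IsPGroup.iff_card (p := p) (G := C)).1
        fun x => ⟨1, by rw [pow_one]; exact Subtype.ext (hCp x x.2)⟩
      have h2 := hr2 C hC hCp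
      rw [hn] at hCc h2 ⊢
      have h3 := (Nat.pow_lt_pow_iff_right (Fact.out : p.Prime).one_lt).1 hCc
      have h4 := (Nat.pow_le_pow_iff_right (Fact.out : p.Prime).one_lt).1 h2
      rw [show n = 2 by omega]
    have hAe : IsElementaryAbelian p (C.map M.subtype) := by
      refine ⟨⟨⟨?_⟩⟩, ?_⟩
      · rintro ⟨_, a, ha, rfl⟩ ⟨_, b, hb, rfl⟩
        exact Subtype.ext (congrArg (fun z : C => ((z : M) : G)) (hC.is_comm.comm ⟨a, ha⟩ ⟨b, hb⟩))
      · rintro _ ⟨a, ha, rfl⟩
        rw [← map_pow, hCp a ha, map_one]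
    have hAc : Nat.card (C.map M.subtype) = p ^ 2 := by rw [CfsgLib.Solv.card_map_subtype, hC2]
    obtain ⟨Q, hQ⟩ := (Uniq.isPGroup_elementary hAe).exists_le_sylow
    obtain ⟨B, -, hB, hlt⟩ := hI.2.2 Q _ hQ hAe hAc
    exact hlt.ne (hmax _ (Subgroup.map_subtype_le _) hAe hAc B hB hlt.le).symm)

end Cfsg.Agent.S1408
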