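import Cfsg.Statements.S1409
import Cfsg.Agent.S1408

set_option autoImplicit false
open Cfsg

namespace Cfsg.Agent.S1409

/-- Let G be a minimal simple group of odd order, M a maximal subgroup, p a prime not in σ(M), and X a subgroup of order p with N_G(X) ≤ M. Then M has p-rank exactly 2, p is not an ideal prime for G, and X is contained in some elementary abelian subgroup of G of order p ^ 2. -/
theorem result {G : Type*} [Group G] [Finite G] (hG : Cfsg.IsMinSimpleOddOrder G)
    (M : Subgroup G) (hM : IsCoatom M) (p : ℕ) [Fact p.Prime] (hp : p ∉ Cfsg.sigma M) (X : Subgroup G) (hX : Nat.card X = p)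
    (hNX : Subgroup.normalizer (X : Set G) ≤ M) :
    (Cfsg.PRankLE p 2 M ∧ ¬ Cfsg.PRankLE p 1 M) ∧ ¬ Cfsg.IsIdealPrime p G ∧
      ∃ A : Subgroup G, Cfsg.IsElementaryAbelian p A ∧ Nat.card A = p ^ 2 ∧ X ≤ A := by
  open CfsgLib.OddLocal CfsgLib.Solv in
  exact (by
    have hpp := (Fact.out : p.Prime)
    have hX1 : X ≠ ⊥ := fun e => hpp.ne_one (by rw [← hX, e, Subgroup.card_bot])
    have hXM : X ≤ M := Subgroup.le_normalizer.trans hNX
    have hXp : IsPGroup p X := IsPGroup.of_card (n := 1) (by rw [hX, pow_one])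
    have hpM : p ∣ Nat.card M := hX ▸ Subgroup.card_dvd_of_le hXM
    have hp2 : p ≠ 2 := TransHyp.ne_two hG (hpM.trans (Subgroup.card_subgroup_dvd_card M))
    have hr2 : PRankLE p 2 M := by
      by_contra h
      exact hp (Sigma.alpha_subset_sigma hG hM ⟨hpp, h⟩)
    obtain ⟨P, hP⟩ := (hXp.comap_of_injective M.subtype M.subtype_injective :
      IsPGroup p (X.subgroupOf M)).exists_le_sylow
    have hXS : X ≤ Sigma.top P := (Subgroup.map_subgroupOf_eq_of_le hXM).ge.trans (Subgroup.map_mono hP)
    have hSnc : ¬ IsCyclic (Sigma.top P) := by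
      intro hc
      refine hp ⟨hpp, hpM, P, le_trans ?_ hNX⟩
      intro g hg
      rw [Subgroup.mem_normalizer_iff_map_conj_eq]
      have hfix : (Sigma.top P).map (MulAut.conj g).toMonoidHom = Sigma.top P :=
        Subgroup.mem_normalizer_iff_map_conj_eq.1 hg
      have hle : X.map (MulAut.conj g).toMonoidHom ≤ Sigma.top P := (Subgroup.map_mono hXS).trans hfix.le
      haveI := hc
      have key : ∀ Y : Subgroup G, Y ≤ Sigma.top P → Nat.card Y = p →
          ∀ Y' : Subgroup G, Y' ≤ Sigma.top P → Nat.card Y' = p → Y ≤ Y' := by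
        intro Y hY hYc Y' hY' hY'c
        by_contra hne
        have hs : Y' ⊔ Y ≤ Sigma.top P := sup_le hY' hY
        have hcy : IsCyclic (Y' ⊔ Y : Subgroup G) :=
          isCyclic_of_injective (Subgroup.inclusion hs) (Subgroup.inclusion_injective hs)
        have hpow : ∀ a ∈ Y' ⊔ Y, a ^ p = 1 := by
          intro a ha
          haveI : IsMulCommutative (Y' ⊔ Y : Subgroup G) := hcy.isMulCommutative
          let φ : (Y' ⊔ Y : Subgroup G) →* (Y' ⊔ Y : Subgroup G) :=
            { toFun := fun b => b ^ p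
              map_one' := one_pow p
              map_mul' := fun b c => (show Commute b c from IsMulCommutative.is_comm.comm b c).mul_pow p }
          have h1 : Y' ⊔ Y ≤ φ.ker.map (Y' ⊔ Y).subtype := by
            refine sup_le (fun b hb => ?_) (fun b hb => ?_)
            · refine ⟨⟨b, Subgroup.mem_sup_left hb⟩, Subtype.ext ?_, rfl⟩
              exact congrArg (fun t : Y' => (t : G)) (show (⟨b, hb⟩ : Y') ^ p = 1 by rw [← hY'c, pow_card_eq_one'])
            · refine ⟨⟨b, Subgroup.mem_sup_right hb⟩, Subtype.ext ?_, rfl⟩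
              exact congrArg (fun t : Y => (t : G)) (show (⟨b, hb⟩ : Y) ^ p = 1 by rw [← hYc, pow_card_eq_one'])
          obtain ⟨b, hb, rfl⟩ := h1 ha
          exact congrArg Subtype.val hb
        haveI := hcy
        have h1 : Nat.card (Y' ⊔ Y : Subgroup G) ≤ p := by
          rw [← IsCyclic.exponent_eq_card]
          exact Nat.le_of_dvd hpp.pos (Monoid.exponent_dvd_of_forall_pow_eq_one fun a =>
            Subtype.ext (hpow a a.2))
        exact hne ((Subgroup.eq_of_le_of_card_ge (le_sup_left : Y' ≤ Y' ⊔ Y) (h1.trans hY'c.ge)).symm ▸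
          le_sup_right)
      exact le_antisymm (key _ hle (by rw [Subgroup.card_map_of_injective (MulAut.conj g).injective, hX])
        X hXS hX) (key X hXS hX _ hle (by rw [Subgroup.card_map_of_injective (MulAut.conj g).injective, hX]))
    have hr1 : ¬ PRankLE p 1 M := by
      intro h
      obtain ⟨E, hE, hEe, hE2, -⟩ := Uniq.exists_square hp2 (P.isPGroup'.map M.subtype) hSnc
      have h1 := FitUniq.rank_of_le (hE.trans (Subgroup.map_subtype_le _)) h ⊤
        (by haveI := hEe.1; infer_instance) fun a _ => Subtype.ext (hEe.2 a a.2)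
      rw [Subgroup.card_top, hE2, pow_one] at h1
      exact absurd h1 (not_le.2 ((pow_one p).symm.trans_lt (Nat.pow_lt_pow_right hpp.one_lt one_lt_two)))
    refine ⟨⟨hr2, hr1⟩, (Cfsg.Agent.S1408.result hG M hM p hp hr2 hr1).1, ?_⟩
    obtain ⟨E, hE, hEe, hE2, hEn⟩ := Uniq.exists_square hp2 (P.isPGroup'.map M.subtype) hSnc
    by_cases hXE : X ≤ E
    · exact ⟨E, hEe, hE2, hXE⟩
    obtain ⟨x, hx, hxE⟩ := SetLike.not_le_iff_exists.1 hXE
    have hxp : x ^ p = 1 := by
      have : (⟨x, hx⟩ : X) ^ p = 1 := by rw [← hX, pow_card_eq_one']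
      exact congrArg Subtype.val this
    -- `x` fixes a nontrivial element of `E`
    obtain ⟨z, hz, hz1, hzx⟩ : ∃ z ∈ E, z ≠ 1 ∧ x * z = z * x := by
      haveI : (E.subgroupOf (Sigma.top P)).Normal := Subgroup.normal_subgroupOf_of_le_normalizer hEn
      obtain ⟨w, hw, hw1⟩ := ((E.subgroupOf (Sigma.top P)) ⊓
          Subgroup.center (Sigma.top P)).bot_or_exists_ne_one.resolve_left
        (CfsgLib.Perm.inf_center_ne_bot (P.isPGroup'.map M.subtype) _ (by
          rw [Ne, Subgroup.subgroupOf_eq_bot, disjoint_iff, inf_eq_left.2 hE]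
          exact fun e => absurd (e ▸ hE2) (by
            rw [Subgroup.card_bot]; exact (Nat.one_lt_pow two_ne_zero hpp.one_lt).ne)))
      exact ⟨w, Subgroup.mem_subgroupOf.1 hw.1, fun e => hw1 (Subtype.ext e),
        congrArg Subtype.val (Subgroup.mem_center_iff.1 hw.2 ⟨x, hXS hx⟩)⟩
    have hZe : IsElementaryAbelian p (Subgroup.zpowers z) := Uniq.elementary_of_le hEe (Subgroup.zpowers_le.2 hz)
    have hcomm : ∀ e ∈ Subgroup.zpowers z, e * x = x * e := by
      intro e he
      obtain ⟨i, rfl⟩ := Subgroup.mem_zpowers_iff.1 he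
      exact ((show Commute z x from hzx.symm).zpow_left i).eq
    set A := Subgroup.zpowers z ⊔ Subgroup.zpowers x
    have hAe : IsElementaryAbelian p A := SCN3.mem_sup_elementary hZe hxp hcomm
    have hXA : X ≤ A := by
      haveI : Fact (Nat.card X).Prime := ⟨hX.symm ▸ hpp⟩
      rcases ((Subgroup.zpowers x).subgroupOf X).eq_bot_or_eq_top_of_prime_card with h | h
      · rw [Subgroup.subgroupOf_eq_bot, disjoint_iff, inf_eq_left.2 (Subgroup.zpowers_le.2 hx),
          Subgroup.zpowers_eq_bot] at h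
        exact absurd (h ▸ one_mem E) hxE
      · exact (Subgroup.subgroupOf_eq_top.1 h).trans le_sup_right
    refine ⟨A, hAe, ?_, hXA⟩
    obtain ⟨n, hn⟩ := Sig.card_eq_pow hAe
    have hAM : A ≤ M := sup_le ((Subgroup.zpowers_le.2 hz).trans (hE.trans (Subgroup.map_subtype_le _)))
      (Subgroup.zpowers_le.2 (hXM hx))
    have h2 := FitUniq.rank_of_le hAM hr2 ⊤ (by haveI := hAe.1; infer_instance)
      fun a _ => Subtype.ext (hAe.2 a a.2)
    rw [Subgroup.card_top, hn] at h2
    have h4 := (Nat.pow_le_pow_iff_right hpp.one_lt).1 h2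
    have h3 : 2 ≤ n := by
      by_contra hlt
      have hzc : Nat.card (Subgroup.zpowers z) = p := by
        rw [Nat.card_zpowers]; exact orderOf_eq_prime (hEe.2 z hz) hz1
      have e : Subgroup.zpowers z = A := Subgroup.eq_of_le_of_card_ge le_sup_left (by
        rw [hn, hzc]; exact (Nat.pow_le_pow_right hpp.pos (show n ≤ 1 by omega)).trans_eq (pow_one p))
      exact hxE (Subgroup.zpowers_le.2 hz (e ▸ Subgroup.mem_sup_right (Subgroup.mem_zpowers x)))
    rw [hn, show n = 2 by omega])

end Cfsg.Agent.S1409
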