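import Cfsg.Statements.S1410
import Cfsg.Agent.OddLocal.PLenMax

set_option autoImplicit false
open Cfsg

namespace Cfsg.Agent.S1410

/-- Let G be a minimal simple group of odd order. Then for every prime p and every proper subgroup H of G, H = O_{p',p,p'}(H). -/
theorem result {G : Type*} [Group G] [Finite G] (hG : Cfsg.IsMinSimpleOddOrder G) (p : ℕ) [Fact p.Prime] (H : Subgroup G) (hH : H ≠ ⊤) :
    Cfsg.PLengthLE p 1 H := by
  obtain ⟨M, hM, hHM⟩ := (eq_top_or_exists_le_coatom H).resolve_left hH
  exact CfsgLib.OddLocal.PLenMax.plen_of_good_top (CfsgLib.OddLocal.PLenMax.good_comap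
    (Subgroup.inclusion hHM) (Subgroup.inclusion_injective hHM)
    (CfsgLib.OddLocal.PLenMax.good_maximal hG hM p))

end Cfsg.Agent.S1410
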