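import Cfsg.Statements.S1411
import Cfsg.Agent.OddLocal.SylowControl

set_option autoImplicit false
open Cfsg

namespace Cfsg.Agent.S1411

/-- Let G be a minimal simple group of odd order, p a prime, P a Sylow p-subgroup of G and V a complement to P in its normalizer N_G(P). Then P equals the commutator subgroup [P, V], and P is contained in the derived subgroup of N_G(P). -/
theorem result {G : Type*} [Group G] [Finite G] (hG : Cfsg.IsMinSimpleOddOrder G) (p : ℕ) [Fact p.Prime] (P : Sylow p G)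
    (V : Subgroup G) (hV : Cfsg.IsComplIn (P : Subgroup G) V (Subgroup.normalizer ((P : Subgroup G) : Set G))) :
    (P : Subgroup G) = ⁅(P : Subgroup G), V⁆ ∧
      (P : Subgroup G) ≤ ⁅Subgroup.normalizer ((P : Subgroup G) : Set G), Subgroup.normalizer ((P : Subgroup G) : Set G)⁆ := by
  classical
  by_cases hpG : p ∣ Nat.card G
  swap
  · have hP : (P : Subgroup G) = ⊥ := by
      obtain ⟨k, hk⟩ := IsPGroup.iff_card.1 P.2
      refine Subgroup.card_eq_one.1 (hk.trans ?_)
      rcases Nat.eq_zero_or_pos k with rfl | h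
      · exact pow_zero p
      · exact absurd ((hk ▸ dvd_pow_self p h.ne').trans (Subgroup.card_subgroup_dvd_card _)) hpG
    rw [hP]; simp
  set N := Subgroup.normalizer ((P : Subgroup G) : Set G) with hN
  have hP1 : (P : Subgroup G) ≠ ⊥ := P.ne_bot_of_dvd_card hpG
  have hPt : (P : Subgroup G) ≠ ⊤ := CfsgLib.OddLocal.SylowControl.pGroup_ne_top hG P.2
  have hNt : N ≠ ⊤ := CfsgLib.OddLocal.SylowControl.normalizer_ne_top hG hP1 hPt
  obtain ⟨M, hM, hNM⟩ := (eq_top_or_exists_le_coatom N).resolve_left hNt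
  have hPN : (P : Subgroup G) ≤ N := Subgroup.le_normalizer
  let PM : Sylow p M := P.subtype (hPN.trans hNM)
  have hPM : (PM : Subgroup M).map M.subtype = (P : Subgroup G) :=
    Subgroup.map_subgroupOf_eq_of_le (hPN.trans hNM)
  have hpσ : p ∈ Cfsg.sigma M :=
    ⟨Fact.out, (P.dvd_card_of_dvd_card hpG).trans (Subgroup.card_dvd_of_le (hPN.trans hNM)),
      PM, by rw [hPM]; exact hNM⟩
  obtain ⟨K, hKM, hMK, hKc, hfac⟩ := CfsgLib.OddLocal.SylowControl.factor hG hM.1 PM
  rw [hPM, inf_eq_left.2 hNM] at hfac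
  have hPN' : (P : Subgroup G) ≤ ⁅N, N⁆ := by
    intro x hx
    refine CfsgLib.OddLocal.UniqSCN.derived_of_factor hKM hMK hKc hNM hfac (hPN hx) ?_ ?_
    · obtain ⟨j, hj⟩ := P.2 ⟨x, hx⟩
      exact ⟨j, congrArg Subtype.val hj⟩
    · have h1 := CfsgLib.OddLocal.Sigma.le_commutator hG hM hpσ PM
      have h2 : (⟨x, hNM (hPN hx)⟩ : M) ∈ commutator M := h1 hx
      rw [← Subgroup.map_subtype_commutator M]
      exact ⟨_, h2, rfl⟩
  refine ⟨?_, hPN'⟩
  obtain ⟨-, hVN, hdis, hdec⟩ := hV
  haveI := CfsgLib.OddLocal.Trans.solvable_proper hG hNt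
  haveI : ((P : Subgroup G).subgroupOf N).Normal := Subgroup.normal_in_normalizer
  have hcompl : ((P : Subgroup G).subgroupOf N).IsComplement' (V.subgroupOf N) := by
    refine Subgroup.isComplement'_of_disjoint_and_mul_eq_univ ?_ ?_
    · rw [disjoint_iff, eq_bot_iff]
      rintro a ⟨h1, h2⟩
      have : (a : G) ∈ (P : Subgroup G) ⊓ V := ⟨h1, h2⟩
      rw [hdis, Subgroup.mem_bot] at this
      exact Subgroup.mem_bot.2 (Subtype.ext this)
    · refine Set.eq_univ_of_forall fun m => ?_
      obtain ⟨a, ha, b, hb, hab⟩ := hdec m m.2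
      exact ⟨⟨a, hPN ha⟩, ha, ⟨b, hVN hb⟩, hb, Subtype.ext hab.symm⟩
  have h1 := CfsgLib.OddLocal.PLenMax.eq_commutator_of_le_commutator hcompl (fun a ha => by
    have h2 := hPN' ha
    rw [← Subgroup.map_subtype_commutator N] at h2
    exact (Subgroup.mem_map_iff_mem N.subtype_injective).1 h2)
  have h2 := congrArg (fun H : Subgroup N => H.map N.subtype) h1
  simp only [Subgroup.map_commutator, Subgroup.map_subgroupOf_eq_of_le hPN,
    Subgroup.map_subgroupOf_eq_of_le hVN] at h2
  exact h2.symm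

end Cfsg.Agent.S1411
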