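import Cfsg.Statements.S1447
import Cfsg.Agent.Solv.CoprimeAction
import Cfsg.Agent.Solv.ClassTwo
import Cfsg.Agent.OddLocal.RankTwoAut
import Cfsg.Agent.Solv.RankTwoNormal
import Cfsg.Agent.Fus.MetacyclicOdd
import Mathlib.Tactic
-- import your own Cfsg.Agent.* helpers here

set_option autoImplicit false
open Cfsg

namespace Cfsg.Agent.S1447

open scoped commutatorElement

variable {p : ℕ} [hp : Fact p.Prime]

theorem key2 (hp2 : p ≠ 2) {W : Type*} [Group W] [Finite W] (hW : IsPGroup p W) (hm : Cfsg.IsMetacyclic W)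
    {A : Type*} [Group A] [Finite A] (φ : A →* MulAut W) (hcop : (Nat.card A).Coprime p)
    (hgen : Subgroup.closure {g : W | ∃ a w, g = w⁻¹ * φ a w} = ⊤)
    (c : W) (hc1 : c ≠ 1) (hcp : c ^ p = 1) (hcZ : c ∈ Subgroup.center W)
    (hcomm : ∀ x y : W, ⁅x, y⁆ ∈ Subgroup.zpowers c) (hna : ¬ ∀ x y : W, x * y = y * x) : False := by
  classical
  have hcc : ∀ x y : W, ⁅x, y⁆ ∈ Subgroup.center W := fun x y => (Subgroup.zpowers_le.2 hcZ) (hcomm x y)
  have hcp' : ∀ x y : W, ⁅x, y⁆ ^ p = 1 := fun x y => by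
    obtain ⟨i, hi⟩ := Subgroup.mem_zpowers_iff.1 (hcomm x y)
    rw [← hi, ← zpow_natCast, ← zpow_mul, mul_comm, zpow_mul, zpow_natCast, hcp, one_zpow]
  have hcm : ∀ x y : W, Commute ⁅x, y⁆ x := fun x y => (Subgroup.mem_center_iff.1 (hcc x y) x).symm
  have hpowZ : ∀ x : W, x ^ p ∈ Subgroup.center W := fun x => Subgroup.mem_center_iff.2 fun y =>
    (commutatorElement_eq_one_iff_mul_comm.1 (by rw [CfsgLib.Solv.pow_commutator_left (hcm x y), hcp'])).symm
  have hpow : ∀ j (x y : W), (x * y) ^ p ^ j = x ^ p ^ j * y ^ p ^ j := by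
    intro j
    induction j with
    | zero => intro x y; simp
    | succ j ih =>
      intro x y
      rw [pow_succ', pow_mul, CfsgLib.Solv.mul_pow_prime hp2 (Subgroup.mem_center_iff.1 (hcc y x) x).symm
        (Subgroup.mem_center_iff.1 (hcc y x) y).symm (hcp' y x), ih, ← pow_mul, ← pow_mul]
  let π : ℕ → W →* W := fun j => MonoidHom.mk' (fun x => x ^ p ^ j) (hpow j)
  obtain ⟨N, hN, hNc, hQc⟩ := hm
  haveI := hN
  obtain ⟨n, hn⟩ := hNc.exists_generator
  obtain ⟨b', hb⟩ := hQc.exists_generator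
  obtain ⟨b, rfl⟩ := QuotientGroup.mk_surjective b'
  have hdec : ∀ w : W, ∃ i j : ℤ, w = (n : W) ^ i * b ^ j := by
    intro w
    obtain ⟨j, hj⟩ := Subgroup.mem_zpowers_iff.1 (hb (w : W ⧸ N))
    rw [← QuotientGroup.mk_zpow, QuotientGroup.eq] at hj
    obtain ⟨i, hi⟩ := Subgroup.mem_zpowers_iff.1 (hn ⟨_, hN.conj_mem _ hj (b ^ j)⟩)
    have hi' : (n : W) ^ i = b ^ j * ((b ^ j)⁻¹ * w) * (b ^ j)⁻¹ := by
      rw [← Subgroup.coe_zpow, hi]
    exact ⟨i, j, by rw [hi']; group⟩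
  set Z := Subgroup.center W with hZ
  haveI : (π 1).range.Normal := ⟨fun x hx g => by
    obtain ⟨y, rfl⟩ := hx
    have := Subgroup.mem_center_iff.1 (show π 1 y ∈ Z by show y ^ p ^ 1 ∈ Z; rw [pow_one]; exact hpowZ y) g
    rw [this, mul_inv_cancel_right]; exact ⟨y, rfl⟩⟩
  have hP1 : (π 1).range ≤ Z := by
    rintro _ ⟨y, rfl⟩; show y ^ p ^ 1 ∈ Z; rw [pow_one]; exact hpowZ y
  have hPidx : (π 1).range.index ≤ p ^ 2 := by
    have hexp : ∀ q : W ⧸ (π 1).range, q ^ p = 1 := fun q => by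
      induction q using QuotientGroup.induction_on with | _ x =>
      rw [← QuotientGroup.mk_pow, QuotientGroup.eq_one_iff]
      exact ⟨x, by show x ^ p ^ 1 = x ^ p; rw [pow_one]⟩
    have hsur : Function.Surjective (fun ij : Fin p × Fin p =>
        ((n : W) : W ⧸ (π 1).range) ^ (ij.1 : ℕ) * ((b : W) : W ⧸ (π 1).range) ^ (ij.2 : ℕ)) := by
      intro q
      induction q using QuotientGroup.induction_on with | _ w =>
      obtain ⟨i, j, rfl⟩ := hdec w
      have red : ∀ (q : W ⧸ (π 1).range) (i : ℤ), ∃ k : Fin p, q ^ (k : ℕ) = q ^ i := fun q i => by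
        have h0 : (0 : ℤ) ≤ i % p := Int.emod_nonneg _ (by exact_mod_cast hp.out.ne_zero)
        have h1 : i % p < p := Int.emod_lt_of_pos _ (by exact_mod_cast hp.out.pos)
        refine ⟨⟨(i % p).toNat, by omega⟩, ?_⟩
        rw [← zpow_natCast, show (((i % p).toNat : ℕ) : ℤ) = i % p from Int.toNat_of_nonneg h0]
        conv_rhs => rw [← Int.emod_add_ediv_mul i p, zpow_add, zpow_mul', zpow_natCast, hexp q, one_zpow, mul_one]
      obtain ⟨k, hk⟩ := red ((n : W) : W ⧸ (π 1).range) i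
      obtain ⟨l, hl⟩ := red (b : W ⧸ (π 1).range) j
      exact ⟨(k, l), by rw [QuotientGroup.mk_mul, QuotientGroup.mk_zpow, QuotientGroup.mk_zpow, ← hk, ← hl]⟩
    have := Nat.card_le_card_of_surjective _ hsur
    rwa [Nat.card_prod, Nat.card_fin, ← sq] at this
  obtain ⟨t, ht⟩ := hW.index Z
  have ht2 : 2 ≤ t := by
    by_contra hlt
    haveI : IsCyclic (W ⧸ Z) := by
      rcases (show t = 0 ∨ t = 1 by omega) with rfl | rfl
      · haveI : Subsingleton (W ⧸ Z) := (Nat.card_eq_one_iff_unique.1 (by rw [← Subgroup.index_eq_card, ht, pow_zero])).1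
        infer_instance
      · exact isCyclic_of_prime_card (p := p) (by rw [← Subgroup.index_eq_card, ht, pow_one])
    exact hna fun x y => ((QuotientGroup.mk' Z).isMulCommutative_of_isCyclic_of_ker_le_center (by rw [QuotientGroup.ker_mk'])).is_comm.comm x y
  have hZidx : Z.index = p ^ 2 := le_antisymm
    ((Nat.le_of_dvd (Nat.pos_of_ne_zero Subgroup.index_ne_zero_of_finite) (Subgroup.index_dvd_of_le hP1)).trans hPidx)
    (ht ▸ Nat.pow_le_pow_right hp.out.pos ht2)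
  have hZP : Z = (π 1).range := by
    refine (Subgroup.eq_of_le_of_card_ge hP1 ?_).symm
    have e1 := Subgroup.card_mul_index Z
    have e2 := Subgroup.card_mul_index (π 1).range
    rw [hZidx] at e1
    refine Nat.le_of_mul_le_mul_right ?_ (pow_pos hp.out.pos 2)
    rw [e1, ← e2]
    exact Nat.mul_le_mul_left _ hPidx
  have hcenne : ∀ k : W, k ∉ Z → Subgroup.centralizer ({k} : Set W) ≠ ⊤ := fun k hk e => hk (Subgroup.mem_center_iff.2 fun y =>
    Subgroup.mem_centralizer_singleton_iff.1 (e ▸ Subgroup.mem_top y))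
  have idx : ∀ H : Subgroup W, Z < H → H ≠ ⊤ → H.index = p := by
    intro H hZH hH
    obtain ⟨m, hm2, hm⟩ := (Nat.dvd_prime_pow hp.out).1 (hZidx ▸ Subgroup.index_dvd_of_le hZH.le)
    interval_cases m
    · exact absurd (Subgroup.index_eq_one.1 (by rw [hm, pow_zero])) hH
    · rw [hm, pow_one]
    · exfalso
      refine hZH.ne (Subgroup.eq_of_le_of_card_ge hZH.le (le_of_eq ?_))
      have e1 := Subgroup.card_mul_index Z
      have e2 := Subgroup.card_mul_index H
      rw [hZidx] at e1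
      rw [hm] at e2
      exact Nat.eq_of_mul_eq_mul_right (pow_pos hp.out.pos 2) (e2.trans e1.symm)
  have uniq : ∀ (H : Subgroup W) (k : W), Z ≤ H → k ∈ H → k ∉ Z → H ≠ ⊤ → H = Subgroup.centralizer ({k} : Set W) := by
    intro H k hZH hkH hk hH
    have hT : Z < Z ⊔ Subgroup.zpowers k := lt_of_le_of_ne le_sup_left fun e => hk (e ▸ Subgroup.mem_sup_right (Subgroup.mem_zpowers k))
    have hTC : Z ⊔ Subgroup.zpowers k ≤ Subgroup.centralizer ({k} : Set W) :=
      sup_le (Subgroup.center_le_centralizer _) (Subgroup.zpowers_le.2 (Subgroup.mem_centralizer_singleton_iff.2 rfl))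
    have hTH : Z ⊔ Subgroup.zpowers k ≤ H := sup_le hZH (Subgroup.zpowers_le.2 hkH)
    have eqT : ∀ L : Subgroup W, Z ⊔ Subgroup.zpowers k ≤ L → L ≠ ⊤ → L = Z ⊔ Subgroup.zpowers k := by
      intro L hL hLt
      have i1 := idx _ (lt_of_lt_of_le hT hL) hLt
      have i2 := idx _ hT (fun e => hLt (top_le_iff.1 (e ▸ hL)))
      refine (Subgroup.eq_of_le_of_card_ge hL (le_of_eq ?_)).symm
      have e1 := Subgroup.card_mul_index L
      have e2 := Subgroup.card_mul_index (Z ⊔ Subgroup.zpowers k)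
      rw [i1] at e1
      rw [i2] at e2
      exact Nat.eq_of_mul_eq_mul_right hp.out.pos (e1.trans e2.symm)
    rw [eqT H hTH hH, eqT _ hTC (hcenne k hk)]
  -- `c` is a `p`-th power
  obtain ⟨m, hm'⟩ : ∃ m : ℤ, (n : W) ^ m = c := by
    have hne : ⁅(n : W), b⁆ ≠ 1 := fun e => hna fun x y => by
      obtain ⟨i, j, rfl⟩ := hdec x
      obtain ⟨k, l, rfl⟩ := hdec y
      have hnb : Commute (n : W) b := commutatorElement_eq_one_iff_mul_comm.1 e
      exact (((Commute.zpow_zpow_self _ i k).mul_right (hnb.zpow_zpow i l)).mul_left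
        ((hnb.symm.zpow_zpow j k).mul_right (Commute.zpow_zpow_self _ j l))).eq
    have hmem : ⁅(n : W), b⁆ ∈ N := by
      rw [commutatorElement_def, show (n : W) * b * (n : W)⁻¹ * b⁻¹ = n * (b * (n : W)⁻¹ * b⁻¹) by group]
      exact mul_mem n.2 (hN.conj_mem _ (inv_mem n.2) b)
    have hle : Subgroup.zpowers ⁅(n : W), b⁆ = Subgroup.zpowers c := by
      refine Subgroup.eq_of_le_of_card_ge (Subgroup.zpowers_le.2 (hcomm _ _)) ?_
      rw [Nat.card_zpowers, Nat.card_zpowers, orderOf_eq_prime hcp hc1, orderOf_eq_prime (hcp' _ _) hne]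
    have hcN : c ∈ N := (Subgroup.zpowers_le.2 hmem) (hle ▸ Subgroup.mem_zpowers c)
    obtain ⟨m, hm⟩ := Subgroup.mem_zpowers_iff.1 (hn ⟨c, hcN⟩)
    exact ⟨m, by rw [← Subgroup.coe_zpow, hm]⟩
  have hP : ∃ w : W, w ^ p ^ 1 = c := by
    by_cases hd : (p : ℤ) ∣ m
    · obtain ⟨k, rfl⟩ := hd
      exact ⟨(n : W) ^ k, by rw [pow_one, ← hm', mul_comm, zpow_mul, zpow_natCast]⟩
    exfalso
    obtain ⟨e, he⟩ := IsPGroup.iff_card.1 hW
    have hco : IsCoprime m (((p ^ e : ℕ) : ℤ)) := by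
      push_cast
      exact (((Nat.prime_iff_prime_int.1 hp.out).coprime_iff_not_dvd.2 hd).symm).pow_right
    obtain ⟨u, v, huv⟩ := hco
    have hnZ : (n : W) ∈ Z := by
      have : (n : W) = c ^ u := by
        rw [← hm', ← zpow_mul]
        conv_lhs => rw [← zpow_one (n : W), ← huv, zpow_add, mul_comm v ((p ^ e : ℕ) : ℤ), zpow_mul (n : W) ((p ^ e : ℕ) : ℤ) v, zpow_natCast, ← he, pow_card_eq_one', one_zpow, mul_one, mul_comm]
      rw [this]; exact zpow_mem hcZ u
    refine hna fun x y => ?_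
    obtain ⟨i, j, rfl⟩ := hdec x
    obtain ⟨k, l, rfl⟩ := hdec y
    have hnb : Commute (n : W) b := (Subgroup.mem_center_iff.1 hnZ b).symm
    exact (((Commute.zpow_zpow_self _ i k).mul_right (hnb.zpow_zpow i l)).mul_left
      ((hnb.symm.zpow_zpow j k).mul_right (Commute.zpow_zpow_self _ j l))).eq
  obtain ⟨e, he⟩ := IsPGroup.iff_card.1 hW
  have hex : ∃ i, ¬ ∃ w : W, w ^ p ^ (i + 2) = c := ⟨e, fun ⟨w, hw⟩ => hc1 (by
    rw [← hw, pow_add, pow_mul, ← he, pow_card_eq_one', one_pow])⟩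
  set i := Nat.find hex with hi
  have hno : ¬ ∃ w : W, w ^ p ^ (i + 2) = c := Nat.find_spec hex
  obtain ⟨x0, hx0⟩ : ∃ w : W, w ^ p ^ (i + 1) = c := by
    rcases Nat.eq_zero_or_pos i with h | h
    · rw [h]; exact hP
    · have := Nat.find_min hex (show i - 1 < i by omega)
      rw [not_not, show i - 1 + 2 = i + 1 by omega] at this
      exact this
  let M := (π (i + 2)).range
  let K := M.comap (π (i + 1))
  have hcM : c ∉ M := fun ⟨w, hw⟩ => hno ⟨w, hw⟩
  have hZK : Z ≤ K := by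
    rw [hZP]
    rintro _ ⟨y, rfl⟩
    exact ⟨y, by show y ^ p ^ (i + 2) = (y ^ p ^ 1) ^ p ^ (i + 1); rw [← pow_mul, ← pow_add, show 1 + (i + 1) = i + 2 by omega]⟩
  have hx0K : x0 ∉ K := fun h => hcM (by
    have h' : x0 ^ p ^ (i + 1) ∈ M := h
    rwa [hx0] at h')
  have hx0Z : x0 ∉ Z := fun h => hx0K (hZK h)
  have hKinv : ∀ a k, k ∈ K → φ a k ∈ K := by
    intro a k hk
    obtain ⟨y, hy⟩ := hk
    exact ⟨φ a y, by
      show (φ a y) ^ p ^ (i + 2) = (φ a k) ^ p ^ (i + 1)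
      rw [← map_pow, ← map_pow]; exact congrArg _ hy⟩
  have halpha : ∀ a, ∃ α : ℤ, φ a c = c ^ α ∧ ¬ (p : ℤ) ∣ α ∧ x0 ^ (-α) * φ a x0 ∈ K := by
    intro a
    have hmem : φ a c ∈ Subgroup.zpowers c := by
      push Not at hna
      obtain ⟨x, y, hxy⟩ := hna
      have hne : ⁅x, y⁆ ≠ 1 := fun e => hxy (commutatorElement_eq_one_iff_mul_comm.1 e)
      have hle : Subgroup.zpowers ⁅x, y⁆ = Subgroup.zpowers c := by
        refine Subgroup.eq_of_le_of_card_ge (Subgroup.zpowers_le.2 (hcomm _ _)) ?_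
        rw [Nat.card_zpowers, Nat.card_zpowers, orderOf_eq_prime hcp hc1, orderOf_eq_prime (hcp' _ _) hne]
      obtain ⟨l, hl⟩ := Subgroup.mem_zpowers_iff.1 (hle ▸ Subgroup.mem_zpowers c : c ∈ Subgroup.zpowers ⁅x, y⁆)
      rw [← hl, map_zpow, map_commutatorElement, hl]
      exact zpow_mem (hcomm _ _) l
    obtain ⟨α, hα⟩ := Subgroup.mem_zpowers_iff.1 hmem
    refine ⟨α, hα.symm, fun ⟨k, hk⟩ => hc1 ?_, ?_⟩
    · have : φ a c = 1 := by rw [← hα, hk, zpow_mul, zpow_natCast, hcp, one_zpow]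
      exact (φ a).injective (this.trans (map_one (φ a)).symm)
    · show π (i + 1) (x0 ^ (-α) * φ a x0) ∈ M
      rw [map_mul, map_zpow, show π (i + 1) (φ a x0) = φ a c by show (φ a x0) ^ p ^ (i + 1) = _; rw [← map_pow, hx0],
        show π (i + 1) x0 = c from hx0, ← hα, ← zpow_add, neg_add_cancel, zpow_zero]
      exact one_mem M
  -- bilinearity
  have bl : ∀ x y z : W, ⁅x * y, z⁆ = ⁅x, z⁆ * ⁅y, z⁆ := fun x y z => by
    have e : ⁅x * y, z⁆ = x * ⁅y, z⁆ * x⁻¹ * ⁅x, z⁆ := by simp [commutatorElement_def]; group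
    rw [e, Subgroup.mem_center_iff.1 (hcc y z) x, mul_inv_cancel_right, Subgroup.mem_center_iff.1 (hcc y z)]
  have br : ∀ x y z : W, ⁅x, y * z⁆ = ⁅x, y⁆ * ⁅x, z⁆ := fun x y z => by
    rw [← commutatorElement_inv, bl, mul_inv_rev, commutatorElement_inv, commutatorElement_inv, Subgroup.mem_center_iff.1 (hcc x y)]
  have blz : ∀ (x z : W) (α : ℤ), ⁅x ^ α, z⁆ = ⁅x, z⁆ ^ α := fun x z α =>
    map_zpow (MonoidHom.mk' (fun y => ⁅y, z⁆) fun u v => bl u v z) x α
  have cancel : ∀ (u v : W) (α : ℤ), u ∈ Subgroup.zpowers c → v ∈ Subgroup.zpowers c → ¬ (p : ℤ) ∣ α → u ^ α = v ^ α → u = v := by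
    intro u v α hu hv hα h
    obtain ⟨k, rfl⟩ := Subgroup.mem_zpowers_iff.1 hu
    obtain ⟨l, rfl⟩ := Subgroup.mem_zpowers_iff.1 hv
    rw [← zpow_mul, ← zpow_mul, zpow_eq_zpow_iff_modEq, orderOf_eq_prime hcp hc1] at h
    rw [zpow_eq_zpow_iff_modEq, orderOf_eq_prime hcp hc1]
    refine Int.modEq_iff_dvd.2 ?_
    have h' := Int.modEq_iff_dvd.1 h
    rw [← sub_mul] at h'
    exact ((Nat.prime_iff_prime_int.1 hp.out).dvd_or_dvd h').resolve_right hα
  -- for every `a` and `y` we control `⁅x0, y⁻¹ φ a y⁆`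
  have step : ∀ a y, (∀ α : ℤ, x0 ^ (-α) * φ a x0 ∈ K → ⁅x0 ^ (-α) * φ a x0, φ a y⁆ = 1) →
      y⁻¹ * φ a y ∈ Subgroup.centralizer ({x0} : Set W) := by
    intro a y hK
    obtain ⟨α, hα, hαp, hu⟩ := halpha a
    obtain ⟨l, hl⟩ := Subgroup.mem_zpowers_iff.1 (hcomm x0 y)
    have e1 : ⁅φ a x0, φ a y⁆ = ⁅x0, y⁆ ^ α := by
      rw [← map_commutatorElement, ← hl, map_zpow, hα, ← zpow_mul, ← zpow_mul, mul_comm]
    rw [show φ a x0 = x0 ^ α * (x0 ^ (-α) * φ a x0) by group, bl, hK α hu, mul_one, blz] at e1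
    have e2 := cancel _ _ α (hcomm _ _) (hcomm _ _) hαp e1
    refine Subgroup.mem_centralizer_singleton_iff.2 (Eq.symm (commutatorElement_eq_one_iff_mul_comm.1 ?_))
    rw [br, e2, ← br, inv_mul_cancel, commutatorElement_one_right]
  by_cases hKZ : K ≤ Z
  · refine hcenne x0 hx0Z (top_le_iff.1 (hgen ▸ (Subgroup.closure_le _).2 ?_))
    rintro _ ⟨a, y, rfl⟩
    refine step a y fun α hu => ?_
    exact commutatorElement_eq_one_iff_mul_comm.2 (Subgroup.mem_center_iff.1 (hKZ hu) _).symm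
  obtain ⟨k, hk, hkZ⟩ := SetLike.not_le_iff_exists.1 hKZ
  have hKtop : K ≠ ⊤ := fun e => hx0K (e ▸ Subgroup.mem_top x0)
  have hKC := uniq K k hZK hk hkZ hKtop
  have hKab : ∀ u ∈ K, ∀ v ∈ K, u * v = v * u := by
    intro u hu v hv
    by_cases huZ : u ∈ Z
    · exact (Subgroup.mem_center_iff.1 huZ v).symm
    have := uniq K u hZK hu huZ hKtop
    exact (Subgroup.mem_centralizer_singleton_iff.1 (this ▸ hv : v ∈ Subgroup.centralizer ({u} : Set W))).symm
  have hfix : ∀ a, k⁻¹ * φ a k ∈ Z := by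
    intro a
    by_contra hw
    have hC := step a k fun α hu => commutatorElement_eq_one_iff_mul_comm.2 (hKab _ hu _ (hKinv a k hk))
    have hwK : k⁻¹ * φ a k ∈ K := mul_mem (inv_mem hk) (hKinv a k hk)
    have e := uniq K _ hZK hwK hw hKtop
    exact hx0K (e ▸ Subgroup.mem_centralizer_singleton_iff.2 (Subgroup.mem_centralizer_singleton_iff.1 hC).symm)
  -- averaging modulo the centre
  letI : CommGroup (W ⧸ Z) := { (inferInstance : Group (W ⧸ Z)) with
    mul_comm := fun u v => by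
      induction u using QuotientGroup.induction_on with | _ x =>
      induction v using QuotientGroup.induction_on with | _ y =>
      refine commutatorElement_eq_one_iff_mul_comm.1 ?_
      rw [show ⁅(x : W ⧸ Z), (y : W ⧸ Z)⁆ = ((⁅x, y⁆ : W) : W ⧸ Z) from (map_commutatorElement (QuotientGroup.mk' Z) x y).symm,
        QuotientGroup.eq_one_iff]
      exact hcc x y }
  haveI := Fintype.ofFinite A
  let ν : W →* W ⧸ Z := ∏ a : A, (QuotientGroup.mk' Z).comp (φ a).toMonoidHom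
  have hν : ∀ w, ν w = ∏ a : A, ((φ a w : W) : W ⧸ Z) := fun w => MonoidHom.finsetProd_apply _ _ _
  have hker : ∀ w, ν w = 1 := by
    intro w
    have : w ∈ ν.ker := by
      refine ((Subgroup.closure_le _).2 ?_) (hgen ▸ Subgroup.mem_top w)
      rintro _ ⟨a, y, rfl⟩
      rw [SetLike.mem_coe, MonoidHom.mem_ker, map_mul, map_inv, inv_mul_eq_one, hν, hν]
      refine (Fintype.prod_equiv (Equiv.mulRight a) _ _ fun b => ?_).symm
      show _ = ((φ (b * a) y : W) : W ⧸ Z)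
      rw [map_mul]; rfl
    exact this
  have hk1 : (k : W ⧸ Z) ^ Nat.card A = 1 := by
    have := hker k
    rw [hν, Finset.prod_congr rfl (fun a _ => show ((φ a k : W) : W ⧸ Z) = (k : W ⧸ Z) from (QuotientGroup.eq.2 (hfix a)).symm),
      Finset.prod_const, Finset.card_univ, ← Nat.card_eq_fintype_card] at this
    exact this
  refine hkZ ((QuotientGroup.eq_one_iff k).1 ?_)
  have hk2 : (k : W ⧸ Z) ^ p = 1 := by rw [← QuotientGroup.mk_pow, QuotientGroup.eq_one_iff]; exact hpowZ k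
  exact orderOf_eq_one_iff.1 (Nat.eq_one_of_dvd_coprimes hcop (orderOf_dvd_of_pow_eq_one hk1) (orderOf_dvd_of_pow_eq_one hk2))

theorem key (hp2 : p ≠ 2) {S : Type*} [Group S] [Finite S] (hS : IsPGroup p S) (hm : Cfsg.IsMetacyclic S)
    {A : Type*} [Group A] [Finite A] (φ : A →* MulAut S) (hcop : (Nat.card A).Coprime p)
    (hgen : Subgroup.closure {g : S | ∃ a w, g = w⁻¹ * φ a w} = ⊤) : ∀ x y : S, x * y = y * x := by
  classical
  by_contra hna
  obtain ⟨N, hN, hNc, hQc⟩ := id hm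
  haveI := hN
  haveI := hNc
  haveI := hQc
  have hDN : commutator S ≤ N := by
    rw [commutator_def, Subgroup.commutator_le]
    intro x _ y _
    rw [← QuotientGroup.eq_one_iff (N := N), show ((⁅x, y⁆ : S) : S ⧸ N) = ⁅(x : S ⧸ N), (y : S ⧸ N)⁆ from map_commutatorElement (QuotientGroup.mk' N) x y,
      commutatorElement_eq_one_iff_mul_comm]
    exact (IsCyclic.commGroup (α := S ⧸ N)).mul_comm _ _
  haveI hDc : IsCyclic (commutator S) := isCyclic_of_injective (Subgroup.inclusion hDN) (Subgroup.inclusion_injective hDN)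
  obtain ⟨d, hd⟩ := hDc.exists_generator
  let M : Subgroup S := Subgroup.closure ((fun z : S => z ^ p) '' (commutator S : Set S))
  haveI hMc : M.Characteristic := Subgroup.characteristic_iff_map_le.2 fun e => by
    rw [MonoidHom.map_closure]
    refine Subgroup.closure_mono ?_
    rintro _ ⟨_, ⟨z, hz, rfl⟩, rfl⟩
    exact ⟨e z, CfsgLib.Solv.map_mem_of_characteristic e hz, (map_pow e z p).symm⟩
  haveI : M.Normal := inferInstance
  have hdM : (d : S) ∉ M := by
    intro h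
    have hle : M ≤ Subgroup.zpowers ((d : S) ^ p) := by
      refine (Subgroup.closure_le _).2 ?_
      rintro _ ⟨z, hz, rfl⟩
      obtain ⟨i, hi⟩ := Subgroup.mem_zpowers_iff.1 (hd ⟨z, hz⟩)
      refine Subgroup.mem_zpowers_iff.2 ⟨i, ?_⟩
      have : (d : S) ^ i = z := by rw [← Subgroup.coe_zpow, hi]
      show ((d : S) ^ p) ^ i = z ^ p
      rw [← this, ← zpow_natCast, ← zpow_natCast, ← zpow_mul, ← zpow_mul, mul_comm]
    obtain ⟨i, hi⟩ := Subgroup.mem_zpowers_iff.1 (hle h)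
    obtain ⟨e, he⟩ := IsPGroup.iff_orderOf.1 hS (d : S)
    rw [← zpow_natCast, ← zpow_mul] at hi
    conv_rhs at hi => rw [← zpow_one (d : S)]
    rw [zpow_eq_zpow_iff_modEq, he] at hi
    rcases Nat.eq_zero_or_pos e with rfl | he0
    · have hd1 : (d : S) = 1 := orderOf_eq_one_iff.1 (by rw [he, pow_zero])
      refine hna fun x y => commutatorElement_eq_one_iff_mul_comm.1 ?_
      obtain ⟨j, hj⟩ := Subgroup.mem_zpowers_iff.1 (hd ⟨⁅x, y⁆, Subgroup.commutator_mem_commutator (Subgroup.mem_top x) (Subgroup.mem_top y)⟩)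
      have : (d : S) ^ j = ⁅x, y⁆ := by rw [← Subgroup.coe_zpow, hj]
      rw [← this, hd1, one_zpow]
    · have h1 : (p : ℤ) ∣ 1 - (p : ℤ) * i := dvd_trans (by exact_mod_cast dvd_pow_self p he0.ne') (Int.modEq_iff_dvd.1 hi)
      have h2 : (p : ℤ) ∣ 1 := by simpa using dvd_add h1 (dvd_mul_right (p : ℤ) i)
      exact hp.out.ne_one (by exact_mod_cast Int.eq_one_of_dvd_one (by positivity) h2)
  have hc1 : ((d : S) : S ⧸ M) ≠ 1 := fun e => hdM ((QuotientGroup.eq_one_iff _).1 e)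
  have hcp : ((d : S) : S ⧸ M) ^ p = 1 := by
    rw [← QuotientGroup.mk_pow, QuotientGroup.eq_one_iff]
    exact Subgroup.subset_closure ⟨d, d.2, rfl⟩
  have hcomm : ∀ x y : S ⧸ M, ⁅x, y⁆ ∈ Subgroup.zpowers ((d : S) : S ⧸ M) := by
    intro x y
    induction x using QuotientGroup.induction_on with | _ x =>
    induction y using QuotientGroup.induction_on with | _ y =>
    obtain ⟨j, hj⟩ := Subgroup.mem_zpowers_iff.1 (hd ⟨⁅x, y⁆, Subgroup.commutator_mem_commutator (Subgroup.mem_top x) (Subgroup.mem_top y)⟩)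
    refine Subgroup.mem_zpowers_iff.2 ⟨j, ?_⟩
    rw [← QuotientGroup.mk_zpow, ← Subgroup.coe_zpow, hj]
    exact map_commutatorElement (QuotientGroup.mk' M) x y
  have hW := hS.to_quotient M
  have hcZ : ((d : S) : S ⧸ M) ∈ Subgroup.center (S ⧸ M) := by
    haveI : (Subgroup.zpowers ((d : S) : S ⧸ M)).Normal := ⟨fun z hz g => by
      rw [show g * z * g⁻¹ = ⁅g, z⁆ * z by simp [commutatorElement_def]]
      exact mul_mem (hcomm g z) hz⟩
    have hne := CfsgLib.Perm.inf_center_ne_bot hW (Subgroup.zpowers ((d : S) : S ⧸ M))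
      (fun e => hc1 (Subgroup.mem_bot.1 (e ▸ Subgroup.mem_zpowers _)))
    have hcard : Nat.card (Subgroup.zpowers ((d : S) : S ⧸ M)) = p := by rw [Nat.card_zpowers, orderOf_eq_prime hcp hc1]
    rcases (Nat.dvd_prime hp.out).1 (hcard ▸ Subgroup.card_dvd_of_le
      (inf_le_left : Subgroup.zpowers ((d : S) : S ⧸ M) ⊓ Subgroup.center (S ⧸ M) ≤ _)) with h | h
    · exact absurd (Subgroup.card_eq_one.1 h) hne
    · have e := Subgroup.eq_of_le_of_card_ge (H := Subgroup.zpowers ((d : S) : S ⧸ M) ⊓ Subgroup.center (S ⧸ M)) (K := Subgroup.zpowers ((d : S) : S ⧸ M)) inf_le_left (by rw [h, hcard])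
      exact (Subgroup.mem_inf.1 (e.symm ▸ Subgroup.mem_zpowers _ : ((d : S) : S ⧸ M) ∈ Subgroup.zpowers ((d : S) : S ⧸ M) ⊓ Subgroup.center (S ⧸ M))).2
  refine key2 hp2 hW (CfsgLib.Fus.MetaOdd.isMetacyclic_quotient hm M) ((CfsgLib.OddLocal.quot M).comp φ) hcop ?_
    _ hc1 hcp hcZ hcomm ?_
  · rw [eq_top_iff, ← MonoidHom.range_eq_top.2 (QuotientGroup.mk'_surjective M), MonoidHom.range_eq_map, ← hgen, MonoidHom.map_closure]
    refine Subgroup.closure_mono ?_
    rintro _ ⟨_, ⟨a, w, rfl⟩, rfl⟩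
    exact ⟨a, (w : S ⧸ M), rfl⟩
  · intro h
    refine hdM ?_
    have hle : commutator S ≤ M := by
      rw [commutator_def, Subgroup.commutator_le]
      intro x _ y _
      rw [← QuotientGroup.eq_one_iff (N := M), show ((⁅x, y⁆ : S) : S ⧸ M) = ⁅(x : S ⧸ M), (y : S ⧸ M)⁆ from map_commutatorElement (QuotientGroup.mk' M) x y]
      exact commutatorElement_eq_one_iff_mul_comm.2 (h _ _)
    exact hle d.2


/-- Let G be a finite group, p an odd prime, R a metacyclic p-subgroup and A a subgroup of order coprime to p normalizing R. Then [R, A] is abelian; R is generated by [R, A] and R ∩ C_G(A), which meet trivially; and if R is non-abelian and A does not centralize R, then [R, A] and R ∩ C_G(A) are nontrivial cyclic groups and [R, R] ≤ [R, A]. -/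
theorem result {G : Type*} [Group G] [Finite G] (p : ℕ) [Fact p.Prime] (hp : p ≠ 2) (R A : Subgroup G) (hR : IsPGroup p R) (hRm : Cfsg.IsMetacyclic R)
    (hA : (A ≤ Subgroup.normalizer (R : Set G))) (hcop : (Nat.card A).Coprime p) :
    IsMulCommutative ↥⁅R, A⁆ ∧ ⁅R, A⁆ ⊔ (R ⊓ Subgroup.centralizer (A : Set G)) = R ∧ ⁅R, A⁆ ⊓ (R ⊓ Subgroup.centralizer (A : Set G)) = ⊥ ∧
      (¬ IsMulCommutative R → ¬ A ≤ Subgroup.centralizer (R : Set G) →
        ⁅R, A⁆ ≠ ⊥ ∧ IsCyclic ↥⁅R, A⁆ ∧ (R ⊓ Subgroup.centralizer (A : Set G)) ≠ ⊥ ∧ IsCyclic ↥(R ⊓ Subgroup.centralizer (A : Set G)) ∧ ⁅R, R⁆ ≤ ⁅R, A⁆) := by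
  classical
  haveI : Fact p.Prime := inferInstance
  set T := ⁅R, A⁆ with hT
  set C := R ⊓ Subgroup.centralizer (A : Set G) with hC
  obtain ⟨m, hm⟩ := IsPGroup.iff_card.1 hR
  have hco : (Nat.card A).Coprime (Nat.card R) := by rw [hm]; exact hcop.pow_right m
  have hsol : Group.IsSolvable A ∨ Group.IsSolvable R := Or.inr (by haveI := hR.isNilpotent; infer_instance)
  have hTR : T ≤ R := CfsgLib.Solv.commutator_le_of_le_normalizer hA
  have hAT : A ≤ Subgroup.normalizer (T : Set G) := CfsgLib.Solv.right_le_normalizer_commutator R A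
  have hTA : ⁅T, A⁆ = T := CfsgLib.Solv.commutator_commutator_right hA hco hsol
  have hTp : IsPGroup p T := hR.to_le hTR
  obtain ⟨N, hN, hNc, hQc⟩ := id hRm
  haveI := hN
  haveI := hNc
  haveI := hQc
  have hTm : Cfsg.IsMetacyclic T := by
    let f : T →* R ⧸ N := (QuotientGroup.mk' N).comp (Subgroup.inclusion hTR)
    refine ⟨f.ker, inferInstance, ?_, ?_⟩
    · exact isCyclic_of_injective (MonoidHom.mk' (fun x : f.ker => (⟨Subgroup.inclusion hTR x, (QuotientGroup.eq_one_iff _).1 x.2⟩ : N)) fun _ _ => rfl)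
        fun x y h => Subtype.ext (Subgroup.inclusion_injective hTR (congrArg Subtype.val h))
    · exact isCyclic_of_injective _ (QuotientGroup.kerLift_injective f)
  let φ : A →* MulAut T := T.normalizerMonoidHom.comp (Subgroup.inclusion hAT)
  have hgen : Subgroup.closure {g : T | ∃ a w, g = w⁻¹ * φ a w} = ⊤ := by
    apply Subgroup.map_injective T.subtype_injective
    rw [MonoidHom.map_closure, ← MonoidHom.range_eq_map, Subgroup.range_subtype]
    conv_rhs => rw [← hTA, Subgroup.commutator_def]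
    congr 1
    ext g
    constructor
    · rintro ⟨_, ⟨a, w, rfl⟩, rfl⟩
      refine ⟨(w : G)⁻¹, inv_mem w.2, a, a.2, ?_⟩
      show ⁅(w : G)⁻¹, (a : G)⁆ = (w : G)⁻¹ * ((a : G) * w * (a : G)⁻¹)
      simp [commutatorElement_def, mul_assoc]
    · rintro ⟨w, hw, a, ha, rfl⟩
      refine ⟨_, ⟨⟨a, ha⟩, ⟨w, hw⟩⁻¹, rfl⟩, ?_⟩
      show (w⁻¹)⁻¹ * (a * w⁻¹ * a⁻¹) = ⁅w, a⁆
      simp [commutatorElement_def, mul_assoc]
  have hTab := key hp hTp hTm φ hcop hgen
  haveI hTc : IsMulCommutative T := ⟨⟨hTab⟩⟩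
  letI : CommGroup T := { (inferInstance : Group T) with mul_comm := hTab }
  have hTC : T ⊓ C = ⊥ := by
    rw [eq_bot_iff]
    intro g hg
    obtain ⟨hgT, -, hgA⟩ := (show g ∈ T ∧ g ∈ R ∧ g ∈ Subgroup.centralizer (A : Set G) from hg)
    haveI := Fintype.ofFinite A
    let ν : T →* T := ∏ a : A, (φ a).toMonoidHom
    have hν : ∀ w, ν w = ∏ a : A, φ a w := fun w => MonoidHom.finsetProd_apply _ _ _
    have hker : ∀ w, ν w = 1 := by
      intro w
      have : w ∈ ν.ker := by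
        refine ((Subgroup.closure_le _).2 ?_) (hgen ▸ Subgroup.mem_top w)
        rintro _ ⟨a, y, rfl⟩
        rw [SetLike.mem_coe, MonoidHom.mem_ker, map_mul, map_inv, inv_mul_eq_one, hν, hν]
        refine (Fintype.prod_equiv (Equiv.mulRight a) _ _ fun b => ?_).symm
        show _ = φ (b * a) y
        rw [map_mul]; rfl
      exact this
    have h1 : (⟨g, hgT⟩ : T) ^ Nat.card A = 1 := by
      have := hker ⟨g, hgT⟩
      rw [hν, Finset.prod_congr rfl (fun (a : A) _ => show φ a ⟨g, hgT⟩ = ⟨g, hgT⟩ from Subtype.ext (by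
        show (a : G) * g * (a : G)⁻¹ = g
        rw [Subgroup.mem_centralizer_iff.1 hgA a a.2, mul_inv_cancel_right])),
        Finset.prod_const, Finset.card_univ, ← Nat.card_eq_fintype_card] at this
      exact this
    obtain ⟨l, hl⟩ := IsPGroup.iff_card.1 hTp
    have h2 : (⟨g, hgT⟩ : T) ^ (p ^ l) = 1 := by rw [← hl]; exact pow_card_eq_one'
    have := orderOf_eq_one_iff.1 (Nat.eq_one_of_dvd_coprimes (hcop.pow_right l) (orderOf_dvd_of_pow_eq_one h1) (orderOf_dvd_of_pow_eq_one h2))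
    exact Subgroup.mem_bot.2 (congrArg Subtype.val this)
  have hsup : T ⊔ C = R := by
    refine le_antisymm (sup_le hTR inf_le_left) fun r hr => ?_
    obtain ⟨x, hx, c, hc, rfl⟩ := CfsgLib.Solv.commutator_sup_inf_centralizer hA hco hsol r hr
    exact Subgroup.mul_mem_sup hx hc
  refine ⟨hTc, hsup, hTC, fun hRna hAC => ?_⟩
  have hT1 : T ≠ ⊥ := by
    intro e
    refine hAC fun a ha => Subgroup.mem_centralizer_iff.2 fun r hr => ?_
    refine commutatorElement_eq_one_iff_mul_comm.1 ?_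
    exact Subgroup.mem_bot.1 (e ▸ Subgroup.commutator_mem_commutator hr ha)
  have hC1 : C ≠ ⊥ := fun e => hRna (by rw [e, sup_bot_eq] at hsup; rw [← hsup]; exact hTc)
  have hnc : ¬ IsCyclic R := fun h => hRna ⟨⟨(IsCyclic.commGroup (α := R)).mul_comm⟩⟩
  obtain ⟨hOe, hOc⟩ := CfsgLib.Solv.omegaOne_metacyclic hp hR hRm hnc
  have hcyc : ∀ X Y : Subgroup G, X ≤ R → Y ≤ R → X ⊓ Y = ⊥ → Y ≠ ⊥ → IsCyclic X := by
    intro X Y hX hY hXY hY1
    by_contra hX1
    obtain ⟨E, hEn, hEe, hEc⟩ := CfsgLib.Solv.exists_normal_rank_two _ X p hp rfl (hR.to_le hX) hX1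
    let E' : Subgroup R := E.map (Subgroup.inclusion hX)
    have hE'O : E' ≤ Cfsg.omegaOne p (⊤ : Subgroup R) := by
      rintro _ ⟨e, he, rfl⟩
      exact Subgroup.subset_closure ⟨trivial, by rw [← map_pow, hEe.2 e he, map_one]⟩
    have hEO : E' = Cfsg.omegaOne p (⊤ : Subgroup R) := Subgroup.eq_of_le_of_card_ge hE'O (by
      rw [hOc, Subgroup.card_map_of_injective (Subgroup.inclusion_injective hX), hEc])
    obtain ⟨y, hy, hy1⟩ := Y.bot_or_exists_ne_one.resolve_left hY1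
    obtain ⟨l, hl⟩ := IsPGroup.iff_card.1 (hR.to_le hY)
    obtain ⟨z, hz⟩ := exists_prime_orderOf_dvd_card' (G := Y) p (by
      rcases Nat.eq_zero_or_pos l with rfl | hl0
      · exact absurd (Subgroup.card_eq_one.1 (by rw [hl, pow_zero])) hY1
      · exact hl ▸ dvd_pow_self p hl0.ne')
    have hzO : Subgroup.inclusion hY z ∈ Cfsg.omegaOne p (⊤ : Subgroup R) :=
      Subgroup.subset_closure ⟨trivial, by rw [← map_pow, ← hz, pow_orderOf_eq_one, map_one]⟩
    obtain ⟨e, -, he⟩ := (hEO.symm ▸ hzO : Subgroup.inclusion hY z ∈ E')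
    have hzX : (z : G) ∈ X ⊓ Y := ⟨by have := congrArg Subtype.val he; exact this ▸ e.2, z.2⟩
    rw [hXY, Subgroup.mem_bot] at hzX
    rw [show z = 1 from Subtype.ext hzX, orderOf_one] at hz
    exact (Fact.out : p.Prime).ne_one hz.symm
  have hTc' := hcyc T C hTR inf_le_left hTC hC1
  have hCc := hcyc C T inf_le_left hTR (by rw [inf_comm]; exact hTC) hT1
  refine ⟨hT1, hTc', hC1, hCc, ?_⟩
  rw [Subgroup.commutator_le]
  intro x hx y hy
  obtain ⟨t, ht, c, hc, rfl⟩ := CfsgLib.Solv.commutator_sup_inf_centralizer hA hco hsol x hx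
  obtain ⟨s, hs, d, hd, rfl⟩ := CfsgLib.Solv.commutator_sup_inf_centralizer hA hco hsol y hy
  have hRT : ∀ r ∈ R, ∀ u ∈ T, r * u * r⁻¹ ∈ T := fun r hr u hu =>
    ((Subgroup.mem_normalizer_iff).1 (CfsgLib.Solv.left_le_normalizer_commutator R A hr) u).1 hu
  have hcd : c * d = d * c := congrArg Subtype.val ((IsCyclic.commGroup (α := C)).mul_comm ⟨c, hc⟩ ⟨d, hd⟩)
  have e : ⁅t * c, s * d⁆ = t * (c * s * c⁻¹) * (d * t⁻¹ * d⁻¹) * s⁻¹ := by
    simp only [commutatorElement_def, mul_inv_rev]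
    calc t * c * (s * d) * (c⁻¹ * t⁻¹) * (d⁻¹ * s⁻¹) = t * (c * s * c⁻¹) * ((c * d) * c⁻¹ * t⁻¹ * d⁻¹) * s⁻¹ := by group
      _ = _ := by rw [hcd]; group
  rw [e]
  exact mul_mem (mul_mem (mul_mem ht (hRT c hc.1 s hs)) (hRT d hd.1 _ (inv_mem ht))) (inv_mem hs)

end Cfsg.Agent.S1447
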