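import Cfsg.Statements.S1895
import Cfsg.Agent.OddLocal.RankTwoAut
import Cfsg.Agent.Solv.RankTwoNormal
import Cfsg.Agent.Solv.ClassTwo
import Mathlib.GroupTheory.Sylow
import Mathlib.Tactic
-- import your own Cfsg.Agent.* helpers here

set_option autoImplicit false
open Cfsg

namespace Cfsg.Agent.S1895

open scoped commutatorElement

variable {p : ℕ} [hp : Fact p.Prime]

theorem sq_comm (hp2 : p ≠ 2) : ∀ (n : ℕ) (D : Type*) [Group D] [Finite D], Nat.card D = n → IsPGroup p D →
    (∀ x : D, x ^ p = 1 → x ∈ Subgroup.center D) → ∀ x y : D, x ^ (p * p) = 1 → ⁅x, y⁆ ^ p = 1 := by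
  intro n
  induction n using Nat.strong_induction_on with
  | _ n ih =>
    intro D _ _ hn hD hc x y hx
    haveI : Group.IsNilpotent D := hD.isNilpotent
    by_cases hM : Subgroup.normalClosure ({x} : Set D) = ⊤
    · have hz : Subgroup.zpowers x ⊔ frattini D = ⊤ := by
        by_contra hne
        obtain ⟨M, hM1, hM2⟩ := (eq_top_or_exists_le_coatom (Subgroup.zpowers x ⊔ frattini D)).resolve_left hne
        haveI : M.Normal := Subgroup.NormalizerCondition.normal_of_coatom M
          Group.normalizerCondition_of_isNilpotent hM1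
        refine hM1.1 (top_le_iff.1 (hM ▸ Subgroup.normalClosure_le_normal ?_))
        exact Set.singleton_subset_iff.2 (hM2 (Subgroup.mem_sup_left (Subgroup.mem_zpowers x)))
      have hz' := frattini_nongenerating hz
      obtain ⟨i, rfl⟩ := Subgroup.mem_zpowers_iff.1 (hz' ▸ Subgroup.mem_top y : y ∈ Subgroup.zpowers x)
      rw [commutatorElement_eq_one_iff_mul_comm.2 (Commute.self_zpow x i).eq, one_pow]
    · have hlt : Nat.card (Subgroup.normalClosure ({x} : Set D)) < n := hn ▸
        lt_of_le_of_ne (Subgroup.card_le_card_group _) (fun e => hM (Subgroup.eq_top_of_card_eq _ e))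
      have hxM : x ∈ Subgroup.normalClosure ({x} : Set D) := Subgroup.subset_normalClosure rfl
      set w := y * x⁻¹ * y⁻¹ with hw
      have hwM : w ∈ Subgroup.normalClosure ({x} : Set D) :=
        Subgroup.Normal.conj_mem inferInstance _ (inv_mem hxM) y
      have hcM : ⁅w, x⁆ ^ p = 1 := by
        have := ih _ hlt (Subgroup.normalClosure ({x} : Set D)) rfl (hD.to_subgroup _)
          (fun z hz => Subgroup.mem_center_iff.2 fun u => Subtype.ext
            (Subgroup.mem_center_iff.1 (hc z (by rw [← Subgroup.coe_pow, hz]; rfl)) u))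
          ⟨x, hxM⟩ ⟨w, hwM⟩ (Subtype.ext (by push_cast; exact hx))
        have h2 : ⁅x, w⁆ ^ p = 1 := by
          have := congrArg Subtype.val this
          simpa [commutatorElement_def] using this
        rw [← commutatorElement_inv x w, inv_pow, h2, inv_one]
      have hcen := Subgroup.mem_center_iff.1 (hc _ hcM)
      rw [commutatorElement_def, show x * y * x⁻¹ * y⁻¹ = x * w by rw [hw]; group,
        CfsgLib.Solv.mul_pow_prime hp2 (hcen x).symm (hcen w).symm hcM, hw, conj_pow]
      have hxp : x ^ p ∈ Subgroup.center D := hc _ (by rw [← pow_mul, hx])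
      rw [Subgroup.mem_center_iff.1 (inv_pow x p ▸ inv_mem hxp) y, mul_inv_cancel_right, inv_pow, mul_inv_cancel]

theorem omega_series (hp2 : p ≠ 2) : ∀ (i : ℕ) (D : Type*) [Group D] [Finite D], IsPGroup p D →
    (∀ x : D, x ^ p = 1 → x ∈ Subgroup.center D) → ∃ U V : Subgroup D, (∀ x, x ∈ U ↔ x ^ p ^ i = 1) ∧
      (∀ x, x ∈ V ↔ x ^ p ^ (i + 1) = 1) ∧ Nat.card V ≤ Nat.card {x : D // x ^ p = 1} * Nat.card U := by
  intro i
  induction i with
  | zero =>
    intro D _ _ hD hc
    let V : Subgroup D :=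
      { carrier := {x | x ^ p = 1}
        one_mem' := one_pow p
        mul_mem' := fun {x y} hx hy => by
          show (x * y) ^ p = 1
          rw [(show Commute x y from (Subgroup.mem_center_iff.1 (hc x hx) y).symm).mul_pow, hx, hy, one_mul]
        inv_mem' := fun {x} hx => show x⁻¹ ^ p = 1 by rw [inv_pow, hx, inv_one] }
    refine ⟨⊥, V, fun x => by rw [pow_zero, pow_one, Subgroup.mem_bot], fun x => by rw [zero_add, pow_one]; rfl, ?_⟩
    rw [Subgroup.card_bot, mul_one]
    exact le_of_eq rfl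
  | succ i ih =>
    intro D _ _ hD hc
    let W : Subgroup D :=
      { carrier := {x | x ^ p = 1}
        one_mem' := one_pow p
        mul_mem' := fun {x y} hx hy => by
          show (x * y) ^ p = 1
          rw [(show Commute x y from (Subgroup.mem_center_iff.1 (hc x hx) y).symm).mul_pow, hx, hy, one_mul]
        inv_mem' := fun {x} hx => show x⁻¹ ^ p = 1 by rw [inv_pow, hx, inv_one] }
    have hWc : W ≤ Subgroup.center D := hc
    haveI : W.Normal := ⟨fun x hx g => by rw [Subgroup.mem_center_iff.1 (hWc hx) g, mul_inv_cancel_right]; exact hx⟩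
    have key : ∀ (x : D) (k : ℕ), ((x : D ⧸ W)) ^ k = 1 ↔ x ^ (k * p) = 1 := fun x k => by
      rw [← QuotientGroup.mk_pow, QuotientGroup.eq_one_iff, pow_mul]; rfl
    have hc' : ∀ z : D ⧸ W, z ^ p = 1 → z ∈ Subgroup.center (D ⧸ W) := by
      intro z hz
      induction z using QuotientGroup.induction_on with | _ x =>
      refine Subgroup.mem_center_iff.2 fun u => ?_
      induction u using QuotientGroup.induction_on with | _ y =>
      refine (commutatorElement_eq_one_iff_mul_comm.1 ?_).symm
      rw [commutatorElement_def, ← QuotientGroup.mk_inv, ← QuotientGroup.mk_inv, ← QuotientGroup.mk_mul,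
        ← QuotientGroup.mk_mul, ← QuotientGroup.mk_mul, QuotientGroup.eq_one_iff]
      exact sq_comm hp2 _ D rfl hD hc x y ((key x p).1 hz)
    obtain ⟨U, V, hU, hV, hUV⟩ := ih (D ⧸ W) (hD.to_quotient W) hc'
    refine ⟨U.comap (QuotientGroup.mk' W), V.comap (QuotientGroup.mk' W), fun x => ?_, fun x => ?_, ?_⟩
    · rw [Subgroup.mem_comap, hU, QuotientGroup.mk'_apply, key, ← pow_succ]
    · rw [Subgroup.mem_comap, hV, QuotientGroup.mk'_apply, key, ← pow_succ]
    have hcard : ∀ Y : Subgroup (D ⧸ W), Nat.card (Y.comap (QuotientGroup.mk' W)) = Nat.card W * Nat.card Y := fun Y => by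
      have e1 := Subgroup.card_mul_index (Y.comap (QuotientGroup.mk' W))
      rw [Subgroup.index_comap_of_surjective _ (QuotientGroup.mk'_surjective W), ← Subgroup.card_mul_index W,
        show W.index = Nat.card (D ⧸ W) from rfl, ← Subgroup.card_mul_index Y, ← mul_assoc] at e1
      exact Nat.eq_of_mul_eq_mul_right (Nat.pos_of_ne_zero Y.index_ne_zero_of_finite) e1
    have hsmall : Nat.card {z : D ⧸ W // z ^ p = 1} ≤ Nat.card W := by
      refine Nat.card_le_card_of_injective (fun z => (⟨z.1.out ^ p, by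
        show (z.1.out ^ p) ^ p = 1
        rw [← pow_mul]; exact (key _ p).1 (by rw [QuotientGroup.out_eq']; exact z.2)⟩ : W)) ?_
      intro z w h
      have h' : z.1.out ^ p = w.1.out ^ p := congrArg Subtype.val h
      refine Subtype.ext ?_
      rw [← QuotientGroup.out_eq' z.1, ← QuotientGroup.out_eq' w.1, QuotientGroup.eq]
      show (z.1.out⁻¹ * w.1.out) ^ p = 1
      have hz2 : (z.1.out⁻¹) ^ (p * p) = 1 := by
        rw [inv_pow, (key _ p).1 (by rw [QuotientGroup.out_eq']; exact z.2), inv_one]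
      have hk : ⁅w.1.out, z.1.out⁻¹⁆ ^ p = 1 := by
        rw [← commutatorElement_inv (z.1.out⁻¹), inv_pow, sq_comm hp2 _ D rfl hD hc _ _ hz2, inv_one]
      rw [CfsgLib.Solv.mul_pow_prime hp2 (Subgroup.mem_center_iff.1 (hc _ hk) _).symm
        (Subgroup.mem_center_iff.1 (hc _ hk) _).symm hk, inv_pow, h', inv_mul_cancel]
    rw [hcard, hcard]
    refine le_trans (Nat.mul_le_mul_left _ hUV) ?_
    rw [← mul_assoc, ← mul_assoc]
    refine Nat.mul_le_mul_right _ (Nat.mul_le_mul_left _ ?_ |>.trans (le_of_eq (mul_comm _ _)))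
    exact hsmall

theorem climb (hp2 : p ≠ 2) {R : Type*} [Group R] [Finite R] (hR : IsPGroup p R) (hr : Cfsg.PRankLE p 2 R)
    (P : Subgroup R → Prop) (h0 : P ⊥)
    (hstep : ∀ X Y : Subgroup R, Y.Characteristic → P X → X ≤ Y → Nat.card Y ≤ p ^ 2 * Nat.card X → P Y) : P ⊤ := by
  classical
  have hinv : ∀ (e : MulAut R) (x : R), (∀ g, ⁅x, g⁆ ∈ Subgroup.center R) → ∀ g, ⁅e x, g⁆ ∈ Subgroup.center R := by
    intro e x hx g
    obtain ⟨g, rfl⟩ := e.surjective g
    rw [← map_commutatorElement]
    refine Subgroup.mem_center_iff.2 fun u => ?_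
    obtain ⟨u, rfl⟩ := e.surjective u
    rw [← map_mul, ← map_mul, Subgroup.mem_center_iff.1 (hx g) u]
  let Z2 : Subgroup R :=
    { carrier := {x | ∀ g, ⁅x, g⁆ ∈ Subgroup.center R}
      one_mem' := fun g => by rw [commutatorElement_one_left]; exact one_mem _
      mul_mem' := fun {x y} hx hy g => by
        have e : ⁅x * y, g⁆ = x * ⁅y, g⁆ * x⁻¹ * ⁅x, g⁆ := by simp [commutatorElement_def]; group
        rw [e, Subgroup.mem_center_iff.1 (hy g) x, mul_inv_cancel_right]
        exact mul_mem (hy g) (hx g)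
      inv_mem' := fun {x} hx g => by
        have e : ⁅x⁻¹, g⁆ = x⁻¹ * (⁅x, g⁆⁻¹ * x) := by simp [commutatorElement_def]; group
        rw [e, ← Subgroup.mem_center_iff.1 (inv_mem (hx g)) x, inv_mul_cancel_left]
        exact inv_mem (hx g) }
  let E : Subgroup R :=
    { carrier := {x | x ∈ Z2 ∧ x ^ p = 1}
      one_mem' := ⟨one_mem _, one_pow p⟩
      mul_mem' := fun {x y} hx hy => ⟨mul_mem hx.1 hy.1, by
        have hz := Subgroup.mem_center_iff.1 (hy.1 x)
        rw [CfsgLib.Solv.mul_pow_prime hp2 (hz x).symm (hz y).symm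
          (by rw [← CfsgLib.Solv.pow_commutator_left (hz y).symm, hy.2, commutatorElement_one_left]), hx.2, hy.2, one_mul]⟩
      inv_mem' := fun {x} hx => ⟨inv_mem hx.1, by rw [inv_pow, hx.2, inv_one]⟩ }
  haveI hEc : E.Characteristic := Subgroup.characteristic_iff_map_le.2 fun e => by
    rintro _ ⟨x, hx, rfl⟩
    exact ⟨hinv e x hx.1, show e x ^ p = 1 by rw [← map_pow, hx.2, map_one]⟩
  let D : Subgroup R := Subgroup.centralizer (E : Set R)
  haveI hDc : D.Characteristic := inferInstance
  -- elements of order `p` centralising `E` lie in `E`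
  have hin : ∀ x ∈ D, x ^ p = 1 → x ∈ E := by
    intro x hx hxp
    by_cases hcyc : IsCyclic R
    · refine ⟨fun g => ?_, hxp⟩
      rw [commutatorElement_eq_one_iff_mul_comm.2 ((IsCyclic.commGroup (α := R)).mul_comm x g)]
      exact one_mem _
    obtain ⟨A, hAn, hAe, hAc⟩ := CfsgLib.Solv.exists_normal_rank_two _ R p hp2 rfl hR hcyc
    haveI := hAn
    have hAE : A ≤ E := fun a ha => ⟨fun g => CfsgLib.Solv.commutator_mem_center_of_card_sq hR hAc ha g, hAe.2 a ha⟩
    have hT : IsMulCommutative (Subgroup.closure ((A : Set R) ∪ {x})) := by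
      refine Subgroup.isMulCommutative_closure ?_
      rintro u (hu | rfl) v (hv | rfl)
      · exact congrArg Subtype.val (hAe.1.is_comm.comm ⟨u, hu⟩ ⟨v, hv⟩)
      · exact Subgroup.mem_centralizer_iff.1 hx u (hAE hu)
      · exact (Subgroup.mem_centralizer_iff.1 hx v (hAE hv)).symm
      · rfl
    have hTp : ∀ t ∈ Subgroup.closure ((A : Set R) ∪ {x}), t ^ p = 1 := by
      intro t ht
      induction ht using Subgroup.closure_induction with
      | mem u hu => rcases hu with hu | rfl; exacts [hAe.2 u hu, hxp]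
      | one => exact one_pow p
      | mul u v hu hv h1 h2 =>
        rw [(show Commute u v from congrArg Subtype.val (hT.is_comm.comm ⟨u, hu⟩ ⟨v, hv⟩)).mul_pow, h1, h2, one_mul]
      | inv u _ h1 => rw [inv_pow, h1, inv_one]
    have e := Subgroup.eq_of_le_of_card_ge (fun a ha => Subgroup.subset_closure (Or.inl ha)) (hAc ▸ hr _ hT hTp)
    exact hAE (e ▸ Subgroup.subset_closure (Or.inr rfl))
  have hD0 : ∀ x : D, x ^ p = 1 → x ∈ Subgroup.center D := fun x hx => by
    refine Subgroup.mem_center_iff.2 fun u => Subtype.ext ?_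
    exact (Subgroup.mem_centralizer_iff.1 u.2 x (hin x x.2 (by rw [← Subgroup.coe_pow, hx]; rfl))).symm
  have hW : Nat.card {x : D // x ^ p = 1} ≤ p ^ 2 := by
    obtain ⟨-, V, -, hV, -⟩ := omega_series hp2 0 D (hR.to_subgroup D) hD0
    have hVc : IsMulCommutative (V.map D.subtype) := ⟨⟨by
      rintro ⟨_, a, ha, rfl⟩ ⟨_, b, hb, rfl⟩
      exact Subtype.ext (congrArg Subtype.val (Subgroup.mem_center_iff.1 (hD0 a (by simpa using (hV a).1 ha)) b)).symm⟩⟩
    have := hr _ hVc (by
      rintro _ ⟨a, ha, rfl⟩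
      rw [← map_pow, show a ^ p = 1 by simpa using (hV a).1 ha, map_one])
    rw [Subgroup.card_map_of_injective D.subtype_injective] at this
    refine le_of_eq_of_le (Nat.card_congr (Equiv.subtypeEquivRight fun a => ?_)) this
    rw [hV]; simp
  have hchar : ∀ (i : ℕ) (U : Subgroup D), (∀ x, x ∈ U ↔ x ^ p ^ i = 1) → (U.map D.subtype).Characteristic := by
    intro i U hU
    refine Subgroup.characteristic_iff_map_le.2 fun e => ?_
    rintro _ ⟨_, ⟨x, hx, rfl⟩, rfl⟩
    refine ⟨⟨e x, CfsgLib.Solv.map_mem_of_characteristic e x.2⟩, (hU _).2 (Subtype.ext ?_), rfl⟩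
    push_cast
    rw [← map_pow, ← Subgroup.coe_pow, (hU x).1 hx, OneMemClass.coe_one, map_one]
  have hser : ∀ i : ℕ, ∀ U : Subgroup D, (∀ x, x ∈ U ↔ x ^ p ^ i = 1) → P (U.map D.subtype) := by
    intro i
    induction i with
    | zero =>
      intro U hU
      rw [show U = ⊥ from Subgroup.ext fun x => by rw [hU, pow_zero, pow_one, Subgroup.mem_bot], Subgroup.map_bot]
      exact h0
    | succ i ih =>
      intro U' hU'
      obtain ⟨U, V, hU, hV, hUV⟩ := omega_series hp2 i D (hR.to_subgroup D) hD0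
      rw [show U' = V from Subgroup.ext fun x => by rw [hU', hV]]
      refine hstep _ _ (hchar _ V hV) (ih U hU) (Subgroup.map_mono fun x hx => (hV x).2 ?_) ?_
      · rw [pow_succ, pow_mul, (hU x).1 hx, one_pow]
      · rw [Subgroup.card_map_of_injective D.subtype_injective, Subgroup.card_map_of_injective D.subtype_injective]
        exact hUV.trans (Nat.mul_le_mul_right _ hW)
  obtain ⟨n, hn⟩ := IsPGroup.iff_card.1 (hR.to_subgroup D)
  have hPD : P D := by
    have := hser n ⊤ (fun x => iff_of_true trivial (by rw [← hn]; exact pow_card_eq_one'))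
    rwa [← MonoidHom.range_eq_map, Subgroup.range_subtype] at this
  refine hstep D ⊤ inferInstance hPD le_top ?_
  -- `R / C(E)` is small
  rw [Subgroup.card_top, ← Subgroup.card_mul_index D, mul_comm]
  refine Nat.mul_le_mul_right _ ?_
  let Z0 : Subgroup R := Subgroup.center R ⊓ E
  have hmem : ∀ (a : E) (g : R), ⁅(a : R), g⁆ ∈ Z0 := fun a g =>
    ⟨a.2.1 g, by
      rw [commutatorElement_def, show (a : R) * g * (a : R)⁻¹ * g⁻¹ = a * (g * (a : R)⁻¹ * g⁻¹) by group]
      exact mul_mem a.2 (Subgroup.Normal.conj_mem inferInstance _ (inv_mem a.2) g)⟩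
  have inj : ∀ (k : ℕ) (s : Fin k → E), Subgroup.closure ((Z0 : Set R) ∪ Set.range (fun j => (s j : R))) = E →
      D.index ≤ Nat.card Z0 ^ k := by
    intro k s hs
    rw [Subgroup.index, show Nat.card Z0 ^ k = Nat.card (Fin k → Z0) by rw [Nat.card_fun, Nat.card_fin]]
    refine Nat.card_le_card_of_injective (fun q j => (⟨_, hmem (s j) q.out⟩ : Z0)) ?_
    intro q r h
    rw [← QuotientGroup.out_eq' q, ← QuotientGroup.out_eq' r, QuotientGroup.eq]
    show q.out⁻¹ * r.out ∈ Subgroup.centralizer (E : Set R)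
    rw [← hs, Subgroup.centralizer_closure, Subgroup.mem_centralizer_iff]
    rintro u (hu | ⟨j, rfl⟩)
    · exact (Subgroup.mem_center_iff.1 hu.1 _).symm
    · have h' : ⁅(s j : R), q.out⁆ = ⁅(s j : R), r.out⁆ := congrArg Subtype.val (congrFun h j)
      rw [commutatorElement_def, commutatorElement_def, mul_assoc _ (s j : R)⁻¹, mul_assoc _ (s j : R)⁻¹,
        mul_assoc (s j : R), mul_assoc (s j : R), mul_right_inj] at h'
      calc (s j : R) * (q.out⁻¹ * r.out) = q.out⁻¹ * (q.out * ((s j : R)⁻¹ * q.out⁻¹))⁻¹ * r.out := by group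
        _ = q.out⁻¹ * (r.out * ((s j : R)⁻¹ * r.out⁻¹))⁻¹ * r.out := by rw [h']
        _ = q.out⁻¹ * r.out * (s j : R) := by group
  have hcl : ∀ (S : Set R) (T : Subgroup R), T = Subgroup.closure S → S ⊆ E → Nat.card E ≤ Nat.card T → Subgroup.closure S = E :=
    fun S T hT hS hc => Subgroup.eq_of_le_of_card_ge ((Subgroup.closure_le _).2 hS) (hT ▸ hc)
  by_cases hab : ∀ x y : E, x * y = y * x
  · haveI : IsMulCommutative E := ⟨⟨hab⟩⟩
    have hE2 : Nat.card E ≤ p ^ 2 := hr E inferInstance fun a ha => ha.2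
    by_cases hle : E ≤ Subgroup.center R
    · have := inj 0 Fin.elim0 (by
        rw [Set.range_eq_empty, Set.union_empty, Subgroup.closure_eq]
        exact inf_eq_right.2 hle)
      rw [pow_zero] at this
      exact this.trans (Nat.one_le_pow _ _ hp.out.pos)
    obtain ⟨a, ha, haZ⟩ := SetLike.not_le_iff_exists.1 hle
    have hne : Z0 ≠ ⊥ := by
      have := CfsgLib.Perm.inf_center_ne_bot hR E (fun e => hle (e ▸ bot_le))
      rwa [inf_comm] at this
    obtain ⟨m, hm⟩ := IsPGroup.iff_card.1 (hR.to_subgroup Z0)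
    have hm1 : 1 ≤ m := Nat.one_le_iff_ne_zero.2 fun e => hne (Subgroup.card_eq_one.1 (by rw [hm, e, pow_zero]))
    let T := Subgroup.closure ((Z0 : Set R) ∪ Set.range (fun _ : Fin 1 => a))
    have hZT : Z0 ≤ T := fun z hz => Subgroup.subset_closure (Or.inl hz)
    have hlt : Nat.card Z0 < Nat.card T := lt_of_le_of_ne (Subgroup.card_le_of_le hZT) fun e =>
      haZ ((Subgroup.eq_of_le_of_card_ge hZT e.ge).ge (Subgroup.subset_closure (Or.inr ⟨0, rfl⟩))).1
    obtain ⟨l, hl⟩ := IsPGroup.iff_card.1 (hR.to_subgroup T)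
    rw [hm, hl] at hlt
    have hl2 : p ^ 2 ≤ Nat.card T := hl ▸ Nat.pow_le_pow_right hp.out.pos (by
      have := (Nat.pow_lt_pow_iff_right hp.out.one_lt).1 hlt; omega)
    have hTE : T = E := hcl _ T rfl (Set.union_subset (fun z hz => hz.2) (by rintro _ ⟨_, rfl⟩; exact ha)) (hE2.trans hl2)
    have := inj 1 (fun _ => ⟨a, ha⟩) hTE
    rw [pow_one] at this
    exact this.trans ((Subgroup.card_le_of_le inf_le_right).trans hE2)
  · obtain ⟨hz, hq⟩ := CfsgLib.OddLocal.small_center (p := p) (E := E) (fun x => Subtype.ext x.2.2)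
      (fun x y => Subgroup.mem_center_iff.2 fun w => Subtype.ext (Subgroup.mem_center_iff.1 (x.2.1 y) w))
      (fun A hA hAp => by
        have hc : IsMulCommutative (A.map E.subtype) := ⟨⟨by
          rintro ⟨_, a, ha, rfl⟩ ⟨_, b, hb, rfl⟩
          exact Subtype.ext (congrArg (fun z : A => ((z : E) : R)) (hA.is_comm.comm ⟨a, ha⟩ ⟨b, hb⟩))⟩⟩
        have := hr (A.map E.subtype) hc (by
          rintro _ ⟨a, ha, rfl⟩
          rw [← map_pow, hAp a ha, map_one])
        rwa [Subgroup.card_map_of_injective E.subtype_injective] at this) hab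
    have hZ0 : Z0 = (Subgroup.center E).map E.subtype := by
      refine Subgroup.eq_of_le_of_card_ge (fun x hx => ⟨⟨x, hx.2⟩, Subgroup.mem_center_iff.2 fun w =>
        Subtype.ext (Subgroup.mem_center_iff.1 hx.1 w), rfl⟩) ?_
      rw [Subgroup.card_map_of_injective E.subtype_injective, hz]
      have hne : Z0 ≠ ⊥ := by
        have := CfsgLib.Perm.inf_center_ne_bot hR E (fun e => hab fun x y => Subtype.ext (by
          have h1 : (x : R) = 1 := (Subgroup.mem_bot).1 (e ▸ x.2)
          rw [Subgroup.coe_mul, Subgroup.coe_mul, h1, one_mul, mul_one]))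
        rwa [inf_comm] at this
      obtain ⟨m, hm⟩ := IsPGroup.iff_card.1 (hR.to_subgroup Z0)
      rw [hm]
      exact Nat.le_self_pow (fun e => hne (Subgroup.card_eq_one.1 (by rw [hm, e, pow_zero]))) p
    have hEc : Nat.card E ≤ p ^ 3 := by
      rw [Subgroup.card_eq_card_quotient_mul_card_subgroup (Subgroup.center E), hz]
      exact (Nat.mul_le_mul_right p hq).trans (le_of_eq (by ring))
    push Not at hab
    obtain ⟨a, b, hab⟩ := hab
    let T : Subgroup E := Subgroup.closure ((Subgroup.center E : Set E) ∪ Set.range ![a, b])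
    have hT : T = ⊤ := by
      refine Subgroup.eq_top_of_le_card T ?_
      have h1 : Subgroup.center E < Subgroup.center E ⊔ Subgroup.zpowers a := lt_of_le_of_ne le_sup_left fun e =>
        hab (Subgroup.mem_center_iff.1 (e ▸ Subgroup.mem_sup_right (Subgroup.mem_zpowers a) : a ∈ Subgroup.center E) b).symm
      have h2 : Subgroup.center E ⊔ Subgroup.zpowers a < T := by
        refine lt_of_le_of_ne (sup_le (fun z hz => Subgroup.subset_closure (Or.inl hz))
          (Subgroup.zpowers_le.2 (Subgroup.subset_closure (Or.inr ⟨0, rfl⟩)))) fun e => hab ?_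
        have hb : b ∈ Subgroup.center E ⊔ Subgroup.zpowers a := e ▸ Subgroup.subset_closure (Or.inr ⟨1, rfl⟩)
        obtain ⟨z, hz, w, hw, rfl⟩ := Subgroup.mem_sup_of_normal_left.1 hb
        obtain ⟨i, rfl⟩ := Subgroup.mem_zpowers_iff.1 hw
        exact ((show Commute a z from Subgroup.mem_center_iff.1 hz a).mul_right (Commute.self_zpow a i)).eq
      obtain ⟨i, hi⟩ := IsPGroup.iff_card.1 (((hR.to_subgroup E).to_subgroup (Subgroup.center E ⊔ Subgroup.zpowers a)))
      obtain ⟨j, hj⟩ := IsPGroup.iff_card.1 (((hR.to_subgroup E).to_subgroup T))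
      have c1 : Nat.card (Subgroup.center E) < Nat.card ↥(Subgroup.center E ⊔ Subgroup.zpowers a) :=
        lt_of_le_of_ne (Subgroup.card_le_of_le h1.le) fun e => h1.ne (Subgroup.eq_of_le_of_card_ge h1.le e.ge)
      have c2 : Nat.card ↥(Subgroup.center E ⊔ Subgroup.zpowers a) < Nat.card T :=
        lt_of_le_of_ne (Subgroup.card_le_of_le h2.le) fun e => h2.ne (Subgroup.eq_of_le_of_card_ge h2.le e.ge)
      rw [hi, hj] at c2
      rw [hz, hi] at c1
      have := (Nat.pow_lt_pow_iff_right hp.out.one_lt).1 c2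
      have : 1 < i := (Nat.pow_lt_pow_iff_right hp.out.one_lt).1 (by rw [pow_one]; exact c1)
      exact hEc.trans (hj ▸ Nat.pow_le_pow_right hp.out.pos (by omega))
    have hgen : Subgroup.closure ((Z0 : Set R) ∪ Set.range (fun j => ((![a, b] j : E) : R))) = E := by
      have h3 := congrArg (Subgroup.map E.subtype) hT
      rw [MonoidHom.map_closure, Set.image_union, ← Set.range_comp, ← MonoidHom.range_eq_map, Subgroup.range_subtype] at h3
      rw [hZ0, Subgroup.coe_map]
      exact h3
    have := inj 2 ![a, b] hgen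
    rwa [hZ0, Subgroup.card_map_of_injective E.subtype_injective, hz] at this

end Cfsg.Agent.S1895

namespace Cfsg.Agent.S1895

/-- Let p be an odd prime and G a finite p-solvable group with no elementary abelian subgroup of order p³. Then every chief factor H/K of G (H, K normal in G with no normal subgroup of G strictly between them) whose order is a power of p has order p or p². -/
theorem result {G : Type*} [Group G] [Finite G] {p : ℕ} [Fact p.Prime] (hp : p ≠ 2)
    (hG : Cfsg.IsPSolvable p G) (hr : Cfsg.PRankLE p 2 G)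
    (H K : Subgroup G) [H.Normal] [K.Normal] (hKH : K < H) (hpow : ∃ n : ℕ, K.relIndex H = p ^ n)
    (hchief : ∀ L : Subgroup G, L.Normal → K ≤ L → L ≤ H → L = K ∨ L = H) :
    K.relIndex H = p ∨ K.relIndex H = p ^ 2 := by
  classical
  haveI : Fact p.Prime := inferInstance
  obtain ⟨n, hn⟩ := hpow
  suffices hle : K.relIndex H ≤ p ^ 2 by
    rw [hn] at hle ⊢
    have h1 := (Nat.pow_le_pow_iff_right (Fact.out : p.Prime).one_lt).1 hle
    have h2 : n ≠ 0 := fun e => by
      rw [e, pow_zero, Subgroup.relIndex_eq_one] at hn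
      exact hKH.not_ge hn
    rcases (show n = 1 ∨ n = 2 by omega) with rfl | rfl
    · left; rw [pow_one]
    · right; rfl
  obtain ⟨Q⟩ := (inferInstance : Nonempty (Sylow p H))
  let R : Subgroup G := (Q : Subgroup H).map H.subtype
  have hN : Subgroup.normalizer (R : Set G) ⊔ H = ⊤ := Q.normalizer_sup_eq_top
  have hRp : IsPGroup p R := Q.2.map H.subtype
  have hRH : R ≤ H := Subgroup.map_subtype_le _
  have hrR : Cfsg.PRankLE p 2 R := fun A hA hAp => by
    have hc : IsMulCommutative (A.map R.subtype) := ⟨⟨by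
      rintro ⟨_, a, ha, rfl⟩ ⟨_, b, hb, rfl⟩
      exact Subtype.ext (congrArg (fun z : A => ((z : R) : G)) (hA.is_comm.comm ⟨a, ha⟩ ⟨b, hb⟩))⟩⟩
    have := hr (A.map R.subtype) hc (by
      rintro _ ⟨a, ha, rfl⟩
      rw [← map_pow, hAp a ha, map_one])
    rwa [Subgroup.card_map_of_injective R.subtype_injective] at this
  -- `H = R K`
  have hHR : R ⊔ K = H := by
    refine le_antisymm (sup_le hRH hKH.le) ?_
    rw [← Subgroup.relIndex_eq_one]
    have h1 : (R ⊔ K).relIndex H ∣ p ^ n := hn ▸ Subgroup.relIndex_dvd_of_le_left H le_sup_right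
    have h2 : (R ⊔ K).relIndex H ∣ R.relIndex H := Subgroup.relIndex_dvd_of_le_left H le_sup_left
    have h3 : ¬ p ∣ R.relIndex H := by
      have : R.relIndex H = (Q : Subgroup H).index := by
        show (R.subgroupOf H).index = _
        rw [show R.subgroupOf H = (Q : Subgroup H) from Subgroup.comap_map_eq_self_of_injective H.subtype_injective _]
      rw [this]
      exact Q.not_dvd_index
    exact Nat.eq_one_of_dvd_coprimes (Nat.Coprime.pow_left n ((Fact.out : p.Prime).coprime_iff_not_dvd.2 h3)) h1 h2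
  let P : Subgroup R → Prop := fun X => X.map R.subtype ≤ K ∨ K.relIndex H ≤ p ^ 2
  have hfin : P ⊤ := climb hp hRp hrR P (Or.inl (by rw [Subgroup.map_bot]; exact bot_le)) (by
    intro X Y hYc hX hXY hcard
    rcases hX with hX | hX
    swap
    · exact Or.inr hX
    haveI := hYc
    set Y' := Y.map R.subtype with hY'
    have hnorm : ∀ g ∈ Subgroup.normalizer (R : Set G), ∀ y ∈ Y', g * y * g⁻¹ ∈ Y' := by
      rintro g hg _ ⟨y, hy, rfl⟩
      exact ⟨_, CfsgLib.Solv.map_mem_of_characteristic (R.normalizerMonoidHom ⟨g, hg⟩) hy, rfl⟩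
    have hM : (Y' ⊔ K).Normal := by
      rw [← Subgroup.normalizer_eq_top_iff, eq_top_iff, ← hN, ← hHR]
      have hK1 : ∀ S : Subgroup G, S ≤ Y' ⊔ K → S ≤ Subgroup.normalizer ((Y' ⊔ K : Subgroup G) : Set G) :=
        fun S hS => hS.trans Subgroup.le_normalizer
      have hN0 : ∀ g ∈ Subgroup.normalizer (R : Set G), ∀ s ∈ Y' ⊔ K, g * s * g⁻¹ ∈ Y' ⊔ K := by
        intro g hg s hs
        obtain ⟨y, hy, k, hk, rfl⟩ := Subgroup.mem_sup_of_normal_right.1 hs
        rw [show g * (y * k) * g⁻¹ = (g * y * g⁻¹) * (g * k * g⁻¹) by group]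
        exact Subgroup.mul_mem_sup (hnorm g hg y hy) (Subgroup.Normal.conj_mem inferInstance k hk g)
      have hN1 : Subgroup.normalizer (R : Set G) ≤ Subgroup.normalizer ((Y' ⊔ K : Subgroup G) : Set G) := fun g hg =>
        Subgroup.mem_normalizer_iff.2 fun s => ⟨hN0 g hg s, fun h => by
          simpa [mul_assoc] using hN0 g⁻¹ (inv_mem hg) _ h⟩
      exact sup_le hN1 (sup_le (Subgroup.le_normalizer.trans hN1) (hK1 K le_sup_right))
    rcases hchief _ hM le_sup_right (sup_le ((Subgroup.map_subtype_le _).trans hRH) hKH.le) with h | h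
    · exact Or.inl (sup_eq_right.1 h)
    right
    have hXY' : X.map R.subtype ≤ Y' := Subgroup.map_mono hXY
    have hpos : 0 < Nat.card (X.map R.subtype) := Nat.card_pos
    calc K.relIndex H = K.relIndex (Y' ⊔ K) := by rw [h]
      _ = K.relIndex Y' := Subgroup.relIndex_sup_right Y' K
      _ ≤ (X.map R.subtype).relIndex Y' := Nat.le_of_dvd
          (Nat.pos_of_ne_zero Subgroup.index_ne_zero_of_finite) (Subgroup.relIndex_dvd_of_le_left Y' hX)
      _ ≤ p ^ 2 := by
        have e := Subgroup.card_mul_index ((X.map R.subtype).subgroupOf Y')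
        rw [Nat.card_congr (Subgroup.subgroupOfEquivOfLe hXY').toEquiv] at e
        change Nat.card (X.map R.subtype) * (X.map R.subtype).relIndex Y' = Nat.card Y' at e
        rw [Subgroup.card_map_of_injective R.subtype_injective, hY', Subgroup.card_map_of_injective R.subtype_injective] at e
        rw [← e, mul_comm (p ^ 2)] at hcard
        exact Nat.le_of_mul_le_mul_left hcard Nat.card_pos)
  rcases hfin with h | h
  · exfalso
    rw [← MonoidHom.range_eq_map, Subgroup.range_subtype] at h
    exact hKH.ne (by rw [← hHR, sup_eq_right.2 h])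
  · exact h

end Cfsg.Agent.S1895
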