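import Cfsg.Statements.S1448
import Cfsg.Agent.S1895
import Cfsg.Agent.S1447
import Cfsg.Agent.OddLocal.RankTwoAut
import Cfsg.Agent.Solv.RankTwoNormal
import Cfsg.Agent.Solv.ClassTwo
import Cfsg.Agent.Perm.BlackburnRankTwo
import Mathlib.Tactic
-- import your own Cfsg.Agent.* helpers here

set_option autoImplicit false
open Cfsg

namespace Cfsg.Agent.S1448

open scoped commutatorElement

variable {p : ℕ} [hp : Fact p.Prime]

theorem conj_iter {G : Type*} [Group G] (hp3 : 3 < p) {x g h k l : G} (hx : x ^ p = 1) (h1 : x * g * x⁻¹ = h * g)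
    (h2 : x * h * x⁻¹ = k * h) (h3 : x * k * x⁻¹ = l * k) (h4 : x * l * x⁻¹ = l) (c1 : Commute k h) (c2 : Commute l k)
    (hk : k ^ p = 1) (hl : l ^ p = 1) : h ^ p = 1 := by
  have key : ∀ j : ℕ, x ^ j * g * (x ^ j)⁻¹ = l ^ j.choose 3 * (k ^ j.choose 2 * (h ^ j * g)) := by
    intro j
    induction j with
    | zero => simp
    | succ j ih =>
      have e : x ^ (j + 1) * g * (x ^ (j + 1))⁻¹ = MulAut.conj x (x ^ j * g * (x ^ j)⁻¹) := by
        rw [MulAut.conj_apply, pow_succ']; group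
      rw [e, ih, map_mul, map_mul, map_mul, map_pow, map_pow, map_pow, MulAut.conj_apply, MulAut.conj_apply,
        MulAut.conj_apply, MulAut.conj_apply, h1, h2, h3, h4, c1.mul_pow, c2.mul_pow,
        show (j + 1).choose 3 = j.choose 3 + j.choose 2 by rw [Nat.choose_succ_succ' j 2, add_comm],
        show (j + 1).choose 2 = j.choose 2 + j by rw [Nat.choose_succ_succ' j 1, Nat.choose_one_right, add_comm],
        pow_add, pow_add, pow_succ h j]
      simp only [mul_assoc]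
  have := key p
  obtain ⟨u, hu⟩ := hp.out.dvd_choose_self (k := 3) (by norm_num) hp3
  obtain ⟨v, hv⟩ := hp.out.dvd_choose_self (k := 2) (by norm_num) (by omega)
  rw [hx, inv_one, one_mul, mul_one, hu, hv, pow_mul, pow_mul, hl, hk, one_pow, one_pow, one_mul, one_mul] at this
  exact mul_right_cancel (this.symm.trans (one_mul g).symm)

theorem comm_zpow {G : Type*} [Group G] {x u : G} (hc : Commute x ⁅x, u⁆) (i : ℤ) : ⁅x ^ i, u⁆ = ⁅x, u⁆ ^ i := by
  have h : u * x * u⁻¹ = ⁅x, u⁆⁻¹ * x := by rw [commutatorElement_def]; group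
  have h2 : u * x ^ i * u⁻¹ = (⁅x, u⁆ ^ i)⁻¹ * x ^ i := by
    rw [← conj_zpow, h, hc.symm.inv_left.mul_zpow, inv_zpow]
  rw [show ⁅x ^ i, u⁆ = x ^ i * (u * x ^ i * u⁻¹)⁻¹ by rw [commutatorElement_def]; group, h2, mul_inv_rev, inv_inv,
    mul_inv_cancel_left]

theorem cyclic_of_roots (hp2 : p ≠ 2) {H : Type*} [Group H] [Finite H] (hH : IsPGroup p H)
    (h : Nat.card {x : H // x ^ p = 1} ≤ p) : IsCyclic H := by
  by_contra hc
  obtain ⟨A, -, hA, hAc⟩ := CfsgLib.Solv.exists_normal_rank_two _ H p hp2 rfl hH hc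
  have : Nat.card A ≤ Nat.card {x : H // x ^ p = 1} :=
    Nat.card_le_card_of_injective (fun a : A => (⟨a, hA.2 a a.2⟩ : {x : H // x ^ p = 1}))
      (fun a b e => Subtype.ext (congrArg (fun z : {x : H // x ^ p = 1} => (z : H)) e))
  have h2 := hAc ▸ this.trans h
  have := (Nat.pow_le_pow_iff_right hp.out.one_lt).1 (show p ^ 2 ≤ p ^ 1 by rwa [pow_one])
  omega

theorem dichotomy (hp3 : 3 < p) {R : Type*} [Group R] [Finite R] (hR : IsPGroup p R) (hr : Cfsg.PRankLE p 2 R) :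
    (∃ E D : Subgroup R, E ⊔ D = ⊤ ∧ (∀ a ∈ E, ∀ b ∈ D, a * b = b * a) ∧ ¬ IsMulCommutative E ∧ Nat.card E = p ^ 3 ∧
      Monoid.exponent E = p ∧ IsCyclic D ∧ Subgroup.closure {x : R | x ∈ D ∧ x ^ p = 1} = ⁅E, E⁆) ∨
    Cfsg.IsMetacyclic R ∨ ∃ K : Subgroup R, K ≠ ⊤ ∧ ∀ α : MulAut R, Odd (orderOf α) → ∀ g, g⁻¹ * α g ∈ K := by
  classical
  have hp2 : p ≠ 2 := by omega
  have hinv : ∀ (e : MulAut R) (x : R), (∀ g, ⁅x, g⁆ ∈ Subgroup.center R) → ∀ g, ⁅e x, g⁆ ∈ Subgroup.center R := by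
    intro e x hx g
    obtain ⟨g, rfl⟩ := e.surjective g
    rw [← map_commutatorElement]
    refine Subgroup.mem_center_iff.2 fun u => ?_
    obtain ⟨u, rfl⟩ := e.surjective u
    rw [← map_mul, ← map_mul, Subgroup.mem_center_iff.1 (hx g) u]
  let Z2 : Subgroup R :=
    { carrier := {x | ∀ g, ⁅x, g⁆ ∈ Subgroup.center R}
      one_mem' := fun g => by rw [commutatorElement_one_left]; exact one_mem _
      mul_mem' := fun {x y} hx hy g => by
        have e : ⁅x * y, g⁆ = x * ⁅y, g⁆ * x⁻¹ * ⁅x, g⁆ := by simp [commutatorElement_def]; group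
        rw [e, Subgroup.mem_center_iff.1 (hy g) x, mul_inv_cancel_right]
        exact mul_mem (hy g) (hx g)
      inv_mem' := fun {x} hx g => by
        have e : ⁅x⁻¹, g⁆ = x⁻¹ * (⁅x, g⁆⁻¹ * x) := by simp [commutatorElement_def]; group
        rw [e, ← Subgroup.mem_center_iff.1 (inv_mem (hx g)) x, inv_mul_cancel_left]
        exact inv_mem (hx g) }
  let E : Subgroup R :=
    { carrier := {x | x ∈ Z2 ∧ x ^ p = 1}
      one_mem' := ⟨one_mem _, one_pow p⟩
      mul_mem' := fun {x y} hx hy => ⟨mul_mem hx.1 hy.1, by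
        have hz := Subgroup.mem_center_iff.1 (hy.1 x)
        rw [CfsgLib.Solv.mul_pow_prime hp2 (hz x).symm (hz y).symm
          (by rw [← CfsgLib.Solv.pow_commutator_left (hz y).symm, hy.2, commutatorElement_one_left]), hx.2, hy.2, one_mul]⟩
      inv_mem' := fun {x} hx => ⟨inv_mem hx.1, by rw [inv_pow, hx.2, inv_one]⟩ }
  haveI hEc : E.Characteristic := Subgroup.characteristic_iff_map_le.2 fun e => by
    rintro _ ⟨x, hx, rfl⟩
    exact ⟨hinv e x hx.1, show e x ^ p = 1 by rw [← map_pow, hx.2, map_one]⟩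
  let D : Subgroup R := Subgroup.centralizer (E : Set R)
  haveI hDc : D.Characteristic := inferInstance
  have hin : ∀ x ∈ D, x ^ p = 1 → x ∈ E := by
    intro x hx hxp
    by_cases hcyc : IsCyclic R
    · refine ⟨fun g => ?_, hxp⟩
      rw [commutatorElement_eq_one_iff_mul_comm.2 ((IsCyclic.commGroup (α := R)).mul_comm x g)]
      exact one_mem _
    obtain ⟨A, hAn, hAe, hAc⟩ := CfsgLib.Solv.exists_normal_rank_two _ R p hp2 rfl hR hcyc
    haveI := hAn
    have hAE : A ≤ E := fun a ha => ⟨fun g => CfsgLib.Solv.commutator_mem_center_of_card_sq hR hAc ha g, hAe.2 a ha⟩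
    have hT : IsMulCommutative (Subgroup.closure ((A : Set R) ∪ {x})) := by
      refine Subgroup.isMulCommutative_closure ?_
      rintro u (hu | rfl) v (hv | rfl)
      · exact congrArg Subtype.val (hAe.1.is_comm.comm ⟨u, hu⟩ ⟨v, hv⟩)
      · exact Subgroup.mem_centralizer_iff.1 hx u (hAE hu)
      · exact (Subgroup.mem_centralizer_iff.1 hx v (hAE hv)).symm
      · rfl
    have hTp : ∀ t ∈ Subgroup.closure ((A : Set R) ∪ {x}), t ^ p = 1 := by
      intro t ht
      induction ht using Subgroup.closure_induction with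
      | mem u hu => rcases hu with hu | rfl; exacts [hAe.2 u hu, hxp]
      | one => exact one_pow p
      | mul u v hu hv h1 h2 =>
        rw [(show Commute u v from congrArg Subtype.val (hT.is_comm.comm ⟨u, hu⟩ ⟨v, hv⟩)).mul_pow, h1, h2, one_mul]
      | inv u _ h1 => rw [inv_pow, h1, inv_one]
    have e := Subgroup.eq_of_le_of_card_ge (fun a ha => Subgroup.subset_closure (Or.inl ha)) (hAc ▸ hr _ hT hTp)
    exact hAE (e ▸ Subgroup.subset_closure (Or.inr rfl))
  let Z0 : Subgroup R := Subgroup.center R ⊓ E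
  have hmem : ∀ a ∈ E, ∀ g : R, ⁅a, g⁆ ∈ Z0 := fun a ha g =>
    ⟨ha.1 g, by
      rw [commutatorElement_def, show a * g * a⁻¹ * g⁻¹ = a * (g * a⁻¹ * g⁻¹) by group]
      exact mul_mem ha (Subgroup.Normal.conj_mem inferInstance _ (inv_mem ha) g)⟩
  have hZ0D : Z0 ≤ D := fun z hz => Subgroup.mem_centralizer_iff.2 fun u _ => Subgroup.mem_center_iff.1 hz.1 u
  let κ : E → (R →* Z0) := fun a => MonoidHom.mk' (fun g => ⟨⁅(a : R), g⁆, hmem a a.2 g⟩) (fun g h => Subtype.ext (by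
    show ⁅(a : R), g * h⁆ = ⁅(a : R), g⁆ * ⁅(a : R), h⁆
    rw [show ⁅(a : R), g * h⁆ = ⁅(a : R), g⁆ * (g * ⁅(a : R), h⁆ * g⁻¹) by simp [commutatorElement_def]; group,
      Subgroup.mem_center_iff.1 (hmem a a.2 h).1 g, mul_inv_cancel_right]))
  have hκ : ∀ (a : E) (g : R), κ a g = 1 ↔ (a : R) * g = g * a := fun a g => by
    rw [← commutatorElement_eq_one_iff_mul_comm, Subtype.ext_iff]; rfl
  have hneZ : E ≠ ⊥ → Z0 ≠ ⊥ := fun h => by
    have := CfsgLib.Perm.inf_center_ne_bot hR E h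
    rwa [inf_comm] at this
  have hZ0p : ∀ m, Nat.card Z0 ≤ p ^ m → Z0 ≠ ⊥ → ∃ i, 1 ≤ i ∧ i ≤ m ∧ Nat.card Z0 = p ^ i := fun m hm hne => by
    obtain ⟨i, hi⟩ := IsPGroup.iff_card.1 (hR.to_subgroup Z0)
    refine ⟨i, Nat.one_le_iff_ne_zero.2 fun e => hne (Subgroup.card_eq_one.1 (by rw [hi, e, pow_zero])), ?_, hi⟩
    exact (Nat.pow_le_pow_iff_right hp.out.one_lt).1 (hi ▸ hm)
  by_cases hab : ∀ x y : E, x * y = y * x
  swap
  · left
    obtain ⟨hz, hq⟩ := CfsgLib.OddLocal.small_center (p := p) (E := E) (fun x => Subtype.ext x.2.2)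
      (fun x y => Subgroup.mem_center_iff.2 fun w => Subtype.ext (Subgroup.mem_center_iff.1 (x.2.1 y) w))
      (fun A hA hAp => by
        have hc : IsMulCommutative (A.map E.subtype) := ⟨⟨by
          rintro ⟨_, a, ha, rfl⟩ ⟨_, b, hb, rfl⟩
          exact Subtype.ext (congrArg (fun z : A => ((z : E) : R)) (hA.is_comm.comm ⟨a, ha⟩ ⟨b, hb⟩))⟩⟩
        have := hr (A.map E.subtype) hc (by
          rintro _ ⟨a, ha, rfl⟩
          rw [← map_pow, hAp a ha, map_one])
        rwa [Subgroup.card_map_of_injective E.subtype_injective] at this) hab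
    have hEp : IsPGroup p E := hR.to_subgroup E
    have hZ0le : Nat.card Z0 ≤ p ^ 1 := by
      refine le_trans ?_ (le_of_eq (show Nat.card ((Subgroup.center E).map E.subtype) = p ^ 1 by
        rw [Subgroup.card_map_of_injective E.subtype_injective, hz, pow_one]))
      exact Subgroup.card_le_of_le fun x hx => ⟨⟨x, hx.2⟩, Subgroup.mem_center_iff.2 fun w =>
        Subtype.ext (Subgroup.mem_center_iff.1 hx.1 w), rfl⟩
    have hEne : E ≠ ⊥ := fun e => hab fun x y => Subtype.ext (by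
      rw [Subgroup.coe_mul, Subgroup.coe_mul, show (x : R) = 1 from Subgroup.mem_bot.1 (e ▸ x.2), one_mul, mul_one])
    obtain ⟨i, hi1, hi2, hi⟩ := hZ0p 1 hZ0le (hneZ hEne)
    obtain rfl : i = 1 := by omega
    rw [pow_one] at hi
    have hZ0 : Z0 = (Subgroup.center E).map E.subtype := by
      refine Subgroup.eq_of_le_of_card_ge (fun x hx => ⟨⟨x, hx.2⟩, Subgroup.mem_center_iff.2 fun w =>
        Subtype.ext (Subgroup.mem_center_iff.1 hx.1 w), rfl⟩) ?_
      rw [Subgroup.card_map_of_injective E.subtype_injective, hz, hi]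
    have hED : E ⊓ D = Z0 := by
      refine le_antisymm (fun x hx => ?_) (le_inf inf_le_right hZ0D)
      rw [hZ0]
      exact ⟨⟨x, hx.1⟩, Subgroup.mem_center_iff.2 fun w => Subtype.ext (Subgroup.mem_centralizer_iff.1 hx.2 w w.2), rfl⟩
    push Not at hab
    obtain ⟨a, b, hab⟩ := hab
    obtain ⟨n, hn⟩ := IsPGroup.iff_card.1 hEp
    have hEle : Nat.card E ≤ p ^ 3 := by
      rw [Subgroup.card_eq_card_quotient_mul_card_subgroup (Subgroup.center E), hz]
      exact (Nat.mul_le_mul_right p hq).trans (le_of_eq (by ring))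
    have hS : ∀ S : Subgroup E, Subgroup.center E ≤ S → a ∈ S → b ∈ S → S = ⊤ ∧ Nat.card E = p ^ 3 := by
      intro S hcS haS hbS
      have h1 : Subgroup.center E < Subgroup.center E ⊔ Subgroup.zpowers a := lt_of_le_of_ne le_sup_left fun e =>
        hab (Subgroup.mem_center_iff.1 (e ▸ Subgroup.mem_sup_right (Subgroup.mem_zpowers a) : a ∈ Subgroup.center E) b).symm
      have h2 : Subgroup.center E ⊔ Subgroup.zpowers a < S := by
        refine lt_of_le_of_ne (sup_le hcS (Subgroup.zpowers_le.2 haS)) fun e => hab ?_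
        obtain ⟨z, hz', w, hw, rfl⟩ := Subgroup.mem_sup_of_normal_left.1 (e.symm ▸ hbS : b ∈ Subgroup.center E ⊔ Subgroup.zpowers a)
        obtain ⟨i, rfl⟩ := Subgroup.mem_zpowers_iff.1 hw
        exact ((show Commute a z from Subgroup.mem_center_iff.1 hz' a).mul_right (Commute.self_zpow a i)).eq
      obtain ⟨i, hi⟩ := IsPGroup.iff_card.1 (hEp.to_subgroup (Subgroup.center E ⊔ Subgroup.zpowers a))
      obtain ⟨j, hj⟩ := IsPGroup.iff_card.1 (hEp.to_subgroup S)
      have c1 : Nat.card (Subgroup.center E) < Nat.card ↥(Subgroup.center E ⊔ Subgroup.zpowers a) :=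
        lt_of_le_of_ne (Subgroup.card_le_of_le h1.le) fun e => h1.ne (Subgroup.eq_of_le_of_card_ge h1.le e.ge)
      have c2 : Nat.card ↥(Subgroup.center E ⊔ Subgroup.zpowers a) < Nat.card S :=
        lt_of_le_of_ne (Subgroup.card_le_of_le h2.le) fun e => h2.ne (Subgroup.eq_of_le_of_card_ge h2.le e.ge)
      rw [hi, hj] at c2
      rw [hz, hi] at c1
      have := (Nat.pow_lt_pow_iff_right hp.out.one_lt).1 c2
      have : 1 < i := (Nat.pow_lt_pow_iff_right hp.out.one_lt).1 (by rw [pow_one]; exact c1)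
      have h3 : p ^ 3 ≤ Nat.card S := hj ▸ Nat.pow_le_pow_right hp.out.pos (by omega)
      exact ⟨Subgroup.eq_top_of_le_card S (hEle.trans h3), le_antisymm hEle (h3.trans (Subgroup.card_le_card_group S))⟩
    have hE3 := (hS ⊤ le_top trivial trivial).2
    have hker : ((κ a).prod (κ b)).ker = D := by
      refine le_antisymm (fun g hg => Subgroup.mem_centralizer_iff.2 fun u hu => ?_) fun g hg => ?_
      · rw [MonoidHom.mem_ker, MonoidHom.prod_apply, Prod.mk_eq_one, hκ, hκ] at hg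
        have hS' := (hS ((Subgroup.centralizer ({g} : Set R)).subgroupOf E) (fun z hz' => by
          have hzc : (z : R) ∈ Z0 := hZ0 ▸ Subgroup.mem_map_of_mem E.subtype hz'
          exact Subgroup.mem_subgroupOf.2 (Subgroup.mem_centralizer_singleton_iff.2 (Subgroup.mem_center_iff.1 hzc.1 g).symm))
          (Subgroup.mem_subgroupOf.2 (Subgroup.mem_centralizer_singleton_iff.2 hg.1))
          (Subgroup.mem_subgroupOf.2 (Subgroup.mem_centralizer_singleton_iff.2 hg.2))).1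
        exact Subgroup.mem_centralizer_singleton_iff.1 (Subgroup.mem_subgroupOf.1 (hS'.symm ▸ Subgroup.mem_top (⟨u, hu⟩ : E)))
      · rw [MonoidHom.mem_ker, MonoidHom.prod_apply, Prod.mk_eq_one, hκ, hκ]
        exact ⟨Subgroup.mem_centralizer_iff.1 hg a a.2, Subgroup.mem_centralizer_iff.1 hg b b.2⟩
    have hidx : D.index ≤ p ^ 2 := by
      rw [← hker, Subgroup.index_ker, sq]
      refine (Subgroup.card_le_card_group _).trans (le_of_eq ?_)
      rw [Nat.card_prod, hi]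
    have hrel : D.relIndex E = p ^ 2 := by
      have h := Subgroup.relIndex_mul_relIndex ⊥ (E ⊓ D) E bot_le inf_le_left
      rw [Subgroup.relIndex_bot_left, Subgroup.relIndex_bot_left, Subgroup.inf_relIndex_left, hE3, hED, hi,
        show p ^ 3 = p * p ^ 2 by ring] at h
      exact Nat.eq_of_mul_eq_mul_left hp.out.pos h
    refine ⟨E, D, ?_, fun u hu v hv => Subgroup.mem_centralizer_iff.1 hv u hu, fun h => hab (h.is_comm.comm a b), hE3, ?_, ?_, ?_⟩
    · have h := Subgroup.relIndex_mul_index (le_sup_right : D ≤ E ⊔ D)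
      rw [Subgroup.relIndex_sup_right, hrel] at h
      refine Subgroup.index_eq_one.1 (le_antisymm ?_ (Nat.one_le_iff_ne_zero.2 Subgroup.index_ne_zero_of_finite))
      refine Nat.le_of_mul_le_mul_left ?_ (pow_pos hp.out.pos 2)
      rw [h, mul_one]; exact hidx
    · haveI : Nontrivial E := ⟨a, b, fun e => hab (by rw [e])⟩
      exact (Monoid.exponent_eq_prime_iff hp.out).2 fun g hg => orderOf_eq_prime (Subtype.ext g.2.2) hg
    · refine cyclic_of_roots hp2 (hR.to_subgroup D) (le_of_le_of_eq ?_ hi)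
      exact Nat.card_le_card_of_injective (fun x : {x : D // x ^ p = 1} => (⟨x.1.1, hED.le ⟨hin _ x.1.2 (by
        rw [← Subgroup.coe_pow, x.2]; rfl), x.1.2⟩⟩ : Z0))
        (fun x y e => Subtype.ext (Subtype.ext (congrArg (fun z : Z0 => (z : R)) e)))
    · have h1 : Subgroup.closure {x : R | x ∈ D ∧ x ^ p = 1} = Z0 := by
        refine le_antisymm ((Subgroup.closure_le _).2 fun x hx => hED.le ⟨hin x hx.1 hx.2, hx.1⟩) fun x hx => ?_
        exact Subgroup.subset_closure ⟨hZ0D hx, hx.2.2⟩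
      rw [h1]
      have hle : ⁅E, E⁆ ≤ Z0 := Subgroup.commutator_le.2 fun u hu v _ => hmem u hu v
      refine (Subgroup.eq_of_le_of_card_ge hle ?_).symm
      rcases (Nat.dvd_prime hp.out).1 (hi ▸ Subgroup.card_dvd_of_le hle) with e | e
      · exfalso
        refine hab (Subtype.ext (commutatorElement_eq_one_iff_mul_comm.1 ?_))
        exact Subgroup.mem_bot.1 (Subgroup.card_eq_one.1 e ▸ Subgroup.commutator_mem_commutator a.2 b.2)
      · rw [hi, e]
  right
  have hED : E ≤ D := fun x hx => Subgroup.mem_centralizer_iff.2 fun u hu =>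
    congrArg Subtype.val (hab ⟨u, hu⟩ ⟨x, hx⟩)
  have hE2 : Nat.card E ≤ p ^ 2 := hr E ⟨⟨hab⟩⟩ fun a ha => ha.2
  have hmeta : (∀ x : R, x ^ p = 1 → x ∈ D) → Cfsg.IsMetacyclic R := fun h => by
    refine CfsgLib.Perm.BlackburnRankTwo.main hp3 _ R rfl hR (le_trans (Subgroup.card_le_of_le ?_) hE2)
    exact (Subgroup.closure_le _).2 fun x hx => hin x (h x hx.2) hx.2
  by_cases hroots : ∀ x : R, x ^ p = 1 → x ∈ D
  · exact Or.inl (hmeta hroots)
  right
  push Not at hroots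
  obtain ⟨x, hxp, hxD⟩ := hroots
  obtain ⟨a, ha, haZ⟩ : ∃ a ∈ E, a ∉ Subgroup.center R := by
    by_contra h
    push Not at h
    exact hxD (Subgroup.mem_centralizer_iff.2 fun u hu => (Subgroup.mem_center_iff.1 (h u hu) x).symm)
  have hltZ : Nat.card Z0 < Nat.card E := lt_of_le_of_ne (Subgroup.card_le_of_le inf_le_right) fun e =>
    haZ ((Subgroup.eq_of_le_of_card_ge (inf_le_right : Z0 ≤ E) e.ge).ge ha).1
  obtain ⟨i, hi1, -, hi⟩ := hZ0p 2 (hltZ.le.trans hE2) (hneZ fun e => haZ (by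
    rw [show a = 1 from Subgroup.mem_bot.1 (e ▸ ha)]; exact one_mem _))
  obtain rfl : i = 1 := by
    have := hi ▸ lt_of_lt_of_le hltZ hE2
    have := (Nat.pow_lt_pow_iff_right hp.out.one_lt).1 this
    omega
  rw [pow_one] at hi
  have hgenE : ∀ S : Subgroup R, Z0 ≤ S → ∀ e ∈ E, e ∉ Subgroup.center R → e ∈ S → E ≤ S := by
    intro S hS e he heZ heS
    have hlt : Nat.card Z0 < Nat.card ↥(E ⊓ S) := lt_of_le_of_ne (Subgroup.card_le_of_le (le_inf inf_le_right hS)) fun h =>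
      heZ ((Subgroup.eq_of_le_of_card_ge (le_inf inf_le_right hS) h.ge).ge ⟨he, heS⟩).1
    obtain ⟨j, hj⟩ := IsPGroup.iff_card.1 (hR.to_subgroup (E ⊓ S))
    rw [hi, hj] at hlt
    have hj2 : 2 ≤ j := (Nat.pow_lt_pow_iff_right hp.out.one_lt).1 (show p ^ 1 < p ^ j by rwa [pow_one])
    exact inf_eq_left.1 (Subgroup.eq_of_le_of_card_ge inf_le_left (hE2.trans (hj ▸ Nat.pow_le_pow_right hp.out.pos hj2)))
  have hxe : ∀ e ∈ E, e ∉ Subgroup.center R → ⁅x, e⁆ ≠ 1 := by
    intro e he heZ h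
    refine hxD (Subgroup.mem_centralizer_iff.2 fun u hu => ?_)
    refine Subgroup.mem_centralizer_singleton_iff.1 (hgenE (Subgroup.centralizer ({x} : Set R)) (fun z hz =>
      Subgroup.mem_centralizer_singleton_iff.2 (Subgroup.mem_center_iff.1 hz.1 x).symm) e he heZ ?_ hu)
    exact Subgroup.mem_centralizer_singleton_iff.2 (commutatorElement_eq_one_iff_mul_comm.1 h).symm
  have hxE : ∀ e ∈ E, ⁅x, e⁆ ∈ Z0 := fun e he => by
    rw [← commutatorElement_inv]; exact inv_mem (hmem e he x)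
  have hidx : D.index = p := by
    have hker : (κ ⟨a, ha⟩).ker = D := by
      refine le_antisymm (fun g hg => Subgroup.mem_centralizer_iff.2 fun u hu => ?_) fun g hg => ?_
      · rw [MonoidHom.mem_ker, hκ] at hg
        exact Subgroup.mem_centralizer_singleton_iff.1 (hgenE (Subgroup.centralizer ({g} : Set R)) (fun z hz =>
          Subgroup.mem_centralizer_singleton_iff.2 (Subgroup.mem_center_iff.1 hz.1 g).symm) a ha haZ
          (Subgroup.mem_centralizer_singleton_iff.2 hg) hu)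
      · rw [MonoidHom.mem_ker, hκ]; exact Subgroup.mem_centralizer_iff.1 hg a ha
    have hd : D.index ∣ p := by
      rw [← hker, Subgroup.index_ker, ← hi]; exact Subgroup.card_subgroup_dvd_card _
    exact ((Nat.dvd_prime hp.out).1 hd).resolve_left fun e => hxD (Subgroup.index_eq_one.1 e ▸ Subgroup.mem_top x)
  have hdec : ∀ g : R, ∃ i : ℤ, g * (x ^ i)⁻¹ ∈ D := by
    intro g
    haveI : D.Normal := inferInstance
    have h1 : ((x : R) : R ⧸ D) ≠ 1 := fun h => hxD ((QuotientGroup.eq_one_iff x).1 h)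
    obtain ⟨i, hi'⟩ := Subgroup.mem_zpowers_iff.1 (mem_zpowers_of_prime_card (p := p)
      (by rw [← Subgroup.index_eq_card, hidx]) h1 (g' := (g : R ⧸ D)))
    refine ⟨i, (QuotientGroup.eq_one_iff _).1 ?_⟩
    rw [QuotientGroup.mk_mul, QuotientGroup.mk_inv, QuotientGroup.mk_zpow, hi', mul_inv_cancel]
  have hcomD : ∀ u ∈ D, ⁅x, u⁆ ∈ D := fun u hu => by
    rw [commutatorElement_def]
    exact mul_mem (Subgroup.Normal.conj_mem inferInstance _ hu x) (inv_mem hu)
  have hcen : ∀ u v : R, u ∈ D → v ∈ E → Commute v u := fun u v hu hv => Subgroup.mem_centralizer_iff.1 hu v hv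
  have hroot : ∀ u : D, u ^ p = 1 → u ∈ Subgroup.center D := fun u hu => Subgroup.mem_center_iff.2 fun v => Subtype.ext
    (hcen v u v.2 (hin u u.2 (by rw [← Subgroup.coe_pow, hu]; rfl))).eq.symm
  have hD' : IsPGroup p D := hR.to_subgroup D
  -- the `p`-th power of an element of order `p ^ 2` in `D` is central
  have hpi : ∀ g ∈ D, g ^ (p * p) = 1 → g ^ p ∈ Z0 := by
    intro g hg hgp
    have heE : g ^ p ∈ E := hin _ (pow_mem hg p) (by rw [← pow_mul]; exact hgp)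
    by_contra hne
    have hne' : g ^ p ∉ Subgroup.center R := fun h => hne ⟨h, heE⟩
    refine hxe _ heE hne' ?_
    have hm : ∀ u v : R, u ∈ D → v ∈ D → u ^ (p * p) = 1 → (v * u) ^ p = v ^ p * u ^ p := by
      intro u v hu hv hup
      have hk : ⁅u, v⁆ ^ p = 1 := by
        have := congrArg Subtype.val (Cfsg.Agent.S1895.sq_comm hp2 _ D rfl hD' hroot ⟨u, hu⟩ ⟨v, hv⟩ (Subtype.ext (by push_cast; exact hup)))
        simpa [commutatorElement_def] using this
      have hkD : ⁅u, v⁆ ∈ D := by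
        rw [commutatorElement_def]; exact mul_mem (mul_mem (mul_mem hu hv) (inv_mem hu)) (inv_mem hv)
      have hkE := hin _ hkD hk
      exact CfsgLib.Solv.mul_pow_prime hp2 (hcen v _ hv hkE) (hcen u _ hu hkE) hk
    have hh := hcomD g hg
    have hhp : ⁅x, g⁆ ^ p = ⁅x, g ^ p⁆ := by
      have h1 := hm g ⁅x, g⁆ hg hh hgp
      rw [show ⁅x, g⁆ * g = x * g * x⁻¹ by rw [commutatorElement_def]; group, conj_pow] at h1
      rw [commutatorElement_def x (g ^ p), h1, mul_inv_cancel_right]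
    have hh2 : ⁅x, g⁆ ^ (p * p) = 1 := by rw [pow_mul, hhp, (hxE _ heE).2.2]
    have hkp : ⁅x, ⁅x, g⁆⁆ ^ p = 1 := by
      have h1 := hm ⁅x, g⁆ ⁅x, ⁅x, g⁆⁆ hh (hcomD _ hh) hh2
      rw [show ⁅x, ⁅x, g⁆⁆ * ⁅x, g⁆ = x * ⁅x, g⁆ * x⁻¹ by rw [commutatorElement_def x ⁅x, g⁆]; group, conj_pow, hhp,
        Subgroup.mem_center_iff.1 (hxE _ heE).1 x, mul_inv_cancel_right] at h1
      exact mul_eq_right.1 h1.symm
    have hkE := hin _ (hcomD _ hh) hkp
    rw [← hhp]
    exact conj_iter hp3 (g := g) (h := ⁅x, g⁆) (k := ⁅x, ⁅x, g⁆⁆) (l := ⁅x, ⁅x, ⁅x, g⁆⁆⁆) hxp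
      (by rw [commutatorElement_def x g]; group) (by rw [commutatorElement_def x ⁅x, g⁆]; group)
      (by rw [commutatorElement_def x ⁅x, ⁅x, g⁆⁆]; group)
      (by rw [Subgroup.mem_center_iff.1 (hxE _ hkE).1 x, mul_inv_cancel_right])
      (hcen _ _ hh hkE) (Subgroup.mem_center_iff.1 (hxE _ hkE).1 _).symm hkp (hxE _ hkE).2.2
  haveI hEn : (E.subgroupOf D).Normal := ⟨fun u hu g => by
    rw [Subgroup.mem_subgroupOf] at hu ⊢
    push_cast
    rw [← (hcen g u g.2 hu).eq, mul_inv_cancel_right]; exact hu⟩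
  have hQc : IsCyclic (D ⧸ E.subgroupOf D) := by
    refine cyclic_of_roots hp2 (hD'.to_quotient _) (le_of_le_of_eq ?_ hi)
    have hsq : ∀ z : {z : D ⧸ E.subgroupOf D // z ^ p = 1}, z.1.out ^ (p * p) = 1 := fun z => by
      have h1 : z.1.out ^ p ∈ E.subgroupOf D := (QuotientGroup.eq_one_iff _).1 (by
        rw [QuotientGroup.mk_pow, QuotientGroup.out_eq', z.2])
      rw [pow_mul]
      exact Subtype.ext (by push_cast; exact h1.2)
    refine Nat.card_le_card_of_injective (fun z => (⟨((z.1.out : D) : R) ^ p,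
      hpi _ z.1.out.2 (by rw [← Subgroup.coe_pow, hsq z]; rfl)⟩ : Z0)) ?_
    intro z w h
    have h' : z.1.out ^ p = w.1.out ^ p := Subtype.ext (by push_cast; exact congrArg (fun u : Z0 => (u : R)) h)
    refine Subtype.ext ?_
    rw [← QuotientGroup.out_eq' z.1, ← QuotientGroup.out_eq' w.1, QuotientGroup.eq]
    have hk : ⁅w.1.out, z.1.out⁻¹⁆ ^ p = 1 := Cfsg.Agent.S1895.sq_comm hp2 _ D rfl hD' hroot _ _ (hsq w)
    have : (z.1.out⁻¹ * w.1.out) ^ p = 1 := by
      rw [CfsgLib.Solv.mul_pow_prime hp2 (Subgroup.mem_center_iff.1 (hroot _ hk) _).symm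
        (Subgroup.mem_center_iff.1 (hroot _ hk) _).symm hk, inv_pow, h', inv_mul_cancel]
    exact Subgroup.mem_subgroupOf.2 (hin _ (z.1.out⁻¹ * w.1.out).2 (by rw [← Subgroup.coe_pow, this]; rfl))
  haveI := hQc
  have hDab : ∀ u v : R, u ∈ D → v ∈ D → Commute u v := fun u v hu hv =>
    congrArg Subtype.val (((QuotientGroup.mk' (E.subgroupOf D)).isMulCommutative_of_isCyclic_of_ker_le_center (by
      rw [QuotientGroup.ker_mk']
      intro w hw
      exact Subgroup.mem_center_iff.2 fun s => Subtype.ext (hcen s w s.2 (Subgroup.mem_subgroupOf.1 hw)).eq.symm)).is_comm.comm ⟨u, hu⟩ ⟨v, hv⟩)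
  have hmul : ∀ u v : R, u ∈ D → v ∈ D → ⁅x, u * v⁆ = ⁅x, u⁆ * ⁅x, v⁆ := by
    intro u v hu hv
    rw [show ⁅x, u * v⁆ = ⁅x, u⁆ * (u * ⁅x, v⁆ * u⁻¹) by simp [commutatorElement_def]; group,
      (hDab u _ hu (hcomD v hv)).eq, mul_inv_cancel_right]
  let F : D →* R := MonoidHom.mk' (fun u => ⁅x, (u : R)⁆) (fun u v => hmul u v u.2 v.2)
  have hpowF : ∀ u ∈ D, ∀ n : ℕ, ⁅x, u ^ n⁆ = ⁅x, u⁆ ^ n := fun u hu n => map_pow F ⟨u, hu⟩ n
  have hzpF : ∀ u ∈ D, ∀ n : ℤ, ⁅x, u ^ n⁆ = ⁅x, u⁆ ^ n := fun u hu n => map_zpow F ⟨u, hu⟩ n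
  have himg : ∀ n : ℕ, ∀ u ∈ D, u ^ p ^ n = 1 → ⁅x, u⁆ ∈ E := by
    intro n
    induction n with
    | zero =>
      intro u hu h
      rw [pow_zero, pow_one] at h
      rw [h, commutatorElement_one_right]; exact one_mem _
    | succ n ih =>
      intro u hu h
      have h1 : ⁅x, u⁆ ^ p ∈ E := hpowF u hu p ▸ ih _ (pow_mem hu p) (by rw [← pow_mul, ← pow_succ']; exact h)
      have hh := hcomD u hu
      have hh2 : ⁅x, u⁆ ^ (p * p) = 1 := by rw [pow_mul]; exact h1.2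
      have hkp : ⁅x, ⁅x, u⁆⁆ ^ p = 1 := by
        rw [← hpowF _ hh, commutatorElement_eq_one_iff_mul_comm]
        exact Subgroup.mem_center_iff.1 (hpi _ hh hh2).1 x
      have hkE := hin _ (hcomD _ hh) hkp
      refine hin _ hh (conj_iter hp3 (g := u) (h := ⁅x, u⁆) (k := ⁅x, ⁅x, u⁆⁆) (l := ⁅x, ⁅x, ⁅x, u⁆⁆⁆) hxp
        (by rw [commutatorElement_def x u]; group) (by rw [commutatorElement_def x ⁅x, u⁆]; group)
        (by rw [commutatorElement_def x ⁅x, ⁅x, u⁆⁆]; group)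
        (by rw [Subgroup.mem_center_iff.1 (hxE _ hkE).1 x, mul_inv_cancel_right])
        (hcen _ _ hh hkE) (Subgroup.mem_center_iff.1 (hxE _ hkE).1 _).symm hkp (hxE _ hkE).2.2)
  have himg' : ∀ u ∈ D, ⁅x, u⁆ ∈ E := fun u hu => by
    obtain ⟨n, hn⟩ := hR u
    exact himg n u hu hn
  obtain ⟨d, hd, hdy⟩ : ∃ d ∈ D, ⁅x, d⁆ ∉ Subgroup.center R := by
    by_contra h
    push Not at h
    refine hxD (hED ⟨fun g => ?_, hxp⟩)
    obtain ⟨j, hj⟩ := hdec g
    have hc := h _ hj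
    rw [show g = g * (x ^ j)⁻¹ * x ^ j by group]
    rw [show ⁅x, g * (x ^ j)⁻¹ * x ^ j⁆ = ⁅x, g * (x ^ j)⁻¹⁆ * (g * (x ^ j)⁻¹ * ⁅x, x ^ j⁆ * (g * (x ^ j)⁻¹)⁻¹) by
        simp only [commutatorElement_def]; group,
      commutatorElement_eq_one_iff_mul_comm.2 (Commute.self_zpow x j).eq, mul_one, mul_inv_cancel, mul_one]
    exact hc
  have hy := himg' d hd
  have hdp : d ^ p ∈ Subgroup.center R := by
    refine Subgroup.mem_center_iff.2 fun g => ?_
    obtain ⟨j, hj⟩ := hdec g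
    have h1 : Commute x (d ^ p) := commutatorElement_eq_one_iff_mul_comm.1 (by rw [hpowF d hd]; exact hy.2)
    rw [show g = g * (x ^ j)⁻¹ * x ^ j by group]
    exact ((hDab _ _ hj (pow_mem hd p)).mul_left (h1.zpow_left j)).eq
  set q : D →* D ⧸ E.subgroupOf D := QuotientGroup.mk' (E.subgroupOf D) with hq
  have hgen : ∀ u : D, q u ∈ Subgroup.zpowers (q ⟨d, hd⟩) := by
    obtain ⟨z, hz⟩ := hQc.exists_generator
    obtain ⟨z, rfl⟩ := QuotientGroup.mk'_surjective _ z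
    obtain ⟨m, hm⟩ := Subgroup.mem_zpowers_iff.1 (hz (q ⟨d, hd⟩))
    have hnd : ¬ (p : ℤ) ∣ m := by
      rintro ⟨m', rfl⟩
      have he : (((z : D) : R) ^ ((p : ℤ) * m'))⁻¹ * d ∈ E := by
        have := QuotientGroup.eq.1 (show ((z ^ ((p : ℤ) * m') : D) : D ⧸ E.subgroupOf D) = ((⟨d, hd⟩ : D) : D ⧸ E.subgroupOf D) by
          rw [QuotientGroup.mk_zpow]; exact hm)
        simpa [Subgroup.mem_subgroupOf] using this
      apply hdy
      have : d = ((z : D) : R) ^ ((p : ℤ) * m') * ((((z : D) : R) ^ ((p : ℤ) * m'))⁻¹ * d) := by group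
      rw [this, hmul _ _ (zpow_mem z.2 _) (hED he), hzpF _ z.2, zpow_mul, zpow_natCast, (himg' _ z.2).2, one_zpow, one_mul]
      exact (hxE _ he).1
    intro u
    obtain ⟨e, he⟩ := IsPGroup.iff_orderOf.1 (hD'.to_quotient (E.subgroupOf D)) (q z)
    have hco : IsCoprime m (((p ^ e : ℕ) : ℤ)) := by
      push_cast
      exact (((Nat.prime_iff_prime_int.1 hp.out).coprime_iff_not_dvd.2 hnd).symm).pow_right
    obtain ⟨s, t, hst⟩ := hco
    obtain ⟨j, hj⟩ := Subgroup.mem_zpowers_iff.1 (hz (q u))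
    refine Subgroup.mem_zpowers_iff.2 ⟨s * j, ?_⟩
    rw [← hm, ← hj, ← zpow_mul, zpow_eq_zpow_iff_modEq, Int.modEq_iff_dvd]
    refine ⟨t * j, ?_⟩
    rw [he]
    linear_combination (norm := (push_cast; ring)) (-j) * hst
  obtain ⟨s, hs⟩ := IsPGroup.iff_orderOf.1 (hD'.to_quotient (E.subgroupOf D)) (q ⟨d, hd⟩)
  obtain ⟨s, rfl⟩ : ∃ t, s = t + 1 := Nat.exists_eq_succ_of_ne_zero fun e => hdy (by
    rw [e, pow_zero, orderOf_eq_one_iff] at hs
    exact (hxE _ (Subgroup.mem_subgroupOf.1 ((QuotientGroup.eq_one_iff _).1 hs))).1)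
  have hw' : d ^ p ^ (s + 1) ∈ Z0 := by
    refine ⟨?_, ?_⟩
    · rw [pow_succ', pow_mul]; exact pow_mem hdp _
    · have h1 : q (⟨d, hd⟩ ^ p ^ (s + 1)) = 1 := by rw [map_pow, ← hs, pow_orderOf_eq_one]
      simpa [Subgroup.mem_subgroupOf] using (QuotientGroup.eq_one_iff _).1 h1
  have hw1 : d ^ p ^ (s + 1) ≠ 1 := by
    intro h
    have h1 : d ^ p ^ s ∈ E := hin _ (pow_mem hd _) (by rw [← pow_mul, ← pow_succ]; exact h)
    have h2 : q ⟨d, hd⟩ ^ p ^ s = 1 := by
      rw [← map_pow]; exact (QuotientGroup.eq_one_iff _).2 (Subgroup.mem_subgroupOf.2 (by push_cast; exact h1))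
    have := Nat.le_of_dvd (pow_pos hp.out.pos s) (hs ▸ orderOf_dvd_of_pow_eq_one h2)
    have := (Nat.pow_le_pow_iff_right hp.out.one_lt).1 this
    omega
  refine ⟨D, fun e => hxD (e ▸ Subgroup.mem_top x), fun α hα => ?_⟩
  haveI : D.Normal := inferInstance
  obtain ⟨ν, hν⟩ := hdec (α x)
  have hdD : α d ∈ D := CfsgLib.Solv.map_mem_of_characteristic α hd
  obtain ⟨γ, hγ⟩ := Subgroup.mem_zpowers_iff.1 (hgen ⟨α d, hdD⟩)
  have he : (d ^ γ)⁻¹ * α d ∈ E := by
    have := QuotientGroup.eq.1 (show (((⟨d, hd⟩ : D) ^ γ : D) : D ⧸ E.subgroupOf D) = ((⟨α d, hdD⟩ : D) : D ⧸ E.subgroupOf D) by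
      rw [QuotientGroup.mk_zpow]; exact hγ)
    simpa [Subgroup.mem_subgroupOf] using this
  have hαd : α d = d ^ γ * ((d ^ γ)⁻¹ * α d) := by group
  -- the scalar on the centre
  have hαw' : α (d ^ p ^ (s + 1)) = (d ^ p ^ (s + 1)) ^ γ := by
    rw [map_pow, hαd, (hDab _ _ (zpow_mem hd γ) (hED he)).mul_pow, pow_succ' p s,
      pow_mul ((d ^ γ)⁻¹ * α d), he.2, one_pow, mul_one, ← zpow_natCast, ← zpow_natCast, zpow_comm]
  have hw : ∀ z ∈ Z0, α z = z ^ γ := by
    intro z hz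
    obtain ⟨j, hj⟩ := Subgroup.mem_zpowers_iff.1 (mem_zpowers_of_prime_card (G := Z0) (p := p) hi
      (g := ⟨_, hw'⟩) (g' := ⟨z, hz⟩) (fun e => hw1 (congrArg Subtype.val e)))
    have hj' : (d ^ p ^ (s + 1)) ^ j = z := congrArg Subtype.val hj
    rw [← hj', map_zpow, hαw', zpow_comm]
  have hx' : ∀ u ∈ D, ⁅α x, u⁆ = ⁅x ^ ν, u⁆ := by
    intro u hu
    have e1 : α x = α x * (x ^ ν)⁻¹ * x ^ ν := by group
    have hconj : ⁅x ^ ν, u⁆ ∈ D := by
      rw [commutatorElement_def]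
      exact mul_mem (Subgroup.Normal.conj_mem inferInstance _ hu _) (inv_mem hu)
    rw [e1, show ⁅α x * (x ^ ν)⁻¹ * x ^ ν, u⁆ = (α x * (x ^ ν)⁻¹) * ⁅x ^ ν, u⁆ * (α x * (x ^ ν)⁻¹)⁻¹ * ⁅α x * (x ^ ν)⁻¹, u⁆ by
        simp only [commutatorElement_def]; group,
      (hDab _ _ hν hconj).eq, mul_inv_cancel_right, commutatorElement_eq_one_iff_mul_comm.2 (hDab _ _ hν hu).eq, mul_one]
  have hyZ : ∀ u : R, ⁅x, u⁆ ∈ Z0 → ⁅x ^ ν, u⁆ = ⁅x, u⁆ ^ ν := fun u hu =>
    comm_zpow (Subgroup.mem_center_iff.1 hu.1 x) ν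
  haveI hZn : Z0.Normal := ⟨fun z hz g => by rw [Subgroup.mem_center_iff.1 hz.1 g, mul_inv_cancel_right]; exact hz⟩
  set π := QuotientGroup.mk' Z0 with hπ
  have hπy : π (α ⁅x, d⁆) = π (⁅x, d⁆ ^ (γ * ν)) := by
    have hcomm : ∀ u ∈ D, π ⁅x ^ ν, u⁆ = π ⁅x, u⁆ ^ ν := fun u hu => by
      rw [map_commutatorElement, map_zpow, map_commutatorElement]
      refine comm_zpow ?_ ν
      rw [← map_commutatorElement]
      refine commutatorElement_eq_one_iff_mul_comm.1 ?_
      rw [← map_commutatorElement]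
      exact (QuotientGroup.eq_one_iff _).2 (hxE _ (himg' u hu))
    rw [map_commutatorElement α, hx' _ hdD, hcomm _ hdD, hαd, hmul _ _ (zpow_mem hd γ) (hED he), hzpF d hd, map_mul,
      show π ⁅x, (d ^ γ)⁻¹ * α d⁆ = 1 from (QuotientGroup.eq_one_iff _).2 (hxE _ he), mul_one, map_zpow, ← zpow_mul, map_zpow]
  have hyd : α ⁅x, d⁆ ∈ D := CfsgLib.Solv.map_mem_of_characteristic α (hED hy)
  have hz : (⁅x, d⁆ ^ (γ * ν))⁻¹ * α ⁅x, d⁆ ∈ Z0 := QuotientGroup.eq.1 hπy.symm
  have hαy : α ⁅x, d⁆ = ⁅x, d⁆ ^ (γ * ν) * ((⁅x, d⁆ ^ (γ * ν))⁻¹ * α ⁅x, d⁆) := by group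
  have hkey : ⁅x, ⁅x, d⁆⁆ ^ γ = ⁅x, ⁅x, d⁆⁆ ^ (γ * ν * ν) := by
    rw [← hw _ (hxE _ hy), map_commutatorElement α x, hx' _ hyd,
      hyZ _ (hxE _ (CfsgLib.Solv.map_mem_of_characteristic α hy)), hαy, hmul _ _ (zpow_mem (hED hy) _) (hZ0D hz),
      hzpF _ (hED hy), commutatorElement_eq_one_iff_mul_comm.2 (Subgroup.mem_center_iff.1 hz.1 x), mul_one, ← zpow_mul]
  have hwo : orderOf ⁅x, ⁅x, d⁆⁆ = p := orderOf_eq_prime (hxE _ hy).2.2 (hxe _ hy hdy)
  rw [zpow_eq_zpow_iff_modEq, hwo, Int.modEq_iff_dvd, show γ * ν * ν - γ = γ * ((ν - 1) * (ν + 1)) by ring] at hkey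
  have hpi' : Prime (p : ℤ) := Nat.prime_iff_prime_int.1 hp.out
  have hγ0 : ¬ (p : ℤ) ∣ γ := by
    intro h
    refine hw1 (α.injective ?_)
    rw [map_one, hαw']
    obtain ⟨c, rfl⟩ := h
    rw [zpow_mul, zpow_natCast, hw'.2.2, one_zpow]
  -- work in the quotient by `D`
  have hq2 : ∀ u : R, ((α u : R) : R ⧸ D) = (u : R ⧸ D) ^ ν := by
    intro u
    obtain ⟨j, hj⟩ := hdec u
    have e0 : ∀ v : R, ∀ j : ℤ, v * (x ^ j)⁻¹ ∈ D → (v : R ⧸ D) = (x : R ⧸ D) ^ j := fun v j h => by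
      have := (QuotientGroup.eq_one_iff _).2 h
      rw [QuotientGroup.mk_mul, QuotientGroup.mk_inv, QuotientGroup.mk_zpow, mul_inv_eq_one] at this
      exact this
    have e1 : ((α u : R) : R ⧸ D) = ((α x : R) : R ⧸ D) ^ j := by
      have := (QuotientGroup.eq_one_iff _).2 (CfsgLib.Solv.map_mem_of_characteristic α hj)
      rw [map_mul, map_inv, map_zpow, QuotientGroup.mk_mul, QuotientGroup.mk_inv, QuotientGroup.mk_zpow, mul_inv_eq_one] at this
      exact this
    rw [e1, e0 _ ν hν, e0 u j hj, zpow_comm]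
  have hord : ∀ u : R, ((u : R ⧸ D)) ^ p = 1 := fun u => by
    rw [← hidx, Subgroup.index]; exact pow_card_eq_one'
  intro g
  rw [← QuotientGroup.eq, hq2]
  rcases hpi'.dvd_or_dvd ((hpi'.dvd_or_dvd hkey).resolve_left hγ0) with h | h
  · obtain ⟨c, hc⟩ := h
    rw [show ν = 1 + (p : ℤ) * c by omega, zpow_add, zpow_mul, zpow_natCast, hord, one_zpow, mul_one, zpow_one]
  · exfalso
    obtain ⟨c, hc⟩ := h
    have hneg : ∀ u : R, ((α u : R) : R ⧸ D) = (u : R ⧸ D)⁻¹ := fun u => by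
      rw [hq2, show ν = -1 + (p : ℤ) * c by omega, zpow_add, zpow_mul, zpow_natCast, hord, one_zpow, mul_one, zpow_neg_one]
    have hit : ∀ m : ℕ, (((α ^ m) x : R) : R ⧸ D) = (x : R ⧸ D) ^ ((-1 : ℤ) ^ m) := by
      intro m
      induction m with
      | zero => simp
      | succ m ih => rw [pow_succ', MulAut.mul_apply, hneg, ih, pow_succ, ← zpow_neg, mul_neg, mul_one]
    have h1 := hit (orderOf α)
    rw [pow_orderOf_eq_one, hα.neg_one_pow, MulAut.one_apply, zpow_neg_one] at h1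
    have h2 : (x : R ⧸ D) ^ 2 = 1 := by rw [sq]; nth_rewrite 2 [h1]; rw [mul_inv_cancel]
    refine hxD ((QuotientGroup.eq_one_iff x).1 ?_)
    obtain ⟨k, hk⟩ := hp.out.odd_of_ne_two hp2
    have := hord x
    rwa [hk, pow_succ, pow_mul, h2, one_pow, one_mul] at this


/-- Let G be a finite group, p an odd prime, R a nontrivial p-subgroup with no elementary abelian subgroup of order p ^ 3, and A a subgroup of odd order coprime to p normalizing R with [R, A] = R. Then 3 < p, and either R is abelian or R is generated by two elementwise-commuting subgroups R₁, R₂ with R₁ non-abelian of order p ^ 3 and exponent p, R₂ cyclic, and the elements of R₂ of order dividing p generating exactly [R₁, R₁]. -/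
theorem result {G : Type*} [Group G] [Finite G] (p : ℕ) [Fact p.Prime] (hp : p ≠ 2) (R A : Subgroup G) (hR : IsPGroup p R) (hR1 : R ≠ ⊥) (hr : Cfsg.PRankLE p 2 R)
    (hA : (A ≤ Subgroup.normalizer (R : Set G))) (hcop : (Nat.card A).Coprime p) (hAodd : Odd (Nat.card A)) (hRA : ⁅R, A⁆ = R) :
    3 < p ∧ (IsMulCommutative R ∨ ∃ R₁ R₂ : Subgroup G, R₁ ⊔ R₂ = R ∧ (∀ a ∈ R₁, ∀ b ∈ R₂, a * b = b * a) ∧
        ¬ IsMulCommutative R₁ ∧ Nat.card R₁ = p ^ 3 ∧ Monoid.exponent R₁ = p ∧ IsCyclic R₂ ∧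
        Subgroup.closure {x : G | x ∈ R₂ ∧ x ^ p = 1} = ⁅R₁, R₁⁆) := by
  classical
  haveI : Fact p.Prime := inferInstance
  have hnorm : ∀ a : A, ∀ x ∈ R, (a : G) * x * (a : G)⁻¹ ∈ R := fun a x hx =>
    (Subgroup.mem_normalizer_iff.1 (hA a.2) x).1 hx
  let act : A →* MulAut R :=
    { toFun := fun a =>
        { toFun := fun x => ⟨(a : G) * x * (a : G)⁻¹, hnorm a x x.2⟩
          invFun := fun x => ⟨(a : G)⁻¹ * x * (a : G), by
            have := hnorm a⁻¹ x x.2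
            simpa using this⟩
          left_inv := fun x => Subtype.ext (by simp [mul_assoc])
          right_inv := fun x => Subtype.ext (by simp [mul_assoc])
          map_mul' := fun x y => Subtype.ext (by simp [mul_assoc]) }
      map_one' := MulEquiv.ext fun x => Subtype.ext (by simp)
      map_mul' := fun a b => MulEquiv.ext fun x => Subtype.ext (by simp [mul_assoc]) }
  have hmove : ¬ ∀ a : A, act a = 1 := by
    intro h
    refine hR1 (le_bot_iff.1 (hRA ▸ Subgroup.commutator_le.2 fun r hr' a ha => Subgroup.mem_bot.2 ?_))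
    have h1 := congrArg (fun z : R => (z : G)) (MulEquiv.congr_fun (h ⟨a, ha⟩) ⟨r, hr'⟩)
    change a * r * a⁻¹ = r at h1
    exact commutatorElement_eq_one_iff_mul_comm.2 ((mul_inv_eq_iff_eq_mul.1 h1).symm)
  have hp3 : 3 < p := by
    push Not at hmove
    obtain ⟨a, ha⟩ := hmove
    obtain ⟨q, hq, hqd⟩ := Nat.exists_prime_and_dvd (orderOf_eq_one_iff.not.2 ha)
    have hu : orderOf (act a ^ (orderOf (act a) / q)) = q :=
      orderOf_pow_orderOf_div (orderOf_pos _).ne' hqd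
    have hqA : q ∣ Nat.card A := hqd.trans ((orderOf_map_dvd act a).trans (orderOf_dvd_natCard a))
    have h := CfsgLib.OddLocal.prime_lt_of_ne_one hp hR hr hq
      (fun e => Nat.not_even_iff_odd.2 hAodd (even_iff_two_dvd.2 (e ▸ hqA)))
      (fun e => hq.ne_one (Nat.eq_one_of_dvd_coprimes hcop hqA (e ▸ dvd_rfl))) hu
    have := (Fact.out : p.Prime).two_le
    omega
  refine ⟨hp3, ?_⟩
  rcases dichotomy hp3 hR hr with ⟨E, D, hED, hcomm, hna, hcard, hexp, hcyc, hcl⟩ | hm | ⟨K, hK, hmv⟩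
  · right
    let e := E.equivMapOfInjective R.subtype R.subtype_injective
    refine ⟨E.map R.subtype, D.map R.subtype, ?_, ?_, ?_, ?_, ?_, ?_, ?_⟩
    · rw [← Subgroup.map_sup, hED, ← MonoidHom.range_eq_map, Subgroup.range_subtype]
    · rintro _ ⟨a, ha, rfl⟩ _ ⟨b, hb, rfl⟩
      rw [← map_mul, ← map_mul, hcomm a ha b hb]
    · exact fun h => hna ⟨⟨fun a b => e.injective (by rw [map_mul, map_mul, h.is_comm.comm])⟩⟩
    · rw [Subgroup.card_map_of_injective R.subtype_injective, hcard]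
    · rw [← Monoid.exponent_eq_of_mulEquiv e, hexp]
    · haveI := hcyc
      exact isCyclic_of_surjective (D.equivMapOfInjective R.subtype R.subtype_injective).toMonoidHom
        (D.equivMapOfInjective R.subtype R.subtype_injective).surjective
    · rw [← Subgroup.map_commutator, ← hcl, MonoidHom.map_closure]
      congr 1
      ext x
      constructor
      · rintro ⟨⟨y, hy, rfl⟩, hx⟩
        exact ⟨y, ⟨hy, R.subtype_injective (by rw [map_pow, map_one]; exact hx)⟩, rfl⟩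
      · rintro ⟨y, ⟨hy, hyp⟩, rfl⟩
        exact ⟨⟨y, hy, rfl⟩, by rw [← map_pow, hyp, map_one]⟩
  · left
    have := (Cfsg.Agent.S1447.result p hp R A hR hm hA hcop).1
    rwa [hRA] at this
  · exfalso
    refine hK (Subgroup.map_injective R.subtype_injective (le_antisymm (Subgroup.map_mono le_top) ?_))
    rw [← MonoidHom.range_eq_map, Subgroup.range_subtype]
    refine hRA.symm.le.trans (Subgroup.commutator_le.2 fun r hr' a ha => ?_)
    have hodd : Odd (orderOf (act ⟨a, ha⟩)) :=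
      Odd.of_dvd_nat hAodd ((orderOf_map_dvd act _).trans (orderOf_dvd_natCard _))
    refine ⟨(⟨r, hr'⟩⁻¹)⁻¹ * act ⟨a, ha⟩ ⟨r, hr'⟩⁻¹, hmv _ hodd _, ?_⟩
    show (r⁻¹)⁻¹ * (a * r⁻¹ * a⁻¹) = ⁅r, a⁆
    rw [commutatorElement_def]; group

end Cfsg.Agent.S1448
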