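import Cfsg.Statements.S1412
import Cfsg.Agent.S1411
import Cfsg.Agent.S1448
import Mathlib.GroupTheory.SchurZassenhaus
import Mathlib.Tactic
-- import your own Cfsg.Agent.* helpers here

set_option autoImplicit false
open Cfsg

namespace Cfsg.Agent.S1412

/-- Let G be a minimal simple group of odd order, p a prime and P a Sylow p-subgroup of G with no elementary abelian subgroup of order p ^ 3. Then either P is abelian, or P is generated by two elementwise-commuting subgroups P₁, P₂ with P₁ nonabelian of order p ^ 3 and exponent p, P₂ cyclic, and the elements of P₂ of order dividing p generating exactly the centre of P₁. -/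
theorem result {G : Type*} [Group G] [Finite G] (hG : Cfsg.IsMinSimpleOddOrder G) (p : ℕ) [Fact p.Prime] (P : Sylow p G) (hr : Cfsg.PRankLE p 2 (P : Subgroup G)) :
    IsMulCommutative (P : Subgroup G) ∨ ∃ P₁ P₂ : Subgroup G, P₁ ⊔ P₂ = (P : Subgroup G) ∧ (∀ a ∈ P₁, ∀ b ∈ P₂, a * b = b * a) ∧
        ¬ IsMulCommutative P₁ ∧ Nat.card P₁ = p ^ 3 ∧ Monoid.exponent P₁ = p ∧ IsCyclic P₂ ∧
        Subgroup.closure {x : G | x ∈ P₂ ∧ x ^ p = 1} = P₁ ⊓ Subgroup.centralizer (P₁ : Set G) := by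
  classical
  haveI : Fact p.Prime := inferInstance
  by_cases hP : (P : Subgroup G) = ⊥
  · left
    exact ⟨⟨fun a b => by
      have h : ∀ c : (P : Subgroup G), c = 1 := fun c => Subtype.ext (Subgroup.mem_bot.1 (hP ▸ c.2))
      rw [h a, h b]⟩⟩
  set N := Subgroup.normalizer ((P : Subgroup G) : Set G) with hN
  have hPN : (P : Subgroup G) ≤ N := Subgroup.le_normalizer
  haveI : ((P : Subgroup G).subgroupOf N).Normal := Subgroup.normal_in_normalizer
  have hidx : ¬ p ∣ ((P : Subgroup G).subgroupOf N).index := fun h =>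
    P.not_dvd_index (h.trans (Subgroup.relIndex_dvd_index_of_le hPN))
  obtain ⟨k, hk⟩ := IsPGroup.iff_card.1 P.2
  have hcopP : Nat.Coprime (Nat.card ((P : Subgroup G).subgroupOf N)) ((P : Subgroup G).subgroupOf N).index := by
    rw [Nat.card_congr (Subgroup.subgroupOfEquivOfLe hPN).toEquiv, hk]
    exact ((Fact.out : p.Prime).coprime_iff_not_dvd.2 hidx).pow_left k
  obtain ⟨W, hW⟩ := Subgroup.exists_right_complement'_of_coprime hcopP
  have hV : Cfsg.IsComplIn (P : Subgroup G) (W.map N.subtype) N := by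
    refine ⟨hPN, Subgroup.map_subtype_le _, eq_bot_iff.2 ?_, fun m hm => ?_⟩
    · rintro x ⟨hxP, w, hw, rfl⟩
      have := (disjoint_iff.1 hW.disjoint).le ⟨(hxP : w ∈ (P : Subgroup G).subgroupOf N), hw⟩
      rw [Subgroup.mem_bot] at this
      simp [this]
    · obtain ⟨⟨a, b⟩, hab, -⟩ := hW.existsUnique (⟨m, hm⟩ : N)
      exact ⟨a.1.1, a.2, b.1.1, ⟨b.1, b.2, rfl⟩, (congrArg Subtype.val hab).symm⟩
  have hRA := ((Cfsg.Agent.S1411.result hG p P _ hV).1).symm
  have hcard : Nat.card (W.map N.subtype) = ((P : Subgroup G).subgroupOf N).index := by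
    rw [Subgroup.card_map_of_injective N.subtype_injective, ← hW.symm.index_eq_card]
  have hp2 : p ≠ 2 := by
    intro e
    have h1 : p ∣ Nat.card (P : Subgroup G) := by
      rw [hk]; exact dvd_pow_self p fun e => hP (Subgroup.card_eq_one.1 (by rw [hk, e, pow_zero]))
    exact Nat.not_even_iff_odd.2 hG.1 (even_iff_two_dvd.2 (e ▸ h1.trans (Subgroup.card_subgroup_dvd_card _)))
  rcases (Cfsg.Agent.S1448.result p hp2 (P : Subgroup G) (W.map N.subtype) P.2 hP hr (Subgroup.map_subtype_le _)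
    (hcard ▸ ((Fact.out : p.Prime).coprime_iff_not_dvd.2 hidx).symm)
    (Odd.of_dvd_nat hG.1 (Subgroup.card_subgroup_dvd_card _)) hRA).2 with h | ⟨R₁, R₂, hsup, hcm, hna, hc, hexp, hcyc, hcl⟩
  · exact Or.inl h
  refine Or.inr ⟨R₁, R₂, hsup, hcm, hna, hc, hexp, hcyc, ?_⟩
  rw [hcl]
  have hle : ⁅R₁, R₁⁆ ≤ R₁ ⊓ Subgroup.centralizer (R₁ : Set G) := by
    rw [← hcl, Subgroup.closure_le]
    intro x hx
    have hx1 : x ∈ ⁅R₁, R₁⁆ := hcl ▸ Subgroup.subset_closure hx
    exact ⟨(Subgroup.commutator_le_self R₁) hx1, Subgroup.mem_centralizer_iff.2 fun u hu => hcm u hu x hx.1⟩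
  refine Subgroup.eq_of_le_of_card_ge hle ?_
  have hne : ⁅R₁, R₁⁆ ≠ ⊥ := fun e => hna ⟨⟨fun a b => Subtype.ext (commutatorElement_eq_one_iff_mul_comm.1
    (Subgroup.mem_bot.1 (e ▸ Subgroup.commutator_mem_commutator a.2 b.2)))⟩⟩
  have hRp : IsPGroup p R₁ := IsPGroup.of_card hc
  obtain ⟨i, hi⟩ := IsPGroup.iff_card.1 (hRp.to_le (Subgroup.commutator_le_self R₁))
  have hpi : p ≤ Nat.card ↥⁅R₁, R₁⁆ := hi ▸ Nat.le_self_pow (fun e => hne (Subgroup.card_eq_one.1 (by rw [hi, e, pow_zero]))) p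
  refine le_trans ?_ hpi
  have hZ : Nat.card ↥(R₁ ⊓ Subgroup.centralizer (R₁ : Set G)) = Nat.card (Subgroup.center R₁) := by
    rw [← Subgroup.card_map_of_injective R₁.subtype_injective (K := Subgroup.center R₁)]
    congr 2
    refine le_antisymm (fun x hx => ⟨⟨x, hx.1⟩, Subgroup.mem_center_iff.2 fun w => Subtype.ext
      (Subgroup.mem_centralizer_iff.1 hx.2 w w.2), rfl⟩) ?_
    rintro _ ⟨x, hx, rfl⟩
    exact ⟨x.2, Subgroup.mem_centralizer_iff.2 fun w hw => congrArg Subtype.val (Subgroup.mem_center_iff.1 hx ⟨w, hw⟩)⟩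
  rw [hZ]
  obtain ⟨j, hj⟩ := IsPGroup.iff_card.1 (hRp.to_subgroup (Subgroup.center R₁))
  rw [hj]
  refine le_trans (Nat.pow_le_pow_right (Fact.out : p.Prime).pos (?_ : j ≤ 1)) (le_of_eq (pow_one p))
  by_contra hj2
  have h3 := Subgroup.card_eq_card_quotient_mul_card_subgroup (Subgroup.center R₁)
  rw [hj, hc] at h3
  obtain ⟨t, ht⟩ := IsPGroup.iff_card.1 (hRp.to_quotient (Subgroup.center R₁))
  rw [ht, ← pow_add] at h3
  have h4 := Nat.pow_right_injective (Fact.out : p.Prime).two_le h3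
  haveI : IsCyclic (R₁ ⧸ Subgroup.center R₁) := by
    rcases (show t = 0 ∨ t = 1 by omega) with rfl | rfl
    · haveI : Subsingleton (R₁ ⧸ Subgroup.center R₁) := (Nat.card_eq_one_iff_unique.1 (by rw [ht, pow_zero])).1
      infer_instance
    · exact isCyclic_of_prime_card (p := p) (by rw [ht, pow_one])
  exact hna ⟨⟨((QuotientGroup.mk' (Subgroup.center R₁)).isMulCommutative_of_isCyclic_of_ker_le_center
    (by rw [QuotientGroup.ker_mk'])).is_comm.comm⟩⟩

end Cfsg.Agent.S1412
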