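import Cfsg.Statements.S1413
import Cfsg.Agent.OddLocal.SylowControl

set_option autoImplicit false
open Cfsg

namespace Cfsg.Agent.S1413

/-- Let G be a minimal simple group of odd order, p a prime and P a Sylow p-subgroup. (c) If Q ≤ P and xQx⁻¹ ≤ P then xQx⁻¹ = yQy⁻¹ for some y ∈ N_G(P). (d) For every Q ≤ P, p does not divide the index of N_P(Q) in N_G(Q). (e) If R is a p-subgroup and Q ≤ P ∩ R is normal in N_G(P), then Q is normal in N_G(R). -/
theorem result {G : Type*} [Group G] [Finite G] (hG : Cfsg.IsMinSimpleOddOrder G) (p : ℕ) [Fact p.Prime] (P : Sylow p G) :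
    (∀ (Q : Subgroup G) (x : G), Q ≤ (P : Subgroup G) → Q.map (MulAut.conj x).toMonoidHom ≤ (P : Subgroup G) →
        ∃ y ∈ Subgroup.normalizer ((P : Subgroup G) : Set G), Q.map (MulAut.conj x).toMonoidHom = Q.map (MulAut.conj y).toMonoidHom) ∧
      (∀ Q : Subgroup G, Q ≤ (P : Subgroup G) →
        ¬ p ∣ ((P : Subgroup G) ⊓ Subgroup.normalizer (Q : Set G)).relIndex (Subgroup.normalizer (Q : Set G))) ∧
      (∀ (R Q : Subgroup G), IsPGroup p R → Q ≤ (P : Subgroup G) ⊓ R →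
        Subgroup.normalizer ((P : Subgroup G) : Set G) ≤ Subgroup.normalizer (Q : Set G) →
        Subgroup.normalizer (R : Set G) ≤ Subgroup.normalizer (Q : Set G)) := by
  classical
  have hc : ∀ (Q : Subgroup G) (x : G), Q ≤ (P : Subgroup G) →
      Q.map (MulAut.conj x).toMonoidHom ≤ (P : Subgroup G) →
        ∃ y ∈ Subgroup.normalizer ((P : Subgroup G) : Set G),
          Q.map (MulAut.conj x).toMonoidHom = Q.map (MulAut.conj y).toMonoidHom := by
    intro Q x hQ hx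
    obtain ⟨y, hy, he⟩ := CfsgLib.OddLocal.SylowControl.control hG P _ Q x hQ le_rfl
      (fun d hd => hx ⟨d, hd, rfl⟩)
    refine ⟨y, hy, le_antisymm ?_ ?_⟩
    · rintro _ ⟨d, hd, rfl⟩
      exact ⟨d, hd, (he d hd).symm⟩
    · rintro _ ⟨d, hd, rfl⟩
      exact ⟨d, hd, he d hd⟩
  refine ⟨hc, fun Q hQ => ?_, fun R Q hR hQ hNQ => ?_⟩
  · set N := Subgroup.normalizer (Q : Set G) with hN
    have hQN : Q ≤ N := Subgroup.le_normalizer
    have hpN : IsPGroup p (((P : Subgroup G) ⊓ N).subgroupOf N) :=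
      (P.2.to_le inf_le_left).of_equiv (Subgroup.subgroupOfEquivOfLe inf_le_right).symm
    obtain ⟨S, hS⟩ := hpN.exists_le_sylow
    obtain ⟨S', hS'⟩ := (S.2.map N.subtype).exists_le_sylow
    obtain ⟨g, hg⟩ := MulAction.exists_smul_eq G S' P
    have hgS : ∀ s : N, s ∈ (S : Subgroup N) → g * s * g⁻¹ ∈ (P : Subgroup G) := by
      intro s hs
      rw [← hg, Sylow.coe_subgroup_smul, CfsgLib.Solv.mem_conj_smul_iff]
      have := hS' ⟨s, hs, rfl⟩
      simpa [mul_assoc] using this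
    obtain ⟨y, hy, he⟩ := hc Q g hQ (by
      rintro _ ⟨d, hd, rfl⟩
      exact hgS ⟨d, hQN hd⟩ (hS (show (⟨d, hQN hd⟩ : N) ∈ _ from ⟨hQ hd, hQN hd⟩)))
    have hn : y⁻¹ * g ∈ N := by
      rw [hN, Subgroup.mem_normalizer_iff_map_conj_eq]
      show Q.map (MulAut.conj (y⁻¹ * g)).toMonoidHom = Q
      have e : (MulAut.conj (y⁻¹ * g)).toMonoidHom
          = (MulAut.conj y⁻¹).toMonoidHom.comp (MulAut.conj g).toMonoidHom := by
        ext z; simp [mul_assoc]
      rw [e, ← Subgroup.map_map, he, Subgroup.map_map]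
      conv_rhs => rw [← Q.map_id]
      congr 1
      ext z; simp [mul_assoc]
    have hle : ∀ s : N, s ∈ (S : Subgroup N) →
        (⟨y⁻¹ * g, hn⟩ : N) * s * (⟨y⁻¹ * g, hn⟩ : N)⁻¹ ∈ ((P : Subgroup G) ⊓ N).subgroupOf N := by
      intro s hs
      refine ⟨?_, ((⟨y⁻¹ * g, hn⟩ : N) * s * (⟨y⁻¹ * g, hn⟩ : N)⁻¹).2⟩
      have h1 := (Subgroup.mem_normalizer_iff''.1 hy _).1 (hgS s hs)
      show y⁻¹ * g * (s : G) * (y⁻¹ * g)⁻¹ ∈ (P : Subgroup G)
      have e : y⁻¹ * g * (s : G) * (y⁻¹ * g)⁻¹ = y⁻¹ * (g * s * g⁻¹) * y := by group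
      rw [e]; exact h1
    have hcard : Nat.card (S : Subgroup N) ≤ Nat.card (((P : Subgroup G) ⊓ N).subgroupOf N) :=
      Nat.card_le_card_of_injective (fun s => ⟨_, hle s.1 s.2⟩) fun a b e => by
        exact Subtype.ext (mul_left_cancel (mul_right_cancel (congrArg Subtype.val e)))
    have heq := Subgroup.eq_of_le_of_card_ge hS hcard
    show ¬ p ∣ (((P : Subgroup G) ⊓ N).subgroupOf N).index
    rw [heq]; exact S.not_dvd_index
  · intro n hn
    have hweak : ∀ x : G, Q.map (MulAut.conj x).toMonoidHom ≤ (P : Subgroup G) →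
        Q.map (MulAut.conj x).toMonoidHom = Q := by
      intro x hx
      obtain ⟨y, hy, he⟩ := hc Q x (hQ.trans inf_le_left) hx
      rw [he]; exact Subgroup.mem_normalizer_iff_map_conj_eq.1 (hNQ hy)
    obtain ⟨R', hR'⟩ := hR.exists_le_sylow
    obtain ⟨g, hg⟩ := MulAction.exists_smul_eq G R' P
    have hgR : ∀ r ∈ R, g * r * g⁻¹ ∈ (P : Subgroup G) := by
      intro r hr
      rw [← hg, Sylow.coe_subgroup_smul, CfsgLib.Solv.mem_conj_smul_iff]
      simpa [mul_assoc] using hR' hr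
    have hgQ := hweak g (by rintro _ ⟨d, hd, rfl⟩; exact hgR d (hQ hd).2)
    have hgn := hweak (g * n) (by
      rintro _ ⟨d, hd, rfl⟩
      show g * n * d * (g * n)⁻¹ ∈ (P : Subgroup G)
      have h1 : n * d * n⁻¹ ∈ R := (Subgroup.mem_normalizer_iff.1 hn d).1 (hQ hd).2
      have h2 := hgR _ h1
      simpa [mul_assoc] using h2)
    have h1 : g ∈ Subgroup.normalizer (Q : Set G) := Subgroup.mem_normalizer_iff_map_conj_eq.2 hgQ
    have h2 : g * n ∈ Subgroup.normalizer (Q : Set G) := Subgroup.mem_normalizer_iff_map_conj_eq.2 hgn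
    have := mul_mem (inv_mem h1) h2
    rwa [inv_mul_cancel_left] at this

end Cfsg.Agent.S1413
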