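import Cfsg.Statements.S1455
import Cfsg.Agent.S1450
import Cfsg.Agent.OddLocal.Factor
import Cfsg.Agent.OddLocal.NarrowAct

set_option autoImplicit false
open Cfsg

namespace Cfsg.Agent.S1455

theorem of_witness {G : Type*} [Group G] [Finite G] [Group.IsSolvable G] (hodd : Odd (Nat.card G))
    (p : ℕ) [Fact p.Prime] (hp2 : p ≠ 2) (S : Sylow p G) (hr : ¬ PRankLE p 2 ↥(S : Subgroup G))
    {R₀ : Subgroup ↥(S : Subgroup G)} (hR₀e : IsElementaryAbelian p R₀)
    (hC2 : ∀ B : Subgroup ↥(S : Subgroup G), B ≤ Subgroup.centralizer (R₀ : Set ↥(S : Subgroup G)) →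
      (∀ b ∈ B, b ^ p = 1) → IsMulCommutative B → Nat.card B ≤ p ^ 2)
    (hpl : PLengthLE p 1 G) :
    (∀ q : ℕ, q.Prime → q ∣ (Cfsg.pPrimeCore p G).index → q ≤ p) ∧
      ((p = 3 ∨ ∀ q : ℕ, q.Prime → q ∣ Nat.card G → p ≤ q) → Cfsg.HasNormalPComplement p G) ∧
      Cfsg.HasNormalPComplement p ↥(commutator G) ∧
      (∀ L : Subgroup ↥(commutator G), (Nat.card L).Coprime p → L ≤ Cfsg.pPrimeCore p ↥(commutator G)) ∧
      commutator G ≤ Cfsg.pPrimePCore p G ∧ ((Cfsg.pPrimePCore p G).index).Coprime p := by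
  have hp := (Fact.out : p.Prime)
  haveI hK0 : (pPrimeCore p G).Normal := CfsgLib.Fus.normal_pPrimeCore p
  set K := pPrimeCore p G with hK
  have hKc : (Nat.card K).Coprime p := CfsgLib.Fus.coprime_card_pPrimeCore p
  haveI := CfsgLib.Fus.normal_pCore (G := G ⧸ K) p
  set R := pCore p (G ⧸ K) with hR
  have hRp : IsPGroup p R := CfsgLib.Fus.isPGroup_pCore
  have hoddQ : Odd (Nat.card (G ⧸ K)) := hodd.of_dvd_nat (Subgroup.card_quotient_dvd_card K)
  have hCR : Subgroup.centralizer (R : Set (G ⧸ K)) ≤ R :=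
    CfsgLib.Solv.centralizer_pCore_le (CfsgLib.Fus.pPrimeCore_quotient_eq_bot p)
  -- `R` is the image of `S`
  set π := QuotientGroup.mk' K with hπ
  obtain ⟨K', hK'n, hK'c, hSK, -⟩ := CfsgLib.OddLocal.plen_one_data hpl S
  have hK'K : K' ≤ K := CfsgLib.Fus.le_pPrimeCore hK'n hK'c
  have hSR : (S : Subgroup G).map π = R := by
    obtain ⟨P, hP⟩ : ∃ P : Sylow p (G ⧸ K), (P : Subgroup (G ⧸ K)) = (S : Subgroup G).map π :=
      ⟨Sylow.mapSurjective (QuotientGroup.mk'_surjective K) S, rfl⟩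
    have hPn : ((S : Subgroup G).map π).Normal := by
      have h := hSK.map π (QuotientGroup.mk'_surjective K)
      rwa [Subgroup.map_sup, (Subgroup.map_eq_bot_iff K').2 (hK'K.trans
        (QuotientGroup.ker_mk' K).ge), sup_bot_eq] at h
    refine le_antisymm (CfsgLib.Fus.le_pCore hPn (S.isPGroup'.map π)) ?_
    rw [← hP]; exact CfsgLib.Solv.pCore_le_sylow P
  have hindex : R.index.Coprime p := by
    have := (Sylow.mapSurjective (QuotientGroup.mk'_surjective K) S).not_dvd_index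
    rw [← hSR]; exact (hp.coprime_iff_not_dvd.2 this).symm
  -- the isomorphism
  let f : ↥(S : Subgroup G) →* R :=
    (π.comp (S : Subgroup G).subtype).codRestrict R fun s => hSR ▸ Subgroup.mem_map_of_mem π s.2
  have hf : Function.Bijective f := by
    refine ⟨(injective_iff_map_eq_one f).2 fun s hs => ?_, fun r => ?_⟩
    · have hsK : (s : G) ∈ K := (QuotientGroup.eq_one_iff _).1 (congrArg Subtype.val hs)
      obtain ⟨n, hn⟩ := S.isPGroup' s
      refine orderOf_eq_one_iff.1 (Nat.eq_one_of_dvd_coprimes (hKc.pow_right n) ?_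
        (orderOf_dvd_of_pow_eq_one hn))
      rw [← Subgroup.orderOf_coe, ← Subgroup.orderOf_mk (H := K) (s : G) hsK]
      exact orderOf_dvd_natCard _
    · obtain ⟨s, hs, hsr⟩ := (hSR.symm ▸ r.2 : (r : G ⧸ K) ∈ (S : Subgroup G).map π)
      exact ⟨⟨s, hs⟩, Subtype.ext hsr⟩
  let e := MulEquiv.ofBijective f hf
  have hE : IsElementaryAbelian p (R₀.map e.toMonoidHom) := by
    refine ⟨⟨⟨?_⟩⟩, ?_⟩
    · rintro ⟨_, a, ha, rfl⟩ ⟨_, b, hb, rfl⟩
      exact Subtype.ext (congrArg (fun z : R₀ => e (z : ↥(S : Subgroup G)))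
        (hR₀e.1.is_comm.comm ⟨a, ha⟩ ⟨b, hb⟩))
    rintro _ ⟨a, ha, rfl⟩
    rw [← map_pow, hR₀e.2 a ha, map_one]
  have hCE : PRankLE p 2 (Subgroup.centralizer ((R₀.map e.toMonoidHom : Subgroup R) : Set R)) := by
    set C := Subgroup.centralizer ((R₀.map e.toMonoidHom : Subgroup R) : Set R)
    intro B hB hBp
    have h := hC2 ((B.map C.subtype).map e.symm.toMonoidHom) ?_ ?_ ?_
    · rwa [Subgroup.card_map_of_injective (f := e.symm.toMonoidHom) e.symm.injective,
        Subgroup.card_map_of_injective C.subtype_injective] at h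
    · rintro _ ⟨_, ⟨u, hu, rfl⟩, rfl⟩
      refine Subgroup.mem_centralizer_iff.2 fun a ha => e.injective ?_
      rw [map_mul, map_mul]
      simp only [MulEquiv.coe_toMonoidHom, MulEquiv.apply_symm_apply]
      exact Subgroup.mem_centralizer_iff.1 u.2 _ (Subgroup.mem_map_of_mem _ ha)
    · rintro _ ⟨_, ⟨u, hu, rfl⟩, rfl⟩
      rw [← map_pow, ← map_pow, hBp u hu, map_one, map_one]
    · refine ⟨⟨?_⟩⟩
      rintro ⟨_, _, ⟨u, hu, rfl⟩, rfl⟩ ⟨_, _, ⟨v, hv, rfl⟩, rfl⟩
      refine Subtype.ext (show e.symm (C.subtype u) * e.symm (C.subtype v) = e.symm (C.subtype v) * e.symm (C.subtype u) from ?_)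
      rw [← map_mul, ← map_mul, ← map_mul, ← map_mul, show u * v = v * u from congrArg (fun z : B => (z : C)) (hB.is_comm.comm ⟨u, hu⟩ ⟨v, hv⟩)]
  have hrR : ¬ PRankLE p 2 R := by
    intro h
    refine hr fun B hB hBp => ?_
    have hc : IsMulCommutative (B.map e.toMonoidHom) := ⟨⟨by
      rintro ⟨_, u, hu, rfl⟩ ⟨_, v, hv, rfl⟩
      exact Subtype.ext (show e u * e v = e v * e u by
        rw [← map_mul, ← map_mul, show u * v = v * u from congrArg (fun z : B => (z : ↥(S : Subgroup G)))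
          (hB.is_comm.comm ⟨u, hu⟩ ⟨v, hv⟩)])⟩⟩
    have := h _ hc (by
      rintro _ ⟨u, hu, rfl⟩
      rw [← map_pow, hBp u hu, map_one])
    rwa [Subgroup.card_map_of_injective (f := e.toMonoidHom) e.injective] at this
  have hkill : ∀ y : G ⧸ K, (orderOf y).Coprime p →
      (y ∈ commutator (G ⧸ K) ∨ (orderOf y).Coprime (p - 1)) → y = 1 := by
    intro y hyp hy
    have hy1 : y ∈ R := hCR (CfsgLib.OddLocal.conjNormal_eq_one.1
      (CfsgLib.OddLocal.NarrowAct.eq_one_of_narrow hp2 hRp hrR hE hCE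
        (MulAut.conjNormal (H := R)) (hyp.coprime_dvd_left (orderOf_map_dvd _ y))
        (hy.imp id fun h => h.coprime_dvd_left (orderOf_map_dvd _ y))))
    obtain ⟨n, hn⟩ := hRp ⟨y, hy1⟩
    exact orderOf_eq_one_iff.1 (Nat.eq_one_of_dvd_coprimes (hyp.pow_right n) dvd_rfl
      (orderOf_dvd_of_pow_eq_one (congrArg Subtype.val hn)))
  have hcomm : commutator (G ⧸ K) ≤ R := by
    refine CfsgLib.Fus.le_pCore inferInstance fun y => ?_
    obtain ⟨n, m, hm, hnm⟩ := Nat.exists_eq_pow_mul_and_not_dvd (orderOf_pos (y : G ⧸ K)).ne' p hp.ne_one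
    refine ⟨n, Subtype.ext (hkill _ ?_ (Or.inl (pow_mem y.2 _)))⟩
    refine ((hp.coprime_iff_not_dvd.2 hm).symm).coprime_dvd_left (orderOf_dvd_of_pow_eq_one ?_)
    rw [Subgroup.coe_pow, ← pow_mul, ← hnm, pow_orderOf_eq_one]
  have hprime : ∀ q : ℕ, q.Prime → q ∣ Nat.card (G ⧸ K) → p ≤ q ∨ p = 3 → q = p := by
    intro q hq hqd h
    haveI := Fact.mk hq
    obtain ⟨y, hy⟩ := exists_prime_orderOf_dvd_card' q hqd
    by_contra hne
    have hq2 : q ≠ 2 := fun hq2 => (Nat.not_even_iff_odd.2 hoddQ) (even_iff_two_dvd.2 (hq2 ▸ hqd))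
    have h1 : y = 1 := hkill y (hy ▸ (Nat.coprime_primes hq hp).2 hne) (Or.inr (by
      rw [hy, hq.coprime_iff_not_dvd]
      intro hd
      have := Nat.le_of_dvd (by have := hp.two_le; omega) hd
      have := hq.two_le
      omega))
    rw [h1, orderOf_one] at hy
    exact hq.ne_one hy.symm
  set H := commutator G
  have hNc : (Nat.card (K.subgroupOf H)).Coprime p := by
    refine hKc.coprime_dvd_left ?_
    rw [← Subgroup.inf_subgroupOf_right, Nat.card_congr (Subgroup.subgroupOfEquivOfLe inf_le_right).toEquiv]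
    exact Subgroup.card_dvd_of_le inf_le_left
  have hmap : ∀ x ∈ H, QuotientGroup.mk' K x ∈ commutator (G ⧸ K) := fun x hx => by
    have h := Subgroup.map_commutator (⊤ : Subgroup G) ⊤ (QuotientGroup.mk' K)
    rw [Subgroup.map_top_of_surjective _ (QuotientGroup.mk'_surjective K)] at h
    exact h.le (Subgroup.mem_map_of_mem _ hx)
  have hHp : ∀ x : H, ∃ n, x ^ p ^ n ∈ K.subgroupOf H := fun x => by
    obtain ⟨n, hn⟩ := hRp ⟨_, hcomm (hmap x x.2)⟩
    refine ⟨n, Subgroup.mem_subgroupOf.2 ?_⟩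
    rw [Subgroup.coe_pow, ← QuotientGroup.eq_one_iff, QuotientGroup.mk_pow]
    exact congrArg Subtype.val hn
  refine ⟨fun q hq hqd => ?_, fun h => ?_, ?_, fun L hL x hx => ?_, ?_, ?_⟩
  · by_contra hlt
    have := hprime q hq hqd (Or.inl (by omega))
    omega
  · refine S1450.hnpc_of_normal K hKc (IsPGroup.of_card (n := (Nat.card (G ⧸ K)).primeFactorsList.length) ?_)
    refine Nat.eq_prime_pow_of_unique_prime_dvd Nat.card_pos.ne' fun {d} hd hdd => hprime d hd hdd ?_
    rcases h with h | h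
    · exact Or.inr h
    · exact Or.inl (h d hd (hdd.trans (Subgroup.card_quotient_dvd_card K)))
  · exact S1450.hnpc_of_normal (K.subgroupOf H) hNc fun y => by
      induction y using QuotientGroup.induction_on with
      | _ x =>
        obtain ⟨n, hn⟩ := hHp x
        exact ⟨n, by rw [← QuotientGroup.mk_pow]; exact (QuotientGroup.eq_one_iff _).2 hn⟩
  · obtain ⟨n, hn⟩ := hHp x
    have hxo : (orderOf x).Coprime p := hL.coprime_dvd_left (by
      rw [← Subgroup.orderOf_mk (H := L) x hx]; exact orderOf_dvd_natCard _)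
    obtain ⟨m, hm⟩ := exists_pow_eq_self_of_coprime (hxo.symm.pow_left n)
    refine CfsgLib.Fus.le_pPrimeCore inferInstance hNc ?_
    rw [← hm]; exact pow_mem hn m
  · exact fun x hx => hcomm (hmap x hx)
  · exact (Subgroup.index_comap_of_surjective _ (QuotientGroup.mk'_surjective K)).symm ▸ hindex



/-- Let G be a solvable group of odd order, p a prime dividing its order, and S a Sylow p-subgroup of G that is narrow; if S has an elementary abelian subgroup of order p ^ 3 assume also G = O_{p',p,p'}(G). Then every prime dividing the index of O_{p'}(G) is at most p; if p = 3 or p is the smallest prime divisor of #G then G has a normal p-complement; G' has a normal p-complement; every subgroup of G' of order coprime to p lies in O_{p'}(G'); and G' ≤ O_{p',p}(G) with the index of O_{p',p}(G) coprime to p. -/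
theorem result {G : Type*} [Group G] [Finite G] [Group.IsSolvable G] (hodd : Odd (Nat.card G)) (p : ℕ) [Fact p.Prime] (hpG : p ∣ Nat.card G) (S : Sylow p G) (hS : Cfsg.IsNarrow p ↥(S : Subgroup G))
    (hpl : ¬ Cfsg.PRankLE p 2 ↥(S : Subgroup G) → Cfsg.PLengthLE p 1 G) :
    (∀ q : ℕ, q.Prime → q ∣ (Cfsg.pPrimeCore p G).index → q ≤ p) ∧
      ((p = 3 ∨ ∀ q : ℕ, q.Prime → q ∣ Nat.card G → p ≤ q) → Cfsg.HasNormalPComplement p G) ∧
      Cfsg.HasNormalPComplement p ↥(commutator G) ∧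
      (∀ L : Subgroup ↥(commutator G), (Nat.card L).Coprime p → L ≤ Cfsg.pPrimeCore p ↥(commutator G)) ∧
      commutator G ≤ Cfsg.pPrimePCore p G ∧ ((Cfsg.pPrimePCore p G).index).Coprime p := by
  classical
  have hp := (Fact.out : p.Prime)
  have hp2 : p ≠ 2 := by
    rintro rfl
    exact (Nat.not_even_iff_odd.2 hodd) (even_iff_two_dvd.2 hpG)
  by_cases hr : PRankLE p 2 ↥(S : Subgroup G)
  · refine S1450.result hodd p hpG fun B hB hBp => ?_
    obtain ⟨g, hg⟩ := MulAction.exists_smul_eq G (((show IsPGroup p B from fun x =>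
      ⟨1, Subtype.ext (by rw [pow_one, Subgroup.coe_pow]; exact hBp _ x.2)⟩)).exists_le_sylow).choose S
    have hle := ((show IsPGroup p B from fun x =>
      ⟨1, Subtype.ext (by rw [pow_one, Subgroup.coe_pow]; exact hBp _ x.2)⟩)).exists_le_sylow.choose_spec
    have hBS : B.map (MulAut.conj g).toMonoidHom ≤ (S : Subgroup G) := by
      rw [← hg]
      exact Subgroup.map_mono hle
    have hc : IsMulCommutative ((B.map (MulAut.conj g).toMonoidHom).subgroupOf S) := ⟨⟨by
      rintro ⟨x, u, hu, hux⟩ ⟨y, v, hv, hvy⟩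
      refine Subtype.ext (Subtype.ext ?_)
      show (x : G) * y = y * x
      rw [show (x : G) = (MulAut.conj g).toMonoidHom u from hux.symm,
        show (y : G) = (MulAut.conj g).toMonoidHom v from hvy.symm, ← map_mul, ← map_mul,
        show u * v = v * u from congrArg (fun z : B => (z : G)) (hB.is_comm.comm ⟨u, hu⟩ ⟨v, hv⟩)]⟩⟩
    have := hr _ hc (by
      rintro x ⟨u, hu, hux⟩
      refine Subtype.ext ?_
      rw [Subgroup.coe_pow, show (x : G) = (MulAut.conj g).toMonoidHom u from hux.symm, ← map_pow,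
        hBp u hu, map_one, Subgroup.coe_one])
    rwa [Nat.card_congr (Subgroup.subgroupOfEquivOfLe hBS).toEquiv,
      Subgroup.card_map_of_injective (MulAut.conj g).injective] at this
  obtain ⟨R₀, R₁, hR₀, hR₁c, hdis, hcomm, hsup⟩ := hS.resolve_left hr
  refine of_witness hodd p hp2 S hr ?_ (fun B hBC hBp _ => ?_) (hpl hr) (R₀ := R₀)
  · haveI : IsCyclic R₀ := isCyclic_of_prime_card hR₀
    refine ⟨inferInstance, fun a ha => ?_⟩
    have h3 : orderOf (⟨a, ha⟩ : R₀) ∣ p := (orderOf_dvd_natCard _).trans hR₀.dvd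
    exact congrArg Subtype.val (orderOf_dvd_iff_pow_eq_one.1 h3)
  have hdec : ∀ b : B, ∃ a : R₀, ∃ c : {c : R₁ // c ^ p = 1},
      (b : ↥(S : Subgroup G)) = (a : ↥(S : Subgroup G)) * ((c.1 : R₁) : ↥(S : Subgroup G)) := by
    intro b
    have hb : (b : ↥(S : Subgroup G)) ∈ R₀ ⊔ R₁ := hsup.symm ▸ hBC b.2
    rw [← SetLike.mem_coe, Subgroup.coe_mul_of_left_le_normalizer_right R₀ R₁ (fun a ha =>
      Subgroup.centralizer_le_normalizer _ (Subgroup.mem_centralizer_iff.2 fun c hc =>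
        (hcomm a ha c hc).symm))] at hb
    obtain ⟨a, ha, c, hc, hac⟩ := hb
    refine ⟨⟨a, ha⟩, ⟨⟨c, hc⟩, Subtype.ext ?_⟩, hac.symm⟩
    have h1 := hBp b b.2
    rw [← hac, (Commute.mul_pow (hcomm a ha c hc) p)] at h1
    have h2 : a ^ p = 1 := by
      have h3 : orderOf (⟨a, ha⟩ : R₀) ∣ p := (orderOf_dvd_natCard _).trans hR₀.dvd
      exact congrArg Subtype.val (orderOf_dvd_iff_pow_eq_one.1 h3)
    rw [h2, one_mul] at h1
    exact h1
  choose a c hac using hdec
  haveI := hR₁c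
  refine (Nat.card_le_card_of_injective (fun b => (a b, c b)) fun b b' h => Subtype.ext ?_).trans ?_
  · simp only [Prod.mk.injEq] at h
    rw [hac b, hac b', h.1, h.2]
  · rw [Nat.card_prod, hR₀, sq]
    refine Nat.mul_le_mul_left _ ?_
    letI : Fintype R₁ := Fintype.ofFinite R₁
    rw [Nat.card_eq_fintype_card, Fintype.card_subtype]
    exact IsCyclic.card_pow_eq_one_le hp.pos

end Cfsg.Agent.S1455
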