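import Cfsg.Statements.S1414
import Cfsg.Agent.OddLocal.Sigma
import Cfsg.Agent.S1410
import Cfsg.Agent.S1455
import Cfsg.Agent.Solv.PComplement

set_option autoImplicit false
open Cfsg

namespace Cfsg.Agent.S1414

open CfsgLib.Solv CfsgLib.OddLocal

theorem hnpc_of_inj {X Y : Type*} [Group X] [Finite X] [Group Y] [Finite Y] {p : ℕ} [Fact p.Prime]
    (f : X →* Y) (hf : Function.Injective f) (h : HasNormalPComplement p Y) :
    HasNormalPComplement p X := by
  rw [hnpc_iff] at h ⊢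
  rw [← Subgroup.card_map_of_injective hf]
  exact fun hd => h (hd.trans (Subgroup.card_dvd_of_le (CfsgLib.Inv.pResidual_map_le p f)))

theorem nilpotent_of_hnpc {X : Type*} [Group X] [Finite X]
    (h : ∀ p : ℕ, ∀ [Fact p.Prime], p ∣ Nat.card X → HasNormalPComplement p X) :
    Group.IsNilpotent X := by
  haveI hn : ∀ p : ℕ, (pResidual p X).Normal := fun p => CfsgLib.Inv.pResidual_normal p X
  let I := {p : ℕ // p ∈ (Nat.card X).primeFactors}
  haveI : ∀ i : I, Fact (i : ℕ).Prime := fun i => ⟨Nat.prime_of_mem_primeFactors i.2⟩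
  let f : X →* ((i : I) → X ⧸ pResidual (i : ℕ) X) := MonoidHom.pi fun i => QuotientGroup.mk' _
  haveI : ∀ i : I, Group.IsNilpotent (X ⧸ pResidual (i : ℕ) X) := fun i => by
    obtain ⟨m, hm⟩ := exists_index_pResidual (G := X) (p := (i : ℕ))
    exact (IsPGroup.of_card (n := m) ((Subgroup.index_eq_card _).symm.trans hm)).isNilpotent
  refine Subgroup.isNilpotent_of_ker_le_center f (fun x hx => ?_)
  have hx1 : x = 1 := by
    refine orderOf_eq_one_iff.1 (Nat.eq_one_iff_not_exists_prime_dvd.2 fun p hp hd => ?_)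
    haveI := Fact.mk hp
    have hpX : p ∣ Nat.card X := hd.trans (orderOf_dvd_natCard x)
    have hmem : x ∈ pResidual p X := (QuotientGroup.eq_one_iff x).1
      (congrFun (show f x = 1 from hx) ⟨p, Nat.mem_primeFactors.2 ⟨hp, hpX, Nat.card_pos.ne'⟩⟩)
    exact hnpc_iff.1 (h p hpX) (hd.trans
      (Subgroup.orderOf_mk (H := pResidual p X) x hmem ▸ orderOf_dvd_natCard _))
  rw [hx1]; exact one_mem _

section
variable {G : Type*} [Group G] [Finite G] (hG : IsMinSimpleOddOrder G) {M : Subgroup G} (hM : IsCoatom M)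
include hG hM

theorem beta_subset : beta M ⊆ sigma M := fun _ hp => Sigma.alpha_subset_sigma hG hM hp.1

theorem not_beta {p : ℕ} [Fact p.Prime] (hpM : p ∣ Nat.card M) (hpβ : p ∉ beta M) :
    HasNormalPComplement p ↥(commutator ↥M) ∧
      ∀ q : ℕ, q.Prime → q ∣ (pPrimeCore p ↥M).index → q ≤ p := by
  haveI := Trans.solvable_proper hG hM.1
  have hoddM : Odd (Nat.card M) := hG.1.of_dvd_nat M.card_subgroup_dvd_card
  by_cases hr : PRankLE p 2 M
  · have h := Cfsg.Agent.S1450.result (G := M) hoddM p hpM hr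
    exact ⟨h.2.2.1, h.1⟩
  have hp2 : p ≠ 2 := by
    rintro rfl
    exact (Nat.not_even_iff_odd.2 hoddM) (even_iff_two_dvd.2 hpM)
  have hpα : p ∈ alpha M := ⟨Fact.out, hr⟩
  obtain ⟨S⟩ : Nonempty (Sylow p M) := inferInstance
  have hrS : ¬ PRankLE p 2 ↥(S : Subgroup M) := fun h => hr (Uniq.rank_of_sylow S h)
  obtain ⟨Q, hQ⟩ := Sigma.sylow_of_normalizer_le S
    (Sigma.normalizer_le (Sigma.alpha_subset_sigma hG hM hpα) S)
  have hrG : ¬ PRankLE p 2 G := fun h => hr (CfsgLib.OddLocal.restrict_rank h)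
  have hni : ¬ IsIdealPrime p G := fun h => hpβ ⟨hpα, h⟩
  unfold IsIdealPrime at hni
  push Not at hni
  obtain ⟨P, A, hAP, hAe, hA2, hAmax⟩ := hni Fact.out hrG
  obtain ⟨g, hg⟩ := MulAction.exists_smul_eq G P Q
  -- transport `A` into `S`
  let f : ↥(S : Subgroup M) →* G :=
    (MulAut.conj g⁻¹).toMonoidHom.comp (M.subtype.comp (S : Subgroup M).subtype)
  have hf : Function.Injective f := fun x y h =>
    Subtype.ext (Subtype.ext ((MulAut.conj g⁻¹).injective h))
  have hrange : ∀ x : ↥(S : Subgroup M), f x ∈ (P : Subgroup G) := by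
    intro x
    have h1 : ((x : M) : G) ∈ (Q : Subgroup G) := hQ.ge (Subgroup.mem_map_of_mem M.subtype x.2)
    rw [← hg, Sylow.coe_subgroup_smul, mem_conj_smul_iff] at h1
    simpa [f] using h1
  have hsurj : ∀ a ∈ (P : Subgroup G), ∃ x : ↥(S : Subgroup M), f x = a := by
    intro a ha
    have h1 : g * a * g⁻¹ ∈ (Q : Subgroup G) := by
      rw [← hg, Sylow.coe_subgroup_smul, mem_conj_smul_iff]
      simpa [mul_assoc] using ha
    obtain ⟨m, hm, hme⟩ := (hQ.le h1 : g * a * g⁻¹ ∈ Sigma.top S)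
    refine ⟨⟨m, hm⟩, ?_⟩
    show (MulAut.conj g⁻¹) ((m : G)) = a
    rw [show (m : G) = g * a * g⁻¹ from hme, MulAut.conj_apply]
    group
  have hE : IsElementaryAbelian p (A.comap f) := by
    refine ⟨⟨⟨?_⟩⟩, fun x hx => hf (by rw [map_pow, hAe.2 _ hx, map_one])⟩
    rintro ⟨x, hx⟩ ⟨y, hy⟩
    exact Subtype.ext (hf (by
      simp only [Subgroup.coe_mul, map_mul]
      exact congrArg (fun z : A => (z : G)) (hAe.1.is_comm.comm ⟨_, hx⟩ ⟨_, hy⟩)))
  have hC : ∀ B : Subgroup ↥(S : Subgroup M),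
      B ≤ Subgroup.centralizer ((A.comap f : Subgroup ↥(S : Subgroup M)) : Set ↥(S : Subgroup M)) →
      (∀ b ∈ B, b ^ p = 1) → IsMulCommutative B → Nat.card B ≤ p ^ 2 := by
    intro B hBC hBp _
    rw [← Subgroup.card_map_of_injective hf, ← hA2]
    refine Subgroup.card_le_of_le ?_
    rintro _ ⟨b, hb, rfl⟩
    by_contra hbA
    have hcomm : ∀ e ∈ A, e * f b = f b * e := by
      intro e he
      obtain ⟨x, rfl⟩ := hsurj e (hAP he)
      rw [← map_mul, ← map_mul, Subgroup.mem_centralizer_iff.1 (hBC hb) x he]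
    refine hAmax (A ⊔ Subgroup.zpowers (f b)) (sup_le hAP ((Subgroup.zpowers_le).2 (hrange b)))
      (SCN3.mem_sup_elementary hAe (by rw [← map_pow, hBp b hb, map_one]) hcomm) ?_
    exact lt_of_le_of_ne le_sup_left fun e =>
      hbA (e.ge (Subgroup.mem_sup_right (Subgroup.mem_zpowers _)))
  have h := Cfsg.Agent.S1455.of_witness (G := M) hoddM p hp2 S hrS hE hC
    (Cfsg.Agent.S1410.result hG p M hM.1)
  exact ⟨h.2.2.1, h.1⟩

omit hG hM in
theorem exists_hall_nilpotent [Finite G] (X : Subgroup G) [Group.IsSolvable X]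
    (h : ∀ p : ℕ, ∀ [Fact p.Prime], p ∣ Nat.card X → p ∉ beta M → HasNormalPComplement p X) :
    ∃ H : Subgroup G, IsPiHallOf {q | q.Prime ∧ q ∉ beta M} H X ∧ Group.IsNilpotent H := by
  obtain ⟨H, h1, h2⟩ := exists_hall (PiSolvable.of_isSolvable (G := X) {q | q.Prime ∧ q ∉ beta M})
  refine ⟨H.map X.subtype, ⟨Subgroup.map_subtype_le _, fun q hq hd => ?_, fun q hq hqπ hd => ?_⟩, ?_⟩
  · rw [Subgroup.card_map_of_injective X.subtype_injective] at hd
    exact h1 q hq hd
  · rw [Subgroup.relIndex, Subgroup.subgroupOf,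
      Subgroup.comap_map_eq_self_of_injective X.subtype_injective] at hd
    exact h2 q hq hd hqπ
  · haveI : Group.IsNilpotent H := nilpotent_of_hnpc fun p _ hd =>
      hnpc_subgroup (h p (hd.trans H.card_subgroup_dvd_card) (h1 p Fact.out hd).2) H
    exact Group.nilpotent_of_mulEquiv (H.equivMapOfInjective X.subtype X.subtype_injective)


end

/-- Let G be a minimal simple group of odd order, M a maximal subgroup, β(M) the set of ideal primes in α(M), and M_β = O_{β(M)}(M). Then M_β is a Hall β(M)-subgroup of M and of G; M' and M_σ each have a nilpotent Hall β(M)'-subgroup; and for each prime p dividing the order of M with p ∉ β(M), both M' and M_σ have normal p-complements and every prime dividing the index of O_{p'}(M) in M is at most p. -/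
theorem result {G : Type*} [Group G] [Finite G] (hG : Cfsg.IsMinSimpleOddOrder G)
    (M : Subgroup G) (hM : IsCoatom M) :
    Cfsg.IsPiHallOf (Cfsg.beta M) (Cfsg.piCoreOf (Cfsg.beta M) M) M ∧ Cfsg.IsPiHall (Cfsg.beta M) (Cfsg.piCoreOf (Cfsg.beta M) M) ∧
      (∃ H : Subgroup G, Cfsg.IsPiHallOf {q | q.Prime ∧ q ∉ Cfsg.beta M} H ⁅M, M⁆ ∧ Group.IsNilpotent H) ∧
      (∃ H : Subgroup G, Cfsg.IsPiHallOf {q | q.Prime ∧ q ∉ Cfsg.beta M} H (Cfsg.sigmaCore M) ∧ Group.IsNilpotent H) ∧
      ∀ p : ℕ, p.Prime → p ∣ Nat.card M → p ∉ Cfsg.beta M →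
        Cfsg.HasNormalPComplement p ↥⁅M, M⁆ ∧ Cfsg.HasNormalPComplement p ↥(Cfsg.sigmaCore M) ∧
        ∀ q : ℕ, q.Prime → q ∣ (Cfsg.pPrimeCore p ↥M).index → q ≤ p := by
  open CfsgLib.OddLocal CfsgLib.Solv in
  exact (by
    haveI := Trans.solvable_proper hG hM.1
    haveI hMcs : Group.IsSolvable ↥⁅M, M⁆ :=
      Trans.solvable_proper hG (fun e => hM.1 (top_le_iff.1 (e ▸ Subgroup.commutator_le_self M)))
    have hσM : Cfsg.sigmaCore M ≤ M := Subgroup.map_subtype_le _
    haveI : Group.IsSolvable ↥(Cfsg.sigmaCore M) :=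
      Trans.solvable_proper hG (fun e => hM.1 (top_le_iff.1 (e ▸ hσM)))
    have hcM : ⁅M, M⁆ ≤ M := Subgroup.commutator_le_self M
    have hA : ∀ p : ℕ, ∀ [Fact p.Prime], p ∣ Nat.card M → p ∉ Cfsg.beta M →
        Cfsg.HasNormalPComplement p ↥⁅M, M⁆ := by
      intro p _ hpM hpβ
      let i : ↥⁅M, M⁆ →* ↥(commutator ↥M) := (Subgroup.inclusion hcM).codRestrict _
        fun x => UniqSCN.mem_commutator_coe x.2
      exact hnpc_of_inj i (fun x y h => Subgroup.inclusion_injective hcM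
        (congrArg (fun z : ↥(commutator ↥M) => (z : M)) h)) (not_beta hG hM hpM hpβ).1
    have hB : ∀ p : ℕ, ∀ [Fact p.Prime], p ∣ Nat.card M → p ∉ Cfsg.beta M →
        Cfsg.HasNormalPComplement p ↥(Cfsg.sigmaCore M) := by
      intro p _ hpM hpβ
      have hmem : ∀ x : ↥(Cfsg.sigmaCore M), (⟨x, hσM x.2⟩ : M) ∈ commutator ↥M := by
        intro x
        obtain ⟨y, hy, hyx⟩ := x.2
        have : (⟨x, hσM x.2⟩ : M) = y := Subtype.ext hyx.symm
        rw [this]
        exact Sigma.sigmaCore_le_commutator hG hM hy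
      let i : ↥(Cfsg.sigmaCore M) →* ↥(commutator ↥M) := (Subgroup.inclusion hσM).codRestrict _ hmem
      exact hnpc_of_inj i (fun x y h => Subgroup.inclusion_injective hσM
        (congrArg (fun z : ↥(commutator ↥M) => (z : M)) h)) (not_beta hG hM hpM hpβ).1
    have hhall : ∀ p : ℕ, p.Prime → p ∈ Cfsg.beta M → ¬ p ∣ (Cfsg.piCore (Cfsg.beta M) M).index := by
      intro p hp hpβ
      haveI := Fact.mk hp
      obtain ⟨P⟩ : Nonempty (Sylow p M) := inferInstance
      let J := {q : ℕ // q.Prime ∧ q ∣ Nat.card M ∧ q ∉ Cfsg.beta M}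
      let D : Subgroup M := (commutator ↥M) ⊓
        ⨅ j : J, (Cfsg.pResidual (j : ℕ) ↥(commutator ↥M)).map (commutator ↥M).subtype
      haveI : D.Normal := by
        refine @Subgroup.normal_inf_normal _ _ _ _ inferInstance (Subgroup.normal_iInf_normal fun j => ?_)
        haveI : (Cfsg.pResidual (j : ℕ) ↥(commutator ↥M)).Characteristic :=
          Subgroup.characteristic_iff_map_le.2 fun e => CfsgLib.Inv.pResidual_map_le _ e.toMonoidHom
        infer_instance
      have hD : PiNat (Cfsg.beta M) (Nat.card D) := by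
        intro q hq hd
        by_contra hqβ
        haveI := Fact.mk hq
        have hqM : q ∣ Nat.card M := hd.trans D.card_subgroup_dvd_card
        have hle : D ≤ (Cfsg.pResidual q ↥(commutator ↥M)).map (commutator ↥M).subtype :=
          inf_le_right.trans (iInf_le _ (⟨q, hq, hqM, hqβ⟩ : J))
        have h2 := hd.trans (Subgroup.card_dvd_of_le hle)
        rw [Subgroup.card_map_of_injective (commutator ↥M).subtype_injective] at h2
        exact hnpc_iff.1 (not_beta hG hM hqM hqβ).1 h2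
      have hPD : (P : Subgroup M) ≤ D := by
        intro x hx
        have hxc := Sigma.le_commutator hG hM (Sigma.alpha_subset_sigma hG hM hpβ.1) P hx
        refine ⟨hxc, Subgroup.mem_iInf.2 fun j => ⟨⟨x, hxc⟩, ?_, rfl⟩⟩
        obtain ⟨⟨q, hq, hqM, hqβ⟩, -⟩ : ∃ j' : J, j' = j := ⟨j, rfl⟩
        haveI := Fact.mk j.2.1
        haveI := CfsgLib.Inv.pResidual_normal (j : ℕ) ↥(commutator ↥M)
        obtain ⟨m, hm⟩ := exists_index_pResidual (G := ↥(commutator ↥M)) (p := (j : ℕ))
        obtain ⟨k, hk⟩ := P.isPGroup' ⟨x, hx⟩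
        refine (QuotientGroup.eq_one_iff _).1 (orderOf_eq_one_iff.1
          (Nat.eq_one_of_dvd_coprimes (Nat.Coprime.pow k m ((Nat.coprime_primes hp j.2.1).2
            fun e => j.2.2.2 (e ▸ hpβ))) ?_ ?_))
        · refine (orderOf_map_dvd (QuotientGroup.mk' _) _).trans (orderOf_dvd_of_pow_eq_one (Subtype.ext ?_))
          exact congrArg (fun z : (P : Subgroup M) => (z : M)) hk
        · rw [← hm, Subgroup.index_eq_card]; exact orderOf_dvd_natCard _
      exact fun h => P.not_dvd_index (h.trans (Subgroup.index_dvd_of_le (hPD.trans (le_piCore hD))))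
    have hh := Sigma.hall hG hM (beta_subset hG hM) hhall
    refine ⟨hh.1, hh.2, exists_hall_nilpotent _ fun p _ hd hβ => hA p (hd.trans (Subgroup.card_dvd_of_le hcM)) hβ,
      exists_hall_nilpotent _ fun p _ hd hβ => hB p (hd.trans (Subgroup.card_dvd_of_le hσM)) hβ,
      fun p hp hpM hpβ => ?_⟩
    haveI := Fact.mk hp
    exact ⟨hA p hpM hpβ, hB p hpM hpβ, (not_beta hG hM hpM hpβ).2⟩)

end Cfsg.Agent.S1414
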