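import Cfsg.Statements.S1415
import Cfsg.Agent.S1414
import Cfsg.Agent.Solv.BrauerWielandt

set_option autoImplicit false
open Cfsg
open scoped commutatorElement

namespace Cfsg.Agent.S1415

/-- Let G be a minimal simple group of odd order, M a maximal subgroup and E a complement to M_σ in M. Then the derived subgroup E' is nilpotent; every Hall τ₁(M)-subgroup of E is cyclic; and every Hall τ₃(M)-subgroup E₃ of E is cyclic, contained in E' and normal in E. -/
theorem result {G : Type*} [Group G] [Finite G] (hG : Cfsg.IsMinSimpleOddOrder G)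
    (M : Subgroup G) (hM : IsCoatom M) (E : Subgroup G) (hE : Cfsg.IsComplIn E (Cfsg.sigmaCore M) M) :
    Group.IsNilpotent ↥⁅E, E⁆ ∧
      (∀ E₁ : Subgroup G, Cfsg.IsPiHallOf (Cfsg.tau1 M) E₁ E → IsCyclic E₁) ∧
      ∀ E₃ : Subgroup G, Cfsg.IsPiHallOf (Cfsg.tau3 M) E₃ E → IsCyclic E₃ ∧ E₃ ≤ ⁅E, E⁆ ∧ E ≤ Subgroup.normalizer (E₃ : Set G) := by
  open CfsgLib.OddLocal CfsgLib.Solv in
  exact (by
    obtain ⟨hEM, hσM, hdis, hdec⟩ := hE
    haveI := Trans.solvable_proper hG hM.1
    haveI hEs : Group.IsSolvable E := Trans.solvable_proper hG (fun e => hM.1 (top_le_iff.1 (e ▸ hEM)))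
    haveI hN : (Cfsg.piCore (Cfsg.sigma M) M).Normal := by
      haveI := piCore_characteristic (π := Cfsg.sigma M) (G := M); infer_instance
    set π := QuotientGroup.mk' (Cfsg.piCore (Cfsg.sigma M) M) with hπ
    let i : E →* M ⧸ Cfsg.piCore (Cfsg.sigma M) M := π.comp (Subgroup.inclusion hEM)
    have hi : Function.Bijective i := by
      refine ⟨(injective_iff_map_eq_one i).2 fun x hx => ?_, fun q => ?_⟩
      · have h1 : (x : G) ∈ Cfsg.sigmaCore M :=
          Subgroup.mem_map_of_mem M.subtype ((QuotientGroup.eq_one_iff _).1 hx)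
        exact Subtype.ext (Subgroup.mem_bot.1 (hdis.le ⟨x.2, h1⟩))
      · induction q using QuotientGroup.induction_on with
        | _ m =>
          obtain ⟨a, ha, b, hb, hab⟩ := hdec (m : G) m.2
          obtain ⟨b', hb', rfl⟩ := hb
          refine ⟨⟨a, ha⟩, QuotientGroup.eq.2 ?_⟩
          have : (Subgroup.inclusion hEM ⟨a, ha⟩)⁻¹ * m = b' := Subtype.ext (by
            push_cast [Subgroup.coe_inclusion]
            rw [hab]
            simp)
          rw [this]; exact hb'
    have hcardE : Nat.card E = (Cfsg.piCore (Cfsg.sigma M) M).index := by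
      rw [Subgroup.index_eq_card]; exact Nat.card_eq_of_bijective i hi
    have hEσ : ∀ p : ℕ, p.Prime → p ∣ Nat.card E → p ∉ Cfsg.sigma M := fun p hp hd hσ =>
      Sigma.not_dvd_index_sigma hG hM hp hσ (hcardE ▸ hd)
    have hcM : ⁅E, E⁆ ≤ ⁅M, M⁆ := Subgroup.commutator_mono hEM hEM
    have hcE : ⁅E, E⁆ ≤ E := Subgroup.commutator_le_self E
    have hnil : Group.IsNilpotent ↥⁅E, E⁆ := by
      refine S1414.nilpotent_of_hnpc fun p _ hd => ?_
      have hdE : p ∣ Nat.card E := hd.trans (Subgroup.card_dvd_of_le hcE)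
      exact S1414.hnpc_of_inj (Subgroup.inclusion hcM) (Subgroup.inclusion_injective hcM)
        (((S1414.result hG M hM).2.2.2.2 p Fact.out (hdE.trans (Subgroup.card_dvd_of_le hEM))
          (fun hβ => hEσ p Fact.out hdE (S1414.beta_subset hG hM hβ))).1)
    have hnilC : Group.IsNilpotent ↥(commutator ↥E) := by
      haveI := hnil
      exact Group.nilpotent_of_mulEquiv (((commutator ↥E).equivMapOfInjective E.subtype
        E.subtype_injective).trans (MulEquiv.subgroupCongr (BW.map_commutator_self E))).symm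
    have hcyc : ∀ p : ℕ, ∀ [Fact p.Prime], Cfsg.PRankLE p 1 M → ∀ P : Sylow p E, IsCyclic P := by
      intro p _ hr P
      by_cases hpE : p ∣ Nat.card E
      swap
      · rw [show (P : Subgroup E) = ⊥ from Subgroup.card_eq_one.1 (by
          rw [P.card_eq_multiplicity, Nat.factorization_eq_zero_of_not_dvd hpE, pow_zero])]
        infer_instance
      have hp2 : p ≠ 2 := by
        rintro rfl
        exact (Nat.not_even_iff_odd.2 hG.1) (even_iff_two_dvd.2 (hpE.trans (Subgroup.card_subgroup_dvd_card E)))
      by_contra hnc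
      obtain ⟨A, hA, hAe, hA2, -⟩ := Uniq.exists_square hp2 (P.isPGroup'.map E.subtype) fun hc =>
        hnc (isCyclic_of_surjective _ ((P : Subgroup E).equivMapOfInjective E.subtype E.subtype_injective).symm.surjective)
      have hAM : A ≤ M := hA.trans ((Subgroup.map_subtype_le _).trans hEM)
      have h := hr (A.subgroupOf M) (by
        haveI := hAe.1
        exact ⟨⟨fun a b => Subtype.ext (Subtype.ext (congrArg (fun z : A => (z : G))
          (hAe.1.is_comm.comm ⟨_, a.2⟩ ⟨_, b.2⟩)))⟩⟩)
        fun a ha => Subtype.ext (by rw [Subgroup.coe_pow]; exact hAe.2 _ ha)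
      rw [Nat.card_congr (Subgroup.subgroupOfEquivOfLe hAM).toEquiv, hA2, pow_one] at h
      exact absurd h (not_le.2 ((pow_one p).symm.trans_lt (Nat.pow_lt_pow_right (Fact.out : p.Prime).one_lt one_lt_two)))
    have hZ : ∀ (τ : Set ℕ) (H : Subgroup E), (∀ p, p ∈ τ → Cfsg.PRankLE p 1 M) →
        PiNat τ (Nat.card H) → IsZGroup H := by
      intro τ H hτ hH
      refine ⟨fun p hp R => ?_⟩
      haveI := Fact.mk hp
      by_cases hpH : p ∣ Nat.card H
      · obtain ⟨P, hP⟩ := (R.isPGroup'.map H.subtype).exists_le_sylow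
        haveI := hcyc p (hτ p (hH p hp hpH)) P
        haveI : IsCyclic ↥((R : Subgroup H).map H.subtype) := Subgroup.isCyclic_of_le hP
        exact isCyclic_of_surjective _ ((R : Subgroup H).equivMapOfInjective H.subtype H.subtype_injective).symm.surjective
      · rw [show (R : Subgroup H) = ⊥ from Subgroup.card_eq_one.1 (by
          rw [R.card_eq_multiplicity, Nat.factorization_eq_zero_of_not_dvd hpH, pow_zero])]
        infer_instance
    refine ⟨hnil, fun E₁ hE₁ => ?_, fun E₃ hE₃ => ?_⟩
    · obtain ⟨h1, h2, -⟩ := hE₁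
      set H := E₁.subgroupOf E
      have hH : PiNat (Cfsg.tau1 M) (Nat.card H) := by
        rw [Nat.card_congr (Subgroup.subgroupOfEquivOfLe h1).toEquiv]; exact h2
      haveI := hZ _ H (fun p hp => hp.2.2.2.2) hH
      have hco : (Nat.card H).Coprime (Nat.card ↥⁅M, M⁆) :=
        Nat.coprime_of_dvd fun p hp hd hd' => (hH p hp hd).2.2.2.1 hd'
      haveI : Group.IsNilpotent H := by
        haveI hcomm : IsMulCommutative H := ⟨⟨fun a b => by
          refine commutatorElement_eq_one_iff_mul_comm.1 (Subtype.ext (Subtype.ext ?_))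
          have h5 : ((⁅a, b⁆ : H) : E).1 ∈ ⁅M, M⁆ :=
            Subgroup.commutator_mem_commutator (hEM (a : E).2) (hEM (b : E).2)
          refine orderOf_eq_one_iff.1 (Nat.eq_one_of_dvd_coprimes hco ?_
            (Subgroup.orderOf_mk (H := ⁅M, M⁆) _ h5 ▸ orderOf_dvd_natCard _))
          rw [Subgroup.orderOf_coe, Subgroup.orderOf_coe]
          exact orderOf_dvd_natCard _⟩⟩
        letI : CommGroup H := { (inferInstance : Group H) with mul_comm := fun a b => hcomm.is_comm.comm a b }
        exact CommGroup.isNilpotent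
      exact isCyclic_of_surjective _ (Subgroup.subgroupOfEquivOfLe h1).surjective
    · obtain ⟨h1, h2, h3⟩ := hE₃
      set H := E₃.subgroupOf E
      have hH : PiNat (Cfsg.tau3 M) (Nat.card H) := by
        rw [Nat.card_congr (Subgroup.subgroupOfEquivOfLe h1).toEquiv]; exact h2
      have hHi : PiNat (Cfsg.tau3 M)ᶜ H.index := fun p hp hd hτ => h3 p hp hτ hd
      have hidx : ∀ p : ℕ, p.Prime → p ∈ Cfsg.tau3 M → ¬ p ∣ (commutator ↥E).index := by
        intro p hp hτ
        haveI := Fact.mk hp
        obtain ⟨P⟩ : Nonempty (Sylow p E) := inferInstance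
        haveI := hcyc p hτ.2.2.2 P
        refine (Sylow.not_dvd_card_commutator_or_not_dvd_index_commutator P).resolve_left (not_not.2 ?_)
        have h5 : p ∣ Nat.card ↥(commutator ↥M) := by
          have := hτ.2.2.1
          rwa [← BW.map_commutator_self M, card_map_subtype] at this
        rw [← card_map_mk' (Cfsg.piCore (Cfsg.sigma M) M) (commutator ↥M)] at h5
        rcases hp.dvd_mul.1 h5 with h6 | h6
        · refine h6.trans (dvd_of_eq ?_)
          rw [← Nat.card_congr ((commutator ↥E).equivMapOfInjective i hi.1).toEquiv.symm, commutator_def, commutator_def,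
            Subgroup.map_commutator, Subgroup.map_commutator,
            Subgroup.map_top_of_surjective _ hi.2, Subgroup.map_top_of_surjective _ (QuotientGroup.mk'_surjective _)]
        · exact absurd (piNat_card_piCore _ p hp (h6.trans (Subgroup.card_dvd_of_le inf_le_right))) hτ.2.1
      have hHC : H ≤ commutator ↥E := Sigma.le_of_piNat_of_index hH hidx
      haveI : Group.IsNilpotent H := by
        haveI := hnilC
        exact Group.nilpotent_of_mulEquiv (Subgroup.subgroupOfEquivOfLe hHC)
      haveI := hZ _ H (fun p hp => hp.2.2.2) hH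
      refine ⟨isCyclic_of_surjective _ (Subgroup.subgroupOfEquivOfLe h1).surjective, ?_, ?_⟩
      · rw [← Subgroup.map_subgroupOf_eq_of_le h1, ← BW.map_commutator_self E]
        exact Subgroup.map_mono hHC
      -- the Hall subgroup is characteristic in the nilpotent derived subgroup
      haveI := hnilC
      haveI := piCore_characteristic (π := Cfsg.tau3 M) (G := ↥(commutator ↥E))
      set D := (Cfsg.piCore (Cfsg.tau3 M) ↥(commutator ↥E)).map (commutator ↥E).subtype
      haveI : D.Normal := inferInstance
      have hD : PiNat (Cfsg.tau3 M) (Nat.card D) := by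
        rw [card_map_subtype]; exact piNat_card_piCore _
      have hDi : ∀ p : ℕ, p.Prime → p ∈ Cfsg.tau3 M → ¬ p ∣ D.index := by
        intro p hp hτ hd
        haveI := Fact.mk hp
        obtain ⟨R⟩ : Nonempty (Sylow p ↥(commutator ↥E)) := inferInstance
        haveI : (R : Subgroup ↥(commutator ↥E)).Normal :=
          Group.isNilpotent_of_finite_tfae.out 0 3 rfl rfl |>.mp ‹_› p ‹_› R
        have hR : (R : Subgroup ↥(commutator ↥E)) ≤ Cfsg.piCore (Cfsg.tau3 M) _ :=
          le_piCore (PiNat.of_isPGroup R.isPGroup' hτ)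
        rw [← Subgroup.relIndex_mul_index (Subgroup.map_subtype_le _ : D ≤ commutator ↥E),
          Subgroup.relIndex, Subgroup.subgroupOf,
          Subgroup.comap_map_eq_self_of_injective (commutator ↥E).subtype_injective] at hd
        rcases hp.dvd_mul.1 hd with h6 | h6
        · exact R.not_dvd_index (h6.trans (Subgroup.index_dvd_of_le hR))
        · exact hidx p hp hτ h6
      have hHD : H = D := Subgroup.eq_of_le_of_card_ge (Sigma.le_of_piNat_of_index hH hDi)
        (Nat.le_of_dvd Nat.card_pos (card_dvd_card_hall hHi hD))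
      have hn : H.Normal := hHD ▸ inferInstance
      exact (Subgroup.normal_subgroupOf_iff_le_normalizer h1).1 hn)

end Cfsg.Agent.S1415
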