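import Cfsg.Statements.S1441
import Cfsg.Agent.Solv.CoprimeAction

set_option autoImplicit false
open Cfsg

namespace Cfsg.Agent.S1441

theorem isSolvable_of_isMulCommutative' {G : Type*} [Group G] (A : Subgroup G) [h : IsMulCommutative A] :
    Group.IsSolvable A :=
  Group.isSolvable_of_comm fun a b => h.is_comm.comm a b


/-- Let G be a finite group, H a solvable subgroup and A a subgroup normalizing H. Suppose there is a chain H = H₀ ≥ H₁ ≥ ⋯ ≥ H_n = 1 of subgroups normal in H and normalized by A such that A acts trivially on each factor H_{i-1}/H_i (that is, [H_{i-1}, A] ≤ H_i). Then every prime dividing the index of C_A(H) in A divides the order of H. -/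
theorem result {G : Type*} [Group G] [Finite G] (H A : Subgroup G) (hH : Group.IsSolvable H) (hA : (A ≤ Subgroup.normalizer (H : Set G)))
    (n : ℕ) (c : Fin (n + 1) → Subgroup G) (hc0 : c 0 = H) (hcn : c (Fin.last n) = ⊥) (hanti : Antitone c)
    (hcN : ∀ i, H ≤ Subgroup.normalizer ((c i : Subgroup G) : Set G)) (hcA : ∀ i, A ≤ Subgroup.normalizer ((c i : Subgroup G) : Set G))
    (htriv : ∀ i : Fin n, ⁅c i.castSucc, A⁆ ≤ c i.succ) :
    ∀ p : ℕ, p.Prime → p ∣ (A ⊓ Subgroup.centralizer (H : Set G)).relIndex A → p ∣ Nat.card H := by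
  open Subgroup CfsgLib.Solv in
  intro p hp hdvd
  haveI := Fact.mk hp
  by_contra hpH
  set T := A ⊓ centralizer (H : Set G)
  obtain ⟨Q⟩ : Nonempty (Sylow p A) := inferInstance
  have hQT : (Q : Subgroup A) ≤ T.subgroupOf A := by
    rintro ⟨a, ha⟩ hq
    refine mem_subgroupOf.2 (mem_inf.2 ⟨ha, ?_⟩)
    obtain ⟨k, hk⟩ := IsPGroup.iff_orderOf.1 Q.isPGroup' ⟨⟨a, ha⟩, hq⟩
    rw [← orderOf_coe, ← orderOf_coe] at hk
    have hck : ∀ i : Fin (n + 1), a ∈ centralizer ((c i : Subgroup G) : Set G) := by
      intro i
      induction i using Fin.reverseInduction with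
      | last =>
        rw [hcn]
        intro x hx
        rw [mem_bot.1 hx, one_mul, mul_one]
      | cast i ih =>
        have hle : zpowers a ≤ normalizer ((c i.castSucc : Subgroup G) : Set G) :=
          zpowers_le.2 (hcA _ ha)
        have hci : c i.castSucc ≤ H := hc0 ▸ hanti (Fin.zero_le _)
        have hcopa : (Nat.card (zpowers a)).Coprime (Nat.card (c i.castSucc)) := by
          rw [Nat.card_zpowers, hk]
          exact ((hp.coprime_iff_not_dvd.2 hpH).of_dvd_right (card_dvd_of_le hci)).pow_left k
        have h2 : ⁅c i.castSucc, zpowers a⁆ = ⊥ := by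
          rw [← commutator_commutator_right hle hcopa (Or.inl (isSolvable_of_isMulCommutative' (zpowers a)))]
          refine le_bot_iff.1 ((commutator_mono ((commutator_mono le_rfl (zpowers_le.2 ha)).trans (htriv i)) le_rfl).trans
            (le_of_eq ?_))
          rw [commutator_comm, commutator_eq_bot_iff_le_centralizer, zpowers_le]
          exact ih
        rw [commutator_comm, commutator_eq_bot_iff_le_centralizer, zpowers_le] at h2
        exact h2
    exact hc0 ▸ hck 0
  exact Q.not_dvd_index (hdvd.trans (index_dvd_of_le hQT))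

end Cfsg.Agent.S1441
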