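import Cfsg.Statements.S1442
import Cfsg.Agent.Solv.CoprimeAction

set_option autoImplicit false
open Cfsg

namespace Cfsg.Agent.S1442

open Subgroup CfsgLib.Solv in
/-- an action centralising a self-centralising-above fixed subgroup is trivial -/
theorem aux {G : Type*} [Group G] [Finite G] {H A : Subgroup G} (hH : Group.IsNilpotent H)
    (hA : A ≤ Subgroup.normalizer (H : Set G)) (hcop : (Nat.card A).Coprime (Nat.card H))
    (hC : H ⊓ centralizer ((H ⊓ centralizer (A : Set G) : Subgroup G) : Set G) ≤
      H ⊓ centralizer (A : Set G)) : A ≤ centralizer (H : Set G) := by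
  set C := H ⊓ centralizer (A : Set G) with hCdef
  set N := H ⊓ normalizer (C : Set G) with hN
  haveI : Group.IsSolvable H := by haveI := hH; infer_instance
  have hAC : ⁅A, C⁆ = ⊥ := by
    rw [commutator_eq_bot_iff_le_centralizer]
    intro a ha x hx
    exact ((mem_inf.1 hx).2 a ha).symm
  have hAN : A ≤ normalizer (N : Set G) := by
    refine le_normalizer_inf_of_le hA fun a ha => ?_
    have hac : a ∈ normalizer (C : Set G) := centralizer_le_normalizer _ fun x hx => ((mem_inf.1 hx).2 a ha).symm
    exact le_normalizer hac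
  have hCN : ⁅C, N⁆ ≤ C := commutator_le_of_le_normalizer inf_le_right
  have h1 : ⁅⁅N, A⁆, C⁆ = ⊥ := by
    refine commutator_commutator_eq_bot_of_rotate ?_ ?_
    · rw [hAC, commutator_bot_left]
    · refine le_bot_iff.1 ((commutator_mono hCN le_rfl).trans (le_of_eq ?_))
      rw [commutator_comm, hAC]
  have h2 : ⁅N, A⁆ ≤ C := by
    refine le_trans (le_inf ((commutator_le_of_le_normalizer hAN).trans inf_le_left) ?_) hC
    exact commutator_eq_bot_iff_le_centralizer.1 h1
  have hcopN : (Nat.card A).Coprime (Nat.card N) := hcop.of_dvd_right (card_dvd_of_le inf_le_left)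
  have h3 : ⁅N, A⁆ = ⊥ := by
    rw [← commutator_commutator_right hAN hcopN (Or.inr (isSolvable_of_le inf_le_left))]
    refine le_bot_iff.1 ((commutator_mono h2 le_rfl).trans (le_of_eq ?_))
    rw [commutator_comm, hAC]
  have hNC : N ≤ C := le_inf inf_le_left (commutator_eq_bot_iff_le_centralizer.1 h3)
  have htop : C.subgroupOf H = ⊤ := by
    by_contra hne
    haveI := hH
    obtain ⟨x, hx, hxC⟩ := SetLike.exists_of_lt
      (Group.normalizerCondition_of_isNilpotent (G := H) _ (lt_top_iff_ne_top.2 hne))
    refine hxC (mem_subgroupOf.2 (hNC (mem_inf.2 ⟨x.2, mem_normalizer_iff.2 fun y => ?_⟩)))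
    constructor
    · intro hy
      exact ((mem_normalizer_iff.1 hx) ⟨y, (mem_inf.1 hy).1⟩).1 hy
    · intro hy
      have hyH : y ∈ H := by
        have := mul_mem (mul_mem (inv_mem x.2) (mem_inf.1 hy).1) x.2
        simpa [mul_assoc] using this
      exact ((mem_normalizer_iff.1 hx) ⟨y, hyH⟩).2 hy
  intro a ha x hx
  have : x ∈ C := (mem_subgroupOf.1 (htop ▸ mem_top (⟨x, hx⟩ : H)) :)
  exact ((mem_inf.1 this).2 a ha).symm


/-- Let G be a finite group, H a nilpotent subgroup and A a subgroup normalizing H with the orders of A and H coprime. Put C = H ∩ C_G(A). If H ∩ C_G(C) ≤ C then A centralizes H. -/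
theorem result {G : Type*} [Group G] [Finite G] (H A : Subgroup G) (hH : Group.IsNilpotent H) (hA : (A ≤ Subgroup.normalizer (H : Set G))) (hcop : (Nat.card A).Coprime (Nat.card H))
    (hC : H ⊓ Subgroup.centralizer (((H ⊓ Subgroup.centralizer (A : Set G)) : Subgroup G) : Set G) ≤ (H ⊓ Subgroup.centralizer (A : Set G))) :
    A ≤ Subgroup.centralizer (H : Set G) := by
  exact aux hH hA hcop hC

end Cfsg.Agent.S1442
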