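import Cfsg.Statements.S1443
import Cfsg.Agent.S1442
import Cfsg.Agent.Solv.PGroups

set_option autoImplicit false
open Cfsg

namespace Cfsg.Agent.S1443

/-- Let G be a finite group, p an odd prime, H a p-subgroup, E an elementary abelian subgroup of H, and A a subgroup of order coprime to p normalizing H. If A centralizes every element of order p in H ∩ C_G(E), then A centralizes H. -/
theorem result {G : Type*} [Group G] [Finite G] (p : ℕ) [Fact p.Prime] (hp : p ≠ 2) (H E A : Subgroup G) (hH : IsPGroup p H) (hE : E ≤ H) (hEe : Cfsg.IsElementaryAbelian p E)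
    (hA : (A ≤ Subgroup.normalizer (H : Set G))) (hcop : (Nat.card A).Coprime p)
    (hfix : ∀ x ∈ (H ⊓ Subgroup.centralizer (E : Set G)), orderOf x = p → A ≤ Subgroup.centralizer ({x} : Set G)) :
    A ≤ Subgroup.centralizer (H : Set G) := by
  open Subgroup CfsgLib.Solv in
  have hpH : (Nat.card A).Coprime (Nat.card H) := by
    obtain ⟨n, hn⟩ := IsPGroup.iff_card.1 hH
    rw [hn]
    exact hcop.pow_right n
  open Subgroup CfsgLib.Solv in
  have hEC : E ≤ H ⊓ centralizer (A : Set G) := by
    refine fun x hx => mem_inf.2 ⟨hE hx, fun a ha => ?_⟩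
    by_cases h1 : x = 1
    · simp [h1]
    haveI := hEe.1
    have hxC : x ∈ H ⊓ centralizer (E : Set G) :=
      mem_inf.2 ⟨hE hx, fun y hy => commute_of_isMulCommutative hy hx⟩
    exact (mem_centralizer_singleton_iff.1 (hfix x hxC (orderOf_eq_prime (hEe.2 x hx) h1) ha))
  open Subgroup CfsgLib.Solv in
  have hK : H ⊓ centralizer (E : Set G) ≤ H ⊓ centralizer (A : Set G) := by
    set K := H ⊓ centralizer (E : Set G) with hKdef
    have hAE : A ≤ normalizer (E : Set G) := fun a ha =>
      centralizer_le_normalizer _ fun x hx => ((mem_inf.1 (hEC hx)).2 a ha).symm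
    have hAK : A ≤ normalizer (K : Set G) :=
      le_normalizer_inf_of_le hA fun a ha => by
        rw [mem_normalizer_iff]
        intro x
        have hac : ∀ e ∈ E, a * e = e * a := fun e he => (mem_inf.1 (hEC he)).2 a ha
        constructor
        · intro hx e he
          have h1 := hx e he
          calc e * (a * x * a⁻¹) = a * (e * x) * a⁻¹ := by
                rw [← mul_assoc, ← mul_assoc, ← hac e he, mul_assoc a e x]
            _ = a * x * (e * a⁻¹) := by rw [h1]; group
            _ = a * x * a⁻¹ * e := by
                rw [show e * a⁻¹ = a⁻¹ * e from Commute.inv_right (hac e he).symm, ← mul_assoc]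
        · intro hx e he
          have h1 := hx e he
          have h2 : a * (e * x) * a⁻¹ = a * (x * e) * a⁻¹ := by
            calc a * (e * x) * a⁻¹ = e * (a * x * a⁻¹) := by
                  rw [← mul_assoc, hac e he]; group
              _ = a * x * a⁻¹ * e := h1
              _ = a * x * (a⁻¹ * e) := by group
              _ = a * (x * e) * a⁻¹ := by
                rw [show a⁻¹ * e = e * a⁻¹ from Commute.inv_left (hac e he)]; group
          exact mul_left_cancel (mul_right_cancel h2)
    refine fun x hx => mem_inf.2 ⟨(mem_inf.1 hx).1, fun a ha => ?_⟩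
    have h1 := aut_eq_one_of_fix_omega hp (hH.to_le inf_le_left : IsPGroup p K)
      (a := K.normalizerMonoidHom ⟨a, hAK ha⟩) (Nat.Coprime.of_dvd_left
        ((orderOf_map_dvd _ _).trans (by
          rw [← Subgroup.orderOf_coe]; exact A.orderOf_dvd_natCard ha)) hcop) fun y hy => by
        by_cases hy1 : y = 1
        · rw [hy1, map_one]
        have h2 : a * (y : G) = y * a := mem_centralizer_singleton_iff.1
          (hfix _ y.2 (by rw [Subgroup.orderOf_coe]; exact orderOf_eq_prime hy hy1) ha)
        exact Subtype.ext (by simp [h2])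
    have h3 := congrArg Subtype.val (DFunLike.congr_fun h1 ⟨x, hx⟩)
    simp only [MulAut.one_apply, normalizerMonoidHom_apply_apply_coe] at h3
    exact mul_inv_eq_iff_eq_mul.1 h3
  exact Cfsg.Agent.S1442.aux hH.isNilpotent hA hpH
    ((inf_le_inf_left H (Subgroup.centralizer_le hEC)).trans hK)

end Cfsg.Agent.S1443
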