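import Cfsg.Statements.S1445
import Cfsg.Agent.S1451
import Cfsg.Agent.OddLocal.ZComm

set_option autoImplicit false
open Cfsg

namespace Cfsg.Agent.S1445

open CfsgLib.Solv
open scoped commutatorElement

theorem nilp_step {K : Type*} [Group K] [Finite K] [Group.IsSolvable K] {q : ℕ} [hqF : Fact q.Prime]
    (Y : Subgroup K) [Y.Normal] (hY : ∀ y ∈ Y, ∃ n, y ^ q ^ n ∈ fittingSubgroup K) {x : K}
    (hxY : x ∈ Y) (hx : x ∈ Subgroup.centralizer (S1451.coreJoin K (· ≠ q) : Set K)) :
    x ∈ fittingSubgroup K := by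
  have hq := hqF.out
  haveI := S1451.coreJoin_normal (G := K) (· ≠ q)
  set W := S1451.coreJoin K (· ≠ q)
  set D : Subgroup K := Y ⊓ Subgroup.centralizer (W : Set K) with hD
  haveI : D.Normal := inferInstance
  refine le_fittingSubgroup (N := D) ?_ (show x ∈ D from ⟨hxY, hx⟩)
  haveI : Group.IsNilpotent (D ⧸ Subgroup.center D) := by
    refine IsPGroup.isNilpotent (p := q) fun d => ?_
    induction d using QuotientGroup.induction_on with
    | _ d =>
      suffices h : ∃ n, d ^ q ^ n ∈ Subgroup.center D by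
        obtain ⟨n, hn⟩ := h
        exact ⟨n, by rw [← QuotientGroup.mk_pow]; exact (QuotientGroup.eq_one_iff _).2 hn⟩
      obtain ⟨n, hn⟩ := hY (d : K) d.2.1
      obtain ⟨k, m, hm, e⟩ := Nat.exists_eq_pow_mul_and_not_dvd
        (orderOf_pos ((d : K) ^ q ^ n)).ne' q hq.ne_one
      refine ⟨n + k, Subgroup.mem_center_iff.2 fun c => Subtype.ext ?_⟩
      have hco : (orderOf (((d : K) ^ q ^ n) ^ q ^ k)).Coprime q := by
        refine ((hq.coprime_iff_not_dvd.2 hm).symm).coprime_dvd_left (orderOf_dvd_of_pow_eq_one ?_)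
        rw [← pow_mul _ (q ^ k) m, ← e, pow_orderOf_eq_one]
      have hw := S1451.mem_coreJoin (pow_mem hn (q ^ k)) hco
      have := Subgroup.mem_centralizer_iff.1 c.2.2 _ hw
      push_cast
      rw [pow_add, pow_mul]
      exact this.symm
  exact Subgroup.isNilpotent_of_ker_le_center (QuotientGroup.mk' (Subgroup.center D))
    (QuotientGroup.ker_mk' _).le

theorem core_act {G : Type*} [Group G] [Finite G] [Group.IsSolvable G] (hodd : Odd (Nat.card G))
    {p : ℕ} [Fact p.Prime] {V A R : Subgroup G} [V.Normal] (hV : IsPGroup p V)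
    (hAp : (Nat.card A).Coprime p) (hR : (Nat.card R).Prime)
    (hRp : (Nat.card R).Coprime p) (hRA : R ≤ Subgroup.normalizer (A : Set G))
    (hcop : (Nat.card R).Coprime (Nat.card A))
    (hfix : V ⊓ Subgroup.centralizer (R : Set G) = ⊥) :
    ⁅R, A⁆ ≤ Subgroup.centralizer (V : Set G) := by
  haveI : (frattini V).Characteristic := inferInstance
  set D := (frattini V).map V.subtype
  have hDn : ∀ H : Subgroup G, H ≤ Subgroup.normalizer (D : Set G) := fun H =>
    Subgroup.le_normalizer_of_normal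
  have key := CfsgLib.OddLocal.ZComm.sec hodd (D := D) (Q := A) (R := R) hV
    (Subgroup.map_subtype_le _) (hDn V)
    (fun v hv w hw => ⟨⁅(⟨v, hv⟩ : V), ⟨w, hw⟩⁆, commutator_le_frattini hV
      (Subgroup.commutator_mem_commutator (Subgroup.mem_top _) (Subgroup.mem_top _)), rfl⟩)
    (fun v hv => ⟨(⟨v, hv⟩ : V) ^ p, pow_mem_frattini hV _, rfl⟩)
    Subgroup.le_normalizer_of_normal Subgroup.le_normalizer_of_normal (hDn A) (hDn R) hRA hAp hR hRp
    hcop (hfix.le.trans bot_le)
  refine le_centralizer_of_trivial_on_frattini_quotient ?_ key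
  obtain ⟨n, hn⟩ := IsPGroup.iff_card.1 (hV.to_subgroup (frattini V))
  rw [hn]
  refine Nat.Coprime.pow_right n (hAp.coprime_dvd_left (Subgroup.card_dvd_of_le ?_))
  rw [Subgroup.commutator_comm]
  exact commutator_le_of_le_normalizer hRA


/-- Let G be a solvable group of odd order, K a normal subgroup and R a subgroup with G = KR and the orders of K and R coprime. Suppose K ∩ C_G(x) = K ∩ C_G(R) for every non-identity x ∈ R, and F(K) ∩ C_G(R) = 1. Then [K, R] is contained in the Fitting subgroup of K. -/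
theorem result {G : Type*} [Group G] [Finite G] [Group.IsSolvable G] (hodd : Odd (Nat.card G)) (K R : Subgroup G) [K.Normal] (hKR : K ⊔ R = ⊤) (hcop : (Nat.card K).Coprime (Nat.card R))
    (hprime : ∀ x ∈ R, x ≠ 1 → K ⊓ Subgroup.centralizer ({x} : Set G) = (K ⊓ Subgroup.centralizer (R : Set G)))
    (hF : Cfsg.fittingOf K ⊓ Subgroup.centralizer (R : Set G) = ⊥) :
    ⁅K, R⁆ ≤ Cfsg.fittingOf K := by
  by_cases hR : R = ⊥
  · rw [hR, Subgroup.commutator_bot_right]; exact bot_le
  haveI : Nontrivial R := (Subgroup.nontrivial_iff_ne_bot _).2 hR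
  obtain ⟨q0, hq0, hq0d⟩ := Nat.exists_prime_and_dvd (n := Nat.card R)
    (Finite.one_lt_card (α := R)).ne'
  haveI := Fact.mk hq0
  obtain ⟨⟨x0, hx0R⟩, hx0⟩ := exists_prime_orderOf_dvd_card' q0 hq0d
  rw [Subgroup.orderOf_mk] at hx0
  set R₀ := Subgroup.zpowers x0 with hR₀
  have hR₀R : R₀ ≤ R := (Subgroup.zpowers_le).2 hx0R
  have hR₀p : (Nat.card R₀).Prime := by rw [hR₀, Nat.card_zpowers, hx0]; exact hq0
  have hR₀K : (Nat.card R₀).Coprime (Nat.card K) :=
    hcop.symm.coprime_dvd_left (Subgroup.card_dvd_of_le hR₀R)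
  have hx01 : x0 ≠ 1 := fun h => by rw [h, orderOf_one] at hx0; exact hq0.ne_one hx0.symm
  have hCx : K ⊓ Subgroup.centralizer (R₀ : Set G) = K ⊓ Subgroup.centralizer (R : Set G) := by
    rw [← hprime x0 hx0R hx01, hR₀, Subgroup.zpowers_eq_closure, Subgroup.centralizer_closure]
  haveI := fittingSubgroup_characteristic (G := K)
  set F := fittingOf K with hF'
  haveI hFn : F.Normal := by rw [hF']; unfold fittingOf; infer_instance
  have hFK : F ≤ K := Subgroup.map_subtype_le _
  have hFR : F ⊓ Subgroup.centralizer (R₀ : Set G) = ⊥ := by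
    rw [eq_bot_iff, ← hF]
    exact fun u hu => ⟨hu.1, (hCx.le ⟨hFK hu.1, hu.2⟩).2⟩
  -- the image of `R₀` centralises the Fitting subgroup of `K / F`
  set π := QuotientGroup.mk' F with hπ
  set K' := K.map π with hK'
  haveI : K'.Normal := Subgroup.Normal.map inferInstance π (QuotientGroup.mk'_surjective F)
  haveI hK's : Group.IsSolvable K' := inferInstance
  have hfixq : ∀ r : Nat.Primes, ∀ z ∈ (pCore (r : ℕ) K').map K'.subtype,
      π x0 * z = z * π x0 := by
    intro r z hz
    haveI := Fact.mk r.2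
    haveI := pCore_characteristic (p := (r : ℕ)) (G := K')
    set P := (pCore (r : ℕ) K').map K'.subtype
    set Y := P.comap π with hY
    haveI : Y.Normal := inferInstance
    have hYK : Y ≤ K := by
      intro y hy
      obtain ⟨k, hk, hky⟩ := (Subgroup.map_subtype_le _ hy : π y ∈ K')
      have := hFK (QuotientGroup.eq.1 hky : k⁻¹ * y ∈ F)
      simpa using mul_mem hk this
    obtain ⟨A, hA⟩ := exists_invariant_sylow (p := (r : ℕ)) (A := R₀) (K := Y)
      Subgroup.le_normalizer_of_normal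
      (hR₀K.coprime_dvd_right (Subgroup.card_dvd_of_le hYK)) (Or.inr inferInstance)
    set A' := (A : Subgroup Y).map Y.subtype with hA'
    have hA'Y : A' ≤ Y := Subgroup.map_subtype_le _
    have hA'p : IsPGroup (r : ℕ) A' := A.isPGroup'.map _
    have hRA : ⁅R₀, A'⁆ ≤ F := by
      have hY' : ∀ y ∈ Y.subgroupOf K, ∃ n, y ^ (r : ℕ) ^ n ∈ fittingSubgroup K := by
        intro y hy
        obtain ⟨w, hw, hwy⟩ := (hy : π (y : G) ∈ P)
        obtain ⟨n, hn⟩ := pCore_isPGroup K' (r : ℕ) ⟨w, hw⟩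
        refine ⟨n, ?_⟩
        have h1 : π (((y : G)) ^ (r : ℕ) ^ n) = 1 := by
          rw [map_pow, show π (y : G) = K'.subtype w from hwy.symm, ← map_pow, show w ^ (r : ℕ) ^ n = 1 from congrArg Subtype.val hn, map_one]
        obtain ⟨u, hu, huy⟩ := ((QuotientGroup.eq_one_iff _).1 h1 : (y : G) ^ (r : ℕ) ^ n ∈ F)
        rwa [show y ^ (r : ℕ) ^ n = u from Subtype.ext (by rw [Subgroup.coe_pow]; exact huy.symm)]
      intro a ha
      have haY : a ∈ Y := hA'Y (commutator_le_of_le_normalizer hA (Subgroup.commutator_comm R₀ A' ▸ ha))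
      refine ⟨⟨a, hYK haY⟩, nilp_step (q := (r : ℕ)) (Y.subgroupOf K) hY' haY ?_, rfl⟩
      have hcj : S1451.coreJoin K (· ≠ (r : ℕ)) ≤
          Subgroup.centralizer ({(⟨a, hYK haY⟩ : K)} : Set K) := by
        refine iSup_le fun s w hw => Subgroup.mem_centralizer_singleton_iff.2 (Subtype.ext ?_)
        haveI := Fact.mk (s : Nat.Primes).2
        haveI := pCore_characteristic (p := ((s : Nat.Primes) : ℕ)) (G := K)
        set V := (pCore ((s : Nat.Primes) : ℕ) K).map K.subtype
        have hVp : IsPGroup ((s : Nat.Primes) : ℕ) V := (pCore_isPGroup K _).map _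
        by_cases hVb : V = ⊥
        · have : (w : G) = 1 := Subgroup.mem_bot.1 (hVb.le (Subgroup.mem_map_of_mem _ hw))
          simp [this]
        have hsK : ((s : Nat.Primes) : ℕ) ∣ Nat.card K := by
          haveI : Nontrivial V := (Subgroup.nontrivial_iff_ne_bot _).2 hVb
          obtain ⟨j, hj0, hj⟩ := hVp.nontrivial_iff_card.1 ‹_›
          exact (hj.symm ▸ dvd_pow_self _ hj0.ne' : ((s : Nat.Primes) : ℕ) ∣ Nat.card V).trans
            (Subgroup.card_dvd_of_le (Subgroup.map_subtype_le _))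
        have hfix : V ⊓ Subgroup.centralizer (R₀ : Set G) = ⊥ := by
          rw [eq_bot_iff, ← hFR]
          exact inf_le_inf_right _ (Subgroup.map_mono pCore_le_fittingSubgroup)
        obtain ⟨j, hj⟩ := IsPGroup.iff_card.1 hA'p
        have h := core_act hodd (A := A') (R := R₀) hVp
          (by rw [hj]; exact Nat.Coprime.pow_left j ((Nat.coprime_primes r.2 (s : Nat.Primes).2).2
            (Ne.symm s.2)))
          hR₀p (hR₀K.coprime_dvd_right hsK) hA
          (hR₀K.coprime_dvd_right (Subgroup.card_dvd_of_le (hA'Y.trans hYK))) hfix ha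
        exact Subgroup.mem_centralizer_iff.1 h _ (Subgroup.mem_map_of_mem _ hw)
      exact Subgroup.mem_centralizer_iff.2 fun w hw =>
        Subgroup.mem_centralizer_singleton_iff.1 (hcj hw)
    -- `Y = F A`
    have hgen : P ≤ A'.map π := by
      have hmap : Y.map π = P := Subgroup.map_comap_eq_self_of_surjective (QuotientGroup.mk'_surjective F) P
      have hPp : IsPGroup (r : ℕ) P := (pCore_isPGroup K' _).map _
      let g : Y →* P := (π.comp Y.subtype).codRestrict P fun y => y.2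
      have hg : Function.Surjective g := fun w => by
        obtain ⟨y, hy, hyw⟩ := (hmap.ge w.2 : (w : G ⧸ F) ∈ Y.map π)
        exact ⟨⟨y, hy⟩, Subtype.ext hyw⟩
      have htop : (A : Subgroup Y).map g = ⊤ := by
        rw [← Sylow.coe_mapSurjective hg]
        refine Subgroup.eq_top_of_card_eq _ ?_
        obtain ⟨j, hj⟩ := IsPGroup.iff_card.1 hPp
        rw [Sylow.card_eq_multiplicity, hj, r.2.factorization_pow, Finsupp.single_eq_same]
      intro w hw
      obtain ⟨a, ha, hag⟩ := (htop.ge (Subgroup.mem_top (⟨w, hw⟩ : P)))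
      exact ⟨a, Subgroup.mem_map_of_mem _ ha, congrArg Subtype.val hag⟩
    obtain ⟨a, ha, haz⟩ := hgen hz
    have h1 : π ⁅x0, a⁆ = 1 := (QuotientGroup.eq_one_iff _).2
      (hRA (Subgroup.commutator_mem_commutator (Subgroup.mem_zpowers x0) ha))
    rw [map_commutatorElement, haz, commutatorElement_eq_one_iff_mul_comm] at h1
    exact h1
  have hfitfix : ∀ z ∈ fittingSubgroup K', π x0 * (z : G ⧸ F) = z * π x0 := by
    intro z hz
    rw [fittingSubgroup_eq_iSup_pCore] at hz
    have hle : (⨆ r : Nat.Primes, pCore (r : ℕ) K') ≤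
        (Subgroup.centralizer ({π x0} : Set (G ⧸ F))).comap K'.subtype := iSup_le fun r w hw =>
      Subgroup.mem_centralizer_singleton_iff.2 (hfixq r _ (Subgroup.mem_map_of_mem _ hw)).symm
    exact (Subgroup.mem_centralizer_singleton_iff.1 (hle hz)).symm
  haveI := fittingSubgroup_normal (K' : Type _)
  have hall : ∀ k ∈ K', π x0 * k = k * π x0 := by
    intro k hk
    set r := π x0
    have hkr : r * k * r⁻¹ ∈ K' := ‹K'.Normal›.conj_mem k hk r
    let z : K' := (⟨k, hk⟩ : K')⁻¹ * ⟨r * k * r⁻¹, hkr⟩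
    have hz : z ∈ fittingSubgroup K' := by
      refine centralizer_fittingSubgroup_le (Subgroup.mem_centralizer_iff.2 fun f hf => Subtype.ext ?_)
      have h2 := hfitfix _ ((fittingSubgroup_normal K').conj_mem f hf ⟨k, hk⟩)
      have h3 := hfitfix f hf
      push_cast at h2
      show (f : G ⧸ F) * (k⁻¹ * (r * k * r⁻¹)) = k⁻¹ * (r * k * r⁻¹) * f
      have h3' : r⁻¹ * (f : G ⧸ F) = f * r⁻¹ := by
        calc r⁻¹ * (f : G ⧸ F) = r⁻¹ * (f * r) * r⁻¹ := by group
          _ = r⁻¹ * (r * f) * r⁻¹ := by rw [h3]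
          _ = f * r⁻¹ := by group
      calc (f : G ⧸ F) * (k⁻¹ * (r * k * r⁻¹))
          = k⁻¹ * ((k * f * k⁻¹) * r) * k * r⁻¹ := by group
        _ = k⁻¹ * (r * (k * f * k⁻¹)) * k * r⁻¹ := by rw [h2]
        _ = k⁻¹ * r * k * (f * r⁻¹) := by group
        _ = k⁻¹ * r * k * (r⁻¹ * f) := by rw [h3']
        _ = k⁻¹ * (r * k * r⁻¹) * f := by group
    have hzr := hfitfix z hz
    set w := (z : G ⧸ F) with hw
    have hkw : r * k * r⁻¹ = k * w := by
      rw [hw]; show r * k * r⁻¹ = k * (k⁻¹ * (r * k * r⁻¹)); group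
    have hiter : ∀ m : ℕ, r ^ m * k = k * w ^ m * r ^ m := by
      intro m
      induction m with
      | zero => simp
      | succ m ih =>
        have hc : Commute r w := hzr
        calc r ^ (m + 1) * k = r * (r ^ m * k) := by rw [pow_succ', mul_assoc]
          _ = r * k * r⁻¹ * (r * w ^ m) * r ^ m := by rw [ih]; group
          _ = k * w * (w ^ m * r) * r ^ m := by rw [hkw, (hc.pow_right m).eq]
          _ = k * w ^ (m + 1) * r ^ (m + 1) := by rw [pow_succ' w, pow_succ' r]; group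
    have hrq : r ^ q0 = 1 := by rw [← map_pow, ← hx0, pow_orderOf_eq_one, map_one]
    have h5 := hiter q0
    rw [hrq, one_mul, mul_one, left_eq_mul] at h5
    have hw1 : w = 1 := by
      refine orderOf_eq_one_iff.1 (Nat.eq_one_of_dvd_coprimes ?_ (orderOf_dvd_of_pow_eq_one h5)
        ((Subgroup.orderOf_coe z).dvd.trans ((orderOf_dvd_natCard z).trans (Subgroup.card_map_dvd _ _))))
      rw [← hx0, ← Nat.card_zpowers, ← hR₀]
      exact hR₀K
    rw [hw1, mul_one] at hkw
    exact mul_inv_eq_iff_eq_mul.1 hkw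
  -- conclusion
  rw [Subgroup.commutator_le]
  intro k hk y hy
  obtain ⟨c, ⟨hcK, hcR⟩, hkc⟩ : ∃ c ∈ K ⊓ Subgroup.centralizer (R₀ : Set G), k * c⁻¹ ∈ F := by
    have h6 : ∀ a ∈ R₀, k⁻¹ * (a * k * a⁻¹) ∈ F := by
      intro a ha
      obtain ⟨i, rfl⟩ := Subgroup.mem_zpowers_iff.1 ha
      refine (QuotientGroup.eq_one_iff _).1 (show π (k⁻¹ * (x0 ^ i * k * (x0 ^ i)⁻¹)) = 1 from ?_)
      have hc : Commute (π x0) (π k) := hall _ (Subgroup.mem_map_of_mem π hk)
      rw [map_mul, map_mul, map_mul, map_inv, map_inv, map_zpow, (hc.zpow_left i).eq]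
      group
    obtain ⟨d, hd, hdC⟩ := exists_centralizing_in_coset (A := R₀) (K := K) (D := F)
      Subgroup.le_normalizer_of_normal (inf_eq_bot_of_coprime_card hR₀K) hFK
      Subgroup.le_normalizer_of_normal (hR₀K.coprime_dvd_right (Subgroup.card_dvd_of_le hFK))
      (Or.inr inferInstance) hk (fun a ha => by simpa [mul_assoc] using h6 a ha)
    refine ⟨k * d, ⟨mul_mem hk (hFK hd), hdC⟩, ?_⟩
    rw [mul_inv_rev, ← mul_assoc]
    exact hFn.conj_mem _ (inv_mem hd) k
  have hcy : y * c = c * y :=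
    Subgroup.mem_centralizer_iff.1 (hCx.le ⟨hcK, hcR⟩).2 y hy
  set f := k * c⁻¹
  have e : ⁅k, y⁆ = f * (y * f⁻¹ * y⁻¹) := by
    rw [commutatorElement_def]
    calc k * y * k⁻¹ * y⁻¹ = f * (c * y) * c⁻¹ * f⁻¹ * y⁻¹ := by simp only [f]; group
      _ = f * (y * c) * c⁻¹ * f⁻¹ * y⁻¹ := by rw [hcy]
      _ = f * (y * f⁻¹ * y⁻¹) := by group
  rw [e]
  exact mul_mem hkc (hFn.conj_mem _ (inv_mem hkc) y)

end Cfsg.Agent.S1445
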