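import Cfsg.Statements.S1446
import Cfsg.Agent.Solv.CoprimeAction
import Cfsg.Agent.Solv.FrobeniusNilp
import Cfsg.Agent.Solv.BrauerWielandt
import Mathlib.FieldTheory.Finite.GaloisField
import Mathlib.GroupTheory.FiniteAbelian.Duality
import Mathlib.RingTheory.IntegralDomain
import Mathlib.Tactic
-- import your own Cfsg.Agent.* helpers here

set_option autoImplicit false
open Cfsg

namespace Cfsg.Agent.S1446

open scoped commutatorElement

/-- Frobenius-type freeness: a complement permuting the characters of an abelian group freely. -/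
theorem free_card {q : ℕ} [Fact q.Prime] {M : Type*} [AddCommGroup M] [Module (ZMod q) M] [Finite M]
    {A : Type*} [CommGroup A] [Finite A] {E : Type*} [Group E] [Finite E]
    (ρ : A →* Module.End (ZMod q) M) (σ : E →* Module.End (ZMod q) M) (θ : E →* MulAut A)
    (hcom : ∀ e a, σ e * ρ a = ρ (θ e a) * σ e) (hq : ¬ q ∣ Nat.card A)
    (hfix : ∀ m : M, (∀ a, ρ a m = m) → m = 0) (hfpf : ∀ e, e ≠ 1 → ∀ a, θ e a = a → a = 1) :
    Nat.card {m : M // ∀ e, σ e m = m} ^ Nat.card E = Nat.card M ∧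
      (Nat.card {m : M // ∀ e, σ e m = m} ≤ q → ∀ S T : Module.End (ZMod q) M,
        (∀ a, S * ρ a = ρ a * S) → (∀ a, T * ρ a = ρ a * T) → S * T = T * S) := by
  classical
  haveI := Fintype.ofFinite A
  haveI := Fintype.ofFinite E
  have hn0 : Monoid.exponent A ≠ 0 := Monoid.exponent_ne_zero_of_finite
  haveI : NeZero (Monoid.exponent A) := ⟨hn0⟩
  have hqn : ¬ q ∣ Monoid.exponent A := fun h => hq (h.trans Group.exponent_dvd_nat_card)
  set k := (Monoid.exponent A).totient with hk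
  have hk0 : k ≠ 0 := (Nat.totient_pos.2 (Nat.pos_of_ne_zero hn0)).ne'
  let F := GaloisField q k
  haveI : Finite F := inferInstance
  haveI : HasEnoughRootsOfUnity F (Monoid.exponent A) :=
    { prim := by
        obtain ⟨g, hg⟩ := IsCyclic.exists_generator (α := Fˣ)
        have hd : Monoid.exponent A ∣ orderOf g := by
          rw [orderOf_eq_card_of_forall_mem_zpowers hg, Nat.card_units, GaloisField.card q k hk0,
            ← Nat.modEq_iff_dvd' (Nat.one_le_pow _ _ (Fact.out : q.Prime).pos)]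
          exact (Nat.ModEq.pow_totient (((Fact.out : q.Prime).coprime_iff_not_dvd.2 hqn))).symm
        refine ⟨((g ^ (orderOf g / Monoid.exponent A) : Fˣ) : F), ?_⟩
        have := IsPrimitiveRoot.orderOf ((g ^ (orderOf g / Monoid.exponent A) : Fˣ) : F)
        rwa [orderOf_units, orderOf_pow_orderOf_div (orderOf_pos g).ne' hd] at this
      cyc := inferInstance }
  haveI := Fintype.ofFinite (A →* Fˣ)
  let W := F →ₗ[ZMod q] M
  let L : Module.End (ZMod q) M →* Module.End (ZMod q) W :=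
    { toFun := fun T => LinearMap.llcomp (ZMod q) F M M T
      map_one' := LinearMap.ext fun f => LinearMap.ext fun x => rfl
      map_mul' := fun S T => LinearMap.ext fun f => LinearMap.ext fun x => rfl }
  let Rm : F →+* Module.End (ZMod q) W :=
    { toFun := fun c => LinearMap.lcomp (ZMod q) M (LinearMap.mulLeft (ZMod q) c)
      map_one' := LinearMap.ext fun f => LinearMap.ext fun x => by simp
      map_mul' := fun c d => LinearMap.ext fun f => LinearMap.ext fun x => by
        simp [Module.End.mul_apply, mul_comm, mul_left_comm]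
      map_zero' := LinearMap.ext fun f => LinearMap.ext fun x => by simp
      map_add' := fun c d => LinearMap.ext fun f => LinearMap.ext fun x => by simp [add_mul] }
  have hLR : ∀ T c, L T * Rm c = Rm c * L T := fun T c => LinearMap.ext fun f => LinearMap.ext fun x => rfl
  let n : F := (Nat.card A : F)
  have hn : n ≠ 0 := fun h => hq ((CharP.cast_eq_zero_iff F q _).1 h)
  let P : (A →* Fˣ) → Module.End (ZMod q) W := fun χ =>
    ∑ a : A, L (ρ a) * Rm (n⁻¹ * ((χ a⁻¹ : Fˣ) : F))
  have hLP : ∀ χ b, L (ρ b) * P χ = Rm ((χ b : Fˣ) : F) * P χ := by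
    intro χ b
    simp only [P, Finset.mul_sum]
    refine Fintype.sum_equiv (Equiv.mulLeft b) _ _ fun a => ?_
    simp only [Equiv.coe_mulLeft, ← mul_assoc]
    rw [← hLR, mul_assoc (L (ρ (b * a))), ← map_mul, ← map_mul, ← map_mul Rm]
    congr 2
    rw [mul_inv_rev, map_mul, map_inv χ b]
    push_cast
    linear_combination (-(n⁻¹ * ((χ a⁻¹ : Fˣ) : F))) * mul_inv_cancel₀ (Units.ne_zero (χ b))
  have hsum : ∀ χ : A →* Fˣ, χ ≠ 1 → ∑ a : A, ((χ a : Fˣ) : F) = 0 := fun χ h =>
    sum_hom_units_eq_zero ((Units.coeHom F).comp χ) fun e => h (MonoidHom.ext fun a => Units.ext (DFunLike.congr_fun e a))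
  have horth : ∀ χ η : A →* Fˣ, P η * P χ = if η = χ then P χ else 0 := by
    intro χ η
    have e : P η * P χ = Rm (n⁻¹ * ∑ a : A, (((χ * η⁻¹) a : Fˣ) : F)) * P χ := by
      rw [Finset.mul_sum _ _ n⁻¹, map_sum]
      show (∑ a : A, L (ρ a) * Rm (n⁻¹ * ((η a⁻¹ : Fˣ) : F))) * P χ = _
      rw [Finset.sum_mul, Finset.sum_mul]
      refine Finset.sum_congr rfl fun a _ => ?_
      rw [hLR, mul_assoc, hLP, ← mul_assoc, ← map_mul]
      congr 2
      rw [MonoidHom.mul_apply, MonoidHom.inv_apply, map_inv]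
      push_cast
      ring
    split_ifs with h
    · subst h
      rw [e, show η * η⁻¹ = 1 from mul_inv_cancel η]
      simp only [MonoidHom.one_apply, Units.val_one, Finset.sum_const, Finset.card_univ, nsmul_eq_mul, mul_one]
      rw [← Nat.card_eq_fintype_card, inv_mul_cancel₀ hn, map_one, one_mul]
    · rw [e, hsum _ (fun h' => h (mul_inv_eq_one.1 h').symm), mul_zero, map_zero, zero_mul]
  have hdual : ∀ a : A, a ≠ 1 → ∑ χ : A →* Fˣ, ((χ a : Fˣ) : F) = 0 := by
    intro a ha
    obtain ⟨η, hη⟩ := CommGroup.exists_apply_ne_one_of_hasEnoughRootsOfUnity A F ha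
    have h1 : ((η a : Fˣ) : F) * ∑ χ : A →* Fˣ, ((χ a : Fˣ) : F) = ∑ χ : A →* Fˣ, ((χ a : Fˣ) : F) := by
      rw [Finset.mul_sum]
      exact Fintype.sum_equiv (Equiv.mulLeft η) _ _ fun χ => by simp
    by_contra h
    exact hη (Units.ext ((mul_eq_right₀ h).1 h1))
  have hone : ∑ χ : A →* Fˣ, P χ = 1 := by
    simp only [P]
    rw [Finset.sum_comm, Finset.sum_eq_single (1 : A)]
    · rw [← Finset.mul_sum, map_one, map_one, one_mul, ← map_sum, ← Finset.mul_sum]
      simp only [inv_one, map_one, Units.val_one, Finset.sum_const, Finset.card_univ, nsmul_eq_mul, mul_one]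
      rw [← Nat.card_eq_fintype_card, CommGroup.card_monoidHom_of_hasEnoughRootsOfUnity, inv_mul_cancel₀ hn, map_one]
    · intro a _ ha
      rw [← Finset.mul_sum, ← map_sum, ← Finset.mul_sum, hdual a⁻¹ (inv_ne_one.2 ha), mul_zero, map_zero, mul_zero]
    · intro h; exact absurd (Finset.mem_univ _) h
  have hP1 : P 1 = 0 := by
    refine LinearMap.ext fun f => LinearMap.ext fun x => hfix _ fun b => ?_
    have := LinearMap.congr_fun (LinearMap.congr_fun (hLP 1 b) f) x
    exact this.trans (show (P 1 f) ((((1 : A →* Fˣ) b : Fˣ) : F) * x) = (P 1 f) x by simp)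
  letI : MulAction E (A →* Fˣ) :=
    { smul := fun e χ => χ.comp (θ e⁻¹).toMonoidHom
      one_smul := fun χ => MonoidHom.ext fun a => show χ (θ (1 : E)⁻¹ a) = χ a by simp
      mul_smul := fun e f χ => MonoidHom.ext fun a => show χ (θ (e * f)⁻¹ a) = χ (θ f⁻¹ (θ e⁻¹ a)) by
        rw [mul_inv_rev, map_mul]; rfl }
  have hconj : ∀ (e : E) χ, L (σ e) * P χ * L (σ e⁻¹) = P (e • χ) := by
    intro e χ
    simp only [P, Finset.mul_sum, Finset.sum_mul]
    refine Fintype.sum_equiv (θ e).toEquiv _ _ fun a => ?_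
    show L (σ e) * (L (ρ a) * Rm _) * L (σ e⁻¹) = L (ρ (θ e a)) * Rm (n⁻¹ * ((χ (θ e⁻¹ (θ e a)⁻¹) : Fˣ) : F))
    rw [← mul_assoc, mul_assoc _ (Rm _) (L (σ e⁻¹)), ← hLR, ← mul_assoc, ← map_mul, hcom, ← map_mul,
      mul_assoc (ρ (θ e a)), ← map_mul σ, mul_inv_cancel, map_one, mul_one]
    congr 4
    rw [map_inv (θ e⁻¹), ← MulAut.mul_apply, ← map_mul, inv_mul_cancel, map_one, MulAut.one_apply]
  have hfree : ∀ (e : E) (χ : A →* Fˣ), χ ≠ 1 → e • χ = χ → e = 1 := by
    intro e χ hχ he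
    by_contra h1
    refine hχ (MonoidHom.ext fun a => ?_)
    have hinj : Function.Injective (fun b : A => θ e⁻¹ b * b⁻¹) := by
      intro b c h
      have : θ e⁻¹ (b * c⁻¹) = b * c⁻¹ := by
        rw [map_mul, map_inv (θ e⁻¹), ← div_eq_mul_inv, ← div_eq_mul_inv, div_eq_div_iff_mul_eq_mul, mul_comm b]
        simp only [← div_eq_mul_inv] at h
        exact div_eq_div_iff_mul_eq_mul.1 h
      exact mul_inv_eq_one.1 (hfpf e⁻¹ (inv_ne_one.2 h1) _ this)
    obtain ⟨b, rfl⟩ := Finite.injective_iff_surjective.1 hinj a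
    have := DFunLike.congr_fun he b
    show χ (θ e⁻¹ b * b⁻¹) = 1
    rw [map_mul, map_inv χ, mul_inv_eq_one]
    exact this
  have hne1 : ∀ (e : E) (χ : A →* Fˣ), χ ≠ 1 → e • χ ≠ 1 := fun e χ hχ h => hχ (by
    rw [← inv_smul_smul e χ, h]
    exact MonoidHom.ext fun a => rfl)
  let R : Finset (A →* Fˣ) := Finset.univ.filter fun χ =>
    χ ≠ 1 ∧ (Quotient.mk (MulAction.orbitRel E (A →* Fˣ)) χ).out = χ
  have horb : ∀ (e : E) χ η, χ ∈ R → η ∈ R → e • χ = η → e = 1 ∧ χ = η := by
    intro e χ η hχ hη h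
    rw [Finset.mem_filter] at hχ hη
    have he : (Quotient.mk (MulAction.orbitRel E (A →* Fˣ)) η) = Quotient.mk _ χ :=
      Quotient.sound ⟨e, h⟩
    have heq : χ = η := by rw [← hη.2.2, he, hχ.2.2]
    subst heq
    exact ⟨hfree e χ hχ.2.1 h, rfl⟩
  let f := ∑ χ ∈ R, P χ
  have hcf : ∀ e, L (σ e) * f * L (σ e⁻¹) = ∑ χ ∈ R, P (e • χ) := fun e => by
    simp only [f, Finset.mul_sum, Finset.sum_mul, hconj]
  have hff : ∀ e, f * (L (σ e) * f * L (σ e⁻¹)) = if e = 1 then f else 0 := by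
    intro e
    rw [hcf]
    simp only [f, Finset.sum_mul, Finset.mul_sum, horth]
    split_ifs with h
    · subst h
      simp only [one_smul]
      exact Finset.sum_congr rfl fun χ hχ => by rw [Finset.sum_ite_eq' R χ, if_pos hχ]
    · refine Finset.sum_eq_zero fun χ hχ => Finset.sum_eq_zero fun η hη => if_neg fun he => h ?_
      exact (horb e χ η hχ hη he.symm).1
  have hcover : ∑ e : E, L (σ e) * f * L (σ e⁻¹) = 1 := by
    rw [Finset.sum_congr rfl fun e _ => hcf e, ← Finset.sum_product']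
    have h1 : ∑ χ ∈ Finset.univ.filter (fun χ : A →* Fˣ => χ ≠ 1), P χ = 1 := by
      rw [← hone, Finset.filter_ne', Finset.sum_erase _ hP1]
    rw [← h1]
    refine Finset.sum_bij (fun x _ => x.1 • x.2) (fun x hx => ?_) (fun x hx y hy h => ?_) (fun χ hχ => ?_) (fun x _ => rfl)
    · rw [Finset.mem_product, Finset.mem_filter] at hx
      exact Finset.mem_filter.2 ⟨Finset.mem_univ _, hne1 _ _ hx.2.2.1⟩
    · rw [Finset.mem_product] at hx hy
      have h' : (y.1⁻¹ * x.1) • x.2 = y.2 := by rw [mul_smul, h, inv_smul_smul]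
      obtain ⟨h1, h2⟩ := horb _ _ _ hx.2 hy.2 h'
      exact Prod.ext (inv_mul_eq_one.1 h1).symm h2
    · have hr := Quotient.mk_out (s := MulAction.orbitRel E (A →* Fˣ)) χ
      obtain ⟨e, he⟩ := hr
      refine ⟨(e⁻¹, (Quotient.mk (MulAction.orbitRel E (A →* Fˣ)) χ).out), Finset.mem_product.2 ⟨Finset.mem_univ _,
        Finset.mem_filter.2 ⟨Finset.mem_univ _, ?_, by rw [Quotient.out_eq]⟩⟩, ?_⟩
      · rw [← he]; exact hne1 _ _ (Finset.mem_filter.1 hχ).2
      · show e⁻¹ • _ = χ
        rw [← he]; exact inv_smul_smul e χ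
  let T : W → W := fun w => ∑ x : E, L (σ x) (f w)
  have hT : ∀ e w, L (σ e) (T w) = T w := fun e w => by
    simp only [T, map_sum]
    exact Fintype.sum_equiv (Equiv.mulLeft e) _ _ fun x => by
      show _ = L (σ (e * x)) (f w)
      rw [map_mul, map_mul]; rfl
  have hσσ : ∀ x y (w : W), L (σ x) (L (σ y) w) = L (σ (x * y)) w := fun x y w => by
    rw [map_mul, map_mul]; rfl
  have hfe : ∀ e w, f (L (σ e) (f w)) = if e = 1 then f w else 0 := fun e w => by
    have := LinearMap.congr_fun (hff e) (L (σ e) w)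
    simp only [Module.End.mul_apply, hσσ, inv_mul_cancel, map_one, Module.End.one_apply] at this
    rw [this]
    split_ifs with h
    · subst h; simp [map_one]
    · rfl
  have hsum1 : ∀ w, ∑ e : E, L (σ e) (f (L (σ e⁻¹) w)) = w := fun w => by
    have := LinearMap.congr_fun hcover w
    simpa [LinearMap.sum_apply, Module.End.mul_apply] using this
  have hTv : ∀ v : W, (∀ e, L (σ e) v = v) → T v = v := fun v hv => by
    conv_rhs => rw [← hsum1 v]
    exact Finset.sum_congr rfl fun x _ => by rw [hv]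
  have hfT : ∀ u, f (T u) = f u := fun u => by
    simp only [T, map_sum, hfe, Finset.sum_ite_eq', Finset.mem_univ, if_true]
  let Φ : W ≃ (E → {v : W // ∀ e, L (σ e) v = v}) :=
    { toFun := fun w e => ⟨T (L (σ e) w), fun x => hT x _⟩
      invFun := fun v => ∑ e : E, L (σ e⁻¹) (f (v e))
      left_inv := fun w => by
        show ∑ e : E, L (σ e⁻¹) (f (T (L (σ e) w))) = w
        conv_rhs => rw [← hsum1 w]
        refine Fintype.sum_equiv (Equiv.inv E) _ _ fun e => ?_
        simp [hfT]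
      right_inv := fun v => funext fun e => Subtype.ext (by
        show T (L (σ e) (∑ x : E, L (σ x⁻¹) (f (v x)))) = v e
        have : f (L (σ e) (∑ x : E, L (σ x⁻¹) (f (v x)))) = f (v e) := by
          simp only [map_sum, hσσ, hfe]
          rw [Finset.sum_eq_single e (fun x _ hx => if_neg fun h => hx (mul_inv_eq_one.1 h).symm)
            (fun h => absurd (Finset.mem_univ _) h), if_pos (mul_inv_cancel e)]
        rw [show T (L (σ e) (∑ x : E, L (σ x⁻¹) (f (v x)))) = ∑ y : E, L (σ y) (f (L (σ e) (∑ x : E, L (σ x⁻¹) (f (v x))))) from rfl, this]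
        exact hTv (v e) (v e).2) }
  let bas := Module.finBasisOfFinrankEq (ZMod q) F (GaloisField.finrank q hk0)
  let C : (Fin k → M) ≃ₗ[ZMod q] W := bas.constr (ZMod q)
  have hC : ∀ (T : Module.End (ZMod q) M) (v : Fin k → M), L T (C v) = C (fun i => T (v i)) := fun T v =>
    bas.ext fun i => by
      show T (C v (bas i)) = C (fun i => T (v i)) (bas i)
      have hc : ∀ w : Fin k → M, C w (bas i) = w i := fun w => bas.constr_basis (ZMod q) w i
      rw [hc, hc]
  have h1 : Nat.card W = Nat.card M ^ k := by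
    rw [← Nat.card_congr C.toEquiv, Nat.card_fun, Nat.card_fin]
  have h2 : Nat.card {v : W // ∀ e, L (σ e) v = v} = Nat.card {m : M // ∀ e, σ e m = m} ^ k := by
    rw [show Nat.card {m : M // ∀ e, σ e m = m} ^ k = Nat.card (Fin k → {m : M // ∀ e, σ e m = m}) by
      rw [Nat.card_fun, Nat.card_fin]]
    refine Nat.card_congr ((C.toEquiv.symm.subtypeEquiv fun v => ?_).trans
      (Equiv.subtypePiEquivPi (p := fun _ m => ∀ e, σ e m = m)))
    refine ⟨fun h i e => congrFun (C.injective ((hC (σ e) _).symm.trans ?_)) i, fun h e => ?_⟩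
    · show L (σ e) (C (C.symm v)) = C (C.symm v)
      rw [C.apply_symm_apply]; exact h e
    · rw [← C.apply_symm_apply v, hC]
      exact congrArg C (funext fun i => h i e)
  refine ⟨Nat.pow_left_injective hk0 ?_, fun hle S T' hS hT' => ?_⟩
  swap
  · have hRP : ∀ χ c, P χ * Rm c = Rm c * P χ := fun χ c => by
      simp only [P, Finset.sum_mul, Finset.mul_sum]
      refine Finset.sum_congr rfl fun a _ => ?_
      rw [mul_assoc, ← map_mul, ← mul_assoc (Rm c), ← hLR, mul_assoc (L (ρ a)), ← map_mul, mul_comm c]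
    have hSP : ∀ (U : Module.End (ZMod q) M), (∀ a, U * ρ a = ρ a * U) → ∀ χ, L U * P χ = P χ * L U := fun U hU χ => by
      simp only [P, Finset.sum_mul, Finset.mul_sum]
      refine Finset.sum_congr rfl fun a _ => ?_
      rw [← mul_assoc, ← map_mul, hU, map_mul, mul_assoc, mul_assoc, hLR]
    have hcard : Nat.card {v : W // ∀ e, L (σ e) v = v} ≤ Nat.card F := by
      rw [h2, GaloisField.card q k hk0]; exact Nat.pow_le_pow_left hle k
    have hkey : ∀ χ w, L S (L T' (P χ w)) = L T' (L S (P χ w)) := by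
      intro χ w
      by_cases hχ : χ = 1
      · simp [hχ, hP1]
      let N : W → W := fun v => ∑ x : E, L (σ x) v
      have hN : ∀ e v, L (σ e) (N v) = N v := fun e v => by
        simp only [N, map_sum]
        exact Fintype.sum_equiv (Equiv.mulLeft e) _ _ fun x => hσσ e x v
      have hPN : ∀ v, P χ v = v → P χ (N v) = v := fun v hv => by
        simp only [N, map_sum]
        rw [Finset.sum_eq_single (1 : E) (fun x _ hx => ?_) (fun h => absurd (Finset.mem_univ _) h)]
        · rw [map_one, map_one, Module.End.one_apply, hv]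
        · have hx' : P χ (L (σ x) (P χ v)) = 0 := by
            have h0 := LinearMap.congr_fun (congrArg (fun Z => Z * L (σ x)) ((congrArg (P χ * ·) (hconj x χ)).trans (horth (x • χ) χ))) v
            rw [if_neg (fun h => hx (hfree x χ hχ h.symm))] at h0
            simpa only [Module.End.mul_apply, hσσ, inv_mul_cancel, map_one, Module.End.one_apply, LinearMap.zero_apply] using h0
          rwa [hv] at hx'
      let u := P χ w
      have hu : P χ u = u := by
        show P χ (P χ w) = P χ w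
        rw [← Module.End.mul_apply, horth, if_pos rfl]
      by_cases hu0 : u = 0
      · show L S (L T' u) = L T' (L S u)
        simp [hu0]
      have hmul : ∀ c, P χ (Rm c u) = Rm c u := fun c => by
        rw [← Module.End.mul_apply, hRP, Module.End.mul_apply, hu]
      let i : F → {v : W // P χ v = v} := fun c => ⟨Rm c u, hmul c⟩
      let j : {v : W // P χ v = v} → {v : W // ∀ e, L (σ e) v = v} := fun v => ⟨N v, fun e => hN e v⟩
      have hj : Function.Injective j := fun a b h => Subtype.ext (by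
        rw [← hPN a a.2, ← hPN b b.2]; exact congrArg (P χ) (congrArg Subtype.val h))
      haveI : Finite W := Module.finite_of_finite (ZMod q)
      have hi : Function.Injective i := fun a b h => by
        by_contra hab
        have h' : Rm (a - b) u = 0 := by
          rw [map_sub, LinearMap.sub_apply, sub_eq_zero]; exact congrArg Subtype.val h
        have h'' := congrArg (Rm (a - b)⁻¹) h'
        rw [← Module.End.mul_apply, ← map_mul, inv_mul_cancel₀ (sub_ne_zero.2 hab), map_one, map_zero] at h''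
        exact hu0 h''
      have hsur := (hi.bijective_of_nat_card_le ((Nat.card_le_card_of_injective j hj).trans hcard)).2
      have hpres : ∀ (U : Module.End (ZMod q) M), (∀ a, U * ρ a = ρ a * U) → P χ (L U u) = L U u := fun U hU => by
        rw [← Module.End.mul_apply, ← hSP U hU, Module.End.mul_apply, hu]
      obtain ⟨a, ha⟩ := hsur ⟨_, hpres S hS⟩
      obtain ⟨b, hb⟩ := hsur ⟨_, hpres T' hT'⟩
      have ha' : Rm a u = L S u := congrArg Subtype.val ha
      have hb' : Rm b u = L T' u := congrArg Subtype.val hb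
      show L S (L T' u) = L T' (L S u)
      rw [← hb', ← ha', ← Module.End.mul_apply, ← Module.End.mul_apply (L T'), hLR, hLR, Module.End.mul_apply,
        Module.End.mul_apply, ← ha', ← hb', ← Module.End.mul_apply, ← map_mul, mul_comm, map_mul, Module.End.mul_apply]
    refine LinearMap.ext fun m => ?_
    have hw : ∀ w, L S (L T' w) = L T' (L S w) := fun w => by
      have h1 : ∑ χ : A →* Fˣ, P χ w = w := by rw [← LinearMap.sum_apply, hone, Module.End.one_apply]
      rw [← h1, map_sum, map_sum, map_sum, map_sum]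
      exact Finset.sum_congr rfl fun χ _ => hkey χ w
    have := hw (C fun _ => m)
    rw [hC, hC, hC, hC] at this
    exact congrFun (C.injective this) ⟨0, Nat.pos_of_ne_zero hk0⟩
  show _ ^ k = _ ^ k
  rw [← h1, Nat.card_congr Φ, Nat.card_fun, h2, ← pow_mul, ← pow_mul, mul_comm]

theorem irreducible_formula {V : Type*} [CommGroup V] [Finite V] {G : Type*} [Group G] [Finite G]
    (φ : G →* MulAut V) (U E : Subgroup G) [U.Normal] (htop : U ⊔ E = ⊤) (hE1 : E ≠ ⊥)
    (hfpf : ∀ e ∈ E, e ≠ 1 → ∀ u ∈ U, e * u = u * e → u = 1)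
    (hirr : ∀ W : Subgroup V, (∀ g, ∀ w ∈ W, φ g w ∈ W) → W = ⊥ ∨ W = ⊤)
    (hcop : (Nat.card V).Coprime (Nat.card G)) :
    Nat.card {v : V // ∀ g, φ g v = v} ^ Nat.card E * Nat.card V =
      Nat.card {v : V // ∀ e ∈ E, φ e v = v} ^ Nat.card E * Nat.card {v : V // ∀ u ∈ U, φ u v = v} ∧
    ((∀ p : ℕ, p.Prime → (∀ v : V, v ^ p = 1) → Nat.card {v : V // ∀ e ∈ E, φ e v = v} ≤ p) →
      ∀ u ∈ U, ∀ w ∈ U, φ u * φ w = φ w * φ u) := by
  classical
  have hmn : ∀ N : Subgroup G, N.Normal → (∀ v, (∀ n ∈ N, φ n v = v)) ∨ ∀ v, (∀ n ∈ N, φ n v = v) → v = 1 := by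
    intro N hN
    let Fx : Subgroup V :=
      { carrier := {v | ∀ n ∈ N, φ n v = v}
        one_mem' := fun n _ => map_one _
        mul_mem' := fun {a b} ha hb n hn => by rw [map_mul, ha n hn, hb n hn]
        inv_mem' := fun {a} ha n hn => by rw [map_inv, ha n hn] }
    rcases hirr Fx (fun g w hw n hn => by
      have := hw _ (hN.conj_mem n hn g⁻¹)
      rw [map_mul, map_mul, MulAut.mul_apply, MulAut.mul_apply, inv_inv] at this
      calc φ n (φ g w) = φ g (φ g⁻¹ (φ n (φ g w))) := by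
            rw [map_inv φ g]; exact ((φ g).apply_symm_apply _).symm
        _ = φ g w := by rw [this]) with h | h
    · exact Or.inr fun v hv => Subgroup.mem_bot.1 (h ▸ (hv : v ∈ Fx))
    · exact Or.inl fun v => (h.symm ▸ Subgroup.mem_top v : v ∈ Fx)
  rcases hmn U inferInstance with hall | hnone
  · have e1 : Nat.card {v : V // ∀ u ∈ U, φ u v = v} = Nat.card V := Nat.card_congr (Equiv.subtypeUnivEquiv hall)
    have e2 : ∀ v : V, (∀ g, φ g v = v) ↔ ∀ e ∈ E, φ e v = v := fun v => ⟨fun h e _ => h e, fun h g => by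
      obtain ⟨u, hu, e, he, rfl⟩ := Subgroup.mem_sup_of_normal_left.1 (htop ▸ Subgroup.mem_top g : g ∈ U ⊔ E)
      rw [map_mul, MulAut.mul_apply, h e he, hall v u hu]⟩
    refine ⟨by rw [e1, Nat.card_congr (Equiv.subtypeEquivRight e2)], fun _ u hu w hw => MulEquiv.ext fun v => ?_⟩
    simp only [MulAut.mul_apply, hall _ u hu, hall _ w hw]
  have hU1 : Nat.card {v : V // ∀ u ∈ U, φ u v = v} = 1 :=
    Nat.card_eq_one_iff_unique.2 ⟨⟨fun a b => Subtype.ext ((hnone _ a.2).trans (hnone _ b.2).symm)⟩, ⟨⟨1, fun u _ => map_one _⟩⟩⟩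
  have hG1 : Nat.card {v : V // ∀ g, φ g v = v} = 1 :=
    Nat.card_eq_one_iff_unique.2 ⟨⟨fun a b => Subtype.ext ((hnone _ fun u _ => a.2 u).trans (hnone _ fun u _ => b.2 u).symm)⟩, ⟨⟨1, fun u => map_one _⟩⟩⟩
  rw [hU1, hG1, one_pow, one_mul, mul_one]
  rcases subsingleton_or_nontrivial V with hs | hs
  · refine ⟨?_, fun _ u _ w _ => MulEquiv.ext fun v => Subsingleton.elim _ _⟩
    symm
    haveI : Subsingleton {v : V // ∀ e ∈ E, φ e v = v} := inferInstance
    rw [Nat.card_of_subsingleton (⟨1, fun e _ => map_one _⟩ : {v : V // ∀ e ∈ E, φ e v = v}), one_pow, Nat.card_of_subsingleton (1 : V)]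
  obtain ⟨q, hq, hqV⟩ := Nat.exists_prime_and_dvd (Finite.one_lt_card (α := V)).ne'
  haveI := Fact.mk hq
  have hexp : ∀ v : V, v ^ q = 1 := by
    rcases hirr (powMonoidHom q).ker (fun g w hw => by
      rw [MonoidHom.mem_ker, powMonoidHom_apply] at hw ⊢
      rw [← map_pow, hw, map_one]) with h | h
    · obtain ⟨v, hv⟩ := exists_prime_orderOf_dvd_card' q hqV
      exfalso
      have : v ∈ (powMonoidHom q : V →* V).ker := by rw [MonoidHom.mem_ker, powMonoidHom_apply, ← hv, pow_orderOf_eq_one]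
      rw [h, Subgroup.mem_bot] at this
      exact hq.one_lt.ne (by rw [← hv, this, orderOf_one])
    · intro v
      have := (h.symm ▸ Subgroup.mem_top v : v ∈ (powMonoidHom q : V →* V).ker)
      rwa [MonoidHom.mem_ker, powMonoidHom_apply] at this
  -- an abelian piece of the kernel acting without fixed points
  obtain ⟨e₀, he₀, he₀1⟩ := E.bot_or_exists_ne_one.resolve_left hE1
  obtain ⟨r, hr, hre⟩ := Nat.exists_prime_and_dvd (orderOf_eq_one_iff.not.2 he₀1)
  haveI := Fact.mk hr
  have hho : orderOf (e₀ ^ (orderOf e₀ / r)) = r := orderOf_pow_orderOf_div (orderOf_pos _).ne' hre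
  haveI : Group.IsNilpotent U := CfsgLib.Solv.isNilpotent_of_fpf_element (p := r) (h := e₀ ^ (orderOf e₀ / r))
    (orderOf_dvd_iff_pow_eq_one.1 hho.dvd) (eq_bot_iff.2 fun u hu => Subgroup.mem_bot.2
      (hfpf _ (pow_mem he₀ _) (fun h => hr.one_lt.ne (by rw [← hho, h, orderOf_one])) u hu.1
        (Subgroup.mem_centralizer_singleton_iff.1 hu.2).symm))
  let ψ := φ.comp U.subtype
  have hnt : ψ.range ≠ ⊥ := fun h => by
    obtain ⟨v, hv⟩ := exists_ne (1 : V)
    refine hv (hnone v fun u hu => ?_)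
    have : φ u = 1 := Subgroup.mem_bot.1 (h ▸ ⟨⟨u, hu⟩, rfl⟩ : φ u ∈ (⊥ : Subgroup (MulAut V)))
    rw [this]; rfl
  haveI : Group.IsNilpotent ψ.range := Group.nilpotent_of_surjective ψ.rangeRestrict ψ.rangeRestrict_surjective
  haveI : Nontrivial ψ.range := (Subgroup.nontrivial_iff_ne_bot _).2 hnt
  let A : Subgroup (MulAut V) := (Subgroup.center ψ.range).map ψ.range.subtype
  have hAU : ∀ a ∈ A, ∃ u ∈ U, φ u = a := by
    rintro _ ⟨⟨_, u, rfl⟩, -, rfl⟩
    exact ⟨u, u.2, rfl⟩
  have hAc : ∀ a ∈ A, ∀ u ∈ U, φ u * a = a * φ u := by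
    rintro _ ⟨c, hc, rfl⟩ u hu
    exact congrArg Subtype.val (Subgroup.mem_center_iff.1 hc ⟨φ u, ⟨⟨u, hu⟩, rfl⟩⟩)
  have hAmem : ∀ u ∈ U, (∀ w ∈ U, φ w * φ u = φ u * φ w) → φ u ∈ A := fun u hu h =>
    ⟨⟨φ u, ⟨⟨u, hu⟩, rfl⟩⟩, Subgroup.mem_center_iff.2 fun x => by
      obtain ⟨w, hw⟩ := x.2
      exact Subtype.ext (by rw [Subgroup.coe_mul, Subgroup.coe_mul, ← hw]; exact h w w.2), rfl⟩
  have hAN : ∀ g : G, ∀ a ∈ A, φ g * a * (φ g)⁻¹ ∈ A := by
    intro g a ha
    obtain ⟨u, hu, rfl⟩ := hAU a ha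
    rw [← map_inv, ← map_mul, ← map_mul]
    refine hAmem _ (Subgroup.Normal.conj_mem inferInstance u hu g) fun w hw => ?_
    have h1 := hAc _ ha _ (Subgroup.Normal.conj_mem inferInstance w hw g⁻¹)
    simp only [map_mul, map_inv, inv_inv] at h1 ⊢
    calc φ w * (φ g * φ u * (φ g)⁻¹) = φ g * ((φ g)⁻¹ * φ w * φ g * φ u) * (φ g)⁻¹ := by group
      _ = φ g * (φ u * ((φ g)⁻¹ * φ w * φ g)) * (φ g)⁻¹ := by rw [h1]
      _ = φ g * φ u * (φ g)⁻¹ * φ w := by group
  haveI hAcomm : IsMulCommutative A := ⟨⟨fun a b => by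
    obtain ⟨u, hu, hue⟩ := hAU a a.2
    exact Subtype.ext (by rw [Subgroup.coe_mul, Subgroup.coe_mul, ← hue]; exact hAc b b.2 u hu)⟩⟩
  have hAfix : ∀ v, (∀ a ∈ A, a v = v) → v = 1 := by
    rcases hmn (A.comap φ ⊓ U) ⟨fun x hx g => ⟨by
      show φ (g * x * g⁻¹) ∈ A
      rw [map_mul, map_mul, map_inv]; exact hAN g _ hx.1, Subgroup.Normal.conj_mem inferInstance x hx.2 g⟩⟩ with h | h
    · exfalso
      have hb : Subgroup.center ψ.range = ⊥ := eq_bot_iff.2 fun c hc => Subgroup.mem_bot.2 (Subtype.ext (by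
        obtain ⟨u, hu, hue⟩ := hAU _ ⟨c, hc, rfl⟩
        refine MulEquiv.ext fun v => ?_
        show (c : MulAut V) v = v
        have e : φ u = (c : MulAut V) := hue
        rw [← e]; exact h v u ⟨(show φ u ∈ A from e ▸ ⟨c, hc, rfl⟩), hu⟩))
      exact Group.IsNilpotent.center_ne_bot (G := ψ.range) hb
    · exact fun v hv => h v fun x hx => hv _ hx.1
  open scoped IsMulCommutative in
  let θ : E →* MulAut A :=
    { toFun := fun e =>
        { toFun := fun a => ⟨φ e * a * (φ e)⁻¹, hAN e a a.2⟩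
          invFun := fun a => ⟨φ (e : G)⁻¹ * a * (φ (e : G)⁻¹)⁻¹, hAN _ a a.2⟩
          left_inv := fun a => Subtype.ext (by simp [mul_assoc])
          right_inv := fun a => Subtype.ext (by simp [mul_assoc])
          map_mul' := fun a b => Subtype.ext (by simp [mul_assoc]) }
      map_one' := MulEquiv.ext fun a => Subtype.ext (by simp)
      map_mul' := fun e f => MulEquiv.ext fun a => Subtype.ext (by simp [mul_assoc]) }
  letI : Module (ZMod q) (Additive V) := AddCommGroup.zmodModule (n := q) fun v => hexp v.toMul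
  let toEnd : MulAut V →* Module.End (ZMod q) (Additive V) :=
    { toFun := fun a => (MonoidHom.toAdditive a.toMonoidHom).toZModLinearMap q
      map_one' := LinearMap.ext fun v => rfl
      map_mul' := fun a b => LinearMap.ext fun v => rfl }
  open scoped IsMulCommutative in
  have key := free_card (A := A) (E := E) (toEnd.comp A.subtype) (toEnd.comp (φ.comp E.subtype)) θ
    (fun e a => by
      show toEnd (φ e) * toEnd a = toEnd (φ e * a * (φ e)⁻¹) * toEnd (φ e)
      rw [← map_mul, ← map_mul, inv_mul_cancel_right])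
    (fun h => by
      have hd : Nat.card A ∣ Nat.card G := (Subgroup.card_dvd_of_le (show A ≤ φ.range by
        intro a ha
        obtain ⟨u, -, rfl⟩ := hAU a ha
        exact ⟨u, rfl⟩)).trans (Subgroup.card_range_dvd φ)
      exact hq.ne_one (Nat.eq_one_of_dvd_coprimes hcop hqV (h.trans hd)))
    (fun m hm => hAfix m.toMul fun a ha => hm ⟨a, ha⟩)
    (fun e he a h => by
      obtain ⟨u, hu, hue⟩ := hAU a a.2
      have h' : φ e * a * (φ e)⁻¹ = a := congrArg Subtype.val h
      let K : Subgroup G := φ.ker ⊓ U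
      have hK : ∀ x ∈ K, (e : G) * x * (e : G)⁻¹ * x⁻¹ ∈ K := fun x hx =>
        mul_mem (Subgroup.Normal.conj_mem inferInstance x hx (e : G)) (inv_mem hx)
      have hinj : ∀ x ∈ U, ∀ y ∈ U, (e : G) * x * (e : G)⁻¹ * x⁻¹ = (e : G) * y * (e : G)⁻¹ * y⁻¹ → x = y := by
        intro x hx y hy hxy
        refine (inv_mul_eq_one.1 (hfpf e e.2 (fun h1 => he (Subtype.ext h1)) (y⁻¹ * x) (mul_mem (inv_mem hy) hx) ?_)).symm
        have hx' : (e : G) * x * (e : G)⁻¹ = (e : G) * y * (e : G)⁻¹ * y⁻¹ * x := by rw [← hxy]; group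
        calc (e : G) * (y⁻¹ * x) = ((e : G) * y * (e : G)⁻¹)⁻¹ * ((e : G) * x * (e : G)⁻¹) * e := by group
          _ = y⁻¹ * x * e := by rw [hx']; group
      have hsurj : Function.Surjective (fun x : K => (⟨_, hK x x.2⟩ : K)) := Finite.injective_iff_surjective.1
        fun x y h => Subtype.ext (hinj x x.2.2 y y.2.2 (congrArg Subtype.val h))
      have hd : (e : G) * u * (e : G)⁻¹ * u⁻¹ ∈ K := by
        refine Subgroup.mem_inf.2 ⟨?_, mul_mem (Subgroup.Normal.conj_mem inferInstance u hu (e : G)) (inv_mem hu)⟩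
        show φ _ = 1
        rw [map_mul, map_mul, map_mul, map_inv, map_inv, hue, h', mul_inv_cancel]
      obtain ⟨⟨x, hx⟩, hxe⟩ := hsurj ⟨_, hd⟩
      refine Subtype.ext ?_
      rw [← hue, ← hinj x hx.2 u hu (congrArg Subtype.val hxe)]
      exact hx.1)
  have hc : Nat.card {m : Additive V // ∀ e : E, (toEnd.comp (φ.comp E.subtype)) e m = m} = Nat.card {v : V // ∀ e ∈ E, φ e v = v} :=
    Nat.card_congr ((Additive.toMul (α := V)).subtypeEquiv fun m => ⟨fun h e he => congrArg Additive.toMul (h ⟨e, he⟩),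
      fun h e => congrArg Additive.ofMul (h e e.2)⟩)
  refine ⟨?_, fun hsmall u hu w hw => ?_⟩
  · rw [← hc, key.1]; rfl
  · have hcm : ∀ x ∈ U, ∀ a : A, toEnd (φ x) * (toEnd.comp A.subtype) a = (toEnd.comp A.subtype) a * toEnd (φ x) := fun x hx a => by
      show toEnd (φ x) * toEnd a = toEnd a * toEnd (φ x)
      rw [← map_mul, ← map_mul, hAc a a.2 x hx]
    have h := key.2 (hc.trans_le (hsmall q hq hexp)) (toEnd (φ u)) (toEnd (φ w)) (hcm u hu) (hcm w hw)
    exact MulEquiv.ext fun v => congrArg Additive.toMul (LinearMap.congr_fun h (Additive.ofMul v))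

variable {X : Type*} [Group X] [Finite X]

theorem chief_induction (G U E : Subgroup X) (hUG : U ≤ G) (hEG : E ≤ G) (hsup : U ⊔ E = G)
    (hUn : G ≤ Subgroup.normalizer (U : Set X)) (hE1 : E ≠ ⊥)
    (hfpf : ∀ e ∈ E, e ≠ 1 → ∀ u ∈ U, e * u = u * e → u = 1) :
    ∀ (n : ℕ) (K : Subgroup X), Nat.card K = n → G ≤ Subgroup.normalizer (K : Set X) → Group.IsSolvable K →
      (Nat.card K).Coprime (Nat.card G) →
      Nat.card ↥(K ⊓ Subgroup.centralizer (G : Set X)) ^ Nat.card E * Nat.card K =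
        Nat.card ↥(K ⊓ Subgroup.centralizer (E : Set X)) ^ Nat.card E * Nat.card ↥(K ⊓ Subgroup.centralizer (U : Set X)) ∧
      (IsCyclic ↥(K ⊓ Subgroup.centralizer (E : Set X)) → ⁅U, U⁆ ≤ Subgroup.centralizer (K : Set X)) := by
  intro n
  induction n using Nat.strong_induction_on with
  | _ n ih => ?_
  intro K hn hGK hs hcop
  classical
  by_cases hbot : K = ⊥
  · subst hbot
    exact ⟨by simp [bot_inf_eq], fun _ x _ => Subgroup.mem_centralizer_iff.2 fun y hy => by
      rw [Subgroup.mem_bot.1 hy, one_mul, mul_one]⟩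
  have hder : ⁅K, K⁆ < K := by
    haveI := hs
    haveI : Nontrivial K := (Subgroup.nontrivial_iff_ne_bot K).2 hbot
    have h1 : commutator K < ⊤ := IsSolvable.commutator_lt_top_of_nontrivial K
    refine lt_of_le_of_ne (Subgroup.commutator_le_self K) fun h => h1.ne ?_
    apply Subgroup.map_injective K.subtype_injective
    rw [CfsgLib.Solv.BW.map_commutator_self, h, ← MonoidHom.range_eq_map, Subgroup.range_subtype]
  have hGd : G ≤ Subgroup.normalizer ((⁅K, K⁆ : Subgroup X) : Set X) := by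
    intro a ha
    refine CfsgLib.Solv.mem_normalizer_of_conj_smul_eq ?_
    rw [CfsgLib.Solv.conj_smul_eq_map, Subgroup.map_commutator, ← CfsgLib.Solv.conj_smul_eq_map,
      CfsgLib.Solv.conj_smul_eq_self_of_mem_normalizer (hGK ha)]
  obtain ⟨Q, hQmax⟩ := (Set.toFinite {Q : Subgroup X | ⁅K, K⁆ ≤ Q ∧ Q < K ∧
    G ≤ Subgroup.normalizer (Q : Set X)}).exists_maximal ⟨_, le_rfl, hder, hGd⟩
  obtain ⟨hdQ, hQK, hGQ⟩ := hQmax.1
  haveI hQn : (Q.subgroupOf K).Normal := ⟨fun x hx k => by
    rw [Subgroup.mem_subgroupOf] at hx ⊢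
    push_cast
    have h1 := mul_mem (hdQ (Subgroup.commutator_mem_commutator k.2 (hQK.le hx))) hx
    rwa [commutatorElement_def, inv_mul_cancel_right] at h1⟩
  have hcQ : (Nat.card Q).Coprime (Nat.card G) := hcop.coprime_dvd_left (Subgroup.card_dvd_of_le hQK.le)
  have hQs : Group.IsSolvable Q := haveI := hs; CfsgLib.Solv.isSolvable_of_le hQK.le
  have hIH := ih (Nat.card Q) (hn ▸ lt_of_le_of_ne (Subgroup.card_le_of_le hQK.le)
    fun h => hQK.ne (Subgroup.eq_of_le_of_card_ge hQK.le h.ge)) Q rfl hGQ hQs hcQ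
  let π := QuotientGroup.mk' (Q.subgroupOf K)
  letI : CommGroup (K ⧸ Q.subgroupOf K) :=
    { (inferInstance : Group (K ⧸ Q.subgroupOf K)) with
      mul_comm := by
        intro a b
        obtain ⟨a, rfl⟩ := QuotientGroup.mk'_surjective _ a
        obtain ⟨b, rfl⟩ := QuotientGroup.mk'_surjective _ b
        refine commutatorElement_eq_one_iff_mul_comm.1 ?_
        rw [← map_commutatorElement]
        exact (QuotientGroup.eq_one_iff _).2 (Subgroup.mem_subgroupOf.2 (hdQ (by
          push_cast [commutatorElement_def]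
          exact Subgroup.commutator_mem_commutator a.2 b.2))) }
  have hK' : ∀ g : G, ∀ k ∈ K, (g : X) * k * (g : X)⁻¹ ∈ K := fun g k hk => (Subgroup.mem_normalizer_iff.1 (hGK g.2) k).1 hk
  have hQ' : ∀ g : G, ∀ k ∈ Q, (g : X) * k * (g : X)⁻¹ ∈ Q := fun g k hk => (Subgroup.mem_normalizer_iff.1 (hGQ g.2) k).1 hk
  let cj : G →* MulAut K :=
    { toFun := fun g =>
        { toFun := fun k => ⟨(g : X) * k * (g : X)⁻¹, hK' g k k.2⟩
          invFun := fun k => ⟨(g : X)⁻¹ * k * (g : X), by simpa using hK' g⁻¹ k k.2⟩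
          left_inv := fun k => Subtype.ext (by simp [mul_assoc])
          right_inv := fun k => Subtype.ext (by simp [mul_assoc])
          map_mul' := fun a b => Subtype.ext (by simp [mul_assoc]) }
      map_one' := MulEquiv.ext fun k => Subtype.ext (by simp)
      map_mul' := fun a b => MulEquiv.ext fun k => Subtype.ext (by simp [mul_assoc]) }
  have hmapQ : ∀ g, (Q.subgroupOf K).map (cj g).toMonoidHom = Q.subgroupOf K := fun g =>
    Subgroup.eq_of_le_of_card_ge (by
      rintro _ ⟨k, hk, rfl⟩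
      exact Subgroup.mem_subgroupOf.2 (hQ' g k (Subgroup.mem_subgroupOf.1 hk)))
      (le_of_eq (Subgroup.card_map_of_injective (cj g).injective).symm)
  let φ : G →* MulAut (K ⧸ Q.subgroupOf K) :=
    { toFun := fun g => QuotientGroup.congr _ _ (cj g) (hmapQ g)
      map_one' := MulEquiv.ext fun x => by
        induction x using QuotientGroup.induction_on with | _ k =>
        simp [map_one]
      map_mul' := fun a b => MulEquiv.ext fun x => by
        induction x using QuotientGroup.induction_on with | _ k =>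
        simp [map_mul]; rfl }
  have hφ : ∀ g k, φ g (π k) = π (cj g k) := fun g k => rfl
  haveI : (U.subgroupOf G).Normal := Subgroup.normal_subgroupOf_of_le_normalizer hUn
  have himg0 : ∀ S : Subgroup X, S ≤ G → ∀ v, v ∈ ((Subgroup.centralizer (S : Set X)).subgroupOf K).map π ↔ ∀ s ∈ S.subgroupOf G, φ s v = v := by
    intro S hSG
    have hdisj : S ⊓ K = ⊥ := by
      refine Subgroup.inf_eq_bot_of_coprime ?_
      exact (hcop.coprime_dvd_right (Subgroup.card_dvd_of_le hSG)).symm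
    let C := (Subgroup.centralizer (S : Set X)).subgroupOf K
    intro v
    constructor
    · rintro ⟨k, hk, rfl⟩ s hs
      rw [hφ]
      congr 1
      refine Subtype.ext (mul_inv_eq_iff_eq_mul.2 ?_)
      exact Subgroup.mem_centralizer_iff.1 (Subgroup.mem_subgroupOf.1 hk) s hs
    · intro h
      obtain ⟨k, rfl⟩ := QuotientGroup.mk'_surjective _ v
      obtain ⟨d, hd, hkd⟩ := CfsgLib.Solv.exists_centralizing_in_coset (hSG.trans hGK) hdisj hQK.le (hSG.trans hGQ)
        ((hcQ.coprime_dvd_right (Subgroup.card_dvd_of_le hSG)).symm) (Or.inr hQs) k.2 (fun a ha => by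
          have h1 := h ⟨a, hSG ha⟩ ha
          rw [hφ] at h1
          have h2 := QuotientGroup.eq.1 h1.symm
          rw [Subgroup.mem_subgroupOf] at h2
          change (k : X)⁻¹ * (a * k * a⁻¹) ∈ Q at h2
          simpa only [mul_assoc] using h2)
      refine ⟨⟨(k : X) * d, mul_mem k.2 (hQK.le hd)⟩, hkd, ?_⟩
      refine (QuotientGroup.eq.2 ?_).symm
      rw [Subgroup.mem_subgroupOf]
      simpa using hd
  have hsplit : ∀ S : Subgroup X, S ≤ G → Nat.card ↥(K ⊓ Subgroup.centralizer (S : Set X)) =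
      Nat.card {v : K ⧸ Q.subgroupOf K // ∀ s ∈ S.subgroupOf G, φ s v = v} * Nat.card ↥(Q ⊓ Subgroup.centralizer (S : Set X)) := by
    intro S hSG
    let C := (Subgroup.centralizer (S : Set X)).subgroupOf K
    have hC1 : Nat.card C = Nat.card ↥(K ⊓ Subgroup.centralizer (S : Set X)) := by
      rw [← Subgroup.card_map_of_injective (f := K.subtype) (K := C) K.subtype_injective, Subgroup.subgroupOf_map_subtype, inf_comm]
    have himg := himg0 S hSG
    have h1 := Subgroup.card_eq_card_quotient_mul_card_subgroup (π.subgroupMap C).ker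
    rw [Nat.card_congr (QuotientGroup.quotientKerEquivOfSurjective _ (π.subgroupMap_surjective C)).toEquiv] at h1
    rw [← hC1, h1]
    congr 1
    · exact Nat.card_congr (Equiv.subtypeEquivRight himg)
    · refine Nat.card_congr
        { toFun := fun c => ⟨((c : C) : K), Subgroup.mem_subgroupOf.1 ((QuotientGroup.eq_one_iff _).1 (congrArg Subtype.val c.2)),
            Subgroup.mem_subgroupOf.1 c.1.2⟩
          invFun := fun c => ⟨⟨⟨c, hQK.le c.2.1⟩, Subgroup.mem_subgroupOf.2 c.2.2⟩,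
            Subtype.ext ((QuotientGroup.eq_one_iff _).2 (Subgroup.mem_subgroupOf.2 c.2.1))⟩
          left_inv := fun c => rfl
          right_inv := fun c => rfl }
  have hVG : (Nat.card (K ⧸ Q.subgroupOf K)).Coprime (Nat.card G) :=
    hcop.coprime_dvd_left (Subgroup.card_quotient_dvd_card _)
  have key := irreducible_formula φ (U.subgroupOf G) (E.subgroupOf G)
    (by rw [← Subgroup.subgroupOf_sup hUG hEG, hsup, Subgroup.subgroupOf_self])
    (fun h => hE1 (eq_bot_iff.2 fun e he => by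
      have := Subgroup.mem_bot.1 (h ▸ (Subgroup.mem_subgroupOf.2 he : (⟨e, hEG he⟩ : G) ∈ E.subgroupOf G))
      exact Subgroup.mem_bot.2 (congrArg Subtype.val this)))
    (fun e he he1 u hu h => Subtype.ext (hfpf e he (fun h1 => he1 (Subtype.ext h1)) u hu (congrArg Subtype.val h)))
    (fun W hW => by
      let L := (W.comap π).map K.subtype
      have hQL : Q ≤ L := fun q hq => ⟨⟨q, hQK.le hq⟩, by
        rw [SetLike.mem_coe, Subgroup.mem_comap, show π ⟨q, hQK.le hq⟩ = 1 from (QuotientGroup.eq_one_iff _).2 (Subgroup.mem_subgroupOf.2 hq)]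
        exact one_mem W, rfl⟩
      have hGL : G ≤ Subgroup.normalizer (L : Set X) := by
        refine CfsgLib.Solv.le_normalizer_iff_forall_conj_mem.2 fun g hg => ?_
        rintro _ ⟨k, hk, rfl⟩
        exact ⟨cj ⟨g, hg⟩ k, hW ⟨g, hg⟩ (π k) hk, rfl⟩
      by_cases hLK : L = K
      · right
        refine Subgroup.eq_top_iff' W |>.2 fun v => ?_
        obtain ⟨k, rfl⟩ := QuotientGroup.mk'_surjective _ v
        obtain ⟨k', hk', hke⟩ := (hLK.symm ▸ k.2 : (k : X) ∈ L)
        exact (Subtype.ext hke : k' = k) ▸ hk'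
      · left
        have hle : L ≤ Q := hQmax.2 ⟨hdQ.trans hQL, lt_of_le_of_ne (Subgroup.map_subtype_le _) hLK, hGL⟩ hQL
        refine eq_bot_iff.2 fun v hv => ?_
        obtain ⟨k, rfl⟩ := QuotientGroup.mk'_surjective _ v
        exact Subgroup.mem_bot.2 ((QuotientGroup.eq_one_iff _).2 (Subgroup.mem_subgroupOf.2 (hle ⟨k, hv, rfl⟩))))
    hVG
  have hcE : Nat.card (E.subgroupOf G) = Nat.card E := Nat.card_congr (Subgroup.subgroupOfEquivOfLe hEG).toEquiv
  obtain ⟨key, keyc⟩ := key
  rw [hcE] at key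
  have himgE : ∀ Cc, Cc = (Subgroup.centralizer (E : Set X)).subgroupOf K →
      ∀ v, v ∈ Cc.map π ↔ ∀ s ∈ E.subgroupOf G, φ s v = v := fun _ h => h ▸ himg0 E hEG
  have hK : Nat.card K = Nat.card (K ⧸ Q.subgroupOf K) * Nat.card Q := by
    rw [Subgroup.card_eq_card_quotient_mul_card_subgroup (Q.subgroupOf K), Nat.card_congr (Subgroup.subgroupOfEquivOfLe hQK.le).toEquiv]
  have hsplit0 := hsplit
  rw [hsplit G le_rfl, hsplit E hEG, hsplit U hUG, hK,
    Nat.card_congr (Equiv.subtypeEquivRight (p := fun v => ∀ s ∈ G.subgroupOf G, φ s v = v) (q := fun v => ∀ g, φ g v = v)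
      (fun v => ⟨fun h g => h g g.2, fun h g _ => h g⟩)), mul_pow, mul_pow]
  refine ⟨?_, fun hcyc => ?_⟩
  swap
  · haveI := hcyc
    have hQc : ⁅U, U⁆ ≤ Subgroup.centralizer (Q : Set X) := hIH.2
      (isCyclic_of_injective (Subgroup.inclusion (inf_le_inf_right _ hQK.le)) (Subgroup.inclusion_injective _))
    have hcomm := keyc fun p hp hpp => by
      let Cc := (Subgroup.centralizer (E : Set X)).subgroupOf K
      have hle' : Cc.map K.subtype ≤ K ⊓ Subgroup.centralizer (E : Set X) := by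
        rintro _ ⟨k, hk, rfl⟩; exact ⟨k.2, Subgroup.mem_subgroupOf.1 hk⟩
      haveI : IsCyclic Cc := isCyclic_of_injective (((Subgroup.inclusion hle').comp
        (Cc.equivMapOfInjective K.subtype K.subtype_injective).toMonoidHom))
        ((Subgroup.inclusion_injective hle').comp (MulEquiv.injective _))
      haveI : IsCyclic (Cc.map π) := isCyclic_of_surjective _ (π.subgroupMap_surjective Cc)
      rw [← Nat.card_congr (Equiv.subtypeEquivRight (himgE Cc rfl))]
      refine Nat.le_of_dvd hp.pos ?_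
      rw [← IsCyclic.exponent_eq_card]
      exact Monoid.exponent_dvd_of_forall_pow_eq_one fun v => Subtype.ext (hpp v)
    have hker : ⁅U, U⁆ ≤ (φ.ker).map G.subtype := Subgroup.commutator_le.2 fun a ha b hb => by
      refine ⟨⁅(⟨a, hUG ha⟩ : G), ⟨b, hUG hb⟩⁆, ?_, by simp [commutatorElement_def]⟩
      rw [SetLike.mem_coe, MonoidHom.mem_ker, map_commutatorElement]
      exact commutatorElement_eq_one_iff_mul_comm.2 (hcomm ⟨a, hUG ha⟩ ha ⟨b, hUG hb⟩ hb)
    have hDG : ⁅U, U⁆ ≤ G := (Subgroup.commutator_le_self U).trans hUG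
    have e := hsplit0 _ hDG
    rw [Nat.card_congr (Equiv.subtypeUnivEquiv fun v s hs => by
        obtain ⟨g, hg, hge⟩ := hker (Subgroup.mem_subgroupOf.1 hs)
        rw [← (Subtype.ext hge : g = s), MonoidHom.mem_ker.1 hg]; rfl),
      inf_eq_left.2 (Subgroup.le_centralizer_iff.1 hQc), ← hK] at e
    exact Subgroup.le_centralizer_iff.1 (Subgroup.eq_of_le_of_card_ge inf_le_left e.ge ▸ inf_le_right)
  calc _ = (Nat.card {v // ∀ g, φ g v = v} ^ Nat.card E * Nat.card (K ⧸ Q.subgroupOf K)) *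
        (Nat.card ↥(Q ⊓ Subgroup.centralizer (G : Set X)) ^ Nat.card E * Nat.card Q) := by ring
    _ = _ := by rw [key, hIH.1]; ring

end Cfsg.Agent.S1446

namespace Cfsg.Agent.S1446

/-- Let X be a finite group with subgroups K, R, M such that: K and R are nontrivial, K ∩ R = 1, R normalizes K, no non-identity element of R centralizes a non-identity element of K, K ⊔ R is solvable of odd order; M is nilpotent and nontrivial, normalized by K and by R, with order coprime to that of K ⊔ R, M ∩ C(K) = 1, and M ∩ C(x) = M ∩ C(R) for all non-identity x ∈ R. Then R has prime order p, #M = #(M ∩ C(R)) ^ p, and if M ∩ C(R) is cyclic then [K, K] centralizes M. -/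
theorem result {X : Type*} [Group X] [Finite X] (K R M : Subgroup X) (hK1 : K ≠ ⊥) (hR1 : R ≠ ⊥) (hKR : K ⊓ R = ⊥)
    (hRK : R ≤ Subgroup.normalizer (K : Set X)) (hfrob : ∀ r ∈ R, r ≠ 1 → K ⊓ Subgroup.centralizer ({r} : Set X) = ⊥)
    (hsolv : Group.IsSolvable ↥(K ⊔ R)) (hodd : Odd (Nat.card ↥(K ⊔ R)))
    (hM1 : M ≠ ⊥) (hMn : Group.IsNilpotent M) (hKM : K ≤ Subgroup.normalizer (M : Set X)) (hRM : R ≤ Subgroup.normalizer (M : Set X))
    (hcop : (Nat.card ↥(K ⊔ R)).Coprime (Nat.card M)) (hCK : M ⊓ Subgroup.centralizer (K : Set X) = ⊥)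
    (hpr : ∀ x ∈ R, x ≠ 1 → M ⊓ Subgroup.centralizer ({x} : Set X) = M ⊓ Subgroup.centralizer (R : Set X)) :
    (Nat.card R).Prime ∧ Nat.card M = Nat.card ↥(M ⊓ Subgroup.centralizer (R : Set X)) ^ Nat.card R ∧
      (IsCyclic ↥(M ⊓ Subgroup.centralizer (R : Set X)) → ⁅K, K⁆ ≤ Subgroup.centralizer (M : Set X)) := by
  classical
  have hs' : Group.IsSolvable M := haveI := hMn; inferInstance
  have hsub : ∀ R₀ : Subgroup X, R₀ ≤ R → R₀ ≠ ⊥ → Nat.card M = Nat.card ↥(M ⊓ Subgroup.centralizer (R₀ : Set X)) ^ Nat.card R₀ ∧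
      (IsCyclic ↥(M ⊓ Subgroup.centralizer (R₀ : Set X)) → ⁅K, K⁆ ≤ Subgroup.centralizer (M : Set X)) := by
    intro R₀ hle hne
    obtain ⟨h1, h2⟩ := chief_induction (K ⊔ R₀) K R₀ le_sup_left le_sup_right rfl
      (sup_le Subgroup.le_normalizer (hle.trans hRK)) hne
      (fun e he he1 u hu h => Subgroup.mem_bot.1 ((hfrob e (hle he) he1) ▸ (Subgroup.mem_inf.2 ⟨hu, Subgroup.mem_centralizer_singleton_iff.2 h.symm⟩ :
        u ∈ K ⊓ Subgroup.centralizer ({e} : Set X))))
      _ M rfl (sup_le hKM (hle.trans hRM)) hs'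
      ((hcop.coprime_dvd_left (Subgroup.card_dvd_of_le (sup_le_sup_left hle K))).symm)
    have hbot : M ⊓ Subgroup.centralizer ((K ⊔ R₀ : Subgroup X) : Set X) = ⊥ :=
      eq_bot_iff.2 (hCK ▸ inf_le_inf_left M (Subgroup.centralizer_le (SetLike.coe_subset_coe.2 le_sup_left)))
    rw [hbot, hCK, Subgroup.card_bot, one_pow, one_mul, mul_one] at h1
    exact ⟨h1, h2⟩
  obtain ⟨hcard, hcyc⟩ := hsub R le_rfl hR1
  refine ⟨?_, hcard, hcyc⟩
  have hc2 : 2 ≤ Nat.card ↥(M ⊓ Subgroup.centralizer (R : Set X)) := by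
    by_contra h
    have h0 : 0 < Nat.card ↥(M ⊓ Subgroup.centralizer (R : Set X)) := Nat.card_pos
    rw [show Nat.card ↥(M ⊓ Subgroup.centralizer (R : Set X)) = 1 by omega, one_pow] at hcard
    exact hM1 (Subgroup.eq_bot_of_card_eq _ hcard)
  obtain ⟨p, hp, hpR⟩ := Nat.exists_prime_and_dvd (show Nat.card R ≠ 1 from fun h => hR1 (Subgroup.eq_bot_of_card_eq _ h))
  haveI := Fact.mk hp
  obtain ⟨x, hx⟩ := exists_prime_orderOf_dvd_card' (G := R) p hpR
  have hx1 : (x : X) ≠ 1 := fun h => hp.ne_one (by rw [← hx, ← Subgroup.orderOf_coe, h, orderOf_one])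
  obtain ⟨he, -⟩ := hsub (Subgroup.zpowers (x : X)) (Subgroup.zpowers_le.2 x.2) (fun h => hx1 (Subgroup.zpowers_eq_bot.1 h))
  rw [Subgroup.zpowers_eq_closure, Subgroup.centralizer_closure, hpr x x.2 hx1, ← Subgroup.zpowers_eq_closure,
    Nat.card_zpowers, Subgroup.orderOf_coe, hx] at he
  rwa [← Nat.pow_right_injective hc2 (he.symm.trans hcard)]

end Cfsg.Agent.S1446
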