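import Cfsg.Statements.S1449
import Cfsg.Agent.OddLocal.RankTwoGroup

set_option autoImplicit false
open Cfsg

namespace Cfsg.Agent.S1449

/-- Let G be a finite group, p an odd prime, R a p-subgroup with no elementary abelian subgroup of order p ^ 3, and A a solvable subgroup of odd order normalizing R with A ∩ C_G(R) = 1. Then the derived subgroup [A, A] is a p-group. -/
theorem result {G : Type*} [Group G] [Finite G] (p : ℕ) [Fact p.Prime] (hp : p ≠ 2) (R A : Subgroup G) (hR : IsPGroup p R) (hr : Cfsg.PRankLE p 2 R)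
    (hA : (A ≤ Subgroup.normalizer (R : Set G))) (hAs : Group.IsSolvable A) (hAodd : Odd (Nat.card A)) (hfaith : A ⊓ Subgroup.centralizer (R : Set G) = ⊥) :
    IsPGroup p ↥⁅A, A⁆ := by
  have hker : ∀ a : A, ((Subgroup.normalizerMonoidHom R).comp (Subgroup.inclusion hA)) a = 1 → a = 1 := by
    intro a ha
    have h1 : Subgroup.inclusion hA a ∈ (Subgroup.normalizerMonoidHom R).ker := ha
    rw [Subgroup.normalizerMonoidHom_ker] at h1
    have h2 : (a : G) ∈ A ⊓ Subgroup.centralizer (R : Set G) := ⟨a.2, h1⟩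
    rw [hfaith] at h2
    exact Subtype.ext (Subgroup.mem_bot.1 h2)
  have hcl : ⁅A, A⁆ = (commutator A).map A.subtype := (Subgroup.map_subtype_commutator A).symm
  intro x
  obtain ⟨y, hy, hxy⟩ : (x : G) ∈ (commutator A).map A.subtype := hcl ▸ x.2
  obtain ⟨n, hn⟩ := CfsgLib.OddLocal.commutator_ppow hp hR hr hAodd hAs
    ((Subgroup.normalizerMonoidHom R).comp (Subgroup.inclusion hA)) hy
  have h1 : y ^ p ^ n = 1 := hker _ (by rw [map_pow]; exact hn)
  refine ⟨n, Subtype.ext ?_⟩
  rw [Subgroup.coe_pow, ← hxy, ← map_pow, h1]; rfl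

end Cfsg.Agent.S1449
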