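import Cfsg.Statements.S1456
import Cfsg.Agent.S1451
import Cfsg.Agent.OddLocal.NarrowAct

set_option autoImplicit false
open Cfsg

namespace Cfsg.Agent.S1456

/-- Let G be a solvable group of odd order, p a prime, and E an elementary abelian p-subgroup of the Fitting subgroup F(G) such that F(G) ∩ C_G(E) has no elementary abelian subgroup of order q ^ 3 for any prime q. Then the derived subgroup of G is contained in F(G). -/
theorem result {G : Type*} [Group G] [Finite G] [Group.IsSolvable G] (hodd : Odd (Nat.card G)) (p : ℕ) [Fact p.Prime] (E : Subgroup G) (hE : E ≤ Cfsg.fittingSubgroup G) (hEe : Cfsg.IsElementaryAbelian p E)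
    (hr : Cfsg.RankLE 2 ↥(Cfsg.fittingSubgroup G ⊓ Subgroup.centralizer (E : Set G))) :
    commutator G ≤ Cfsg.fittingSubgroup G := by
  haveI hFn := CfsgLib.Solv.fittingSubgroup_normal G
  have hp := (Fact.out : p.Prime)
  haveI : ∀ r : Nat.Primes, Fact (r : ℕ).Prime := fun r => ⟨r.2⟩
  have hA : ∀ r : Nat.Primes, ∀ y ∈ commutator G, (orderOf y).Coprime r →
      y ∈ Subgroup.centralizer (pCore (r : ℕ) G : Set G) := by
    intro r y hy hyr
    haveI hRn := CfsgLib.Solv.pCore_normal G (r : ℕ)
    by_cases hr2 : (r : ℕ) = 2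
    · rw [Subgroup.mem_centralizer_iff]
      intro a ha
      obtain ⟨k, hk⟩ := CfsgLib.Solv.pCore_isPGroup G (r : ℕ) ⟨a, ha⟩
      have ha1 : a = 1 := by
        refine orderOf_eq_one_iff.1 (Nat.eq_one_of_dvd_coprimes ?_ (orderOf_dvd_natCard a)
          (orderOf_dvd_of_pow_eq_one (congrArg Subtype.val hk)))
        rw [hr2]
        exact Nat.Coprime.pow_right _ (Nat.coprime_two_right.2 hodd)
      simp [ha1]
    set R := pCore (r : ℕ) G
    have hRp : IsPGroup (r : ℕ) R := CfsgLib.Solv.pCore_isPGroup G (r : ℕ)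
    have hRF : R ≤ fittingSubgroup G := CfsgLib.Solv.pCore_le_fittingSubgroup
    -- an elementary abelian subgroup of `R` acting as `E` does
    obtain ⟨E', hE', hE'C⟩ : ∃ E' : Subgroup R, IsElementaryAbelian (r : ℕ) E' ∧
        ∀ u : R, u ∈ Subgroup.centralizer (E' : Set R) →
          (u : G) ∈ Subgroup.centralizer (E : Set G) := by
      by_cases hrp : (r : ℕ) = p
      · have hER : E ≤ R := by
          intro e he
          refine S1451.mem_pCore (hE he) (j := 1) ?_
          rw [pow_one, hrp]; exact hEe.2 e he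
        refine ⟨E.subgroupOf R, ⟨⟨⟨?_⟩⟩, ?_⟩, fun u hu => ?_⟩
        · rintro ⟨x, hx⟩ ⟨z, hz⟩
          exact Subtype.ext (Subtype.ext (congrArg (fun w : E => (w : G))
            (hEe.1.is_comm.comm ⟨_, hx⟩ ⟨_, hz⟩)))
        · intro x hx
          exact Subtype.ext (by rw [Subgroup.coe_pow, hrp]; exact hEe.2 _ hx)
        · exact Subgroup.mem_centralizer_iff.2 fun e he =>
            congrArg Subtype.val (Subgroup.mem_centralizer_iff.1 hu ⟨e, hER he⟩ he)
      · refine ⟨⊥, ⟨inferInstance, fun x hx => ?_⟩, fun u _ => ?_⟩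
        · rw [Subgroup.mem_bot.1 hx, one_pow]
        · refine Subgroup.mem_centralizer_iff.2 fun e he => ?_
          haveI := CfsgLib.Solv.pCore_normal G p
          have heP : e ∈ pCore p G := S1451.mem_pCore (hE he) (j := 1) (by
            rw [pow_one]; exact hEe.2 e he)
          refine (Subgroup.commute_of_normal_of_disjoint _ _ (CfsgLib.Solv.pCore_normal G p) hRn ?_
            e u heP u.2).eq
          exact (CfsgLib.Solv.pCore_isPGroup G p).disjoint_of_ne _ _ (Ne.symm hrp) _ _ hRp
    have hCE : PRankLE (r : ℕ) 2 (Subgroup.centralizer (E' : Set R)) := by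
      intro B hB hBp
      have h := hr (r : ℕ) r.2
      let f : Subgroup.centralizer (E' : Set R) →* ↥(fittingSubgroup G ⊓
          Subgroup.centralizer (E : Set G)) :=
        { toFun := fun u => ⟨((u : R) : G), hRF (u : R).2, hE'C _ u.2⟩
          map_one' := rfl
          map_mul' := fun _ _ => rfl }
      have hf : Function.Injective f := fun u v h => by
        exact Subtype.ext (Subtype.ext (congrArg (fun z : ↥(fittingSubgroup G ⊓ Subgroup.centralizer (E : Set G)) => (z : G)) h))
      have hc : IsMulCommutative (B.map f) := ⟨⟨by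
        rintro ⟨_, a, ha, rfl⟩ ⟨_, b, hb, rfl⟩
        exact Subtype.ext (congrArg (fun z : B => f (z : _))
          (hB.is_comm.comm ⟨a, ha⟩ ⟨b, hb⟩))⟩⟩
      have := h (B.map f) hc (by
        rintro _ ⟨a, ha, rfl⟩
        rw [← map_pow, hBp a ha, map_one])
      rwa [Subgroup.card_map_of_injective hf] at this
    exact CfsgLib.OddLocal.conjNormal_eq_one.1
      (CfsgLib.OddLocal.NarrowAct.comm_coprime_eq_one hr2 hRp hE' hCE hodd ‹_›
        (MulAut.conjNormal (H := R)) hy (hyr.coprime_dvd_left (orderOf_map_dvd _ y)))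
  have helem : ∀ q : ℕ, q.Prime → ∀ y ∈ commutator G, ∀ j, y ^ q ^ j = 1 → y ∈ fittingSubgroup G := by
    intro q hq y hy j hj
    haveI := Fact.mk hq
    haveI := S1451.coreJoin_normal (G := G) (· ≠ q)
    haveI := CfsgLib.Solv.pCore_normal G q
    set W := S1451.coreJoin G (· ≠ q)
    set D : Subgroup G := commutator G ⊓ Subgroup.centralizer (W : Set G) with hD
    haveI : D.Normal := inferInstance
    have hyD : y ∈ D := by
      refine ⟨hy, Subgroup.mem_centralizer_iff.2 fun w hw => ?_⟩
      have hle : W ≤ Subgroup.centralizer ({y} : Set G) := iSup_le fun r x hx => by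
        rw [Subgroup.mem_centralizer_singleton_iff]
        refine ((Subgroup.mem_centralizer_iff.1 (hA r y hy ?_)) x hx)
        exact ((Nat.Coprime.pow_left j ((Nat.coprime_primes hq (r : Nat.Primes).2).2 (Ne.symm r.2)))).coprime_dvd_left
          (orderOf_dvd_of_pow_eq_one hj)
      exact (Subgroup.mem_centralizer_singleton_iff.1 (hle hw))
    refine CfsgLib.Solv.le_fittingSubgroup (N := D) ?_ hyD
    haveI : Group.IsNilpotent (D ⧸ Subgroup.center D) := by
      refine IsPGroup.isNilpotent (p := q) fun d => ?_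
      induction d using QuotientGroup.induction_on with
      | _ d =>
        suffices h : ∃ n, d ^ q ^ n ∈ Subgroup.center D by
          obtain ⟨n, hn⟩ := h
          exact ⟨n, by rw [← QuotientGroup.mk_pow]; exact (QuotientGroup.eq_one_iff _).2 hn⟩
        have hd : (d : G) ∈ commutator G := d.2.1
        obtain ⟨n, m, hm, e⟩ := Nat.exists_eq_pow_mul_and_not_dvd
          (orderOf_pos (d : G)).ne' q hq.ne_one
        have hn : (d : G) ^ q ^ n ∈ Subgroup.centralizer (pCore q G : Set G) := by
          refine hA ⟨q, hq⟩ _ (pow_mem hd _) ?_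
          refine ((hq.coprime_iff_not_dvd.2 hm).symm).coprime_dvd_left (orderOf_dvd_of_pow_eq_one ?_)
          rw [← pow_mul, ← e, pow_orderOf_eq_one]
        have hzF : (d : G) ^ q ^ n ∈ fittingSubgroup G := by
          refine CfsgLib.Solv.centralizer_fittingSubgroup_le (Subgroup.mem_centralizer_iff.2 fun w hw => ?_)
          have hle : pCore q G ⊔ W ≤ Subgroup.centralizer ({(d : G) ^ q ^ n} : Set G) := by
            refine sup_le ?_ ?_ <;> intro x hx <;> rw [Subgroup.mem_centralizer_singleton_iff]
            · exact Subgroup.mem_centralizer_iff.1 hn x hx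
            · exact Subgroup.mem_centralizer_iff.1 (pow_mem d.2.2 (q ^ n)) x hx
          exact (Subgroup.mem_centralizer_singleton_iff.1 (hle (S1451.fitting_le_sup q hw)))
        obtain ⟨k, m, hm, e⟩ := Nat.exists_eq_pow_mul_and_not_dvd
          (orderOf_pos ((d : G) ^ q ^ n)).ne' q hq.ne_one
        refine ⟨n + k, Subgroup.mem_center_iff.2 fun c => Subtype.ext ?_⟩
        have hco : (orderOf (((d : G) ^ q ^ n) ^ q ^ k)).Coprime q := by
          refine ((hq.coprime_iff_not_dvd.2 hm).symm).coprime_dvd_left (orderOf_dvd_of_pow_eq_one ?_)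
          rw [← pow_mul _ (q ^ k) m, ← e, pow_orderOf_eq_one]
        have hw := S1451.mem_coreJoin (pow_mem hzF (q ^ k)) hco
        have := Subgroup.mem_centralizer_iff.1 c.2.2 _ hw
        push_cast
        rw [pow_add, pow_mul]
        exact this.symm
    exact Subgroup.isNilpotent_of_ker_le_center (QuotientGroup.mk' (Subgroup.center D))
      (QuotientGroup.ker_mk' _).le
  have hle : commutator G ≤ fittingSubgroup G := by
    have e : (fittingSubgroup G).subgroupOf (commutator G) = ⊤ := by
      refine Subgroup.eq_top_of_card_eq _ (Nat.dvd_antisymm (Subgroup.card_subgroup_dvd_card _) ?_)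
      refine Nat.dvd_iff_prime_pow_dvd_dvd _ _ |>.2 fun q k hq hk => ?_
      haveI := Fact.mk hq
      obtain ⟨P⟩ : Nonempty (Sylow q (commutator G)) := inferInstance
      refine (?_ : q ^ k ∣ Nat.card (P : Subgroup (commutator G))).trans (Subgroup.card_dvd_of_le ?_)
      · rw [P.card_eq_multiplicity]
        exact pow_dvd_pow q ((hq.pow_dvd_iff_le_factorization Nat.card_pos.ne').1 hk)
      · intro y hy
        obtain ⟨j, hj⟩ := P.isPGroup' ⟨y, hy⟩
        exact Subgroup.mem_subgroupOf.2 (helem q hq y y.2 j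
          (congrArg (fun z : (P : Subgroup (commutator G)) => ((z : commutator G) : G)) hj))
    exact Subgroup.subgroupOf_eq_top.1 e
  exact hle

end Cfsg.Agent.S1456
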