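import Cfsg.Statements.S1459
import Cfsg.Agent.Solv.CoprimeAction
import Cfsg.Agent.Solv.TransferTools
import Cfsg.Agent.Solv.Generation
import Cfsg.Agent.Solv.PComplement

set_option autoImplicit false
open Cfsg

namespace Cfsg.Agent.S1459

open Subgroup CfsgLib.Solv in
open scoped commutatorElement in
theorem part_one {G : Type*} [Group G] [Finite G] [Group.IsSolvable G] (H K : Subgroup G)
    (hHn : H.Normal) (hcop : (Nat.card H).Coprime H.index) (hc : IsComplement' H K)
    (hle : H ≤ commutator G) :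
    H = ⁅H, K⁆ ∧ H ⊓ centralizer (K : Set G) ≤ ⁅H, H⁆ := by
  haveI := hHn
  have hKH : K ≤ normalizer (H : Set G) := by rw [normalizer_eq_top]; exact le_top
  have hN : ⁅H, K⁆ ≤ H := commutator_le_of_le_normalizer hKH
  haveI : (⁅H, K⁆ : Subgroup G).Normal := normalizer_eq_top_iff.1 (by
    rw [eq_top_iff, ← hc.sup_eq_top]
    exact sup_le (left_le_normalizer_commutator H K) (right_le_normalizer_commutator H K))
  set M := ⁅H, K⁆ ⊔ ⁅H, H⁆ with hM
  set f := QuotientGroup.mk' M
  have hMH : M ≤ H := sup_le hN (commutator_le_left H H)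
  have hone : ∀ x ∈ M, f x = 1 := fun x hx => (QuotientGroup.eq_one_iff x).2 hx
  have hgen : ∀ g : G, ∃ h ∈ H, ∃ k ∈ K, g = h * k := fun g => by
    have : g ∈ ((H ⊔ K : Subgroup G) : Set G) := by rw [hc.sup_eq_top]; trivial
    rw [normal_mul] at this
    obtain ⟨h, hh, k, hk, rfl⟩ := this
    exact ⟨h, hh, k, hk, rfl⟩
  have hcen : ∀ h ∈ H, ∀ g, Commute (f h) (f g) := by
    intro h hh g
    obtain ⟨h', hh', k, hk, rfl⟩ := hgen g
    rw [map_mul]
    refine Commute.mul_right (commutatorElement_eq_one_iff_mul_comm.1 ?_)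
      (commutatorElement_eq_one_iff_mul_comm.1 ?_)
    · rw [← map_commutatorElement]
      exact hone _ (mem_sup_right (commutator_mem_commutator hh hh'))
    · rw [← map_commutatorElement]
      exact hone _ (mem_sup_left (commutator_mem_commutator hh hk))
  have hder : commutator G ≤ (K.map f).comap f := by
    rw [_root_.commutator_def, commutator_le]
    intro a _ b _
    obtain ⟨h, hh, k, hk, rfl⟩ := hgen a
    obtain ⟨h', hh', k', hk', rfl⟩ := hgen b
    refine mem_comap.2 ?_
    have c1 := hcen h hh k'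
    have c2 := hcen h hh h'
    have c3 := hcen h' hh' k
    rw [map_commutatorElement, map_mul, map_mul]
    have hx : ∀ u v : G ⧸ M, Commute (f h) (u * v * u⁻¹ * v⁻¹) := fun u v => by
      obtain ⟨w, hw⟩ := QuotientGroup.mk'_surjective M (u * v * u⁻¹ * v⁻¹)
      rw [← hw]; exact hcen h hh w
    have hy : ∀ u v : G ⧸ M, Commute (f h') (u * v * u⁻¹ * v⁻¹) := fun u v => by
      obtain ⟨w, hw⟩ := QuotientGroup.mk'_surjective M (u * v * u⁻¹ * v⁻¹)
      rw [← hw]; exact hcen h' hh' w
    have e : ⁅f h * f k, f h' * f k'⁆ = ⁅f k, f k'⁆ := by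
      generalize f h = x at c1 c2 hx ⊢
      generalize f k = u at c3 ⊢
      generalize f h' = y at c2 c3 hy ⊢
      generalize f k' = v at c1 ⊢
      simp only [commutatorElement_def]
      calc x * u * (y * v) * (x * u)⁻¹ * (y * v)⁻¹
          = x * (u * y) * v * u⁻¹ * x⁻¹ * v⁻¹ * y⁻¹ := by group
        _ = x * y * u * v * u⁻¹ * (x⁻¹ * v⁻¹) * y⁻¹ := by rw [← c3.eq]; group
        _ = x * y * (u * v * u⁻¹ * v⁻¹) * x⁻¹ * y⁻¹ := by rw [c1.inv_inv.eq]; group
        _ = x * y * (u * v * u⁻¹ * v⁻¹) * (y * x)⁻¹ * (y * y⁻¹) := by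
            rw [mul_inv_cancel, mul_one, mul_inv_rev, mul_assoc]
        _ = x * y * (u * v * u⁻¹ * v⁻¹) * (x * y)⁻¹ := by rw [mul_inv_cancel, mul_one, c2.eq]
        _ = _ := by
            have hw : Commute (x * y) (u * v * u⁻¹ * v⁻¹) := by
              exact (hx u v).mul_left (hy u v)
            rw [hw.eq]; group
    rw [e, ← map_commutatorElement]
    exact mem_map_of_mem f (mul_mem (mul_mem (mul_mem hk hk') (inv_mem hk)) (inv_mem hk'))
  have hHM : H ≤ M := fun h hh => by
    obtain ⟨k, hk, hkh⟩ := mem_map.1 (mem_comap.1 (hder (hle hh)))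
    have hm : k⁻¹ * h ∈ M := QuotientGroup.eq.1 hkh
    have hkH : k ∈ H := by
      have := mul_mem hh (inv_mem (hMH hm))
      simpa using this
    have : k ∈ H ⊓ K := ⟨hkH, hk⟩
    rw [hc.disjoint.eq_bot, mem_bot] at this
    rwa [this, inv_one, one_mul] at hm
  have hHeq : H = ⁅H, K⁆ := by
    refine le_antisymm ?_ hN
    haveI : Group.IsSolvable H := inferInstance
    set N' := (⁅H, K⁆ : Subgroup G).subgroupOf H with hN'
    by_contra hne
    haveI : Nontrivial (H ⧸ N') := by
      refine QuotientGroup.nontrivial_iff.2 fun e => hne fun x hx => ?_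
      exact (mem_subgroupOf.1 (e ▸ mem_top (⟨x, hx⟩ : H) : _) :)
    refine ne_of_lt (Group.IsSolvable.commutator_lt_top_of_nontrivial (G := H ⧸ N')) (eq_top_iff.2 ?_)
    intro q _
    obtain ⟨⟨x, hx⟩, rfl⟩ := QuotientGroup.mk_surjective q
    have hxm : x ∈ ((⁅H, K⁆ ⊔ ⁅H, H⁆ : Subgroup G) : Set G) := hHM hx
    rw [normal_mul] at hxm
    obtain ⟨a, ha, b, hb, hab⟩ := hxm
    have hbH : b ∈ H := commutator_le_left H H hb
    have e : ((⟨x, hx⟩ : H) : H ⧸ N') = ((⟨b, hbH⟩ : H) : H ⧸ N') := by
      have : (⟨x, hx⟩ : H) = ⟨a, hN ha⟩ * ⟨b, hbH⟩ := Subtype.ext hab.symm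
      rw [this, QuotientGroup.mk_mul, (QuotientGroup.eq_one_iff _).2 (mem_subgroupOf.2 ha), one_mul]
    rw [e]
    have hb' : (⟨b, hbH⟩ : H) ∈ commutator H := by
      have : b ∈ (commutator H).map H.subtype := by rwa [map_subtype_commutator]
      obtain ⟨y, hy, hyb⟩ := this
      rwa [show (⟨b, hbH⟩ : H) = y from Subtype.ext hyb.symm]
    have := mem_map_of_mem (QuotientGroup.mk' N') hb'
    rw [_root_.commutator_def, map_commutator, map_top_of_surjective _ (QuotientGroup.mk'_surjective N'),
      ← _root_.commutator_def] at this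
    exact this
  refine ⟨hHeq, ?_⟩
  haveI : (⁅H, H⁆ : Subgroup G).Normal := commutator_normal H H
  set g := QuotientGroup.mk' (⁅H, H⁆ : Subgroup G)
  have hVc : IsMulCommutative (H.map g) := ⟨⟨by
    rintro ⟨_, a, ha, rfl⟩ ⟨_, b, hb, rfl⟩
    refine Subtype.ext (commutatorElement_eq_one_iff_mul_comm.1 ?_)
    rw [← map_commutatorElement]
    exact (QuotientGroup.eq_one_iff _).2 (commutator_mem_commutator ha hb)⟩⟩
  have hAV : K.map g ≤ normalizer (H.map g : Set (G ⧸ ⁅H, H⁆)) := by
    haveI : (H.map g).Normal := Normal.map hHn g (QuotientGroup.mk'_surjective _)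
    rw [normalizer_eq_top]; exact le_top
  have hcopA : (Nat.card (K.map g)).Coprime (Nat.card (H.map g)) :=
    ((hc.symm.index_eq_card ▸ hcop).symm.of_dvd_left (card_map_dvd _ _)).of_dvd_right (card_map_dvd _ _)
  intro x hx
  have hbot := abelian_fixed_inf_commutator hVc hAV hcopA
  rw [← map_commutator, ← hHeq] at hbot
  have : g x ∈ (H.map g ⊓ centralizer (K.map g : Set (G ⧸ ⁅H, H⁆))) ⊓ H.map g := by
    refine ⟨⟨mem_map_of_mem g hx.1, ?_⟩, mem_map_of_mem g hx.1⟩
    rintro _ ⟨k, hk, rfl⟩
    rw [← map_mul, ← map_mul, hx.2 k hk]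
  rw [hbot, mem_bot] at this
  exact (QuotientGroup.eq_one_iff x).1 this

open Subgroup in
open scoped commutatorElement in
theorem part_two {G : Type*} [Group G] [Finite G] (hnil : Group.IsNilpotent (commutator G))
    (hpr : (commutator G).index.Prime) :
    (Nat.card (commutator G)).Coprime (commutator G).index := by
  haveI := Fact.mk hpr
  set q := (commutator G).index with hq
  set D := commutator G with hD
  have hh : Cfsg.HasNormalPComplement q D := haveI := hnil; CfsgLib.Solv.hnpc_of_isNilpotent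
  set R := (Cfsg.pResidual q D).map D.subtype with hR
  have hRmem : ∀ x : G, x ∈ R ↔ ∃ h : x ∈ D, Nat.Coprime (orderOf x) q := fun x => by
    rw [hR, mem_map]
    constructor
    · rintro ⟨y, hy, rfl⟩
      exact ⟨y.2, by
        rw [show (D.subtype y : G) = (y : G) from rfl, Subgroup.orderOf_coe]
        exact (CfsgLib.Solv.hnpc_mem_iff hh).1 hy⟩
    · rintro ⟨hx, hco⟩
      exact ⟨⟨x, hx⟩, (CfsgLib.Solv.hnpc_mem_iff hh).2 (by rwa [← Subgroup.orderOf_coe]), rfl⟩
  haveI : R.Normal := ⟨fun x hx g => by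
    rw [hRmem] at hx ⊢
    obtain ⟨hxD, hco⟩ := hx
    refine ⟨Normal.conj_mem inferInstance x hxD g, ?_⟩
    rwa [show g * x * g⁻¹ = MulAut.conj g x from rfl, MulEquiv.orderOf_eq]⟩
  have hRq : ¬ q ∣ Nat.card R := by
    rw [hR, card_map_of_injective D.subtype_injective]
    exact CfsgLib.Solv.hnpc_iff.1 hh
  have hRD : R ≤ D := map_subtype_le _
  obtain ⟨m, hm⟩ := CfsgLib.Solv.exists_index_pResidual (G := D) (p := q)
  have hidx : R.index = q ^ (m + 1) := by
    rw [hR, index_map_subtype, hm, pow_succ]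
  have hQ : IsPGroup q (G ⧸ R) := IsPGroup.of_card (by rw [← index_eq_card]; exact hidx)
  haveI := hQ.isNilpotent
  set f := QuotientGroup.mk' R
  set Db := D.map f with hDb
  haveI : Db.Normal := Normal.map inferInstance f (QuotientGroup.mk'_surjective R)
  have hDbi : Db.index = q := by
    rw [hDb, index_map_eq _ (QuotientGroup.mk'_surjective R) (by rwa [QuotientGroup.ker_mk'])]
  have hDbc : commutator (G ⧸ R) = Db := by
    rw [hDb, hD, _root_.commutator_def, _root_.commutator_def, map_commutator,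
      map_top_of_surjective _ (QuotientGroup.mk'_surjective R)]
  have hstep : Db ≤ ⁅Db, (⊤ : Subgroup (G ⧸ R))⁆ := by
    set E := ⁅Db, (⊤ : Subgroup (G ⧸ R))⁆
    haveI : E.Normal := commutator_normal _ _
    set e := QuotientGroup.mk' E
    let F : (G ⧸ R) ⧸ E →* (G ⧸ R) ⧸ Db :=
      QuotientGroup.map E Db (MonoidHom.id _) (commutator_le_left _ _)
    haveI : IsCyclic ((G ⧸ R) ⧸ Db) := isCyclic_of_prime_card (p := q) (by rw [← index_eq_card]; exact hDbi)
    have hker : F.ker ≤ center ((G ⧸ R) ⧸ E) := by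
      intro a ha
      obtain ⟨a, rfl⟩ := QuotientGroup.mk'_surjective E a
      have haD : a ∈ Db := (QuotientGroup.eq_one_iff a).1 ha
      refine mem_center_iff.2 fun b => ?_
      obtain ⟨b, rfl⟩ := QuotientGroup.mk'_surjective E b
      refine (commutatorElement_eq_one_iff_mul_comm.1 ?_).symm
      rw [← map_commutatorElement]
      exact (QuotientGroup.eq_one_iff _).2 (commutator_mem_commutator haD (mem_top b))
    calc Db = commutator (G ⧸ R) := hDbc.symm
      _ ≤ E := by
        rw [_root_.commutator_def, commutator_le]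
        intro a _ b _
        refine (QuotientGroup.eq_one_iff _).1 ?_
        show e ⁅a, b⁆ = 1
        rw [map_commutatorElement, commutatorElement_eq_one_iff_mul_comm]
        exact commutative_of_cyclic_center_quotient F hker (e a) (e b)
  have hlcs : ∀ n, Db ≤ (⊤ : Subgroup (G ⧸ R)).lowerCentralSeries n := fun n => by
    induction n with
    | zero => exact le_top
    | succ n ih => exact hstep.trans (commutator_mono ih le_rfl)
  obtain ⟨n, hn⟩ := Subgroup.nilpotent_iff_lowerCentralSeries.1 (inferInstance : Group.IsNilpotent (G ⧸ R))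
  have hDR : D = R := by
    refine le_antisymm (fun x hx => ?_) hRD
    have : f x ∈ (⊥ : Subgroup (G ⧸ R)) := hn ▸ hlcs n (mem_map_of_mem f hx)
    exact (QuotientGroup.eq_one_iff x).1 (mem_bot.1 this)
  rw [← hDR] at hRq
  exact (hpr.coprime_iff_not_dvd.2 hRq).symm


/-- Let G be a finite solvable group. (a) If H is a normal subgroup of order coprime to its index, K is a complement to H, and H ≤ G', then H = [H, K] and H ∩ C_G(K) ≤ [H, H]. (b) If G' is nilpotent and has prime index in G, then the order of G' is coprime to its index and G' = [G, K] (the subgroup generated by commutators of elements of G with elements of K) for every complement K of G'. -/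
theorem result {G : Type*} [Group G] [Finite G] [Group.IsSolvable G] :
    (∀ (H K : Subgroup G), H.Normal → (Nat.card H).Coprime H.index → Subgroup.IsComplement' H K → H ≤ commutator G →
        H = ⁅H, K⁆ ∧ H ⊓ Subgroup.centralizer (K : Set G) ≤ ⁅H, H⁆) ∧
      (Group.IsNilpotent ↥(commutator G) → (commutator G).index.Prime →
        (Nat.card ↥(commutator G)).Coprime (commutator G).index ∧
        ∀ K : Subgroup G, Subgroup.IsComplement' (commutator G) K → commutator G = ⁅(⊤ : Subgroup G), K⁆) := by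
  refine ⟨fun H K h1 h2 h3 h4 => part_one H K h1 h2 h3 h4, fun hnil hpr => ⟨part_two hnil hpr, fun K hK => ?_⟩⟩
  obtain ⟨h1, -⟩ := part_one (commutator G) K inferInstance (part_two hnil hpr) hK le_rfl
  exact le_antisymm (h1.le.trans (Subgroup.commutator_mono le_top le_rfl))
    ((Subgroup.commutator_mono le_rfl le_top).trans (le_of_eq (_root_.commutator_def G).symm))

end Cfsg.Agent.S1459
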