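import Cfsg.Statements.S1461
import Cfsg.Agent.OddLocal.Factor

set_option autoImplicit false
open Cfsg

namespace Cfsg.Agent.S1461

/-- Let G be a finite solvable group, p a prime with G = O_{p',p,p'}(G), and S a Sylow p-subgroup. Then: if S ≤ G' then S ≤ [N_G(S), N_G(S)]; if Y ⊆ S and xYx⁻¹ ⊆ S then x = g c for some g ∈ N_G(S) and c centralizing Y; and for every p-subgroup Q there is x ∈ C_G(Q ∩ S) with xQx⁻¹ ≤ S. -/
theorem result {G : Type*} [Group G] [Finite G] [Group.IsSolvable G] (p : ℕ) [Fact p.Prime] (hpl : Cfsg.PLengthLE p 1 G) (S : Sylow p G) :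
    ((S : Subgroup G) ≤ commutator G → (S : Subgroup G) ≤ ⁅Subgroup.normalizer ((S : Subgroup G) : Set G), Subgroup.normalizer ((S : Subgroup G) : Set G)⁆) ∧
      (∀ (Y : Set G) (x : G), Y ⊆ (S : Subgroup G) → (fun y => x * y * x⁻¹) '' Y ⊆ (S : Subgroup G) →
        ∃ g ∈ Subgroup.normalizer ((S : Subgroup G) : Set G), ∃ c ∈ Subgroup.centralizer Y, g * c = x) ∧
      ∀ Q : Subgroup G, IsPGroup p Q → ∃ x ∈ Subgroup.centralizer ((Q ⊓ (S : Subgroup G) : Subgroup G) : Set G), Q.map (MulAut.conj x).toMonoidHom ≤ (S : Subgroup G) := by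
  open Subgroup CfsgLib.Solv in
  obtain ⟨K, hKn, hKc, hSK, htop⟩ := CfsgLib.OddLocal.plen_one_data hpl S
  haveI := hKn
  have hcop : ∀ H : Subgroup G, IsPGroup p H → (Nat.card H).Coprime (Nat.card K) := fun H hH => by
    obtain ⟨n, hn⟩ := IsPGroup.iff_card.1 hH
    rw [hn]; exact hKc.symm.pow_left n
  have hSN : (S : Subgroup G) ≤ Subgroup.normalizer ((S : Subgroup G) : Set G) := Subgroup.le_normalizer
  refine ⟨fun hS s hs => ?_, fun Y x hY hxY => ?_, fun Q hQ => ?_⟩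
  · have h1 : s ∈ (S : Subgroup G) ⊓ commutator G := ⟨hs, hS hs⟩
    rw [CfsgLib.OddLocal.focal_inf htop hSN (hcop _ S.isPGroup')] at h1
    exact h1.2
  · have hcl : Subgroup.closure Y ≤ (S : Subgroup G) := (Subgroup.closure_le _).2 hY
    have himg : (Subgroup.closure Y).map (MulAut.conj x).toMonoidHom ≤ Subgroup.normalizer ((S : Subgroup G) : Set G) := by
      refine le_trans ?_ hSN
      rw [MonoidHom.map_closure, Subgroup.closure_le]
      exact hxY
    obtain ⟨u, hu, c, hc, e⟩ := CfsgLib.OddLocal.control htop (hcl.trans hSN)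
      (hcop _ (S.isPGroup'.to_le hcl)) himg
    exact ⟨u, hu, c, Subgroup.centralizer_le Subgroup.subset_closure hc.2, e.symm⟩
  · open scoped Pointwise in
    obtain ⟨k, hk, hkQ⟩ := CfsgLib.OddLocal.exists_conj_le S hSK hQ
    set D := Q ⊓ (S : Subgroup G) with hD
    have himg : D.map (MulAut.conj k).toMonoidHom ≤ Subgroup.normalizer ((S : Subgroup G) : Set G) := by
      rintro _ ⟨d, hd, rfl⟩
      refine hSN (hkQ ?_)
      rw [CfsgLib.Solv.mem_conj_smul_iff]
      simpa [mul_assoc] using hd.1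
    obtain ⟨u, hu, c, hc, hkc⟩ := CfsgLib.OddLocal.control htop (inf_le_right.trans hSN)
      (hcop _ (S.isPGroup'.to_le inf_le_right)) himg
    refine ⟨c, hc.2, ?_⟩
    rintro _ ⟨q, hq, rfl⟩
    show c * q * c⁻¹ ∈ (S : Subgroup G)
    open scoped Pointwise in
    have h1 : k * q * k⁻¹ ∈ (S : Subgroup G) := hkQ (by
      rw [CfsgLib.Solv.mem_conj_smul_iff]; simpa [mul_assoc] using hq)
    have h2 := (Subgroup.mem_normalizer_iff.1 (inv_mem hu) (k * q * k⁻¹)).1 h1
    rwa [show u⁻¹ * (k * q * k⁻¹) * u⁻¹⁻¹ = c * q * c⁻¹ by rw [hkc]; group] at h2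

end Cfsg.Agent.S1461
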