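import Cfsg.Statements.S1462
import Cfsg.Agent.OddLocal.Factor
import Cfsg.Agent.S1443
import Cfsg.Agent.Solv.TransferTools
import Cfsg.Agent.Solv.PComplement

set_option autoImplicit false
open Cfsg

namespace Cfsg.Agent.S1462

open Subgroup CfsgLib.Solv in
theorem isElementaryAbelian_sup_zpowers {G : Type*} [Group G] {p : ℕ} {E : Subgroup G}
    (hE : Cfsg.IsElementaryAbelian p E) {s : G} (hs : s ^ p = 1) (hc : ∀ e ∈ E, Commute e s) :
    Cfsg.IsElementaryAbelian p (E ⊔ zpowers s) := by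
  haveI := hE.1
  have hle : zpowers s ≤ normalizer (E : Set G) :=
    le_trans (zpowers_le.2 (show s ∈ centralizer (E : Set G) from fun e he => (hc e he).eq)) (centralizer_le_normalizer _)
  have key : ∀ x ∈ E ⊔ zpowers s, ∃ e ∈ E, ∃ i : ℤ, x = e * s ^ i := by
    intro x hx
    rw [sup_comm] at hx
    obtain ⟨e, he, y, hy, rfl⟩ := exists_mul_of_mem_sup hle hx
    obtain ⟨i, rfl⟩ := mem_zpowers_iff.1 hy
    exact ⟨e, he, i, rfl⟩
  refine ⟨⟨⟨fun x y => Subtype.ext ?_⟩⟩, fun x hx => ?_⟩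
  · obtain ⟨e, he, i, hx⟩ := key x x.2
    obtain ⟨e', he', j, hy⟩ := key y y.2
    show (x : G) * y = y * x
    rw [hx, hy]
    have hee : Commute e e' := commute_of_isMulCommutative he he'
    exact ((hee.mul_right ((hc e he).zpow_right j)).mul_left
      ((((hc e' he').zpow_right i).symm).mul_right (Commute.zpow_zpow_self s i j))).eq
  · obtain ⟨e, he, i, rfl⟩ := key x hx
    rw [((hc e he).zpow_right i).mul_pow, hE.2 e he, one_mul, ← zpow_natCast, ← zpow_mul, mul_comm,
      zpow_mul, zpow_natCast, hs, one_zpow]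


/-- Let G be a finite solvable group, p an odd prime with G = O_{p',p,p'}(G), E an elementary abelian p-subgroup contained in no larger elementary abelian p-subgroup of G, and L a subgroup of order coprime to p normalized by E. Then L ≤ O_{p'}(G). -/
theorem result {G : Type*} [Group G] [Finite G] [Group.IsSolvable G] (p : ℕ) [Fact p.Prime] (hp : p ≠ 2) (hpl : Cfsg.PLengthLE p 1 G) (E L : Subgroup G) (hE : Cfsg.IsElementaryAbelian p E)
    (hEmax : ∀ B : Subgroup G, Cfsg.IsElementaryAbelian p B → E ≤ B → B = E) (hL : (Nat.card L).Coprime p) (hEL : E ≤ Subgroup.normalizer (L : Set G)) :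
    L ≤ Cfsg.pPrimeCore p G := by
  open Subgroup CfsgLib.Solv in
  have hEp : IsPGroup p E := fun ⟨x, hx⟩ => ⟨1, Subtype.ext (by simpa using hE.2 x hx)⟩
  obtain ⟨S, hES⟩ := hEp.exists_le_sylow
  obtain ⟨K, hKn, hKc, hSK, -⟩ := CfsgLib.OddLocal.plen_one_data hpl S
  haveI := hKn
  open Subgroup CfsgLib.Solv in
  set f := QuotientGroup.mk' K with hf
  set Sb := (S : Subgroup G).map f with hSb
  haveI hSbn : Sb.Normal := by
    have : ((S : Subgroup G) ⊔ K).map f = Sb := by
      rw [Subgroup.map_sup, hf, QuotientGroup.map_mk'_self, sup_bot_eq]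
    exact this ▸ Subgroup.Normal.map hSK f (QuotientGroup.mk'_surjective K)
  have hinj : ∀ s ∈ (S : Subgroup G), f s = 1 → s = 1 := fun s hs h1 => by
    obtain ⟨n, hn⟩ := IsPGroup.iff_card.1 S.isPGroup'
    have hbot : (S : Subgroup G) ⊓ K = ⊥ :=
      Subgroup.inf_eq_bot_of_coprime (by rw [hn]; exact hKc.symm.pow_left n)
    have : s ∈ (S : Subgroup G) ⊓ K := ⟨hs, (QuotientGroup.eq_one_iff s).1 h1⟩
    rwa [hbot, Subgroup.mem_bot] at this
  have hSbp : IsPGroup p Sb := S.isPGroup'.map f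
  set Lb := L.map f with hLb
  have hLbc : (Nat.card Lb).Coprime p := hL.of_dvd_left (L.card_map_dvd f)
  have hbot : Lb ⊓ Sb = ⊥ := by
    obtain ⟨n, hn⟩ := IsPGroup.iff_card.1 hSbp
    exact Subgroup.inf_eq_bot_of_coprime (by rw [hn]; exact hLbc.pow_right n)
  have hLN : Lb ≤ Subgroup.normalizer (Sb : Set (G ⧸ K)) := by rw [Subgroup.normalizer_eq_top]; exact le_top
  open scoped commutatorElement in
  have hcentE : ∀ l ∈ L, ∀ e ∈ E, f l * f e = f e * f l := by
    intro l hl e he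
    rw [← commutatorElement_eq_one_iff_mul_comm, ← map_commutatorElement]
    have h1 : f ⁅l, e⁆ ∈ Lb ⊓ Sb := by
      refine ⟨Subgroup.mem_map_of_mem f ?_, ?_⟩
      · have := (Subgroup.mem_normalizer_iff.1 (hEL he) l⁻¹).1 (L.inv_mem hl)
        rw [commutatorElement_def, show l * e * l⁻¹ * e⁻¹ = l * (e * l⁻¹ * e⁻¹) by group]
        exact L.mul_mem hl this
      · rw [map_commutatorElement, commutatorElement_def]
        exact Sb.mul_mem (hSbn.conj_mem _ (Subgroup.mem_map_of_mem f (hES he)) _)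
          (Sb.inv_mem (Subgroup.mem_map_of_mem f (hES he)))
    rwa [hbot, Subgroup.mem_bot] at h1
  set Eb := E.map f with hEb
  have hEbe : Cfsg.IsElementaryAbelian p Eb := by
    haveI := hE.1
    refine ⟨Subgroup.map_isMulCommutative E f, ?_⟩
    rintro _ ⟨e, he, rfl⟩
    rw [← map_pow, hE.2 e he, map_one]
  open scoped commutatorElement in
  have hcentS : Lb ≤ Subgroup.centralizer (Sb : Set (G ⧸ K)) := by
    refine Cfsg.Agent.S1443.result p hp Sb Eb Lb hSbp (Subgroup.map_mono hES) hEbe hLN hLbc ?_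
    intro x hx hxo
    obtain ⟨⟨s, hs, rfl⟩, hxc⟩ := hx
    have hsp : s ^ p = 1 := hinj _ (Subgroup.pow_mem _ hs p) (by rw [map_pow, ← hxo, pow_orderOf_eq_one])
    have hsc : ∀ e ∈ E, Commute e s := fun e he => by
      refine commutatorElement_eq_one_iff_mul_comm.1 (hinj _ ?_ ?_)
      · rw [commutatorElement_def]
        exact Subgroup.mul_mem _ (Subgroup.mul_mem _ (Subgroup.mul_mem _ (hES he) hs)
          (Subgroup.inv_mem _ (hES he))) (Subgroup.inv_mem _ hs)
      · rw [map_commutatorElement, commutatorElement_eq_one_iff_mul_comm]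
        exact hxc (f e) (Subgroup.mem_map_of_mem f he)
    have hB := hEmax _ (isElementaryAbelian_sup_zpowers hE hsp hsc) le_sup_left
    have hsE : s ∈ E := hB ▸ Subgroup.mem_sup_right (Subgroup.mem_zpowers s)
    rintro _ ⟨l, hl, rfl⟩
    exact Subgroup.mem_centralizer_singleton_iff.2 (hcentE l hl s hsE)
  set Z := Subgroup.centralizer (Sb : Set (G ⧸ K)) with hZ
  haveI : Z.Normal := inferInstance
  obtain ⟨P⟩ : Nonempty (Sylow p Z) := inferInstance
  have hPS : (P : Subgroup Z).map Z.subtype ≤ Sb := by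
    obtain ⟨R, hR⟩ := (P.isPGroup'.map Z.subtype).exists_le_sylow
    obtain ⟨Sq, hSq⟩ : ∃ Sq : Sylow p (G ⧸ K), (Sq : Subgroup (G ⧸ K)) = Sb :=
      ⟨S.mapSurjective (QuotientGroup.mk'_surjective K), Sylow.coe_mapSurjective _ _⟩
    haveI := Sylow.unique_of_normal Sq (hSq ▸ hSbn)
    rwa [Subsingleton.elim R Sq, hSq] at hR
  have hh : Cfsg.HasNormalPComplement p Z := by
    refine CfsgLib.Solv.hnpc_of_normalizer_le_centralizer P fun z _ y hy => ?_
    exact Subtype.ext (z.2 (y : G ⧸ K) (hPS (Subgroup.mem_map_of_mem Z.subtype hy)))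
  set R := (Cfsg.pResidual p Z).map Z.subtype with hR
  have hRmem : ∀ x : G ⧸ K, x ∈ R ↔ ∃ h : x ∈ Z, Nat.Coprime (orderOf x) p := fun x => by
    rw [hR, Subgroup.mem_map]
    constructor
    · rintro ⟨y, hy, rfl⟩
      exact ⟨y.2, by
        rw [show (Z.subtype y : G ⧸ K) = (y : G ⧸ K) from rfl, Subgroup.orderOf_coe]
        exact (CfsgLib.Solv.hnpc_mem_iff hh).1 hy⟩
    · rintro ⟨hx, hco⟩
      exact ⟨⟨x, hx⟩, (CfsgLib.Solv.hnpc_mem_iff hh).2 (by rwa [← Subgroup.orderOf_coe]), rfl⟩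
  haveI : R.Normal := ⟨fun x hx g => by
    rw [hRmem] at hx ⊢
    obtain ⟨hxZ, hco⟩ := hx
    refine ⟨Subgroup.Normal.conj_mem inferInstance x hxZ g, ?_⟩
    rwa [show g * x * g⁻¹ = MulAut.conj g x from rfl, MulEquiv.orderOf_eq]⟩
  intro l hl
  have hN : (R.comap f).Normal := inferInstance
  refine CfsgLib.Fus.le_pPrimeCore hN ?_ ?_
  · have h := Subgroup.relIndex_mul_relIndex ⊥ K (R.comap f) bot_le (QuotientGroup.le_comap_mk' K R)
    rw [Subgroup.relIndex_bot_left, Subgroup.relIndex_bot_left] at h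
    have h2 := Subgroup.relIndex_ker (K := R.comap f) f
    rw [QuotientGroup.ker_mk', Subgroup.map_comap_eq_self_of_surjective (QuotientGroup.mk'_surjective K)] at h2
    rw [← h, h2]
    refine Nat.Coprime.mul_left hKc ?_
    rw [hR, Subgroup.card_map_of_injective Z.subtype_injective]
    exact ((Fact.out : p.Prime).coprime_iff_not_dvd.2 (CfsgLib.Solv.hnpc_iff.1 hh)).symm
  · refine Subgroup.mem_comap.2 ((hRmem _).2 ⟨hcentS (Subgroup.mem_map_of_mem f hl), ?_⟩)
    exact hLbc.of_dvd_left (Subgroup.orderOf_dvd_natCard Lb (Subgroup.mem_map_of_mem f hl))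

end Cfsg.Agent.S1462
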