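import Cfsg.Statements.S1463
import Cfsg.Agent.Fus.Dickson
import Mathlib.RingTheory.Jacobson.Ring
import Mathlib.Algebra.Algebra.ZMod

set_option autoImplicit false
open scoped MatrixGroups
open Cfsg

namespace Cfsg.Agent.S1463

open Matrix in
theorem zero_of_two {F : Type*} [Field F] {M : Matrix (Fin 2) (Fin 2) F} {a b : Fin 2 → F} (ha : a ≠ 0)
    (hb : b ∉ Submodule.span F {a}) (hMa : M.mulVec a = 0) (hMb : M.mulVec b = 0) : M = 0 := by
  have hli : LinearIndependent F ![a, b] :=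
    (LinearIndependent.pair_iff' ha).2 fun c hc => hb (Submodule.mem_span_singleton.2 ⟨c, hc⟩)
  have hspan := hli.span_eq_top_of_card_eq_finrank (by simp)
  apply Matrix.toLin'.injective
  rw [map_zero]
  refine LinearMap.ext_on_range hspan fun i => ?_
  fin_cases i <;> simp [Matrix.toLin'_apply, hMa, hMb]

open Matrix in
theorem det_one_of_pow {F : Type*} [Field F] (p : ℕ) [Fact p.Prime] [CharP F p] {g : GL (Fin 2) F}
    (hg : g ^ p = 1) : (g : Matrix (Fin 2) (Fin 2) F).det = 1 := by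
  have h : (g : Matrix (Fin 2) (Fin 2) F).det ^ p = 1 := by
    rw [← Matrix.det_pow, ← Units.val_pow_eq_pow_val, hg, Units.val_one, Matrix.det_one]
  have h2 : ((g : Matrix (Fin 2) (Fin 2) F).det - 1) ^ p = 0 := by
    rw [sub_pow_char, h, one_pow, sub_self]
  exact sub_eq_zero.1 (pow_eq_zero_iff (Fact.out : p.Prime).ne_zero |>.1 h2)


/-- Let F be a field of odd characteristic p and H a finite subgroup of odd order of GL(2, F) that leaves no 1-dimensional subspace of F² invariant. Then p does not divide the order of H. -/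
theorem result {F : Type*} [Field F] (p : ℕ) [Fact p.Prime] [CharP F p] (hp : p ≠ 2)
    (H : Subgroup (GL (Fin 2) F)) [Finite H] (hodd : Odd (Nat.card H))
    (hirr : ∀ v : Fin 2 → F, v ≠ 0 → ∃ g ∈ H, (g : Matrix (Fin 2) (Fin 2) F).mulVec v ∉ Submodule.span F {v}) :
    ¬ p ∣ Nat.card H := by
  open Matrix CfsgLib.Dickson in
  intro hdvd
  open Matrix CfsgLib.Dickson in
  classical
  obtain ⟨⟨u, huH⟩, hu⟩ := exists_prime_orderOf_dvd_card' (G := H) p hdvd
  rw [Subgroup.orderOf_mk] at hu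
  have hup : u ^ p = 1 := hu ▸ pow_orderOf_eq_one u
  set U : Matrix (Fin 2) (Fin 2) F := (u : Matrix (Fin 2) (Fin 2) F) with hU
  set N : Matrix (Fin 2) (Fin 2) F := U - 1 with hN
  have hNnil : IsNilpotent N := ⟨p, by
    rw [hN, sub_pow_char_of_commute p (Commute.one_right _), one_pow, hU, ← Units.val_pow_eq_pow_val, hup,
      Units.val_one, sub_self]⟩
  have hN2 : N * N = 0 := by
    have h1 : (N.trace) = 0 := (Matrix.isNilpotent_trace_of_isNilpotent hNnil).eq_zero
    have h2 : N.det = 0 := by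
      obtain ⟨m, hm⟩ := hNnil
      have : N.det ^ m = 0 := by
        rw [← Matrix.det_pow, hm, Matrix.det_zero]
      exact eq_zero_of_pow_eq_zero this
    rw [Matrix.det_fin_two] at h2
    rw [Matrix.trace_fin_two] at h1
    ext i j
    fin_cases i <;> fin_cases j <;> simp [Matrix.mul_apply, Fin.sum_univ_two]
    · linear_combination N 0 0 * h1 - h2
    · linear_combination N 0 1 * h1
    · linear_combination N 1 0 * h1
    · linear_combination N 1 1 * h1 - h2
  have hN0 : N ≠ 0 := by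
    intro h
    rw [hN, sub_eq_zero] at h
    have : u = 1 := Units.ext h
    rw [this, orderOf_one] at hu
    exact (Fact.out : p.Prime).ne_one hu.symm
  obtain ⟨e, he⟩ : ∃ e, N.mulVec e ≠ 0 := by
    by_contra! h
    exact hN0 (Matrix.toLin'.injective (LinearMap.ext fun x => by simpa [Matrix.toLin'_apply] using h x))
  set w := N.mulVec e with hw
  have hNw : N.mulVec w = 0 := by rw [hw, Matrix.mulVec_mulVec, hN2, Matrix.zero_mulVec]
  obtain ⟨g, hgH, hgw⟩ := hirr w he
  set v := g * u * g⁻¹ with hv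
  have hvH : v ∈ H := H.mul_mem (H.mul_mem hgH huH) (H.inv_mem hgH)
  have hvp : v ^ p = 1 := by rw [hv, conj_pow, hup, mul_one, mul_inv_cancel]
  set G' : Matrix (Fin 2) (Fin 2) F := (g : Matrix (Fin 2) (Fin 2) F) with hG'
  set N' : Matrix (Fin 2) (Fin 2) F := (v : Matrix (Fin 2) (Fin 2) F) - 1 with hN'
  have hconj : N' = G' * N * (g⁻¹ : GL (Fin 2) F) := by
    rw [hN, mul_sub, sub_mul, mul_one, hN', hv, hU, hG']
    simp
  have hgg : ((g⁻¹ : GL (Fin 2) F) : Matrix (Fin 2) (Fin 2) F) * G' = 1 := by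
    rw [hG', ← Units.val_mul, inv_mul_cancel, Units.val_one]
  have hN'w : N'.mulVec (G'.mulVec w) = 0 := by
    rw [hconj, Matrix.mulVec_mulVec, mul_assoc, hgg, mul_one, ← Matrix.mulVec_mulVec, hNw, Matrix.mulVec_zero]
  have hN'2 : N' * N' = 0 := by
    rw [hconj]
    calc G' * N * (g⁻¹ : GL (Fin 2) F) * (G' * N * (g⁻¹ : GL (Fin 2) F))
        = G' * N * ((g⁻¹ : GL (Fin 2) F) * G') * N * (g⁻¹ : GL (Fin 2) F) := by simp only [mul_assoc]
      _ = G' * (N * N) * (g⁻¹ : GL (Fin 2) F) := by rw [hgg, mul_one, mul_assoc G' N N]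
      _ = 0 := by rw [hN2, mul_zero, zero_mul]
  have hN'0 : N' ≠ 0 := fun h => hN0 (by
    have h2 := congrArg (fun M => ((g⁻¹ : GL (Fin 2) F) : Matrix (Fin 2) (Fin 2) F) * M * G') h
    simp only [hconj, mul_zero, zero_mul] at h2
    rwa [← mul_assoc, ← mul_assoc, hgg, one_mul, mul_assoc, hgg, mul_one] at h2)
  have hncomm : ¬ Commute u v := by
    intro hc
    have hNN : N * N' = N' * N := by
      have h5 : U * (v : Matrix (Fin 2) (Fin 2) F) = (v : Matrix (Fin 2) (Fin 2) F) * U :=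
        congrArg Units.val hc.eq
      rw [hN, hN', sub_mul, mul_sub, one_mul, mul_one, sub_mul, mul_sub, one_mul, mul_one, h5]
      abel
    have hxN : N.mulVec (N'.mulVec w) = 0 := by
      rw [Matrix.mulVec_mulVec, hNN, ← Matrix.mulVec_mulVec, hNw, Matrix.mulVec_zero]
    have hxN' : N'.mulVec (N'.mulVec w) = 0 := by rw [Matrix.mulVec_mulVec, hN'2, Matrix.zero_mulVec]
    by_cases hx : N'.mulVec w = 0
    · exact hN'0 (zero_of_two he hgw hx hN'w)
    · have h1 : N'.mulVec w ∈ Submodule.span F {w} := by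
        by_contra h
        exact hN0 (zero_of_two he h hNw hxN)
      obtain ⟨c, hc⟩ := Submodule.mem_span_singleton.1 h1
      have hc0 : c ≠ 0 := fun h => hx (by rw [← hc, h, zero_smul])
      rw [← hc, Matrix.mulVec_smul, smul_eq_zero, or_iff_right hc0] at hxN'
      exact hx hxN'
  have hdu := det_one_of_pow p hup
  have hdv := det_one_of_pow p hvp
  set D : Matrix (Fin 2) (Fin 2) F := U * (v : Matrix (Fin 2) (Fin 2) F) - (v : Matrix (Fin 2) (Fin 2) F) * U with hD
  obtain ⟨i₀, j₀, hD0⟩ : ∃ i j, D i j ≠ 0 := by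
    by_contra! h
    refine hncomm (Units.ext ?_)
    have : D = 0 := Matrix.ext h
    rw [hD, sub_eq_zero] at this
    simpa using this
  letI : Algebra (ZMod p) F := ZMod.algebra F p
  set S : Finset F := Finset.univ.image (fun ij : Fin 2 × Fin 2 => U ij.1 ij.2) ∪
    Finset.univ.image (fun ij : Fin 2 × Fin 2 => (v : Matrix (Fin 2) (Fin 2) F) ij.1 ij.2) ∪ {(D i₀ j₀)⁻¹} with hS
  set R := Algebra.adjoin (ZMod p) (S : Set F) with hR
  haveI : Algebra.FiniteType (ZMod p) R := (Subalgebra.fg_iff_finiteType R).1 (Subalgebra.fg_adjoin_finset S)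
  have hmem : ∀ x ∈ S, x ∈ R := fun x hx => Algebra.subset_adjoin hx
  obtain ⟨m, hm⟩ := Ideal.exists_maximal R
  letI : Field (R ⧸ m) := Ideal.Quotient.field m
  haveI := finite_of_finite_type_of_isJacobsonRing (ZMod p) (R ⧸ m)
  haveI : Finite (R ⧸ m) := Module.finite_of_finite (ZMod p)
  letI := Fintype.ofFinite (R ⧸ m)
  haveI : CharP (R ⧸ m) p := charP_of_injective_algebraMap (algebraMap (ZMod p) (R ⧸ m)).injective p
  have hUm : ∀ i j, U i j ∈ R := fun i j => hmem _ (Finset.mem_union_left _ (Finset.mem_union_left _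
    (Finset.mem_image.2 ⟨(i, j), Finset.mem_univ _, rfl⟩)))
  have hVm : ∀ i j, (v : Matrix (Fin 2) (Fin 2) F) i j ∈ R := fun i j => hmem _ (Finset.mem_union_left _
    (Finset.mem_union_right _ (Finset.mem_image.2 ⟨(i, j), Finset.mem_univ _, rfl⟩)))
  have hinj : Function.Injective (algebraMap R F) := Subtype.val_injective
  let mkR : ∀ M : Matrix (Fin 2) (Fin 2) F, (∀ i j, M i j ∈ R) → Matrix (Fin 2) (Fin 2) R :=
    fun M hM => Matrix.of fun i j => ⟨M i j, hM i j⟩
  have hdet : ∀ (M : Matrix (Fin 2) (Fin 2) F) (hM : ∀ i j, M i j ∈ R), M.det = 1 → (mkR M hM).det = 1 := by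
    intro M hM h
    apply hinj
    rw [RingHom.map_det, map_one, ← h]
    rfl
  let uR : Matrix.SpecialLinearGroup (Fin 2) R := ⟨mkR U hUm, hdet U hUm hdu⟩
  let vR : Matrix.SpecialLinearGroup (Fin 2) R := ⟨mkR _ hVm, hdet _ hVm hdv⟩
  let ι : Matrix.SpecialLinearGroup (Fin 2) R →* GL (Fin 2) F :=
    Matrix.SpecialLinearGroup.toGL.comp (Matrix.SpecialLinearGroup.map (algebraMap R F))
  have hιinj : Function.Injective ι := by
    intro a b hab
    have h2 : (ι a : Matrix (Fin 2) (Fin 2) F) = ι b := congrArg Units.val hab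
    refine Subtype.ext (Matrix.ext fun i j => hinj ?_)
    exact congrFun (congrFun h2 i) j
  have hιu : ι uR = u := Units.ext rfl
  have hιv : ι vR = v := Units.ext rfl
  set Hr := H.comap ι with hHr
  have hHrd : Nat.card Hr ∣ Nat.card H := by
    rw [← Subgroup.card_map_of_injective hιinj]
    exact Subgroup.card_dvd_of_le (Subgroup.map_comap_le _ _)
  let π := Matrix.SpecialLinearGroup.map (n := Fin 2) (Ideal.Quotient.mk m)
  have hodd' : Odd (Nat.card (Hr.map π)) :=
    hodd.of_dvd_nat ((Subgroup.card_map_dvd _ _).trans hHrd)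
  have h2 : (2 : R ⧸ m) ≠ 0 := by
    intro h
    have h' : ((2 : ℕ) : R ⧸ m) = 0 := by simpa using h
    rw [CharP.cast_eq_zero_iff (R ⧸ m) p] at h'
    exact hp ((Nat.prime_dvd_prime_iff_eq Fact.out Nat.prime_two).1 h')
  have hpow : ∀ (x : Matrix.SpecialLinearGroup (Fin 2) R), (ι x) ^ p = 1 → (π x) ^ p = 1 := fun x hx => by
    rw [← map_pow ι, ← map_one ι] at hx
    rw [← map_pow π, hιinj hx, map_one]
  have hcm : ¬ Commute (π uR) (π vR) := by
    intro hc
    have h3 : Ideal.Quotient.mk m ((uR.1 * vR.1) i₀ j₀) = Ideal.Quotient.mk m ((vR.1 * uR.1) i₀ j₀) := by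
      have h4 := congrFun (congrFun (congrArg Subtype.val hc.eq) i₀) j₀
      rw [← map_mul, ← map_mul] at h4
      exact h4
    rw [← sub_eq_zero, ← map_sub, Ideal.Quotient.eq_zero_iff_mem] at h3
    refine hm.ne_top (Ideal.eq_top_of_isUnit_mem _ h3 ?_)
    refine isUnit_iff_exists_inv.2 ⟨⟨(D i₀ j₀)⁻¹, hmem _ (Finset.mem_union_right _ (Finset.mem_singleton_self _))⟩, hinj ?_⟩
    rw [map_mul, map_one]
    have e1 : algebraMap R F ((uR.1 * vR.1) i₀ j₀ - (vR.1 * uR.1) i₀ j₀) = D i₀ j₀ := by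
      rw [hD, Matrix.sub_apply, map_sub]
      simp [Matrix.mul_apply, uR, vR, mkR, Fin.sum_univ_two]
    rw [e1]
    exact mul_inv_cancel₀ hD0
  obtain ⟨k, b, hb, hU', hL'⟩ := CfsgLib.Dickson.exists_transvections p h2 (Hr.map π)
    (Subgroup.mem_map_of_mem π (show uR ∈ Hr from (hιu ▸ huH : ι uR ∈ H)))
    (Subgroup.mem_map_of_mem π (show vR ∈ Hr from (hιv ▸ hvH : ι vR ∈ H)))
    (hpow _ (by rw [hιu, hup])) (hpow _ (by rw [hιv, hvp])) hcm
  have hmemk := CfsgLib.Dickson.embed_mem p hb hU' hL' (CfsgLib.Dickson.m1 (ZMod p))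
  set z := k * CfsgLib.Dickson.embed p b hb (CfsgLib.Dickson.m1 (ZMod p)) * k⁻¹ with hz
  have hz2 : z ^ 2 = 1 := by
    rw [hz, conj_pow, ← map_pow, pow_two, CfsgLib.Dickson.m1_sq, map_one, mul_one, mul_inv_cancel]
  have hz1 : z ≠ 1 := by
    intro h
    rw [hz, conj_eq_one_iff] at h
    have h20 : (2 : ZMod p) ≠ 0 := fun e => h2 (by
      have := congrArg (algebraMap (ZMod p) (R ⧸ m)) e
      simpa [map_ofNat] using this)
    exact CfsgLib.Dickson.m1_ne_one h20 (CfsgLib.Dickson.embed_injective p b hb (h.trans (map_one _).symm))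
  have hd2 : orderOf z ∣ Nat.card (Hr.map π) := Subgroup.orderOf_dvd_natCard _ hmemk
  rw [orderOf_eq_prime hz2 hz1] at hd2
  exact Nat.not_even_iff_odd.2 hodd' (even_iff_two_dvd.2 hd2)

end Cfsg.Agent.S1463
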