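import Cfsg.Statements.S1466
import Cfsg.Agent.OddLocal.Puig
import Cfsg.Agent.Perm.MinClass

set_option autoImplicit false
open Cfsg

namespace Cfsg.Agent.S1466

/-- Let p be a prime and R a nontrivial finite p-group. Then for every i > 0, Z(R) ≤ C_R(L_i(R)) ≤ L_i(R); likewise Z(R) ≤ C_R(L_*(R)) ≤ L_*(R) and Z(R) ≤ C_R(L(R)) ≤ L(R); and L(R) ≠ 1, L_*(R) ≠ 1. -/
theorem result {R : Type*} [Group R] [Finite R] (p : ℕ) [Fact p.Prime] (hR : IsPGroup p R) [Nontrivial R] :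
    (∀ i : ℕ, 0 < i → Subgroup.center R ≤ Subgroup.centralizer ((Cfsg.puigSeq R i : Subgroup R) : Set R) ∧
        Subgroup.centralizer ((Cfsg.puigSeq R i : Subgroup R) : Set R) ≤ Cfsg.puigSeq R i) ∧
      (Subgroup.center R ≤ Subgroup.centralizer ((Cfsg.puigLower R : Subgroup R) : Set R) ∧ Subgroup.centralizer ((Cfsg.puigLower R : Subgroup R) : Set R) ≤ Cfsg.puigLower R) ∧
      (Subgroup.center R ≤ Subgroup.centralizer ((Cfsg.puigSubgroup R : Subgroup R) : Set R) ∧ Subgroup.centralizer ((Cfsg.puigSubgroup R : Subgroup R) : Set R) ≤ Cfsg.puigSubgroup R) ∧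
      Cfsg.puigSubgroup R ≠ ⊥ ∧ Cfsg.puigLower R ≠ ⊥ := by
  obtain ⟨A, hAn, hAc, hA⟩ := CfsgLib.Perm.exists_self_centralizing_normal_abelian hR
  have key : ∀ X : Subgroup R, A ≤ X → Subgroup.center R ≤ Subgroup.centralizer (X : Set R) ∧
      Subgroup.centralizer (X : Set R) ≤ X := fun X hX =>
    ⟨Subgroup.center_le_centralizer _, ((Subgroup.centralizer_le hX).trans hA.le).trans hX⟩
  have hA0 : A ≠ ⊥ := by
    intro h
    have hz : Subgroup.center R ≤ A := hA ▸ Subgroup.center_le_centralizer _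
    haveI := hR.center_nontrivial
    exact (Subgroup.nontrivial_iff_ne_bot _).1 inferInstance (le_bot_iff.1 (h ▸ hz))
  have hlow : A ≤ puigLower R := by
    rw [← CfsgLib.Puig.step_upper]
    exact CfsgLib.Puig.le_step hAc (by rw [Subgroup.normalizer_eq_top]; exact le_top)
  have hup : A ≤ puigSubgroup R := hlow.trans CfsgLib.Puig.lower_le
  refine ⟨fun i hi => ?_, key _ hlow, key _ hup, fun h => hA0 (le_bot_iff.1 (h ▸ hup)),
    fun h => hA0 (le_bot_iff.1 (h ▸ hlow))⟩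
  obtain ⟨j, rfl⟩ := Nat.exists_eq_succ_of_ne_zero hi.ne'
  exact key _ (CfsgLib.Puig.le_seq_succ hAc j)

end Cfsg.Agent.S1466
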