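import Cfsg.Statements.S1471
import Cfsg.Agent.OddLocal.NormPairs

set_option autoImplicit false
open Cfsg

namespace Cfsg.Agent.S1471

/-- Let p and q be odd primes with (p^q − 1)/(p − 1) coprime to p − 1. Then there are at least two elements a of the field with p ^ q elements such that both a and 2 − a have norm 1 to the prime field. -/
theorem result (p q : ℕ) [Fact p.Prime] [Fact q.Prime] (hp : p ≠ 2) (hq : q ≠ 2) (hA : Nat.Coprime ((p ^ q - 1) / (p - 1)) (p - 1)) :
    2 ≤ Set.ncard {a : GaloisField p q | Algebra.norm (ZMod p) a = 1 ∧ Algebra.norm (ZMod p) (2 - a) = 1} := by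
  have hq' := (Fact.out : q.Prime)
  have h1 : (1 : GaloisField p q) ∈
      {a : GaloisField p q | Algebra.norm (ZMod p) a = 1 ∧ Algebra.norm (ZMod p) (2 - a) = 1} :=
    ⟨map_one _, by rw [show (2 : GaloisField p q) - 1 = 1 by ring, map_one]⟩
  obtain ⟨a, ha1, ha, ha'⟩ : ∃ a : GaloisField p q, a ≠ 1 ∧ Algebra.norm (ZMod p) a = 1 ∧
      Algebra.norm (ZMod p) (2 - a) = 1 := by
    by_cases h3 : q = 3
    · subst h3
      exact CfsgLib.NormPairs.exists_pair_three hp
    · refine CfsgLib.NormPairs.exists_pair_large hp (GaloisField.finrank p hq'.ne_zero) ?_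
      by_contra hlt
      have h5 : q < 5 := by omega
      have := hq'.two_le
      interval_cases q
      · exact hq rfl
      · exact h3 rfl
      · exact absurd hq' (by decide)
  exact (Set.one_lt_ncard_iff (Set.toFinite _)).2 ⟨1, a, h1, ⟨ha, ha'⟩, ha1.symm⟩

end Cfsg.Agent.S1471
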