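import Cfsg.Statements.S1474
import Cfsg.Agent.OddLocal.CNSolvable

set_option autoImplicit false
open Cfsg

namespace Cfsg.Agent.S1474

/-- Let G be a finite group in which every non-identity element has nilpotent centralizer, not itself nilpotent, and having a nontrivial normal Sylow p-subgroup for some prime p. Let H be the largest normal nilpotent Hall subgroup of G. Then H is a nontrivial proper normal subgroup with a complement E that is a Frobenius complement in G (no non-identity element of E centralizes a non-identity element of H), and G/H is nilpotent. -/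
theorem result {G : Type*} [Group G] [Finite G] (hCN : Cfsg.IsCNGroup G) (hnn : ¬ Group.IsNilpotent G) (p : ℕ) [Fact p.Prime] (P : Sylow p G)
    (hP1 : (P : Subgroup G) ≠ ⊥) (hPn : (P : Subgroup G).Normal) :
    Cfsg.fittingHall G ≠ ⊥ ∧ Cfsg.fittingHall G ≠ ⊤ ∧
      (∃ E : Subgroup G, Subgroup.IsComplement' (Cfsg.fittingHall G) E ∧ Cfsg.IsFrobeniusComplement E ∧
        ∀ e ∈ E, e ≠ 1 → Cfsg.fittingHall G ⊓ Subgroup.centralizer ({e} : Set G) = ⊥) ∧
      Group.IsNilpotent (G ⧸ Cfsg.fittingHall G) := by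
  haveI := hPn
  have hp := (Fact.out : p.Prime)
  haveI hFN : (fittingSubgroup G).Normal := CfsgLib.Solv.fittingSubgroup_normal G
  have hFn : Group.IsNilpotent (fittingSubgroup G) := CfsgLib.Solv.fittingSubgroup_isNilpotent
  have hPF : (P : Subgroup G) ≤ fittingSubgroup G :=
    CfsgLib.Solv.le_fittingSubgroup P.isPGroup'.isNilpotent
  have hne : fittingSubgroup G ≠ ⊥ := fun h => hP1 (le_bot_iff.1 (h ▸ hPF))
  have hmain : (Nat.card (fittingSubgroup G)).Coprime (fittingSubgroup G).index ∧
      ∀ x ∈ fittingSubgroup G, x ≠ 1 →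
        Subgroup.centralizer ({x} : Set G) ≤ fittingSubgroup G := by
    by_cases hpp : IsPrimePow (Nat.card (fittingSubgroup G))
    · obtain ⟨r, k, hr, hk, hrk⟩ := hpp
      have hr' := Nat.prime_iff.2 hr
      have hrp : p = r := by
        refine (Nat.prime_dvd_prime_iff_eq hp hr').1 (hp.dvd_of_dvd_pow (n := k) ?_)
        rw [hrk]
        obtain ⟨n, hn⟩ := P.isPGroup'.exists_card_eq
        refine dvd_trans ?_ (Subgroup.card_dvd_of_le hPF)
        rw [hn]
        refine dvd_pow_self p fun h0 => hP1 (Subgroup.card_eq_one.1 ?_)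
        rw [hn, h0, pow_zero]
      subst hrp
      have hFp : IsPGroup p (fittingSubgroup G) := IsPGroup.of_card (n := k) hrk.symm
      have hFP : fittingSubgroup G = (P : Subgroup G) := P.is_maximal' hFp hPF
      refine CfsgLib.OddLocal.CN.hall_of_sylow hCN hFp ?_ (hFP ▸ P.not_dvd_index)
      obtain ⟨z, hz, hz1, -, -⟩ := Cfsg.Agent.S1477.exists_central hFn (hrk ▸ dvd_pow_self p hk.ne' :
        p ∣ Nat.card (fittingSubgroup G))
      exact CfsgLib.Solv.le_fittingSubgroup (Cfsg.Agent.S1473.nilp_of_le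
        (fun x hx => Subgroup.mem_centralizer_singleton_iff.2
          (Subgroup.mem_centralizer_iff.1 hx z hz).symm) (hCN z hz1))
    · exact CfsgLib.OddLocal.CN.hall_of_not_isPrimePow hCN hpp hne
  obtain ⟨hcop, hC⟩ := hmain
  have heq : fittingHall G = fittingSubgroup G :=
    le_antisymm (sSup_le fun N hN => le_sSup ⟨hN.1, hN.2.1⟩)
      (CfsgLib.OddLocal.le_fittingHall hFN hFn hcop)
  obtain ⟨E, hE, hfr, hfpf, hEn, -⟩ := CfsgLib.OddLocal.CN.frobenius_case hCN hnn hFn hne hcop hC
  have key : ∀ (F : Subgroup G) [F.Normal], F = fittingSubgroup G → F ≠ ⊥ ∧ F ≠ ⊤ ∧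
      (∃ E : Subgroup G, Subgroup.IsComplement' F E ∧ IsFrobeniusComplement E ∧
        ∀ e ∈ E, e ≠ 1 → F ⊓ Subgroup.centralizer ({e} : Set G) = ⊥) ∧ Group.IsNilpotent (G ⧸ F) := by
    intro F _ hF
    subst hF
    refine ⟨hne, fun h => hnn ?_, ⟨E, hE, hfr, hfpf⟩, ?_⟩
    · haveI : Group.IsNilpotent (⊤ : Subgroup G) := h ▸ hFn
      exact Group.nilpotent_of_mulEquiv Subgroup.topEquiv
    · haveI := hEn
      exact Group.nilpotent_of_mulEquiv hE.symm.QuotientMulEquiv.symm
  exact key _ heq

end Cfsg.Agent.S1474
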