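import Cfsg.Statements.S1475
import Cfsg.Agent.Solv.FixedPointFree
import Cfsg.Agent.Solv.MinimalNormal
import Cfsg.Agent.Solv.Hall
import Cfsg.Agent.Solv.CoprimeAction

set_option autoImplicit false
open Cfsg

namespace Cfsg.Agent.S1475

open Subgroup CfsgLib.Solv in
theorem core {G : Type*} [Group G] [Finite G] (h : ∀ g : G, IsPrimePow (orderOf g) ∨ g = 1) {x y : G}
    {q r : ℕ} (hq : q.Prime) (hr : r.Prime) (hqr : q ≠ r) (hxy : Commute x y) (hx : orderOf x = q)
    (hy : orderOf y = r) : False := by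
  have ho : orderOf (x * y) = q * r := by
    rw [hxy.orderOf_mul_eq_mul_orderOf_of_coprime (by rw [hx, hy]; exact (Nat.coprime_primes hq hr).2 hqr), hx, hy]
  rcases h (x * y) with h | h
  · rw [ho] at h
    obtain ⟨l, k, hl, -, hlk⟩ := (isPrimePow_nat_iff _).1 h
    have h1 := (Nat.prime_dvd_prime_iff_eq hq hl).1 (hq.dvd_of_dvd_pow (hlk ▸ Dvd.intro r rfl))
    have h2 := (Nat.prime_dvd_prime_iff_eq hr hl).1 (hr.dvd_of_dvd_pow (hlk ▸ Dvd.intro_left q rfl))
    exact hqr (h1.trans h2.symm)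
  · rw [h, orderOf_one] at ho
    exact hq.ne_one (Nat.eq_one_of_mul_eq_one_right ho.symm)

open Subgroup CfsgLib.Solv in
theorem two_primes {G : Type*} [Group G] [Finite G] [Group.IsSolvable G]
    (h : ∀ g : G, IsPrimePow (orderOf g) ∨ g = 1) {V : Subgroup G} [V.Normal] [IsMulCommutative V]
    (hV : V ≠ ⊥) {p : ℕ} (hp : p.Prime) (hpV : IsPGroup p V) {q r : ℕ} (hq : q.Prime) (hr : r.Prime)
    (hqr : q ≠ r) (hqp : q ≠ p) (hrp : r ≠ p) (A : Subgroup G)
    (hA : PiNat ({q, r} : Set ℕ) (Nat.card A)) (M : Subgroup A) (hM : IsMinimalNormal M)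
    (hMq : IsPGroup q M) (hrA : r ∣ Nat.card A) : False := by
  haveI := Fact.mk hq
  haveI := Fact.mk hr
  haveI := Fact.mk hp
  have hfpf : ∀ a ∈ A, a ≠ 1 → V ⊓ centralizer {a} = ⊥ := by
    intro a ha ha1
    refine eq_bot_iff.2 fun v hv => mem_bot.2 ?_
    by_contra hv1
    obtain ⟨l, hl, hla⟩ := Nat.exists_prime_and_dvd (n := orderOf a) (by rwa [Ne, orderOf_eq_one_iff])
    obtain ⟨k, hk⟩ := IsPGroup.iff_orderOf.1 hpV ⟨v, (mem_inf.1 hv).1⟩
    rw [Subgroup.orderOf_mk] at hk
    have hk0 : k ≠ 0 := fun e => hv1 (orderOf_eq_one_iff.1 (by rw [hk, e, pow_zero]))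
    have hlp : l ≠ p := by
      intro e
      have := hA l hl (hla.trans (orderOf_dvd_natCard A ha))
      simp only [Set.mem_insert_iff, Set.mem_singleton_iff] at this
      rcases this with rfl | rfl
      · exact hqp e
      · exact hrp e
    have hc : Commute a v := (mem_centralizer_singleton_iff.1 (mem_inf.1 hv).2).symm
    exact core h hl hp hlp (Commute.pow_pow hc (orderOf a / l) (orderOf v / p))
      (orderOf_pow_orderOf_div (orderOf_pos a).ne' hla)
      (orderOf_pow_orderOf_div (orderOf_pos v).ne' (hk ▸ dvd_pow_self p hk0))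
  have hAV : A ≤ normalizer (V : Set G) := by rw [normalizer_eq_top]; exact le_top
  set M' := M.map A.subtype with hM'
  have hM'A : M' ≤ A := map_subtype_le _
  haveI : Group.IsSolvable M := inferInstance
  haveI hMc := isMulCommutative_of_minimal_solvable hM inferInstance
  haveI : IsMulCommutative M' := map_isMulCommutative M A.subtype
  obtain ⟨s, hs, hexp, -⟩ := exists_prime_exponent_of_minimal_solvable hM inferInstance
  haveI := isCyclic_of_fpf_abelian (A := M') hV (hM'A.trans hAV) (fun a ha => hfpf a (hM'A ha))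
  obtain ⟨t, ht⟩ := IsCyclic.exists_generator (α := M')
  obtain ⟨t0, ht0, htt⟩ := t.2
  have hMne : M ≠ ⊥ := hM.2.1
  have ht1 : t0 ≠ 1 := by
    intro e
    refine hMne (eq_bot_iff.2 fun m hm => ?_)
    have hm' := ht ⟨A.subtype m, mem_map_of_mem _ hm⟩
    have : t = 1 := Subtype.ext (by rw [← htt, e, map_one, OneMemClass.coe_one])
    rw [this, zpowers_one_eq_bot, mem_bot] at hm'
    exact mem_bot.2 (Subtype.ext (congrArg Subtype.val hm' :))
  have hto : orderOf t0 = q := by
    have h1 := orderOf_dvd_of_pow_eq_one (hexp t0 ht0)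
    obtain ⟨k, hk⟩ := IsPGroup.iff_orderOf.1 hMq ⟨t0, ht0⟩
    rw [Subgroup.orderOf_mk] at hk
    have hk0 : k ≠ 0 := fun e => ht1 (orderOf_eq_one_iff.1 (by rw [hk, e, pow_zero]))
    rcases (Nat.dvd_prime hs).1 h1 with h | h
    · exact absurd (orderOf_eq_one_iff.1 h) ht1
    · have := (Nat.prime_dvd_prime_iff_eq hq hs).1 (h ▸ hk ▸ dvd_pow_self q hk0)
      rw [h, this]
  have hcardM : Nat.card M' = q := by
    rw [← orderOf_eq_card_of_forall_mem_zpowers ht, ← hto, ← Subgroup.orderOf_coe]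
    show orderOf (t : G) = _
    rw [← htt]
    exact Subgroup.orderOf_coe t0
  obtain ⟨x, hx⟩ := exists_prime_orderOf_dvd_card' (G := A) r hrA
  haveI := hM.1
  set L := zpowers (x : G) ⊔ M'
  have hxo : orderOf (x : G) = r := by rw [Subgroup.orderOf_coe, hx]
  have hxN : zpowers (x : G) ≤ normalizer (M' : Set G) := by
    rw [zpowers_le, mem_normalizer_iff]
    intro m
    constructor
    · rintro ⟨m0, hm0, rfl⟩
      exact ⟨x * m0 * x⁻¹, hM.1.conj_mem m0 hm0 x, rfl⟩
    · rintro ⟨m0, hm0, e⟩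
      refine ⟨x⁻¹ * m0 * x, by simpa using hM.1.conj_mem m0 hm0 x⁻¹, ?_⟩
      show (x : G)⁻¹ * A.subtype m0 * (x : G) = m
      rw [e]; group
  have hcardL : Nat.card L = r * q := by
    rw [card_sup_of_le_normalizer hxN, Nat.card_zpowers, hxo, hcardM]
    rw [Nat.card_zpowers, hxo, hcardM]
    exact (Nat.coprime_primes hr hq).2 (Ne.symm hqr)
  have hLA : L ≤ A := sup_le (zpowers_le.2 x.2) hM'A
  haveI := isCyclic_of_fpf_card_eq_mul (A := L) hV (hLA.trans hAV) (fun a ha => hfpf a (hLA ha)) hr hq hcardL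
  letI : CommGroup L := IsCyclic.commGroup
  have hc : Commute (x : G) t0 := congrArg Subtype.val
    (mul_comm (⟨x, mem_sup_left (mem_zpowers _)⟩ : L) ⟨t0, mem_sup_right (mem_map_of_mem _ ht0)⟩)
  exact core h hr hq (Ne.symm hqr) hc hxo (by rw [Subgroup.orderOf_coe, hto])


/-- Let G be a finite solvable group such that the order of every element is a prime power (1 included). Then at most two distinct primes divide the order of G. -/
theorem result {G : Type*} [Group G] [Finite G] [Group.IsSolvable G] (h : ∀ g : G, IsPrimePow (orderOf g) ∨ g = 1) :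
    (Nat.card G).primeFactors.card ≤ 2 := by
  classical
  open Subgroup CfsgLib.Solv in
  by_contra hc
  open Subgroup CfsgLib.Solv in
  haveI : Nontrivial G := by
    rw [← Finite.one_lt_card_iff_nontrivial]
    by_contra h1
    have : Nat.card G = 1 := by have := Nat.card_pos (α := G); omega
    rw [this] at hc
    simp at hc
  obtain ⟨V, p, hp, hV, hVc, -, hpV⟩ := CfsgLib.Solv.exists_minimal_normal_pGroup (G := G)
  haveI := hV.1
  haveI := hVc
  obtain ⟨q, hq, r, hr, hqr⟩ := Finset.one_lt_card.1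
    (by have := Finset.pred_card_le_card_erase (a := p) (s := (Nat.card G).primeFactors); omega :
      1 < ((Nat.card G).primeFactors.erase p).card)
  rw [Finset.mem_erase, Nat.mem_primeFactors] at hq hr
  obtain ⟨A, hA, hAi⟩ := CfsgLib.Solv.exists_hall (π := ({q, r} : Set ℕ)) (CfsgLib.Solv.PiSolvable.of_isSolvable (G := G) _)
  have hdvd : ∀ l : ℕ, l.Prime → l ∈ ({q, r} : Set ℕ) → l ∣ Nat.card G → l ∣ Nat.card A := fun l hl hm hd => by
    rw [← A.card_mul_index] at hd
    exact (hl.dvd_mul.1 hd).resolve_right fun h => hAi l hl h hm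
  have hqA := hdvd q hq.2.1 (by simp) hq.2.2.1
  have hrA := hdvd r hr.2.1 (by simp) hr.2.2.1
  haveI : Nontrivial A := Finite.one_lt_card_iff_nontrivial.1
    (lt_of_lt_of_le hq.2.1.one_lt (Nat.le_of_dvd Nat.card_pos hqA))
  obtain ⟨M, s, hs, hM, -, -, hMs⟩ := CfsgLib.Solv.exists_minimal_normal_pGroup (G := A)
  haveI := Fact.mk hs
  obtain ⟨k, hk⟩ := IsPGroup.iff_card.1 hMs
  have hk0 : k ≠ 0 := fun e => hM.2.1 (Subgroup.eq_bot_of_card_eq M (by rw [hk, e, pow_zero]))
  have hsA : s ∣ Nat.card A := (hk ▸ dvd_pow_self s hk0).trans (Subgroup.card_subgroup_dvd_card M)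
  have := hA s hs hsA
  simp only [Set.mem_insert_iff, Set.mem_singleton_iff] at this
  rcases this with rfl | rfl
  · exact two_primes h hV.2.1 hp hpV hq.2.1 hr.2.1 hqr hq.1 hr.1 A hA M hM hMs hrA
  · exact two_primes h hV.2.1 hp hpV hr.2.1 hq.2.1 (Ne.symm hqr) hr.1 hq.1 A
      (by rwa [Set.pair_comm]) M hM hMs hqA

end Cfsg.Agent.S1475
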