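import Cfsg.Statements.S1476
import Cfsg.Agent.OddLocal.CNSolvable

set_option autoImplicit false
open Cfsg

namespace Cfsg.Agent.S1476

/-- Let G be a finite solvable group in which every non-identity element has nilpotent centralizer. Then either G is nilpotent; or G has a normal subgroup K with a Frobenius complement E (K E = G, K ∩ E = 1, E meets its conjugates by outside elements trivially) such that E is cyclic or E is generated by two elementwise-commuting subgroups, one cyclic of odd order and one isomorphic to a generalized quaternion group; or G is a three-step group with respect to some prime p. -/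
theorem result {G : Type*} [Group G] [Finite G] [Group.IsSolvable G] (hCN : Cfsg.IsCNGroup G) :
    Group.IsNilpotent G ∨
      (∃ K E : Subgroup G, K.Normal ∧ Subgroup.IsComplement' K E ∧ Cfsg.IsFrobeniusComplement E ∧
        (IsCyclic E ∨ ∃ C Q : Subgroup G, C ⊔ Q = E ∧ (∀ a ∈ C, ∀ b ∈ Q, a * b = b * a) ∧ IsCyclic C ∧ Odd (Nat.card C) ∧
          ∃ n : ℕ, Nonempty (↥Q ≃* QuaternionGroup (2 ^ n)))) ∨
      ∃ p : ℕ, p.Prime ∧ Cfsg.IsThreeStepGroup p G := by
  by_cases hnn : Group.IsNilpotent G
  · exact Or.inl hnn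
  right
  haveI hFN : (fittingSubgroup G).Normal := CfsgLib.Solv.fittingSubgroup_normal G
  have hFn : Group.IsNilpotent (fittingSubgroup G) := CfsgLib.Solv.fittingSubgroup_isNilpotent
  have hne : fittingSubgroup G ≠ ⊥ := by
    intro h
    have hC := CfsgLib.Solv.centralizer_fittingSubgroup_le (G := G)
    rw [h] at hC
    refine hnn ?_
    haveI : Subsingleton G := ⟨fun a b => by
      have key : ∀ c : G, c = 1 := fun c => Subgroup.mem_bot.1 (hC (Subgroup.mem_centralizer_iff.2
        fun m hm => by rw [SetLike.mem_coe, Subgroup.mem_bot] at hm; rw [hm, one_mul, mul_one]))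
      rw [key a, key b]⟩
    infer_instance
  suffices hh : ((Nat.card (fittingSubgroup G)).Coprime (fittingSubgroup G).index ∧
      ∀ x ∈ fittingSubgroup G, x ≠ 1 →
        Subgroup.centralizer ({x} : Set G) ≤ fittingSubgroup G) ∨
      ∃ p, p.Prime ∧ IsThreeStepGroup p G by
    rcases hh with ⟨hcop, hC⟩ | h
    · obtain ⟨E, hE, hfr, -, -, hst⟩ := CfsgLib.OddLocal.CN.frobenius_case hCN hnn hFn hne hcop hC
      exact Or.inl ⟨fittingSubgroup G, E, hFN, hE, hfr, hst⟩
    · exact Or.inr h
  by_cases hpp : IsPrimePow (Nat.card (fittingSubgroup G))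
  · obtain ⟨r, k, hr, hk, hrk⟩ := hpp
    have hr' := Nat.prime_iff.2 hr
    haveI := Fact.mk hr'
    have hFp : IsPGroup r (fittingSubgroup G) := IsPGroup.of_card (n := k) hrk.symm
    by_cases hidx : r ∣ (fittingSubgroup G).index
    · exact Or.inr ⟨r, hr', CfsgLib.OddLocal.CN.three_step hCN hFp hne hidx⟩
    · exact Or.inl (CfsgLib.OddLocal.CN.hall_of_sylow hCN hFp
        CfsgLib.Solv.centralizer_fittingSubgroup_le hidx)
  · exact Or.inl (CfsgLib.OddLocal.CN.hall_of_not_isPrimePow hCN hpp hne)

end Cfsg.Agent.S1476
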