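import Cfsg.Statements.S1477
import Cfsg.Agent.S1473

set_option autoImplicit false
open Cfsg

namespace Cfsg.Agent.S1477

universe u

open Subgroup Cfsg.Agent.S1473
open scoped Pointwise

variable {G : Type u} [Group G] [Finite G]

theorem le_of_prime_power_elements (C D : Subgroup G)
    (h : ∀ l : ℕ, l.Prime → ∀ c ∈ C, (∃ k : ℕ, orderOf c = l ^ k) → c ∈ D) : C ≤ D := by
  set E := D.subgroupOf C
  suffices E = ⊤ from fun c hc => (this ▸ mem_top (⟨c, hc⟩ : C) : (⟨c, hc⟩ : C) ∈ E)
  rw [← index_eq_one]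
  by_contra hne
  obtain ⟨l, hl, hld⟩ := Nat.exists_prime_and_dvd hne
  haveI := Fact.mk hl
  obtain ⟨S⟩ : Nonempty (Sylow l C) := inferInstance
  refine S.not_dvd_index (hld.trans (index_dvd_of_le fun c hc => mem_subgroupOf.2 ?_))
  obtain ⟨k, hk⟩ := IsPGroup.iff_orderOf.1 S.isPGroup' ⟨c, hc⟩
  rw [Subgroup.orderOf_mk] at hk
  exact h l hl c c.2 ⟨k, by rw [Subgroup.orderOf_coe, hk]⟩

variable {H : Subgroup G}

theorem central_eq (hCN : Cfsg.IsCNGroup G)
    (hmax : ∀ L : Subgroup G, Group.IsNilpotent L → H ≤ L → L = H) {z : G} (hz : z ≠ 1)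
    (hzc : ∀ h ∈ H, Commute h z) : centralizer ({z} : Set G) = H :=
  hmax _ (hCN z hz) fun h hh => mem_centralizer_singleton_iff.2 (hzc h hh).eq

theorem exists_central (hH : Group.IsNilpotent H) {p : ℕ} [Fact p.Prime] (hp : p ∣ Nat.card H) :
    ∃ z ∈ H, z ≠ 1 ∧ (∃ k : ℕ, orderOf z = p ^ k) ∧ ∀ h ∈ H, Commute h z := by
  haveI := hH
  obtain ⟨P⟩ : Nonempty (Sylow p H) := inferInstance
  haveI hPn : (P : Subgroup H).Normal :=
    ((Group.isNilpotent_of_finite_tfae (G := H)).out 0 3 rfl rfl).1 (inferInstance : Group.IsNilpotent H) p inferInstance P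
  haveI : Nontrivial (P : Subgroup H) := (Subgroup.nontrivial_iff_ne_bot _).2 (P.ne_bot_of_dvd_card hp)
  haveI := P.isPGroup'.center_nontrivial
  obtain ⟨⟨w, hw⟩, hw1⟩ := exists_ne (1 : center (P : Subgroup H))
  obtain ⟨k, hk⟩ := IsPGroup.iff_orderOf.1 P.isPGroup' w
  have hall : (⊤ : Subgroup H) ≤ centralizer ({(w : H)} : Set H) := by
    refine le_of_prime_power_elements _ _ fun l hl c _ hc => mem_centralizer_singleton_iff.2 ?_
    obtain ⟨j, hj⟩ := hc
    by_cases hlp : l = p
    · subst hlp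
      obtain ⟨Q, hQ⟩ := (IsPGroup.of_card (n := j) (by rw [Nat.card_zpowers, hj]) :
        IsPGroup l (zpowers c)).exists_le_sylow
      haveI := Sylow.unique_of_normal P hPn
      have hQP : Q = P := Subsingleton.elim _ _
      exact congrArg Subtype.val (mem_center_iff.1 hw ⟨c, hQP ▸ hQ (mem_zpowers c)⟩)
    · exact (commute_coprime (p := p) (a := (w : H)) (b := c) ⟨k, by rw [Subgroup.orderOf_coe, hk]⟩
        (by rw [hj]; exact ((Nat.coprime_primes hl Fact.out).2 hlp).pow_left j)).symm.eq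
  refine ⟨((w : H) : G), (w : H).2, fun e => hw1 (Subtype.ext (Subtype.ext (Subtype.ext e))),
    ⟨k, by rw [Subgroup.orderOf_coe, Subgroup.orderOf_coe, hk]⟩, fun h hh => ?_⟩
  exact congrArg Subtype.val (mem_centralizer_singleton_iff.1 (hall (mem_top (⟨h, hh⟩ : H))))

theorem hall (hCN : Cfsg.IsCNGroup G) (hH : Group.IsNilpotent H)
    (hmax : ∀ L : Subgroup G, Group.IsNilpotent L → H ≤ L → L = H) :
    (Nat.card H).Coprime H.index := by
  refine Nat.coprime_of_dvd fun p hp hpH hpi => ?_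
  haveI := Fact.mk hp
  obtain ⟨P⟩ : Nonempty (Sylow p H) := inferInstance
  obtain ⟨Q, hQ⟩ := (P.isPGroup'.map H.subtype).exists_le_sylow
  obtain ⟨w, hwH, hw1, ⟨k, hk⟩, hwc⟩ := exists_central hH hpH
  haveI : Nontrivial (Q : Subgroup G) := (Subgroup.nontrivial_iff_ne_bot _).2
    (Q.ne_bot_of_dvd_card (hpH.trans (card_subgroup_dvd_card H)))
  haveI := Q.isPGroup'.center_nontrivial
  obtain ⟨⟨z, hz⟩, hz1⟩ := exists_ne (1 : center (Q : Subgroup G))
  have hwQ : w ∈ (Q : Subgroup G) := by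
    haveI := hH
    haveI hPn : (P : Subgroup H).Normal :=
      ((Group.isNilpotent_of_finite_tfae (G := H)).out 0 3 rfl rfl).1 (inferInstance : Group.IsNilpotent H) p inferInstance P
    haveI := Sylow.unique_of_normal P hPn
    obtain ⟨R, hR⟩ := (IsPGroup.of_card (n := k) (by rw [Nat.card_zpowers, Subgroup.orderOf_mk, hk]) :
      IsPGroup p (zpowers (⟨w, hwH⟩ : H))).exists_le_sylow
    have hRP : R = P := Subsingleton.elim _ _
    exact hQ (mem_map_of_mem H.subtype (hRP ▸ hR (mem_zpowers _) : (⟨w, hwH⟩ : H) ∈ (P : Subgroup H)))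
  have hzH : (z : G) ∈ H := by
    rw [← central_eq hCN hmax hw1 hwc]
    exact mem_centralizer_singleton_iff.2 (congrArg Subtype.val (mem_center_iff.1 hz ⟨w, hwQ⟩)).symm
  have hzc : ∀ h ∈ H, Commute h (z : G) := by
    haveI := hH
    intro h hh
    have hall : (⊤ : Subgroup H) ≤ centralizer ({(⟨z, hzH⟩ : H)} : Set H) := by
      refine le_of_prime_power_elements _ _ fun l hl c _ hc => mem_centralizer_singleton_iff.2 ?_
      obtain ⟨j, hj⟩ := hc
      by_cases hlp : l = p
      · subst hlp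
        obtain ⟨R, hR⟩ := (IsPGroup.of_card (n := j) (by rw [Nat.card_zpowers, hj]) :
          IsPGroup l (zpowers c)).exists_le_sylow
        haveI hPn : (P : Subgroup H).Normal :=
          ((Group.isNilpotent_of_finite_tfae (G := H)).out 0 3 rfl rfl).1 (inferInstance : Group.IsNilpotent H) l inferInstance P
        haveI := Sylow.unique_of_normal P hPn
        have hRP : R = P := Subsingleton.elim _ _
        have hcQ : (c : G) ∈ (Q : Subgroup G) := hQ (mem_map_of_mem H.subtype (hRP ▸ hR (mem_zpowers c)))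
        exact Subtype.ext (congrArg Subtype.val (mem_center_iff.1 hz ⟨c, hcQ⟩) :)
      · obtain ⟨i, hi⟩ := IsPGroup.iff_orderOf.1 Q.isPGroup' z
        exact (commute_coprime (p := p) (a := (⟨z, hzH⟩ : H)) (b := c)
          ⟨i, by rw [Subgroup.orderOf_mk, Subgroup.orderOf_coe, hi]⟩
          (by rw [hj]; exact ((Nat.coprime_primes hl Fact.out).2 hlp).pow_left j)).symm.eq
    exact congrArg Subtype.val (mem_centralizer_singleton_iff.1 (hall (mem_top (⟨h, hh⟩ : H))))
  have hQH : (Q : Subgroup G) ≤ H := fun q hq => by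
    rw [← central_eq hCN hmax (fun e => hz1 (Subtype.ext (Subtype.ext e))) hzc]
    exact mem_centralizer_singleton_iff.2 (congrArg Subtype.val (mem_center_iff.1 hz ⟨q, hq⟩))
  exact Q.not_dvd_index (hpi.trans (index_dvd_of_le hQH))

theorem centralizer_le (hCN : Cfsg.IsCNGroup G) (hH : Group.IsNilpotent H)
    (hmax : ∀ L : Subgroup G, Group.IsNilpotent L → H ≤ L → L = H)
    (hnp : ¬ IsPrimePow (Nat.card H)) (hne : Nat.card H ≠ 1) {x : G} (hx : x ∈ H) (hx1 : x ≠ 1) :
    centralizer ({x} : Set G) ≤ H := by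
  obtain ⟨p, hp, hpx⟩ := Nat.exists_prime_and_dvd (n := orderOf x) (by rwa [Ne, orderOf_eq_one_iff])
  haveI := Fact.mk hp
  have hpH : p ∣ Nat.card H := hpx.trans (orderOf_dvd_natCard H hx)
  obtain ⟨q, hq, hqH, hqp⟩ : ∃ q, q.Prime ∧ q ∣ Nat.card H ∧ q ≠ p := by
    by_contra! hh
    refine hnp ?_
    have := Nat.eq_prime_pow_of_unique_prime_dvd (n := Nat.card H) (p := p) Nat.card_pos.ne'
      fun {d} hd hdd => hh d hd hdd
    rw [this]
    refine hp.isPrimePow.pow ?_
    intro e
    rw [e, pow_zero] at this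
    exact hne this
  haveI := Fact.mk hq
  set x0 := x ^ (orderOf x / p) with hx0
  have hx0o : orderOf x0 = p := orderOf_pow_orderOf_div (orderOf_pos x).ne' hpx
  have hx01 : x0 ≠ 1 := fun e => by rw [e, orderOf_one] at hx0o; exact hp.ne_one hx0o.symm
  have hx0H : x0 ∈ H := H.pow_mem hx _
  obtain ⟨z, hzH, hz1, hzo, hzc⟩ := exists_central hH hpH
  obtain ⟨y, hyH, hy1, ⟨i, hyo⟩, hyc⟩ := exists_central hH hqH
  intro c hc
  have hc0 : Commute c x0 := (show Commute c x from mem_centralizer_singleton_iff.1 hc).pow_right _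
  suffices centralizer ({x0} : Set G) ≤ H from this (mem_centralizer_singleton_iff.2 hc0.eq)
  refine le_of_prime_power_elements _ _ fun l hl c hc ⟨j, hj⟩ => ?_
  have hcx : Commute c x0 := mem_centralizer_singleton_iff.1 hc
  by_cases hlp : l = p
  · subst hlp
    rw [← central_eq hCN hmax hy1 hyc]
    refine mem_centralizer_singleton_iff.2 ?_
    exact (commute_in_centralizer hCN hx01 hcx (hyc x0 hx0H).symm ⟨j, hj⟩
      (by rw [hyo]; exact ((Nat.coprime_primes hq hl).2 hqp).pow_left i)).eq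
  · rw [← central_eq hCN hmax hz1 hzc]
    refine mem_centralizer_singleton_iff.2 ?_
    exact (commute_in_centralizer hCN hx01 (hzc x0 hx0H).symm hcx hzo
      (by rw [hj]; exact ((Nat.coprime_primes hl hp).2 hlp).pow_left j)).symm.eq


/-- Let G be a finite group in which every non-identity element has nilpotent centralizer, and H a nilpotent subgroup not properly contained in any nilpotent subgroup. Then the order of H is coprime to its index; if the order of H is not a prime power then H ∩ gHg⁻¹ = 1 whenever gHg⁻¹ ≠ H; and if H ∩ gHg⁻¹ = 1 whenever gHg⁻¹ ≠ H, then C_G(x) ≤ H for every non-identity x ∈ H. -/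
theorem result {G : Type*} [Group G] [Finite G] (hCN : Cfsg.IsCNGroup G) (H : Subgroup G) (hH : Group.IsNilpotent H)
    (hmax : ∀ L : Subgroup G, Group.IsNilpotent L → H ≤ L → L = H) :
    (Nat.card H).Coprime H.index ∧
      (¬ IsPrimePow (Nat.card H) → Nat.card H ≠ 1 → ∀ g : G, H.map (MulAut.conj g).toMonoidHom ≠ H → H ⊓ H.map (MulAut.conj g).toMonoidHom = ⊥) ∧
      ((∀ g : G, H.map (MulAut.conj g).toMonoidHom ≠ H → H ⊓ H.map (MulAut.conj g).toMonoidHom = ⊥) → ∀ x ∈ H, x ≠ 1 → Subgroup.centralizer ({x} : Set G) ≤ H) := by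
  open Subgroup in
  refine ⟨hall hCN hH hmax, fun hnp hne g hg => ?_, fun hTI x hx hx1 => ?_⟩
  · set H' := H.map (MulAut.conj g).toMonoidHom with hH'
    by_contra hbot
    obtain ⟨⟨x, hxH, hxH'⟩, hx1⟩ := Subgroup.ne_bot_iff_exists_ne_one.1 hbot
    have hx1' : x ≠ 1 := fun e => hx1 (Subtype.ext e)
    obtain ⟨p, hp, hpH⟩ := Nat.exists_prime_and_dvd (n := Nat.card H) hne
    haveI := Fact.mk hp
    obtain ⟨y, hyH, hy1, -, hyc⟩ := exists_central hH hpH
    obtain ⟨x', hx', hxx⟩ := hxH'
    have hy' : MulAut.conj g y ∈ H := by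
      refine centralizer_le hCN hH hmax hnp hne hxH hx1' (Subgroup.mem_centralizer_singleton_iff.2 ?_)
      rw [← hxx]
      show MulAut.conj g y * MulAut.conj g x' = MulAut.conj g x' * MulAut.conj g y
      rw [← map_mul, ← map_mul, (hyc x' hx').eq]
    have hle : H' ≤ H := by
      rintro _ ⟨h, hh, rfl⟩
      refine centralizer_le hCN hH hmax hnp hne hy' (fun e => hy1 (by simpa using e))
        (Subgroup.mem_centralizer_singleton_iff.2 ?_)
      show MulAut.conj g h * MulAut.conj g y = MulAut.conj g y * MulAut.conj g h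
      rw [← map_mul, ← map_mul, (hyc h hh).eq]
    refine hg (Subgroup.eq_of_le_of_card_ge hle ?_)
    rw [hH', Subgroup.card_map_of_injective (MulAut.conj g).injective]
  · refine le_of_prime_power_elements _ _ fun l hl c hc ⟨j, hj⟩ => ?_
    haveI := Fact.mk hl
    have hcx : Commute c x := Subgroup.mem_centralizer_singleton_iff.1 hc
    have hmap : H.map (MulAut.conj c).toMonoidHom = H := by
      by_contra hne
      have hmem : x ∈ H ⊓ H.map (MulAut.conj c).toMonoidHom :=
        ⟨hx, ⟨x, hx, by simp [hcx.eq]⟩⟩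
      rw [hTI c hne, Subgroup.mem_bot] at hmem
      exact hx1 hmem
    have hcN : c ∈ Subgroup.normalizer (H : Set G) := by
      rw [Subgroup.mem_normalizer_iff]
      intro t
      constructor
      · intro ht
        exact hmap ▸ (⟨t, ht, rfl⟩ : c * t * c⁻¹ ∈ H.map (MulAut.conj c).toMonoidHom)
      · intro ht
        obtain ⟨s, hs, hse⟩ := (hmap.symm ▸ ht : c * t * c⁻¹ ∈ H.map (MulAut.conj c).toMonoidHom)
        have : s = t := (MulAut.conj c).injective hse
        exact this ▸ hs
    by_cases hlH : l ∣ Nat.card H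
    · -- a normal Hall subgroup of its normalizer absorbs c
      set N := Subgroup.normalizer (H : Set G)
      set H0 := H.subgroupOf N with hH0
      haveI : H0.Normal := Subgroup.normal_in_normalizer
      have hli : ¬ l ∣ H0.index := fun hd => hl.not_dvd_one (hall hCN hH hmax ▸
        Nat.dvd_gcd hlH (hd.trans (Dvd.intro _ (Subgroup.relIndex_mul_index Subgroup.le_normalizer))))
      refine (QuotientGroup.eq_one_iff (N := H0) (⟨c, hcN⟩ : N)).1 (orderOf_eq_one_iff.1 ?_)
      refine Nat.eq_one_of_dvd_coprimes (a := H0.index) (b := l ^ j) ?_ ?_ ?_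
      · exact ((hl.coprime_iff_not_dvd.2 hli).pow_left j).symm
      · rw [Subgroup.index_eq_card]; exact orderOf_dvd_natCard _
      · exact (orderOf_map_dvd (QuotientGroup.mk' H0) _).trans (by rw [Subgroup.orderOf_mk, hj])
    · obtain ⟨p, hp, hpH⟩ := Nat.exists_prime_and_dvd (n := Nat.card H) (fun e => hx1 (by
        have := Subgroup.eq_bot_of_card_eq H e
        rw [this, Subgroup.mem_bot] at hx
        exact hx))
      haveI := Fact.mk hp
      obtain ⟨z, hzH, hz1, ⟨i, hzo⟩, hzc⟩ := exists_central hH hpH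
      rw [← central_eq hCN hmax hz1 hzc]
      refine Subgroup.mem_centralizer_singleton_iff.2 ?_
      exact (Cfsg.Agent.S1473.commute_in_centralizer hCN hx1 hcx (hzc x hx).symm ⟨j, hj⟩
        (by rw [hzo]; exact ((Nat.coprime_primes hp hl).2 (fun e => hlH (e ▸ hpH))).pow_left i)).eq

end Cfsg.Agent.S1477
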