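import Cfsg.Statements.S1480
import Cfsg.Agent.OddLocal.ThompsonTrans

set_option autoImplicit false
open Cfsg
open scoped commutatorElement

namespace Cfsg.Agent.S1480

/-- Let G be a finite group and p a prime such that the normalizer of every nontrivial p-subgroup of G is p-constrained; if p = 2 assume also that the Sylow 2-subgroups of G have nilpotency class at most 2. Let E be an abelian p-subgroup containing an elementary abelian subgroup of order p ^ 3 and containing every element of p-power order of C_G(E). Then for every prime q ≠ p, any two maximal E-invariant q-subgroups of G are conjugate by an element of O_{p'}(C_G(E)). -/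
theorem result {G : Type*} [Group G] [Finite G] (p : ℕ) [Fact p.Prime]
    (hloc : ∀ T : Subgroup G, IsPGroup p T → T ≠ ⊥ → Cfsg.IsPConstrained p ↥(Subgroup.normalizer (T : Set G)))
    (h2 : p = 2 → ∀ S : Sylow p G, Group.IsNilpotent (S : Subgroup G) ∧ Group.nilpotencyClass (S : Subgroup G) ≤ 2)
    (E : Subgroup G) (hEp : IsPGroup p E) (hEc : IsMulCommutative E) (hE3 : ¬ Cfsg.PRankLE p 2 E)
    (hEfull : ∀ x ∈ Subgroup.centralizer (E : Set G), IsPGroup p (Subgroup.zpowers x) → x ∈ E)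
    (q : ℕ) [Fact q.Prime] (hqp : q ≠ p) :
    ∀ Q₁ ∈ Cfsg.maxInvSubgroups ⊤ E {q}, ∀ Q₂ ∈ Cfsg.maxInvSubgroups ⊤ E {q},
        ∃ k ∈ Cfsg.piCoreOf (Cfsg.primesNotDvd p) (Subgroup.centralizer (E : Set G)), Q₂ = Q₁.map (MulAut.conj k).toMonoidHom := by
  classical
  obtain ⟨A, hAc, hAp, hAcard⟩ : ∃ A : Subgroup E, IsMulCommutative A ∧ (∀ a ∈ A, a ^ p = 1) ∧
      p ^ 2 < Nat.card A := by
    by_contra h
    refine hE3 fun A hA hAp => ?_
    by_contra h'
    exact h ⟨A, hA, hAp, by omega⟩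
  set B := A.map E.subtype with hB
  have hBel : Cfsg.IsElementaryAbelian p B := by
    refine ⟨⟨⟨fun a b => ?_⟩⟩, ?_⟩
    · obtain ⟨x, hx, hxa⟩ := a.2
      obtain ⟨y, hy, hyb⟩ := b.2
      refine Subtype.ext ?_
      show (a : G) * b = b * a
      rw [← hxa, ← hyb]
      exact congrArg (fun t : E => (t : G)) (congrArg Subtype.val (hAc.is_comm.comm ⟨x, hx⟩ ⟨y, hy⟩))
    · rintro _ ⟨x, hx, rfl⟩
      rw [← map_pow, hAp x hx, map_one]
  have hBp : IsPGroup p B := fun v => ⟨1, by rw [pow_one]; exact Subtype.ext (hBel.2 v v.2)⟩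
  have hB3 : p ^ 3 ≤ Nat.card B := by
    rw [hB, CfsgLib.Solv.card_map_subtype]
    obtain ⟨k, hk⟩ := IsPGroup.iff_card.1 (hBp.of_equiv (A.equivMapOfInjective _ E.subtype_injective).symm)
    rw [hk] at hAcard ⊢
    exact Nat.pow_le_pow_right (Fact.out : p.Prime).pos
      ((Nat.pow_lt_pow_iff_right (Fact.out : p.Prime).one_lt).1 hAcard)
  have h2' : p = 2 → ∀ S : Subgroup G, IsPGroup p S → ∀ a ∈ S, ∀ b ∈ S, ∀ c ∈ S,
      Commute ⁅a, b⁆ c := by
    intro hp2 S hS a ha b hb c hc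
    obtain ⟨P, hSP⟩ := hS.exists_le_sylow
    obtain ⟨hnil, hcl⟩ := h2 hp2 P
    haveI := hnil
    have h3 := Subgroup.lowerCentralSeries_eq_bot_of_nilpotencyClass_le hcl
    rw [← Subgroup.mem_bot.trans commutatorElement_eq_one_iff_commute]
    rw [← h3]
    show ⁅⁅a, b⁆, c⁆ ∈ (P : Subgroup G).lowerCentralSeries 2
    rw [Subgroup.lowerCentralSeries_succ, Subgroup.lowerCentralSeries_succ]
    exact Subgroup.commutator_mem_commutator (Subgroup.commutator_mem_commutator
      (by rw [Subgroup.lowerCentralSeries_zero]; exact hSP ha) (hSP hb)) (hSP hc)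
  have hfull : ∀ x ∈ Subgroup.centralizer (E : Set G), (∃ j : ℕ, x ^ p ^ j = 1) → x ∈ E := by
    rintro x hx ⟨j, hj⟩
    refine hEfull x hx ?_
    obtain ⟨i, -, hi⟩ := (Nat.dvd_prime_pow (Fact.out : p.Prime)).1 (orderOf_dvd_of_pow_eq_one hj)
    exact IsPGroup.of_card (n := i) (by rw [Nat.card_zpowers, hi])
  intro Q₁ h₁ Q₂ h₂
  exact CfsgLib.OddLocal.ThompsonTrans.transitive p hloc h2' E hEp hEc (Subgroup.map_subtype_le A) hBel hB3
    hfull q hqp h₁ h₂

end Cfsg.Agent.S1480
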