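import Cfsg.Statements.S1481
import Cfsg.Agent.OddLocal.LocalInvariant
import Cfsg.Agent.OddLocal.Transitivity

set_option autoImplicit false
open Cfsg

namespace Cfsg.Agent.S1481

open CfsgLib.Solv CfsgLib.OddLocal

/-- Let G be a finite group and H a local subgroup (the normalizer of a nontrivial subgroup of prime-power order) not properly contained in any local subgroup; let F = F(H), suppose at least two primes divide #F, put X = H ∩ C_G(F), let M ≤ F with F ∩ C_G(M) ≤ M, and let R be a solvable subgroup normalized by M and by X. Then for every prime q not dividing #F there is exactly one maximal M-invariant q-subgroup of R, and it is a Sylow q-subgroup of the largest normal subgroup of R of order coprime to #F. -/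
theorem result {G : Type*} [Group G] [Finite G] (H : Subgroup G) (hH : Cfsg.IsLocalSubgroup H) (hHmax : ∀ L : Subgroup G, Cfsg.IsLocalSubgroup L → H ≤ L → L = H)
    (hF2 : 2 ≤ (Nat.card (Cfsg.fittingOf H)).primeFactors.card)
    (M : Subgroup G) (hM : M ≤ Cfsg.fittingOf H) (hCM : Cfsg.fittingOf H ⊓ Subgroup.centralizer (M : Set G) ≤ M)
    (R : Subgroup G) (hR : Group.IsSolvable R) (hMR : M ≤ Subgroup.normalizer (R : Set G))
    (hXR : H ⊓ Subgroup.centralizer (Cfsg.fittingOf H : Set G) ≤ Subgroup.normalizer (R : Set G))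
    (q : ℕ) [Fact q.Prime] (hq : ¬ q ∣ Nat.card (Cfsg.fittingOf H)) :
    ∃! Q : Subgroup G, Q ∈ Cfsg.maxInvSubgroups R M {q} ∧
      (∀ Q' : Subgroup G, Q' ∈ Cfsg.maxInvSubgroups R M {q} →
        Q' ≤ Cfsg.piCoreOf (Cfsg.primesNotDvd (Nat.card (Cfsg.fittingOf H))) R ∧
        ¬ q ∣ Q'.relIndex (Cfsg.piCoreOf (Cfsg.primesNotDvd (Nat.card (Cfsg.fittingOf H))) R)) := by
  classical
  set F := fittingOf H with hF
  set O := piCoreOf (primesNotDvd (Nat.card F)) R with hO
  obtain ⟨hfirst, hle⟩ := LocalInv.inv_le H M R hH hHmax hF2 hM hCM hR hMR hXR q hq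
  have hMO : M ≤ Subgroup.normalizer (O : Set G) := hMR.trans (Trans.normalizes_piCoreOf _ _)
  have hOR : O ≤ R := Trans.piCoreOf_le _ _
  have hOc : (Nat.card F).Coprime (Nat.card O) :=
    Nat.coprime_of_dvd fun r hr h1 h2 => (Trans.piNat_piCoreOf (primesNotDvd (Nat.card F)) R r hr h2).2 h1
  have hcop : (Nat.card M).Coprime (Nat.card O) := hOc.coprime_dvd_left (Subgroup.card_dvd_of_le hM)
  have hs : Group.IsSolvable M ∨ Group.IsSolvable O := Or.inr (haveI := hR; isSolvable_of_le hOR)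
  have hinv : ∀ P : Sylow q O, M ≤ Subgroup.normalizer ((P : Subgroup O).map O.subtype : Set G) →
      (P : Subgroup O).map O.subtype ∈ invSubgroups R M {q} := by
    intro P hP
    refine ⟨(Subgroup.map_subtype_le _).trans hOR, fun r hr hd => ?_, hP⟩
    rw [card_map_subtype] at hd
    obtain ⟨k, hk⟩ := IsPGroup.iff_card.1 P.2
    rw [hk] at hd
    exact (Nat.prime_dvd_prime_iff_eq hr Fact.out).1 (hr.dvd_of_dvd_pow hd)
  have hmax : ∀ Q ∈ maxInvSubgroups R M {q}, ∃ P : Sylow q O,
      M ≤ Subgroup.normalizer ((P : Subgroup O).map O.subtype : Set G) ∧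
      (P : Subgroup O).map O.subtype = Q := by
    rintro Q ⟨hQ, hQm⟩
    obtain ⟨P, hQP, hP⟩ := exists_invariant_sylow_ge (p := q) hMO hcop hs (hle Q hQ)
      (Trans.inv_isPGroup hQ) hQ.2.2
    exact ⟨P, hP, hQm _ (hinv P hP) hQP⟩
  have hone : ∀ P P' : Sylow q O, M ≤ Subgroup.normalizer ((P : Subgroup O).map O.subtype : Set G) →
      M ≤ Subgroup.normalizer ((P' : Subgroup O).map O.subtype : Set G) → P = P' := by
    intro P P' hP hP'
    obtain ⟨c, hc, rfl⟩ := invariant_sylow_conj hMO hcop hs P P' hP hP'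
    have hU := hfirst (O ⊓ Subgroup.centralizer (M : Set G)) (inf_le_left.trans hOR) inf_le_right
      (hOc.symm.coprime_dvd_left (Subgroup.card_dvd_of_le inf_le_left))
    have hc1 : (c : G) ∈ (⊥ : Subgroup G) := hU ▸ ⟨c.2, hc⟩
    rw [Subgroup.mem_bot, OneMemClass.coe_eq_one] at hc1
    rw [hc1, one_smul]
  obtain ⟨P, -, hP⟩ := exists_invariant_sylow_ge (p := q) hMO hcop hs (U := ⊥) bot_le
    IsPGroup.of_bot (by rw [Subgroup.normalizer_eq_top_iff.2 (inferInstance : (⊥ : Subgroup G).Normal)]; exact le_top)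
  have hPmem : (P : Subgroup O).map O.subtype ∈ maxInvSubgroups R M {q} := by
    refine ⟨hinv P hP, fun Q hQ hPQ => le_antisymm ?_ hPQ⟩
    obtain ⟨P', hQP', hP'⟩ := exists_invariant_sylow_ge (p := q) hMO hcop hs (hle Q hQ)
      (Trans.inv_isPGroup hQ) hQ.2.2
    rwa [← hone P P' hP hP'] at hQP'
  refine ⟨_, ⟨hPmem, fun Q' hQ' => ?_⟩, fun Q hQ => ?_⟩
  · obtain ⟨P', hP', rfl⟩ := hmax Q' hQ'
    refine ⟨Subgroup.map_subtype_le _, ?_⟩
    have h1 : ((P' : Subgroup O).map O.subtype).relIndex O = (P' : Subgroup O).index := by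
      rw [Subgroup.relIndex, Subgroup.subgroupOf,
        Subgroup.comap_map_eq_self_of_injective O.subtype_injective]
    rw [h1]
    exact P'.not_dvd_index
  · obtain ⟨P', hP', rfl⟩ := hmax Q hQ.1
    rw [hone P P' hP hP']

end Cfsg.Agent.S1481
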