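import Cfsg.Statements.S1483
import Cfsg.Agent.OddLocal.MinSimpleCNStructure

set_option autoImplicit false
open Cfsg

namespace Cfsg.Agent.S1483

/-- Let G be a minimal simple group of odd order in which every non-identity element has nilpotent centralizer. Then any two nilpotent subgroups each contained in no larger nilpotent subgroup are either conjugate or of coprime orders; and for primes p, q, r: if some elements x, y ≠ 1 of p-power and q-power order commute, and some elements y', z ≠ 1 of q-power and r-power order commute, then some elements of p-power and r-power order, both ≠ 1, commute. -/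
theorem result {G : Type*} [Group G] [Finite G] (hG : Cfsg.IsMinSimpleOddOrder G) (hCN : Cfsg.IsCNGroup G) :
    (∀ H₁ H₂ : Subgroup G, (Group.IsNilpotent ↥H₁ ∧ ∀ L : Subgroup G, Group.IsNilpotent L → H₁ ≤ L → L = H₁) → (Group.IsNilpotent ↥H₂ ∧ ∀ L : Subgroup G, Group.IsNilpotent L → H₂ ≤ L → L = H₂) → (∃ g : G, H₂ = H₁.map (MulAut.conj g).toMonoidHom) ∨ (Nat.card H₁).Coprime (Nat.card H₂)) ∧
      ∀ (p q r : ℕ), p.Prime → q.Prime → r.Prime → ∀ (x y y' z : G), x ≠ 1 → y ≠ 1 → y' ≠ 1 → z ≠ 1 →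
        IsPGroup p (Subgroup.zpowers x) → IsPGroup q (Subgroup.zpowers y) → IsPGroup q (Subgroup.zpowers y') → IsPGroup r (Subgroup.zpowers z) →
        x * y = y * x → y' * z = z * y' →
        ∃ x' z' : G, x' ≠ 1 ∧ z' ≠ 1 ∧ IsPGroup p (Subgroup.zpowers x') ∧ IsPGroup r (Subgroup.zpowers z') ∧ x' * z' = z' * x' := by
  refine ⟨fun H₁ H₂ h₁ h₂ => CfsgLib.OddLocal.CN.MaxNilp.conj_or_coprime hG hCN h₁ h₂, ?_⟩
  intro p q r hp hq hr x y y' z hx1 hy1 hy'1 hz1 hxp hyq hy'q hzr hxy hy'z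
  obtain ⟨H₁, hH₁, hy⟩ := CfsgLib.OddLocal.CN.exists_maxNilp (hCN y hy1)
  obtain ⟨H₂, hH₂, hy'⟩ := CfsgLib.OddLocal.CN.exists_maxNilp (hCN y' hy'1)
  by_cases hpr : p = r
  · exact ⟨x, x, hx1, hx1, hxp, hpr ▸ hxp, rfl⟩
  have hyH : y ∈ H₁ := hy (Subgroup.mem_centralizer_singleton_iff.2 rfl)
  have hyH' : y' ∈ H₂ := hy' (Subgroup.mem_centralizer_singleton_iff.2 rfl)
  have hxH : x ∈ H₁ := hy (Subgroup.mem_centralizer_singleton_iff.2 hxy)
  have hzH : z ∈ H₂ := hy' (Subgroup.mem_centralizer_singleton_iff.2 hy'z.symm)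
  have hdvd : ∀ (w : G) (H : Subgroup G), w ∈ H → w ≠ 1 → IsPGroup q (Subgroup.zpowers w) →
      q ∣ Nat.card H := by
    intro w H hw hw1 hwq
    haveI := Fact.mk hq
    obtain ⟨j, hj⟩ := IsPGroup.iff_orderOf.1 hwq ⟨w, Subgroup.mem_zpowers w⟩
    rw [Subgroup.orderOf_mk] at hj
    refine dvd_trans ?_ (Subgroup.orderOf_dvd_natCard H hw)
    rw [hj]
    exact dvd_pow_self q fun h0 => hw1 (orderOf_eq_one_iff.1 (by rw [hj, h0, pow_zero]))
  rcases CfsgLib.OddLocal.CN.MaxNilp.conj_or_coprime hG hCN hH₁ hH₂ with ⟨g, hg⟩ | hcop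
  · have hz' : g⁻¹ * z * g ∈ H₁ := by
      obtain ⟨w, hw, he⟩ := (hg ▸ hzH : z ∈ H₁.map (MulAut.conj g).toMonoidHom)
      have he' : g * w * g⁻¹ = z := he
      rw [← he', show g⁻¹ * (g * w * g⁻¹) * g = w by group]
      exact hw
    refine ⟨x, g⁻¹ * z * g, hx1, fun e => hz1 ?_, hxp, ?_, ?_⟩
    · have := congrArg (fun t => g * t * g⁻¹) e
      simpa [mul_assoc] using this
    · have h := hzr.map (MulAut.conj g⁻¹).toMonoidHom
      rw [MonoidHom.map_zpowers,
        show (MulAut.conj g⁻¹).toMonoidHom z = g⁻¹ * z * g by simp] at h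
      exact h
    · haveI := Fact.mk hp
      haveI := Fact.mk hr
      haveI := hH₁.1
      obtain ⟨i, hi⟩ := IsPGroup.iff_orderOf.1 hxp ⟨x, Subgroup.mem_zpowers x⟩
      obtain ⟨j, hj⟩ := IsPGroup.iff_orderOf.1 hzr ⟨z, Subgroup.mem_zpowers z⟩
      rw [Subgroup.orderOf_mk] at hi hj
      have ho : orderOf (g⁻¹ * z * g) = orderOf z := by
        have := (MulAut.conj g⁻¹).orderOf_eq z
        simpa using this
      exact congrArg Subtype.val (CfsgLib.OddLocal.commute_of_coprime_nilpotent (K := H₁)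
        (a := ⟨x, hxH⟩) (b := ⟨_, hz'⟩) (by
          rw [Subgroup.orderOf_mk, Subgroup.orderOf_mk, ho, hi, hj]
          exact Nat.Coprime.pow _ _ ((Nat.coprime_primes hp hr).2 hpr))).eq
  · exact absurd (hcop ▸ Nat.dvd_gcd (hdvd y H₁ hyH hy1 hyq) (hdvd y' H₂ hyH' hy'1 hy'q)) hq.not_dvd_one

end Cfsg.Agent.S1483
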