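import Cfsg.Statements.S1484
import Cfsg.Agent.OddLocal.MinSimpleCNStructure

set_option autoImplicit false
open Cfsg

namespace Cfsg.Agent.S1484

/-- Let G be a minimal simple group of odd order in which every non-identity element has nilpotent centralizer, and M₁, …, M_k maximal subgroups, pairwise non-conjugate, such that every maximal subgroup is conjugate to some M_i. Let H_i be the largest normal nilpotent Hall subgroup of M_i. Then the orders of the H_i are pairwise coprime, their product is the order of G, and every element of G is conjugate to an element of some H_i. -/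
theorem result {G : Type*} [Group G] [Finite G] (hG : Cfsg.IsMinSimpleOddOrder G) (hCN : Cfsg.IsCNGroup G) (k : ℕ) (Mrep : Fin k → Subgroup G) (hmax : ∀ i, IsCoatom (Mrep i))
    (hnc : ∀ i j, i ≠ j → ∀ g : G, Mrep j ≠ (Mrep i).map (MulAut.conj g).toMonoidHom) (hall : ∀ M : Subgroup G, IsCoatom M → ∃ i, ∃ g : G, M = (Mrep i).map (MulAut.conj g).toMonoidHom) :
    (∀ i j, i ≠ j → (Nat.card (Cfsg.fittingHallOf (Mrep i))).Coprime (Nat.card (Cfsg.fittingHallOf (Mrep j)))) ∧
      ∏ i, Nat.card (Cfsg.fittingHallOf (Mrep i)) = Nat.card G ∧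
      ∀ x : G, ∃ i, ∃ g : G, g * x * g⁻¹ ∈ Cfsg.fittingHallOf (Mrep i) := by
  choose H hH hMH _ using fun i => CfsgLib.OddLocal.CN.coatom_eq_normalizer hG hCN (hmax i)
  have hfit : ∀ i, fittingHallOf (Mrep i) = H i := fun i => by
    rw [hMH i]; exact CfsgLib.OddLocal.CN.fittingHallOf_normalizer hCN (hH i)
  simp only [hfit]
  have hcop : ∀ i j, i ≠ j → (Nat.card (H i)).Coprime (Nat.card (H j)) := by
    intro i j hij
    refine ((hH i).conj_or_coprime hG hCN (hH j)).resolve_left ?_
    rintro ⟨g, hg⟩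
    exact hnc i j hij g (by
      rw [hMH j, hMH i, hg, Subgroup.map_equiv_normalizer_eq])
  have hsurj : ∀ K : Subgroup G, CfsgLib.OddLocal.CN.MaxNilp K →
      ∃ i, ∃ g : G, K = (H i).map (MulAut.conj g).toMonoidHom := by
    intro K hK
    obtain ⟨i, g, hg⟩ := hall _ (hK.isCoatom_normalizer hG hCN)
    refine ⟨i, g, ?_⟩
    rw [hMH i, Subgroup.map_equiv_normalizer_eq] at hg
    have h1 := CfsgLib.OddLocal.CN.fittingHallOf_normalizer hCN hK
    have h2 := CfsgLib.OddLocal.CN.fittingHallOf_normalizer hCN ((hH i).map g)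
    rw [← h1, ← h2, hg]
  refine ⟨hcop, ?_, fun x => ?_⟩
  · refine Nat.dvd_antisymm ?_ ?_
    · suffices ∀ s : Finset (Fin k), ∏ i ∈ s, Nat.card (H i) ∣ Nat.card G from this _
      intro s
      induction s using Finset.induction with
      | empty => simp
      | @insert a s ha ih =>
        rw [Finset.prod_insert ha]
        exact (Nat.Coprime.prod_right fun j hj => hcop a j fun e => ha (e ▸ hj)).mul_dvd_of_dvd_of_dvd
          (Subgroup.card_subgroup_dvd_card _) ih
    · rw [Nat.dvd_iff_prime_pow_dvd_dvd]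
      intro p e hp hd
      rcases Nat.eq_zero_or_pos e with h0 | h0
      · simp [h0]
      haveI := Fact.mk hp
      obtain ⟨S⟩ : Nonempty (Sylow p G) := inferInstance
      obtain ⟨K, hK, hSK⟩ := CfsgLib.OddLocal.CN.exists_maxNilp (S.isPGroup'.isNilpotent)
      obtain ⟨i, g, hig⟩ := hsurj K hK
      refine (dvd_trans ?_ (Finset.dvd_prod_of_mem _ (Finset.mem_univ i)))
      rw [show Nat.card (H i) = Nat.card K by
        rw [hig, Subgroup.card_map_of_injective (MulAut.conj g).injective]]
      exact (S.pow_dvd_card_of_pow_dvd_card hd).trans (Subgroup.card_dvd_of_le hSK)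
  · letI : CommGroup (Subgroup.zpowers x) := IsCyclic.commGroup
    obtain ⟨K, hK, hxK⟩ := CfsgLib.OddLocal.CN.exists_maxNilp (L := Subgroup.zpowers x) inferInstance
    obtain ⟨i, g, hig⟩ := hsurj K hK
    obtain ⟨w, hw, he⟩ := (hig ▸ hxK (Subgroup.mem_zpowers x) : x ∈ (H i).map (MulAut.conj g).toMonoidHom)
    refine ⟨i, g⁻¹, ?_⟩
    have he' : g * w * g⁻¹ = x := he
    rw [← he', show g⁻¹ * (g * w * g⁻¹) * g⁻¹⁻¹ = w by group]
    exact hw

end Cfsg.Agent.S1484
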