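import Cfsg.Statements.S1485
import Cfsg.Agent.Char.Clifford

set_option autoImplicit false
open Cfsg

namespace Cfsg.Agent.S1485
open scoped CfsgLib.Char


/-- Let H be a normal subgroup of the finite group G and θ an irreducible character of H. On H, the function induced from θ equals r times the sum of the distinct G-conjugates of θ, where r is the number of elements of G fixing θ under conjugation divided by the order of H (the index of H in the inertia group). -/
theorem result {G : Type*} [Group G] [Fintype G] (H : Subgroup G) [hN : H.Normal] (θ : H → ℂ) (hθ : Cfsg.IsIrrCharacter H θ) : (fun h : H => Cfsg.indFun H θ h) = ((Nat.card {g : G // ∀ h : H, θ ⟨g * h * g⁻¹, hN.conj_mem h h.2 g⟩ = θ h} : ℂ) / (Nat.card H : ℂ)) • ∑ᶠ ψ ∈ {ψ : H → ℂ | ∃ g : G, ψ = fun h : H => θ ⟨g * h * g⁻¹, hN.conj_mem h h.2 g⟩}, ψ := by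
  classical
  haveI : Fintype H := Fintype.ofFinite H
  open CfsgLib.Char in
  · rw [indFun_restrict, show {ψ : H → ℂ | ∃ g : G, ψ = fun h : H => θ ⟨g * h * g⁻¹, hN.conj_mem h h.2 g⟩} =
      ↑(Finset.univ.image (conjN θ)) from Set.ext fun ψ => by
        simp only [Finset.coe_image, Finset.coe_univ, Set.image_univ, Set.mem_range]
        exact exists_congr fun g => eq_comm, finsum_mem_coe_finset]
    have hfib : ∀ ψ ∈ Finset.univ.image (conjN θ),
        (Finset.univ.filter fun x : G => conjN θ x = ψ).card = Nat.card {g : G // ∀ h : H, θ ⟨g * h * g⁻¹, hN.conj_mem h h.2 g⟩ = θ h} := by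
      intro ψ hψ
      obtain ⟨g, -, rfl⟩ := Finset.mem_image.mp hψ
      rw [← Fintype.card_subtype, Fintype.card_eq_nat_card]
      refine Nat.card_congr ⟨fun x => ⟨x.1 * g⁻¹, ?_⟩, fun k => ⟨k.1 * g, ?_⟩,
        fun x => Subtype.ext (by simp), fun k => Subtype.ext (by simp)⟩
      · intro h
        have e : conjN θ (x.1 * g⁻¹) = θ := by rw [← conjN_mul, x.2, conjN_mul, mul_inv_cancel, conjN_one]
        exact congrFun e h
      · rw [← conjN_mul, show conjN θ k.1 = θ from funext k.2]
    have hsum : ∑ x : G, conjN θ x = (Nat.card {g : G // ∀ h : H, θ ⟨g * h * g⁻¹, hN.conj_mem h h.2 g⟩ = θ h} : ℂ) •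
        ∑ ψ ∈ Finset.univ.image (conjN θ), ψ := by
      rw [← Finset.sum_fiberwise_of_maps_to (g := conjN θ) (t := Finset.univ.image (conjN θ))
        (fun x _ => Finset.mem_image_of_mem _ (Finset.mem_univ x)), Finset.smul_sum]
      refine Finset.sum_congr rfl fun ψ hψ => ?_
      rw [Finset.sum_congr rfl (g := fun _ => ψ) (fun x hx => (Finset.mem_filter.1 hx).2), Finset.sum_const,
        hfib ψ hψ, Nat.cast_smul_eq_nsmul]
    rw [hsum, smul_smul, div_eq_inv_mul]

end Cfsg.Agent.S1485
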