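import Cfsg.Statements.S1487
import Cfsg.Agent.Char.Clifford
import Cfsg.Agent.Char.Monomial

set_option autoImplicit false
open Cfsg

namespace Cfsg.Agent.S1487

/-- Let A ≤ H be normal subgroups of the finite group G and θ an irreducible character of H. Then θ takes the value θ 1 on all of A if and only if the function induced from θ to G takes its value at 1 on all of A. -/
theorem result {G : Type*} [Group G] [Fintype G] (A H : Subgroup G) [A.Normal] [H.Normal] (hAH : A ≤ H) (θ : H → ℂ) (hθ : Cfsg.IsIrrCharacter H θ) : (∀ a : H, (a : G) ∈ A → θ a = θ 1) ↔ (∀ a : G, a ∈ A → Cfsg.indFun H θ a = Cfsg.indFun H θ 1) := by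
  classical
  have hc := CfsgLib.Char.isCharacter_of_isIrr hθ
  have e : ∀ a : G, Cfsg.indFun H θ a = (Nat.card H : ℂ)⁻¹ * ∑ g : G, Cfsg.extendByZero H θ (g⁻¹ * a * g) :=
    CfsgLib.Char.indFun_apply H θ
  have hm : ∀ a ∈ A, ∀ g : G, g⁻¹ * a * g ∈ A := fun a ha g => by
    simpa using (inferInstance : A.Normal).conj_mem a ha g⁻¹
  constructor
  · intro h a ha
    have h1 : ∀ b ∈ A, ∀ g : G, Cfsg.extendByZero H θ (g⁻¹ * b * g) = θ 1 := fun b hb g => by
      rw [CfsgLib.Char.extendByZero_mem' H θ (hAH (hm b hb g))]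
      exact h _ (hm b hb g)
    rw [e, e, Finset.sum_congr rfl fun g _ => h1 a ha g,
      Finset.sum_congr rfl fun g _ => h1 1 (one_mem A) g]
  · intro h a ha
    have h2 := h a ha
    rw [e, e] at h2
    have h3 := congrArg Complex.re (mul_left_cancel₀ (inv_ne_zero (CfsgLib.Char.natCard_ne_zero H)) h2)
    rw [Complex.re_sum, Complex.re_sum] at h3
    obtain ⟨n, hn⟩ := CfsgLib.Char.charDegree_aux hc
    have hle : ∀ g ∈ (Finset.univ : Finset G), (Cfsg.extendByZero H θ (g⁻¹ * a * g)).re ≤
        (Cfsg.extendByZero H θ (g⁻¹ * 1 * g)).re := fun g _ => by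
      rw [CfsgLib.Char.extendByZero_mem' H θ (hAH (hm a ha g)),
        CfsgLib.Char.extendByZero_mem' H θ (hAH (hm 1 (one_mem A) g))]
      rw [show (⟨g⁻¹ * 1 * g, hAH (hm 1 (one_mem A) g)⟩ : H) = 1 from Subtype.ext (by simp)]
      exact ((Complex.re_le_norm _).trans (CfsgLib.Char.char_norm_le hc _)).trans
        (le_of_eq (by rw [CfsgLib.Char.char_one_eq hc]; simp))
    have h4 := (Finset.sum_eq_sum_iff_of_le hle).1 h3 1 (Finset.mem_univ _)
    rw [CfsgLib.Char.extendByZero_mem' H θ (by simpa using hAH ha),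
      CfsgLib.Char.extendByZero_mem' H θ (by simp)] at h4
    simp only [inv_one, one_mul, mul_one] at h4
    have h5 := CfsgLib.Char.char_norm_le hc a
    have h6 : (θ a).re = (Cfsg.charDegree θ : ℝ) := by
      rw [show (θ a).re = (θ 1).re from h4, CfsgLib.Char.char_one_eq hc]; simp
    have h7 : (θ a).im = 0 := by
      have h8 := Complex.re_le_norm (θ a)
      have h9 := Complex.sq_norm (θ a)
      rw [show ‖θ a‖ = (θ a).re by linarith, Complex.normSq_apply] at h9
      exact mul_self_eq_zero.mp (by linarith)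
    rw [CfsgLib.Char.char_one_eq hc]
    exact Complex.ext (by simpa using h6) (by simpa using h7)

end Cfsg.Agent.S1487
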