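import Cfsg.Statements.S1488
import Cfsg.Agent.Char.Clifford

set_option autoImplicit false
open Cfsg

namespace Cfsg.Agent.S1488

/-- Let A be a normal subgroup of the finite group G contained in the subgroup H, let θ be a function on H and θ₁ a function on the image of H in G ⧸ A whose composite with the projection is θ. Then the function induced from θ₁ to G ⧸ A, composed with the projection G → G ⧸ A, equals the function induced from θ to G. -/
theorem result {G : Type*} [Group G] [Fintype G] (A H : Subgroup G) [A.Normal] (hAH : A ≤ H) [Fintype (G ⧸ A)] [Fintype ↥(H.map (QuotientGroup.mk' A))] (θ : H → ℂ) (θ₁ : ↥(H.map (QuotientGroup.mk' A)) → ℂ) (hθ : ∀ x : H, θ₁ ⟨QuotientGroup.mk' A x, Subgroup.mem_map_of_mem _ x.2⟩ = θ x) (g : G) : Cfsg.indFun (H.map (QuotientGroup.mk' A)) θ₁ (QuotientGroup.mk' A g) = Cfsg.indFun H θ g := by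
  classical
  have hs : Function.Surjective (QuotientGroup.mk' A) := QuotientGroup.mk'_surjective A
  have hk : (QuotientGroup.mk' A).ker ≤ H := by rw [QuotientGroup.ker_mk']; exact hAH
  have hmem : ∀ x : G, (QuotientGroup.mk' A) x ∈ H.map (QuotientGroup.mk' A) ↔ x ∈ H := fun x => by
    rw [← Subgroup.mem_comap, Subgroup.comap_map_eq_self hk]
  have hext : ∀ x : G, Cfsg.extendByZero (H.map (QuotientGroup.mk' A)) θ₁ ((QuotientGroup.mk' A) x) = Cfsg.extendByZero H θ x := fun x => by
    by_cases hx : x ∈ H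
    · rw [CfsgLib.Char.extendByZero_mem' _ _ ((hmem x).2 hx), CfsgLib.Char.extendByZero_mem' _ _ hx]
      exact hθ ⟨x, hx⟩
    · rw [CfsgLib.Char.extendByZero_not_mem _ _ (mt (hmem x).1 hx),
        CfsgLib.Char.extendByZero_not_mem _ _ hx]
  have h1 : ∑ x : G, Cfsg.extendByZero H θ (x⁻¹ * g * x) =
      (Nat.card A : ℂ) * ∑ q : G ⧸ A, Cfsg.extendByZero (H.map (QuotientGroup.mk' A)) θ₁ (q⁻¹ * (QuotientGroup.mk' A) g * q) := by
    rw [← Finset.sum_fiberwise (Finset.univ : Finset G) (fun x => (QuotientGroup.mk' A) x), Finset.mul_sum]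
    refine Finset.sum_congr rfl fun q _ => ?_
    rw [Finset.sum_congr rfl (g := fun _ => Cfsg.extendByZero (H.map (QuotientGroup.mk' A)) θ₁ (q⁻¹ * (QuotientGroup.mk' A) g * q))
      (fun x hx => by rw [← hext, map_mul, map_mul, map_inv, (Finset.mem_filter.1 hx).2]),
      Finset.sum_const, nsmul_eq_mul]
    congr 2
    obtain ⟨x₀, rfl⟩ := hs q
    rw [Nat.card_eq_fintype_card, ← Finset.card_univ]
    refine (Finset.card_bij (fun (a : A) _ => x₀ * (a : G)) (fun a _ => ?_) (fun a _ b _ h => ?_)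
      fun x hx => ?_).symm
    · exact Finset.mem_filter.2 ⟨Finset.mem_univ _, by
        rw [map_mul, show (QuotientGroup.mk' A) (a : G) = 1 from (QuotientGroup.eq_one_iff _).2 a.2, mul_one]⟩
    · exact Subtype.ext (mul_left_cancel h)
    · exact ⟨⟨x₀⁻¹ * x, QuotientGroup.eq.1 (Finset.mem_filter.1 hx).2.symm⟩, Finset.mem_univ _,
        mul_inv_cancel_left x₀ x⟩
  have h2 : Nat.card (H.map (QuotientGroup.mk' A)) * Nat.card A = Nat.card H := by
    refine Nat.eq_of_mul_eq_mul_left (Nat.pos_of_ne_zero (Subgroup.index_ne_zero_of_finite (H := H))) ?_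
    conv_lhs => rw [← mul_assoc, ← Subgroup.index_map_eq (f := QuotientGroup.mk' A) H hs hk, Subgroup.index_mul_card]
    rw [Subgroup.index_mul_card, ← Subgroup.card_eq_card_quotient_mul_card_subgroup]
  rw [CfsgLib.Char.indFun_apply, CfsgLib.Char.indFun_apply, h1, ← h2, Nat.cast_mul, mul_inv,
    mul_assoc (Nat.card (H.map (QuotientGroup.mk' A)) : ℂ)⁻¹, inv_mul_cancel_left₀ (CfsgLib.Char.natCard_ne_zero A)]

end Cfsg.Agent.S1488
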