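import Cfsg.Statements.S1490
import Cfsg.Agent.Char.Ramified

set_option autoImplicit false
open Cfsg

namespace Cfsg.Agent.S1490

/-- Let H be a normal subgroup of the finite group G, θ an irreducible character of H with inertia group T, and suppose the commutator of any two elements of T lies in H (T/H abelian). Then there are a positive integer e and a finite set C of irreducible characters of G with e ^ 2 * |C| * |H| = |T|, such that the function induced from θ is e times the sum of the members of C and every member of C has degree [G:T] * e * θ(1). -/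
theorem result {G : Type*} [Group G] [Fintype G] (H T : Subgroup G) [hN : H.Normal] (θ : H → ℂ) (hθ : Cfsg.IsIrrCharacter H θ) (hT : ∀ g : G, g ∈ T ↔ ∀ h : H, θ ⟨g * h * g⁻¹, hN.conj_mem h h.2 g⟩ = θ h) (hab : ∀ x ∈ T, ∀ y ∈ T, x * y * x⁻¹ * y⁻¹ ∈ H) : ∃ (e : ℕ) (C : Finset (G → ℂ)), 0 < e ∧ (∀ χ ∈ C, Cfsg.IsIrrCharacter G χ) ∧ e ^ 2 * C.card * Nat.card H = Nat.card T ∧ Cfsg.indFun H θ = (e : ℂ) • ∑ χ ∈ C, χ ∧ ∀ χ ∈ C, χ 1 = (T.index : ℂ) * e * θ 1 := by
  classical
  haveI := Fintype.ofFinite H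
  haveI := Fintype.ofFinite T
  haveI := Fintype.ofFinite (H.subgroupOf T)
  have hT' : ∀ g : G, g ∈ T ↔ CfsgLib.Char.conjN θ g = θ := fun g => (hT g).trans funext_iff.symm
  have hHT : H ≤ T := fun h hh =>
    (hT' h).mpr (CfsgLib.Char.conjN_of_mem (CfsgLib.Char.classFun_of_irr hθ) hh)
  haveI : (H.subgroupOf T).Normal := hN.subgroupOf T
  let eq' : H.subgroupOf T ≃* H := Subgroup.subgroupOfEquivOfLe hHT
  have hθ' : Cfsg.IsIrrCharacter (H.subgroupOf T) (θ ∘ eq') := CfsgLib.Char.irr_mulEquiv eq' hθ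
  have hinv : ∀ t : T, CfsgLib.Char.conjN (θ ∘ eq') t = θ ∘ eq' := fun t => by
    funext n
    simp only [CfsgLib.Char.conjN, Function.comp_apply]
    exact (congrArg θ (Subtype.ext rfl)).trans (congrFun ((hT' t).mp t.2) (eq' n))
  obtain ⟨e, C, he, hcard, hind, hres⟩ := CfsgLib.Char.exists_constituents_abelian hθ' hinv
    fun a b => hab a a.2 b b.2
  have hfacts : ∀ χ ∈ C,
      Cfsg.classInner (fun h : H => (χ : T → ℂ) ⟨h, hHT h.2⟩) θ = (e : ℂ) := by
    intro χ hχ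
    have h := congrArg (fun f => Cfsg.classInner f (θ ∘ eq')) (hres χ hχ)
    rw [show (fun n : H.subgroupOf T => (χ : T → ℂ) n) =
      (fun h : H => (χ : T → ℂ) ⟨h, hHT h.2⟩) ∘ eq' from rfl] at h
    simp only [CfsgLib.Char.classInner_smul_left, CfsgLib.Char.irr_inner_self hθ', mul_one,
      CfsgLib.Char.classInner_mulEquiv] at h
    exact h
  have hne : ∀ χ ∈ C, Cfsg.classInner (fun h : H => (χ : T → ℂ) ⟨h, hHT h.2⟩) θ ≠ 0 :=
    fun χ hχ => by rw [hfacts χ hχ]; exact_mod_cast he.ne'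
  have hinj : Set.InjOn (fun χ : Cfsg.IrrCharacter T => Cfsg.indFun T (χ : T → ℂ)) C :=
    fun a ha b hb h => Subtype.ext
      (CfsgLib.Char.clifford_unique hθ hT' hHT a.2 b.2 (hne a ha) (hne b hb) h)
  have hsum : Cfsg.indFun H θ =
      (e : ℂ) • ∑ χ ∈ C.image (fun χ : Cfsg.IrrCharacter T => Cfsg.indFun T (χ : T → ℂ)), χ := by
    rw [Finset.sum_image hinj, ← CfsgLib.Char.indFun_trans H T hHT θ,
      show (fun x : H.subgroupOf T => θ ⟨(x : T), Subgroup.mem_subgroupOf.mp x.2⟩) = θ ∘ eq' from rfl,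
      hind, CfsgLib.Char.indFun_smul, CfsgLib.Char.indFun_sum]
  have hdeg : ∀ χ ∈ C.image (fun χ : Cfsg.IrrCharacter T => Cfsg.indFun T (χ : T → ℂ)),
      Cfsg.IsIrrCharacter G χ ∧ χ 1 = (T.index : ℂ) * e * θ 1 := by
    intro χ hχ
    obtain ⟨ψ, hψ, rfl⟩ := Finset.mem_image.mp hχ
    refine ⟨(CfsgLib.Char.clifford_induce hθ hT' hHT ψ.2 (hne ψ hψ)).1, ?_⟩
    have h := congrFun (hres ψ hψ) 1
    simp only [Pi.smul_apply, smul_eq_mul, Function.comp_apply, map_one] at h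
    rw [CfsgLib.Char.indFun_one, mul_assoc, ← h]
    rfl
  refine ⟨e, C.image (fun χ : Cfsg.IrrCharacter T => Cfsg.indFun T (χ : T → ℂ)), he, fun χ hχ => (hdeg χ hχ).1, ?_, hsum,
    fun χ hχ => (hdeg χ hχ).2⟩
  rw [Finset.card_image_of_injOn hinj, hcard, ← Nat.card_congr eq'.toEquiv, mul_comm,
    Subgroup.card_mul_index]

end Cfsg.Agent.S1490
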