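import Cfsg.Statements.S1492
import Cfsg.Agent.Char.Monomial

set_option autoImplicit false
open Cfsg

namespace Cfsg.Agent.S1492

/-- Let ψ be an irreducible character of the finite group G and B ≤ D ≤ C subgroups with B normal in C, every commutator of an element of D with an element of C lying in B (so D/B is central in C/B), and ψ constant equal to ψ 1 on B. Then ψ(1) ^ 2 * |C| * |D| ≤ |G| ^ 2. -/
theorem result {G : Type*} [Group G] [Finite G] (ψ : G → ℂ) (hψ : Cfsg.IsIrrCharacter G ψ) (B C D : Subgroup G) (hBD : B ≤ D) (hDC : D ≤ C) (hBn : ∀ c ∈ C, ∀ b ∈ B, c * b * c⁻¹ ∈ B) (hcent : ∀ d ∈ D, ∀ c ∈ C, d * c * d⁻¹ * c⁻¹ ∈ B) (hker : ∀ b ∈ B, ψ b = ψ 1) : ‖ψ 1‖ ^ 2 * (Nat.card C : ℝ) * (Nat.card D : ℝ) ≤ (Nat.card G : ℝ) ^ 2 := by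
  classical
  haveI := Fintype.ofFinite G
  haveI : Fintype C := Fintype.ofFinite C
  open CfsgLib.Char in
  · have hcψ := isCharacter_of_isIrr hψ
    have hres := isCharacter_restrict C hcψ
    obtain ⟨φ, hφ⟩ := exists_constituent hres fun e => irr_one_ne_zero hψ (congrFun e 1)
    have hle : ‖ψ 1‖ ≤ (C.index : ℝ) * ‖(φ : C → ℂ) 1‖ := by
      have hc := isCharacter_sub_constituent (isCharacter_indFun C (isCharacter_of_isIrr φ.2)) hψ
        (by rw [frobenius C (φ : C → ℂ) (classFun_of_irr hψ), ← classInner_conj]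
            exact fun e => hφ ((map_eq_zero _).1 e))
      obtain ⟨a, ha⟩ := charDegree_aux hc
      obtain ⟨b, hb⟩ := charDegree_aux hcψ
      obtain ⟨d, hd⟩ := charDegree_aux (isCharacter_of_isIrr φ.2)
      rw [Pi.sub_apply, indFun_one, hb, hd, sub_eq_iff_eq_add] at ha
      rw [hb, hd, Complex.norm_natCast, Complex.norm_natCast]
      have : C.index * d = a + b := by exact_mod_cast ha
      exact_mod_cast (show b ≤ C.index * d by omega)
    obtain ⟨n, ρ, hirr, hρ⟩ := φ.2
    haveI := hirr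
    have hB : ∀ b : C, (b : G) ∈ B → ρ b = 1 := fun b hb => rep_eq_id_of_char ρ b (by
      have h1 := kernel_of_constituent hres φ.2 hφ (g := b) (hker _ hb)
      rw [← hρ] at h1
      rw [h1, Representation.char_one])
    have hD : ∀ d : C, (d : G) ∈ D → ‖(φ : C → ℂ) d‖ = ‖(φ : C → ℂ) 1‖ := by
      intro d hd
      obtain ⟨c, hc⟩ := schur_scalar ρ (ρ d) fun g v => by
        have h1 := hB (d * g * d⁻¹ * g⁻¹) (hcent _ hd _ g.2)
        have h2 : ρ (d * g) = ρ (g * d) := by
          rw [show d * g = d * g * d⁻¹ * g⁻¹ * (g * d) by group, map_mul, h1, one_mul]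
        simpa [map_mul] using LinearMap.congr_fun h2 v
      have hn : 0 < n := by simpa using finrank_pos_of_irreducible ρ
      have hpow : c ^ orderOf d = 1 := by
        have h1 := congrArg (LinearMap.trace ℂ _) ((congrArg (· ^ orderOf d) hc).symm.trans
          (by rw [← map_pow, pow_orderOf_eq_one, map_one] : (ρ d) ^ orderOf d = 1))
        rw [smul_pow, show (LinearMap.id : Module.End ℂ (Fin n → ℂ)) = 1 from rfl, one_pow, map_smul,
          LinearMap.trace_one, smul_eq_mul] at h1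
        exact mul_right_cancel₀ (by simpa using hn.ne') (h1.trans (one_mul _).symm)
      rw [← hρ]
      show ‖LinearMap.trace ℂ _ (ρ d)‖ = ‖LinearMap.trace ℂ _ (ρ 1)‖
      rw [hc, map_one, map_smul, show (LinearMap.id : Module.End ℂ (Fin n → ℂ)) = 1 from rfl,
        norm_smul, norm_root (orderOf_pos d).ne' hpow, one_mul]
    have hsum : (Nat.card D : ℝ) * ‖(φ : C → ℂ) 1‖ ^ 2 ≤ (Nat.card C : ℝ) := by
      have h1 := classInner_self_re (φ : C → ℂ)
      rw [irr_inner_self φ.2, Complex.one_re] at h1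
      have h2 : ∑ x : C, ‖(φ : C → ℂ) x‖ ^ 2 = (Nat.card C : ℝ) := by
        have hC0 : (Nat.card C : ℝ) ≠ 0 := Nat.cast_ne_zero.2 Nat.card_pos.ne'
        field_simp at h1
        linarith
      rw [← h2]
      calc _ = ∑ x ∈ Finset.univ.filter (fun x : C => (x : G) ∈ D), ‖(φ : C → ℂ) x‖ ^ 2 := by
            rw [Finset.sum_congr rfl (fun x hx => by rw [hD x (Finset.mem_filter.1 hx).2]),
              Finset.sum_const, nsmul_eq_mul, ← Fintype.card_subtype, ← Nat.card_eq_fintype_card]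
            congr 2
            exact (Nat.card_congr (Subgroup.subgroupOfEquivOfLe hDC).toEquiv).symm
        _ ≤ _ := Finset.sum_le_sum_of_subset_of_nonneg (Finset.filter_subset _ _) (fun x _ _ => by positivity)
    calc ‖ψ 1‖ ^ 2 * (Nat.card C : ℝ) * (Nat.card D : ℝ)
        ≤ ((C.index : ℝ) * ‖(φ : C → ℂ) 1‖) ^ 2 * (Nat.card C : ℝ) * (Nat.card D : ℝ) := by gcongr
      _ = (C.index : ℝ) ^ 2 * (Nat.card C : ℝ) * ((Nat.card D : ℝ) * ‖(φ : C → ℂ) 1‖ ^ 2) := by ring
      _ ≤ (C.index : ℝ) ^ 2 * (Nat.card C : ℝ) * (Nat.card C : ℝ) := by gcongr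
      _ = _ := by rw [← C.index_mul_card]; push_cast; ring

end Cfsg.Agent.S1492
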