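import Cfsg.Statements.S1494
import Cfsg.Agent.Char.Monomial

set_option autoImplicit false
open Cfsg

namespace Cfsg.Agent.S1494

/-- Let χ be a generalized character of the finite group G, p a prime, x an element of order p and y an element commuting with x. Then χ(x * y) − χ(y) = (1 − ε) * ω for some algebraic integer ω, where ε = exp(2πi/p). -/
theorem result {G : Type*} [Group G] [Finite G] (χ : G → ℂ) (hχ : Cfsg.IsGeneralizedCharacter G χ) (p : ℕ) (hp : p.Prime) (x y : G) (hx : orderOf x = p) (hxy : x * y = y * x) : ∃ ω : ℂ, IsIntegral ℤ ω ∧ χ (x * y) - χ y = (1 - Complex.exp (2 * Real.pi * Complex.I / p)) * ω := by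
  classical
  haveI := Fintype.ofFinite G
  set ε := Complex.exp (2 * Real.pi * Complex.I / p)
  have hε : IsPrimitiveRoot ε p := Complex.isPrimitiveRoot_exp p hp.ne_zero
  open CfsgLib.Char in
  · have hgen : ∀ f : G → ℂ, IsCharacter G f → ∃ ω : ℂ, IsIntegral ℤ ω ∧ f (x * y) - f y = (1 - ε) * ω := by
      intro f hf
      let T : Subgroup G := Subgroup.closure {x, y}
      haveI : Fintype T := Fintype.ofFinite T
      have hab : ∀ a b : T, a * b = b * a := fun a b => Subtype.ext
        (Subgroup.closure_induction₂ (p := fun a b _ _ => Commute a b)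
          (fun a b ha hb => by
            rcases ha with rfl | rfl <;> rcases hb with rfl | rfl
            exacts [Commute.refl _, hxy, hxy.symm, Commute.refl _])
          (fun _ _ => Commute.one_left _) (fun _ _ => Commute.one_right _)
          (fun _ _ _ _ _ _ h h' => h.mul_left h') (fun _ _ _ _ _ _ h h' => h.mul_right h')
          (fun _ _ _ _ h => h.inv_left) (fun _ _ _ _ h => h.inv_right) a.2 b.2).eq
      let X : T := ⟨x, Subgroup.subset_closure (by simp)⟩
      let Y : T := ⟨y, Subgroup.subset_closure (by simp)⟩
      obtain ⟨l, hl⟩ := exists_list_irr (isCharacter_restrict T hf)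
      have e : ∀ t : T, f t = (l.map fun q : IrrCharacter T => q.1 t).sum := fun t => by
        have := congrFun hl t
        rw [Pi.list_sum_apply, List.map_map] at this
        exact this
      rw [show x * y = ((X * Y : T) : G) from rfl, show y = (Y : G) from rfl, e, e]
      clear hl e
      induction l with
      | nil => exact ⟨0, isIntegral_zero, by simp⟩
      | cons q l ih =>
        obtain ⟨ω, hω, hωe⟩ := ih
        obtain ⟨μ, hμ⟩ := exists_hom_of_degree_one (isCharacter_of_isIrr q.2) (irr_degree_one_of_comm hab q.2)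
        have hX : orderOf X = p := by rw [← hx]; exact (orderOf_injective T.subtype T.subtype_injective X).symm
        have hXp : (μ X : ℂ) ^ p = 1 := by rw [← hX]; exact linear_root μ X
        haveI : NeZero p := ⟨hp.ne_zero⟩
        obtain ⟨j, -, hj⟩ := hε.eq_pow_of_pow_eq_one hXp
        refine ⟨-((μ Y : ℂ) * ∑ i ∈ Finset.range j, ε ^ i) + ω, ((((isIntegral_root (orderOf_pos Y).ne' (linear_root μ Y))).mul
          (IsIntegral.sum _ fun i _ => (isIntegral_root hp.ne_zero hε.pow_eq_one).pow i)).neg).add hω, ?_⟩
        simp only [List.map_cons, List.sum_cons]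
        rw [show (q : T → ℂ) = fun t => (μ t : ℂ) from hμ]
        simp only [map_mul, Units.val_mul]
        rw [← hj]
        linear_combination hωe + (μ Y : ℂ) * (mul_neg_geom_sum ε j)
    obtain ⟨a, b, ha, hb, rfl⟩ := hχ
    obtain ⟨wa, hwa, ea⟩ := hgen a ha
    obtain ⟨wb, hwb, eb⟩ := hgen b hb
    refine ⟨wa - wb, hwa.sub hwb, ?_⟩
    simp only [Pi.sub_apply]
    linear_combination ea - eb

end Cfsg.Agent.S1494
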