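import Cfsg.Statements.S1495
import Cfsg.Agent.Char.Rep
import Cfsg.Agent.Char.Central
import Mathlib.RingTheory.RootsOfUnity.Complex
import Mathlib.NumberTheory.Cyclotomic.PrimitiveRoots

set_option autoImplicit false
open Cfsg

namespace Cfsg.Agent.S1495

/-- Let p be a prime, ε = exp(2πi/p), and n an integer such that n = (1 − ε) * ω for some algebraic integer ω. Then p divides n. -/
theorem result (p : ℕ) (hp : p.Prime) (n : ℤ) (ω : ℂ) (hω : IsIntegral ℤ ω) (h : (n : ℂ) = (1 - Complex.exp (2 * Real.pi * Complex.I / p)) * ω) : (p : ℤ) ∣ n := by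
  set ε := Complex.exp (2 * Real.pi * Complex.I / p)
  have hε : IsPrimitiveRoot ε p := Complex.isPrimitiveRoot_exp p hp.ne_zero
  obtain ⟨m, rfl⟩ : ∃ m, p = m + 1 := ⟨p - 1, (Nat.succ_pred hp.pos.ne').symm⟩
  have hi : ∀ i : ℕ, IsIntegral ℤ (ε ^ i) := fun i =>
    (CfsgLib.Char.isIntegral_root hp.ne_zero hε.pow_eq_one).pow i
  have hk : ∀ μ ∈ primitiveRoots (m + 1) ℂ, ∃ r : ℂ, IsIntegral ℤ r ∧ (n : ℂ) = (1 - μ) * r := by
    intro μ hμ
    obtain ⟨j, -, hj⟩ := ((mem_primitiveRoots hp.pos).1 hμ).eq_pow_of_pow_eq_one hε.pow_eq_one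
    refine ⟨(∑ i ∈ Finset.range j, μ ^ i) * ω, (IsIntegral.sum _ fun i _ =>
      (CfsgLib.Char.isIntegral_root hp.ne_zero ((mem_primitiveRoots hp.pos).1 hμ).pow_eq_one).pow i).mul hω, ?_⟩
    rw [← mul_assoc, mul_neg_geom_sum, hj]
    exact h
  choose! r hr hn using hk
  have hprod : ∏ μ ∈ primitiveRoots (m + 1) ℂ, (1 - μ) = ((m + 1 : ℕ) : ℂ) := by
    haveI := Fact.mk hp
    rw [← Polynomial.eval_one_cyclotomic_prime (R := ℂ) (p := m + 1),
      Polynomial.cyclotomic_eq_prod_X_sub_primitiveRoots hε, Polynomial.eval_prod]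
    simp
  have h2 : ((n ^ m : ℤ) : ℂ) = ((m + 1 : ℕ) : ℂ) * ∏ k ∈ primitiveRoots (m + 1) ℂ, r k := by
    rw [← hprod, ← Finset.prod_mul_distrib, Int.cast_pow,
      show (n : ℂ) ^ m = ∏ _k ∈ primitiveRoots (m + 1) ℂ, (n : ℂ) by
        rw [Finset.prod_const, hε.card_primitiveRoots, Nat.totient_prime hp, Nat.add_sub_cancel]]
    exact Finset.prod_congr rfl hn
  have h3 : ((m + 1 : ℕ) : ℤ) ∣ n ^ m := by
    obtain ⟨z, hz⟩ := CfsgLib.Char.exists_int_of_isIntegral_rat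
      (IsIntegral.prod _ fun k hk' => hr k hk') ((n ^ m : ℤ) / ((m + 1 : ℕ) : ℚ)) (by
        rw [Rat.cast_div, Rat.cast_intCast, Rat.cast_natCast, h2,
          mul_div_cancel_left₀ _ (Nat.cast_ne_zero.2 (Nat.succ_ne_zero m))])
    refine ⟨z, ?_⟩
    rw [hz] at h2
    exact_mod_cast h2
  exact (Nat.prime_iff_prime_int.1 hp).dvd_of_dvd_pow h3

end Cfsg.Agent.S1495
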