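import Cfsg.Statements.S1497
import Cfsg.Agent.Char.Dade

set_option autoImplicit false
open Cfsg

namespace Cfsg.Agent.S1497

/-- Let A be a nonempty subset of the finite group G not containing 1 and L a subgroup. Then A is a TI-subset whose normaliser is L if and only if the Dade hypothesis holds for A, L and the constant choice H(a) = ⊥. -/
theorem result {G : Type*} [Group G] [Finite G] (A : Set G) (hA : A.Nonempty) (h1 : (1 : G) ∉ A) (L : Subgroup G) : (Cfsg.IsTISubset A ∧ Subgroup.normalizer A = L) ↔ Cfsg.DadeHypothesis A L (fun _ => ⊥) := by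
  have key : ∀ g a : G, a ∈ Subgroup.centralizer ({g} : Set G) → a * g * a⁻¹ = g := fun g a h => by
    rw [Subgroup.mem_centralizer_singleton_iff.1 h, mul_inv_cancel_right]
  constructor
  · rintro ⟨hti, rfl⟩
    have hmem : ∀ a ∈ A, ∀ g : G, g * a * g⁻¹ ∈ A → g ∈ Subgroup.normalizer A := fun a ha g hg => by
      by_contra hn
      exact h1 (hti g hn a ha hg ▸ ha)
    have hC : ∀ a ∈ A, Subgroup.centralizer ({a} : Set G) ≤ Subgroup.normalizer A :=
      fun a ha c hc => hmem a ha c (by rw [key a c hc]; exact ha)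
    refine ⟨h1, fun a ha => hmem a ha a (by simpa using ha),
      fun x hx a ha => (Subgroup.mem_set_normalizer_iff.1 hx a).1 ha,
      fun a ha g hg => ⟨g, hmem a ha g hg, rfl⟩, fun _ _ => bot_le, fun a _ c _ u hu => ?_,
      fun _ _ => bot_inf_eq _, fun a ha => ?_, fun _ _ _ _ => by simp⟩
    · simp [Subgroup.mem_bot.1 hu]
    · show ⊥ ⊔ _ = _
      rw [bot_sup_eq, inf_eq_right.2 (hC a ha)]
  · intro hD
    have hmem : ∀ a ∈ A, ∀ g : G, g * a * g⁻¹ ∈ A → g ∈ L := fun a ha g hg => by
      obtain ⟨x, hx, e⟩ := hD.fusion a ha g hg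
      have hc : x⁻¹ * g ∈ Subgroup.centralizer ({a} : Set G) := by
        rw [Subgroup.mem_centralizer_singleton_iff]
        calc x⁻¹ * g * a = x⁻¹ * (g * a * g⁻¹) * g := by group
          _ = a * (x⁻¹ * g) := by rw [← e]; group
      rw [← hD.sup_eq a ha, bot_sup_eq] at hc
      simpa using mul_mem hx hc.1
    have hN : Subgroup.normalizer A = L := le_antisymm
      (fun g hg => by
        obtain ⟨a, ha⟩ := hA
        exact hmem a ha g ((Subgroup.mem_set_normalizer_iff.1 hg a).1 ha))
      (fun x hx => Subgroup.mem_set_normalizer_iff.2 fun a => ⟨hD.conj_mem x hx a, fun h => by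
        simpa [mul_assoc] using hD.conj_mem x⁻¹ (inv_mem hx) _ h⟩)
    refine ⟨fun g hg a ha h => absurd (hmem a ha g h) (hN ▸ hg), hN⟩

end Cfsg.Agent.S1497
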