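import Cfsg.Statements.S1501
import Mathlib
import Cfsg.Agent.Char.Dade
import Cfsg.Agent.Char.Coherence
import Cfsg.Agent.Blk.RegInd
-- import your own Cfsg.Agent.* helpers here

set_option autoImplicit false
open Cfsg

namespace Cfsg.Agent.S1501

open CfsgLib.Char CfsgLib.Dade Finset

section
variable {G : Type*} [Group G] [Fintype G] {A : Set G} {L : Subgroup G} [Fintype L] {H : G → Subgroup G}

noncomputable def kB (H : G → Subgroup G) (B : Finset G) : Subgroup G := ⨅ a ∈ B, H a

noncomputable def nB (L : Subgroup G) (B : Finset G) : Subgroup G :=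
  L ⊓ Subgroup.normalizer (↑B : Set G)

noncomputable def mB (L : Subgroup G) (H : G → Subgroup G) (B : Finset G) : Subgroup G :=
  nB L B ⊔ kB H B

open Classical in
noncomputable def wF (A : Set G) (L : Subgroup G) (H : G → Subgroup G) (α : L → ℂ) (B : Finset G)
    (y : G) : ℂ :=
  ∑ n ∈ Finset.univ.filter (fun n : G => n ∈ A ∧ n ∈ nB L B),
    if y * n⁻¹ ∈ kB H B then extendByZero L α n else 0

noncomputable def cj (l : G) (B : Finset G) : Finset G :=
  B.map (MulAut.conj l).toEquiv.toEmbedding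

theorem mem_cj {l x : G} {B : Finset G} : x ∈ cj l B ↔ l⁻¹ * x * l ∈ B := by
  simp only [cj, Finset.mem_map_equiv]
  rfl

theorem cj_one (B : Finset G) : cj 1 B = B := by ext x; simp [mem_cj]

theorem cj_mul (l m : G) (B : Finset G) : cj l (cj m B) = cj (l * m) B := by
  ext x; simp [mem_cj, mul_assoc]

theorem card_cj (l : G) (B : Finset G) : (cj l B).card = B.card := Finset.card_map _

theorem mem_kB {B : Finset G} {u : G} : u ∈ kB H B ↔ ∀ a ∈ B, u ∈ H a := by
  simp [kB, Subgroup.mem_iInf]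

theorem mem_nB {B : Finset G} {l : G} : l ∈ nB L B ↔ l ∈ L ∧ cj l B = B := by
  rw [nB, Subgroup.mem_inf, Subgroup.mem_set_normalizer_iff]
  refine and_congr Iff.rfl ⟨fun h => ?_, fun h y => ?_⟩
  · ext x
    rw [mem_cj]
    have := h (l⁻¹ * x * l)
    simp only [Finset.mem_coe] at this
    rw [this, show l * (l⁻¹ * x * l) * l⁻¹ = x by group]
  · simp only [Finset.mem_coe]
    conv_rhs => rw [← h, mem_cj]
    rw [show l⁻¹ * (l * y * l⁻¹) * l = y by group]

variable (hD : DadeHypothesis A L H)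
include hD

theorem mem_kB_cj {B : Finset G} (hB : ↑B ⊆ A) {l : G} (hl : l ∈ L) {u : G} :
    u ∈ kB H (cj l B) ↔ l⁻¹ * u * l ∈ kB H B := by
  rw [mem_kB, mem_kB]
  constructor
  · intro h a ha
    have h1 := h (l * a * l⁻¹) (mem_cj.2 (by simpa [mul_assoc] using ha))
    rw [H_conj hD (hB ha) hl] at h1
    obtain ⟨v, hv, rfl⟩ := h1
    simpa [mul_assoc] using hv
  · intro h a ha
    have ha' := mem_cj.1 ha
    have e : a = l * (l⁻¹ * a * l) * l⁻¹ := by group
    rw [e]
    have := conj_H_mem hD (hB ha') hl (h _ ha')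
    rwa [show l * (l⁻¹ * u * l) * l⁻¹ = u by group] at this

theorem card_kB_cj {B : Finset G} (hB : ↑B ⊆ A) {l : G} (hl : l ∈ L) :
    Nat.card (kB H (cj l B)) = Nat.card (kB H B) := by
  refine Nat.card_congr ((MulAut.conj l⁻¹).toEquiv.subtypeEquiv fun u => ?_)
  rw [mem_kB_cj hD hB hl]
  simp

theorem kB_conj {B : Finset G} (hB : ↑B ⊆ A) {n u : G} (hn : n ∈ nB L B) (hu : u ∈ kB H B) :
    n * u * n⁻¹ ∈ kB H B := by
  obtain ⟨hnL, hne⟩ := mem_nB.1 hn
  rw [← hne, mem_kB_cj hD hB hnL]
  simpa [mul_assoc] using hu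

theorem cj_subset {B : Finset G} (hB : ↑B ⊆ A) {l : G} (hl : l ∈ L) : ↑(cj l B) ⊆ A := fun x hx => by
  have := hD.conj_mem l hl _ (hB (mem_cj.1 hx))
  rwa [show l * (l⁻¹ * x * l) * l⁻¹ = x by group] at this

theorem kB_le_L_eq_one {B : Finset G} (hB : ↑B ⊆ A) (hne : B.Nonempty) {u : G} (hu : u ∈ kB H B)
    (huL : u ∈ L) : u = 1 := by
  obtain ⟨a, ha⟩ := hne
  have h1 := mem_kB.1 hu a ha
  have : u ∈ H a ⊓ (L ⊓ Subgroup.centralizer ({a} : Set G)) :=
    ⟨h1, huL, hD.le_centralizer a (hB ha) h1⟩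
  rwa [hD.inf_eq_bot a (hB ha), Subgroup.mem_bot] at this

theorem exists_dec {B : Finset G} (hB : ↑B ⊆ A) {y : G} (hy : y ∈ mB L H B) :
    ∃ u ∈ kB H B, ∃ n ∈ nB L B, y = u * n := by
  have hle : nB L B ≤ Subgroup.normalizer (kB H B : Set G) := fun n hn =>
    Subgroup.mem_normalizer_iff.2 fun u => ⟨kB_conj hD hB hn, fun hu => by
      have := kB_conj hD hB (inv_mem hn) hu
      simpa [mul_assoc] using this⟩
  rw [mB, sup_comm, ← SetLike.mem_coe, Subgroup.coe_mul_of_right_le_normalizer_left _ _ hle] at hy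
  obtain ⟨u, hu, n, hn, rfl⟩ := Set.mem_mul.1 hy
  exact ⟨u, hu, n, hn, rfl⟩

theorem dec_unique {B : Finset G} (hB : ↑B ⊆ A) (hne : B.Nonempty) {u u' n n' : G}
    (hu : u ∈ kB H B) (hu' : u' ∈ kB H B) (hn : n ∈ L) (hn' : n' ∈ L) (e : u * n = u' * n') :
    n = n' := by
  have h1 : u'⁻¹ * u = n' * n⁻¹ := by
    rw [eq_mul_inv_iff_mul_eq, mul_assoc, e, inv_mul_cancel_left]
  have := kB_le_L_eq_one hD hB hne (mul_mem (inv_mem hu') hu) (h1 ▸ mul_mem hn' (inv_mem hn))
  rw [h1] at this
  exact (mul_inv_eq_one.1 this).symm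

theorem wF_eq {α : L → ℂ} (hαA : ∀ x : L, (x : G) ∉ A → α x = 0) {B : Finset G} (hB : ↑B ⊆ A)
    (hne : B.Nonempty) {u n : G} (hu : u ∈ kB H B) (hn : n ∈ nB L B) :
    wF A L H α B (u * n) = extendByZero L α n := by
  classical
  rw [wF]
  by_cases hnA : n ∈ A
  · rw [Finset.sum_eq_single n]
    · rw [if_pos (by rwa [mul_inv_cancel_right])]
    · intro n' hn' hne'
      rw [if_neg]
      intro h
      refine hne' (dec_unique hD hB hne h hu (mem_nB.1 (Finset.mem_filter.1 hn').2.2).1
        (mem_nB.1 hn).1 (by rw [inv_mul_cancel_right]))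
    · simp [hnA, hn]
  · rw [Finset.sum_eq_zero]
    · rw [extendByZero_mem' _ _ (mem_nB.1 hn).1, hαA _ hnA]
    · intro n' hn'
      rw [if_neg]
      intro h
      refine hnA ?_
      rw [← dec_unique hD hB hne h hu (mem_nB.1 (Finset.mem_filter.1 hn').2.2).1
        (mem_nB.1 hn).1 (by rw [inv_mul_cancel_right])]
      exact (Finset.mem_filter.1 hn').2.1

omit hD in
theorem wF_off {α : L → ℂ} {B : Finset G} {y : G} (hy : y ∉ mB L H B) : wF A L H α B y = 0 := by
  classical
  refine Finset.sum_eq_zero fun n hn => if_neg fun h => hy ?_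
  have := mul_mem (show y * n⁻¹ ∈ mB L H B from Subgroup.mem_sup_right h)
    (show n ∈ mB L H B from Subgroup.mem_sup_left (Finset.mem_filter.1 hn).2.2)
  rwa [inv_mul_cancel_right] at this

theorem card_mB {B : Finset G} (hB : ↑B ⊆ A) (hne : B.Nonempty) :
    Nat.card (mB L H B) = Nat.card (kB H B) * Nat.card (nB L B) := by
  rw [← Nat.card_prod]
  symm
  refine Nat.card_eq_of_bijective (fun p : kB H B × nB L B => (⟨(p.1 : G) * p.2,
    mul_mem (Subgroup.mem_sup_right p.1.2) (Subgroup.mem_sup_left p.2.2)⟩ : mB L H B)) ⟨?_, ?_⟩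
  · rintro ⟨⟨u, hu⟩, ⟨n, hn⟩⟩ ⟨⟨u', hu'⟩, ⟨n', hn'⟩⟩ e
    have e' : u * n = u' * n' := congrArg Subtype.val e
    have h1 := dec_unique hD hB hne hu hu' (mem_nB.1 hn).1 (mem_nB.1 hn').1 e'
    subst h1
    have h2 := mul_right_cancel e'
    subst h2
    rfl
  · rintro ⟨y, hy⟩
    obtain ⟨u, hu, n, hn, rfl⟩ := exists_dec hD hB hy
    exact ⟨(⟨u, hu⟩, ⟨n, hn⟩), rfl⟩

theorem gen_beta {α : L → ℂ} (hα : IsGeneralizedCharacter L α)
    (hαA : ∀ x : L, (x : G) ∉ A → α x = 0) {B : Finset G} (hB : ↑B ⊆ A) (hne : B.Nonempty) :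
    IsGeneralizedCharacter (mB L H B) (fun y : mB L H B => wF A L H α B (y : G)) := by
  choose u hu n hn he using fun y : mB L H B => exists_dec hD hB y.2
  let π : mB L H B →* L := MonoidHom.mk' (fun y => ⟨n y, (mem_nB.1 (hn y)).1⟩) (fun y z => by
    refine Subtype.ext (dec_unique hD hB hne (hu (y * z))
      (mul_mem (hu y) (kB_conj hD hB (hn y) (hu z))) (mem_nB.1 (hn _)).1
      (mul_mem (mem_nB.1 (hn y)).1 (mem_nB.1 (hn z)).1) ?_)
    rw [← he, Subgroup.coe_mul]
    conv_lhs => rw [he y, he z]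
    simp only [Subgroup.coe_mul]
    group)
  have hval : (fun y : mB L H B => wF A L H α B (y : G)) = α ∘ π := by
    funext y
    rw [he y, wF_eq hD hαA hB hne (hu y) (hn y), extendByZero_mem' _ _ (mem_nB.1 (hn y)).1]
    rfl
  rw [hval]
  obtain ⟨a, b, ha, hb, rfl⟩ := hα
  exact ⟨_, _, isCharacter_comp π ha, isCharacter_comp π hb, rfl⟩

omit hD in
noncomputable def cnt (g y : G) : ℕ := Nat.card {x : G // x * g * x⁻¹ = y}

omit hD in
theorem cnt_conj (g y k : G) : cnt g (k * y * k⁻¹) = cnt g y := by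
  refine Nat.card_congr ((Equiv.mulLeft k⁻¹).subtypeEquiv fun x => ?_)
  simp only [Equiv.coe_mulLeft]
  constructor
  · intro h
    calc k⁻¹ * x * g * (k⁻¹ * x)⁻¹ = k⁻¹ * (x * g * x⁻¹) * k := by group
      _ = y := by rw [h]; group
  · intro h
    calc x * g * x⁻¹ = k * (k⁻¹ * x * g * (k⁻¹ * x)⁻¹) * k⁻¹ := by group
      _ = k * y * k⁻¹ := by rw [h]

open Classical in
noncomputable def sC (g : G) (K : Subgroup G) (a : G) : ℕ :=
  ∑ y ∈ Finset.univ.filter (fun y : G => y * a⁻¹ ∈ K), cnt g y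

omit hD in
open Classical in
theorem sC_eq (g : G) (K : Subgroup G) (a : G) :
    (sC g K a : ℂ) = ∑ x : G, if x * g * x⁻¹ * a⁻¹ ∈ K then (1 : ℂ) else 0 := by
  rw [← Finset.sum_fiberwise (s := (Finset.univ : Finset G)) (g := fun x => x * g * x⁻¹), sC,
    Nat.cast_sum, Finset.sum_filter]
  refine Finset.sum_congr rfl fun y _ => ?_
  rw [Finset.sum_congr rfl (g := fun _ => if y * a⁻¹ ∈ K then (1 : ℂ) else 0)
    fun x hx => by rw [(Finset.mem_filter.1 hx).2]]
  rw [Finset.sum_const, cnt, Nat.card_eq_fintype_card, Fintype.card_subtype]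
  split_ifs <;> simp

theorem kB_insert [DecidableEq G] {B : Finset G} {a : G} {u : G} :
    u ∈ kB H (insert a B) ↔ u ∈ H a ∧ u ∈ kB H B := by
  simp [mem_kB]

theorem coset_count [DecidableEq G] {B : Finset G} (hB : ↑B ⊆ A) (hne : B.Nonempty) {a : G}
    (ha : a ∈ A) (haN : a ∈ nB L B) (g : G) :
    sC g (kB H B) a * Nat.card (kB H (insert a B)) =
      Nat.card (kB H B) * sC g (kB H (insert a B)) a := by
  classical
  set K := kB H B
  set C := kB H (insert a B)
  set Ka := Finset.univ.filter (fun y : G => y * a⁻¹ ∈ K)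
  set Ca := Finset.univ.filter (fun y : G => y * a⁻¹ ∈ C)
  set Kf := Finset.univ.filter (fun k : G => k ∈ K)
  have hCK : C ≤ K := fun u hu => ((kB_insert hD).1 hu).2
  have hcomm : ∀ c ∈ C, Commute a c := fun c hc => commute_of_mem hD ha ((kB_insert hD).1 hc).1
  have hKcard : Kf.card = Nat.card K := by
    rw [Nat.card_eq_fintype_card, Fintype.card_subtype]
  have hKacard : Ka.card = Nat.card K := by
    rw [← hKcard]
    exact Finset.card_equiv (Equiv.mulRight a⁻¹) (by simp [Ka, Kf])
  have hCacard : Ca.card = Nat.card C := by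
    rw [Nat.card_eq_fintype_card, Fintype.card_subtype]
    exact Finset.card_equiv (Equiv.mulRight a⁻¹) (by simp [Ca])
  -- conjugating `C a` by `K` stays in `K a`
  have hmap : ∀ k ∈ Kf, ∀ z ∈ Ca, k * z * k⁻¹ ∈ Ka := by
    intro k hk z hz
    simp only [Kf, Ca, Ka, Finset.mem_filter, Finset.mem_univ, true_and] at hk hz ⊢
    rw [show k * z * k⁻¹ * a⁻¹ = k * (z * a⁻¹) * (a * k⁻¹ * a⁻¹) by group]
    exact mul_mem (mul_mem hk (hCK hz)) (kB_conj hD hB haN (inv_mem hk))
  have hle : ∀ y ∈ Ka, (Kf.filter (fun k => k⁻¹ * y * k ∈ Ca)).card ≤ Nat.card C := by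
    intro y _
    by_cases hex : (Kf.filter (fun k => k⁻¹ * y * k ∈ Ca)).Nonempty
    · obtain ⟨k₀, hk₀⟩ := hex
      refine le_trans (Finset.card_le_card_of_injOn (fun k => k₀⁻¹ * k) ?_
        (fun x _ y _ e => mul_left_cancel e)) (le_of_eq (show (Finset.univ.filter (fun d : G => d ∈ C)).card = _ by
          rw [Nat.card_eq_fintype_card, Fintype.card_subtype]))
      intro k hk
      simp only [Finset.mem_coe, Finset.mem_filter, Finset.mem_univ, true_and, Kf, Ca] at hk hk₀ ⊢
      set d := k₀⁻¹ * k with hd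
      have hdK : d ∈ K := mul_mem (inv_mem hk₀.1) hk.1
      obtain ⟨c, hc, hce⟩ : ∃ c ∈ C, k⁻¹ * y * k = a * c :=
        ⟨a⁻¹ * (k⁻¹ * y * k), by
          have h := hk.2
          have e : a⁻¹ * (k⁻¹ * y * k) = k⁻¹ * y * k * a⁻¹ := by
            have h2 := (hcomm _ h).eq
            rw [inv_mul_eq_iff_eq_mul, h2]
            group
          rw [e]; exact h, by group⟩
      obtain ⟨c₀, hc₀, hce₀⟩ : ∃ c ∈ C, k₀⁻¹ * y * k₀ = a * c :=
        ⟨a⁻¹ * (k₀⁻¹ * y * k₀), by
          have h := hk₀.2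
          have e : a⁻¹ * (k₀⁻¹ * y * k₀) = k₀⁻¹ * y * k₀ * a⁻¹ := by
            have h2 := (hcomm _ h).eq
            rw [inv_mul_eq_iff_eq_mul, h2]
            group
          rw [e]; exact h, by group⟩
      have e : d * (a * c) * d⁻¹ = a * c₀ := by
        rw [← hce, ← hce₀, hd]; group
      have e2 := conj_eq_of_coset hD ha ha ((kB_insert hD).1 hc).1 ((kB_insert hD).1 hc₀).1 e
      have hdC : d ∈ Subgroup.centralizer ({a} : Set G) :=
        Subgroup.mem_centralizer_singleton_iff.2 (mul_inv_eq_iff_eq_mul.1 e2)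
      obtain ⟨b, hb⟩ := hne
      refine (kB_insert hD).2 ⟨mem_H_of_pow hD ha hdC (n := Nat.card (H b)) ?_ (hD.coprime b (hB hb) a ha), hdK⟩
      exact orderOf_dvd_iff_pow_eq_one.1 (Subgroup.orderOf_dvd_natCard _ (mem_kB.1 hdK b hb))
    · simp [Finset.not_nonempty_iff_eq_empty.1 hex]
  have hcol : ∀ k ∈ Kf, (Ka.filter (fun y => k⁻¹ * y * k ∈ Ca)).card = Nat.card C := by
    intro k hk
    rw [← hCacard]
    refine Finset.card_nbij' (fun y => k⁻¹ * y * k) (fun z => k * z * k⁻¹) ?_ ?_ ?_ ?_
    · intro y hy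
      simp only [Finset.mem_coe, Finset.mem_filter] at hy
      exact hy.2
    · intro z hz
      simp only [Finset.mem_coe, Finset.mem_filter]
      refine ⟨hmap k hk z hz, ?_⟩
      rwa [show k⁻¹ * (k * z * k⁻¹) * k = z by group]
    · intro y _; simp [mul_assoc]
    · intro z _; simp [mul_assoc]
  have hsum : ∑ y ∈ Ka, (Kf.filter (fun k => k⁻¹ * y * k ∈ Ca)).card = ∑ _y ∈ Ka, Nat.card C := by
    simp only [Finset.card_filter]
    rw [Finset.sum_comm]
    simp only [← Finset.card_filter]
    rw [Finset.sum_congr rfl hcol, Finset.sum_const, Finset.sum_const, hKcard, hKacard]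
  have heq := (Finset.sum_eq_sum_iff_of_le hle).1 hsum
  calc sC g K a * Nat.card C
      = ∑ y ∈ Ka, (Kf.filter (fun k => k⁻¹ * y * k ∈ Ca)).card * cnt g y := by
        rw [sC, Finset.sum_mul]
        exact Finset.sum_congr rfl fun y hy => by rw [heq y hy, mul_comm]
    _ = ∑ k ∈ Kf, ∑ y ∈ Ka.filter (fun y => k⁻¹ * y * k ∈ Ca), cnt g y := by
        simp only [Finset.card_filter, Finset.sum_mul, Finset.sum_filter]
        rw [Finset.sum_comm]
        exact Finset.sum_congr rfl fun k _ => Finset.sum_congr rfl fun y _ => by split_ifs <;> simp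
    _ = ∑ _k ∈ Kf, sC g C a := by
        refine Finset.sum_congr rfl fun k hk => ?_
        refine Finset.sum_nbij' (fun y => k⁻¹ * y * k) (fun z => k * z * k⁻¹) ?_ ?_ ?_ ?_ ?_
        · intro y hy
          simp only [Finset.mem_coe, Finset.mem_filter] at hy
          exact hy.2
        · intro z hz
          simp only [Finset.mem_coe, Finset.mem_filter]
          refine ⟨hmap k hk z hz, ?_⟩
          rwa [show k⁻¹ * (k * z * k⁻¹) * k = z by group]
        · intro y _; simp [mul_assoc]
        · intro z _; simp [mul_assoc]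
        · intro y _
          have := cnt_conj g y k⁻¹
          rw [inv_inv] at this
          rw [this]
    _ = Nat.card K * sC g C a := by rw [Finset.sum_const, hKcard, smul_eq_mul]

open Classical in
noncomputable def dB (A : Set G) (L : Subgroup G) (H : G → Subgroup G) (α : L → ℂ) (B : Finset G)
    (g : G) : ℂ :=
  (Nat.card (kB H B) : ℂ)⁻¹ * ∑ x : G, wF A L H α B (x * g * x⁻¹)

theorem ind_eq {α : L → ℂ} {B : Finset G} (hB : ↑B ⊆ A) (hne : B.Nonempty) (g : G) :
    indFun (mB L H B) (fun y : mB L H B => wF A L H α B (y : G)) g =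
      (Nat.card (nB L B) : ℂ)⁻¹ * dB A L H α B g := by
  rw [indFun_apply, card_mB hD hB hne, Nat.cast_mul, mul_inv, dB]
  rw [← Fintype.sum_equiv (Equiv.inv G) (fun x => wF A L H α B (x * g * x⁻¹))
    (fun x => extendByZero (mB L H B) (fun y : mB L H B => wF A L H α B (y : G)) (x⁻¹ * g * x))
    fun x => ?_]
  · ring
  · simp only [Equiv.inv_apply, inv_inv]
    by_cases h : x * g * x⁻¹ ∈ mB L H B
    · rw [extendByZero_mem' _ _ h]
    · rw [extendByZero_not_mem _ _ h, wF_off h]

open Classical in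
theorem dB_eq {α : L → ℂ} {B : Finset G} (hB : ↑B ⊆ A) (hne : B.Nonempty) (g : G) :
    dB A L H α B g = ∑ a ∈ Finset.univ.filter (fun a : G => a ∈ A ∧ a ∈ nB L B),
      extendByZero L α a * ((Nat.card (kB H (insert a B)) : ℂ)⁻¹ *
        (sC g (kB H (insert a B)) a : ℂ)) := by
  rw [dB]
  simp only [wF]
  rw [Finset.sum_comm, Finset.mul_sum]
  refine Finset.sum_congr rfl fun a ha => ?_
  obtain ⟨-, haA, haN⟩ := Finset.mem_filter.1 ha
  have h := congrArg (Nat.cast (R := ℂ)) (coset_count hD hB hne haA haN g)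
  push_cast at h
  have h1 : (∑ x : G, if x * g * x⁻¹ * a⁻¹ ∈ kB H B then extendByZero L α a else 0) =
      extendByZero L α a * (sC g (kB H B) a : ℂ) := by
    rw [sC_eq, Finset.mul_sum]
    exact Finset.sum_congr rfl fun x _ => by split_ifs <;> simp
  rw [h1]
  have n1 := natCard_ne_zero (kB H B)
  have n2 := natCard_ne_zero (kB H (insert a B))
  field_simp
  linear_combination (extendByZero L α a) * h

theorem dB_cj {α : L → ℂ} (hαc : IsClassFunction L α) {B : Finset G} (hB : ↑B ⊆ A) {l : G}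
    (hl : l ∈ L) (g : G) : dB A L H α (cj l B) g = dB A L H α B g := by
  classical
  rw [dB, dB, card_kB_cj hD hB hl]
  congr 1
  refine (Fintype.sum_equiv (Equiv.mulLeft l) _ _ fun x => ?_).symm
  simp only [Equiv.coe_mulLeft, wF]
  refine Finset.sum_nbij' (fun n => l * n * l⁻¹) (fun n => l⁻¹ * n * l) ?_ ?_ ?_ ?_ ?_
  · intro n hn
    simp only [Finset.mem_coe, Finset.mem_filter, Finset.mem_univ, true_and, mem_nB] at hn ⊢
    refine ⟨hD.conj_mem l hl n hn.1, mul_mem (mul_mem hl hn.2.1) (inv_mem hl), ?_⟩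
    rw [cj_mul, inv_mul_cancel_right, ← cj_mul, hn.2.2]
  · intro n hn
    simp only [Finset.mem_coe, Finset.mem_filter, Finset.mem_univ, true_and, mem_nB] at hn ⊢
    refine ⟨by simpa using hD.conj_mem l⁻¹ (inv_mem hl) n hn.1,
      mul_mem (mul_mem (inv_mem hl) hn.2.1) hl, ?_⟩
    have h3 := hn.2.2
    rw [cj_mul] at h3
    rw [show l⁻¹ * n * l = l⁻¹ * (n * l) by group, ← cj_mul, h3, cj_mul, inv_mul_cancel, cj_one]
  · intro n _; simp [mul_assoc]
  · intro n _; simp [mul_assoc]
  · intro n hn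
    obtain ⟨-, -, hnN⟩ := Finset.mem_filter.1 hn
    have hnL := (mem_nB.1 hnN).1
    have e1 : extendByZero L α (l * n * l⁻¹) = extendByZero L α n := by
      rw [extendByZero_mem' _ _ hnL, extendByZero_mem' _ _ (mul_mem (mul_mem hl hnL) (inv_mem hl))]
      exact hαc ⟨n, hnL⟩ ⟨l, hl⟩
    rw [e1]
    refine if_congr ?_ rfl rfl
    rw [mem_kB_cj hD hB hl, show l⁻¹ * (l * x * g * (l * x)⁻¹ * (l * n * l⁻¹)⁻¹) * l =
      x * g * x⁻¹ * n⁻¹ by group]

open Classical in
theorem main_identity {α : L → ℂ} (hαc : IsClassFunction L α)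
    (hαA : ∀ x : L, (x : G) ∉ A → α x = 0) (g : G) :
    ∑ B ∈ (A.toFinset.powerset.filter (fun B => B.Nonempty)),
      (-1 : ℂ) ^ (B.card + 1) * dB A L H α B g =
      (Nat.card L : ℂ) * dadeIsometry A L H α g := by
  set Am := A.toFinset
  set P := Am.powerset.filter (fun B => B.Nonempty)
  have hP : ∀ B, B ∈ P ↔ ↑B ⊆ A ∧ B.Nonempty := fun B => by
    simp [P, Am, Finset.mem_powerset, Finset.subset_iff, Set.subset_def]
  rw [Finset.sum_congr rfl fun B hB => by rw [dB_eq hD ((hP B).1 hB).1 ((hP B).1 hB).2]]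
  simp only [Finset.mul_sum]
  rw [Finset.sum_comm' (t' := Am) (s' := fun a => P.filter (fun B => a ∈ nB L B))
    (by intro B a; simp [Am]; tauto)]
  have hsingle : ∀ a ∈ Am, ∑ B ∈ P.filter (fun B => a ∈ nB L B),
      (-1 : ℂ) ^ (B.card + 1) * (extendByZero L α a * ((Nat.card (kB H (insert a B)) : ℂ)⁻¹ *
        (sC g (kB H (insert a B)) a : ℂ))) =
      extendByZero L α a * ((Nat.card (H a) : ℂ)⁻¹ * (sC g (H a) a : ℂ)) := by
    intro a ha
    have haA : a ∈ A := by simpa [Am] using ha
    have h1 : ({a} : Finset G) ∈ P.filter (fun B => a ∈ nB L B) := by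
      refine Finset.mem_filter.2 ⟨(hP _).2 ⟨by simpa using haA, Finset.singleton_nonempty a⟩, ?_⟩
      rw [mem_nB]
      refine ⟨hD.subset haA, ?_⟩
      ext x
      simp only [mem_cj, Finset.mem_singleton]
      constructor
      · intro h
        calc x = a * (a⁻¹ * x * a) * a⁻¹ := by group
          _ = a := by rw [h]; group
      · rintro rfl; group
    rw [← Finset.add_sum_erase _ _ h1, Finset.sum_involution
      (fun B _ => if a ∈ B then B.erase a else insert a B) ?_ ?_ ?_ ?_, add_zero]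
    · simp [kB]
    · intro B hB
      split_ifs with h
      · rw [Finset.insert_eq_of_mem h, Finset.insert_erase h,
          ← Finset.card_erase_add_one h]
        ring
      · rw [Finset.insert_eq_of_mem (Finset.mem_insert_self a B), Finset.card_insert_of_notMem h]
        ring
    · intro B _ _
      split_ifs with h
      · intro e
        exact (Finset.notMem_erase a B) (e.symm ▸ h)
      · intro e
        exact h (e ▸ Finset.mem_insert_self a B)
    · intro B hB
      obtain ⟨hne1, hB'⟩ := Finset.mem_erase.1 hB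
      obtain ⟨hBP, haN⟩ := Finset.mem_filter.1 hB'
      obtain ⟨hBA, hBne⟩ := (hP B).1 hBP
      obtain ⟨haL, hcj⟩ := mem_nB.1 haN
      have haa : ∀ x, a⁻¹ * x * a = a ↔ x = a := fun x => by
        constructor
        · intro h
          calc x = a * (a⁻¹ * x * a) * a⁻¹ := by group
            _ = a := by rw [h]; group
        · rintro rfl; group
      have hcjm : ∀ x, a⁻¹ * x * a ∈ B ↔ x ∈ B := fun x => by rw [← mem_cj, hcj]
      split_ifs with h
      · refine Finset.mem_erase.2 ⟨fun e => ?_, Finset.mem_filter.2 ⟨(hP _).2 ⟨?_, ?_⟩, ?_⟩⟩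
        · exact Finset.notMem_erase a B (e.symm ▸ Finset.mem_singleton_self a)
        · exact fun x hx => hBA (Finset.mem_of_mem_erase hx)
        · refine Finset.nonempty_iff_ne_empty.2 fun e => hne1 ?_
          rw [← Finset.insert_erase h, e]
          rfl
        · rw [mem_nB]
          refine ⟨haL, ?_⟩
          ext x
          simp [mem_cj, hcjm, haa]
      · refine Finset.mem_erase.2 ⟨fun e => ?_, Finset.mem_filter.2 ⟨(hP _).2 ⟨?_, ?_⟩, ?_⟩⟩
        · obtain ⟨b, hb⟩ := hBne
          have := e ▸ Finset.mem_insert_of_mem (a := b) (b := a) hb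
          rw [Finset.mem_singleton] at this
          exact h (this ▸ hb)
        · intro x hx
          simp only [Finset.coe_insert, Set.mem_insert_iff] at hx
          rcases hx with rfl | hx
          exacts [haA, hBA hx]
        · exact Finset.insert_nonempty a B
        · rw [mem_nB]
          refine ⟨haL, ?_⟩
          ext x
          simp [mem_cj, hcjm, haa]
    · intro B hB
      split_ifs with h h' h'
      · exact absurd h' (Finset.notMem_erase a B)
      · exact Finset.insert_erase h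
      · exact Finset.erase_insert h
      · exact absurd (Finset.mem_insert_self a B) h'
  rw [Finset.sum_congr rfl hsingle]
  set T := Finset.univ.filter (fun y : G => ∃ a ∈ A, ∃ u ∈ H a, ∃ x : G, x * y * x⁻¹ = a * u)
  have hF : IsClassFunction G (fun y => (cnt g y : ℂ) * dadeIsometry A L H α y) := by
    intro y k
    show (cnt g _ : ℂ) * _ = _
    rw [cnt_conj, dade_classFun hD hαc y k]
  have key := card_mul_sum hD _ hF
  have hrhs : ∑ y ∈ T, (cnt g y : ℂ) * dadeIsometry A L H α y =
      (Nat.card G : ℂ) * dadeIsometry A L H α g := by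
    rw [Finset.sum_filter_of_ne (fun y _ hne => ?_)]
    · have : ∀ y, (cnt g y : ℂ) * dadeIsometry A L H α y = (cnt g y : ℂ) * dadeIsometry A L H α g := by
        intro y
        by_cases h : ∃ x, x * g * x⁻¹ = y
        · obtain ⟨x, rfl⟩ := h
          rw [dade_classFun hD hαc g x]
        · have : cnt g y = 0 := by
            rw [cnt]
            haveI : IsEmpty {x : G // x * g * x⁻¹ = y} := ⟨fun x => h ⟨x.1, x.2⟩⟩
            exact Nat.card_of_isEmpty
          rw [this]; simp
      rw [Finset.sum_congr rfl fun y _ => this y, ← Finset.sum_mul]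
      congr 1
      rw [← Nat.cast_sum]
      congr 1
      simp only [cnt, Nat.card_eq_fintype_card, Fintype.card_subtype]
      rw [← Finset.card_univ]
      exact (Finset.card_eq_sum_card_fiberwise (fun x _ => Finset.mem_univ _)).symm
    · by_contra hn
      refine hne ?_
      rw [dade_off hD, mul_zero]
      rintro ⟨a, ha, x, u, hu, e⟩
      exact hn ⟨(a : G), ha, u, hu, x, e⟩
  rw [hrhs] at key
  have key2 : ∑ a ∈ (Finset.univ : Finset L).filter (fun a : L => (a : G) ∈ A),
      (Nat.card (H (a : G)) : ℂ)⁻¹ * ∑ᶠ u ∈ (H (a : G) : Set G),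
        (cnt g ((a : G) * u) : ℂ) * dadeIsometry A L H α ((a : G) * u) =
      (Nat.card L : ℂ) * dadeIsometry A L H α g :=
    mul_left_cancel₀ (natCard_ne_zero G) (by rw [key]; ring)
  rw [← key2]
  refine (Finset.sum_nbij (fun a : L => (a : G)) ?_ ?_ ?_ ?_).symm
  · intro a ha
    simpa [Am] using ha
  · exact fun a _ b _ e => Subtype.ext e
  · intro a ha
    have haA : a ∈ A := by simpa [Am] using ha
    exact ⟨⟨a, hD.subset haA⟩, by simpa using haA, rfl⟩
  · intro a ha
    have haA : (a : G) ∈ A := (Finset.mem_filter.1 ha).2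
    rw [extendByZero_mem' _ _ a.2, mul_left_comm]
    congr 1
    rw [finsum_mem_eq_finite_toFinset_sum _ (H (a : G) : Set G).toFinite, sC, Nat.cast_sum,
      Finset.mul_sum]
    refine Finset.sum_nbij' (fun u => (a : G) * u) (fun y => (a : G)⁻¹ * y) ?_ ?_ ?_ ?_ ?_
    · intro u hu
      have hu' : u ∈ H (a : G) := by simpa using hu
      simp only [Finset.mem_coe, Finset.mem_filter, Finset.mem_univ, true_and]
      rwa [(commute_of_mem hD haA hu').eq, mul_inv_cancel_right]
    · intro y hy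
      simp only [Finset.mem_coe, Finset.mem_filter, Finset.mem_univ, true_and] at hy
      rw [Set.Finite.mem_toFinset, SetLike.mem_coe]
      have := (commute_of_mem hD haA hy).eq
      rwa [show (a : G)⁻¹ * y = y * (a : G)⁻¹ from by
        rw [inv_mul_eq_iff_eq_mul, this]; group]
    · intro u _; simp
    · intro y _; simp
    · intro u hu
      have hu' : u ∈ H (a : G) := by simpa using hu
      rw [dade_apply hD hαc (x := 1) (g := (a : G) * u) haA hu' (by simp), mul_comm]

set_option maxHeartbeats 1000000 in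
theorem dade_gen {α : L → ℂ} (hα : IsGeneralizedCharacter L α)
    (hαA : ∀ x : L, (x : G) ∉ A → α x = 0) :
    IsGeneralizedCharacter G (dadeIsometry A L H α) := by
  classical
  have hαc : IsClassFunction L α := by
    obtain ⟨a, b, ha, hb, rfl⟩ := hα
    intro x y
    simp only [Pi.sub_apply]
    rw [classFun_of_char ha x y, classFun_of_char hb x y]
  set P := A.toFinset.powerset.filter (fun B => B.Nonempty)
  have hP : ∀ B, B ∈ P ↔ ↑B ⊆ A ∧ B.Nonempty := fun B => by
    simp [P, Finset.mem_powerset, Finset.subset_iff, Set.subset_def]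
  let orb : Finset G → Finset (Finset G) := fun B => Finset.univ.image (fun l : L => cj (l : G) B)
  let ind : Finset G → (G → ℂ) := fun B =>
    indFun (mB L H B) (fun y : mB L H B => wF A L H α B (y : G))
  let rep : Finset (Finset G) → Finset G := fun O =>
    if h : ∃ B ∈ P, orb B = O then h.choose else ∅
  have heq : dadeIsometry A L H α =
      ∑ O ∈ P.image orb, ((-1 : ℤ) ^ ((rep O).card + 1)) • ind (rep O) := by
    funext g
    refine mul_left_cancel₀ (natCard_ne_zero L) ?_
    rw [← main_identity hD hαc hαA g, Finset.sum_apply, Finset.mul_sum,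
      ← Finset.sum_fiberwise_of_maps_to (fun B hB => Finset.mem_image_of_mem orb hB)]
    refine Finset.sum_congr rfl fun O hO => ?_
    have hex : ∃ B ∈ P, orb B = O := by simpa using hO
    simp only [rep, dif_pos hex]
    obtain ⟨hBP, hBO⟩ := hex.choose_spec
    set B := hex.choose
    obtain ⟨hBA, hBne⟩ := (hP B).1 hBP
    have hfib : P.filter (fun B' => orb B' = O) = O := by
      ext B'
      rw [Finset.mem_filter, ← hBO]
      constructor
      · rintro ⟨-, h2⟩
        rw [← h2]
        exact Finset.mem_image.2 ⟨1, Finset.mem_univ _, by simp [cj_one]⟩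
      · intro h
        obtain ⟨l, -, rfl⟩ := Finset.mem_image.1 h
        refine ⟨(hP _).2 ⟨cj_subset hD hBA l.2, ?_⟩, ?_⟩
        · rw [← Finset.card_pos, card_cj, Finset.card_pos]; exact hBne
        · ext B''
          simp only [orb, Finset.mem_image, Finset.mem_univ, true_and]
          constructor
          · rintro ⟨m, rfl⟩
            exact ⟨m * l, by rw [cj_mul, Subgroup.coe_mul]⟩
          · rintro ⟨m, rfl⟩
            exact ⟨m * l⁻¹, by rw [cj_mul]; simp⟩
    rw [hfib]
    have hcard : O.card * Nat.card (nB L B) = Nat.card L := by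
      rw [Nat.card_eq_fintype_card (α := L), ← Finset.card_univ, ← hBO]
      rw [Finset.card_eq_sum_card_image (fun l : L => cj (l : G) B) (Finset.univ : Finset L)]
      rw [Finset.sum_congr rfl (g := fun _ => Nat.card (nB L B)), Finset.sum_const, smul_eq_mul]
      intro B' hB'
      obtain ⟨l, -, rfl⟩ := Finset.mem_image.1 hB'
      rw [Nat.card_eq_fintype_card, Fintype.card_subtype]
      refine Finset.card_nbij' (fun m : L => (l : G)⁻¹ * m)
        (fun n => if h : n ∈ L then l * ⟨n, h⟩ else 1) ?_ ?_ ?_ ?_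
      · intro m hm
        simp only [Finset.mem_coe, Finset.mem_filter, Finset.mem_univ, true_and, mem_nB] at hm ⊢
        refine ⟨mul_mem (inv_mem l.2) m.2, ?_⟩
        rw [← cj_mul, hm, cj_mul, inv_mul_cancel, cj_one]
      · intro n hn
        simp only [Finset.mem_coe, Finset.mem_filter, Finset.mem_univ, true_and, mem_nB] at hn ⊢
        rw [dif_pos hn.1, Subgroup.coe_mul, ← cj_mul, hn.2]
      · intro m _
        simp only
        rw [dif_pos (mul_mem (inv_mem l.2) m.2)]
        exact Subtype.ext (by simp)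
      · intro n hn
        simp only [Finset.mem_coe, Finset.mem_filter, Finset.mem_univ, true_and, mem_nB] at hn
        simp only
        rw [dif_pos hn.1]
        simp
    rw [Finset.sum_congr rfl (g := fun _ => (-1 : ℂ) ^ (B.card + 1) * dB A L H α B g), Finset.sum_const,
      nsmul_eq_mul]
    · simp only [ind, Pi.smul_apply, zsmul_eq_mul, Int.cast_pow, Int.cast_neg, Int.cast_one]
      rw [ind_eq hD hBA hBne, ← hcard, Nat.cast_mul]
      have := natCard_ne_zero (nB L B)
      field_simp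
    · intro B' hB'
      rw [← hBO] at hB'
      obtain ⟨l, -, rfl⟩ := Finset.mem_image.1 hB'
      rw [card_cj, dB_cj hD hαc hBA l.2]
  rw [heq]
  refine Finset.sum_induction _ _ (fun a b ha hb => CfsgLib.Blk.gen_add ha hb) ?_ fun O hO => ?_
  · exact ⟨0, 0, isCharacter_zero, isCharacter_zero, by simp⟩
  · have hgen : ∀ B : Finset G, ↑B ⊆ A → B.Nonempty → IsGeneralizedCharacter G (ind B) :=
      fun B hBA hBne => gen_indFun (mB L H B) (gen_beta hD hα hαA hBA hBne)
    have hrep : rep O ∈ P := by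
      have hex : ∃ B ∈ P, orb B = O := by simpa using hO
      simp only [rep, dif_pos hex]
      exact hex.choose_spec.1
    obtain ⟨hBA, hBne⟩ := (hP _).1 hrep
    exact CfsgLib.Coh.gen_zsmul (hgen (rep O) hBA hBne) _

end

/-- Under the Dade hypothesis for (A, L, H): if α is a generalized character of L vanishing outside A, then its image under the Dade map is a generalized character of G. -/
theorem result {G : Type*} [Group G] [Fintype G] (A : Set G) (L : Subgroup G) [Fintype L] (H : G → Subgroup G) (hD : Cfsg.DadeHypothesis A L H) (α : L → ℂ) (hα : Cfsg.IsGeneralizedCharacter L α) (hαA : ∀ x : L, (x : G) ∉ A → α x = 0) : Cfsg.IsGeneralizedCharacter G (Cfsg.dadeIsometry A L H α) := by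
  exact dade_gen hD hα hαA

end Cfsg.Agent.S1501
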