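import Cfsg.Statements.S1503
import Cfsg.Agent.Char.CyclicTI

set_option autoImplicit false
open Cfsg

namespace Cfsg.Agent.S1503
open scoped CfsgLib.Char


/-- Let W₁, W₂ ≤ G with W = W₁ ⊔ W₂ and let χ an orthonormal family of irreducible characters of G up to sign, indexed by the linear characters ω of W, with χ_1 = 1, χ_ω = ω on W outside W₁ ∪ W₂, and the induction identity for (1 − φ)(1 − ψ). If θ is an irreducible character of G orthogonal to χ ω for every linear character ω of W, then θ vanishes at every element of W lying outside W₁ ∪ W₂. -/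
theorem result {G : Type*} [Group G] [Fintype G] (W₁ W₂ : Subgroup G) (hW : Cfsg.IsSelfNormalizingCyclic W₁ W₂) (χ : (↥(W₁ ⊔ W₂) →* ℂˣ) → (G → ℂ)) (hχ : Cfsg.IsCyclicTIFamily W₁ W₂ χ) (θ : G → ℂ) (hθ : Cfsg.IsIrrCharacter G θ) (horth : ∀ ω, Cfsg.classInner θ (χ ω) = 0) (w : ↥(W₁ ⊔ W₂)) (hw₁ : (w : G) ∉ W₁) (hw₂ : (w : G) ∉ W₂) : θ w = 0 := by
  classical
  haveI : Fintype ↥(W₁ ⊔ W₂) := Fintype.ofFinite _
  open CfsgLib.Char in
  · refine CfsgLib.CTI.eq_zero_of_orth hW (fun x => θ x) (fun φ ψ hφ hψ => ?_) hw₁ hw₂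
    rw [← classInner_conj, ← CfsgLib.Char.frobenius _ _ (classFun_of_irr hθ), classInner_conj]
    by_cases h1 : φ = 1
    · subst h1
      rw [show (fun w => 1 - (((1 : ↥(W₁ ⊔ W₂) →* ℂˣ) w : ℂˣ) : ℂ) - (ψ w : ℂ) + (((1 : ↥(W₁ ⊔ W₂) →* ℂˣ) w : ℂˣ) : ℂ) * (ψ w : ℂ)) = 0 from funext fun w => by simp,
        indFun_zero, classInner_zero_right]
    by_cases h2 : ψ = 1
    · subst h2
      rw [show (fun w => 1 - (φ w : ℂ) - (((1 : ↥(W₁ ⊔ W₂) →* ℂˣ) w : ℂˣ) : ℂ) + (φ w : ℂ) * (((1 : ↥(W₁ ⊔ W₂) →* ℂˣ) w : ℂˣ) : ℂ)) = 0 from funext fun w => by simp,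
        indFun_zero, classInner_zero_right]
    rw [hχ.induced_eq φ ψ h1 h2 hφ hψ, show (fun g => 1 - χ φ g - χ ψ g + χ (φ * ψ) g) =
      χ 1 - χ φ - χ ψ + χ (φ * ψ) by rw [hχ.map_one]; rfl]
    simp only [classInner_add_right, classInner_sub_right, horth, sub_self, add_zero]

end Cfsg.Agent.S1503
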