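import Cfsg.Statements.S1504
import Cfsg.Agent.Char.CyclicTI

set_option autoImplicit false
open Cfsg

namespace Cfsg.Agent.S1504
open scoped Pointwise
open scoped CfsgLib.Char


/-- Let W₁, W₂ be subgroups of a finite group with W₁ ⊓ W₂ = ⊥ whose elements commute, and W = W₁ ⊔ W₂. For linear characters φ, ψ of W with φ trivial on W₂ and ψ trivial on W₁, the function (1 − φ)(1 − ψ) vanishes on W₁ ∪ W₂; and the family of these functions, indexed by pairs (φ, ψ) with φ ≠ 1 ≠ ψ, is linearly independent over ℂ. -/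
theorem result {G : Type*} [Group G] [Finite G] (W₁ W₂ : Subgroup G) (hdisj : W₁ ⊓ W₂ = ⊥) (hcomm : ∀ a ∈ W₁, ∀ b ∈ W₂, a * b = b * a) : (∀ φ ψ : ↥(W₁ ⊔ W₂) →* ℂˣ, (∀ w : ↥(W₁ ⊔ W₂), (w : G) ∈ W₂ → φ w = 1) → (∀ w : ↥(W₁ ⊔ W₂), (w : G) ∈ W₁ → ψ w = 1) → ∀ w : ↥(W₁ ⊔ W₂), ((w : G) ∈ W₁ ∨ (w : G) ∈ W₂) → (1 - (φ w : ℂ) - (ψ w : ℂ) + (φ w : ℂ) * (ψ w : ℂ)) = 0) ∧ LinearIndependent ℂ (fun p : {p : (↥(W₁ ⊔ W₂) →* ℂˣ) × (↥(W₁ ⊔ W₂) →* ℂˣ) // p.1 ≠ 1 ∧ p.2 ≠ 1 ∧ (∀ w : ↥(W₁ ⊔ W₂), (w : G) ∈ W₂ → p.1 w = 1) ∧ (∀ w : ↥(W₁ ⊔ W₂), (w : G) ∈ W₁ → p.2 w = 1)} => fun w : ↥(W₁ ⊔ W₂) => 1 - (p.1.1 w : ℂ) - (p.1.2 w : ℂ) + (p.1.1 w : ℂ) * (p.1.2 w : ℂ)) := by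
  classical
  haveI : Fintype ↥(W₁ ⊔ W₂) := Fintype.ofFinite _
  refine ⟨fun φ ψ hφ hψ w h => ?_, ?_⟩
  · rcases h with h | h
    · rw [hψ w h]; simp
    · rw [hφ w h]; simp
  open CfsgLib.Char in
  · have hle : W₂ ≤ Subgroup.normalizer (W₁ : Set G) := fun b hb => Subgroup.mem_normalizer_iff.2 fun a => by
      constructor
      · intro ha; rwa [← hcomm a ha b hb, mul_inv_cancel_right]
      · intro ha
        have e : b * a * b⁻¹ * b = b * (b * a * b⁻¹) := hcomm _ ha b hb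
        rwa [show b * a * b⁻¹ = a by
          calc b * a * b⁻¹ = b⁻¹ * (b * (b * a * b⁻¹)) := by group
            _ = a := by rw [← e]; group] at ha
    have hsplit : ∀ μ : ↥(W₁ ⊔ W₂) →* ℂˣ, (∀ w : ↥(W₁ ⊔ W₂), (w : G) ∈ W₁ → μ w = 1) →
        (∀ w : ↥(W₁ ⊔ W₂), (w : G) ∈ W₂ → μ w = 1) → μ = 1 := by
      intro μ h1 h2
      refine MonoidHom.ext fun w => ?_
      have hw : (w : G) ∈ ((W₁ : Set G) * (W₂ : Set G)) := by
        rw [← Subgroup.coe_mul_of_right_le_normalizer_left _ _ hle]; exact w.2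
      obtain ⟨a, ha, b, hb, e⟩ := Set.mem_mul.1 hw
      rw [show w = (⟨a, Subgroup.mem_sup_left ha⟩ : ↥(W₁ ⊔ W₂)) * ⟨b, Subgroup.mem_sup_right hb⟩ from Subtype.ext e.symm,
        map_mul, h1 _ ha, h2 _ hb, mul_one, MonoidHom.one_apply]
    refine linearIndependent_iff'.2 fun s c hc p hp => ?_
    obtain ⟨⟨φ, ψ⟩, hφ, hψ, hφ2, hψ1⟩ := p
    have h := congrArg (fun f => Cfsg.classInner f (fun w => (((φ * ψ) w : ℂˣ) : ℂ))) hc
    simp only [classInner_zero_left, classInner_sum_left, classInner_smul_left] at h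
    rw [Finset.sum_eq_single_of_mem _ hp] at h
    · rw [show (fun w : ↥(W₁ ⊔ W₂) => 1 - (φ w : ℂ) - (ψ w : ℂ) + (φ w : ℂ) * (ψ w : ℂ)) =
          (fun w => (((1 : ↥(W₁ ⊔ W₂) →* ℂˣ) w : ℂˣ) : ℂ)) - (fun w => (φ w : ℂ)) - (fun w => (ψ w : ℂ)) +
            (fun w => (((φ * ψ) w : ℂˣ) : ℂ)) by ext w; simp] at h
      simp only [classInner_add_left, classInner_sub_left, CfsgLib.CTI.linear_inner] at h
      rw [if_neg, if_neg, if_neg, if_pos trivial] at h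
      · simpa using h
      · exact fun e => hφ (MonoidHom.ext fun w => by simpa using (DFunLike.congr_fun e w).symm)
      · exact fun e => hψ (MonoidHom.ext fun w => by simpa using (DFunLike.congr_fun e w).symm)
      · refine fun e => hφ (hsplit φ (fun w hw => ?_) hφ2)
        have := congrArg (fun μ : ↥(W₁ ⊔ W₂) →* ℂˣ => μ w) e
        simpa [hψ1 w hw] using this.symm
    · rintro ⟨⟨α, β⟩, hα, hβ, hα2, hβ1⟩ - hne
      rw [show (fun w : ↥(W₁ ⊔ W₂) => 1 - (α w : ℂ) - (β w : ℂ) + (α w : ℂ) * (β w : ℂ)) =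
          (fun w => (((1 : ↥(W₁ ⊔ W₂) →* ℂˣ) w : ℂˣ) : ℂ)) - (fun w => (α w : ℂ)) - (fun w => (β w : ℂ)) +
            (fun w => (((α * β) w : ℂˣ) : ℂ)) by ext w; simp]
      simp only [classInner_add_left, classInner_sub_left, CfsgLib.CTI.linear_inner]
      rw [if_neg, if_neg, if_neg, if_neg]
      · simp
      · intro e
        refine hne (Subtype.ext (Prod.ext (mul_inv_eq_one.1 (hsplit _ (fun w hw => ?_) fun w hw => ?_))
          (mul_inv_eq_one.1 (hsplit _ (fun w hw => ?_) fun w hw => ?_))))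
        · have := congrArg (fun μ : ↥(W₁ ⊔ W₂) →* ℂˣ => μ w) e
          simp only [MonoidHom.mul_apply, hψ1 w hw, hβ1 w hw, mul_one] at this
          simp [this]
        · simp [hφ2 w hw, hα2 w hw]
        · simp [hψ1 w hw, hβ1 w hw]
        · have := congrArg (fun μ : ↥(W₁ ⊔ W₂) →* ℂˣ => μ w) e
          simp only [MonoidHom.mul_apply, hφ2 w hw, hα2 w hw, one_mul] at this
          simp [this]
      · refine fun e => hφ (hsplit φ (fun w hw => ?_) hφ2)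
        have := congrArg (fun μ : ↥(W₁ ⊔ W₂) →* ℂˣ => μ w) e
        simpa [hψ1 w hw, hβ1 w hw] using this.symm
      · refine fun e => hψ (hsplit ψ hψ1 fun w hw => ?_)
        have := congrArg (fun μ : ↥(W₁ ⊔ W₂) →* ℂˣ => μ w) e
        simpa [hφ2 w hw, hα2 w hw] using this.symm
      · refine fun e => hφ (hsplit φ (fun w hw => ?_) hφ2)
        have := congrArg (fun μ : ↥(W₁ ⊔ W₂) →* ℂˣ => μ w) e
        simpa [hψ1 w hw] using this.symm

end Cfsg.Agent.S1504
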