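import Cfsg.Statements.S1505
import Cfsg.Agent.Char.CyclicTI

set_option autoImplicit false
open Cfsg

namespace Cfsg.Agent.S1505
open scoped CfsgLib.Char


open Classical in
/-- Let W₁, W₂ ≤ G form a self-normalising cyclic subgroup W = W₁ ⊔ W₂. For nontrivial linear characters φ, φ' of W trivial on W₂ and ψ, ψ' trivial on W₁, put α = (1 − φ)(1 − ψ) and α' = (1 − φ')(1 − ψ'). Then the function induced from α to G has inner product 1 with the principal character, and the inner product of the functions induced from α and α' is 1 + a + b + ab where a = 1 if φ = φ' (else 0) and b = 1 if ψ = ψ' (else 0). -/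
theorem result {G : Type*} [Group G] [Fintype G] (W₁ W₂ : Subgroup G) (hW : Cfsg.IsSelfNormalizingCyclic W₁ W₂) (φ φ' ψ ψ' : ↥(W₁ ⊔ W₂) →* ℂˣ) (hφ : φ ≠ 1) (hφ' : φ' ≠ 1) (hψ : ψ ≠ 1) (hψ' : ψ' ≠ 1) (hφ₂ : ∀ w : ↥(W₁ ⊔ W₂), (w : G) ∈ W₂ → φ w = 1 ∧ φ' w = 1) (hψ₁ : ∀ w : ↥(W₁ ⊔ W₂), (w : G) ∈ W₁ → ψ w = 1 ∧ ψ' w = 1) : Cfsg.classInner (Cfsg.indFun (W₁ ⊔ W₂) (fun w => 1 - (φ w : ℂ) - (ψ w : ℂ) + (φ w : ℂ) * (ψ w : ℂ))) (fun _ => 1) = 1 ∧ Cfsg.classInner (Cfsg.indFun (W₁ ⊔ W₂) (fun w => 1 - (φ w : ℂ) - (ψ w : ℂ) + (φ w : ℂ) * (ψ w : ℂ))) (Cfsg.indFun (W₁ ⊔ W₂) (fun w => 1 - (φ' w : ℂ) - (ψ' w : ℂ) + (φ' w : ℂ) * (ψ' w : ℂ))) = 1 + (if φ = φ' then 1 else 0) + (if ψ = ψ' then 1 else 0) + (if φ = φ' then 1 else 0) * (if ψ = ψ' then 1 else 0) := by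
  classical
  haveI : Fintype ↥(W₁ ⊔ W₂) := Fintype.ofFinite _
  open CfsgLib.Char in
  · have hab := CfsgLib.CTI.comm hW
    have hsplit : ∀ μ : ↥(W₁ ⊔ W₂) →* ℂˣ, (∀ w : ↥(W₁ ⊔ W₂), (w : G) ∈ W₁ → μ w = 1) →
        (∀ w : ↥(W₁ ⊔ W₂), (w : G) ∈ W₂ → μ w = 1) → μ = 1 := by
      intro μ h1 h2
      refine MonoidHom.ext fun w => ?_
      obtain ⟨a, ha, b, hb, e⟩ := CfsgLib.CTI.exists_mul hW w.2
      rw [show w = (⟨a, Subgroup.mem_sup_left ha⟩ : ↥(W₁ ⊔ W₂)) * ⟨b, Subgroup.mem_sup_right hb⟩ from Subtype.ext e,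
        map_mul, h1 _ ha, h2 _ hb, mul_one, MonoidHom.one_apply]
    have hlin := fun μ ν : ↥(W₁ ⊔ W₂) →* ℂˣ => CfsgLib.CTI.linear_inner μ ν
    have hone : ((fun _ : ↥(W₁ ⊔ W₂) => (1 : ℂ))) = fun w => (((1 : ↥(W₁ ⊔ W₂) →* ℂˣ) w : ℂˣ) : ℂ) := by simp
    have hform : ∀ α β : ↥(W₁ ⊔ W₂) →* ℂˣ, (fun w => 1 - (α w : ℂ) - (β w : ℂ) + (α w : ℂ) * (β w : ℂ)) =
        (fun w => (((1 : ↥(W₁ ⊔ W₂) →* ℂˣ) w : ℂˣ) : ℂ)) - (fun w => (α w : ℂ)) - (fun w => (β w : ℂ)) +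
          (fun w => (((α * β) w : ℂˣ) : ℂ)) := fun α β => by ext w; simp
    have hnp : ∀ α β : ↥(W₁ ⊔ W₂) →* ℂˣ, α ≠ 1 → β ≠ 1 → (∀ w : ↥(W₁ ⊔ W₂), (w : G) ∈ W₂ → α w = 1) →
        (∀ w : ↥(W₁ ⊔ W₂), (w : G) ∈ W₁ → β w = 1) → α ≠ β ∧ α * β ≠ 1 ∧ α * β ≠ α ∧ α * β ≠ β := by
      intro α β hα hβ hα2 hβ1
      refine ⟨fun e => hα (hsplit α (fun w hw => e ▸ hβ1 w hw) hα2), fun e => hα (hsplit α (fun w hw => ?_) hα2),
        fun e => hβ (MonoidHom.ext fun w => by simpa using DFunLike.congr_fun e w),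
        fun e => hα (MonoidHom.ext fun w => by simpa using DFunLike.congr_fun e w)⟩
      have := congrArg (fun μ : ↥(W₁ ⊔ W₂) →* ℂˣ => μ w) e
      simpa [hβ1 w hw] using this
    obtain ⟨a1, a2, a3, a4⟩ := hnp φ ψ hφ hψ (fun w h => (hφ₂ w h).1) (fun w h => (hψ₁ w h).1)
    obtain ⟨b1, b2, b3, b4⟩ := hnp φ' ψ' hφ' hψ' (fun w h => (hφ₂ w h).2) (fun w h => (hψ₁ w h).2)
    obtain ⟨c1, c2, c3, c4⟩ := hnp φ ψ' hφ hψ' (fun w h => (hφ₂ w h).1) (fun w h => (hψ₁ w h).2)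
    obtain ⟨d1, d2, d3, d4⟩ := hnp φ' ψ hφ' hψ (fun w h => (hφ₂ w h).2) (fun w h => (hψ₁ w h).1)
    constructor
    · rw [CfsgLib.Char.frobenius (W₁ ⊔ W₂) _ (χ := fun _ => (1 : ℂ)) (fun _ _ => rfl), hform, hone]
      simp only [classInner_add_left, classInner_sub_left, hlin, if_neg hφ, if_neg hψ, if_neg a2, if_true]
      ring
    · rw [CfsgLib.CTI.inner_ind hW (CfsgLib.CTI.alpha_eq_zero hW (fun w h => (hφ₂ w h).1) (fun w h => (hψ₁ w h).1))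
        (CfsgLib.CTI.alpha_eq_zero hW (fun w h => (hφ₂ w h).2) (fun w h => (hψ₁ w h).2)), hform, hform]
      have e1 : φ ≠ φ' * ψ' := fun e => hψ' (hsplit ψ' (fun w h => (hψ₁ w h).2) fun w h => by
        have := congrArg (fun μ : ↥(W₁ ⊔ W₂) →* ℂˣ => μ w) e
        simpa [(hφ₂ w h).1, (hφ₂ w h).2] using this.symm)
      have e2 : ψ ≠ φ' * ψ' := fun e => hφ' (hsplit φ' (fun w h => by
        have := congrArg (fun μ : ↥(W₁ ⊔ W₂) →* ℂˣ => μ w) e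
        simpa [(hψ₁ w h).1, (hψ₁ w h).2] using this.symm) fun w h => (hφ₂ w h).2)
      have e3 : φ * ψ ≠ φ' := fun e => hψ (hsplit ψ (fun w h => (hψ₁ w h).1) fun w h => by
        have := congrArg (fun μ : ↥(W₁ ⊔ W₂) →* ℂˣ => μ w) e
        simpa [(hφ₂ w h).1, (hφ₂ w h).2] using this)
      have e4 : φ * ψ ≠ ψ' := fun e => hφ (hsplit φ (fun w h => by
        have := congrArg (fun μ : ↥(W₁ ⊔ W₂) →* ℂˣ => μ w) e
        simpa [(hψ₁ w h).1, (hψ₁ w h).2] using this) fun w h => (hφ₂ w h).1)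
      have e5 : φ * ψ = φ' * ψ' ↔ φ = φ' ∧ ψ = ψ' := by
        refine ⟨fun e => ?_, fun h => by rw [h.1, h.2]⟩
        constructor
        · refine mul_inv_eq_one.1 (hsplit _ (fun w h => ?_) fun w h => by simp [(hφ₂ w h).1, (hφ₂ w h).2])
          have := congrArg (fun μ : ↥(W₁ ⊔ W₂) →* ℂˣ => μ w) e
          simp only [MonoidHom.mul_apply, (hψ₁ w h).1, (hψ₁ w h).2, mul_one] at this
          simp [this]
        · refine mul_inv_eq_one.1 (hsplit _ (fun w h => by simp [(hψ₁ w h).1, (hψ₁ w h).2]) fun w h => ?_)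
          have := congrArg (fun μ : ↥(W₁ ⊔ W₂) →* ℂˣ => μ w) e
          simp only [MonoidHom.mul_apply, (hφ₂ w h).1, (hφ₂ w h).2, one_mul] at this
          simp [this]
      simp only [classInner_add_left, classInner_sub_left, classInner_add_right, classInner_sub_right, hlin,
        if_neg hφ, if_neg hψ, if_neg a2, if_neg hφ'.symm, if_neg hψ'.symm, if_neg b2.symm, if_neg c1,
        if_neg d1.symm, if_neg e1, if_neg e2, if_neg e3, if_neg e4, e5, if_true]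
      by_cases hp : φ = φ' <;> by_cases hq : ψ = ψ' <;> simp [hp, hq] <;> norm_num

end Cfsg.Agent.S1505
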