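import Cfsg.Statements.S1506
import Cfsg.Agent.Char.CyclicTI

set_option autoImplicit false
open Cfsg

namespace Cfsg.Agent.S1506
open scoped CfsgLib.Char


/-- Let W₁, W₂ ≤ G form a self-normalising cyclic subgroup W = W₁ ⊔ W₂ and χ an orthonormal family of irreducible characters of G up to sign, indexed by the linear characters ω of W, with χ_1 = 1, χ_ω = ω on W outside W₁ ∪ W₂, and the induction identity for (1 − φ)(1 − ψ). Let θ be a class function of G vanishing at every element of W outside W₁ ∪ W₂. For linear characters φ, φ' of W trivial on W₂ and ψ, ψ' trivial on W₁, the inner products a(ω) = ⟨θ, χ ω⟩ satisfy a(φψ) + a(φ'ψ') = a(φψ') + a(φ'ψ). -/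
theorem result {G : Type*} [Group G] [Fintype G] (W₁ W₂ : Subgroup G) (hW : Cfsg.IsSelfNormalizingCyclic W₁ W₂) (χ : (↥(W₁ ⊔ W₂) →* ℂˣ) → (G → ℂ)) (hχ : Cfsg.IsCyclicTIFamily W₁ W₂ χ) (θ : G → ℂ) (hθ : Cfsg.IsClassFunction G θ) (hθV : ∀ w : ↥(W₁ ⊔ W₂), (w : G) ∉ W₁ → (w : G) ∉ W₂ → θ w = 0) (φ φ' ψ ψ' : ↥(W₁ ⊔ W₂) →* ℂˣ) (hφ₂ : ∀ w : ↥(W₁ ⊔ W₂), (w : G) ∈ W₂ → φ w = 1 ∧ φ' w = 1) (hψ₁ : ∀ w : ↥(W₁ ⊔ W₂), (w : G) ∈ W₁ → ψ w = 1 ∧ ψ' w = 1) : Cfsg.classInner θ (χ (φ * ψ)) + Cfsg.classInner θ (χ (φ' * ψ')) = Cfsg.classInner θ (χ (φ * ψ')) + Cfsg.classInner θ (χ (φ' * ψ)) := by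
  classical
  haveI : Fintype ↥(W₁ ⊔ W₂) := Fintype.ofFinite _
  open CfsgLib.Char in
  · have key : ∀ α β : ↥(W₁ ⊔ W₂) →* ℂˣ, (∀ w : ↥(W₁ ⊔ W₂), (w : G) ∈ W₂ → α w = 1) →
        (∀ w : ↥(W₁ ⊔ W₂), (w : G) ∈ W₁ → β w = 1) →
        Cfsg.classInner θ (χ (α * β)) = Cfsg.classInner θ (χ α) + Cfsg.classInner θ (χ β) - Cfsg.classInner θ (χ 1) := by
      intro α β hα hβ
      by_cases h1 : α = 1
      · subst h1; rw [show (1 : ↥(W₁ ⊔ W₂) →* ℂˣ) * β = β from MonoidHom.ext fun w => one_mul _]; ring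
      by_cases h2 : β = 1
      · subst h2; rw [show α * (1 : ↥(W₁ ⊔ W₂) →* ℂˣ) = α from MonoidHom.ext fun w => mul_one _]; ring
      have h := CfsgLib.Char.frobenius (W₁ ⊔ W₂) (fun w : ↥(W₁ ⊔ W₂) => 1 - (α w : ℂ) - (β w : ℂ) + (α w : ℂ) * (β w : ℂ)) hθ
      have h0 : Cfsg.classInner (fun w : ↥(W₁ ⊔ W₂) => 1 - (α w : ℂ) - (β w : ℂ) + (α w : ℂ) * (β w : ℂ)) (fun w => θ w) = 0 := by
        rw [classInner_def, Finset.sum_eq_zero, mul_zero]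
        intro w _
        by_cases hw : (w : G) ∈ W₁ ∨ (w : G) ∈ W₂
        · rw [CfsgLib.CTI.alpha_eq_zero hW hα hβ w hw, zero_mul]
        · simp only [not_or] at hw
          rw [hθV w hw.1 hw.2, map_zero, mul_zero]
      rw [h0, hχ.induced_eq α β h1 h2 hα hβ, show (fun g => 1 - χ α g - χ β g + χ (α * β) g) =
        χ 1 - χ α - χ β + χ (α * β) by rw [hχ.map_one]; rfl] at h
      have h' := congrArg (starRingEnd ℂ) h
      rw [classInner_conj, map_zero, classInner_add_right, classInner_sub_right, classInner_sub_right] at h'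
      linear_combination h'
    rw [key φ ψ (fun w hw => (hφ₂ w hw).1) (fun w hw => (hψ₁ w hw).1),
      key φ' ψ' (fun w hw => (hφ₂ w hw).2) (fun w hw => (hψ₁ w hw).2),
      key φ ψ' (fun w hw => (hφ₂ w hw).1) (fun w hw => (hψ₁ w hw).2),
      key φ' ψ (fun w hw => (hφ₂ w hw).2) (fun w hw => (hψ₁ w hw).1)]
    ring

end Cfsg.Agent.S1506
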