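import Cfsg.Statements.S1507
import Cfsg.Agent.Char.CyclicTI
import Cfsg.Agent.S1506

set_option autoImplicit false
open Cfsg

namespace Cfsg.Agent.S1507
open CfsgLib.Char

universe u

theorem card_lin {W : Type u} [Group W] [Finite W] (hab : ∀ a b : W, a * b = b * a) :
    Nat.card (W →* ℂˣ) = Nat.card W := by
  letI : CommGroup W := { ‹Group W› with mul_comm := hab }
  exact CommGroup.card_monoidHom_of_hasEnoughRootsOfUnity W ℂ

open Classical Finset in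
theorem few_nonzero {A B : Type*} [Fintype A] [Fintype B] (r : A → ℂ) (c : B → ℂ) (hA : 2 ≤ Fintype.card A)
    (hAB : Fintype.card A + 2 ≤ Fintype.card B)
    (h : (univ.filter fun p : A × B => r p.1 + c p.2 ≠ 0).card < 2 * Fintype.card A) :
    (∀ i j, r i + c j = 0) ∨ (∃ j₀ v, ∀ i j, r i + c j = if j = j₀ then v else 0) ∨
      ∃ i₀ v, ∀ i j, r i + c j = if i = i₀ then v else 0 := by
  let nz : A → Finset B := fun i => univ.filter fun j => r i + c j ≠ 0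
  have htot : (univ.filter fun p : A × B => r p.1 + c p.2 ≠ 0).card = ∑ i, (nz i).card := by
    simp only [nz, Finset.card_filter]
    rw [Fintype.sum_prod_type]
  rw [htot] at h
  haveI : Nonempty A := Fintype.card_pos_iff.1 (by omega)
  haveI : Nonempty B := Fintype.card_pos_iff.1 (by omega)
  obtain ⟨iA⟩ := ‹Nonempty A›
  obtain ⟨jB⟩ := ‹Nonempty B›
  by_cases hr : ∀ i, r i = r iA
  · have hm : (nz iA).card ≤ 1 := by
      by_contra hm
      have : ∑ _i : A, 2 ≤ ∑ i, (nz i).card := Finset.sum_le_sum fun i _ => by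
        rw [show nz i = nz iA by simp only [nz, hr i]]; omega
      simp at this; omega
    rcases (nz iA).eq_empty_or_nonempty with he | ⟨j₀, hj₀⟩
    · refine Or.inl fun i j => ?_
      by_contra hne
      exact Finset.eq_empty_iff_forall_notMem.1 he j (by simp [nz, ← hr i, hne])
    · refine Or.inr (Or.inl ⟨j₀, r iA + c j₀, fun i j => ?_⟩)
      rw [hr i]
      split_ifs with hj
      · rw [hj]
      · by_contra hne
        exact hj (Finset.card_le_one.1 hm j (by simp [nz, hne]) j₀ hj₀)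
  by_cases hc : ∀ j, c j = c jB
  · let F : Finset A := univ.filter fun i => r i + c jB ≠ 0
    have hF : F.card ≤ 1 := by
      by_contra hF
      have h1 : ∑ i ∈ F, Fintype.card B ≤ ∑ i, (nz i).card := by
        refine le_trans (Finset.sum_le_sum fun i hi => ?_) (Finset.sum_le_sum_of_subset (Finset.subset_univ F))
        rw [show nz i = univ from Finset.filter_true_of_mem fun j _ => by rw [hc j]; exact (Finset.mem_filter.1 hi).2]
        rfl
      rw [Finset.sum_const, smul_eq_mul] at h1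
      have h2 : 2 * Fintype.card B ≤ F.card * Fintype.card B := Nat.mul_le_mul_right _ (by omega)
      omega
    rcases F.eq_empty_or_nonempty with he | ⟨i₀, hi₀⟩
    · refine Or.inl fun i j => ?_
      by_contra hne
      exact Finset.eq_empty_iff_forall_notMem.1 he i (by simp [F, ← hc j, hne])
    · refine Or.inr (Or.inr ⟨i₀, r i₀ + c jB, fun i j => ?_⟩)
      rw [hc j]
      split_ifs with hi
      · rw [hi]
      · by_contra hne
        exact hi (Finset.card_le_one.1 hF i (by simp [F, hne]) i₀ hi₀)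
  exfalso
  have hpair : ∀ i k, r i ≠ r k → Fintype.card B ≤ (nz i).card + (nz k).card := fun i k hne => by
    refine le_trans (le_of_eq ?_) (Finset.card_union_le _ _)
    rw [show nz i ∪ nz k = univ from Finset.eq_univ_of_forall fun j => ?_]
    · rfl
    · by_contra hj
      simp [nz] at hj
      exact hne (by linear_combination hj.1 - hj.2)
  have hone : ∀ i, 1 ≤ (nz i).card := fun i => Finset.card_pos.2 (by
    by_contra he
    rw [Finset.not_nonempty_iff_eq_empty, Finset.eq_empty_iff_forall_notMem] at he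
    refine hc fun j => ?_
    have h1 : r i + c j = 0 := by simpa [nz] using he j
    have h2 : r i + c jB = 0 := by simpa [nz] using he jB
    linear_combination h1 - h2)
  obtain ⟨i₀, hi₀⟩ : ∃ i₀, (nz i₀).card ≤ 1 := by
    by_contra hall
    push Not at hall
    have : ∑ _i : A, 2 ≤ ∑ i, (nz i).card := Finset.sum_le_sum fun i _ => hall i
    simp at this; omega
  obtain ⟨k, hk⟩ : ∃ k, r k ≠ r i₀ := by
    by_contra hall
    push Not at hall
    exact hr fun i => (hall i).trans (hall iA).symm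
  have h1 := hpair k i₀ hk
  have h2 : ∑ i ∈ univ.erase k, 1 ≤ ∑ i ∈ univ.erase k, (nz i).card := Finset.sum_le_sum fun i _ => hone i
  rw [← Finset.add_sum_erase univ _ (Finset.mem_univ k)] at h
  simp at h2
  omega



open Classical in
/-- Let W₁, W₂ ≤ G form a self-normalising cyclic subgroup W = W₁ ⊔ W₂ of odd order with Nat.card W₁ < Nat.card W₂, and χ an orthonormal family of irreducible characters of G up to sign, indexed by the linear characters ω of W, with χ_1 = 1, χ_ω = ω on W outside W₁ ∪ W₂, and the induction identity for (1 − φ)(1 − ψ). Let θ be a class function of G vanishing on W outside W₁ ∪ W₂, and suppose fewer than 2 · Nat.card W₁ linear characters ω of W have ⟨θ, χ ω⟩ ≠ 0. Then one of: all ⟨θ, χ ω⟩ vanish; or there are ψ₀ and a with ⟨θ, χ ω⟩ = a when ω ψ₀⁻¹ is trivial on W₂ and 0 otherwise; or there are φ₀ and a with ⟨θ, χ ω⟩ = a when ω φ₀⁻¹ is trivial on W₁ and 0 otherwise. -/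
theorem result {G : Type*} [Group G] [Fintype G] (W₁ W₂ : Subgroup G) (hW : Cfsg.IsSelfNormalizingCyclic W₁ W₂) (hodd : Odd (Nat.card ↥(W₁ ⊔ W₂))) (χ : (↥(W₁ ⊔ W₂) →* ℂˣ) → (G → ℂ)) (hχ : Cfsg.IsCyclicTIFamily W₁ W₂ χ) (hlt : Nat.card W₁ < Nat.card W₂) (θ : G → ℂ) (hθ : Cfsg.IsClassFunction G θ) (hθV : ∀ w : ↥(W₁ ⊔ W₂), (w : G) ∉ W₁ → (w : G) ∉ W₂ → θ w = 0) (hfew : Nat.card {ω : ↥(W₁ ⊔ W₂) →* ℂˣ // Cfsg.classInner θ (χ ω) ≠ 0} < 2 * Nat.card W₁) : (∀ ω, Cfsg.classInner θ (χ ω) = 0) ∨ (∃ (ψ₀ : ↥(W₁ ⊔ W₂) →* ℂˣ) (a : ℂ), ∀ ω, Cfsg.classInner θ (χ ω) = if (∀ w : ↥(W₁ ⊔ W₂), (w : G) ∈ W₂ → (ω * ψ₀⁻¹) w = 1) then a else 0) ∨ (∃ (φ₀ : ↥(W₁ ⊔ W₂) →* ℂˣ) (a : ℂ), ∀ ω, Cfsg.classInner θ (χ ω) = if (∀ w : ↥(W₁ ⊔ W₂), (w : G) ∈ W₁ → (ω * φ₀⁻¹) w = 1) then a else 0) := by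
  classical
  haveI : Fintype ↥(W₁ ⊔ W₂) := Fintype.ofFinite _
  obtain ⟨k, l, hkl⟩ := CfsgLib.CTI.exists_exponents hW
  have hab : ∀ a b : ↥(W₁ ⊔ W₂), a * b = b * a := CfsgLib.CTI.comm hW
  haveI : Finite (↥(W₁ ⊔ W₂) →* ℂˣ) := Nat.finite_of_card_ne_zero (by rw [card_lin hab]; exact Nat.card_pos.ne')
  haveI : Fintype (↥(W₁ ⊔ W₂) →* ℂˣ) := Fintype.ofFinite _
  have hk0 : ∀ v : ↥(W₁ ⊔ W₂), (v : G) ∈ W₂ → v ^ k = 1 := fun v hv => Subtype.ext (by
    have := (hkl 1 (one_mem _) v hv).1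
    rw [one_mul] at this
    push_cast; exact this)
  have hl0 : ∀ v : ↥(W₁ ⊔ W₂), (v : G) ∈ W₁ → v ^ l = 1 := fun v hv => Subtype.ext (by
    have := (hkl v hv 1 (one_mem _)).2
    rw [mul_one] at this
    push_cast; exact this)
  have hmem : ∀ v : ↥(W₁ ⊔ W₂), ((v ^ k : ↥(W₁ ⊔ W₂)) : G) ∈ W₁ ∧ ((v ^ l : ↥(W₁ ⊔ W₂)) : G) ∈ W₂ := by
    intro v
    obtain ⟨a, ha, b, hb, e⟩ := CfsgLib.CTI.exists_mul hW v.2
    rw [SubmonoidClass.coe_pow, SubmonoidClass.coe_pow, e, (hkl a ha b hb).1, (hkl a ha b hb).2]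
    exact ⟨ha, hb⟩
  have hvv : ∀ v : ↥(W₁ ⊔ W₂), v ^ k * v ^ l = v := by
    intro v
    obtain ⟨a, ha, b, hb, e⟩ := CfsgLib.CTI.exists_mul hW v.2
    apply Subtype.ext
    push_cast; rw [e, (hkl a ha b hb).1, (hkl a ha b hb).2]
  let A := {μ : ↥(W₁ ⊔ W₂) →* ℂˣ // ∀ w : ↥(W₁ ⊔ W₂), (w : G) ∈ W₂ → μ w = 1}
  let B := {μ : ↥(W₁ ⊔ W₂) →* ℂˣ // ∀ w : ↥(W₁ ⊔ W₂), (w : G) ∈ W₁ → μ w = 1}
  have hkA : ∀ μ : ↥(W₁ ⊔ W₂) →* ℂˣ, ∀ w : ↥(W₁ ⊔ W₂), (w : G) ∈ W₂ → (μ ^ k) w = 1 := fun μ w hw => by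
    rw [MonoidHom.pow_apply, ← map_pow, hk0 w hw, map_one]
  have hlB : ∀ μ : ↥(W₁ ⊔ W₂) →* ℂˣ, ∀ w : ↥(W₁ ⊔ W₂), (w : G) ∈ W₁ → (μ ^ l) w = 1 := fun μ w hw => by
    rw [MonoidHom.pow_apply, ← map_pow, hl0 w hw, map_one]
  have hsplit : ∀ μ : ↥(W₁ ⊔ W₂) →* ℂˣ, μ ^ k * μ ^ l = μ := fun μ => MonoidHom.ext fun w => by
    rw [MonoidHom.mul_apply, MonoidHom.pow_apply, MonoidHom.pow_apply, ← map_pow, ← map_pow, ← map_mul, hvv]
  have hpr : ∀ (α : A) (β : B), (α.1 * β.1) ^ k = α.1 ∧ (α.1 * β.1) ^ l = β.1 := by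
    intro α β
    constructor <;> refine MonoidHom.ext fun w => ?_
    · rw [MonoidHom.pow_apply, MonoidHom.mul_apply, mul_pow, ← map_pow, ← map_pow, β.2 (w ^ k) ?_, mul_one]
      · conv_rhs => rw [← hvv w, map_mul]
        rw [α.2 (w ^ l) ?_, mul_one]
        obtain ⟨a, ha, b, hb, e⟩ := CfsgLib.CTI.exists_mul hW w.2
        rw [SubmonoidClass.coe_pow, e, (hkl a ha b hb).2]; exact hb
      · obtain ⟨a, ha, b, hb, e⟩ := CfsgLib.CTI.exists_mul hW w.2
        rw [SubmonoidClass.coe_pow, e, (hkl a ha b hb).1]; exact ha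
    · rw [MonoidHom.pow_apply, MonoidHom.mul_apply, mul_pow, ← map_pow, ← map_pow, α.2 (w ^ l) ?_, one_mul]
      · conv_rhs => rw [← hvv w, map_mul]
        rw [β.2 (w ^ k) ?_, one_mul]
        obtain ⟨a, ha, b, hb, e⟩ := CfsgLib.CTI.exists_mul hW w.2
        rw [SubmonoidClass.coe_pow, e, (hkl a ha b hb).1]; exact ha
      · obtain ⟨a, ha, b, hb, e⟩ := CfsgLib.CTI.exists_mul hW w.2
        rw [SubmonoidClass.coe_pow, e, (hkl a ha b hb).2]; exact hb
  let eAB : (↥(W₁ ⊔ W₂) →* ℂˣ) ≃ A × B :=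
    { toFun := fun μ => (⟨μ ^ k, hkA μ⟩, ⟨μ ^ l, hlB μ⟩)
      invFun := fun p => p.1.1 * p.2.1
      left_inv := hsplit
      right_inv := fun p => Prod.ext (Subtype.ext (hpr p.1 p.2).1) (Subtype.ext (hpr p.1 p.2).2) }
  have hle : ∀ (U : Subgroup G) (hU : U ≤ W₁ ⊔ W₂) (V : Subgroup G), (∀ w : ↥(W₁ ⊔ W₂), ∃ a b : ↥(W₁ ⊔ W₂), (a : G) ∈ U ∧ (b : G) ∈ V ∧ w = a * b) →
      Nat.card {μ : ↥(W₁ ⊔ W₂) →* ℂˣ // ∀ w : ↥(W₁ ⊔ W₂), (w : G) ∈ V → μ w = 1} ≤ Nat.card U := by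
    intro U hU V hUV
    have habU : ∀ a b : ↥U, a * b = b * a := fun a b =>
      Subtype.ext (congrArg Subtype.val (hab ⟨a, hU a.2⟩ ⟨b, hU b.2⟩) : (a : G) * b = b * a)
    haveI : Finite (↥U →* ℂˣ) := Nat.finite_of_card_ne_zero (by rw [card_lin habU]; exact Nat.card_pos.ne')
    rw [← card_lin habU]
    refine Nat.card_le_card_of_injective (fun μ => μ.1.comp (Subgroup.inclusion hU)) fun μ ν hμν => ?_
    refine Subtype.ext (MonoidHom.ext fun w => ?_)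
    obtain ⟨a, b, ha, hb, rfl⟩ := hUV w
    rw [map_mul, map_mul, μ.2 b hb, ν.2 b hb, mul_one, mul_one]
    exact DFunLike.congr_fun hμν (⟨(a : G), ha⟩ : ↥U)
  have hA1 : Nat.card A ≤ Nat.card W₁ := hle W₁ le_sup_left W₂ fun w => by
    obtain ⟨a, ha, b, hb, e⟩ := CfsgLib.CTI.exists_mul hW w.2
    exact ⟨⟨a, Subgroup.mem_sup_left ha⟩, ⟨b, Subgroup.mem_sup_right hb⟩, ha, hb, Subtype.ext e⟩
  have hB1 : Nat.card B ≤ Nat.card W₂ := hle W₂ le_sup_right W₁ fun w => by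
    obtain ⟨a, ha, b, hb, e⟩ := CfsgLib.CTI.exists_mul hW w.2
    exact ⟨⟨b, Subgroup.mem_sup_right hb⟩, ⟨a, Subgroup.mem_sup_left ha⟩, hb, ha,
      Subtype.ext (e.trans (hW.2.2.2.1 a ha b hb))⟩
  have hWcard : Nat.card ↥(W₁ ⊔ W₂) = Nat.card W₁ * Nat.card W₂ := by
    rw [← Nat.card_prod]
    refine (Nat.card_eq_of_bijective (fun p : ↥W₁ × ↥W₂ => (⟨(p.1 : G) * (p.2 : G), (W₁ ⊔ W₂).mul_mem (Subgroup.mem_sup_left p.1.2) (Subgroup.mem_sup_right p.2.2)⟩ : ↥(W₁ ⊔ W₂))) ⟨fun p q hpq => ?_, fun w => ?_⟩).symm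
    · have e : (p.1 : G) * (p.2 : G) = (q.1 : G) * (q.2 : G) := congrArg Subtype.val hpq
      have e1 := (hkl p.1 p.1.2 p.2 p.2.2)
      rw [e, (hkl q.1 q.1.2 q.2 q.2.2).1, (hkl q.1 q.1.2 q.2 q.2.2).2] at e1
      exact Prod.ext (Subtype.ext e1.1.symm) (Subtype.ext e1.2.symm)
    · obtain ⟨a, ha, b, hb, e⟩ := CfsgLib.CTI.exists_mul hW w.2
      exact ⟨(⟨a, ha⟩, ⟨b, hb⟩), Subtype.ext e.symm⟩
  have hprod : Nat.card A * Nat.card B = Nat.card W₁ * Nat.card W₂ := by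
    rw [← Nat.card_prod, ← Nat.card_congr eAB, card_lin hab, hWcard]
  have hAeq : Nat.card A = Nat.card W₁ := by
    refine le_antisymm hA1 (Nat.le_of_mul_le_mul_right ?_ (Nat.card_pos (α := W₂)))
    rw [← hprod]; exact Nat.mul_le_mul_left _ hB1
  have hBeq : Nat.card B = Nat.card W₂ := by
    rw [hAeq] at hprod
    exact Nat.eq_of_mul_eq_mul_left Nat.card_pos hprod
  have ho1 : Odd (Nat.card W₁) := hodd.of_dvd_nat ⟨_, hWcard⟩
  have ho2 : Odd (Nat.card W₂) := hodd.of_dvd_nat ⟨_, hWcard.trans (mul_comm _ _)⟩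
  have h1 : 2 ≤ Nat.card W₁ := by
    have : Nat.card W₁ ≠ 1 := fun h => hW.1 (Subgroup.card_eq_one.1 h)
    have := Nat.card_pos (α := W₁)
    omega
  -- the additive form
  let r : A → ℂ := fun α => Cfsg.classInner θ (χ α.1)
  let c : B → ℂ := fun β => Cfsg.classInner θ (χ β.1) - Cfsg.classInner θ (χ 1)
  have hadd : ∀ ω, Cfsg.classInner θ (χ ω) = r (eAB ω).1 + c (eAB ω).2 := by
    intro ω
    have h := Cfsg.Agent.S1506.result W₁ W₂ hW χ hχ θ hθ hθV (ω ^ k) 1 (ω ^ l) 1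
      (fun w hw => ⟨hkA ω w hw, rfl⟩) (fun w hw => ⟨hlB ω w hw, rfl⟩)
    erw [hsplit, mul_one, mul_one, one_mul] at h
    show _ = Cfsg.classInner θ (χ (ω ^ k)) + (Cfsg.classInner θ (χ (ω ^ l)) - Cfsg.classInner θ (χ 1))
    linear_combination h
  have hadd' : ∀ α β, Cfsg.classInner θ (χ (α.1 * β.1)) = r α + c β := fun α β => by
    have := hadd (eAB.symm (α, β))
    rwa [Equiv.apply_symm_apply] at this
  haveI : Fintype A := Fintype.ofFinite _
  haveI : Fintype B := Fintype.ofFinite _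
  have hcnt : (Finset.univ.filter fun p : A × B => r p.1 + c p.2 ≠ 0).card < 2 * Fintype.card A := by
    rw [← Fintype.card_subtype, ← Nat.card_eq_fintype_card, ← Nat.card_eq_fintype_card, hAeq]
    refine lt_of_le_of_lt (le_of_eq (Nat.card_congr ?_)) hfew
    exact (eAB.symm.subtypeEquiv fun p => by rw [show eAB.symm p = p.1.1 * p.2.1 from rfl, hadd' p.1 p.2])
  have hcards : Fintype.card A + 2 ≤ Fintype.card B := by
    rw [← Nat.card_eq_fintype_card, ← Nat.card_eq_fintype_card, hAeq, hBeq]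
    rw [Nat.odd_iff] at ho1 ho2
    omega
  rcases few_nonzero r c (by rwa [← Nat.card_eq_fintype_card, hAeq]) hcards hcnt with h0 | ⟨j₀, v, hj⟩ | ⟨i₀, v, hi⟩
  · exact Or.inl fun ω => (hadd ω).trans (h0 _ _)
  · refine Or.inr (Or.inl ⟨j₀.1, v, fun ω => ?_⟩)
    rw [hadd ω, hj]
    have hiff : (eAB ω).2 = j₀ ↔ ∀ w : ↥(W₁ ⊔ W₂), (w : G) ∈ W₂ → (ω * (j₀.1)⁻¹) w = 1 := by
      constructor
      · intro e w hw
        have hwl : w ^ l = w := (one_mul (w ^ l)).symm.trans (hk0 w hw ▸ hvv w)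
        rw [MonoidHom.mul_apply, MonoidHom.inv_apply, mul_inv_eq_one]
        have h3 : (ω ^ l) w = j₀.1 w := DFunLike.congr_fun (congrArg Subtype.val e) w
        rw [MonoidHom.pow_apply, ← map_pow, hwl] at h3
        exact h3
      · intro e
        refine Subtype.ext (MonoidHom.ext fun w => ?_)
        show (ω ^ l) w = j₀.1 w
        have h2 := e (w ^ l) (hmem w).2
        rw [MonoidHom.mul_apply, MonoidHom.inv_apply, mul_inv_eq_one] at h2
        rw [MonoidHom.pow_apply, ← map_pow, h2]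
        conv_rhs => rw [← hvv w, map_mul, j₀.2 _ (hmem w).1, one_mul]
    by_cases hc : (eAB ω).2 = j₀
    · rw [if_pos hc, if_pos (hiff.1 hc)]
    · rw [if_neg hc, if_neg (fun hh => hc (hiff.2 hh))]
  · refine Or.inr (Or.inr ⟨i₀.1, v, fun ω => ?_⟩)
    rw [hadd ω, hi]
    have hiff : (eAB ω).1 = i₀ ↔ ∀ w : ↥(W₁ ⊔ W₂), (w : G) ∈ W₁ → (ω * (i₀.1)⁻¹) w = 1 := by
      constructor
      · intro e w hw
        have hwk : w ^ k = w := (mul_one (w ^ k)).symm.trans (hl0 w hw ▸ hvv w)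
        rw [MonoidHom.mul_apply, MonoidHom.inv_apply, mul_inv_eq_one]
        have h3 : (ω ^ k) w = i₀.1 w := DFunLike.congr_fun (congrArg Subtype.val e) w
        rw [MonoidHom.pow_apply, ← map_pow, hwk] at h3
        exact h3
      · intro e
        refine Subtype.ext (MonoidHom.ext fun w => ?_)
        show (ω ^ k) w = i₀.1 w
        have h2 := e (w ^ k) (hmem w).1
        rw [MonoidHom.mul_apply, MonoidHom.inv_apply, mul_inv_eq_one] at h2
        rw [MonoidHom.pow_apply, ← map_pow, h2]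
        conv_rhs => rw [← hvv w, map_mul, i₀.2 _ (hmem w).2, mul_one]
    by_cases hc : (eAB ω).1 = i₀
    · rw [if_pos hc, if_pos (hiff.1 hc)]
    · rw [if_neg hc, if_neg (fun hh => hc (hiff.2 hh))]

end Cfsg.Agent.S1507
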