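import Cfsg.Statements.S1508
import Mathlib
import Cfsg.Agent.S1506
import Cfsg.Agent.Char.CyclicTI
import Cfsg.Agent.Char.Galois
import Cfsg.Agent.Char.GaloisTwist
-- import your own Cfsg.Agent.* helpers here

set_option autoImplicit false
open Cfsg

namespace Cfsg.Agent.S1508

open CfsgLib.Char
open scoped ComplexConjugate

section
variable {G : Type*} [Group G] [Fintype G]

theorem signed_dep {X Y : G → ℂ} (hX : IsIrrCharacter G X ∨ IsIrrCharacter G (-X))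
    (hY : IsIrrCharacter G Y ∨ IsIrrCharacter G (-Y)) (h : classInner X Y ≠ 0) :
    ∃ c : ℂ, c ≠ 0 ∧ Y = c • X := by
  by_contra hne
  push Not at hne
  rcases hX with hX | hX <;> rcases hY with hY | hY
  · exact h (irr_inner_ne hX hY fun e => hne 1 one_ne_zero (by rw [← e, one_smul]))
  · refine h ?_
    have := irr_inner_ne hX hY fun e => hne (-1) (by norm_num) (by rw [e]; simp)
    rwa [classInner_neg_right, neg_eq_zero] at this
  · refine h ?_
    have := irr_inner_ne hX hY fun e => hne (-1) (by norm_num) (by rw [← e]; simp)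
    rwa [classInner_neg_left, neg_eq_zero] at this
  · refine h ?_
    have := irr_inner_ne hX hY fun e => hne 1 one_ne_zero (by rw [one_smul, ← neg_inj, e])
    rwa [classInner_neg_left, classInner_neg_right, neg_neg] at this

theorem signed_norm {X : G → ℂ} (hX : IsIrrCharacter G X ∨ IsIrrCharacter G (-X)) :
    classInner X X = 1 := by
  rcases hX with hX | hX
  · exact irr_inner_self hX
  · have := irr_inner_self hX
    rwa [classInner_neg_left, classInner_neg_right, neg_neg] at this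

theorem exists_third {W₁ W₂ : Subgroup G} (hW : Cfsg.IsSelfNormalizingCyclic W₁ W₂)
    (hodd : Odd (Nat.card ↥(W₁ ⊔ W₂))) (k : ℕ)
    (hk : ∀ a ∈ W₁, ∀ b ∈ W₂, (a * b) ^ k = a) (x y : ↥(W₁ ⊔ W₂) →* ℂˣ) :
    ∃ μ : ↥(W₁ ⊔ W₂) →* ℂˣ, (∀ w : ↥(W₁ ⊔ W₂), (w : G) ∈ W₂ → μ w = 1) ∧ μ ≠ x ∧ μ ≠ y := by
  classical
  have hmem : ∀ w : ↥(W₁ ⊔ W₂), (w : G) ^ k ∈ W₁ := fun w => by
    obtain ⟨a, ha, b, hb, e⟩ := CfsgLib.CTI.exists_mul hW w.2
    rw [e, hk a ha b hb]; exact ha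
  let π : ↥(W₁ ⊔ W₂) →* W₁ := MonoidHom.mk' (fun w => ⟨(w : G) ^ k, hmem w⟩) fun v w => by
    refine Subtype.ext ?_
    show ((v : G) * w) ^ k = (v : G) ^ k * (w : G) ^ k
    exact (show Commute (v : G) (w : G) from congrArg Subtype.val (CfsgLib.CTI.comm hW v w)).mul_pow k
  have hsurj : Function.Surjective π := fun a => ⟨⟨a, Subgroup.mem_sup_left a.2⟩, Subtype.ext (by
    show (a : G) ^ k = a
    simpa using hk a a.2 1 (one_mem _))⟩
  letI : CommGroup W₁ := { (inferInstance : Group W₁) with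
    mul_comm := fun a b => by
      obtain ⟨v, rfl⟩ := hsurj a
      obtain ⟨w, rfl⟩ := hsurj b
      rw [← map_mul, ← map_mul, CfsgLib.CTI.comm hW v w] }
  have hc : Nat.card (↥W₁ →* ℂˣ) = Nat.card W₁ := CommGroup.card_monoidHom_of_hasEnoughRootsOfUnity W₁ ℂ
  have h3 : 3 ≤ Nat.card W₁ := by
    have hd : Nat.card W₁ ∣ Nat.card ↥(W₁ ⊔ W₂) := Subgroup.card_dvd_of_le le_sup_left
    obtain ⟨j, hj⟩ := Odd.of_dvd_nat hodd hd
    have : Nat.card W₁ ≠ 1 := fun h => hW.1 (Subgroup.card_eq_one.1 h)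
    omega
  haveI : Finite (↥W₁ →* ℂˣ) := Nat.finite_of_card_ne_zero (by omega)
  haveI := Fintype.ofFinite (↥W₁ →* ℂˣ)
  have hinj : Function.Injective (fun ν : ↥W₁ →* ℂˣ => ν.comp π) := fun a b e =>
    MonoidHom.cancel_right hsurj |>.1 e
  have hlt : ({x, y} : Finset (↥(W₁ ⊔ W₂) →* ℂˣ)).card <
      (Finset.univ.image (fun ν : ↥W₁ →* ℂˣ => ν.comp π)).card := by
    rw [Finset.card_image_of_injective _ hinj, Finset.card_univ, ← Nat.card_eq_fintype_card, hc]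
    have := Finset.card_le_two (a := x) (b := y)
    omega
  obtain ⟨μ, hμ, hμ'⟩ := Finset.exists_mem_notMem_of_card_lt_card hlt
  obtain ⟨ν, -, rfl⟩ := Finset.mem_image.1 hμ
  simp only [Finset.mem_insert, Finset.mem_singleton, not_or] at hμ'
  refine ⟨_, fun w hw => ?_, hμ'.1, hμ'.2⟩
  have : π w = 1 := Subtype.ext (by
    show (w : G) ^ k = 1
    simpa using hk 1 (one_mem _) w hw)
  simp [this]

set_option maxHeartbeats 1000000 in
theorem grid {W₁ W₂ : Subgroup G} (hW : Cfsg.IsSelfNormalizingCyclic W₁ W₂)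
    (hodd : Odd (Nat.card ↥(W₁ ⊔ W₂))) (c : (↥(W₁ ⊔ W₂) →* ℂˣ) → ℂ)
    (hgrid : ∀ φ φ' ψ ψ' : ↥(W₁ ⊔ W₂) →* ℂˣ,
      (∀ w : ↥(W₁ ⊔ W₂), (w : G) ∈ W₂ → φ w = 1 ∧ φ' w = 1) →
      (∀ w : ↥(W₁ ⊔ W₂), (w : G) ∈ W₁ → ψ w = 1 ∧ ψ' w = 1) →
      c (φ * ψ) + c (φ' * ψ') = c (φ * ψ') + c (φ' * ψ))
    (p q : ↥(W₁ ⊔ W₂) →* ℂˣ) (hsupp : ∀ ω, c ω ≠ 0 → ω = p ∨ ω = q) (ω : ↥(W₁ ⊔ W₂) →* ℂˣ) :
    c ω = 0 := by
  by_contra hne
  obtain ⟨k, l, hkl⟩ := CfsgLib.CTI.exists_exponents hW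
  have hW' : Cfsg.IsSelfNormalizingCyclic W₁ W₂ := hW
  let P : (↥(W₁ ⊔ W₂) →* ℂˣ) → (↥(W₁ ⊔ W₂) →* ℂˣ) := fun μ =>
    MonoidHom.mk' (fun w => μ (w ^ k)) fun v w => by
      rw [(show Commute v w from CfsgLib.CTI.comm hW v w).mul_pow, map_mul]
  let Q : (↥(W₁ ⊔ W₂) →* ℂˣ) → (↥(W₁ ⊔ W₂) →* ℂˣ) := fun μ =>
    MonoidHom.mk' (fun w => μ (w ^ l)) fun v w => by
      rw [(show Commute v w from CfsgLib.CTI.comm hW v w).mul_pow, map_mul]
  have hkw : ∀ w : ↥(W₁ ⊔ W₂), ∃ a b : ↥(W₁ ⊔ W₂), (a : G) ∈ W₁ ∧ (b : G) ∈ W₂ ∧ w = a * b ∧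
      w ^ k = a ∧ w ^ l = b := by
    intro w
    obtain ⟨a, ha, b, hb, e⟩ := CfsgLib.CTI.exists_mul hW w.2
    refine ⟨⟨a, Subgroup.mem_sup_left ha⟩, ⟨b, Subgroup.mem_sup_right hb⟩, ha, hb, Subtype.ext e,
      Subtype.ext ?_, Subtype.ext ?_⟩
    · show (w : G) ^ k = a
      rw [e, (hkl a ha b hb).1]
    · show (w : G) ^ l = b
      rw [e, (hkl a ha b hb).2]
  have hPQ : ∀ μ, P μ * Q μ = μ := fun μ => MonoidHom.ext fun w => by
    obtain ⟨a, b, -, -, e, e1, e2⟩ := hkw w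
    show μ (w ^ k) * μ (w ^ l) = μ w
    rw [e1, e2, ← map_mul, ← e]
  have hP2 : ∀ μ (w : ↥(W₁ ⊔ W₂)), (w : G) ∈ W₂ → P μ w = 1 := by
    intro μ w hw
    show μ (w ^ k) = 1
    rw [show w ^ k = 1 from Subtype.ext (by simpa using (hkl 1 (one_mem _) w hw).1), map_one]
  have hQ1 : ∀ μ (w : ↥(W₁ ⊔ W₂)), (w : G) ∈ W₁ → Q μ w = 1 := by
    intro μ w hw
    show μ (w ^ l) = 1
    rw [show w ^ l = 1 from Subtype.ext (by simpa using (hkl w hw 1 (one_mem _)).2), map_one]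
  have hPm : ∀ α β : ↥(W₁ ⊔ W₂) →* ℂˣ, (∀ w : ↥(W₁ ⊔ W₂), (w : G) ∈ W₂ → α w = 1) →
      (∀ w : ↥(W₁ ⊔ W₂), (w : G) ∈ W₁ → β w = 1) → P (α * β) = α ∧ Q (α * β) = β := by
    intro α β hα hβ
    constructor <;> refine MonoidHom.ext fun w => ?_
    · obtain ⟨a, b, ha, hb, e, e1, e2⟩ := hkw w
      show α (w ^ k) * β (w ^ k) = α w
      rw [e1, hβ a ha, mul_one]
      conv_rhs => rw [e, map_mul, hα b hb, mul_one]
    · obtain ⟨a, b, ha, hb, e, e1, e2⟩ := hkw w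
      show α (w ^ l) * β (w ^ l) = β w
      rw [e2, hα b hb, one_mul]
      conv_rhs => rw [e, map_mul, hβ a ha, one_mul]
  -- the only other possible nonzero cell
  obtain ⟨o, ho⟩ : ∃ o, ∀ μ, c μ ≠ 0 → μ = ω ∨ μ = o := by
    rcases hsupp ω hne with rfl | rfl
    · exact ⟨q, hsupp⟩
    · exact ⟨p, fun μ h => (hsupp μ h).symm⟩
  obtain ⟨φ', hφ', hφ'1, hφ'2⟩ := exists_third hW hodd k (fun a ha b hb => (hkl a ha b hb).1) (P ω) (P o)
  have hW21 : Cfsg.IsSelfNormalizingCyclic W₁ W₂ := hW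
  obtain ⟨ψ', hψ', hψ'1, hψ'2⟩ : ∃ μ : ↥(W₁ ⊔ W₂) →* ℂˣ,
      (∀ w : ↥(W₁ ⊔ W₂), (w : G) ∈ W₁ → μ w = 1) ∧ μ ≠ Q ω ∧ μ ≠ Q o := by
    have hs : W₁ ⊔ W₂ = W₂ ⊔ W₁ := sup_comm _ _
    let e := MulEquiv.subgroupCongr hs
    have hW'' : Cfsg.IsSelfNormalizingCyclic W₂ W₁ := by
      obtain ⟨a1, a2, a3, a4, a5, a6⟩ := hW
      refine ⟨a2, a1, by rw [inf_comm]; exact a3, fun a ha b hb => (a4 b hb a ha).symm, hs ▸ a5,
        fun X hX hne => ?_⟩
      rw [← hs]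
      exact a6 X (by rw [hs, Set.union_comm]; exact hX) hne
    obtain ⟨μ, h1, h2, h3⟩ := exists_third hW'' (hs ▸ hodd) l
      (fun b hb a ha => by rw [← hW.2.2.2.1 a ha b hb]; exact (hkl a ha b hb).2)
      ((Q ω).comp e.symm.toMonoidHom) ((Q o).comp e.symm.toMonoidHom)
    refine ⟨μ.comp e.toMonoidHom, fun w hw => h1 (e w) hw, fun h => h2 ?_, fun h => h3 ?_⟩
    · rw [← h]; ext w; simp
    · rw [← h]; ext w; simp
  have hz : ∀ α β, (∀ w : ↥(W₁ ⊔ W₂), (w : G) ∈ W₂ → α w = 1) →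
      (∀ w : ↥(W₁ ⊔ W₂), (w : G) ∈ W₁ → β w = 1) →
      (α ≠ P ω ∨ β ≠ Q ω) → (α ≠ P o ∨ β ≠ Q o) → c (α * β) = 0 := by
    intro α β hα hβ h1 h2
    by_contra h
    obtain ⟨e1, e2⟩ := hPm α β hα hβ
    rcases ho _ h with e | e
    · rw [e] at e1 e2
      rcases h1 with h1 | h1
      exacts [h1 e1.symm, h1 e2.symm]
    · rw [e] at e1 e2
      rcases h2 with h2 | h2
      exacts [h2 e1.symm, h2 e2.symm]
  have h := hgrid (P ω) φ' (Q ω) ψ' (fun w hw => ⟨hP2 ω w hw, hφ' w hw⟩)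
    (fun w hw => ⟨hQ1 ω w hw, hψ' w hw⟩)
  rw [hPQ, hz _ _ hφ' hψ' (Or.inl hφ'1) (Or.inl hφ'2),
    hz _ _ (hP2 ω) hψ' (Or.inr hψ'1) (Or.inr hψ'2),
    hz _ _ hφ' (hQ1 ω) (Or.inl hφ'1) (Or.inl hφ'2), add_zero, add_zero] at h
  exact hne h

end

set_option maxHeartbeats 1000000 in
/-- Let W₁, W₂ ≤ G form a self-normalising cyclic subgroup W = W₁ ⊔ W₂ of odd order and χ an orthonormal family of irreducible characters of G up to sign, indexed by the linear characters ω of W, with χ_1 = 1, χ_ω = ω on W outside W₁ ∪ W₂, and the induction identity for (1 − φ)(1 − ψ). Let ω be a linear character of W and g an element of G whose order is coprime to the order of ω. Then χ ω g is an integer. -/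
theorem result {G : Type*} [Group G] [Fintype G] (W₁ W₂ : Subgroup G) (hW : Cfsg.IsSelfNormalizingCyclic W₁ W₂) (hodd : Odd (Nat.card ↥(W₁ ⊔ W₂))) (χ : (↥(W₁ ⊔ W₂) →* ℂˣ) → (G → ℂ)) (hχ : Cfsg.IsCyclicTIFamily W₁ W₂ χ) (ω : ↥(W₁ ⊔ W₂) →* ℂˣ) (g : G) (hg : Nat.Coprime (orderOf g) (orderOf ω)) : ∃ n : ℤ, χ ω g = n := by
  classical
  have hirr := hχ.irr_or_neg ω
  set f := χ ω with hf
  -- a power twist fixing `ω` fixes `χ ω`
  have key : ∀ m : ℕ, m.Coprime (Nat.card G) → m ≡ 1 [MOD orderOf ω] →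
      ∀ x, f (x ^ m) = f x := by
    intro m hm hm1
    set a : G → ℂ := fun x => f (x ^ m) with ha
    have haI : IsIrrCharacter G a ∨ IsIrrCharacter G (-a) := by
      rcases hirr with h | h
      · exact Or.inl (irr_pow hm h)
      · exact Or.inr (irr_pow hm h)
    have hcl : ∀ {X : G → ℂ}, (IsIrrCharacter G X ∨ IsIrrCharacter G (-X)) → IsClassFunction G X := by
      intro X h x y
      rcases h with h | h
      · exact classFun_of_irr h x y
      · have := classFun_of_irr h x y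
        simpa using this
    have hθ : IsClassFunction G (a - f) := fun x y => by
      simp only [Pi.sub_apply]
      rw [hcl haI x y, hcl hirr x y]
    have hθV : ∀ w : ↥(W₁ ⊔ W₂), (w : G) ∉ W₁ → (w : G) ∉ W₂ → (a - f) (w : G) = 0 := by
      intro w h1 h2
      have hV := hχ.eq_on ω
      have e2 : ω (w ^ m) = ω w := by
        have h' : (ω w) ^ orderOf ω = 1 := DFunLike.congr_fun (pow_orderOf_eq_one ω) w
        rw [map_pow]
        conv_rhs => rw [← pow_one (ω w)]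
        exact pow_eq_pow_iff_modEq.2 (hm1.of_dvd (orderOf_dvd_of_pow_eq_one h'))
      have hmem : ∀ U : Subgroup G, (w : G) ^ m ∈ U → (w : G) ∈ U := by
        intro U h
        have hcop : m.Coprime (orderOf (w : G)) := hm.coprime_dvd_right (orderOf_dvd_natCard _)
        obtain ⟨j, hj⟩ := exists_pow_eq_self_of_coprime hcop
        rw [← hj]
        exact pow_mem h j
      show f ((w : G) ^ m) - f (w : G) = 0
      have e1 := hV (w ^ m) (fun h => h1 (hmem W₁ (by simpa using h)))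
        (fun h => h2 (hmem W₂ (by simpa using h)))
      rw [show ((w ^ m : ↥(W₁ ⊔ W₂)) : G) = (w : G) ^ m from SubmonoidClass.coe_pow _ _] at e1
      rw [hf, e1, hV w h1 h2, e2, sub_self]
    let c : (↥(W₁ ⊔ W₂) →* ℂˣ) → ℂ := fun μ => classInner (a - f) (χ μ)
    have hc : ∀ μ, c μ = classInner a (χ μ) - (if ω = μ then 1 else 0) := fun μ => by
      show classInner (a - f) (χ μ) = _
      rw [classInner_sub_left, hf, hχ.orthonormal]
      congr 1
      split_ifs <;> rfl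
    obtain ⟨q, hq⟩ : ∃ q, ∀ μ, classInner a (χ μ) ≠ 0 → μ = q := by
      by_cases h : ∃ q, classInner a (χ q) ≠ 0
      · obtain ⟨q, hq⟩ := h
        refine ⟨q, fun μ hμ => ?_⟩
        by_contra hne
        obtain ⟨c1, hc1, e1⟩ := signed_dep haI (hχ.irr_or_neg q) hq
        obtain ⟨c2, hc2, e2⟩ := signed_dep haI (hχ.irr_or_neg μ) hμ
        have h0 := hχ.orthonormal μ q
        rw [if_neg hne, e1, e2, classInner_smul_left, classInner_smul_right, signed_norm haI,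
          mul_one] at h0
        rcases mul_eq_zero.1 h0 with h0 | h0
        exacts [hc2 h0, hc1 ((map_eq_zero _).1 h0)]
      · exact ⟨ω, fun μ hμ => absurd ⟨μ, hμ⟩ h⟩
    have h0 := grid hW hodd c (fun φ φ' ψ ψ' h h' =>
        Cfsg.Agent.S1506.result W₁ W₂ hW χ hχ (a - f) hθ hθV φ φ' ψ ψ' h h') ω q (fun μ hμ => by
      by_contra hne
      push Not at hne
      refine hμ ?_
      rw [hc, if_neg (Ne.symm hne.1), sub_zero]
      by_contra h
      exact hne.2 (hq μ h)) ω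
    rw [hc, if_pos rfl, sub_eq_zero] at h0
    obtain ⟨d, hd, e⟩ := signed_dep haI hirr (by rw [hf, h0]; exact one_ne_zero)
    rw [hf] at e
    rw [e, classInner_smul_right, signed_norm haI, mul_one] at h0
    have hd1 : d = 1 := by
      have := congrArg (starRingEnd ℂ) h0
      simpa using this
    rw [hd1, one_smul] at e
    intro x
    rw [hf]
    exact (congrFun e x).symm
  -- rationality
  suffices h : ∀ F : G → ℂ, IsCharacter G F → (∀ m : ℕ, m.Coprime (Nat.card G) → m ≡ 1 [MOD orderOf ω] →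
      F (g ^ m) = F g) → ∃ n : ℤ, F g = n by
    rcases hirr with h' | h'
    · exact h f (isCharacter_of_isIrr h') fun m h1 h2 => key m h1 h2 g
    · obtain ⟨n, hn⟩ := h (-f) (isCharacter_of_isIrr h') fun m h1 h2 => by
        simp only [Pi.neg_apply, key m h1 h2 g]
      exact ⟨-n, by rw [hf] at hn ⊢; push_cast; rw [← hn]; simp⟩
  intro F hF hfix
  refine int_of_fixed (char_isIntegral hF g) fun φ => ?_
  obtain ⟨m, hm, hφ⟩ := algHom_char_pow G φ
  rw [hφ F hF g]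
  obtain ⟨m', hm', hmg, hmω⟩ : ∃ m' : ℕ, m'.Coprime (Nat.card G) ∧ m' ≡ m [MOD orderOf g] ∧
      m' ≡ 1 [MOD orderOf ω] := by
    obtain ⟨m0, h0g, h0ω⟩ := Nat.chineseRemainder hg m 1
    have hdg : orderOf g ∣ Nat.card G := orderOf_dvd_natCard g
    have hdω : orderOf ω ∣ Nat.card G := by
      refine dvd_trans ?_ (Subgroup.card_subgroup_dvd_card (W₁ ⊔ W₂))
      refine orderOf_dvd_of_pow_eq_one (MonoidHom.ext fun w => ?_)
      rw [MonoidHom.pow_apply, ← map_pow, pow_card_eq_one', map_one, MonoidHom.one_apply]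
    have hdd : orderOf g * orderOf ω ∣ Nat.card G := hg.mul_dvd_of_dvd_of_dvd hdg hdω
    have hu : m0.Coprime (orderOf g * orderOf ω) := by
      refine Nat.Coprime.mul_right ?_ ?_
      · have := (hm.coprime_dvd_right hdg)
        rw [Nat.coprime_iff_gcd_eq_one, h0g.gcd_eq]
        exact this
      · rw [Nat.coprime_iff_gcd_eq_one, h0ω.gcd_eq, Nat.gcd_one_left]
    haveI : NeZero (Nat.card G) := ⟨Nat.card_pos.ne'⟩
    haveI : NeZero (orderOf g * orderOf ω) := ⟨fun h => by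
      rw [h, zero_dvd_iff] at hdd; exact Nat.card_pos.ne' hdd⟩
    obtain ⟨v, hv⟩ := ZMod.unitsMap_surjective hdd (ZMod.unitOfCoprime m0 hu)
    refine ⟨(v : ZMod (Nat.card G)).val, ZMod.val_coe_unit_coprime v, ?_, ?_⟩
    all_goals
      have e : ((v : ZMod (Nat.card G)).val : ZMod (orderOf g * orderOf ω)) = (m0 : ZMod _) := by
        have := congrArg Units.val hv
        rw [ZMod.unitsMap_val, ZMod.coe_unitOfCoprime] at this
        rw [← this, ZMod.natCast_val]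
      have e' := (ZMod.natCast_eq_natCast_iff _ _ _).1 e
    · exact (e'.of_dvd (dvd_mul_right _ _)).trans h0g
    · exact (e'.of_dvd (dvd_mul_left _ _)).trans h0ω
  rw [← pow_eq_pow_iff_modEq.2 hmg]
  exact hfix m' hm' hmω

end Cfsg.Agent.S1508
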