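import Cfsg.Statements.S1509
import Cfsg.Agent.Char.Orth

set_option autoImplicit false
open Cfsg

namespace Cfsg.Agent.S1509

/-- Let α, β, γ, δ be functions on a finite group X each of which is an irreducible character or the negative of one, and u, v nonzero real numbers. Suppose ⟨α, β⟩ = ⟨γ, δ⟩ = 0, ⟨α − β, uγ − vδ⟩ = 0, α 1 = β 1 and u γ 1 = v δ 1. Then also ⟨α, γ⟩ = ⟨α, δ⟩ = ⟨β, γ⟩ = ⟨β, δ⟩ = 0. -/
theorem result {X : Type*} [Group X] [Fintype X] (α β γ δ : X → ℂ) (hα : Cfsg.IsIrrCharacter X α ∨ Cfsg.IsIrrCharacter X (-α)) (hβ : Cfsg.IsIrrCharacter X β ∨ Cfsg.IsIrrCharacter X (-β)) (hγ : Cfsg.IsIrrCharacter X γ ∨ Cfsg.IsIrrCharacter X (-γ)) (hδ : Cfsg.IsIrrCharacter X δ ∨ Cfsg.IsIrrCharacter X (-δ)) (u v : ℝ) (hu : u ≠ 0) (hv : v ≠ 0) (hab : Cfsg.classInner α β = 0) (hcd : Cfsg.classInner γ δ = 0) (hmix : Cfsg.classInner (α - β) ((u : ℂ) • γ - (v : ℂ) • δ) = 0) (h1 : α 1 = β 1) (h2 : (u : ℂ) * γ 1 = (v : ℂ) * δ 1) : Cfsg.classInner α γ = 0 ∧ Cfsg.classInner α δ = 0 ∧ Cfsg.classInner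 β γ = 0 ∧ Cfsg.classInner β δ = 0 := by
  open CfsgLib.Char in
  · have key : ∀ a b c d : X → ℂ, (IsIrrCharacter X a ∨ IsIrrCharacter X (-a)) →
        (IsIrrCharacter X b ∨ IsIrrCharacter X (-b)) → (IsIrrCharacter X c ∨ IsIrrCharacter X (-c)) →
        (IsIrrCharacter X d ∨ IsIrrCharacter X (-d)) → ∀ s t : ℝ, s ≠ 0 → t ≠ 0 →
        classInner a b = 0 → classInner c d = 0 →
        classInner (a - b) ((s : ℂ) • c - (t : ℂ) • d) = 0 → a 1 = b 1 →
        (s : ℂ) * c 1 = (t : ℂ) * d 1 → classInner a c = 0 := by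
      intro a b c d ha hb hc hd s t hs ht hab hcd hmix h1 h2
      have tri : ∀ f g : X → ℂ, (IsIrrCharacter X f ∨ IsIrrCharacter X (-f)) →
          (IsIrrCharacter X g ∨ IsIrrCharacter X (-g)) →
          classInner f g = 0 ∨ ∃ ε : ℂ, ε * ε = 1 ∧ classInner f g = ε ∧ f = ε • g := by
        intro f g hf hg
        obtain ⟨εf, F, hεf, hF, rfl⟩ : ∃ e F, e * e = (1 : ℂ) ∧ IsIrrCharacter X F ∧ f = e • F := by
          rcases hf with h | h
          · exact ⟨1, f, by norm_num, h, by simp⟩
          · exact ⟨-1, -f, by norm_num, h, by simp⟩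
        obtain ⟨εg, G', hεg, hG, rfl⟩ : ∃ e F, e * e = (1 : ℂ) ∧ IsIrrCharacter X F ∧ g = e • F := by
          rcases hg with h | h
          · exact ⟨1, g, by norm_num, h, by simp⟩
          · exact ⟨-1, -g, by norm_num, h, by simp⟩
        have hcj : (starRingEnd ℂ) εg = εg := by
          rcases mul_self_eq_one_iff.1 hεg with h | h <;> simp [h]
        rw [classInner_smul_left, classInner_smul_right, hcj, irr_inner hF hG]
        split_ifs with he
        · subst he
          refine Or.inr ⟨εf * εg, by linear_combination (εg * εg) * hεf + hεg, by ring, ?_⟩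
          rw [smul_smul, mul_assoc, hεg, mul_one]
        · simp
      rcases tri a c ha hc with h | ⟨e, he, hac, rfl⟩
      · exact h
      exfalso
      have he0 : e ≠ 0 := fun h => by simp [h] at he
      have hec : (starRingEnd ℂ) e = e := by
        rcases mul_self_eq_one_iff.1 he with h | h <;> simp [h]
      rw [classInner_smul_left] at hab
      have hcb := (mul_eq_zero.1 hab).resolve_left he0
      have hbc : classInner b c = 0 := by rw [← classInner_conj, hcb, map_zero]
      simp only [classInner_sub_left, classInner_sub_right, classInner_smul_right, Complex.conj_ofReal,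
        hac, hbc, classInner_smul_left e c d, hcd, mul_zero, sub_zero, zero_sub] at hmix
      rcases tri b d hb hd with h | ⟨e', he', hbd, rfl⟩
      · rw [h] at hmix
        simp [hs, he0] at hmix
      · rw [hbd] at hmix
        simp only [Pi.smul_apply, smul_eq_mul] at h1 h2
        have hd1 : d 1 ≠ 0 := by
          rcases hd with h | h
          · exact irr_one_ne_zero h
          · exact fun e0 => irr_one_ne_zero h (by simp [e0])
        have h3 : (2 * (t : ℂ) * d 1) = 0 := by
          linear_combination e' * hmix * (0 : ℂ) + (e * (s:ℂ)) * h1 * 1 - h2 * 1 +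
            (e' * d 1) * hmix - ((s : ℂ) * c 1) * he - (t * d 1) * he'
        simp [ht, hd1] at h3
    have hswap : classInner (α - β) ((v : ℂ) • δ - (u : ℂ) • γ) = 0 := by
      rw [show (v : ℂ) • δ - (u : ℂ) • γ = -((u : ℂ) • γ - (v : ℂ) • δ) by abel, classInner_neg_right, hmix, neg_zero]
    have hswap2 : classInner (β - α) ((u : ℂ) • γ - (v : ℂ) • δ) = 0 := by
      rw [← neg_sub α β, classInner_neg_left, hmix, neg_zero]
    have hswap3 : classInner (β - α) ((v : ℂ) • δ - (u : ℂ) • γ) = 0 := by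
      rw [← neg_sub α β, classInner_neg_left, hswap, neg_zero]
    have hba : classInner β α = 0 := by rw [← classInner_conj, hab, map_zero]
    have hdc : classInner δ γ = 0 := by rw [← classInner_conj, hcd, map_zero]
    exact ⟨key α β γ δ hα hβ hγ hδ u v hu hv hab hcd hmix h1 h2,
      key α β δ γ hα hβ hδ hγ v u hv hu hab hdc hswap h1 h2.symm,
      key β α γ δ hβ hα hγ hδ u v hu hv hba hcd hswap2 h1.symm h2,
      key β α δ γ hβ hα hδ hγ v u hv hu hba hdc hswap3 h1.symm h2.symm⟩

end Cfsg.Agent.S1509
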