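import Cfsg.Statements.S1510
import Mathlib.GroupTheory.Index
import Mathlib.GroupTheory.SpecificGroups.Cyclic
import Mathlib.Data.Nat.ChineseRemainder
import Mathlib.Tactic.Group

set_option autoImplicit false
open Cfsg

namespace Cfsg.Agent.S1510
open scoped Pointwise


/-- Let L be a finite group with a normal subgroup K and a nontrivial cyclic subgroup W₁ of order coprime to its index, K ⊓ W₁ = ⊥ and K ⊔ W₁ = ⊤; let W₂ ≠ ⊥ be a cyclic subgroup of K with K ⊓ C_L(x) = W₂ for every non-identity x ∈ W₁, and suppose W₁ ⊔ W₂ has odd order. Then (W₁, W₂) is a self-normalising cyclic pair in L. -/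
theorem result {L : Type*} [Group L] [Fintype L] (K W₁ W₂ : Subgroup L) [hK : K.Normal] (hKW₁ : K ⊓ W₁ = ⊥) (hKW₁' : K ⊔ W₁ = ⊤) (hW₁ : W₁ ≠ ⊥) (hW₁c : IsCyclic W₁) (hHall : Nat.Coprime (Nat.card W₁) W₁.index) (hW₂ : W₂ ≠ ⊥) (hW₂c : IsCyclic W₂) (hW₂K : W₂ ≤ K) (hC : ∀ x ∈ W₁, x ≠ 1 → K ⊓ Subgroup.centralizer ({x} : Set L) = W₂) (hodd : Odd (Nat.card ↥(W₁ ⊔ W₂))) : Cfsg.IsSelfNormalizingCyclic W₁ W₂ := by
  classical
  have hcop : (Nat.card W₁).Coprime (Nat.card W₂) := by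
    refine Nat.Coprime.coprime_dvd_right ((Subgroup.card_dvd_of_le hW₂K).trans ?_) hHall
    have h := Subgroup.index_mul_card W₁
    have : Nat.card L = Nat.card K * Nat.card W₁ := by
      have h1 := Subgroup.relIndex_mul_relIndex ⊥ K (K ⊔ W₁) bot_le le_sup_left
      rw [sup_comm, Subgroup.relIndex_sup_right, ← Subgroup.inf_relIndex_right K W₁, hKW₁] at h1
      simp only [Subgroup.relIndex_bot_left] at h1
      rw [sup_comm] at h1
      rw [h1, hKW₁', Subgroup.card_top]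
    rw [← h] at this
    exact ⟨1, by rw [mul_one]; exact Nat.eq_of_mul_eq_mul_right Nat.card_pos this⟩
  have hdisj : W₁ ⊓ W₂ = ⊥ := le_bot_iff.1 (le_trans (le_inf (inf_le_right.trans hW₂K) inf_le_left) hKW₁.le)
  have hcomm : ∀ a ∈ W₁, ∀ b ∈ W₂, a * b = b * a := by
    intro a ha b hb
    by_cases h1 : a = 1
    · simp [h1]
    rw [← hC a ha h1] at hb
    exact (Subgroup.mem_centralizer_singleton_iff.1 (Subgroup.mem_inf.1 hb).2).symm
  have hle : W₂ ≤ Subgroup.normalizer (W₁ : Set L) := fun b hb => Subgroup.mem_normalizer_iff.2 fun a => by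
    constructor
    · intro ha; rwa [← hcomm a ha b hb, mul_inv_cancel_right]
    · intro ha
      have e : b * a * b⁻¹ * b = b * (b * a * b⁻¹) := hcomm _ ha b hb
      rwa [show b * a * b⁻¹ = a by
        calc b * a * b⁻¹ = b⁻¹ * (b * (b * a * b⁻¹)) := by group
          _ = a := by rw [← e]; group] at ha
  have hfac : ∀ w ∈ W₁ ⊔ W₂, ∃ a ∈ W₁, ∃ b ∈ W₂, w = a * b := by
    intro w hw
    rw [← SetLike.mem_coe, Subgroup.coe_mul_of_right_le_normalizer_left _ _ hle] at hw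
    obtain ⟨a, ha, b, hb, rfl⟩ := Set.mem_mul.1 hw
    exact ⟨a, ha, b, hb, rfl⟩
  have hcardW : Nat.card ↥(W₁ ⊔ W₂) = Nat.card W₁ * Nat.card W₂ := by
    rw [← Nat.card_prod]
    refine (Nat.card_eq_of_bijective (fun t : W₁ × W₂ => (⟨(t.1 : L) * t.2, mul_mem (Subgroup.mem_sup_left t.1.2) (Subgroup.mem_sup_right t.2.2)⟩ : ↥(W₁ ⊔ W₂))) ⟨?_, ?_⟩).symm
    · rintro ⟨a, b⟩ ⟨c, d⟩ e
      have e1 : (a : L) * b = c * d := congrArg Subtype.val e
      have h2 : (c : L)⁻¹ * a ∈ W₁ ⊓ W₂ := Subgroup.mem_inf.2 ⟨mul_mem (inv_mem c.2) a.2, by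
        rw [show (c : L)⁻¹ * a = d * (b : L)⁻¹ by
          rw [eq_mul_inv_iff_mul_eq, mul_assoc, e1, inv_mul_cancel_left]]
        exact mul_mem d.2 (inv_mem b.2)⟩
      rw [hdisj, Subgroup.mem_bot] at h2
      have hac : c = a := Subtype.ext (inv_mul_eq_one.1 h2)
      subst hac
      exact Prod.ext rfl (Subtype.ext (mul_left_cancel e1))
    · rintro ⟨w, hw⟩
      obtain ⟨a, ha, b, hb, rfl⟩ := hfac w hw
      exact ⟨(⟨a, ha⟩, ⟨b, hb⟩), rfl⟩
  obtain ⟨a₀, ha₀⟩ := hW₁c.exists_generator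
  obtain ⟨b₀, hb₀⟩ := hW₂c.exists_generator
  have hcyc : IsCyclic ↥(W₁ ⊔ W₂) := by
    refine isCyclic_of_orderOf_eq_card ⟨(a₀ : L) * b₀, mul_mem (Subgroup.mem_sup_left a₀.2) (Subgroup.mem_sup_right b₀.2)⟩ ?_
    rw [Subgroup.orderOf_mk, (show Commute (a₀ : L) b₀ from hcomm _ a₀.2 _ b₀.2).orderOf_mul_eq_mul_orderOf_of_coprime (by
      rw [Subgroup.orderOf_coe, Subgroup.orderOf_coe, orderOf_eq_card_of_forall_mem_zpowers ha₀, orderOf_eq_card_of_forall_mem_zpowers hb₀]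
      exact hcop), Subgroup.orderOf_coe, Subgroup.orderOf_coe, orderOf_eq_card_of_forall_mem_zpowers ha₀,
      orderOf_eq_card_of_forall_mem_zpowers hb₀, hcardW]
  refine ⟨hW₁, hW₂, hdisj, hcomm, hcyc, fun X hX hXne => ?_⟩
  obtain ⟨k, hk1, hk0⟩ := Nat.chineseRemainder hcop 1 0
  have hpow : ∀ a ∈ W₁, ∀ b ∈ W₂, (a * b) ^ k = a := by
    intro a ha b hb
    rw [(show Commute a b from hcomm a ha b hb).mul_pow, orderOf_dvd_iff_pow_eq_one.1
      ((Subgroup.orderOf_dvd_natCard _ hb).trans (Nat.modEq_zero_iff_dvd.1 hk0)), mul_one]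
    conv_rhs => rw [← pow_one a]
    exact pow_eq_pow_iff_modEq.2 (hk1.of_dvd (Subgroup.orderOf_dvd_natCard _ ha))
  refine le_antisymm (fun g hg => ?_) (fun g hg => Subgroup.mem_set_normalizer_iff.2 fun y => ?_)
  · obtain ⟨w, hw⟩ := hXne
    obtain ⟨a, ha, b, hb, rfl⟩ := hfac w (hX hw).1
    obtain ⟨a', ha', b', hb', e⟩ := hfac _ (hX ((Subgroup.mem_set_normalizer_iff.1 hg _).1 hw)).1
    have hconj : g * a * g⁻¹ = a' := by
      rw [← hpow a ha b hb, ← conj_pow, e, hpow a' ha' b' hb']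
    have ha1 : a ≠ 1 := fun e1 => (hX hw).2 (Or.inr (by rw [e1, one_mul]; exact hb))
    have hgmem : g ∈ (((W₁ ⊔ K : Subgroup L)) : Set L) := by rw [sup_comm, hKW₁']; trivial
    rw [Subgroup.mul_normal] at hgmem
    obtain ⟨c, hc, k', hk', rfl⟩ := Set.mem_mul.1 hgmem
    haveI : IsMulCommutative W₁ := ⟨⟨fun u v => by
      obtain ⟨i, rfl⟩ := Subgroup.mem_zpowers_iff.1 (ha₀ u)
      obtain ⟨j, rfl⟩ := Subgroup.mem_zpowers_iff.1 (ha₀ v)
      exact ((Commute.refl a₀).zpow_zpow i j).eq⟩⟩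
    have h1 : k' * a * k'⁻¹ ∈ W₁ := by
      have : k' * a * k'⁻¹ = c⁻¹ * a' * c := by rw [← hconj]; group
      rw [this]
      exact mul_mem (mul_mem (inv_mem hc) ha') hc
    have h2 : k' * a * k'⁻¹ * a⁻¹ ∈ K ⊓ W₁ := Subgroup.mem_inf.2 ⟨by
      rw [show k' * a * k'⁻¹ * a⁻¹ = k' * (a * k'⁻¹ * a⁻¹) by group]
      exact mul_mem hk' (hK.conj_mem _ (inv_mem hk') a), mul_mem h1 (inv_mem ha)⟩
    rw [hKW₁, Subgroup.mem_bot, mul_inv_eq_one, mul_inv_eq_iff_eq_mul] at h2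
    refine mul_mem (Subgroup.mem_sup_left hc) (Subgroup.mem_sup_right ?_)
    rw [← hC a ha ha1]
    exact Subgroup.mem_inf.2 ⟨hk', Subgroup.mem_centralizer_singleton_iff.2 h2⟩
  · have hab : ∀ u ∈ W₁ ⊔ W₂, ∀ v ∈ W₁ ⊔ W₂, u * v = v * u := by
      intro u hu v hv
      obtain ⟨z, hz⟩ := hcyc.exists_generator
      obtain ⟨i, hi⟩ := Subgroup.mem_zpowers_iff.1 (hz ⟨u, hu⟩)
      obtain ⟨j, hj⟩ := Subgroup.mem_zpowers_iff.1 (hz ⟨v, hv⟩)
      have := ((Commute.refl z).zpow_zpow i j).eq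
      rw [hi, hj] at this
      exact congrArg Subtype.val this
    constructor
    · intro hy
      rwa [hab g hg y (hX hy).1, mul_inv_cancel_right]
    · intro hy
      have e := hab g hg _ (hX hy).1
      rwa [show g * y * g⁻¹ = y by
        calc g * y * g⁻¹ = g⁻¹ * (g * (g * y * g⁻¹)) := by group
          _ = y := by rw [e]; group] at hy

end Cfsg.Agent.S1510
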