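import Cfsg.Statements.S1512
import Cfsg.Agent.Char.CoprimeCoset
import Mathlib.GroupTheory.GroupAction.ConjAct

set_option autoImplicit false
open Cfsg

namespace Cfsg.Agent.S1512

/-- Let K be a normal subgroup of the finite group L and x a non-identity element whose order is coprime to the order of K, such that K ⊓ C_L(y) = W₂ for every non-identity element y of the cyclic group generated by x. Then the number of conjugacy classes of K mapped to themselves by conjugation by x is at most Nat.card W₂. -/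
theorem result {L : Type*} [Group L] [Finite L] (K W₂ : Subgroup L) [hK : K.Normal] (x : L) (hx1 : x ≠ 1) (hx : Nat.Coprime (orderOf x) (Nat.card K)) (hC : ∀ y ∈ Subgroup.zpowers x, y ≠ 1 → K ⊓ Subgroup.centralizer ({y} : Set L) = W₂) : Nat.card {C : ConjClasses K // ConjClasses.map (MulEquiv.toMonoidHom ((MulAut.conjNormal x : MulAut K))) C = C} ≤ Nat.card W₂ := by
  classical
  have hmem : ∀ u, u ∈ W₂ ↔ u ∈ K ∧ u * x = x * u := fun u => by
    rw [← hC x (Subgroup.mem_zpowers x) hx1, Subgroup.mem_inf, Subgroup.mem_centralizer_singleton_iff]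
  let f : {C : ConjClasses K // ConjClasses.map (MulEquiv.toMonoidHom ((MulAut.conjNormal x : MulAut K))) C = C} → W₂ :=
    fun C => if h : ∃ u : W₂, ConjClasses.mk (⟨u, ((hmem u).1 u.2).1⟩ : K) = C.1 then h.choose else 1
  refine Nat.card_le_card_of_injective f ?_
  have key : ∀ C : {C : ConjClasses K // ConjClasses.map (MulEquiv.toMonoidHom ((MulAut.conjNormal x : MulAut K))) C = C},
      ∃ u : W₂, ConjClasses.mk (⟨u, ((hmem u).1 u.2).1⟩ : K) = C.1 := by
    rintro ⟨C, hCf⟩
    obtain ⟨n, rfl⟩ := ConjClasses.exists_rep C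
    obtain ⟨m, hm⟩ := isConj_iff.1 (ConjClasses.mk_eq_mk_iff_isConj.1 (show
      ConjClasses.mk ((MulAut.conjNormal x : MulAut K) n) = ConjClasses.mk n from hCf).symm)
    have e : x * (n : L) * x⁻¹ = (m : L) * n * (m : L)⁻¹ := by
      have := congrArg Subtype.val hm
      simpa [MulAut.conjNormal_apply] using this.symm
    obtain ⟨s, hs, hsx⟩ := CfsgLib.Char.exists_commute_conj K hx m.2 e
    refine ⟨⟨s * n * s⁻¹, (hmem _).2 ⟨hK.conj_mem n n.2 s, hsx.symm⟩⟩, ?_⟩
    exact ConjClasses.mk_eq_mk_iff_isConj.2 (isConj_iff.2 ⟨⟨s⁻¹, inv_mem hs⟩, Subtype.ext (by simp [mul_assoc])⟩)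
  intro C D e
  simp only [f, dif_pos (key C), dif_pos (key D)] at e
  refine Subtype.ext ((key C).choose_spec.symm.trans (Eq.trans ?_ (key D).choose_spec))
  exact congrArg (fun u : W₂ => ConjClasses.mk (⟨u, ((hmem u).1 u.2).1⟩ : K)) e

end Cfsg.Agent.S1512
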