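import Cfsg.Statements.S1513
import Mathlib
import Cfsg.Agent.Char.CyclicTI
import Cfsg.Agent.Char.PermLemma
import Cfsg.Agent.Char.CoprimeCoset
import Cfsg.Agent.Char.Gallagher
import Cfsg.Agent.Char.ExtCrit
-- import your own Cfsg.Agent.* helpers here

set_option autoImplicit false
open Cfsg

namespace Cfsg.Agent.S1513

open CfsgLib.Char
open scoped ComplexConjugate CfsgLib.Char

section
variable {L : Type*} [Group L] [Fintype L] {K W₁ W₂ : Subgroup L} [hK : K.Normal]

theorem card_fixed_classes (hcomm : ∀ a ∈ W₂, ∀ b ∈ W₂, a * b = b * a) (hW₂K : W₂ ≤ K) {x : L}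
    (hC : K ⊓ Subgroup.centralizer ({x} : Set L) = W₂) (hcop : (orderOf x).Coprime (Nat.card K)) :
    Nat.card {C : ConjClasses K // ∀ g, ConjClasses.mk g = C →
      ConjClasses.mk (⟨x * g * x⁻¹, hK.conj_mem (g : L) g.2 x⟩ : K) = C} = Nat.card W₂ := by
  classical
  haveI := Fintype.ofFinite K
  have hCx : ∀ w ∈ W₂, w * x = x * w := fun w hw =>
    Subgroup.mem_centralizer_singleton_iff.1 ((hC.symm ▸ hw : w ∈ K ⊓ Subgroup.centralizer ({x} : Set L))).2
  symm
  refine Nat.card_eq_of_bijective (fun w : W₂ => ⟨ConjClasses.mk ⟨w, hW₂K w.2⟩, fun g hg => ?_⟩) ⟨?_, ?_⟩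
  · rw [← hg]
    obtain ⟨c, hc⟩ := isConj_iff.1 (ConjClasses.mk_eq_mk_iff_isConj.1 hg)
    rw [ConjClasses.mk_eq_mk_iff_isConj, isConj_iff]
    -- `c g c⁻¹ = w`, and `x` fixes `w`
    refine ⟨c⁻¹ * ⟨x * c * x⁻¹, hK.conj_mem (c : L) c.2 x⟩, Subtype.ext ?_⟩
    have e : (c : L) * g * (c : L)⁻¹ = w := congrArg Subtype.val hc
    push_cast
    calc (c : L)⁻¹ * (x * c * x⁻¹) * (x * g * x⁻¹) * ((c : L)⁻¹ * (x * c * x⁻¹))⁻¹
        = (c : L)⁻¹ * (x * ((c : L) * g * (c : L)⁻¹) * x⁻¹) * c := by group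
      _ = g := by rw [e, ← hCx w w.2, mul_inv_cancel_right, ← e]; group
  · intro a b hab
    have h := congrArg Subtype.val hab
    obtain ⟨s, hs⟩ := isConj_iff.1 (ConjClasses.mk_eq_mk_iff_isConj.1 h)
    have e : (s : L) * a * (s : L)⁻¹ = b := congrArg Subtype.val hs
    set H : Subgroup L := K ⊓ Subgroup.centralizer ({(a : L)} : Set L) with hH
    have hxH : x ∈ Subgroup.normalizer (H : Set L) := by
      have key : ∀ y : L, Commute y (a : L) → ∀ h ∈ H, y * h * y⁻¹ ∈ H := by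
        intro y hy h hh
        refine Subgroup.mem_inf.2 ⟨hK.conj_mem h (Subgroup.mem_inf.1 hh).1 y,
          Subgroup.mem_centralizer_singleton_iff.2 ?_⟩
        have h2 : Commute h (a : L) := Subgroup.mem_centralizer_singleton_iff.1 (Subgroup.mem_inf.1 hh).2
        exact ((hy.mul_left h2).mul_left hy.inv_left).eq
      refine Subgroup.mem_normalizer_iff.2 fun h => ⟨key x (hCx a a.2).symm h, fun hh => ?_⟩
      have := key x⁻¹ (Commute.inv_left (hCx a a.2).symm) _ hh
      simpa [mul_assoc] using this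
    have hcopH : (orderOf x).Coprime (Nat.card H) :=
      hcop.coprime_dvd_right (Subgroup.card_dvd_of_le inf_le_left)
    have hm : (s : L)⁻¹ * x * s * x⁻¹ ∈ H := by
      refine Subgroup.mem_inf.2 ⟨?_, Subgroup.mem_centralizer_singleton_iff.2 ?_⟩
      · rw [show (s : L)⁻¹ * x * s * x⁻¹ = (s : L)⁻¹ * (x * s * x⁻¹) by group]
        exact mul_mem (inv_mem s.2) (hK.conj_mem _ s.2 x)
      · have h1 : Commute x (a : L) := (hCx a a.2).symm
        have h2 : Commute x (b : L) := (hCx b b.2).symm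
        have h3 : Commute ((s : L)⁻¹ * x * s) (a : L) := by
          have := h2.conj (s : L)⁻¹
          rw [← e] at this
          simpa [mul_assoc] using this
        exact (h3.mul_left h1.inv_left).eq
    obtain ⟨y, hy, c, hc, hcx, e'⟩ := coset_conj H hxH hcopH hm
    have hc1 : c = 1 := by
      have h1 : (c * x) ^ orderOf x = 1 := by
        rw [← e', show (s : L)⁻¹ * x * s * x⁻¹ * x = (s : L)⁻¹ * x * s by group, conj_pow,
          show (s : L)⁻¹ * x * s = (s : L)⁻¹ * x * ((s : L)⁻¹)⁻¹ by group, conj_pow, pow_orderOf_eq_one]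
        group
      rw [(show Commute c x from hcx).mul_pow, pow_orderOf_eq_one, mul_one] at h1
      exact orderOf_eq_one_iff.1 (Nat.eq_one_of_dvd_coprimes hcopH
        (orderOf_dvd_of_pow_eq_one h1) (Subgroup.orderOf_dvd_natCard _ hc))
    rw [hc1, one_mul] at e'
    have hyK : (s : L) * y⁻¹ ∈ W₂ := by
      rw [← hC]
      refine Subgroup.mem_inf.2 ⟨mul_mem s.2 (inv_mem (Subgroup.mem_inf.1 hy).1),
        Subgroup.mem_centralizer_singleton_iff.2 ?_⟩
      calc (s : L) * y⁻¹ * x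
          = (s : L) * y⁻¹ * (y * ((s : L)⁻¹ * x * s * x⁻¹ * x) * y⁻¹) := by rw [e']
        _ = x * ((s : L) * y⁻¹) := by group
    have hya : y * (a : L) * y⁻¹ = a := by
      rw [Subgroup.mem_centralizer_singleton_iff.1 (Subgroup.mem_inf.1 hy).2, mul_inv_cancel_right]
    refine Subtype.ext ?_
    calc (a : L) = (s : L) * y⁻¹ * a * ((s : L) * y⁻¹)⁻¹ := by
          rw [hcomm _ hyK _ a.2, mul_inv_cancel_right]
      _ = (s : L) * y⁻¹ * (y * a * y⁻¹) * ((s : L) * y⁻¹)⁻¹ := by rw [hya]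
      _ = (s : L) * a * (s : L)⁻¹ := by group
      _ = b := e
  · rintro ⟨C, hC'⟩
    obtain ⟨h₀, rfl⟩ := ConjClasses.exists_rep C
    obtain ⟨m, hm⟩ := isConj_iff.1 (ConjClasses.mk_eq_mk_iff_isConj.1 (hC' h₀ rfl).symm)
    obtain ⟨s, hs, hcs⟩ := exists_commute_conj K hcop (h₀ := (h₀ : L)) m.2
      (congrArg Subtype.val hm).symm
    have hmem : s * h₀ * s⁻¹ ∈ W₂ := by
      rw [← hC]
      exact Subgroup.mem_inf.2 ⟨mul_mem (mul_mem hs h₀.2) (inv_mem hs),
        Subgroup.mem_centralizer_singleton_iff.2 hcs.symm⟩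
    refine ⟨⟨_, hmem⟩, Subtype.ext ?_⟩
    rw [ConjClasses.mk_eq_mk_iff_isConj, isConj_iff]
    refine ⟨⟨s, hs⟩⁻¹, Subtype.ext ?_⟩
    push_cast
    group

variable [Fintype K]

theorem card_fixed_irr (hcomm : ∀ a ∈ W₂, ∀ b ∈ W₂, a * b = b * a) (hW₂K : W₂ ≤ K) {x : L}
    (hC : K ⊓ Subgroup.centralizer ({x} : Set L) = W₂) (hcop : (orderOf x).Coprime (Nat.card K)) :
    Nat.card {θ : IrrCharacter K // conjN (θ : K → ℂ) x = (θ : K → ℂ)} = Nat.card W₂ := by
  rw [← card_fixed_classes hcomm hW₂K hC hcop]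
  exact card_fixed_irr_eq_classes (fun g : K => (⟨x * g * x⁻¹, hK.conj_mem (g : L) g.2 x⟩ : K))
    fun θ => irr_conjN θ.2 x

end

/-- Let L be a finite group with K normal with complement W₁ ≠ 1 a cyclic Hall subgroup, and W₂ ≠ 1 a cyclic subgroup of K equal to C_K(x) for every non-identity x ∈ W₁, with W₁W₂ of odd order. For an irreducible character θ of K: if θ is not fixed under conjugation by some element of W₁, then the function induced from θ to L is an irreducible character of L; and the irreducible characters of K fixed by all of W₁ are exactly Nat.card W₂ in number, each inducing to the sum of Nat.card W₁ pairwise distinct irreducible characters of L. -/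
theorem result {L : Type*} [Group L] [Fintype L] (K W₁ W₂ : Subgroup L) [hK : K.Normal] (hKW₁ : K ⊓ W₁ = ⊥) (hKW₁' : K ⊔ W₁ = ⊤) (hW₁ : W₁ ≠ ⊥) (hW₁c : IsCyclic W₁) (hHall : Nat.Coprime (Nat.card W₁) W₁.index) (hW₂ : W₂ ≠ ⊥) (hW₂c : IsCyclic W₂) (hW₂K : W₂ ≤ K) (hC : ∀ x ∈ W₁, x ≠ 1 → K ⊓ Subgroup.centralizer ({x} : Set L) = W₂) (hodd : Odd (Nat.card ↥(W₁ ⊔ W₂))) : (∀ θ : K → ℂ, Cfsg.IsIrrCharacter K θ → (∃ x ∈ W₁, (fun k : K => θ ⟨x * k * x⁻¹, hK.conj_mem (k : L) k.2 x⟩) ≠ θ) → Cfsg.IsIrrCharacter L (Cfsg.indFun K θ)) ∧ Nat.card {θ : Cfsg.IrrCharacter K // ∀ x ∈ W₁, (fun k : K => (θ : K → ℂ) ⟨x * k * x⁻¹, hK.conj_mem (k : L) k.2 x⟩) = θ} = Nat.card W₂ ∧ (∀ θ : K → ℂ, Cfsg.IsIrrCharacter K θ → (∀ x ∈ W₁, (fun k : K => θ ⟨x * k * x⁻¹, hK.conj_mem (k : L) k.2 x⟩) = θ) → ∃ C : Finset (L → ℂ), C.card = Nat.card W₁ ∧ (∀ μ ∈ C, Cfsg.IsIrrCharacter L μ) ∧ Cfsg.indFun K θ = ∑ μ ∈ C, μ) := by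
  classical
  haveI := Fintype.ofFinite K
  haveI := hW₁c
  obtain ⟨w₀, hw₀⟩ := IsCyclic.exists_generator (α := W₁)
  have hindex : W₁.index = Nat.card K := by
    have hc : K.IsComplement' W₁ :=
      Subgroup.isComplement'_of_disjoint_and_mul_eq_univ (disjoint_iff.2 hKW₁) (by
        rw [← Subgroup.normal_mul, hKW₁']; rfl)
    exact hc.index_eq_card
  have hcop : ∀ x ∈ W₁, (orderOf x).Coprime (Nat.card K) := fun x hx =>
    (hindex ▸ hHall).coprime_dvd_left (Subgroup.orderOf_dvd_natCard _ hx)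
  have hcomm : ∀ a ∈ W₂, ∀ b ∈ W₂, a * b = b * a := by
    intro a ha b hb
    haveI := hW₂c
    obtain ⟨c, hc⟩ := IsCyclic.exists_generator (α := W₂)
    obtain ⟨i, hi⟩ := Subgroup.mem_zpowers_iff.1 (hc ⟨a, ha⟩)
    obtain ⟨j, hj⟩ := Subgroup.mem_zpowers_iff.1 (hc ⟨b, hb⟩)
    have : (⟨a, ha⟩ : W₂) * ⟨b, hb⟩ = ⟨b, hb⟩ * ⟨a, ha⟩ := by
      rw [← hi, ← hj]; exact ((Commute.refl c).zpow_zpow i j).eq
    exact congrArg Subtype.val this
  have hgen : ∀ (θ : K → ℂ), conjN θ (w₀ : L) = θ → ∀ x ∈ W₁, conjN θ x = θ := by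
    intro θ h x hx
    obtain ⟨i, hi⟩ := Subgroup.mem_zpowers_iff.1 (hw₀ ⟨x, hx⟩)
    have : x ∈ inertia θ := by
      rw [show x = (w₀ : L) ^ i from (congrArg Subtype.val hi).symm.trans (Subgroup.coe_zpow _ _ _)]
      exact zpow_mem (mem_inertia.2 h) i
    exact this
  have hw1 : (w₀ : L) ≠ 1 := by
    intro h
    refine hW₁ ((Subgroup.eq_bot_iff_forall _).2 fun x hx => ?_)
    obtain ⟨i, hi⟩ := Subgroup.mem_zpowers_iff.1 (hw₀ ⟨x, hx⟩)
    rw [show x = (w₀ : L) ^ i from (congrArg Subtype.val hi).symm.trans (Subgroup.coe_zpow _ _ _), h,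
      one_zpow]
  have hfix : ∀ x ∈ W₁, x ≠ 1 → ∀ θ : IrrCharacter K, conjN (θ : K → ℂ) x = (θ : K → ℂ) →
      conjN (θ : K → ℂ) (w₀ : L) = (θ : K → ℂ) := by
    intro x hx hx1
    let A := Finset.univ.filter fun θ : IrrCharacter K => conjN (θ : K → ℂ) (w₀ : L) = (θ : K → ℂ)
    let B := Finset.univ.filter fun θ : IrrCharacter K => conjN (θ : K → ℂ) x = (θ : K → ℂ)
    have hAB : A ⊆ B := fun θ hθ => Finset.mem_filter.2 ⟨Finset.mem_univ _,
      hgen _ (Finset.mem_filter.1 hθ).2 x hx⟩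
    have hA : A.card = Nat.card W₂ := by
      rw [← card_fixed_irr hcomm hW₂K (hC _ w₀.2 hw1) (hcop _ w₀.2), Nat.card_eq_fintype_card,
        Fintype.card_subtype]
    have hB : B.card = Nat.card W₂ := by
      rw [← card_fixed_irr hcomm hW₂K (hC x hx hx1) (hcop x hx), Nat.card_eq_fintype_card,
        Fintype.card_subtype]
    intro θ hθ
    have : θ ∈ A := by
      rw [Finset.eq_of_subset_of_card_le hAB (by omega)]
      exact Finset.mem_filter.2 ⟨Finset.mem_univ _, hθ⟩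
    exact (Finset.mem_filter.1 this).2
  have hdec : ∀ g : L, ∃ k ∈ K, ∃ w ∈ W₁, g = k * w := by
    intro g
    have hg : g ∈ K ⊔ W₁ := by rw [hKW₁']; trivial
    rw [Subgroup.mem_sup_of_normal_left] at hg
    obtain ⟨k, hk, w, hw, e⟩ := hg
    exact ⟨k, hk, w, hw, e.symm⟩
  refine ⟨?_, ?_, ?_⟩
  · rintro θ hθ ⟨x, hx, hne⟩
    have hin : ∀ g : L, conjN θ g = θ ↔ g ∈ K := by
      intro g
      refine ⟨fun h => ?_, fun h => conjN_of_mem (classFun_of_irr hθ) h⟩
      obtain ⟨k, hk, w, hw, rfl⟩ := hdec g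
      rw [← conjN_mul, conjN_of_mem (classFun_of_irr hθ) hk] at h
      rcases eq_or_ne w 1 with rfl | hw1'
      · simpa using hk
      · exact absurd (hgen θ (hfix w hw hw1' ⟨θ, hθ⟩ h) x hx) hne
    refine isIrr_of_char_norm (isCharacter_indFun K (isCharacter_of_isIrr hθ)) ?_
    rw [frobenius K θ (indFun_classFun K θ), indFun_restrict, classInner_smul_right, map_inv₀,
      Complex.conj_natCast, classInner_sum_right]
    have : ∀ g : L, classInner θ (conjN θ g) = if g ∈ K then 1 else 0 := by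
      intro g
      split_ifs with hg
      · rw [(hin g).2 hg, irr_inner_self hθ]
      · exact irr_inner_ne hθ (irr_conjN hθ g) fun e => hg ((hin g).1 e.symm)
    rw [Finset.sum_congr rfl fun g _ => this g, Finset.sum_boole, ← Fintype.card_subtype,
      ← Nat.card_eq_fintype_card]
    exact inv_mul_cancel₀ (natCard_ne_zero K)
  · rw [← card_fixed_irr hcomm hW₂K (hC _ w₀.2 hw1) (hcop _ w₀.2)]
    exact Nat.card_congr (Equiv.subtypeEquivRight fun θ => ⟨fun h => h _ w₀.2, fun h => hgen _ h⟩)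
  · intro θ hθ hinv
    have hinvg : ∀ g : L, conjN θ g = θ := by
      intro g
      obtain ⟨k, hk, w, hw, rfl⟩ := hdec g
      rw [← conjN_mul, conjN_of_mem (classFun_of_irr hθ) hk]
      exact hinv w hw
    let π : W₁ →* L ⧸ K := (QuotientGroup.mk' K).comp W₁.subtype
    have hπs : Function.Surjective π := by
      intro q
      obtain ⟨g, rfl⟩ := QuotientGroup.mk_surjective q
      obtain ⟨k, hk, w, hw, rfl⟩ := hdec g
      refine ⟨⟨w, hw⟩, ?_⟩
      show (QuotientGroup.mk w : L ⧸ K) = QuotientGroup.mk (k * w)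
      rw [QuotientGroup.mk_mul, (QuotientGroup.eq_one_iff k).2 hk, one_mul]
    have hπi : Function.Injective π := by
      refine (injective_iff_map_eq_one π).2 fun w hw => ?_
      have hmem : (w : L) ∈ K ⊓ W₁ := ⟨(QuotientGroup.eq_one_iff (w : L)).1 hw, w.2⟩
      rw [hKW₁, Subgroup.mem_bot] at hmem
      exact Subtype.ext hmem
    haveI hcyc : IsCyclic (L ⧸ K) := isCyclic_of_surjective π hπs
    have hab : ∀ a b : L ⧸ K, a * b = b * a := by
      obtain ⟨c, hc⟩ := IsCyclic.exists_generator (α := L ⧸ K)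
      intro a b
      obtain ⟨i, rfl⟩ := Subgroup.mem_zpowers_iff.1 (hc a)
      obtain ⟨j, rfl⟩ := Subgroup.mem_zpowers_iff.1 (hc b)
      exact ((Commute.refl c).zpow_zpow i j).eq
    obtain ⟨χ, hχ, hext⟩ := extend_cyclic hθ hinvg hcyc
    haveI := Fintype.ofFinite (L ⧸ K)
    haveI : Fintype (L ⧸ K →* ℂˣ) := Fintype.ofEquiv _ (CfsgLib.CTI.linEquiv hab).symm
    let F : (L ⧸ K →* ℂˣ) → (L → ℂ) := fun μ g => χ g * (μ (QuotientGroup.mk g) : ℂ)
    have hFinj : Function.Injective F := by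
      intro μ ν h
      have hb : ∀ μ : L ⧸ K →* ℂˣ, (fun g : L => (μ (QuotientGroup.mk g) : ℂ)) ∈
          {β : L → ℂ | IsIrrCharacter L β ∧ ∀ n : K, β n = β 1} := fun μ =>
        ⟨isIrr_linear (μ.comp (QuotientGroup.mk' K)), fun n => by
          simp only
          rw [(QuotientGroup.eq_one_iff (n : L)).2 n.2]; rfl⟩
      have h2 := (gallagher hθ (isCharacter_of_isIrr hχ) hext).injOn (hb μ) (hb ν) (by
        funext g
        have := congrFun h g
        simp only [Pi.mul_apply]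
        simp only [F] at this
        rw [mul_comm, this, mul_comm])
      refine MonoidHom.ext fun q => ?_
      obtain ⟨g, rfl⟩ := QuotientGroup.mk_surjective q
      exact Units.ext (congrFun h2 g)
    refine ⟨Finset.univ.image F, ?_, ?_, ?_⟩
    · rw [Finset.card_image_of_injective _ hFinj, Finset.card_univ, ← Nat.card_eq_fintype_card]
      letI : CommGroup (L ⧸ K) := { (inferInstance : Group (L ⧸ K)) with mul_comm := hab }
      rw [CommGroup.card_monoidHom_of_hasEnoughRootsOfUnity (L ⧸ K) ℂ]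
      exact (Nat.card_eq_of_bijective π ⟨hπi, hπs⟩).symm
    · intro μ hμ
      obtain ⟨ν, -, rfl⟩ := Finset.mem_image.1 hμ
      exact irr_mul_linear hχ (ν.comp (QuotientGroup.mk' K))
    · rw [Finset.sum_image fun a _ b _ e => hFinj e]
      funext g
      rw [Finset.sum_apply]
      simp only [F, ← Finset.mul_sum]
      have hsum := CfsgLib.CTI.sum_linear_conj hab (QuotientGroup.mk g) (1 : L ⧸ K)
      simp only [map_one, Units.val_one, mul_one] at hsum
      rw [hsum]
      by_cases hg : g ∈ K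
      · rw [if_pos ((QuotientGroup.eq_one_iff g).2 hg)]
        have h := congrFun (indFun_restrict (N := K) θ) ⟨g, hg⟩
        simp only [Pi.smul_apply, Finset.sum_apply, hinvg, Finset.sum_const, Finset.card_univ,
          smul_eq_mul, nsmul_eq_mul] at h
        rw [h, show χ g = θ ⟨g, hg⟩ from hext ⟨g, hg⟩]
        rw [Fintype.card_eq_nat_card, Subgroup.card_eq_card_quotient_mul_card_subgroup K]
        have := natCard_ne_zero K
        push_cast
        field_simp
        simp only [Pi.mul_apply, Pi.natCast_apply]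
        ring
      · rw [if_neg fun h => hg ((QuotientGroup.eq_one_iff g).1 h), mul_zero, indFun_apply,
          Finset.sum_eq_zero, mul_zero]
        intro x _
        refine extendByZero_not_mem _ _ fun h => hg ?_
        have := hK.conj_mem _ h x
        simpa [mul_assoc] using this

end Cfsg.Agent.S1513
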