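import Cfsg.Statements.S1514
import Cfsg.Agent.Char.Exceptional
import Cfsg.Agent.S1509

set_option autoImplicit false
open Cfsg

namespace Cfsg.Agent.S1514

/-- Let S be a nonempty set of irreducible characters of the finite group L, closed under complex conjugation and containing no real-valued member, and τ a linear isometry on the integer combinations of S vanishing at 1, with values virtual characters of G vanishing at 1. Then there is a choice R making (S, τ, R) a coherence system. -/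
theorem result {L : Type*} [Group L] [Fintype L] {G : Type*} [Group G] [Fintype G] (S : Set (L → ℂ)) (hS : S.Nonempty) (hirr : ∀ χ ∈ S, Cfsg.IsIrrCharacter L χ) (hconj : ∀ χ ∈ S, Cfsg.conjFun χ ∈ S ∧ Cfsg.conjFun χ ≠ χ) (τ : (L → ℂ) → (G → ℂ)) (hτ : Cfsg.IsLinearIsometryOn (Cfsg.zspanOn S {1}ᶜ) τ) (hτ1 : ∀ α ∈ Cfsg.zspanOn S {1}ᶜ, τ α 1 = 0) : ∃ R : (L → ℂ) → Finset (G → ℂ), Cfsg.IsCoherenceSystem S τ R := by
  classical
  open CfsgLib.Char in
  · have hmem : ∀ χ ∈ S, χ - Cfsg.conjFun χ ∈ Cfsg.zspanOn S {1}ᶜ := fun χ hχ => by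
      refine ⟨sub_mem (Submodule.subset_span hχ) (Submodule.subset_span (hconj χ hχ).1), fun x hx => ?_⟩
      obtain rfl : x = 1 := by simpa using hx
      obtain ⟨d, -, hd⟩ := irr_deg (hirr χ hχ)
      simp [Cfsg.conjFun, hd]
    have horth : ∀ χ ∈ S, ∀ φ ∈ S, χ ≠ φ → Cfsg.classInner χ φ = 0 := fun χ hχ φ hφ hne =>
      irr_inner_ne (hirr χ hχ) (hirr φ hφ) hne
    have hex : ∀ χ ∈ S, ∃ X Y : Cfsg.IrrCharacter G, X ≠ Y ∧ τ (χ - Cfsg.conjFun χ) = (X : G → ℂ) - (Y : G → ℂ) := by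
      intro χ hχ
      refine exists_sub_of_norm_two (hτ.2.2.2 _ (hmem χ hχ)) (hτ1 _ (hmem χ hχ)) ?_
      rw [hτ.2.2.1 _ (hmem χ hχ) _ (hmem χ hχ), classInner_sub_left, classInner_sub_right,
        classInner_sub_right, irr_inner_self (hirr χ hχ), irr_inner_self (hirr _ (hconj χ hχ).1),
        horth χ hχ _ (hconj χ hχ).1 (hconj χ hχ).2.symm, horth _ (hconj χ hχ).1 χ hχ (hconj χ hχ).2]
      norm_num
    haveI : Nonempty (Cfsg.IrrCharacter G) := ⟨⟨_, isIrr_one⟩⟩
    choose! X Y hXY hτe using hex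
    have hXY' : ∀ χ ∈ S, (X χ : G → ℂ) ≠ -(Y χ : G → ℂ) := fun χ hχ e => by
      have := congrFun e 1
      obtain ⟨a, ha, hav⟩ := irr_deg (X χ).2
      obtain ⟨b, hb, hbv⟩ := irr_deg (Y χ).2
      simp only [Pi.neg_apply, hav, hbv] at this
      have : (a : ℂ) + (b : ℂ) = 0 := by linear_combination this
      rw [← Nat.cast_add, Nat.cast_eq_zero] at this; omega
    refine ⟨fun χ => {(X χ : G → ℂ), -(Y χ : G → ℂ)}, ⟨hS, fun χ hχ => isCharacter_of_isIrr (hirr χ hχ),
      fun χ hχ => (hconj χ hχ).1, fun χ hχ => (hconj χ hχ).2, hτ, hτ1, horth, ?_, ?_, ?_, ?_⟩⟩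
    · intro χ hχ α hα β hβ
      have h1 := irr_inner_ne (X χ).2 (Y χ).2 fun e => hXY χ hχ (Subtype.ext e)
      have h2 := irr_inner_ne (Y χ).2 (X χ).2 fun e => hXY χ hχ (Subtype.ext e.symm)
      simp only [Finset.mem_insert, Finset.mem_singleton] at hα hβ
      rcases hα with rfl | rfl <;> rcases hβ with rfl | rfl
      · rw [if_pos rfl, irr_inner_self (X χ).2]
      · rw [classInner_neg_right, h1, neg_zero, if_neg (hXY' χ hχ)]
      · rw [classInner_neg_left, h2, neg_zero, if_neg (hXY' χ hχ).symm]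
      · rw [if_pos rfl, classInner_neg_left, classInner_neg_right, neg_neg, irr_inner_self (Y χ).2]
    · intro χ hχ α hα
      simp only [Finset.mem_insert, Finset.mem_singleton] at hα
      rcases hα with rfl | rfl
      · exact ⟨_, 0, isCharacter_of_isIrr (X χ).2, isCharacter_zero, by simp⟩
      · exact ⟨0, _, isCharacter_zero, isCharacter_of_isIrr (Y χ).2, by simp⟩
    · intro χ hχ
      rw [Finset.sum_pair (hXY' χ hχ), hτe χ hχ, sub_eq_add_neg]
    · intro χ hχ φ hφ h1 h2 α hα β hβ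
      have hcφ : ∀ ψ ∈ S, Cfsg.classInner φ ψ = 0 → Cfsg.classInner (Cfsg.conjFun φ) ψ = 0 ∨ ψ = Cfsg.conjFun φ := by
        intro ψ hψ _
        by_cases e : ψ = Cfsg.conjFun φ
        · exact Or.inr e
        · exact Or.inl (horth _ (hconj φ hφ).1 ψ hψ (Ne.symm e))
      have hcc : ∀ f : L → ℂ, Cfsg.conjFun (Cfsg.conjFun f) = f := fun f => funext fun x => Complex.conj_conj _
      have h3 : Cfsg.classInner (Cfsg.conjFun φ) χ = 0 := (hcφ χ hχ h1).resolve_right fun e => by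
        rw [e, hcc, irr_inner_self (hirr φ hφ)] at h2; exact one_ne_zero h2
      have h4 : Cfsg.classInner (Cfsg.conjFun φ) (Cfsg.conjFun χ) = 0 :=
        (hcφ _ (hconj χ hχ).1 h2).resolve_right fun e => by
        have := congrArg Cfsg.conjFun e
        rw [hcc, hcc] at this
        rw [this, irr_inner_self (hirr φ hφ)] at h1; exact one_ne_zero h1
      have hmix : Cfsg.classInner ((X φ : G → ℂ) - (Y φ : G → ℂ)) (((1 : ℝ) : ℂ) • (X χ : G → ℂ) - ((1 : ℝ) : ℂ) • (Y χ : G → ℂ)) = 0 := by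
        rw [Complex.ofReal_one, one_smul, one_smul, ← hτe φ hφ, ← hτe χ hχ,
          hτ.2.2.1 _ (hmem φ hφ) _ (hmem χ hχ), classInner_sub_left, classInner_sub_right,
          classInner_sub_right, h1, h2, h3, h4]
        simp
      have hone : ∀ ψ ∈ S, (X ψ : G → ℂ) 1 = (Y ψ : G → ℂ) 1 := fun ψ hψ => by
        have := hτ1 _ (hmem ψ hψ)
        rw [hτe ψ hψ] at this
        exact sub_eq_zero.1 this
      obtain ⟨a, b, c, d⟩ := Cfsg.Agent.S1509.result _ _ _ _ (Or.inl (X φ).2) (Or.inl (Y φ).2)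
        (Or.inl (X χ).2) (Or.inl (Y χ).2) 1 1 one_ne_zero one_ne_zero
        (irr_inner_ne (X φ).2 (Y φ).2 fun e => hXY φ hφ (Subtype.ext e))
        (irr_inner_ne (X χ).2 (Y χ).2 fun e => hXY χ hχ (Subtype.ext e)) hmix (hone φ hφ)
        (by simp [hone χ hχ])
      simp only [Finset.mem_insert, Finset.mem_singleton] at hα hβ
      rcases hα with rfl | rfl <;> rcases hβ with rfl | rfl <;>
        simp [classInner_neg_left, classInner_neg_right, a, b, c, d]

end Cfsg.Agent.S1514
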