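import Cfsg.Statements.S1515
import Cfsg.Agent.Char.Orth

set_option autoImplicit false
open Cfsg

namespace Cfsg.Agent.S1515

/-- Let (S, τ, R) be a coherence system from L to G, χ ∈ S, and ψ an integer combination of S with ⟨χ, ψ⟩ = ⟨conj χ, ψ⟩ = 0. Let τ₁ be a linear isometry on the integer combinations of χ − ψ and χ − conj χ, with virtual-character values, agreeing with τ on integer multiples of χ − conj χ. Then the sum over α ∈ R χ of the squared absolute values of ⟨τ₁(χ − ψ), α⟩ is at least ⟨χ, χ⟩; and if ⟨τ₁(χ − ψ), τ₁(χ − ψ)⟩ minus that sum is at least ⟨ψ, ψ⟩, then the sum equals ⟨χ, χ⟩ and every ⟨τ₁(χ − ψ), α⟩ with α ∈ R χ is 0 or 1. -/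
theorem result {L : Type*} [Group L] [Fintype L] {G : Type*} [Group G] [Fintype G] (S : Set (L → ℂ)) (τ : (L → ℂ) → (G → ℂ)) (R : (L → ℂ) → Finset (G → ℂ)) (hS : Cfsg.IsCoherenceSystem S τ R) (χ : L → ℂ) (hχ : χ ∈ S) (ψ : L → ℂ) (hψ : ψ ∈ Cfsg.zspan S) (h1 : Cfsg.classInner χ ψ = 0) (h2 : Cfsg.classInner (Cfsg.conjFun χ) ψ = 0) (τ₁ : (L → ℂ) → (G → ℂ)) (hτ₁ : Cfsg.IsLinearIsometryOn (Cfsg.zspan {χ - ψ, χ - Cfsg.conjFun χ}) τ₁) (hagree : ∀ n : ℤ, τ₁ (n • (χ - Cfsg.conjFun χ)) = τ (n • (χ - Cfsg.conjFun χ))) : (Cfsg.classInner χ χ).re ≤ ∑ α ∈ R χ, ‖Cfsg.classInner (τ₁ (χ - ψ)) α‖ ^ 2 ∧ ((Cfsg.classInner ψ ψ).re ≤ (Cfsg.classInner (τ₁ (χ - ψ)) (τ₁ (χ - ψ))).re - ∑ α ∈ R χ, ‖Cfsg.classInner (τ₁ (χ - ψ)) α‖ ^ 2 → (∑ α ∈ R χ, ‖Cfsg.classInner (τ₁ (χ - ψ)) α‖ ^ 2 = (Cfsg.classInner χ χ).re ∧ ∀ α ∈ R χ, Cfsg.classInner (τ₁ (χ - ψ)) α = 0 ∨ Cfsg.classInner (τ₁ (χ - ψ)) α = 1)) := by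
  classical
  open CfsgLib.Char in
  · obtain ⟨hadd, hsmul, hiso, hgen⟩ := hτ₁
    set ξ := χ - ψ
    set δ := χ - Cfsg.conjFun χ
    have hξ : ξ ∈ Cfsg.zspan {χ - ψ, χ - Cfsg.conjFun χ} := Submodule.subset_span (by simp [ξ])
    have hδ : δ ∈ Cfsg.zspan {χ - ψ, χ - Cfsg.conjFun χ} := Submodule.subset_span (by simp [δ])
    have hc : Cfsg.classInner χ (Cfsg.conjFun χ) = 0 := hS.orthogonal χ hχ _ (hS.conj_mem χ hχ) (hS.conj_ne χ hχ).symm
    have hint : ∀ α ∈ R χ, ∃ z : ℤ, Cfsg.classInner (τ₁ ξ) α = z := by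
      intro α hα
      obtain ⟨a, b, ha, hb, hab⟩ := hgen _ hξ
      obtain ⟨a', b', ha', hb', hab'⟩ := hS.virtual χ hχ α hα
      obtain ⟨n1, e1⟩ := inner_char_char ha ha'
      obtain ⟨n2, e2⟩ := inner_char_char ha hb'
      obtain ⟨n3, e3⟩ := inner_char_char hb ha'
      obtain ⟨n4, e4⟩ := inner_char_char hb hb'
      refine ⟨n1 - n2 - (n3 - n4), ?_⟩
      rw [hab, hab', classInner_sub_left, classInner_sub_right, classInner_sub_right, e1, e2, e3, e4]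
      push_cast; ring
    choose! z hz using hint
    have hsum : ((∑ α ∈ R χ, z α : ℤ) : ℂ) = Cfsg.classInner χ χ := by
      have h := hiso _ hξ _ hδ
      have e1 := hagree 1
      rw [one_smul] at e1
      rw [e1, hS.sum_eq χ hχ, classInner_sum_right, Finset.sum_congr rfl hz] at h
      rw [Int.cast_sum, h]
      have h3 : Cfsg.classInner ψ χ = 0 := by rw [← classInner_conj, h1, map_zero]
      have h4 : Cfsg.classInner ψ (Cfsg.conjFun χ) = 0 := by rw [← classInner_conj, h2, map_zero]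
      simp only [ξ, δ, classInner_sub_left, classInner_sub_right, hc, h3, h4, sub_zero]
    have hnorm : ∑ α ∈ R χ, ‖Cfsg.classInner (τ₁ ξ) α‖ ^ 2 = ((∑ α ∈ R χ, z α ^ 2 : ℤ) : ℝ) := by
      push_cast
      refine Finset.sum_congr rfl fun α hα => ?_
      rw [hz α hα, Complex.norm_intCast, sq_abs]
    have hre : (Cfsg.classInner χ χ).re = ((∑ α ∈ R χ, z α : ℤ) : ℝ) := by
      rw [← hsum, Complex.intCast_re]
    have hle : ∀ α ∈ R χ, z α ≤ z α ^ 2 := fun α _ => Int.le_self_sq _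
    refine ⟨by rw [hnorm, hre]; exact_mod_cast Finset.sum_le_sum hle, fun h => ?_⟩
    have hξn : (Cfsg.classInner (τ₁ ξ) (τ₁ ξ)).re = (Cfsg.classInner χ χ).re + (Cfsg.classInner ψ ψ).re := by
      have h3 : Cfsg.classInner ψ χ = 0 := by rw [← classInner_conj, h1, map_zero]
      rw [hiso _ hξ _ hξ]
      simp only [ξ, classInner_sub_left, classInner_sub_right, h1, h3]
      simp
    rw [hξn, hnorm, hre] at h
    have heq : ∑ α ∈ R χ, z α = ∑ α ∈ R χ, z α ^ 2 :=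
      le_antisymm (Finset.sum_le_sum hle) (by
        have h' : ((∑ α ∈ R χ, z α ^ 2 : ℤ) : ℝ) ≤ ((∑ α ∈ R χ, z α : ℤ) : ℝ) := by linarith
        exact_mod_cast h')
    refine ⟨by rw [hnorm, hre, heq], fun α hα => ?_⟩
    have h01 : z α * (z α - 1) = 0 := by
      have := (Finset.sum_eq_sum_iff_of_le hle).1 heq α hα
      linarith [this]
    rw [hz α hα]
    rcases mul_eq_zero.1 h01 with h | h
    · left; simp [h]
    · right; rw [sub_eq_zero.1 h]; simp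

end Cfsg.Agent.S1515
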