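import Cfsg.Statements.S1516
import Mathlib
import Cfsg.Agent.Char.Coherence
-- import your own Cfsg.Agent.* helpers here

set_option autoImplicit false
open Cfsg

namespace Cfsg.Agent.S1516

open CfsgLib.Char CfsgLib.Coh
open scoped ComplexConjugate

section
variable {G : Type*} [Group G] [Fintype G]

theorem bessel_int {ι : Type*} [Fintype ι] [DecidableEq ι] (f : ι → G → ℂ) (N : ι → ℕ)
    (hN : ∀ i, 0 < N i)
    (horth : ∀ i j, classInner (f i) (f j) = if i = j then (N i : ℂ) else 0)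
    (X : G → ℂ) (c : ι → ℤ) (hc : ∀ i, classInner X (f i) = c i) :
    ∑ i, (c i : ℝ) ^ 2 / (N i : ℝ) ≤ (classInner X X).re := by
  set w : ι → ℂ := fun i => (c i : ℂ) / (N i : ℂ)
  set v : G → ℂ := X - ∑ i, w i • f i with hv
  have hwc : ∀ i, conj (w i) = w i := fun i => by simp [w]
  have hvf : ∀ i, classInner v (f i) = 0 := by
    intro i
    rw [hv, classInner_sub_left, classInner_sum_left, Finset.sum_eq_single i]
    · rw [classInner_smul_left, horth, if_pos rfl, hc]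
      simp only [w]
      rw [div_mul_cancel₀ _ (Nat.cast_ne_zero.2 (hN i).ne'), sub_self]
    · intro j _ hj
      rw [classInner_smul_left, horth, if_neg hj, mul_zero]
    · simp
  have h2 : classInner v v = classInner X X - ((∑ i, (c i : ℝ) ^ 2 / (N i : ℝ) : ℝ) : ℂ) := by
    conv_lhs => arg 2; rw [hv]
    rw [classInner_sub_right, classInner_sum_right, Finset.sum_eq_zero, sub_zero, hv,
      classInner_sub_left, classInner_sum_left, Complex.ofReal_sum]
    · congr 1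
      refine Finset.sum_congr rfl fun i _ => ?_
      rw [classInner_smul_left, ← classInner_conj X (f i), hc, map_intCast]
      simp only [w]
      push_cast
      ring
    · intro i _
      rw [classInner_smul_right, hvf, mul_zero]
  have h3 : 0 ≤ (classInner v v).re := by
    rw [classInner_self_re]
    positivity
  rw [h2, Complex.sub_re, Complex.ofReal_re] at h3
  linarith

theorem inner_zsmul_left (k : ℤ) (a b : G → ℂ) : classInner (k • a) b = (k : ℂ) * classInner a b := by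
  rw [← Int.cast_smul_eq_zsmul ℂ, classInner_smul_left]

theorem inner_zsmul_right (k : ℤ) (a b : G → ℂ) : classInner a (k • b) = (k : ℂ) * classInner a b := by
  rw [← Int.cast_smul_eq_zsmul ℂ, classInner_smul_right, map_intCast]

end

/-- Let (S, τ, R) be a coherence system from L to G with degrees φ 1 = d φ and squared norms ⟨φ, φ⟩ = n φ for φ ∈ S. Let S₁ ⊆ S be a finite subset closed under complex conjugation such that (S₁, L minus 1, τ) is coherent, let χ ∈ S with χ ∉ S₁ and conj χ ∉ S₁, and let χ₁ ∈ S₁ with d χ₁ dividing d χ and 2 d χ d χ₁ < Σ_{φ ∈ S₁} (d φ)² / n φ. Then S₁ together with χ and conj χ is coherent. -/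
theorem result {L : Type*} [Group L] [Fintype L] {G : Type*} [Group G] [Fintype G] (S : Set (L → ℂ)) (τ : (L → ℂ) → (G → ℂ)) (R : (L → ℂ) → Finset (G → ℂ)) (hS : Cfsg.IsCoherenceSystem S τ R) (d n : (L → ℂ) → ℕ) (hd : ∀ φ ∈ S, φ 1 = (d φ : ℂ)) (hn : ∀ φ ∈ S, Cfsg.classInner φ φ = (n φ : ℂ)) (S₁ : Finset (L → ℂ)) (hS₁ : ↑S₁ ⊆ S) (hS₁c : ∀ φ ∈ S₁, Cfsg.conjFun φ ∈ S₁) (hcoh : Cfsg.IsCoherent (↑S₁ : Set (L → ℂ)) {1}ᶜ τ) (χ : L → ℂ) (hχ : χ ∈ S) (hχ₁ : χ ∉ S₁) (hχ₂ : Cfsg.conjFun χ ∉ S₁) (χ₁ : L → ℂ) (hχ₁S : χ₁ ∈ S₁) (hdvd : d χ₁ ∣ d χ) (hineq : (2 * d χ * d χ₁ : ℝ) < ∑ φ ∈ S₁, ((d φ : ℝ) ^ 2 / (n φ : ℝ))) : Cfsg.IsCoherent (↑S₁ ∪ {χ, Cfsg.conjFun χ} : Set (L → ℂ)) {1}ᶜ τ := by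
  classical
  obtain ⟨-, τ₁, hiso, hag⟩ := hcoh
  have hdpos : ∀ φ ∈ S, 0 < d φ := by
    intro φ hφ
    by_contra h0
    have h0' : d φ = 0 := by omega
    refine hS.conj_ne φ hφ ?_
    obtain ⟨m, ρ, hρ⟩ := hS.isCharacter φ hφ
    have h1 : φ 1 = 0 := by rw [hd φ hφ, h0']; simp
    rw [← hρ, Representation.char_one] at h1
    have hm : m = 0 := by simpa using h1
    subst hm
    funext x
    have : φ x = 0 := by
      rw [← hρ, Representation.character, LinearMap.trace_eq_matrix_trace ℂ (Pi.basisFun ℂ (Fin 0))]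
      simp [Matrix.trace]
    simp [conjFun, this]
  have hnpos : ∀ φ ∈ S, 0 < n φ := by
    intro φ hφ
    by_contra h0
    have h0' : n φ = 0 := by omega
    have : φ = 0 := classInner_self_eq_zero (by rw [hn φ hφ, h0', Nat.cast_zero])
    have h1 := hd φ hφ
    rw [congrFun this 1, Pi.zero_apply] at h1
    exact (hdpos φ hφ).ne' (by exact_mod_cast h1.symm)
  have hS1 : ∀ φ ∈ S₁, φ ∈ S := fun φ h => hS₁ h
  have hmz : ∀ φ ∈ S₁, φ ∈ zspan (↑S₁ : Set (L → ℂ)) := fun φ h => mem_zspan h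
  have hχc : conjFun χ ∈ S := hS.conj_mem χ hχ
  have hcc : conjFun (conjFun χ) = χ := funext fun x => by simp [conjFun]
  have hinner0 : ∀ φ ∈ S₁, classInner χ φ = 0 ∧ classInner (conjFun χ) φ = 0 := fun φ hφ =>
    ⟨hS.orthogonal χ hχ φ (hS1 φ hφ) fun e => hχ₁ (e ▸ hφ),
      hS.orthogonal _ hχc φ (hS1 φ hφ) fun e => hχ₂ (e ▸ hφ)⟩
  -- the images of `S₁` are orthogonal to `R χ`
  have hperp : ∀ φ ∈ S₁, ∀ α ∈ R χ, classInner (τ₁ φ) α = 0 := by
    intro φ hφ α hα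
    have hφS := hS1 φ hφ
    have hφc := hS₁c φ hφ
    have hmem : φ - conjFun φ ∈ zspanOn (↑S₁ : Set (L → ℂ)) {1}ᶜ := by
      refine ⟨Submodule.sub_mem _ (hmz φ hφ) (hmz _ hφc), fun x hx => ?_⟩
      obtain rfl : x = 1 := by simpa using hx
      simp [conjFun, hd φ hφS]
    have hsum : τ₁ φ - τ₁ (conjFun φ) = ∑ β ∈ R φ, β := by
      rw [← hS.sum_eq φ hφS, ← hag _ hmem]
      have h := hiso.1 (φ - conjFun φ) hmem.1 (conjFun φ) (hmz _ hφc)
      rw [sub_add_cancel] at h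
      rw [h, add_sub_cancel_right]
    choose z hz using fun β : {β // β ∈ R φ} =>
      inner_int (hiso.2.2.2 φ (hmz φ hφ)) (hS.virtual φ hφS β β.2)
    have hsz : ∑ β : {β // β ∈ R φ}, z β = (n φ : ℤ) := by
      have h : classInner (τ₁ φ) (τ₁ φ - τ₁ (conjFun φ)) = (n φ : ℂ) := by
        rw [classInner_sub_right, hiso.2.2.1 _ (hmz φ hφ) _ (hmz φ hφ),
          hiso.2.2.1 _ (hmz φ hφ) _ (hmz _ hφc), hn φ hφS,
          hS.orthogonal φ hφS _ (hS1 _ hφc) (hS.conj_ne φ hφS).symm, sub_zero]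
      rw [hsum, classInner_sum_right, ← Finset.sum_coe_sort] at h
      rw [Finset.sum_congr rfl fun β _ => hz β] at h
      exact_mod_cast h
    have hb := bessel_int (Sum.elim (fun β : {β // β ∈ R φ} => (β : G → ℂ)) (fun _ : Unit => α))
      (fun _ => 1) (fun _ => one_pos) ?_ (τ₁ φ)
    case refine_1 =>
      have hdis : ∀ β ∈ R φ, classInner β α = 0 := fun β hβ =>
        hS.disjoint χ hχ φ hφS (by rw [← classInner_conj, (hinner0 φ hφ).1, map_zero])
          (by rw [← classInner_conj, (hinner0 φ hφ).2, map_zero]) β hβ α hα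
      rintro (i | i) (j | j)
      · simp only [Sum.elim_inl, Sum.inl.injEq, Nat.cast_one]
        rw [hS.orthonormal φ hφS _ i.2 _ j.2]
        exact if_congr Subtype.coe_inj rfl rfl
      · simp [hdis _ i.2]
      · simp only [Sum.elim_inl, Sum.elim_inr, reduceCtorEq, if_false]
        rw [← classInner_conj, hdis _ j.2, map_zero]
      · simp [hS.orthonormal χ hχ α hα α hα]
    obtain ⟨w, hw⟩ := inner_int (hiso.2.2.2 φ (hmz φ hφ)) (hS.virtual χ hχ α hα)
    have hb' := hb (Sum.elim z (fun _ => w)) (by rintro (i | i); exacts [hz i, hw])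
    simp only [Fintype.sum_sum_type, Sum.elim_inl, Sum.elim_inr, Finset.univ_unique,
      Finset.sum_singleton, Nat.cast_one, div_one] at hb'
    rw [hiso.2.2.1 _ (hmz φ hφ) _ (hmz φ hφ), hn φ hφS, Complex.natCast_re] at hb'
    have hge : (n φ : ℝ) ≤ ∑ β : {β // β ∈ R φ}, (z β : ℝ) ^ 2 := by
      rw [show (n φ : ℝ) = ((∑ β : {β // β ∈ R φ}, z β : ℤ) : ℝ) by rw [hsz]; simp, Int.cast_sum]
      refine Finset.sum_le_sum fun β _ => ?_
      have : z β ≤ z β ^ 2 := Int.le_self_sq _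
      exact_mod_cast this
    have hw0 : (w : ℝ) ^ 2 = 0 := le_antisymm (by linarith) (sq_nonneg _)
    rw [hw]
    simpa using hw0
  -- the image of `χ - a χ₁`
  set a := d χ / d χ₁ with hadef
  have had : a * d χ₁ = d χ := Nat.div_mul_cancel hdvd
  have h1S := hS1 χ₁ hχ₁S
  set v : L → ℂ := χ - (a : ℤ) • χ₁ with hv
  have hvmem : v ∈ zspanOn S {1}ᶜ := by
    refine ⟨Submodule.sub_mem _ (mem_zspan hχ) (Submodule.smul_mem _ _ (mem_zspan h1S)), fun x hx => ?_⟩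
    obtain rfl : x = 1 := by simpa using hx
    simp [hv, hd χ hχ, hd χ₁ h1S, ← had]
  have hmemc : χ - conjFun χ ∈ zspanOn S {1}ᶜ := by
    refine ⟨Submodule.sub_mem _ (mem_zspan hχ) (mem_zspan hχc), fun x hx => ?_⟩
    obtain rfl : x = 1 := by simpa using hx
    simp [conjFun, hd χ hχ]
  set X := τ v with hX
  have hXg : IsGeneralizedCharacter G X := hS.isometry.2.2.2 v hvmem
  have horth : classInner χ (conjFun χ) = 0 := hS.orthogonal χ hχ _ hχc (hS.conj_ne χ hχ).symm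
  have hnc : classInner (conjFun χ) (conjFun χ) = (n χ : ℂ) := by
    rw [show classInner (conjFun χ) (conjFun χ) = conj (classInner χ χ) by
      simp [classInner_def, conjFun, map_mul, map_sum, map_inv₀], hn χ hχ, Complex.conj_natCast]
  have hsR : τ (χ - conjFun χ) = ∑ α ∈ R χ, α := hS.sum_eq χ hχ
  have hXR : classInner X (∑ α ∈ R χ, α) = (n χ : ℂ) := by
    rw [← hsR, hX, hS.isometry.2.2.1 v hvmem _ hmemc, hv, classInner_sub_left, classInner_sub_right,
      classInner_sub_right, hn χ hχ, horth, inner_zsmul_left, inner_zsmul_left,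
      ← classInner_conj χ χ₁, (hinner0 χ₁ hχ₁S).1,
      ← classInner_conj (conjFun χ) χ₁, (hinner0 χ₁ hχ₁S).2]
    simp
  have hXX : classInner X X = (n χ : ℂ) + (a : ℂ) ^ 2 * (n χ₁ : ℂ) := by
    rw [hX, hS.isometry.2.2.1 v hvmem v hvmem, hv, classInner_sub_left, classInner_sub_right,
      classInner_sub_right, hn χ hχ, inner_zsmul_left, inner_zsmul_left, inner_zsmul_right,
      inner_zsmul_right, ← classInner_conj χ χ₁, (hinner0 χ₁ hχ₁S).1, hn χ₁ h1S]
    simp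
    ring
  choose e he using fun φ : {φ // φ ∈ S₁} => inner_int hXg (hiso.2.2.2 φ (hmz φ φ.2))
  set e₁ := e ⟨χ₁, hχ₁S⟩
  have hrel : ∀ φ : {φ // φ ∈ S₁}, (d χ₁ : ℤ) * e φ - (d (φ : L → ℂ) : ℤ) * e₁ =
      -(a : ℤ) * ((d χ₁ : ℤ) * (if (φ : L → ℂ) = χ₁ then (n χ₁ : ℤ) else 0) - (d (φ : L → ℂ) : ℤ) * n χ₁) := by
    intro φ
    have hm := degZero_mem (S := (↑S₁ : Set (L → ℂ))) d (fun ψ hψ => hd ψ (hS1 ψ hψ)) φ.2 hχ₁S
    have hmS := zspanOn_mono hS₁ _ hm
    have hτ' : τ₁ ((d χ₁ : ℤ) • (φ : L → ℂ) - (d (φ : L → ℂ) : ℤ) • χ₁) =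
        (d χ₁ : ℤ) • τ₁ φ - (d (φ : L → ℂ) : ℤ) • τ₁ χ₁ := by
      have h := hiso.1 _ hm.1 ((d (φ : L → ℂ) : ℤ) • χ₁) (Submodule.smul_mem _ _ (hmz _ hχ₁S))
      rw [sub_add_cancel, hiso.2.1 _ (hmz _ φ.2), hiso.2.1 _ (hmz _ hχ₁S)] at h
      rw [h, add_sub_cancel_right]
    have h := hS.isometry.2.2.1 v hvmem _ hmS
    rw [← hag _ hm, hτ', ← hX, classInner_sub_right, inner_zsmul_right, inner_zsmul_right, he φ,
      he ⟨χ₁, hχ₁S⟩, hv, classInner_sub_left, classInner_sub_right, classInner_sub_right] at h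
    simp only [inner_zsmul_right, inner_zsmul_left, (hinner0 _ φ.2).1, (hinner0 _ hχ₁S).1,
      hn χ₁ h1S] at h
    have hφ1 : classInner χ₁ (φ : L → ℂ) = if (φ : L → ℂ) = χ₁ then (n χ₁ : ℂ) else 0 := by
      split_ifs with h'
      · rw [h', hn χ₁ h1S]
      · exact hS.orthogonal _ h1S _ (hS1 _ φ.2) (Ne.symm h')
    rw [hφ1] at h
    have h2 : ((((d χ₁ : ℤ) * e φ - (d (φ : L → ℂ) : ℤ) * e₁ : ℤ)) : ℂ) =
        ((-(a : ℤ) * ((d χ₁ : ℤ) * (if (φ : L → ℂ) = χ₁ then (n χ₁ : ℤ) else 0) - (d (φ : L → ℂ) : ℤ) * n χ₁) : ℤ) : ℂ) := by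
      split_ifs at h ⊢ <;> push_cast at h ⊢ <;> linear_combination h
    exact_mod_cast h2
  choose c hc using fun α : {α // α ∈ R χ} => inner_int hXg (hS.virtual χ hχ α α.2)
  have hsc : ∑ α : {α // α ∈ R χ}, c α = (n χ : ℤ) := by
    have h := hXR
    rw [classInner_sum_right, ← Finset.sum_coe_sort, Finset.sum_congr rfl fun α _ => hc α] at h
    exact_mod_cast h
  -- Bessel
  have hb := bessel_int (Sum.elim (fun α : {α // α ∈ R χ} => (α : G → ℂ))
      (fun φ : {φ // φ ∈ S₁} => τ₁ (φ : L → ℂ)))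
    (Sum.elim (fun _ => 1) (fun φ => n (φ : L → ℂ)))
    (by rintro (i | i); exacts [one_pos, hnpos _ (hS1 _ i.2)]) ?_ X (Sum.elim c e)
    (by rintro (i | i); exacts [hc i, he i])
  case refine_1 =>
    rintro (i | i) (j | j)
    · simp only [Sum.elim_inl, Sum.inl.injEq, Nat.cast_one]
      rw [hS.orthonormal χ hχ _ i.2 _ j.2]
      exact if_congr Subtype.coe_inj rfl rfl
    · simp only [Sum.elim_inl, Sum.elim_inr, reduceCtorEq, if_false]
      rw [← classInner_conj, hperp _ j.2 _ i.2, map_zero]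
    · simp [hperp _ i.2 _ j.2]
    · simp only [Sum.elim_inr, Sum.inr.injEq]
      rw [hiso.2.2.1 _ (hmz _ i.2) _ (hmz _ j.2)]
      split_ifs with h
      · rw [h, hn _ (hS1 _ j.2)]
      · exact hS.orthogonal _ (hS1 _ i.2) _ (hS1 _ j.2) fun h' => h (Subtype.ext h')
  simp only [Fintype.sum_sum_type, Sum.elim_inl, Sum.elim_inr, Nat.cast_one, div_one] at hb
  rw [hXX, Complex.add_re, Complex.natCast_re, show ((a : ℂ) ^ 2 * (n χ₁ : ℂ)).re = (a : ℝ) ^ 2 * n χ₁ by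
    norm_cast] at hb
  set x : ℝ := ((e₁ + a * n χ₁ : ℤ) : ℝ) / (d χ₁ : ℝ) with hxdef
  have hd1 : (0 : ℝ) < d χ₁ := Nat.cast_pos.2 (hdpos χ₁ h1S)
  have hd1' : (d χ₁ : ℝ) ≠ 0 := hd1.ne'
  have heφ : ∀ φ : {φ // φ ∈ S₁}, (e φ : ℝ) =
      x * d (φ : L → ℂ) - (if (φ : L → ℂ) = χ₁ then (a : ℝ) * n χ₁ else 0) := by
    intro φ
    have h := congrArg (Int.cast (R := ℝ)) (hrel φ)
    rw [hxdef]
    field_simp
    split_ifs at h ⊢ <;> push_cast at h ⊢ <;> linear_combination h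
  set D : ℝ := ∑ φ ∈ S₁, (d φ : ℝ) ^ 2 / (n φ : ℝ)
  have hsume : ∑ φ : {φ // φ ∈ S₁}, (e φ : ℝ) ^ 2 / (n (φ : L → ℂ) : ℝ) =
      x ^ 2 * D - 2 * x * a * d χ₁ + (a : ℝ) ^ 2 * n χ₁ := by
    have hn1 : (n χ₁ : ℝ) ≠ 0 := Nat.cast_ne_zero.2 (hnpos _ h1S).ne'
    rw [Finset.sum_congr rfl fun φ _ => by rw [heφ φ]]
    rw [Finset.sum_coe_sort S₁ (fun φ => (x * d φ - (if φ = χ₁ then (a : ℝ) * n χ₁ else 0)) ^ 2 / (n φ : ℝ))]
    have hterm : ∀ φ : L → ℂ, (x * d φ - (if φ = χ₁ then (a : ℝ) * n χ₁ else 0)) ^ 2 / (n φ : ℝ) =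
        x ^ 2 * ((d φ : ℝ) ^ 2 / n φ) + (if φ = χ₁ then -(2 * x * a * d χ₁) + (a : ℝ) ^ 2 * n χ₁ else 0) := by
      intro φ
      split_ifs with h
      · subst h; field_simp; ring
      · simp; ring
    rw [Finset.sum_congr rfl fun φ _ => hterm φ, Finset.sum_add_distrib, ← Finset.mul_sum,
      Finset.sum_ite_eq', if_pos hχ₁S]
    ring
  have hcge : (n χ : ℝ) ≤ ∑ α : {α // α ∈ R χ}, (c α : ℝ) ^ 2 := by
    rw [show (n χ : ℝ) = ((∑ α : {α // α ∈ R χ}, c α : ℤ) : ℝ) by rw [hsc]; simp, Int.cast_sum]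
    refine Finset.sum_le_sum fun α _ => ?_
    have : c α ≤ c α ^ 2 := Int.le_self_sq _
    exact_mod_cast this
  have hx0 : e₁ + a * n χ₁ = 0 := by
    by_contra hne
    have h1 : (1 : ℝ) ≤ |((e₁ + a * n χ₁ : ℤ) : ℝ)| := by
      rw [← Int.cast_abs]; exact_mod_cast Int.one_le_abs hne
    have hx1 : 1 ≤ |x| * d χ₁ := by
      rw [hxdef, abs_div, abs_of_pos hd1, div_mul_cancel₀ _ hd1']; exact h1
    have hxpos : 0 < |x| := by
      rcases (abs_nonneg x).lt_or_eq with h | h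
      · exact h
      · rw [← h] at hx1; norm_num at hx1
    have hD : 0 < |x| * D - 2 * ((a : ℝ) * d χ₁) := by
      have had' : (a : ℝ) * d χ₁ = d χ := by exact_mod_cast had
      rw [had']
      have h2 : D ≤ |x| * D * d χ₁ := by
        nlinarith [mul_nonneg (sub_nonneg.2 hx1) (show 0 ≤ D from Finset.sum_nonneg fun _ _ => by positivity)]
      have h3 : 2 * (d χ : ℝ) * d χ₁ < |x| * D * d χ₁ := lt_of_lt_of_le hineq h2
      have := lt_of_mul_lt_mul_right h3 hd1.le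
      linarith
    have p1 := mul_pos hxpos hD
    have p2 : x ^ 2 * D = |x| * (|x| * D) := by rw [← mul_assoc, abs_mul_abs_self]; ring
    have p3 := mul_le_mul_of_nonneg_right (le_abs_self x) (show 0 ≤ 2 * (a : ℝ) * d χ₁ by positivity)
    rw [hsume] at hb
    linarith
  have he0 : ∀ φ : {φ // φ ∈ S₁}, classInner X (τ₁ (φ : L → ℂ)) + (a : ℂ) * classInner (τ₁ χ₁) (τ₁ (φ : L → ℂ)) = 0 := by
    intro φ
    have hxz : x = 0 := by rw [hxdef, hx0]; simp
    have h := heφ φ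
    rw [hxz, zero_mul, zero_sub] at h
    rw [he φ, hiso.2.2.1 _ (hmz _ hχ₁S) _ (hmz _ φ.2)]
    split_ifs at h with h'
    · rw [h', hn _ h1S]
      have h'' : e φ = -((a * n χ₁ : ℕ) : ℤ) := by
        have : (e φ : ℝ) = ((-((a * n χ₁ : ℕ) : ℤ) : ℤ) : ℝ) := by rw [h]; push_cast; ring
        exact_mod_cast this
      rw [h'']; push_cast; ring
    · rw [hS.orthogonal _ h1S _ (hS1 _ φ.2) (Ne.symm h')]
      have h'' : e φ = 0 := by
        have : (e φ : ℝ) = 0 := by rw [h]; simp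
        exact_mod_cast this
      rw [h'']; simp
  -- the extension
  set U : G → ℂ := X + (a : ℤ) • τ₁ χ₁ with hU
  set SR : G → ℂ := ∑ α ∈ R χ, α with hSR
  have hperp' : ∀ φ ∈ S₁, classInner (τ₁ φ) SR = 0 := fun φ hφ => by
    rw [hSR, classInner_sum_right]; exact Finset.sum_eq_zero fun α hα => hperp φ hφ α hα
  have hUS : ∀ φ ∈ S₁, classInner U (τ₁ φ) = 0 := fun φ hφ => by
    rw [hU, classInner_add_left, inner_zsmul_left]
    push_cast
    exact he0 ⟨φ, hφ⟩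
  have hUR : classInner U SR = (n χ : ℂ) := by
    rw [hU, classInner_add_left, inner_zsmul_left, hperp' _ hχ₁S, hXR]; simp
  have hRR : classInner SR SR = 2 * (n χ : ℂ) := by
    rw [← hsR, hS.isometry.2.2.1 _ hmemc _ hmemc, classInner_sub_left, classInner_sub_right,
      classInner_sub_right, hn χ hχ, horth, hnc, ← classInner_conj χ (conjFun χ), horth, map_zero]
    ring
  have hUU : classInner U U = (n χ : ℂ) := by
    have h := he0 ⟨χ₁, hχ₁S⟩
    rw [hiso.2.2.1 _ (hmz _ hχ₁S) _ (hmz _ hχ₁S), hn _ h1S] at h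
    have hX1 : classInner X (τ₁ χ₁) = -((a : ℂ) * n χ₁) := eq_neg_of_add_eq_zero_left h
    rw [hU, classInner_add_left, classInner_add_right, classInner_add_right, inner_zsmul_left,
      inner_zsmul_left, inner_zsmul_right, inner_zsmul_right, hXX, hX1, ← classInner_conj X (τ₁ χ₁), hX1,
      hiso.2.2.1 _ (hmz _ hχ₁S) _ (hmz _ hχ₁S), hn _ h1S]
    simp only [map_neg, map_mul, Complex.conj_natCast, Int.cast_natCast]
    ring
  have hne : conjFun χ ≠ χ := hS.conj_ne χ hχ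
  let T : (L → ℂ) → (G → ℂ) := fun φ => if φ = χ then U else if φ = conjFun χ then U - SR else τ₁ φ
  have hTχ : T χ = U := if_pos rfl
  have hTc : T (conjFun χ) = U - SR := by simp [T, hne]
  have hT1 : ∀ φ ∈ S₁, T φ = τ₁ φ := fun φ hφ => by
    simp only [T]
    rw [if_neg fun e : φ = χ => hχ₁ (e ▸ hφ), if_neg fun e : φ = conjFun χ => hχ₂ (e ▸ hφ)]
  set S' : Finset (L → ℂ) := insert χ (insert (conjFun χ) S₁) with hS'
  have hset : (↑S₁ ∪ {χ, conjFun χ} : Set (L → ℂ)) = (↑S' : Set (L → ℂ)) := by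
    ext φ; simp [hS']
  have hsub : (↑S' : Set (L → ℂ)) ⊆ S := by
    intro φ hφ
    simp only [hS', Finset.coe_insert, Set.mem_insert_iff, Finset.mem_coe] at hφ
    rcases hφ with rfl | rfl | h
    exacts [hχ, hχc, hS1 _ h]
  have hcase : ∀ φ ∈ S', φ = χ ∨ φ = conjFun χ ∨ φ ∈ S₁ := fun φ hφ => by
    simpa [hS'] using hφ
  rw [hset]
  have hUg : IsGeneralizedCharacter G U := by
    rw [hU, show X + (a : ℤ) • τ₁ χ₁ = X - (-(a : ℤ)) • τ₁ χ₁ by rw [neg_smul, sub_neg_eq_add]]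
    exact gen_sub hXg (gen_zsmul (hiso.2.2.2 _ (hmz _ hχ₁S)) _)
  have hRg : IsGeneralizedCharacter G SR := by
    rw [← hsR]; exact hS.isometry.2.2.2 _ hmemc
  refine coherent_of_family S' d (fun φ hφ => hd φ (hsub hφ))
    (fun φ hφ ψ hψ h => hS.orthogonal φ (hsub hφ) ψ (hsub hψ) h)
    (fun φ hφ => by rw [hn φ (hsub hφ)]; exact Nat.cast_ne_zero.2 (hnpos φ (hsub hφ)).ne')
    (CfsgLib.Coh.isometry_mono (zspanOn_mono hsub _) hS.isometry) χ₁ (by simp [hS', hχ₁S]) (hdpos _ h1S) T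
    ?_ ?_ ?_ ?_
  · intro φ hφ
    rcases hcase φ hφ with rfl | rfl | h
    · rw [hTχ]; exact hUg
    · rw [hTc]; exact gen_sub hUg hRg
    · rw [hT1 φ h]; exact hiso.2.2.2 _ (hmz _ h)
  · have hsym : ∀ φ ψ : L → ℂ, classInner (T φ) (T ψ) = classInner φ ψ →
        classInner (T ψ) (T φ) = classInner ψ φ := fun φ ψ h => by
      rw [← classInner_conj (T φ) (T ψ), h, classInner_conj]
    have k1 : classInner (T χ) (T χ) = classInner χ χ := by rw [hTχ, hUU, hn χ hχ]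
    have k2 : classInner (T χ) (T (conjFun χ)) = classInner χ (conjFun χ) := by
      rw [hTχ, hTc, classInner_sub_right, hUU, hUR, horth, sub_self]
    have k3 : classInner (T (conjFun χ)) (T (conjFun χ)) = classInner (conjFun χ) (conjFun χ) := by
      rw [hTc, hnc, classInner_sub_left, classInner_sub_right, classInner_sub_right, hUU, hUR, hRR,
        ← classInner_conj U SR, hUR, Complex.conj_natCast]
      ring
    have k4 : ∀ φ ∈ S₁, classInner (T χ) (T φ) = classInner χ φ := fun φ h => by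
      rw [hTχ, hT1 φ h, hUS φ h, (hinner0 φ h).1]
    have k5 : ∀ φ ∈ S₁, classInner (T (conjFun χ)) (T φ) = classInner (conjFun χ) φ := fun φ h => by
      rw [hTc, hT1 φ h, classInner_sub_left, hUS φ h, ← classInner_conj (τ₁ φ) SR, hperp' φ h, map_zero,
        sub_zero, (hinner0 φ h).2]
    intro φ hφ ψ hψ
    rcases hcase φ hφ with rfl | rfl | h <;> rcases hcase ψ hψ with h' | h' | h'
    · subst h'; exact k1
    · subst h'; exact k2
    · exact k4 ψ h'
    · subst h'; exact hsym _ _ k2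
    · subst h'; exact k3
    · exact k5 ψ h'
    · subst h'; exact hsym _ _ (k4 φ h)
    · subst h'; exact hsym _ _ (k5 φ h)
    · rw [hT1 φ h, hT1 ψ h']; exact hiso.2.2.1 _ (hmz _ h) _ (hmz _ h')
  · intro φ hφ
    have hkey : τ ((d χ₁ : ℤ) • v) = (d χ₁ : ℤ) • U - (d χ : ℤ) • τ₁ χ₁ := by
      rw [hS.isometry.2.1 v hvmem, ← hX, hU, smul_add, smul_smul, ← Nat.cast_mul, mul_comm (d χ₁),
        had, add_sub_cancel_right]
    rw [show T χ₁ = τ₁ χ₁ from hT1 _ hχ₁S]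
    rcases hcase φ hφ with rfl | rfl | h
    · rw [hTχ, show (d χ₁ : ℤ) • φ - (d φ : ℤ) • χ₁ = (d χ₁ : ℤ) • v by
        rw [hv, smul_sub, smul_smul, ← Nat.cast_mul, mul_comm (d χ₁), had], hkey]
    · have hdc : d (conjFun χ) = d χ := by
        have := hd _ hχc
        simp only [conjFun, hd χ hχ, Complex.conj_natCast] at this
        exact_mod_cast this.symm
      rw [hTc, hdc, show (d χ₁ : ℤ) • conjFun χ - (d χ : ℤ) • χ₁ =
        (d χ₁ : ℤ) • v + (-(d χ₁ : ℤ)) • (χ - conjFun χ) by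
          rw [hv, smul_sub, smul_smul, ← Nat.cast_mul, mul_comm (d χ₁), had]; module,
        hS.isometry.1 _ (zspanOn_smul hvmem _) _ (zspanOn_smul hmemc _), hkey,
        hS.isometry.2.1 _ hmemc, hsR]
      module
    · have hm := degZero_mem (S := (↑S₁ : Set (L → ℂ))) d (fun ψ hψ => hd ψ (hS1 ψ hψ)) h hχ₁S
      rw [hT1 φ h, ← hag _ hm]
      have h2 := hiso.1 _ hm.1 ((d φ : ℤ) • χ₁) (Submodule.smul_mem _ _ (hmz _ hχ₁S))
      rw [sub_add_cancel, hiso.2.1 _ (hmz _ h), hiso.2.1 _ (hmz _ hχ₁S)] at h2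
      rw [h2, add_sub_cancel_right]
  · refine ⟨χ - conjFun χ, ⟨Submodule.sub_mem _ (mem_zspan (by simp [hS'])) (mem_zspan (by simp [hS'])),
      hmemc.2⟩, sub_ne_zero.2 hne.symm⟩

end Cfsg.Agent.S1516
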