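import Cfsg.Statements.S1517
import Cfsg.Agent.Char.Coherence
import Cfsg.Agent.Char.Clifford
import Cfsg.Agent.S1515

set_option autoImplicit false
open Cfsg

namespace Cfsg.Agent.S1517
open CfsgLib.Char CfsgLib.Coh
open scoped ComplexConjugate

universe u v

variable {G : Type v} [Group G] [Fintype G]

open Classical in
theorem inner_subsum {B : Finset (G → ℂ)}
    (hB : ∀ α ∈ B, ∀ β ∈ B, classInner α β = if α = β then 1 else 0) {A : Finset (G → ℂ)} (hA : A ⊆ B) :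
    classInner (∑ β ∈ B, β) (∑ α ∈ A, α) = (A.card : ℂ) ∧ classInner (∑ α ∈ A, α) (∑ β ∈ B, β) = (A.card : ℂ) ∧
      classInner (∑ α ∈ A, α) (∑ α ∈ A, α) = (A.card : ℂ) := by
  have key : ∀ S T : Finset (G → ℂ), S ⊆ B → T ⊆ B →
      classInner (∑ β ∈ S, β) (∑ α ∈ T, α) = ((S ∩ T).card : ℂ) := by
    intro S T hS hT
    rw [classInner_sum_left, Finset.sum_congr rfl fun β hβ => classInner_sum_right T (fun α => α) β]
    have e : ∀ β ∈ S, ∀ α ∈ T, classInner β α = if β = α then (1 : ℂ) else 0 :=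
      fun β hβ α hα => hB β (hS hβ) α (hT hα)
    rw [Finset.sum_congr rfl fun β hβ => Finset.sum_congr rfl fun α hα => e β hβ α hα]
    simp [Finset.sum_ite_eq, Finset.sum_ite_mem]
  refine ⟨?_, ?_, ?_⟩
  · rw [key B A subset_rfl hA, Finset.inter_eq_right.2 hA]
  · rw [key A B hA subset_rfl, Finset.inter_eq_left.2 hA]
  · rw [key A A hA hA, Finset.inter_self]

open Classical in
/-- Bessel, with the case of equality. -/
theorem bessel {B : Finset (G → ℂ)}
    (hB : ∀ α ∈ B, ∀ β ∈ B, classInner α β = if α = β then 1 else 0) (v : G → ℂ) :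
    ∑ β ∈ B, ‖classInner v β‖ ^ 2 ≤ (classInner v v).re ∧
      (∑ β ∈ B, ‖classInner v β‖ ^ 2 = (classInner v v).re → v = ∑ β ∈ B, classInner v β • β) := by
  have h1 : ∀ β ∈ B, classInner (∑ α ∈ B, classInner v α • α) β = classInner v β := by
    intro β hβ
    rw [classInner_sum_left, Finset.sum_eq_single β]
    · rw [classInner_smul_left, hB β hβ β hβ, if_pos rfl, mul_one]
    · intro α hα hne
      rw [classInner_smul_left, hB α hα β hβ, if_neg hne, mul_zero]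
    · exact fun h => absurd hβ h
  have hw : ∀ β ∈ B, classInner (v - ∑ α ∈ B, classInner v α • α) β = 0 := by
    intro β hβ
    rw [classInner_sub_left, h1 β hβ, sub_self]
  have h2 : classInner (v - ∑ α ∈ B, classInner v α • α) (v - ∑ α ∈ B, classInner v α • α) =
      classInner v v - ((∑ β ∈ B, ‖classInner v β‖ ^ 2 : ℝ) : ℂ) := by
    rw [classInner_sub_right (v - ∑ α ∈ B, classInner v α • α), classInner_sum_right,
      Finset.sum_eq_zero (s := B) (f := fun β => classInner (v - ∑ α ∈ B, classInner v α • α) (classInner v β • β))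
        (fun β hβ => by rw [classInner_smul_right, hw β hβ, mul_zero]), sub_zero,
      classInner_sub_left, classInner_sum_left, Complex.ofReal_sum]
    congr 1
    refine Finset.sum_congr rfl fun β hβ => ?_
    rw [classInner_smul_left, ← classInner_conj v β, Complex.mul_conj']
    push_cast
    rfl
  have h3 : 0 ≤ (classInner (v - ∑ α ∈ B, classInner v α • α) (v - ∑ α ∈ B, classInner v α • α)).re := by
    rw [classInner_self_re]
    positivity
  refine ⟨?_, fun h => ?_⟩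
  · rw [h2, Complex.sub_re, Complex.ofReal_re] at h3
    linarith
  · have h4 : classInner (v - ∑ α ∈ B, classInner v α • α) (v - ∑ α ∈ B, classInner v α • α) = 0 := by
      refine Complex.ext ?_ ?_
      · rw [h2, Complex.sub_re, Complex.ofReal_re, h, sub_self, Complex.zero_re]
      · rw [Complex.zero_im]
        exact Complex.conj_eq_iff_im.1 (classInner_conj _ _)
    exact sub_eq_zero.1 (classInner_self_eq_zero h4)

theorem gen_sum {B : Finset (G → ℂ)} (h : ∀ β ∈ B, IsGeneralizedCharacter G β) :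
    IsGeneralizedCharacter G (∑ β ∈ B, β) := by
  refine Finset.sum_induction _ (IsGeneralizedCharacter G) ?_ ⟨0, 0, isCharacter_zero, isCharacter_zero, by simp⟩ h
  rintro _ _ ⟨x, y, hx, hy, rfl⟩ ⟨x', y', hx', hy', rfl⟩
  exact ⟨x + x', y + y', isCharacter_add hx hx', isCharacter_add hy hy', by abel⟩

theorem finite_of_orth {L : Type*} [Group L] [Fintype L] (S : Set (L → ℂ))
    (h0 : ∀ φ ∈ S, classInner φ φ ≠ 0) (h : ∀ φ ∈ S, ∀ ψ ∈ S, φ ≠ ψ → classInner φ ψ = 0) : S.Finite := by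
  have hli : LinearIndependent ℂ (fun φ : S => (φ : L → ℂ)) := by
    rw [linearIndependent_iff']
    intro s g hg i hi
    have := congrArg (fun f => classInner f (i : L → ℂ)) hg
    simp only [classInner_sum_left, classInner_smul_left, classInner_zero_left] at this
    rw [Finset.sum_eq_single i] at this
    · exact (mul_eq_zero.1 this).resolve_right (h0 i i.2)
    · intro j hj hne
      rw [h j j.2 i i.2 (fun e => hne (Subtype.ext e)), mul_zero]
    · exact fun hn => absurd hi hn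
  exact Set.finite_coe_iff.1 hli.finite



/-- Let (S, τ, R) be a coherence system from L to G such that φ 1 = ψ 1 for all φ, ψ ∈ S. Then (S, L minus 1, τ) is coherent. -/
theorem result {L : Type*} [Group L] [Fintype L] {G : Type*} [Group G] [Fintype G] (S : Set (L → ℂ)) (τ : (L → ℂ) → (G → ℂ)) (R : (L → ℂ) → Finset (G → ℂ)) (hS : Cfsg.IsCoherenceSystem S τ R) (hdeg : ∀ φ ∈ S, ∀ ψ ∈ S, φ 1 = ψ 1) : Cfsg.IsCoherent S {1}ᶜ τ := by
  classical
  obtain ⟨hadd, hsmul, hiso, hgenτ⟩ := hS.isometry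
  have hnat : ∀ χ ∈ S, ∃ n : ℕ, classInner χ χ = n := fun χ hχ => inner_char_char (hS.isCharacter χ hχ) (hS.isCharacter χ hχ)
  have hn0 : ∀ χ ∈ S, classInner χ χ ≠ 0 := fun χ hχ h => hS.conj_ne χ hχ (by
    rw [classInner_self_eq_zero h]; funext x; simp [Cfsg.conjFun])
  obtain ⟨χ1, hχ1⟩ := hS.nonempty
  obtain ⟨d, hd⟩ := charDegree_aux (hS.isCharacter χ1 hχ1)
  have hd1 : 0 < d := by
    rcases Nat.eq_zero_or_pos d with rfl | hd0
    · exfalso
      rw [Nat.cast_zero, char_eq_zero_iff (hS.isCharacter χ1 hχ1)] at hd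
      exact hn0 χ1 hχ1 (by rw [hd, classInner_zero_left])
    · exact hd0
  have hdd : ∀ φ ∈ S, φ 1 = (d : ℂ) := fun φ hφ => (hdeg φ hφ χ1 hχ1).trans hd
  have hdiff : ∀ φ ∈ S, ∀ ψ ∈ S, φ - ψ ∈ zspanOn S {1}ᶜ := fun φ hφ ψ hψ =>
    ⟨Submodule.sub_mem _ (mem_zspan hφ) (mem_zspan hψ), fun x hx => by
      obtain rfl : x = 1 := by simpa using hx
      simp [hdd φ hφ, hdd ψ hψ]⟩
  have hc : Cfsg.conjFun χ1 ∈ S := hS.conj_mem χ1 hχ1
  have hcc : ∀ f : L → ℂ, Cfsg.conjFun (Cfsg.conjFun f) = f := fun f => by funext x; simp [Cfsg.conjFun]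
  have hconjn : ∀ χ : L → ℂ, classInner (Cfsg.conjFun χ) (Cfsg.conjFun χ) = conj (classInner χ χ) := by
    intro χ
    simp [classInner_def, Cfsg.conjFun, map_sum]
  have horth0 : ∀ φ ∈ S, ∀ ψ ∈ S, classInner φ ψ = if φ = ψ then classInner φ φ else 0 := by
    intro φ hφ ψ hψ
    rcases eq_or_ne φ ψ with rfl | hne
    · rw [if_pos rfl]
    · rw [if_neg hne, hS.orthogonal φ hφ ψ hψ hne]
  obtain ⟨n, hn⟩ := hnat χ1 hχ1
  have hRcard : (R χ1).card = 2 * n := by
    have h := hiso _ (hdiff χ1 hχ1 _ hc) _ (hdiff χ1 hχ1 _ hc)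
    rw [hS.sum_eq χ1 hχ1, (inner_subsum (hS.orthonormal χ1 hχ1) subset_rfl).1] at h
    rw [classInner_sub_left, classInner_sub_right, classInner_sub_right,
      hS.orthogonal χ1 hχ1 _ hc (hS.conj_ne χ1 hχ1).symm, hS.orthogonal _ hc χ1 hχ1 (hS.conj_ne χ1 hχ1),
      hconjn, hn] at h
    have h' : ((R χ1).card : ℂ) = ((2 * n : ℕ) : ℂ) := by rw [h]; simp; ring
    exact_mod_cast h'
  -- the set of chosen constituents
  obtain ⟨A, hA, hAn, hkey⟩ : ∃ A ⊆ R χ1, A.card = n ∧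
      ∀ φ ∈ S, φ ≠ χ1 → classInner (τ (χ1 - φ)) (∑ α ∈ A, α) = (n : ℂ) := by
    by_cases hψ : ∃ ψ ∈ S, ψ ≠ χ1 ∧ ψ ≠ Cfsg.conjFun χ1
    swap
    · obtain ⟨A, hA, hAn⟩ := Finset.exists_subset_card_eq (s := R χ1) (n := n) (by omega)
      refine ⟨A, hA, hAn, fun φ hφ hne => ?_⟩
      obtain rfl : φ = Cfsg.conjFun χ1 := by
        by_contra h
        exact hψ ⟨φ, hφ, hne, h⟩
      rw [hS.sum_eq χ1 hχ1, (inner_subsum (hS.orthonormal χ1 hχ1) hA).1, hAn]
    obtain ⟨ψ0, hψ0, hψ0a, hψ0b⟩ := hψ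
    have step : ∀ ψ ∈ S, ψ ≠ χ1 → ψ ≠ Cfsg.conjFun χ1 →
        (∀ α ∈ R χ1, classInner (τ (χ1 - ψ)) α = 0 ∨ classInner (τ (χ1 - ψ)) α = 1) ∧
        ∑ α ∈ R χ1, ‖classInner (τ (χ1 - ψ)) α‖ ^ 2 = (n : ℝ) ∧
        ∃ W : G → ℂ, τ (χ1 - ψ) = (∑ α ∈ R χ1 with classInner (τ (χ1 - ψ)) α = 1, α) + W ∧
          ∀ γ : G → ℂ, (∀ β ∈ R ψ, classInner β γ = 0) → classInner W γ = 0 := by
      intro ψ hψ ha hb
      have e1 : classInner χ1 ψ = 0 := hS.orthogonal χ1 hχ1 ψ hψ ha.symm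
      have e2 : classInner (Cfsg.conjFun χ1) ψ = 0 := hS.orthogonal _ hc ψ hψ hb.symm
      have e3 : classInner ψ χ1 = 0 := hS.orthogonal ψ hψ χ1 hχ1 ha
      have e4 : classInner (Cfsg.conjFun ψ) χ1 = 0 :=
        hS.orthogonal _ (hS.conj_mem ψ hψ) χ1 hχ1 (fun h => hb (by rw [← h, hcc]))
      have hsub : ∀ χ ∈ S, ∀ φ ∈ S, zspan {χ - φ, χ - Cfsg.conjFun χ} ⊆ zspanOn S {1}ᶜ := by
        intro χ hχ φ hφ α hα
        obtain ⟨a, b, rfl⟩ := Submodule.mem_span_pair.1 hα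
        exact zspanOn_add (zspanOn_smul (hdiff χ hχ φ hφ) a) (zspanOn_smul (hdiff χ hχ _ (hS.conj_mem χ hχ)) b)
      have hA1 := Cfsg.Agent.S1515.result S τ R hS χ1 hχ1 ψ (mem_zspan hψ) e1 e2 τ
        (isometry_mono (hsub χ1 hχ1 ψ hψ) hS.isometry) (fun _ => rfl)
      have hB1 := (Cfsg.Agent.S1515.result S τ R hS ψ hψ χ1 (mem_zspan hχ1) e3 e4 τ
        (isometry_mono (hsub ψ hψ χ1 hχ1) hS.isometry) (fun _ => rfl)).1
      have hneg : τ (ψ - χ1) = - τ (χ1 - ψ) := by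
        rw [show ψ - χ1 = (-1 : ℤ) • (χ1 - ψ) by simp, hsmul _ (hdiff χ1 hχ1 ψ hψ)]
        simp
      simp only [hneg, classInner_neg_left, norm_neg] at hB1
      have hdis : ∀ α ∈ R χ1, ∀ β ∈ R ψ, classInner α β = 0 :=
        hS.disjoint ψ hψ χ1 hχ1 e1 (hS.orthogonal χ1 hχ1 _ (hS.conj_mem ψ hψ) (fun h => hb (by rw [h, hcc])))
      have hdis' : ∀ α ∈ R χ1, ∀ β ∈ R ψ, classInner β α = 0 := fun α hα β hβ => by
        rw [← classInner_conj, hdis α hα β hβ, map_zero]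
      have hd' : Disjoint (R χ1) (R ψ) := Finset.disjoint_left.2 fun α hα hα' => by
        have := hdis α hα α hα'
        rw [hS.orthonormal χ1 hχ1 α hα α hα, if_pos rfl] at this
        exact one_ne_zero this
      have hBon : ∀ α ∈ R χ1 ∪ R ψ, ∀ β ∈ R χ1 ∪ R ψ, classInner α β = if α = β then 1 else 0 := by
        intro α hα β hβ
        rcases Finset.mem_union.1 hα with hα | hα <;> rcases Finset.mem_union.1 hβ with hβ | hβ
        · exact hS.orthonormal χ1 hχ1 α hα β hβ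
        · rw [hdis α hα β hβ, if_neg (fun (e : α = β) => Finset.disjoint_left.1 hd' hα (e ▸ hβ))]
        · rw [hdis' β hβ α hα, if_neg (fun (e : α = β) => Finset.disjoint_left.1 hd' hβ (e ▸ hα))]
        · exact hS.orthonormal ψ hψ α hα β hβ
      obtain ⟨hle, heq⟩ := bessel hBon (τ (χ1 - ψ))
      rw [Finset.sum_union hd'] at hle heq
      have hv : (classInner (τ (χ1 - ψ)) (τ (χ1 - ψ))).re = (classInner χ1 χ1).re + (classInner ψ ψ).re := by
        rw [hiso _ (hdiff χ1 hχ1 ψ hψ) _ (hdiff χ1 hχ1 ψ hψ)]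
        simp [classInner_sub_left, classInner_sub_right, e1, e3]
      obtain ⟨hsq, h01⟩ := hA1.2 (by linarith)
      have hn' : (classInner χ1 χ1).re = (n : ℝ) := by rw [hn, Complex.natCast_re]
      refine ⟨h01, hsq.trans hn', ∑ β ∈ R ψ, classInner (τ (χ1 - ψ)) β • β, ?_, ?_⟩
      · have h5 := heq (by linarith)
        rw [Finset.sum_union hd'] at h5
        rw [Finset.sum_filter]
        refine h5.trans (congrArg₂ (· + ·) (Finset.sum_congr rfl fun α hα => ?_) rfl)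
        rcases h01 α hα with h | h <;> simp [h]
      · intro γ hγ
        rw [classInner_sum_left]
        exact Finset.sum_eq_zero fun β hβ => by rw [classInner_smul_left, hγ β hβ, mul_zero]
    obtain ⟨h01, hsum, W0, hW0, hW0o⟩ := step ψ0 hψ0 hψ0a hψ0b
    have hAn : ((R χ1).filter fun α => classInner (τ (χ1 - ψ0)) α = 1).card = n := by
      have h : (((R χ1).filter fun α => classInner (τ (χ1 - ψ0)) α = 1).card : ℝ) = (n : ℝ) := by
        rw [← hsum, Finset.card_filter, Nat.cast_sum]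
        refine Finset.sum_congr rfl fun α hα => ?_
        rcases h01 α hα with h | h <;> simp [h]
      exact_mod_cast h
    set A := (R χ1).filter fun α => classInner (τ (χ1 - ψ0)) α = 1 with hAdef
    have hAsub : A ⊆ R χ1 := Finset.filter_subset _ _
    refine ⟨A, hAsub, hAn, ?_⟩
    have hR : ∀ φ ∈ S, φ ≠ χ1 → φ ≠ Cfsg.conjFun χ1 → ∀ β ∈ R φ, ∀ α ∈ R χ1, classInner β α = 0 := by
      intro φ hφ h1 h2
      exact hS.disjoint χ1 hχ1 φ hφ (hS.orthogonal φ hφ χ1 hχ1 h1) (hS.orthogonal φ hφ _ hc h2)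
    have hWX : classInner W0 (∑ α ∈ A, α) = 0 := hW0o _ fun β hβ => by
      rw [classInner_sum_right]
      exact Finset.sum_eq_zero fun α hα => hR ψ0 hψ0 hψ0a hψ0b β hβ α (hAsub hα)
    have hbase : classInner (τ (χ1 - ψ0)) (∑ α ∈ A, α) = (n : ℂ) := by
      rw [hW0, classInner_add_left, hWX, add_zero, (inner_subsum (hS.orthonormal χ1 hχ1) hAsub).2.2, hAn]
    intro φ hφ hne
    rcases eq_or_ne φ (Cfsg.conjFun χ1) with rfl | hφc
    · rw [hS.sum_eq χ1 hχ1, (inner_subsum (hS.orthonormal χ1 hχ1) hAsub).1, hAn]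
    rcases eq_or_ne φ ψ0 with rfl | hφ0
    · exact hbase
    rcases eq_or_ne φ (Cfsg.conjFun ψ0) with rfl | hφ0'
    · have hz : classInner (τ (ψ0 - Cfsg.conjFun ψ0)) (∑ α ∈ A, α) = 0 := by
        rw [hS.sum_eq ψ0 hψ0, classInner_sum_left]
        refine Finset.sum_eq_zero fun β hβ => ?_
        rw [classInner_sum_right]
        exact Finset.sum_eq_zero fun α hα => hR ψ0 hψ0 hψ0a hψ0b β hβ α (hAsub hα)
      rw [show χ1 - Cfsg.conjFun ψ0 = (χ1 - ψ0) + (ψ0 - Cfsg.conjFun ψ0) by abel,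
        hadd _ (hdiff χ1 hχ1 ψ0 hψ0) _ (hdiff ψ0 hψ0 _ hφ), classInner_add_left, hbase, hz, add_zero]
    obtain ⟨-, -, Wφ, hWφ, hWφo⟩ := step φ hφ hne hφc
    have e : classInner (τ (χ1 - φ)) (τ (χ1 - ψ0)) = (n : ℂ) := by
      rw [hiso _ (hdiff χ1 hχ1 φ hφ) _ (hdiff χ1 hχ1 ψ0 hψ0), classInner_sub_left, classInner_sub_right,
        classInner_sub_right, hS.orthogonal χ1 hχ1 ψ0 hψ0 hψ0a.symm, hS.orthogonal φ hφ χ1 hχ1 hne,
        hS.orthogonal φ hφ ψ0 hψ0 hφ0, hn]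
      ring
    have z1 : classInner Wφ (∑ α ∈ A, α) = 0 := hWφo _ fun β hβ => by
      rw [classInner_sum_right]
      exact Finset.sum_eq_zero fun α hα => hR φ hφ hne hφc β hβ α (hAsub hα)
    have z2 : classInner (τ (χ1 - φ)) W0 = 0 := by
      rw [← classInner_conj, hW0o, map_zero]
      intro β hβ
      rw [hWφ, classInner_add_right, classInner_sum_right,
        Finset.sum_eq_zero (fun α hα => hR ψ0 hψ0 hψ0a hψ0b β hβ α (Finset.mem_filter.1 hα).1), zero_add,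
        ← classInner_conj, hWφo, map_zero]
      exact fun γ hγ => hS.disjoint ψ0 hψ0 φ hφ (hS.orthogonal φ hφ ψ0 hψ0 hφ0)
        (hS.orthogonal φ hφ _ (hS.conj_mem ψ0 hψ0) hφ0') γ hγ β hβ
    rw [hW0, classInner_add_right, z2, add_zero] at e
    exact e
  -- assemble
  have hfin : S.Finite := finite_of_orth S hn0 hS.orthogonal
  obtain ⟨F, rfl⟩ : ∃ F : Finset (L → ℂ), S = (F : Set (L → ℂ)) := ⟨hfin.toFinset, hfin.coe_toFinset.symm⟩
  have hτ0 : τ 0 = 0 := iso_zero hS.isometry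
  have hXX : classInner (∑ α ∈ A, α) (∑ α ∈ A, α) = (n : ℂ) := by
    rw [(inner_subsum (hS.orthonormal χ1 hχ1) hA).2.2, hAn]
  have hgA : IsGeneralizedCharacter G (∑ α ∈ A, α) := gen_sum fun α hα => hS.virtual χ1 hχ1 α (hA hα)
  have key : ∀ φ ∈ (F : Set (L → ℂ)),
      classInner (τ (χ1 - φ)) (∑ α ∈ A, α) + classInner φ χ1 = (n : ℂ) := by
    intro φ hφ
    rcases eq_or_ne φ χ1 with rfl | hne
    · rw [sub_self, hτ0, classInner_zero_left, hn, zero_add]
    · rw [hkey φ hφ hne, hS.orthogonal φ hφ χ1 hχ1 hne, add_zero]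
  refine coherent_of_family F (fun _ => d) hdd hS.orthogonal hn0 hS.isometry χ1 hχ1 hd1
    (fun φ => (∑ α ∈ A, α) - τ (χ1 - φ)) (fun φ hφ => gen_sub hgA (hgenτ _ (hdiff χ1 hχ1 φ hφ))) ?_ ?_
    ⟨χ1 - Cfsg.conjFun χ1, hdiff χ1 hχ1 _ hc, fun h => hS.conj_ne χ1 hχ1 (sub_eq_zero.1 h).symm⟩
  · intro φ hφ ψ hψ
    have k1 : classInner (τ (χ1 - φ)) (∑ α ∈ A, α) = (n : ℂ) - classInner φ χ1 := eq_sub_of_add_eq (key φ hφ)
    have k2 : classInner (∑ α ∈ A, α) (τ (χ1 - ψ)) = (n : ℂ) - classInner χ1 ψ := by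
      rw [← classInner_conj, eq_sub_of_add_eq (key ψ hψ), map_sub, classInner_conj, Complex.conj_natCast]
    rw [classInner_sub_left, classInner_sub_right, classInner_sub_right, hXX, k1, k2,
      hiso _ (hdiff χ1 hχ1 φ hφ) _ (hdiff χ1 hχ1 ψ hψ), classInner_sub_left, classInner_sub_right,
      classInner_sub_right, hn]
    ring
  · intro φ hφ
    rw [sub_self, hτ0, sub_zero,
      show (d : ℤ) • φ - (d : ℤ) • χ1 = (-(d : ℤ)) • (χ1 - φ) by rw [neg_smul, smul_sub]; abel,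
      hsmul _ (hdiff χ1 hχ1 φ hφ)]
    rw [neg_smul, smul_sub]
    abel

end Cfsg.Agent.S1517
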