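import Cfsg.Statements.S1518
import Mathlib
import Cfsg.Agent.S1500
import Cfsg.Agent.S1501
import Cfsg.Agent.Blk.ZStarBasic
-- import your own Cfsg.Agent.* helpers here

set_option autoImplicit false
open Cfsg

namespace Cfsg.Agent.S1518

/-- Under the Dade hypothesis for (A, L, H): if χ is an irreducible character of L vanishing at every non-identity element of L outside A, then the Dade image of χ − conj χ equals μ − conj μ for some irreducible character μ of G. -/
theorem result {G : Type*} [Group G] [Fintype G] (A : Set G) (L : Subgroup G) [Fintype L] (H : G → Subgroup G) (hD : Cfsg.DadeHypothesis A L H) (χ : L → ℂ) (hχ : Cfsg.IsIrrCharacter L χ) (hsupp : ∀ x : L, x ≠ 1 → (x : G) ∉ A → χ x = 0) : ∃ μ : G → ℂ, Cfsg.IsIrrCharacter G μ ∧ Cfsg.dadeIsometry A L H (χ - Cfsg.conjFun χ) = μ - Cfsg.conjFun μ := by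
  classical
  open CfsgLib.Char in
  · have hreal0 : ∀ x, conjFun χ x = (starRingEnd ℂ) (χ x) := fun x => rfl
    by_cases hre : conjFun χ = χ
    · refine ⟨fun _ => 1, isIrr_one, ?_⟩
      rw [hre, sub_self]
      funext g
      simp [dadeIsometry, conjFun]
    set α : L → ℂ := χ - conjFun χ with hα
    have hcf : IsClassFunction L α := fun x y => by
      simp only [hα, Pi.sub_apply, conjFun]
      rw [classFun_of_irr hχ x y]
    have hgen : IsGeneralizedCharacter L α :=
      ⟨χ, conjFun χ, isCharacter_of_isIrr hχ, isCharacter_conj (isCharacter_of_isIrr hχ), rfl⟩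
    obtain ⟨d, hd, hd1⟩ := irr_deg hχ
    have hαA : ∀ x : L, (x : G) ∉ A → α x = 0 := by
      intro x hx
      simp only [hα, Pi.sub_apply, conjFun]
      by_cases h1 : x = 1
      · rw [h1, hd1, Complex.conj_natCast, sub_self]
      · rw [hsupp x h1 hx, map_zero, sub_self]
    obtain ⟨hiso1, hiso2⟩ := Cfsg.Agent.S1500.result A L H hD α hcf hαA
    have hne1 : χ ≠ fun _ => 1 := fun h => hre (funext fun x => by simp [conjFun, h])
    have hne2 : conjFun χ ≠ fun _ => 1 := fun h => hne1 (funext fun x => by
      have := congrArg (starRingEnd ℂ) (congrFun h x)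
      simpa [conjFun] using this)
    have hc : IsIrrCharacter L (conjFun χ) := irr_conj hχ
    have hinner : classInner α α = 2 := by
      simp only [hα, classInner_sub_left, classInner_sub_right]
      rw [irr_inner_self hχ, irr_inner_ne hχ hc (fun e => hre e.symm), irr_inner_ne hc hχ hre,
        show classInner (conjFun χ) (conjFun χ) = 1 from irr_inner_self hc]
      norm_num
    have hz : classInner (dadeIsometry A L H α) (fun _ => 1) = 0 := by
      rw [hiso2 (fun _ => 1) (fun _ => 1) (fun _ _ => rfl) (fun a ha => ?_)]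
      · rw [hα, classInner_sub_left, irr_inner_ne hχ isIrr_one hne1, irr_inner_ne hc isIrr_one hne2, sub_self]
      · rw [finsum_mem_eq_finite_toFinset_sum _ (H (a : G) : Set G).toFinite, Finset.sum_const,
          ← Set.ncard_eq_toFinset_card, nsmul_eq_mul, mul_one,
          show (H (a : G) : Set G).ncard = Nat.card (H (a : G)) from (Nat.card_coe_set_eq _).symm,
          inv_mul_cancel₀ (natCard_ne_zero _)]
    obtain ⟨X, Y, a, c, hXY, ha, hc', -, -, -, -, hval⟩ := CfsgLib.Blk.exists_of_norm_two
      (Cfsg.Agent.S1501.result A L H hD α hgen hαA) (by rw [hiso1 α hcf hαA, hinner]) hz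
    have hone : dadeIsometry A L H α 1 = 0 := by
      refine CfsgLib.Dade.dade_off hD ?_
      rintro ⟨b, hb, x, u, hu, e⟩
      refine hD.one_not_mem ?_
      have e' : (b : G) = u⁻¹ := eq_inv_of_mul_eq_one_left (by rw [← e]; group)
      have : (b : G) ∈ H (b : G) ⊓ (L ⊓ Subgroup.centralizer ({(b : G)} : Set G)) :=
        ⟨by rw [e'] at hu ⊢; simpa [e'] using inv_mem hu, CfsgLib.Dade.self_mem_cL hD hb⟩
      rw [hD.inf_eq_bot _ hb, Subgroup.mem_bot] at this
      rwa [this] at hb
    have hac : c = -a := by
      obtain ⟨m, hm, hm1⟩ := irr_deg X.2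
      obtain ⟨n, hn, hn1⟩ := irr_deg Y.2
      have h := hval 1
      rw [hone, hm1, hn1] at h
      have h' : a * (m : ℤ) + c * n = 0 := by exact_mod_cast h.symm
      rcases sq_eq_one_iff.1 ha with rfl | rfl <;> rcases sq_eq_one_iff.1 hc' with rfl | rfl <;> omega
    have hconj : ∀ g, (starRingEnd ℂ) (dadeIsometry A L H α g) = - dadeIsometry A L H α g := by
      intro g
      unfold dadeIsometry
      split_ifs
      · simp [hα, conjFun]
      · simp
    have ha0 : (a : ℂ) ≠ 0 := by
      rcases sq_eq_one_iff.1 ha with rfl | rfl <;> norm_num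
    have hfun : ∀ g, conjFun (X : G → ℂ) g - conjFun (Y : G → ℂ) g = (Y : G → ℂ) g - (X : G → ℂ) g := by
      intro g
      have h := hconj g
      rw [hval g, hac] at h
      simp only [Int.cast_neg, map_add, map_mul, map_intCast, map_neg] at h
      refine mul_left_cancel₀ ha0 ?_
      simp only [conjFun]
      linear_combination h
    have hYX : conjFun (Y : G → ℂ) = X := by
      by_contra hne
      have h : classInner (conjFun (X : G → ℂ) - conjFun (Y : G → ℂ)) (X : G → ℂ) =
          classInner ((Y : G → ℂ) - (X : G → ℂ)) (X : G → ℂ) := by rw [show conjFun (X : G → ℂ) - conjFun (Y : G → ℂ) = (Y : G → ℂ) - X from funext hfun]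
      rw [classInner_sub_left, classInner_sub_left, irr_inner_self X.2,
        irr_inner_ne Y.2 X.2 (fun e => hXY (Subtype.ext e.symm)),
        irr_inner_ne (show IsIrrCharacter G (conjFun (Y : G → ℂ)) from irr_conj Y.2) X.2 hne, sub_zero, zero_sub] at h
      by_cases hX : conjFun (X : G → ℂ) = X
      · rw [hX, irr_inner_self X.2] at h; norm_num at h
      · rw [show classInner (conjFun (X : G → ℂ)) (X : G → ℂ) = 0 from irr_inner_ne (irr_conj X.2) X.2 hX] at h
        norm_num at h
    have hXY' : conjFun (X : G → ℂ) = Y := by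
      rw [← hYX]; funext g; simp [conjFun]
    rcases sq_eq_one_iff.1 ha with rfl | rfl
    · refine ⟨X, X.2, funext fun g => ?_⟩
      rw [hval g, hac, hXY', Pi.sub_apply]
      push_cast
      ring
    · refine ⟨Y, Y.2, funext fun g => ?_⟩
      rw [hval g, hac, hYX, Pi.sub_apply]
      push_cast
      ring

end Cfsg.Agent.S1518
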