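import Cfsg.Statements.S1523
import Cfsg.Agent.Char.Clifford
import Cfsg.Agent.Char.Classes
import Cfsg.Agent.Char.Central

set_option autoImplicit false
open Cfsg
open scoped CfsgLib.Char

namespace Cfsg.Agent.S1523

universe u

open Classical in
theorem free_sum {G X : Type*} [Group G] [Fintype X] (P : Subgroup G) [Fintype P]
    (act : P → X → X) (h1 : ∀ x, act 1 x = x) (hm : ∀ a b x, act (a * b) x = act a (act b x))
    (S : Finset X) (hS : ∀ a, ∀ x ∈ S, act a x ∈ S) (hfree : ∀ a, ∀ x ∈ S, act a x = x → a = 1)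
    (f : X → ℂ) (hf : ∀ a x, f (act a x) = f x) (hint : ∀ x, IsIntegral ℤ (f x)) :
    ∃ w : ℂ, IsIntegral ℤ w ∧ ∑ x ∈ S, f x = (Nat.card P : ℂ) * w := by
  induction S using Finset.strongInduction with
  | _ S ih =>
  rcases S.eq_empty_or_nonempty with rfl | ⟨x, hx⟩
  · exact ⟨0, isIntegral_zero, by simp⟩
  let O := Finset.univ.image fun a => act a x
  have hO : O ⊆ S := fun y hy => by
    obtain ⟨a, -, rfl⟩ := Finset.mem_image.1 hy; exact hS a x hx
  have hcard : O.card = Nat.card P := by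
    rw [Nat.card_eq_fintype_card, ← Finset.card_univ]
    refine Finset.card_image_of_injective _ fun a b hab => ?_
    have : act (b⁻¹ * a) x = x := by
      rw [hm]
      show act b⁻¹ (act a x) = x
      rw [show act a x = act b x from hab, ← hm, inv_mul_cancel, h1]
    exact (inv_mul_eq_one.1 (hfree _ x hx this)).symm
  obtain ⟨w, hw, hsum⟩ := ih (S \ O) (Finset.sdiff_ssubset hO ⟨x, Finset.mem_image.2
      ⟨1, Finset.mem_univ _, h1 x⟩⟩)
    (fun a y hy => by
      rw [Finset.mem_sdiff] at hy ⊢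
      refine ⟨hS a y hy.1, fun h => hy.2 ?_⟩
      obtain ⟨b, -, hb⟩ := Finset.mem_image.1 h
      refine Finset.mem_image.2 ⟨a⁻¹ * b, Finset.mem_univ _, ?_⟩
      rw [hm, show act b x = act a y from hb, ← hm, inv_mul_cancel, h1])
    (fun a y hy => hfree a y (Finset.mem_sdiff.1 hy).1)
  refine ⟨w + f x, hw.add (hint x), ?_⟩
  rw [← Finset.sum_sdiff hO, hsum, Finset.sum_congr rfl (g := fun _ => f x) (fun y hy => by
    obtain ⟨a, -, rfl⟩ := Finset.mem_image.1 hy; exact hf a x), Finset.sum_const, hcard,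
    nsmul_eq_mul]
  ring


/-- Let G be a finite group, p a prime, P a Sylow p-subgroup whose underlying set is a TI-subset of G, with L the set normaliser of P of odd order. Let Z ≠ ⊥ be a subgroup of P, normal in L and central in P, such that the centralisers in L of any two non-identity elements of Z have the same order. If ψ is an irreducible character of G taking the same value at all non-identity elements of Z, then for z ∈ Z, z ≠ 1, the value ψ z is an integer n with Nat.card P dividing ψ(1) − n (as integers, ψ 1 being the degree). -/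
theorem result {G : Type*} [Group G] [Finite G] (p : ℕ) [Fact p.Prime] (P : Sylow p G) (hTI : Cfsg.IsTISubset ((P : Subgroup G) : Set G)) (hodd : Odd (Nat.card (Subgroup.normalizer ((P : Subgroup G) : Set G)))) (Z : Subgroup G) (hZ1 : Z ≠ ⊥) (hZP : Z ≤ P) (hZn : ∀ x ∈ Subgroup.normalizer ((P : Subgroup G) : Set G), ∀ z ∈ Z, x * z * x⁻¹ ∈ Z) (hZc : ∀ z ∈ Z, ∀ y ∈ (P : Subgroup G), z * y = y * z) (hCL : ∀ z ∈ Z, ∀ z' ∈ Z, z ≠ 1 → z' ≠ 1 → Nat.card ↥(Subgroup.normalizer ((P : Subgroup G) : Set G) ⊓ Subgroup.centralizer ({z} : Set G)) = Nat.card ↥(Subgroup.normalizer ((P : Subgroup G) : Set G) ⊓ Subgroup.centralizer ({z'} : Set G))) (ψ : G → ℂ) (hψ : Cfsg.IsIrrCharacter G ψ) (hconst : ∀ z ∈ Z, ∀ z' ∈ Z, z ≠ 1 → z' ≠ 1 → ψ z = ψ z') (z : G) (hz : z ∈ Z) (hz1 : z ≠ 1) : ∃ n d : ℤ, ψ z = n ∧ ψ 1 = d ∧ (Nat.card (P : Subgroup G) : ℤ) ∣ d - n := by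
  classical
  haveI := Fintype.ofFinite G
  haveI := Fintype.ofFinite (P : Subgroup G)
  haveI := Fintype.ofFinite Z
  set L := Subgroup.normalizer ((P : Subgroup G) : Set G) with hL
  have hc := CfsgLib.Char.isCharacter_of_isIrr hψ
  -- the value is an integer
  obtain ⟨m, hm⟩ := CfsgLib.Char.inner_char_irr (CfsgLib.Char.isCharacter_restrict Z hc)
    (CfsgLib.Char.isIrr_one (G := Z))
  obtain ⟨dd, hdd⟩ := CfsgLib.Char.charDegree_aux hc
  have hsumZ : ∑ y : Z, ψ y = ψ 1 + ((Nat.card Z - 1 : ℕ) : ℂ) * ψ z := by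
    rw [← Finset.add_sum_erase _ _ (Finset.mem_univ (1 : Z)),
      Finset.sum_congr (s₁ := (Finset.univ : Finset Z).erase 1) rfl (g := fun _ => ψ z) (fun y hy => hconst y y.2 z hz
        (fun h => (Finset.mem_erase.1 hy).1 (Subtype.ext h)) hz1),
      Finset.sum_const, Finset.card_erase_of_mem (Finset.mem_univ _), Finset.card_univ,
      ← Nat.card_eq_fintype_card, nsmul_eq_mul, OneMemClass.coe_one]
  haveI : Nontrivial Z := Z.nontrivial_iff_ne_bot.2 hZ1
  have hZc1 : ((Nat.card Z - 1 : ℕ) : ℂ) ≠ 0 := by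
    rw [Nat.cast_ne_zero]
    have := (Finite.one_lt_card (α := Z))
    omega
  rw [CfsgLib.Char.classInner_def] at hm
  simp only [map_one, mul_one] at hm
  rw [inv_mul_eq_iff_eq_mul₀ (Nat.cast_ne_zero.2 Nat.card_pos.ne'), hsumZ] at hm
  obtain ⟨n, hn⟩ := CfsgLib.Char.exists_int_of_isIntegral_rat (CfsgLib.Char.char_isIntegral hc z)
    ((((Nat.card Z : ℕ) : ℚ) * m - dd) / ((Nat.card Z - 1 : ℕ) : ℚ)) (by
      push_cast
      rw [eq_div_iff hZc1]
      linear_combination hm - hdd)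
  refine ⟨n, dd, hn, by rw [hdd]; rfl, ?_⟩
  -- local facts
  obtain ⟨kP, hkP⟩ := IsPGroup.iff_card.1 P.2
  have hord : ∀ a ∈ Z, ∀ x : G, IsConj a x → x ∈ L → x ∈ (P : Subgroup G) := by
    intro a ha x hax hxL
    obtain ⟨g, rfl⟩ := isConj_iff.1 hax
    have hg : IsPGroup p (Subgroup.zpowers (g * a * g⁻¹)) := by
      obtain ⟨j, hj⟩ := P.2 ⟨a, hZP ha⟩
      refine IsPGroup.of_card (n := (orderOf (g * a * g⁻¹)).factorization p) ?_
      rw [Nat.card_zpowers]
      have hdvd : orderOf (g * a * g⁻¹) ∣ p ^ j := orderOf_dvd_of_pow_eq_one (by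
        rw [conj_pow, show a ^ p ^ j = 1 from congrArg Subtype.val hj]; simp)
      obtain ⟨i, -, hi⟩ := (Nat.dvd_prime_pow Fact.out).1 hdvd
      rw [hi, (Fact.out : p.Prime).factorization_pow, Finsupp.single_eq_same]
    have h2 := hg.inf_normalizer_sylow P
    have : g * a * g⁻¹ ∈ Subgroup.zpowers (g * a * g⁻¹) ⊓ L := ⟨Subgroup.mem_zpowers _, hxL⟩
    exact (h2.le this).2
  have hfixed : ∀ a ∈ Z, a ≠ 1 → ∀ x : G, IsConj a x → ∀ u : (P : Subgroup G), u ≠ 1 →
      (u : G) * x * (u : G)⁻¹ = x → x ∈ Z := by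
    intro a ha ha1 x hax u hu hux
    have hxL : x ∈ L := by
      by_contra hxL
      refine hu (Subtype.ext (hTI x hxL u u.2 ?_))
      have : x * (u : G) * x⁻¹ = u := by
        rw [mul_inv_eq_iff_eq_mul.1 hux |>.symm]; group
      rw [this]; exact u.2
    have hxP := hord a ha x hax hxL
    obtain ⟨g, rfl⟩ := isConj_iff.1 hax
    have hgL : g ∈ L := by
      by_contra hgL
      exact ha1 (hTI g hgL a (hZP ha) hxP)
    exact hZn g hgL a ha
  have hcent : ∀ x ∈ Z, ∀ u : (P : Subgroup G), (u : G) * x * (u : G)⁻¹ = x := fun x hx u => by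
    rw [← hZc x hx u u.2]; group
  -- classes
  let cl : G → Finset G := fun a => Finset.univ.filter fun x => IsConj a x
  let T : G → Finset G := fun a => Finset.univ.filter fun x => IsConj a x ∧ x ∈ Z
  have hclc : ∀ a, ∀ g, ∀ x ∈ cl a, g * x * g⁻¹ ∈ cl a := fun a g x hx =>
    Finset.mem_filter.2 ⟨Finset.mem_univ _, (Finset.mem_filter.1 hx).2.trans (isConj_iff.2 ⟨g, rfl⟩)⟩
  have hpair : ∀ b ∈ Z, b ≠ 1 → ∃ w : ℂ, IsIntegral ℤ w ∧
      ∑ x ∈ cl z, ∑ y ∈ cl b, ψ (x * y) =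
        (∑ x ∈ T z, ∑ y ∈ T b, ψ (x * y)) + (Nat.card (P : Subgroup G) : ℂ) * w := by
    intro b hb hb1
    have hsub : T z ×ˢ T b ⊆ cl z ×ˢ cl b := by
      intro xy hxy
      simp only [T, cl, Finset.mem_product, Finset.mem_filter] at hxy ⊢
      exact ⟨⟨hxy.1.1, hxy.1.2.1⟩, hxy.2.1, hxy.2.2.1⟩
    obtain ⟨w, hw, hsum⟩ := free_sum (P : Subgroup G)
      (fun (u : (P : Subgroup G)) (xy : G × G) =>
        ((u : G) * xy.1 * (u : G)⁻¹, (u : G) * xy.2 * (u : G)⁻¹))
      (fun xy => by simp) (fun a b xy => by simp [mul_assoc])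
      ((cl z ×ˢ cl b) \ (T z ×ˢ T b))
      (fun u xy hxy => by
        obtain ⟨h1, h2⟩ := Finset.mem_sdiff.1 hxy
        obtain ⟨hx, hy⟩ := Finset.mem_product.1 h1
        refine Finset.mem_sdiff.2 ⟨Finset.mem_product.2 ⟨hclc z _ _ hx, hclc b _ _ hy⟩, fun h3 => h2 ?_⟩
        obtain ⟨h4, h5⟩ := Finset.mem_product.1 h3
        have e : ∀ x : G, (u : G) * x * (u : G)⁻¹ ∈ Z → x ∈ Z := fun x hxZ => by
          have h := hcent _ hxZ u⁻¹
          have e2 : x = (u : G) * x * (u : G)⁻¹ := by simpa [mul_assoc] using h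
          rw [e2]; exact hxZ
        exact Finset.mem_product.2
          ⟨Finset.mem_filter.2 ⟨Finset.mem_univ _, (Finset.mem_filter.1 hx).2, e _ (Finset.mem_filter.1 h4).2.2⟩,
           Finset.mem_filter.2 ⟨Finset.mem_univ _, (Finset.mem_filter.1 hy).2, e _ (Finset.mem_filter.1 h5).2.2⟩⟩)
      (fun u xy hxy hfix => by
        by_contra hu
        obtain ⟨h1, h2⟩ := Finset.mem_sdiff.1 hxy
        obtain ⟨hx, hy⟩ := Finset.mem_product.1 h1
        exact h2 (Finset.mem_product.2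
          ⟨Finset.mem_filter.2 ⟨Finset.mem_univ _, (Finset.mem_filter.1 hx).2,
              hfixed z hz hz1 _ (Finset.mem_filter.1 hx).2 u hu (congrArg Prod.fst hfix)⟩,
           Finset.mem_filter.2 ⟨Finset.mem_univ _, (Finset.mem_filter.1 hy).2,
              hfixed b hb hb1 _ (Finset.mem_filter.1 hy).2 u hu (congrArg Prod.snd hfix)⟩⟩))
      (fun xy => ψ (xy.1 * xy.2))
      (fun u xy => by
        show ψ ((u : G) * xy.1 * (u : G)⁻¹ * ((u : G) * xy.2 * (u : G)⁻¹)) = _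
        rw [show (u : G) * xy.1 * (u : G)⁻¹ * ((u : G) * xy.2 * (u : G)⁻¹) =
          (u : G) * (xy.1 * xy.2) * (u : G)⁻¹ by group]
        exact CfsgLib.Char.classFun_of_irr hψ _ _)
      (fun xy => CfsgLib.Char.char_isIntegral hc _)
    refine ⟨w, hw, ?_⟩
    rw [← Finset.sum_product (cl z) (cl b) (fun xy => ψ (xy.1 * xy.2)),
      ← Finset.sum_product (T z) (T b) (fun xy => ψ (xy.1 * xy.2)), ← hsum, add_comm,
      Finset.sum_sdiff hsub]
  -- inversion
  have hzi : z⁻¹ ∈ Z := Z.inv_mem hz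
  have hzi1 : z⁻¹ ≠ 1 := inv_ne_one.2 hz1
  have hninv : ¬ IsConj z z⁻¹ := by
    intro h
    obtain ⟨g, hg⟩ := isConj_iff.1 h
    have hgL : g ∈ L := by
      by_contra hgL
      exact hz1 (hTI g hgL z (hZP hz) (by rw [hg]; exact hZP hzi))
    have h2 : g ^ 2 * z = z * g ^ 2 := by
      have e : g * (g * z * g⁻¹) * g⁻¹ = z := by
        rw [hg, ← inv_inj, ← conj_inv, inv_inv, hg]
      calc g ^ 2 * z = (g * (g * z * g⁻¹) * g⁻¹) * g ^ 2 := by rw [pow_two]; group
        _ = z * g ^ 2 := by rw [e]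
    have hgodd : Odd (orderOf g) :=
      Odd.of_dvd_nat hodd (Subgroup.orderOf_dvd_natCard _ hgL)
    have hgz : g * z = z * g := by
      obtain ⟨j, hj⟩ := hgodd
      have e : g = (g ^ 2) ^ (j + 1) := by
        rw [← pow_mul, show 2 * (j + 1) = orderOf g + 1 by omega, pow_succ, pow_orderOf_eq_one,
          one_mul]
      rw [e]; exact (Commute.pow_left h2 (j + 1)).eq
    have hzz : z⁻¹ = z := by rw [← hg, hgz, mul_inv_cancel_right]
    have hz2 : orderOf z ∣ 2 := orderOf_dvd_of_pow_eq_one (by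
      rw [pow_two]; nth_rewrite 1 [← hzz]; exact inv_mul_cancel z)
    have hzodd : Odd (orderOf z) := Odd.of_dvd_nat hodd
      (Subgroup.orderOf_dvd_natCard _ (Subgroup.le_normalizer (hZP hz)))
    rcases (Nat.dvd_prime Nat.prime_two).1 hz2 with h | h
    · exact hz1 (orderOf_eq_one_iff.1 h)
    · rw [h] at hzodd; exact absurd hzodd (by decide)
  have hT' : T z⁻¹ = (T z).image (·⁻¹) := by
    ext x
    simp only [T, Finset.mem_filter, Finset.mem_univ, true_and, Finset.mem_image]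
    constructor
    · rintro ⟨h1, h2⟩
      refine ⟨x⁻¹, ⟨?_, Z.inv_mem h2⟩, inv_inv x⟩
      obtain ⟨g, rfl⟩ := isConj_iff.1 h1
      exact isConj_iff.2 ⟨g, by rw [← conj_inv, inv_inv]⟩
    · rintro ⟨y, ⟨h1, h2⟩, rfl⟩
      obtain ⟨g, rfl⟩ := isConj_iff.1 h1
      exact ⟨isConj_iff.2 ⟨g, conj_inv.symm⟩, Z.inv_mem h2⟩
  set t := (T z).card with ht
  have hval : ∀ y ∈ Z, y ≠ 1 → ψ y = (n : ℂ) := fun y hy hy1 => by
    rw [← hn]; exact hconst y hy z hz hy1 hz1
  have hTT : ∑ x ∈ T z, ∑ y ∈ T z, ψ (x * y) = (t : ℂ) * t * n := by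
    rw [Finset.sum_congr rfl (g := fun _ => (t : ℂ) * n) (fun x hx => by
      rw [Finset.sum_congr rfl (g := fun _ => (n : ℂ)) (fun y hy => by
        obtain ⟨-, h1, h2⟩ := Finset.mem_filter.1 hx
        obtain ⟨-, h3, h4⟩ := Finset.mem_filter.1 hy
        refine hval _ (Z.mul_mem h2 h4) fun h => hninv ?_
        rw [← inv_eq_of_mul_eq_one_right h] at h3
        refine h3.trans ?_
        obtain ⟨g, hg⟩ := isConj_iff.1 h1
        exact isConj_iff.2 ⟨g⁻¹, by rw [← hg]; group⟩), Finset.sum_const, nsmul_eq_mul]),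
      Finset.sum_const, nsmul_eq_mul]
    ring
  have hTT' : ∑ x ∈ T z, ∑ y ∈ T z⁻¹, ψ (x * y) = (t : ℂ) * dd + ((t : ℂ) * t - t) * n := by
    rw [hT', Finset.sum_congr rfl (g := fun _ => (dd : ℂ) + ((t : ℂ) - 1) * n) (fun x hx => by
      rw [Finset.sum_image (fun a _ b _ h => inv_injective h), ← Finset.add_sum_erase _ _ hx,
        mul_inv_cancel, hdd, Finset.sum_congr rfl (g := fun _ => (n : ℂ)) (fun y hy => by
          obtain ⟨hne, hy'⟩ := Finset.mem_erase.1 hy
          exact hval _ (Z.mul_mem (Finset.mem_filter.1 hx).2.2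
            (Z.inv_mem (Finset.mem_filter.1 hy').2.2)) fun h => hne (mul_inv_eq_one.1 h).symm),
        Finset.sum_const, Finset.card_erase_of_mem hx, nsmul_eq_mul,
        Nat.cast_sub (Finset.card_pos.2 ⟨x, hx⟩), Nat.cast_one]), Finset.sum_const, nsmul_eq_mul]
    ring
  have hcz : Finset.card (cl z⁻¹) = Finset.card (cl z) := by
    refine Finset.card_bij (fun x _ => x⁻¹) (fun x hx => ?_) (fun a _ b _ h => inv_injective h)
      (fun x hx => ⟨x⁻¹, ?_, inv_inv x⟩)
    · obtain ⟨g, rfl⟩ := isConj_iff.1 (Finset.mem_filter.1 hx).2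
      exact Finset.mem_filter.2 ⟨Finset.mem_univ _, isConj_iff.2 ⟨g, by rw [← conj_inv, inv_inv]⟩⟩
    · obtain ⟨g, rfl⟩ := isConj_iff.1 (Finset.mem_filter.1 hx).2
      exact Finset.mem_filter.2 ⟨Finset.mem_univ _, isConj_iff.2 ⟨g, conj_inv.symm⟩⟩
  have hS : ∑ x ∈ cl z, ∑ y ∈ cl z, ψ (x * y) = ∑ x ∈ cl z, ∑ y ∈ cl z⁻¹, ψ (x * y) := by
    have h1 := CfsgLib.Char.centralChar_mul hψ z z
    have h2 := CfsgLib.Char.centralChar_mul hψ z z⁻¹
    have hcc : centralChar ψ z⁻¹ = centralChar ψ z := by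
      simp only [centralChar]
      rw [hconst z⁻¹ hzi z hz hzi1 hz1, ← CfsgLib.Char.card_filter_isConj,
        ← CfsgLib.Char.card_filter_isConj, hcz]
    rw [hcc, h1, div_left_inj' (CfsgLib.Char.irr_one_ne_zero hψ)] at h2
    exact h2
  obtain ⟨w1, hw1, e1⟩ := hpair z hz hz1
  obtain ⟨w2, hw2, e2⟩ := hpair z⁻¹ hzi hzi1
  rw [hTT] at e1
  rw [hTT'] at e2
  have hkey : (((t : ℤ) * ((dd : ℤ) - n) : ℤ) : ℂ) = (Nat.card (P : Subgroup G) : ℂ) * (w1 - w2) := by
    push_cast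
    linear_combination e1 - e2 - hS
  have hP0 : (Nat.card (P : Subgroup G) : ℂ) ≠ 0 := Nat.cast_ne_zero.2 Nat.card_pos.ne'
  obtain ⟨kk, hkk⟩ := CfsgLib.Char.exists_int_of_isIntegral_rat (hw1.sub hw2)
    (((t : ℤ) * ((dd : ℤ) - n) : ℤ) / (Nat.card (P : Subgroup G) : ℚ)) (by
      push_cast at hkey ⊢
      rw [eq_div_iff hP0]
      linear_combination -hkey)
  have hdvd : (Nat.card (P : Subgroup G) : ℤ) ∣ (t : ℤ) * ((dd : ℤ) - n) :=
    ⟨kk, by apply Int.cast_injective (α := ℂ); rw [hkey, hkk]; push_cast; ring⟩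
  -- the number of fixed points is prime to `p`
  have hpt : ¬ p ∣ t := by
    intro hdt
    obtain ⟨w, hw, hsum⟩ := free_sum (P : Subgroup G)
      (fun (u : (P : Subgroup G)) (x : G) => (u : G) * x * (u : G)⁻¹)
      (fun x => by simp) (fun a b x => by simp [mul_assoc]) (cl z \ T z)
      (fun u x hx => by
        obtain ⟨h1, h2⟩ := Finset.mem_sdiff.1 hx
        refine Finset.mem_sdiff.2 ⟨hclc z _ _ h1, fun h3 => h2 ?_⟩
        have h := hcent _ (Finset.mem_filter.1 h3).2.2 u⁻¹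
        have e2 : x = (u : G) * x * (u : G)⁻¹ := by simpa [mul_assoc] using h
        refine Finset.mem_filter.2 ⟨Finset.mem_univ _, (Finset.mem_filter.1 h1).2, ?_⟩
        rw [e2]; exact (Finset.mem_filter.1 h3).2.2)
      (fun u x hx hfix => by
        by_contra hu
        obtain ⟨h1, h2⟩ := Finset.mem_sdiff.1 hx
        exact h2 (Finset.mem_filter.2 ⟨Finset.mem_univ _, (Finset.mem_filter.1 h1).2,
          hfixed z hz hz1 _ (Finset.mem_filter.1 h1).2 u hu hfix⟩))
      (fun _ => 1) (fun _ _ => rfl) (fun _ => isIntegral_one)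
    have hsub : T z ⊆ cl z := fun x hx =>
      Finset.mem_filter.2 ⟨Finset.mem_univ _, (Finset.mem_filter.1 hx).2.1⟩
    rw [Finset.sum_const, Finset.card_sdiff_of_subset hsub, nsmul_eq_mul, mul_one] at hsum
    obtain ⟨k', hk'⟩ := CfsgLib.Char.exists_int_of_isIntegral_rat hw
      ((((cl z).card - t : ℕ) : ℚ) / (Nat.card (P : Subgroup G) : ℚ)) (by
        push_cast
        rw [eq_div_iff hP0, ← ht] at *
        linear_combination -hsum)
    have hd2 : (Nat.card (P : Subgroup G) : ℤ) ∣ (((cl z).card - t : ℕ) : ℤ) := ⟨k', by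
      apply Int.cast_injective (α := ℂ); push_cast; rw [← hk']; exact hsum⟩
    have hd3 : Nat.card (P : Subgroup G) ∣ (cl z).card - t := Int.natCast_dvd_natCast.1 hd2
    have hpP : p ∣ Nat.card (P : Subgroup G) := by
      rw [hkP]
      rcases Nat.eq_zero_or_pos kP with h | h
      · exact absurd (Subgroup.mem_bot.1 ((Subgroup.card_eq_one.1 (by rw [hkP, h, pow_zero]) :
          (P : Subgroup G) = ⊥) ▸ hZP hz)) hz1
      · exact dvd_pow_self p h.ne'
    have hpc : p ∣ (cl z).card := by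
      have hle : t ≤ (cl z).card := Finset.card_le_card hsub
      rw [← Nat.sub_add_cancel hle]
      exact dvd_add (hpP.trans hd3) hdt
    rw [CfsgLib.Char.card_filter_isConj] at hpc
    refine P.not_dvd_index (hpc.trans (Subgroup.index_dvd_of_le fun y hy => ?_))
    exact Subgroup.mem_centralizer_singleton_iff.2 (hZc z hz y hy).symm
  have hco : IsCoprime (Nat.card (P : Subgroup G) : ℤ) (t : ℤ) := Int.isCoprime_iff_nat_coprime.2 (by
    rw [Int.natAbs_natCast, Int.natAbs_natCast, hkP]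
    exact ((Nat.Prime.coprime_iff_not_dvd Fact.out).2 hpt).pow_left kP)
  exact hco.dvd_of_dvd_mul_left hdvd

end Cfsg.Agent.S1523
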