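import Cfsg.Statements.S1525
import Cfsg.Agent.Char.Dade
import Mathlib.Algebra.Order.Chebyshev

set_option autoImplicit false
open Cfsg

namespace Cfsg.Agent.S1525

/-- Under the Dade hypothesis for (A, L, H), let χ be a class function of G and let ψ be a function on L whose value at each a ∈ A is the average of χ over the coset a·H(a). Then (1/|G|) Σ |χ g|² over the elements g of G conjugate into some coset a·H(a) with a ∈ A is at least (1/|L|) Σ_{a ∈ A ∩ L} |ψ a|². -/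
theorem result {G : Type*} [Group G] [Fintype G] (A : Set G) (L : Subgroup G) [Fintype L] (H : G → Subgroup G) (hD : Cfsg.DadeHypothesis A L H) (χ : G → ℂ) (hχ : Cfsg.IsClassFunction G χ) (ψ : L → ℂ) (hψ : ∀ a : L, (a : G) ∈ A → ψ a = (Nat.card (H a) : ℂ)⁻¹ * ∑ᶠ u ∈ (H a : Set G), χ (a * u)) : (Nat.card L : ℝ)⁻¹ * ∑ᶠ a ∈ {a : L | (a : G) ∈ A}, ‖ψ a‖ ^ 2 ≤ (Nat.card G : ℝ)⁻¹ * ∑ᶠ g ∈ {g : G | ∃ a ∈ A, ∃ u ∈ H a, ∃ x : G, x * g * x⁻¹ = a * u}, ‖χ g‖ ^ 2 := by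
  classical
  have hF : Cfsg.IsClassFunction G (fun g => ((‖χ g‖ ^ 2 : ℝ) : ℂ)) := fun g h => by
    show ((‖χ _‖ ^ 2 : ℝ) : ℂ) = _
    rw [hχ g h]
  have hc := CfsgLib.Dade.card_mul_sum hD _ hF
  rw [finsum_mem_eq_finite_toFinset_sum _ (Set.toFinite _),
    finsum_mem_eq_finite_toFinset_sum _ (Set.toFinite _), Set.Finite.toFinset_ofPred,
    Set.Finite.toFinset_ofPred]
  simp only [finsum_mem_eq_finite_toFinset_sum _ (Set.toFinite _), ← Complex.ofReal_sum,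
    ← Complex.ofReal_natCast, ← Complex.ofReal_inv, ← Complex.ofReal_mul, Complex.ofReal_inj] at hc
  have hL : (0 : ℝ) < Nat.card L := Nat.cast_pos.2 Nat.card_pos
  have hG : (0 : ℝ) < Nat.card G := Nat.cast_pos.2 Nat.card_pos
  rw [inv_mul_le_iff₀ hL]
  refine le_trans ?_ (le_of_eq (show _ = (Nat.card L : ℝ) * ((Nat.card G : ℝ)⁻¹ * _) by
    rw [mul_left_comm, ← hc, ← mul_assoc, inv_mul_cancel₀ hG.ne', one_mul]))
  refine Finset.sum_le_sum fun a ha => ?_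
  replace ha : (a : G) ∈ A := by simpa using ha
  rw [hψ a ha, finsum_mem_eq_finite_toFinset_sum _ (Set.toFinite _), norm_mul, norm_inv,
    Complex.norm_natCast, mul_pow]
  set s := (H (a : G) : Set G).toFinite.toFinset
  have hs : (s.card : ℝ) = Nat.card (H (a : G)) := by
    rw [← Set.ncard_eq_toFinset_card, ← Nat.card_coe_set_eq]; rfl
  have hpos : (0 : ℝ) < Nat.card (H (a : G)) := Nat.cast_pos.2 Nat.card_pos
  calc ((Nat.card (H (a : G)) : ℝ)⁻¹) ^ 2 * ‖∑ u ∈ s, χ ((a : G) * u)‖ ^ 2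
      ≤ ((Nat.card (H (a : G)) : ℝ)⁻¹) ^ 2 * (∑ u ∈ s, ‖χ ((a : G) * u)‖) ^ 2 := by
        gcongr; exact norm_sum_le _ _
    _ ≤ ((Nat.card (H (a : G)) : ℝ)⁻¹) ^ 2 * (s.card * ∑ u ∈ s, ‖χ ((a : G) * u)‖ ^ 2) := by
        gcongr; exact sq_sum_le_card_mul_sum_sq
    _ = _ := by rw [hs]; field_simp

end Cfsg.Agent.S1525
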