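import Cfsg.Statements.S1526
import Cfsg.Agent.Char.NoCover

set_option autoImplicit false
open Cfsg

namespace Cfsg.Agent.S1526

/-- Let G be a finite group of odd order and (L i, H i), i in a finite index type with at least two elements, pairs of subgroups with H i a nontrivial proper normal subgroup of L i such that every non-identity element of H i has its centraliser within L i contained in H i (L i is a Frobenius group with kernel H i), the orders of the H i pairwise coprime, and the underlying set of each H i a TI-subset of G with normaliser L i. If every non-identity element of G is conjugate to an element of some H i, we reach a contradiction. -/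
theorem result {G : Type*} [Group G] [Finite G] (hodd : Odd (Nat.card G)) {ι : Type*} [Fintype ι] (hι : 2 ≤ Fintype.card ι) (L H : ι → Subgroup G) (hHL : ∀ i, H i < L i) (hH1 : ∀ i, H i ≠ ⊥) (hHn : ∀ i, ∀ x ∈ L i, ∀ h ∈ H i, x * h * x⁻¹ ∈ H i) (hfrob : ∀ i, ∀ h ∈ H i, h ≠ 1 → L i ⊓ Subgroup.centralizer ({h} : Set G) ≤ H i) (hcop : ∀ i j, i ≠ j → Nat.Coprime (Nat.card (H i)) (Nat.card (H j))) (hTI : ∀ i, Cfsg.IsTISubset (H i : Set G) ∧ Subgroup.normalizer (H i : Set G) = L i) (hcover : ∀ g : G, g ≠ 1 → ∃ i, ∃ x : G, x * g * x⁻¹ ∈ H i) : False := by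
  classical
  letI := Fintype.ofFinite G
  have hcent : ∀ i, ∀ h ∈ H i, h ≠ 1 → ∀ x : G, x * h = h * x → x ∈ H i := by
    intro i h hh h1 x hx
    have hxL : x ∈ L i := by
      rw [← (hTI i).2]
      by_contra hn
      refine h1 ((hTI i).1 x hn h hh ?_)
      rw [hx, mul_inv_cancel_right]
      exact hh
    exact hfrob i h hh h1 (Subgroup.mem_inf.2 ⟨hxL, Subgroup.mem_centralizer_singleton_iff.2 hx⟩)
  have hne : Nonempty ι := Fintype.card_pos_iff.1 (by omega)
  refine CfsgLib.NoCover.no_cover hodd hne (fun i => ⟨L i, H i, hHL i, hH1 i, hHn i, hcent i, fun g hg x hx hgx => (hTI i).1 g (by rw [(hTI i).2]; exact hg) x hx hgx⟩) hcop fun g hg => ?_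
  obtain ⟨i, x, hx⟩ := hcover g hg
  exact ⟨i, x⁻¹, by rwa [inv_inv]⟩


end Cfsg.Agent.S1526
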