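import Cfsg.Statements.S1527
import Cfsg.Agent.Char.Rep
import Mathlib.GroupTheory.Index
import Mathlib.Data.Fintype.BigOperators

set_option autoImplicit false
open Cfsg

namespace Cfsg.Agent.S1527

/-- Let G be a finite group and H i (i in a finite index type) subgroups of pairwise coprime orders, each of whose underlying sets is a TI-subset of G, such that every non-identity element of G is conjugate to an element of some H i. Then Nat.card G − 1 = Σ_i [G : N_G(H i)] · (Nat.card (H i) − 1). -/
theorem result {G : Type*} [Group G] [Finite G] {ι : Type*} [Fintype ι] (H : ι → Subgroup G) (hcop : ∀ i j, i ≠ j → Nat.Coprime (Nat.card (H i)) (Nat.card (H j))) (hTI : ∀ i, Cfsg.IsTISubset (H i : Set G)) (hcover : ∀ g : G, g ≠ 1 → ∃ i, ∃ x : G, x * g * x⁻¹ ∈ H i) : Nat.card G - 1 = ∑ i, (Subgroup.normalizer (H i : Set G)).index * (Nat.card (H i) - 1) := by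
  classical
  haveI := Fintype.ofFinite G
  let N : ι → Subgroup G := fun i => Subgroup.normalizer (H i : Set G)
  let f : (Σ i, (G ⧸ N i) × {u : H i // u ≠ 1}) → {g : G // g ≠ 1} := fun t =>
    ⟨(t.2.1.out : G) * ((t.2.2.1 : H t.1) : G) * (t.2.1.out : G)⁻¹, fun e => t.2.2.2 (by
      simpa using e)⟩
  have hb : Function.Bijective f := by
    constructor
    · rintro ⟨i, q, u, hu⟩ ⟨j, r, v, hv⟩ e
      have e1 : (q.out : G) * u * (q.out : G)⁻¹ = (r.out : G) * v * (r.out : G)⁻¹ :=
        congrArg Subtype.val e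
      have hij : i = j := by
        by_contra hne
        have h1 : orderOf (u : G) = orderOf (v : G) := by
          have := congrArg orderOf e1
          rwa [← MulAut.conj_apply, ← MulAut.conj_apply, MulEquiv.orderOf_eq, MulEquiv.orderOf_eq] at this
        have h2 : orderOf (u : G) = 1 := Nat.eq_one_of_dvd_coprimes (hcop i j hne)
          (Subgroup.orderOf_dvd_natCard _ u.2) (h1 ▸ Subgroup.orderOf_dvd_natCard _ v.2)
        exact hu (Subtype.ext (orderOf_eq_one_iff.1 h2))
      subst hij
      have hqr : q = r := by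
        by_contra hne
        have hg : (r.out : G)⁻¹ * q.out ∉ N i := fun h => hne (by
          rw [← QuotientGroup.out_eq' q, ← QuotientGroup.out_eq' r, QuotientGroup.eq]
          simpa using inv_mem h)
        refine hu (Subtype.ext (hTI i _ hg u u.2 ?_))
        rw [show (r.out : G)⁻¹ * q.out * u * ((r.out : G)⁻¹ * q.out)⁻¹ =
          (r.out : G)⁻¹ * ((q.out : G) * u * (q.out : G)⁻¹) * r.out by group, e1]
        simpa [mul_assoc] using v.2
      subst hqr
      simp only [mul_left_inj, mul_right_inj] at e1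
      have huv : u = v := Subtype.ext e1
      subst huv
      rfl
    · rintro ⟨g, hg⟩
      obtain ⟨i, x, hx⟩ := hcover g hg
      let q : G ⧸ N i := QuotientGroup.mk x⁻¹
      have hn : (x * q.out)⁻¹ ∈ N i := inv_mem (by
        have := QuotientGroup.eq.1 (QuotientGroup.out_eq' q).symm
        simpa using this)
      refine ⟨⟨i, q, ⟨(x * q.out)⁻¹ * (x * g * x⁻¹) * (x * q.out)⁻¹⁻¹,
        (Subgroup.mem_normalizer_iff.1 hn _).1 hx⟩, fun e => hg (by
          have h' : (x * q.out)⁻¹ * (x * g * x⁻¹) * (x * q.out)⁻¹⁻¹ = 1 := congrArg Subtype.val e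
          rwa [conj_eq_one_iff, conj_eq_one_iff] at h')⟩, Subtype.ext ?_⟩
      show (q.out : G) * ((x * q.out)⁻¹ * (x * g * x⁻¹) * (x * q.out)⁻¹⁻¹) * (q.out : G)⁻¹ = g
      group
  have hc := Nat.card_congr (Equiv.ofBijective f hb)
  rw [Nat.card_sigma, Nat.card_eq_fintype_card (α := {g : G // g ≠ 1}),
    Fintype.card_subtype_compl, Fintype.card_subtype_eq, ← Nat.card_eq_fintype_card] at hc
  rw [← hc]
  refine Finset.sum_congr rfl fun i _ => ?_
  rw [Nat.card_prod, Subgroup.index, Nat.card_eq_fintype_card (α := {u : H i // u ≠ 1}),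
    Fintype.card_subtype_compl, Fintype.card_subtype_eq, ← Nat.card_eq_fintype_card]

end Cfsg.Agent.S1527
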