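import Cfsg.Statements.S1528
import Cfsg.Agent.Char.PermLemma
import Cfsg.Agent.Char.Monomial

set_option autoImplicit false
open Cfsg

namespace Cfsg.Agent.S1528
open scoped CfsgLib.Char


/-- Let N be a normal subgroup of the finite group G such that every element of G commuting with a non-identity element of N lies in N. If χ is an irreducible character of G with χ n ≠ χ 1 for some n ∈ N, then χ is the function induced from some irreducible character of N. -/
theorem result {G : Type*} [Group G] [Fintype G] (N : Subgroup G) [N.Normal] (hC : ∀ n ∈ N, n ≠ 1 → Subgroup.centralizer ({n} : Set G) ≤ N) (χ : G → ℂ) (hχ : Cfsg.IsIrrCharacter G χ) (hker : ∃ n ∈ N, χ n ≠ χ 1) : ∃ φ : N → ℂ, Cfsg.IsIrrCharacter N φ ∧ χ = Cfsg.indFun N φ := by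
  classical
  haveI : Fintype N := Fintype.ofFinite N
  open CfsgLib.Char in
  · obtain ⟨θ, hθ, hc⟩ := exists_constituent_res (N := N) hχ
    refine ⟨θ, hθ, ?_⟩
    have hθ1 : θ ≠ fun _ => 1 := by
      rintro rfl
      obtain ⟨n, hn, hne⟩ := hker
      have h := res_homogeneous hχ hθ hc (fun g => funext fun _ => rfl)
      have h1 := congrFun h ⟨n, hn⟩
      have h2 := congrFun h 1
      simp only [Pi.smul_apply, OneMemClass.coe_one] at h1 h2
      exact hne (h1.trans h2.symm)
    have hinert : inertia θ = N := by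
      refine le_antisymm (fun g hg => ?_) (le_inertia (classFun_of_irr hθ))
      by_contra hgN
      let f : N → N := fun n => ⟨g * n * g⁻¹, ‹N.Normal›.conj_mem n n.2 g⟩
      have h := card_fixed_irr_eq_classes f fun χ' => irr_conjN χ'.2 g
      have h1 : Nat.card {K : ConjClasses N // ∀ n, ConjClasses.mk n = K → ConjClasses.mk (f n) = K} ≤ 1 := by
        refine Finite.card_le_one_iff_subsingleton.2 ⟨fun a b => Subtype.ext ?_⟩
        have key : ∀ K : {K : ConjClasses N // ∀ n, ConjClasses.mk n = K → ConjClasses.mk (f n) = K},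
            K.1 = ConjClasses.mk 1 := by
          rintro ⟨K, hK⟩
          obtain ⟨n, rfl⟩ := ConjClasses.exists_rep K
          obtain ⟨m, hm⟩ := isConj_iff.1 (ConjClasses.mk_eq_mk_iff_isConj.1 (hK n rfl).symm)
          have e : (m : G) * n * (m : G)⁻¹ = g * n * g⁻¹ := congrArg Subtype.val hm
          by_contra hn1
          have hn1' : (n : G) ≠ 1 := fun e => hn1 (congrArg ConjClasses.mk (Subtype.ext e : n = 1))
          have hmem : (m : G)⁻¹ * g ∈ N := hC n n.2 hn1' (by
            rw [Subgroup.mem_centralizer_singleton_iff]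
            calc (m : G)⁻¹ * g * n = (m : G)⁻¹ * (g * n * g⁻¹) * g := by group
              _ = n * ((m : G)⁻¹ * g) := by rw [← e]; group)
          exact hgN (by simpa using mul_mem m.2 hmem)
        rw [key a, key b]
      have h2 : 1 < Nat.card {χ' : IrrCharacter N // (χ' : N → ℂ) ∘ f = (χ' : N → ℂ)} :=
        (Finite.one_lt_card_iff_nontrivial.2 ⟨⟨⟨θ, hθ⟩, mem_inertia.1 hg⟩,
          ⟨⟨fun _ => 1, isIrr_one⟩, rfl⟩, fun e => hθ1 (congrArg (fun x => (x.1 : N → ℂ)) e)⟩)
      omega
    have hnorm := norm_indFun hθ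
    rw [hinert, div_self (natCard_ne_zero N)] at hnorm
    have hirr := isIrr_of_char_norm (isCharacter_indFun N (isCharacter_of_isIrr hθ)) hnorm
    have hne : classInner (indFun N θ) χ ≠ 0 := fun e => hc (by
      rw [← classInner_conj, ← frobenius N θ (classFun_of_irr hχ), e, map_zero])
    by_contra he
    exact hne (irr_inner_ne hirr hχ fun e => he e.symm)

end Cfsg.Agent.S1528
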