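import Cfsg.Statements.S1529
import Cfsg.Agent.Char.Orth

set_option autoImplicit false
open Cfsg

namespace Cfsg.Agent.S1529
open scoped CfsgLib.Char


/-- Let N be a subgroup of the finite group G, S a set of irreducible characters of N with at least two members, and τ₁ a linear isometry on the integer combinations of S with virtual-character values such that τ₁ α vanishes at 1 whenever α ∈ ℤ[S] does. Then there is ε ∈ {1, −1} such that ε • τ₁ χ is an irreducible character of G for every χ ∈ S, and distinct members of S give distinct characters. -/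
theorem result {G : Type*} [Group G] [Fintype G] (N : Subgroup G) [Fintype N] (S : Set (N → ℂ)) (hirr : ∀ χ ∈ S, Cfsg.IsIrrCharacter N χ) (htwo : ∃ χ ∈ S, ∃ ψ ∈ S, χ ≠ ψ) (τ₁ : (N → ℂ) → (G → ℂ)) (hτ₁ : Cfsg.IsLinearIsometryOn (Cfsg.zspan S) τ₁) (h0 : ∀ α ∈ Cfsg.zspan S, α 1 = 0 → τ₁ α 1 = 0) : ∃ ε : ℂ, (ε = 1 ∨ ε = -1) ∧ (∀ χ ∈ S, Cfsg.IsIrrCharacter G (ε • τ₁ χ)) ∧ (∀ χ ∈ S, ∀ ψ ∈ S, τ₁ χ = τ₁ ψ → χ = ψ) := by
  classical
  obtain ⟨hadd, hsmul, hiso, hgen⟩ := hτ₁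
  open CfsgLib.Char in
  · obtain ⟨χ₀, hχ₀, -⟩ := htwo
    have hmem : ∀ χ ∈ S, χ ∈ Cfsg.zspan S := fun χ h => Submodule.subset_span h
    have hsgn : ∀ χ ∈ S, Cfsg.IsIrrCharacter G (τ₁ χ) ∨ Cfsg.IsIrrCharacter G (-τ₁ χ) := fun χ h =>
      isIrr_or_neg_of_norm (hgen χ (hmem χ h)) (by rw [hiso χ (hmem χ h) χ (hmem χ h), irr_inner_self (hirr χ h)])
    have hval : ∀ χ ∈ S, ∀ ψ ∈ S, ψ 1 * τ₁ χ 1 = χ 1 * τ₁ ψ 1 := by
      intro χ hχ ψ hψ
      obtain ⟨a, -, ha⟩ := irr_deg (hirr χ hχ)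
      obtain ⟨b, -, hb⟩ := irr_deg (hirr ψ hψ)
      have hmα : (b : ℤ) • χ ∈ Cfsg.zspan S := Submodule.smul_mem _ _ (hmem χ hχ)
      have hmβ : (-(a : ℤ)) • ψ ∈ Cfsg.zspan S := Submodule.smul_mem _ _ (hmem ψ hψ)
      have h := h0 _ (Submodule.add_mem _ hmα hmβ) (by simp [ha, hb]; ring)
      rw [hadd _ hmα _ hmβ, hsmul χ (hmem χ hχ), hsmul ψ (hmem ψ hψ)] at h
      simp [zsmul_eq_mul] at h
      rw [ha, hb]
      linear_combination h
    obtain ⟨ε, hε, hε₀⟩ : ∃ ε : ℂ, (ε = 1 ∨ ε = -1) ∧ Cfsg.IsIrrCharacter G (ε • τ₁ χ₀) := by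
      rcases hsgn χ₀ hχ₀ with h | h
      · exact ⟨1, Or.inl rfl, by simpa using h⟩
      · exact ⟨-1, Or.inr rfl, by simpa using h⟩
    refine ⟨ε, hε, fun χ hχ => ?_, fun χ hχ ψ hψ e => ?_⟩
    · obtain ⟨a, ha, hav⟩ := irr_deg (hirr χ₀ hχ₀)
      obtain ⟨b, hb, hbv⟩ := irr_deg (hirr χ hχ)
      obtain ⟨c, hc, hcv⟩ := irr_deg hε₀
      have h := hval χ hχ χ₀ hχ₀
      rw [hav, hbv] at h
      simp only [Pi.smul_apply, smul_eq_mul] at hcv
      have hbad : ∀ f : G → ℂ, Cfsg.IsIrrCharacter G f → f = -(ε • τ₁ χ) → False := by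
        intro f hf he
        obtain ⟨d, hd, hdv⟩ := irr_deg hf
        rw [he] at hdv
        simp only [Pi.neg_apply, Pi.smul_apply, smul_eq_mul] at hdv
        have h0 : ((a * d + b * c : ℕ) : ℂ) = 0 := by
          push_cast
          linear_combination (-(a : ℂ)) * hdv - ε * h - (b : ℂ) * hcv
        rw [Nat.cast_eq_zero] at h0
        have := Nat.mul_pos ha hd
        omega
      rcases hsgn χ hχ with h' | h' <;> rcases hε with rfl | rfl
      · simpa using h'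
      · exact (hbad _ h' (by simp)).elim
      · exact (hbad _ h' (by simp)).elim
      · simpa using h'
    · by_contra hne
      have h1 := hiso χ (hmem χ hχ) ψ (hmem ψ hψ)
      rw [e, hiso ψ (hmem ψ hψ) ψ (hmem ψ hψ), irr_inner_self (hirr ψ hψ), irr_inner_ne (hirr χ hχ) (hirr ψ hψ) hne] at h1
      exact one_ne_zero h1

end Cfsg.Agent.S1529
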