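import Cfsg.Statements.S1530
import Cfsg.Agent.Char.Coherence

set_option autoImplicit false
open Cfsg

namespace Cfsg.Agent.S1530
open scoped CfsgLib.Char ComplexConjugate


/-- Let N be a subgroup of the finite group G and S₀ a finite set of irreducible characters of N, χ an irreducible character of N not in S₀, with degrees ξ 1 = d ξ. Let τ be a linear isometry on the integer combinations of S₀ ∪ {χ} vanishing at 1, with values virtual characters of G vanishing at 1, such that (S₀, N minus 1, τ) is coherent. If some ψ ∈ S₀ has d ψ dividing d χ and 2 · d ψ · d χ < Σ_{ξ ∈ S₀} (d ξ)², then (S₀ ∪ {χ}, N minus 1, τ) is coherent. -/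
theorem result {G : Type*} [Group G] [Fintype G] (N : Subgroup G) [Fintype N] (S₀ : Finset (N → ℂ)) (χ : N → ℂ) (hirr : ∀ ξ ∈ S₀, Cfsg.IsIrrCharacter N ξ) (hχ : Cfsg.IsIrrCharacter N χ) (hχS : χ ∉ S₀) (d : (N → ℂ) → ℕ) (hd : ∀ ξ ∈ insert χ S₀, ξ 1 = (d ξ : ℂ)) (τ : (N → ℂ) → (G → ℂ)) (hτ : Cfsg.IsLinearIsometryOn (Cfsg.zspanOn (↑(insert χ S₀) : Set (N → ℂ)) {1}ᶜ) τ) (hτ1 : ∀ α ∈ Cfsg.zspanOn (↑(insert χ S₀) : Set (N → ℂ)) {1}ᶜ, τ α 1 = 0) (hcoh : Cfsg.IsCoherent (↑S₀ : Set (N → ℂ)) {1}ᶜ τ) (ψ : N → ℂ) (hψ : ψ ∈ S₀) (hdvd : d ψ ∣ d χ) (hlt : 2 * d ψ * d χ < ∑ ξ ∈ S₀, d ξ ^ 2) : Cfsg.IsCoherent (↑(insert χ S₀) : Set (N → ℂ)) {1}ᶜ τ := by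
  classical
  obtain ⟨⟨α₀, hα₀, hα₀ne⟩, τ₁, hτ₁, hagree⟩ := hcoh
  open CfsgLib.Coh CfsgLib.Char in
  · have hψin : ψ ∈ insert χ S₀ := Finset.mem_insert_of_mem hψ
    have hχin : χ ∈ insert χ S₀ := Finset.mem_insert_self χ S₀
    have hdψ : 0 < d ψ := by
      obtain ⟨k, hk, hk'⟩ := irr_deg (hirr ψ hψ)
      rw [hd ψ hψin, Nat.cast_inj] at hk'
      omega
    obtain ⟨a, ha⟩ := hdvd
    have ha0 : 0 < a := by
      obtain ⟨k, hk, hk'⟩ := irr_deg hχ
      rw [hd χ hχin, Nat.cast_inj, ha] at hk'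
      subst hk'
      exact Nat.pos_of_mul_pos_left hk
    have hi₀ : ∀ ξ ∈ insert χ S₀, Cfsg.IsIrrCharacter N ξ := fun ξ hξ => by
      rcases Finset.mem_insert.1 hξ with rfl | h
      exacts [hχ, hirr ξ h]
    have horth : ∀ ξ ∈ insert χ S₀, ∀ η ∈ insert χ S₀, ξ ≠ η → classInner ξ η = 0 := fun ξ hξ η hη hne =>
      irr_inner_ne (hi₀ ξ hξ) (hi₀ η hη) hne
    have hmem : ∀ ξ ∈ S₀, ξ ∈ Cfsg.zspan (S₀ : Set (N → ℂ)) := fun ξ hξ => mem_zspan (Finset.mem_coe.2 hξ)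
    set θ := χ - (a : ℤ) • ψ with hθdef
    have hθ : θ ∈ Cfsg.zspanOn (↑(insert χ S₀) : Set (N → ℂ)) {1}ᶜ := by
      refine ⟨Submodule.sub_mem _ (mem_zspan (Finset.mem_coe.2 hχin))
        (Submodule.smul_mem _ _ (mem_zspan (Finset.mem_coe.2 hψin))), fun x hx => ?_⟩
      obtain rfl : x = 1 := by simpa using hx
      simp [θ, hd χ hχin, hd ψ hψin, ha, mul_comm]
    set β := τ θ with hβdef
    have hβg : Cfsg.IsGeneralizedCharacter G β := hτ.2.2.2 θ hθ
    have hβn : classInner β β = (((1 + (a : ℤ) * a : ℤ)) : ℂ) := by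
      rw [hβdef, hτ.2.2.1 θ hθ θ hθ]
      simp only [θ, classInner_sub_left, classInner_sub_right, ← Int.cast_smul_eq_zsmul ℂ, classInner_smul_left,
        classInner_smul_right, irr_inner_self hχ, irr_inner_self (hirr ψ hψ),
        horth χ hχin ψ hψin (fun e => hχS (e ▸ hψ)), horth ψ hψin χ hχin (fun e => hχS (e ▸ hψ))]
      push_cast
      simp
    have hTg : ∀ ξ ∈ S₀, Cfsg.IsGeneralizedCharacter G (τ₁ ξ) := fun ξ hξ => hτ₁.2.2.2 ξ (hmem ξ hξ)
    have hTT : ∀ ξ ∈ S₀, ∀ η ∈ S₀, classInner (τ₁ ξ) (τ₁ η) = if ξ = η then 1 else 0 := by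
      intro ξ hξ η hη
      rw [hτ₁.2.2.1 ξ (hmem ξ hξ) η (hmem η hη)]
      exact irr_inner (hirr ξ hξ) (hirr η hη) |>.trans (if_congr Iff.rfl rfl rfl)
    have hTlin : ∀ ξ ∈ S₀, τ ((d ψ : ℤ) • ξ - (d ξ : ℤ) • ψ) = (d ψ : ℤ) • τ₁ ξ - (d ξ : ℤ) • τ₁ ψ := by
      intro ξ hξ
      rw [← hagree _ (degZero_mem d (fun φ hφ => hd φ (Finset.mem_insert_of_mem hφ)) (Finset.mem_coe.2 hξ) (Finset.mem_coe.2 hψ)),
        sub_eq_add_neg, ← neg_smul, hτ₁.1 _ (Submodule.smul_mem _ _ (hmem ξ hξ)) _ (Submodule.smul_mem _ _ (hmem ψ hψ)),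
        hτ₁.2.1 _ (hmem ξ hξ), hτ₁.2.1 _ (hmem ψ hψ), neg_smul, ← sub_eq_add_neg]
    have hu' : ∀ ξ ∈ S₀, ∃ z : ℤ, classInner β (τ₁ ξ) = z := fun ξ hξ => inner_int hβg (hTg ξ hξ)
    choose! u hu using hu'
    set k : ℤ := u ψ + a with hk
    have hrel : ∀ ξ ∈ S₀, ξ ≠ ψ → (d ψ : ℤ) * u ξ = (d ξ : ℤ) * k := by
      intro ξ hξ hne
      have hξin : ξ ∈ insert χ S₀ := Finset.mem_insert_of_mem hξ
      have hmem' := degZero_mem (S := (↑(insert χ S₀) : Set (N → ℂ))) d hd (Finset.mem_coe.2 hξin) (Finset.mem_coe.2 hψin)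
      have h := hτ.2.2.1 θ hθ _ hmem'
      rw [hTlin ξ hξ, ← hβdef] at h
      simp only [θ, classInner_sub_left, classInner_sub_right, ← Int.cast_smul_eq_zsmul ℂ, classInner_smul_left,
        classInner_smul_right, hu ξ hξ, hu ψ hψ, irr_inner_self (hirr ψ hψ),
        horth χ hχin ψ hψin (fun e => hχS (e ▸ hψ)), horth χ hχin ξ hξin (fun e => hχS (e ▸ hξ)),
        horth ψ hψin ξ hξin (Ne.symm hne), map_intCast, Int.cast_natCast] at h
      have h' : (((d ψ : ℤ) * u ξ : ℤ) : ℂ) = (((d ξ : ℤ) * k : ℤ) : ℂ) := by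
        simp only [map_natCast] at h
        rw [hk]; push_cast
        linear_combination h
      exact_mod_cast h'
    set P := ∑ ξ ∈ S₀, (u ξ) • τ₁ ξ with hP
    set X := β - P with hX
    have hPg : Cfsg.IsGeneralizedCharacter G P :=
      Finset.sum_induction _ (Cfsg.IsGeneralizedCharacter G) (fun x y hx hy => by
        have := gen_sub hx (gen_zsmul hy (-1))
        simpa using this) ⟨0, 0, isCharacter_zero, isCharacter_zero, by simp⟩ fun ξ hξ => gen_zsmul (hTg ξ hξ) _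
    have hXg : Cfsg.IsGeneralizedCharacter G X := gen_sub hβg hPg
    have hPT : ∀ η ∈ S₀, classInner P (τ₁ η) = (u η : ℂ) := by
      intro η hη
      rw [hP, classInner_sum_left, Finset.sum_eq_single η]
      · rw [← Int.cast_smul_eq_zsmul ℂ, classInner_smul_left, hTT η hη η hη, if_pos rfl, mul_one]
      · intro ξ hξ hne
        rw [← Int.cast_smul_eq_zsmul ℂ, classInner_smul_left, hTT ξ hξ η hη, if_neg hne, mul_zero]
      · intro h; exact absurd hη h
    have hXT : ∀ η ∈ S₀, classInner X (τ₁ η) = 0 := fun η hη => by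
      rw [hX, classInner_sub_left, hu η hη, hPT η hη, sub_self]
    have hXP : classInner X P = 0 := by
      rw [hP, classInner_sum_right]
      exact Finset.sum_eq_zero fun η hη => by
        rw [← Int.cast_smul_eq_zsmul ℂ, classInner_smul_right, hXT η hη, mul_zero]
    have hPP : classInner P P = ((∑ ξ ∈ S₀, u ξ * u ξ : ℤ) : ℂ) := by
      nth_rewrite 2 [hP]
      rw [classInner_sum_right, Int.cast_sum]
      refine Finset.sum_congr rfl fun η hη => ?_
      rw [← Int.cast_smul_eq_zsmul ℂ, classInner_smul_right, hPT η hη, map_intCast]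
      push_cast; ring
    have hXX : classInner X X = ((1 + (a : ℤ) * a - ∑ ξ ∈ S₀, u ξ * u ξ : ℤ) : ℂ) := by
      have hP' : classInner P X = 0 := by rw [← classInner_conj, hXP, map_zero]
      have hb : β = X + P := by rw [hX]; abel
      have h := hβn
      rw [hb, classInner_add_left, classInner_add_right, classInner_add_right, hXP, hP', hPP] at h
      push_cast at h ⊢
      linear_combination h
    obtain ⟨zX, hzX⟩ := inner_int hXg hXg
    have hzX0 : 0 ≤ zX := by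
      have h := congrArg Complex.re hzX
      rw [classInner_self_re, Complex.intCast_re] at h
      have h0 : (0 : ℝ) ≤ (zX : ℝ) := by rw [← h]; positivity
      exact_mod_cast h0
    have hzXe : zX = 1 + (a : ℤ) * a - ∑ ξ ∈ S₀, u ξ * u ξ := by
      have h := hzX.symm.trans hXX
      exact_mod_cast h
    -- the coefficient vanishes
    have hk0 : k = 0 := by
      by_contra hk0
      have hsum : (d ψ : ℤ) * d ψ * (∑ ξ ∈ S₀, u ξ * u ξ) =
          k * k * (∑ ξ ∈ S₀, (d ξ : ℤ) * d ξ) + (d ψ : ℤ) * d ψ * (a * a - 2 * a * k) := by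
        rw [Finset.mul_sum, Finset.mul_sum, ← Finset.add_sum_erase _ _ hψ, ← Finset.add_sum_erase _ _ hψ]
        have hu0 : u ψ = k - a := by rw [hk]; ring
        have hrest : ∑ ξ ∈ S₀.erase ψ, (d ψ : ℤ) * d ψ * (u ξ * u ξ) = ∑ ξ ∈ S₀.erase ψ, k * k * ((d ξ : ℤ) * d ξ) := by
          refine Finset.sum_congr rfl fun ξ hξ => ?_
          have h := hrel ξ (Finset.mem_of_mem_erase hξ) (Finset.ne_of_mem_erase hξ)
          linear_combination ((d ψ : ℤ) * u ξ + (d ξ : ℤ) * k) * h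
        rw [hrest, hu0]; ring
      have hlt' : 2 * (d ψ : ℤ) * d χ < ∑ ξ ∈ S₀, (d ξ : ℤ) * d ξ := by
        have : ((2 * d ψ * d χ : ℕ) : ℤ) < ((∑ ξ ∈ S₀, d ξ ^ 2 : ℕ) : ℤ) := by exact_mod_cast hlt
        push_cast at this
        simpa [sq] using this
      rw [ha] at hlt'
      push_cast at hlt'
      set D := ∑ ξ ∈ S₀, (d ξ : ℤ) * d ξ with hD
      have hp : (0 : ℤ) < d ψ := by exact_mod_cast hdψ
      have hle : ∑ ξ ∈ S₀, u ξ * u ξ ≤ 1 + (a : ℤ) * a := by omega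
      have key : k * k * D - (d ψ : ℤ) * d ψ * (2 * a * k) ≤ (d ψ : ℤ) * d ψ := by
        have := mul_le_mul_of_nonneg_left hle (mul_nonneg hp.le hp.le)
        rw [hsum] at this
        linarith
      have hk1 : k = 1 := by
        rcases lt_or_gt_of_ne hk0 with hneg | hpos
        · exfalso
          have h1 : (1 : ℤ) ≤ k * k := by nlinarith
          have h2 : (d ψ : ℤ) * d ψ * (2 * a) ≤ (d ψ : ℤ) * d ψ * (2 * a) * (-k) := by
            have : (0 : ℤ) ≤ (d ψ : ℤ) * d ψ * (2 * a) := by positivity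
            nlinarith
          have h3 : (d ψ : ℤ) * d ψ * 2 ≤ (d ψ : ℤ) * d ψ * (2 * a) := by
            have : (1 : ℤ) ≤ a := by exact_mod_cast ha0
            nlinarith [mul_pos hp hp]
          nlinarith [mul_pos hp hp]
        · by_contra hne1
          have h2 : 2 ≤ k := by omega
          have hA : (1 : ℤ) ≤ (a : ℤ) := by exact_mod_cast ha0
          have hA2 : (1 : ℤ) ≤ (a : ℤ) * (k * k) := by nlinarith
          nlinarith [mul_lt_mul_of_pos_left hlt' (mul_pos (show (0 : ℤ) < k by omega) (show (0 : ℤ) < k by omega)),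
            mul_le_mul_of_nonneg_left hA2 (mul_nonneg hp.le hp.le),
            mul_nonneg (mul_nonneg hp.le hp.le) (mul_nonneg (show (0 : ℤ) ≤ a by omega) (mul_nonneg (show (0 : ℤ) ≤ k by omega) (show (0 : ℤ) ≤ k - 2 by omega))),
            mul_pos hp hp]
      rw [hk1] at key hsum
      have hdd : ∀ ξ ∈ S₀, (d ψ : ℤ) ∣ (d ξ : ℤ) := fun ξ hξ => by
        by_cases e : ξ = ψ
        · rw [e]
        · exact ⟨u ξ, by rw [hrel ξ hξ e, hk1, mul_one]⟩
      obtain ⟨D', hD'⟩ : (d ψ : ℤ) * d ψ ∣ D := Finset.dvd_sum fun ξ hξ => mul_dvd_mul (hdd ξ hξ) (hdd ξ hξ)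
      have hpp : (0 : ℤ) < (d ψ : ℤ) * d ψ := mul_pos hp hp
      rw [hD'] at key hlt' hsum
      have hD1 : D' = 2 * a + 1 := by
        have h1 : (d ψ : ℤ) * d ψ * (2 * a) < (d ψ : ℤ) * d ψ * D' := by linarith
        have h2 : (d ψ : ℤ) * d ψ * D' ≤ (d ψ : ℤ) * d ψ * (2 * a + 1) := by linarith
        have h3 := lt_of_mul_lt_mul_left h1 hpp.le
        have h4 := le_of_mul_le_mul_left h2 hpp
        omega
      have hX0 : X = 0 := by
        refine classInner_self_eq_zero ?_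
        rw [hXX]
        have h5 : ∑ ξ ∈ S₀, u ξ * u ξ = 1 + (a : ℤ) * a := by
          refine mul_left_cancel₀ hpp.ne' ?_
          rw [hsum, hD1]; ring
        rw [h5]; simp
      have hval : ∀ ξ ∈ S₀, (d ψ : ℂ) * τ₁ ξ 1 = (d ξ : ℂ) * τ₁ ψ 1 := by
        intro ξ hξ
        have h := hτ1 _ (degZero_mem (S := (↑(insert χ S₀) : Set (N → ℂ))) d hd
          (Finset.mem_coe.2 (Finset.mem_insert_of_mem hξ)) (Finset.mem_coe.2 hψin))
        rw [hTlin ξ hξ] at h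
        simp only [Pi.sub_apply, Pi.smul_apply, Pi.mul_apply, Pi.intCast_apply, Pi.natCast_apply, zsmul_eq_mul, Int.cast_natCast] at h
        linear_combination h
      have h1 := hτ1 θ hθ
      rw [← hβdef, show β = P by rw [← sub_eq_zero, ← hX, hX0], hP, Finset.sum_apply] at h1
      simp only [Pi.smul_apply, Pi.mul_apply, Pi.intCast_apply, Pi.natCast_apply, zsmul_eq_mul] at h1
      have h2 : ((d ψ : ℤ) * d ψ : ℤ) * ∑ ξ ∈ S₀, (u ξ : ℂ) * τ₁ ξ 1 =
          ((∑ ξ ∈ S₀, (d ξ : ℤ) * d ξ - (d ψ : ℤ) * d ψ * a : ℤ) : ℂ) * τ₁ ψ 1 := by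
        rw [← Finset.add_sum_erase _ _ hψ, ← Finset.add_sum_erase _ _ hψ]
        have hu0 : u ψ = 1 - a := by rw [← hk1, hk]; ring
        have hrest : ((d ψ : ℤ) * d ψ : ℤ) * (∑ ξ ∈ S₀.erase ψ, (u ξ : ℂ) * τ₁ ξ 1) =
            ((∑ ξ ∈ S₀.erase ψ, (d ξ : ℤ) * d ξ : ℤ) : ℂ) * τ₁ ψ 1 := by
          rw [Finset.mul_sum, Int.cast_sum, Finset.sum_mul]
          refine Finset.sum_congr rfl fun ξ hξ => ?_
          have h := hrel ξ (Finset.mem_of_mem_erase hξ) (Finset.ne_of_mem_erase hξ)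
          rw [hk1, mul_one] at h
          have hc : (d ψ : ℂ) * (u ξ : ℂ) = (d ξ : ℂ) := by exact_mod_cast h
          have hv := hval ξ (Finset.mem_of_mem_erase hξ)
          push_cast
          linear_combination ((d ψ : ℂ) * τ₁ ξ 1) * hc + (d ξ : ℂ) * hv
        rw [mul_add, hrest, hu0]
        push_cast; ring
      rw [h1, mul_zero, ← hD, hD', hD1] at h2
      have hne : ((((d ψ : ℤ) * d ψ * (2 * a + 1) - (d ψ : ℤ) * d ψ * a : ℤ)) : ℂ) ≠ 0 := by
        rw [Int.cast_ne_zero]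
        nlinarith
      exact norm_one_value (hTg ψ hψ) (by rw [hTT ψ hψ ψ hψ, if_pos rfl]) ((mul_eq_zero.1 h2.symm).resolve_left hne)
    have huz : ∀ ξ ∈ S₀, ξ ≠ ψ → u ξ = 0 := fun ξ hξ hne => by
      have h := hrel ξ hξ hne
      rw [hk0, mul_zero, mul_eq_zero] at h
      exact h.resolve_left (by exact_mod_cast hdψ.ne')
    have huψ : u ψ = -(a : ℤ) := by rw [hk] at hk0; omega
    have hPe : P = (-(a : ℤ)) • τ₁ ψ := by
      rw [hP, Finset.sum_eq_single ψ (fun ξ hξ hne => by rw [huz ξ hξ hne, zero_smul]) (fun h => absurd hψ h), huψ]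
    have hXn : classInner X X = 1 := by
      rw [hXX, Finset.sum_eq_single ψ (fun ξ hξ hne => by rw [huz ξ hξ hne, zero_mul]) (fun h => absurd hψ h), huψ]
      push_cast; ring
    let T : (N → ℂ) → (G → ℂ) := fun ξ => if ξ = χ then X else τ₁ ξ
    have hTne : ∀ ξ ∈ S₀, T ξ = τ₁ ξ := fun ξ hξ => if_neg fun (e : ξ = χ) => hχS (e ▸ hξ)
    have hTχ : T χ = X := if_pos rfl
    refine coherent_of_family (insert χ S₀) d hd horth (fun ξ hξ => by rw [irr_inner_self (hi₀ ξ hξ)]; exact one_ne_zero)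
      hτ ψ hψin hdψ T ?_ ?_ ?_ ?_
    · intro ξ hξ
      rcases Finset.mem_insert.1 hξ with rfl | h
      · rw [hTχ]; exact hXg
      · rw [hTne ξ h]; exact hTg ξ h
    · intro ξ hξ η hη
      rcases Finset.mem_insert.1 hξ with rfl | h <;> rcases Finset.mem_insert.1 hη with rfl | h'
      · rw [hTχ, hXn, irr_inner_self hχ]
      · rw [hTχ, hTne η h', hXT η h', horth _ hξ η hη fun e => hχS (e ▸ h')]
      · rw [hTne ξ h, hTχ, ← classInner_conj, hXT ξ h, map_zero, horth ξ hξ _ hη fun e => hχS (e ▸ h)]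
      · rw [hTne ξ h, hTne η h', hTT ξ h η h', irr_inner (hirr ξ h) (hirr η h')]
    · intro ξ hξ
      rcases Finset.mem_insert.1 hξ with rfl | h
      · rw [hTχ, hTne ψ hψ, ha]
        have e : (d ψ : ℤ) • ξ - ((d ψ * a : ℕ) : ℤ) • ψ = (d ψ : ℤ) • θ := by
          rw [hθdef, smul_sub, smul_smul, Nat.cast_mul]
        rw [e, hτ.2.1 θ hθ, ← hβdef, show β = X + P by rw [hX]; abel, hPe]
        rw [smul_add, smul_smul, Nat.cast_mul, mul_neg, neg_smul, ← sub_eq_add_neg]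
      · rw [hTne ξ h, hTne ψ hψ]; exact hTlin ξ h
    · exact ⟨α₀, zspanOn_mono (Finset.coe_subset.2 (Finset.subset_insert _ _)) _ hα₀, hα₀ne⟩

end Cfsg.Agent.S1530
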