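import Cfsg.Statements.S1531
import Cfsg.Agent.Char.Coherence

set_option autoImplicit false
open Cfsg

namespace Cfsg.Agent.S1531
open scoped CfsgLib.Char ComplexConjugate


/-- Let N be a subgroup of the finite group G, S a set of irreducible characters of N, and α a linear isometry on the integer combinations of S vanishing at 1 with values virtual characters of G vanishing at 1. Let X, Y ⊆ S be disjoint, each with at least two members, and σ, τ linear isometries on ℤ[X], ℤ[Y] into virtual characters agreeing with α on the members vanishing at 1. Then ⟨σ χ, τ η⟩ = 0 for χ ∈ X, η ∈ Y; and if for some χ₀ ∈ X, η₀ ∈ Y with degrees c = χ₀ 1, e = η₀ 1 one has α (c • η₀ − e • χ₀) = c • τ η₀ − e • σ χ₀, then (X ∪ Y, N minus 1, α) is coherent. -/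
theorem result {G : Type*} [Group G] [Fintype G] (N : Subgroup G) [Fintype N] (S X Y : Set (N → ℂ)) (hirr : ∀ ξ ∈ S, Cfsg.IsIrrCharacter N ξ) (hXS : X ⊆ S) (hYS : Y ⊆ S) (hXY : Disjoint X Y) (hX2 : ∃ a ∈ X, ∃ b ∈ X, a ≠ b) (hY2 : ∃ a ∈ Y, ∃ b ∈ Y, a ≠ b) (α : (N → ℂ) → (G → ℂ)) (hα : Cfsg.IsLinearIsometryOn (Cfsg.zspanOn S {1}ᶜ) α) (hα1 : ∀ θ ∈ Cfsg.zspanOn S {1}ᶜ, α θ 1 = 0) (σ τ : (N → ℂ) → (G → ℂ)) (hσ : Cfsg.IsLinearIsometryOn (Cfsg.zspan X) σ) (hσα : ∀ θ ∈ Cfsg.zspanOn X {1}ᶜ, σ θ = α θ) (hτ : Cfsg.IsLinearIsometryOn (Cfsg.zspan Y) τ) (hτα : ∀ θ ∈ Cfsg.zspanOn Y {1}ᶜ, τ θ = α θ) : (∀ χ ∈ X, ∀ η ∈ Y, Cfsg.classInner (σ χ) (τ η) = 0) ∧ ((∃ χ₀ ∈ X, ∃ η₀ ∈ Y, α (χ₀ 1 • η₀ - η₀ 1 • χ₀) = χ₀ 1 • τ η₀ - η₀ 1 • σ χ₀) → Cfsg.IsCoherent (X ∪ Y) {1}ᶜ α) := by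
  classical
  open CfsgLib.Coh CfsgLib.Char in
  · let d : (N → ℂ) → ℕ := fun ξ => Cfsg.charDegree ξ
    have hd : ∀ ξ ∈ S, ξ 1 = (d ξ : ℂ) := fun ξ hξ => irr_one_eq (hirr ξ hξ)
    have hdpos : ∀ ξ ∈ S, 0 < d ξ := fun ξ hξ => charDegree_pos (hirr ξ hξ)
    have lin : ∀ (Z : Set (N → ℂ)) (f : (N → ℂ) → (G → ℂ)), Z ⊆ S → Cfsg.IsLinearIsometryOn (Cfsg.zspan Z) f →
        (∀ θ ∈ Cfsg.zspanOn Z {1}ᶜ, f θ = α θ) → ∀ a ∈ Z, ∀ b ∈ Z,
          α ((d b : ℤ) • a - (d a : ℤ) • b) = (d b : ℤ) • f a - (d a : ℤ) • f b ∧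
            (d b : ℂ) * f a 1 = (d a : ℂ) * f b 1 := by
      intro Z f hZ hf hfα a ha b hb
      have hm := degZero_mem (S := Z) d (fun φ hφ => hd φ (hZ hφ)) ha hb
      have h1 : α ((d b : ℤ) • a - (d a : ℤ) • b) = (d b : ℤ) • f a - (d a : ℤ) • f b := by
        rw [← hfα _ hm, sub_eq_add_neg, ← neg_smul, hf.1 _ (Submodule.smul_mem _ _ (mem_zspan ha)) _ (Submodule.smul_mem _ _ (mem_zspan hb)),
          hf.2.1 _ (mem_zspan ha), hf.2.1 _ (mem_zspan hb), neg_smul, ← sub_eq_add_neg]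
      refine ⟨h1, ?_⟩
      have h2 := hα1 _ (zspanOn_mono hZ _ hm)
      rw [h1] at h2
      simp only [Pi.sub_apply, Pi.smul_apply, Pi.mul_apply, Pi.intCast_apply, Pi.natCast_apply, zsmul_eq_mul, Int.cast_natCast] at h2
      linear_combination h2
    have hzero : ∀ χ ∈ X, ∀ η ∈ Y, classInner (σ χ) (τ η) = 0 := by
      intro χ hχ η hη
      by_contra hne
      obtain ⟨χ', hχ', hχne⟩ : ∃ c ∈ X, c ≠ χ := by
        obtain ⟨x, hx, y, hy, hxy⟩ := hX2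
        by_cases e : x = χ
        · exact ⟨y, hy, fun e' => hxy (e.trans e'.symm)⟩
        · exact ⟨x, hx, e⟩
      obtain ⟨η', hη', hηne⟩ : ∃ c ∈ Y, c ≠ η := by
        obtain ⟨x, hx, y, hy, hxy⟩ := hY2
        by_cases e : x = η
        · exact ⟨y, hy, fun e' => hxy (e.trans e'.symm)⟩
        · exact ⟨x, hx, e⟩
      have hsx : ∀ a ∈ X, ∃ s : ℤ, ∃ ψ : Cfsg.IrrCharacter G, (s = 1 ∨ s = -1) ∧ σ a = s • ψ.1 := by
        intro a ha
        rcases isIrr_or_neg_of_norm (hσ.2.2.2 a (mem_zspan ha)) (by rw [hσ.2.2.1 a (mem_zspan ha) a (mem_zspan ha), irr_inner_self (hirr a (hXS ha))]) with h | h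
        · exact ⟨1, ⟨_, h⟩, Or.inl rfl, by simp⟩
        · exact ⟨-1, ⟨_, h⟩, Or.inr rfl, by simp⟩
      have hty : ∀ a ∈ Y, ∃ s : ℤ, ∃ ψ : Cfsg.IrrCharacter G, (s = 1 ∨ s = -1) ∧ τ a = s • ψ.1 := by
        intro a ha
        rcases isIrr_or_neg_of_norm (hτ.2.2.2 a (mem_zspan ha)) (by rw [hτ.2.2.1 a (mem_zspan ha) a (mem_zspan ha), irr_inner_self (hirr a (hYS ha))]) with h | h
        · exact ⟨1, ⟨_, h⟩, Or.inl rfl, by simp⟩
        · exact ⟨-1, ⟨_, h⟩, Or.inr rfl, by simp⟩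
      obtain ⟨s1, P1, hs1, e1⟩ := hsx χ hχ
      obtain ⟨s2, P2, hs2, e2⟩ := hsx χ' hχ'
      obtain ⟨t1, Q1, ht1, f1⟩ := hty η hη
      obtain ⟨t2, Q2, ht2, f2⟩ := hty η' hη'
      have hPQ : P1 = Q1 := by
        by_contra h
        apply hne
        rw [e1, f1, ← Int.cast_smul_eq_zsmul ℂ, ← Int.cast_smul_eq_zsmul ℂ, classInner_smul_left, classInner_smul_right,
          irr_inner_ne P1.2 Q1.2 (fun e => h (Subtype.ext e))]
        simp
      have hs0 : (s1 : ℂ) ≠ 0 ∧ (s2 : ℂ) ≠ 0 ∧ (t1 : ℂ) ≠ 0 ∧ (t2 : ℂ) ≠ 0 := by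
        rcases hs1 with rfl | rfl <;> rcases hs2 with rfl | rfl <;> rcases ht1 with rfl | rfl <;> rcases ht2 with rfl | rfl <;> norm_num
      have hP12 : P1 ≠ P2 := fun e => by
        have h := hσ.2.2.1 χ (mem_zspan hχ) χ' (mem_zspan hχ')
        rw [irr_inner_ne (hirr χ (hXS hχ)) (hirr χ' (hXS hχ')) (Ne.symm hχne), e1, e2, e,
          ← Int.cast_smul_eq_zsmul ℂ, ← Int.cast_smul_eq_zsmul ℂ, classInner_smul_left, classInner_smul_right,
          irr_inner_self P2.2, map_intCast] at h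
        simp [hs0.1, hs0.2.1] at h
      have hQ12 : Q1 ≠ Q2 := fun e => by
        have h := hτ.2.2.1 η (mem_zspan hη) η' (mem_zspan hη')
        rw [irr_inner_ne (hirr η (hYS hη)) (hirr η' (hYS hη')) (Ne.symm hηne), f1, f2, e,
          ← Int.cast_smul_eq_zsmul ℂ, ← Int.cast_smul_eq_zsmul ℂ, classInner_smul_left, classInner_smul_right,
          irr_inner_self Q2.2, map_intCast] at h
        simp [hs0.2.2.1, hs0.2.2.2] at h
      have hm1 := degZero_mem (S := X) d (fun φ hφ => hd φ (hXS hφ)) hχ hχ'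
      have hm2 := degZero_mem (S := Y) d (fun φ hφ => hd φ (hYS hφ)) hη hη'
      have h := hα.2.2.1 _ (zspanOn_mono hXS _ hm1) _ (zspanOn_mono hYS _ hm2)
      rw [(lin X σ hXS hσ hσα χ hχ χ' hχ').1, (lin Y τ hYS hτ hτα η hη η' hη').1, e1, e2, f1, f2, ← hPQ] at h
      have hd0 : ∀ a ∈ X, ∀ b ∈ Y, classInner a b = 0 := fun a ha b hb =>
        irr_inner_ne (hirr a (hXS ha)) (hirr b (hYS hb)) fun e => Set.disjoint_left.1 hXY ha (e ▸ hb)
      have hP1Q2 : classInner P1.1 Q2.1 = 0 :=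
        irr_inner_ne P1.2 Q2.2 fun e => hQ12 (hPQ ▸ Subtype.ext e)
      have hP2P1 : classInner P2.1 P1.1 = 0 := irr_inner_ne P2.2 P1.2 fun e => hP12 (Subtype.ext e.symm)
      simp only [classInner_sub_left, classInner_sub_right, ← Int.cast_smul_eq_zsmul ℂ, classInner_smul_left,
        classInner_smul_right, hd0 χ hχ η hη, hd0 χ hχ η' hη', hd0 χ' hχ' η hη, hd0 χ' hχ' η' hη', hP1Q2, hP2P1,
        irr_inner_self P1.2, map_intCast, Int.cast_natCast, map_natCast, mul_zero, sub_zero, mul_one] at h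
      have v1 := (lin X σ hXS hσ hσα χ hχ χ' hχ').2
      have v2 := (lin Y τ hYS hτ hτα η hη η' hη').2
      rw [e1, e2] at v1
      rw [f1, f2, ← hPQ] at v2
      simp only [Pi.smul_apply, Pi.mul_apply, Pi.intCast_apply, Pi.natCast_apply, zsmul_eq_mul] at v1 v2
      by_cases hPQ2 : P2 = Q2
      · rw [hPQ2] at v1 h
        rw [irr_inner_self Q2.2] at h
        obtain ⟨n1, hn1, hv1⟩ := irr_deg P1.2
        obtain ⟨n2, hn2, hv2⟩ := irr_deg Q2.2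
        rw [hv1, hv2] at v1 v2
        -- the two proportions contradict the sign relation
        have key : ((d χ' * d η' * (n1 * n1 + n2 * n2) : ℕ) : ℂ) = 0 := by
          push_cast
          have w1 : (s1 : ℂ) * t1 * ((d χ' : ℂ) * d η' * (n1 * n1)) = (s2 : ℂ) * t2 * ((d χ : ℂ) * d η * (n2 * n2)) := by
            linear_combination ((d η' : ℂ) * t1 * n1) * v1 + ((d χ : ℂ) * s2 * n2) * v2
          have hsq1 : (s1 : ℂ) * t1 * ((s1 : ℂ) * t1) = 1 := by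
            rcases hs1 with rfl | rfl <;> rcases ht1 with rfl | rfl <;> norm_num
          have w2 : (s2 : ℂ) * t2 * ((d χ : ℂ) * d η) = -((s1 : ℂ) * t1 * ((d χ' : ℂ) * d η')) := by
            linear_combination h
          linear_combination ((s1 : ℂ) * t1) * w1 + ((s1 : ℂ) * t1 * (n2 * n2)) * w2
            - ((d χ' : ℂ) * d η' * (n1 * n1 + n2 * n2)) * hsq1
        rw [Nat.cast_eq_zero] at key
        have p1 := hdpos χ (hXS hχ)
        have p2 := hdpos χ' (hXS hχ')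
        have p3 := hdpos η (hYS hη)
        have p4 := hdpos η' (hYS hη')
        have := Nat.mul_pos (Nat.mul_pos p2 p4) (Nat.add_pos_left (Nat.mul_pos hn1 hn1) (n2 * n2)); omega
      · rw [irr_inner_ne P2.2 Q2.2 (fun e => hPQ2 (Subtype.ext e))] at h
        simp only [mul_zero, sub_zero] at h
        have p2 := hdpos χ' (hXS hχ')
        have p4 := hdpos η' (hYS hη')
        simp [hs0.1, hs0.2.2.1, p2.ne', p4.ne'] at h
    refine ⟨hzero, ?_⟩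
    rintro ⟨χ₀, hχ₀, η₀, hη₀, hrel⟩
    have hfin : (X ∪ Y).Finite := (Set.finite_range (Subtype.val : Cfsg.IrrCharacter N → (N → ℂ))).subset
      fun ξ hξ => ⟨⟨ξ, hirr ξ (Set.union_subset hXS hYS hξ)⟩, rfl⟩
    have hU : ∀ ξ ∈ hfin.toFinset, ξ ∈ S := fun ξ hξ => Set.union_subset hXS hYS (hfin.mem_toFinset.1 hξ)
    rw [show X ∪ Y = (hfin.toFinset : Set (N → ℂ)) from hfin.coe_toFinset.symm]
    let T : (N → ℂ) → (G → ℂ) := fun ξ => if ξ ∈ X then σ ξ else τ ξ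
    have hTX : ∀ ξ ∈ X, T ξ = σ ξ := fun ξ h => if_pos h
    have hTY : ∀ ξ ∈ Y, T ξ = τ ξ := fun ξ h => if_neg fun h' => Set.disjoint_left.1 hXY h' h
    have hmem : ∀ ξ ∈ hfin.toFinset, ξ ∈ X ∨ ξ ∈ Y := fun ξ hξ => hfin.mem_toFinset.1 hξ
    have hc0 : χ₀ ∈ hfin.toFinset := hfin.mem_toFinset.2 (Or.inl hχ₀)
    have hsub : Cfsg.zspanOn (hfin.toFinset : Set (N → ℂ)) {1}ᶜ ⊆ Cfsg.zspanOn S {1}ᶜ :=
      zspanOn_mono (fun ξ hξ => hU ξ hξ) _
    refine coherent_of_family hfin.toFinset d (fun ξ hξ => hd ξ (hU ξ hξ))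
      (fun ξ hξ η hη hne => irr_inner_ne (hirr ξ (hU ξ hξ)) (hirr η (hU η hη)) hne)
      (fun ξ hξ => by rw [irr_inner_self (hirr ξ (hU ξ hξ))]; exact one_ne_zero)
      (isometry_mono hsub hα) χ₀ hc0 (hdpos χ₀ (hXS hχ₀)) T ?_ ?_ ?_ ?_
    · intro ξ hξ
      rcases hmem ξ hξ with h | h
      · rw [hTX ξ h]; exact hσ.2.2.2 ξ (mem_zspan h)
      · rw [hTY ξ h]; exact hτ.2.2.2 ξ (mem_zspan h)
    · intro ξ hξ η hη
      rcases hmem ξ hξ with h | h <;> rcases hmem η hη with h' | h'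
      · rw [hTX ξ h, hTX η h']; exact hσ.2.2.1 ξ (mem_zspan h) η (mem_zspan h')
      · rw [hTX ξ h, hTY η h', hzero ξ h η h',
          irr_inner_ne (hirr ξ (hXS h)) (hirr η (hYS h')) fun e => Set.disjoint_left.1 hXY h (e ▸ h')]
      · rw [hTY ξ h, hTX η h', ← classInner_conj, hzero η h' ξ h, map_zero,
          irr_inner_ne (hirr ξ (hYS h)) (hirr η (hXS h')) fun e => Set.disjoint_left.1 hXY h' (e ▸ h)]
      · rw [hTY ξ h, hTY η h']; exact hτ.2.2.1 ξ (mem_zspan h) η (mem_zspan h')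
    · intro ξ hξ
      rcases hmem ξ hξ with h | h
      · rw [hTX ξ h, hTX χ₀ hχ₀]; exact (lin X σ hXS hσ hσα ξ h χ₀ hχ₀).1
      · rw [hTY ξ h, hTX χ₀ hχ₀]
        have hrel' : α ((d χ₀ : ℤ) • η₀ - (d η₀ : ℤ) • χ₀) = (d χ₀ : ℤ) • τ η₀ - (d η₀ : ℤ) • σ χ₀ := by
          simpa only [← Int.cast_smul_eq_zsmul ℂ, Int.cast_natCast, ← hd χ₀ (hXS hχ₀), ← hd η₀ (hYS hη₀)] using hrel
        have e := (lin Y τ hYS hτ hτα ξ h η₀ hη₀).1
        have hm1 := degZero_mem (S := S) d hd (hYS h) (hYS hη₀)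
        have hm2 := degZero_mem (S := S) d hd (hYS hη₀) (hXS hχ₀)
        have hm3 := degZero_mem (S := S) d hd (hYS h) (hXS hχ₀)
        refine smul_cancel (hdpos η₀ (hYS hη₀)) ?_
        rw [← hα.2.1 _ hm3]
        have edec : (d η₀ : ℤ) • ((d χ₀ : ℤ) • ξ - (d ξ : ℤ) • χ₀) =
            (d χ₀ : ℤ) • ((d η₀ : ℤ) • ξ - (d ξ : ℤ) • η₀) + (d ξ : ℤ) • ((d χ₀ : ℤ) • η₀ - (d η₀ : ℤ) • χ₀) := by
          module
        rw [edec, hα.1 _ (zspanOn_smul hm1 _) _ (zspanOn_smul hm2 _), hα.2.1 _ hm1, hα.2.1 _ hm2, e, hrel']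
        module
    · obtain ⟨x, hx, y, hy, hxy⟩ := hX2
      refine ⟨_, degZero_mem (S := (hfin.toFinset : Set (N → ℂ))) d (fun ξ hξ => hd ξ (hU ξ hξ))
        (hfin.mem_toFinset.2 (Or.inl hx)) (hfin.mem_toFinset.2 (Or.inl hy)), fun e => ?_⟩
      have h1 := congrArg (fun f => classInner f x) e
      simp only [classInner_sub_left, ← Int.cast_smul_eq_zsmul ℂ, classInner_smul_left, irr_inner_self (hirr x (hXS hx)),
        irr_inner_ne (hirr y (hXS hy)) (hirr x (hXS hx)) (Ne.symm hxy), classInner_zero_left] at h1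
      simp [(hdpos y (hXS hy)).ne'] at h1

end Cfsg.Agent.S1531
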