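import Cfsg.Statements.S1536
import Cfsg.Agent.Char.PermLemma
import Cfsg.Agent.Char.Clifford
import Cfsg.Agent.Char.CoprimeCoset

set_option autoImplicit false
open Cfsg

namespace Cfsg.Agent.S1536
open scoped CfsgLib.Char


/-- Let H be a normal subgroup of the finite group M whose order is coprime to its index. For x ∈ M: some non-principal irreducible character of H is unchanged under h ↦ θ(x h x⁻¹) if and only if some non-identity element of H commutes with x. -/
theorem result {M : Type*} [Group M] [Finite M] (H : Subgroup M) [hN : H.Normal] (hHall : Nat.Coprime (Nat.card H) H.index) (x : M) : (∃ θ : H → ℂ, Cfsg.IsIrrCharacter H θ ∧ θ ≠ (fun _ => 1) ∧ (fun h : H => θ ⟨x * h * x⁻¹, hN.conj_mem h h.2 x⟩) = θ) ↔ ∃ h ∈ H, h ≠ 1 ∧ x * h = h * x := by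
  classical
  haveI : Fintype H := Fintype.ofFinite H
  open CfsgLib.Char in
  · let f : H → H := fun h => ⟨x * h * x⁻¹, hN.conj_mem h h.2 x⟩
    haveI := Fintype.ofFinite M
    have h := card_fixed_irr_eq_classes f fun χ' => irr_conjN χ'.2 x
    constructor
    · rintro ⟨θ, hθ, hne, hfix⟩
      have h2 : 1 < Nat.card {χ' : IrrCharacter H // (χ' : H → ℂ) ∘ f = (χ' : H → ℂ)} :=
        Finite.one_lt_card_iff_nontrivial.2 ⟨⟨⟨θ, hθ⟩, hfix⟩,
          ⟨⟨fun _ => 1, isIrr_one⟩, rfl⟩, fun e => hne (congrArg (fun x => (x.1 : H → ℂ)) e)⟩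
      rw [h] at h2
      by_cases hx : x ^ H.index = 1
      · have hcop : Nat.Coprime (orderOf x) (Nat.card H) :=
          (hHall.symm.coprime_dvd_left (orderOf_dvd_of_pow_eq_one hx))
        haveI := Finite.one_lt_card_iff_nontrivial.1 h2
        obtain ⟨⟨K, hK⟩, hne'⟩ := exists_ne (⟨ConjClasses.mk 1, fun n hn => by
          have : n = 1 := by simpa using ConjClasses.mk_eq_mk_iff_isConj.1 hn
          subst this; exact congrArg ConjClasses.mk (Subtype.ext (by simp [f]))⟩ :
            {K : ConjClasses H // ∀ n, ConjClasses.mk n = K → ConjClasses.mk (f n) = K})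
        obtain ⟨n, rfl⟩ := ConjClasses.exists_rep K
        obtain ⟨m, hm⟩ := isConj_iff.1 (ConjClasses.mk_eq_mk_iff_isConj.1 (hK n rfl).symm)
        have e : x * (n : M) * x⁻¹ = (m : M) * n * (m : M)⁻¹ := (congrArg Subtype.val hm).symm
        obtain ⟨s, hs, hsx⟩ := exists_commute_conj H hcop m.2 e
        refine ⟨_, hN.conj_mem n n.2 s, fun e1 => hne' (Subtype.ext ?_), hsx⟩
        exact congrArg ConjClasses.mk (Subtype.ext (by simpa using e1) : n = 1)
      · exact ⟨x ^ H.index, by
          have := Subgroup.pow_index_mem H x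
          exact this, hx, (pow_succ' x _).symm.trans (pow_succ x _)⟩
    · rintro ⟨n, hn, hn1, hnx⟩
      have h1 : 1 < Nat.card {K : ConjClasses H // ∀ n, ConjClasses.mk n = K → ConjClasses.mk (f n) = K} := by
        refine Finite.one_lt_card_iff_nontrivial.2 ⟨⟨ConjClasses.mk (⟨n, hn⟩ : H), fun k hk => ?_⟩,
          ⟨ConjClasses.mk 1, fun k hk => ?_⟩, fun e => hn1 ?_⟩
        · obtain ⟨m, hm⟩ := isConj_iff.1 (ConjClasses.mk_eq_mk_iff_isConj.1 hk)
          refine ConjClasses.mk_eq_mk_iff_isConj.2 (isConj_iff.2 ⟨f m, Subtype.ext ?_⟩)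
          have e : (m : M) * k * (m : M)⁻¹ = n := congrArg Subtype.val hm
          calc (f m : M) * (f k : M) * (f m : M)⁻¹ = x * ((m : M) * k * (m : M)⁻¹) * x⁻¹ := by
                simp [f, mul_assoc]
            _ = n := by rw [e, hnx, mul_inv_cancel_right]
        · have : k = 1 := by simpa using ConjClasses.mk_eq_mk_iff_isConj.1 hk
          subst this; exact congrArg ConjClasses.mk (Subtype.ext (by simp [f]))
        · have := congrArg Subtype.val e
          simpa using ConjClasses.mk_eq_mk_iff_isConj.1 this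
      rw [← h] at h1
      haveI := Finite.one_lt_card_iff_nontrivial.1 h1
      obtain ⟨⟨θ, hθf⟩, hne⟩ := exists_ne (⟨⟨fun _ => 1, isIrr_one⟩, rfl⟩ :
        {χ' : IrrCharacter H // (χ' : H → ℂ) ∘ f = (χ' : H → ℂ)})
      exact ⟨θ.1, θ.2, fun e => hne (Subtype.ext (Subtype.ext e)), hθf⟩

end Cfsg.Agent.S1536
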