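import Cfsg.Statements.S1545
import Cfsg.Agent.Solv.CoprimeAction
import Cfsg.Agent.Solv.FrobeniusNilp
import Cfsg.Agent.Solv.BrauerWielandt
import Mathlib.FieldTheory.Finite.GaloisField
import Mathlib.GroupTheory.FiniteAbelian.Duality
import Mathlib.RingTheory.IntegralDomain
import Mathlib.Tactic
-- import your own Cfsg.Agent.* helpers here

set_option autoImplicit false
open Cfsg

namespace Cfsg.Agent.S1545

open scoped commutatorElement

/-- Frobenius-type freeness: a complement permuting the characters of an abelian group freely. -/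
theorem free_card {q : ℕ} [Fact q.Prime] {M : Type*} [AddCommGroup M] [Module (ZMod q) M] [Finite M]
    {A : Type*} [CommGroup A] [Finite A] {E : Type*} [Group E] [Finite E]
    (ρ : A →* Module.End (ZMod q) M) (σ : E →* Module.End (ZMod q) M) (θ : E →* MulAut A)
    (hcom : ∀ e a, σ e * ρ a = ρ (θ e a) * σ e) (hq : ¬ q ∣ Nat.card A)
    (hfix : ∀ m : M, (∀ a, ρ a m = m) → m = 0) (hfpf : ∀ e, e ≠ 1 → ∀ a, θ e a = a → a = 1) :
    Nat.card {m : M // ∀ e, σ e m = m} ^ Nat.card E = Nat.card M := by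
  classical
  haveI := Fintype.ofFinite A
  haveI := Fintype.ofFinite E
  have hn0 : Monoid.exponent A ≠ 0 := Monoid.exponent_ne_zero_of_finite
  haveI : NeZero (Monoid.exponent A) := ⟨hn0⟩
  have hqn : ¬ q ∣ Monoid.exponent A := fun h => hq (h.trans Group.exponent_dvd_nat_card)
  set k := (Monoid.exponent A).totient with hk
  have hk0 : k ≠ 0 := (Nat.totient_pos.2 (Nat.pos_of_ne_zero hn0)).ne'
  let F := GaloisField q k
  haveI : Finite F := inferInstance
  haveI : HasEnoughRootsOfUnity F (Monoid.exponent A) :=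
    { prim := by
        obtain ⟨g, hg⟩ := IsCyclic.exists_generator (α := Fˣ)
        have hd : Monoid.exponent A ∣ orderOf g := by
          rw [orderOf_eq_card_of_forall_mem_zpowers hg, Nat.card_units, GaloisField.card q k hk0,
            ← Nat.modEq_iff_dvd' (Nat.one_le_pow _ _ (Fact.out : q.Prime).pos)]
          exact (Nat.ModEq.pow_totient (((Fact.out : q.Prime).coprime_iff_not_dvd.2 hqn))).symm
        refine ⟨((g ^ (orderOf g / Monoid.exponent A) : Fˣ) : F), ?_⟩
        have := IsPrimitiveRoot.orderOf ((g ^ (orderOf g / Monoid.exponent A) : Fˣ) : F)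
        rwa [orderOf_units, orderOf_pow_orderOf_div (orderOf_pos g).ne' hd] at this
      cyc := inferInstance }
  haveI := Fintype.ofFinite (A →* Fˣ)
  let W := F →ₗ[ZMod q] M
  let L : Module.End (ZMod q) M →* Module.End (ZMod q) W :=
    { toFun := fun T => LinearMap.llcomp (ZMod q) F M M T
      map_one' := LinearMap.ext fun f => LinearMap.ext fun x => rfl
      map_mul' := fun S T => LinearMap.ext fun f => LinearMap.ext fun x => rfl }
  let Rm : F →+* Module.End (ZMod q) W :=
    { toFun := fun c => LinearMap.lcomp (ZMod q) M (LinearMap.mulLeft (ZMod q) c)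
      map_one' := LinearMap.ext fun f => LinearMap.ext fun x => by simp
      map_mul' := fun c d => LinearMap.ext fun f => LinearMap.ext fun x => by
        simp [Module.End.mul_apply, mul_comm, mul_left_comm]
      map_zero' := LinearMap.ext fun f => LinearMap.ext fun x => by simp
      map_add' := fun c d => LinearMap.ext fun f => LinearMap.ext fun x => by simp [add_mul] }
  have hLR : ∀ T c, L T * Rm c = Rm c * L T := fun T c => LinearMap.ext fun f => LinearMap.ext fun x => rfl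
  let n : F := (Nat.card A : F)
  have hn : n ≠ 0 := fun h => hq ((CharP.cast_eq_zero_iff F q _).1 h)
  let P : (A →* Fˣ) → Module.End (ZMod q) W := fun χ =>
    ∑ a : A, L (ρ a) * Rm (n⁻¹ * ((χ a⁻¹ : Fˣ) : F))
  have hLP : ∀ χ b, L (ρ b) * P χ = Rm ((χ b : Fˣ) : F) * P χ := by
    intro χ b
    simp only [P, Finset.mul_sum]
    refine Fintype.sum_equiv (Equiv.mulLeft b) _ _ fun a => ?_
    simp only [Equiv.coe_mulLeft, ← mul_assoc]
    rw [← hLR, mul_assoc (L (ρ (b * a))), ← map_mul, ← map_mul, ← map_mul Rm]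
    congr 2
    rw [mul_inv_rev, map_mul, map_inv χ b]
    push_cast
    linear_combination (-(n⁻¹ * ((χ a⁻¹ : Fˣ) : F))) * mul_inv_cancel₀ (Units.ne_zero (χ b))
  have hsum : ∀ χ : A →* Fˣ, χ ≠ 1 → ∑ a : A, ((χ a : Fˣ) : F) = 0 := fun χ h =>
    sum_hom_units_eq_zero ((Units.coeHom F).comp χ) fun e => h (MonoidHom.ext fun a => Units.ext (DFunLike.congr_fun e a))
  have horth : ∀ χ η : A →* Fˣ, P η * P χ = if η = χ then P χ else 0 := by
    intro χ η
    have e : P η * P χ = Rm (n⁻¹ * ∑ a : A, (((χ * η⁻¹) a : Fˣ) : F)) * P χ := by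
      rw [Finset.mul_sum _ _ n⁻¹, map_sum]
      show (∑ a : A, L (ρ a) * Rm (n⁻¹ * ((η a⁻¹ : Fˣ) : F))) * P χ = _
      rw [Finset.sum_mul, Finset.sum_mul]
      refine Finset.sum_congr rfl fun a _ => ?_
      rw [hLR, mul_assoc, hLP, ← mul_assoc, ← map_mul]
      congr 2
      rw [MonoidHom.mul_apply, MonoidHom.inv_apply, map_inv]
      push_cast
      ring
    split_ifs with h
    · subst h
      rw [e, show η * η⁻¹ = 1 from mul_inv_cancel η]
      simp only [MonoidHom.one_apply, Units.val_one, Finset.sum_const, Finset.card_univ, nsmul_eq_mul, mul_one]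
      rw [← Nat.card_eq_fintype_card, inv_mul_cancel₀ hn, map_one, one_mul]
    · rw [e, hsum _ (fun h' => h (mul_inv_eq_one.1 h').symm), mul_zero, map_zero, zero_mul]
  have hdual : ∀ a : A, a ≠ 1 → ∑ χ : A →* Fˣ, ((χ a : Fˣ) : F) = 0 := by
    intro a ha
    obtain ⟨η, hη⟩ := CommGroup.exists_apply_ne_one_of_hasEnoughRootsOfUnity A F ha
    have h1 : ((η a : Fˣ) : F) * ∑ χ : A →* Fˣ, ((χ a : Fˣ) : F) = ∑ χ : A →* Fˣ, ((χ a : Fˣ) : F) := by
      rw [Finset.mul_sum]
      exact Fintype.sum_equiv (Equiv.mulLeft η) _ _ fun χ => by simp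
    by_contra h
    exact hη (Units.ext ((mul_eq_right₀ h).1 h1))
  have hone : ∑ χ : A →* Fˣ, P χ = 1 := by
    simp only [P]
    rw [Finset.sum_comm, Finset.sum_eq_single (1 : A)]
    · rw [← Finset.mul_sum, map_one, map_one, one_mul, ← map_sum, ← Finset.mul_sum]
      simp only [inv_one, map_one, Units.val_one, Finset.sum_const, Finset.card_univ, nsmul_eq_mul, mul_one]
      rw [← Nat.card_eq_fintype_card, CommGroup.card_monoidHom_of_hasEnoughRootsOfUnity, inv_mul_cancel₀ hn, map_one]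
    · intro a _ ha
      rw [← Finset.mul_sum, ← map_sum, ← Finset.mul_sum, hdual a⁻¹ (inv_ne_one.2 ha), mul_zero, map_zero, mul_zero]
    · intro h; exact absurd (Finset.mem_univ _) h
  have hP1 : P 1 = 0 := by
    refine LinearMap.ext fun f => LinearMap.ext fun x => hfix _ fun b => ?_
    have := LinearMap.congr_fun (LinearMap.congr_fun (hLP 1 b) f) x
    exact this.trans (show (P 1 f) ((((1 : A →* Fˣ) b : Fˣ) : F) * x) = (P 1 f) x by simp)
  letI : MulAction E (A →* Fˣ) :=
    { smul := fun e χ => χ.comp (θ e⁻¹).toMonoidHom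
      one_smul := fun χ => MonoidHom.ext fun a => show χ (θ (1 : E)⁻¹ a) = χ a by simp
      mul_smul := fun e f χ => MonoidHom.ext fun a => show χ (θ (e * f)⁻¹ a) = χ (θ f⁻¹ (θ e⁻¹ a)) by
        rw [mul_inv_rev, map_mul]; rfl }
  have hconj : ∀ (e : E) χ, L (σ e) * P χ * L (σ e⁻¹) = P (e • χ) := by
    intro e χ
    simp only [P, Finset.mul_sum, Finset.sum_mul]
    refine Fintype.sum_equiv (θ e).toEquiv _ _ fun a => ?_
    show L (σ e) * (L (ρ a) * Rm _) * L (σ e⁻¹) = L (ρ (θ e a)) * Rm (n⁻¹ * ((χ (θ e⁻¹ (θ e a)⁻¹) : Fˣ) : F))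
    rw [← mul_assoc, mul_assoc _ (Rm _) (L (σ e⁻¹)), ← hLR, ← mul_assoc, ← map_mul, hcom, ← map_mul,
      mul_assoc (ρ (θ e a)), ← map_mul σ, mul_inv_cancel, map_one, mul_one]
    congr 4
    rw [map_inv (θ e⁻¹), ← MulAut.mul_apply, ← map_mul, inv_mul_cancel, map_one, MulAut.one_apply]
  have hfree : ∀ (e : E) (χ : A →* Fˣ), χ ≠ 1 → e • χ = χ → e = 1 := by
    intro e χ hχ he
    by_contra h1
    refine hχ (MonoidHom.ext fun a => ?_)
    have hinj : Function.Injective (fun b : A => θ e⁻¹ b * b⁻¹) := by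
      intro b c h
      have : θ e⁻¹ (b * c⁻¹) = b * c⁻¹ := by
        rw [map_mul, map_inv (θ e⁻¹), ← div_eq_mul_inv, ← div_eq_mul_inv, div_eq_div_iff_mul_eq_mul, mul_comm b]
        simp only [← div_eq_mul_inv] at h
        exact div_eq_div_iff_mul_eq_mul.1 h
      exact mul_inv_eq_one.1 (hfpf e⁻¹ (inv_ne_one.2 h1) _ this)
    obtain ⟨b, rfl⟩ := Finite.injective_iff_surjective.1 hinj a
    have := DFunLike.congr_fun he b
    show χ (θ e⁻¹ b * b⁻¹) = 1
    rw [map_mul, map_inv χ, mul_inv_eq_one]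
    exact this
  have hne1 : ∀ (e : E) (χ : A →* Fˣ), χ ≠ 1 → e • χ ≠ 1 := fun e χ hχ h => hχ (by
    rw [← inv_smul_smul e χ, h]
    exact MonoidHom.ext fun a => rfl)
  let R : Finset (A →* Fˣ) := Finset.univ.filter fun χ =>
    χ ≠ 1 ∧ (Quotient.mk (MulAction.orbitRel E (A →* Fˣ)) χ).out = χ
  have horb : ∀ (e : E) χ η, χ ∈ R → η ∈ R → e • χ = η → e = 1 ∧ χ = η := by
    intro e χ η hχ hη h
    rw [Finset.mem_filter] at hχ hη
    have he : (Quotient.mk (MulAction.orbitRel E (A →* Fˣ)) η) = Quotient.mk _ χ :=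
      Quotient.sound ⟨e, h⟩
    have heq : χ = η := by rw [← hη.2.2, he, hχ.2.2]
    subst heq
    exact ⟨hfree e χ hχ.2.1 h, rfl⟩
  let f := ∑ χ ∈ R, P χ
  have hcf : ∀ e, L (σ e) * f * L (σ e⁻¹) = ∑ χ ∈ R, P (e • χ) := fun e => by
    simp only [f, Finset.mul_sum, Finset.sum_mul, hconj]
  have hff : ∀ e, f * (L (σ e) * f * L (σ e⁻¹)) = if e = 1 then f else 0 := by
    intro e
    rw [hcf]
    simp only [f, Finset.sum_mul, Finset.mul_sum, horth]
    split_ifs with h
    · subst h
      simp only [one_smul]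
      exact Finset.sum_congr rfl fun χ hχ => by rw [Finset.sum_ite_eq' R χ, if_pos hχ]
    · refine Finset.sum_eq_zero fun χ hχ => Finset.sum_eq_zero fun η hη => if_neg fun he => h ?_
      exact (horb e χ η hχ hη he.symm).1
  have hcover : ∑ e : E, L (σ e) * f * L (σ e⁻¹) = 1 := by
    rw [Finset.sum_congr rfl fun e _ => hcf e, ← Finset.sum_product']
    have h1 : ∑ χ ∈ Finset.univ.filter (fun χ : A →* Fˣ => χ ≠ 1), P χ = 1 := by
      rw [← hone, Finset.filter_ne', Finset.sum_erase _ hP1]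
    rw [← h1]
    refine Finset.sum_bij (fun x _ => x.1 • x.2) (fun x hx => ?_) (fun x hx y hy h => ?_) (fun χ hχ => ?_) (fun x _ => rfl)
    · rw [Finset.mem_product, Finset.mem_filter] at hx
      exact Finset.mem_filter.2 ⟨Finset.mem_univ _, hne1 _ _ hx.2.2.1⟩
    · rw [Finset.mem_product] at hx hy
      have h' : (y.1⁻¹ * x.1) • x.2 = y.2 := by rw [mul_smul, h, inv_smul_smul]
      obtain ⟨h1, h2⟩ := horb _ _ _ hx.2 hy.2 h'
      exact Prod.ext (inv_mul_eq_one.1 h1).symm h2
    · have hr := Quotient.mk_out (s := MulAction.orbitRel E (A →* Fˣ)) χ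
      obtain ⟨e, he⟩ := hr
      refine ⟨(e⁻¹, (Quotient.mk (MulAction.orbitRel E (A →* Fˣ)) χ).out), Finset.mem_product.2 ⟨Finset.mem_univ _,
        Finset.mem_filter.2 ⟨Finset.mem_univ _, ?_, by rw [Quotient.out_eq]⟩⟩, ?_⟩
      · rw [← he]; exact hne1 _ _ (Finset.mem_filter.1 hχ).2
      · show e⁻¹ • _ = χ
        rw [← he]; exact inv_smul_smul e χ
  let T : W → W := fun w => ∑ x : E, L (σ x) (f w)
  have hT : ∀ e w, L (σ e) (T w) = T w := fun e w => by
    simp only [T, map_sum]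
    exact Fintype.sum_equiv (Equiv.mulLeft e) _ _ fun x => by
      show _ = L (σ (e * x)) (f w)
      rw [map_mul, map_mul]; rfl
  have hσσ : ∀ x y (w : W), L (σ x) (L (σ y) w) = L (σ (x * y)) w := fun x y w => by
    rw [map_mul, map_mul]; rfl
  have hfe : ∀ e w, f (L (σ e) (f w)) = if e = 1 then f w else 0 := fun e w => by
    have := LinearMap.congr_fun (hff e) (L (σ e) w)
    simp only [Module.End.mul_apply, hσσ, inv_mul_cancel, map_one, Module.End.one_apply] at this
    rw [this]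
    split_ifs with h
    · subst h; simp [map_one]
    · rfl
  have hsum1 : ∀ w, ∑ e : E, L (σ e) (f (L (σ e⁻¹) w)) = w := fun w => by
    have := LinearMap.congr_fun hcover w
    simpa [LinearMap.sum_apply, Module.End.mul_apply] using this
  have hTv : ∀ v : W, (∀ e, L (σ e) v = v) → T v = v := fun v hv => by
    conv_rhs => rw [← hsum1 v]
    exact Finset.sum_congr rfl fun x _ => by rw [hv]
  have hfT : ∀ u, f (T u) = f u := fun u => by
    simp only [T, map_sum, hfe, Finset.sum_ite_eq', Finset.mem_univ, if_true]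
  let Φ : W ≃ (E → {v : W // ∀ e, L (σ e) v = v}) :=
    { toFun := fun w e => ⟨T (L (σ e) w), fun x => hT x _⟩
      invFun := fun v => ∑ e : E, L (σ e⁻¹) (f (v e))
      left_inv := fun w => by
        show ∑ e : E, L (σ e⁻¹) (f (T (L (σ e) w))) = w
        conv_rhs => rw [← hsum1 w]
        refine Fintype.sum_equiv (Equiv.inv E) _ _ fun e => ?_
        simp [hfT]
      right_inv := fun v => funext fun e => Subtype.ext (by
        show T (L (σ e) (∑ x : E, L (σ x⁻¹) (f (v x)))) = v e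
        have : f (L (σ e) (∑ x : E, L (σ x⁻¹) (f (v x)))) = f (v e) := by
          simp only [map_sum, hσσ, hfe]
          rw [Finset.sum_eq_single e (fun x _ hx => if_neg fun h => hx (mul_inv_eq_one.1 h).symm)
            (fun h => absurd (Finset.mem_univ _) h), if_pos (mul_inv_cancel e)]
        rw [show T (L (σ e) (∑ x : E, L (σ x⁻¹) (f (v x)))) = ∑ y : E, L (σ y) (f (L (σ e) (∑ x : E, L (σ x⁻¹) (f (v x))))) from rfl, this]
        exact hTv (v e) (v e).2) }
  let bas := Module.finBasisOfFinrankEq (ZMod q) F (GaloisField.finrank q hk0)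
  let C : (Fin k → M) ≃ₗ[ZMod q] W := bas.constr (ZMod q)
  have hC : ∀ (T : Module.End (ZMod q) M) (v : Fin k → M), L T (C v) = C (fun i => T (v i)) := fun T v =>
    bas.ext fun i => by
      show T (C v (bas i)) = C (fun i => T (v i)) (bas i)
      have hc : ∀ w : Fin k → M, C w (bas i) = w i := fun w => bas.constr_basis (ZMod q) w i
      rw [hc, hc]
  have h1 : Nat.card W = Nat.card M ^ k := by
    rw [← Nat.card_congr C.toEquiv, Nat.card_fun, Nat.card_fin]
  have h2 : Nat.card {v : W // ∀ e, L (σ e) v = v} = Nat.card {m : M // ∀ e, σ e m = m} ^ k := by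
    rw [show Nat.card {m : M // ∀ e, σ e m = m} ^ k = Nat.card (Fin k → {m : M // ∀ e, σ e m = m}) by
      rw [Nat.card_fun, Nat.card_fin]]
    refine Nat.card_congr ((C.toEquiv.symm.subtypeEquiv fun v => ?_).trans
      (Equiv.subtypePiEquivPi (p := fun _ m => ∀ e, σ e m = m)))
    refine ⟨fun h i e => congrFun (C.injective ((hC (σ e) _).symm.trans ?_)) i, fun h e => ?_⟩
    · show L (σ e) (C (C.symm v)) = C (C.symm v)
      rw [C.apply_symm_apply]; exact h e
    · rw [← C.apply_symm_apply v, hC]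
      exact congrArg C (funext fun i => h i e)
  refine Nat.pow_left_injective hk0 ?_
  show _ ^ k = _ ^ k
  rw [← h1, Nat.card_congr Φ, Nat.card_fun, h2, ← pow_mul, ← pow_mul, mul_comm]

theorem irreducible_formula {V : Type*} [CommGroup V] [Finite V] {G : Type*} [Group G] [Finite G]
    (φ : G →* MulAut V) (U E : Subgroup G) [U.Normal] (htop : U ⊔ E = ⊤) (hE1 : E ≠ ⊥)
    (hfpf : ∀ e ∈ E, e ≠ 1 → ∀ u ∈ U, e * u = u * e → u = 1)
    (hirr : ∀ W : Subgroup V, (∀ g, ∀ w ∈ W, φ g w ∈ W) → W = ⊥ ∨ W = ⊤)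
    (hcop : (Nat.card V).Coprime (Nat.card G)) :
    Nat.card {v : V // ∀ g, φ g v = v} ^ Nat.card E * Nat.card V =
      Nat.card {v : V // ∀ e ∈ E, φ e v = v} ^ Nat.card E * Nat.card {v : V // ∀ u ∈ U, φ u v = v} := by
  classical
  have hmn : ∀ N : Subgroup G, N.Normal → (∀ v, (∀ n ∈ N, φ n v = v)) ∨ ∀ v, (∀ n ∈ N, φ n v = v) → v = 1 := by
    intro N hN
    let Fx : Subgroup V :=
      { carrier := {v | ∀ n ∈ N, φ n v = v}
        one_mem' := fun n _ => map_one _
        mul_mem' := fun {a b} ha hb n hn => by rw [map_mul, ha n hn, hb n hn]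
        inv_mem' := fun {a} ha n hn => by rw [map_inv, ha n hn] }
    rcases hirr Fx (fun g w hw n hn => by
      have := hw _ (hN.conj_mem n hn g⁻¹)
      rw [map_mul, map_mul, MulAut.mul_apply, MulAut.mul_apply, inv_inv] at this
      calc φ n (φ g w) = φ g (φ g⁻¹ (φ n (φ g w))) := by
            rw [map_inv φ g]; exact ((φ g).apply_symm_apply _).symm
        _ = φ g w := by rw [this]) with h | h
    · exact Or.inr fun v hv => Subgroup.mem_bot.1 (h ▸ (hv : v ∈ Fx))
    · exact Or.inl fun v => (h.symm ▸ Subgroup.mem_top v : v ∈ Fx)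
  rcases hmn U inferInstance with hall | hnone
  · have e1 : Nat.card {v : V // ∀ u ∈ U, φ u v = v} = Nat.card V := Nat.card_congr (Equiv.subtypeUnivEquiv hall)
    have e2 : ∀ v : V, (∀ g, φ g v = v) ↔ ∀ e ∈ E, φ e v = v := fun v => ⟨fun h e _ => h e, fun h g => by
      obtain ⟨u, hu, e, he, rfl⟩ := Subgroup.mem_sup_of_normal_left.1 (htop ▸ Subgroup.mem_top g : g ∈ U ⊔ E)
      rw [map_mul, MulAut.mul_apply, h e he, hall v u hu]⟩
    rw [e1, Nat.card_congr (Equiv.subtypeEquivRight e2)]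
  have hU1 : Nat.card {v : V // ∀ u ∈ U, φ u v = v} = 1 :=
    Nat.card_eq_one_iff_unique.2 ⟨⟨fun a b => Subtype.ext ((hnone _ a.2).trans (hnone _ b.2).symm)⟩, ⟨⟨1, fun u _ => map_one _⟩⟩⟩
  have hG1 : Nat.card {v : V // ∀ g, φ g v = v} = 1 :=
    Nat.card_eq_one_iff_unique.2 ⟨⟨fun a b => Subtype.ext ((hnone _ fun u _ => a.2 u).trans (hnone _ fun u _ => b.2 u).symm)⟩, ⟨⟨1, fun u => map_one _⟩⟩⟩
  rw [hU1, hG1, one_pow, one_mul, mul_one]
  symm
  rcases subsingleton_or_nontrivial V with hs | hs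
  · haveI : Subsingleton {v : V // ∀ e ∈ E, φ e v = v} := inferInstance
    rw [Nat.card_of_subsingleton (⟨1, fun e _ => map_one _⟩ : {v : V // ∀ e ∈ E, φ e v = v}), one_pow, Nat.card_of_subsingleton (1 : V)]
  obtain ⟨q, hq, hqV⟩ := Nat.exists_prime_and_dvd (Finite.one_lt_card (α := V)).ne'
  haveI := Fact.mk hq
  have hexp : ∀ v : V, v ^ q = 1 := by
    rcases hirr (powMonoidHom q).ker (fun g w hw => by
      rw [MonoidHom.mem_ker, powMonoidHom_apply] at hw ⊢
      rw [← map_pow, hw, map_one]) with h | h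
    · obtain ⟨v, hv⟩ := exists_prime_orderOf_dvd_card' q hqV
      exfalso
      have : v ∈ (powMonoidHom q : V →* V).ker := by rw [MonoidHom.mem_ker, powMonoidHom_apply, ← hv, pow_orderOf_eq_one]
      rw [h, Subgroup.mem_bot] at this
      exact hq.one_lt.ne (by rw [← hv, this, orderOf_one])
    · intro v
      have := (h.symm ▸ Subgroup.mem_top v : v ∈ (powMonoidHom q : V →* V).ker)
      rwa [MonoidHom.mem_ker, powMonoidHom_apply] at this
  -- an abelian piece of the kernel acting without fixed points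
  obtain ⟨e₀, he₀, he₀1⟩ := E.bot_or_exists_ne_one.resolve_left hE1
  obtain ⟨r, hr, hre⟩ := Nat.exists_prime_and_dvd (orderOf_eq_one_iff.not.2 he₀1)
  haveI := Fact.mk hr
  have hho : orderOf (e₀ ^ (orderOf e₀ / r)) = r := orderOf_pow_orderOf_div (orderOf_pos _).ne' hre
  haveI : Group.IsNilpotent U := CfsgLib.Solv.isNilpotent_of_fpf_element (p := r) (h := e₀ ^ (orderOf e₀ / r))
    (orderOf_dvd_iff_pow_eq_one.1 hho.dvd) (eq_bot_iff.2 fun u hu => Subgroup.mem_bot.2
      (hfpf _ (pow_mem he₀ _) (fun h => hr.one_lt.ne (by rw [← hho, h, orderOf_one])) u hu.1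
        (Subgroup.mem_centralizer_singleton_iff.1 hu.2).symm))
  let ψ := φ.comp U.subtype
  have hnt : ψ.range ≠ ⊥ := fun h => by
    obtain ⟨v, hv⟩ := exists_ne (1 : V)
    refine hv (hnone v fun u hu => ?_)
    have : φ u = 1 := Subgroup.mem_bot.1 (h ▸ ⟨⟨u, hu⟩, rfl⟩ : φ u ∈ (⊥ : Subgroup (MulAut V)))
    rw [this]; rfl
  haveI : Group.IsNilpotent ψ.range := Group.nilpotent_of_surjective ψ.rangeRestrict ψ.rangeRestrict_surjective
  haveI : Nontrivial ψ.range := (Subgroup.nontrivial_iff_ne_bot _).2 hnt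
  let A : Subgroup (MulAut V) := (Subgroup.center ψ.range).map ψ.range.subtype
  have hAU : ∀ a ∈ A, ∃ u ∈ U, φ u = a := by
    rintro _ ⟨⟨_, u, rfl⟩, -, rfl⟩
    exact ⟨u, u.2, rfl⟩
  have hAc : ∀ a ∈ A, ∀ u ∈ U, φ u * a = a * φ u := by
    rintro _ ⟨c, hc, rfl⟩ u hu
    exact congrArg Subtype.val (Subgroup.mem_center_iff.1 hc ⟨φ u, ⟨⟨u, hu⟩, rfl⟩⟩)
  have hAmem : ∀ u ∈ U, (∀ w ∈ U, φ w * φ u = φ u * φ w) → φ u ∈ A := fun u hu h =>
    ⟨⟨φ u, ⟨⟨u, hu⟩, rfl⟩⟩, Subgroup.mem_center_iff.2 fun x => by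
      obtain ⟨w, hw⟩ := x.2
      exact Subtype.ext (by rw [Subgroup.coe_mul, Subgroup.coe_mul, ← hw]; exact h w w.2), rfl⟩
  have hAN : ∀ g : G, ∀ a ∈ A, φ g * a * (φ g)⁻¹ ∈ A := by
    intro g a ha
    obtain ⟨u, hu, rfl⟩ := hAU a ha
    rw [← map_inv, ← map_mul, ← map_mul]
    refine hAmem _ (Subgroup.Normal.conj_mem inferInstance u hu g) fun w hw => ?_
    have h1 := hAc _ ha _ (Subgroup.Normal.conj_mem inferInstance w hw g⁻¹)
    simp only [map_mul, map_inv, inv_inv] at h1 ⊢
    calc φ w * (φ g * φ u * (φ g)⁻¹) = φ g * ((φ g)⁻¹ * φ w * φ g * φ u) * (φ g)⁻¹ := by group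
      _ = φ g * (φ u * ((φ g)⁻¹ * φ w * φ g)) * (φ g)⁻¹ := by rw [h1]
      _ = φ g * φ u * (φ g)⁻¹ * φ w := by group
  haveI hAcomm : IsMulCommutative A := ⟨⟨fun a b => by
    obtain ⟨u, hu, hue⟩ := hAU a a.2
    exact Subtype.ext (by rw [Subgroup.coe_mul, Subgroup.coe_mul, ← hue]; exact hAc b b.2 u hu)⟩⟩
  have hAfix : ∀ v, (∀ a ∈ A, a v = v) → v = 1 := by
    rcases hmn (A.comap φ ⊓ U) ⟨fun x hx g => ⟨by
      show φ (g * x * g⁻¹) ∈ A
      rw [map_mul, map_mul, map_inv]; exact hAN g _ hx.1, Subgroup.Normal.conj_mem inferInstance x hx.2 g⟩⟩ with h | h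
    · exfalso
      have hb : Subgroup.center ψ.range = ⊥ := eq_bot_iff.2 fun c hc => Subgroup.mem_bot.2 (Subtype.ext (by
        obtain ⟨u, hu, hue⟩ := hAU _ ⟨c, hc, rfl⟩
        refine MulEquiv.ext fun v => ?_
        show (c : MulAut V) v = v
        have e : φ u = (c : MulAut V) := hue
        rw [← e]; exact h v u ⟨(show φ u ∈ A from e ▸ ⟨c, hc, rfl⟩), hu⟩))
      exact Group.IsNilpotent.center_ne_bot (G := ψ.range) hb
    · exact fun v hv => h v fun x hx => hv _ hx.1
  open scoped IsMulCommutative in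
  let θ : E →* MulAut A :=
    { toFun := fun e =>
        { toFun := fun a => ⟨φ e * a * (φ e)⁻¹, hAN e a a.2⟩
          invFun := fun a => ⟨φ (e : G)⁻¹ * a * (φ (e : G)⁻¹)⁻¹, hAN _ a a.2⟩
          left_inv := fun a => Subtype.ext (by simp [mul_assoc])
          right_inv := fun a => Subtype.ext (by simp [mul_assoc])
          map_mul' := fun a b => Subtype.ext (by simp [mul_assoc]) }
      map_one' := MulEquiv.ext fun a => Subtype.ext (by simp)
      map_mul' := fun e f => MulEquiv.ext fun a => Subtype.ext (by simp [mul_assoc]) }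
  letI : Module (ZMod q) (Additive V) := AddCommGroup.zmodModule (n := q) fun v => hexp v.toMul
  let toEnd : MulAut V →* Module.End (ZMod q) (Additive V) :=
    { toFun := fun a => (MonoidHom.toAdditive a.toMonoidHom).toZModLinearMap q
      map_one' := LinearMap.ext fun v => rfl
      map_mul' := fun a b => LinearMap.ext fun v => rfl }
  open scoped IsMulCommutative in
  have key := free_card (A := A) (E := E) (toEnd.comp A.subtype) (toEnd.comp (φ.comp E.subtype)) θ
    (fun e a => by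
      show toEnd (φ e) * toEnd a = toEnd (φ e * a * (φ e)⁻¹) * toEnd (φ e)
      rw [← map_mul, ← map_mul, inv_mul_cancel_right])
    (fun h => by
      have hd : Nat.card A ∣ Nat.card G := (Subgroup.card_dvd_of_le (show A ≤ φ.range by
        intro a ha
        obtain ⟨u, -, rfl⟩ := hAU a ha
        exact ⟨u, rfl⟩)).trans (Subgroup.card_range_dvd φ)
      exact hq.ne_one (Nat.eq_one_of_dvd_coprimes hcop hqV (h.trans hd)))
    (fun m hm => hAfix m.toMul fun a ha => hm ⟨a, ha⟩)
    (fun e he a h => by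
      obtain ⟨u, hu, hue⟩ := hAU a a.2
      have h' : φ e * a * (φ e)⁻¹ = a := congrArg Subtype.val h
      let K : Subgroup G := φ.ker ⊓ U
      have hK : ∀ x ∈ K, (e : G) * x * (e : G)⁻¹ * x⁻¹ ∈ K := fun x hx =>
        mul_mem (Subgroup.Normal.conj_mem inferInstance x hx (e : G)) (inv_mem hx)
      have hinj : ∀ x ∈ U, ∀ y ∈ U, (e : G) * x * (e : G)⁻¹ * x⁻¹ = (e : G) * y * (e : G)⁻¹ * y⁻¹ → x = y := by
        intro x hx y hy hxy
        refine (inv_mul_eq_one.1 (hfpf e e.2 (fun h1 => he (Subtype.ext h1)) (y⁻¹ * x) (mul_mem (inv_mem hy) hx) ?_)).symm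
        have hx' : (e : G) * x * (e : G)⁻¹ = (e : G) * y * (e : G)⁻¹ * y⁻¹ * x := by rw [← hxy]; group
        calc (e : G) * (y⁻¹ * x) = ((e : G) * y * (e : G)⁻¹)⁻¹ * ((e : G) * x * (e : G)⁻¹) * e := by group
          _ = y⁻¹ * x * e := by rw [hx']; group
      have hsurj : Function.Surjective (fun x : K => (⟨_, hK x x.2⟩ : K)) := Finite.injective_iff_surjective.1
        fun x y h => Subtype.ext (hinj x x.2.2 y y.2.2 (congrArg Subtype.val h))
      have hd : (e : G) * u * (e : G)⁻¹ * u⁻¹ ∈ K := by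
        refine Subgroup.mem_inf.2 ⟨?_, mul_mem (Subgroup.Normal.conj_mem inferInstance u hu (e : G)) (inv_mem hu)⟩
        show φ _ = 1
        rw [map_mul, map_mul, map_mul, map_inv, map_inv, hue, h', mul_inv_cancel]
      obtain ⟨⟨x, hx⟩, hxe⟩ := hsurj ⟨_, hd⟩
      refine Subtype.ext ?_
      rw [← hue, ← hinj x hx.2 u hu (congrArg Subtype.val hxe)]
      exact hx.1)
  rw [← show Nat.card (Additive V) = Nat.card V from rfl, ← key]
  congr 1
  exact Nat.card_congr ((Additive.ofMul (α := V)).subtypeEquiv fun v => ⟨fun h e => congrArg Additive.ofMul (h e e.2),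
    fun h e he => congrArg Additive.toMul (h ⟨e, he⟩)⟩)

variable {X : Type*} [Group X] [Finite X]

theorem chief_induction (G U E : Subgroup X) (hUG : U ≤ G) (hEG : E ≤ G) (hsup : U ⊔ E = G)
    (hUn : G ≤ Subgroup.normalizer (U : Set X)) (hE1 : E ≠ ⊥)
    (hfpf : ∀ e ∈ E, e ≠ 1 → ∀ u ∈ U, e * u = u * e → u = 1) :
    ∀ (n : ℕ) (K : Subgroup X), Nat.card K = n → G ≤ Subgroup.normalizer (K : Set X) → Group.IsSolvable K →
      (Nat.card K).Coprime (Nat.card G) →
      Nat.card ↥(K ⊓ Subgroup.centralizer (G : Set X)) ^ Nat.card E * Nat.card K =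
        Nat.card ↥(K ⊓ Subgroup.centralizer (E : Set X)) ^ Nat.card E * Nat.card ↥(K ⊓ Subgroup.centralizer (U : Set X)) := by
  intro n
  induction n using Nat.strong_induction_on with
  | _ n ih => ?_
  intro K hn hGK hs hcop
  classical
  by_cases hbot : K = ⊥
  · subst hbot
    simp [bot_inf_eq]
  have hder : ⁅K, K⁆ < K := by
    haveI := hs
    haveI : Nontrivial K := (Subgroup.nontrivial_iff_ne_bot K).2 hbot
    have h1 : commutator K < ⊤ := IsSolvable.commutator_lt_top_of_nontrivial K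
    refine lt_of_le_of_ne (Subgroup.commutator_le_self K) fun h => h1.ne ?_
    apply Subgroup.map_injective K.subtype_injective
    rw [CfsgLib.Solv.BW.map_commutator_self, h, ← MonoidHom.range_eq_map, Subgroup.range_subtype]
  have hGd : G ≤ Subgroup.normalizer ((⁅K, K⁆ : Subgroup X) : Set X) := by
    intro a ha
    refine CfsgLib.Solv.mem_normalizer_of_conj_smul_eq ?_
    rw [CfsgLib.Solv.conj_smul_eq_map, Subgroup.map_commutator, ← CfsgLib.Solv.conj_smul_eq_map,
      CfsgLib.Solv.conj_smul_eq_self_of_mem_normalizer (hGK ha)]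
  obtain ⟨Q, hQmax⟩ := (Set.toFinite {Q : Subgroup X | ⁅K, K⁆ ≤ Q ∧ Q < K ∧
    G ≤ Subgroup.normalizer (Q : Set X)}).exists_maximal ⟨_, le_rfl, hder, hGd⟩
  obtain ⟨hdQ, hQK, hGQ⟩ := hQmax.1
  haveI hQn : (Q.subgroupOf K).Normal := ⟨fun x hx k => by
    rw [Subgroup.mem_subgroupOf] at hx ⊢
    push_cast
    have h1 := mul_mem (hdQ (Subgroup.commutator_mem_commutator k.2 (hQK.le hx))) hx
    rwa [commutatorElement_def, inv_mul_cancel_right] at h1⟩
  have hcQ : (Nat.card Q).Coprime (Nat.card G) := hcop.coprime_dvd_left (Subgroup.card_dvd_of_le hQK.le)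
  have hQs : Group.IsSolvable Q := haveI := hs; CfsgLib.Solv.isSolvable_of_le hQK.le
  have hIH := ih (Nat.card Q) (hn ▸ lt_of_le_of_ne (Subgroup.card_le_of_le hQK.le)
    fun h => hQK.ne (Subgroup.eq_of_le_of_card_ge hQK.le h.ge)) Q rfl hGQ hQs hcQ
  let π := QuotientGroup.mk' (Q.subgroupOf K)
  letI : CommGroup (K ⧸ Q.subgroupOf K) :=
    { (inferInstance : Group (K ⧸ Q.subgroupOf K)) with
      mul_comm := by
        intro a b
        obtain ⟨a, rfl⟩ := QuotientGroup.mk'_surjective _ a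
        obtain ⟨b, rfl⟩ := QuotientGroup.mk'_surjective _ b
        refine commutatorElement_eq_one_iff_mul_comm.1 ?_
        rw [← map_commutatorElement]
        exact (QuotientGroup.eq_one_iff _).2 (Subgroup.mem_subgroupOf.2 (hdQ (by
          push_cast [commutatorElement_def]
          exact Subgroup.commutator_mem_commutator a.2 b.2))) }
  have hK' : ∀ g : G, ∀ k ∈ K, (g : X) * k * (g : X)⁻¹ ∈ K := fun g k hk => (Subgroup.mem_normalizer_iff.1 (hGK g.2) k).1 hk
  have hQ' : ∀ g : G, ∀ k ∈ Q, (g : X) * k * (g : X)⁻¹ ∈ Q := fun g k hk => (Subgroup.mem_normalizer_iff.1 (hGQ g.2) k).1 hk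
  let cj : G →* MulAut K :=
    { toFun := fun g =>
        { toFun := fun k => ⟨(g : X) * k * (g : X)⁻¹, hK' g k k.2⟩
          invFun := fun k => ⟨(g : X)⁻¹ * k * (g : X), by simpa using hK' g⁻¹ k k.2⟩
          left_inv := fun k => Subtype.ext (by simp [mul_assoc])
          right_inv := fun k => Subtype.ext (by simp [mul_assoc])
          map_mul' := fun a b => Subtype.ext (by simp [mul_assoc]) }
      map_one' := MulEquiv.ext fun k => Subtype.ext (by simp)
      map_mul' := fun a b => MulEquiv.ext fun k => Subtype.ext (by simp [mul_assoc]) }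
  have hmapQ : ∀ g, (Q.subgroupOf K).map (cj g).toMonoidHom = Q.subgroupOf K := fun g =>
    Subgroup.eq_of_le_of_card_ge (by
      rintro _ ⟨k, hk, rfl⟩
      exact Subgroup.mem_subgroupOf.2 (hQ' g k (Subgroup.mem_subgroupOf.1 hk)))
      (le_of_eq (Subgroup.card_map_of_injective (cj g).injective).symm)
  let φ : G →* MulAut (K ⧸ Q.subgroupOf K) :=
    { toFun := fun g => QuotientGroup.congr _ _ (cj g) (hmapQ g)
      map_one' := MulEquiv.ext fun x => by
        induction x using QuotientGroup.induction_on with | _ k =>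
        simp [map_one]
      map_mul' := fun a b => MulEquiv.ext fun x => by
        induction x using QuotientGroup.induction_on with | _ k =>
        simp [map_mul]; rfl }
  have hφ : ∀ g k, φ g (π k) = π (cj g k) := fun g k => rfl
  haveI : (U.subgroupOf G).Normal := Subgroup.normal_subgroupOf_of_le_normalizer hUn
  have hsplit : ∀ S : Subgroup X, S ≤ G → Nat.card ↥(K ⊓ Subgroup.centralizer (S : Set X)) =
      Nat.card {v : K ⧸ Q.subgroupOf K // ∀ s ∈ S.subgroupOf G, φ s v = v} * Nat.card ↥(Q ⊓ Subgroup.centralizer (S : Set X)) := by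
    intro S hSG
    let C := (Subgroup.centralizer (S : Set X)).subgroupOf K
    have hC1 : Nat.card C = Nat.card ↥(K ⊓ Subgroup.centralizer (S : Set X)) := by
      rw [← Subgroup.card_map_of_injective (f := K.subtype) (K := C) K.subtype_injective, Subgroup.subgroupOf_map_subtype, inf_comm]
    have hdisj : S ⊓ K = ⊥ := by
      refine Subgroup.inf_eq_bot_of_coprime ?_
      exact (hcop.coprime_dvd_right (Subgroup.card_dvd_of_le hSG)).symm
    have himg : ∀ v, v ∈ C.map π ↔ ∀ s ∈ S.subgroupOf G, φ s v = v := by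
      intro v
      constructor
      · rintro ⟨k, hk, rfl⟩ s hs
        rw [hφ]
        congr 1
        refine Subtype.ext (mul_inv_eq_iff_eq_mul.2 ?_)
        exact Subgroup.mem_centralizer_iff.1 (Subgroup.mem_subgroupOf.1 hk) s hs
      · intro h
        obtain ⟨k, rfl⟩ := QuotientGroup.mk'_surjective _ v
        obtain ⟨d, hd, hkd⟩ := CfsgLib.Solv.exists_centralizing_in_coset (hSG.trans hGK) hdisj hQK.le (hSG.trans hGQ)
          ((hcQ.coprime_dvd_right (Subgroup.card_dvd_of_le hSG)).symm) (Or.inr hQs) k.2 (fun a ha => by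
            have h1 := h ⟨a, hSG ha⟩ ha
            rw [hφ] at h1
            have h2 := QuotientGroup.eq.1 h1.symm
            rw [Subgroup.mem_subgroupOf] at h2
            change (k : X)⁻¹ * (a * k * a⁻¹) ∈ Q at h2
            simpa only [mul_assoc] using h2)
        refine ⟨⟨(k : X) * d, mul_mem k.2 (hQK.le hd)⟩, hkd, ?_⟩
        refine (QuotientGroup.eq.2 ?_).symm
        rw [Subgroup.mem_subgroupOf]
        simpa using hd
    have h1 := Subgroup.card_eq_card_quotient_mul_card_subgroup (π.subgroupMap C).ker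
    rw [Nat.card_congr (QuotientGroup.quotientKerEquivOfSurjective _ (π.subgroupMap_surjective C)).toEquiv] at h1
    rw [← hC1, h1]
    congr 1
    · exact Nat.card_congr (Equiv.subtypeEquivRight himg)
    · refine Nat.card_congr
        { toFun := fun c => ⟨((c : C) : K), Subgroup.mem_subgroupOf.1 ((QuotientGroup.eq_one_iff _).1 (congrArg Subtype.val c.2)),
            Subgroup.mem_subgroupOf.1 c.1.2⟩
          invFun := fun c => ⟨⟨⟨c, hQK.le c.2.1⟩, Subgroup.mem_subgroupOf.2 c.2.2⟩,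
            Subtype.ext ((QuotientGroup.eq_one_iff _).2 (Subgroup.mem_subgroupOf.2 c.2.1))⟩
          left_inv := fun c => rfl
          right_inv := fun c => rfl }
  have hVG : (Nat.card (K ⧸ Q.subgroupOf K)).Coprime (Nat.card G) :=
    hcop.coprime_dvd_left (Subgroup.card_quotient_dvd_card _)
  have key := irreducible_formula φ (U.subgroupOf G) (E.subgroupOf G)
    (by rw [← Subgroup.subgroupOf_sup hUG hEG, hsup, Subgroup.subgroupOf_self])
    (fun h => hE1 (eq_bot_iff.2 fun e he => by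
      have := Subgroup.mem_bot.1 (h ▸ (Subgroup.mem_subgroupOf.2 he : (⟨e, hEG he⟩ : G) ∈ E.subgroupOf G))
      exact Subgroup.mem_bot.2 (congrArg Subtype.val this)))
    (fun e he he1 u hu h => Subtype.ext (hfpf e he (fun h1 => he1 (Subtype.ext h1)) u hu (congrArg Subtype.val h)))
    (fun W hW => by
      let L := (W.comap π).map K.subtype
      have hQL : Q ≤ L := fun q hq => ⟨⟨q, hQK.le hq⟩, by
        rw [SetLike.mem_coe, Subgroup.mem_comap, show π ⟨q, hQK.le hq⟩ = 1 from (QuotientGroup.eq_one_iff _).2 (Subgroup.mem_subgroupOf.2 hq)]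
        exact one_mem W, rfl⟩
      have hGL : G ≤ Subgroup.normalizer (L : Set X) := by
        refine CfsgLib.Solv.le_normalizer_iff_forall_conj_mem.2 fun g hg => ?_
        rintro _ ⟨k, hk, rfl⟩
        exact ⟨cj ⟨g, hg⟩ k, hW ⟨g, hg⟩ (π k) hk, rfl⟩
      by_cases hLK : L = K
      · right
        refine Subgroup.eq_top_iff' W |>.2 fun v => ?_
        obtain ⟨k, rfl⟩ := QuotientGroup.mk'_surjective _ v
        obtain ⟨k', hk', hke⟩ := (hLK.symm ▸ k.2 : (k : X) ∈ L)
        exact (Subtype.ext hke : k' = k) ▸ hk'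
      · left
        have hle : L ≤ Q := hQmax.2 ⟨hdQ.trans hQL, lt_of_le_of_ne (Subgroup.map_subtype_le _) hLK, hGL⟩ hQL
        refine eq_bot_iff.2 fun v hv => ?_
        obtain ⟨k, rfl⟩ := QuotientGroup.mk'_surjective _ v
        exact Subgroup.mem_bot.2 ((QuotientGroup.eq_one_iff _).2 (Subgroup.mem_subgroupOf.2 (hle ⟨k, hv, rfl⟩))))
    hVG
  have hcE : Nat.card (E.subgroupOf G) = Nat.card E := Nat.card_congr (Subgroup.subgroupOfEquivOfLe hEG).toEquiv
  rw [hcE] at key
  have hK : Nat.card K = Nat.card (K ⧸ Q.subgroupOf K) * Nat.card Q := by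
    rw [Subgroup.card_eq_card_quotient_mul_card_subgroup (Q.subgroupOf K), Nat.card_congr (Subgroup.subgroupOfEquivOfLe hQK.le).toEquiv]
  rw [hsplit G le_rfl, hsplit E hEG, hsplit U hUG, hK,
    Nat.card_congr (Equiv.subtypeEquivRight (p := fun v => ∀ s ∈ G.subgroupOf G, φ s v = v) (q := fun v => ∀ g, φ g v = v)
      (fun v => ⟨fun h g => h g g.2, fun h g _ => h g⟩)), mul_pow, mul_pow]
  calc _ = (Nat.card {v // ∀ g, φ g v = v} ^ Nat.card E * Nat.card (K ⧸ Q.subgroupOf K)) *
        (Nat.card ↥(Q ⊓ Subgroup.centralizer (G : Set X)) ^ Nat.card E * Nat.card Q) := by ring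
    _ = _ := by rw [key, hIH]; ring

end Cfsg.Agent.S1545

namespace Cfsg.Agent.S1545

/-- Let X be a finite group with subgroups U, E and H such that U and E generate a subgroup UE = U ⊔ E normalising H, with U normal in UE, U ⊓ E = ⊥, U ≠ ⊥, E ≠ ⊥, every non-identity element of E commuting with no non-identity element of U (UE is a Frobenius group with kernel U acting on H by conjugation), H solvable, H ⊓ (U ⊔ E) = ⊥ and the orders of H and U ⊔ E coprime. Then Nat.card (H ⊓ C(U ⊔ E)) ^ Nat.card E * Nat.card H = Nat.card (H ⊓ C(E)) ^ Nat.card E * Nat.card (H ⊓ C(U)), where C(·) denotes the centraliser. -/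
theorem result {X : Type*} [Group X] [Finite X] (U E H : Subgroup X) (hU1 : U ≠ ⊥) (hE1 : E ≠ ⊥) (hUE : U ⊓ E = ⊥) (hUn : ∀ e ∈ E, ∀ u ∈ U, e * u * e⁻¹ ∈ U) (hfpf : ∀ e ∈ E, e ≠ 1 → ∀ u ∈ U, e * u = u * e → u = 1) (hHn : ∀ x ∈ U ⊔ E, ∀ h ∈ H, x * h * x⁻¹ ∈ H) (hdisj : H ⊓ (U ⊔ E) = ⊥) (hsolv : Group.IsSolvable H) (hcop : Nat.Coprime (Nat.card H) (Nat.card ↥(U ⊔ E))) : Nat.card ↥(H ⊓ Subgroup.centralizer ((U ⊔ E : Subgroup X) : Set X)) ^ Nat.card E * Nat.card H = Nat.card ↥(H ⊓ Subgroup.centralizer (E : Set X)) ^ Nat.card E * Nat.card ↥(H ⊓ Subgroup.centralizer (U : Set X)) := by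
  refine chief_induction (U ⊔ E) U E le_sup_left le_sup_right rfl ?_ hE1 hfpf _ H rfl ?_ hsolv hcop
  · exact sup_le Subgroup.le_normalizer (CfsgLib.Solv.le_normalizer_iff_forall_conj_mem.2 hUn)
  · exact CfsgLib.Solv.le_normalizer_iff_forall_conj_mem.2 hHn

end Cfsg.Agent.S1545
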