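import Cfsg.Statements.S1546
import Mathlib.Algebra.Order.Ring.GeomSum
import Mathlib.FieldTheory.Finite.Basic
import Mathlib.Algebra.BigOperators.Intervals

set_option autoImplicit false
open Cfsg

namespace Cfsg.Agent.S1546

/-- Let p and q be odd primes and N = (p ^ q − 1) / (p − 1) = 1 + p + ⋯ + p^(q−1). Then N is odd; if p ≡ 1 (mod q) then q ∣ N; and if p is not ≡ 1 (mod q) then N is coprime to p − 1 and every divisor of N is ≡ 1 (mod q). -/
theorem result (p q : ℕ) (hp : p.Prime) (hq : q.Prime) (hp2 : p ≠ 2) (hq2 : q ≠ 2) : Odd ((p ^ q - 1) / (p - 1)) ∧ (p % q = 1 → q ∣ (p ^ q - 1) / (p - 1)) ∧ (p % q ≠ 1 → Nat.Coprime ((p ^ q - 1) / (p - 1)) (p - 1) ∧ ∀ x : ℕ, x ∣ (p ^ q - 1) / (p - 1) → x % q = 1) := by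
  have hq0 := hq.pos
  have hN : (p ^ q - 1) / (p - 1) = ∑ i ∈ Finset.range q, p ^ i := (Nat.geomSum_eq hp.two_le q).symm
  rw [hN]
  set N := ∑ i ∈ Finset.range q, p ^ i with hNdef
  have hodd : Odd p := hp.odd_of_ne_two hp2
  have hqodd : Odd q := hq.odd_of_ne_two hq2
  have hmod : ∀ r : ℕ, p % r = 1 % r → N % r = q % r := fun r hr => by
    rw [hNdef, Finset.sum_nat_mod, Finset.sum_congr rfl fun i _ => show p ^ i % r = 1 % r by
      rw [Nat.pow_mod, hr, ← Nat.pow_mod, one_pow], ← Finset.sum_nat_mod]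
    simp
  refine ⟨?_, fun h => ?_, fun h => ⟨?_, ?_⟩⟩
  · rw [Nat.odd_iff, hmod 2 (Nat.odd_iff.1 hodd), Nat.odd_iff.1 hqodd]
  · rw [Nat.dvd_iff_mod_eq_zero, hmod q (by rw [h, Nat.mod_eq_of_lt hq.one_lt]), Nat.mod_self]
  · refine Nat.coprime_of_dvd fun r hr hrN hrp => h ?_
    have h1 : p % r = 1 % r := ((Nat.modEq_iff_dvd' hp.pos).2 hrp).symm
    have h2 : r = q := (Nat.prime_dvd_prime_iff_eq hr hq).1 (Nat.dvd_of_mod_eq_zero (by
      rw [← hmod r h1]; exact Nat.mod_eq_zero_of_dvd hrN))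
    rw [← h2, h1, Nat.mod_eq_of_lt hr.one_lt]
  · suffices hall : ∀ x : ℕ, x ∣ N → x % q = 1 from hall
    refine Nat.recOnMul (motive := fun x => x ∣ N → x % q = 1) (fun h0 => ?_)
      (fun _ => Nat.mod_eq_of_lt hq.one_lt) (fun r hr hrN => ?_) (fun a b ha hb hab => ?_)
    · have : 0 < N := Finset.sum_pos (fun i _ => Nat.pow_pos hp.pos) ⟨0, Finset.mem_range.2 hq0⟩
      exact absurd (Nat.eq_zero_of_zero_dvd h0) this.ne'
    · haveI := Fact.mk hr
      have hpw : ((p : ZMod r)) ^ q = 1 := by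
        have hN0 : ((N : ℕ) : ZMod r) = 0 := (ZMod.natCast_eq_zero_iff _ _).2 hrN
        have := geom_sum_mul (p : ZMod r) q
        rw [hNdef, Nat.cast_sum] at hN0
        simp only [Nat.cast_pow] at hN0
        rw [hN0, zero_mul] at this
        exact sub_eq_zero.1 this.symm
      have hp1 : (p : ZMod r) ≠ 1 := fun e => h (by
        have h1 : p % r = 1 % r := (ZMod.natCast_eq_natCast_iff' p 1 r).1 (by simpa using e)
        have h2 : r = q := (Nat.prime_dvd_prime_iff_eq hr hq).1 (Nat.dvd_of_mod_eq_zero (by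
          rw [← hmod r h1]; exact Nat.mod_eq_zero_of_dvd hrN))
        rw [← h2, h1, Nat.mod_eq_of_lt hr.one_lt])
      have hord : orderOf (p : ZMod r) = q := by
        rcases (Nat.dvd_prime hq).1 (orderOf_dvd_of_pow_eq_one hpw) with h' | h'
        · exact absurd (orderOf_eq_one_iff.1 h') hp1
        · exact h'
      have hne : (p : ZMod r) ≠ 0 := fun e => by
        rw [e, zero_pow hq.ne_zero] at hpw; exact zero_ne_one hpw
      have hd := hord ▸ ZMod.orderOf_dvd_card_sub_one hne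
      rw [← Nat.mod_eq_of_lt hq.one_lt]
      exact ((Nat.modEq_iff_dvd' hr.one_lt.le).2 hd).symm
    · rw [Nat.mul_mod, ha ((dvd_mul_right a b).trans hab), hb ((dvd_mul_left b a).trans hab),
        one_mul, Nat.mod_eq_of_lt hq.one_lt]

end Cfsg.Agent.S1546
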