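import Cfsg.Statements.S1551
import Cfsg.Agent.Spor.SextetCore
import Cfsg.Agent.Spor.StabConj
-- import your own Cfsg.Agent.* helpers here

set_option autoImplicit false
open scoped Pointwise
open Cfsg

namespace Cfsg.Agent.S1551

open CfsgLib.Spor CfsgLib.Spor.M24Elems CfsgLib.Spor.ListSub CfsgLib.Spor.SextetCore
open scoped Pointwise

/-- Structure of a sextet stabiliser: it induces every permutation of the six tetrads, the subgroup fixing each tetrad setwise has order 192, and there is a normal subgroup of order 64 consisting of elements squaring to the identity. -/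
theorem result (S : Finset (Finset Cfsg.GolayPt)) (hS : S ∈ Cfsg.sextets) : (∀ e : Equiv.Perm ↥S, ∃ g ∈ MulAction.stabilizer Cfsg.M24 S, ∀ t : ↥S, (g : Equiv.Perm Cfsg.GolayPt) • (t : Finset Cfsg.GolayPt) = ((e t : ↥S) : Finset Cfsg.GolayPt)) ∧ Nat.card {g : ↥(MulAction.stabilizer Cfsg.M24 S) // ∀ t ∈ S, ((g : Cfsg.M24) : Equiv.Perm Cfsg.GolayPt) • t = t} = 192 ∧ ∃ N : Subgroup ↥(MulAction.stabilizer Cfsg.M24 S), N.Normal ∧ Nat.card N = 64 ∧ ∀ x ∈ N, x * x = 1 := by
  classical
  obtain ⟨σ, hσ, rfl⟩ := sextet_std hS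
  let T : Fin 6 → Finset GolayPt := fun k => ofMask (sextX.getD k.val 0)
  have hlen : sextX.length = 6 := by decide
  have hS0 : ∀ t, t ∈ S0 ↔ ∃ k, T k = t := by
    intro t
    simp only [S0, famDec, List.mem_toFinset, List.mem_map]
    constructor
    · rintro ⟨m, hm, rfl⟩
      obtain ⟨k, hk, rfl⟩ := List.getElem_of_mem hm
      exact ⟨⟨k, hlen ▸ hk⟩, congrArg ofMask (List.getD_eq_getElem _ _ hk)⟩
    · rintro ⟨k, rfl⟩
      have hk : k.val < sextX.length := by rw [hlen]; exact k.2
      exact ⟨_, List.getElem_mem hk, congrArg ofMask (List.getD_eq_getElem _ _ hk).symm⟩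
  set St := MulAction.stabilizer M24 (σ • S0)
  set H0 := M24 ⊓ MulAction.stabilizer (Equiv.Perm GolayPt) S0 with hH0
  let e : St ≃* H0 := stabEquiv hσ S0
  have hcard : Nat.card St = 138240 := by
    rw [Nat.card_congr e.toEquiv, hH0, stab_S0_eq, card_stab_S0]
  have hmap : ∀ (g : St) (t : ↥(σ • S0)), (g.1 : Equiv.Perm GolayPt) • (t : Finset GolayPt) ∈ σ • S0 := fun g t => by
    have h := Finset.smul_mem_smul_finset (a := (g.1 : Equiv.Perm GolayPt)) t.2
    rwa [show (g.1 : Equiv.Perm GolayPt) • (σ • S0) = σ • S0 from g.2] at h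
  letI act : MulAction St ↥(σ • S0) :=
    { smul := fun g t => ⟨_, hmap g t⟩
      one_smul := fun t => Subtype.ext (one_smul (Equiv.Perm GolayPt) _)
      mul_smul := fun g h t => Subtype.ext (mul_smul (g.1 : Equiv.Perm GolayPt) (h.1 : Equiv.Perm GolayPt) _) }
  let φ : St →* Equiv.Perm ↥(σ • S0) := MulAction.toPermHom St ↥(σ • S0)
  have hφs : Function.Surjective φ := by
    rw [← MonoidHom.range_eq_top, eq_top_iff, ← Equiv.Perm.closure_isSwap, Subgroup.closure_le]
    rintro _ ⟨t, u, htu, rfl⟩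
    obtain ⟨a, ha, hat⟩ := Finset.mem_smul_finset.1 t.2
    obtain ⟨b, hb, hbu⟩ := Finset.mem_smul_finset.1 u.2
    obtain ⟨i, rfl⟩ := (hS0 a).1 ha
    obtain ⟨j, rfl⟩ := (hS0 b).1 hb
    obtain ⟨hw, hwk⟩ := swaps_check i j
    set w := mkPerm (swaps.getD (6 * i.val + j.val) 0)
    have hwT : ∀ k, w • T k = T (Equiv.swap i j k) := fun k => by
      show w • ofMask _ = ofMask _
      rw [smul_ofMask (inM24_ok hw), ← ofMask_mod, hwk k, ofMask_mod]
    have hwS : w • S0 = S0 := by
      refine Finset.eq_of_subset_of_card_le (fun x hx => ?_) (by rw [Finset.card_smul_finset])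
      obtain ⟨y, hy, rfl⟩ := Finset.mem_smul_finset.1 hx
      obtain ⟨k, rfl⟩ := (hS0 y).1 hy
      exact (hS0 _).2 ⟨_, (hwT k).symm⟩
    let g : St := ⟨⟨σ * w * σ⁻¹, mul_mem (mul_mem hσ (mkPerm_mem_M24 hw)) (inv_mem hσ)⟩, by
      show (σ * w * σ⁻¹) • σ • S0 = σ • S0
      rw [mul_smul, mul_smul, inv_smul_smul, hwS]⟩
    refine ⟨g, Equiv.ext fun v => ?_⟩
    obtain ⟨c, hc, hcv⟩ := Finset.mem_smul_finset.1 v.2
    obtain ⟨k, rfl⟩ := (hS0 c).1 hc
    have hinj : Function.Injective T := by
      intro x y hxy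
      have h0 : ∀ x y : Fin 6, sextX.getD x.val 0 % 2 ^ 24 = sextX.getD y.val 0 % 2 ^ 24 → x = y := by decide +kernel
      exact h0 x y (mask_mod_eq hxy)
    apply Subtype.ext
    show (σ * w * σ⁻¹) • (v : Finset GolayPt) = _
    rw [← hcv, mul_smul, mul_smul, inv_smul_smul, hwT]
    by_cases hvt : v = t
    · subst hvt
      obtain rfl : k = i := hinj (MulAction.injective σ (hcv.trans hat.symm))
      rw [Equiv.swap_apply_left, Equiv.swap_apply_left, ← hbu]
    · by_cases hvu : v = u
      · subst hvu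
        obtain rfl : k = j := hinj (MulAction.injective σ (hcv.trans hbu.symm))
        rw [Equiv.swap_apply_right, Equiv.swap_apply_right, ← hat]
      · rw [Equiv.swap_apply_of_ne_of_ne hvt hvu,
          Equiv.swap_apply_of_ne_of_ne (fun e => hvt (Subtype.ext (by rw [← hcv, e, hat])))
            (fun e => hvu (Subtype.ext (by rw [← hcv, e, hbu]))), hcv]
  refine ⟨fun π => ?_, ?_, ?_⟩
  · obtain ⟨g, hg⟩ := hφs π
    refine ⟨g.1, g.2, fun t => ?_⟩
    rw [← hg]
    rfl
  · rw [Nat.card_congr (show {g : St // ∀ t ∈ σ • S0, ((g : ↥M24) : Equiv.Perm GolayPt) • t = t} ≃ φ.ker from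
      Equiv.subtypeEquivRight fun g => by
        rw [MonoidHom.mem_ker]
        exact ⟨fun h => Equiv.ext fun t => Subtype.ext (h t.1 t.2),
          fun h t ht => congrArg Subtype.val (Equiv.congr_fun h ⟨t, ht⟩)⟩)]
    have h := φ.ker.index_mul_card
    rw [Subgroup.index_ker, MonoidHom.range_eq_top.2 hφs, Subgroup.card_top, hcard, Nat.card_perm,
      Nat.card_eq_fintype_card, Fintype.card_coe, Finset.card_smul_finset, S0_mem.1] at h
    simp only [Nat.factorial] at h
    omega
  · obtain ⟨hw, hlen64, hall, hok2⟩ := els_check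
    simp only [List.all_eq_true, Bool.and_eq_true, List.contains_iff_mem] at hall hok2
    have hle : listSub els els_closed ≤ H0 := le_of_check els_closed fun a ha => by
      refine Subgroup.mem_inf.2 ⟨mkPerm_mem_M24 (hall a ha).1.1.1, MulAction.mem_stabilizer_iff.2 ?_⟩
      refine Finset.eq_of_subset_of_card_le (fun x hx => ?_) (by rw [Finset.card_smul_finset])
      obtain ⟨y, hy, rfl⟩ := Finset.mem_smul_finset.1 hx
      simp only [S0, famDec, List.mem_toFinset, List.mem_map] at hy ⊢
      obtain ⟨m, hm, rfl⟩ := hy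
      exact ⟨_, (hall a ha).1.1.2 m hm, by rw [ofMask_mod, smul_ofMask (inM24_ok (hall a ha).1.1.1)]⟩
    haveI hn : ((listSub els els_closed).subgroupOf H0).Normal :=
      (Subgroup.normal_subgroupOf_iff_le_normalizer hle).2 (stab_S0_eq.le.trans (le_normalizer els_closed hw))
    refine ⟨((listSub els els_closed).subgroupOf H0).comap e.toMonoidHom, Subgroup.Normal.comap hn _, ?_, ?_⟩
    · rw [Nat.card_congr (show ↥(((listSub els els_closed).subgroupOf H0).comap e.toMonoidHom) ≃ ↥((listSub els els_closed).subgroupOf H0)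
          from e.toEquiv.subtypeEquiv fun _ => Iff.rfl), Nat.card_congr
        (Subgroup.subgroupOfEquivOfLe hle).toEquiv, card_listSub, hlen64]
    · intro x hx
      obtain ⟨a, ha, hax⟩ := (mem_listSub (h := els_closed)).1 (Subgroup.mem_subgroupOf.1 hx)
      apply e.injective
      rw [map_mul, map_one]
      refine Subtype.ext ?_
      show ((e x : H0) : Equiv.Perm GolayPt) * _ = 1
      rw [← show mkPerm a = ((e x : H0) : Equiv.Perm GolayPt) from hax, ← mkPerm_comp (hall a ha).1.2]
      refine perm_ext fun i hi => ?_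
      rw [img_mkPerm (hok2 a ha) hi, img_one hi]
      exact beq_iff_eq.1 ((hall a ha).2 i (List.mem_range.2 hi))

end Cfsg.Agent.S1551
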