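import Cfsg.Statements.S1552
import Cfsg.Agent.Spor.SubStd
import Cfsg.Agent.Spor.SubSextSext
-- import your own Cfsg.Agent.* helpers here

set_option autoImplicit false
open scoped Pointwise
open Cfsg

namespace Cfsg.Agent.S1552

open CfsgLib.Spor
open scoped Pointwise

/-- A sextet stabiliser has four orbits on the 1771 sextets, of sizes 1, 90, 240, 1440; and the stabiliser is a maximal proper subgroup. -/
theorem result (S : Finset (Finset Cfsg.GolayPt)) (hS : S ∈ Cfsg.sextets) : ∃ X₁ ∈ Cfsg.sextets, ∃ X₂ ∈ Cfsg.sextets, ∃ X₃ ∈ Cfsg.sextets, (MulAction.orbit ↥(MulAction.stabilizer Cfsg.M24 S) X₁).ncard = 90 ∧ (MulAction.orbit ↥(MulAction.stabilizer Cfsg.M24 S) X₂).ncard = 240 ∧ (MulAction.orbit ↥(MulAction.stabilizer Cfsg.M24 S) X₃).ncard = 1440 ∧ Cfsg.sextets = {S} ∪ MulAction.orbit ↥(MulAction.stabilizer Cfsg.M24 S) X₁ ∪ MulAction.orbit ↥(MulAction.stabilizer Cfsg.M24 S) X₂ ∪ MulAction.orbit ↥(MulAction.stabilizer Cfsg.M24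 S) X₃ ∧ IsCoatom (MulAction.stabilizer Cfsg.M24 S) := by
  obtain ⟨σ, hσ, rfl⟩ := sextet_std hS
  refine ⟨σ • famK.dec ssX1, sextT.smul_mem σ hσ _ ss_in1, σ • famK.dec ssX2, sextT.smul_mem σ hσ _ ss_in2, σ • famK.dec ssX3, sextT.smul_mem σ hσ _ ss_in3, ?_, ?_, ?_, ?_, ?_⟩
  · rw [ncard_orbit_stab_std hσ stab_S0_eq, ss_exact1.2.2]
  · rw [ncard_orbit_stab_std hσ stab_S0_eq, ss_exact2.2.2]
  · rw [ncard_orbit_stab_std hσ stab_S0_eq, ss_exact3.2.2]
  · conv_lhs => rw [← show sextT.carrier = Cfsg.sextets from rfl, ← smul_carrier sextT hσ, show sextT.carrier = Cfsg.sextets from rfl, ss_cover]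
    simp only [Set.smul_set_union, ← orbit_stab_std hσ stab_S0_eq]
    congr 3
    have h1 := ss_exact0.2.2
    rw [← ncard_orbit_stab_std hσ stab_S0_eq, Set.ncard_eq_one] at h1
    obtain ⟨a, ha⟩ := h1
    rw [ha]
    have hX : famK.dec ssX0 = S0 := rfl
    rw [hX] at ha
    have hmem := MulAction.mem_orbit_self (M := MulAction.stabilizer Cfsg.M24 (σ • S0)) (σ • S0)
    rw [ha, Set.mem_singleton_iff] at hmem
    rw [hmem]
  · refine coatom_transport ⟨σ, hσ⟩ (y := S0) rfl ?_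
    refine coatom_base sextT sextets_eq_orbit stab_S0_eq [famK.dec ssX1, famK.dec ssX2, famK.dec ssX3] [90, 240, 1440] (n := 1771) ncard_sextets (by norm_num) ?_ ?_ (by decide) (by decide +kernel)
    · simp only [List.forall_mem_cons]
      exact ⟨ss_in1, ss_in2, ss_in3, by simp⟩
    · simp only [List.map_cons, List.map_nil, ss_exact1.2.2, ss_exact2.2.2, ss_exact3.2.2]

end Cfsg.Agent.S1552
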