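import Cfsg.Statements.S1553
import Cfsg.Agent.Spor.OctadKernel
-- import your own Cfsg.Agent.* helpers here

set_option autoImplicit false
open scoped Pointwise
open Cfsg

namespace Cfsg.Agent.S1553

open CfsgLib.Spor
open scoped Pointwise

/-- The stabiliser of an octad in the group of the length-24 code induces on the octad exactly its alternating group. -/
theorem result (o : Finset Cfsg.GolayPt) (ho : o ∈ Cfsg.octads) : {e : Equiv.Perm ↥o | ∃ g : Equiv.Perm Cfsg.GolayPt, g ∈ Cfsg.M24 ∧ ∃ h : (∀ x, g x ∈ o ↔ x ∈ o), g.subtypePerm h = e} = (alternatingGroup ↥o : Set (Equiv.Perm ↥o)) := by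
  have h := octRestrict_range ho
  ext e
  rw [← h]
  simp only [Set.mem_setOf_eq, SetLike.mem_coe, MonoidHom.mem_range]
  constructor
  · rintro ⟨g, hg, hmem, rfl⟩
    refine ⟨⟨g, Subgroup.mem_inf.2 ⟨hg, MulAction.mem_stabilizer_iff.2 ?_⟩⟩, rfl⟩
    refine Finset.eq_of_subset_of_card_le ?_ (by rw [card_smul_perm])
    intro q hq
    obtain ⟨p, hp, rfl⟩ := Finset.mem_smul_finset.1 hq
    exact (hmem p).2 hp
  · rintro ⟨g, rfl⟩
    exact ⟨g.1, g.2.1, fun x => by
      have hh := mem_smul_iff (σ := (g : Equiv.Perm Cfsg.GolayPt)) (s := o) (p := x)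
      rwa [MulAction.mem_stabilizer_iff.1 g.2.2] at hh, rfl⟩

end Cfsg.Agent.S1553
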