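import Cfsg.Statements.S1554
import Cfsg.Agent.Spor.OctadKernel
-- import your own Cfsg.Agent.* helpers here

set_option autoImplicit false
open scoped Pointwise
open Cfsg

namespace Cfsg.Agent.S1554

open CfsgLib.Spor
open scoped Pointwise

/-- An octad stabiliser is a split extension: the joint stabiliser of the octad and a point outside it is a complement to the pointwise stabiliser of the octad, and is isomorphic to the alternating group of degree 8. -/
theorem result (o : Finset Cfsg.GolayPt) (ho : o ∈ Cfsg.octads) (p : Cfsg.GolayPt) (hp : p ∉ o) : (Cfsg.M24 ⊓ fixingSubgroup (Equiv.Perm Cfsg.GolayPt) (o : Set Cfsg.GolayPt)) ⊓ (Cfsg.M24 ⊓ MulAction.stabilizer (Equiv.Perm Cfsg.GolayPt) o ⊓ MulAction.stabilizer (Equiv.Perm Cfsg.GolayPt) p) = ⊥ ∧ (Cfsg.M24 ⊓ fixingSubgroup (Equiv.Perm Cfsg.GolayPt) (o : Set Cfsg.GolayPt)) ⊔ (Cfsg.M24 ⊓ MulAction.stabilizer (Equiv.Perm Cfsg.GolayPt) o ⊓ MulAction.stabilizer (Equiv.Perm Cfsg.GolayPt)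 p) = (Cfsg.M24 ⊓ MulAction.stabilizer (Equiv.Perm Cfsg.GolayPt) o) ∧ Nonempty (↥(Cfsg.M24 ⊓ MulAction.stabilizer (Equiv.Perm Cfsg.GolayPt) o ⊓ MulAction.stabilizer (Equiv.Perm Cfsg.GolayPt) p) ≃* alternatingGroup (Fin 8)) := by
  let L := octStabG o ⊓ MulAction.stabilizer (Equiv.Perm Cfsg.GolayPt) p
  change octFix o ⊓ L = ⊥ ∧ octFix o ⊔ L = octStabG o ∧ Nonempty (↥L ≃* _)
  have hfixp : ∀ h ∈ octStabG o, h p ∉ o := by
    intro h hh hmem
    rw [← MulAction.mem_stabilizer_iff.1 hh.2] at hmem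
    exact hp (mem_smul_iff.1 hmem)
  have hdec : ∀ h ∈ octStabG o, ∃ k ∈ octFix o, k⁻¹ * h ∈ L := by
    intro h hh
    obtain ⟨k, hk, hkp⟩ := (octFix_sharp ho hp (hfixp h hh)).1
    refine ⟨k, hk, Subgroup.mem_inf.2 ⟨mul_mem (inv_mem (octFix_le_stab o hk)) hh,
      MulAction.mem_stabilizer_iff.2 ?_⟩⟩
    show (k⁻¹ * h) p = p
    rw [Equiv.Perm.mul_apply, ← hkp]
    simp
  have hbot : octFix o ⊓ L = ⊥ := by
    rw [eq_bot_iff]
    rintro g ⟨hg, hgL⟩
    exact Subgroup.mem_bot.2 ((octFix_sharp ho hp hp).2 g hg (MulAction.mem_stabilizer_iff.1 hgL.2))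
  refine ⟨hbot, le_antisymm (sup_le (octFix_le_stab o) inf_le_left) fun h hh => ?_, ?_⟩
  · obtain ⟨k, hk, hkL⟩ := hdec h hh
    have := Subgroup.mul_mem_sup hk hkL
    rwa [mul_inv_cancel_left] at this
  · let f : ↥L →* Equiv.Perm ↥o := (octRestrict o).comp (Subgroup.inclusion inf_le_left)
    have hinj : Function.Injective f := by
      rw [injective_iff_map_eq_one]
      intro g hg
      have hgK : (g : Equiv.Perm Cfsg.GolayPt) ∈ octFix o :=
        mem_octFix.2 ⟨(g.2.1).1, fun q hq =>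
          congrArg (fun t : Equiv.Perm ↥o => ((t ⟨q, hq⟩ : ↥o) : Cfsg.GolayPt)) hg⟩
      have h2 : (g : Equiv.Perm Cfsg.GolayPt) ∈ octFix o ⊓ L := ⟨hgK, g.2⟩
      rw [hbot, Subgroup.mem_bot] at h2
      exact Subtype.ext h2
    have hrange : f.range = alternatingGroup ↥o := by
      rw [← octRestrict_range ho]
      apply le_antisymm
      · rintro _ ⟨g, rfl⟩; exact ⟨_, rfl⟩
      · rintro _ ⟨h, rfl⟩
        obtain ⟨k, hk, hkL⟩ := hdec h h.2
        refine ⟨⟨_, hkL⟩, Equiv.ext fun q => Subtype.ext ?_⟩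
        show (k⁻¹ * (h : Equiv.Perm Cfsg.GolayPt)) q = (h : Equiv.Perm Cfsg.GolayPt) q
        have hmem : (h : Equiv.Perm Cfsg.GolayPt) q ∈ o := by
          have hq : (h : Equiv.Perm Cfsg.GolayPt) q ∈ (h : Equiv.Perm Cfsg.GolayPt) • o := mem_smul_iff.2 q.2
          rwa [MulAction.mem_stabilizer_iff.1 h.2.2] at hq
        rw [Equiv.Perm.mul_apply]
        apply k.injective
        rw [Equiv.Perm.coe_inv, Equiv.apply_symm_apply]
        exact ((mem_octFix.1 hk).2 _ hmem).symm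
    exact ⟨((MonoidHom.ofInjective hinj).trans (MulEquiv.subgroupCongr hrange)).trans
      (Equiv.altCongrHom (Finset.equivFinOfCardEq ho.2))⟩

end Cfsg.Agent.S1554
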