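import Cfsg.Statements.S1555
import Cfsg.Agent.Spor.M24Octads
-- import your own Cfsg.Agent.* helpers here

set_option autoImplicit false
open scoped Pointwise
open Cfsg

namespace Cfsg.Agent.S1555

open CfsgLib.Spor
open scoped Pointwise

/-- the bit positions of the base octad -/
def octBits : List ℕ := (List.range 24).filter fun i => octX.testBit i

/-- all masks supported on a list of positions -/
def subs : List ℕ → List ℕ
  | [] => [0]
  | i :: l => subs l ++ (subs l).map fun a => 2 ^ i ||| a

theorem octadList_nodup : octadList.Nodup := by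
  rw [← beq_iff_eq.1 octadList_eq]
  exact wordList_nodup.filter _

theorem subsets_mem' : ∀ (l : List ℕ), (∀ i ∈ l, i < 24) → ∀ (s : Finset Cfsg.GolayPt), s ⊆ (l.map pt).toFinset →
    ∃ a ∈ subs l, ofMask a = s
  | [], _, s, h => ⟨0, by simp [subs], by
      rw [ofMask_zero]; exact (Finset.subset_empty.1 (by simpa using h)).symm⟩
  | i :: l, hl, s, h => by
    obtain ⟨a, ha, he⟩ := subsets_mem' l (fun j hj => hl j (List.mem_cons_of_mem _ hj)) (s.erase (pt i)) (by
      intro p hp
      obtain ⟨hne, hp⟩ := Finset.mem_erase.1 hp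
      simpa [hne] using h hp)
    by_cases hi : pt i ∈ s
    · refine ⟨2 ^ i ||| a, ?_, ?_⟩
      · simp only [subs, List.mem_append, List.mem_map]; exact Or.inr ⟨a, ha, rfl⟩
      · rw [ofMask_or, ofMask_two_pow (hl i List.mem_cons_self), he]
        ext p
        by_cases hp : p = pt i <;> simp [hp, hi]
    · exact ⟨a, by simp [subs, ha], by rw [he, Finset.erase_eq_of_notMem hi]⟩

/-- Bottom row of the Leech triangle: an octad is met in a prescribed pair of its points by exactly 16 octads and in a prescribed 4-subset by exactly 4 octads. -/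
theorem result (o : Finset Cfsg.GolayPt) (ho : o ∈ Cfsg.octads) (s : Finset Cfsg.GolayPt) (hs : s ⊆ o) : (s.card = 2 → {o' : Finset Cfsg.GolayPt | o' ∈ Cfsg.octads ∧ o ∩ o' = s}.ncard = 16) ∧ (s.card = 4 → {o' : Finset Cfsg.GolayPt | o' ∈ Cfsg.octads ∧ o ∩ o' = s}.ncard = 4) := by
  obtain ⟨σ, hσ, rfl⟩ := octad_std ho
  have hs' : σ⁻¹ • s ⊆ O0 := by
    intro p hp
    obtain ⟨q, hq, rfl⟩ := Finset.mem_smul_finset.1 hp
    refine (mem_smul_iff (σ := σ)).1 ?_
    simpa using hs hq
  obtain ⟨m, hm, hms⟩ := subsets_mem' octBits (by decide +kernel) (σ⁻¹ • s) (hs'.trans (by decide +kernel))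
  have hkey : ∀ k n : ℕ, ((subs octBits).all fun a =>
      !(pop a == k) || octadList.countP (fun o => Nat.beq (Nat.land octX o) a) == n) = true →
      s.card = k → {o' : Finset Cfsg.GolayPt | o' ∈ Cfsg.octads ∧ σ • O0 ∩ o' = s}.ncard = n := by
    intro k n hall hk
    have e : {o' : Finset Cfsg.GolayPt | o' ∈ Cfsg.octads ∧ σ • O0 ∩ o' = s} =
        σ • {x | x ∈ Cfsg.octads ∧ O0 ∩ x = σ⁻¹ • s} := by
      ext x
      rw [Set.mem_smul_set_iff_inv_smul_mem]
      refine and_congr ⟨fun h => smul_mem_octads (inv_mem hσ) h,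
        fun h => by simpa using smul_mem_octads hσ h⟩ ?_
      rw [← inv_smul_smul σ (O0 ∩ σ⁻¹ • x), smul_inter_perm, smul_inv_smul]
      exact ⟨fun h => by rw [h], fun h => (MulAction.injective σ⁻¹) h⟩
    rw [e, Set.ncard_smul_set, ← hms]
    have hpop : pop m = k := by rw [← card_ofMask, hms, card_smul_perm, hk]
    have h := List.all_eq_true.1 hall m hm
    simp only [Bool.or_eq_true, Bool.not_eq_true', beq_iff_eq, beq_eq_false_iff_ne, hpop,
      ne_eq, not_true_eq_false, false_or] at h
    rw [← h]
    have hmlt : m < 2 ^ 24 := by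
      have : (subs octBits).all (fun a => decide (a < 2 ^ 24)) = true := by decide +kernel
      simpa using List.all_eq_true.1 this m hm
    have e2 : {x | x ∈ Cfsg.octads ∧ O0 ∩ x = ofMask m} =
        ↑((octadList.filter fun a => Nat.beq (Nat.land octX a) m).toFinset.image ofMask) := by
      ext x
      simp only [Set.mem_setOf_eq, Finset.coe_image, Set.mem_image, List.coe_toFinset, List.mem_filter]
      constructor
      · rintro ⟨hx, he⟩
        refine ⟨maskOf x, ⟨(mem_octads_iff (maskOf_lt x)).1 (by rwa [ofMask_maskOf]), ?_⟩, ofMask_maskOf x⟩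
        rw [natBeq, beq_iff_eq]
        apply (ofMask_eq_ofMask (lt_of_le_of_lt Nat.and_le_left (by decide +kernel)) hmlt).1
        rw [ofMask_and, ofMask_maskOf]
        exact he
      · rintro ⟨a, ⟨ha, he⟩, rfl⟩
        refine ⟨(mem_octads_iff (by simpa using List.all_eq_true.1 octadList_lt a ha)).2 ha, ?_⟩
        rw [O0, ← ofMask_and, show octX &&& a = Nat.land octX a from rfl, Nat.eq_of_beq_eq_true he]
    rw [e2, Set.ncard_coe_finset, Finset.card_image_of_injOn, List.toFinset_card_of_nodup
      ((octadList_nodup).filter _), List.countP_eq_length_filter]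
    intro a ha b hb hab
    simp only [List.coe_toFinset, Set.mem_setOf_eq, List.mem_filter] at ha hb
    exact (ofMask_eq_ofMask (by simpa using List.all_eq_true.1 octadList_lt a ha.1)
      (by simpa using List.all_eq_true.1 octadList_lt b hb.1)).1 hab
  exact ⟨hkey 2 16 (by decide +kernel), hkey 4 4 (by decide +kernel)⟩

end Cfsg.Agent.S1555
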