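import Cfsg.Statements.S1558
import Cfsg.Agent.Spor.TrioCore
import Cfsg.Agent.Spor.StabConj
-- import your own Cfsg.Agent.* helpers here

set_option autoImplicit false
open scoped Pointwise
open Cfsg

namespace Cfsg.Agent.S1558

open CfsgLib.Spor CfsgLib.Spor.M24Elems CfsgLib.Spor.ListSub CfsgLib.Spor.TrioCore Cfsg.Agent.S5425
open scoped Pointwise

/-- Structure of a trio stabiliser: every permutation of the three octads is induced, and there is a normal subgroup of order 64 of elements squaring to the identity whose quotient is isomorphic to the product of GL(3, 2) with the symmetric group of degree 3. -/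
theorem result (T : Finset (Finset Cfsg.GolayPt)) (hT : T ∈ Cfsg.trios) : (∀ e : Equiv.Perm ↥T, ∃ g ∈ MulAction.stabilizer Cfsg.M24 T, ∀ o : ↥T, (g : Equiv.Perm Cfsg.GolayPt) • (o : Finset Cfsg.GolayPt) = ((e o : ↥T) : Finset Cfsg.GolayPt)) ∧ ∃ (N : Subgroup ↥(MulAction.stabilizer Cfsg.M24 T)) (_ : N.Normal), Nat.card N = 64 ∧ (∀ x ∈ N, x * x = 1) ∧ Nonempty (↥(MulAction.stabilizer Cfsg.M24 T) ⧸ N ≃* GL (Fin 3) (ZMod 2) × Equiv.Perm (Fin 3)) := by
  classical
  obtain ⟨σ, hσ, rfl⟩ := trio_std hT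
  let W : Fin 3 → Finset GolayPt := fun k => ofMask (trioX.getD k.val 0)
  have hlen : trioX.length = 3 := by decide
  have hT0 : ∀ t, t ∈ T0 ↔ ∃ k, W k = t := by
    intro t
    simp only [T0, famDec, List.mem_toFinset, List.mem_map]
    constructor
    · rintro ⟨m, hm, rfl⟩
      obtain ⟨k, hk, rfl⟩ := List.getElem_of_mem hm
      exact ⟨⟨k, hlen ▸ hk⟩, congrArg ofMask (List.getD_eq_getElem _ _ hk)⟩
    · rintro ⟨k, rfl⟩
      have hk : k.val < trioX.length := by rw [hlen]; exact k.2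
      exact ⟨_, List.getElem_mem hk, congrArg ofMask (List.getD_eq_getElem _ _ hk).symm⟩
  have hWinj : Function.Injective W := by
    intro x y hxy
    have h0 : ∀ x y : Fin 3, trioX.getD x.val 0 % 2 ^ 24 = trioX.getD y.val 0 % 2 ^ 24 → x = y := by decide +kernel
    exact h0 x y (mask_mod_eq hxy)
  set St := MulAction.stabilizer M24 (σ • T0)
  set H0 := M24 ⊓ MulAction.stabilizer (Equiv.Perm GolayPt) T0 with hH0
  let e : St ≃* H0 := stabEquiv hσ T0
  obtain ⟨hS1, hS2⟩ := tabS_check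
  obtain ⟨hT1, hT1id⟩ := tabT_check
  obtain ⟨hcap, hcanon, hidx⟩ := cap_check
  have hstab : ∀ P, inM24 P = true → ∀ π : Equiv.Perm (Fin 3),
      (∀ k : Fin 3, imgP P (trioX.getD k.val 0) % 2 ^ 24 = trioX.getD (π k).val 0) → mkPerm P ∈ H0 ∧ ∀ k, mkPerm P • W k = W (π k) := by
    intro P hP π h
    have hk : ∀ k, mkPerm P • W k = W (π k) := fun k => by
      show mkPerm P • ofMask _ = ofMask _
      rw [smul_ofMask (inM24_ok hP), ← ofMask_mod, h k]
    refine ⟨Subgroup.mem_inf.2 ⟨mkPerm_mem_M24 hP, MulAction.mem_stabilizer_iff.2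
      (Finset.eq_of_subset_of_card_le (fun x hx => ?_) (by rw [Finset.card_smul_finset]))⟩, hk⟩
    obtain ⟨y, hy, rfl⟩ := Finset.mem_smul_finset.1 hx
    obtain ⟨k, rfl⟩ := (hT0 y).1 hy
    exact (hT0 _).2 ⟨_, (hk k).symm⟩
  let H := Matrix.SpecialLinearGroup (Fin 3) (ZMod 2)
  have hG : ∀ g : H, (inM24 (tabT.getD (idxG g.1) 0) = true ∧ (∀ k : Fin 3, imgP (tabT.getD (idxG g.1) 0) (trioX.getD k.val 0) % 2 ^ 24 = trioX.getD k.val 0)) ∧
      ∀ k < 2, mkPerm (tabT.getD (idxG (g * gensG.getD k 1).1) 0) = mkPerm (tabT.getD (idxG g.1) 0) * mkPerm (tabT.getD (idxG (gensG.getD k 1).1) 0) := by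
    intro g
    have h := List.all_eq_true.1 hT1 (idxG g.1) (List.mem_range.2 (partsG g.1).2.2.2.2.2.2.2.2.2)
    simp only [fixB, goodG, oneG, Bool.and_eq_true, Bool.or_eq_true, Bool.not_eq_true', List.all_eq_true, List.mem_range, beq_iff_eq] at h
    have h' := h.resolve_left (by rw [(wordG_ok g).2]; simp)
    refine ⟨⟨h'.1.1, fun k => h'.1.2 _ ?_⟩, fun k hk => by rw [Matrix.SpecialLinearGroup.coe_mul, idxG_mul]; exact mkPerm_comp (h'.2 k hk)⟩
    have hk : k.val < trioX.length := by rw [hlen]; exact k.2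
    rw [List.getD_eq_getElem _ _ hk]
    exact List.getElem_mem hk
  let fg : H → H0 := fun g => ⟨mkPerm (tabT.getD (idxG g.1) 0), (hstab _ (hG g).1.1 1 (hG g).1.2).1⟩
  have hfg1 : fg 1 = 1 := Subtype.ext (perm_ext fun i hi => by
    show img (mkPerm (tabT.getD (idxG (1 : H).1) 0)) i = img (1 : Equiv.Perm GolayPt) i
    rw [img_mkPerm (inM24_ok (hG 1).1.1) hi, img_one hi]
    exact beq_iff_eq.1 (List.all_eq_true.1 hT1id i (List.mem_range.2 hi)))
  obtain ⟨hgm, hgind⟩ := hom_of_words fg (fun g => idxG g.1) (fun a b h => idxG_inj h) gensG hfg1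
    (fun x k hk => Subtype.ext ((hG x).2 k hk)) mulG
    (fun x y => by rw [Matrix.SpecialLinearGroup.coe_mul, idxG_mul]) (fun n => wordG.getD n []) wordG_ok
  let κ : H →* H0 := MonoidHom.mk' fg hgm
  let κS : Equiv.Perm (Fin 3) →* H0 := MonoidHom.mk'
    (fun π => ⟨mkPerm (tabS.getD (idxS π) 0), (hstab _ (hS2 π).1 π (hS2 π).2.1).1⟩)
    fun π τ => Subtype.ext (mkPerm_comp (hS1 π τ))
  have hcomm : ∀ (g : H) (π : Equiv.Perm (Fin 3)), Commute (κ g) (κS π) := by
    refine hgind (fun g => ∀ π, Commute (κ g) (κS π)) (fun π => by rw [map_one]; exact Commute.one_left _) fun g k hk ih π => ?_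
    rw [map_mul]
    refine Commute.mul_left (ih π) ?_
    obtain ⟨c1, c2⟩ := (hS2 π).2.2 ⟨k, hk⟩
    exact Subtype.ext ((mkPerm_comp c2).symm.trans (mkPerm_comp c1))
  let Ψ : H × Equiv.Perm (Fin 3) →* H0 := MonoidHom.noncommCoprod κ κS hcomm
  obtain ⟨hw, hlen64, hall⟩ := els_check
  simp only [List.all_eq_true, Bool.and_eq_true, List.contains_iff_mem, beq_iff_eq] at hall hcanon
  have hle : listSub els els_closed ≤ H0 := le_of_check els_closed fun a ha => by
    refine Subgroup.mem_inf.2 ⟨mkPerm_mem_M24 (hall a ha).1.1.1.1, MulAction.mem_stabilizer_iff.2 ?_⟩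
    refine Finset.eq_of_subset_of_card_le (fun x hx => ?_) (by rw [Finset.card_smul_finset])
    obtain ⟨y, hy, rfl⟩ := Finset.mem_smul_finset.1 hx
    simp only [T0, famDec, List.mem_toFinset, List.mem_map] at hy ⊢
    obtain ⟨m, hm, rfl⟩ := hy
    exact ⟨_, (hall a ha).1.1.1.2 m hm, by rw [ofMask_mod, smul_ofMask (inM24_ok (hall a ha).1.1.1.1)]⟩
  set N0 := (listSub els els_closed).subgroupOf H0 with hN0
  have hn : N0.Normal :=
    (Subgroup.normal_subgroupOf_iff_le_normalizer hle).2 (stab_T0_eq.le.trans (le_normalizer els_closed hw))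
  have hN64 : Nat.card N0 = 64 := by
    rw [Nat.card_congr (Subgroup.subgroupOfEquivOfLe hle).toEquiv, card_listSub, hlen64]
  let N : Subgroup St := N0.comap e.toMonoidHom
  haveI hNn : N.Normal := Subgroup.Normal.comap hn _
  have hNcard : Nat.card N = 64 := by
    rw [← hN64]; exact Nat.card_congr (e.toEquiv.subtypeEquiv fun _ => Iff.rfl)
  have hinj : ∀ x, Ψ x ∈ N0 → x = 1 := by
    rintro ⟨g, π⟩ hx
    obtain ⟨a, ha, hax⟩ := (mem_listSub (h := els_closed)).1 (Subgroup.mem_subgroupOf.1 hx)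
    have hax' : mkPerm a = mkPerm (tabT.getD (idxG g.1) 0) * mkPerm (tabS.getD (idxS π) 0) := hax
    have hc : comp (tabT.getD (idxG g.1) 0) (tabS.getD (idxS π) 0) = a := by
      rw [← hcanon a ha, comp]
      refine congrArg packL (List.map_congr_left fun i hi => ?_)
      rw [List.mem_range] at hi
      rw [← img_mkPerm (inM24_ok (hall a ha).1.1.1.1) hi, hax', img_mul, img_mkPerm (inM24_ok (hS2 π).1) hi,
        img_mkPerm (inM24_ok (hG g).1.1) (app_lt (inM24_ok (hS2 π).1) hi)]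
    have hm : idxS π < 9 := by simp only [idxS]; have := (π 0).isLt; have := (π 1).isLt; omega
    have h := List.all_eq_true.1 hcap (idxG g.1) (List.mem_range.2 (partsG g.1).2.2.2.2.2.2.2.2.2)
    simp only [goodG, oneG, Bool.or_eq_true, Bool.not_eq_true', List.all_eq_true, List.mem_range, Bool.and_eq_true, beq_iff_eq] at h
    have h' := (h.resolve_left (by rw [(wordG_ok g).2]; simp)) (idxS π) hm
    rcases h' with (h1 | h1) | ⟨h1, h2⟩
    · rw [List.contains_iff_mem.2 (hidx π).1] at h1; cases h1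
    · rw [List.contains_iff_mem.2 (by rw [hc]; exact ha)] at h1; cases h1
    · exact Prod.ext (idxG_inj h1) ((hidx π).2 h2)
  let F : H × Equiv.Perm (Fin 3) →* St ⧸ N := (QuotientGroup.mk' N).comp (e.symm.toMonoidHom.comp Ψ)
  have hFi : Function.Injective F := (injective_iff_map_eq_one F).2 fun x hx => by
    refine hinj x ?_
    have h := (QuotientGroup.eq_one_iff _).1 hx
    have h' : e (e.symm (Ψ x)) ∈ N0 := h
    rwa [e.apply_symm_apply] at h'
  have hb : Function.Bijective (Matrix.SpecialLinearGroup.toGL : H → GL (Fin 3) (ZMod 2)) := by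
    refine ⟨Matrix.SpecialLinearGroup.toGL_injective, fun g => ⟨⟨g.1, ?_⟩, Units.ext rfl⟩⟩
    rcases CfsgLib.Spor.HeisenbergTwo.zmod2 (g.1.det) with h | h
    · exact absurd h ((Matrix.isUnit_iff_isUnit_det _).1 g.isUnit).ne_zero
    · exact h
  let eH : H ≃* GL (Fin 3) (ZMod 2) := MulEquiv.ofBijective Matrix.SpecialLinearGroup.toGL hb
  have hStcard : Nat.card St = 64512 := by
    rw [Nat.card_congr e.toEquiv, hH0, stab_T0_eq, card_stab_T0]
  have hFb : Function.Bijective F := by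
    refine (Nat.bijective_iff_injective_and_card F).2 ⟨hFi, ?_⟩
    have h := N.index_mul_card
    rw [hNcard, hStcard, Subgroup.index] at h
    rw [Nat.card_prod, Nat.card_congr eH.toEquiv, Matrix.card_GL_field, Nat.card_perm, Nat.card_fin]
    simp [Fin.prod_univ_three, ZMod.card, Nat.factorial] at h ⊢
    omega
  refine ⟨fun π => ?_, N, hNn, hNcard, fun x hx => ?_,
    ⟨(MulEquiv.ofBijective F hFb).symm.trans (eH.prodCongr (MulEquiv.refl _))⟩⟩
  · have hmem : ∀ k, σ • W k ∈ σ • T0 := fun k => Finset.smul_mem_smul_finset ((hT0 _).2 ⟨k, rfl⟩)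
    let v : Fin 3 → ↥(σ • T0) := fun k => ⟨σ • W k, hmem k⟩
    have hv : Function.Bijective v := by
      refine ⟨fun x y h => hWinj (MulAction.injective σ (congrArg Subtype.val h)), fun t => ?_⟩
      obtain ⟨a, ha, hat⟩ := Finset.mem_smul_finset.1 t.2
      obtain ⟨k, rfl⟩ := (hT0 a).1 ha
      exact ⟨k, Subtype.ext hat⟩
    let ev := Equiv.ofBijective v hv
    let π0 : Equiv.Perm (Fin 3) := ev.trans (π.trans ev.symm)
    refine ⟨(e.symm (κS π0)).1, (e.symm (κS π0)).2, fun t => ?_⟩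
    obtain ⟨k, rfl⟩ := ev.surjective t
    show (σ * mkPerm (tabS.getD (idxS π0) 0) * σ⁻¹) • σ • W k = _
    rw [mul_smul, mul_smul, inv_smul_smul, (hstab _ (hS2 π0).1 π0 (hS2 π0).2.1).2 k]
    show (ev (π0 k) : Finset GolayPt) = _
    rw [show ev (π0 k) = π (ev k) from ev.apply_symm_apply _]
  · obtain ⟨a, ha, hax⟩ := (mem_listSub (h := els_closed)).1 (Subgroup.mem_subgroupOf.1 hx)
    apply e.injective
    rw [map_mul, map_one]
    refine Subtype.ext ?_
    show ((e x : H0) : Equiv.Perm GolayPt) * _ = 1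
    rw [← show mkPerm a = ((e x : H0) : Equiv.Perm GolayPt) from hax, ← mkPerm_comp (hall a ha).1.1.2]
    refine perm_ext fun i hi => ?_
    rw [img_mkPerm (hall a ha).1.2 hi, img_one hi]
    exact (hall a ha).2 i (List.mem_range.2 hi)

end Cfsg.Agent.S1558
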