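import Cfsg.Statements.S1559
import Cfsg.Agent.Spor.SubStd
import Cfsg.Agent.Spor.SubTrioTrio
-- import your own Cfsg.Agent.* helpers here

set_option autoImplicit false
open scoped Pointwise
open Cfsg

namespace Cfsg.Agent.S1559

open CfsgLib.Spor
open scoped Pointwise

/-- A trio stabiliser has five orbits on the 3795 trios, of sizes 1, 42, 56, 1008, 2688; and the stabiliser is a maximal proper subgroup. -/
theorem result (T : Finset (Finset Cfsg.GolayPt)) (hT : T ∈ Cfsg.trios) : ∃ X₁ ∈ Cfsg.trios, ∃ X₂ ∈ Cfsg.trios, ∃ X₃ ∈ Cfsg.trios, ∃ X₄ ∈ Cfsg.trios, (MulAction.orbit ↥(MulAction.stabilizer Cfsg.M24 T) X₁).ncard = 42 ∧ (MulAction.orbit ↥(MulAction.stabilizer Cfsg.M24 T) X₂).ncard = 56 ∧ (MulAction.orbit ↥(MulAction.stabilizer Cfsg.M24 T) X₃).ncard = 1008 ∧ (MulAction.orbit ↥(MulAction.stabilizer Cfsg.M24 T) X₄).ncard = 2688 ∧ Cfsg.trios = {T} ∪ MulAction.orbit ↥(MulAction.stabilizer Cfsg.M24 T) X₁ ∪ MulAction.orbit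 ↥(MulAction.stabilizer Cfsg.M24 T) X₂ ∪ MulAction.orbit ↥(MulAction.stabilizer Cfsg.M24 T) X₃ ∪ MulAction.orbit ↥(MulAction.stabilizer Cfsg.M24 T) X₄ ∧ IsCoatom (MulAction.stabilizer Cfsg.M24 T) := by
  obtain ⟨σ, hσ, rfl⟩ := trio_std hT
  refine ⟨σ • famK.dec ttX1, trioT.smul_mem σ hσ _ tt_in1, σ • famK.dec ttX2, trioT.smul_mem σ hσ _ tt_in2, σ • famK.dec ttX3, trioT.smul_mem σ hσ _ tt_in3, σ • famK.dec ttX4, trioT.smul_mem σ hσ _ tt_in4, ?_, ?_, ?_, ?_, ?_, ?_⟩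
  · rw [ncard_orbit_stab_std hσ stab_T0_eq, tt_exact1.2.2]
  · rw [ncard_orbit_stab_std hσ stab_T0_eq, tt_exact2.2.2]
  · rw [ncard_orbit_stab_std hσ stab_T0_eq, tt_exact3.2.2]
  · rw [ncard_orbit_stab_std hσ stab_T0_eq, tt_exact4.2.2]
  · conv_lhs => rw [← show trioT.carrier = Cfsg.trios from rfl, ← smul_carrier trioT hσ, show trioT.carrier = Cfsg.trios from rfl, tt_cover]
    simp only [Set.smul_set_union, ← orbit_stab_std hσ stab_T0_eq]
    congr 4
    have h1 := tt_exact0.2.2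
    rw [← ncard_orbit_stab_std hσ stab_T0_eq, Set.ncard_eq_one] at h1
    obtain ⟨a, ha⟩ := h1
    rw [ha]
    have hX : famK.dec ttX0 = T0 := rfl
    rw [hX] at ha
    have hmem := MulAction.mem_orbit_self (M := MulAction.stabilizer Cfsg.M24 (σ • T0)) (σ • T0)
    rw [ha, Set.mem_singleton_iff] at hmem
    rw [hmem]
  · refine coatom_transport ⟨σ, hσ⟩ (y := T0) rfl ?_
    refine coatom_base trioT trios_eq_orbit stab_T0_eq [famK.dec ttX1, famK.dec ttX2, famK.dec ttX3, famK.dec ttX4] [42, 56, 1008, 2688] (n := 3795) ncard_trios (by norm_num) ?_ ?_ (by decide) (by decide +kernel)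
    · simp only [List.forall_mem_cons]
      exact ⟨tt_in1, tt_in2, tt_in3, tt_in4, by simp⟩
    · simp only [List.map_cons, List.map_nil, tt_exact1.2.2, tt_exact2.2.2, tt_exact3.2.2, tt_exact4.2.2]

end Cfsg.Agent.S1559
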