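import Cfsg.Statements.S1562
import Cfsg.Agent.Spor.FlagStd
import Cfsg.Agent.Spor.Totals2
-- import your own Cfsg.Agent.* helpers here

set_option autoImplicit false
open scoped Pointwise
open Cfsg

namespace Cfsg.Agent.S1562

open CfsgLib.Spor
open scoped Pointwise

/-- Orbits of a triad stabiliser on the triads disjoint from it: the 210 triads inside a common octad with it form one orbit and the remaining 1120 another. -/
theorem result (T : Finset Cfsg.GolayPt) (hT : T.card = 3) : {U : Finset Cfsg.GolayPt | U.card = 3 ∧ Disjoint T U ∧ (∃ o ∈ Cfsg.octads, T ∪ U ⊆ o)}.ncard = 210 ∧ {U : Finset Cfsg.GolayPt | U.card = 3 ∧ Disjoint T U ∧ ¬ (∃ o ∈ Cfsg.octads, T ∪ U ⊆ o)}.ncard = 1120 ∧ ∀ U U' : Finset Cfsg.GolayPt, U.card = 3 → U'.card = 3 → Disjoint T U → Disjoint T U' → ((∃ o ∈ Cfsg.octads, T ∪ U ⊆ o) ↔ (∃ o ∈ Cfsg.octads, T ∪ U' ⊆ o)) → ∃ g : Equiv.Perm Cfsg.GolayPt, g ∈ Cfsg.M24 ∧ g • T = T ∧ g • U = U' := by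
  have htr : T ∈ MulAction.orbit Cfsg.M24 (maskK.dec triX) := triples_eq_orbit ▸ (show T ∈ triples from hT)
  obtain ⟨⟨σ, hσ⟩, hTe⟩ := htr
  change σ • maskK.dec triX = T at hTe
  subst hTe
  change {U | U.card = 3 ∧ Disjoint (σ • maskK.dec triX) U ∧ _}.ncard = 210 ∧ _
  have hd : ∀ y, Disjoint (σ • maskK.dec triX) (σ • y) ↔ Disjoint (maskK.dec triX) y := fun y => by
    rw [smul_eq_image, smul_eq_image, Finset.disjoint_image σ.injective]
  refine ⟨?_, ?_, fun U U' hU hU' hdU hdU' hiff => ?_⟩
  · refine family_count ftri_st ftri_cover ftri_inv ftri_nodup (z := maskK.dec ftri0X) (by simp) ftri0_exact.2.2 σ (fun y => ?_)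
    have hz : triInv (maskK.dec ftri0X) = true := by
      have h := ftri_vals
      simp only [List.map_cons, List.map_nil, List.cons.injEq, and_true] at h
      exact h.1
    rw [hz]
    change _ ∧ _ ∧ _ ↔ _
    simp only [triInv, Set.mem_setOf_eq, card_smul_perm, hd, decide_eq_true_eq, decide_eq_false_iff_not,
      ← Finset.smul_finset_union, exists_octad_smul hσ, and_assoc]
  · refine family_count ftri_st ftri_cover ftri_inv ftri_nodup (z := maskK.dec ftri1X) (by simp) ftri1_exact.2.2 σ (fun y => ?_)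
    have hz : triInv (maskK.dec ftri1X) = false := by
      have h := ftri_vals
      simp only [List.map_cons, List.map_nil, List.cons.injEq, and_true] at h
      exact h.2
    rw [hz]
    change _ ∧ _ ∧ _ ↔ _
    simp only [triInv, Set.mem_setOf_eq, card_smul_perm, hd, decide_eq_true_eq, decide_eq_false_iff_not,
      ← Finset.smul_finset_union, exists_octad_smul hσ, and_assoc]
  · have hd' : ∀ W, Disjoint (σ • maskK.dec triX) W → Disjoint (maskK.dec triX) (σ⁻¹ • W) := fun W hW => by
      rw [← hd, smul_inv_smul]; exact hW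
    obtain ⟨g, hg, hgy, hgx⟩ := family_move ftri_st ftri_cover ftri_inv ftri_nodup hσ (x := U) (y := U')
      ⟨(card_smul_perm _ _).trans hU, hd' U hdU⟩ ⟨(card_smul_perm _ _).trans hU', hd' U' hdU'⟩
      (by
        simp only [triInv, decide_eq_decide]
        rw [← exists_octad_smul hσ, ← exists_octad_smul hσ (maskK.dec triX ∪ σ⁻¹ • U'),
          Finset.smul_finset_union, Finset.smul_finset_union, smul_inv_smul, smul_inv_smul]
        exact hiff)
    exact ⟨g, hg, hgy, hgx⟩

end Cfsg.Agent.S1562
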