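import Cfsg.Statements.S1563
import Cfsg.Agent.Spor.SubPairPair
import Cfsg.Agent.Spor.SubStd
-- import your own Cfsg.Agent.* helpers here

set_option autoImplicit false
open scoped Pointwise
open Cfsg

namespace Cfsg.Agent.S1563

open CfsgLib.Spor
open scoped Pointwise

/-- The stabiliser of a pair of points (setwise) is a maximal proper subgroup of the group of the length-24 code. -/
theorem result (s : Finset Cfsg.GolayPt) (hs : s.card = 2) : IsCoatom (MulAction.stabilizer Cfsg.M24 s) := by
  obtain ⟨⟨σ, hσ⟩, rfl⟩ := pairs_eq_orbit ▸ (show s ∈ pairs from hs)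
  refine coatom_transport (y := maskK.dec pairX) ⟨σ, hσ⟩ rfl ?_
  refine coatom_base pairT pairs_eq_orbit pair_exact.1 [maskK.dec ppX1, maskK.dec ppX2]
    [44, 231] (n := 276) ncard_pairs (by norm_num) ?_ ?_ (by decide) (by decide +kernel)
  · simp only [List.forall_mem_cons]
    exact ⟨pp_in1, pp_in2, by simp⟩
  · simp only [List.map_cons, List.map_nil, pp_exact1.2.2, pp_exact2.2.2]

end Cfsg.Agent.S1563
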