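import Cfsg.Statements.S1564
import Cfsg.Agent.Spor.SubTriTri
import Cfsg.Agent.Spor.SubStd
-- import your own Cfsg.Agent.* helpers here

set_option autoImplicit false
open scoped Pointwise
open Cfsg

namespace Cfsg.Agent.S1564

open CfsgLib.Spor
open scoped Pointwise

/-- The stabiliser of a set of three points (setwise) is a maximal proper subgroup of the group of the length-24 code. -/
theorem result (s : Finset Cfsg.GolayPt) (hs : s.card = 3) : IsCoatom (MulAction.stabilizer Cfsg.M24 s) := by
  obtain ⟨⟨σ, hσ⟩, rfl⟩ := triples_eq_orbit ▸ (show s ∈ triples from hs)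
  refine coatom_transport (y := maskK.dec triX) ⟨σ, hσ⟩ rfl ?_
  refine coatom_base triT triples_eq_orbit tri_exact.1
    [maskK.dec t3X1, maskK.dec t3X2, maskK.dec t3X3, maskK.dec t3X4] [63, 210, 630, 1120]
    (n := 2024) ncard_triples (by norm_num) ?_ ?_ (by decide) (by decide +kernel)
  · simp only [List.forall_mem_cons]
    exact ⟨t3_in1, t3_in2, t3_in3, t3_in4, by simp⟩
  · simp only [List.map_cons, List.map_nil, t3_exact1.2.2, t3_exact2.2.2, t3_exact3.2.2, t3_exact4.2.2]

end Cfsg.Agent.S1564
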