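import Cfsg.Statements.S1565
import Cfsg.Agent.Spor.InterFacts
-- import your own Cfsg.Agent.* helpers here

set_option autoImplicit false
open scoped Pointwise
open Cfsg

namespace Cfsg.Agent.S1565

open CfsgLib.Spor
open scoped Pointwise

/-- The stabiliser of an octad is a maximal proper subgroup of the group of the length-24 code. -/
theorem result (o : Finset Cfsg.GolayPt) (ho : o ∈ Cfsg.octads) : IsCoatom (MulAction.stabilizer Cfsg.M24 o) := by
  obtain ⟨σ, hσ, rfl⟩ := octad_std ho
  refine coatom_transport (y := O0) ⟨σ, hσ⟩ rfl ?_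
  refine coatom_base octT octads_eq_orbit stab_O0_eq [maskK.dec ooX1, maskK.dec ooX2, maskK.dec ooX3]
    [30, 280, 448] (n := 759) ncard_octads (by norm_num) ?_ ?_ (by decide) (by decide +kernel)
  · simp only [List.forall_mem_cons]
    exact ⟨oo_in1, oo_in2, oo_in3, by simp⟩
  · simp only [List.map_cons, List.map_nil, oo_exact1.2.2, oo_exact2.2.2, oo_exact3.2.2]

end Cfsg.Agent.S1565
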