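import Cfsg.Statements.S1566
import Cfsg.Agent.Spor.SubDpDp
import Cfsg.Agent.Spor.SubStd
-- import your own Cfsg.Agent.* helpers here

set_option autoImplicit false
open scoped Pointwise
open Cfsg

namespace Cfsg.Agent.S1566

open CfsgLib.Spor
open scoped Pointwise

/-- The setwise stabiliser of a dodecad together with its complement is a maximal proper subgroup of the group of the length-24 code. -/
theorem result (d : Finset Cfsg.GolayPt) (hd : d ∈ Cfsg.dodecads) : IsCoatom (MulAction.stabilizer Cfsg.M24 ({d, dᶜ} : Finset (Finset Cfsg.GolayPt))) := by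
  obtain ⟨⟨σ, hσ⟩, hd'⟩ := dodPairs_eq_orbit ▸ (show {d, dᶜ} ∈ dodPairs from ⟨d, hd, rfl⟩)
  refine coatom_transport (y := famK.dec dpX) ⟨σ, hσ⟩ hd' ?_
  refine coatom_base dpT dodPairs_eq_orbit dp_exact.1 [famK.dec pdX1, famK.dec pdX2]
    [495, 792] (n := 1288) ncard_dodPairs (by norm_num) ?_ ?_ (by decide) (by decide +kernel)
  · simp only [List.forall_mem_cons]
    exact ⟨pd_in1, pd_in2, by simp⟩
  · simp only [List.map_cons, List.map_nil, pd_exact1.2.2, pd_exact2.2.2]

end Cfsg.Agent.S1566
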