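import Cfsg.Statements.S1575
import Cfsg.Agent.Spor.LeechPairs
-- import your own Cfsg.Agent.* helpers here

set_option autoImplicit false
open Cfsg

namespace Cfsg.Agent.S1575

/-- The stabiliser of a minimal vector is transitive on the minimal vectors of customary inner product −1 with it. -/
theorem result (v w w' : ↥Cfsg.leechLattice) (hv : Cfsg.sqNorm (v : Cfsg.GolayPt → ℤ) = 32) (hw : Cfsg.sqNorm (w : Cfsg.GolayPt → ℤ) = 32) (hw' : Cfsg.sqNorm (w' : Cfsg.GolayPt → ℤ) = 32) (hd : Cfsg.dotInt (v : Cfsg.GolayPt → ℤ) (w : Cfsg.GolayPt → ℤ) = -8) (hd' : Cfsg.dotInt (v : Cfsg.GolayPt → ℤ) (w' : Cfsg.GolayPt → ℤ) = -8) : ∃ g : ↥Cfsg.Co0, g • v = v ∧ g • w = w' := by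
  have key : ∀ u : ↥Cfsg.leechLattice, Cfsg.sqNorm (u : Cfsg.GolayPt → ℤ) = 32 →
      Cfsg.dotInt (v : Cfsg.GolayPt → ℤ) (u : Cfsg.GolayPt → ℤ) = -8 →
      Cfsg.sqNorm ((-u : ↥Cfsg.leechLattice) : Cfsg.GolayPt → ℤ) = 32 ∧
        Cfsg.dotInt (v : Cfsg.GolayPt → ℤ) ((-u : ↥Cfsg.leechLattice) : Cfsg.GolayPt → ℤ) = 8 :=
    fun u hu hdu => ⟨by rw [AddSubgroup.coe_neg, CfsgLib.Spor.LeechPairs.norm_neg', hu], by
      rw [AddSubgroup.coe_neg, CfsgLib.Spor.LeechCross.dot_comm', CfsgLib.Spor.LeechPairs.dot_neg_left,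
        CfsgLib.Spor.LeechCross.dot_comm', hdu]
      norm_num⟩
  obtain ⟨n1, d1⟩ := key w hw hd
  obtain ⟨n2, d2⟩ := key w' hw' hd'
  obtain ⟨g, g1, g2⟩ := CfsgLib.Spor.LeechPairs.transitive8 v (-w) v (-w') hv n1 hv n2 d1 d2
  exact ⟨g, g1, by rwa [CfsgLib.Spor.LeechCross.smul_neg', neg_inj] at g2⟩

end Cfsg.Agent.S1575
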