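import Cfsg.Statements.S1579
import Cfsg.Agent.Spor.LeechPairs
-- import your own Cfsg.Agent.* helpers here

set_option autoImplicit false
open Cfsg

namespace Cfsg.Agent.S1579

/-- The stabiliser of a vector of customary norm 6 is transitive on the 552 minimal vectors that complete it to a sum of two minimal vectors. -/
theorem result (u v v' : ↥Cfsg.leechLattice) (hu : Cfsg.sqNorm (u : Cfsg.GolayPt → ℤ) = 48) (hv : Cfsg.sqNorm (v : Cfsg.GolayPt → ℤ) = 32 ∧ Cfsg.sqNorm ((u - v) : Cfsg.GolayPt → ℤ) = 32) (hv' : Cfsg.sqNorm (v' : Cfsg.GolayPt → ℤ) = 32 ∧ Cfsg.sqNorm ((u - v') : Cfsg.GolayPt → ℤ) = 32) : ∃ g : ↥Cfsg.Co0, g • u = u ∧ g • v = v' := by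
  have key : ∀ x : ↥Cfsg.leechLattice, Cfsg.sqNorm (x : Cfsg.GolayPt → ℤ) = 32 →
      Cfsg.sqNorm ((u - x) : Cfsg.GolayPt → ℤ) = 32 →
      Cfsg.sqNorm ((x - u : ↥Cfsg.leechLattice) : Cfsg.GolayPt → ℤ) = 32 ∧
      Cfsg.dotInt (x : Cfsg.GolayPt → ℤ) ((x - u : ↥Cfsg.leechLattice) : Cfsg.GolayPt → ℤ) = 8 := by
    intro x h1 h2
    have h3 : Cfsg.sqNorm ((x - u : ↥Cfsg.leechLattice) : Cfsg.GolayPt → ℤ) = 32 := by
      rw [AddSubgroup.coe_sub, ← neg_sub, CfsgLib.Spor.LeechPairs.norm_neg', h2]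
    refine ⟨h3, ?_⟩
    have h := CfsgLib.Spor.LeechModTwo.norm_sub (x : Cfsg.GolayPt → ℤ) ((x - u : ↥Cfsg.leechLattice) : Cfsg.GolayPt → ℤ)
    rw [← AddSubgroup.coe_sub, sub_sub_cancel, hu, h1, h3] at h
    linarith
  obtain ⟨g, g1, g2⟩ := CfsgLib.Spor.LeechPairs.transitive8 v (v - u) v' (v' - u) hv.1
    (key v hv.1 hv.2).1 hv'.1 (key v' hv'.1 hv'.2).1 (key v hv.1 hv.2).2 (key v' hv'.1 hv'.2).2
  refine ⟨g, ?_, g1⟩
  rw [CfsgLib.Spor.LeechCross.smul_sub', g1] at g2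
  exact sub_right_injective g2

end Cfsg.Agent.S1579
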