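import Cfsg.Statements.S1587
import Mathlib.LinearAlgebra.Matrix.DotProduct
-- import your own Cfsg.Agent.* helpers here

set_option autoImplicit false
open Matrix
open Cfsg

namespace Cfsg.Agent.S1587

open Matrix

/-- First step of the characterisation of the rank-24 lattice: in an even lattice without roots, norm-8 vectors congruent modulo 2 are equal, opposite or orthogonal. -/
theorem result (B : Matrix (Fin 24) (Fin 24) ℤ) (hsymm : B.IsSymm) (hpos : ∀ x : Fin 24 → ℤ, x ≠ 0 → 0 < x ⬝ᵥ (B *ᵥ x)) (heven : ∀ x : Fin 24 → ℤ, (2 : ℤ) ∣ x ⬝ᵥ (B *ᵥ x)) (h2 : ∀ x : Fin 24 → ℤ, x ⬝ᵥ (B *ᵥ x) ≠ 2) (x y : Fin 24 → ℤ) (hx : x ⬝ᵥ (B *ᵥ x) = 8) (hy : y ⬝ᵥ (B *ᵥ y) = 8) (hc : ∀ i, (2 : ℤ) ∣ (x - y) i) : y = x ∨ y = -x ∨ x ⬝ᵥ (B *ᵥ y) = 0 := by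
  obtain ⟨z, hz⟩ : ∃ z : Fin 24 → ℤ, x - y = (2 : ℤ) • z :=
    ⟨fun i => (x - y) i / 2, funext fun i => by
      have := hc i
      simp only [Pi.smul_apply, smul_eq_mul]
      omega⟩
  have h4 : ∀ u : Fin 24 → ℤ, u ≠ 0 → 4 ≤ u ⬝ᵥ (B *ᵥ u) := fun u hu => by
    have := hpos u hu
    have := heven u
    have := h2 u
    omega
  have hcomm : y ⬝ᵥ (B *ᵥ x) = x ⬝ᵥ (B *ᵥ y) := by
    rw [Matrix.dotProduct_mulVec, ← Matrix.mulVec_transpose, hsymm.eq, dotProduct_comm]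
  have hw : x + y = (2 : ℤ) • (z + y) := by
    rw [smul_add, ← hz, two_smul]
    abel
  have q1 : (x - y) ⬝ᵥ (B *ᵥ (x - y)) = 16 - 2 * (x ⬝ᵥ (B *ᵥ y)) := by
    simp only [Matrix.mulVec_sub, dotProduct_sub, sub_dotProduct, hcomm, hx, hy]
    ring
  have q2 : (x + y) ⬝ᵥ (B *ᵥ (x + y)) = 16 + 2 * (x ⬝ᵥ (B *ᵥ y)) := by
    simp only [Matrix.mulVec_add, dotProduct_add, add_dotProduct, hcomm, hx, hy]
    ring
  have e : ∀ u : Fin 24 → ℤ, ((2 : ℤ) • u) ⬝ᵥ (B *ᵥ ((2 : ℤ) • u)) = 4 * (u ⬝ᵥ (B *ᵥ u)) := fun u => by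
    simp only [Matrix.mulVec_smul, dotProduct_smul, smul_dotProduct, smul_eq_mul]
    ring
  rw [hz, e] at q1
  rw [hw, e] at q2
  by_cases h0 : z = 0
  · exact Or.inl (sub_eq_zero.1 (by rw [hz, h0, smul_zero])).symm
  by_cases h1 : z + y = 0
  · refine Or.inr (Or.inl ?_)
    have : x + y = 0 := by rw [hw, h1, smul_zero]
    exact eq_neg_of_add_eq_zero_right this
  have := h4 z h0
  have := h4 (z + y) h1
  exact Or.inr (Or.inr (by omega))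

end Cfsg.Agent.S1587
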