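import Cfsg.Statements.S1600
import Cfsg.Agent.Spor.StabConj
-- import your own Cfsg.Agent.* helpers here

set_option autoImplicit false
open scoped Pointwise
open Cfsg

namespace Cfsg.Agent.S1600

open CfsgLib.Spor
open scoped Pointwise

/-- The pointwise stabiliser of three points of a dodecad inside the dodecad stabiliser (order 72) is transitive on the complementary dodecad. -/
theorem result (d : Finset Cfsg.GolayPt) (hd : d ∈ Cfsg.dodecads) (p q r : Cfsg.GolayPt) (hp : p ∈ d) (hq : q ∈ d) (hr : r ∈ d) (hpq : p ≠ q) (hpr : p ≠ r) (hqr : q ≠ r) : Nat.card ↥(MulAction.stabilizer Cfsg.M24 d ⊓ MulAction.stabilizer Cfsg.M24 p ⊓ MulAction.stabilizer Cfsg.M24 q ⊓ MulAction.stabilizer Cfsg.M24 r) = 72 ∧ ∀ x ∉ d, ∀ y ∉ d, ∃ g ∈ (MulAction.stabilizer Cfsg.M24 d ⊓ MulAction.stabilizer Cfsg.M24 p ⊓ MulAction.stabilizer Cfsg.M24 q ⊓ MulAction.stabilizer Cfsg.M24 r), ((g : ↥Cfsg.M24) :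 Equiv.Perm Cfsg.GolayPt) x = y := by
  obtain ⟨σ, hσ, rfl, rfl, rfl, rfl⟩ := dod_flag3 hd hp hq hr hpq hpr hqr
  simp only [show (σ p0 : Cfsg.GolayPt) = σ • p0 from rfl,
    show (σ (pt dpqX) : Cfsg.GolayPt) = σ • pt dpqX from rfl,
    show (σ (pt dpqrX) : Cfsg.GolayPt) = σ • pt dpqrX from rfl]
  rw [stabilizer_pair, stabilizer_pair, stabilizer_pair]
  rw [show ((((σ • D0, σ • p0), σ • pt dpqX), σ • pt dpqrX) : ((Finset Cfsg.GolayPt × Cfsg.GolayPt) × Cfsg.GolayPt) × Cfsg.GolayPt)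
    = σ • (((D0, p0), pt dpqX), pt dpqrX) from rfl]
  have hE : Cfsg.M24 ⊓ MulAction.stabilizer (Equiv.Perm Cfsg.GolayPt) (((D0, p0), pt dpqX), pt dpqrX)
      = gtGroup (chainTop dpqrStab) := by
    rw [stab_amb_pair, stab_amb_pair, stab_amb_pair]; exact dpqr_exact.1
  refine ⟨?_, fun u hu v hv => ?_⟩
  · rw [Nat.card_congr (stabEquiv hσ (((D0, p0), pt dpqX), pt dpqrX)).toEquiv, hE]
    exact dpqr_exact.2.1
  have hm : ∀ w : Cfsg.GolayPt, w ∉ σ • D0 → σ⁻¹ w ∈ ofMask (FULL ^^^ dodX) := by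
    intro w hw
    rw [ofMask_compl, Finset.mem_compl]
    intro h
    apply hw
    have h2 := mem_smul_iff (σ := σ).2 h
    simpa [D0] using h2
  obtain ⟨⟨g, hg, hgx⟩, -⟩ := transitive_of_chain dpqrC_sub dpqrC_card dpqrC_ok.1
    ⟨fun _ : Fin 1 => σ⁻¹ u, fun a b _ => Subsingleton.elim a b⟩
    ⟨fun _ : Fin 1 => σ⁻¹ v, fun a b _ => Subsingleton.elim a b⟩ (fun _ => hm u hu) (fun _ => hm v hv)
  rw [← hE] at hg
  refine ⟨((stabEquiv hσ _).symm ⟨g, hg⟩).1, ((stabEquiv hσ _).symm ⟨g, hg⟩).2, ?_⟩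
  show (σ * g * σ⁻¹) u = v
  simp only [Equiv.Perm.mul_apply]
  rw [show g (σ⁻¹ u) = σ⁻¹ v from hgx 0]
  simp

end Cfsg.Agent.S1600
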