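import Cfsg.Statements.S1601
import Cfsg.Agent.Spor.PslEleven
import Cfsg.Agent.Spor.StabConj
-- import your own Cfsg.Agent.* helpers here

set_option autoImplicit false
open scoped Pointwise
open Cfsg

namespace Cfsg.Agent.S1601

open CfsgLib.Spor
open scoped Pointwise

theorem base_checks : chainOK m11C = true ∧ transOK m11C (FULL ^^^ dodX) 1 = true := by decide +kernel

theorem base_checks' : chainSize (m11C.drop 1) = 660 ∧ (m11C.headD ⟨[], 0, []⟩).base = 5 := by decide +kernel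

/-- In the 3-transitive action of the smallest Mathieu group on the complementary dodecad, a point stabiliser is isomorphic to PSL(2, 11). -/
theorem result (d : Finset Cfsg.GolayPt) (hd : d ∈ Cfsg.dodecads) (p q : Cfsg.GolayPt) (hp : p ∈ d) (hq : q ∉ d) : Nonempty (↥(MulAction.stabilizer Cfsg.M24 d ⊓ MulAction.stabilizer Cfsg.M24 p ⊓ MulAction.stabilizer Cfsg.M24 q) ≃* Matrix.ProjectiveSpecialLinearGroup (Fin 2) (ZMod 11)) := by
  obtain ⟨σ, hσ, rfl, rfl⟩ := dod_flag1 hd hp
  have hq' : σ⁻¹ q ∈ ofMask (FULL ^^^ dodX) := by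
    rw [ofMask_compl, Finset.mem_compl]
    intro h
    apply hq
    have h2 := mem_smul_iff (σ := σ).2 h
    simpa [D0] using h2
  have h5 : pt 5 ∈ ofMask (FULL ^^^ dodX) := by decide +kernel
  obtain ⟨⟨g, hg, hgx⟩, -⟩ := transitive_of_chain m11C_sub m11C_card base_checks.2
    ⟨fun _ => pt 5, fun a b _ => Subsingleton.elim a b⟩ ⟨fun _ => σ⁻¹ q, fun a b _ => Subsingleton.elim a b⟩
    (fun _ => h5) (fun _ => hq')
  have hg' := hg
  rw [← m11_exact.1] at hg'
  obtain ⟨⟨hgM, hgD⟩, hgp⟩ := hg'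
  have e1 : σ • D0 = (σ * g) • D0 := by rw [mul_smul, show g • D0 = D0 from MulAction.mem_stabilizer_iff.1 hgD]
  have e2 : σ p0 = (σ * g) • p0 := by
    show σ p0 = σ (g p0)
    rw [show g p0 = p0 from MulAction.mem_stabilizer_iff.1 hgp]
  have e3 : q = (σ * g) • pt 5 := by
    show q = σ (g (pt 5))
    rw [show g (pt 5) = σ⁻¹ q from hgx 0]
    simp
  rw [e1, e2, e3, stabilizer_pair, stabilizer_pair, ← Prod.smul_mk, ← Prod.smul_mk]
  have hsub : gtGroup (chainTop m11C) = gtGroup (chainTop m11Stab) :=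
    (card_gtGroup_tail m11C base_checks.1 m11C_sub m11C_card).1
  obtain ⟨hs, hc⟩ := chain_step base_checks.1 m11C_sub m11C_card
  have hH : M24 ⊓ MulAction.stabilizer (Equiv.Perm GolayPt) ((D0, p0), pt 5) = PslEleven.H := by
    rw [stab_amb_pair (a := (D0, p0)) (b := pt 5), stab_amb_pair (a := D0) (b := p0)]
    exact Eq.trans (congrArg (fun K : Subgroup (Equiv.Perm GolayPt) => K ⊓ _) m11_exact.1) hs
  obtain ⟨e⟩ := PslEleven.H_equiv (hc.trans base_checks'.1)
  exact ⟨((stabEquiv (mul_mem hσ hgM) ((D0, p0), pt 5)).trans (MulEquiv.subgroupCongr hH)).trans e⟩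

end Cfsg.Agent.S1601
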