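import Cfsg.Statements.S1602
import Cfsg.Agent.Spor.SmallIso
-- import your own Cfsg.Agent.* helpers here

set_option autoImplicit false
open scoped Pointwise
open Cfsg

namespace Cfsg.Agent.S1602

open CfsgLib.Spor
open scoped Pointwise

/-- In the 12-point action of the smallest Mathieu group the setwise stabiliser of a pair is isomorphic to the symmetric group of degree 5. -/
theorem result (d : Finset Cfsg.GolayPt) (hd : d ∈ Cfsg.dodecads) (p q q' : Cfsg.GolayPt) (hp : p ∈ d) (hq : q ∉ d) (hq' : q' ∉ d) (hqq' : q ≠ q') : Nonempty (↥(MulAction.stabilizer Cfsg.M24 d ⊓ MulAction.stabilizer Cfsg.M24 p ⊓ MulAction.stabilizer Cfsg.M24 ({q, q'} : Finset Cfsg.GolayPt)) ≃* Equiv.Perm (Fin 5)) := by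
  obtain ⟨σ, hσ, rfl, rfl, hdu⟩ := duad_flag hd hp hq hq' hqq'
  rw [← hdu, show (σ p0 : Cfsg.GolayPt) = σ • p0 from rfl, stabilizer_pair, stabilizer_pair,
    show (((σ • D0, σ • p0), σ • ofMask duadX) : (Finset Cfsg.GolayPt × Cfsg.GolayPt) × Finset Cfsg.GolayPt)
      = σ • ((D0, p0), ofMask duadX) from rfl]
  have hE : Cfsg.M24 ⊓ MulAction.stabilizer (Equiv.Perm Cfsg.GolayPt) ((D0, p0), ofMask duadX)
      = gtGroup (chainTop duadStab) := by
    rw [stab_amb_pair, stab_amb_pair]; exact duad_exact.1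
  exact ⟨((stabEquiv hσ ((D0, p0), ofMask duadX)).trans (MulEquiv.subgroupCongr hE)).trans
    (symEquivOfChain duadC_sub duadC_card duadC_ok.1 (by decide +kernel) duadC_ok.2.2.2)⟩

end Cfsg.Agent.S1602
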