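import Cfsg.Statements.S1604
import Cfsg.Agent.Spor.FlagStd
-- import your own Cfsg.Agent.* helpers here

set_option autoImplicit false
open scoped Pointwise
open Cfsg

namespace Cfsg.Agent.S1604

open CfsgLib.Spor
open scoped Pointwise

/-- A hexad stabiliser in the two-point stabiliser has orbits of sizes 1, 16, 60 on the 77 hexads: the 16 hexads disjoint from it and the 60 meeting it in two points. -/
theorem result (p q : Cfsg.GolayPt) (hpq : p ≠ q) (o o' o'' : Finset Cfsg.GolayPt) (ho : o ∈ Cfsg.octads) (ho' : o' ∈ Cfsg.octads) (ho'' : o'' ∈ Cfsg.octads) (hp : p ∈ o ∧ p ∈ o' ∧ p ∈ o'') (hq : q ∈ o ∧ q ∈ o' ∧ q ∈ o'') (h : (o ∩ o').card = (o ∩ o'').card) : {x : Finset Cfsg.GolayPt | x ∈ Cfsg.octads ∧ p ∈ x ∧ q ∈ x ∧ (o ∩ x).card = 2}.ncard = 16 ∧ {x : Finset Cfsg.GolayPt | x ∈ Cfsg.octads ∧ p ∈ x ∧ q ∈ x ∧ (o ∩ x).card = 4}.ncard = 60 ∧ ∃ g : Equiv.Perm Cfsg.GolayPt, g ∈ Cfsg.M24 ∧ g p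 = p ∧ g q = q ∧ g • o = o ∧ g • o' = o'' := by
  obtain ⟨σ, hσ, rfl, rfl, rfl⟩ := fpq_flag hpq ho hp.1 hq.1
  have hoct : ∀ y : Finset Cfsg.GolayPt, σ • y ∈ Cfsg.octads ↔ y ∈ Cfsg.octads := fun y =>
    ⟨fun h => by simpa using smul_mem_octads (inv_mem hσ) h, fun h => smul_mem_octads hσ h⟩
  have hmem : ∀ (a : Cfsg.GolayPt) (y : Finset Cfsg.GolayPt), σ a ∈ σ • y ↔ a ∈ y := fun a y => mem_smul_iff
  refine ⟨?_, ?_, ?_⟩
  · refine family_count gpq_st gpq_cover gpq_inv gpq_nodup (z := maskK.dec gpq1X) (by simp) gpq1_exact.2.2 σ (fun y => ?_)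
    rw [show (maskK.dec fpq0X ∩ maskK.dec gpq1X).card = 2 by decide +kernel]
    simp only [hoct, hmem, Set.mem_setOf_eq, inter_smul_card]
    simp only [and_assoc]
  · refine family_count gpq_st gpq_cover gpq_inv gpq_nodup (z := maskK.dec gpq2X) (by simp) gpq2_exact.2.2 σ (fun y => ?_)
    rw [show (maskK.dec fpq0X ∩ maskK.dec gpq2X).card = 4 by decide +kernel]
    simp only [hoct, hmem, Set.mem_setOf_eq, inter_smul_card]
    simp only [and_assoc]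
  · obtain ⟨g, hg, hgy, hgx⟩ := family_move gpq_st gpq_cover gpq_inv gpq_nodup hσ (x := o') (y := o'')
      ⟨smul_mem_octads (inv_mem hσ) ho', (by rw [← mem_smul_iff (σ := σ), smul_inv_smul]; exact hp.2.1), (by rw [← mem_smul_iff (σ := σ), smul_inv_smul]; exact hq.2.1)⟩
      ⟨smul_mem_octads (inv_mem hσ) ho'', (by rw [← mem_smul_iff (σ := σ), smul_inv_smul]; exact hp.2.2), (by rw [← mem_smul_iff (σ := σ), smul_inv_smul]; exact hq.2.2)⟩
      (by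
        show (maskK.dec fpq0X ∩ σ⁻¹ • o').card = (maskK.dec fpq0X ∩ σ⁻¹ • o'').card
        rw [← inter_smul_card σ (maskK.dec fpq0X) (σ⁻¹ • o'), ← inter_smul_card σ (maskK.dec fpq0X) (σ⁻¹ • o''), smul_inv_smul, smul_inv_smul]
        exact h)
    obtain ⟨e12, e3⟩ := Prod.mk.inj hgy
    obtain ⟨e1, e2⟩ := Prod.mk.inj e12
    exact ⟨g, hg, e1, e2, e3, hgx⟩

end Cfsg.Agent.S1604
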