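import Cfsg.Statements.S1605
import Cfsg.Agent.Spor.FlagStd
-- import your own Cfsg.Agent.* helpers here

set_option autoImplicit false
open scoped Pointwise
open Cfsg

namespace Cfsg.Agent.S1605

open CfsgLib.Spor
open scoped Pointwise

/-- The two-point stabiliser acts on the 176 octads through the first point avoiding the second with rank 3 and subdegrees 1, 70, 105 (intersections 8, 2, 4). -/
theorem result (p q : Cfsg.GolayPt) (hpq : p ≠ q) : {x : Finset Cfsg.GolayPt | (x ∈ Cfsg.octads ∧ p ∈ x ∧ q ∉ x)}.ncard = 176 ∧ (∀ o o' : Finset Cfsg.GolayPt, (o ∈ Cfsg.octads ∧ p ∈ o ∧ q ∉ o) → (o' ∈ Cfsg.octads ∧ p ∈ o' ∧ q ∉ o') → ∃ g : Equiv.Perm Cfsg.GolayPt, g ∈ Cfsg.M24 ∧ g p = p ∧ g q = q ∧ g • o = o') ∧ ∀ o : Finset Cfsg.GolayPt, (o ∈ Cfsg.octads ∧ p ∈ o ∧ q ∉ o) → {x : Finset Cfsg.GolayPt | (x ∈ Cfsg.octads ∧ p ∈ x ∧ q ∉ x) ∧ (o ∩ x).card = 2}.ncard = 70 ∧ {x : Finset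 Cfsg.GolayPt | (x ∈ Cfsg.octads ∧ p ∈ x ∧ q ∉ x) ∧ (o ∩ x).card = 4}.ncard = 105 ∧ ∀ o' o'' : Finset Cfsg.GolayPt, (o' ∈ Cfsg.octads ∧ p ∈ o' ∧ q ∉ o') → (o'' ∈ Cfsg.octads ∧ p ∈ o'' ∧ q ∉ o'') → (o ∩ o').card = (o ∩ o'').card → ∃ g : Equiv.Perm Cfsg.GolayPt, g ∈ Cfsg.M24 ∧ g p = p ∧ g q = q ∧ g • o = o ∧ g • o' = o'' := by
  refine ⟨?_, fun o o' ho ho' => ?_, fun o ho => ?_⟩
  · obtain ⟨σ, hσ, rfl, rfl⟩ := two_flag hpq
    have hoct : ∀ y : Finset Cfsg.GolayPt, σ • y ∈ Cfsg.octads ↔ y ∈ Cfsg.octads := fun y =>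
      ⟨fun h => by simpa using smul_mem_octads (inv_mem hσ) h, fun h => smul_mem_octads hσ h⟩
    have hmem : ∀ (a : Cfsg.GolayPt) (y : Finset Cfsg.GolayPt), σ a ∈ σ • y ↔ a ∈ y := fun a y => mem_smul_iff
    refine family_count fpnq_st fpnq_cover fpnq_inv fpnq_nodup (z := maskK.dec fpnq0X) (by simp) fpnq0_exact.2.2 σ (fun y => ?_)
    simp only [hoct, hmem, Set.mem_setOf_eq, and_true]
  · obtain ⟨σ, hσ, rfl, rfl, rfl⟩ := fpnq_flag hpq ho.1 ho.2.1 ho.2.2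
    obtain ⟨g, hg, hgy, hgx⟩ := family_move fpnq_st fpnq_cover fpnq_inv fpnq_nodup hσ
      (x := σ • maskK.dec fpnq0X) (y := o')
      (by rw [inv_smul_smul]; exact ⟨mem_of_octVal (by decide +kernel), by decide +kernel, by decide +kernel⟩)
      ⟨smul_mem_octads (inv_mem hσ) ho'.1, (by rw [← mem_smul_iff (σ := σ), smul_inv_smul]; exact ho'.2.1), (by rw [← mem_smul_iff (σ := σ), smul_inv_smul]; exact ho'.2.2)⟩ rfl
    obtain ⟨e1, e2⟩ := Prod.mk.inj hgy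
    exact ⟨g, hg, e1, e2, hgx⟩
  · obtain ⟨σ, hσ, rfl, rfl, rfl⟩ := fpnq_flag hpq ho.1 ho.2.1 ho.2.2
    have hoct : ∀ y : Finset Cfsg.GolayPt, σ • y ∈ Cfsg.octads ↔ y ∈ Cfsg.octads := fun y =>
      ⟨fun h => by simpa using smul_mem_octads (inv_mem hσ) h, fun h => smul_mem_octads hσ h⟩
    have hmem : ∀ (a : Cfsg.GolayPt) (y : Finset Cfsg.GolayPt), σ a ∈ σ • y ↔ a ∈ y := fun a y => mem_smul_iff
    refine ⟨?_, ?_, fun o' o'' ho' ho'' h => ?_⟩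
    · refine family_count gpnq_st gpnq_cover gpnq_inv gpnq_nodup (z := maskK.dec gpnq1X) (by simp) gpnq1_exact.2.2 σ (fun y => ?_)
      rw [show (maskK.dec fpnq0X ∩ maskK.dec gpnq1X).card = 2 by decide +kernel]
      simp only [hoct, hmem, Set.mem_setOf_eq, inter_smul_card]
    · refine family_count gpnq_st gpnq_cover gpnq_inv gpnq_nodup (z := maskK.dec gpnq2X) (by simp) gpnq2_exact.2.2 σ (fun y => ?_)
      rw [show (maskK.dec fpnq0X ∩ maskK.dec gpnq2X).card = 4 by decide +kernel]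
      simp only [hoct, hmem, Set.mem_setOf_eq, inter_smul_card]
    · obtain ⟨g, hg, hgy, hgx⟩ := family_move gpnq_st gpnq_cover gpnq_inv gpnq_nodup hσ (x := o') (y := o'')
        ⟨smul_mem_octads (inv_mem hσ) ho'.1, (by rw [← mem_smul_iff (σ := σ), smul_inv_smul]; exact ho'.2.1), (by rw [← mem_smul_iff (σ := σ), smul_inv_smul]; exact ho'.2.2)⟩
        ⟨smul_mem_octads (inv_mem hσ) ho''.1, (by rw [← mem_smul_iff (σ := σ), smul_inv_smul]; exact ho''.2.1), (by rw [← mem_smul_iff (σ := σ), smul_inv_smul]; exact ho''.2.2)⟩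
        (by
          show (maskK.dec fpnq0X ∩ σ⁻¹ • o').card = (maskK.dec fpnq0X ∩ σ⁻¹ • o'').card
          rw [← inter_smul_card σ (maskK.dec fpnq0X) (σ⁻¹ • o'), ← inter_smul_card σ (maskK.dec fpnq0X) (σ⁻¹ • o''), smul_inv_smul, smul_inv_smul]
          exact h)
      obtain ⟨e12, e3⟩ := Prod.mk.inj hgy
      obtain ⟨e1, e2⟩ := Prod.mk.inj e12
      exact ⟨g, hg, e1, e2, e3, hgx⟩

end Cfsg.Agent.S1605
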