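import Cfsg.Statements.S1607
import Cfsg.Agent.Spor.FlagStd
-- import your own Cfsg.Agent.* helpers here

set_option autoImplicit false
open scoped Pointwise
open Cfsg

namespace Cfsg.Agent.S1607

open CfsgLib.Spor
open scoped Pointwise

/-- The point stabiliser acts on the 253 heptads of its S(4, 7, 23) with rank 3 and subdegrees 1, 112, 140 (intersections 8, 2, 4). -/
theorem result (x : Cfsg.GolayPt) (o : Finset Cfsg.GolayPt) (ho : o ∈ Cfsg.octads) (hx : x ∈ o) : {o' : Finset Cfsg.GolayPt | o' ∈ Cfsg.octads ∧ x ∈ o' ∧ (o ∩ o').card = 2}.ncard = 112 ∧ {o' : Finset Cfsg.GolayPt | o' ∈ Cfsg.octads ∧ x ∈ o' ∧ (o ∩ o').card = 4}.ncard = 140 ∧ ∀ o' o'' : Finset Cfsg.GolayPt, o' ∈ Cfsg.octads → o'' ∈ Cfsg.octads → x ∈ o' → x ∈ o'' → (o ∩ o').card = (o ∩ o'').card → ∃ g : Equiv.Perm Cfsg.GolayPt, g ∈ Cfsg.M24 ∧ g x = x ∧ g • o = o ∧ g • o' = o'' := by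
  obtain ⟨σ, hσ, rfl, rfl⟩ := octin_flag ho hx
  have hoct : ∀ y : Finset Cfsg.GolayPt, σ • y ∈ Cfsg.octads ↔ y ∈ Cfsg.octads := fun y =>
    ⟨fun h => by simpa using smul_mem_octads (inv_mem hσ) h, fun h => smul_mem_octads hσ h⟩
  have hmem : ∀ (a : Cfsg.GolayPt) (y : Finset Cfsg.GolayPt), σ a ∈ σ • y ↔ a ∈ y := fun a y => mem_smul_iff
  refine ⟨?_, ?_, fun o' o'' ho' ho'' hx' hx'' h => ?_⟩
  · refine family_count fin_st fin_cover fin_inv fin_nodup (z := maskK.dec fin1X) (by simp) fin1_exact.2.2 σ (fun y => ?_)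
    rw [show (O0 ∩ maskK.dec fin1X).card = 2 by decide +kernel]
    simp only [hoct, hmem, Set.mem_setOf_eq, inter_smul_card]
    exact (and_assoc).symm
  · refine family_count fin_st fin_cover fin_inv fin_nodup (z := maskK.dec fin2X) (by simp) fin2_exact.2.2 σ (fun y => ?_)
    rw [show (O0 ∩ maskK.dec fin2X).card = 4 by decide +kernel]
    simp only [hoct, hmem, Set.mem_setOf_eq, inter_smul_card]
    exact (and_assoc).symm
  · obtain ⟨g, hg, hgy, hgx⟩ := family_move fin_st fin_cover fin_inv fin_nodup hσ (x := o') (y := o'')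
      ⟨smul_mem_octads (inv_mem hσ) ho', (by rw [← mem_smul_iff (σ := σ), smul_inv_smul]; exact hx')⟩
      ⟨smul_mem_octads (inv_mem hσ) ho'', (by rw [← mem_smul_iff (σ := σ), smul_inv_smul]; exact hx'')⟩
      (by
        show (O0 ∩ σ⁻¹ • o').card = (O0 ∩ σ⁻¹ • o'').card
        rw [← inter_smul_card σ O0 (σ⁻¹ • o'), ← inter_smul_card σ O0 (σ⁻¹ • o''), smul_inv_smul, smul_inv_smul]
        exact h)
    obtain ⟨e1, e2⟩ := Prod.mk.inj hgy
    exact ⟨g, hg, e2, e1, hgx⟩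

end Cfsg.Agent.S1607
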