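import Cfsg.Statements.S1611
import Cfsg.Prelude.Def_SporadicCombinatorics
import Cfsg.Agent.Spor.HexacodeAut
-- import your own Cfsg.Agent.* helpers here

set_option autoImplicit false
open Cfsg

namespace Cfsg.Agent.S1611

open Cfsg.Agent.S1610 CfsgLib.Spor.HexacodeAut

/-- The monomial automorphism group of the hexacode has order 1080: its diagonal part is the scalars and its permutation parts form the alternating group of degree 6. -/
theorem result (F : Type*) [Field F] [Fintype F] [DecidableEq F] (hF : Fintype.card F = 4) (ω : F) (hω : ω ^ 2 + ω + 1 = 0) : Nat.card {f : Equiv.Perm (Fin 6) × (Fin 6 → Fˣ) // (∀ x ∈ Cfsg.hexacode F ω, Cfsg.monomialMap f.1 f.2 x ∈ Cfsg.hexacode F ω)} = 1080 ∧ (∀ c : Fin 6 → Fˣ, (∀ x ∈ Cfsg.hexacode F ω, Cfsg.monomialMap 1 c x ∈ Cfsg.hexacode F ω) → ∀ i j, c i = c j) ∧ {σ : Equiv.Perm (Fin 6) | ∃ c : Fin 6 → Fˣ, (∀ x ∈ Cfsg.hexacode F ω, Cfsg.monomialMap σ c x ∈ Cfsg.hexacode F ω)} = (alternatingGroup (Fin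 6) : Set (Equiv.Perm (Fin 6))) := by
  classical
  obtain ⟨hb, hadd, hmul⟩ := table F hF ω hω
  set e : Fin 4 → F := ![0, 1, ω, ω ^ 2] with he
  have he0 : ∀ a, e a = 0 ↔ a = 0 := fun a => hb.1.eq_iff' rfl
  have hrow : ∀ k, (fun i => e (row k i)) ∈ hexacode F ω := fun k => by
    refine Submodule.subset_span ?_
    fin_cases k
    · left; funext i; fin_cases i <;> rfl
    · right; left; funext i; fin_cases i <;> rfl
    · right; right; funext i; fin_cases i <;> rfl
  have key : ∀ a b c : Fin 4, (fun i => e (word (a, b, c) i)) =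
      e a • (fun i => e (row 0 i)) + e b • (fun i => e (row 1 i)) + e c • (fun i => e (row 2 i)) := by
    intro a b c
    funext i
    simp only [word, hadd, hmul, Pi.add_apply, Pi.smul_apply, smul_eq_mul]
    fin_cases i <;> rfl
  have hspan : ∀ x, x ∈ hexacode F ω ↔ ∃ p, x = fun i => e (word p i) := by
    intro x
    constructor
    · intro hx
      rw [hexacode, Submodule.mem_span_triple] at hx
      obtain ⟨a, b, c, rfl⟩ := hx
      obtain ⟨a, rfl⟩ := hb.2 a
      obtain ⟨b, rfl⟩ := hb.2 b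
      obtain ⟨c, rfl⟩ := hb.2 c
      refine ⟨(a, b, c), ?_⟩
      rw [key]
      funext i; fin_cases i <;> rfl
    · rintro ⟨⟨a, b, c⟩, rfl⟩
      rw [key]
      exact add_mem (add_mem (Submodule.smul_mem _ _ (hrow 0)) (Submodule.smul_mem _ _ (hrow 1))) (Submodule.smul_mem _ _ (hrow 2))
  have hin : ∀ w : Fin 6 → Fin 4, ((fun i => e (w i)) ∈ hexacode F ω ↔ inB w = true) := by
    intro w
    rw [hspan]
    constructor
    · rintro ⟨p, hp⟩
      rw [show w = word p from funext fun i => hb.1 (congrFun hp i)]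
      exact inB_iff.1 p
    · intro h
      have h' : inB ![w 0, w 1, w 2, w 3, w 4, w 5] = true := by simpa [inB, encW] using h
      obtain ⟨p, hp⟩ := inB_iff.2 _ _ _ _ _ _ h'
      refine ⟨p, funext fun i => congrArg e ?_⟩
      rw [hp]
      fin_cases i <;> rfl
  let toU : ∀ a : Fin 4, a ≠ 0 → Fˣ := fun a ha => Units.mk0 (e a) (fun h => ha ((he0 a).1 h))
  let Good : Equiv.Perm (Fin 6) → (Fin 6 → Fˣ) → Prop := fun σ c =>
    ∀ x ∈ hexacode F ω, monomialMap σ c x ∈ hexacode F ω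
  have hgood : ∀ σ c (cc : Fin 6 → Fin 4), (∀ i, (c i : F) = e (cc i)) → (Good σ c ↔ goodB σ.symm cc = true) := by
    intro σ c cc hc
    have hk : ∀ k, monomialMap σ c (fun i => e (row k i)) = fun i => e (mulT (cc i) (row k (σ.symm i))) := fun k =>
      funext fun i => by show (c i : F) * e (row k (σ.symm i)) = _; rw [hc, hmul]
    simp only [goodB, Bool.and_eq_true, ← hin]
    constructor
    · intro h
      exact ⟨⟨hk 0 ▸ h _ (hrow 0), hk 1 ▸ h _ (hrow 1)⟩, hk 2 ▸ h _ (hrow 2)⟩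
    · rintro ⟨⟨h0, h1⟩, h2⟩ x hx
      rw [← hk] at h0 h1 h2
      obtain ⟨⟨a, b, d⟩, rfl⟩ := (hspan x).1 hx
      have hlin : ∀ (r s : F) (u w : Fin 6 → F), monomialMap σ c (r • u + s • w) = r • monomialMap σ c u + s • monomialMap σ c w :=
        fun r s u w => funext fun i => by simp [monomialMap]; ring
      rw [key, ← one_smul F (e a • (fun i => e (row 0 i)) + e b • (fun i => e (row 1 i))), hlin, hlin]
      exact add_mem (Submodule.smul_mem _ _ (add_mem (Submodule.smul_mem _ _ h0) (Submodule.smul_mem _ _ h1)))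
        (Submodule.smul_mem _ _ h2)
  obtain ⟨t1, t2, t3, t4, t5⟩ := tab_spec
  have hscal : ∀ (τ : Fin 6 → Fin 6) v, v ∈ fullW → ∀ i, scal τ v i ≠ 0 := fun τ v hv i =>
    t3 _ _ ((fullW_spec.2.1 v hv).1 i) (t4 _ (t5 _))
  -- every good pair comes from a full weight word
  have hexist : ∀ σ c, Good σ c → ∃ v ∈ fullW, goodB σ.symm (scal σ.symm v) = true ∧ ∀ i, (c i : F) = e (scal σ.symm v i) := by
    intro σ c h
    choose cc hcc using fun i => hb.2 (c i : F)
    have hcc0 : ∀ i, cc i ≠ 0 := fun i h0 => (c i).ne_zero (by rw [← hcc i, h0]; rfl)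
    set v : Fin 6 → Fin 4 := fun i => mulT (cc i) (row 0 (σ.symm i)) with hv
    have hg := (hgood σ c cc fun i => (hcc i).symm).1 h
    have hcs : cc = scal σ.symm v := funext fun i => (t2 _ _ (t5 _)).symm
    have hvin : (fun i => e (v i)) ∈ hexacode F ω := (hin v).2 (by
      simp only [goodB, Bool.and_eq_true] at hg; exact hg.1.1)
    obtain ⟨⟨a, b, d⟩, hp⟩ := (hspan _).1 hvin
    have hvw : v = word (a, b, d) := funext fun i => hb.1 (congrFun hp i)
    refine ⟨v, ?_, by rw [← hcs]; exact hg, fun i => by rw [← hcs]; exact (hcc i).symm⟩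
    rw [hvw]
    exact fullW_spec.2.2 a b d fun i => hvw ▸ t3 _ _ (hcc0 i) (t5 _)
  have hmk : ∀ σ : Equiv.Perm (Fin 6), ∀ v (hv : v ∈ fullW), goodB σ.symm (scal σ.symm v) = true →
      Good σ (fun i => toU (scal σ.symm v i) (hscal _ v hv i)) := fun σ v hv h =>
    (hgood σ _ _ fun i => rfl).2 h
  refine ⟨?_, ?_, ?_⟩
  · have hmemS : ∀ (L : List (Fin 6 → Fin 4)) (P : Equiv.Perm (Fin 6) → (Fin 6 → Fin 4) → Bool)
        (A : Finset (Equiv.Perm (Fin 6))) (x : Σ _ : Equiv.Perm (Fin 6), (Fin 6 → Fin 4)),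
        x ∈ A.sigma (fun σ => (L.filter (P σ)).toFinset) ↔ x.1 ∈ A ∧ x.2 ∈ L ∧ P x.1 x.2 = true := by
      intro L P A x
      rw [Finset.mem_sigma, List.mem_toFinset, List.mem_filter]
    obtain ⟨S, hSdef⟩ : ∃ S, S = Finset.univ.sigma fun σ : Equiv.Perm (Fin 6) =>
        (fullW.filter fun v => goodB σ.symm (scal σ.symm v)).toFinset := ⟨_, rfl⟩
    have hiff : ∀ x : Σ _ : Equiv.Perm (Fin 6), (Fin 6 → Fin 4), x ∈ S ↔
        x.2 ∈ fullW ∧ goodB x.1.symm (scal x.1.symm x.2) = true := fun x => by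
      rw [hSdef, hmemS fullW (fun σ v => goodB σ.symm (scal σ.symm v))]
      exact and_iff_right (Finset.mem_univ _)
    have hS : S.card = 1080 := by
      rw [hSdef, Finset.card_sigma, ← count_check]
      exact Finset.sum_congr rfl fun σ _ => List.toFinset_card_of_nodup (fullW_spec.1.filter _)
    have hmem : ∀ s : S, s.1.2 ∈ fullW ∧ goodB s.1.1.symm (scal s.1.1.symm s.1.2) = true := fun s =>
      (hiff s.1).1 s.2
    rw [← hS, ← Nat.card_eq_finsetCard]
    refine (Nat.card_congr (Equiv.ofBijective (fun s : S =>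
      (⟨(s.1.1, fun i => toU (scal s.1.1.symm s.1.2 i) (hscal _ _ (hmem s).1 i)), hmk _ _ (hmem s).1 (hmem s).2⟩ :
        {f : Equiv.Perm (Fin 6) × (Fin 6 → Fˣ) // ∀ x ∈ hexacode F ω, monomialMap f.1 f.2 x ∈ hexacode F ω})) ⟨?_, ?_⟩)).symm
    · rintro ⟨⟨σ, v⟩, hs⟩ ⟨⟨σ', v'⟩, hs'⟩ h
      simp only [Subtype.mk.injEq, Prod.mk.injEq] at h
      obtain ⟨rfl, h⟩ := h
      have hsc : scal σ.symm v = scal σ.symm v' := funext fun i => hb.1 (congrArg Units.val (congrFun h i))
      refine Subtype.ext (Sigma.ext rfl (heq_of_eq (funext fun i => ?_)))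
      have h1 := congrArg (fun a => mulT a (row 0 (σ.symm i))) (congrFun hsc i)
      simp only [scal, t1 _ _ (t5 _)] at h1
      exact h1
    · rintro ⟨⟨σ, c⟩, h⟩
      obtain ⟨v, hv, hg, hc⟩ := hexist σ c h
      refine ⟨⟨⟨σ, v⟩, (hiff _).2 ⟨hv, hg⟩⟩,
        Subtype.ext (Prod.ext rfl (funext fun i => Units.ext (hc i).symm))⟩
  · intro c hc i j
    obtain ⟨v, hv, hg, hci⟩ := hexist 1 c hc
    exact Units.ext (by rw [hci, hci]; exact congrArg e (diag_check v hv hg i j))
  · ext σ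
    rw [SetLike.mem_coe, Equiv.Perm.mem_alternatingGroup, ← sign_check, List.any_eq_true]
    constructor
    · rintro ⟨c, hc⟩
      obtain ⟨v, hv, hg, -⟩ := hexist σ c hc
      exact ⟨v, hv, hg⟩
    · rintro ⟨v, hv, hg⟩
      exact ⟨_, hmk σ v hv hg⟩

end Cfsg.Agent.S1611
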