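import Cfsg.Statements.S1629
import Cfsg.Agent.Lie.OrthForms
import Cfsg.Agent.Spor.TransvectionOrth
-- import your own Cfsg.Agent.* helpers here

set_option autoImplicit false
open scoped MatrixGroups
open Cfsg

namespace Cfsg.Agent.S1629

/-- The orthogonal transvections of the plus-type orthogonal group in dimension 2m ≥ 6 over the field with two elements form a generating conjugacy class of 3-transpositions. -/
theorem result (m : ℕ) (hm : 3 ≤ m) : Cfsg.IsThreeTranspositionClass {g : ↥(Cfsg.isometryGroup (ZMod 2) (Cfsg.quadFormPlus m (ZMod 2))) | (((g : GL (Fin m ⊕ Fin m) (ZMod 2)) : Matrix (Fin m ⊕ Fin m) (Fin m ⊕ Fin m) (ZMod 2)) - 1).rank = 1} := by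
  open CfsgLib.Lie in
  exact CfsgLib.Spor.TransvectionOrth.isClass_fun (Q := OrthOrder.plusQ m (ZMod 2))
    (funext fun v => (OrthOrder.plusQ_apply m v).symm) (OrthForms.plus_nondeg m)
    (by rw [Fintype.card_sum, Fintype.card_fin]; omega)

end Cfsg.Agent.S1629
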