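import Cfsg.Statements.S1631
import Cfsg.Agent.Lie.SUGen
import Cfsg.Agent.Lie.SUFull
import Cfsg.Agent.Spor.TransvectionClass
-- import your own Cfsg.Agent.* helpers here

set_option autoImplicit false
open scoped MatrixGroups
open Cfsg

namespace Cfsg.Agent.S1631

open CfsgLib.Lie CfsgLib.Lie.Herm CfsgLib.Lie.Unitary CfsgLib.Lie.SUFull Matrix

section Aux

variable {F : Type} [Field F] [Fintype F] {n : ℕ}

local notation "H" => Cfsg.hermForm n F 2

theorem frob (hF : Fintype.card F = 4) (x : F) : x ^ 4 = x := hF ▸ FiniteField.pow_card x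

theorem two_zero (hF : Fintype.card F = 4) : (2 : F) = 0 := by
  have h := FiniteField.cast_card_eq_zero F
  rw [hF] at h
  norm_num at h
  exact mul_self_eq_zero.1 (by linear_combination h : (2 : F) * 2 = 0)

/-- the transvection in `GL` -/
noncomputable def t (v : Fin n → F) : GL (Fin n) F := SUGen.tu 2 v 1

theorem tz_one (hF : Fintype.card F = 4) : SUGen.Tz 2 (1 : F) := by
  unfold SUGen.Tz
  linear_combination two_zero hF

theorem t_mulVec {v : Fin n → F} (hv : H v v = 0) (x : Fin n → F) :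
    (t v : Matrix (Fin n) (Fin n) F) *ᵥ x = x + H x v • v := by
  rw [t, SUGen.tu_mulVec hv, one_mul]

theorem gl_ext {g k : GL (Fin n) F} (h : ∀ x, (g : Matrix (Fin n) (Fin n) F) *ᵥ x = (k : Matrix (Fin n) (Fin n) F) *ᵥ x) :
    g = k := FormMaxSL.gl_ext h

theorem t_sq (hF : Fintype.card F = 4) {v : Fin n → F} (hv : H v v = 0) : t v * t v = 1 := by
  rw [t, SUGen.tu_mul hv, show (1 : F) + 1 = 0 by linear_combination two_zero hF, SUGen.tu_zero]

theorem t_smul (hF : Fintype.card F = 4) {v : Fin n → F} (hv : H v v = 0) {a : F} (ha : a ≠ 0) : t (a • v) = t v := by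
  rw [t, t, SUGen.tu_smul (show Fintype.card F = 2 ^ 2 by rw [hF]; norm_num) hv, mul_one]
  congr 1
  have h := frob hF a
  have : a * (a * a ^ 2) = a * 1 := by linear_combination h
  exact mul_left_cancel₀ ha this

theorem braid_conj (hF : Fintype.card F = 4) {u v : Fin n → F} (hu : H u u = 0) (hv : H v v = 0) :
    t u * t v * t u = t (v + H v u • u) := by
  have h := SUGen.conj_tu (SUGen.tu_mem_GU (show Fintype.card F = 2 ^ 2 by rw [hF]; norm_num) u (tz_one hF)) hv (1 : F)
  change t u * t v * (t u)⁻¹ = _ at h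
  rw [inv_eq_of_mul_eq_one_right (t_sq hF hu), show SUGen.tu 2 u (1 : F) = t u from rfl, t_mulVec hu] at h
  exact h

theorem commute_or_braid (hF : Fintype.card F = 4) {u v : Fin n → F} (hu : H u u = 0) (hv : H v v = 0) :
    (H u v = 0 → t u * t v = t v * t u) ∧ (H u v ≠ 0 → t u * t v * t u = t v * t u * t v) := by
  have hF2 : Fintype.card F = 2 ^ 2 := by rw [hF]; norm_num
  constructor
  · intro h
    have e := braid_conj hF hu hv
    rw [form_eq_zero_symm hF2 h, zero_smul, add_zero] at e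
    calc t u * t v = t u * t v * t u * t u := by rw [mul_assoc (t u * t v), t_sq hF hu, mul_one]
      _ = t v * t u := by rw [e]
  · intro h
    rw [braid_conj hF hu hv, braid_conj hF hv hu]
    have hb : H v u = H u v ^ 2 := (form_comm hF2 u v).symm
    set a := H u v with ha
    have h3 : a ^ 3 = 1 := by
      have := frob hF a
      exact mul_left_cancel₀ h (by linear_combination this)
    have e : u + a • v = a • (v + a ^ 2 • u) := by
      rw [smul_add, smul_smul, ← pow_succ', h3, one_smul, add_comm]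
    rw [hb, e, t_smul hF ?_ h]
    rw [form_add_left, form_add_right hF2, form_add_right hF2, form_smul_left, form_smul_left, form_smul_right,
      form_smul_right, hu, hv, hb, ← ha]
    linear_combination (a ^ 2 * a) * two_zero hF + (a ^ 3) * h3

theorem exists_link (hF : Fintype.card F = 4) {u v : Fin n → F} (hu0 : u ≠ 0) (hv0 : v ≠ 0) (hu : H u u = 0)
    (hv : H v v = 0) (huv : H u v = 0) : ∃ z, z ≠ 0 ∧ H z z = 0 ∧ H z u ≠ 0 ∧ H z v ≠ 0 := by
  have hF2 : Fintype.card F = 2 ^ 2 := by rw [hF]; norm_num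
  obtain ⟨z, h1, h2⟩ : ∃ z, H z u ≠ 0 ∧ H z v ≠ 0 := by
    obtain ⟨a, ha⟩ : ∃ a, H a u ≠ 0 := by
      by_contra h; push Not at h; exact hu0 (eq_zero_of_orth hF2 h)
    obtain ⟨b, hb⟩ : ∃ b, H b v ≠ 0 := by
      by_contra h; push Not at h; exact hv0 (eq_zero_of_orth hF2 h)
    by_cases e : H a v = 0
    · by_cases e' : H b u = 0
      · exact ⟨a + b, by rwa [form_add_left, e', add_zero], by rwa [form_add_left, e, zero_add]⟩
      · exact ⟨b, e', hb⟩
    · exact ⟨a, ha, e⟩
  by_cases hz : H z z = 0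
  · exact ⟨z, fun e => h1 (by rw [e, SUFull.form_zero_left]), hz, h1, h2⟩
  have hN : H z z = 1 := by
    have h := form_comm hF2 z z
    rw [pow_two] at h
    exact mul_left_cancel₀ hz (h.trans (mul_one _).symm)
  obtain ⟨ω, hω⟩ : ∃ ω : F, ω ^ 2 + ω + 1 = 0 := by
    obtain ⟨ω, h0, h1⟩ : ∃ ω : F, ω ≠ 0 ∧ ω ≠ 1 := by
      classical
      by_contra h; push Not at h
      have hsub : (Finset.univ : Finset F) ⊆ {0, 1} := fun x _ => by
        by_cases hx : x = 0
        · simp [hx]
        · simp [h x hx]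
      have := (Finset.card_le_card hsub).trans (Finset.card_le_two)
      rw [Finset.card_univ, hF] at this
      omega
    refine ⟨ω, mul_left_cancel₀ (mul_ne_zero h0 (sub_ne_zero.2 h1)) ?_⟩
    linear_combination frob hF ω
  set a := H z u with ha
  have h3 : a ^ 3 = 1 := mul_left_cancel₀ h1 (by linear_combination frob hF a)
  have hzu : H u z = a ^ 2 := (form_comm hF2 z u).symm
  refine ⟨z + (ω * a) • u, ?_, ?_, ?_, ?_⟩
  · intro e
    have := congrArg (fun y => H y u) e
    rw [form_add_left, form_smul_left, hu, mul_zero, add_zero, SUFull.form_zero_left] at this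
    exact h1 this
  · rw [form_add_left, form_add_right hF2, form_add_right hF2, form_smul_left, form_smul_left, form_smul_right,
      form_smul_right, hu, hN, hzu, ← ha]
    linear_combination hω + (ω + ω ^ 2) * h3
  · rwa [form_add_left, form_smul_left, hu, mul_zero, add_zero]
  · rwa [form_add_left, form_smul_left, huv, mul_zero, add_zero]

theorem eq_t (hF : Fintype.card F = 4) (g : Cfsg.SU n F 2)
    (h : (((g : Matrix.SpecialLinearGroup (Fin n) F) : Matrix (Fin n) (Fin n) F) - 1).rank = 1) :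
    ∃ v, v ≠ 0 ∧ H v v = 0 ∧ (suToGU n F 2 g : GL (Fin n) F) = t v := by
  have hF2 : Fintype.card F = 2 ^ 2 := by rw [hF]; norm_num
  set A := ((g : Matrix.SpecialLinearGroup (Fin n) F) : Matrix (Fin n) (Fin n) F) with hA
  obtain ⟨w, hw, hg⟩ := CfsgLib.Spor.TransvectionClass.exists_line h
  choose φ hφ using hg
  obtain ⟨i, hi⟩ := Function.ne_iff.1 hw
  have hlin : ∀ x, φ x = ((w i)⁻¹ • ((Matrix.toLin' A - LinearMap.id : (Fin n → F) →ₗ[F] (Fin n → F)) x)) i := fun x => by
    simp only [LinearMap.sub_apply, Matrix.toLin'_apply, LinearMap.id_apply, hφ, add_sub_cancel_left,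
      Pi.smul_apply, smul_eq_mul]
    have hi' : w i ≠ 0 := hi
    field_simp
  let φl : (Fin n → F) →ₗ[F] F := (LinearMap.proj i) ∘ₗ ((w i)⁻¹ • (Matrix.toLin' A - LinearMap.id))
  obtain ⟨y, hy⟩ := exists_rep hF2 φl
  have hφy : ∀ x, φ x = H x y := fun x => (hlin x).trans (hy x).symm
  have hAm : A = 1 + (1 : F) • Matrix.vecMulVec w (fun j => y j ^ 2) :=
    Matrix.ext_of_mulVec_single fun j => by
      rw [SUGen.upd_mulVec, hφ, one_mul, hφy]
  have hwy : H w y = 0 := by
    have hd : A.det = 1 := (g : Matrix.SpecialLinearGroup (Fin n) F).2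
    rw [hAm, SUGen.det_upd, one_mul, add_eq_left] at hd
    exact hd
  have hiso : ∀ x x', H (A *ᵥ x) (A *ᵥ x') = H x x' := fun x x' => g.2 x x'
  have hy0 : y ≠ 0 := by
    rintro rfl
    have : A = 1 := Matrix.ext_of_mulVec_single fun j => by
      rw [hφ, hφy, Matrix.one_mulVec, show H (Pi.single j 1) (0 : Fin n → F) = 0 by simp [Cfsg.hermForm], zero_smul, add_zero]
    rw [this] at h
    simp at h
  obtain ⟨p, hp⟩ : ∃ p, H p y = 1 := by
    obtain ⟨p, hp⟩ : ∃ p, H p y ≠ 0 := by
      by_contra k; push Not at k; exact hy0 (eq_zero_of_orth hF2 k)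
    exact ⟨(H p y)⁻¹ • p, by rw [form_smul_left, inv_mul_cancel₀ hp]⟩
  have key : ∀ x x', H x' y ^ 2 * H x w + H x y * H w x' + H x y * H x' y ^ 2 * H w w = 0 := fun x x' => by
    have h1 := hiso x x'
    rw [hφ, hφ, hφy, hφy, form_add_left, form_add_right hF2, form_add_right hF2, form_smul_left, form_smul_left,
      form_smul_right, form_smul_right] at h1
    linear_combination h1
  have hww : H w w = 0 := by
    have h1 := key w p
    rw [hwy, hp, one_pow, one_mul, zero_mul, zero_mul, zero_mul, add_zero, add_zero] at h1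
    exact h1
  have hxy : ∀ x, H x w = H x y * H w p := fun x => by
    have h1 := key x p
    rw [hp, hww, one_pow, one_mul, mul_zero, add_zero] at h1
    linear_combination h1 - (H x y * H w p) * two_zero hF
  have hwp : H w p ≠ 0 := fun e => hw (eq_zero_of_orth hF2 fun x => by rw [hxy, e, mul_zero])
  have hwp1 : H w p = 1 := by
    have h1 := hxy p
    rw [hp, one_mul, ← form_comm hF2 w p, pow_two] at h1
    exact mul_left_cancel₀ hwp (h1.trans (mul_one _).symm)
  refine ⟨w, hw, hww, gl_ext fun x => ?_⟩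
  rw [t_mulVec hww, hxy, hwp1, mul_one, ← hφy]
  exact hφ x

theorem rank_t (hF : Fintype.card F = 4) {v : Fin n → F} (hv0 : v ≠ 0) (hv : H v v = 0) :
    ((t v : Matrix (Fin n) (Fin n) F) - 1).rank = 1 := by
  refine CfsgLib.Spor.TransvectionClass.rank_eq_one (fun x => ⟨_, t_mulVec hv x⟩) ?_
  obtain ⟨p, hp⟩ : ∃ p, H p v ≠ 0 := by
    by_contra k; push Not at k
    exact hv0 (eq_zero_of_orth (show Fintype.card F = 2 ^ 2 by rw [hF]; norm_num) k)
  refine ⟨p, fun e => ?_⟩
  rw [t_mulVec hv, add_eq_left, smul_eq_zero] at e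
  exact e.elim hp hv0

theorem t_lift (hF : Fintype.card F = 4) (v : Fin n → F) :
    ∃ g : Cfsg.SU n F 2, (suToGU n F 2 g : GL (Fin n) F) = t v := by
  have hF2 : Fintype.card F = 2 ^ 2 := by rw [hF]; norm_num
  have h1 : t v ∈ Cfsg.GU n F 2 := SUGen.tu_mem_GU hF2 v (tz_one hF)
  have h2 : t v ∈ Cfsg.Geo.specialLinear (Fin n) F := SUGen.tu_mem_SL v 1
  exact ⟨⟨⟨_, congrArg Units.val (show Matrix.GeneralLinearGroup.det (t v) = 1 from h2)⟩, h1⟩, Units.ext rfl⟩

end Aux

/-- The unitary transvections of SU(n, 2), n ≥ 4, form a generating conjugacy class of 3-transpositions. -/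
theorem result (F : Type) [Field F] [Fintype F] [DecidableEq F] (hF : Fintype.card F = 4) (n : ℕ) (hn : 4 ≤ n) : Cfsg.IsThreeTranspositionClass {g : ↥(Cfsg.SU n F 2) | (((g : Matrix.SpecialLinearGroup (Fin n) F) : Matrix (Fin n) (Fin n) F) - 1).rank = 1} := by
  classical
  have hF2 : Fintype.card F = 2 ^ 2 := by rw [hF]; norm_num
  let ψ : Cfsg.SU n F 2 →* GL (Fin n) F := (Cfsg.GU n F 2).subtype.comp (suToGU n F 2)
  have hψ : Function.Injective ψ := Subtype.val_injective.comp suToGU_injective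
  have hrank : ∀ (v : Fin n → F), v ≠ 0 → Cfsg.hermForm n F 2 v v = 0 → ∀ g : Cfsg.SU n F 2, ψ g = t v →
      g ∈ {g : ↥(Cfsg.SU n F 2) | (((g : Matrix.SpecialLinearGroup (Fin n) F) : Matrix (Fin n) (Fin n) F) - 1).rank = 1} :=
    fun v hv0 hv g hg => by
      show (((ψ g : GL (Fin n) F) : Matrix (Fin n) (Fin n) F) - 1).rank = 1
      rw [hg]; exact rank_t hF hv0 hv
  have hsq : ∀ (v : Fin n → F), Cfsg.hermForm n F 2 v v = 0 → ∀ g : Cfsg.SU n F 2, ψ g = t v → g * g = 1 :=
    fun v hv g hg => hψ (by rw [map_mul, map_one, hg, t_sq hF hv])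
  refine ⟨⟨fun g hg => ?_, fun g hg k hk => ?_⟩, ?_, ?_⟩
  · obtain ⟨v, hv0, hv, e⟩ := eq_t hF g hg
    refine orderOf_eq_prime (by rw [pow_two]; exact hsq v hv g e) ?_
    rintro rfl
    simp at hg
  · obtain ⟨u, hu0, hu, eu⟩ := eq_t hF g hg
    obtain ⟨v, hv0, hv, ev⟩ := eq_t hF k hk
    refine CfsgLib.Spor.TransvectionClass.braid (hsq u hu g eu) (hsq v hv k ev) ?_
    obtain ⟨hc, hb⟩ := commute_or_braid hF hu hv
    change ψ g = t u at eu
    change ψ k = t v at ev
    by_cases e : Cfsg.hermForm n F 2 u v = 0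
    · exact Or.inl (hψ (by rw [map_mul, map_mul, eu, ev]; exact hc e))
    · exact Or.inr (hψ (by simp only [map_mul, eu, ev]; exact hb e))
  · let v0 : Fin n → F := Pi.single ⟨0, by omega⟩ 1 + Pi.single ⟨1, by omega⟩ 1
    have hne : (⟨0, by omega⟩ : Fin n) ≠ ⟨1, by omega⟩ := by simp
    have hv0 : v0 ≠ 0 := fun e => by
      have := congrFun e ⟨0, by omega⟩
      simp [v0] at this
    have hv : Cfsg.hermForm n F 2 v0 v0 = 0 := by
      simp only [v0, form_add_left, form_add_right hF2, form_single hF2, Pi.single_eq_same,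
        Pi.add_apply, Pi.single_eq_of_ne hne, Pi.single_eq_of_ne hne.symm]
      linear_combination two_zero hF
    obtain ⟨d, hd⟩ := t_lift hF v0
    refine ⟨d, hrank v0 hv0 hv d hd, ?_⟩
    ext g
    constructor
    · intro hg
      have link : ∀ (a b : Cfsg.SU n F 2) (u v : Fin n → F), ψ a = t u → ψ b = t v → Cfsg.hermForm n F 2 u u = 0 →
          Cfsg.hermForm n F 2 v v = 0 → Cfsg.hermForm n F 2 u v ≠ 0 → IsConj a b := by
        intro a b u v ea eb hu hv huv
        have hab : a * b * a = b * a * b := hψ (by simp only [map_mul, ea, eb]; exact (commute_or_braid hF hu hv).2 huv)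
        refine isConj_iff.2 ⟨a * b, mul_inv_eq_iff_eq_mul.2 ?_⟩
        rw [hab, mul_assoc]
      obtain ⟨u, hu0, hu, eu⟩ := eq_t hF g hg
      by_cases e : Cfsg.hermForm n F 2 v0 u = 0
      · obtain ⟨z, hz0, hz, hz1, hz2⟩ := exists_link hF hv0 hu0 hv hu e
        obtain ⟨m, hm⟩ := t_lift hF z
        exact (link m d z v0 hm hd hz hv hz1).symm.trans (link m g z u hm eu hz hu hz2)
      · exact link d g v0 u hd eu hv hu e
    · intro hg
      obtain ⟨a, rfl⟩ := isConj_iff.1 hg
      have e : ψ (a * d * a⁻¹) = t ((ψ a : Matrix (Fin n) (Fin n) F) *ᵥ v0) := by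
        rw [map_mul, map_mul, map_inv, show ψ d = t v0 from hd, t, t]
        exact SUGen.conj_tu (suToGU n F 2 a).2 hv 1
      refine hrank _ (fun h0 => hv0 ?_) ?_ _ e
      · have := congrArg (fun y => ((ψ a)⁻¹ : GL (Fin n) F).val *ᵥ y) h0
        rwa [FormMaxSL.inv_mulVec_mulVec, Matrix.mulVec_zero] at this
      · exact (mem_GU.1 (suToGU n F 2 a).2 v0 v0).trans hv
  · rw [eq_top_iff]
    intro g _
    have h1 : ψ g ∈ SUGen.T n F 2 := SUGen.su_le_T hF2 (by omega) (by omega)
      (Subgroup.mem_inf.2 ⟨(suToGU n F 2 g).2, MonoidHom.mem_ker.2 (Units.ext g.1.2)⟩)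
    suffices hle : SUGen.T n F 2 ≤ (Subgroup.closure {g : ↥(Cfsg.SU n F 2) | (((g : Matrix.SpecialLinearGroup (Fin n) F) : Matrix (Fin n) (Fin n) F) - 1).rank = 1}).map ψ by
      obtain ⟨g', hg', e⟩ := hle h1
      exact hψ e ▸ hg'
    rw [SUGen.T, Subgroup.closure_le]
    rintro _ ⟨v, c, hv, hc, rfl⟩
    by_cases hv0 : v = 0
    · rw [show SUGen.tu 2 v c = 1 from gl_ext fun x => by
        rw [SUGen.tu_mulVec hv, hv0, smul_zero, add_zero, Units.val_one, Matrix.one_mulVec]]
      exact Subgroup.one_mem _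
    by_cases hc0 : c = 0
    · rw [hc0, SUGen.tu_zero]; exact Subgroup.one_mem _
    have hc1 : c = 1 := by
      have h := hc
      refine mul_left_cancel₀ hc0 ?_
      linear_combination h - c * two_zero hF
    obtain ⟨d, hd⟩ := t_lift hF v
    exact ⟨d, Subgroup.subset_closure (hrank v hv0 hv d hd), hd.trans (by rw [hc1, t])⟩

end Cfsg.Agent.S1631
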