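import Cfsg.Statements.S1635
import Cfsg.Agent.Spor.Cosets
-- import your own Cfsg.Agent.* helpers here

set_option autoImplicit false
open Cfsg

namespace Cfsg.Agent.S1635

open CfsgLib.Spor
open scoped Pointwise

theorem norm_eq (v : Cfsg.GolayPt → ZMod 2) : hammingNorm v = (Cfsg.support₂ v).card := rfl

theorem sub_mem_iff (w v : Cfsg.GolayPt → ZMod 2) :
    w - v ∈ Cfsg.golayCode ↔ symmDiff (Cfsg.support₂ w) (Cfsg.support₂ v) ∈ Code := by
  rw [show w - v = w + v from by
    funext p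
    simp only [Pi.sub_apply, Pi.add_apply]
    generalize w p = a
    generalize v p = b
    revert a b
    decide, mem_code_iff, supp_add]

theorem exists_supp (s : Finset Cfsg.GolayPt) : ∃ v, Cfsg.support₂ v = s :=
  ⟨fun p => if p ∈ s then 1 else 0, by ext p; by_cases h : p ∈ s <;> simp [mem_supp, h]⟩

/-- Coset leaders of the length-24 code: a coset contains a unique word of weight ≤ 3, or else exactly six words of weight 4 and none lighter. -/
theorem result (w : Cfsg.GolayPt → ZMod 2) : ({v : Cfsg.GolayPt → ZMod 2 | hammingNorm v ≤ 4 ∧ w - v ∈ Cfsg.golayCode}.ncard = 1 ∧ ∃ v : Cfsg.GolayPt → ZMod 2, hammingNorm v ≤ 3 ∧ w - v ∈ Cfsg.golayCode) ∨ ({v : Cfsg.GolayPt → ZMod 2 | hammingNorm v ≤ 4 ∧ w - v ∈ Cfsg.golayCode}.ncard = 6 ∧ ∀ v : Cfsg.GolayPt → ZMod 2, w - v ∈ Cfsg.golayCode → hammingNorm v ≤ 4 → hammingNorm v = 4) := by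
  obtain ⟨t, ht4, -, htc⟩ := exists_leader (Cfsg.support₂ w)
  obtain ⟨v₀, hv₀⟩ := exists_supp t
  have hv₀' : w - v₀ ∈ Cfsg.golayCode := (sub_mem_iff w v₀).2 (by rw [hv₀]; exact htc)
  have hcong : ∀ v, w - v ∈ Cfsg.golayCode →
      symmDiff (Cfsg.support₂ v) t ∈ Code := fun v hv => by
    have h := symmDiff_mem_code ((sub_mem_iff w v).1 hv) htc
    rwa [symmDiff_comm (Cfsg.support₂ w) (Cfsg.support₂ v), symmDiff_assoc, symmDiff_symmDiff_cancel_left] at h
  rcases Nat.lt_or_ge t.card 4 with h3 | h3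
  · refine Or.inl ⟨Set.ncard_eq_one.2 ⟨v₀, Set.ext fun v => ⟨fun hv => ?_, ?_⟩⟩, v₀,
      by rw [norm_eq, hv₀]; omega, hv₀'⟩
    · have := congr_short_eq (hcong v hv.2) (by have := hv.1; rw [norm_eq] at this; omega)
      exact supp_injective (this.trans hv₀.symm)
    · rintro rfl; exact ⟨by rw [norm_eq, hv₀]; omega, hv₀'⟩
  · have h4 : t.card = 4 := le_antisymm ht4 h3
    have hmin : ∀ v, w - v ∈ Cfsg.golayCode → hammingNorm v ≤ 4 → hammingNorm v = 4 := by
      intro v hv hle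
      rw [norm_eq] at hle ⊢
      by_contra hne
      have := congr_short_eq (hcong v hv) (by omega)
      rw [this] at hne; exact hne h4
    refine Or.inr ⟨?_, hmin⟩
    obtain ⟨S, ⟨hS, htS⟩, huniq⟩ := existsUnique_sextet h4
    have e : Cfsg.support₂ '' {v | hammingNorm v ≤ 4 ∧ w - v ∈ Cfsg.golayCode} = ↑S := by
      ext u
      constructor
      · rintro ⟨v, ⟨hle, hv⟩, rfl⟩
        refine (congr_tetrads h4).1 ⟨(norm_eq v).symm.trans (hmin v hv hle), ?_⟩ S hS htS
        rw [symmDiff_comm]; exact hcong v hv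
      · intro hu
        obtain ⟨v, hv⟩ := exists_supp u
        have hh := (congr_tetrads (u := u) h4).2 fun S' hS' ht' => (huniq S' ⟨hS', ht'⟩) ▸ hu
        refine ⟨v, ⟨by rw [norm_eq, hv, hh.1], (sub_mem_iff w v).2 ?_⟩, hv⟩
        have h := symmDiff_mem_code htc hh.2
        rw [hv]
        rwa [symmDiff_assoc, symmDiff_symmDiff_cancel_left] at h
    rw [← Set.ncard_image_of_injective _ supp_injective, e, Set.ncard_coe_finset, hS.1]

end Cfsg.Agent.S1635
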