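import Cfsg.Statements.S1636
import Cfsg.Agent.Spor.Cosets
-- import your own Cfsg.Agent.* helpers here

set_option autoImplicit false
open Cfsg

namespace Cfsg.Agent.S1636

open CfsgLib.Spor
open scoped Pointwise

theorem norm_eq (v : Cfsg.GolayPt → ZMod 2) : hammingNorm v = (Cfsg.support₂ v).card := rfl

theorem sub_mem_iff (w v : Cfsg.GolayPt → ZMod 2) :
    w - v ∈ Cfsg.golayCode ↔ symmDiff (Cfsg.support₂ w) (Cfsg.support₂ v) ∈ Code := by
  rw [show w - v = w + v from by
    funext p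
    simp only [Pi.sub_apply, Pi.add_apply]
    generalize w p = a
    generalize v p = b
    revert a b
    decide, mem_code_iff, supp_add]

theorem exists_supp (s : Finset Cfsg.GolayPt) : ∃ v, Cfsg.support₂ v = s :=
  ⟨fun p => if p ∈ s then 1 else 0, by ext p; by_cases h : p ∈ s <;> simp [mem_supp, h]⟩

/-- restriction to the residues -/
def proj (w : Cfsg.GolayPt → ZMod 2) : ZMod 23 → ZMod 2 := fun x => w (some x)

theorem norm_proj (w : Cfsg.GolayPt → ZMod 2) :
    hammingNorm (proj w) = ((Cfsg.support₂ w).erase none).card := by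
  refine Finset.card_bij' (fun x _ => some x) (fun p _ => p.getD 0) ?_ ?_ ?_ ?_
  · intro x hx
    simp only [Finset.mem_filter, Finset.mem_univ, true_and] at hx
    exact Finset.mem_erase.2 ⟨by simp, mem_supp.2 hx⟩
  · intro p hp
    obtain ⟨hne, hp⟩ := Finset.mem_erase.1 hp
    cases p with
    | none => exact absurd rfl hne
    | some x => exact Finset.mem_filter.2 ⟨Finset.mem_univ _, mem_supp.1 hp⟩
  · intro x _; rfl
  · intro p hp
    obtain ⟨hne, hp⟩ := Finset.mem_erase.1 hp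
    cases p with
    | none => exact absurd rfl hne
    | some x => rfl

theorem card_erase_bound (s : Finset Cfsg.GolayPt) : s.card ≤ (s.erase none).card + 1 := by
  have := Finset.pred_card_le_card_erase (a := none) (s := s)
  omega

theorem proj_inj {v w : Cfsg.GolayPt → ZMod 2} (hv : v ∈ Cfsg.golayCode) (hw : w ∈ Cfsg.golayCode)
    (h : proj v = proj w) : v = w := by
  have hm := mem_code_iff.1 (add_mem hv hw)
  have hsub : (Cfsg.support₂ (v + w)).erase none = ∅ := by
    refine Finset.eq_empty_iff_forall_notMem.2 fun p hp => ?_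
    obtain ⟨hne, hp⟩ := Finset.mem_erase.1 hp
    cases p with
    | none => exact hne rfl
    | some x =>
      have e : v (some x) = w (some x) := congrFun h x
      refine mem_supp.1 hp ?_
      simp only [Pi.add_apply, e]
      generalize w (some x) = a
      revert a; decide
  have h1 := card_cases hm
  have h2 := card_erase_bound (Cfsg.support₂ (v + w))
  rw [hsub, Finset.card_empty] at h2
  have h3 : (Cfsg.support₂ (v + w)).card = 0 := by omega
  rw [supp_add] at h3
  exact supp_injective (symmDiff_eq_bot.1 (Finset.card_eq_zero.1 h3))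

/-- The punctured length-23 code has weight distribution 0^1 7^253 8^506 11^1288 12^1288 15^506 16^253 23^1. -/
theorem result : {u : ZMod 23 → ZMod 2 | ∃ w ∈ Cfsg.golayCode, ∀ x : ZMod 23, u x = w (some x)}.ncard = 4096 ∧ {u : ZMod 23 → ZMod 2 | u ∈ {u : ZMod 23 → ZMod 2 | ∃ w ∈ Cfsg.golayCode, ∀ x : ZMod 23, u x = w (some x)} ∧ hammingNorm u = 7}.ncard = 253 ∧ {u : ZMod 23 → ZMod 2 | u ∈ {u : ZMod 23 → ZMod 2 | ∃ w ∈ Cfsg.golayCode, ∀ x : ZMod 23, u x = w (some x)} ∧ hammingNorm u = 8}.ncard = 506 ∧ {u : ZMod 23 → ZMod 2 | u ∈ {u : ZMod 23 → ZMod 2 | ∃ w ∈ Cfsg.golayCode, ∀ x : ZMod 23, u x = w (some x)} ∧ hammingNorm u = 11}.ncard = 1288 ∧ {u : ZMod 23 → ZMod 2 | u ∈ {u : ZMod 23 → ZMod 2 | ∃ w ∈ Cfsg.golayCode, ∀ x : ZMod 23, u x = w (some x)} ∧ hammingNorm u = 12}.ncard = 1288 ∧ {u : ZMod 23 → ZMod 2 | u ∈ {u : ZMod 23 → ZMod 2 | ∃ w ∈ Cfsg.golayCode, ∀ x : ZMod 23, u x = w (some x)} ∧ hammingNorm u = 15}.ncard = 506 ∧ {u : ZMod 23 → ZMod 2 | u ∈ {u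 : ZMod 23 → ZMod 2 | ∃ w ∈ Cfsg.golayCode, ∀ x : ZMod 23, u x = w (some x)} ∧ hammingNorm u = 16}.ncard = 253 ∧ ∀ u ∈ {u : ZMod 23 → ZMod 2 | ∃ w ∈ Cfsg.golayCode, ∀ x : ZMod 23, u x = w (some x)}, u ≠ 0 → 7 ≤ hammingNorm u := by
  have hset : ∀ P : ℕ → Prop, {u : ZMod 23 → ZMod 2 | (∃ w ∈ Cfsg.golayCode, ∀ x, u x = w (some x)) ∧ P (hammingNorm u)} =
      proj '' {w | w ∈ Cfsg.golayCode ∧ P ((Cfsg.support₂ w).erase none).card} := by
    intro P
    ext u
    constructor
    · rintro ⟨⟨w, hw, he⟩, hP⟩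
      have e : u = proj w := funext he
      subst e
      exact ⟨w, ⟨hw, norm_proj w ▸ hP⟩, rfl⟩
    · rintro ⟨w, ⟨hw, hP⟩, rfl⟩
      exact ⟨⟨w, hw, fun _ => rfl⟩, (norm_proj w).symm ▸ hP⟩
  have hcount : ∀ (P : ℕ → Prop) (b : ℕ → Bool), (∀ n, P n ↔ b n = true) →
      {u : ZMod 23 → ZMod 2 | (∃ w ∈ Cfsg.golayCode, ∀ x, u x = w (some x)) ∧ P (hammingNorm u)}.ncard =
      wordList.countP (fun m => b (pop (m &&& 8388607))) := by
    intro P b hb
    rw [hset, Set.InjOn.ncard_image (fun v hv w hw h => proj_inj hv.1 hw.1 h),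
      ← Set.ncard_image_of_injective _ supp_injective,
      ← ncard_filter_code (fun s => P (s.erase none).card) (fun m => b (pop (m &&& 8388607)))]
    · congr 1
      ext s
      constructor
      · rintro ⟨w, ⟨hw, hP⟩, rfl⟩; exact ⟨mem_code_iff.1 hw, hP⟩
      · rintro ⟨⟨w, hw, rfl⟩, hP⟩; exact ⟨w, ⟨hw, hP⟩, rfl⟩
    · intro m _
      have e : (ofMask m).erase none = ofMask (m &&& 8388607) := by
        rw [ofMask_and, show ofMask 8388607 = Finset.univ.erase none from by decide +kernel]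
        ext p; simp [and_comm]
      rw [hb, e, card_ofMask]
  have hk : ∀ k n : ℕ, wordList.countP (fun m => pop (m &&& 8388607) == k) = n →
      {u : ZMod 23 → ZMod 2 | (∃ w ∈ Cfsg.golayCode, ∀ x, u x = w (some x)) ∧ hammingNorm u = k}.ncard = n :=
    fun k n h => (hcount (· = k) (· == k) (fun i => by simp)).trans h
  refine ⟨?_, hk 7 253 ?_, hk 8 506 ?_, hk 11 1288 ?_, hk 12 1288 ?_, hk 15 506 ?_, hk 16 253 ?_, ?_⟩
  · have h := hcount (fun _ => True) (fun _ => true) (fun _ => by simp)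
    simp only [and_true] at h
    exact h.trans (by decide +kernel)
  all_goals first
    | decide +kernel
    | skip
  rintro u ⟨w, hw, he⟩ hne
  have e : u = proj w := funext he
  subst e
  rw [norm_proj]
  have h1 := card_cases (mem_code_iff.1 hw)
  have h2 := card_erase_bound (Cfsg.support₂ w)
  have h0 : (Cfsg.support₂ w).card ≠ 0 := by
    intro h
    apply hne
    have hz : w = 0 := supp_injective (by rw [Finset.card_eq_zero.1 h]; ext p; simp [mem_supp])
    rw [hz]; rfl
  omega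

end Cfsg.Agent.S1636
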