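import Cfsg.Statements.S1637
import Cfsg.Agent.Spor.Cosets
-- import your own Cfsg.Agent.* helpers here

set_option autoImplicit false
open Cfsg

namespace Cfsg.Agent.S1637

open CfsgLib.Spor
open scoped Pointwise

theorem norm_eq (v : Cfsg.GolayPt → ZMod 2) : hammingNorm v = (Cfsg.support₂ v).card := rfl

theorem sub_mem_iff (w v : Cfsg.GolayPt → ZMod 2) :
    w - v ∈ Cfsg.golayCode ↔ symmDiff (Cfsg.support₂ w) (Cfsg.support₂ v) ∈ Code := by
  rw [show w - v = w + v from by
    funext p
    simp only [Pi.sub_apply, Pi.add_apply]
    generalize w p = a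
    generalize v p = b
    revert a b
    decide, mem_code_iff, supp_add]

theorem exists_supp (s : Finset Cfsg.GolayPt) : ∃ v, Cfsg.support₂ v = s :=
  ⟨fun p => if p ∈ s then 1 else 0, by ext p; by_cases h : p ∈ s <;> simp [mem_supp, h]⟩

/-- restriction to the residues -/
def proj (w : Cfsg.GolayPt → ZMod 2) : ZMod 23 → ZMod 2 := fun x => w (some x)

theorem norm_proj (w : Cfsg.GolayPt → ZMod 2) :
    hammingNorm (proj w) = ((Cfsg.support₂ w).erase none).card := by
  refine Finset.card_bij' (fun x _ => some x) (fun p _ => p.getD 0) ?_ ?_ ?_ ?_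
  · intro x hx
    simp only [Finset.mem_filter, Finset.mem_univ, true_and] at hx
    exact Finset.mem_erase.2 ⟨by simp, mem_supp.2 hx⟩
  · intro p hp
    obtain ⟨hne, hp⟩ := Finset.mem_erase.1 hp
    cases p with
    | none => exact absurd rfl hne
    | some x => exact Finset.mem_filter.2 ⟨Finset.mem_univ _, mem_supp.1 hp⟩
  · intro x _; rfl
  · intro p hp
    obtain ⟨hne, hp⟩ := Finset.mem_erase.1 hp
    cases p with
    | none => exact absurd rfl hne
    | some x => rfl

theorem card_erase_bound (s : Finset Cfsg.GolayPt) : s.card ≤ (s.erase none).card + 1 := by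
  have := Finset.pred_card_le_card_erase (a := none) (s := s)
  omega

theorem proj_inj {v w : Cfsg.GolayPt → ZMod 2} (hv : v ∈ Cfsg.golayCode) (hw : w ∈ Cfsg.golayCode)
    (h : proj v = proj w) : v = w := by
  have hm := mem_code_iff.1 (add_mem hv hw)
  have hsub : (Cfsg.support₂ (v + w)).erase none = ∅ := by
    refine Finset.eq_empty_iff_forall_notMem.2 fun p hp => ?_
    obtain ⟨hne, hp⟩ := Finset.mem_erase.1 hp
    cases p with
    | none => exact hne rfl
    | some x =>
      have e : v (some x) = w (some x) := congrFun h x
      refine mem_supp.1 hp ?_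
      simp only [Pi.add_apply, e]
      generalize w (some x) = a
      revert a; decide
  have h1 := card_cases hm
  have h2 := card_erase_bound (Cfsg.support₂ (v + w))
  rw [hsub, Finset.card_empty] at h2
  have h3 : (Cfsg.support₂ (v + w)).card = 0 := by omega
  rw [supp_add] at h3
  exact supp_injective (symmDiff_eq_bot.1 (Finset.card_eq_zero.1 h3))

/-- The punctured length-23 code is a perfect 3-error-correcting code: each word of length 23 is within distance 3 of exactly one codeword. -/
theorem result (u : ZMod 23 → ZMod 2) : ∃! c : ZMod 23 → ZMod 2, c ∈ {u : ZMod 23 → ZMod 2 | ∃ w ∈ Cfsg.golayCode, ∀ x : ZMod 23, u x = w (some x)} ∧ hammingDist u c ≤ 3 := by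
  let w : Cfsg.GolayPt → ZMod 2 := fun p => p.elim 0 u
  obtain ⟨t, -, ht3, htc⟩ := exists_leader (Cfsg.support₂ w)
  obtain ⟨v, hv⟩ := exists_supp t
  have hc : w - v ∈ Cfsg.golayCode := (sub_mem_iff w v).2 (by rw [hv]; exact htc)
  refine ⟨proj (w - v), ⟨⟨w - v, hc, fun x => rfl⟩, ?_⟩, ?_⟩
  · rw [hammingDist_eq_hammingNorm, show -u + proj (w - v) = proj v from by
      funext x
      show -u x + (u x - v (some x)) = v (some x)
      generalize u x = a
      generalize v (some x) = b
      revert a b
      decide, norm_proj, hv]
    exact ht3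
  · rintro c ⟨⟨c₀, hc₀, hcx⟩, hd⟩
    have e : c = proj c₀ := funext hcx
    subst e
    congr 1
    by_contra hne
    have hd2 : hammingDist u (proj (w - v)) ≤ 3 := by
      rw [hammingDist_eq_hammingNorm, show -u + proj (w - v) = proj v from by
        funext x
        show -u x + (u x - v (some x)) = v (some x)
        generalize u x = a
        generalize v (some x) = b
        revert a b
        decide, norm_proj, hv]
      exact ht3
    have htri := hammingDist_triangle_right (proj c₀) (proj (w - v)) u
    rw [hammingDist_comm (proj c₀) u, hammingDist_comm (proj (w - v)) u] at htri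
    rw [hammingDist_eq_hammingNorm, show -proj c₀ + proj (w - v) = proj (c₀ - (w - v)) from by
      funext x
      show -c₀ (some x) + (w - v) (some x) = c₀ (some x) - (w - v) (some x)
      generalize c₀ (some x) = a
      generalize (w - v) (some x) = b
      revert a b
      decide,
      norm_proj] at htri
    have hm := mem_code_iff.1 (sub_mem hc₀ hc)
    have h1 := card_cases hm
    have h2 := card_erase_bound (Cfsg.support₂ (c₀ - (w - v)))
    have h0 : (Cfsg.support₂ (c₀ - (w - v))).card ≠ 0 := by
      intro h
      apply hne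
      rw [← sub_eq_zero]
      apply supp_injective
      rw [Finset.card_eq_zero.1 h]
      ext p; simp [mem_supp]
    omega

end Cfsg.Agent.S1637
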