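import Cfsg.Statements.S1638
import Cfsg.Agent.Spor.FlagStd
-- import your own Cfsg.Agent.* helpers here

set_option autoImplicit false
open scoped Pointwise
open Cfsg

namespace Cfsg.Agent.S1638

open CfsgLib.Spor
open scoped Pointwise

theorem pairInv_smul {σ : Equiv.Perm Cfsg.GolayPt} (hσ : σ ∈ Cfsg.M24) (y : Finset Cfsg.GolayPt) :
    (maskK.dec fpair0X ∩ y).card = (σ • maskK.dec fpair0X ∩ σ • y).card ∧
      ((∃ o ∈ Cfsg.octads, ({pt oneX, pt twoX} : Finset Cfsg.GolayPt) ∪ (maskK.dec fpair0X ∪ y) ⊆ o) ↔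
        ∃ o ∈ Cfsg.octads, σ (pt oneX) ∈ o ∧ σ (pt twoX) ∈ o ∧ σ • maskK.dec fpair0X ∪ σ • y ⊆ o) := by
  refine ⟨(inter_smul_card σ _ _).symm, ?_⟩
  rw [← exists_octad_smul hσ]
  refine exists_congr fun o => and_congr_right fun _ => ?_
  simp only [smul_eq_image, Finset.image_union, Finset.image_insert, Finset.image_singleton,
    Finset.union_subset_iff, Finset.insert_subset_iff, Finset.singleton_subset_iff, and_assoc]

/-- Fix two points p ≠ q and a pair s of two further points. Among the pairs avoiding p, q and disjoint from s, exactly 30 lie in an octad together with p, q and s and exactly 160 do not; and any two pairs other than s that meet s in equally many points and agree on that octad property are carried to one another by an element of the group of the length-24 code fixing p, q and s. -/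
theorem result (p q : Cfsg.GolayPt) (hpq : p ≠ q) (s : Finset Cfsg.GolayPt) (hs : (s.card = 2 ∧ p ∉ s ∧ q ∉ s)) : {t : Finset Cfsg.GolayPt | (t.card = 2 ∧ p ∉ t ∧ q ∉ t) ∧ Disjoint s t ∧ (∃ o ∈ Cfsg.octads, p ∈ o ∧ q ∈ o ∧ s ∪ t ⊆ o)}.ncard = 30 ∧ {t : Finset Cfsg.GolayPt | (t.card = 2 ∧ p ∉ t ∧ q ∉ t) ∧ Disjoint s t ∧ ¬ (∃ o ∈ Cfsg.octads, p ∈ o ∧ q ∈ o ∧ s ∪ t ⊆ o)}.ncard = 160 ∧ ∀ t t' : Finset Cfsg.GolayPt, (t.card = 2 ∧ p ∉ t ∧ q ∉ t) → (t'.card = 2 ∧ p ∉ t' ∧ q ∉ t') → t ≠ s → t' ≠ s → (s ∩ t).card = (s ∩ t').card → ((∃ o ∈ Cfsg.octads, p ∈ o ∧ q ∈ o ∧ s ∪ t ⊆ o) ↔ (∃ o ∈ Cfsg.octads, p ∈ o ∧ q ∈ o ∧ s ∪ t' ⊆ o)) → ∃ g : Equiv.Perm Cfsg.GolayPt, g ∈ Cfsg.M24 ∧ g p = p ∧ g q = q ∧ g • s = s ∧ g • t = t' := by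
  obtain ⟨σ, hσ, rfl, rfl, rfl⟩ := fpair_flag hpq hs.1 hs.2.1 hs.2.2
  have hmem : ∀ (a : Cfsg.GolayPt) (y : Finset Cfsg.GolayPt), σ a ∈ σ • y ↔ a ∈ y := fun a y => mem_smul_iff
  refine ⟨?_, ?_, fun t t' ht ht' hne hne' hc hiff => ?_⟩
  · refine family_count gpair_st gpair_cover gpair_inv gpair_nodup (z := maskK.dec gpair1X) (by simp) gpair1_exact.2.2 σ (fun y => ?_)
    have hz : pairInv (maskK.dec gpair1X) = (0, true) := by
      have h := gpair_vals
      simp only [List.map_cons, List.map_nil, List.cons.injEq, and_true] at h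
      exact h.2.1
    rw [hz]
    simp only [pairInv, Prod.mk.injEq, Set.mem_setOf_eq, card_smul_perm, hmem, decide_eq_true_eq,
      decide_eq_false_iff_not]
    rw [(pairInv_smul hσ y).1, (pairInv_smul hσ y).2, Finset.disjoint_iff_inter_eq_empty,
      ← Finset.card_eq_zero]
  · refine family_count gpair_st gpair_cover gpair_inv gpair_nodup (z := maskK.dec gpair3X) (by simp) gpair3_exact.2.2 σ (fun y => ?_)
    have hz : pairInv (maskK.dec gpair3X) = (0, false) := by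
      have h := gpair_vals
      simp only [List.map_cons, List.map_nil, List.cons.injEq, and_true] at h
      exact h.2.2.2
    rw [hz]
    simp only [pairInv, Prod.mk.injEq, Set.mem_setOf_eq, card_smul_perm, hmem, decide_eq_true_eq,
      decide_eq_false_iff_not]
    rw [(pairInv_smul hσ y).1, (pairInv_smul hσ y).2, Finset.disjoint_iff_inter_eq_empty,
      ← Finset.card_eq_zero]
  · obtain ⟨g, hg, hgy, hgx⟩ := family_move gpair_st gpair_cover gpair_inv gpair_nodup hσ (x := t) (y := t')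
      ⟨(card_smul_perm _ _).trans ht.1, (by rw [← mem_smul_iff (σ := σ), smul_inv_smul]; exact ht.2.1), (by rw [← mem_smul_iff (σ := σ), smul_inv_smul]; exact ht.2.2)⟩
      ⟨(card_smul_perm _ _).trans ht'.1, (by rw [← mem_smul_iff (σ := σ), smul_inv_smul]; exact ht'.2.1), (by rw [← mem_smul_iff (σ := σ), smul_inv_smul]; exact ht'.2.2)⟩
      (by
        simp only [pairInv, Prod.mk.injEq, decide_eq_decide]
        rw [(pairInv_smul hσ (σ⁻¹ • t)).1, (pairInv_smul hσ (σ⁻¹ • t')).1, (pairInv_smul hσ (σ⁻¹ • t)).2,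
          (pairInv_smul hσ (σ⁻¹ • t')).2, smul_inv_smul, smul_inv_smul]
        exact ⟨hc, hiff⟩)
    obtain ⟨e12, e3⟩ := Prod.mk.inj hgy
    obtain ⟨e1, e2⟩ := Prod.mk.inj e12
    exact ⟨g, hg, e1, e2, e3, hgx⟩

end Cfsg.Agent.S1638
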