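import Cfsg.Statements.S1639
import Cfsg.Agent.Spor.FlagStd
-- import your own Cfsg.Agent.* helpers here

set_option autoImplicit false
open scoped Pointwise
open Cfsg

namespace Cfsg.Agent.S1639

open CfsgLib.Spor
open scoped Pointwise

/-- The point stabiliser acts on the 1288 dodecads through the point with rank 4 and subdegrees 1, 165, 330, 792, distinguished by intersection 4, 8, 6 with the fixed dodecad. -/
theorem result (x : Cfsg.GolayPt) (d : Finset Cfsg.GolayPt) (hd : d ∈ Cfsg.dodecads) (hx : x ∈ d) : {d' : Finset Cfsg.GolayPt | d' ∈ Cfsg.dodecads ∧ x ∈ d' ∧ (d ∩ d').card = 4}.ncard = 165 ∧ {d' : Finset Cfsg.GolayPt | d' ∈ Cfsg.dodecads ∧ x ∈ d' ∧ (d ∩ d').card = 8}.ncard = 330 ∧ {d' : Finset Cfsg.GolayPt | d' ∈ Cfsg.dodecads ∧ x ∈ d' ∧ (d ∩ d').card = 6}.ncard = 792 ∧ ∀ d' d'' : Finset Cfsg.GolayPt, d' ∈ Cfsg.dodecads → d'' ∈ Cfsg.dodecads → x ∈ d' → x ∈ d'' → (d ∩ d').card = (d ∩ d'').card → ∃ g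 : Equiv.Perm Cfsg.GolayPt, g ∈ Cfsg.M24 ∧ g x = x ∧ g • d = d ∧ g • d' = d'' := by
  obtain ⟨σ, hσ, rfl, rfl⟩ := dod_flag1 hd hx
  have hdod : ∀ y : Finset Cfsg.GolayPt, σ • y ∈ Cfsg.dodecads ↔ y ∈ Cfsg.dodecads := fun y =>
    ⟨fun h => by simpa using smul_mem_dodecads (inv_mem hσ) h, fun h => smul_mem_dodecads hσ h⟩
  have hmem : ∀ (a : Cfsg.GolayPt) (y : Finset Cfsg.GolayPt), σ a ∈ σ • y ↔ a ∈ y := fun a y => mem_smul_iff
  refine ⟨?_, ?_, ?_, fun d' d'' hd' hd'' hx' hx'' h => ?_⟩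
  · refine family_count fdd_st fdd_cover fdd_inv fdd_nodup (z := maskK.dec fdd1X) (by simp) fdd1_exact.2.2 σ (fun y => ?_)
    rw [show (D0 ∩ maskK.dec fdd1X).card = 4 by decide +kernel]
    simp only [hdod, hmem, Set.mem_setOf_eq, inter_smul_card]
    exact (and_assoc).symm
  · refine family_count fdd_st fdd_cover fdd_inv fdd_nodup (z := maskK.dec fdd2X) (by simp) fdd2_exact.2.2 σ (fun y => ?_)
    rw [show (D0 ∩ maskK.dec fdd2X).card = 8 by decide +kernel]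
    simp only [hdod, hmem, Set.mem_setOf_eq, inter_smul_card]
    exact (and_assoc).symm
  · refine family_count fdd_st fdd_cover fdd_inv fdd_nodup (z := maskK.dec fdd3X) (by simp) fdd3_exact.2.2 σ (fun y => ?_)
    rw [show (D0 ∩ maskK.dec fdd3X).card = 6 by decide +kernel]
    simp only [hdod, hmem, Set.mem_setOf_eq, inter_smul_card]
    exact (and_assoc).symm
  · obtain ⟨g, hg, hgy, hgx⟩ := family_move fdd_st fdd_cover fdd_inv fdd_nodup hσ (x := d') (y := d'')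
      ⟨smul_mem_dodecads (inv_mem hσ) hd', (by rw [← mem_smul_iff (σ := σ), smul_inv_smul]; exact hx')⟩
      ⟨smul_mem_dodecads (inv_mem hσ) hd'', (by rw [← mem_smul_iff (σ := σ), smul_inv_smul]; exact hx'')⟩
      (by
        show (D0 ∩ σ⁻¹ • d').card = (D0 ∩ σ⁻¹ • d'').card
        rw [← inter_smul_card σ D0 (σ⁻¹ • d'), ← inter_smul_card σ D0 (σ⁻¹ • d''), smul_inv_smul, smul_inv_smul]
        exact h)
    obtain ⟨e1, e2⟩ := Prod.mk.inj hgy
    exact ⟨g, hg, e2, e1, hgx⟩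

end Cfsg.Agent.S1639
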