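import Cfsg.Statements.S1691
import Cfsg.Prelude.Def_Spor_Fi24
import Mathlib
-- import your own Cfsg.Agent.* helpers here

set_option autoImplicit false
open Cfsg

namespace Cfsg.Agent.S1691

open Cfsg.Spor in
theorem sgn : ∃ φ : Fi24 →* Multiplicative (ZMod 2),
    φ (PresentedGroup.of Fi24.Gen.l) ≠ 1 := by
  let σ : Fi24.Gen → Multiplicative (ZMod 2) := fun _ => Multiplicative.ofAdd 1
  have h : ∀ r ∈ coxRelators Fi24.edges ∪ {r | r ∈ Fi24.extra}, FreeGroup.lift σ r = 1 := by
    rintro r (⟨x, -, y, -, rfl⟩ | hr)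
    · rw [map_pow, map_mul, FreeGroup.lift_apply_of, FreeGroup.lift_apply_of]
      show ((σ x * σ x) ^ _ : Multiplicative (ZMod 2)) = 1
      rw [show σ x * σ x = 1 from (by decide), one_pow]
    · simp only [Fi24.extra, Set.mem_setOf_eq, List.mem_cons, List.not_mem_nil, or_false] at hr
      rcases hr with rfl | rfl <;> simp only [map_mul, map_pow, map_inv, FreeGroup.lift_apply_of, σ] <;> decide
  exact ⟨PresentedGroup.toGroup h, by rw [PresentedGroup.toGroup.of]; decide⟩

open Cfsg.Spor in
theorem gens : ∀ x : Fi24.Gen,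
    (QuotientGroup.mk (PresentedGroup.of x) : Abelianization Fi24) =
      QuotientGroup.mk (PresentedGroup.of Fi24.Gen.l) ∧
    (QuotientGroup.mk (PresentedGroup.of x) : Abelianization Fi24) ^ 2 = 1 := by
  have hrel : ∀ x ∈ coxNodes Fi24.edges, ∀ y ∈ coxNodes Fi24.edges,
      ((Abelianization.of (PresentedGroup.of x) : Abelianization Fi24) * Abelianization.of (PresentedGroup.of y)) ^
        coxLabel Fi24.edges x y = 1 := by
    intro x hx y hy
    rw [← map_mul, ← map_pow]
    have : (PresentedGroup.of x * PresentedGroup.of y : Fi24) ^ coxLabel Fi24.edges x y = 1 :=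
      PresentedGroup.one_of_mem (Or.inl ⟨x, hx, y, hy, rfl⟩)
    rw [this, map_one]
  have hnodes : ∀ x : Fi24.Gen, x ∈ coxNodes Fi24.edges := fun x => by cases x <;> decide
  let u : Fi24.Gen → Abelianization Fi24 := fun x => Abelianization.of (PresentedGroup.of x)
  have hsq : ∀ x, u x ^ 2 = 1 := fun x => by
    have := hrel x (hnodes x) x (hnodes x)
    rw [show coxLabel Fi24.edges x x = 1 by simp [coxLabel], pow_one] at this
    rw [pow_two]; exact this
  have e3 : ∀ x y, coxLabel Fi24.edges x y = 3 → u x = u y := by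
    intro x y h
    have h3 := hrel x (hnodes x) y (hnodes y)
    rw [h, pow_succ, mul_pow, hsq x, hsq y, one_mul, one_mul] at h3
    rw [← mul_one (u x), ← hsq y, pow_two, ← mul_assoc, h3, one_mul]
  have k := e3 .k .l (by decide)
  have a := (e3 .a .k (by decide)).trans k
  have b := (e3 .b .a (by decide)).trans a
  have c := (e3 .c .b (by decide)).trans b
  have d := (e3 .d .c (by decide)).trans c
  have e := (e3 .e .d (by decide)).trans d
  have f := (e3 .f .e (by decide)).trans e
  have g := (e3 .g .f (by decide)).trans f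
  have j := (e3 .j .g (by decide)).trans g
  have h := (e3 .h .d (by decide)).trans d
  have i := (e3 .i .h (by decide)).trans h
  intro x
  refine ⟨?_, hsq x⟩
  cases x <;> first | rfl | assumption

open Cfsg.Spor in
theorem cover : ∀ q : Abelianization Fi24,
    q = 1 ∨ q = QuotientGroup.mk (PresentedGroup.of Fi24.Gen.l) := by
  intro q
  obtain ⟨g, rfl⟩ := QuotientGroup.mk_surjective q
  set s : Abelianization Fi24 := QuotientGroup.mk (PresentedGroup.of Fi24.Gen.l) with hs
  have hsq : s * s = 1 := by rw [← pow_two]; exact (gens _).2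
  have hmem : g ∈ Subgroup.comap (QuotientGroup.mk' (commutator Fi24)) (Subgroup.zpowers s) := by
    have htop : (⊤ : Subgroup Fi24) ≤ Subgroup.comap (QuotientGroup.mk' (commutator Fi24)) (Subgroup.zpowers s) := by
      rw [← PresentedGroup.closure_range_of, Subgroup.closure_le]
      rintro _ ⟨x, rfl⟩
      show QuotientGroup.mk (PresentedGroup.of x) ∈ Subgroup.zpowers s
      rw [(gens x).1]
      exact Subgroup.mem_zpowers s
    exact htop (Subgroup.mem_top g)
  obtain ⟨n, hn⟩ := hmem
  replace hn : s ^ n = QuotientGroup.mk g := hn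
  rw [← hn]
  rcases Int.even_or_odd' n with ⟨m, rfl | rfl⟩
  · left; rw [zpow_mul]; simp [pow_two, hsq]
  · right; rw [zpow_add, zpow_mul]; simp [pow_two, hsq]

theorem finite_ab : Finite (Abelianization Cfsg.Spor.Fi24) := by
  classical
  refine Finite.of_surjective (fun b : Bool => if b then
    (QuotientGroup.mk (PresentedGroup.of Cfsg.Spor.Fi24.Gen.l) : Abelianization Cfsg.Spor.Fi24) else 1) fun q => ?_
  rcases cover q with rfl | rfl
  · exact ⟨false, rfl⟩
  · exact ⟨true, rfl⟩

theorem index_le : (commutator Cfsg.Spor.Fi24).index ≤ 2 := by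
  classical
  haveI := finite_ab
  have h := Nat.card_le_card_of_surjective (fun b : Bool => if b then
    (QuotientGroup.mk (PresentedGroup.of Cfsg.Spor.Fi24.Gen.l) : Abelianization Cfsg.Spor.Fi24) else 1) fun q => by
      rcases cover q with rfl | rfl
      · exact ⟨false, rfl⟩
      · exact ⟨true, rfl⟩
  rwa [Nat.card_eq_fintype_card (α := Bool), Fintype.card_bool] at h

theorem index_pos : (commutator Cfsg.Spor.Fi24).index ≠ 0 := by
  haveI : Finite (Cfsg.Spor.Fi24 ⧸ commutator Cfsg.Spor.Fi24) := finite_ab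
  exact Nat.card_pos.ne'

/-- The commutator subgroup of the presented group Fi₂₄ has index 2 (the presented group is Fi₂₄′:2 with Fi₂₄′ its derived subgroup). -/
theorem result : (commutator Cfsg.Spor.Fi24).index = 2 := by
  obtain ⟨φ, hφ⟩ := sgn
  refine Nat.le_antisymm ?_ ?_
  · exact index_le
  · have hne : commutator Cfsg.Spor.Fi24 ≠ ⊤ := fun h => hφ (by
      have : commutator Cfsg.Spor.Fi24 ≤ φ.ker := Abelianization.commutator_subset_ker φ
      rw [h] at this
      exact MonoidHom.mem_ker.1 (this (Subgroup.mem_top _)))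
    have h1 := mt Subgroup.index_eq_one.1 hne
    have h0 := index_pos
    omega

end Cfsg.Agent.S1691
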