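import Cfsg.Statements.S1754
import Cfsg.Agent.Inv.Component
-- import your own Cfsg.Agent.* helpers here

set_option autoImplicit false
open Cfsg

namespace Cfsg.Agent.S1754

/-- Let A be a standard subgroup of the finite group G (A quasisimple, C_G(A) tightly embedded of even order, A commuting elementwise with no other conjugate of itself, and N_G(A) = N_G(C_G(A))), and let t be an involution of G centralizing A. Then the centralizer of t lies in the normalizer of A; in particular A, viewed inside C_G(t), is a component of C_G(t). -/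
theorem result {G : Type*} [Group G] [Finite G]
    (A : Subgroup G) (hA : Cfsg.IsStandardSubgroup A) (t : G) (ht : orderOf t = 2) (htA : t ∈ Subgroup.centralizer (A : Set G)) :
    Subgroup.centralizer ({t} : Set G) ≤ Subgroup.normalizer (A : Set G) ∧
      Cfsg.IsComponent (A.subgroupOf (Subgroup.centralizer ({t} : Set G))) := by
  classical
  obtain ⟨hq, ⟨-, hte⟩, -, hNN⟩ := hA
  set K := Subgroup.centralizer (A : Set G) with hK
  have hle : Subgroup.centralizer ({t} : Set G) ≤ Subgroup.normalizer (A : Set G) := by
    intro x hx
    rw [hNN]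
    by_contra hxN
    have hodd := hte x hxN
    have htx : x * t * x⁻¹ = t := by
      rw [Subgroup.mem_centralizer_singleton_iff.mp hx, mul_inv_cancel_right]
    have htI : t ∈ K ⊓ K.map (MulAut.conj x).toMonoidHom := ⟨htA, t, htA, htx⟩
    have h2 : 2 ∣ Nat.card ↥(K ⊓ K.map (MulAut.conj x).toMonoidHom) := by
      rw [← ht]; exact Subgroup.orderOf_dvd_natCard _ htI
    exact (Nat.not_even_iff_odd.mpr hodd) (even_iff_two_dvd.mpr h2)
  have hAC : A ≤ Subgroup.centralizer ({t} : Set G) := fun a ha =>
    Subgroup.mem_centralizer_singleton_iff.mpr (Subgroup.mem_centralizer_iff.mp htA a ha)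
  refine ⟨hle, Subgroup.Normal.isSubnormal ?_, CfsgLib.Inv.quasisimple_congr (Subgroup.subgroupOfEquivOfLe hAC).symm hq⟩
  exact (Subgroup.normal_subgroupOf_iff_le_normalizer hAC).mpr hle

end Cfsg.Agent.S1754
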