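import Cfsg.Statements.S1755
import Cfsg.Agent.Inv.Component
-- import your own Cfsg.Agent.* helpers here

set_option autoImplicit false
open Cfsg

namespace Cfsg.Agent.S1755

theorem aux {G : Type*} [Group G] [Finite G] (z : G) (hz : orderOf z = 2) (C : Subgroup G)
    (hC : C = Subgroup.centralizer ({z} : Set G)) (F : Subgroup ↥C) [F.Normal]
    (hCF : Subgroup.centralizer (F : Set ↥C) ≤ F) (hQ : Cfsg.IsOfSymplecticType ↥F) (B : Subgroup ↥F)
    (hBc : B.Characteristic) (hBa : IsMulCommutative ↥B) (g : G) :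
    ((B.map F.subtype).map C.subtype).map (MulAut.conj g).toMonoidHom = (B.map F.subtype).map C.subtype ∨
      ((B.map F.subtype).map C.subtype).map (MulAut.conj g).toMonoidHom ⊓ (B.map F.subtype).map C.subtype = ⊥ := by
  classical
  have hmC : ∀ c : G, c ∈ C ↔ c * z = z * c := fun c => by rw [hC]; exact Subgroup.mem_centralizer_singleton_iff
  set B' := B.map F.subtype with hB'
  set BG := B'.map C.subtype with hBG
  rcases eq_or_ne (BG.map (MulAut.conj g).toMonoidHom ⊓ BG) ⊥ with h | h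
  · exact Or.inr h
  left
  haveI := hBc
  haveI : Fact (Nat.Prime 2) := ⟨Nat.prime_two⟩
  haveI hcyc : IsCyclic ↥B := hQ.2 B hBc hBa
  have hB2 : IsPGroup 2 ↥B := hQ.1.to_subgroup B
  -- the unique involution
  have huniq : ∀ x ∈ BG, ∀ y ∈ BG, orderOf x = 2 → orderOf y = 2 → x = y := by
    rintro _ ⟨_, ⟨x, hx, rfl⟩, rfl⟩ _ ⟨_, ⟨y, hy, rfl⟩, rfl⟩ hox hoy
    rw [orderOf_injective C.subtype C.subtype_injective, orderOf_injective F.subtype F.subtype_injective] at hox hoy
    have hu := Nat.card_eq_two_iff' (1 : ↥(Subgroup.zpowers (⟨x, hx⟩ : B))) |>.mp (by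
      rw [Nat.card_zpowers, Subgroup.orderOf_mk, hox])
    have hyx : (⟨y, hy⟩ : B) ∈ Subgroup.zpowers (⟨x, hx⟩ : B) := by
      haveI := Fintype.ofFinite ↥B
      have hy' : orderOf (⟨y, hy⟩ : B) = 2 := by rw [Subgroup.orderOf_mk, hoy]
      have hx' : orderOf (⟨x, hx⟩ : B) = 2 := by rw [Subgroup.orderOf_mk, hox]
      have := IsCyclic.card_orderOf_eq_totient (α := ↥B) (hx' ▸ orderOf_dvd_card)
      obtain ⟨w, hw⟩ := Finset.card_eq_one.mp (this.trans (by decide))
      have h1 : (⟨x, hx⟩ : B) = w := Finset.mem_singleton.mp (hw ▸ Finset.mem_filter.mpr ⟨Finset.mem_univ _, hx'⟩)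
      have h2 : (⟨y, hy⟩ : B) = w := Finset.mem_singleton.mp (hw ▸ Finset.mem_filter.mpr ⟨Finset.mem_univ _, hy'⟩)
      rw [h2, ← h1]; exact Subgroup.mem_zpowers _
    obtain ⟨w, -, hw⟩ := hu
    have h1 : (⟨⟨x, hx⟩, Subgroup.mem_zpowers _⟩ : ↥(Subgroup.zpowers (⟨x, hx⟩ : B))) = w := hw _ fun e => by
      have e' : x = 1 := congrArg Subtype.val (congrArg Subtype.val e)
      rw [e', orderOf_one] at hox; omega
    have h2 : (⟨⟨y, hy⟩, hyx⟩ : ↥(Subgroup.zpowers (⟨x, hx⟩ : B))) = w := hw _ fun e => by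
      have e' : y = 1 := congrArg Subtype.val (congrArg Subtype.val e)
      rw [e', orderOf_one] at hoy; omega
    have e : x = y := congrArg Subtype.val (congrArg Subtype.val (h1.trans h2.symm))
    rw [e]
  have hBG2 : IsPGroup 2 ↥BG := (hB2.map _).map _
  have hinv : ∀ K : Subgroup G, IsPGroup 2 ↥K → K ≠ ⊥ → ∃ x ∈ K, orderOf x = 2 := by
    intro K hK hK1
    haveI : Nontrivial K := (Subgroup.nontrivial_iff_ne_bot _).2 hK1
    obtain ⟨n, hn, hcard⟩ := hK.nontrivial_iff_card.1 inferInstance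
    obtain ⟨x, hx⟩ := exists_prime_orderOf_dvd_card' 2 (G := ↥K) (hcard ▸ dvd_pow_self 2 hn.ne')
    exact ⟨x, x.2, by rw [Subgroup.orderOf_coe]; exact hx⟩
  obtain ⟨x, hxm, hox⟩ := hinv _ (hBG2.to_le inf_le_right) h
  obtain ⟨⟨y, hy, hyx⟩, hxB⟩ := hxm
  -- z is the involution of B
  haveI hB'n : B'.Normal := inferInstance
  have hBne : BG ≠ ⊥ := fun e => h (by rw [e, inf_bot_eq])
  have hzF : (⟨z, (hmC z).mpr rfl⟩ : C) ∈ B' := by
    have hB'ne : B' ≠ ⊥ := fun e => hBne (by rw [hBG, e, Subgroup.map_bot])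
    have hB'p : IsPGroup 2 ↥B' := hB2.map _
    have hFp : IsPGroup 2 ↥F := hQ.1
    haveI : Nontrivial B' := (Subgroup.nontrivial_iff_ne_bot _).2 hB'ne
    -- F contains z as the only involution of its centre
    set zC : C := ⟨z, (hmC z).mpr rfl⟩ with hzC
    have hzc : zC ∈ Subgroup.center ↥C := Subgroup.mem_center_iff.mpr fun c =>
      Subtype.ext ((hmC c).mp c.2)
    have hzF : zC ∈ F := hCF (Subgroup.mem_centralizer_iff.mpr fun c _ =>
      Subgroup.mem_center_iff.mp hzc c)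
    haveI hcz : IsCyclic ↥(Subgroup.center ↥F) := hQ.2 _ inferInstance inferInstance
    haveI : Group.IsNilpotent ↥F := hFp.isNilpotent
    haveI hBn : B.Normal := inferInstance
    have hBne' : B ≠ ⊥ := fun e => hB'ne (by rw [hB', e, Subgroup.map_bot])
    haveI : Nontrivial ↥B := (Subgroup.nontrivial_iff_ne_bot _).2 hBne'
    obtain ⟨n, hn, hcard⟩ := hB2.nontrivial_iff_card.1 inferInstance
    have hA : IsPGroup 2 (ConjAct ↥F) := hFp
    obtain ⟨c, hc, hc1⟩ := hA.exists_fixed_point_of_prime_dvd_card_of_fixed_point ↥B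
      (hcard ▸ dvd_pow_self 2 hn.ne') (a := (1 : B)) (fun t => smul_one t)
    have hcC : (c : F) ∈ Subgroup.center ↥F := Subgroup.mem_center_iff.mpr fun t => by
      have e := congrArg Subtype.val (hc (ConjAct.toConjAct t))
      change t * (c : F) * t⁻¹ = (c : F) at e
      exact mul_inv_eq_iff_eq_mul.mp e
    obtain ⟨d, hd⟩ : ∃ d ∈ Subgroup.center ↥F ⊓ B, orderOf d = 2 := by
      haveI : Nontrivial ↥(Subgroup.center ↥F ⊓ B) := (Subgroup.nontrivial_iff_ne_bot _).2 fun e => hc1 (by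
        have : (c : F) ∈ Subgroup.center ↥F ⊓ B := ⟨hcC, c.2⟩
        rw [e, Subgroup.mem_bot] at this
        exact (Subtype.ext this).symm)
      obtain ⟨n, hn, hcard⟩ := (hFp.to_subgroup (Subgroup.center ↥F ⊓ B)).nontrivial_iff_card.1 inferInstance
      obtain ⟨x, hx⟩ := exists_prime_orderOf_dvd_card' 2 (G := ↥(Subgroup.center ↥F ⊓ B)) (hcard ▸ dvd_pow_self 2 hn.ne')
      exact ⟨x, x.2, by rw [Subgroup.orderOf_coe]; exact hx⟩
    have hzo : orderOf (⟨zC, hzF⟩ : F) = 2 := by rw [Subgroup.orderOf_mk, Subgroup.orderOf_mk, hz]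
    haveI := Fintype.ofFinite ↥(Subgroup.center ↥F)
    have hzFc : (⟨zC, hzF⟩ : F) ∈ Subgroup.center ↥F := Subgroup.mem_center_iff.mpr fun c =>
      Subtype.ext (Subgroup.mem_center_iff.mp hzc c)
    set dd : ↥(Subgroup.center ↥F) := ⟨d, hd.1.1⟩
    set zz : ↥(Subgroup.center ↥F) := ⟨_, hzFc⟩
    have hd' : orderOf dd = 2 := by rw [Subgroup.orderOf_mk, hd.2]
    have hz' : orderOf zz = 2 := by rw [Subgroup.orderOf_mk, hzo]
    have := IsCyclic.card_orderOf_eq_totient (α := ↥(Subgroup.center ↥F)) (hz' ▸ orderOf_dvd_card)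
    obtain ⟨w, hw⟩ := Finset.card_eq_one.mp (this.trans (by decide))
    have h1 : dd = w := Finset.mem_singleton.mp (hw ▸ Finset.mem_filter.mpr ⟨Finset.mem_univ _, hd'⟩)
    have h2 : zz = w := Finset.mem_singleton.mp (hw ▸ Finset.mem_filter.mpr ⟨Finset.mem_univ _, hz'⟩)
    have e : d = ⟨zC, hzF⟩ := congrArg Subtype.val (h1.trans h2.symm)
    exact ⟨d, hd.1.2, congrArg Subtype.val e⟩
  have hzB : z ∈ BG := ⟨_, hzF, rfl⟩
  have hxz : x = z := huniq x hxB z hzB hox hz
  have hoy : orderOf y = 2 := by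
    rw [← orderOf_injective (MulAut.conj g).toMonoidHom (MulAut.conj g).injective, hyx, hox]
  have hyz : y = z := huniq y hy z hzB hoy hz
  have hgz : g * z * g⁻¹ = z := by rw [hxz, hyz] at hyx; simpa using hyx
  have hgC : g ∈ C := (hmC g).mpr (mul_inv_eq_iff_eq_mul.mp hgz)
  refine Subgroup.eq_of_le_of_card_ge ?_ (le_of_eq (Nat.card_congr (BG.equivMapOfInjective _ (MulAut.conj g).injective).toEquiv))
  rintro _ ⟨_, ⟨b, hb, rfl⟩, rfl⟩
  exact ⟨⟨g, hgC⟩ * b * ⟨g, hgC⟩⁻¹, hB'n.conj_mem b hb _, rfl⟩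

end Cfsg.Agent.S1755

namespace Cfsg.Agent.S1755

/-- Let G be a finite group and let z be an involution of G such that Q, the generalized Fitting subgroup of the centralizer C of z, is a 2-group of symplectic type (every characteristic abelian subgroup of Q is cyclic). Let B be a characteristic abelian subgroup of Q, viewed as a subgroup of G. Then for every g in G, the conjugate of B by g either equals B or meets B trivially. -/
theorem result {G : Type*} [Group G] [Finite G] (z : G) (hz : orderOf z = 2) (hQ : Cfsg.IsOfSymplecticType ↥(Cfsg.generalizedFittingSubgroup ↥(Subgroup.centralizer ({z} : Set G))))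
    (B : Subgroup ↥(Cfsg.generalizedFittingSubgroup ↥(Subgroup.centralizer ({z} : Set G)))) (hBc : B.Characteristic) (hBa : IsMulCommutative ↥B) (g : G) :
    ((B.map (Cfsg.generalizedFittingSubgroup ↥(Subgroup.centralizer ({z} : Set G))).subtype).map (Subgroup.centralizer ({z} : Set G)).subtype).map (MulAut.conj g).toMonoidHom =
        (B.map (Cfsg.generalizedFittingSubgroup ↥(Subgroup.centralizer ({z} : Set G))).subtype).map (Subgroup.centralizer ({z} : Set G)).subtype ∨
      ((B.map (Cfsg.generalizedFittingSubgroup ↥(Subgroup.centralizer ({z} : Set G))).subtype).map (Subgroup.centralizer ({z} : Set G)).subtype).map (MulAut.conj g).toMonoidHom ⊓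
        (B.map (Cfsg.generalizedFittingSubgroup ↥(Subgroup.centralizer ({z} : Set G))).subtype).map (Subgroup.centralizer ({z} : Set G)).subtype = ⊥ := by
  haveI := CfsgLib.Inv.genFitting_normal (G := ↥(Subgroup.centralizer ({z} : Set G)))
  exact aux z hz _ rfl _ CfsgLib.Inv.centralizer_genFitting_le hQ B hBc hBa g

end Cfsg.Agent.S1755
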