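import Cfsg.Statements.S1756
import Cfsg.Agent.Solv.Basic
-- import your own Cfsg.Agent.* helpers here

set_option autoImplicit false
open Cfsg

namespace Cfsg.Agent.S1756

/-- Let Q be an extraspecial 2-subgroup of the finite group G (special with centre of order 2) and t an involution of G normalizing Q such that the centralizer of t in Q has index at most 2 in Q. Then t lies in the product of Q with the centralizer of Q. -/
theorem result {G : Type*} [Group G] [Finite G] (Q : Subgroup G)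
    (hQ : Cfsg.IsExtraspecial 2 ↥Q) (t : G) (ht : orderOf t = 2) (htN : t ∈ Subgroup.normalizer (Q : Set G))
    (hi : (Subgroup.centralizer ({t} : Set G) ⊓ Q).relIndex Q ≤ 2) :
    t ∈ Q ⊔ Subgroup.centralizer (Q : Set G) := by
  classical
  obtain ⟨⟨hQp, -, hcomm⟩, hZ⟩ := hQ
  set Z := (Subgroup.center ↥Q).map Q.subtype with hZdef
  have hZc : Nat.card ↥Z = 2 := by
    rw [hZdef, Subgroup.card_map_of_injective Q.subtype_injective, hZ]
  have hZmem : ∀ w ∈ Z, ∀ y ∈ Q, w * y = y * w := by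
    rintro _ ⟨w, hw, rfl⟩ y hy
    exact congrArg Subtype.val (Subgroup.mem_center_iff.mp hw ⟨y, hy⟩).symm
  have hcommZ : ∀ u ∈ Q, ∀ v ∈ Q, u * v * u⁻¹ * v⁻¹ ∈ Z := by
    intro u hu v hv
    refine ⟨⟨u * v * u⁻¹ * v⁻¹, by exact Q.mul_mem (Q.mul_mem (Q.mul_mem hu hv) (Q.inv_mem hu)) (Q.inv_mem hv)⟩, ?_, rfl⟩
    rw [← hcomm, commutator_def]
    exact Subgroup.commutator_mem_commutator (g₁ := (⟨u, hu⟩ : ↥Q)) (g₂ := (⟨v, hv⟩ : ↥Q)) trivial trivial
  obtain ⟨z, hzZ, hz1⟩ : ∃ z ∈ Z, z ≠ 1 := by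
    have hne : Z ≠ ⊥ := fun h => by rw [h, Subgroup.card_bot] at hZc; norm_num at hZc
    obtain ⟨⟨w, hw⟩, hw1⟩ := Subgroup.ne_bot_iff_exists_ne_one.mp hne
    exact ⟨w, hw, fun e => hw1 (Subtype.ext e)⟩
  have hZ2 : ∀ w ∈ Z, w = 1 ∨ w = z := by
    intro w hw
    obtain ⟨w0, hw0⟩ := Nat.card_eq_two_iff' (1 : ↥Z) |>.mp hZc
    by_cases h : w = 1
    · exact Or.inl h
    · right
      have e1 := hw0.2 ⟨w, hw⟩ (fun e => h (congrArg Subtype.val e))
      have e2 := hw0.2 ⟨z, hzZ⟩ (fun e => hz1 (congrArg Subtype.val e))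
      exact congrArg Subtype.val (e1.trans e2.symm)
  set C := Subgroup.centralizer ({t} : Set G) ⊓ Q with hCdef
  have hCt : ∀ c ∈ C, t * c = c * t := fun c hc => (Subgroup.mem_centralizer_singleton_iff.mp hc.1).symm
  by_cases hfull : Q ≤ Subgroup.centralizer ({t} : Set G)
  · refine Subgroup.mem_sup_right (Subgroup.mem_centralizer_iff.mpr fun q hq => ?_)
    exact Subgroup.mem_centralizer_singleton_iff.mp (hfull hq)
  obtain ⟨y, hyQ, hy⟩ := SetLike.not_le_iff_exists.mp hfull
  have hyC : y ∉ C := fun h => hy h.1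
  have hidx : (C.subgroupOf Q).index = 2 := by
    rcases Nat.lt_or_ge (C.relIndex Q) 2 with h | h
    · exfalso
      have h1 : C.relIndex Q = 1 := by
        have : C.relIndex Q ≠ 0 := Subgroup.index_ne_zero_of_finite
        omega
      exact hyC (Subgroup.relIndex_eq_one.mp h1 hyQ)
    · exact le_antisymm hi h
  have hmul : ∀ q ∈ Q, q ∉ C → y * q ∈ C := by
    intro q hq hqC
    have := (Subgroup.mul_mem_iff_of_index_two hidx (a := ⟨y, hyQ⟩) (b := ⟨q, hq⟩)).mpr
      (by simp [Subgroup.mem_subgroupOf, hyC, hqC])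
    exact this
  have htq : ∀ q ∈ Q, t * q * t⁻¹ ∈ Q := fun q hq => (Subgroup.mem_normalizer_iff.mp htN q).mp hq
  set e := y⁻¹ * (t * y * t⁻¹) with he
  have heQ : e ∈ Q := Q.mul_mem (Q.inv_mem hyQ) (htq y hyQ)
  have hyc : ∀ c ∈ C, y * c * y⁻¹ ∈ C := by
    intro c hc
    haveI := Subgroup.normal_of_index_eq_two hidx
    exact Subgroup.Normal.conj_mem (H := C.subgroupOf Q) inferInstance ⟨c, hc.2⟩ hc ⟨y, hyQ⟩
  have hec : ∀ c ∈ C, e * c = c * e := by
    intro c hc
    have h1 := hCt _ (hyc c hc)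
    have h2 : t * c * t⁻¹ = c := by rw [hCt c hc, mul_inv_cancel_right]
    have h3 : t * (y * c * y⁻¹) * t⁻¹ = y * c * y⁻¹ := by rw [h1, mul_inv_cancel_right]
    calc e * c = y⁻¹ * ((t * (y * c * y⁻¹) * t⁻¹) * (t * y * t⁻¹)) := by
          rw [he]; nth_rewrite 1 [← h2]; group
      _ = y⁻¹ * ((y * c * y⁻¹) * (t * y * t⁻¹)) := by rw [h3]
      _ = c * e := by rw [he]; group
  have ht2 : t * t = 1 := by rw [← sq, ← ht, pow_orderOf_eq_one]
  have hte : t * e * t⁻¹ = e⁻¹ := by
    have htinv : t⁻¹ = t := inv_eq_of_mul_eq_one_right ht2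
    rw [he, htinv]
    calc t * (y⁻¹ * (t * y * t)) * t = t * y⁻¹ * t * y * (t * t) := by simp [mul_assoc]
      _ = (y⁻¹ * (t * y * t⁻¹))⁻¹ := by rw [ht2, htinv]; simp [mul_assoc, htinv]
      _ = _ := by rw [htinv]
  have hcentral : ∀ w ∈ Q, (∀ c ∈ C, w * c = c * w) → w * y = y * w → w ∈ Z := by
    intro w hw h1 h2
    refine ⟨⟨w, hw⟩, Subgroup.mem_center_iff.mpr fun q => Subtype.ext ?_, rfl⟩
    show (q : G) * w = w * q
    by_cases hq : (q : G) ∈ C
    · exact (h1 _ hq).symm
    · have h3 := h1 _ (hmul q q.2 hq)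
      have h4 : y * (w * q) = y * (q * w) := by rw [← mul_assoc, ← h2, mul_assoc, h3, mul_assoc]
      exact (mul_left_cancel h4).symm
  have heZ : e ∈ Z := by
    by_contra heZ
    have hey : e * y ≠ y * e := fun h => heZ (hcentral e heQ hec h)
    by_cases heC : e ∈ C
    · have h2 : e * e = 1 := by
        have := hCt e heC
        rw [this, mul_inv_cancel_right] at hte
        exact mul_eq_one_iff_eq_inv.mpr hte
      -- `t y t⁻¹ = y e`, and squaring gives `e² = [y, e]`
      have hty : t * y * t⁻¹ = y * e := by rw [he]; simp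
      have hy2 : y * y ∈ C := Subgroup.mul_self_mem_of_index_two hidx ⟨y, hyQ⟩
      have h5 : y * e * (y * e) = y * y := by
        rw [← hty]
        calc t * y * t⁻¹ * (t * y * t⁻¹) = t * (y * y) * t⁻¹ := by group
          _ = y * y := by rw [hCt _ hy2, mul_inv_cancel_right]
      have h6 : e * y * e = y := by
        have : y * (e * y * e) = y * y := by simpa [mul_assoc] using h5
        exact mul_left_cancel this
      refine hey ?_
      calc e * y = e * y * (e * e) := by rw [h2, mul_one]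
        _ = y * e := by rw [← mul_assoc, h6]
    · refine hey ?_
      have h3 := hmul e heQ heC
      have h4 := hec _ h3
      have h5 : e * y * e = y * e * e := by simpa [mul_assoc] using h4
      exact mul_right_cancel h5
  rcases hZ2 e heZ with he1 | he1
  · exact absurd (Subgroup.mem_centralizer_singleton_iff.mpr (by
      have : t * y * t⁻¹ = y := by rw [show t * y * t⁻¹ = y * e by rw [he]; simp, he1, mul_one]
      exact (mul_inv_eq_iff_eq_mul.mp this).symm)) hy
  -- an element of `Q` centralizing `C` but not `y`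
  let cen : Subgroup G → Subgroup G := fun H => Q ⊓ Subgroup.centralizer (H : Set G)
  obtain ⟨H, hH⟩ := (Set.toFinite {H : Subgroup G | Z ≤ H ∧ H ≤ C ∧
      Nat.card ↥Q * 2 ≤ Nat.card ↥(cen H) * Nat.card ↥H}).exists_maximal ⟨Z, le_rfl, by
    intro w hw
    refine ⟨?_, by obtain ⟨w', -, rfl⟩ := hw; exact w'.2⟩
    show w ∈ Subgroup.centralizer ({t} : Set G)
    rw [Subgroup.mem_centralizer_singleton_iff]
    obtain ⟨w', hw', rfl⟩ := hw
    rcases hZ2 _ ⟨w', hw', rfl⟩ with h | h
    · rw [h]; simp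
    · -- the involution of `Z` is fixed by `t`
      have h7 : t * (w' : G) * t⁻¹ ∈ Z := by
        refine ⟨⟨_, htq _ w'.2⟩, Subgroup.mem_center_iff.mpr fun q => Subtype.ext ?_, rfl⟩
        show (q : G) * (t * (w' : G) * t⁻¹) = t * (w' : G) * t⁻¹ * q
        have hq' : t⁻¹ * (q : G) * t ∈ Q := (Subgroup.mem_normalizer_iff.mp htN _).mpr (by simpa [mul_assoc] using q.2)
        have := hZmem _ ⟨w', hw', rfl⟩ _ hq'
        calc (q : G) * (t * (w' : G) * t⁻¹) = t * ((t⁻¹ * q * t) * w') * t⁻¹ := by group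
          _ = t * (w' * (t⁻¹ * q * t)) * t⁻¹ := by rw [show ((w' : G)) * (t⁻¹ * q * t) = (t⁻¹ * q * t) * w' from this]
          _ = _ := by group
      rcases hZ2 _ h7 with h8 | h8
      · exact absurd (by simpa using h8 : (w' : G) = 1) (by rw [show ((w' : G)) = z from h]; exact hz1)
      · exact (mul_inv_eq_iff_eq_mul.mp (h8.trans h.symm)).symm, by
      rw [hZc]
      refine Nat.mul_le_mul_right _ (Subgroup.card_le_of_le ?_)
      exact le_inf le_rfl fun q hq => Subgroup.mem_centralizer_iff.mpr fun w hw => hZmem w hw q hq⟩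
  obtain ⟨hZH, hHC, hHcard⟩ := hH.1
  have hHeq : H = C := by
    by_contra hne
    obtain ⟨c, hcC, hcH⟩ := SetLike.exists_of_lt (lt_of_le_of_ne hHC hne)
    set H' := H ⊔ Subgroup.zpowers c with hH'
    have h2H : Nat.card ↥H * 2 ≤ Nat.card ↥H' := by
      have hle : H ≤ H' := le_sup_left
      have h := CfsgLib.Solv.relIndex_mul_card hle
      have h1 : H.relIndex H' ≠ 1 := fun h1 => hcH (Subgroup.relIndex_eq_one.mp h1 (Subgroup.mem_sup_right (Subgroup.mem_zpowers c)))
      have h0 : H.relIndex H' ≠ 0 := Subgroup.index_ne_zero_of_finite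
      rw [← h]
      exact Nat.mul_le_mul_left _ (by omega)
    have hcen : Nat.card ↥(cen H) ≤ 2 * Nat.card ↥(cen H') := by
      have hsub : cen H ⊓ Subgroup.centralizer ({c} : Set G) ≤ cen H' := by
        rintro w ⟨⟨hwQ, hwH⟩, hwc⟩
        refine ⟨hwQ, ?_⟩
        show w ∈ Subgroup.centralizer (H' : Set G)
        rw [hH', Subgroup.sup_eq_closure, Subgroup.centralizer_closure, Subgroup.mem_centralizer_iff]
        rintro h (hh | hh)
        · exact Subgroup.mem_centralizer_iff.mp hwH h hh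
        · obtain ⟨i, rfl⟩ := Subgroup.mem_zpowers_iff.mp hh
          exact (Commute.zpow_left (show Commute c w from (Subgroup.mem_centralizer_singleton_iff.mp hwc).symm) i).eq
      have hinj : Nat.card ↥(cen H) ≤ Nat.card (↥(cen H ⊓ Subgroup.centralizer ({c} : Set G)) × Bool) := by
        by_cases hall : cen H ≤ Subgroup.centralizer ({c} : Set G)
        · rw [inf_eq_left.mpr hall, Nat.card_prod]
          exact Nat.le_mul_of_pos_right _ Nat.card_pos
        obtain ⟨w₀, hw₀, hw₀c⟩ := SetLike.not_le_iff_exists.mp hall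
        have hflip : ∀ w ∈ cen H, w ∉ Subgroup.centralizer ({c} : Set G) →
            w * c * w⁻¹ * c⁻¹ = z := by
          intro w hw hwc
          rcases hZ2 _ (hcommZ w hw.1 c hcC.2) with h | h
          · exact absurd (Subgroup.mem_centralizer_singleton_iff.mpr
              (mul_inv_eq_iff_eq_mul.mp (mul_inv_eq_one.mp h))) hwc
          · exact h
        have hprod : ∀ w ∈ cen H, w ∉ Subgroup.centralizer ({c} : Set G) →
            w₀⁻¹ * w ∈ cen H ⊓ Subgroup.centralizer ({c} : Set G) := by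
          intro w hw hwc
          refine ⟨(cen H).mul_mem ((cen H).inv_mem hw₀) hw, ?_⟩
          show w₀⁻¹ * w ∈ Subgroup.centralizer ({c} : Set G)
          rw [Subgroup.mem_centralizer_singleton_iff]
          have e1 : w * c * w⁻¹ = w₀ * c * w₀⁻¹ := by
            have := (hflip w hw hwc).trans (hflip w₀ hw₀ hw₀c).symm
            exact mul_right_cancel this
          calc w₀⁻¹ * w * c = w₀⁻¹ * (w * c * w⁻¹) * w := by group
            _ = w₀⁻¹ * (w₀ * c * w₀⁻¹) * w := by rw [e1]
            _ = _ := by group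
        refine Nat.card_le_card_of_injective
          (fun w => if hwc : (w : G) ∈ Subgroup.centralizer ({c} : Set G) then
              (⟨w, ⟨w.2, hwc⟩⟩, true) else (⟨w₀⁻¹ * w, hprod w w.2 hwc⟩, false)) ?_
        intro a b hab
        simp only at hab
        split_ifs at hab with h1 h2 h2
        · exact Subtype.ext (congrArg (fun q => (q.1 : G)) hab)
        · simp at hab
        · simp at hab
        · exact Subtype.ext (mul_left_cancel (congrArg (fun q => (q.1 : G)) hab))
      rw [Nat.card_prod, Nat.card_eq_fintype_card (α := Bool), Fintype.card_bool, mul_comm] at hinj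
      exact hinj.trans (Nat.mul_le_mul_left _ (Subgroup.card_le_of_le hsub))
    have := hH.2 (show H' ∈ _ from ⟨hZH.trans le_sup_left, sup_le hHC (Subgroup.zpowers_le.mpr hcC), by
      calc Nat.card ↥Q * 2 ≤ Nat.card ↥(cen H) * Nat.card ↥H := hHcard
        _ ≤ 2 * Nat.card ↥(cen H') * Nat.card ↥H := Nat.mul_le_mul_right _ hcen
        _ = Nat.card ↥(cen H') * (Nat.card ↥H * 2) := by ring
        _ ≤ _ := Nat.mul_le_mul_left _ h2H⟩) le_sup_left
    exact hcH (this (Subgroup.mem_sup_right (Subgroup.mem_zpowers c)))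
  subst hHeq
  obtain ⟨u, huK, huy⟩ : ∃ u ∈ cen C, u * y ≠ y * u := by
    by_contra hall
    push_neg at hall
    have hle : cen C ≤ Z := fun u hu => hcentral u hu.1
      (fun c hc => (Subgroup.mem_centralizer_iff.mp hu.2 c hc).symm) (hall u hu)
    have h1 := Subgroup.card_le_of_le hle
    rw [hZc] at h1
    have h2 : Nat.card ↥C * 2 = Nat.card ↥Q := by
      rw [← CfsgLib.Solv.relIndex_mul_card (inf_le_right : C ≤ Q)]
      exact congrArg _ hidx.symm
    nlinarith [hHcard, (Nat.card_pos : 0 < Nat.card ↥C)]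
  have huz : y⁻¹ * u * y * u⁻¹ = z := by
    rcases hZ2 _ (show y⁻¹ * u * y * u⁻¹ ∈ Z by simpa using hcommZ y⁻¹ (Q.inv_mem hyQ) u huK.1) with h | h
    · exfalso
      refine huy ?_
      have := mul_inv_eq_one.mp h
      calc u * y = y * (y⁻¹ * u * y) := by group
        _ = y * u := by rw [this]
    · exact h
  have hfin : u⁻¹ * t ∈ Subgroup.centralizer (Q : Set G) := by
    rw [Subgroup.mem_centralizer_iff]
    intro q hq
    have hC' : ∀ c ∈ C, c * (u⁻¹ * t) = u⁻¹ * t * c := by
      intro c hc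
      have hcu : c * u⁻¹ = u⁻¹ * c := (Commute.inv_right (show Commute c u from Subgroup.mem_centralizer_iff.mp huK.2 c hc)).eq
      rw [← mul_assoc, hcu, mul_assoc, ← hCt c hc, mul_assoc]
    have hy' : y * (u⁻¹ * t) = u⁻¹ * t * y := by
      have h1 : t * y = y * z * t := by
        rw [← he1, he]; simp [mul_assoc]
      rw [mul_assoc u⁻¹, h1, ← huz]
      group
    by_cases hqC : q ∈ C
    · exact hC' q hqC
    · have h3 := hC' _ (hmul q hq hqC)
      have h4 : y * (q * (u⁻¹ * t)) = y * (u⁻¹ * t * q) := by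
        calc y * (q * (u⁻¹ * t)) = y * q * (u⁻¹ * t) := (mul_assoc _ _ _).symm
          _ = u⁻¹ * t * (y * q) := h3
          _ = u⁻¹ * t * y * q := (mul_assoc _ _ _).symm
          _ = _ := by rw [← hy', mul_assoc]
      exact mul_left_cancel h4
  rw [show t = u * (u⁻¹ * t) by simp]
  exact Subgroup.mul_mem_sup huK.1 hfin

end Cfsg.Agent.S1756
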