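import Cfsg.Statements.S1757
import Cfsg.Agent.Solv.CoprimeAction
-- import your own Cfsg.Agent.* helpers here

set_option autoImplicit false
open Cfsg

namespace Cfsg.Agent.S1757

/-- Let p be a prime and A, B p-subgroups of the finite group G, each of which meets every conjugate of itself other than itself trivially. Suppose the order of A is at most that of B, A and B intersect trivially, and B normalizes A. Then A and B commute elementwise. -/
theorem result {G : Type*} [Group G] [Finite G] (p : ℕ) [Fact p.Prime] (A B : Subgroup G)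
    (hA : IsPGroup p ↥A) (hB : IsPGroup p ↥B)
    (hAti : ∀ g : G, A.map (MulAut.conj g).toMonoidHom = A ∨ A.map (MulAut.conj g).toMonoidHom ⊓ A = ⊥)
    (hBti : ∀ g : G, B.map (MulAut.conj g).toMonoidHom = B ∨ B.map (MulAut.conj g).toMonoidHom ⊓ B = ⊥)
    (hle : Nat.card ↥A ≤ Nat.card ↥B) (hAB : A ⊓ B = ⊥) (hN : B ≤ Subgroup.normalizer (A : Set G)) : ⁅A, B⁆ = ⊥ := by
  classical
  set C := A ⊓ Subgroup.normalizer (B : Set G) with hCdef
  have hcomm : ∀ c ∈ C, ∀ b ∈ B, c * b = b * c := by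
    intro c hc b hb
    have h1 : b * c⁻¹ * b⁻¹ ∈ A := (Subgroup.mem_normalizer_iff.mp (hN hb) _).mp (A.inv_mem hc.1)
    have h2 : c * b * c⁻¹ ∈ B := (Subgroup.mem_normalizer_iff.mp hc.2 _).mp hb
    have h3 : c * b * c⁻¹ * b⁻¹ ∈ A ⊓ B :=
      ⟨by simpa [mul_assoc] using A.mul_mem hc.1 h1, B.mul_mem h2 (B.inv_mem hb)⟩
    rw [hAB, Subgroup.mem_bot] at h3
    exact mul_inv_eq_iff_eq_mul.mp (mul_inv_eq_one.mp h3)
  by_cases hCA : C = A
  · rw [Subgroup.commutator_eq_bot_iff_le_centralizer]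
    intro a ha
    rw [Subgroup.mem_centralizer_iff]
    exact fun b hb => (hcomm a (hCA ▸ ha) b hb).symm
  exfalso
  have hCltA : C < A := lt_of_le_of_ne inf_le_left hCA
  have hCB : C ≤ Subgroup.normalizer (B : Set G) := inf_le_right
  set P := A ⊔ B with hPdef
  have hP : IsPGroup p ↥P := IsPGroup.to_sup_of_normal_left' hA hB hN
  set D := C ⊔ B with hDdef
  have hDP : D ≤ P := sup_le (hCltA.le.trans le_sup_left) le_sup_right
  have hDmem : ∀ d ∈ D, ∃ b ∈ B, ∃ c ∈ C, d = b * c := fun d hd =>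
    CfsgLib.Solv.exists_mul_of_mem_sup hCB hd
  have hDne : D.subgroupOf P ≠ ⊤ := by
    intro h
    obtain ⟨a, ha, haC⟩ := SetLike.exists_of_lt hCltA
    obtain ⟨b, hb, c, hc, rfl⟩ := hDmem a (Subgroup.subgroupOf_eq_top.mp h (le_sup_left (b := B) ha))
    have hbA : b ∈ A := by simpa using A.mul_mem ha (A.inv_mem hc.1)
    have : b ∈ A ⊓ B := ⟨hbA, hb⟩
    rw [hAB, Subgroup.mem_bot] at this
    exact haC (by rw [this, one_mul]; exact hc)
  haveI : Group.IsNilpotent ↥P := hP.isNilpotent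
  have hgrow : D.subgroupOf P < Subgroup.normalizer ((D.subgroupOf P : Subgroup ↥P) : Set ↥P) :=
    Group.normalizerCondition_of_isNilpotent (D.subgroupOf P) (lt_top_iff_ne_top.mpr hDne)
  obtain ⟨⟨y, hyP⟩, hyN, hyD⟩ := SetLike.exists_of_lt hgrow
  obtain ⟨a, ha, b, hb, hyab⟩ := CfsgLib.Solv.exists_mul_of_mem_sup (X := B) (M := A) hN
    (by rw [sup_comm]; exact hyP)
  have haD : a ∉ D := by
    intro h
    apply hyD
    rw [Subgroup.mem_subgroupOf]
    show y ∈ D
    rw [hyab]; exact D.mul_mem h (le_sup_right (a := C) hb)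
  have hyN' : ∀ d ∈ D, y * d * y⁻¹ ∈ D := fun d hd =>
    (Subgroup.mem_normalizer_iff.mp hyN ⟨d, hDP hd⟩).mp hd
  have haN : ∀ d ∈ D, a * d * a⁻¹ ∈ D := by
    intro d hd
    have hb' : b ∈ D := le_sup_right (a := C) hb
    have := hyN' (b⁻¹ * d * b) (D.mul_mem (D.mul_mem (D.inv_mem hb') hd) hb')
    rw [hyab] at this
    simpa [mul_assoc] using this
  set B' := B.map (MulAut.conj a).toMonoidHom with hB'
  have hB'D : B' ≤ D := by
    rintro _ ⟨x, hx, rfl⟩
    exact haN x (le_sup_right (a := C) hx)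
  have hne : B' ≠ B := by
    intro h
    apply haD
    refine le_sup_left (b := B) (show a ∈ C from ⟨ha, ?_⟩)
    show a ∈ Subgroup.normalizer (B : Set G)
    rw [Subgroup.mem_normalizer_iff]
    intro x
    constructor
    · intro hx
      rw [← h]; exact ⟨x, hx, rfl⟩
    · intro hx
      rw [← h] at hx
      obtain ⟨z, hz, hze⟩ := hx
      have hz' : a * z * a⁻¹ = a * x * a⁻¹ := hze
      rwa [mul_left_cancel (mul_right_cancel hz')] at hz
  have hdisj : B' ⊓ B = ⊥ := (hBti a).resolve_left hne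
  have h1 : Nat.card ↥B' * Nat.card ↥B ≤ Nat.card ↥D := by
    rw [← Nat.card_prod]
    refine Nat.card_le_card_of_injective
      (fun q : ↥B' × ↥B => (⟨(q.1 : G) * q.2, D.mul_mem (hB'D q.1.2) (le_sup_right (a := C) q.2.2)⟩ : ↥D)) ?_
    rintro ⟨x, u⟩ ⟨x', u'⟩ h
    have h' : (x : G) * u = x' * u' := congrArg Subtype.val h
    have h3 : (x' : G)⁻¹ * x ∈ B' ⊓ B := ⟨B'.mul_mem (B'.inv_mem x'.2) x.2, by
      rw [show (x' : G)⁻¹ * x = u' * (u : G)⁻¹ by
        rw [eq_mul_inv_iff_mul_eq, mul_assoc, h', inv_mul_cancel_left]]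
      exact B.mul_mem u'.2 (B.inv_mem u.2)⟩
    rw [hdisj, Subgroup.mem_bot, inv_mul_eq_one] at h3
    refine Prod.ext (Subtype.ext h3.symm) (Subtype.ext ?_)
    rw [h3] at h'
    exact mul_left_cancel h'
  have h2 : Nat.card ↥D ≤ Nat.card ↥B * Nat.card ↥C := by
    rw [← Nat.card_prod]
    refine Nat.card_le_card_of_surjective
      (fun q : ↥B × ↥C => (⟨(q.1 : G) * q.2, D.mul_mem (le_sup_right (a := C) q.1.2) (le_sup_left (b := B) q.2.2)⟩ : ↥D)) ?_
    rintro ⟨d, hd⟩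
    obtain ⟨x, hx, c, hc, rfl⟩ := hDmem d hd
    exact ⟨(⟨x, hx⟩, ⟨c, hc⟩), rfl⟩
  have h3 : Nat.card ↥C < Nat.card ↥A := by
    by_contra hcon
    exact hCA (Subgroup.eq_of_le_of_card_ge hCltA.le (not_lt.mp hcon))
  have h4 : Nat.card ↥B' = Nat.card ↥B :=
    (Nat.card_congr (B.equivMapOfInjective _ (MulAut.conj a).injective).toEquiv).symm
  rw [h4] at h1
  have h5 : Nat.card ↥B ≤ Nat.card ↥C := Nat.le_of_mul_le_mul_left (h1.trans h2) Nat.card_pos
  omega

end Cfsg.Agent.S1757
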