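import Cfsg.Statements.S1774
import Cfsg.Agent.Fus.SymplecticFour

set_option autoImplicit false
open Cfsg

namespace Cfsg.Agent.S1774

/-- Let G be a finite group and let z be an involution of G such that Q, the generalized Fitting subgroup of the centralizer C of z, is a 2-group of symplectic type (every characteristic abelian subgroup of Q is cyclic); suppose every element of Q has order dividing 4. Let g ∈ G with z' = g z g⁻¹ ≠ z and z' ∈ Q. Then z lies in the conjugate g Q g⁻¹, and the subgroup X generated by Q and g Q g⁻¹ induces every automorphism of the four-group generated by z and z': for any two distinct non-identity elements u, v of that four-group there is x ∈ X with x z x⁻¹ = u and x z' x⁻¹ = v. -/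
theorem result {G : Type*} [Group G] [Finite G] (z : G) (hz : orderOf z = 2) (hQ : Cfsg.IsOfSymplecticType ↥(Cfsg.generalizedFittingSubgroup ↥(Subgroup.centralizer ({z} : Set G))))
    (h4 : ∀ q ∈ (Cfsg.generalizedFittingSubgroup ↥(Subgroup.centralizer ({z} : Set G))).map (Subgroup.centralizer ({z} : Set G)).subtype, q ^ 4 = 1) (g : G) (hne : g * z * g⁻¹ ≠ z) (hin : g * z * g⁻¹ ∈ (Cfsg.generalizedFittingSubgroup ↥(Subgroup.centralizer ({z} : Set G))).map (Subgroup.centralizer ({z} : Set G)).subtype) :
    z ∈ ((Cfsg.generalizedFittingSubgroup ↥(Subgroup.centralizer ({z} : Set G))).map (Subgroup.centralizer ({z} : Set G)).subtype).map (MulAut.conj g).toMonoidHom ∧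
      ∀ u ∈ Subgroup.closure ({z, g * z * g⁻¹} : Set G), ∀ v ∈ Subgroup.closure ({z, g * z * g⁻¹} : Set G),
        u ≠ 1 → v ≠ 1 → u ≠ v →
          ∃ x ∈ (Cfsg.generalizedFittingSubgroup ↥(Subgroup.centralizer ({z} : Set G))).map (Subgroup.centralizer ({z} : Set G)).subtype ⊔ ((Cfsg.generalizedFittingSubgroup ↥(Subgroup.centralizer ({z} : Set G))).map (Subgroup.centralizer ({z} : Set G)).subtype).map (MulAut.conj g).toMonoidHom, x * z * x⁻¹ = u ∧ x * (g * z * g⁻¹) * x⁻¹ = v := by
  set C := Subgroup.centralizer ({z} : Set G) with hC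
  set F := Cfsg.generalizedFittingSubgroup ↥C with hF
  haveI hFn : F.Normal := CfsgLib.Inv.genFitting_normal
  let e : ↥F ≃* ↥(F.map C.subtype) := F.equivMapOfInjective C.subtype C.subtype_injective
  refine CfsgLib.Fus.SymplecticFour.symmetric (C := C) ⟨fun x => Subgroup.mem_centralizer_singleton_iff,
    Subgroup.map_subtype_le _, ?_, ?_, hQ.1.map _, ?_, h4, hz⟩ hne hin
  · rintro c hc _ ⟨q, hq, rfl⟩
    exact ⟨⟨c, hc⟩ * q * ⟨c, hc⟩⁻¹, hFn.conj_mem q hq _, rfl⟩
  · intro c hc hcQ
    exact ⟨⟨c, hc⟩, CfsgLib.Inv.centralizer_genFitting_le (Subgroup.mem_centralizer_iff.2 fun f hf =>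
      Subtype.ext (hcQ f ⟨f, hf, rfl⟩).symm), rfl⟩
  · intro A hA hAa
    haveI := hA
    haveI := hAa
    have hA' : (A.map e.symm.toMonoidHom).Characteristic := by
      rw [Subgroup.characteristic_iff_map_le]
      intro φ
      rintro _ ⟨_, ⟨a, ha, rfl⟩, rfl⟩
      have := (Subgroup.characteristic_iff_map_le.1 hA ((e.symm.trans φ).trans e)) ⟨a, ha, rfl⟩
      exact ⟨_, this, by simp⟩
    have hAa' : IsMulCommutative (A.map e.symm.toMonoidHom : Subgroup F) := ⟨⟨fun u v => by
      obtain ⟨u', hu, hu'⟩ := u.2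
      obtain ⟨v', hv, hv'⟩ := v.2
      apply Subtype.ext
      show (u : F) * v = v * u
      rw [← hu', ← hv', ← map_mul, ← map_mul,
        show u' * v' = v' * u' from congrArg Subtype.val (hAa.is_comm.comm ⟨u', hu⟩ ⟨v', hv⟩)]⟩⟩
    haveI := hQ.2 _ hA' hAa'
    exact isCyclic_of_surjective (A.equivMapOfInjective e.symm.toMonoidHom e.symm.injective).symm.toMonoidHom
      (A.equivMapOfInjective e.symm.toMonoidHom e.symm.injective).symm.surjective

end Cfsg.Agent.S1774
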