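import Cfsg.Statements.S1781
import Cfsg.Agent.Fus.TwoAuto

set_option autoImplicit false
open Cfsg

namespace Cfsg.Agent.S1781

/-- Let A be an abelian 2-subgroup of the finite group G such that every conjugate of A equals A or meets A trivially, and let g ∈ G with g A g⁻¹ ≠ A. Then either the subgroup of those elements of A that normalize g A g⁻¹ is an elementary abelian 2-group, or A and g A g⁻¹ commute elementwise. -/
theorem result {G : Type*} [Group G] [Finite G] (A : Subgroup G)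
    (hA2 : IsPGroup 2 ↥A) (hAa : IsMulCommutative ↥A)
    (hti : ∀ h : G, A.map (MulAut.conj h).toMonoidHom = A ∨ A.map (MulAut.conj h).toMonoidHom ⊓ A = ⊥)
    (g : G) (hg : A.map (MulAut.conj g).toMonoidHom ≠ A) :
    Cfsg.IsElementaryAbelian 2 (A ⊓ Subgroup.normalizer ((A.map (MulAut.conj g).toMonoidHom : Subgroup G) : Set G)) ∨
      ⁅A, A.map (MulAut.conj g).toMonoidHom⁆ = ⊥ := by
  classical
  set B := A.map (MulAut.conj g).toMonoidHom with hBdef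
  by_cases helem : ∀ a ∈ A ⊓ Subgroup.normalizer (B : Set G), a ^ 2 = 1
  · left
    refine ⟨⟨⟨fun u v => Subtype.ext ?_⟩⟩, helem⟩
    have h := congrArg Subtype.val (hAa.is_comm.comm ⟨u, u.2.1⟩ ⟨v, v.2.1⟩)
    simpa using h
  right
  push Not at helem
  obtain ⟨a, haD, ha2⟩ := helem
  have hB2 : IsPGroup 2 ↥B := hA2.map _
  have hBa : IsMulCommutative ↥B := by
    refine ⟨⟨fun u v => Subtype.ext ?_⟩⟩
    obtain ⟨u', hu', hu⟩ := u.2
    obtain ⟨v', hv', hv⟩ := v.2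
    have h := congrArg Subtype.val (hAa.is_comm.comm ⟨u', hu'⟩ ⟨v', hv'⟩)
    simp only [Subgroup.coe_mul, ← hu, ← hv, ← map_mul] at h ⊢
    rw [h]
  -- TI property in both directions
  have hAB : A ⊓ B = ⊥ := by
    rcases hti g with h | h
    · exact absurd h hg
    · rwa [inf_comm]
  have hnA : ∀ u c : G, u ∈ A → u ≠ 1 → c * u * c⁻¹ ∈ A → ∀ x ∈ A, c * x * c⁻¹ ∈ A := by
    intro u c hu hu1 hcu x hx
    rcases hti c with h | h
    · rw [← h]; exact ⟨x, hx, rfl⟩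
    · exfalso
      have : c * u * c⁻¹ ∈ (⊥ : Subgroup G) := h ▸ ⟨⟨u, hu, rfl⟩, hcu⟩
      rw [Subgroup.mem_bot, mul_inv_eq_one, mul_eq_left] at this
      exact hu1 this
  have hmemB : ∀ u : G, u ∈ B ↔ g⁻¹ * u * g ∈ A := by
    intro u
    constructor
    · rintro ⟨v, hv, rfl⟩; simpa [mul_assoc] using hv
    · intro h; exact ⟨_, h, by simp [mul_assoc]⟩
  have hnB : ∀ u c : G, u ∈ B → u ≠ 1 → c * u * c⁻¹ ∈ B → ∀ x ∈ B, c * x * c⁻¹ ∈ B := by
    intro u c hu hu1 hcu x hx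
    rw [hmemB] at hu hcu hx ⊢
    have h := hnA (g⁻¹ * u * g) (g⁻¹ * c * g) hu (by
      intro h
      apply hu1
      calc u = g * (g⁻¹ * u * g) * g⁻¹ := by group
        _ = 1 := by rw [h]; group) (by simpa [mul_assoc] using hcu) _ hx
    simpa [mul_assoc] using h
  have hpw : ∀ (H : Subgroup G), IsPGroup 2 H → ∀ u ∈ H, ∃ k : ℕ, u ^ (2 ^ k) = 1 := fun H hH u hu => by
    obtain ⟨k, hk⟩ := hH ⟨u, hu⟩
    exact ⟨k, by simpa using congrArg Subtype.val hk⟩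
  have ha : a ∈ A := haD.1
  have haN : ∀ x ∈ B, a * x * a⁻¹ ∈ B := fun x hx => (Subgroup.mem_normalizer_iff.1 haD.2 x).1 hx
  -- elements of B normalizing A are centralized by every element of A normalizing B
  have comm_of : ∀ u v : G, u ∈ A → v ∈ B → (∀ x ∈ B, u * x * u⁻¹ ∈ B) → (∀ x ∈ A, v * x * v⁻¹ ∈ A) →
      u * v * u⁻¹ = v := by
    intro u v hu hv huB hvA
    have h1 : u * v * u⁻¹ * v⁻¹ ∈ A := by
      have := A.mul_mem hu (hvA _ (A.inv_mem hu))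
      simpa [mul_assoc] using this
    have h2 : u * v * u⁻¹ * v⁻¹ ∈ B := B.mul_mem (huB v hv) (B.inv_mem hv)
    have h3 : u * v * u⁻¹ * v⁻¹ ∈ A ⊓ B := ⟨h1, h2⟩
    rw [hAB, Subgroup.mem_bot, mul_inv_eq_one] at h3
    exact h3
  have ha1 : a ≠ 1 := fun h => ha2 (by rw [h, one_pow])
  obtain ⟨ka, hka⟩ := hpw A hA2 a ha
  have hcent : ∀ v ∈ B, a * v * a⁻¹ = v := by
    refine CfsgLib.Fus.centralizes_of_sq B hB2 hBa a haN ka hka ?_
    intro v hv hfix
    have hvA := hnA (a ^ 2) v (A.pow_mem ha 2) ha2 (by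
      rw [mul_inv_eq_iff_eq_mul] at hfix
      rw [mul_inv_eq_iff_eq_mul.2 hfix.symm]
      exact A.pow_mem ha 2)
    exact comm_of a v ha hv haN hvA
  have hBA : ∀ v ∈ B, ∀ x ∈ A, v * x * v⁻¹ ∈ A := fun v hv => hnA a v ha ha1 (by
    have h := hcent v hv
    rw [mul_inv_eq_iff_eq_mul] at h
    rw [mul_inv_eq_iff_eq_mul.2 h.symm]
    exact ha)
  obtain ⟨b, hb, hb2⟩ : ∃ b ∈ B, b ^ 2 ≠ 1 := ⟨g * a * g⁻¹, ⟨a, ha, rfl⟩, by
    rw [conj_pow, ne_eq, mul_inv_eq_one, mul_eq_left]; exact ha2⟩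
  obtain ⟨kb, hkb⟩ := hpw B hB2 b hb
  have hcent2 : ∀ u ∈ A, b * u * b⁻¹ = u := by
    refine CfsgLib.Fus.centralizes_of_sq A hA2 hAa b (hBA b hb) kb hkb ?_
    intro u hu hfix
    have huB := hnB (b ^ 2) u (B.pow_mem hb 2) hb2 (by
      rw [mul_inv_eq_iff_eq_mul] at hfix
      rw [mul_inv_eq_iff_eq_mul.2 hfix.symm]
      exact B.pow_mem hb 2)
    rw [mul_inv_eq_iff_eq_mul]
    exact (mul_inv_eq_iff_eq_mul.1 (comm_of u b hu hb huB (hBA b hb))).symm
  have hAB' : ∀ u ∈ A, ∀ x ∈ B, u * x * u⁻¹ ∈ B := fun u hu => hnB b u hb (fun h => hb2 (by rw [h, one_pow])) (by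
    have h := hcent2 u hu
    rw [mul_inv_eq_iff_eq_mul] at h
    rw [mul_inv_eq_iff_eq_mul.2 h.symm]
    exact hb)
  rw [eq_bot_iff, Subgroup.commutator_le]
  intro u hu v hv
  rw [Subgroup.mem_bot, commutatorElement_eq_one_iff_mul_comm, ← mul_inv_eq_iff_eq_mul]
  exact comm_of u v hu hv (hAB' u hu) (hBA v hv)

end Cfsg.Agent.S1781
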