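import Cfsg.Statements.S1783
import Cfsg.Agent.Base.TIFamily
import Cfsg.Agent.Inv.Component
import Cfsg.Agent.Solv.Ward
-- import your own Cfsg.Agent.* helpers here

set_option autoImplicit false
open Cfsg

namespace Cfsg.Agent.S1783

open CfsgLib.Base.TIFamily in
theorem ti_commute {X : Type*} [Group X] [Finite X] {S A : Subgroup X} (hS : IsPGroup 2 S) (hAS : A ≤ S)
    (hab : ∀ a ∈ A, ∀ b ∈ A, a * b = b * a) (hsq : ∃ a ∈ A, a * a ≠ 1)
    (P : X → Prop) (hP1 : P 1) (hPS : ∀ h, P h → ∀ a ∈ A, h * a * h⁻¹ ∈ S) (hPc : ∀ h, P h → ∀ s ∈ S, P (s * h))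
    (hti : ∀ h : X, cj h A = A ∨ cj h A ⊓ A = ⊥) :
    ∀ h g, P h → P g → ∀ a ∈ A, ∀ b ∈ A, (h * a * h⁻¹) * (g * b * g⁻¹) = (g * b * g⁻¹) * (h * a * h⁻¹) := by
  have hle : ∀ h, P h → cj h A ≤ S := fun h hh => by rintro _ ⟨a, ha, rfl⟩; exact hPS h hh a ha
  let Δ : Set (Subgroup S) := {R | ∃ h, P h ∧ R = (cj h A).subgroupOf S}
  have hmap : ∀ h, P h → ((cj h A).subgroupOf S).map S.subtype = cj h A := fun h hh =>
    Subgroup.map_subgroupOf_eq_of_le (hle h hh)
  have hcard : ∀ h, P h → Nat.card ↥((cj h A).subgroupOf S) = Nat.card A := fun h hh => by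
    rw [Nat.card_congr (Subgroup.subgroupOfEquivOfLe (hle h hh)).toEquiv]
    exact (Nat.card_congr (A.equivMapOfInjective _ (MulAut.conj h).injective).toEquiv).symm
  have key := commute_of_ti hS Δ
    (by
      rintro s _ ⟨h, hh, rfl⟩
      refine ⟨(s : X) * h, hPc h hh s s.2, ?_⟩
      ext x
      rw [mem_cj, Subgroup.mem_subgroupOf, Subgroup.mem_subgroupOf, mem_cj, mem_cj]
      simp [mul_assoc])
    (by
      rintro _ ⟨h, hh, rfl⟩ -
      obtain ⟨a, ha, ha2⟩ := hsq
      refine ⟨⟨h * a * h⁻¹, hPS h hh a ha⟩, Subgroup.mem_subgroupOf.mpr (conj_mem_cj ha), fun e => ha2 ?_⟩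
      have e' : h * a * h⁻¹ * (h * a * h⁻¹) = 1 := congrArg Subtype.val e
      have e'' : h * (a * a) * h⁻¹ = 1 := by rw [← e']; group
      exact conj_eq_one_iff.mp e'')
    (by rintro _ ⟨h, hh, rfl⟩ _ ⟨g, hg, rfl⟩; rw [hcard h hh, hcard g hg])
    (by
      rintro _ ⟨h, hh, rfl⟩ _ ⟨g, hg, rfl⟩
      rcases hti (g⁻¹ * h) with e | e
      · left
        congr 1
        have e1 := congrArg (fun R => cj g R) e
        rw [← e1]
        ext x
        simp [mem_cj, mul_assoc]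
      · right
        rw [Subgroup.eq_bot_iff_forall]
        rintro x ⟨hxh, hxg⟩
        have h2 : g⁻¹ * (x : X) * g ∈ cj (g⁻¹ * h) A ⊓ A := by
          refine ⟨mem_cj.mpr ?_, mem_cj.mp (Subgroup.mem_subgroupOf.mp hxg)⟩
          have := mem_cj.mp (Subgroup.mem_subgroupOf.mp hxh)
          simpa [mul_assoc] using this
        rw [e, Subgroup.mem_bot] at h2
        apply Subtype.ext
        have h3 : (x : X) = g * (g⁻¹ * (x : X) * g) * g⁻¹ := by group
        rw [Subgroup.coe_one, h3, h2]; group)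
  intro h g hh hg a ha b hb
  by_cases heq : (cj h A).subgroupOf S = (cj g A).subgroupOf S
  · have e := congrArg (Subgroup.map S.subtype) heq
    rw [hmap h hh, hmap g hg] at e
    obtain ⟨c, hc, hc'⟩ := (e ▸ conj_mem_cj hb : g * b * g⁻¹ ∈ cj h A)
    rw [← hc']
    show h * a * h⁻¹ * (h * c * h⁻¹) = h * c * h⁻¹ * (h * a * h⁻¹)
    calc h * a * h⁻¹ * (h * c * h⁻¹) = h * (a * c) * h⁻¹ := by group
      _ = h * (c * a) * h⁻¹ := by rw [hab a ha c hc]
      _ = _ := by group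
  · exact congrArg Subtype.val (key _ ⟨h, hh, rfl⟩ _ ⟨g, hg, rfl⟩ heq ⟨_, hPS h hh a ha⟩
      (Subgroup.mem_subgroupOf.mpr (conj_mem_cj ha)) ⟨_, hPS g hg b hb⟩ (Subgroup.mem_subgroupOf.mpr (conj_mem_cj hb)))

end Cfsg.Agent.S1783

namespace Cfsg.Agent.S1783

/-- Let X be a finite group whose generalized Fitting subgroup equals its largest normal 2-subgroup Q, and let A be an abelian 2-subgroup of X such that every conjugate of A equals A or meets A trivially. Let B be the subgroup generated by the squares of the elements of A. Then B lies in Q, and if B is not an elementary abelian 2-group then the normal closure of B in X is commutative. -/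
theorem result {X : Type*} [Group X] [Finite X]
    (hX : Cfsg.generalizedFittingSubgroup X = Cfsg.pCore 2 X) (A : Subgroup X) (hA2 : IsPGroup 2 ↥A) (hAa : IsMulCommutative ↥A)
    (hti : ∀ h : X, A.map (MulAut.conj h).toMonoidHom = A ∨ A.map (MulAut.conj h).toMonoidHom ⊓ A = ⊥) :
    Subgroup.closure ((fun a : X => a ^ 2) '' (A : Set X)) ≤ Cfsg.pCore 2 X ∧
      (¬ Cfsg.IsElementaryAbelian 2 (Subgroup.closure ((fun a : X => a ^ 2) '' (A : Set X))) →
        IsMulCommutative ↥(Subgroup.normalClosure ((fun a : X => a ^ 2) '' (A : Set X)))) := by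
  classical
  haveI : Fact (Nat.Prime 2) := ⟨Nat.prime_two⟩
  open CfsgLib.Base.TIFamily in
  set Q := Cfsg.pCore 2 X with hQ
  have hQp : IsPGroup 2 ↥Q := CfsgLib.Solv.pCore_isPGroup X 2
  haveI hQn : Q.Normal := inferInstance
  have hab : ∀ a ∈ A, ∀ b ∈ A, a * b = b * a := fun a ha b hb =>
    congrArg Subtype.val (hAa.is_comm.comm ⟨a, ha⟩ ⟨b, hb⟩)
  have hsqQ : ∀ a ∈ A, a * a ∈ Q := by
    intro a ha
    by_cases hel : ∀ b ∈ A, b * b = 1
    · rw [hel a ha]; exact Q.one_mem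
    push_neg at hel
    have hcomm := ti_commute (S := A ⊔ Q) (IsPGroup.to_sup_of_normal_right hA2 hQp) le_sup_left hab hel
      (fun h => h ∈ A ⊔ Q) (one_mem _) (fun h hh b hb => mul_mem (mul_mem hh (le_sup_left (b := Q) hb)) (inv_mem hh))
      (fun h hh s hs => mul_mem hs hh) hti
    set F := (frattini Q).map Q.subtype with hF
    haveI hFn : F.Normal := inferInstance
    have hFQ : F ≤ Q := Subgroup.map_subtype_le _
    let M : Subgroup X :=
      { carrier := {x | ∀ k ∈ Q, x * k * x⁻¹ * k⁻¹ ∈ F}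
        one_mem' := fun k _ => by simp
        mul_mem' := fun {x y} hx hy k hk => by
          have := F.mul_mem (hFn.conj_mem _ (hy k hk) x) (hx k hk)
          have e : x * (y * k * y⁻¹ * k⁻¹) * x⁻¹ * (x * k * x⁻¹ * k⁻¹) = x * y * k * (x * y)⁻¹ * k⁻¹ := by group
          exact e ▸ this
        inv_mem' := fun {x} hx k hk => by
          have := hFn.conj_mem _ (F.inv_mem (hx k hk)) x⁻¹
          have e : x⁻¹ * (x * k * x⁻¹ * k⁻¹)⁻¹ * x⁻¹⁻¹ = x⁻¹ * k * x⁻¹⁻¹ * k⁻¹ := by group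
          exact e ▸ this }
    haveI : M.Normal := ⟨fun x hx g k hk => by
      have := hFn.conj_mem _ (hx (g⁻¹ * k * g) (by simpa using hQn.conj_mem k hk g⁻¹)) g
      have e : g * (x * (g⁻¹ * k * g) * x⁻¹ * (g⁻¹ * k * g)⁻¹) * g⁻¹ = g * x * g⁻¹ * k * (g * x * g⁻¹)⁻¹ * k⁻¹ := by group
      exact e ▸ this⟩
    have hMp : IsPGroup 2 ↥M := by
      intro x
      obtain ⟨k, m, hm, hxo⟩ := Nat.exists_eq_pow_mul_and_not_dvd (orderOf_pos (x : X)).ne' 2 (by norm_num)
      refine ⟨k, Subtype.ext ?_⟩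
      set y := (x : X) ^ 2 ^ k with hy
      have hyo : orderOf y = m := by
        rw [hy, orderOf_pow_of_dvd (by norm_num) ⟨m, hxo⟩, hxo, Nat.mul_div_cancel_left _ (by positivity)]
      have hcop : (orderOf y).Coprime 2 := by
        rw [hyo]; exact (Nat.coprime_comm.mp (Nat.prime_two.coprime_iff_not_dvd.mpr hm))
      have hyM : y ∈ M := M.pow_mem x.2 _
      have hyC : y ∈ Subgroup.centralizer (Q : Set X) := CfsgLib.Solv.centralizes_of_frattini (p := 2) hQp hcop
        (fun k hk => by rw [commutatorElement_def]; exact hyM k hk)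
      have hyQ : y ∈ Q := by
        have h1 : Subgroup.centralizer (Cfsg.generalizedFittingSubgroup X : Set X) ≤ Cfsg.generalizedFittingSubgroup X :=
          CfsgLib.Inv.centralizer_genFitting_le
        rw [hX] at h1
        exact h1 hyC
      obtain ⟨j, hj⟩ := IsPGroup.iff_orderOf.mp hQp ⟨y, hyQ⟩
      rw [Subgroup.orderOf_mk] at hj
      have h1 : orderOf y = 1 := by
        have := hcop.pow_right j
        rw [← hj] at this
        exact (Nat.coprime_self _).mp this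
      rw [SubgroupClass.coe_pow, Subgroup.coe_one]
      exact orderOf_eq_one_iff.mp h1
    refine CfsgLib.Solv.le_pCore hMp ?_
    intro q hq
    -- the commutator of a with q is centralized by a
    have hc := hcomm q 1 (le_sup_right (a := A) hq) (one_mem _) a ha a ha
    simp only [one_mul, inv_one, mul_one] at hc
    set w := q * a * q⁻¹ * a⁻¹ with hw
    have hwQ : w ∈ Q := by
      have := Q.mul_mem hq (hQn.conj_mem _ (Q.inv_mem hq) a)
      simpa [hw, mul_assoc] using this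
    have hw2 : w * w ∈ F := by
      refine ⟨⟨w, hwQ⟩ ^ 2, CfsgLib.Solv.pow_mem_frattini hQp _, ?_⟩
      simp [sq]
    have hc' : Commute (q * a * q⁻¹) a⁻¹ := (show Commute (q * a * q⁻¹) a from hc).inv_right
    have e2 : w * w = q * (a * a) * q⁻¹ * (a * a)⁻¹ := by
      calc w * w = q * a * q⁻¹ * (a⁻¹ * (q * a * q⁻¹)) * a⁻¹ := by rw [hw]; group
        _ = q * a * q⁻¹ * (q * a * q⁻¹ * a⁻¹) * a⁻¹ := by rw [hc'.eq]
        _ = _ := by group
    have e3 : a * a * q * (a * a)⁻¹ * q⁻¹ = (w * w)⁻¹ := by rw [e2]; simp [mul_assoc]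
    exact e3 ▸ F.inv_mem hw2
  set A2 := Subgroup.closure ((fun a : X => a ^ 2) '' (A : Set X)) with hA2def
  have hA2le : A2 ≤ Q := (Subgroup.closure_le _).mpr (by
    rintro _ ⟨a, ha, rfl⟩
    show a ^ 2 ∈ Q
    rw [sq]; exact hsqQ a ha)
  refine ⟨hA2le, fun hne => ?_⟩
  have hA2A : A2 ≤ A := (Subgroup.closure_le _).mpr (by rintro _ ⟨a, ha, rfl⟩; exact A.pow_mem ha 2)
  have hab2 : ∀ a ∈ A2, ∀ b ∈ A2, a * b = b * a := fun a ha b hb => hab a (hA2A ha) b (hA2A hb)
  have hsq2 : ∃ a ∈ A2, a * a ≠ 1 := by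
    by_contra hh
    push_neg at hh
    exact hne ⟨⟨⟨fun a b => Subtype.ext (hab2 a a.2 b b.2)⟩⟩, fun a ha => by rw [sq]; exact hh a ha⟩
  have hti2 : ∀ h : X, CfsgLib.Base.TIFamily.cj h A2 = A2 ∨ CfsgLib.Base.TIFamily.cj h A2 ⊓ A2 = ⊥ := by
    intro h
    rcases hti h with e | e
    · left
      rw [CfsgLib.Base.TIFamily.cj, hA2def, MonoidHom.map_closure]
      congr 1
      conv_rhs => rw [← e, Subgroup.coe_map]
      rw [Set.image_image, Set.image_image]
      exact Set.image_congr' fun a => by rw [map_pow]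
    · right
      rw [eq_bot_iff, ← e]
      exact inf_le_inf (Subgroup.map_mono hA2A) hA2A
  have hcomm := ti_commute (S := Q) hQp hA2le hab2 hsq2 (fun _ => True) trivial
    (fun h _ a ha => hQn.conj_mem a (hA2le ha) h) (fun _ _ _ _ => trivial) hti2
  refine Subgroup.isMulCommutative_closure ?_
  intro x hx y hy
  obtain ⟨u, ⟨a, ha, rfl⟩, hux⟩ := Group.mem_conjugatesOfSet_iff.mp hx
  obtain ⟨v, ⟨b, hb, rfl⟩, hvy⟩ := Group.mem_conjugatesOfSet_iff.mp hy
  obtain ⟨h, rfl⟩ := isConj_iff.mp hux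
  obtain ⟨g, rfl⟩ := isConj_iff.mp hvy
  exact hcomm h g trivial trivial _ (Subgroup.subset_closure ⟨a, ha, rfl⟩) _ (Subgroup.subset_closure ⟨b, hb, rfl⟩)

end Cfsg.Agent.S1783
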