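import Cfsg.Statements.S1784
import Cfsg.Agent.Fus.ExtraspecialInvolution
import Cfsg.Agent.Inv.Component

set_option autoImplicit false
open Cfsg

namespace Cfsg.Agent.S1784

/-- Let G be a finite group and let z be an involution of G such that Q, the generalized Fitting subgroup of the centralizer C of z, is a 2-group of symplectic type (every characteristic abelian subgroup of Q is cyclic); suppose Q is extraspecial, and view Q inside G. Let α be an involution of C that is not in Q, and let Q₀ be the subgroup of those q ∈ Q whose commutator with α lies in the subgroup generated by z. Then (a) the subgroup generated by the commutators α q α⁻¹ q⁻¹, q ∈ Q, equals the centre of Q₀; and (b) if Q₀ is not contained in the product of the centralizer of α in Q with the subgroup generated by z, then some element of Q conjugates α to α z. -/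
theorem result {G : Type*} [Group G] [Finite G] (z : G) (hz : orderOf z = 2) (hQ : Cfsg.IsOfSymplecticType ↥(Cfsg.generalizedFittingSubgroup ↥(Subgroup.centralizer ({z} : Set G)))) (hE : Cfsg.IsExtraspecial 2 ↥(Cfsg.generalizedFittingSubgroup ↥(Subgroup.centralizer ({z} : Set G))))
    (α : G) (hα : orderOf α = 2) (hαC : α ∈ Subgroup.centralizer ({z} : Set G)) (hαQ : α ∉ (Cfsg.generalizedFittingSubgroup ↥(Subgroup.centralizer ({z} : Set G))).map (Subgroup.centralizer ({z} : Set G)).subtype)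
    (Q₀ : Subgroup G) (hQ₀ : ∀ q : G, q ∈ Q₀ ↔ (q ∈ (Cfsg.generalizedFittingSubgroup ↥(Subgroup.centralizer ({z} : Set G))).map (Subgroup.centralizer ({z} : Set G)).subtype ∧ α * q * α⁻¹ * q⁻¹ ∈ Subgroup.zpowers z)) :
    Subgroup.closure ((fun q : G => α * q * α⁻¹ * q⁻¹) '' ((Cfsg.generalizedFittingSubgroup ↥(Subgroup.centralizer ({z} : Set G))).map (Subgroup.centralizer ({z} : Set G)).subtype : Set G)) = (Subgroup.center ↥Q₀).map Q₀.subtype ∧
      (¬ Q₀ ≤ ((Cfsg.generalizedFittingSubgroup ↥(Subgroup.centralizer ({z} : Set G))).map (Subgroup.centralizer ({z} : Set G)).subtype ⊓ Subgroup.centralizer ({α} : Set G)) ⊔ Subgroup.zpowers z →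
        ∃ q ∈ (Cfsg.generalizedFittingSubgroup ↥(Subgroup.centralizer ({z} : Set G))).map (Subgroup.centralizer ({z} : Set G)).subtype, q * α * q⁻¹ = α * z) := by
  set Cz := Subgroup.centralizer ({z} : Set G) with hCz
  set F := Cfsg.generalizedFittingSubgroup ↥Cz with hF
  haveI hFn : F.Normal := CfsgLib.Inv.genFitting_normal
  set Qs := F.map Cz.subtype with hQs
  haveI : Fact (Nat.Prime 2) := ⟨Nat.prime_two⟩
  -- `z` spans the centre of `F`
  have hzC : z ∈ Cz := Subgroup.mem_centralizer_singleton_iff.2 rfl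
  have hzcen : (⟨z, hzC⟩ : Cz) ∈ Subgroup.center ↥Cz := Subgroup.mem_center_iff.2 fun w =>
    Subtype.ext (Subgroup.mem_centralizer_singleton_iff.1 w.2)
  have hzF : (⟨z, hzC⟩ : Cz) ∈ F := by
    refine CfsgLib.Inv.centralizer_genFitting_le (Subgroup.mem_centralizer_iff.2 fun f _ => ?_)
    exact Subgroup.mem_center_iff.1 hzcen f
  have hz1 : z ≠ 1 := fun h => by simp [h] at hz
  have hzZ : (⟨⟨z, hzC⟩, hzF⟩ : F) ∈ Subgroup.center ↥F := Subgroup.mem_center_iff.2 fun w =>
    Subtype.ext (Subgroup.mem_center_iff.1 hzcen w)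
  have hcen : ∀ w : F, w ∈ Subgroup.center ↥F ↔ ((w : Cz) : G) ∈ Subgroup.zpowers z := by
    intro w
    constructor
    · intro hw
      by_cases h1 : w = 1
      · rw [h1]; exact one_mem _
      · rw [show w = ⟨⟨z, hzC⟩, hzF⟩ from congrArg Subtype.val (CfsgLib.Fischer.Extra.center_cases hE ⟨w, hw⟩ ⟨_, hzZ⟩
          (fun k => h1 (congrArg Subtype.val k)) (fun k => hz1 (congrArg (fun t : Subgroup.center ↥F => (((t : F) : Cz) : G)) k)))]
        exact Subgroup.mem_zpowers z
    · rintro ⟨i, hi⟩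
      rw [show w = (⟨⟨z, hzC⟩, hzF⟩ : F) ^ i from Subtype.ext (Subtype.ext (by simp [← hi]))]
      exact zpow_mem hzZ i
  -- conjugation by `α`
  set αC : Cz := ⟨α, hαC⟩ with hαCdef
  let a : ↥F ≃* ↥F := MulAut.conjNormal αC
  have hacoe : ∀ q : F, (((a q : F) : Cz) : G) = α * ((q : Cz) : G) * α⁻¹ := fun q => by
    simp [a, MulAut.conjNormal_apply, hαCdef]
  have hαinv : α * α = 1 := by rw [← pow_two, ← hα]; exact pow_orderOf_eq_one α
  have haa : ∀ q, a (a q) = q := fun q => Subtype.ext (Subtype.ext (by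
    rw [hacoe, hacoe, show α * (α * ((q : Cz) : G) * α⁻¹) * α⁻¹ = (α * α) * ((q : Cz) : G) * (α * α)⁻¹ by group, hαinv]
    simp))
  have hne : ∃ x, a x ≠ x := by
    by_contra hall
    push_neg at hall
    refine hαQ ⟨αC, CfsgLib.Inv.centralizer_genFitting_le (Subgroup.mem_centralizer_iff.2 fun f hf => ?_), rfl⟩
    have h := hacoe ⟨f, hf⟩
    rw [hall] at h
    exact Subtype.ext (show (f : G) * α = α * f from eq_mul_inv_iff_mul_eq.1 h)
  set Q0F := (Q₀.comap Cz.subtype).comap F.subtype with hQ0F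
  have hQ0mem : ∀ q : F, q ∈ Q0F ↔ a q * q⁻¹ ∈ Subgroup.center ↥F := by
    intro q
    rw [hcen]
    show ((q : Cz) : G) ∈ Q₀ ↔ _
    rw [hQ₀]
    simp only [Subgroup.coe_mul, InvMemClass.coe_inv, hacoe]
    exact ⟨fun h => h.2, fun h => ⟨⟨(q : Cz), q.2, rfl⟩, h⟩⟩
  have hmain := CfsgLib.Fus.ExtraInvolution.main hE a haa hne Q0F hQ0mem
  have himg : Subgroup.closure ((fun q : G => α * q * α⁻¹ * q⁻¹) '' (Qs : Set G)) =
      (Subgroup.closure (Set.range fun q => a q * q⁻¹)).map (Cz.subtype.comp F.subtype) := by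
    rw [MonoidHom.map_closure]
    congr 1
    ext x
    constructor
    · rintro ⟨_, ⟨q, hq, rfl⟩, rfl⟩
      exact ⟨_, ⟨⟨q, hq⟩, rfl⟩, by simp [hacoe]⟩
    · rintro ⟨_, ⟨q, rfl⟩, rfl⟩
      exact ⟨((q : Cz) : G), ⟨q, q.2, rfl⟩, by simp [hacoe]⟩
  refine ⟨?_, fun hnot => ?_⟩
  · rw [himg]
    ext x
    constructor
    · rintro ⟨w, hw, rfl⟩
      obtain ⟨h1, h2⟩ := (hmain w).1 hw
      refine ⟨⟨_, h1⟩, Subgroup.mem_center_iff.2 fun r => Subtype.ext ?_, rfl⟩
      obtain ⟨⟨r', hr', hr''⟩, -⟩ := (hQ₀ r).1 r.2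
      have h3 := congrArg (fun t : F => ((t : Cz) : G)) (h2 ⟨r', hr'⟩ (show (r' : G) ∈ Q₀ by
        rw [show (r' : G) = r from hr'']; exact r.2))
      simp only [Subgroup.coe_mul] at h3
      show (r : G) * ((w : Cz) : G) = ((w : Cz) : G) * r
      rw [← show (r' : G) = r from hr'']
      exact h3
    · rintro ⟨r, hr, rfl⟩
      obtain ⟨⟨r', hr', hr''⟩, -⟩ := (hQ₀ r).1 r.2
      have hrQ : (r' : G) ∈ Q₀ := by rw [show (r' : G) = r from hr'']; exact r.2
      refine ⟨⟨r', hr'⟩, (hmain _).2 ⟨hrQ, fun q hq => Subtype.ext (Subtype.ext ?_)⟩, hr''⟩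
      have h3 := congrArg Subtype.val (Subgroup.mem_center_iff.1 hr ⟨_, hq⟩)
      show ((q : Cz) : G) * (r' : G) = (r' : G) * ((q : Cz) : G)
      rw [show (r' : G) = r from hr'']
      exact h3
  · by_contra hall
    push_neg at hall
    refine hnot fun q hq => ?_
    obtain ⟨hqQ, hc⟩ := (hQ₀ q).1 hq
    obtain ⟨i, hi⟩ := hc
    rcases Int.even_or_odd i with ⟨m, rfl⟩ | ⟨m, rfl⟩
    · refine Subgroup.mem_sup_left (Subgroup.mem_inf.2 ⟨hqQ, Subgroup.mem_centralizer_singleton_iff.2 ?_⟩)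
      have h2 : (z : G) ^ (2 : ℤ) = 1 := by
        rw [show (2 : ℤ) = ((2 : ℕ) : ℤ) from rfl, zpow_natCast, ← hz]; exact pow_orderOf_eq_one z
      simp only [← two_mul, zpow_mul, h2, one_zpow] at hi
      exact (mul_inv_eq_iff_eq_mul.1 (mul_inv_eq_one.1 hi.symm)).symm
    · exfalso
      have h2 : (z : G) ^ (2 : ℤ) = 1 := by
        rw [show (2 : ℤ) = ((2 : ℕ) : ℤ) from rfl, zpow_natCast, ← hz]; exact pow_orderOf_eq_one z
      simp only [zpow_add, zpow_mul, h2, one_zpow, one_mul, zpow_one] at hi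
      refine hall q hqQ ?_
      have hinv : α⁻¹ = α := inv_eq_of_mul_eq_one_right hαinv
      calc q * α * q⁻¹ = α * (α * q * α⁻¹ * q⁻¹) := by
            conv_rhs => rw [hinv]
            rw [show α * (α * q * α * q⁻¹) = (α * α) * (q * α * q⁻¹) by group, hαinv, one_mul]
        _ = α * z := by rw [← hi]

end Cfsg.Agent.S1784
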