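import Cfsg.Statements.S1785
import Cfsg.Agent.Base.FourChain
-- import your own Cfsg.Agent.* helpers here

set_option autoImplicit false
open Cfsg

namespace Cfsg.Agent.S1785

/-- Let X be a finite 2-group having a normal elementary abelian subgroup of order at least 32. Then (a) for any two elementary abelian subgroups A, B of X of order 8 there is a chain A = A₁, A₂, …, Aₙ = B of elementary abelian subgroups of order 8 in which consecutive members commute elementwise; and (b) every elementary abelian subgroup of X of order 4 is contained in an elementary abelian subgroup of order 8. -/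
theorem result {X : Type*} [Group X] [Finite X]
    (hX : IsPGroup 2 X) (E : Subgroup X) [E.Normal] (hE : Cfsg.IsElementaryAbelian 2 E) (hE32 : 32 ≤ Nat.card ↥E) :
    (∀ A B : Subgroup X, Cfsg.IsElementaryAbelian 2 A → Nat.card ↥A = 8 → Cfsg.IsElementaryAbelian 2 B → Nat.card ↥B = 8 →
        Relation.ReflTransGen
          (fun C D : Subgroup X => Cfsg.IsElementaryAbelian 2 C ∧ Nat.card ↥C = 8 ∧ Cfsg.IsElementaryAbelian 2 D ∧ Nat.card ↥D = 8 ∧ ⁅C, D⁆ = ⊥)
          A B) ∧
      (∀ V : Subgroup X, Cfsg.IsElementaryAbelian 2 V → Nat.card ↥V = 4 →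
        ∃ A : Subgroup X, V ≤ A ∧ Cfsg.IsElementaryAbelian 2 A ∧ Nat.card ↥A = 8) := by
  classical
  have hEA : CfsgLib.Base.FourChain.IsEA E := fun a ha => ⟨by rw [← sq]; exact hE.2 a ha, fun b hb =>
    congrArg Subtype.val (hE.1.is_comm.comm ⟨a, ha⟩ ⟨b, hb⟩)⟩
  have toEA : ∀ A : Subgroup X, Cfsg.IsElementaryAbelian 2 A → CfsgLib.Base.FourChain.IsEA A :=
    fun A hA a ha => ⟨by rw [← sq]; exact hA.2 a ha, fun b hb =>
      congrArg Subtype.val (hA.1.is_comm.comm ⟨a, ha⟩ ⟨b, hb⟩)⟩
  have ofEA : ∀ A : Subgroup X, CfsgLib.Base.FourChain.IsEA A → Cfsg.IsElementaryAbelian 2 A :=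
    fun A hA => ⟨⟨⟨fun a b => Subtype.ext ((hA a a.2).2 b b.2)⟩⟩, fun a ha => by rw [sq]; exact (hA a ha).1⟩
  have hN : ∀ w : X, ∀ e ∈ E, w * e * w⁻¹ ∈ E := fun w e he => Subgroup.Normal.conj_mem inferInstance e he w
  have h1 : ∀ u : X, u * u = 1 → 2 ^ 3 ≤ Nat.card ↥(E ⊓ Subgroup.centralizer ({u} : Set X)) := fun u hu =>
    CfsgLib.Base.FourChain.pow_le_card hX (n := 5)
      ((by norm_num; omega : 2 ^ 5 ≤ Nat.card ↥E).trans (CfsgLib.Base.FourChain.card_le_sq hEA hu (hN u))) (by norm_num)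
  -- fixed points of an element on the fixed points of others
  have hstep : ∀ (u : X), u * u = 1 → ∀ (L : Subgroup X) (k : ℕ), L ≤ E → (∀ e ∈ L, u * e * u⁻¹ ∈ L) →
      2 ^ (2 * k - 1) ≤ Nat.card ↥L → 2 ^ k ≤ Nat.card ↥(L ⊓ Subgroup.centralizer ({u} : Set X)) := by
    intro u hu L k hL hn hc
    rcases Nat.eq_zero_or_pos k with rfl | hk
    · simp only [pow_zero]; exact Nat.card_pos
    exact CfsgLib.Base.FourChain.pow_le_card hX (n := 2 * k - 1)
      (hc.trans (CfsgLib.Base.FourChain.card_le_sq (hEA.mono hL) hu hn)) (by omega)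
  have hinv : ∀ u v : X, u * v = v * u → ∀ L : Subgroup X, (∀ e ∈ L, v * e * v⁻¹ ∈ L) →
      ∀ e ∈ L ⊓ Subgroup.centralizer ({u} : Set X), v * e * v⁻¹ ∈ L ⊓ Subgroup.centralizer ({u} : Set X) := by
    intro u v huv L hL e he
    refine ⟨hL e he.1, ?_⟩
    show v * e * v⁻¹ ∈ Subgroup.centralizer ({u} : Set X)
    rw [Subgroup.mem_centralizer_singleton_iff]
    have h1 := Subgroup.mem_centralizer_singleton_iff.mp he.2
    calc v * e * v⁻¹ * u = v * e * (v⁻¹ * (u * v)) * v⁻¹ := by group
      _ = v * e * (v⁻¹ * (v * u)) * v⁻¹ := by rw [huv]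
      _ = v * (e * u) * v⁻¹ := by group
      _ = v * u * e * v⁻¹ := by rw [h1]; group
      _ = u * v * e * v⁻¹ := by rw [huv]
      _ = _ := by group
  have hcz : ∀ (u : X) (L : Subgroup X) (x : X), x ∈ L ⊓ Subgroup.centralizer ({u} : Set X) → ∀ c ∈ Subgroup.zpowers u, c * x = x * c := by
    intro u L x hx c hc
    obtain ⟨i, rfl⟩ := Subgroup.mem_zpowers_iff.mp hc
    exact ((show Commute u x from (Subgroup.mem_centralizer_singleton_iff.mp hx.2).symm).zpow_left i).eq
  refine ⟨?_, ?_⟩
  · obtain ⟨D₀, hD₀E, hD₀c⟩ := CfsgLib.Base.FourChain.exists_sub hX (K := E) (k := 3) (le_trans (by norm_num) hE32)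
    let R := fun C D : Subgroup X => Cfsg.IsElementaryAbelian 2 C ∧ Nat.card ↥C = 8 ∧
      Cfsg.IsElementaryAbelian 2 D ∧ Nat.card ↥D = 8 ∧ ⁅C, D⁆ = ⊥
    have mkR : ∀ C D : Subgroup X, CfsgLib.Base.FourChain.IsEA C → Nat.card ↥C = 2 ^ 3 →
        CfsgLib.Base.FourChain.IsEA D → Nat.card ↥D = 2 ^ 3 → (∀ c ∈ C, ∀ d ∈ D, c * d = d * c) → R C D := by
      intro C D hC hCc hD hDc hcd
      refine ⟨ofEA C hC, by rw [hCc]; norm_num, ofEA D hD, by rw [hDc]; norm_num, ?_⟩
      rw [Subgroup.commutator_eq_bot_iff_le_centralizer]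
      exact fun c hc => Subgroup.mem_centralizer_iff.mpr fun d hd => (hcd c hc d hd).symm
    have key : ∀ A : Subgroup X, Cfsg.IsElementaryAbelian 2 A → Nat.card ↥A = 8 → Relation.ReflTransGen R A D₀ := by
      intro A hA hA8
      have hAA := toEA A hA
      have hA8' : Nat.card ↥A = 2 ^ 3 := by rw [hA8]; norm_num
      by_cases hAE : A ≤ E
      · exact Relation.ReflTransGen.single (mkR A D₀ hAA hA8' (hEA.mono hD₀E) hD₀c
          fun a ha b hb => (hEA a (hAE ha)).2 b (hD₀E hb))
      obtain ⟨u, huA, huE⟩ := SetLike.not_le_iff_exists.mp hAE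
      have hu2 := (hAA u huA).1
      have hzu : Nat.card ↥(Subgroup.zpowers u) = 2 := by
        rw [Nat.card_zpowers]
        exact orderOf_eq_prime (by rw [sq, hu2]) (fun h => huE (h ▸ E.one_mem))
      obtain ⟨v, hvA, hvu⟩ : ∃ v ∈ A, v ∉ Subgroup.zpowers u := by
        by_contra hall
        push_neg at hall
        have := Subgroup.card_le_of_le hall
        omega
      set V := Subgroup.zpowers u ⊔ Subgroup.zpowers v with hV
      have hVA : V ≤ A := sup_le (Subgroup.zpowers_le.mpr huA) (Subgroup.zpowers_le.mpr hvA)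
      set W := E ⊓ Subgroup.centralizer ({u} : Set X) ⊓ Subgroup.centralizer ({v} : Set X) with hW
      have huv : u * v = v * u := (hAA u huA).2 v hvA
      have hW4 : 2 ^ 2 ≤ Nat.card ↥W := hstep v (hAA v hvA).1 _ 2 inf_le_left (hinv u v huv E (hN v)) (h1 u hu2)
      have hVW : ∀ x ∈ W, ∀ c ∈ V, c * x = x * c := fun x hx c hc =>
        CfsgLib.Base.FourChain.commute_sup (hcz u E x hx.1) (hcz v _ x hx) c hc
      -- an element of `W` centralized by `A`
      obtain ⟨f, hfA, hfV⟩ : ∃ f ∈ A, f ∉ V := by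
        by_contra hall
        push_neg at hall
        have h4 := Subgroup.card_le_of_le hall
        have h5 : Nat.card ↥V ≤ 4 := by
          have hnorm : Subgroup.zpowers u ≤ Subgroup.normalizer (Subgroup.zpowers v : Set X) := fun a ha =>
            Subgroup.centralizer_le_normalizer _ (Subgroup.mem_centralizer_iff.mpr fun b hb =>
              (hAA b (Subgroup.zpowers_le.mpr hvA hb)).2 a (Subgroup.zpowers_le.mpr huA ha))
          have hsurj : Nat.card ↥V ≤ Nat.card (↥(Subgroup.zpowers u) × ↥(Subgroup.zpowers v)) := by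
            refine Nat.card_le_card_of_surjective (fun q : ↥(Subgroup.zpowers u) × ↥(Subgroup.zpowers v) =>
              (⟨(q.1 : X) * q.2, Subgroup.mul_mem_sup q.1.2 q.2.2⟩ : ↥V)) ?_
            rintro ⟨x, hx⟩
            rw [hV, ← SetLike.mem_coe, Subgroup.coe_mul_of_left_le_normalizer_right _ _ hnorm] at hx
            obtain ⟨a, ha, b, hb, rfl⟩ := hx
            exact ⟨(⟨a, ha⟩, ⟨b, hb⟩), rfl⟩
          rw [Nat.card_prod, hzu, Nat.card_zpowers] at hsurj
          have := Nat.le_of_dvd (by norm_num) (orderOf_dvd_of_pow_eq_one (show v ^ 2 = 1 by rw [sq, (hAA v hvA).1]))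
          omega
        omega
      have hWf : ∀ e ∈ W, f * e * f⁻¹ ∈ W := hinv v f ((hAA v hvA).2 f hfA) _ (hinv u f ((hAA u huA).2 f hfA) E (hN f))
      have he2 : 2 ^ 1 ≤ Nat.card ↥(W ⊓ Subgroup.centralizer ({f} : Set X)) :=
        hstep f (hAA f hfA).1 _ 1 (inf_le_left.trans inf_le_left) hWf ((by norm_num : (2 : ℕ) ^ (2 * 1 - 1) ≤ 2 ^ 2).trans hW4)
      obtain ⟨⟨e, heW⟩, he1⟩ : ∃ e : ↥(W ⊓ Subgroup.centralizer ({f} : Set X)), e ≠ 1 := by
        haveI : Nontrivial ↥(W ⊓ Subgroup.centralizer ({f} : Set X)) := Finite.one_lt_card_iff_nontrivial.mp (by omega)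
        exact exists_ne 1
      have hAe : ∀ a ∈ A, a * e = e * a := by
        have hsup : V ⊔ Subgroup.zpowers f = A := by
          refine Subgroup.eq_of_le_of_card_ge (sup_le hVA (Subgroup.zpowers_le.mpr hfA)) ?_
          have h2 := CfsgLib.Base.FourChain.card_lt_sup (A := V) (B := Subgroup.zpowers f) (fun h => hfV (h (Subgroup.mem_zpowers f)))
          have h3 := CfsgLib.Base.FourChain.card_lt_sup (A := Subgroup.zpowers u) (B := Subgroup.zpowers v) (fun h => hvu (h (Subgroup.mem_zpowers v)))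
          rw [← hV, hzu] at h3
          omega
        intro a ha
        rw [← hsup] at ha
        exact CfsgLib.Base.FourChain.commute_sup (hVW e heW.1) (hcz f W e heW) a ha
      have hWEA : CfsgLib.Base.FourChain.IsEA W := hEA.mono (inf_le_left.trans inf_le_left)
      have heE : e ∈ E := heW.1.1.1
      set Z₀ := Subgroup.zpowers u ⊔ Subgroup.zpowers e with hZ₀
      have hZ₀EA : CfsgLib.Base.FourChain.IsEA Z₀ := (CfsgLib.Base.FourChain.isEA_zpowers hu2).sup
        (CfsgLib.Base.FourChain.isEA_zpowers (hEA e heE).1) (fun a ha b hb => by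
          obtain ⟨i, rfl⟩ := Subgroup.mem_zpowers_iff.mp ha
          obtain ⟨j, rfl⟩ := Subgroup.mem_zpowers_iff.mp hb
          exact ((show Commute u e from (hAe u huA)).zpow_zpow i j).eq)
      -- `M` commutes with `A`, `Y` with `M`, `D` with `Y`
      set K := E ⊓ Subgroup.centralizer ({u} : Set X) with hK
      obtain ⟨D, hDK, hDc⟩ := CfsgLib.Base.FourChain.exists_sub hX (h1 u hu2)
      obtain ⟨v', hv'A, hev'⟩ : ∃ v' ∈ A, v' ∉ Z₀ := by
        by_contra hall
        push_neg at hall
        have h4 := Subgroup.card_le_of_le hall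
        have hsurj : Nat.card ↥Z₀ ≤ Nat.card (↥(Subgroup.zpowers u) × ↥(Subgroup.zpowers e)) := by
          have hnorm : Subgroup.zpowers u ≤ Subgroup.normalizer (Subgroup.zpowers e : Set X) := fun a ha =>
            Subgroup.centralizer_le_normalizer _ (Subgroup.mem_centralizer_iff.mpr fun b hb =>
              (hZ₀EA b (Subgroup.mem_sup_right hb)).2 a (Subgroup.mem_sup_left ha))
          refine Nat.card_le_card_of_surjective (fun q : ↥(Subgroup.zpowers u) × ↥(Subgroup.zpowers e) =>
            (⟨(q.1 : X) * q.2, Subgroup.mul_mem_sup q.1.2 q.2.2⟩ : ↥Z₀)) ?_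
          rintro ⟨x, hx⟩
          rw [hZ₀, ← SetLike.mem_coe, Subgroup.coe_mul_of_left_le_normalizer_right _ _ hnorm] at hx
          obtain ⟨a, ha, b, hb, rfl⟩ := hx
          exact ⟨(⟨a, ha⟩, ⟨b, hb⟩), rfl⟩
        rw [Nat.card_prod, hzu, Nat.card_zpowers] at hsurj
        have := Nat.le_of_dvd (by norm_num) (orderOf_dvd_of_pow_eq_one (show e ^ 2 = 1 by rw [sq, (hEA e heE).1]))
        omega
      set W' := E ⊓ Subgroup.centralizer ({u} : Set X) ⊓ Subgroup.centralizer ({v'} : Set X) with hW'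
      have hW'4 : 2 ^ 2 ≤ Nat.card ↥W' := hstep v' (hAA v' hv'A).1 _ 2 inf_le_left
        (hinv u v' ((hAA u huA).2 v' hv'A) E (hN v')) (h1 u hu2)
      set M := Z₀ ⊔ Subgroup.zpowers v' with hM
      have hMEA : CfsgLib.Base.FourChain.IsEA M := hZ₀EA.sup (CfsgLib.Base.FourChain.isEA_zpowers (hAA v' hv'A).1)
        (fun a ha b hb => CfsgLib.Base.FourChain.commute_sup
          (fun c hc => (hAA c (Subgroup.zpowers_le.mpr huA hc)).2 b (Subgroup.zpowers_le.mpr hv'A hb))
          (fun c hc => by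
            obtain ⟨i, rfl⟩ := Subgroup.mem_zpowers_iff.mp hc
            exact ((show Commute e b from (hAe b (Subgroup.zpowers_le.mpr hv'A hb)).symm).zpow_left i).eq) a ha)
      have hM8 : 2 ^ 3 ≤ Nat.card ↥M := by
        have h2 := CfsgLib.Base.FourChain.card_lt_sup (A := Z₀) (B := Subgroup.zpowers v') (fun h => hev' (h (Subgroup.mem_zpowers v')))
        have h3 := CfsgLib.Base.FourChain.card_lt_sup (A := Subgroup.zpowers u) (B := Subgroup.zpowers e)
          (fun h => he1 (by
            obtain ⟨i, hi⟩ := Subgroup.mem_zpowers_iff.mp (h (Subgroup.mem_zpowers e))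
            rcases Int.even_or_odd i with ⟨j, rfl⟩ | ⟨j, rfl⟩
            · exact Subtype.ext (show e = 1 by rw [← hi, zpow_add, ← (Commute.refl u).mul_zpow, hu2, one_zpow])
            · exfalso
              apply huE
              rw [zpow_add, zpow_mul, zpow_two, hu2, one_zpow, one_mul, zpow_one] at hi
              exact hi ▸ heE))
        rw [← hZ₀, hzu] at h3
        rw [← hM] at h2
        omega
      set Y := Subgroup.zpowers u ⊔ W' with hY
      have hW'EA : CfsgLib.Base.FourChain.IsEA W' := hEA.mono (inf_le_left.trans inf_le_left)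
      have hYEA : CfsgLib.Base.FourChain.IsEA Y := (CfsgLib.Base.FourChain.isEA_zpowers hu2).sup hW'EA
        (fun a ha b hb => hcz u E b hb.1 a ha)
      have hY8 : 2 ^ 3 ≤ Nat.card ↥Y := by
        have h2 := CfsgLib.Base.FourChain.card_lt_sup (A := W') (B := Subgroup.zpowers u)
          (fun h => huE (h (Subgroup.mem_zpowers u)).1.1)
        rw [sup_comm, ← hY] at h2
        omega
      obtain ⟨M', hM'M, hM'c⟩ := CfsgLib.Base.FourChain.exists_sub hX hM8
      obtain ⟨Y', hY'Y, hY'c⟩ := CfsgLib.Base.FourChain.exists_sub hX hY8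
      have cAM : ∀ m ∈ M, ∀ a ∈ A, m * a = a * m := by
        intro m hm a ha
        refine CfsgLib.Base.FourChain.commute_sup (CfsgLib.Base.FourChain.commute_sup
          (fun c hc => (hAA c (Subgroup.zpowers_le.mpr huA hc)).2 a ha)
          (fun c hc => by
            obtain ⟨i, rfl⟩ := Subgroup.mem_zpowers_iff.mp hc
            exact ((show Commute e a from (hAe a ha).symm).zpow_left i).eq))
          (fun c hc => (hAA c (Subgroup.zpowers_le.mpr hv'A hc)).2 a ha) m hm
      have cMY : ∀ y ∈ Y, ∀ m ∈ M, y * m = m * y := by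
        intro y hy m hm
        refine (CfsgLib.Base.FourChain.commute_sup (A := Subgroup.zpowers u) (B := W')
          (fun c hc => (cAM m hm c (Subgroup.zpowers_le.mpr huA hc)).symm) (fun c hc => ?_) y hy)
        have hcE : c ∈ E ⊓ Subgroup.centralizer ({u} : Set X) := hc.1
        exact (CfsgLib.Base.FourChain.commute_sup (A := Z₀) (B := Subgroup.zpowers v')
          (CfsgLib.Base.FourChain.commute_sup (A := Subgroup.zpowers u) (B := Subgroup.zpowers e) (hcz u E c hcE)
          (fun d hd => (hEA d ((Subgroup.zpowers_le.mpr heE : Subgroup.zpowers e ≤ E) hd)).2 c hcE.1))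
          (hcz v' _ c hc) m hm).symm
      have cYD : ∀ y ∈ Y, ∀ d ∈ D, y * d = d * y := fun y hy d hd =>
        CfsgLib.Base.FourChain.commute_sup (A := Subgroup.zpowers u) (B := W') (hcz u E d (hDK hd)) (fun c (hc : c ∈ W') => (hEA c (show c ∈ E from hc.1.1)).2 d (hDK hd).1) y hy
      have s1 := mkR A M' hAA hA8' (hMEA.mono hM'M) hM'c fun a ha m hm => (cAM m (hM'M hm) a ha).symm
      have s2 := mkR M' Y' (hMEA.mono hM'M) hM'c (hYEA.mono hY'Y) hY'c fun m hm y hy => (cMY y (hY'Y hy) m (hM'M hm)).symm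
      have s3 := mkR Y' D (hYEA.mono hY'Y) hY'c (hEA.mono (hDK.trans inf_le_left)) hDc fun y hy d hd => cYD y (hY'Y hy) d hd
      have s4 := mkR D D₀ (hEA.mono (hDK.trans inf_le_left)) hDc (hEA.mono hD₀E) hD₀c fun d hd b hb => (hEA d (hDK hd).1).2 b (hD₀E hb)
      exact (((Relation.ReflTransGen.single s1).tail s2).tail s3).tail s4
    intro A B hA hA8 hB hB8
    have hsym : ∀ C D, R C D → R D C := fun C D h => ⟨h.2.2.1, h.2.2.2.1, h.1, h.2.1, by
      rw [Subgroup.commutator_comm]; exact h.2.2.2.2⟩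
    have hrev : ∀ C D, Relation.ReflTransGen R C D → Relation.ReflTransGen R D C := fun C D h => by
      induction h with
      | refl => exact Relation.ReflTransGen.refl
      | tail _ hbc ih => exact Relation.ReflTransGen.head (hsym _ _ hbc) ih
    exact (key A hA hA8).trans (hrev _ _ (key B hB hB8))
  · intro V hV hV4
    have hVA := toEA V hV
    by_cases hVE : V ≤ E
    · haveI : Fact (Nat.Prime 2) := ⟨Nat.prime_two⟩
      obtain ⟨A, hAc, hVA'⟩ := Sylow.exists_subgroup_card_pow_prime_le (G := ↥E) 2 (n := 2) (m := 3)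
        (by
          obtain ⟨j, hj⟩ := (hX.to_subgroup E).exists_card_eq
          rw [hj] at hE32 ⊢
          exact pow_dvd_pow 2 ((Nat.pow_le_pow_iff_right (by norm_num : 1 < 2)).mp (le_trans (by norm_num) hE32)))
        (V.subgroupOf E) (by rw [Nat.card_congr (Subgroup.subgroupOfEquivOfLe hVE).toEquiv, hV4]; norm_num) (by norm_num)
      refine ⟨A.map E.subtype, fun x hx => ⟨⟨x, hVE hx⟩, hVA' hx, rfl⟩, ofEA _ (hEA.mono (Subgroup.map_subtype_le _)), ?_⟩
      rw [Subgroup.card_map_of_injective E.subtype_injective, hAc]; norm_num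
    · obtain ⟨a, haV, haE⟩ := SetLike.not_le_iff_exists.mp hVE
      obtain ⟨b, hbV, hba⟩ : ∃ b ∈ V, b ∉ Subgroup.zpowers a := by
        by_contra hall
        push_neg at hall
        have := Subgroup.card_le_of_le hall
        rw [Nat.card_zpowers] at this
        have := Nat.le_of_dvd (by norm_num) (orderOf_dvd_of_pow_eq_one (show a ^ 2 = 1 by rw [sq, (hVA a haV).1]))
        omega
      set W := E ⊓ Subgroup.centralizer ({a} : Set X) ⊓ Subgroup.centralizer ({b} : Set X) with hW
      have hW4 : 2 ^ 2 ≤ Nat.card ↥W := hstep b (hVA b hbV).1 _ 2 inf_le_left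
        (hinv a b ((hVA a haV).2 b hbV) E (hN b)) (h1 a (hVA a haV).1)
      have hVeq : V = Subgroup.zpowers a ⊔ Subgroup.zpowers b := by
        symm
        refine Subgroup.eq_of_le_of_card_ge (sup_le (Subgroup.zpowers_le.mpr haV) (Subgroup.zpowers_le.mpr hbV)) ?_
        have h2 := CfsgLib.Base.FourChain.card_lt_sup (A := Subgroup.zpowers a) (B := Subgroup.zpowers b) (fun h => hba (h (Subgroup.mem_zpowers b)))
        have : 2 ≤ Nat.card ↥(Subgroup.zpowers a) := by
          rw [Nat.card_zpowers]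
          have := orderOf_pos a
          have : orderOf a ≠ 1 := fun h => haE (by rw [orderOf_eq_one_iff.mp h]; exact E.one_mem)
          omega
        omega
      obtain ⟨w, hwW, hwV⟩ : ∃ w ∈ W, w ∉ V := by
        by_contra hall
        push_neg at hall
        have h2 := Subgroup.eq_of_le_of_card_ge hall (by rw [hV4]; norm_num at hW4; omega)
        exact haE (h2 ▸ haV : a ∈ W).1.1
      have hw2 := (hEA w hwW.1.1).1
      have hcV : ∀ c ∈ V, c * w = w * c := by
        rw [hVeq]
        exact CfsgLib.Base.FourChain.commute_sup (hcz a E w hwW.1) (hcz b _ w hwW)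
      refine ⟨V ⊔ Subgroup.zpowers w, le_sup_left, ofEA _ (hVA.sup (CfsgLib.Base.FourChain.isEA_zpowers hw2) ?_), ?_⟩
      · intro c hc d hd
        obtain ⟨i, rfl⟩ := Subgroup.mem_zpowers_iff.mp hd
        exact ((show Commute c w from hcV c hc).zpow_right i).eq
      · refine le_antisymm ?_ ?_
        · have hnorm : V ≤ Subgroup.normalizer (Subgroup.zpowers w : Set X) := fun c hc =>
            Subgroup.centralizer_le_normalizer _ (Subgroup.mem_centralizer_iff.mpr fun d hd => by
              obtain ⟨i, rfl⟩ := Subgroup.mem_zpowers_iff.mp hd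
              exact ((show Commute w c from (hcV c hc).symm).zpow_left i).eq)
          have hsurj : Nat.card ↥(V ⊔ Subgroup.zpowers w) ≤ Nat.card (↥V × ↥(Subgroup.zpowers w)) := by
            refine Nat.card_le_card_of_surjective (fun q : ↥V × ↥(Subgroup.zpowers w) =>
              (⟨(q.1 : X) * q.2, Subgroup.mul_mem_sup q.1.2 q.2.2⟩ : ↥(V ⊔ Subgroup.zpowers w))) ?_
            rintro ⟨x, hx⟩
            rw [← SetLike.mem_coe, Subgroup.coe_mul_of_left_le_normalizer_right _ _ hnorm] at hx
            obtain ⟨c, hc, d, hd, rfl⟩ := hx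
            exact ⟨(⟨c, hc⟩, ⟨d, hd⟩), rfl⟩
          rw [Nat.card_prod, hV4, Nat.card_zpowers] at hsurj
          have := Nat.le_of_dvd (by norm_num) (orderOf_dvd_of_pow_eq_one (show w ^ 2 = 1 by rw [sq, hw2]))
          omega
        · have := CfsgLib.Base.FourChain.card_lt_sup (A := V) (B := Subgroup.zpowers w) (fun h => hwV (h (Subgroup.mem_zpowers w)))
          omega

end Cfsg.Agent.S1785
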