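import Cfsg.Statements.S1850
import Cfsg.Agent.Inv.CharPLocal
-- import your own Cfsg.Agent.* helpers here

set_option autoImplicit false
open Cfsg

namespace Cfsg.Agent.S1850

/-- The characteristic 2 property climbs from the normalizer of a subgroup of a `2`-group `U` to that of `U`. -/
theorem climb {G : Type*} [Group G] [Finite G] {U U₀ : Subgroup G} (hU : IsPGroup 2 ↥U) (h0 : U₀ ≤ U)
    (hc : Subgroup.centralizer (Cfsg.pCore 2 ↥(Subgroup.normalizer (U₀ : Set G)) : Set ↥(Subgroup.normalizer (U₀ : Set G))) ≤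
      Cfsg.pCore 2 ↥(Subgroup.normalizer (U₀ : Set G))) :
    Subgroup.centralizer (Cfsg.pCore 2 ↥(Subgroup.normalizer (U : Set G)) : Set ↥(Subgroup.normalizer (U : Set G))) ≤
      Cfsg.pCore 2 ↥(Subgroup.normalizer (U : Set G)) := by
  haveI : Fact (Nat.Prime 2) := ⟨Nat.prime_two⟩
  obtain ⟨W, hW⟩ := (Set.toFinite {W : Subgroup G | U₀ ≤ W ∧ W ≤ U ∧
    Subgroup.centralizer (Cfsg.pCore 2 ↥(Subgroup.normalizer (W : Set G)) : Set ↥(Subgroup.normalizer (W : Set G))) ≤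
      Cfsg.pCore 2 ↥(Subgroup.normalizer (W : Set G))}).exists_maximal ⟨U₀, le_rfl, h0, hc⟩
  obtain ⟨hW0, hWU, hWc⟩ := hW.1
  by_cases he : W = U
  · rwa [he] at hWc
  exfalso
  haveI : Group.IsNilpotent ↥U := hU.isNilpotent
  have hlt : W.subgroupOf U < ⊤ := lt_top_iff_ne_top.mpr (fun h =>
    he (le_antisymm hWU (Subgroup.subgroupOf_eq_top.mp h)))
  obtain ⟨⟨y, hyU⟩, hyN, hyW⟩ := SetLike.exists_of_lt (Group.normalizerCondition_of_isNilpotent _ hlt)
  have hyNW : y ∈ Subgroup.normalizer (W : Set G) := by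
    rw [Subgroup.mem_normalizer_iff]
    intro w
    constructor
    · intro hw
      exact (Subgroup.mem_normalizer_iff.mp hyN ⟨w, hWU hw⟩).mp hw
    · intro hw
      have hwU : w ∈ U := by
        have := U.mul_mem (U.mul_mem (U.inv_mem hyU) (hWU hw)) hyU
        rwa [show y⁻¹ * (y * w * y⁻¹) * y = w by group] at this
      exact (Subgroup.mem_normalizer_iff.mp hyN ⟨w, hwU⟩).mpr hw
  set W' := U ⊓ Subgroup.normalizer (W : Set G) with hW'
  have hWW' : W ≤ W' := le_inf hWU Subgroup.le_normalizer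
  have h1 := CfsgLib.Inv.charP_normalizer hWc (hU.to_le (inf_le_left : W' ≤ U)) inf_le_right
    ((Subgroup.centralizer_le hWW').trans (Subgroup.centralizer_le_normalizer _))
  exact hyW (hW.2 (show W' ∈ _ from ⟨hW0.trans hWW', inf_le_left, h1⟩) hWW' ⟨hyU, hyNW⟩)

end Cfsg.Agent.S1850

namespace Cfsg.Agent.S1850

/-- Let G be a non-abelian finite simple QTKE-group and T a Sylow 2-subgroup of G. If U is a nontrivial 2-subgroup of G with U ∩ Z(T) ≠ 1, then F*(N_G(U)) = O₂(N_G(U)). -/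
theorem result {G : Type*} [Group G] [Finite G] [IsSimpleGroup G]
    (hG : ¬ IsMulCommutative G) (hQ : Cfsg.IsQTKE G) (T : Sylow 2 G) (U : Subgroup G)
    (hU : IsPGroup 2 ↥U) (hZ : U ⊓ ((T : Subgroup G) ⊓ Subgroup.centralizer ((T : Subgroup G) : Set G)) ≠ ⊥) :
    Subgroup.normalizer (U : Set G) ∈ Cfsg.calHe G := by
  classical
  haveI : Fact (Nat.Prime 2) := ⟨Nat.prime_two⟩
  obtain ⟨-, -, hev⟩ := hQ
  set D := U ⊓ ((T : Subgroup G) ⊓ Subgroup.centralizer ((T : Subgroup G) : Set G)) with hD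
  haveI : Nontrivial ↥D := (Subgroup.nontrivial_iff_ne_bot D).mpr hZ
  obtain ⟨k, hk, hcard⟩ := (hU.to_le (inf_le_left : D ≤ U)).nontrivial_iff_card.mp inferInstance
  obtain ⟨w, hw⟩ := exists_prime_orderOf_dvd_card' (G := ↥D) 2 (hcard ▸ dvd_pow_self 2 hk.ne')
  obtain ⟨z, hzU, hzT, hzc, hz⟩ : ∃ z : G, z ∈ U ∧ z ∈ (T : Subgroup G) ∧
      z ∈ Subgroup.centralizer ((T : Subgroup G) : Set G) ∧ orderOf z = 2 :=
    ⟨(w : G), w.2.1, w.2.2.1, w.2.2.2, by rw [Subgroup.orderOf_coe]; exact hw⟩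
  set Z := Subgroup.zpowers z with hZdef
  have hZp : IsPGroup 2 ↥Z := IsPGroup.of_card (n := 1) (by rw [Nat.card_zpowers, hz]; norm_num)
  have hZ1 : Z ≠ ⊥ := by
    rw [Ne, Subgroup.zpowers_eq_bot]
    intro h; rw [h, orderOf_one] at hz; norm_num at hz
  have hTN : (T : Subgroup G) ≤ Subgroup.normalizer (Z : Set G) := by
    intro s hs
    refine Subgroup.centralizer_le_normalizer _ (Subgroup.mem_centralizer_iff.mpr fun w hw => ?_)
    obtain ⟨i, rfl⟩ := Subgroup.mem_zpowers_iff.mp hw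
    exact (Commute.zpow_left (show Commute z s from (Subgroup.mem_centralizer_iff.mp hzc s hs).symm) i).eq
  have hc : Subgroup.centralizer (Cfsg.pCore 2 ↥(Subgroup.normalizer (Z : Set G)) : Set ↥(Subgroup.normalizer (Z : Set G))) ≤
      Cfsg.pCore 2 ↥(Subgroup.normalizer (Z : Set G)) := hev _ ⟨Z, hZp, hZ1, rfl⟩ ⟨T, hTN⟩
  exact CfsgLib.Inv.genFitting_eq_pCore_iff.mpr (climb hU (Subgroup.zpowers_le.mpr hzU) hc)

end Cfsg.Agent.S1850
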