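import Cfsg.Statements.S1851
import Cfsg.Agent.Solv.CompBasic
import Cfsg.Agent.Solv.Basic

set_option autoImplicit false
open Cfsg
open scoped commutatorElement

namespace Cfsg.Agent.S1851

section Helpers

open scoped commutatorElement Pointwise
open CfsgLib.Solv CfsgLib.Inv

variable {G : Type*} [Group G]

/-- a perfect group has no nontrivial commutator map into a centralised abelian set -/
theorem comm_trivial {K : Subgroup G} (hK : ⁅K, K⁆ = K) {v : G} {C : Subgroup G}
    (hC : ∀ l ∈ K, ⁅l, v⁆ ∈ C) (hCab : ∀ a ∈ C, ∀ b ∈ C, a * b = b * a)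
    (hCK : ∀ l ∈ K, ∀ c ∈ C, l * c = c * l) : ∀ l ∈ K, l * v = v * l := by
  have hmul : ∀ a ∈ K, ∀ b ∈ K, ⁅a * b, v⁆ = ⁅a, v⁆ * ⁅b, v⁆ := fun a ha b hb => by
    have h := hCK a ha _ (hC b hb)
    calc ⁅a * b, v⁆ = a * ⁅b, v⁆ * (v * a⁻¹ * v⁻¹) := by simp only [commutatorElement_def]; group
      _ = ⁅b, v⁆ * ⁅a, v⁆ := by rw [h]; simp only [commutatorElement_def]; group
      _ = ⁅a, v⁆ * ⁅b, v⁆ := hCab _ (hC b hb) _ (hC a ha)
  let f : K →* G :=
    { toFun := fun l => ⁅(l : G), v⁆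
      map_one' := by simp
      map_mul' := fun a b => hmul _ a.2 _ b.2 }
  have hperf : commutator K = ⊤ := by
    apply Subgroup.map_injective K.subtype_injective
    rw [commutator_def, Subgroup.map_commutator, ← MonoidHom.range_eq_map, Subgroup.range_subtype]
    exact hK
  intro l hl
  have h : ⁅l, v⁆ = 1 :=
    hom_eq_one_of_perfect hperf f (fun a b => hCab _ (hC _ a.2) _ (hC _ b.2)) ⟨l, hl⟩
  exact commutatorElement_eq_one_iff_mul_comm.mp h

theorem conj_mem_of_perfect {K Y : Subgroup G} [Group.IsSolvable Y] (hK : ⁅K, K⁆ = K)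
    (hY : Y ≤ Subgroup.normalizer (K : Set G)) (x : G)
    (hx : K.map (MulAut.conj x).toMonoidHom ≤ K ⊔ Y) : K.map (MulAut.conj x).toMonoidHom ≤ K := by
  set M := K ⊔ Y
  haveI : (K.subgroupOf M).Normal := (Subgroup.normal_subgroupOf_iff_le_normalizer le_sup_left).mpr
    (sup_le Subgroup.le_normalizer hY)
  haveI : Group.IsSolvable (M ⧸ K.subgroupOf M) := by
    refine Group.isSolvable_of_surjective (f := (QuotientGroup.mk' (K.subgroupOf M)).comp
      (Subgroup.inclusion (le_sup_right : Y ≤ M))) fun q => ?_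
    obtain ⟨⟨m, hm⟩, rfl⟩ := QuotientGroup.mk'_surjective _ q
    have hm' : m ∈ Y ⊔ K := by rw [sup_comm]; exact hm
    obtain ⟨y, hy, k, hk, rfl⟩ : ∃ y ∈ Y, ∃ k ∈ K, y * k = m := by
      rw [← SetLike.mem_coe, Subgroup.coe_mul_of_left_le_normalizer_right Y K hY] at hm'
      exact hm'
    refine ⟨⟨y, hy⟩, ?_⟩
    apply QuotientGroup.eq.mpr
    show ((⟨y, Subgroup.mem_sup_right hy⟩ : M)⁻¹ * ⟨y * k, hm⟩) ∈ K.subgroupOf M
    rw [Subgroup.mem_subgroupOf]
    simpa using hk
  set K' := (K.map (MulAut.conj x).toMonoidHom).subgroupOf M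
  have hK' : ⁅K', K'⁆ = K' := by
    apply Subgroup.map_injective M.subtype_injective
    rw [Subgroup.map_commutator, Subgroup.map_subgroupOf_eq_of_le hx, ← Subgroup.map_commutator, hK]
  obtain ⟨n, hn⟩ := (Group.isSolvable_def (M ⧸ K.subgroupOf M)).mp inferInstance
  have hle : ∀ n, K'.map (QuotientGroup.mk' (K.subgroupOf M)) ≤ derivedSeries (M ⧸ K.subgroupOf M) n := by
    intro n
    induction n with
    | zero => simp
    | succ n ih =>
      rw [derivedSeries_succ, ← hK', Subgroup.map_commutator]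
      exact Subgroup.commutator_mono ih ih
  intro y hy
  have h := hle n (Subgroup.mem_map_of_mem _ (show (⟨y, hx hy⟩ : M) ∈ K' from hy))
  rw [hn, Subgroup.mem_bot] at h
  exact (QuotientGroup.eq_one_iff (N := K.subgroupOf M) ⟨y, hx hy⟩).mp h

theorem normalizes_perfect_subnormal [Finite G] {X : Subgroup G} [X.Normal] [Group.IsSolvable X]
    {A : Subgroup G} (hA : A.IsSubnormal) :
    ∀ K ≤ A, ⁅K, K⁆ = K → X ⊓ A ≤ Subgroup.normalizer (K : Set G) →
      X ≤ Subgroup.normalizer (K : Set G) := by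
  induction hA with
  | top => intro K _ _ h; rwa [inf_top_eq] at h
  | step A B hAB _ hn ih =>
    intro K hKA hK hXA
    refine ih K (hKA.trans hAB) hK fun x hx => ?_
    obtain ⟨hxX, hxB⟩ := Subgroup.mem_inf.mp hx
    haveI := hn
    haveI : Group.IsSolvable (X ⊓ A : Subgroup G) :=
      Group.isSolvable_of_isSolvable_injective (Subgroup.inclusion_injective (inf_le_left : X ⊓ A ≤ X))
    refine mem_normalizer_of_conj_smul_eq (Subgroup.eq_of_le_of_card_ge ?_ (by rw [card_conj_smul]))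
    rw [conj_smul_eq_map]
    refine conj_mem_of_perfect hK hXA x ?_
    rintro _ ⟨k, hk, rfl⟩
    have e : x * k * x⁻¹ = k * (k⁻¹ * x * k * x⁻¹) := by group
    show x * k * x⁻¹ ∈ _
    rw [e]
    refine Subgroup.mul_mem_sup hk (Subgroup.mem_inf.mpr ⟨?_, ?_⟩)
    · exact mul_mem (by simpa using (inferInstance : X.Normal).conj_mem x hxX k⁻¹) (inv_mem hxX)
    · have h1 : x * k * x⁻¹ ∈ A := by
        have := hn.conj_mem ⟨k, hAB (hKA hk)⟩ (by simpa [Subgroup.mem_subgroupOf] using hKA hk) ⟨x, hxB⟩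
        simpa [Subgroup.mem_subgroupOf] using this
      have := mul_mem (inv_mem (hKA hk)) h1
      simpa [mul_assoc] using this

theorem p2_mem [Finite G] {J : Subgroup G} {x : G} (hx : x ∈ Cfsg.pCoreTwoOf J) : x ∈ J :=
  Subgroup.map_subtype_le _ hx

theorem p2_isPGroup [Finite G] (J : Subgroup G) : IsPGroup 2 (Cfsg.pCoreTwoOf J) := by
  haveI := Fact.mk Nat.prime_two
  exact (pCore_isPGroup J 2).map _

theorem p2_normal [Finite G] (J : Subgroup G) : J ≤ Subgroup.normalizer (Cfsg.pCoreTwoOf J : Set G) := by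
  haveI := (pCore_normal (p := 2) (G := J))
  intro j hj
  refine Subgroup.mem_normalizer_iff.mpr fun z => ⟨?_, ?_⟩
  · rintro ⟨w, hw, rfl⟩
    exact ⟨⟨j, hj⟩ * w * ⟨j, hj⟩⁻¹, (inferInstance : (Cfsg.pCore 2 J).Normal).conj_mem w hw _, rfl⟩
  · rintro ⟨w, hw, e⟩
    refine ⟨⟨j, hj⟩⁻¹ * w * (⟨j, hj⟩⁻¹)⁻¹, (inferInstance : (Cfsg.pCore 2 J).Normal).conj_mem w hw _, ?_⟩
    simp only [map_mul, map_inv, Subgroup.subtype_apply, inv_inv] at e ⊢
    rw [e]; group

theorem le_p2 [Finite G] {J X : Subgroup G} (hXJ : X ≤ J) (hX : IsPGroup 2 X)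
    (hn : J ≤ Subgroup.normalizer (X : Set G)) : X ≤ Cfsg.pCoreTwoOf J := by
  haveI hXn : (X.subgroupOf J).Normal := (Subgroup.normal_subgroupOf_iff_le_normalizer hXJ).mpr hn
  have hp : IsPGroup 2 (X.subgroupOf J) := hX.comap_of_injective J.subtype J.subtype_injective
  have h : X.subgroupOf J ≤ Cfsg.pCore 2 J := le_pCore (hN := hXn) hp
  have := Subgroup.map_mono (f := J.subtype) h
  rwa [Subgroup.map_subgroupOf_eq_of_le hXJ] at this

theorem p2_le_sylow [Finite G] {T : Sylow 2 G} {J : Subgroup G} (hT : (T : Subgroup G) ≤ J) :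
    Cfsg.pCoreTwoOf J ≤ (T : Subgroup G) := by
  haveI := Fact.mk Nat.prime_two
  have h := Subgroup.map_mono (f := J.subtype) (pCore_le_sylow (p := 2) (T.subtype hT))
  rwa [Sylow.coe_subtype, Subgroup.map_subgroupOf_eq_of_le hT] at h

theorem char_two [Finite G] (hE : Cfsg.IsOfEvenCharacteristic G) (T : Sylow 2 G) {J : Subgroup G}
    (hT : (T : Subgroup G) ≤ J) (hne : Cfsg.pCore 2 J ≠ ⊥) :
    Subgroup.centralizer (Cfsg.pCore 2 J : Set J) ≤ Cfsg.pCore 2 J := by
  haveI := Fact.mk Nat.prime_two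
  set N := Subgroup.normalizer (Cfsg.pCoreTwoOf J : Set G) with hN
  have hJN : J ≤ N := p2_normal J
  have hne' : Cfsg.pCoreTwoOf J ≠ ⊥ := fun h =>
    hne ((Subgroup.map_eq_bot_iff_of_injective _ J.subtype_injective).mp h)
  have hchar := hE N ⟨_, p2_isPGroup J, hne', rfl⟩ ⟨T, hT.trans hJN⟩
  have hNJ : Cfsg.pCoreTwoOf N ≤ Cfsg.pCoreTwoOf J :=
    le_p2 ((p2_le_sylow (hT.trans hJN)).trans hT) (p2_isPGroup N) (hJN.trans (p2_normal N))
  intro x hx
  have h1 : (⟨x.1, hJN x.2⟩ : N) ∈ Cfsg.pCore 2 N := hchar (Subgroup.mem_centralizer_iff.mpr fun z hz => by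
    obtain ⟨w, hw, e⟩ := hNJ (Subgroup.mem_map_of_mem N.subtype hz)
    have := congrArg Subtype.val (Subgroup.mem_centralizer_iff.mp hx w hw)
    apply Subtype.ext
    simp only [Subgroup.coe_mul, Subgroup.subtype_apply] at this e ⊢
    rw [← e]; exact this)
  obtain ⟨w, hw, e⟩ := hNJ (Subgroup.mem_map_of_mem N.subtype h1)
  rwa [show w = x from Subtype.ext e] at hw

/-- the members of `ℒ(G,T)` lie in `𝒳` -/
theorem calL_data [Finite G] (hE : Cfsg.IsOfEvenCharacteristic G) (T : Sylow 2 G) {L : Subgroup G}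
    (hL : L ∈ Cfsg.calL (T : Subgroup G)) :
    L ∈ Cfsg.calX G ∧ ⁅L, L⁆ = L ∧
      Cfsg.pCoreTwoOf (L ⊔ T) ≤ Subgroup.normalizer (L : Set G) ∧
      Cfsg.pCoreTwoOf L = Cfsg.pCoreTwoOf (L ⊔ T) ⊓ L := by
  haveI := Fact.mk Nat.prime_two
  obtain ⟨⟨hne, hperf, hsn, -⟩, -, hO⟩ := hL
  set H := L ⊔ (T : Subgroup G) with hH
  have hc := char_two hE T (le_sup_right : (T : Subgroup G) ≤ H) hO
  set L' := L.subgroupOf H with hL'
  have hLH : L ≤ H := le_sup_left
  have hperfL : ⁅L, L⁆ = L := by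
    have := congrArg (Subgroup.map H.subtype) hperf
    rwa [Subgroup.map_commutator, Subgroup.map_subgroupOf_eq_of_le hLH] at this
  have hLne : L ≠ ⊥ := fun h => hne (by rw [hL', h, Subgroup.bot_subgroupOf])
  haveI := (pCore_normal (p := 2) (G := H))
  haveI : Group.IsSolvable (Cfsg.pCore 2 H) := by
    haveI := (pCore_isPGroup H 2).isNilpotent; infer_instance
  have hnorm : Cfsg.pCore 2 H ≤ Subgroup.normalizer (L' : Set H) :=
    normalizes_perfect_subnormal hsn L' le_rfl hperf (inf_le_right.trans Subgroup.le_normalizer)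
  -- transfer to L
  let e := Subgroup.subgroupOfEquivOfLe hLH
  have hc' := charP_subnormal hc hsn
  have hgL : Cfsg.generalizedFittingSubgroup L = Cfsg.pCore 2 L :=
    genFitting_eq_pCore_iff.mpr (Coset.charP_equiv e hc')
  have hcore : Cfsg.pCoreTwoOf L = Cfsg.pCoreTwoOf H ⊓ L := by
    have h1 : (Cfsg.pCore 2 L').map L'.subtype = Cfsg.pCore 2 H ⊓ L' := by
      rw [← genFitting_eq_pCore_iff.mpr hc', ← genFitting_inf_subnormal hsn, genFitting_eq_pCore_iff.mpr hc]
    show (Cfsg.pCore 2 L).map L.subtype = _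
    rw [← CfsgLib.Solv.map_pCore_equiv (p := 2) e, Subgroup.map_map]
    have : L.subtype.comp e.toMonoidHom = H.subtype.comp L'.subtype := rfl
    rw [this, ← Subgroup.map_map, h1, Subgroup.map_inf _ _ _ H.subtype_injective,
      Subgroup.map_subgroupOf_eq_of_le hLH]
    rfl
  refine ⟨⟨hLne, ?_, hgL⟩, hperfL, ?_, hcore⟩
  · refine le_antisymm ((Subgroup.closure_le _).mpr fun x hx => hx.1) ?_
    -- quotient of a perfect group by the odd generated subgroup is a 2-group
    set O := Cfsg.oddGenerated L with hO'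
    have hOL : O ≤ L := (Subgroup.closure_le _).mpr fun x hx => hx.1
    haveI : (O.subgroupOf L).Normal := ⟨fun a ha l => by
      rw [Subgroup.mem_subgroupOf] at ha ⊢
      have hle : O ≤ O.comap (MulAut.conj (l : G)).toMonoidHom := (Subgroup.closure_le _).mpr fun y hy => by
        refine Subgroup.subset_closure ⟨mul_mem (mul_mem l.2 hy.1) (inv_mem l.2), ?_⟩
        show Odd (orderOf ((MulAut.conj (l : G)) y))
        rw [MulEquiv.orderOf_eq]; exact hy.2
      exact hle ha⟩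
    have hq : IsPGroup 2 (L ⧸ O.subgroupOf L) := by
      intro q
      obtain ⟨l, rfl⟩ := QuotientGroup.mk'_surjective _ q
      obtain ⟨k, m, hm, hkm⟩ := Nat.exists_eq_pow_mul_and_not_dvd (orderOf_pos l).ne' 2 (by norm_num)
      refine ⟨k, ?_⟩
      rw [← map_pow, QuotientGroup.mk'_apply, QuotientGroup.eq_one_iff, Subgroup.mem_subgroupOf]
      refine Subgroup.subset_closure ⟨(l ^ 2 ^ k).2, ?_⟩
      rw [Subgroup.orderOf_coe, orderOf_pow' l (pow_ne_zero k (by norm_num)), hkm,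
        Nat.gcd_mul_right_left, Nat.mul_div_cancel_left _ (pow_pos (by norm_num) k)]
      exact Nat.not_even_iff_odd.mp fun h => hm (even_iff_two_dvd.mp h)
    haveI := hq.isNilpotent
    obtain ⟨n, hn⟩ := (Group.isSolvable_def (L ⧸ O.subgroupOf L)).mp inferInstance
    have hper : commutator L = ⊤ := by
      apply Subgroup.map_injective L.subtype_injective
      rw [commutator_def, Subgroup.map_commutator, ← MonoidHom.range_eq_map, Subgroup.range_subtype]
      exact hperfL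
    have hds : ∀ n, derivedSeries L n = ⊤ := fun n => by
      induction n with
      | zero => rfl
      | succ n ih => rw [derivedSeries_succ, ih, ← commutator_def]; exact hper
    intro x hx
    have h := map_derivedSeries_le_derivedSeries (QuotientGroup.mk' (O.subgroupOf L)) n
      (Subgroup.mem_map_of_mem _ ((hds n).ge (Subgroup.mem_top (⟨x, hx⟩ : L))))
    rw [hn, Subgroup.mem_bot] at h
    exact (QuotientGroup.eq_one_iff (N := O.subgroupOf L) ⟨x, hx⟩).mp h
  · rintro _ ⟨w, hw, rfl⟩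
    have h := Subgroup.mem_normalizer_iff.mp (hnorm hw)
    refine Subgroup.mem_normalizer_iff.mpr fun z => ⟨fun hz => ?_, fun hz => ?_⟩
    · exact (h ⟨z, hLH hz⟩).mp hz
    · have hzH : z ∈ H := by
        have := mul_mem (mul_mem (inv_mem w.2) (hLH hz)) w.2
        simpa [mul_assoc] using this
      exact (h ⟨z, hzH⟩).mpr hz

end Helpers

/-- Let G be a non-abelian finite simple QTKE-group and T a Sylow 2-subgroup of G, and let L be a member of ℒ_f(G, T) (a member of ℒ(G, T) that lies in 𝒳 — L ≠ 1, L = O²(L), F*(L) = O₂(L) — and acts nontrivially on Ω₁(Z(O₂(L)))). Then (1) every member K of ℒ(G, T) containing L is again in ℒ_f(G, T) (a sharper form of (1) also compares the modules [Ω₁(Z(R)), L] and [Ω₁(Z(R')), K] for suitable 2-subgroups R, R'; that comparison is not included); and (2) if L is maximal under inclusion among the members of ℒ_f(G, T), then L is a maximal member of ℒ(G, T), hence a member of ℒ_f*(G, T). -/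
theorem result {G : Type*} [Group G] [Finite G] [IsSimpleGroup G]
    (hG : ¬ IsMulCommutative G) (hQ : Cfsg.IsQTKE G) (T : Sylow 2 G) (L : Subgroup G)
    (hL : L ∈ Cfsg.calLf (T : Subgroup G)) :
    (∀ K ∈ Cfsg.calL (T : Subgroup G), L ≤ K → K ∈ Cfsg.calLf (T : Subgroup G)) ∧
    ((∀ K ∈ Cfsg.calLf (T : Subgroup G), L ≤ K → K = L) → L ∈ Cfsg.calLfMax (T : Subgroup G)) := by
  haveI := Fact.mk Nat.prime_two
  have hE := hQ.2.2
  have main : ∀ K ∈ Cfsg.calL (T : Subgroup G), L ≤ K → K ∈ Cfsg.calLf (T : Subgroup G) := by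
    intro K hK hLK
    obtain ⟨hKX, hKp, hKn, hKc⟩ := calL_data hE T hK
    obtain ⟨hLX, hLp, hLn, hLc⟩ := calL_data hE T hL.1
    refine ⟨hK, hKX, fun hV => hL.2.2 ?_⟩
    set H := L ⊔ (T : Subgroup G)
    set J := K ⊔ (T : Subgroup G)
    have hHJ : H ≤ J := sup_le_sup_right hLK _
    -- Ω₁ Z(O₂ ·)
    have hW : ∀ (Y : Subgroup G) (w : G),
        w ∈ Cfsg.omegaOne 2 (Cfsg.pCoreTwoOf Y ⊓ Subgroup.centralizer (Cfsg.pCoreTwoOf Y : Set G)) →
        w ∈ Cfsg.pCoreTwoOf Y ∧ (∀ z ∈ Cfsg.pCoreTwoOf Y, z * w = w * z) ∧ w ^ 2 = 1 := by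
      intro Y w hw
      refine Subgroup.closure_induction (p := fun w _ => w ∈ Cfsg.pCoreTwoOf Y ∧
        (∀ z ∈ Cfsg.pCoreTwoOf Y, z * w = w * z) ∧ w ^ 2 = 1) ?_ ?_ ?_ ?_ hw
      · rintro v ⟨⟨h1, h2⟩, h3⟩
        exact ⟨h1, fun z hz => Subgroup.mem_centralizer_iff.mp h2 z hz, h3⟩
      · exact ⟨one_mem _, fun z _ => by simp, one_pow 2⟩
      · rintro a b - - ⟨a1, a2, a3⟩ ⟨b1, b2, b3⟩
        refine ⟨mul_mem a1 b1, fun z hz => ?_, ?_⟩
        · rw [← mul_assoc, a2 z hz, mul_assoc, b2 z hz, mul_assoc]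
        · rw [(show Commute a b from b2 a a1).mul_pow, a3, b3, one_mul]
      · rintro a - ⟨a1, a2, a3⟩
        exact ⟨inv_mem a1, fun z hz => ((show Commute z a from a2 z hz).inv_right).eq, by rw [inv_pow, a3, inv_one]⟩
    -- K centralises Ω₁ Z(O₂ J)
    have hKV : ∀ w ∈ Cfsg.omegaOne 2 (Cfsg.pCoreTwoOf K ⊓ Subgroup.centralizer (Cfsg.pCoreTwoOf K : Set G)),
        ∀ k ∈ K, k * w = w * k := fun w hw k hk => by
      have := (Subgroup.commutator_eq_bot_iff_le_centralizer.mp hV) hw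
      exact Subgroup.mem_centralizer_iff.mp this k hk
    have hKW : ∀ w ∈ Cfsg.omegaOne 2 (Cfsg.pCoreTwoOf J ⊓ Subgroup.centralizer (Cfsg.pCoreTwoOf J : Set G)),
        ∀ k ∈ K, k * w = w * k := by
      intro w hw
      obtain ⟨w1, w2, w3⟩ := hW J w hw
      refine comm_trivial hKp (C := Cfsg.omegaOne 2 (Cfsg.pCoreTwoOf K ⊓ Subgroup.centralizer (Cfsg.pCoreTwoOf K : Set G)))
        (fun k hk => ?_) (fun a ha b hb => (hW K b hb).2.1 a (hW K a ha).1) (fun k hk c hc => hKV c hc k hk)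
      have hkJ : k ∈ J := Subgroup.mem_sup_left hk
      have h1 : k * w * k⁻¹ ∈ Cfsg.pCoreTwoOf J := (Subgroup.mem_normalizer_iff.mp (p2_normal J hkJ) w).mp w1
      have h2 : ⁅k, w⁆ ∈ Cfsg.pCoreTwoOf K := by
        rw [hKc]
        refine Subgroup.mem_inf.mpr ⟨mul_mem h1 (inv_mem w1), ?_⟩
        have := (Subgroup.mem_normalizer_iff.mp (hKn w1) k⁻¹).mp (inv_mem hk)
        rw [commutatorElement_def, mul_assoc, mul_assoc, ← mul_assoc w]
        exact mul_mem hk this
      have h4 : ∀ z ∈ Cfsg.pCoreTwoOf J, z * (k * w * k⁻¹) = k * w * k⁻¹ * z := fun z hz => by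
        have h5 := w2 (k⁻¹ * z * k) (by
          have := (Subgroup.mem_normalizer_iff.mp (p2_normal J (inv_mem hkJ)) z).mp hz
          simpa using this)
        calc z * (k * w * k⁻¹) = k * (k⁻¹ * z * k * w) * k⁻¹ := by group
          _ = _ := by rw [h5]; group
      refine Subgroup.subset_closure ⟨⟨h2, Subgroup.mem_centralizer_iff.mpr fun z hz => ?_⟩, ?_⟩
      · have hz' : z ∈ Cfsg.pCoreTwoOf J := by
          have h : z ∈ Cfsg.pCoreTwoOf K := hz
          rw [hKc] at h; exact h.1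
        exact ((show Commute z (k * w * k⁻¹) from h4 z hz').mul_right
          ((show Commute z w from w2 z hz').inv_right)).eq
      · rw [commutatorElement_def, ((show Commute (k * w * k⁻¹) w from (h4 w w1).symm).inv_right).mul_pow,
          conj_pow, w3, mul_one, mul_inv_cancel, inv_pow, w3, inv_one, one_mul]
    -- L centralises Ω₁ Z(O₂ L)
    refine Subgroup.commutator_eq_bot_iff_le_centralizer.mpr fun v hv =>
      Subgroup.mem_centralizer_iff.mpr fun l hl => ?_
    by_contra hvl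
    set V1 := Cfsg.omegaOne 2 (Cfsg.pCoreTwoOf L ⊓ Subgroup.centralizer (Cfsg.pCoreTwoOf L : Set G))
    set X := Cfsg.pCoreTwoOf H
    have hLX : Cfsg.pCoreTwoOf L ≤ X := hLc ▸ inf_le_left
    have hconjL : ∀ x ∈ X, ∀ u ∈ Cfsg.pCoreTwoOf L, x * u * x⁻¹ ∈ Cfsg.pCoreTwoOf L := fun x hx u hu => by
      rw [hLc] at hu ⊢
      exact Subgroup.mem_inf.mpr ⟨mul_mem (mul_mem hx hu.1) (inv_mem hx), (Subgroup.mem_normalizer_iff.mp (hLn hx) u).mp hu.2⟩
    have hconj : ∀ x ∈ X, ∀ u ∈ V1, x * u * x⁻¹ ∈ V1 := by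
      intro x hx u hu
      obtain ⟨u1, u2, u3⟩ := hW L u hu
      refine Subgroup.subset_closure ⟨⟨hconjL x hx u u1, Subgroup.mem_centralizer_iff.mpr fun z hz => ?_⟩,
        by rw [conj_pow, u3, mul_one, mul_inv_cancel]⟩
      have h5 := u2 _ (hconjL x⁻¹ (inv_mem hx) z hz)
      rw [inv_inv] at h5
      calc z * (x * u * x⁻¹) = x * (x⁻¹ * z * x * u) * x⁻¹ := by group
        _ = _ := by rw [h5]; group
    -- descending sequence inside the lower central series of X
    haveI : Group.IsNilpotent X := (p2_isPGroup H).isNilpotent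
    have key : ∀ n, ∀ u : X, u ∈ (⊤ : Subgroup X).lowerCentralSeries n → (u : G) ∈ V1 →
        ∀ b ∈ L, b * (u : G) = (u : G) * b := by
      obtain ⟨N, hN⟩ := (Subgroup.isNilpotent_iff_lowerCentralSeries (S := (⊤ : Subgroup X))).mp
        (Group.isNilpotent_top.mpr inferInstance)
      suffices h : ∀ d n, N ≤ n + d → ∀ u : X, u ∈ (⊤ : Subgroup X).lowerCentralSeries n → (u : G) ∈ V1 →
          ∀ b ∈ L, b * (u : G) = (u : G) * b from fun n => h N n (Nat.le_add_left N n)
      intro d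
      induction d with
      | zero =>
        intro n hn u hu _ b _
        have := Subgroup.lowerCentralSeries_antitone (⊤ : Subgroup X) (show N ≤ n by omega) hu
        rw [hN, Subgroup.mem_bot] at this
        subst this; simp
      | succ d ih =>
        intro n hn u hu huV
        have hux : ∀ x : X, ⁅(u : G), (x : G)⁆ ∈ V1 ∧ ∀ b ∈ L, b * ⁅(u : G), (x : G)⁆ = ⁅(u : G), (x : G)⁆ * b := fun x => by
          have h1 : ⁅(u : G), (x : G)⁆ ∈ V1 := by
            have := mul_mem huV (hconj x x.2 _ (inv_mem huV))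
            simpa [commutatorElement_def, mul_assoc] using this
          refine ⟨h1, ?_⟩
          have h2 : ⁅u, x⁆ ∈ (⊤ : Subgroup X).lowerCentralSeries (n + 1) := by
            rw [Subgroup.lowerCentralSeries_succ]
            exact Subgroup.commutator_mem_commutator hu (Subgroup.mem_top x)
          exact ih (n + 1) (by omega) ⁅u, x⁆ h2 h1
        obtain ⟨u1, u2, u3⟩ := hW L _ huV
        -- [b,u] is fixed by X
        refine comm_trivial hLp (C := Cfsg.omegaOne 2 (Cfsg.pCoreTwoOf J ⊓ Subgroup.centralizer (Cfsg.pCoreTwoOf J : Set G)))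
          (fun b hb => ?_) (fun a ha c hc => (hW J c hc).2.1 a (hW J a ha).1) (fun b hb c hc => hKW c hc b (hLK hb))
        have hbn : ∀ z ∈ Cfsg.pCoreTwoOf L, b * z * b⁻¹ ∈ Cfsg.pCoreTwoOf L := fun z hz =>
          (Subgroup.mem_normalizer_iff.mp (p2_normal L hb) z).mp hz
        have hfix : ∀ x ∈ X, x * (b * u * b⁻¹ * (u : G)⁻¹) = b * u * b⁻¹ * (u : G)⁻¹ * x := by
          intro x hx
          have hxb : x⁻¹ * b * x * b⁻¹ ∈ Cfsg.pCoreTwoOf L := by
            rw [hLc]
            refine Subgroup.mem_inf.mpr ⟨?_, ?_⟩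
            · have hbH : b ∈ H := Subgroup.mem_sup_left hb
              have := mul_mem (inv_mem hx) ((Subgroup.mem_normalizer_iff.mp (p2_normal H hbH) x).mp hx)
              simpa [mul_assoc] using this
            · have := mul_mem ((Subgroup.mem_normalizer_iff.mp (hLn (inv_mem hx)) b).mp hb) (inv_mem hb)
              simpa [mul_assoc] using this
          obtain ⟨hc1, hc2⟩ := hux ⟨x⁻¹, inv_mem hx⟩
          -- conjugation by x⁻¹
          set c := ⁅(u : G), x⁻¹⁆ with hc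
          have e1 : x⁻¹ * u * x = c⁻¹ * u := by rw [hc, commutatorElement_def]; group
          set q := x⁻¹ * b * x * b⁻¹ with hq
          have e2 : x⁻¹ * b * x = q * b := by rw [hq]; group
          have hqu : Commute q (b * u * b⁻¹) := by
            have h := u2 _ ((Subgroup.mem_normalizer_iff.mp (p2_normal L (inv_mem hb)) q).mp hxb)
            rw [inv_inv] at h
            show q * (b * u * b⁻¹) = b * u * b⁻¹ * q
            calc q * (b * u * b⁻¹) = b * (b⁻¹ * q * b * u) * b⁻¹ := by group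
              _ = _ := by rw [h]; group
          have hqc : Commute q c := (hW L c hc1).2.1 q hxb
          have hbc : Commute b c := hc2 b hb
          have h6 : Commute c (b * u * b⁻¹) := (hW L c hc1).2.1 _ (hbn _ u1) |>.symm
          have main : x⁻¹ * (b * u * b⁻¹ * (u : G)⁻¹) * x = b * u * b⁻¹ * (u : G)⁻¹ := by
            calc x⁻¹ * (b * u * b⁻¹ * (u : G)⁻¹) * x
                = (x⁻¹ * b * x) * (x⁻¹ * u * x) * (x⁻¹ * b * x)⁻¹ * (x⁻¹ * u * x)⁻¹ := by group
              _ = q * (b * c⁻¹) * u * b⁻¹ * q⁻¹ * ((u : G)⁻¹ * c) := by rw [e2, e1]; group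
              _ = (q * c⁻¹) * (b * u * b⁻¹) * q⁻¹ * ((u : G)⁻¹ * c) := by rw [(hbc.inv_right).eq]; group
              _ = c⁻¹ * (q * (b * u * b⁻¹)) * q⁻¹ * ((u : G)⁻¹ * c) := by rw [(hqc.inv_right).eq]; group
              _ = c⁻¹ * (b * u * b⁻¹) * ((u : G)⁻¹ * c) := by rw [hqu.eq]; group
              _ = (b * u * b⁻¹) * c⁻¹ * ((u : G)⁻¹ * c) := by rw [h6.inv_left.eq]
              _ = b * u * b⁻¹ * (u : G)⁻¹ := by
                rw [((show Commute (u : G) c from (hW L c hc1).2.1 _ u1).inv_left).eq]; group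
          calc x * (b * u * b⁻¹ * (u : G)⁻¹) = x * (x⁻¹ * (b * u * b⁻¹ * (u : G)⁻¹) * x) := by rw [main]
            _ = _ := by group
        have hmem : b * u * b⁻¹ * (u : G)⁻¹ ∈ Cfsg.pCoreTwoOf L := mul_mem (hbn _ u1) (inv_mem u1)
        have hJX : Cfsg.pCoreTwoOf J ≤ X := le_p2
          ((p2_le_sylow (le_sup_right : (T : Subgroup G) ≤ J)).trans le_sup_right) (p2_isPGroup J)
          (hHJ.trans (p2_normal J))
        have hinJ : b * u * b⁻¹ * (u : G)⁻¹ ∈ Cfsg.pCoreTwoOf J := by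
          have hT : b * u * b⁻¹ * (u : G)⁻¹ ∈ J := hHJ (p2_mem (hLX hmem))
          have hc := char_two hE T (le_sup_right : (T : Subgroup G) ≤ J) hK.2.2
          exact ⟨⟨_, hT⟩, hc (Subgroup.mem_centralizer_iff.mpr fun z hz => Subtype.ext
            (hfix z.1 (hJX (Subgroup.mem_map_of_mem _ hz)))), rfl⟩
        refine Subgroup.subset_closure ⟨⟨hinJ, Subgroup.mem_centralizer_iff.mpr fun z hz => hfix z (hJX hz)⟩, ?_⟩
        show ⁅b, (u : G)⁆ ^ 2 = 1
        rw [commutatorElement_def, ((show Commute (b * u * b⁻¹) u from u2 _ (hbn _ u1)).inv_right).mul_pow,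
          conj_pow, u3, mul_one, mul_inv_cancel, inv_pow, u3, inv_one, one_mul]
    exact hvl (key 0 ⟨v, hLX (hW L v hv).1⟩ (Subgroup.mem_top _) hv l hl)
  refine ⟨main, fun hmax => ⟨⟨hL.1, fun K hK hLK => hmax K (main K hK hLK) hLK⟩, hL.2⟩⟩

end Cfsg.Agent.S1851
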