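import Cfsg.Statements.S1892
import Cfsg.Agent.Perm.HallHigman
import Cfsg.Agent.Inv.WeakClosed

set_option autoImplicit false
open Cfsg
open scoped commutatorElement

namespace Cfsg.Agent.S1892

/-- Let S be a finite p-solvable group with no nontrivial normal subgroup of order prime to p, A a p-subgroup of S, and Q a nontrivial A-invariant subgroup of order prime to p with [A, Q] = Q. Then the commutator [O_p(S), A, Q] is nontrivial. -/
theorem result {S : Type*} [Group S] [Finite S] {p : ℕ} [Fact p.Prime]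
    (hS : Cfsg.IsPSolvable p S) (hred : Cfsg.pPrimeCore p S = ⊥)
    (A Q : Subgroup S) (hA : IsPGroup p A) (hQ : ¬ p ∣ Nat.card Q) (hQ1 : Q ≠ ⊥)
    (hinv : ∀ a ∈ A, ∀ x ∈ Q, a * x * a⁻¹ ∈ Q) (hAQ : ⁅A, Q⁆ = Q) :
    ⁅⁅Cfsg.pCore p S, A⁆, Q⁆ ≠ ⊥ := by
  classical
  intro hbot
  haveI hn : (Cfsg.pCore p S).Normal := CfsgLib.Solv.pCore_normal S p
  set P := Cfsg.pCore p S with hP
  have hPp : IsPGroup p ↥P := CfsgLib.Solv.pCore_isPGroup S p
  have hQn : ∀ B : Subgroup S, B ≤ Subgroup.normalizer (P : Set S) := fun B => by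
    rw [Subgroup.normalizer_eq_top]; exact le_top
  set M := ⁅P, A⁆ with hM
  have hMP : M ≤ P := Subgroup.commutator_le_left P A
  have hQM : Q ≤ Subgroup.normalizer (M : Set S) := le_trans (fun x hx => Subgroup.mem_centralizer_iff.2 fun m hm => by
    have h : ⁅m, x⁆ ∈ ⁅M, Q⁆ := Subgroup.commutator_mem_commutator hm hx
    rw [hbot, Subgroup.mem_bot, commutatorElement_eq_one_iff_mul_comm] at h
    exact h) (Subgroup.centralizer_le_normalizer _)
  have h3 := CfsgLib.Inv.three_subgroup_le (A := A) (B := Q) (C := P) (N := M)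
    (CfsgLib.Solv.right_le_normalizer_commutator P A) hQM (CfsgLib.Solv.left_le_normalizer_commutator P A)
    (Subgroup.commutator_mono (Subgroup.commutator_le_right Q P) le_rfl)
    (hbot.le.trans bot_le)
  rw [hAQ, Subgroup.commutator_comm] at h3
  have hcop : (Nat.card Q).Coprime (Nat.card ↥P) := by
    obtain ⟨k, hk⟩ := IsPGroup.iff_card.1 hPp
    rw [hk]
    exact Nat.Coprime.pow_right k ((Nat.Prime.coprime_iff_not_dvd Fact.out).2 hQ).symm
  haveI := hPp.isNilpotent
  have h4 := CfsgLib.Solv.commutator_commutator_right (A := Q) (K := P) (hQn Q) hcop (Or.inr inferInstance)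
  have h5 : ⁅P, Q⁆ = ⊥ := by
    rw [← h4, eq_bot_iff]
    exact (Subgroup.commutator_mono h3 le_rfl).trans hbot.le
  have h6 : Q ≤ P := fun x hx => CfsgLib.Perm.centralizer_pCore_le_of_pSolvable hS hred
    (Subgroup.mem_centralizer_iff.2 fun m hm => by
      have h : ⁅m, x⁆ ∈ ⁅P, Q⁆ := Subgroup.commutator_mem_commutator hm hx
      rw [h5, Subgroup.mem_bot, commutatorElement_eq_one_iff_mul_comm] at h
      exact h)
  exact hQ1 (by rw [← inf_eq_left.2 h6]; exact CfsgLib.Solv.inf_eq_bot_of_coprime_card hcop)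

end Cfsg.Agent.S1892
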