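import Cfsg.Statements.S1896
import Cfsg.Agent.Fus.MetacyclicTwoAut

set_option autoImplicit false
open Cfsg

namespace Cfsg.Agent.S1896

/-- A finite metacyclic 2-group whose automorphism group is not a 2-group is isomorphic to the quaternion group of order 8 or to a homocyclic abelian group Z_{2^n} × Z_{2^n}. -/
theorem result {X : Type*} [Group X] [Finite X] (hX : IsPGroup 2 X)
    (hm : Cfsg.IsMetacyclic X) (hA : ¬ IsPGroup 2 (MulAut X)) :
    Nonempty (X ≃* QuaternionGroup 2) ∨
      ∃ n : ℕ, Nonempty (X ≃* Multiplicative (ZMod (2 ^ n)) × Multiplicative (ZMod (2 ^ n))) := by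
  classical
  haveI : Fact (Nat.Prime 2) := ⟨Nat.prime_two⟩
  haveI : Finite (MulAut X) := inferInstanceAs (Finite (X ≃* X))
  obtain ⟨α, hodd, hα1⟩ : ∃ α : MulAut X, Odd (orderOf α) ∧ α ≠ 1 := by
    by_contra hall
    push Not at hall
    refine hA (IsPGroup.of_card (n := (Nat.card (MulAut X)).primeFactorsList.length)
      (Nat.eq_prime_pow_of_unique_prime_dvd Nat.card_pos.ne' fun {d} hd hdd => ?_))
    by_contra hd2
    haveI : Fact d.Prime := ⟨hd⟩
    obtain ⟨γ, hγ⟩ := exists_prime_orderOf_dvd_card' d hdd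
    rw [hall γ (by rw [hγ]; exact hd.odd_of_ne_two hd2), orderOf_one] at hγ
    exact hd.ne_one hγ.symm
  rcases CfsgLib.Fus.MetaTwo.shape_of_odd_aut hX hm α hodd hα1 with ⟨e, ⟨ε⟩⟩ | h
  · refine Or.inr ⟨e, ⟨ε.trans ?_⟩⟩
    exact
      { toFun := fun v => (Multiplicative.ofAdd (Multiplicative.toAdd v 0), Multiplicative.ofAdd (Multiplicative.toAdd v 1))
        invFun := fun q => Multiplicative.ofAdd ![Multiplicative.toAdd q.1, Multiplicative.toAdd q.2]
        left_inv := fun v => Multiplicative.toAdd.injective (funext fun i => by fin_cases i <;> rfl)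
        right_inv := fun q => rfl
        map_mul' := fun v w => rfl }
  · exact Or.inl h

end Cfsg.Agent.S1896
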