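import Cfsg.Statements.S1898
import Cfsg.Agent.Fus.MetacyclicTwoAut

set_option autoImplicit false
open Cfsg
open scoped commutatorElement

namespace Cfsg.Agent.S1898

/-- Let X be a finite 2-group whose derived subgroup is elementary abelian and central. Then the subgroup generated by the elements of order dividing 4 has exponent dividing 4, and every automorphism of X fixing each element of order dividing 4 has 2-power order. -/
theorem result {X : Type*} [Group X] [Finite X] (hX : IsPGroup 2 X)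
    (hel : Cfsg.IsElementaryAbelian 2 (commutator X)) (hcen : commutator X ≤ Subgroup.center X) :
    (∀ x ∈ Subgroup.closure {g : X | g ^ 4 = 1}, x ^ 4 = 1) ∧
      ∀ φ : MulAut X, (∀ g : X, g ^ 4 = 1 → φ g = g) → ∃ k : ℕ, φ ^ (2 ^ k) = 1 := by
  classical
  have hc : ∀ a b l : X, Commute ⁅a, b⁆ l := fun a b l =>
    (Subgroup.mem_center_iff.1 (hcen (Subgroup.commutator_mem_commutator (Subgroup.mem_top a) (Subgroup.mem_top b))) l).symm
  have he : ∀ a b : X, ⁅a, b⁆ ^ 2 = 1 := fun a b =>
    hel.2 _ (Subgroup.commutator_mem_commutator (Subgroup.mem_top a) (Subgroup.mem_top b))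
  refine ⟨fun x hx => ?_, fun φ hφ => ?_⟩
  · induction hx using Subgroup.closure_induction with
    | mem g hg => exact hg
    | one => exact one_pow 4
    | mul a b _ _ iha ihb =>
      rw [CfsgLib.Fus.MetaTwo.mul_pow_of_central (hc b a) 4, iha, ihb, one_mul, one_mul,
        show Nat.choose 4 2 = 2 * 3 by decide, pow_mul, he, one_pow]
    | inv a _ iha => rw [inv_pow, iha, inv_one]
  haveI : Finite (MulAut X) := inferInstanceAs (Finite (X ≃* X))
  haveI : Fact (Nat.Prime 2) := ⟨Nat.prime_two⟩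
  obtain ⟨k, n, hn, hord⟩ := Nat.exists_eq_pow_mul_and_not_dvd (n := orderOf φ) (orderOf_pos φ).ne' 2 (by norm_num)
  set ψ := φ ^ 2 ^ k with hψ
  have hψn : ψ ^ n = 1 := by rw [hψ, ← pow_mul, ← hord, pow_orderOf_eq_one]
  have hψfix : ∀ g : X, g ^ 4 = 1 → ψ g = g := fun g hg => by
    rw [hψ]
    induction (2 ^ k) with
    | zero => rw [pow_zero, MulAut.one_apply]
    | succ i ih => rw [pow_succ', MulAut.mul_apply, ih, hφ g hg]
  suffices key : ∀ (j : ℕ) (x : X), x ^ 2 ^ j = 1 → ψ x = x from ⟨k, MulEquiv.ext fun x => by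
    obtain ⟨j, hj⟩ := hX x
    rw [MulAut.one_apply]; exact key j x hj⟩
  intro j
  induction j with
  | zero => intro x hx; rw [pow_zero, pow_one] at hx; rw [hx, map_one]
  | succ j ih =>
    intro x hx
    have hx2 : ψ (x ^ 2) = x ^ 2 := ih _ (by rw [← pow_mul, ← pow_succ']; exact hx)
    set d := x⁻¹ * ψ x with hd
    have hψx : ψ x = x * d := by rw [hd, mul_inv_cancel_left]
    have h1 : (x * d) ^ 2 = x ^ 2 := by rw [← hψx, ← map_pow, hx2]
    rw [CfsgLib.Fus.MetaTwo.mul_pow_of_central (hc d x) 2, mul_assoc, mul_eq_left, Nat.choose_self, pow_one] at h1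
    have hd4 : d ^ 4 = 1 := by
      rw [show (4 : ℕ) = 2 * 2 by norm_num, pow_mul, eq_inv_of_mul_eq_one_left h1, inv_pow, he, inv_one]
    have hfd := hψfix d hd4
    have hit : ∀ i : ℕ, (ψ ^ i) x = x * d ^ i := by
      intro i
      induction i with
      | zero => rw [pow_zero, pow_zero, MulAut.one_apply, mul_one]
      | succ i ihi => rw [pow_succ', MulAut.mul_apply, ihi, map_mul, map_pow, hfd, hψx, mul_assoc, pow_succ']
    have h2 := hit n
    rw [hψn, MulAut.one_apply, left_eq_mul] at h2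
    have hd1 : d = 1 := orderOf_eq_one_iff.1 (Nat.eq_one_of_dvd_coprimes
      ((Nat.prime_two.coprime_iff_not_dvd.2 hn).pow_left 2) (orderOf_dvd_of_pow_eq_one hd4) (orderOf_dvd_of_pow_eq_one h2))
    rw [hψx, hd1, mul_one]

end Cfsg.Agent.S1898
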