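import Cfsg.Statements.S1899
import Cfsg.Agent.Solv.Basic
-- import your own Cfsg.Agent.* helpers here

set_option autoImplicit false
open Cfsg

namespace Cfsg.Agent.S1899

/-- Let a dihedral group of order 2n, n odd and n > 1, act on a finite abelian 2-group A through automorphisms d and t with d^n = 1, t² = 1 and t d t⁻¹ = d⁻¹, and suppose that d fixes only the identity. Then A is the internal direct product of C_A(t) and its image under d. -/
theorem result {A : Type*} [CommGroup A] [Finite A] (hA : IsPGroup 2 A)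
    {n : ℕ} (hn : Odd n) (hn1 : 1 < n) (d t : MulAut A) (hd : d ^ n = 1) (ht : t ^ 2 = 1) (hdt : t * d * t⁻¹ = d⁻¹)
    (hfix : ∀ a : A, d a = a → a = 1) :
    (MulEquiv.toMonoidHom t).eqLocus (MonoidHom.id A) ⊓ ((MulEquiv.toMonoidHom t).eqLocus (MonoidHom.id A)).map d.toMonoidHom = ⊥ ∧
      (MulEquiv.toMonoidHom t).eqLocus (MonoidHom.id A) ⊔ ((MulEquiv.toMonoidHom t).eqLocus (MonoidHom.id A)).map d.toMonoidHom = ⊤ := by
  classical
  set F := (MulEquiv.toMonoidHom t).eqLocus (MonoidHom.id A) with hF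
  have memF : ∀ a : A, a ∈ F ↔ t a = a := fun a => Iff.rfl
  have htd : ∀ a : A, t (d a) = d⁻¹ (t a) := by
    intro a
    have := congrArg (fun f : MulAut A => f (t a)) hdt
    simp only [MulAut.mul_apply, MulAut.inv_apply, MulEquiv.symm_apply_apply] at this
    exact this
  have hsq : ∀ a : A, d (d a) = a → a = 1 := by
    intro a h
    apply hfix
    obtain ⟨m, hm⟩ := hn
    have h2 : ∀ j : ℕ, (d ^ (2 * j)) a = a := by
      intro j
      induction j with
      | zero => simp
      | succ j ih => rw [show 2 * (j + 1) = 2 * j + 2 by ring, pow_add, MulAut.mul_apply, sq, MulAut.mul_apply, h, ih]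
    have h3 := h2 m
    have h4 : (d ^ n) a = a := by rw [hd]; rfl
    rw [hm, pow_succ', MulAut.mul_apply, h3] at h4
    exact h4
  have ht2 : ∀ a : A, t (t a) = a := fun a => by
    rw [← MulAut.mul_apply, ← sq, ht]; rfl
  have hinf : F ⊓ F.map d.toMonoidHom = ⊥ := by
    rw [eq_bot_iff]
    rintro a ⟨ha, b, hb, rfl⟩
    have ha' : t (d b) = d b := ha
    rw [htd, (memF b).mp hb] at ha'
    have h5 : d (d b) = b := by
      conv_lhs => rw [← ha']
      simp [MulAut.inv_apply]
    simp [hsq b h5]
  refine ⟨hinf, ?_⟩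
  let I : Subgroup A :=
    { carrier := {a | t a = a⁻¹}
      one_mem' := by simp
      mul_mem' := fun {a b} ha hb => by
        show t (a * b) = (a * b)⁻¹
        rw [map_mul, ha, hb, mul_inv]
      inv_mem' := fun {a} ha => by
        show t a⁻¹ = a⁻¹⁻¹
        rw [map_inv, ha] }
  have hinfI : I ⊓ I.map d.toMonoidHom = ⊥ := by
    rw [eq_bot_iff]
    rintro a ⟨ha, b, hb, rfl⟩
    have ha' : t (d b) = (d b)⁻¹ := ha
    have hb' : t b = b⁻¹ := hb
    rw [htd, hb', map_inv, inv_inj] at ha'
    have h5 : d (d b) = b := by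
      conv_lhs => rw [← ha']
      simp [MulAut.inv_apply]
    simp [hsq b h5]
  let θ : A →* A :=
    { toFun := fun a => a * t a
      map_one' := by simp
      map_mul' := fun a b => by rw [map_mul, mul_mul_mul_comm] }
  have hker : θ.ker = I := by
    ext a
    rw [MonoidHom.mem_ker]
    show a * t a = 1 ↔ t a = a⁻¹
    exact mul_eq_one_iff_eq_inv'
  have hran : θ.range ≤ F := by
    rintro _ ⟨a, rfl⟩
    show t (a * t a) = a * t a
    rw [map_mul, ht2, mul_comm]
  have hcm : ∀ H : Subgroup A, Nat.card ↥(H.map d.toMonoidHom) = Nat.card ↥H := fun H =>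
    (Nat.card_congr (H.equivMapOfInjective _ d.injective).toEquiv).symm
  have key : ∀ H : Subgroup A, H ⊓ H.map d.toMonoidHom = ⊥ →
      Nat.card ↥(H ⊔ H.map d.toMonoidHom) = Nat.card ↥H * Nat.card ↥H := by
    intro H hH
    have h := CfsgLib.Solv.card_sup_mul_card_inf H (H.map d.toMonoidHom)
    rw [hH, Subgroup.card_bot, mul_one, hcm] at h
    exact h
  have hA1 : Nat.card A ≤ Nat.card ↥I * Nat.card ↥F := by
    rw [← Subgroup.card_mul_index θ.ker, Subgroup.index_ker, hker]
    exact Nat.mul_le_mul_left _ (Nat.card_le_card_of_injective _ (Subgroup.inclusion_injective hran))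
  have hA2 : Nat.card ↥I * Nat.card ↥I ≤ Nat.card A := key I hinfI ▸ Subgroup.card_le_card_group _
  refine Subgroup.eq_top_of_card_eq _ (le_antisymm (Subgroup.card_le_card_group _) ?_)
  rw [key F hinf]
  have hI : Nat.card ↥I ≤ Nat.card ↥F := by
    by_contra hc
    push_neg at hc
    have : Nat.card ↥I * Nat.card ↥F < Nat.card ↥I * Nat.card ↥I :=
      Nat.mul_lt_mul_of_pos_left hc Nat.card_pos
    omega
  exact hA1.trans (Nat.mul_le_mul_right _ hI)

end Cfsg.Agent.S1899
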