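import Cfsg.Statements.S1900
import Cfsg.Agent.Solv.Generation
import Cfsg.Agent.Solv.CoprimeAction
-- import your own Cfsg.Agent.* helpers here

set_option autoImplicit false
open Cfsg

namespace Cfsg.Agent.S1900

/-- Let S = PQ be a finite group with P a normal Sylow p-subgroup and Q elementary abelian of order q², q a prime different from p. If exactly two subgroups X₁, X₂ of order q in Q have a nontrivial centralizer in P, then P is the internal direct product of C_P(X₁) and C_P(X₂): they commute elementwise, meet trivially and generate P. -/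
theorem result {S : Type*} [Group S] [Finite S] {p q : ℕ} [Fact p.Prime] [Fact q.Prime] (hpq : p ≠ q)
    (P : Sylow p S) [(P : Subgroup S).Normal] (Q : Subgroup S) (hQ : Cfsg.IsElementaryAbelian q Q) (hQc : Nat.card Q = q ^ 2)
    (hS : (P : Subgroup S) ⊔ Q = ⊤)
    (X₁ X₂ : Subgroup S) (h₁ : X₁ ≤ Q) (h₂ : X₂ ≤ Q) (h₁₂ : X₁ ≠ X₂) (hc₁ : Nat.card X₁ = q) (hc₂ : Nat.card X₂ = q)
    (hf₁ : (P : Subgroup S) ⊓ Subgroup.centralizer (X₁ : Set S) ≠ ⊥)
    (hf₂ : (P : Subgroup S) ⊓ Subgroup.centralizer (X₂ : Set S) ≠ ⊥)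
    (honly : ∀ X : Subgroup S, X ≤ Q → Nat.card X = q →
      (P : Subgroup S) ⊓ Subgroup.centralizer (X : Set S) ≠ ⊥ → X = X₁ ∨ X = X₂) :
    ⁅(P : Subgroup S) ⊓ Subgroup.centralizer (X₁ : Set S), (P : Subgroup S) ⊓ Subgroup.centralizer (X₂ : Set S)⁆ = ⊥ ∧
      ((P : Subgroup S) ⊓ Subgroup.centralizer (X₁ : Set S)) ⊓ ((P : Subgroup S) ⊓ Subgroup.centralizer (X₂ : Set S)) = ⊥ ∧
      ((P : Subgroup S) ⊓ Subgroup.centralizer (X₁ : Set S)) ⊔ ((P : Subgroup S) ⊓ Subgroup.centralizer (X₂ : Set S)) = P := by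
  classical
  set P' := (P : Subgroup S) with hP'
  haveI : IsMulCommutative ↥Q := hQ.1
  have hqp : IsPGroup q ↥Q := fun x => ⟨1, Subtype.ext (by simpa using hQ.2 x x.2)⟩
  have hcop : (Nat.card ↥Q).Coprime (Nat.card ↥P') := by
    obtain ⟨k, hk⟩ := IsPGroup.iff_card.1 P.isPGroup'
    rw [hQc, hk]
    exact Nat.Coprime.pow _ _ ((Nat.coprime_primes Fact.out Fact.out).mpr hpq.symm)
  have hgen : ∀ X : Subgroup S, Nat.card X = q → ∀ a ∈ X, a ≠ 1 → Subgroup.zpowers a = X := by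
    intro X hX a ha ha1
    refine Subgroup.eq_of_le_of_card_ge (Subgroup.zpowers_le.mpr ha) ?_
    rw [hX, Nat.card_zpowers]
    have hd : orderOf a ∣ q := hX ▸ Subgroup.orderOf_dvd_natCard X ha
    rcases (Nat.dvd_prime Fact.out).mp hd with h | h
    · exact absurd (orderOf_eq_one_iff.mp h) ha1
    · omega
  have hX12 : X₁ ⊓ X₂ = ⊥ := by
    rw [eq_bot_iff]
    intro a ha
    by_contra h
    exact h₁₂ ((hgen X₁ hc₁ a ha.1 h).symm.trans (hgen X₂ hc₂ a ha.2 h))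
  have hQord : ∀ a ∈ Q, a ≠ 1 → Nat.card ↥(Subgroup.zpowers a) = q := by
    intro a ha ha1
    rw [Nat.card_zpowers]
    exact orderOf_eq_prime (hQ.2 a ha) ha1
  have hQnc : ¬ IsCyclic ↥Q := by
    intro hcyc
    obtain ⟨g, hg⟩ := hcyc.exists_generator
    have h1 : orderOf g = q ^ 2 := by rw [orderOf_eq_card_of_forall_mem_zpowers hg, hQc]
    have h2 : orderOf g ∣ q := orderOf_dvd_of_pow_eq_one (Subtype.ext (by simpa using hQ.2 g g.2))
    have h3 := Nat.le_of_dvd (Fact.out : q.Prime).pos h2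
    rw [h1] at h3
    nlinarith [(Fact.out : q.Prime).two_le]
  have hQP : ∀ {V : Subgroup S}, V.Normal → Q ≤ Subgroup.normalizer (V : Set S) := fun {V} hV => by
    haveI := hV; rw [Subgroup.normalizer_eq_top]; exact le_top
  -- a `Q`-invariant subgroup of `P` is generated by the fixed points of `X₁` and of `X₂`
  have hsplit : ∀ V : Subgroup S, V.Normal → V ≤ P' → ∀ W : Subgroup S,
      V ⊓ Subgroup.centralizer (X₁ : Set S) ≤ W → V ⊓ Subgroup.centralizer (X₂ : Set S) ≤ W → V ≤ W := by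
    intro V hV hVP W hW1 hW2
    refine CfsgLib.Solv.le_of_noncyclic_centralizers hQnc (hQP hV)
      (Nat.Coprime.of_dvd_right (Subgroup.card_dvd_of_le hVP) hcop) fun a ha ha1 => ?_
    intro u hu
    by_cases hu1 : u = 1
    · rw [hu1]; exact W.one_mem
    have hcen : u ∈ Subgroup.centralizer (Subgroup.zpowers a : Set S) := by
      rw [Subgroup.mem_centralizer_iff]
      intro b hb
      obtain ⟨i, rfl⟩ := Subgroup.mem_zpowers_iff.mp hb
      exact (Commute.zpow_left (show Commute a u from (Subgroup.mem_centralizer_singleton_iff.mp hu.2).symm) i).eq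
    rcases honly (Subgroup.zpowers a) (Subgroup.zpowers_le.mpr ha) (hQord a ha ha1) (fun h => hu1 (by
      have : u ∈ P' ⊓ Subgroup.centralizer (Subgroup.zpowers a : Set S) := ⟨hVP hu.1, hcen⟩
      rwa [h, Subgroup.mem_bot] at this)) with h | h <;> rw [h] at hcen
    · exact hW1 ⟨hu.1, hcen⟩
    · exact hW2 ⟨hu.1, hcen⟩
  set C₁ := P' ⊓ Subgroup.centralizer (X₁ : Set S) with hC₁
  set C₂ := P' ⊓ Subgroup.centralizer (X₂ : Set S) with hC₂
  have hnormC : ∀ X : Subgroup S, X ≤ Q → ∀ a ∈ Q, ∀ x ∈ P' ⊓ Subgroup.centralizer (X : Set S),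
      a * x * a⁻¹ ∈ P' ⊓ Subgroup.centralizer (X : Set S) := by
    intro X hX a ha x hx
    refine ⟨Subgroup.Normal.conj_mem inferInstance x hx.1 a, ?_⟩
    show a * x * a⁻¹ ∈ Subgroup.centralizer (X : Set S)
    rw [Subgroup.mem_centralizer_iff]
    intro b hb
    have hab := CfsgLib.Solv.commute_of_isMulCommutative (A := Q) ha (hX hb)
    have hbx := Subgroup.mem_centralizer_iff.mp hx.2 b hb
    calc b * (a * x * a⁻¹) = b * a * x * a⁻¹ := by group
      _ = a * (b * x) * a⁻¹ := by rw [← hab]; group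
      _ = a * x * (b * a⁻¹) := by rw [hbx]; group
      _ = a * x * (a⁻¹ * b) := by rw [(Commute.inv_right (show Commute b a from hab.symm)).eq]
      _ = _ := by group
  have hdis : C₁ ⊓ C₂ = ⊥ := by
    rw [eq_bot_iff]
    rintro u ⟨⟨huP, hu1⟩, -, hu2⟩
    by_contra hu
    obtain ⟨⟨a, ha⟩, ha1⟩ := Subgroup.ne_bot_iff_exists_ne_one.mp
      (fun h => (Fact.out : q.Prime).ne_one (by rw [← hc₁, h, Subgroup.card_bot]) : X₁ ≠ ⊥)
    obtain ⟨⟨b, hb⟩, hb1⟩ := Subgroup.ne_bot_iff_exists_ne_one.mp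
      (fun h => (Fact.out : q.Prime).ne_one (by rw [← hc₂, h, Subgroup.card_bot]) : X₂ ≠ ⊥)
    have hab : a * b ≠ 1 := fun h => by
      have : a ∈ X₁ ⊓ X₂ := ⟨ha, by rw [mul_eq_one_iff_eq_inv.mp h]; exact X₂.inv_mem hb⟩
      rw [hX12, Subgroup.mem_bot] at this
      exact ha1 (Subtype.ext this)
    have hfix : P' ⊓ Subgroup.centralizer (Subgroup.zpowers (a * b) : Set S) ≠ ⊥ := by
      intro h
      apply hu
      rw [← h]
      refine ⟨huP, ?_⟩
      show u ∈ Subgroup.centralizer (Subgroup.zpowers (a * b) : Set S)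
      rw [Subgroup.mem_centralizer_iff]
      intro c hc
      obtain ⟨i, rfl⟩ := Subgroup.mem_zpowers_iff.mp hc
      have h1 : Commute a u := Subgroup.mem_centralizer_iff.mp hu1 a ha
      have h2 : Commute b u := Subgroup.mem_centralizer_iff.mp hu2 b hb
      exact ((h1.mul_left h2).zpow_left i).eq
    rcases honly _ (Subgroup.zpowers_le.mpr (Q.mul_mem (h₁ ha) (h₂ hb)))
      (hQord _ (Q.mul_mem (h₁ ha) (h₂ hb)) hab) hfix with h | h
    · have hm : a * b ∈ X₁ := by rw [← h]; exact Subgroup.mem_zpowers _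
      have hb' : b ∈ X₁ ⊓ X₂ := ⟨by simpa using X₁.mul_mem (X₁.inv_mem ha) hm, hb⟩
      rw [hX12, Subgroup.mem_bot] at hb'
      exact hb1 (Subtype.ext hb')
    · have hm : a * b ∈ X₂ := by rw [← h]; exact Subgroup.mem_zpowers _
      have ha' : a ∈ X₁ ⊓ X₂ := ⟨ha, by simpa using X₂.mul_mem hm (X₂.inv_mem hb)⟩
      rw [hX12, Subgroup.mem_bot] at ha'
      exact ha1 (Subtype.ext ha')
  refine ⟨?_, hdis, le_antisymm (sup_le inf_le_left inf_le_left)
    (hsplit P' inferInstance le_rfl _ le_sup_left le_sup_right)⟩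
  -- commutators climb down the upper central series of `P`
  set U : ℕ → Subgroup S := fun k => (Subgroup.upperCentralSeries ↥P' k).map P'.subtype with hU
  have hUn : ∀ k, (U k).Normal := fun k => by
    haveI : (Subgroup.upperCentralSeries ↥P' k).Characteristic := inferInstance
    exact CfsgLib.Solv.normal_map_subtype_of_characteristic (N := P') _
  have hUP : ∀ k, U k ≤ P' := fun k => Subgroup.map_subtype_le _
  haveI : Group.IsNilpotent ↥P' := P.isPGroup'.isNilpotent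
  obtain ⟨n, hn⟩ := (inferInstance : Group.IsNilpotent ↥P').nilpotent'
  have htop : U n = P' := by
    show (Subgroup.upperCentralSeries ↥P' n).map P'.subtype = P'
    rw [hn, ← MonoidHom.range_eq_map, Subgroup.range_subtype]
  have hstep : ∀ k, ∀ w ∈ U (k + 1), ∀ v ∈ P', w * v * w⁻¹ * v⁻¹ ∈ U k := by
    rintro k _ ⟨w, hw, rfl⟩ v hv
    exact ⟨_, Subgroup.mem_upperCentralSeries_succ_iff.mp hw ⟨v, hv⟩, rfl⟩
  have main : ∀ k, (∀ x ∈ C₁, ∀ y ∈ C₂, x * y * x⁻¹ * y⁻¹ ∈ U (k + 1)) →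
      ∀ x ∈ C₁, ∀ y ∈ C₂, x * y * x⁻¹ * y⁻¹ ∈ U k := by
    intro k hk x hx y hy
    haveI := hUn k
    let π := QuotientGroup.mk' (U k)
    have hπ : ∀ w, w ∈ U k ↔ π w = 1 := fun w => (QuotientGroup.eq_one_iff w).symm
    have hcent : ∀ w ∈ U (k + 1), ∀ v ∈ P', π w * π v = π v * π w := by
      intro w hw v hv
      have h1 := (hπ _).mp (hstep k w hw v hv)
      simp only [map_mul, map_inv] at h1
      exact mul_inv_eq_iff_eq_mul.mp (mul_inv_eq_one.mp h1)
    obtain ⟨⟨g, hg⟩, hg1⟩ := Subgroup.ne_bot_iff_exists_ne_one.mp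
      (fun h => (Fact.out : q.Prime).ne_one (by rw [← hc₁, h, Subgroup.card_bot]) : X₁ ≠ ⊥)
    obtain ⟨⟨h, hh⟩, hh1⟩ := Subgroup.ne_bot_iff_exists_ne_one.mp
      (fun h => (Fact.out : q.Prime).ne_one (by rw [← hc₂, h, Subgroup.card_bot]) : X₂ ≠ ⊥)
    have hg1' : g ≠ 1 := fun e => hg1 (Subtype.ext e)
    have hh1' : h ≠ 1 := fun e => hh1 (Subtype.ext e)
    -- the shifts by `g` on `C₂` and by `h` on `C₁` are onto
    have honto : ∀ (X Y : Subgroup S), X ≤ Q → Nat.card Y = q → ∀ c ∈ Y, c ≠ 1 → Y ≤ Q →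
        (P' ⊓ Subgroup.centralizer (X : Set S)) ⊓ (P' ⊓ Subgroup.centralizer (Y : Set S)) = ⊥ →
        ∀ y ∈ P' ⊓ Subgroup.centralizer (X : Set S),
          ∃ y₀ ∈ P' ⊓ Subgroup.centralizer (X : Set S), y₀⁻¹ * (c * y₀ * c⁻¹) = y := by
      intro X Y hX hY c hc hc1 hYQ hXY y hy
      set D := P' ⊓ Subgroup.centralizer (X : Set S) with hD
      let f : ↥D → ↥D := fun v => ⟨(v : S)⁻¹ * (c * v * c⁻¹),
        D.mul_mem (D.inv_mem v.2) (hnormC X hX c (hYQ hc) v v.2)⟩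
      have hf : Function.Injective f := by
        rintro ⟨u, hu⟩ ⟨v, hv⟩ huv
        have e : u⁻¹ * (c * u * c⁻¹) = v⁻¹ * (c * v * c⁻¹) := congrArg Subtype.val huv
        have e2 : c * (u * v⁻¹)⁻¹ = (u * v⁻¹)⁻¹ * c := by
          have e3 : c * u * c⁻¹ = u * (v⁻¹ * (c * v * c⁻¹)) := by rw [← e]; group
          calc c * (u * v⁻¹)⁻¹ = c * v * c⁻¹ * (c * u * c⁻¹)⁻¹ * c := by group
            _ = _ := by rw [e3]; group
        have hmem : u * v⁻¹ ∈ D ⊓ (P' ⊓ Subgroup.centralizer (Y : Set S)) := by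
          refine ⟨D.mul_mem hu (D.inv_mem hv), (D.mul_mem hu (D.inv_mem hv)).1, ?_⟩
          show u * v⁻¹ ∈ Subgroup.centralizer (Y : Set S)
          rw [← hgen Y hY c hc hc1, Subgroup.mem_centralizer_iff]
          intro b hb
          obtain ⟨i, rfl⟩ := Subgroup.mem_zpowers_iff.mp hb
          have e5 : Commute c (u * v⁻¹) := by simpa using Commute.inv_right (show Commute c (u * v⁻¹)⁻¹ from e2)
          exact (e5.zpow_left i).eq
        rw [hXY, Subgroup.mem_bot, mul_inv_eq_one] at hmem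
        exact Subtype.ext hmem
      obtain ⟨⟨v, hv⟩, hve⟩ := (Finite.injective_iff_surjective.mp hf) ⟨y, hy⟩
      exact ⟨v, hv, congrArg Subtype.val hve⟩
    obtain ⟨y₀, hy₀, rfl⟩ := honto X₂ X₁ h₂ hc₁ g hg hg1' h₁ (by rw [inf_comm]; exact hdis) y hy
    obtain ⟨x₀, hx₀, rfl⟩ := honto X₁ X₂ h₁ hc₂ h hh hh1' h₂ hdis x hx
    rw [hπ]
    -- `f u v` is central modulo `U k`, bimultiplicative and equivariant
    let f : S → S → S ⧸ U k := fun u v => π (u * v * u⁻¹ * v⁻¹)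
    have hfc : ∀ u ∈ C₁, ∀ v ∈ C₂, ∀ s ∈ P', f u v * π s = π s * f u v :=
      fun u hu v hv s hs => hcent _ (hk u hu v hv) s hs
    have hfl : ∀ u₁ ∈ C₁, ∀ u₂ ∈ C₁, ∀ v ∈ C₂, f (u₁ * u₂) v = f u₂ v * f u₁ v := by
      intro u₁ hu₁ u₂ hu₂ v hv
      have : u₁ * u₂ * v * (u₁ * u₂)⁻¹ * v⁻¹ = u₁ * (u₂ * v * u₂⁻¹ * v⁻¹) * u₁⁻¹ * (u₁ * v * u₁⁻¹ * v⁻¹) := by group
      show π (u₁ * u₂ * v * (u₁ * u₂)⁻¹ * v⁻¹) = _
      rw [this]
      simp only [map_mul, map_inv, f]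
      have h1 := hfc u₂ hu₂ v hv u₁ hu₁.1
      simp only [f, map_mul, map_inv] at h1
      rw [← h1, mul_inv_cancel_right]
    have hfr : ∀ u ∈ C₁, ∀ v₁ ∈ C₂, ∀ v₂ ∈ C₂, f u (v₁ * v₂) = f u v₁ * f u v₂ := by
      intro u hu v₁ hv₁ v₂ hv₂
      have : u * (v₁ * v₂) * u⁻¹ * (v₁ * v₂)⁻¹ = (u * v₁ * u⁻¹ * v₁⁻¹) * (v₁ * (u * v₂ * u⁻¹ * v₂⁻¹) * v₁⁻¹) := by group
      show π (u * (v₁ * v₂) * u⁻¹ * (v₁ * v₂)⁻¹) = _
      rw [this]
      simp only [map_mul, map_inv, f]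
      have h1 := hfc u hu v₂ hv₂ v₁ hv₁.1
      simp only [f, map_mul, map_inv] at h1
      rw [← h1, mul_inv_cancel_right]
    have hgx : ∀ u ∈ C₁, g * u * g⁻¹ = u := fun u hu => by
      rw [Subgroup.mem_centralizer_iff.mp hu.2 g hg, mul_inv_cancel_right]
    have hhy : ∀ v ∈ C₂, h * v * h⁻¹ = v := fun v hv => by
      rw [Subgroup.mem_centralizer_iff.mp hv.2 h hh, mul_inv_cancel_right]
    have hinvl : ∀ u ∈ C₁, ∀ v ∈ C₂, f u⁻¹ v = (f u v)⁻¹ := by
      intro u hu v hv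
      refine eq_inv_of_mul_eq_one_left ?_
      rw [← hfl u hu u⁻¹ (C₁.inv_mem hu) v hv]
      simp [f]
    have hinvr : ∀ u ∈ C₁, ∀ v ∈ C₂, f u v⁻¹ = (f u v)⁻¹ := by
      intro u hu v hv
      refine eq_inv_of_mul_eq_one_left ?_
      rw [← hfr u hu v⁻¹ (C₂.inv_mem hv) v hv]
      simp [f]
    have hxh : h * x₀ * h⁻¹ ∈ C₁ := hnormC X₁ h₁ h (h₂ hh) x₀ hx₀
    have hyg : g * y₀ * g⁻¹ ∈ C₂ := hnormC X₂ h₂ g (h₁ hg) y₀ hy₀
    show f (x₀⁻¹ * (h * x₀ * h⁻¹)) (y₀⁻¹ * (g * y₀ * g⁻¹)) = 1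
    rw [hfl _ (C₁.inv_mem hx₀) _ hxh _ (C₂.mul_mem (C₂.inv_mem hy₀) hyg), hinvl _ hx₀ _ (C₂.mul_mem (C₂.inv_mem hy₀) hyg),
      hfr _ hxh _ (C₂.inv_mem hy₀) _ hyg, hfr _ hx₀ _ (C₂.inv_mem hy₀) _ hyg, hinvr _ hxh _ hy₀, hinvr _ hx₀ _ hy₀]
    -- everything is a conjugate of `w = [x₀, y₀]`
    set w := x₀ * y₀ * x₀⁻¹ * y₀⁻¹ with hw
    have hwU : w ∈ U (k + 1) := hk x₀ hx₀ y₀ hy₀
    have hgh : g * h = h * g := CfsgLib.Solv.commute_of_isMulCommutative (A := Q) (h₁ hg) (h₂ hh)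
    have e1 : f (h * x₀ * h⁻¹) y₀ = π (h * w * h⁻¹) := by
      show π _ = _
      congr 1
      nth_rewrite 1 [← hhy y₀ hy₀]; nth_rewrite 2 [← hhy y₀ hy₀]
      rw [hw]; group
    have e2 : f x₀ (g * y₀ * g⁻¹) = π (g * w * g⁻¹) := by
      show π _ = _
      congr 1
      nth_rewrite 1 [← hgx x₀ hx₀]; nth_rewrite 2 [← hgx x₀ hx₀]
      rw [hw]; group
    have e3 : f (h * x₀ * h⁻¹) (g * y₀ * g⁻¹) = π (g * h * w * h⁻¹ * g⁻¹) := by
      show π _ = _
      congr 1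
      have ex : g * (h * x₀ * h⁻¹) * g⁻¹ = h * x₀ * h⁻¹ := hgx _ hxh
      have ey : g * (h * y₀ * h⁻¹) * g⁻¹ = g * y₀ * g⁻¹ := by rw [hhy y₀ hy₀]
      calc h * x₀ * h⁻¹ * (g * y₀ * g⁻¹) * (h * x₀ * h⁻¹)⁻¹ * (g * y₀ * g⁻¹)⁻¹
          = g * (h * x₀ * h⁻¹) * g⁻¹ * (g * (h * y₀ * h⁻¹) * g⁻¹) * (g * (h * x₀ * h⁻¹) * g⁻¹)⁻¹ *
            (g * (h * y₀ * h⁻¹) * g⁻¹)⁻¹ := by rw [ex, ey]
        _ = _ := by rw [hw]; group
    have e0 : f x₀ y₀ = π w := rfl
    rw [e0, e1, e2, e3]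
    -- the second difference of the conjugation action vanishes on `U (k + 1)`
    have hkill : ∀ v ∈ U (k + 1), (π (h * v * h⁻¹))⁻¹ * π (g * h * v * h⁻¹ * g⁻¹) * ((π v)⁻¹ * π (g * v * g⁻¹))⁻¹ = 1 := by
      haveI := hUn (k + 1)
      have hmem : ∀ c : S, ∀ v ∈ U (k + 1), c * v * c⁻¹ ∈ U (k + 1) := fun c v hv =>
        Subgroup.Normal.conj_mem inferInstance v hv c
      let K : Subgroup S :=
        { carrier := {v | v ∈ U (k + 1) ∧
            (π (h * v * h⁻¹))⁻¹ * π (g * h * v * h⁻¹ * g⁻¹) = (π v)⁻¹ * π (g * v * g⁻¹)}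
          one_mem' := ⟨(U (k + 1)).one_mem, by simp⟩
          mul_mem' := by
            rintro a b ⟨ha, ea⟩ ⟨hb, eb⟩
            refine ⟨(U (k + 1)).mul_mem ha hb, ?_⟩
            have c1 := hcent _ (hmem h b hb) _ (hUP _ (hmem (g * h) a ha))
            have c2 := hcent _ hb _ (hUP _ (hmem g a ha))
            have c3 := hcent _ (hmem h b hb) _ (hUP _ (hmem h a ha))
            have c4 := hcent _ hb _ (hUP _ ha)
            have r1 : h * (a * b) * h⁻¹ = h * a * h⁻¹ * (h * b * h⁻¹) := by group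
            have r2 : g * h * (a * b) * h⁻¹ * g⁻¹ = g * h * a * h⁻¹ * g⁻¹ * (g * h * b * h⁻¹ * g⁻¹) := by group
            have r3 : g * (a * b) * g⁻¹ = g * a * g⁻¹ * (g * b * g⁻¹) := by group
            have r4 : (g * h) * a * (g * h)⁻¹ = g * h * a * h⁻¹ * g⁻¹ := by group
            rw [r4] at c1
            rw [r1, r2, r3, map_mul π (h * a * h⁻¹), map_mul π (g * h * a * h⁻¹ * g⁻¹), map_mul π a,
              map_mul π (g * a * g⁻¹)]
            generalize π (h * a * h⁻¹) = A at *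
            generalize π (g * h * a * h⁻¹ * g⁻¹) = A' at *
            generalize π (h * b * h⁻¹) = B at *
            generalize π (g * h * b * h⁻¹ * g⁻¹) = B' at *
            generalize π (g * a * g⁻¹) = A'' at *
            generalize π (g * b * g⁻¹) = B'' at *
            generalize π a = a₁ at *
            generalize π b = b₁ at *
            calc (A * B)⁻¹ * (A' * B') = B⁻¹ * (A⁻¹ * A') * B' := by group
              _ = (A⁻¹ * A') * (B⁻¹ * B') := by
                have : B⁻¹ * (A⁻¹ * A') = (A⁻¹ * A') * B⁻¹ :=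
                  ((Commute.inv_right (show Commute B A from c3)).mul_right (show Commute B A' from c1)).inv_left.eq
                rw [this]; group
              _ = (a₁⁻¹ * A'') * (b₁⁻¹ * B'') := by rw [ea, eb]
              _ = (a₁ * b₁)⁻¹ * (A'' * B'') := by
                have : b₁⁻¹ * (a₁⁻¹ * A'') = (a₁⁻¹ * A'') * b₁⁻¹ :=
                  ((Commute.inv_right (show Commute b₁ a₁ from c4)).mul_right (show Commute b₁ A'' from c2)).inv_left.eq
                calc a₁⁻¹ * A'' * (b₁⁻¹ * B'') = (a₁⁻¹ * A'' * b₁⁻¹) * B'' := by group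
                  _ = _ := by rw [← this]; group
          inv_mem' := by
            rintro a ⟨ha, ea⟩
            refine ⟨(U (k + 1)).inv_mem ha, ?_⟩
            have c1 := hcent _ (hmem (g * h) a ha) _ (hUP _ (hmem h a ha))
            have c2 := hcent _ (hmem g a ha) _ (hUP _ ha)
            have r4 : (g * h) * a * (g * h)⁻¹ = g * h * a * h⁻¹ * g⁻¹ := by group
            rw [r4] at c1
            have r1 : h * a⁻¹ * h⁻¹ = (h * a * h⁻¹)⁻¹ := by group
            have r2 : g * h * a⁻¹ * h⁻¹ * g⁻¹ = (g * h * a * h⁻¹ * g⁻¹)⁻¹ := by group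
            have r3 : g * a⁻¹ * g⁻¹ = (g * a * g⁻¹)⁻¹ := by group
            rw [r1, r2, r3]
            simp only [map_inv, inv_inv]
            generalize π (h * a * h⁻¹) = A at *
            generalize π (g * h * a * h⁻¹ * g⁻¹) = A' at *
            generalize π (g * a * g⁻¹) = A'' at *
            generalize π a = a₁ at *
            calc A * A'⁻¹ = A'⁻¹ * A := ((show Commute A' A from c1).inv_left).eq.symm
              _ = (A⁻¹ * A')⁻¹ := by group
              _ = (a₁⁻¹ * A'')⁻¹ := by rw [ea]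
              _ = A''⁻¹ * a₁ := by group
              _ = a₁ * A''⁻¹ := ((show Commute A'' a₁ from c2).inv_left).eq }
      have hK : U (k + 1) ≤ K := by
        refine hsplit _ (hUn _) (hUP _) K ?_ ?_
        · rintro v ⟨hv, hv1⟩
          refine ⟨hv, ?_⟩
          have a1 : g * v * g⁻¹ = v := hgx v ⟨hUP _ hv, hv1⟩
          have a2 : g * h * v * h⁻¹ * g⁻¹ = h * v * h⁻¹ := by
            rw [hgh]
            calc h * g * v * h⁻¹ * g⁻¹ = h * (g * v) * (g * h)⁻¹ := by group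
              _ = h * (g * v) * (h * g)⁻¹ := by rw [hgh]
              _ = h * (g * v * g⁻¹) * h⁻¹ := by group
              _ = _ := by rw [a1]
          rw [a1, a2, inv_mul_cancel, inv_mul_cancel]
        · rintro v ⟨hv, hv2⟩
          refine ⟨hv, ?_⟩
          have a1 : h * v * h⁻¹ = v := hhy v ⟨hUP _ hv, hv2⟩
          have a2 : g * h * v * h⁻¹ * g⁻¹ = g * v * g⁻¹ := by
            calc g * h * v * h⁻¹ * g⁻¹ = g * (h * v * h⁻¹) * g⁻¹ := by group
              _ = _ := by rw [a1]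
          rw [a1, a2]
      intro v hv
      rw [(hK hv).2, mul_inv_cancel]
    exact hkill w hwU
  have all : ∀ j, j ≤ n → ∀ x ∈ C₁, ∀ y ∈ C₂, x * y * x⁻¹ * y⁻¹ ∈ U (n - j) := by
    intro j
    induction j with
    | zero =>
      intro _ x hx y hy
      rw [Nat.sub_zero, htop]
      exact P'.mul_mem (P'.mul_mem (P'.mul_mem hx.1 hy.1) (P'.inv_mem hx.1)) (P'.inv_mem hy.1)
    | succ j ih =>
      intro hj
      refine main _ ?_
      rw [show n - (j + 1) + 1 = n - j by omega]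
      exact ih (by omega)
  rw [Subgroup.commutator_eq_bot_iff_le_centralizer]
  intro x hx
  rw [Subgroup.mem_centralizer_iff]
  intro y hy
  have h0 := all n le_rfl x hx y hy
  rw [Nat.sub_self] at h0
  have h0' : x * y * x⁻¹ * y⁻¹ = 1 := by simpa [hU] using h0
  exact (mul_inv_eq_iff_eq_mul.mp (mul_inv_eq_one.mp h0')).symm

end Cfsg.Agent.S1900
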