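import Cfsg.Statements.S1901
import Cfsg.Agent.Fus.CoreBasic
import Cfsg.Agent.S1887

set_option autoImplicit false
open Cfsg

namespace Cfsg.Agent.S1901

/-- Let G be a finite p-solvable group and Q a subgroup of order prime to p such that p divides the index of C_G(Q) in N_G(Q). Then Q normalizes no Sylow p-subgroup of G. -/
theorem result {G : Type*} [Group G] [Finite G] {p : ℕ} [Fact p.Prime]
    (hG : Cfsg.IsPSolvable p G) (Q : Subgroup G) (hQ : ¬ p ∣ Nat.card Q)
    (hA : p ∣ (Subgroup.centralizer (Q : Set G)).relIndex (Subgroup.normalizer (Q : Set G)))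
    (P : Sylow p G) : ¬ Q ≤ Subgroup.normalizer ((P : Subgroup G) : Set G) := by
  intro hQP
  have hp : p.Prime := Fact.out
  set N := Subgroup.normalizer (Q : Set G) with hN
  obtain ⟨n, H, h0, hlast, hmono, hnorm, hfac⟩ := hG
  have hcent : ∀ x ∈ N, IsPGroup p (Subgroup.zpowers x) → x ∈ Subgroup.centralizer (Q : Set G) := by
    intro x hxN hxp
    suffices h : ∀ i : Fin (n + 1), ∀ q ∈ Q, x * q * x⁻¹ * q⁻¹ ∈ H i by
      refine Subgroup.mem_centralizer_iff.2 fun q hq => ?_
      have h1 := h 0 q hq
      rw [h0, Subgroup.mem_bot, mul_inv_eq_one, mul_inv_eq_iff_eq_mul] at h1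
      exact h1.symm
    intro i
    induction i using Fin.reverseInduction with
    | last => intro q _; rw [hlast]; exact Subgroup.mem_top _
    | cast i ih =>
      intro q hq
      haveI := hnorm i.castSucc
      set π := QuotientGroup.mk' (H i.castSucc) with hπ
      rw [← QuotientGroup.eq_one_iff]
      show π (x * q * x⁻¹ * q⁻¹) = 1
      set M := (H i.succ).map π with hM
      haveI hMn : M.Normal := (hnorm i.succ).map π (QuotientGroup.mk'_surjective _)
      have hMcard : Nat.card M = (H i.castSucc).relIndex (H i.succ) := by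
        rw [hM, ← Subgroup.relIndex_ker, QuotientGroup.ker_mk']
      set c := π (x * q * x⁻¹ * q⁻¹) with hc
      have hcQ : ∀ r ∈ Q, x * r * x⁻¹ * r⁻¹ ∈ Q := fun r hr =>
        mul_mem ((Subgroup.mem_normalizer_iff.1 hxN r).1 hr) (inv_mem hr)
      have hcM : c ∈ M := ⟨_, ih q hq, rfl⟩
      have hcQ' : c ∈ Q.map π := ⟨_, hcQ q hq, rfl⟩
      have hord : orderOf c ∣ Nat.card Q :=
        ((Subgroup.orderOf_coe (⟨c, hcQ'⟩ : Q.map π)).symm ▸ orderOf_dvd_natCard _).trans (Q.card_map_dvd π)
      have hcop : (orderOf c).Coprime p :=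
        Nat.Coprime.of_dvd_left hord (Nat.coprime_comm.1 (hp.coprime_iff_not_dvd.2 hQ))
      rcases hfac i with ⟨m, hm⟩ | hpr
      · have h1 : orderOf c ∣ p ^ m := by
          rw [← hm, ← hMcard]
          exact (Subgroup.orderOf_coe (⟨c, hcM⟩ : M)).symm ▸ orderOf_dvd_natCard _
        exact orderOf_eq_one_iff.1 (Nat.eq_one_of_dvd_coprimes (hcop.pow_right m) dvd_rfl h1)
      · set Q1 := Q.map π ⊓ M with hQ1
        have hPC : (P : Subgroup G).map π ≤ Subgroup.centralizer (Q1 : Set (G ⧸ H i.castSucc)) := by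
          rintro _ ⟨s, hs, rfl⟩
          refine Subgroup.mem_centralizer_iff.2 fun u hu => ?_
          obtain ⟨⟨r, hr, rfl⟩, huM⟩ := Subgroup.mem_inf.1 hu
          have h1 : π r * π s * (π r)⁻¹ * (π s)⁻¹ ∈ M ⊓ (P : Subgroup G).map π := by
            refine Subgroup.mem_inf.2 ⟨?_, ?_⟩
            · have h2 := mul_mem huM (hMn.conj_mem _ (inv_mem huM) (π s))
              simpa [mul_assoc] using h2
            · refine ⟨r * s * r⁻¹ * s⁻¹, mul_mem ((Subgroup.mem_normalizer_iff.1 (hQP hr) s).1 hs) (inv_mem hs), ?_⟩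
              simp
          obtain ⟨k, hk⟩ := IsPGroup.iff_card.1 (P.isPGroup'.map π)
          have hbot : M ⊓ (P : Subgroup G).map π = ⊥ := Subgroup.inf_eq_bot_of_coprime (by
            rw [hMcard, hk]; exact hpr.pow_right k)
          rw [hbot, Subgroup.mem_bot, mul_inv_eq_one, mul_inv_eq_iff_eq_mul] at h1
          exact h1
        have hxC : π x ∈ Subgroup.centralizer (Q1 : Set (G ⧸ H i.castSucc)) := by
          set N1 := Subgroup.normalizer (Q1 : Set (G ⧸ H i.castSucc)) with hN1
          set C1 := (Subgroup.centralizer (Q1 : Set (G ⧸ H i.castSucc))).subgroupOf N1 with hC1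
          have hxN1 : π x ∈ N1 := by
            refine Subgroup.mem_normalizer_fintype fun u hu => ?_
            obtain ⟨⟨r, hr, rfl⟩, huM⟩ := Subgroup.mem_inf.1 hu
            exact Subgroup.mem_inf.2 ⟨⟨x * r * x⁻¹, (Subgroup.mem_normalizer_iff.1 hxN r).1 hr, by simp⟩,
              hMn.conj_mem _ huM _⟩
          have hidx : ¬ p ∣ C1.index := by
            intro hd
            refine P.not_dvd_index ?_
            have h1 : C1.index ∣ ((P : Subgroup G).map π).index := by
              refine dvd_trans ?_ (Subgroup.index_dvd_of_le hPC)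
              exact Subgroup.relIndex_dvd_index_of_le (Subgroup.centralizer_le_normalizer _)
            exact (hd.trans h1).trans (Subgroup.index_map_dvd _ (QuotientGroup.mk'_surjective _))
          haveI hC1n : C1.Normal := by
            refine ⟨fun u hu g => Subgroup.mem_centralizer_iff.2 fun w hw => ?_⟩
            have h3 := Subgroup.mem_centralizer_iff.1 hu _ ((Subgroup.mem_normalizer_iff''.1 g.2 w).1 hw)
            rw [Subgroup.coe_subtype] at h3
            show w * (N1.subtype g * N1.subtype u * (N1.subtype g)⁻¹) = N1.subtype g * N1.subtype u * (N1.subtype g)⁻¹ * w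
            simp only [Subgroup.coe_subtype] at h3 ⊢
            generalize (g : G ⧸ H i.castSucc) = a at h3 ⊢
            generalize (u : G ⧸ H i.castSucc) = b at h3 ⊢
            calc w * (a * b * a⁻¹) = a * ((a⁻¹ * w * a) * b) * a⁻¹ := by group
              _ = a * (b * (a⁻¹ * w * a)) * a⁻¹ := by rw [h3]
              _ = _ := by group
          obtain ⟨j, hj⟩ := hxp ⟨x, Subgroup.mem_zpowers x⟩
          have hj' : x ^ p ^ j = 1 := congrArg Subtype.val hj
          obtain ⟨i2, -, hi2⟩ := (Nat.dvd_prime_pow hp).1 (orderOf_dvd_of_pow_eq_one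
            (show (⟨π x, hxN1⟩ : N1) ^ p ^ j = 1 from Subtype.ext (by simp [← map_pow, hj'])))
          exact Cfsg.Agent.S1887.pelem_mem_of_subnormal (p := p) hC1n.isSubnormal hidx ⟨π x, hxN1⟩ ⟨i2, hi2⟩
        have hcomm : Commute (π x) c :=
          (Subgroup.mem_centralizer_iff.1 hxC c (Subgroup.mem_inf.2 ⟨hcQ', hcM⟩)).symm
        have hiter : ∀ t : ℕ, π x ^ t * π q = c ^ t * π q * π x ^ t := by
          intro t
          induction t with
          | zero => simp
          | succ t iht =>
            have e1 : π x * π q = c * π q * π x := by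
              rw [hc]; simp only [map_mul, map_inv]; group
            calc π x ^ (t + 1) * π q = π x * (π x ^ t * π q) := by rw [pow_succ', mul_assoc]
              _ = (π x * c ^ t) * π q * π x ^ t := by rw [iht]; group
              _ = c ^ t * (π x * π q) * π x ^ t := by rw [(hcomm.pow_right t).eq]; group
              _ = c ^ (t + 1) * π q * π x ^ (t + 1) := by rw [e1, pow_succ, pow_succ']; group
        obtain ⟨j, hj⟩ := hxp ⟨x, Subgroup.mem_zpowers x⟩
        have hj' : x ^ p ^ j = 1 := congrArg Subtype.val hj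
        have h1 := hiter (p ^ j)
        rw [show π x ^ p ^ j = 1 by rw [← map_pow, hj', map_one], one_mul, mul_one] at h1
        exact orderOf_eq_one_iff.1 (Nat.eq_one_of_dvd_coprimes (hcop.pow_right j) dvd_rfl
          (orderOf_dvd_of_pow_eq_one (mul_eq_right.1 h1.symm)))
  obtain ⟨S⟩ : Nonempty (Sylow p N) := inferInstance
  refine S.not_dvd_index (hA.trans (Subgroup.index_dvd_of_le ?_))
  intro s hs
  refine hcent (s : G) s.2 ?_
  intro y
  obtain ⟨i, hi⟩ := y.2
  obtain ⟨j, hj⟩ := S.isPGroup' ⟨s, hs⟩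
  refine ⟨j, Subtype.ext ?_⟩
  have hs' : (s : G) ^ p ^ j = 1 := congrArg (fun t : ↥(S : Subgroup N) => ((t : N) : G)) hj
  rw [SubmonoidClass.coe_pow, OneMemClass.coe_one, ← hi, ← zpow_natCast, ← zpow_mul, mul_comm, zpow_mul, zpow_natCast, hs', one_zpow]

end Cfsg.Agent.S1901
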