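import Cfsg.Statements.S1905
import Cfsg.Agent.Inv.SECount
import Cfsg.Agent.Solv.Basic
-- import your own Cfsg.Agent.* helpers here

set_option autoImplicit false
open Cfsg

namespace Cfsg.Agent.S1905

/-- Let M be a subgroup of even order of a finite group S such that M contains the centralizer in S of each of its involutions and the normal core of M in S has odd order. Then all involutions of S are conjugate. If moreover N_S(X) ≤ M for a Sylow 2-subgroup X of M and I is an involution in the centre of X, then all involutions of M are conjugate in M and M = M₀ C_M(I) for some subgroup M₀ of M of odd order. -/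
theorem result {S : Type*} [Group S] [Finite S] (M : Subgroup S) (hM : Even (Nat.card M))
    (hC : ∀ i ∈ M, orderOf i = 2 → Subgroup.centralizer ({i} : Set S) ≤ M) (hcore : Odd (Nat.card M.normalCore)) :
    (∀ x y : S, orderOf x = 2 → orderOf y = 2 → IsConj x y) ∧
      ∀ (X : Sylow 2 M) (I : M), I ∈ (Subgroup.center ↥(X : Subgroup ↥M)).map (X : Subgroup ↥M).subtype → orderOf I = 2 →
        Subgroup.normalizer (((X : Subgroup M).map M.subtype : Subgroup S) : Set S) ≤ M →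
        (∀ x y : M, orderOf x = 2 → orderOf y = 2 → IsConj x y) ∧
          ∃ M₀ : Subgroup M, Odd (Nat.card M₀) ∧
            ∀ m : M, ∃ a ∈ M₀, ∃ c ∈ Subgroup.centralizer ({I} : Set M), m = a * c := by
  classical
  haveI : Fact (Nat.Prime 2) := ⟨Nat.prime_two⟩
  obtain ⟨i₀, hi₀M, hi₀⟩ := CfsgLib.Inv.exists_invol_of_even hM
  -- some involution lies outside `M`
  obtain ⟨o, ho, hoM⟩ : ∃ o : S, orderOf o = 2 ∧ o ∉ M := by
    by_contra hall
    push_neg at hall
    let N : Subgroup S := Subgroup.closure {x : S | orderOf x = 2}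
    haveI hNn : N.Normal := by
      refine ⟨fun n hn g => ?_⟩
      induction hn using Subgroup.closure_induction with
      | mem x hx => exact Subgroup.subset_closure ((MulAut.conj g).orderOf_eq x ▸ hx : orderOf (MulAut.conj g x) = 2)
      | one => simp
      | mul a b _ _ iha ihb =>
        rw [show g * (a * b) * g⁻¹ = g * a * g⁻¹ * (g * b * g⁻¹) by group]
        exact N.mul_mem iha ihb
      | inv a _ iha =>
        rw [show g * a⁻¹ * g⁻¹ = (g * a * g⁻¹)⁻¹ by group]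
        exact N.inv_mem iha
    have hNM : N ≤ M.normalCore := Subgroup.normal_le_normalCore.mpr ((Subgroup.closure_le M).mpr hall)
    have hev : 2 ∣ Nat.card ↥M.normalCore :=
      hi₀ ▸ Subgroup.orderOf_dvd_natCard _ (hNM (Subgroup.subset_closure hi₀))
    exact (Nat.not_even_iff_odd.mpr hcore) (even_iff_two_dvd.mpr hev)
  have hMtop : M ≠ ⊤ := fun h => hoM (h ▸ Subgroup.mem_top o)
  have hin : ∀ u v : S, orderOf u = 2 → u ∈ M → orderOf v = 2 → v ∉ M → IsConj u v := by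
    intro u v hu huM hv hvM
    rcases Nat.even_or_odd (orderOf (u * v)) with he | hodd
    · obtain ⟨hw, hwu, hwv⟩ := CfsgLib.Inv.even_center hu hv he
      have h1 := hC u huM hu (Subgroup.mem_centralizer_singleton_iff.mpr hwu)
      exact absurd (hC _ h1 hw (Subgroup.mem_centralizer_singleton_iff.mpr hwv.symm)) hvM
    · obtain ⟨d, -, hd⟩ := CfsgLib.Inv.conj_of_odd hu hv hodd
      exact isConj_iff.mpr ⟨d, hd⟩
  refine ⟨fun x y hx hy => ?_, ?_⟩
  · by_cases hxM : x ∈ M <;> by_cases hyM : y ∈ M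
    · exact (hin x o hx hxM ho hoM).trans (hin y o hy hyM ho hoM).symm
    · exact hin x y hx hxM hy hyM
    · exact (hin y x hy hyM hx hxM).symm
    · exact (hin i₀ x hi₀ hi₀M hx hxM).symm.trans (hin i₀ y hi₀ hi₀M hy hyM)
  intro X I hI hIo hNX
  set X' := (X : Subgroup M).map M.subtype with hX'
  have hX'p : IsPGroup 2 ↥X' := X.isPGroup'.map _
  -- `X'` is a Sylow subgroup of `S`
  obtain ⟨R, hR⟩ := hX'p.exists_le_sylow
  have hRX : (R : Subgroup S) = X' := by
    by_contra hne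
    haveI : Group.IsNilpotent ↥(R : Subgroup S) := R.isPGroup'.isNilpotent
    have hlt : X'.subgroupOf (R : Subgroup S) < ⊤ := lt_top_iff_ne_top.mpr (fun h =>
      hne (le_antisymm (Subgroup.subgroupOf_eq_top.mp h) hR))
    obtain ⟨⟨y, hyR⟩, hyN, hyX⟩ := SetLike.exists_of_lt (Group.normalizerCondition_of_isNilpotent _ hlt)
    have hyN' : y ∈ Subgroup.normalizer (X' : Set S) := by
      rw [Subgroup.mem_normalizer_iff]
      intro w
      constructor
      · intro hw
        exact (Subgroup.mem_normalizer_iff.mp hyN ⟨w, hR hw⟩).mp hw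
      · intro hw
        have hwR : w ∈ (R : Subgroup S) := by
          have := (R : Subgroup S).mul_mem ((R : Subgroup S).mul_mem ((R : Subgroup S).inv_mem hyR) (hR hw)) hyR
          rwa [show y⁻¹ * (y * w * y⁻¹) * y = w by group] at this
        exact (Subgroup.mem_normalizer_iff.mp hyN ⟨w, hwR⟩).mpr hw
    have hyM : y ∈ M := hNX hyN'
    have hsup := X.is_maximal' (Q := (R : Subgroup S).subgroupOf M)
      (R.isPGroup'.comap_subtype) (fun w hw => hR ⟨w, hw, rfl⟩)
    exact hyX ⟨⟨y, hyM⟩, hsup.le hyR, rfl⟩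
  have hIX : (I : S) ∈ X' := by
    obtain ⟨w, -, rfl⟩ := hI
    exact ⟨_, w.2, rfl⟩
  have hIc : ∀ w ∈ X', (I : S) * w = w * I := by
    rintro _ ⟨w, hw, rfl⟩
    obtain ⟨J, hJ, rfl⟩ := hI
    exact (congrArg (fun q : ↥(X : Subgroup M) => ((q : ↥M) : S)) (Subgroup.mem_center_iff.mp hJ ⟨w, hw⟩)).symm
  have hIo' : orderOf (I : S) = 2 := by rw [Subgroup.orderOf_coe]; exact hIo
  -- conjugating `I` into `M` happens inside `M`
  have keyI : ∀ g : S, g * I * g⁻¹ ∈ M → g ∈ M := by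
    intro g hg
    obtain ⟨Y, hY⟩ := (IsPGroup.of_card (n := 1) (G := ↥(Subgroup.zpowers (⟨g * I * g⁻¹, hg⟩ : ↥M))) (by
      rw [Nat.card_zpowers, Subgroup.orderOf_mk, pow_one,
        show g * I * g⁻¹ = MulAut.conj g (I : S) from rfl, MulEquiv.orderOf_eq, hIo'])).exists_le_sylow
    obtain ⟨m, hm⟩ := MulAction.exists_smul_eq ↥M Y X
    have hv : (m : S) * g * I * ((m : S) * g)⁻¹ ∈ X' := by
      refine ⟨m * ⟨g * I * g⁻¹, hg⟩ * m⁻¹, ?_, by simp [mul_assoc]⟩
      rw [← hm, Sylow.coe_subgroup_smul]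
      exact ⟨_, hY (Subgroup.mem_zpowers _), rfl⟩
    set g' := (m : S) * g with hg'
    have hle : X'.map (MulAut.conj g').toMonoidHom ≤ M := by
      rintro _ ⟨w, hw, rfl⟩
      have hvM : g' * I * g'⁻¹ ∈ M := Subgroup.map_subtype_le _ hv
      refine hC _ hvM (by rw [show g' * I * g'⁻¹ = MulAut.conj g' (I : S) from rfl, MulEquiv.orderOf_eq, hIo']) ?_
      rw [Subgroup.mem_centralizer_singleton_iff]
      show g' * w * g'⁻¹ * (g' * I * g'⁻¹) = g' * I * g'⁻¹ * (g' * w * g'⁻¹)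
      calc g' * w * g'⁻¹ * (g' * I * g'⁻¹) = g' * (w * I) * g'⁻¹ := by group
        _ = g' * (I * w) * g'⁻¹ := by rw [hIc w hw]
        _ = _ := by group
    have hp2 : IsPGroup 2 ↥((X'.map (MulAut.conj g').toMonoidHom).subgroupOf M) :=
      (hX'p.map _).comap_subtype
    obtain ⟨Z, hZ⟩ := hp2.exists_le_sylow
    obtain ⟨m', hm'⟩ := MulAction.exists_smul_eq ↥M Z X
    have hnorm : (m' : S) * g' ∈ Subgroup.normalizer (X' : Set S) := by
      refine CfsgLib.Solv.mem_normalizer_of_conj_smul_eq ?_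
      rw [CfsgLib.Solv.conj_smul_eq_map]
      refine Subgroup.eq_of_le_of_card_ge ?_ (le_of_eq (Nat.card_congr (X'.equivMapOfInjective _ (MulAut.conj _).injective).toEquiv))
      rintro _ ⟨w, hw, rfl⟩
      refine ⟨m' * ⟨g' * w * g'⁻¹, hle ⟨w, hw, rfl⟩⟩ * m'⁻¹, ?_, by simp [mul_assoc]⟩
      rw [← hm', Sylow.coe_subgroup_smul]
      exact ⟨_, hZ (show (⟨g' * w * g'⁻¹, _⟩ : ↥M) ∈ _ from ⟨w, hw, rfl⟩), rfl⟩
    have h1 : (m' : S) * g' ∈ M := hNX hnorm
    rw [hg', ← mul_assoc] at h1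
    simpa [mul_assoc] using M.mul_mem (M.inv_mem (M.mul_mem m'.2 m.2)) h1
  have hSE : Cfsg.IsStronglyEmbedded M := by
    rw [CfsgLib.Inv.se_iff_invol]
    refine ⟨hMtop, hM, fun g t ht htM hgt => ?_⟩
    obtain ⟨Y, hY⟩ := (IsPGroup.of_card (n := 1) (G := ↥(Subgroup.zpowers (⟨t, htM⟩ : ↥M))) (by
      rw [Nat.card_zpowers, Subgroup.orderOf_mk, pow_one, ht])).exists_le_sylow
    obtain ⟨m, hm⟩ := MulAction.exists_smul_eq ↥M Y X
    have hmt : (m : S) * t * (m : S)⁻¹ ∈ X' := by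
      refine ⟨m * ⟨t, htM⟩ * m⁻¹, ?_, rfl⟩
      rw [← hm, Sylow.coe_subgroup_smul]
      exact ⟨_, hY (Subgroup.mem_zpowers _), rfl⟩
    have hIC : (m : S)⁻¹ * I * m ∈ Subgroup.centralizer ({t} : Set S) := by
      rw [Subgroup.mem_centralizer_singleton_iff]
      have h2 := hIc _ hmt
      calc (m : S)⁻¹ * I * m * t = (m : S)⁻¹ * (I * (m * t * (m : S)⁻¹)) * m := by group
        _ = (m : S)⁻¹ * ((m * t * (m : S)⁻¹) * I) * m := by rw [h2]
        _ = _ := by group
    have h4 : g⁻¹ * ((m : S)⁻¹ * I * m) * g ∈ M := by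
      refine hC _ hgt (by rw [show g⁻¹ * t * g = MulAut.conj g⁻¹ t by simp, MulEquiv.orderOf_eq, ht]) ?_
      rw [Subgroup.mem_centralizer_singleton_iff] at hIC ⊢
      calc g⁻¹ * ((m : S)⁻¹ * I * m) * g * (g⁻¹ * t * g) = g⁻¹ * ((m : S)⁻¹ * I * m * t) * g := by group
        _ = g⁻¹ * (t * ((m : S)⁻¹ * I * m)) * g := by rw [hIC]
        _ = _ := by group
    have h5 : g⁻¹ * (m : S)⁻¹ ∈ M := keyI _ (by simpa [mul_assoc] using h4)
    have h6 : g⁻¹ ∈ M := by simpa [mul_assoc] using M.mul_mem h5 m.2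
    simpa using M.inv_mem h6
  -- the stabilizer of two points
  set x₀ : S ⧸ M := ((1 : S) : S ⧸ M) with hx₀
  have hfix : ∀ s : S, s ∈ M → s • x₀ = x₀ := fun s hs =>
    CfsgLib.Inv.fixed_coset_iff.mpr (by simpa using hs)
  set y₀ := o • x₀ with hy₀
  have hxy : x₀ ≠ y₀ := fun h => hoM (by simpa using CfsgLib.Inv.fixed_coset_iff.mp h.symm)
  have hd : ∀ s t : ↥M, orderOf s = 2 → orderOf t = 2 →
      ∃ d : ↥M, (d : S) • y₀ = y₀ ∧ d * s * d⁻¹ = t := by
    intro s t hs ht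
    obtain ⟨d, hdx, hdy, hde⟩ := CfsgLib.Inv.se_transitive hSE hxy ho rfl
      (s := (s : S)) (t := (t : S)) (by rw [Subgroup.orderOf_coe]; exact hs) (hfix _ s.2)
      (by rw [Subgroup.orderOf_coe]; exact ht) (hfix _ t.2)
    exact ⟨⟨d, by simpa using CfsgLib.Inv.fixed_coset_iff.mp hdx⟩, hdy, Subtype.ext hde⟩
  refine ⟨fun x y hx hy => ?_, (MulAction.stabilizer S y₀).subgroupOf M, ?_, ?_⟩
  · obtain ⟨d, -, hd'⟩ := hd x y hx hy
    exact isConj_iff.mpr ⟨d, hd'⟩
  · by_contra hodd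
    rw [Nat.not_odd_iff_even, even_iff_two_dvd] at hodd
    obtain ⟨⟨w, hw⟩, hwo⟩ := exists_prime_orderOf_dvd_card' 2 hodd
    rw [Subgroup.orderOf_mk, ← Subgroup.orderOf_coe] at hwo
    exact hxy (CfsgLib.Inv.se_fixed_unique hSE hwo (hfix _ w.2) (MulAction.mem_stabilizer_iff.mp hw))
  · intro m
    obtain ⟨d, hdy, hde⟩ := hd I (m * I * m⁻¹) hIo
      (by rw [show m * I * m⁻¹ = MulAut.conj m I from rfl, MulEquiv.orderOf_eq, hIo])
    refine ⟨d, MulAction.mem_stabilizer_iff.mpr hdy, d⁻¹ * m, ?_, by simp⟩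
    rw [Subgroup.mem_centralizer_singleton_iff]
    calc d⁻¹ * m * I = d⁻¹ * (m * I * m⁻¹) * m := by group
      _ = d⁻¹ * (d * I * d⁻¹) * m := by rw [hde]
      _ = _ := by group

end Cfsg.Agent.S1905
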