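import Cfsg.Statements.S1907
import Cfsg.Agent.Base.PPrimeP
-- import your own Cfsg.Agent.* helpers here

set_option autoImplicit false
open Cfsg

namespace Cfsg.Agent.S1907

/-- Let P be a Sylow p-subgroup of a finite group G, H = P ∩ O_{p',p}(G), N = N_G(H) and D = O_{p'}(G). (a) If y is an element of p-power order of N and d ∈ D with d⁻¹ y d ∈ N, then d = d₁ d₂ with d₁ ∈ C_D(y) and d₂ ∈ C_D(H). (b) Two elements of P that are conjugate in G are conjugate in N. -/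
theorem result {G : Type*} [Group G] [Finite G] {p : ℕ} [Fact p.Prime] (P : Sylow p G) :
    (∀ y ∈ Subgroup.normalizer (((P : Subgroup G) ⊓ Cfsg.pPrimePCore p G : Subgroup G) : Set G), (∃ k : ℕ, orderOf y = p ^ k) →
      ∀ d ∈ Cfsg.pPrimeCore p G, d⁻¹ * y * d ∈ Subgroup.normalizer (((P : Subgroup G) ⊓ Cfsg.pPrimePCore p G : Subgroup G) : Set G) →
        ∃ d₁ ∈ Cfsg.pPrimeCore p G ⊓ Subgroup.centralizer ({y} : Set G),
          ∃ d₂ ∈ Cfsg.pPrimeCore p G ⊓ Subgroup.centralizer (((P : Subgroup G) ⊓ Cfsg.pPrimePCore p G : Subgroup G) : Set G), d = d₁ * d₂) ∧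
    ∀ x y : G, x ∈ (P : Subgroup G) → y ∈ (P : Subgroup G) → IsConj x y →
      ∃ n ∈ Subgroup.normalizer (((P : Subgroup G) ⊓ Cfsg.pPrimePCore p G : Subgroup G) : Set G), n * x * n⁻¹ = y := by
  classical
  haveI := CfsgLib.Solv.pPrimeCore_normal G p
  set O := Cfsg.pPrimeCore p G with hO
  set K := (P : Subgroup G) ⊓ Cfsg.pPrimePCore p G with hK
  set N := Subgroup.normalizer (K : Set G) with hN
  have hfirst : ∀ y ∈ N, (∃ k : ℕ, orderOf y = p ^ k) → ∀ d ∈ O, d⁻¹ * y * d ∈ N →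
      ∃ d₁ ∈ O ⊓ Subgroup.centralizer ({y} : Set G), ∃ d₂ ∈ O ⊓ Subgroup.centralizer (K : Set G),
        d = d₁ * d₂ := by
    intro y hy ⟨k, hk⟩ d hd hyd
    set y' := d⁻¹ * y * d with hy'
    set M := O ⊓ N with hMdef
    have hMC : M ≤ O ⊓ Subgroup.centralizer (K : Set G) := by
      rintro m ⟨hmO, hmN⟩
      refine ⟨hmO, ?_⟩
      show m ∈ Subgroup.centralizer (K : Set G)
      rw [Subgroup.mem_centralizer_iff]
      intro x hx
      exact (CfsgLib.Base.PPrimeP.commute_of_core (P.isPGroup'.to_le inf_le_left) hmO hx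
        ((Subgroup.mem_normalizer_iff.mp hmN x).mp hx)).symm
    have ho : y⁻¹ * y' ∈ M := by
      refine ⟨?_, N.mul_mem (N.inv_mem hy) hyd⟩
      rw [hy']
      simpa [mul_assoc] using O.mul_mem ((inferInstance : O.Normal).conj_mem _ (O.inv_mem hd) y⁻¹) hd
    -- work inside `H = M⟨y⟩`
    have hMN : Subgroup.zpowers y ≤ Subgroup.normalizer (M : Set G) := by
      rw [Subgroup.zpowers_le, Subgroup.mem_normalizer_iff]
      intro z
      constructor
      · intro hz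
        exact ⟨(inferInstance : O.Normal).conj_mem _ hz.1 y, N.mul_mem (N.mul_mem hy hz.2) (N.inv_mem hy)⟩
      · intro hz
        have := (inferInstance : O.Normal).conj_mem _ hz.1 y⁻¹
        refine ⟨by simpa [mul_assoc] using this, ?_⟩
        simpa [mul_assoc] using N.mul_mem (N.mul_mem (N.inv_mem hy) hz.2) hy
    set H := M ⊔ Subgroup.zpowers y with hH
    have hyH : y ∈ H := Subgroup.mem_sup_right (Subgroup.mem_zpowers y)
    have hy'H : y' ∈ H := by
      rw [show y' = y * (y⁻¹ * y') by simp [mul_assoc]]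
      exact H.mul_mem hyH (Subgroup.mem_sup_left ho)
    have hok : orderOf y' = p ^ k := by
      rw [← hk, hy', show d⁻¹ * y * d = MulAut.conj d⁻¹ y by simp]
      exact (MulAut.conj d⁻¹).orderOf_eq y
    have hpg : ∀ z : G, orderOf z = p ^ k → IsPGroup p ↥(Subgroup.zpowers z) := fun z hz =>
      IsPGroup.of_card (n := k) (by rw [Nat.card_zpowers, hz])
    have hidx : ∀ z : G, orderOf z = p ^ k → z ∈ H →
        ¬ p ∣ ((Subgroup.zpowers z).subgroupOf H).index := by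
      intro z hz hzH hdvd
      have h1 := Subgroup.card_mul_index ((Subgroup.zpowers z).subgroupOf H)
      rw [Nat.card_congr (Subgroup.subgroupOfEquivOfLe (Subgroup.zpowers_le.mpr hzH)).toEquiv,
        Nat.card_zpowers, hz] at h1
      have hinf : M ⊓ Subgroup.zpowers y = ⊥ := by
        rw [eq_bot_iff, ← CfsgLib.Base.PPrimeP.inf_pPrimeCore (hpg y hk), inf_comm]
        exact inf_le_inf le_rfl inf_le_left
      have h2 : Nat.card ↥H = Nat.card ↥M * p ^ k := by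
        rw [← hk, ← Nat.card_zpowers, hH, ← Nat.card_prod]
        symm
        refine Nat.card_eq_of_bijective (fun q : ↥M × ↥(Subgroup.zpowers y) =>
          (⟨(q.1 : G) * q.2, (M ⊔ Subgroup.zpowers y).mul_mem (Subgroup.mem_sup_left q.1.2) (Subgroup.mem_sup_right q.2.2)⟩ : ↥(M ⊔ Subgroup.zpowers y))) ⟨?_, ?_⟩
        · rintro ⟨a, b⟩ ⟨a', b'⟩ h
          have h' : (a : G) * b = a' * b' := congrArg Subtype.val h
          have h3 : (a' : G)⁻¹ * a ∈ M ⊓ Subgroup.zpowers y := ⟨M.mul_mem (M.inv_mem a'.2) a.2, by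
            rw [show (a' : G)⁻¹ * a = b' * (b : G)⁻¹ by
              rw [eq_mul_inv_iff_mul_eq, mul_assoc, h', inv_mul_cancel_left]]
            exact (Subgroup.zpowers y).mul_mem b'.2 ((Subgroup.zpowers y).inv_mem b.2)⟩
          rw [hinf, Subgroup.mem_bot, inv_mul_eq_one] at h3
          refine Prod.ext (Subtype.ext h3.symm) (Subtype.ext ?_)
          rw [h3] at h'
          exact mul_left_cancel h'
        · rintro ⟨z, hz⟩
          rw [← SetLike.mem_coe, Subgroup.coe_mul_of_right_le_normalizer_left M _ hMN] at hz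
          obtain ⟨a, ha, b, hb, rfl⟩ := hz
          exact ⟨(⟨a, ha⟩, ⟨b, hb⟩), rfl⟩
      rw [h2, mul_comm (Nat.card ↥M)] at h1
      have h4 := Nat.eq_of_mul_eq_mul_left (pow_pos (Fact.out : p.Prime).pos k) h1
      rw [h4] at hdvd
      exact CfsgLib.Solv.not_dvd_card_pPrimeCore (hdvd.trans (Subgroup.card_dvd_of_le inf_le_left))
    let T : Sylow p ↥H := ((hpg y hk).of_equiv (Subgroup.subgroupOfEquivOfLe (Subgroup.zpowers_le.mpr hyH)).symm).toSylow (hidx y hk hyH)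
    let T' : Sylow p ↥H := ((hpg y' hok).of_equiv (Subgroup.subgroupOfEquivOfLe (Subgroup.zpowers_le.mpr hy'H)).symm).toSylow (hidx y' hok hy'H)
    obtain ⟨⟨h, hhH⟩, hh⟩ := MulAction.exists_smul_eq ↥H T T'
    rw [← SetLike.mem_coe, hH, Subgroup.coe_mul_of_right_le_normalizer_left M _ hMN] at hhH
    obtain ⟨m, hm, b, hb, hmb⟩ := hhH
    obtain ⟨i, rfl⟩ := Subgroup.mem_zpowers_iff.mp hb
    have hconj : m * y * m⁻¹ ∈ Subgroup.zpowers y' := by
      have h1 : (⟨h, by rw [hH]; exact hmb ▸ (M ⊔ Subgroup.zpowers y).mul_mem (Subgroup.mem_sup_left hm) (Subgroup.mem_sup_right hb)⟩ : ↥H) * ⟨y, hyH⟩ *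
          (⟨h, by rw [hH]; exact hmb ▸ (M ⊔ Subgroup.zpowers y).mul_mem (Subgroup.mem_sup_left hm) (Subgroup.mem_sup_right hb)⟩ : ↥H)⁻¹ ∈ (T' : Subgroup ↥H) := by
        rw [← hh]
        exact ⟨⟨y, hyH⟩, (Subgroup.mem_zpowers y : y ∈ Subgroup.zpowers y), rfl⟩
      have h2 : h * y * h⁻¹ ∈ Subgroup.zpowers y' := h1
      rw [← hmb] at h2
      rwa [show m * y ^ i * y * (m * y ^ i)⁻¹ = m * y * m⁻¹ by group] at h2
    have heq : m * y * m⁻¹ = y' := by
      have h1 : y'⁻¹ * (m * y * m⁻¹) ∈ Subgroup.zpowers y' ⊓ Cfsg.pPrimeCore p G := by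
        refine ⟨(Subgroup.zpowers y').mul_mem ((Subgroup.zpowers y').inv_mem (Subgroup.mem_zpowers y')) hconj, ?_⟩
        have e1 : y⁻¹ * (m * y * m⁻¹) ∈ O := by
          simpa [mul_assoc] using O.mul_mem ((inferInstance : O.Normal).conj_mem _ hm.1 y⁻¹) (O.inv_mem hm.1)
        simpa [mul_assoc] using O.mul_mem (O.inv_mem ho.1) e1
      rw [CfsgLib.Base.PPrimeP.inf_pPrimeCore (hpg y' hok), Subgroup.mem_bot, inv_mul_eq_one] at h1
      exact h1.symm
    refine ⟨d * m, ⟨O.mul_mem hd hm.1, ?_⟩, m⁻¹, Subgroup.inv_mem _ (hMC hm), by simp [mul_assoc]⟩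
    show d * m ∈ Subgroup.centralizer ({y} : Set G)
    rw [Subgroup.mem_centralizer_singleton_iff]
    calc d * m * y = d * (m * y * m⁻¹) * m := by simp [mul_assoc]
      _ = y * (d * m) := by rw [heq, hy']; simp [mul_assoc]
  refine ⟨hfirst, ?_⟩
  intro x y hx hy hxy
  obtain ⟨g, hg⟩ := isConj_iff.mp hxy
  obtain ⟨o, ho, n, hn, rfl⟩ := CfsgLib.Base.PPrimeP.exists_decomp P g
  haveI := CfsgLib.Base.PPrimeP.pPrimePCore_normal (G := G) (p := p)
  have hPN : (P : Subgroup G) ≤ N := by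
    intro s hs
    rw [hN, Subgroup.mem_normalizer_iff]
    intro z
    constructor
    · intro hz
      exact ⟨(P : Subgroup G).mul_mem ((P : Subgroup G).mul_mem hs hz.1) ((P : Subgroup G).inv_mem hs),
        Subgroup.Normal.conj_mem inferInstance _ hz.2 s⟩
    · intro hz
      refine ⟨by have := (P : Subgroup G).mul_mem ((P : Subgroup G).mul_mem ((P : Subgroup G).inv_mem hs) hz.1) hs; rwa [show s⁻¹ * (s * z * s⁻¹) * s = z by group] at this, ?_⟩
      simpa [mul_assoc] using Subgroup.Normal.conj_mem (H := Cfsg.pPrimePCore p G) inferInstance _ hz.2 s⁻¹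
  set x' := n * x * n⁻¹ with hx'
  have hx'N : x' ∈ N := N.mul_mem (N.mul_mem hn (hPN hx)) (N.inv_mem hn)
  have hk : ∃ k : ℕ, orderOf x' = p ^ k := by
    obtain ⟨k, hk⟩ := IsPGroup.iff_orderOf.mp P.isPGroup' ⟨x, hx⟩
    refine ⟨k, ?_⟩
    rw [← hk, Subgroup.orderOf_mk, hx', show n * x * n⁻¹ = MulAut.conj n x from rfl]
    exact (MulAut.conj n).orderOf_eq x
  have hy' : y = o * x' * o⁻¹ := by rw [← hg, hx']; simp [mul_assoc]
  obtain ⟨d₁, ⟨-, hd₁⟩, d₂, ⟨-, hd₂⟩, hd⟩ := hfirst x' hx'N hk o⁻¹ (O.inv_mem ho)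
    (by rw [inv_inv, ← hy']; exact hPN hy)
  replace hd₁ : d₁ * x' = x' * d₁ := Subgroup.mem_centralizer_singleton_iff.mp hd₁
  refine ⟨d₂⁻¹ * n, N.mul_mem (N.inv_mem (Subgroup.centralizer_le_normalizer _ hd₂)) hn, ?_⟩
  rw [hy', show o = (d₁ * d₂)⁻¹ by rw [← hd, inv_inv], hx']
  have hd₁' : d₁⁻¹ * x' * d₁ = x' := by
    rw [mul_assoc, ← hd₁, inv_mul_cancel_left]
  calc d₂⁻¹ * n * x * (d₂⁻¹ * n)⁻¹ = d₂⁻¹ * x' * d₂ := by rw [hx']; simp [mul_assoc]
    _ = d₂⁻¹ * (d₁⁻¹ * x' * d₁) * d₂ := by rw [hd₁']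
    _ = _ := by rw [hx']; simp [mul_assoc]

end Cfsg.Agent.S1907
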