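import Cfsg.Statements.S1921
import Cfsg.Agent.Inv.Component
-- import your own Cfsg.Agent.* helpers here

set_option autoImplicit false
open Cfsg

namespace Cfsg.Agent.S1921

/-- Let a be an involution of a finite group H and L a component of H with a L a⁻¹ ≠ L; put M = ⟨L, aLa⁻¹⟩ and let J be the subgroup generated by the elements x · a x a⁻¹ with x ∈ L (the diagonal). Then every element of M outside J·Z(M) generates M together with J. -/
theorem result {H : Type*} [Group H] [Finite H] (a : H) (ha : orderOf a = 2) (L : Subgroup H) (hL : Cfsg.IsComponent L)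
    (hLa : L.map (MulAut.conj a).toMonoidHom ≠ L) (x : H) (hxM : x ∈ L ⊔ L.map (MulAut.conj a).toMonoidHom)
    (hxJ : x ∉ Subgroup.closure {y : H | ∃ l ∈ L, y = l * (a * l * a⁻¹)} ⊔
      ((L ⊔ L.map (MulAut.conj a).toMonoidHom) ⊓ Subgroup.centralizer ((L ⊔ L.map (MulAut.conj a).toMonoidHom : Subgroup H) : Set H))) :
    Subgroup.closure {y : H | ∃ l ∈ L, y = l * (a * l * a⁻¹)} ⊔ Subgroup.zpowers x = L ⊔ L.map (MulAut.conj a).toMonoidHom := by
  classical
  set L' := L.map (MulAut.conj a).toMonoidHom with hL'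
  have hL'c : Cfsg.IsComponent L' := CfsgLib.Inv.isComponent_conj hL a
  have hcomm : ∀ l ∈ L, ∀ m ∈ L', l * m = m * l := fun l hl m hm => by
    have h1 := CfsgLib.Inv.components_commute hL hL'c (fun e => hLa e.symm)
    rw [Subgroup.commutator_eq_bot_iff_le_centralizer] at h1
    exact (Subgroup.mem_centralizer_iff.mp (h1 hl) m hm).symm
  have hconj : ∀ l ∈ L, a * l * a⁻¹ ∈ L' := fun l hl => ⟨l, hl, rfl⟩
  set J := Subgroup.closure {y : H | ∃ l ∈ L, y = l * (a * l * a⁻¹)} with hJ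
  set M := L ⊔ L' with hM
  have hgen : ∀ l ∈ L, l * (a * l * a⁻¹) ∈ J := fun l hl => Subgroup.subset_closure ⟨l, hl, rfl⟩
  have hnorm : L ≤ Subgroup.normalizer (L' : Set H) := le_trans
    (fun l hl => Subgroup.mem_centralizer_iff.mpr fun m hm => (hcomm l hl m hm).symm)
    (Subgroup.centralizer_le_normalizer _)
  obtain ⟨l1, hl1, m, hm, rfl⟩ : ∃ l1 ∈ L, ∃ m ∈ L', x = l1 * m := by
    have h1 : x ∈ ((L ⊔ L' : Subgroup H) : Set H) := hxM
    rw [Subgroup.coe_mul_of_left_le_normalizer_right _ _ hnorm] at h1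
    obtain ⟨l1, hl1, m, hm, e⟩ := h1
    exact ⟨l1, hl1, m, hm, e.symm⟩
  obtain ⟨l2, hl2, rfl⟩ := hm
  show J ⊔ Subgroup.zpowers (l1 * (a * l2 * a⁻¹)) = M
  set K := J ⊔ Subgroup.zpowers (l1 * (a * l2 * a⁻¹)) with hK
  set y : ↥L := ⟨l1 * l2⁻¹, L.mul_mem hl1 (L.inv_mem hl2)⟩ with hy
  have hyK : (y : H) ∈ K := by
    have h1 : l1 * (a * l2 * a⁻¹) * (l2 * (a * l2 * a⁻¹))⁻¹ ∈ K :=
      K.mul_mem (Subgroup.mem_sup_right (Subgroup.mem_zpowers _)) (K.inv_mem (Subgroup.mem_sup_left (hgen l2 hl2)))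
    have e : l1 * (a * l2 * a⁻¹) * (l2 * (a * l2 * a⁻¹))⁻¹ = l1 * l2⁻¹ := by group
    show l1 * l2⁻¹ ∈ K
    exact e ▸ h1
  haveI : (K.subgroupOf L).Normal := ⟨fun n hn l => by
    rw [Subgroup.mem_subgroupOf] at hn ⊢
    have hj : (l : H) * (a * l * a⁻¹) ∈ K := Subgroup.mem_sup_left (hgen l l.2)
    have h1 := K.mul_mem (K.mul_mem hj hn) (K.inv_mem hj)
    have e : (l : H) * (a * l * a⁻¹) * n * ((l : H) * (a * l * a⁻¹))⁻¹ = ((l * n * l⁻¹ : ↥L) : H) := by
      simp only [Subgroup.coe_mul, Subgroup.coe_inv, mul_inv_rev]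
      calc (l : H) * (a * l * a⁻¹) * n * ((a⁻¹)⁻¹ * ((l : H)⁻¹ * a⁻¹) * (l : H)⁻¹)
          = l * ((a * l * a⁻¹) * n) * (a * l * a⁻¹)⁻¹ * (l : H)⁻¹ := by group
        _ = l * (n * (a * l * a⁻¹)) * (a * l * a⁻¹)⁻¹ * (l : H)⁻¹ := by rw [hcomm n n.2 _ (hconj l l.2)]
        _ = _ := by group
    exact e ▸ h1⟩
  have hLK : L ≤ K := by
    rcases CfsgLib.Inv.quasisimple_normal hL.2 (K.subgroupOf L) with h | h
    · exfalso
      apply hxJ
      have hyc : y ∈ Subgroup.center ↥L := h (Subgroup.mem_subgroupOf.mpr hyK)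
      have hyM : (y : H) ∈ M ⊓ Subgroup.centralizer (M : Set H) := by
        refine ⟨Subgroup.mem_sup_left y.2, ?_⟩
        have hle : M ≤ Subgroup.centralizer ({(y : H)} : Set H) := sup_le
          (fun l hl => Subgroup.mem_centralizer_singleton_iff.mpr
            (congrArg Subtype.val (Subgroup.mem_center_iff.mp hyc ⟨l, hl⟩)))
          (fun m hm => Subgroup.mem_centralizer_singleton_iff.mpr (hcomm y y.2 m hm).symm)
        exact Subgroup.mem_centralizer_iff.mpr fun m hm => Subgroup.mem_centralizer_singleton_iff.mp (hle hm)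
      have e : l1 * (a * l2 * a⁻¹) = (y : H) * (l2 * (a * l2 * a⁻¹)) := by rw [hy]; group
      show l1 * (a * l2 * a⁻¹) ∈ J ⊔ (M ⊓ Subgroup.centralizer (M : Set H))
      rw [e]
      exact Subgroup.mul_mem _ (Subgroup.mem_sup_right hyM) (Subgroup.mem_sup_left (hgen l2 hl2))
    · exact Subgroup.subgroupOf_eq_top.mp h
  refine le_antisymm (sup_le ((Subgroup.closure_le _).mpr ?_) (Subgroup.zpowers_le.mpr hxM)) (sup_le hLK ?_)
  · rintro _ ⟨l, hl, rfl⟩
    exact M.mul_mem (Subgroup.mem_sup_left hl) (Subgroup.mem_sup_right (hconj l hl))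
  · rintro _ ⟨l, hl, rfl⟩
    have h1 := K.mul_mem (K.inv_mem (hLK hl)) (Subgroup.mem_sup_left (T := Subgroup.zpowers (l1 * (a * l2 * a⁻¹))) (hgen l hl))
    simpa [mul_assoc] using h1

end Cfsg.Agent.S1921
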