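import Cfsg.Statements.S1922
import Cfsg.Agent.Inv.Dihedral
import Mathlib.GroupTheory.Sylow
import Mathlib.GroupTheory.GroupAction.Quotient
import Mathlib.GroupTheory.IndexNormal
-- import your own Cfsg.Agent.* helpers here

set_option autoImplicit false
open Cfsg

namespace Cfsg.Agent.S1922

open CfsgLib.Inv
open scoped Pointwise

variable {G : Type*} [Group G] [Finite G]

theorem card_conj (x : G) :
    Nat.card {y : G // IsConj x y} = (Subgroup.centralizer ({x} : Set G)).index := by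
  rw [Subgroup.index_eq_card]
  symm
  refine Nat.card_eq_of_bijective (fun q => Quotient.liftOn' q (fun g => (⟨g * x * g⁻¹, isConj_iff.2 ⟨g, rfl⟩⟩ : {y : G // IsConj x y})) ?_) ⟨?_, ?_⟩
  · intro a b hab
    rw [QuotientGroup.leftRel_apply] at hab
    have h := Subgroup.mem_centralizer_singleton_iff.1 hab
    refine Subtype.ext ?_
    have e : a⁻¹ * b * x = x * (a⁻¹ * b) := h
    calc a * x * a⁻¹ = a * (x * (a⁻¹ * b)) * b⁻¹ := by group
      _ = a * (a⁻¹ * b * x) * b⁻¹ := by rw [e]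
      _ = b * x * b⁻¹ := by group
  · intro a b
    obtain ⟨a, rfl⟩ := QuotientGroup.mk_surjective a
    obtain ⟨b, rfl⟩ := QuotientGroup.mk_surjective b
    intro h
    have e : a * x * a⁻¹ = b * x * b⁻¹ := congrArg Subtype.val h
    refine QuotientGroup.eq.2 (Subgroup.mem_centralizer_singleton_iff.2 ?_)
    calc a⁻¹ * b * x = a⁻¹ * (b * x * b⁻¹) * b := by group
      _ = x * (a⁻¹ * b) := by rw [← e]; group
  · rintro ⟨y, hy⟩
    obtain ⟨g, rfl⟩ := isConj_iff.1 hy
    exact ⟨(g : G ⧸ Subgroup.centralizer ({x} : Set G)), rfl⟩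

theorem odd_index_of_isolated (x : G) (hx : orderOf x = 2)
    (h : ∀ y, IsConj x y → y * x = x * y → y = x) :
    Odd (Subgroup.centralizer ({x} : Set G)).index := by
  haveI := Fact.mk Nat.prime_two
  obtain ⟨C, hC⟩ : ∃ C, C = Subgroup.centralizer ({x} : Set G) := ⟨_, rfl⟩
  rw [← hC]
  by_contra hev
  rw [Nat.not_odd_iff_even, even_iff_two_dvd] at hev
  obtain ⟨S⟩ : Nonempty (Sylow 2 C) := inferInstance
  have hxC : x ∈ C := hC ▸ Subgroup.mem_centralizer_singleton_iff.2 rfl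
  have hxS : (⟨x, hxC⟩ : C) ∈ (S : Subgroup C) := by
    haveI : (Subgroup.zpowers (⟨x, hxC⟩ : C)).Normal := by
      refine ⟨fun n hn g => ?_⟩
      obtain ⟨i, rfl⟩ := hn
      have hcomm : Commute g ⟨x, hxC⟩ := Subtype.ext (Subgroup.mem_centralizer_singleton_iff.1 (hC.le g.2))
      exact ⟨i, by simp only; rw [(hcomm.zpow_right i).eq, mul_inv_cancel_right]⟩
    have hp : IsPGroup 2 (Subgroup.zpowers (⟨x, hxC⟩ : C)) := IsPGroup.of_card (n := 1) (by
      rw [Nat.card_zpowers, ← Subgroup.orderOf_coe, hx, pow_one])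
    rw [← S.is_maximal' (S.isPGroup'.to_sup_of_normal_right hp) le_sup_left]
    exact Subgroup.mem_sup_right (Subgroup.mem_zpowers _)
  obtain ⟨k, hk⟩ := IsPGroup.iff_card.1 S.isPGroup'
  obtain ⟨S', hS'⟩ : ∃ S', S' = (S : Subgroup C).map C.subtype := ⟨_, rfl⟩
  have hcard : Nat.card S' = 2 ^ k := by
    rw [hS', Subgroup.card_map_of_injective C.subtype_injective, hk]
  have hd : 2 ^ (k + 1) ∣ Nat.card G := by
    rw [← Subgroup.card_mul_index C, pow_succ]
    exact Nat.mul_dvd_mul (hk ▸ Subgroup.card_subgroup_dvd_card _) hev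
  obtain ⟨T, hT, hST⟩ := Sylow.exists_subgroup_card_pow_succ hd hcard
  have hidx : (S'.subgroupOf T).index = 2 := by
    have h1 := Subgroup.card_mul_index (S'.subgroupOf T)
    rw [Nat.card_congr (Subgroup.subgroupOfEquivOfLe hST).toEquiv, hcard, hT, pow_succ] at h1
    exact Nat.eq_of_mul_eq_mul_left (by positivity) h1
  have hn := Subgroup.normal_of_index_eq_two hidx
  have hTC : T ≤ C := by
    intro s hs
    have h1 : (⟨s, hs⟩ * ⟨x, hST (hS' ▸ ⟨_, hxS, rfl⟩)⟩ * ⟨s, hs⟩⁻¹ : T) ∈ S'.subgroupOf T :=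
      hn.conj_mem _ (show x ∈ S' from hS' ▸ ⟨_, hxS, rfl⟩) _
    have h2 : s * x * s⁻¹ ∈ C := by
      have h3 : s * x * s⁻¹ ∈ S' := h1
      rw [hS'] at h3
      exact Subgroup.map_subtype_le _ h3
    rw [hC, Subgroup.mem_centralizer_singleton_iff] at h2 ⊢
    exact mul_inv_eq_iff_eq_mul.1 (h _ (isConj_iff.2 ⟨s, rfl⟩) h2)
  have hTp : IsPGroup 2 (T.subgroupOf C) := (IsPGroup.of_card hT).comap_of_injective C.subtype C.subtype_injective
  have hle : (S : Subgroup C) ≤ T.subgroupOf C := fun y hy => hST (hS' ▸ ⟨y, hy, rfl⟩)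
  have heq := congrArg (fun K : Subgroup C => Nat.card K) (S.is_maximal' hTp hle)
  beta_reduce at heq
  rw [Nat.card_congr (Subgroup.subgroupOfEquivOfLe hTC).toEquiv, hT, hk, pow_succ] at heq
  have : 0 < 2 ^ k := by positivity
  omega

theorem fwd {z : G} (hz : orderOf z = 2) (H : Subgroup G) (hH : H ≠ ⊤)
    (h0 : ∀ g : G, z • (g : G ⧸ H) = (g : G ⧸ H) ↔ g ∈ H)
    (hzt : ∀ t : G, IsConj z t → t ≠ z → t * z = z * t → ∀ g : G, (z * t) • (g : G ⧸ H) = (g : G ⧸ H) → g ∈ H) :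
    Odd (Subgroup.centralizer ({z} : Set G)).index := by
  classical
  haveI := Fact.mk Nat.prime_two
  obtain ⟨α, hα⟩ : ∃ α : G ⧸ H, α = ((1 : G) : G ⧸ H) := ⟨_, rfl⟩
  have hmkα : ∀ g : G, (g : G ⧸ H) = α ↔ g ∈ H := fun g => by
    rw [hα, QuotientGroup.eq, mul_one, inv_mem_iff]
  have hgα : ∀ g : G, g • α = (g : G ⧸ H) := fun g => by rw [hα, MulAction.Quotient.smul_mk, smul_eq_mul, mul_one]
  have hzα : z • α = α := by rw [hα]; exact (h0 1).2 (one_mem H)
  have huniq : ∀ γ, z • γ = γ → γ = α := fun γ hγ => by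
    obtain ⟨g, rfl⟩ := QuotientGroup.mk_surjective γ
    exact (hmkα g).2 ((h0 g).1 hγ)
  have hfix : ∀ g : G, ∀ δ, (g * z * g⁻¹) • δ = δ ↔ δ = g • α := fun g δ => by
    rw [mul_smul, mul_smul, smul_eq_iff_eq_inv_smul, ← inv_smul_eq_iff (g := g) (b := α)]
    exact ⟨huniq _, fun e => by rw [e, hzα]⟩
  have hpt : ∀ x, IsConj z x → ∀ γ δ : G ⧸ H, x • γ = γ → x • δ = δ → δ = γ := by
    intro x hx γ δ hγ hδ
    obtain ⟨g, rfl⟩ := isConj_iff.1 hx
    rw [(hfix g δ).1 hδ, (hfix g γ).1 hγ]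
  have hord : ∀ x, IsConj z x → orderOf x = 2 := fun x hx => by
    obtain ⟨g, rfl⟩ := isConj_iff.1 hx
    exact invol_conj hz g
  have hpair : ∀ x t, IsConj z x → IsConj z t → t ≠ x → t * x = x * t →
      ∀ γ δ : G ⧸ H, x • γ = γ → (x * t) • δ = δ → δ = γ := by
    intro x t hx ht hne hcm γ δ hγ hδ
    obtain ⟨g, rfl⟩ := isConj_iff.1 hx
    obtain ⟨c, hc⟩ := QuotientGroup.mk_surjective (g⁻¹ • δ)
    have hmem : c ∈ H := by
      refine hzt (g⁻¹ * t * g) (ht.trans (isConj_iff.2 ⟨g⁻¹, by group⟩)) (fun e => hne ?_) ?_ c ?_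
      · rw [← e]; group
      · calc g⁻¹ * t * g * z = g⁻¹ * (t * (g * z * g⁻¹)) * g := by group
          _ = g⁻¹ * ((g * z * g⁻¹) * t) * g := by rw [hcm]
          _ = z * (g⁻¹ * t * g) := by group
      · rw [hc, ← mul_smul, show z * (g⁻¹ * t * g) * g⁻¹ = g⁻¹ * (g * z * g⁻¹ * t) by group, mul_smul, hδ]
    rw [← (hmkα c).2 hmem, hc] at hfix
    have h5 := (hfix g γ).1 hγ
    rw [h5, smul_inv_smul]
  have hcentral : ∀ x x', IsConj z x → IsConj z x' → Even (orderOf (x * x')) →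
      ∃ w ∈ Subgroup.zpowers (x * x'), Commute w x ∧ Commute w x' ∧
        ∀ γ δ : G ⧸ H, x • γ = γ → w • δ = δ → δ = γ := by
    intro x x' hx hx' hev
    obtain ⟨hw2, hwx, hwx'⟩ := even_center (hord x hx) (hord x' hx') hev
    refine ⟨_, Subgroup.pow_mem _ (Subgroup.mem_zpowers _) _, hwx, hwx', fun γ δ hγ hδ => ?_⟩
    obtain ⟨m, hm⟩ : ∃ m, m = orderOf (x * x') / 2 := ⟨_, rfl⟩
    rw [← hm] at hw2 hwx hδ
    have ht : IsConj z (x * (x * x') ^ m) := by
      rcases Nat.even_or_odd' m with ⟨j, rfl | rfl⟩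
      · refine hx.trans (isConj_iff.2 ⟨(x * x') ^ (-(j : ℤ)), ?_⟩)
        rw [conj_by_zpow (hord x hx) (hord x' hx'), ← zpow_natCast]; push_cast; rfl
      · refine hx'.trans (isConj_iff.2 ⟨(x * x') ^ (-(j : ℤ)), ?_⟩)
        have e1 : ∀ c d : G, (∃ k : ℤ, c = d ^ k) → c * (x * d) * c⁻¹ = c * x * c⁻¹ * d := by
          rintro _ d ⟨k, rfl⟩; group
        have e2 := e1 ((x * x') ^ (-(j : ℤ))) (x * x') ⟨_, rfl⟩
        rw [← right_eq (hord x hx), conj_by_zpow (hord x hx) (hord x' hx')] at e2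
        rw [e2, mul_assoc x, pow_succ, ← zpow_natCast]
        push_cast; rfl
    refine hpair x _ hx ht (fun e => invol_ne_one hw2 (mul_left_cancel (e.trans (mul_one x).symm))) ?_ γ δ hγ ?_
    · rw [mul_assoc, hwx.eq]
    · rw [← mul_assoc, invol_mul_self (hord x hx), one_mul]; exact hδ
  have hodd1 : ∀ x x', IsConj z x → IsConj z x' → ∀ γ : G ⧸ H, x • γ = γ → x' • γ ≠ γ → Odd (orderOf (x * x')) := by
    intro x x' hx hx' γ hγ hne
    by_contra hev
    obtain ⟨w, -, hwx, hwx', hw⟩ := hcentral x x' hx hx' (Nat.not_odd_iff_even.1 hev)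
    have h1 : w • γ = γ := hpt x hx γ _ hγ (by rw [← mul_smul, ← hwx.eq, mul_smul, hγ])
    exact hne (hw γ _ hγ (by rw [← mul_smul, hwx'.eq, mul_smul, h1]))
  -- the two points
  obtain ⟨g, hg⟩ : ∃ g, g ∉ H := by
    by_contra h
    exact hH (eq_top_iff.2 fun a _ => by by_contra ha; exact h ⟨a, ha⟩)
  obtain ⟨β, hβ⟩ : ∃ β : G ⧸ H, β = g • α := ⟨_, rfl⟩
  have hβα : β ≠ α := by rw [hβ, hgα, Ne, hmkα]; exact hg
  obtain ⟨z', hz'⟩ : ∃ z', z' = g * z * g⁻¹ := ⟨_, rfl⟩
  have hz'c : IsConj z z' := isConj_iff.2 ⟨g, hz'.symm⟩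
  have hz'β : z' • β = β := by rw [hz', hfix, hβ]
  have hz'2 := hord z' hz'c
  let Xab := {x : G // IsConj z x ∧ x • α = β}
  have hswap : ∀ x : Xab, x.1 • β = α := fun x => by
    calc x.1 • β = x.1 • (x.1 • α) := by rw [x.2.2]
      _ = α := by rw [← mul_smul, invol_mul_self (hord _ x.2.1), one_smul]
  have hodd2 : ∀ x x' : Xab, Odd (orderOf (x.1 * x'.1)) := by
    intro x x'
    by_contra hev
    obtain ⟨w, hw, hwx, -, hwp⟩ := hcentral x.1 x'.1 x.2.1 x'.2.1 (Nat.not_odd_iff_even.1 hev)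
    have hwα : w • α = α := by
      have hle : Subgroup.zpowers (x.1 * x'.1) ≤ MulAction.stabilizer G α :=
        Subgroup.zpowers_le.2 (by rw [MulAction.mem_stabilizer_iff, mul_smul, x'.2.2, hswap x])
      exact hle hw
    obtain ⟨c, hc⟩ := isConj_iff.1 x.2.1
    have hxc : x.1 • (c • α) = c • α := by rw [← hc, hfix]
    have h3 := hwp _ α hxc hwα
    rw [← h3] at hxc
    exact hβα (x.2.2.symm.trans hxc)
  -- bijection with the conjugates fixing `α`
  have hK : Nat.card {x : G // IsConj z x ∧ x • α = α} = Nat.card Xab := by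
    symm
    refine Nat.card_eq_of_bijective (fun x => ⟨x.1 * z' * x.1, ?_, ?_⟩) ⟨?_, ?_⟩
    · refine hz'c.trans (isConj_iff.2 ⟨x.1, ?_⟩)
      rw [invol_inv (hord _ x.2.1)]
    · rw [mul_smul, mul_smul, x.2.2, hz'β, hswap x]
    · intro x x' h
      have e : x.1 * z' * x.1 = x'.1 * z' * x'.1 := congrArg Subtype.val h
      have ho : ∀ y : Xab, Odd (orderOf (y.1 * z')) := fun y => by
        obtain ⟨m, hm⟩ := hodd1 z' y.1 hz'c y.2.1 β hz'β (by rw [hswap y]; exact hβα.symm)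
        refine ⟨m, ?_⟩
        rw [← hm, ← orderOf_inv, mul_inv_rev, invol_inv hz'2, invol_inv (hord _ y.2.1)]
      obtain ⟨j, hj⟩ : Odd (orderOf (x.1 * z') * orderOf (x'.1 * z')) := (ho x).mul (ho x')
      have e2 : (x.1 * z') ^ 2 = (x'.1 * z') ^ 2 := by
        rw [pow_two, pow_two, ← mul_assoc, ← mul_assoc, e]
      have key : ∀ a : G, a ^ (2 * j + 1) = 1 → a = (a ^ 2) ^ (j + 1) := fun a ha => by
        rw [← pow_mul, show 2 * (j + 1) = 2 * j + 1 + 1 by ring, pow_succ, ha, one_mul]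
      have e3 : x.1 * z' = x'.1 * z' := by
        rw [key (x.1 * z') (by rw [← hj, pow_mul, pow_orderOf_eq_one, one_pow]),
          key (x'.1 * z') (by rw [← hj, mul_comm, pow_mul, pow_orderOf_eq_one, one_pow]), e2]
      exact Subtype.ext (mul_right_cancel e3)
    · rintro ⟨x0, hx0, hx0α⟩
      have hx02 := hord x0 hx0
      obtain ⟨j, hj⟩ := hodd1 x0 z' hx0 hz'c α hx0α (fun h => hβα (hpt z' hz'c α β h hz'β))
      obtain ⟨d, hd⟩ : ∃ d, d = x0 * z' := ⟨_, rfl⟩
      rw [← hd] at hj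
      have hdj : d ^ (2 * j + 1) = 1 := by rw [← hj, pow_orderOf_eq_one]
      have hinv : ∀ n : ℕ, z' * d ^ n = (d ^ n)⁻¹ * z' := fun n => by
        have h1 : z' * d * z'⁻¹ = d⁻¹ := by
          rw [hd, mul_inv_rev, invol_inv hz'2, invol_inv hx02, mul_assoc z' (x0 * z'), mul_assoc x0,
            invol_mul_self hz'2, mul_one]
        rw [← inv_pow, ← h1, conj_pow, inv_mul_cancel_right]
      obtain ⟨x, hx⟩ : ∃ x, x = d ^ (j + 1) * z' := ⟨_, rfl⟩
      have hxc : IsConj z x := by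
        refine hz'c.trans (isConj_iff.2 ⟨d ^ ((j + 1) * (j + 1)), ?_⟩)
        have h9 := hinv ((j + 1) * (j + 1))
        have h10 : z' * (d ^ ((j + 1) * (j + 1)))⁻¹ = d ^ ((j + 1) * (j + 1)) * z' := by
          generalize d ^ ((j + 1) * (j + 1)) = c at h9 ⊢
          calc z' * c⁻¹ = c * (c⁻¹ * z') * c⁻¹ := by group
            _ = c * (z' * c) * c⁻¹ := by rw [h9]
            _ = c * z' := by group
        rw [hx, mul_assoc, h10, ← mul_assoc, ← pow_add]
        congr 1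
        rw [show (j + 1) * (j + 1) + (j + 1) * (j + 1) = (2 * j + 1) * (j + 1) + (j + 1) by ring, pow_add, pow_mul, hdj,
          one_pow, one_mul]
      have hxx : x * z' * x = x0 := by
        rw [hx, mul_assoc (d ^ (j + 1)) z' z', invol_mul_self hz'2, mul_one, ← mul_assoc, ← pow_add,
          show j + 1 + (j + 1) = 2 * j + 1 + 1 by ring, pow_succ, hdj, one_mul, hd, mul_assoc, invol_mul_self hz'2, mul_one]
      have hxβ : x • β = α := by
        refine hpt x0 hx0 α _ hx0α ?_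
        rw [← hxx, ← mul_smul, mul_assoc, invol_mul_self (hord x hxc), mul_one, mul_smul, hz'β]
      refine ⟨⟨x, hxc, ?_⟩, Subtype.ext hxx⟩
      rw [← hxβ, ← mul_smul, invol_mul_self (hord x hxc), one_smul]
  obtain ⟨x0⟩ : Nonempty Xab := by
    haveI : Nonempty {x : G // IsConj z x ∧ x • α = α} := ⟨⟨z, IsConj.refl z, hzα⟩⟩
    exact (Nat.card_pos_iff.1 (hK ▸ Nat.card_pos)).1
  obtain ⟨M, hM⟩ : ∃ M, M = Subgroup.closure (Set.range fun x : Xab => x.1) := ⟨_, rfl⟩
  have hXM : ∀ x : Xab, x.1 ∈ M := fun x => hM ▸ Subgroup.subset_closure ⟨x, rfl⟩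
  have hMpair : ∀ m ∈ M, (m • α = α ∧ m • β = β) ∨ (m • α = β ∧ m • β = α) := by
    intro m hm
    rw [hM] at hm
    induction hm using Subgroup.closure_induction with
    | mem y hy => obtain ⟨x, rfl⟩ := hy; exact Or.inr ⟨x.2.2, hswap x⟩
    | one => exact Or.inl ⟨one_smul _ _, one_smul _ _⟩
    | mul a b _ _ ha hb =>
      simp only [mul_smul]
      rcases hb with ⟨h1, h2⟩ | ⟨h1, h2⟩ <;> rw [h1, h2]
      · exact ha
      · exact ha.symm.imp (fun h => ⟨h.2, h.1⟩) (fun h => ⟨h.2, h.1⟩)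
    | inv a _ ha =>
      simp only [inv_smul_eq_iff]
      rcases ha with ⟨h1, h2⟩ | ⟨h1, h2⟩
      · exact Or.inl ⟨h1.symm, h2.symm⟩
      · exact Or.inr ⟨h2.symm, h1.symm⟩
  obtain ⟨x1, hx1⟩ : ∃ x1 : M, x1 = ⟨x0.1, hXM x0⟩ := ⟨_, rfl⟩
  have hxM : Nat.card {y : M // IsConj x1 y} = Nat.card Xab := by
    have hof : ∀ y : M, IsConj x1 y → IsConj z (y : G) ∧ (y : G) • α = β := by
      intro y hy
      obtain ⟨m, rfl⟩ := isConj_iff.1 hy
      refine ⟨x0.2.1.trans (isConj_iff.2 ⟨(m : G), by rw [hx1]; rfl⟩), ?_⟩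
      rw [hx1]
      show ((m : G) * x0.1 * (m : G)⁻¹) • α = β
      rw [mul_smul, mul_smul]
      rcases hMpair _ m.2 with ⟨h1, h2⟩ | ⟨h1, h2⟩
      · rw [show (m : G)⁻¹ • α = α by rw [inv_smul_eq_iff, h1], x0.2.2, h2]
      · rw [show (m : G)⁻¹ • α = β by rw [inv_smul_eq_iff, h2], hswap x0, h1]
    refine Nat.card_eq_of_bijective (fun y => (⟨(y.1 : G), hof y.1 y.2⟩ : Xab)) ⟨fun a b h => ?_, fun x => ?_⟩
    · exact Subtype.ext (Subtype.ext (congrArg (fun w : Xab => w.1) h))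
    · obtain ⟨d, hd, hdx⟩ := conj_of_odd (hord _ x0.2.1) (hord _ x.2.1) (hodd2 x0 x)
      have hdM : d ∈ M := (Subgroup.closure_le _).2 (by
        rintro _ (rfl | rfl) <;> [exact hXM x0; exact hXM x]) hd
      exact ⟨⟨⟨x.1, hXM x⟩, isConj_iff.2 ⟨⟨d, hdM⟩, Subtype.ext (by rw [hx1]; exact hdx)⟩⟩, rfl⟩
  have hodd : Odd (Nat.card Xab) := by
    rw [← hxM, card_conj]
    refine odd_index_of_isolated x1 (by rw [← Subgroup.orderOf_coe, hx1]; exact hord _ x0.2.1) fun y hy hcm => ?_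
    by_contra hne
    obtain ⟨m, rfl⟩ := isConj_iff.1 hy
    have hc : IsConj z ((m * x1 * m⁻¹ : M) : G) := x0.2.1.trans (isConj_iff.2 ⟨(m : G), by rw [hx1]; rfl⟩)
    have hy' : ((m * x1 * m⁻¹ : M) : G) • α = β := by
      rw [hx1]
      show ((m : G) * x0.1 * (m : G)⁻¹) • α = β
      rw [mul_smul, mul_smul]
      rcases hMpair _ m.2 with ⟨h1, h2⟩ | ⟨h1, h2⟩
      · rw [show (m : G)⁻¹ • α = α by rw [inv_smul_eq_iff, h1], x0.2.2, h2]
      · rw [show (m : G)⁻¹ • α = β by rw [inv_smul_eq_iff, h2], hswap x0, h1]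
    have ho := hodd2 x0 ⟨_, hc, hy'⟩
    have hcm' : Commute x0.1 ((m * x1 * m⁻¹ : M) : G) := by
      have := congrArg Subtype.val hcm
      rw [hx1] at this ⊢
      exact this.symm
    have h2 : (x0.1 * ((m * x1 * m⁻¹ : M) : G)) ^ 2 = 1 := by
      rw [hcm'.mul_pow, pow_two, pow_two, invol_mul_self (hord _ x0.2.1), invol_mul_self (hord _ hc), one_mul]
    rcases (Nat.dvd_prime Nat.prime_two).1 (orderOf_dvd_of_pow_eq_one h2) with h | h
    · rw [orderOf_eq_one_iff] at h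
      refine hne (Subtype.ext ?_)
      rw [eq_inv_of_mul_eq_one_right h, invol_inv (hord _ x0.2.1), hx1]
    · simp only [h] at ho
      exact absurd ho (by decide)
  -- index
  have hCH : Subgroup.centralizer ({z} : Set G) ≤ H := fun c hc => (h0 c).1 (by
    rw [← hgα, ← mul_smul, ← Subgroup.mem_centralizer_singleton_iff.1 hc, mul_smul, hzα])
  have hzH : z ∈ H := hCH (Subgroup.mem_centralizer_singleton_iff.2 rfl)
  rw [← Subgroup.relIndex_mul_index hCH, Nat.odd_mul]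
  refine ⟨?_, ?_⟩
  · have e : (Subgroup.centralizer ({z} : Set G)).subgroupOf H = Subgroup.centralizer ({(⟨z, hzH⟩ : H)} : Set H) := by
      ext c
      rw [Subgroup.mem_subgroupOf, Subgroup.mem_centralizer_singleton_iff, Subgroup.mem_centralizer_singleton_iff]
      exact ⟨fun h => Subtype.ext h, fun h => congrArg Subtype.val h⟩
    rw [Subgroup.relIndex, e, ← card_conj]
    have : Nat.card {y : H // IsConj (⟨z, hzH⟩ : H) y} = Nat.card {x : G // IsConj z x ∧ x • α = α} := by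
      refine Nat.card_eq_of_bijective (fun y => ⟨(y.1 : G), ?_, ?_⟩) ⟨fun a b h => ?_, fun x => ?_⟩
      · obtain ⟨m, hm⟩ := isConj_iff.1 y.2
        exact isConj_iff.2 ⟨(m : G), congrArg Subtype.val hm⟩
      · rw [hgα, hmkα]; exact y.1.2
      · exact Subtype.ext (Subtype.ext (congrArg (fun w : {x : G // IsConj z x ∧ x • α = α} => w.1) h))
      · obtain ⟨c, hc⟩ := isConj_iff.1 x.2.1
        have h1 := x.2.2
        rw [← hc, hfix, eq_comm, hgα, hmkα] at h1
        exact ⟨⟨⟨x.1, hc ▸ mul_mem (mul_mem h1 hzH) (inv_mem h1)⟩, isConj_iff.2 ⟨⟨c, h1⟩, Subtype.ext hc⟩⟩, rfl⟩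
    rw [this, hK]
    exact hodd
  · have hp : IsPGroup 2 (Subgroup.zpowers z) := IsPGroup.of_card (n := 1) (by rw [Nat.card_zpowers, hz, pow_one])
    have := hp.card_modEq_card_fixedPoints (G ⧸ H)
    have h1 : Nat.card (MulAction.fixedPoints (Subgroup.zpowers z) (G ⧸ H)) = 1 := by
      rw [Nat.card_eq_one_iff_unique]
      refine ⟨⟨fun a b => Subtype.ext ?_⟩, ⟨⟨α, fun m => ?_⟩⟩⟩
      · rw [huniq a.1 (a.2 ⟨z, Subgroup.mem_zpowers z⟩), huniq b.1 (b.2 ⟨z, Subgroup.mem_zpowers z⟩)]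
      · exact (Subgroup.zpowers_le.2 (MulAction.mem_stabilizer_iff.2 hzα) : _ ≤ MulAction.stabilizer G α) m.2
    rw [h1, ← Subgroup.index_eq_card] at this
    exact Nat.odd_iff.2 this

end Cfsg.Agent.S1922

namespace Cfsg.Agent.S1922

/-- Let z be an involution of a finite group G and H a proper subgroup such that z lies in gHg⁻¹ exactly when g ∈ H. Then the following are equivalent: (1) for every conjugate t ≠ z of z commuting with z, the product zt lies in gHg⁻¹ exactly when g ∈ H; (2) z lies in the centre of some Sylow 2-subgroup of G, and for every conjugate t ≠ z of z commuting with z, the centralizer of zt is contained in H. -/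
theorem result {G : Type*} [Group G] [Finite G] (z : G) (hz : orderOf z = 2) (H : Subgroup G) (hH : H ≠ ⊤)
    (h0 : ∀ g : G, z ∈ H.map (MulAut.conj g).toMonoidHom ↔ g ∈ H) :
    (∀ t : G, IsConj z t → t ≠ z → t * z = z * t → ∀ g : G, z * t ∈ H.map (MulAut.conj g).toMonoidHom ↔ g ∈ H) ↔
      ((∃ P : Sylow 2 G, z ∈ (Subgroup.center ↥(P : Subgroup G)).map (P : Subgroup G).subtype) ∧
        ∀ t : G, IsConj z t → t ≠ z → t * z = z * t → Subgroup.centralizer ({z * t} : Set G) ≤ H) := by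
  haveI := Fact.mk Nat.prime_two
  have hmem : ∀ (u g : G), u • (g : G ⧸ H) = (g : G ⧸ H) ↔ u ∈ H.map (MulAut.conj g).toMonoidHom := by
    intro u g
    rw [MulAction.Quotient.smul_mk, smul_eq_mul, QuotientGroup.eq, Subgroup.mem_map_equiv, MulAut.conj_symm_apply,
      ← inv_mem_iff (x := g⁻¹ * u * g)]
    exact iff_of_eq (congrArg (· ∈ H) (by group))
  have hCH : Subgroup.centralizer ({z} : Set G) ≤ H := fun c hc => (h0 c).1 (by
    rw [Subgroup.mem_map_equiv, MulAut.conj_symm_apply, mul_assoc, ← Subgroup.mem_centralizer_singleton_iff.1 hc,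
      inv_mul_cancel_left]
    have h1 := (h0 1).2 (one_mem H)
    rwa [map_one, show ((1 : MulAut G).toMonoidHom) = MonoidHom.id G from rfl, Subgroup.map_id] at h1)
  have hzH : z ∈ H := hCH (Subgroup.mem_centralizer_singleton_iff.2 rfl)
  constructor
  · intro h
    refine ⟨?_, fun t ht hne hcm c hc => ?_⟩
    · have hodd := fwd hz H hH (fun g => (hmem z g).trans (h0 g))
        (fun t ht hne hcm g hg => (h t ht hne hcm g).1 ((hmem _ g).1 hg))
      obtain ⟨C, hC⟩ : ∃ C, C = Subgroup.centralizer ({z} : Set G) := ⟨_, rfl⟩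
      obtain ⟨S⟩ : Nonempty (Sylow 2 C) := inferInstance
      have hzC : z ∈ C := hC ▸ Subgroup.mem_centralizer_singleton_iff.2 rfl
      obtain ⟨P, hP⟩ := (S.isPGroup'.map C.subtype).exists_le_sylow
      have hPeq : (S : Subgroup C).map C.subtype = P := by
        refine Subgroup.eq_of_le_of_card_ge hP (Nat.le_of_eq ?_)
        rw [Subgroup.card_map_of_injective C.subtype_injective, S.card_eq_multiplicity, P.card_eq_multiplicity,
          ← Subgroup.card_mul_index C, Nat.factorization_mul Nat.card_pos.ne' Subgroup.index_ne_zero_of_finite,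
          Finsupp.add_apply, Nat.factorization_eq_zero_of_not_dvd (n := C.index) (by
            rw [hC]; exact fun hd => Nat.not_even_iff_odd.2 hodd (even_iff_two_dvd.2 hd)), add_zero]
      have hzS : (⟨z, hzC⟩ : C) ∈ (S : Subgroup C) := by
        haveI : (Subgroup.zpowers (⟨z, hzC⟩ : C)).Normal := by
          refine ⟨fun n hn g => ?_⟩
          obtain ⟨i, rfl⟩ := hn
          have hcomm : Commute g ⟨z, hzC⟩ := Subtype.ext (Subgroup.mem_centralizer_singleton_iff.1 (hC.le g.2))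
          exact ⟨i, by simp only; rw [(hcomm.zpow_right i).eq, mul_inv_cancel_right]⟩
        have hp : IsPGroup 2 (Subgroup.zpowers (⟨z, hzC⟩ : C)) := IsPGroup.of_card (n := 1) (by
          rw [Nat.card_zpowers, ← Subgroup.orderOf_coe, hz, pow_one])
        rw [← S.is_maximal' (S.isPGroup'.to_sup_of_normal_right hp) le_sup_left]
        exact Subgroup.mem_sup_right (Subgroup.mem_zpowers _)
      have hzP : z ∈ (P : Subgroup G) := hPeq ▸ ⟨_, hzS, rfl⟩
      refine ⟨P, ⟨z, hzP⟩, Subgroup.mem_center_iff.2 fun y => Subtype.ext ?_, rfl⟩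
      have hy : (y : G) ∈ C := Subgroup.map_subtype_le _ (hPeq.ge y.2)
      rw [hC, Subgroup.mem_centralizer_singleton_iff] at hy
      exact hy
    · refine (h t ht hne hcm c).1 ?_
      rw [Subgroup.mem_map_equiv, MulAut.conj_symm_apply, mul_assoc, ← Subgroup.mem_centralizer_singleton_iff.1 hc,
        inv_mul_cancel_left]
      exact mul_mem hzH (hCH (Subgroup.mem_centralizer_singleton_iff.2 hcm))
  · rintro ⟨⟨P, z0, hz0, hz0z⟩, hC⟩ t ht hne hcm g
    have htH : t ∈ H := hCH (Subgroup.mem_centralizer_singleton_iff.2 hcm)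
    rw [Subgroup.mem_map_equiv, MulAut.conj_symm_apply]
    constructor
    swap
    · exact fun hg => mul_mem (mul_mem (inv_mem hg) (mul_mem hzH htH)) hg
    intro hv
    obtain ⟨v, hvdef⟩ : ∃ v, v = g⁻¹ * (z * t) * g := ⟨_, rfl⟩
    rw [← hvdef] at hv
    have hPC : ∀ y ∈ (P : Subgroup G), y * z = z * y := fun y hy => by
      rw [← hz0z]
      exact congrArg Subtype.val (Subgroup.mem_center_iff.1 hz0 ⟨y, hy⟩)
    have hPH : (P : Subgroup G) ≤ H := fun y hy => hCH (Subgroup.mem_centralizer_singleton_iff.2 (hPC y hy))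
    have ht2 : orderOf t = 2 := by
      obtain ⟨c, rfl⟩ := isConj_iff.1 ht
      exact CfsgLib.Inv.invol_conj hz c
    have hu2 : (z * t) ^ 2 = 1 := by
      rw [(show Commute z t from hcm.symm).mul_pow, pow_two, pow_two, CfsgLib.Inv.invol_mul_self hz,
        CfsgLib.Inv.invol_mul_self ht2, one_mul]
    have hv2 : (⟨v, hv⟩ : H) ^ 2 = 1 := by
      refine Subtype.ext ?_
      show v ^ 2 = 1
      have := conj_pow (i := 2) (a := g⁻¹) (b := z * t)
      rw [inv_inv, hu2, mul_one, inv_mul_cancel] at this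
      rw [hvdef]; exact this
    obtain ⟨Q, hQ⟩ := (IsPGroup.of_card (p := 2) (n := 1) (G := Subgroup.zpowers (⟨v, hv⟩ : H)) (by
      rw [Nat.card_zpowers, pow_one]
      refine orderOf_eq_prime hv2 fun e => hne ?_
      have e' : g⁻¹ * (z * t) * g = 1 := hvdef ▸ congrArg Subtype.val e
      have e2 : z * t = 1 := by
        calc z * t = g * (g⁻¹ * (z * t) * g) * g⁻¹ := by group
          _ = 1 := by rw [e']; group
      rw [eq_inv_of_mul_eq_one_right e2, CfsgLib.Inv.invol_inv hz])).exists_le_sylow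
    obtain ⟨h, hh⟩ := MulAction.exists_smul_eq H Q (P.subtype hPH)
    have hmv : (h : G) * v * (h : G)⁻¹ ∈ (P : Subgroup G) := by
      open scoped Pointwise in
      have h1 : MulAut.conj h (⟨v, hv⟩ : H) ∈ MulAut.conj h • (Q : Subgroup H) :=
        Subgroup.smul_mem_pointwise_smul _ (MulAut.conj h) _ (hQ (Subgroup.mem_zpowers _))
      rw [← Sylow.coe_subgroup_smul, hh, Sylow.coe_subtype] at h1
      exact h1
    have hcc := hPC _ hmv
    obtain ⟨z1, hz1⟩ : ∃ z1, z1 = g * ((h : G)⁻¹ * z * h) * g⁻¹ := ⟨_, rfl⟩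
    have hz1C : z1 ∈ Subgroup.centralizer ({z * t} : Set G) := by
      rw [Subgroup.mem_centralizer_singleton_iff, hz1]
      have e : z * t = g * v * g⁻¹ := by rw [hvdef]; group
      rw [e]
      calc g * ((h : G)⁻¹ * z * h) * g⁻¹ * (g * v * g⁻¹)
          = g * (h : G)⁻¹ * (z * ((h : G) * v * (h : G)⁻¹)) * h * g⁻¹ := by group
        _ = g * (h : G)⁻¹ * (((h : G) * v * (h : G)⁻¹) * z) * h * g⁻¹ := by rw [hcc]
        _ = g * v * g⁻¹ * (g * ((h : G)⁻¹ * z * h) * g⁻¹) := by group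
    have h3 := hC t ht hne hcm hz1C
    have h4 : (h : G) * g⁻¹ ∈ H := (h0 _).1 (by
      rw [Subgroup.mem_map_equiv, MulAut.conj_symm_apply]
      rw [hz1] at h3
      have e : ((h : G) * g⁻¹)⁻¹ * z * ((h : G) * g⁻¹) = g * ((h : G)⁻¹ * z * h) * g⁻¹ := by group
      rw [e]; exact h3)
    have h5 := mul_mem (inv_mem h4) h.2
    rwa [mul_inv_rev, inv_inv, inv_mul_cancel_right] at h5

end Cfsg.Agent.S1922
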