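import Cfsg.Statements.S1939

set_option autoImplicit false
open Cfsg

namespace Cfsg.Agent.S1939

/-- Let S be a Sylow p-subgroup of the finite group G and a an element of S that is the only G-conjugate of a lying in S. Then every power of a has the same property: for every n, the only G-conjugate of a^n lying in S is a^n. -/
theorem result {G : Type*} [Group G] [Finite G] {p : ℕ} [Fact p.Prime] (S : Sylow p G) (a : G)
    (haS : a ∈ (S : Subgroup G)) (hwc : ∀ g : G, g * a * g⁻¹ ∈ (S : Subgroup G) → g * a * g⁻¹ = a) (n : ℕ) :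
    ∀ g : G, g * a ^ n * g⁻¹ ∈ (S : Subgroup G) → g * a ^ n * g⁻¹ = a ^ n := by
  intro g hy
  set y := g * a ^ n * g⁻¹ with hydef
  have hp := Fact.out (p := p.Prime)
  -- `a` is weakly closed in every Sylow subgroup containing it
  have hcent : ∀ x : G, x⁻¹ * a * x ∈ (S : Subgroup G) → x * a = a * x := by
    intro x hx
    have h := hwc x⁻¹ (by simpa using hx)
    rw [inv_inv, mul_assoc, inv_mul_eq_iff_eq_mul] at h
    exact h.symm
  have hay : a * y = y * a := by
    have hs : ∀ s ∈ (S : Subgroup G), s * a = a * s := fun s hs => by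
      refine hcent s ?_
      exact (S : Subgroup G).mul_mem ((S : Subgroup G).mul_mem ((S : Subgroup G).inv_mem hs) haS) hs
    exact (hs y hy).symm
  let C : Subgroup G := Subgroup.centralizer ({y} : Set G)
  have hpow : ∀ u : G, ∃ k : ℕ, (u * a * u⁻¹) ^ (p ^ k) = 1 := by
    intro u
    obtain ⟨k, hk⟩ := S.isPGroup' ⟨a, haS⟩
    refine ⟨k, ?_⟩
    have : a ^ (p ^ k) = 1 := by simpa using congrArg Subtype.val hk
    rw [conj_pow, this, mul_one, mul_inv_cancel]
  have haC : a ∈ C := Subgroup.mem_centralizer_singleton_iff.2 hay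
  have hbC : g * a * g⁻¹ ∈ C := Subgroup.mem_centralizer_singleton_iff.2 (by
    rw [hydef, ← conj_pow]
    exact (Commute.self_pow _ n).eq)
  have hzp : ∀ u : C, (∃ k : ℕ, (u : G) ^ (p ^ k) = 1) → IsPGroup p ↥(Subgroup.zpowers u) := by
    rintro u ⟨k, hk⟩ ⟨v, i, rfl⟩
    refine ⟨k, Subtype.ext (Subtype.ext ?_)⟩
    simp only [Subgroup.coe_pow, Subgroup.coe_zpow, Subgroup.coe_one]
    rw [← zpow_natCast, ← zpow_mul, mul_comm, zpow_mul, zpow_natCast, hk, one_zpow]
  obtain ⟨T, hT⟩ := (hzp ⟨a, haC⟩ (by simpa using hpow 1)).exists_le_sylow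
  obtain ⟨T', hT'⟩ := (hzp ⟨_, hbC⟩ (hpow g)).exists_le_sylow
  obtain ⟨c, hc⟩ := MulAction.exists_smul_eq ↥C T' T
  obtain ⟨P, hP⟩ := (T.isPGroup'.map C.subtype).exists_le_sylow
  obtain ⟨x, hx⟩ := MulAction.exists_smul_eq G S P
  have hmemP : ∀ u : C, u ∈ T → x⁻¹ * (u : G) * x ∈ (S : Subgroup G) := by
    intro u hu
    have h1 : (u : G) ∈ (P : Subgroup G) := hP ⟨u, hu, rfl⟩
    rw [← hx, Sylow.coe_subgroup_smul] at h1
    rw [Subgroup.mem_pointwise_smul_iff_inv_smul_mem] at h1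
    simpa [MulAut.smul_def, mul_assoc] using h1
  have hxa : x * a = a * x := hcent x (hmemP ⟨a, haC⟩ (hT (Subgroup.mem_zpowers _)))
  have hb := hmemP (c * ⟨_, hbC⟩ * c⁻¹) (by
    rw [← hc]
    have : (⟨_, hbC⟩ : C) ∈ (T' : Subgroup C) := hT' (Subgroup.mem_zpowers _)
    show _ ∈ ((c • T' : Sylow p ↥C) : Subgroup C)
    rw [Sylow.coe_subgroup_smul, Subgroup.mem_pointwise_smul_iff_inv_smul_mem]
    simpa [MulAut.smul_def, mul_assoc] using this)
  have hfix := hwc (x⁻¹ * c * g) (by simpa [mul_assoc] using hb)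
  have hxn : x * a ^ n = a ^ n * x := (Commute.pow_right (show Commute x a from hxa) n).eq
  have h2 : (c : G) * y * (c : G)⁻¹ = a ^ n := by
    have h3 : (x⁻¹ * c * g) * a ^ n * (x⁻¹ * c * g)⁻¹ = a ^ n := by rw [← conj_pow, hfix]
    calc (c : G) * y * (c : G)⁻¹ = x * ((x⁻¹ * c * g) * a ^ n * (x⁻¹ * c * g)⁻¹) * x⁻¹ := by
          rw [hydef]; group
      _ = a ^ n := by rw [h3, hxn, mul_inv_cancel_right]
  have hcy : (c : G) * y = y * c := Subgroup.mem_centralizer_singleton_iff.1 c.2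
  rw [hcy, mul_inv_cancel_right] at h2
  exact h2

end Cfsg.Agent.S1939
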