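import Cfsg.Statements.S1940
-- import your own Cfsg.Agent.* helpers here

set_option autoImplicit false
open Cfsg

namespace Cfsg.Agent.S1940

/-- Let the finite group L act by automorphisms on the finite abelian group M, and let N be an L-invariant subgroup of M such that M/N is a p-group on which L acts trivially (every l • m lies in the coset mN). If every element of M is a product of an element of N and an element fixed by a Sylow p-subgroup T of L, then every element of M is a product of an element of N and an element fixed by all of L. -/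
theorem result {L : Type*} [Group L] [Finite L] {M : Type*} [CommGroup M] [Finite M] [MulDistribMulAction L M]
    {p : ℕ} [Fact p.Prime] (N : Subgroup M) (hN : ∀ (l : L) (m : M), m ∈ N → l • m ∈ N)
    (hquot : IsPGroup p (M ⧸ N)) (htriv : ∀ (l : L) (m : M), (l • m) * m⁻¹ ∈ N) (T : Sylow p L)
    (hT : ∀ m : M, ∃ n ∈ N, ∃ c : M, (∀ t ∈ (T : Subgroup L), t • c = c) ∧ m = n * c) :
    ∀ m : M, ∃ n ∈ N, ∃ c : M, (∀ l : L, l • c = c) ∧ m = n * c := by
  classical
  intro m
  obtain ⟨n₀, hn₀, c, hc, rfl⟩ := hT m
  have wd : ∀ a b : L, (QuotientGroup.leftRel (T : Subgroup L)).r a b → a • c = b • c := by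
    intro a b hab
    have : a⁻¹ * b ∈ (T : Subgroup L) := QuotientGroup.leftRel_apply.mp hab
    calc a • c = a • ((a⁻¹ * b) • c) := by rw [hc _ this]
      _ = b • c := by rw [smul_smul, mul_inv_cancel_left]
  let φ : L ⧸ (T : Subgroup L) → M := Quotient.lift (fun l => l • c) wd
  haveI : Fintype (L ⧸ (T : Subgroup L)) := Fintype.ofFinite _
  have hφ : ∀ (l : L) q, l • φ q = φ (l • q) := by
    intro l q
    induction q using QuotientGroup.induction_on with
    | H a => exact smul_smul l a c
  set C := ∏ q, φ q with hC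
  have hCfix : ∀ l : L, l • C = C := by
    intro l
    rw [hC, Finset.smul_prod']
    exact Fintype.prod_equiv (MulAction.toPerm l) _ _ (fun q => hφ l q)
  have hmod : ∀ q, ((φ q : M) : M ⧸ N) = (c : M ⧸ N) := by
    intro q
    induction q using QuotientGroup.induction_on with
    | H a =>
      rw [eq_comm, QuotientGroup.eq, mul_comm]
      exact htriv a c
  have hCmod : (C : M ⧸ N) = (c : M ⧸ N) ^ (T : Subgroup L).index := by
    have : (QuotientGroup.mk' N) C = ∏ q, (QuotientGroup.mk' N) (φ q) := map_prod _ _ _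
    rw [show (C : M ⧸ N) = (QuotientGroup.mk' N) C from rfl, this]
    simp only [QuotientGroup.mk'_apply]
    rw [
      Finset.prod_eq_pow_card (b := (c : M ⧸ N)) (fun q _ => hmod q), Finset.card_univ,
      ← Nat.card_eq_fintype_card]
    rfl
  obtain ⟨e, he⟩ := hquot.exists_card_eq
  have hcop : (Nat.card (M ⧸ N)).Coprime (T : Subgroup L).index := by
    rw [he]
    exact Nat.Coprime.pow_left _ ((Fact.out : p.Prime).coprime_iff_not_dvd.mpr T.not_dvd_index)
  obtain ⟨j, hj⟩ := exists_pow_eq_self_of_coprime (x := (c : M ⧸ N)) (n := (T : Subgroup L).index)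
    ((hcop.coprime_dvd_left (orderOf_dvd_natCard _)).symm)
  have hcj : ((C ^ j : M) : M ⧸ N) = (c : M ⧸ N) := by
    rw [QuotientGroup.mk_pow, hCmod, hj]
  refine ⟨n₀ * (c * (C ^ j)⁻¹), N.mul_mem hn₀ ?_, C ^ j, fun l => by rw [smul_pow', hCfix], ?_⟩
  · rw [mul_comm, ← QuotientGroup.eq]
    exact hcj
  · rw [mul_assoc n₀, mul_assoc c, inv_mul_cancel, mul_one]

end Cfsg.Agent.S1940
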