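import Cfsg.Statements.S1941
import Cfsg.Agent.Inv.Component
import Cfsg.Agent.Solv.FittingBasic

set_option autoImplicit false
open Cfsg

namespace Cfsg.Agent.S1941

/-- Let G be a finite group with no nontrivial normal subgroup of order prime to p, T a Sylow p-subgroup of G and E(G) the layer of G (the subgroup generated by its components). An automorphism of G of p-power order that fixes T and E(G) elementwise is inner. -/
theorem result {G : Type*} [Group G] [Finite G] {p : ℕ} [Fact p.Prime] (hcore : Cfsg.pPrimeCore p G = ⊥)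
    (T : Sylow p G) (α : MulAut G) (hα : ∃ j : ℕ, orderOf α = p ^ j) (hfixT : ∀ x ∈ (T : Subgroup G), α x = x)
    (hfixE : ∀ x ∈ Cfsg.layer G, α x = x) : ∃ g : G, ∀ x : G, α x = g * x * g⁻¹ := by
  classical
  haveI := Fintype.ofFinite G
  have hfitT : Cfsg.fittingSubgroup G ≤ (T : Subgroup G) := by
    rw [CfsgLib.Solv.fittingSubgroup_eq_pCore hcore]
    haveI := CfsgLib.Solv.pCore_normal G p
    obtain ⟨P, hP⟩ := (CfsgLib.Solv.pCore_isPGroup G p).exists_le_sylow
    obtain ⟨g, hg⟩ := MulAction.exists_smul_eq G P T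
    intro x hx
    rw [← hg, Sylow.coe_subgroup_smul, Subgroup.mem_pointwise_smul_iff_inv_smul_mem]
    refine hP ?_
    rw [MulAut.smul_def, ← map_inv, MulAut.conj_apply]
    exact Subgroup.Normal.conj_mem inferInstance x hx _
  set Φ := Cfsg.generalizedFittingSubgroup G with hΦ
  have hfix : ∀ x ∈ Φ, α x = x := by
    have h : Φ ≤ MonoidHom.eqLocus α.toMonoidHom (MonoidHom.id G) :=
      sup_le (fun x hx => hfixE x hx) (fun x hx => hfixT x (hfitT hx))
    exact fun x hx => h hx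
  haveI := CfsgLib.Solv.fittingSubgroup_normal G
  haveI : (Cfsg.layer G).Normal := CfsgLib.Inv.layer_normal
  haveI hΦn : Φ.Normal := Subgroup.sup_normal _ _
  let Z : Subgroup G := Subgroup.centralizer (Φ : Set G)
  haveI hZn : Z.Normal := Subgroup.normal_centralizer
  have hZΦ : Z ≤ Φ := CfsgLib.Inv.centralizer_genFitting_le
  have hZc : ∀ a b : ↥Z, a * b = b * a := fun a b => Subtype.ext
    (Subgroup.mem_centralizer_iff.1 b.2 a (hZΦ a.2))
  letI : CommGroup ↥Z := { (inferInstance : Group ↥Z) with mul_comm := hZc }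
  have hZp : IsPGroup p ↥Z := by
    have h1 : Z ≤ Cfsg.fittingSubgroup G := le_sSup ⟨hZn, inferInstance⟩
    exact T.isPGroup'.to_le (h1.trans hfitT)
  have hd : ∀ g : G, g⁻¹ * α g ∈ Z := fun g => Subgroup.mem_centralizer_iff.2 fun f hf => by
    have h2 := hfix _ (hΦn.conj_mem f hf g)
    rw [map_mul, map_mul, map_inv, hfix f hf] at h2
    calc f * (g⁻¹ * α g) = g⁻¹ * (g * f * g⁻¹) * α g := by group
      _ = g⁻¹ * (α g * f * (α g)⁻¹) * α g := by rw [h2]
      _ = g⁻¹ * α g * f := by group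
  let d : G → ↥Z := fun g => ⟨g⁻¹ * α g, hd g⟩
  have hcoc : ∀ g h : G, d (g * h) = MulAut.conjNormal h⁻¹ (d g) * d h := fun g h => Subtype.ext (by
    show (g * h)⁻¹ * α (g * h) = ((MulAut.conjNormal h⁻¹ (d g) : ↥Z) : G) * (h⁻¹ * α h)
    rw [MulAut.conjNormal_apply, map_mul]
    show (g * h)⁻¹ * (α g * α h) = h⁻¹ * (g⁻¹ * α g) * h⁻¹⁻¹ * (h⁻¹ * α h)
    group)
  have hT1 : ∀ t ∈ (T : Subgroup G), d t = 1 := fun t ht => Subtype.ext (by
    show t⁻¹ * α t = 1
    rw [hfixT t ht, inv_mul_cancel])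
  let D : G ⧸ (T : Subgroup G) → ↥Z := fun q => Quotient.liftOn' q (fun g => d g⁻¹) fun a b hab => by
    have hab' : a⁻¹ * b ∈ (T : Subgroup G) := QuotientGroup.leftRel_apply.1 hab
    show d a⁻¹ = d b⁻¹
    conv_lhs => rw [show a⁻¹ = (a⁻¹ * b) * b⁻¹ by group]
    rw [hcoc, hT1 _ hab', map_one, one_mul]
  let S : ↥Z := ∏ q : G ⧸ (T : Subgroup G), D q
  have hS : ∀ h : G, S = MulAut.conjNormal h⁻¹ S * d h ^ Fintype.card (G ⧸ (T : Subgroup G)) := by
    intro h
    rw [show MulAut.conjNormal h⁻¹ S = ∏ q : G ⧸ (T : Subgroup G), MulAut.conjNormal h⁻¹ (D q) from map_prod _ _ _,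
      ← Finset.card_univ, ← Finset.prod_const, ← Finset.prod_mul_distrib]
    refine (Equiv.prod_comp (MulAction.toPerm (h⁻¹ : G)) D).symm.trans (Finset.prod_congr rfl fun q _ => ?_)
    obtain ⟨g, rfl⟩ := QuotientGroup.mk_surjective q
    show d (h⁻¹ * g)⁻¹ = MulAut.conjNormal h⁻¹ (d g⁻¹) * d h
    rw [← hcoc, mul_inv_rev, inv_inv]
  have hcop : (Nat.card ↥Z).Coprime (Fintype.card (G ⧸ (T : Subgroup G))) := by
    obtain ⟨k, hk⟩ := IsPGroup.iff_card.1 hZp
    rw [hk, ← Nat.card_eq_fintype_card]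
    exact Nat.Coprime.pow_left k ((Nat.Prime.coprime_iff_not_dvd Fact.out).2 T.not_dvd_index)
  obtain ⟨w, hw⟩ := (powCoprime hcop).surjective S
  refine ⟨(w : G)⁻¹, fun x => ?_⟩
  have h1 := hS x
  rw [← hw, powCoprime_apply, map_pow, ← mul_pow] at h1
  have h2 : w = MulAut.conjNormal x⁻¹ w * d x := (powCoprime hcop).injective (by
    rw [powCoprime_apply, powCoprime_apply]; exact h1)
  have h3 := congrArg Subtype.val h2
  rw [Subgroup.coe_mul, MulAut.conjNormal_apply, inv_inv] at h3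
  have h4 : (d x : G) = x⁻¹ * (w : G)⁻¹ * x * w := by
    conv_rhs => arg 2; rw [h3]
    group
  calc α x = x * (d x : G) := by show α x = x * (x⁻¹ * α x); group
    _ = (w : G)⁻¹ * x * (w : G)⁻¹⁻¹ := by rw [h4]; group

end Cfsg.Agent.S1941
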