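import Cfsg.Statements.S1944
import Cfsg.Agent.Base.PPrimeP
-- import your own Cfsg.Agent.* helpers here

set_option autoImplicit false
open Cfsg

namespace Cfsg.Agent.S1944

/-- Let S be a Sylow p-subgroup of the finite group G and suppose that the centre Z(S) lies in O_{p',p}(G). The elements of S each of which is its only G-conjugate in S form a subgroup W of Z(S); W is then a direct factor of Z(S): there is a subgroup K of Z(S) with W ∩ K = 1 and WK = Z(S). -/
theorem result {G : Type*} [Group G] [Finite G] {p : ℕ} [Fact p.Prime] (S : Sylow p G)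
    (hZ : ((S : Subgroup G) ⊓ Subgroup.centralizer ((S : Subgroup G) : Set G)) ≤ Cfsg.pPrimePCore p G) :
    ∃ W K : Subgroup G, (∀ x : G, x ∈ W ↔ (x ∈ (S : Subgroup G) ∧ ∀ g : G, g * x * g⁻¹ ∈ (S : Subgroup G) → g * x * g⁻¹ = x)) ∧
      K ≤ ((S : Subgroup G) ⊓ Subgroup.centralizer ((S : Subgroup G) : Set G)) ∧ W ⊓ K = ⊥ ∧ W ⊔ K = ((S : Subgroup G) ⊓ Subgroup.centralizer ((S : Subgroup G) : Set G)) := by
  classical
  set Z := (S : Subgroup G) ⊓ Subgroup.centralizer ((S : Subgroup G) : Set G) with hZdef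
  set K₀ := (S : Subgroup G) ⊓ Cfsg.pPrimePCore p G with hK₀
  set N := Subgroup.normalizer (K₀ : Set G) with hN
  haveI := CfsgLib.Base.PPrimeP.pPrimePCore_normal (G := G) (p := p)
  have hZK : Z ≤ K₀ := le_inf inf_le_left hZ
  have hSN : (S : Subgroup G) ≤ N := by
    refine CfsgLib.Solv.le_normalizer_iff_forall_conj_mem.mpr fun s hs x hx => ?_
    exact ⟨(S : Subgroup G).mul_mem ((S : Subgroup G).mul_mem hs hx.1) ((S : Subgroup G).inv_mem hs),
      Subgroup.Normal.conj_mem inferInstance x hx.2 s⟩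
  have hconj : ∀ n ∈ N, ∀ x ∈ K₀, n * x * n⁻¹ ∈ K₀ := fun n hn x hx =>
    (Subgroup.mem_normalizer_iff.mp hn x).mp hx
  let W : Subgroup G := Z ⊓ Subgroup.centralizer (N : Set G)
  have hW : ∀ x : G, x ∈ W ↔ (x ∈ (S : Subgroup G) ∧ ∀ g : G, g * x * g⁻¹ ∈ (S : Subgroup G) → g * x * g⁻¹ = x) := by
    intro x
    constructor
    · rintro ⟨hxZ, hxN⟩
      refine ⟨hxZ.1, fun g hg => ?_⟩
      obtain ⟨o, ho, n, hn, rfl⟩ := CfsgLib.Base.PPrimeP.exists_decomp S g
      have hnx : n * x * n⁻¹ = x := by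
        rw [Subgroup.mem_centralizer_iff.mp hxN n hn, mul_inv_cancel_right]
      have e : o * n * x * (o * n)⁻¹ = o * x * o⁻¹ := by
        calc o * n * x * (o * n)⁻¹ = o * (n * x * n⁻¹) * o⁻¹ := by group
          _ = _ := by rw [hnx]
      rw [e] at hg ⊢
      rw [CfsgLib.Base.PPrimeP.commute_of_core S.isPGroup' ho hxZ.1 hg, mul_inv_cancel_right]
    · rintro ⟨hxS, hx⟩
      have hxZ : x ∈ Z := ⟨hxS, Subgroup.mem_centralizer_iff.mpr fun s hs =>
        mul_inv_eq_iff_eq_mul.mp (hx s ((S : Subgroup G).mul_mem ((S : Subgroup G).mul_mem hs hxS) ((S : Subgroup G).inv_mem hs)))⟩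
      exact ⟨hxZ, Subgroup.mem_centralizer_iff.mpr fun n hn =>
        mul_inv_eq_iff_eq_mul.mp (hx n (hconj n hn x (hZK hxZ)).1)⟩
  -- the norm map into the centre of `K₀`
  set V := K₀ ⊓ Subgroup.centralizer (K₀ : Set G) with hV
  letI : CommGroup ↥V := { (inferInstance : Group ↥V) with
    mul_comm := fun a b => Subtype.ext (Subgroup.mem_centralizer_iff.mp b.2.2 a a.2.1) }
  have hZV : Z ≤ V := le_inf hZK fun z hz => Subgroup.mem_centralizer_iff.mpr fun k hk =>
    Subgroup.mem_centralizer_iff.mp hz.2 k hk.1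
  have hVN : ∀ n ∈ N, ∀ v ∈ V, n * v * n⁻¹ ∈ V := by
    intro n hn v hv
    refine ⟨hconj n hn v hv.1, Subgroup.mem_centralizer_iff.mpr fun k hk => ?_⟩
    have hk' : n⁻¹ * k * n ∈ K₀ := by
      have := hconj n⁻¹ (N.inv_mem hn) k hk
      simpa using this
    have := Subgroup.mem_centralizer_iff.mp hv.2 _ hk'
    calc k * (n * v * n⁻¹) = n * ((n⁻¹ * k * n) * v) * n⁻¹ := by group
      _ = n * (v * (n⁻¹ * k * n)) * n⁻¹ := by rw [this]
      _ = _ := by group
  set S' := (S : Subgroup G).subgroupOf N with hS'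
  let cj : ↥N → ↥Z → ↥V := fun n z => ⟨(n : G) * z * (n : G)⁻¹, hVN n n.2 z (hZV z.2)⟩
  have hwd : ∀ a b : ↥N, QuotientGroup.leftRel S' a b → cj a = cj b := by
    intro a b hab
    have h0 : a⁻¹ * b ∈ S' := QuotientGroup.leftRel_apply.mp hab
    have h : ((a⁻¹ * b : ↥N) : G) ∈ (S : Subgroup G) := h0
    funext z
    apply Subtype.ext
    have hc := Subgroup.mem_centralizer_iff.mp z.2.2 _ h
    show (a : G) * z * (a : G)⁻¹ = b * z * (b : G)⁻¹
    simp only [Subgroup.coe_mul, InvMemClass.coe_inv] at hc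
    calc (a : G) * z * (a : G)⁻¹ = a * ((z : G) * ((a : G)⁻¹ * b)) * (b : G)⁻¹ := by group
      _ = a * (((a : G)⁻¹ * b) * z) * (b : G)⁻¹ := by rw [hc]
      _ = _ := by group
  let φ : ↥N ⧸ S' → ↥Z → ↥V := fun q => Quotient.liftOn' q cj hwd
  haveI : Fintype (↥N ⧸ S') := Fintype.ofFinite _
  have hφmul : ∀ q (a b : ↥Z), φ q (a * b) = φ q a * φ q b := by
    intro q a b
    induction q using QuotientGroup.induction_on with
    | H n =>
      apply Subtype.ext
      show (n : G) * ((a : G) * b) * (n : G)⁻¹ = (n : G) * a * (n : G)⁻¹ * ((n : G) * b * (n : G)⁻¹)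
      group
  let f : ↥Z →* ↥V := MonoidHom.mk' (fun z => ∏ q, φ q z) (fun a b => by
    simp only [hφmul, Finset.prod_mul_distrib])
  have hfix : ∀ z : ↥Z, ∀ n : ↥N, (n : G) * (f z : G) * (n : G)⁻¹ = (f z : G) := by
    intro z n
    let c : ↥V →* ↥V := MonoidHom.mk' (fun v => ⟨(n : G) * v * (n : G)⁻¹, hVN n n.2 v v.2⟩)
      (fun a b => Subtype.ext (by show (n : G) * ((a : G) * b) * (n : G)⁻¹ = _ * _; group))
    have h1 : c (f z) = f z := by
      show c (∏ q, φ q z) = ∏ q, φ q z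
      rw [map_prod]
      refine Fintype.prod_equiv (MulAction.toPerm n) _ _ fun q => ?_
      induction q using QuotientGroup.induction_on with
      | H m =>
        apply Subtype.ext
        show (n : G) * ((m : G) * z * (m : G)⁻¹) * (n : G)⁻¹ = ((n * m : ↥N) : G) * z * ((n * m : ↥N) : G)⁻¹
        simp only [Subgroup.coe_mul]
        group
    exact congrArg Subtype.val h1
  have hfW : ∀ z : ↥Z, (f z : G) ∈ W := by
    intro z
    have hcen : (f z : G) ∈ Subgroup.centralizer (N : Set G) := Subgroup.mem_centralizer_iff.mpr fun n hn =>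
      mul_inv_eq_iff_eq_mul.mp (hfix z ⟨n, hn⟩)
    exact ⟨⟨(f z).2.1.1, Subgroup.centralizer_le hSN hcen⟩, hcen⟩
  have hidx : ¬ p ∣ S'.index := (S.subtype hSN).not_dvd_index
  have hfw : ∀ w : ↥Z, (w : G) ∈ W → (f w : G) = (w : G) ^ S'.index := by
    intro w hw
    have : ∀ q, φ q w = (⟨w, hZV w.2⟩ : ↥V) := by
      intro q
      induction q using QuotientGroup.induction_on with
      | H n =>
        apply Subtype.ext
        show (n : G) * w * (n : G)⁻¹ = w
        rw [Subgroup.mem_centralizer_iff.mp hw.2 n n.2, mul_inv_cancel_right]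
    show ((∏ q, φ q w : ↥V) : G) = _
    rw [Finset.prod_congr rfl (fun q _ => this q), Finset.prod_const, Finset.card_univ, SubmonoidClass.coe_pow,
      Subgroup.index, Nat.card_eq_fintype_card]
  have hcop : ∀ w : ↥Z, (w : G) ∈ (S : Subgroup G) → (orderOf (w : G)).Coprime S'.index := by
    intro w hw
    obtain ⟨k, hk⟩ := IsPGroup.iff_orderOf.mp S.isPGroup' ⟨w, hw⟩
    rw [Subgroup.orderOf_mk] at hk
    rw [hk]
    exact ((Fact.out : p.Prime).coprime_iff_not_dvd.mpr hidx).pow_left k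
  refine ⟨W, f.ker.map Z.subtype, hW, Subgroup.map_subtype_le _, ?_, ?_⟩
  · rw [eq_bot_iff]
    rintro _ ⟨hw, ⟨w, hwk, rfl⟩⟩
    have h1 : (w : G) ^ S'.index = 1 := by
      rw [← hfw w hw, MonoidHom.mem_ker.mp hwk]; rfl
    exact orderOf_eq_one_iff.mp (Nat.eq_one_of_dvd_coprimes (hcop w w.2.1)
      dvd_rfl (orderOf_dvd_of_pow_eq_one h1))
  · refine le_antisymm (sup_le inf_le_left (Subgroup.map_subtype_le _)) fun z hz => ?_
    set w₀ : ↥Z := ⟨(f ⟨z, hz⟩ : G), (hfW ⟨z, hz⟩).1⟩ with hw₀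
    obtain ⟨m, hm⟩ := exists_pow_eq_self_of_coprime (x := (w₀ : G)) ((hcop w₀ w₀.2.1).symm)
    have hker : (w₀ ^ m)⁻¹ * ⟨z, hz⟩ ∈ f.ker := by
      rw [MonoidHom.mem_ker, map_mul, map_inv, inv_mul_eq_one]
      apply Subtype.ext
      rw [hfw _ (by rw [SubmonoidClass.coe_pow]; exact W.pow_mem (hfW ⟨z, hz⟩) m), SubmonoidClass.coe_pow,
        ← pow_mul, mul_comm m, pow_mul, hm]
    have e : z = ((w₀ ^ m : ↥Z) : G) * (((w₀ ^ m)⁻¹ * ⟨z, hz⟩ : ↥Z) : G) := by simp
    rw [e]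
    exact Subgroup.mul_mem_sup (by rw [SubmonoidClass.coe_pow]; exact W.pow_mem (hfW ⟨z, hz⟩) m) ⟨_, hker, rfl⟩

end Cfsg.Agent.S1944
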