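import Cfsg.Statements.S1946
import Cfsg.Agent.Base.SmallFix
import Cfsg.Agent.S0071
import Cfsg.Agent.Solv.PComplement
-- import your own Cfsg.Agent.* helpers here

set_option autoImplicit false
open Cfsg
open scoped commutatorElement

namespace Cfsg.Agent.S1946

/-- Let P be a Sylow p-subgroup of the finite group G. Then G has a normal p-complement if and only if P controls the fusion of its elements of order dividing p (dividing 4 when p = 2): whenever such an element a of P has a G-conjugate g a g⁻¹ in P, that conjugate is already x a x⁻¹ for some x in P. -/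
theorem result {G : Type*} [Group G] [Finite G] {p : ℕ} [Fact p.Prime] (P : Sylow p G) :
    Cfsg.HasNormalPComplement p G ↔
      ∀ a ∈ (P : Subgroup G), (a ^ p = 1 ∨ (p = 2 ∧ a ^ 4 = 1)) → ∀ g : G, g * a * g⁻¹ ∈ (P : Subgroup G) →
        ∃ x ∈ (P : Subgroup G), g * a * g⁻¹ = x * a * x⁻¹ := by
  classical
  constructor
  · rintro ⟨P₀, N, hN, hc⟩ a ha - g hga
    haveI := hN
    obtain ⟨y, hy⟩ := MulAction.exists_smul_eq G P₀ P
    have hPN : ∀ u : G, ∃ m ∈ N, ∃ x ∈ (P : Subgroup G), u = m * x := by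
      intro u
      obtain ⟨⟨⟨m, hm⟩, ⟨x, hx⟩⟩, he⟩ := (hc : Function.Bijective _).2 (y⁻¹ * u * y)
      refine ⟨y * m * y⁻¹, hN.conj_mem m hm y, y * x * y⁻¹, ?_, ?_⟩
      · rw [← hy, Sylow.coe_subgroup_smul]
        exact ⟨x, hx, rfl⟩
      · have he' : m * x = y⁻¹ * u * y := he
        calc u = y * (y⁻¹ * u * y) * y⁻¹ := by group
          _ = _ := by rw [← he']; group
    obtain ⟨m, hm, x, hx, rfl⟩ := hPN g
    refine ⟨x, hx, ?_⟩
    set b := x * a * x⁻¹ with hb
    have hbP : b ∈ (P : Subgroup G) := (P : Subgroup G).mul_mem ((P : Subgroup G).mul_mem hx ha) ((P : Subgroup G).inv_mem hx)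
    have hconj : m * x * a * (m * x)⁻¹ = m * b * m⁻¹ := by rw [hb]; group
    rw [hconj] at hga ⊢
    have hdisj : N ⊓ (P : Subgroup G) = ⊥ := by
      rw [← hy, Sylow.coe_subgroup_smul, eq_bot_iff]
      rintro _ ⟨hn, w, hw, rfl⟩
      have hw' : w ∈ N ⊓ (P₀ : Subgroup G) := ⟨by simpa [mul_assoc] using hN.conj_mem _ hn y⁻¹, hw⟩
      rw [disjoint_iff.mp hc.disjoint, Subgroup.mem_bot] at hw'
      simp [hw']
    have h1 : m * b * m⁻¹ * b⁻¹ ∈ N ⊓ (P : Subgroup G) :=
      ⟨by simpa [mul_assoc] using N.mul_mem hm (hN.conj_mem _ (N.inv_mem hm) b),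
        (P : Subgroup G).mul_mem hga ((P : Subgroup G).inv_mem hbP)⟩
    rw [hdisj, Subgroup.mem_bot] at h1
    exact mul_inv_eq_one.mp h1
  intro h
  suffices hcrit : ∀ Q : Subgroup G, Q ≤ (P : Subgroup G) → ∀ g ∈ Subgroup.normalizer (Q : Set G),
      Nat.Coprime (orderOf g) p → g ∈ Subgroup.centralizer (Q : Set G) by
    obtain ⟨N, hN, hc⟩ := (Cfsg.Agent.S0071.result P).mpr hcrit
    exact ⟨P, N, hN, hc⟩
  intro Q hQ g hg hgc
  have hQp : IsPGroup p ↥Q := P.isPGroup'.to_le hQ
  set a : MulAut ↥Q := Subgroup.normalizerMonoidHom Q ⟨g, hg⟩ with ha'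
  have ha : Nat.Coprime (orderOf a) p := by
    refine Nat.Coprime.of_dvd_left ?_ hgc
    have := orderOf_map_dvd (Subgroup.normalizerMonoidHom Q) ⟨g, hg⟩
    rwa [Subgroup.orderOf_mk] at this
  have hval : ∀ w : ↥Q, ((a w : ↥Q) : G) = g * (w : G) * g⁻¹ := fun _ => rfl
  have h1 : a = 1 := by
    refine CfsgLib.Base.SmallFix.aut_eq_one_of_fix_small_critical hQp ha fun H hH => ?_
    haveI : Group.IsNilpotent ↥(P : Subgroup G) := P.isPGroup'.isNilpotent
    obtain ⟨n, hn⟩ := Subgroup.nilpotent_iff_lowerCentralSeries.1 (inferInstance : Group.IsNilpotent ↥(P : Subgroup G))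
    -- descending induction along the lower central series of `P`
    have key : ∀ j i, n ≤ i + j → ∀ w : ↥Q, w ∈ H → ((w ^ p = 1) ∨ (p = 2 ∧ w ^ 4 = 1)) →
        (⟨(w : G), hQ w.2⟩ : ↥(P : Subgroup G)) ∈ Subgroup.lowerCentralSeries ⊤ i → a w = w := by
      intro j
      induction j with
      | zero =>
        intro i hi w _ _ hw
        have hw' := Subgroup.lowerCentralSeries_antitone (S := (⊤ : Subgroup ↥(P : Subgroup G))) (show n ≤ i by omega) hw
        rw [hn, Subgroup.mem_bot] at hw'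
        have e := congrArg Subtype.val hw'
        have : w = 1 := Subtype.ext e
        rw [this, map_one]
      | succ j ih =>
        intro i hi w hwH hws hw
        obtain ⟨hzH, hzs⟩ := hH w hwH hws
        set z := w⁻¹ * a w with hz
        have hsm : ((w : G) ^ p = 1 ∨ (p = 2 ∧ (w : G) ^ 4 = 1)) := by
          rcases hws with e | ⟨e', e⟩
          · left; simpa using congrArg Subtype.val e
          · right; exact ⟨e', by simpa using congrArg Subtype.val e⟩
        obtain ⟨x, hx, hxe⟩ := h (w : G) (hQ w.2) hsm g (by rw [← hval]; exact hQ (a w).2)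
        have hzi : (⟨(z : G), hQ z.2⟩ : ↥(P : Subgroup G)) ∈ Subgroup.lowerCentralSeries ⊤ (i + 1) := by
          have e : (⟨(z : G), hQ z.2⟩ : ↥(P : Subgroup G)) =
              ⁅(⟨(w : G), hQ w.2⟩ : ↥(P : Subgroup G))⁻¹, ⟨x, hx⟩⁆ := by
            apply Subtype.ext
            simp only [hz, commutatorElement_def, Subgroup.coe_mul, InvMemClass.coe_inv, hval, hxe]
            group
          rw [e, Subgroup.lowerCentralSeries_succ]
          exact Subgroup.commutator_mem_commutator (inv_mem hw) trivial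
        have hzf := ih (i + 1) (by omega) z hzH hzs hzi
        have := CfsgLib.Solv.eq_one_of_fixed_shift hQp ha (x := w) (z := z) (by simp [hz]) hzf
        exact (inv_mul_eq_one.mp this).symm
    intro w hw hws
    exact key n 0 (by omega) w hw hws (by rw [Subgroup.lowerCentralSeries_zero]; trivial)
  rw [Subgroup.mem_centralizer_iff]
  intro w hw
  have h2 : g * w * g⁻¹ = w := congrArg Subtype.val (DFunLike.congr_fun h1 (⟨w, hw⟩ : ↥Q))
  exact (mul_inv_eq_iff_eq_mul.mp h2).symm

end Cfsg.Agent.S1946
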