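import Cfsg.Statements.S1947
import Cfsg.Agent.Base.SmallFix
import Cfsg.Agent.S0071
-- import your own Cfsg.Agent.* helpers here

set_option autoImplicit false
open Cfsg
open scoped commutatorElement

namespace Cfsg.Agent.S1947

/-- Let G be a finite group and p a prime. If every element of G of order dividing p (dividing 4 when p = 2) lies in some fixed term Z_n(G) of the upper central series, then G has a normal p-complement. -/
theorem result {G : Type*} [Group G] [Finite G] {p : ℕ} [Fact p.Prime] (n : ℕ)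
    (h : ∀ a : G, (a ^ p = 1 ∨ (p = 2 ∧ a ^ 4 = 1)) → a ∈ Subgroup.upperCentralSeries G n) : Cfsg.HasNormalPComplement p G := by
  classical
  obtain ⟨P⟩ : Nonempty (Sylow p G) := inferInstance
  suffices hcrit : ∀ Q : Subgroup G, Q ≤ (P : Subgroup G) → ∀ g ∈ Subgroup.normalizer (Q : Set G),
      Nat.Coprime (orderOf g) p → g ∈ Subgroup.centralizer (Q : Set G) by
    obtain ⟨N, hN, hc⟩ := (Cfsg.Agent.S0071.result P).mpr hcrit
    exact ⟨P, N, hN, hc⟩
  intro Q hQ g hg hgc
  have hQp : IsPGroup p ↥Q := P.isPGroup'.to_le hQ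
  -- `g` fixes the hypercentral elements of `Q`
  have key : ∀ i : ℕ, ∀ x ∈ Q, x ∈ Subgroup.upperCentralSeries G i → g * x * g⁻¹ = x := by
    intro i
    induction i with
    | zero =>
      intro x _ hx
      rw [Subgroup.upperCentralSeries_zero, Subgroup.mem_bot] at hx
      simp [hx]
    | succ i ih =>
      intro x hxQ hx
      set z := x⁻¹ * (g * x * g⁻¹) with hz
      have hgx : g * x * g⁻¹ ∈ Q := (Subgroup.mem_normalizer_iff.mp hg x).mp hxQ
      have hzQ : z ∈ Q := Q.mul_mem (Q.inv_mem hxQ) hgx
      have hzi : z ∈ Subgroup.upperCentralSeries G i := by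
        have h1 := (Subgroup.mem_upperCentralSeries_succ_iff.mp ((Subgroup.upperCentralSeries G (i + 1)).inv_mem hx)) g
        simpa [hz, commutatorElement_def, mul_assoc] using h1
      have hzf := ih z hzQ hzi
      set a : MulAut ↥Q := Subgroup.normalizerMonoidHom Q ⟨g, hg⟩ with ha'
      have ha : Nat.Coprime (orderOf a) p := by
        refine Nat.Coprime.of_dvd_left ?_ hgc
        have := orderOf_map_dvd (Subgroup.normalizerMonoidHom Q) ⟨g, hg⟩
        rwa [Subgroup.orderOf_mk] at this
      have h2 := CfsgLib.Solv.eq_one_of_fixed_shift hQp ha (x := (⟨x, hxQ⟩ : ↥Q)) (z := (⟨z, hzQ⟩ : ↥Q))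
        (Subtype.ext (by show g * x * g⁻¹ = x * z; simp [hz])) (Subtype.ext hzf)
      have h3 : z = 1 := congrArg Subtype.val h2
      exact (inv_mul_eq_one.mp h3).symm
  exact CfsgLib.Base.SmallFix.mem_centralizer_of_fix_small hQp hg hgc fun x hx hsmall => key n x hx (h x hsmall)

end Cfsg.Agent.S1947
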