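import Cfsg.Statements.S1948
import Cfsg.Agent.Base.PPrimeP
-- import your own Cfsg.Agent.* helpers here

set_option autoImplicit false
open Cfsg

namespace Cfsg.Agent.S1948

/-- Let S be a Sylow p-subgroup of the finite group G. Then G = N_G(S)·O_{p'}(G) if and only if G is p-constrained and N_G(S) controls fusion in S, in the sense that whenever a subgroup Q of S has a conjugate g Q g⁻¹ inside S, the element g is a product n c with n normalizing S and c centralizing Q. -/
theorem result {G : Type*} [Group G] [Finite G] {p : ℕ} [Fact p.Prime] (S : Sylow p G) :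
    Subgroup.normalizer ((S : Subgroup G) : Set G) ⊔ Cfsg.pPrimeCore p G = ⊤ ↔
      (Cfsg.IsPConstrained p G ∧
        ∀ Q : Subgroup G, Q ≤ (S : Subgroup G) → ∀ g : G, Q.map (MulAut.conj g).toMonoidHom ≤ (S : Subgroup G) →
          ∃ n ∈ Subgroup.normalizer ((S : Subgroup G) : Set G), ∃ c ∈ Subgroup.centralizer (Q : Set G), g = n * c) := by
  classical
  haveI := CfsgLib.Solv.pPrimeCore_normal G p
  haveI := CfsgLib.Base.PPrimeP.pPrimePCore_normal (G := G) (p := p)
  set O := Cfsg.pPrimeCore p G with hO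
  set M := Cfsg.pPrimePCore p G with hM
  constructor
  · intro htop
    have hdec : ∀ g : G, ∃ n ∈ Subgroup.normalizer ((S : Subgroup G) : Set G), ∃ o ∈ O, g = n * o := by
      intro g
      have hg : g ∈ Subgroup.normalizer ((S : Subgroup G) : Set G) ⊔ O := htop ▸ Subgroup.mem_top g
      rw [Subgroup.mem_sup_of_normal_right] at hg
      obtain ⟨n, hn, o, ho, rfl⟩ := hg
      exact ⟨n, hn, o, ho, rfl⟩
    -- the Sylow subgroup lies in `M`
    have hSM : (S : Subgroup G) ≤ M := by
      haveI hn : ((S : Subgroup G).map (QuotientGroup.mk' O)).Normal := by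
        constructor
        rintro _ ⟨s, hs, rfl⟩ q
        obtain ⟨g, rfl⟩ := QuotientGroup.mk'_surjective O q
        obtain ⟨n, hn, o, ho, rfl⟩ := hdec g
        refine ⟨n * s * n⁻¹, (Subgroup.mem_normalizer_iff.mp hn s).mp hs, ?_⟩
        have : QuotientGroup.mk' O o = 1 := (QuotientGroup.eq_one_iff o).mpr ho
        simp only [map_mul, map_inv, this, mul_one]
      rw [hM]
      unfold Cfsg.pPrimePCore
      rw [← Subgroup.map_le_iff_le_comap]
      exact CfsgLib.Solv.le_pCore (S.isPGroup'.map _)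
    refine ⟨fun P => ?_, ?_⟩
    · -- constrained
      set S' := (S : Subgroup G).subgroupOf M with hS'
      obtain ⟨m, hm⟩ := MulAction.exists_smul_eq M (S.subtype hSM) P
      have hPeq : (P : Subgroup ↥M).map M.subtype =
          (S : Subgroup G).map (MulAut.conj (m : G)).toMonoidHom := by
        rw [← hm]
        ext x
        constructor
        · rintro ⟨y, ⟨z, hz, rfl⟩, rfl⟩
          exact ⟨z, hz, rfl⟩
        · rintro ⟨z, hz, rfl⟩
          exact ⟨m * ⟨z, hSM hz⟩ * m⁻¹, ⟨⟨z, hSM hz⟩, hz, rfl⟩, rfl⟩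
      intro c hc
      rw [hPeq] at hc
      have hc' : (m : G)⁻¹ * c * m ∈ Subgroup.centralizer ((S : Subgroup G) : Set G) := by
        rw [Subgroup.mem_centralizer_iff]
        intro s hs
        have := Subgroup.mem_centralizer_iff.mp hc _ ⟨s, hs, rfl⟩
        simp only [MulEquiv.coe_toMonoidHom, MulAut.conj_apply] at this
        calc s * ((m : G)⁻¹ * c * m) = (m : G)⁻¹ * ((m * s * (m : G)⁻¹) * c) * m := by group
          _ = (m : G)⁻¹ * (c * (m * s * (m : G)⁻¹)) * m := by rw [this]
          _ = _ := by group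
      suffices h : Subgroup.centralizer ((S : Subgroup G) : Set G) ≤ M by
        have h1 := M.mul_mem (M.mul_mem m.2 (h hc')) (M.inv_mem m.2)
        simpa [mul_assoc] using h1
      set C := Subgroup.centralizer ((S : Subgroup G) : Set G) with hC
      set n := (Subgroup.center ↥C).index with hn
      obtain ⟨e, m, hm, hme⟩ := Nat.exists_eq_pow_mul_and_not_dvd
        (Nat.card_pos (α := ↥(Subgroup.center ↥C))).ne' p (Fact.out : p.Prime).ne_one
      let f : ↥C →* ↥(Subgroup.center ↥C) := MonoidHom.mk'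
        (fun g => MonoidHom.transferCenterPow ↥C g ^ m) (fun a b => by
          rw [map_mul]
          exact Commute.mul_pow (Subtype.ext (Subgroup.mem_center_iff.mp
            (MonoidHom.transferCenterPow ↥C b).2 _)) m)
      have hf : ∀ g : ↥C, ((f g : ↥C)) = g ^ (n * m) := fun g => by
        show (((MonoidHom.transferCenterPow ↥C g) ^ m : ↥(Subgroup.center ↥C)) : ↥C) = _
        rw [SubmonoidClass.coe_pow, MonoidHom.transferCenterPow_apply, ← pow_mul]
      -- `p` does not divide `n`: the p-elements of `C` lie in `S`, so in the centre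
      have hpel : ∀ w : ↥C, (∃ j : ℕ, orderOf w = p ^ j) → (w : G) ∈ (S : Subgroup G) := by
        rintro w ⟨j, hj⟩
        have hwp : IsPGroup p ↥(Subgroup.zpowers (w : G)) := IsPGroup.of_card (n := j)
          (by rw [Nat.card_zpowers, Subgroup.orderOf_coe, hj])
        have hsup := IsPGroup.to_sup_of_normal_right' hwp S.isPGroup'
          (Subgroup.zpowers_le.mpr (Subgroup.centralizer_le_normalizer _ w.2))
        rw [← S.is_maximal' hsup le_sup_right]
        exact Subgroup.mem_sup_left (Subgroup.mem_zpowers _)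
      have hpn : ¬ p ∣ n := by
        intro hd
        obtain ⟨q, hq⟩ := exists_prime_orderOf_dvd_card' p
          (hd : p ∣ Nat.card (↥C ⧸ Subgroup.center ↥C))
        obtain ⟨w, rfl⟩ := QuotientGroup.mk_surjective q
        obtain ⟨j, k, hk, hjk⟩ := Nat.exists_eq_pow_mul_and_not_dvd (orderOf_pos w).ne' p
          (Fact.out : p.Prime).ne_one
        have hwk : orderOf (w ^ k) = p ^ j := by
          rw [orderOf_pow' _ (show k ≠ 0 from fun h => hk (h ▸ dvd_zero p)), hjk, Nat.gcd_eq_right ⟨p ^ j, mul_comm _ _⟩,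
            Nat.mul_div_cancel _ (Nat.pos_of_ne_zero (show k ≠ 0 from fun h => hk (h ▸ dvd_zero p)))]
        have hS := hpel _ ⟨j, hwk⟩
        have hcen : w ^ k ∈ Subgroup.center ↥C := Subgroup.mem_center_iff.mpr fun c =>
          Subtype.ext (Subgroup.mem_centralizer_iff.mp c.2 _ hS).symm
        have : orderOf (w : ↥C ⧸ Subgroup.center ↥C) ∣ k := orderOf_dvd_of_pow_eq_one (by
          rw [← QuotientGroup.mk_pow, QuotientGroup.eq_one_iff]; exact hcen)
        exact hk (hq ▸ this)
      have hker : ¬ p ∣ Nat.card ↥f.ker := by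
        intro hd
        obtain ⟨q, hq⟩ := exists_prime_orderOf_dvd_card' p hd
        have h1 : (q : ↥C) ^ (n * m) = 1 := by rw [← hf, MonoidHom.mem_ker.mp q.2]; rfl
        have h2 := orderOf_dvd_of_pow_eq_one h1
        rw [Subgroup.orderOf_coe, hq] at h2
        rcases (Fact.out : p.Prime).dvd_mul.mp h2 with h | h
        · exact hpn h
        · exact hm h
      set Y := (f.ker.map C.subtype) ⊔ O with hY
      have hYn : Y.Normal := by
        rw [← Subgroup.normalizer_eq_top_iff, eq_top_iff, ← htop]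
        refine sup_le (fun u hu => ?_) (le_trans le_sup_right Subgroup.le_normalizer)
        have hCu : ∀ c ∈ C, u * c * u⁻¹ ∈ C := by
          intro c hc
          rw [Subgroup.mem_centralizer_iff]
          intro s hs
          have hs' : u⁻¹ * s * u ∈ (S : Subgroup G) :=
            (Subgroup.mem_normalizer_iff.mp hu _).mpr (by rw [SetLike.mem_coe] at hs; convert hs using 1; group)
          have := Subgroup.mem_centralizer_iff.mp hc _ hs'
          calc s * (u * c * u⁻¹) = u * ((u⁻¹ * s * u) * c) * u⁻¹ := by group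
            _ = u * (c * (u⁻¹ * s * u)) * u⁻¹ := by rw [this]
            _ = _ := by group
        have hmapY : ∀ y ∈ Y, ∀ v : G, (∀ c ∈ C, v * c * v⁻¹ ∈ C) → v * y * v⁻¹ ∈ Y := by
          intro y hy v hv
          rw [hY, Subgroup.mem_sup_of_normal_right] at hy
          obtain ⟨_, ⟨w, hw, rfl⟩, o, ho, rfl⟩ := hy
          have e1 : (⟨v * (w : G) * v⁻¹, hv _ w.2⟩ : ↥C) ∈ f.ker := by
            rw [MonoidHom.mem_ker]
            apply Subtype.ext
            rw [hf]
            apply Subtype.ext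
            have h1 : w ^ (n * m) = 1 := by rw [← hf, MonoidHom.mem_ker.mp hw]; rfl
            show (v * (w : G) * v⁻¹) ^ (n * m) = 1
            rw [conj_pow, ← SubmonoidClass.coe_pow, h1]
            simp
          have := Y.mul_mem (Subgroup.mem_sup_left ⟨_, e1, rfl⟩ : v * (w : G) * v⁻¹ ∈ Y)
            (Subgroup.mem_sup_right ((inferInstance : O.Normal).conj_mem o ho v))
          simpa [mul_assoc] using this
        rw [Subgroup.mem_normalizer_iff]
        intro y
        refine ⟨fun hy => hmapY y hy u hCu, fun hy => ?_⟩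
        have := hmapY _ hy u⁻¹ (fun c hc => by
          rw [Subgroup.mem_centralizer_iff]
          intro s hs
          have hs' : u * s * u⁻¹ ∈ (S : Subgroup G) := (Subgroup.mem_normalizer_iff.mp hu _).mp hs
          have := Subgroup.mem_centralizer_iff.mp hc _ hs'
          calc s * (u⁻¹ * c * u⁻¹⁻¹) = u⁻¹ * ((u * s * u⁻¹) * c) * u := by group
            _ = u⁻¹ * (c * (u * s * u⁻¹)) * u := by rw [this]
            _ = _ := by group)
        simpa [mul_assoc] using this
      haveI := hYn
      have hYO : Y ≤ O := CfsgLib.Solv.le_pPrimeCore (Nat.Coprime.of_dvd_left (CfsgLib.Solv.card_sup_dvd_mul _ _)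
        (Nat.Coprime.mul_left (by
          rw [Subgroup.card_map_of_injective C.subtype_injective]
          exact ((Fact.out : p.Prime).coprime_iff_not_dvd.mpr hker).symm)
          (CfsgLib.Solv.pPrimeCore_coprime G p)))
      intro x hx
      obtain ⟨j, k, hk, hjk⟩ := Nat.exists_eq_pow_mul_and_not_dvd (orderOf_pos (⟨x, hx⟩ : ↥C)).ne' p
        (Fact.out : p.Prime).ne_one
      set w : ↥C := ⟨x, hx⟩ with hw
      have h1 : x ^ k ∈ M := hSM (hpel (w ^ k) ⟨j, by
        rw [orderOf_pow' _ (show k ≠ 0 from fun h => hk (h ▸ dvd_zero p)), hjk, Nat.gcd_eq_right ⟨p ^ j, mul_comm _ _⟩,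
          Nat.mul_div_cancel _ (Nat.pos_of_ne_zero (show k ≠ 0 from fun h => hk (h ▸ dvd_zero p)))]⟩)
      have h2 : x ^ (p ^ j) ∈ M := by
        refine CfsgLib.Base.PPrimeP.pPrimeCore_le (hYO (Subgroup.mem_sup_left ⟨w ^ (p ^ j), ?_, rfl⟩))
        have hd1 : orderOf (w ^ (p ^ j)) ∣ k := orderOf_dvd_of_pow_eq_one (by
          rw [← pow_mul, ← hjk, pow_orderOf_eq_one])
        have hd2 : orderOf (f (w ^ (p ^ j))) ∣ p ^ e := by
          have h3 : ∀ g : ↥C, (f g) ^ (p ^ e) = 1 := fun g => by
            show ((MonoidHom.transferCenterPow ↥C g) ^ m) ^ (p ^ e) = 1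
            rw [← pow_mul, mul_comm m, ← hme, pow_card_eq_one']
          exact orderOf_dvd_of_pow_eq_one (h3 _)
        have hcop : (p ^ e).Coprime k := ((Fact.out : p.Prime).coprime_iff_not_dvd.mpr hk).pow_left _
        exact MonoidHom.mem_ker.mpr (orderOf_eq_one_iff.mp
          (Nat.eq_one_of_dvd_coprimes hcop hd2 ((orderOf_map_dvd f _).trans hd1)))
      have hcop : Int.gcd (k : ℤ) ((p ^ j : ℕ) : ℤ) = 1 := by
        rw [Int.gcd_natCast_natCast]
        exact (((Fact.out : p.Prime).coprime_iff_not_dvd.mpr hk).pow_left j).symm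
      have hb := Int.gcd_eq_gcd_ab (k : ℤ) ((p ^ j : ℕ) : ℤ)
      rw [hcop] at hb
      rw [← zpow_one x, show (1 : ℤ) = (k : ℤ) * Int.gcdA k (p ^ j : ℕ) + ((p ^ j : ℕ) : ℤ) * Int.gcdB k (p ^ j : ℕ) by
        exact_mod_cast hb, zpow_add, zpow_mul, zpow_mul, zpow_natCast, zpow_natCast]
      exact M.mul_mem (M.zpow_mem h1 _) (M.zpow_mem h2 _)
    · intro Q hQ g hg
      obtain ⟨n, hn, o, ho, rfl⟩ := hdec g
      refine ⟨n, hn, o, ?_, rfl⟩
      rw [Subgroup.mem_centralizer_iff]
      intro x hx
      refine (CfsgLib.Base.PPrimeP.commute_of_core S.isPGroup' ho (hQ hx) ?_).symm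
      have h1 : n * o * x * (n * o)⁻¹ ∈ (S : Subgroup G) := hg ⟨x, hx, rfl⟩
      refine (Subgroup.mem_normalizer_iff.mp hn _).mpr ?_
      simpa [mul_assoc] using h1
  · rintro ⟨hcon, hfus⟩
    set K := (S : Subgroup G) ⊓ M with hK
    have hsc : K ⊔ O = M := CfsgLib.Base.PPrimeP.sylow_sup_core S
    rw [eq_top_iff, ← CfsgLib.Base.PPrimeP.normalizer_sup_core S]
    refine sup_le (fun g hg => ?_) le_sup_right
    have hmap : K.map (MulAut.conj g).toMonoidHom ≤ (S : Subgroup G) := by
      rintro _ ⟨x, hx, rfl⟩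
      exact ((Subgroup.mem_normalizer_iff.mp hg x).mp hx).1
    obtain ⟨n, hn, c, hc, rfl⟩ := hfus K inf_le_left g hmap
    refine Subgroup.mul_mem _ (Subgroup.mem_sup_left hn) ?_
    have hKp : IsPGroup p ↥(K.subgroupOf M) :=
      (S.isPGroup'.to_le inf_le_left).of_equiv (Subgroup.subgroupOfEquivOfLe (inf_le_right : K ≤ M)).symm
    have hidx : ¬ p ∣ (K.subgroupOf M).index := CfsgLib.Base.PPrimeP.not_dvd_relIndex S
    have h2 := hcon (hKp.toSylow hidx)
    rw [IsPGroup.toSylow_coe, Subgroup.subgroupOf_map_subtype, inf_of_le_left (inf_le_right : K ≤ M)] at h2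
    have h3 : c ∈ M := h2 hc
    rw [← hsc] at h3
    exact sup_le_sup_right ((inf_le_left : K ≤ (S : Subgroup G)).trans Subgroup.le_normalizer) O h3

end Cfsg.Agent.S1948
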