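import Cfsg.Statements.S1952
import Cfsg.Agent.Fus.Yoshida
import Cfsg.Agent.Solv.FittingBasic
-- import your own Cfsg.Agent.* helpers here

set_option autoImplicit false
open Cfsg

namespace Cfsg.Agent.S1952

/-- Let P be a finite p-group with a normal elementary abelian subgroup A of index p, and let x ∈ A and y ∈ P with y outside A. If the product of the p conjugates y^(-i) x y^i (i = 0, …, p−1) is not the identity, then the wreath product Z_p ≀ Z_p, realised as a Sylow p-subgroup of the symmetric group of degree p², is a homomorphic image of P. -/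
theorem result {P : Type*} [Group P] [Finite P] {p : ℕ} [Fact p.Prime] (hP : IsPGroup p P) (A : Subgroup P) [A.Normal]
    (hA : Cfsg.IsElementaryAbelian p A) (hidx : A.index = p) (x y : P) (hx : x ∈ A) (hy : y ∉ A)
    (hprod : ((List.range p).map (fun i => (y ^ i)⁻¹ * x * y ^ i)).prod ≠ 1) :
    ∃ (Q : Sylow p (Equiv.Perm (Fin (p ^ 2)))) (f : P →* ↥(Q : Subgroup (Equiv.Perm (Fin (p ^ 2))))), Function.Surjective f := by
  classical
  have hp : p.Prime := Fact.out
  haveI : Fintype (ZMod p) := ZMod.fintype p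
  have hab : ∀ a ∈ A, ∀ b ∈ A, a * b = b * a := fun a ha b hb =>
    congrArg Subtype.val (hA.1.is_comm.comm ⟨a, ha⟩ ⟨b, hb⟩)
  -- a functional on A not vanishing on the product of the conjugates
  have hAp : IsPGroup p ↥A := hP.to_subgroup A
  have hyp : y ^ p ∈ A := by
    have h1 : (QuotientGroup.mk' A y) ^ p = 1 := by
      have hc : Nat.card (P ⧸ A) = p := by rw [← Subgroup.index_eq_card, hidx]
      conv_lhs => arg 2; rw [← hc]
      exact pow_card_eq_one'
    rw [← map_pow] at h1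
    exact (QuotientGroup.eq_one_iff _).mp h1
  have hconj : ∀ (g : P) (a : P), a ∈ A → g * a * g⁻¹ ∈ A := fun g a ha => Subgroup.Normal.conj_mem inferInstance a ha g
  have hconj' : ∀ (g : P) (a : P), a ∈ A → g⁻¹ * a * g ∈ A := fun g a ha => by simpa using hconj g⁻¹ a ha
  let term : ℕ → ↥A := fun i => ⟨(y ^ i)⁻¹ * x * y ^ i, hconj' _ _ hx⟩
  let n : ↥A := ((List.range p).map term).prod
  have hn1 : n ≠ 1 := by
    intro h
    apply hprod
    have := congrArg A.subtype h
    simp only [n, map_list_prod, List.map_map, map_one] at this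
    exact this
  have hnbot : frattini ↥A = ⊥ := by
    refine le_bot_iff.mp (CfsgLib.Solv.frattini_le_of_elementary (p := p) ⊥ ?_ fun a => ?_)
    · rw [commutator_def, Subgroup.commutator_le]
      intro a _ b _
      rw [Subgroup.mem_bot, commutatorElement_eq_one_iff_mul_comm]
      exact Subtype.ext (hab a a.2 b b.2)
    · rw [Subgroup.mem_bot]; exact Subtype.ext (hA.2 a a.2)
  obtain ⟨M, hM, hnM⟩ : ∃ M : Subgroup ↥A, IsCoatom M ∧ n ∉ M := by
    by_contra h
    push_neg at h
    apply hn1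
    rw [← Subgroup.mem_bot, ← hnbot, frattini, Order.radical]
    simp only [Subgroup.mem_iInf]
    exact fun M hM => h M hM
  haveI : M.Normal := CfsgLib.Fus.coatom_normal hAp hM
  have hMcard : Nat.card (↥A ⧸ M) = p := by rw [← Subgroup.index_eq_card, CfsgLib.Fus.index_coatom hAp hM]
  obtain ⟨e⟩ : Nonempty ((↥A ⧸ M) ≃* Multiplicative (ZMod p)) :=
    ⟨mulEquivOfPrimeCardEq hMcard (by rw [Nat.card_congr Multiplicative.toAdd, Nat.card_zmod])⟩
  let χ : ↥A → ZMod p := fun a => (e (QuotientGroup.mk' M a)).toAdd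
  have χmul : ∀ a b, χ (a * b) = χ a + χ b := fun a b => by simp [χ]
  have χker : ∀ a, χ a = 0 ↔ a ∈ M := fun a => by
    simp [χ, QuotientGroup.eq_one_iff]
  -- the embedding in the group algebra
  haveI : CharP (AddMonoidAlgebra (ZMod p) (ZMod p)) p :=
    charP_of_injective_algebraMap (algebraMap (ZMod p) (AddMonoidAlgebra (ZMod p) (ZMod p))).injective p
  let cj : ℕ → ↥A → ↥A := fun i a => ⟨(y ^ i)⁻¹ * a * y ^ i, hconj' _ _ a.2⟩
  have cj_mul : ∀ i a b, cj i (a * b) = cj i a * cj i b := fun i a b => Subtype.ext (by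
    show (y ^ i)⁻¹ * ((a : P) * b) * y ^ i = (y ^ i)⁻¹ * a * y ^ i * ((y ^ i)⁻¹ * b * y ^ i)
    group)
  let ψ : ↥A → (AddMonoidAlgebra (ZMod p) (ZMod p)) := fun a => ∑ i ∈ Finset.range p, AddMonoidAlgebra.single (i : ZMod p) (χ (cj i a))
  have ψmul : ∀ a b, ψ (a * b) = ψ a + ψ b := fun a b => by
    show (∑ i ∈ Finset.range p, AddMonoidAlgebra.single (i : ZMod p) (χ (cj i (a * b)))) = ψ a + ψ b
    rw [← Finset.sum_add_distrib]
    exact Finset.sum_congr rfl fun i _ => by rw [cj_mul, χmul, AddMonoidAlgebra.single_add]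
  have ψone : ψ 1 = 0 := by
    have := ψmul 1 1
    rw [mul_one] at this
    exact left_eq_add.mp this
  -- the shift
  have ψshift : ∀ a : ↥A, ψ (cj 1 a) * AddMonoidAlgebra.single (1 : ZMod p) 1 = ψ a := by
    intro a
    have h1 : ∀ i, cj i (cj 1 a) = cj (i + 1) a := fun i => Subtype.ext (by
      show (y ^ i)⁻¹ * ((y ^ 1)⁻¹ * (a : P) * y ^ 1) * y ^ i = (y ^ (i + 1))⁻¹ * a * y ^ (i + 1)
      rw [pow_succ']; group)
    have h0 : cj p a = cj 0 a := Subtype.ext (by
      show (y ^ p)⁻¹ * (a : P) * y ^ p = (y ^ 0)⁻¹ * a * y ^ 0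
      rw [mul_assoc, hab _ a.2 _ hyp]; group)
    show (∑ i ∈ Finset.range p, AddMonoidAlgebra.single (i : ZMod p) (χ (cj i (cj 1 a)))) * _ = ψ a
    rw [Finset.sum_mul]
    let f : ℕ → (AddMonoidAlgebra (ZMod p) (ZMod p)) := fun i => AddMonoidAlgebra.single (i : ZMod p) (χ (cj i a))
    have hf : f p = f 0 := by simp only [f, h0, ZMod.natCast_self, Nat.cast_zero]
    calc ∑ i ∈ Finset.range p, AddMonoidAlgebra.single (i : ZMod p) (χ (cj i (cj 1 a))) * AddMonoidAlgebra.single (1 : ZMod p) 1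
        = ∑ i ∈ Finset.range p, f (i + 1) := Finset.sum_congr rfl fun i _ => by
          simp [f, h1, AddMonoidAlgebra.single_mul_single]
      _ = ∑ i ∈ Finset.range p, f i := by
          have ha := Finset.sum_range_succ' f p
          rw [Finset.sum_range_succ f p, hf] at ha
          exact (add_right_cancel ha).symm
  let V : AddSubgroup (AddMonoidAlgebra (ZMod p) (ZMod p)) :=
    { carrier := Set.range ψ
      add_mem' := by rintro _ _ ⟨a, rfl⟩ ⟨b, rfl⟩; exact ⟨a * b, ψmul a b⟩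
      zero_mem' := ⟨1, ψone⟩
      neg_mem' := by
        rintro _ ⟨a, rfl⟩
        refine ⟨a⁻¹, eq_neg_of_add_eq_zero_left ?_⟩
        rw [← ψmul, inv_mul_cancel, ψone] }
  have hVs : ∀ v ∈ V, v * AddMonoidAlgebra.single (1 : ZMod p) 1 ∈ V := by
    rintro _ ⟨a, rfl⟩
    refine ⟨⟨y * a * y⁻¹, hconj y a a.2⟩, ?_⟩
    have h := ψshift ⟨y * a * y⁻¹, hconj y a a.2⟩
    have e : cj 1 ⟨y * a * y⁻¹, hconj y a a.2⟩ = a := Subtype.ext (by
      show (y ^ 1)⁻¹ * (y * a * y⁻¹) * y ^ 1 = (a : P)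
      group)
    rw [e] at h
    exact h.symm
  have hVR : ∀ (r : (AddMonoidAlgebra (ZMod p) (ZMod p))), ∀ v ∈ V, v * r ∈ V := by
    intro r
    refine AddMonoidAlgebra.induction_on (motive := fun r => ∀ v ∈ V, v * r ∈ V) r ?_ ?_ ?_
    · intro m v hv
      have hm : (AddMonoidAlgebra.of (ZMod p) (ZMod p)) (Multiplicative.ofAdd m)
          = (AddMonoidAlgebra.single (1 : ZMod p) (1 : ZMod p)) ^ m.val := by
        rw [AddMonoidAlgebra.single_pow, one_pow, nsmul_one, ZMod.natCast_zmod_val]; rfl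
      rw [hm]
      generalize m.val = k
      induction k with
      | zero => simpa using hv
      | succ k ih => rw [pow_succ, ← mul_assoc]; exact hVs _ ih
    · intro r s hr hs v hv; rw [mul_add]; exact V.add_mem (hr v hv) (hs v hv)
    · intro c r hr v hv
      rw [mul_smul_comm, ← ZMod.natCast_zmod_val c, Nat.cast_smul_eq_nsmul]
      exact V.nsmul_mem (hr v hv) _
  have hχn : ∑ i ∈ Finset.range p, χ (cj i ⟨x, hx⟩) = χ n := by
    have hl : ∀ l : List ↥A, χ l.prod = (l.map χ).sum := fun l => by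
      induction l with
      | nil => simp [(χker 1).mpr M.one_mem]
      | cons a l ih => simp [χmul, ih]
    rw [hl]; simp only [List.map_map]; rfl
  have hunit : ψ ⟨x, hx⟩ ^ p = AddMonoidAlgebra.single (0 : ZMod p) (χ n) := by
    show (∑ i ∈ Finset.range p, AddMonoidAlgebra.single (i : ZMod p) (χ (cj i ⟨x, hx⟩))) ^ p = _
    rw [sum_pow_char, ← hχn]
    simp only [AddMonoidAlgebra.single_pow, ZMod.pow_card, nsmul_eq_mul, ZMod.natCast_self, zero_mul]
    exact (map_sum (AddMonoidAlgebra.singleAddHom (0 : ZMod p)) (fun i => χ (cj i ⟨x, hx⟩)) _).symm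
  have hsurj : Function.Surjective ψ := by
    intro r
    have hχ0 : χ n ≠ 0 := fun h => hnM ((χker n).mp h)
    obtain ⟨p', rfl⟩ : ∃ p', p = p' + 1 := ⟨p - 1, by have := hp.pos; omega⟩
    have h1 := hVR (ψ ⟨x, hx⟩ ^ p' * (AddMonoidAlgebra.single (0 : ZMod (p' + 1)) (χ n)⁻¹ * r)) (ψ ⟨x, hx⟩) ⟨_, rfl⟩
    rw [← mul_assoc, ← pow_succ', hunit, ← mul_assoc, AddMonoidAlgebra.single_mul_single, add_zero,
      mul_inv_cancel₀ hχ0, ← AddMonoidAlgebra.one_def, one_mul] at h1
    exact h1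
  -- the action on the cosets
  set H := M.map A.subtype with hH
  have hHidx : H.index = p ^ 2 := by
    rw [hH, Subgroup.index_map_subtype, hidx, CfsgLib.Fus.index_coatom hAp hM, sq]
  set K := H.normalCore with hK
  have hKA : K ≤ A := (Subgroup.normalCore_le H).trans (Subgroup.map_subtype_le _)
  have hKψ : ∀ a ∈ K.subgroupOf A, ψ a = 0 := by
    intro a ha
    refine Finset.sum_eq_zero fun i _ => ?_
    have h1 : (cj i a : P) ∈ H := Subgroup.normalCore_le H (by
      have := (inferInstance : K.Normal).conj_mem _ (Subgroup.mem_subgroupOf.mp ha) (y ^ i)⁻¹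
      simpa using this)
    obtain ⟨m, hm, hme⟩ := h1
    have : cj i a = m := Subtype.ext hme.symm
    rw [this, (χker m).mpr hm, AddMonoidAlgebra.single_zero]
  have hKidx : p ^ p ≤ K.relIndex A := by
    have hcardR : Nat.card (AddMonoidAlgebra (ZMod p) (ZMod p)) = p ^ p := by
      rw [Nat.card_congr (AddMonoidAlgebra.coeffEquiv.trans Finsupp.equivFunOnFinite), Nat.card_fun, Nat.card_zmod]
    rw [← hcardR]
    let f : ↥A ⧸ K.subgroupOf A → (AddMonoidAlgebra (ZMod p) (ZMod p)) := Quotient.lift ψ fun a b hab' => by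
      have h1 : a⁻¹ * b ∈ K.subgroupOf A := QuotientGroup.leftRel_apply.mp hab'
      have h2 := ψmul a (a⁻¹ * b)
      rw [mul_inv_cancel_left, hKψ _ h1, add_zero] at h2
      exact h2.symm
    exact Nat.card_le_card_of_surjective f fun r => by
      obtain ⟨a, ha⟩ := hsurj r
      exact ⟨Quotient.mk _ a, ha⟩
  have hKP : p ^ (p + 1) ≤ K.index := by
    rw [← Subgroup.relIndex_mul_index hKA, hidx, pow_succ]
    exact Nat.mul_le_mul_right p hKidx
  haveI : Finite (P ⧸ H) := inferInstance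
  let σ : P ⧸ H ≃ Fin (p ^ 2) := (Finite.equivFin (P ⧸ H)).trans (finCongr (by rw [← Subgroup.index_eq_card, hHidx]))
  let φ : P →* Equiv.Perm (Fin (p ^ 2)) := σ.permCongrHom.toMonoidHom.comp (MulAction.toPermHom P (P ⧸ H))
  have hker : φ.ker = K := by
    rw [hK, Subgroup.normalCore_eq_ker]
    ext g
    simp [φ, MonoidHom.mem_ker]
  have hran : p ^ (p + 1) ≤ Nat.card ↥φ.range := by rw [← Subgroup.index_ker, hker]; exact hKP
  have hranp : IsPGroup p ↥φ.range := hP.of_surjective φ.rangeRestrict φ.rangeRestrict_surjective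
  obtain ⟨Q, hQ⟩ := hranp.exists_le_sylow
  refine ⟨Q, φ.codRestrict _ (fun g => hQ ⟨g, rfl⟩), ?_⟩
  have hQc : Nat.card ↥(Q : Subgroup (Equiv.Perm (Fin (p ^ 2)))) = p ^ (p + 1) := by
    rw [Q.card_eq_multiplicity, Nat.card_perm, Nat.card_eq_fintype_card, Fintype.card_fin, sq,
      Nat.factorization_def _ hp, padicValNat_factorial_mul]
    congr 1
    have h1 : padicValNat p (p * 1).factorial = 1 := by rw [padicValNat_factorial_mul]; simp
    rw [mul_one] at h1
    omega
  have heq : φ.range = (Q : Subgroup (Equiv.Perm (Fin (p ^ 2)))) := Subgroup.eq_of_le_of_card_ge hQ (hQc.trans_le hran)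
  rintro ⟨q, hq⟩
  rw [← heq] at hq
  obtain ⟨g, rfl⟩ := hq
  exact ⟨g, rfl⟩

end Cfsg.Agent.S1952
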