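import Cfsg.Statements.S1954
import Cfsg.Agent.Fus.FunctorCore
-- import your own Cfsg.Agent.* helpers here

set_option autoImplicit false
open Cfsg

namespace Cfsg.Agent.S1954

open CfsgLib.Glau in
theorem mem_of_p_elems {G : Type*} [Group G] [Finite G] {p : ℕ} [hp : Fact p.Prime] {H T L : Subgroup G}
    (hT : Syl p T H) (hTL : T ≤ L) (hL : ∀ m ∈ H, (orderOf m).Coprime p → m ∈ L) : H ≤ L := by
  classical
  by_contra hne
  have hne' : L.subgroupOf H ≠ ⊤ := fun h => hne (Subgroup.subgroupOf_eq_top.mp h)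
  obtain ⟨q, hq, hqd⟩ := Nat.exists_prime_and_dvd (fun h => hne' (Subgroup.index_eq_one.mp h))
  haveI := Fact.mk hq
  by_cases hqp : q = p
  · subst hqp
    exact hT.idx (hqd.trans (Subgroup.index_dvd_of_le (fun x hx => hTL hx) :
      (L.subgroupOf H).index ∣ (T.subgroupOf H).index))
  let S : Sylow q ↥H := default
  have hS : (S : Subgroup ↥H) ≤ L.subgroupOf H := fun s hs => by
    refine Subgroup.mem_subgroupOf.mpr (hL s s.2 ?_)
    obtain ⟨k, hk⟩ := IsPGroup.iff_orderOf.mp S.isPGroup' ⟨s, hs⟩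
    rw [Subgroup.orderOf_mk] at hk
    rw [Subgroup.orderOf_coe, hk]
    exact Nat.Coprime.pow_left k ((Nat.coprime_primes hq hp.out).mpr hqp)
  exact S.not_dvd_index (hqd.trans (Subgroup.index_dvd_of_le hS))

open CfsgLib.Glau in
theorem dec_comp {G : Type*} [Group G] {M : Subgroup G} {A : Subgroup G} {x g : G}
    (h1 : ∃ h ∈ M, ∃ c ∈ Subgroup.centralizer (A : Set G), x = h * c)
    (h2 : ∃ h ∈ M, ∃ c ∈ Subgroup.centralizer (cj x A : Set G), g = h * c) :
    ∃ h ∈ M, ∃ c ∈ Subgroup.centralizer (A : Set G), g * x = h * c := by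
  obtain ⟨h, hh, c, hc, rfl⟩ := h1
  obtain ⟨h', hh', c', hc', rfl⟩ := h2
  refine ⟨h' * h, M.mul_mem hh' hh, h⁻¹ * c' * h * c, Subgroup.mul_mem _ (Subgroup.mem_centralizer_iff.mpr ?_) hc, by group⟩
  intro a ha
  have hca : c * a * c⁻¹ = a := by rw [← Subgroup.mem_centralizer_iff.mp hc a ha, mul_inv_cancel_right]
  have hm : h * a * h⁻¹ ∈ cj (h * c) A := by
    refine ⟨a, ha, ?_⟩
    show h * c * a * (h * c)⁻¹ = h * a * h⁻¹
    rw [show h * c * a * (h * c)⁻¹ = h * (c * a * c⁻¹) * h⁻¹ by group, hca]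
  have := Subgroup.mem_centralizer_iff.mp hc' _ hm
  calc a * (h⁻¹ * c' * h) = h⁻¹ * (h * a * h⁻¹ * c') * h := by group
    _ = h⁻¹ * (c' * (h * a * h⁻¹)) * h := by rw [this]
    _ = _ := by group

end Cfsg.Agent.S1954

namespace Cfsg.Agent.S1954

/-- Let N be a normal subgroup of the finite group G, P a Sylow p-subgroup of G, and V a subgroup of P ∩ N normal in P ∩ N such that N_N(V) controls strong fusion in P ∩ N with respect to N (whenever a subgroup A of P ∩ N has n A n⁻¹ ≤ P ∩ N for some n in N, then n = h c with h in N_N(V) and c in C_N(A)). Let W be the subgroup generated by the conjugates of V under N_G(P ∩ N). Then N_G(W) controls strong fusion in P with respect to G. -/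
theorem result {G : Type*} [Group G] [Finite G] {p : ℕ} [Fact p.Prime] (N : Subgroup G) [N.Normal] (P : Sylow p G) (V : Subgroup G)
    (hV : V ≤ (P : Subgroup G) ⊓ N) (hVn : ∀ x ∈ (P : Subgroup G) ⊓ N, V.map (MulAut.conj x).toMonoidHom = V)
    (hctrl : ∀ A : Subgroup G, A ≤ (P : Subgroup G) ⊓ N → ∀ n ∈ N, A.map (MulAut.conj n).toMonoidHom ≤ (P : Subgroup G) ⊓ N →
      ∃ h ∈ N ⊓ Subgroup.normalizer (V : Set G), ∃ c ∈ N ⊓ Subgroup.centralizer (A : Set G), n = h * c)
    (W : Subgroup G) (hW : W = Subgroup.closure (⋃ x ∈ Subgroup.normalizer (((P : Subgroup G) ⊓ N : Subgroup G) : Set G),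
      ((V.map (MulAut.conj x).toMonoidHom : Subgroup G) : Set G))) :
    ∀ A : Subgroup G, A ≤ (P : Subgroup G) → ∀ g : G, A.map (MulAut.conj g).toMonoidHom ≤ (P : Subgroup G) →
        ∃ h ∈ Subgroup.normalizer (W : Set G), ∃ c ∈ Subgroup.centralizer (A : Set G), g = h * c := by
  classical
  open CfsgLib.Glau in
  have hS0 := CfsgLib.Glau.syl_top P
  set S : Subgroup G := (P : Subgroup G) with hSdef
  set Q := S ⊓ N with hQ
  set M := Subgroup.normalizer (W : Set G) with hMdef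
  have hNn : ∀ g : G, CfsgLib.Glau.cj g N = N := fun g => CfsgLib.Glau.mem_normalizer_iff_cj.mp
    (by rw [Subgroup.normalizer_eq_top_iff.2 inferInstance]; trivial)
  have hgen : ∀ x ∈ Subgroup.normalizer (Q : Set G), CfsgLib.Glau.cj x V ≤ W := fun x hx => by
    rw [hW]
    exact fun v hv => Subgroup.subset_closure (Set.mem_iUnion₂.mpr ⟨x, hx, hv⟩)
  have hVx : ∀ x ∈ Subgroup.normalizer (Q : Set G), CfsgLib.Glau.cj x V ≤ Q := fun x hx =>
    (CfsgLib.Glau.cj_mono x hV).trans (CfsgLib.Glau.mem_normalizer_iff_cj.mp hx).le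
  have hWQ : W ≤ Q := by
    rw [hW, Subgroup.closure_le]
    exact Set.iUnion₂_subset fun x hx => hVx x hx
  have hNQM : Subgroup.normalizer (Q : Set G) ≤ M := by
    intro y hy
    rw [hMdef, CfsgLib.Glau.mem_normalizer_iff_cj]
    refine Subgroup.eq_of_le_of_card_ge ?_ (CfsgLib.Glau.card_cj y W).ge
    show W.map (MulAut.conj y).toMonoidHom ≤ W
    rw [Subgroup.map_le_iff_le_comap]
    conv_lhs => rw [hW]
    rw [Subgroup.closure_le]
    refine Set.iUnion₂_subset fun x hx => fun v hv => ?_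
    have h1 : CfsgLib.Glau.cj (y * x) V ≤ W := hgen _ (Subgroup.mul_mem _ hy hx)
    rw [CfsgLib.Glau.cj_mul] at h1
    exact h1 ⟨v, hv, rfl⟩
  have hPQ : S ≤ Subgroup.normalizer (Q : Set G) := fun s hs => by
    rw [CfsgLib.Glau.mem_normalizer_iff_cj, hQ, CfsgLib.Glau.cj_inf, hNn, CfsgLib.Glau.cj_eq_of_mem hs]
  -- the normalizer of W controls fusion in N
  have hWctrl : ∀ A : Subgroup G, A ≤ Q → ∀ n ∈ N, CfsgLib.Glau.cj n A ≤ Q →
      ∃ h ∈ N ⊓ M, ∃ c ∈ N ⊓ Subgroup.centralizer (A : Set G), n = h * c := by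
    intro A hA n hn hnA
    haveI := Fintype.ofFinite G
    suffices key : ∀ s : Finset G, (↑s ⊆ (Subgroup.normalizer (Q : Set G) : Set G)) →
        ∃ h ∈ N, ∃ c ∈ N ⊓ Subgroup.centralizer (A : Set G), n = h * c ∧
          ∀ x ∈ s, CfsgLib.Glau.cj h (CfsgLib.Glau.cj x V) = CfsgLib.Glau.cj x V by
      obtain ⟨h, hh, c, hc, he, hs⟩ := key (Finset.univ.filter (fun x => x ∈ Subgroup.normalizer (Q : Set G)))
        (fun x hx => (Finset.mem_filter.mp hx).2)
      refine ⟨h, ⟨hh, ?_⟩, c, hc, he⟩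
      show h ∈ Subgroup.normalizer (W : Set G)
      rw [CfsgLib.Glau.mem_normalizer_iff_cj]
      refine Subgroup.eq_of_le_of_card_ge ?_ (CfsgLib.Glau.card_cj h W).ge
      show W.map (MulAut.conj h).toMonoidHom ≤ W
      rw [Subgroup.map_le_iff_le_comap]
      conv_lhs => rw [hW]
      rw [Subgroup.closure_le]
      refine Set.iUnion₂_subset fun x hx => fun v hv => ?_
      have h1 := hs x (Finset.mem_filter.mpr ⟨Finset.mem_univ _, hx⟩)
      have h2 : MulAut.conj h v ∈ CfsgLib.Glau.cj h (CfsgLib.Glau.cj x V) := ⟨v, hv, rfl⟩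
      rw [h1] at h2
      exact hgen x hx h2
    intro s
    induction s using Finset.induction with
    | empty => exact fun _ => ⟨n, hn, 1, one_mem _, (mul_one n).symm, fun x hx => absurd hx (Finset.notMem_empty x)⟩
    | @insert x s hxs ih =>
      intro hsub
      rw [Finset.coe_insert, Set.insert_subset_iff] at hsub
      obtain ⟨hx, hs⟩ := hsub
      obtain ⟨h, hh, c, hc, he, hfix⟩ := ih hs
      set A' := A ⊔ ⨆ y ∈ s, CfsgLib.Glau.cj y V with hA'
      have hA'Q : A' ≤ Q := sup_le hA (iSup₂_le fun y hy => hVx y (hs hy))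
      have hA'im : CfsgLib.Glau.cj h A' ≤ Q := by
        show A'.map (MulAut.conj h).toMonoidHom ≤ Q
        rw [Subgroup.map_le_iff_le_comap]
        refine sup_le (fun a ha => ?_) (iSup₂_le fun y hy => ?_)
        · have h1 : n * a * n⁻¹ ∈ Q := hnA ⟨a, ha, rfl⟩
          have hca : c * a * c⁻¹ = a := by rw [← Subgroup.mem_centralizer_iff.mp hc.2 a ha, mul_inv_cancel_right]
          rw [he, show h * c * a * (h * c)⁻¹ = h * (c * a * c⁻¹) * h⁻¹ by group, hca] at h1
          exact h1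
        · intro v hv
          have h2 : MulAut.conj h v ∈ CfsgLib.Glau.cj h (CfsgLib.Glau.cj y V) := ⟨v, hv, rfl⟩
          rw [hfix y hy] at h2
          exact hVx y (hs hy) h2
      have hxQ := CfsgLib.Glau.mem_normalizer_iff_cj.mp hx
      have hxQ' := CfsgLib.Glau.mem_normalizer_iff_cj.mp (inv_mem hx)
      have hN' : ∀ g m : G, m ∈ N → g * m * g⁻¹ ∈ N := fun g m hm => Subgroup.Normal.conj_mem inferInstance m hm g
      obtain ⟨h2, hh2, c2, hc2, he2⟩ := hctrl (CfsgLib.Glau.cj x⁻¹ A')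
        ((CfsgLib.Glau.cj_mono _ hA'Q).trans hxQ'.le) (x⁻¹ * h * x⁻¹⁻¹) (hN' _ _ hh) (by
          show CfsgLib.Glau.cj _ (CfsgLib.Glau.cj x⁻¹ A') ≤ Q
          rw [← CfsgLib.Glau.cj_mul, show x⁻¹ * h * x⁻¹⁻¹ * x⁻¹ = x⁻¹ * h by group, CfsgLib.Glau.cj_mul]
          exact (CfsgLib.Glau.cj_mono _ hA'im).trans hxQ'.le)
      set h3 := x * h2 * x⁻¹ with hh3
      set c3 := x * c2 * x⁻¹ with hc3
      have hhe : h = h3 * c3 := by
        have : h = x * (x⁻¹ * h * x⁻¹⁻¹) * x⁻¹ := by group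
        rw [this, he2, hh3, hc3]; group
      have hc3c : c3 ∈ Subgroup.centralizer (A' : Set G) := Subgroup.mem_centralizer_iff.mpr fun a ha => by
        have h1 : x⁻¹ * a * x ∈ CfsgLib.Glau.cj x⁻¹ A' := ⟨a, ha, by simp [mul_assoc]⟩
        have h4 := Subgroup.mem_centralizer_iff.mp hc2.2 _ h1
        calc a * c3 = x * ((x⁻¹ * a * x) * c2) * x⁻¹ := by rw [hc3]; group
          _ = x * (c2 * (x⁻¹ * a * x)) * x⁻¹ := by rw [h4]
          _ = _ := by rw [hc3]; group
      refine ⟨h3, hN' x _ hh2.1, c3 * c, ⟨N.mul_mem (hN' x _ hc2.1) hc.1,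
        Subgroup.mul_mem _ (Subgroup.centralizer_le (SetLike.coe_subset_coe.mpr le_sup_left) hc3c) hc.2⟩, ?_, ?_⟩
      · rw [he, hhe]; group
      · intro y hy
        rcases Finset.mem_insert.mp hy with rfl | hy
        · rw [← CfsgLib.Glau.cj_mul, hh3, show y * h2 * y⁻¹ * y = y * h2 by group, CfsgLib.Glau.cj_mul]
          congr 1
          exact CfsgLib.Glau.mem_normalizer_iff_cj.mp hh2.2
        · have h1 := hfix y hy
          rw [hhe, CfsgLib.Glau.cj_mul] at h1
          have h5 : CfsgLib.Glau.cj c3 (CfsgLib.Glau.cj y V) = CfsgLib.Glau.cj y V := by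
            refine CfsgLib.Glau.mem_normalizer_iff_cj.mp (Subgroup.centralizer_le_normalizer _ ?_)
            exact Subgroup.centralizer_le (SetLike.coe_subset_coe.mpr
              (le_trans (le_iSup₂ (f := fun z (_ : z ∈ s) => CfsgLib.Glau.cj z V) y hy) le_sup_right)) hc3c
          rwa [h5] at h1
  -- the local statement, by induction
  suffices key : ∀ (m : ℕ) (U : Subgroup G), Nat.card S - Nat.card U = m → U ≤ S → CfsgLib.Glau.Ext p ⊤ S U →
      ∀ y ∈ Subgroup.normalizer (U : Set G), ∃ h ∈ M, ∃ c ∈ Subgroup.centralizer (U : Set G), y = h * c by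
    intro A hA g hgA
    have hch := CfsgLib.Glau.chain_of_family (𝓕 := {T | T ≤ S ∧ CfsgLib.Glau.Ext p ⊤ S T}) hS0 (fun U hU => hU.1)
      (fun T hT => by
        obtain ⟨x, hx, hxT, hxe, -⟩ := CfsgLib.Glau.exists_extremal hS0 hT
        exact ⟨_, ⟨hxT, hxe⟩, ⟨x, hx, rfl⟩, hxe⟩) A g trivial hA hgA
    clear hgA hA
    induction hch with
    | one B => exact ⟨1, one_mem _, 1, one_mem _, (mul_one 1).symm⟩
    | @step B T x w hT hx hB _ ih =>
      refine dec_comp ?_ ih
      obtain ⟨h, hh, c, hc, e⟩ := key _ T rfl hT.1 hT.2 x hx.2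
      exact ⟨h, hh, c, Subgroup.centralizer_le (SetLike.coe_subset_coe.mpr hB) hc, e⟩
  intro m
  induction m using Nat.strong_induction_on with
  | _ m ih =>
  intro U hm hUS he y hy
  have big : ∀ (A : Subgroup G) (g : G), A ≤ S → CfsgLib.Glau.cj g A ≤ S → Nat.card U < Nat.card A →
      ∃ h ∈ M, ∃ c ∈ Subgroup.centralizer (A : Set G), g = h * c := by
    intro A g hA hgA hlt
    have hch := CfsgLib.Glau.chain_of_family (𝓕 := {T | T ≤ S ∧ CfsgLib.Glau.Ext p ⊤ S T}) hS0 (fun U hU => hU.1)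
      (fun T hT => by
        obtain ⟨x, hx, hxT, hxe, -⟩ := CfsgLib.Glau.exists_extremal hS0 hT
        exact ⟨_, ⟨hxT, hxe⟩, ⟨x, hx, rfl⟩, hxe⟩) A g trivial hA hgA
    clear hgA hA
    induction hch with
    | one B => exact ⟨1, one_mem _, 1, one_mem _, (mul_one 1).symm⟩
    | @step B T x w hT hx hB _ ih2 =>
      refine dec_comp ?_ (ih2 (by rwa [CfsgLib.Glau.card_cj]))
      have hlt2 := hlt.trans_le (Subgroup.card_le_of_le hB)
      have hTS := Subgroup.card_le_of_le hT.1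
      obtain ⟨h, hh, c, hc, e⟩ := ih _ (by omega) T rfl hT.1 hT.2 x hx.2
      exact ⟨h, hh, c, Subgroup.centralizer_le (SetLike.coe_subset_coe.mpr hB) hc, e⟩
  set E := U ⊓ N with hE
  have hNUE : ∀ k ∈ Subgroup.normalizer (U : Set G), CfsgLib.Glau.cj k E = E := fun k hk => by
    rw [hE, CfsgLib.Glau.cj_inf, hNn, CfsgLib.Glau.mem_normalizer_iff_cj.mp hk]
  have hEQ : E ≤ Q := inf_le_inf_right N hUS
  -- every element of the normalizer of U, modulo the centralizer of U ⊓ N, normalizes W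
  have hmod : ∀ k ∈ Subgroup.normalizer (U : Set G), ∃ h ∈ M, ∃ c ∈ N ⊓ Subgroup.centralizer (E : Set G), k = h * c := by
    intro k hk
    obtain ⟨n, hn, z, hz, rfl⟩ := CfsgLib.Glau.frattini (N := N) hS0
      (by rw [Subgroup.normalizer_eq_top_iff.2 inferInstance]) (Subgroup.mem_top k)
    set n' := z⁻¹ * n * z with hn'
    have hn'N : n' ∈ N := by
      have := Subgroup.Normal.conj_mem (inferInstance : N.Normal) n hn.2 z⁻¹
      simpa [hn'] using this
    have him : CfsgLib.Glau.cj n' E ≤ Q := by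
      rw [show n' = z⁻¹ * (n * z) by rw [hn']; group, CfsgLib.Glau.cj_mul, hNUE _ hk]
      exact (CfsgLib.Glau.cj_mono _ hEQ).trans (CfsgLib.Glau.mem_normalizer_iff_cj.mp (inv_mem hz.2)).le
    obtain ⟨h, hh, c, hc, he'⟩ := hWctrl E hEQ n' hn'N him
    refine ⟨z * h, M.mul_mem (hNQM hz.2) hh.2, c, hc, ?_⟩
    rw [show n * z = z * n' by rw [hn']; group, he']; group
  set X := W ⊓ Subgroup.normalizer (E : Set G) with hX
  set C₀ := N ⊓ Subgroup.centralizer (E : Set G) with hC₀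
  set R := X ⊔ C₀ with hR
  have hXC : X ≤ Subgroup.normalizer (C₀ : Set G) := fun w hw => by
    rw [CfsgLib.Glau.mem_normalizer_iff_cj, hC₀, CfsgLib.Glau.cj_inf, hNn, CfsgLib.Glau.cj_centralizer,
      CfsgLib.Glau.mem_normalizer_iff_cj.mp hw.2]
  have hNUR : Subgroup.normalizer (U : Set G) ≤ Subgroup.normalizer (R : Set G) := by
    intro k hk
    obtain ⟨h, hh, c, hc, rfl⟩ := hmod k hk
    have hcE : CfsgLib.Glau.cj c E = E :=
      CfsgLib.Glau.mem_normalizer_iff_cj.mp (Subgroup.centralizer_le_normalizer _ hc.2)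
    have hhE : CfsgLib.Glau.cj h E = E := by
      have := hNUE _ hk
      rwa [CfsgLib.Glau.cj_mul, hcE] at this
    refine Subgroup.mul_mem _ ?_ (Subgroup.le_normalizer (show c ∈ R from Subgroup.mem_sup_right hc))
    rw [CfsgLib.Glau.mem_normalizer_iff_cj]
    show (X ⊔ C₀).map (MulAut.conj h).toMonoidHom = X ⊔ C₀
    rw [Subgroup.map_sup]
    congr 1
    · show CfsgLib.Glau.cj h X = X
      rw [hX, CfsgLib.Glau.cj_inf, CfsgLib.Glau.cj_normalizer, hhE, CfsgLib.Glau.mem_normalizer_iff_cj.mp hh]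
    · show CfsgLib.Glau.cj h C₀ = C₀
      rw [hC₀, CfsgLib.Glau.cj_inf, hNn, CfsgLib.Glau.cj_centralizer, hhE]
  have hsU := he.syl hS0
  rw [top_inf_eq] at hsU
  have hTs := hsU.inf_normal hNUR
  set T := S ⊓ Subgroup.normalizer (U : Set G) ⊓ R with hT
  by_cases hTU : T ≤ U
  · -- then W is contained in U
    have hWU : W ≤ U := by
      by_contra hne
      have hUM : U ≤ M := hUS.trans (hPQ.trans hNQM)
      set Z := U ⊔ W with hZ
      have hZp : IsPGroup p ↥Z := hS0.pg.to_le (sup_le hUS (hWQ.trans inf_le_left))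
      haveI : Group.IsNilpotent ↥Z := hZp.isNilpotent
      have hlt : U.subgroupOf Z < ⊤ := lt_top_iff_ne_top.2 fun h =>
        hne (le_sup_right.trans (Subgroup.subgroupOf_eq_top.1 h))
      obtain ⟨a, ha, haU⟩ := SetLike.exists_of_lt (Group.normalizerCondition_of_isNilpotent _ hlt)
      have haN : (a : G) ∈ Subgroup.normalizer (U : Set G) := by
        rw [CfsgLib.Glau.mem_normalizer_iff_cj]
        refine Subgroup.eq_of_le_of_card_ge ?_ (CfsgLib.Glau.card_cj _ U).ge
        rintro _ ⟨u, hu, rfl⟩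
        exact Subgroup.mem_subgroupOf.mp ((Subgroup.mem_normalizer_iff.mp ha ⟨u, le_sup_left (b := W) hu⟩).mp
          (Subgroup.mem_subgroupOf.mpr hu))
      have haZ : (a : G) ∈ ((U ⊔ W : Subgroup G) : Set G) := a.2
      rw [Subgroup.coe_mul_of_left_le_normalizer_right _ _ hUM] at haZ
      obtain ⟨u, hu, w, hw, huw⟩ := haZ
      have huw' : u * w = (a : G) := huw
      have hwN : w ∈ Subgroup.normalizer (U : Set G) := by
        rw [show w = u⁻¹ * (a : G) by rw [← huw']; group]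
        exact Subgroup.mul_mem _ (inv_mem (Subgroup.le_normalizer hu)) haN
      have hwT : w ∈ T := ⟨⟨(hWQ hw).1, hwN⟩, Subgroup.mem_sup_left
        ⟨hw, CfsgLib.Glau.mem_normalizer_iff_cj.mpr (hNUE w hwN)⟩⟩
      exact haU (Subgroup.mem_subgroupOf.mpr (huw' ▸ U.mul_mem hu (hTU hwT)))
    obtain ⟨h, hh, c, hc, rfl⟩ := hmod y hy
    refine ⟨h * c, M.mul_mem hh ?_, 1, one_mem _, (mul_one _).symm⟩
    exact Subgroup.centralizer_le_normalizer _ (Subgroup.centralizer_le
      (SetLike.coe_subset_coe.mpr (le_inf hWU (hWQ.trans inf_le_right))) hc.2)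
  obtain ⟨r, hr, k, hk, rfl⟩ := CfsgLib.Glau.frattini hsU hNUR hy
  refine dec_comp ?_ ?_
  · -- k normalizes the larger subgroup
    have hcjk : CfsgLib.Glau.cj k (U ⊔ T) = U ⊔ T := by
      show (U ⊔ T).map (MulAut.conj k).toMonoidHom = U ⊔ T
      rw [Subgroup.map_sup]
      exact congrArg₂ (· ⊔ ·) (CfsgLib.Glau.mem_normalizer_iff_cj.mp hk.1) (CfsgLib.Glau.mem_normalizer_iff_cj.mp hk.2)
    have hle : U ⊔ T ≤ S := sup_le hUS (inf_le_left.trans inf_le_left)
    have hlt : Nat.card U < Nat.card ↥(U ⊔ T) := lt_of_not_ge fun hge =>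
      hTU (le_sup_right.trans (Subgroup.eq_of_le_of_card_ge le_sup_left hge).ge)
    obtain ⟨h, hh, c, hc, e⟩ := big (U ⊔ T) k hle (hcjk.le.trans hle) hlt
    exact ⟨h, hh, c, Subgroup.centralizer_le (SetLike.coe_subset_coe.mpr le_sup_left) hc, e⟩
  · -- r centralizes U modulo S
    rw [CfsgLib.Glau.mem_normalizer_iff_cj.mp hk.1]
    have hTC : T ≤ Subgroup.normalizer (Subgroup.centralizer (U : Set G) : Set G) := fun t ht => by
      rw [CfsgLib.Glau.mem_normalizer_iff_cj, CfsgLib.Glau.cj_centralizer,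
        CfsgLib.Glau.mem_normalizer_iff_cj.mp ht.1.2]
    have hRp : Subgroup.normalizer (U : Set G) ⊓ R ≤ T ⊔ Subgroup.centralizer (U : Set G) := by
      refine mem_of_p_elems hTs le_sup_left fun v hv hcop => Subgroup.mem_sup_right ?_
      have hvC : v ∈ C₀ := by
        have hC₀n : (C₀.subgroupOf R).Normal := Subgroup.normal_subgroupOf_iff_le_normalizer le_sup_right |>.mpr
          (sup_le hXC Subgroup.le_normalizer)
        have h1 : (⟨v, hv.2⟩ : ↥R) ∈ X.subgroupOf R ⊔ C₀.subgroupOf R := by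
          rw [← Subgroup.subgroupOf_sup le_sup_left le_sup_right, Subgroup.subgroupOf_self]; trivial
        set π := QuotientGroup.mk' (C₀.subgroupOf R) with hπ
        obtain ⟨w, hw, hwe⟩ : π ⟨v, hv.2⟩ ∈ (X.subgroupOf R).map π := by
          rw [← Subgroup.mem_comap, Subgroup.comap_map_eq, QuotientGroup.ker_mk']; exact h1
        have hXp : IsPGroup p ↥(X.subgroupOf R) :=
          (hS0.pg.to_le (inf_le_left.trans (hWQ.trans inf_le_left))).of_equiv
            (Subgroup.subgroupOfEquivOfLe (le_sup_left : X ≤ R)).symm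
        obtain ⟨j, hj⟩ := IsPGroup.iff_orderOf.mp hXp ⟨w, hw⟩
        rw [Subgroup.orderOf_mk] at hj
        have h2 : orderOf (π ⟨v, hv.2⟩) ∣ p ^ j := by rw [← hwe, ← hj]; exact orderOf_map_dvd _ _
        have h3 : orderOf (π ⟨v, hv.2⟩) ∣ orderOf v :=
          (orderOf_map_dvd _ _).trans (dvd_of_eq (Subgroup.orderOf_mk _ _))
        have h4 := orderOf_eq_one_iff.mp (Nat.eq_one_of_dvd_coprimes (hcop.pow_right j) h3 h2)
        exact Subgroup.mem_subgroupOf.mp ((QuotientGroup.eq_one_iff _).mp h4)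
      refine Subgroup.mem_centralizer_iff.mpr fun u hu => ?_
      set d := u⁻¹ * (v * u * v⁻¹) with hd
      have hdU : d ∈ U := U.mul_mem (U.inv_mem hu) ((Subgroup.mem_normalizer_iff.mp hv.1 u).mp hu)
      have hdN : d ∈ N := by
        have := N.mul_mem (Subgroup.Normal.conj_mem (inferInstance : N.Normal) v hvC.1 u⁻¹) (N.inv_mem hvC.1)
        simpa [hd, mul_assoc] using this
      have hvd : v * d = d * v := (Subgroup.mem_centralizer_iff.mp hvC.2 d ⟨hdU, hdN⟩).symm
      have hvd' : v * d * v⁻¹ = d := by rw [hvd, mul_inv_cancel_right]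
      have hit : ∀ i : ℕ, v ^ i * u * (v ^ i)⁻¹ = u * d ^ i := fun i => by
        induction i with
        | zero => simp
        | succ i ih =>
          have hu1 : v * u * v⁻¹ = u * d := by rw [hd]; group
          rw [pow_succ' v, show v * v ^ i * u * (v * v ^ i)⁻¹ = v * (v ^ i * u * (v ^ i)⁻¹) * v⁻¹ by group, ih,
            ← conj_mul, ← conj_pow, hvd', hu1, pow_succ' d, mul_assoc]
      have h5 := hit (orderOf v)
      rw [pow_orderOf_eq_one, one_mul, inv_one, mul_one, left_eq_mul] at h5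
      obtain ⟨j, hj⟩ := IsPGroup.iff_orderOf.mp (hS0.pg.to_le hUS) ⟨d, hdU⟩
      rw [Subgroup.orderOf_mk] at hj
      have h6 : d = 1 := orderOf_eq_one_iff.mp
        (Nat.eq_one_of_dvd_coprimes (hcop.pow_right j) (orderOf_dvd_of_pow_eq_one h5) (dvd_of_eq hj))
      rw [hd, inv_mul_eq_one] at h6
      exact mul_inv_eq_iff_eq_mul.mp h6.symm |>.symm
    have h1 : r ∈ ((T ⊔ Subgroup.centralizer (U : Set G) : Subgroup G) : Set G) := hRp hr
    rw [Subgroup.coe_mul_of_left_le_normalizer_right _ _ hTC] at h1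
    obtain ⟨t, ht, c, hc, e⟩ := h1
    exact ⟨t, hNQM (hPQ ht.1.1), c, hc, e.symm⟩

end Cfsg.Agent.S1954
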