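import Cfsg.Statements.S1966
import Cfsg.Agent.Solv.Basic

set_option autoImplicit false
open Cfsg

namespace Cfsg.Agent.S1966

/-- Let p be a prime, G a finite group with Sylow p-subgroup S and 𝓕 a conjugation family for S in G. Then the members of 𝓕 containing O_p(G) still form a conjugation family for S in G. -/
theorem result {G : Type*} [Group G] [Finite G] {p : ℕ} [Fact p.Prime] (S : Sylow p G) (𝓕 : Set (Subgroup G)) (h : Cfsg.IsConjugationFamily 𝓕 (S : Subgroup G)) : Cfsg.IsConjugationFamily {T : Subgroup G | T ∈ 𝓕 ∧ Cfsg.pCore p G ≤ T} (S : Subgroup G) := by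
  refine ⟨fun T hT => h.1 T hT.1, fun A g hA hAS hgA => ?_⟩
  have hP : Cfsg.pCore p G ≤ (S : Subgroup G) := CfsgLib.Solv.pCore_le_sylow S
  have hn : (Cfsg.pCore p G).Normal := CfsgLib.Solv.pCore_normal G p
  obtain ⟨n, T, x, hprod, hT, hx, h0, hstep⟩ := h.2 (A ∪ (Cfsg.pCore p G : Set G)) g (hA.mono Set.subset_union_left)
    (Set.union_subset hAS hP) (by
      rintro _ ⟨a, ha | ha, rfl⟩
      · exact hgA ⟨a, ha, rfl⟩
      · exact hP (by simpa using hn.conj_mem a ha g⁻¹))
  refine ⟨n, T, x, hprod, fun i => ⟨hT i, ?_⟩, hx, fun h' a ha => h0 h' (Or.inl ha),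
    fun i h' => (Set.image_mono Set.subset_union_left).trans (hstep i h')⟩
  obtain ⟨i, hi⟩ := i
  intro a ha
  cases i with
  | zero => exact h0 hi (Or.inr ha)
  | succ i =>
    set q := ((List.ofFn x).take (i + 1)).prod with hq
    have := hstep ⟨i, by omega⟩ hi ⟨q * a * q⁻¹, Or.inr (hn.conj_mem a ha q), rfl⟩
    simpa [← hq, mul_assoc] using this

end Cfsg.Agent.S1966
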