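import Cfsg.Statements.S1971
import Cfsg.Agent.Fus.TransferK

set_option autoImplicit false
universe u
open Cfsg

namespace Cfsg.Agent.S1971

/-- Let p be a prime, G a finite group with nontrivial Sylow p-subgroup S, and W an isomorphism-invariant p-group functor (W assigns to every group Q a subgroup W(Q), nontrivial whenever Q is a nontrivial finite p-group, and every isomorphism from a finite p-group Q onto a group R carries W(Q) onto W(R)) that controls transfer in every section of G. If N_G(S)/C_G(S) is a p-group (every element of N_G(S) of order prime to p centralizes S), then G has a normal subgroup of index p. -/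
theorem result {G : Type u} [Group G] [Finite G] {p : ℕ} [Fact p.Prime] (W : ∀ (Q : Type u) [Group Q], Subgroup Q) (hW : Cfsg.IsCharPFunctor.{u} p W) (hctl : ∀ (K R : Subgroup G) [hR : (R.subgroupOf K).Normal], Cfsg.ControlsTransferIn p (Cfsg.inducedFunctor (G := (↥K ⧸ R.subgroupOf K)) W) ⊤) (S : Sylow p G) (hS : (S : Subgroup G) ≠ ⊥) (hN : ∀ g ∈ Subgroup.normalizer (((S : Subgroup G) : Subgroup G) : Set G), (orderOf g).Coprime p → g ∈ Subgroup.centralizer ((S : Subgroup G) : Set G)) : ∃ N : Subgroup G, N.Normal ∧ N.index = p := by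
  refine CfsgLib.Glau.exists_normal_index S.isPGroup' (CfsgLib.Glau.not_le_commutator W hW ?_ G
    (CfsgLib.Glau.isSec_self G) S (CfsgLib.Glau.syl_top S) hS hN)
  intro Γ _ _ hsec H T hT
  obtain ⟨L, q, hq⟩ := hsec.subgroup H
  obtain ⟨K, R, hn, ⟨e⟩⟩ := CfsgLib.Glau.IsSec.exists_equiv ⟨L, q, hq⟩
  have hA := hctl K R
  have hWc := CfsgLib.KInf.inducedFunctor_conjugacy (G := ↥K ⧸ R.subgroupOf K) hW
  have hT' := (hT.subgroupOf).map e.symm.toMonoidHom
  rw [Subgroup.map_top_of_surjective e.symm.toMonoidHom e.symm.surjective] at hT'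
  have h1 := CfsgLib.Glau.Tra.of_hom hW (f := (H.subtype).comp e.toMonoidHom)
    (H.subtype_injective.comp e.injective) hT'.pg (CfsgLib.Glau.tra_of_def hWc hT' hA)
  rwa [Subgroup.map_map, MonoidHom.comp_assoc, show e.toMonoidHom.comp e.symm.toMonoidHom = MonoidHom.id ↥H from
    MonoidHom.ext e.apply_symm_apply, MonoidHom.comp_id, Subgroup.map_subgroupOf_eq_of_le hT.le,
    ← MonoidHom.range_eq_map, MonoidHom.range_comp, MonoidHom.range_eq_top.2 e.surjective,
    ← MonoidHom.range_eq_map, Subgroup.range_subtype] at h1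

end Cfsg.Agent.S1971
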