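import Cfsg.Statements.S1972
import Cfsg.Agent.Fus.HitTransfer

set_option autoImplicit false
universe u
open Cfsg

namespace Cfsg.Agent.S1972

/-- Let p be a prime, G a finite group and W an isomorphism-invariant p-group functor (W assigns to every group Q a subgroup W(Q), nontrivial whenever Q is a nontrivial finite p-group, and every isomorphism from a finite p-group Q onto a group R carries W(Q) onto W(R)). Suppose that whenever G* = K/R is a section of G with C_{G*}(O_p(G*)) ≤ O_p(G*) and S* is a Sylow p-subgroup of G* with W(S*) not normal in G*, there is an element g of S* outside O_p(G*) such that [X, g, …, g] ≤ Y with p − 1 entries g, for every chief factor X/Y of G* with X ≤ O_p(G*). Then W controls transfer in every section of G. -/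
theorem result {G : Type u} [Group G] [Finite G] {p : ℕ} [Fact p.Prime] (W : ∀ (Q : Type u) [Group Q], Subgroup Q) (hW : Cfsg.IsCharPFunctor.{u} p W) (hloc : ∀ (K R : Subgroup G) [hR : (R.subgroupOf K).Normal], Subgroup.centralizer ((Cfsg.pCore p (↥K ⧸ R.subgroupOf K) : Subgroup (↥K ⧸ R.subgroupOf K)) : Set (↥K ⧸ R.subgroupOf K)) ≤ Cfsg.pCore p (↥K ⧸ R.subgroupOf K) → ∀ T : Sylow p (↥K ⧸ R.subgroupOf K), ¬ (Cfsg.inducedFunctor (G := (↥K ⧸ R.subgroupOf K)) W ((T : Subgroup (↥K ⧸ R.subgroupOf K)))).Normal → ∃ g : (↥K ⧸ R.subgroupOf K), g ∈ (T : Subgroup (↥K ⧸ R.subgroupOf K)) ∧ g ∉ Cfsg.pCore p (↥K ⧸ R.subgroupOf K) ∧ ∀ U V : Subgroup (↥K ⧸ R.subgroupOf K), Cfsg.IsChiefFactor U V → U ≤ Cfsg.pCore p (↥K ⧸ R.subgroupOf K) → Cfsg.iterCommutator U (Subgroup.zpowers g) (p - 1) ≤ V) : ∀ (K R : Subgroup G) [hR : (R.subgroupOf K).Normal], Cfsg.ControlsTransferIn p (Cfsg.inducedFunctor (G := (↥K ⧸ R.subgroupOf K)) W) ⊤ := by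
  intro K R hR
  refine CfsgLib.Glau.controls_of_tra (CfsgLib.Glau.transfer_of_core W hW ?_) K R
  intro Γ _ _ hsec hC S hn hind
  obtain ⟨K', R', hn', ⟨e⟩⟩ := hsec.exists_equiv
  obtain ⟨T, hT⟩ := CfsgLib.Glau.exists_sylow_map e S
  obtain ⟨g, hgT, hgP, hit⟩ := hloc K' R' (CfsgLib.Glau.constrained_equiv e hC) T fun hN => hn (by
    rw [← hT, ← CfsgLib.Glau.ind_equiv hW]
    exact hN.map _ e.surjective)
  have hWc := CfsgLib.KInf.inducedFunctor_conjugacy (G := Γ) hW
  have hSN : (S : Subgroup Γ) ≤ ⊤ ⊓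
      Subgroup.normalizer (Cfsg.inducedFunctor W (S : Subgroup Γ) : Set Γ) :=
    le_inf le_top (Subgroup.le_normalizer.trans (CfsgLib.Glau.functor_normalizer hWc S.isPGroup'))
  haveI := CfsgLib.Solv.pCore_normal Γ p
  refine CfsgLib.Glau.inf_commutator_le_of_hit (g := e g) (CfsgLib.Glau.syl_top S)
    (CfsgLib.Solv.pCore_le_sylow S) hSN
    (fun H hH hH' => (hind H hH hH').trans (Subgroup.commutator_mono (inf_le_inf_right _ le_top)
      (inf_le_inf_right _ le_top)))
    (hT ▸ ⟨g, hgT, rfl⟩) (fun N hN hNp hgN => hgP ?_) (fun U W' hUW hU => ?_)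
  · have h1 := CfsgLib.Solv.le_pCore (hN := hN) hNp hgN
    rw [← CfsgLib.Solv.map_pCore_equiv e] at h1
    obtain ⟨y, hy, hye⟩ := h1
    rwa [← e.injective hye]
  · have h1 := hit _ _ (CfsgLib.Glau.chief_comap e hUW) (by
      refine (Subgroup.comap_mono hU).trans (le_of_eq ?_)
      rw [← CfsgLib.Solv.map_pCore_equiv e, Subgroup.comap_map_eq_self_of_injective e.injective])
    have h2 := Subgroup.map_mono (f := e.toMonoidHom) h1
    rwa [CfsgLib.Glau.map_iterCommutator, MonoidHom.map_zpowers, Subgroup.map_comap_eq_self_of_surjective e.surjective,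
      Subgroup.map_comap_eq_self_of_surjective e.surjective] at h2

end Cfsg.Agent.S1972
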