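import Cfsg.Statements.S1985
import Cfsg.Agent.Fus.WeakClosure

set_option autoImplicit false
universe u
open Cfsg

namespace Cfsg.Agent.S1985

/-- Let p be an odd prime and G a finite group. Then the lower K-infinity subgroup controls weak closure of elements in G: the lower K-infinity subgroup of every p-subgroup P of G contains Z(P), and for some (equivalently, every) Sylow p-subgroup S of G, with K the lower K-infinity subgroup of S, every element of S commuting with all of N_G(K) is weakly closed in S with respect to G (every G-conjugate of it lying in S equals it). -/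
theorem result {G : Type u} [Group G] [Finite G] {p : ℕ} [Fact p.Prime] (hp : p ≠ 2) : Cfsg.ControlsWeakClosureOfElementsIn p (Cfsg.inducedFunctor (G := G) Cfsg.kInfLower) ⊤ := by
  refine CfsgLib.Glau.wc_elements _ (CfsgLib.KInf.inducedFunctor_conjugacy (CfsgLib.KInf.isCharPFunctor_lower p))
    (fun P hP => (CfsgLib.KInf.kInf_center_le P hP).1) (fun H T h hn => ?_) ⊤
  obtain ⟨g, hg, hgP, hq⟩ := CfsgLib.Glau.kInf_quadratic h (Or.inl hn)
  refine ⟨g, hg, hgP, fun U V _ hU => ?_⟩
  have h2 := (Fact.out : p.Prime).two_le
  rw [CfsgLib.Glau.iterCommutator_bot (m := 2) (eq_bot_iff.2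
    ((CfsgLib.Glau.iterCommutator_mono hU le_rfl 2).trans hq.le)) (p - 1) (by omega)]
  exact bot_le

end Cfsg.Agent.S1985
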