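import Cfsg.Statements.S1992
import Cfsg.Agent.Fus.TransferK
import Cfsg.Agent.Char.Burnside

set_option autoImplicit false
open Cfsg

namespace Cfsg.Agent.S1992

/-- Let G be a finite group in which, for every prime q dividing the order of G, every Sylow q-subgroup is its own normalizer. Then the order of G is a power of a single prime (G is a q-group for some prime q; for G trivial any prime works). -/
theorem result {G : Type*} [Group G] [Finite G] (h : ∀ q : ℕ, q.Prime → q ∣ Nat.card G → ∀ Q : Sylow q G, Subgroup.normalizer ((Q : Subgroup G) : Set G) = Q) : ∃ q : ℕ, q.Prime ∧ IsPGroup q G := by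
  suffices key : ∀ (n : ℕ) (H : Type _) [Group H] [Finite H], Nat.card H = n →
      (∀ q : ℕ, q.Prime → q ∣ Nat.card H → ∀ Q : Sylow q H, Subgroup.normalizer ((Q : Subgroup H) : Set H) = Q) →
      ∃ q : ℕ, q.Prime ∧ IsPGroup q H from key _ G rfl h
  clear h
  intro n
  induction n using Nat.strong_induction_on with
  | _ n ih =>
  intro H _ _ hn h
  subst hn
  by_cases hsimple : ∀ M : Subgroup H, M.Normal → M = ⊥ ∨ M = ⊤
  · by_cases h5 : ∃ r : ℕ, r.Prime ∧ r ∣ Nat.card H ∧ 5 ≤ r
    · obtain ⟨r, hr, hrd, hr5⟩ := h5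
      haveI := Fact.mk hr
      let S : Sylow r H := default
      have hS0 : (S : Subgroup H) ≠ ⊥ := (CfsgLib.Glau.syl_top S).ne_bot (by rwa [Subgroup.card_top])
      obtain ⟨N, hN, hNi⟩ := CfsgLib.Glau.exists_normal_index S.isPGroup' (CfsgLib.Glau.not_le_commutator _
        (CfsgLib.KInf.isCharPFunctor_lower r) (CfsgLib.Glau.kInf_transfer hr5).1 H
        (CfsgLib.Glau.isSec_self H) S (CfsgLib.Glau.syl_top S) hS0 (fun g hg hco => by
          rw [h r hr hrd S] at hg
          obtain ⟨k, hk⟩ := S.isPGroup' ⟨g, hg⟩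
          have : g = 1 := by
            rw [← orderOf_eq_one_iff]
            exact Nat.Coprime.eq_one_of_dvd (hco.pow_right k)
              (orderOf_dvd_of_pow_eq_one (congrArg Subtype.val hk))
          rw [this]
          exact one_mem _))
      refine ⟨r, hr, IsPGroup.of_card (n := 1) ?_⟩
      rcases hsimple N hN with hN' | hN'
      · rwa [hN', Subgroup.index_bot, ← pow_one r] at hNi
      · rw [hN', Subgroup.index_top] at hNi
        exact absurd hNi.symm hr.ne_one
    · push_neg at h5
      haveI : Group.IsSolvable H := by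
        have hdvd : ∀ r : ℕ, r.Prime → r ∣ Nat.card H → r = 2 ∨ r = 3 := fun r hr hrd => by
          have := h5 r hr hrd
          have := hr.two_le
          have : r ≠ 4 := fun he => by rw [he] at hr; norm_num at hr
          omega
        refine CfsgLib.Char.solvable_of_card_two_primes 2 3 ((Nat.card H).factorization 2)
          ((Nat.card H).factorization 3) Nat.prime_two Nat.prime_three ?_
        refine Nat.eq_of_factorization_eq Nat.card_pos.ne' (by positivity) fun r => ?_
        rw [Nat.factorization_mul (by positivity) (by positivity), Nat.prime_two.factorization_pow,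
          Nat.prime_three.factorization_pow, Finsupp.add_apply, Finsupp.single_apply, Finsupp.single_apply]
        rcases eq_or_ne r 2 with rfl | h2
        · simp
        rcases eq_or_ne r 3 with rfl | h3
        · simp
        rw [if_neg (Ne.symm h2), if_neg (Ne.symm h3), add_zero, Nat.factorization_eq_zero_iff]
        by_cases hr : r.Prime
        · exact Or.inr (Or.inl fun hrd => (hdvd r hr hrd).elim h2 h3)
        · exact Or.inl hr
      by_cases hone : Nat.card H = 1
      · exact ⟨2, Nat.prime_two, IsPGroup.of_card (n := 0) hone⟩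
      haveI : Nontrivial H := Finite.one_lt_card_iff_nontrivial.1 (by have := Nat.card_pos (α := H); omega)
      have hab : commutator H = ⊥ := (hsimple _ inferInstance).resolve_right
        (Group.IsSolvable.commutator_lt_top_of_nontrivial H).ne
      obtain ⟨r, hr, hrd⟩ := Nat.exists_prime_and_dvd hone
      haveI := Fact.mk hr
      let S : Sylow r H := default
      have hSn : (S : Subgroup H).Normal := ⟨fun x hx g => by
        have h1 : g * x * g⁻¹ * x⁻¹ = 1 := Subgroup.mem_bot.1 (hab ▸ (show g * x * g⁻¹ * x⁻¹ ∈ commutator H from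
          Subgroup.commutator_mem_commutator (Subgroup.mem_top g) (Subgroup.mem_top x)))
        rw [mul_inv_eq_one] at h1
        rw [h1]
        exact hx⟩
      have hStop : (S : Subgroup H) = ⊤ := (hsimple _ hSn).resolve_left
        ((CfsgLib.Glau.syl_top S).ne_bot (by rwa [Subgroup.card_top]))
      exact ⟨r, hr, (S.isPGroup'.of_equiv ((MulEquiv.subgroupCongr hStop).trans Subgroup.topEquiv))⟩
  · push_neg at hsimple
    obtain ⟨M, hM, hM0, hM1⟩ := hsimple
    haveI := hM
    let π := QuotientGroup.mk' M
    have hπ : Function.Surjective π := QuotientGroup.mk'_surjective M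
    have hlt : Nat.card (H ⧸ M) < Nat.card H := by
      rw [← M.index_eq_card, ← M.card_mul_index]
      exact lt_mul_left M.index_ne_zero_of_finite.bot_lt ((Subgroup.one_lt_card_iff_ne_bot M).2 hM0)
    obtain ⟨q, hq, hqH⟩ := ih _ hlt (H ⧸ M) rfl (by
      intro r hr hrd Q
      haveI := Fact.mk hr
      obtain ⟨P, hP⟩ := Sylow.mapSurjective_surjective hπ r Q
      have hPQ : (P : Subgroup H).map π = Q := by rw [← hP]; rfl
      refine le_antisymm ?_ Subgroup.le_normalizer
      intro y hy
      obtain ⟨x, rfl⟩ := hπ y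
      have hx : x ∈ Subgroup.normalizer (((P : Subgroup H) ⊔ M : Subgroup H) : Set H) := by
        have h1 : (P : Subgroup H) ⊔ M = (Q : Subgroup (H ⧸ M)).comap π := by
          rw [← hPQ, Subgroup.comap_map_eq, QuotientGroup.ker_mk']
        rw [h1]
        exact Subgroup.le_normalizer_comap π hy
      have hs : CfsgLib.Glau.Syl r (P : Subgroup H) ((P : Subgroup H) ⊔ M) :=
        (CfsgLib.Glau.syl_top P).mono le_sup_left le_top
      obtain ⟨z, hz, hzle⟩ := hs.exists_conj_le
        ((CfsgLib.Glau.cj_mono x le_sup_left).trans (CfsgLib.Glau.mem_normalizer_iff_cj.1 hx).le)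
        (CfsgLib.Glau.isPGroup_cj x P.isPGroup')
      rw [← CfsgLib.Glau.cj_mul] at hzle
      have h2 : z * x ∈ (P : Subgroup H) := h r hr (hrd.trans (Subgroup.card_quotient_dvd_card M)) P ▸
        CfsgLib.Glau.mem_normalizer_iff_cj.2
          (Subgroup.eq_of_le_of_card_ge hzle (CfsgLib.Glau.card_cj (z * x) _).ge)
      have h3 := mul_mem (inv_mem hz) (Subgroup.mem_sup_left (T := M) h2)
      rw [inv_mul_cancel_left] at h3
      have h4 : π x ∈ ((P : Subgroup H) ⊔ M).map π := ⟨x, h3, rfl⟩
      rwa [Subgroup.map_sup, QuotientGroup.map_mk'_self, sup_bot_eq, hPQ] at h4)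
    haveI := Fact.mk hq
    refine ⟨q, hq, ?_⟩
    by_contra hG
    obtain ⟨r, hr, hrd, hrq⟩ : ∃ r : ℕ, r.Prime ∧ r ∣ Nat.card H ∧ r ≠ q := by
      by_contra hc
      push_neg at hc
      obtain ⟨k, hk⟩ : ∃ k, Nat.card H = q ^ k :=
        ⟨_, Nat.eq_prime_pow_of_unique_prime_dvd Nat.card_pos.ne' fun {d} hd hdd => hc d hd hdd⟩
      exact hG (IsPGroup.of_card hk)
    haveI := Fact.mk hr
    let R : Sylow r H := default
    have hRM : (R : Subgroup H) ≤ M := by
      intro x hx
      obtain ⟨k, hk⟩ := R.isPGroup' ⟨x, hx⟩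
      obtain ⟨l, hl⟩ := hqH (π x)
      refine (QuotientGroup.eq_one_iff x).1 ?_
      rw [← orderOf_eq_one_iff]
      exact Nat.Coprime.eq_one_of_dvd (Nat.Coprime.coprime_dvd_left (orderOf_dvd_of_pow_eq_one hl)
        (Nat.Coprime.pow _ _ ((Nat.coprime_primes hq hr).2 (Ne.symm hrq))))
        (orderOf_dvd_of_pow_eq_one (by
          show π x ^ r ^ k = 1
          rw [← map_pow, show x ^ r ^ k = 1 from congrArg Subtype.val hk, map_one]))
    have htop : (⊤ : Subgroup H) ≤ M := CfsgLib.Glau.le_of_frattini (CfsgLib.Glau.syl_top R)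
      (by rw [Subgroup.normalizer_eq_top_iff.2 hM]) inf_le_right (by
        rw [inf_eq_left.2 hRM]
        exact inf_le_right.trans ((h r hr hrd R).le.trans hRM))
    exact hM1 (top_le_iff.1 htop)

end Cfsg.Agent.S1992
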