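import Cfsg.Statements.S2001
import Cfsg.Agent.Fus.CentralPair

set_option autoImplicit false
open Cfsg

namespace Cfsg.Agent.S2001

/-- Let p be a prime dividing the order of the finite group G, P a Sylow p-subgroup, W a conjugacy functor for p on G with Z(H) ≤ W(H) for every nontrivial p-subgroup H, and V a central functor: a conjugacy functor with V(H) ≤ Z(H), and V(H) ≤ V(K) whenever Z(H) ≤ Z(K), for nontrivial p-subgroups H, K. Say that W with V controls transfer in a subgroup L when some Sylow p-subgroup Q of L satisfies Q ∩ L' = (Q ∩ (N_L(W(Q)))')·(Q ∩ (C_L(V(Q)))') as a product of two subgroups. If W with V controls transfer in N_G(H) for every subgroup H with Z(P) ≤ H ≤ P, then W with V controls transfer in G. -/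
theorem result {G : Type*} [Group G] [Finite G] {p : ℕ} [Fact p.Prime] (hdiv : p ∣ Nat.card G) (P : Sylow p G) (W V : Subgroup G → Subgroup G) (hW : Cfsg.IsConjugacyFunctor p W) (hV : Cfsg.IsConjugacyFunctor p V) (hWZ : ∀ H : Subgroup G, IsPGroup p ↥H → H ⊓ Subgroup.centralizer ((H : Subgroup G) : Set G) ≤ W H) (hVZ : ∀ H : Subgroup G, IsPGroup p ↥H → V H ≤ H ⊓ Subgroup.centralizer ((H : Subgroup G) : Set G)) (hVmono : ∀ H K : Subgroup G, IsPGroup p ↥H → IsPGroup p ↥K → H ≠ ⊥ → K ≠ ⊥ → H ⊓ Subgroup.centralizer ((H : Subgroup G) : Set G) ≤ K ⊓ Subgroup.centralizer ((K : Subgroup G) : Set G) → V H ≤ V K) (hloc : ∀ H : Subgroup G, (P : Subgroup G) ⊓ Subgroup.centralizer (((P : Subgroup G) : Subgroup G) : Set G) ≤ H → H ≤ (P : Subgroup G) → ∃ Q : Subgroup G, Q ≤ Subgroup.normalizer ((H : Subgroup G) : Set G) ∧ IsPGroup p ↥Q ∧ ¬ p ∣ (Q).relIndex (Subgroup.normalizer ((H : Subgroup G) : Set G)) ∧ ∀ x :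 G, x ∈ Q ⊓ ⁅Subgroup.normalizer ((H : Subgroup G) : Set G), Subgroup.normalizer ((H : Subgroup G) : Set G)⁆ ↔ ∃ a ∈ Q ⊓ ⁅Subgroup.normalizer ((H : Subgroup G) : Set G) ⊓ Subgroup.normalizer ((W Q : Subgroup G) : Set G), Subgroup.normalizer ((H : Subgroup G) : Set G) ⊓ Subgroup.normalizer ((W Q : Subgroup G) : Set G)⁆, ∃ b ∈ Q ⊓ ⁅Subgroup.normalizer ((H : Subgroup G) : Set G) ⊓ Subgroup.centralizer ((V Q : Subgroup G) : Set G), Subgroup.normalizer ((H : Subgroup G) : Set G) ⊓ Subgroup.centralizer ((V Q : Subgroup G) : Set G)⁆, x = a * b) : ∃ Q : Subgroup G, IsPGroup p ↥Q ∧ ¬ p ∣ Q.index ∧ ∀ x : G, x ∈ Q ⊓ commutator G ↔ ∃ a ∈ Q ⊓ ⁅Subgroup.normalizer ((W Q : Subgroup G) : Set G), Subgroup.normalizer ((W Q : Subgroup G) : Set G)⁆, ∃ b ∈ Q ⊓ ⁅Subgroup.centralizer ((V Q : Subgroup G) : Set G), Subgroup.centralizer ((V Q : Subgroup G) : Set G)⁆, x = a * b := by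
  have hS := CfsgLib.Glau.syl_top P
  have hF : CfsgLib.Glau.CPair.Funs p W V := ⟨hW, hV, hWZ, hVZ, hVmono⟩
  have hle := CfsgLib.Glau.CPair.transfer_global hS hF (fun T hT hZ he Q hQ M hM => ?_)
  · refine ⟨(P : Subgroup G), P.isPGroup', P.not_dvd_index, fun x => ⟨fun hx => ?_, ?_⟩⟩
    · exact CfsgLib.Glau.CPair.mem_pairR hS hF (hle hx)
    · rintro ⟨a, ha, b, hb, rfl⟩
      rw [commutator_def]
      exact ⟨mul_mem ha.1 hb.1, mul_mem (Subgroup.commutator_mono le_top le_top ha.2)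
        (Subgroup.commutator_mono le_top le_top hb.2)⟩
  · obtain ⟨Q0, hQle, hQp, hQi, hQ0⟩ := hloc T hZ hT
    have hs0 : CfsgLib.Glau.Syl p Q0 M := by subst hM; exact ⟨hQle, hQp, hQi⟩
    have hs : CfsgLib.Glau.Syl p Q M := by
      subst hM hQ
      have := he.syl hS
      rwa [top_inf_eq] at this
    obtain ⟨y, hy, hyS⟩ := hs0.exists_conj_le hs.le hs.pg
    have hyT : CfsgLib.Glau.cj y Q = Q0 :=
      Subgroup.eq_of_le_of_card_ge hyS (by rw [CfsgLib.Glau.card_cj, hs.card, hs0.card])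
    intro z hz
    have hz1 : y * z * y⁻¹ ∈ Q0 ⊓ ⁅M, M⁆ := by
      refine ⟨hyT ▸ CfsgLib.Glau.conj_mem_cj hz.1, ?_⟩
      have := CfsgLib.Glau.conj_mem_cj (g := y) hz.2
      rwa [CfsgLib.Glau.cj_commutator, CfsgLib.Glau.cj_eq_of_mem hy] at this
    subst hM
    obtain ⟨a, ha, b, hb, hab⟩ := (hQ0 _).1 hz1
    have eW : CfsgLib.Glau.cj y (W Q) = W Q0 := hyT ▸ ((hW Q hs.pg).2.2 y).symm
    have eV : CfsgLib.Glau.cj y (V Q) = V Q0 := hyT ▸ ((hV Q hs.pg).2.2 y).symm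
    rw [← eW, ← hyT, ← CfsgLib.Glau.cj_normalizer, ← CfsgLib.Glau.cj_eq_of_mem hy,
      ← CfsgLib.Glau.cj_inf, ← CfsgLib.Glau.cj_commutator, ← CfsgLib.Glau.cj_inf, CfsgLib.Glau.mem_cj] at ha
    rw [← eV, ← hyT, ← CfsgLib.Glau.cj_centralizer, ← CfsgLib.Glau.cj_eq_of_mem hy,
      ← CfsgLib.Glau.cj_inf, ← CfsgLib.Glau.cj_commutator, ← CfsgLib.Glau.cj_inf, CfsgLib.Glau.mem_cj] at hb
    have e : z = (y⁻¹ * a * y) * (y⁻¹ * b * y) := by
      calc z = y⁻¹ * (y * z * y⁻¹) * y := by group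
        _ = _ := by rw [hab]; group
    rw [e]
    exact Subgroup.mul_mem_sup ha hb

end Cfsg.Agent.S2001
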