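import Cfsg.Statements.S2002
import Cfsg.Agent.Fus.CentralPair

set_option autoImplicit false
open Cfsg

namespace Cfsg.Agent.S2002

/-- Let p be a prime dividing the order of the finite group G, P a Sylow p-subgroup, W a conjugacy functor for p on G with Z(H) ≤ W(H) for every nontrivial p-subgroup H, and V a central functor (a conjugacy functor with V(H) ≤ Z(H), and V(H) ≤ V(K) whenever Z(H) ≤ Z(K)). Say that W with V controls strong fusion in a subgroup L when some Sylow p-subgroup Q of L has the property: whenever X ⊆ Q and a ∈ L with a⁻¹Xa ⊆ Q, then a = c b with c ∈ C_L(X) and b = b₁ ⋯ bₙ a product of elements each in N_L(W(Q)) or in C_L(V(Q)) such that every partial conjugate (b₁ ⋯ bₖ)⁻¹ X (b₁ ⋯ bₖ) lies in Q. If W with V controls strong fusion in N_G(H) for every subgroup H with Z(P) ≤ H ≤ P, then W with V controls strong fusion in G. -/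
theorem result {G : Type*} [Group G] [Finite G] {p : ℕ} [Fact p.Prime] (hdiv : p ∣ Nat.card G) (P : Sylow p G) (W V : Subgroup G → Subgroup G) (hW : Cfsg.IsConjugacyFunctor p W) (hV : Cfsg.IsConjugacyFunctor p V) (hWZ : ∀ H : Subgroup G, IsPGroup p ↥H → H ⊓ Subgroup.centralizer ((H : Subgroup G) : Set G) ≤ W H) (hVZ : ∀ H : Subgroup G, IsPGroup p ↥H → V H ≤ H ⊓ Subgroup.centralizer ((H : Subgroup G) : Set G)) (hVmono : ∀ H K : Subgroup G, IsPGroup p ↥H → IsPGroup p ↥K → H ≠ ⊥ → K ≠ ⊥ → H ⊓ Subgroup.centralizer ((H : Subgroup G) : Set G) ≤ K ⊓ Subgroup.centralizer ((K : Subgroup G) : Set G) → V H ≤ V K) (hloc : ∀ H : Subgroup G, (P : Subgroup G) ⊓ Subgroup.centralizer (((P : Subgroup G) : Subgroup G) : Set G) ≤ H → H ≤ (P : Subgroup G) → ∃ Q : Subgroup G, Q ≤ Subgroup.normalizer ((H : Subgroup G) : Set G) ∧ IsPGroup p ↥Q ∧ ¬ p ∣ (Q).relIndex (Subgroup.normalizer ((H : Subgroup G) : Set G)) ∧ ∀ (X : Set G)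 (a : G), X ⊆ Q → a ∈ Subgroup.normalizer ((H : Subgroup G) : Set G) → (fun x => a⁻¹ * x * a) '' X ⊆ Q → ∃ c ∈ Subgroup.normalizer ((H : Subgroup G) : Set G) ⊓ Subgroup.centralizer X, ∃ (n : ℕ) (b : Fin n → G), (∀ i, b i ∈ Subgroup.normalizer ((H : Subgroup G) : Set G) ⊓ Subgroup.normalizer ((W Q : Subgroup G) : Set G) ∨ b i ∈ Subgroup.normalizer ((H : Subgroup G) : Set G) ⊓ Subgroup.centralizer ((V Q : Subgroup G) : Set G)) ∧ a = c * (List.ofFn b).prod ∧ ∀ k : ℕ, k ≤ n → (fun x => (((List.ofFn b).take k).prod)⁻¹ * x * ((List.ofFn b).take k).prod) '' ((fun x => c⁻¹ * x * c) '' X) ⊆ Q) : ∃ Q : Subgroup G, IsPGroup p ↥Q ∧ ¬ p ∣ Q.index ∧ ∀ (X : Set G) (a : G), X ⊆ Q → (fun x => a⁻¹ * x * a) '' X ⊆ Q → ∃ c ∈ Subgroup.centralizer X, ∃ (n : ℕ) (b : Fin n → G), (∀ i, b i ∈ ⊤ ⊓ Subgroup.normalizer ((W Q : Subgroup G) : Set G) ∨ b i ∈ ⊤ ⊓ Subgroup.centralizer ((V Q : Subgroup G) : Set G)) ∧ a = c * (List.ofFn b).prod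 ∧ ∀ k : ℕ, k ≤ n → (fun x => (((List.ofFn b).take k).prod)⁻¹ * x * ((List.ofFn b).take k).prod) '' ((fun x => c⁻¹ * x * c) '' X) ⊆ Q := by
  open CfsgLib.Glau CfsgLib.Glau.CPair in
  have hS := syl_top P
  have hF : CfsgLib.Glau.CPair.Funs p W V := ⟨hW, hV, hWZ, hVZ, hVmono⟩
  refine ⟨(P : Subgroup G), P.isPGroup', P.not_dvd_index, fun X a hX haX => ?_⟩
  set B := Subgroup.closure X with hBdef
  have hB : B ≤ (P : Subgroup G) := (Subgroup.closure_le _).2 hX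
  have hgB : CfsgLib.Glau.cj a⁻¹ B ≤ (P : Subgroup G) := by
    rw [CfsgLib.Glau.cj, hBdef, MonoidHom.map_closure, Subgroup.closure_le]
    rintro _ ⟨y, hy, rfl⟩
    simpa using haX ⟨y, hy, rfl⟩
  have hreach : CfsgLib.Glau.Reach (P : Subgroup G) (CfsgLib.Glau.CPair.pairN W V P) B a⁻¹ := by
    refine CfsgLib.Glau.CPair.fusion_global hS hF (fun T hT hZ he => ?_) hB hgB
    obtain ⟨Q, hQle, hQp, hQi, hQ⟩ := hloc T hZ hT
    have hsT := he.syl hS
    rw [top_inf_eq] at hsT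
    refine CfsgLib.Glau.CPair.loc_conj hF ⟨hQle, hQp, hQi⟩ hsT fun C hC x hx hxC => ?_
    obtain ⟨c, hc, n, b, hb, hab, hin⟩ := hQ (C : Set G) x⁻¹ hC (inv_mem hx) (by
      rintro _ ⟨y, hy, rfl⟩
      simpa using hxC (CfsgLib.Glau.conj_mem_cj hy))
    have hcy : ∀ y ∈ C, c⁻¹ * y * c = y := fun y hy => by rw [mul_assoc, hc.2 y hy]; group
    have hr := CfsgLib.Glau.CPair.reach_of_list (Q := Q)
      (𝒩 := CfsgLib.Glau.CPair.locN W V Q (Subgroup.normalizer (T : Set G))) hC hc.2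
      (fun i => (hb i).elim (fun h => ⟨_, Set.mem_insert _ _, h⟩) fun h => ⟨_, Set.mem_insert_of_mem _ rfl, h⟩)
      hab (fun k hk => by
        rintro _ ⟨y, hy, rfl⟩
        have := hin k hk ⟨c⁻¹ * y * c, ⟨y, hy, rfl⟩, rfl⟩
        simpa [hcy y hy] using this)
    rwa [inv_inv] at hr
  obtain ⟨k, hk, hke⟩ := hreach
  obtain ⟨n, b, hb, hprod, hin⟩ := CfsgLib.Glau.CPair.list_of_chain hk
  have hfix : ∀ y ∈ B, (a * k) * y * (a * k)⁻¹ = y := fun y hy => by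
    have h1 : k * y * k⁻¹ = a⁻¹ * y * a := by rw [hke y hy]; group
    calc a * k * y * (a * k)⁻¹ = a * (k * y * k⁻¹) * a⁻¹ := by group
      _ = y := by rw [h1]; group
  refine ⟨a * k, fun y hy => ?_, n, b, fun i => ?_, by rw [hprod]; group, fun j hj => ?_⟩
  · have := hfix y (Subgroup.subset_closure hy)
    calc y * (a * k) = (a * k) * y * (a * k)⁻¹ * (a * k) := by rw [this]
      _ = a * k * y := by group
  · obtain ⟨N, hN, hbN⟩ := hb i
    rcases hN with rfl | rfl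
    · exact Or.inl ⟨trivial, hbN⟩
    · exact Or.inr ⟨trivial, hbN⟩
  · rintro _ ⟨_, ⟨y, hy, rfl⟩, rfl⟩
    refine hin j hj (CfsgLib.Glau.mem_cj.2 ?_)
    have h1 := hfix y (Subgroup.subset_closure hy)
    have h2 : (a * k)⁻¹ * y * (a * k) = y := by
      calc (a * k)⁻¹ * y * (a * k) = (a * k)⁻¹ * ((a * k) * y * (a * k)⁻¹) * (a * k) := by rw [h1]
        _ = y := by group
    simp only [h2, inv_inv]
    simpa [mul_assoc] using Subgroup.subset_closure hy

end Cfsg.Agent.S2002
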