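import Cfsg.Statements.S2005
import Cfsg.Agent.Fus.ComplementInduction
import Cfsg.Agent.Fus.CoreBasic

set_option autoImplicit false
universe u
open Cfsg

namespace Cfsg.Agent.S2005

/-- Thompson's normal p-complement criterion in functor form. Let p be a prime, G a finite group with Sylow p-subgroup S, and W an isomorphism-invariant p-group functor (W assigns to every group Q a subgroup W(Q), nontrivial whenever Q is a nontrivial finite p-group, and every isomorphism from a finite p-group Q onto a group R carries W(Q) onto W(R)). Suppose N_G(W(S)) has a normal p-complement, and that W(S*) is normal in G* whenever G* = K/R is a section of G with C_{G*}(O_p(G*)) ≤ O_p(G*) such that G*/O_p(G*) has a normal p-complement, and S* is a Sylow p-subgroup of G* that is a maximal subgroup of G*. Then G has a normal p-complement. -/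
theorem result {G : Type u} [Group G] [Finite G] {p : ℕ} [Fact p.Prime] (W : ∀ (Q : Type u) [Group Q], Subgroup Q) (hW : Cfsg.IsCharPFunctor.{u} p W) (S : Sylow p G) (hN : Cfsg.HasNormalPComplement p ↥(Subgroup.normalizer ((Cfsg.inducedFunctor (G := G) W (S : Subgroup G) : Subgroup G) : Set G))) (hloc : ∀ (K R : Subgroup G) [hR : (R.subgroupOf K).Normal], Subgroup.centralizer ((Cfsg.pCore p (↥K ⧸ R.subgroupOf K) : Subgroup (↥K ⧸ R.subgroupOf K)) : Set (↥K ⧸ R.subgroupOf K)) ≤ Cfsg.pCore p (↥K ⧸ R.subgroupOf K) → Cfsg.HasNormalPComplement p ((↥K ⧸ R.subgroupOf K) ⧸ Cfsg.pCore p (↥K ⧸ R.subgroupOf K)) → ∀ T : Sylow p (↥K ⧸ R.subgroupOf K), IsCoatom (T : Subgroup (↥K ⧸ R.subgroupOf K)) → (Cfsg.inducedFunctor (G := (↥K ⧸ R.subgroupOf K)) W ((T : Subgroup (↥K ⧸ R.subgroupOf K)))).Normal) : Cfsg.HasNormalPComplement p G := by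
  classical
  refine CfsgLib.Glau.hnpc_induction W hW (fun Γ _ _ _ hsec T hT hC hQ hmax hab hinv => ?_) G (CfsgLib.Glau.isSec_self G) S hN
  by_cases htop : (T : Subgroup Γ) = ⊤
  · exact CfsgLib.Solv.hnpc_of_isPGroup (T.isPGroup'.of_equiv ((MulEquiv.subgroupCongr htop).trans Subgroup.topEquiv))
  obtain ⟨K, R, hR, ⟨e⟩⟩ := hsec.exists_equiv
  haveI := hR
  obtain ⟨T', hT'⟩ := CfsgLib.Glau.exists_sylow_map e T
  have hnorm := hloc K R (CfsgLib.Glau.constrained_equiv e hC) ?_ T' ⟨?_, ?_⟩
  · refine CfsgLib.Solv.hnpc_top (Subgroup.normalizer_eq_top_iff.2 ?_) hT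
    rw [← hT', ← CfsgLib.Glau.ind_equiv hW e T']
    exact hnorm.map e.toMonoidHom e.surjective
  · haveI := CfsgLib.Solv.pCore_normal (↥K ⧸ R.subgroupOf K) p
    exact CfsgLib.Solv.hnpc_mulEquiv (QuotientGroup.congr _ _ e.symm
      (le_antisymm (CfsgLib.Fus.map_pCore_mulEquiv p e.symm) fun x hx => ⟨e x, CfsgLib.Fus.map_pCore_mulEquiv p e ⟨x, hx, rfl⟩, e.symm_apply_apply x⟩)) hQ
  · intro h
    apply htop
    rw [← hT', h, Subgroup.map_top_of_surjective e.toMonoidHom e.surjective]
  · intro H hH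
    by_contra hne
    have h1 := hmax (H.map e.toMonoidHom) (hT' ▸ Subgroup.map_mono hH.le) (fun h => hne (by
      rw [← Subgroup.comap_map_eq_self_of_injective (f := e.toMonoidHom) e.injective H, h, Subgroup.comap_top]))
    rw [← hT'] at h1
    exact hH.ne' (Subgroup.map_injective (f := e.toMonoidHom) e.injective h1)

end Cfsg.Agent.S2005
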