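import Cfsg.Statements.S2006
import Cfsg.Agent.Fus.ComplementHit
import Cfsg.Agent.Fus.CoreBasic

set_option autoImplicit false
universe u
open Cfsg

namespace Cfsg.Agent.S2006

/-- Let p be a prime, G a finite group with Sylow p-subgroup S, and W an isomorphism-invariant p-group functor (W assigns to every group Q a subgroup W(Q), nontrivial whenever Q is a nontrivial finite p-group, and every isomorphism from a finite p-group Q onto a group R carries W(Q) onto W(R)). Suppose N_G(W(S)) has a normal p-complement, and that whenever G* = K/R is a section of G with C_{G*}(O_p(G*)) ≤ O_p(G*) and S* is a Sylow p-subgroup of G* with W(S*) not normal in G*, there are an element g of S* outside O_p(G*) and a chief factor X/Y of G* with X ≤ O_p(G*) such that [X, g, …, g] ≤ Y with p − 1 entries g but [X, g] ≰ Y. Then G has a normal p-complement. -/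
theorem result {G : Type u} [Group G] [Finite G] {p : ℕ} [Fact p.Prime] (W : ∀ (Q : Type u) [Group Q], Subgroup Q) (hW : Cfsg.IsCharPFunctor.{u} p W) (S : Sylow p G) (hN : Cfsg.HasNormalPComplement p ↥(Subgroup.normalizer ((Cfsg.inducedFunctor (G := G) W (S : Subgroup G) : Subgroup G) : Set G))) (hloc : ∀ (K R : Subgroup G) [hR : (R.subgroupOf K).Normal], Subgroup.centralizer ((Cfsg.pCore p (↥K ⧸ R.subgroupOf K) : Subgroup (↥K ⧸ R.subgroupOf K)) : Set (↥K ⧸ R.subgroupOf K)) ≤ Cfsg.pCore p (↥K ⧸ R.subgroupOf K) → ∀ T : Sylow p (↥K ⧸ R.subgroupOf K), ¬ (Cfsg.inducedFunctor (G := (↥K ⧸ R.subgroupOf K)) W ((T : Subgroup (↥K ⧸ R.subgroupOf K)))).Normal → ∃ g : (↥K ⧸ R.subgroupOf K), g ∈ (T : Subgroup (↥K ⧸ R.subgroupOf K)) ∧ g ∉ Cfsg.pCore p (↥K ⧸ R.subgroupOf K) ∧ ∃ U V : Subgroup (↥K ⧸ R.subgroupOf K), Cfsg.IsChiefFactor U V ∧ U ≤ Cfsg.pCore p (↥K ⧸ R.subgroupOf K) ∧ Cfsg.iterCommutator U (Subgroup.zpowers g) (p - 1) ≤ V ∧ ¬ ⁅U, Subgroup.zpowers g⁆ ≤ V) : Cfsg.HasNormalPComplement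 p G := by
  classical
  refine CfsgLib.Glau.hnpc_induction W hW (fun Γ _ _ _ hsec T hT hC hQ hmax hab hinv => ?_) G (CfsgLib.Glau.isSec_self G) S hN
  by_cases hn : (Cfsg.inducedFunctor (G := Γ) W (T : Subgroup Γ)).Normal
  · exact CfsgLib.Solv.hnpc_top (Subgroup.normalizer_eq_top_iff.2 hn) hT
  exfalso
  obtain ⟨K, R, hR, ⟨e⟩⟩ := hsec.exists_equiv
  haveI := hR
  obtain ⟨T', hT'⟩ := CfsgLib.Glau.exists_sylow_map e T
  have hind : (Cfsg.inducedFunctor W (T' : Subgroup (↥K ⧸ R.subgroupOf K))).map e.toMonoidHom =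
      Cfsg.inducedFunctor (G := Γ) W (T : Subgroup Γ) := by rw [CfsgLib.Glau.ind_equiv hW e T', hT']
  obtain ⟨g, hgT, hgU, U, V, hc, hUP, hit, hmove⟩ := hloc K R (CfsgLib.Glau.constrained_equiv e hC) T'
    (fun h => hn (hind ▸ h.map e.toMonoidHom e.surjective))
  have hcore := CfsgLib.Fus.map_pCore_mulEquiv p e
  have hit' : ∀ n, Cfsg.iterCommutator (U.map e.toMonoidHom) (Subgroup.zpowers (e.toMonoidHom g)) n =
      (Cfsg.iterCommutator U (Subgroup.zpowers g) n).map e.toMonoidHom := by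
    intro n
    induction n with
    | zero => rfl
    | succ n ih =>
      show ⁅_, _⁆ = (⁅_, _⁆ : Subgroup _).map _
      rw [ih, Subgroup.map_commutator, MonoidHom.map_zpowers]
  refine CfsgLib.Glau.false_of_short_hit T hQ hab hinv (g := e g) (hT' ▸ ⟨g, hgT, rfl⟩)
    (fun h => hgU (by
      have h' := CfsgLib.Fus.map_pCore_mulEquiv p e.symm ⟨e g, h, rfl⟩
      rwa [show e.symm.toMonoidHom (e g) = g from e.symm_apply_apply g] at h'))
    (X := U.map e.toMonoidHom) (Y := V.map e.toMonoidHom) ?_ ((Subgroup.map_mono hUP).trans hcore)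
    ((hit' (p - 1)).le.trans (Subgroup.map_mono hit)) (fun h => hmove ?_)
  · have h := CfsgLib.Glau.chief_comap e.symm hc
    rw [Subgroup.map_equiv_eq_comap_symm', Subgroup.map_equiv_eq_comap_symm']
    exact h
  · rw [← Subgroup.map_le_map_iff_of_injective (f := e.toMonoidHom) e.injective, Subgroup.map_commutator,
      MonoidHom.map_zpowers]
    exact h

end Cfsg.Agent.S2006
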