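import Cfsg.Statements.S2007
import Cfsg.Agent.Solv.PComplement

set_option autoImplicit false
open Cfsg

namespace Cfsg.Agent.S2007

/-- Let p be a prime, G a finite group with Sylow p-subgroup S, and T a normal subgroup of S containing C_S(T). If N_G(T)/C_G(T) is a p-group (every element of N_G(T) of order prime to p centralizes T), then N_G(T) has a normal p-complement. -/
theorem result {G : Type*} [Group G] [Finite G] {p : ℕ} [Fact p.Prime] (S : Sylow p G) (T : Subgroup G) (hTS : T ≤ (S : Subgroup G)) (hTn : (S : Subgroup G) ≤ Subgroup.normalizer ((T : Subgroup G) : Set G)) (hC : (S : Subgroup G) ⊓ Subgroup.centralizer ((T : Subgroup G) : Set G) ≤ T) (hN : ∀ g ∈ Subgroup.normalizer ((T : Subgroup G) : Set G), (orderOf g).Coprime p → g ∈ Subgroup.centralizer ((T : Subgroup G) : Set G)) : Cfsg.HasNormalPComplement p ↥(Subgroup.normalizer ((T : Subgroup G) : Set G)) := by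
  classical
  set N := Subgroup.normalizer (T : Set G) with hNdef
  set C : Subgroup ↥N := (Subgroup.centralizer (T : Set G)).subgroupOf N with hC'
  haveI hCn : C.Normal := Subgroup.normal_subgroupOf_centralizer_normalizer _
  let SN : Sylow p ↥N := S.subtype hTn
  have hCnpc : Cfsg.HasNormalPComplement p ↥C := by
    obtain ⟨P, hP⟩ : ∃ P : Sylow p ↥C, ∀ x ∈ P, ((x : ↥N) : G) ∈ T := by
      obtain ⟨P⟩ : Nonempty (Sylow p ↥C) := inferInstance
      refine ⟨P, fun x hx => ?_⟩
      obtain ⟨T', hT'⟩ := (P.isPGroup'.map C.subtype).exists_le_sylow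
      obtain ⟨n, hn⟩ := MulAction.exists_smul_eq ↥N T' SN
      have h1 : n * (x : ↥N) * n⁻¹ ∈ (SN : Subgroup ↥N) := by
        rw [← hn, Sylow.coe_subgroup_smul]
        exact ⟨x, hT' ⟨x, hx, rfl⟩, rfl⟩
      have h2 : ((n * (x : ↥N) * n⁻¹ : ↥N) : G) ∈ T := hC ⟨h1, hCn.conj_mem _ x.2 n⟩
      exact (Subgroup.mem_normalizer_iff.1 n.2 _).2 h2
    refine CfsgLib.Solv.hnpc_of_fusion P fun x hx g _ => ⟨1, one_mem _, ?_⟩
    have hcomm : g * x = x * g := Subtype.ext (Subtype.ext (g.2 _ (hP x hx)).symm)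
    rw [one_mul, inv_one, mul_one, hcomm, mul_inv_cancel_right]
  rw [CfsgLib.Solv.hnpc_iff] at hCnpc ⊢
  rw [← CfsgLib.Solv.card_map_subtype] at hCnpc
  refine fun hd => hCnpc (hd.trans (Subgroup.card_dvd_of_le ?_))
  rw [Cfsg.pResidual, Subgroup.closure_le]
  intro g hg
  have hgC : g ∈ C := hN g g.2 (by rw [Subgroup.orderOf_coe]; exact hg)
  exact ⟨⟨g, hgC⟩, Subgroup.subset_closure (show Nat.Coprime (orderOf (⟨g, hgC⟩ : ↥C)) p by
    rw [Subgroup.orderOf_mk]; exact hg), rfl⟩

end Cfsg.Agent.S2007
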