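import Cfsg.Statements.S2008

set_option autoImplicit false
open Cfsg

namespace Cfsg.Agent.S2008

/-- Let H be a finite group and z an involution such that every proper normal subgroup of H meets the centralizer of z trivially, and suppose z lies in a Klein four-subgroup E of H all three of whose involutions are conjugate to z in H. Then H has no non-trivial abelian normal subgroup. -/
theorem result {H : Type*} [Group H] [Finite H] (z : H) (hz : orderOf z = 2) (hN : ∀ N : Subgroup H, N.Normal → N ≠ ⊤ → N ⊓ Subgroup.centralizer ({z} : Set H) = ⊥) (E : Subgroup H) (hE : IsKleinFour ↥E) (hzE : z ∈ E) (hc : ∀ e ∈ E, e ≠ 1 → IsConj z e) (N : Subgroup H) [N.Normal] (hab : IsMulCommutative ↥N) : N = ⊥ := by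
  have hab' := hab
  by_contra hne
  by_cases htop : N = ⊤
  · -- then `H` is abelian, but the four-group holds two distinct conjugates of `z`
    obtain ⟨a, b, ha, hb, hab⟩ : ∃ a b : ↥E, a ≠ 1 ∧ b ≠ 1 ∧ a ≠ b := by
      haveI := Fintype.ofFinite ↥E
      have h4 := hE.card_four
      rw [Nat.card_eq_fintype_card] at h4
      obtain ⟨a, b, c, h1, h2, h3⟩ := Fintype.two_lt_card_iff.1 (show 2 < Fintype.card ↥E by omega)
      by_cases ha : a = 1
      · exact ⟨b, c, fun h => h1 (ha.trans h.symm), fun h => h2 (ha.trans h.symm), h3⟩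
      by_cases hb : b = 1
      · exact ⟨a, c, ha, fun h => h3 (hb.trans h.symm), h2⟩
      exact ⟨a, b, ha, hb, h1⟩
    refine hab (Subtype.ext ?_)
    have hcomm : ∀ u v : H, u * v = v * u := fun u v =>
      congrArg Subtype.val (hab'.is_comm.comm ⟨u, htop ▸ Subgroup.mem_top u⟩ ⟨v, htop ▸ Subgroup.mem_top v⟩)
    have heq : ∀ u : ↥E, u ≠ 1 → (u : H) = z := fun u hu => by
      obtain ⟨h, hh⟩ := isConj_iff.1 (hc u u.2 (fun h => hu (Subtype.ext h)))
      rw [← hh, hcomm h z, mul_inv_cancel_right]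
    rw [heq a ha, heq b hb]
  · have hinv : ∀ e : H, IsConj z e → ∀ n ∈ N, e * n * e⁻¹ = n⁻¹ := by
      intro e hze
      obtain ⟨h, rfl⟩ := isConj_iff.1 hze
      have hfix : ∀ m ∈ N, z * m = m * z → m = 1 := fun m hm hzm => by
        have : m ∈ N ⊓ Subgroup.centralizer ({z} : Set H) :=
          ⟨hm, Subgroup.mem_centralizer_singleton_iff.2 hzm.symm⟩
        rwa [hN N inferInstance htop, Subgroup.mem_bot] at this
      have hzz : z * z = 1 := by rw [← pow_two, ← hz, pow_orderOf_eq_one]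
      have hzi : z⁻¹ = z := inv_eq_of_mul_eq_one_right hzz
      have hz' : ∀ m ∈ N, z * m * z⁻¹ = m⁻¹ := by
        intro m hm
        have hc : (z * m * z⁻¹) * m = m * (z * m * z⁻¹) :=
          congrArg Subtype.val (hab'.is_comm.comm ⟨z * m * z⁻¹, (inferInstance : N.Normal).conj_mem m hm z⟩ ⟨m, hm⟩)
        have h1 := hfix (z * m * z⁻¹ * m) (N.mul_mem ((inferInstance : N.Normal).conj_mem m hm z) hm) (by
          calc z * (z * m * z⁻¹ * m) = (z * z) * m * z⁻¹ * m := by simp only [mul_assoc]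
            _ = m * (z * m * z⁻¹) * z := by rw [hzz, one_mul, hzi]; simp only [mul_assoc, hzz, mul_one]
            _ = (z * m * z⁻¹ * m) * z := by rw [hc])
        exact eq_inv_of_mul_eq_one_left h1
      intro n hn
      have h1 := hz' (h⁻¹ * n * h) (by simpa using (inferInstance : N.Normal).conj_mem n hn h⁻¹)
      calc h * z * h⁻¹ * n * (h * z * h⁻¹)⁻¹ = h * (z * (h⁻¹ * n * h) * z⁻¹) * h⁻¹ := by group
        _ = h * (h⁻¹ * n * h)⁻¹ * h⁻¹ := by rw [h1]
        _ = n⁻¹ := by group
    refine hne ((Subgroup.eq_bot_iff_forall N).2 fun n hn => ?_)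
    obtain ⟨e, he, he1, hez⟩ : ∃ e ∈ E, e ≠ 1 ∧ e ≠ z := by
      haveI := Fintype.ofFinite ↥E
      have h4 := hE.card_four
      rw [Nat.card_eq_fintype_card] at h4
      obtain ⟨a, b, c, h1, h2, h3⟩ := Fintype.two_lt_card_iff.1 (show 2 < Fintype.card ↥E by omega)
      have hne' : ∀ u v : ↥E, u ≠ v → (u : H) ≠ v := fun u v h h' => h (Subtype.ext h')
      by_cases hA : (a : H) ≠ 1 ∧ (a : H) ≠ z
      · exact ⟨a, a.2, hA⟩
      by_cases hB : (b : H) ≠ 1 ∧ (b : H) ≠ z
      · exact ⟨b, b.2, hB⟩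
      refine ⟨c, c.2, ?_, ?_⟩ <;>
      · intro hC
        rcases not_and_or.1 hA with hA | hA <;> rcases not_and_or.1 hB with hB | hB <;>
          simp only [not_not] at hA hB <;>
          first
            | exact hne' a b h1 (hA.trans hB.symm)
            | exact hne' a c h2 (hA.trans hC.symm)
            | exact hne' b c h3 (hB.trans hC.symm)
    have h1 := hinv z (IsConj.refl z) n hn
    have h2 := hinv e (hc e he he1) n hn
    have h3 := hinv (z * e) (hc (z * e) (E.mul_mem hzE he) (fun h => hez (by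
      have hzi : z⁻¹ = z := inv_eq_of_mul_eq_one_right (by rw [← pow_two, ← hz, pow_orderOf_eq_one])
      rw [← inv_eq_of_mul_eq_one_right h, hzi]))) n hn
    have h4 : z * (e * n * e⁻¹) * z⁻¹ = n⁻¹ := by rw [← h3]; group
    rw [h2] at h4
    have h5 : z * n⁻¹ * z⁻¹ = n := by
      calc z * n⁻¹ * z⁻¹ = (z * n * z⁻¹)⁻¹ := by group
        _ = n := by rw [h1, inv_inv]
    have h6 : n = n⁻¹ := h5.symm.trans h4
    have : n ∈ N ⊓ Subgroup.centralizer ({z} : Set H) := ⟨hn, Subgroup.mem_centralizer_singleton_iff.2 (by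
      rw [eq_comm, ← mul_inv_eq_iff_eq_mul, h1, ← h6])⟩
    rwa [hN N inferInstance htop, Subgroup.mem_bot] at this

end Cfsg.Agent.S2008
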