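import Cfsg.Statements.S2009
import Cfsg.Agent.S2008

set_option autoImplicit false
open Cfsg

namespace Cfsg.Agent.S2009

/-- Let H be a finite group and z an involution such that every proper normal subgroup of H meets the centralizer of z trivially, and suppose z lies in a Klein four-subgroup E of H all three of whose involutions are conjugate to z in H. Then H is simple. -/
theorem result {H : Type*} [Group H] [Finite H] (z : H) (hz : orderOf z = 2) (hN : ∀ N : Subgroup H, N.Normal → N ≠ ⊤ → N ⊓ Subgroup.centralizer ({z} : Set H) = ⊥) (E : Subgroup H) (hE : IsKleinFour ↥E) (hzE : z ∈ E) (hc : ∀ e ∈ E, e ≠ 1 → IsConj z e) : IsSimpleGroup H := by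
  haveI : Nontrivial H := ⟨⟨z, 1, fun h => by rw [h, orderOf_one] at hz; omega⟩⟩
  refine ⟨fun N hNn => ?_⟩
  by_cases htop : N = ⊤
  · exact Or.inr htop
  left
  haveI := hNn
  have hzz : z * z = 1 := by rw [← pow_two, ← hz, pow_orderOf_eq_one]
  have hzi : z⁻¹ = z := inv_eq_of_mul_eq_one_right hzz
  let φ : ↥N →* ↥N :=
    { toFun := fun n => ⟨z * n * z⁻¹, hNn.conj_mem n n.2 z⟩
      map_one' := Subtype.ext (by simp)
      map_mul' := fun a b => Subtype.ext (by simp [mul_assoc]) }
  have hinvol : Function.Involutive φ := fun n => Subtype.ext (by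
    show z * (z * n * z⁻¹) * z⁻¹ = n
    rw [hzi]; simp only [mul_assoc, hzz, mul_one]; rw [← mul_assoc, hzz, one_mul])
  have hfpf : MonoidHom.FixedPointFree φ := fun n hn => by
    have h : (n : H) ∈ N ⊓ Subgroup.centralizer ({z} : Set H) :=
      ⟨n.2, Subgroup.mem_centralizer_singleton_iff.2 (by
        have h' : z * (n : H) * z⁻¹ = n := congrArg Subtype.val hn
        rw [mul_inv_eq_iff_eq_mul] at h'
        exact h'.symm)⟩
    rw [hN N hNn htop, Subgroup.mem_bot] at h
    exact Subtype.ext h
  have hcoe := MonoidHom.FixedPointFree.coe_eq_inv_of_involutive hfpf hinvol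
  refine Cfsg.Agent.S2008.result z hz hN E hE hzE hc N ⟨⟨fun a b => ?_⟩⟩
  have h := map_mul φ a b
  simp only [hcoe, mul_inv_rev] at h
  exact inv_injective (by rw [mul_inv_rev, mul_inv_rev, h])

end Cfsg.Agent.S2009
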