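import Cfsg.Statements.S2011
import Cfsg.Agent.Solv.Basic
-- import your own Cfsg.Agent.* helpers here

set_option autoImplicit false
open Cfsg

namespace Cfsg.Agent.S2011

/-- Let G be a finite group with Sylow p-subgroup P and Q ≤ P. Then Q is centric in the fusion system of G on P (C_P(R) ≤ R for every G-conjugate R of Q lying in P) if and only if C_G(Q) is the internal direct product of Z(Q) = Q ∩ C_G(Q) and the largest normal subgroup of C_G(Q) of order prime to p. -/
theorem result {G : Type*} [Group G] [Finite G] (p : ℕ) [Fact p.Prime] (P : Sylow p G) (Q : Subgroup G) (hQ : Q ≤ P) : (Cfsg.groupFusionSystem (P : Subgroup G)).IsCentric Q ↔ Cfsg.IsInternalDirectProduct (Q ⊓ Subgroup.centralizer (Q : Set G)) ((Cfsg.pPrimeCore p ↥(Subgroup.centralizer (Q : Set G))).map (Subgroup.centralizer (Q : Set G)).subtype) (Subgroup.centralizer (Q : Set G)) := by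
  classical
  set C := Subgroup.centralizer (Q : Set G) with hC
  set O := Cfsg.pPrimeCore p ↥C with hO
  have hOcop : (Nat.card ↥O).Coprime p := CfsgLib.Solv.pPrimeCore_coprime ↥C p
  set Z := (Q ⊓ C).subgroupOf C with hZ
  have hQp : IsPGroup p ↥Q := P.isPGroup'.to_le hQ
  have hZc : ∀ z ∈ Z, ∀ c : ↥C, c * z = z * c := fun z hz c =>
    Subtype.ext ((Subgroup.mem_centralizer_iff.mp c.2 z (Subgroup.mem_subgroupOf.mp hz).1).symm)
  haveI hZn : Z.Normal := ⟨fun z hz c => by rw [hZc z hz c, mul_inv_cancel_right]; exact hz⟩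
  have hZp : IsPGroup p ↥Z := (hQp.to_le inf_le_left).of_equiv (Subgroup.subgroupOfEquivOfLe inf_le_right).symm
  have hdisj : ∀ x : ↥C, x ∈ Z → x ∈ O → x = 1 := by
    intro x hxZ hxO
    obtain ⟨k, hk⟩ := IsPGroup.iff_orderOf.mp hZp ⟨x, hxZ⟩
    rw [Subgroup.orderOf_mk] at hk
    have h1 := Subgroup.orderOf_dvd_natCard O hxO
    rw [hk] at h1
    have h2 : Nat.Coprime (p ^ k) (p ^ k) := Nat.Coprime.coprime_dvd_left h1 (hOcop.pow_right k)
    rw [Nat.coprime_self] at h2
    exact orderOf_eq_one_iff.mp (hk.trans h2)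
  constructor
  · rintro ⟨-, hcen⟩
    let S : Sylow p ↥C := default
    have hZS : Z ≤ (S : Subgroup ↥C) :=
      le_sup_right.trans (le_of_eq (S.is_maximal' (IsPGroup.to_sup_of_normal_right S.isPGroup' hZp) le_sup_left))
    have hSQ : IsPGroup p ↥((S : Subgroup ↥C).map C.subtype ⊔ Q) := by
      refine IsPGroup.to_sup_of_normal_right' (S.isPGroup'.map _) hQp ?_
      exact (Subgroup.map_subtype_le _).trans (Subgroup.centralizer_le_normalizer _)
    obtain ⟨T, hT⟩ := hSQ.exists_le_sylow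
    obtain ⟨g, hg⟩ := MulAction.exists_smul_eq G T P
    have hgP : ∀ x ∈ (T : Subgroup G), g * x * g⁻¹ ∈ (P : Subgroup G) := fun x hx => by
      rw [← hg, Sylow.coe_subgroup_smul]
      exact Subgroup.smul_mem_pointwise_smul x (MulAut.conj g) _ hx
    have hSle : (S : Subgroup ↥C) ≤ Z := by
      intro s hs
      have hconj : (Cfsg.groupFusionSystem (P : Subgroup G)).IsConj Q
          (((MulAut.conj g).toMonoidHom.comp Q.subtype).range) :=
        ⟨(MulAut.conj g).toMonoidHom.comp Q.subtype,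
          ⟨hQ, fun x => hgP x (hT (Subgroup.mem_sup_right x.2)), g, fun x => rfl⟩, rfl⟩
      have h1 : g * (s : G) * g⁻¹ ∈ ((MulAut.conj g).toMonoidHom.comp Q.subtype).range := by
        refine hcen _ hconj ⟨hgP _ (hT (Subgroup.mem_sup_left ⟨s, hs, rfl⟩)), Subgroup.mem_centralizer_iff.mpr ?_⟩
        rintro _ ⟨q, rfl⟩
        show g * (q : G) * g⁻¹ * (g * (s : G) * g⁻¹) = g * (s : G) * g⁻¹ * (g * (q : G) * g⁻¹)
        calc g * (q : G) * g⁻¹ * (g * (s : G) * g⁻¹) = g * ((q : G) * s) * g⁻¹ := by group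
          _ = g * ((s : G) * q) * g⁻¹ := by rw [Subgroup.mem_centralizer_iff.mp s.2 q q.2]
          _ = _ := by group
      obtain ⟨q, hq⟩ := h1
      have hqs : (q : G) = (s : G) := (MulAut.conj g).injective hq
      exact Subgroup.mem_subgroupOf.mpr ⟨hqs ▸ q.2, s.2⟩
    have hSc : Subgroup.normalizer ((S : Subgroup ↥C) : Set ↥C) ≤ Subgroup.centralizer ((S : Subgroup ↥C) : Set ↥C) :=
      fun c _ => Subgroup.mem_centralizer_iff.mpr fun s hs => (hZc s (hSle hs) c).symm
    have hK := MonoidHom.ker_transferSylow_isComplement' S hSc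
    have hKO : (MonoidHom.transferSylow S hSc).ker ≤ O := by
      refine CfsgLib.Solv.le_pPrimeCore ?_
      rw [Nat.coprime_comm, (Fact.out : p.Prime).coprime_iff_not_dvd, ← hK.index_eq_card]
      exact S.not_dvd_index
    refine ⟨inf_le_right, Subgroup.map_subtype_le _, ?_, ?_, ?_⟩
    · rintro a ha _ ⟨b, hb, rfl⟩
      exact Subgroup.mem_centralizer_iff.mp b.2 a ha.1
    · rw [eq_bot_iff]
      rintro x ⟨hxZ, y, hy, rfl⟩
      have := hdisj y (Subgroup.mem_subgroupOf.mpr hxZ) hy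
      rw [this]; exact (⊥ : Subgroup G).one_mem
    · refine le_antisymm (sup_le inf_le_right (Subgroup.map_subtype_le _)) fun c hc => ?_
      have h1 : (⟨c, hc⟩ : ↥C) ∈ Z ⊔ O := by
        have h2 : (⊤ : Subgroup ↥C) ≤ Z ⊔ O := by
          rw [← hK.sup_eq_top]
          exact sup_le (hKO.trans le_sup_right) (hSle.trans le_sup_left)
        exact h2 (Subgroup.mem_top _)
      have h3 : (Z ⊔ O).map C.subtype ≤ Q ⊓ C ⊔ O.map C.subtype := by
        rw [Subgroup.map_sup, hZ, Subgroup.map_subgroupOf_eq_of_le inf_le_right]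
      exact h3 ⟨_, h1, rfl⟩
  · rintro ⟨-, -, hcomm, -, hsup⟩
    refine ⟨hQ, fun R hR c hc => ?_⟩
    obtain ⟨φ, ⟨-, hφP, g, hg⟩, rfl⟩ := hR
    have hdC : g⁻¹ * c * g ∈ C := Subgroup.mem_centralizer_iff.mpr fun q hq => by
      have h1 := Subgroup.mem_centralizer_iff.mp hc.2 (φ ⟨q, hq⟩) ⟨⟨q, hq⟩, rfl⟩
      rw [hg] at h1
      calc q * (g⁻¹ * c * g) = g⁻¹ * ((g * q * g⁻¹) * c) * g := by group
        _ = g⁻¹ * (c * (g * q * g⁻¹)) * g := by rw [h1]
        _ = _ := by group
    obtain ⟨k, hk⟩ := P.isPGroup' ⟨c, hc.1⟩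
    have hk' : c ^ p ^ k = 1 := congrArg Subtype.val hk
    set d : ↥C := ⟨g⁻¹ * c * g, hdC⟩ with hd
    have hdk : d ^ p ^ k = 1 := Subtype.ext (by
      show (g⁻¹ * c * g) ^ p ^ k = 1
      rw [show g⁻¹ * c * g = MulAut.conj g⁻¹ c by simp, ← map_pow, hk', map_one])
    have htop : Z ⊔ O = ⊤ := by
      apply Subgroup.map_injective C.subtype_injective
      rw [Subgroup.map_sup, hZ, Subgroup.map_subgroupOf_eq_of_le inf_le_right, hsup, ← MonoidHom.range_eq_map,
        Subgroup.range_subtype]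
    have hmem : d ∈ ((Z ⊔ O : Subgroup ↥C) : Set ↥C) := by rw [htop]; trivial
    rw [Subgroup.normal_mul] at hmem
    obtain ⟨z, hz, o, ho, hzo⟩ := hmem
    have hzo' : z * o = d := hzo
    have hcm : Commute z o := (hZc z hz o).symm
    have h1 : z ^ p ^ k * o ^ p ^ k = 1 := by rw [← hcm.mul_pow, hzo', hdk]
    have h2 : o ^ p ^ k = 1 := hdisj _ (by
      rw [eq_inv_of_mul_eq_one_right h1]
      exact Z.inv_mem (Z.pow_mem hz _)) (O.pow_mem ho _)
    have h3 : o = 1 := by
      have := Nat.eq_one_of_dvd_coprimes (hOcop.pow_right k) (Subgroup.orderOf_dvd_natCard O ho)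
        (orderOf_dvd_of_pow_eq_one h2)
      exact orderOf_eq_one_iff.mp this
    have hdQ : g⁻¹ * c * g ∈ Q := by
      rw [h3, mul_one] at hzo'
      have := (Subgroup.mem_subgroupOf.mp hz).1
      rwa [hzo'] at this
    exact ⟨⟨_, hdQ⟩, by rw [hg]; group⟩

end Cfsg.Agent.S2011
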