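import Cfsg.Statements.S2012
import Cfsg.Agent.Fus.FunctorCore
-- import your own Cfsg.Agent.* helpers here

set_option autoImplicit false
open Cfsg

namespace Cfsg.Agent.S2012

/-- An admissible conjugating element. -/
def Adm {G : Type*} [Group G] (p : ℕ) (S R : Subgroup G) (x : G) : Prop :=
  CfsgLib.Glau.Syl p R ⊤ ∧ x ∈ Subgroup.normalizer ((S ⊓ R : Subgroup G) : Set G) ∧
    ¬ p ∣ (S ⊓ Subgroup.normalizer ((S ⊓ R : Subgroup G) : Set G)).relIndex (Subgroup.normalizer ((S ⊓ R : Subgroup G) : Set G)) ∧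
    ¬ p ∣ (R ⊓ Subgroup.normalizer ((S ⊓ R : Subgroup G) : Set G)).relIndex (Subgroup.normalizer ((S ⊓ R : Subgroup G) : Set G)) ∧
    (R = S ∨ ∃ k : ℕ, orderOf x = p ^ k)

/-- A chain of admissible steps. -/
inductive Ch {G : Type*} [Group G] (p : ℕ) (S : Subgroup G) : Subgroup G → G → Prop
  | one (A : Subgroup G) : Ch p S A 1
  | step {A : Subgroup G} {x g : G} (R : Subgroup G) (hR : Adm p S R x) (hA : A ≤ S ⊓ R)
      (hc : Ch p S (CfsgLib.Glau.cj x⁻¹ A) g) : Ch p S A (x * g)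

open CfsgLib.Glau in
theorem Ch.trans {G : Type*} [Group G] {p : ℕ} {S A : Subgroup G} {g : G} (h : Ch p S A g) :
    ∀ {g' : G}, Ch p S (cj g⁻¹ A) g' → Ch p S A (g * g') := by
  induction h with
  | one A => intro g' h; rw [one_mul]; rwa [inv_one, cj_one] at h
  | step R hR hA _ ih =>
    intro g' h
    rw [mul_assoc]
    exact Ch.step R hR hA (ih (by rwa [← cj_mul, ← mul_inv_rev]))

open CfsgLib.Glau in
theorem Ch.mono {G : Type*} [Group G] {p : ℕ} {S A : Subgroup G} {g : G} (h : Ch p S A g) :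
    ∀ {B : Subgroup G}, B ≤ A → Ch p S B g := by
  induction h with
  | one A => exact fun _ => Ch.one _
  | step R hR hA _ ih => exact fun hB => Ch.step R hR (hB.trans hA) (ih (cj_mono _ hB))

theorem lt_inf_normalizer {G : Type*} [Group G] [Finite G] {p : ℕ} [Fact p.Prime] {T D : Subgroup G}
    (hT : IsPGroup p T) (h : D < T) : D < T ⊓ Subgroup.normalizer (D : Set G) := by
  haveI : Group.IsNilpotent ↥T := hT.isNilpotent
  refine lt_of_le_of_ne (le_inf h.le Subgroup.le_normalizer) fun he => ?_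
  have hlt : D.subgroupOf T < ⊤ := lt_top_iff_ne_top.2 fun e => h.ne (le_antisymm h.le (Subgroup.subgroupOf_eq_top.1 e))
  obtain ⟨a, ha, haD⟩ := SetLike.exists_of_lt (Group.normalizerCondition_of_isNilpotent _ hlt)
  refine haD (Subgroup.mem_subgroupOf.mpr ?_)
  rw [he]
  refine ⟨a.2, CfsgLib.Glau.mem_normalizer_iff_cj.mpr (Subgroup.eq_of_le_of_card_ge ?_ (CfsgLib.Glau.card_cj _ D).ge)⟩
  rintro _ ⟨u, hu, rfl⟩
  exact Subgroup.mem_subgroupOf.mp ((Subgroup.mem_normalizer_iff.mp ha ⟨u, h.le hu⟩).mp (Subgroup.mem_subgroupOf.mpr hu))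

open CfsgLib.Glau in
theorem exists_chain {G : Type*} [Group G] [Finite G] {p : ℕ} [hp : Fact p.Prime] {S : Subgroup G} (hS : Syl p S ⊤)
    (R : Subgroup G) (hR : Syl p R ⊤) : ∃ x, Ch p S (S ⊓ R) x ∧ cj x⁻¹ R = S := by
  suffices key : ∀ (m : ℕ) (R : Subgroup G), Syl p R ⊤ → Nat.card S - Nat.card ↥(S ⊓ R) = m →
      ∃ x, Ch p S (S ⊓ R) x ∧ cj x⁻¹ R = S from key _ R hR rfl
  intro m
  induction m using Nat.strong_induction_on with
  | _ m ih =>
  intro R hR hm
  have hcardSyl : ∀ T : Subgroup G, Syl p T ⊤ → Nat.card T = Nat.card S := fun T hT => hT.card.trans hS.card.symm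
  by_cases hSR : S ≤ R
  · have : R = S := hS.eq_of_le hSR le_top hR.pg
    exact ⟨1, Ch.one _, by rw [inv_one, cj_one, this]⟩
  set D := S ⊓ R with hD
  have hDlt : D < S := lt_of_le_of_ne inf_le_left fun e => hSR (e ▸ inf_le_right)
  have rec' : ∀ T : Subgroup G, Syl p T ⊤ → Nat.card D < Nat.card ↥(S ⊓ T) →
      ∃ x, Ch p S (S ⊓ T) x ∧ cj x⁻¹ T = S := fun T hT hlt => ih _ (by
        have := Subgroup.card_le_of_le (inf_le_left : S ⊓ T ≤ S)
        omega) T hT rfl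
  have hcjSyl : ∀ (g : G) (T : Subgroup G), Syl p T ⊤ → Syl p (cj g T) ⊤ := fun g T hT => by
    have := hT.conj g
    rwa [cj_eq_of_mem (Subgroup.mem_top g)] at this
  have hltcard : ∀ {A B : Subgroup G}, A < B → Nat.card A < Nat.card B := fun {A B} h =>
    lt_of_not_ge fun hge => h.ne (Subgroup.eq_of_le_of_card_ge h.le hge)
  set H := Subgroup.normalizer (D : Set G) with hH
  have hgrow := hltcard (lt_inf_normalizer hS.pg hDlt)
  obtain ⟨T0, hST0, hT0⟩ := exists_syl (p := p) H (inf_le_right : S ⊓ H ≤ H) (hS.pg.to_le inf_le_left)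
  obtain ⟨T, hT0T, hT⟩ := exists_syl (p := p) (⊤ : Subgroup G) le_top hT0.pg
  obtain ⟨x, hx, hxT⟩ := rec' T hT (hgrow.trans_le (Subgroup.card_le_of_le (le_inf inf_le_left (hST0.trans hT0T))))
  have hDT : D ≤ S ⊓ T := le_inf hDlt.le ((le_inf hDlt.le Subgroup.le_normalizer).trans (hST0.trans hT0T))
  have hxD : Ch p S D x := hx.mono hDT
  set R' := cj x⁻¹ R with hR'
  set D' := cj x⁻¹ D with hD'
  have hD'le : D' ≤ S ⊓ R' := le_inf ((cj_mono _ (hDT.trans inf_le_right)).trans hxT.le) (cj_mono _ inf_le_right)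
  have finish : ∀ y, Ch p S D' y → Nat.card D < Nat.card ↥(S ⊓ cj y⁻¹ R') →
      ∃ w, Ch p S D w ∧ cj w⁻¹ R = S := by
    intro y hy hlt
    obtain ⟨z, hz, hzR⟩ := rec' _ (hcjSyl _ _ (hcjSyl _ _ hR)) hlt
    have h1 : Ch p S D (x * y) := hxD.trans hy
    refine ⟨x * y * z, h1.trans (hz.mono ?_), by rw [mul_inv_rev, cj_mul, mul_inv_rev, cj_mul]; exact hzR⟩
    rw [mul_inv_rev, cj_mul]
    refine le_inf ?_ (cj_mono _ (hD'le.trans inf_le_right))
    have : ∀ {A : Subgroup G} {g : G}, Ch p S A g → A ≤ S → cj g⁻¹ A ≤ S := by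
      intro A g h
      induction h with
      | one A => intro h; rwa [inv_one, cj_one]
      | @step A x g R hR hA _ ih2 =>
        intro _
        rw [mul_inv_rev, cj_mul]
        exact ih2 ((cj_mono _ hA).trans ((mem_normalizer_iff_cj.1 (inv_mem hR.2.1)).le.trans inf_le_left))
    exact this hy (hD'le.trans inf_le_left)
  by_cases hbig : Nat.card D < Nat.card ↥(S ⊓ R')
  · refine finish 1 (Ch.one _) ?_
    rwa [inv_one, cj_one]
  have hD'eq : D' = S ⊓ R' := Subgroup.eq_of_le_of_card_ge hD'le (by rw [hD', card_cj]; exact not_lt.mp hbig)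
  set H' := Subgroup.normalizer (D' : Set G) with hH'
  have hH'cj : H' = cj x⁻¹ H := by rw [hH', hH, cj_normalizer]
  have hSH' : Syl p (S ⊓ H') H' := by
    have h1 : Syl p (cj x⁻¹ T0) H' := hH'cj ▸ hT0.conj x⁻¹
    refine h1.of_card_le inf_le_right (hS.pg.to_le inf_le_left) (Subgroup.card_le_of_le (le_inf ?_ h1.le))
    exact (cj_mono _ hT0T).trans hxT.le
  have hR'syl := hcjSyl x⁻¹ R hR
  have hD'R : D' < R' := lt_of_le_of_ne (hD'le.trans inf_le_right) fun e => by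
    have h1 := hcardSyl R' hR'syl
    rw [← e, hD', card_cj] at h1
    exact (hltcard hDlt).ne h1
  have hgrow' := hltcard (lt_inf_normalizer hR'syl.pg hD'R)
  rw [hD', card_cj] at hgrow'
  obtain ⟨T20, hRT20, hT20⟩ := exists_syl (p := p) H' (inf_le_right : R' ⊓ H' ≤ H') (hR'syl.pg.to_le inf_le_left)
  obtain ⟨T2, hT20T2, hT2⟩ := exists_syl (p := p) (⊤ : Subgroup G) le_top hT20.pg
  have hD'T2 : D' ≤ S ⊓ T2 := le_inf (hD'le.trans inf_le_left)
    ((le_inf (hD'le.trans inf_le_right) Subgroup.le_normalizer).trans (hRT20.trans hT20T2))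
  by_cases hbig2 : Nat.card D < Nat.card ↥(S ⊓ T2)
  · obtain ⟨z, hz, hzT⟩ := rec' T2 hT2 hbig2
    refine finish z (hz.mono hD'T2) (hgrow'.trans_le ?_)
    rw [← card_cj z⁻¹ (R' ⊓ H')]
    exact Subgroup.card_le_of_le (le_inf ((cj_mono _ (hRT20.trans hT20T2)).trans hzT.le) (cj_mono _ inf_le_left))
  have heq : S ⊓ T2 = D' := (Subgroup.eq_of_le_of_card_ge hD'T2 (by rw [hD', card_cj]; exact not_lt.mp hbig2)).symm
  have hT2H : T2 ⊓ H' = T20 :=
    hT20.eq_of_le (le_inf hT20T2 hT20.le) inf_le_right (hT2.pg.to_le inf_le_left)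
  set K := Subgroup.closure {u : G | u ∈ H' ∧ ∃ k, orderOf u = p ^ k} with hK
  have hKH : K ≤ H' := (Subgroup.closure_le _).mpr fun u hu => hu.1
  have hKn : H' ≤ Subgroup.normalizer (K : Set G) := by
    intro h hh
    rw [mem_normalizer_iff_cj]
    refine Subgroup.eq_of_le_of_card_ge ?_ (card_cj h K).ge
    show K.map (MulAut.conj h).toMonoidHom ≤ K
    rw [hK, MonoidHom.map_closure]
    refine Subgroup.closure_mono ?_
    rintro _ ⟨u, ⟨huH, k, hk⟩, rfl⟩
    exact ⟨H'.mul_mem (H'.mul_mem hh huH) (H'.inv_mem hh), k,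
      (orderOf_injective (MulAut.conj h).toMonoidHom (MulAut.conj h).injective u).trans hk⟩
  have hch : ∀ k ∈ K, Ch p S D' k ∧ Ch p S D' k⁻¹ := by
    have hone : ∀ u ∈ H', (∃ k, orderOf u = p ^ k) → Ch p S D' u := fun u hu hk => by
      have := Ch.step (p := p) (S := S) (A := D') (x := u) (g := 1) T2
        ⟨hT2, by rw [heq]; exact hu, by rw [heq]; exact hSH'.idx, by rw [heq, hT2H]; exact hT20.idx, Or.inr hk⟩ heq.ge (Ch.one _)
      rwa [mul_one] at this
    intro k hk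
    induction hk using Subgroup.closure_induction with
    | mem u hu => exact ⟨hone u hu.1 hu.2, hone _ (H'.inv_mem hu.1) (by rw [orderOf_inv]; exact hu.2)⟩
    | one => exact ⟨Ch.one _, by rw [inv_one]; exact Ch.one _⟩
    | mul a b ha hb iha ihb =>
      refine ⟨iha.1.trans ?_, ?_⟩
      · rw [mem_normalizer_iff_cj.1 (hKH (K.inv_mem ha))]; exact ihb.1
      · rw [mul_inv_rev]
        refine ihb.2.trans ?_
        rw [inv_inv, mem_normalizer_iff_cj.1 (hKH hb)]; exact iha.2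
    | inv a _ iha => exact ⟨iha.2, by rw [inv_inv]; exact iha.1⟩
  obtain ⟨g, hg, hgT⟩ := hSH'.exists_conj_le hT20.le hT20.pg
  have hT20K : T20 ⊓ K = T20 := inf_eq_left.mpr fun u hu => Subgroup.subset_closure
    ⟨hT20.le hu, by
      obtain ⟨k, hk⟩ := IsPGroup.iff_orderOf.mp hT20.pg ⟨u, hu⟩
      exact ⟨k, by rw [← hk, Subgroup.orderOf_mk]⟩⟩
  obtain ⟨n, hn, k, hk, rfl⟩ := frattini (N := K) hT20 hKn hg
  rw [hT20K] at hk
  rw [cj_mul, mem_normalizer_iff_cj.1 hk.2] at hgT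
  refine finish n⁻¹ (hch _ (K.inv_mem hn.2)).1 (hgrow'.trans_le ?_)
  rw [inv_inv, ← card_cj n (R' ⊓ H')]
  exact Subgroup.card_le_of_le (le_inf ((cj_mono _ hRT20).trans (hgT.trans inf_le_left)) (cj_mono _ inf_le_left))

end Cfsg.Agent.S2012

namespace Cfsg.Agent.S2012

/-- Alperin's fusion Theorem with the factors taken to be p-elements: let P be a Sylow p-subgroup of a finite group G, A a subset of P and g an element with g⁻¹Ag ⊆ P. Then g = x_1 ⋯ x_n where, for each i, Q_i is a Sylow p-subgroup with P ∩ Q_i a tame intersection (the normalizers in P and in Q_i of P ∩ Q_i are Sylow in N_G(P ∩ Q_i)), x_i normalizes P ∩ Q_i, x_i has p-power order unless Q_i = P, A ⊆ P ∩ Q_1, and (x_1 ⋯ x_i)⁻¹ A (x_1 ⋯ x_i) lies in P ∩ Q_{i+1} for i < n. -/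
theorem result {G : Type*} [Group G] [Finite G] {p : ℕ} [Fact p.Prime] (P : Sylow p G) (A : Set G) (g : G) (hA : A ⊆ (P : Set G)) (hAg : (fun a => g⁻¹ * a * g) '' A ⊆ (P : Set G)) : ∃ (n : ℕ) (Q : Fin n → Sylow p G) (x : Fin n → G), (List.ofFn x).prod = g ∧ (∀ i : Fin n, x i ∈ Subgroup.normalizer ((((P : Subgroup G) ⊓ (Q i : Subgroup G)) : Subgroup G) : Set G) ∧ ¬ p ∣ ((P : Subgroup G) ⊓ Subgroup.normalizer ((((P : Subgroup G) ⊓ (Q i : Subgroup G)) : Subgroup G) : Set G)).relIndex (Subgroup.normalizer ((((P : Subgroup G) ⊓ (Q i : Subgroup G)) : Subgroup G) : Set G)) ∧ ¬ p ∣ ((Q i : Subgroup G) ⊓ Subgroup.normalizer ((((P : Subgroup G) ⊓ (Q i : Subgroup G)) : Subgroup G) : Set G)).relIndex (Subgroup.normalizer ((((P : Subgroup G) ⊓ (Q i : Subgroup G)) : Subgroup G) : Set G)) ∧ ((Q i : Subgroup G) = (P : Subgroup G) ∨ ∃ k : ℕ, orderOf (x i) = p ^ k)) ∧ (∀ h : 0 < n, A ⊆ (((P : Subgroup G) ⊓ (Q ⟨0, h⟩ : Subgroup G) : Subgroup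 G) : Set G)) ∧ ∀ i : Fin n, ∀ h : i.val + 1 < n, (fun a => (((List.ofFn x).take (i.val + 1)).prod)⁻¹ * a * ((List.ofFn x).take (i.val + 1)).prod) '' A ⊆ (((P : Subgroup G) ⊓ (Q ⟨i.val + 1, h⟩ : Subgroup G) : Subgroup G) : Set G) := by
  classical
  open CfsgLib.Glau in
  have hS := CfsgLib.Glau.syl_top P
  obtain ⟨x, hx, hxR⟩ := exists_chain hS _ (by
    have := hS.conj g
    rwa [CfsgLib.Glau.cj_eq_of_mem (Subgroup.mem_top g)] at this)
  set B := Subgroup.closure A with hB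
  have hBle : B ≤ (P : Subgroup G) ⊓ CfsgLib.Glau.cj g (P : Subgroup G) := by
    rw [hB, Subgroup.closure_le]
    exact fun a ha => ⟨hA ha, CfsgLib.Glau.mem_cj.mpr (hAg ⟨a, ha, rfl⟩)⟩
  have hn : x⁻¹ * g ∈ Subgroup.normalizer ((P : Subgroup G) : Set G) := by
    rw [CfsgLib.Glau.mem_normalizer_iff_cj, CfsgLib.Glau.cj_mul, hxR]
  have hfin : Ch p (P : Subgroup G) (CfsgLib.Glau.cj x⁻¹ B) (x⁻¹ * g) := by
    have hle : CfsgLib.Glau.cj x⁻¹ B ≤ (P : Subgroup G) ⊓ (P : Subgroup G) := by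
      rw [inf_idem]
      exact (CfsgLib.Glau.cj_mono _ (hBle.trans inf_le_right)).trans hxR.le
    have hid : ¬ p ∣ ((P : Subgroup G) ⊓ Subgroup.normalizer ((P : Subgroup G) : Set G)).relIndex
        (Subgroup.normalizer ((P : Subgroup G) : Set G)) := by
      rw [inf_eq_left.mpr Subgroup.le_normalizer]
      exact (hS.mono Subgroup.le_normalizer le_top).idx
    have := Ch.step (p := p) (S := (P : Subgroup G)) (x := x⁻¹ * g) (g := 1) (P : Subgroup G)
      ⟨hS, by rw [inf_idem]; exact hn, by rw [inf_idem]; exact hid, by rw [inf_idem]; exact hid, Or.inl rfl⟩ hle (Ch.one _)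
    rwa [mul_one] at this
  have hch : Ch p (P : Subgroup G) B g := by
    have := (hx.mono hBle).trans hfin
    rwa [mul_inv_cancel_left] at this
  -- unfold the chain
  suffices key : ∀ (B : Subgroup G) (g : G), Ch p (P : Subgroup G) B g →
      ∃ (n : ℕ) (Q : Fin n → Sylow p G) (x : Fin n → G), (List.ofFn x).prod = g ∧
        (∀ i, Adm p (P : Subgroup G) (Q i : Subgroup G) (x i)) ∧
        ∀ i : Fin n, CfsgLib.Glau.cj (((List.ofFn x).take i.val).prod)⁻¹ B ≤ (P : Subgroup G) ⊓ (Q i : Subgroup G) by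
    obtain ⟨n, Q, y, hy, hadm, hin⟩ := key B g hch
    refine ⟨n, Q, y, hy, fun i => ?_, fun h a ha => ?_, fun i h => ?_⟩
    · obtain ⟨-, h1, h2, h3, h4⟩ := hadm i
      exact ⟨h1, h2, h3, h4⟩
    · refine hin ⟨0, h⟩ (CfsgLib.Glau.mem_cj.mpr ?_)
      simpa using Subgroup.subset_closure ha
    · rintro _ ⟨a, ha, rfl⟩
      refine hin ⟨i.val + 1, h⟩ (CfsgLib.Glau.mem_cj.mpr ?_)
      simpa [mul_assoc] using Subgroup.subset_closure ha
  intro B g hch
  induction hch with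
  | one B => exact ⟨0, Fin.elim0, Fin.elim0, by simp, fun i => i.elim0, fun i => i.elim0⟩
  | @step A x g R hR hA _ ih =>
    obtain ⟨n, Q, y, hy, hadm, hin⟩ := ih
    obtain ⟨R0, hR0⟩ : ∃ R0 : Sylow p G, (R0 : Subgroup G) = R := by
      obtain ⟨R0, hR0⟩ := hR.1.pg.exists_le_sylow
      exact ⟨R0, hR.1.eq_of_le hR0 le_top R0.isPGroup'⟩
    refine ⟨n + 1, Fin.cons R0 Q, Fin.cons x y, by simp [hy], fun i => ?_, fun i => ?_⟩
    · refine Fin.cases ?_ (fun j => ?_) i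
      · simp only [Fin.cons_zero, hR0]; exact hR
      · simpa using hadm j
    · refine Fin.cases ?_ (fun j => ?_) i
      · simp only [Fin.cons_zero, Fin.val_zero, List.take_zero, List.prod_nil, inv_one, CfsgLib.Glau.cj_one, hR0]
        exact hA
      · simp only [Fin.cons_succ, Fin.val_succ, List.ofFn_succ, Fin.cons_zero, List.take_succ_cons, List.prod_cons,
          mul_inv_rev]
        rw [CfsgLib.Glau.cj_mul]
        exact hin j

end Cfsg.Agent.S2012
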