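import Cfsg.Statements.S2014
import Cfsg.Agent.Fus.FunctorFamily
import Cfsg.Agent.Inv.PClosed
import Cfsg.Agent.Inv.Transfer

set_option autoImplicit false
open Cfsg

namespace Cfsg.Agent.S2014

/-- Let P be a Sylow p-subgroup of a finite group G and A, C ≤ P subgroups conjugate in G, with C extremal: N_P(C) is a Sylow p-subgroup of N_G(C). Then there is g with gAg⁻¹ = C and g N_P(A) g⁻¹ ≤ N_P(C); moreover, given any h with hAh⁻¹ = C, g can be chosen so that h g⁻¹ lies in O^p(N_G(C)), the subgroup of N_G(C) generated by its elements of order prime to p. -/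
theorem result {G : Type*} [Group G] [Finite G] (p : ℕ) [Fact p.Prime] (P : Sylow p G) (A C : Subgroup G) (hA : A ≤ P) (hC : C ≤ P) (hext : ¬ p ∣ ((P : Subgroup G) ⊓ Subgroup.normalizer ((C : Subgroup G) : Set G)).relIndex (Subgroup.normalizer ((C : Subgroup G) : Set G))) (h : G) (hh : A.map (MulAut.conj h).toMonoidHom = C) : ∃ g : G, A.map (MulAut.conj g).toMonoidHom = C ∧ ((P : Subgroup G) ⊓ Subgroup.normalizer ((A : Subgroup G) : Set G)).map (MulAut.conj g).toMonoidHom ≤ (P : Subgroup G) ⊓ Subgroup.normalizer ((C : Subgroup G) : Set G) ∧ h * g⁻¹ ∈ (Cfsg.pResidual p ↥(Subgroup.normalizer ((C : Subgroup G) : Set G))).map (Subgroup.normalizer ((C : Subgroup G) : Set G)).subtype := by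
  subst hh
  set C := A.map (MulAut.conj h).toMonoidHom with hC'
  set K := Subgroup.normalizer (C : Set G) with hK
  have hs : CfsgLib.Glau.Syl p ((P : Subgroup G) ⊓ K) K := ⟨inf_le_right, P.isPGroup'.to_le inf_le_left, hext⟩
  have hQ : CfsgLib.Glau.cj h ((P : Subgroup G) ⊓ Subgroup.normalizer (A : Set G)) ≤ K :=
    (CfsgLib.Glau.cj_mono h inf_le_right).trans (CfsgLib.Glau.cj_normalizer h A).le
  obtain ⟨m, hm, hmle⟩ := hs.exists_conj_le hQ (CfsgLib.Glau.isPGroup_cj h (P.isPGroup'.to_le inf_le_left))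
  haveI : (Cfsg.pResidual p ↥K).Normal := CfsgLib.Inv.pResidual_normal p ↥K
  have htop : (⟨m, hm⟩ : ↥K) ∈ (hs.toSylow : Subgroup ↥K) ⊔ Cfsg.pResidual p ↥K := by
    rw [sup_comm, CfsgLib.Inv.pResidual_sup_sylow]
    trivial
  obtain ⟨q, hq, r, hr, hqr⟩ := Subgroup.mem_sup_of_normal_right.1 htop
  rw [hs.coe_toSylow, Subgroup.mem_subgroupOf] at hq
  have hm' : m = (q : G) * r := congrArg Subtype.val hqr.symm
  refine ⟨(r : G) * h, ?_, ?_, ?_⟩
  · show CfsgLib.Glau.cj ((r : G) * h) A = C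
    rw [CfsgLib.Glau.cj_mul]
    exact CfsgLib.Glau.mem_normalizer_iff_cj.1 r.2
  · show CfsgLib.Glau.cj ((r : G) * h) _ ≤ (P : Subgroup G) ⊓ K
    rw [show (r : G) * h = (q : G)⁻¹ * (m * h) by rw [hm']; group, CfsgLib.Glau.cj_mul,
      ← CfsgLib.Glau.cj_eq_of_mem (inv_mem hq), CfsgLib.Glau.cj_mul]
    exact CfsgLib.Glau.cj_mono _ hmle
  · exact ⟨r⁻¹, inv_mem hr, by simp [mul_assoc]⟩

end Cfsg.Agent.S2014
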