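import Cfsg.Statements.S2015
import Cfsg.Agent.Fus.TransferK

set_option autoImplicit false
universe u
open Cfsg

namespace Cfsg.Agent.S2015

/-- For p ≥ 5, every finite p-group P has a characteristic subgroup K containing Z(P), depending only on P, whose normalizer controls transfer wherever P is a Sylow subgroup: for every finite group G and every embedding ι of P onto a Sylow p-subgroup of G, the intersection of ι(P) with the derived subgroup of G equals its intersection with the derived subgroup of N_G(ι(K)). -/
theorem result (p : ℕ) [Fact p.Prime] (hp : 5 ≤ p) (P : Type u) [Group P] [Finite P] (hP : IsPGroup p P) : ∃ K : Subgroup P, K.Characteristic ∧ Subgroup.center P ≤ K ∧ ∀ (G : Type u) [Group G] [Finite G] (ι : P →* G), Function.Injective ι → (∃ T : Sylow p G, (T : Subgroup G) = ι.range) → ι.range ⊓ commutator G = ι.range ⊓ (commutator ↥(Subgroup.normalizer ((K.map ι : Subgroup G) : Set G))).map (Subgroup.normalizer ((K.map ι : Subgroup G) : Set G)).subtype := by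
  haveI : Group.IsNilpotent P := hP.isNilpotent
  refine ⟨Cfsg.kInfLower P, CfsgLib.KInf.kInf_char.1, CfsgLib.KInf.center_le_kInf.1, fun G _ _ ι hι hT => ?_⟩
  obtain ⟨T, hT⟩ := hT
  have h := CfsgLib.Glau.tra_eq ((CfsgLib.Glau.kInf_transfer hp).1 G (CfsgLib.Glau.isSec_self G) ⊤
    (T : Subgroup G) (CfsgLib.Glau.syl_top T))
  have he : Cfsg.inducedFunctor Cfsg.kInfLower ι.range = (Cfsg.kInfLower P).map ι := by
    rw [MonoidHom.range_eq_map, CfsgLib.Glau.ind_map (CfsgLib.KInf.isCharPFunctor_lower p) ι
      (hP.to_subgroup ⊤) hι.injOn]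
    congr 1
    exact (CfsgLib.KInf.kInf_map_equiv (Subgroup.topEquiv (G := P))).1
  rw [hT, he] at h
  rw [h, Subgroup.map_subtype_commutator]

end Cfsg.Agent.S2015
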