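import Cfsg.Statements.S2222
import Cfsg.Agent.Perm.SylowSym
import Cfsg.Agent.Perm.ClassSize

set_option autoImplicit false
set_option linter.style.haveILetI false
open Cfsg

namespace Cfsg.Agent.S2222

--- pre
open scoped Pointwise

/-- A subgroup containing a Sylow subgroup whose normaliser normalises it is pronormal. -/
theorem pronormal_of_sylow {G : Type*} [Group G] [Finite G] {p : ℕ} [Fact p.Prime] (H : Subgroup G)
    (S : Sylow p G) (hSH : (S : Subgroup G) ≤ H)
    (hN : Subgroup.normalizer ((S : Subgroup G) : Set G) ≤ Subgroup.normalizer (H : Set G)) :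
    Cfsg.IsPronormal H := by
  intro g
  rw [← CfsgLib.Solv.conj_smul_eq_map]
  set K := H ⊔ MulAut.conj g • H with hK
  have hS : (S : Subgroup G) ≤ K := hSH.trans le_sup_left
  have hgS : ((g • S : Sylow p G) : Subgroup G) ≤ K :=
    le_sup_right.trans' (Subgroup.pointwise_smul_le_pointwise_smul_iff.2 hSH)
  obtain ⟨⟨x, hx⟩, hxS⟩ := MulAction.exists_smul_eq K (S.subtype hS) ((g • S).subtype hgS)
  refine ⟨x, hx, ?_⟩
  rw [← CfsgLib.Solv.conj_smul_eq_map]
  have h1 : x • S = g • S := by
    refine Sylow.subtype_injective (hP := ?_) (hQ := hgS) ?_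
    · intro z hz
      rw [Sylow.coe_subgroup_smul, Subgroup.mem_pointwise_smul_iff_inv_smul_mem, ← map_inv,
        MulAut.smul_def, MulAut.conj_apply, inv_inv] at hz
      have := K.mul_mem (K.mul_mem hx (hS hz)) (K.inv_mem hx)
      simpa [mul_assoc] using this
    · rw [← hxS, Sylow.smul_subtype]
      rfl
  have h3 : x⁻¹ * g ∈ Subgroup.normalizer ((S : Subgroup G) : Set G) := by
    refine Sylow.smul_eq_iff_mem_normalizer.1 ?_
    rw [mul_smul, ← h1, inv_smul_smul]
  have h4 := CfsgLib.Solv.conj_smul_eq_self_of_mem_normalizer (hN h3)
  calc MulAut.conj g • H = MulAut.conj x • MulAut.conj (x⁻¹ * g) • H := by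
        rw [← mul_smul, ← map_mul, mul_inv_cancel_left]
    _ = _ := by rw [h4]

/-- In a simple group of order 60 without elements of order 6 a subgroup of odd index is
normalised by the normaliser of its Sylow 2-subgroup. -/
theorem normalizer_le_five {G : Type*} [Group G] [Finite G] [IsSimpleGroup G] (hG : Nat.card G = 60)
    (hkey : ∀ a b : G, a * b = b * a → a ^ 4 = 1 → b ^ 3 = 1 → a = 1 ∨ b = 1)
    (H : Subgroup G) (S : Sylow 2 G) (hSH : (S : Subgroup G) ≤ H) :
    Subgroup.normalizer ((S : Subgroup G) : Set G) ≤ Subgroup.normalizer (H : Set G) := by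
  haveI : Fact (Nat.Prime 2) := ⟨Nat.prime_two⟩
  haveI : Fact (Nat.Prime 3) := ⟨Nat.prime_three⟩
  have hScard : Nat.card (S : Subgroup G) = 4 := by
    rw [Sylow.card_eq_multiplicity, hG, show Nat.factorization 60 2 = 2 by
      rw [show (60 : ℕ) = 2 ^ 2 * 15 by norm_num, Nat.factorization_mul (by norm_num) (by norm_num),
        Finsupp.add_apply, Nat.Prime.factorization_pow Nat.prime_two, Finsupp.single_eq_same,
        Nat.factorization_eq_zero_of_not_dvd (by norm_num : ¬ 2 ∣ 15)]]
    norm_num
  obtain ⟨k, hk⟩ : 4 ∣ Nat.card H := hScard ▸ Subgroup.card_dvd_of_le hSH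
  have hk15 : k ∣ 15 := by
    have h := H.card_subgroup_dvd_card
    rw [hk, hG] at h
    exact Nat.dvd_of_mul_dvd_mul_left (by norm_num : 0 < 4) (by simpa using h)
  have hkpos : k ∈ Nat.divisors 15 := Nat.mem_divisors.2 ⟨hk15, by norm_num⟩
  rw [show Nat.divisors 15 = {1, 3, 5, 15} by decide] at hkpos
  simp only [Finset.mem_insert, Finset.mem_singleton] at hkpos
  rcases hkpos with rfl | rfl | rfl | rfl
  · -- `H = S`
    rw [← Subgroup.eq_of_le_of_card_ge hSH (by rw [hScard, hk])]
  · -- order 12
    have hNe : H ≤ Subgroup.normalizer ((S : Subgroup G) : Set G) := by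
      set S' := S.subtype hSH
      have hS' : (S' : Subgroup H).Normal := by
        by_contra hnn
        haveI := Fact.mk Nat.prime_three
        obtain ⟨T⟩ := (inferInstance : Nonempty (Sylow 3 H))
        have hTcard : Nat.card (T : Subgroup H) = 3 := by
          rw [Sylow.card_eq_multiplicity, hk, show Nat.factorization (4 * 3) 3 = 1 by
            rw [Nat.factorization_mul (by norm_num) (by norm_num), Finsupp.add_apply,
              Nat.Prime.factorization_self Nat.prime_three,
              Nat.factorization_eq_zero_of_not_dvd (by norm_num : ¬ 3 ∣ 4)]]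
          norm_num
        have hS'card : Nat.card (S' : Subgroup H) = 4 := by
          rw [Sylow.coe_subtype, CfsgLib.Solv.card_subgroupOf hSH, hScard]
        by_cases hTn : (T : Subgroup H).Normal
        · haveI := hTn
          obtain ⟨⟨u, hu⟩, huo⟩ := exists_prime_orderOf_dvd_card' (G := (T : Subgroup H)) 3 (by rw [hTcard])
          rw [Subgroup.orderOf_mk] at huo
          set C := Subgroup.centralizer ({u} : Set H)
          -- some involution centralises `u`
          obtain ⟨s, hs, hs1, hsu⟩ : ∃ s ∈ (S' : Subgroup H), s ≠ 1 ∧ s * u = u * s := by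
            by_contra hcon
            push Not at hcon
            have hzp : (T : Subgroup H) = Subgroup.zpowers u := (Subgroup.eq_of_le_of_card_ge
              (Subgroup.zpowers_le.2 hu) (by rw [Nat.card_zpowers, huo, hTcard])).symm
            -- conjugation of `u` gives an injection of `S'` into the non-trivial elements of `T`
            let F : ↥((S' : Subgroup H)) → {v : ↥((T : Subgroup H)) // v ≠ 1} := fun s =>
              ⟨⟨(s : H) * u * (s : H)⁻¹, Subgroup.Normal.conj_mem hTn u hu _⟩, fun h => by
                have := congrArg Subtype.val h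
                simp only [Subgroup.coe_one, conj_eq_one_iff] at this
                rw [this, orderOf_one] at huo
                omega⟩
            have hF : Function.Injective F := by
              intro s t h
              have h1 : (s : H) * u * (s : H)⁻¹ = (t : H) * u * (t : H)⁻¹ :=
                congrArg (fun v => ((v.1 : (T : Subgroup H)) : H)) h
              by_contra hne
              refine hcon ((t⁻¹ * s : (S' : Subgroup H)) : H) (t⁻¹ * s).2 ?_ ?_
              · intro he
                exact hne (inv_mul_eq_one.1 (Subtype.ext he)).symm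
              · rw [Subgroup.coe_mul, Subgroup.coe_inv]
                calc (t : H)⁻¹ * s * u = (t : H)⁻¹ * ((s : H) * u * (s : H)⁻¹) * s := by group
                  _ = u * ((t : H)⁻¹ * s) := by rw [h1]; group
            have h := Nat.card_le_card_of_injective F hF
            have h2 : Nat.card {v : (T : Subgroup H) // v ≠ 1} < Nat.card (T : Subgroup H) :=
              Finite.card_subtype_lt (x := (1 : (T : Subgroup H))) (by simp)
            omega
          have hs2 : orderOf s ∣ 4 := hS'card ▸ Subgroup.orderOf_dvd_natCard _ hs
          rcases hkey (s : G) (u : G) (congrArg Subtype.val hsu)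
            (congrArg Subtype.val (orderOf_dvd_iff_pow_eq_one.1 hs2))
            (congrArg Subtype.val (huo ▸ pow_orderOf_eq_one u)) with h | h
          · exact hs1 (Subtype.ext h)
          · rw [show u = 1 from Subtype.ext h, orderOf_one] at huo; omega
        · -- four Sylow 3-subgroups leave only four further elements
          classical
          haveI := Fintype.ofFinite H
          have hn3 : 4 ≤ Nat.card (Sylow 3 H) := by
            have h1 : Nat.card (Sylow 3 H) ≠ 1 := fun h => hTn (by
              haveI := (Nat.card_eq_one_iff_unique.1 h).1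
              exact T.normal_of_subsingleton)
            have h2 := card_sylow_modEq_one 3 H
            have h3 : 0 < Nat.card (Sylow 3 H) := Nat.card_pos
            rw [Nat.ModEq] at h2
            omega
          have hSmem : ∀ Q : Sylow 2 H, ∀ y ∈ (Q : Subgroup H), orderOf y ≠ 3 := by
            intro Q y hy h
            obtain ⟨i, hi⟩ := Q.2 ⟨y, hy⟩
            have : orderOf y ∣ 2 ^ i := orderOf_dvd_of_pow_eq_one (congrArg Subtype.val hi)
            rw [h] at this
            exact absurd (Nat.Prime.dvd_of_dvd_pow Nat.prime_three this) (by norm_num)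
          have hT3 : ∀ Q : Sylow 3 H, Nat.card (Q : Subgroup H) = 3 := fun Q =>
            (Nat.card_congr (Q.equiv T).toEquiv).trans hTcard
          let F : Sylow 3 H × {i : Fin 3 // i ≠ 0} → {y : H // orderOf y = 3} := fun z =>
            ⟨((Classical.choose (exists_prime_orderOf_dvd_card' (G := (z.1 : Subgroup H)) 3
              (hT3 z.1).symm.dvd) : (z.1 : Subgroup H)) : H) ^ (z.2.1 : ℕ), by
              have h := Classical.choose_spec (exists_prime_orderOf_dvd_card' (G := (z.1 : Subgroup H)) 3
                (hT3 z.1).symm.dvd)
              rw [Nat.Coprime.orderOf_pow, Subgroup.orderOf_coe, h]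
              rw [Subgroup.orderOf_coe, h]
              obtain ⟨⟨i, hi⟩, hi0⟩ := z.2
              refine Nat.prime_three.coprime_iff_not_dvd.2 fun hd => hi0 (Fin.ext ?_)
              exact Nat.eq_zero_of_dvd_of_lt hd hi⟩
          have hF : Function.Injective F := by
            rintro ⟨Q, i⟩ ⟨R, j⟩ h
            have hQR : Q = R := by
              apply Sylow.ext
              have hz : ∀ (Q : Sylow 3 H) (y : H), y ∈ (Q : Subgroup H) → orderOf y = 3 →
                  Subgroup.zpowers y = Q := fun Q y hy ho => Subgroup.eq_of_le_of_card_ge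
                    (Subgroup.zpowers_le.2 hy) (by rw [Nat.card_zpowers, ho, hT3 Q])
              have e1 := hz Q _ (pow_mem (Classical.choose (exists_prime_orderOf_dvd_card'
                (G := (Q : Subgroup H)) 3 (hT3 Q).symm.dvd)).2 _) (F ⟨Q, i⟩).2
              have e2 := hz R _ (pow_mem (Classical.choose (exists_prime_orderOf_dvd_card'
                (G := (R : Subgroup H)) 3 (hT3 R).symm.dvd)).2 _) (F ⟨R, j⟩).2
              rw [← e1, ← e2]
              exact congrArg (fun y : {y : H // orderOf y = 3} => Subgroup.zpowers (y : H)) h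
            subst hQR
            have hij : (i.1 : ℕ) = j.1 := by
              have h1 := congrArg Subtype.val h
              have ho := Classical.choose_spec (exists_prime_orderOf_dvd_card'
                (G := (Q : Subgroup H)) 3 (hT3 Q).symm.dvd)
              rw [← Subgroup.orderOf_coe] at ho
              exact pow_injOn_Iio_orderOf (by rw [ho]; exact i.1.2) (by rw [ho]; exact j.1.2) h1
            rw [Subtype.ext (Fin.ext hij) (a1 := i) (a2 := j)]
          have h8 : 8 ≤ Nat.card {y : H // orderOf y = 3} := by
            refine le_trans ?_ (Nat.card_le_card_of_injective F hF)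
            rw [Nat.card_prod, Nat.card_eq_fintype_card (α := {i : Fin 3 // i ≠ 0}),
              show Fintype.card {i : Fin 3 // i ≠ 0} = 2 by decide]
            omega
          have hrest : Nat.card {y : H // orderOf y ≠ 3} ≤ 4 := by
            have h := Nat.card_congr (Equiv.sumCompl fun y : H => orderOf y = 3)
            rw [Nat.card_sum, hk] at h
            change Nat.card {y : H // ¬ orderOf y = 3} ≤ 4
            omega
          apply hnn
          haveI : Subsingleton (Sylow 2 H) := by
            refine ⟨fun Q R => Sylow.ext ?_⟩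
            have key : ∀ Q : Sylow 2 H, ((Q : Subgroup H) : Set H) = {y | orderOf y ≠ 3} := fun Q => by
              refine Set.eq_of_subset_of_ncard_le (hSmem Q) ?_ (Set.toFinite _)
              show Nat.card {y : H // orderOf y ≠ 3} ≤ Nat.card (Q : Subgroup H)
              refine hrest.trans ?_
              rw [← hS'card, Sylow.card_eq_multiplicity, Sylow.card_eq_multiplicity]
            exact SetLike.coe_injective ((key Q).trans (key R).symm)
          exact S'.normal_of_subsingleton
      exact (Subgroup.normal_subgroupOf_iff_le_normalizer hSH).1 (by rw [← Sylow.coe_subtype]; exact hS')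
    -- the normaliser of `S` has order 12, so it is `H`
    have hNcard : Nat.card (Subgroup.normalizer ((S : Subgroup G) : Set G)) ≤ 12 := by
      set N := Subgroup.normalizer ((S : Subgroup G) : Set G) with hN
      obtain ⟨j, hj⟩ : 12 ∣ Nat.card N := by
        have := Subgroup.card_dvd_of_le hNe
        rwa [hk] at this
      have hd := N.card_subgroup_dvd_card
      rw [hj, hG] at hd
      have hj5 : j ∣ 5 := Nat.dvd_of_mul_dvd_mul_left (by norm_num : 0 < 12) (by simpa using hd)
      rcases (Nat.dvd_prime (by norm_num : Nat.Prime 5)).1 hj5 with rfl | rfl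
      · rw [hj]
      · exfalso
        have htop : N = ⊤ := Subgroup.eq_top_of_card_eq _ (by rw [hj, hG])
        haveI : (S : Subgroup G).Normal := Subgroup.normalizer_eq_top_iff.1 htop
        rcases IsSimpleGroup.eq_bot_or_eq_top_of_normal (S : Subgroup G) inferInstance with h | h
        · rw [h, Subgroup.card_bot] at hScard; omega
        · rw [h, Subgroup.card_top, hG] at hScard; omega
    rw [← Subgroup.eq_of_le_of_card_ge hNe (by rw [hk]; exact hNcard)]
    exact Subgroup.le_normalizer
  · -- order 20
    exfalso
    have hidx : H.index = 3 := by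
      have h := H.card_mul_index
      rw [hk, hG] at h
      omega
    have hker : H.normalCore = ⊥ := by
      rcases IsSimpleGroup.eq_bot_or_eq_top_of_normal H.normalCore inferInstance with h | h
      · exact h
      · have : H = ⊤ := top_le_iff.1 (h ▸ H.normalCore_le)
        rw [this, Subgroup.index_top] at hidx
        omega
    have h2 : Nat.card G ∣ Nat.card (Equiv.Perm (G ⧸ H)) :=
      Subgroup.card_dvd_of_injective (MulAction.toPermHom G (G ⧸ H))
        ((MonoidHom.ker_eq_bot_iff _).1 (by rw [← Subgroup.normalCore_eq_ker, hker]))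
    rw [hG, Nat.card_perm, ← Subgroup.index_eq_card, hidx] at h2
    norm_num [Nat.factorial] at h2
  · rw [Subgroup.eq_top_of_card_eq H (by rw [hk, hG])]
    exact le_top.trans (Subgroup.le_normalizer (H := (⊤ : Subgroup G)))

/-- In the alternating group of degree n ≥ 5 every subgroup H of odd index is pronormal: for every element g, the subgroups H and gHg⁻¹ are conjugate by an element of the subgroup they generate. -/
theorem result (n : ℕ) (hn : 5 ≤ n)
    (H : Subgroup (alternatingGroup (Fin n))) (hH : Odd H.index) : Cfsg.IsPronormal H := by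
  haveI : Fact (Nat.Prime 2) := ⟨Nat.prime_two⟩
  have h2 : ¬ 2 ∣ H.index := fun h => (Nat.not_even_iff_odd.2 hH) (even_iff_two_dvd.2 h)
  obtain ⟨S, -, hSH⟩ := CfsgLib.Perm.exists_sylow_between h2 IsPGroup.of_bot (bot_le (a := H))
  refine pronormal_of_sylow H S hSH ?_
  rcases eq_or_lt_of_le hn with rfl | hn6
  · haveI : IsSimpleGroup (alternatingGroup (Fin 5)) := alternatingGroup.isSimpleGroup_five
    refine normalizer_le_five ?_ (fun a b h1 h2 h3 => ?_) H S hSH
    swap
    · have key : ∀ a : Equiv.Perm (Fin 5), (a ^ 4 = 1 ∧ Equiv.Perm.sign a = 1) →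
          ∀ b : Equiv.Perm (Fin 5), (b ^ 3 = 1 ∧ Equiv.Perm.sign b = 1) →
          (a = 1 ∨ b = 1 ∨ a * b ≠ b * a) := by decide +kernel
      rcases key a ⟨congrArg Subtype.val h2, Equiv.Perm.mem_alternatingGroup.1 a.2⟩
        b ⟨congrArg Subtype.val h3, Equiv.Perm.mem_alternatingGroup.1 b.2⟩ with h | h | h
      · exact Or.inl (Subtype.ext h)
      · exact Or.inr (Subtype.ext h)
      · exact absurd (congrArg Subtype.val h1) h
    rw [Nat.card_eq_fintype_card, card_alternatingGroup, Fintype.card_fin]; rfl
  · exact (CfsgLib.Perm.sylowSelfNormalizing_alternating n (by omega) S).trans (hSH.trans Subgroup.le_normalizer)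

end Cfsg.Agent.S2222
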