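import Cfsg.Statements.S2253
import Cfsg.Agent.Solv.TransferTools
import Cfsg.Agent.Solv.PComplement
import Mathlib.NumberTheory.Padics.PadicVal.Basic
import Mathlib.GroupTheory.Nilpotent
import Mathlib.GroupTheory.Perm.Subgroup
import Mathlib.Algebra.Group.Subgroup.Finite
import Mathlib.Tactic
-- import your own Cfsg.Agent.* helpers here

set_option autoImplicit false
set_option maxHeartbeats 1600000
open Cfsg

namespace Cfsg.Agent.S2253

open Equiv

/-- `v m` is the exponent of `2` in `m!`. -/
def v (m : ℕ) : ℕ := padicValNat 2 m.factorial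

/-- Twice the largest order of a nilpotent subgroup of a symmetric group. -/
def B (m : ℕ) : ℕ := 2 ^ v m * (if m % 4 = 3 then 3 else 2)

lemma v_two (m : ℕ) : v (2 * m) = m + v m ∧ v (2 * m + 1) = m + v m := by
  haveI : Fact (Nat.Prime 2) := ⟨Nat.prime_two⟩
  have h1 : v (2 * m) = m + v m := by
    unfold v
    rw [padicValNat_factorial_mul, add_comm]
  refine ⟨h1, ?_⟩
  show padicValNat 2 (2 * m + 1).factorial = _
  rw [Nat.factorial_succ, padicValNat.mul (by omega) (Nat.factorial_ne_zero _),
    padicValNat.eq_zero_of_not_dvd (by omega), zero_add]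
  exact h1

lemma v_half (m : ℕ) : v m = m / 2 + v (m / 2) := by
  rcases Nat.even_or_odd' m with ⟨k, rfl | rfl⟩
  · rw [(v_two k).1, show 2 * k / 2 = k by omega]
  · rw [(v_two k).2, show (2 * k + 1) / 2 = k by omega]

lemma v_four (m : ℕ) : v m = m / 2 + m / 4 + v (m / 4) := by
  rw [v_half, v_half (m / 2), Nat.div_div_eq_div_mul]; ring

lemma v_add (a b : ℕ) : v a + v b ≤ v (a + b) := by
  haveI : Fact (Nat.Prime 2) := ⟨Nat.prime_two⟩
  unfold v
  rw [← padicValNat.mul (Nat.factorial_ne_zero a) (Nat.factorial_ne_zero b)]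
  refine (padicValNat_dvd_iff_le (Nat.factorial_ne_zero _)).1 ?_
  exact pow_padicValNat_dvd.trans (Nat.factorial_mul_factorial_dvd_factorial_add a b)

lemma v_mono {a b : ℕ} (h : a ≤ b) : v a ≤ v b := by
  obtain ⟨c, rfl⟩ := Nat.exists_eq_add_of_le h
  exact le_trans (Nat.le_add_right _ _) (v_add a c)

lemma B_add (a b : ℕ) : B a * B b ≤ 2 * B (a + b) := by
  have hq := v_add (a / 4) (b / 4)
  have hq' := v_mono (show a / 4 + b / 4 ≤ (a + b) / 4 by omega)
  have e1 := v_four a
  have e2 := v_four b
  have e3 := v_four (a + b)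
  unfold B
  have key : ∀ k, v a + v b + k ≤ v (a + b) → 2 ^ v a * 2 ^ v b * 2 ^ k ≤ 2 ^ v (a + b) := by
    intro k hk
    rw [← pow_add, ← pow_add]
    exact Nat.pow_le_pow_right (by norm_num) hk
  have hpos : 0 < 2 ^ v (a + b) := Nat.two_pow_pos _
  generalize hX : 2 ^ v (a + b) = X at key hpos ⊢
  have hre : ∀ i j : ℕ, 2 ^ v a * i * (2 ^ v b * j) = 2 ^ v a * 2 ^ v b * (i * j) := fun i j => by ring
  rw [hre]
  generalize hY : 2 ^ v a * 2 ^ v b = Y at key ⊢
  split_ifs <;>
    first
      | omega
      | (have := key 2 (by omega); norm_num at this ⊢; omega)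
      | (have := key 1 (by omega); norm_num at this ⊢; omega)
      | (have := key 0 (by omega); norm_num at this ⊢; omega)

lemma B_succ (a : ℕ) : B a ≤ B (a + 1) := by
  have h := B_add a 1
  have h1 : B 1 = 2 := by
    have : v 1 = 0 := by simp [v]
    simp [B, this]
  rw [h1] at h
  omega

lemma B_mono {a b : ℕ} (h : a ≤ b) : B a ≤ B b := monotone_nat_of_le_succ B_succ h

lemma v_eight (m : ℕ) : v m + 7 ≤ v (m + 8) := by
  have h8 : v 8 = 7 := by
    rw [v_half, v_half (8 / 2), v_half (8 / 2 / 2)]
    norm_num [v]
  have := v_add m 8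
  omega

lemma three_le_four : ∀ m, 9 ≤ m → m ≠ 15 → 3 ^ (m - 1) ≤ 4 ^ v m := by
  intro m
  induction m using Nat.strong_induction_on with
  | _ m ih =>
    intro h9 h15
    by_cases hs : m ≤ 16 ∨ m = 23
    · have e := v_four m
      have h0 : v 0 = 0 := by simp [v]
      have h1 : v 1 = 0 := by simp [v]
      have h2 : v 2 = 1 := by simp [v]
      have h3 : v 3 = 1 := by
        rw [v_half, show 3 / 2 = 1 from rfl, h1]
      have h4 : v 4 = 3 := by
        rw [v_half, show 4 / 2 = 2 from rfl, h2]
      have h5 : v 5 = 3 := by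
        rw [v_half, show 5 / 2 = 2 from rfl, h2]
      rcases hs with hs | rfl
      · interval_cases m <;> simp_all
      · simp_all
    · push Not at hs
      obtain ⟨k, rfl⟩ : ∃ k, m = k + 8 := ⟨m - 8, by omega⟩
      have hk := ih k (by omega) (by omega) (by omega)
      have h7 := v_eight k
      calc 3 ^ (k + 8 - 1) = 3 ^ (k - 1) * 3 ^ 8 := by
            rw [← pow_add]; congr 1; omega
        _ ≤ 4 ^ v k * 4 ^ 7 := Nat.mul_le_mul hk (by norm_num)
        _ = 4 ^ (v k + 7) := (pow_add _ _ _).symm
        _ ≤ 4 ^ v (k + 8) := Nat.pow_le_pow_right (by norm_num) h7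

lemma sq_le_three : ∀ p, 3 ≤ p → p ^ 2 ≤ 3 ^ (p - 1) := by
  intro p hp
  induction p, hp using Nat.le_induction with
  | base => norm_num
  | succ k hk ih =>
    rw [show k + 1 - 1 = (k - 1) + 1 by omega, pow_succ 3]
    nlinarith

lemma two_le (m : ℕ) : 2 * 2 ^ v m ≤ B m := by
  unfold B
  split_ifs <;> omega

lemma pp {p : ℕ} (hp : p.Prime) (m : ℕ) : 2 * p ^ padicValNat p m.factorial ≤ B m := by
  haveI := Fact.mk hp
  by_cases hp2 : p = 2
  · subst hp2; exact two_le m
  by_cases hbig : 9 ≤ m ∧ m ≠ 15
  · refine le_trans (Nat.mul_le_mul_left 2 ?_) (two_le m)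
    have hl := sub_one_mul_padicValNat_factorial_lt_of_ne_zero (p := p) (n := m) (by omega)
    have h3 : p ^ 2 ≤ 3 ^ (p - 1) := by
      have hp3 : 3 ≤ p := by have := hp.two_le; omega
      exact sq_le_three p hp3
    have hsq : (p ^ padicValNat p m.factorial) ^ 2 ≤ (2 ^ v m) ^ 2 := by
      rw [← pow_mul, ← pow_mul, mul_comm, pow_mul, mul_comm (v m), pow_mul]
      refine le_trans (Nat.pow_le_pow_left h3 _) ?_
      rw [← pow_mul]
      exact le_trans (Nat.pow_le_pow_right (by norm_num) (by omega)) (three_le_four m hbig.1 hbig.2)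
    exact (Nat.pow_le_pow_iff_left (by norm_num)).1 hsq
  · have e := v_four m
    have h0 : v 0 = 0 := by simp [v]
    have h1 : v 1 = 0 := by simp [v]
    have h2 : v 2 = 1 := by simp [v]
    have h3 : v 3 = 1 := by
      rw [v_half, show 3 / 2 = 1 from rfl, h1]
    have hl : m = 0 ∨ (p - 1) * padicValNat p m.factorial < m := by
      by_cases hm : m = 0
      · exact Or.inl hm
      · exact Or.inr (sub_one_mul_padicValNat_factorial_lt_of_ne_zero (p := p) hm)
    have hp3 : 3 ≤ p := by have := hp.two_le; omega
    by_cases hlt : m < p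
    · rw [padicValNat.eq_zero_of_not_dvd (fun h => absurd ((hp.dvd_factorial).1 h) (by omega)), pow_zero]
      exact le_trans (Nat.mul_le_mul_left 2 Nat.one_le_two_pow) (two_le m)
    have hm : m < 9 ∨ m = 15 := by omega
    unfold B
    rw [e]
    have hrec : ∀ k, padicValNat p k.factorial = k / p + padicValNat p (k / p).factorial := fun k => by
      rw [← padicValNat_mul_div_factorial k, padicValNat_factorial_mul]; ring
    have hw : padicValNat p m.factorial = m / p + m / p / p := by
      rw [hrec, hrec (m / p), padicValNat.eq_zero_of_not_dvd (fun h => ?_), add_zero]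
      have h9 : 9 ≤ p * p := by nlinarith
      have : m / (p * p) ≤ 1 := by
        rw [Nat.div_le_iff_le_mul_add_pred (by omega)]; omega
      have h' := (hp.dvd_factorial).1 h
      rw [Nat.div_div_eq_div_mul] at h'
      omega
    rw [hw]
    have hpm : p ≤ 15 := by omega
    rcases hm with hm | rfl
    · interval_cases m <;> interval_cases p <;>
        first
          | omega
          | (exfalso; revert hp; norm_num; done)
          | norm_num [h0, h1, h2]
    · interval_cases p <;>
        first
          | omega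
          | (exfalso; revert hp; norm_num; done)
          | norm_num [h3]

lemma core_free_factor {G : Type*} [Group G] (H : Subgroup G) (hcore : H.normalCore = ⊥) (A C : Subgroup G)
    [A.Normal] (hAC : ∀ a ∈ A, ∀ c ∈ C, a * c = c * a) (hgen : A ⊔ C = ⊤) :
    Function.Injective (MulAction.toPermHom A (A ⧸ H.subgroupOf A)) := by
  rw [← MonoidHom.ker_eq_bot_iff, ← Subgroup.normalCore_eq_ker, eq_bot_iff]
  intro a ha
  refine Subgroup.mem_bot.2 (Subtype.ext ?_)
  have hmem : (a : G) ∈ ((H.subgroupOf A).normalCore).map A.subtype := ⟨a, ha, rfl⟩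
  haveI : (((H.subgroupOf A).normalCore).map A.subtype).Normal := by
    refine ⟨fun n hn g => ?_⟩
    obtain ⟨a', ha', rfl⟩ := hn
    obtain ⟨u, hu, w, hw, rfl⟩ := Subgroup.mem_sup_of_normal_left.1 (hgen ▸ Subgroup.mem_top g)
    refine ⟨⟨u, hu⟩ * a' * ⟨u, hu⟩⁻¹, (H.subgroupOf A).normalCore_normal.conj_mem a' ha' _, ?_⟩
    have e : w * (a' : G) * w⁻¹ = (a' : G) := by
      rw [← hAC _ a'.2 w hw, mul_inv_cancel_right]
    show u * (a' : G) * u⁻¹ = u * w * (a' : G) * (u * w)⁻¹
    calc u * (a' : G) * u⁻¹ = u * (w * (a' : G) * w⁻¹) * u⁻¹ := by rw [e]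
      _ = _ := by group
  have hle : ((H.subgroupOf A).normalCore).map A.subtype ≤ H.normalCore := by
    refine Subgroup.normal_le_normalCore.2 ?_
    rintro _ ⟨a', ha', rfl⟩
    exact Subgroup.normalCore_le (H.subgroupOf A) ha'
  exact Subgroup.mem_bot.1 (hcore ▸ hle hmem)

theorem bound : ∀ (m : ℕ) (α : Type) [Fintype α] [DecidableEq α], Fintype.card α = m →
    ∀ N : Subgroup (Perm α), Group.IsNilpotent N → 2 * Nat.card N ≤ B m := by
  intro m
  induction m using Nat.strong_induction_on with
  | _ m ih =>
  intro α _ _ hm N hN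
  classical
  by_cases htr : MulAction.IsPretransitive N α
  · by_cases hp : ∃ p : ℕ, p.Prime ∧ IsPGroup p N
    · obtain ⟨p, hp, hpN⟩ := hp
      haveI := Fact.mk hp
      obtain ⟨k, hk⟩ := IsPGroup.iff_card.1 hpN
      refine le_trans (Nat.mul_le_mul_left 2 ?_) (pp hp m)
      rw [hk]
      refine Nat.pow_le_pow_right hp.pos ((padicValNat_dvd_iff_le (Nat.factorial_ne_zero m)).1 ?_)
      rw [← hk, ← hm, ← Fintype.card_perm, ← Nat.card_eq_fintype_card]
      exact Subgroup.card_subgroup_dvd_card N
    · push Not at hp
      -- two commuting coprime normal factors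
      obtain ⟨p, hpp, hpd⟩ := Nat.exists_prime_and_dvd (n := Nat.card N) (fun h1 => hp 2 Nat.prime_two (by
        haveI : Fact (Nat.Prime 2) := ⟨Nat.prime_two⟩
        exact IsPGroup.of_card (n := 0) (by rw [h1, pow_zero])))
      haveI := Fact.mk hpp
      haveI := hN
      obtain ⟨P, K, hKn, hKP⟩ := CfsgLib.Solv.hnpc_of_isNilpotent (G := N) (p := p)
      haveI := hKn
      haveI hPn : (P : Subgroup N).Normal :=
        P.normal_of_normalizerCondition Group.normalizerCondition_of_isNilpotent
      have hcomm : ∀ a ∈ K, ∀ b ∈ (P : Subgroup N), a * b = b * a :=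
        fun a ha b hb => Subgroup.commute_of_normal_of_disjoint _ _ hKn hPn hKP.disjoint a b ha hb
      have hco : (Nat.card K).Coprime (Nat.card (P : Subgroup N)) := by
        obtain ⟨k, hk⟩ := IsPGroup.iff_card.1 P.2
        rw [hk]
        refine Nat.Coprime.pow_right _ ((hpp.coprime_iff_not_dvd.2 ?_).symm)
        have := Sylow.not_dvd_index P
        rwa [hKP.index_eq_card] at this
      obtain ⟨x₀⟩ : Nonempty α := by
        by_contra he
        rw [not_nonempty_iff] at he
        exact hp p hpp (fun g => ⟨0, by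
          rw [pow_zero, pow_one]
          exact Subtype.ext (Equiv.ext fun y => (he.false y).elim)⟩)
      set H : Subgroup N := MulAction.stabilizer N x₀ with hH
      have hcore : H.normalCore = ⊥ := by
        rw [eq_bot_iff]
        intro g hg
        refine Subgroup.mem_bot.2 (Subtype.ext (Equiv.ext fun y => ?_))
        obtain ⟨k, rfl⟩ := MulAction.exists_smul_eq N x₀ y
        have h1 : k⁻¹ * g * k ∈ H := Subgroup.normalCore_le H (by
          simpa using H.normalCore_normal.conj_mem g hg k⁻¹)
        have h2 : (k⁻¹ * g * k) • x₀ = x₀ := h1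
        rw [mul_smul, mul_smul, inv_smul_eq_iff] at h2
        exact h2
      have htopK : K ⊔ (P : Subgroup N) = ⊤ := hKP.sup_eq_top
      have hKi := core_free_factor H hcore K (P : Subgroup N) hcomm htopK
      have hPi := core_free_factor H hcore (P : Subgroup N) K (fun b hb a ha => (hcomm a ha b hb).symm) (by rw [sup_comm]; exact htopK)
      set a := (H.subgroupOf K).index with hadef
      set b := (H.subgroupOf (P : Subgroup N)).index with hbdef
      have hprod : a * b = m := by
        have hHmul : H = (H ⊓ K) ⊔ (H ⊓ (P : Subgroup N)) := by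
          refine le_antisymm (fun h hh => ?_) (sup_le inf_le_left inf_le_left)
          obtain ⟨u, hu, w, hw, rfl⟩ := Subgroup.mem_sup_of_normal_left.1 (htopK ▸ Subgroup.mem_top h)
          have hc : Commute u w := hcomm u hu w hw
          set e := Nat.card (P : Subgroup N)
          have hu2 : u ^ e ∈ H := by
            have : (u * w) ^ e = u ^ e := by
              rw [hc.mul_pow, show w ^ e = 1 from orderOf_dvd_iff_pow_eq_one.1
                (Subgroup.orderOf_dvd_natCard _ hw), mul_one]
            exact this ▸ H.pow_mem hh e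
          have hu3 : u ∈ H := by
            have hcop : (orderOf u).Coprime e :=
              Nat.Coprime.coprime_dvd_left (Subgroup.orderOf_dvd_natCard _ hu) hco
            obtain ⟨j, hj⟩ := exists_pow_eq_self_of_coprime hcop.symm
            rw [← hj]
            exact H.pow_mem hu2 j
          exact mul_mem (Subgroup.mem_sup_left ⟨hu3, hu⟩)
            (Subgroup.mem_sup_right ⟨by simpa using H.mul_mem (H.inv_mem hu3) hh, hw⟩)
        have h1 : Nat.card H = Nat.card (H.subgroupOf K) * Nat.card (H.subgroupOf (P : Subgroup N)) := by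
          have hc1 : ∀ A : Subgroup N, Nat.card (H.subgroupOf A) = Nat.card (H ⊓ A : Subgroup N) := by
            intro A
            rw [← Subgroup.inf_subgroupOf_right]
            exact Nat.card_congr (Subgroup.subgroupOfEquivOfLe inf_le_right).toEquiv
          rw [hc1, hc1]
          have hd : Disjoint (H ⊓ K) (H ⊓ (P : Subgroup N)) := hKP.disjoint.mono inf_le_right inf_le_right
          let f : (H ⊓ K : Subgroup N) × (H ⊓ (P : Subgroup N) : Subgroup N) → H :=
            fun z => ⟨z.1 * z.2, mul_mem z.1.2.1 z.2.2.1⟩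
          rw [← Nat.card_prod]
          refine (Nat.card_eq_of_bijective f ⟨fun z z' e => ?_, fun h => ?_⟩).symm
          · exact Subgroup.mul_injective_of_disjoint hd (congrArg Subtype.val e)
          · haveI := hKn
            obtain ⟨u, hu, w, hw, huw⟩ : ∃ u ∈ H ⊓ K, ∃ w ∈ H ⊓ (P : Subgroup N), u * w = h := by
              have hh : (h : N) ∈ (H ⊓ K) ⊔ (H ⊓ (P : Subgroup N)) := hHmul ▸ h.2
              rw [← SetLike.mem_coe, Subgroup.coe_mul_of_left_le_normalizer_right] at hh
              · exact Set.mem_mul.1 hh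
              · intro u hu
                refine Subgroup.mem_normalizer_iff.2 fun y => ?_
                constructor
                · intro hy
                  rwa [show u * y * u⁻¹ = y by rw [hcomm u hu.2 y hy.2, mul_inv_cancel_right]]
                · intro hy
                  have e1 : u * (u * y * u⁻¹) = u * y * u⁻¹ * u := hcomm u hu.2 _ hy.2
                  have : u * y * u⁻¹ = y := by
                    calc u * y * u⁻¹ = u⁻¹ * (u * (u * y * u⁻¹)) := by group
                      _ = u⁻¹ * (u * y * u⁻¹ * u) := by rw [e1]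
                      _ = y := by group
                  rwa [this] at hy
            exact ⟨(⟨u, hu⟩, ⟨w, hw⟩), Subtype.ext huw⟩
        have h2 := hKP.card_mul
        have hidx : H.index = m := by
          rw [hH, MulAction.index_stabilizer, MulAction.orbit_eq_univ, Set.ncard_univ, Nat.card_eq_fintype_card, hm]
        have h3 := H.card_mul_index
        have h4 := (H.subgroupOf K).card_mul_index
        have h5 := (H.subgroupOf (P : Subgroup N)).card_mul_index
        rw [hidx, ← h2, h1, ← h4, ← h5, ← hadef, ← hbdef] at h3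
        have hpos : 0 < Nat.card (H.subgroupOf K) * Nat.card (H.subgroupOf (P : Subgroup N)) :=
          Nat.mul_pos Nat.card_pos Nat.card_pos
        refine (Nat.eq_of_mul_eq_mul_left hpos ?_).symm
        rw [h3]; ring
      have hne1 : ∀ A : Subgroup N, Function.Injective (MulAction.toPermHom A (A ⧸ H.subgroupOf A)) →
          A ≠ ⊥ → 2 ≤ (H.subgroupOf A).index := by
        intro A hA hA1
        by_contra hlt
        have h1 : (H.subgroupOf A).index = 1 := by
          have := (H.subgroupOf A).index_ne_zero_of_finite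
          omega
        haveI : Subsingleton (A ⧸ H.subgroupOf A) := (Nat.card_eq_one_iff_unique.1 h1).1
        exact hA1 ((Subgroup.eq_bot_iff_forall _).2 fun g hg =>
          congrArg Subtype.val (hA (Subsingleton.elim (MulAction.toPermHom A _ ⟨g, hg⟩) (MulAction.toPermHom A _ 1))))
      have hKne : K ≠ ⊥ := by
        intro h
        have := hKP.card_mul
        rw [h, Subgroup.card_bot, one_mul] at this
        obtain ⟨k, hk⟩ := IsPGroup.iff_card.1 P.2
        exact hp p hpp (IsPGroup.of_card (this ▸ hk))
      have hPne : (P : Subgroup N) ≠ ⊥ := P.ne_bot_of_dvd_card hpd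
      have ha2 := hne1 K hKi hKne
      have hb2 := hne1 _ hPi hPne
      have hlt : a < m ∧ b < m := by
        constructor <;> nlinarith
      have step : ∀ A : Subgroup N, Function.Injective (MulAction.toPermHom A (A ⧸ H.subgroupOf A)) →
          (H.subgroupOf A).index < m → 2 * Nat.card A ≤ B (H.subgroupOf A).index := by
        intro A hA hlt
        haveI := Fintype.ofFinite (A ⧸ H.subgroupOf A)
        have e := MonoidHom.ofInjective hA
        rw [Nat.card_congr e.toEquiv]
        refine ih _ hlt _ (Nat.card_eq_fintype_card).symm _ ?_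
        exact (Group.isNilpotent_congr e).1 inferInstance
      have hA1 := step K hKi hlt.1
      have hA2 := step _ hPi hlt.2
      have h4 : a + b ≤ m := by nlinarith
      have h5 := Nat.mul_le_mul hA1 hA2
      have h6 := B_add a b
      have h7 := B_mono h4
      rw [← hKP.card_mul]
      nlinarith
  · -- intransitive
    obtain ⟨x, hx⟩ : ∃ x : α, ∃ y, ∀ g : N, g • x ≠ y := by
      by_contra hh
      push Not at hh
      exact htr ⟨hh⟩
    obtain ⟨y, hy⟩ := hx
    let s : α → Prop := fun z => z ∈ MulAction.orbit N x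
    have hinv : ∀ g : N, ∀ z, s ((g : Perm α) z) ↔ s z := fun g z =>
      ⟨fun ⟨k, hk⟩ => ⟨g⁻¹ * k, by
          show (g⁻¹ * k) • x = z
          rw [mul_smul]
          exact (congrArg (g⁻¹ • ·) hk).trans (inv_smul_smul g z)⟩,
        fun ⟨k, hk⟩ => ⟨g * k, by
          show (g * k) • x = _
          rw [mul_smul]
          exact congrArg (g • ·) hk⟩⟩
    let f1 : N →* Perm {z // s z} :=
      { toFun := fun g => (g : Perm α).subtypePerm (fun z => hinv g z)
        map_one' := by ext; rfl
        map_mul' := fun g g' => by ext; rfl }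
    let f2 : N →* Perm {z // ¬ s z} :=
      { toFun := fun g => (g : Perm α).subtypePerm (fun z => not_congr (hinv g z))
        map_one' := by ext; rfl
        map_mul' := fun g g' => by ext; rfl }
    have hinj : Function.Injective (fun g : N => (f1.rangeRestrict g, f2.rangeRestrict g)) := by
      intro g g' e
      obtain ⟨e1, e2⟩ := Prod.mk.inj e
      refine Subtype.ext (Equiv.ext fun z => ?_)
      by_cases hz : s z
      · exact congrArg Subtype.val (Equiv.congr_fun (congrArg Subtype.val e1) ⟨z, hz⟩)
      · exact congrArg Subtype.val (Equiv.congr_fun (congrArg Subtype.val e2) ⟨z, hz⟩)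
    have hcard := Nat.card_le_card_of_injective _ hinj
    rw [Nat.card_prod] at hcard
    have hsx : s x := MulAction.mem_orbit_self x
    have hsy : ¬ s y := fun ⟨g, hg⟩ => hy g hg
    have hlt1 : Fintype.card {z // s z} < m := by
      rw [← hm]; exact Fintype.card_subtype_lt hsy
    have hlt2 : Fintype.card {z // ¬ s z} < m := by
      rw [← hm]; exact Fintype.card_subtype_lt (not_not.2 hsx)
    haveI := hN
    have h1 := ih _ hlt1 _ rfl f1.range (Group.nilpotent_of_surjective _ f1.rangeRestrict_surjective)
    have h2 := ih _ hlt2 _ rfl f2.range (Group.nilpotent_of_surjective _ f2.rangeRestrict_surjective)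
    have h3 := B_add (Fintype.card {z // s z}) (Fintype.card {z // ¬ s z})
    have h4 : Fintype.card {z // s z} + Fintype.card {z // ¬ s z} = m := by
      rw [Fintype.card_subtype_compl, hm]; omega
    rw [h4] at h3
    have h5 := Nat.mul_le_mul h1 h2
    nlinarith

/-- Let n be a natural number not congruent to 3 modulo 4. Then every nilpotent subgroup of the symmetric group on n letters has order at most the order of a Sylow 2-subgroup (so the nilpotent subgroups of largest order are exactly the Sylow 2-subgroups). -/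
theorem result  (n : ℕ) (hn : n % 4 ≠ 3)
    (N : Subgroup (Equiv.Perm (Fin n))) (hN : Group.IsNilpotent N)
    (P : Sylow 2 (Equiv.Perm (Fin n))) :
    Nat.card N ≤ Nat.card P := by
  haveI : Fact (Nat.Prime 2) := ⟨Nat.prime_two⟩
  have h := bound n (Fin n) (Fintype.card_fin n) N hN
  unfold B at h
  rw [if_neg hn] at h
  have hP : Nat.card (P : Subgroup (Equiv.Perm (Fin n))) = 2 ^ v n := by
    rw [Sylow.card_eq_multiplicity, Nat.card_perm, Nat.card_fin, Nat.factorization_def _ Nat.prime_two]
    rfl
  rw [hP]
  omega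

end Cfsg.Agent.S2253
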