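import Cfsg.Statements.S2255
import Cfsg.Agent.S2253
import Mathlib.GroupTheory.SpecificGroups.Alternating
-- import your own Cfsg.Agent.* helpers here

set_option autoImplicit false
set_option linter.all false
set_option maxHeartbeats 1600000
open Cfsg

namespace Cfsg.Agent.S2255

open Equiv Cfsg.Agent.S2253

/-- Twice the largest order of a nilpotent group of even permutations. -/
def C (m : ℕ) : ℕ :=
  if m = 0 ∨ m = 1 then 2 else if m = 3 then 6 else if m = 5 then 10 else if m = 6 then 18
  else if m = 9 then 162 else B m / 2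

lemma v_small : v 0 = 0 ∧ v 1 = 0 ∧ v 2 = 1 ∧ v 3 = 1 ∧ v 4 = 3 := by
  have h0 : v 0 = 0 := by simp [v]
  have h1 : v 1 = 0 := by simp [v]
  have h2 : v 2 = 1 := by simp [v]
  exact ⟨h0, h1, h2, by rw [v_half, show 3 / 2 = 1 from rfl, h1], by rw [v_half, show 4 / 2 = 2 from rfl, h2]⟩

lemma B_small : B 0 = 2 ∧ B 1 = 2 ∧ B 2 = 4 ∧ B 3 = 6 ∧ B 4 = 16 ∧ B 5 = 16 ∧ B 6 = 32 ∧ B 7 = 48 ∧ B 8 = 256 ∧
    B 9 = 256 ∧ B 10 = 512 ∧ B 11 = 768 ∧ B 12 = 2048 ∧ B 14 = 4096 ∧ B 15 = 6144 ∧ B 18 = 131072 := by
  obtain ⟨h0, h1, h2, h3, h4⟩ := v_small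
  simp only [B, v_four 5, v_four 6, v_four 7, v_four 8, v_four 9, v_four 10, v_four 11, v_four 12, v_four 14, v_four 15, v_four 18]
  norm_num [h0, h1, h2, h3, h4]

lemma B_even (m : ℕ) : 2 ∣ B m := by
  unfold B
  split_ifs with h
  · have e := v_four m
    exact Dvd.dvd.mul_right (dvd_pow_self 2 (by omega)) 3
  · exact dvd_mul_left 2 _

lemma C_bounds (m : ℕ) : B m ≤ 2 * C m ∧ C m ≤ B m := by
  obtain ⟨b0, b1, b2, b3, b4, b5, b6, b7, b8, b9, b10, b11, b12, b14, b15, b18⟩ := B_small
  unfold C
  split_ifs with h1 h3 h5 h6 h9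
  · rcases h1 with rfl | rfl <;> omega
  · subst h3; omega
  · subst h5; omega
  · subst h6; omega
  · subst h9; omega
  · have := B_even m; omega

lemma C_add (a b : ℕ) : C a * C b ≤ 2 * C (a + b) := by
  obtain ⟨b0, b1, b2, b3, b4, b5, b6, b7, b8, b9, b10, b11, b12, b14, b15, b18⟩ := B_small
  by_cases ha : a = 0 ∨ a = 1 ∨ a = 3 ∨ a = 5 ∨ a = 6 ∨ a = 9
  · by_cases hb : b = 0 ∨ b = 1 ∨ b = 3 ∨ b = 5 ∨ b = 6 ∨ b = 9
    · rcases ha with rfl | rfl | rfl | rfl | rfl | rfl <;> rcases hb with rfl | rfl | rfl | rfl | rfl | rfl <;>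
        norm_num [C, b0, b1, b2, b3, b4, b5, b6, b7, b8, b9, b10, b11, b12, b14, b15, b18]
    · push Not at hb
      have e : C b = B b / 2 := by simp [C, hb.1, hb.2.1, hb.2.2.1, hb.2.2.2.1, hb.2.2.2.2.1, hb.2.2.2.2.2]
      have h1 := B_add a b
      have h2 := (C_bounds a).2
      have h3 := (C_bounds (a + b)).1
      have h4 := B_even b
      have h5 : C a * (2 * C b) ≤ B a * B b := Nat.mul_le_mul h2 (by omega)
      nlinarith
  · push Not at ha
    have e : C a = B a / 2 := by simp [C, ha.1, ha.2.1, ha.2.2.1, ha.2.2.2.1, ha.2.2.2.2.1, ha.2.2.2.2.2]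
    have h1 := B_add a b
    have h2 := (C_bounds b).2
    have h3 := (C_bounds (a + b)).1
    have h4 := B_even a
    have h5 : (2 * C a) * C b ≤ B a * B b := Nat.mul_le_mul (by omega) h2
    nlinarith

lemma B_two (k : ℕ) : 2 * B k ≤ B (k + 2) := by
  have h := B_add k 2
  rw [B_small.2.2.1] at h
  omega

lemma three_le : ∀ m, 16 ≤ m → 4 * 3 ^ (m - 1) ≤ 4 ^ v m := by
  intro m
  induction m using Nat.strong_induction_on with
  | _ m ih =>
    intro h16
    by_cases hs : m < 24
    · obtain ⟨h0, h1, h2, h3, h4⟩ := v_small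
      have e := v_four m
      have h5 : v 5 = 3 := by rw [v_half, show 5 / 2 = 2 from rfl, h2]
      interval_cases m <;> norm_num [e, h0, h1, h2, h3, h4, h5]
    · obtain ⟨k, rfl⟩ : ∃ k, m = k + 8 := ⟨m - 8, by omega⟩
      have hk := ih k (by omega) (by omega)
      have h7 := v_eight k
      calc 4 * 3 ^ (k + 8 - 1) = (4 * 3 ^ (k - 1)) * 3 ^ 8 := by
            rw [mul_assoc, ← pow_add]; congr 2; omega
        _ ≤ 4 ^ v k * 4 ^ 7 := Nat.mul_le_mul hk (by norm_num)
        _ = 4 ^ (v k + 7) := (pow_add _ _ _).symm
        _ ≤ 4 ^ v (k + 8) := Nat.pow_le_pow_right (by norm_num) h7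

lemma pp_odd {p : ℕ} (hp : p.Prime) (hp2 : p ≠ 2) (m : ℕ) : 2 * p ^ padicValNat p m.factorial ≤ C m := by
  haveI := Fact.mk hp
  have hp3 : 3 ≤ p := by have := hp.two_le; omega
  by_cases hbig : 16 ≤ m
  · have hl := sub_one_mul_padicValNat_factorial_lt_of_ne_zero (p := p) (n := m) (by omega)
    have hsq : (2 * p ^ padicValNat p m.factorial) ^ 2 ≤ (2 ^ v m) ^ 2 := by
      rw [mul_pow, ← pow_mul, ← pow_mul, mul_comm _ 2, pow_mul p, mul_comm (v m) 2, pow_mul 2 2 (v m)]
      refine le_trans (Nat.mul_le_mul_left _ (Nat.pow_le_pow_left (sq_le_three p hp3) _)) ?_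
      rw [← pow_mul]
      exact le_trans (Nat.mul_le_mul_left _ (Nat.pow_le_pow_right (by norm_num) (by omega))) (three_le m hbig)
    have h1 := (Nat.pow_le_pow_iff_left (by norm_num)).1 hsq
    have h2 := two_le m
    have h3 := (C_bounds m).1
    omega
  · obtain ⟨b0, b1, b2, b3, b4, b5, b6, b7, b8, b9, b10, b11, b12, b14, b15, b18⟩ := B_small
    by_cases hlt : m < p
    · rw [padicValNat.eq_zero_of_not_dvd (fun h => absurd ((hp.dvd_factorial).1 h) (by omega)), pow_zero]
      by_cases h2 : m ≤ 1
      · have := (C_bounds m).1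
        simp [C, show m = 0 ∨ m = 1 by omega]
      · have h4 := B_mono (show 2 ≤ m by omega)
        have := (C_bounds m).1
        omega
    have hrec : ∀ k, padicValNat p k.factorial = k / p + padicValNat p (k / p).factorial := fun k => by
      rw [← padicValNat_mul_div_factorial k, padicValNat_factorial_mul]; ring
    have hw : padicValNat p m.factorial = m / p + m / p / p := by
      rw [hrec, hrec (m / p), padicValNat.eq_zero_of_not_dvd (fun h => ?_), add_zero]
      have h9 : 9 ≤ p * p := by nlinarith
      have : m / (p * p) ≤ 1 := by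
        rw [Nat.div_le_iff_le_mul_add_pred (by omega)]; omega
      have h' := (hp.dvd_factorial).1 h
      rw [Nat.div_div_eq_div_mul] at h'
      omega
    rw [hw]
    have hpm : p ≤ 15 := by omega
    obtain ⟨h0, h1, h2, h3, h4⟩ := v_small
    have e := v_four m
    interval_cases m <;> interval_cases p <;>
      first
        | omega
        | (exfalso; revert hp; norm_num; done)
        | norm_num [C, B, e, h0, h1, h2, h3, h4]

theorem boundAlt : ∀ (m : ℕ) (α : Type) [Fintype α] [DecidableEq α], Fintype.card α = m →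
    ∀ N : Subgroup (Perm α), Group.IsNilpotent N → (∀ g : N, Equiv.Perm.sign (g : Perm α) = 1) →
      2 * Nat.card N ≤ C m := by
  intro m
  induction m using Nat.strong_induction_on with
  | _ m ih =>
  intro α _ _ hm N hN heven
  classical
  by_cases htr : MulAction.IsPretransitive N α
  · by_cases hp : ∃ p : ℕ, p.Prime ∧ IsPGroup p N
    · obtain ⟨p, hp, hpN⟩ := hp
      haveI := Fact.mk hp
      obtain ⟨k, hk⟩ := IsPGroup.iff_card.1 hpN
      by_cases h1 : m ≤ 1
      · have hb := bound m α hm N hN
        obtain ⟨b0, b1, -⟩ := B_small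
        have : C m = 2 := by simp [C, show m = 0 ∨ m = 1 by omega]
        have : B m = 2 := by rcases (show m = 0 ∨ m = 1 by omega) with rfl | rfl <;> assumption
        omega
      haveI : Nontrivial α := Fintype.one_lt_card_iff_nontrivial.1 (by omega)
      have hdvd : 2 * Nat.card N ∣ m.factorial := by
        have hle : N ≤ alternatingGroup α := fun g hg => Equiv.Perm.mem_alternatingGroup.2 (heven ⟨g, hg⟩)
        have := Nat.mul_dvd_mul_left 2 (Subgroup.card_dvd_of_le hle)
        rwa [two_mul_nat_card_alternatingGroup, Nat.card_perm, Nat.card_eq_fintype_card (α := α), hm] at this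
      by_cases hp2 : p = 2
      · subst hp2
        rw [hk, ← pow_succ'] at hdvd
        have hle : k + 1 ≤ v m := (padicValNat_dvd_iff_le (Nat.factorial_ne_zero m)).1 hdvd
        rw [hk, ← pow_succ']
        refine le_trans (Nat.pow_le_pow_right (by norm_num) hle) ?_
        have := two_le m
        have := (C_bounds m).1
        omega
      · refine le_trans (Nat.mul_le_mul_left 2 ?_) (pp_odd hp hp2 m)
        rw [hk]
        exact Nat.pow_le_pow_right hp.pos ((padicValNat_dvd_iff_le (Nat.factorial_ne_zero m)).1
          (hk ▸ dvd_trans (dvd_mul_left _ 2) hdvd))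
    · push Not at hp
      -- two commuting coprime normal factors
      obtain ⟨p, hpp, hpd⟩ := Nat.exists_prime_and_dvd (n := Nat.card N) (fun h1 => hp 2 Nat.prime_two (by
        haveI : Fact (Nat.Prime 2) := ⟨Nat.prime_two⟩
        exact IsPGroup.of_card (n := 0) (by rw [h1, pow_zero])))
      haveI := Fact.mk hpp
      haveI := hN
      obtain ⟨P, K, hKn, hKP⟩ := CfsgLib.Solv.hnpc_of_isNilpotent (G := N) (p := p)
      haveI := hKn
      haveI hPn : (P : Subgroup N).Normal :=
        P.normal_of_normalizerCondition Group.normalizerCondition_of_isNilpotent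
      have hcomm : ∀ a ∈ K, ∀ b ∈ (P : Subgroup N), a * b = b * a :=
        fun a ha b hb => Subgroup.commute_of_normal_of_disjoint _ _ hKn hPn hKP.disjoint a b ha hb
      have hco : (Nat.card K).Coprime (Nat.card (P : Subgroup N)) := by
        obtain ⟨k, hk⟩ := IsPGroup.iff_card.1 P.2
        rw [hk]
        refine Nat.Coprime.pow_right _ ((hpp.coprime_iff_not_dvd.2 ?_).symm)
        have := Sylow.not_dvd_index P
        rwa [hKP.index_eq_card] at this
      obtain ⟨x₀⟩ : Nonempty α := by
        by_contra he
        rw [not_nonempty_iff] at he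
        exact hp p hpp (fun g => ⟨0, by
          rw [pow_zero, pow_one]
          exact Subtype.ext (Equiv.ext fun y => (he.false y).elim)⟩)
      set H : Subgroup N := MulAction.stabilizer N x₀ with hH
      have hcore : H.normalCore = ⊥ := by
        rw [eq_bot_iff]
        intro g hg
        refine Subgroup.mem_bot.2 (Subtype.ext (Equiv.ext fun y => ?_))
        obtain ⟨k, rfl⟩ := MulAction.exists_smul_eq N x₀ y
        have h1 : k⁻¹ * g * k ∈ H := Subgroup.normalCore_le H (by
          simpa using H.normalCore_normal.conj_mem g hg k⁻¹)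
        have h2 : (k⁻¹ * g * k) • x₀ = x₀ := h1
        rw [mul_smul, mul_smul, inv_smul_eq_iff] at h2
        exact h2
      have htopK : K ⊔ (P : Subgroup N) = ⊤ := hKP.sup_eq_top
      have hKi := core_free_factor H hcore K (P : Subgroup N) hcomm htopK
      have hPi := core_free_factor H hcore (P : Subgroup N) K (fun b hb a ha => (hcomm a ha b hb).symm) (by rw [sup_comm]; exact htopK)
      set a := (H.subgroupOf K).index with hadef
      set b := (H.subgroupOf (P : Subgroup N)).index with hbdef
      have hprod : a * b = m := by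
        have hHmul : H = (H ⊓ K) ⊔ (H ⊓ (P : Subgroup N)) := by
          refine le_antisymm (fun h hh => ?_) (sup_le inf_le_left inf_le_left)
          obtain ⟨u, hu, w, hw, rfl⟩ := Subgroup.mem_sup_of_normal_left.1 (htopK ▸ Subgroup.mem_top h)
          have hc : Commute u w := hcomm u hu w hw
          set e := Nat.card (P : Subgroup N)
          have hu2 : u ^ e ∈ H := by
            have : (u * w) ^ e = u ^ e := by
              rw [hc.mul_pow, show w ^ e = 1 from orderOf_dvd_iff_pow_eq_one.1
                (Subgroup.orderOf_dvd_natCard _ hw), mul_one]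
            exact this ▸ H.pow_mem hh e
          have hu3 : u ∈ H := by
            have hcop : (orderOf u).Coprime e :=
              Nat.Coprime.coprime_dvd_left (Subgroup.orderOf_dvd_natCard _ hu) hco
            obtain ⟨j, hj⟩ := exists_pow_eq_self_of_coprime hcop.symm
            rw [← hj]
            exact H.pow_mem hu2 j
          exact mul_mem (Subgroup.mem_sup_left ⟨hu3, hu⟩)
            (Subgroup.mem_sup_right ⟨by simpa using H.mul_mem (H.inv_mem hu3) hh, hw⟩)
        have h1 : Nat.card H = Nat.card (H.subgroupOf K) * Nat.card (H.subgroupOf (P : Subgroup N)) := by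
          have hc1 : ∀ A : Subgroup N, Nat.card (H.subgroupOf A) = Nat.card (H ⊓ A : Subgroup N) := by
            intro A
            rw [← Subgroup.inf_subgroupOf_right]
            exact Nat.card_congr (Subgroup.subgroupOfEquivOfLe inf_le_right).toEquiv
          rw [hc1, hc1]
          have hd : Disjoint (H ⊓ K) (H ⊓ (P : Subgroup N)) := hKP.disjoint.mono inf_le_right inf_le_right
          let f : (H ⊓ K : Subgroup N) × (H ⊓ (P : Subgroup N) : Subgroup N) → H :=
            fun z => ⟨z.1 * z.2, mul_mem z.1.2.1 z.2.2.1⟩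
          rw [← Nat.card_prod]
          refine (Nat.card_eq_of_bijective f ⟨fun z z' e => ?_, fun h => ?_⟩).symm
          · exact Subgroup.mul_injective_of_disjoint hd (congrArg Subtype.val e)
          · haveI := hKn
            obtain ⟨u, hu, w, hw, huw⟩ : ∃ u ∈ H ⊓ K, ∃ w ∈ H ⊓ (P : Subgroup N), u * w = h := by
              have hh : (h : N) ∈ (H ⊓ K) ⊔ (H ⊓ (P : Subgroup N)) := hHmul ▸ h.2
              rw [← SetLike.mem_coe, Subgroup.coe_mul_of_left_le_normalizer_right] at hh
              · exact Set.mem_mul.1 hh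
              · intro u hu
                refine Subgroup.mem_normalizer_iff.2 fun y => ?_
                constructor
                · intro hy
                  rwa [show u * y * u⁻¹ = y by rw [hcomm u hu.2 y hy.2, mul_inv_cancel_right]]
                · intro hy
                  have e1 : u * (u * y * u⁻¹) = u * y * u⁻¹ * u := hcomm u hu.2 _ hy.2
                  have : u * y * u⁻¹ = y := by
                    calc u * y * u⁻¹ = u⁻¹ * (u * (u * y * u⁻¹)) := by group
                      _ = u⁻¹ * (u * y * u⁻¹ * u) := by rw [e1]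
                      _ = y := by group
                  rwa [this] at hy
            exact ⟨(⟨u, hu⟩, ⟨w, hw⟩), Subtype.ext huw⟩
        have h2 := hKP.card_mul
        have hidx : H.index = m := by
          rw [hH, MulAction.index_stabilizer, MulAction.orbit_eq_univ, Set.ncard_univ, Nat.card_eq_fintype_card, hm]
        have h3 := H.card_mul_index
        have h4 := (H.subgroupOf K).card_mul_index
        have h5 := (H.subgroupOf (P : Subgroup N)).card_mul_index
        rw [hidx, ← h2, h1, ← h4, ← h5, ← hadef, ← hbdef] at h3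
        have hpos : 0 < Nat.card (H.subgroupOf K) * Nat.card (H.subgroupOf (P : Subgroup N)) :=
          Nat.mul_pos Nat.card_pos Nat.card_pos
        refine (Nat.eq_of_mul_eq_mul_left hpos ?_).symm
        rw [h3]; ring
      have hne1 : ∀ A : Subgroup N, Function.Injective (MulAction.toPermHom A (A ⧸ H.subgroupOf A)) →
          A ≠ ⊥ → 2 ≤ (H.subgroupOf A).index := by
        intro A hA hA1
        by_contra hlt
        have h1 : (H.subgroupOf A).index = 1 := by
          have := (H.subgroupOf A).index_ne_zero_of_finite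
          omega
        haveI : Subsingleton (A ⧸ H.subgroupOf A) := (Nat.card_eq_one_iff_unique.1 h1).1
        exact hA1 ((Subgroup.eq_bot_iff_forall _).2 fun g hg =>
          congrArg Subtype.val (hA (Subsingleton.elim (MulAction.toPermHom A _ ⟨g, hg⟩) (MulAction.toPermHom A _ 1))))
      have hKne : K ≠ ⊥ := by
        intro h
        have := hKP.card_mul
        rw [h, Subgroup.card_bot, one_mul] at this
        obtain ⟨k, hk⟩ := IsPGroup.iff_card.1 P.2
        exact hp p hpp (IsPGroup.of_card (this ▸ hk))
      have hPne : (P : Subgroup N) ≠ ⊥ := P.ne_bot_of_dvd_card hpd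
      have ha2 := hne1 K hKi hKne
      have hb2 := hne1 _ hPi hPne
      have hlt : a < m ∧ b < m := by
        constructor <;> nlinarith
      have step : ∀ A : Subgroup N, Function.Injective (MulAction.toPermHom A (A ⧸ H.subgroupOf A)) →
          2 * Nat.card A ≤ B (H.subgroupOf A).index := by
        intro A hA
        haveI := Fintype.ofFinite (A ⧸ H.subgroupOf A)
        have e := MonoidHom.ofInjective hA
        rw [Nat.card_congr e.toEquiv]
        refine bound _ _ (Nat.card_eq_fintype_card).symm _ ?_
        exact (Group.isNilpotent_congr e).1 inferInstance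
      have hA1 := step K hKi
      have hA2 := step _ hPi
      have hab : a.Coprime b := by
        refine (hco.coprime_dvd_left ?_).coprime_dvd_right ?_
        · exact Subgroup.index_dvd_card _
        · exact Subgroup.index_dvd_card _
      have h4 : a + b + 1 ≤ m := by
        rcases Nat.lt_or_ge 2 a with h | h
        · nlinarith
        · rcases Nat.lt_or_ge 2 b with h' | h'
          · nlinarith
          · have e1 : a = 2 := by omega
            have e2 : b = 2 := by omega
            rw [e1, e2] at hab; norm_num at hab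
      have h5 := Nat.mul_le_mul hA1 hA2
      have h6 := B_add a b
      have h7 := (C_bounds m).1
      have h8 : 2 * B (a + b) ≤ B m := by
        by_cases h9 : a + b + 2 ≤ m
        · exact le_trans (B_two _) (B_mono h9)
        · have : (a = 2 ∧ b = 3) ∨ (a = 3 ∧ b = 2) := by
            have ha3 : a ≤ 3 := by by_contra; nlinarith
            have hb3 : b ≤ 3 := by by_contra; nlinarith
            rcases (show a = 2 ∨ a = 3 by omega) with e1 | e1 <;> rcases (show b = 2 ∨ b = 3 by omega) with e2 | e2 <;>
              rw [e1, e2] at hprod h9 h4 <;> omega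
          obtain ⟨b0, b1, b2, b3, b4, b5, b6, -⟩ := B_small
          rcases this with ⟨e1, e2⟩ | ⟨e1, e2⟩ <;> rw [e1, e2] at hprod ⊢ <;> rw [← hprod] <;> norm_num [b5, b6]
      rw [← hKP.card_mul]
      nlinarith
  · -- intransitive
    obtain ⟨x, hx⟩ : ∃ x : α, ∃ y, ∀ g : N, g • x ≠ y := by
      by_contra hh
      push Not at hh
      exact htr ⟨hh⟩
    obtain ⟨y, hy⟩ := hx
    let s : α → Prop := fun z => z ∈ MulAction.orbit N x
    have hinv : ∀ g : N, ∀ z, s ((g : Perm α) z) ↔ s z := fun g z =>
      ⟨fun ⟨k, hk⟩ => ⟨g⁻¹ * k, by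
          show (g⁻¹ * k) • x = z
          rw [mul_smul]
          exact (congrArg (g⁻¹ • ·) hk).trans (inv_smul_smul g z)⟩,
        fun ⟨k, hk⟩ => ⟨g * k, by
          show (g * k) • x = _
          rw [mul_smul]
          exact congrArg (g • ·) hk⟩⟩
    let f1 : N →* Perm {z // s z} :=
      { toFun := fun g => (g : Perm α).subtypePerm (fun z => hinv g z)
        map_one' := by ext; rfl
        map_mul' := fun g g' => by ext; rfl }
    let f2 : N →* Perm {z // ¬ s z} :=
      { toFun := fun g => (g : Perm α).subtypePerm (fun z => not_congr (hinv g z))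
        map_one' := by ext; rfl
        map_mul' := fun g g' => by ext; rfl }
    have hinj : Function.Injective (fun g : N => (f1.rangeRestrict g, f2.rangeRestrict g)) := by
      intro g g' e
      obtain ⟨e1, e2⟩ := Prod.mk.inj e
      refine Subtype.ext (Equiv.ext fun z => ?_)
      by_cases hz : s z
      · exact congrArg Subtype.val (Equiv.congr_fun (congrArg Subtype.val e1) ⟨z, hz⟩)
      · exact congrArg Subtype.val (Equiv.congr_fun (congrArg Subtype.val e2) ⟨z, hz⟩)
    have hcard := Nat.card_le_card_of_injective _ hinj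
    rw [Nat.card_prod] at hcard
    have hsx : s x := MulAction.mem_orbit_self x
    have hsy : ¬ s y := fun ⟨g, hg⟩ => hy g hg
    have hlt1 : Fintype.card {z // s z} < m := by
      rw [← hm]; exact Fintype.card_subtype_lt hsy
    have hlt2 : Fintype.card {z // ¬ s z} < m := by
      rw [← hm]; exact Fintype.card_subtype_lt (not_not.2 hsx)
    haveI := hN
    have hsign : ∀ g : N, Equiv.Perm.sign (f1 g) * Equiv.Perm.sign (f2 g) = 1 := by
      intro g
      rw [← Equiv.Perm.sign_subtypeCongr, ← heven g]
      congr 1
      ext z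
      by_cases hz : s z
      · simp [Equiv.Perm.subtypeCongr.apply, hz, f1]
      · simp [Equiv.Perm.subtypeCongr.apply, hz, f2]
    have h4 : Fintype.card {z // s z} + Fintype.card {z // ¬ s z} = m := by
      rw [Fintype.card_subtype_compl, hm]
      have := Fintype.card_subtype_le s
      omega
    have hN1 : Group.IsNilpotent f1.range := Group.nilpotent_of_surjective _ f1.rangeRestrict_surjective
    have hN2 : Group.IsNilpotent f2.range := Group.nilpotent_of_surjective _ f2.rangeRestrict_surjective
    by_cases hodd : ∃ g : N, Equiv.Perm.sign (f1 g) ≠ 1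
    · obtain ⟨g₀, hg₀⟩ := hodd
      let ψ : f1.range × f2.range →* ℤˣ :=
        ((Equiv.Perm.sign.comp f1.range.subtype).comp (MonoidHom.fst _ _)) *
          ((Equiv.Perm.sign.comp f2.range.subtype).comp (MonoidHom.snd _ _))
      have hk : Nat.card N ≤ Nat.card ψ.ker :=
        Nat.card_le_card_of_injective (fun g => (⟨(f1.rangeRestrict g, f2.rangeRestrict g), hsign g⟩ : ψ.ker))
          (fun g g' e => hinj (congrArg Subtype.val e))
      have hidx : 2 ≤ ψ.ker.index := by
        rw [Subgroup.index_ker]
        haveI : Nontrivial ψ.range := by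
          refine ⟨⟨⟨ψ (f1.rangeRestrict g₀, 1), _, rfl⟩, 1, fun e => hg₀ ?_⟩⟩
          simpa [ψ] using congrArg Subtype.val e
        exact Finite.one_lt_card
      have h5 := ψ.ker.card_mul_index
      rw [Nat.card_prod] at h5
      have h6 := bound _ _ rfl f1.range hN1
      have h7 := bound _ _ rfl f2.range hN2
      have h8 := B_add (Fintype.card {z // s z}) (Fintype.card {z // ¬ s z})
      rw [h4] at h8
      have h9 := Nat.mul_le_mul h6 h7
      have h10 := Nat.mul_le_mul hk hidx
      have h11 := (C_bounds m).1
      nlinarith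
    · push Not at hodd
      have h1 := ih _ hlt1 _ rfl f1.range hN1 (by rintro ⟨_, g, rfl⟩; exact hodd g)
      have h2 := ih _ hlt2 _ rfl f2.range hN2 (by
        rintro ⟨_, g, rfl⟩
        have := hsign g
        rwa [hodd g, one_mul] at this)
      have h3 := C_add (Fintype.card {z // s z}) (Fintype.card {z // ¬ s z})
      rw [h4] at h3
      have h5 := Nat.mul_le_mul h1 h2
      nlinarith

/-- Let n be a natural number not congruent to 3 modulo 4, with n ∉ {5, 6, 9}. Then every nilpotent subgroup of the alternating group on n letters has order at most the order of a Sylow 2-subgroup of the alternating group (so the nilpotent subgroups of largest order are exactly the Sylow 2-subgroups). -/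
theorem result  (n : ℕ) (hn : n % 4 ≠ 3)
    (h5 : n ≠ 5) (h6 : n ≠ 6) (h9 : n ≠ 9)
    (N : Subgroup (alternatingGroup (Fin n))) (hN : Group.IsNilpotent N)
    (P : Sylow 2 (alternatingGroup (Fin n))) :
    Nat.card N ≤ Nat.card P := by
  haveI : Fact (Nat.Prime 2) := ⟨Nat.prime_two⟩
  classical
  let N' : Subgroup (Equiv.Perm (Fin n)) := N.map (alternatingGroup (Fin n)).subtype
  have e : N ≃* N' := N.equivMapOfInjective _ (alternatingGroup (Fin n)).subtype_injective
  have h := boundAlt n (Fin n) (Fintype.card_fin n) N' ((Group.isNilpotent_congr e).1 hN) (by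
    rintro ⟨_, g, hg, rfl⟩
    exact Equiv.Perm.mem_alternatingGroup.1 g.2)
  rw [← Nat.card_congr e.toEquiv] at h
  by_cases h2 : n < 2
  · have hC : C n = 2 := by simp [C, show n = 0 ∨ n = 1 by omega]
    have := Nat.card_pos (α := (P : Subgroup (alternatingGroup (Fin n))))
    omega
  have hn3 : n ≠ 3 := fun h3 => by subst h3; omega
  have hC : C n = 2 ^ Cfsg.Agent.S2253.v n := by
    unfold C
    rw [if_neg (by omega), if_neg hn3, if_neg h5, if_neg h6, if_neg h9, Cfsg.Agent.S2253.B, if_neg hn, Nat.mul_div_cancel _ (by norm_num)]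
  haveI : Nontrivial (Fin n) := Fin.nontrivial_iff_two_le.2 (by omega)
  have hA : 2 * Nat.card (alternatingGroup (Fin n)) = n.factorial := by
    rw [two_mul_nat_card_alternatingGroup, Nat.card_perm, Nat.card_fin]
  have hP : 2 * Nat.card (P : Subgroup (alternatingGroup (Fin n))) = 2 ^ Cfsg.Agent.S2253.v n := by
    rw [Sylow.card_eq_multiplicity, Nat.factorization_def _ Nat.prime_two, ← pow_succ']
    congr 1
    show _ = padicValNat 2 n.factorial
    rw [← hA, padicValNat.mul (by norm_num) Nat.card_pos.ne', padicValNat_self]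
    ring
  omega

end Cfsg.Agent.S2255
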