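import Cfsg.Statements.S2256
import Cfsg.Agent.S2255
import Mathlib.GroupTheory.Perm.Centralizer
import Mathlib.GroupTheory.Perm.Finite
import Mathlib.GroupTheory.SpecificGroups.Cyclic
-- import your own Cfsg.Agent.* helpers here

set_option autoImplicit false
set_option linter.all false
set_option maxHeartbeats 800000
open Cfsg

namespace Cfsg.Agent.S2256

open Equiv Cfsg.Agent.S2253

theorem v_q2 (q : ℕ) : v (4 * q + 3) = v (4 * q) + 1 ∧ ∀ i, i < 4 * q → v i + 2 ≤ v (4 * q) := by
  have e1 := v_four (4 * q + 3)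
  have e2 := v_four (4 * q)
  refine ⟨?_, fun i hi => ?_⟩
  · rw [show (4 * q + 3) / 4 = q by omega] at e1
    rw [show 4 * q / 4 = q by omega] at e2
    omega
  · have h1 := v_mono (show i ≤ 4 * q - 1 by omega)
    have e3 := v_four (4 * q - 1)
    have h2 := v_mono (show (4 * q - 1) / 4 ≤ q by omega)
    rw [show 4 * q / 4 = q by omega] at e2
    omega

/-- An element of order three with a large nilpotent centralizer of even permutations is a three-cycle. -/
theorem three_cycle {n q : ℕ} (hq : n = 4 * q + 3) {c : Perm (Fin n)} (hc : orderOf c = 3)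
    {Q : Subgroup (Perm (Fin n))} (hQ : Nat.card Q = 2 ^ (v (4 * q) - 1)) (hQc : ∀ x ∈ Q, Commute x c) :
    c.cycleType = {3} := by
  haveI : Fact (Nat.Prime 2) := ⟨Nat.prime_two⟩
  obtain ⟨j, hj⟩ := Perm.cycleType_prime_order (σ := c) (by rw [hc]; exact Nat.prime_three)
  rw [hc] at hj
  have hsum := c.sum_cycleType
  have hle : 3 * (j + 1) ≤ n := by
    have h1 : c.support.card ≤ n := (Finset.card_le_univ _).trans (by simp)
    rw [← hsum, hj, Multiset.sum_replicate, smul_eq_mul] at h1
    omega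
  have hdvd : 2 ^ (v (4 * q) - 1) ∣ (n - 3 * (j + 1)).factorial * 3 ^ (j + 1) * (j + 1).factorial := by
    have h1 : Q ≤ Subgroup.centralizer {c} := fun x hx => Subgroup.mem_centralizer_iff.2 fun y hy => by
      rw [Set.mem_singleton_iff.1 hy]; exact (hQc x hx).symm
    have h2 := Subgroup.card_dvd_of_le h1
    rw [hQ, Perm.nat_card_centralizer, hj, Multiset.sum_replicate, Multiset.prod_replicate, smul_eq_mul,
      Multiset.toFinset_replicate, if_neg (by omega), Finset.prod_singleton, Multiset.count_replicate_self,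
      Fintype.card_fin, mul_comm (j + 1) 3] at h2
    exact h2
  have h4 : v (4 * q) - 1 ≤ v (n - 3 * (j + 1)) + v (j + 1) := by
    have h5 := (padicValNat_dvd_iff_le (Nat.mul_ne_zero (Nat.mul_ne_zero (Nat.factorial_ne_zero _) (by positivity)) (Nat.factorial_ne_zero _))).1 hdvd
    rw [padicValNat.mul (Nat.mul_ne_zero (Nat.factorial_ne_zero _) (by positivity)) (Nat.factorial_ne_zero _),
      padicValNat.mul (Nat.factorial_ne_zero _) (by positivity),
      padicValNat.eq_zero_of_not_dvd (fun h => absurd (Nat.prime_two.dvd_of_dvd_pow h) (by norm_num)), add_zero] at h5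
    exact h5
  by_contra hne
  have hj1 : 1 ≤ j := Nat.pos_of_ne_zero (by
    rintro rfl
    exact hne (by rw [hj]; rfl))
  have h6 := v_add (n - 3 * (j + 1)) (j + 1)
  have h7 := (v_q2 q).2 _ (show n - 3 * (j + 1) + (j + 1) < 4 * q by omega)
  omega

theorem main (q n : ℕ) (hq : n = 4 * q + 3) (hq1 : 1 ≤ q) :
    ∀ (P : Sylow 2 (alternatingGroup (Fin (4 * q)))),
    (∀ N : Subgroup (alternatingGroup (Fin n)), Group.IsNilpotent N → Nat.card N ≤ 3 * Nat.card P) ∧
    (∃ M : Subgroup (alternatingGroup (Fin n)), Group.IsNilpotent M ∧ Nat.card M = 3 * Nat.card P ∧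
      Nonempty (M ≃* (↥(P : Subgroup (alternatingGroup (Fin (4 * q)))) × Multiplicative (ZMod 3)))) ∧
    (∀ N₁ N₂ : Subgroup (alternatingGroup (Fin n)), Group.IsNilpotent N₁ → Group.IsNilpotent N₂ →
      Nat.card N₁ = 3 * Nat.card P → Nat.card N₂ = 3 * Nat.card P →
      ∃ g : alternatingGroup (Fin n), N₂ = N₁.map (MulAut.conj g).toMonoidHom) := by
  classical
  haveI : Fact (Nat.Prime 2) := ⟨Nat.prime_two⟩
  haveI : Fact (Nat.Prime 3) := ⟨Nat.prime_three⟩
  subst hq
  intro P
  haveI : Nontrivial (Fin (4 * q)) := Fin.nontrivial_iff_two_le.2 (by omega)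
  set w := v (4 * q) - 1 with hw
  have hv1 : 1 ≤ v (4 * q) := by have := (v_q2 q).2 0 (by omega); omega
  have hfact : (Nat.card (alternatingGroup (Fin (4 * q)))).factorization 2 = w := by
    have hA : 2 * Nat.card (alternatingGroup (Fin (4 * q))) = (4 * q).factorial := by
      rw [two_mul_nat_card_alternatingGroup, Nat.card_perm, Nat.card_fin]
    have h1 : padicValNat 2 (4 * q).factorial = 1 + padicValNat 2 (Nat.card (alternatingGroup (Fin (4 * q)))) := by
      rw [← hA, padicValNat.mul (by norm_num) Nat.card_pos.ne', padicValNat_self]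
    rw [Nat.factorization_def _ Nat.prime_two, hw]
    show _ = padicValNat 2 (4 * q).factorial - 1
    omega
  have hPc : ∀ S : Sylow 2 (alternatingGroup (Fin (4 * q))), Nat.card (S : Subgroup (alternatingGroup (Fin (4 * q)))) = 2 ^ w := fun S => by
    rw [Sylow.card_eq_multiplicity, hfact]
  let e : Fin (4 * q) ⊕ Fin 3 ≃ Fin (4 * q + 3) := finSumFinEquiv
  let φ : Perm (Fin (4 * q) ⊕ Fin 3) →* Perm (Fin (4 * q + 3)) :=
    { toFun := e.permCongr
      map_one' := by ext; simp
      map_mul' := fun a b => by ext; simp }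
  have hφ : Function.Bijective φ := e.permCongr.bijective
  let f : Perm (Fin (4 * q)) × Perm (Fin 3) →* Perm (Fin (4 * q + 3)) := φ.comp (Perm.sumCongrHom _ _)
  have hf : Function.Injective f := hφ.1.comp Perm.sumCongrHom_injective
  have hsign : ∀ z, Perm.sign (f z) = Perm.sign z.1 * Perm.sign z.2 := fun z => by
    show Perm.sign (e.permCongr (Perm.sumCongr z.1 z.2)) = _
    rw [Perm.sign_permCongr, Perm.sign_sumCongr]
  let r : Perm (Fin 3) := finRotate 3
  have hr : orderOf r = 3 := orderOf_eq_prime (by decide) (by decide)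
  have hrs : Perm.sign r = 1 := by decide
  have hCr : ∀ y : Perm (Fin 3), y * r = r * y → y ^ 3 = 1 := by decide
  let F : alternatingGroup (Fin (4 * q)) × Subgroup.zpowers r →* alternatingGroup (Fin (4 * q + 3)) :=
    (f.comp ((alternatingGroup (Fin (4 * q))).subtype.prodMap (Subgroup.zpowers r).subtype)).codRestrict _ (fun z => by
      rw [Perm.mem_alternatingGroup]
      show Perm.sign (f ((z.1 : Perm (Fin (4 * q))), (z.2 : Perm (Fin 3)))) = 1
      obtain ⟨k, hk⟩ := Subgroup.mem_zpowers_iff.1 z.2.2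
      rw [hsign, ← hk, map_zpow, hrs, one_zpow, mul_one]
      exact Perm.mem_alternatingGroup.1 z.1.2)
  have hF : Function.Injective F := fun a b h => by
    have h1 := hf (congrArg Subtype.val h)
    exact Prod.ext (Subtype.ext (congrArg Prod.fst h1)) (Subtype.ext (congrArg Prod.snd h1))
  let M : Sylow 2 (alternatingGroup (Fin (4 * q))) → Subgroup (alternatingGroup (Fin (4 * q + 3))) := fun S =>
    ((S : Subgroup (alternatingGroup (Fin (4 * q)))).prod ⊤).map F
  have eM : ∀ S, M S ≃* (↥(S : Subgroup (alternatingGroup (Fin (4 * q)))) × Multiplicative (ZMod 3)) := fun S =>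
    ((Subgroup.equivMapOfInjective _ F hF).symm.trans (Subgroup.prodEquiv _ _)).trans
      ((MulEquiv.refl _).prodCongr (Subgroup.topEquiv.trans (mulEquivOfPrimeCardEq (p := 3) (by rw [Nat.card_zpowers, hr]) (by simp))))
  have hM : ∀ S, Nat.card (M S) = 3 * 2 ^ w := fun S => by
    rw [Nat.card_congr (eM S).toEquiv, Nat.card_prod, hPc S, mul_comm]
    simp
  set c0 := f (1, r) with hc0
  have hc0o : orderOf c0 = 3 := by
    rw [hc0, orderOf_injective f hf, Prod.orderOf, orderOf_one, hr]; rfl
  have hc0t : c0.cycleType = {3} := three_cycle rfl hc0o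
    (Q := (((P : Subgroup (alternatingGroup (Fin (4 * q)))).map (alternatingGroup (Fin (4 * q))).subtype).prod ⊥).map f)
    (by rw [Nat.card_congr (Subgroup.equivMapOfInjective _ f hf).toEquiv.symm, Nat.card_congr (Subgroup.prodEquiv _ _).toEquiv,
        Nat.card_prod, Subgroup.card_map_of_injective (alternatingGroup (Fin (4 * q))).subtype_injective, hPc P, Subgroup.card_bot, mul_one])
    (by
      rintro _ ⟨⟨x, y⟩, ⟨-, hy⟩, rfl⟩
      rw [hc0, show y = 1 from Subgroup.mem_bot.1 hy]
      show f (x, 1) * f (1, r) = f (1, r) * f (x, 1)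
      rw [← map_mul, ← map_mul]; simp)
  let C0 : alternatingGroup (Fin (4 * q + 3)) := F (1, ⟨r, Subgroup.mem_zpowers r⟩)
  have hC0 : (C0 : Perm (Fin (4 * q + 3))) = c0 := rfl
  have key : ∀ N : Subgroup (alternatingGroup (Fin (4 * q + 3))), Group.IsNilpotent N → Nat.card N = 3 * Nat.card P →
      ∃ g S, N = (M S).map (MulAut.conj g).toMonoidHom := by
    intro N hN hcard
    haveI := hN
    rw [hPc P] at hcard
    obtain ⟨P2⟩ : Nonempty (Sylow 2 N) := inferInstance
    obtain ⟨P3⟩ : Nonempty (Sylow 3 N) := inferInstance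
    have hP2c : Nat.card (P2 : Subgroup N) = 2 ^ w := by
      rw [Sylow.card_eq_multiplicity, hcard, Nat.factorization_mul (by norm_num) (by positivity)]
      congr 1
      simp [Nat.prime_three.factorization, Nat.prime_two.factorization_pow]
    have hP3c : Nat.card (P3 : Subgroup N) = 3 := by
      rw [Sylow.card_eq_multiplicity, hcard, Nat.factorization_mul (by norm_num) (by positivity)]
      simp [Nat.prime_three.factorization, Nat.prime_two.factorization_pow]
    have h2n : (P2 : Subgroup N).Normal := P2.normal_of_normalizerCondition Group.normalizerCondition_of_isNilpotent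
    have h3n : (P3 : Subgroup N).Normal := P3.normal_of_normalizerCondition Group.normalizerCondition_of_isNilpotent
    have hdis : Disjoint (P2 : Subgroup N) (P3 : Subgroup N) := by
      rw [disjoint_iff]
      refine Subgroup.inf_eq_bot_of_coprime ?_
      rw [hP2c, hP3c]
      exact (by norm_num : Nat.Coprime 2 3).pow_left _
    obtain ⟨c, hc⟩ := exists_prime_orderOf_dvd_card' 3 (show 3 ∣ Nat.card (P3 : Subgroup N) by rw [hP3c])
    let ι : N →* Perm (Fin (4 * q + 3)) := (alternatingGroup (Fin (4 * q + 3))).subtype.comp N.subtype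
    have hι : Function.Injective ι := (alternatingGroup (Fin (4 * q + 3))).subtype_injective.comp N.subtype_injective
    have hcomm : ∀ x ∈ (P2 : Subgroup N).map ι, Commute x (ι (c : N)) := by
      rintro _ ⟨x, hx, rfl⟩
      exact congrArg ι (Subgroup.commute_of_normal_of_disjoint _ _ h2n h3n hdis x (c : N) hx c.2) |> fun t => by
        rwa [map_mul, map_mul] at t
    have hct := three_cycle rfl (show orderOf (ι (c : N)) = 3 by
      rw [orderOf_injective ι hι, Subgroup.orderOf_coe, hc]) (by rw [Subgroup.card_map_of_injective hι, hP2c]) hcomm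
    obtain ⟨g₀, hg₀⟩ := isConj_iff.1 (Perm.isConj_iff_cycleType_eq.2 (hct.trans hc0t.symm))
    -- make the conjugating element even
    obtain ⟨g, hg, hgA⟩ : ∃ g : Perm (Fin (4 * q + 3)), g * ι (c : N) * g⁻¹ = c0 ∧ Perm.sign g = 1 := by
      rcases Int.units_eq_one_or (Perm.sign g₀) with h | h
      · exact ⟨g₀, hg₀, h⟩
      · let τ : Perm (Fin (4 * q)) := Equiv.swap ⟨0, by omega⟩ ⟨1, by omega⟩
        refine ⟨f (τ, 1) * g₀, ?_, ?_⟩
        · rw [show f (τ, 1) * g₀ * ι (c : N) * (f (τ, 1) * g₀)⁻¹ = f (τ, 1) * (g₀ * ι (c : N) * g₀⁻¹) * (f (τ, 1))⁻¹ by group,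
            hg₀, hc0, ← map_inv, ← map_mul, ← map_mul]
          simp
        · rw [map_mul, hsign, h, map_one, mul_one, Perm.sign_swap (by simp [Fin.ext_iff])]
          rfl
    let G : alternatingGroup (Fin (4 * q + 3)) := ⟨g, Perm.mem_alternatingGroup.2 hgA⟩
    set Q := (P2 : Subgroup N).map ((MulAut.conj g).toMonoidHom.comp ι) with hQ
    have hQc : Nat.card Q = 2 ^ w := by
      rw [hQ, Subgroup.card_map_of_injective (f := (MulAut.conj g).toMonoidHom.comp ι) ((MulAut.conj g).injective.comp hι), hP2c]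
    have hQsub : ∀ x ∈ Q, ∃ y : alternatingGroup (Fin (4 * q)), f ((y : Perm (Fin (4 * q))), 1) = x := by
      intro x hx
      obtain ⟨i, hi⟩ := IsPGroup.iff_orderOf.1 (IsPGroup.of_card hQc) ⟨x, hx⟩
      rw [Subgroup.orderOf_mk] at hi
      have hxs : Perm.sign x = 1 := by
        obtain ⟨x', -, rfl⟩ := hx
        show Perm.sign (g * ι x' * g⁻¹) = 1
        rw [map_mul, map_mul, map_inv, hgA, one_mul, inv_one, mul_one]
        exact Perm.mem_alternatingGroup.1 (x' : alternatingGroup (Fin (4 * q + 3))).2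
      have hxc : Commute x c0 := by
        obtain ⟨x', hx', rfl⟩ := hx
        rw [← hg]
        exact (hcomm _ ⟨x', hx', rfl⟩).map (MulAut.conj g).toMonoidHom
      obtain ⟨s, hs⟩ := hφ.2 x
      have hsc : Commute s (Perm.sumCongrHom _ _ ((1 : Perm (Fin (4 * q))), r)) := hφ.1 (by
        rw [map_mul, map_mul, hs]; exact hxc)
      have hmaps : Set.MapsTo s (Set.range (Sum.inl : Fin (4 * q) → Fin (4 * q) ⊕ Fin 3)) (Set.range Sum.inl) := by
        rintro _ ⟨a, rfl⟩
        rcases hsa : s (Sum.inl a) with b | b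
        · exact ⟨b, rfl⟩
        · exfalso
          have := congrArg (fun t : Perm (Fin (4 * q) ⊕ Fin 3) => t (Sum.inl a)) hsc.eq
          simp [Perm.sumCongrHom, hsa] at this
          first
            | exact absurd this ((by decide : ∀ b : Fin 3, finRotate 3 b ≠ b) b)
            | exact absurd this.symm ((by decide : ∀ b : Fin 3, finRotate 3 b ≠ b) b)
      obtain ⟨⟨y, z⟩, hyz⟩ := Perm.mem_sumCongrHom_range_of_perm_mapsTo_inl hmaps
      have hx' : x = f (y, z) := by rw [← hs, ← hyz]; rfl
      have h1 : z * r = r * z := by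
        have := hf (show f ((y, z) * (1, r)) = f ((1, r) * (y, z)) by rw [map_mul, map_mul, ← hx']; exact hxc)
        exact congrArg Prod.snd this
      have h2 : orderOf (y, z) = 2 ^ i := by rw [← orderOf_injective f hf, ← hx', hi]
      have h3 : orderOf z ∣ 2 ^ i := h2 ▸ orderOf_map_dvd (MonoidHom.snd _ _) (y, z)
      have h4 : orderOf z ∣ 3 := orderOf_dvd_of_pow_eq_one (hCr z h1)
      have h5 : orderOf z = 1 := Nat.eq_one_of_dvd_coprimes ((by norm_num : Nat.Coprime 2 3).pow_left i) h3 h4
      rw [orderOf_eq_one_iff] at h5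
      subst h5
      refine ⟨⟨y, Perm.mem_alternatingGroup.2 ?_⟩, hx'.symm⟩
      rw [hx', hsign, map_one, mul_one] at hxs
      exact hxs
    let j : alternatingGroup (Fin (4 * q)) →* Perm (Fin (4 * q + 3)) :=
      (f.comp (MonoidHom.inl _ _)).comp (alternatingGroup (Fin (4 * q))).subtype
    have hj : Function.Injective j := fun a b h => Subtype.ext (congrArg Prod.fst (hf h))
    let P1 : Subgroup (alternatingGroup (Fin (4 * q))) := Q.comap j
    have hP1 : P1.map j = Q := Subgroup.map_comap_eq_self (fun x hx => by obtain ⟨y, hy⟩ := hQsub x hx; exact ⟨y, hy⟩)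
    have hP1c : Nat.card P1 = 2 ^ (Nat.card (alternatingGroup (Fin (4 * q)))).factorization 2 := by
      rw [hfact, ← hQc, ← hP1, Subgroup.card_map_of_injective hj]
    refine ⟨G⁻¹, Sylow.ofCard P1 hP1c, ?_⟩
    have hle : M (Sylow.ofCard P1 hP1c) ≤ N.map (MulAut.conj G).toMonoidHom := by
      rintro _ ⟨⟨y, ⟨z, hz⟩⟩, ⟨hy, -⟩, rfl⟩
      obtain ⟨k, rfl⟩ := Subgroup.mem_zpowers_iff.1 hz
      rw [show ((y, ⟨r ^ k, hz⟩) : alternatingGroup (Fin (4 * q)) × Subgroup.zpowers r) = (y, 1) * (1, ⟨r, Subgroup.mem_zpowers r⟩) ^ k by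
        ext <;> simp, map_mul, map_zpow]
      refine Subgroup.mul_mem _ ?_ (Subgroup.zpow_mem _ ?_ k)
      · obtain ⟨x', -, e'⟩ := (show j y ∈ Q from hy)
        exact ⟨(x' : alternatingGroup (Fin (4 * q + 3))), x'.2, Subtype.ext e'⟩
      · exact ⟨((c : N) : alternatingGroup (Fin (4 * q + 3))), (c : N).2, Subtype.ext hg⟩
    have heq := Subgroup.eq_of_le_of_card_ge hle (by
      rw [Subgroup.card_map_of_injective (MulAut.conj G).injective, hcard, hM])
    rw [heq, Subgroup.map_map, show (MulAut.conj G⁻¹).toMonoidHom.comp (MulAut.conj G).toMonoidHom = MonoidHom.id _ from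
      MonoidHom.ext fun x => by simp [mul_assoc], Subgroup.map_id]
  refine ⟨fun N hN => ?_, ⟨M P, ?_, by rw [hM, hPc P], ⟨eM P⟩⟩, fun N₁ N₂ h1 h2 hc1 hc2 => ?_⟩
  · let N' : Subgroup (Perm (Fin (4 * q + 3))) := N.map (alternatingGroup (Fin (4 * q + 3))).subtype
    have e' : N ≃* N' := N.equivMapOfInjective _ (alternatingGroup (Fin (4 * q + 3))).subtype_injective
    have h := S2255.boundAlt (4 * q + 3) (Fin (4 * q + 3)) (Fintype.card_fin _) N' ((Group.isNilpotent_congr e').1 hN) (by
      rintro ⟨_, x, hx, rfl⟩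
      exact Perm.mem_alternatingGroup.1 x.2)
    rw [← Nat.card_congr e'.toEquiv] at h
    unfold S2255.C B at h
    rw [if_neg (by omega), if_neg (by omega), if_neg (by omega), if_neg (by omega), if_neg (by omega),
      if_pos (by omega), (v_q2 q).1, show v (4 * q) + 1 = w + 2 by omega, pow_succ, pow_succ] at h
    rw [hPc P]
    omega
  · haveI : Group.IsNilpotent (P : Subgroup (alternatingGroup (Fin (4 * q)))) := P.2.isNilpotent
    exact (Group.isNilpotent_congr (eM P).symm).1 inferInstance
  · obtain ⟨g₁, S₁, e₁⟩ := key N₁ h1 hc1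
    obtain ⟨g₂, S₂, e₂⟩ := key N₂ h2 hc2
    obtain ⟨h, hh⟩ := MulAction.exists_smul_eq (alternatingGroup (Fin (4 * q))) S₁ S₂
    have hMM : M S₂ = (M S₁).map (MulAut.conj (F (h, 1))).toMonoidHom := by
      simp only [M, Subgroup.map_map]
      rw [← hh, Sylow.coe_subgroup_smul]
      ext x
      simp only [Subgroup.mem_map, Subgroup.mem_prod, Prod.exists, MonoidHom.comp_apply, Subgroup.mem_smul_pointwise_iff_exists]
      constructor
      · rintro ⟨a, b, ⟨⟨a', ha', rfl⟩, hb⟩, rfl⟩
        exact ⟨a', b, ⟨ha', hb⟩, by simp [← map_mul, ← map_inv, MulAut.smul_def]⟩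
      · rintro ⟨a, b, ⟨ha, hb⟩, rfl⟩
        exact ⟨_, b, ⟨⟨a, ha, rfl⟩, hb⟩, by simp [← map_mul, ← map_inv, MulAut.smul_def]⟩
    refine ⟨g₂ * F (h, 1) * g₁⁻¹, ?_⟩
    rw [e₂, e₁, hMM]
    simp only [M, Subgroup.map_map]
    refine congrArg (fun t : alternatingGroup (Fin (4 * q)) × Subgroup.zpowers r →* alternatingGroup (Fin (4 * q + 3)) => Subgroup.map t _) (MonoidHom.ext fun x => ?_)
    simp [mul_assoc]

/-- Let n ≡ 3 (mod 4) with n ≥ 7. Then every nilpotent subgroup of the alternating group on n letters has order at most 3 times the order of a Sylow 2-subgroup of the alternating group on n − 3 letters; the bound is attained by a nilpotent subgroup isomorphic to the direct product of such a Sylow 2-subgroup with a cyclic group of order 3; and any two nilpotent subgroups of the alternating group attaining the bound are conjugate in it. -/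
theorem result  (n : ℕ) (hn : n % 4 = 3) (h7 : 7 ≤ n)
    (P : Sylow 2 (alternatingGroup (Fin (n - 3)))) :
    (∀ N : Subgroup (alternatingGroup (Fin n)), Group.IsNilpotent N → Nat.card N ≤ 3 * Nat.card P) ∧
    (∃ M : Subgroup (alternatingGroup (Fin n)), Group.IsNilpotent M ∧ Nat.card M = 3 * Nat.card P ∧
      Nonempty (M ≃* (↥(P : Subgroup (alternatingGroup (Fin (n - 3)))) × Multiplicative (ZMod 3)))) ∧
    (∀ N₁ N₂ : Subgroup (alternatingGroup (Fin n)), Group.IsNilpotent N₁ → Group.IsNilpotent N₂ →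
      Nat.card N₁ = 3 * Nat.card P → Nat.card N₂ = 3 * Nat.card P →
      ∃ g : alternatingGroup (Fin n), N₂ = N₁.map (MulAut.conj g).toMonoidHom) := by
  obtain ⟨q, rfl⟩ : ∃ q, n = 4 * q + 3 := ⟨n / 4, by omega⟩
  exact main q (4 * q + 3) rfl (by omega) P

end Cfsg.Agent.S2256
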