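import Cfsg.Statements.S2270


set_option autoImplicit false
open Cfsg

namespace Cfsg.Agent.S2270

/-- Let n ≥ 3, p an odd prime, and P an abelian Sylow p-subgroup of the symmetric group S_n (with p dividing n!, so that P ≠ 1). Then N(P)/C(P) has even order. -/
theorem result (n : ℕ) (hn : 3 ≤ n) {p : ℕ} [Fact p.Prime] (hp : p ≠ 2) (hpn : p ≤ n)
    (P : Sylow p (Equiv.Perm (Fin n))) (hP : IsMulCommutative (P : Subgroup (Equiv.Perm (Fin n)))) :
    2 ∣ ((Subgroup.centralizer ((P : Subgroup (Equiv.Perm (Fin n))) : Set (Equiv.Perm (Fin n)))).subgroupOf (Subgroup.normalizer ((P : Subgroup (Equiv.Perm (Fin n))) : Set (Equiv.Perm (Fin n))))).index := by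
  classical
  set S : Subgroup (Equiv.Perm (Fin n)) := (P : Subgroup (Equiv.Perm (Fin n))) with hS
  have hpdvd : p ∣ Nat.card (Equiv.Perm (Fin n)) := by
    rw [Nat.card_perm, Nat.card_eq_fintype_card, Fintype.card_fin]
    exact Nat.dvd_factorial (Nat.Prime.pos Fact.out) hpn
  have hne : S ≠ ⊥ := P.ne_bot_of_dvd_card hpdvd
  obtain ⟨g, hgS, hg1⟩ := (Subgroup.bot_or_exists_ne_one S).resolve_left hne
  have hginv : g⁻¹ ≠ g := by
    intro h
    have h2 : g ^ 2 = 1 := by rw [pow_two]; exact inv_eq_iff_mul_eq_one.1 h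
    obtain ⟨e, he⟩ := (P.isPGroup' ⟨g, hgS⟩)
    have he' : g ^ p ^ e = 1 := congrArg Subtype.val he
    have hd := Nat.dvd_gcd (orderOf_dvd_of_pow_eq_one he') (orderOf_dvd_of_pow_eq_one h2)
    have hc : Nat.Coprime (p ^ e) 2 :=
      Nat.Coprime.pow_left e ((Nat.coprime_primes Fact.out Nat.prime_two).2 hp)
    rw [hc.gcd_eq_one, Nat.dvd_one, orderOf_eq_one_iff] at hd
    exact hg1 hd
  obtain ⟨c, hc⟩ := isConj_iff.1 (Equiv.Perm.isConj_iff_cycleType_eq.2 (Equiv.Perm.cycleType_inv g).symm :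
    IsConj g g⁻¹)
  haveI := hP
  obtain ⟨m, hm, hmg⟩ := P.conj_eq_normalizer_conj_of_mem g c⁻¹ hgS
    (by rw [inv_inv, hc]; exact inv_mem hgS)
  rw [inv_inv, hc] at hmg
  set N := Subgroup.normalizer (S : Set (Equiv.Perm (Fin n))) with hN
  set C := (Subgroup.centralizer (S : Set (Equiv.Perm (Fin n)))).subgroupOf N with hC
  haveI : C.Normal := by
    refine ⟨fun x hx y => ?_⟩
    rw [hC, Subgroup.mem_subgroupOf, Subgroup.mem_centralizer_iff] at hx ⊢
    intro s hs
    have hs' := (Subgroup.mem_normalizer_iff''.1 y.2 s).1 hs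
    have h := hx _ hs'
    simp only [Subgroup.coe_mul, Subgroup.coe_inv]
    calc s * ((y : Equiv.Perm (Fin n)) * x * (y : Equiv.Perm (Fin n))⁻¹)
        = y * (((y : Equiv.Perm (Fin n))⁻¹ * s * y) * x) * (y : Equiv.Perm (Fin n))⁻¹ := by group
      _ = y * (x * ((y : Equiv.Perm (Fin n))⁻¹ * s * y)) * (y : Equiv.Perm (Fin n))⁻¹ := by rw [h]
      _ = _ := by group
  let x : ↥N ⧸ C := QuotientGroup.mk ⟨m, hm⟩
  have hodd : ∀ j : ℕ, (m ^ j)⁻¹ * g * m ^ j = if Even j then g else g⁻¹ := by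
    intro j
    induction j with
    | zero => simp
    | succ j ih =>
      rw [pow_succ, mul_inv_rev]
      have : m⁻¹ * (m ^ j)⁻¹ * g * (m ^ j * m) = m⁻¹ * ((m ^ j)⁻¹ * g * m ^ j) * m := by group
      rw [this, ih]
      by_cases hj : Even j
      · rw [if_pos hj, if_neg (by simp [Nat.even_add_one, hj]), ← hmg]
      · rw [if_neg hj, if_pos (by simp [Nat.even_add_one, hj])]
        calc m⁻¹ * g⁻¹ * m = (m⁻¹ * g * m)⁻¹ := by group
          _ = g := by rw [← hmg, inv_inv]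
  have heven : Even (orderOf x) := by
    by_contra hx
    have h1 : x ^ orderOf x = 1 := pow_orderOf_eq_one x
    rw [← QuotientGroup.mk_pow, QuotientGroup.eq_one_iff] at h1
    simp only [hC, Subgroup.mem_subgroupOf, Subgroup.mem_centralizer_iff] at h1
    have h2 := hodd (orderOf x)
    have h3 : g * m ^ orderOf x = m ^ orderOf x * g := h1 g hgS
    rw [if_neg hx, mul_assoc, h3, inv_mul_cancel_left] at h2
    exact hginv h2.symm
  rw [Subgroup.index_eq_card]
  exact heven.two_dvd.trans (orderOf_dvd_natCard x)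

end Cfsg.Agent.S2270
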