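import Cfsg.Statements.S2301
import Cfsg.Agent.Misc.SLTwoCount

set_option autoImplicit false
open Cfsg

namespace Cfsg.Agent.S2301

/-- Over a finite field with q elements of odd characteristic p, the elements of order p of SL₂ (the non-identity unipotent elements) fall into exactly two conjugacy classes, each of size (q² − 1)/2; two upper unitriangular matrices with non-zero off-diagonal entries b and b′ are conjugate exactly when bb′ is a square. -/
theorem result {F : Type*} [Field F] [Fintype F] (p : ℕ) [Fact p.Prime] [CharP F p] (hp : p ≠ 2) :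
    Nat.card {C : ConjClasses (Matrix.SpecialLinearGroup (Fin 2) F) // ∃ g : Matrix.SpecialLinearGroup (Fin 2) F, orderOf g = p ∧ ConjClasses.mk g = C} = 2 ∧
    (∀ g : Matrix.SpecialLinearGroup (Fin 2) F, orderOf g = p → Nat.card (ConjClasses.mk g).carrier = (Fintype.card F ^ 2 - 1) / 2) ∧
    ∀ g h : Matrix.SpecialLinearGroup (Fin 2) F, (g : Matrix (Fin 2) (Fin 2) F) 0 0 = 1 → (g : Matrix (Fin 2) (Fin 2) F) 1 1 = 1 → (g : Matrix (Fin 2) (Fin 2) F) 1 0 = 0 → (g : Matrix (Fin 2) (Fin 2) F) 0 1 ≠ 0 →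
      (h : Matrix (Fin 2) (Fin 2) F) 0 0 = 1 → (h : Matrix (Fin 2) (Fin 2) F) 1 1 = 1 → (h : Matrix (Fin 2) (Fin 2) F) 1 0 = 0 → (h : Matrix (Fin 2) (Fin 2) F) 0 1 ≠ 0 →
      (IsConj g h ↔ IsSquare ((g : Matrix (Fin 2) (Fin 2) F) 0 1 * (h : Matrix (Fin 2) (Fin 2) F) 0 1)) := by
  classical
  have hch : ringChar F = p := ringChar.eq F p
  have hodd : Odd (Fintype.card F) := Nat.odd_iff.2 (FiniteField.odd_card_of_char_ne_two (hch ▸ hp))
  have h2 : (2 : F) ≠ 0 := Ring.two_ne_zero (hch ▸ hp)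
  let u : F → Matrix.SpecialLinearGroup (Fin 2) F := fun x => ⟨!![1, x; 0, 1], by simp [Matrix.det_fin_two]⟩
  have hconj : ∀ x y : F, x ≠ 0 → (IsConj (u x) (u y) ↔ ∃ r : F, r ≠ 0 ∧ y = r ^ 2 * x) := by
    intro x y hx
    rw [isConj_iff]
    constructor
    · rintro ⟨k, hk⟩
      rw [mul_inv_eq_iff_eq_mul] at hk
      have hk' : (k : Matrix (Fin 2) (Fin 2) F) * !![1, x; 0, 1] = !![1, y; 0, 1] * (k : Matrix (Fin 2) (Fin 2) F) :=
        congrArg (fun z : Matrix.SpecialLinearGroup (Fin 2) F => (z : Matrix (Fin 2) (Fin 2) F)) hk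
      have a11 := congrFun (congrFun hk' 1) 1
      have a01 := congrFun (congrFun hk' 0) 1
      simp [Matrix.mul_apply, Fin.sum_univ_two] at a11 a01
      have hd : (k : Matrix (Fin 2) (Fin 2) F).det = 1 := k.2
      have k10 : (k : Matrix (Fin 2) (Fin 2) F) 1 0 = 0 := a11.resolve_right hx
      rw [Matrix.det_fin_two, k10, mul_zero, sub_zero] at hd
      exact ⟨(k : Matrix (Fin 2) (Fin 2) F) 0 0, left_ne_zero_of_mul_eq_one hd,
        by linear_combination -(k : Matrix (Fin 2) (Fin 2) F) 0 0 * a01 - y * hd⟩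
    · rintro ⟨r, hr, rfl⟩
      refine ⟨⟨!![r, 0; 0, r⁻¹], by simp [Matrix.det_fin_two, mul_inv_cancel₀ hr]⟩, ?_⟩
      refine (mul_inv_eq_iff_eq_mul (G := Matrix.SpecialLinearGroup (Fin 2) F)).2 (Subtype.ext ?_)
      show !![r, 0; 0, r⁻¹] * !![1, x; 0, 1] = !![1, r ^ 2 * x; 0, 1] * !![r, 0; 0, r⁻¹]
      simp
      field_simp
  have hu1 : ∀ x : F, x ≠ 0 → u x ≠ 1 ∧ u x ≠ -1 := fun x hx =>
    ⟨fun h => hx (by simpa [u] using congrArg (fun z : Matrix.SpecialLinearGroup (Fin 2) F => (z : Matrix (Fin 2) (Fin 2) F) 0 1) h),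
     fun h => h2 (by
      have := congrArg (fun z : Matrix.SpecialLinearGroup (Fin 2) F => (z : Matrix (Fin 2) (Fin 2) F) 0 0) h
      simp [u] at this
      linear_combination this)⟩
  have upow : ∀ (x : F) (n : ℕ), (u x) ^ n = u (n * x) := by
    intro x n
    induction n with
    | zero => refine Subtype.ext ?_; simp [u]; exact Matrix.one_fin_two
    | succ n ih =>
      rw [pow_succ, ih]
      refine Subtype.ext ?_
      show !![1, (n : F) * x; 0, 1] * !![1, x; 0, 1] = !![1, ((n + 1 : ℕ) : F) * x; 0, 1]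
      simp
      ring
  have hord : ∀ x : F, x ≠ 0 → orderOf (u x) = p := fun x hx =>
    orderOf_eq_prime (by rw [upow, CharP.cast_eq_zero, zero_mul]; refine Subtype.ext ?_; simp [u]; exact Matrix.one_fin_two.symm)
      (hu1 x hx).1
  have hclass : ∀ g : Matrix.SpecialLinearGroup (Fin 2) F, orderOf g = p → ∃ x : F, x ≠ 0 ∧ IsConj g (u x) := by
    intro g hg
    have hgp : g ^ p = 1 := hg ▸ pow_orderOf_eq_one g
    have hg1 : g ≠ 1 := by
      rintro rfl
      rw [orderOf_one] at hg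
      exact (Fact.out : p.Prime).one_lt.ne hg
    set M := (g : Matrix (Fin 2) (Fin 2) F) with hM
    have hn : (M - 1) ^ p = 0 := by
      rw [sub_pow_char_of_commute p (Commute.one_right M), one_pow, hM, ← Matrix.SpecialLinearGroup.coe_pow, hgp]
      simp
    obtain ⟨v, hv0, hv1⟩ := Matrix.exists_mulVec_eq_zero_iff.2 (show (M - 1).det = 0 from
      pow_eq_zero_iff (Fact.out : p.Prime).ne_zero |>.1 (by rw [← Matrix.det_pow, hn, Matrix.det_zero]))
    rw [Matrix.sub_mulVec, Matrix.one_mulVec, sub_eq_zero] at hv1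
    obtain ⟨P, hP0, hP1⟩ : ∃ P : Matrix.SpecialLinearGroup (Fin 2) F, (P : Matrix (Fin 2) (Fin 2) F) 0 0 = v 0 ∧ (P : Matrix (Fin 2) (Fin 2) F) 1 0 = v 1 := by
      by_cases h0 : v 0 = 0
      · have h1 : v 1 ≠ 0 := fun e => hv0 (funext fun i => by fin_cases i <;> assumption)
        exact ⟨⟨!![0, -(v 1)⁻¹; v 1, 0], by simp [Matrix.det_fin_two, h1]⟩, h0.symm, rfl⟩
      · exact ⟨⟨!![v 0, 0; v 1, (v 0)⁻¹], by simp [Matrix.det_fin_two, h0]⟩, rfl, rfl⟩
    set G' := P⁻¹ * g * P with hG'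
    have hGc : P * G' = g * P := by rw [hG']; group
    have hGm : (P : Matrix (Fin 2) (Fin 2) F) * (G' : Matrix (Fin 2) (Fin 2) F) = M * (P : Matrix (Fin 2) (Fin 2) F) :=
      congrArg (fun z : Matrix.SpecialLinearGroup (Fin 2) F => (z : Matrix (Fin 2) (Fin 2) F)) hGc
    have e0 := congrFun (congrFun hGm 0) 0
    have e1 := congrFun (congrFun hGm 1) 0
    have f0 := congrFun hv1 0
    have f1 := congrFun hv1 1
    simp [Matrix.mulVec, dotProduct, Matrix.mul_apply, Fin.sum_univ_two] at e0 e1 f0 f1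
    rw [hP0, hP1] at e0 e1
    rw [f0] at e0
    rw [f1] at e1
    have hPd : (P : Matrix (Fin 2) (Fin 2) F).det = 1 := P.2
    rw [Matrix.det_fin_two, hP0, hP1] at hPd
    have g00 : (G' : Matrix (Fin 2) (Fin 2) F) 0 0 = 1 := by
      linear_combination (P : Matrix (Fin 2) (Fin 2) F) 1 1 * e0 - (P : Matrix (Fin 2) (Fin 2) F) 0 1 * e1 -
        ((G' : Matrix (Fin 2) (Fin 2) F) 0 0 - 1) * hPd
    have g10 : (G' : Matrix (Fin 2) (Fin 2) F) 1 0 = 0 := by
      linear_combination v 0 * e1 - v 1 * e0 - (G' : Matrix (Fin 2) (Fin 2) F) 1 0 * hPd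
    have hGd : (G' : Matrix (Fin 2) (Fin 2) F).det = 1 := G'.2
    rw [Matrix.det_fin_two, g00, g10, one_mul, mul_zero, sub_zero] at hGd
    have hG : G' = u ((G' : Matrix (Fin 2) (Fin 2) F) 0 1) := Subtype.ext (by
      show (G' : Matrix (Fin 2) (Fin 2) F) = !![1, (G' : Matrix (Fin 2) (Fin 2) F) 0 1; 0, 1]
      conv_lhs => rw [Matrix.eta_fin_two (G' : Matrix (Fin 2) (Fin 2) F), g00, g10, hGd])
    have hx : (G' : Matrix (Fin 2) (Fin 2) F) 0 1 ≠ 0 := by
      intro h
      refine hg1 ?_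
      rw [h, show u 0 = 1 from Subtype.ext (by simp [u]; exact Matrix.one_fin_two.symm), hG', mul_assoc, inv_mul_eq_one] at hG
      exact (mul_eq_right.1 hG.symm)
    exact ⟨_, hx, hG ▸ isConj_iff.2 ⟨P⁻¹, by rw [inv_inv]⟩⟩
  have hsq : ∀ x y : F, x ≠ 0 → y ≠ 0 → ((∃ r : F, r ≠ 0 ∧ y = r ^ 2 * x) ↔ IsSquare (x * y)) := by
    intro x y hx hy
    constructor
    · rintro ⟨r, -, rfl⟩
      exact ⟨r * x, by ring⟩
    · rintro ⟨s, hs⟩
      have hs0 : s ≠ 0 := fun e => mul_ne_zero hx hy (by rw [hs, e, mul_zero])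
      refine ⟨s / x, div_ne_zero hs0 hx, ?_⟩
      field_simp
      linear_combination hs
  refine ⟨?_, fun g hg => ?_, fun g h g00 g11 g10 g01 h00 h11 h10 h01 => ?_⟩
  · obtain ⟨ν, hν⟩ := FiniteField.exists_nonsquare (F := F) (hch ▸ hp)
    have hν0 : ν ≠ 0 := fun e => hν (by rw [e]; exact IsSquare.zero)
    rw [Nat.card_eq_two_iff]
    refine ⟨⟨_, u 1, hord 1 one_ne_zero, rfl⟩, ⟨_, u ν, hord ν hν0, rfl⟩, fun e => ?_, Set.eq_univ_of_forall ?_⟩
    · have := (hsq 1 ν one_ne_zero hν0).1 ((hconj 1 ν one_ne_zero).1 (ConjClasses.mk_eq_mk_iff_isConj.1 (congrArg Subtype.val e)))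
      rw [one_mul] at this
      exact hν this
    · rintro ⟨C, g, hg, rfl⟩
      obtain ⟨x, hx, hgx⟩ := hclass g hg
      simp only [Set.mem_insert_iff, Set.mem_singleton_iff, Subtype.mk.injEq, ConjClasses.mk_eq_mk_iff_isConj]
      by_cases hs : IsSquare x
      · exact Or.inl (hgx.trans ((hconj 1 x one_ne_zero).2 ((hsq 1 x one_ne_zero hx).2 (by rwa [one_mul]))).symm)
      · refine Or.inr (hgx.trans ((hconj x ν hx).2 ((hsq x ν hx hν0).2 ?_)))
        rw [FiniteField.isSquare_iff (hch ▸ hp) (mul_ne_zero hx hν0), mul_pow]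
        rw [FiniteField.isSquare_iff (hch ▸ hp) hx] at hs
        rw [FiniteField.isSquare_iff (hch ▸ hp) hν0] at hν
        rw [(FiniteField.pow_dichotomy (hch ▸ hp) hx).resolve_left hs,
          (FiniteField.pow_dichotomy (hch ▸ hp) hν0).resolve_left hν]
        simp
  · obtain ⟨x, hx, hgx⟩ := hclass g hg
    have hcl : ConjClasses.mk g = ConjClasses.mk (u x) := ConjClasses.mk_eq_mk_iff_isConj.2 hgx
    rw [hcl]
    have hG : Nat.card (Matrix.SpecialLinearGroup (Fin 2) F) = Fintype.card F * (Fintype.card F ^ 2 - 1) := by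
      rw [CfsgLib.Misc.SLTwoCount.card_SL, show Fintype.card F ^ 2 - 1 = (Fintype.card F + 1) * (Fintype.card F - 1) by
        rw [← Nat.sq_sub_sq, one_pow]]
      ring
    have hc : Nat.card (Subgroup.centralizer ({u x} : Set (Matrix.SpecialLinearGroup (Fin 2) F))) = 2 * Fintype.card F := by
      rw [CfsgLib.Misc.SLTwoOdd.card_centralizer (hu1 x hx).1 (hu1 x hx).2, CfsgLib.Misc.SLTwoOdd.card_unip h2]
      simp [CfsgLib.Misc.PSLTwoProducts.tr, CfsgLib.Dickson.tr, u]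
      norm_num
    have hmul := CfsgLib.Char.index_mul_card_centralizer (G := Matrix.SpecialLinearGroup (Fin 2) F) (u x)
    rw [hc, hG] at hmul
    obtain ⟨k, hk⟩ := hodd
    have hq : 0 < Fintype.card F := Fintype.card_pos
    have hcar : Nat.card (ConjClasses.mk (u x)).carrier = (Subgroup.centralizer ({u x} : Set (Matrix.SpecialLinearGroup (Fin 2) F))).index := by
      rw [← CfsgLib.Char.card_isConj]
      exact Nat.card_congr (Equiv.subtypeEquivRight fun y => by
        rw [ConjClasses.mem_carrier_iff_mk_eq, ConjClasses.mk_eq_mk_iff_isConj, isConj_comm])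
    have key : 2 * Nat.card (ConjClasses.mk (u x)).carrier = Fintype.card F ^ 2 - 1 :=
      Nat.eq_of_mul_eq_mul_left hq (by rw [← hmul, hcar]; ring)
    omega
  · have eg : g = u ((g : Matrix (Fin 2) (Fin 2) F) 0 1) := Subtype.ext (by
      show (g : Matrix (Fin 2) (Fin 2) F) = !![1, (g : Matrix (Fin 2) (Fin 2) F) 0 1; 0, 1]
      conv_lhs => rw [Matrix.eta_fin_two (g : Matrix (Fin 2) (Fin 2) F), g00, g10, g11])
    have eh : h = u ((h : Matrix (Fin 2) (Fin 2) F) 0 1) := Subtype.ext (by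
      show (h : Matrix (Fin 2) (Fin 2) F) = !![1, (h : Matrix (Fin 2) (Fin 2) F) 0 1; 0, 1]
      conv_lhs => rw [Matrix.eta_fin_two (h : Matrix (Fin 2) (Fin 2) F), h00, h10, h11])
    conv_lhs => rw [eg, eh]
    rw [hconj _ _ g01, hsq _ _ g01 h01]

end Cfsg.Agent.S2301
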