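import Cfsg.Statements.S2303
import Mathlib.LinearAlgebra.Matrix.ToLinearEquiv

set_option autoImplicit false
open Cfsg

namespace Cfsg.Agent.S2303

/-- Over a finite field with q elements: a diagonal element of GL₂ with two distinct diagonal entries has centralizer of order (q − 1)² (so q(q + 1) conjugates), and an element of GL₂ with no eigenvector in F² has centralizer of order q² − 1 (so q(q − 1) conjugates). -/
theorem result {F : Type*} [Field F] [Fintype F] (g : Matrix.GeneralLinearGroup (Fin 2) F) :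
    ((g : Matrix (Fin 2) (Fin 2) F) 0 1 = 0 → (g : Matrix (Fin 2) (Fin 2) F) 1 0 = 0 → (g : Matrix (Fin 2) (Fin 2) F) 0 0 ≠ (g : Matrix (Fin 2) (Fin 2) F) 1 1 →
      Nat.card (Subgroup.centralizer ({g} : Set (Matrix.GeneralLinearGroup (Fin 2) F))) = (Fintype.card F - 1) ^ 2) ∧
    ((∀ (c : F) (v : Fin 2 → F), v ≠ 0 → (g : Matrix (Fin 2) (Fin 2) F).mulVec v ≠ c • v) →
      Nat.card (Subgroup.centralizer ({g} : Set (Matrix.GeneralLinearGroup (Fin 2) F))) = Fintype.card F ^ 2 - 1) := by
  classical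
  set M := (g : Matrix (Fin 2) (Fin 2) F) with hM
  have hmem : ∀ c : Matrix.GeneralLinearGroup (Fin 2) F,
      c ∈ Subgroup.centralizer ({g} : Set (Matrix.GeneralLinearGroup (Fin 2) F)) ↔ (c : Matrix (Fin 2) (Fin 2) F) * M = M * c := by
    intro c
    rw [Subgroup.mem_centralizer_singleton_iff]
    exact ⟨fun h => congrArg (fun z : Matrix.GeneralLinearGroup (Fin 2) F => (z : Matrix (Fin 2) (Fin 2) F)) h,
      fun h => Units.ext h⟩
  refine ⟨fun h01 h10 hne => ?_, fun hv => ?_⟩
  · have e : Nat.card (Fˣ × Fˣ) = Nat.card (Subgroup.centralizer ({g} : Set (Matrix.GeneralLinearGroup (Fin 2) F))) := by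
      refine Nat.card_eq_of_bijective (fun p => ⟨Matrix.GeneralLinearGroup.mkOfDetNeZero !![(p.1 : F), 0; 0, (p.2 : F)]
        (by simp [Matrix.det_fin_two]), (hmem _).2 (by
          show !![(p.1 : F), 0; 0, (p.2 : F)] * M = M * !![(p.1 : F), 0; 0, (p.2 : F)]
          rw [Matrix.eta_fin_two M, h01, h10]
          simp [mul_comm])⟩) ⟨fun p p' h => ?_, fun c => ?_⟩
      · have h' := congrArg (fun z : Subgroup.centralizer ({g} : Set (Matrix.GeneralLinearGroup (Fin 2) F)) =>
          ((z : Matrix.GeneralLinearGroup (Fin 2) F) : Matrix (Fin 2) (Fin 2) F)) h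
        exact Prod.ext (Units.ext (congrFun (congrFun h' 0) 0)) (Units.ext (congrFun (congrFun h' 1) 1))
      · obtain ⟨c, hc⟩ := c
        have hm := (hmem c).1 hc
        have a01 := congrFun (congrFun hm 0) 1
        have a10 := congrFun (congrFun hm 1) 0
        simp [Matrix.mul_apply, Fin.sum_univ_two, h01, h10] at a01 a10
        have hd : M 0 0 - M 1 1 ≠ 0 := sub_ne_zero.2 hne
        have c01 : (c : Matrix (Fin 2) (Fin 2) F) 0 1 = 0 := (mul_eq_zero.1 (show (c : Matrix (Fin 2) (Fin 2) F) 0 1 *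
          (M 0 0 - M 1 1) = 0 by linear_combination -a01)).resolve_right hd
        have c10 : (c : Matrix (Fin 2) (Fin 2) F) 1 0 = 0 := (mul_eq_zero.1 (show (c : Matrix (Fin 2) (Fin 2) F) 1 0 *
          (M 0 0 - M 1 1) = 0 by linear_combination a10)).resolve_right hd
        have hdet := Matrix.GeneralLinearGroup.det_ne_zero c
        rw [Matrix.det_fin_two, c01, zero_mul, sub_zero] at hdet
        obtain ⟨n0, n1⟩ := mul_ne_zero_iff.1 hdet
        refine ⟨(Units.mk0 _ n0, Units.mk0 _ n1), Subtype.ext (Units.ext ?_)⟩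
        show !![(c : Matrix (Fin 2) (Fin 2) F) 0 0, 0; 0, (c : Matrix (Fin 2) (Fin 2) F) 1 1] = _
        ext i j
        fin_cases i <;> fin_cases j <;> simp [c01, c10]
    rw [← e, Nat.card_prod, Nat.card_units, Nat.card_eq_fintype_card, pow_two]
  · have hb : M 0 1 ≠ 0 := by
      intro h
      refine hv (M 1 1) ![0, 1] (fun e => one_ne_zero (congrFun e 1)) ?_
      funext i
      fin_cases i <;> simp [Matrix.mulVec, dotProduct, Fin.sum_univ_two, ← hM, h]
    have hdet : ∀ p : F × F, p ≠ 0 → (p.1 • (1 : Matrix (Fin 2) (Fin 2) F) + p.2 • M).det ≠ 0 := by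
      intro p hp h0
      obtain ⟨v, hv0, hv1⟩ := Matrix.exists_mulVec_eq_zero_iff.2 h0
      rw [Matrix.add_mulVec, Matrix.smul_mulVec, Matrix.smul_mulVec, Matrix.one_mulVec] at hv1
      by_cases hy : p.2 = 0
      · rw [hy, zero_smul, add_zero] at hv1
        exact hp (Prod.ext ((smul_eq_zero.1 hv1).resolve_right hv0) hy)
      · refine hv (-p.1 / p.2) v hv0 ?_
        rw [div_eq_inv_mul, mul_smul, neg_smul, ← eq_neg_of_add_eq_zero_right hv1, inv_smul_smul₀ hy]
    have e : Nat.card {p : F × F // p ≠ 0} =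
        Nat.card (Subgroup.centralizer ({g} : Set (Matrix.GeneralLinearGroup (Fin 2) F))) := by
      refine Nat.card_eq_of_bijective (fun p => ⟨Matrix.GeneralLinearGroup.mkOfDetNeZero _ (hdet p.1 p.2), (hmem _).2 (by
          show (p.1.1 • (1 : Matrix (Fin 2) (Fin 2) F) + p.1.2 • M) * M = M * (p.1.1 • (1 : Matrix (Fin 2) (Fin 2) F) + p.1.2 • M)
          simp [add_mul, mul_add])⟩) ⟨fun p p' h => ?_, fun c => ?_⟩
      · have h' : p.1.1 • (1 : Matrix (Fin 2) (Fin 2) F) + p.1.2 • M = p'.1.1 • 1 + p'.1.2 • M :=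
          congrArg (fun z : Subgroup.centralizer ({g} : Set (Matrix.GeneralLinearGroup (Fin 2) F)) =>
            ((z : Matrix.GeneralLinearGroup (Fin 2) F) : Matrix (Fin 2) (Fin 2) F)) h
        have a := congrFun (congrFun h' 0) 1
        simp at a
        have b := congrFun (congrFun h' 0) 0
        have hy : p.1.2 = p'.1.2 := a.resolve_right hb
        rw [hy] at b
        simp at b
        exact Subtype.ext (Prod.ext b hy)
      · obtain ⟨c, hc⟩ := c
        have hm := (hmem c).1 hc
        have c00 := congrFun (congrFun hm 0) 0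
        have c01 := congrFun (congrFun hm 0) 1
        simp [Matrix.mul_apply, Fin.sum_univ_two] at c00 c01
        obtain ⟨y, hy⟩ : ∃ y, y = (c : Matrix (Fin 2) (Fin 2) F) 0 1 / M 0 1 := ⟨_, rfl⟩
        have hy' : (c : Matrix (Fin 2) (Fin 2) F) 0 1 = y * M 0 1 := by rw [hy, div_mul_cancel₀ _ hb]
        have heq : (c : Matrix (Fin 2) (Fin 2) F) =
            ((c : Matrix (Fin 2) (Fin 2) F) 0 0 - y * M 0 0) • (1 : Matrix (Fin 2) (Fin 2) F) + y • M := by
          ext i j
          fin_cases i <;> fin_cases j <;> simp [hy']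
          · refine mul_right_cancel₀ hb ?_
            linear_combination -c00 + M 1 0 * hy'
          · refine mul_right_cancel₀ hb ?_
            linear_combination -c01 + (M 1 1 - M 0 0) * hy'
        refine ⟨⟨((c : Matrix (Fin 2) (Fin 2) F) 0 0 - y * M 0 0, y), fun h0 => ?_⟩, Subtype.ext (Units.ext heq.symm)⟩
        have h1 := congrArg Prod.fst h0
        have h2 := congrArg Prod.snd h0
        simp only [Prod.fst_zero, Prod.snd_zero] at h1 h2
        refine Matrix.GeneralLinearGroup.det_ne_zero c ?_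
        rw [heq, h1, h2]
        simp
    rw [← e, Nat.card_eq_fintype_card, Fintype.card_subtype_compl, Fintype.card_subtype_eq, Fintype.card_prod, pow_two]

end Cfsg.Agent.S2303
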