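import Cfsg.Statements.S2307
import Cfsg.Agent.Misc.SLTwoClassify

set_option autoImplicit false
open Cfsg

namespace Cfsg.Agent.S2307

/-- Over a finite field F with q elements, q odd, let α be the multiplicative character of F of order 2. The character of SL₂ induced from the linear character b ↦ α(b₁₁) of the upper triangular subgroup is the sum of two distinct irreducible characters, each of degree (q + 1)/2, which are conjugate under GL₂: some fixed element of GL₂ conjugates the one into the other. -/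
theorem result {F : Type*} [Field F] [Fintype F] [DecidableEq F] (hodd : Odd (Fintype.card F)) (α : MulChar F ℂ)
    (hα : α ^ 2 = 1) (hα1 : α ≠ 1) :
    ∃ χ₁ χ₂ : Matrix.SpecialLinearGroup (Fin 2) F → ℂ, Cfsg.IsIrrCharacter (Matrix.SpecialLinearGroup (Fin 2) F) χ₁ ∧ Cfsg.IsIrrCharacter (Matrix.SpecialLinearGroup (Fin 2) F) χ₂ ∧ χ₁ ≠ χ₂ ∧
      Cfsg.indFun ((Cfsg.upperTriangularGL 2 F).comap Matrix.SpecialLinearGroup.toGL) (fun b => α (((b : Matrix.SpecialLinearGroup (Fin 2) F) : Matrix (Fin 2) (Fin 2) F) 0 0)) = χ₁ + χ₂ ∧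
      χ₁ 1 = (((Fintype.card F + 1) / 2 : ℕ) : ℂ) ∧ χ₂ 1 = (((Fintype.card F + 1) / 2 : ℕ) : ℂ) ∧
      ∃ x : Matrix.GeneralLinearGroup (Fin 2) F, ∀ g h : Matrix.SpecialLinearGroup (Fin 2) F,
        Matrix.SpecialLinearGroup.toGL h = x * Matrix.SpecialLinearGroup.toGL g * x⁻¹ → χ₂ h = χ₁ g := by
  classical
  obtain ⟨⟨χ, hχ⟩, hc⟩ := CfsgLib.Char.exists_constituent (CfsgLib.Misc.SLTwoClassify.isCharacter_psS α)
    (fun e => by
      have := congrFun e 1
      rw [CfsgLib.Misc.SLTwoClassify.psS_one, Pi.zero_apply] at this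
      exact absurd (by exact_mod_cast this) (Nat.succ_ne_zero (Fintype.card F)))
  obtain ⟨h2, hne, hdeg, x, hx⟩ := CfsgLib.Misc.SLTwoClassify.half hα hα1 hχ hc
  have hd : χ 1 = (((Fintype.card F + 1) / 2 : ℕ) : ℂ) := by
    obtain ⟨k, hk⟩ := hodd
    rw [hk, show (2 * k + 1 + 1) / 2 = k + 1 by omega]
    refine mul_left_cancel₀ (two_ne_zero' ℂ) ?_
    rw [hdeg, hk]
    push_cast
    ring
  refine ⟨χ, CfsgLib.Misc.PrincipalSeries.psS α - χ, hχ, h2, hne, (add_sub_cancel χ _).symm, hd, ?_, x, fun g h e => hx g h e⟩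
  rw [hx 1 1 (by simp), hd]

end Cfsg.Agent.S2307
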