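import Cfsg.Statements.S2309
import Cfsg.Agent.Misc.GLTwoClassify

set_option autoImplicit false
open Cfsg

namespace Cfsg.Agent.S2309

/-- Over a finite field F with q elements: every irreducible complex character of GL₂ of degree q − 1 vanishes at every diagonal matrix with two distinct entries, and every irreducible complex character of degree q + 1 vanishes at every element with no eigenvector in F². -/
theorem result {F : Type*} [Field F] [Fintype F] (χ : Matrix.GeneralLinearGroup (Fin 2) F → ℂ) (hχ : Cfsg.IsIrrCharacter (Matrix.GeneralLinearGroup (Fin 2) F) χ) (g : Matrix.GeneralLinearGroup (Fin 2) F) :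
    (χ 1 = (Fintype.card F : ℂ) - 1 → (g : Matrix (Fin 2) (Fin 2) F) 0 1 = 0 → (g : Matrix (Fin 2) (Fin 2) F) 1 0 = 0 → (g : Matrix (Fin 2) (Fin 2) F) 0 0 ≠ (g : Matrix (Fin 2) (Fin 2) F) 1 1 → χ g = 0) ∧
    (χ 1 = (Fintype.card F : ℂ) + 1 → (∀ (c : F) (v : Fin 2 → F), v ≠ 0 → (g : Matrix (Fin 2) (Fin 2) F).mulVec v ≠ c • v) → χ g = 0) := by
  classical
  have hcast : ∀ k : ℕ, (k : ℂ) + 1 = (Fintype.card F : ℂ) - 1 → k + 2 = Fintype.card F := fun k e => by
    exact_mod_cast (show ((k : ℂ) + 2) = (Fintype.card F : ℂ) by linear_combination e)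
  have h2 := CfsgLib.Misc.GLTwoClassify.two_le (F := F)
  have hq : (Fintype.card F : ℂ) ≠ 0 := Nat.cast_ne_zero.2 Fintype.card_ne_zero
  constructor
  · intro hdeg h01 h10 hne
    rcases CfsgLib.Misc.GLTwoClassify.classify hχ with hc | ⟨α, β, hab, rfl⟩ | ⟨α, rfl⟩ | ⟨α, rfl⟩
    · exact CfsgLib.Misc.GLTwoClassify.diag_value_cusp hχ hc h01 h10 hne
    · rw [CfsgLib.Misc.GLTwoClassify.psG_one] at hdeg
      exact absurd (show (2 : ℂ) = 0 by linear_combination hdeg) two_ne_zero
    · rw [CfsgLib.Misc.GLTwoClassify.detChar_one] at hdeg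
      have hc := hcast 0 (by simpa using hdeg)
      exfalso
      obtain ⟨h0, h1⟩ := CfsgLib.Misc.BorelInduced.diag_ne (MonoidHom.id _) (g := g) h10
      haveI : Fintype Fˣ := Fintype.ofFinite _
      have : Fintype.card Fˣ = 1 := by rw [← Nat.card_eq_fintype_card, Nat.card_units, Nat.card_eq_fintype_card]; omega
      exact hne (congrArg Units.val ((Fintype.card_le_one_iff.1 this.le) (Units.mk0 _ h0) (Units.mk0 _ h1)))
    · rw [CfsgLib.Misc.GLTwoClassify.steinberg_one] at hdeg
      exact absurd (show (1 : ℂ) = 0 by linear_combination hdeg) one_ne_zero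
  · intro hdeg hv
    rcases CfsgLib.Misc.GLTwoClassify.classify hχ with hc | ⟨α, β, hab, rfl⟩ | ⟨α, rfl⟩ | ⟨α, rfl⟩
    · rw [(CfsgLib.Misc.GLTwoClassify.cusp_deg hχ hc).1] at hdeg
      exact absurd (show (2 : ℂ) = 0 by linear_combination -hdeg) two_ne_zero
    · exact CfsgLib.Misc.BorelInduced.ind_elliptic _ _ CfsgLib.Misc.PrincipalSeries.rG hv rfl
        CfsgLib.Misc.PrincipalSeries.rG_some
    · rw [CfsgLib.Misc.GLTwoClassify.detChar_one] at hdeg
      exact absurd (show (Fintype.card F : ℂ) = 0 by linear_combination -hdeg) hq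
    · rw [CfsgLib.Misc.GLTwoClassify.steinberg_one] at hdeg
      exact absurd (show (1 : ℂ) = 0 by linear_combination -hdeg) one_ne_zero

end Cfsg.Agent.S2309
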