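import Cfsg.Statements.S2310
import Cfsg.Agent.Misc.GLTwoClassify

set_option autoImplicit false
open Cfsg

namespace Cfsg.Agent.S2310

/-- Over a finite field F with q ≥ 3 elements, let u be the upper unitriangular matrix of GL₂ with off-diagonal entry 1. An irreducible complex character χ of GL₂ takes at u the value 1 if χ has degree 1 or q + 1, the value −1 if χ has degree q − 1, and the value 0 if χ has degree q. -/
theorem result {F : Type*} [Field F] [Fintype F] (hq : 3 ≤ Fintype.card F) (χ : Matrix.GeneralLinearGroup (Fin 2) F → ℂ) (hχ : Cfsg.IsIrrCharacter (Matrix.GeneralLinearGroup (Fin 2) F) χ)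
    (u : Matrix.GeneralLinearGroup (Fin 2) F) (hu : (u : Matrix (Fin 2) (Fin 2) F) = !![1, 1; 0, 1]) :
    (χ 1 = 1 → χ u = 1) ∧ (χ 1 = (Fintype.card F : ℂ) + 1 → χ u = 1) ∧
    (χ 1 = (Fintype.card F : ℂ) - 1 → χ u = -1) ∧ (χ 1 = (Fintype.card F : ℂ) → χ u = 0) := by
  classical
  have hq : (Fintype.card F : ℂ) ≠ 0 := Nat.cast_ne_zero.2 Fintype.card_ne_zero
  obtain rfl : u = CfsgLib.Misc.GLTwoClassify.setupG.u 1 := Units.ext hu
  have hps : ∀ α β : MulChar F ℂ, CfsgLib.Misc.PrincipalSeries.psG α β (CfsgLib.Misc.GLTwoClassify.setupG.u 1) = 1 := by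
    intro α β
    refine (CfsgLib.Misc.BorelInduced.ind_unip _ _ CfsgLib.Misc.PrincipalSeries.rG
      (g := CfsgLib.Misc.GLTwoClassify.setupG.u (1 : F)) ?_ ?_ ?_ rfl CfsgLib.Misc.PrincipalSeries.rG_some).trans ?_
    all_goals simp [CfsgLib.Misc.GLTwoClassify.setupG.hu]
  have hdet : ∀ α : MulChar F ℂ, CfsgLib.Misc.GLTwoClassify.detChar α (CfsgLib.Misc.GLTwoClassify.setupG.u 1) = 1 := by
    intro α
    simp [CfsgLib.Misc.GLTwoClassify.detChar, hu, Matrix.det_fin_two]
  rcases CfsgLib.Misc.GLTwoClassify.classify hχ with hc | ⟨α, β, hab, rfl⟩ | ⟨α, rfl⟩ | ⟨α, rfl⟩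
  · obtain ⟨hd, hv⟩ := CfsgLib.Misc.GLTwoClassify.cusp_deg hχ hc
    refine ⟨fun e => ?_, fun e => ?_, fun _ => hv 1 one_ne_zero, fun e => ?_⟩
    · exfalso
      have : Fintype.card F = 2 := by exact_mod_cast (show (Fintype.card F : ℂ) = 2 by linear_combination hd.symm.trans e)
      omega
    · exact absurd (show (2 : ℂ) = 0 by linear_combination -(hd.symm.trans e)) two_ne_zero
    · exact absurd (show (1 : ℂ) = 0 by linear_combination -(hd.symm.trans e)) one_ne_zero
  · rw [hps, CfsgLib.Misc.GLTwoClassify.psG_one]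
    exact ⟨fun _ => rfl, fun _ => rfl, fun e => absurd (show (2 : ℂ) = 0 by linear_combination e) two_ne_zero,
      fun e => absurd (show (1 : ℂ) = 0 by linear_combination e) one_ne_zero⟩
  · rw [hdet, CfsgLib.Misc.GLTwoClassify.detChar_one]
    refine ⟨fun _ => rfl, fun _ => rfl, fun e => ?_, fun e => ?_⟩
    · exfalso
      have : Fintype.card F = 2 := by exact_mod_cast (show (Fintype.card F : ℂ) = 2 by linear_combination -e)
      omega
    · exfalso
      have : Fintype.card F = 1 := by exact_mod_cast e.symm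
      omega
  · rw [CfsgLib.Misc.GLTwoClassify.steinberg_one, Pi.sub_apply, hps, hdet, sub_self]
    refine ⟨fun e => ?_, fun e => absurd (show (1 : ℂ) = 0 by linear_combination -e) one_ne_zero,
      fun e => absurd (show (1 : ℂ) = 0 by linear_combination e) one_ne_zero, fun _ => rfl⟩
    exfalso
    have : Fintype.card F = 1 := by exact_mod_cast e
    omega

end Cfsg.Agent.S2310
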