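import Cfsg.Statements.S2320
import Cfsg.Agent.Misc.GLTwoClassify

set_option autoImplicit false
open Cfsg

namespace Cfsg.Agent.S2320

/-- Over a finite field F with q elements, every irreducible complex character of GL₂ of degree q takes a value of absolute value 1 at every diagonal matrix with two different diagonal entries and at every element with no eigenvector in F². -/
theorem result {F : Type*} [Field F] [Fintype F] (χ : Matrix.GeneralLinearGroup (Fin 2) F → ℂ) (hχ : Cfsg.IsIrrCharacter (Matrix.GeneralLinearGroup (Fin 2) F) χ) (hdeg : χ 1 = (Fintype.card F : ℂ)) (g : Matrix.GeneralLinearGroup (Fin 2) F) :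
    ((g : Matrix (Fin 2) (Fin 2) F) 0 1 = 0 → (g : Matrix (Fin 2) (Fin 2) F) 1 0 = 0 → (g : Matrix (Fin 2) (Fin 2) F) 0 0 ≠ (g : Matrix (Fin 2) (Fin 2) F) 1 1 → ‖χ g‖ = 1) ∧
    ((∀ (c : F) (v : Fin 2 → F), v ≠ 0 → (g : Matrix (Fin 2) (Fin 2) F).mulVec v ≠ c • v) → ‖χ g‖ = 1) := by
  classical
  have hcast : ∀ k : ℕ, (k : ℂ) + 1 = (Fintype.card F : ℂ) - 1 → k + 2 = Fintype.card F := fun k e => by
    exact_mod_cast (show ((k : ℂ) + 2) = (Fintype.card F : ℂ) by linear_combination e)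
  have h2 := CfsgLib.Misc.GLTwoClassify.two_le (F := F)
  have hq : (Fintype.card F : ℂ) ≠ 0 := Nat.cast_ne_zero.2 Fintype.card_ne_zero
  rcases CfsgLib.Misc.GLTwoClassify.classify hχ with hc | ⟨α, β, hab, rfl⟩ | ⟨α, rfl⟩ | ⟨α, rfl⟩
  · rw [(CfsgLib.Misc.GLTwoClassify.cusp_deg hχ hc).1] at hdeg
    exact absurd (show (1 : ℂ) = 0 by linear_combination -hdeg) one_ne_zero
  · rw [CfsgLib.Misc.GLTwoClassify.psG_one] at hdeg
    exact absurd (show (1 : ℂ) = 0 by linear_combination hdeg) one_ne_zero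
  · rw [CfsgLib.Misc.GLTwoClassify.detChar_one] at hdeg
    exfalso
    have : Fintype.card F = 1 := by exact_mod_cast hdeg.symm
    omega
  · refine ⟨fun h01 h10 hne => ?_, fun hv => ?_⟩
    · obtain ⟨h0, h1⟩ := CfsgLib.Misc.BorelInduced.diag_ne (MonoidHom.id _) (g := g) h10
      rw [Pi.sub_apply, CfsgLib.Misc.PrincipalSeries.psG, CfsgLib.Misc.BorelInduced.ind_diag _ _
        CfsgLib.Misc.PrincipalSeries.rG (show CfsgLib.Misc.BorelInduced.mat (MonoidHom.id _) g 1 0 = 0 from h10) h01 hne rfl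
        CfsgLib.Misc.PrincipalSeries.rG_some]
      simp only [CfsgLib.Misc.GLTwoClassify.detChar, CfsgLib.Misc.BorelInduced.mat, MonoidHom.id_apply,
        Matrix.det_fin_two, h10, mul_zero, sub_zero, map_mul]
      rw [mul_comm (α ((g : Matrix (Fin 2) (Fin 2) F) 1 1)), add_sub_cancel_right, norm_mul,
        CfsgLib.Misc.GLTwoClassify.norm_mulChar α (show (g : Matrix (Fin 2) (Fin 2) F) 0 0 ≠ 0 from h0),
        CfsgLib.Misc.GLTwoClassify.norm_mulChar α (show (g : Matrix (Fin 2) (Fin 2) F) 1 1 ≠ 0 from h1), one_mul]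
    · rw [Pi.sub_apply, CfsgLib.Misc.PrincipalSeries.psG, CfsgLib.Misc.BorelInduced.ind_elliptic _ _
        CfsgLib.Misc.PrincipalSeries.rG hv rfl CfsgLib.Misc.PrincipalSeries.rG_some, zero_sub, norm_neg]
      exact CfsgLib.Misc.GLTwoClassify.norm_mulChar α (Matrix.GeneralLinearGroup.det_ne_zero g)

end Cfsg.Agent.S2320
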