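import Cfsg.Statements.S2321
import Cfsg.Agent.Misc.SLTwoClassify

set_option autoImplicit false
open Cfsg

namespace Cfsg.Agent.S2321

/-- Over a finite field F with q elements, an irreducible complex character of SL₂ of degree q (the Steinberg character) takes the value 1 at every diagonal matrix whose diagonal entry a has a² ≠ 1, the value −1 at every element with no eigenvector in F², and the value 0 at every upper triangular matrix with equal diagonal entries and non-zero upper right entry. -/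
theorem result {F : Type*} [Field F] [Fintype F] (χ : Matrix.SpecialLinearGroup (Fin 2) F → ℂ) (hχ : Cfsg.IsIrrCharacter (Matrix.SpecialLinearGroup (Fin 2) F) χ) (hdeg : χ 1 = (Fintype.card F : ℂ)) (g : Matrix.SpecialLinearGroup (Fin 2) F) :
    ((g : Matrix (Fin 2) (Fin 2) F) 0 1 = 0 → (g : Matrix (Fin 2) (Fin 2) F) 1 0 = 0 → (g : Matrix (Fin 2) (Fin 2) F) 0 0 ^ 2 ≠ 1 → χ g = 1) ∧
    ((∀ (c : F) (v : Fin 2 → F), v ≠ 0 → (g : Matrix (Fin 2) (Fin 2) F).mulVec v ≠ c • v) → χ g = -1) ∧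
    ((g : Matrix (Fin 2) (Fin 2) F) 1 0 = 0 → (g : Matrix (Fin 2) (Fin 2) F) 0 0 = (g : Matrix (Fin 2) (Fin 2) F) 1 1 → (g : Matrix (Fin 2) (Fin 2) F) 0 1 ≠ 0 → χ g = 0) := by
  classical
  have hq : 2 ≤ Fintype.card F := Fintype.one_lt_card
  rcases CfsgLib.Misc.SLTwoClassify.classify hχ with hc | ⟨α, hα, rfl⟩ | rfl | rfl | ⟨α, h2, h1, hc⟩
  · exact absurd (CfsgLib.Misc.SLTwoClassify.cusp_lt hχ hc hdeg) (lt_irrefl _)
  · rw [CfsgLib.Misc.SLTwoClassify.psS_one] at hdeg
    exact absurd (show (1 : ℂ) = 0 by linear_combination hdeg) one_ne_zero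
  · exfalso
    have : Fintype.card F = 1 := by exact_mod_cast (show (Fintype.card F : ℂ) = 1 from hdeg.symm)
    omega
  · have hd : ∀ {M : Matrix (Fin 2) (Fin 2) F}, M.det = 1 → M 1 0 = 0 → M 0 0 * M 1 1 = 1 := fun hM h => by
      rw [Matrix.det_fin_two, h, mul_zero, sub_zero] at hM; exact hM
    refine ⟨fun h01 h10 hne => ?_, fun hv => ?_, fun h10 heq h01 => ?_⟩
    · have e := hd g.2 h10
      have hne' : (g : Matrix (Fin 2) (Fin 2) F) 0 0 ≠ (g : Matrix (Fin 2) (Fin 2) F) 1 1 := fun h => hne (by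
        rw [pow_two]; nth_rewrite 2 [h]; exact e)
      rw [Pi.sub_apply, CfsgLib.Misc.PrincipalSeries.psS, CfsgLib.Misc.BorelInduced.ind_diag _ _ CfsgLib.Misc.PrincipalSeries.rS
        (show CfsgLib.Misc.BorelInduced.mat Matrix.SpecialLinearGroup.toGL g 1 0 = 0 from h10) h01 hne' rfl CfsgLib.Misc.PrincipalSeries.rS_some]
      have h0 := left_ne_zero_of_mul_eq_one e
      have h1 := right_ne_zero_of_mul_eq_one e
      simp [CfsgLib.Misc.BorelInduced.mat, MulChar.one_apply (isUnit_iff_ne_zero.2 h0), MulChar.one_apply (isUnit_iff_ne_zero.2 h1)]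
    · rw [Pi.sub_apply, CfsgLib.Misc.PrincipalSeries.psS, CfsgLib.Misc.BorelInduced.ind_elliptic _ _ CfsgLib.Misc.PrincipalSeries.rS hv rfl CfsgLib.Misc.PrincipalSeries.rS_some, zero_sub]
    · have h0 := left_ne_zero_of_mul_eq_one (hd g.2 h10)
      rw [Pi.sub_apply, CfsgLib.Misc.PrincipalSeries.psS, CfsgLib.Misc.BorelInduced.ind_unip _ _ CfsgLib.Misc.PrincipalSeries.rS
        (show CfsgLib.Misc.BorelInduced.mat Matrix.SpecialLinearGroup.toGL g 1 0 = 0 from h10) heq h01 rfl CfsgLib.Misc.PrincipalSeries.rS_some]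
      simp [CfsgLib.Misc.BorelInduced.mat, MulChar.one_apply (isUnit_iff_ne_zero.2 h0)]
  · exfalso
    obtain ⟨-, -, hd, -⟩ := CfsgLib.Misc.SLTwoClassify.half h2 h1 hχ hc
    rw [hdeg] at hd
    have : 2 * Fintype.card F = Fintype.card F + 1 := by exact_mod_cast hd
    omega

end Cfsg.Agent.S2321
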