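import Cfsg.Statements.S2322
import Cfsg.Agent.Misc.SLTwoClassify
import Cfsg.Agent.Misc.SLTwoThree

set_option autoImplicit false
open Cfsg

namespace Cfsg.Agent.S2322

/-- Over a finite field F with q elements, q odd: every irreducible complex character of SL₂ of degree q − 1 or (q − 1)/2 vanishes at every diagonal matrix whose diagonal entry a has a² ≠ 1, and every irreducible complex character of degree q + 1 or (q + 1)/2 vanishes at every element with no eigenvector in F². -/
theorem result {F : Type*} [Field F] [Fintype F] (hodd : Odd (Fintype.card F)) (χ : Matrix.SpecialLinearGroup (Fin 2) F → ℂ) (hχ : Cfsg.IsIrrCharacter (Matrix.SpecialLinearGroup (Fin 2) F) χ) (g : Matrix.SpecialLinearGroup (Fin 2) F) :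
    ((χ 1 = (Fintype.card F : ℂ) - 1 ∨ χ 1 = (((Fintype.card F - 1) / 2 : ℕ) : ℂ)) →
      (g : Matrix (Fin 2) (Fin 2) F) 0 1 = 0 → (g : Matrix (Fin 2) (Fin 2) F) 1 0 = 0 → (g : Matrix (Fin 2) (Fin 2) F) 0 0 ^ 2 ≠ 1 → χ g = 0) ∧
    ((χ 1 = (Fintype.card F : ℂ) + 1 ∨ χ 1 = (((Fintype.card F + 1) / 2 : ℕ) : ℂ)) →
      (∀ (c : F) (v : Fin 2 → F), v ≠ 0 → (g : Matrix (Fin 2) (Fin 2) F).mulVec v ≠ c • v) → χ g = 0) := by
  classical
  have hq3 : 3 ≤ Fintype.card F := by
    have : 2 ≤ Fintype.card F := Fintype.one_lt_card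
    rw [Nat.odd_iff] at hodd
    omega
  obtain ⟨k, hk⟩ := hodd
  have hodd : Odd (Fintype.card F) := ⟨k, hk⟩
  have hk1 : (Fintype.card F - 1) / 2 = k := by omega
  have hk2 : (Fintype.card F + 1) / 2 = k + 1 := by omega
  have hkC : (Fintype.card F : ℂ) = 2 * k + 1 := by exact_mod_cast hk
  rw [hk1, hk2]
  obtain ⟨n, -, hn⟩ := CfsgLib.Char.irr_deg hχ
  constructor
  · intro hdeg h01 h10 hne
    have hq5 : 4 ≤ Fintype.card F := by
      by_contra hlt
      refine hne ?_
      have hd : (g : Matrix (Fin 2) (Fin 2) F) 0 0 * (g : Matrix (Fin 2) (Fin 2) F) 1 1 = 1 := by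
        have : (g : Matrix (Fin 2) (Fin 2) F).det = 1 := g.2
        rw [Matrix.det_fin_two, h01, zero_mul, sub_zero] at this
        exact this
      have := FiniteField.pow_card_sub_one_eq_one _ (left_ne_zero_of_mul_eq_one hd)
      rwa [show Fintype.card F - 1 = 2 by omega] at this
    rw [hn] at hdeg
    have hdeg' : n = 2 * k ∨ n = k := hdeg.imp
      (fun e => by exact_mod_cast (show (n : ℂ) = 2 * k by linear_combination e + hkC)) (fun e => by exact_mod_cast e)
    rcases CfsgLib.Misc.SLTwoClassify.classify hχ with hc | ⟨α, hα, rfl⟩ | rfl | rfl | ⟨α, h2, h1, hc⟩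
    · exact CfsgLib.Misc.SLTwoClassify.diag_value_cusp hχ hc h01 h10 hne
    · rw [CfsgLib.Misc.SLTwoClassify.psS_one] at hn
      exfalso
      have : n = Fintype.card F + 1 := by exact_mod_cast hn.symm
      omega
    · exfalso
      have : n = 1 := by exact_mod_cast (show (n : ℂ) = 1 from hn.symm)
      omega
    · rw [CfsgLib.Misc.SLTwoClassify.steinberg_one] at hn
      exfalso
      have : n = Fintype.card F := by exact_mod_cast hn.symm
      omega
    · obtain ⟨-, -, hd, -⟩ := CfsgLib.Misc.SLTwoClassify.half h2 h1 hχ hc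
      rw [hn] at hd
      exfalso
      have : 2 * n = Fintype.card F + 1 := by exact_mod_cast hd
      omega
  · intro hdeg hv
    rw [hn] at hdeg
    have hdeg' : n = 2 * k + 2 ∨ n = k + 1 := hdeg.imp
      (fun e => by exact_mod_cast (show (n : ℂ) = 2 * k + 2 by linear_combination e + hkC)) (fun e => by exact_mod_cast e)
    rcases CfsgLib.Misc.SLTwoClassify.classify hχ with hc | ⟨α, hα, rfl⟩ | rfl | rfl | ⟨α, h2, h1, hc⟩
    · have h1 := CfsgLib.Misc.SLTwoClassify.cusp_lt hχ hc hn
      have h2 := CfsgLib.Misc.SLTwoClassify.cusp_deg_large hχ hc hn (by omega)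
      exact CfsgLib.Misc.SLTwoThree.elliptic_zero (by omega) hχ hc
        (by rw [hn, show n = 2 by omega]; norm_num) hv
    · exact CfsgLib.Misc.BorelInduced.ind_elliptic _ _ CfsgLib.Misc.PrincipalSeries.rS hv rfl CfsgLib.Misc.PrincipalSeries.rS_some
    · exfalso
      have : n = 1 := by exact_mod_cast (show (n : ℂ) = 1 from hn.symm)
      omega
    · rw [CfsgLib.Misc.SLTwoClassify.steinberg_one] at hn
      exfalso
      have : n = Fintype.card F := by exact_mod_cast hn.symm
      omega
    · have e := CfsgLib.Misc.SLTwoClassify.half_value h2 h1 hχ hc (g := g) (CfsgLib.Misc.SLTwoClassify.exists_comm_elliptic hodd hv)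
      rw [CfsgLib.Misc.PrincipalSeries.psS, CfsgLib.Misc.BorelInduced.ind_elliptic _ _ CfsgLib.Misc.PrincipalSeries.rS hv rfl CfsgLib.Misc.PrincipalSeries.rS_some] at e
      exact (mul_eq_zero.1 e).resolve_left two_ne_zero

end Cfsg.Agent.S2322
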