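import Cfsg.Statements.S2323
import Cfsg.Agent.Misc.SLTwoClassify

set_option autoImplicit false
open Cfsg

namespace Cfsg.Agent.S2323

/-- Over a finite field F with q ≥ 4 elements, let u be the upper unitriangular matrix of SL₂ with off-diagonal entry 1. An irreducible complex character of SL₂ takes at u the value 1 if its degree is q + 1 and the value −1 if its degree is q − 1. -/
theorem result {F : Type*} [Field F] [Fintype F] (hq : 4 ≤ Fintype.card F) (χ : Matrix.SpecialLinearGroup (Fin 2) F → ℂ) (hχ : Cfsg.IsIrrCharacter (Matrix.SpecialLinearGroup (Fin 2) F) χ)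
    (u : Matrix.SpecialLinearGroup (Fin 2) F) (hu : (u : Matrix (Fin 2) (Fin 2) F) = !![1, 1; 0, 1]) :
    (χ 1 = (Fintype.card F : ℂ) + 1 → χ u = 1) ∧ (χ 1 = (Fintype.card F : ℂ) - 1 → χ u = -1) := by
  classical
  obtain rfl : u = CfsgLib.Misc.SLTwoClassify.setupS.u 1 := Subtype.ext hu
  have hps : ∀ α : MulChar F ℂ, CfsgLib.Misc.PrincipalSeries.psS α (CfsgLib.Misc.SLTwoClassify.setupS.u 1) = 1 := by
    intro α
    refine (CfsgLib.Misc.BorelInduced.ind_unip _ _ CfsgLib.Misc.PrincipalSeries.rS (g := CfsgLib.Misc.SLTwoClassify.setupS.u (1 : F)) ?_ ?_ ?_ rfl CfsgLib.Misc.PrincipalSeries.rS_some).trans ?_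
    all_goals simp [CfsgLib.Misc.SLTwoClassify.setupS.hu]
  have hq : (Fintype.card F : ℂ) ≠ 0 := Nat.cast_ne_zero.2 Fintype.card_ne_zero
  rcases CfsgLib.Misc.SLTwoClassify.classify hχ with hc | ⟨α, hα, rfl⟩ | rfl | rfl | ⟨α, h2, h1, hc⟩
  · refine ⟨fun e => ?_, fun e => CfsgLib.Misc.SLTwoClassify.cusp_u hχ hc e one_ne_zero⟩
    have : Fintype.card F + 1 < Fintype.card F := CfsgLib.Misc.SLTwoClassify.cusp_lt hχ hc (k := Fintype.card F + 1) (by push_cast; exact e)
    omega
  · rw [hps, CfsgLib.Misc.SLTwoClassify.psS_one]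
    exact ⟨fun _ => rfl, fun e => absurd (show (2 : ℂ) = 0 by linear_combination e) two_ne_zero⟩
  · refine ⟨fun _ => rfl, fun e => ?_⟩
    exfalso
    have : Fintype.card F = 2 := by exact_mod_cast (show (Fintype.card F : ℂ) = 2 by linear_combination -e)
    omega
  · rw [CfsgLib.Misc.SLTwoClassify.steinberg_one]
    exact ⟨fun e => absurd (show (1 : ℂ) = 0 by linear_combination -e) one_ne_zero,
      fun e => absurd (show (1 : ℂ) = 0 by linear_combination e) one_ne_zero⟩
  · obtain ⟨-, -, hd, -⟩ := CfsgLib.Misc.SLTwoClassify.half h2 h1 hχ hc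
    refine ⟨fun e => ?_, fun e => ?_⟩
    · rw [e] at hd
      exfalso
      have : 2 * (Fintype.card F + 1) = Fintype.card F + 1 := by exact_mod_cast hd
      omega
    · rw [e] at hd
      exfalso
      have : Fintype.card F = 3 := by exact_mod_cast (show (Fintype.card F : ℂ) = 3 by linear_combination hd)
      omega

end Cfsg.Agent.S2323
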