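import Cfsg.Statements.S2324
import Cfsg.Agent.Misc.SLTwoSmall
import Cfsg.Agent.Misc.SLTwoThree

set_option autoImplicit false
open Cfsg

namespace Cfsg.Agent.S2324

/-- Over a finite field F with q elements, q odd and q ≥ 5, let u be the upper unitriangular matrix of SL₂ with off-diagonal entry 1 and let δ = (−1)^((q−1)/2). Every irreducible complex character χ of SL₂ of degree (q + 1)/2 satisfies (2χ(u) − 1)² = δq, and every irreducible complex character χ of degree (q − 1)/2 satisfies (2χ(u) + 1)² = δq; that is, χ(u) = (1 ± √(δq))/2 in the first case and χ(u) = (−1 ± √(δq))/2 in the second. Moreover two different irreducible characters of degree (q + 1)/2 take the two different values (their values at u add up to 1), and likewise for degree (q − 1)/2 (values adding up to −1). -/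
theorem result {F : Type*} [Field F] [Fintype F] (hodd : Odd (Fintype.card F)) (hq : 5 ≤ Fintype.card F)
    (u : Matrix.SpecialLinearGroup (Fin 2) F) (hu : (u : Matrix (Fin 2) (Fin 2) F) = !![1, 1; 0, 1]) :
    (∀ χ : Matrix.SpecialLinearGroup (Fin 2) F → ℂ, Cfsg.IsIrrCharacter (Matrix.SpecialLinearGroup (Fin 2) F) χ → χ 1 = (((Fintype.card F + 1) / 2 : ℕ) : ℂ) → (2 * χ u - 1) ^ 2 = (-1 : ℂ) ^ ((Fintype.card F - 1) / 2) * (Fintype.card F : ℂ)) ∧
    (∀ χ : Matrix.SpecialLinearGroup (Fin 2) F → ℂ, Cfsg.IsIrrCharacter (Matrix.SpecialLinearGroup (Fin 2) F) χ → χ 1 = (((Fintype.card F - 1) / 2 : ℕ) : ℂ) → (2 * χ u + 1) ^ 2 = (-1 : ℂ) ^ ((Fintype.card F - 1) / 2) * (Fintype.card F : ℂ)) ∧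
    (∀ χ₁ χ₂ : Matrix.SpecialLinearGroup (Fin 2) F → ℂ, Cfsg.IsIrrCharacter (Matrix.SpecialLinearGroup (Fin 2) F) χ₁ → Cfsg.IsIrrCharacter (Matrix.SpecialLinearGroup (Fin 2) F) χ₂ → χ₁ ≠ χ₂ →
      χ₁ 1 = (((Fintype.card F + 1) / 2 : ℕ) : ℂ) → χ₂ 1 = (((Fintype.card F + 1) / 2 : ℕ) : ℂ) → χ₁ u + χ₂ u = 1) ∧
    (∀ χ₁ χ₂ : Matrix.SpecialLinearGroup (Fin 2) F → ℂ, Cfsg.IsIrrCharacter (Matrix.SpecialLinearGroup (Fin 2) F) χ₁ → Cfsg.IsIrrCharacter (Matrix.SpecialLinearGroup (Fin 2) F) χ₂ → χ₁ ≠ χ₂ →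
      χ₁ 1 = (((Fintype.card F - 1) / 2 : ℕ) : ℂ) → χ₂ 1 = (((Fintype.card F - 1) / 2 : ℕ) : ℂ) → χ₁ u + χ₂ u = -1) := by
  classical
  obtain rfl : u = CfsgLib.Misc.SLTwoClassify.setupS.u 1 := Subtype.ext hu
  obtain ⟨k, hk⟩ := hodd
  have hodd : Odd (Fintype.card F) := ⟨k, hk⟩
  have hkC : (Fintype.card F : ℂ) = 2 * k + 1 := by exact_mod_cast hk
  rw [show (Fintype.card F + 1) / 2 = k + 1 by omega, show (Fintype.card F - 1) / 2 = k by omega]
  obtain ⟨ν, hν, hν0⟩ := CfsgLib.Misc.SLTwoHalves.exists_nonsquare hodd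
  obtain ⟨α, h2, h1⟩ := CfsgLib.Misc.SLTwoHalves.exists_quad hodd
  have hkk : (Fintype.card F - 1) / 2 = k := by omega
  refine ⟨fun χ hχ hd => ?_, fun χ hχ hd => ?_, fun χ₁ χ₂ hχ₁ hχ₂ hne hd₁ hd₂ => ?_, fun χ₁ χ₂ hχ₁ hχ₂ hne hd₁ hd₂ => ?_⟩
  · obtain ⟨β, b2, b1, hc⟩ := CfsgLib.Misc.SLTwoHalves.deg_half hq hχ (by rw [hd]; push_cast; linear_combination -hkC)
    have hs := CfsgLib.Misc.SLTwoHalves.half_sum hodd hq b2 b1 hχ hc hν
    have e := CfsgLib.Misc.SLTwoHalves.sq_diff h2 h1 hodd hχ hν (by rw [hs, hd]; push_cast; linear_combination -hkC)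
    rw [hkk, show χ (CfsgLib.Misc.SLTwoClassify.setupS.u 1) - χ (CfsgLib.Misc.SLTwoClassify.setupS.u ν) = 2 * χ (CfsgLib.Misc.SLTwoClassify.setupS.u 1) - 1 by linear_combination -hs] at e
    exact e
  · have hcu := CfsgLib.Misc.SLTwoHalves.deg_small (by omega) hχ (Or.inl (by rw [hd]; linear_combination -hkC))
    have hs := CfsgLib.Misc.SLTwoHalves.small_sum hodd hχ hcu (by rw [hd]; linear_combination -hkC) hν
    have e := CfsgLib.Misc.SLTwoHalves.sq_diff h2 h1 hodd hχ hν (by rw [hs, hd]; linear_combination -hkC)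
    rw [hkk, show χ (CfsgLib.Misc.SLTwoClassify.setupS.u 1) - χ (CfsgLib.Misc.SLTwoClassify.setupS.u ν) = 2 * χ (CfsgLib.Misc.SLTwoClassify.setupS.u 1) + 1 by linear_combination -hs] at e
    exact e
  · obtain ⟨β, b2, b1, hc₁⟩ := CfsgLib.Misc.SLTwoHalves.deg_half hq hχ₁ (by rw [hd₁]; push_cast; linear_combination -hkC)
    obtain ⟨γ, g2, g1, hc₂⟩ := CfsgLib.Misc.SLTwoHalves.deg_half hq hχ₂ (by rw [hd₂]; push_cast; linear_combination -hkC)
    rw [CfsgLib.Misc.SLTwoHalves.quad_unique g2 g1 b2 b1 hodd] at hc₂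
    obtain ⟨h', -, -, -⟩ := CfsgLib.Misc.SLTwoClassify.half b2 b1 hχ₁ hc₁
    have e : χ₂ = CfsgLib.Misc.PrincipalSeries.psS β - χ₁ := by
      by_contra hne'
      refine hc₂ ?_
      rw [show CfsgLib.Misc.PrincipalSeries.psS β = χ₁ + (CfsgLib.Misc.PrincipalSeries.psS β - χ₁) by abel, CfsgLib.Char.classInner_add_left,
        CfsgLib.Char.irr_inner hχ₁ hχ₂, CfsgLib.Char.irr_inner h' hχ₂, if_neg hne, if_neg (Ne.symm hne'), add_zero]
    rw [e, Pi.sub_apply, add_sub_cancel, CfsgLib.Misc.SLTwoHalves.psS_u, if_neg one_ne_zero]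
  · obtain ⟨g, hg⟩ := CfsgLib.Misc.SLTwoHalves.exists_elliptic (F := F)
    exact CfsgLib.Misc.SLTwoSmall.small_pair (CfsgLib.Misc.SLTwoSmall.exists_torus hodd hg) hχ₁ hχ₂ hne
      (CfsgLib.Misc.SLTwoHalves.deg_small (by omega) hχ₁ (Or.inl (by rw [hd₁]; linear_combination -hkC)))
      (CfsgLib.Misc.SLTwoHalves.deg_small (by omega) hχ₂ (Or.inl (by rw [hd₂]; linear_combination -hkC)))
      (by rw [hd₁]; linear_combination -hkC) (by rw [hd₂]; linear_combination -hkC) 1 one_ne_zero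

end Cfsg.Agent.S2324
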