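import Cfsg.Statements.S2325
import Cfsg.Agent.Misc.SLTwoCount

set_option autoImplicit false
open Cfsg

namespace Cfsg.Agent.S2325

/-- Over a finite field with q elements, q odd, the special linear group SL₂ has exactly q + 4 conjugacy classes. -/
theorem result {F : Type*} [Field F] [Fintype F] (hodd : Odd (Fintype.card F)) :
    Nat.card (ConjClasses (Matrix.SpecialLinearGroup (Fin 2) F)) = Fintype.card F + 4 := by
  classical
  obtain ⟨k, hk⟩ := hodd
  have hodd : Odd (Fintype.card F) := ⟨k, hk⟩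
  rw [← CfsgLib.Char.card_irr_eq_card_conjClasses]
  open scoped CfsgLib.Char in
  by_cases hq : 5 ≤ Fintype.card F
  · have hkC : (Fintype.card F : ℂ) = 2 * k + 1 := by exact_mod_cast hk
    obtain ⟨s, hs⟩ : ∃ s : Finset ℂ, s = {1, (Fintype.card F : ℂ), (Fintype.card F : ℂ) + 1, (Fintype.card F : ℂ) - 1,
      (k : ℂ) + 1, (k : ℂ)} := ⟨_, rfl⟩
    have hmem : ∀ χ : Cfsg.IrrCharacter (Matrix.SpecialLinearGroup (Fin 2) F),
        (χ : Matrix.SpecialLinearGroup (Fin 2) F → ℂ) 1 ∈ s := fun χ => by
      rw [hs]; simp only [Finset.mem_insert, Finset.mem_singleton]; exact CfsgLib.Misc.SLTwoCount.degrees hodd k hk χ.2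
    rw [Nat.card_eq_fintype_card, ← Finset.card_univ, Finset.card_eq_sum_card_fiberwise
      (f := fun χ : Cfsg.IrrCharacter (Matrix.SpecialLinearGroup (Fin 2) F) =>
        (χ : Matrix.SpecialLinearGroup (Fin 2) F → ℂ) 1) (t := s) (fun χ _ => hmem χ)]
    have e : ∀ d : ℂ, (Finset.univ.filter fun χ : Cfsg.IrrCharacter (Matrix.SpecialLinearGroup (Fin 2) F) =>
        (χ : Matrix.SpecialLinearGroup (Fin 2) F → ℂ) 1 = d).card =
        Nat.card {χ : Cfsg.IrrCharacter (Matrix.SpecialLinearGroup (Fin 2) F) //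
          (χ : Matrix.SpecialLinearGroup (Fin 2) F → ℂ) 1 = d} := fun d => by
      rw [Nat.card_eq_fintype_card, Fintype.card_subtype]
    simp only [e]
    have c2 : (Fintype.card F : ℂ) + 1 = ((2 * k + 2 : ℕ) : ℂ) := by push_cast; rw [hkC]; ring
    have c3 : (Fintype.card F : ℂ) - 1 = ((2 * k : ℕ) : ℂ) := by push_cast; rw [hkC]; ring
    have c4 : (k : ℂ) + 1 = ((k + 1 : ℕ) : ℂ) := by push_cast; ring
    have c5 : (1 : ℂ) = ((1 : ℕ) : ℂ) := by push_cast; ring
    rw [hs, Finset.sum_insert (by rw [c2, c3, c4, c5]; simp only [Finset.mem_insert, Finset.mem_singleton, Nat.cast_inj]; omega),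
      Finset.sum_insert (by rw [c2, c3, c4]; simp only [Finset.mem_insert, Finset.mem_singleton, Nat.cast_inj]; omega),
      Finset.sum_insert (by rw [c2, c3, c4]; simp only [Finset.mem_insert, Finset.mem_singleton, Nat.cast_inj]; omega),
      Finset.sum_insert (by rw [c3, c4]; simp only [Finset.mem_insert, Finset.mem_singleton, Nat.cast_inj]; omega),
      Finset.sum_insert (by simp), Finset.sum_singleton, (CfsgLib.Misc.SLTwoCount.card_one_q (F := F) (by omega)).resolve_right (by omega),
      CfsgLib.Misc.SLTwoCount.card_q (by omega), CfsgLib.Misc.SLTwoCount.card_half hodd hq k hk, CfsgLib.Misc.SLTwoCount.card_small hodd hq k hk]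
    have hP := (CfsgLib.Misc.SLTwoCount.card_ps (F := F) (by omega)).trans (CfsgLib.Misc.SLTwoCount.card_not_sq hodd)
    have hD := CfsgLib.Misc.SLTwoCount.card_disc hodd hq
    omega
  · have h3 : Fintype.card F = 3 := by
      have : 2 ≤ Fintype.card F := Fintype.one_lt_card
      omega
    rw [h3, CfsgLib.Char.card_irr_eq_card_conjClasses]
    haveI : CharP F 3 := by
      obtain ⟨p, hp⟩ := CharP.exists F
      obtain ⟨n, hpr, hn⟩ := FiniteField.card F p
      have h33 : p ∣ 3 := h3 ▸ hn ▸ dvd_pow_self p n.ne_zero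
      exact ((Nat.prime_dvd_prime_iff_eq hpr Nat.prime_three).1 h33) ▸ hp
    let e : ZMod 3 ≃+* F := ZMod.ringEquiv F h3
    let E : Matrix.SpecialLinearGroup (Fin 2) (ZMod 3) ≃* Matrix.SpecialLinearGroup (Fin 2) F :=
      MulEquiv.ofBijective (Matrix.SpecialLinearGroup.map (e : ZMod 3 →+* F))
        ⟨fun a b h => Subtype.ext (Matrix.map_injective e.injective (congrArg Subtype.val h)),
          fun a => ⟨Matrix.SpecialLinearGroup.map (e.symm : F →+* ZMod 3) a, Subtype.ext (by
            ext i j; show e (e.symm (a.1 i j)) = a.1 i j; simp)⟩⟩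
    have hcong : Nat.card (ConjClasses (Matrix.SpecialLinearGroup (Fin 2) F)) =
        Nat.card (ConjClasses (Matrix.SpecialLinearGroup (Fin 2) (ZMod 3))) := by
      refine (Nat.card_eq_of_bijective (ConjClasses.map E.toMonoidHom) ⟨?_, ConjClasses.map_surjective E.surjective⟩).symm
      intro a b h
      obtain ⟨a, rfl⟩ := ConjClasses.mk_surjective a
      obtain ⟨b, rfl⟩ := ConjClasses.mk_surjective b
      have h' := ConjClasses.mk_eq_mk_iff_isConj.1 h
      have := E.symm.toMonoidHom.map_isConj h'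
      exact ConjClasses.mk_eq_mk_iff_isConj.2 (by simpa using this)
    rw [hcong, Nat.card_eq_fintype_card]
    decide +kernel

end Cfsg.Agent.S2325
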