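import Cfsg.Statements.S2367
import Mathlib.GroupTheory.SpecificGroups.Alternating
import Mathlib.Data.Nat.Multiplicity
import Mathlib.Tactic

set_option autoImplicit false
open Cfsg

namespace Cfsg.Agent.S2367

section Helpers

/-- the primes that occur in the orders of the sporadic groups -/
def primeList : List ℕ := [2, 3, 5, 7, 11, 13, 17, 19, 23, 29, 31, 37, 41, 43, 47, 53, 59, 61, 67, 71]

theorem sporadic_case (N a : ℕ) (hN0 : N ≠ 0) (hdiv : N ∣ primeList.prod ^ 60) (h2 : 2 ^ a ∣ N)
    (hall : ∀ q ∈ primeList, q ≠ 2 → q ^ 3 ∣ N → ¬ q ^ 4 ∣ N → q ^ 3 < 2 ^ a)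
    (p : ℕ) (hp : p.Prime) (hodd : p ≠ 2) (h3 : N.factorization p = 3) :
    p ^ 3 < 2 ^ N.factorization 2 := by
  have hpN : p ^ 3 ∣ N := (hp.pow_dvd_iff_le_factorization hN0).mpr (by omega)
  have hp4 : ¬ p ^ 4 ∣ N := fun h => by
    have := (hp.pow_dvd_iff_le_factorization hN0).mp h; omega
  have hpl : p ∣ primeList.prod :=
    hp.dvd_of_dvd_pow (((dvd_pow_self p (by norm_num)).trans hpN).trans hdiv)
  obtain ⟨q, hq, hpq⟩ := (hp.prime.dvd_prod_iff).mp hpl
  have hqp : q.Prime := by
    simp only [primeList, List.mem_cons, List.not_mem_nil, or_false] at hq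
    rcases hq with rfl | rfl | rfl | rfl | rfl | rfl | rfl | rfl | rfl | rfl | rfl | rfl | rfl | rfl |
      rfl | rfl | rfl | rfl | rfl | rfl <;> norm_num
  obtain rfl := (Nat.prime_dvd_prime_iff_eq hp hqp).mp hpq
  exact (hall p hq hodd hpN hp4).trans_le
    (Nat.pow_le_pow_right (by norm_num) ((Nat.prime_two.pow_dvd_iff_le_factorization hN0).mp h2))

theorem half_le_fac (n : ℕ) : n / 2 + n / 4 ≤ (n.factorial).factorization 2 := by
  haveI := Fact.mk Nat.prime_two
  rw [Nat.factorization_def _ Nat.prime_two,
    padicValNat_factorial (b := n + 3) (Nat.lt_of_le_of_lt (Nat.log_le_self 2 n) (by omega))]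
  calc n / 2 + n / 4 = ∑ i ∈ ({1, 2} : Finset ℕ), n / 2 ^ i := by simp
    _ ≤ _ := Finset.sum_le_sum_of_subset (by intro i; simp; omega)

theorem pow_bound : ∀ n : ℕ, 15 ≤ n → n ^ 3 < 27 * 2 ^ (n / 2) := by
  intro n
  induction n using Nat.strong_induction_on with
  | _ n ih =>
    intro hn
    rcases Nat.lt_or_ge n 17 with h | h
    · interval_cases n <;> norm_num
    · have h1 := ih (n - 2) (by omega) (by omega)
      obtain ⟨m, rfl⟩ : ∃ m, n = m + 2 := ⟨n - 2, by omega⟩
      rw [Nat.add_sub_cancel] at h1
      rw [Nat.add_div_right m (by norm_num : 0 < 2), pow_succ 2 (m / 2)]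
      have h15 : 15 ≤ m := by omega
      have e1 : 15 * (6 * m ^ 2) ≤ 6 * (m ^ 3) := by nlinarith
      have e2 : 15 * (15 * (12 * m)) ≤ 12 * (m ^ 3) := by nlinarith
      have e3 : 15 * 15 * 15 * 8 ≤ 8 * (m ^ 3) := by nlinarith
      nlinarith

theorem alternating_case (n : ℕ) (hn : 5 ≤ n) (p : ℕ) (hp : p.Prime) (hodd : p ≠ 2)
    (h3 : (Nat.card (alternatingGroup (Fin n))).factorization p = 3) :
    p ^ 3 < 2 ^ (Nat.card (alternatingGroup (Fin n))).factorization 2 := by
  haveI := Fact.mk hp
  haveI : Nontrivial (Fin n) := Fin.nontrivial_iff_two_le.mpr (by omega)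
  have hc : 2 * Nat.card (alternatingGroup (Fin n)) = n.factorial := by
    rw [Nat.card_eq_fintype_card, two_mul_card_alternatingGroup, Fintype.card_perm, Fintype.card_fin]
  set N := Nat.card (alternatingGroup (Fin n))
  have hN0 : N ≠ 0 := Nat.card_pos.ne'
  have hfp : (n.factorial).factorization p = 3 := by
    rw [← hc, Nat.factorization_mul (by norm_num) hN0, Finsupp.add_apply, h3,
      Nat.prime_two.factorization, Finsupp.single_apply, if_neg (Ne.symm hodd)]
  have hf2 : (n.factorial).factorization 2 = N.factorization 2 + 1 := by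
    rw [← hc, Nat.factorization_mul (by norm_num) hN0, Finsupp.add_apply,
      Nat.prime_two.factorization, Finsupp.single_eq_same]
    omega
  rw [Nat.factorization_def _ hp] at hfp
  have hb := padicValNat_factorial (p := p) (n := n) (b := n + 3)
    (Nat.lt_of_le_of_lt (Nat.log_le_self p n) (by omega))
  rw [hfp] at hb
  have hp3 : 3 ≤ p := by have := hp.two_le; omega
  have h3p : 3 * p ≤ n ∧ 5 ≤ p := by
    rcases Nat.lt_or_ge n (p * p) with hlt | hge
    · have : ∀ i ∈ Finset.Ico 1 (n + 3), i ≠ 1 → n / p ^ i = 0 := fun i hi h1 => by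
        rw [Finset.mem_Ico] at hi
        refine Nat.div_eq_of_lt (hlt.trans_le ?_)
        rw [← pow_two]; exact Nat.pow_le_pow_right hp.pos (by omega)
      rw [Finset.sum_eq_single_of_mem 1 (by simp) this, pow_one] at hb
      have h := Nat.div_mul_le_self n p
      rw [← hb] at h
      refine ⟨h, ?_⟩
      by_contra h5
      interval_cases p
      · omega
      · exact absurd hp (by norm_num)
    · exfalso
      have h1 : p ≤ n / p := (Nat.le_div_iff_mul_le hp.pos).mpr hge
      have h2 : 1 ≤ n / p ^ 2 := (Nat.le_div_iff_mul_le (pow_pos hp.pos 2)).mpr (by rw [one_mul, pow_two]; exact hge)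
      have h4 : n / p + n / p ^ 2 ≤ ∑ i ∈ Finset.Ico 1 (n + 3), n / p ^ i := by
        calc n / p + n / p ^ 2 = ∑ i ∈ ({1, 2} : Finset ℕ), n / p ^ i := by simp
          _ ≤ _ := Finset.sum_le_sum_of_subset (by intro i; simp; omega)
      omega
  have h1 := pow_bound n (by omega)
  have h2 := half_le_fac n
  have h4 : n / 2 ≤ N.factorization 2 := by omega
  have h5 : (3 * p) ^ 3 ≤ n ^ 3 := Nat.pow_le_pow_left h3p.1 3
  have h6 : 2 ^ (n / 2) ≤ 2 ^ N.factorization 2 := Nat.pow_le_pow_right (by norm_num) h4
  rw [mul_pow] at h5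
  omega

end Helpers

/-- Let G be an alternating group of degree at least 5 or a simple group with the order of one of the 26 sporadic groups, and let p be an odd prime such that p³ is the exact power of p dividing the order of G. Then p³ is less than the 2-part of the order of G. -/
theorem result {G : Type*} [Group G] [Finite G] (hG : Cfsg.IsAlternating G ∨ Cfsg.IsSporadic G)
    (p : ℕ) (hp : p.Prime) (hodd : p ≠ 2) (h3 : (Nat.card G).factorization p = 3) :
    p ^ 3 < 2 ^ (Nat.card G).factorization 2 := by
  rcases hG with ⟨n, hn, ⟨e⟩⟩ | hS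
  · rw [Nat.card_congr e.toEquiv] at h3 ⊢
    exact alternating_case n hn p hp hodd h3
  · rcases hS with h | h | h | h | h | h | h | h | h | h | h | h | h | h | h | h | h | h | h | h | h | h | h | h | h | h
    · rw [h.2] at h3 ⊢
      exact sporadic_case 7920 4 (by norm_num) (by decide) (by decide) (by decide) p hp hodd h3
    · rw [h.2] at h3 ⊢
      exact sporadic_case 95040 6 (by norm_num) (by decide) (by decide) (by decide) p hp hodd h3
    · rw [h.2] at h3 ⊢
      exact sporadic_case 443520 7 (by norm_num) (by decide) (by decide) (by decide) p hp hodd h3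
    · rw [h.2] at h3 ⊢
      exact sporadic_case 10200960 7 (by norm_num) (by decide) (by decide) (by decide) p hp hodd h3
    · rw [h.2] at h3 ⊢
      exact sporadic_case 244823040 10 (by norm_num) (by decide) (by decide) (by decide) p hp hodd h3
    · rw [h.2] at h3 ⊢
      exact sporadic_case 175560 3 (by norm_num) (by decide) (by decide) (by decide) p hp hodd h3
    · rw [h.2] at h3 ⊢
      exact sporadic_case 604800 7 (by norm_num) (by decide) (by decide) (by decide) p hp hodd h3
    · rw [h.2] at h3 ⊢
      exact sporadic_case 50232960 7 (by norm_num) (by decide) (by decide) (by decide) p hp hodd h3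
    · rw [h.2] at h3 ⊢
      exact sporadic_case 86775571046077562880 21 (by norm_num) (by decide) (by decide) (by decide) p hp hodd h3
    · rw [h.2] at h3 ⊢
      exact sporadic_case 4157776806543360000 21 (by norm_num) (by decide) (by decide) (by decide) p hp hodd h3
    · rw [h.2] at h3 ⊢
      exact sporadic_case 42305421312000 18 (by norm_num) (by decide) (by decide) (by decide) p hp hodd h3
    · rw [h.2] at h3 ⊢
      exact sporadic_case 495766656000 10 (by norm_num) (by decide) (by decide) (by decide) p hp hodd h3
    · rw [h.2] at h3 ⊢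
      exact sporadic_case 64561751654400 17 (by norm_num) (by decide) (by decide) (by decide) p hp hodd h3
    · rw [h.2] at h3 ⊢
      exact sporadic_case 4089470473293004800 18 (by norm_num) (by decide) (by decide) (by decide) p hp hodd h3
    · rw [h.2] at h3 ⊢
      exact sporadic_case 1255205709190661721292800 21 (by norm_num) (by decide) (by decide) (by decide) p hp hodd h3
    · rw [h.2] at h3 ⊢
      exact sporadic_case 44352000 9 (by norm_num) (by decide) (by decide) (by decide) p hp hodd h3
    · rw [h.2] at h3 ⊢
      exact sporadic_case 898128000 7 (by norm_num) (by decide) (by decide) (by decide) p hp hodd h3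
    · rw [h.2] at h3 ⊢
      exact sporadic_case 4030387200 10 (by norm_num) (by decide) (by decide) (by decide) p hp hodd h3
    · rw [h.2] at h3 ⊢
      exact sporadic_case 145926144000 14 (by norm_num) (by decide) (by decide) (by decide) p hp hodd h3
    · rw [h.2] at h3 ⊢
      exact sporadic_case 448345497600 13 (by norm_num) (by decide) (by decide) (by decide) p hp hodd h3
    · rw [h.2] at h3 ⊢
      exact sporadic_case 460815505920 9 (by norm_num) (by decide) (by decide) (by decide) p hp hodd h3
    · rw [h.2] at h3 ⊢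
      exact sporadic_case 273030912000000 14 (by norm_num) (by decide) (by decide) (by decide) p hp hodd h3
    · rw [h.2] at h3 ⊢
      exact sporadic_case 51765179004000000 8 (by norm_num) (by decide) (by decide) (by decide) p hp hodd h3
    · rw [h.2] at h3 ⊢
      exact sporadic_case 90745943887872000 15 (by norm_num) (by decide) (by decide) (by decide) p hp hodd h3
    · rw [h.2] at h3 ⊢
      exact sporadic_case 4154781481226426191177580544000000 41 (by norm_num) (by decide) (by decide) (by decide) p hp hodd h3
    · rw [h.2] at h3 ⊢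
      exact sporadic_case 808017424794512875886459904961710757005754368000000000 46 (by norm_num) (by decide) (by decide) (by decide) p hp hodd h3

end Cfsg.Agent.S2367
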