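import Cfsg.Statements.S2429
import Cfsg.Agent.Misc.TorusNormalizer
import Cfsg.Agent.Misc.SLTwoHalves

set_option autoImplicit false
open Cfsg

namespace Cfsg.Agent.S2429

/-- Let F be a finite field with q elements, q odd. Then SL₂ over F contains a cyclic subgroup T′ of order q + 1 (a non-split torus) with the following properties: T′ is its own centraliser, and indeed the centraliser of each element of T′ other than 1 and −1 is exactly T′; every element of SL₂ having no eigenvector in F² is conjugate to an element of T′; the normaliser of T′ has order 2(q + 1) and exactly (q + 7)/2 conjugacy classes; and every element of that normaliser outside T′ has square −1. -/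
theorem result {F : Type*} [Field F] [Fintype F] (hodd : Odd (Fintype.card F)) :
    ∃ T' : Subgroup (Matrix.SpecialLinearGroup (Fin 2) F), IsCyclic T' ∧ Nat.card T' = Fintype.card F + 1 ∧
      Subgroup.centralizer ((T' : Set (Matrix.SpecialLinearGroup (Fin 2) F))) = T' ∧
      (∀ g : Matrix.SpecialLinearGroup (Fin 2) F, g ∈ T' → (g : Matrix (Fin 2) (Fin 2) F) ≠ 1 → (g : Matrix (Fin 2) (Fin 2) F) ≠ -1 → Subgroup.centralizer ({g} : Set (Matrix.SpecialLinearGroup (Fin 2) F)) = T') ∧
      (∀ g : Matrix.SpecialLinearGroup (Fin 2) F, (∀ (c : F) (v : Fin 2 → F), v ≠ 0 → (g : Matrix (Fin 2) (Fin 2) F).mulVec v ≠ c • v) → ∃ h : Matrix.SpecialLinearGroup (Fin 2) F, h * g * h⁻¹ ∈ T') ∧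
      Nat.card (Subgroup.normalizer (T' : Set (Matrix.SpecialLinearGroup (Fin 2) F))) = 2 * (Fintype.card F + 1) ∧
      Nat.card (ConjClasses (Subgroup.normalizer (T' : Set (Matrix.SpecialLinearGroup (Fin 2) F)))) = (Fintype.card F + 7) / 2 ∧
      ∀ g : Matrix.SpecialLinearGroup (Fin 2) F, g ∈ Subgroup.normalizer (T' : Set (Matrix.SpecialLinearGroup (Fin 2) F)) → g ∉ T' → ((g * g) : Matrix (Fin 2) (Fin 2) F) = -1 := by
  classical
  obtain ⟨g₀, hg₀⟩ := CfsgLib.Misc.SLTwoHalves.exists_elliptic (F := F)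
  have hT := CfsgLib.Misc.TorusNormalizer.tor_elliptic hodd hg₀
  have hcard := CfsgLib.Misc.SLTwoTorus.card_centralizer (CfsgLib.Misc.SLTwoDiscrete.two_ne hodd) hg₀
  refine ⟨Subgroup.centralizer ({g₀} : Set (Matrix.SpecialLinearGroup (Fin 2) F)), hT.cyc, hcard, ?_,
    fun g hg h1 hn => hT.cen g hg (fun e => h1 (by rw [e]; rfl)) (fun e => hn (by
      rw [e, Matrix.SpecialLinearGroup.coe_neg]; rfl)),
    fun g hv => CfsgLib.Misc.TorusNormalizer.exists_conj_mem hodd hg₀ hv, by rw [hT.card_normalizer, hcard], ?_,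
    fun g hg hn => congrArg Subtype.val (hT.sq_eq_neg_one hg hn)⟩
  · refine le_antisymm ?_ fun x hx => Subgroup.mem_centralizer_iff.2 fun c hc => hT.comm hc hx
    intro x hx
    exact Subgroup.mem_centralizer_singleton_iff.2 ((Subgroup.mem_centralizer_iff.1 hx g₀ CfsgLib.Misc.TorusNormalizer.Tor.self_mem).symm)
  · have := hT.card_classes
    omega

end Cfsg.Agent.S2429
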