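import Cfsg.Statements.S2430
import Cfsg.Agent.Misc.TorusNormalizer
import Cfsg.Agent.Misc.SLTwoHalves
import Cfsg.Agent.Misc.SLTwoCount

set_option autoImplicit false
open Cfsg

namespace Cfsg.Agent.S2430

/-- Let F be a finite field with q elements, q odd, ℓ an odd prime, and P a Sylow ℓ-subgroup of SL₂ over F. If ℓ divides q − 1, the centraliser of P is cyclic of order q − 1 (a split torus) and the normaliser of P has order 2(q − 1); if ℓ divides q + 1, the centraliser of P is cyclic of order q + 1 (a non-split torus) and the normaliser of P has order 2(q + 1). -/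
theorem result {F : Type*} [Field F] [Fintype F] (hodd : Odd (Fintype.card F)) (ℓ : ℕ) [Fact ℓ.Prime] (hℓ : ℓ ≠ 2)
    (P : Sylow ℓ (Matrix.SpecialLinearGroup (Fin 2) F)) :
    (ℓ ∣ Fintype.card F - 1 →
      Nat.card (Subgroup.centralizer ((P : Subgroup (Matrix.SpecialLinearGroup (Fin 2) F)) : Set (Matrix.SpecialLinearGroup (Fin 2) F))) = Fintype.card F - 1 ∧
      IsCyclic (Subgroup.centralizer ((P : Subgroup (Matrix.SpecialLinearGroup (Fin 2) F)) : Set (Matrix.SpecialLinearGroup (Fin 2) F))) ∧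
      Nat.card (Subgroup.normalizer ((P : Subgroup (Matrix.SpecialLinearGroup (Fin 2) F)) : Set (Matrix.SpecialLinearGroup (Fin 2) F))) = 2 * (Fintype.card F - 1)) ∧
    (ℓ ∣ Fintype.card F + 1 →
      Nat.card (Subgroup.centralizer ((P : Subgroup (Matrix.SpecialLinearGroup (Fin 2) F)) : Set (Matrix.SpecialLinearGroup (Fin 2) F))) = Fintype.card F + 1 ∧
      IsCyclic (Subgroup.centralizer ((P : Subgroup (Matrix.SpecialLinearGroup (Fin 2) F)) : Set (Matrix.SpecialLinearGroup (Fin 2) F))) ∧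
      Nat.card (Subgroup.normalizer ((P : Subgroup (Matrix.SpecialLinearGroup (Fin 2) F)) : Set (Matrix.SpecialLinearGroup (Fin 2) F))) = 2 * (Fintype.card F + 1)) := by
  classical
  have hℓp : ℓ.Prime := Fact.out
  have hq : 0 < Fintype.card F := Fintype.card_pos
  have hne : ∀ k, ℓ ∣ k → k ∣ Nat.card (Matrix.SpecialLinearGroup (Fin 2) F) →
      (P : Subgroup (Matrix.SpecialLinearGroup (Fin 2) F)) ≠ ⊥ := fun k h h' =>
    P.ne_bot_of_dvd_card (h.trans h')
  have hℓ2 : ∀ k : ℕ, ℓ ∣ k → ℓ ∣ k + 2 → False := fun k a b =>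
    hℓ ((Nat.prime_dvd_prime_iff_eq hℓp Nat.prime_two).1 ((Nat.dvd_add_right a).1 b))
  have hℓ1 : ∀ k : ℕ, ℓ ∣ k → ℓ ∣ k + 1 → False := fun k a b =>
    hℓp.one_lt.ne' (Nat.dvd_one.1 ((Nat.dvd_add_right a).1 b))
  have main : ∀ g : Matrix.SpecialLinearGroup (Fin 2) F, CfsgLib.Misc.TorusNormalizer.Tor g →
      ¬ ℓ ∣ (Subgroup.centralizer ({g} : Set (Matrix.SpecialLinearGroup (Fin 2) F))).index →
      (P : Subgroup (Matrix.SpecialLinearGroup (Fin 2) F)) ≠ ⊥ →
      Nat.card (Subgroup.centralizer ((P : Subgroup (Matrix.SpecialLinearGroup (Fin 2) F)) : Set (Matrix.SpecialLinearGroup (Fin 2) F))) =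
          Nat.card (Subgroup.centralizer ({g} : Set (Matrix.SpecialLinearGroup (Fin 2) F))) ∧
        IsCyclic (Subgroup.centralizer ((P : Subgroup (Matrix.SpecialLinearGroup (Fin 2) F)) : Set (Matrix.SpecialLinearGroup (Fin 2) F))) ∧
        Nat.card (Subgroup.normalizer ((P : Subgroup (Matrix.SpecialLinearGroup (Fin 2) F)) : Set (Matrix.SpecialLinearGroup (Fin 2) F))) =
          2 * Nat.card (Subgroup.centralizer ({g} : Set (Matrix.SpecialLinearGroup (Fin 2) F))) := by
    intro g hT hco hP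
    obtain ⟨g', hT', hcard, hle⟩ := CfsgLib.Misc.TorusNormalizer.exists_sylow_le hT P hco
    obtain ⟨hC, hN⟩ := hT'.sylow hℓ P hle hP
    rw [hC, hN, hT'.card_normalizer, hcard]
    exact ⟨rfl, hT'.cyc, rfl⟩
  refine ⟨fun hdvd => ?_, fun hdvd => ?_⟩
  · have hq4 : 4 ≤ Fintype.card F := by
      by_contra hlt
      have h' : Fintype.card F - 1 = 2 ∨ Fintype.card F - 1 = 0 := by
        rw [Nat.odd_iff] at hodd
        omega
      rcases h' with h' | h'
      · rw [h'] at hdvd
        exact hℓ ((Nat.prime_dvd_prime_iff_eq hℓp Nat.prime_two).1 hdvd)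
      · have : 2 ≤ Fintype.card F := Fintype.one_lt_card
        omega
    obtain ⟨r, hr0, hr1⟩ : ∃ r : F, r ≠ 0 ∧ r ^ 2 ≠ 1 := by
      by_contra hall
      push Not at hall
      have hsub : (Finset.univ : Finset F) ⊆ {0, 1, -1} := fun r _ => by
        simp only [Finset.mem_insert, Finset.mem_singleton]
        by_cases h0 : r = 0
        · exact Or.inl h0
        · exact Or.inr (sq_eq_one_iff.1 (hall r h0))
      have := (Finset.card_le_card hsub).trans Finset.card_le_three
      rw [Finset.card_univ] at this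
      omega
    obtain ⟨hT, hcard⟩ := CfsgLib.Misc.TorusNormalizer.tor_diag hodd (d := CfsgLib.Misc.TorusNormalizer.diagEl (Units.mk0 r hr0)) rfl rfl hr1
    have hidx := Subgroup.index_mul_card (Subgroup.centralizer ({CfsgLib.Misc.TorusNormalizer.diagEl (Units.mk0 r hr0)} : Set (Matrix.SpecialLinearGroup (Fin 2) F)))
    rw [hcard, CfsgLib.Misc.SLTwoCount.card_SL, ← mul_assoc] at hidx
    have hidx' := Nat.eq_of_mul_eq_mul_right (by omega) hidx
    rw [← hcard]
    refine main _ hT ?_ (hne _ hdvd ⟨(Fintype.card F + 1) * Fintype.card F, by rw [CfsgLib.Misc.SLTwoCount.card_SL]; ring⟩)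
    rw [hidx']
    intro h
    rcases (Nat.Prime.dvd_mul hℓp).1 h with h | h
    · exact hℓ2 _ hdvd (by rwa [show Fintype.card F - 1 + 2 = Fintype.card F + 1 by omega])
    · exact hℓ1 _ hdvd (by rwa [show Fintype.card F - 1 + 1 = Fintype.card F by omega])
  · obtain ⟨g₀, hg₀⟩ := CfsgLib.Misc.SLTwoHalves.exists_elliptic (F := F)
    have hcard := CfsgLib.Misc.SLTwoTorus.card_centralizer (CfsgLib.Misc.SLTwoDiscrete.two_ne hodd) hg₀
    have hidx := Subgroup.index_mul_card (Subgroup.centralizer ({g₀} : Set (Matrix.SpecialLinearGroup (Fin 2) F)))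
    rw [hcard, CfsgLib.Misc.SLTwoCount.card_SL, mul_comm (Fintype.card F + 1)] at hidx
    have hidx' := Nat.eq_of_mul_eq_mul_right (by omega) hidx
    rw [← hcard]
    refine main _ (CfsgLib.Misc.TorusNormalizer.tor_elliptic hodd hg₀) ?_ (hne _ hdvd ⟨_, by rw [CfsgLib.Misc.SLTwoCount.card_SL]⟩)
    rw [hidx']
    intro h
    rcases (Nat.Prime.dvd_mul hℓp).1 h with h | h
    · exact hℓ1 _ h hdvd
    · exact hℓ2 _ h (by rwa [show Fintype.card F - 1 + 2 = Fintype.card F + 1 by omega])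

end Cfsg.Agent.S2430
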