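import Cfsg.Statements.S2435
import Cfsg.Agent.Misc.SLTwoSmall
import Cfsg.Agent.Misc.SLTwoThree

set_option autoImplicit false
open Cfsg

namespace Cfsg.Agent.S2435

/-- Let F be a finite field with q elements, q odd and q ≥ 5, and χ an irreducible complex character of SL₂ over F. If χ has degree (q + 1)/2, then at a diagonal element with entry a, a² ≠ 1, χ takes the value 1 when a is a square in F and −1 otherwise. If χ has degree (q − 1)/2, then at an element g with no eigenvector in F² (so g has order dividing q + 1), χ takes the value −1 when g raised to the power (q + 1)/2 is the identity and the value 1 otherwise. -/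
theorem result {F : Type*} [Field F] [Fintype F] (hodd : Odd (Fintype.card F)) (hq : 5 ≤ Fintype.card F)
    (χ : Matrix.SpecialLinearGroup (Fin 2) F → ℂ) (hχ : Cfsg.IsIrrCharacter (Matrix.SpecialLinearGroup (Fin 2) F) χ) (g : Matrix.SpecialLinearGroup (Fin 2) F) :
    (χ 1 = (((Fintype.card F + 1) / 2 : ℕ) : ℂ) → (g : Matrix (Fin 2) (Fin 2) F) 0 1 = 0 → (g : Matrix (Fin 2) (Fin 2) F) 1 0 = 0 → (g : Matrix (Fin 2) (Fin 2) F) 0 0 ^ 2 ≠ 1 →
      (IsSquare ((g : Matrix (Fin 2) (Fin 2) F) 0 0) → χ g = 1) ∧ (¬ IsSquare ((g : Matrix (Fin 2) (Fin 2) F) 0 0) → χ g = -1)) ∧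
    (χ 1 = (((Fintype.card F - 1) / 2 : ℕ) : ℂ) → (∀ (c : F) (v : Fin 2 → F), v ≠ 0 → (g : Matrix (Fin 2) (Fin 2) F).mulVec v ≠ c • v) →
      (((g ^ ((Fintype.card F + 1) / 2)) : Matrix (Fin 2) (Fin 2) F) = 1 → χ g = -1) ∧ (((g ^ ((Fintype.card F + 1) / 2)) : Matrix (Fin 2) (Fin 2) F) ≠ 1 → χ g = 1)) := by
  classical
  obtain ⟨k, hk⟩ := hodd
  have hodd : Odd (Fintype.card F) := ⟨k, hk⟩
  have hkC : (Fintype.card F : ℂ) = 2 * k + 1 := by exact_mod_cast hk
  rw [show (Fintype.card F + 1) / 2 = k + 1 by omega, show (Fintype.card F - 1) / 2 = k by omega]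
  refine ⟨fun hd h01 h10 hne => ?_, fun hd hv => ?_⟩
  · obtain ⟨α, h2, h1, hc⟩ := CfsgLib.Misc.SLTwoHalves.deg_half hq hχ (by rw [hd]; push_cast; linear_combination -hkC)
    have hg := CfsgLib.Misc.SLTwoClassify.half_value h2 h1 hχ hc (g := g) (CfsgLib.Misc.SLTwoClassify.exists_comm_diag h01 h10)
    have hd' : (g : Matrix (Fin 2) (Fin 2) F) 0 0 * (g : Matrix (Fin 2) (Fin 2) F) 1 1 = 1 := by
      have : (g : Matrix (Fin 2) (Fin 2) F).det = 1 := g.2
      rw [Matrix.det_fin_two, h01, zero_mul, sub_zero] at this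
      exact this
    have hne' : (g : Matrix (Fin 2) (Fin 2) F) 0 0 ≠ (g : Matrix (Fin 2) (Fin 2) F) 1 1 := fun h => hne (by
      rw [pow_two]; nth_rewrite 2 [h]; exact hd')
    have h0 := left_ne_zero_of_mul_eq_one hd'
    rw [CfsgLib.Misc.PrincipalSeries.psS, CfsgLib.Misc.BorelInduced.ind_diag _ _ CfsgLib.Misc.PrincipalSeries.rS
      (show CfsgLib.Misc.BorelInduced.mat Matrix.SpecialLinearGroup.toGL g 1 0 = 0 from h10) h01 hne' rfl CfsgLib.Misc.PrincipalSeries.rS_some] at hg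
    have hinv : α ((g : Matrix (Fin 2) (Fin 2) F) 1 1) = α ((g : Matrix (Fin 2) (Fin 2) F) 0 0) := by
      rw [eq_inv_of_mul_eq_one_right hd', ← MulChar.inv_apply',
        show α⁻¹ = α from inv_eq_of_mul_eq_one_right (by rw [← pow_two, h2])]
    have hval : χ g = α ((g : Matrix (Fin 2) (Fin 2) F) 0 0) := by
      refine mul_left_cancel₀ (two_ne_zero' ℂ) (hg.trans ?_)
      simp [CfsgLib.Misc.BorelInduced.mat, hinv]
      ring
    rw [hval, CfsgLib.Misc.SLTwoHalves.quad_apply h2 h1 hodd h0]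
    exact ⟨fun hs => if_pos hs, fun hs => if_neg hs⟩
  · have hcu := CfsgLib.Misc.SLTwoHalves.deg_small (by omega) hχ (Or.inl (by rw [hd]; linear_combination -hkC))
    have hT := CfsgLib.Misc.SLTwoSmall.exists_torus hodd (g := g) hv
    obtain ⟨θ₀, hθ, -, -, hu⟩ := CfsgLib.Misc.SLTwoSmall.exists_theta0 hT
    have hgC : g ∈ Subgroup.centralizer ({g} : Set (Matrix.SpecialLinearGroup (Fin 2) F)) :=
      Subgroup.mem_centralizer_singleton_iff.2 rfl
    have hval := (CfsgLib.Misc.SLTwoSmall.small_inner hT hχ hcu (by rw [hd]; linear_combination -hkC) hu).2 ⟨g, hgC⟩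
      (CfsgLib.Misc.SLTwoTorus.ne_pm (g := g) hv).1 (CfsgLib.Misc.SLTwoTorus.ne_pm (g := g) hv).2
    rw [hθ, show (Fintype.card F + 1) / 2 = k + 1 by omega] at hval
    have hiff : (⟨g, hgC⟩ : Subgroup.centralizer ({g} : Set (Matrix.SpecialLinearGroup (Fin 2) F))) ^ (k + 1) = 1 ↔
        ((g ^ (k + 1) : Matrix.SpecialLinearGroup (Fin 2) F) : Matrix (Fin 2) (Fin 2) F) = 1 :=
      ⟨fun e => congrArg (fun c : Subgroup.centralizer ({g} : Set (Matrix.SpecialLinearGroup (Fin 2) F)) =>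
          ((c : Matrix.SpecialLinearGroup (Fin 2) F) : Matrix (Fin 2) (Fin 2) F)) e,
        fun e => Subtype.ext (Subtype.ext e)⟩
    refine ⟨fun e => ?_, fun e => ?_⟩
    · rw [hval, if_pos (hiff.2 e)]
    · rw [hval, if_neg (fun h => e (hiff.1 h))]; norm_num

end Cfsg.Agent.S2435
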