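import Cfsg.Statements.S2437
import Cfsg.Agent.Misc.PrincipalSeries
import Mathlib.GroupTheory.GroupAction.CardCommute

set_option autoImplicit false
open Cfsg

namespace Cfsg.Agent.S2437

/-- Over a finite field F with q elements, q odd, the upper triangular subgroup of SL₂ (a Borel subgroup, of order q(q − 1)) has exactly q + 3 conjugacy classes. -/
theorem result {F : Type*} [Field F] [Fintype F] (hodd : Odd (Fintype.card F)) :
    Nat.card (ConjClasses ((Cfsg.upperTriangularGL 2 F).comap Matrix.SpecialLinearGroup.toGL)) = Fintype.card F + 3 := by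
  classical
  set B := (Cfsg.upperTriangularGL 2 F).comap Matrix.SpecialLinearGroup.toGL
  let e : Fˣ × F ≃ B := CfsgLib.Misc.PrincipalSeries.eS
  have h2 : (2 : F) ≠ 0 := by
    refine Ring.two_ne_zero fun h => ?_
    have := FiniteField.even_card_of_char_two h
    rw [Nat.odd_iff] at hodd
    omega
  have hc : ∀ s t : Fˣ × F, Commute (e s) (e t) ↔
      t.2 * ((s.1 : F) - ((s.1⁻¹ : Fˣ) : F)) = s.2 * ((t.1 : F) - ((t.1⁻¹ : Fˣ) : F)) := by
    intro s t
    have hi : Commute (e s) (e t) ↔ (!![(s.1 : F), s.2; 0, ((s.1⁻¹ : Fˣ) : F)] * !![(t.1 : F), t.2; 0, ((t.1⁻¹ : Fˣ) : F)] :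
        Matrix (Fin 2) (Fin 2) F) = !![(t.1 : F), t.2; 0, ((t.1⁻¹ : Fˣ) : F)] * !![(s.1 : F), s.2; 0, ((s.1⁻¹ : Fˣ) : F)] :=
      ⟨fun h => congrArg (fun z : B => ((z : Matrix.SpecialLinearGroup (Fin 2) F) : Matrix (Fin 2) (Fin 2) F)) h.eq,
        fun h => Subtype.ext (Subtype.ext h)⟩
    rw [hi]
    constructor
    · intro h
      have h01 := congrFun (congrFun h 0) 1
      simp [Matrix.mul_apply, Fin.sum_univ_two] at h01 ⊢
      linear_combination h01
    · intro h
      simp at h
      ext i j
      fin_cases i <;> fin_cases j <;> simp [Matrix.mul_apply, Fin.sum_univ_two]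
      · ring
      · linear_combination h
      · ring
  haveI : Fintype B := Fintype.ofFinite _
  have hB : Nat.card B = Fintype.card F * (Fintype.card F - 1) := by
    rw [← Nat.card_congr e, Nat.card_prod, Nat.card_units, Nat.card_eq_fintype_card, mul_comm]
  have htot : Nat.card {p : B × B // Commute p.1 p.2} = ∑ s : Fˣ × F, Nat.card {t : Fˣ × F // Commute (e s) (e t)} := by
    rw [← Nat.card_sigma]
    exact Nat.card_congr
      { toFun := fun p => ⟨e.symm p.1.1, e.symm p.1.2, by rw [e.apply_symm_apply, e.apply_symm_apply]; exact p.2⟩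
        invFun := fun s => ⟨(e s.1, e s.2.1), s.2.2⟩
        left_inv := fun p => by ext <;> simp
        right_inv := fun s => by
          obtain ⟨s, t, h⟩ := s
          simp only
          congr 1
          · simp
          · refine (Subtype.heq_iff_coe_eq ?_).2 ?_
            · simp
            · simp }
  set q := Fintype.card F with hq
  have hq2 : 2 ≤ q := Fintype.one_lt_card
  have hu : Fintype.card Fˣ = q - 1 := by rw [← Nat.card_eq_fintype_card, Nat.card_units, Nat.card_eq_fintype_card]
  have hone : ∀ a : Fˣ, ((a : F) - ((a⁻¹ : Fˣ) : F) = 0) ↔ a = 1 ∨ a = -1 := by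
    intro a
    rw [sub_eq_zero]
    constructor
    · intro h
      have : (a : F) * a = 1 := by conv_lhs => arg 2; rw [h]
                                   exact Units.mul_inv a
      rcases sq_eq_one_iff.1 ((pow_two _).trans this) with e' | e'
      · exact Or.inl (Units.ext e')
      · exact Or.inr (Units.ext (by simpa using e'))
    · rintro (rfl | rfl) <;> simp
  have hfib : ∀ s : Fˣ × F, Nat.card {t : Fˣ × F // Commute (e s) (e t)} =
      if s.1 = 1 ∨ s.1 = -1 then (if s.2 = 0 then (q - 1) * q else 2 * q) else q - 1 := by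
    rintro ⟨a, x⟩
    rw [Nat.card_congr (Equiv.subtypeEquivRight (fun t => hc (a, x) t))]
    split_ifs with ha hx
    · rw [(hone a).2 ha]
      simp only at hx
      subst hx
      simp [Nat.card_prod, Nat.card_eq_fintype_card, hu, hq, Nat.card_congr (Equiv.subtypeUnivEquiv (fun t : Fˣ × F => trivial))]
    · rw [(hone a).2 ha]
      simp only at hx
      rw [Nat.card_congr
        (Equiv.subtypeEquivRight (fun t : Fˣ × F => show t.2 * 0 = x * ((t.1 : F) - ((t.1⁻¹ : Fˣ) : F)) ↔ t.1 = 1 ∨ t.1 = -1 by
          rw [mul_zero, eq_comm, mul_eq_zero, hone, or_iff_right hx])),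
        Nat.card_congr (show {t : Fˣ × F // t.1 = 1 ∨ t.1 = -1} ≃ {a : Fˣ // a = 1 ∨ a = -1} × F from
          { toFun := fun t => (⟨t.1.1, t.2⟩, t.1.2)
            invFun := fun p => ⟨(p.1.1, p.2), p.1.2⟩
            left_inv := fun t => rfl
            right_inv := fun p => rfl }), Nat.card_prod, Nat.card_eq_fintype_card (α := F), ← hq]
      congr 1
      rw [Nat.card_eq_two_iff]
      refine ⟨⟨1, Or.inl rfl⟩, ⟨-1, Or.inr rfl⟩, fun h => h2 ?_, Set.eq_univ_of_forall ?_⟩
      · have := congrArg (fun u : {a : Fˣ // a = 1 ∨ a = -1} => ((u : Fˣ) : F)) h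
        simp at this
        linear_combination this
      · rintro ⟨b, rfl | rfl⟩ <;> simp
    · have hd : (a : F) - ((a⁻¹ : Fˣ) : F) ≠ 0 := fun h => ha ((hone a).1 h)
      rw [← hu, ← Nat.card_eq_fintype_card]
      exact Nat.card_congr
        { toFun := fun t => t.1.1
          invFun := fun b => ⟨(b, x * ((b : F) - ((b⁻¹ : Fˣ) : F)) / ((a : F) - ((a⁻¹ : Fˣ) : F))), div_mul_cancel₀ _ hd⟩
          left_inv := fun t => Subtype.ext (Prod.ext rfl (by
            show _ / _ = t.1.2
            rw [div_eq_iff hd]; exact t.2.symm))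
          right_inv := fun b => rfl }
  rw [card_comm_eq_card_conjClasses_mul_card, hB, Finset.sum_congr rfl fun s _ => hfib s, Fintype.sum_prod_type] at htot
  have hne : (1 : Fˣ) ≠ -1 := fun h => h2 (by
    have := congrArg Units.val h
    simp at this
    linear_combination this)
  have hin : ∀ a : Fˣ, (∑ x : F, if a = 1 ∨ a = -1 then (if x = 0 then (q - 1) * q else 2 * q) else q - 1) =
      if a = 1 ∨ a = -1 then 3 * (q - 1) * q else q * (q - 1) := by
    intro a
    split_ifs
    · rw [← Finset.add_sum_erase Finset.univ _ (Finset.mem_univ (0 : F)), if_pos rfl,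
        Finset.sum_congr rfl fun x hx => if_neg (Finset.mem_erase.1 hx).1, Finset.sum_const,
        Finset.card_erase_of_mem (Finset.mem_univ _), Finset.card_univ, smul_eq_mul, ← hq]
      ring
    · rw [Finset.sum_const, Finset.card_univ, smul_eq_mul]
  rw [Finset.sum_congr rfl fun a _ => hin a, Finset.sum_ite, Finset.sum_const, Finset.sum_const, smul_eq_mul, smul_eq_mul,
    show (Finset.univ.filter fun a : Fˣ => a = 1 ∨ a = -1) = {1, -1} by ext a; simp, Finset.card_pair hne] at htot
  have hrest := Finset.card_filter_add_card_filter_not (s := (Finset.univ : Finset Fˣ)) (fun a => a = 1 ∨ a = -1)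
  rw [show (Finset.univ.filter fun a : Fˣ => a = 1 ∨ a = -1) = {1, -1} by ext a; simp, Finset.card_pair hne,
    Finset.card_univ, hu] at hrest
  have hpos : 0 < q * (q - 1) := Nat.mul_pos (by omega) (by omega)
  obtain ⟨m, hm⟩ : ∃ m, m = (Finset.univ.filter fun a : Fˣ => ¬(a = 1 ∨ a = -1)).card := ⟨_, rfl⟩
  rw [← hm] at htot hrest
  have key : Nat.card (ConjClasses B) * (q * (q - 1)) = (m + 6) * (q * (q - 1)) := by rw [htot]; ring
  rw [Nat.eq_of_mul_eq_mul_right hpos key]
  omega

end Cfsg.Agent.S2437
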