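import Cfsg.Statements.S2438
import Cfsg.Agent.Misc.SLTwoHalves

set_option autoImplicit false
open Cfsg

namespace Cfsg.Agent.S2438

/-- Let F be a finite field with q elements, q odd, q ≥ 5, U the upper unitriangular subgroup of SL₂ over F, and χ an irreducible complex character. The sum of the values of χ over U equals 2q, q, 0, q, 0 according as the degree of χ is q + 1, q, q − 1, (q + 1)/2, (q − 1)/2; so among these five degrees the sum vanishes exactly for the degrees q − 1 and (q − 1)/2, i.e. the irreducible characters of those two degrees are the ones whose restriction to U does not contain the trivial character (the cuspidal characters), while those of degree q + 1, q and (q + 1)/2 are not cuspidal. -/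
theorem result {F : Type*} [Field F] [Fintype F] [DecidableEq F] (hodd : Odd (Fintype.card F)) (hq : 5 ≤ Fintype.card F)
    (χ : Matrix.SpecialLinearGroup (Fin 2) F → ℂ) (hχ : Cfsg.IsIrrCharacter (Matrix.SpecialLinearGroup (Fin 2) F) χ) :
    (χ 1 = (Fintype.card F : ℂ) + 1 →
      (∑ g : Matrix.SpecialLinearGroup (Fin 2) F, if (g : Matrix (Fin 2) (Fin 2) F) 1 0 = 0 ∧ (g : Matrix (Fin 2) (Fin 2) F) 0 0 = 1 ∧ (g : Matrix (Fin 2) (Fin 2) F) 1 1 = 1 then χ g else 0) = 2 * (Fintype.card F : ℂ)) ∧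
    (χ 1 = (Fintype.card F : ℂ) →
      (∑ g : Matrix.SpecialLinearGroup (Fin 2) F, if (g : Matrix (Fin 2) (Fin 2) F) 1 0 = 0 ∧ (g : Matrix (Fin 2) (Fin 2) F) 0 0 = 1 ∧ (g : Matrix (Fin 2) (Fin 2) F) 1 1 = 1 then χ g else 0) = (Fintype.card F : ℂ)) ∧
    (χ 1 = (Fintype.card F : ℂ) - 1 →
      (∑ g : Matrix.SpecialLinearGroup (Fin 2) F, if (g : Matrix (Fin 2) (Fin 2) F) 1 0 = 0 ∧ (g : Matrix (Fin 2) (Fin 2) F) 0 0 = 1 ∧ (g : Matrix (Fin 2) (Fin 2) F) 1 1 = 1 then χ g else 0) = 0) ∧
    (χ 1 = (((Fintype.card F + 1) / 2 : ℕ) : ℂ) →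
      (∑ g : Matrix.SpecialLinearGroup (Fin 2) F, if (g : Matrix (Fin 2) (Fin 2) F) 1 0 = 0 ∧ (g : Matrix (Fin 2) (Fin 2) F) 0 0 = 1 ∧ (g : Matrix (Fin 2) (Fin 2) F) 1 1 = 1 then χ g else 0) = (Fintype.card F : ℂ)) ∧
    (χ 1 = (((Fintype.card F - 1) / 2 : ℕ) : ℂ) →
      (∑ g : Matrix.SpecialLinearGroup (Fin 2) F, if (g : Matrix (Fin 2) (Fin 2) F) 1 0 = 0 ∧ (g : Matrix (Fin 2) (Fin 2) F) 0 0 = 1 ∧ (g : Matrix (Fin 2) (Fin 2) F) 1 1 = 1 then χ g else 0) = 0) := by
  obtain ⟨k, hk⟩ := hodd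
  have hodd : Odd (Fintype.card F) := ⟨k, hk⟩
  have hkC : (Fintype.card F : ℂ) = 2 * k + 1 := by exact_mod_cast hk
  rw [show (Fintype.card F + 1) / 2 = k + 1 by omega, show (Fintype.card F - 1) / 2 = k by omega]
  have hS : ∀ f : Matrix.SpecialLinearGroup (Fin 2) F → ℂ,
      (∑ g : Matrix.SpecialLinearGroup (Fin 2) F, if (g : Matrix (Fin 2) (Fin 2) F) 1 0 = 0 ∧
        (g : Matrix (Fin 2) (Fin 2) F) 0 0 = 1 ∧ (g : Matrix (Fin 2) (Fin 2) F) 1 1 = 1 then f g else 0) =
      ∑ x : F, f (CfsgLib.Misc.SLTwoClassify.setupS.u x) := by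
    intro f
    rw [← Finset.sum_filter]
    symm
    refine Finset.sum_bij (fun x _ => CfsgLib.Misc.SLTwoClassify.setupS.u x) (fun x _ => Finset.mem_filter.2 ⟨Finset.mem_univ _, rfl, rfl, rfl⟩)
      (fun x _ y _ h => congrFun (congrFun (congrArg Subtype.val h) 0) 1) (fun g hg => ?_) (fun x _ => rfl)
    obtain ⟨-, h10, h00, h11⟩ := Finset.mem_filter.1 hg
    refine ⟨(g : Matrix (Fin 2) (Fin 2) F) 0 1, Finset.mem_univ _, Subtype.ext ?_⟩
    show !![1, (g : Matrix (Fin 2) (Fin 2) F) 0 1; 0, 1] = (g : Matrix (Fin 2) (Fin 2) F)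
    conv_rhs => rw [Matrix.eta_fin_two (g : Matrix (Fin 2) (Fin 2) F), h00, h10, h11]
  simp only [hS]
  obtain ⟨n, -, hn⟩ := CfsgLib.Char.irr_deg hχ
  have hps : ∀ β : MulChar F ℂ, ∑ x : F, CfsgLib.Misc.PrincipalSeries.psS β (CfsgLib.Misc.SLTwoClassify.setupS.u x) = 2 * (Fintype.card F : ℂ) := by
    intro β
    simp only [CfsgLib.Misc.SLTwoHalves.psS_u]
    rw [← Finset.add_sum_erase Finset.univ _ (Finset.mem_univ (0 : F)), if_pos rfl,
      Finset.sum_congr rfl fun x hx => if_neg (Finset.mem_erase.1 hx).1, Finset.sum_const,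
      Finset.card_erase_of_mem (Finset.mem_univ _), Finset.card_univ, nsmul_eq_mul, Nat.cast_sub Fintype.card_pos]
    push_cast
    ring
  rcases CfsgLib.Misc.SLTwoClassify.classify hχ with hc | ⟨α, hα, rfl⟩ | rfl | rfl | ⟨α, h2, h1, hc⟩
  · rw [CfsgLib.Misc.SLTwoClassify.cusp_zero hχ hc]
    have hlt := CfsgLib.Misc.SLTwoClassify.cusp_lt hχ hc hn
    refine ⟨fun e => ?_, fun e => ?_, fun _ => rfl, fun e => ?_, fun _ => rfl⟩ <;> rw [hn] at e <;> exfalso
    · have : n = Fintype.card F + 1 := by exact_mod_cast e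
      omega
    · have : n = Fintype.card F := by exact_mod_cast e
      omega
    · have e' : n = k + 1 := by exact_mod_cast e
      have := CfsgLib.Misc.SLTwoClassify.cusp_deg_large hχ hc hn (by omega)
      omega
  · rw [hps, CfsgLib.Misc.SLTwoClassify.psS_one]
    refine ⟨fun _ => rfl, fun e => ?_, fun e => ?_, fun e => ?_, fun e => ?_⟩
    · exact absurd (show (1 : ℂ) = 0 by linear_combination e) one_ne_zero
    · exact absurd (show (2 : ℂ) = 0 by linear_combination e) two_ne_zero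
    · exfalso
      have : Fintype.card F + 1 = k + 1 := by exact_mod_cast e
      omega
    · exfalso
      have : Fintype.card F + 1 = k := by exact_mod_cast e
      omega
  · simp only [Finset.sum_const, Finset.card_univ, nsmul_eq_mul, mul_one]
    refine ⟨fun e => ?_, fun _ => trivial, fun e => ?_, fun _ => trivial, fun e => ?_⟩
    · exfalso
      have : Fintype.card F + 1 = 1 := by exact_mod_cast e.symm
      omega
    · exfalso
      have : Fintype.card F = 2 := by exact_mod_cast (show (Fintype.card F : ℂ) = 2 by linear_combination -e)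
      omega
    · exfalso
      have : k = 1 := by exact_mod_cast e.symm
      omega
  · rw [CfsgLib.Misc.SLTwoClassify.steinberg_one]
    have : ∑ x : F, ((CfsgLib.Misc.PrincipalSeries.psS (1 : MulChar F ℂ) - fun _ => (1 : ℂ)) : Matrix.SpecialLinearGroup (Fin 2) F → ℂ) (CfsgLib.Misc.SLTwoClassify.setupS.u x) = (Fintype.card F : ℂ) := by
      simp only [Pi.sub_apply, Finset.sum_sub_distrib, hps, Finset.sum_const, Finset.card_univ, nsmul_eq_mul, mul_one]
      ring
    rw [this]
    refine ⟨fun e => absurd (show (1 : ℂ) = 0 by linear_combination -e) one_ne_zero, fun _ => rfl,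
      fun e => absurd (show (1 : ℂ) = 0 by linear_combination e) one_ne_zero, fun _ => rfl, fun e => ?_⟩
    exfalso
    have : Fintype.card F = k := by exact_mod_cast e
    omega
  · obtain ⟨-, -, hd, -⟩ := CfsgLib.Misc.SLTwoClassify.half h2 h1 hχ hc
    obtain ⟨ν, hν, -⟩ := CfsgLib.Misc.SLTwoHalves.exists_nonsquare hodd
    have hs := CfsgLib.Misc.SLTwoHalves.half_sum hodd hq h2 h1 hχ hc hν
    rw [CfsgLib.Misc.SLTwoHalves.sum_u h2 h1 hodd (CfsgLib.Char.classFun_of_irr hχ) hν, hs]
    rw [hn] at hd ⊢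
    have h2n : 2 * n = Fintype.card F + 1 := by exact_mod_cast hd
    refine ⟨fun e => ?_, fun e => ?_, fun e => ?_, fun _ => ?_, fun e => ?_⟩
    · exfalso
      have : n = Fintype.card F + 1 := by exact_mod_cast e
      omega
    · exfalso
      have : n = Fintype.card F := by exact_mod_cast e
      omega
    · exfalso
      have : n + 1 = Fintype.card F := by exact_mod_cast (show (n : ℂ) + 1 = Fintype.card F by linear_combination e)
      omega
    · linear_combination hd / 2
    · exfalso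
      have : n = k := by exact_mod_cast e
      omega

end Cfsg.Agent.S2438
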