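import Cfsg.Statements.S3444
import Cfsg.Agent.Base.Small.OrderSpectrum
import Cfsg.Agent.Solv.MinimalNormal

set_option autoImplicit false
open Cfsg

namespace Cfsg.Agent.S3444

/-- A finite group with a non-trivial solvable normal subgroup is not determined by its set of element orders, not even up to finitely many possibilities: for every bound N there is a finite group of order greater than N with exactly the same set of element orders. -/
theorem result {G : Type*} [Group G] [Finite G] (K : Subgroup G) [K.Normal] (hK : K ≠ ⊥)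
    (hs : Group.IsSolvable K) (N : ℕ) :
    ∃ (H : Type) (_ : Group H) (_ : Fintype H), N < Fintype.card H ∧ Set.range (orderOf : H → ℕ) = Set.range (orderOf : G → ℕ) := by
  classical
  obtain ⟨V, hV, hVK⟩ := CfsgLib.Solv.exists_isMinimalNormal_le K hK
  have hVs : Group.IsSolvable V :=
    Group.isSolvable_of_isSolvable_injective (f := Subgroup.inclusion hVK) (Subgroup.inclusion_injective hVK)
  obtain ⟨p, hp, hexp, -⟩ := CfsgLib.Solv.exists_prime_exponent_of_minimal_solvable hV hVs
  -- a copy of `G` in the lowest universe
  letI := Fintype.ofFinite G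
  let e : {i : Fin (Fintype.card G) // True} ≃ G :=
    (Equiv.subtypeUnivEquiv fun _ => trivial).trans (Fintype.equivFin G).symm
  letI gF : Group {i : Fin (Fintype.card G) // True} := e.group
  let E : {i : Fin (Fintype.card G) // True} ≃* G :=
    { toEquiv := e, map_mul' := fun a b => e.apply_symm_apply (e a * e b) }
  have step : ∀ k : ℕ, ∃ (H : Type) (_ : Group H) (_ : Fintype H) (W : Subgroup H),
      W.Normal ∧ W ≠ ⊥ ∧ (∀ x ∈ W, x ^ p = 1) ∧ k < Fintype.card H ∧
        Set.range (orderOf : H → ℕ) = Set.range (orderOf : G → ℕ) := by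
    intro k
    induction k with
    | zero =>
      refine ⟨{i : Fin (Fintype.card G) // True}, gF, inferInstance, V.comap E.toMonoidHom,
        hV.1.comap E.toMonoidHom, fun h => hV.2.1 ?_, fun x hx => ?_, Fintype.card_pos, ?_⟩
      · rw [← Subgroup.map_comap_eq_self_of_surjective (f := E.toMonoidHom) E.surjective V, h,
          Subgroup.map_bot]
      · refine E.injective ?_
        rw [map_pow, map_one]
        exact hexp _ hx
      · ext n
        constructor
        · rintro ⟨a, rfl⟩
          exact ⟨E a, E.orderOf_eq a⟩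
        · rintro ⟨a, rfl⟩
          exact ⟨E.symm a, E.symm.orderOf_eq a⟩
    | succ k ih =>
      obtain ⟨H, gH, fH, W, hWn, hW, hWe, hk, hr⟩ := ih
      haveI := hWn
      haveI : Finite (W ⋊[(MulAut.conjNormal : H →* MulAut W)] H) :=
        Finite.of_equiv _ SemidirectProduct.equivProd.symm
      refine ⟨W ⋊[(MulAut.conjNormal : H →* MulAut W)] H, inferInstance, Fintype.ofFinite _,
        (SemidirectProduct.rightHom).ker, inferInstance, ?_, ?_, ?_, ?_⟩
      · rw [← SemidirectProduct.range_inl_eq_ker_rightHom]
        intro hb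
        obtain ⟨w, hw, hw1⟩ := W.bot_or_exists_ne_one.resolve_left hW
        have hm : SemidirectProduct.inl (φ := (MulAut.conjNormal : H →* MulAut W)) ⟨w, hw⟩ ∈
            (⊥ : Subgroup _) := hb ▸ ⟨_, rfl⟩
        rw [Subgroup.mem_bot] at hm
        exact hw1 (congrArg Subtype.val (SemidirectProduct.inl_injective (hm.trans (map_one _).symm)))
      · rw [← SemidirectProduct.range_inl_eq_ker_rightHom]
        rintro _ ⟨w, rfl⟩
        rw [← map_pow, show w ^ p = 1 from Subtype.ext (hWe _ w.2), map_one]
      · letI := Fintype.ofFinite (W ⋊[(MulAut.conjNormal : H →* MulAut W)] H)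
        rw [← Nat.card_eq_fintype_card, SemidirectProduct.card]
        have h2 : 1 < Nat.card W := (Subgroup.one_lt_card_iff_ne_bot W).2 hW
        rw [Nat.card_eq_fintype_card (α := H)]
        nlinarith
      · rw [CfsgLib.Base.Small.range_orderOf_semidirect W p hp (fun x => Subtype.ext (hWe _ x.2)), hr]
  obtain ⟨H, gH, fH, -, -, -, -, hN, hr⟩ := step N
  exact ⟨H, gH, fH, hN, hr⟩

end Cfsg.Agent.S3444
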