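import Cfsg.Statements.S3489
import Cfsg.Agent.Base.Spectrum.A10Witness
import Cfsg.Agent.S3444

set_option autoImplicit false
open Cfsg

namespace Cfsg.Agent.S3489

open CfsgLib.Spectrum

/-- Cycle decompositions realizing each element order. -/
def witnesses : List (ℕ × List (List (Fin 10))) := [
  (1, []),
  (2, [[0, 1], [2, 3]]),
  (3, [[0, 1, 2]]),
  (4, [[0, 1, 2, 3], [4, 5]]),
  (5, [[0, 1, 2, 3, 4]]),
  (6, [[0, 1, 2], [3, 4], [5, 6]]),
  (7, [[0, 1, 2, 3, 4, 5, 6]]),
  (8, [[0, 1, 2, 3, 4, 5, 6, 7], [8, 9]]),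
  (9, [[0, 1, 2, 3, 4, 5, 6, 7, 8]]),
  (10, [[0, 1, 2, 3, 4], [5, 6], [7, 8]]),
  (12, [[0, 1, 2, 3], [4, 5, 6], [7, 8]]),
  (15, [[0, 1, 2], [3, 4, 5, 6, 7]]),
  (21, [[0, 1, 2], [3, 4, 5, 6, 7, 8, 9]])]

/-- The permutation of a cycle decomposition. -/
def perm (cs : List (List (Fin 10))) : Equiv.Perm (Fin 10) := (cs.map List.formPerm).prod

theorem witnesses_ok : ∀ w ∈ witnesses, Equiv.Perm.sign (perm w.2) = 1 ∧ perm w.2 ^ w.1 = 1 ∧
    0 < w.1 ∧ ∀ m < w.1, 0 < m → perm w.2 ^ m ≠ 1 := by
  decide +kernel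

theorem witnesses_cover : ∀ d ∈ A10.spec, d ∈ witnesses.map (·.1) := by decide +kernel

theorem range_alt : Set.range (orderOf : alternatingGroup (Fin 10) → ℕ) = ↑A10.spec := by
  ext d
  constructor
  · rintro ⟨⟨σ, hσ⟩, rfl⟩
    rw [Finset.mem_coe, Subgroup.orderOf_mk, ← Equiv.Perm.lcm_cycleType]
    rw [Equiv.Perm.mem_alternatingGroup, Equiv.Perm.sign_of_cycleType] at hσ
    obtain ⟨L, hL⟩ : ∃ L : List ℕ, (L : Multiset ℕ) = σ.cycleType :=
      ⟨σ.cycleType.toList, Multiset.coe_toList _⟩
    have hsum := σ.sum_cycleType_le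
    have hge : ∀ k ∈ L, 2 ≤ k := fun k hk =>
      Equiv.Perm.two_le_of_mem_cycleType (σ := σ) (hL ▸ Multiset.mem_coe.2 hk)
    have hlen : 2 * L.length ≤ L.sum := by
      clear hsum hL hσ
      induction L with
      | nil => simp
      | cons a l ih =>
        have h1 := ih fun k hk => hge k (List.mem_cons_of_mem _ hk)
        have h2 := hge a List.mem_cons_self
        simp only [List.length_cons, List.sum_cons]
        omega
    rw [← hL, Multiset.sum_coe, Fintype.card_fin] at hsum
    rw [← hL, Multiset.sum_coe, Multiset.coe_card] at hσ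
    have he : Even (0 + (L.sum + L.length)) := by
      rw [zero_add]
      by_contra ho
      rw [Nat.not_even_iff_odd] at ho
      rw [ho.neg_one_pow] at hσ
      exact absurd hσ (by decide)
    have := A10.check_sound L 5 10 1 0 A10.check_ten hsum hge (by omega) he
    rwa [← hL, show (L : Multiset ℕ).lcm = L.foldl (fun l k => Nat.lcm k l) 1 from ?_]
    have key : ∀ (L : List ℕ) (a : ℕ), L.foldl (fun l k => Nat.lcm k l) a =
        Nat.lcm ((L : Multiset ℕ).lcm) a := by
      intro L
      induction L with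
      | nil => intro a; simp
      | cons k L ih =>
        intro a
        rw [List.foldl_cons, ih, ← Multiset.cons_coe, Multiset.lcm_cons, lcm_eq_nat_lcm,
          Nat.lcm_comm k ((L : Multiset ℕ).lcm), Nat.lcm_assoc]
    rw [key, Nat.lcm_one_right]
  · intro hd
    obtain ⟨w, hw, rfl⟩ := List.mem_map.1 (witnesses_cover d hd)
    obtain ⟨h1, h2, h3, h4⟩ := witnesses_ok w hw
    refine ⟨⟨perm w.2, Equiv.Perm.mem_alternatingGroup.2 h1⟩, ?_⟩
    rw [Subgroup.orderOf_mk]
    exact (orderOf_eq_iff h3).2 ⟨h2, h4⟩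


/-- The alternating group of degree 10 is not determined by its set of element orders, not even up to finitely many groups: for every bound N there is a finite group of order greater than N with exactly the same set of element orders as the alternating group of degree 10. -/
theorem result (N : ℕ) : ∃ (H : Type) (_ : Group H) (_ : Fintype H), N < Fintype.card H ∧ Set.range (orderOf : H → ℕ) = Set.range (orderOf : alternatingGroup (Fin 10) → ℕ) := by
  obtain ⟨K, hK, hne, hs⟩ := A10.exists_kernel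
  obtain ⟨H, i₁, i₂, hN, hspec⟩ := Cfsg.Agent.S3444.result K hne hs N
  exact ⟨H, i₁, i₂, hN, hspec.trans (A10.range_orderOf.trans range_alt.symm)⟩

end Cfsg.Agent.S3489
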