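import Cfsg.Statements.S2542
import Cfsg.Agent.S0804
import Cfsg.Agent.Lie.SLn
import Cfsg.Agent.Lie.ProjLine
import Cfsg.Agent.Perm.PrimeDegree

set_option autoImplicit false
open Cfsg

namespace Cfsg.Agent.S2542

/-- Let F be a field with 11 elements. PSL_2(F) has a subgroup H of index 11 isomorphic to the alternating group A_5, and the action of PSL_2(F) on the cosets of H is 2-transitive (of degree 11). -/
theorem result {F : Type*} [Field F] [Fintype F] (hF : Fintype.card F = 11) : ∃ H : Subgroup (Matrix.ProjectiveSpecialLinearGroup (Fin 2) F), H.index = 11 ∧ Nonempty (H ≃* alternatingGroup (Fin 5)) ∧ MulAction.IsMultiplyPretransitive (Matrix.ProjectiveSpecialLinearGroup (Fin 2) F) ((Matrix.ProjectiveSpecialLinearGroup (Fin 2) F) ⧸ H) 2 := by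
  classical
  haveI : Fact (Nat.Prime 11) := ⟨by norm_num⟩
  obtain ⟨H, ⟨e⟩⟩ := (Cfsg.Agent.S0804.result hF).2 (by norm_num)
  have hH : Nat.card H = 60 := by
    rw [Nat.card_congr e.toEquiv, nat_card_alternatingGroup]; simp [Nat.factorial]
  have hG : Nat.card (Matrix.ProjectiveSpecialLinearGroup (Fin 2) F) = 660 := by
    have h := CfsgLib.Lie.ProjLine.card_PSL_two (F := F) hF
    rw [show Nat.gcd 2 (11 - 1) = 2 from rfl, show 11 * (11 ^ 2 - 1) = 2 * 660 from rfl] at h
    omega
  have hidx : H.index = 11 := by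
    have h := H.card_mul_index
    rw [hH, hG] at h
    omega
  refine ⟨H, hidx, ⟨e⟩, ?_⟩
  have hs : IsSimpleGroup (Matrix.ProjectiveSpecialLinearGroup (Fin 2) F) := by
    refine CfsgLib.Lie.SLn.isSimpleGroup_PSL (Or.inr ?_)
    by_contra hno
    push Not at hno
    have hsub : (Finset.univ : Finset F) ⊆ {0, 1, -1} := fun a _ => by
      by_cases ha : a = 0
      · simp [ha]
      · rcases sq_eq_one_iff.1 (hno a ha) with h | h <;> simp [h]
    have := (Finset.card_le_card hsub).trans Finset.card_le_three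
    rw [Finset.card_univ, hF] at this
    omega
  haveI : H.FiniteIndex := ⟨by omega⟩
  let α := Matrix.ProjectiveSpecialLinearGroup (Fin 2) F ⧸ H
  haveI : Fintype α := Fintype.ofFinite _
  have hα : Fintype.card α = 11 := by
    rw [← Nat.card_eq_fintype_card]; exact hidx
  let φ : Matrix.ProjectiveSpecialLinearGroup (Fin 2) F →* Equiv.Perm α := MulAction.toPermHom _ α
  have hinj : Function.Injective φ := by
    rcases hs.eq_bot_or_eq_top_of_normal φ.ker inferInstance with h | h
    · exact (MonoidHom.ker_eq_bot_iff φ).1 h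
    · exfalso
      have hle : (⊤ : Subgroup (Matrix.ProjectiveSpecialLinearGroup (Fin 2) F)) ≤ H := by
        intro g _
        have hg : φ g = 1 := MonoidHom.mem_ker.1 (h ▸ Subgroup.mem_top g)
        have h1 : g • ((1 : Matrix.ProjectiveSpecialLinearGroup (Fin 2) F) : α) = ((1 : Matrix.ProjectiveSpecialLinearGroup (Fin 2) F) : α) :=
          congrArg (fun σ : Equiv.Perm α => σ ((1 : Matrix.ProjectiveSpecialLinearGroup (Fin 2) F) : α)) hg
        have h2 : ((g * 1 : Matrix.ProjectiveSpecialLinearGroup (Fin 2) F) : α) = ((1 : Matrix.ProjectiveSpecialLinearGroup (Fin 2) F) : α) := h1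
        rw [mul_one, QuotientGroup.eq, mul_one] at h2
        exact inv_mem_iff.1 h2
      rw [top_le_iff] at hle
      rw [hle, Subgroup.index_top] at hidx
      omega
  haveI : MulAction.IsPretransitive φ.range α := ⟨fun x y => by
    obtain ⟨g, hg⟩ := MulAction.exists_smul_eq (Matrix.ProjectiveSpecialLinearGroup (Fin 2) F) x y
    exact ⟨⟨φ g, g, rfl⟩, hg⟩⟩
  have hns : ¬ Group.IsSolvable φ.range := by
    intro h
    have h1 : Group.IsSolvable (Matrix.ProjectiveSpecialLinearGroup (Fin 2) F) :=
      solvable_of_solvable_injective (f := (MonoidHom.ofInjective hinj).toMonoidHom) (MonoidHom.ofInjective hinj).injective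
    have hc := (IsSimpleGroup.comm_iff_isSolvable (G := Matrix.ProjectiveSpecialLinearGroup (Fin 2) F)).2 h1
    have h5 : ∀ a b : alternatingGroup (Fin 5), a * b = b * a := fun a b => by
      apply e.symm.injective
      rw [map_mul, map_mul]
      exact Subtype.ext (hc _ _)
    exact absurd h5 (by decide +kernel)
  haveI h2 := CfsgLib.Perm.PrimeDegree.two_transitive φ.range hα hns
  rw [MulAction.is_two_pretransitive_iff] at h2 ⊢
  intro a b c d hab hcd
  obtain ⟨⟨_, g, rfl⟩, h1, h3⟩ := h2 hab hcd
  exact ⟨g, h1, h3⟩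

end Cfsg.Agent.S2542
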