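import Cfsg.Statements.S2551
import Cfsg.Agent.S0256
import Cfsg.Agent.Lie.Orders
import Mathlib.GroupTheory.PGroup
import Mathlib.LinearAlgebra.Matrix.GeneralLinearGroup.Defs

set_option autoImplicit false
open Cfsg

namespace Cfsg.Agent.S2551

open MulAction in
/-- fixed vectors of an element of prime order in `GL₄(2)`: one of at most the stated counts -/
theorem fixed_count {F : Type*} [Field F] [Fintype F] (hF : Fintype.card F = 2)
    (x : Matrix.GeneralLinearGroup (Fin 4) F) {r : ℕ} (hr : r.Prime) (hx : orderOf x = r) :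
    ∃ (d : ℕ) (S : Submodule F (Fin 4 → F)), d < 4 ∧ 16 ≡ 2 ^ d [MOD r] ∧ Module.finrank F S = d ∧
      ∀ v, v ∈ S ↔ (x : Matrix (Fin 4) (Fin 4) F).mulVec v = v := by
  classical
  haveI := Fact.mk hr
  let S := LinearMap.ker (Matrix.mulVecLin (x : Matrix (Fin 4) (Fin 4) F) - LinearMap.id)
  have hS : ∀ v, v ∈ S ↔ (x : Matrix (Fin 4) (Fin 4) F).mulVec v = v := fun v => by
    rw [LinearMap.mem_ker, LinearMap.sub_apply, sub_eq_zero]; rfl
  letI : MulAction (Matrix.GeneralLinearGroup (Fin 4) F) (Fin 4 → F) :=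
    { smul := fun g v => (g : Matrix (Fin 4) (Fin 4) F).mulVec v
      one_smul := fun v => Matrix.one_mulVec v
      mul_smul := fun g h v => (Matrix.mulVec_mulVec v (g : Matrix (Fin 4) (Fin 4) F) (h : Matrix (Fin 4) (Fin 4) F)).symm }
  have hP : IsPGroup r (Subgroup.zpowers x) := IsPGroup.of_card (n := 1) (by rw [Nat.card_zpowers, hx, pow_one])
  have h := hP.card_modEq_card_fixedPoints (Fin 4 → F)
  have hfix : (fixedPoints (Subgroup.zpowers x) (Fin 4 → F)) = (S : Set (Fin 4 → F)) := by
    ext v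
    rw [SetLike.mem_coe, hS]
    refine ⟨fun hv => hv ⟨x, Subgroup.mem_zpowers x⟩, fun hv g => ?_⟩
    have hle : Subgroup.zpowers x ≤ MulAction.stabilizer _ v := Subgroup.zpowers_le.2 hv
    exact hle g.2
  rw [hfix] at h
  have hcard : Nat.card S = 2 ^ Module.finrank F S := by
    rw [Module.natCard_eq_pow_finrank (K := F), Nat.card_eq_fintype_card, hF]
  rw [show Nat.card (↥(S : Set (Fin 4 → F))) = 2 ^ Module.finrank F S from hcard, Nat.card_eq_fintype_card,
    Fintype.card_fun, hF, Fintype.card_fin] at h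
  refine ⟨_, S, ?_, h, rfl, hS⟩
  by_contra hlt
  have htop : S = ⊤ := Submodule.eq_top_of_finrank_eq (by
    have := Submodule.finrank_le S
    rw [Module.finrank_fin_fun] at *
    omega)
  have h1 : x = 1 := Units.ext (Matrix.ext_of_mulVec_single fun i => by
    rw [Units.val_one, Matrix.one_mulVec]
    exact (hS _).1 (htop ▸ Submodule.mem_top))
  rw [h1, orderOf_one] at hx
  exact hr.one_lt.ne hx

/-- `GL₄(2) ≅ A₈` -/
theorem iso_A8 {F : Type*} [Field F] [Fintype F] (hF : Fintype.card F = 2) :
    Nonempty (Matrix.GeneralLinearGroup (Fin 4) F ≃* alternatingGroup (Fin 8)) := by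
  obtain ⟨e⟩ := Cfsg.Agent.S0256.result hF
  have hbot : Subgroup.center (Matrix.SpecialLinearGroup (Fin 4) F) = ⊥ := Subgroup.eq_bot_of_card_eq _ (by
    rw [CfsgLib.Lie.Orders.card_center_SL, Nat.card_eq_fintype_card, hF]; simp)
  let a : Matrix.SpecialLinearGroup (Fin 4) F →* Matrix.GeneralLinearGroup (Fin 4) F := Matrix.SpecialLinearGroup.toGL
  have hb : Function.Bijective a := (Nat.bijective_iff_injective_and_card a).2
    ⟨Matrix.SpecialLinearGroup.toGL_injective, by
      rw [CfsgLib.Lie.Orders.card_GL_eq_mul_card_SL, Nat.card_eq_fintype_card (α := F), hF]; simp⟩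
  exact ⟨(MulEquiv.ofBijective a hb).symm.trans
    ((QuotientGroup.quotientBot.symm.trans (QuotientGroup.quotientMulEquivOfEq hbot.symm)).trans e)⟩

/-- Let F be the field with 2 elements. GL_4(F) (≅ A_8) has a subgroup isomorphic to the alternating group A_7, and every such subgroup acts 2-transitively on the 15 non-zero vectors of F⁴: any ordered pair of distinct non-zero vectors is carried to any other by some element of the subgroup. -/
theorem result {F : Type*} [Field F] [Fintype F] (hF : Fintype.card F = 2) : (∃ H : Subgroup (Matrix.GeneralLinearGroup (Fin 4) F), Nonempty (H ≃* alternatingGroup (Fin 7))) ∧ ∀ H : Subgroup (Matrix.GeneralLinearGroup (Fin 4) F), Nonempty (H ≃* alternatingGroup (Fin 7)) → ∀ v w v' w' : Fin 4 → F, v ≠ 0 → w ≠ 0 → v ≠ w → v' ≠ 0 → w' ≠ 0 → v' ≠ w' → ∃ g ∈ H, (g : Matrix (Fin 4) (Fin 4) F).mulVec v = v' ∧ (g : Matrix (Fin 4) (Fin 4) F).mulVec w = w' := by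
  classical
  constructor
  · obtain ⟨e⟩ := iso_A8 hF
    let f : Fin 7 ≃ {i : Fin 8 // i.1 < 7} :=
      ⟨fun i => ⟨i.castSucc, i.2⟩, fun i => ⟨i.1.1, i.2⟩, fun i => rfl, fun i => rfl⟩
    let ι : alternatingGroup (Fin 7) →* alternatingGroup (Fin 8) :=
      ((Equiv.Perm.extendDomainHom f).comp (alternatingGroup (Fin 7)).subtype).codRestrict _ fun s => by
        rw [Equiv.Perm.mem_alternatingGroup]
        show Equiv.Perm.sign (Equiv.Perm.extendDomain s.1 f) = 1
        rw [Equiv.Perm.sign_extendDomain]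
        exact s.2
    have hι : Function.Injective ι := fun a b h =>
      Subtype.ext (Equiv.Perm.extendDomainHom_injective f (congrArg Subtype.val h))
    let ψ := e.symm.toMonoidHom.comp ι
    exact ⟨ψ.range, ⟨(MonoidHom.ofInjective (f := ψ) (e.symm.injective.comp hι)).symm⟩⟩
  intro H ⟨eH⟩
  have hH : Nat.card H = 2520 := by
    rw [Nat.card_congr eH.toEquiv, Nat.card_eq_fintype_card]; decide +kernel
  let Ω := {v : Fin 4 → F // v ≠ 0}
  have hΩ : Nat.card Ω = 15 := by
    rw [Nat.card_eq_fintype_card, Fintype.card_subtype_compl, Fintype.card_subtype_eq, Fintype.card_fun, hF]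
    rfl
  letI : MulAction H Ω :=
    { smul := fun g v => ⟨((g : Matrix.GeneralLinearGroup (Fin 4) F) : Matrix (Fin 4) (Fin 4) F).mulVec v.1,
        fun h => v.2 (by
          have := congrArg (((g⁻¹ : H) : Matrix.GeneralLinearGroup (Fin 4) F) : Matrix (Fin 4) (Fin 4) F).mulVec h
          simpa [Matrix.mulVec_mulVec] using this)⟩
      one_smul := fun v => Subtype.ext (Matrix.one_mulVec _)
      mul_smul := fun g h v => Subtype.ext (Matrix.mulVec_mulVec v.1
        ((g : Matrix.GeneralLinearGroup (Fin 4) F) : Matrix (Fin 4) (Fin 4) F)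
        ((h : Matrix.GeneralLinearGroup (Fin 4) F) : Matrix (Fin 4) (Fin 4) F)).symm }
  have hord : ∀ g : H, orderOf (g : Matrix.GeneralLinearGroup (Fin 4) F) = orderOf g := fun g => orderOf_injective H.subtype Subtype.val_injective g
  have five : ∀ g : H, orderOf g = 5 → ∀ v : Ω, g • v ≠ v := by
    intro g hg v hv
    obtain ⟨d, S, hd, hmod, hS, hmem⟩ := fixed_count hF _ Nat.prime_five ((hord g).trans hg)
    have hd0 : d = 0 := by
      interval_cases d <;> simp [Nat.ModEq] at hmod ⊢
    rw [hd0, Submodule.finrank_eq_zero] at hS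
    exact v.2 ((Submodule.mem_bot F).1 (hS ▸ (hmem v.1).2 (congrArg Subtype.val hv)))
  have seven : ∀ g : H, orderOf g = 7 → ∀ v w : Ω, g • v = v → g • w = w → v = w := by
    intro g hg v w hv hw
    obtain ⟨d, S, hd, hmod, hS, hmem⟩ := fixed_count hF _ (by norm_num) ((hord g).trans hg)
    have hd1 : d = 1 := by
      interval_cases d <;> simp [Nat.ModEq] at hmod ⊢
    rw [hd1] at hS
    obtain ⟨u, hu, hspan⟩ := finrank_eq_one_iff'.1 hS
    obtain ⟨c, hc⟩ := hspan ⟨v.1, (hmem v.1).2 (congrArg Subtype.val hv)⟩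
    obtain ⟨c', hc'⟩ := hspan ⟨w.1, (hmem w.1).2 (congrArg Subtype.val hw)⟩
    have hcc : ∀ c : F, c ≠ 0 → c = 1 := fun c hc => by
      have h : c ^ (Fintype.card F - 1) = 1 := FiniteField.pow_card_sub_one_eq_one c hc
      rwa [hF, pow_one] at h
    have h1 : c ≠ 0 := fun h => v.2 (by have := congrArg Subtype.val hc; rw [h, zero_smul] at this; exact this.symm)
    have h2 : c' ≠ 0 := fun h => w.2 (by have := congrArg Subtype.val hc'; rw [h, zero_smul] at this; exact this.symm)
    refine Subtype.ext ?_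
    have e1 := congrArg Subtype.val hc
    have e2 := congrArg Subtype.val hc'
    rw [hcc c h1, one_smul] at e1
    rw [hcc c' h2, one_smul] at e2
    exact e1.symm.trans e2
  haveI : Finite H := inferInstance
  obtain ⟨x, hx⟩ := exists_prime_orderOf_dvd_card' (G := H) 7 (hp := ⟨by norm_num⟩) (by rw [hH]; norm_num)
  -- every orbit has length divisible by five
  have hdiv : ∀ v : Ω, 5 ∣ Nat.card (MulAction.orbit H v) := by
    intro v
    have h := MulAction.index_stabilizer H v
    rw [← Nat.card_coe_set_eq] at h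
    rw [← h]
    by_contra hc
    haveI : Fact (Nat.Prime 5) := ⟨Nat.prime_five⟩
    have h5 : 5 ∣ Nat.card (MulAction.stabilizer H v) := by
      have h1 := Subgroup.card_mul_index (MulAction.stabilizer H v)
      rw [hH] at h1
      exact (Nat.prime_five.dvd_mul.1 (h1 ▸ by norm_num : 5 ∣ Nat.card (MulAction.stabilizer H v) * (MulAction.stabilizer H v).index)).resolve_right hc
    obtain ⟨y, hy⟩ := exists_prime_orderOf_dvd_card' 5 h5
    exact five y.1 ((orderOf_injective (MulAction.stabilizer H v).subtype Subtype.val_injective y).trans hy) v y.2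
  have small : ∀ v : Ω, Nat.card (MulAction.orbit H v) < 7 → False := by
    intro v hlt
    have hfix : ∀ w ∈ MulAction.orbit H v, x • w = w := by
      intro w hw
      haveI : Fact (Nat.Prime 7) := ⟨by norm_num⟩
      have h := MulAction.index_stabilizer (Subgroup.zpowers x) w
      rw [← Nat.card_coe_set_eq] at h
      have hle : Nat.card (MulAction.orbit (Subgroup.zpowers x) w) ≤ Nat.card (MulAction.orbit H v) := by
        refine Nat.card_mono (Set.toFinite _) ?_
        rintro _ ⟨g, rfl⟩
        exact MulAction.mem_orbit_of_mem_orbit g.1 hw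
      have hd : (MulAction.stabilizer (Subgroup.zpowers x) w).index ∣ 7 := by
        have h' := Subgroup.index_dvd_card (MulAction.stabilizer (Subgroup.zpowers x) w)
        rwa [Nat.card_zpowers, hx] at h'
      rcases (Nat.dvd_prime (by norm_num : Nat.Prime 7)).1 hd with h1 | h1
      · have := (Subgroup.index_eq_one.1 h1).ge (Subgroup.mem_top (⟨x, Subgroup.mem_zpowers x⟩ : Subgroup.zpowers x))
        exact this
      · omega
    have h1 : (MulAction.orbit H v).Subsingleton := fun a ha b hb => seven x hx a b (hfix a ha) (hfix b hb)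
    have h5 := hdiv v
    have h0 : Nat.card (MulAction.orbit H v) = 1 := by
      rw [Nat.card_coe_set_eq, Set.ncard_eq_one]
      exact ⟨v, Set.eq_singleton_iff_unique_mem.2 ⟨MulAction.mem_orbit_self v, fun y hy => h1 hy (MulAction.mem_orbit_self v)⟩⟩
    rw [h0] at h5
    norm_num at h5
  have trans : ∀ v : Ω, MulAction.orbit H v = Set.univ := by
    intro v
    by_contra hne
    obtain ⟨w, hw⟩ := (Set.ne_univ_iff_exists_notMem _).1 hne
    have hdis : Disjoint (MulAction.orbit H v) (MulAction.orbit H w) :=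
      (MulAction.orbit.eq_or_disjoint v w).resolve_left fun h => hw (h ▸ MulAction.mem_orbit_self w)
    have h1 : (MulAction.orbit H v).ncard + (MulAction.orbit H w).ncard ≤ 15 := by
      rw [← Set.ncard_union_eq hdis (Set.toFinite _) (Set.toFinite _), ← hΩ, ← Set.ncard_univ]
      exact Set.ncard_le_ncard (Set.subset_univ _)
    have h5 := hdiv v
    have h6 := hdiv w
    have h7 : ¬ Nat.card (MulAction.orbit H v) < 7 := small v
    have h8 : ¬ Nat.card (MulAction.orbit H w) < 7 := small w
    rw [Nat.card_coe_set_eq] at h5 h6 h7 h8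
    omega
  -- stabilisers
  have hstab : ∀ v : Ω, Nat.card (MulAction.stabilizer H v) = 168 := by
    intro v
    have h := Subgroup.card_mul_index (MulAction.stabilizer H v)
    rw [MulAction.index_stabilizer, trans v, Set.ncard_univ, hΩ, hH] at h
    omega
  -- an involution gives an orbit on pairs invariant under the swap
  obtain ⟨t, ht⟩ := exists_prime_orderOf_dvd_card' (G := H) 2 (by rw [hH]; norm_num)
  have pairs : ∀ a b : Ω, a ≠ b → 105 ∣ Nat.card (MulAction.orbit H (a, b)) := by
    intro a b hab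
    have h := MulAction.index_stabilizer H (a, b)
    rw [← Nat.card_coe_set_eq] at h
    suffices hd : 105 ∣ (MulAction.stabilizer H (a, b)).index by
      obtain ⟨k, hk⟩ := hd
      exact ⟨k, h.symm.trans hk⟩
    have hle : MulAction.stabilizer H (a, b) ≤ MulAction.stabilizer H a := fun g hg => congrArg Prod.fst hg
    have h1 := Subgroup.card_mul_index (MulAction.stabilizer H (a, b))
    have h2 := Subgroup.card_dvd_of_le hle
    rw [hstab] at h2
    rw [hH] at h1
    have h7 : ¬ 7 ∣ Nat.card (MulAction.stabilizer H (a, b)) := fun h7 => by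
      obtain ⟨y, hy⟩ := exists_prime_orderOf_dvd_card' (hp := ⟨by norm_num⟩) 7 h7
      exact hab (seven y.1 ((orderOf_injective (MulAction.stabilizer H (a, b)).subtype Subtype.val_injective y).trans hy) a b (congrArg Prod.fst y.2) (congrArg Prod.snd y.2))
    have h24 : Nat.card (MulAction.stabilizer H (a, b)) ∣ 24 :=
      ((show Nat.Prime 7 by norm_num).coprime_iff_not_dvd.2 h7).symm.dvd_of_dvd_mul_left
        (show Nat.card (MulAction.stabilizer H (a, b)) ∣ 7 * 24 from h2)
    obtain ⟨k, hk⟩ := h24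
    refine ⟨k, Nat.eq_of_mul_eq_mul_left (Nat.card_pos (α := MulAction.stabilizer H (a, b))) ?_⟩
    rw [h1, mul_left_comm, ← hk]; try norm_num
  have htne : ∃ a : Ω, t • a ≠ a := by
    by_contra hc
    push Not at hc
    have h1 : (t : Matrix.GeneralLinearGroup (Fin 4) F) = 1 := Units.ext (Matrix.ext_of_mulVec_single fun i => by
      rw [Units.val_one, Matrix.one_mulVec]
      exact congrArg Subtype.val (hc ⟨Pi.single i 1, by simp⟩))
    rw [show t = 1 from Subtype.ext h1, orderOf_one] at ht
    exact absurd ht (by norm_num)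
  obtain ⟨a, ha⟩ := htne
  have h210 : Nat.card {p : Ω × Ω // p.1 ≠ p.2} = 210 := by
    haveI : Fintype Ω := Fintype.ofFinite _
    rw [Nat.card_eq_fintype_card, Fintype.card_subtype_compl, Fintype.card_prod,
      show Fintype.card {p : Ω × Ω // p.1 = p.2} = Fintype.card Ω from Fintype.card_congr
        ⟨fun p => p.1.1, fun v => ⟨(v, v), rfl⟩, fun p => Subtype.ext (Prod.ext rfl p.2), fun v => rfl⟩,
      ← Nat.card_eq_fintype_card, hΩ]
  let O := MulAction.orbit H (a, t • a)
  have hOne : ∀ p ∈ O, p.1 ≠ p.2 := by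
    rintro _ ⟨g, rfl⟩ h
    exact ha (MulAction.injective g h).symm
  have hswap : ∀ p ∈ O, p.swap ∈ O := by
    rintro _ ⟨g, rfl⟩
    refine ⟨g * t, ?_⟩
    have ht2 : t * t = 1 := by rw [← pow_two, ← ht, pow_orderOf_eq_one]
    show (g * t) • (a, t • a) = (g • t • a, g • a)
    refine Prod.ext ?_ ?_
    · show (g * t) • a = g • t • a
      rw [mul_smul]
    · show (g * t) • t • a = g • a
      rw [smul_smul, mul_assoc, ht2, mul_one]
  have heven : Even (Nat.card O) := by
    let σ : Equiv.Perm O := ⟨fun p => ⟨p.1.swap, hswap _ p.2⟩, fun p => ⟨p.1.swap, hswap _ p.2⟩,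
      fun p => Subtype.ext (Prod.swap_swap _), fun p => Subtype.ext (Prod.swap_swap _)⟩
    haveI : Fintype O := Fintype.ofFinite _
    rw [Nat.card_eq_fintype_card, even_iff_two_dvd]
    have hsupp : σ.support = Finset.univ := Finset.eq_univ_iff_forall.2 fun p => Equiv.Perm.mem_support.2 fun h => by
      have h' : p.1.swap = p.1 := congrArg Subtype.val h
      exact hOne _ p.2 (congrArg Prod.snd h')
    haveI : Fact (Nat.Prime 2) := ⟨Nat.prime_two⟩
    have hct := Equiv.Perm.cycleType_of_pow_prime_eq_one (p := 2) (σ := σ)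
      (by rw [pow_two]; exact Equiv.ext fun p => Subtype.ext (Prod.swap_swap _))
    have hsum := σ.sum_cycleType
    rw [hct, hsupp, Finset.card_univ, Multiset.sum_replicate, smul_eq_mul] at hsum
    exact ⟨σ.cycleType.card, by omega⟩
  have hfull : ∀ p : Ω × Ω, p.1 ≠ p.2 → p ∈ O := by
    have hO : Nat.card O = 210 := by
      have h1 := pairs a (t • a) (Ne.symm ha)
      have h2 : Nat.card O ≤ 210 := by
        rw [← h210]
        exact Nat.card_le_card_of_injective (fun p : O => (⟨p.1, hOne _ p.2⟩ : {p : Ω × Ω // p.1 ≠ p.2}))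
          fun p q h => Subtype.ext (congrArg Subtype.val h :)
      haveI : Nonempty O := ⟨⟨(a, t • a), MulAction.mem_orbit_self (a, t • a)⟩⟩
      have h3 : Nat.card O ≠ 0 := Nat.card_pos.ne'
      obtain ⟨k, hk⟩ := h1
      obtain ⟨j, hj⟩ := heven
      change Nat.card O = 105 * k at hk
      omega
    intro p hp
    have hb := (Nat.bijective_iff_injective_and_card
      (fun p : O => (⟨p.1, hOne _ p.2⟩ : {p : Ω × Ω // p.1 ≠ p.2}))).2
      ⟨fun p q h => Subtype.ext (congrArg Subtype.val h :), by rw [hO, h210]⟩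
    obtain ⟨⟨q, hq⟩, hqp⟩ := hb.2 ⟨p, hp⟩
    have : q = p := congrArg Subtype.val hqp
    exact this ▸ hq
  intro v w v' w' hv hw hvw hv' hw' hvw'
  obtain ⟨g, hg⟩ := hfull (⟨v, hv⟩, ⟨w, hw⟩) fun h => hvw (congrArg Subtype.val h)
  obtain ⟨g', hg'⟩ := hfull (⟨v', hv'⟩, ⟨w', hw'⟩) fun h => hvw' (congrArg Subtype.val h)
  have e : (g' * g⁻¹) • ((⟨v, hv⟩, ⟨w, hw⟩) : Ω × Ω) = (⟨v', hv'⟩, ⟨w', hw'⟩) := by
    rw [← hg, ← hg']
    show (g' * g⁻¹) • g • (a, t • a) = g' • (a, t • a)
    exact (mul_smul (g' * g⁻¹) g (a, t • a)).symm.trans (by rw [inv_mul_cancel_right]; rfl)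
  exact ⟨_, (g' * g⁻¹).2, congrArg Subtype.val (congrArg Prod.fst e), congrArg Subtype.val (congrArg Prod.snd e)⟩

end Cfsg.Agent.S2551
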