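import Cfsg.Statements.S2565
import Cfsg.Agent.Lie.Klein
import Cfsg.Agent.S0825

set_option autoImplicit false
open Cfsg

namespace Cfsg.Agent.S2565

/-- The commutator subgroup of the full orthogonal group of the plus-type form Σ xᵢyᵢ in dimension 6 over the field of two elements (the group Ω⁺₆(2), of index 2) is isomorphic to the alternating group of degree 8. -/
theorem result :
    (Cfsg.Omega (ZMod 2) (Cfsg.quadFormPlus 3 (ZMod 2))).index = 2 ∧
    Nonempty (↥(Cfsg.Omega (ZMod 2) (Cfsg.quadFormPlus 3 (ZMod 2))) ≃* alternatingGroup (Fin 8)) := by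
  classical
  have hone : ∀ c : ZMod 2, c * c = 1 → c = 1 := by decide
  have he : ⇑(CfsgLib.Lie.OrthOrder.plusQ 3 (ZMod 2)) = Cfsg.quadFormPlus 3 (ZMod 2) :=
    funext fun v => CfsgLib.Lie.OrthOrder.plusQ_apply 3 v
  haveI : Fact (Nat.Prime 2) := ⟨Nat.prime_two⟩
  obtain ⟨e⟩ := Cfsg.Agent.S0825.result (F := ZMod 2) (ZMod.card 2)
  have hidx : (Cfsg.Omega (ZMod 2) (Cfsg.quadFormPlus 3 (ZMod 2))).index = 2 := by
    rw [← he, CfsgLib.Lie.Klein.index_eq, CfsgLib.Lie.Klein.card_ker,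
      show Nat.card {c : ZMod 2 // c * c = 1} = 1 from Nat.card_eq_one_iff_unique.2
        ⟨⟨fun a b => Subtype.ext ((hone a.1 a.2).trans (hone b.1 b.2).symm)⟩, ⟨⟨1, one_mul 1⟩⟩⟩]
  refine ⟨hidx, ⟨(Subgroup.equivMapOfInjective _ e.toMonoidHom e.injective).trans
    (MulEquiv.subgroupCongr (Equiv.Perm.eq_alternatingGroup_of_index_eq_two ?_))⟩⟩
  rw [Subgroup.index_map_of_bijective (f := e.toMonoidHom) e.bijective, hidx]

end Cfsg.Agent.S2565
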