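import Cfsg.Statements.S2566
import Cfsg.Agent.Lie.OrthFourPlus
import Cfsg.Agent.S0250

set_option autoImplicit false
open Cfsg

namespace Cfsg.Agent.S2566

/-- The full orthogonal group of the plus-type form x₁y₁ + x₂y₂ in dimension 4 over the field of two elements has order 72 and is isomorphic to the wreath product of the symmetric group of degree 3 by a group of order 2: it has a normal subgroup isomorphic to the direct product of two symmetric groups of degree 3, of index 2, whose two direct factors are interchanged by conjugation by some element. -/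
theorem result :
    Nat.card ↥(Cfsg.isometryGroup (ZMod 2) (Cfsg.quadFormPlus 2 (ZMod 2))) = 72 ∧
    ∃ (A B : Subgroup ↥(Cfsg.isometryGroup (ZMod 2) (Cfsg.quadFormPlus 2 (ZMod 2)))),
      Nonempty (↥A ≃* Equiv.Perm (Fin 3)) ∧ Nonempty (↥B ≃* Equiv.Perm (Fin 3)) ∧ A ⊓ B = ⊥ ∧ (∀ a ∈ A, ∀ b ∈ B, a * b = b * a) ∧
      (A ⊔ B).index = 2 ∧ ∃ g : ↥(Cfsg.isometryGroup (ZMod 2) (Cfsg.quadFormPlus 2 (ZMod 2))), A.map (MulAut.conj g).toMonoidHom = B := by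
  classical
  have hone : ∀ c : ZMod 2, c * c = 1 → c = 1 := by decide
  have hneg : ∀ x : ZMod 2, -x = x := by decide
  haveI : Fact (Nat.Prime 2) := ⟨Nat.prime_two⟩
  rw [← show ⇑(CfsgLib.Lie.OrthOrder.plusQ 2 (ZMod 2)) = Cfsg.quadFormPlus 2 (ZMod 2) from
    funext fun v => CfsgLib.Lie.OrthOrder.plusQ_apply 2 v]
  let G := Cfsg.isometryGroup (ZMod 2) ⇑(CfsgLib.Lie.OrthOrder.plusQ 2 (ZMod 2))
  let Φ : CfsgLib.Lie.OrthFourPlus.S2 (ZMod 2) × CfsgLib.Lie.OrthFourPlus.S2 (ZMod 2) →* G :=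
    CfsgLib.Lie.OrthFourPlus.Φ
  have hS : Nat.card (CfsgLib.Lie.OrthFourPlus.S2 (ZMod 2)) = 6 := by
    rw [CfsgLib.Lie.Orders.card_SL_two (ZMod.card 2)]; rfl
  have hΦ : Function.Injective Φ := (MonoidHom.ker_eq_bot_iff _).1 (Subgroup.eq_bot_of_card_eq _ (by
    rw [CfsgLib.Lie.OrthFourPlus.card_ker, Nat.card_eq_one_iff_unique]
    exact ⟨⟨fun a b => Subtype.ext ((hone a.1 a.2).trans (hone b.1 b.2).symm)⟩, ⟨⟨1, one_mul 1⟩⟩⟩))
  have hG : Nat.card G = 72 := by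
    show Nat.card (Cfsg.isometryGroup (ZMod 2) ⇑(CfsgLib.Lie.OrthOrder.plusQ 2 (ZMod 2))) = 72
    rw [show ⇑(CfsgLib.Lie.OrthOrder.plusQ 2 (ZMod 2)) = Cfsg.quadFormPlus 2 (ZMod 2) from
      funext fun v => CfsgLib.Lie.OrthOrder.plusQ_apply 2 v,
      CfsgLib.Lie.OrthOrder.card_plus (ZMod.card 2) 2 (by omega)]
    simp [Finset.prod_range_succ]
  obtain ⟨s3⟩ := Cfsg.Agent.S0250.result (F := ZMod 2) (ZMod.card 2)
  let f1 := Φ.comp (MonoidHom.inl _ _)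
  let f2 := Φ.comp (MonoidHom.inr _ _)
  have i1 : Function.Injective f1 := fun a b h => congrArg Prod.fst (hΦ h)
  have i2 : Function.Injective f2 := fun a b h => congrArg Prod.snd (hΦ h)
  have hsup : f1.range ⊔ f2.range = Φ.range := by
    refine le_antisymm (sup_le ?_ ?_) ?_
    · rintro _ ⟨a, rfl⟩; exact ⟨(a, 1), rfl⟩
    · rintro _ ⟨a, rfl⟩; exact ⟨(1, a), rfl⟩
    · rintro _ ⟨⟨a, b⟩, rfl⟩
      have e : Φ (a, b) = f1 a * f2 b := by
        show Φ (a, b) = Φ (a, 1) * Φ (1, b)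
        rw [← map_mul]; simp
      rw [e]
      exact Subgroup.mul_mem_sup ⟨a, rfl⟩ ⟨b, rfl⟩
  let σ : Equiv.Perm (Fin 2 ⊕ Fin 2) := Equiv.swap (Sum.inl 1) (Sum.inr 1)
  have hσ : σ.symm = σ := Equiv.symm_swap _ _
  let M : GL (Fin 2 ⊕ Fin 2) (ZMod 2) := ⟨σ.toPEquiv.toMatrix, σ.toPEquiv.toMatrix,
    by rw [← PEquiv.toMatrix_trans, ← Equiv.toPEquiv_trans]; nth_rw 2 [← hσ]
       rw [Equiv.self_trans_symm, Equiv.toPEquiv_refl, PEquiv.toMatrix_refl],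
    by rw [← PEquiv.toMatrix_trans, ← Equiv.toPEquiv_trans]; nth_rw 2 [← hσ]
       rw [Equiv.self_trans_symm, Equiv.toPEquiv_refl, PEquiv.toMatrix_refl]⟩
  have hM : ∀ v : Fin 2 ⊕ Fin 2 → ZMod 2, M.1.mulVec v = v ∘ σ := fun v => PEquiv.toMatrix_toPEquiv_mulVec σ v
  let g : G := ⟨M, fun u _ => by
    show CfsgLib.Lie.OrthOrder.plusQ 2 (ZMod 2) (M.1.mulVec u) = CfsgLib.Lie.OrthOrder.plusQ 2 (ZMod 2) u
    rw [hM, CfsgLib.Lie.OrthOrder.plusQ_apply, CfsgLib.Lie.OrthOrder.plusQ_apply]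
    simp [Cfsg.quadFormPlus, Fin.sum_univ_two, σ, Equiv.swap_apply_def, mul_comm]⟩
  have hmat : ∀ v : Fin 2 ⊕ Fin 2 → ZMod 2, CfsgLib.Lie.OrthFourPlus.mat (v ∘ σ) =
      (CfsgLib.Lie.OrthFourPlus.mat v).transpose := fun v => by
    ext i j
    fin_cases i <;> fin_cases j <;> simp [CfsgLib.Lie.OrthFourPlus.mat, σ, Equiv.swap_apply_def, hneg]
  have hswap : ∀ a b, g * Φ (a, b) = Φ (b, a) * g := by
    intro a b
    refine CfsgLib.Lie.Refl.act_ext fun x => ?_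
    rw [CfsgLib.Lie.Refl.act_mul, CfsgLib.Lie.Refl.act_mul]
    have hg : ∀ y, CfsgLib.Lie.Refl.act _ g y = y ∘ σ := hM
    have hl : ∀ p y, CfsgLib.Lie.Refl.act _ (Φ p) y = CfsgLib.Lie.OrthFourPlus.lin p y := fun p y =>
      LinearMap.toMatrix'_mulVec _ _
    rw [hg, hg, hl, hl]
    refine CfsgLib.Lie.OrthFourPlus.mat.injective ?_
    rw [hmat, CfsgLib.Lie.OrthFourPlus.mat_lin, CfsgLib.Lie.OrthFourPlus.mat_lin, hmat, Matrix.transpose_mul,
      Matrix.transpose_mul, Matrix.transpose_transpose, Matrix.mul_assoc]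
  refine ⟨hG, f1.range, f2.range, ⟨(MonoidHom.ofInjective i1).symm.trans s3⟩,
    ⟨(MonoidHom.ofInjective i2).symm.trans s3⟩, ?_, ?_, ?_, g, ?_⟩
  · rw [Subgroup.eq_bot_iff_forall]
    rintro _ ⟨⟨a, rfl⟩, b, hb⟩
    have h : ((a, 1) : _ × _) = (1, b) := hΦ hb.symm
    show Φ (a, 1) = 1
    rw [show a = 1 from congrArg Prod.fst h, Prod.mk_one_one, map_one]
  · rintro _ ⟨a, rfl⟩ _ ⟨b, rfl⟩
    show Φ (a, 1) * Φ (1, b) = Φ (1, b) * Φ (a, 1)
    rw [← map_mul, ← map_mul]; simp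
  · rw [hsup]
    have h := Subgroup.card_mul_index Φ.range
    rw [← Nat.card_congr (MonoidHom.ofInjective hΦ).toEquiv, Nat.card_prod, hS, hG] at h
    omega
  · ext y
    constructor
    · rintro ⟨_, ⟨a, rfl⟩, rfl⟩
      refine ⟨a, ?_⟩
      show Φ (1, a) = g * Φ (a, 1) * g⁻¹
      rw [hswap, mul_inv_cancel_right]
    · rintro ⟨a, rfl⟩
      refine ⟨Φ (a, 1), ⟨a, rfl⟩, ?_⟩
      show g * Φ (a, 1) * g⁻¹ = Φ (1, a)
      rw [hswap, mul_inv_cancel_right]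

end Cfsg.Agent.S2566
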