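import Cfsg.Statements.S2594
import Cfsg.Agent.Lie.SpOrder

set_option autoImplicit false
open Cfsg

namespace Cfsg.Agent.S2594

/-- Over a finite field with q elements, q even, an element t of Sp_2m(F) with rank(t − 1) = 1 (a symplectic transvection) has centraliser in Sp_2m(F) of order q^(2m−1) · |Sp_(2m−2)(q)| = q^(2m−1) · q^((m−1)²) · Π_(i=1)^(m−1) (q^(2i) − 1). -/
theorem result {F : Type*} [Field F] [Fintype F] [CharP F 2] {q : ℕ} (hF : Fintype.card F = q) {m : ℕ} (hm : 1 ≤ m) (t : Matrix.symplecticGroup (Fin m) F) (ht : ((t : Matrix (Fin m ⊕ Fin m) (Fin m ⊕ Fin m) F) - 1).rank = 1) : Nat.card ↥(Subgroup.centralizer ({t} : Set ↥(Matrix.symplecticGroup (Fin m) F))) = q ^ (2 * m - 1) * (q ^ ((m - 1) ^ 2) * ∏ i : Fin (m - 1), (q ^ (2 * ((i : ℕ) + 1)) - 1)) := by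
  classical
  open CfsgLib.Lie.Sp Matrix in
  set A := (t : Matrix (Fin m ⊕ Fin m) (Fin m ⊕ Fin m) F) - 1 with hA
  obtain ⟨a, ha0, hspan⟩ : ∃ a : V m F, a ≠ 0 ∧ ∀ x : V m F, ∃ c : F, c • a = A *ᵥ x := by
    have h1 : Module.finrank F (LinearMap.range A.mulVecLin) = 1 := ht
    obtain ⟨⟨a, hmem⟩, h0, h⟩ := finrank_eq_one_iff'.1 h1
    refine ⟨a, fun h' => h0 (Subtype.ext h'), fun x => ?_⟩
    obtain ⟨c, hc⟩ := h ⟨A *ᵥ x, x, rfl⟩
    exact ⟨c, congrArg Subtype.val hc⟩
  choose φ hφ using hspan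
  have hact : ∀ x : V m F, act t x = x + φ x • a := by
    intro x
    rw [hφ, hA, Matrix.sub_mulVec, Matrix.one_mulVec, act]
    abel
  obtain ⟨x₁, hx₁⟩ := exists_bf_eq_one ha0
  have hx0 : bf m F (-x₁) a = 1 := by rw [map_neg, LinearMap.neg_apply, bf_swap, hx₁, neg_neg]
  set x0 := -x₁
  have hform : ∀ y, φ y = φ x0 * bf m F y a := by
    intro y
    have h := bf_act t x0 y
    rw [hact, hact] at h
    simp only [map_add, map_smul, LinearMap.add_apply, LinearMap.smul_apply, smul_eq_mul, hx0,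
      bf_self, bf_swap y a] at h
    linear_combination h
  have hc0 : φ x0 ≠ 0 := by
    intro h0
    have hz : A = 0 := Matrix.ext_of_mulVec_single fun i => by
      rw [← hφ, hform, h0, zero_mul, zero_smul, Matrix.zero_mulVec]
    change A.rank = 1 at ht
    rw [hz, Matrix.rank_zero] at ht
    exact zero_ne_one ht
  have htv : t = tv a (φ x0) := act_ext fun x => by rw [hact, act_tv, hform]
  letI : MulAction (G m F) (V m F) := { smul := act, one_smul := act_one, mul_smul := act_mul }
  have hC : Subgroup.centralizer ({t} : Set (G m F)) = MulAction.stabilizer (G m F) a := by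
    ext g
    rw [Subgroup.mem_centralizer_singleton_iff, MulAction.mem_stabilizer_iff]
    change g * t = t * g ↔ act g a = a
    rw [← mul_inv_eq_iff_eq_mul, htv, conj_tv]
    refine ⟨fun h => ?_, fun h => by rw [h]⟩
    have h' := congrArg (fun s => act s x0) h
    simp only [act_tv, hx0, mul_one, add_right_inj] at h'
    have h'' : (bf m F x0 (act g a)) • act g a = a := by
      have := congrArg (fun v => (φ x0)⁻¹ • v) h'
      simpa [smul_smul, ← mul_assoc, hc0] using this
    have h3 := congrArg (fun v => bf m F x0 v) h''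
    simp only [map_smul, smul_eq_mul, hx0] at h3
    have h4 : bf m F x0 (act g a) = 1 := by
      have : (bf m F x0 (act g a) - 1) ^ 2 = 0 := by
        linear_combination h3 - (bf m F x0 (act g a) - 1) * CharTwo.two_eq_zero (R := F)
      exact sub_eq_zero.1 (pow_eq_zero_iff two_ne_zero |>.1 this)
    rwa [h4, one_smul] at h''
  have horb : MulAction.orbit (G m F) a = {v : V m F | v ≠ 0} := by
    ext v
    refine ⟨?_, fun hv => transitive ha0 hv⟩
    rintro ⟨g, rfl⟩
    intro h
    have h' : act g a = 0 := h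
    have := act_inv_act g a
    rw [h', act, Matrix.mulVec_zero] at this
    exact ha0 this.symm
  have horbc : Nat.card (MulAction.orbit (G m F) a) = q ^ (2 * m) - 1 := by
    rw [horb, Nat.card_coe_set_eq, show {v : V m F | v ≠ 0} = ({0} : Set (V m F))ᶜ from rfl,
      Set.ncard_compl, Set.ncard_singleton, Nat.card_fun, Nat.card_sum, Nat.card_eq_fintype_card,
      Nat.card_eq_fintype_card, hF, Fintype.card_fin, two_mul]
  have hprod := Nat.card_congr (MulAction.orbitEquivQuotientStabilizer (G m F) a)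
  replace hprod := horbc.symm.trans hprod
  have hmul := (Subgroup.card_eq_card_quotient_mul_card_subgroup
    (MulAction.stabilizer (G m F) a))
  rw [← hprod, card_G, ← hC, Nat.card_eq_fintype_card (α := F), hF] at hmul
  obtain ⟨k, rfl⟩ : ∃ k, m = k + 1 := ⟨m - 1, by omega⟩
  rw [Finset.prod_range_succ, show (k + 1) ^ 2 = (2 * (k + 1) - 1) + k ^ 2 by
    rw [show 2 * (k + 1) - 1 = 2 * k + 1 by omega]; ring, pow_add] at hmul
  have hq : 1 < q ^ (2 * (k + 1)) := Nat.one_lt_pow (by omega) (hF ▸ Fintype.one_lt_card)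
  rw [show k + 1 - 1 = k from rfl, Fin.prod_univ_eq_prod_range (fun i => q ^ (2 * (i + 1)) - 1) k]
  refine Nat.eq_of_mul_eq_mul_left (by omega : 0 < q ^ (2 * (k + 1)) - 1) ?_
  rw [← hmul]
  ring

end Cfsg.Agent.S2594
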