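import Cfsg.Statements.S2599
import Cfsg.Agent.Lie.OrthSpinor

set_option autoImplicit false
open Cfsg

namespace Cfsg.Agent.S2599

/-- An irreducible invariant subspace of a semisimple isometry is non-degenerate or totally singular: let Q be a quadratic form on F^n (F finite of characteristic p) with non-degenerate polar form f, x an isometry of Q of order prime to p, and U a non-zero x-invariant subspace containing no x-invariant subspace other than 0 and U. Then U meets its f-orthogonal trivially, or Q vanishes on U, or p = 2, U is a line spanned by a non-singular vector and x fixes U pointwise. -/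
theorem result {F : Type*} [Field F] [Fintype F] {p : ℕ} [Fact p.Prime] [CharP F p] {n : ℕ} (Q : QuadraticForm F (Fin n → F)) (hQ : (QuadraticMap.polarBilin Q).Nondegenerate) (x : ↥(Cfsg.isometryGroup F ⇑Q)) (hx : (orderOf x).Coprime p) (U : Submodule F (Fin n → F)) (hU0 : U ≠ ⊥) (hUx : ∀ u ∈ U, ((x : Matrix.GeneralLinearGroup (Fin n) F) : Matrix (Fin n) (Fin n) F).mulVec u ∈ U) (hirr : ∀ W : Submodule F (Fin n → F), W ≤ U → (∀ w ∈ W, ((x : Matrix.GeneralLinearGroup (Fin n) F) : Matrix (Fin n) (Fin n) F).mulVec w ∈ W) → W = ⊥ ∨ W = U) : U ⊓ LinearMap.BilinForm.orthogonal (QuadraticMap.polarBilin Q) U = ⊥ ∨ (∀ u ∈ U, Q u = 0) ∨ (p = 2 ∧ Module.finrank F U = 1 ∧ (∃ u ∈ U, Q u ≠ 0) ∧ ∀ u ∈ U, ((x : Matrix.GeneralLinearGroup (Fin n) F) : Matrix (Fin n) (Fin n) F).mulVec u = u) := by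
  classical
  let O := LinearMap.BilinForm.orthogonal (QuadraticMap.polarBilin Q) U
  have hinv : ∀ w ∈ U ⊓ O, CfsgLib.Lie.Refl.act Q x w ∈ U ⊓ O := by
    rintro w ⟨hwU, hwO⟩
    refine ⟨hUx w hwU, fun v hv => ?_⟩
    have hsurj : U.map (Matrix.mulVecLin ((x : Matrix.GeneralLinearGroup (Fin n) F) : Matrix (Fin n) (Fin n) F)) = U := by
      refine Submodule.eq_of_le_of_finrank_le (fun y hy => ?_) ?_
      · obtain ⟨z, hz, rfl⟩ := Submodule.mem_map.1 hy; exact hUx z hz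
      · exact (Submodule.equivMapOfInjective _ (CfsgLib.Lie.Refl.act_inj x) U).finrank_eq.le
    obtain ⟨v', hv', rfl⟩ := Submodule.mem_map.1 (hsurj.ge hv)
    show QuadraticMap.polar ⇑Q (CfsgLib.Lie.Refl.act Q x v') (CfsgLib.Lie.Refl.act Q x w) = 0
    rw [CfsgLib.Lie.Refl.act_polar]
    exact hwO v' hv'
  rcases hirr (U ⊓ O) inf_le_left hinv with h | h
  · exact Or.inl h
  right
  have hiso : ∀ u ∈ U, ∀ v ∈ U, QuadraticMap.polar ⇑Q u v = 0 := fun u hu v hv => (h.ge hv).2 u hu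
  by_cases hp : p = 2
  swap
  · left
    intro u hu
    have h1 := hiso u hu u hu
    rw [CfsgLib.Lie.OrthChar.polar_self'] at h1
    refine (mul_eq_zero.1 h1).resolve_left fun h2 => hp ?_
    haveI := CfsgLib.Lie.OrthSpinor.charP_two h2
    exact CharP.eq F ‹_› ‹_›
  subst hp
  have h2 : (2 : F) = 0 := CharTwo.two_eq_zero
  have hadd : ∀ u ∈ U, ∀ v ∈ U, Q (u + v) = Q u + Q v := fun u hu v hv => by
    rw [CfsgLib.Lie.OrthChar.map_add', hiso u hu v hv, add_zero]
  let K : Submodule F (Fin n → F) :=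
    { carrier := {u | u ∈ U ∧ Q u = 0}
      zero_mem' := ⟨U.zero_mem, QuadraticMap.map_zero Q⟩
      add_mem' := fun {a b} ha hb => ⟨U.add_mem ha.1 hb.1, by rw [hadd a ha.1 b hb.1, ha.2, hb.2, add_zero]⟩
      smul_mem' := fun c a ha => ⟨U.smul_mem c ha.1, by rw [CfsgLib.Lie.OrthChar.map_smul', ha.2, mul_zero]⟩ }
  rcases hirr K (fun u hu => hu.1) (fun w hw => ⟨hUx w hw.1, (CfsgLib.Lie.Refl.act_Q x w).trans hw.2⟩) with hK | hK
  swap
  · exact Or.inl fun u hu => (hK.ge hu).2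
  right
  have hinj : ∀ u ∈ U, Q u = 0 → u = 0 := fun u hu hq => (Submodule.mem_bot F).1 (hK.le ⟨hu, hq⟩)
  obtain ⟨u, hu, hu0⟩ := Submodule.exists_mem_ne_zero_of_ne_bot hU0
  have hq : Q u ≠ 0 := fun e => hu0 (hinj u hu e)
  have hcomb : ∀ v ∈ U, ∀ c : F, c * c = Q v * (Q u)⁻¹ → v = c • u := fun v hv c hc => by
    refine sub_eq_zero.1 (hinj _ (U.sub_mem hv (U.smul_mem c hu)) ?_)
    rw [sub_eq_add_neg, ← neg_smul, hadd v hv _ (U.smul_mem _ hu), CfsgLib.Lie.OrthChar.map_smul', neg_mul_neg, hc,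
      inv_mul_cancel_right₀ hq]
    linear_combination Q v * h2
  have hspan : U = Submodule.span F {u} := by
    refine le_antisymm (fun v hv => ?_) ((Submodule.span_singleton_le_iff_mem _ _).2 hu)
    obtain ⟨c, hc⟩ := CfsgLib.Lie.OrthDickson.exists_sqrt (Q v * (Q u)⁻¹)
    exact Submodule.mem_span_singleton.2 ⟨c, (hcomb v hv c hc).symm⟩
  refine ⟨rfl, by rw [hspan, finrank_span_singleton hu0], ⟨u, hu, hq⟩, fun v hv => ?_⟩
  refine sub_eq_zero.1 (hinj _ (U.sub_mem (hUx v hv) hv) ?_)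
  rw [sub_eq_add_neg, hadd _ (hUx v hv) _ (U.neg_mem hv), QuadraticMap.map_neg]
  show Q (CfsgLib.Lie.Refl.act Q x v) + Q v = 0
  rw [CfsgLib.Lie.Refl.act_Q]
  linear_combination Q v * h2

end Cfsg.Agent.S2599
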