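import Cfsg.Statements.S2759
import Cfsg.Agent.Fus.ThompsonFactor
import Cfsg.Agent.Fus.QdPair
import Cfsg.Agent.S2761
import Cfsg.Agent.Inv.InvolvesDihedral
import Cfsg.Agent.Solv.CoprimeAction
import Cfsg.Agent.Solv.FittingBasic

set_option autoImplicit false
open Cfsg

namespace Cfsg.Agent.S2759

/-- The action of `DihedralGroup 3` on three points. -/
def dihPerm : DihedralGroup 3 → Equiv.Perm (ZMod 3)
  | .r i => Equiv.addRight i
  | .sr i => (Equiv.addRight i).trans (Equiv.neg _)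

theorem exists_s3_iso : Nonempty (DihedralGroup 3 ≃* Equiv.Perm (Fin 3)) := by
  let f : DihedralGroup 3 →* Equiv.Perm (ZMod 3) := MonoidHom.mk' dihPerm (by decide)
  have hf : Function.Bijective f := by
    show Function.Bijective dihPerm
    decide
  exact ⟨MulEquiv.ofBijective f hf⟩

open CfsgLib.Fus in
open scoped commutatorElement in
theorem exists_of_s4 {G : Type*} [Group G] [Finite G] (h : Cfsg.Involves (Equiv.Perm (Fin 4)) G) :
    ∃ T : Subgroup G, IsPGroup 2 ↥T ∧ Cfsg.Involves (Equiv.Perm (Fin 3))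
      (↥(Subgroup.normalizer (T : Set G)) ⧸ (Subgroup.centralizer (T : Set G)).subgroupOf (Subgroup.normalizer (T : Set G))) := by
  haveI : Fact (Nat.Prime 2) := ⟨Nat.prime_two⟩
  obtain ⟨K, R, hR, ⟨e⟩⟩ := h
  obtain ⟨e4⟩ := Cfsg.Agent.S2761.result
  have hqd : Cfsg.Involves ↥(Cfsg.qd 2) G := ⟨K, R, hR, ⟨e.trans e4.symm⟩⟩
  obtain ⟨A, x, y, α, β, hA, hx, hy, B, hBα, hBβ, hBc, hBsq, hor⟩ := exists_pair hqd
  haveI hBn : B.Normal := ⟨fun b hb g => by
    have h := mul_mem (hBc g b) hb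
    simpa [commutatorElement_def] using h⟩
  rcases hor with ⟨h2, -⟩ | ⟨-, a, a', ha, ha', haa, r1, r2, r3, r4⟩
  · exact absurd rfl h2
  refine ⟨A, hA, ?_⟩
  set N := Subgroup.normalizer (A : Set G) with hN
  have hxN : x ∈ N := Subgroup.mem_normalizer_fintype (fun z hz => by
    show x * z * x⁻¹ ∈ A
    rw [show z = ((⟨z, hz⟩ : ↥A) : G) from rfl, hx]; exact (α _).2)
  have hyN : y ∈ N := Subgroup.mem_normalizer_fintype (fun z hz => by
    show y * z * y⁻¹ ∈ A
    rw [show z = ((⟨z, hz⟩ : ↥A) : G) from rfl, hy]; exact (β _).2)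
  -- `M`: the part of `N` normalising `B`
  let M : Subgroup ↥N :=
    { carrier := {g | ∀ b : ↥A, (A.normalizerMonoidHom g b ∈ B ↔ b ∈ B)}
      one_mem' := fun b => by simp
      mul_mem' := fun {g k} hg hk b => by rw [map_mul, MulAut.mul_apply, hg, hk]
      inv_mem' := fun {g} hg b => by
        rw [← hg (A.normalizerMonoidHom g⁻¹ b)]
        simp }
  have hnh : ∀ (g : ↥N) (b : ↥A), ((A.normalizerMonoidHom g b : ↥A) : G) = g * b * (g : G)⁻¹ := fun g b => rfl
  have hxa : ∀ b, A.normalizerMonoidHom ⟨x, hxN⟩ b = α b := fun b => Subtype.ext ((hnh _ b).trans (hx b))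
  have hyb : ∀ b, A.normalizerMonoidHom ⟨y, hyN⟩ b = β b := fun b => Subtype.ext ((hnh _ b).trans (hy b))
  have hxM : (⟨x, hxN⟩ : ↥N) ∈ M := fun b => by rw [hxa]; exact hBα b
  have hyM : (⟨y, hyN⟩ : ↥N) ∈ M := fun b => by rw [hyb]; exact hBβ b
  -- the action on the cosets
  let act : ↥M → (↥A ⧸ B → ↥A ⧸ B) := fun g q => Quotient.liftOn' q
    (fun b => ((A.normalizerMonoidHom (g : ↥N) b : ↥A) : ↥A ⧸ B)) (fun b c hbc => by
      rw [QuotientGroup.leftRel_apply] at hbc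
      refine QuotientGroup.eq.2 ?_
      rw [← map_inv, ← map_mul, g.2]
      exact hbc)
  have hact1 : ∀ q, act 1 q = q := fun q => by
    induction q using QuotientGroup.induction_on with
    | _ b => show ((A.normalizerMonoidHom (1 : ↥N) b : ↥A) : ↥A ⧸ B) = b; simp
  have hactm : ∀ g k q, act (g * k) q = act g (act k q) := fun g k q => by
    induction q using QuotientGroup.induction_on with
    | _ b =>
      show ((A.normalizerMonoidHom ((g : ↥N) * k) b : ↥A) : ↥A ⧸ B) = _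
      rw [map_mul, MulAut.mul_apply]; rfl
  let θ : ↥M →* Equiv.Perm (↥A ⧸ B) :=
    { toFun := fun g => ⟨act g, act g⁻¹, fun q => by rw [← hactm, inv_mul_cancel, hact1],
        fun q => by rw [← hactm, mul_inv_cancel, hact1]⟩
      map_one' := Equiv.ext hact1
      map_mul' := fun g k => Equiv.ext (hactm g k) }
  let W : Fin 3 → ↥A ⧸ B := ![(a : ↥A ⧸ B), (a' : ↥A ⧸ B), ((a * a' : ↥A) : ↥A ⧸ B)]
  have hinj : Function.Injective W := by
    have n1 : (a : ↥A ⧸ B) ≠ a' := fun h => haa (by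
      have := inv_mem (QuotientGroup.eq.1 h : a⁻¹ * a' ∈ B)
      rw [mul_inv_rev, inv_inv] at this
      have h2 : a * (a'⁻¹ * a) * a⁻¹ ∈ B := (Subgroup.normalizer_eq_top_iff.2 ‹_› ▸ Subgroup.mem_top a :
        a ∈ Subgroup.normalizer (B : Set ↥A)) |> fun hh => (Subgroup.mem_normalizer_iff.1 hh _).1 this
      rwa [show a * (a'⁻¹ * a) * a⁻¹ = a * a'⁻¹ by group] at h2)
    have n2 : (a : ↥A ⧸ B) ≠ ((a * a' : ↥A) : ↥A ⧸ B) := fun h => ha' (by
      simpa using (QuotientGroup.eq.1 h : a⁻¹ * (a * a') ∈ B))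
    have n3 : (a' : ↥A ⧸ B) ≠ ((a * a' : ↥A) : ↥A ⧸ B) := fun h => ha (by
      have h2 := (QuotientGroup.eq.1 h : a'⁻¹ * (a * a') ∈ B)
      have h3 := (Subgroup.normalizer_eq_top_iff.2 ‹_› ▸ Subgroup.mem_top a' :
        a' ∈ Subgroup.normalizer (B : Set ↥A)) |> fun hh => (Subgroup.mem_normalizer_iff.1 hh _).1 h2
      rwa [show a' * (a'⁻¹ * (a * a')) * a'⁻¹ = a by group] at h3)
    intro i j h
    fin_cases i <;> fin_cases j <;>
      first | rfl | exact absurd h n1 | exact absurd h.symm n1 | exact absurd h n2 | exact absurd h.symm n2 | exact absurd h n3 | exact absurd h.symm n3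
  let L : Subgroup ↥M :=
    { carrier := {g | ∀ q, θ g q ∈ Set.range W ↔ q ∈ Set.range W}
      one_mem' := fun q => by simp
      mul_mem' := fun {g k} hg hk q => by rw [map_mul, Equiv.Perm.mul_apply, hg, hk]
      inv_mem' := fun {g} hg q => by rw [← hg (θ g⁻¹ q)]; simp }
  let w : Fin 3 ≃ ↥(Set.range W) := Equiv.ofInjective W hinj
  let φ : ↥L →* Equiv.Perm (Fin 3) :=
    { toFun := fun g => w.trans (((θ g).subtypePerm g.2).trans w.symm)
      map_one' := by ext i; simp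
      map_mul' := fun g k => by
        ext i
        simp [Equiv.Perm.subtypePerm, Equiv.Perm.mul_apply] }
  have htr : ∀ (b c : ↥A), b * c⁻¹ ∈ B → (b : ↥A ⧸ B) = c := fun b c h => QuotientGroup.eq.2 (by
    have h3 := (Subgroup.normalizer_eq_top_iff.2 ‹_› ▸ Subgroup.mem_top c⁻¹ :
      c⁻¹ ∈ Subgroup.normalizer (B : Set ↥A)) |> fun hh => (Subgroup.mem_normalizer_iff.1 hh _).1 (inv_mem h)
    rwa [show c⁻¹ * (b * c⁻¹)⁻¹ * c⁻¹⁻¹ = b⁻¹ * c by group] at h3)
  have hθ : ∀ (g : ↥M) (b : ↥A), θ g b = ((A.normalizerMonoidHom (g : ↥N) b : ↥A) : ↥A ⧸ B) := fun g b => rfl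
  haveI := ‹B.Normal›
  have hmkm : ∀ b c : ↥A, ((b * c : ↥A) : ↥A ⧸ B) = (b : ↥A ⧸ B) * c := fun b c => rfl
  have hsq : ∀ b : ↥A, (b : ↥A ⧸ B) * b = 1 := fun b => by
    rw [← hmkm, QuotientGroup.eq_one_iff, ← pow_two]; exact hBsq b
  have hcm : ∀ b c : ↥A, (b : ↥A ⧸ B) * c = c * b := fun b c => by
    have h1 := hsq (b * c)
    rw [hmkm] at h1
    calc (b : ↥A ⧸ B) * c = b * ((b : ↥A ⧸ B) * c * (b * c)) * c := by rw [h1, mul_one]
      _ = ((b : ↥A ⧸ B) * b) * c * b * ((c : ↥A ⧸ B) * c) := by group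
      _ = c * b := by rw [hsq, hsq, one_mul, mul_one]
  have x1 : θ ⟨_, hxM⟩ (W 0) = W 1 := by show θ _ (a : ↥A ⧸ B) = _; rw [hθ, hxa]; exact htr _ _ r1
  have x2 : θ ⟨_, hxM⟩ (W 1) = W 2 := by show θ _ (a' : ↥A ⧸ B) = _; rw [hθ, hxa]; exact htr _ _ r2
  have x3 : θ ⟨_, hxM⟩ (W 2) = W 0 := by
    show θ _ ((a * a' : ↥A) : ↥A ⧸ B) = _
    rw [hθ, hxa, map_mul, hmkm, htr _ _ r1, htr _ _ r2, hmkm, hcm a a', ← mul_assoc, hsq, one_mul]
    rfl
  have y1 : θ ⟨_, hyM⟩ (W 0) = W 0 := by show θ _ (a : ↥A ⧸ B) = _; rw [hθ, hyb]; exact htr _ _ r3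
  have y2 : θ ⟨_, hyM⟩ (W 1) = W 2 := by show θ _ (a' : ↥A ⧸ B) = _; rw [hθ, hyb]; exact htr _ _ r4
  have y3 : θ ⟨_, hyM⟩ (W 2) = W 1 := by
    show θ _ ((a * a' : ↥A) : ↥A ⧸ B) = _
    rw [hθ, hyb, map_mul, hmkm, htr _ _ r3, htr _ _ r4, hmkm, ← mul_assoc, hsq, one_mul]
    rfl
  have hperm : ∀ (g : ↥M) (σ : Equiv.Perm (Fin 3)), (∀ i, θ g (W i) = W (σ i)) →
      ∃ hg : g ∈ L, φ ⟨g, hg⟩ = σ := by
    intro g σ h
    have hg : g ∈ L := fun q => by
      constructor
      · rintro ⟨i, hi⟩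
        refine ⟨σ⁻¹ i, (θ g).injective ?_⟩
        rw [h, ← hi]; simp
      · rintro ⟨i, rfl⟩; exact ⟨σ i, (h i).symm⟩
    refine ⟨hg, Equiv.ext fun i => w.injective ?_⟩
    show w (w.symm _) = _
    rw [Equiv.apply_symm_apply]
    exact Subtype.ext (h i)
  obtain ⟨hxL, hφx⟩ := hperm ⟨_, hxM⟩ (Equiv.swap 0 1 * Equiv.swap 1 2) (fun i => by
    fin_cases i
    · exact x1
    · exact x2
    · exact x3)
  obtain ⟨hyL, hφy⟩ := hperm ⟨_, hyM⟩ (Equiv.swap 1 2) (fun i => by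
    fin_cases i
    · exact y1
    · exact y2
    · exact y3)
  have hsurj : Function.Surjective φ := by
    rw [← MonoidHom.range_eq_top]
    refine top_unique fun σ _ => ?_
    have hall : ∀ σ : Equiv.Perm (Fin 3), σ = 1 ∨ σ = Equiv.swap 0 1 * Equiv.swap 1 2 ∨
        σ = (Equiv.swap 0 1 * Equiv.swap 1 2) * (Equiv.swap 0 1 * Equiv.swap 1 2) ∨ σ = Equiv.swap 1 2 ∨
        σ = (Equiv.swap 0 1 * Equiv.swap 1 2) * Equiv.swap 1 2 ∨
        σ = Equiv.swap 1 2 * (Equiv.swap 0 1 * Equiv.swap 1 2) := by decide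
    have hX : Equiv.swap 0 1 * Equiv.swap 1 2 ∈ φ.range := ⟨_, hφx⟩
    have hY : Equiv.swap (1 : Fin 3) 2 ∈ φ.range := ⟨_, hφy⟩
    rcases hall σ with rfl | rfl | rfl | rfl | rfl | rfl
    exacts [one_mem _, hX, mul_mem hX hX, hY, mul_mem hX hY, mul_mem hY hX]
  -- descend modulo the centralizer
  set C := (Subgroup.centralizer (A : Set G)).subgroupOf N with hC
  let K' : Subgroup ↥N := L.map M.subtype
  let q : ↥K' →* Equiv.Perm (Fin 3) := φ.comp (L.equivMapOfInjective M.subtype M.subtype_injective).symm.toMonoidHom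
  have hq : Function.Surjective q :=
    hsurj.comp (L.equivMapOfInjective M.subtype M.subtype_injective).symm.surjective
  have hqC : ∀ k : ↥K', (k : ↥N) ∈ C → q k = 1 := by
    intro k hk
    obtain ⟨l, rfl⟩ := (L.equivMapOfInjective M.subtype M.subtype_injective).surjective k
    show φ _ = 1
    rw [MulEquiv.coe_toMonoidHom, MulEquiv.symm_apply_apply]
    refine Equiv.ext fun i => w.injective ?_
    show w (w.symm _) = _
    rw [Equiv.apply_symm_apply]
    refine Subtype.ext ?_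
    show θ l (W i) = W i
    obtain ⟨b, hb⟩ := QuotientGroup.mk_surjective (W i)
    rw [← hb, hθ]
    refine congrArg _ (Subtype.ext ?_)
    rw [hnh]
    have := Subgroup.mem_centralizer_iff.1 (Subgroup.mem_subgroupOf.1 hk) b b.2
    exact mul_inv_eq_iff_eq_mul.2 this.symm
  let π := QuotientGroup.mk' C
  let r : ↥K' →* ↥(K'.map π) := π.subgroupMap K'
  have hr : Function.Surjective r := π.subgroupMap_surjective K'
  have hkr : r.ker ≤ q.ker := fun k hk => hqC k ((QuotientGroup.eq_one_iff _).1 (congrArg Subtype.val hk))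
  let qq : ↥(K'.map π) →* Equiv.Perm (Fin 3) := r.liftOfSurjective hr ⟨q, hkr⟩
  have hqq : Function.Surjective qq := fun σ => by
    obtain ⟨k, rfl⟩ := hq σ
    exact ⟨r k, MonoidHom.liftOfRightInverse_comp_apply _ _ _ _ k⟩
  refine involves_of_subgroup_type (K := K'.map π) ⟨⊤, qq.ker, inferInstance, ⟨?_⟩⟩
  exact (QuotientGroup.congr _ qq.ker Subgroup.topEquiv (by
    ext z
    simp [Subgroup.mem_map, Subgroup.mem_subgroupOf])).trans (QuotientGroup.quotientKerEquivOfSurjective qq hqq)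

open CfsgLib.Fus in
open scoped commutatorElement in
theorem s4_of_s3 {G : Type*} [Group G] [Finite G] (T : Subgroup G) (hT : IsPGroup 2 ↥T)
    (h : Cfsg.Involves (Equiv.Perm (Fin 3)) (↥(Subgroup.normalizer (T : Set G)) ⧸
      (Subgroup.centralizer (T : Set G)).subgroupOf (Subgroup.normalizer (T : Set G)))) :
    Cfsg.Involves (Equiv.Perm (Fin 4)) G := by
  haveI : Fact (Nat.Prime 2) := ⟨Nat.prime_two⟩
  haveI : Fact (Nat.Prime 3) := ⟨Nat.prime_three⟩
  set N := Subgroup.normalizer (T : Set G) with hN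
  set C := (Subgroup.centralizer (T : Set G)).subgroupOf N with hC
  obtain ⟨K, R, hR, ⟨e⟩⟩ := h
  obtain ⟨e3⟩ := exists_s3_iso
  obtain ⟨x0, P, hx0, hP, hxN, hxC⟩ :=
    CfsgLib.Inv.InvolvesDih.exists_normalizing (p := 3) (by norm_num) ⟨K, R, hR, ⟨e.trans e3.symm⟩⟩
  obtain ⟨x, y, ⟨kx, hx⟩, ⟨ky, hy⟩, hy1, hinv⟩ :=
    CfsgLib.Inv.InvolvesDih.exists_inverted (p := 3) (by norm_num) hx0 hP hxN hxC
  obtain ⟨gx, hgx⟩ := QuotientGroup.mk'_surjective C x
  obtain ⟨gy₀, hgy₀⟩ := QuotientGroup.mk'_surjective C y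
  -- a 3-element lifting a generator of the same cyclic group
  obtain ⟨gy, i, hgy3, hgy₀', hi⟩ : ∃ (gy : ↥N) (i : ℕ), (∃ j, orderOf gy = 3 ^ j) ∧ QuotientGroup.mk' C gy = y ∧ i = 0 := by
    obtain ⟨j, m, hm, hjm⟩ := Nat.exists_eq_pow_mul_and_not_dvd (orderOf_pos gy₀).ne' 3 (by norm_num)
    have hcop : Nat.Coprime m (3 ^ ky) := ((Nat.prime_three.coprime_iff_not_dvd.2 hm).pow_left ky).symm
    have hpos : 0 < 3 ^ ky := by positivity
    obtain ⟨u, -, hu⟩ := Nat.exists_mul_mod_eq_one_of_coprime hcop (by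
      rcases ky with _ | ky
      · rw [pow_zero] at hy; exact absurd (orderOf_eq_one_iff.1 hy) hy1
      · exact Nat.one_lt_pow (Nat.succ_ne_zero _) (by norm_num))
    refine ⟨gy₀ ^ (m * u), 0, ?_, ?_, rfl⟩
    · have h1 : (gy₀ ^ (m * u)) ^ 3 ^ j = 1 := by
        rw [← pow_mul, show m * u * 3 ^ j = orderOf gy₀ * u by rw [hjm]; ring, pow_mul, pow_orderOf_eq_one, one_pow]
      obtain ⟨t, -, ht⟩ := (Nat.dvd_prime_pow Nat.prime_three).1 (orderOf_dvd_of_pow_eq_one h1)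
      exact ⟨t, ht⟩
    · rw [map_pow, hgy₀, ← pow_mod_orderOf, hy, hu, pow_one]
  clear hi i
  set V := ↥T ⧸ frattini ↥T with hV
  have hVab : ∀ a b : V, a * b = b * a := by
    intro a b
    obtain ⟨a, rfl⟩ := QuotientGroup.mk_surjective a
    obtain ⟨b, rfl⟩ := QuotientGroup.mk_surjective b
    show ((a * b : ↥T) : V) = ((b * a : ↥T) : V)
    refine QuotientGroup.eq.2 ?_
    have := CfsgLib.Solv.commutator_le_frattini hT (Subgroup.commutator_mem_commutator
      (Subgroup.mem_top b⁻¹) (Subgroup.mem_top a⁻¹))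
    rw [commutatorElement_def] at this
    simpa [mul_assoc] using this
  have hV2 : ∀ a : V, a * a = 1 := by
    intro a
    obtain ⟨a, rfl⟩ := QuotientGroup.mk_surjective a
    show ((a * a : ↥T) : V) = 1
    rw [QuotientGroup.eq_one_iff, ← pow_two]
    exact CfsgLib.Solv.pow_mem_frattini hT a
  haveI : (frattini ↥T).Characteristic := inferInstance
  let θ : ↥N → V → V := fun g v => QuotientGroup.map (frattini ↥T) (frattini ↥T) (T.normalizerMonoidHom g).toMonoidHom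
    (by rw [Subgroup.Characteristic.fixed (inferInstance : (frattini ↥T).Characteristic)]) v
  have hθmk : ∀ (g : ↥N) (t : ↥T), θ g (t : V) = ((T.normalizerMonoidHom g t : ↥T) : V) := fun g t => rfl
  have hθm : ∀ (g k : ↥N) (v : V), θ (g * k) v = θ g (θ k v) := fun g k v => by
    induction v using QuotientGroup.induction_on with
    | _ t => rw [hθmk, hθmk, hθmk, map_mul]; rfl
  have hθ1 : ∀ v : V, θ 1 v = v := fun v => by
    induction v using QuotientGroup.induction_on with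
    | _ t => rw [hθmk, map_one]; rfl
  have hθC : ∀ c : ↥N, c ∈ C → ∀ v : V, θ c v = v := fun c hc v => by
    induction v using QuotientGroup.induction_on with
    | _ t =>
      rw [hθmk]
      refine congrArg _ (Subtype.ext ?_)
      show (c : G) * t * (c : G)⁻¹ = t
      exact mul_inv_eq_iff_eq_mul.2 (Subgroup.mem_centralizer_iff.1 (Subgroup.mem_subgroupOf.1 hc) t t.2).symm
  have hθmul : ∀ (g : ↥N) (v w : V), θ g (v * w) = θ g v * θ g w := fun g v w => map_mul _ v w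
  have hθeq : ∀ g k : ↥N, QuotientGroup.mk' C g = QuotientGroup.mk' C k → θ g = θ k := fun g k h => by
    funext v
    rw [show k = g * (g⁻¹ * k) by group, hθm, hθC _ (QuotientGroup.eq.1 h)]
  -- `gy` is nontrivial on `V`
  obtain ⟨j, hj⟩ := hgy3
  have hnt : ∃ v, θ gy v ≠ v := by
    by_contra hall
    push Not at hall
    refine hy1 ?_
    have hcop : (Nat.card (Subgroup.zpowers (gy : G))).Coprime (Nat.card (frattini ↥T)) := by
      obtain ⟨n, hn⟩ := IsPGroup.iff_card.1 (hT.to_subgroup (frattini ↥T))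
      rw [Nat.card_zpowers, Subgroup.orderOf_coe, hj, hn]
      exact Nat.Coprime.pow _ _ (by norm_num)
    let Tr : Subgroup ↥N :=
      { carrier := {g | ∀ v, θ g v = v}
        one_mem' := hθ1
        mul_mem' := fun {g k} hg hk v => by rw [hθm, hk, hg]
        inv_mem' := fun {g} hg v => by
          conv_lhs => rw [← hg v]
          rw [← hθm, inv_mul_cancel, hθ1] }
    have hle := CfsgLib.Solv.le_centralizer_of_trivial_on_frattini_quotient (A := Subgroup.zpowers (gy : G)) (K := T)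
      hcop (by
        intro a ha t ht
        obtain ⟨i, rfl⟩ := Subgroup.mem_zpowers_iff.1 ha
        have h1 := (zpow_mem (show gy ∈ Tr from hall) i : gy ^ i ∈ Tr) (QuotientGroup.mk (⟨t, ht⟩ : ↥T))
        rw [hθmk] at h1
        refine Subgroup.mem_map.2 ⟨(T.normalizerMonoidHom (gy ^ i) ⟨t, ht⟩) * (⟨t, ht⟩ : ↥T)⁻¹, ?_, ?_⟩
        · have h2 := QuotientGroup.eq.1 h1.symm
          have h3 := (inferInstance : (frattini ↥T).Normal).conj_mem _ h2 ⟨t, ht⟩
          simpa [mul_assoc] using h3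
        · rw [map_mul, map_inv, commutatorElement_def]
          show ((T.normalizerMonoidHom (gy ^ i) ⟨t, ht⟩ : ↥T) : G) * t⁻¹ = _
          rw [show ((T.normalizerMonoidHom (gy ^ i) ⟨t, ht⟩ : ↥T) : G) =
            ((gy ^ i : ↥N) : G) * t * ((gy ^ i : ↥N) : G)⁻¹ from rfl, SubgroupClass.coe_zpow])
    have hc : gy ∈ C := Subgroup.mem_subgroupOf.2 (hle (Subgroup.mem_zpowers _))
    rw [← hgy₀']
    exact (QuotientGroup.eq_one_iff gy).2 hc
  -- the last power acting nontrivially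
  classical
  have hex : ∃ s : ℕ, ∀ v, θ (gy ^ 3 ^ s) v = v := ⟨j, fun v => by rw [← hj, pow_orderOf_eq_one, hθ1]⟩
  obtain ⟨s, hs⟩ : ∃ s, Nat.find hex = s + 1 := Nat.exists_eq_succ_of_ne_zero fun h0 => by
    obtain ⟨v, hv⟩ := hnt
    have := Nat.find_spec hex v
    rw [h0, pow_zero, pow_one] at this
    exact hv this
  have h3 : ∀ v, θ (gy ^ 3 ^ (s + 1)) v = v := hs ▸ Nat.find_spec hex
  obtain ⟨v0, hv0⟩ := not_forall.1 (Nat.find_min hex (show s < Nat.find hex by omega))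
  set Y := gy ^ 3 ^ s with hY
  have hY3 : ∀ v, θ Y (θ Y (θ Y v)) = v := fun v => by
    rw [← hθm, ← hθm, show Y * Y * Y = gy ^ 3 ^ (s + 1) by rw [hY, ← pow_add, ← pow_add, pow_succ]; ring_nf, h3]
  have hxY : θ (gx * Y * gx⁻¹) = θ Y⁻¹ := hθeq _ _ (by
    rw [map_mul, map_mul, map_inv, map_inv, hY, map_pow, hgy₀', hgx, ← conj_pow, hinv, inv_pow])
  have hflip : ∀ v, θ Y (θ gx v) = θ gx (θ Y (θ Y v)) := fun v => by
    have e1 : θ Y⁻¹ (θ Y v) = v := by rw [← hθm, inv_mul_cancel, hθ1]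
    have e2 : θ Y (θ Y v) = θ Y⁻¹ v := by
      conv_rhs => rw [← hY3 v]
      rw [← hθm Y⁻¹, inv_mul_cancel, hθ1]
    have e3 : θ Y⁻¹ (θ gx v) = θ gx (θ Y v) := by
      rw [← hxY, ← hθm, ← hθm, inv_mul_cancel_right]
    calc θ Y (θ gx v) = θ Y (θ Y (θ Y (θ Y⁻¹ (θ Y⁻¹ (θ gx v))))) := by
          rw [← hθm Y Y⁻¹, mul_inv_cancel, hθ1, ← hθm Y Y⁻¹, mul_inv_cancel, hθ1]
      _ = θ Y⁻¹ (θ Y⁻¹ (θ gx v)) := hY3 _
      _ = θ Y⁻¹ (θ gx (θ Y v)) := by rw [e3]
      _ = θ gx (θ Y (θ Y v)) := by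
          rw [← hxY, ← hθm, ← hθm, inv_mul_cancel_right, hθm, hθm]
  -- the kernel of `1 + Y + Y²`
  let Mp : V → Prop := fun v => v * θ Y v * θ Y (θ Y v) = 1
  let D : V → V := fun v => v * θ gx v
  have hDM : ∀ v, Mp v → Mp (D v) := fun v hv => by
    have hx' : Mp (θ gx v) := by
      show θ gx v * θ Y (θ gx v) * θ Y (θ Y (θ gx v)) = 1
      rw [hflip, hflip, hY3, mul_assoc, ← hθmul, ← hθmul, hVab _ (θ Y v), ← mul_assoc, hv]
      exact map_one _
    show v * θ gx v * θ Y (v * θ gx v) * θ Y (θ Y (v * θ gx v)) = 1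
    rw [hθmul, hθmul]
    calc v * θ gx v * (θ Y v * θ Y (θ gx v)) * (θ Y (θ Y v) * θ Y (θ Y (θ gx v)))
        = (v * θ Y v * θ Y (θ Y v)) * (θ gx v * θ Y (θ gx v) * θ Y (θ Y (θ gx v))) := by
          letI : CommGroup V := { (inferInstance : Group V) with mul_comm := hVab }
          show @HMul.hMul V V V _ _ _ = _
          ac_rfl
      _ = 1 := by rw [show _ = (1 : V) from hv, show _ = (1 : V) from hx', one_mul]
  have hiter : ∀ (i : ℕ) (v : V), D^[2 ^ i] v = v * θ (gx ^ 2 ^ i) v := by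
    intro i
    induction i with
    | zero => intro v; simp [D]
    | succ i ih =>
      intro v
      rw [pow_succ 2, mul_two, Function.iterate_add_apply, ih, ih, hθmul, ← hθm, ← pow_add]
      calc v * θ (gx ^ 2 ^ i) v * (θ (gx ^ 2 ^ i) v * θ (gx ^ (2 ^ i + 2 ^ i)) v)
          = v * (θ (gx ^ 2 ^ i) v * θ (gx ^ 2 ^ i) v) * θ (gx ^ (2 ^ i + 2 ^ i)) v := by group
        _ = _ := by rw [hV2, mul_one]
  have hfin : ∀ v, D^[2 ^ kx] v = 1 := fun v => by
    rw [hiter, hθC _ ((QuotientGroup.eq_one_iff _).1 (by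
      show QuotientGroup.mk' C (gx ^ 2 ^ kx) = 1
      rw [map_pow, hgx, ← hx, pow_orderOf_eq_one])), hV2]
  obtain ⟨m, hm, hm1, hmfix⟩ : ∃ m, Mp m ∧ m ≠ 1 ∧ θ gx m = m := by
    set m0 := v0 * θ Y v0 with hm0
    have hM0 : Mp m0 := by
      show v0 * θ Y v0 * θ Y (v0 * θ Y v0) * θ Y (θ Y (v0 * θ Y v0)) = 1
      rw [hθmul, hθmul, hY3]
      calc v0 * θ Y v0 * (θ Y v0 * θ Y (θ Y v0)) * (θ Y (θ Y v0) * v0)
          = v0 * (θ Y v0 * θ Y v0) * (θ Y (θ Y v0) * θ Y (θ Y v0)) * v0 := by group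
        _ = 1 := by rw [hV2, hV2, mul_one, mul_one, hV2]
    have h01 : m0 ≠ 1 := fun h => hv0 (by
      rw [hm0, mul_eq_one_iff_inv_eq, inv_eq_of_mul_eq_one_right (hV2 v0)] at h
      exact h.symm)
    have hex' : ∃ i, D^[i] m0 = 1 := ⟨_, hfin m0⟩
    obtain ⟨i, hi⟩ : ∃ i, Nat.find hex' = i + 1 := Nat.exists_eq_succ_of_ne_zero fun h0 => h01 (by
      have := Nat.find_spec hex'
      rwa [h0] at this)
    have h1 := Nat.find_spec hex'
    rw [hi, Function.iterate_succ_apply'] at h1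
    have hMi : ∀ n, Mp (D^[n] m0) := fun n => by
      induction n with
      | zero => exact hM0
      | succ n ihn => rw [Function.iterate_succ_apply']; exact hDM _ ihn
    refine ⟨D^[i] m0, hMi i, Nat.find_min hex' (by omega), ?_⟩
    have h2 : D^[i] m0 * θ gx (D^[i] m0) = 1 := h1
    rw [mul_eq_one_iff_inv_eq, inv_eq_of_mul_eq_one_right (hV2 _)] at h2
    exact h2.symm
  -- pass to `N ⧸ Φ(T)`
  have hTN : T ≤ N := Subgroup.le_normalizer
  let ιN : ↥T →* ↥N := Subgroup.inclusion hTN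
  set F := (frattini ↥T).map ιN with hF
  haveI hFn : F.Normal := ⟨by
    rintro _ ⟨f, hf, rfl⟩ g
    refine ⟨T.normalizerMonoidHom g f, ?_, rfl⟩
    rw [← Subgroup.Characteristic.fixed (inferInstance : (frattini ↥T).Characteristic) (T.normalizerMonoidHom g)] at hf
    exact hf⟩
  let jV : V →* ↥N ⧸ F := QuotientGroup.lift (frattini ↥T) ((QuotientGroup.mk' F).comp ιN)
    (fun t ht => (QuotientGroup.eq_one_iff (ιN t)).2 (Subgroup.mem_map_of_mem ιN ht))
  have hjinj : Function.Injective jV := by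
    rw [injective_iff_map_eq_one]
    intro v hv
    induction v using QuotientGroup.induction_on with
    | _ t =>
      have hv' : QuotientGroup.mk' F (ιN t) = 1 := hv
      obtain ⟨f, hf, hft⟩ := (QuotientGroup.eq_one_iff _).1 hv'
      rw [Subgroup.inclusion_injective hTN hft] at hf
      exact (QuotientGroup.eq_one_iff t).2 hf
  have hconj : ∀ (g : ↥N) (v : V), QuotientGroup.mk' F g * jV v * (QuotientGroup.mk' F g)⁻¹ = jV (θ g v) := by
    intro g v
    induction v using QuotientGroup.induction_on with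
    | _ t =>
      rw [hθmk]
      show QuotientGroup.mk' F g * QuotientGroup.mk' F (ιN t) * (QuotientGroup.mk' F g)⁻¹ = QuotientGroup.mk' F (ιN _)
      rw [← map_inv, ← map_mul, ← map_mul]
      rfl
  have hm' : m * θ Y m * θ Y (θ Y m) = 1 := hm
  have hY2 : θ Y (θ Y m) = m * θ Y m := by
    rw [mul_eq_one_iff_inv_eq, inv_eq_of_mul_eq_one_right (hV2 _)] at hm'
    exact hm'.symm
  have hne : θ Y m ≠ m := fun h => hm1 (by
    rw [h, h, hV2, one_mul] at hm'; exact hm')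
  refine involves_of_subgroup_type (involves_comap (QuotientGroup.mk'_surjective F)
    (involves_s4_of_perm (e := jV m) (e' := jV (θ Y m)) (y := QuotientGroup.mk' F Y) (b := QuotientGroup.mk' F gx)
      ?_ ?_ ?_ ?_ ?_ ?_ ⟨?_, ?_⟩ ⟨?_, ?_⟩))
  · rw [← map_mul, hV2, map_one]
  · rw [← map_mul, hV2, map_one]
  · rw [← map_mul, ← map_mul, hVab]
  · exact fun h => hm1 (hjinj (h.trans (map_one _).symm))
  · intro h
    apply hm1
    have h' := hjinj (h.trans (map_one _).symm)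
    rw [← hY3 m, hY2, h', mul_one, h']
  · exact fun h => hne (hjinj h).symm
  · rw [hconj]
  · rw [hconj, hY2, map_mul]
  · rw [hconj, hmfix]
  · rw [hconj, ← map_mul, ← hY2]
    refine congrArg jV ?_
    have h2 := hflip (θ Y m)
    rw [hY3, hmfix] at h2
    rw [← hY3 (θ gx (θ Y m)), h2]

/-- For a finite group G, the symmetric group of degree 4 is involved in G if and only if there is a 2-subgroup T of G such that the symmetric group of degree 3 is involved in N(T)/C(T). -/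
theorem result {G : Type*} [Group G] [Finite G] : Cfsg.Involves (Equiv.Perm (Fin 4)) G ↔ ∃ T : Subgroup G, IsPGroup 2 ↥T ∧ Cfsg.Involves (Equiv.Perm (Fin 3)) (↥(Subgroup.normalizer (T : Set G)) ⧸ (Subgroup.centralizer (T : Set G)).subgroupOf (Subgroup.normalizer (T : Set G))) := by
  exact ⟨exists_of_s4, fun ⟨T, hT, h⟩ => s4_of_s3 T hT h⟩

end Cfsg.Agent.S2759
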