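import Cfsg.Statements.S2762
import Cfsg.Agent.Lie.GL2
import Cfsg.Agent.Solv.Basic

set_option autoImplicit false
open Cfsg

namespace Cfsg.Agent.S2762

open Matrix in
theorem mem_qd {F : Type*} [Field F] (M : Matrix.SpecialLinearGroup (Fin 3) F) :
    M ∈ Cfsg.qdOver F ↔ (M : Matrix (Fin 3) (Fin 3) F) 2 0 = 0 ∧
      (M : Matrix (Fin 3) (Fin 3) F) 2 1 = 0 ∧ (M : Matrix (Fin 3) (Fin 3) F) 2 2 = 1 := by
  refine ⟨fun h => ?_, fun h => Subgroup.subset_closure h⟩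
  induction h using Subgroup.closure_induction with
  | mem x hx => exact hx
  | one => simp
  | mul a b _ _ ha hb =>
    simp [Matrix.mul_apply, Fin.sum_univ_three, ha.1, ha.2.1, ha.2.2, hb.1, hb.2.1, hb.2.2]
  | inv a _ ha =>
    have hd := a.2
    rw [det_fin_three, ha.1, ha.2.1, ha.2.2] at hd
    simp only [Matrix.SpecialLinearGroup.coe_inv, adjugate_fin_three]
    simp [ha.1, ha.2.1]
    linear_combination hd

open Matrix in
theorem sl2_pcore {F : Type*} [Field F] [Fintype F] {p : ℕ} [Fact p.Prime] [CharP F p]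
    (N : Subgroup (Matrix.SpecialLinearGroup (Fin 2) F)) [hN : N.Normal] (hp : IsPGroup p N) : N = ⊥ := by
  obtain ⟨P, hP⟩ := hp.exists_le_sylow
  obtain ⟨R, hR⟩ := CfsgLib.Lie.GL2.map_sylow_SL p P
  obtain ⟨g, hg⟩ := CfsgLib.Lie.GL2.exists_conj_eq rfl p R
  have hup : ∀ M ∈ N, ((g⁻¹ : GL (Fin 2) F) : Matrix (Fin 2) (Fin 2) F) * (M : Matrix (Fin 2) (Fin 2) F) *
      (g : Matrix (Fin 2) (Fin 2) F) = !![1, (((g⁻¹ : GL (Fin 2) F) : Matrix (Fin 2) (Fin 2) F) * (M : Matrix (Fin 2) (Fin 2) F) *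
      (g : Matrix (Fin 2) (Fin 2) F)) 0 1; 0, 1] := by
    intro M hM
    have h := Subgroup.mem_map_of_mem Matrix.SpecialLinearGroup.toGL (hP hM)
    rw [hR, hg, Subgroup.mem_map_equiv] at h
    have h' := CfsgLib.Lie.GL2.eq_u_of_mem h
    have h'' := congrArg (fun z : GL (Fin 2) F => (z : Matrix (Fin 2) (Fin 2) F)) h'
    simp only [CfsgLib.Lie.GL2.coe_u, MulAut.conj_symm_apply, Units.val_mul] at h''
    exact h''
  rw [eq_bot_iff]
  intro M hM
  have hw : ((g : Matrix (Fin 2) (Fin 2) F) * !![0, 1; -1, 0] *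
      ((g⁻¹ : GL (Fin 2) F) : Matrix (Fin 2) (Fin 2) F)).det = 1 := by
    have hg' : (g : Matrix (Fin 2) (Fin 2) F).det * ((g⁻¹ : GL (Fin 2) F) : Matrix (Fin 2) (Fin 2) F).det = 1 := by
      rw [← det_mul, Units.mul_inv, det_one]
    rw [det_mul, det_mul]
    rw [show (!![0, 1; -1, 0] : Matrix (Fin 2) (Fin 2) F).det = 1 by simp [det_fin_two]]
    rw [mul_one, hg']
  let w : Matrix.SpecialLinearGroup (Fin 2) F := ⟨_, hw⟩
  have h1 := hup M hM
  have h2 := hup _ (hN.conj_mem M hM w)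
  set A := (M : Matrix (Fin 2) (Fin 2) F) with hA
  set X := ((g⁻¹ : GL (Fin 2) F) : Matrix (Fin 2) (Fin 2) F) * A * (g : Matrix (Fin 2) (Fin 2) F) with hX
  have hwi : ((w⁻¹ : Matrix.SpecialLinearGroup (Fin 2) F) : Matrix (Fin 2) (Fin 2) F) =
      (g : Matrix (Fin 2) (Fin 2) F) * !![0, -1; 1, 0] * ((g⁻¹ : GL (Fin 2) F) : Matrix (Fin 2) (Fin 2) F) := by
    have : w * ⟨(g : Matrix (Fin 2) (Fin 2) F) * !![0, -1; 1, 0] * ((g⁻¹ : GL (Fin 2) F) : Matrix (Fin 2) (Fin 2) F), by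
        have hg' : (g : Matrix (Fin 2) (Fin 2) F).det * ((g⁻¹ : GL (Fin 2) F) : Matrix (Fin 2) (Fin 2) F).det = 1 := by
          rw [← det_mul, Units.mul_inv, det_one]
        rw [det_mul, det_mul, show (!![0, -1; 1, 0] : Matrix (Fin 2) (Fin 2) F).det = 1 by simp [det_fin_two], mul_one, hg']⟩ = 1 :=
      Subtype.ext (by
        show (g : Matrix (Fin 2) (Fin 2) F) * !![0, 1; -1, 0] * ((g⁻¹ : GL (Fin 2) F) : Matrix (Fin 2) (Fin 2) F) *
          ((g : Matrix (Fin 2) (Fin 2) F) * !![0, -1; 1, 0] * ((g⁻¹ : GL (Fin 2) F) : Matrix (Fin 2) (Fin 2) F)) =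
          (1 : Matrix (Fin 2) (Fin 2) F)
        simp only [mul_assoc, Units.inv_mul_cancel_left]
        rw [← mul_assoc (!![0, 1; -1, 0] : Matrix (Fin 2) (Fin 2) F),
          show (!![0, 1; -1, 0] : Matrix (Fin 2) (Fin 2) F) * !![0, -1; 1, 0] = 1 by
            ext i j; fin_cases i <;> fin_cases j <;> simp [Matrix.mul_apply, Fin.sum_univ_two],
          one_mul, Units.mul_inv])
    rw [inv_eq_of_mul_eq_one_right this]
  have e : ((g⁻¹ : GL (Fin 2) F) : Matrix (Fin 2) (Fin 2) F) *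
      ((w * M * w⁻¹ : Matrix.SpecialLinearGroup (Fin 2) F) : Matrix (Fin 2) (Fin 2) F) *
      (g : Matrix (Fin 2) (Fin 2) F) = !![0, 1; -1, 0] * X * !![0, -1; 1, 0] := by
    rw [Matrix.SpecialLinearGroup.coe_mul, Matrix.SpecialLinearGroup.coe_mul, hwi,
      show (w : Matrix (Fin 2) (Fin 2) F) = (g : Matrix (Fin 2) (Fin 2) F) * !![0, 1; -1, 0] *
        ((g⁻¹ : GL (Fin 2) F) : Matrix (Fin 2) (Fin 2) F) from rfl, hX]
    simp only [mul_assoc, Units.inv_mul_cancel_left, Units.inv_mul, mul_one]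
    rfl
  rw [e] at h2
  obtain ⟨b, hb⟩ : ∃ b, X = !![1, b; 0, 1] := ⟨_, h1⟩
  rw [hb] at h2
  have h3 := congrFun (congrFun h2 1) 0
  simp [Matrix.mul_apply, Fin.sum_univ_two] at h3
  refine Subgroup.mem_bot.2 (Subtype.ext ?_)
  show A = 1
  have hX1 : X = 1 := by
    rw [hb, h3]; ext i j; fin_cases i <;> fin_cases j <;> simp
  have : (g : Matrix (Fin 2) (Fin 2) F) * X * ((g⁻¹ : GL (Fin 2) F) : Matrix (Fin 2) (Fin 2) F) = A := by
    rw [hX]; simp only [mul_assoc, Units.mul_inv_cancel_left, Units.mul_inv, mul_one]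
  rw [← this, hX1, mul_one, Units.mul_inv]

open Matrix in
theorem qd_structure {F : Type*} [Field F] [Fintype F] {p : ℕ} [Fact p.Prime] [CharP F p] :
    (∀ M : ↥(Cfsg.qdOver F), M ∈ Cfsg.pCore p ↥(Cfsg.qdOver F) ↔
      ((M : Matrix.SpecialLinearGroup (Fin 3) F) : Matrix (Fin 3) (Fin 3) F) 0 0 = 1 ∧
      ((M : Matrix.SpecialLinearGroup (Fin 3) F) : Matrix (Fin 3) (Fin 3) F) 0 1 = 0 ∧
      ((M : Matrix.SpecialLinearGroup (Fin 3) F) : Matrix (Fin 3) (Fin 3) F) 1 0 = 0 ∧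
      ((M : Matrix.SpecialLinearGroup (Fin 3) F) : Matrix (Fin 3) (Fin 3) F) 1 1 = 1) ∧
    ∃ K : Subgroup ↥(Cfsg.qdOver F), (∀ M : ↥(Cfsg.qdOver F), M ∈ K ↔
      ((M : Matrix.SpecialLinearGroup (Fin 3) F) : Matrix (Fin 3) (Fin 3) F) 0 2 = 0 ∧
      ((M : Matrix.SpecialLinearGroup (Fin 3) F) : Matrix (Fin 3) (Fin 3) F) 1 2 = 0) ∧
      K ⊓ Cfsg.pCore p ↥(Cfsg.qdOver F) = ⊥ ∧ K ⊔ Cfsg.pCore p ↥(Cfsg.qdOver F) = ⊤ ∧
      Nonempty (↥K ≃* Matrix.SpecialLinearGroup (Fin 2) F) ∧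
      Cfsg.IsNaturalSL2Module F (Cfsg.pCore p ↥(Cfsg.qdOver F)) K := by
  let E : ↥(Cfsg.qdOver F) → Matrix (Fin 3) (Fin 3) F := fun M => ((M : Matrix.SpecialLinearGroup (Fin 3) F) : Matrix (Fin 3) (Fin 3) F)
  have hrow : ∀ M, E M 2 0 = 0 ∧ E M 2 1 = 0 ∧ E M 2 2 = 1 := fun M => (mem_qd _).1 M.2
  have hmul : ∀ M N : ↥(Cfsg.qdOver F), E (M * N) = E M * E N := fun M N => rfl
  let π : ↥(Cfsg.qdOver F) →* Matrix.SpecialLinearGroup (Fin 2) F :=
    { toFun := fun M => ⟨!![E M 0 0, E M 0 1; E M 1 0, E M 1 1], by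
        have hd : (E M).det = 1 := (M : Matrix.SpecialLinearGroup (Fin 3) F).2
        obtain ⟨h0, h1, h2⟩ := hrow M
        rw [det_fin_three, h0, h1, h2] at hd
        rw [det_fin_two]
        simp
        linear_combination hd⟩
      map_one' := Subtype.ext (by ext i j; fin_cases i <;> fin_cases j <;> simp [E])
      map_mul' := fun M N => Subtype.ext (by
        obtain ⟨h0, h1, h2⟩ := hrow N
        show _ = _ * _
        ext i j
        fin_cases i <;> fin_cases j <;> simp [hmul, Matrix.mul_apply, Fin.sum_univ_three, h0, h1]) }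
  have hπ : ∀ M, (π M : Matrix (Fin 2) (Fin 2) F) = !![E M 0 0, E M 0 1; E M 1 0, E M 1 1] := fun M => rfl
  have hker : ∀ M, M ∈ π.ker ↔ E M 0 0 = 1 ∧ E M 0 1 = 0 ∧ E M 1 0 = 0 ∧ E M 1 1 = 1 := by
    intro M
    rw [MonoidHom.mem_ker]
    constructor
    · intro h
      have h' := congrArg (fun z : Matrix.SpecialLinearGroup (Fin 2) F => (z : Matrix (Fin 2) (Fin 2) F)) h
      exact ⟨by simpa [hπ] using congrFun (congrFun h' 0) 0, by simpa [hπ] using congrFun (congrFun h' 0) 1,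
        by simpa [hπ] using congrFun (congrFun h' 1) 0, by simpa [hπ] using congrFun (congrFun h' 1) 1⟩
    · intro h
      exact Subtype.ext (by ext i j; fin_cases i <;> fin_cases j <;> simp [hπ, h.1, h.2.1, h.2.2.1, h.2.2.2])
  let K : Subgroup ↥(Cfsg.qdOver F) :=
    { carrier := {M | E M 0 2 = 0 ∧ E M 1 2 = 0}
      one_mem' := ⟨by simp [E], by simp [E]⟩
      mul_mem' := fun {a b} ha hb => by
        obtain ⟨-, -, h2⟩ := hrow b
        exact ⟨by rw [hmul, Matrix.mul_apply, Fin.sum_univ_three, hb.1, hb.2, ha.1]; ring,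
          by rw [hmul, Matrix.mul_apply, Fin.sum_univ_three, hb.1, hb.2, ha.2]; ring⟩
      inv_mem' := fun {a} ha => by
        obtain ⟨h0, h1, h2⟩ := hrow a
        have e : E a⁻¹ = (E a).adjugate := Matrix.SpecialLinearGroup.coe_inv _
        exact ⟨by rw [e, adjugate_fin_three]; simp [ha.1, ha.2], by rw [e, adjugate_fin_three]; simp [ha.1, ha.2]⟩ }
  have hext : ∀ M N : ↥(Cfsg.qdOver F), π M = π N → E M 0 2 = E N 0 2 → E M 1 2 = E N 1 2 → M = N := by
    intro M N h h02 h12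
    have h' := congrArg (fun z : Matrix.SpecialLinearGroup (Fin 2) F => (z : Matrix (Fin 2) (Fin 2) F)) h
    obtain ⟨a0, a1, a2⟩ := hrow M
    obtain ⟨b0, b1, b2⟩ := hrow N
    refine Subtype.ext (Subtype.ext (Matrix.ext fun i j => ?_))
    show E M i j = E N i j
    fin_cases i <;> fin_cases j
    · simpa [hπ] using congrFun (congrFun h' 0) 0
    · simpa [hπ] using congrFun (congrFun h' 0) 1
    · exact h02
    · simpa [hπ] using congrFun (congrFun h' 1) 0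
    · simpa [hπ] using congrFun (congrFun h' 1) 1
    · exact h12
    · exact a0.trans b0.symm
    · exact a1.trans b1.symm
    · exact a2.trans b2.symm
  have hlift : ∀ (A : Matrix.SpecialLinearGroup (Fin 2) F) (x y : F), ∃ M, π M = A ∧ E M 0 2 = x ∧ E M 1 2 = y := by
    intro A x y
    let A' := (A : Matrix (Fin 2) (Fin 2) F)
    have hd : A' 0 0 * A' 1 1 - A' 0 1 * A' 1 0 = 1 := by rw [← det_fin_two]; exact A.2
    refine ⟨⟨⟨!![A' 0 0, A' 0 1, x; A' 1 0, A' 1 1, y; 0, 0, 1], by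
      rw [det_fin_three]; simp; linear_combination hd⟩, (mem_qd _).2 (by simp)⟩, ?_, by simp [E], by simp [E]⟩
    exact Subtype.ext (by ext i j; fin_cases i <;> fin_cases j <;> simp [hπ, E, A'])
  -- the kernel is the largest normal p-subgroup
  have hcol : ∀ M, M ∈ π.ker → ∀ N, E (M * N) 0 2 = E N 0 2 + E M 0 2 ∧ E (M * N) 1 2 = E N 1 2 + E M 1 2 := by
    intro M hM N
    obtain ⟨e1, e2, e3, e4⟩ := (hker M).1 hM
    obtain ⟨-, -, h2⟩ := hrow N
    simp [hmul, Matrix.mul_apply, Fin.sum_univ_three, e1, e2, e3, e4, h2]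
  have hkerp : IsPGroup p π.ker := fun M => ⟨1, by
    have hpow : ∀ k : ℕ, E ((M : ↥(Cfsg.qdOver F)) ^ k) 0 2 = (k : F) * E M 0 2 ∧
        E ((M : ↥(Cfsg.qdOver F)) ^ k) 1 2 = (k : F) * E M 1 2 := by
      intro k
      induction k with
      | zero => simp [E]
      | succ k ih =>
        rw [pow_succ']
        obtain ⟨h1, h2⟩ := hcol M M.2 ((M : ↥(Cfsg.qdOver F)) ^ k)
        rw [h1, h2, ih.1, ih.2]
        push_cast
        exact ⟨by ring, by ring⟩
    refine Subtype.ext ?_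
    rw [SubmonoidClass.coe_pow, pow_one]
    refine hext _ 1 ?_ ?_ ?_
    · rw [map_pow, show π M = 1 from M.2, one_pow, map_one]
    · rw [(hpow p).1, CharP.cast_eq_zero, zero_mul]; simp [E]
    · rw [(hpow p).2, CharP.cast_eq_zero, zero_mul]; simp [E]⟩
  have hcore : Cfsg.pCore p ↥(Cfsg.qdOver F) = π.ker := by
    refine le_antisymm ?_ (CfsgLib.Solv.le_pCore hkerp)
    haveI := CfsgLib.Solv.pCore_normal ↥(Cfsg.qdOver F) p
    have hs : Function.Surjective π := fun A => by obtain ⟨M, hM, -⟩ := hlift A 0 0; exact ⟨M, hM⟩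
    haveI : ((Cfsg.pCore p ↥(Cfsg.qdOver F)).map π).Normal := Subgroup.Normal.map inferInstance π hs
    exact (Subgroup.map_eq_bot_iff _).1 (sl2_pcore _ ((CfsgLib.Solv.pCore_isPGroup _ p).map π))
  have hKπ : Function.Bijective (π.comp K.subtype) := by
    refine ⟨fun a b h => Subtype.ext (hext _ _ h (a.2.1.trans b.2.1.symm) (a.2.2.trans b.2.2.symm)), fun A => ?_⟩
    obtain ⟨M, hM, h0, h1⟩ := hlift A 0 0
    exact ⟨⟨M, h0, h1⟩, hM⟩
  rw [hcore]
  refine ⟨hker, K, fun M => Iff.rfl, ?_, ?_, ⟨MulEquiv.ofBijective _ hKπ⟩, ?_⟩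
  · rw [eq_bot_iff]
    rintro M ⟨hMK, hMker⟩
    exact Subgroup.mem_bot.2 (congrArg Subtype.val (hKπ.1 (a₁ := ⟨M, hMK⟩) (a₂ := 1) (by
      rw [map_one]; exact hMker)))
  · refine eq_top_iff.2 fun M _ => ?_
    obtain ⟨k, hk⟩ := hKπ.2 (π M)
    rw [← mul_inv_cancel_left (k : ↥(Cfsg.qdOver F)) M]
    exact Subgroup.mul_mem_sup k.2 (by
      rw [MonoidHom.mem_ker, map_mul, map_inv]
      have hk' : π k = π M := hk
      rw [hk', inv_mul_cancel])
  · let ψ : Additive π.ker ≃+ (Fin 2 → F) :=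
      { toFun := fun v => ![E v.toMul 0 2, E v.toMul 1 2]
        invFun := fun x => Additive.ofMul ⟨(hlift 1 (x 0) (x 1)).choose, (hlift 1 (x 0) (x 1)).choose_spec.1⟩
        left_inv := fun v => by
          refine Additive.toMul.injective (Subtype.ext ?_)
          obtain ⟨h1, h2, h3⟩ := (hlift 1 ((![E v.toMul 0 2, E v.toMul 1 2] : Fin 2 → F) 0)
            ((![E v.toMul 0 2, E v.toMul 1 2] : Fin 2 → F) 1)).choose_spec
          refine hext _ _ (h1.trans (MonoidHom.mem_ker.1 v.toMul.2).symm) ?_ ?_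
          · exact h2.trans (by simp)
          · exact h3.trans (by simp)
        right_inv := fun x => by
          obtain ⟨h1, h2, h3⟩ := (hlift 1 (x 0) (x 1)).choose_spec
          ext i; fin_cases i <;> simp [h2, h3]
        map_add' := fun v w => by
          obtain ⟨h1, h2⟩ := hcol v.toMul v.toMul.2 w.toMul
          ext i
          fin_cases i
          · show E ((v.toMul : ↥(Cfsg.qdOver F)) * w.toMul) 0 2 = E v.toMul 0 2 + E w.toMul 0 2
            rw [h1, add_comm]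
          · show E ((v.toMul : ↥(Cfsg.qdOver F)) * w.toMul) 1 2 = E v.toMul 1 2 + E w.toMul 1 2
            rw [h2, add_comm] }
    have hn : K ≤ Subgroup.normalizer (π.ker : Set ↥(Cfsg.qdOver F)) := by
      rw [Subgroup.normalizer_eq_top]; exact le_top
    have hact : ∀ (k : K) (v : π.ker), ![E ((k : ↥(Cfsg.qdOver F)) * v * (k : ↥(Cfsg.qdOver F))⁻¹) 0 2,
        E ((k : ↥(Cfsg.qdOver F)) * v * (k : ↥(Cfsg.qdOver F))⁻¹) 1 2] =
        (π k : Matrix (Fin 2) (Fin 2) F).mulVec ![E v 0 2, E v 1 2] := by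
      intro k v
      obtain ⟨-, -, h2⟩ := hrow ((k : ↥(Cfsg.qdOver F))⁻¹)
      obtain ⟨c1, c2⟩ := (K.inv_mem k.2)
      obtain ⟨-, -, v2⟩ := hrow (v : ↥(Cfsg.qdOver F))
      rw [hmul, hmul]
      ext i
      fin_cases i <;> simp [hπ, Matrix.mul_apply, Fin.sum_univ_three, Matrix.mulVec, dotProduct,
        Fin.sum_univ_two, c1, c2, h2, v2, k.2.1, k.2.2]
    refine ⟨hn, π.comp K.subtype, ψ, hKπ.2, ?_, fun k v => ⟨⟨_, π.normal_ker.conj_mem v v.2 k⟩, rfl, hact k v⟩⟩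
    rw [(MonoidHom.ker_eq_bot_iff _).2 hKπ.1, eq_comm, eq_bot_iff]
    intro k hk
    refine Subgroup.mem_bot.2 (hKπ.1 ?_)
    rw [map_one]
    have hcomm : ∀ v : π.ker, (k : ↥(Cfsg.qdOver F)) * v * (k : ↥(Cfsg.qdOver F))⁻¹ = v := fun v => by
      rw [← Subgroup.mem_centralizer_iff.1 (Subgroup.mem_subgroupOf.1 hk) v v.2, mul_inv_cancel_right]
    refine Subtype.ext (Matrix.ext fun i j => ?_)
    obtain ⟨M, hM, h0, h1⟩ := hlift 1 1 0
    obtain ⟨M', hM', h0', h1'⟩ := hlift 1 0 1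
    have a1 := hact k ⟨M, hM⟩
    have a2 := hact k ⟨M', hM'⟩
    rw [hcomm, h0, h1] at a1
    rw [hcomm, h0', h1'] at a2
    have b00 := congrFun a1 0
    have b10 := congrFun a1 1
    have b01 := congrFun a2 0
    have b11 := congrFun a2 1
    simp [Matrix.mulVec, dotProduct, Fin.sum_univ_two] at b00 b10 b01 b11
    fin_cases i <;> fin_cases j
    · simpa using b00.symm
    · simpa using b01.symm
    · simpa using b10.symm
    · simpa using b11.symm

/-- Structure of Qd over a finite field F of characteristic p (the affine subgroup of SL₃(F)): its largest normal p-subgroup is the group of translations (matrices with upper-left block the identity), the block-diagonal matrices form a complement isomorphic to SL₂(F), and the translation subgroup is a natural SL₂(F)-module for that complement. -/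
theorem result {F : Type*} [Field F] [Fintype F] {p : ℕ} [Fact p.Prime] [CharP F p] : (∀ M : ↥(Cfsg.qdOver F), M ∈ Cfsg.pCore p ↥(Cfsg.qdOver F) ↔ ((M : Matrix.SpecialLinearGroup (Fin 3) F) : Matrix (Fin 3) (Fin 3) F) 0 0 = 1 ∧ ((M : Matrix.SpecialLinearGroup (Fin 3) F) : Matrix (Fin 3) (Fin 3) F) 0 1 = 0 ∧ ((M : Matrix.SpecialLinearGroup (Fin 3) F) : Matrix (Fin 3) (Fin 3) F) 1 0 = 0 ∧ ((M : Matrix.SpecialLinearGroup (Fin 3) F) : Matrix (Fin 3) (Fin 3) F) 1 1 = 1) ∧ ∃ K : Subgroup ↥(Cfsg.qdOver F), (∀ M : ↥(Cfsg.qdOver F), M ∈ K ↔ ((M : Matrix.SpecialLinearGroup (Fin 3) F) : Matrix (Fin 3) (Fin 3) F) 0 2 = 0 ∧ ((M : Matrix.SpecialLinearGroup (Fin 3) F) : Matrix (Fin 3) (Fin 3) F) 1 2 = 0) ∧ K ⊓ Cfsg.pCore p ↥(Cfsg.qdOver F) = ⊥ ∧ K ⊔ Cfsg.pCore p ↥(Cfsg.qdOver F) = ⊤ ∧ Nonempty (↥K ≃* Matrix.SpecialLinearGroup (Fin 2) F) ∧ Cfsg.IsNaturalSL2Module F (Cfsg.pCore p ↥(Cfsg.qdOver F)) K := by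
  exact qd_structure

end Cfsg.Agent.S2762
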