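import Cfsg.Statements.S2763
import Cfsg.Agent.Inv.QdSylow

set_option autoImplicit false
open Cfsg

namespace Cfsg.Agent.S2763

open CfsgLib.Fus.Qd CfsgLib.Inv.QdSylow

/-- Membership in the unitriangular group from vanishing entries. -/
theorem mem_unitri_iff {p : ℕ} [Fact p.Prime] {a b c d x y : ZMod p} {h : a * d - b * c = 1} :
    mk a b c d x y h ∈ unitri ↔ a = 1 ∧ c = 0 ∧ d = 1 := by
  constructor
  · rintro ⟨b', x', y', e⟩
    have e' := fun i j => congrFun (congrFun (congrArg (fun M : ↥(Cfsg.qd p) => M.1.1) e) i) j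
    exact ⟨by simpa [mk] using e' 0 0, by simpa [mk] using e' 1 0, by simpa [mk] using e' 1 1⟩
  · rintro ⟨rfl, rfl, rfl⟩
    exact ⟨b, x, y, rfl⟩

theorem mk_inv {p : ℕ} [Fact p.Prime] (a b c d x y : ZMod p) (h : a * d - b * c = 1) :
    (mk a b c d x y h)⁻¹ = mk d (-b) (-c) a (b * y - d * x) (c * x - a * y) (by linear_combination h) := by
  refine inv_eq_of_mul_eq_one_right ?_
  rw [mk_mul, ← mk_one]
  exact mk_congr (by linear_combination h) (by ring) (by ring) (by linear_combination h) (by linear_combination (-x) * h)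
    (by linear_combination (-y) * h)

theorem norm_iff {p : ℕ} [Fact p.Prime] (a b c d x y : ZMod p) (h : a * d - b * c = 1) :
    mk a b c d x y h ∈ Subgroup.normalizer ((unitri (p := p)) : Set ↥(Cfsg.qd p)) ↔ c = 0 := by
  constructor
  · intro hg
    have h1 := (Subgroup.mem_normalizer_iff.1 hg (mk 1 1 0 1 0 0 (by ring))).1 (mem_unitri_iff.2 ⟨rfl, rfl, rfl⟩)
    rw [mk_inv, mk_mul, mk_mul, mem_unitri_iff] at h1
    have h2 : c * c = 0 := by linear_combination -h1.2.1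
    exact mul_self_eq_zero.1 h2
  · rintro rfl
    refine Subgroup.mem_normalizer_fintype fun m hm => ?_
    obtain ⟨b', x', y', rfl⟩ := hm
    show mk a b 0 d x y h * mk 1 b' 0 1 x' y' _ * (mk a b 0 d x y h)⁻¹ ∈ unitri
    rw [mk_inv, mk_mul, mk_mul, mem_unitri_iff]
    exact ⟨by linear_combination h, by ring, by linear_combination h⟩

theorem char_case {p : ℕ} [Fact p.Prime] (T : Subgroup ↥(Cfsg.qd p)) (hT : T ≠ ⊥) (hle : T ≤ unitri)
    (hinv : ∀ e : ↥(unitri (p := p)) ≃* ↥(unitri (p := p)), ∀ t : ↥(unitri (p := p)), (t : ↥(Cfsg.qd p)) ∈ T → (e t : ↥(Cfsg.qd p)) ∈ T) :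
    Subgroup.normalizer (T : Set ↥(Cfsg.qd p)) = Subgroup.normalizer ((unitri (p := p)) : Set ↥(Cfsg.qd p)) := by
  have hfwd : Subgroup.normalizer ((unitri (p := p)) : Set ↥(Cfsg.qd p)) ≤ Subgroup.normalizer (T : Set ↥(Cfsg.qd p)) := by
    intro g hg
    refine Subgroup.mem_normalizer_fintype fun t ht => ?_
    exact hinv ((unitri (p := p)).normalizerMonoidHom ⟨g, hg⟩) ⟨t, hle ht⟩ ht
  refine le_antisymm (fun g hg => ?_) hfwd
  have hconj : ∀ u : ↥(Cfsg.qd p), u ∈ Subgroup.normalizer (T : Set ↥(Cfsg.qd p)) → ∀ t ∈ T, u * t * u⁻¹ ∈ T := fun u hu t ht =>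
    (Subgroup.mem_normalizer_iff.1 hu t).1 ht
  have hU : ∀ u ∈ unitri (p := p), ∀ t ∈ T, u * t * u⁻¹ * t⁻¹ ∈ T := fun u hu t ht =>
    mul_mem (hconj u (hfwd (Subgroup.le_normalizer hu)) t ht) (inv_mem ht)
  obtain ⟨x₀, hx₀, hz⟩ : ∃ x₀ : ZMod p, x₀ ≠ 0 ∧ mk (1 : ZMod p) 0 0 1 x₀ 0 (by ring) ∈ T := by
    obtain ⟨m, hm, hm1⟩ := T.bot_or_exists_ne_one.resolve_left hT
    obtain ⟨b, x, y, rfl⟩ := hle hm
    by_cases hb : b = 0
    · subst hb
      by_cases hy : y = 0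
      · subst hy
        refine ⟨x, fun e => hm1 ?_, hm⟩
        rw [← mk_one]; exact mk_congr rfl rfl rfl rfl e rfl
      · refine ⟨y, hy, ?_⟩
        have h1 := hU (mk 1 1 0 1 0 0 (by ring)) (mem_unitri_iff.2 ⟨rfl, rfl, rfl⟩) _ hm
        rw [mk_inv, mk_inv, mk_mul, mk_mul, mk_mul] at h1
        convert h1 using 1
        exact mk_congr (by ring) (by ring) (by ring) (by ring) (by ring) (by ring)
    · refine ⟨-b, neg_ne_zero.2 hb, ?_⟩
      have h1 := hU (mk 1 0 0 1 0 1 (by ring)) (mem_unitri_iff.2 ⟨rfl, rfl, rfl⟩) _ hm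
      rw [mk_inv, mk_inv, mk_mul, mk_mul, mk_mul] at h1
      convert h1 using 1
      exact mk_congr (by ring) (by ring) (by ring) (by ring) (by ring) (by ring)
  have hline : ∀ x y : ZMod p, mk (1 : ZMod p) 0 0 1 x y (by ring) ∈ T → ∀ s : ZMod p, mk (1 : ZMod p) 0 0 1 (s * x) (s * y) (by ring) ∈ T := by
    intro x y hm s
    have h1 := pow_mem hm s.val
    rw [unitri_pow_formula] at h1
    convert h1 using 1
    exact mk_congr rfl (by ring) rfl rfl (by rw [ZMod.natCast_zmod_val]; ring) (by rw [ZMod.natCast_zmod_val])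
  obtain ⟨a, b, c, d, x, y, h, rfl⟩ := eq_mk g
  rw [norm_iff]
  by_contra hc
  have hg' : ∀ t ∈ T, mk a b c d x y h * t * (mk a b c d x y h)⁻¹ ∈ T := hconj _ hg
  have hQ : ∀ x' y' : ZMod p, mk (1 : ZMod p) 0 0 1 x' y' (by ring) ∈ T := by
    intro x' y'
    have h1 := hg' _ hz
    rw [mk_inv, mk_mul, mk_mul] at h1
    have h2 : mk (1 : ZMod p) 0 0 1 (a * x₀) (c * x₀) (by ring) ∈ T := by
      convert h1 using 1
      exact mk_congr (by linear_combination -h) (by ring) (by ring) (by linear_combination -h) (by linear_combination x * h)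
        (by linear_combination y * h)
    have h3 := hline _ _ h2 (y' / (c * x₀))
    have h4 := hline _ _ hz ((x' - y' / (c * x₀) * (a * x₀)) / x₀)
    have h5 := mul_mem h3 h4
    rw [mk_mul] at h5
    convert h5 using 1
    refine mk_congr (by ring) (by ring) (by ring) (by ring) ?_ ?_
    · field_simp; ring
    · field_simp; ring
  let θf : ↥(Cfsg.qd p) → ↥(Cfsg.qd p) := fun M => mk 1 (M.1.1 1 2) 0 1 (M.1.1 0 1 * M.1.1 1 2 - M.1.1 0 2) (M.1.1 0 1) (by ring)
  let θ : ↥(unitri (p := p)) →* ↥(unitri (p := p)) := MonoidHom.mk' (fun M => ⟨θf M.1, mem_unitri_iff.2 ⟨rfl, rfl, rfl⟩⟩) (by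
    rintro ⟨_, b₁, x₁, y₁, rfl⟩ ⟨_, b₂, x₂, y₂, rfl⟩
    apply Subtype.ext
    show θf (mk 1 b₁ 0 1 x₁ y₁ (by ring) * mk 1 b₂ 0 1 x₂ y₂ (by ring)) = θf (mk 1 b₁ 0 1 x₁ y₁ (by ring)) * θf (mk 1 b₂ 0 1 x₂ y₂ (by ring))
    simp only [θf, mk_mul]
    refine mk_congr ?_ ?_ ?_ ?_ ?_ ?_ <;> simp [mk] <;> ring)
  have hθ : ∀ M, θ (θ M) = M := by
    rintro ⟨_, b₁, x₁, y₁, rfl⟩
    apply Subtype.ext
    show θf (θf (mk 1 b₁ 0 1 x₁ y₁ (by ring))) = mk 1 b₁ 0 1 x₁ y₁ (by ring)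
    refine mk_congr rfl ?_ rfl rfl ?_ ?_ <;> simp [θf, mk] <;> ring
  let e : ↥(unitri (p := p)) ≃* ↥(unitri (p := p)) := θ.toMulEquiv θ (MonoidHom.ext hθ) (MonoidHom.ext hθ)
  have hall : unitri (p := p) ≤ T := by
    rintro _ ⟨b', x', y', rfl⟩
    have h1 : mk (1 : ZMod p) b' 0 1 0 0 (by ring) ∈ T := by
      have h2 := hinv e ⟨mk 1 0 0 1 0 b' (by ring), mem_unitri_iff.2 ⟨rfl, rfl, rfl⟩⟩ (hQ 0 b')
      have e2 : (e ⟨mk 1 0 0 1 0 b' (by ring), mem_unitri_iff.2 ⟨rfl, rfl, rfl⟩⟩ : ↥(Cfsg.qd p)) = mk 1 b' 0 1 0 0 (by ring) := by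
        show θf (mk 1 0 0 1 0 b' (by ring)) = _
        refine mk_congr rfl ?_ rfl rfl ?_ ?_ <;> simp [mk]
      rwa [e2] at h2
    have h3 := mul_mem (hQ x' y') h1
    rw [mk_mul] at h3
    convert h3 using 1
    exact mk_congr (by ring) (by ring) (by ring) (by ring) (by ring) (by ring)
  have heq : T = unitri := le_antisymm hle hall
  rw [heq, norm_iff] at hg
  exact hc hg

/-- In the group Qd(p) (p prime; the natural semidirect product of an elementary abelian group of order p² by SL₂(p)), the normalizer of every nontrivial characteristic subgroup of a Sylow p-subgroup S equals the normalizer of S, which is a proper subgroup; in particular no such characteristic subgroup is normal. -/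
theorem result {p : ℕ} [Fact p.Prime] (S : Sylow p ↥(Cfsg.qd p)) (T : Subgroup ↥(S : Subgroup ↥(Cfsg.qd p))) (hT : T ≠ ⊥) (hTc : T.Characteristic) : Subgroup.normalizer ((T.map (S : Subgroup ↥(Cfsg.qd p)).subtype : Subgroup ↥(Cfsg.qd p)) : Set ↥(Cfsg.qd p)) = Subgroup.normalizer ((S : Subgroup ↥(Cfsg.qd p)) : Set ↥(Cfsg.qd p)) ∧ Subgroup.normalizer ((S : Subgroup ↥(Cfsg.qd p)) : Set ↥(Cfsg.qd p)) ≠ ⊤ := by
    have hU : IsPGroup p ↥(unitri (p := p)) := IsPGroup.of_card card_unitri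
    have hidx : ¬ p ∣ (unitri (p := p)).index := by
      have h := Subgroup.card_mul_index (unitri (p := p))
      rw [card_unitri, card_qd] at h
      rw [Nat.eq_of_mul_eq_mul_left (pow_pos (Fact.out : p.Prime).pos 3) h]
      intro h
      have h2 := Nat.dvd_sub (dvd_pow_self p (show 2 ≠ 0 by norm_num)) h
      have h3 : 1 ≤ p ^ 2 := Nat.one_le_pow _ _ (Fact.out : p.Prime).pos
      rw [show p ^ 2 - (p ^ 2 - 1) = 1 by omega] at h2
      exact (Fact.out : p.Prime).one_lt.ne' (Nat.dvd_one.1 h2)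
    obtain ⟨g, hg⟩ := MulAction.exists_smul_eq ↥(Cfsg.qd p) (hU.toSylow hidx) S
    have hS : (S : Subgroup ↥(Cfsg.qd p)) = (unitri (p := p)).map (MulAut.conj g).toMonoidHom := by
      rw [← hg, Sylow.coe_subgroup_smul]; rfl
    set κ : ↥(unitri (p := p)) ≃* ↥(S : Subgroup ↥(Cfsg.qd p)) :=
      ((unitri (p := p)).equivMapOfInjective _ (MulAut.conj g).injective).trans (MulEquiv.subgroupCongr hS.symm) with hκ
    have hκv : ∀ u, (κ u : ↥(Cfsg.qd p)) = g * u * g⁻¹ := fun u => rfl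
    set T₁ : Subgroup ↥(Cfsg.qd p) := (T.comap κ.toMonoidHom).map (unitri (p := p)).subtype with hT₁
    have hTmap : T.map (S : Subgroup ↥(Cfsg.qd p)).subtype = T₁.map (MulAut.conj g).toMonoidHom := by
      ext z
      constructor
      · rintro ⟨t, ht, rfl⟩
        obtain ⟨u, rfl⟩ := κ.surjective t
        exact ⟨u, ⟨u, ht, rfl⟩, (hκv u).symm⟩
      · rintro ⟨_, ⟨u, hu, rfl⟩, rfl⟩
        exact ⟨κ u, hu, hκv u⟩
    have hkey := char_case T₁ (fun e => hT (by
        have h := hTmap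
        rw [e, Subgroup.map_bot] at h
        exact (Subgroup.map_eq_bot_iff_of_injective T (Subgroup.subtype_injective _)).1 h))
      (Subgroup.map_subtype_le _) (by
        rintro e t ⟨u, hu, hut⟩
        obtain rfl : u = t := Subtype.ext hut
        refine ⟨e u, ?_, rfl⟩
        show κ (e u) ∈ T
        have h := (Subgroup.characteristic_iff_map_eq.1 hTc (κ.symm.trans (e.trans κ))).le ⟨κ u, hu, rfl⟩
        simpa using h)
    have hne : Subgroup.normalizer ((S : Subgroup ↥(Cfsg.qd p)) : Set ↥(Cfsg.qd p)) ≠ ⊤ := by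
      intro h
      have hw : g * mk (0 : ZMod p) (-1) 1 0 0 0 (by ring) * g⁻¹ ∈ Subgroup.normalizer ((S : Subgroup ↥(Cfsg.qd p)) : Set ↥(Cfsg.qd p)) := h ▸ Subgroup.mem_top _
      rw [hS, ← Subgroup.map_equiv_normalizer_eq] at hw
      obtain ⟨w, hw1, hw2⟩ := hw
      rw [(MulAut.conj g).injective hw2] at hw1
      exact one_ne_zero ((norm_iff _ _ _ _ _ _ _).1 hw1)
    refine ⟨?_, hne⟩
    rw [hTmap, ← Subgroup.map_equiv_normalizer_eq, hS, ← Subgroup.map_equiv_normalizer_eq, hkey]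

end Cfsg.Agent.S2763
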