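import Cfsg.Statements.S2770
import Cfsg.Agent.Fus.JInduction
import Cfsg.Agent.Fus.AutomizerComplement
import Cfsg.Agent.Inv.FrakM

set_option autoImplicit false
set_option linter.style.haveILetI false
open Cfsg
open CfsgLib.Inv

namespace Cfsg.Agent.S2770

theorem normal_or_top {G : Type*} [Group G] [Finite G] {p : ℕ} [Fact p.Prime] (S : Sylow p G)
    (hE₂ : ∃! M : Subgroup G, IsCoatom M ∧ (S : Subgroup G) ≤ M) (C : Subgroup G) [C.Normal] :
    ((S : Subgroup G) ⊓ C).Normal ∨ C ⊔ (S : Subgroup G) = ⊤ := by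
  obtain ⟨M, ⟨hM, hSM⟩, huniq⟩ := hE₂
  have hle : ∀ X : Subgroup G, (S : Subgroup G) ≤ X → X ≠ ⊤ → X ≤ M := fun X hSX hX => by
    obtain ⟨M', hM', hXM'⟩ := (eq_top_or_exists_le_coatom X).resolve_left hX
    exact huniq M' ⟨hM', hSX.trans hXM'⟩ ▸ hXM'
  by_cases hC : C ⊔ (S : Subgroup G) = ⊤
  · exact Or.inr hC
  left
  have hCM : C ≤ M := le_sup_left.trans (hle _ le_sup_right hC)
  obtain ⟨P, hP⟩ := sylow_inf_normal S C
  have h := Sylow.normalizer_sup_eq_top P
  rw [hP] at h
  by_contra hn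
  have hne : Subgroup.normalizer (((S : Subgroup G) ⊓ C : Subgroup G) : Set G) ≠ ⊤ := fun e =>
    hn (Subgroup.normalizer_eq_top_iff.1 e)
  have hSN : (S : Subgroup G) ≤ Subgroup.normalizer (((S : Subgroup G) ⊓ C : Subgroup G) : Set G) :=
    CfsgLib.Solv.le_normalizer_inf_of_le Subgroup.le_normalizer (by rw [Subgroup.normalizer_eq_top]; exact le_top)
  exact hM.1 (top_le_iff.1 (h.ge.trans (sup_le (hle _ hSN hne) hCM)))

/-- Alternatives for `Z(S)` not elementary abelian. -/
theorem result {G : Type*} [Group G] [Finite G] {p : ℕ} [Fact p.Prime] (S : Sylow p G) (hE₁ : Subgroup.centralizer (Cfsg.pCore p G : Set G) ≤ Cfsg.pCore p G) (hE₂ : ∃! M : Subgroup G, IsCoatom M ∧ (S : Subgroup G) ≤ M) (K : Subgroup G) [K.Normal] (F : Type) [Field F] [Fintype F] (n : ℕ) (hn : 1 ≤ n) (hF : Fintype.card F = p ^ n) (hE₃ : Nonempty (G ⧸ K ≃* Matrix.ProjectiveSpecialLinearGroup (Fin 2) F)) (h : ¬ Cfsg.IsElementaryAbelian p ((S : Subgroup G) ⊓ Subgroup.centralizer ((S : Subgroup G) : Set G)))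 : (Cfsg.powerClosure p 1 ((S : Subgroup G) ⊓ Subgroup.centralizer ((S : Subgroup G) : Set G))).Normal ∨ (((S : Subgroup G) ⊓ Subgroup.centralizer (Cfsg.centerThompsonAOf (S : Subgroup G) : Set G))).Normal := by
  set S' := (S : Subgroup G) with hS'
  set Z := S' ⊓ Subgroup.centralizer (S' : Set G) with hZ
  haveI := CfsgLib.Solv.pCore_normal G p
  have hQS : Cfsg.pCore p G ≤ S' := CfsgLib.Solv.pCore_le_sylow S
  have hZQ : Z ≤ Cfsg.pCore p G := fun z hz => hE₁ (Subgroup.mem_centralizer_iff.2 fun q hq =>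
    Subgroup.mem_centralizer_iff.1 (Subgroup.mem_inf.1 hz).2 q (hQS hq))
  set P := Cfsg.powerClosure p 1 Z with hP
  have hleft : ∀ D : Subgroup G, D.Normal → D ⊔ S' = ⊤ → D ≤ Subgroup.centralizer (P : Set G) → P.Normal := by
    intro D _ htop hD
    have hS : S' ≤ Subgroup.centralizer (P : Set G) := by
      intro s hs
      refine Subgroup.mem_centralizer_iff.2 fun y hy => ?_
      exact (Subgroup.mem_centralizer_iff.1 (Subgroup.mem_inf.1 (CfsgLib.Fus.powerClosure_le hy)).2 s hs).symm
    have hall : (⊤ : Subgroup G) ≤ Subgroup.centralizer (P : Set G) := htop ▸ sup_le hD hS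
    refine ⟨fun y hy g => ?_⟩
    rw [← Subgroup.mem_centralizer_iff.1 (hall (Subgroup.mem_top g)) y hy, mul_inv_cancel_right]
    exact hy
  set V := Subgroup.normalClosure (Z : Set G) with hV
  haveI hVn : V.Normal := Subgroup.normalClosure_normal
  have hZV : Z ≤ V := Subgroup.le_normalClosure
  have hVQ : V ≤ Cfsg.pCore p G := Subgroup.normalClosure_le_normal hZQ
  have hVcQ : V ≤ Subgroup.centralizer (Cfsg.pCore p G : Set G) := by
    haveI : (Subgroup.centralizer (Cfsg.pCore p G : Set G)).Normal := by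
      rw [← Subgroup.normalizer_eq_top_iff, ← top_le_iff]
      exact CfsgLib.Inv.FM.centralizer_normal_in (by rw [Subgroup.normalizer_eq_top])
    exact Subgroup.normalClosure_le_normal fun z hz => Subgroup.mem_centralizer_iff.2 fun q hq =>
      Subgroup.mem_centralizer_iff.1 (Subgroup.mem_inf.1 hz).2 q (hQS hq)
  have hVc : ∀ a ∈ V, ∀ b ∈ V, a * b = b * a := fun a ha b hb =>
    Subgroup.mem_centralizer_iff.1 (hVcQ hb) a (hVQ ha)
  set D := Subgroup.centralizer (V : Set G) with hD
  haveI hDn : D.Normal := by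
    rw [← Subgroup.normalizer_eq_top_iff, ← top_le_iff]
    exact CfsgLib.Inv.FM.centralizer_normal_in (by rw [Subgroup.normalizer_eq_top])
  have hQD : Cfsg.pCore p G ≤ D := fun q hq => Subgroup.mem_centralizer_iff.2 fun v hv =>
    (Subgroup.mem_centralizer_iff.1 (hVcQ hv) q hq).symm
  by_cases hA : ∀ A ∈ maxAbelianSubgroups S', A.map S'.subtype ≤ D
  · rcases normal_or_top S hE₂ D with hN | htop
    · have hJ : thompsonSubgroupAOf (S' ⊓ D) = thompsonSubgroupAOf S' :=
        CfsgLib.Fus.thompsonAOf_eq inf_le_left fun A hA' => le_inf (Subgroup.map_subtype_le _) (hA A hA')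
      set J := thompsonSubgroupAOf S' with hJdef
      have hJn : ⊤ ≤ Subgroup.normalizer (J : Set G) := by
        rw [← hJ]
        refine le_trans (le_of_eq ?_) (CfsgLib.AutComp.jOf_charIn (S' ⊓ D)).le_normalizer
        rw [Subgroup.normalizer_eq_top_iff.2 hN]
      set W := Cfsg.centerThompsonAOf S' with hW
      have hWn : ⊤ ≤ Subgroup.normalizer (W : Set G) :=
        CfsgLib.Solv.le_normalizer_inf_of_le hJn (CfsgLib.Inv.FM.centralizer_normal_in hJn)
      haveI : (Subgroup.centralizer (W : Set G)).Normal := by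
        rw [← Subgroup.normalizer_eq_top_iff, ← top_le_iff]
        exact CfsgLib.Inv.FM.centralizer_normal_in hWn
      rcases normal_or_top S hE₂ (Subgroup.centralizer (W : Set G)) with h1 | h1
      · exact Or.inr h1
      · refine Or.inl (hleft _ inferInstance h1 (Subgroup.centralizer_le ?_))
        intro y hy
        have hyZ : y ∈ Z := CfsgLib.Fus.powerClosure_le hy
        obtain ⟨hyS, hyc⟩ := Subgroup.mem_inf.1 hyZ
        refine Subgroup.mem_inf.2 ⟨⟨⟨y, hyS⟩, CfsgLib.Fus.center_le_thompsonA (Subgroup.mem_center_iff.2 fun s =>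
          Subtype.ext (Subgroup.mem_centralizer_iff.1 hyc s s.2)), rfl⟩, Subgroup.mem_centralizer_iff.2 fun s hs => ?_⟩
        exact Subgroup.mem_centralizer_iff.1 hyc s (Subgroup.map_subtype_le _ hs)
    · refine Or.inl (hleft D hDn htop (Subgroup.centralizer_le ?_))
      exact fun y hy => hZV (CfsgLib.Fus.powerClosure_le hy)
  · push Not at hA
    obtain ⟨A, hAm, hAn⟩ := hA
    obtain ⟨g, hgS, hgD, -, -, hgp⟩ := CfsgLib.Fus.exists_quadratic S.isPGroup' (hVQ.trans hQS)
      (by rw [Subgroup.normalizer_eq_top]; exact le_top) hVc hAm hAn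
    set PV := Cfsg.powerClosure p 1 V with hPV
    set E := Subgroup.centralizer (PV : Set G) with hE
    have hPVn : ⊤ ≤ Subgroup.normalizer (PV : Set G) := by
      rw [CfsgLib.Solv.le_normalizer_iff_forall_conj_mem]
      intro l _ x hx
      have hle : PV ≤ PV.comap (MulAut.conj l).toMonoidHom := (Subgroup.closure_le _).2 (by
        rintro _ ⟨v, hv, rfl⟩
        show l * v ^ p ^ 1 * l⁻¹ ∈ PV
        rw [← conj_pow]
        exact Subgroup.subset_closure ⟨_, hVn.conj_mem v hv l, rfl⟩)
      exact hle hx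
    haveI : E.Normal := by
      rw [← Subgroup.normalizer_eq_top_iff, ← top_le_iff]
      exact CfsgLib.Inv.FM.centralizer_normal_in hPVn
    have hgE : g ∈ E := by
      refine Subgroup.mem_centralizer_iff.2 fun y hy => ?_
      induction hy using Subgroup.closure_induction with
      | mem y hy =>
        obtain ⟨v, hv, rfl⟩ := hy
        rw [pow_one]
        exact (mul_inv_eq_iff_eq_mul.1 (hgp v hv)).symm
      | one => simp
      | mul a b _ _ iha ihb => rw [mul_assoc, ihb, ← mul_assoc, iha, mul_assoc]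
      | inv a _ iha => exact ((show Commute a g from iha).inv_left).eq
    rcases normal_or_top S hE₂ E with h1 | h1
    · haveI := h1
      exact absurd (hQD (CfsgLib.Solv.le_pCore (S.isPGroup'.to_le inf_le_left) (Subgroup.mem_inf.2 ⟨hgS, hgE⟩))) hgD
    · refine Or.inl (hleft E inferInstance h1 (Subgroup.centralizer_le ?_))
      exact Subgroup.closure_mono fun y ⟨x, hx, e⟩ => ⟨x, hZV hx, e⟩

end Cfsg.Agent.S2770
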