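import Cfsg.Statements.S2779
import Cfsg.Agent.Inv.NaturalSL2
import Cfsg.Agent.Solv.Basic

set_option autoImplicit false
open Cfsg

namespace Cfsg.Agent.S2779

/-- Let L act on the elementary abelian p-group V (inside a finite group, by conjugation, faithfully) as SL₂(F) on its natural module, F a field with p^n elements, and let S be a Sylow p-subgroup of L. Then [V, S, S] = 1; |V| = p^(2n) and |C_V(S)| = p^n; and for every nonidentity s ∈ S and every v ∈ V outside C_V(S): C_V(s) = C_V(S) = [V, S] = [V, s] = the subgroup generated by the commutators [v, t], t ∈ S. -/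
theorem result {G : Type*} [Group G] [Finite G] {p : ℕ} [Fact p.Prime] {F : Type*} [Field F] [Fintype F] (n : ℕ) (hF : Fintype.card F = p ^ n) (V L : Subgroup G) (hnat : Cfsg.IsNaturalSL2Module F V L) (hf : L ⊓ Subgroup.centralizer (V : Set G) = ⊥) (S : Sylow p ↥L) (T : Subgroup G) (hT : T = ((S : Subgroup ↥L).map L.subtype)) : ⁅⁅V, T⁆, T⁆ = ⊥ ∧ Nat.card V = p ^ (2 * n) ∧ Nat.card ↥(V ⊓ Subgroup.centralizer ((T : Subgroup G) : Set G)) = p ^ n ∧ ∀ s ∈ T, s ≠ 1 → (V ⊓ Subgroup.centralizer ({s} : Set G)) = (V ⊓ Subgroup.centralizer ((T : Subgroup G) : Set G)) ∧ ⁅V, T⁆ = (V ⊓ Subgroup.centralizer ((T : Subgroup G) : Set G)) ∧ ⁅V, Subgroup.zpowers s⁆ = (V ⊓ Subgroup.centralizer ((T : Subgroup G) : Set G)) ∧ ∀ v ∈ V, v ∉ Subgroup.centralizer (T : Set G) → Subgroup.closure {x : G | ∃ t ∈ T, x = v * t * v⁻¹ * t⁻¹} = (V ⊓ Subgroup.centralizer ((T : Subgroup G) : Set G)) := by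
  open CfsgLib.Inv.NaturalSL2 in
  open scoped commutatorElement in
  exact (by
    haveI : CharP F p := by
      obtain ⟨r, hr⟩ := CharP.exists F
      obtain ⟨m, hrp, hm⟩ := FiniteField.card F r
      have hn0 : n ≠ 0 := fun h => by
        have h2 : 1 < Fintype.card F := Fintype.one_lt_card
        rw [hF, h, pow_zero] at h2; omega
      have e : r = p := by
        have h1 : r ∣ p ^ n := by rw [← hF, hm]; exact dvd_pow_self r m.ne_zero
        exact (Nat.prime_dvd_prime_iff_eq hrp Fact.out).1 (hrp.dvd_of_dvd_pow h1)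
      rwa [e] at hr
    obtain ⟨c⟩ := exists_coord hnat hf S
    subst hT
    set T := (S : Subgroup ↥L).map L.subtype with hT
    set C := V ⊓ Subgroup.centralizer (T : Set G) with hC
    have hCcard : Nat.card C = p ^ n := by
      rw [← hF, ← Nat.card_eq_fintype_card (α := F)]
      refine Nat.card_congr (Equiv.ofBijective (fun v : C => c.co ⟨v, v.2.1⟩ 0) ⟨fun a b h => ?_, fun x => ?_⟩)
      · have key : (⟨a, a.2.1⟩ : V) = ⟨b, b.2.1⟩ := c.co_injective (by
          rw [c.co_eq_of _ ((c.mem_cent_iff ⟨a, a.2.1⟩).1 a.2.2), c.co_eq_of _ ((c.mem_cent_iff ⟨b, b.2.1⟩).1 b.2.2)]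
          simp only at h
          rw [h])
        exact Subtype.ext (congrArg (fun z : V => (z : G)) key)
      · obtain ⟨v, hv⟩ := c.co_surjective ![x, 0]
        exact ⟨⟨v, v.2, (c.mem_cent_iff v).2 (by rw [hv]; simp)⟩, by simp [hv]⟩
    -- the commutator of `v` with an element of `T`
    have hbr : ∀ (v : V) (t : G) (ht : t ∈ T), ∃ w : V, (w : G) = v * t * (v : G)⁻¹ * t⁻¹ ∧
        c.co w = ![-((c.ρ ⟨t, c.le ht⟩ : Matrix (Fin 2) (Fin 2) F) 0 1 * c.co v 1), 0] := by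
      intro v t ht
      obtain ⟨w, hw, -⟩ := c.act ⟨t, c.le ht⟩ v⁻¹
      refine ⟨v * w, ?_, ?_⟩
      · rw [Subgroup.coe_mul, hw, Subgroup.coe_inv]; group
      · rw [c.co_mul, c.co_conj _ v⁻¹ w hw, c.co_inv, Coord.mulVec_unip ((c.mem_iff _).1 ht)]
        ext i; fin_cases i <;> simp
    have hbrC : ∀ (v : V) (t : G), t ∈ T → (v : G) * t * (v : G)⁻¹ * t⁻¹ ∈ C := fun v t ht => by
      obtain ⟨w, hw, hco⟩ := hbr v t ht
      rw [← hw]
      exact ⟨w.2, (c.mem_cent_iff w).2 (by rw [hco]; simp)⟩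
    have hVT : ⁅V, T⁆ ≤ C := Subgroup.commutator_le.2 fun v hv t ht => by
      rw [commutatorElement_def]; exact hbrC ⟨v, hv⟩ t ht
    have hone : ∀ x ∈ C, ∀ v : V, c.co v 1 ≠ 0 → ∃ t ∈ T, x = (v : G) * t * (v : G)⁻¹ * t⁻¹ := by
      rintro x ⟨hxV, hxT⟩ v hv
      obtain ⟨l, hlT, hl⟩ := c.exists_unip (-(c.co ⟨x, hxV⟩ 0 / c.co v 1))
      obtain ⟨w, hw, hco⟩ := hbr v l hlT
      refine ⟨l, hlT, ?_⟩
      rw [← hw]
      refine congrArg Subtype.val (c.co_injective (?_ : c.co ⟨x, hxV⟩ = c.co w))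
      rw [hco, c.co_eq_of _ ((c.mem_cent_iff _).1 hxT)]
      simp [hl, div_mul_cancel₀ _ hv]
    refine ⟨?_, ?_, hCcard, fun s hs hs1 => ?_⟩
    · rw [Subgroup.commutator_eq_bot_iff_le_centralizer]
      exact hVT.trans inf_le_right
    · rw [← Nat.card_congr Additive.ofMul.symm, Nat.card_congr c.ψ.toEquiv, Nat.card_fun, Nat.card_fin,
        Nat.card_eq_fintype_card, hF, mul_comm, pow_mul]
    set b := (c.ρ ⟨s, c.le hs⟩ : Matrix (Fin 2) (Fin 2) F) 0 1 with hb
    have hb0 : b ≠ 0 := fun h => hs1 (by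
      have hm := (c.mem_iff ⟨s, c.le hs⟩).1 hs
      have : c.ρ ⟨s, c.le hs⟩ = c.ρ 1 := by
        rw [map_one]
        refine Subtype.ext (Matrix.ext fun i j => ?_)
        fin_cases i <;> fin_cases j <;> simp [hm.1, hm.2.1, hm.2.2, ← hb, h]
      exact congrArg Subtype.val (c.inj this))
    have hsone : ∀ x ∈ C, x ∈ ⁅V, Subgroup.zpowers s⁆ := by
      rintro x ⟨hxV, hxT⟩
      obtain ⟨v, hv⟩ := c.co_surjective ![0, -(c.co ⟨x, hxV⟩ 0 / b)]
      obtain ⟨w, hw, hco⟩ := hbr v s hs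
      have hxw : x = w := congrArg Subtype.val (c.co_injective (a₁ := (⟨x, hxV⟩ : V)) (a₂ := w) (by
        rw [hco, c.co_eq_of _ ((c.mem_cent_iff _).1 hxT), hv, ← hb]
        simp [mul_div_cancel₀ _ hb0]))
      rw [hxw, hw, ← commutatorElement_def]
      exact Subgroup.commutator_mem_commutator v.2 (Subgroup.mem_zpowers s)
    have hzs : ⁅V, Subgroup.zpowers s⁆ ≤ ⁅V, T⁆ :=
      Subgroup.commutator_mono le_rfl ((Subgroup.zpowers_le).2 hs)
    refine ⟨le_antisymm ?_ (inf_le_inf_left _ (Subgroup.centralizer_le (Set.singleton_subset_iff.2 hs))),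
      le_antisymm hVT (fun x hx => hzs (hsone x hx)), le_antisymm (hzs.trans hVT) hsone, fun v hv hvT => ?_⟩
    · rintro x ⟨hxV, hxs⟩
      refine ⟨hxV, (c.mem_cent_iff ⟨x, hxV⟩).2 ?_⟩
      have h1 := congrFun ((c.comm_iff ⟨s, c.le hs⟩ ⟨x, hxV⟩).1
        (Subgroup.mem_centralizer_singleton_iff.1 hxs).symm) 0
      rw [Coord.mulVec_unip ((c.mem_iff _).1 hs), ← hb] at h1
      simpa [hb0] using h1
    · refine le_antisymm ((Subgroup.closure_le _).2 ?_) fun x hx => ?_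
      · rintro _ ⟨t, ht, rfl⟩; exact hbrC ⟨v, hv⟩ t ht
      · obtain ⟨t, ht, he⟩ := hone x hx ⟨v, hv⟩ (fun h => hvT ((c.mem_cent_iff _).2 h))
        exact Subgroup.subset_closure ⟨t, ht, he⟩)

end Cfsg.Agent.S2779
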