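import Cfsg.Statements.S2780
import Cfsg.Agent.Inv.NaturalSL2
import Cfsg.Agent.Solv.Basic

set_option autoImplicit false
open Cfsg

namespace Cfsg.Agent.S2780

/-- Let L act on the elementary abelian p-group V (inside a finite group, faithfully) as SL₂(F) on its natural module, F a field with p^n elements, S a Sylow p-subgroup of L. Then: for every g ∈ L not normalizing S, V is the internal direct product of C_V(S) and C_V(gSg⁻¹); every nonidentity element of L of order prime to p acts on V without nonidentity fixed points; and C_V(S) and V/C_V(S) are irreducible for N_L(S): the only N_L(S)-invariant subgroups of C_V(S) are 1 and C_V(S), and the only N_L(S)-invariant subgroups between C_V(S) and V are those two. -/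
theorem result {G : Type*} [Group G] [Finite G] {p : ℕ} [Fact p.Prime] {F : Type*} [Field F] [Fintype F] (n : ℕ) (hF : Fintype.card F = p ^ n) (V L : Subgroup G) (hnat : Cfsg.IsNaturalSL2Module F V L) (hf : L ⊓ Subgroup.centralizer (V : Set G) = ⊥) (S : Sylow p ↥L) (T : Subgroup G) (hT : T = ((S : Subgroup ↥L).map L.subtype)) : (∀ g ∈ L, g ∉ Subgroup.normalizer (T : Set G) → Cfsg.IsInternalDirectProduct (V ⊓ Subgroup.centralizer ((T : Subgroup G) : Set G)) (V ⊓ Subgroup.centralizer ((T.map (MulAut.conj g).toMonoidHom : Subgroup G) : Set G)) V) ∧ (∀ x ∈ L, x ≠ 1 → (orderOf x).Coprime p → (V ⊓ Subgroup.centralizer ({x} : Set G)) = ⊥) ∧ (∀ U : Subgroup G, U ≤ (V ⊓ Subgroup.centralizer ((T : Subgroup G) : Set G)) → L ⊓ Subgroup.normalizer (T : Set G) ≤ Subgroup.normalizer (U : Set G) → U = ⊥ ∨ U = (V ⊓ Subgroup.centralizer ((T : Subgroup G) : Set G))) ∧ (∀ U : Subgroup G, (V ⊓ Subgroup.centralizer ((T : Subgroup G) : Set G)) ≤ U → U ≤ V → L ⊓ Subgroup.normalizer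 (T : Set G) ≤ Subgroup.normalizer (U : Set G) → U = (V ⊓ Subgroup.centralizer ((T : Subgroup G) : Set G)) ∨ U = V) := by
  open CfsgLib.Inv.NaturalSL2 in
  open Matrix in
  exact (by
    haveI : CharP F p := by
      obtain ⟨r, hr⟩ := CharP.exists F
      obtain ⟨m, hrp, hm⟩ := FiniteField.card F r
      have hn0 : n ≠ 0 := fun h => by
        have h2 : 1 < Fintype.card F := Fintype.one_lt_card
        rw [hF, h, pow_zero] at h2; omega
      have e : r = p := by
        have h1 : r ∣ p ^ n := by rw [← hF, hm]; exact dvd_pow_self r m.ne_zero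
        exact (Nat.prime_dvd_prime_iff_eq hrp Fact.out).1 (hrp.dvd_of_dvd_pow h1)
      rwa [e] at hr
    obtain ⟨c⟩ := exists_coord hnat hf S
    subst hT
    set T := (S : Subgroup ↥L).map L.subtype with hT
    set C := V ⊓ Subgroup.centralizer (T : Set G) with hC
    -- the torus
    have htor : ∀ r : F, r ≠ 0 → ∃ l : L, (l : G) ∈ L ⊓ Subgroup.normalizer (T : Set G) ∧
        (c.ρ l : Matrix (Fin 2) (Fin 2) F) = !![r, 0; 0, r⁻¹] := by
      intro r hr
      obtain ⟨l, hl⟩ := c.surj ⟨!![r, 0; 0, r⁻¹], by simp [det_fin_two, hr]⟩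
      have hl' : (c.ρ l : Matrix (Fin 2) (Fin 2) F) = !![r, 0; 0, r⁻¹] := by rw [hl]
      refine ⟨l, ⟨l.2, CfsgLib.Solv.mem_normalizer_of_conj_smul_eq
        (Subgroup.eq_of_le_of_card_ge ?_ (le_of_eq (CfsgLib.Solv.card_conj_smul _ _).symm))⟩, hl'⟩
      rintro _ ⟨t, ht, rfl⟩
      have hm := (c.mem_iff ⟨t, c.le ht⟩).1 ht
      refine (c.mem_iff (l * ⟨t, c.le ht⟩ * l⁻¹)).2 ?_
      obtain ⟨b, ht'⟩ : ∃ b, (c.ρ ⟨t, c.le ht⟩ : Matrix (Fin 2) (Fin 2) F) = !![1, b; 0, 1] :=
        ⟨_, c.mat_of_mem (l := ⟨t, c.le ht⟩) ht⟩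
      simp [map_mul, map_inv, Matrix.SpecialLinearGroup.coe_inv, hl', adjugate_fin_two, ht', Matrix.mul_fin_two, hr]
    -- invariant subgroups
    have horbit : ∀ (U : Subgroup G), L ⊓ Subgroup.normalizer (T : Set G) ≤ Subgroup.normalizer (U : Set G) →
        ∀ (u : V), (u : G) ∈ U → ∀ r : F, r ≠ 0 → ∃ w : V, (w : G) ∈ U ∧ c.co w = ![r * c.co u 0, r⁻¹ * c.co u 1] := by
      intro U hU u hu r hr
      obtain ⟨l, hlN, hl⟩ := htor r hr
      obtain ⟨w, hw, -⟩ := c.act l u
      refine ⟨w, hw ▸ (Subgroup.mem_normalizer_iff.1 (hU hlN) u).1 hu, ?_⟩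
      rw [c.co_conj l u w hw, hl]
      ext i; fin_cases i <;> simp [Matrix.mulVec, dotProduct, Fin.sum_univ_two]
    refine ⟨fun g hg hgT => ?_, fun x hx hx1 hxp => ?_, fun U hUC hU => ?_, fun U hCU hUV hU => ?_⟩
    · set M := (c.ρ ⟨g, hg⟩ : Matrix (Fin 2) (Fin 2) F) with hM
      have hdet : M 0 0 * M 1 1 - M 0 1 * M 1 0 = 1 := by rw [← det_fin_two]; exact (c.ρ ⟨g, hg⟩).2
      have h10 : M 1 0 ≠ 0 := by
        intro h0
        refine hgT (CfsgLib.Solv.mem_normalizer_of_conj_smul_eq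
          (Subgroup.eq_of_le_of_card_ge ?_ (le_of_eq (CfsgLib.Solv.card_conj_smul _ _).symm)))
        rintro _ ⟨t, ht, rfl⟩
        have hm := (c.mem_iff ⟨t, c.le ht⟩).1 ht
        refine (c.mem_iff (⟨g, hg⟩ * ⟨t, c.le ht⟩ * ⟨g, hg⟩⁻¹)).2 ?_
        obtain ⟨b, ht'⟩ : ∃ b, (c.ρ ⟨t, c.le ht⟩ : Matrix (Fin 2) (Fin 2) F) = !![1, b; 0, 1] :=
        ⟨_, c.mat_of_mem (l := ⟨t, c.le ht⟩) ht⟩
        have hM' : M = !![M 0 0, M 0 1; 0, M 1 1] := by
          ext i j; fin_cases i <;> fin_cases j <;> simp [h0]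
        have hd : M 0 0 * M 1 1 = 1 := by rw [h0, mul_zero, sub_zero] at hdet; exact hdet
        have hd' : M 1 1 * M 0 0 = 1 := by rw [mul_comm]; exact hd
        simp only [map_mul, map_inv, Matrix.SpecialLinearGroup.coe_mul, Matrix.SpecialLinearGroup.coe_inv, ← hM]
        rw [ht', hM']
        simp [adjugate_fin_two, Matrix.mul_fin_two, hd, hd']
      set C' := V ⊓ Subgroup.centralizer ((T.map (MulAut.conj g).toMonoidHom : Subgroup G) : Set G) with hC'
      have hgV := c.norm hg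
      have hmem' : ∀ v : G, v ∈ C' ↔ g⁻¹ * v * g ∈ C := by
        intro v
        simp only [hC', hC, Subgroup.mem_inf, Subgroup.mem_centralizer_iff, SetLike.mem_coe]
        refine and_congr ?_ ⟨fun h t ht => ?_, fun h t ht => ?_⟩
        · have := Subgroup.mem_normalizer_iff.1 (inv_mem hgV) v
          simpa using this
        · have := h (g * t * g⁻¹) (Subgroup.mem_map_of_mem _ ht)
          calc t * (g⁻¹ * v * g) = g⁻¹ * (g * t * g⁻¹ * v) * g := by group
            _ = g⁻¹ * (v * (g * t * g⁻¹)) * g := by rw [this]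
            _ = g⁻¹ * v * g * t := by group
        · obtain ⟨t, ht, rfl⟩ := ht
          have := h t ht
          show g * t * g⁻¹ * v = v * (g * t * g⁻¹)
          calc g * t * g⁻¹ * v = g * (t * (g⁻¹ * v * g)) * g⁻¹ := by group
            _ = g * (g⁻¹ * v * g * t) * g⁻¹ := by rw [this]
            _ = v * (g * t * g⁻¹) := by group
      refine ⟨inf_le_left, inf_le_left, fun a ha b hb => congrArg Subtype.val
        (c.co_injective (a₁ := (⟨a, ha.1⟩ : V) * ⟨b, hb.1⟩) (a₂ := ⟨b, hb.1⟩ * ⟨a, ha.1⟩)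
          (by rw [c.co_mul, c.co_mul, add_comm])), ?_, ?_⟩
      · rw [eq_bot_iff]
        rintro v ⟨⟨hvV, hv⟩, hv'⟩
        obtain ⟨huV, hu⟩ := (hmem' v).1 hv'
        set u : V := ⟨g⁻¹ * v * g, huV⟩ with hudef
        have h1 := c.co_conj ⟨g, hg⟩ u ⟨v, hvV⟩ (by show v = g * (g⁻¹ * v * g) * g⁻¹; group)
        rw [c.co_eq_of u ((c.mem_cent_iff u).1 hu), ← hM] at h1
        have h2 := congrFun h1 1
        rw [(c.mem_cent_iff ⟨v, hvV⟩).1 hv] at h2
        simp [Matrix.mulVec, dotProduct, Fin.sum_univ_two, h10] at h2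
        have h3 : c.co u = 0 := by
          rw [c.co_eq_of u ((c.mem_cent_iff u).1 hu), h2]
          ext i; fin_cases i <;> simp
        have h4 : (⟨v, hvV⟩ : V) = 1 := c.co_injective (by
          rw [c.co_one, h1, h2]
          ext i; fin_cases i <;> simp [Matrix.mulVec, dotProduct, Fin.sum_univ_two])
        exact congrArg Subtype.val h4
      · refine le_antisymm (sup_le inf_le_left inf_le_left) fun v hv => ?_
        obtain ⟨u, hu⟩ := c.co_surjective ![c.co ⟨v, hv⟩ 1 / M 1 0, 0]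
        obtain ⟨w, hw, -⟩ := c.act ⟨g, hg⟩ u
        have hwC : (w : G) ∈ C' := by
          rw [hmem', hw]
          have e : g⁻¹ * ((g : G) * u * g⁻¹) * g = u := by group
          rw [show ((⟨g, hg⟩ : L) : G) = g from rfl, e]
          exact ⟨u.2, (c.mem_cent_iff u).2 (by rw [hu]; simp)⟩
        have hrest : v * (w : G)⁻¹ ∈ C := by
          refine Subgroup.mem_inf.2 ⟨mul_mem hv (inv_mem w.2), (c.mem_cent_iff (⟨v, hv⟩ * w⁻¹)).2 ?_⟩
          rw [c.co_mul, c.co_inv, c.co_conj _ u w hw, hu, ← hM]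
          simp [Matrix.mulVec, dotProduct, Fin.sum_univ_two, mul_div_cancel₀ _ h10]
        have := Subgroup.mul_mem_sup hrest hwC
        rwa [inv_mul_cancel_right] at this
    · rw [eq_bot_iff]
      rintro v ⟨hvV, hvx⟩
      by_contra hv1
      set M := (c.ρ ⟨x, hx⟩ : Matrix (Fin 2) (Fin 2) F) with hM
      have hfix := (c.comm_iff ⟨x, hx⟩ ⟨v, hvV⟩).1 (Subgroup.mem_centralizer_singleton_iff.1 hvx).symm
      have hne : c.co ⟨v, hvV⟩ ≠ 0 := fun h => hv1 (by
        rw [← c.co_one] at h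
        exact congrArg Subtype.val (c.co_injective h))
      have hdet : (M - 1).det = 0 := by
        refine Matrix.exists_mulVec_eq_zero_iff.1 ⟨_, hne, ?_⟩
        rw [sub_mulVec, one_mulVec, ← hM] at *
        rw [hfix, sub_self]
      have hd1 : M 0 0 * M 1 1 - M 0 1 * M 1 0 = 1 := by rw [← det_fin_two]; exact (c.ρ ⟨x, hx⟩).2
      rw [det_fin_two] at hdet
      simp only [Matrix.sub_apply, Matrix.one_apply_eq, Matrix.one_apply_ne (show (0 : Fin 2) ≠ 1 by decide),
        Matrix.one_apply_ne (show (1 : Fin 2) ≠ 0 by decide), sub_zero] at hdet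
      have hsq : (M - 1) ^ 2 = 0 := by
        rw [pow_two]
        ext i j
        fin_cases i <;> fin_cases j <;> simp [Matrix.mul_apply, Fin.sum_univ_two]
        · linear_combination (M 0 0 - 1) * hd1 - M 0 0 * hdet
        · linear_combination M 0 1 * hd1 - M 0 1 * hdet
        · linear_combination M 1 0 * hd1 - M 1 0 * hdet
        · linear_combination (M 1 1 - 1) * hd1 - M 1 1 * hdet
      have hMp : M ^ p = 1 := by
        have h := sub_pow_char_of_commute (x := M) (y := (1 : Matrix (Fin 2) (Fin 2) F)) (p := p) (Commute.one_right M)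
        obtain ⟨k, hk⟩ := Nat.exists_eq_add_of_le (Fact.out : p.Prime).two_le
        rw [one_pow, hk, pow_add, hsq, zero_mul, ← hk, eq_comm, sub_eq_zero] at h
        exact h
      have hxpow : x ^ p = 1 := by
        have : (⟨x, hx⟩ : L) ^ p = 1 := c.inj (by
          rw [map_pow, map_one]
          exact Subtype.ext ((Matrix.SpecialLinearGroup.coe_pow (c.ρ ⟨x, hx⟩) p).trans hMp))
        simpa using congrArg Subtype.val this
      exact hx1 (orderOf_eq_one_iff.1 (Nat.Coprime.eq_one_of_dvd hxp (orderOf_dvd_of_pow_eq_one hxpow)))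
    · by_cases hUb : U = ⊥
      · exact Or.inl hUb
      refine Or.inr (le_antisymm hUC fun x hx => ?_)
      obtain ⟨u, hu, hu1⟩ := (Subgroup.bot_or_exists_ne_one U).resolve_left hUb
      obtain ⟨huV, huT⟩ := hUC hu
      have h0 : c.co ⟨u, huV⟩ 0 ≠ 0 := fun h => hu1 (congrArg Subtype.val (c.co_injective (a₁ := (⟨u, huV⟩ : V)) (a₂ := 1) (by
        rw [c.co_one, c.co_eq_of _ ((c.mem_cent_iff _).1 huT), h]
        ext i; fin_cases i <;> simp)))
      by_cases hx0 : c.co ⟨x, hx.1⟩ 0 = 0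
      · have : (⟨x, hx.1⟩ : V) = 1 := c.co_injective (by
          rw [c.co_one, c.co_eq_of _ ((c.mem_cent_iff _).1 hx.2), hx0]
          ext i; fin_cases i <;> simp)
        rw [show x = 1 from congrArg Subtype.val this]
        exact one_mem U
      obtain ⟨w, hw, hco⟩ := horbit U hU ⟨u, huV⟩ hu (c.co ⟨x, hx.1⟩ 0 / c.co ⟨u, huV⟩ 0) (div_ne_zero hx0 h0)
      have : (⟨x, hx.1⟩ : V) = w := c.co_injective (by
        rw [hco, c.co_eq_of _ ((c.mem_cent_iff _).1 hx.2), (c.mem_cent_iff ⟨u, huV⟩).1 huT]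
        simp [div_mul_cancel₀ _ h0])
      rw [show x = (w : G) from congrArg Subtype.val this]
      exact hw
    · by_cases hUc : U ≤ C
      · exact Or.inl (le_antisymm hUc hCU)
      refine Or.inr (le_antisymm hUV fun x hx => ?_)
      obtain ⟨u, hu, hu1⟩ := SetLike.not_le_iff_exists.1 hUc
      have h1 : c.co ⟨u, hUV hu⟩ 1 ≠ 0 := fun h => hu1 ⟨hUV hu, (c.mem_cent_iff _).2 h⟩
      by_cases hx1 : c.co ⟨x, hx⟩ 1 = 0
      · exact hCU ⟨hx, (c.mem_cent_iff _).2 hx1⟩
      obtain ⟨w, hw, hco⟩ := horbit U hU ⟨u, hUV hu⟩ hu (c.co ⟨u, hUV hu⟩ 1 / c.co ⟨x, hx⟩ 1) (div_ne_zero h1 hx1)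
      have hrest : x * (w : G)⁻¹ ∈ C := by
        refine Subgroup.mem_inf.2 ⟨mul_mem hx (inv_mem w.2), (c.mem_cent_iff (⟨x, hx⟩ * w⁻¹)).2 ?_⟩
        rw [c.co_mul, c.co_inv, hco]
        simp [inv_div, div_mul_cancel₀ _ h1]
      have := mul_mem (hCU hrest) hw
      rwa [inv_mul_cancel_right] at this)

end Cfsg.Agent.S2780
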