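import Cfsg.Statements.S2781
import Cfsg.Agent.Solv.Basic
import Cfsg.Agent.Inv.CharP2

set_option autoImplicit false
open Cfsg

namespace Cfsg.Agent.S2781

/-- Let H act faithfully by conjugation on the elementary abelian p-subgroup V of a finite group, let O^p(H) be the subgroup of H generated by its elements of order prime to p, and T a Sylow p-subgroup of O^p(H). If V is generated by the H-conjugates of C_V(T) (V is the smallest H-invariant subgroup containing C_V(T)), then V = [V, O^p(H)]·C_V(O^p(H)). -/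
theorem result {G : Type*} [Group G] [Finite G] {p : ℕ} [Fact p.Prime] (V H : Subgroup G) (hV : Cfsg.IsElementaryAbelian p V) (hHV : H ≤ Subgroup.normalizer (V : Set G)) (hf : H ⊓ Subgroup.centralizer (V : Set G) = ⊥) (R : Subgroup G) (hR : R = (Cfsg.pResidual p ↥H).map H.subtype) (S : Sylow p ↥R) (T : Subgroup G) (hT : T = ((S : Subgroup ↥R).map R.subtype)) (hgen : ∀ W : Subgroup G, H ≤ Subgroup.normalizer (W : Set G) → (V ⊓ Subgroup.centralizer ((T : Subgroup G) : Set G)) ≤ W → V ≤ W) : ⁅V, R⁆ ⊔ (V ⊓ Subgroup.centralizer ((R : Subgroup G) : Set G)) = V := by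
  classical
  have hp := (Fact.out : p.Prime)
  haveI := hV.1
  letI : CommGroup ↥V := { (inferInstance : Group ↥V) with mul_comm := hV.1.is_comm.comm }
  have hRH : R ≤ H := hR ▸ Subgroup.map_subtype_le _
  have hRV : R ≤ Subgroup.normalizer (V : Set G) := hRH.trans hHV
  set C := V ⊓ Subgroup.centralizer (R : Set G) with hC
  set W := ⁅V, R⁆ ⊔ C with hW
  have hWV : W ≤ V := sup_le
    (Subgroup.commutator_le.2 fun v hv r hr => by
      rw [commutatorElement_def, show v * r * v⁻¹ * r⁻¹ = v * (r * v⁻¹ * r⁻¹) by group]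
      exact mul_mem hv ((Subgroup.mem_normalizer_iff.1 (hRV hr) _).1 (inv_mem hv))) inf_le_left
  refine le_antisymm hWV (hgen W ?_ ?_)
  · -- `W` is invariant under `H`
    have hHR : ∀ h ∈ H, ∀ r ∈ R, h * r * h⁻¹ ∈ R := by
      intro h hh r hr
      rw [hR] at hr ⊢
      obtain ⟨r', hr', rfl⟩ := hr
      exact ⟨⟨h, hh⟩ * r' * (⟨h, hh⟩ : ↥H)⁻¹, (CfsgLib.Inv.pResidual_normal p ↥H).conj_mem _ hr' _, rfl⟩
    refine CfsgLib.Solv.le_normalizer_iff_forall_conj_mem.2 fun h hh w hw => ?_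
    have hmap : W.map (MulAut.conj h).toMonoidHom ≤ W := by
      rw [hW, Subgroup.map_sup, Subgroup.map_commutator]
      refine sup_le_sup (Subgroup.commutator_mono ?_ ?_) ?_
      · rintro _ ⟨v, hv, rfl⟩; exact (Subgroup.mem_normalizer_iff.1 (hHV hh) v).1 hv
      · rintro _ ⟨r, hr, rfl⟩; exact hHR h hh r hr
      · rintro _ ⟨c, hc, rfl⟩
        refine Subgroup.mem_inf.2 ⟨(Subgroup.mem_normalizer_iff.1 (hHV hh) c).1 hc.1, ?_⟩
        rw [Subgroup.mem_centralizer_iff]
        intro r hr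
        show r * (h * c * h⁻¹) = h * c * h⁻¹ * r
        have hr' : h⁻¹ * r * h ∈ R := by simpa using hHR h⁻¹ (inv_mem hh) r hr
        have e := Subgroup.mem_centralizer_iff.1 hc.2 _ hr'
        calc r * (h * c * h⁻¹) = h * (h⁻¹ * r * h * c) * h⁻¹ := by group
          _ = h * (c * (h⁻¹ * r * h)) * h⁻¹ := by rw [e]
          _ = h * c * h⁻¹ * r := by group
    exact hmap (Subgroup.mem_map_of_mem _ hw)
  -- the transfer argument
  rintro v ⟨hvV, hvT⟩
  haveI := Fintype.ofFinite (↥R ⧸ (S : Subgroup ↥R))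
  have hcj : ∀ (r : ↥R) (u : ↥V), (r : G) * u * (r : G)⁻¹ ∈ V := fun r u =>
    (Subgroup.mem_normalizer_iff.1 (hRV r.2) u).1 u.2
  let φ : ↥R → (↥V →* ↥V) := fun r =>
    { toFun := fun u => ⟨(r : G) * u * (r : G)⁻¹, hcj r u⟩
      map_one' := Subtype.ext (by simp)
      map_mul' := fun a b => Subtype.ext (by
        show (r : G) * ((a : G) * b) * (r : G)⁻¹ = (r : G) * a * (r : G)⁻¹ * ((r : G) * b * (r : G)⁻¹)
        group) }
  set v' : ↥V := ⟨v, hvV⟩ with hv'
  let f : ↥R ⧸ (S : Subgroup ↥R) → ↥V := fun q => Quotient.liftOn' q (fun r => φ r v') (by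
    intro a b hab
    rw [QuotientGroup.leftRel_apply] at hab
    refine Subtype.ext ?_
    show (a : G) * v * (a : G)⁻¹ = (b : G) * v * (b : G)⁻¹
    have hs : ((a⁻¹ * b : ↥R) : G) ∈ T := hT ▸ Subgroup.mem_map_of_mem _ hab
    have e : ((a⁻¹ * b : ↥R) : G) * v = v * ((a⁻¹ * b : ↥R) : G) := Subgroup.mem_centralizer_iff.1 hvT _ hs
    have eb : (b : G) = a * ((a⁻¹ * b : ↥R) : G) := by simp
    rw [eb, mul_inv_rev, mul_assoc (a : G) ((a⁻¹ * b : ↥R) : G) v, e]
    group)
  have hfix : ∀ r : ↥R, φ r (∏ q, f q) = ∏ q, f q := by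
    intro r
    rw [map_prod]
    refine Fintype.prod_equiv (MulAction.toPerm r) _ _ fun q => ?_
    induction q using QuotientGroup.induction_on with
    | _ a =>
      refine Subtype.ext ?_
      show (r : G) * ((a : G) * v * (a : G)⁻¹) * (r : G)⁻¹ = ((r * a : ↥R) : G) * v * ((r * a : ↥R) : G)⁻¹
      rw [Subgroup.coe_mul]; group
  have hprodC : ((∏ q, f q : ↥V) : G) ∈ C := by
    refine Subgroup.mem_inf.2 ⟨SetLike.coe_mem _, ?_⟩
    rw [Subgroup.mem_centralizer_iff]
    intro r hr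
    exact mul_inv_eq_iff_eq_mul.1 (congrArg Subtype.val (hfix ⟨r, hr⟩))
  set D := W.subgroupOf V with hD
  have hdiff : ∀ q, f q * v'⁻¹ ∈ D := by
    intro q
    induction q using QuotientGroup.induction_on with
    | _ a =>
      show (a : G) * v * (a : G)⁻¹ * v⁻¹ ∈ W
      refine Subgroup.mem_sup_left ?_
      rw [Subgroup.commutator_comm]
      exact Subgroup.commutator_mem_commutator a.2 hvV
  set N := Fintype.card (↥R ⧸ (S : Subgroup ↥R)) with hN
  have hpow : v' ^ N ∈ D := by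
    have h1 : ∏ q, (f q * v'⁻¹) ∈ D := prod_mem fun q _ => hdiff q
    rw [Finset.prod_mul_distrib, Finset.prod_const, Finset.card_univ, ← hN, inv_pow] at h1
    have h2 : (∏ q, f q) ∈ D := show ((∏ q, f q : ↥V) : G) ∈ W from Subgroup.mem_sup_right hprodC
    have := mul_mem (inv_mem h1) h2
    simpa [mul_assoc] using this
  have hcop : N.Coprime p := by
    rw [hN, ← Nat.card_eq_fintype_card, ← Subgroup.index_eq_card]
    exact (hp.coprime_iff_not_dvd.2 S.not_dvd_index).symm
  have hvp : v' ^ p = 1 := Subtype.ext (by rw [SubmonoidClass.coe_pow]; exact hV.2 v hvV)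
  obtain ⟨m, -, hm⟩ := Nat.exists_mul_mod_eq_one_of_coprime hcop hp.one_lt
  have : v' ∈ D := by
    have e : v' = (v' ^ N) ^ m := by
      rw [← pow_mul, ← Nat.mod_add_div (N * m) p, hm, pow_add, pow_mul, hvp, one_pow, mul_one, pow_one]
    rw [e]; exact pow_mem hpow m
  exact this

end Cfsg.Agent.S2781
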