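import Cfsg.Statements.S2787
import Cfsg.Agent.Solv.ActionPStable
import Cfsg.Agent.S0201
import Cfsg.Agent.S1069
import Cfsg.Agent.S1073
import Mathlib.GroupTheory.SemidirectProduct
import Mathlib.LinearAlgebra.Matrix.SpecialLinearGroup

set_option autoImplicit false
set_option linter.style.haveILetI false
open Cfsg
open scoped commutatorElement
open CfsgLib.Glau (IsSec)
open Matrix (SpecialLinearGroup ProjectiveSpecialLinearGroup)

namespace Cfsg.Agent.S2787

theorem quat_sq {n : ℕ} [NeZero n] {x : QuaternionGroup n} (hx : x * x = 1) :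
    ∃ i : ZMod (2 * n), x = QuaternionGroup.a i ∧ 2 * i = 0 := by
  rw [← QuaternionGroup.a_zero] at hx
  cases x with
  | a i =>
    refine ⟨i, rfl, ?_⟩
    rw [QuaternionGroup.a_mul_a, QuaternionGroup.a.injEq] at hx
    linear_combination hx
  | xa i =>
    exfalso
    rw [QuaternionGroup.xa_mul_xa, QuaternionGroup.a.injEq, add_sub_cancel_right,
      ZMod.natCast_eq_zero_iff] at hx
    have := Nat.le_of_dvd (Nat.pos_of_neZero n) hx
    have := Nat.pos_of_neZero n
    omega

theorem quat_central {n : ℕ} [NeZero n] {x : QuaternionGroup n} (hx : x * x = 1) (y : QuaternionGroup n) :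
    x * y = y * x := by
  obtain ⟨i, rfl, hi⟩ := quat_sq hx
  cases y with
  | a j => rw [QuaternionGroup.a_mul_a, QuaternionGroup.a_mul_a, add_comm]
  | xa j =>
    rw [QuaternionGroup.a_mul_xa, QuaternionGroup.xa_mul_a, QuaternionGroup.xa.injEq]
    linear_combination -hi

theorem quat_noncomm {k : ℕ} (hk : 1 ≤ k)
    (h : ∀ x y : QuaternionGroup (2 ^ k), x * y = y * x) : False := by
  have e := h (QuaternionGroup.a 1) (QuaternionGroup.xa 0)
  rw [QuaternionGroup.a_mul_xa, QuaternionGroup.xa_mul_a, QuaternionGroup.xa.injEq] at e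
  have h' : ((2 : ℕ) : ZMod (2 * 2 ^ k)) = 0 := by push_cast; linear_combination -e
  have h4 := Nat.le_of_dvd (by norm_num) ((ZMod.natCast_eq_zero_iff _ _).1 h')
  have : 2 ≤ 2 ^ k := Nat.le_self_pow (by omega) 2
  omega

theorem sl_sq {F : Type*} [Field F] (h2 : (2 : F) ≠ 0) {g : SpecialLinearGroup (Fin 2) F} (hg : g * g = 1) :
    g ∈ Subgroup.center (SpecialLinearGroup (Fin 2) F) := by
  have hi : g = g⁻¹ := eq_inv_of_mul_eq_one_left hg
  have hc : (g : Matrix (Fin 2) (Fin 2) F) = Matrix.adjugate (g : Matrix (Fin 2) (Fin 2) F) := by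
    conv_lhs => rw [hi]
    exact Matrix.SpecialLinearGroup.coe_inv g
  rw [Matrix.adjugate_fin_two] at hc
  have h00 := congrFun (congrFun hc 0) 0
  have h01 := congrFun (congrFun hc 0) 1
  have h10 := congrFun (congrFun hc 1) 0
  simp at h00 h01 h10
  have e01 : (g : Matrix (Fin 2) (Fin 2) F) 0 1 = 0 := by
    have : (2 : F) * (g : Matrix (Fin 2) (Fin 2) F) 0 1 = 0 := by linear_combination h01
    simpa [h2] using this
  have e10 : (g : Matrix (Fin 2) (Fin 2) F) 1 0 = 0 := by
    have : (2 : F) * (g : Matrix (Fin 2) (Fin 2) F) 1 0 = 0 := by linear_combination h10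
    simpa [h2] using this
  refine Subgroup.mem_center_iff.2 fun z => Subtype.ext ?_
  rw [Matrix.SpecialLinearGroup.coe_mul, Matrix.SpecialLinearGroup.coe_mul]
  ext i j
  fin_cases i <;> fin_cases j <;> simp [Matrix.mul_apply, Fin.sum_univ_two, e01, e10, h00] <;> ring

theorem no_sec_psl {p : ℕ} [Fact p.Prime] (hp2 : p ≠ 2) {F : Type*} [Field F] [Fintype F]
    (hodd : Odd (Fintype.card F)) :
    ¬ IsSec (ProjectiveSpecialLinearGroup (Fin 2) F) (SpecialLinearGroup (Fin 2) (ZMod p)) := by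
  classical
  rintro ⟨K, f, hf⟩
  haveI : Fact (Nat.Prime 2) := ⟨Nat.prime_two⟩
  have h2 : (2 : F) ≠ 0 := by
    intro h
    haveI : CharP F 2 := CharTwo.of_one_ne_zero_of_two_eq_zero one_ne_zero h
    obtain ⟨n, -, hn⟩ := FiniteField.card F 2
    rw [hn] at hodd
    exact (Nat.not_odd_iff_even.2 (Nat.even_pow.2 ⟨even_two, n.2.ne'⟩)) hodd
  let R : Sylow 2 K := default
  obtain ⟨k, hk, ⟨e⟩⟩ := CfsgLib.Lie.SL2Sylow.sylow_quaternion (F := ZMod p)
    (by rw [ZMod.card]; exact Nat.odd_iff.1 ((Fact.out : p.Prime).odd_of_ne_two hp2)) (R.mapSurjective hf)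
  set Z := Subgroup.center (SpecialLinearGroup (Fin 2) F) with hZ
  set π := QuotientGroup.mk' Z with hπ
  have hZ2 : IsPGroup 2 Z := by
    rintro ⟨z, hz⟩
    refine ⟨1, Subtype.ext ?_⟩
    have hd : (z : Matrix (Fin 2) (Fin 2) F).det = 1 := z.2
    obtain ⟨r, hr, hzr⟩ := Matrix.SpecialLinearGroup.mem_center_iff.1 hz
    show z ^ (2 ^ 1) = 1
    refine Subtype.ext ?_
    rw [pow_one, Matrix.SpecialLinearGroup.coe_pow, ← hzr, ← map_pow]
    rw [Fintype.card_fin] at hr
    rw [hr, map_one]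
    rfl
  have hRp : IsPGroup 2 ((R : Subgroup ↥K).map K.subtype) := R.2.map _
  have hpre : IsPGroup 2 (((R : Subgroup ↥K).map K.subtype).comap π) :=
    hRp.comap_of_ker_isPGroup π (by rw [hπ, QuotientGroup.ker_mk']; exact hZ2)
  obtain ⟨P, hP⟩ := hpre.exists_le_sylow
  obtain ⟨j, hj, ⟨eP⟩⟩ := CfsgLib.Lie.SL2Sylow.sylow_quaternion (F := F) (Nat.odd_iff.1 hodd) P
  -- every element of the image of `P` is cyclic part or an involution
  set c : ProjectiveSpecialLinearGroup (Fin 2) F :=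
    π (eP.symm (QuaternionGroup.a 1)).val with hc
  have hcase : ∀ r ∈ (R : Subgroup ↥K).map K.subtype, r ∈ Subgroup.zpowers c ∨ r * r = 1 := by
    intro r hr
    obtain ⟨y, rfl⟩ := QuotientGroup.mk'_surjective Z r
    have hy : y ∈ (P : Subgroup (SpecialLinearGroup (Fin 2) F)) := hP (Subgroup.mem_comap.2 hr)
    cases hq : eP ⟨y, hy⟩ with
    | a i =>
      refine Or.inl ⟨(i.val : ℤ), ?_⟩
      have e1 : (eP.symm (QuaternionGroup.a 1)) ^ i.val = ⟨y, hy⟩ := by
        rw [← map_pow, QuaternionGroup.a_one_pow, ZMod.natCast_zmod_val, ← hq, MulEquiv.symm_apply_apply]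
      show c ^ (i.val : ℤ) = _
      rw [zpow_natCast, hc, ← map_pow, ← SubgroupClass.coe_pow, e1]
    | xa i =>
      refine Or.inr ?_
      have e2 : (⟨y, hy⟩ * ⟨y, hy⟩) * (⟨y, hy⟩ * ⟨y, hy⟩) = (1 : ↥(P : Subgroup (SpecialLinearGroup (Fin 2) F))) := by
        refine eP.injective ?_
        rw [map_mul, map_mul, hq, map_one, QuaternionGroup.xa_mul_xa, QuaternionGroup.a_mul_a,
          ← QuaternionGroup.a_zero, QuaternionGroup.a.injEq]
        rw [add_sub_cancel_right, ← Nat.cast_add, ← two_mul]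
        exact ZMod.natCast_self _
      have e3 := congrArg Subtype.val e2
      simp only [Subgroup.coe_mul, Subgroup.coe_one] at e3
      rw [← map_mul]
      exact (QuotientGroup.eq_one_iff _).2 (sl_sq h2 e3)
  haveI : NeZero (2 ^ k) := ⟨pow_ne_zero _ (by norm_num)⟩
  refine quat_noncomm hk fun x y => ?_
  have hsurj : ∀ x, ∃ r : ↥K, r ∈ (R : Subgroup ↥K) ∧ ∃ h, e ⟨f r, h⟩ = x := by
    intro x
    obtain ⟨r, hr, hre⟩ : (e.symm x).val ∈ (R : Subgroup ↥K).map f :=
      (SetLike.ext_iff.1 (Sylow.coe_mapSurjective hf R) _).1 (e.symm x).2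
    have hmem : f r ∈ ((R.mapSurjective hf : Sylow 2 _) : Subgroup (SpecialLinearGroup (Fin 2) (ZMod p))) := hre ▸ (e.symm x).2
    exact ⟨r, hr, hmem, by
      rw [show (⟨f r, hmem⟩ : ↥((R.mapSurjective hf : Sylow 2 _) : Subgroup (SpecialLinearGroup (Fin 2) (ZMod p)))) = e.symm x from Subtype.ext hre,
        MulEquiv.apply_symm_apply]⟩
  obtain ⟨r, hr, hrh, rfl⟩ := hsurj x
  obtain ⟨s, hs, hsh, rfl⟩ := hsurj y
  have hinv : ∀ (r : ↥K) (h : f r ∈ _), (r : ProjectiveSpecialLinearGroup (Fin 2) F) * r = 1 →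
      e ⟨f r, h⟩ * e ⟨f r, h⟩ = 1 := by
    intro r h hrr
    rw [← map_mul, ← map_one e]
    congr 1
    refine Subtype.ext ?_
    show f r * f r = 1
    rw [← map_mul, show r * r = 1 from Subtype.ext hrr, map_one]
  rcases hcase _ (Subgroup.mem_map_of_mem _ hr) with h1 | h1
  · rcases hcase _ (Subgroup.mem_map_of_mem _ hs) with h2' | h2'
    · rw [← map_mul, ← map_mul]
      congr 1
      refine Subtype.ext ?_
      show f r * f s = f s * f r
      rw [← map_mul, ← map_mul]
      congr 1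
      refine Subtype.ext ?_
      obtain ⟨i, hi⟩ := h1
      obtain ⟨i', hi'⟩ := h2'
      show (r : ProjectiveSpecialLinearGroup (Fin 2) F) * s = s * r
      rw [show (r : ProjectiveSpecialLinearGroup (Fin 2) F) = c ^ i from hi.symm,
        show (s : ProjectiveSpecialLinearGroup (Fin 2) F) = c ^ i' from hi'.symm]
      exact ((Commute.refl c).zpow_zpow i i').eq
    · exact (quat_central (hinv s hsh h2') _).symm
  · exact quat_central (hinv r hrh h1) _

theorem no_sec_ree {p : ℕ} [Fact p.Prime] (hp2 : p ≠ 2) {Γ : Type*} [Group Γ] [Finite Γ]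
    (hΓ : Cfsg.Lie.IsoRee Γ) : ¬ IsSec Γ (SpecialLinearGroup (Fin 2) (ZMod p)) := by
  obtain ⟨K, hK1, hK2, m, hm, hK, ⟨φ⟩⟩ := hΓ
  rintro ⟨S, f, hf⟩
  haveI : Fact (Nat.Prime 2) := ⟨Nat.prime_two⟩
  let R : Sylow 2 S := default
  obtain ⟨k, hk, ⟨e⟩⟩ := CfsgLib.Lie.SL2Sylow.sylow_quaternion (F := ZMod p)
    (by rw [ZMod.card]; exact Nat.odd_iff.1 ((Fact.out : p.Prime).odd_of_ne_two hp2)) (R.mapSurjective hf)
  obtain ⟨hs, hna⟩ := S1073.result (K := K) hm hK
  set W := ↥(Cfsg.Lie.twistedG2 K (3 ^ m)) with hW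
  haveI : Finite W := Finite.of_equiv Γ φ.toEquiv
  haveI := hs
  obtain ⟨T, hT⟩ := ((R.2.map S.subtype).map φ.toMonoidHom).exists_le_sylow
  have hcardW : ∃ r, Nat.card W = 8 * r ∧ ¬ 2 ∣ r := by
    rw [S1069.result hK]
    set q := 3 ^ (2 * m + 1) with hq
    have h8 : q % 8 = 3 := by
      rw [hq, pow_succ, pow_mul, Nat.mul_mod, Nat.pow_mod]
      norm_num
    obtain ⟨a, ha⟩ : ∃ a, q = 8 * a + 3 := ⟨q / 8, by omega⟩
    refine ⟨q ^ 3 * (4 * a + 1) * (128 * a ^ 3 + 144 * a ^ 2 + 54 * a + 7), ?_, ?_⟩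
    · rw [ha, show 8 * a + 3 - 1 = 2 * (4 * a + 1) by omega]
      ring
    · intro h
      rcases (Nat.prime_two.dvd_mul).1 h with h | h
      · rcases (Nat.prime_two.dvd_mul).1 h with h | h
        · have := Nat.prime_two.dvd_of_dvd_pow h; omega
        · omega
      · rw [show 128 * a ^ 3 + 144 * a ^ 2 + 54 * a + 7 = 2 * (64 * a ^ 3 + 72 * a ^ 2 + 27 * a + 3) + 1 by ring] at h
        omega
  have hT8 : Nat.card ↥(T : Subgroup W) = 8 := by
    obtain ⟨r, hr, hr2⟩ := hcardW
    rw [T.card_eq_multiplicity, hr, Nat.factorization_mul (by norm_num) (by rintro rfl; exact hr2 (dvd_zero 2)),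
      Finsupp.add_apply, Nat.factorization_eq_zero_of_not_dvd hr2, show (8 : ℕ) = 2 ^ 3 by norm_num,
      Nat.prime_two.factorization_pow, Finsupp.single_eq_same]
  set M := ((R : Subgroup ↥S).map S.subtype).map φ.toMonoidHom with hM
  have hcM : Nat.card ↥M = Nat.card ↥(R : Subgroup ↥S) := by
    rw [hM, Subgroup.card_map_of_injective φ.injective, Subgroup.card_map_of_injective S.subtype_injective]
  have hQ : Nat.card ↥((R.mapSurjective hf : Sylow 2 _) : Subgroup (SpecialLinearGroup (Fin 2) (ZMod p))) =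
      4 * 2 ^ k := by
    haveI : NeZero (2 ^ k) := ⟨pow_ne_zero _ (by norm_num)⟩
    rw [Nat.card_congr e.toEquiv, Nat.card_eq_fintype_card, QuaternionGroup.card]
  let g : ↥(R : Subgroup ↥S) →* ↥((R.mapSurjective hf : Sylow 2 _) : Subgroup (SpecialLinearGroup (Fin 2) (ZMod p))) :=
    (f.comp (R : Subgroup ↥S).subtype).codRestrict _ fun r => by
      rw [Sylow.coe_mapSurjective]; exact Subgroup.mem_map_of_mem f r.2
  have hg : Function.Surjective g := by
    rintro ⟨y, hy⟩
    rw [Sylow.coe_mapSurjective] at hy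
    obtain ⟨r, hr, rfl⟩ := hy
    exact ⟨⟨r, hr⟩, rfl⟩
  have h1 : 4 * 2 ^ k ≤ Nat.card ↥(R : Subgroup ↥S) := hQ ▸ Nat.card_le_card_of_surjective g hg
  have h2 : Nat.card ↥M ≤ 8 := hT8 ▸ Nat.le_of_dvd Nat.card_pos (Subgroup.card_dvd_of_le hT)
  have hk1 : k = 1 := by
    by_contra h
    have : 4 ≤ 2 ^ k := (show 4 = 2 ^ 2 by norm_num) ▸ Nat.pow_le_pow_right (by norm_num) (by omega)
    omega
  subst hk1
  have hMT : M = (T : Subgroup W) := Subgroup.eq_of_le_of_card_ge hT (by omega)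
  have hgb : Function.Bijective g := (Nat.bijective_iff_surjective_and_card g).2 ⟨hg, by omega⟩
  let e1 : ↥(T : Subgroup W) ≃* ↥(R : Subgroup ↥S) := (MulEquiv.subgroupCongr hMT.symm).trans
    (((R : Subgroup ↥S).equivMapOfInjective _ S.subtype_injective).trans
      (((R : Subgroup ↥S).map S.subtype).equivMapOfInjective _ φ.injective)).symm
  have hb := S0201.result T 0 (e1.trans ((MulEquiv.ofBijective g hgb).trans e)) (fun N hN hodd => by
    rcases hN.eq_bot_or_eq_top with h | h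
    · exact h
    · exfalso
      rw [h, Subgroup.card_top] at hodd
      obtain ⟨r, hr, -⟩ := hcardW
      rw [hr] at hodd
      exact (Nat.not_odd_iff_even.2 (Nat.even_mul.2 (Or.inl ⟨4, rfl⟩))) hodd)
  rcases (inferInstance : (Subgroup.center W).Normal).eq_bot_or_eq_top with h | h
  · rw [h, Subgroup.card_bot] at hb; omega
  · exact hna ⟨⟨fun a b => Subgroup.mem_center_iff.1 (h ▸ Subgroup.mem_top b) a⟩⟩

theorem quad_trivial {G : Type*} [Group G] [Finite G] {p : ℕ} [hp : Fact p.Prime] (hp2 : p ≠ 2) (V H : Subgroup G)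
    (hV : Cfsg.IsElementaryAbelian p V) (hHV : H ≤ Subgroup.normalizer (V : Set G))
    (hirr : ∀ U : Subgroup G, U ≤ V → H ≤ Subgroup.normalizer (U : Set G) → U = ⊥ ∨ U = V)
    [hn : ((Subgroup.centralizer (V : Set G)).subgroupOf H).Normal]
    (hno : ¬ IsSec (↥H ⧸ (Subgroup.centralizer (V : Set G)).subgroupOf H) (SpecialLinearGroup (Fin 2) (ZMod p)))
    {a : G} (haH : a ∈ H) (haq : ∀ v ∈ V, ⁅a, ⁅a, v⁆⁆ = 1) : a ∈ Subgroup.centralizer (V : Set G) := by
  by_contra hac
  set C := (Subgroup.centralizer (V : Set G)).subgroupOf H with hC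
  let act : ↥H →* MulAut ↥V :=
    { toFun := fun h =>
        { toFun := fun v => ⟨(h : G) * v * (h : G)⁻¹, (Subgroup.mem_normalizer_iff.1 (hHV h.2) v).1 v.2⟩
          invFun := fun v => ⟨(h : G)⁻¹ * v * (h : G), by
            simpa using (Subgroup.mem_normalizer_iff.1 (hHV (inv_mem h.2)) v).1 v.2⟩
          left_inv := fun v => Subtype.ext (by simp [mul_assoc])
          right_inv := fun v => Subtype.ext (by simp [mul_assoc])
          map_mul' := fun v w => Subtype.ext (by simp [mul_assoc]) }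
      map_one' := by ext v; simp
      map_mul' := fun g h => by ext v; simp [mul_assoc] }
  have hker : C ≤ act.ker := fun h hh => by
    refine MonoidHom.mem_ker.2 (MulEquiv.ext fun v => Subtype.ext ?_)
    show (h : G) * v * (h : G)⁻¹ = v
    have e : (v : G) * (h : G) = (h : G) * v := Subgroup.mem_centralizer_iff.1 (Subgroup.mem_subgroupOf.1 hh) v v.2
    rw [← e, mul_inv_cancel_right]
  let φ := QuotientGroup.lift C act hker
  haveI : Finite (SemidirectProduct ↥V (↥H ⧸ C) φ) := Finite.of_equiv _ SemidirectProduct.equivProd.symm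
  set Γ := SemidirectProduct ↥V (↥H ⧸ C) φ
  set V' : Subgroup Γ := (SemidirectProduct.inl : ↥V →* Γ).range with hV'
  set H' : Subgroup Γ := (SemidirectProduct.inr : (↥H ⧸ C) →* Γ).range with hH'
  have hconj : ∀ (b : ↥H) (v : ↥V), (SemidirectProduct.inr (QuotientGroup.mk b) : Γ) * SemidirectProduct.inl v *
      (SemidirectProduct.inr (QuotientGroup.mk b))⁻¹ = SemidirectProduct.inl (act b v) := fun b v => by
    rw [show act b v = φ (QuotientGroup.mk b) v from rfl, SemidirectProduct.inl_aut, map_inv]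
  have hel : Cfsg.IsElementaryAbelian p V' := by
    refine ⟨⟨⟨?_⟩⟩, ?_⟩
    · rintro ⟨_, v, rfl⟩ ⟨_, w, rfl⟩
      refine Subtype.ext ?_
      show SemidirectProduct.inl v * SemidirectProduct.inl w = SemidirectProduct.inl w * SemidirectProduct.inl v
      rw [← map_mul, ← map_mul, hV.1.is_comm.comm v w]
    · rintro _ ⟨v, rfl⟩
      rw [← map_pow, show v ^ p = 1 from Subtype.ext (hV.2 v v.2), map_one]
  have hnorm : H' ≤ Subgroup.normalizer (V' : Set Γ) := by
    rintro _ ⟨b, rfl⟩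
    obtain ⟨b, rfl⟩ := QuotientGroup.mk_surjective b
    refine Subgroup.mem_normalizer_fintype ?_
    rintro _ ⟨v, rfl⟩
    exact ⟨act b v, (hconj b v).symm⟩
  have hfa : H' ⊓ Subgroup.centralizer (V' : Set Γ) = ⊥ := by
    refine eq_bot_iff.2 ?_
    rintro _ ⟨⟨b, rfl⟩, hb⟩
    obtain ⟨b, rfl⟩ := QuotientGroup.mk_surjective b
    have : b ∈ C := Subgroup.mem_subgroupOf.2 (Subgroup.mem_centralizer_iff.2 fun v hv => by
      have e := Subgroup.mem_centralizer_iff.1 hb _ ⟨⟨v, hv⟩, rfl⟩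
      have e2 := hconj b ⟨v, hv⟩
      rw [← e, mul_inv_cancel_right] at e2
      have e3 : v = (b : G) * v * (b : G)⁻¹ := congrArg Subtype.val (SemidirectProduct.inl_injective e2)
      exact eq_mul_inv_iff_mul_eq.1 e3)
    rw [(QuotientGroup.eq_one_iff b).2 this, map_one]
    exact one_mem _
  have hcore : Cfsg.pCore p (↥H ⧸ C) = ⊥ := by
    set P := (Cfsg.pCore p (↥H ⧸ C)).comap (QuotientGroup.mk' C) with hP
    haveI := CfsgLib.Solv.pCore_normal (↥H ⧸ C) p
    have hPn : P.Normal := inferInstance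
    -- fixed points
    let U : Subgroup G :=
      { carrier := {v | v ∈ V ∧ ∀ b ∈ P, (b : G) * v = v * b}
        one_mem' := ⟨one_mem _, fun b _ => by simp⟩
        mul_mem' := fun {x y} hx hy => ⟨mul_mem hx.1 hy.1, fun b hb =>
          ((show Commute (b : G) x from hx.2 b hb).mul_right (show Commute (b : G) y from hy.2 b hb)).eq⟩
        inv_mem' := fun {x} hx => ⟨inv_mem hx.1, fun b hb => (show Commute (b : G) x from hx.2 b hb).inv_right.eq⟩ }
    have hUH : H ≤ Subgroup.normalizer (U : Set G) := by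
      intro h hh
      refine Subgroup.mem_normalizer_fintype fun v hv => ⟨(Subgroup.mem_normalizer_iff.1 (hHV hh) v).1 hv.1, fun b hb => ?_⟩
      have e : h⁻¹ * (b : G) * h * v = v * (h⁻¹ * (b : G) * h) := by
        have := hv.2 ((⟨h, hh⟩ : ↥H)⁻¹ * b * ⟨h, hh⟩) (by simpa using hPn.conj_mem b hb (⟨h, hh⟩ : ↥H)⁻¹)
        simpa using this
      calc (b : G) * (h * v * h⁻¹) = h * (h⁻¹ * b * h * v) * h⁻¹ := by group
        _ = h * (v * (h⁻¹ * b * h)) * h⁻¹ := by rw [e]
        _ = h * v * h⁻¹ * b := by group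
    rcases hirr U (fun v hv => hv.1) hUH with h | h
    · -- `U = 1` is impossible
      letI : MulDistribMulAction (↥H ⧸ C) ↥V := MulDistribMulAction.compHom _ φ
      letI : MulDistribMulAction ↥(Cfsg.pCore p (↥H ⧸ C)) ↥V :=
        MulDistribMulAction.compHom _ (Cfsg.pCore p (↥H ⧸ C)).subtype
      have hV1 : V ≠ ⊥ := fun h => hac (by
        rw [h]; exact Subgroup.mem_centralizer_iff.2 fun v hv => by rw [Subgroup.mem_bot.1 hv]; simp)
      have hdvd : p ∣ Nat.card ↥V := by
        haveI : Nontrivial ↥V := (Subgroup.nontrivial_iff_ne_bot _).2 hV1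
        obtain ⟨n, hn, hc⟩ := (show IsPGroup p ↥V from fun v => ⟨1, Subtype.ext (by simpa using hV.2 v v.2)⟩).nontrivial_iff_card.1 inferInstance
        exact hc ▸ dvd_pow_self p hn.ne'
      obtain ⟨v, hv, hv1⟩ := (CfsgLib.Solv.pCore_isPGroup (↥H ⧸ C) p).exists_fixed_point_of_prime_dvd_card_of_fixed_point
        ↥V hdvd (a := 1) (fun g => smul_one g)
      exfalso
      have hvU : (v : G) ∈ U := ⟨v.2, fun b hb => by
        have e := hv ⟨QuotientGroup.mk b, hb⟩
        have e2 : (b : G) * v * (b : G)⁻¹ = v := congrArg Subtype.val e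
        exact mul_inv_eq_iff_eq_mul.1 e2⟩
      rw [h, Subgroup.mem_bot] at hvU
      exact hv1 (Subtype.ext hvU.symm)
    · refine eq_bot_iff.2 fun x hx => ?_
      obtain ⟨b, rfl⟩ := QuotientGroup.mk_surjective x
      refine Subgroup.mem_bot.2 ((QuotientGroup.eq_one_iff b).2 (Subgroup.mem_subgroupOf.2
        (Subgroup.mem_centralizer_iff.2 fun v hv => ?_)))
      exact ((show v ∈ U from h.symm ▸ hv).2 b hx).symm
  have hO : Cfsg.pCore p ↥H' = ⊥ := by
    have e := CfsgLib.Solv.map_pCore_equiv (p := p)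
      (MonoidHom.ofInjective (SemidirectProduct.inr_injective (φ := φ)) : (↥H ⧸ C) ≃* ↥H')
    rw [hcore, Subgroup.map_bot] at e
    exact e.symm
  obtain ⟨K', L, hL, hK', ⟨e⟩⟩ := CfsgLib.Solv.sl2_section_of_quadratic hp2 hel hnorm hfa hO
    (x := SemidirectProduct.inr (QuotientGroup.mk (⟨a, haH⟩ : ↥H))) ⟨_, rfl⟩ (fun h => hac (by
      rw [← map_one (SemidirectProduct.inr : (↥H ⧸ C) →* Γ)] at h
      exact Subgroup.mem_subgroupOf.1 ((QuotientGroup.eq_one_iff _).1 (SemidirectProduct.inr_injective h)))) (by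
      rintro _ ⟨v, rfl⟩
      have e1 : ∀ v : ↥V, ⁅(SemidirectProduct.inr (QuotientGroup.mk (⟨a, haH⟩ : ↥H)) : Γ), SemidirectProduct.inl v⁆ =
          SemidirectProduct.inl (act ⟨a, haH⟩ v * v⁻¹) := fun v => by
        rw [commutatorElement_def, hconj, map_mul, map_inv]
      rw [e1, e1, ← map_one (SemidirectProduct.inl : ↥V →* Γ)]
      congr 1
      refine Subtype.ext ?_
      have := haq v v.2
      simpa [commutatorElement_def, mul_assoc, act] using this)
  apply hno
  let ψ : ↥K' →* (↥H ⧸ C) := (MonoidHom.ofInjective (SemidirectProduct.inr_injective (φ := φ))).symm.toMonoidHom.comp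
    (Subgroup.inclusion hK')
  have hψ : Function.Injective ψ := fun x y h => by
    have h' : (MonoidHom.ofInjective (SemidirectProduct.inr_injective (φ := φ))).symm (Subgroup.inclusion hK' x) =
        (MonoidHom.ofInjective (SemidirectProduct.inr_injective (φ := φ))).symm (Subgroup.inclusion hK' y) := h
    exact Subgroup.inclusion_injective hK' (MulEquiv.injective _ h')
  exact ⟨ψ.range, (e.toMonoidHom.comp (QuotientGroup.mk' (L.subgroupOf K'))).comp (MonoidHom.ofInjective hψ).symm.toMonoidHom,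
    (e.surjective.comp (QuotientGroup.mk'_surjective _)).comp (MulEquiv.surjective _)⟩

/-- Let p be a prime and let H act by conjugation on the elementary abelian p-subgroup V of a finite group, irreducibly (no H-invariant subgroups of V other than 1 and V) and nontrivially, and suppose H/C_H(V) is isomorphic to PSL₂(F) for a field F with p^n elements, p^n odd, or p = 3 and H/C_H(V) is isomorphic to a Ree group ²G₂(3^(2m+1)), m ≥ 1. Then no subgroup A of H acting nontrivially on V acts quadratically: [V, A, A] = 1 forces [V, A] = 1. -/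
theorem result {G : Type*} [Group G] [Finite G] {p : ℕ} [Fact p.Prime] (V H : Subgroup G) (hV : Cfsg.IsElementaryAbelian p V) (hHV : H ≤ Subgroup.normalizer (V : Set G)) (hirr : ∀ U : Subgroup G, U ≤ V → H ≤ Subgroup.normalizer (U : Set G) → U = ⊥ ∨ U = V) (hnt : ¬ H ≤ Subgroup.centralizer (V : Set G)) [hn : ((Subgroup.centralizer (V : Set G)).subgroupOf H).Normal] (hq : (∃ (F : Type) (_ : Field F) (_ : Fintype F) (n : ℕ), Fintype.card F = p ^ n ∧ Odd (Fintype.card F) ∧ Nonempty (↥H ⧸ (Subgroup.centralizer (V : Set G)).subgroupOf H ≃* Matrix.ProjectiveSpecialLinearGroup (Fin 2) F)) ∨ (p = 3 ∧ Cfsg.Lie.IsoRee (↥H ⧸ (Subgroup.centralizer (V : Set G)).subgroupOf H))) (A : Subgroup G) (hA : A ≤ H) (hquad : ⁅⁅V, A⁆, A⁆ = ⊥) : ⁅V, A⁆ = ⊥ := by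
  rw [Subgroup.commutator_eq_bot_iff_le_centralizer, Subgroup.le_centralizer_iff]
  intro a ha
  have hp2no : p ≠ 2 ∧ ¬ IsSec (↥H ⧸ (Subgroup.centralizer (V : Set G)).subgroupOf H) (SpecialLinearGroup (Fin 2) (ZMod p)) := by
    rcases hq with ⟨F, _, _, n, hc, hodd, ⟨e⟩⟩ | ⟨rfl, hR⟩
    · have hp2 : p ≠ 2 := by
        rintro rfl
        rcases n with _ | n
        · rw [pow_zero] at hc; exact absurd hc Fintype.one_lt_card.ne'
        · rw [hc] at hodd; exact (Nat.not_odd_iff_even.2 (Nat.even_pow.2 ⟨even_two, n.succ_ne_zero⟩)) hodd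
      refine ⟨hp2, fun ⟨K, f, hf⟩ => no_sec_psl hp2 hodd ⟨K.map e.toMonoidHom,
        f.comp (e.subgroupMap K).symm.toMonoidHom, hf.comp (MulEquiv.surjective _)⟩⟩
    · exact ⟨by norm_num, no_sec_ree (by norm_num) hR⟩
  refine quad_trivial hp2no.1 V H hV hHV hirr hp2no.2 (hA ha) fun v hv => ?_
  have h1 : ⁅a, v⁆ ∈ ⁅V, A⁆ := by
    rw [← commutatorElement_inv]; exact inv_mem (Subgroup.commutator_mem_commutator hv ha)
  have h2 := Subgroup.mem_centralizer_iff.1 ((Subgroup.commutator_eq_bot_iff_le_centralizer.1 hquad) h1) a ha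
  exact commutatorElement_eq_one_iff_mul_comm.2 h2

end Cfsg.Agent.S2787
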