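import Cfsg.Statements.S2791
import Cfsg.Agent.S2012
import Cfsg.Agent.Inv.CharP2
import Cfsg.Agent.Solv.Basic

set_option autoImplicit false
open Cfsg

namespace Cfsg.Agent.S2791

open CfsgLib.Solv in
theorem strong_fusion_aux {G : Type*} [Group G] [Finite G] {p : ℕ} [hp : Fact p.Prime] (S : Sylow p G)
    (A : Subgroup G) (hA : IsMulCommutative ↥A) (hsc : Cfsg.IsStronglyClosed A (S : Subgroup G)) :
    ∀ (k : ℕ) (Q : Subgroup G), Nat.card G - Nat.card Q ≤ k → Q ≤ (S : Subgroup G) → ∀ x : G,
      (∀ q ∈ Q, x⁻¹ * q * x ∈ (S : Subgroup G)) →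
      ∃ m ∈ Subgroup.normalizer (A : Set G), ∀ q ∈ Q, x⁻¹ * q * x = m⁻¹ * q * m := by
  have hAS : (S : Subgroup G) ≤ Subgroup.normalizer (A : Set G) :=
    le_normalizer_iff_forall_conj_mem.2 fun s hs a ha => hsc.2 a ha s
      (mul_mem (mul_mem hs (hsc.1 ha)) (inv_mem hs))
  have hAnorm : ∀ x : G, (∀ a ∈ A, x⁻¹ * a * x ∈ (S : Subgroup G)) →
      x ∈ Subgroup.normalizer (A : Set G) := fun x h => by
    have h' : x⁻¹ ∈ Subgroup.normalizer (A : Set G) := by
      refine mem_normalizer_of_conj_smul_eq (Subgroup.eq_of_le_of_card_ge ?_ (le_of_eq (card_conj_smul x⁻¹ A).symm))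
      rintro _ ⟨a, ha, rfl⟩
      show x⁻¹ * a * x⁻¹⁻¹ ∈ A
      refine hsc.2 a ha x⁻¹ ?_
      rw [inv_inv]; exact h a ha
    simpa using inv_mem h'
  intro k
  induction k with
  | zero =>
    intro Q hQ hQS x hx
    have : Q = ⊤ := Subgroup.eq_top_of_card_eq _ (le_antisymm (Subgroup.card_le_card_group Q) (by omega))
    subst this
    exact ⟨x, hAnorm x fun a _ => hx a trivial, fun q _ => rfl⟩
  | succ k ih =>
    intro Q hQ hQS x hx
    -- one step
    have step : ∀ (R : Subgroup G) (y : G), R ≤ (S : Subgroup G) → Nat.card Q ≤ Nat.card R →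
        y ∈ Subgroup.normalizer (R : Set G) →
        ¬ p ∣ ((S : Subgroup G) ⊓ Subgroup.normalizer (R : Set G)).relIndex (Subgroup.normalizer (R : Set G)) →
        ∃ m ∈ Subgroup.normalizer (A : Set G), ∀ q ∈ R, y⁻¹ * q * y = m⁻¹ * q * m := by
      intro R y hRS hcard hy hsyl
      set N := Subgroup.normalizer (R : Set G) with hN
      by_cases hAR : A ≤ R
      · refine ⟨y, hAnorm y fun a ha => hRS ?_, fun q _ => rfl⟩
        simpa using (Subgroup.mem_normalizer_iff.1 (inv_mem hy) a).1 (hAR ha)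
      -- the stabiliser of `1 ≤ A ∩ R ≤ R`
      have hsub : ∀ n ∈ N, ∀ a ∈ A ⊓ R, n * a * n⁻¹ ∈ A ⊓ R := fun n hn a ha =>
        Subgroup.mem_inf.2 ⟨hsc.2 a ha.1 n (hRS ((Subgroup.mem_normalizer_iff.1 hn a).1 ha.2)),
          (Subgroup.mem_normalizer_iff.1 hn a).1 ha.2⟩
      let K : Subgroup G :=
        { carrier := {n | n ∈ N ∧ (∀ a ∈ A ⊓ R, n * a * n⁻¹ = a) ∧ ∀ q ∈ R, n * q * n⁻¹ * q⁻¹ ∈ A ⊓ R}
          one_mem' := ⟨one_mem _, fun a _ => by simp, fun q _ => by simp⟩
          mul_mem' := fun {u v} hu hv => ⟨mul_mem hu.1 hv.1, fun a ha => by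
              rw [show u * v * a * (u * v)⁻¹ = u * (v * a * v⁻¹) * u⁻¹ by group, hv.2.1 a ha, hu.2.1 a ha],
            fun q hq => by
              have h1 := hu.2.2 (v * q * v⁻¹) ((Subgroup.mem_normalizer_iff.1 hv.1 q).1 hq)
              rw [show u * v * q * (u * v)⁻¹ * q⁻¹ =
                (u * (v * q * v⁻¹) * u⁻¹ * (v * q * v⁻¹)⁻¹) * (v * q * v⁻¹ * q⁻¹) by group]
              exact mul_mem h1 (hv.2.2 q hq)⟩
          inv_mem' := fun {u} hu => ⟨inv_mem hu.1, fun a ha => by
              conv_lhs => rw [← hu.2.1 a ha]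
              group,
            fun q hq => by
              have hq' : u⁻¹ * q * u ∈ R := by
                simpa using (Subgroup.mem_normalizer_iff.1 (inv_mem hu.1) q).1 hq
              have h1 := hu.2.2 _ hq'
              rw [show u * (u⁻¹ * q * u) * u⁻¹ * (u⁻¹ * q * u)⁻¹ = q * (u⁻¹ * q⁻¹ * u) by group] at h1
              rw [show u⁻¹ * q * u⁻¹⁻¹ * q⁻¹ = (q * (u⁻¹ * q⁻¹ * u))⁻¹ by group]
              exact inv_mem h1⟩ }
      have hKN : K ≤ N := fun n hn => hn.1
      haveI hKn : (K.subgroupOf N).Normal := by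
        refine ⟨fun n hn g => ?_⟩
        have hg := g.2
        refine ⟨mul_mem (mul_mem hg (hn : (n : G) ∈ K).1) (inv_mem hg), fun a ha => ?_, fun q hq => ?_⟩
        · show (g : G) * n * (g : G)⁻¹ * a * ((g : G) * n * (g : G)⁻¹)⁻¹ = a
          have ha' := hsub _ (inv_mem hg) a ha
          rw [inv_inv] at ha'
          have h : (n : G) * ((g : G)⁻¹ * a * g) * (n : G)⁻¹ = (g : G)⁻¹ * a * g := (hn : (n : G) ∈ K).2.1 _ ha'
          rw [show (g : G) * n * (g : G)⁻¹ * a * ((g : G) * n * (g : G)⁻¹)⁻¹ =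
            g * ((n : G) * ((g : G)⁻¹ * a * g) * (n : G)⁻¹) * (g : G)⁻¹ by group, h]
          group
        · show (g : G) * n * (g : G)⁻¹ * q * ((g : G) * n * (g : G)⁻¹)⁻¹ * q⁻¹ ∈ A ⊓ R
          have hq' : (g : G)⁻¹ * q * g ∈ R := by
            simpa using (Subgroup.mem_normalizer_iff.1 (inv_mem hg) q).1 hq
          have h := hsub _ hg _ ((hn : (n : G) ∈ K).2.2 _ hq')
          rw [show (g : G) * n * (g : G)⁻¹ * q * ((g : G) * n * (g : G)⁻¹)⁻¹ * q⁻¹ =
            g * ((n : G) * ((g : G)⁻¹ * q * g) * (n : G)⁻¹ * ((g : G)⁻¹ * q * g)⁻¹) * (g : G)⁻¹ by group]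
          exact h
      set C := Subgroup.centralizer (R : Set G) with hC
      have hCK : C ≤ K := by
        intro c hc
        have hc' := Subgroup.mem_centralizer_iff.1 hc
        exact ⟨Subgroup.centralizer_le_normalizer _ hc,
          fun a ha => by rw [← hc' a ha.2, mul_inv_cancel_right],
          fun q hq => by rw [← hc' q hq, mul_inv_cancel_right, mul_inv_cancel]; exact one_mem _⟩
      have hpow : ∀ n ∈ K, ∃ j : ℕ, n ^ p ^ j ∈ C := by
        intro n hn
        obtain ⟨j, hj⟩ := IsPGroup.iff_card.1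
          (S.isPGroup'.to_le ((inf_le_left : A ⊓ R ≤ A).trans hsc.1))
        refine ⟨j, Subgroup.mem_centralizer_iff.2 fun q hq => ?_⟩
        set r := n * q * n⁻¹ * q⁻¹ with hr
        have hr' : r ∈ A ⊓ R := hn.2.2 q hq
        have hiter : ∀ i : ℕ, n ^ i * q * (n ^ i)⁻¹ = r ^ i * q := by
          intro i
          induction i with
          | zero => simp
          | succ i hi =>
            rw [pow_succ' n, show n * n ^ i * q * (n * n ^ i)⁻¹ = n * (n ^ i * q * (n ^ i)⁻¹) * n⁻¹ by group,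
              hi, show n * (r ^ i * q) * n⁻¹ = (n * r ^ i * n⁻¹) * (r * q) by rw [hr]; group,
              hn.2.1 _ (pow_mem hr' i), pow_succ r, hr]
            group
        have h1 : r ^ p ^ j = 1 := hj ▸ orderOf_dvd_iff_pow_eq_one.1 (Subgroup.orderOf_dvd_natCard _ hr')
        have h2 := hiter (p ^ j)
        rw [h1, one_mul, mul_inv_eq_iff_eq_mul] at h2
        exact h2.symm
      have hP0 : IsPGroup p ↥(((S : Subgroup G) ⊓ N).subgroupOf N) :=
        (S.isPGroup'.to_le inf_le_left).of_equiv (Subgroup.subgroupOfEquivOfLe inf_le_right).symm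
      let P : Sylow p ↥N := hP0.toSylow hsyl
      obtain ⟨PK, hPK⟩ := CfsgLib.Inv.sylow_inf_normal P (K.subgroupOf N)
      have hfr := Sylow.normalizer_sup_eq_top PK
      rw [hPK] at hfr
      set L : Subgroup ↥N := (P : Subgroup ↥N) ⊓ K.subgroupOf N with hL
      haveI : (C.subgroupOf N).Normal := ⟨fun c hc g => by
        refine Subgroup.mem_centralizer_iff.2 fun q hq => ?_
        have hq' : (g : G)⁻¹ * q * g ∈ R := by
          simpa using (Subgroup.mem_normalizer_iff.1 (inv_mem g.2) q).1 hq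
        have h : (g : G)⁻¹ * q * g * c = c * ((g : G)⁻¹ * q * g) :=
          Subgroup.mem_centralizer_iff.1 (hc : (c : G) ∈ C) _ hq'
        show q * ((g : G) * c * (g : G)⁻¹) = (g : G) * c * (g : G)⁻¹ * q
        calc q * ((g : G) * c * (g : G)⁻¹) = g * ((g : G)⁻¹ * q * g * c) * (g : G)⁻¹ := by group
          _ = g * ((c : G) * ((g : G)⁻¹ * q * g)) * (g : G)⁻¹ := by rw [h]
          _ = (g : G) * c * (g : G)⁻¹ * q := by group⟩
      have hKdec : K.subgroupOf N ≤ L ⊔ C.subgroupOf N := by
        set X := (L ⊔ C.subgroupOf N).subgroupOf (K.subgroupOf N) with hX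
        have h1 : ¬ p ∣ X.index := fun hd => PK.not_dvd_index (hd.trans (Subgroup.index_dvd_of_le (by
          intro z hz
          have : (z : ↥N) ∈ L := by
            rw [← hPK]; exact Subgroup.mem_map_of_mem _ hz
          exact Subgroup.mem_sup_left this)))
        haveI : ((C.subgroupOf N).subgroupOf (K.subgroupOf N)).Normal := inferInstance
        have h2 : IsPGroup p (↥(K.subgroupOf N) ⧸ (C.subgroupOf N).subgroupOf (K.subgroupOf N)) := by
          intro z
          obtain ⟨z, rfl⟩ := QuotientGroup.mk'_surjective _ z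
          obtain ⟨j, hj⟩ := hpow _ z.2
          exact ⟨j, by rw [← map_pow]; exact (QuotientGroup.eq_one_iff _).2 hj⟩
        obtain ⟨i, hi⟩ := IsPGroup.iff_card.1 h2
        have h3 : X.index ∣ p ^ i := by
          rw [← hi, ← Subgroup.index_eq_card]
          exact Subgroup.index_dvd_of_le (fun z hz => Subgroup.mem_sup_right hz)
        obtain ⟨e, -, he⟩ := (Nat.dvd_prime_pow hp.out).1 h3
        rcases e with _ | e
        · rw [pow_zero, Subgroup.index_eq_one] at he
          exact Subgroup.subgroupOf_eq_top.1 he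
        · exact absurd (he ▸ dvd_pow_self p (Nat.succ_ne_zero e)) h1
      obtain ⟨m, hm, c, hc, hmc⟩ := Subgroup.mem_sup_of_normal_right.1
        (show (⟨y, hy⟩⁻¹ : ↥N) ∈ Subgroup.normalizer (L : Set ↥N) ⊔ C.subgroupOf N from by
          have h : Subgroup.normalizer (L : Set ↥N) ⊔ C.subgroupOf N = ⊤ := top_unique
            (hfr ▸ sup_le le_sup_left (hKdec.trans (sup_le (Subgroup.le_normalizer.trans le_sup_left) le_sup_right)))
          rw [h]; trivial)
      -- the enlarged subgroup
      set T := R ⊔ L.map N.subtype with hT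
      have hLS : L.map N.subtype ≤ (S : Subgroup G) := by
        rintro _ ⟨z, hz, rfl⟩; exact (hz.1).1
      have hTS : T ≤ (S : Subgroup G) := sup_le hRS hLS
      have hRT : R < T := by
        refine lt_of_le_of_ne le_sup_left fun h => hAR ?_
        -- `R` is proper in `R A`, hence `N_A(R)` is not inside `R`
        by_contra hAR'
        set U := R ⊔ A with hU
        have hUS : U ≤ (S : Subgroup G) := sup_le hRS hsc.1
        haveI : Group.IsNilpotent ↥U := (S.isPGroup'.to_le hUS).isNilpotent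
        have hRU : R.subgroupOf U < ⊤ := lt_top_iff_ne_top.2 fun h' =>
          hAR' (le_sup_right.trans (Subgroup.subgroupOf_eq_top.1 h'))
        obtain ⟨u, hu, hu'⟩ := SetLike.exists_of_lt
          (Group.normalizerCondition_of_isNilpotent _ hRU)
        have huU : (u : G) ∈ R ⊔ A := u.2
        rw [← SetLike.mem_coe, Subgroup.coe_mul_of_left_le_normalizer_right _ _ (hRS.trans hAS)] at huU
        obtain ⟨r, hr, a, ha, hra⟩ := huU
        have huN : (u : G) ∈ N := Subgroup.mem_normalizer_iff.2 fun z => by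
          have h1 := Subgroup.mem_normalizer_iff.1 hu
          constructor
          · intro hz
            exact (h1 ⟨z, Subgroup.mem_sup_left hz⟩).1 hz
          · intro hz
            have hzU : z ∈ U := by
              have := mul_mem (mul_mem (inv_mem u.2) (Subgroup.mem_sup_left (T := A) hz)) u.2
              simpa [mul_assoc] using this
            exact (h1 ⟨z, hzU⟩).2 hz
        have haN : a ∈ N := by
          have := mul_mem (inv_mem (Subgroup.le_normalizer hr : r ∈ N)) huN
          rwa [← hra, inv_mul_cancel_left] at this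
        have haK : a ∈ K := ⟨haN, fun b hb => by
            rw [show a * b = b * a from congrArg Subtype.val (hA.is_comm.comm ⟨a, ha⟩ ⟨b, hb.1⟩), mul_inv_cancel_right],
          fun q hq => Subgroup.mem_inf.2 ⟨by
            have := (Subgroup.mem_normalizer_iff.1 (hAS (hRS hq)) a⁻¹).1 (inv_mem ha)
            rw [show a * q * a⁻¹ * q⁻¹ = a * (q * a⁻¹ * q⁻¹) by group]
            exact mul_mem ha this,
            mul_mem ((Subgroup.mem_normalizer_iff.1 haN q).1 hq) (inv_mem hq)⟩⟩
        have haL : a ∈ L.map N.subtype :=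
          Subgroup.mem_map.2 ⟨⟨a, haN⟩, Subgroup.mem_inf.2 ⟨Subgroup.mem_inf.2 ⟨hsc.1 ha, haN⟩, haK⟩, rfl⟩
        exact hu' (show (u : G) ∈ R from hra ▸ mul_mem hr (h ▸ Subgroup.mem_sup_right haL : a ∈ R))
      have hcT : Nat.card R < Nat.card T := Set.Finite.card_lt_card (Set.toFinite _) hRT
      obtain ⟨m', hm', hmm⟩ := ih T (by omega) hTS ((m : G)⁻¹) (by
        intro q hq
        refine hTS ?_
        have hle : T.map (MulAut.conj (m : G)).toMonoidHom ≤ T := by
          rw [hT, Subgroup.map_sup]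
          refine sup_le_sup ?_ ?_
          · rintro _ ⟨z, hz, rfl⟩; exact (Subgroup.mem_normalizer_iff.1 m.2 z).1 hz
          · rintro _ ⟨_, ⟨z, hz, rfl⟩, rfl⟩
            exact ⟨_, (Subgroup.mem_normalizer_iff.1 hm z).1 hz, rfl⟩
        rw [inv_inv]
        exact hle (Subgroup.mem_map_of_mem _ hq))
      refine ⟨m', hm', fun q hq => ?_⟩
      rw [← hmm q (Subgroup.mem_sup_left hq), inv_inv]
      have hq' : q * (c : G) = c * q := Subgroup.mem_centralizer_iff.1 (hc : (c : G) ∈ C) q hq
      have e : y⁻¹ = (m : G) * (c : G) := (congrArg Subtype.val hmc).symm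
      rw [show y⁻¹ * q * y = y⁻¹ * q * (y⁻¹)⁻¹ by group, e,
        show (m : G) * c * q * ((m : G) * c)⁻¹ = m * ((c : G) * q * (c : G)⁻¹) * (m : G)⁻¹ by group,
        ← hq', mul_inv_cancel_right]
    obtain ⟨n, Qs, xs, hprod, hstep, hfirst, hchain⟩ := S2012.result S (Q : Set G) x hQS
      (by rintro _ ⟨q, hq, rfl⟩; exact hx q hq)
    have pre : ∀ i : ℕ, i ≤ n → ∃ m ∈ Subgroup.normalizer (A : Set G),
        ∀ q ∈ Q, (((List.ofFn xs).take i).prod)⁻¹ * q * ((List.ofFn xs).take i).prod = m⁻¹ * q * m := by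
      intro i
      induction i with
      | zero => exact fun _ => ⟨1, one_mem _, fun q _ => by simp⟩
      | succ i hi =>
        intro hin
        obtain ⟨m, hm, hmq⟩ := hi (by omega)
        set R := (S : Subgroup G) ⊓ (Qs ⟨i, hin⟩ : Subgroup G) with hR
        have hin' : ∀ q ∈ Q, m⁻¹ * q * m ∈ R := by
          intro q hq
          rw [← hmq q hq]
          rcases i with _ | i
          · simp only [List.take_zero, List.prod_nil, inv_one, one_mul, mul_one]
            exact hfirst hin hq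
          · exact hchain ⟨i, by omega⟩ hin ⟨q, hq, rfl⟩
        have hcard : Nat.card Q ≤ Nat.card R :=
          Nat.card_le_card_of_injective (fun q : Q => (⟨m⁻¹ * q * m, hin' q q.2⟩ : R)) fun a b h =>
            Subtype.ext (mul_left_cancel (mul_right_cancel (congrArg Subtype.val h)))
        obtain ⟨m₁, hm₁, hmq₁⟩ := step R (xs ⟨i, hin⟩) inf_le_left hcard (hstep ⟨i, hin⟩).1 (hstep ⟨i, hin⟩).2.1
        refine ⟨m * m₁, mul_mem hm hm₁, fun q hq => ?_⟩
        rw [List.prod_take_succ _ i (by simpa using hin), List.getElem_ofFn,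
          show ((((List.ofFn xs).take i).prod) * xs ⟨i, hin⟩)⁻¹ * q * ((((List.ofFn xs).take i).prod) * xs ⟨i, hin⟩) =
            (xs ⟨i, hin⟩)⁻¹ * ((((List.ofFn xs).take i).prod)⁻¹ * q * (((List.ofFn xs).take i).prod)) * xs ⟨i, hin⟩ by group,
          hmq q hq, hmq₁ _ (hin' q hq)]
        group
    obtain ⟨m, hm, hmq⟩ := pre n le_rfl
    refine ⟨m, hm, fun q hq => ?_⟩
    have h := hmq q hq
    rwa [List.take_of_length_le (by simp), hprod] at h

/-- Let S be a Sylow p-subgroup of the finite group G and A an abelian subgroup of S that is strongly closed in S with respect to G. Then A controls strong fusion in G: for some Sylow p-subgroup T containing A, whenever a subset of T is conjugated into T by an element of G, the same elementwise conjugation is induced by an element of N_G(A). -/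
theorem result {G : Type*} [Group G] [Finite G] {p : ℕ} [Fact p.Prime] (S : Sylow p G) (A : Subgroup G) (hA : IsMulCommutative ↥A) (hsc : Cfsg.IsStronglyClosed A (S : Subgroup G)) : Cfsg.ControlsStrongFusion p A := by
  refine ⟨S, hsc.1, fun A' hA' => ⟨hA', fun g hg => ?_⟩⟩
  obtain ⟨m, hm, hmq⟩ := strong_fusion_aux S A hA hsc _ (Subgroup.closure A') le_rfl
    ((Subgroup.closure_le _).2 hA') g⁻¹ (by
      intro q hq
      induction hq using Subgroup.closure_induction with
      | mem a ha => rw [inv_inv]; exact hg ⟨a, ha, rfl⟩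
      | one => simp
      | mul a b _ _ ha hb =>
        have e : g⁻¹⁻¹ * (a * b) * g⁻¹ = (g⁻¹⁻¹ * a * g⁻¹) * (g⁻¹⁻¹ * b * g⁻¹) := by group
        rw [e]; exact mul_mem ha hb
      | inv a _ ha =>
        have e : g⁻¹⁻¹ * a⁻¹ * g⁻¹ = (g⁻¹⁻¹ * a * g⁻¹)⁻¹ := by group
        rw [e]; exact inv_mem ha)
  refine ⟨m⁻¹, inv_mem hm, fun a ha => ?_⟩
  simpa using hmq a (Subgroup.subset_closure ha)

end Cfsg.Agent.S2791
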