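import Cfsg.Statements.S5224
import Cfsg.Agent.Fus.Tate

set_option autoImplicit false
open Cfsg

namespace Cfsg.Agent.S5224

/-- Tate's Theorem for fusion systems. Let F be a saturated fusion system over a finite p-group S and H a saturated fusion system over S contained in F. Then the following are equivalent: the elementary focal subgroups Φ(S)·foc agree for F and H; the focal subgroups of F and H agree; the hyperfocal subgroups of F and H agree. -/
theorem result {Ω : Type*} [Group Ω] {S : Subgroup Ω} [Finite S] (p : ℕ) [Fact p.Prime] (hS : IsPGroup p S) (F : Cfsg.FusionSystem S) (hF : F.IsSaturated p) (H : Cfsg.FusionSystem S) (hH : H.IsSaturated p) (hHF : H.IsSubsystemOf F) : (((frattini ↥S).map S.subtype ⊔ F.focalSubgroup) = ((frattini ↥S).map S.subtype ⊔ H.focalSubgroup) ↔ F.focalSubgroup = H.focalSubgroup) ∧ (F.focalSubgroup = H.focalSubgroup ↔ F.hyperfocalSubgroup p = H.hyperfocalSubgroup p) := by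
  have hle : H ≤ F := fun P => hHF P
  have hmono : H.hyperfocalSubgroup p ≤ F.hyperfocalSubgroup p :=
    CfsgLib.Fus.hyperfocal_le_iff.2 fun P hP α hα hc x hx => CfsgLib.Fus.hyperfocal_le_iff.1 le_rfl P hP α
      (CfsgLib.Fus.autGroup_mono (fun f hf => CfsgLib.Fus.le_iff.1 hle P f hf) hα) hc x hx
  have h13 : F.hyperfocalSubgroup p = H.hyperfocalSubgroup p → F.focalSubgroup = H.focalSubgroup := fun h => by
    rw [CfsgLib.Fus.focal_eq hS hF, CfsgLib.Fus.focal_eq hS hH, h]
  have h31 : F.focalSubgroup ≤ (frattini ↥S).map S.subtype ⊔ H.focalSubgroup →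
      F.hyperfocalSubgroup p = H.hyperfocalSubgroup p := fun h =>
    le_antisymm (CfsgLib.Fus.hyperfocal_le_of_focal_le hS hF hH hle h) hmono
  exact ⟨⟨fun h => h13 (h31 (h ▸ le_sup_right)), fun h => by rw [h]⟩,
    ⟨fun h => h31 (h ▸ le_sup_right), h13⟩⟩

end Cfsg.Agent.S5224
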