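import Cfsg.Statements.S2792
import Cfsg.Agent.S5224
import Cfsg.Agent.Fus.Yoshida
import Cfsg.Agent.Fus.Group
import Cfsg.Agent.Fus.NormalSubgroupSystem
import Cfsg.Agent.Solv.SSGClt
import Mathlib

set_option autoImplicit false
open Cfsg

namespace Cfsg.Agent.S2792

open scoped commutatorElement fwdDiff
open CfsgLib.Fus

variable {G : Type*} [Group G] [Finite G] {p : ℕ} [hp : Fact p.Prime]

omit [Finite G] in
theorem choose_sign (k : ℕ) (hk : k ≤ p - 1) : ((Nat.choose (p - 1) k : ℕ) : ZMod p) = (-1) ^ k := by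
  induction k with
  | zero => simp
  | succ k ih =>
    have hlt : k + 1 < p := by have := hp.out.two_le; omega
    have h0 : ((Nat.choose (p - 1 + 1) (k + 1) : ℕ) : ZMod p) = 0 := by
      rw [Nat.sub_add_cancel hp.out.one_le]
      exact (ZMod.natCast_eq_zero_iff _ _).2 (hp.out.dvd_choose_self (by omega) hlt)
    rw [Nat.choose_succ_succ, Nat.cast_add, ih (by omega)] at h0
    rw [eq_neg_of_add_eq_zero_right h0, pow_succ]; ring

/-- Elements of `S ∩ H'` lie in any system containing the maps from `H`. -/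
theorem focal_ge (S : Sylow p G) {H : Subgroup G} (hSH : (S : Subgroup G) ≤ H)
    {x : G} (hx : x ∈ (S : Subgroup G)) (hxH : x ∈ ⁅H, H⁆) :
    x ∈ (Cfsg.fusionSystemOfSubgroup H (S : Subgroup G) hSH).focalSubgroup := by
  set E := Cfsg.fusionSystemOfSubgroup H (S : Subgroup G) hSH
  set S' := S.subtype hSH
  have hc : (⟨x, hSH hx⟩ : ↥H) ∈ commutator ↥H := by
    have : x ∈ (commutator ↥H).map H.subtype := by
      rwa [commutator_def, Subgroup.map_commutator, ← MonoidHom.range_eq_map, Subgroup.range_subtype]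
    obtain ⟨y, hy, e⟩ := this
    rwa [show (⟨x, hSH hx⟩ : ↥H) = y from Subtype.ext e.symm]
  have hx' : (⟨x, hSH hx⟩ : ↥H) ∈ (S' : Subgroup ↥H).transferFocal.ker ⊓ (S' : Subgroup ↥H) :=
    Subgroup.mem_inf.2 ⟨(open scoped IsMulCommutative in Abelianization.commutator_subset_ker (S' : Subgroup ↥H).transferFocal hc), hx⟩
  rw [Subgroup.ker_transferFocal_inf_eq_focalSubgroup, Subgroup.focalSubgroup_def] at hx'
  refine (Subgroup.closure_le (E.focalSubgroup.comap H.subtype)).2 ?_ hx'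
  rintro _ ⟨hg, y, hy, u, rfl⟩
  have hy' : (y : G) ∈ (S : Subgroup G) := hy
  have hcj : (u : G) * (y : G)⁻¹ * (u : G)⁻¹ ∈ (S : Subgroup G) := by
    have hg' : ((⁅y, u⁆ : ↥H) : G) ∈ (S : Subgroup G) := hg
    have := Subgroup.mul_mem _ (Subgroup.inv_mem _ hy') hg'
    simpa [commutatorElement_def, mul_assoc] using this
  refine Subgroup.subset_closure ⟨Subgroup.zpowers (y : G)⁻¹, Cfsg.conjHom _ (u : G), ⟨(y : G)⁻¹, Subgroup.mem_zpowers _⟩,
    ⟨Subgroup.zpowers_le.2 (Subgroup.inv_mem _ hy'), ?_, u, u.2, fun _ => rfl⟩, ?_⟩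
  · rintro ⟨z, i, rfl⟩
    show (u : G) * ((y : G)⁻¹) ^ i * (u : G)⁻¹ ∈ (S : Subgroup G)
    rw [← conj_zpow]
    exact Subgroup.zpow_mem _ hcj i
  · show ((⁅y, u⁆ : ↥H) : G) = ((y : G)⁻¹)⁻¹ * ((u : G) * (y : G)⁻¹ * (u : G)⁻¹)
    simp [commutatorElement_def, mul_assoc]

/-- A character of `S` killing `S ∩ M'` but not `S ∩ G'`. -/
theorem exists_theta (S : Sylow p G) {M : Subgroup G} (hSM : (S : Subgroup G) ≤ M)
    (h : (S : Subgroup G) ⊓ commutator G ≠ (S : Subgroup G) ⊓ ⁅M, M⁆) :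
    ∃ θ : ↥(S : Subgroup G) →* Multiplicative (ZMod p),
      (∀ x : ↥(S : Subgroup G), (x : G) ∈ ⁅M, M⁆ → θ x = 1) ∧
      ∃ x : ↥(S : Subgroup G), (x : G) ∈ commutator G ∧ θ x ≠ 1 := by
  classical
  set F := Cfsg.groupFusionSystem (S : Subgroup G)
  set E := Cfsg.fusionSystemOfSubgroup M (S : Subgroup G) hSM
  have hEF : E.IsSubsystemOf F := fun P φ hφ => by
    obtain ⟨hP, hS, g, -, hg⟩ := hφ
    exact ⟨hP, hS, g, hg⟩
  have hsat : E.IsSaturated p := subgroupSystem_saturated hSM ⟨S.subtype hSM, rfl⟩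
  set Φ := (frattini ↥(S : Subgroup G)).map (S : Subgroup G).subtype
  have hEle : E.focalSubgroup ≤ (S : Subgroup G) ⊓ ⁅M, M⁆ := by
    rw [Cfsg.FusionSystem.focalSubgroup, Subgroup.closure_le]
    rintro _ ⟨P, φ, x, ⟨hP, hφS, g, hgM, hg⟩, rfl⟩
    refine Subgroup.mem_inf.2 ⟨Subgroup.mul_mem _ (Subgroup.inv_mem _ (hP x.2)) (hφS x), ?_⟩
    have := Subgroup.commutator_mem_commutator (Subgroup.inv_mem _ (hSM (hP x.2))) hgM
    rw [commutatorElement_def, inv_inv] at this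
    rw [hg]
    simpa [mul_assoc] using this
  have hFle : F.focalSubgroup ≤ (S : Subgroup G) ⊓ commutator G := by
    rw [Cfsg.FusionSystem.focalSubgroup, Subgroup.closure_le]
    rintro _ ⟨P, φ, x, ⟨hP, hφS, g, hg⟩, rfl⟩
    refine Subgroup.mem_inf.2 ⟨Subgroup.mul_mem _ (Subgroup.inv_mem _ (hP x.2)) (hφS x), ?_⟩
    have := Subgroup.commutator_mem_commutator (Subgroup.mem_top (x : G)⁻¹) (Subgroup.mem_top g)
    rw [← commutator_def, commutatorElement_def, inv_inv] at this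
    rw [hg]
    simpa [mul_assoc] using this
  have hnle : ¬ (S : Subgroup G) ⊓ commutator G ≤ Φ ⊔ ((S : Subgroup G) ⊓ ⁅M, M⁆) := by
    intro hle
    apply h
    have hME : (S : Subgroup G) ⊓ ⁅M, M⁆ ≤ E.focalSubgroup := fun x hx => focal_ge S hSM hx.1 hx.2
    have hEF' : E.focalSubgroup ≤ F.focalSubgroup := by
      rw [Cfsg.FusionSystem.focalSubgroup, Subgroup.closure_le]
      rintro _ ⟨P, φ, x, hφ, rfl⟩
      exact Subgroup.subset_closure ⟨P, φ, x, hEF P hφ, rfl⟩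
    have he := (Cfsg.Agent.S5224.result p S.isPGroup' F (group_saturated S) E hsat hEF).1.1
      (le_antisymm (sup_le le_sup_left ((hFle.trans hle).trans (sup_le_sup_left hME _))) (sup_le_sup_left hEF' _))
    refine le_antisymm (fun x hx => hEle (he ▸ ?_)) (inf_le_inf_left _ (Subgroup.commutator_mono le_top le_top))
    have := focal_ge S (H := ⊤) le_top hx.1 (by rw [← commutator_def]; exact hx.2)
    refine (show (Cfsg.fusionSystemOfSubgroup ⊤ (S : Subgroup G) le_top).focalSubgroup ≤ F.focalSubgroup from ?_) this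
    rw [Cfsg.FusionSystem.focalSubgroup, Subgroup.closure_le]
    rintro _ ⟨P, φ, x, ⟨hP, hS, g, -, hg⟩, rfl⟩
    exact Subgroup.subset_closure ⟨P, φ, x, ⟨hP, hS, g, hg⟩, rfl⟩
  obtain ⟨x₀, hx₀, hx₀V⟩ := SetLike.not_le_iff_exists.1 hnle
  obtain ⟨hx₀S, hx₀G⟩ := Subgroup.mem_inf.1 hx₀
  set V := (Φ ⊔ ((S : Subgroup G) ⊓ ⁅M, M⁆)).subgroupOf (S : Subgroup G) with hV
  have hΦV : frattini ↥(S : Subgroup G) ≤ V := fun y hy => Subgroup.mem_sup_left ⟨y, hy, rfl⟩
  haveI hVn : V.Normal := by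
    refine ⟨fun a ha b => ?_⟩
    have h1 : ⁅b, a⁆ ∈ V := hΦV (CfsgLib.Solv.commutator_le_frattini S.isPGroup'
      (Subgroup.commutator_mem_commutator (Subgroup.mem_top b) (Subgroup.mem_top a)))
    have := V.mul_mem h1 ha
    simpa [commutatorElement_def] using this
  have hbot : frattini (↥(S : Subgroup G) ⧸ V) ≤ ⊥ := by
    refine CfsgLib.Solv.frattini_le_of_elementary (p := p) ⊥ ?_ fun q => ?_
    · refine (commutator_def _).le.trans (Subgroup.commutator_le.2 fun a _ b _ => ?_)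
      obtain ⟨a, rfl⟩ := QuotientGroup.mk'_surjective V a
      obtain ⟨b, rfl⟩ := QuotientGroup.mk'_surjective V b
      rw [← map_commutatorElement, Subgroup.mem_bot]
      exact (QuotientGroup.eq_one_iff _).2 (hΦV (CfsgLib.Solv.commutator_le_frattini S.isPGroup'
        (Subgroup.commutator_mem_commutator (Subgroup.mem_top a) (Subgroup.mem_top b))))
    · obtain ⟨y, rfl⟩ := QuotientGroup.mk'_surjective V q
      rw [← map_pow, Subgroup.mem_bot]
      exact (QuotientGroup.eq_one_iff _).2 (hΦV (CfsgLib.Solv.pow_mem_frattini S.isPGroup' y))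
  have hxb : QuotientGroup.mk' V ⟨x₀, hx₀S⟩ ∉ frattini (↥(S : Subgroup G) ⧸ V) := fun h' =>
    hx₀V ((QuotientGroup.eq_one_iff (⟨x₀, hx₀S⟩ : ↥(S : Subgroup G))).1 (Subgroup.mem_bot.1 (hbot h')))
  rw [frattini, Order.radical] at hxb
  simp only [Subgroup.mem_iInf, not_forall] at hxb
  obtain ⟨C, hC, hxC⟩ := hxb
  set N := C.comap (QuotientGroup.mk' V) with hNdef
  have hN : IsCoatom N := Subgroup.isCoatom_comap_of_surjective (QuotientGroup.mk'_surjective V) hC
  haveI : N.Normal := coatom_normal S.isPGroup' hN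
  have hidx : Nat.card (↥(S : Subgroup G) ⧸ N) = p := index_coatom S.isPGroup' hN
  haveI : IsCyclic (↥(S : Subgroup G) ⧸ N) := isCyclic_of_prime_card hidx
  let e : ↥(S : Subgroup G) ⧸ N ≃* Multiplicative (ZMod p) := mulEquivOfCyclicCardEq (by
    rw [hidx, Nat.card_congr Multiplicative.toAdd, Nat.card_zmod])
  refine ⟨e.toMonoidHom.comp (QuotientGroup.mk' N), fun x hx => ?_, ⟨x₀, hx₀S⟩, hx₀G, ?_⟩
  · show e (QuotientGroup.mk x) = 1
    rw [e.map_eq_one_iff, QuotientGroup.eq_one_iff]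
    show QuotientGroup.mk' V x ∈ C
    have : x ∈ V := Subgroup.mem_sup_right (Subgroup.mem_inf.2 ⟨x.2, hx⟩)
    rw [show QuotientGroup.mk' V x = 1 from (QuotientGroup.eq_one_iff x).2 this]
    exact one_mem C
  · show e (QuotientGroup.mk _) ≠ 1
    rw [Ne, e.map_eq_one_iff, QuotientGroup.eq_one_iff]
    exact hxC

omit hp in
theorem smul_pow_eq {g : G} {S : Subgroup G} {c : G ⧸ S} (h : g • c = c) (k : ℕ) : g ^ k • c = c := by
  induction k with
  | zero => simp
  | succ k ih => rw [pow_succ, mul_smul, h, ih]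

theorem main (S : Sylow p G) (W : Subgroup G) (hW : Cfsg.IsWeaklyClosed W (S : Subgroup G))
    (h : (S : Subgroup G) ⊓ commutator G ≠ (S : Subgroup G) ⊓ ⁅Subgroup.normalizer (W : Set G), Subgroup.normalizer (W : Set G)⁆) :
    ∃ x ∈ (S : Subgroup G), ∃ z ∈ W, ∃ W₀ : Subgroup ↥W, IsCoatom W₀ ∧
      (fun y : G => y⁻¹ * z⁻¹ * y * z)^[p - 1] x ∈ W₀.map W.subtype ∧
      (fun y : G => y⁻¹ * z⁻¹ * y * z)^[p - 1] x ∉ ((frattini ↥W₀).map W₀.subtype).map W.subtype := by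
  classical
  obtain ⟨hWS, hwc⟩ := hW
  set A := Multiplicative (ZMod p)
  set M := Subgroup.normalizer (W : Set G) with hMdef
  have hSM : (S : Subgroup G) ≤ M := fun s hs => by
    refine Subgroup.mem_normalizer_iff_map_conj_eq.2 (hwc s ?_)
    rintro _ ⟨w, hw, rfl⟩
    exact Subgroup.mul_mem _ (Subgroup.mul_mem _ hs (hWS hw)) (Subgroup.inv_mem _ hs)
  obtain ⟨θ, hθM, x₀, hx₀G, hx₀θ⟩ := exists_theta S hSM h
  have hex : ∃ n, ∃ x : ↥(S : Subgroup G), (x : G) ∈ commutator G ∧ θ x ≠ 1 ∧ orderOf (x : G) = n :=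
    ⟨_, x₀, hx₀G, hx₀θ, rfl⟩
  obtain ⟨x₁, hgG, hgθ, hgord⟩ := Nat.find_spec hex
  set g : G := (x₁ : G) with hgdef
  have hgS : g ∈ (S : Subgroup G) := x₁.2
  have hmin : ∀ y : ↥(S : Subgroup G), (y : G) ∈ commutator G → orderOf (y : G) < orderOf g → θ y = 1 := by
    intro y hy hlt
    by_contra hne
    exact Nat.find_min hex (hgord ▸ hlt) ⟨y, hy, hne, rfl⟩
  have hA : ∀ a : A, a ^ p = 1 := fun a => by
    apply Multiplicative.toAdd.injective
    rw [toAdd_pow, toAdd_one]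
    exact ZModModule.char_nsmul_eq_zero p _
  haveI : Fintype (G ⧸ (S : Subgroup G)) := Fintype.ofFinite _
  let F : G → G ⧸ (S : Subgroup G) → A := fun s c => tfac θ s c
  have hFfix : ∀ s c (hc : s • c = c), ∃ y : ↥(S : Subgroup G), (y : G) = c.out⁻¹ * s * c.out ∧ F s c = θ y := fun s c hc =>
    ⟨⟨_, pow_smul_eq_self_iff.1 hc⟩, rfl, by
      show tfac θ s c = _
      rw [tfac]
      congr 1
      refine Subtype.ext ?_
      show (s • c).out⁻¹ * (s * c.out) = c.out⁻¹ * s * c.out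
      rw [hc, mul_assoc]⟩
  -- a moving cycle contributes nothing
  have hdiv : ∀ c k, 0 < k → g ^ k • c = c → g • c ≠ c → p ∣ k ∧ tfac θ (g ^ k) c = 1 := by
    intro c k hk hfx hmove
    have hpk : p ∣ k := by
      by_contra hd
      obtain ⟨l, hl⟩ := IsPGroup.iff_orderOf.1 S.isPGroup' x₁
      rw [← Subgroup.orderOf_coe] at hl
      obtain ⟨a, ha⟩ := exists_pow_eq_self_of_coprime (x := g) (n := k)
        (hl ▸ (((Fact.out : p.Prime).coprime_iff_not_dvd.2 hd).symm.pow_right l))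
      exact hmove (ha ▸ smul_pow_eq hfx a)
    refine ⟨hpk, ?_⟩
    obtain ⟨y, hy, hyF⟩ := hFfix _ _ hfx
    refine hyF.trans (hmin y ?_ ?_)
    · rw [hy]
      have hn : (commutator G).Normal := inferInstance
      simpa using hn.conj_mem _ (Subgroup.pow_mem _ hgG k) c.out⁻¹
    · rw [hy, show c.out⁻¹ * g ^ k * c.out = MulAut.conj c.out⁻¹ (g ^ k) by simp, MulEquiv.orderOf_eq,
        orderOf_pow' g hk.ne']
      refine Nat.div_lt_self (orderOf_pos g) ?_
      obtain ⟨l, hl⟩ := IsPGroup.iff_orderOf.1 S.isPGroup' x₁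
      rw [← Subgroup.orderOf_coe] at hl
      have hl0 : l ≠ 0 := fun h0 => hgθ (by
        rw [h0, pow_zero, orderOf_eq_one_iff] at hl
        rw [show x₁ = 1 from Subtype.ext hl, map_one])
      exact lt_of_lt_of_le hp.out.one_lt (Nat.le_of_dvd (Nat.gcd_pos_of_pos_left _ (orderOf_pos g))
        (Nat.dvd_gcd (hl ▸ dvd_pow_self p hl0) hpk))
  have hcyc : ∀ (X : G ⧸ (S : Subgroup G) → Prop), (∀ c, X (g • c) ↔ X c) →
      ∀ b : G ⧸ (S : Subgroup G) → A, (∀ c, X c → g • c = c → b c = F g c) →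
        (∀ c k, X c → g • c ≠ c → p ∣ k → ∏ j ∈ Finset.range k, b ((g • ·)^[j] c) = 1) →
        ∏ c ∈ Finset.univ.filter X, F g c = ∏ c ∈ Finset.univ.filter X, b c := by
    intro X hX b hb1 hb2
    rw [Finset.prod_filter, Finset.prod_filter]
    refine prod_eq_of_cycles (MulAction.toPerm g) _ _ fun c k hk hfx => ?_
    rw [show ⇑(MulAction.toPerm g : Equiv.Perm (G ⧸ (S : Subgroup G))) = (g • ·) from rfl] at hfx ⊢
    have hXj : ∀ j, X ((g • ·)^[j] c) ↔ X c := by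
      intro j
      induction j with
      | zero => rfl
      | succ j ih => rw [Function.iterate_succ_apply', hX, ih]
    simp only [hXj]
    by_cases hc : X c
    · simp only [if_pos hc]
      rw [smul_iterate] at hfx
      change g ^ k • c = c at hfx
      by_cases hf : g • c = c
      · refine Finset.prod_congr rfl fun j _ => (hb1 _ ((hXj j).2 hc) ?_).symm
        rw [Function.iterate_fixed (show (g • ·) c = c from hf) j]
        exact hf
      · obtain ⟨hpk, h1⟩ := hdiv c k hk hfx hf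
        rw [hb2 c k hc hf hpk]
        exact (tfac_pow θ g c k).trans h1
    · simp only [if_neg hc, Finset.prod_const_one]
  -- the cosets fixed by `W` are those in `M`
  let Xm : G ⧸ (S : Subgroup G) → Prop := fun c => ∀ w ∈ W, w • c = c
  have hXm : ∀ c, Xm c ↔ c.out ∈ M := by
    intro c
    constructor
    · intro hc
      have hle : W.map (MulAut.conj c.out⁻¹).toMonoidHom ≤ (S : Subgroup G) := by
        rintro _ ⟨w, hw, rfl⟩
        simpa using pow_smul_eq_self_iff.1 (hc w hw)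
      simpa using inv_mem (Subgroup.mem_normalizer_iff_map_conj_eq.2 (hwc _ hle) : c.out⁻¹ ∈ M)
    · intro hc w hw
      exact pow_smul_eq_self_iff.2 (hWS ((Subgroup.mem_normalizer_iff''.1 hc w).1 hw))
  have hWg : ∀ w ∈ W, g⁻¹ * w * g ∈ W := fun w hw => (Subgroup.mem_normalizer_iff''.1 (hSM hgS) w).1 hw
  have hXg : ∀ c, Xm (g • c) ↔ Xm c := by
    intro c
    constructor <;> intro hc w hw
    · have h2 := hc (g * w * g⁻¹) ((Subgroup.mem_normalizer_iff.1 (hSM hgS) w).1 hw)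
      rw [← mul_smul, inv_mul_cancel_right, mul_smul] at h2
      exact (MulAction.injective g) h2
    · rw [← mul_smul, show w * g = g * (g⁻¹ * w * g) by group, mul_smul, hc _ (hWg w hw)]
  have hgM : g ∈ M := hSM hgS
  have h1 : ∏ c ∈ Finset.univ.filter Xm, F g c = θ x₁ ^ (Finset.univ.filter Xm).card := by
    rw [← Finset.prod_const]
    refine hcyc Xm hXg (fun _ => θ x₁) (fun c hc hf => ?_) fun c k _ _ hpk => ?_
    · obtain ⟨y, hy, hyF⟩ := hFfix _ _ hf
      rw [hyF, ← inv_mul_eq_one, ← map_inv, ← map_mul]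
      refine hθM _ ?_
      show g⁻¹ * (y : G) ∈ ⁅M, M⁆
      rw [hy]
      have := Subgroup.commutator_mem_commutator (M.inv_mem hgM) (M.inv_mem ((hXm c).1 hc))
      rw [commutatorElement_def, inv_inv, inv_inv] at this
      simpa [mul_assoc] using this
    · obtain ⟨j, rfl⟩ := hpk
      rw [Finset.prod_const, Finset.card_range, pow_mul, hA, one_pow]
  have hm : ¬ p ∣ (Finset.univ.filter Xm).card := by
    have e : (Finset.univ.filter Xm).card = (S : Subgroup G).relIndex M := by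
      rw [← Fintype.card_subtype, ← Nat.card_eq_fintype_card]
      let φ : ↥M ⧸ (S : Subgroup G).subgroupOf M → {c // Xm c} := fun q => Quotient.liftOn' q
        (fun m => ⟨QuotientGroup.mk (m : G), (hXm _).2 (by
          obtain ⟨s, hs⟩ := QuotientGroup.mk_out_eq_mul (S : Subgroup G) (m : G)
          rw [hs]; exact mul_mem m.2 (hSM s.2))⟩) (by
        intro a b hab
        rw [QuotientGroup.leftRel_apply] at hab
        exact Subtype.ext (QuotientGroup.eq.2 hab))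
      refine (Nat.card_congr (Equiv.ofBijective φ ⟨?_, ?_⟩)).symm
      · rintro ⟨a⟩ ⟨b⟩ hab
        exact Quotient.sound' (QuotientGroup.leftRel_apply.2 (show ((a⁻¹ * b : ↥M) : G) ∈ (S : Subgroup G) from QuotientGroup.eq.1 (congrArg Subtype.val hab)))
      · rintro ⟨c, hc⟩
        exact ⟨QuotientGroup.mk ⟨c.out, (hXm c).1 hc⟩, Subtype.ext (QuotientGroup.out_eq' c)⟩
    rw [e]
    exact (S.subtype hSM).not_dvd_index
  -- the whole transfer kills `g`
  have htot : ∏ c, F g c = 1 := by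
    let tG : G →* A := MonoidHom.mk' (fun s => ∏ c, tfac θ s c) fun a b => by
      simp only [tfac_mul, Finset.prod_mul_distrib]
      exact congrArg (· * _) (Equiv.prod_comp (MulAction.toPerm b) fun c => tfac θ a c)
    exact Abelianization.commutator_subset_ker tG hgG
  -- some `W`-orbit outside `M` contributes
  let F' : G ⧸ (S : Subgroup G) → A := fun c => if ¬ Xm c ∧ g • c = c then F g c else 1
  have hF' : ∏ c, F' c ≠ 1 := by
    intro he
    have hb2 : ∀ c k, ¬ Xm c → g • c ≠ c → p ∣ k → ∏ j ∈ Finset.range k, F' ((g • ·)^[j] c) = 1 := by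
      intro c k _ hf _
      refine Finset.prod_eq_one fun j _ => if_neg fun hh => hf ?_
      have h3 : g • (g • ·)^[j] c = (g • ·)^[j] c := hh.2
      rw [← Function.iterate_succ_apply' (f := (g • ·)), Function.iterate_succ_apply] at h3
      exact (MulAction.injective g).iterate j h3
    have h2 : ∏ c ∈ Finset.univ.filter (fun c => ¬ Xm c), F g c = ∏ c ∈ Finset.univ.filter (fun c => ¬ Xm c), F' c := by
      convert hcyc (fun c => ¬ Xm c) (fun c => not_congr (hXg c)) F' (fun c hc hf => if_pos ⟨hc, hf⟩) hb2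
    have h3 : ∏ c ∈ Finset.univ.filter (fun c => ¬ Xm c), F' c = ∏ c, F' c := by
      rw [Finset.prod_filter]
      refine Finset.prod_congr rfl fun c _ => ?_
      by_cases hc : Xm c
      · rw [if_neg (not_not.2 hc)]; exact (if_neg fun hh => hh.1 hc).symm
      · rw [if_pos hc]
    rw [← Finset.prod_filter_mul_prod_filter_not Finset.univ Xm (fun c => F g c), h1, h2, h3, he, mul_one] at htot
    refine hgθ (orderOf_eq_one_iff.1 (Nat.eq_one_of_dvd_coprimes ((hp.out.coprime_iff_not_dvd).2 hm) ?_ (orderOf_dvd_of_pow_eq_one htot)))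
    exact orderOf_dvd_of_pow_eq_one (hA _)
  obtain ⟨B₀, hB₀⟩ : ∃ q : Quotient (MulAction.orbitRel ↥W (G ⧸ (S : Subgroup G))),
      ∏ c ∈ Finset.univ.filter (fun c => Quotient.mk'' c = q), F' c ≠ 1 := by
    by_contra hno
    push Not at hno
    apply hF'
    haveI : Fintype (Quotient (MulAction.orbitRel ↥W (G ⧸ (S : Subgroup G)))) := Fintype.ofFinite _
    rw [← Finset.prod_fiberwise Finset.univ (fun c => (Quotient.mk'' c : Quotient (MulAction.orbitRel ↥W (G ⧸ (S : Subgroup G))))) F']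
    exact Finset.prod_eq_one fun q _ => hno q
  obtain ⟨c₀, hc₀, hc₀F⟩ := Finset.exists_ne_one_of_prod_ne_one hB₀
  simp only [Finset.mem_filter, Finset.mem_univ, true_and] at hc₀
  obtain ⟨hc₀X, hc₀g⟩ : ¬ Xm c₀ ∧ g • c₀ = c₀ := by
    by_contra hh; exact hc₀F (if_neg hh)
  let Borb : G ⧸ (S : Subgroup G) → Prop := fun c => ∃ w ∈ W, w • c₀ = c
  have hBorb : ∀ c, (Quotient.mk'' c = B₀) ↔ Borb c := by
    intro c
    rw [← hc₀, Quotient.eq'']
    constructor
    · rintro ⟨⟨w, hw⟩, rfl⟩; exact ⟨w, hw, rfl⟩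
    · rintro ⟨w, hw, rfl⟩; exact ⟨⟨w, hw⟩, rfl⟩
  have hBprod : ∏ c ∈ Finset.univ.filter Borb, F g c ≠ 1 := by
    intro he
    apply hB₀
    have hBg : ∀ c, Borb (g • c) ↔ Borb c := by
      intro c
      constructor
      · rintro ⟨w, hw, e⟩
        refine ⟨g⁻¹ * w * g, hWg w hw, ?_⟩
        rw [mul_smul, mul_smul, hc₀g, e, inv_smul_smul]
      · rintro ⟨w, hw, rfl⟩
        refine ⟨g * w * g⁻¹, (Subgroup.mem_normalizer_iff.1 (hSM hgS) w).1 hw, ?_⟩
        conv_lhs => rw [← hc₀g]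
        rw [← mul_smul, inv_mul_cancel_right, mul_smul]
    have hXB : ∀ c, Borb c → ¬ Xm c := by
      rintro c ⟨w, hw, rfl⟩ hc
      apply hc₀X
      have e : w⁻¹ • w • c₀ = w • c₀ := hc _ (inv_mem hw)
      rw [inv_smul_smul] at e
      rwa [e]
    rw [Finset.filter_congr (fun c _ => hBorb c), ← he]
    refine (hcyc Borb hBg F' (fun c hc hf => if_pos ⟨hXB c hc, hf⟩) fun c k hc hf _ => ?_).symm
    refine Finset.prod_eq_one fun j _ => if_neg fun hh => hf ?_
    have h3 : g • (g • ·)^[j] c = (g • ·)^[j] c := hh.2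
    rw [← Function.iterate_succ_apply' (f := (g • ·)), Function.iterate_succ_apply] at h3
    exact (MulAction.injective g).iterate j h3
  -- a maximal subgroup of `R = W⟨g⟩`
  set R := W ⊔ Subgroup.zpowers g with hR
  have hgR : g ∈ R := Subgroup.mem_sup_right (Subgroup.mem_zpowers g)
  have hRS : R ≤ (S : Subgroup G) := sup_le hWS (Subgroup.zpowers_le.2 hgS)
  have hRorb : ∀ r ∈ R, Borb (r • c₀) := by
    intro r hr
    have hr' : r ∈ ((W ⊔ Subgroup.zpowers g : Subgroup G) : Set G) := hr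
    rw [Subgroup.coe_mul_of_right_le_normalizer_left W (Subgroup.zpowers g) (Subgroup.zpowers_le.2 hgM)] at hr'
    obtain ⟨w, hw, u, ⟨i, rfl⟩, rfl⟩ := Set.mem_mul.1 hr'
    refine ⟨w, hw, ?_⟩
    rw [mul_smul]
    congr 1
    have hst : g ∈ MulAction.stabilizer G c₀ := hc₀g
    exact (MulAction.mem_stabilizer_iff.1 (Subgroup.zpow_mem _ hst i)).symm
  set P₀ := (MulAction.stabilizer G c₀).subgroupOf R with hP₀
  have hP₀top : P₀ ≠ ⊤ := fun e => hc₀X fun w hw => Subgroup.subgroupOf_eq_top.1 e (Subgroup.mem_sup_left hw)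
  obtain ⟨M₁', hM₁', hPM₁⟩ := (eq_top_or_exists_le_coatom P₀).resolve_left hP₀top
  have hRp : IsPGroup p ↥R := S.isPGroup'.to_le hRS
  haveI hM₁n : M₁'.Normal := coatom_normal hRp hM₁'
  have hidx₁ : M₁'.index = p := index_coatom hRp hM₁'
  set M₁ := M₁'.map R.subtype with hM₁
  have hM₁R : M₁ ≤ R := Subgroup.map_subtype_le _
  have hmemM₁ : ∀ {r : G} (hr : r ∈ R), r ∈ M₁ ↔ (⟨r, hr⟩ : ↥R) ∈ M₁' := fun {r} hr =>
    ⟨fun ⟨y, hy, e⟩ => by rwa [show (⟨r, hr⟩ : ↥R) = y from Subtype.ext e.symm], fun h => ⟨_, h, rfl⟩⟩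
  have hgM₁ : g ∈ M₁ := (hmemM₁ hgR).2 (hPM₁ (show g ∈ MulAction.stabilizer G c₀ from hc₀g))
  obtain ⟨z, hzW, hzM₁⟩ : ∃ z ∈ W, z ∉ M₁ := by
    by_contra hno
    push Not at hno
    apply hM₁'.1
    rw [eq_top_iff]
    intro r _
    have : (r : G) ∈ M₁ := (sup_le hno (Subgroup.zpowers_le.2 hgM₁) : R ≤ M₁) r.2
    exact (hmemM₁ r.2).1 this
  have hzR : z ∈ R := Subgroup.mem_sup_left hzW
  set zR : ↥R := ⟨z, hzR⟩
  have hconj : ∀ i : ℕ, ∀ u ∈ M₁, (z ^ i)⁻¹ * u * z ^ i ∈ M₁ := by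
    intro i u hu
    refine (hmemM₁ (R.mul_mem (R.mul_mem (R.inv_mem (R.pow_mem hzR i)) (hM₁R hu)) (R.pow_mem hzR i))).2 ?_
    have := hM₁n.conj_mem _ ((hmemM₁ (hM₁R hu)).1 hu) (zR ^ i)⁻¹
    rw [inv_inv] at this
    exact this
  have hzp : zR ^ p ∈ M₁' := hidx₁ ▸ Subgroup.pow_index_mem M₁' zR
  have hzord : ∀ k : ℕ, zR ^ k ∈ M₁' → p ∣ k := by
    intro k hk
    by_contra hd
    obtain ⟨a, b, hab⟩ := Nat.Coprime.isCoprime ((hp.out.coprime_iff_not_dvd).2 hd)
    apply hzM₁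
    refine (hmemM₁ hzR).2 ?_
    have : zR = (zR ^ p) ^ a * (zR ^ k) ^ b := by
      rw [← zpow_natCast, ← zpow_natCast, ← zpow_mul, ← zpow_mul, ← zpow_add, mul_comm (p : ℤ), mul_comm (k : ℤ), hab, zpow_one]
    show zR ∈ M₁'
    rw [this]; exact M₁'.mul_mem (M₁'.zpow_mem hzp a) (M₁'.zpow_mem hk b)
  let B1 : G ⧸ (S : Subgroup G) → Prop := fun c => ∃ u ∈ M₁, u • c₀ = c
  have hB1 : ∀ u ∈ M₁, ∀ c, B1 (u • c) ↔ B1 c := by
    intro u hu c
    constructor
    · rintro ⟨v, hv, e⟩; exact ⟨u⁻¹ * v, M₁.mul_mem (M₁.inv_mem hu) hv, by rw [mul_smul, e, inv_smul_smul]⟩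
    · rintro ⟨v, hv, rfl⟩; exact ⟨u * v, M₁.mul_mem hu hv, mul_smul _ _ _⟩
  let τ : ↥M₁ →* A := MonoidHom.mk' (fun u => ∏ c ∈ Finset.univ.filter B1, F (u : G) c) fun a b => by
    simp only [F, Subgroup.coe_mul, tfac_mul, Finset.prod_mul_distrib]
    congr 1
    refine Finset.prod_equiv (MulAction.toPerm (b : G)) (fun c => ?_) fun c _ => rfl
    simp only [Finset.mem_filter, Finset.mem_univ, true_and, MulAction.toPerm_apply]
    exact (hB1 _ b.2 c).symm
  -- decomposition of the orbit into blocks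
  have hdecomp : ∏ c ∈ Finset.univ.filter Borb, F g c =
      ∏ i ∈ Finset.range p, τ ⟨(z ^ i)⁻¹ * g * z ^ i, hconj i g hgM₁⟩ := by
    have himg : Finset.univ.filter Borb =
        ((Finset.range p) ×ˢ (Finset.univ.filter B1)).image (fun q => z ^ q.1 • q.2) := by
      ext c
      simp only [Finset.mem_filter, Finset.mem_univ, true_and, Finset.mem_image, Finset.mem_product,
        Finset.mem_range, Prod.exists]
      constructor
      · rintro ⟨w, hw, rfl⟩
        set wR : ↥R := ⟨w, Subgroup.mem_sup_left hw⟩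
        -- the quotient `R / M₁` is generated by `z`
        have hcard : Nat.card (↥R ⧸ M₁') = p := hidx₁
        have hz1 : (QuotientGroup.mk' M₁' zR) ≠ 1 := fun e => hzM₁ ((hmemM₁ hzR).2 ((QuotientGroup.eq_one_iff _).1 e))
        obtain ⟨j, hj⟩ := (isOfFinOrder_of_finite _).mem_powers_iff_mem_zpowers.2
          (mem_zpowers_of_prime_card hcard hz1 (g := QuotientGroup.mk' M₁' zR) (g' := QuotientGroup.mk' M₁' wR))
        refine ⟨j % p, (z ^ (j % p))⁻¹ • w • c₀, ⟨Nat.mod_lt _ hp.out.pos, (z ^ (j % p))⁻¹ * w, ?_, mul_smul _ _ _⟩, smul_inv_smul _ _⟩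
        have hmem : (zR ^ (j % p))⁻¹ * wR ∈ M₁' := by
          rw [← QuotientGroup.eq_one_iff, QuotientGroup.mk_mul, QuotientGroup.mk_inv, QuotientGroup.mk_pow, inv_mul_eq_one]
          have : (QuotientGroup.mk zR : ↥R ⧸ M₁') ^ p = 1 := by
            rw [← QuotientGroup.mk_pow]; exact (QuotientGroup.eq_one_iff _).2 hzp
          change (QuotientGroup.mk' M₁') zR ^ j = (QuotientGroup.mk' M₁') wR at hj
          rw [← pow_mod_natCard, hcard] at hj
          exact hj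
        exact ⟨_, hmem, rfl⟩
      · rintro ⟨i, b, ⟨-, u, hu, rfl⟩, rfl⟩
        rw [← mul_smul]
        exact hRorb _ (R.mul_mem (R.pow_mem hzR i) (hM₁R hu))
    have hinj : Set.InjOn (fun q : ℕ × (G ⧸ (S : Subgroup G)) => z ^ q.1 • q.2)
        ↑((Finset.range p) ×ˢ (Finset.univ.filter B1)) := by
      rintro ⟨i, b⟩ hib ⟨i', b'⟩ hib' e
      simp only [Finset.coe_product, Finset.coe_range, Set.mem_prod, Set.mem_Iio, Finset.coe_filter, Finset.mem_univ,
        true_and, Set.mem_ofPred_eq] at hib hib'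
      suffices hii : i = i' by
        subst hii
        exact Prod.ext rfl (MulAction.injective (z ^ i) e)
      obtain ⟨hi, u, hu, rfl⟩ := hib
      obtain ⟨hi', u', hu', rfl⟩ := hib'
      have hst : (u'⁻¹ * (z ^ i')⁻¹ * z ^ i * u) • c₀ = c₀ := by
        change z ^ i • u • c₀ = z ^ i' • u' • c₀ at e
        rw [mul_smul, mul_smul, mul_smul, e, inv_smul_smul, inv_smul_smul]
      set rR : ↥R := ⟨u', hM₁R hu'⟩⁻¹ * (zR ^ i')⁻¹ * zR ^ i * ⟨u, hM₁R hu⟩ with hrR
      have hr : rR ∈ M₁' := hPM₁ (show (rR : G) ∈ MulAction.stabilizer G c₀ from hst)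
      have hzz : (zR ^ i')⁻¹ * zR ^ i ∈ M₁' := by
        have h1 := M₁'.mul_mem (M₁'.mul_mem ((hmemM₁ (hM₁R hu')).1 hu') hr) (M₁'.inv_mem ((hmemM₁ (hM₁R hu)).1 hu))
        rwa [hrR, show (⟨u', hM₁R hu'⟩ : ↥R) * (⟨u', hM₁R hu'⟩⁻¹ * (zR ^ i')⁻¹ * zR ^ i * ⟨u, hM₁R hu⟩) * (⟨u, hM₁R hu⟩ : ↥R)⁻¹ = (zR ^ i')⁻¹ * zR ^ i by group] at h1
      rcases le_total i' i with hle | hle
      · have h2 : zR ^ (i - i') ∈ M₁' := by
          rwa [show (zR ^ i')⁻¹ * zR ^ i = zR ^ (i - i') by rw [inv_mul_eq_iff_eq_mul, ← pow_add, Nat.add_sub_cancel' hle]] at hzz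
        have := Nat.eq_zero_of_dvd_of_lt (hzord _ h2) (by omega)
        omega
      · have h2 : zR ^ (i' - i) ∈ M₁' := by
          have h3 := M₁'.inv_mem hzz
          rwa [mul_inv_rev, inv_inv, show (zR ^ i)⁻¹ * zR ^ i' = zR ^ (i' - i) by rw [inv_mul_eq_iff_eq_mul, ← pow_add, Nat.add_sub_cancel' hle]] at h3
        have := Nat.eq_zero_of_dvd_of_lt (hzord _ h2) (by omega)
        omega
    rw [himg, Finset.prod_image hinj, Finset.prod_product]
    refine Finset.prod_congr rfl fun i _ => ?_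
    show ∏ b ∈ Finset.univ.filter B1, F g (z ^ i • b) = ∏ b ∈ Finset.univ.filter B1, F ((z ^ i)⁻¹ * g * z ^ i) b
    have hkey : ∀ b, F g (z ^ i • b) * F (z ^ i) b = F (z ^ i) (((z ^ i)⁻¹ * g * z ^ i) • b) * F ((z ^ i)⁻¹ * g * z ^ i) b := by
      intro b
      simp only [F, ← tfac_mul]
      rw [show z ^ i * ((z ^ i)⁻¹ * g * z ^ i) = g * z ^ i by group]
    have h2 : ∏ b ∈ Finset.univ.filter B1, F (z ^ i) (((z ^ i)⁻¹ * g * z ^ i) • b) = ∏ b ∈ Finset.univ.filter B1, F (z ^ i) b := by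
      refine Finset.prod_equiv (MulAction.toPerm ((z ^ i)⁻¹ * g * z ^ i)) (fun c => ?_) fun c _ => rfl
      simp only [Finset.mem_filter, Finset.mem_univ, true_and, MulAction.toPerm_apply]
      exact (hB1 _ (hconj i g hgM₁) c).symm
    have h3 := Finset.prod_congr (rfl : Finset.univ.filter B1 = _) fun b _ => hkey b
    rw [Finset.prod_mul_distrib, Finset.prod_mul_distrib, h2, mul_comm (∏ b ∈ Finset.univ.filter B1, F (z ^ i) b)] at h3
    exact mul_right_cancel h3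
  -- the iterated commutator
  set D : G → G := fun y => y⁻¹ * z⁻¹ * y * z with hD
  have hDM : ∀ n, D^[n] g ∈ M₁ := by
    intro n
    induction n with
    | zero => exact hgM₁
    | succ n ih =>
      rw [Function.iterate_succ_apply']
      show (D^[n] g)⁻¹ * z⁻¹ * D^[n] g * z ∈ M₁
      have := M₁.mul_mem (M₁.inv_mem ih) (hconj 1 _ ih)
      simpa [pow_one, mul_assoc] using this
  let a : ℕ → ℕ → ZMod p := fun n i => Multiplicative.toAdd (τ ⟨(z ^ i)⁻¹ * D^[n] g * z ^ i, hconj i _ (hDM n)⟩)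
  have haΔ : ∀ n, a (n + 1) = Δ_[1] (a n) := by
    intro n
    funext i
    show a (n + 1) i = a n (i + 1) - a n i
    have e : (⟨(z ^ i)⁻¹ * D^[n + 1] g * z ^ i, hconj i _ (hDM (n + 1))⟩ : ↥M₁) =
        (⟨(z ^ i)⁻¹ * D^[n] g * z ^ i, hconj i _ (hDM n)⟩ : ↥M₁)⁻¹ * ⟨(z ^ (i + 1))⁻¹ * D^[n] g * z ^ (i + 1), hconj (i + 1) _ (hDM n)⟩ := by
      refine Subtype.ext ?_
      show (z ^ i)⁻¹ * D^[n + 1] g * z ^ i = ((z ^ i)⁻¹ * D^[n] g * z ^ i)⁻¹ * ((z ^ (i + 1))⁻¹ * D^[n] g * z ^ (i + 1))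
      rw [Function.iterate_succ_apply']
      show (z ^ i)⁻¹ * ((D^[n] g)⁻¹ * z⁻¹ * D^[n] g * z) * z ^ i = _
      group
    simp only [a]
    rw [e, map_mul, map_inv, toAdd_mul, toAdd_inv]
    abel
  have haiter : ∀ n, a n = (fwdDiff (1 : ℕ))^[n] (a 0) := by
    intro n
    induction n with
    | zero => rfl
    | succ n ih => rw [haΔ, ih, ← Function.iterate_succ_apply' (f := fwdDiff (1 : ℕ))]
  have hsign : ((-1 : ZMod p)) ^ (p - 1) = 1 := ZMod.pow_card_sub_one_eq_one (neg_ne_zero.2 one_ne_zero)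
  have hsum : a (p - 1) 0 = ∑ k ∈ Finset.range p, a 0 k := by
    rw [haiter, fwdDiff_iter_eq_sum_shift, Nat.sub_add_cancel hp.out.one_le]
    refine Finset.sum_congr rfl fun k hk => ?_
    have hk' : k ≤ p - 1 := by have := Finset.mem_range.1 hk; omega
    rw [zsmul_eq_mul, Int.cast_mul, Int.cast_pow, Int.cast_neg, Int.cast_one, Int.cast_natCast, choose_sign k hk',
      ← pow_add, Nat.sub_add_cancel hk', hsign, one_mul]
    simp
  set y := D^[p - 1] g with hy
  have hyW : ∀ n, D^[n + 1] g ∈ W := by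
    intro n
    rw [Function.iterate_succ_apply']
    show (D^[n] g)⁻¹ * z⁻¹ * D^[n] g * z ∈ W
    exact W.mul_mem ((Subgroup.mem_normalizer_iff''.1 (hSM (hRS (hM₁R (hDM n)))) _).1 (W.inv_mem hzW)) hzW
  have hyW' : y ∈ W := by
    have h1 : p - 1 = (p - 2) + 1 := by have := hp.out.two_le; omega
    rw [hy, h1]; exact hyW _
  have hτy : τ ⟨y, hDM (p - 1)⟩ ≠ 1 := by
    intro hc
    apply hBprod
    rw [hdecomp]
    apply Multiplicative.toAdd.injective
    rw [toAdd_prod, toAdd_one]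
    have h2 : a (p - 1) 0 = 0 := by
      simp only [a]
      rw [show (⟨(z ^ 0)⁻¹ * D^[p - 1] g * z ^ 0, hconj 0 _ (hDM (p - 1))⟩ : ↥M₁) = ⟨y, hDM (p - 1)⟩ from Subtype.ext (by simp [hy]), hc]
      rfl
    rw [hsum] at h2
    exact h2
  refine ⟨g, hgS, z, hzW, M₁.subgroupOf W, ⟨fun e => hzM₁ (Subgroup.subgroupOf_eq_top.1 e hzW), fun L hL => ?_⟩,
    ⟨⟨y, hyW'⟩, hDM (p - 1), rfl⟩, ?_⟩
  · obtain ⟨⟨w, hw⟩, hwL, hwM⟩ := SetLike.exists_of_lt hL
    rw [eq_top_iff]
    rintro ⟨v, hv⟩ -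
    set wR : ↥R := ⟨w, Subgroup.mem_sup_left hw⟩
    set vR : ↥R := ⟨v, Subgroup.mem_sup_left hv⟩
    have hw1 : (QuotientGroup.mk' M₁' wR) ≠ 1 := fun e => hwM ((hmemM₁ (Subgroup.mem_sup_left hw)).2 ((QuotientGroup.eq_one_iff _).1 e))
    obtain ⟨k, hk⟩ := Subgroup.mem_zpowers_iff.1
      (mem_zpowers_of_prime_card (hidx₁ : Nat.card (↥R ⧸ M₁') = p) hw1 (g' := QuotientGroup.mk' M₁' vR))
    have hm : (wR ^ k)⁻¹ * vR ∈ M₁' := by
      rw [← QuotientGroup.eq_one_iff, QuotientGroup.mk_mul, QuotientGroup.mk_inv, QuotientGroup.mk_zpow, inv_mul_eq_one]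
      exact hk
    have hu : (⟨w, hw⟩ : ↥W) ^ (-k) * ⟨v, hv⟩ ∈ L := hL.le (by
      show ((⟨w, hw⟩ : ↥W) ^ (-k) * ⟨v, hv⟩ : ↥W).1 ∈ M₁
      refine ⟨_, hm, ?_⟩
      simp [wR, vR])
    have := L.mul_mem (L.zpow_mem hwL k) hu
    rwa [← mul_assoc, ← zpow_add, add_neg_cancel, zpow_zero, one_mul] at this
  · rintro ⟨v, ⟨u, hu, rfl⟩, hv⟩
    let τ' : ↥(M₁.subgroupOf W) →* A := τ.comp
      { toFun := fun q => ⟨((q : ↥W) : G), q.2⟩, map_one' := rfl, map_mul' := fun _ _ => rfl }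
    have hker : frattini ↥(M₁.subgroupOf W) ≤ τ'.ker := by
      refine CfsgLib.Solv.frattini_le_of_elementary (p := p) _ ((commutator_def _).le.trans (Subgroup.commutator_le.2 fun b _ c _ => ?_)) fun b => ?_
      · rw [MonoidHom.mem_ker, map_commutatorElement, commutatorElement_eq_one_iff_mul_comm]; exact mul_comm _ _
      · rw [MonoidHom.mem_ker, map_pow, hA]
    apply hτy
    have h3 : τ' u = 1 := hker hu
    rw [show (⟨y, hDM (p - 1)⟩ : ↥M₁) = ⟨((u : ↥W) : G), u.2⟩ from Subtype.ext hv.symm]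
    exact h3

/-- Let S be a Sylow p-subgroup of the finite group G and W a subgroup of S weakly closed in S with respect to G. If S ∩ G' ≠ S ∩ (N_G(W))', then there are x ∈ S, z ∈ W and a maximal subgroup W₀ of W such that the iterated commutator [x, z; p−1] (with [x, z] = x⁻¹z⁻¹xz and [x, z; i+1] = [[x, z; i], z]) lies in W₀ but not in the Frattini subgroup of W₀; in particular [x, z; p−1] ≠ 1. -/
theorem result {G : Type*} [Group G] [Finite G] {p : ℕ} [Fact p.Prime] (S : Sylow p G) (W : Subgroup G) (hW : Cfsg.IsWeaklyClosed W (S : Subgroup G)) (h : (S : Subgroup G) ⊓ commutator G ≠ (S : Subgroup G) ⊓ ⁅Subgroup.normalizer (W : Set G), Subgroup.normalizer (W : Set G)⁆) : ∃ x ∈ (S : Subgroup G), ∃ z ∈ W, ∃ W₀ : Subgroup ↥W, IsCoatom W₀ ∧ (fun y : G => y⁻¹ * z⁻¹ * y * z)^[p - 1] x ∈ W₀.map W.subtype ∧ (fun y : G => y⁻¹ * z⁻¹ * y * z)^[p - 1] x ∉ ((frattini ↥W₀).map W₀.subtype).map W.subtype := by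
  exact main S W hW h

end Cfsg.Agent.S2792
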