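import Cfsg.Statements.S2794
import Cfsg.Agent.Inv.ZJQd

set_option autoImplicit false
open Cfsg

namespace Cfsg.Agent.S2794

/-- For an odd prime p and a finite group G, the group Qd(p) is not involved in G if and only if in every section K/R of G, for every Sylow p-subgroup S* of K/R, the centre of J(S*) (J generated by the abelian subgroups of largest order) controls strong fusion in K/R. -/
theorem result {G : Type*} [Group G] [Finite G] {p : ℕ} [Fact p.Prime] (hp : p ≠ 2) : ¬ Cfsg.Involves ↥(Cfsg.qd p) G ↔ ∀ (K R : Subgroup G) [hR : (R.subgroupOf K).Normal], ∀ T : Sylow p (K ⧸ R.subgroupOf K), Cfsg.ControlsStrongFusion p (Cfsg.centerThompsonAOf (T : Subgroup (K ⧸ R.subgroupOf K))) := by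
  constructor
  · intro hq K R hR T
    rw [CfsgLib.Inv.ZJ.centerThompsonAOf_eq]
    have hst : Cfsg.IsNormalizerPStable p (↥K ⧸ R.subgroupOf K) := by
      by_contra hns
      exact hq (CfsgLib.Dickson.involves_of_isSec (CfsgLib.Dickson.isSec_trans (CfsgLib.Glau.isSec_quot K R)
        (CfsgLib.Dickson.isSec_qd_of_not_stable hp hns)))
    exact ⟨T, CfsgLib.Inv.ZJ.zJ_le _, fun A hA => CfsgLib.Inv.ZJ.controls_zJ hp (Or.inl rfl) hst T
      (CfsgLib.Inv.ZJ.stronglyClosed_self _) A hA⟩
  · rintro h ⟨K, R, hR, ⟨f⟩⟩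
    haveI := hR
    obtain ⟨T, hT⟩ := CfsgLib.Inv.ZJ.not_controls_zJ_of_qd f
    have h1 := h K R T
    rw [CfsgLib.Inv.ZJ.centerThompsonAOf_eq] at h1
    exact hT h1

end Cfsg.Agent.S2794
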