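import Cfsg.Statements.S2803
import Cfsg.Agent.Inv.CharP2
import Cfsg.Agent.S2802

set_option autoImplicit false
open Cfsg

namespace Cfsg.Agent.S2803

/-- Let L be a finite group and p a prime with C_L(O_p(L)) ≤ O_p(L), T a Sylow p-subgroup, and Y the largest p-reduced normal subgroup of L. Put T_L = C_T(Y) and L_T = N_L(T_L). Then L = L_T · C_L(Y) (elementwise), T_L = O_p(L_T), and Y = Ω₁(Z(T_L)). -/
theorem result {L : Type*} [Group L] [Finite L] {p : ℕ} [Fact p.Prime] (hchar : Subgroup.centralizer (Cfsg.pCore p L : Set L) ≤ Cfsg.pCore p L) (T : Sylow p L) (Y : Subgroup L) (hY : (Cfsg.IsPReducedNormal p Y ∧ ∀ V : Subgroup L, Cfsg.IsPReducedNormal p V → V ≤ Y)) (TL : Subgroup L) (hTL : TL = (T : Subgroup L) ⊓ Subgroup.centralizer (Y : Set L)) : (∀ g : L, ∃ a ∈ Subgroup.normalizer (TL : Set L), ∃ c ∈ Subgroup.centralizer (Y : Set L), g = a * c) ∧ (Cfsg.pCore p ↥(Subgroup.normalizer (TL : Set L))).map (Subgroup.normalizer (TL : Set L)).subtype = TL ∧ Y = Cfsg.omegaOne p (TL ⊓ Subgroup.centralizer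 (TL : Set L)) := by
  open CfsgLib.Inv in
  open scoped commutatorElement in
  exact (by
    obtain ⟨hYred, hYmax⟩ := hY
    obtain ⟨hYn, hYe, -⟩ := reduced_iff.1 hYred
    haveI := hYn
    set C := Subgroup.centralizer (Y : Set L) with hC
    haveI : C.Normal := hYred.2.2.1
    obtain ⟨P, hP⟩ := sylow_inf_normal T C
    rw [← hTL] at hP
    set N := Subgroup.normalizer (TL : Set L) with hN
    have hTLC : TL ≤ C := hTL ▸ inf_le_right
    have hTLN : TL ≤ N := Subgroup.le_normalizer
    have hNC : N ⊔ C = ⊤ := by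
      rw [hN, ← hP]
      exact Sylow.normalizer_sup_eq_top P
    have hfac : ∀ g : L, ∃ a ∈ N, ∃ c ∈ C, g = a * c := by
      intro g
      obtain ⟨a, ha, c, hc, h⟩ :=
        Subgroup.mem_sup_of_normal_right.1 (show g ∈ N ⊔ C by rw [hNC]; exact Subgroup.mem_top _)
      exact ⟨a, ha, c, hc, h.symm⟩
    -- normal subgroups of the normalizer map to normal subgroups of the quotient
    have hmapn : ∀ K : Subgroup ↥N, K.Normal →
        ((K.map N.subtype).map (QuotientGroup.mk' C)).Normal := by
      intro K hK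
      refine ⟨fun y hy g => ?_⟩
      obtain ⟨_, ⟨k, hk, rfl⟩, rfl⟩ := hy
      obtain ⟨g, rfl⟩ := QuotientGroup.mk'_surjective C g
      obtain ⟨a, ha, c, hc, rfl⟩ := hfac g
      refine Subgroup.mem_map.2 ⟨a * N.subtype k * a⁻¹,
        Subgroup.mem_map.2 ⟨⟨a, ha⟩ * k * ⟨a, ha⟩⁻¹, hK.conj_mem k hk _, rfl⟩, ?_⟩
      have hc1 : QuotientGroup.mk' C c = 1 := (QuotientGroup.eq_one_iff c).2 hc
      simp only [map_mul, map_inv, hc1, mul_one]
    have hpred : ∀ K : Subgroup ↥N, K.Normal →
        (∀ x ∈ K, (orderOf x).Coprime p → (x : L) ∈ C) → K.map N.subtype ≤ C := by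
      intro K hK hel
      haveI := hmapn K hK
      have h1 : IsPGroup p ((K.map N.subtype).map (QuotientGroup.mk' C)) := by
        refine isPGroup_of_elements fun y hy hyo => ?_
        obtain ⟨_, ⟨x, hx, rfl⟩, rfl⟩ := hy
        set a := (orderOf x).factorization p with ha
        have hxo : orderOf x ≠ 0 := (orderOf_pos x).ne'
        have h1 : ((x ^ p ^ a : ↥N) : L) ∈ C := by
          refine hel _ (pow_mem hx _) ?_
          rw [orderOf_pow_of_dvd (pow_ne_zero _ (Fact.out : p.Prime).ne_zero) (Nat.ordProj_dvd _ _)]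
          exact (Nat.coprime_ordCompl (Fact.out : p.Prime) hxo).symm
        have h2 : (QuotientGroup.mk' C (N.subtype x)) ^ p ^ a = 1 := by
          rw [← map_pow, QuotientGroup.mk'_apply, QuotientGroup.eq_one_iff]; exact h1
        exact orderOf_eq_one_iff.1 (Nat.eq_one_of_dvd_coprimes (hyo.pow_right a) dvd_rfl
          (orderOf_dvd_of_pow_eq_one h2))
      have h3 := CfsgLib.Solv.le_pCore h1
      obtain ⟨_, _, _, hpc⟩ := hYred
      rw [hpc, le_bot_iff, Subgroup.map_eq_bot_iff, QuotientGroup.ker_mk'] at h3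
      exact h3
    have hTLp : IsPGroup p TL := T.2.to_le (hTL ▸ inf_le_left)
    -- a p-subgroup of C normalizing TL lies in TL
    have habsorb : ∀ S : Subgroup L, S ≤ C → S ≤ N → IsPGroup p S → S ≤ TL := by
      intro S hSC hSN hSp
      have hsup : IsPGroup p ↥(S ⊔ TL) := hSp.to_sup_of_normal_right' hTLp hSN
      have heq := P.3 (hsup.comap_subtype (K := C)) (fun y hy => Subgroup.mem_sup_right
        (show (y : L) ∈ TL from hP ▸ Subgroup.mem_map.2 ⟨y, hy, rfl⟩))
      intro s hs
      rw [← hP]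
      exact Subgroup.mem_map.2 ⟨⟨s, hSC hs⟩, heq ▸ Subgroup.mem_sup_left hs, rfl⟩
    refine ⟨hfac, le_antisymm ?_ ?_, ?_⟩
    · refine habsorb _ ?_ (Subgroup.map_subtype_le _) ((CfsgLib.Solv.pCore_isPGroup _ p).map _)
      refine hpred _ (CfsgLib.Solv.pCore_normal _ p) fun x hx hxo => ?_
      rw [eq_one_of_coprime_mem (CfsgLib.Solv.pCore_isPGroup _ p) hx hxo]
      exact one_mem _
    · haveI : (TL.subgroupOf N).Normal := Subgroup.normal_in_normalizer
      rw [← Subgroup.map_subgroupOf_eq_of_le hTLN]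
      exact Subgroup.map_mono (CfsgLib.Solv.le_pCore hTLp.comap_subtype)
    · set Z := TL ⊓ Subgroup.centralizer (TL : Set L) with hZ
      set U := Cfsg.omegaOne p Z with hU
      have hUZ : U ≤ Z := (Subgroup.closure_le _).2 fun x hx => hx.1
      have hZab : ∀ a ∈ Z, ∀ b ∈ Z, a * b = b * a := fun a ha b hb =>
        (Subgroup.mem_centralizer_iff.1 (Subgroup.mem_inf.1 ha).2 b (Subgroup.mem_inf.1 hb).1).symm
      have hUexp : ∀ a ∈ U, a ^ p = 1 := by
        intro a ha
        have key : a ∈ Z ∧ a ^ p = 1 := by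
          rw [hU, Cfsg.omegaOne] at ha
          induction ha using Subgroup.closure_induction with
          | mem a ha => exact ha
          | one => exact ⟨one_mem _, one_pow _⟩
          | mul a b _ _ iha ihb =>
            exact ⟨mul_mem iha.1 ihb.1, by
              rw [Commute.mul_pow (hZab a iha.1 b ihb.1), iha.2, ihb.2, one_mul]⟩
          | inv a _ iha => exact ⟨inv_mem iha.1, by rw [inv_pow, iha.2, inv_one]⟩
        exact key.2
      have hYT : Y ≤ (T : Subgroup L) :=
        (CfsgLib.Solv.le_pCore (reduced_isPGroup hYred)).trans (CfsgLib.Solv.pCore_le_sylow T)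
      have hYU : Y ≤ U := by
        intro y hy
        have hyC : y ∈ C := Subgroup.mem_centralizer_iff.2 fun b hb =>
          congrArg Subtype.val (hYe.1.is_comm.comm (⟨b, hb⟩ : Y) ⟨y, hy⟩)
        refine Subgroup.subset_closure ⟨Subgroup.mem_inf.2 ⟨hTL ▸ Subgroup.mem_inf.2 ⟨hYT hy, hyC⟩,
          Subgroup.mem_centralizer_iff.2 fun t ht => ?_⟩, hYe.2 y hy⟩
        exact (Subgroup.mem_centralizer_iff.1 (hTLC ht) y hy).symm
      refine le_antisymm hYU ?_
      have hUN : U ≤ N := hUZ.trans (inf_le_left.trans hTLN)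
      have hTN : (T : Subgroup L) ≤ N := by
        rw [hN, hTL, CfsgLib.Solv.le_normalizer_iff_forall_conj_mem]
        intro t ht x hx
        exact Subgroup.mem_inf.2 ⟨mul_mem (mul_mem ht (Subgroup.mem_inf.1 hx).1) (inv_mem ht),
          (inferInstance : C.Normal).conj_mem x (Subgroup.mem_inf.1 hx).2 t⟩
      haveI hUn : (U.subgroupOf N).Normal := by
        refine ⟨fun u hu g => ?_⟩
        have hmap : U.map (MulAut.conj (g : L)).toMonoidHom ≤ U := by
          rw [hU, Cfsg.omegaOne, MonoidHom.map_closure]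
          refine Subgroup.closure_mono ?_
          rintro _ ⟨z, ⟨hz, hzp⟩, rfl⟩
          obtain ⟨hz1, hz2⟩ := Subgroup.mem_inf.1 hz
          refine ⟨Subgroup.mem_inf.2 ⟨(Subgroup.mem_normalizer_iff.1 g.2 z).1 hz1,
            Subgroup.mem_centralizer_iff.2 fun t ht => ?_⟩, by rw [← map_pow, hzp, map_one]⟩
          have ht' := (Subgroup.mem_normalizer_iff''.1 g.2 t).1 ht
          have := Subgroup.mem_centralizer_iff.1 hz2 _ ht'
          show t * ((g : L) * z * (g : L)⁻¹) = (g : L) * z * (g : L)⁻¹ * t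
          calc t * ((g : L) * z * (g : L)⁻¹) = (g : L) * (((g : L)⁻¹ * t * g) * z) * (g : L)⁻¹ := by group
            _ = (g : L) * (z * ((g : L)⁻¹ * t * g)) * (g : L)⁻¹ := by rw [this]
            _ = _ := by group
        exact hmap (Subgroup.mem_map.2 ⟨u, hu, rfl⟩)
      have hUred : Cfsg.IsPReducedNormal p (U.subgroupOf N) := by
        refine reduced_iff.2 ⟨hUn, ⟨⟨⟨fun a b => Subtype.ext (Subtype.ext
          (hZab _ (hUZ a.2) _ (hUZ b.2)))⟩⟩, fun a ha => Subtype.ext (hUexp _ ha)⟩,
          fun K hK hCK hel => ?_⟩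
        have hKC : K.map N.subtype ≤ C := hpred K hK fun x hx hxo =>
          Subgroup.mem_centralizer_iff.2 fun y hy => congrArg Subtype.val
            (Subgroup.mem_centralizer_iff.1 (hel x hx hxo) ⟨y, hUN (hYU hy)⟩ (hYU hy))
        obtain ⟨S⟩ : Nonempty (Sylow p K) := inferInstance
        have htop := eq_top_of_sylow_coprime
          (M := (Subgroup.centralizer ((U.subgroupOf N : Subgroup ↥N) : Set ↥N)).subgroupOf K) S
          (fun s hs => by
            rw [Subgroup.mem_subgroupOf, Subgroup.mem_centralizer_iff]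
            intro u hu
            have hsTL : ((s : ↥N) : L) ∈ TL := by
              refine habsorb (((S : Subgroup K).map K.subtype).map N.subtype)
                ((Subgroup.map_mono (Subgroup.map_subtype_le _)).trans hKC)
                (Subgroup.map_subtype_le _) ((S.2.map _).map _) ?_
              exact Subgroup.mem_map.2 ⟨(s : ↥N), Subgroup.mem_map.2 ⟨s, hs, rfl⟩, rfl⟩
            exact Subtype.ext (Subgroup.mem_centralizer_iff.1 (Subgroup.mem_inf.1 (hUZ hu)).2 _ hsTL).symm)
          (fun x hxo => hel x x.2 (by rwa [Subgroup.orderOf_coe]))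
        exact Subgroup.subgroupOf_eq_top.1 htop
      have hred := Cfsg.Agent.S2802.result hchar T N hTN (U.subgroupOf N) hUred
      rw [Subgroup.map_subgroupOf_eq_of_le hUN] at hred
      exact Subgroup.subset_normalClosure.trans (hYmax _ hred))

end Cfsg.Agent.S2803
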