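import Cfsg.Statements.S2804
import Cfsg.Agent.Inv.CharP2

set_option autoImplicit false
open Cfsg

namespace Cfsg.Agent.S2804

/-- Let L be a finite group and p a prime with C_L(O_p(L)) ≤ O_p(L), V a p-reduced normal subgroup of L and K a subnormal subgroup of L. Then [V, O^p(K)] is contained in K and is a p-reduced normal subgroup of K, where O^p(K) is the subgroup of K generated by its elements of order prime to p. -/
theorem result {L : Type*} [Group L] [Finite L] {p : ℕ} [Fact p.Prime] (hchar : Subgroup.centralizer (Cfsg.pCore p L : Set L) ≤ Cfsg.pCore p L) (V : Subgroup L) (hV : Cfsg.IsPReducedNormal p V) (K : Subgroup L) (hK : K.IsSubnormal) : ⁅V, (Cfsg.pResidual p ↥K).map K.subtype⁆ ≤ K ∧ Cfsg.IsPReducedNormal p ((⁅V, (Cfsg.pResidual p ↥K).map K.subtype⁆).subgroupOf K) := by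
  open CfsgLib.Inv in
  open scoped commutatorElement in
  exact (by
    obtain ⟨hVn, hVe, -⟩ := reduced_iff.1 hV
    haveI := hVn
    haveI := CfsgLib.Solv.pCore_normal L p
    have hVp := reduced_isPGroup hV
    have hVab : ∀ a ∈ V, ∀ b ∈ V, a * b = b * a := fun a ha b hb =>
      congrArg Subtype.val (hVe.1.is_comm.comm (⟨a, ha⟩ : V) ⟨b, hb⟩)
    set O := (Cfsg.pResidual p ↥K).map K.subtype with hO
    set W := ⁅V, O⁆ with hW
    have hWV : W ≤ V := Subgroup.commutator_le_left _ _
    have hOK : O ≤ K := Subgroup.map_subtype_le _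
    have hmemO : ∀ x ∈ K, (orderOf x).Coprime p → x ∈ O := fun x hx hxo =>
      Subgroup.mem_map.2 ⟨⟨x, hx⟩, Subgroup.subset_closure (by simpa using hxo), rfl⟩
    set D := ⁅W, O⁆ with hD
    have hWD : W ≤ D := by
      have hDV : ∀ v ∈ V, ∀ d ∈ D, v * d * v⁻¹ = d := fun v hv d hd => by
        rw [hVab v hv d (((Subgroup.commutator_mono hWV le_rfl).trans (Subgroup.commutator_le_left _ _)) hd),
          mul_inv_cancel_right]
      have hDO : ∀ a ∈ O, ∀ d ∈ D, a * d * a⁻¹ ∈ D :=
        CfsgLib.Solv.le_normalizer_iff_forall_conj_mem.1 (CfsgLib.Solv.right_le_normalizer_commutator W O)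
      rw [hW, Subgroup.commutator_le]
      intro v hv o ho
      have hoO := ho
      obtain ⟨o', ho', rfl⟩ := ho
      clear hoO
      induction ho' using Subgroup.closure_induction generalizing v with
      | mem x hx =>
        have hxo : (orderOf (x : L)).Coprime p := by rw [Subgroup.orderOf_coe]; exact hx
        have hA : Subgroup.zpowers (x : L) ≤ Subgroup.normalizer (V : Set L) := by
          rw [Subgroup.normalizer_eq_top]; exact le_top
        obtain ⟨a, ha⟩ := IsPGroup.iff_card.1 hVp
        have hcop : (Nat.card (Subgroup.zpowers (x : L))).Coprime (Nat.card V) := by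
          rw [Nat.card_zpowers, ha]; exact hxo.pow_right a
        have hxO : (x : L) ∈ O := hmemO x x.2 hxo
        have h2 := CfsgLib.Solv.commutator_commutator_right hA hcop (Or.inl inferInstance)
        have h3 : ⁅⁅V, Subgroup.zpowers (x : L)⁆, Subgroup.zpowers (x : L)⁆ ≤ D :=
          Subgroup.commutator_mono (Subgroup.commutator_mono le_rfl (Subgroup.zpowers_le.2 hxO))
            (Subgroup.zpowers_le.2 hxO)
        rw [h2] at h3
        exact h3 (Subgroup.commutator_mem_commutator hv (Subgroup.mem_zpowers _))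
      | one => simp
      | mul a b hma hmb iha ihb =>
        have e : ⁅v, K.subtype (a * b)⁆ = ⁅v, K.subtype a⁆ * (K.subtype a * ⁅v, K.subtype b⁆ * (K.subtype a)⁻¹) := by
          rw [map_mul, commutatorElement_def, commutatorElement_def, commutatorElement_def]; group
        rw [e]
        exact mul_mem (iha v hv) (hDO _ (Subgroup.mem_map.2 ⟨a, hma, rfl⟩) _ (ihb v hv))
      | inv a hma iha =>
        have e : ⁅v, K.subtype a⁻¹⁆ = (K.subtype a)⁻¹ * ⁅v, K.subtype a⁆⁻¹ * (K.subtype a) := by
          rw [map_inv, commutatorElement_def, commutatorElement_def]; group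
        rw [e]
        simpa using hDO _ (inv_mem (Subgroup.mem_map.2 ⟨a, hma, rfl⟩)) _ (inv_mem (iha v hv))
    have hWK : W ≤ K := by
      obtain ⟨m, hm⟩ := exists_iterCommutator_le hK
      refine le_trans ?_ hm
      clear hm
      induction m with
      | zero => exact le_top
      | succ m ih => exact hWD.trans (Subgroup.commutator_mono ih hOK)
    refine ⟨hWK, ?_⟩
    haveI hWn : (W.subgroupOf K).Normal := by
      refine ⟨fun w hw k => ?_⟩
      have hKO : ∀ o ∈ O, (k : L) * o * (k : L)⁻¹ ∈ O := by
        have hKOn : K ≤ Subgroup.normalizer (O : Set L) := by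
          haveI : (Cfsg.pResidual p ↥K).Normal := by
            refine ⟨fun x hx g => ?_⟩
            have : (Cfsg.pResidual p ↥K).map (MulAut.conj g).toMonoidHom ≤ Cfsg.pResidual p ↥K := by
              rw [Cfsg.pResidual, MonoidHom.map_closure]
              refine Subgroup.closure_mono ?_
              rintro _ ⟨y, hy, rfl⟩
              rw [Set.mem_setOf_eq, orderOf_injective (MulAut.conj g).toMonoidHom (MulAut.conj g).injective]
              exact hy
            exact this (Subgroup.mem_map.2 ⟨x, hx, rfl⟩)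
          refine le_trans ?_ (Subgroup.le_normalizer_map K.subtype)
          rw [Subgroup.normalizer_eq_top, ← MonoidHom.range_eq_map, Subgroup.range_subtype]
        exact CfsgLib.Solv.le_normalizer_iff_forall_conj_mem.1 hKOn k k.2
      have hmap : W.map (MulAut.conj (k : L)).toMonoidHom ≤ W := by
        rw [hW, Subgroup.map_commutator]
        refine Subgroup.commutator_mono ?_ ?_
        · rintro _ ⟨v, hv, rfl⟩
          exact hVn.conj_mem v hv k
        · rintro _ ⟨o, ho, rfl⟩
          exact hKO o ho
      exact hmap (Subgroup.mem_map.2 ⟨w, hw, rfl⟩)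
    refine reduced_iff.2 ⟨hWn, ⟨⟨⟨fun a b => Subtype.ext (Subtype.ext
        (hVab _ (hWV a.2) _ (hWV b.2)))⟩⟩, fun a ha => Subtype.ext (hVe.2 _ (hWV ha))⟩,
      fun N hN hCN hel => ?_⟩
    -- coprime elements of N centralize V
    have hel' : ∀ x ∈ N, (orderOf x).Coprime p → (x : L) ∈ Subgroup.centralizer (V : Set L) := by
      intro x hx hxo
      have hxc := hel x hx hxo
      rw [← Subgroup.orderOf_coe] at hxo
      refine kill_of_nilpotent hVp hxo (by rw [Subgroup.normalizer_eq_top]; exact Subgroup.mem_top _)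
        (n := 2) ?_
      show ⁅⁅V, Subgroup.zpowers (x : L)⁆, Subgroup.zpowers (x : L)⁆ = ⊥
      rw [Subgroup.commutator_eq_bot_iff_le_centralizer, Subgroup.le_centralizer_iff, Subgroup.zpowers_le]
      have hle : ⁅V, Subgroup.zpowers (x : L)⁆ ≤ W :=
        Subgroup.commutator_mono le_rfl (Subgroup.zpowers_le.2 (hmemO x x.2 hxo))
      exact Subgroup.centralizer_le hle (Subgroup.mem_centralizer_iff.2 fun w hw =>
        congrArg Subtype.val (Subgroup.mem_centralizer_iff.1 hxc ⟨w, hWK hw⟩ hw))
    obtain ⟨hVn', -, hC, hpc⟩ := hV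
    set π := QuotientGroup.mk' (Subgroup.centralizer (V : Set L)) with hπ
    have hNsub : ((N.map K.subtype).map π).IsSubnormal :=
      (hN.isSubnormal.trans' hK).map (QuotientGroup.mk'_surjective _)
    have hp' : IsPGroup p ((N.map K.subtype).map π) := by
      refine isPGroup_of_elements fun y hy hyo => ?_
      obtain ⟨_, ⟨x, hx, rfl⟩, rfl⟩ := hy
      set a := (orderOf x).factorization p with ha
      have hxo : orderOf x ≠ 0 := (orderOf_pos x).ne'
      have h1 : ((x ^ p ^ a : K) : L) ∈ Subgroup.centralizer (V : Set L) := by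
        refine hel' _ (pow_mem hx _) ?_
        rw [orderOf_pow_of_dvd (pow_ne_zero _ (Fact.out : p.Prime).ne_zero) (Nat.ordProj_dvd _ _)]
        exact (Nat.coprime_ordCompl (Fact.out : p.Prime) hxo).symm
      have h2 : (π (K.subtype x)) ^ p ^ a = 1 := by
        rw [← map_pow, hπ, QuotientGroup.mk'_apply, QuotientGroup.eq_one_iff]; exact h1
      exact orderOf_eq_one_iff.1 (Nat.eq_one_of_dvd_coprimes (hyo.pow_right a) dvd_rfl
        (orderOf_dvd_of_pow_eq_one h2))
    have h3 := subnormal_pgroup_le_pCore hNsub hp'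
    rw [hpc, le_bot_iff, Subgroup.map_eq_bot_iff, hπ, QuotientGroup.ker_mk'] at h3
    intro x hx
    refine Subgroup.mem_centralizer_iff.2 fun w hw => Subtype.ext ?_
    exact Subgroup.mem_centralizer_iff.1 (h3 (Subgroup.mem_map.2 ⟨x, hx, rfl⟩)) w (hWV hw))

end Cfsg.Agent.S2804
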