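import Cfsg.Statements.S2805
import Cfsg.Agent.Inv.CharPLocal
import Cfsg.Agent.Perm.MinClass
import Cfsg.Agent.Solv.Basic

set_option autoImplicit false
open Cfsg

namespace Cfsg.Agent.S2805

theorem mem_omega_center {H : Type*} [Group H] {p : ℕ} {P : Subgroup H} {x : H} :
    x ∈ Cfsg.omegaOne p (P ⊓ Subgroup.centralizer (P : Set H)) ↔
      x ∈ P ∧ x ∈ Subgroup.centralizer (P : Set H) ∧ x ^ p = 1 := by
  refine ⟨fun h => ?_, fun h => Subgroup.subset_closure ⟨⟨h.1, h.2.1⟩, h.2.2⟩⟩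
  induction h using Subgroup.closure_induction with
  | mem a ha => exact ⟨ha.1.1, ha.1.2, ha.2⟩
  | one => exact ⟨one_mem _, one_mem _, one_pow p⟩
  | mul a b _ _ ha hb =>
    refine ⟨mul_mem ha.1 hb.1, mul_mem ha.2.1 hb.2.1, ?_⟩
    rw [(show Commute a b from (Subgroup.mem_centralizer_iff.1 ha.2.1 b hb.1).symm).mul_pow, ha.2.2, hb.2.2, one_mul]
  | inv a _ ha => exact ⟨inv_mem ha.1, inv_mem ha.2.1, by rw [inv_pow, ha.2.2, inv_one]⟩

/-- Averaging over the cosets of `Q` in `X`. -/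
theorem exists_avg {H : Type*} [Group H] [Finite H] {A X Q : Subgroup H}
    (hA : ∀ a ∈ A, ∀ b ∈ A, a * b = b * a) (hXA : X ≤ Subgroup.normalizer (A : Set H)) (hQX : Q ≤ X) :
    ∃ f : ↥A →* ↥A,
      (∀ a : ↥A, (∀ q ∈ Q, q * (a : H) = a * q) → ∀ x ∈ X, x * (f a : H) = f a * x) ∧
      (∀ a : ↥A, (∀ x ∈ X, x * (a : H) = a * x) → f a = a ^ Q.relIndex X) ∧
      (∀ (a : ↥A) (U : Subgroup H), (∀ x ∈ X, x * (a : H) * x⁻¹ * (a : H)⁻¹ ∈ U) →
        (f a : H) * ((a : H) ^ Q.relIndex X)⁻¹ ∈ U) ∧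
      (∀ (a b : ↥A) (t : H), t ∈ Subgroup.normalizer (X : Set H) → t ∈ Subgroup.normalizer (Q : Set H) →
        (∀ q ∈ Q, q * (a : H) = a * q) → (∀ q ∈ Q, q * (b : H) = b * q) → (b : H) = t * a * t⁻¹ →
          (f b : H) = t * f a * t⁻¹) := by
  classical
  letI : CommGroup ↥A := { (inferInstance : Group ↥A) with mul_comm := fun a b => Subtype.ext (hA a a.2 b b.2) }
  let Z := ↥X ⧸ Q.subgroupOf X
  haveI : Fintype Z := Fintype.ofFinite Z
  let φ : ↥X → (↥A →* ↥A) := fun x =>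
    { toFun := fun a => ⟨(x : H) * a * (x : H)⁻¹, (Subgroup.mem_normalizer_iff.1 (hXA x.2) a).1 a.2⟩
      map_one' := Subtype.ext (by simp)
      map_mul' := fun a b => Subtype.ext (by
        show (x : H) * ((a : H) * b) * (x : H)⁻¹ = (x : H) * a * (x : H)⁻¹ * ((x : H) * b * (x : H)⁻¹)
        group) }
  let f : ↥A →* ↥A := ∏ z : Z, φ z.out
  have hf : ∀ a, f a = ∏ z : Z, φ z.out a := fun a => by simp [f, MonoidHom.finsetProd_apply]
  have hrep : ∀ (a : ↥A), (∀ q ∈ Q, q * (a : H) = a * q) → ∀ (x : ↥X), φ ((x : Z).out) a = φ x a := by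
    intro a ha x
    obtain ⟨q, hq⟩ := QuotientGroup.mk_out_eq_mul (Q.subgroupOf X) x
    refine Subtype.ext ?_
    show (((x : Z).out : ↥X) : H) * a * (((x : Z).out : ↥X) : H)⁻¹ = (x : H) * a * (x : H)⁻¹
    rw [hq, Subgroup.coe_mul, mul_inv_rev]
    have e := ha ((q : ↥X) : H) q.2
    rw [mul_assoc (x : H) _ (a : H), e]
    group
  have hidx : Fintype.card Z = Q.relIndex X := by
    rw [← Nat.card_eq_fintype_card, ← Subgroup.index_eq_card]; rfl
  refine ⟨f, fun a ha x hx => ?_, fun a ha => ?_, fun a U hU => ?_, fun a b t htX htQ ha hb hab => ?_⟩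
  · have key : φ ⟨x, hx⟩ (f a) = f a := by
      rw [hf, map_prod]
      refine Fintype.prod_equiv (MulAction.toPerm (⟨x, hx⟩ : ↥X)) _ _ fun z => ?_
      induction z using QuotientGroup.induction_on with
      | _ r =>
        show φ ⟨x, hx⟩ (φ ((r : Z).out) a) = φ (((⟨x, hx⟩ * r : ↥X) : Z).out) a
        rw [hrep a ha r, hrep a ha (⟨x, hx⟩ * r)]
        refine Subtype.ext ?_
        show x * ((r : H) * a * (r : H)⁻¹) * x⁻¹ = x * (r : H) * a * (x * (r : H))⁻¹
        group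
    exact mul_inv_eq_iff_eq_mul.1 (congrArg Subtype.val key)
  · rw [hf, Finset.prod_congr rfl (g := fun _ => a) (fun z _ => Subtype.ext (by
      show ((z.out : ↥X) : H) * a * ((z.out : ↥X) : H)⁻¹ = a
      rw [ha _ z.out.2, mul_inv_cancel_right])), Finset.prod_const, Finset.card_univ, hidx]
  · have h : (∏ z : Z, φ z.out a * a⁻¹) ∈ U.subgroupOf A := prod_mem fun z _ => hU _ z.out.2
    rw [Finset.prod_mul_distrib, Finset.prod_const, Finset.card_univ, hidx, ← hf, inv_pow] at h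
    simpa [Subgroup.mem_subgroupOf] using h
  · have hX' : ∀ x : ↥X, t * (x : H) * t⁻¹ ∈ X := fun x => (Subgroup.mem_normalizer_iff.1 htX x).1 x.2
    let g : Z → Z := fun z => Quotient.liftOn' z (fun x => ((⟨_, hX' x⟩ : ↥X) : Z)) (fun x y h => by
      rw [QuotientGroup.leftRel_apply, Subgroup.mem_subgroupOf] at h
      refine QuotientGroup.eq.2 ?_
      rw [Subgroup.mem_subgroupOf]
      show (t * (x : H) * t⁻¹)⁻¹ * (t * (y : H) * t⁻¹) ∈ Q
      rw [show (t * (x : H) * t⁻¹)⁻¹ * (t * (y : H) * t⁻¹) = t * ((x : H)⁻¹ * y) * t⁻¹ by group]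
      exact (Subgroup.mem_normalizer_iff.1 htQ _).1 h)
    have hginj : Function.Injective g := by
      intro z w h
      induction z using QuotientGroup.induction_on with
      | _ x =>
      induction w using QuotientGroup.induction_on with
      | _ y =>
        have h' : ((⟨_, hX' x⟩ : ↥X)⁻¹ * ⟨_, hX' y⟩) ∈ Q.subgroupOf X := QuotientGroup.eq.1 h
        refine QuotientGroup.eq.2 ?_
        rw [Subgroup.mem_subgroupOf] at h' ⊢
        refine (Subgroup.mem_normalizer_iff.1 htQ _).2 ?_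
        have h'' : (t * (x : H) * t⁻¹)⁻¹ * (t * (y : H) * t⁻¹) ∈ Q := h'
        rwa [show (t * (x : H) * t⁻¹)⁻¹ * (t * (y : H) * t⁻¹) = t * ((x : H)⁻¹ * y) * t⁻¹ by group] at h''
    let ι : Z ≃ Z := Equiv.ofBijective g (Finite.injective_iff_bijective.1 hginj)
    have key : f b = ∏ z : Z, φ (ι z).out b := by rw [hf]; exact (Equiv.prod_comp ι (fun z => φ z.out b)).symm
    let c : ↥A → H := fun u => u
    have hterm : ∀ z : Z, (φ (ι z).out b : H) = t * (φ z.out a : H) * t⁻¹ := by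
      intro z
      induction z using QuotientGroup.induction_on with
      | _ x =>
        have e : φ ((⟨_, hX' x⟩ : ↥X) : Z).out b = φ ⟨_, hX' x⟩ b := hrep b hb _
        show ((φ (((⟨_, hX' x⟩ : ↥X) : Z)).out b : ↥A) : H) = _
        rw [e, hrep a ha x]
        show t * (x : H) * t⁻¹ * b * (t * (x : H) * t⁻¹)⁻¹ = t * ((x : H) * a * (x : H)⁻¹) * t⁻¹
        rw [hab]; group
    rw [key, hf, ← Subgroup.subtype_apply, ← Subgroup.subtype_apply]
    have hgen : ∀ s : Finset Z, ((∏ z ∈ s, φ (ι z).out b : ↥A) : H) = t * ((∏ z ∈ s, φ z.out a : ↥A) : H) * t⁻¹ := by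
      intro s
      induction s using Finset.induction with
      | empty => simp
      | @insert z s hz ih =>
        rw [Finset.prod_insert hz, Finset.prod_insert hz, Subgroup.coe_mul, Subgroup.coe_mul, hterm, ih]
        group
    exact hgen Finset.univ

theorem elem_of_pow {H : Type*} [Group H] {p n : ℕ} [hp : Fact p.Prime] (hn : ¬ p ∣ n) {U : Subgroup H} {a : H}
    (hap : a ^ p = 1) (h : a ^ n ∈ U) : a ∈ U := by
  obtain ⟨m, -, hm⟩ := Nat.exists_mul_mod_eq_one_of_coprime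
    ((hp.out.coprime_iff_not_dvd.2 hn).symm) hp.out.one_lt
  have e : a = (a ^ n) ^ m := by
    rw [← pow_mul, ← Nat.mod_add_div (n * m) p, hm, pow_add, pow_mul, hap, one_pow, mul_one, pow_one]
  rw [e]; exact pow_mem h m

open CfsgLib.Inv in
theorem omega_core {H : Type*} [Group H] [Finite H] {p : ℕ} [Fact p.Prime] {K P : Subgroup H}
    (hK : Subgroup.centralizer (Cfsg.pCore p ↥K : Set ↥K) ≤ Cfsg.pCore p ↥K)
    (hP : IsPGroup p P) (hPK : P ≤ K) (hidx : ¬ p ∣ P.relIndex K) :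
    ∃ V : Subgroup H, V ≤ P ∧ K ≤ Subgroup.normalizer (V : Set H) ∧ (∀ a ∈ V, ∀ b ∈ V, a * b = b * a) ∧
      (∀ a ∈ V, a ^ p = 1) ∧ Cfsg.omegaOne p (P ⊓ Subgroup.centralizer (P : Set H)) ≤ V := by
  haveI := CfsgLib.Solv.pCore_normal ↥K p
  set O := (Cfsg.pCore p ↥K).map K.subtype with hO
  set V := Cfsg.omegaOne p (O ⊓ Subgroup.centralizer (O : Set H)) with hV
  let S : Sylow p ↥K := (hP.of_equiv (Subgroup.subgroupOfEquivOfLe hPK).symm).toSylow hidx
  have hOP : O ≤ P := by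
    rintro _ ⟨x, hx, rfl⟩
    exact CfsgLib.Solv.pCore_le_sylow S hx
  refine ⟨V, fun x hx => hOP (mem_omega_center.1 hx).1, ?_, fun a ha b hb => ?_, fun a ha => (mem_omega_center.1 ha).2.2, ?_⟩
  · refine CfsgLib.Solv.le_normalizer_iff_forall_conj_mem.2 fun k hk a ha => ?_
    obtain ⟨h1, h2, h3⟩ := mem_omega_center.1 ha
    have hOk : ∀ (k : H), k ∈ K → ∀ o ∈ O, k * o * k⁻¹ ∈ O := by
      rintro k hk _ ⟨o, ho, rfl⟩
      exact ⟨⟨k, hk⟩ * o * (⟨k, hk⟩ : ↥K)⁻¹, (inferInstance : (Cfsg.pCore p ↥K).Normal).conj_mem o ho _, rfl⟩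
    refine mem_omega_center.2 ⟨hOk k hk a h1, Subgroup.mem_centralizer_iff.2 fun o ho => ?_, by
      rw [conj_pow, h3, mul_one, mul_inv_cancel]⟩
    have e := Subgroup.mem_centralizer_iff.1 h2 (k⁻¹ * o * k) (by simpa using hOk k⁻¹ (inv_mem hk) o ho)
    calc o * (k * a * k⁻¹) = k * (k⁻¹ * o * k * a) * k⁻¹ := by group
      _ = k * (a * (k⁻¹ * o * k)) * k⁻¹ := by rw [e]
      _ = k * a * k⁻¹ * o := by group
  · exact (Subgroup.mem_centralizer_iff.1 (mem_omega_center.1 hb).2.1 a (mem_omega_center.1 ha).1)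
  · intro x hx
    obtain ⟨h1, h2, h3⟩ := mem_omega_center.1 hx
    have hxO : (⟨x, hPK h1⟩ : ↥K) ∈ Cfsg.pCore p ↥K := hK (Subgroup.mem_centralizer_iff.2 fun o ho =>
      Subtype.ext (Subgroup.mem_centralizer_iff.1 h2 (o : H) (hOP (Subgroup.mem_map_of_mem _ ho))))
    exact mem_omega_center.2 ⟨⟨_, hxO, rfl⟩, Subgroup.centralizer_le (SetLike.coe_subset_coe.2 hOP) h2, h3⟩

open CfsgLib.Inv in
theorem kieler_normal {H : Type*} [Group H] [Finite H] {p : ℕ} [hp : Fact p.Prime] {K L P : Subgroup H}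
    (hLK : L ≤ K) (hn : K ≤ Subgroup.normalizer (L : Set H))
    (hK : Subgroup.centralizer (Cfsg.pCore p ↥K : Set ↥K) ≤ Cfsg.pCore p ↥K)
    (hP : IsPGroup p P) (hPK : P ≤ K) (hidx : ¬ p ∣ P.relIndex K) (hidxL : ¬ p ∣ (P ⊓ L).relIndex L) :
    L ⊓ Subgroup.centralizer ((Cfsg.omegaOne p (P ⊓ Subgroup.centralizer (P : Set H))) : Set H) =
    L ⊓ Subgroup.centralizer ((Cfsg.omegaOne p ((P ⊓ L) ⊓ Subgroup.centralizer ((P ⊓ L : Subgroup H) : Set H))) : Set H) := by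
  obtain ⟨V, hVP, hKV, hVc, hVp, hWV⟩ := omega_core hK hP hPK hidx
  obtain ⟨U, hUP, hLU, hUc, hUp, hWU⟩ := omega_core (K := L) (P := P ⊓ L) (charP_normal hLK hn hK)
    (hP.to_le inf_le_left) inf_le_right hidxL
  set W := Cfsg.omegaOne p (P ⊓ Subgroup.centralizer (P : Set H)) with hW
  set WL := Cfsg.omegaOne p ((P ⊓ L) ⊓ Subgroup.centralizer ((P ⊓ L : Subgroup H) : Set H)) with hWL
  have hPLX : ∀ (Y : Subgroup H), (∀ y ∈ Y, y ∈ P ∧ ∀ q ∈ P ⊓ L, q * y = y * q) →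
      P ⊓ L ≤ L ⊓ Subgroup.centralizer (Y : Set H) := fun Y hY q hq =>
    ⟨hq.2, Subgroup.mem_centralizer_iff.2 fun y hy => ((hY y hy).2 q hq).symm⟩
  have hidx' : ∀ Z : Subgroup H, P ⊓ L ≤ Z → Z ≤ L → ¬ p ∣ (P ⊓ L).relIndex Z := fun Z h1 h2 hd => hidxL (by
    rw [← Subgroup.relIndex_mul_relIndex _ Z L h1 h2]
    exact hd.mul_right _)
  refine le_antisymm ?_ ?_
  · -- `C_L(W)` centralises `WL`
    set X := L ⊓ Subgroup.centralizer (W : Set H) with hX
    have hPX : P ⊓ L ≤ X := hPLX W fun y hy =>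
      ⟨(mem_omega_center.1 hy).1, fun q hq => Subgroup.mem_centralizer_iff.1 (mem_omega_center.1 hy).2.1 q hq.1⟩
    have hXn : ∀ t ∈ P, t ∈ Subgroup.normalizer (X : Set H) := by
      intro t ht
      refine Subgroup.mem_normalizer_fintype ?_
      rintro x ⟨hxL, hxW⟩
      refine Subgroup.mem_inf.2 ⟨(Subgroup.mem_normalizer_iff.1 (hn (hPK ht)) x).1 hxL,
        Subgroup.mem_centralizer_iff.2 fun w hw => ?_⟩
      have e1 : t * w = w * t := Subgroup.mem_centralizer_iff.1 (mem_omega_center.1 hw).2.1 t ht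
      have e2 : w * x = x * w := Subgroup.mem_centralizer_iff.1 hxW w hw
      calc w * (t * x * t⁻¹) = t * w * x * t⁻¹ := by rw [e1]; group
        _ = t * x * (w * t⁻¹) := by rw [mul_assoc t w x, e2]; group
        _ = t * x * (t⁻¹ * w) := by rw [show w * t⁻¹ = t⁻¹ * w from ((show Commute t w from e1).inv_left).eq.symm]
        _ = t * x * t⁻¹ * w := by group
    have hQn : ∀ t ∈ P, t ∈ Subgroup.normalizer ((P ⊓ L : Subgroup H) : Set H) := fun t ht =>
      Subgroup.mem_normalizer_fintype fun q hq => Subgroup.mem_inf.2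
        ⟨mul_mem (mul_mem ht hq.1) (inv_mem ht), (Subgroup.mem_normalizer_iff.1 (hn (hPK ht)) q).1 hq.2⟩
    obtain ⟨f, hf1, hf2, -, hf4⟩ := exists_avg hUc (inf_le_left.trans hLU : X ≤ _) hPX
    refine le_inf inf_le_left fun x hx => Subgroup.mem_centralizer_iff.2 fun m hm => ?_
    -- the kernel of the averaging map
    have hWLfix : ∀ a ∈ WL, ∀ q ∈ P ⊓ L, q * a = a * q := fun a ha q hq =>
      Subgroup.mem_centralizer_iff.1 (mem_omega_center.1 ha).2.1 q hq
    let M0 : Subgroup H :=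
      { carrier := {a | ∃ ha : a ∈ WL, f ⟨a, hWU ha⟩ = 1}
        one_mem' := ⟨one_mem _, by rw [show (⟨1, hWU (one_mem _)⟩ : ↥U) = 1 from rfl, map_one]⟩
        mul_mem' := fun {a b} ⟨ha, ha'⟩ ⟨hb, hb'⟩ => ⟨mul_mem ha hb, by
          rw [show (⟨a * b, hWU (mul_mem ha hb)⟩ : ↥U) = ⟨a, hWU ha⟩ * ⟨b, hWU hb⟩ from rfl, map_mul, ha', hb', mul_one]⟩
        inv_mem' := fun {a} ⟨ha, ha'⟩ => ⟨inv_mem ha, by
          rw [show (⟨a⁻¹, hWU (inv_mem ha)⟩ : ↥U) = (⟨a, hWU ha⟩)⁻¹ from rfl, map_inv, ha', inv_one]⟩ }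
    have hM0P : M0 ≤ P := fun a ⟨ha, _⟩ => (mem_omega_center.1 ha).1.1
    have hM0 : M0 = ⊥ := by
      by_contra hne
      haveI : (M0.subgroupOf P).Normal := ⟨fun a ha t => by
        obtain ⟨ha', hfa⟩ := Subgroup.mem_subgroupOf.1 ha
        obtain ⟨h1, h2, h3⟩ := mem_omega_center.1 ha'
        have hb : (t : H) * a * (t : H)⁻¹ ∈ WL := by
          refine mem_omega_center.2 ⟨(Subgroup.mem_normalizer_iff.1 (hQn t t.2) _).1 h1,
            Subgroup.mem_centralizer_iff.2 fun q hq => ?_, by rw [conj_pow, h3, mul_one, mul_inv_cancel]⟩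
          have e := Subgroup.mem_centralizer_iff.1 h2 ((t : H)⁻¹ * q * t)
            (by simpa using (Subgroup.mem_normalizer_iff.1 (inv_mem (hQn t t.2)) q).1 hq)
          calc q * ((t : H) * a * (t : H)⁻¹) = t * ((t : H)⁻¹ * q * t * a) * (t : H)⁻¹ := by group
            _ = t * ((a : H) * ((t : H)⁻¹ * q * t)) * (t : H)⁻¹ := by rw [e]
            _ = (t : H) * a * (t : H)⁻¹ * q := by group
        refine Subgroup.mem_subgroupOf.2 ⟨hb, Subtype.ext ?_⟩
        show (f ⟨(t : H) * a * (t : H)⁻¹, hWU hb⟩ : H) = ((1 : ↥U) : H)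
        rw [hf4 ⟨a, hWU ha'⟩ ⟨_, hWU hb⟩ t (hXn t t.2) (hQn t t.2) (hWLfix _ ha') (hWLfix _ hb) rfl, hfa]
        simp⟩
      have hne' : M0.subgroupOf P ≠ ⊥ := fun h => hne (by
        rw [Subgroup.subgroupOf_eq_bot, disjoint_iff, inf_of_le_left hM0P] at h; exact h)
      have h := CfsgLib.Perm.inf_center_ne_bot hP (M0.subgroupOf P) hne'
      obtain ⟨z, hz, hz1⟩ := (Subgroup.bot_or_exists_ne_one _).resolve_left h
      obtain ⟨hzM, hzc⟩ := Subgroup.mem_inf.1 hz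
      obtain ⟨hzWL, hfz⟩ := Subgroup.mem_subgroupOf.1 hzM
      have hzW : (z : H) ∈ W := mem_omega_center.2 ⟨z.2, Subgroup.mem_centralizer_iff.2 fun t ht =>
        congrArg Subtype.val (Subgroup.mem_center_iff.1 hzc ⟨t, ht⟩), (mem_omega_center.1 hzWL).2.2⟩
      have hpow := hf2 ⟨z, hWU hzWL⟩ (fun x hx => (Subgroup.mem_centralizer_iff.1 hx.2 _ hzW).symm)
      rw [hfz] at hpow
      have h1 : (z : H) ^ (P ⊓ L).relIndex X ∈ (⊥ : Subgroup H) :=
        Subgroup.mem_bot.2 (congrArg Subtype.val hpow).symm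
      exact hz1 (Subtype.ext (Subgroup.mem_bot.1 (elem_of_pow (hidx' X hPX inf_le_left) (mem_omega_center.1 hzWL).2.2 h1)))
    set a : ↥U := ⟨m, hWU hm⟩ with ha
    set n := (P ⊓ L).relIndex X with hn'
    have hfix := hf1 a (hWLfix m hm)
    have hfm : (f a : H) ∈ WL := mem_omega_center.2 ⟨hUP (f a).2,
      Subgroup.mem_centralizer_iff.2 fun q hq => hfix q (hPX hq), hUp _ (f a).2⟩
    have hker : (m ^ n * ((f a : ↥U) : H)⁻¹) ∈ M0 := ⟨mul_mem (pow_mem hm n) (inv_mem hfm), by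
      rw [show (⟨m ^ n * ((f a : ↥U) : H)⁻¹, _⟩ : ↥U) = a ^ n * (f a)⁻¹ from rfl, map_mul, map_pow, map_inv,
        hf2 (f a) hfix, mul_inv_cancel]⟩
    rw [hM0, Subgroup.mem_bot, mul_inv_eq_one] at hker
    have hmem : m ^ n ∈ Subgroup.centralizer (X : Set H) := Subgroup.mem_centralizer_iff.2 fun y hy => by
      rw [hker]; exact hfix y hy
    exact (Subgroup.mem_centralizer_iff.1 (elem_of_pow (hidx' X hPX inf_le_left) (mem_omega_center.1 hm).2.2 hmem) x hx).symm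
  · -- `C_L(WL)` centralises `W`
    set X := L ⊓ Subgroup.centralizer (WL : Set H) with hX
    have hPX : P ⊓ L ≤ X := hPLX WL fun y hy =>
      ⟨(mem_omega_center.1 hy).1.1, fun q hq => Subgroup.mem_centralizer_iff.1 (mem_omega_center.1 hy).2.1 q hq⟩
    obtain ⟨f, hf1, -, hf3, -⟩ := exists_avg hVc ((inf_le_left.trans hLK).trans hKV : X ≤ _) hPX
    refine le_inf inf_le_left fun x hx => Subgroup.mem_centralizer_iff.2 fun w hw => ?_
    obtain ⟨hwP, hwC, hwp⟩ := mem_omega_center.1 hw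
    have hfixw : ∀ q ∈ P ⊓ L, q * w = w * q := fun q hq => Subgroup.mem_centralizer_iff.1 hwC q hq.1
    have hfix := hf1 ⟨w, hWV hw⟩ hfixw
    set n := (P ⊓ L).relIndex X with hn'
    have hd : (f ⟨w, hWV hw⟩ : H) * (w ^ n)⁻¹ ∈ L := hf3 _ L fun y hy => by
      show y * w * y⁻¹ * w⁻¹ ∈ L
      rw [show y * w * y⁻¹ * w⁻¹ = y * (w * y⁻¹ * w⁻¹) by group]
      exact mul_mem hy.1 ((Subgroup.mem_normalizer_iff.1 (hn (hPK hwP)) _).1 (inv_mem hy.1))
    set d := (f ⟨w, hWV hw⟩ : H) * (w ^ n)⁻¹ with hd'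
    have hdV : d ∈ V := mul_mem (f _).2 (inv_mem (pow_mem (hWV hw) n))
    have hdWL : d ∈ WL := mem_omega_center.2 ⟨⟨hVP hdV, hd⟩, Subgroup.mem_centralizer_iff.2 fun q hq =>
      ((show Commute q _ from hfix q (hPX hq)).mul_right
        ((show Commute q w from hfixw q hq).pow_right n).inv_right).eq, hVp d hdV⟩
    have hmem : w ^ n ∈ Subgroup.centralizer (X : Set H) := by
      have hwn : w ^ n = d⁻¹ * (f ⟨w, hWV hw⟩ : H) := by rw [hd']; group
      rw [hwn]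
      refine mul_mem (inv_mem (Subgroup.mem_centralizer_iff.2 fun y hy => ?_))
        (Subgroup.mem_centralizer_iff.2 fun y hy => hfix y hy)
      exact (Subgroup.mem_centralizer_iff.1 hy.2 d hdWL).symm
    exact (Subgroup.mem_centralizer_iff.1 (elem_of_pow (hidx' X hPX inf_le_left) hwp hmem) x hx).symm

open CfsgLib.Inv in
theorem kieler {H : Type*} [Group H] [Finite H] {p : ℕ} [hp : Fact p.Prime]
    (hH : Subgroup.centralizer (Cfsg.pCore p H : Set H) ≤ Cfsg.pCore p H) (T : Sylow p H) (L : Subgroup H)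
    (hL : L.IsSubnormal) :
    L ⊓ Subgroup.centralizer ((Cfsg.omegaOne p ((T : Subgroup H) ⊓ Subgroup.centralizer ((T : Subgroup H) : Set H))) : Set H) =
    L ⊓ Subgroup.centralizer ((Cfsg.omegaOne p (((T : Subgroup H) ⊓ L) ⊓ Subgroup.centralizer ((((T : Subgroup H) ⊓ L) : Subgroup H) : Set H))) : Set H) := by
  have hidx : ∀ Y : Subgroup H, Y.IsSubnormal → ¬ p ∣ ((T : Subgroup H) ⊓ Y).relIndex Y := by
    intro Y hY hd
    obtain ⟨S, hS⟩ := sylow_subnormal T hY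
    rw [← hS, Subgroup.relIndex, Subgroup.subgroupOf, Subgroup.comap_map_eq_self_of_injective Y.subtype_injective] at hd
    exact S.not_dvd_index hd
  induction hL with
  | top => simp only [inf_top_eq]
  | step L K hLK hsn hn ih =>
    have hn' := (Subgroup.normal_subgroupOf_iff_le_normalizer hLK).1 hn
    have he : (T : Subgroup H) ⊓ K ⊓ L = (T : Subgroup H) ⊓ L := by
      rw [inf_assoc, inf_of_le_right hLK]
    have hLsn : L.IsSubnormal := Subgroup.IsSubnormal.step _ _ hLK hsn hn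
    have h := kieler_normal (P := (T : Subgroup H) ⊓ K) hLK hn' (charP_subnormal hH hsn)
      (T.isPGroup'.to_le inf_le_left) inf_le_right (hidx K hsn) (by rw [he]; exact hidx L hLsn)
    rw [he] at h
    rw [← h, ← inf_eq_left.2 hLK, inf_assoc, ih, ← inf_assoc]

/-- Kieler's Lemma: let H be a finite group of characteristic p (C_H(O_p(H)) ≤ O_p(H)), T a Sylow p-subgroup of H and L a subnormal subgroup of H. Then C_L(Ω₁(Z(T))) = C_L(Ω₁(Z(T ∩ L))), Ω₁(Z(·)) denoting the elements of order dividing p in the centre. -/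
theorem result {H : Type*} [Group H] [Finite H] {p : ℕ} [Fact p.Prime] (hH : Subgroup.centralizer (Cfsg.pCore p H : Set H) ≤ Cfsg.pCore p H) (T : Sylow p H) (L : Subgroup H) (hL : L.IsSubnormal) : L ⊓ Subgroup.centralizer ((Cfsg.omegaOne p ((T : Subgroup H) ⊓ Subgroup.centralizer ((T : Subgroup H) : Set H))) : Set H) = L ⊓ Subgroup.centralizer ((Cfsg.omegaOne p (((T : Subgroup H) ⊓ L) ⊓ Subgroup.centralizer ((((T : Subgroup H) ⊓ L) : Subgroup H) : Set H))) : Set H) := by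
  exact kieler hH T L hL

end Cfsg.Agent.S2805
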