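import Cfsg.Statements.S3028
import Cfsg.Agent.Inv.CharPLocal
import Cfsg.Agent.Solv.SubnormalJoin
import Cfsg.Agent.Solv.Gaschutz

set_option autoImplicit false
open Cfsg

namespace Cfsg.Agent.S3028

open scoped Pointwise
universe u

open CfsgLib.Solv

/-- Images of Sylow intersections with a subnormal subgroup. -/
theorem map_inf_sylow {p : ℕ} [Fact p.Prime] {G G' : Type*} [Group G] [Finite G] [Group G'] [Finite G']
    (T : Sylow p G) {L : Subgroup G} (hL : L.IsSubnormal) (f : G →* G') :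
    (T : Subgroup G).map f ⊓ L.map f = ((T : Subgroup G) ⊓ L).map f := by
  refine le_antisymm ?_ (Subgroup.map_inf_le _ _ f)
  obtain ⟨P, hP⟩ := CfsgLib.Inv.sylow_subnormal T hL
  have hg : Function.Surjective (f.subgroupMap L) := f.subgroupMap_surjective L
  set R := P.mapSurjective hg with hR
  have hX : IsPGroup p ↥(((T : Subgroup G).map f).subgroupOf (L.map f)) :=
    (T.isPGroup'.map f).comap_subtype
  have hle : (R : Subgroup ↥(L.map f)) ≤ ((T : Subgroup G).map f).subgroupOf (L.map f) := by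
    intro x hx
    rw [hR, Sylow.coe_mapSurjective] at hx
    obtain ⟨y, hy, rfl⟩ := hx
    exact Subgroup.mem_map_of_mem f
      (Subgroup.mem_inf.1 (hP ▸ Subgroup.mem_map_of_mem L.subtype hy)).1
  have heq := R.3 hX hle
  rintro x ⟨hxT, hxL⟩
  have h : (⟨x, hxL⟩ : ↥(L.map f)) ∈ (R : Subgroup ↥(L.map f)) := heq ▸ hxT
  rw [hR, Sylow.coe_mapSurjective] at h
  obtain ⟨y, hy, hyx⟩ := h
  exact ⟨(y : G), hP ▸ Subgroup.mem_map_of_mem L.subtype hy, congrArg Subtype.val hyx⟩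

/-- The Sylow subgroups of a product of two normal subgroups. -/
theorem sylow_le_of_normal {p : ℕ} [Fact p.Prime] {N : Type*} [Group N] [Finite N] (P : Sylow p N)
    {X Y : Subgroup N} [X.Normal] [hY : Y.Normal] (hXY : X ⊔ Y = ⊤) :
    (P : Subgroup N) ≤ ((P : Subgroup N) ⊓ X) ⊔ ((P : Subgroup N) ⊓ Y) := by
  set f := QuotientGroup.mk' X
  have hfY : Y.map f = ⊤ := by
    have h : (X ⊔ Y).map f = ⊤ := by
      rw [hXY]; exact Subgroup.map_top_of_surjective f (QuotientGroup.mk'_surjective X)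
    rwa [Subgroup.map_sup, (Subgroup.map_eq_bot_iff X).2 (QuotientGroup.ker_mk' X).ge, bot_sup_eq] at h
  intro s hs
  have h : f s ∈ (P : Subgroup N).map f ⊓ Y.map f :=
    ⟨Subgroup.mem_map_of_mem f hs, hfY ▸ Subgroup.mem_top _⟩
  rw [map_inf_sylow P hY.isSubnormal f] at h
  obtain ⟨y, hy, hys⟩ := h
  rw [← mul_inv_cancel_left y s]
  exact mul_mem (Subgroup.mem_sup_right hy)
    (Subgroup.mem_sup_left (Subgroup.mem_inf.2 ⟨Subgroup.mul_mem _ (Subgroup.inv_mem _ hy.1) hs, QuotientGroup.eq.1 hys⟩))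

theorem sylow_join_aux {p : ℕ} [hp : Fact p.Prime] : ∀ (n : ℕ) (G : Type u) [Group G] [Finite G],
    Nat.card G ≤ n → ∀ (S : Sylow p G) (A₁ A₂ : Subgroup G), A₁.IsSubnormal → A₂.IsSubnormal →
      (A₁ ⊔ A₂) ⊓ (S : Subgroup G) ≤ (A₁ ⊓ (S : Subgroup G)) ⊔ (A₂ ⊓ (S : Subgroup G)) := by
  intro n
  induction n with
  | zero => exact fun G _ _ h => absurd h (Nat.card_pos (α := G)).not_ge
  | succ n ih =>
  intro G _ _ hn S A₁ A₂ h₁ h₂
  by_cases htop : A₁ ⊔ A₂ = ⊤
  swap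
  · set J := A₁ ⊔ A₂ with hJ
    obtain ⟨P, hP⟩ := CfsgLib.Inv.sylow_subnormal S (isSubnormal_sup h₁ h₂)
    have h := ih ↥J (Nat.le_of_lt_succ ((card_lt_of_ne_top htop).trans_le hn)) P
      (A₁.subgroupOf J) (A₂.subgroupOf J) h₁.subgroupOf h₂.subgroupOf
    rintro x ⟨hxJ, hxS⟩
    have hxP : (⟨x, hxJ⟩ : ↥J) ∈ (P : Subgroup ↥J) := by
      have : x ∈ (P : Subgroup ↥J).map J.subtype := hP ▸ Subgroup.mem_inf.2 ⟨hxS, hxJ⟩
      obtain ⟨y, hy, hyx⟩ := this
      rwa [show (⟨x, hxJ⟩ : ↥J) = y from Subtype.ext hyx.symm]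
    have hx := h ⟨by
      show (⟨x, hxJ⟩ : ↥J) ∈ A₁.subgroupOf J ⊔ A₂.subgroupOf J
      rw [← Subgroup.subgroupOf_sup le_sup_left le_sup_right, Subgroup.mem_subgroupOf]
      exact hxJ, hxP⟩
    have hx' := Subgroup.mem_map_of_mem J.subtype hx
    rw [Subgroup.map_sup] at hx'
    refine SetLike.le_def.1 (sup_le_sup ?_ ?_) hx' <;>
      exact fun y ⟨z, hz, hzy⟩ => hzy ▸ ⟨hz.1, (Subgroup.mem_inf.1 (hP ▸ Subgroup.mem_map_of_mem _ hz.2)).1⟩
  rw [htop, top_inf_eq]
  set W := (A₁ ⊓ (S : Subgroup G)) ⊔ (A₂ ⊓ (S : Subgroup G)) with hW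
  rcases subsingleton_or_nontrivial G with hs | hs
  · exact fun x _ => Subsingleton.elim (1 : G) x ▸ one_mem W
  -- analysis at a minimal normal subgroup
  have key : ∀ N : Subgroup G, IsMinimalNormal N →
      (S : Subgroup G) ≤ W ∨ (N ≤ Subgroup.center G ∧ Nat.card N = p ∧ N ≤ (S : Subgroup G) ∧
        ¬ N ≤ W ∧ N ⊓ A₁ = ⊥ ∧ N ⊓ A₂ = ⊥ ∧ (S : Subgroup G) ≤ W ⊔ N) := by
    intro N hN
    haveI := hN.1
    set f := QuotientGroup.mk' N with hf
    have hfs : Function.Surjective f := QuotientGroup.mk'_surjective N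
    have hq := ih (G ⧸ N) (Nat.le_of_lt_succ ((card_quotient_lt hN.2.1).trans_le hn))
      (S.mapSurjective hfs) _ _ (h₁.map hfs) (h₂.map hfs)
    rw [← Subgroup.map_sup, htop, Subgroup.map_top_of_surjective f hfs, top_inf_eq,
      Sylow.coe_mapSurjective, inf_comm, map_inf_sylow S h₁ f, inf_comm, inf_comm (A₂.map f),
      map_inf_sylow S h₂ f, inf_comm (S : Subgroup G) A₂, ← Subgroup.map_sup] at hq
    have hWN : (S : Subgroup G) ≤ W ⊔ N := by
      rw [Subgroup.map_le_map_iff, hf, QuotientGroup.ker_mk'] at hq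
      exact hq
    have hNA : ∀ A : Subgroup G, A.IsSubnormal → N ≤ Subgroup.normalizer (A : Set G) := fun A hA =>
      minimalNormal_le_normalizer_subnormal hA hN
    have hin : (S : Subgroup G) ⊓ N ≤ W → (S : Subgroup G) ≤ W := by
      intro h s hs
      obtain ⟨w, hw, m, hm, rfl⟩ := Subgroup.mem_sup_of_normal_right.1 (hWN hs)
      refine mul_mem hw (h ⟨?_, hm⟩)
      have hw' : w ∈ (S : Subgroup G) := (sup_le inf_le_right inf_le_right : W ≤ _) hw
      show m ∈ (S : Subgroup G)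
      simpa using (S : Subgroup G).mul_mem ((S : Subgroup G).inv_mem hw') hs
    have hconj : ∀ A B : Subgroup G, N ≤ Subgroup.normalizer (B : Set G) → ∀ a ∈ B, ∀ m ∈ N ⊓ A,
        m⁻¹ * a * m * a⁻¹ ∈ N ⊓ B := by
      intro A B hB a ha m hm
      refine Subgroup.mem_inf.2 ⟨?_, mul_mem ?_ (inv_mem ha)⟩
      · have h := hN.1.conj_mem _ hm.1 a
        rw [show m⁻¹ * a * m * a⁻¹ = m⁻¹ * (a * m * a⁻¹) by group]
        exact mul_mem (inv_mem hm.1) h
      · simpa using (Subgroup.mem_normalizer_iff.1 (inv_mem (hB hm.1)) a).1 ha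
    set D := (N ⊓ A₁) ⊔ (N ⊓ A₂) with hD
    have hDn : D.Normal := by
      refine Subgroup.normalizer_eq_top_iff.1 (top_unique (htop ▸ sup_le ?_ ?_))
      all_goals
        intro a ha
        refine mem_normalizer_of_conj_smul_eq (Subgroup.eq_of_le_of_card_ge ?_ (le_of_eq (card_conj_smul a D).symm))
        rw [hD, Subgroup.smul_sup]
        refine sup_le ?_ ?_
        all_goals
          rintro _ ⟨m, hm, rfl⟩
          show a * m * a⁻¹ ∈ D
      · exact Subgroup.mem_sup_left (Subgroup.mem_inf.2 ⟨hN.1.conj_mem _ hm.1 a, mul_mem (mul_mem ha hm.2) (inv_mem ha)⟩)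
      · have e : a * m * a⁻¹ = m * (m⁻¹ * a * m * a⁻¹) := by group
        rw [e]
        exact mul_mem (Subgroup.mem_sup_right hm) (Subgroup.mem_sup_left (hconj A₂ A₁ (hNA _ h₁) a ha m hm))
      · have e : a * m * a⁻¹ = m * (m⁻¹ * a * m * a⁻¹) := by group
        rw [e]
        exact mul_mem (Subgroup.mem_sup_left hm) (Subgroup.mem_sup_right (hconj A₁ A₂ (hNA _ h₂) a ha m hm))
      · exact Subgroup.mem_sup_right (Subgroup.mem_inf.2 ⟨hN.1.conj_mem _ hm.1 a, mul_mem (mul_mem ha hm.2) (inv_mem ha)⟩)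
    rcases hN.2.2 D hDn (sup_le inf_le_left inf_le_left) with hD0 | hDN
    swap
    · left
      refine hin ?_
      obtain ⟨P, hP⟩ := CfsgLib.Inv.sylow_subnormal S hN.1.isSubnormal
      haveI hX : (A₁.subgroupOf N).Normal :=
        Subgroup.normal_subgroupOf_of_le_normalizer (hNA _ h₁)
      haveI hY : (A₂.subgroupOf N).Normal :=
        Subgroup.normal_subgroupOf_of_le_normalizer (hNA _ h₂)
      have hXY : A₁.subgroupOf N ⊔ A₂.subgroupOf N = ⊤ := by
        refine Subgroup.map_injective N.subtype_injective ?_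
        rw [Subgroup.map_sup, Subgroup.subgroupOf_map_subtype, Subgroup.subgroupOf_map_subtype,
          ← MonoidHom.range_eq_map, N.range_subtype, inf_comm, inf_comm A₂]
        exact hDN
      have h := Subgroup.map_mono (f := N.subtype) (sylow_le_of_normal P hXY)
      rw [Subgroup.map_sup, hP] at h
      refine h.trans (sup_le_sup ?_ ?_) <;>
        exact fun y ⟨z, hz, hzy⟩ => hzy ▸ ⟨hz.2, (Subgroup.mem_inf.1 (hP ▸ Subgroup.mem_map_of_mem _ hz.1)).1⟩
    obtain ⟨hb₁, hb₂⟩ := sup_eq_bot_iff.1 hD0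
    by_cases hNW : (S : Subgroup G) ⊓ N ≤ W
    · exact Or.inl (hin hNW)
    have hcent : N ≤ Subgroup.center G := by
      intro m hm
      rw [Subgroup.mem_center_iff]
      intro g
      have hle : (⊤ : Subgroup G) ≤ Subgroup.centralizer ({m} : Set G) := htop ▸ sup_le ?_ ?_
      · exact Subgroup.mem_centralizer_singleton_iff.1 (hle (Subgroup.mem_top g))
      all_goals
        intro a ha
        rw [Subgroup.mem_centralizer_singleton_iff]
      · have h : m * a * m⁻¹ * a⁻¹ ∈ N ⊓ A₁ := Subgroup.mem_inf.2 ⟨by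
          have := hN.1.conj_mem _ (inv_mem hm) a
          rw [show m * a * m⁻¹ * a⁻¹ = m * (a * m⁻¹ * a⁻¹) by group]
          exact mul_mem hm this, mul_mem ((Subgroup.mem_normalizer_iff.1 (hNA _ h₁ hm) a).1 ha) (inv_mem ha)⟩
        rw [hb₁, Subgroup.mem_bot, mul_inv_eq_one, mul_inv_eq_iff_eq_mul] at h
        exact h.symm
      · have h : m * a * m⁻¹ * a⁻¹ ∈ N ⊓ A₂ := Subgroup.mem_inf.2 ⟨by
          have := hN.1.conj_mem _ (inv_mem hm) a
          rw [show m * a * m⁻¹ * a⁻¹ = m * (a * m⁻¹ * a⁻¹) by group]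
          exact mul_mem hm this, mul_mem ((Subgroup.mem_normalizer_iff.1 (hNA _ h₂ hm) a).1 ha) (inv_mem ha)⟩
        rw [hb₂, Subgroup.mem_bot, mul_inv_eq_one, mul_inv_eq_iff_eq_mul] at h
        exact h.symm
    obtain ⟨z, ⟨hzS, hzN⟩, hzW⟩ := SetLike.not_le_iff_exists.1 hNW
    have hz1 : z ≠ 1 := fun h => hzW (h ▸ one_mem W)
    obtain ⟨k, hk⟩ := S.isPGroup' ⟨z, hzS⟩
    have hzn : (Subgroup.zpowers z).Normal := ⟨fun y hy g => by
      have hy' : y ∈ Subgroup.center G := hcent ((Subgroup.zpowers_le).2 hzN hy)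
      rwa [Subgroup.mem_center_iff.1 hy' g, mul_inv_cancel_right]⟩
    have hNz : Subgroup.zpowers z = N := by
      rcases hN.2.2 _ hzn ((Subgroup.zpowers_le).2 hzN) with h | h
      · exact absurd (Subgroup.zpowers_eq_bot.1 h) hz1
      · exact h
    have hNS : N ≤ (S : Subgroup G) := hNz ▸ (Subgroup.zpowers_le).2 hzS
    have hNcard : Nat.card N = p := by
      obtain ⟨j, hj⟩ := IsPGroup.iff_card.1 (S.isPGroup'.to_le hNS)
      rcases j with _ | j
      · rw [pow_zero, Subgroup.card_eq_one] at hj; exact absurd hj hN.2.1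
      obtain ⟨w, hw⟩ := exists_prime_orderOf_dvd_card' (G := N) p (hj ▸ dvd_pow_self p (Nat.succ_ne_zero j))
      have hwn : (Subgroup.zpowers (w : G)).Normal := ⟨fun y hy g => by
        have hy' : y ∈ Subgroup.center G := hcent ((Subgroup.zpowers_le).2 w.2 hy)
        rwa [Subgroup.mem_center_iff.1 hy' g, mul_inv_cancel_right]⟩
      rcases hN.2.2 _ hwn ((Subgroup.zpowers_le).2 w.2) with h | h
      · rw [Subgroup.zpowers_eq_bot, OneMemClass.coe_eq_one] at h
        rw [h, orderOf_one] at hw; exact absurd hw.symm hp.out.ne_one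
      · rw [← h, Nat.card_zpowers, Subgroup.orderOf_coe, hw]
    exact Or.inr ⟨hcent, hNcard, hNS, fun h => hzW (h hzN), hb₁, hb₂, hWN⟩
  obtain ⟨N, hN⟩ := exists_isMinimalNormal (G := G)
  rcases key N hN with h | ⟨hcent, hNp, hNS, hNW, hb₁, hb₂, hSW⟩
  · exact h
  haveI := hN.1
  have hWS : W ≤ (S : Subgroup G) := sup_le inf_le_right inf_le_right
  have hdisj : W ⊓ N = ⊥ := by
    haveI : Fact (Nat.card N).Prime := ⟨hNp ▸ hp.out⟩
    rcases ((W ⊓ N).subgroupOf N).eq_bot_or_eq_top_of_prime_card with h | h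
    · rw [Subgroup.subgroupOf_eq_bot, disjoint_iff, inf_assoc, inf_idem] at h; exact h
    · rw [Subgroup.subgroupOf_eq_top] at h; exact absurd (h.trans inf_le_left) hNW
  haveI : IsMulCommutative N := ⟨⟨fun a b => Subtype.ext (Subgroup.mem_center_iff.1 (hcent b.2) a)⟩⟩
  obtain ⟨H, hH⟩ := CfsgLib.Solv.exists_complement_of_sub hNS
    (by rw [hNp]; exact hp.out.coprime_iff_not_dvd.2 S.not_dvd_index) hWS hdisj
    (le_antisymm (sup_le hNS hWS) (hSW.trans (sup_comm W N).le))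
  have hHn : H.Normal := by
    refine Subgroup.normalizer_eq_top_iff.1 (top_unique ?_)
    rw [← hH.sup_eq_top]
    exact sup_le (hcent.trans (Subgroup.center_le_centralizer _ |>.trans
      (Subgroup.centralizer_le_normalizer _))) Subgroup.le_normalizer
  by_cases hH0 : H = ⊥
  · exfalso
    have hNtop : N = ⊤ := by simpa [hH0] using hH.sup_eq_top
    rw [hNtop, top_inf_eq] at hb₁ hb₂
    rw [hb₁, hb₂, bot_sup_eq] at htop
    exact absurd htop bot_ne_top
  obtain ⟨M, hM, hMH⟩ := exists_isMinimalNormal_le H hH0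
  rcases key M hM with h | ⟨hMc, hMp, hMS, hMW, -, -, -⟩
  · exact h
  have hNM : Disjoint N M := disjoint_iff.2 (le_bot_iff.1 (hH.disjoint.mono le_rfl hMH).le_bot)
  -- `W` meets `N M`
  obtain ⟨m, hm, hm1⟩ := Subgroup.bot_or_exists_ne_one M |>.resolve_left hM.2.1
  obtain ⟨w, hw, v, hv, hwv⟩ := Subgroup.mem_sup_of_normal_right.1 (hSW (hMS hm))
  have hw1 : w ≠ 1 := fun h => hm1 (by
    rw [h, one_mul] at hwv
    exact Subgroup.mem_bot.1 (hNM.eq_bot ▸ Subgroup.mem_inf.2 ⟨hwv ▸ hv, hm⟩))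
  have hwc : w ∈ Subgroup.center G := by
    rw [eq_mul_inv_of_mul_eq hwv]
    exact mul_mem (hMc hm) (inv_mem (hcent hv))
  have hwp : w ^ p = 1 := by
    have hpow : ∀ (K : Subgroup G), Nat.card K = p → ∀ y ∈ K, y ^ p = 1 := fun K hK y hy =>
      orderOf_dvd_iff_pow_eq_one.1 (hK ▸ Subgroup.orderOf_dvd_natCard K hy)
    rw [eq_mul_inv_of_mul_eq hwv, (show Commute m v⁻¹ from
      (Subgroup.mem_center_iff.1 (hMc hm) v⁻¹).symm).mul_pow, hpow M hMp m hm, inv_pow,
      hpow N hNp v hv, inv_one, one_mul]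
  have hord : orderOf w = p := orderOf_eq_prime hwp hw1
  have hLn : (Subgroup.zpowers w).Normal := ⟨fun y hy g => by
    have hy' : y ∈ Subgroup.center G := (Subgroup.zpowers_le).2 hwc hy
    rwa [Subgroup.mem_center_iff.1 hy' g, mul_inv_cancel_right]⟩
  have hL : IsMinimalNormal (Subgroup.zpowers w) := by
    refine ⟨hLn, fun h => hw1 (Subgroup.zpowers_eq_bot.1 h), fun K _ hK => ?_⟩
    haveI : Fact (Nat.card (Subgroup.zpowers w)).Prime := ⟨by rw [Nat.card_zpowers, hord]; exact hp.out⟩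
    rcases (K.subgroupOf (Subgroup.zpowers w)).eq_bot_or_eq_top_of_prime_card with h | h
    · rw [Subgroup.subgroupOf_eq_bot, disjoint_iff, inf_of_le_left hK] at h; exact Or.inl h
    · rw [Subgroup.subgroupOf_eq_top] at h; exact Or.inr (le_antisymm hK h)
  rcases key _ hL with h | ⟨-, -, -, hLW, -, -, -⟩
  · exact h
  · exact absurd ((Subgroup.zpowers_le).2 hw) hLW

/-- Let G be a finite group, p a prime, S a Sylow p-subgroup of G and A₁, A₂ subnormal subgroups of G. Then the join of S ∩ A₁ and S ∩ A₂ is a Sylow p-subgroup of the join of A₁ and A₂; equivalently ⟨A₁, A₂⟩ ∩ S = ⟨A₁ ∩ S, A₂ ∩ S⟩. -/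
theorem result {G : Type*} [Group G] [Finite G] {p : ℕ} [Fact p.Prime] (S : Sylow p G) (A₁ A₂ : Subgroup G)
    (h₁ : A₁.IsSubnormal) (h₂ : A₂.IsSubnormal) :
    (A₁ ⊔ A₂) ⊓ (S : Subgroup G) = (A₁ ⊓ (S : Subgroup G)) ⊔ (A₂ ⊓ (S : Subgroup G)) := by
  exact le_antisymm (sylow_join_aux (Nat.card G) G le_rfl S A₁ A₂ h₁ h₂) (sup_le (le_inf (inf_le_left.trans le_sup_left) inf_le_right) (le_inf (inf_le_left.trans le_sup_right) inf_le_right))

end Cfsg.Agent.S3028
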