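import Cfsg.Statements.S2806
import Cfsg.Agent.S2805
import Cfsg.Agent.S3028
import Cfsg.Agent.Perm.Basic
import Cfsg.Agent.Solv.SubnormalJoin

set_option autoImplicit false
open Cfsg

namespace Cfsg.Agent.S2806

variable {H : Type*} [Group H] [Finite H] {p : ℕ} [hp : Fact p.Prime]

local notation "Ω[" Y "]" => Cfsg.omegaOne p (Y ⊓ Subgroup.centralizer ((Y : Subgroup _) : Set _))

omit [Finite H] hp in
theorem omega_le (Y : Subgroup H) : Ω[Y] ≤ Y := fun _ h => (S2805.mem_omega_center.1 h).1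

omit [Finite H] hp in
theorem le_centralizer_omega (Y : Subgroup H) : Y ≤ Subgroup.centralizer (Ω[Y] : Set H) := fun y hy =>
  Subgroup.mem_centralizer_iff.2 fun _ hz =>
    (Subgroup.mem_centralizer_iff.1 (S2805.mem_omega_center.1 hz).2.1 y hy).symm

theorem omega_ne_bot {Y : Subgroup H} (hY : IsPGroup p Y) (hne : Y ≠ ⊥) : Ω[Y] ≠ ⊥ := by
  obtain ⟨z, hz, ho, hc⟩ := CfsgLib.Inv.exists_central_order_p hY hne
  intro h
  have hm : z ∈ Ω[Y] := S2805.mem_omega_center.2
    ⟨hz, Subgroup.mem_centralizer_iff.2 hc, ho ▸ pow_orderOf_eq_one z⟩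
  rw [h, Subgroup.mem_bot] at hm
  rw [hm, orderOf_one] at ho
  exact hp.out.one_lt.ne ho

omit [Finite H] in
theorem normalizer_le_normalizer_centralizer (Z : Subgroup H) :
    Subgroup.normalizer (Z : Set H) ≤
      Subgroup.normalizer ((Subgroup.centralizer (Z : Set H) : Subgroup H) : Set H) := by
  rw [CfsgLib.Solv.le_normalizer_iff_forall_conj_mem]
  intro n hn c hc
  refine Subgroup.mem_centralizer_iff.2 fun b hb => ?_
  have h1 := Subgroup.mem_centralizer_iff.1 hc _ ((Subgroup.mem_normalizer_iff''.1 hn b).1 hb)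
  calc b * (n * c * n⁻¹) = n * (n⁻¹ * b * n * c) * n⁻¹ := by group
    _ = n * (c * (n⁻¹ * b * n)) * n⁻¹ := by rw [h1]
    _ = _ := by group

theorem charP_local (hH : IsOfLocalCharacteristic p H) {Y Z : Subgroup H} (hY : Y.IsSubnormal)
    (hZ : IsPGroup p Z) (hne : Z ≠ ⊥) :
    Subgroup.centralizer (pCore p ↥(Y ⊓ Subgroup.centralizer (Z : Set H)) : Set ↥(Y ⊓ Subgroup.centralizer (Z : Set H))) ≤
      pCore p ↥(Y ⊓ Subgroup.centralizer (Z : Set H)) := by
  set C := Subgroup.centralizer (Z : Set H) with hC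
  have h1 := CfsgLib.Inv.charP_normal (Subgroup.centralizer_le_normalizer _)
    (normalizer_le_normalizer_centralizer Z) (hH.2 Z hZ hne)
  have h2 := CfsgLib.Inv.charP_subnormal h1 (hY.subgroupOf (K := C))
  exact CfsgLib.Inv.Coset.charP_equiv (((Y.subgroupOf C).equivMapOfInjective _ C.subtype_injective).trans
    (MulEquiv.subgroupCongr (Subgroup.subgroupOf_map_subtype Y C))) h2

theorem not_dvd_relIndex (T : Sylow p H) {Y : Subgroup H} (hY : Y.IsSubnormal) :
    ¬ p ∣ ((T : Subgroup H) ⊓ Y).relIndex Y := by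
  obtain ⟨S, hS⟩ := CfsgLib.Inv.sylow_subnormal T hY
  rw [← hS, Subgroup.relIndex, Subgroup.subgroupOf, Subgroup.comap_map_eq_self_of_injective Y.subtype_injective]
  exact S.not_dvd_index

theorem not_dvd_of_between {P X Y : Subgroup H} (h : ¬ p ∣ P.relIndex Y) (h1 : P ≤ X) (h2 : X ≤ Y) :
    ¬ p ∣ P.relIndex X := fun hd => h (by
  rw [← Subgroup.relIndex_mul_relIndex P X Y h1 h2]
  exact hd.mul_right _)

/-- One step of a subnormal chain. -/
theorem step (hH : IsOfLocalCharacteristic p H) (T : Sylow p H) {M M' : Subgroup H} (hMM' : M ≤ M')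
    (hn : M' ≤ Subgroup.normalizer (M : Set H)) (hM : M.IsSubnormal) (hM' : M'.IsSubnormal)
    (hne : (T : Subgroup H) ⊓ M ≠ ⊥) :
    M ⊓ Subgroup.centralizer (Ω[(T : Subgroup H) ⊓ M] : Set H) =
      M ⊓ Subgroup.centralizer (Ω[(T : Subgroup H) ⊓ M'] : Set H) := by
  set U := (T : Subgroup H) ⊓ M with hU
  set U' := (T : Subgroup H) ⊓ M' with hU'
  have hUU : U ≤ U' := inf_le_inf_left _ hMM'
  have hUp : IsPGroup p U := T.isPGroup'.to_le inf_le_left
  have hU'p : IsPGroup p U' := T.isPGroup'.to_le inf_le_left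
  have hne' : U' ≠ ⊥ := fun h => hne (le_bot_iff.1 (h ▸ hUU))
  set Z := Ω[U] with hZ
  set Z' := Ω[U'] with hZ'
  refine le_antisymm ?_ ?_
  · -- `C_M(Z)` centralizes `Z'`
    set E := M' ⊓ Subgroup.centralizer (Z : Set H) with hE
    set Γ := M' ⊓ Subgroup.normalizer (Z : Set H) with hΓ
    have hU'Γ : U' ≤ Γ := by
      refine le_inf inf_le_right ?_
      rw [CfsgLib.Solv.le_normalizer_iff_forall_conj_mem]
      intro t ht z hz
      obtain ⟨h1, h2, h3⟩ := S2805.mem_omega_center.1 hz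
      have hconj : ∀ t ∈ U', ∀ q ∈ U, t * q * t⁻¹ ∈ U := fun t ht q hq => Subgroup.mem_inf.2
        ⟨mul_mem (mul_mem ht.1 hq.1) (inv_mem ht.1), (Subgroup.mem_normalizer_iff.1 (hn ht.2) q).1 hq.2⟩
      refine S2805.mem_omega_center.2 ⟨hconj t ht z h1, Subgroup.mem_centralizer_iff.2 fun q hq => ?_,
        by rw [conj_pow, h3, mul_one, mul_inv_cancel]⟩
      have e := Subgroup.mem_centralizer_iff.1 h2 (t⁻¹ * q * t) (by simpa using hconj t⁻¹ (inv_mem ht) q hq)
      calc q * (t * z * t⁻¹) = t * (t⁻¹ * q * t * z) * t⁻¹ := by group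
        _ = t * (z * (t⁻¹ * q * t)) * t⁻¹ := by rw [e]
        _ = t * z * t⁻¹ * q := by group
    have hEΓ : E ≤ Γ := inf_le_inf_left _ (Subgroup.centralizer_le_normalizer _)
    have hidx : ¬ p ∣ (U' ⊓ E).relIndex E := by
      haveI : (E.subgroupOf Γ).Normal := (Subgroup.normal_subgroupOf_iff_le_normalizer hEΓ).2
        (CfsgLib.Solv.le_normalizer_inf_of_le (inf_le_left.trans Subgroup.le_normalizer)
          (inf_le_right.trans (normalizer_le_normalizer_centralizer Z)))
      rw [Subgroup.inf_relIndex_right, ← Subgroup.relIndex_subgroupOf hEΓ,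
        ← CfsgLib.Perm.relIndex_sup_eq_of_normal]
      intro hd
      refine not_dvd_of_between (not_dvd_relIndex T hM') hU'Γ inf_le_left ?_
      show p ∣ (U'.subgroupOf Γ).index
      rw [← Subgroup.relIndex_mul_index
        (le_sup_left : U'.subgroupOf Γ ≤ U'.subgroupOf Γ ⊔ E.subgroupOf Γ)]
      exact hd.mul_right _
    set L := M ⊓ Subgroup.centralizer (Z : Set H) with hL
    have hLE : L ≤ E := inf_le_inf_right _ hMM'
    have hEL : E ≤ Subgroup.normalizer (L : Set H) :=
      CfsgLib.Solv.le_normalizer_inf_of_le (inf_le_left.trans hn) (inf_le_right.trans Subgroup.le_normalizer)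
    have hUC : U ≤ Subgroup.centralizer (Z : Set H) := le_centralizer_omega U
    have hPL : U' ⊓ E ⊓ L = U := le_antisymm (fun x hx => ⟨hx.1.1.1, hx.2.1⟩)
      (le_inf (le_inf hUU (le_inf (inf_le_right.trans hMM') hUC)) (le_inf inf_le_right hUC))
    have key := S2805.kieler_normal hLE hEL
      (charP_local hH hM' (hUp.to_le (omega_le U)) (omega_ne_bot hUp hne))
      (hU'p.to_le inf_le_left) inf_le_right hidx
      (by rw [hPL]; exact not_dvd_of_between (not_dvd_relIndex T hM) (le_inf inf_le_right hUC) inf_le_left)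
    rw [hPL] at key
    have hsub : Z' ≤ Ω[U' ⊓ E] := by
      intro z hz
      obtain ⟨h1, h2, h3⟩ := S2805.mem_omega_center.1 hz
      refine S2805.mem_omega_center.2 ⟨⟨h1, h1.2, Subgroup.mem_centralizer_iff.2 fun w hw =>
        Subgroup.mem_centralizer_iff.1 h2 w (hUU (omega_le U hw))⟩,
        Subgroup.centralizer_le (SetLike.coe_subset_coe.2 inf_le_left) h2, h3⟩
    refine le_inf inf_le_left fun x hx => ?_
    have hx' : x ∈ L ⊓ Subgroup.centralizer (Z : Set H) := ⟨hx, hx.2⟩
    rw [← key] at hx'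
    exact Subgroup.centralizer_le (SetLike.coe_subset_coe.2 hsub) hx'.2
  · -- `C_M(Z')` centralizes `Z`
    set E := M' ⊓ Subgroup.centralizer (Z' : Set H) with hE
    set L := M ⊓ Subgroup.centralizer (Z' : Set H) with hL
    have hLE : L ≤ E := inf_le_inf_right _ hMM'
    have hEL : E ≤ Subgroup.normalizer (L : Set H) :=
      CfsgLib.Solv.le_normalizer_inf_of_le (inf_le_left.trans hn) (inf_le_right.trans Subgroup.le_normalizer)
    have hUC : U' ≤ Subgroup.centralizer (Z' : Set H) := le_centralizer_omega U'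
    have hU'E : U' ≤ E := le_inf inf_le_right hUC
    have hPL : U' ⊓ L = U := le_antisymm (fun x hx => ⟨hx.1.1, hx.2.1⟩)
      (le_inf hUU (le_inf inf_le_right (hUU.trans hUC)))
    have key := S2805.kieler_normal hLE hEL
      (charP_local hH hM' (hU'p.to_le (omega_le U')) (omega_ne_bot hU'p hne')) hU'p hU'E
      (not_dvd_of_between (not_dvd_relIndex T hM') hU'E inf_le_left)
      (by rw [hPL]; exact not_dvd_of_between (not_dvd_relIndex T hM) (le_inf inf_le_right (hUU.trans hUC)) inf_le_left)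
    rw [hPL] at key
    refine le_inf inf_le_left fun x hx => ?_
    have hx' : x ∈ L ⊓ Subgroup.centralizer (Z' : Set H) := ⟨hx, hx.2⟩
    rw [key] at hx'
    exact hx'.2

theorem kieler_local (hH : IsOfLocalCharacteristic p H) (T : Sylow p H) {M : Subgroup H} (hM : M.IsSubnormal)
    (hne : (T : Subgroup H) ⊓ M ≠ ⊥) :
    M ⊓ Subgroup.centralizer (Ω[(T : Subgroup H) ⊓ M] : Set H) =
      M ⊓ Subgroup.centralizer (Ω[(T : Subgroup H)] : Set H) := by
  induction hM with
  | top => simp only [inf_top_eq]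
  | step M M' hMM' hsn hn ih =>
    have h1 := step hH T hMM' ((Subgroup.normal_subgroupOf_iff_le_normalizer hMM').1 hn)
      (Subgroup.IsSubnormal.step _ _ hMM' hsn hn) hsn hne
    have h2 := ih fun h => hne (le_bot_iff.1 (h ▸ inf_le_inf_left _ hMM'))
    rw [h1, ← inf_eq_left.2 hMM', inf_assoc, h2, ← inf_assoc]

theorem point_eq (hH : IsOfLocalCharacteristic p H) (T : Sylow p H) {Y : Subgroup H} (hY : Y.IsSubnormal) :
    pointStabilizer p Y ((T : Subgroup H) ⊓ Y) =
      Subgroup.closure {x : H | x ∈ Y ⊓ Subgroup.centralizer (Ω[(T : Subgroup H)] : Set H) ∧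
        ∃ k : ℕ, orderOf x = p ^ k} := by
  show Subgroup.closure _ = _
  congr 1
  ext x
  rcases eq_or_ne ((T : Subgroup H) ⊓ Y) ⊥ with h | h
  · have key : x ∈ Y → (∃ k : ℕ, orderOf x = p ^ k) → x = 1 := by
      rintro hx ⟨k, hk⟩
      have hnd : ¬ p ∣ Nat.card Y := by
        have h2 := not_dvd_relIndex T hY
        rwa [h, Subgroup.relIndex_bot_left] at h2
      have h1 : orderOf x ∣ Nat.card Y := Subgroup.orderOf_dvd_natCard Y hx
      rw [hk] at h1
      rcases k with _ | k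
      · exact orderOf_eq_one_iff.1 (by simpa using hk)
      · exact absurd ((dvd_pow_self p k.succ_ne_zero).trans h1) hnd
    constructor <;> rintro ⟨hx, hk⟩ <;> obtain rfl := key hx.1 hk <;> exact ⟨one_mem _, hk⟩
  · show _ ∧ _ ↔ _
    rw [kieler_local hH T hY h]
    rfl

/-- A subnormal subgroup of index prime to `p` contains all `p`-elements. -/
theorem mem_of_subnormal {G : Type*} [Group G] [Finite G] {Q : Subgroup G} (hQ : Q.IsSubnormal)
    (hd : ¬ p ∣ Q.index) {x : G} (hx : ∃ k : ℕ, orderOf x = p ^ k) : x ∈ Q := by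
  induction hQ with
  | top => trivial
  | step A B hAB _ hn ih =>
    haveI := hn
    have e := Subgroup.relIndex_mul_index hAB
    have hxB : x ∈ B := ih fun h => hd (e ▸ h.mul_left _)
    have hcop : (orderOf x).Coprime (A.relIndex B) := by
      obtain ⟨k, hk⟩ := hx
      rw [hk]
      exact Nat.Coprime.pow_left _ (hp.out.coprime_iff_not_dvd.2 fun h => hd (e ▸ h.mul_right _))
    have hpow : x ^ A.relIndex B ∈ A := (A.subgroupOf B).pow_index_mem ⟨x, hxB⟩
    obtain ⟨m, hm⟩ := exists_pow_eq_self_of_coprime hcop.symm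
    exact hm ▸ pow_mem hpow m

/-- Let H be a finite group of local characteristic p, T a Sylow p-subgroup, and L₁, L₂ subnormal subgroups of H generating the subgroup L. Then the point stabilizer of L with respect to T ∩ L is generated by the point stabilizers of L₁ and L₂ with respect to T ∩ L₁ and T ∩ L₂ (point stabilizer of X w.r.t. R: the subgroup generated by the p-elements of X centralizing Ω₁(Z(R))). -/
theorem result {H : Type*} [Group H] [Finite H] {p : ℕ} [Fact p.Prime] (hH : Cfsg.IsOfLocalCharacteristic p H) (T : Sylow p H) (L₁ L₂ : Subgroup H) (h₁ : L₁.IsSubnormal) (h₂ : L₂.IsSubnormal) : Cfsg.pointStabilizer p (L₁ ⊔ L₂) ((T : Subgroup H) ⊓ (L₁ ⊔ L₂)) = Cfsg.pointStabilizer p L₁ ((T : Subgroup H) ⊓ L₁) ⊔ Cfsg.pointStabilizer p L₂ ((T : Subgroup H) ⊓ L₂) := by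
  have hL := CfsgLib.Solv.isSubnormal_sup h₁ h₂
  rw [point_eq hH T hL, point_eq hH T h₁, point_eq hH T h₂]
  set C := Subgroup.centralizer ((Cfsg.omegaOne p ((T : Subgroup H) ⊓ Subgroup.centralizer ((T : Subgroup H) : Set H))) : Set H) with hC
  let gens : Subgroup H → Set H := fun Y => {x | x ∈ Y ⊓ C ∧ ∃ k : ℕ, orderOf x = p ^ k}
  show Subgroup.closure (gens (L₁ ⊔ L₂)) = Subgroup.closure (gens L₁) ⊔ Subgroup.closure (gens L₂)
  refine le_antisymm ?_ (sup_le
    (Subgroup.closure_mono fun x hx => ⟨⟨Subgroup.mem_sup_left hx.1.1, hx.1.2⟩, hx.2⟩)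
    (Subgroup.closure_mono fun x hx => ⟨⟨Subgroup.mem_sup_right hx.1.1, hx.1.2⟩, hx.2⟩))
  set X := (L₁ ⊔ L₂) ⊓ C with hX
  set Q := Subgroup.closure (gens L₁) ⊔ Subgroup.closure (gens L₂) with hQ
  have hcl : ∀ Y : Subgroup H, Subgroup.closure (gens Y) ≤ Y ⊓ C := fun Y =>
    (Subgroup.closure_le _).2 fun x hx => hx.1
  have hsn : ∀ Y : Subgroup H, Y.IsSubnormal → Y ≤ L₁ ⊔ L₂ →
      ((Subgroup.closure (gens Y)).subgroupOf X).IsSubnormal := by
    intro Y hY hle
    have hYX : (Y ⊓ C).subgroupOf X = Y.subgroupOf X := by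
      ext z
      simp only [Subgroup.mem_subgroupOf, Subgroup.mem_inf]
      exact ⟨fun h => h.1, fun h => ⟨h, z.2.2⟩⟩
    refine Subgroup.IsSubnormal.step _ (Y.subgroupOf X) ?_ (hY.subgroupOf) ?_
    · rw [← hYX]; exact Subgroup.comap_mono (hcl Y)
    · have hnorm : Y ⊓ C ≤ Subgroup.normalizer (Subgroup.closure (gens Y) : Set H) := by
        rw [CfsgLib.Solv.le_normalizer_iff_forall_conj_mem]
        intro c hc y hy
        induction hy using Subgroup.closure_induction with
        | mem a ha =>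
          obtain ⟨ha1, k, hk⟩ := ha
          refine Subgroup.subset_closure ⟨mul_mem (mul_mem hc ha1) (inv_mem hc), k, ?_⟩
          rw [← MulAut.conj_apply, MulEquiv.orderOf_eq]
          exact hk
        | one => simp
        | mul a b _ _ iha ihb =>
          rw [show c * (a * b) * c⁻¹ = c * a * c⁻¹ * (c * b * c⁻¹) by group]
          exact mul_mem iha ihb
        | inv a _ iha =>
          rw [show c * a⁻¹ * c⁻¹ = (c * a * c⁻¹)⁻¹ by group]
          exact inv_mem iha
      rw [Subgroup.normal_subgroupOf_iff_le_normalizer (hYX ▸ Subgroup.comap_mono (hcl Y))]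
      intro z hz
      refine Subgroup.mem_normalizer_fintype fun w hw => ?_
      exact (Subgroup.mem_normalizer_iff.1 (hnorm (Subgroup.mem_inf.2 ⟨hz, z.2.2⟩)) w).1 hw
  have hQX : Q ≤ X := sup_le ((hcl L₁).trans (inf_le_inf_right _ le_sup_left))
    ((hcl L₂).trans (inf_le_inf_right _ le_sup_right))
  have hQsn : (Q.subgroupOf X).IsSubnormal := by
    rw [hQ, Subgroup.subgroupOf_sup ((hcl L₁).trans (inf_le_inf_right _ le_sup_left))
      ((hcl L₂).trans (inf_le_inf_right _ le_sup_right))]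
    exact CfsgLib.Solv.isSubnormal_sup (hsn L₁ h₁ le_sup_left) (hsn L₂ h₂ le_sup_right)
  have hTC : (T : Subgroup H) ≤ C := le_centralizer_omega (T : Subgroup H)
  have hTQ : (T : Subgroup H) ⊓ (L₁ ⊔ L₂) ≤ Q := by
    have hone : ∀ Y : Subgroup H, Y ⊓ (T : Subgroup H) ≤ Subgroup.closure (gens Y) := fun Y x hx =>
      Subgroup.subset_closure ⟨⟨hx.1, hTC hx.2⟩, by
        obtain ⟨k, hk⟩ := IsPGroup.iff_orderOf.1 T.isPGroup' ⟨x, hx.2⟩
        exact ⟨k, by rwa [← Subgroup.orderOf_coe] at hk⟩⟩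
    rw [inf_comm, S3028.result T L₁ L₂ h₁ h₂]
    exact sup_le ((hone L₁).trans le_sup_left) ((hone L₂).trans le_sup_right)
  have hidx : ¬ p ∣ (Q.subgroupOf X).index := by
    intro hd
    refine not_dvd_of_between (not_dvd_relIndex T hL) (le_inf inf_le_right (inf_le_left.trans hTC))
      (inf_le_left : X ≤ _) ?_
    rw [← Subgroup.relIndex_mul_relIndex _ Q X hTQ hQX]
    exact Dvd.dvd.mul_left hd _
  refine (Subgroup.closure_le _).2 fun x hx => ?_
  obtain ⟨hxX, k, hk⟩ := hx
  exact mem_of_subnormal (G := ↥X) hQsn hidx (x := ⟨x, hxX⟩) ⟨k, by rw [← hk, ← Subgroup.orderOf_coe]⟩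

end Cfsg.Agent.S2806
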