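import Cfsg.Statements.S5225
import Cfsg.Agent.Fus.Yoshida

set_option autoImplicit false
open Cfsg
open scoped commutatorElement

namespace Cfsg.Agent.S5225

/-- Yoshida's Theorem for fusion systems. Let F be a saturated fusion system over a finite p-group S and N the normalizer fusion system of S in F. If the focal subgroups of F and N differ (N does not control transfer in F), then S has a quotient isomorphic to the wreath product C_p ≀ C_p (realised as a Sylow p-subgroup of the symmetric group of degree p²). -/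
theorem result {Ω : Type*} [Group Ω] {S : Subgroup Ω} [Finite S] (p : ℕ) [Fact p.Prime] (hS : IsPGroup p S) (F : Cfsg.FusionSystem S) (hF : F.IsSaturated p) (N : Cfsg.FusionSystem (Cfsg.FusionSystem.normalizerIn S S)) (hN : F.IsNormalizerSystem S N) (hne : N.focalSubgroup ≠ F.focalSubgroup) : ∃ (W : Sylow p (Equiv.Perm (Fin (p ^ 2)))) (f : ↥S →* ↥(W : Subgroup (Equiv.Perm (Fin (p ^ 2))))), Function.Surjective f := by
  classical
  have hSS : Cfsg.FusionSystem.normalizerIn S S = S := inf_eq_left.2 Subgroup.le_normalizer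
  have hfn : F.IsFullyNormalized S := CfsgLib.Fus.fullyNormalized_top
  haveI := CfsgLib.Fus.finite_mulAut (le_refl S)
  let gen : Set Ω := {y | ∃ γ ∈ F.autGroup S, (orderOf γ).Coprime p ∧ ∃ x ∈ S, y = x⁻¹ * CfsgLib.Fus.autFun γ x}
  let W := Subgroup.closure gen
  have hWS : W ≤ S := (Subgroup.closure_le _).2 (by
    rintro _ ⟨γ, -, -, x, hx, rfl⟩
    exact S.mul_mem (S.inv_mem hx) (CfsgLib.Fus.autFun_mem γ hx))
  have hWn : S ≤ Subgroup.normalizer (W : Set Ω) := CfsgLib.Fus.le_normalizer_of_forall fun a ha k hk => by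
    suffices h : W ≤ W.comap (MulAut.conj a).toMonoidHom from h hk
    refine (Subgroup.closure_le _).2 ?_
    rintro _ ⟨γ, hγ, hc, x, hx, rfl⟩
    have ha' := S.inv_mem ha
    have h1 : (x * a⁻¹)⁻¹ * CfsgLib.Fus.autFun γ (x * a⁻¹) ∈ W :=
      Subgroup.subset_closure ⟨γ, hγ, hc, _, S.mul_mem hx ha', rfl⟩
    have h2 : (a⁻¹)⁻¹ * CfsgLib.Fus.autFun γ a⁻¹ ∈ W := Subgroup.subset_closure ⟨γ, hγ, hc, _, ha', rfl⟩
    have := W.mul_mem h1 (W.inv_mem h2)
    rw [CfsgLib.Fus.autFun_map_mul γ hx ha'] at this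
    show a * (x⁻¹ * CfsgLib.Fus.autFun γ x) * a⁻¹ ∈ W
    simpa [mul_assoc] using this
  let K := ⁅(S : Subgroup Ω), (S : Subgroup Ω)⁆ ⊔ W
  have hKS : K ≤ S := sup_le (Subgroup.commutator_le.2 fun a ha b hb =>
    S.mul_mem (S.mul_mem (S.mul_mem ha hb) (S.inv_mem ha)) (S.inv_mem hb)) hWS
  have hKα : ∀ α ∈ F.autGroup S, ∀ x ∈ S, x⁻¹ * CfsgLib.Fus.autFun α x ∈ K := by
    intro α hα
    obtain ⟨Rs, hRs⟩ := (CfsgLib.Fus.fullyNormalized_spec hS hF hfn).1.2
    haveI := CfsgLib.Inv.pResidual_normal p ↥(F.autGroup S)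
    obtain ⟨β, hβ, γ, hγ, hβγ⟩ := Subgroup.mem_sup_of_normal_right.1
      ((CfsgLib.Solv.sylow_sup_pResidual Rs).ge (Subgroup.mem_top ⟨α, hα⟩))
    rw [hRs] at hβ
    obtain ⟨s, hs, hse⟩ := CfsgLib.Fus.mem_autInducedBy.1 (Subgroup.mem_subgroupOf.1 hβ)
    have hγW : ∀ x ∈ S, x⁻¹ * CfsgLib.Fus.autFun (γ : MulAut S) x ∈ W := by
      clear hβγ
      induction hγ using Subgroup.closure_induction with
      | mem g hg => exact fun x hx => Subgroup.subset_closure ⟨_, g.2, by rwa [Subgroup.orderOf_coe], x, hx, rfl⟩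
      | one => exact fun x hx => by rw [Subgroup.coe_one, CfsgLib.Fus.autFun_one hx, inv_mul_cancel]; exact W.one_mem
      | mul g k _ _ ihg ihk =>
        intro x hx
        have h1 := W.mul_mem (ihk x hx) (ihg _ (CfsgLib.Fus.autFun_mem (k : MulAut S) hx))
        rwa [← CfsgLib.Fus.autFun_mul _ _ hx, mul_assoc, mul_inv_cancel_left] at h1
      | inv g _ ihg =>
        intro x hx
        have h1 := W.inv_mem (ihg _ (CfsgLib.Fus.autFun_mem (g : MulAut S)⁻¹ hx))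
        rwa [← CfsgLib.Fus.autFun_mul _ _ hx, mul_inv_cancel, CfsgLib.Fus.autFun_one hx, mul_inv_rev, inv_inv] at h1
    intro x hx
    have hαe : CfsgLib.Fus.autFun α x = s * CfsgLib.Fus.autFun (γ : MulAut S) x * s⁻¹ := by
      have h := congrArg (fun z : ↥(F.autGroup S) => (z : MulAut S)) hβγ
      simp only [Subgroup.coe_mul] at h
      rw [← h, CfsgLib.Fus.autFun_mul _ _ hx]
      exact hse _ (CfsgLib.Fus.autFun_mem _ hx)
    have h1 : ⁅x⁻¹, s⁆ ∈ K := Subgroup.mem_sup_left (Subgroup.commutator_mem_commutator (S.inv_mem hx) hs)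
    have h2 : s * (x⁻¹ * CfsgLib.Fus.autFun (γ : MulAut S) x) * s⁻¹ ∈ K :=
      Subgroup.mem_sup_right (CfsgLib.Fus.conj_mem_of_normalizer (hWn hs) (hγW x hx))
    have h3 := K.mul_mem h1 h2
    rw [hαe]
    simpa [commutatorElement_def, mul_assoc] using h3
  have hNF : N.focalSubgroup ≤ F.focalSubgroup := (Subgroup.closure_le _).2 (by
    rintro _ ⟨P, φ, x, hφ, rfl⟩
    rw [hN] at hφ
    exact Subgroup.subset_closure ⟨P, φ, x, hφ.1, rfl⟩)
  have hmem : ∀ (f : Ω → Ω), CfsgLib.Fus.IsMap F S f → CfsgLib.Fus.img f S = S → ∀ x ∈ S, x⁻¹ * f x ∈ N.focalSubgroup := by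
    intro f hf hfi x hx
    obtain ⟨φ, hφ, hφe⟩ := id hf
    obtain ⟨ψ, hψ, hψe⟩ := hf.mono (sup_le le_rfl le_rfl)
    refine Subgroup.subset_closure ⟨S, φ, ⟨x, hx⟩, ?_, by rw [hφe]⟩
    rw [hN]
    refine ⟨hφ, hSS.ge, fun y => hSS.ge ((F.le_of_mem hφ).2 y), ψ, hψ, fun y => (hψe _).trans (hφe y).symm, ?_⟩
    rw [CfsgLib.Fus.map_subgroupOf_eq_img ψ le_sup_right]
    exact (CfsgLib.Fus.img_congr fun y hy =>
      (CfsgLib.Fus.ev_of_mem ψ (le_sup_right (a := S) hy)).trans (hψe _)).trans hfi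
  have hKN : K ≤ N.focalSubgroup := by
    refine sup_le (Subgroup.commutator_le.2 fun a ha b hb => ?_) ((Subgroup.closure_le _).2 ?_)
    · have h := hmem (CfsgLib.Fus.conjF b) (CfsgLib.Fus.IsMap.conj F le_rfl hb)
        (Subgroup.eq_of_le_of_card_ge (CfsgLib.Fus.IsMap.conj F le_rfl hb).img_le
          (CfsgLib.Fus.IsMap.conj F le_rfl hb).card_img.ge) a⁻¹ (S.inv_mem ha)
      simpa [commutatorElement_def, mul_assoc] using h
    · rintro _ ⟨γ, hγ, -, x, hx, rfl⟩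
      exact hmem _ ((CfsgLib.Fus.mem_autGroup le_rfl).1 hγ) (CfsgLib.Fus.img_autFun γ) x hx
  by_cases hle : F.focalSubgroup ≤ (frattini ↥S).map S.subtype ⊔ K
  · refine absurd (le_antisymm hNF ?_) hne
    have hT : F.hyperfocalSubgroup p ≤ W := by
      refine CfsgLib.Fus.hyperfocal_le_iff.2 (CfsgLib.Fus.ptriv_descent hS hF hWn ?_
        (F.hyperfocalSubgroup p) (CfsgLib.Fus.hyperfocal_le hS) ?_ (CfsgLib.Fus.hyperfocal_normal hS) ?_
        (CfsgLib.Fus.hyperfocal_le_iff.1 le_rfl))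
      · refine Subgroup.closure_mono ?_
        rintro _ ⟨γ, hγ, hc, x, hx, rfl⟩
        exact ⟨S, le_rfl, γ, hγ, hc, x, hx, rfl, Subgroup.subset_closure ⟨γ, hγ, hc, x, hx, rfl⟩⟩
      · refine (Subgroup.closure_le _).2 ?_
        rintro _ ⟨γ, hγ, hc, x, hx, rfl⟩
        exact CfsgLib.Fus.hyperfocal_le_iff.1 le_rfl S le_rfl γ hγ hc x hx
      · exact ((le_sup_left).trans ((CfsgLib.Fus.focal_eq hS hF).ge.trans hle)).trans
          (sup_le le_sup_left (sup_le ((CfsgLib.Fus.commutator_le_frattini_map hS).trans le_sup_left) le_sup_right))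
    rw [CfsgLib.Fus.focal_eq hS hF]
    exact sup_le (hT.trans (le_sup_right.trans hKN)) (le_sup_left.trans hKN)
  · obtain ⟨f, hf⟩ := CfsgLib.Fus.exists_wreath_of_focal hS hF hKS le_sup_left hKα hle
    obtain ⟨W'⟩ := (inferInstance : Nonempty (Sylow p (Equiv.Perm (Fin (p ^ 2)))))
    let Z := Multiplicative (ZMod p)
    haveI : NeZero p := ⟨(Fact.out : p.Prime).ne_zero⟩
    have hZ : Nat.card Z = p := by rw [Nat.card_congr Multiplicative.toAdd, Nat.card_zmod]
    let e := Sylow.mulEquivIteratedWreathProduct p 2 (Fin (p ^ 2)) (Nat.card_fin _) Z hZ W'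
    let e1 : (PUnit.{1} ≀ᵣ Z) ≃* Z := MulEquiv.ofBijective RegularWreathProduct.rightHom
      ⟨fun a b h => RegularWreathProduct.ext (funext fun _ => Subsingleton.elim _ _) h,
        fun z => ⟨RegularWreathProduct.inl z, rfl⟩⟩
    let e2 : (PUnit.{1} ≀ᵣ Z) ≀ᵣ Z ≃* Z ≀ᵣ Z := RegularWreathProduct.congr e1 (MulEquiv.refl Z)
    let e3 : ↥(W' : Subgroup (Equiv.Perm (Fin (p ^ 2)))) ≃* Z ≀ᵣ Z := e.trans e2
    exact ⟨W', e3.symm.toMonoidHom.comp f, e3.symm.surjective.comp hf⟩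

end Cfsg.Agent.S5225
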