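import Cfsg.Statements.S2807
import Cfsg.Agent.S5225
import Cfsg.Agent.Fus.Group
import Cfsg.Agent.Fus.NormalizerSystem
import Mathlib

set_option autoImplicit false
open Cfsg

namespace Cfsg.Agent.S2807

open scoped commutatorElement
open CfsgLib.Fus

/-- Let S be a Sylow p-subgroup of the finite group G. If S ∩ G' ≠ S ∩ (N_G(S))' (derived subgroups), then the wreath product Z_p ≀ Z_p — realised as a Sylow p-subgroup of the symmetric group of degree p² — is a homomorphic image of S. -/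
theorem result {G : Type*} [Group G] [Finite G] {p : ℕ} [Fact p.Prime] (S : Sylow p G) (h : (S : Subgroup G) ⊓ commutator G ≠ (S : Subgroup G) ⊓ ⁅Subgroup.normalizer ((S : Subgroup G) : Set G), Subgroup.normalizer ((S : Subgroup G) : Set G)⁆) : ∃ (P : Sylow p (Equiv.Perm (Fin (p ^ 2)))) (f : ↥(S : Subgroup G) →* ↥(P : Subgroup (Equiv.Perm (Fin (p ^ 2))))), Function.Surjective f := by
  classical
  set F := Cfsg.groupFusionSystem (S : Subgroup G) with hF
  obtain ⟨N, hN⟩ := exists_normalizerSystem F (le_refl (S : Subgroup G))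
  refine Cfsg.Agent.S5225.result p S.isPGroup' F (group_saturated S) N hN fun he => h ?_
  set NS := Subgroup.normalizer ((S : Subgroup G) : Set G)
  refine le_antisymm (fun x hx => ?_) (inf_le_inf_left _ (Subgroup.commutator_mono le_top le_top))
  -- `S ∩ G'` lies in the focal subgroup
  have h1 : x ∈ F.focalSubgroup := by
    have hx' : x ∈ (S : Subgroup G).transferFocal.ker ⊓ (S : Subgroup G) :=
      Subgroup.mem_inf.2 ⟨(open scoped IsMulCommutative in Abelianization.commutator_subset_ker (S : Subgroup G).transferFocal hx.2), hx.1⟩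
    rw [Subgroup.ker_transferFocal_inf_eq_focalSubgroup, Subgroup.focalSubgroup_def] at hx'
    refine (Subgroup.closure_le F.focalSubgroup).2 ?_ hx'
    rintro _ ⟨hg, y, hy, u, rfl⟩
    have hcj : u * y⁻¹ * u⁻¹ ∈ (S : Subgroup G) := by
      have := Subgroup.mul_mem _ (Subgroup.inv_mem _ hy) hg
      simpa [commutatorElement_def, mul_assoc] using this
    refine Subgroup.subset_closure ⟨Subgroup.zpowers y⁻¹, Cfsg.conjHom _ u, ⟨y⁻¹, Subgroup.mem_zpowers _⟩,
      ⟨Subgroup.zpowers_le.2 (Subgroup.inv_mem _ hy), ?_, u, fun _ => rfl⟩, ?_⟩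
    · rintro ⟨z, i, rfl⟩
      show u * (y⁻¹) ^ i * u⁻¹ ∈ (S : Subgroup G)
      rw [← conj_zpow]
      exact Subgroup.zpow_mem _ hcj i
    · show ⁅y, u⁆ = (y⁻¹)⁻¹ * (u * y⁻¹ * u⁻¹)
      simp [commutatorElement_def, mul_assoc]
  rw [← he] at h1
  refine Subgroup.mem_inf.2 ⟨hx.1, ?_⟩
  refine (Subgroup.closure_le ⁅NS, NS⁆).2 ?_ h1
  rintro _ ⟨P, φ, y, hφ, rfl⟩
  rw [hN P] at hφ
  obtain ⟨-, hP, -, ψ, ⟨hPS, -, g, hg⟩, hext, hQ⟩ := hφ
  have hgN : g ∈ NS := by
    refine Subgroup.mem_normalizer_iff_map_conj_eq.2 ?_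
    refine Eq.trans ?_ hQ
    ext z
    constructor
    · rintro ⟨w, hw, rfl⟩
      exact ⟨⟨w, Subgroup.mem_sup_right hw⟩, hw, hg _⟩
    · rintro ⟨w, hw, rfl⟩
      exact ⟨w, hw, (hg w).symm⟩
  have e : φ y = g * (y : G) * g⁻¹ := (hext y).symm.trans (hg _)
  have hy : (y : G)⁻¹ ∈ NS := Subgroup.le_normalizer (Subgroup.inv_mem _ (Subgroup.mem_inf.1 (hP y.2)).1)
  have := Subgroup.commutator_mem_commutator hy hgN
  rw [commutatorElement_def, inv_inv] at this
  rw [e]
  simpa [mul_assoc] using this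

end Cfsg.Agent.S2807
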