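import Cfsg.Statements.S2810
import Cfsg.Agent.Inv.CharP

set_option autoImplicit false
open Cfsg

namespace Cfsg.Agent.S2810

/-- Let H be a finite group of characteristic p and L a subgroup of H centralizing every factor of some H-invariant chain 1 = A₀ ≤ A₁ ≤ … ≤ Aₙ = O_p(H) of normal subgroups (that is, [A_{i+1}, L] ≤ Aᵢ for each i). Then L ≤ O_p(H). -/
theorem result {H : Type*} [Group H] [Finite H] {p : ℕ} [Fact p.Prime] (hchar : Subgroup.centralizer (Cfsg.pCore p H : Set H) ≤ Cfsg.pCore p H) (L : Subgroup H) (n : ℕ) (A : Fin (n + 1) → Subgroup H) (h0 : A 0 = ⊥) (hn : A (Fin.last n) = Cfsg.pCore p H) (hmono : Monotone A) (hnorm : ∀ i, (A i).Normal) (hcent : ∀ i : Fin n, ⁅A i.succ, L⁆ ≤ A i.castSucc) : L ≤ Cfsg.pCore p H := by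
  open CfsgLib.Inv in
  exact (by
    haveI := fun i => hnorm i
    let K : Subgroup H := ⨅ i : Fin n, (Subgroup.centralizer
      (((A i.succ).map (QuotientGroup.mk' (A i.castSucc)) : Subgroup _) : Set (H ⧸ A i.castSucc))).comap
        (QuotientGroup.mk' (A i.castSucc))
    haveI hKn : K.Normal := by
      refine Subgroup.normal_iInf_normal fun i => ?_
      haveI := (hnorm i.succ).map (QuotientGroup.mk' (A i.castSucc)) (QuotientGroup.mk'_surjective _)
      exact Subgroup.Normal.comap inferInstance _
    have hK : ∀ i : Fin n, ⁅A i.succ, K⁆ ≤ A i.castSucc := by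
      intro i
      rw [Subgroup.commutator_le]
      intro a ha k hk
      have hk' := Subgroup.mem_comap.1 (Subgroup.mem_iInf.1 hk i)
      have := Subgroup.mem_centralizer_iff.1 hk' _ (Subgroup.mem_map_of_mem _ ha)
      rw [← QuotientGroup.eq_one_iff, ← QuotientGroup.mk'_apply (A i.castSucc), map_commutatorElement]
      exact commutatorElement_eq_one_iff_mul_comm.2 this
    have hLK : L ≤ K := by
      refine le_iInf fun i l hl => Subgroup.mem_comap.2 (Subgroup.mem_centralizer_iff.2 ?_)
      rintro _ ⟨a, ha, rfl⟩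
      apply commutatorElement_eq_one_iff_mul_comm.1
      rw [← map_commutatorElement, QuotientGroup.mk'_apply, QuotientGroup.eq_one_iff]
      exact hcent i (Subgroup.commutator_mem_commutator ha hl)
    refine hLK.trans (CfsgLib.Solv.le_pCore (isPGroup_of_elements fun x hx hxo => ?_))
    have hQ := CfsgLib.Solv.pCore_isPGroup H p
    haveI := CfsgLib.Solv.pCore_normal H p
    refine eq_one_of_coprime_mem hQ (hchar (kill_of_nilpotent hQ hxo
      (by rw [Subgroup.normalizer_eq_top]; exact Subgroup.mem_top _) (n := n) ?_)) hxo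
    refine le_bot_iff.1 ((iterCommutator_mono le_rfl (Subgroup.zpowers_le.2 hx) n).trans ?_)
    have key : ∀ j : ℕ, ∀ hj : j ≤ n,
        Cfsg.iterCommutator (Cfsg.pCore p H) K j ≤ A ⟨n - j, by omega⟩ := by
      intro j
      induction j with
      | zero => intro _; exact hn.ge
      | succ j ih =>
        intro hj
        refine (Subgroup.commutator_mono (ih (by omega)) le_rfl).trans ?_
        have h1 := hK ⟨n - (j + 1), by omega⟩
        have e : (⟨n - (j + 1), by omega⟩ : Fin n).succ = (⟨n - j, by omega⟩ : Fin (n + 1)) :=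
          Fin.ext (by simp only [Fin.val_succ]; omega)
        rw [e] at h1
        exact h1
    refine (key n le_rfl).trans ?_
    have e : (⟨n - n, by omega⟩ : Fin (n + 1)) = 0 := Fin.ext (by simp)
    rw [e, h0])

end Cfsg.Agent.S2810
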