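import Cfsg.Statements.S2813
import Cfsg.Agent.Inv.CharP

set_option autoImplicit false
open Cfsg

namespace Cfsg.Agent.S2813

/-- Let K be a subgroup of the finite group H with O_p(K) = 1 and Y a p-subgroup of N_H(K) with [K, Y, Y] = 1. Then [K, Y] = 1. -/
theorem result {H : Type*} [Group H] [Finite H] {p : ℕ} [Fact p.Prime] (K : Subgroup H) (hO : Cfsg.pCore p ↥K = ⊥) (Y : Subgroup H) (hY : IsPGroup p ↥Y) (hYK : Y ≤ Subgroup.normalizer (K : Set H)) (hq : ⁅⁅K, Y⁆, Y⁆ = ⊥) : ⁅K, Y⁆ = ⊥ := by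
  open CfsgLib.Inv in
  open scoped commutatorElement in
  exact (by
    haveI := CfsgLib.Solv.pCore_isPGroup K p
    have hDK : ⁅K, Y⁆ ≤ K := CfsgLib.Solv.commutator_le_of_le_normalizer hYK
    have hDY : ∀ d ∈ ⁅K, Y⁆, ∀ y ∈ Y, y * d = d * y := fun d hd y hy =>
      Subgroup.mem_centralizer_iff.1 (Subgroup.commutator_eq_bot_iff_le_centralizer.1 hq hd) y hy
    have hconj := CfsgLib.Solv.le_normalizer_iff_forall_conj_mem.1
      (CfsgLib.Solv.left_le_normalizer_commutator K Y)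
    -- elements of [K,Y] commute with all K-conjugates of Y
    have hcc : ∀ d ∈ ⁅K, Y⁆, ∀ k ∈ K, ∀ y ∈ Y, d * ⁅k, y⁆ = ⁅k, y⁆ * d := by
      intro d hd k hk y hy
      have h1 := hDY d hd y⁻¹ (inv_mem hy)
      have h2 := hDY _ (hconj k⁻¹ (inv_mem hk) d hd) y hy
      simp only [inv_inv] at h2
      rw [commutatorElement_def]
      calc d * (k * y * k⁻¹ * y⁻¹) = k * (k⁻¹ * d * k * y) * k⁻¹ * y⁻¹ := by group
        _ = k * (y * (k⁻¹ * d * k)) * k⁻¹ * y⁻¹ := by rw [← h2]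
        _ = k * y * k⁻¹ * (d * y⁻¹) := by group
        _ = k * y * k⁻¹ * (y⁻¹ * d) := by rw [← h1]
        _ = k * y * k⁻¹ * y⁻¹ * d := by group
    have hab : ⁅K, Y⁆ ≤ Subgroup.centralizer ((⁅K, Y⁆ : Subgroup H) : Set H) := by
      refine Subgroup.le_centralizer_iff.1 (Subgroup.commutator_le.2 fun k hk y hy => ?_)
      exact Subgroup.mem_centralizer_iff.2 fun d hd => hcc d hd k hk y hy
    have hgen : ∀ d ∈ ⁅K, Y⁆, ∃ j, d ^ p ^ j = 1 := by
      intro d hd
      induction hd using Subgroup.closure_induction with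
      | mem d hd =>
        obtain ⟨k, hk, y, hy, rfl⟩ := hd
        obtain ⟨j, hj⟩ := hY ⟨y, hy⟩
        have hj' : y ^ p ^ j = 1 := by simpa using congrArg Subtype.val hj
        refine ⟨j, ?_⟩
        have hc : Commute ⁅k, y⁆ y :=
          (hDY _ (Subgroup.commutator_mem_commutator hk hy) y hy).symm
        have h1 : (⁅k, y⁆ * y) ^ p ^ j = 1 := by
          have e : ⁅k, y⁆ * y = k * y * k⁻¹ := by rw [commutatorElement_def]; group
          rw [e, conj_pow, hj', mul_one, mul_inv_cancel]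
        rw [hc.mul_pow, hj', mul_one] at h1
        exact h1
      | one => exact ⟨0, one_pow _⟩
      | mul a b ha hb iha ihb =>
        obtain ⟨i, hi⟩ := iha
        obtain ⟨j, hj⟩ := ihb
        refine ⟨i + j, ?_⟩
        have hc : Commute a b := (Subgroup.mem_centralizer_iff.1 (hab ha) b hb).symm
        rw [hc.mul_pow, pow_add, pow_mul, hi, one_pow, one_mul, mul_comm, pow_mul, hj, one_pow]
      | inv a _ iha =>
        obtain ⟨i, hi⟩ := iha
        exact ⟨i, by rw [inv_pow, hi, inv_one]⟩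
    have hp' : IsPGroup p ↥(⁅K, Y⁆.subgroupOf K) := fun x => by
      obtain ⟨j, hj⟩ := hgen _ x.2
      exact ⟨j, Subtype.ext (Subtype.ext hj)⟩
    haveI : (⁅K, Y⁆.subgroupOf K).Normal :=
      ⟨fun x hx k => hconj k k.2 _ hx⟩
    have := CfsgLib.Solv.le_pCore hp'
    rw [hO, le_bot_iff, Subgroup.subgroupOf_eq_bot, disjoint_iff, inf_eq_left.2 hDK] at this
    exact this)

end Cfsg.Agent.S2813
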