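import Cfsg.Statements.S2814
import Cfsg.Agent.Inv.CharP2

set_option autoImplicit false
open Cfsg

namespace Cfsg.Agent.S2814

/-- Let A be a subgroup of the finite group H and K the subnormal closure of A (intersection of the subnormal subgroups containing A). Then K is the normal closure of A inside K and N_H(A) ≤ N_H(K); K = A·O^p(K), O^p(K) being generated by the elements of K of order prime to p; and if A is a p-group, O^p(K) = [O^p(K), A]. -/
theorem result {H : Type*} [Group H] [Finite H] {p : ℕ} [Fact p.Prime] (A : Subgroup H) (K : Subgroup H) (hK : K = Cfsg.subnormalClosure A) : (Subgroup.normalClosure ((A.subgroupOf K : Subgroup ↥K) : Set ↥K)).map K.subtype = K ∧ Subgroup.normalizer (A : Set H) ≤ Subgroup.normalizer (K : Set H) ∧ A ⊔ (Cfsg.pResidual p ↥K).map K.subtype = K ∧ (IsPGroup p ↥A → ⁅(Cfsg.pResidual p ↥K).map K.subtype, A⁆ = (Cfsg.pResidual p ↥K).map K.subtype) := by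
  open CfsgLib.Inv in
  open scoped Pointwise in
  open scoped commutatorElement in
  exact (by
    have hKsn : K.IsSubnormal := hK ▸ subnormal_sInf _ fun X hX => hX.2
    have hAK : A ≤ K := hK ▸ le_sInf fun X hX => hX.1
    have hmin : ∀ X : Subgroup H, A ≤ X → X.IsSubnormal → K ≤ X := fun X h1 h2 =>
      hK ▸ sInf_le ⟨h1, h2⟩
    set O := Cfsg.pResidual p ↥K with hO
    haveI := pResidual_normal p ↥K
    -- a subgroup of K over A whose K-subnormality is known is everything
    have htop : ∀ X : Subgroup ↥K, A.subgroupOf K ≤ X → X.IsSubnormal → X = ⊤ := by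
      intro X hX hXs
      have h1 := hmin (X.map K.subtype) (fun a ha => Subgroup.mem_map.2 ⟨⟨a, hAK ha⟩, hX ha, rfl⟩)
        (hXs.trans' hKsn)
      refine eq_top_iff.2 fun k _ => ?_
      obtain ⟨y, hy, he⟩ := h1 k.2
      exact Subtype.ext (he : (y : H) = k) ▸ hy
    have hAO : A.subgroupOf K ⊔ O = ⊤ := by
      refine htop _ le_sup_left ?_
      haveI := (pResidual_quotient_pgroup O le_rfl).isNilpotent
      have := (subnormal_of_nilpotent ((A.subgroupOf K).map (QuotientGroup.mk' O))).comap
        (QuotientGroup.mk' O)
      rwa [QuotientGroup.comap_map_mk', sup_comm] at this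
    refine ⟨?_, ?_, ?_, fun hA => ?_⟩
    · rw [htop (Subgroup.normalClosure ((A.subgroupOf K : Subgroup ↥K) : Set ↥K))
        Subgroup.subset_normalClosure Subgroup.normalClosure_normal.isSubnormal,
        ← MonoidHom.range_eq_map, Subgroup.range_subtype]
    · intro g hg
      have hmap : K ≤ MulAut.conj g • K := by
        refine hmin _ ?_ ?_
        · calc A = MulAut.conj g • A := (CfsgLib.Solv.conj_smul_eq_self_of_mem_normalizer hg).symm
            _ ≤ MulAut.conj g • K := by
              rw [CfsgLib.Solv.conj_smul_eq_map, CfsgLib.Solv.conj_smul_eq_map]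
              exact Subgroup.map_mono hAK
        · rw [CfsgLib.Solv.conj_smul_eq_map]
          exact hKsn.map (MulAut.conj g).surjective
      exact CfsgLib.Solv.mem_normalizer_of_conj_smul_eq
        (Subgroup.eq_of_le_of_card_ge hmap (CfsgLib.Solv.card_conj_smul g K).le).symm
    · have := congrArg (Subgroup.map K.subtype) hAO
      rw [Subgroup.map_sup, Subgroup.map_subgroupOf_eq_of_le hAK, ← MonoidHom.range_eq_map,
        Subgroup.range_subtype] at this
      exact this
    · set A' := A.subgroupOf K with hA'
      set D := ⁅O, A'⁆ with hD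
      haveI hDn : D.Normal := by
        rw [← Subgroup.normalizer_eq_top_iff, eq_top_iff, ← hAO]
        exact sup_le (CfsgLib.Solv.right_le_normalizer_commutator O A')
          (CfsgLib.Solv.left_le_normalizer_commutator O A')
      haveI hADn : (A' ⊔ D).Normal := by
        rw [← Subgroup.normalizer_eq_top_iff, eq_top_iff, ← hAO]
        refine sup_le (le_sup_left.trans Subgroup.le_normalizer) ?_
        rw [CfsgLib.Solv.le_normalizer_iff_forall_conj_mem]
        intro o ho x hx
        obtain ⟨a, ha, d, hd, rfl⟩ := Subgroup.mem_sup_of_normal_right.1 hx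
        have h1 : o * (a * d) * o⁻¹ = ⁅o, a⁆ * a * (o * d * o⁻¹) := by
          rw [commutatorElement_def]; group
        rw [h1]
        exact mul_mem (mul_mem (Subgroup.mem_sup_right (Subgroup.commutator_mem_commutator ho ha))
          (Subgroup.mem_sup_left ha)) (Subgroup.mem_sup_right (hDn.conj_mem d hd o))
      have htopAD := htop (A' ⊔ D) le_sup_left hADn.isSubnormal
      have hOD : O ≤ D := by
        rw [hO, Cfsg.pResidual, Subgroup.closure_le]
        intro x hx
        rw [SetLike.mem_coe, ← QuotientGroup.eq_one_iff]
        have hmem : QuotientGroup.mk' D x ∈ A'.map (QuotientGroup.mk' D) := by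
          have h1 := Subgroup.mem_map_of_mem (QuotientGroup.mk' D)
            (show x ∈ A' ⊔ D by rw [htopAD]; exact Subgroup.mem_top _)
          rwa [Subgroup.map_sup, QuotientGroup.map_mk'_self, sup_bot_eq] at h1
        exact eq_one_of_coprime_mem ((hA.comap_subtype).map _) hmem
          (Nat.Coprime.coprime_dvd_left (orderOf_map_dvd (QuotientGroup.mk' D) x) hx)
      have hfin : D = O := le_antisymm (Subgroup.commutator_le_left _ _) hOD
      have := congrArg (Subgroup.map K.subtype) hfin
      rw [hD, Subgroup.map_commutator, Subgroup.map_subgroupOf_eq_of_le hAK] at this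
      exact this)

end Cfsg.Agent.S2814
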