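import Cfsg.Statements.S2815
import Cfsg.Agent.Inv.Component
import Cfsg.Agent.Inv.CharP2

set_option autoImplicit false
open Cfsg

namespace Cfsg.Agent.S2815

/-- Let H be a finite group and p a prime dividing its order with O_p(H) = 1, and suppose K = O^p(H) (generated by the elements of order prime to p) is quasisimple. Then K = F*(H); for every nontrivial p-subgroup Y of H, K = [K, Y] and K lies in the subgroup generated by the K-conjugates of Y; every normal subgroup of H not containing K has order prime to p; and H is p-irreducible. -/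
theorem result {H : Type*} [Group H] [Finite H] {p : ℕ} [Fact p.Prime] (hp : p ∣ Nat.card H) (hO : Cfsg.pCore p H = ⊥) (hq : Cfsg.IsQuasisimple ↥(Cfsg.pResidual p H)) : Cfsg.pResidual p H = Cfsg.generalizedFittingSubgroup H ∧ (∀ Y : Subgroup H, IsPGroup p ↥Y → Y ≠ ⊥ → ⁅Cfsg.pResidual p H, Y⁆ = Cfsg.pResidual p H ∧ Cfsg.pResidual p H ≤ ⨆ k : ↥(Cfsg.pResidual p H), Y.map (MulAut.conj (k : H)).toMonoidHom) ∧ (∀ C : Subgroup H, C.Normal → ¬ Cfsg.pResidual p H ≤ C → (Nat.card ↥C).Coprime p) ∧ Cfsg.IsPIrreducible p H := by
  open CfsgLib.Inv in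
  open scoped commutatorElement in
  exact (by
    set K := Cfsg.pResidual p H with hK
    haveI hKn : K.Normal := pResidual_normal p H
    have hcomp : Cfsg.IsComponent K := ⟨hKn.isSubnormal, hq⟩
    have hperf : ⁅K, K⁆ = K := component_commutator hcomp
    -- the centre of K is a p'-group
    set Z := (Subgroup.center K).map K.subtype with hZ
    have hZmem : ∀ z ∈ Z, z ∈ K ∧ ∀ k ∈ K, k * z = z * k := by
      rintro _ ⟨z, hz, rfl⟩
      exact ⟨z.2, fun k hk => congrArg Subtype.val (Subgroup.mem_center_iff.1 hz ⟨k, hk⟩)⟩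
    haveI hZn : Z.Normal := inferInstance
    have hZp : ∀ z ∈ Z, ∀ k : ℕ, orderOf z = p ^ k → z = 1 := by
      intro z hz k hk
      have hc : IsMulCommutative Z := ⟨⟨fun a b => Subtype.ext ((hZmem b b.2).2 a (hZmem a a.2).1)⟩⟩
      obtain ⟨P⟩ : Nonempty (Sylow p Z) := inferInstance
      haveI : (P : Subgroup Z).Normal := ⟨fun a ha g => by
        rw [show g * a * g⁻¹ = a by rw [hc.is_comm.comm g a, mul_inv_cancel_right]]; exact ha⟩
      haveI := Sylow.characteristic_of_normal P inferInstance
      have hle : (P : Subgroup Z).map Z.subtype ≤ Cfsg.pCore p H :=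
        CfsgLib.Solv.le_pCore (N := (P : Subgroup Z).map Z.subtype) (P.2.map _)
      rw [hO] at hle
      obtain ⟨Q, hQ⟩ := (IsPGroup.of_card (n := k) (G := Subgroup.zpowers (⟨z, hz⟩ : Z)) (p := p)
        (by rw [Nat.card_zpowers, Subgroup.orderOf_mk, hk])).exists_le_sylow
      haveI := Sylow.unique_of_normal P inferInstance
      rw [Subsingleton.elim Q P] at hQ
      exact Subgroup.mem_bot.1 (hle (Subgroup.mem_map.2 ⟨_, hQ (Subgroup.mem_zpowers _), rfl⟩))
    have hZcop : (Nat.card Z).Coprime p := by
      refine ((Nat.Prime.coprime_iff_not_dvd Fact.out).2 fun hd => ?_).symm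
      obtain ⟨z, hz⟩ := exists_prime_orderOf_dvd_card' (G := Z) p hd
      have h1 := hZp z z.2 1 (by rw [Subgroup.orderOf_coe, hz, pow_one])
      rw [OneMemClass.coe_eq_one] at h1
      rw [h1, orderOf_one] at hz
      exact (Fact.out : p.Prime).ne_one hz.symm
    have hcentral : ∀ U : Subgroup H, U ≤ K → ⁅K, U⁆ = ⊥ → U ≤ Z := by
      intro U hUK hc u hu
      refine Subgroup.mem_map.2 ⟨⟨u, hUK hu⟩, Subgroup.mem_center_iff.2 fun k => Subtype.ext ?_, rfl⟩
      exact (Subgroup.mem_centralizer_iff.1 ((Subgroup.commutator_eq_bot_iff_le_centralizer.1 hc) k.2) u hu).symm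
    -- F* = K
    have hF : K = Cfsg.generalizedFittingSubgroup H := by
      refine le_antisymm ((component_le_layer hcomp).trans layer_le_genFitting) (sup_le (sSup_le fun L hL => ?_) ?_)
      · rcases component_dichotomy hL hKn.isSubnormal with h | h
        · exact h
        · exfalso
          refine component_not_le_solvable hL (H := L) ?_ le_rfl
          have hp' := pResidual_quotient_pgroup (G := H) (p := p) K le_rfl
          haveI := hp'.isNilpotent
          set f := QuotientGroup.mk' K
          have himg : Group.IsSolvable ↥(L.map f) := inferInstance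
          have hLK : L ≤ K := by
            by_contra hle
            have hne : Nontrivial ↥(L.map f) := (Subgroup.nontrivial_iff_ne_bot _).2 fun e => hle (by
              rwa [Subgroup.map_eq_bot_iff, QuotientGroup.ker_mk'] at e)
            have hlt := IsSolvable.commutator_lt_top_of_nontrivial ↥(L.map f)
            refine hlt.ne ?_
            apply Subgroup.map_injective (L.map f).subtype_injective
            rw [commutator_def, Subgroup.map_commutator, ← MonoidHom.range_eq_map, Subgroup.range_subtype,
              ← Subgroup.map_commutator, component_commutator hL]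
          have hLZ := hcentral L hLK (by rw [Subgroup.commutator_comm]; exact h)
          exact Group.isSolvable_of_comm fun a b => Subtype.ext ((hZmem _ (hLZ b.2)).2 a (hLK a.2))
      · have hFn := fitting_nilpotent (G := H)
        haveI := hFn
        haveI := fitting_characteristic (G := H)
        have hFK : Cfsg.fittingSubgroup H ≤ K := by
          rw [CfsgLib.Solv.fittingSubgroup_eq_iSup_pCore]
          refine iSup_le fun q => ?_
          rcases eq_or_ne (q : ℕ) p with hq' | hq'
          · rw [hq', hO]; exact bot_le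
          · haveI : Fact (Nat.Prime (q : ℕ)) := ⟨q.2⟩
            intro x hx
            obtain ⟨k, hk⟩ := IsPGroup.iff_orderOf.1 (CfsgLib.Solv.pCore_isPGroup H (q : ℕ)) ⟨x, hx⟩
            rw [Subgroup.orderOf_mk] at hk
            refine mem_pResidual ?_
            rw [hk]
            exact ((Nat.coprime_primes q.2 (Fact.out : p.Prime)).2 hq').pow_left k
        exact hFK
    have hCK : Subgroup.centralizer (K : Set H) ≤ Z := fun x hx => by
      have hxK : x ∈ K := by
        have := centralizer_genFitting_le (G := H)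
        rw [← hF] at this
        exact this hx
      refine hcentral (Subgroup.zpowers x) (Subgroup.zpowers_le.2 hxK) ?_ (Subgroup.mem_zpowers x)
      rw [Subgroup.commutator_eq_bot_iff_le_centralizer]
      exact Subgroup.le_centralizer_iff.1 (Subgroup.zpowers_le.2 hx)
    have hsmall : ∀ U : Subgroup H, U.Normal → ¬ K ≤ U → ⁅K, U⁆ = ⊥ := fun U hU hnle =>
      (component_dichotomy hcomp hU.isSubnormal).resolve_left hnle
    have hnormcop : ∀ C : Subgroup H, C.Normal → ¬ K ≤ C → (Nat.card C).Coprime p := fun C hC hnle => by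
      have : C ≤ Z := le_trans (Subgroup.le_centralizer_iff.1
        (Subgroup.commutator_eq_bot_iff_le_centralizer.1 (hsmall C hC hnle))) hCK
      exact Nat.Coprime.of_dvd_left (Subgroup.card_dvd_of_le this) hZcop
    refine ⟨hF, fun Y hY hY1 => ?_, hnormcop, fun hcl => ?_, fun N hN hNc => ?_⟩
    · set W := ⁅K, Y⁆ with hW
      have hWK : W ≤ K := Subgroup.commutator_le_left _ _
      have hWn : (W.subgroupOf K).Normal :=
        (Subgroup.normal_subgroupOf_iff_le_normalizer hWK).2 (CfsgLib.Solv.left_le_normalizer_commutator K Y)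
      haveI := hWn
      have hWtop : W = K := by
        rcases quasisimple_normal hq (W.subgroupOf K) with h | h
        · exfalso
          have hW' : W ≤ Subgroup.centralizer (K : Set H) := fun w hw =>
            Subgroup.mem_centralizer_iff.2 fun k hk =>
              congrArg Subtype.val (Subgroup.mem_center_iff.1
                (h (Subgroup.mem_subgroupOf.2 hw : (⟨w, hWK hw⟩ : K) ∈ W.subgroupOf K)) ⟨k, hk⟩)
          have h1 : ⁅⁅K, Y⁆, K⁆ = ⊥ := Subgroup.commutator_eq_bot_iff_le_centralizer.2 hW'
          have h2 : ⁅⁅Y, K⁆, K⁆ = ⊥ := by rw [Subgroup.commutator_comm Y K]; exact h1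
          have h3 := Subgroup.commutator_commutator_eq_bot_of_rotate h1 h2
          rw [hperf, Subgroup.commutator_comm, Subgroup.commutator_eq_bot_iff_le_centralizer] at h3
          have hYZ : Y ≤ Z := h3.trans hCK
          obtain ⟨y, hy, hy1⟩ := (Subgroup.bot_or_exists_ne_one Y).resolve_left hY1
          obtain ⟨k, hk⟩ := IsPGroup.iff_orderOf.1 hY ⟨y, hy⟩
          rw [Subgroup.orderOf_mk] at hk
          exact hy1 (hZp y (hYZ hy) k hk)
        · exact le_antisymm hWK (Subgroup.subgroupOf_eq_top.1 h)
      refine ⟨hWtop, ?_⟩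
      set J := ⨆ k : ↥K, Y.map (MulAut.conj (k : H)).toMonoidHom with hJ
      calc K = ⁅K, Y⁆ := hWtop.symm
        _ ≤ J := by
          refine Subgroup.commutator_le.2 fun k hk y hy => ?_
          have h1 : k * y * k⁻¹ ∈ J :=
            le_iSup (fun k : ↥K => Y.map (MulAut.conj (k : H)).toMonoidHom) ⟨k, hk⟩ (Subgroup.mem_map.2 ⟨y, hy, rfl⟩)
          have h2 : y⁻¹ ∈ J :=
            le_iSup (fun k : ↥K => Y.map (MulAut.conj (k : H)).toMonoidHom) (1 : ↥K) (Subgroup.mem_map.2 ⟨y⁻¹, inv_mem hy, by simp⟩)
          rw [commutatorElement_def]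
          exact mul_mem h1 h2
    · obtain ⟨P⟩ : Nonempty (Sylow p H) := inferInstance
      haveI := hcl P
      have hPO := CfsgLib.Solv.le_pCore (N := (P : Subgroup H)) P.2
      rw [hO, le_bot_iff] at hPO
      exact P.ne_bot_of_dvd_card hp hPO
    · by_contra hnle
      refine hNc fun P => ?_
      have hb : (P : Subgroup N) = ⊥ := Subgroup.card_eq_one.1 (by
        obtain ⟨k, hk⟩ := IsPGroup.iff_card.1 P.2
        exact Nat.eq_one_of_dvd_coprimes ((hnormcop N hN hnle).pow_right k) (Subgroup.card_subgroup_dvd_card _) (hk ▸ dvd_rfl))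
      rw [hb]; infer_instance)

end Cfsg.Agent.S2815
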