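import Cfsg.Statements.S2816
import Cfsg.Agent.Inv.FStarAction

set_option autoImplicit false
open Cfsg

namespace Cfsg.Agent.S2816

open CfsgLib.Inv.FStar

/-- Let H be a finite group and p a prime with O_p(H) = 1, and Y a p-subgroup of H. Then for every subnormal subgroup K of H containing Y, [F*(H), Y] = [F*(K), Y] = [F*(K), Y, Y]; and if Y₀ ≤ Y with [F*(H), Y, Y₀] = 1 then Y₀ = 1 (in particular [F*(H), Y] = 1 forces Y = 1). -/
theorem result {H : Type*} [Group H] [Finite H] {p : ℕ} [Fact p.Prime] (hO : Cfsg.pCore p H = ⊥) (Y : Subgroup H) (hY : IsPGroup p ↥Y) : (∀ K : Subgroup H, K.IsSubnormal → Y ≤ K → ⁅Cfsg.generalizedFittingSubgroup H, Y⁆ = ⁅(Cfsg.generalizedFittingSubgroup ↥K).map K.subtype, Y⁆ ∧ ⁅(Cfsg.generalizedFittingSubgroup ↥K).map K.subtype, Y⁆ = ⁅⁅(Cfsg.generalizedFittingSubgroup ↥K).map K.subtype, Y⁆, Y⁆) ∧ (∀ Y₀ : Subgroup H, Y₀ ≤ Y → ⁅⁅Cfsg.generalizedFittingSubgroup H, Y⁆, Y₀⁆ = ⊥ → Y₀ = ⊥) := by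
    haveI hn : (Cfsg.generalizedFittingSubgroup H).Normal := CfsgLib.Inv.genFitting_normal
    set F := Cfsg.generalizedFittingSubgroup H with hF
    have hnorm : Y ≤ Subgroup.normalizer (F : Set H) := by rw [Subgroup.normalizer_eq_top]; exact le_top
    have htop := genFitting_eq_top hn.isSubnormal (le_refl F)
    have hOF := pCore_eq_bot hn.isSubnormal hO
    have h2 := commutator_twice htop hOF hY hnorm
    refine ⟨fun K hK hYK => ?_, fun Y₀ hY₀ h0 => ?_⟩
    · set FK := (Cfsg.generalizedFittingSubgroup ↥K).map K.subtype with hFK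
      have hinf : F ⊓ K = FK := CfsgLib.Solv.genFitting_inf_subnormal hK
      have hsn : FK.IsSubnormal := by
        refine Subgroup.IsSubnormal.trans (Subgroup.map_subtype_le _) ?_ hK
        rw [Subgroup.subgroupOf, Subgroup.comap_map_eq_self_of_injective K.subtype_injective]
        exact (CfsgLib.Inv.genFitting_normal (G := ↥K)).isSubnormal
      have hnK : Y ≤ Subgroup.normalizer (FK : Set H) := hYK.trans (by
        haveI := CfsgLib.Inv.genFitting_characteristic (G := ↥K)
        exact le_normalizer_map_char Subgroup.le_normalizer (Cfsg.generalizedFittingSubgroup ↥K))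
      have hle : FK ≤ F := hinf ▸ inf_le_left
      refine ⟨le_antisymm ?_ (Subgroup.commutator_mono hle le_rfl),
        (commutator_twice (genFitting_eq_top hsn hle) (pCore_eq_bot hsn hO) hY hnK).symm⟩
      rw [← h2]
      refine Subgroup.commutator_mono ?_ le_rfl
      rw [← hinf]
      exact le_inf (CfsgLib.Solv.commutator_le_of_le_normalizer hnorm) (commutator_le_subnormal hO hY hK hYK)
    · refine pgroup_centralizing_genFitting hO (hY.to_le hY₀) fun y hy => ?_
      rw [Subgroup.mem_centralizer_iff]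
      intro x hx
      obtain ⟨m, hm, c, hc, rfl⟩ := split htop hOF hY hnorm x hx
      have hm' : Commute m y := (Subgroup.mem_centralizer_iff.1 (Subgroup.commutator_eq_bot_iff_le_centralizer.1 h0 hm) y hy).symm
      have hc' : Commute c y := (Subgroup.mem_centralizer_iff.1 (Subgroup.mem_inf.1 hc).2 y (hY₀ hy)).symm
      exact (hm'.mul_left hc').eq

end Cfsg.Agent.S2816
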