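import Cfsg.Statements.S2817
import Cfsg.Agent.Inv.FStarAction
import Cfsg.Agent.Inv.PClosed

set_option autoImplicit false
open Cfsg

namespace Cfsg.Agent.S2817

open CfsgLib.Inv.FStar
open scoped commutatorElement

theorem normalizer_le_normalizer_centralizer {H : Type*} [Group H] [Finite H] {K : Subgroup H} :
    Subgroup.normalizer (K : Set H) ≤ Subgroup.normalizer ((Subgroup.centralizer (K : Set H) : Subgroup H) : Set H) := fun g hg =>
  Subgroup.mem_normalizer_fintype fun c hc => Subgroup.mem_centralizer_iff.2 fun k hk => by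
    have h := Subgroup.mem_centralizer_iff.1 hc (g⁻¹ * k * g) ((Subgroup.mem_normalizer_iff.1 hg _).2 (by simpa [mul_assoc] using hk))
    calc k * (g * c * g⁻¹) = g * ((g⁻¹ * k * g) * c) * g⁻¹ := by group
      _ = g * (c * (g⁻¹ * k * g)) * g⁻¹ := by rw [h]
      _ = g * c * g⁻¹ * k := by group

theorem fixed_le_derived {H : Type*} [Group H] [Finite H] {p : ℕ} [Fact p.Prime] {L Q : Subgroup H}
    (hQ : IsPGroup p ↥Q) (hQL : Q ≤ Subgroup.normalizer (L : Set H)) (hgen : ⁅L, Q⁆ = L)
    (hcop : (commutator ↥L).index.Coprime p) {z : ↥L} (hz : ∀ q ∈ Q, q * z * q⁻¹ = (z : H)) : z ∈ commutator ↥L := by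
  classical
  haveI := Fintype.ofFinite ↥Q
  let c : ↥Q → ↥L →* ↥L := fun q => (L.normalizerMonoidHom ⟨q, hQL q.2⟩).toMonoidHom
  have hc : ∀ (q : ↥Q) (x : ↥L), ((c q x : ↥L) : H) = q * x * (q : H)⁻¹ := fun q x => rfl
  let N : ↥L →* Abelianization ↥L := ∏ q : ↥Q, Abelianization.of.comp (c q)
  have hN : ∀ x, N x = ∏ q : ↥Q, Abelianization.of (c q x) := fun x => by
    simp only [N, MonoidHom.finsetProd_apply]; rfl
  have hker : ∀ w ∈ L, ∀ h : w ∈ L, N ⟨w, h⟩ = 1 := by
    intro w hw
    rw [← hgen] at hw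
    induction hw using Subgroup.closure_induction with
    | mem g hg =>
      obtain ⟨x, hx, a, ha, rfl⟩ := hg
      intro h
      have e : (⟨⁅x, a⁆, h⟩ : ↥L) = ⟨x, hx⟩ * (c ⟨a, ha⟩ ⟨x, hx⟩)⁻¹ := by
        apply Subtype.ext
        simp [hc, commutatorElement_def, mul_assoc]
      rw [e, map_mul, map_inv, mul_inv_eq_one, hN, hN]
      symm
      refine Fintype.prod_equiv (Equiv.mulRight ⟨a, ha⟩) _ _ fun q => ?_
      congr 1
      apply Subtype.ext
      simp [hc, mul_assoc]
    | one => intro h; exact map_one N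
    | mul u v hu hv ihu ihv =>
      intro h
      have hu' : u ∈ L := hgen.le hu
      have hv' : v ∈ L := hgen.le hv
      rw [show (⟨u * v, h⟩ : ↥L) = ⟨u, hu'⟩ * ⟨v, hv'⟩ from rfl, map_mul, ihu, ihv, mul_one]
    | inv u hu ihu =>
      intro h
      have hu' : u ∈ L := hgen.le hu
      rw [show (⟨u⁻¹, h⟩ : ↥L) = ⟨u, hu'⟩⁻¹ from rfl, map_inv, ihu, inv_one]
  have h1 := hker z z.2 z.2
  rw [Subtype.coe_eta, hN, Finset.prod_congr rfl (fun q _ => show Abelianization.of (c q z) = Abelianization.of z from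
    congrArg _ (Subtype.ext (hz q q.2))), Finset.prod_const, Finset.card_univ, ← Nat.card_eq_fintype_card] at h1
  obtain ⟨n, hn⟩ := hQ.exists_card_eq
  rw [hn] at h1
  have h2 : (Abelianization.of z) ^ (commutator ↥L).index = 1 := by
    rw [Subgroup.index_eq_card]; exact pow_card_eq_one'
  have h3 := pow_gcd_eq_one.2 ⟨h1, h2⟩
  rw [Nat.Coprime.gcd_eq_one (hcop.pow_right n).symm, pow_one] at h3
  rwa [← MonoidHom.mem_ker, Abelianization.ker_of] at h3

/-- Let H be a finite group and p a prime with O_p(H) = 1, Q a p-subgroup of H, L = [F*(H), Q], and F the largest normal subgroup of F*(H) centralized by Q (a normal subgroup of F*(H) centralized by Q and containing every such). Then F = C_{F*(H)}(LQ); L = [L, Q]; L ∩ F ≤ Φ(L); every p-subgroup B of N_H(Q) with [L, B] ≤ F satisfies [L, B] = 1; and C_H(FL) has order prime to p. -/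
theorem result {H : Type*} [Group H] [Finite H] {p : ℕ} [Fact p.Prime] (hO : Cfsg.pCore p H = ⊥) (Q : Subgroup H) (hQ : IsPGroup p ↥Q) (L : Subgroup H) (hL : L = ⁅Cfsg.generalizedFittingSubgroup H, Q⁆) (F : Subgroup H) (hF : F ≤ Cfsg.generalizedFittingSubgroup H ∧ Cfsg.generalizedFittingSubgroup H ≤ Subgroup.normalizer (F : Set H) ∧ Q ≤ Subgroup.centralizer (F : Set H) ∧ ∀ N : Subgroup H, N ≤ Cfsg.generalizedFittingSubgroup H → Cfsg.generalizedFittingSubgroup H ≤ Subgroup.normalizer (N : Set H) → Q ≤ Subgroup.centralizer (N : Set H) → N ≤ F) : F = Cfsg.generalizedFittingSubgroup H ⊓ Subgroup.centralizer ((L ⊔ Q : Subgroup H) : Set H) ∧ ⁅L, Q⁆ = L ∧ L ⊓ F ≤ (frattini ↥L).map L.subtype ∧ (∀ B : Subgroup H, IsPGroup p ↥B → B ≤ Subgroup.normalizer (Q : Set H) → ⁅L, B⁆ ≤ F → ⁅L, B⁆ = ⊥) ∧ (Nat.card ↥(Subgroup.centralizer ((F ⊔ L : Subgroup H) : Set H))).Coprime p := by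
    haveI hn : (Cfsg.generalizedFittingSubgroup H).Normal := CfsgLib.Inv.genFitting_normal
    set S := Cfsg.generalizedFittingSubgroup H with hS
    obtain ⟨hFS, hSF, hQF, hmax⟩ := hF
    have hSQ : Q ≤ Subgroup.normalizer (S : Set H) := by rw [Subgroup.normalizer_eq_top]; exact le_top
    have hStop := genFitting_eq_top hn.isSubnormal (le_refl S)
    have hSO := pCore_eq_bot hn.isSubnormal hO
    have hLS : L ≤ S := hL ▸ CfsgLib.Solv.commutator_le_of_le_normalizer hSQ
    have hSL : S ≤ Subgroup.normalizer (L : Set H) := hL ▸ CfsgLib.Solv.left_le_normalizer_commutator S Q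
    have hQL : Q ≤ Subgroup.normalizer (L : Set H) := hL ▸ CfsgLib.Solv.right_le_normalizer_commutator S Q
    have hLQ : ⁅L, Q⁆ = L := by rw [hL]; exact commutator_twice hStop hSO hQ hSQ
    have hLsn : L.IsSubnormal := Subgroup.IsSubnormal.trans hLS
      (by haveI := (Subgroup.normal_subgroupOf_iff_le_normalizer hLS).2 hSL; exact Subgroup.Normal.isSubnormal inferInstance)
      hn.isSubnormal
    have hLtop := genFitting_eq_top hLsn hLS
    have hLO := pCore_eq_bot hLsn hO
    have hcomm : ⁅L, F⁆ = ⊥ := by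
      have h1 : ⁅⁅Q, F⁆, S⁆ = ⊥ := by
        rw [Subgroup.commutator_eq_bot_iff_le_centralizer.2 hQF, Subgroup.commutator_bot_left]
      have h2 : ⁅⁅F, S⁆, Q⁆ = ⊥ := by
        rw [← le_bot_iff, ← Subgroup.commutator_eq_bot_iff_le_centralizer.2 hQF, Subgroup.commutator_comm Q F]
        exact Subgroup.commutator_mono (CfsgLib.Solv.commutator_le_of_le_normalizer hSF) le_rfl
      rw [hL]
      exact Subgroup.commutator_commutator_eq_bot_of_rotate h1 h2
    have hFL : F ≤ Subgroup.centralizer (L : Set H) :=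
      Subgroup.commutator_eq_bot_iff_le_centralizer.1 (Subgroup.commutator_comm F L ▸ hcomm)
    have hFQ : F ≤ Subgroup.centralizer (Q : Set H) := Subgroup.le_centralizer_iff.1 hQF
    have hFeq : F = S ⊓ Subgroup.centralizer ((L ⊔ Q : Subgroup H) : Set H) := by
      refine le_antisymm (le_inf hFS (Subgroup.le_centralizer_iff.1 (sup_le (Subgroup.le_centralizer_iff.1 hFL) hQF)))
        (hmax _ inf_le_left ?_ (Subgroup.le_centralizer_iff.1 (inf_le_right.trans (Subgroup.centralizer_le (SetLike.coe_subset_coe.2 le_sup_right)))))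
      intro s hs
      refine Subgroup.mem_normalizer_fintype fun d hd => ?_
      obtain ⟨hdS, hdc⟩ := Subgroup.mem_inf.1 hd
      obtain ⟨m, hm, c, hc, rfl⟩ := split hStop hSO hQ hSQ s hs
      rw [← hL] at hm
      obtain ⟨hcS, hcQ⟩ := Subgroup.mem_inf.1 hc
      have hd' : c * d * c⁻¹ ∈ Subgroup.centralizer ((L ⊔ Q : Subgroup H) : Set H) := by
        have hdL : Subgroup.zpowers d ≤ Subgroup.centralizer ((L ⊔ Q : Subgroup H) : Set H) := Subgroup.zpowers_le.2 hdc
        have hcn : c ∈ Subgroup.normalizer ((L ⊔ Q : Subgroup H) : Set H) := by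
          refine Subgroup.mem_normalizer_fintype fun z hz => ?_
          have h : (L ⊔ Q).map (MulAut.conj c).toMonoidHom ≤ L ⊔ Q := by
            rw [Subgroup.map_sup]
            refine sup_le_sup ?_ ?_
            · rintro _ ⟨l, hl, rfl⟩; exact (Subgroup.mem_normalizer_iff.1 (hSL hcS) l).1 hl
            · rintro _ ⟨q, hq, rfl⟩
              show c * q * c⁻¹ ∈ Q
              rw [← Subgroup.mem_centralizer_iff.1 hcQ q hq, mul_inv_cancel_right]
              exact hq
          exact h ⟨z, hz, rfl⟩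
        exact CfsgLib.Solv.le_normalizer_iff_forall_conj_mem.1
          (normalizer_le_normalizer_centralizer (K := L ⊔ Q)) c hcn d hdc
      have e : m * c * d * (m * c)⁻¹ = c * d * c⁻¹ := by
        have h := Subgroup.mem_centralizer_iff.1 hd' m ((le_sup_left : L ≤ L ⊔ Q) hm)
        rw [show m * c * d * (m * c)⁻¹ = m * (c * d * c⁻¹) * m⁻¹ by group, h, mul_inv_cancel_right]
      rw [e]
      exact Subgroup.mem_inf.2 ⟨hn.conj_mem d hdS c, hd'⟩
    have hcentral : ∀ z : ↥L, (z : H) ∈ F → z ∈ Subgroup.center ↥L := fun z hz =>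
      Subgroup.mem_center_iff.2 fun w => Subtype.ext (Subgroup.mem_centralizer_iff.1 (hFL hz) w w.2)
    have hidx : (commutator ↥L).index.Coprime p := by
      have hsup : commutator ↥L ⊔ Cfsg.fittingSubgroup ↥L = ⊤ := by
        rw [eq_top_iff, ← hLtop]
        refine sup_le (le_sup_of_le_left ?_) le_sup_right
        rw [← CfsgLib.Inv.layer_perfect (G := ↥L), commutator_def]
        exact Subgroup.commutator_mono le_top le_top
      have h : (commutator ↥L).index ∣ Nat.card ↥(Cfsg.fittingSubgroup ↥L) := by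
        rw [← Subgroup.relIndex_top_right, ← hsup, sup_comm, Subgroup.relIndex_sup_right]
        exact Subgroup.relIndex_dvd_card _ _
      exact (fitting_coprime hLO).coprime_dvd_left h
    have hZ : ∀ z : ↥L, (z : H) ∈ F → z ∈ commutator ↥L := fun z hz =>
      fixed_le_derived hQ hQL hLQ hidx fun q hq => by
        rw [← Subgroup.mem_centralizer_iff.1 (hQF hq) (z : H) hz, mul_inv_cancel_right]
    have hphi : F.subgroupOf L ≤ frattini ↥L := by
      simp only [frattini, Order.radical, le_iInf_iff]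
      intro M hM z hz
      by_contra hzM
      set T := Subgroup.center ↥L
      have htop : M ⊔ T = ⊤ := hM.2 _ (lt_of_le_of_ne le_sup_left fun e => hzM (e ▸ (le_sup_right : T ≤ M ⊔ T) (hcentral z hz)))
      haveI hMn : M.Normal := Subgroup.normalizer_eq_top_iff.1 (top_le_iff.1 (htop ▸ sup_le Subgroup.le_normalizer
        ((Subgroup.center_le_centralizer _).trans (Subgroup.centralizer_le_normalizer _))))
      have hle : commutator ↥L ≤ M := by
        rw [commutator_def, Subgroup.commutator_le]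
        intro a _ b _
        obtain ⟨m, hm, t, ht, rfl⟩ := Subgroup.mem_sup_of_normal_right.1 (htop.ge (Subgroup.mem_top a))
        obtain ⟨m', hm', t', ht', rfl⟩ := Subgroup.mem_sup_of_normal_right.1 (htop.ge (Subgroup.mem_top b))
        have e : ⁅m * t, m' * t'⁆ = ⁅m, m'⁆ := by
          simp only [commutatorElement_def, mul_inv_rev]
          have c1 := Subgroup.mem_center_iff.1 ht
          have c2 := Subgroup.mem_center_iff.1 ht'
          calc m * t * (m' * t') * (t⁻¹ * m⁻¹) * (t'⁻¹ * m'⁻¹)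
              = m * (t * (m' * t')) * t⁻¹ * m⁻¹ * t'⁻¹ * m'⁻¹ := by group
            _ = m * m' * (t' * m⁻¹) * t'⁻¹ * m'⁻¹ := by rw [← c1 (m' * t')]; group
            _ = m * m' * m⁻¹ * m'⁻¹ := by rw [← c2 m⁻¹]; group
        rw [e]
        exact mul_mem (mul_mem (mul_mem hm hm') (inv_mem hm)) (inv_mem hm')
      exact hzM (hle (hZ z hz))
    refine ⟨hFeq, hLQ, ?_, ?_, ?_⟩
    · rintro x ⟨hxL, hxF⟩
      exact ⟨⟨x, hxL⟩, hphi hxF, rfl⟩
    · intro B hB hBQ hLB
      have hBL : B ≤ Subgroup.normalizer (L : Set H) := by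
        intro b hb
        refine Subgroup.mem_normalizer_fintype fun z hz => ?_
        have h : L.map (MulAut.conj b).toMonoidHom ≤ L := by
          rw [hL, Subgroup.map_commutator]
          refine Subgroup.commutator_mono ?_ ?_
          · rintro _ ⟨s, hs, rfl⟩; exact hn.conj_mem s hs b
          · rintro _ ⟨q, hq, rfl⟩; exact (Subgroup.mem_normalizer_iff.1 (hBQ hb) q).1 hq
        exact h ⟨z, hz, rfl⟩
      have hgen : (L ⊓ Subgroup.centralizer (B : Set H)).subgroupOf L = ⊤ := by
        refine frattini_nongenerating (eq_top_iff.2 fun x _ => ?_)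
        obtain ⟨m, hm, c, hc, e⟩ := split hLtop hLO hB hBL x x.2
        have hmL : m ∈ L := CfsgLib.Solv.commutator_le_of_le_normalizer hBL hm
        have e' : x = ⟨m, hmL⟩ * ⟨c, (Subgroup.mem_inf.1 hc).1⟩ := Subtype.ext e
        rw [e']
        exact mul_mem ((le_sup_right : frattini ↥L ≤ _) (hphi (hLB hm))) ((le_sup_left : _ ≤ _ ⊔ frattini ↥L) hc)
      exact Subgroup.commutator_eq_bot_iff_le_centralizer.2 ((Subgroup.subgroupOf_eq_top.1 hgen).trans inf_le_right)
    · rw [Nat.coprime_comm, (Fact.out : p.Prime).coprime_iff_not_dvd]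
      intro hdvd
      set C := Subgroup.centralizer ((F ⊔ L : Subgroup H) : Set H) with hC
      have hQn : Q ≤ Subgroup.normalizer (C : Set H) := by
        refine le_trans ?_ (normalizer_le_normalizer_centralizer (K := F ⊔ L))
        intro q hq
        refine Subgroup.mem_normalizer_fintype fun z hz => ?_
        have h : (F ⊔ L).map (MulAut.conj q).toMonoidHom ≤ F ⊔ L := by
          rw [Subgroup.map_sup]
          refine sup_le_sup ?_ ?_
          · rintro _ ⟨f, hf, rfl⟩
            show q * f * q⁻¹ ∈ F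
            rw [Subgroup.mem_centralizer_iff.1 (hFQ hf) q hq, mul_inv_cancel_right]
            exact hf
          · rintro _ ⟨l, hl, rfl⟩; exact (Subgroup.mem_normalizer_iff.1 (hQL hq) l).1 hl
        exact h ⟨z, hz, rfl⟩
      set W := Q ⊔ C with hW
      haveI hCn : (C.subgroupOf W).Normal :=
        (Subgroup.normal_subgroupOf_iff_le_normalizer le_sup_right).2 (sup_le hQn Subgroup.le_normalizer)
      obtain ⟨T, hT⟩ := (hQ.of_equiv (Subgroup.subgroupOfEquivOfLe (le_sup_left : Q ≤ W)).symm).exists_le_sylow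
      obtain ⟨P, hP⟩ := CfsgLib.Inv.sylow_inf_normal T (C.subgroupOf W)
      set R := (((T : Subgroup ↥W) ⊓ C.subgroupOf W).map W.subtype) with hR
      have hRp : IsPGroup p R := (T.isPGroup'.to_le inf_le_left).map _
      have hR1 : p ∣ Nat.card R := by
        rw [hR, CfsgLib.Solv.card_map_subtype, ← hP, CfsgLib.Solv.card_map_subtype]
        exact P.dvd_card_of_dvd_card (by rwa [CfsgLib.Solv.card_subgroupOf (le_sup_right : C ≤ W)])
      have hQR : ∀ q ∈ Q, ∀ r ∈ R, q * r * q⁻¹ ∈ R := by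
        rintro q hq _ ⟨r, hr, rfl⟩
        refine ⟨⟨q, le_sup_left (b := C) hq⟩ * r * ⟨q, le_sup_left (b := C) hq⟩⁻¹, Subgroup.mem_inf.2 ⟨?_, ?_⟩, rfl⟩
        · exact mul_mem (mul_mem (hT hq) (Subgroup.mem_inf.1 hr).1) (inv_mem (hT hq))
        · exact hCn.conj_mem r (Subgroup.mem_inf.1 hr).2 _
      have hQnR : Q ≤ Subgroup.normalizer (R : Set H) := fun q hq => Subgroup.mem_normalizer_fintype (hQR q hq)
      letI : MulAction ↥Q ↥R := MulAction.compHom _ (R.normalizerMonoidHom.comp (Subgroup.inclusion hQnR))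
      obtain ⟨b, hb, hb1⟩ := hQ.exists_fixed_point_of_prime_dvd_card_of_fixed_point (α := ↥R) hR1
        (a := 1) (fun q => map_one ((R.normalizerMonoidHom.comp (Subgroup.inclusion hQnR)) q))
      set B := Subgroup.zpowers (b : H) with hB'
      have hBp : IsPGroup p B := hRp.to_le (Subgroup.zpowers_le.2 b.2)
      have hbC : (b : H) ∈ C := by
        obtain ⟨r, hr, e⟩ := b.2
        rw [← e]; exact (Subgroup.mem_inf.1 hr).2
      have hBC : B ≤ C := Subgroup.zpowers_le.2 hbC
      have hbQ : B ≤ Subgroup.centralizer (Q : Set H) := Subgroup.zpowers_le.2 (Subgroup.mem_centralizer_iff.2 fun q hq =>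
        mul_inv_eq_iff_eq_mul.1 (congrArg Subtype.val (hb ⟨q, hq⟩) : q * (b : H) * q⁻¹ = b))
      have hBL0 : ⁅L, B⁆ = ⊥ := by
        rw [Subgroup.commutator_comm]
        exact Subgroup.commutator_eq_bot_iff_le_centralizer.2 (hBC.trans (Subgroup.centralizer_le (SetLike.coe_subset_coe.2 le_sup_right)))
      have hSB : B ≤ Subgroup.normalizer (S : Set H) := by rw [Subgroup.normalizer_eq_top]; exact le_top
      have hDQ : ⁅⁅S, B⁆, Q⁆ = ⊥ := by
        have h1 : ⁅⁅B, Q⁆, S⁆ = ⊥ := by
          rw [Subgroup.commutator_eq_bot_iff_le_centralizer.2 hbQ, Subgroup.commutator_bot_left]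
        have h2 : ⁅⁅Q, S⁆, B⁆ = ⊥ := by rw [Subgroup.commutator_comm Q S, ← hL, hBL0]
        exact Subgroup.commutator_commutator_eq_bot_of_rotate h1 h2
      have hDF : ⁅S, B⁆ ≤ F := hmax _ (CfsgLib.Solv.commutator_le_of_le_normalizer hSB)
        (CfsgLib.Solv.left_le_normalizer_commutator S B)
        (Subgroup.le_centralizer_iff.1 (Subgroup.commutator_eq_bot_iff_le_centralizer.1 hDQ))
      have hD0 : ⁅S, B⁆ = ⊥ := by
        rw [← commutator_twice hStop hSO hBp hSB, ← le_bot_iff]
        refine (Subgroup.commutator_mono hDF le_rfl).trans (le_of_eq ?_)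
        rw [Subgroup.commutator_comm]
        exact Subgroup.commutator_eq_bot_iff_le_centralizer.2 (hBC.trans (Subgroup.centralizer_le (SetLike.coe_subset_coe.2 le_sup_left)))
      have h := pgroup_centralizing_genFitting hO hBp
        (Subgroup.le_centralizer_iff.1 (Subgroup.commutator_eq_bot_iff_le_centralizer.1 hD0))
      rw [hB', Subgroup.zpowers_eq_bot] at h
      exact hb1 (Subtype.ext h.symm)

end Cfsg.Agent.S2817
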