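import Cfsg.Statements.S2818
import Cfsg.Agent.Inv.CharP2
import Cfsg.Agent.Solv.FittingBasic

set_option autoImplicit false
open Cfsg

namespace Cfsg.Agent.S2818

/-- Let P be a finite p-subgroup of a group G and H a subgroup of N_G(P) with [P, H] ≤ Ω₁(Z(P)) (the elements of order dividing p in the centre of P). Then H centralizes the Frattini subgroup of P. -/
theorem result {G : Type*} [Group G] [Finite G] {p : ℕ} [Fact p.Prime] (P : Subgroup G) (hP : IsPGroup p ↥P) (H : Subgroup G) (hH : H ≤ Subgroup.normalizer (P : Set G)) (h : ⁅P, H⁆ ≤ Cfsg.omegaOne p (P ⊓ Subgroup.centralizer (P : Set G))) : ⁅(frattini ↥P).map P.subtype, H⁆ = ⊥ := by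
  open CfsgLib.Inv in
  open scoped commutatorElement in
  exact (by
    set Z := P ⊓ Subgroup.centralizer (P : Set G) with hZ
    set Z1 := Cfsg.omegaOne p Z with hZ1
    have hZ1Z : Z1 ≤ Z := (Subgroup.closure_le _).2 fun x hx => hx.1
    have hcen : ∀ z ∈ Z, ∀ x ∈ P, x * z = z * x := fun z hz x hx =>
      Subgroup.mem_centralizer_iff.1 (Subgroup.mem_inf.1 hz).2 x hx
    have hexp : ∀ z ∈ Z1, z ^ p = 1 := by
      intro z hz
      have key : z ∈ Z ∧ z ^ p = 1 := by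
        rw [hZ1, Cfsg.omegaOne] at hz
        induction hz using Subgroup.closure_induction with
        | mem a ha => exact ha
        | one => exact ⟨one_mem _, one_pow _⟩
        | mul a b _ _ iha ihb =>
          exact ⟨mul_mem iha.1 ihb.1, by
            rw [Commute.mul_pow ((hcen b ihb.1 a (Subgroup.mem_inf.1 iha.1).1)), iha.2, ihb.2, one_mul]⟩
        | inv a _ iha => exact ⟨inv_mem iha.1, by rw [inv_pow, iha.2, inv_one]⟩
      exact key.2
    have hconj : ∀ x ∈ P, ∀ h ∈ H, ∃ z ∈ Z1, h * x * h⁻¹ = z * x := by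
      intro x hx h' hh
      refine ⟨⁅x, h'⁆⁻¹, inv_mem (h (Subgroup.commutator_mem_commutator hx hh)), ?_⟩
      rw [commutatorElement_def]; group
    set K := (P ⊓ Subgroup.centralizer (H : Set G)).subgroupOf P with hK
    have hfix : ∀ x ∈ P, (∀ h ∈ H, h * x * h⁻¹ = x) → x ∈ Subgroup.centralizer (H : Set G) :=
      fun x _ hf => Subgroup.mem_centralizer_iff.2 fun h hh => by
        calc h * x = h * x * h⁻¹ * h := by group
          _ = x * h := by rw [hf h hh]
    have hle : frattini ↥P ≤ K := by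
      refine CfsgLib.Solv.frattini_le_of_elementary (p := p) K ?_ ?_
      · rw [commutator_def, Subgroup.commutator_le]
        intro a _ b _
        refine Subgroup.mem_subgroupOf.2 (Subgroup.mem_inf.2 ⟨(⁅a, b⁆ : ↥P).2,
          hfix _ (⁅a, b⁆ : ↥P).2 fun h' hh => ?_⟩)
        obtain ⟨z, hz, e1⟩ := hconj a a.2 h' hh
        obtain ⟨w, hw, e2⟩ := hconj b b.2 h' hh
        have hzc : ∀ y ∈ P, y * z = z * y := fun y hy => hcen z (hZ1Z hz) y hy
        have hwc : ∀ y ∈ P, y * w = w * y := fun y hy => hcen w (hZ1Z hw) y hy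
        have hcoe : ((⁅a, b⁆ : ↥P) : G) = (a : G) * b * (a : G)⁻¹ * (b : G)⁻¹ := rfl
        rw [hcoe]
        calc h' * ((a : G) * b * (a : G)⁻¹ * (b : G)⁻¹) * h'⁻¹
            = (h' * a * h'⁻¹) * (h' * b * h'⁻¹) * (h' * a * h'⁻¹)⁻¹ * (h' * b * h'⁻¹)⁻¹ := by group
          _ = z * (a * w) * b * (a : G)⁻¹ * z⁻¹ * (b : G)⁻¹ * w⁻¹ := by rw [e1, e2]; group
          _ = (z * w) * (a * b * (a : G)⁻¹) * (z⁻¹ * (b : G)⁻¹) * w⁻¹ := by rw [hwc a a.2]; group
          _ = (z * w) * (a * b * (a : G)⁻¹) * ((b : G)⁻¹ * z⁻¹) * w⁻¹ := by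
              rw [show z⁻¹ * (b : G)⁻¹ = (b : G)⁻¹ * z⁻¹ from by
                rw [← mul_inv_rev, ← mul_inv_rev, hzc b b.2]]
          _ = (z * w) * (a * b * (a : G)⁻¹ * (b : G)⁻¹) * (z⁻¹ * w⁻¹) := by group
          _ = (a * b * (a : G)⁻¹ * (b : G)⁻¹) * (z * w) * (z⁻¹ * w⁻¹) := by
              have hm : (a : G) * b * (a : G)⁻¹ * (b : G)⁻¹ ∈ P :=
                mul_mem (mul_mem (mul_mem a.2 b.2) (inv_mem a.2)) (inv_mem b.2)
              rw [hcen _ (mul_mem (hZ1Z hz) (hZ1Z hw)) _ hm]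
          _ = a * b * (a : G)⁻¹ * (b : G)⁻¹ := by
              rw [hwc z (Subgroup.mem_inf.1 (hZ1Z hz)).1]; group
      · intro a
        refine Subgroup.mem_subgroupOf.2 (Subgroup.mem_inf.2 ⟨(a ^ p : ↥P).2,
          hfix _ (a ^ p : ↥P).2 fun h' hh => ?_⟩)
        obtain ⟨z, hz, e1⟩ := hconj a a.2 h' hh
        rw [Subgroup.coe_pow, ← conj_pow, e1, Commute.mul_pow ((hcen z (hZ1Z hz) a a.2).symm), hexp z hz,
          one_mul]
    rw [Subgroup.commutator_eq_bot_iff_le_centralizer]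
    rintro _ ⟨x, hx, rfl⟩
    exact (Subgroup.mem_inf.1 (hle hx)).2)

end Cfsg.Agent.S2818
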