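import Cfsg.Statements.S2819
import Cfsg.Agent.Solv.FittingBasic

set_option autoImplicit false
open Cfsg

namespace Cfsg.Agent.S2819

open scoped commutatorElement

/-- Let P be a finite p-subgroup of a group G, H a subgroup of N_G(P), and Y a subgroup of H centralizing the derived subgroup P' such that [P, Y] is elementary abelian. Then O^p(⟨Y^H⟩), the subgroup of the normal closure of Y in H generated by its elements of order prime to p, centralizes the Frattini subgroup of P. -/
theorem result {G : Type*} [Group G] [Finite G] {p : ℕ} [Fact p.Prime] (P : Subgroup G) (hP : IsPGroup p ↥P) (H : Subgroup G) (hH : H ≤ Subgroup.normalizer (P : Set G)) (Y : Subgroup G) (hYH : Y ≤ H) (hYc : Y ≤ Subgroup.centralizer ((⁅P, P⁆ : Subgroup G) : Set G)) (hel : Cfsg.IsElementaryAbelian p ⁅P, Y⁆) (NY : Subgroup G) (hNY : NY = (Subgroup.normalClosure ((Y.subgroupOf H : Subgroup ↥H) : Set ↥H)).map H.subtype) : (Cfsg.pResidual p ↥NY).map NY.subtype ≤ Subgroup.centralizer (((frattini ↥P).map P.subtype : Subgroup G)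 : Set G) := by
  haveI := hP.isNilpotent
  set P' := ⁅P, P⁆ with hP'
  set Φ := (frattini ↥P).map P.subtype with hΦ
  have hP'P : P' ≤ P := Subgroup.commutator_le_self _
  let Good : G → Prop := fun y => y ∈ Subgroup.normalizer (P : Set G) ∧ (∀ c ∈ P', y * c = c * y) ∧
    ∀ x ∈ Φ, ⁅y, x⁆ ∈ P'
  have hgood : ∀ h ∈ H, ∀ y ∈ Y, Good (h * y * h⁻¹) := by
    intro h hh y hy
    have hhN := hH hh
    have hz : h * y * h⁻¹ ∈ Subgroup.normalizer (P : Set G) := hH (mul_mem (mul_mem hh (hYH hy)) (inv_mem hh))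
    refine ⟨hz, fun c hc => ?_, fun x hx => ?_⟩
    · have hc' : h⁻¹ * c * h ∈ P' := by
        have hN : P'.map (MulAut.conj h⁻¹).toMonoidHom = P' := by
          have e : P.map (MulAut.conj h⁻¹).toMonoidHom = P :=
            Subgroup.mem_normalizer_iff_map_conj_eq.1 (inv_mem hhN)
          rw [hP', Subgroup.map_commutator, e]
        rw [← hN]
        exact ⟨c, hc, by simp⟩
      have := Subgroup.mem_centralizer_iff.1 (hYc hy) _ hc'
      calc h * y * h⁻¹ * c = h * (y * (h⁻¹ * c * h)) * h⁻¹ := by group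
        _ = h * ((h⁻¹ * c * h) * y) * h⁻¹ := by rw [this]
        _ = c * (h * y * h⁻¹) := by group
    · set z := h * y * h⁻¹ with hzdef
      haveI : (commutator ↥P).Normal := inferInstance
      let π := QuotientGroup.mk' (commutator ↥P)
      let c : ↥P →* ↥P :=
        { toFun := fun x => ⟨z * x * z⁻¹, (Subgroup.mem_normalizer_iff.1 hz x).1 x.2⟩
          map_one' := Subtype.ext (by simp)
          map_mul' := fun a b => Subtype.ext (by simp [mul_assoc]) }
      have hle : frattini ↥P ≤ MonoidHom.eqLocus (π.comp c) π := by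
        refine CfsgLib.Solv.frattini_le_of_elementary (p := p) _ ?_ fun x => ?_
        · intro x hx
          have h1 : c x ∈ commutator ↥P := by
            have : (commutator ↥P).map c ≤ commutator ↥P := by
              rw [commutator_def, Subgroup.map_commutator]; exact Subgroup.commutator_mono le_top le_top
            exact this ⟨x, hx, rfl⟩
          show π (c x) = π x
          rw [(QuotientGroup.eq_one_iff _).2 hx |> fun e => (show π x = 1 from e),
            show π (c x) = 1 from (QuotientGroup.eq_one_iff _).2 h1]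
        · show π (c (x ^ p)) = π (x ^ p)
          set x' := h⁻¹ * (x : G) * h with hx'
          have hx'P : x' ∈ P := by simpa [hx'] using (Subgroup.mem_normalizer_iff.1 (inv_mem hhN) x).1 x.2
          have ha : ⁅x', y⁆ ^ p = 1 := hel.2 _ (Subgroup.commutator_mem_commutator hx'P hy)
          have hq : (x : G)⁻¹ * (z * x * z⁻¹) = h * (x'⁻¹ * ⁅x', y⁆⁻¹ * x') * h⁻¹ := by
            rw [hzdef, hx', commutatorElement_def]; group
          set d : ↥P := x⁻¹ * c x with hd
          have hd1 : d ^ p = 1 := Subtype.ext (by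
            show ((x : G)⁻¹ * (z * x * z⁻¹)) ^ p = 1
            rw [hq, conj_pow]
            have : (x'⁻¹ * ⁅x', y⁆⁻¹ * x') ^ p = 1 := by
              have := conj_pow (i := p) (a := x'⁻¹) (b := ⁅x', y⁆⁻¹)
              rw [inv_inv] at this
              rw [this, inv_pow, ha]; group
            rw [this]; group)
          have hcomm : π x * π d = π d * π x := by
            rw [← map_mul, ← map_mul]
            refine QuotientGroup.eq.2 ?_
            have e : (x * d)⁻¹ * (d * x) = ⁅d⁻¹, x⁻¹⁆ := by rw [commutatorElement_def]; group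
            rw [e, commutator_def]
            exact Subgroup.commutator_mem_commutator (Subgroup.mem_top _) (Subgroup.mem_top _)
          rw [map_pow c, map_pow π, map_pow π, show c x = x * d by rw [hd]; group, map_mul π,
            (show Commute (π x) (π d) from hcomm).mul_pow, ← map_pow π d, hd1, map_one, mul_one]
      obtain ⟨x0, hx0, rfl⟩ := hx
      have h2 : π (c x0) = π x0 := hle hx0
      have h3 : c x0 * x0⁻¹ ∈ commutator ↥P := by
        rw [← QuotientGroup.eq_one_iff]
        show π (c x0 * x0⁻¹) = 1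
        rw [map_mul, map_inv, h2, mul_inv_cancel]
      have h4 : (commutator ↥P).map P.subtype = P' := by
        rw [commutator_def, Subgroup.map_commutator, ← MonoidHom.range_eq_map, Subgroup.range_subtype]
      rw [← h4]
      exact ⟨_, h3, by simp [c, commutatorElement_def, z]⟩
  have hmul : ∀ a b, Good a → Good b → Good (a * b) := by
    rintro a b ⟨ha1, ha2, ha3⟩ ⟨hb1, hb2, hb3⟩
    refine ⟨mul_mem ha1 hb1, fun c hc => by rw [mul_assoc, hb2 c hc, ← mul_assoc, ha2 c hc, mul_assoc], fun x hx => ?_⟩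
    rw [show ⁅a * b, x⁆ = a * ⁅b, x⁆ * a⁻¹ * ⁅a, x⁆ by simp only [commutatorElement_def]; group]
    refine mul_mem ?_ (ha3 x hx)
    rw [ha2 _ (hb3 x hx), mul_inv_cancel_right]
    exact hb3 x hx
  have hinv : ∀ a, Good a → Good a⁻¹ := by
    rintro a ⟨ha1, ha2, ha3⟩
    have ha2' : ∀ c ∈ P', a⁻¹ * c = c * a⁻¹ := fun c hc => ((Commute.inv_left (ha2 c hc))).eq
    refine ⟨inv_mem ha1, ha2', fun x hx => ?_⟩
    rw [show ⁅a⁻¹, x⁆ = a⁻¹ * ⁅a, x⁆⁻¹ * a by simp only [commutatorElement_def]; group,
      ha2' _ (inv_mem (ha3 x hx)), inv_mul_cancel_right]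
    exact inv_mem (ha3 x hx)
  have hone : Good 1 := ⟨one_mem _, fun c _ => by simp, fun x _ => by simp⟩
  have hNYgood : ∀ y ∈ NY, Good y := by
    intro y hy
    rw [hNY] at hy
    obtain ⟨y0, hy0, rfl⟩ := hy
    unfold Subgroup.normalClosure at hy0
    induction hy0 using Subgroup.closure_induction with
    | mem w hw =>
      obtain ⟨a, ha, hax⟩ := Group.mem_conjugatesOfSet_iff.1 hw
      obtain ⟨g, rfl⟩ := isConj_iff.1 hax
      simpa using hgood g g.2 a (Subgroup.mem_subgroupOf.1 ha)
    | one => exact hone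
    | mul a b _ _ iha ihb => simpa using hmul _ _ iha ihb
    | inv a _ iha => simpa using hinv _ iha
  rw [Cfsg.pResidual, MonoidHom.map_closure, Subgroup.closure_le]
  rintro _ ⟨y, hy, rfl⟩
  obtain ⟨hy1, hy2, hy3⟩ := hNYgood y y.2
  refine Subgroup.mem_centralizer_iff.2 fun x hx => ?_
  obtain ⟨c, hc⟩ : ∃ c : G, c = ⁅(y : G), x⁆ := ⟨_, rfl⟩
  have hcP : c ∈ P' := hc ▸ hy3 x hx
  have hyx : (y : G) * x * (y : G)⁻¹ = c * x := by rw [hc, commutatorElement_def]; group
  have hiter : ∀ k : ℕ, (y : G) ^ k * x * ((y : G) ^ k)⁻¹ = c ^ k * x := by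
    intro k
    induction k with
    | zero => simp
    | succ k ih =>
      calc (y : G) ^ (k + 1) * x * ((y : G) ^ (k + 1))⁻¹
          = (y : G) * ((y : G) ^ k * x * ((y : G) ^ k)⁻¹) * (y : G)⁻¹ := by group
        _ = ((y : G) * c ^ k) * (x * (y : G)⁻¹) := by rw [ih]; group
        _ = c ^ k * ((y : G) * x * (y : G)⁻¹) := by
          rw [hy2 _ (pow_mem hcP k)]; group
        _ = c ^ (k + 1) * x := by rw [hyx, pow_succ, mul_assoc]
  have h1 : c ^ orderOf (y : G) = 1 := by
    have h := hiter (orderOf (y : G))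
    rw [pow_orderOf_eq_one, inv_one, one_mul, mul_one] at h
    exact mul_eq_right.1 h.symm
  obtain ⟨k, hk⟩ := hP ⟨c, hP'P hcP⟩
  have hk' : c ^ p ^ k = 1 := congrArg Subtype.val hk
  have hco : (orderOf (y : G)).Coprime (p ^ k) := by
    rw [Subgroup.orderOf_coe]; exact Nat.Coprime.pow_right k hy
  have hc1 : orderOf c = 1 := Nat.eq_one_of_dvd_coprimes hco (orderOf_dvd_of_pow_eq_one h1) (orderOf_dvd_of_pow_eq_one hk')
  rw [orderOf_eq_one_iff, hc, commutatorElement_eq_one_iff_mul_comm] at hc1
  exact hc1.symm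

end Cfsg.Agent.S2819
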