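import Cfsg.Statements.S2820
import Cfsg.Agent.Inv.CharP2

set_option autoImplicit false
open Cfsg

namespace Cfsg.Agent.S2820

/-- Let A and B be subnormal subgroups of the finite group H with A a p-group and B = O^p(B) (B generated by its elements of order prime to p). Then A normalizes B and B = O^p(AB), the subgroup of ⟨A, B⟩ generated by its elements of order prime to p. -/
theorem result {H : Type*} [Group H] [Finite H] {p : ℕ} [Fact p.Prime] (A B : Subgroup H) (hA : A.IsSubnormal) (hB : B.IsSubnormal) (hAp : IsPGroup p ↥A) (hBres : (Cfsg.pResidual p ↥B).map B.subtype = B) : A ≤ Subgroup.normalizer (B : Set H) ∧ (Cfsg.pResidual p ↥(A ⊔ B)).map (A ⊔ B).subtype = B := by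
  open CfsgLib.Inv in
  exact (by
    haveI := CfsgLib.Solv.pCore_normal H p
    set Q := Cfsg.pCore p H with hQ
    have hAQ : A ≤ Q := subnormal_pgroup_le_pCore hA hAp
    set X := B ⊔ Q with hX
    have hpidx : ∃ n, B.relIndex X = p ^ n := by
      have h1 := CfsgLib.Solv.card_sup_mul_card_inf B Q
      obtain ⟨a, ha⟩ := IsPGroup.iff_card.1 (CfsgLib.Solv.pCore_isPGroup H p)
      rw [← hQ] at ha
      have h2 := CfsgLib.Solv.relIndex_mul_card (le_sup_left : B ≤ B ⊔ Q)
      rw [← h2, mul_assoc, ha] at h1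
      have h3 : B.relIndex X * Nat.card ↥(B ⊓ Q) = p ^ a := Nat.eq_of_mul_eq_mul_left Nat.card_pos h1
      obtain ⟨n, -, hn⟩ := (Nat.dvd_prime_pow (Fact.out : p.Prime)).1 (Dvd.intro _ h3)
      exact ⟨n, hn⟩
    obtain ⟨n, hn⟩ := hpidx
    have key : ∀ (K : Subgroup ↥X), K.IsSubnormal → K.index ∣ p ^ n →
        ∀ x : ↥X, (orderOf x).Coprime p → x ∈ K := by
      intro K hK
      induction hK with
      | top => exact fun _ x _ => Subgroup.mem_top x
      | step K L hKL _ hn' ih =>
        intro hd x hxo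
        have hxL : x ∈ L := ih ((Subgroup.index_dvd_of_le hKL).trans hd) x hxo
        haveI := hn'
        have h1 : Nat.card (↥L ⧸ K.subgroupOf L) ∣ p ^ n := by
          refine dvd_trans ?_ hd
          show K.relIndex L ∣ K.index
          exact ⟨L.index, (Subgroup.relIndex_mul_index hKL).symm⟩
        have h2 : orderOf ((⟨x, hxL⟩ : ↥L) : ↥L ⧸ K.subgroupOf L) = 1 := by
          refine Nat.eq_one_of_dvd_coprimes ((hxo.pow_right n)) ?_ ((orderOf_dvd_natCard _).trans h1)
          have := orderOf_map_dvd (QuotientGroup.mk' (K.subgroupOf L)) (⟨x, hxL⟩ : ↥L)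
          rwa [Subgroup.orderOf_mk] at this
        exact (QuotientGroup.eq_one_iff (N := K.subgroupOf L) (⟨x, hxL⟩ : ↥L)).1 (orderOf_eq_one_iff.1 h2)
    have hmem : ∀ x ∈ X, (orderOf x).Coprime p → x ∈ B := fun x hx hxo =>
      key (B.subgroupOf X) hB.subgroupOf (dvd_of_eq hn) ⟨x, hx⟩ (by rwa [Subgroup.orderOf_mk])
    have hABX : A ⊔ B ≤ X := sup_le (hAQ.trans le_sup_right) le_sup_left
    have hres : (Cfsg.pResidual p ↥(A ⊔ B)).map (A ⊔ B).subtype = B := by
      refine le_antisymm ?_ ?_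
      · rw [Cfsg.pResidual, MonoidHom.map_closure, Subgroup.closure_le]
        rintro _ ⟨x, hx, rfl⟩
        exact hmem x (hABX x.2) (by rw [Subgroup.orderOf_coe]; exact hx)
      · conv_lhs => rw [← hBres]
        rw [Cfsg.pResidual, Cfsg.pResidual, MonoidHom.map_closure, MonoidHom.map_closure]
        refine Subgroup.closure_mono ?_
        rintro _ ⟨x, hx, rfl⟩
        refine ⟨⟨x, Subgroup.mem_sup_right x.2⟩, ?_, rfl⟩
        show (orderOf (⟨(x : H), _⟩ : ↥(A ⊔ B))).Coprime p
        rw [Subgroup.orderOf_mk, Subgroup.orderOf_coe]; exact hx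
    refine ⟨?_, hres⟩
    haveI := pResidual_normal p ↥(A ⊔ B)
    conv_rhs => rw [← hres]
    refine le_trans ?_ (Subgroup.le_normalizer_map (A ⊔ B).subtype)
    rw [Subgroup.normalizer_eq_top, ← MonoidHom.range_eq_map, Subgroup.range_subtype]
    exact le_sup_left)

end Cfsg.Agent.S2820
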