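import Cfsg.Statements.S2821
import Cfsg.Agent.Inv.YL
import Cfsg.Agent.Inv.CosetGraph

set_option autoImplicit false
open Cfsg

namespace Cfsg.Agent.S2821

/-- Let H be a finite group, p a prime, T a Sylow p-subgroup and L a subgroup of characteristic p containing T; let Y_L be the largest p-reduced normal subgroup of L (the join of the normal elementary abelian p-subgroups V of L with O_p(L/C_L(V)) = 1). Then T₀ := C_T(Y_L) is a Sylow p-subgroup of C_H(Y_L); moreover O_p(L) ≤ T₀ ≤ C_L(Y_L) and Ω₁(Z(T)) ≤ Z_L ≤ Y_L ≤ Ω₁(Z(O_p(L))), where Z_L is generated by the Ω₁(Z(S)) over the Sylow p-subgroups S of L. -/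
theorem result {H : Type*} [Group H] [Finite H] {p : ℕ} [Fact p.Prime] (T : Sylow p H) (L : Subgroup H) (hTL : (T : Subgroup H) ≤ L) (hL : Subgroup.centralizer (Cfsg.pCore p ↥L : Set ↥L) ≤ Cfsg.pCore p ↥L) (T₀ : Subgroup H) (hT₀ : T₀ = (T : Subgroup H) ⊓ Subgroup.centralizer (((Cfsg.largestPReducedOf p L) : Subgroup H) : Set H)) : (∃ P : Sylow p ↥(Subgroup.centralizer (((Cfsg.largestPReducedOf p L) : Subgroup H) : Set H)), (P : Subgroup ↥(Subgroup.centralizer (((Cfsg.largestPReducedOf p L) : Subgroup H) : Set H))) = T₀.subgroupOf (Subgroup.centralizer (((Cfsg.largestPReducedOf p L) : Subgroup H) : Set H))) ∧ (Cfsg.pCoreOf p L) ≤ T₀ ∧ T₀ ≤ L ⊓ Subgroup.centralizer (((Cfsg.largestPReducedOf p L) : Subgroup H) : Set H) ∧ (Cfsg.omegaOne p ((T : Subgroup H) ⊓ Subgroup.centralizer (((T : Subgroup H) : Subgroup H) : Set H))) ≤ Cfsg.sylowCenterClosure p L ∧ Cfsg.sylowCenterClosure p L ≤ (Cfsg.largestPReducedOf p L) ∧ (Cfsg.largestPReducedOf p L) ≤ (Cfsg.omegaOne p ((Cfsg.pCoreOf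 p L) ⊓ Subgroup.centralizer (((Cfsg.pCoreOf p L) : Subgroup H) : Set H))) := by
  open CfsgLib.Inv in
  exact (by
    set Y := Cfsg.largestPReducedOf p L with hY
    set C := Subgroup.centralizer ((Y : Subgroup H) : Set H) with hC
    obtain ⟨hYQ, hQC, hYexp⟩ := largestPReducedOf_facts (p := p) L
    set TL : Sylow p ↥L := T.subtype hTL with hTL'
    have hTLmap : (TL : Subgroup ↥L).map L.subtype = (T : Subgroup H) := by
      rw [hTL', Sylow.coe_subtype, Subgroup.map_subgroupOf_eq_of_le hTL]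
    have hQT : Cfsg.pCoreOf p L ≤ (T : Subgroup H) := by
      rw [← hTLmap]; exact Subgroup.map_mono (CfsgLib.Solv.pCore_le_sylow TL)
    refine ⟨?_, hT₀ ▸ le_inf hQT hQC, hT₀ ▸ inf_le_inf hTL le_rfl, ?_, ?_, ?_⟩
    · set N := Subgroup.normalizer ((Y : Subgroup H) : Set H) with hN
      have hTN : (T : Subgroup H) ≤ N := hTL.trans (largestPReducedOf_normal L)
      have hCN : C ≤ N := Subgroup.centralizer_le_normalizer _
      haveI : (C.subgroupOf N).Normal := by
        refine ⟨fun c hc n => Subgroup.mem_centralizer_iff.2 fun y hy => ?_⟩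
        have h1 := Subgroup.mem_centralizer_iff.1 (Subgroup.mem_subgroupOf.1 hc) _
          ((Subgroup.mem_normalizer_iff''.1 n.2 y).1 hy)
        simp only [Subgroup.coe_subtype, Subgroup.coe_mul, Subgroup.coe_inv]
        calc y * ((n : H) * c * (n : H)⁻¹) = (n : H) * ((n : H)⁻¹ * y * n * c) * (n : H)⁻¹ := by group
          _ = (n : H) * (c * ((n : H)⁻¹ * y * n)) * (n : H)⁻¹ := by rw [h1]
          _ = _ := by group
      obtain ⟨P, hP⟩ := sylow_inf_normal (T.subtype hTN) (C.subgroupOf N)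
      have hle : T₀ ≤ C := hT₀ ▸ inf_le_right
      have hcard : Nat.card ↥(T₀.subgroupOf C) = p ^ (Nat.card C).factorization p := by
        rw [CfsgLib.Solv.card_subgroupOf hle, ← CfsgLib.Solv.card_subgroupOf hCN, ← P.card_eq_multiplicity,
          ← CfsgLib.Solv.card_map_subtype _ (P : Subgroup ↥(C.subgroupOf N)), hP, Sylow.coe_subtype]
        rw [← CfsgLib.Solv.card_subgroupOf ((hT₀ ▸ inf_le_left : T₀ ≤ (T : Subgroup H)).trans hTN)]
        congr 1
        rw [hT₀]; rfl
      exact ⟨Sylow.ofCard _ hcard, rfl⟩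
    · rw [Cfsg.sylowCenterClosure]
      refine le_trans ?_ (le_iSup _ TL)
      rw [hTLmap]
    · refine iSup_le fun S => ?_
      have h1 := sylowCenter_le_largest hL S
      have h2 : ((S : Subgroup L) ⊓ Subgroup.centralizer ((S : Subgroup L) : Set L)).map L.subtype =
          (S : Subgroup L).map L.subtype ⊓
            Subgroup.centralizer (((S : Subgroup L).map L.subtype : Subgroup H) : Set H) := by
        refine le_antisymm ?_ ?_
        · rintro _ ⟨x, hx, rfl⟩
          exact Subgroup.mem_inf.2 ⟨Subgroup.mem_map.2 ⟨x, (Subgroup.mem_inf.1 hx).1, rfl⟩,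
            mem_centralizer_map_subtype.2 (Subgroup.mem_inf.1 hx).2⟩
        · intro x hx
          obtain ⟨⟨y, hy, rfl⟩, hx2⟩ := Subgroup.mem_inf.1 hx
          exact Subgroup.mem_map.2 ⟨y, Subgroup.mem_inf.2 ⟨hy, mem_centralizer_map_subtype.1 hx2⟩, rfl⟩
      rw [← h2, Coset.omegaOne_map _ L.subtype_injective]
      exact Subgroup.map_mono h1
    · intro y hy
      exact Subgroup.subset_closure ⟨Subgroup.mem_inf.2 ⟨hYQ hy, Subgroup.mem_centralizer_iff.2 fun q hq =>
        (Subgroup.mem_centralizer_iff.1 (hQC hq) y hy).symm⟩, hYexp y hy⟩)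

end Cfsg.Agent.S2821
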