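import Cfsg.Statements.S2822
import Cfsg.Agent.Inv.YL

set_option autoImplicit false
open Cfsg

namespace Cfsg.Agent.S2822

/-- Let H be a finite group, p a prime, T a Sylow p-subgroup, and L, M subgroups of characteristic p containing T, with largest p-reduced normal subgroups Y_L, Y_M. If L·C_H(Y_M) = M·C_H(Y_M), then Y_M ≤ Y_L. -/
theorem result {H : Type*} [Group H] [Finite H] {p : ℕ} [Fact p.Prime] (T : Sylow p H) (L M : Subgroup H) (hTL : (T : Subgroup H) ≤ L) (hTM : (T : Subgroup H) ≤ M) (hL : Subgroup.centralizer (Cfsg.pCore p ↥L : Set ↥L) ≤ Cfsg.pCore p ↥L) (hM : Subgroup.centralizer (Cfsg.pCore p ↥M : Set ↥M) ≤ Cfsg.pCore p ↥M) : L ⊔ Subgroup.centralizer (((Cfsg.largestPReducedOf p M) : Subgroup H) : Set H) = M ⊔ Subgroup.centralizer (((Cfsg.largestPReducedOf p M) : Subgroup H) : Set H) → (Cfsg.largestPReducedOf p M) ≤ (Cfsg.largestPReducedOf p L) := by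
  open CfsgLib.Inv in
  exact (fun heq => by
    obtain ⟨hYspec, -⟩ := largestPReduced_spec (G := M) (p := p)
    obtain ⟨hYQ, hQC, hYexp⟩ := largestPReducedOf_facts (p := p) M
    set Y := Cfsg.largestPReducedOf p M with hY
    set C := Subgroup.centralizer ((Y : Subgroup H) : Set H) with hC
    have hMN : M ≤ Subgroup.normalizer ((Y : Subgroup H) : Set H) := largestPReducedOf_normal M
    have hCN : C ≤ Subgroup.normalizer ((Y : Subgroup H) : Set H) := Subgroup.centralizer_le_normalizer _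
    have hLN : L ≤ Subgroup.normalizer ((Y : Subgroup H) : Set H) :=
      le_sup_left.trans (heq.le.trans (sup_le hMN hCN))
    have hnC : ∀ g ∈ Subgroup.normalizer ((Y : Subgroup H) : Set H), ∀ c ∈ C, g * c * g⁻¹ ∈ C := by
      intro g hg c hc
      refine Subgroup.mem_centralizer_iff.2 fun y hy => ?_
      have h1 := Subgroup.mem_centralizer_iff.1 hc _ ((Subgroup.mem_normalizer_iff''.1 hg y).1 hy)
      calc y * (g * c * g⁻¹) = g * (g⁻¹ * y * g * c) * g⁻¹ := by group
        _ = g * (c * (g⁻¹ * y * g)) * g⁻¹ := by rw [h1]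
        _ = _ := by group
    have hYT : Y ≤ (T : Subgroup H) := by
      refine hYQ.trans ((Subgroup.map_mono (CfsgLib.Solv.pCore_le_sylow (T.subtype hTM))).trans_eq ?_)
      rw [Sylow.coe_subtype, Subgroup.map_subgroupOf_eq_of_le hTM]
    have hYL : Y ≤ L := hYT.trans hTL
    suffices h : Cfsg.IsPReducedNormal p (Y.subgroupOf L) by
      have h1 : (Y.subgroupOf L).map L.subtype ≤ (Cfsg.largestPReduced p ↥L).map L.subtype :=
        Subgroup.map_mono (f := L.subtype) ((largestPReduced_spec (G := L) (p := p)).2 _ h)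
      rwa [Subgroup.map_subgroupOf_eq_of_le hYL] at h1
    haveI hYn : (Y.subgroupOf L).Normal := (Subgroup.normal_subgroupOf_iff_le_normalizer hYL).2 hLN
    refine reduced_iff.2 ⟨hYn, ⟨⟨⟨fun a b => Subtype.ext (Subtype.ext
      (Subgroup.mem_centralizer_iff.1 (hQC (hYQ b.2)) _ a.2))⟩⟩, fun a ha => Subtype.ext (hYexp _ ha)⟩,
      fun N hN _ hel => ?_⟩
    -- coprime elements of N centralize Y
    have hel' : ∀ x ∈ N, (orderOf x).Coprime p → (x : H) ∈ C := fun x hx hxo =>
      Subgroup.mem_centralizer_iff.2 fun y hy => congrArg Subtype.val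
        (Subgroup.mem_centralizer_iff.1 (hel x hx hxo) ⟨y, hYL hy⟩ hy)
    set N' := N.map L.subtype with hN'
    have hN'N : N' ≤ Subgroup.normalizer (C : Set H) := by
      rw [CfsgLib.Solv.le_normalizer_iff_forall_conj_mem]
      rintro _ ⟨x, hx, rfl⟩ c hc
      exact hnC _ (hLN x.2) c hc
    have hLJ : L ⊔ C ≤ Subgroup.normalizer ((C ⊔ N' : Subgroup H) : Set H) := by
      refine sup_le ?_ (le_sup_left.trans Subgroup.le_normalizer)
      rw [CfsgLib.Solv.le_normalizer_iff_forall_conj_mem]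
      intro l hl j hj
      rw [sup_comm] at hj
      obtain ⟨c, hc, x, ⟨x, hx, rfl⟩, rfl⟩ := CfsgLib.Solv.exists_mul_of_mem_sup hN'N hj
      rw [show l * (c * L.subtype x) * l⁻¹ = l * c * l⁻¹ * (l * L.subtype x * l⁻¹) by group]
      exact mul_mem (Subgroup.mem_sup_left (hnC l (hLN hl) c hc))
        (Subgroup.mem_sup_right (Subgroup.mem_map.2 ⟨⟨l, hl⟩ * x * ⟨l, hl⟩⁻¹, hN.conj_mem x hx _, rfl⟩))
    set K := (C ⊔ N').subgroupOf M with hK
    have hKn : K.Normal := by
      refine ⟨fun k hk m => Subgroup.mem_subgroupOf.2 ?_⟩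
      exact (Subgroup.mem_normalizer_iff.1 (hLJ (heq.ge (Subgroup.mem_sup_left m.2))) (k : H)).1 hk
    have hKC : K ≤ Subgroup.centralizer ((Cfsg.largestPReduced p ↥M : Subgroup ↥M) : Set ↥M) := by
      refine reduced_le hYspec hKn fun k hk hko => mem_centralizer_map_subtype.1 ?_
      have hk' : (k : H) ∈ C ⊔ N' := hk
      rw [sup_comm] at hk'
      obtain ⟨c, hc, x, ⟨x, hx, rfl⟩, hcx⟩ := CfsgLib.Solv.exists_mul_of_mem_sup hN'N hk'
      set a := (orderOf x).factorization p with ha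
      have hxo : orderOf x ≠ 0 := (orderOf_pos x).ne'
      have h1 : ((x ^ p ^ a : ↥L) : H) ∈ C := by
        refine hel' _ (pow_mem hx _) ?_
        rw [orderOf_pow_of_dvd (pow_ne_zero _ (Fact.out : p.Prime).ne_zero) (Nat.ordProj_dvd _ _)]
        exact (Nat.coprime_ordCompl (Fact.out : p.Prime) hxo).symm
      set NY := Subgroup.normalizer ((Y : Subgroup H) : Set H) with hNY
      haveI : (C.subgroupOf NY).Normal :=
        ⟨fun c hc g => hnC g g.2 c hc⟩
      set π := QuotientGroup.mk' (C.subgroupOf NY) with hπ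
      have e : π ⟨k, hMN k.2⟩ = π ⟨(x : H), hLN x.2⟩ := by
        rw [show (⟨k, hMN k.2⟩ : NY) = ⟨c, hCN hc⟩ * ⟨(x : H), hLN x.2⟩ from Subtype.ext hcx, map_mul,
          show π ⟨c, hCN hc⟩ = 1 from (QuotientGroup.eq_one_iff (⟨c, hCN hc⟩ : NY)).2 hc, one_mul]
      have h2 : π ⟨k, hMN k.2⟩ = 1 := by
        refine orderOf_eq_one_iff.1 (Nat.eq_one_of_dvd_coprimes (hko.pow_right a)
          ((orderOf_map_dvd π _).trans (by rw [Subgroup.orderOf_mk, Subgroup.orderOf_coe])) ?_)
        rw [e]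
        refine orderOf_dvd_of_pow_eq_one ?_
        rw [← map_pow]
        exact (QuotientGroup.eq_one_iff ((⟨(x : H), hLN x.2⟩ : NY) ^ p ^ a)).2
          (by simpa [Subgroup.mem_subgroupOf] using h1)
      exact (QuotientGroup.eq_one_iff (⟨k, hMN k.2⟩ : NY)).1 h2
    intro n hn
    refine Subgroup.mem_centralizer_iff.2 fun y hy => Subtype.ext ?_
    have hnC' : (n : H) ∈ C := by
      have hCn' : M ≤ Subgroup.normalizer (C : Set H) := by
        rw [CfsgLib.Solv.le_normalizer_iff_forall_conj_mem]; exact fun m hm c hc => hnC m (hMN hm) c hc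
      obtain ⟨c, hc, m, hm, e⟩ := CfsgLib.Solv.exists_mul_of_mem_sup hCn'
        (heq.le (Subgroup.mem_sup_left n.2))
      have hm' : (⟨m, hm⟩ : ↥M) ∈ K := by
        refine Subgroup.mem_subgroupOf.2 ?_
        show m ∈ C ⊔ N'
        rw [show m = c⁻¹ * (n : H) by rw [e]; group]
        exact mul_mem (Subgroup.mem_sup_left (inv_mem hc)) (Subgroup.mem_sup_right (Subgroup.mem_map.2 ⟨n, hn, rfl⟩))
      rw [e]
      exact mul_mem hc (mem_centralizer_map_subtype.2 (hKC hm'))
    exact Subgroup.mem_centralizer_iff.1 hnC' y hy)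

end Cfsg.Agent.S2822
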