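import Cfsg.Statements.S2823
import Cfsg.Agent.Inv.Transfer
import Cfsg.Agent.Inv.CharP2
import Cfsg.Agent.Inv.CharPLocal
import Cfsg.Agent.Perm.Basic

set_option autoImplicit false
open Cfsg

namespace Cfsg.Agent.S2823

/-- Let H be a finite group, p a prime, T a Sylow p-subgroup and L a subgroup of characteristic p containing T; let Z_L be the subgroup generated by the Ω₁(Z(S)) over the Sylow p-subgroups S of L and O^p(L) the subgroup generated by the elements of L of order prime to p. Then Z_L = Ω₁(Z(L))·[Z_L, O^p(L)] and [Z_L, L] = [Z_L, O^p(L)]. -/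
theorem result {H : Type*} [Group H] [Finite H] {p : ℕ} [Fact p.Prime] (T : Sylow p H) (L : Subgroup H) (hTL : (T : Subgroup H) ≤ L) (hL : Subgroup.centralizer (Cfsg.pCore p ↥L : Set ↥L) ≤ Cfsg.pCore p ↥L) : Cfsg.sylowCenterClosure p L = (Cfsg.omegaOne p (L ⊓ Subgroup.centralizer ((L : Subgroup H) : Set H))) ⊔ ⁅Cfsg.sylowCenterClosure p L, (Cfsg.pResidual p ↥L).map L.subtype⁆ ∧ ⁅Cfsg.sylowCenterClosure p L, L⁆ = ⁅Cfsg.sylowCenterClosure p L, (Cfsg.pResidual p ↥L).map L.subtype⁆ := by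
  open CfsgLib.Inv in
  open scoped commutatorElement in
  exact (by
    classical
    set R : Subgroup H := (Cfsg.pResidual p ↥L).map L.subtype with hR
    set Z := Cfsg.sylowCenterClosure p L with hZ
    set W := ⁅Z, R⁆ with hW
    set U : Sylow p L → Subgroup H := fun S => Cfsg.omegaOne p (((S : Subgroup L).map L.subtype) ⊓
      Subgroup.centralizer (((S : Subgroup L).map L.subtype : Subgroup H) : Set H)) with hU
    haveI := pResidual_normal p L
    haveI := CfsgLib.Solv.pCore_normal L p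
    -- generators
    have hgen : ∀ (S : Sylow p L) (a : H), a ∈ U S → ∃ b : L, (b : H) = a ∧ b ∈ (S : Subgroup L) ∧
        (∀ s ∈ (S : Subgroup L), s * b = b * s) ∧ b ^ p = 1 := by
      intro S a ha
      simp only [hU, Cfsg.omegaOne] at ha
      induction ha using Subgroup.closure_induction with
      | mem a ha =>
        obtain ⟨h1, h2⟩ := ha
        obtain ⟨⟨b, hb, rfl⟩, hc⟩ := Subgroup.mem_inf.1 h1
        exact ⟨b, rfl, hb, fun s hs => Subtype.ext (Subgroup.mem_centralizer_iff.1 hc _ (Subgroup.mem_map.2 ⟨s, hs, rfl⟩)),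
          Subtype.ext (by simpa using h2)⟩
      | one => exact ⟨1, rfl, one_mem _, fun s _ => by simp, one_pow _⟩
      | mul a c _ _ iha ihc =>
        obtain ⟨b1, e1, m1, c1, p1⟩ := iha
        obtain ⟨b2, e2, m2, c2, p2⟩ := ihc
        refine ⟨b1 * b2, by rw [Subgroup.coe_mul, e1, e2], mul_mem m1 m2, fun s hs => ?_, ?_⟩
        · rw [← mul_assoc, c1 s hs, mul_assoc, c2 s hs, mul_assoc]
        · rw [Commute.mul_pow (c2 b1 m1), p1, p2, one_mul]
      | inv a _ iha =>
        obtain ⟨b, e, m, c, q⟩ := iha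
        exact ⟨b⁻¹, by rw [Subgroup.coe_inv, e], inv_mem m, fun s hs => (Commute.inv_right (c s hs)).eq,
          by rw [inv_pow, q, inv_one]⟩
    have hUmem : ∀ (S : Sylow p L) (b : L), b ∈ (S : Subgroup L) → (∀ s ∈ (S : Subgroup L), s * b = b * s) →
        b ^ p = 1 → (b : H) ∈ U S := by
      intro S b h1 h2 h3
      refine Subgroup.subset_closure ⟨Subgroup.mem_inf.2 ⟨Subgroup.mem_map.2 ⟨b, h1, rfl⟩,
        Subgroup.mem_centralizer_iff.2 ?_⟩, by rw [← Subgroup.coe_pow, h3, Subgroup.coe_one]⟩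
      rintro _ ⟨s, hs, rfl⟩
      exact congrArg Subtype.val (h2 s hs)
    -- Z is inside an abelian subgroup of exponent p
    set A : Subgroup L := Cfsg.pCore p ↥L ⊓ Subgroup.centralizer (Cfsg.pCore p ↥L : Set L) with hA
    have hUA : ∀ S, U S ≤ A.map L.subtype := by
      intro S a ha
      obtain ⟨b, rfl, hb, hc, -⟩ := hgen S a ha
      have h1 : b ∈ Subgroup.centralizer (Cfsg.pCore p ↥L : Set L) :=
        Subgroup.mem_centralizer_iff.2 fun q hq => hc q (CfsgLib.Solv.pCore_le_sylow S hq)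
      exact Subgroup.mem_map.2 ⟨b, Subgroup.mem_inf.2 ⟨hL h1, h1⟩, rfl⟩
    have hZA : Z ≤ A.map L.subtype := iSup_le hUA
    have hcomm : ∀ a ∈ Z, ∀ b ∈ Z, a * b = b * a := by
      intro a ha b hb
      obtain ⟨a', ha', rfl⟩ := hZA ha
      obtain ⟨b', hb', rfl⟩ := hZA hb
      exact congrArg Subtype.val (Subgroup.mem_centralizer_iff.1 (Subgroup.mem_inf.1 hb').2 a' (Subgroup.mem_inf.1 ha').1)
    have hexp : ∀ a ∈ Z, a ^ p = 1 := by
      intro a ha
      have key : a ∈ Z ∧ a ^ p = 1 := by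
        rw [hZ, Cfsg.sylowCenterClosure] at ha
        refine Subgroup.iSup_induction _ (C := fun x => x ∈ Z ∧ x ^ p = 1) ha (fun S x hx => ?_)
          ⟨one_mem _, one_pow _⟩ fun x y hx hy => ⟨mul_mem hx.1 hy.1, ?_⟩
        · obtain ⟨b, rfl, -, -, q⟩ := hgen S x hx
          exact ⟨le_iSup U S hx, by rw [← Subgroup.coe_pow, q, Subgroup.coe_one]⟩
        · rw [Commute.mul_pow (hcomm x hx.1 y hy.1), hx.2, hy.2, one_mul]
      exact key.2
    have hZL : Z ≤ L := hZA.trans (Subgroup.map_subtype_le _)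
    -- L-invariance
    have hLZ : L ≤ Subgroup.normalizer (Z : Set H) := by
      rw [CfsgLib.Solv.le_normalizer_iff_forall_conj_mem]
      intro l hl a ha
      refine Subgroup.iSup_induction _ (C := fun x => l * x * l⁻¹ ∈ Z) ha (fun S x hx => ?_)
        (by simp) fun x y hx hy => by simpa [mul_assoc] using mul_mem hx hy
      obtain ⟨b, rfl, hb, hc, q⟩ := hgen S x hx
      have h2 : ((⟨l, hl⟩ * b * ⟨l, hl⟩⁻¹ : L) : H) ∈ U ((⟨l, hl⟩ : L) • S) := by
        refine hUmem _ _ ?_ (fun s hs => ?_) (by rw [conj_pow, q]; simp)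
        · rw [Sylow.coe_subgroup_smul, CfsgLib.Solv.mem_conj_smul_iff]
          simpa [mul_assoc] using hb
        · rw [Sylow.coe_subgroup_smul, CfsgLib.Solv.mem_conj_smul_iff] at hs
          calc s * (⟨l, hl⟩ * b * ⟨l, hl⟩⁻¹) = ⟨l, hl⟩ * ((⟨l, hl⟩ : L)⁻¹ * s * ⟨l, hl⟩ * b) * ⟨l, hl⟩⁻¹ := by group
            _ = ⟨l, hl⟩ * (b * ((⟨l, hl⟩ : L)⁻¹ * s * ⟨l, hl⟩)) * ⟨l, hl⟩⁻¹ := by rw [hc _ hs]
            _ = _ := by group
      exact le_iSup U _ h2
    have hRL : R ≤ L := Subgroup.map_subtype_le _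
    have hWZ : W ≤ Z := (Subgroup.le_normalizer_iff_commutator_le_left.1 (hRL.trans hLZ))
    have hLR : L ≤ Subgroup.normalizer (R : Set H) := by
      refine le_trans ?_ (Subgroup.le_normalizer_map L.subtype)
      rw [Subgroup.normalizer_eq_top, ← MonoidHom.range_eq_map, Subgroup.range_subtype]
    -- L = R T
    set T' : Sylow p L := T.subtype hTL with hT'
    have hRT : Cfsg.pResidual p ↥L ⊔ (T' : Subgroup L) = ⊤ :=
      eq_top_of_sylow_coprime T' le_sup_right fun x hx => Subgroup.mem_sup_left (mem_pResidual hx)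
    have hlrt : ∀ l : L, ∃ r ∈ Cfsg.pResidual p ↥L, ∃ t ∈ (T' : Subgroup L), l = r * t := by
      intro l
      have : l ∈ Cfsg.pResidual p ↥L ⊔ (T' : Subgroup L) := hRT ▸ Subgroup.mem_top l
      obtain ⟨r, hr, t, ht, e⟩ := Subgroup.mem_sup_of_normal_left.1 this
      exact ⟨r, hr, t, ht, e.symm⟩
    have hmove : ∀ b : L, b ∈ (T' : Subgroup L) → (∀ s ∈ (T' : Subgroup L), s * b = b * s) → b ^ p = 1 →
        ∀ l : L, (b : H)⁻¹ * (l * b * l⁻¹ : L) ∈ W := by
      intro b hb hc q l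
      obtain ⟨r, hr, t, ht, rfl⟩ := hlrt l
      have hbZ : (b : H) ∈ Z := le_iSup U T' (hUmem T' b hb hc q)
      have e : ((r * t * b * (r * t)⁻¹ : L) : H) = (r : H) * b * (r : H)⁻¹ := by
        rw [show r * t * b * (r * t)⁻¹ = r * (t * b * t⁻¹) * r⁻¹ by group, hc t ht, mul_inv_cancel_right]
        rfl
      rw [e, show (b : H)⁻¹ * ((r : H) * b * (r : H)⁻¹) = ⁅(b : H)⁻¹, (r : H)⁆ by rw [commutatorElement_def]; group]
      exact Subgroup.commutator_mem_commutator (inv_mem hbZ) (Subgroup.mem_map.2 ⟨r, hr, rfl⟩)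
    -- Z = (U T') W
    have hWn : ∀ a ∈ Z, ∀ w ∈ W, a * w * a⁻¹ = w := fun a ha w hw => by
      rw [hcomm a ha w (hWZ hw), mul_inv_cancel_right]
    have hZUW : ∀ a ∈ Z, ∃ u ∈ U T', ∃ w ∈ W, a = u * w := by
      intro a ha
      refine Subgroup.iSup_induction _ (C := fun x => ∃ u ∈ U T', ∃ w ∈ W, x = u * w) ha (fun S x hx => ?_)
        ⟨1, one_mem _, 1, one_mem _, (one_mul _).symm⟩ ?_
      · obtain ⟨b, rfl, hb, hc, q⟩ := hgen S x hx
        obtain ⟨l, hl⟩ := MulAction.exists_smul_eq L S T'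
        have hb' : l * b * l⁻¹ ∈ (T' : Subgroup L) := by
          rw [← hl, Sylow.coe_subgroup_smul, CfsgLib.Solv.mem_conj_smul_iff]
          simpa [mul_assoc] using hb
        have hc' : ∀ s ∈ (T' : Subgroup L), s * (l * b * l⁻¹) = l * b * l⁻¹ * s := by
          intro s hs
          rw [← hl, Sylow.coe_subgroup_smul, CfsgLib.Solv.mem_conj_smul_iff] at hs
          calc s * (l * b * l⁻¹) = l * (l⁻¹ * s * l * b) * l⁻¹ := by group
            _ = l * (b * (l⁻¹ * s * l)) * l⁻¹ := by rw [hc _ hs]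
            _ = _ := by group
        have q' : (l * b * l⁻¹) ^ p = 1 := by rw [conj_pow, q]; simp
        refine ⟨_, hUmem T' _ hb' hc' q', _, hmove _ hb' hc' q' l⁻¹, ?_⟩
        simp [mul_assoc]
      · rintro x y ⟨u, hu, w, hw, rfl⟩ ⟨u', hu', w', hw', rfl⟩
        refine ⟨u * u', mul_mem hu hu', w * w', mul_mem hw hw', ?_⟩
        calc u * w * (u' * w') = u * (w * u') * w' := by group
          _ = u * (u' * w) * w' := by rw [hcomm w (hWZ hw) u' (le_iSup U T' hu')]
          _ = _ := by group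
    have hLW : L ≤ Subgroup.normalizer (W : Set H) := by
      rw [CfsgLib.Solv.le_normalizer_iff_forall_conj_mem]
      intro l hl w hw
      have h1 : W.map (MulAut.conj l).toMonoidHom ≤ W := by
        rw [hW, Subgroup.map_commutator]
        refine Subgroup.commutator_mono ?_ ?_
        · rintro _ ⟨z, hz, rfl⟩; exact (Subgroup.mem_normalizer_iff.1 (hLZ hl) z).1 hz
        · rintro _ ⟨z, hz, rfl⟩; exact (Subgroup.mem_normalizer_iff.1 (hLR hl) z).1 hz
      exact h1 (Subgroup.mem_map.2 ⟨w, hw, rfl⟩)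
    refine ⟨le_antisymm ?_ (sup_le ?_ hWZ), le_antisymm ?_ (Subgroup.commutator_mono le_rfl hRL)⟩
    · intro a ha
      obtain ⟨u, hu, w, hw, rfl⟩ := hZUW a ha
      refine mul_mem ?_ (Subgroup.mem_sup_right hw)
      obtain ⟨b, rfl, hb, hc, q⟩ := hgen T' u hu
      have hbZ : (b : H) ∈ Z := le_iSup U T' hu
      -- average over cosets of the Sylow subgroup
      letI : CommGroup Z := { (inferInstance : Group Z) with
        mul_comm := fun x y => Subtype.ext (hcomm _ x.2 _ y.2) }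
      let φ : L → (Z →* Z) := fun l => MonoidHom.mk'
        (fun x => ⟨(l : H) * x * (l : H)⁻¹, (Subgroup.mem_normalizer_iff.1 (hLZ l.2) x).1 x.2⟩)
        (fun x y => Subtype.ext (by simp [mul_assoc]))
      letI : Fintype (↥L ⧸ (T' : Subgroup L)) := Fintype.ofFinite _
      let f : ↥L ⧸ (T' : Subgroup L) → Z := fun c => φ c.out ⟨b, hbZ⟩
      let v : Z := ∏ c, f c
      have hf : ∀ (l : L) c, φ l (f c) = f (l • c) := by
        intro l c
        have hq : (l * c.out)⁻¹ * (l • c).out ∈ (T' : Subgroup L) := by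
          rw [← QuotientGroup.eq, QuotientGroup.out_eq']
          conv_rhs => rw [← QuotientGroup.out_eq' c]
          rfl
        refine Subtype.ext ?_
        show (l : H) * ((c.out : H) * b * (c.out : H)⁻¹) * (l : H)⁻¹ = ((l • c).out : H) * b * ((l • c).out : H)⁻¹
        have h3 := congrArg Subtype.val (hc _ hq)
        simp only [Subgroup.coe_mul, Subgroup.coe_inv] at h3
        calc (l : H) * ((c.out : H) * b * (c.out : H)⁻¹) * (l : H)⁻¹
            = (l : H) * c.out * (b * (((l : H) * c.out)⁻¹ * ((l • c).out : H))) * ((l • c).out : H)⁻¹ := by group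
          _ = (l : H) * c.out * (((l : H) * c.out)⁻¹ * ((l • c).out : H) * b) * ((l • c).out : H)⁻¹ := by rw [h3]
          _ = _ := by group
      have hv : ∀ l : L, (l : H) * v * (l : H)⁻¹ = v := by
        intro l
        have : φ l v = v := by
          simp only [v, map_prod, hf]
          exact Fintype.prod_equiv (MulAction.toPerm l) _ _ fun c => rfl
        exact congrArg Subtype.val this
      have hvΩ : (v : H) ∈ Cfsg.omegaOne p (L ⊓ Subgroup.centralizer ((L : Subgroup H) : Set H)) := by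
        refine Subgroup.subset_closure ⟨Subgroup.mem_inf.2 ⟨hZL v.2, Subgroup.mem_centralizer_iff.2 fun l hl => ?_⟩,
          hexp _ v.2⟩
        have := hv ⟨l, hl⟩
        calc l * v = l * v * l⁻¹ * l := by group
          _ = v * l := by rw [this]
      have hbW : ∀ c, (f c : H) * (b : H)⁻¹ ∈ W := by
        intro c
        rw [hcomm _ (f c).2 _ (inv_mem hbZ)]
        exact hmove b hb hc q c.out
      let WZ : Subgroup Z := W.subgroupOf Z
      have hdiff : v * ((⟨b, hbZ⟩ : Z) ^ Nat.card (↥L ⧸ (T' : Subgroup L)))⁻¹ ∈ WZ := by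
        rw [Nat.card_eq_fintype_card, ← Finset.card_univ, ← Finset.prod_const, ← Finset.prod_inv_distrib,
          ← Finset.prod_mul_distrib]
        exact prod_mem fun c _ => hbW c
      set n := Nat.card (↥L ⧸ (T' : Subgroup L)) with hn
      have hbn : (b : H) ^ n ∈ Cfsg.omegaOne p (L ⊓ Subgroup.centralizer ((L : Subgroup H) : Set H)) ⊔ W := by
        have h4 : (v : H) * ((b : H) ^ n)⁻¹ ∈ W := hdiff
        rw [show (b : H) ^ n = ((v : H) * ((b : H) ^ n)⁻¹)⁻¹ * v by group]
        exact mul_mem (Subgroup.mem_sup_right (inv_mem h4)) (Subgroup.mem_sup_left hvΩ)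
      have hcop : (orderOf (b : H)).Coprime n := by
        refine Nat.Coprime.of_dvd_left (orderOf_dvd_of_pow_eq_one (hexp _ hbZ)) ?_
        rw [hn, ← Subgroup.index_eq_card]
        exact (Nat.Prime.coprime_iff_not_dvd Fact.out).2 T'.not_dvd_index
      exact Subgroup.zpowers_le.2 hbn (CfsgLib.Perm.mem_zpowers_pow hcop)
    · refine (Subgroup.closure_le _).2 fun a ha => ?_
      obtain ⟨hac, hap⟩ := ha
      obtain ⟨haL, haC⟩ := Subgroup.mem_inf.1 hac
      have hc : ∀ s : L, s * (⟨a, haL⟩ : L) = ⟨a, haL⟩ * s := fun s =>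
        Subtype.ext (Subgroup.mem_centralizer_iff.1 haC s s.2)
      have hap' : (⟨a, haL⟩ : L) ^ p = 1 := Subtype.ext (by simpa using hap)
      haveI : (Subgroup.zpowers (⟨a, haL⟩ : L)).Normal := ⟨by
        rintro _ ⟨i, rfl⟩ g
        refine ⟨i, ?_⟩
        simp only
        rw [((show Commute g (⟨a, haL⟩ : L) from hc g).zpow_right i).eq, mul_inv_cancel_right]⟩
      have hp' : IsPGroup p (Subgroup.zpowers (⟨a, haL⟩ : L)) := by
        rcases (Nat.dvd_prime (Fact.out : p.Prime)).1 (orderOf_dvd_of_pow_eq_one hap') with h | h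
        · exact IsPGroup.of_card (n := 0) (by rw [Nat.card_zpowers, h, pow_zero])
        · exact IsPGroup.of_card (n := 1) (by rw [Nat.card_zpowers, h, pow_one])
      exact le_iSup U T' (hUmem T' ⟨a, haL⟩ (IsPGroup.le_sylow_of_normal hp' T' (Subgroup.mem_zpowers _))
        (fun s _ => hc s) hap')
    · refine Subgroup.commutator_le.2 fun a ha l hl => ?_
      obtain ⟨u, hu, w, hw, rfl⟩ := hZUW a ha
      obtain ⟨b, rfl, hb, hc, q⟩ := hgen T' u hu
      have hwl : l * w⁻¹ * l⁻¹ ∈ W := (Subgroup.mem_normalizer_iff.1 (hLW hl) _).1 (inv_mem hw)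
      have h5 : (b : H) * (l * (b : H)⁻¹ * l⁻¹) ∈ W := by
        have := hmove b⁻¹ (inv_mem hb) (fun s hs => (Commute.inv_right (hc s hs)).eq) (by rw [inv_pow, q, inv_one]) ⟨l, hl⟩
        simpa [mul_assoc] using this
      have hbl : l * (b : H)⁻¹ * l⁻¹ ∈ Z :=
        (Subgroup.mem_normalizer_iff.1 (hLZ hl) _).1 (inv_mem (le_iSup U T' hu))
      rw [show ⁅(b : H) * w, l⁆ = (b : H) * w * ((l * w⁻¹ * l⁻¹) * (l * (b : H)⁻¹ * l⁻¹)) by
        simp only [commutatorElement_def]; group]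
      rw [show (b : H) * w * ((l * w⁻¹ * l⁻¹) * (l * (b : H)⁻¹ * l⁻¹)) =
          (b : H) * (w * (l * w⁻¹ * l⁻¹)) * (l * (b : H)⁻¹ * l⁻¹) by group,
        hcomm _ (le_iSup U T' hu) _ (hWZ (mul_mem hw hwl)), mul_assoc]
      exact mul_mem (mul_mem hw hwl) h5)

end Cfsg.Agent.S2823
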