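import Cfsg.Statements.S2825
import Cfsg.Agent.Inv.YSubnormal

set_option autoImplicit false
open Cfsg

namespace Cfsg.Agent.S2825

/-- Let L be a subnormal subgroup of the finite group H, p a prime, Y_H and Y_L the largest p-reduced normal subgroups. Then Y_H ∩ L = Y_H ∩ Y_L and this subgroup is a p-reduced normal subgroup of L; C_L(Y_L) = C_L(Y_H) = C_L(Y_H ∩ L); and if O^p(H) ≤ L, then [Y_L, L] = 1 if and only if [Y_H, H] = 1. -/
theorem result {H : Type*} [Group H] [Finite H] {p : ℕ} [Fact p.Prime] (L : Subgroup H) (hL : L.IsSubnormal) : Cfsg.largestPReduced p H ⊓ L = Cfsg.largestPReduced p H ⊓ (Cfsg.largestPReducedOf p L) ∧ Cfsg.IsPReducedNormal p ((Cfsg.largestPReduced p H ⊓ L).subgroupOf L) ∧ L ⊓ Subgroup.centralizer ((Cfsg.largestPReducedOf p L : Subgroup H) : Set H) = L ⊓ Subgroup.centralizer (Cfsg.largestPReduced p H : Set H) ∧ L ⊓ Subgroup.centralizer (Cfsg.largestPReduced p H : Set H) = L ⊓ Subgroup.centralizer ((Cfsg.largestPReduced p H ⊓ L : Subgroup H) : Set H) ∧ (Cfsg.pResidual p H ≤ L → (⁅(Cfsg.largestPReducedOf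 p L), L⁆ = ⊥ ↔ ⁅Cfsg.largestPReduced p H, (⊤ : Subgroup H)⁆ = ⊥)) := by
  open CfsgLib.Inv in
  open scoped commutatorElement in
  exact (by
    set Y := Cfsg.largestPReduced p H with hYdef
    obtain ⟨hY, -⟩ := largestPReduced_spec (G := H) (p := p)
    haveI : Y.Normal := hY.1
    set V := Y ⊓ L with hV
    have hLV : L ≤ Subgroup.normalizer (V : Set H) := CfsgLib.Solv.le_normalizer_inf_of_le
      (by rw [Subgroup.normalizer_eq_top]; exact le_top) Subgroup.le_normalizer
    obtain ⟨m, hm⟩ := exists_iterCommutator_le hL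
    have hkey : ∀ x ∈ L, (orderOf x).Coprime p → x ∈ Subgroup.centralizer (V : Set H) →
        x ∈ Subgroup.centralizer (Y : Set H) := by
      intro x hx hxo hxV
      refine kill_of_nilpotent (reduced_isPGroup hY) hxo
        (by rw [Subgroup.normalizer_eq_top]; exact Subgroup.mem_top _) (n := m + 1) ?_
      have hY' : ∀ n, Cfsg.iterCommutator Y (Subgroup.zpowers x) n ≤ Y := by
        intro n
        induction n with
        | zero => exact le_rfl
        | succ n ih =>
          exact (Subgroup.commutator_mono ih le_rfl).trans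
            (CfsgLib.Solv.commutator_le_of_le_normalizer (by rw [Subgroup.normalizer_eq_top]; exact le_top))
      show ⁅Cfsg.iterCommutator Y (Subgroup.zpowers x) m, Subgroup.zpowers x⁆ = ⊥
      rw [Subgroup.commutator_eq_bot_iff_le_centralizer]
      intro v hv
      have hvL : v ∈ L := hm (iterCommutator_mono le_top (Subgroup.zpowers_le.2 hx) m hv)
      rw [Subgroup.mem_centralizer_iff]
      rintro _ ⟨i, rfl⟩
      exact ((show Commute v x from Subgroup.mem_centralizer_iff.1 hxV v
        (Subgroup.mem_inf.2 ⟨hY' m hv, hvL⟩)).zpow_right i).symm.eq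
    have hLsn : ∀ N : Subgroup H, N ≤ L → L ≤ Subgroup.normalizer (N : Set H) → N.IsSubnormal := fun N hN hn =>
      Subgroup.IsSubnormal.step N L hN hL ((Subgroup.normal_subgroupOf_iff_le_normalizer hN).2 hn)
    have hCV : L ⊓ Subgroup.centralizer (V : Set H) ≤ Subgroup.centralizer (Y : Set H) :=
      FM.reduced_le_subnormal hY (hLsn _ inf_le_left (CfsgLib.Solv.le_normalizer_inf_of_le Subgroup.le_normalizer
        (FM.centralizer_normal_in hLV))) fun x hx hxo => hkey x (Subgroup.mem_inf.1 hx).1 hxo (Subgroup.mem_inf.1 hx).2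
    have heq : L ⊓ Subgroup.centralizer (Y : Set H) = L ⊓ Subgroup.centralizer (V : Set H) :=
      le_antisymm (inf_le_inf_left L (Subgroup.centralizer_le (SetLike.coe_subset_coe.2 inf_le_left)))
        (le_inf inf_le_left hCV)
    have hVred : FM.RedIn p L V := by
      obtain ⟨hc, hexp⟩ := hY.2.1
      refine ⟨⟨⟨⟨fun a b => Subtype.ext ?_⟩⟩, fun a ha => hexp a (Subgroup.mem_inf.1 ha).1⟩, hLV, fun N hNL hn hel => ?_⟩
      · have h := hc.is_comm.comm (⟨_, (Subgroup.mem_inf.1 a.2).1⟩ : Y) ⟨_, (Subgroup.mem_inf.1 b.2).1⟩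
        exact congrArg (Subtype.val : Y → H) h
      · exact (FM.reduced_le_subnormal hY (hLsn N hNL hn) fun x hx hxo => hkey x (hNL hx) hxo (hel x hx hxo)).trans
          (Subgroup.centralizer_le (SetLike.coe_subset_coe.2 inf_le_left))
    have hVY : V ≤ Cfsg.largestPReducedOf p L := FM.red_le inf_le_right hVred
    have heq2 : L ⊓ Subgroup.centralizer ((Cfsg.largestPReducedOf p L : Subgroup H) : Set H) =
        L ⊓ Subgroup.centralizer (Y : Set H) := by
      refine le_antisymm ?_ (le_inf inf_le_left (FM.subnormal_le_centralizer hL))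
      rw [heq]; exact inf_le_inf_left L (Subgroup.centralizer_le (SetLike.coe_subset_coe.2 hVY))
    refine ⟨le_antisymm (le_inf inf_le_left hVY) (inf_le_inf_left Y (Subgroup.map_subtype_le _)), ?_, heq2, heq, ?_⟩
    · refine reduced_iff.2 ⟨(Subgroup.normal_subgroupOf_iff_le_normalizer inf_le_right).2 hLV,
        ⟨⟨⟨fun a b => Subtype.ext (Subtype.ext ?_)⟩⟩, fun a ha => Subtype.ext (by simpa using hVred.1.2 a ha)⟩,
        fun N hN _ hel x hx => ?_⟩
      · have h := hVred.1.1.is_comm.comm (⟨((a : L) : H), a.2⟩ : V) ⟨((b : L) : H), b.2⟩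
        exact congrArg (Subtype.val : V → H) h
      · have hcen : ∀ z : L, z ∈ Subgroup.centralizer ((V.subgroupOf L : Subgroup L) : Set L) ↔
            (z : H) ∈ Subgroup.centralizer (V : Set H) := by
          intro z
          rw [← mem_centralizer_map_subtype, Subgroup.map_subgroupOf_eq_of_le inf_le_right]
        rw [hcen]
        refine hVred.2.2 (N.map L.subtype) (Subgroup.map_subtype_le N) ?_ ?_ ⟨x, hx, rfl⟩
        · haveI := hN
          refine le_trans ?_ (Subgroup.le_normalizer_map L.subtype)
          rw [Subgroup.normalizer_eq_top, ← MonoidHom.range_eq_map, Subgroup.range_subtype]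
        · rintro _ ⟨y, hy, rfl⟩ hyo
          exact (hcen y).1 (hel y hy (by rwa [Subgroup.coe_subtype, Subgroup.orderOf_coe] at hyo))
    · intro hres
      rw [Subgroup.commutator_comm, Subgroup.commutator_eq_bot_iff_le_centralizer,
        Subgroup.commutator_comm Y, Subgroup.commutator_eq_bot_iff_le_centralizer]
      constructor
      · intro h
        have h2 : L ≤ Subgroup.centralizer (Y : Set H) := (le_inf le_rfl h).trans (heq2.le.trans inf_le_right)
        exact reduced_le hY inferInstance fun x _ hxo => h2 (hres (Subgroup.subset_closure hxo))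
      · intro h
        exact (le_inf le_rfl (le_top.trans h)).trans (heq2.ge.trans inf_le_right))

end Cfsg.Agent.S2825
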