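import Cfsg.Statements.S2826
import Cfsg.Agent.Inv.PClosed
import Cfsg.Agent.Solv.PComplement
import Cfsg.Agent.Solv.CoprimeAction

set_option autoImplicit false
open Cfsg

namespace Cfsg.Agent.S2826

/-- Let H be a finite group of characteristic p, T a Sylow p-subgroup, and V a normal elementary abelian p-subgroup of H containing Ω₁(Z(T)). Then C_H(Ω₁(Z(T))) = C_H([V, O^p(H)] ∩ Ω₁(Z(T))), O^p(H) being generated by the elements of order prime to p. -/
theorem result {H : Type*} [Group H] [Finite H] {p : ℕ} [Fact p.Prime] (hH : Subgroup.centralizer (Cfsg.pCore p H : Set H) ≤ Cfsg.pCore p H) (T : Sylow p H) (V : Subgroup H) [V.Normal] (hV : Cfsg.IsElementaryAbelian p V) (hZV : (Cfsg.omegaOne p ((T : Subgroup H) ⊓ Subgroup.centralizer (((T : Subgroup H) : Subgroup H) : Set H))) ≤ V) : Subgroup.centralizer ((Cfsg.omegaOne p ((T : Subgroup H) ⊓ Subgroup.centralizer (((T : Subgroup H) : Subgroup H) : Set H))) : Set H) = Subgroup.centralizer (((⁅V, Cfsg.pResidual p H⁆ ⊓ (Cfsg.omegaOne p ((T : Subgroup H) ⊓ Subgroup.centralizer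 (((T : Subgroup H) : Subgroup H) : Set H)))) : Subgroup H) : Set H) := by
  open CfsgLib.Solv in
  open scoped commutatorElement in
  exact (by
    classical
    set Z := Cfsg.omegaOne p ((T : Subgroup H) ⊓ Subgroup.centralizer ((T : Subgroup H) : Set H)) with hZ
    set W := ⁅V, Cfsg.pResidual p H⁆ with hWdef
    obtain ⟨hcomm, hexp⟩ := hV
    letI : CommGroup V := { (inferInstance : Group V) with mul_comm := hcomm.is_comm.comm }
    have hVp : IsPGroup p V := fun a => ⟨1, Subtype.ext (by simpa using hexp a a.2)⟩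
    have hVT : V ≤ (T : Subgroup H) := (le_pCore hVp).trans (pCore_le_sylow T)
    haveI : (Cfsg.pResidual p H).Normal := CfsgLib.Inv.pResidual_normal p H
    haveI : W.Normal := Subgroup.commutator_normal V _
    have hWV : W ≤ V := commutator_le_of_le_normalizer (by rw [Subgroup.normalizer_eq_top]; exact le_top)
    refine le_antisymm (Subgroup.centralizer_le inf_le_right) fun k hk => Subgroup.mem_centralizer_iff.2 fun z hz => ?_
    have hzV : z ∈ V := hZV hz
    have hZc : Z ≤ Subgroup.centralizer ((T : Subgroup H) : Set H) :=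
      (Subgroup.closure_le _).2 fun x hx => (Subgroup.mem_inf.1 hx.1).2
    have hzT : ∀ t ∈ (T : Subgroup H), t * z * t⁻¹ = z := fun t ht => by
      rw [Subgroup.mem_centralizer_iff.1 (hZc hz) t ht, mul_inv_cancel_right]
    have key : ∀ h : H, h * z * h⁻¹ * z⁻¹ ∈ W := by
      intro h
      have hm : h ∈ ((Cfsg.pResidual p H ⊔ (T : Subgroup H) : Subgroup H) : Set H) := by
        rw [sup_comm, sylow_sup_pResidual T]; trivial
      rw [Subgroup.normal_mul] at hm
      obtain ⟨r, hr, t, ht, rfl⟩ := hm
      have e : r * t * z * (r * t)⁻¹ * z⁻¹ = ⁅r, z⁆ := by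
        have e2 : r * t * z * (r * t)⁻¹ = r * (t * z * t⁻¹) * r⁻¹ := by group
        rw [e2, hzT t ht, commutatorElement_def]
      show r * t * z * (r * t)⁻¹ * z⁻¹ ∈ W
      rw [e, hWdef, Subgroup.commutator_comm]
      exact Subgroup.commutator_mem_commutator hr hzV
    let f : H ⧸ (T : Subgroup H) → V := fun c => Quotient.liftOn' c
      (fun h => (⟨h * z * h⁻¹, Subgroup.Normal.conj_mem ‹V.Normal› z hzV h⟩ : V)) (fun a b hab => Subtype.ext (by
        have h1 := hzT _ (QuotientGroup.leftRel_apply.1 hab)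
        have h2 : a * ((a⁻¹ * b) * z * (a⁻¹ * b)⁻¹) * a⁻¹ = b * z * b⁻¹ := by group
        rw [h1] at h2
        exact h2))
    haveI : Fintype (H ⧸ (T : Subgroup H)) := Fintype.ofFinite _
    set z' : V := ∏ c, f c with hz'
    have hfix : ∀ x : H, x * (z' : H) * x⁻¹ = z' := by
      intro x
      have h1 : (MulAut.conjNormal x : V ≃* V) z' = z' := by
        rw [hz', map_prod, ← Equiv.prod_comp (MulAction.toPerm x) f]
        refine Finset.prod_congr rfl fun c _ => ?_
        induction c using QuotientGroup.induction_on with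
        | _ h => exact Subtype.ext (show x * (h * z * h⁻¹) * x⁻¹ = x * h * z * (x * h)⁻¹ by group)
      have h2 := congrArg (Subtype.val : V → H) h1
      simpa using h2
    set n := (T : Subgroup H).index with hn
    have hw : (z' : H) * (z ^ n)⁻¹ ∈ W := by
      have h1 : (∏ c, f c * (⟨z, hzV⟩ : V)⁻¹) ∈ W.subgroupOf V := by
        refine Subgroup.prod_mem _ fun c _ => ?_
        induction c using QuotientGroup.induction_on with
        | _ h => exact Subgroup.mem_subgroupOf.2 (key h)
      rw [Finset.prod_mul_distrib, Finset.prod_const, Finset.card_univ, ← Nat.card_eq_fintype_card, inv_pow,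
        Subgroup.mem_subgroupOf] at h1
      rw [hn, Subgroup.index]
      simpa using h1
    set w := (z' : H) * (z ^ n)⁻¹ with hwdef
    have hwZ : w ∈ Z := Subgroup.subset_closure ⟨Subgroup.mem_inf.2 ⟨hVT (hWV hw),
      Subgroup.mem_centralizer_iff.2 fun t ht => by
        have c1 : Commute t (z' : H) := mul_inv_eq_iff_eq_mul.1 (hfix t)
        have c2 : Commute t z := mul_inv_eq_iff_eq_mul.1 (hzT t ht)
        exact (c1.mul_right ((c2.pow_right n).inv_right)).eq⟩, hexp w (hWV hw)⟩
    have hkw : Commute k w := (Subgroup.mem_centralizer_iff.1 hk w (Subgroup.mem_inf.2 ⟨hw, hwZ⟩)).symm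
    have hkz' : Commute k (z' : H) := mul_inv_eq_iff_eq_mul.1 (hfix k)
    have hkzn : Commute k (z ^ n) := by
      have e : z ^ n = w⁻¹ * (z' : H) := by rw [hwdef]; group
      rw [e]
      exact hkw.inv_right.mul_right hkz'
    have hcop : Nat.Coprime n (orderOf z) := by
      refine Nat.Coprime.coprime_dvd_right (orderOf_dvd_of_pow_eq_one (hexp z hzV)) (Nat.Coprime.symm ?_)
      exact (Nat.Prime.coprime_iff_not_dvd Fact.out).2 T.not_dvd_index
    obtain ⟨m, hm⟩ := exists_pow_eq_self_of_coprime hcop
    have := hkzn.pow_right m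
    rw [hm] at this
    exact this.symm.eq)

end Cfsg.Agent.S2826
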