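import Cfsg.Statements.S2827
import Cfsg.Agent.Inv.PClosed

set_option autoImplicit false
open Cfsg

namespace Cfsg.Agent.S2827

/-- Let H be a finite p-irreducible group (not p-closed, and O^p(H) lies in every normal subgroup that is not p-closed) and T a Sylow p-subgroup. Then H is generated by the conjugates of T and H = H'·T; O^p(H) ≤ H'; and for every normal subgroup Y of T not contained in O_p(H), O^p(H) = [O^p(H), Y] and O^p(H) is contained in the normal closure of Y in H. -/
theorem result {H : Type*} [Group H] [Finite H] {p : ℕ} [Fact p.Prime] (hH : Cfsg.IsPIrreducible p H) (T : Sylow p H) : Subgroup.normalClosure ((T : Subgroup H) : Set H) = ⊤ ∧ commutator H ⊔ (T : Subgroup H) = ⊤ ∧ Cfsg.pResidual p H ≤ commutator H ∧ ∀ Y : Subgroup H, Y ≤ (T : Subgroup H) → (T : Subgroup H) ≤ Subgroup.normalizer (Y : Set H) → ¬ Y ≤ Cfsg.pCore p H → ⁅Cfsg.pResidual p H, Y⁆ = Cfsg.pResidual p H ∧ Cfsg.pResidual p H ≤ Subgroup.normalClosure (Y : Set H) := by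
  open CfsgLib.Inv in
  open scoped commutatorElement in
  exact (by
    obtain ⟨hnc, hirr⟩ := hH
    haveI := pResidual_normal p H
    set O := Cfsg.pResidual p H with hO
    have hsup : O ⊔ (T : Subgroup H) = ⊤ := pResidual_sup_sylow T
    set N := Subgroup.normalClosure ((T : Subgroup H) : Set H) with hN
    haveI : N.Normal := Subgroup.normalClosure_normal
    have hTN : (T : Subgroup H) ≤ N := Subgroup.subset_normalClosure
    have hON : O ≤ N := by
      refine hirr N inferInstance fun hcl => hnc fun P => ?_
      have h1 := (pClosed_iff_le N).1 hcl (T.subtype hTN)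
      rw [Sylow.coe_subtype, Subgroup.map_subgroupOf_eq_of_le hTN] at h1
      have hTeq : (T : Subgroup H) = Cfsg.pCore p H := le_antisymm h1 (CfsgLib.Solv.pCore_le_sylow T)
      haveI hTn : (T : Subgroup H).Normal := hTeq ▸ CfsgLib.Solv.pCore_normal H p
      obtain ⟨g, hg⟩ := MulAction.exists_smul_eq H T P
      rw [Sylow.smul_eq_of_normal] at hg
      exact hg ▸ hTn
    have hcomm : O ≤ commutator H := by
      rw [hO, Cfsg.pResidual, Subgroup.closure_le]
      intro x hx
      rw [SetLike.mem_coe, ← QuotientGroup.eq_one_iff]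
      have hsurj : (T : Subgroup H).map (QuotientGroup.mk' (commutator H)) = ⊤ := by
        haveI : ((T : Subgroup H) ⊔ commutator H).Normal := by
          refine ⟨fun y hy g => ?_⟩
          have e : g * y * g⁻¹ = ⁅g, y⁆ * y := by rw [commutatorElement_def]; group
          rw [e]
          exact mul_mem (Subgroup.mem_sup_right (Subgroup.commutator_mem_commutator
            (Subgroup.mem_top g) (Subgroup.mem_top y))) hy
        have h1 : N ≤ (T : Subgroup H) ⊔ commutator H :=
          Subgroup.normalClosure_le_normal (le_sup_left : (T : Subgroup H) ≤ _)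
        have h2 : (T : Subgroup H) ⊔ commutator H = ⊤ :=
          eq_top_iff.2 (hsup ▸ sup_le (hON.trans h1) le_sup_left)
        have := congrArg (Subgroup.map (QuotientGroup.mk' (commutator H))) h2
        rwa [Subgroup.map_sup, QuotientGroup.map_mk'_self, sup_bot_eq,
          Subgroup.map_top_of_surjective _ (QuotientGroup.mk'_surjective _)] at this
      exact eq_one_of_coprime_mem (T.2.map _) (hsurj ▸ Subgroup.mem_top _)
        (Nat.Coprime.coprime_dvd_left (orderOf_map_dvd (QuotientGroup.mk' (commutator H)) x) hx)
    refine ⟨eq_top_iff.2 (hsup ▸ sup_le hON hTN), ?_, hcomm, fun Y hYT hTY hYO => ?_⟩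
    · exact eq_top_iff.2 (hsup ▸ sup_le (hcomm.trans le_sup_left) le_sup_right)
    · have hYp : IsPGroup p Y := T.2.to_le hYT
      set M := Subgroup.normalClosure (Y : Set H) with hM
      haveI : M.Normal := Subgroup.normalClosure_normal
      have hYM : Y ≤ M := Subgroup.subset_normalClosure
      have hOM : O ≤ M := by
        refine hirr M inferInstance fun hcl => hYO ?_
        obtain ⟨P, hP⟩ := (hYp.comap_subtype (K := M)).exists_le_sylow
        refine le_trans ?_ ((pClosed_iff_le M).1 hcl P)
        rw [← Subgroup.map_subgroupOf_eq_of_le hYM]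
        exact Subgroup.map_mono hP
      refine ⟨?_, hOM⟩
      set D := ⁅O, Y⁆ with hD
      have hTD : (T : Subgroup H) ≤ Subgroup.normalizer (D : Set H) := by
        rw [CfsgLib.Solv.le_normalizer_iff_forall_conj_mem]
        intro t ht d hd
        have hmap : D.map (MulAut.conj t).toMonoidHom ≤ D := by
          rw [hD, Subgroup.map_commutator]
          refine Subgroup.commutator_mono ?_ ?_
          · rintro _ ⟨o, ho, rfl⟩; exact (inferInstance : O.Normal).conj_mem o ho t
          · rintro _ ⟨y, hy, rfl⟩; exact CfsgLib.Solv.le_normalizer_iff_forall_conj_mem.1 hTY t ht y hy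
        exact hmap (Subgroup.mem_map.2 ⟨d, hd, rfl⟩)
      haveI hDn : D.Normal := by
        rw [← Subgroup.normalizer_eq_top_iff, eq_top_iff, ← hsup]
        exact sup_le (CfsgLib.Solv.left_le_normalizer_commutator O Y) hTD
      haveI hYDn : (Y ⊔ D).Normal := by
        rw [← Subgroup.normalizer_eq_top_iff, eq_top_iff, ← hsup]
        refine sup_le ?_ ?_
        · rw [CfsgLib.Solv.le_normalizer_iff_forall_conj_mem]
          intro o ho x hx
          obtain ⟨y, hy, d, hd, rfl⟩ := Subgroup.mem_sup_of_normal_right.1 hx
          have e : o * (y * d) * o⁻¹ = ⁅o, y⁆ * y * (o * d * o⁻¹) := by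
            rw [commutatorElement_def]; group
          rw [e]
          exact mul_mem (mul_mem (Subgroup.mem_sup_right (Subgroup.commutator_mem_commutator ho hy))
            (Subgroup.mem_sup_left hy)) (Subgroup.mem_sup_right (hDn.conj_mem d hd o))
        · rw [CfsgLib.Solv.le_normalizer_iff_forall_conj_mem]
          intro t ht x hx
          obtain ⟨y, hy, d, hd, rfl⟩ := Subgroup.mem_sup_of_normal_right.1 hx
          rw [show t * (y * d) * t⁻¹ = t * y * t⁻¹ * (t * d * t⁻¹) from by group]
          exact mul_mem (Subgroup.mem_sup_left (CfsgLib.Solv.le_normalizer_iff_forall_conj_mem.1 hTY t ht y hy))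
            (Subgroup.mem_sup_right (hDn.conj_mem d hd t))
      exact le_antisymm (Subgroup.commutator_le_left _ _)
        (pResidual_le_of_sup hYp (hOM.trans (Subgroup.normalClosure_le_normal (SetLike.coe_subset_coe.2 le_sup_left)))))

end Cfsg.Agent.S2827
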