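import Cfsg.Statements.S2828
import Cfsg.Agent.Inv.PClosed

set_option autoImplicit false
open Cfsg

namespace Cfsg.Agent.S2828

/-- Let H be a finite group, p a prime and D a normal p-subgroup of H. Then H is p-irreducible if and only if H/D is p-irreducible, and H is strongly p-irreducible if and only if H/D is strongly p-irreducible. -/
theorem result {H : Type*} [Group H] [Finite H] {p : ℕ} [Fact p.Prime] (D : Subgroup H) [D.Normal] (hD : IsPGroup p ↥D) : (Cfsg.IsPIrreducible p H ↔ Cfsg.IsPIrreducible p (H ⧸ D)) ∧ (Cfsg.IsStronglyPIrreducible p H ↔ Cfsg.IsStronglyPIrreducible p (H ⧸ D)) := by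
  open CfsgLib.Inv in
  exact (by
    set π := QuotientGroup.mk' D with hπ
    have hsurj : Function.Surjective π := QuotientGroup.mk'_surjective D
    have hcore := comap_pCore_of_pgroup (p := p) D hD
    have hres : (Cfsg.pResidual p H).map π = Cfsg.pResidual p (H ⧸ D) := map_pResidual π hsurj
    have hcl : ∀ N : Subgroup H, N.Normal → (Cfsg.IsPClosed p ↥(N.map π) ↔ Cfsg.IsPClosed p ↥N) := by
      intro N hN
      haveI := hN
      haveI := hN.map π hsurj
      rw [pClosed_iff_relIndex, pClosed_iff_relIndex, ← hcore, Subgroup.relIndex_comap]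
    have hclt : Cfsg.IsPClosed p (H ⧸ D) ↔ Cfsg.IsPClosed p H := by
      have hc : ∀ (X : Type _) [Group X] [Finite X], Cfsg.IsPClosed p X ↔
          ∀ P : Sylow p X, (P : Subgroup X) ≤ Cfsg.pCore p X := fun X _ _ =>
        ⟨fun h P => haveI := h P; CfsgLib.Solv.le_pCore P.2, fun h P => by
          rw [le_antisymm (h P) (CfsgLib.Solv.pCore_le_sylow P)]; exact CfsgLib.Solv.pCore_normal X p⟩
      rw [hc, hc]
      constructor
      · intro h P
        rw [← hcore, ← Subgroup.map_le_iff_le_comap]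
        exact le_of_eq_of_le (Sylow.coe_mapSurjective hsurj P).symm (h _)
      · intro h P
        obtain ⟨P₀⟩ : Nonempty (Sylow p H) := inferInstance
        obtain ⟨g, hg⟩ := MulAction.exists_smul_eq (H ⧸ D) (P₀.mapSurjective hsurj) P
        have h1 : ((P₀.mapSurjective hsurj : Sylow p (H ⧸ D)) : Subgroup (H ⧸ D)) ≤ Cfsg.pCore p (H ⧸ D) :=
          (Sylow.coe_mapSurjective hsurj P₀).le.trans ((Subgroup.map_mono (h P₀)).trans (CfsgLib.Solv.map_pCore_le hsurj))
        haveI := CfsgLib.Solv.pCore_normal (H ⧸ D) p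
        rw [← hg, Sylow.coe_subgroup_smul]
        intro y hy
        rw [CfsgLib.Solv.mem_conj_smul_iff] at hy
        have := (inferInstance : (Cfsg.pCore p (H ⧸ D)).Normal).conj_mem _ (h1 hy) g
        simpa [mul_assoc] using this
    have hstrong : ∀ N : Subgroup H, (⁅N.map π, (⊤ : Subgroup (H ⧸ D))⁆ ≤ Cfsg.pCore p (H ⧸ D) ↔
        ⁅N, (⊤ : Subgroup H)⁆ ≤ Cfsg.pCore p H) := fun N => by
      rw [← Subgroup.map_top_of_surjective π hsurj, ← Subgroup.map_commutator, Subgroup.map_le_iff_le_comap,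
        hcore]
    have hlift : ∀ N : Subgroup H, N.Normal → Cfsg.pResidual p (H ⧸ D) ≤ N.map π →
        Cfsg.pResidual p H ≤ N := by
      intro N hN h
      haveI := hN
      refine pResidual_le_of_sup hD ?_
      rw [← hres, Subgroup.map_le_iff_le_comap, hπ, QuotientGroup.comap_map_mk'] at h
      exact h
    refine ⟨⟨fun ⟨h1, h2⟩ => ⟨hclt.not.2 h1, fun N hN hnc => ?_⟩,
        fun ⟨h1, h2⟩ => ⟨hclt.not.1 h1, fun N hN hnc => hlift N hN (h2 _ (hN.map π hsurj) ((hcl N hN).not.2 hnc))⟩⟩,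
      ⟨fun ⟨h1, h2⟩ => ⟨hclt.not.2 h1, fun N hN hnc => ?_⟩,
        fun ⟨h1, h2⟩ => ⟨hclt.not.1 h1, fun N hN hnc => hlift N hN (h2 _ (hN.map π hsurj) ((hstrong N).not.2 hnc))⟩⟩⟩
    · rw [← Subgroup.map_comap_eq_self_of_surjective hsurj N] at hnc
      have h3 := Subgroup.map_mono (f := π) (h2 (N.comap π) (hN.comap π) ((hcl _ (hN.comap π)).not.1 hnc))
      rwa [hres, Subgroup.map_comap_eq_self_of_surjective hsurj] at h3
    · rw [← Subgroup.map_comap_eq_self_of_surjective hsurj N] at hnc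
      have h3 := Subgroup.map_mono (f := π) (h2 (N.comap π) (hN.comap π) ((hstrong _).not.1 hnc))
      rwa [hres, Subgroup.map_comap_eq_self_of_surjective hsurj] at h3)

end Cfsg.Agent.S2828
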