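import Cfsg.Statements.S2829
import Cfsg.Agent.Inv.PClosed

set_option autoImplicit false
open Cfsg

namespace Cfsg.Agent.S2829

/-- Every strongly p-irreducible finite group is p-irreducible. -/
theorem result {H : Type*} [Group H] [Finite H] {p : ℕ} [Fact p.Prime] (hH : Cfsg.IsStronglyPIrreducible p H) : Cfsg.IsPIrreducible p H := by
  open CfsgLib.Inv in
  open scoped commutatorElement in
  exact (by
    refine ⟨hH.1, fun N hN hnc => hH.2 N hN fun hle => hnc fun P => ?_⟩
    haveI := hN
    haveI := CfsgLib.Solv.pCore_normal H p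
    have hQP : (Cfsg.pCore p H).subgroupOf N ≤ (P : Subgroup N) :=
      IsPGroup.le_sylow_of_normal (CfsgLib.Solv.pCore_isPGroup H p).comap_subtype P
    refine ⟨fun x hx g => ?_⟩
    have h1 : (⁅g, x⁆ : ↥N) ∈ (Cfsg.pCore p H).subgroupOf N :=
      hle (Subgroup.commutator_mem_commutator g.2 (Subgroup.mem_top (x : H)))
    have e : g * x * g⁻¹ = ⁅g, x⁆ * x := by rw [commutatorElement_def]; group
    rw [e]
    exact mul_mem (hQP h1) hx)

end Cfsg.Agent.S2829
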