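import Cfsg.Statements.S2830
import Cfsg.Agent.Inv.PClosed

set_option autoImplicit false
open Cfsg

namespace Cfsg.Agent.S2830

/-- Let H act by conjugation on the elementary abelian p-subgroup V of a finite group G (H ≤ N(V)), with H p-irreducible and O^p(H) not centralizing V. Then C_H(V) is p-closed and C_T(V) ≤ O_p(H) for every p-subgroup T of H. If in addition O_p(H) centralizes V, then C_T(V) = T ∩ O_p(H) for every p-subgroup T of H, and V is p-reduced for H: O_p(H/C_H(V)) = 1. -/
theorem result {G : Type*} [Group G] [Finite G] {p : ℕ} [Fact p.Prime] (V H : Subgroup G) (hV : Cfsg.IsElementaryAbelian p V) (hHV : H ≤ Subgroup.normalizer (V : Set G)) (hH : Cfsg.IsPIrreducible p ↥H) (hnc : ¬ (Cfsg.pResidual p ↥H).map H.subtype ≤ Subgroup.centralizer (V : Set G)) [hn : ((Subgroup.centralizer (V : Set G)).subgroupOf H).Normal] : Cfsg.IsPClosed p ↥(H ⊓ Subgroup.centralizer (V : Set G)) ∧ (∀ T : Subgroup G, T ≤ H → IsPGroup p ↥T → T ⊓ Subgroup.centralizer (V : Set G) ≤ Cfsg.pCoreOf p H)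 ∧ (Cfsg.pCoreOf p H ≤ Subgroup.centralizer (V : Set G) → (∀ T : Subgroup G, T ≤ H → IsPGroup p ↥T → T ⊓ Subgroup.centralizer (V : Set G) = T ⊓ Cfsg.pCoreOf p H) ∧ Cfsg.pCore p (↥H ⧸ (Subgroup.centralizer (V : Set G)).subgroupOf H) = ⊥) := by
  open CfsgLib.Inv in
  exact (by
    set C := (Subgroup.centralizer (V : Set G)).subgroupOf H with hC
    set O := Cfsg.pResidual p ↥H with hO
    have hclC : Cfsg.IsPClosed p ↥C := by
      by_contra h
      refine hnc ?_
      rintro _ ⟨x, hx, rfl⟩
      exact hH.2 C hn h hx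
    have hTC : ∀ T : Subgroup G, T ≤ H → IsPGroup p ↥T →
        T ⊓ Subgroup.centralizer (V : Set G) ≤ Cfsg.pCoreOf p H := by
      intro T hTH hT x hx
      obtain ⟨hxT, hxC⟩ := Subgroup.mem_inf.1 hx
      obtain ⟨P, hP⟩ := ((hT.comap_subtype (K := H)).comap_subtype (K := C)).exists_le_sylow
      refine Subgroup.mem_map.2 ⟨⟨x, hTH hxT⟩, (pClosed_iff_le C).1 hclC P (Subgroup.mem_map.2
        ⟨⟨⟨x, hTH hxT⟩, hxC⟩, hP ?_, rfl⟩), rfl⟩
      exact hxT
    refine ⟨fun P => ?_, hTC, fun hOC => ⟨fun T hTH hT => ?_, ?_⟩⟩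
    · have e : (H ⊓ Subgroup.centralizer (V : Set G)).subgroupOf H = C := Subgroup.inf_subgroupOf_left _ _
      let φ : ↥(H ⊓ Subgroup.centralizer (V : Set G)) ≃* ↥C :=
        ((MulEquiv.subgroupCongr e.symm).trans (Subgroup.subgroupOfEquivOfLe inf_le_left)).symm
      have hn' : (P : Subgroup _).map φ.toMonoidHom |>.Normal := by
        exact (Sylow.coe_mapSurjective (f := φ.toMonoidHom) φ.surjective P) ▸ hclC _
      have := hn'.comap φ.toMonoidHom
      rwa [Subgroup.comap_map_eq_self_of_injective φ.injective] at this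
    · refine le_antisymm (le_inf inf_le_left (hTC T hTH hT)) (le_inf inf_le_left ?_)
      exact inf_le_right.trans hOC
    · haveI := hn
      haveI := CfsgLib.Solv.pCore_normal (↥H ⧸ C) p
      set π := QuotientGroup.mk' C with hπ
      set N := (Cfsg.pCore p (↥H ⧸ C)).comap π with hN
      have hcopC : ∀ x ∈ N, (orderOf x).Coprime p → x ∈ C := fun x hx hxo => by
        rw [← QuotientGroup.eq_one_iff]
        exact eq_one_of_coprime_mem (CfsgLib.Solv.pCore_isPGroup _ p) hx
          (hxo.coprime_dvd_left (orderOf_map_dvd π x))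
      have hclN : Cfsg.IsPClosed p ↥N := by
        by_contra h
        have hON := hH.2 N inferInstance h
        refine hnc ?_
        rintro _ ⟨x, hx, rfl⟩
        have : O ≤ C := by
          rw [hO, Cfsg.pResidual, Subgroup.closure_le]
          exact fun y hy => hcopC y (hON (Subgroup.subset_closure hy)) hy
        exact this hx
      obtain ⟨P⟩ : Nonempty (Sylow p N) := inferInstance
      have htop := eq_top_of_sylow_coprime (M := C.subgroupOf N) P
        (fun x hx => by
          refine Subgroup.mem_subgroupOf.2 (Subgroup.mem_subgroupOf.2 (hOC ?_))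
          exact Subgroup.mem_map.2 ⟨_, (pClosed_iff_le N).1 hclN P (Subgroup.mem_map.2 ⟨x, hx, rfl⟩), rfl⟩)
        (fun x hxo => hcopC x x.2 (by rwa [Subgroup.orderOf_coe]))
      have h1 : N ≤ C := Subgroup.subgroupOf_eq_top.1 htop
      rw [eq_bot_iff]
      intro y hy
      obtain ⟨x, rfl⟩ := QuotientGroup.mk'_surjective C y
      exact Subgroup.mem_bot.2 ((QuotientGroup.eq_one_iff x).2 (h1 hy)))

end Cfsg.Agent.S2830
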