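import Cfsg.Statements.S2831
import Cfsg.Agent.Inv.PClosed

set_option autoImplicit false
open Cfsg

namespace Cfsg.Agent.S2831

/-- Let H be a finite group with Sylow p-subgroup T such that H is T-minimal (H is generated by the conjugates of T and T lies in exactly one maximal subgroup of H). Then H is p-irreducible: H is not p-closed and O^p(H) lies in every normal subgroup of H that is not p-closed. -/
theorem result {H : Type*} [Group H] [Finite H] {p : ℕ} [Fact p.Prime] (T : Sylow p H) (hmin : Cfsg.IsMinimalOver (T : Subgroup H)) : Cfsg.IsPIrreducible p H := by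
  open CfsgLib.Inv in
  exact (by
    obtain ⟨htop, M, ⟨hM, hTM⟩, huniq⟩ := hmin
    have hle : ∀ X : Subgroup H, (T : Subgroup H) ≤ X → X ≠ ⊤ → X ≤ M := by
      intro X hTX hX
      obtain ⟨Y, hY, hXY⟩ := (eq_top_or_exists_le_coatom X).resolve_left hX
      exact (huniq Y ⟨hY, hTX.trans hXY⟩) ▸ hXY
    refine ⟨fun hcl => ?_, fun N hN hnc => ?_⟩
    · haveI := hcl T
      have h1 : (T : Subgroup H) = ⊤ := by
        rw [← htop]; exact (Subgroup.normalClosure_eq_self _).symm
      exact hM.1 (top_le_iff.1 (h1 ▸ hTM))
    · haveI := hN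
      obtain ⟨P, hP⟩ := sylow_inf_normal T N
      have hfr : Subgroup.normalizer (((T : Subgroup H) ⊓ N : Subgroup H) : Set H) ⊔ N = ⊤ := by
        rw [← hP]; exact Sylow.normalizer_sup_eq_top P
      have hTn : (T : Subgroup H) ≤ Subgroup.normalizer (((T : Subgroup H) ⊓ N : Subgroup H) : Set H) := by
        rw [CfsgLib.Solv.le_normalizer_iff_forall_conj_mem]
        intro t ht x hx
        exact Subgroup.mem_inf.2 ⟨mul_mem (mul_mem ht (Subgroup.mem_inf.1 hx).1) (inv_mem ht),
          hN.conj_mem x (Subgroup.mem_inf.1 hx).2 t⟩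
      have hne : Subgroup.normalizer (((T : Subgroup H) ⊓ N : Subgroup H) : Set H) ≠ ⊤ := by
        intro h
        haveI := Subgroup.normalizer_eq_top_iff.1 h
        refine hnc ((pClosed_iff_le N).2 fun P' => ?_)
        have hPn : (P : Subgroup N).Normal := by
          have h2 : ((P : Subgroup N).map N.subtype).Normal := by rw [hP]; infer_instance
          rw [← Subgroup.comap_map_eq_self_of_injective N.subtype_injective (P : Subgroup N)]
          exact h2.comap _
        obtain ⟨g, hg⟩ := MulAction.exists_smul_eq N P P'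
        haveI := hPn
        rw [Sylow.smul_eq_of_normal] at hg
        subst hg
        rw [hP]
        exact CfsgLib.Solv.le_pCore (T.2.to_le inf_le_left)
      have hNT : (T : Subgroup H) ⊔ N = ⊤ := by
        by_contra h
        exact hM.1 (top_le_iff.1 (hfr ▸ sup_le (hle _ hTn hne) (le_sup_right.trans (hle _ le_sup_left h))))
      exact pResidual_le_of_sup T.2 (hNT ▸ le_top))

end Cfsg.Agent.S2831
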