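import Cfsg.Statements.S2832
import Cfsg.Agent.Inv.PClosed

set_option autoImplicit false
open Cfsg

namespace Cfsg.Agent.S2832

/-- Let H be a finite group with Sylow p-subgroup T such that H is T-minimal (generated by the conjugates of T, with T in exactly one maximal subgroup), and let N be a normal subgroup of H. Then either H/N is a p-group or H/N is minimal over the image of T in the same sense. -/
theorem result {H : Type*} [Group H] [Finite H] {p : ℕ} [Fact p.Prime] (T : Sylow p H) (hmin : Cfsg.IsMinimalOver (T : Subgroup H)) (N : Subgroup H) [N.Normal] : IsPGroup p (H ⧸ N) ∨ Cfsg.IsMinimalOver ((T : Subgroup H).map (QuotientGroup.mk' N)) := by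
  open CfsgLib.Inv in
  exact (by
    obtain ⟨htop, M, ⟨hM, hTM⟩, huniq⟩ := hmin
    set π := QuotientGroup.mk' N with hπ
    have hsurj : Function.Surjective π := QuotientGroup.mk'_surjective N
    by_cases h : (T : Subgroup H) ⊔ N = ⊤
    · left
      have h1 := congrArg (Subgroup.map π) h
      rw [Subgroup.map_sup, hπ, QuotientGroup.map_mk'_self, sup_bot_eq, ← hπ,
        Subgroup.map_top_of_surjective π hsurj] at h1
      have h2 := T.2.map π
      rw [h1] at h2
      exact h2.of_equiv Subgroup.topEquiv
    · right
      obtain ⟨Y, hY, hTY⟩ := (eq_top_or_exists_le_coatom _).resolve_left h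
      have hYM : Y = M := huniq Y ⟨hY, le_sup_left.trans hTY⟩
      subst hYM
      have hcm : (Y.map π).comap π = Y := by
        rw [hπ, QuotientGroup.comap_map_mk', sup_eq_right]; exact le_sup_right.trans hTY
      have hinj : ∀ A B : Subgroup (H ⧸ N), A.comap π = B.comap π → A = B := fun A B e => by
        rw [← Subgroup.map_comap_eq_self_of_surjective hsurj A, e,
          Subgroup.map_comap_eq_self_of_surjective hsurj]
      refine ⟨?_, Y.map π, ⟨⟨fun e => hY.1 (by rw [← hcm, e, Subgroup.comap_top]), fun B hB => ?_⟩,
        Subgroup.map_mono hTM⟩, fun B ⟨hB, hTB⟩ => ?_⟩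
      · have h3 := Subgroup.map_normalClosure ((T : Subgroup H) : Set H) π hsurj
        rw [htop, Subgroup.map_top_of_surjective π hsurj] at h3
        rw [Subgroup.coe_map]
        exact h3.symm
      · refine hinj _ _ (hY.2 _ ?_ |>.trans (Subgroup.comap_top π).symm)
        rw [← hcm]
        exact lt_of_le_of_ne (Subgroup.comap_mono hB.le) fun e => hB.ne (hinj _ _ e)
      · have hne : B.comap π ≠ ⊤ := fun e => hB.1 (hinj _ _ (e.trans (Subgroup.comap_top π).symm))
        obtain ⟨Z, hZ, hBZ⟩ := (eq_top_or_exists_le_coatom _).resolve_left hne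
        have hZY : Z = Y := huniq Z ⟨hZ, (Subgroup.map_le_iff_le_comap.1 hTB).trans hBZ⟩
        subst hZY
        have h4 : B ≤ Z.map π := by
          rw [← Subgroup.map_comap_eq_self_of_surjective hsurj B]; exact Subgroup.map_mono hBZ
        exact ((hB.le_iff.1 h4).resolve_left fun e => hY.1 (by rw [← hcm, e, Subgroup.comap_top])).symm)

end Cfsg.Agent.S2832
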