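import Cfsg.Statements.S2833
import Cfsg.Agent.Inv.CharP

set_option autoImplicit false
open Cfsg

namespace Cfsg.Agent.S2833

/-- Let V be a subgroup of a finite group G normalized by the subgroup L, let X ≤ L and g ∈ L with [V, X, X] = 1 and L generated by X and gXg⁻¹. Put W = [V, L]. Then W = [V, X]·[V, gXg⁻¹], C_W(X) = [V, X], and C_W(L) = [V, X] ∩ [V, gXg⁻¹]. -/
theorem result {G : Type*} [Group G] [Finite G] (V L : Subgroup G) (hLV : L ≤ Subgroup.normalizer (V : Set G)) (X : Subgroup G) (hX : X ≤ L) (g : G) (hg : g ∈ L) (hq : ⁅⁅V, X⁆, X⁆ = ⊥) (hgen : X ⊔ X.map (MulAut.conj g).toMonoidHom = L) (W : Subgroup G) (hW : W = ⁅V, L⁆) : ⁅V, X⁆ ⊔ ⁅V, X.map (MulAut.conj g).toMonoidHom⁆ = W ∧ W ⊓ Subgroup.centralizer (X : Set G) = ⁅V, X⁆ ∧ W ⊓ Subgroup.centralizer (L : Set G) = ⁅V, X⁆ ⊓ ⁅V, X.map (MulAut.conj g).toMonoidHom⁆ := by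
  open CfsgLib.Inv in
  open scoped commutatorElement in
  exact (by
    subst hW
    set Xg := X.map (MulAut.conj g).toMonoidHom with hXg
    set J₁ := ⁅V, X⁆ with hJ₁
    set J₂ := ⁅V, Xg⁆ with hJ₂
    have hXgL : Xg ≤ L := hgen ▸ le_sup_right
    have hgV : g ∈ Subgroup.normalizer (V : Set G) := hLV hg
    have hconj : J₁.map (MulAut.conj g).toMonoidHom = J₂ := by
      rw [hJ₁, Subgroup.map_commutator, ← CfsgLib.Solv.conj_smul_eq_map g V,
        CfsgLib.Solv.conj_smul_eq_self_of_mem_normalizer hgV]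
    have hJ₁V : J₁ ≤ V := CfsgLib.Solv.commutator_le_of_le_normalizer (hX.trans hLV)
    have hJ₂V : J₂ ≤ V := CfsgLib.Solv.commutator_le_of_le_normalizer (hXgL.trans hLV)
    have hVJ₁ := CfsgLib.Solv.left_le_normalizer_commutator V X
    have hVJ₂ := CfsgLib.Solv.left_le_normalizer_commutator V Xg
    set J := J₁ ⊔ J₂ with hJ
    have hinv : ∀ (A B : Subgroup G), ⁅V, B⁆ ≤ V → ∀ x ∈ A, ∀ j ∈ ⁅V, A⁆ ⊔ ⁅V, B⁆,
        x * j * x⁻¹ ∈ ⁅V, A⁆ ⊔ ⁅V, B⁆ := by
      intro A B hBV x hx j hj
      rw [Subgroup.sup_eq_closure] at hj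
      induction hj using Subgroup.closure_induction with
      | mem w hw =>
        rcases hw with hw | hw
        · exact Subgroup.mem_sup_left
            (CfsgLib.Solv.le_normalizer_iff_forall_conj_mem.1
              (CfsgLib.Solv.right_le_normalizer_commutator V A) x hx w hw)
        · have e : x * w * x⁻¹ = ⁅x, w⁆ * w := by rw [commutatorElement_def]; group
          rw [e]
          refine mul_mem (Subgroup.mem_sup_left ?_) (Subgroup.mem_sup_right hw)
          rw [Subgroup.commutator_comm]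
          exact Subgroup.commutator_mem_commutator hx (hBV hw)
      | one => simp
      | mul a b _ _ iha ihb => simpa [mul_assoc] using mul_mem iha ihb
      | inv a _ iha => simpa [mul_assoc] using inv_mem iha
    have hLJ : L ≤ Subgroup.normalizer (J : Set G) := by
      rw [← hgen]
      refine sup_le ?_ ?_
      · rw [CfsgLib.Solv.le_normalizer_iff_forall_conj_mem]
        exact fun x hx j hj => hinv X Xg hJ₂V x hx j hj
      · rw [CfsgLib.Solv.le_normalizer_iff_forall_conj_mem]
        intro x hx j hj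
        rw [hJ, sup_comm] at hj ⊢
        exact hinv Xg X hJ₁V x hx j hj
    have hWJ : J = ⁅V, L⁆ := by
      refine le_antisymm (sup_le (Subgroup.commutator_mono le_rfl hX) (Subgroup.commutator_mono le_rfl hXgL)) ?_
      rw [Subgroup.commutator_le]
      intro v hv l hl
      have hl' : l ∈ Subgroup.closure ((X : Set G) ∪ (Xg : Set G)) := by
        rw [← Subgroup.sup_eq_closure, hgen]; exact hl
      clear hl
      induction hl' using Subgroup.closure_induction generalizing v with
      | mem w hw =>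
        rcases hw with hw | hw
        · exact Subgroup.mem_sup_left (Subgroup.commutator_mem_commutator hv hw)
        · exact Subgroup.mem_sup_right (Subgroup.commutator_mem_commutator hv hw)
      | one => simp
      | mul a b hma _ iha ihb =>
        have haL : a ∈ L := by rw [← hgen, Subgroup.sup_eq_closure]; exact hma
        have e : ⁅v, a * b⁆ = ⁅v, a⁆ * (a * ⁅v, b⁆ * a⁻¹) := by
          simp only [commutatorElement_def]; group
        rw [e]
        exact mul_mem (iha v hv) (CfsgLib.Solv.le_normalizer_iff_forall_conj_mem.1 hLJ a haL _ (ihb v hv))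
      | inv a hma iha =>
        have haL : a ∈ L := by rw [← hgen, Subgroup.sup_eq_closure]; exact hma
        have e : ⁅v, a⁻¹⁆ = a⁻¹ * ⁅v, a⁆⁻¹ * a⁻¹⁻¹ := by
          simp only [commutatorElement_def]; group
        rw [e]
        exact CfsgLib.Solv.le_normalizer_iff_forall_conj_mem.1 hLJ a⁻¹ (inv_mem haL) _ (inv_mem (iha v hv))
    have hXcJ₁ : J₁ ≤ Subgroup.centralizer (X : Set G) := Subgroup.commutator_eq_bot_iff_le_centralizer.1 hq
    have hXgcJ₂ : J₂ ≤ Subgroup.centralizer (Xg : Set G) := by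
      rw [← hconj]
      rintro _ ⟨j, hj, rfl⟩
      refine Subgroup.mem_centralizer_iff.2 ?_
      rintro _ ⟨x, hx, rfl⟩
      simp only [MulEquiv.coe_toMonoidHom]
      rw [← map_mul, ← map_mul, Subgroup.mem_centralizer_iff.1 (hXcJ₁ hj) x hx]
    have hCX : ∀ w ∈ J, w ∈ Subgroup.centralizer (X : Set G) → w ∈ J₁ := by
      intro w hw hwc
      obtain ⟨a, ha, b, hb, rfl⟩ := CfsgLib.Solv.exists_mul_of_mem_sup (X := J₂) (M := J₁)
        (hJ₂V.trans hVJ₁) (by rwa [sup_comm])
      refine mul_mem ha ?_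
      have hbX : b ∈ Subgroup.centralizer (X : Set G) := by
        have := mul_mem (inv_mem (hXcJ₁ ha)) hwc
        simpa using this
      have hbL : b ∈ Subgroup.centralizer (L : Set G) := by
        rw [← hgen]
        refine Subgroup.mem_centralizer_iff.2 fun l hl => ?_
        have : X ⊔ Xg ≤ Subgroup.centralizer ({b} : Set G) := by
          refine sup_le (fun x hx => Subgroup.mem_centralizer_singleton_iff.2 ?_)
            (fun x hx => Subgroup.mem_centralizer_singleton_iff.2 ?_)
          · exact Subgroup.mem_centralizer_iff.1 hbX x hx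
          · exact Subgroup.mem_centralizer_iff.1 (hXgcJ₂ hb) x hx
        exact Subgroup.mem_centralizer_singleton_iff.1 (this hl)
      have hgb : g⁻¹ * b * g = b := by
        rw [mul_assoc, ← Subgroup.mem_centralizer_iff.1 hbL g hg, inv_mul_cancel_left]
      rw [← hconj, CfsgLib.Solv.mem_map_conj_iff, hgb] at hb
      exact hb
    have hJ₁eq : J ⊓ Subgroup.centralizer (X : Set G) = J₁ :=
      le_antisymm (fun w hw => hCX w (Subgroup.mem_inf.1 hw).1 (Subgroup.mem_inf.1 hw).2)
        (le_inf le_sup_left hXcJ₁)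
    refine ⟨hWJ, by rw [← hWJ]; exact hJ₁eq, ?_⟩
    rw [← hWJ]
    refine le_antisymm (fun w hw => ?_) (fun w hw => ?_)
    · obtain ⟨hw1, hw2⟩ := Subgroup.mem_inf.1 hw
      refine Subgroup.mem_inf.2 ⟨hCX w hw1 (Subgroup.centralizer_le hX hw2), ?_⟩
      have h1 : g⁻¹ * w * g ∈ J := (Subgroup.mem_normalizer_iff''.1 (hLJ hg) w).1 hw1
      have h2 : g⁻¹ * w * g ∈ Subgroup.centralizer (X : Set G) := by
        have e : g⁻¹ * w * g = w := by
          rw [mul_assoc, ← Subgroup.mem_centralizer_iff.1 hw2 g hg, inv_mul_cancel_left]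
        rw [e]; exact Subgroup.centralizer_le hX hw2
      rw [← hconj, CfsgLib.Solv.mem_map_conj_iff]
      exact hCX _ h1 h2
    · obtain ⟨hw1, hw2⟩ := Subgroup.mem_inf.1 hw
      refine Subgroup.mem_inf.2 ⟨Subgroup.mem_sup_left hw1, Subgroup.mem_centralizer_iff.2 fun l hl => ?_⟩
      have : X ⊔ Xg ≤ Subgroup.centralizer ({w} : Set G) := by
        refine sup_le (fun x hx => Subgroup.mem_centralizer_singleton_iff.2 ?_)
          (fun x hx => Subgroup.mem_centralizer_singleton_iff.2 ?_)
        · exact Subgroup.mem_centralizer_iff.1 (hXcJ₁ hw1) x hx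
        · exact Subgroup.mem_centralizer_iff.1 (hXgcJ₂ hw2) x hx
      rw [hgen] at this
      exact Subgroup.mem_centralizer_singleton_iff.1 (this hl))

end Cfsg.Agent.S2833
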