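import Cfsg.Statements.S2834
import Cfsg.Agent.Inv.LargeSub
import Mathlib

set_option autoImplicit false
open Cfsg

namespace Cfsg.Agent.S2834

open CfsgLib.Inv
open scoped Pointwise

variable {H : Type*} [Group H]

/-- `g S g⁻¹`. -/
def cj (g : H) (S : Subgroup H) : Subgroup H := S.map (MulAut.conj g).toMonoidHom

theorem mem_cj {g x : H} {S : Subgroup H} : x ∈ cj g S ↔ g⁻¹ * x * g ∈ S := by
  rw [cj, Subgroup.mem_map_equiv]; simp [MulAut.conj_symm_apply]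

theorem cj_mul (g h : H) (S : Subgroup H) : cj g (cj h S) = cj (g * h) S := by
  ext x; simp only [mem_cj, mul_inv_rev, mul_assoc]

theorem cj_one (S : Subgroup H) : cj 1 S = S := by
  ext x; simp [mem_cj]

theorem cj_mono (g : H) {S T : Subgroup H} (h : S ≤ T) : cj g S ≤ cj g T := Subgroup.map_mono h

theorem cj_le_iff {g : H} {S T : Subgroup H} : cj g S ≤ T ↔ S ≤ cj g⁻¹ T := by
  constructor
  · intro h; have := cj_mono g⁻¹ h; rwa [cj_mul, inv_mul_cancel, cj_one] at this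
  · intro h; have := cj_mono g h; rwa [cj_mul, mul_inv_cancel, cj_one] at this

theorem card_cj (g : H) (S : Subgroup H) : Nat.card (cj g S) = Nat.card S :=
  Subgroup.card_map_of_injective (MulAut.conj g).injective

theorem cj_inf (g : H) (S T : Subgroup H) : cj g (S ⊓ T) = cj g S ⊓ cj g T :=
  Subgroup.map_inf S T _ (MulAut.conj g).injective

theorem cj_eq_iff {g : H} {S : Subgroup H} : cj g S = S ↔ g ∈ Subgroup.normalizer (S : Set H) :=
  Subgroup.mem_normalizer_iff_map_conj_eq.symm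

theorem cj_self {g : H} {S : Subgroup H} (hg : g ∈ S) : cj g S = S := cj_eq_iff.2 (Subgroup.le_normalizer hg)

theorem cj_normalizer (g : H) (S : Subgroup H) :
    cj g (Subgroup.normalizer (S : Set H)) = Subgroup.normalizer ((cj g S : Subgroup H) : Set H) :=
  Subgroup.map_equiv_normalizer_eq S (MulAut.conj g)

/-- The join of the conjugates of `A` inside `R`. -/
def wc (A R : Subgroup H) : Subgroup H := sSup {B | ∃ x, B = cj x A ∧ B ≤ R}

theorem wc_le (A R : Subgroup H) : wc A R ≤ R := sSup_le fun _ ⟨_, _, h⟩ => h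

theorem le_wc {A R : Subgroup H} {x : H} (h : cj x A ≤ R) : cj x A ≤ wc A R := le_sSup ⟨x, rfl, h⟩

theorem cj_wc_le (z : H) (A R : Subgroup H) : cj z (wc A R) ≤ wc A (cj z R) := by
  rw [cj_le_iff]
  refine sSup_le ?_
  rintro _ ⟨x, rfl, hx⟩
  have h := le_wc (A := A) (x := z * x) (R := cj z R) (by rw [← cj_mul]; exact cj_mono z hx)
  rwa [← cj_mul, cj_le_iff] at h

theorem cj_wc (z : H) (A R : Subgroup H) : cj z (wc A R) = wc A (cj z R) := by
  refine le_antisymm (cj_wc_le z A R) ?_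
  have h := cj_mono z (cj_wc_le z⁻¹ A (cj z R))
  rwa [cj_mul z⁻¹ z, inv_mul_cancel, cj_one, cj_mul, mul_inv_cancel, cj_one] at h

theorem normalizer_le_wc (A R : Subgroup H) :
    Subgroup.normalizer (R : Set H) ≤ Subgroup.normalizer (wc A R : Set H) := fun n hn =>
  cj_eq_iff.1 (by rw [cj_wc, cj_eq_iff.2 hn])

variable [Finite H] {p : ℕ} [hp : Fact p.Prime]

theorem cj_pCoreOf (z : H) (L : Subgroup H) : cj z (Cfsg.pCoreOf p L) ≤ Cfsg.pCoreOf p (cj z L) :=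
  le_pCoreOf (cj_mono z (pCoreOf_le_self L)) ((pCoreOf_pgroup (p := p) L).map _)
    ((cj_mono z (le_normalizer_pCoreOf L)).trans_eq (cj_normalizer z _))

theorem sylow_max {R L P : Subgroup H} (hsy : ¬ p ∣ R.relIndex L) (hP : IsPGroup p P) (h1 : R ≤ P) (h2 : P ≤ L) :
    P ≤ R := by
  have hd : R.relIndex P ∣ R.relIndex L := ⟨_, (Subgroup.relIndex_mul_relIndex R P L h1 h2).symm⟩
  obtain ⟨n, hn⟩ := hP.index (R.subgroupOf P)
  rcases Nat.eq_zero_or_pos n with rfl | hpos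
  · exact Subgroup.relIndex_eq_one.1 (by simpa [Subgroup.relIndex] using hn)
  · exact absurd ((dvd_pow_self p hpos.ne').trans (hn ▸ hd)) hsy

theorem sylow_conj {R Y D : Subgroup H} (hR : IsPGroup p R) (hsy : ¬ p ∣ R.relIndex Y)
    (hD : IsPGroup p D) (hDY : D ≤ Y) : ∃ y ∈ Y, cj y D ≤ R := by
  let S₀ : Sylow p ↥Y := (IsPGroup.comap_subtype (K := Y) hR).toSylow hsy
  obtain ⟨P, hP⟩ := (IsPGroup.comap_subtype (K := Y) hD).exists_le_sylow
  obtain ⟨m, hm⟩ := MulAction.exists_smul_eq ↥Y P S₀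
  refine ⟨m, m.2, ?_⟩
  rintro _ ⟨u, hu, rfl⟩
  have : (m * ⟨u, hDY hu⟩ * m⁻¹ : ↥Y) ∈ (S₀ : Subgroup ↥Y) := by
    rw [← hm, Sylow.coe_subgroup_smul]
    exact ⟨_, hP (show (⟨u, hDY hu⟩ : ↥Y) ∈ D.subgroupOf Y from hu), by
      simp [MulDistribMulAction.toMulEquiv, MulAut.smul_def]⟩
  exact this

theorem exists_grow {D S : Subgroup H} (hS : IsPGroup p S) (hlt : D < S) :
    ∃ n ∈ S, n ∈ Subgroup.normalizer (D : Set H) ∧ n ∉ D := by
  haveI : Group.IsNilpotent ↥S := hS.isNilpotent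
  have hlt' : D.subgroupOf S < ⊤ := lt_top_iff_ne_top.2 fun e => hlt.not_ge (Subgroup.subgroupOf_eq_top.1 e)
  obtain ⟨⟨n, hn⟩, hnN, hnD⟩ := SetLike.exists_of_lt (Group.normalizerCondition_of_isNilpotent _ hlt')
  refine ⟨n, hn, cj_eq_iff.1 (Subgroup.eq_of_le_of_card_ge ?_ (card_cj n D).ge), hnD⟩
  rintro _ ⟨u, hu, rfl⟩
  exact (Subgroup.mem_normalizer_iff.1 hnN ⟨u, hlt.le hu⟩).1 hu

/-- The family from which `L` is chosen minimal. -/
def Fam (p : ℕ) (A M L : Subgroup H) (g : H) (R : Subgroup H) : Prop :=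
  Cfsg.pCore p H ≤ R ∧ R ≤ L ∧ IsPGroup p R ∧ ¬ p ∣ R.relIndex L ∧ R ≤ cj g M ∧ ¬ L ≤ cj g M ∧
    (∃ x, cj x A ≤ R ∧ ¬ cj x A ≤ Cfsg.pCoreOf p L) ∧ L ⊓ Subgroup.normalizer (wc A R : Set H) ≤ cj g M

theorem relIndex_cj (z : H) (R L : Subgroup H) : (cj z R).relIndex (cj z L) = R.relIndex L :=
  Subgroup.relIndex_map_map_of_injective R L (MulAut.conj z).injective

theorem fam_cj {A M L : Subgroup H} {g : H} {R : Subgroup H} (h : Fam p A M L g R) (z : H) :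
    Fam p A M (cj z L) (z * g) (cj z R) := by
  obtain ⟨h1, h2, h3, h4, h5, h6, ⟨x, h7, h8⟩, h9⟩ := h
  haveI := CfsgLib.Solv.pCore_normal H p
  have hO : cj z (Cfsg.pCore p H) = Cfsg.pCore p H :=
    cj_eq_iff.2 (by rw [Subgroup.normalizer_eq_top]; trivial)
  refine ⟨hO ▸ cj_mono z h1, cj_mono z h2, h3.map _, by rwa [relIndex_cj], by rw [← cj_mul]; exact cj_mono z h5,
    ?_, ⟨z * x, by rw [← cj_mul]; exact cj_mono z h7, ?_⟩, ?_⟩
  · intro h; exact h6 (by have := cj_mono z⁻¹ h; rwa [cj_mul, cj_mul, inv_mul_cancel, cj_one, inv_mul_cancel_left] at this)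
  · intro h
    apply h8
    have h' := (cj_mono z⁻¹ h).trans (cj_pCoreOf z⁻¹ (cj z L))
    rwa [cj_mul, inv_mul_cancel_left, cj_mul, inv_mul_cancel, cj_one] at h'
  · rw [← cj_wc, ← cj_normalizer, ← cj_inf, ← cj_mul]
    exact cj_mono z h9

theorem fam_top {A M : Subgroup H} (T : Sylow p H) (hM : IsCoatom M ∧ (T : Subgroup H) ≤ M)
    (huniq : ∀ N : Subgroup H, IsCoatom N → (T : Subgroup H) ≤ N → N = M)
    (hAT : A ≤ (T : Subgroup H)) (hA : ¬ A ≤ Cfsg.pCore p H) : Fam p A M ⊤ 1 (T : Subgroup H) := by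
  haveI := CfsgLib.Solv.pCore_normal H p
  have hO : Cfsg.pCore p H ≤ (T : Subgroup H) := by
    rw [← T.is_maximal' (T.isPGroup'.to_sup_of_normal_right (CfsgLib.Solv.pCore_isPGroup H p)) le_sup_left]
    exact le_sup_right
  have htop : ¬ cj (1 : H) A ≤ Cfsg.pCoreOf p (⊤ : Subgroup H) := by
    rw [cj_one]
    intro h
    haveI : (Cfsg.pCoreOf p (⊤ : Subgroup H)).Normal :=
      Subgroup.normalizer_eq_top_iff.1 (top_le_iff.1 (le_normalizer_pCoreOf ⊤))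
    exact hA (h.trans (CfsgLib.Solv.le_pCore (pCoreOf_pgroup _)))
  refine ⟨hO, le_top, T.isPGroup', by rw [Subgroup.relIndex_top_right]; exact T.not_dvd_index,
    by rw [cj_one]; exact hM.2, by rw [cj_one]; exact fun h => hM.1.1 (top_le_iff.1 h),
    ⟨1, by rw [cj_one]; exact hAT, htop⟩, ?_⟩
  rw [top_inf_eq, cj_one]
  rcases eq_top_or_exists_le_coatom (Subgroup.normalizer (wc A (T : Subgroup H) : Set H)) with e | ⟨N, hN, hle⟩
  · exfalso
    haveI : (wc A (T : Subgroup H)).Normal := Subgroup.normalizer_eq_top_iff.1 e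
    refine hA (le_trans ?_ (CfsgLib.Solv.le_pCore (N := wc A (T : Subgroup H)) (T.isPGroup'.to_le (wc_le _ _))))
    have := le_wc (A := A) (x := 1) (R := (T : Subgroup H)) (by rw [cj_one]; exact hAT)
    rwa [cj_one] at this
  · rw [← huniq N hN ((Subgroup.le_normalizer.trans (normalizer_le_wc A _)).trans hle)]
    exact hle

/-- In a minimal member of the family, `L ⊓ gMg⁻¹` contains every proper overgroup of a relevant subgroup. -/
theorem minimal_unique {A M L : Subgroup H} {g : H} {R : Subgroup H} (h : Fam p A M L g R)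
    (hmin : ∀ K : Subgroup H, K < L → ∀ k R', ¬ Fam p A M K k R')
    {K D : Subgroup H} (hKL : K < L) (hDK : D ≤ K) (hDY : D ≤ L ⊓ cj g M) (hDp : IsPGroup p D)
    (hOD : Cfsg.pCore p H ≤ D) (hAD : ∃ x, cj x A ≤ D ∧ ¬ cj x A ≤ Cfsg.pCoreOf p L) : K ≤ L ⊓ cj g M := by
  classical
  obtain ⟨h1, h2, h3, h4, h5, h6, h7, h9⟩ := h
  haveI := CfsgLib.Solv.pCore_normal H p
  set Y := L ⊓ cj g M with hY
  have hRY : R ≤ Y := le_inf h2 h5
  have hRsy : ¬ p ∣ R.relIndex Y := fun hd => h4 (hd.trans ⟨_, (Subgroup.relIndex_mul_relIndex R Y L hRY inf_le_left).symm⟩)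
  -- the final step: a relevant `D` which is Sylow in `K`
  have fin : ∀ K D : Subgroup H, K < L → D ≤ K → D ≤ Y → IsPGroup p D → Cfsg.pCore p H ≤ D →
      (∃ x, cj x A ≤ D ∧ ¬ cj x A ≤ Cfsg.pCoreOf p L) → ¬ p ∣ D.relIndex K →
      L ⊓ Subgroup.normalizer (wc A D : Set H) ≤ Y → K ≤ Y := by
    intro K D hKL hDK hDY hDp hOD hAD hsy hN
    by_contra hK
    have hKM : ¬ K ≤ cj g M := fun h => hK (le_inf hKL.le h)
    by_cases hall : ∀ x, cj x A ≤ D → cj x A ≤ Cfsg.pCoreOf p K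
    · refine hK ((le_inf hKL.le fun k hk => ?_).trans hN)
      have hQD : Cfsg.pCoreOf p K ≤ D := le_sup_right.trans
        (sylow_max hsy (hDp.to_sup_of_normal_right' (pCoreOf_pgroup K) (hDK.trans (le_normalizer_pCoreOf K)))
          le_sup_left (sup_le hDK (pCoreOf_le_self K)))
      refine cj_eq_iff.1 (Subgroup.eq_of_le_of_card_ge ?_ (card_cj k _).ge)
      rw [cj_le_iff]
      refine sSup_le ?_
      rintro _ ⟨x, rfl, hx⟩
      rw [← cj_le_iff, cj_mul]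
      refine le_wc (le_trans ?_ hQD)
      rw [← cj_mul]
      exact (cj_mono k (hall x hx)).trans_eq (cj_eq_iff.2 (le_normalizer_pCoreOf K hk))
    · push Not at hall
      exact hmin K hKL g D ⟨hOD, hDK, hDp, hsy, hDY.trans inf_le_right, hKM, hall,
        (inf_le_inf_right _ hKL.le).trans (hN.trans inf_le_right)⟩
  by_contra hcon
  let P : Subgroup H × Subgroup H → Prop := fun q =>
    q.1 < L ∧ ¬ q.1 ≤ Y ∧ q.2 ≤ q.1 ∧ q.2 ≤ Y ∧ IsPGroup p q.2 ∧ Cfsg.pCore p H ≤ q.2 ∧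
      ∃ x, cj x A ≤ q.2 ∧ ¬ cj x A ≤ Cfsg.pCoreOf p L
  obtain ⟨⟨K₀, D₀⟩, ⟨hK₀L, hK₀Y, hD₀K, hD₀Y, hD₀p, hOD₀, x₀, hx₀, hx₀'⟩, hmax⟩ :=
    Set.exists_max_image {q | P q} (fun q => Nat.card q.2) (Set.toFinite _) ⟨(K, D), hKL, hcon, hDK, hDY, hDp, hOD, hAD⟩
  obtain ⟨y, hy, hyD⟩ := sylow_conj h3 hRsy hD₀p hD₀Y
  have hyL : y ∈ L := hy.1
  set K₁ := cj y K₀
  set D₁ := cj y D₀
  have hP1 : P (K₁, D₁) := by
    refine ⟨lt_of_le_not_ge ((cj_mono y hK₀L.le).trans_eq (cj_self hyL)) fun h => hK₀L.not_ge ?_, fun h => hK₀Y ?_,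
      cj_mono y hD₀K, hyD.trans hRY, hD₀p.map _, (cj_eq_iff.2 (by rw [Subgroup.normalizer_eq_top]; trivial) : cj y (Cfsg.pCore p H) = _) ▸ cj_mono y hOD₀,
      y * x₀, by rw [← cj_mul]; exact cj_mono y hx₀, fun h => hx₀' ?_⟩
    · have := cj_mono y⁻¹ h; rwa [cj_mul, inv_mul_cancel, cj_one, cj_self (inv_mem hyL)] at this
    · have := cj_mono y⁻¹ h; rwa [cj_mul, inv_mul_cancel, cj_one, cj_self (inv_mem hy)] at this
    · have := cj_mono y⁻¹ h
      rwa [cj_mul, inv_mul_cancel_left, cj_eq_iff.2 (le_normalizer_pCoreOf L (inv_mem hyL))] at this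
  have hmax1 : ∀ q, P q → Nat.card q.2 ≤ Nat.card D₁ := fun q hq => (hmax q hq).trans_eq (card_cj y D₀).symm
  obtain ⟨hK₁L, hK₁Y, hD₁K, hD₁Y, hD₁p, hOD₁, hAD₁⟩ := hP1
  rcases eq_or_lt_of_le hyD with e | hlt
  · refine hK₁Y (fin K₁ D₁ hK₁L hD₁K hD₁Y hD₁p hOD₁ hAD₁ ?_ ?_)
    · exact fun hd => h4 (hd.trans (by rw [show D₁ = R from e]; exact ⟨_, (Subgroup.relIndex_mul_relIndex R K₁ L (e.symm.le.trans hD₁K) hK₁L.le).symm⟩))
    · rw [show D₁ = R from e]; exact le_inf inf_le_left h9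
  · obtain ⟨n, hnR, hnN, hnD⟩ := exists_grow h3 hlt
    set K₂ := L ⊓ Subgroup.normalizer (wc A D₁ : Set H)
    have hE : IsPGroup p ↥(D₁ ⊔ Subgroup.zpowers n) := h3.to_le (sup_le hlt.le (Subgroup.zpowers_le.2 hnR))
    have hbig : ∀ K' : Subgroup H, ∀ E : Subgroup H, D₁ < E → K' < L → E ≤ K' → E ≤ Y → IsPGroup p E → K' ≤ Y := by
      intro K' E hDE h1' h2' h3' h4'
      by_contra h5'
      obtain ⟨x, hx, hx'⟩ := hAD₁
      have h := hmax1 (K', E) ⟨h1', h5', h2', h3', h4', hOD₁.trans hDE.le, x, hx.trans hDE.le, hx'⟩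
      exact hDE.ne (Subgroup.eq_of_le_of_card_ge hDE.le h)
    have hn1 : D₁ < D₁ ⊔ Subgroup.zpowers n := lt_of_le_not_ge le_sup_left fun h => hnD (h (Subgroup.mem_sup_right (Subgroup.mem_zpowers n)))
    have hK₂ : K₂ ≤ Y := by
      refine hbig K₂ _ hn1 (lt_of_le_not_ge inf_le_left fun h => ?_) (sup_le (le_inf (hD₁Y.trans inf_le_left)
        (Subgroup.le_normalizer.trans (normalizer_le_wc A D₁))) (Subgroup.zpowers_le.2 ⟨h2 hnR, normalizer_le_wc A D₁ hnN⟩))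
        (sup_le hD₁Y (Subgroup.zpowers_le.2 (hRY hnR))) hE
      obtain ⟨x, hx, hx'⟩ := hAD₁
      exact hx' ((le_wc hx).trans (le_pCoreOf ((wc_le A D₁).trans (hD₁Y.trans inf_le_left)) (hD₁p.to_le (wc_le A D₁)) (h.trans inf_le_right)))
    refine hK₁Y (fin K₁ D₁ hK₁L hD₁K hD₁Y hD₁p hOD₁ hAD₁ ?_ hK₂)
    intro hd
    obtain ⟨S, hS⟩ := (IsPGroup.comap_subtype (K := K₁) hD₁p).exists_le_sylow
    set S' := (S : Subgroup ↥K₁).map K₁.subtype
    have hDS : D₁ ≤ S' := fun u hu => ⟨⟨u, hD₁K hu⟩, hS hu, rfl⟩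
    have hne : D₁ ≠ S' := by
      intro e'
      apply S.not_dvd_index
      have : (S : Subgroup ↥K₁) = D₁.subgroupOf K₁ := by
        rw [e', Subgroup.subgroupOf, Subgroup.comap_map_eq_self_of_injective K₁.subtype_injective]
      rw [this]; exact hd
    obtain ⟨m, hmS, hmN, hmD⟩ := exists_grow (p := p) (S.isPGroup'.map _) (lt_of_le_of_ne hDS hne)
    have hmK : m ∈ K₁ := Subgroup.map_subtype_le _ hmS
    have hmY : m ∈ Y := hK₂ ⟨hK₁L.le hmK, normalizer_le_wc A D₁ hmN⟩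
    have hn2 : D₁ < D₁ ⊔ Subgroup.zpowers m := lt_of_le_not_ge le_sup_left fun h => hmD (h (Subgroup.mem_sup_right (Subgroup.mem_zpowers m)))
    exact hK₁Y (hbig K₁ _ hn2 hK₁L (sup_le hD₁K (Subgroup.zpowers_le.2 hmK)) (sup_le hD₁Y (Subgroup.zpowers_le.2 hmY))
      ((S.isPGroup'.map _).to_le (sup_le hDS (Subgroup.zpowers_le.2 hmS))))

/-- The L-Lemma: let H be a finite group with Sylow p-subgroup T such that H is T-minimal (generated by the conjugates of T, T in exactly one maximal subgroup M), and let A ≤ T with A not contained in O_p(H). Then there is a subgroup L of H containing A·O_p(H) such that (a) A·O_p(L) lies in exactly one maximal subgroup L₀ of L, and L₀ = L ∩ gMg⁻¹ for some g ∈ H; (b) L = ⟨A, xAx⁻¹⟩·O_p(L) for every x ∈ L outside L₀. -/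
theorem result {H : Type*} [Group H] [Finite H] {p : ℕ} [Fact p.Prime] (T : Sylow p H) (hmin : Cfsg.IsMinimalOver (T : Subgroup H)) (M : Subgroup H) (hM : IsCoatom M ∧ (T : Subgroup H) ≤ M) (A : Subgroup H) (hAT : A ≤ (T : Subgroup H)) (hA : ¬ A ≤ Cfsg.pCore p H) : ∃ L : Subgroup H, A ⊔ Cfsg.pCore p H ≤ L ∧ ∃ L₀ : Subgroup H, A ⊔ (Cfsg.pCoreOf p L) ≤ L₀ ∧ L₀ < L ∧ (∀ X : Subgroup H, A ⊔ (Cfsg.pCoreOf p L) ≤ X → X < L → X ≤ L₀) ∧ (∃ g : H, L₀ = L ⊓ ((M : Subgroup H).map (MulAut.conj (g : H)).toMonoidHom)) ∧ ∀ x ∈ L, x ∉ L₀ → (A ⊔ ((A : Subgroup H).map (MulAut.conj (x : H)).toMonoidHom)) ⊔ (Cfsg.pCoreOf p L) = L := by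
  classical
  haveI := CfsgLib.Solv.pCore_normal H p
  obtain ⟨hgen, M₀, hM₀, huniq⟩ := hmin
  have hMM : M = M₀ := huniq M hM
  subst hMM
  have hex : ∃ n, ∃ (L : Subgroup H) (g : H) (R : Subgroup H), Fam p A M L g R ∧ Nat.card L = n :=
    ⟨_, ⊤, 1, _, fam_top T hM (fun N hN hTN => huniq N ⟨hN, hTN⟩) hAT hA, rfl⟩
  obtain ⟨L₁, g₁, R₁, hF₁, hcard⟩ := Nat.find_spec hex
  obtain ⟨x₁, hx₁, hx₁'⟩ := hF₁.2.2.2.2.2.2.1
  set L := cj x₁⁻¹ L₁ with hL
  set g := x₁⁻¹ * g₁ with hg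
  set R := cj x₁⁻¹ R₁ with hR
  have hF : Fam p A M L g R := fam_cj hF₁ x₁⁻¹
  have hAR : A ≤ R := by
    have := cj_mono x₁⁻¹ hx₁
    rwa [cj_mul, inv_mul_cancel, cj_one] at this
  have hAO : ¬ A ≤ Cfsg.pCoreOf p L := by
    intro h
    apply hx₁'
    have h' := (cj_mono x₁ h).trans (cj_pCoreOf x₁ L)
    rwa [hL, cj_mul x₁ x₁⁻¹, mul_inv_cancel, cj_one] at h'
  have hminL : ∀ K : Subgroup H, K < L → ∀ k R', ¬ Fam p A M K k R' := by
    intro K hK k R' hF'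
    refine Nat.find_min hex (m := Nat.card K) ?_ ⟨K, k, R', hF', rfl⟩
    rw [← hcard, ← card_cj x₁⁻¹ L₁]
    exact lt_of_not_ge fun h => hK.ne (Subgroup.eq_of_le_of_card_ge hK.le h)
  obtain ⟨h1, h2, h3, h4, h5, h6, h7, h9⟩ := id hF
  set Y := L ⊓ cj g M with hY
  have hRY : R ≤ Y := le_inf h2 h5
  have hRsy : ¬ p ∣ R.relIndex Y := fun hd => h4 (hd.trans ⟨_, (Subgroup.relIndex_mul_relIndex R Y L hRY inf_le_left).symm⟩)
  have hQR : Cfsg.pCoreOf p L ≤ R := le_sup_right.trans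
    (sylow_max h4 (h3.to_sup_of_normal_right' (pCoreOf_pgroup L) (h2.trans (le_normalizer_pCoreOf L))) le_sup_left
      (sup_le h2 (pCoreOf_le_self L)))
  have hOL : Cfsg.pCore p H ≤ Cfsg.pCoreOf p L := le_pCoreOf (h1.trans h2) (CfsgLib.Solv.pCore_isPGroup H p)
    (by rw [Subgroup.normalizer_eq_top]; exact le_top)
  have hAY : A ⊔ Cfsg.pCoreOf p L ≤ Y := sup_le (hAR.trans hRY) (hQR.trans hRY)
  have hYlt : Y < L := lt_of_le_not_ge inf_le_left fun h => h6 (h.trans inf_le_right)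
  have huY : ∀ X : Subgroup H, A ⊔ Cfsg.pCoreOf p L ≤ X → X < L → X ≤ Y := fun X hX hXL =>
    minimal_unique hF hminL hXL hX hAY (h3.to_le (sup_le hAR hQR)) (hOL.trans le_sup_right)
      ⟨1, by rw [cj_one]; exact le_sup_left, by rwa [cj_one]⟩
  refine ⟨L, sup_le (hAR.trans h2) (h1.trans h2), Y, hAY, hYlt, huY, ⟨g, rfl⟩, fun x hx hxY => ?_⟩
  show (A ⊔ cj x A) ⊔ Cfsg.pCoreOf p L = L
  have hxn : cj x L = L := cj_self hx
  have hle : (A ⊔ cj x A) ⊔ Cfsg.pCoreOf p L ≤ L :=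
    sup_le (sup_le (hAR.trans h2) ((cj_mono x (hAR.trans h2)).trans_eq hxn)) (pCoreOf_le_self L)
  by_contra hne
  have hX := huY _ (sup_le (le_sup_left.trans le_sup_left) le_sup_right) (lt_of_le_of_ne hle hne)
  have hYx : A ⊔ Cfsg.pCoreOf p L ≤ cj x⁻¹ Y := by
    rw [← cj_le_iff]
    refine le_trans ?_ hX
    show (A ⊔ Cfsg.pCoreOf p L).map (MulAut.conj x).toMonoidHom ≤ _
    rw [Subgroup.map_sup]
    refine sup_le (le_sup_right.trans le_sup_left) (le_trans ?_ le_sup_right)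
    exact (cj_eq_iff.2 (le_normalizer_pCoreOf L hx)).le
  have hYlt' : cj x⁻¹ Y < L := by
    refine lt_of_le_not_ge ((cj_mono x⁻¹ inf_le_left).trans_eq (cj_self (inv_mem hx))) fun h => hYlt.ne ?_
    exact Subgroup.eq_of_le_of_card_ge inf_le_left ((Subgroup.card_le_of_le h).trans_eq (card_cj _ _))
  have hnY : cj x Y = Y := by
    have e : cj x⁻¹ Y = Y := Subgroup.eq_of_le_of_card_ge (huY _ hYx hYlt') (card_cj _ _).ge
    have := congrArg (cj x) e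
    rwa [cj_mul, mul_inv_cancel, cj_one, eq_comm] at this
  obtain ⟨y, hy, hyR⟩ := sylow_conj h3 hRsy (h3.map _) ((cj_mono x hRY).trans_eq hnY)
  have hn : y * x ∈ Subgroup.normalizer (R : Set H) := by
    refine cj_eq_iff.1 (Subgroup.eq_of_le_of_card_ge ?_ (card_cj _ _).ge)
    rw [← cj_mul]; exact hyR
  have : y * x ∈ Y := ⟨mul_mem hy.1 hx, h9 ⟨mul_mem hy.1 hx, normalizer_le_wc A R hn⟩⟩
  exact hxY (by simpa using mul_mem (inv_mem hy) this)

end Cfsg.Agent.S2834
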