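import Cfsg.Statements.S2835
import Cfsg.Agent.Inv.PClosed

set_option autoImplicit false
open Cfsg

namespace Cfsg.Agent.S2835

/-- Let L be a finite group, L₀ a maximal subgroup, T a Sylow p-subgroup of L₀ and Y ≤ T, and suppose L is Y-minimal (generated by the conjugates of Y, with Y in exactly one maximal subgroup, necessarily L₀). Then N_L(T) ≤ L₀, O_p(L) ≤ L₀ and T is a Sylow p-subgroup of L; N_L(L₀) = L₀; L = ⟨Y, gYg⁻¹⟩ for each g ∈ L outside L₀; and if Y is abelian then Y ∩ gYg⁻¹ = C_Y(L) for each such g. -/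
theorem result {L : Type*} [Group L] [Finite L] {p : ℕ} [Fact p.Prime] (L₀ : Subgroup L) (hL₀ : IsCoatom L₀) (T : Sylow p ↥L₀) (Y : Subgroup L) (hYT : Y ≤ (T : Subgroup ↥L₀).map L₀.subtype) (hmin : Cfsg.IsMinimalOver Y) : Subgroup.normalizer (((T : Subgroup ↥L₀).map L₀.subtype : Subgroup L) : Set L) ≤ L₀ ∧ Cfsg.pCore p L ≤ L₀ ∧ (∃ P : Sylow p L, (P : Subgroup L) = (T : Subgroup ↥L₀).map L₀.subtype) ∧ Subgroup.normalizer (L₀ : Set L) = L₀ ∧ (∀ g : L, g ∉ L₀ → Y ⊔ Y.map (MulAut.conj g).toMonoidHom = ⊤) ∧ (IsMulCommutative ↥Y → ∀ g : L, g ∉ L₀ → Y ⊓ Y.map (MulAut.conj g).toMonoidHom = Y ⊓ Subgroup.center L) := by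
  open CfsgLib.Inv in
  open scoped Pointwise in
  exact (by
    obtain ⟨htop, M, ⟨hM, hYM⟩, huniq⟩ := hmin
    set T' := (T : Subgroup ↥L₀).map L₀.subtype with hT'
    have hT'L : T' ≤ L₀ := Subgroup.map_subtype_le _
    have hYL₀ : Y ≤ L₀ := hYT.trans hT'L
    have hL₀M : L₀ = M := huniq L₀ ⟨hL₀, hYL₀⟩
    subst hL₀M
    have hle : ∀ X : Subgroup L, Y ≤ X → X ≠ ⊤ → X ≤ L₀ := by
      intro X hX hne
      obtain ⟨Z, hZ, hXZ⟩ := (eq_top_or_exists_le_coatom X).resolve_left hne
      exact (huniq Z ⟨hZ, hX.trans hXZ⟩) ▸ hXZ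
    have hnn : ∀ X : Subgroup L, X.Normal → Y ≤ X → X = ⊤ := fun X hXn hX =>
      haveI := hXn
      top_le_iff.1 (htop ▸ Subgroup.normalClosure_le_normal hX)
    have hNT : Subgroup.normalizer (T' : Set L) ≤ L₀ := by
      refine hle _ (hYT.trans Subgroup.le_normalizer) fun h => hL₀.1 ?_
      exact top_le_iff.1 (le_of_eq_of_le (hnn T' (Subgroup.normalizer_eq_top_iff.1 h) hYT).symm hT'L)
    have hT'p : IsPGroup p T' := T.2.map _
    haveI := CfsgLib.Solv.pCore_normal L p
    have hQ : Cfsg.pCore p L ≤ L₀ := by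
      have hp' : IsPGroup p ↥(T' ⊔ Cfsg.pCore p L) :=
        hT'p.to_sup_of_normal_right (CfsgLib.Solv.pCore_isPGroup L p)
      refine le_sup_right.trans (hle _ (hYT.trans le_sup_left) fun h => ?_)
      rw [h] at hp'
      haveI := (hp'.of_equiv Subgroup.topEquiv).isNilpotent
      haveI : L₀.Normal := Subgroup.NormalizerCondition.normal_of_coatom L₀ Group.normalizerCondition_of_isNilpotent hL₀
      exact hL₀.1 (hnn L₀ inferInstance hYL₀)
    obtain ⟨R, hR⟩ := hT'p.exists_le_sylow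
    have hTR : T' = (R : Subgroup L) := by
      by_contra hne
      have hlt : T'.subgroupOf (R : Subgroup L) < ⊤ :=
        lt_top_iff_ne_top.2 fun e => hne (le_antisymm hR (Subgroup.subgroupOf_eq_top.1 e))
      haveI := R.2.isNilpotent
      obtain ⟨n, hn, hnT⟩ := SetLike.exists_of_lt (Group.normalizerCondition_of_isNilpotent _ hlt)
      have hnn' : (n : L) ∈ Subgroup.normalizer (T' : Set L) := by
        rw [Subgroup.mem_normalizer_iff'']
        intro y
        constructor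
        · intro hy
          exact (Subgroup.mem_normalizer_iff''.1 hn ⟨y, hR hy⟩).1 hy
        · intro hy
          have hy' : y ∈ (R : Subgroup L) := by
            have := mul_mem (mul_mem n.2 (hR hy)) (inv_mem n.2)
            simpa [mul_assoc] using this
          exact (Subgroup.mem_normalizer_iff''.1 hn ⟨y, hy'⟩).2 hy
      have heq := T.3 (R.2.comap_subtype (K := L₀)) (fun y hy => hR (Subgroup.mem_map.2 ⟨y, hy, rfl⟩))
      exact hnT (Subgroup.mem_map.2 ⟨⟨n, hNT hnn'⟩, heq ▸ n.2, rfl⟩)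
    have hself : Subgroup.normalizer (L₀ : Set L) = L₀ := by
      refine le_antisymm (hle _ (hYL₀.trans Subgroup.le_normalizer) fun h => hL₀.1 ?_) Subgroup.le_normalizer
      exact hnn L₀ (Subgroup.normalizer_eq_top_iff.1 h) hYL₀
    have hgen : ∀ g : L, g ∉ L₀ → Y ⊔ Y.map (MulAut.conj g).toMonoidHom = ⊤ := by
      intro g hg
      by_contra h
      have h1 : Y.map (MulAut.conj g).toMonoidHom ≤ L₀ := le_sup_right.trans (hle _ le_sup_left h)
      refine hg ?_
      rw [← hself, ← Subgroup.inv_mem_iff]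
      refine CfsgLib.Solv.mem_normalizer_of_conj_smul_eq (Subgroup.eq_of_le_of_card_ge ?_
        (CfsgLib.Solv.card_conj_smul _ _).ge)
      have hne : MulAut.conj g⁻¹ • L₀ ≠ (⊤ : Subgroup L) := fun e => hL₀.1
        (Subgroup.eq_top_of_card_eq _ (by rw [← CfsgLib.Solv.card_conj_smul g⁻¹ L₀, e, Subgroup.card_top]))
      refine hle _ (fun y hy => CfsgLib.Solv.mem_conj_smul_iff.2 ?_) hne
      rw [inv_inv]
      exact h1 (Subgroup.mem_map.2 ⟨y, hy, rfl⟩)
    refine ⟨hNT, hQ, ⟨R, hTR.symm⟩, hself, hgen, fun hab g hg => le_antisymm ?_ ?_⟩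
    · intro x hx
      obtain ⟨hx1, hx2⟩ := Subgroup.mem_inf.1 hx
      refine Subgroup.mem_inf.2 ⟨hx1, ?_⟩
      rw [Subgroup.mem_center_iff]
      intro a
      have ha : a ∈ Subgroup.centralizer ({x} : Set L) := by
        have : Y ⊔ Y.map (MulAut.conj g).toMonoidHom ≤ Subgroup.centralizer ({x} : Set L) := by
          refine sup_le (fun y hy => ?_) ?_
          · exact Subgroup.mem_centralizer_singleton_iff.2
              (congrArg Subtype.val (hab.is_comm.comm (⟨y, hy⟩ : Y) ⟨x, hx1⟩))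
          · obtain ⟨x', hx', rfl⟩ := hx2
            rintro _ ⟨y, hy, rfl⟩
            refine Subgroup.mem_centralizer_singleton_iff.2 ?_
            simp only [MulEquiv.coe_toMonoidHom]
            rw [← map_mul, ← map_mul, show y * x' = x' * y from
              congrArg Subtype.val (hab.is_comm.comm (⟨y, hy⟩ : Y) ⟨x', hx'⟩)]
        rw [hgen g hg] at this
        exact this (Subgroup.mem_top a)
      exact Subgroup.mem_centralizer_singleton_iff.1 ha
    · intro x hx
      obtain ⟨hx1, hx2⟩ := Subgroup.mem_inf.1 hx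
      refine Subgroup.mem_inf.2 ⟨hx1, Subgroup.mem_map.2 ⟨x, hx1, ?_⟩⟩
      simp [Subgroup.mem_center_iff.1 hx2 g])

end Cfsg.Agent.S2835
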