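import Cfsg.Statements.S2836
import Cfsg.Agent.Inv.PClosed
import Cfsg.Agent.Solv.CoprimeSylow

set_option autoImplicit false
open Cfsg

namespace Cfsg.Agent.S2836

open scoped Pointwise

theorem not_dvd_relIndex_pClosed {L : Type*} [Group L] [Finite L] {p : ℕ} [Fact p.Prime] (N : Subgroup L) [N.Normal]
    (h : Cfsg.IsPClosed p ↥N) : ¬ p ∣ (Cfsg.pCore p L).relIndex N :=
  (CfsgLib.Inv.pClosed_iff_relIndex N).1 h

/-- A subgroup containing a Sylow subgroup which lies over `Y` and is proper lies in a conjugate of `L₀`. -/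
theorem normal_pClosed {L : Type*} [Group L] [Finite L] {p : ℕ} [Fact p.Prime] (L₀ : Subgroup L) (hL₀ : IsCoatom L₀)
    (S : Sylow p L) (Y : Subgroup L) (hYS : Y ≤ (S : Subgroup L)) (hY0 : Y ≤ L₀)
    (huniq : ∀ X : Subgroup L, Y ≤ X → X ≠ ⊤ → X ≤ L₀) (hSL₀ : (S : Subgroup L) ≤ L₀) (N : Subgroup L) [N.Normal]
    (hN : N ≤ L₀) : ((S : Subgroup L) ⊓ N).Normal := by
  obtain ⟨P, hP⟩ := CfsgLib.Inv.sylow_inf_normal S N
  have hfr : Subgroup.normalizer (((S : Subgroup L) ⊓ N : Subgroup L) : Set L) ⊔ N = ⊤ := by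
    rw [← hP]; exact Sylow.normalizer_sup_eq_top P
  refine Subgroup.normalizer_eq_top_iff.1 ?_
  by_contra h
  refine hL₀.1 (top_le_iff.1 (hfr ▸ sup_le (huniq _ ?_ h) hN))
  refine hYS.trans ?_
  rw [CfsgLib.Solv.le_normalizer_iff_forall_conj_mem]
  intro t ht x hx
  exact Subgroup.mem_inf.2 ⟨mul_mem (mul_mem ht (Subgroup.mem_inf.1 hx).1) (inv_mem ht),
    ‹N.Normal›.conj_mem x (Subgroup.mem_inf.1 hx).2 t⟩

/-- Let L be a finite group, L₀ a maximal subgroup, T a Sylow p-subgroup of L₀, Y ≤ T, and suppose L is Y-minimal. Let D be the intersection of the conjugates of L₀ (the core of L₀). Then D contains O_p(L) and D/O_p(L) is the Frattini subgroup of L/O_p(L), so D is p-closed; and every normal subgroup N of L contained in L₀ is p-closed with N/O_p(N) a nilpotent group of order prime to p. -/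
theorem result {L : Type*} [Group L] [Finite L] {p : ℕ} [Fact p.Prime] (L₀ : Subgroup L) (hL₀ : IsCoatom L₀) (T : Sylow p ↥L₀) (Y : Subgroup L) (hYT : Y ≤ (T : Subgroup ↥L₀).map L₀.subtype) (hmin : Cfsg.IsMinimalOver Y) : (Cfsg.pCore p L ≤ L₀.normalCore ∧ (L₀.normalCore).map (QuotientGroup.mk' (Cfsg.pCore p L)) = frattini (L ⧸ Cfsg.pCore p L) ∧ Cfsg.IsPClosed p ↥(L₀.normalCore)) ∧ ∀ (N : Subgroup L) [N.Normal], N ≤ L₀ → Cfsg.IsPClosed p ↥N ∧ Group.IsNilpotent (↥N ⧸ Cfsg.pCore p ↥N) ∧ (Nat.card (↥N ⧸ Cfsg.pCore p ↥N)).Coprime p := by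
    obtain ⟨htop, M₁, hM₁, huniq'⟩ := hmin
    have hYL₀ : Y ≤ L₀ := hYT.trans (Subgroup.map_subtype_le _)
    have huniq : ∀ X : Subgroup L, Y ≤ X → X ≠ ⊤ → X ≤ L₀ := by
      intro X hYX hX
      obtain ⟨Z, hZ, hXZ⟩ := (eq_top_or_exists_le_coatom X).resolve_left hX
      rw [huniq' L₀ ⟨hL₀, hYL₀⟩, ← huniq' Z ⟨hZ, hYX.trans hXZ⟩]
      exact hXZ
    set T' := (T : Subgroup ↥L₀).map L₀.subtype with hT'
    have hTp : IsPGroup p T' := T.isPGroup'.map _
    obtain ⟨S, hS⟩ := hTp.exists_le_sylow
    have hSeq : T' = (S : Subgroup L) := by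
      by_contra hne
      haveI := S.isPGroup'.isNilpotent
      obtain ⟨a, ha, haT⟩ := SetLike.exists_of_lt (Group.normalizerCondition_of_isNilpotent
        (T'.subgroupOf (S : Subgroup L)) (lt_top_iff_ne_top.2 fun e => hne (le_antisymm hS (Subgroup.subgroupOf_eq_top.1 e))))
      have haN : (a : L) ∈ Subgroup.normalizer (T' : Set L) := Subgroup.mem_normalizer_fintype fun d hd =>
        (Subgroup.mem_normalizer_iff.1 ha ⟨d, hS hd⟩).1 hd
      by_cases htn : Subgroup.normalizer (T' : Set L) = ⊤
      · haveI := Subgroup.normalizer_eq_top_iff.1 htn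
        have h := Subgroup.normalClosure_le_normal (N := T') (s := (Y : Set L)) hYT
        rw [htop, top_le_iff] at h
        exact hL₀.1 (top_le_iff.1 (h ▸ Subgroup.map_subtype_le _))
      · have haL : (a : L) ∈ L₀ := huniq _ (hYT.trans Subgroup.le_normalizer) htn haN
        have hsub : (T : Subgroup ↥L₀) = (S : Subgroup L).subgroupOf L₀ :=
          (T.3 S.isPGroup'.comap_subtype (fun z hz => hS ⟨z, hz, rfl⟩)).symm
        apply haT
        show (a : L) ∈ T'
        rw [hT', hsub, Subgroup.subgroupOf_map_subtype]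
        exact ⟨a.2, haL⟩
    have hSL₀ : (S : Subgroup L) ≤ L₀ := hSeq ▸ Subgroup.map_subtype_le _
    have hYS : Y ≤ (S : Subgroup L) := hSeq ▸ hYT
    set O := Cfsg.pCore p L with hO
    haveI hOn : O.Normal := CfsgLib.Solv.pCore_normal L p
    have hOS : O ≤ (S : Subgroup L) := by
      obtain ⟨S', hS'⟩ := (CfsgLib.Solv.pCore_isPGroup L p).exists_le_sylow
      obtain ⟨g, hg⟩ := MulAction.exists_smul_eq L S' S
      rw [← hg, Sylow.coe_subgroup_smul]
      intro x hx
      refine ⟨g⁻¹ * x * g, hS' ?_, by simp [mul_assoc]⟩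
      simpa using hOn.conj_mem x hx g⁻¹
    have hOL₀ : O ≤ L₀ := hOS.trans hSL₀
    have hsec : ∀ (N : Subgroup L) [N.Normal], N ≤ L₀ → Cfsg.IsPClosed p ↥N ∧ (Cfsg.pCore p ↥N).map N.subtype = O ⊓ N ∧
        ¬ p ∣ O.relIndex N := by
      intro N _ hN
      haveI := normal_pClosed L₀ hL₀ S Y hYS hYL₀ huniq hSL₀ N hN
      have hle : (S : Subgroup L) ⊓ N ≤ O := CfsgLib.Solv.le_pCore (S.isPGroup'.to_le inf_le_left)
      have hcl : Cfsg.IsPClosed p ↥N := by
        refine (CfsgLib.Inv.pClosed_iff_le N).2 fun P' => ?_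
        obtain ⟨P, hP⟩ := CfsgLib.Inv.sylow_inf_normal S N
        haveI hPn : (P : Subgroup N).Normal := by
          rw [← Subgroup.comap_map_eq_self_of_injective N.subtype_injective (P : Subgroup N), hP]
          exact Subgroup.Normal.comap inferInstance _
        obtain ⟨g, hg⟩ := MulAction.exists_smul_eq N P P'
        rw [Sylow.smul_eq_of_normal] at hg
        rw [← hg, hP]
        exact hle
      refine ⟨hcl, le_antisymm (le_inf (CfsgLib.Solv.map_pCore_subtype_le N) (Subgroup.map_subtype_le _)) ?_,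
        not_dvd_relIndex_pClosed N hcl⟩
      intro x hx
      have h : ((O ⊓ N).subgroupOf N) ≤ Cfsg.pCore p ↥N := by
        haveI : ((O ⊓ N).subgroupOf N).Normal := by
          rw [Subgroup.inf_subgroupOf_right]; exact Subgroup.normal_subgroupOf
        exact CfsgLib.Solv.le_pCore ((CfsgLib.Solv.pCore_isPGroup L p).to_le inf_le_left).comap_subtype
      exact ⟨⟨x, (Subgroup.mem_inf.1 hx).2⟩, h hx, rfl⟩
    set D := L₀.normalCore with hD
    have hDle : D ≤ L₀ := Subgroup.normalCore_le L₀
    have hOD : O ≤ D := Subgroup.normal_le_normalCore.2 hOL₀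
    set π := QuotientGroup.mk' O with hπ
    have hπs : Function.Surjective π := QuotientGroup.mk'_surjective O
    refine ⟨⟨hOD, le_antisymm ?_ ?_, (hsec D hDle).1⟩, fun N hNn hN => ?_⟩
    · simp only [frattini, Order.radical, le_iInf_iff]
      intro M hM
      rw [Subgroup.map_le_iff_le_comap]
      set M' := M.comap π with hM'
      have hM'top : M' ≠ ⊤ := fun e => hM.1 (by
        rw [← Subgroup.map_comap_eq_self_of_surjective hπs M, ← hM', e, Subgroup.map_top_of_surjective π hπs])
      have hOM : O ≤ M' := fun x hx => by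
        show π x ∈ M
        rw [show π x = 1 from (QuotientGroup.eq_one_iff x).2 hx]; exact one_mem _
      by_contra hDM
      have hsup : D ⊔ M' = ⊤ := by
        have h : M < (D ⊔ M').map π := by
          rw [Subgroup.map_sup, Subgroup.map_comap_eq_self_of_surjective hπs]
          exact lt_of_le_of_ne le_sup_right fun e => hDM (by
            rw [hM']; exact Subgroup.map_le_iff_le_comap.1 (e ▸ le_sup_left))
        have h2 := hM.2 _ h
        rw [eq_top_iff]
        intro x _
        obtain ⟨y, hy, hyx⟩ := h2.ge (Subgroup.mem_top (π x))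
        have : y⁻¹ * x ∈ O := by
          rw [← QuotientGroup.eq_one_iff, QuotientGroup.mk_mul, QuotientGroup.mk_inv]
          show (π y)⁻¹ * π x = 1
          rw [hyx, inv_mul_cancel]
        have h3 : y * (y⁻¹ * x) ∈ D ⊔ M' := mul_mem hy ((le_sup_right : M' ≤ D ⊔ M') (hOM this))
        rwa [mul_inv_cancel_left] at h3
      have hidx : ¬ p ∣ M'.index := by
        have hidxeq : M'.index = M'.relIndex D := by
          have h1 := CfsgLib.Solv.card_sup_mul_card_inf M' D
          rw [sup_comm, hsup, Subgroup.card_top, ← Subgroup.card_mul_index M', mul_assoc] at h1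
          have h2 := Nat.eq_of_mul_eq_mul_left Nat.card_pos h1
          have h3 := Subgroup.relIndex_mul_relIndex ⊥ (M' ⊓ D) D bot_le inf_le_right
          rw [Subgroup.relIndex_bot_left, Subgroup.relIndex_bot_left, Subgroup.inf_relIndex_right, ← h2, mul_comm M'.index] at h3
          exact (Nat.eq_of_mul_eq_mul_left Nat.card_pos h3).symm
        rw [hidxeq]
        exact fun h => (hsec D hDle).2.2 (h.trans (Subgroup.relIndex_dvd_of_le_left D hOM))
      obtain ⟨R⟩ : Nonempty (Sylow p ↥M') := inferInstance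
      obtain ⟨R', hR'⟩ := (R.isPGroup'.map M'.subtype).exists_le_sylow
      have hR'M : (R' : Subgroup L) ≤ M' := by
        have hc : Nat.card (R' : Subgroup L) ≤ Nat.card ↥((R : Subgroup ↥M').map M'.subtype) := by
          rw [CfsgLib.Solv.card_map_subtype, Sylow.card_eq_multiplicity, Sylow.card_eq_multiplicity, ← Subgroup.card_mul_index M',
            Nat.factorization_mul Nat.card_pos.ne' Subgroup.index_ne_zero_of_finite, Finsupp.add_apply,
            Nat.factorization_eq_zero_of_not_dvd hidx, add_zero]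
        rw [← Subgroup.eq_of_le_of_card_ge hR' hc]
        exact Subgroup.map_subtype_le _
      obtain ⟨g, hg⟩ := MulAction.exists_smul_eq L R' S
      set M'' := M'.map (MulAut.conj g).toMonoidHom with hM''
      have hYM : Y ≤ M'' := by
        refine hYS.trans ?_
        rw [← hg, Sylow.coe_subgroup_smul, CfsgLib.Solv.conj_smul_eq_map]
        exact Subgroup.map_mono hR'M
      have hne : M'' ≠ ⊤ := fun e => hM'top (by
        have := congrArg (Subgroup.comap (MulAut.conj g).toMonoidHom) e
        rwa [hM'', Subgroup.comap_map_eq_self_of_injective (MulAut.conj g).injective, Subgroup.comap_top] at this)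
      have hle := huniq M'' hYM hne
      apply hL₀.1
      rw [eq_top_iff]
      have h : (D ⊔ M').map (MulAut.conj g).toMonoidHom = D ⊔ M'' := by
        rw [Subgroup.map_sup, ← CfsgLib.Solv.conj_smul_eq_map, CfsgLib.Solv.conj_smul_eq_self_of_mem_normalizer
          (by rw [Subgroup.normalizer_eq_top]; exact Subgroup.mem_top _)]
      rw [hsup, Subgroup.map_top_of_surjective (MulAut.conj g).toMonoidHom (MulAut.conj g).surjective] at h
      rw [h]
      exact sup_le hDle hle
    · set Φ := (frattini (L ⧸ O)).comap π with hΦ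
      haveI : Φ.Normal := Subgroup.Normal.comap inferInstance π
      intro x hx
      obtain ⟨y, rfl⟩ := hπs x
      have hΦL : Φ ≤ L₀ := by
        have hcoat : IsCoatom (L₀.map π) := by
          refine ⟨fun e => hL₀.1 ?_, fun X hX => ?_⟩
          · have := congrArg (Subgroup.comap π) e
            rwa [Subgroup.comap_map_eq_self (by rw [hπ, QuotientGroup.ker_mk']; exact hOL₀), Subgroup.comap_top] at this
          · have h : L₀ < X.comap π := by
              refine lt_of_le_of_ne (Subgroup.map_le_iff_le_comap.1 hX.le) fun e => hX.ne ?_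
              rw [e, Subgroup.map_comap_eq_self_of_surjective hπs]
            have h2 := hL₀.2 _ h
            rw [← Subgroup.map_comap_eq_self_of_surjective hπs X, h2, Subgroup.map_top_of_surjective π hπs]
        have := Subgroup.comap_mono (f := π) (frattini_le_coatom hcoat)
        rwa [Subgroup.comap_map_eq_self (by rw [hπ, QuotientGroup.ker_mk']; exact hOL₀)] at this
      exact ⟨y, Subgroup.normal_le_normalCore.2 hΦL hx, rfl⟩
    obtain ⟨hcl, hmap, hndvd⟩ := hsec N hN
    set f : ↥N →* L ⧸ O := π.comp N.subtype with hf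
    have hker : f.ker = Cfsg.pCore p ↥N := by
      apply Subgroup.map_injective N.subtype_injective
      rw [hmap, hf, ← MonoidHom.comap_ker, hπ, QuotientGroup.ker_mk', ← Subgroup.subgroupOf, Subgroup.subgroupOf_map_subtype]
    haveI := CfsgLib.Solv.pCore_normal ↥N p
    have hcard : (Nat.card (↥N ⧸ Cfsg.pCore p ↥N)).Coprime p := by
      rw [Nat.coprime_comm, (Fact.out : p.Prime).coprime_iff_not_dvd, ← Subgroup.index_eq_card]
      refine fun h => hndvd (h.trans ?_)
      rw [← hker, hf, ← MonoidHom.comap_ker, hπ, QuotientGroup.ker_mk', ← Subgroup.subgroupOf]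
      exact dvd_rfl
    refine ⟨hcl, ?_, hcard⟩
    let e : (↥N ⧸ Cfsg.pCore p ↥N) ≃* f.range :=
      (QuotientGroup.quotientMulEquivOfEq hker.symm).trans (QuotientGroup.quotientKerEquivRange f)
    suffices h : Group.IsNilpotent f.range by
      haveI := h
      exact Group.nilpotent_of_surjective e.symm.toMonoidHom e.symm.surjective
    rw [Group.isNilpotent_of_finite_tfae.out 0 3 rfl rfl]
    intro r hr R
    have hrange : f.range = N.map π := by
      rw [hf, MonoidHom.range_comp, Subgroup.range_subtype]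
    haveI : f.range.Normal := by rw [hrange]; exact Subgroup.Normal.map ‹N.Normal› π hπs
    set Yb := Y.map π with hYb
    have hcop : (Nat.card Yb).Coprime (Nat.card f.range) := by
      obtain ⟨k, hk⟩ := ((S.isPGroup'.to_le hYS).map π).exists_card_eq
      rw [hk, ← Nat.card_congr e.toEquiv]
      exact hcard.symm.pow_left k
    haveI : Group.IsNilpotent Yb := ((S.isPGroup'.to_le hYS).map π).isNilpotent
    obtain ⟨P, hPinv⟩ := CfsgLib.Solv.exists_invariant_sylow (p := r) (A := Yb) (K := f.range)
      (by rw [Subgroup.normalizer_eq_top]; exact le_top) hcop (Or.inl inferInstance)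
    have hnorm : ((P : Subgroup f.range).map f.range.subtype).Normal := by
      refine Subgroup.normalizer_eq_top_iff.1 ?_
      by_contra hne
      have hfr := Sylow.normalizer_sup_eq_top P
      set R₁ := Subgroup.normalizer (((P : Subgroup f.range).map f.range.subtype : Subgroup (L ⧸ O)) : Set (L ⧸ O))
      have hR₁ : R₁.comap π ≤ L₀ := huniq _ (Subgroup.map_le_iff_le_comap.1 hPinv) fun e' => hne (by
        rw [← Subgroup.map_comap_eq_self_of_surjective hπs R₁, e', Subgroup.map_top_of_surjective π hπs])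
      apply hL₀.1
      rw [eq_top_iff]
      intro x _
      have hx : π x ∈ (R₁.comap π ⊔ N).map π := by
        rw [Subgroup.map_sup, Subgroup.map_comap_eq_self_of_surjective hπs, ← hrange, hfr]
        exact Subgroup.mem_top _
      obtain ⟨y, hy, hyx⟩ := hx
      have hz : y⁻¹ * x ∈ O := by
        rw [← QuotientGroup.eq_one_iff, QuotientGroup.mk_mul, QuotientGroup.mk_inv]
        show (π y)⁻¹ * π x = 1
        rw [hyx, inv_mul_cancel]
      have h3 := mul_mem (sup_le hR₁ hN hy) (hOL₀ hz)
      rwa [mul_inv_cancel_left] at h3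
    haveI : (P : Subgroup f.range).Normal := by
      rw [← Subgroup.comap_map_eq_self_of_injective f.range.subtype_injective (P : Subgroup f.range)]
      exact hnorm.comap _
    obtain ⟨g, hg⟩ := MulAction.exists_smul_eq f.range P R
    rw [Sylow.smul_eq_of_normal] at hg
    exact hg ▸ ‹(P : Subgroup f.range).Normal›

end Cfsg.Agent.S2836
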