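import Cfsg.Statements.S2837
import Cfsg.Agent.Inv.LargeSub
import Cfsg.Agent.Solv.FittingBasic
import Mathlib

set_option autoImplicit false
open Cfsg

namespace Cfsg.Agent.S2837

open scoped Pointwise commutatorElement

/-- Let L be a finite group of characteristic p, L₀ a maximal subgroup, Y an elementary abelian p-subgroup of L₀ with L Y-minimal and O_p(L) ≤ N_L(Y). Put A = the normal closure of O_p(L) ∩ Y in L. Then for every g ∈ L outside L₀: Φ(A) = A' = [A ∩ Y, A] = [A ∩ Y, A ∩ gYg⁻¹] ≤ C_Y(L), and Y ∩ gYg⁻¹ = (A ∩ Y) ∩ (A ∩ gYg⁻¹) = C_Y(L) = C_A(L). -/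
theorem result {L : Type*} [Group L] [Finite L] {p : ℕ} [Fact p.Prime] (hchar : Subgroup.centralizer (Cfsg.pCore p L : Set L) ≤ Cfsg.pCore p L) (L₀ : Subgroup L) (hL₀ : IsCoatom L₀) (Y : Subgroup L) (hYL₀ : Y ≤ L₀) (hYel : Cfsg.IsElementaryAbelian p Y) (hmin : Cfsg.IsMinimalOver Y) (hOY : Cfsg.pCore p L ≤ Subgroup.normalizer (Y : Set L)) (A : Subgroup L) (hA : A = Subgroup.normalClosure (((Cfsg.pCore p L ⊓ Y : Subgroup L)) : Set L)) (g : L) (hg : g ∉ L₀) : (frattini ↥A).map A.subtype = ⁅A, A⁆ ∧ ⁅A, A⁆ = ⁅A ⊓ Y, A⁆ ∧ ⁅A ⊓ Y, A⁆ = ⁅A ⊓ Y, A ⊓ Y.map (MulAut.conj g).toMonoidHom⁆ ∧ ⁅A ⊓ Y, A⁆ ≤ Y ⊓ Subgroup.center L ∧ Y ⊓ Y.map (MulAut.conj g).toMonoidHom = Y ⊓ Subgroup.center L ∧ (A ⊓ Y) ⊓ (A ⊓ Y.map (MulAut.conj g).toMonoidHom) = Y ⊓ Subgroup.center L ∧ A ⊓ Subgroup.center L = Y ⊓ Subgroup.center L := by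
  classical
  haveI hOn := CfsgLib.Solv.pCore_normal L p
  set O := Cfsg.pCore p L with hOdef
  set Y' := Y.map (MulAut.conj g).toMonoidHom with hY'
  set Z := Subgroup.center L with hZ
  obtain ⟨hgen, M, ⟨hM, hYM⟩, huniq⟩ := hmin
  have hM0 : L₀ = M := huniq L₀ ⟨hL₀, hYL₀⟩
  subst hM0
  -- `L` is generated by `Y` and `Y'`
  have hsup : Y ⊔ Y' = ⊤ := by
    rcases eq_top_or_exists_le_coatom (Y ⊔ Y') with e | ⟨N, hN, hle⟩
    · exact e
    exfalso
    have hNL : N = L₀ := huniq N ⟨hN, le_sup_left.trans hle⟩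
    subst hNL
    have h1 : Y ≤ N.map (MulAut.conj g⁻¹).toMonoidHom := by
      intro y hy
      exact ⟨g * y * g⁻¹, (le_sup_right.trans hle) ⟨y, hy, rfl⟩, by simp [mul_assoc]⟩
    have hco : IsCoatom (N.map (MulAut.conj g⁻¹).toMonoidHom) :=
      (OrderIso.isCoatom_iff ((MulAut.conj g⁻¹).mapSubgroup) N).2 hN
    have e := huniq _ ⟨hco, h1⟩
    have hgN : g⁻¹ ∈ Subgroup.normalizer (N : Set L) := Subgroup.mem_normalizer_iff_map_conj_eq.2 e
    rcases eq_or_lt_of_le (Subgroup.le_normalizer : N ≤ Subgroup.normalizer (N : Set L)) with e' | hlt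
    · exact hg (inv_mem_iff.1 (e' ▸ hgN))
    · haveI : N.Normal := Subgroup.normalizer_eq_top_iff.1 (hN.2 _ hlt)
      exact hN.1 (top_le_iff.1 (hgen ▸ Subgroup.normalClosure_le_normal hYM))
  have hYc : ∀ a ∈ Y, ∀ b ∈ Y, a * b = b * a := fun a ha b hb => congrArg Subtype.val (hYel.1.is_comm.comm ⟨a, ha⟩ ⟨b, hb⟩)
  have hY'c : ∀ a ∈ Y', ∀ b ∈ Y', a * b = b * a := by
    rintro _ ⟨a, ha, rfl⟩ _ ⟨b, hb, rfl⟩
    rw [← map_mul, ← map_mul, hYc a ha b hb]
  have hcent : ∀ x : L, (∀ a ∈ Y, a * x = x * a) → (∀ a ∈ Y', a * x = x * a) → x ∈ Z := by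
    intro x h1 h2
    rw [hZ, ← Subgroup.centralizer_univ, ← Subgroup.coe_top, ← hsup]
    have : Y ⊔ Y' ≤ Subgroup.centralizer ({x} : Set L) := sup_le
      (fun a ha => Subgroup.mem_centralizer_singleton_iff.2 (h1 a ha))
      (fun a ha => Subgroup.mem_centralizer_singleton_iff.2 (h2 a ha))
    exact Subgroup.mem_centralizer_iff.2 fun a ha => Subgroup.mem_centralizer_singleton_iff.1 (this ha)
  have hZO : Z ≤ O := (Subgroup.center_le_centralizer _).trans hchar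
  set B := O ⊓ Y with hB
  set C := B.map (MulAut.conj g).toMonoidHom with hC
  have hCO : C ≤ O := (Subgroup.map_mono inf_le_left).trans
    (Subgroup.mem_normalizer_iff_map_conj_eq.1 (by rw [Subgroup.normalizer_eq_top]; trivial)).le
  have hCY' : C ≤ Y' := Subgroup.map_mono inf_le_right
  have hBY' : Y ⊓ Y' = Y ⊓ Z := by
    refine le_antisymm (le_inf inf_le_left fun x hx => hcent x (fun a ha => hYc a ha x hx.1) fun a ha => hY'c a ha x hx.2) ?_
    rintro x ⟨hx1, hx2⟩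
    refine ⟨hx1, ⟨x, hx1, ?_⟩⟩
    show g * x * g⁻¹ = x
    rw [Subgroup.mem_center_iff.1 hx2 g]; group
  -- `A = BC`
  have hcommB : ∀ o ∈ O, ∀ y ∈ Y, o * y * o⁻¹ * y⁻¹ ∈ B := fun o ho y hy => by
    refine Subgroup.mem_inf.2 ⟨?_, mul_mem ((Subgroup.mem_normalizer_iff.1 (hOY ho) y).1 hy) (inv_mem hy)⟩
    have : y * o⁻¹ * y⁻¹ ∈ O := hOn.conj_mem _ (inv_mem ho) y
    simpa [mul_assoc] using mul_mem ho this
  have hnorm : Y ⊔ Y' ≤ Subgroup.normalizer ((B ⊔ C : Subgroup L) : Set L) := by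
    refine sup_le ?_ ?_
    · rw [CfsgLib.Solv.le_normalizer_iff_forall_conj_mem]
      intro y hy
      have : B ⊔ C ≤ (B ⊔ C).comap (MulAut.conj y).toMonoidHom := sup_le
        (fun b hb => Subgroup.mem_sup_left (by show y * b * y⁻¹ ∈ B; rw [hYc y hy b hb.2, mul_inv_cancel_right]; exact hb))
        (fun c hc => by
          show y * c * y⁻¹ ∈ B ⊔ C
          have h1 := hcommB c (hCO hc) y hy
          rw [show y * c * y⁻¹ = (c * y * c⁻¹ * y⁻¹)⁻¹ * c by group]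
          exact mul_mem (inv_mem (Subgroup.mem_sup_left h1)) (Subgroup.mem_sup_right hc))
      exact this
    · rw [CfsgLib.Solv.le_normalizer_iff_forall_conj_mem]
      intro y' hy'
      have : B ⊔ C ≤ (B ⊔ C).comap (MulAut.conj y').toMonoidHom := sup_le
        (fun b hb => by
          show y' * b * y'⁻¹ ∈ B ⊔ C
          obtain ⟨y, hy, rfl⟩ := hy'
          have hb' : g⁻¹ * b * g ∈ O := by simpa using hOn.conj_mem _ hb.1 g⁻¹
          have h1 := hcommB _ hb' y hy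
          have h2 : g * ((g⁻¹ * b * g) * y * (g⁻¹ * b * g)⁻¹ * y⁻¹) * g⁻¹ ∈ C := ⟨_, h1, rfl⟩
          show (g * y * g⁻¹) * b * (g * y * g⁻¹)⁻¹ ∈ _
          rw [show (g * y * g⁻¹) * b * (g * y * g⁻¹)⁻¹
            = (g * ((g⁻¹ * b * g) * y * (g⁻¹ * b * g)⁻¹ * y⁻¹) * g⁻¹)⁻¹ * b by group]
          exact mul_mem (inv_mem (Subgroup.mem_sup_right h2)) (Subgroup.mem_sup_left hb))
        (fun c hc => Subgroup.mem_sup_right (by
          show y' * c * y'⁻¹ ∈ C
          rw [hY'c y' hy' c (hCY' hc), mul_inv_cancel_right]; exact hc))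
      exact this
  haveI hBCn : (B ⊔ C).Normal := Subgroup.normalizer_eq_top_iff.1 (top_le_iff.1 (hsup ▸ hnorm))
  haveI hAn : A.Normal := hA ▸ Subgroup.normalClosure_normal
  have hBA : B ≤ A := hA ▸ Subgroup.le_normalClosure
  have hAeq : A = B ⊔ C := by
    refine le_antisymm (hA ▸ Subgroup.normalClosure_le_normal (SetLike.coe_subset_coe.2 le_sup_left)) (sup_le hBA ?_)
    exact (Subgroup.map_mono hBA).trans (Subgroup.mem_normalizer_iff_map_conj_eq.1 (by rw [Subgroup.normalizer_eq_top]; trivial)).le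
  have hAO : A ≤ O := hA ▸ Subgroup.normalClosure_le_normal inf_le_left
  have hAY : A ⊓ Y = B := le_antisymm (inf_le_inf_right _ hAO) (le_inf hBA inf_le_right)
  have hAY' : A ⊓ Y' = C := by
    rw [hC, ← hAY, hY', Subgroup.map_inf _ _ _ (MulAut.conj g).injective]
    congr 1
    exact (Subgroup.mem_normalizer_iff_map_conj_eq.1 (show g ∈ Subgroup.normalizer (A : Set L) by rw [Subgroup.normalizer_eq_top]; trivial)).symm
  rw [hAY, hAY']
  set K := ⁅B, C⁆ with hK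
  have hKYY : K ≤ Y ⊓ Y' := by
    rw [hK, Subgroup.commutator_le]
    intro b hb c hc
    refine Subgroup.mem_inf.2 ⟨?_, ?_⟩
    · have h1 : c * b⁻¹ * c⁻¹ ∈ Y := (Subgroup.mem_normalizer_iff.1 (hOY (hCO hc)) _).1 (inv_mem hb.2)
      simpa [commutatorElement_def, mul_assoc] using mul_mem hb.2 h1
    · have hbN : b ∈ Subgroup.normalizer (Y' : Set L) := by
        rw [hY', ← Subgroup.map_equiv_normalizer_eq]
        refine ⟨g⁻¹ * b * g, hOY (by simpa using hOn.conj_mem _ hb.1 g⁻¹), by simp [mul_assoc]⟩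
      simpa [commutatorElement_def] using mul_mem ((Subgroup.mem_normalizer_iff.1 hbN c).1 (hCY' hc)) (inv_mem (hCY' hc))
  have hKZ : K ≤ Z := (hKYY.trans hBY'.le).trans inf_le_right
  haveI hKn : K.Normal := ⟨fun k hk x => by
    rw [Subgroup.mem_center_iff.1 (hKZ hk) x, mul_inv_cancel_right]; exact hk⟩
  set f := QuotientGroup.mk' K with hf
  have hfBC : ∀ b ∈ B, ∀ c ∈ C, Commute (f b) (f c) := fun b hb c hc => by
    have : f ⁅b, c⁆ = 1 := (QuotientGroup.eq_one_iff _).2 (Subgroup.commutator_mem_commutator hb hc)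
    rwa [map_commutatorElement, commutatorElement_eq_one_iff_mul_comm] at this
  have hfA : A.map f ≤ Subgroup.centralizer ((A.map f : Subgroup (L ⧸ K)) : Set (L ⧸ K)) := by
    rw [hAeq, Subgroup.map_sup]
    refine sup_le ?_ ?_ <;> rw [Subgroup.le_centralizer_iff] <;> refine sup_le ?_ ?_
    · rintro _ ⟨a, ha, rfl⟩; rw [Subgroup.mem_centralizer_iff]; rintro _ ⟨b, hb, rfl⟩
      rw [← map_mul, ← map_mul, hYc b hb.2 a ha.2]
    · rintro _ ⟨a, ha, rfl⟩; rw [Subgroup.mem_centralizer_iff]; rintro _ ⟨b, hb, rfl⟩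
      exact (hfBC b hb a ha).eq
    · rintro _ ⟨a, ha, rfl⟩; rw [Subgroup.mem_centralizer_iff]; rintro _ ⟨b, hb, rfl⟩
      exact (hfBC a ha b hb).symm.eq
    · rintro _ ⟨a, ha, rfl⟩; rw [Subgroup.mem_centralizer_iff]; rintro _ ⟨b, hb, rfl⟩
      rw [← map_mul, ← map_mul, hY'c b (hCY' hb) a (hCY' ha)]
  have hAAK : ⁅A, A⁆ ≤ K := by
    rw [Subgroup.commutator_le]
    intro a ha b hb
    rw [← QuotientGroup.eq_one_iff]
    show f ⁅a, b⁆ = 1
    rw [map_commutatorElement, commutatorElement_eq_one_iff_mul_comm]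
    exact (Subgroup.mem_centralizer_iff.1 (hfA ⟨b, hb, rfl⟩) _ ⟨a, ha, rfl⟩)
  have hKBA : K ≤ ⁅B, A⁆ := Subgroup.commutator_mono le_rfl (hAeq ▸ le_sup_right)
  have hBAA : ⁅B, A⁆ ≤ ⁅A, A⁆ := Subgroup.commutator_mono hBA le_rfl
  have e1 : ⁅A, A⁆ = ⁅B, A⁆ := le_antisymm (hAAK.trans hKBA) hBAA
  have e2 : ⁅B, A⁆ = K := le_antisymm (hBAA.trans hAAK) hKBA
  haveI hBn2 : C ≤ Subgroup.normalizer (B : Set L) := fun c hc =>
    CfsgLib.Solv.le_normalizer_inf_of_le (by rw [Subgroup.normalizer_eq_top]; exact le_top) hOY (hCO hc)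
  refine ⟨?_, e1, e2, ?_, hBY', ?_, ?_⟩
  · apply le_antisymm
    · have hp : ∀ x : ↥A, x ^ p ∈ (⁅A, A⁆.subgroupOf A) := by
        intro x
        show ((x ^ p : ↥A) : L) ∈ ⁅A, A⁆
        rw [e1, e2, SubmonoidClass.coe_pow, ← QuotientGroup.eq_one_iff]
        show f ((x : L) ^ p) = 1
        have hx : (x : L) ∈ B ⊔ C := hAeq ▸ x.2
        have hx' : (x : L) ∈ ((B ⊔ C : Subgroup L) : Set L) := hx
        rw [Subgroup.coe_mul_of_right_le_normalizer_left B C hBn2] at hx'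
        obtain ⟨b, hb, c, hc, e⟩ := Set.mem_mul.1 hx'
        rw [← e, map_pow, map_mul, (hfBC b hb c hc).mul_pow, ← map_pow, ← map_pow, hYel.2 b hb.2]
        obtain ⟨u, hu, rfl⟩ := hc
        rw [← map_pow (MulAut.conj g).toMonoidHom, hYel.2 u hu.2]
        simp
      have hc : commutator ↥A ≤ ⁅A, A⁆.subgroupOf A := by
        rw [commutator_def, Subgroup.commutator_le]
        intro a _ b _
        exact Subgroup.commutator_mem_commutator a.2 b.2
      refine (Subgroup.map_mono (CfsgLib.Solv.frattini_le_of_elementary (p := p) _ hc hp)).trans ?_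
      exact Subgroup.map_comap_le _ _
    · have hAp : IsPGroup p ↥A := (CfsgLib.Solv.pCore_isPGroup L p).to_le hAO
      refine le_trans ?_ (Subgroup.map_mono (CfsgLib.Solv.commutator_le_frattini hAp))
      rw [commutator_def, Subgroup.map_commutator, ← MonoidHom.range_eq_map, Subgroup.range_subtype]
  · rw [e2, ← hBY']; exact hKYY
  · refine le_antisymm (fun x hx => hBY' ▸ Subgroup.mem_inf.2 ⟨hx.1.2, hCY' hx.2⟩) fun x hx => ?_
    obtain ⟨hx1, hx2⟩ := Subgroup.mem_inf.1 hx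
    refine Subgroup.mem_inf.2 ⟨⟨hZO hx2, hx1⟩, x, ⟨hZO hx2, hx1⟩, ?_⟩
    show g * x * g⁻¹ = x
    rw [Subgroup.mem_center_iff.1 hx2 g]; group
  · refine le_antisymm ?_ (fun x hx => ⟨hBA ⟨hZO hx.2, hx.1⟩, hx.2⟩)
    rintro a ⟨ha, haZ⟩
    refine ⟨?_, haZ⟩
    have ha' : a ∈ ((B ⊔ C : Subgroup L) : Set L) := hAeq ▸ ha
    rw [Subgroup.coe_mul_of_right_le_normalizer_left B C hBn2] at ha'
    obtain ⟨b, hb, c, hc, e⟩ := Set.mem_mul.1 ha'
    have hcZ : c ∈ Z := by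
      refine hcent c (fun y hy => ?_) fun y hy => hY'c y hy c (hCY' hc)
      have h1 : Commute y b := hYc y hy b hb.2
      have h2 : Commute y a := Subgroup.mem_center_iff.1 haZ y
      have : c = b⁻¹ * a := by rw [← e]; group
      rw [this]
      exact (h1.inv_right.mul_right h2).eq
    obtain ⟨u, hu, hue⟩ := hc
    have huZ : u = c := by
      have h1 := Subgroup.mem_center_iff.1 hcZ g
      have h2 : g * u * g⁻¹ = c := hue
      calc u = g⁻¹ * (g * u * g⁻¹) * g := by group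
        _ = g⁻¹ * (c * g) := by rw [h2]; group
        _ = g⁻¹ * (g * c) := by rw [h1]
        _ = c := by group
    rw [← e]
    exact mul_mem hb.2 (huZ ▸ hu.2)

end Cfsg.Agent.S2837
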