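import Cfsg.Statements.S2838
import Cfsg.Agent.Inv.WeakClosed

set_option autoImplicit false
open Cfsg

namespace Cfsg.Agent.S2838

/-- For a nontrivial p-subgroup Q of a finite group H the following are equivalent: Q is a weakly closed subgroup (it is the only H-conjugate of itself inside some Sylow p-subgroup containing it); Q = P for every conjugate P of Q with [Q, P] ≤ Q ∩ P; Q is normal in N_H(R) for every p-subgroup R of H containing Q. -/
theorem result {H : Type*} [Group H] [Finite H] {p : ℕ} [Fact p.Prime] (Q : Subgroup H) (hQp : IsPGroup p ↥Q) (hQ1 : Q ≠ ⊥) : (Cfsg.IsWeaklyClosedSubgroup p Q ↔ ∀ g : H, ⁅Q, ((Q : Subgroup H).map (MulAut.conj (g : H)).toMonoidHom)⁆ ≤ Q ⊓ ((Q : Subgroup H).map (MulAut.conj (g : H)).toMonoidHom) → ((Q : Subgroup H).map (MulAut.conj (g : H)).toMonoidHom) = Q) ∧ (Cfsg.IsWeaklyClosedSubgroup p Q ↔ ∀ R : Subgroup H, IsPGroup p ↥R → Q ≤ R → Subgroup.normalizer ((R : Subgroup H) : Set H) ≤ Subgroup.normalizer ((Q : Subgroup H) : Set H)) := by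
  open CfsgLib.Inv in
  open scoped Pointwise in
  exact (by
    refine ⟨⟨fun h g hg => ?_, wc_of_normal_in hQp⟩, ⟨fun h R hR hQR n hn => ?_, fun h => ?_⟩⟩
    · have h1 : Q.map (MulAut.conj g).toMonoidHom ≤ Subgroup.normalizer (Q : Set H) :=
        Subgroup.le_normalizer_iff_commutator_le_left.2 (hg.trans inf_le_left)
      exact wc_any h (hQp.to_sup_of_normal_left' (hQp.map _) h1) le_sup_left le_sup_right
    · refine CfsgLib.Solv.mem_normalizer_of_conj_smul_eq ?_
      rw [CfsgLib.Solv.conj_smul_eq_map]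
      refine wc_any h hR hQR ?_
      rintro _ ⟨q, hq, rfl⟩
      exact (Subgroup.mem_normalizer_iff.1 hn q).1 (hQR hq)
    · obtain ⟨T, hT⟩ := hQp.exists_le_sylow
      have hTN : (T : Subgroup H) ≤ Subgroup.normalizer (Q : Set H) :=
        Subgroup.le_normalizer.trans (h T T.2 hT)
      refine ⟨T, hT, fun g hg => ?_⟩
      have hT2 : ((g⁻¹ • T : Sylow p H) : Subgroup H) ≤ Subgroup.normalizer (Q : Set H) := by
        refine Subgroup.le_normalizer.trans (h _ (g⁻¹ • T : Sylow p H).2 fun q hq => ?_)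
        rw [Sylow.coe_subgroup_smul, CfsgLib.Solv.mem_conj_smul_iff]
        simpa using hg ⟨q, hq, rfl⟩
      obtain ⟨n, hn⟩ := MulAction.exists_smul_eq (Subgroup.normalizer (Q : Set H))
        (T.subtype hTN) ((g⁻¹ • T).subtype hT2)
      rw [Sylow.smul_subtype] at hn
      have hn' : (n : H) • T = g⁻¹ • T := Sylow.subtype_injective hn
      have hgn : g * (n : H) ∈ Subgroup.normalizer (Q : Set H) := by
        refine h T T.2 hT (Sylow.smul_eq_iff_mem_normalizer.1 ?_)
        rw [mul_smul, hn', smul_inv_smul]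
      have : g ∈ Subgroup.normalizer (Q : Set H) := by
        simpa using mul_mem hgn (inv_mem n.2)
      rw [← CfsgLib.Solv.conj_smul_eq_map]
      exact CfsgLib.Solv.conj_smul_eq_self_of_mem_normalizer this)

end Cfsg.Agent.S2838
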