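import Cfsg.Statements.S2839
import Cfsg.Agent.Inv.WeakClosed
import Cfsg.Agent.Inv.PClosed

set_option autoImplicit false
open Cfsg

namespace Cfsg.Agent.S2839

/-- Let Q be a nontrivial p-subgroup of the finite group H that is a weakly closed subgroup, K a subgroup containing Q and N a normal subgroup of H. Then Q is a weakly closed subgroup of K; every H-conjugate of Q contained in K is a K-conjugate of Q; N_K(Q) contains a Sylow p-subgroup of K; N = N_N(Q)·O^p(N); and QN/N is a weakly closed subgroup of H/N. -/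
theorem result {H : Type*} [Group H] [Finite H] {p : ℕ} [Fact p.Prime] (Q : Subgroup H) (hQp : IsPGroup p ↥Q) (hQ1 : Q ≠ ⊥) (hwc : Cfsg.IsWeaklyClosedSubgroup p Q) (K : Subgroup H) (hQK : Q ≤ K) (N' : Subgroup H) [N'.Normal] : Cfsg.IsWeaklyClosedSubgroup p (Q.subgroupOf K) ∧ (∀ g : H, ((Q : Subgroup H).map (MulAut.conj (g : H)).toMonoidHom) ≤ K → ∃ k ∈ K, ((Q : Subgroup H).map (MulAut.conj (g : H)).toMonoidHom) = ((Q : Subgroup H).map (MulAut.conj (k : H)).toMonoidHom)) ∧ Cfsg.IsParabolic p ((Subgroup.normalizer ((Q : Subgroup H) : Set H)).subgroupOf K) ∧ (N' ⊓ Subgroup.normalizer ((Q : Subgroup H) : Set H)) ⊔ (Cfsg.pResidual p ↥N').map N'.subtype = N' ∧ Cfsg.IsWeaklyClosedSubgroup p (Q.map (QuotientGroup.mk' N')) := by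
  open CfsgLib.Inv in
  open scoped Pointwise in
  exact (by
    obtain ⟨T, hQT, hTwc⟩ := id hwc
    have hTN : (T : Subgroup H) ≤ Subgroup.normalizer (Q : Set H) := wc_le_normalizer hwc T.2 hQT
    obtain ⟨R, hR⟩ := (hQp.comap_subtype (K := K)).exists_le_sylow
    have hRp : IsPGroup p ((R : Subgroup K).map K.subtype) := R.2.map _
    have hQR : Q ≤ (R : Subgroup K).map K.subtype := fun q hq =>
      Subgroup.mem_map.2 ⟨⟨q, hQK hq⟩, hR hq, rfl⟩
    refine ⟨⟨R, hR, fun k hk => ?_⟩, fun g hg => wc_conj_in hQp hwc hQK hg, ⟨R, ?_⟩, ?_, ?_⟩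
    · have h1 : (Q.subgroupOf K).map (MulAut.conj k).toMonoidHom = (Q.map (MulAut.conj (k : H)).toMonoidHom).subgroupOf K := by
        ext x
        rw [CfsgLib.Solv.mem_map_conj_iff, Subgroup.mem_subgroupOf, Subgroup.mem_subgroupOf,
          CfsgLib.Solv.mem_map_conj_iff]
        simp
      have h2 := Subgroup.map_mono (f := K.subtype) hk
      rw [h1, Subgroup.map_subgroupOf_eq_of_le (by
        rintro _ ⟨q, hq, rfl⟩; exact mul_mem (mul_mem k.2 (hQK hq)) (inv_mem k.2))] at h2
      rw [h1, wc_any hwc hRp hQR h2]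
    · intro r hr
      exact wc_le_normalizer hwc hRp hQR (Subgroup.mem_map.2 ⟨r, hr, rfl⟩)
    · haveI : N'.Normal := inferInstance
      refine le_antisymm (sup_le inf_le_left (Subgroup.map_subtype_le _)) ?_
      obtain ⟨P, hP⟩ := sylow_inf_normal T N'
      set M := (N' ⊓ Subgroup.normalizer ((Q : Subgroup H) : Set H)) ⊔ (Cfsg.pResidual p ↥N').map N'.subtype
      have htop := eq_top_of_sylow_coprime (M := M.subgroupOf N') P (fun x hx => by
          have hxm : (x : H) ∈ (T : Subgroup H) ⊓ N' := hP ▸ Subgroup.mem_map.2 ⟨x, hx, rfl⟩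
          exact Subgroup.mem_sup_left (Subgroup.mem_inf.2 ⟨x.2, hTN (Subgroup.mem_inf.1 hxm).1⟩))
        (fun x hx => Subgroup.mem_sup_right (Subgroup.mem_map.2 ⟨x, Subgroup.subset_closure hx, rfl⟩))
      exact Subgroup.subgroupOf_eq_top.1 htop
    · set π := QuotientGroup.mk' N' with hπ
      have hsurj : Function.Surjective π := QuotientGroup.mk'_surjective N'
      refine ⟨T.mapSurjective hsurj, (Subgroup.map_mono hQT).trans (Sylow.coe_mapSurjective hsurj T).ge,
        fun y hy => ?_⟩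
      obtain ⟨g, rfl⟩ := hsurj y
      rw [Sylow.coe_mapSurjective] at hy
      have e : (Q.map π).map (MulAut.conj (π g)).toMonoidHom = (Q.map (MulAut.conj g).toMonoidHom).map π := by
        rw [Subgroup.map_map, Subgroup.map_map]
        congr 1
      rw [e] at hy ⊢
      have hle : Q.map (MulAut.conj g).toMonoidHom ≤ (T : Subgroup H) ⊔ N' := by
        have h1 := Subgroup.map_le_iff_le_comap.1 hy
        rwa [hπ, QuotientGroup.comap_map_mk', sup_comm] at h1
      obtain ⟨k, hk, hkQ⟩ := wc_conj_in hQp hwc (hQT.trans le_sup_left) hle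
      rw [hkQ]
      obtain ⟨t, ht, n, hn, rfl⟩ := Subgroup.mem_sup_of_normal_right.1 hk
      have e2 : (Q.map (MulAut.conj (t * n)).toMonoidHom).map π = (Q.map (MulAut.conj t).toMonoidHom).map π := by
        rw [Subgroup.map_map, Subgroup.map_map]
        congr 1
        ext x
        have hn1 : π n = 1 := (QuotientGroup.eq_one_iff n).2 hn
        simp [hn1]
      rw [e2]
      congr 1
      rw [← CfsgLib.Solv.conj_smul_eq_map]
      exact CfsgLib.Solv.conj_smul_eq_self_of_mem_normalizer (hTN ht))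

end Cfsg.Agent.S2839
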