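import Cfsg.Statements.S2840
import Cfsg.Agent.Inv.WeakClosed

set_option autoImplicit false
open Cfsg

namespace Cfsg.Agent.S2840

/-- Let Q be a nontrivial p-subgroup of the finite group H that is a weakly closed subgroup and K a subgroup containing Q; let K° be the weak closure of Q in K (generated by the H-conjugates of Q inside K). Then K° is generated by the K-conjugates of Q, and K° is the subnormal closure of Q in K. -/
theorem result {H : Type*} [Group H] [Finite H] {p : ℕ} [Fact p.Prime] (Q : Subgroup H) (hQp : IsPGroup p ↥Q) (hQ1 : Q ≠ ⊥) (hwc : Cfsg.IsWeaklyClosedSubgroup p Q) (K : Subgroup H) (hQK : Q ≤ K) (Kc : Subgroup H) (hKc : Kc = Cfsg.weakClosure Q K) : Kc = ⨆ k : ↥K, ((Q : Subgroup H).map (MulAut.conj ((k : H) : H)).toMonoidHom) ∧ Kc = (Cfsg.subnormalClosure (Q.subgroupOf K)).map K.subtype := by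
  open CfsgLib.Inv in
  open scoped Pointwise in
  exact (by
    have h1 : Kc = ⨆ k : ↥K, ((Q : Subgroup H).map (MulAut.conj ((k : H) : H)).toMonoidHom) := by
      rw [hKc, Cfsg.weakClosure]
      refine le_antisymm (iSup_le fun g => ?_) (iSup_le fun k => ?_)
      · obtain ⟨k, hk, e⟩ := wc_conj_in hQp hwc hQK g.2
        rw [e]
        exact le_iSup (fun k : ↥K => Q.map (MulAut.conj (k : H)).toMonoidHom) ⟨k, hk⟩
      · exact le_iSup (fun g : {g : H // Q.map (MulAut.conj g).toMonoidHom ≤ K} =>
          Q.map (MulAut.conj (g : H)).toMonoidHom) ⟨k, by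
            rintro _ ⟨q, hq, rfl⟩; exact mul_mem (mul_mem k.2 (hQK hq)) (inv_mem k.2)⟩
    refine ⟨h1, ?_⟩
    have hKcK : Kc ≤ K := by
      rw [h1]; exact iSup_le fun k => by
        rintro _ ⟨q, hq, rfl⟩; exact mul_mem (mul_mem k.2 (hQK hq)) (inv_mem k.2)
    have hn : K ≤ Subgroup.normalizer (Kc : Set H) := by
      rw [CfsgLib.Solv.le_normalizer_iff_forall_conj_mem]
      intro x hx y hy
      have hmap : Kc.map (MulAut.conj x).toMonoidHom ≤ Kc := by
        rw [h1, Subgroup.map_iSup]
        refine iSup_le fun k => ?_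
        refine le_trans (le_of_eq ?_) (le_iSup _ (⟨x, hx⟩ * k : K))
        rw [Subgroup.map_map]
        congr 1
        ext q; simp [mul_assoc]
      exact hmap (Subgroup.mem_map.2 ⟨y, hy, rfl⟩)
    refine le_antisymm ?_ ?_
    · -- every conjugate lies in every subnormal subgroup of K over Q
      have key : ∀ S : Subgroup ↥K, S.IsSubnormal → Q.subgroupOf K ≤ S → ∀ k : K,
          Q.map (MulAut.conj (k : H)).toMonoidHom ≤ S.map K.subtype := by
        intro S hS
        induction hS with
        | top =>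
          intro _ k
          rw [← MonoidHom.range_eq_map, Subgroup.range_subtype]
          rintro _ ⟨q, hq, rfl⟩; exact mul_mem (mul_mem k.2 (hQK hq)) (inv_mem k.2)
        | step S L hSL _ hn' ih =>
          intro hQS k
          have hQ' : Q ≤ L.map K.subtype := fun q hq =>
            Subgroup.mem_map.2 ⟨⟨q, hQK hq⟩, hSL (hQS hq), rfl⟩
          obtain ⟨l, hl, e⟩ := wc_conj_in hQp hwc hQ' (ih (hQS.trans hSL) k)
          rw [e]
          obtain ⟨l', hl', rfl⟩ := hl
          rintro _ ⟨q, hq, rfl⟩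
          refine Subgroup.mem_map.2 ⟨l' * ⟨q, hQK hq⟩ * l'⁻¹, ?_, rfl⟩
          exact ((Subgroup.normal_subgroupOf_iff_le_normalizer hSL).1 hn' hl' |> Subgroup.mem_normalizer_iff.1)
            ⟨q, hQK hq⟩ |>.1 (hQS hq)
      rw [h1]
      refine iSup_le fun k => key (Cfsg.subnormalClosure (Q.subgroupOf K))
        (subnormal_sInf _ fun X hX => hX.2) (le_sInf fun X hX => hX.1) k
    · rw [← Subgroup.map_subgroupOf_eq_of_le hKcK]
      refine Subgroup.map_mono (sInf_le ⟨fun q hq => ?_, ?_⟩)
      · refine Subgroup.mem_subgroupOf.2 ?_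
        rw [h1]
        exact Subgroup.mem_iSup_of_mem 1 (Subgroup.mem_map.2 ⟨q, hq, by simp⟩)
      · exact ((Subgroup.normal_subgroupOf_iff_le_normalizer hKcK).2 hn).isSubnormal)

end Cfsg.Agent.S2840
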