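import Cfsg.Statements.S2841
import Cfsg.Agent.Inv.WeakClosed

set_option autoImplicit false
open Cfsg

namespace Cfsg.Agent.S2841

/-- Let Q be a nontrivial p-subgroup of the finite group H that is a weakly closed subgroup and N a normal subgroup of H. Then N = N_N(Q)·[N, Q] and [N, Q] = (Q ∩ [N, Q])·[N, Q, Q]. -/
theorem result {H : Type*} [Group H] [Finite H] {p : ℕ} [Fact p.Prime] (Q : Subgroup H) (hQp : IsPGroup p ↥Q) (hQ1 : Q ≠ ⊥) (hwc : Cfsg.IsWeaklyClosedSubgroup p Q) (N' : Subgroup H) [N'.Normal] : (∀ n : H, n ∈ N' → ∃ a ∈ N' ⊓ Subgroup.normalizer ((Q : Subgroup H) : Set H), ∃ b ∈ ⁅N', Q⁆, n = a * b) ∧ (∀ c : H, c ∈ ⁅N', Q⁆ → ∃ a ∈ Q ⊓ ⁅N', Q⁆, ∃ b ∈ ⁅⁅N', Q⁆, Q⁆, c = a * b) := by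
  open CfsgLib.Inv in
  open scoped commutatorElement in
  open scoped Pointwise in
  exact (by
    haveI : N'.Normal := inferInstance
    set D := ⁅N', Q⁆ with hD
    have hDN : D ≤ N' := Subgroup.commutator_le_left _ _
    have hQD : Q ≤ Subgroup.normalizer (D : Set H) := CfsgLib.Solv.right_le_normalizer_commutator N' Q
    have hND : N' ≤ Subgroup.normalizer (D : Set H) := CfsgLib.Solv.left_le_normalizer_commutator N' Q
    have hdec : ∀ n ∈ N', ∃ a ∈ N' ⊓ Subgroup.normalizer ((Q : Subgroup H) : Set H),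
        ∃ b ∈ D, n = a * b := by
      intro n hn
      have hle : Q.map (MulAut.conj n).toMonoidHom ≤ Q ⊔ D := by
        rintro _ ⟨q, hq, rfl⟩
        have e : n * q * n⁻¹ = ⁅n, q⁆ * q := by rw [commutatorElement_def]; group
        show n * q * n⁻¹ ∈ Q ⊔ D
        rw [e]
        exact mul_mem (Subgroup.mem_sup_right (Subgroup.commutator_mem_commutator hn hq))
          (Subgroup.mem_sup_left hq)
      obtain ⟨k, hk, e⟩ := wc_conj_in hQp hwc le_sup_left hle
      obtain ⟨d, hd, q, hq, rfl⟩ := CfsgLib.Solv.exists_mul_of_mem_sup hQD hk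
      have hfix : d⁻¹ * n ∈ Subgroup.normalizer ((Q : Subgroup H) : Set H) := by
        refine CfsgLib.Solv.mem_normalizer_of_conj_smul_eq ?_
        rw [map_mul, mul_smul, CfsgLib.Solv.conj_smul_eq_map n, e, ← CfsgLib.Solv.conj_smul_eq_map,
          ← mul_smul, ← map_mul, inv_mul_cancel_left]
        exact CfsgLib.Solv.conj_smul_eq_self_of_mem_normalizer (Subgroup.le_normalizer hq)
      have haN : d⁻¹ * n ∈ N' := mul_mem (inv_mem (hDN hd)) hn
      refine ⟨d⁻¹ * n, Subgroup.mem_inf.2 ⟨haN, hfix⟩, (d⁻¹ * n)⁻¹ * d * (d⁻¹ * n), ?_, by group⟩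
      exact (Subgroup.mem_normalizer_iff''.1 (hND haN) d).1 hd
    refine ⟨hdec, fun c hc => ?_⟩
    have hQDD : Q ⊓ D ≤ Subgroup.normalizer ((⁅D, Q⁆ : Subgroup H) : Set H) :=
      inf_le_left.trans (CfsgLib.Solv.right_le_normalizer_commutator D Q)
    have hle : D ≤ (Q ⊓ D) ⊔ ⁅D, Q⁆ := by
      refine Subgroup.commutator_le.2 fun n hn q hq => ?_
      obtain ⟨a, ha, b, hb, rfl⟩ := hdec n hn
      obtain ⟨haN, haQ⟩ := Subgroup.mem_inf.1 ha
      have e : ⁅a * b, q⁆ = a * ⁅b, q⁆ * a⁻¹ * ⁅a, q⁆ := by simp only [commutatorElement_def]; group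
      rw [e]
      refine mul_mem (Subgroup.mem_sup_right ?_) (Subgroup.mem_sup_left (Subgroup.mem_inf.2 ⟨?_, ?_⟩))
      · have e2 : a * ⁅b, q⁆ * a⁻¹ = ⁅a * b * a⁻¹, a * q * a⁻¹⁆ := by
          simp only [commutatorElement_def]; group
        rw [e2]
        exact Subgroup.commutator_mem_commutator ((Subgroup.mem_normalizer_iff.1 (hND haN) b).1 hb)
          ((Subgroup.mem_normalizer_iff.1 haQ q).1 hq)
      · rw [commutatorElement_def]
        exact mul_mem ((Subgroup.mem_normalizer_iff.1 haQ q).1 hq) (inv_mem hq)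
      · exact Subgroup.commutator_mem_commutator haN hq
    obtain ⟨b, hb, a, ha, rfl⟩ := CfsgLib.Solv.exists_mul_of_mem_sup hQDD (hle hc)
    refine ⟨a, ha, a⁻¹ * b * a, ?_, by group⟩
    exact (Subgroup.mem_normalizer_iff''.1 (hQDD ha) b).1 hb)

end Cfsg.Agent.S2841
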