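import Cfsg.Statements.S2842
import Cfsg.Agent.Inv.LargeSub

set_option autoImplicit false
open Cfsg

namespace Cfsg.Agent.S2842

/-- Let Q be a nontrivial p-subgroup of the finite group H that is a weakly closed subgroup with C_H(Q) ≤ Q, and Q ≤ L ≤ H. Suppose H has characteristic p, or more generally that C_H(y) has characteristic p for some nonidentity y ∈ C_{O_p(L)}(Q). Then [Q, C_H(O_p(L))] ≤ Q ∩ O_p(L), C_H(O_p(L)) is a p-group, and L has characteristic p. -/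
theorem result {H : Type*} [Group H] [Finite H] {p : ℕ} [Fact p.Prime] (Q : Subgroup H) (hQp : IsPGroup p ↥Q) (hQ1 : Q ≠ ⊥) (hwc : Cfsg.IsWeaklyClosedSubgroup p Q) (hCQ : Subgroup.centralizer ((Q : Subgroup H) : Set H) ≤ Q) (L : Subgroup H) (hQL : Q ≤ L) (hyp : Subgroup.centralizer (Cfsg.pCore p H : Set H) ≤ Cfsg.pCore p H ∨ ∃ y : H, y ≠ 1 ∧ y ∈ (Cfsg.pCoreOf p L) ⊓ Subgroup.centralizer ((Q : Subgroup H) : Set H) ∧ Subgroup.centralizer (Cfsg.pCore p ↥(Subgroup.centralizer ({y} : Set H)) : Set ↥(Subgroup.centralizer ({y} : Set H))) ≤ Cfsg.pCore p ↥(Subgroup.centralizer ({y} : Set H))) : ⁅Q, Subgroup.centralizer (((Cfsg.pCoreOf p L) : Subgroup H) : Set H)⁆ ≤ Q ⊓ (Cfsg.pCoreOf p L) ∧ IsPGroup p ↥(Subgroup.centralizer (((Cfsg.pCoreOf p L) : Subgroup H) : Set H)) ∧ Subgroup.centralizer (Cfsg.pCore p ↥L : Set ↥L) ≤ Cfsg.pCore p ↥L := by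
  open CfsgLib.Inv in
  exact (by
    set P := Cfsg.pCoreOf p L with hP
    rcases hyp with h | ⟨y, -, hy, hK⟩
    · have hK : Subgroup.centralizer (Cfsg.pCore p ↥(⊤ : Subgroup H) : Set ↥(⊤ : Subgroup H)) ≤ Cfsg.pCore p ↥(⊤ : Subgroup H) := by
        have e := CfsgLib.Solv.map_pCore_equiv (p := p) (Subgroup.topEquiv (G := H)).symm
        intro x hx
        rw [← e]
        refine Subgroup.mem_map.2 ⟨(x : H), h (Subgroup.mem_centralizer_iff.2 fun r hr => ?_), Subtype.ext rfl⟩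
        exact congrArg Subtype.val (Subgroup.mem_centralizer_iff.1 hx _ (e ▸ Subgroup.mem_map_of_mem _ hr))
      obtain ⟨h1, h2, h3, -⟩ := wc_centralizer_main hQp hwc hCQ hK hQL le_top le_top
      exact ⟨h1, h2, h3⟩
    · obtain ⟨hyP, hyQ⟩ := Subgroup.mem_inf.1 hy
      obtain ⟨h1, h2, h3, -⟩ := wc_centralizer_main hQp hwc hCQ hK hQL
        (fun q hq => Subgroup.mem_centralizer_singleton_iff.2 (Subgroup.mem_centralizer_iff.1 hyQ q hq))
        (fun d hd => Subgroup.mem_centralizer_singleton_iff.2 (Subgroup.mem_centralizer_iff.1 hd y hyP).symm)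
      exact ⟨h1, h2, h3⟩)

end Cfsg.Agent.S2842
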