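import Cfsg.Statements.S2843
import Cfsg.Agent.Inv.LargeSub

set_option autoImplicit false
open Cfsg

namespace Cfsg.Agent.S2843

/-- Let Q be a nontrivial large p-subgroup of the finite group H, Q ≤ L ≤ H, and Y a nontrivial p-subgroup of H normalized by L. Let L° be the weak closure of Q in L (generated by the conjugates of Q inside L). Then L° equals the weak closure of Q in L·C_H(Y), and [L°, C_H(Y)] ≤ O_p(L°); in particular C_H(Y) normalizes L°. -/
theorem result {H : Type*} [Group H] [Finite H] {p : ℕ} [Fact p.Prime] (Q : Subgroup H) (hQp : IsPGroup p ↥Q) (hQ1 : Q ≠ ⊥) (hL : Cfsg.IsLarge Q) (L : Subgroup H) (hQL : Q ≤ L) (Y : Subgroup H) (hYp : IsPGroup p ↥Y) (hY1 : Y ≠ ⊥) (hLY : L ≤ Subgroup.normalizer ((Y : Subgroup H) : Set H)) : Cfsg.weakClosure Q L = Cfsg.weakClosure Q (L ⊔ Subgroup.centralizer ((Y : Subgroup H) : Set H)) ∧ ⁅Cfsg.weakClosure Q L, Subgroup.centralizer ((Y : Subgroup H) : Set H)⁆ ≤ (Cfsg.pCoreOf p (Cfsg.weakClosure Q L)) ∧ Subgroup.centralizer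 ((Y : Subgroup H) : Set H) ≤ Subgroup.normalizer (((Cfsg.weakClosure Q L) : Subgroup H) : Set H) := by
  open CfsgLib.Inv in
  open scoped commutatorElement in
  exact (by
    set CY := Subgroup.centralizer (Y : Set H) with hCY
    have hLCY : L ≤ Subgroup.normalizer (CY : Set H) := by
      rw [CfsgLib.Solv.le_normalizer_iff_forall_conj_mem]
      intro m hm c hc
      refine Subgroup.mem_centralizer_iff.2 fun w hw => ?_
      have hw' := (Subgroup.mem_normalizer_iff.1 (hLY (inv_mem hm)) w).1 hw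
      rw [inv_inv] at hw'
      have h1 := Subgroup.mem_centralizer_iff.1 hc _ hw'
      calc w * (m * c * m⁻¹) = m * (m⁻¹ * w * m * c) * m⁻¹ := by group
        _ = m * (c * (m⁻¹ * w * m)) * m⁻¹ := by rw [h1]
        _ = _ := by group
    have hfix : ∀ g : H, Q.map (MulAut.conj g).toMonoidHom ≤ L →
        CY ≤ Subgroup.normalizer ((Q.map (MulAut.conj g).toMonoidHom : Subgroup H) : Set H) := by
      intro g hg
      obtain ⟨y, -, hy, hN, -⟩ := large_y (hQp.map _) (large_conj hL g) hYp hY1 (hg.trans hLY)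
      refine le_trans (fun c hc => ?_) hN
      exact Subgroup.mem_centralizer_singleton_iff.2 (Subgroup.mem_centralizer_iff.1 hc y (Subgroup.mem_inf.1 hy).1).symm
    have hwc := large_wc hQp hQ1 hL
    have hid : Q.map (MulAut.conj (1 : H)).toMonoidHom = Q := by ext; simp
    have hQfix : CY ≤ Subgroup.normalizer (Q : Set H) := by
      have := hfix 1 (hid.le.trans hQL)
      rwa [hid] at this
    have hWeq : Cfsg.weakClosure Q L = Cfsg.weakClosure Q (L ⊔ CY) := by
      refine le_antisymm (iSup_le fun g => le_iSup_of_le (f := fun g : {g : H // Q.map (MulAut.conj g).toMonoidHom ≤ L ⊔ CY} =>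
        Q.map (MulAut.conj (g : H)).toMonoidHom) ⟨g.1, g.2.trans le_sup_left⟩ le_rfl) (iSup_le fun g => ?_)
      obtain ⟨k, hk, hke⟩ := wc_conj_in hQp hwc (hQL.trans le_sup_left) g.2
      rw [sup_comm] at hk
      have hLC' : CY ⊔ L = L ⊔ CY := sup_comm _ _
      rw [hLC'] at hk
      obtain ⟨c, hc, l, hl, rfl⟩ := CfsgLib.Solv.exists_mul_of_mem_sup hLCY hk
      have hc' : l⁻¹ * c * l ∈ CY := by
        simpa using (Subgroup.mem_normalizer_iff.1 (hLCY (inv_mem hl)) c).1 hc
      have e : Q.map (MulAut.conj (c * l)).toMonoidHom = Q.map (MulAut.conj l).toMonoidHom := by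
        have e1 : Q.map (MulAut.conj (l⁻¹ * c * l)).toMonoidHom = Q := by
          rw [← CfsgLib.Solv.conj_smul_eq_map]; exact CfsgLib.Solv.conj_smul_eq_self_of_mem_normalizer (hQfix hc')
        conv_rhs => rw [← e1, Subgroup.map_map]
        congr 1
        ext x
        simp [mul_assoc]
      rw [hke, e]
      refine le_iSup_of_le (f := fun g : {g : H // Q.map (MulAut.conj g).toMonoidHom ≤ L} =>
        Q.map (MulAut.conj (g : H)).toMonoidHom) ⟨l, ?_⟩ le_rfl
      rintro _ ⟨q, hq, rfl⟩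
      exact mul_mem (mul_mem hl (hQL hq)) (inv_mem hl)
    set W := Cfsg.weakClosure Q L with hW
    have hWL : W ≤ L := iSup_le fun g => g.2
    have hCW : CY ≤ Subgroup.normalizer (W : Set H) := by
      rw [CfsgLib.Solv.le_normalizer_iff_forall_conj_mem]
      intro c hc w hw
      suffices h : W ≤ W.comap (MulAut.conj c).toMonoidHom by simpa using h hw
      refine iSup_le fun g => ?_
      intro x hx
      refine le_iSup (fun g : {g : H // Q.map (MulAut.conj g).toMonoidHom ≤ L} =>
        Q.map (MulAut.conj (g : H)).toMonoidHom) g ?_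
      exact (Subgroup.mem_normalizer_iff.1 (hfix g.1 g.2 hc) x).1 hx
    refine ⟨hWeq, ?_, hCW⟩
    set N := Cfsg.pCoreOf p W with hN
    set E := W ⊓ CY with hE
    have hWE : W ≤ Subgroup.normalizer (E : Set H) :=
      CfsgLib.Solv.le_normalizer_inf_of_le Subgroup.le_normalizer (hWL.trans hLCY)
    let S : Subgroup H :=
      { carrier := {x | x ∈ W ∧ ∀ c ∈ CY, ⁅x, c⁆ ∈ N}
        mul_mem' := fun {a b} ha hb => ⟨mul_mem ha.1 hb.1, fun c hc => by
          rw [show ⁅a * b, c⁆ = a * ⁅b, c⁆ * a⁻¹ * ⁅a, c⁆ by simp only [commutatorElement_def]; group]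
          exact mul_mem ((Subgroup.mem_normalizer_iff.1 (le_normalizer_pCoreOf W ha.1) _).1 (hb.2 c hc)) (ha.2 c hc)⟩
        one_mem' := ⟨one_mem _, fun c _ => by simp⟩
        inv_mem' := fun {a} ha => ⟨inv_mem ha.1, fun c hc => by
          rw [show ⁅a⁻¹, c⁆ = a⁻¹ * ⁅a, c⁆⁻¹ * a⁻¹⁻¹ by simp only [commutatorElement_def]; group]
          exact (Subgroup.mem_normalizer_iff.1 (le_normalizer_pCoreOf W (inv_mem ha.1)) _).1 (inv_mem (ha.2 c hc))⟩ }
    have hS : W ≤ S := by
      refine iSup_le fun g => ?_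
      intro x hx
      have hxW : x ∈ W := le_iSup (fun g : {g : H // Q.map (MulAut.conj g).toMonoidHom ≤ L} =>
        Q.map (MulAut.conj (g : H)).toMonoidHom) g hx
      refine ⟨hxW, fun c hc => ?_⟩
      set Q' := Q.map (MulAut.conj (g : H)).toMonoidHom with hQ'
      have h1 : ⁅x, c⁆ ∈ Q' ⊓ E := Subgroup.mem_inf.2 ⟨comm_mem_left hx (hfix g.1 g.2 hc),
        Subgroup.mem_inf.2 ⟨comm_mem_left hxW (hCW hc), comm_mem_right hc (hLCY (hWL hxW))⟩⟩
      refine (le_pCoreOf (M := E) inf_le_right ((hQp.map _).to_le inf_le_left) ?_).trans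
        (pCoreOf_le inf_le_left hWE) h1
      exact CfsgLib.Solv.le_normalizer_inf_of_le (inf_le_right.trans (hfix g.1 g.2)) Subgroup.le_normalizer
    rw [Subgroup.commutator_le]
    exact fun x hx c hc => (hS hx).2 c hc)

end Cfsg.Agent.S2843
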