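import Cfsg.Statements.S2846
import Cfsg.Agent.Inv.FrakM
import Cfsg.Agent.S2843
import Cfsg.Agent.S2845

set_option autoImplicit false
open Cfsg

namespace Cfsg.Agent.S2846

/-- Let Q be a nontrivial large p-subgroup of the finite group H, S a Sylow p-subgroup containing Q, and L a subgroup containing S with O_p(L) ≠ 1 and C_H(O_p(L)) ≤ O_p(L). Then there are a subgroup M containing S having the basic property (M ∈ 𝔐_H, writing Y_X for the largest p-reduced normal subgroup of X and 𝓛_H for the set of subgroups X with O_p(X) ≠ 1 and C_H(O_p(X)) ≤ O_p(X): M ∈ 𝓛_H, M·C_H(Y_M) is the only maximal member of 𝓛_H containing M and its largest p-reduced normal subgroup is again Y_M, C_M(Y_M) is p-closed, and the image of C_M(Y_M) in M/O_p(M) lies in the Frattini subgroup of M/O_p(M)) and a subgroup L* with S ≤ L* ≤ M, O_p(L*) ≠ 1, C_H(O_p(L*)) ≤ O_p(L*), such that L·C_H(Y_L) = L*·C_H(Y_L), the weak closures of Q in L and in L* agree and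 lie in that of M, and Y_L = Y_{L*} ≤ Y_M. If moreover Q is not normal in L, then Q is normal in neither L* nor M. -/
theorem result {H : Type*} [Group H] [Finite H] {p : ℕ} [Fact p.Prime] (Q : Subgroup H) (hQp : IsPGroup p ↥Q) (hQ1 : Q ≠ ⊥) (hLg : Cfsg.IsLarge Q) (S : Sylow p H) (hQS : Q ≤ (S : Subgroup H)) (L : Subgroup H) (hSL : (S : Subgroup H) ≤ L) (hL : L ∈ Cfsg.charPSubgroups p H) : ∃ M Ls : Subgroup H, (S : Subgroup H) ≤ M ∧ Cfsg.IsInFrakM p M ∧ (S : Subgroup H) ≤ Ls ∧ Ls ≤ M ∧ Ls ∈ Cfsg.charPSubgroups p H ∧ L ⊔ Subgroup.centralizer (((Cfsg.largestPReducedOf p L) : Subgroup H) : Set H) = Ls ⊔ Subgroup.centralizer (((Cfsg.largestPReducedOf p L) : Subgroup H) : Set H) ∧ Cfsg.weakClosure Q L = Cfsg.weakClosure Q Ls ∧ Cfsg.weakClosure Q Ls ≤ Cfsg.weakClosure Q M ∧ (Cfsg.largestPReducedOf p L) = (Cfsg.largestPReducedOf p Ls) ∧ (Cfsg.largestPReducedOf p Ls) ≤ (Cfsg.largestPReducedOf p M) ∧ (¬ L ≤ Subgroup.normalizer ((Q : Subgroup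 H) : Set H) → ¬ Ls ≤ Subgroup.normalizer ((Q : Subgroup H) : Set H) ∧ ¬ M ≤ Subgroup.normalizer ((Q : Subgroup H) : Set H)) := by
  open CfsgLib.Inv in
  exact (by
    obtain ⟨-, -, hpar⟩ := Cfsg.Agent.S2845.result Q hQp hQ1 hLg
    obtain ⟨M, Ls, hTM, hMF, hTLs, hLsM, hLs, hYe, hYle, hcov⟩ := FM.exists_frakM hpar S L hSL hL
    set Y := Cfsg.largestPReducedOf p L with hY
    have hY1 : Y ≠ ⊥ := FM.largest_ne_bot S hSL hL
    have hYp : IsPGroup p Y := S.2.to_le (FM.largest_le_sylow S hSL)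
    have h1 := (Cfsg.Agent.S2843.result Q hQp hQ1 hLg L (hQS.trans hSL) Y hYp hY1 (largestPReducedOf_normal L)).1
    have hLsY : Ls ≤ Subgroup.normalizer (Y : Set H) := by rw [hYe]; exact largestPReducedOf_normal Ls
    have h2 := (Cfsg.Agent.S2843.result Q hQp hQ1 hLg Ls (hQS.trans hTLs) Y hYp hY1 hLsY).1
    have hW : Cfsg.weakClosure Q L = Cfsg.weakClosure Q Ls := by rw [h1, hcov, ← h2]
    have hmono : Cfsg.weakClosure Q Ls ≤ Cfsg.weakClosure Q M := iSup_le fun g =>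
      le_iSup_of_le (f := fun g : {g : H // Q.map (MulAut.conj g).toMonoidHom ≤ M} =>
        Q.map (MulAut.conj (g : H)).toMonoidHom) ⟨g.1, g.2.trans hLsM⟩ le_rfl
    refine ⟨M, Ls, hTM, hMF, hTLs, hLsM, hLs, hcov, hW, hmono, hYe, hYe ▸ hYle, fun hne => ?_⟩
    have hLsN : ¬ Ls ≤ Subgroup.normalizer (Q : Set H) := by
      intro h
      refine hne (fun l hl => CfsgLib.Solv.mem_normalizer_of_conj_smul_eq ?_)
      rw [CfsgLib.Solv.conj_smul_eq_map]
      have hle : Q.map (MulAut.conj l).toMonoidHom ≤ L := by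
        rintro _ ⟨q, hq, rfl⟩; exact mul_mem (mul_mem hl (hSL (hQS hq))) (inv_mem hl)
      have h3 : Cfsg.weakClosure Q Ls ≤ Q := iSup_le fun g => by
        obtain ⟨k, hk, hke⟩ := wc_conj_in hQp (large_wc hQp hQ1 hLg) (hQS.trans hTLs) g.2
        rw [hke, ← CfsgLib.Solv.conj_smul_eq_map, CfsgLib.Solv.conj_smul_eq_self_of_mem_normalizer (h hk)]
      refine Subgroup.eq_of_le_of_card_ge ?_
        (Subgroup.card_map_of_injective (f := (MulAut.conj l).toMonoidHom) (MulAut.conj l).injective).ge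
      exact le_trans (le_trans (le_iSup (fun g : {g : H // Q.map (MulAut.conj g).toMonoidHom ≤ L} =>
        Q.map (MulAut.conj (g : H)).toMonoidHom) ⟨l, hle⟩) hW.le) h3
    exact ⟨hLsN, fun h => hLsN (hLsM.trans h)⟩)

end Cfsg.Agent.S2846
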