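import Cfsg.Statements.S2848
import Cfsg.Agent.Inv.FrakM
import Cfsg.Agent.Inv.LargeSub
import Cfsg.Agent.Inv.PClosed

set_option autoImplicit false
open Cfsg
open scoped Pointwise

namespace Cfsg.Agent.S2848

/-- Standing hypotheses: G a finite group, S a Sylow p-subgroup, Q a nontrivial large p-subgroup of G contained in S (C_G(Q) ≤ Q and N_G(U) ≤ N_G(Q) for all nontrivial U ≤ C_G(Q)), and M a subgroup containing S with the basic property (M ∈ 𝔐_G(S)); Y_M denotes the largest p-reduced normal subgroup of M and M† = M·C_G(Y_M). Then O_p(M) is a weakly closed subgroup of M† (for p): it is the only M†-conjugate of itself inside some Sylow p-subgroup of M† containing it. -/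
theorem result {G : Type*} [Group G] [Finite G] {p : ℕ} [Fact p.Prime] (S : Sylow p G) (Q : Subgroup G) (hQp : IsPGroup p ↥Q) (hQ1 : Q ≠ ⊥) (hQS : Q ≤ (S : Subgroup G)) (hQ : Cfsg.IsLarge Q) (M : Subgroup G) (hSM : (S : Subgroup G) ≤ M) (hM : Cfsg.IsInFrakM p M) : Cfsg.IsWeaklyClosedSubgroup p (((Cfsg.pCoreOf p M)).subgroupOf (M ⊔ Subgroup.centralizer (((Cfsg.largestPReducedOf p M) : Subgroup G) : Set G))) := by
  set Y := Cfsg.largestPReducedOf p M with hY
  set C := Subgroup.centralizer (Y : Set G) with hC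
  set O := Cfsg.pCoreOf p M with hO
  have hOS : O ≤ (S : Subgroup G) := CfsgLib.Inv.FM.pCoreOf_le_sylow S hSM
  have hMC : M ≤ Subgroup.normalizer (C : Set G) :=
    CfsgLib.Inv.FM.centralizer_normal_in (CfsgLib.Inv.FM.red_largest M).2.1
  have hSC : (S : Subgroup G) ⊓ C ≤ O := by
    have hN : ((M ⊓ C).subgroupOf M).Normal := (Subgroup.normal_subgroupOf_iff_le_normalizer inf_le_left).2 (by
      rw [CfsgLib.Solv.le_normalizer_iff_forall_conj_mem]
      exact fun m hm x hx => Subgroup.mem_inf.2 ⟨mul_mem (mul_mem hm (Subgroup.mem_inf.1 hx).1) (inv_mem hm),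
        (Subgroup.mem_normalizer_iff.1 (hMC hm) x).1 (Subgroup.mem_inf.1 hx).2⟩)
    let e := Subgroup.subgroupOfEquivOfLe (inf_le_left : M ⊓ C ≤ M)
    have hcl : Cfsg.IsPClosed p ↥((M ⊓ C).subgroupOf M) := fun P => by
      have hcl0 : Cfsg.IsPClosed p ↥(M ⊓ C) := hM.2.2.2.2.1
      have h1 := (hcl0 (P.mapSurjective (f := e.toMonoidHom) e.surjective)).comap e.toMonoidHom
      rwa [show ((P.mapSurjective (f := e.toMonoidHom) e.surjective : Sylow p ↥(M ⊓ C)) : Subgroup ↥(M ⊓ C)) =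
          (P : Subgroup _).map e.toMonoidHom from Sylow.coe_mapSurjective _ P,
        Subgroup.comap_map_eq_self_of_injective e.injective] at h1
    intro x hx
    have hxM : x ∈ M := hSM (Subgroup.mem_inf.1 hx).1
    set X := ((S : Subgroup G) ⊓ C).subgroupOf M with hX
    have hXp : IsPGroup p X := (S.isPGroup'.to_le inf_le_left).comap_of_injective _ M.subtype_injective
    obtain ⟨R, hR⟩ := (hXp.comap_of_injective ((M ⊓ C).subgroupOf M).subtype (Subgroup.subtype_injective _)).exists_le_sylow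
    have hxN : (⟨x, hxM⟩ : M) ∈ (M ⊓ C).subgroupOf M :=
      Subgroup.mem_subgroupOf.2 (Subgroup.mem_inf.2 ⟨hxM, (Subgroup.mem_inf.1 hx).2⟩)
    exact ⟨⟨x, hxM⟩, (CfsgLib.Inv.pClosed_iff_le _).1 hcl R
      ⟨⟨_, hxN⟩, hR (show (⟨x, hxM⟩ : M) ∈ X from hx), rfl⟩, rfl⟩
  set D := M ⊔ C with hD
  refine ⟨S.subtype (hSM.trans le_sup_left), fun y hy => Subgroup.mem_subgroupOf.2 ?_, fun g hg => ?_⟩
  · exact hOS (Subgroup.mem_subgroupOf.1 hy)
  · have key : ∀ o ∈ O, (g : G) * o * (g : G)⁻¹ ∈ O := by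
      intro o ho
      have hoD : o ∈ D := Subgroup.mem_sup_left (hSM (hOS ho))
      have h1 : (g : G) * o * (g : G)⁻¹ ∈ (S : Subgroup G) :=
        hg ⟨⟨o, hoD⟩, Subgroup.mem_subgroupOf.2 ho, rfl⟩
      obtain ⟨c, hc, m, hm, e⟩ : (g : G) ∈ (C : Set G) * (M : Set G) := by
        rw [← Subgroup.coe_mul_of_right_le_normalizer_left C M hMC, sup_comm]; exact g.2
      set o' := m * o * m⁻¹ with ho'
      have ho'O : o' ∈ O := (Subgroup.mem_normalizer_iff.1 (CfsgLib.Inv.le_normalizer_pCoreOf M hm) o).1 ho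
      have ho'C : o' ∈ Subgroup.normalizer (C : Set G) := hMC (hSM (hOS ho'O))
      have h2 : (g : G) * o * (g : G)⁻¹ = c * (o' * c⁻¹ * o'⁻¹) * o' := by
        rw [← e, ho']; group
      have hcC : c * (o' * c⁻¹ * o'⁻¹) ∈ C :=
        mul_mem hc ((Subgroup.mem_normalizer_iff.1 ho'C c⁻¹).1 (inv_mem hc))
      rw [h2] at h1 ⊢
      exact mul_mem (hSC (Subgroup.mem_inf.2 ⟨by simpa [mul_assoc] using mul_mem h1 (inv_mem (hOS ho'O)), hcC⟩)) ho'O
    refine Subgroup.eq_of_le_of_card_ge ?_ (le_of_eq (Subgroup.card_map_of_injective (MulAut.conj g).injective).symm)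
    rintro _ ⟨y, hy, rfl⟩
    exact Subgroup.mem_subgroupOf.2 (key y (Subgroup.mem_subgroupOf.1 hy))

end Cfsg.Agent.S2848
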