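import Cfsg.Statements.S2849
import Cfsg.Agent.Inv.FrakM

set_option autoImplicit false
open Cfsg

namespace Cfsg.Agent.S2849

/-- Standing hypotheses: G a finite group, S a Sylow p-subgroup, Q a nontrivial large p-subgroup of G contained in S (C_G(Q) ≤ Q and N_G(U) ≤ N_G(Q) for all nontrivial U ≤ C_G(Q)), and M a subgroup containing S with the basic property (M ∈ 𝔐_G(S)); Y_M denotes the largest p-reduced normal subgroup of M and M† = M·C_G(Y_M). Suppose Y_M is asymmetric in G. Then for every subgroup R with Y_M ≤ R ≤ M†, the normal closure of Y_M in N_G(R) is elementary abelian. -/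
theorem result {G : Type*} [Group G] [Finite G] {p : ℕ} [Fact p.Prime] (S : Sylow p G) (Q : Subgroup G) (hQp : IsPGroup p ↥Q) (hQ1 : Q ≠ ⊥) (hQS : Q ≤ (S : Subgroup G)) (hQ : Cfsg.IsLarge Q) (M : Subgroup G) (hSM : (S : Subgroup G) ≤ M) (hM : Cfsg.IsInFrakM p M) (hasym : ¬ Cfsg.IsSymmetricIn (Cfsg.largestPReducedOf p M)) (R : Subgroup G) (hYR : (Cfsg.largestPReducedOf p M) ≤ R) (hRM : R ≤ (M ⊔ Subgroup.centralizer (((Cfsg.largestPReducedOf p M) : Subgroup G) : Set G))) : Cfsg.IsElementaryAbelian p ((Subgroup.normalClosure ((((Cfsg.largestPReducedOf p M)).subgroupOf (Subgroup.normalizer ((R : Subgroup G) : Set G)) : Subgroup ↥(Subgroup.normalizer ((R : Subgroup G) : Set G))) : Set ↥(Subgroup.normalizer ((R : Subgroup G) : Set G)))).map (Subgroup.normalizer ((R : Subgroup G) : Set G)).subtype) := by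
  set Y := Cfsg.largestPReducedOf p M with hY
  set N := Subgroup.normalizer (R : Set G) with hN
  obtain ⟨⟨hYc, hYexp⟩, hMY, -⟩ := CfsgLib.Inv.FM.red_largest (p := p) M
  have hYN : Y ≤ N := hYR.trans Subgroup.le_normalizer
  have hDY : M ⊔ Subgroup.centralizer (Y : Set G) ≤ Subgroup.normalizer (Y : Set G) :=
    sup_le hMY (Subgroup.centralizer_le_normalizer _)
  have hconj : ∀ g ∈ N, ∀ a ∈ Y, ∀ b ∈ Y, Commute (g * a * g⁻¹) b := by
    intro g hg a ha b hb
    set Y' := Y.map (MulAut.conj g).toMonoidHom with hY'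
    have hY'R : Y' ≤ R := by
      rintro _ ⟨x, hx, rfl⟩
      exact (Subgroup.mem_normalizer_iff.1 hg x).1 (hYR hx)
    have h1 : Y' ≤ Subgroup.normalizer (Y : Set G) := hY'R.trans (hRM.trans hDY)
    have h2 : Y ≤ Subgroup.normalizer (Y' : Set G) := by
      rw [CfsgLib.Solv.le_normalizer_iff_forall_conj_mem]
      rintro y hy _ ⟨x, hx, rfl⟩
      have hy' : g⁻¹ * y * g ∈ R := by
        simpa using (Subgroup.mem_normalizer_iff.1 (inv_mem hg) y).1 (hYR hy)
      refine ⟨_, (Subgroup.mem_normalizer_iff.1 (hDY (hRM hy')) x).1 hx, ?_⟩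
      simp [mul_assoc]
    by_contra hne
    refine hasym ⟨g, fun e => hne ?_, le_inf (CfsgLib.Solv.commutator_le_of_le_normalizer h1) ?_⟩
    · have ha' : g * a * g⁻¹ ∈ Y' := ⟨a, ha, by simp⟩
      exact (Subgroup.mem_centralizer_iff.1 ((Subgroup.commutator_eq_bot_iff_le_centralizer.1 e) hb) _ ha')
    · rw [Subgroup.commutator_comm]
      exact CfsgLib.Solv.commutator_le_of_le_normalizer h2
  set W := (Subgroup.normalClosure ((Y.subgroupOf N : Subgroup ↥N) : Set ↥N)) with hW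
  have hgen : ∀ x ∈ Group.conjugatesOfSet ((Y.subgroupOf N : Subgroup ↥N) : Set ↥N),
      (x ^ p = 1) ∧ ∀ y ∈ Group.conjugatesOfSet ((Y.subgroupOf N : Subgroup ↥N) : Set ↥N), x * y = y * x := by
    intro x hx
    obtain ⟨a, ha, hax⟩ := Group.mem_conjugatesOfSet_iff.1 hx
    obtain ⟨g, rfl⟩ := isConj_iff.1 hax
    refine ⟨?_, fun y hy => ?_⟩
    · rw [conj_pow, show a ^ p = 1 from Subtype.ext (hYexp _ (Subgroup.mem_subgroupOf.1 ha))]; group
    · obtain ⟨b, hb, hby⟩ := Group.mem_conjugatesOfSet_iff.1 hy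
      obtain ⟨h, rfl⟩ := isConj_iff.1 hby
      have h3 := hconj ((h : G)⁻¹ * g) (mul_mem (inv_mem h.2) g.2) a (Subgroup.mem_subgroupOf.1 ha) b
        (Subgroup.mem_subgroupOf.1 hb)
      have h4 := (h3.map (MulAut.conj (h : G)).toMonoidHom).eq
      simp [mul_assoc] at h4
      exact Subtype.ext (by simpa [mul_assoc] using h4)
  haveI hWc : IsMulCommutative W := Subgroup.isMulCommutative_closure fun x hx y hy => (hgen x hx).2 y hy
  have hexp : ∀ x ∈ W, x ^ p = 1 := by
    intro x hx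
    induction hx using Subgroup.closure_induction with
    | mem y hy => exact (hgen y hy).1
    | one => simp
    | mul a b ha hb iha ihb =>
      have hab : Commute a b := congrArg Subtype.val (hWc.is_comm.comm (⟨a, ha⟩ : W) ⟨b, hb⟩)
      rw [hab.mul_pow, iha, ihb, mul_one]
    | inv a _ iha => rw [inv_pow, iha, inv_one]
  refine ⟨⟨⟨?_⟩⟩, ?_⟩
  · rintro ⟨_, a, ha, rfl⟩ ⟨_, b, hb, rfl⟩
    exact Subtype.ext (congrArg N.subtype (congrArg Subtype.val (hWc.is_comm.comm (⟨a, ha⟩ : W) ⟨b, hb⟩) : a * b = b * a))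
  · rintro _ ⟨a, ha, rfl⟩
    rw [← map_pow, hexp a ha, map_one]

end Cfsg.Agent.S2849
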