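import Cfsg.Statements.S2850
import Cfsg.Agent.Inv.AsymWeak

set_option autoImplicit false
set_option linter.style.haveILetI false
open Cfsg
open CfsgLib.Inv
open scoped Pointwise

namespace Cfsg.Agent.S2850

/-- Asymmetric Y_M: O_p(M) controls. -/
theorem result {G : Type*} [Group G] [Finite G] {p : ℕ} [Fact p.Prime] (S : Sylow p G) (Q : Subgroup G) (hQp : IsPGroup p ↥Q) (hQ1 : Q ≠ ⊥) (hQS : Q ≤ (S : Subgroup G)) (hQ : Cfsg.IsLarge Q) (M : Subgroup G) (hSM : (S : Subgroup G) ≤ M) (hM : Cfsg.IsInFrakM p M) (hasym : ¬ Cfsg.IsSymmetricIn (Cfsg.largestPReducedOf p M)) : (∀ L : Subgroup G, IsPGroup p ↥L → (Cfsg.pCoreOf p M) ≤ L → Subgroup.normalizer ((L : Subgroup G) : Set G) ≤ Subgroup.normalizer (((Cfsg.pCoreOf p M) : Subgroup G) : Set G) ∧ Subgroup.normalizer (((Cfsg.pCoreOf p M) : Subgroup G) : Set G) ≤ (M ⊔ Subgroup.centralizer (((Cfsg.largestPReducedOf p M) : Subgroup G) : Set G))) ∧ Cfsg.IsWeaklyClosedSubgroup p (Cfsg.pCoreOf p M)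 ∧ (∀ L : Subgroup G, (Cfsg.pCoreOf p M) ≤ L → Cfsg.IsParabolic p ((L ⊓ (M ⊔ Subgroup.centralizer (((Cfsg.largestPReducedOf p M) : Subgroup G) : Set G))).subgroupOf L)) ∧ (∀ x ∈ (Cfsg.largestPReducedOf p M), ∀ g : G, g * x * g⁻¹ ∈ (Cfsg.largestPReducedOf p M) → ∃ m ∈ M, m * x * m⁻¹ = g * x * g⁻¹) := by
  have h := AsymWeak.std_of_large hQp hQ1 hQ hSM hM
  set O := Cfsg.pCoreOf p M with hO
  set Y := Cfsg.largestPReducedOf p M with hY
  have hND : Subgroup.normalizer (O : Set G) ≤ M ⊔ Subgroup.centralizer (Y : Set G) :=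
    h.normalizer_o_le.trans h.dagger_eq.le
  have hwc := h.weakly_closed hasym
  refine ⟨fun L hL hOL => ⟨h.normalizer_le hasym hL hOL (h.pgroup_le hasym hL hOL), hND⟩, hwc, ?_, ?_⟩
  · intro L hOL
    obtain ⟨T, hT⟩ := ((pCoreOf_pgroup (p := p) M).comap_subtype (K := L)).exists_le_sylow
    refine ⟨T, fun x hx => Subgroup.mem_subgroupOf.2 (Subgroup.mem_inf.2 ⟨x.2, hND ?_⟩)⟩
    refine h.pgroup_le hasym (T.2.map L.subtype) (fun o ho => ?_) (Subgroup.mem_map_of_mem L.subtype hx)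
    exact ⟨⟨o, hOL ho⟩, hT (show (⟨o, hOL ho⟩ : L) ∈ O.comap L.subtype from ho), rfl⟩
  · intro x hx g hgx
    set y := g * x * g⁻¹ with hy
    set Cy := Subgroup.centralizer ({y} : Set G) with hCy
    have hOC : O ≤ Cy := fun o ho => Subgroup.mem_centralizer_singleton_iff.2
      (Subgroup.mem_centralizer_iff.1 (h.o_le_cent ho) y hgx).symm
    have hgOC : O.map (MulAut.conj g).toMonoidHom ≤ Cy := by
      rintro _ ⟨o, ho, rfl⟩
      refine Subgroup.mem_centralizer_singleton_iff.2 ?_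
      have := Subgroup.mem_centralizer_iff.1 (h.o_le_cent ho) x hx
      simp only [MulEquiv.coe_toMonoidHom, MulAut.conj_apply, hy]
      calc g * o * g⁻¹ * (g * x * g⁻¹) = g * (o * x) * g⁻¹ := by group
        _ = g * (x * o) * g⁻¹ := by rw [← this]
        _ = _ := by group
    obtain ⟨k, hk, hkO⟩ := wc_conj_in (pCoreOf_pgroup M) hwc hOC hgOC
    have hkgN : k⁻¹ * g ∈ Subgroup.normalizer (O : Set G) := by
      refine Subgroup.mem_normalizer_iff_map_conj_eq.2 (Subgroup.map_injective (f := (MulAut.conj k).toMonoidHom) (MulAut.conj k).injective ?_)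
      rw [← hkO, Subgroup.map_map]
      congr 1
      ext q
      simp [mul_assoc]
    have hMC : M ≤ Subgroup.normalizer (Subgroup.centralizer (Y : Set G) : Set G) :=
      FM.centralizer_normal_in (FM.red_largest M).2.1
    obtain ⟨c, hc, m, hm, e⟩ : k⁻¹ * g ∈ (Subgroup.centralizer (Y : Set G) : Set G) * (M : Set G) := by
      rw [← Subgroup.coe_mul_of_right_le_normalizer_left _ M hMC, sup_comm]
      exact hND hkgN
    have hky : k⁻¹ * y * k = y := by
      rw [mul_assoc, ← Subgroup.mem_centralizer_singleton_iff.1 hk, inv_mul_cancel_left]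
    have hcy : c⁻¹ * y * c = y := by
      have := Subgroup.mem_centralizer_iff.1 hc y hgx
      rw [mul_assoc, this, inv_mul_cancel_left]
    refine ⟨m, hm, ?_⟩
    have hm' : m = c⁻¹ * (k⁻¹ * g) := by rw [← e]; simp
    calc m * x * m⁻¹ = c⁻¹ * (k⁻¹ * y * k) * c := by rw [hm', hy]; group
      _ = y := by rw [hky, hcy]

end Cfsg.Agent.S2850
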