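import Cfsg.Statements.S2851
import Cfsg.Agent.Inv.AsymWeak
import Cfsg.Agent.Inv.FrakH
import Cfsg.Agent.Inv.Component

set_option autoImplicit false
set_option linter.style.haveILetI false
open Cfsg
open CfsgLib.Inv
open scoped Pointwise commutatorElement

namespace Cfsg.Agent.S2851

theorem eq_bot_of_normalized {X : Type*} [Group X] [Finite X] {p : ℕ} [Fact p.Prime]
    (hX : Cfsg.pCore p X = ⊥) {P : Subgroup X} (hP : IsPGroup p P)
    (hn : Cfsg.generalizedFittingSubgroup X ≤ Subgroup.normalizer (P : Set X)) : P = ⊥ := by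
  set F := Cfsg.generalizedFittingSubgroup X with hF
  haveI : F.Normal := genFitting_normal
  have hFn : ∀ D : Subgroup X, IsPGroup p D → D ≤ F → F ≤ Subgroup.normalizer (D : Set X) → D = ⊥ := by
    intro D hD hDF hnD
    refine le_bot_iff.1 ((FH.le_core (H := ⊤) le_top (by rw [Subgroup.normalizer_eq_top (H := F)]) hD hDF hnD).trans ?_)
    intro x hx
    obtain ⟨y, hy, rfl⟩ := hx
    have h1 := CfsgLib.Solv.map_pCore_equiv (p := p) (Subgroup.topEquiv (G := X))
    have h2 : (y : X) ∈ (Cfsg.pCore p ↥(⊤ : Subgroup X)).map (Subgroup.topEquiv (G := X)).toMonoidHom := ⟨y, hy, rfl⟩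
    rw [h1, hX] at h2
    exact h2
  have hPF : P ≤ Subgroup.centralizer (F : Set X) := by
    rw [← Subgroup.commutator_eq_bot_iff_le_centralizer]
    have hFP : P ≤ Subgroup.normalizer (F : Set X) := by rw [Subgroup.normalizer_eq_top]; exact le_top
    have h1 : ⁅P, F⁆ ≤ P := CfsgLib.Solv.commutator_le_of_le_normalizer hn
    refine hFn _ (hP.to_le h1) ?_ ?_
    · rw [Subgroup.commutator_comm]
      exact CfsgLib.Solv.commutator_le_of_le_normalizer hFP
    · rw [CfsgLib.Solv.le_normalizer_iff_forall_conj_mem]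
      intro l hl x hx
      have hle' : ⁅P, F⁆ ≤ (⁅P, F⁆).comap (MulAut.conj l).toMonoidHom := Subgroup.commutator_le.2 fun u hu w hw => by
        rw [Subgroup.mem_comap, map_commutatorElement]
        exact Subgroup.commutator_mem_commutator ((Subgroup.mem_normalizer_iff.1 (hn hl) u).1 hu)
          (mul_mem (mul_mem hl hw) (inv_mem hl))
      exact hle' hx
  exact hFn P hP (hPF.trans centralizer_genFitting_le) hn

/-- Y_M below Y_H. -/
theorem result {G : Type*} [Group G] [Finite G] {p : ℕ} [Fact p.Prime] (S : Sylow p G) (Q : Subgroup G) (hQp : IsPGroup p ↥Q) (hQ1 : Q ≠ ⊥) (hQS : Q ≤ (S : Subgroup G)) (hQ : Cfsg.IsLarge Q) (M : Subgroup G) (hSM : (S : Subgroup G) ≤ M) (hM : Cfsg.IsInFrakM p M) (hasym : ¬ Cfsg.IsSymmetricIn (Cfsg.largestPReducedOf p M)) [hn : ((Subgroup.centralizer (((Cfsg.largestPReducedOf p M) : Subgroup G) : Set G)).subgroupOf (M ⊔ Subgroup.centralizer (((Cfsg.largestPReducedOf p M) : Subgroup G) : Set G))).Normal] (F : Subgroup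 G) (hF : F = ((Cfsg.generalizedFittingSubgroup (↥(M ⊔ Subgroup.centralizer (((Cfsg.largestPReducedOf p M) : Subgroup G) : Set G)) ⧸ (Subgroup.centralizer (((Cfsg.largestPReducedOf p M) : Subgroup G) : Set G)).subgroupOf (M ⊔ Subgroup.centralizer (((Cfsg.largestPReducedOf p M) : Subgroup G) : Set G)))).comap (QuotientGroup.mk' ((Subgroup.centralizer (((Cfsg.largestPReducedOf p M) : Subgroup G) : Set G)).subgroupOf (M ⊔ Subgroup.centralizer (((Cfsg.largestPReducedOf p M) : Subgroup G) : Set G))))).map ((M ⊔ Subgroup.centralizer (((Cfsg.largestPReducedOf p M) : Subgroup G) : Set G))).subtype) (H : Subgroup G) (hFH : F ≤ H) (hH : Subgroup.centralizer (Cfsg.pCore p ↥H : Set ↥H) ≤ Cfsg.pCore p ↥H) : (Cfsg.largestPReducedOf p M) ≤ Cfsg.largestPReducedOf p H := by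
  have h := AsymWeak.std_of_large hQp hQ1 hQ hSM hM
  set Y := Cfsg.largestPReducedOf p M with hY
  set O := Cfsg.pCoreOf p M with hO
  set C := Subgroup.centralizer (Y : Set G) with hC
  set D := M ⊔ C with hD
  set q := QuotientGroup.mk' (C.subgroupOf D) with hq
  have hqs : Function.Surjective q := QuotientGroup.mk'_surjective _
  have hqk : ∀ x : D, q x = 1 ↔ (x : G) ∈ C := fun x => QuotientGroup.eq_one_iff x
  have hMC : M ≤ Subgroup.normalizer (C : Set G) := FM.centralizer_normal_in (FM.red_largest M).2.1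
  have hred : Cfsg.pCore p (↥D ⧸ C.subgroupOf D) = ⊥ := by
    haveI := CfsgLib.Solv.pCore_normal (↥D ⧸ C.subgroupOf D) p
    set N := ((Cfsg.pCore p (↥D ⧸ C.subgroupOf D)).comap q).map D.subtype with hN
    have hDN : D ≤ Subgroup.normalizer (N : Set G) := by
      refine le_trans ?_ (Subgroup.le_normalizer_map D.subtype)
      rw [Subgroup.normalizer_eq_top, ← MonoidHom.range_eq_map, Subgroup.range_subtype]
    have hNC : N ⊓ M ≤ C := by
      refine (FM.red_largest (p := p) M).2.2 (N ⊓ M) inf_le_right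
        (CfsgLib.Solv.le_normalizer_inf_of_le (le_sup_left.trans hDN) Subgroup.le_normalizer) fun x hx hxo => ?_
      obtain ⟨z, hz, rfl⟩ := (Subgroup.mem_inf.1 hx).1
      exact (hqk z).1 (eq_one_of_coprime_mem (CfsgLib.Solv.pCore_isPGroup _ p) hz
        (Nat.Coprime.coprime_dvd_left (orderOf_map_dvd q z) (by rwa [Subgroup.coe_subtype, Subgroup.orderOf_coe] at hxo)))
    refine le_bot_iff.1 fun w hw => ?_
    obtain ⟨z, rfl⟩ := hqs w
    refine Subgroup.mem_bot.2 ((hqk z).2 ?_)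
    obtain ⟨c, hc, m, hm, e⟩ : (z : G) ∈ (C : Set G) * (M : Set G) := by
      rw [← Subgroup.coe_mul_of_right_le_normalizer_left C M hMC, sup_comm]; exact z.2
    have hcD : c ∈ D := Subgroup.mem_sup_right hc
    have hcN : c ∈ N := ⟨⟨c, hcD⟩, show q ⟨c, hcD⟩ ∈ Cfsg.pCore p (↥D ⧸ C.subgroupOf D) by rw [(hqk _).2 hc]; exact one_mem _, rfl⟩
    have hmN : m ∈ N := by
      rw [show m = c⁻¹ * (z : G) from eq_inv_mul_of_mul_eq e]
      exact mul_mem (inv_mem hcN) ⟨z, hw, rfl⟩
    rw [← e]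
    exact mul_mem hc (hNC (Subgroup.mem_inf.2 ⟨hmN, hm⟩))
  have hFD : F ≤ D := hF ▸ Subgroup.map_subtype_le _
  have hCF : C ≤ F := fun c hc => by
    rw [hF]
    refine ⟨⟨c, Subgroup.mem_sup_right hc⟩, ?_, rfl⟩
    show q ⟨c, _⟩ ∈ Cfsg.generalizedFittingSubgroup (↥D ⧸ C.subgroupOf D)
    rw [(hqk _).2 hc]; exact one_mem _
  have hkey : ∀ E : Subgroup G, E ≤ D → F ≤ Subgroup.normalizer (E : Set G) →
      IsPGroup p ((E.subgroupOf D).map q) → E ≤ C := by
    intro E hED hFE hp'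
    have hb := eq_bot_of_normalized hred hp' (fun w hw => by
      obtain ⟨z, rfl⟩ := hqs w
      have hzF : (z : G) ∈ F := by rw [hF]; exact ⟨z, hw, rfl⟩
      refine Subgroup.le_normalizer_map q (Subgroup.mem_map_of_mem q ?_)
      refine Subgroup.mem_normalizer_fintype fun x hx => ?_
      exact (Subgroup.mem_normalizer_iff.1 (hFE hzF) x).1 hx)
    intro e he
    have h1 : q ⟨e, hED he⟩ ∈ (E.subgroupOf D).map q := Subgroup.mem_map_of_mem q he
    rw [hb, Subgroup.mem_bot] at h1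
    exact (hqk _).1 h1
  have hOC : O ≤ C := h.o_le_cent
  have hOH : O ≤ H := (hOC.trans hCF).trans hFH
  have hYH : Y ≤ H := h.y_le_o.trans hOH
  set B := Cfsg.pCoreOf p H with hB
  have hBH : B ≤ H := pCoreOf_le_self H
  have hHB : H ≤ Subgroup.normalizer (B : Set G) := le_normalizer_pCoreOf H
  have hBO' : IsPGroup p ↥(B ⊔ O) :=
    (pCoreOf_pgroup H).to_sup_of_normal_left' (pCoreOf_pgroup M) (hOH.trans hHB)
  have hND : Subgroup.normalizer (O : Set G) ≤ D := h.normalizer_o_le.trans h.dagger_eq.le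
  have hBC : B ≤ C := hkey B (le_sup_left.trans ((h.pgroup_le hasym hBO' le_sup_right).trans hND)) (hFH.trans hHB)
    (((pCoreOf_pgroup H).comap_subtype).map q)
  have hBO : B ≤ O := le_sup_left.trans (h.cent_max hBO' le_sup_right (sup_le hBC hOC))
  have hYB : ∀ b ∈ B, ∀ y ∈ Y, y * b = b * y := fun b hb y hy =>
    Subgroup.mem_centralizer_iff.1 (hOC (hBO hb)) y hy
  have hYleB : Y ≤ B := by
    intro y hy
    refine ⟨⟨y, hYH hy⟩, hH (Subgroup.mem_centralizer_iff.2 fun b hb => Subtype.ext ?_), rfl⟩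
    exact (hYB _ (Subgroup.mem_map_of_mem H.subtype hb) y hy).symm
  set V := FH.wcl Y H with hV
  have hHV : H ≤ Subgroup.normalizer (V : Set G) := FH.wcl_normal Y H
  have hYV : Y ≤ V := FH.le_wcl Y H
  have hexp : ∀ y ∈ Y, y ^ p = 1 := (largestPReducedOf_facts M).2.2
  have hgen : ∀ x ∈ {x : G | ∃ l ∈ H, ∃ y ∈ Y, x = l * y * l⁻¹}, x ∈ B ∧ x ^ p = 1 ∧ ∀ b ∈ B, x * b = b * x := by
    rintro _ ⟨l, hl, y, hy, rfl⟩
    refine ⟨(Subgroup.mem_normalizer_iff.1 (hHB hl) y).1 (hYleB hy), by rw [conj_pow, hexp y hy]; group, fun b hb => ?_⟩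
    have hb' : l⁻¹ * b * l ∈ B := by simpa using (Subgroup.mem_normalizer_iff.1 (hHB (inv_mem hl)) b).1 hb
    calc l * y * l⁻¹ * b = l * (y * (l⁻¹ * b * l)) * l⁻¹ := by group
      _ = l * ((l⁻¹ * b * l) * y) * l⁻¹ := by rw [hYB _ hb' y hy]
      _ = b * (l * y * l⁻¹) := by group
  have hVB : V ≤ B := (Subgroup.closure_le _).2 fun x hx => (hgen x hx).1
  haveI hVc : IsMulCommutative V :=
    Subgroup.isMulCommutative_closure fun x hx y hy => (hgen x hx).2.2 y (hgen y hy).1
  have hVexp : ∀ x ∈ V, x ^ p = 1 := by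
    intro x hx
    induction hx using Subgroup.closure_induction with
    | mem y hy => exact (hgen y hy).2.1
    | one => simp
    | mul a b ha hb iha ihb =>
      have hab : Commute a b := congrArg Subtype.val (hVc.is_comm.comm (⟨a, ha⟩ : V) ⟨b, hb⟩)
      rw [hab.mul_pow, iha, ihb, mul_one]
    | inv a _ iha => rw [inv_pow, iha, inv_one]
  refine hYV.trans (FM.red_le (hVB.trans hBH) ⟨⟨hVc, hVexp⟩, hHV, fun N hNH hnN hel => ?_⟩)
  obtain ⟨T, hT⟩ := ((pCoreOf_pgroup (p := p) M).comap_subtype (K := H)).exists_le_sylow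
  set T' := (T : Subgroup H).map H.subtype with hT'
  have hT'D : T' ≤ D := (h.pgroup_le hasym (T.2.map _) fun o ho =>
    Subgroup.mem_map.2 ⟨⟨o, hOH ho⟩, hT (Subgroup.mem_comap.2 ho), rfl⟩).trans hND
  have hVY : Subgroup.centralizer (V : Set G) ≤ C := Subgroup.centralizer_le (SetLike.coe_subset_coe.2 hYV)
  haveI : (N.subgroupOf H).Normal := (Subgroup.normal_subgroupOf_iff_le_normalizer hNH).2 hnN
  obtain ⟨P, hP'⟩ := sylow_inf_normal T (N.subgroupOf H)
  have hP : (P : Subgroup (N.subgroupOf H)).map (N.subgroupOf H).subtype ≤ (T : Subgroup H) := hP'.le.trans inf_le_left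
  have hgenN : (N.subgroupOf H) ≤ (T' ⊔ C).subgroupOf H := by
    intro x hx
    have htop : ((T' ⊔ C).subgroupOf H).subgroupOf (N.subgroupOf H) = ⊤ := by
      refine eq_top_of_sylow_coprime P (fun w hw => Subgroup.mem_sup_left
        (Subgroup.mem_map_of_mem H.subtype (hP (Subgroup.mem_map_of_mem _ hw)))) fun w hw => ?_
      exact Subgroup.mem_sup_right (hVY (hel _ w.2 (by simpa [Subgroup.orderOf_coe] using hw)))
    exact (Subgroup.subgroupOf_eq_top.1 htop) hx
  have hND' : N ≤ T' ⊔ C := fun x hx => hgenN (show (⟨x, hNH hx⟩ : H) ∈ N.subgroupOf H from hx)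
  have hNC : N ≤ C := by
    refine hkey N (hND'.trans (sup_le hT'D le_sup_right)) (hFH.trans hnN) ?_
    refine ((T.2.map H.subtype).comap_subtype.map q).to_le ?_
    refine (Subgroup.map_mono (Subgroup.comap_mono hND')).trans ?_
    change ((T' ⊔ C).subgroupOf D).map q ≤ (T'.subgroupOf D).map q
    rw [Subgroup.subgroupOf_sup hT'D le_sup_right, Subgroup.map_sup, hq, QuotientGroup.map_mk'_self, sup_bot_eq]
  intro n hn'
  refine Subgroup.mem_centralizer_iff.2 fun v hv => ?_
  induction hv using Subgroup.closure_induction with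
  | mem x hx =>
    obtain ⟨l, hl, y, hy, rfl⟩ := hx
    have hn'' : l⁻¹ * n * l ∈ N := by simpa using (Subgroup.mem_normalizer_iff.1 (hnN (inv_mem hl)) n).1 hn'
    calc l * y * l⁻¹ * n = l * (y * (l⁻¹ * n * l)) * l⁻¹ := by group
      _ = l * ((l⁻¹ * n * l) * y) * l⁻¹ := by rw [Subgroup.mem_centralizer_iff.1 (hNC hn'') y hy]
      _ = n * (l * y * l⁻¹) := by group
  | one => simp
  | mul a b _ _ iha ihb => rw [mul_assoc, ihb, ← mul_assoc, iha, mul_assoc]
  | inv a _ iha => exact ((show Commute a n from iha).inv_left).eq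

end Cfsg.Agent.S2851
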