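import Cfsg.Statements.S2852
import Cfsg.Agent.Inv.AsymWeak
import Cfsg.Agent.Inv.FrakH
import Cfsg.Agent.Inv.CosetGraph

set_option autoImplicit false
set_option linter.style.haveILetI false
open Cfsg
open CfsgLib.Inv
open scoped commutatorElement

namespace Cfsg.Agent.S2852

theorem core_map {G : Type*} [Group G] [Finite G] {p : ℕ} [Fact p.Prime] (c : G) (L : Subgroup G) :
    (Cfsg.pCoreOf p L).map (MulAut.conj c).toMonoidHom ≤ Cfsg.pCoreOf p (L.map (MulAut.conj c).toMonoidHom) :=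
  le_pCoreOf (Subgroup.map_mono (pCoreOf_le_self L)) ((pCoreOf_pgroup L).map _)
    (le_trans (Subgroup.map_mono (le_normalizer_pCoreOf L)) (Subgroup.le_normalizer_map _))

/-- Existence in frak H. -/
theorem result {G : Type*} [Group G] [Finite G] {p : ℕ} [Fact p.Prime] (S : Sylow p G) (Q : Subgroup G) (hQp : IsPGroup p ↥Q) (hQ1 : Q ≠ ⊥) (hQS : Q ≤ (S : Subgroup G)) (hQ : Cfsg.IsLarge Q) (M : Subgroup G) (hSM : (S : Subgroup G) ≤ M) (hM : Cfsg.IsInFrakM p M) (htall : Cfsg.IsCharPTall p (Cfsg.largestPReducedOf p M)) (hasym : ¬ Cfsg.IsSymmetricIn (Cfsg.largestPReducedOf p M)) : ∃ H : Subgroup G, Cfsg.IsInFrakH p M H := by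
  have h := AsymWeak.std_of_large hQp hQ1 hQ hSM hM
  set Y := Cfsg.largestPReducedOf p M with hY
  set O := Cfsg.pCoreOf p M with hO
  set C := Subgroup.centralizer (Y : Set G) with hC
  obtain ⟨T, L, hTL, hLchar, hYL⟩ := htall
  obtain ⟨R, hR⟩ := ((pCoreOf_pgroup (p := p) M).comap_subtype (K := C)).exists_le_sylow
  have hRO : (R : Subgroup C).map C.subtype = O := by
    have hle : O ≤ (R : Subgroup C).map C.subtype := fun o ho =>
      Subgroup.mem_map.2 ⟨⟨o, h.o_le_cent ho⟩, hR (Subgroup.mem_comap.2 ho), rfl⟩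
    exact le_antisymm (h.cent_max (R.2.map _) hle (Subgroup.map_subtype_le _)) hle
  obtain ⟨c, hc⟩ := MulAction.exists_smul_eq C T R
  set L' := L.map (MulAut.conj (c : G)).toMonoidHom with hL'
  have hOL : O ≤ L' := by
    rw [← hRO]
    rintro _ ⟨r, hr, rfl⟩
    rw [← hc, SetLike.mem_coe, Sylow.coe_subgroup_smul, CfsgLib.Solv.mem_conj_smul_iff] at hr
    exact Subgroup.mem_map.2 ⟨_, hTL (Subgroup.mem_map_of_mem C.subtype hr), by simp [mul_assoc]⟩
  have hchar : Subgroup.centralizer (Cfsg.pCore p ↥L' : Set ↥L') ≤ Cfsg.pCore p ↥L' :=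
    Coset.charP_equiv (L.equivMapOfInjective _ (MulAut.conj (c : G)).injective) hLchar
  have hcy : ∀ y ∈ Y, (c : G) * y * (c : G)⁻¹ = y := fun y hy => by
    rw [← Subgroup.mem_centralizer_iff.1 c.2 y hy, mul_inv_cancel_right]
  have hYL' : ¬ Y ≤ Cfsg.pCoreOf p L' := by
    intro hle
    refine hYL fun y hy => ?_
    have h1 := core_map (p := p) (c : G)⁻¹ L' (Subgroup.mem_map_of_mem _ (hle hy))
    have e : L'.map (MulAut.conj (c : G)⁻¹).toMonoidHom = L := by
      rw [hL', Subgroup.map_map]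
      conv_rhs => rw [← Subgroup.map_id L]
      congr 1
      ext x
      simp [mul_assoc]
    rw [e] at h1
    have e2 : (MulAut.conj (c : G)⁻¹).toMonoidHom y = y := by
      simp only [MulEquiv.coe_toMonoidHom, MulAut.conj_apply, inv_inv]
      rw [mul_assoc, Subgroup.mem_centralizer_iff.1 c.2 y hy, inv_mul_cancel_left]
    rwa [e2] at h1
  obtain ⟨H, ⟨hOH, hHL, hYH⟩, hmin⟩ := Set.exists_min_image
    {H : Subgroup G | O ≤ H ∧ H ≤ L' ∧ ¬ Y ≤ Cfsg.pCoreOf p H} (fun H => Nat.card H) (Set.toFinite _)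
    ⟨L', hOL, le_rfl, hYL'⟩
  have hprop : ∀ P : Subgroup G, O ≤ P → P < H → Y ≤ Cfsg.pCoreOf p P := by
    intro P hOP hPH
    by_contra hne
    exact hPH.ne (Subgroup.eq_of_le_of_card_ge hPH.le (hmin P ⟨hOP, hPH.le.trans hHL, hne⟩))
  refine ⟨H, ?_, hOH, hYH, hprop⟩
  have d : FH.HData p O Y H := ⟨hOH, pCoreOf_pgroup M, h.y_le_o, hYH, hprop⟩
  set B := Cfsg.pCoreOf p L' with hB
  set X := H ⊔ B with hX
  set P := Cfsg.pCoreOf p X with hP
  have hXP : X ≤ Subgroup.normalizer (P : Set G) := le_normalizer_pCoreOf X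
  have hBP : B ≤ P := le_pCoreOf le_sup_right (pCoreOf_pgroup L')
    (sup_le (hHL.trans (le_normalizer_pCoreOf L')) Subgroup.le_normalizer)
  have hPN : P ≤ Subgroup.normalizer (O : Set G) := le_sup_left.trans (h.pgroup_le hasym
    ((pCoreOf_pgroup (p := p) X).to_sup_of_normal_left' (pCoreOf_pgroup M) ((hOH.trans le_sup_left).trans hXP))
    le_sup_right)
  have hPH : P ≤ Subgroup.normalizer (H : Set G) := by
    rw [CfsgLib.Solv.le_normalizer_iff_forall_conj_mem]
    intro π hπ x hx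
    have hle : FH.wcl O H ≤ H.comap (MulAut.conj π).toMonoidHom := (Subgroup.closure_le _).2 (by
      rintro _ ⟨l, hl, o, ho, rfl⟩
      have hπ' : l⁻¹ * π * l ∈ P := by
        simpa using (Subgroup.mem_normalizer_iff.1 (hXP (inv_mem (Subgroup.mem_sup_left hl))) π).1 hπ
      have ho' := (Subgroup.mem_normalizer_iff.1 (hPN hπ') o).1 ho
      show π * (l * o * l⁻¹) * π⁻¹ ∈ H
      have e : π * (l * o * l⁻¹) * π⁻¹ = l * (l⁻¹ * π * l * o * (l⁻¹ * π * l)⁻¹) * l⁻¹ := by group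
      rw [e]
      exact mul_mem (mul_mem hl (d.le ho')) (inv_mem hl))
    exact hle (d.wcl_o_eq.ge hx)
  have hPA : P ⊓ H ≤ Cfsg.pCoreOf p H := FH.le_core le_rfl Subgroup.le_normalizer
    ((pCoreOf_pgroup X).to_le inf_le_left) inf_le_right
    (CfsgLib.Solv.le_normalizer_inf_of_le (le_sup_left.trans hXP) Subgroup.le_normalizer)
  have hkill : ∀ x ∈ H, (orderOf x).Coprime p → x ∈ Subgroup.centralizer (Cfsg.pCoreOf p H : Set G) → x = 1 := by
    intro x hx hxo hxc
    have h1 : x ∈ Subgroup.centralizer (P : Set G) := kill_two (pCoreOf_pgroup X) hxo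
      (hXP (Subgroup.mem_sup_left hx)) (B := P ⊓ H)
      (fun w hw i => Subgroup.mem_inf.2 ⟨comm_mem_left hw (hXP (Subgroup.mem_sup_left (zpow_mem hx i))),
        comm_mem_right (zpow_mem hx i) (hPH hw)⟩)
      (fun b hb => Subgroup.mem_centralizer_iff.1 hxc b (hPA hb))
    exact eq_one_of_centralizer_pCore hchar (hHL hx) hxo (Subgroup.centralizer_le hBP h1)
  haveI := CfsgLib.Solv.pCore_normal ↥H p
  set Z := Subgroup.centralizer (Cfsg.pCore p ↥H : Set ↥H) with hZ
  have hZp : IsPGroup p Z := by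
    obtain ⟨T'⟩ : Nonempty (Sylow p Z) := inferInstance
    have htop : (T' : Subgroup Z) = ⊤ := eq_top_of_sylow_coprime T' le_rfl fun x hx => by
      have hx1 : ((x : H) : G) = 1 := hkill _ (x : H).2 (by rwa [Subgroup.orderOf_coe, Subgroup.orderOf_coe])
        (mem_centralizer_map_subtype.2 x.2)
      have : x = 1 := Subtype.ext (Subtype.ext hx1)
      rw [this]; exact one_mem _
    have := T'.2
    rw [htop] at this
    exact this.of_equiv Subgroup.topEquiv
  exact CfsgLib.Solv.le_pCore hZp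

end Cfsg.Agent.S2852
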