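import Cfsg.Statements.S2853
import Cfsg.Agent.Inv.AsymWeak
import Cfsg.Agent.Inv.FrakH

set_option autoImplicit false
set_option linter.style.haveILetI false
open Cfsg
open CfsgLib.Inv
open scoped commutatorElement

namespace Cfsg.Agent.S2853

theorem normalClosure_map {G : Type*} [Group G] {Y H : Subgroup G} (hYH : Y ≤ H) :
    (Subgroup.normalClosure ((Y.subgroupOf H : Subgroup ↥H) : Set ↥H)).map H.subtype = FH.wcl Y H := by
  refine le_antisymm ?_ ((Subgroup.closure_le _).2 ?_)
  · rw [Subgroup.map_le_iff_le_comap, Subgroup.normalClosure, Subgroup.closure_le]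
    intro w hw
    obtain ⟨a, ha, hconj⟩ := Group.mem_conjugatesOfSet_iff.1 hw
    obtain ⟨l, rfl⟩ := isConj_iff.1 hconj
    exact Subgroup.subset_closure ⟨l, l.2, a, Subgroup.mem_subgroupOf.1 ha, rfl⟩
  · rintro _ ⟨l, hl, y, hy, rfl⟩
    refine ⟨⟨l, hl⟩ * ⟨y, hYH hy⟩ * (⟨l, hl⟩ : H)⁻¹, ?_, rfl⟩
    exact Subgroup.normalClosure_normal.conj_mem _
      (Subgroup.subset_normalClosure (show (⟨y, hYH hy⟩ : H) ∈ Y.subgroupOf H from hy)) _

/-- H in frak H. -/
theorem result {G : Type*} [Group G] [Finite G] {p : ℕ} [Fact p.Prime] (S : Sylow p G) (Q : Subgroup G) (hQp : IsPGroup p ↥Q) (hQ1 : Q ≠ ⊥) (hQS : Q ≤ (S : Subgroup G)) (hQ : Cfsg.IsLarge Q) (M : Subgroup G) (hSM : (S : Subgroup G) ≤ M) (hM : Cfsg.IsInFrakM p M) (htall : Cfsg.IsCharPTall p (Cfsg.largestPReducedOf p M)) (hasym : ¬ Cfsg.IsSymmetricIn (Cfsg.largestPReducedOf p M)) (H : Subgroup G) (hH : Cfsg.IsInFrakH p M H) (R : Subgroup G) (hR : R = (Cfsg.pResidual p ↥H).map H.subtype) : (∀ T : Sylow p ↥(H ⊓ (M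 ⊔ Subgroup.centralizer (((Cfsg.largestPReducedOf p M) : Subgroup G) : Set G))), ∃ P : Sylow p ↥H, ((P : Subgroup ↥H).map H.subtype) = (T : Subgroup ↥(H ⊓ (M ⊔ Subgroup.centralizer (((Cfsg.largestPReducedOf p M) : Subgroup G) : Set G)))).map (H ⊓ (M ⊔ Subgroup.centralizer (((Cfsg.largestPReducedOf p M) : Subgroup G) : Set G))).subtype) ∧ Cfsg.pCoreOf p H ≤ Subgroup.normalizer (((Cfsg.pCoreOf p M) : Subgroup G) : Set G) ⊓ Subgroup.normalizer (((Cfsg.largestPReducedOf p M) : Subgroup G) : Set G) ∧ ⁅R, (Cfsg.largestPReducedOf p M)⁆ = R ∧ R ⊔ (Cfsg.pCoreOf p M) = H ∧ R ⊔ (Cfsg.largestPReducedOf p M) = (Subgroup.normalClosure ((((Cfsg.largestPReducedOf p M)).subgroupOf H : Subgroup ↥H) : Set ↥H)).map H.subtype ∧ (Subgroup.normalClosure ((((Cfsg.pCoreOf p M)).subgroupOf H : Subgroup ↥H) : Set ↥H)).map H.subtype = H := by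
  subst hR
  have h := AsymWeak.std_of_large hQp hQ1 hQ hSM hM
  have d := FH.hdata hH
  set Y := Cfsg.largestPReducedOf p M with hY
  set O := Cfsg.pCoreOf p M with hO
  set R := (Cfsg.pResidual p ↥H).map H.subtype with hR
  set Md := M ⊔ Subgroup.centralizer (Y : Set G) with hMd
  have hYH : Y ≤ H := d.y_le.trans d.le
  have hOY : O ≤ Subgroup.normalizer (Y : Set G) := h.o_le_cent.trans (Subgroup.centralizer_le_normalizer _)
  have hRH : R ≤ H := Subgroup.map_subtype_le _
  have hRO : R ⊔ O = H := d.residual_sup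
  have hRn : H ≤ Subgroup.normalizer (R : Set G) := FH.residual_normal H
  have hRY : R ⊔ Y = FH.wcl Y H := by
    have hn : H ≤ Subgroup.normalizer ((R ⊔ Y : Subgroup G) : Set G) := by
      rw [← hRO]
      refine sup_le (le_trans le_sup_left Subgroup.le_normalizer) fun o ho => ?_
      refine CfsgLib.Solv.le_normalizer_iff_forall_conj_mem.2 (fun l hl x hx => ?_) ho
      have hle : R ⊔ Y ≤ (R ⊔ Y).comap (MulAut.conj l).toMonoidHom := sup_le
        (fun a ha => Subgroup.mem_sup_left ((Subgroup.mem_normalizer_iff.1 (hRn (d.le hl)) a).1 ha))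
        (fun a ha => Subgroup.mem_sup_right ((Subgroup.mem_normalizer_iff.1 (hOY hl) a).1 ha))
      exact hle hx
    refine le_antisymm (sup_le (FH.residual_le fun x hx hxo => d.coprime_mem_wcl hx hxo) (FH.le_wcl Y H))
      ((Subgroup.closure_le _).2 ?_)
    rintro _ ⟨l, hl, y, hy, rfl⟩
    exact (Subgroup.mem_normalizer_iff.1 (hn hl) y).1 (Subgroup.mem_sup_right hy)
  refine ⟨?_, ?_, ?_, hRO, by rw [normalClosure_map hYH, hRY], by rw [normalClosure_map d.le, d.wcl_o_eq]⟩
  · intro T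
    obtain ⟨P, hP⟩ := ((pCoreOf_pgroup (p := p) M).comap_subtype (K := H)).exists_le_sylow
    have hOP : O ≤ (P : Subgroup H).map H.subtype := fun o ho =>
      ⟨⟨o, d.le ho⟩, hP (show (⟨o, d.le ho⟩ : H) ∈ O.comap H.subtype from ho), rfl⟩
    have hPM : (P : Subgroup H).map H.subtype ≤ H ⊓ Md := le_inf (Subgroup.map_subtype_le _)
      ((h.pgroup_le hasym (P.2.map _) hOP).trans (h.normalizer_o_le.trans h.dagger_eq.le))
    set T' := (T : Subgroup ↥(H ⊓ Md)).map (H ⊓ Md).subtype with hT'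
    obtain ⟨P', hP'⟩ := ((T.2.map (H ⊓ Md).subtype).comap_subtype (K := H)).exists_le_sylow
    have hsub : T' ≤ (P' : Subgroup H).map H.subtype := fun x hx =>
      Subgroup.mem_map.2 ⟨⟨x, ((Subgroup.map_subtype_le _).trans inf_le_left) hx⟩,
        hP' (Subgroup.mem_comap.2 hx), rfl⟩
    refine ⟨P', (Subgroup.eq_of_le_of_card_ge hsub ?_).symm⟩
    rw [Subgroup.card_map_of_injective H.subtype_injective, hT',
      Subgroup.card_map_of_injective (H ⊓ Md).subtype_injective, Sylow.card_eq_multiplicity, ← Sylow.card_eq_multiplicity P]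
    obtain ⟨T₂, hT₂⟩ := ((P.2.map H.subtype).comap_subtype (K := H ⊓ Md)).exists_le_sylow
    have hle : (P : Subgroup H).map H.subtype ≤ (T₂ : Subgroup ↥(H ⊓ Md)).map (H ⊓ Md).subtype := fun x hx =>
      ⟨⟨x, hPM hx⟩, hT₂ (show (⟨x, hPM hx⟩ : ↥(H ⊓ Md)) ∈ ((P : Subgroup H).map H.subtype).comap (H ⊓ Md).subtype from hx), rfl⟩
    have := Subgroup.card_le_of_le hle
    rw [Subgroup.card_map_of_injective H.subtype_injective, Subgroup.card_map_of_injective (H ⊓ Md).subtype_injective] at this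
    exact this.trans (le_of_eq (T₂.card_eq_multiplicity.trans T.card_eq_multiplicity.symm))
  · have hN : Cfsg.pCoreOf p H ≤ Subgroup.normalizer (O : Set G) :=
      le_sup_left.trans (h.pgroup_le hasym ((pCoreOf_pgroup (p := p) H).to_sup_of_normal_left' (pCoreOf_pgroup M)
        (d.le.trans (le_normalizer_pCoreOf H))) le_sup_right)
    exact le_inf hN (hN.trans h.normalizer_o_le)
  · set R₁ := ⁅R, Y⁆ with hR₁
    have hle : R₁ ≤ R := by
      rw [hR₁]
      exact CfsgLib.Solv.commutator_le_of_le_normalizer (hYH.trans hRn)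
    have hn₁ : H ≤ Subgroup.normalizer (R₁ : Set G) := by
      rw [← hRO]
      refine sup_le ?_ (fun o ho => ?_)
      · rw [CfsgLib.Solv.le_normalizer_iff_forall_conj_mem]
        intro l hl x hx
        have hle' : R₁ ≤ R₁.comap (MulAut.conj l).toMonoidHom := Subgroup.commutator_le.2 fun r hr y hy => by
          have h1 := mul_mem (Subgroup.commutator_mem_commutator (H₂ := Y) (mul_mem hl hr) hy)
            (inv_mem (Subgroup.commutator_mem_commutator (H₂ := Y) hl hy))
          show l * ⁅r, y⁆ * l⁻¹ ∈ R₁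
          convert h1 using 1
          simp only [commutatorElement_def]
          group
        exact hle' hx
      · refine CfsgLib.Solv.le_normalizer_iff_forall_conj_mem.2 (fun l hl x hx => ?_) ho
        have hle' : R₁ ≤ R₁.comap (MulAut.conj l).toMonoidHom := Subgroup.commutator_le.2 fun r hr y hy => by
          rw [Subgroup.mem_comap, map_commutatorElement]
          exact Subgroup.commutator_mem_commutator ((Subgroup.mem_normalizer_iff.1 (hRn (d.le hl)) r).1 hr)
            ((Subgroup.mem_normalizer_iff.1 (hOY hl) y).1 hy)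
        exact hle' hx
    have hn₂ : H ≤ Subgroup.normalizer ((R₁ ⊔ Y : Subgroup G) : Set G) := by
      rw [← hRO]
      refine sup_le (fun r hr => ?_) (fun o ho => ?_)
      · refine CfsgLib.Solv.le_normalizer_iff_forall_conj_mem.2 (fun l hl x hx => ?_) hr
        have hle' : R₁ ⊔ Y ≤ (R₁ ⊔ Y).comap (MulAut.conj l).toMonoidHom := sup_le
          (fun a ha => Subgroup.mem_sup_left ((Subgroup.mem_normalizer_iff.1 (hn₁ (hRH hl)) a).1 ha))
          (fun a ha => by
            have h1 : ⁅l, a⁆ * a ∈ R₁ ⊔ Y :=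
              mul_mem (Subgroup.mem_sup_left (Subgroup.commutator_mem_commutator hl ha)) (Subgroup.mem_sup_right ha)
            simpa [commutatorElement_def, mul_assoc] using h1)
        exact hle' hx
      · refine CfsgLib.Solv.le_normalizer_iff_forall_conj_mem.2 (fun l hl x hx => ?_) ho
        have hle' : R₁ ⊔ Y ≤ (R₁ ⊔ Y).comap (MulAut.conj l).toMonoidHom := sup_le
          (fun a ha => Subgroup.mem_sup_left ((Subgroup.mem_normalizer_iff.1 (hn₁ (d.le hl)) a).1 ha))
          (fun a ha => Subgroup.mem_sup_right ((Subgroup.mem_normalizer_iff.1 (hOY hl) a).1 ha))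
        exact hle' hx
    have hW : FH.wcl Y H ≤ R₁ ⊔ Y := (Subgroup.closure_le _).2 (by
      rintro _ ⟨l, hl, y, hy, rfl⟩
      exact (Subgroup.mem_normalizer_iff.1 (hn₂ hl) y).1 (Subgroup.mem_sup_right hy))
    have hsup : R₁ ⊔ O = H := le_antisymm (sup_le (hle.trans hRH) d.le)
      (d.wcl_sup.ge.trans (sup_le (hW.trans (sup_le le_sup_left (d.y_le.trans le_sup_right))) le_sup_right))
    exact le_antisymm hle (FH.residual_le fun x hx hxo =>
      FH.coprime_mem (hle.trans hRH) hn₁ (pCoreOf_pgroup M) d.le hsup.ge hx hxo)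

end Cfsg.Agent.S2853
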