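import Cfsg.Statements.S2854
import Cfsg.Agent.Inv.AsymWeak
import Cfsg.Agent.Inv.FrakH

set_option autoImplicit false
set_option linter.style.haveILetI false
open Cfsg
open CfsgLib.Inv
open scoped Pointwise

namespace Cfsg.Agent.S2854

/-- H and Q^g. -/
theorem result {G : Type*} [Group G] [Finite G] {p : ℕ} [Fact p.Prime] (S : Sylow p G) (Q : Subgroup G) (hQp : IsPGroup p ↥Q) (hQ1 : Q ≠ ⊥) (hQS : Q ≤ (S : Subgroup G)) (hQ : Cfsg.IsLarge Q) (M : Subgroup G) (hSM : (S : Subgroup G) ≤ M) (hM : Cfsg.IsInFrakM p M) (hasym : ¬ Cfsg.IsSymmetricIn (Cfsg.largestPReducedOf p M)) (H : Subgroup G) (hH : Cfsg.IsInFrakH p M H) (g : G) (hHQ : H ≤ Subgroup.normalizer ((((Q : Subgroup G).map (MulAut.conj (g : G)).toMonoidHom) : Subgroup G) : Set G)) : ((Q : Subgroup G).map (MulAut.conj (g : G)).toMonoidHom) ≤ Cfsg.pCoreOf p (H ⊔ ((Q : Subgroup G).map (MulAut.conj (g : G)).toMonoidHom)) ∧ Cfsg.pCoreOf p (H ⊔ ((Q : Subgroup G).map (MulAut.conj (g : G)).toMonoidHom))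 ≤ Subgroup.normalizer (((Cfsg.pCoreOf p M) : Subgroup G) : Set G) ∧ Subgroup.normalizer (((Cfsg.pCoreOf p M) : Subgroup G) : Set G) ≤ Subgroup.normalizer (((Cfsg.largestPReducedOf p M) : Subgroup G) : Set G) ∧ Subgroup.normalizer (((Cfsg.largestPReducedOf p M) : Subgroup G) : Set G) = (M ⊔ Subgroup.centralizer (((Cfsg.largestPReducedOf p M) : Subgroup G) : Set G)) ∧ (H.subgroupOf (H ⊔ ((Q : Subgroup G).map (MulAut.conj (g : G)).toMonoidHom))).Normal ∧ (Cfsg.pResidual p ↥H).map H.subtype = (Cfsg.pResidual p ↥(H ⊔ ((Q : Subgroup G).map (MulAut.conj (g : G)).toMonoidHom))).map (H ⊔ ((Q : Subgroup G).map (MulAut.conj (g : G)).toMonoidHom)).subtype ∧ Cfsg.IsPIrreducible p ↥(H ⊔ ((Q : Subgroup G).map (MulAut.conj (g : G)).toMonoidHom)) := by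
  have h := AsymWeak.std_of_large hQp hQ1 hQ hSM hM
  have d := FH.hdata hH
  set Qg := (Q : Subgroup G).map (MulAut.conj (g : G)).toMonoidHom with hQg
  set K := H ⊔ Qg with hK
  set P := Cfsg.pCoreOf p K with hP
  set O := Cfsg.pCoreOf p M with hO
  have hQgP : Qg ≤ P := le_pCoreOf le_sup_right (hQp.map _) (sup_le hHQ Subgroup.le_normalizer)
  have hKP : K ≤ Subgroup.normalizer (P : Set G) := le_normalizer_pCoreOf K
  have hOK : O ≤ K := d.le.trans le_sup_left
  have hPN : P ≤ Subgroup.normalizer (O : Set G) := le_sup_left.trans (h.pgroup_le hasym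
    ((pCoreOf_pgroup (p := p) K).to_sup_of_normal_left' (pCoreOf_pgroup M) (hOK.trans hKP)) le_sup_right)
  have hKeq : K = H ⊔ P := le_antisymm (sup_le le_sup_left (hQgP.trans le_sup_right))
    (sup_le le_sup_left (pCoreOf_le_self K))
  have hPH : P ≤ Subgroup.normalizer (H : Set G) := by
    rw [CfsgLib.Solv.le_normalizer_iff_forall_conj_mem]
    intro π hπ x hx
    have hle : FH.wcl O H ≤ H.comap (MulAut.conj π).toMonoidHom := (Subgroup.closure_le _).2 (by
      rintro _ ⟨l, hl, o, ho, rfl⟩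
      have hπ' : l⁻¹ * π * l ∈ P := by
        simpa using (Subgroup.mem_normalizer_iff.1 (hKP (inv_mem (Subgroup.mem_sup_left hl))) π).1 hπ
      have ho' := (Subgroup.mem_normalizer_iff.1 (hPN hπ') o).1 ho
      show π * (l * o * l⁻¹) * π⁻¹ ∈ H
      have e : π * (l * o * l⁻¹) * π⁻¹ = l * (l⁻¹ * π * l * o * (l⁻¹ * π * l)⁻¹) * l⁻¹ := by group
      rw [e]
      exact mul_mem (mul_mem hl (d.le ho')) (inv_mem hl))
    exact hle (d.wcl_o_eq.ge hx)
  have hKH : K ≤ Subgroup.normalizer (H : Set G) := by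
    rw [hKeq]; exact sup_le Subgroup.le_normalizer hPH
  have hAP : Cfsg.pCoreOf p H ≤ P := pCoreOf_le le_sup_left hKH
  have hcop : ∀ x ∈ K, (orderOf x).Coprime p → x ∈ H := fun x hx hxo =>
    FH.coprime_mem le_sup_left hKH (pCoreOf_pgroup K) (pCoreOf_le_self K) hKeq.le hx hxo
  refine ⟨hQgP, hPN, h.normalizer_o_le, h.dagger_eq,
    (Subgroup.normal_subgroupOf_iff_le_normalizer le_sup_left).2 hKH, ?_, ?_, ?_⟩
  · exact le_antisymm (FH.residual_le fun x hx hxo => FH.mem_residual (Subgroup.mem_sup_left hx) hxo)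
      (FH.residual_le fun x hx hxo => FH.mem_residual (hcop x hx hxo) hxo)
  · intro hcl
    obtain ⟨T, hT⟩ := ((pCoreOf_pgroup (p := p) M).comap_subtype (K := K)).exists_le_sylow
    haveI := hcl T
    refine d.not_le fun y hy => ?_
    have hyP : y ∈ P := ⟨⟨y, hOK (d.y_le hy)⟩, CfsgLib.Solv.le_pCore T.2
      (hT (show (⟨y, hOK (d.y_le hy)⟩ : K) ∈ O.comap K.subtype from d.y_le hy)), rfl⟩
    exact FH.le_core le_rfl Subgroup.le_normalizer ((pCoreOf_pgroup K).to_le inf_le_left)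
      (inf_le_right : P ⊓ H ≤ H)
      (CfsgLib.Solv.le_normalizer_inf_of_le (le_sup_left.trans hKP) Subgroup.le_normalizer)
      (Subgroup.mem_inf.2 ⟨hyP, d.le (d.y_le hy)⟩)
  · intro N hNn hNc
    haveI := hNn
    set N₁ := N.map K.subtype with hN₁
    have hN₁K : N₁ ≤ K := Subgroup.map_subtype_le N
    have hKN₁ : K ≤ Subgroup.normalizer (N₁ : Set G) := by
      refine le_trans ?_ (Subgroup.le_normalizer_map K.subtype)
      rw [Subgroup.normalizer_eq_top, ← MonoidHom.range_eq_map, Subgroup.range_subtype]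
    have hKNP : K ≤ Subgroup.normalizer ((N₁ ⊔ P : Subgroup G) : Set G) := fun k hk =>
      CfsgLib.Solv.le_normalizer_iff_forall_conj_mem.2 (fun l hl x hx => by
        have hle : N₁ ⊔ P ≤ (N₁ ⊔ P).comap (MulAut.conj l).toMonoidHom := sup_le
          (fun a ha => Subgroup.mem_sup_left ((Subgroup.mem_normalizer_iff.1 (hKN₁ hl) a).1 ha))
          (fun a ha => Subgroup.mem_sup_right ((Subgroup.mem_normalizer_iff.1 (hKP hl) a).1 ha))
        exact hle hx) hk
    have hNPK : N₁ ⊔ P ≤ K := sup_le hN₁K (pCoreOf_le_self K)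
    have hn' : H ≤ Subgroup.normalizer (((N₁ ⊔ P) ⊓ H : Subgroup G) : Set G) :=
      CfsgLib.Solv.le_normalizer_inf_of_le (le_sup_left.trans hKNP) Subgroup.le_normalizer
    rcases d.dichotomy (N := (N₁ ⊔ P) ⊓ H) inf_le_right hn' with hres | hpc
    · intro x hx
      have hle : (Cfsg.pResidual p ↥K).map K.subtype ≤ N₁ := FH.residual_le fun y hy hyo =>
        FH.coprime_mem le_sup_left (hNPK.trans hKN₁) (pCoreOf_pgroup K) le_sup_right le_rfl
          (Subgroup.mem_inf.1 (hres y (hcop y hy hyo) hyo)).1 hyo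
      exact (Subgroup.mem_map_iff_mem K.subtype_injective).1 (hle (Subgroup.mem_map_of_mem _ hx))
    · exfalso
      apply hNc
      rw [pClosed_iff_le]
      intro T
      rintro _ ⟨t, ht, rfl⟩
      set T₁ := ((T : Subgroup N).map N.subtype).map K.subtype with hT₁
      have hT₁p : IsPGroup p T₁ := (T.2.map _).map _
      have hT₁K : T₁ ≤ K := Subgroup.map_subtype_le _
      have hT₁N : T₁ ≤ N₁ := Subgroup.map_mono (Subgroup.map_subtype_le _)
      have hTP : IsPGroup p ↥(T₁ ⊔ P) := hT₁p.to_sup_of_normal_right' (pCoreOf_pgroup K) (hT₁K.trans hKP)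
      have hinf : (T₁ ⊔ P) ⊓ H ≤ P :=
        (hpc _ (hTP.to_le inf_le_left) (inf_le_inf_right H (sup_le_sup_right hT₁N P))).trans hAP
      have ht1 : ((t : K) : G) ∈ T₁ := ⟨(t : K), ⟨t, ht, rfl⟩, rfl⟩
      obtain ⟨a, ha, b, hb, e⟩ : ((t : K) : G) ∈ (H : Set G) * (P : Set G) := by
        rw [← Subgroup.coe_mul_of_right_le_normalizer_left H P hPH]
        exact hKeq.le (hT₁K ht1)
      have haP : a ∈ P := hinf (Subgroup.mem_inf.2 ⟨by
        rw [show a = ((t : K) : G) * b⁻¹ from eq_mul_inv_of_mul_eq e]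
        exact mul_mem (Subgroup.mem_sup_left ht1) (Subgroup.mem_sup_right (inv_mem hb)), ha⟩)
      have htP : ((t : K) : G) ∈ P := e ▸ mul_mem haP hb
      exact (Subgroup.mem_map_iff_mem K.subtype_injective).1 htP

end Cfsg.Agent.S2854
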