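import Cfsg.Statements.S2855
import Cfsg.Agent.Inv.LargeSub
import Cfsg.Agent.Inv.PClosed
import Cfsg.Agent.Inv.Transfer
import Mathlib

set_option autoImplicit false
open Cfsg

namespace Cfsg.Agent.S2855

open CfsgLib.Inv
open scoped Pointwise commutatorElement

variable {H : Type*} [Group H]

/-- `g S g⁻¹`. -/
def cj (g : H) (S : Subgroup H) : Subgroup H := S.map (MulAut.conj g).toMonoidHom

theorem mem_cj {g x : H} {S : Subgroup H} : x ∈ cj g S ↔ g⁻¹ * x * g ∈ S := by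
  rw [cj, Subgroup.mem_map_equiv]; simp [MulAut.conj_symm_apply]

theorem cj_mul (g h : H) (S : Subgroup H) : cj g (cj h S) = cj (g * h) S := by
  ext x; simp only [mem_cj, mul_inv_rev, mul_assoc]

theorem cj_one (S : Subgroup H) : cj 1 S = S := by
  ext x; simp [mem_cj]

theorem cj_mono (g : H) {S T : Subgroup H} (h : S ≤ T) : cj g S ≤ cj g T := Subgroup.map_mono h

theorem cj_le_iff {g : H} {S T : Subgroup H} : cj g S ≤ T ↔ S ≤ cj g⁻¹ T := by
  constructor
  · intro h; have := cj_mono g⁻¹ h; rwa [cj_mul, inv_mul_cancel, cj_one] at this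
  · intro h; have := cj_mono g h; rwa [cj_mul, mul_inv_cancel, cj_one] at this

theorem cj_eq_iff {g : H} {S : Subgroup H} : cj g S = S ↔ g ∈ Subgroup.normalizer (S : Set H) :=
  Subgroup.mem_normalizer_iff_map_conj_eq.symm

theorem cj_sup (g : H) (S T : Subgroup H) : cj g (S ⊔ T) = cj g S ⊔ cj g T := Subgroup.map_sup _ _ _

theorem cj_inf (g : H) (S T : Subgroup H) : cj g (S ⊓ T) = cj g S ⊓ cj g T :=
  Subgroup.map_inf S T _ (MulAut.conj g).injective

theorem cj_normal (g : H) (S : Subgroup H) [hS : S.Normal] : cj g S = S :=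
  cj_eq_iff.2 (by rw [Subgroup.normalizer_eq_top]; trivial)

theorem cj_self {g : H} {S : Subgroup H} (hg : g ∈ S) : cj g S = S := cj_eq_iff.2 (Subgroup.le_normalizer hg)

theorem modular {X E Q : Subgroup H} [Q.Normal] (hQX : Q ≤ X) (hX : X ≤ E ⊔ Q) : X = (X ⊓ E) ⊔ Q := by
  refine le_antisymm (fun x hx => ?_) (sup_le inf_le_left hQX)
  obtain ⟨e, he, q, hq, rfl⟩ := Subgroup.mem_sup_of_normal_right.1 (hX hx)
  refine mul_mem (Subgroup.mem_sup_left ⟨?_, he⟩) (Subgroup.mem_sup_right hq)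
  have := mul_mem hx (inv_mem (hQX hq))
  simpa using this

variable [Finite H] {p : ℕ} [hp : Fact p.Prime]

theorem sylow_max {R L P : Subgroup H} (hsy : ¬ p ∣ R.relIndex L) (hP : IsPGroup p P) (h1 : R ≤ P) (h2 : P ≤ L) :
    P ≤ R := by
  have hd : R.relIndex P ∣ R.relIndex L := ⟨_, (Subgroup.relIndex_mul_relIndex R P L h1 h2).symm⟩
  obtain ⟨n, hn⟩ := hP.index (R.subgroupOf P)
  rcases Nat.eq_zero_or_pos n with rfl | hpos
  · exact Subgroup.relIndex_eq_one.1 (by simpa [Subgroup.relIndex] using hn)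
  · exact absurd ((dvd_pow_self p hpos.ne').trans (hn ▸ hd)) hsy

theorem sylow_conj {R Y D : Subgroup H} (hR : IsPGroup p R) (hsy : ¬ p ∣ R.relIndex Y)
    (hD : IsPGroup p D) (hDY : D ≤ Y) : ∃ y ∈ Y, cj y D ≤ R := by
  let S₀ : Sylow p ↥Y := (IsPGroup.comap_subtype (K := Y) hR).toSylow hsy
  obtain ⟨P, hP⟩ := (IsPGroup.comap_subtype (K := Y) hD).exists_le_sylow
  obtain ⟨m, hm⟩ := MulAction.exists_smul_eq ↥Y P S₀
  refine ⟨m, m.2, ?_⟩
  rintro _ ⟨u, hu, rfl⟩
  have : (m * ⟨u, hDY hu⟩ * m⁻¹ : ↥Y) ∈ (S₀ : Subgroup ↥Y) := by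
    rw [← hm, Sylow.coe_subgroup_smul]
    exact ⟨_, hP (show (⟨u, hDY hu⟩ : ↥Y) ∈ D.subgroupOf Y from hu), by
      simp [MulDistribMulAction.toMulEquiv, MulAut.smul_def]⟩
  exact this

/-- A Sylow subgroup meets a normal subgroup in a Sylow subgroup. -/
theorem sylow_inf {S N L : Subgroup H} (hS : IsPGroup p S) (hsy : ¬ p ∣ S.relIndex L) (hNL : N ≤ L)
    (hSL : S ≤ L) (hLN : L ≤ Subgroup.normalizer (N : Set H)) : ¬ p ∣ (S ⊓ N).relIndex N := by
  obtain ⟨P, hP⟩ := (IsPGroup.comap_subtype (K := N) (hS.to_le (inf_le_left : S ⊓ N ≤ S))).exists_le_sylow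
  intro hd
  apply P.not_dvd_index
  have hPm : IsPGroup p ↥((P : Subgroup ↥N).map N.subtype) := P.isPGroup'.map _
  obtain ⟨y, hy, hyP⟩ := sylow_conj hS hsy hPm ((Subgroup.map_subtype_le _).trans hNL)
  have h1 : cj y ((P : Subgroup ↥N).map N.subtype) ≤ S ⊓ N :=
    le_inf hyP ((cj_mono y (Subgroup.map_subtype_le _)).trans_eq (cj_eq_iff.2 (hLN hy)))
  have hcard : Nat.card (P : Subgroup ↥N) ≤ Nat.card ↥((S ⊓ N).subgroupOf N) := by
    rw [CfsgLib.Solv.card_subgroupOf inf_le_right, ← Subgroup.card_map_of_injective N.subtype_injective (K := (P : Subgroup ↥N)),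
      ← Subgroup.card_map_of_injective (MulAut.conj y).injective (f := (MulAut.conj y).toMonoidHom) (K := (P : Subgroup ↥N).map N.subtype)]
    exact Subgroup.card_le_of_le h1
  rwa [← Subgroup.eq_of_le_of_card_ge hP hcard]

/-- Elements of order prime to `p` of a finite group lie in a normal subgroup with `p`-power quotient behaviour. -/
theorem coprime_mem_zpowers {x : H} (hx : (orderOf x).Coprime p) (a : ℕ) : x ∈ Subgroup.zpowers (x ^ p ^ a) :=
  mem_zpowers_pow_iff.2 (Nat.Coprime.pow_right a hx).symm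

/-- A `p`-element times a commuting `p'`-element which is again a `p`-element. -/
theorem eq_one_of_mul_pElement {e z : H} (hc : Commute z e) {a b : ℕ} (he : e ^ p ^ a = 1) (hze : (z * e) ^ p ^ b = 1)
    (hz : (orderOf z).Coprime p) : z = 1 := by
  have h1 : z ^ p ^ (a + b) = 1 := by
    have h2 : (z * e) ^ p ^ (a + b) = 1 := by rw [add_comm, pow_add, pow_mul, hze, one_pow]
    rwa [hc.mul_pow, show e ^ p ^ (a + b) = 1 by rw [pow_add, pow_mul, he, one_pow], mul_one] at h2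
  exact orderOf_eq_one_iff.1 (Nat.eq_one_of_dvd_coprimes (hz.pow_right (a + b)) dvd_rfl (orderOf_dvd_of_pow_eq_one h1))

/-- A strongly `p`-irreducible group is generated by its `p`-elements. -/
theorem spi_gen {E : Type*} [Group E] [Finite E] (hE : Cfsg.IsStronglyPIrreducible p E) :
    Subgroup.closure {e : E | ∃ a : ℕ, e ^ p ^ a = 1} = ⊤ := by
  set N := Subgroup.closure {e : E | ∃ a : ℕ, e ^ p ^ a = 1} with hN
  haveI hNn : N.Normal := by
    refine ⟨fun n hn g => ?_⟩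
    have hle : N ≤ N.comap (MulAut.conj g).toMonoidHom := by
      conv_lhs => rw [hN]
      rw [Subgroup.closure_le]
      rintro e ⟨a, ha⟩
      refine Subgroup.subset_closure ⟨a, ?_⟩
      rw [← map_pow, ha, map_one]
    exact hle hn
  haveI := CfsgLib.Solv.pCore_normal E p
  by_cases hc : ⁅N, (⊤ : Subgroup E)⁆ ≤ Cfsg.pCore p E
  · refine absurd (fun P : Sylow p E => ?_) hE.1
    refine ⟨fun t ht g => ?_⟩
    have htN : t ∈ N := by
      obtain ⟨a, ha⟩ := P.isPGroup' ⟨t, ht⟩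
      exact Subgroup.subset_closure ⟨a, by simpa using congrArg Subtype.val ha⟩
    have h1 : ⁅t, g⁆ ∈ (P : Subgroup E) := by
      have hQP : Cfsg.pCore p E ≤ (P : Subgroup E) := by
        rw [← P.is_maximal' (P.isPGroup'.to_sup_of_normal_right (CfsgLib.Solv.pCore_isPGroup E p)) le_sup_left]
        exact le_sup_right
      exact hQP (hc (Subgroup.commutator_mem_commutator htN (Subgroup.mem_top g)))
    have := mul_mem (inv_mem h1) ht
    rwa [commutatorElement_def, show (t * g * t⁻¹ * g⁻¹)⁻¹ * t = g * t * g⁻¹ by group] at this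
  · have hres := hE.2 N hNn hc
    rw [eq_top_iff]
    intro e _
    obtain ⟨a, m, hm, he⟩ := Nat.exists_eq_pow_mul_and_not_dvd (orderOf_pos e).ne' p hp.out.ne_one
    have h1 : e ^ p ^ a ∈ N := by
      refine hres (mem_pResidual ?_)
      rw [orderOf_pow, he, Nat.gcd_eq_right (dvd_mul_right _ _), Nat.mul_div_cancel_left _ (pow_pos hp.out.pos a)]
      exact ((hp.out.coprime_iff_not_dvd).2 hm).symm
    have h2 : e ^ m ∈ N := Subgroup.subset_closure ⟨a, by rw [← pow_mul, mul_comm, ← he, pow_orderOf_eq_one]⟩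
    have hco : IsCoprime ((p : ℤ) ^ a) (m : ℤ) := by
      have := Nat.Coprime.isCoprime (Nat.Coprime.pow_left a ((hp.out.coprime_iff_not_dvd).2 hm))
      push_cast at this
      exact this
    obtain ⟨u, v, huv⟩ := hco
    have h3 := mul_mem (zpow_mem h1 u) (zpow_mem h2 v)
    rwa [← zpow_natCast, ← zpow_natCast, ← zpow_mul, ← zpow_mul, ← zpow_add,
      show ((p ^ a : ℕ) : ℤ) * u + (m : ℤ) * v = 1 by push_cast; linarith, zpow_one] at h3

/-- Part one. -/
theorem part_one (𝒦 : Set (Subgroup H)) (hne : 𝒦.Nonempty) (hinv : ∀ h : H, ∀ E ∈ 𝒦, cj h E ∈ 𝒦)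
    (htr : ∀ E ∈ 𝒦, ∀ K ∈ 𝒦, ∃ h : H, K = cj h E) (hres : Cfsg.pResidual p H ≤ sSup 𝒦)
    (hnorm : ∀ E ∈ 𝒦, sSup 𝒦 ⊔ Cfsg.pCore p H ≤ Subgroup.normalizer ((E ⊔ Cfsg.pCore p H : Subgroup H) : Set H))
    (hmin : ∀ E ∈ 𝒦, ∀ T : Sylow p ↥E, Cfsg.IsMinimalOver (T : Subgroup ↥E)) (T : Sylow p H) :
    Cfsg.IsMinimalOver (T : Subgroup H) := by
  haveI := CfsgLib.Solv.pCore_normal H p
  set Q := Cfsg.pCore p H with hQdef
  set R := sSup 𝒦 with hRdef
  set W := R ⊔ Q with hW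
  have hR : ∀ E ∈ 𝒦, E ≤ R := fun E hE => le_sSup hE
  haveI hRn : R.Normal := by
    refine ⟨fun n hn g => ?_⟩
    have hle : R ≤ R.comap (MulAut.conj g).toMonoidHom := sSup_le fun E hE e he =>
      hR _ (hinv g E hE) ⟨e, he, rfl⟩
    exact hle hn
  have hQT : Q ≤ (T : Subgroup H) := by
    rw [← T.is_maximal' (T.isPGroup'.to_sup_of_normal_right (CfsgLib.Solv.pCore_isPGroup H p)) le_sup_left]
    exact le_sup_right
  haveI hWn : W.Normal := Subgroup.sup_normal R Q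
  have hRT : R ⊔ (T : Subgroup H) = ⊤ := by
    rw [eq_top_iff]
    intro x _
    obtain ⟨a, m, hm, he⟩ := Nat.exists_eq_pow_mul_and_not_dvd (orderOf_pos x).ne' p hp.out.ne_one
    have h1 : x ^ p ^ a ∈ R := by
      refine hres (mem_pResidual ?_)
      rw [orderOf_pow, he, Nat.gcd_eq_right (dvd_mul_right _ _), Nat.mul_div_cancel_left _ (pow_pos hp.out.pos a)]
      exact ((hp.out.coprime_iff_not_dvd).2 hm).symm
    have h2 : x ^ m ∈ R ⊔ (T : Subgroup H) := by
      have hyp : IsPGroup p ↥(Subgroup.zpowers (x ^ m)) := by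
        refine IsPGroup.of_card (n := (orderOf (x ^ m)).factorization p) ?_
        rw [Nat.card_zpowers]
        have hd : orderOf (x ^ m) ∣ p ^ a := orderOf_dvd_of_pow_eq_one (by rw [← pow_mul, mul_comm, ← he, pow_orderOf_eq_one])
        obtain ⟨j, -, hj⟩ := (Nat.dvd_prime_pow hp.out).1 hd
        rw [hj, Nat.Prime.factorization_pow hp.out, Finsupp.single_eq_same]
      obtain ⟨P, hP⟩ := hyp.exists_le_sylow
      obtain ⟨u, hu⟩ := MulAction.exists_smul_eq H T P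
      have hm' : x ^ m ∈ (P : Subgroup H) := hP (Subgroup.mem_zpowers _)
      rw [← hu, Sylow.coe_subgroup_smul] at hm'
      obtain ⟨t, ht, htu⟩ := hm'
      have hn : ((R ⊔ (T : Subgroup H)) : Subgroup H) = (R ⊔ (T : Subgroup H)) := rfl
      -- the normal closure of `T` lies in `R T` as `H/R` is generated by `T`
      have hq : x ^ m = (u * t * u⁻¹ * t⁻¹) * t := by rw [← htu]; simp [MulDistribMulAction.toMulEquiv, MulAut.smul_def]
      rw [hq]
      refine mul_mem ?_ (Subgroup.mem_sup_right ht)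
      have habp : IsPGroup p (H ⧸ R) := by
        intro y
        obtain ⟨w, rfl⟩ := QuotientGroup.mk_surjective y
        obtain ⟨b, hb⟩ := exists_pow_mem_pResidual (p := p) w
        exact ⟨b, (QuotientGroup.eq_one_iff _).2 (hres hb)⟩
      have htop : (T : Subgroup H).map (QuotientGroup.mk' R) = ⊤ := by
        have h := (T.mapSurjective (QuotientGroup.mk'_surjective R)).is_maximal' (Q := ⊤) (habp.of_equiv Subgroup.topEquiv.symm) le_top
        exact h.symm
      have h9 : u * t * u⁻¹ * t⁻¹ ∈ ((T : Subgroup H).map (QuotientGroup.mk' R)).comap (QuotientGroup.mk' R) := by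
        rw [htop]; trivial
      rw [Subgroup.comap_map_eq, QuotientGroup.ker_mk', sup_comm] at h9
      exact h9
    have hco : IsCoprime ((p : ℤ) ^ a) (m : ℤ) := by
      have := Nat.Coprime.isCoprime (Nat.Coprime.pow_left a ((hp.out.coprime_iff_not_dvd).2 hm))
      push_cast at this
      exact this
    obtain ⟨u, v, huv⟩ := hco
    have h3 := mul_mem (zpow_mem (Subgroup.mem_sup_left (T := (T : Subgroup H)) h1) u) (zpow_mem h2 v)
    rwa [← zpow_natCast, ← zpow_natCast, ← zpow_mul, ← zpow_mul, ← zpow_add,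
      show ((p ^ a : ℕ) : ℤ) * u + (m : ℤ) * v = 1 by push_cast; linarith, zpow_one] at h3
  -- local data
  have hEW : ∀ E ∈ 𝒦, E ⊔ Q ≤ W := fun E hE => sup_le_sup_right (hR E hE) Q
  have hTW : ¬ p ∣ ((T : Subgroup H) ⊓ W).relIndex W :=
    sylow_inf T.isPGroup' (by rw [Subgroup.relIndex_top_right]; exact T.not_dvd_index) le_top le_top
      (by rw [Subgroup.normalizer_eq_top])
  have hTEQ : ∀ E ∈ 𝒦, ¬ p ∣ ((T : Subgroup H) ⊓ (E ⊔ Q)).relIndex (E ⊔ Q) := by
    intro E hE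
    have h := sylow_inf (T.isPGroup'.to_le inf_le_left) hTW (hEW E hE) inf_le_right (hnorm E hE)
    rwa [inf_assoc, inf_eq_right.2 (hEW E hE)] at h
  have hTE : ∀ E ∈ 𝒦, ¬ p ∣ ((T : Subgroup H) ⊓ E).relIndex E := by
    intro E hE hd
    refine hTEQ E hE (hd.trans ?_)
    set S := (T : Subgroup H) ⊓ (E ⊔ Q)
    have hQS : Q ≤ S := le_inf hQT le_sup_right
    have e1 : (T : Subgroup H) ⊓ E = S ⊓ E := by rw [inf_assoc, inf_eq_right.2 (le_sup_left : E ≤ E ⊔ Q)]
    have hsup : S ⊔ E = E ⊔ Q := le_antisymm (sup_le inf_le_right le_sup_left) (sup_le le_sup_right (hQS.trans le_sup_left))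
    rw [e1, Subgroup.inf_relIndex_right]
    -- `|E : S ∩ E| = |EQ : S|` as `EQ = S E`
    have hset : ∀ x ∈ E ⊔ Q, ∃ e ∈ E, ∃ s ∈ S, x = e * s := fun x hx => by
      obtain ⟨e, he, q, hq, rfl⟩ := Subgroup.mem_sup_of_normal_right.1 hx
      exact ⟨e, he, q, hQS hq, rfl⟩
    have heq : S.relIndex E = S.relIndex (E ⊔ Q) := by
      refine le_antisymm (Subgroup.relIndex_le_of_le_right le_sup_left ?_) ?_
      · exact Subgroup.index_ne_zero_of_finite
      · refine Nat.card_le_card_of_surjective (Quotient.map' (fun e : ↥E => (⟨e, Subgroup.mem_sup_left e.2⟩ : ↥(E ⊔ Q))) ?_) ?_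
        · intro a b hab
          rw [QuotientGroup.leftRel_apply] at hab ⊢
          exact hab
        · intro y
          obtain ⟨⟨x, hx⟩, rfl⟩ := QuotientGroup.mk_surjective y
          obtain ⟨e, he, s, hs, rfl⟩ := hset x hx
          refine ⟨QuotientGroup.mk ⟨e, he⟩, QuotientGroup.eq.2 ?_⟩
          show e⁻¹ * (e * s) ∈ S
          simpa using hs
    rw [heq]
  have hex : ∀ E ∈ 𝒦, ∃ ME : Subgroup H, (T : Subgroup H) ⊓ E ≤ ME ∧ ME ≤ E ∧ ¬ E ≤ ME ∧
      ∀ Y : Subgroup H, (T : Subgroup H) ⊓ E ≤ Y → Y ≤ E → ¬ E ≤ Y → Y ≤ ME := by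
    intro E hE
    let TE : Sylow p ↥E := (IsPGroup.comap_subtype (K := E) (T.isPGroup'.to_le (inf_le_left : (T : Subgroup H) ⊓ E ≤ (T : Subgroup H)))).toSylow (hTE E hE)
    obtain ⟨_, M, ⟨hM, hTM⟩, huniq⟩ := hmin E hE TE
    refine ⟨M.map E.subtype, fun x hx => ⟨⟨x, hx.2⟩, hTM (show (⟨x, hx.2⟩ : ↥E) ∈ ((T : Subgroup H) ⊓ E).subgroupOf E from hx), rfl⟩,
      Subgroup.map_subtype_le _, fun h => hM.1 ?_, fun Y h1 h2 h3 => ?_⟩
    · rw [eq_top_iff]
      intro x _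
      obtain ⟨y, hy, e⟩ := h x.2
      rwa [← Subtype.ext e]
    · rcases eq_top_or_exists_le_coatom (Y.subgroupOf E) with e | ⟨N, hN, hle⟩
      · exact absurd (Subgroup.subgroupOf_eq_top.1 e) h3
      · have hNM : N = M := huniq N ⟨hN, fun x hx => hle (show (x : H) ∈ Y from h1 hx)⟩
        intro y hy
        exact ⟨⟨y, h2 hy⟩, hNM ▸ hle (show (y : H) ∈ Y from hy), rfl⟩
  choose! ME hME1 hME2 hME3 hME4 using hex
  -- uniqueness inside `EQ`
  have huQ : ∀ E ∈ 𝒦, ∀ Y : Subgroup H, (T : Subgroup H) ⊓ (E ⊔ Q) ≤ Y → Y ≤ E ⊔ Q → ¬ E ≤ Y → Y ≤ ME E ⊔ Q := by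
    intro E hE Y h1 h2 h3
    rw [modular (le_trans (le_inf hQT le_sup_right) h1) h2]
    refine sup_le_sup_right (hME4 E hE _ (le_inf ((inf_le_inf_left _ le_sup_left).trans h1) inf_le_right) inf_le_right
      fun h => h3 (h.trans inf_le_left)) Q
  have hMEnot : ∀ E ∈ 𝒦, ¬ E ≤ ME E ⊔ Q := by
    intro E hE h
    apply hME3 E hE
    intro e he
    obtain ⟨m, hm, q, hq, rfl⟩ := Subgroup.mem_sup_of_normal_right.1 (h he)
    have hqE : q ∈ E := by simpa using mul_mem (inv_mem (hME2 E hE hm)) he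
    exact mul_mem hm (hME1 E hE ⟨hQT hq, hqE⟩)
  -- an element fixing `T ∩ EQ` and carrying `E Q` to `K Q` carries `ME` to `MK`
  have hcarry : ∀ E ∈ 𝒦, ∀ K ∈ 𝒦, ∀ x : H, cj x ((T : Subgroup H) ⊓ (E ⊔ Q)) = (T : Subgroup H) ⊓ (K ⊔ Q) →
      cj x (E ⊔ Q) = K ⊔ Q → cj x (ME E ⊔ Q) ≤ ME K ⊔ Q := by
    intro E hE K hK x h1 h2
    refine huQ K hK _ ?_ ?_ ?_
    · rw [← h1]
      refine cj_mono x (fun u hu => ?_)
      obtain ⟨e, he, q, hq, rfl⟩ := Subgroup.mem_sup_of_normal_right.1 hu.2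
      have heT : e ∈ (T : Subgroup H) := by simpa using Subgroup.mul_mem (T : Subgroup H) (Subgroup.mem_inf.1 hu).1 (Subgroup.inv_mem (T : Subgroup H) (hQT hq))
      exact mul_mem (Subgroup.mem_sup_left (hME1 E hE ⟨heT, he⟩)) (Subgroup.mem_sup_right hq)
    · rw [← h2]; exact cj_mono x (sup_le_sup_right (hME2 E hE) Q)
    · intro h
      apply hMEnot E hE
      have h3 : K ⊔ Q ≤ cj x (ME E ⊔ Q) := sup_le h (by rw [cj_sup, cj_normal _ Q]; exact le_sup_right)
      rw [← h2, cj_le_iff, cj_mul, inv_mul_cancel, cj_one] at h3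
      exact le_sup_left.trans h3
  set N₀ := W ⊓ ⨅ E ∈ 𝒦, Subgroup.normalizer ((ME E ⊔ Q : Subgroup H) : Set H) with hN₀
  have hNorm0 : ∀ t ∈ (T : Subgroup H), ∀ E ∈ 𝒦, cj t (ME E ⊔ Q) = ME (cj t E) ⊔ Q := by
    intro t ht E hE
    have hK := hinv t E hE
    have e2 : ∀ F : Subgroup H, cj t (F ⊔ Q) = cj t F ⊔ Q := fun F => by rw [cj_sup, cj_normal _ Q]
    have e3 : cj t⁻¹ (cj t E ⊔ Q) = E ⊔ Q := by rw [← e2, cj_mul, inv_mul_cancel, cj_one]
    refine le_antisymm (hcarry E hE _ hK t ?_ (e2 E)) ?_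
    · rw [cj_inf, cj_self ht, e2]
    · rw [← cj_one (ME (cj t E) ⊔ Q), ← mul_inv_cancel t, ← cj_mul]
      refine cj_mono t (hcarry _ hK E hE t⁻¹ ?_ e3)
      rw [cj_inf, cj_self (inv_mem ht), e3]
  have hTn : (T : Subgroup H) ≤ Subgroup.normalizer (N₀ : Set H) := by
    intro t ht
    refine cj_eq_iff.1 (Subgroup.eq_of_le_of_card_ge ?_ (le_of_eq (Subgroup.card_map_of_injective (MulAut.conj t).injective).symm))
    rw [hN₀, cj_inf, cj_normal t W]
    refine inf_le_inf_left _ (le_iInf₂ fun E hE => ?_)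
    have hE' := hinv t⁻¹ E hE
    refine (cj_mono t (iInf₂_le (cj t⁻¹ E) hE')).trans (le_of_eq ?_)
    show cj t (Subgroup.normalizer _) = _
    rw [cj, Subgroup.map_equiv_normalizer_eq]
    show Subgroup.normalizer ((cj t _ : Subgroup H) : Set H) = _
    rw [hNorm0 t ht _ hE', cj_mul, mul_inv_cancel, cj_one]
  have hTW0 : (T : Subgroup H) ⊓ W ≤ N₀ := by
    refine le_inf inf_le_right (le_iInf₂ fun E hE => fun t ht => ?_)
    have htE : cj t (E ⊔ Q) = E ⊔ Q := cj_eq_iff.2 (hnorm E hE ht.2)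
    have h1 : cj t ((T : Subgroup H) ⊓ (E ⊔ Q)) = (T : Subgroup H) ⊓ (E ⊔ Q) := by rw [cj_inf, cj_self ht.1, htE]
    exact cj_eq_iff.1 (Subgroup.eq_of_le_of_card_ge (hcarry E hE E hE t h1 htE) (le_of_eq (Subgroup.card_map_of_injective (MulAut.conj t).injective).symm))
  have hM0 : (T : Subgroup H) ⊔ N₀ ≠ ⊤ := by
    intro e
    have hWN : W ≤ N₀ := by
      intro w hw
      have hw' : w ∈ ((T : Subgroup H) ⊔ N₀ : Subgroup H) := e ▸ Subgroup.mem_top w
      have hw'' : w ∈ (((T : Subgroup H) ⊔ N₀ : Subgroup H) : Set H) := hw'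
      rw [Subgroup.coe_mul_of_left_le_normalizer_right (T : Subgroup H) N₀ hTn] at hw''
      obtain ⟨t, ht, n, hn, rfl⟩ := Set.mem_mul.1 hw''
      have hnW : n ∈ W := (Subgroup.mem_inf.1 (show n ∈ N₀ from hn)).1
      have htW : t ∈ W := by
        have := W.mul_mem hw (W.inv_mem hnW)
        simpa using this
      exact N₀.mul_mem (hTW0 (Subgroup.mem_inf.2 ⟨ht, htW⟩)) hn
    obtain ⟨E, hE⟩ := hne
    apply hMEnot E hE
    -- a conjugation invariant subgroup containing the Sylow subgroup is everything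
    set S := (T : Subgroup H) ⊓ E
    let TE : Sylow p ↥E := (IsPGroup.comap_subtype (K := E) (T.isPGroup'.to_le (inf_le_left : (T : Subgroup H) ⊓ E ≤ (T : Subgroup H)))).toSylow (hTE E hE)
    have hgen := (hmin E hE TE).1
    intro x hx
    have hle : Subgroup.normalClosure ((TE : Subgroup ↥E) : Set ↥E) ≤ (ME E ⊔ Q).subgroupOf E := by
      haveI : ((ME E ⊔ Q).subgroupOf E).Normal := by
        refine ⟨fun n hn g => ?_⟩
        exact (Subgroup.mem_normalizer_iff.1 ((hWN.trans inf_le_right).trans (iInf₂_le E hE) (Subgroup.mem_sup_left (hR E hE g.2))) _).1 hn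
      exact Subgroup.normalClosure_le_normal fun u hu => Subgroup.mem_sup_left (hME1 E hE hu)
    exact hle (hgen ▸ Subgroup.mem_top (⟨x, hx⟩ : ↥E))
  obtain ⟨M, hM, hMle⟩ := (eq_top_or_exists_le_coatom _).resolve_left hM0
  refine ⟨?_, M, ⟨hM, le_sup_left.trans hMle⟩, ?_⟩
  · have hTN : (T : Subgroup H) ≤ Subgroup.normalClosure ((T : Subgroup H) : Set H) := Subgroup.le_normalClosure
    rw [eq_top_iff, ← hRT]
    refine sup_le (sSup_le fun E hE => ?_) hTN
    let TE : Sylow p ↥E := (IsPGroup.comap_subtype (K := E) (T.isPGroup'.to_le (inf_le_left : (T : Subgroup H) ⊓ E ≤ (T : Subgroup H)))).toSylow (hTE E hE)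
    intro x hx
    haveI : (Subgroup.normalClosure ((T : Subgroup H) : Set H)).Normal := Subgroup.normalClosure_normal
    have hle : Subgroup.normalClosure ((TE : Subgroup ↥E) : Set ↥E) ≤ (Subgroup.normalClosure ((T : Subgroup H) : Set H)).subgroupOf E :=
      Subgroup.normalClosure_le_normal fun u hu => hTN (hu : (u : H) ∈ (T : Subgroup H) ⊓ E).1
    exact hle ((hmin E hE TE).1 ▸ Subgroup.mem_top (⟨x, hx⟩ : ↥E))
  -- every proper overgroup of `T` lies in `T N₀`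
  rintro X ⟨hX, hTX⟩
  have hnoE : ∀ E ∈ 𝒦, ¬ E ≤ X := by
    intro E hE hEX
    apply hX.1
    rw [eq_top_iff, ← hRT]
    refine sup_le (sSup_le fun K hK => ?_) hTX
    obtain ⟨h, rfl⟩ := htr E hE K hK
    have hh' : h ∈ (((T : Subgroup H) ⊔ R : Subgroup H) : Set H) := by rw [sup_comm, hRT]; trivial
    rw [Subgroup.mul_normal] at hh'
    obtain ⟨t, ht, r, hr, rfl⟩ := Set.mem_mul.1 hh'
    rw [← cj_mul]
    refine (cj_mono t ((cj_mono r (le_sup_left : E ≤ E ⊔ Q)).trans_eq (cj_eq_iff.2 (hnorm E hE (Subgroup.mem_sup_left hr))))).trans ?_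
    exact (cj_mono t (sup_le hEX (hQT.trans hTX))).trans_eq (cj_self (hTX ht))
  have hXW : X ⊓ W ≤ N₀ := by
    refine le_inf inf_le_right (le_iInf₂ fun E hE => fun x hx => ?_)
    set S := (T : Subgroup H) ⊓ (E ⊔ Q)
    set XE := X ⊓ (E ⊔ Q)
    have hSX : S ≤ XE := inf_le_inf_right _ hTX
    have hXEM : XE ≤ ME E ⊔ Q := huQ E hE XE hSX inf_le_right fun h => hnoE E hE (h.trans inf_le_left)
    have hxE : cj x (E ⊔ Q) = E ⊔ Q := cj_eq_iff.2 (hnorm E hE hx.2)
    have hxS : cj x S ≤ XE := by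
      refine (cj_mono x hSX).trans_eq ?_
      rw [cj_inf, cj_self hx.1, hxE]
    have hsyX : ¬ p ∣ S.relIndex XE := fun hd => hTEQ E hE (hd.trans ⟨_, (Subgroup.relIndex_mul_relIndex S XE _ hSX inf_le_right).symm⟩)
    obtain ⟨u, hu, huS⟩ := sylow_conj (T.isPGroup'.to_le inf_le_left) hsyX ((T.isPGroup'.to_le inf_le_left).map _) hxS
    change cj u (cj x S) ≤ S at huS
    rw [cj_mul] at huS
    have hS2 : cj (u * x) S = S := Subgroup.eq_of_le_of_card_ge huS (le_of_eq (Subgroup.card_map_of_injective (MulAut.conj (u * x)).injective).symm)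
    have huE : cj (u * x) (E ⊔ Q) = E ⊔ Q := by rw [← cj_mul, hxE, cj_self hu.2]
    have hn : u * x ∈ Subgroup.normalizer ((ME E ⊔ Q : Subgroup H) : Set H) :=
      cj_eq_iff.1 (Subgroup.eq_of_le_of_card_ge (hcarry E hE E hE _ hS2 huE) (le_of_eq (Subgroup.card_map_of_injective (MulAut.conj (u * x)).injective).symm))
    simpa using mul_mem (Subgroup.le_normalizer (hXEM (inv_mem hu))) hn
  have hXM : X ≤ M := by
    intro x hx
    have hx' : x ∈ (((T : Subgroup H) ⊔ W : Subgroup H) : Set H) := by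
      have : (⊤ : Subgroup H) ≤ (T : Subgroup H) ⊔ W := by rw [← hRT]; exact sup_le (le_sup_left.trans le_sup_right) le_sup_left
      exact this (Subgroup.mem_top x)
    rw [Subgroup.mul_normal] at hx'
    obtain ⟨t, ht, w, hw, rfl⟩ := Set.mem_mul.1 hx'
    have hwX : w ∈ X := by simpa using mul_mem (inv_mem (hTX ht)) hx
    exact mul_mem (hMle (Subgroup.mem_sup_left ht)) (hMle (Subgroup.mem_sup_right (hXW ⟨hwX, hw⟩)))
  exact ((hX.le_iff.1 hXM).resolve_left hM.1).symm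

omit [Finite H] in
theorem comm_mem {X Y : Subgroup H} {x y : H} (hy : y ∈ Y) (hx : x ∈ Subgroup.normalizer (Y : Set H)) (hX : X = Y) :
    ⁅x, y⁆ ∈ X := by
  rw [hX, commutatorElement_def]; exact mul_mem ((Subgroup.mem_normalizer_iff.1 hx y).1 hy) (inv_mem hy)

/-- Part two. -/
theorem part_two (𝒦 : Set (Subgroup H)) (hne : 𝒦.Nonempty) (hinv : ∀ h : H, ∀ E ∈ 𝒦, cj h E ∈ 𝒦)
    (htr : ∀ E ∈ 𝒦, ∀ K ∈ 𝒦, ∃ h : H, K = cj h E) (hres : Cfsg.pResidual p H ≤ sSup 𝒦)
    (hnorm : ∀ E ∈ 𝒦, sSup 𝒦 ⊔ Cfsg.pCore p H ≤ Subgroup.normalizer ((E ⊔ Cfsg.pCore p H : Subgroup H) : Set H))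
    (hspi : ∀ E ∈ 𝒦, Cfsg.IsStronglyPIrreducible p ↥E) :
    Cfsg.IsPIrreducible p H ∧ ∀ E ∈ 𝒦, ∀ K ∈ 𝒦, (Cfsg.pResidual p ↥(E ⊔ Cfsg.pCore p H)).map (E ⊔ Cfsg.pCore p H).subtype = (Cfsg.pResidual p ↥(K ⊔ Cfsg.pCore p H)).map (K ⊔ Cfsg.pCore p H).subtype ∨ ⁅E, K⁆ ≤ Cfsg.pCore p H := by
  classical
  haveI := CfsgLib.Solv.pCore_normal H p
  set Q := Cfsg.pCore p H with hQdef
  set R := sSup 𝒦 with hRdef
  have hR : ∀ E ∈ 𝒦, E ≤ R := fun E hE => le_sSup hE
  haveI hRn : R.Normal := by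
    refine ⟨fun n hn g => ?_⟩
    have hle : R ≤ R.comap (MulAut.conj g).toMonoidHom := sSup_le fun E hE e he =>
      hR _ (hinv g E hE) ⟨e, he, rfl⟩
    exact hle hn
  set f := QuotientGroup.mk' Q with hf
  set W := R.map f with hWdef
  haveI hWn : W.Normal := hRn.map f (QuotientGroup.mk'_surjective Q)
  have hbot : Cfsg.pCore p (H ⧸ Q) = ⊥ := CfsgLib.Solv.pCore_quotient_self
  have hWcore : Cfsg.pCoreOf p W = ⊥ := by
    rw [eq_bot_iff, ← hbot]
    have h1 := pCoreOf_le (p := p) (le_top : W ≤ ⊤) (by rw [Subgroup.normalizer_eq_top])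
    refine h1.trans ?_
    haveI : (Cfsg.pCoreOf p (⊤ : Subgroup (H ⧸ Q))).Normal :=
      Subgroup.normalizer_eq_top_iff.1 (top_le_iff.1 (le_normalizer_pCoreOf ⊤))
    exact CfsgLib.Solv.le_pCore (pCoreOf_pgroup _)
  have hEW : ∀ E ∈ 𝒦, E.map f ≤ W := fun E hE => Subgroup.map_mono (hR E hE)
  have hEn : ∀ E ∈ 𝒦, W ≤ Subgroup.normalizer ((E.map f : Subgroup (H ⧸ Q)) : Set (H ⧸ Q)) := by
    intro E hE
    have h1 := (Subgroup.map_mono (f := f) (le_sup_left.trans (hnorm E hE))).trans (Subgroup.le_normalizer_map f)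
    rwa [Subgroup.map_sup, QuotientGroup.map_mk'_self, sup_bot_eq] at h1
  -- abelian normal subgroups of `W` have order prime to `p`
  have hab : ∀ A : Subgroup (H ⧸ Q), A ≤ W → W ≤ Subgroup.normalizer (A : Set (H ⧸ Q)) → IsMulCommutative ↥A →
      ∀ z ∈ A, (orderOf z).Coprime p := by
    intro A hAW hAn hA z hz
    obtain ⟨S⟩ : Nonempty (Sylow p ↥A) := inferInstance
    haveI := hA
    haveI hSn : (S : Subgroup ↥A).Normal := inferInstance
    have h0 : (S : Subgroup ↥A) ≤ Cfsg.pCore p ↥A := CfsgLib.Solv.le_pCore S.isPGroup'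
    have h1 : Cfsg.pCoreOf p A ≤ Cfsg.pCoreOf p W := pCoreOf_le hAW hAn
    have hS : (S : Subgroup ↥A) = ⊥ := by
      rw [hWcore, le_bot_iff, Cfsg.pCoreOf, Subgroup.map_eq_bot_iff_of_injective _ A.subtype_injective] at h1
      exact le_bot_iff.1 (h1 ▸ h0)
    have h2 : ¬ p ∣ Nat.card A := by rw [← Subgroup.index_bot, ← hS]; exact S.not_dvd_index
    exact Nat.Coprime.coprime_dvd_left (Subgroup.orderOf_dvd_natCard A hz) ((hp.out.coprime_iff_not_dvd).2 h2).symm
  -- generation by `p`-elements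
  have hgen : ∀ E ∈ 𝒦, ∀ X : Subgroup (H ⧸ Q), (∀ e ∈ E.map f, ∀ a : ℕ, e ^ p ^ a = 1 → e ∈ X) → E.map f ≤ X := by
    intro E hE X hX
    rw [Subgroup.map_le_iff_le_comap]
    intro e he
    have hle : Subgroup.closure {u : ↥E | ∃ a : ℕ, u ^ p ^ a = 1} ≤ (X.comap f).subgroupOf E := by
      rw [Subgroup.closure_le]
      rintro u ⟨a, ha⟩
      refine hX _ ⟨u, u.2, rfl⟩ a ?_
      have := congrArg (fun v : ↥E => f (v : H)) ha
      simpa using this
    exact hle ((spi_gen (hspi E hE)).symm ▸ Subgroup.mem_top (⟨e, he⟩ : ↥E))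
  -- the centralizing criterion
  have hkill : ∀ E ∈ 𝒦, ∀ y : H ⧸ Q, ∀ A : Subgroup (H ⧸ Q), (∀ z ∈ A, (orderOf z).Coprime p) →
      (∀ z ∈ A, ∀ e ∈ E.map f, z * e = e * z) → (∀ e ∈ E.map f, ⁅y, e⁆ ∈ A) →
      ∀ e ∈ E.map f, y * e = e * y := by
    intro E hE y A hA hAE hyE e he
    have h := hgen E hE (Subgroup.centralizer ({y} : Set (H ⧸ Q))) fun e he a ha => by
      rw [Subgroup.mem_centralizer_singleton_iff]
      have hz := hyE e he
      have h1 : ⁅y, e⁆ = 1 := by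
        refine eq_one_of_mul_pElement (e := e) (a := a) (b := a) (hAE _ hz e he) ha ?_ (hA _ hz)
        rw [show ⁅y, e⁆ * e = MulAut.conj y e by simp [commutatorElement_def], ← map_pow, ha, map_one]
      exact (commutatorElement_eq_one_iff_mul_comm.1 h1).symm
    exact (Subgroup.mem_centralizer_singleton_iff.1 (h he)).symm
  -- strong irreducibility, read in `H/Q`
  have hdich : ∀ E ∈ 𝒦, ∀ N : Subgroup (H ⧸ Q), N ≤ E.map f → E.map f ≤ Subgroup.normalizer (N : Set (H ⧸ Q)) →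
      ((Cfsg.pResidual p ↥E).map E.subtype).map f ≤ N ∨ ∀ z ∈ N, ∀ e ∈ E.map f, z * e = e * z := by
    intro E hE N hNE hEN
    set X := (N.comap f).subgroupOf E with hX
    haveI hXn : X.Normal := ⟨fun n hn g => by
      show f ((g : H) * (n : H) * (g : H)⁻¹) ∈ N
      rw [map_mul, map_mul, map_inv]
      exact (Subgroup.mem_normalizer_iff.1 (hEN ⟨g, g.2, rfl⟩) _).1 hn⟩
    by_cases hc : ⁅X, (⊤ : Subgroup ↥E)⁆ ≤ Cfsg.pCore p ↥E
    · right
      have hOE : (Cfsg.pCoreOf p E).map f = ⊥ := by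
        rw [eq_bot_iff, ← hWcore]
        refine le_trans ?_ (pCoreOf_le (hEW E hE) (hEn E hE))
        exact le_pCoreOf (Subgroup.map_mono (pCoreOf_le_self E)) ((pCoreOf_pgroup (p := p) E).map f)
          ((Subgroup.map_mono (le_normalizer_pCoreOf E)).trans (Subgroup.le_normalizer_map f))
      intro z hz e he
      obtain ⟨u, hu, rfl⟩ := hNE hz
      obtain ⟨v, hv, rfl⟩ := he
      have h1 : ⁅(⟨u, hu⟩ : ↥E), (⟨v, hv⟩ : ↥E)⁆ ∈ Cfsg.pCore p ↥E :=
        hc (Subgroup.commutator_mem_commutator (show (⟨u, hu⟩ : ↥E) ∈ X from hz) (Subgroup.mem_top _))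
      have h2 : f ⁅u, v⁆ ∈ (Cfsg.pCoreOf p E).map f := ⟨_, ⟨_, h1, rfl⟩, rfl⟩
      rw [hOE, Subgroup.mem_bot, map_commutatorElement, commutatorElement_eq_one_iff_mul_comm] at h2
      exact h2
    · left
      rintro _ ⟨_, ⟨u, hu, rfl⟩, rfl⟩
      exact (hspi E hE).2 X hXn hc hu
  have hpp : ∀ E : Subgroup H, ∀ x ∈ E.map f, (orderOf x).Coprime p → x ∈ ((Cfsg.pResidual p ↥E).map E.subtype).map f := by
    rintro E _ ⟨e, he, rfl⟩ hx
    obtain ⟨a, ha⟩ := exists_pow_mem_pResidual (p := p) (⟨e, he⟩ : ↥E)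
    have h1 : f e ^ p ^ a ∈ ((Cfsg.pResidual p ↥E).map E.subtype).map f := by
      rw [← map_pow]; exact ⟨_, ⟨_, ha, rfl⟩, by simp⟩
    exact Subgroup.zpowers_le.2 h1 (coprime_mem_zpowers hx a)
  have hpair : ∀ E ∈ 𝒦, ∀ K ∈ 𝒦, (∀ x ∈ E ⊔ Q, (orderOf x).Coprime p → x ∈ K ⊔ Q) ∨
      (∀ z ∈ E.map f ⊓ K.map f, ∀ e ∈ E.map f, z * e = e * z) := by
    intro E hE K hK
    refine (hdich E hE (E.map f ⊓ K.map f) inf_le_left ?_).imp (fun h x hx hxc => ?_) id
    · exact CfsgLib.Solv.le_normalizer_inf_of_le Subgroup.le_normalizer ((hEW E hE).trans (hEn K hK))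
    · have h1 : f x ∈ E.map f := by
        obtain ⟨e, he, q, hq, rfl⟩ := Subgroup.mem_sup_of_normal_right.1 hx
        exact ⟨e, he, by rw [map_mul, show f q = 1 from (QuotientGroup.eq_one_iff q).2 hq, mul_one]⟩
      have h2 := (h (hpp E _ h1 (Nat.Coprime.coprime_dvd_left (orderOf_map_dvd f x) hxc))).2
      have h3 : x ∈ (K.map f).comap f := h2
      rwa [Subgroup.comap_map_eq, QuotientGroup.ker_mk'] at h3
  refine ⟨⟨?_, ?_⟩, ?_⟩
  · -- not `p`-closed
    intro hcl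
    obtain ⟨E, hE⟩ := hne
    apply (hspi E hE).1
    obtain ⟨T⟩ : Nonempty (Sylow p H) := inferInstance
    haveI := hcl T
    intro P
    have e : (P : Subgroup ↥E) = ((T : Subgroup H).subgroupOf E) := by
      refine (P.is_maximal' (IsPGroup.comap_subtype (K := E) T.isPGroup') ?_).symm
      intro u hu
      have hPp : IsPGroup p ↥((P : Subgroup ↥E).map E.subtype) := P.isPGroup'.map _
      have h1 := T.is_maximal' (T.isPGroup'.to_sup_of_normal_left hPp) le_sup_left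
      exact h1.le (Subgroup.mem_sup_right (Subgroup.mem_map_of_mem E.subtype hu))
    rw [e]; infer_instance
  · intro N hN hNc
    haveI := hN
    by_contra hcon
    set M := N.map f with hMdef
    haveI hMn : M.Normal := hN.map f (QuotientGroup.mk'_surjective Q)
    have hcent : ∀ E ∈ 𝒦, ∀ z ∈ M ⊓ E.map f, ∀ e ∈ E.map f, z * e = e * z := by
      intro E hE
      refine (hdich E hE (M ⊓ E.map f) inf_le_right
        (CfsgLib.Solv.le_normalizer_inf_of_le (by rw [Subgroup.normalizer_eq_top]; exact le_top) Subgroup.le_normalizer)).resolve_left ?_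
      intro h
      apply hcon
      have hall : ∀ K ∈ 𝒦, ((Cfsg.pResidual p ↥K).map K.subtype).map f ≤ M := by
        intro K hK
        obtain ⟨g, rfl⟩ := htr E hE K hK
        rw [Subgroup.map_le_iff_le_comap]
        have e : (Cfsg.pResidual p ↥(cj g E)).map (cj g E).subtype ≤ cj g ((Cfsg.pResidual p ↥E).map E.subtype) := by
          rw [Cfsg.pResidual, MonoidHom.map_closure, Subgroup.closure_le]
          rintro _ ⟨u, hu, rfl⟩
          refine mem_cj.2 ⟨⟨g⁻¹ * u * g, mem_cj.1 u.2⟩, mem_pResidual ?_, rfl⟩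
          change (orderOf u).Coprime p at hu
          rw [← Subgroup.orderOf_coe] at hu ⊢
          show (orderOf (g⁻¹ * (u : H) * g)).Coprime p
          rwa [show g⁻¹ * (u : H) * g = MulAut.conj g⁻¹ (u : H) by simp, MulEquiv.orderOf_eq]
        refine e.trans ?_
        rintro _ ⟨u, hu, rfl⟩
        show f (g * u * g⁻¹) ∈ M
        rw [map_mul, map_mul, map_inv]
        exact hMn.conj_mem _ (h ⟨u, hu, rfl⟩).1 (f g)
      set g₂ := QuotientGroup.mk' M with hg₂
      have hWp : IsPGroup p ↥(W.map g₂) := by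
        refine (pCoreOf_pgroup (p := p) (W.map g₂)).to_le ?_
        rw [Subgroup.map_le_iff_le_comap, hWdef, Subgroup.map_le_iff_le_comap]
        refine sSup_le fun K hK => ?_
        rw [← Subgroup.map_le_iff_le_comap, ← Subgroup.map_le_iff_le_comap]
        refine le_pCoreOf (Subgroup.map_mono (hEW K hK)) ?_ ((Subgroup.map_mono (hEn K hK)).trans (Subgroup.le_normalizer_map g₂))
        rintro ⟨_, _, ⟨k, hk, rfl⟩, rfl⟩
        obtain ⟨a, ha⟩ := exists_pow_mem_pResidual (p := p) (⟨k, hk⟩ : ↥K)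
        refine ⟨a, Subtype.ext ?_⟩
        show (g₂ (f k)) ^ p ^ a = 1
        rw [← map_pow, ← map_pow]
        exact (QuotientGroup.eq_one_iff _).2 (hall K hK ⟨_, ⟨_, ha, rfl⟩, by simp⟩)
      rw [Cfsg.pResidual, Subgroup.closure_le]
      intro x hx
      have h1 : f x ∈ M := by
        rw [← QuotientGroup.eq_one_iff]
        refine eq_one_of_coprime_mem hWp (Subgroup.mem_map_of_mem g₂ ⟨x, hres (mem_pResidual hx), rfl⟩) ?_
        exact Nat.Coprime.coprime_dvd_left ((orderOf_map_dvd g₂ (f x)).trans (orderOf_map_dvd f x)) hx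
      have h2 : x ∈ (N.map f).comap f := h1
      rw [Subgroup.comap_map_eq, QuotientGroup.ker_mk', sup_comm] at h2
      have h3 : Subgroup.zpowers x ≤ Q ⊔ N := Subgroup.zpowers_le.2 h2
      have hmem : QuotientGroup.mk' N x ∈ Q.map (QuotientGroup.mk' N) := by
        have h4 := Subgroup.mem_map_of_mem (QuotientGroup.mk' N) h2
        rwa [Subgroup.map_sup, QuotientGroup.map_mk'_self, sup_bot_eq] at h4
      rw [SetLike.mem_coe, ← QuotientGroup.eq_one_iff]
      exact eq_one_of_coprime_mem ((CfsgLib.Solv.pCore_isPGroup H p).map _) hmem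
        (Nat.Coprime.coprime_dvd_left (orderOf_map_dvd (QuotientGroup.mk' N) x) hx)
    have hcop : ∀ E ∈ 𝒦, ∀ z ∈ M ⊓ E.map f, (orderOf z).Coprime p := fun E hE =>
      hab _ (inf_le_right.trans (hEW E hE))
        (CfsgLib.Solv.le_normalizer_inf_of_le (by rw [Subgroup.normalizer_eq_top]; exact le_top) (hEn E hE))
        ⟨⟨fun a b => Subtype.ext (hcent E hE a a.2 b b.2.2)⟩⟩
    have hA : ∀ y ∈ M ⊓ W, ∀ E ∈ 𝒦, ∀ e ∈ E.map f, y * e = e * y := by
      intro y hy E hE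
      refine hkill E hE y _ (hcop E hE) (hcent E hE) fun e he => ?_
      refine Subgroup.mem_inf.2 ⟨?_, comm_mem he (hEn E hE hy.2) rfl⟩
      rw [commutatorElement_def, show y * e * y⁻¹ * e⁻¹ = y * (e * y⁻¹ * e⁻¹) by group]
      exact mul_mem hy.1 (hMn.conj_mem _ (inv_mem hy.1) e)
    have hAW : ∀ y : H ⧸ Q, (∀ E ∈ 𝒦, ∀ e ∈ E.map f, y * e = e * y) → ∀ w ∈ W, y * w = w * y := by
      intro y hy w hw
      have hle : W ≤ Subgroup.centralizer ({y} : Set (H ⧸ Q)) := by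
        rw [hWdef, Subgroup.map_le_iff_le_comap]
        refine sSup_le fun E hE e he => Subgroup.mem_centralizer_singleton_iff.2 (hy E hE _ ⟨e, he, rfl⟩).symm
      exact (Subgroup.mem_centralizer_singleton_iff.1 (hle hw)).symm
    have hAcop : ∀ z ∈ M ⊓ W, (orderOf z).Coprime p :=
      hab _ inf_le_right (CfsgLib.Solv.le_normalizer_inf_of_le (by rw [Subgroup.normalizer_eq_top]; exact le_top) Subgroup.le_normalizer)
        ⟨⟨fun a b => Subtype.ext (hAW a (hA a a.2) b b.2.2)⟩⟩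
    have hMW : ∀ y ∈ M, ∀ w ∈ W, y * w = w * y := by
      intro y hy
      refine hAW y fun E hE => hkill E hE y (M ⊓ W) hAcop (fun z hz => hA z hz E hE) fun e he => Subgroup.mem_inf.2 ⟨?_, ?_⟩
      · rw [commutatorElement_def, show y * e * y⁻¹ * e⁻¹ = y * (e * y⁻¹ * e⁻¹) by group]
        exact mul_mem hy (hMn.conj_mem _ (inv_mem hy) e)
      · exact comm_mem (hEW E hE he) (by rw [Subgroup.normalizer_eq_top]; trivial) rfl
    -- `M` is nilpotent, hence of order prime to `p`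
    have hquot : IsPGroup p (↥M ⧸ Subgroup.center ↥M) := by
      intro q
      obtain ⟨⟨_, u, hu, rfl⟩, rfl⟩ := QuotientGroup.mk_surjective q
      obtain ⟨a, ha⟩ := exists_pow_mem_pResidual (p := p) u
      refine ⟨a, (QuotientGroup.eq_one_iff _).2 (Subgroup.mem_center_iff.2 fun b => Subtype.ext ?_)⟩
      refine hMW b b.2 _ ?_
      show f u ^ p ^ a ∈ W
      rw [← map_pow]
      exact ⟨_, hres ha, rfl⟩
    haveI := hquot.isNilpotent
    haveI hMnil : Group.IsNilpotent ↥M := Group.of_quotient_center_nilpotent this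
    have hMp : ¬ p ∣ Nat.card ↥M := by
      obtain ⟨S⟩ : Nonempty (Sylow p ↥M) := inferInstance
      haveI hSn : (S : Subgroup ↥M).Normal := S.normal_of_normalizerCondition Group.normalizerCondition_of_isNilpotent
      haveI := S.characteristic_of_normal hSn
      have h1 : (S : Subgroup ↥M).map M.subtype ≤ ⊥ := hbot ▸ CfsgLib.Solv.le_pCore (S.isPGroup'.map _)
      rw [le_bot_iff, Subgroup.map_eq_bot_iff_of_injective _ M.subtype_injective] at h1
      rw [← Subgroup.index_bot, ← h1]; exact S.not_dvd_index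
    apply hNc
    intro P
    have hpN : IsPGroup p ↥(Q.subgroupOf N) := IsPGroup.comap_subtype (CfsgLib.Solv.pCore_isPGroup H p)
    have hidx : ¬ p ∣ (Q.subgroupOf N).index := by
      have e : (Q.subgroupOf N).index = Nat.card ↥M := by
        show Q.relIndex N = _
        rw [hMdef, ← Subgroup.relIndex_ker, QuotientGroup.ker_mk']
      rwa [e]
    let P0 : Sylow p ↥N := hpN.toSylow hidx
    haveI : (P0 : Subgroup ↥N).Normal := (inferInstance : (Q.subgroupOf N).Normal)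
    obtain ⟨g, rfl⟩ := MulAction.exists_smul_eq ↥N P0 P
    rw [Sylow.smul_eq_of_normal]
    exact this
  · intro E hE K hK
    have hsame : (∀ x ∈ E ⊔ Q, (orderOf x).Coprime p → x ∈ K ⊔ Q) → (∀ x ∈ K ⊔ Q, (orderOf x).Coprime p → x ∈ E ⊔ Q) →
        (Cfsg.pResidual p ↥(E ⊔ Q)).map (E ⊔ Q).subtype = (Cfsg.pResidual p ↥(K ⊔ Q)).map (K ⊔ Q).subtype := by
      have half : ∀ E K : Subgroup H, (∀ x ∈ E ⊔ Q, (orderOf x).Coprime p → x ∈ K ⊔ Q) →
          (Cfsg.pResidual p ↥(E ⊔ Q)).map (E ⊔ Q).subtype ≤ (Cfsg.pResidual p ↥(K ⊔ Q)).map (K ⊔ Q).subtype := by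
        intro E K h
        rw [Cfsg.pResidual, MonoidHom.map_closure, Subgroup.closure_le]
        rintro _ ⟨u, hu, rfl⟩
        have hu' : (orderOf (u : H)).Coprime p := by rw [Subgroup.orderOf_coe]; exact hu
        exact ⟨⟨u, h u u.2 hu'⟩, mem_pResidual (by rw [← Subgroup.orderOf_coe]; exact hu'), rfl⟩
      exact fun h1 h2 => le_antisymm (half E K h1) (half K E h2)
    have hcardEQ : ∀ A B : Subgroup H, A ∈ 𝒦 → B ∈ 𝒦 → (∀ x ∈ A ⊔ Q, (orderOf x).Coprime p → x ∈ B ⊔ Q) →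
        (Cfsg.pResidual p ↥(A ⊔ Q)).map (A ⊔ Q).subtype = (Cfsg.pResidual p ↥(B ⊔ Q)).map (B ⊔ Q).subtype := by
      intro A B hA hB h
      refine Subgroup.eq_of_le_of_card_ge ?_ ?_
      · rw [Cfsg.pResidual, MonoidHom.map_closure, Subgroup.closure_le]
        rintro _ ⟨u, hu, rfl⟩
        have hu' : (orderOf (u : H)).Coprime p := by rw [Subgroup.orderOf_coe]; exact hu
        exact ⟨⟨u, h u u.2 hu'⟩, mem_pResidual (by rw [← Subgroup.orderOf_coe]; exact hu'), rfl⟩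
      · obtain ⟨g, rfl⟩ := htr A hA B hB
        have e : cj g A ⊔ Q = cj g (A ⊔ Q) := by rw [cj_sup, cj_normal _ Q]
        have hle : (Cfsg.pResidual p ↥(cj g A ⊔ Q)).map (cj g A ⊔ Q).subtype ≤ cj g ((Cfsg.pResidual p ↥(A ⊔ Q)).map (A ⊔ Q).subtype) := by
          rw [Cfsg.pResidual, MonoidHom.map_closure, Subgroup.closure_le]
          rintro _ ⟨u, hu, rfl⟩
          have hu2 : g⁻¹ * (u : H) * g ∈ A ⊔ Q := mem_cj.1 (e ▸ u.2)
          refine mem_cj.2 ⟨⟨_, hu2⟩, mem_pResidual ?_, rfl⟩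
          rw [← Subgroup.orderOf_coe]
          show (orderOf (g⁻¹ * (u : H) * g)).Coprime p
          rw [show g⁻¹ * (u : H) * g = MulAut.conj g⁻¹ (u : H) by simp, MulEquiv.orderOf_eq, Subgroup.orderOf_coe]
          exact hu
        exact (Subgroup.card_le_of_le hle).trans_eq (Subgroup.card_map_of_injective (MulAut.conj g).injective)
    rcases hpair E hE K hK with h1 | h1
    · exact Or.inl (hcardEQ E K hE hK h1)
    rcases hpair K hK E hE with h2 | h2
    · exact Or.inl (hcardEQ K E hK hE h2).symm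
    right
    have hD : ∀ z ∈ E.map f ⊓ K.map f, (orderOf z).Coprime p :=
      hab _ (inf_le_left.trans (hEW E hE)) (CfsgLib.Solv.le_normalizer_inf_of_le (hEn E hE) (hEn K hK))
        ⟨⟨fun a b => Subtype.ext (h1 a a.2 b b.2.1)⟩⟩
    rw [Subgroup.commutator_le]
    intro x hx y hy
    rw [← QuotientGroup.eq_one_iff]
    show f ⁅x, y⁆ = 1
    rw [map_commutatorElement, commutatorElement_eq_one_iff_mul_comm]
    have h3 := hkill E hE (f y) _ hD h1 (fun e he => Subgroup.mem_inf.2 ⟨comm_mem he (hEn E hE ⟨y, hR K hK hy, rfl⟩) rfl, ?_⟩) (f x) ⟨x, hx, rfl⟩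
    · exact h3.symm
    · have hy' : f y ∈ K.map f := ⟨y, hy, rfl⟩
      rw [commutatorElement_def, show f y * e * (f y)⁻¹ * e⁻¹ = f y * (e * (f y)⁻¹ * e⁻¹) by group]
      exact mul_mem hy' ((Subgroup.mem_normalizer_iff.1 (hEn K hK (hEW E hE he)) _).1 (inv_mem hy'))

/-- Let H be a finite group, p a prime, and 𝒦 a nonempty set of subgroups of H permuted transitively by conjugation, with R the subgroup generated by the members of 𝒦. Suppose O^p(H) ≤ R, each E ∈ 𝒦 has E·O_p(H) normal in R·O_p(H), and each E ∈ 𝒦 is p-minimal (generated by the conjugates of a Sylow p-subgroup T_E of E, with T_E in exactly one maximal subgroup of E). Then H is p-minimal in the same sense. If instead each E ∈ 𝒦 is strongly p-irreducible, then H is p-irreducible and, for E, K ∈ 𝒦, either O^p(E·O_p(H)) = O^p(K·O_p(H)) or [E, K] ≤ O_p(H). -/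
theorem result {H : Type*} [Group H] [Finite H] {p : ℕ} [Fact p.Prime] (𝒦 : Set (Subgroup H)) (hne : 𝒦.Nonempty) (hinv : ∀ h : H, ∀ E ∈ 𝒦, E.map (MulAut.conj h).toMonoidHom ∈ 𝒦) (htr : ∀ E ∈ 𝒦, ∀ K ∈ 𝒦, ∃ h : H, K = E.map (MulAut.conj h).toMonoidHom) (hres : Cfsg.pResidual p H ≤ sSup 𝒦) (hnorm : ∀ E ∈ 𝒦, sSup 𝒦 ⊔ Cfsg.pCore p H ≤ Subgroup.normalizer ((E ⊔ Cfsg.pCore p H : Subgroup H) : Set H)) : ((∀ E ∈ 𝒦, ∀ T : Sylow p ↥E, Cfsg.IsMinimalOver (T : Subgroup ↥E)) → ∀ T : Sylow p H, Cfsg.IsMinimalOver (T : Subgroup H)) ∧ ((∀ E ∈ 𝒦, Cfsg.IsStronglyPIrreducible p ↥E) → Cfsg.IsPIrreducible p H ∧ ∀ E ∈ 𝒦, ∀ K ∈ 𝒦, (Cfsg.pResidual p ↥(E ⊔ Cfsg.pCore p H)).map (E ⊔ Cfsg.pCore p H).subtype = (Cfsg.pResidual p ↥(K ⊔ Cfsg.pCore p H)).map (K ⊔ Cfsg.pCore p H).subtype ∨ ⁅E, K⁆ ≤ Cfsg.pCore p H) := by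
  exact ⟨part_one 𝒦 hne hinv htr hres hnorm, part_two 𝒦 hne hinv htr hres hnorm⟩

end Cfsg.Agent.S2855
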