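import Cfsg.Statements.S2856
import Cfsg.Agent.Inv.CosetGraph
import Cfsg.Agent.Inv.CharPLocal
import Cfsg.Agent.Solv.PComplement

set_option autoImplicit false
set_option maxHeartbeats 400000
set_option linter.style.haveILetI false
open Cfsg

namespace Cfsg.Agent.S2856

open CfsgLib.Inv
open scoped commutatorElement

theorem descend {G : Type*} [Group G] [Group.IsNilpotent G] {U V : Subgroup G} [U.Normal] (hUV : U ≤ V)
    (h : V ≤ U ⊔ ⁅V, (⊤ : Subgroup G)⁆) : V = U := by
  refine le_antisymm ?_ hUV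
  set f := QuotientGroup.mk' U with hf
  have h1 : V.map f ≤ ⁅V.map f, (⊤ : Subgroup (G ⧸ U))⁆ := by
    refine (Subgroup.map_mono h).trans ?_
    rw [Subgroup.map_sup, Subgroup.map_commutator, Subgroup.map_top_of_surjective f (QuotientGroup.mk'_surjective U),
      show U.map f = ⊥ from (Subgroup.map_eq_bot_iff _).2 (by rw [hf, QuotientGroup.ker_mk']), bot_sup_eq]
  have hk : ∀ k, V.map f ≤ Subgroup.lowerCentralSeries (G := G ⧸ U) ⊤ k := by
    intro k
    induction k with
    | zero => simp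
    | succ k ih => exact h1.trans (Subgroup.commutator_mono ih le_rfl)
  obtain ⟨n, hn⟩ := (Subgroup.isNilpotent_iff_lowerCentralSeries (S := (⊤ : Subgroup (G ⧸ U)))).1 (Group.isNilpotent_top.2 inferInstance)
  intro v hv
  have := hk n (Subgroup.mem_map_of_mem f hv)
  rw [hn, Subgroup.mem_bot] at this
  exact (QuotientGroup.eq_one_iff v).1 this

variable {X : Type*} [Group X] {p : ℕ} [hp : Fact p.Prime] {M₁ M₂ : Subgroup X}

omit hp in
theorem omega_le_vertexZ {δ : CosetVertex M₁ M₂} (S : Sylow p ↥(MulAction.stabilizer X δ)) {T : Subgroup X}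
    (hT : (S : Subgroup ↥(MulAction.stabilizer X δ)).map (MulAction.stabilizer X δ).subtype = T) :
    omegaOne p (T ⊓ Subgroup.centralizer (T : Set X)) ≤ vertexZ p δ := by
  subst hT
  show _ ≤ sylowCenterClosure p _
  rw [sylowCenterClosure]
  exact le_iSup_of_le S le_rfl

theorem vertexZ_smul_le (h : IsCharPAmalgamPair p M₁ M₂) (g : X) (δ : CosetVertex M₁ M₂) :
    (vertexZ p δ).map (MulAut.conj g).toMonoidHom ≤ vertexZ p (g • δ) := by
  show (sylowCenterClosure p _).map _ ≤ _
  rw [sylowCenterClosure, Subgroup.map_iSup]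
  refine iSup_le fun S => ?_
  rw [Coset.omegaCenter_map]
  haveI := Coset.finite_stab h δ
  haveI := Coset.finite_stab h (g • δ)
  have e := MulAction.stabilizer_smul_eq_stabilizer_map_conj g δ
  let φ : ↥(MulAction.stabilizer X δ) ≃* ↥(MulAction.stabilizer X (g • δ)) :=
    ((MulAction.stabilizer X δ).equivMapOfInjective _ (MulAut.conj g).injective).trans
      (MulEquiv.subgroupCongr e.symm)
  let S' : Sylow p ↥(MulAction.stabilizer X (g • δ)) := S.mapSurjective (f := φ.toMonoidHom) φ.surjective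
  have hS : (S' : Subgroup ↥(MulAction.stabilizer X (g • δ))).map (MulAction.stabilizer X (g • δ)).subtype =
      ((S : Subgroup ↥(MulAction.stabilizer X δ)).map (MulAction.stabilizer X δ).subtype).map (MulAut.conj g).toMonoidHom := by
    have hc : (S' : Subgroup ↥(MulAction.stabilizer X (g • δ))) = (S : Subgroup _).map φ.toMonoidHom :=
      Sylow.coe_mapSurjective φ.surjective S
    rw [hc, Subgroup.map_map, Subgroup.map_map]
    rfl
  exact omega_le_vertexZ S' hS

omit hp in
theorem dist_smul (hgen : M₁ ⊔ M₂ = ⊤) (g : X) (a b : CosetVertex M₁ M₂) :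
    (cosetGraph M₁ M₂).dist (g • a) (g • b) ≤ (cosetGraph M₁ M₂).dist a b := by
  obtain ⟨w, hw⟩ := ((Coset.connected hgen).preconnected a b).exists_walk_length_eq_dist
  let φ : cosetGraph M₁ M₂ →g cosetGraph M₁ M₂ := { toFun := fun x => g • x, map_rel' := fun h => Coset.adj_smul g h }
  rw [← hw, ← SimpleGraph.Walk.length_map φ w]
  exact SimpleGraph.dist_le (w.map φ)

/-- The stabilizer of a vertex is covered by the residual and elements fixing a neighbour and normalizing its Sylow group. -/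
theorem decomp (h : IsSpeAmalgamPair p M₁ M₂) {a μ : CosetVertex M₁ M₂} (hμ : (cosetGraph M₁ M₂).Adj a μ)
    (R : Sylow p ↥(edgeStabilizer a μ)) {g : X} (hg : g ∈ MulAction.stabilizer X a) :
    ∃ r ∈ (pResidual p ↥(pElementClosure p (MulAction.stabilizer X a))).map
        (pElementClosure p (MulAction.stabilizer X a)).subtype,
      ∃ f ∈ MulAction.stabilizer X a, f • μ = μ ∧
        f ∈ Subgroup.normalizer (((R : Subgroup ↥(edgeStabilizer a μ)).map (edgeStabilizer a μ).subtype : Subgroup X) : Set X) ∧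
        g = r * f := by
  haveI := Coset.finite_stab h.1 a
  set A := MulAction.stabilizer X a with hA
  set L := pElementClosure p A with hL
  have hLA : L ≤ A := (Subgroup.closure_le _).2 fun x hx => hx.1
  haveI : Finite ↥L := Finite.of_injective (Subgroup.inclusion hLA) (Subgroup.inclusion_injective _)
  obtain ⟨P, hP⟩ := Coset.edge_sylow h.1 hμ R
  haveI hN : (L.subgroupOf A).Normal := by
    refine ⟨fun k hk c => ?_⟩
    rw [Subgroup.mem_subgroupOf] at hk ⊢
    have : L.map (MulAut.conj (c : X)).toMonoidHom ≤ L := by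
      rw [hL, pElementClosure, MonoidHom.map_closure]
      refine Subgroup.closure_mono ?_
      rintro y ⟨x, ⟨hxA, j, hj⟩, rfl⟩
      exact ⟨mul_mem (mul_mem c.2 hxA) (inv_mem c.2), j, by
        rw [orderOf_injective (MulAut.conj (c : X)).toMonoidHom (MulAut.conj (c : X)).injective]
        exact hj⟩
    exact this (Subgroup.mem_map.2 ⟨k, hk, rfl⟩)
  have hPN : (P : Subgroup A) ≤ L.subgroupOf A := by
    intro s hs
    obtain ⟨k, hk⟩ := IsPGroup.iff_orderOf.1 P.isPGroup' ⟨s, hs⟩
    exact Subgroup.subset_closure ⟨s.2, k, by rwa [← Subgroup.orderOf_coe, ← Subgroup.orderOf_coe] at hk⟩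
  have hgtop : (⟨g, hg⟩ : A) ∈ L.subgroupOf A ⊔ Subgroup.normalizer (P : Set A) := by
    rw [sup_comm, Sylow.normalizer_sup_eq_top' P hPN]; exact Subgroup.mem_top _
  obtain ⟨k, hk, n, hn, hkn⟩ := Subgroup.mem_sup_of_normal_left.1 hgtop
  have hPL : ((P : Subgroup A).map A.subtype) ≤ L := by
    rintro _ ⟨s, hs, rfl⟩
    exact hPN hs
  have hPLp : IsPGroup p ↥(((P : Subgroup A).map A.subtype).subgroupOf L) :=
    (P.isPGroup'.map _).comap_subtype
  obtain ⟨PL, hPL'⟩ := hPLp.exists_le_sylow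
  have hPLeq : (PL : Subgroup ↥L).map L.subtype = (P : Subgroup A).map A.subtype := by
    have hle : (P : Subgroup A).map A.subtype ≤ (PL : Subgroup ↥L).map L.subtype := by
      intro x hx
      exact ⟨⟨x, hPL hx⟩, hPL' hx, rfl⟩
    have h2 : ((PL : Subgroup ↥L).map L.subtype).subgroupOf A = (P : Subgroup A) :=
      P.3 ((PL.isPGroup'.map _).comap_subtype) fun s hs => hle (Subgroup.mem_map_of_mem _ hs)
    refine le_antisymm ?_ hle
    intro x hx
    have hxA : x ∈ A := hLA (Subgroup.map_subtype_le _ hx)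
    exact ⟨⟨x, hxA⟩, h2 ▸ (hx : (⟨x, hxA⟩ : A) ∈ ((PL : Subgroup ↥L).map L.subtype).subgroupOf A), rfl⟩
  haveI : (pResidual p ↥L).Normal := CfsgLib.Inv.pResidual_normal _ _
  have hkt : (⟨(k : X), hk⟩ : ↥L) ∈ pResidual p ↥L ⊔ (PL : Subgroup ↥L) := by
    rw [sup_comm, CfsgLib.Solv.sylow_sup_pResidual]; exact Subgroup.mem_top _
  obtain ⟨r, hr, s, hs, hrs⟩ := Subgroup.mem_sup_of_normal_left.1 hkt
  have hsP : (s : X) ∈ ((R : Subgroup ↥(edgeStabilizer a μ)).map (edgeStabilizer a μ).subtype) := by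
    rw [← hP, ← hPLeq]; exact Subgroup.mem_map_of_mem _ hs
  have hnR : (n : X) ∈ Subgroup.normalizer (((R : Subgroup ↥(edgeStabilizer a μ)).map (edgeStabilizer a μ).subtype : Subgroup X) : Set X) := by
    rw [← hP]; exact Subgroup.le_normalizer_map _ (Subgroup.mem_map.2 ⟨n, hn, rfl⟩)
  refine ⟨r, Subgroup.mem_map_of_mem _ hr, (s : X) * n, mul_mem (hLA s.2) n.2, ?_,
    mul_mem (Subgroup.le_normalizer hsP) hnR, ?_⟩
  · rw [mul_smul, Coset.spe_normalizer_fix h hμ R n.2 hnR]
    exact (Subgroup.mem_inf.1 (Subgroup.map_subtype_le _ hsP)).2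
  · rw [← mul_assoc, show g = (k : X) * n from (congrArg Subtype.val hkn).symm]
    exact congrArg (· * (n : X)) (congrArg Subtype.val hrs).symm

/-- Let (M₁, M₂) be an amalgam pair in X satisfying the rank-two standing hypothesis (characteristic p, the normalizers in M₁ and in M₂ of a Sylow p-subgroup of M₁ ∩ M₂ equal and contained in M₁ ∩ M₂, and strongly p-embedded residues), λ a vertex of the coset graph, L_λ the subgroup of its stabilizer generated by the p-elements, Q_λ = O_p of the stabilizer, O^p(L_λ) the subgroup of L_λ generated by its elements of order prime to p, and V_λ^{(k)} the subgroup generated by the Z_μ over the vertices μ at distance at most k from λ (Z_μ being generated by the Ω₁(Z(S)), S a Sylow p-subgroup of the stabilizer of μ). If n ≥ 1 and V_λ^{(n)} ≤ Q_λ, then O^p(L_λ) does not centralize V_λ^{(n)}/[V_λ^{(n)}, Q_λ], that is, [V_λ^{(n)}, O^p(L_λ)] is not contained in [V_λ^{(n)}, Q_λ]. -/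
theorem result {X : Type*} [Group X] {p : ℕ} [Fact p.Prime] (M₁ M₂ : Subgroup X) (h : Cfsg.IsSpeAmalgamPair p M₁ M₂) (lam : Cfsg.CosetVertex M₁ M₂) (n : ℕ) (hn : 1 ≤ n) (V : Subgroup X) (hV : V = Cfsg.vertexVIter p M₁ M₂ n lam) (hVQ : V ≤ Cfsg.vertexQ p lam) : ¬ ⁅V, ((Cfsg.pResidual p ↥(Cfsg.pElementClosure p (MulAction.stabilizer X lam))).map (Cfsg.pElementClosure p (MulAction.stabilizer X lam)).subtype)⁆ ≤ ⁅V, Cfsg.vertexQ p lam⁆ := by
  intro hcon
  set Res := (Cfsg.pResidual p ↥(Cfsg.pElementClosure p (MulAction.stabilizer X lam))).map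
    (Cfsg.pElementClosure p (MulAction.stabilizer X lam)).subtype with hRes
  set Q := Cfsg.vertexQ p lam with hQdef
  obtain ⟨μ, hμ⟩ := Coset.exists_adj lam
  haveI := Coset.finite_stab h.1 lam
  haveI : Finite ↥(Cfsg.edgeStabilizer lam μ) :=
    Finite.of_injective (Subgroup.inclusion (inf_le_left : Cfsg.edgeStabilizer lam μ ≤ _))
      (Subgroup.inclusion_injective _)
  obtain ⟨R⟩ : Nonempty (Sylow p ↥(Cfsg.edgeStabilizer lam μ)) := inferInstance
  obtain ⟨P, hP⟩ := Coset.edge_sylow h.1 hμ R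
  set U := Cfsg.vertexVIter p M₁ M₂ (n - 1) μ with hU
  have hgen := h.1.1.1
  have hd1 : (Cfsg.cosetGraph M₁ M₂).dist lam μ ≤ 1 := by simpa using SimpleGraph.dist_le hμ.toWalk
  have hUV : U ≤ V := by
    rw [hU, hV]
    refine iSup_le fun ν => ?_
    refine le_iSup_of_le (⟨(ν : Cfsg.CosetVertex M₁ M₂), ?_⟩ : {ν : Cfsg.CosetVertex M₁ M₂ // (Cfsg.cosetGraph M₁ M₂).dist lam ν ≤ n}) le_rfl
    have := (Coset.connected hgen).dist_triangle (u := lam) (v := μ) (w := (ν : Cfsg.CosetVertex M₁ M₂))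
    have := ν.2
    omega
  have hQl : Q ≤ MulAction.stabilizer X lam := Subgroup.map_subtype_le _
  have hQμ : Q ≤ MulAction.stabilizer X μ :=
    (Coset.vertexQ_le_edge h.1 hμ).trans inf_le_right
  have hnormV : ∀ (a : Cfsg.CosetVertex M₁ M₂) (k : ℕ),
      MulAction.stabilizer X a ≤ Subgroup.normalizer ((Cfsg.vertexVIter p M₁ M₂ k a : Subgroup X) : Set X) := by
    intro a k
    rw [CfsgLib.Solv.le_normalizer_iff_forall_conj_mem]
    intro g hg x hx
    have hle : (Cfsg.vertexVIter p M₁ M₂ k a).map (MulAut.conj g).toMonoidHom ≤ Cfsg.vertexVIter p M₁ M₂ k a := by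
      rw [Cfsg.vertexVIter, Subgroup.map_iSup]
      refine iSup_le fun ν => (vertexZ_smul_le h.1 g _).trans (le_iSup_of_le
        (⟨g • (ν : Cfsg.CosetVertex M₁ M₂), ?_⟩ : {ν : Cfsg.CosetVertex M₁ M₂ // (Cfsg.cosetGraph M₁ M₂).dist a ν ≤ k}) le_rfl)
      have e : g • a = a := hg
      calc (Cfsg.cosetGraph M₁ M₂).dist a (g • (ν : Cfsg.CosetVertex M₁ M₂))
          = (Cfsg.cosetGraph M₁ M₂).dist (g • a) (g • (ν : Cfsg.CosetVertex M₁ M₂)) := by rw [e]
        _ ≤ _ := dist_smul hgen g _ _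
        _ ≤ k := ν.2
    exact hle (Subgroup.mem_map_of_mem (MulAut.conj g).toMonoidHom hx)
  -- elements of the residual move things only within the commutator
  have hmove : ∀ r ∈ Res, ∀ x ∈ U, r * x * r⁻¹ ∈ U ⊔ ⁅V, Q⁆ := by
    intro r hr x hx
    have hc : ⁅r, x⁆ ∈ ⁅V, Q⁆ := hcon (by
      rw [← commutatorElement_inv]
      exact inv_mem (Subgroup.commutator_mem_commutator (hUV hx) hr))
    rw [show r * x * r⁻¹ = ⁅r, x⁆ * x by rw [commutatorElement_def]; group]
    exact mul_mem (Subgroup.mem_sup_right hc) (Subgroup.mem_sup_left hx)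
  have hcover : V ≤ U ⊔ ⁅V, Q⁆ := by
    conv_lhs => rw [hV]
    refine iSup_le fun ν => ?_
    by_cases h0 : (Cfsg.cosetGraph M₁ M₂).dist lam (ν : Cfsg.CosetVertex M₁ M₂) = 0
    · have hν : lam = (ν : Cfsg.CosetVertex M₁ M₂) := (Coset.connected hgen).dist_eq_zero_iff.1 h0
      rw [← hν]
      refine iSup_le fun S => ?_
      obtain ⟨g, rfl⟩ := MulAction.exists_smul_eq ↥(MulAction.stabilizer X lam) P S
      obtain ⟨r, hr, f, hf, -, hfR, hgf⟩ := decomp h hμ R g.2
      rw [Coset.sylow_smul_map, hP, hgf, ← Coset.omegaCenter_map]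
      rintro _ ⟨z, hz, rfl⟩
      haveI := Coset.finite_stab h.1 μ
      haveI : Finite ↥(Cfsg.edgeStabilizer μ lam) :=
        Finite.of_injective (Subgroup.inclusion (inf_le_left : Cfsg.edgeStabilizer μ lam ≤ _))
          (Subgroup.inclusion_injective _)
      let ψ : ↥(Cfsg.edgeStabilizer lam μ) ≃* ↥(Cfsg.edgeStabilizer μ lam) :=
        MulEquiv.subgroupCongr (Coset.edge_comm lam μ)
      obtain ⟨P', hP'⟩ := Coset.edge_sylow h.1 hμ.symm (R.mapSurjective (f := ψ.toMonoidHom) ψ.surjective)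
      have hc : ((R.mapSurjective (f := ψ.toMonoidHom) ψ.surjective : Sylow p ↥(Cfsg.edgeStabilizer μ lam)) :
          Subgroup ↥(Cfsg.edgeStabilizer μ lam)) = (R : Subgroup _).map ψ.toMonoidHom :=
        Sylow.coe_mapSurjective ψ.surjective R
      have hT : (P' : Subgroup ↥(MulAction.stabilizer X μ)).map (MulAction.stabilizer X μ).subtype =
          (R : Subgroup ↥(Cfsg.edgeStabilizer lam μ)).map (Cfsg.edgeStabilizer lam μ).subtype := by
        rw [hP', hc, Subgroup.map_map]
        rfl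
      have hzf := Subgroup.mem_map_of_mem (MulAut.conj f).toMonoidHom hz
      have ef : ((R : Subgroup ↥(Cfsg.edgeStabilizer lam μ)).map (Cfsg.edgeStabilizer lam μ).subtype).map
          (MulAut.conj f).toMonoidHom =
          (R : Subgroup ↥(Cfsg.edgeStabilizer lam μ)).map (Cfsg.edgeStabilizer lam μ).subtype :=
        Subgroup.mem_normalizer_iff_map_conj_eq.1 hfR
      rw [Coset.omegaCenter_map, ef] at hzf
      have hZμ : Cfsg.vertexZ p μ ≤ U := by
        refine le_iSup_of_le (⟨μ, ?_⟩ : {ν : Cfsg.CosetVertex M₁ M₂ // (Cfsg.cosetGraph M₁ M₂).dist μ ν ≤ n - 1}) le_rfl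
        rw [SimpleGraph.dist_self]
        exact Nat.zero_le _
      have hzU : f * z * f⁻¹ ∈ U := hZμ (omega_le_vertexZ P' hT hzf)
      have := hmove r hr _ hzU
      show r * f * z * (r * f)⁻¹ ∈ _
      rwa [show r * f * z * (r * f)⁻¹ = r * (f * z * f⁻¹) * r⁻¹ by group]
    · obtain ⟨β, hβ, hβd⟩ := Coset.exists_step hgen (Nat.pos_of_ne_zero h0)
      obtain ⟨g, hg, rfl⟩ := Coset.stab_transitive hμ hβ
      obtain ⟨r, hr, f, -, hfμ, -, rfl⟩ := decomp h hμ R hg
      have e : (r * f) • μ = r • μ := by rw [mul_smul, hfμ]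
      rw [e] at hβd
      intro z hz
      have hz' : r⁻¹ * z * r ∈ Cfsg.vertexZ p (r⁻¹ • (ν : Cfsg.CosetVertex M₁ M₂)) := by
        have := vertexZ_smul_le h.1 r⁻¹ _ (Subgroup.mem_map_of_mem (MulAut.conj r⁻¹).toMonoidHom hz)
        simpa using this
      have hzU : r⁻¹ * z * r ∈ U := (le_iSup_of_le (⟨r⁻¹ • (ν : Cfsg.CosetVertex M₁ M₂), by
        have h1 := dist_smul hgen r⁻¹ (r • μ) (ν : Cfsg.CosetVertex M₁ M₂)
        rw [inv_smul_smul] at h1
        have := ν.2
        omega⟩ : {ν : Cfsg.CosetVertex M₁ M₂ // (Cfsg.cosetGraph M₁ M₂).dist μ ν ≤ n - 1}) le_rfl :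
          Cfsg.vertexZ p (r⁻¹ • (ν : Cfsg.CosetVertex M₁ M₂)) ≤ U) hz'
      have := hmove r hr _ hzU
      rwa [show r * (r⁻¹ * z * r) * r⁻¹ = z by group] at this
  -- descend inside `Q`
  have hUQ : U ≤ Q := hUV.trans hVQ
  have hVU : V = U := by
    haveI : Finite ↥Q := Finite.of_injective (Subgroup.inclusion hQl) (Subgroup.inclusion_injective _)
    have hQp : IsPGroup p ↥Q :=
      (CfsgLib.Solv.pCore_isPGroup ↥(MulAction.stabilizer X lam) p).map (MulAction.stabilizer X lam).subtype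
    haveI : Group.IsNilpotent ↥Q := hQp.isNilpotent
    haveI : (U.subgroupOf Q).Normal :=
      (Subgroup.normal_subgroupOf_iff_le_normalizer hUQ).2 (hQμ.trans (hnormV μ (n - 1)))
    have e := descend (G := ↥Q) (U := U.subgroupOf Q) (V := V.subgroupOf Q) (Subgroup.comap_mono hUV) (by
      refine Subgroup.map_le_map_iff_of_injective Q.subtype_injective |>.1 ?_
      rw [Subgroup.map_sup, Subgroup.map_commutator, Subgroup.map_subgroupOf_eq_of_le hVQ,
        Subgroup.map_subgroupOf_eq_of_le hUQ, ← MonoidHom.range_eq_map, Subgroup.range_subtype]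
      exact hcover)
    rw [← Subgroup.map_subgroupOf_eq_of_le hVQ, e, Subgroup.map_subgroupOf_eq_of_le hUQ]
  have hN1 : MulAction.stabilizer X lam ≤ Subgroup.normalizer (V : Set X) := hV ▸ hnormV lam n
  have hN2 : MulAction.stabilizer X μ ≤ Subgroup.normalizer (V : Set X) := hVU ▸ hnormV μ (n - 1)
  have hVe : V ≤ Cfsg.edgeStabilizer lam μ := le_inf (hVQ.trans hQl) (hVQ.trans hQμ)
  have hVbot : V = ⊥ := by
    refine Coset.eq_bot_of_local_transitive h.1.1 hμ hVe (fun ν ν' hν hν' => ?_) (fun ν ν' hν hν' => ?_)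
    · obtain ⟨g, hg, e⟩ := Coset.stab_transitive hν hν'
      exact ⟨g, ⟨hN1 hg, hg⟩, e⟩
    · obtain ⟨g, hg, e⟩ := Coset.stab_transitive hν hν'
      exact ⟨g, ⟨hN2 hg, hg⟩, e⟩
  -- `Z` is nontrivial
  have hZV : Cfsg.vertexZ p lam ≤ V := by
    rw [hV]
    exact le_iSup_of_le (⟨lam, by rw [SimpleGraph.dist_self]; exact Nat.zero_le _⟩ : {ν : Cfsg.CosetVertex M₁ M₂ // (Cfsg.cosetGraph M₁ M₂).dist lam ν ≤ n}) le_rfl
  set T := (P : Subgroup ↥(MulAction.stabilizer X lam)).map (MulAction.stabilizer X lam).subtype with hT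
  have hTne : T ≠ ⊥ := by
    intro hbot
    rw [hT, Subgroup.map_eq_bot_iff_of_injective _ (MulAction.stabilizer X lam).subtype_injective] at hbot
    have hdiv : p ∣ Nat.card ↥(MulAction.stabilizer X lam) := by
      rcases lam with a | a
      · induction a using QuotientGroup.induction_on with
        | H x =>
          rw [Coset.stab_inl, Subgroup.card_map_of_injective (MulAut.conj x).injective]
          exact h.1.2.2.2.1
      · induction a using QuotientGroup.induction_on with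
        | H x =>
          rw [Coset.stab_inr, Subgroup.card_map_of_injective (MulAut.conj x).injective]
          exact h.1.2.2.2.2.1
    exact P.not_dvd_index (by rw [hbot, Subgroup.index_bot]; exact hdiv)
  haveI : Finite ↥T := Finite.of_injective (Subgroup.inclusion (Subgroup.map_subtype_le _ : T ≤ MulAction.stabilizer X lam))
    (Subgroup.inclusion_injective _)
  obtain ⟨z, hz, ho, hc⟩ : ∃ z ∈ T, orderOf z = p ∧ ∀ x ∈ T, x * z = z * x := by
    haveI : Nontrivial ↥T := (Subgroup.nontrivial_iff_ne_bot _).2 hTne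
    have hTp : IsPGroup p ↥T := P.isPGroup'.map _
    haveI := hTp.center_nontrivial
    obtain ⟨k, hk, hck⟩ := (hTp.to_subgroup (Subgroup.center ↥T)).nontrivial_iff_card.1 inferInstance
    obtain ⟨z, hz⟩ := exists_prime_orderOf_dvd_card' (G := Subgroup.center ↥T) p (hck ▸ dvd_pow_self p hk.ne')
    exact ⟨((z : ↥T) : X), (z : ↥T).2, by rw [Subgroup.orderOf_coe, Subgroup.orderOf_coe, hz],
      fun x hx => congrArg Subtype.val (Subgroup.mem_center_iff.1 z.2 ⟨x, hx⟩)⟩
  have hzZ : z ∈ Cfsg.vertexZ p lam :=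
    omega_le_vertexZ P hT.symm
      (Subgroup.subset_closure ⟨⟨hz, Subgroup.mem_centralizer_iff.2 hc⟩, ho ▸ pow_orderOf_eq_one z⟩)
  have := hZV hzZ
  rw [hVbot, Subgroup.mem_bot] at this
  rw [this, orderOf_one] at ho
  exact (Fact.out : p.Prime).one_lt.ne ho

end Cfsg.Agent.S2856
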