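import Cfsg.Statements.S2857
import Cfsg.Agent.S2856

set_option autoImplicit false
set_option linter.style.haveILetI false
open Cfsg

namespace Cfsg.Agent.S2857

open CfsgLib.Inv
open scoped commutatorElement
open Cfsg.Agent.S2856 (omega_le_vertexZ vertexZ_smul_le dist_smul decomp)

/-- Let (M₁, M₂) be an amalgam pair in X satisfying the rank-two standing hypothesis (characteristic p, the normalizers in M₁ and in M₂ of a Sylow p-subgroup of M₁ ∩ M₂ equal and contained in M₁ ∩ M₂, and strongly p-embedded residues), λ a vertex of the coset graph, L_λ the subgroup of its stabilizer generated by the p-elements, Q_λ = O_p of the stabilizer, O^p(L_λ) the subgroup of L_λ generated by its elements of order prime to p, and V_λ^{(k)} the subgroup generated by the Z_μ over the vertices μ at distance at most k from λ (Z_μ being generated by the Ω₁(Z(S)), S a Sylow p-subgroup of the stabilizer of μ). If n ≥ 2 and V_λ^{(n)} ≤ Q_λ, then O^p(L_λ) does not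 centralize V_λ^{(n)}/V_λ^{(n-2)}, that is, [V_λ^{(n)}, O^p(L_λ)] is not contained in V_λ^{(n-2)}. -/
theorem result {X : Type*} [Group X] {p : ℕ} [Fact p.Prime] (M₁ M₂ : Subgroup X) (h : Cfsg.IsSpeAmalgamPair p M₁ M₂) (lam : Cfsg.CosetVertex M₁ M₂) (n : ℕ) (hn : 2 ≤ n) (hVQ : Cfsg.vertexVIter p M₁ M₂ n lam ≤ Cfsg.vertexQ p lam) : ¬ ⁅Cfsg.vertexVIter p M₁ M₂ n lam, ((Cfsg.pResidual p ↥(Cfsg.pElementClosure p (MulAction.stabilizer X lam))).map (Cfsg.pElementClosure p (MulAction.stabilizer X lam)).subtype)⁆ ≤ Cfsg.vertexVIter p M₁ M₂ (n - 2) lam := by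
  intro hcon
  set Res := (Cfsg.pResidual p ↥(Cfsg.pElementClosure p (MulAction.stabilizer X lam))).map
    (Cfsg.pElementClosure p (MulAction.stabilizer X lam)).subtype with hRes
  set V := Cfsg.vertexVIter p M₁ M₂ n lam with hV
  obtain ⟨μ, hμ⟩ := Coset.exists_adj lam
  haveI := Coset.finite_stab h.1 lam
  haveI : Finite ↥(Cfsg.edgeStabilizer lam μ) :=
    Finite.of_injective (Subgroup.inclusion (inf_le_left : Cfsg.edgeStabilizer lam μ ≤ _))
      (Subgroup.inclusion_injective _)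
  obtain ⟨R⟩ : Nonempty (Sylow p ↥(Cfsg.edgeStabilizer lam μ)) := inferInstance
  obtain ⟨P, hP⟩ := Coset.edge_sylow h.1 hμ R
  set U := Cfsg.vertexVIter p M₁ M₂ (n - 1) μ with hU
  have hgen := h.1.1.1
  have hd1 : (Cfsg.cosetGraph M₁ M₂).dist lam μ ≤ 1 := by simpa using SimpleGraph.dist_le hμ.toWalk
  have hUV : U ≤ V := by
    rw [hU, hV]
    refine iSup_le fun ν => ?_
    refine le_iSup_of_le (⟨(ν : Cfsg.CosetVertex M₁ M₂), ?_⟩ : {ν : Cfsg.CosetVertex M₁ M₂ // (Cfsg.cosetGraph M₁ M₂).dist lam ν ≤ n}) le_rfl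
    have := (Coset.connected hgen).dist_triangle (u := lam) (v := μ) (w := (ν : Cfsg.CosetVertex M₁ M₂))
    have := ν.2
    omega
  have hWU : Cfsg.vertexVIter p M₁ M₂ (n - 2) lam ≤ U := by
    rw [hU]
    refine iSup_le fun ν => ?_
    refine le_iSup_of_le (⟨(ν : Cfsg.CosetVertex M₁ M₂), ?_⟩ : {ν : Cfsg.CosetVertex M₁ M₂ // (Cfsg.cosetGraph M₁ M₂).dist μ ν ≤ n - 1}) le_rfl
    have h1 := (Coset.connected hgen).dist_triangle (u := μ) (v := lam) (w := (ν : Cfsg.CosetVertex M₁ M₂))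
    have h2 : (Cfsg.cosetGraph M₁ M₂).dist μ lam ≤ 1 := by rw [SimpleGraph.dist_comm]; exact hd1
    have := ν.2
    omega
  have hQl : Cfsg.vertexQ p lam ≤ MulAction.stabilizer X lam := Subgroup.map_subtype_le _
  have hQμ : Cfsg.vertexQ p lam ≤ MulAction.stabilizer X μ :=
    (Coset.vertexQ_le_edge h.1 hμ).trans inf_le_right
  have hnormV : ∀ (a : Cfsg.CosetVertex M₁ M₂) (k : ℕ),
      MulAction.stabilizer X a ≤ Subgroup.normalizer ((Cfsg.vertexVIter p M₁ M₂ k a : Subgroup X) : Set X) := by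
    intro a k
    rw [CfsgLib.Solv.le_normalizer_iff_forall_conj_mem]
    intro g hg x hx
    have hle : (Cfsg.vertexVIter p M₁ M₂ k a).map (MulAut.conj g).toMonoidHom ≤ Cfsg.vertexVIter p M₁ M₂ k a := by
      rw [Cfsg.vertexVIter, Subgroup.map_iSup]
      refine iSup_le fun ν => (vertexZ_smul_le h.1 g _).trans (le_iSup_of_le
        (⟨g • (ν : Cfsg.CosetVertex M₁ M₂), ?_⟩ : {ν : Cfsg.CosetVertex M₁ M₂ // (Cfsg.cosetGraph M₁ M₂).dist a ν ≤ k}) le_rfl)
      have e : g • a = a := hg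
      calc (Cfsg.cosetGraph M₁ M₂).dist a (g • (ν : Cfsg.CosetVertex M₁ M₂))
          = (Cfsg.cosetGraph M₁ M₂).dist (g • a) (g • (ν : Cfsg.CosetVertex M₁ M₂)) := by rw [e]
        _ ≤ _ := dist_smul hgen g _ _
        _ ≤ k := ν.2
    exact hle (Subgroup.mem_map_of_mem (MulAut.conj g).toMonoidHom hx)
  have hVU : V ≤ U := by
    conv_lhs => rw [hV]
    refine iSup_le fun ν => ?_
    by_cases h0 : (Cfsg.cosetGraph M₁ M₂).dist lam (ν : Cfsg.CosetVertex M₁ M₂) = 0
    · refine le_trans ?_ hWU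
      exact le_iSup_of_le (⟨(ν : Cfsg.CosetVertex M₁ M₂), by omega⟩ : {ν : Cfsg.CosetVertex M₁ M₂ // (Cfsg.cosetGraph M₁ M₂).dist lam ν ≤ n - 2}) le_rfl
    · obtain ⟨β, hβ, hβd⟩ := Coset.exists_step hgen (Nat.pos_of_ne_zero h0)
      obtain ⟨g, hg, rfl⟩ := Coset.stab_transitive hμ hβ
      obtain ⟨r, hr, f, -, hfμ, -, rfl⟩ := decomp h hμ R hg
      have e : (r * f) • μ = r • μ := by rw [mul_smul, hfμ]
      rw [e] at hβd
      intro z hz
      have hz' : r⁻¹ * z * r ∈ Cfsg.vertexZ p (r⁻¹ • (ν : Cfsg.CosetVertex M₁ M₂)) := by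
        have := vertexZ_smul_le h.1 r⁻¹ _ (Subgroup.mem_map_of_mem (MulAut.conj r⁻¹).toMonoidHom hz)
        simpa using this
      have hzU : r⁻¹ * z * r ∈ U := (le_iSup_of_le (⟨r⁻¹ • (ν : Cfsg.CosetVertex M₁ M₂), by
        have h1 := dist_smul hgen r⁻¹ (r • μ) (ν : Cfsg.CosetVertex M₁ M₂)
        rw [inv_smul_smul] at h1
        have := ν.2
        omega⟩ : {ν : Cfsg.CosetVertex M₁ M₂ // (Cfsg.cosetGraph M₁ M₂).dist μ ν ≤ n - 1}) le_rfl :
          Cfsg.vertexZ p (r⁻¹ • (ν : Cfsg.CosetVertex M₁ M₂)) ≤ U) hz'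
      have hc : ⁅r, r⁻¹ * z * r⁆ ∈ Cfsg.vertexVIter p M₁ M₂ (n - 2) lam := hcon (by
        rw [← commutatorElement_inv]
        exact inv_mem (Subgroup.commutator_mem_commutator (hUV hzU) hr))
      have := mul_mem (hWU hc) hzU
      rwa [show ⁅r, r⁻¹ * z * r⁆ * (r⁻¹ * z * r) = z by rw [commutatorElement_def]; group] at this
  have hN1 : MulAction.stabilizer X lam ≤ Subgroup.normalizer (V : Set X) := hnormV lam n
  have hN2 : MulAction.stabilizer X μ ≤ Subgroup.normalizer (V : Set X) := by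
    rw [le_antisymm hVU hUV]; exact hnormV μ (n - 1)
  have hVe : V ≤ Cfsg.edgeStabilizer lam μ := le_inf (hVQ.trans hQl) (hVQ.trans hQμ)
  have hVbot : V = ⊥ := by
    refine Coset.eq_bot_of_local_transitive h.1.1 hμ hVe (fun ν ν' hν hν' => ?_) (fun ν ν' hν hν' => ?_)
    · obtain ⟨g, hg, e⟩ := Coset.stab_transitive hν hν'
      exact ⟨g, ⟨hN1 hg, hg⟩, e⟩
    · obtain ⟨g, hg, e⟩ := Coset.stab_transitive hν hν'
      exact ⟨g, ⟨hN2 hg, hg⟩, e⟩
  -- `Z` is nontrivial
  have hZV : Cfsg.vertexZ p lam ≤ V := by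
    rw [hV]
    exact le_iSup_of_le (⟨lam, by rw [SimpleGraph.dist_self]; exact Nat.zero_le _⟩ : {ν : Cfsg.CosetVertex M₁ M₂ // (Cfsg.cosetGraph M₁ M₂).dist lam ν ≤ n}) le_rfl
  set T := (P : Subgroup ↥(MulAction.stabilizer X lam)).map (MulAction.stabilizer X lam).subtype with hT
  have hTne : T ≠ ⊥ := by
    intro hbot
    rw [hT, Subgroup.map_eq_bot_iff_of_injective _ (MulAction.stabilizer X lam).subtype_injective] at hbot
    have hdiv : p ∣ Nat.card ↥(MulAction.stabilizer X lam) := by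
      rcases lam with a | a
      · induction a using QuotientGroup.induction_on with
        | H x =>
          rw [Coset.stab_inl, Subgroup.card_map_of_injective (MulAut.conj x).injective]
          exact h.1.2.2.2.1
      · induction a using QuotientGroup.induction_on with
        | H x =>
          rw [Coset.stab_inr, Subgroup.card_map_of_injective (MulAut.conj x).injective]
          exact h.1.2.2.2.2.1
    exact P.not_dvd_index (by rw [hbot, Subgroup.index_bot]; exact hdiv)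
  haveI : Finite ↥T := Finite.of_injective (Subgroup.inclusion (Subgroup.map_subtype_le _ : T ≤ MulAction.stabilizer X lam))
    (Subgroup.inclusion_injective _)
  obtain ⟨z, hz, ho, hc⟩ : ∃ z ∈ T, orderOf z = p ∧ ∀ x ∈ T, x * z = z * x := by
    haveI : Nontrivial ↥T := (Subgroup.nontrivial_iff_ne_bot _).2 hTne
    have hTp : IsPGroup p ↥T := P.isPGroup'.map _
    haveI := hTp.center_nontrivial
    obtain ⟨k, hk, hck⟩ := (hTp.to_subgroup (Subgroup.center ↥T)).nontrivial_iff_card.1 inferInstance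
    obtain ⟨z, hz⟩ := exists_prime_orderOf_dvd_card' (G := Subgroup.center ↥T) p (hck ▸ dvd_pow_self p hk.ne')
    exact ⟨((z : ↥T) : X), (z : ↥T).2, by rw [Subgroup.orderOf_coe, Subgroup.orderOf_coe, hz],
      fun x hx => congrArg Subtype.val (Subgroup.mem_center_iff.1 z.2 ⟨x, hx⟩)⟩
  have hzZ : z ∈ Cfsg.vertexZ p lam :=
    omega_le_vertexZ P hT.symm
      (Subgroup.subset_closure ⟨⟨hz, Subgroup.mem_centralizer_iff.2 hc⟩, ho ▸ pow_orderOf_eq_one z⟩)
  have := hZV hzZ
  rw [hVbot, Subgroup.mem_bot] at this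
  rw [this, orderOf_one] at ho
  exact (Fact.out : p.Prime).one_lt.ne ho

end Cfsg.Agent.S2857
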