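import Cfsg.Statements.S2859
import Cfsg.Agent.Inv.LargeSub
import Cfsg.Agent.Inv.WeakClosed
import Cfsg.Agent.Inv.PMinimalBasic
import Cfsg.Agent.Inv.Transfer
import Cfsg.Agent.Solv.CoprimeAction

set_option autoImplicit false
open Cfsg

namespace Cfsg.Agent.S2859

open CfsgLib.Inv
open scoped commutatorElement

variable {G : Type*} [Group G] [Finite G] {p : ℕ} [hp : Fact p.Prime]

/-- `O^p` of a subgroup. -/
abbrev res (p : ℕ) (X : Subgroup G) : Subgroup G := (Cfsg.pResidual p ↥X).map X.subtype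

theorem res_le (X : Subgroup G) : res p X ≤ X := Subgroup.map_subtype_le _

theorem mem_res {X : Subgroup G} {x : G} (hx : x ∈ X) (ho : (orderOf x).Coprime p) : x ∈ res p X :=
  ⟨⟨x, hx⟩, Subgroup.subset_closure (show Nat.Coprime (orderOf (⟨x, hx⟩ : ↥X)) p by rwa [Subgroup.orderOf_mk]), rfl⟩

theorem res_le_of {X Y : Subgroup G} (h : ∀ x ∈ X, (orderOf x).Coprime p → x ∈ Y) : res p X ≤ Y := by
  rw [res, Subgroup.map_le_iff_le_comap, Cfsg.pResidual, Subgroup.closure_le]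
  rintro ⟨x, hx⟩ ho
  exact h x hx (by rwa [Set.mem_setOf_eq, Subgroup.orderOf_mk] at ho)

theorem normalizer_le_res (X : Subgroup G) :
    Subgroup.normalizer (X : Set G) ≤ Subgroup.normalizer (res p X : Set G) := by
  have key : ∀ g ∈ Subgroup.normalizer (X : Set G), res p X ≤ (res p X).comap (MulAut.conj g).toMonoidHom := by
    intro g hg
    refine res_le_of fun x hx ho => mem_res ((Subgroup.mem_normalizer_iff.1 hg x).1 hx) ?_
    show (orderOf (MulAut.conj g x)).Coprime p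
    rwa [MulEquiv.orderOf_eq]
  intro g hg
  rw [Subgroup.mem_normalizer_iff]
  intro x
  refine ⟨fun hx => key g hg hx, fun hx => ?_⟩
  have := key g⁻¹ (inv_mem hg) hx
  simpa [mul_assoc] using this

theorem pprime_mem {L R : Subgroup G} (hn : R ≤ Subgroup.normalizer (L : Set G)) (hR : IsPGroup p R) {x : G}
    (hx : x ∈ L ⊔ R) (ho : (orderOf x).Coprime p) : x ∈ L := by
  rw [← SetLike.mem_coe, Subgroup.coe_mul_of_right_le_normalizer_left L R hn] at hx
  obtain ⟨k, hk, j, hj, rfl⟩ := hx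
  obtain ⟨n, hn'⟩ := hR ⟨j, hj⟩
  have hpow : ∀ m : ℕ, (k * j) ^ m * (j ^ m)⁻¹ ∈ L := fun m => by
    induction m with
    | zero => simp
    | succ m ih =>
      have h2 : j ^ m * k * (j ^ m)⁻¹ ∈ L :=
        (Subgroup.mem_normalizer_iff.1 (hn (R.pow_mem hj m)) k).1 hk
      convert L.mul_mem ih h2 using 1
      rw [pow_succ, pow_succ]
      group
  have h2 : (k * j) ^ p ^ n ∈ L := by
    have := hpow (p ^ n)
    rwa [show j ^ p ^ n = 1 from congrArg Subtype.val hn', inv_one, mul_one] at this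
  obtain ⟨m, hm⟩ := exists_pow_eq_self_of_coprime (G := G) (x := k * j) (n := p ^ n)
    (Nat.Coprime.pow_left _ ho.symm)
  show k * j ∈ L
  rw [← hm]
  exact L.pow_mem h2 m

theorem conj_map_le {Q : Subgroup G} {g : G} {X : Subgroup G} (h : ∀ q ∈ Q, g * q * g⁻¹ ∈ X) :
    Q.map (MulAut.conj g).toMonoidHom ≤ X := by
  rintro _ ⟨q, hq, rfl⟩
  exact h q hq

theorem normalizer_le_wc (Q L : Subgroup G) :
    Subgroup.normalizer (L : Set G) ≤ Subgroup.normalizer (Cfsg.weakClosure Q L : Set G) := by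
  have key : ∀ g ∈ Subgroup.normalizer (L : Set G),
      Cfsg.weakClosure Q L ≤ (Cfsg.weakClosure Q L).comap (MulAut.conj g).toMonoidHom := by
    intro g hg
    refine iSup_le fun ⟨w, hw⟩ => ?_
    refine conj_map_le fun q hq => ?_
    have hgw : Q.map (MulAut.conj (g * w)).toMonoidHom ≤ L := conj_map_le fun q hq => by
      have := (Subgroup.mem_normalizer_iff.1 hg _).1 (hw ⟨q, hq, rfl⟩)
      simpa [mul_assoc] using this
    have h2 : Q.map (MulAut.conj (g * w)).toMonoidHom ≤ Cfsg.weakClosure Q L :=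
      le_iSup (fun g : {g : G // Q.map (MulAut.conj g).toMonoidHom ≤ L} =>
        Q.map (MulAut.conj (g : G)).toMonoidHom) ⟨g * w, hgw⟩
    have := h2 ⟨q, hq, rfl⟩
    simpa [mul_assoc] using this
  intro g hg
  rw [Subgroup.mem_normalizer_iff]
  intro x
  refine ⟨fun hx => key g hg hx, fun hx => ?_⟩
  have := key g⁻¹ (inv_mem hg) hx
  simpa [mul_assoc] using this

theorem conj_le_wc {Q L : Subgroup G} {g : G} (hg : ∀ q ∈ Q, g * q * g⁻¹ ∈ L) {q : G} (hq : q ∈ Q) :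
    g * q * g⁻¹ ∈ Cfsg.weakClosure Q L :=
  le_iSup (fun g : {g : G // Q.map (MulAut.conj g).toMonoidHom ≤ L} =>
    Q.map (MulAut.conj (g : G)).toMonoidHom) ⟨g, conj_map_le hg⟩ ⟨q, hq, rfl⟩

theorem le_wc {Q L : Subgroup G} (hQL : Q ≤ L) : Q ≤ Cfsg.weakClosure Q L := fun q hq => by
  have := conj_le_wc (L := L) (g := 1) (fun x hx => by simpa using hQL hx) hq
  simpa using this

theorem wc_le (Q L : Subgroup G) : Cfsg.weakClosure Q L ≤ L := iSup_le fun g => g.2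

/-- The weak closure is `O^p` extended by `Q`, and `O^p` is `[O^p, Q]`. -/
theorem wc_structure {Q L : Subgroup G} (hQp : IsPGroup p Q) (hwc : Cfsg.IsWeaklyClosedSubgroup p Q) (hQL : Q ≤ L) :
    Cfsg.weakClosure Q L = res p (Cfsg.weakClosure Q L) ⊔ Q ∧
      ⁅res p (Cfsg.weakClosure Q L), Q⁆ = res p (Cfsg.weakClosure Q L) := by
  set X := Cfsg.weakClosure Q L with hX
  set K := res p X with hK
  have hQX : Q ≤ X := le_wc hQL
  have hKX : K ≤ X := res_le X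
  have hXK : X ≤ Subgroup.normalizer (K : Set G) := Subgroup.le_normalizer.trans (normalizer_le_res X)
  have hgen : ∀ Y : Subgroup G, Q ≤ Y → X ≤ Subgroup.normalizer (Y : Set G) → X ≤ Y := by
    intro Y hQY hY
    refine iSup_le fun ⟨w, hw⟩ => ?_
    have hwX : Q.map (MulAut.conj w).toMonoidHom ≤ X :=
      le_iSup (fun g : {g : G // Q.map (MulAut.conj g).toMonoidHom ≤ L} =>
        Q.map (MulAut.conj (g : G)).toMonoidHom) ⟨w, hw⟩
    obtain ⟨k, hk, e⟩ := wc_conj_in hQp hwc hQX hwX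
    show Q.map (MulAut.conj w).toMonoidHom ≤ Y
    rw [e]
    exact conj_map_le fun q hq => (Subgroup.mem_normalizer_iff.1 (hY hk) q).1 (hQY hq)
  obtain ⟨S0, hS0⟩ := (hQp.comap_subtype (K := X)).exists_le_sylow
  set S := (S0 : Subgroup ↥X).map X.subtype
  have hQS : Q ≤ S := fun q hq => ⟨⟨q, hQX hq⟩, hS0 hq, rfl⟩
  have hSQ : S ≤ Subgroup.normalizer (Q : Set G) := wc_le_normalizer hwc (S0.isPGroup'.map _) hQS
  have hKS : X ≤ K ⊔ S := by
    intro x hx
    have h1 : (⟨x, hx⟩ : ↥X) ∈ Cfsg.pResidual p ↥X ⊔ (S0 : Subgroup ↥X) := by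
      rw [pResidual_sup_sylow S0]; trivial
    have := Subgroup.mem_map_of_mem X.subtype h1
    rwa [Subgroup.map_sup] at this
  have hnKQ : X ≤ Subgroup.normalizer ((K ⊔ Q : Subgroup G) : Set G) := by
    refine hKS.trans (sup_le (le_sup_left.trans Subgroup.le_normalizer) ?_)
    intro s hs
    refine Subgroup.mem_normalizer_iff_map_conj_eq.2 ?_
    rw [Subgroup.map_sup, Subgroup.mem_normalizer_iff_map_conj_eq.1 (hXK (Subgroup.map_subtype_le _ hs)),
      Subgroup.mem_normalizer_iff_map_conj_eq.1 (hSQ hs)]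
  have e1 : X = K ⊔ Q := le_antisymm (hgen _ le_sup_right hnKQ) (sup_le hKX hQX)
  refine ⟨e1, le_antisymm (CfsgLib.Solv.commutator_le_of_le_normalizer (hQX.trans hXK)) ?_⟩
  set D := ⁅K, Q⁆ with hD
  have hKD : K ≤ Subgroup.normalizer (D : Set G) := CfsgLib.Solv.left_le_normalizer_commutator K Q
  have hQD : Q ≤ Subgroup.normalizer (D : Set G) := CfsgLib.Solv.right_le_normalizer_commutator K Q
  have hn : X ≤ Subgroup.normalizer ((D ⊔ Q : Subgroup G) : Set G) := by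
    rw [e1]
    refine sup_le ?_ (le_sup_right.trans Subgroup.le_normalizer)
    rw [CfsgLib.Solv.le_normalizer_iff_forall_conj_mem]
    intro k hk
    show D ⊔ Q ≤ (D ⊔ Q).comap (MulAut.conj k).toMonoidHom
    refine sup_le (fun d hd => Subgroup.mem_sup_left ((Subgroup.mem_normalizer_iff.1 (hKD hk) d).1 hd)) fun q hq => ?_
    show k * q * k⁻¹ ∈ D ⊔ Q
    have := mul_mem (Subgroup.mem_sup_left (T := Q) (Subgroup.commutator_mem_commutator hk hq)) (Subgroup.mem_sup_right (S := D) hq)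
    rwa [commutatorElement_def, inv_mul_cancel_right] at this
  have hle := hgen _ le_sup_right hn
  exact res_le_of fun x hx ho => pprime_mem hQD hQp (hle hx) ho

theorem commutator_sup_le {A B C R : Subgroup G} [hR : R.Normal] (h1 : ⁅A, C⁆ ≤ R) (h2 : ⁅B, C⁆ ≤ R) :
    ⁅A ⊔ B, C⁆ ≤ R := by
  have key : ∀ X : Subgroup G, ⁅X, C⁆ ≤ R ↔ X.map (QuotientGroup.mk' R) ≤
      Subgroup.centralizer (C.map (QuotientGroup.mk' R) : Set (G ⧸ R)) := by
    intro X
    rw [← Subgroup.commutator_eq_bot_iff_le_centralizer, ← Subgroup.map_commutator, Subgroup.map_eq_bot_iff,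
      QuotientGroup.ker_mk']
  rw [key] at h1 h2 ⊢
  rw [Subgroup.map_sup]
  exact sup_le h1 h2

theorem half {Q Hc A B : Subgroup G} [hHn : Hc.Normal] (hQp : IsPGroup p Q) (hwc : Cfsg.IsWeaklyClosedSubgroup p Q)
    (hQH : Q ≤ Hc) (hA : A ≤ Hc ∧ Hc ≤ Subgroup.normalizer (A : Set G))
    (hB : B ≤ Hc ∧ Hc ≤ Subgroup.normalizer (B : Set G)) (hprod : A ⊔ B = Hc)
    (hcomm : ⁅A, B⁆ ≤ Subgroup.normalizer (Q : Set G)) (hHgen : Hc ≤ Cfsg.weakClosure Q Hc) :
    let K := res p (Cfsg.weakClosure Q (A ⊔ Q))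
    (⁅K, Q⁆ = K ∧ ⁅K, A⁆ = K ∧ K ≤ ⁅A, A⁆ ∧ Hc ≤ Subgroup.normalizer (K : Set G)) ∧
      ⁅K, B⁆ ≤ Cfsg.pCoreOf p Hc ∧ K ≤ A ∧
      (∀ h ∈ A, ∀ q ∈ Q, h * q * h⁻¹ ∈ K ⊔ Q) := by
  intro K
  set X := Cfsg.weakClosure Q (A ⊔ Q) with hX
  set R := Cfsg.pCoreOf p Hc with hR
  haveI : (Cfsg.pCore p ↥Hc).Characteristic := CfsgLib.Solv.pCore_characteristic
  haveI hRn : R.Normal := ConjAct.normal_of_characteristic_of_normal
  have hRp : IsPGroup p R := pCoreOf_pgroup Hc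
  have hRH : R ≤ Hc := pCoreOf_le_self Hc
  have hQA : Q ≤ Subgroup.normalizer (A : Set G) := hQH.trans hA.2
  obtain ⟨e1, e2⟩ := wc_structure hQp hwc (le_sup_right : Q ≤ A ⊔ Q)
  have hXA : ∀ g ∈ Subgroup.normalizer ((A ⊔ Q : Subgroup G) : Set G), g ∈ Subgroup.normalizer (K : Set G) :=
    fun g hg => normalizer_le_res X (normalizer_le_wc Q _ hg)
  have hKA : K ≤ A := res_le_of fun x hx ho => pprime_mem hQA hQp (wc_le Q _ hx) ho
  have hKH : K ≤ Hc := hKA.trans hA.1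
  have hAK : A ≤ Subgroup.normalizer (K : Set G) := fun a ha => hXA a (Subgroup.le_normalizer (Subgroup.mem_sup_left ha))
  -- the commutator of the factors
  set M := ⁅A, B⁆ with hM
  have hMn : Hc ≤ Subgroup.normalizer (M : Set G) := fun g hg => by
    refine Subgroup.mem_normalizer_iff_map_conj_eq.2 ?_
    rw [hM, Subgroup.map_commutator, Subgroup.mem_normalizer_iff_map_conj_eq.1 (hA.2 hg),
      Subgroup.mem_normalizer_iff_map_conj_eq.1 (hB.2 hg)]
  have hMH : M ≤ Hc := (Subgroup.commutator_le.2 fun a ha b hb => by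
    rw [commutatorElement_def]
    exact mul_mem (mul_mem (mul_mem (hA.1 ha) (hB.1 hb)) (inv_mem (hA.1 ha))) (inv_mem (hB.1 hb)))
  have hMQ : M ⊓ Q ≤ R := by
    have h1 : M ⊓ Q ≤ Cfsg.pCoreOf p M := by
      refine le_pCoreOf inf_le_left (hQp.to_le inf_le_right) ?_
      rw [CfsgLib.Solv.le_normalizer_iff_forall_conj_mem]
      intro m hm x hx
      exact Subgroup.mem_inf.2 ⟨mul_mem (mul_mem hm (Subgroup.mem_inf.1 hx).1) (inv_mem hm),
        (Subgroup.mem_normalizer_iff.1 (hcomm hm) x).1 (Subgroup.mem_inf.1 hx).2⟩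
    refine h1.trans (le_pCoreOf ((pCoreOf_le_self M).trans hMH) (pCoreOf_pgroup M) ?_)
    intro g hg
    have hmap : ∀ g ∈ Hc, ∀ x ∈ Cfsg.pCoreOf p M, g * x * g⁻¹ ∈ Cfsg.pCoreOf p M := by
      intro g hg x hx
      refine le_pCoreOf (X := (Cfsg.pCoreOf p M).map (MulAut.conj g).toMonoidHom) ?_ ((pCoreOf_pgroup M).map _) ?_ ⟨x, hx, rfl⟩
      · exact conj_map_le fun y hy => (Subgroup.mem_normalizer_iff.1 (hMn hg) y).1 (pCoreOf_le_self M hy)
      · rw [CfsgLib.Solv.le_normalizer_iff_forall_conj_mem]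
        intro k hk
        rintro _ ⟨y, hy, rfl⟩
        have hk' : g⁻¹ * k * g ∈ M := (Subgroup.mem_normalizer_iff''.1 (hMn hg) k).1 hk
        exact ⟨_, CfsgLib.Solv.le_normalizer_iff_forall_conj_mem.1 (le_normalizer_pCoreOf M) _ hk' y hy,
          by simp [mul_assoc]⟩
    rw [Subgroup.mem_normalizer_iff]
    intro x
    refine ⟨hmap g hg x, fun h => ?_⟩
    have := hmap g⁻¹ (inv_mem hg) _ h
    simpa [mul_assoc] using this
  have h0 : ⁅M, Q⁆ ≤ R := le_trans (Subgroup.commutator_le.2 fun m hm q hq => by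
      refine Subgroup.mem_inf.2 ⟨?_, ?_⟩
      · rw [commutatorElement_def, show m * q * m⁻¹ * q⁻¹ = m * (q * m⁻¹ * q⁻¹) by group]
        exact mul_mem hm ((Subgroup.mem_normalizer_iff.1 (hMn (hQH hq)) m⁻¹).1 (inv_mem hm))
      · rw [commutatorElement_def]
        exact mul_mem ((Subgroup.mem_normalizer_iff.1 (hcomm hm) q).1 hq) (inv_mem hq)) hMQ
  have hMHc : ⁅M, Hc⁆ ≤ R := by
    have key : ∀ X : Subgroup G, ⁅M, X⁆ ≤ R ↔ X.map (QuotientGroup.mk' R) ≤
        Subgroup.centralizer (M.map (QuotientGroup.mk' R) : Set (G ⧸ R)) := by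
      intro X
      rw [Subgroup.le_centralizer_iff, ← Subgroup.commutator_eq_bot_iff_le_centralizer, ← Subgroup.map_commutator,
        Subgroup.map_eq_bot_iff, QuotientGroup.ker_mk']
    rw [key, Subgroup.map_le_iff_le_comap]
    have hle : Hc ≤ Cfsg.weakClosure Q Hc := hHgen
    refine hle.trans (iSup_le fun ⟨w, hw⟩ => ?_)
    obtain ⟨k, hk, e⟩ := wc_conj_in hQp hwc hQH hw
    rw [← Subgroup.map_le_iff_le_comap, ← key]
    show ⁅M, Q.map (MulAut.conj w).toMonoidHom⁆ ≤ R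
    rw [e, ← Subgroup.mem_normalizer_iff_map_conj_eq.1 (hMn hk)]
    refine (Subgroup.map_commutator M Q _).ge.trans ?_
    rintro _ ⟨z, hz, rfl⟩
    exact hRn.conj_mem z (h0 hz) k
  have hKQ : ⁅K, Q⁆ = K := e2
  have hsplit : ∀ h ∈ Hc, ∃ a ∈ A, ∃ b ∈ B, h = a * b := fun h hh => by
    rw [← hprod, ← SetLike.mem_coe, Subgroup.coe_mul_of_right_le_normalizer_left A B (hB.1.trans hA.2)] at hh
    obtain ⟨a, ha, b, hb, rfl⟩ := hh
    exact ⟨a, ha, b, hb, rfl⟩
  have hKD : K ≤ ⁅A, A⁆ ⊔ M := by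
    rw [← hKQ]
    refine Subgroup.commutator_le.2 fun k hk q hq => ?_
    obtain ⟨a, ha, b, hb, rfl⟩ := hsplit q (hQH hq)
    have h1 : ⁅k, a⁆ ∈ ⁅A, A⁆ := Subgroup.commutator_mem_commutator (hKA hk) ha
    have h2 : a * ⁅k, b⁆ * a⁻¹ ∈ M :=
      (Subgroup.mem_normalizer_iff.1 (hMn (hA.1 ha)) _).1 (Subgroup.commutator_mem_commutator (hKA hk) hb)
    have e : ⁅k, a * b⁆ = ⁅k, a⁆ * (a * ⁅k, b⁆ * a⁻¹) := by simp only [commutatorElement_def]; group
    rw [e]
    exact mul_mem (Subgroup.mem_sup_left h1) (Subgroup.mem_sup_right h2)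
  have hKB : ⁅K, B⁆ ≤ R := by
    refine (Subgroup.commutator_mono hKD le_rfl).trans (commutator_sup_le ?_ ?_)
    · refine three_subgroup_le (le_top.trans_eq (Subgroup.normalizer_eq_top _).symm) (le_top.trans_eq (Subgroup.normalizer_eq_top _).symm) (le_top.trans_eq (Subgroup.normalizer_eq_top _).symm) ?_ ?_
      · exact (Subgroup.commutator_mono le_rfl hA.1).trans hMHc
      · rw [Subgroup.commutator_comm B A]
        exact (Subgroup.commutator_mono le_rfl hA.1).trans hMHc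
    · exact (Subgroup.commutator_mono le_rfl hB.1).trans hMHc
  have hRK : R ≤ Subgroup.normalizer (K : Set G) := fun r hr => hXA r (by
    obtain ⟨T, hT⟩ := hQp.exists_le_sylow
    have hRT : R ≤ (T : Subgroup G) := (CfsgLib.Solv.le_pCore hRp).trans (CfsgLib.Solv.pCore_le_sylow T)
    refine Subgroup.mem_normalizer_iff_map_conj_eq.2 ?_
    rw [Subgroup.map_sup, Subgroup.mem_normalizer_iff_map_conj_eq.1 (hA.2 (hRH hr)),
      Subgroup.mem_normalizer_iff_map_conj_eq.1 (wc_le_normalizer hwc T.isPGroup' hT (hRT hr))])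
  have hBK : B ≤ Subgroup.normalizer (K : Set G) := by
    have key : ∀ b ∈ B, K ≤ K.comap (MulAut.conj b).toMonoidHom := fun b hb => res_le_of fun x hx ho => by
      show b * x * b⁻¹ ∈ K
      have hxK : x ∈ K := mem_res hx ho
      have hc : b * x * b⁻¹ * x⁻¹ ∈ R := by
        rw [← commutatorElement_def, ← commutatorElement_inv]
        exact inv_mem (hKB (Subgroup.commutator_mem_commutator hxK hb))
      have hm : b * x * b⁻¹ ∈ R ⊔ K := by
        have := mul_mem (Subgroup.mem_sup_left (T := K) hc) (Subgroup.mem_sup_right (S := R) hxK)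
        rwa [inv_mul_cancel_right] at this
      rw [sup_comm] at hm
      exact pprime_mem hRK hRp hm (by
        show (orderOf (MulAut.conj b x)).Coprime p
        rwa [MulEquiv.orderOf_eq])
    intro b hb
    rw [Subgroup.mem_normalizer_iff]
    intro x
    refine ⟨fun hx => key b hb hx, fun hx => ?_⟩
    have := key b⁻¹ (inv_mem hb) hx
    simpa [mul_assoc] using this
  have hHK : Hc ≤ Subgroup.normalizer (K : Set G) := hprod.ge.trans (sup_le hAK hBK)
  have hKA' : ⁅K, A⁆ = K := by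
    refine le_antisymm (CfsgLib.Solv.commutator_le_of_le_normalizer hAK) ?_
    have hLn : Hc ≤ Subgroup.normalizer ((⁅K, A⁆ : Subgroup G) : Set G) := fun g hg => by
      refine Subgroup.mem_normalizer_iff_map_conj_eq.2 ?_
      rw [Subgroup.map_commutator, Subgroup.mem_normalizer_iff_map_conj_eq.1 (hHK hg),
        Subgroup.mem_normalizer_iff_map_conj_eq.1 (hA.2 hg)]
    have hle : K ≤ ⁅K, A⁆ ⊔ (R ⊓ K) := by
      conv_lhs => rw [← hKQ]
      refine Subgroup.commutator_le.2 fun k hk q hq => ?_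
      obtain ⟨a, ha, b, hb, rfl⟩ := hsplit q (hQH hq)
      have h1 : ⁅k, a⁆ ∈ ⁅K, A⁆ := Subgroup.commutator_mem_commutator hk ha
      have h2 : a * ⁅k, b⁆ * a⁻¹ ∈ R ⊓ K := Subgroup.mem_inf.2
        ⟨hRn.conj_mem _ (hKB (Subgroup.commutator_mem_commutator hk hb)) a,
          (Subgroup.mem_normalizer_iff.1 (hAK ha) _).1
            (CfsgLib.Solv.commutator_le_of_le_normalizer hBK (Subgroup.commutator_mem_commutator hk hb))⟩
      have e : ⁅k, a * b⁆ = ⁅k, a⁆ * (a * ⁅k, b⁆ * a⁻¹) := by simp only [commutatorElement_def]; group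
      rw [e]
      exact mul_mem (Subgroup.mem_sup_left h1) (Subgroup.mem_sup_right h2)
    refine res_le_of fun x hx ho => ?_
    exact pprime_mem ((inf_le_left.trans hRH).trans hLn) (hRp.to_le inf_le_left) (hle (mem_res hx ho)) ho
  refine ⟨⟨hKQ, hKA', hKA'.ge.trans (Subgroup.commutator_mono hKA le_rfl), hHK⟩, hKB, hKA, fun h hh q hq => ?_⟩
  rw [← e1]
  exact conj_le_wc (fun x hx => mul_mem (mul_mem (Subgroup.mem_sup_left hh) (Subgroup.mem_sup_right hx)) (inv_mem (Subgroup.mem_sup_left hh))) hq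

/-- Let Q be a nontrivial p-subgroup of the finite group H that is a weakly closed subgroup, H° the weak closure of Q in H (generated by the conjugates of Q) and H_∘ = O^p(H°). Suppose H₁, H₂ are normal subgroups of H° with H° = H₁H₂ and [H₁, H₂] ≤ N_H(Q), and put Kᵢ = O^p of the weak closure of Q in HᵢQ. Then for i = 1, 2: Kᵢ = [Kᵢ, Q] = [Kᵢ, Hᵢ] ≤ Hᵢ′ and Kᵢ is normal in H°; H_∘ = K₁K₂; and [K₁, K₂] ≤ O_p(H°). -/
theorem result {G : Type*} [Group G] [Finite G] {p : ℕ} [Fact p.Prime] (Q : Subgroup G) (hQp : IsPGroup p ↥Q) (hQ1 : Q ≠ ⊥) (hwc : Cfsg.IsWeaklyClosedSubgroup p Q) (Hc : Subgroup G) (hHc : Hc = Cfsg.weakClosure Q ⊤) (H₁ H₂ : Subgroup G) (hn₁ : H₁ ≤ Hc ∧ Hc ≤ Subgroup.normalizer ((H₁ : Subgroup G) : Set G)) (hn₂ : H₂ ≤ Hc ∧ Hc ≤ Subgroup.normalizer ((H₂ : Subgroup G) : Set G)) (hprod : H₁ ⊔ H₂ = Hc) (hcomm : ⁅H₁, H₂⁆ ≤ Subgroup.normalizer ((Q : Subgroup G) : Set G)) (K₁ K₂ : Subgroup G) (hK₁ : K₁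 = ((Cfsg.pResidual p ↥(Cfsg.weakClosure Q (H₁ ⊔ Q))).map ((Cfsg.weakClosure Q (H₁ ⊔ Q))).subtype)) (hK₂ : K₂ = ((Cfsg.pResidual p ↥(Cfsg.weakClosure Q (H₂ ⊔ Q))).map ((Cfsg.weakClosure Q (H₂ ⊔ Q))).subtype)) : (⁅K₁, Q⁆ = K₁ ∧ ⁅K₁, H₁⁆ = K₁ ∧ K₁ ≤ ⁅H₁, H₁⁆ ∧ Hc ≤ Subgroup.normalizer ((K₁ : Subgroup G) : Set G)) ∧ (⁅K₂, Q⁆ = K₂ ∧ ⁅K₂, H₂⁆ = K₂ ∧ K₂ ≤ ⁅H₂, H₂⁆ ∧ Hc ≤ Subgroup.normalizer ((K₂ : Subgroup G) : Set G)) ∧ K₁ ⊔ K₂ = ((Cfsg.pResidual p ↥Hc).map (Hc).subtype) ∧ ⁅K₁, K₂⁆ ≤ (Cfsg.pCoreOf p Hc) := by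
  subst hHc
  set Hc := Cfsg.weakClosure Q ⊤ with hHcdef
  haveI : Hc.Normal := Subgroup.normalizer_eq_top_iff.1 (top_le_iff.1
    (le_trans (by rw [Subgroup.normalizer_eq_top]) (normalizer_le_wc Q ⊤)))
  have hQH : Q ≤ Hc := le_wc le_top
  have hHgen : Hc ≤ Cfsg.weakClosure Q Hc := iSup_le fun ⟨w, hw⟩ =>
    le_iSup (fun g : {g : G // Q.map (MulAut.conj g).toMonoidHom ≤ Hc} => Q.map (MulAut.conj (g : G)).toMonoidHom)
      ⟨w, le_iSup (fun g : {g : G // Q.map (MulAut.conj g).toMonoidHom ≤ (⊤ : Subgroup G)} => Q.map (MulAut.conj (g : G)).toMonoidHom) ⟨w, hw⟩⟩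
  obtain ⟨⟨a1, a2, a3, a4⟩, a5, -, a7⟩ := half hQp hwc hQH hn₁ hn₂ hprod hcomm hHgen
  obtain ⟨⟨b1, b2, b3, b4⟩, -, -, b7⟩ := half hQp hwc hQH hn₂ hn₁ (by rw [sup_comm, hprod]) (by rw [Subgroup.commutator_comm]; exact hcomm) hHgen
  subst hK₁ hK₂
  refine ⟨⟨a1, a2, a3, a4⟩, ⟨b1, b2, b3, b4⟩, le_antisymm ?_ ?_, ?_⟩
  · refine sup_le ?_ ?_
    · exact res_le_of fun x hx ho => mem_res ((wc_le Q _).trans (sup_le hn₁.1 hQH) hx) ho
    · exact res_le_of fun x hx ho => mem_res ((wc_le Q _).trans (sup_le hn₂.1 hQH) hx) ho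
  · set N := res p (Cfsg.weakClosure Q (H₁ ⊔ Q)) ⊔ res p (Cfsg.weakClosure Q (H₂ ⊔ Q)) with hN
    have hNn : Hc ≤ Subgroup.normalizer (N : Set G) := fun g hg => by
      refine Subgroup.mem_normalizer_iff_map_conj_eq.2 ?_
      rw [hN, Subgroup.map_sup, Subgroup.mem_normalizer_iff_map_conj_eq.1 (a4 hg), Subgroup.mem_normalizer_iff_map_conj_eq.1 (b4 hg)]
    have hHN : Hc ≤ Subgroup.normalizer ((N ⊔ Q : Subgroup G) : Set G) := by
      conv_lhs => rw [← hprod]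
      have key : ∀ H : Subgroup G, H ≤ Hc → (∀ h ∈ H, ∀ q ∈ Q, h * q * h⁻¹ ∈ N ⊔ Q) →
          H ≤ Subgroup.normalizer ((N ⊔ Q : Subgroup G) : Set G) := by
        intro H hH hc
        rw [CfsgLib.Solv.le_normalizer_iff_forall_conj_mem]
        intro h hh
        show N ⊔ Q ≤ (N ⊔ Q).comap (MulAut.conj h).toMonoidHom
        exact sup_le (fun n hn => Subgroup.mem_sup_left ((Subgroup.mem_normalizer_iff.1 (hNn (hH hh)) n).1 hn)) fun q hq => hc h hh q hq
      exact sup_le (key H₁ hn₁.1 fun h hh q hq => (sup_le_sup_right le_sup_left Q) (a7 h hh q hq))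
        (key H₂ hn₂.1 fun h hh q hq => (sup_le_sup_right le_sup_right Q) (b7 h hh q hq))
    have hle : Hc ≤ N ⊔ Q := by
      refine iSup_le fun ⟨w, hw⟩ => ?_
      have hwX : Q.map (MulAut.conj w).toMonoidHom ≤ Hc :=
        le_iSup (fun g : {g : G // Q.map (MulAut.conj g).toMonoidHom ≤ (⊤ : Subgroup G)} =>
          Q.map (MulAut.conj (g : G)).toMonoidHom) ⟨w, hw⟩
      obtain ⟨k, hk, e⟩ := CfsgLib.Inv.wc_conj_in hQp hwc hQH hwX
      show Q.map (MulAut.conj w).toMonoidHom ≤ N ⊔ Q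
      rw [e]
      exact conj_map_le fun q hq => (Subgroup.mem_normalizer_iff.1 (hHN hk) q).1 (Subgroup.mem_sup_right hq)
    exact res_le_of fun x hx ho => pprime_mem (hQH.trans hNn) hQp (hle hx) ho
  · exact (Subgroup.commutator_mono le_rfl ((half hQp hwc hQH hn₂ hn₁ (by rw [sup_comm, hprod]) (by rw [Subgroup.commutator_comm]; exact hcomm) hHgen).2.2.1)).trans a5

end Cfsg.Agent.S2859
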