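import Cfsg.Statements.S3746
import Cfsg.Agent.Inv.CharTwo

set_option autoImplicit false
open Cfsg
open scoped commutatorElement

namespace Cfsg.Agent.S3746

theorem quasisimple_of_central_extension {D Q : Type*} [Group D] [Group Q] (hperf : commutator D = ⊤)
    (f : D →* Q) (hf : Function.Surjective f) (hker : f.ker ≤ Subgroup.center D) (hQ : Cfsg.IsQuasisimple Q) :
    Cfsg.IsQuasisimple D := by
  haveI := CfsgLib.Inv.quasisimple_nontrivial hQ
  haveI : Nontrivial D := hf.nontrivial
  refine CfsgLib.Inv.quasisimple_of_dichotomy hperf fun N hN => ?_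
  haveI := hN
  haveI := hN.map f hf
  rcases CfsgLib.Inv.quasisimple_normal hQ (N.map f) with h | h
  · left
    intro n hn
    have hmem : ∀ k : D, n * k * n⁻¹ * k⁻¹ ∈ f.ker := fun k => by
      rw [MonoidHom.mem_ker]
      simp only [map_mul, map_inv]
      rw [(Subgroup.mem_center_iff.1 (h ⟨n, hn, rfl⟩) (f k)).symm]
      group
    let φ : D →* f.ker :=
      { toFun := fun k => ⟨n * k * n⁻¹ * k⁻¹, hmem k⟩
        map_one' := Subtype.ext (show n * 1 * n⁻¹ * 1⁻¹ = (1 : D) by group)
        map_mul' := fun a b => Subtype.ext (by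
          show n * (a * b) * n⁻¹ * (a * b)⁻¹ = (n * a * n⁻¹ * a⁻¹) * (n * b * n⁻¹ * b⁻¹)
          have h' := Subgroup.mem_center_iff.1 (hker (hmem b)) a
          calc n * (a * b) * n⁻¹ * (a * b)⁻¹ = n * a * n⁻¹ * a⁻¹ * (a * (n * b * n⁻¹ * b⁻¹)) * a⁻¹ := by group
            _ = _ := by rw [h']; group) }
    have hφ : commutator D ≤ φ.ker := by
      rw [commutator_def, Subgroup.commutator_le]
      intro a _ b _
      rw [MonoidHom.mem_ker, map_commutatorElement, commutatorElement_eq_one_iff_mul_comm]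
      exact Subtype.ext (Subgroup.mem_center_iff.1 (hker (φ b).2) (φ a))
    rw [hperf] at hφ
    refine Subgroup.mem_center_iff.2 fun k => ?_
    have h2 : n * k * n⁻¹ * k⁻¹ = 1 := congrArg Subtype.val (hφ (Subgroup.mem_top k))
    rw [mul_inv_eq_one, mul_inv_eq_iff_eq_mul] at h2
    exact h2.symm
  · right
    rw [eq_top_iff, ← hperf]
    rw [← Subgroup.Normal.quotient_commutative_iff_commutator_le]
    refine ⟨⟨fun x y => ?_⟩⟩
    have hsurj : ∀ q : D ⧸ N, ∃ z ∈ f.ker, QuotientGroup.mk' N z = q := by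
      intro q
      obtain ⟨d, rfl⟩ := QuotientGroup.mk'_surjective N q
      obtain ⟨n, hn, hnd⟩ : f d ∈ N.map f := h.symm ▸ Subgroup.mem_top _
      refine ⟨n⁻¹ * d, by rw [MonoidHom.mem_ker, map_mul, map_inv, hnd, inv_mul_cancel], ?_⟩
      rw [map_mul, map_inv, show QuotientGroup.mk' N n = 1 from (QuotientGroup.eq_one_iff n).2 hn, inv_one, one_mul]
    obtain ⟨a, ha, rfl⟩ := hsurj x
    obtain ⟨b, -, rfl⟩ := hsurj y
    exact (show Commute a b from (Subgroup.mem_center_iff.1 (hker ha) b).symm).map (QuotientGroup.mk' N)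


/-- Let Z ≤ Z(G) be a central subgroup of a finite group G and E a subgroup of G containing Z whose image E/Z is a component of G/Z (subnormal and quasisimple). Then the derived subgroup [E, E] is a component of G. -/
theorem result {G : Type*} [Group G] [Finite G] (Z : Subgroup G) (hZ : Z ≤ Subgroup.center G) [Z.Normal] (E : Subgroup G) (hZE : Z ≤ E) (hE : Cfsg.IsComponent (E.map (QuotientGroup.mk' Z))) : Cfsg.IsComponent ⁅E, E⁆ := by
  classical
  set π := QuotientGroup.mk' Z with hπ
  have hker : π.ker = Z := QuotientGroup.ker_mk' Z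
  have hEs : E.IsSubnormal := by
    have h := hE.1.comap π
    rwa [Subgroup.comap_map_eq, hker, sup_eq_left.2 hZE] at h
  set D := ⁅E, E⁆ with hD
  have hDE : D ≤ E := Subgroup.commutator_le_self E
  have hDmap : D.map π = E.map π := by
    rw [hD, Subgroup.map_commutator]; exact CfsgLib.Inv.component_commutator hE
  have hdec : ∀ e ∈ E, ∃ d ∈ D, ∃ z ∈ Z, e = d * z := by
    intro e he
    obtain ⟨d, hd, hde⟩ : π e ∈ D.map π := hDmap.symm ▸ ⟨e, he, rfl⟩
    exact ⟨d, hd, d⁻¹ * e, QuotientGroup.eq.1 hde, by group⟩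
  have hperf : ⁅D, D⁆ = D := by
    refine le_antisymm (Subgroup.commutator_mono hDE hDE) ?_
    conv_lhs => rw [hD]
    rw [Subgroup.commutator_le]
    intro a ha b hb
    obtain ⟨a', ha', z, hz, rfl⟩ := hdec a ha
    obtain ⟨b', hb', w, hw, rfl⟩ := hdec b hb
    have hz' : ∀ g, g * z = z * g := Subgroup.mem_center_iff.1 (hZ hz)
    have hw' : ∀ g, g * w = w * g := Subgroup.mem_center_iff.1 (hZ hw)
    have e : ⁅a' * z, b' * w⁆ = ⁅a', b'⁆ := by
      simp only [commutatorElement_def]
      have e1 : a' * z * (b' * w) * (a' * z)⁻¹ = a' * (b' * w) * a'⁻¹ := by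
        rw [hz' a']
        calc z * a' * (b' * w) * (z * a')⁻¹ = z * (a' * (b' * w) * a'⁻¹) * z⁻¹ := by group
          _ = _ := by rw [← hz' (a' * (b' * w) * a'⁻¹)]; group
      rw [e1, mul_inv_rev]
      calc a' * (b' * w) * a'⁻¹ * (w⁻¹ * b'⁻¹) = a' * b' * (w * a'⁻¹) * (w⁻¹ * b'⁻¹) := by group
        _ = _ := by rw [← hw' a'⁻¹]; group
    rw [e]
    exact Subgroup.commutator_mem_commutator ha' hb'
  have hDn : (D.subgroupOf E).Normal := by
    have h1 : D.subgroupOf E = commutator ↥E := by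
      refine Subgroup.map_injective E.subtype_injective ?_
      rw [Subgroup.subgroupOf_map_subtype, inf_eq_left.2 hDE, map_commutator_eq, Subgroup.range_subtype]
    rw [h1]; infer_instance
  refine ⟨?_, ?_⟩
  · have h := hDn.isSubnormal.trans' hEs
    rwa [Subgroup.subgroupOf_map_subtype, inf_eq_left.2 hDE] at h
  · refine quasisimple_of_central_extension (Subgroup.isPerfect_iff.2 hperf).commutator_eq_top (π.subgroupMap D)
      (MonoidHom.subgroupMap_surjective π D) (fun x hx => ?_)
      (CfsgLib.Inv.quasisimple_congr (MulEquiv.subgroupCongr hDmap.symm) hE.2)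
    have hxZ : (x : G) ∈ Z := (QuotientGroup.eq_one_iff _).1 (congrArg Subtype.val hx)
    exact Subgroup.mem_center_iff.2 fun y => Subtype.ext (Subgroup.mem_center_iff.1 (hZ hxZ) y)

end Cfsg.Agent.S3746
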