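import Cfsg.Statements.S2860
import Cfsg.Agent.S2859
import Cfsg.Agent.S3746
import Cfsg.Agent.Inv.FrakH
import Cfsg.Agent.Inv.Component
import Cfsg.Agent.Inv.FrakM
import Cfsg.Agent.Solv.Thompson

set_option autoImplicit false
set_option maxHeartbeats 400000
set_option linter.style.haveILetI false
open Cfsg
open CfsgLib.Inv
open scoped commutatorElement Pointwise

namespace Cfsg.Agent.S2860

open Cfsg.Agent.S2859 (res res_le mem_res res_le_of normalizer_le_res pprime_mem normalizer_le_wc le_wc wc_le wc_structure)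

theorem core_top {X : Type*} [Group X] [Finite X] {p : ℕ} [Fact p.Prime] (hX : Cfsg.pCore p X = ⊥) :
    Cfsg.pCoreOf p (⊤ : Subgroup X) = ⊥ := by
  refine le_bot_iff.1 fun x hx => ?_
  obtain ⟨y, hy, rfl⟩ := hx
  have h1 := CfsgLib.Solv.map_pCore_equiv (p := p) (Subgroup.topEquiv (G := X))
  have h2 : (y : X) ∈ (Cfsg.pCore p ↥(⊤ : Subgroup X)).map (Subgroup.topEquiv (G := X)).toMonoidHom := ⟨y, hy, rfl⟩
  rw [h1, hX] at h2
  exact h2

theorem normal_pgroup_bot {X : Type*} [Group X] [Finite X] {p : ℕ} [Fact p.Prime] (hX : Cfsg.pCore p X = ⊥)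
    {P : Subgroup X} (hP : IsPGroup p P) (hn : P.Normal) : P = ⊥ := by
  haveI := hn
  exact le_bot_iff.1 ((CfsgLib.Solv.le_pCore hP).trans hX.le)

theorem centralizer_bot {X : Type*} [Group X] [Finite X] {p : ℕ} [Fact p.Prime] (hX : Cfsg.pCore p X = ⊥)
    {K Y : Subgroup X} [K.Normal] (hres : ∀ x : X, (orderOf x).Coprime p → x ∈ K) (hY : IsPGroup p Y)
    (hYK : Y ≤ Subgroup.centralizer (K : Set X)) : Y = ⊥ := by
  refine le_bot_iff.1 ((FH.closed_of_comm (K := Subgroup.centralizer (K : Set X)) (H := ⊤) le_top ?_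
    (fun x hx hxo t ht => ?_) Y hY hYK).trans (core_top hX).le)
  · exact (FM.centralizer_normal_in (L := ⊤) (by rw [Subgroup.normalizer_eq_top]))
  · rw [commutatorElement_eq_one_iff_mul_comm.2 (Subgroup.mem_centralizer_iff.1 ht x (hres x hxo))]
    exact one_mem _

/-- The residual of the weak closure. -/
theorem result {G : Type*} [Group G] [Finite G] {p : ℕ} [Fact p.Prime] (Q : Subgroup G) (hQp : IsPGroup p ↥Q) (hQ1 : Q ≠ ⊥) (hQ : Cfsg.IsLarge Q) (U : Subgroup G) (hU : Cfsg.IsElementaryAbelian p U) (hU1 : U ≠ ⊥) (E : Subgroup G) (hQE : Q ≤ E) (hEU : E ≤ Subgroup.normalizer ((U : Subgroup G) : Set G)) (hQn : ¬ E ≤ Subgroup.normalizer ((Q : Subgroup G) : Set G)) [hn : ((Subgroup.centralizer ((U : Subgroup G) : Set G)).subgroupOf E).Normal] (hred : Cfsg.pCore p (↥E ⧸ (Subgroup.centralizer ((U : Subgroup G) : Set G)).subgroupOf E) = ⊥) (hqs : Cfsg.IsQuasisimple ↥(((Cfsg.pResidual p ↥E) ⊔ (Subgroup.centralizer ((U : Subgroup G) : Set G)).subgroupOf E).map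 (QuotientGroup.mk' ((Subgroup.centralizer ((U : Subgroup G) : Set G)).subgroupOf E)))) (Er : Subgroup G) (hEr : Er = ((Cfsg.pResidual p ↥(Cfsg.weakClosure Q E)).map ((Cfsg.weakClosure Q E)).subtype)) [hn2 : ((Subgroup.centralizer ((U : Subgroup G) : Set G)).subgroupOf Er).Normal] : ((Cfsg.pResidual p ↥E).map (E).subtype) ⊔ (E ⊓ Subgroup.centralizer ((U : Subgroup G) : Set G)) = Er ⊔ (E ⊓ Subgroup.centralizer ((U : Subgroup G) : Set G)) ∧ ⁅Er, Er⁆ = Er ∧ ((Cfsg.pResidual p ↥Er).map (Er).subtype) = Er ∧ Cfsg.IsQuasisimple (↥Er ⧸ (Subgroup.centralizer ((U : Subgroup G) : Set G)).subgroupOf Er) ∧ Cfsg.IsQuasisimple (↥Er ⧸ Cfsg.pCore p ↥Er) ∧ ∀ Y : Subgroup G, Y ≤ E → IsPGroup p ↥Y → ¬ Y ≤ Subgroup.centralizer ((U : Subgroup G) : Set G) → ⁅Er, Y⁆ = Er := by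
  set C := Subgroup.centralizer (U : Set G) with hC
  set q := QuotientGroup.mk' (C.subgroupOf E) with hq
  have hqs' : Function.Surjective q := QuotientGroup.mk'_surjective _
  have hqk : ∀ x : E, q x = 1 ↔ (x : G) ∈ C := fun x => QuotientGroup.eq_one_iff x
  set K := ((Cfsg.pResidual p ↥E) ⊔ C.subgroupOf E).map q with hK
  have hKres : K = (Cfsg.pResidual p ↥E).map q := by
    rw [hK, Subgroup.map_sup, hq, QuotientGroup.map_mk'_self, sup_bot_eq]
  have hKc : ∀ x : ↥E ⧸ C.subgroupOf E, (orderOf x).Coprime p → x ∈ K := by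
    intro x hx
    rw [hKres, map_pResidual q hqs']
    exact Subgroup.subset_closure hx
  haveI hKn : K.Normal := by
    haveI : (Cfsg.pResidual p ↥E).Normal := by
      haveI := CfsgLib.Solv.pResidual_char p ↥E
      infer_instance
    rw [hKres]
    exact Subgroup.Normal.map inferInstance q hqs'
  have hUp : IsPGroup p U := fun x => ⟨1, Subtype.ext (by simpa using hU.2 x x.2)⟩
  have hwc := large_wc hQp hQ1 hQ
  set W := Cfsg.weakClosure Q E with hW
  obtain ⟨hWeq, hErQ⟩ := wc_structure hQp hwc hQE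
  replace hEr : Er = res p W := hEr
  rw [← hW, ← hEr] at hWeq hErQ
  have hWE : W ≤ E := wc_le Q E
  have hErE : Er ≤ E := hEr ▸ (res_le W).trans hWE
  have hEn : E ≤ Subgroup.normalizer (Er : Set G) :=
    hEr ▸ Subgroup.le_normalizer.trans ((normalizer_le_wc Q E).trans (normalizer_le_res W))
  have hCN : C ≤ Subgroup.normalizer (Q : Set G) := by
    obtain ⟨y, -, hy, hyN, -⟩ := large_y hQp hQ hUp hU1 (hQE.trans hEU)
    exact fun c hc => hyN (Subgroup.mem_centralizer_singleton_iff.2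
      (Subgroup.mem_centralizer_iff.1 hc y (Subgroup.mem_inf.1 hy).1).symm)
  have hEC : E ≤ Subgroup.normalizer (C : Set G) := FM.centralizer_normal_in hEU
  set C0 := E ⊓ C with hC0
  have hEC0 : E ≤ Subgroup.normalizer (C0 : Set G) :=
    CfsgLib.Solv.le_normalizer_inf_of_le Subgroup.le_normalizer hEC
  set Z := Cfsg.pCoreOf p C0 with hZ
  have hEZ : E ≤ Subgroup.normalizer (Z : Set G) := by
    intro e he
    refine Subgroup.mem_normalizer_iff_map_conj_eq.2 (Subgroup.eq_of_le_of_card_ge ?_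
      (Subgroup.card_map_of_injective (MulAut.conj e).injective).ge)
    have h0 : C0.map (MulAut.conj e).toMonoidHom = C0 := Subgroup.mem_normalizer_iff_map_conj_eq.1 (hEC0 he)
    refine le_pCoreOf ((Subgroup.map_mono (pCoreOf_le_self C0)).trans h0.le) ((pCoreOf_pgroup C0).map _) ?_
    conv_lhs => rw [← h0]
    exact (Subgroup.map_mono (le_normalizer_pCoreOf C0)).trans (Subgroup.le_normalizer_map _)
  have hC0Q : ⁅C0, Q⁆ ≤ Z := by
    rw [Subgroup.commutator_le]
    intro c hc x hx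
    have hle : Q ⊓ C0 ≤ Z := le_pCoreOf inf_le_right (hQp.to_le inf_le_left)
      (CfsgLib.Solv.le_normalizer_inf_of_le (inf_le_right.trans hCN) Subgroup.le_normalizer)
    exact hle (Subgroup.mem_inf.2 ⟨comm_mem_right hx (hCN (Subgroup.mem_inf.1 hc).2), comm_mem_left hc (hEC0 (hQE hx))⟩)
  have hErC0 : ⁅Er, C0⁆ ≤ Z := by
    rw [← hErQ]
    refine three_subgroup_le (hErE.trans hEZ) (hQE.trans hEZ) ((inf_le_left : C0 ≤ E).trans hEZ) ?_ ?_
    · refine (Subgroup.commutator_mono ?_ le_rfl).trans (CfsgLib.Solv.commutator_le_of_le_normalizer (hErE.trans hEZ))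
      rw [Subgroup.commutator_comm]; exact hC0Q
    · refine (Subgroup.commutator_mono (?_ : ⁅C0, Er⁆ ≤ C0) le_rfl).trans hC0Q
      exact CfsgLib.Solv.commutator_le_of_le_normalizer (hErE.trans hEC0)
  have hQC : ¬ Q ≤ C := by
    intro h
    refine hQn (hEU.trans (hQ.2 U (fun u hu => Subgroup.mem_centralizer_iff.2 fun x hx => ?_) hU1))
    exact (Subgroup.mem_centralizer_iff.1 (h hx) u hu).symm
  set K1 := (Er.subgroupOf E).map q with hK1
  set Qb := (Q.subgroupOf E).map q with hQb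
  have hQbp : IsPGroup p Qb := hQp.comap_subtype.map q
  have hQb1 : Qb ≠ ⊥ := by
    intro h
    refine hQC fun x hx => ?_
    have h1 : q ⟨x, hQE hx⟩ ∈ Qb := Subgroup.mem_map_of_mem q hx
    rw [h, Subgroup.mem_bot] at h1
    exact (hqk _).1 h1
  have hK1K : K1 ≤ K := by
    rw [hK1, hKres]
    refine Subgroup.map_mono fun x hx => ?_
    have hle : Er ≤ (Cfsg.pResidual p ↥E).map E.subtype := by
      rw [hEr]
      exact res_le_of fun y hy hyo => mem_res (hWE hy) hyo
    exact (Subgroup.mem_map_iff_mem E.subtype_injective).1 (hle hx)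
  haveI : (Er.subgroupOf E).Normal := Subgroup.normal_subgroupOf_of_le_normalizer hEn
  haveI hK1n : K1.Normal := Subgroup.Normal.map inferInstance q hqs'
  have hWn : (K1 ⊔ Qb).Normal := by
    haveI : (W.subgroupOf E).Normal :=
      Subgroup.normal_subgroupOf_of_le_normalizer (Subgroup.le_normalizer.trans (normalizer_le_wc Q E))
    rw [hK1, hQb, ← Subgroup.map_sup, ← Subgroup.subgroupOf_sup hErE hQE, ← hWeq]
    exact Subgroup.Normal.map inferInstance q hqs'
  have hperf : ⁅K, K⁆ = K := by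
    haveI := hqs.1
    have h := congrArg (Subgroup.map K.subtype) (Group.IsPerfect.commutator_eq_top (G := K))
    rwa [commutator_def, Subgroup.map_commutator, ← MonoidHom.range_eq_map, Subgroup.range_subtype] at h
  have hcen : ∀ V : Subgroup (↥E ⧸ C.subgroupOf E), V ≤ K → K ≤ Subgroup.normalizer (V : Set _) → V ≠ K →
      ∀ v ∈ V, ∀ k ∈ K, v * k = k * v := by
    intro V hVK hn hne v hv k hk
    haveI : (V.subgroupOf K).Normal := Subgroup.normal_subgroupOf_of_le_normalizer hn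
    rcases quasisimple_normal hqs (V.subgroupOf K) with h | h
    · exact congrArg Subtype.val (Subgroup.mem_center_iff.1 (h (show (⟨v, hVK hv⟩ : K) ∈ V.subgroupOf K from hv)) ⟨k, hk⟩).symm
    · exact absurd (le_antisymm hVK (Subgroup.subgroupOf_eq_top.1 h)) hne
  have hK1eq : K1 = K := by
    by_contra hne
    have hc := hcen K1 hK1K (by rw [Subgroup.normalizer_eq_top]; exact le_top) hne
    have hK1p : ∀ x ∈ K1, ∀ y ∈ K1, x * y = y * x := fun x hx y hy => hc x hx y (hK1K hy)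
    have hKN : ¬ K ≤ K1 ⊔ Qb := by
      intro h
      refine hne (le_antisymm hK1K ?_)
      conv_lhs => rw [hKres]
      rw [Subgroup.map_le_iff_le_comap, Cfsg.pResidual, Subgroup.closure_le]
      intro x hx
      refine pprime_mem (R := Qb) (by rw [Subgroup.normalizer_eq_top]; exact le_top) hQbp (h ?_)
        (Nat.Coprime.coprime_dvd_left (orderOf_map_dvd q x) hx)
      exact hKc _ (Nat.Coprime.coprime_dvd_left (orderOf_map_dvd q x) hx)
    have hV : ⁅K, Qb⁆ ≤ K := Subgroup.commutator_le_left K Qb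
    have hV2 : ⁅K, Qb⁆ ≤ K1 ⊔ Qb := by
      haveI := hWn
      exact (Subgroup.commutator_mono le_rfl le_sup_right).trans (Subgroup.commutator_le_right K (K1 ⊔ Qb))
    have hc2 := hcen ⁅K, Qb⁆ hV (CfsgLib.Solv.left_le_normalizer_commutator K Qb) (fun e => hKN (e ▸ hV2))
    have h3 : ⁅K, Qb⁆ = ⊥ := by
      rw [← hperf]
      have hz : ⁅⁅K, Qb⁆, K⁆ = ⊥ := le_bot_iff.1 (Subgroup.commutator_le.2 fun v hv k hk =>
        Subgroup.mem_bot.2 (commutatorElement_eq_one_iff_mul_comm.2 (hc2 v hv k hk)))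
      exact Subgroup.commutator_commutator_eq_bot_of_rotate hz (by rw [Subgroup.commutator_comm Qb K]; exact hz)
    have h4 : K1 = ⊥ := by
      rw [← le_bot_iff, ← h3, hK1]
      rw [← hErQ]
      rintro _ ⟨x, hx, rfl⟩
      rw [SetLike.mem_coe, Subgroup.mem_subgroupOf] at hx
      have hle : ⁅Er, Q⁆ ≤ ((⁅K, Qb⁆).comap q).map E.subtype := Subgroup.commutator_le.2 fun r hr s hs =>
        ⟨⁅(⟨r, hErE hr⟩ : E), (⟨s, hQE hs⟩ : E)⁆, by
          show q _ ∈ ⁅K, Qb⁆
          rw [map_commutatorElement]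
          exact Subgroup.commutator_mem_commutator (hK1K ⟨_, hr, rfl⟩) ⟨_, hs, rfl⟩, rfl⟩
      obtain ⟨z, hz, hze⟩ := hle hx
      rw [← Subtype.ext hze]
      exact hz
    rw [h4, bot_sup_eq] at hWn
    exact hQb1 (normal_pgroup_bot hred hQbp hWn)
  have hdec : ∀ (x : G) (hxE : x ∈ E), (⟨x, hxE⟩ : E) ∈ (Cfsg.pResidual p ↥E) → x ∈ Er ⊔ C0 := by
    intro x hxE hx
    obtain ⟨r, hr, he⟩ : q ⟨x, hxE⟩ ∈ K1 := hK1eq.ge (hKres.ge (Subgroup.mem_map_of_mem q hx))
    have h1 : q (r⁻¹ * ⟨x, hxE⟩) = 1 := by rw [map_mul, map_inv, he, inv_mul_cancel]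
    have h2 := (hqk _).1 h1
    have h3 : (r : G)⁻¹ * x ∈ C0 := Subgroup.mem_inf.2 ⟨mul_mem (inv_mem r.2) hxE, h2⟩
    simpa using mul_mem (Subgroup.mem_sup_left (T := C0) (Subgroup.mem_subgroupOf.1 hr)) (Subgroup.mem_sup_right (S := Er) h3)
  have hEsplit : ∀ N : Subgroup G, N ≤ Er → (N.subgroupOf E).map q = K → Er ≤ N ⊔ C0 := by
    intro N hN he x hx
    obtain ⟨r, hr, hre⟩ : q ⟨x, hErE hx⟩ ∈ (N.subgroupOf E).map q := he.ge (hK1K (Subgroup.mem_map_of_mem q hx))
    have h2 := (hqk (r⁻¹ * ⟨x, hErE hx⟩)).1 (by rw [map_mul, map_inv, hre, inv_mul_cancel])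
    have h3 : (r : G)⁻¹ * x ∈ C0 := Subgroup.mem_inf.2 ⟨mul_mem (inv_mem r.2) (hErE hx), h2⟩
    simpa using mul_mem (Subgroup.mem_sup_left (T := C0) (Subgroup.mem_subgroupOf.1 hr)) (Subgroup.mem_sup_right (S := N) h3)
  have hZp : IsPGroup p Z := pCoreOf_pgroup C0
  have hmake : ∀ N : Subgroup G, N ≤ Er → ∀ A : Subgroup G, A ≤ E → ⁅Er, A⁆ = Er → A ≤ Subgroup.normalizer (N : Set G) →
      Er ≤ Subgroup.normalizer (N : Set G) → ⁅N, A⁆ ≤ N → ⁅C0, A⁆ ≤ Z → Er ≤ N ⊔ C0 → Er ≤ N := by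
    intro N hN A hAE hA hAN hErN hNA hCA hsplit
    have hC0N : C0 ⊓ Er ≤ Subgroup.normalizer (N : Set G) := inf_le_right.trans hErN
    set Z1 := Z ⊓ Er with hZ1
    have hle : Er ≤ N ⊔ Z1 := by
      conv_lhs => rw [← hA]
      rw [Subgroup.commutator_le]
      intro r hr a ha
      have hdecr : ∃ n ∈ N, ∃ c ∈ C0 ⊓ Er, r = n * c := by
        have h1 : r ∈ N ⊔ (C0 ⊓ Er) := by
          obtain ⟨n, hn', c, hc, e⟩ : r ∈ (N : Set G) * (C0 : Set G) := by
            rw [← Subgroup.coe_mul_of_left_le_normalizer_right N C0 ((hN.trans hErE).trans hEC0)]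
            exact hsplit hr
          rw [← e]
          exact mul_mem (Subgroup.mem_sup_left hn') (Subgroup.mem_sup_right (Subgroup.mem_inf.2 ⟨hc, by
            rw [show c = n⁻¹ * r from eq_inv_mul_of_mul_eq e]; exact mul_mem (inv_mem (hN hn')) hr⟩))
        rw [← SetLike.mem_coe, Subgroup.coe_mul_of_right_le_normalizer_left N (C0 ⊓ Er) hC0N] at h1
        obtain ⟨n, hn', c, hc, e⟩ := h1
        exact ⟨n, hn', c, hc, e.symm⟩
      obtain ⟨n, hn', c, hc, rfl⟩ := hdecr
      have h1 : ⁅c, a⁆ ∈ Z1 := Subgroup.mem_inf.2 ⟨hCA (Subgroup.commutator_mem_commutator (Subgroup.mem_inf.1 hc).1 ha),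
        comm_mem_left (Subgroup.mem_inf.1 hc).2 (hEn (hAE ha))⟩
      rw [show ⁅n * c, a⁆ = n * ⁅c, a⁆ * n⁻¹ * ⁅n, a⁆ by simp only [commutatorElement_def]; group]
      exact mul_mem (mul_mem (mul_mem (Subgroup.mem_sup_left hn') (Subgroup.mem_sup_right h1))
        (Subgroup.mem_sup_left (inv_mem hn'))) (Subgroup.mem_sup_left (hNA (Subgroup.commutator_mem_commutator hn' ha)))
    conv_lhs => rw [hEr]
    exact res_le_of fun x hx hxo => pprime_mem ((inf_le_right : Z1 ≤ Er).trans hErN) (hZp.to_le inf_le_left)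
      (hle (hEr.ge (mem_res hx hxo))) hxo
  have hperfEr : ⁅Er, Er⁆ = Er := by
    refine le_antisymm (Subgroup.commutator_le_self Er) ?_
    refine hmake _ (Subgroup.commutator_le_self Er) Q hQE hErQ ?_ (CfsgLib.Solv.left_le_normalizer_commutator Er Er) ?_ hC0Q ?_
    · rw [CfsgLib.Solv.le_normalizer_iff_forall_conj_mem]
      intro l hl x hx
      have hle : ⁅Er, Er⁆ ≤ (⁅Er, Er⁆).comap (MulAut.conj l).toMonoidHom := Subgroup.commutator_le.2 fun u hu w hw => by
        rw [Subgroup.mem_comap, map_commutatorElement]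
        exact Subgroup.commutator_mem_commutator ((Subgroup.mem_normalizer_iff.1 (hEn (hQE hl)) u).1 hu)
          ((Subgroup.mem_normalizer_iff.1 (hEn (hQE hl)) w).1 hw)
      exact hle hx
    · refine CfsgLib.Solv.commutator_le_of_le_normalizer ?_
      intro l hl
      refine CfsgLib.Solv.le_normalizer_iff_forall_conj_mem.2 (fun l hl x hx => ?_) hl
      have hle : ⁅Er, Er⁆ ≤ (⁅Er, Er⁆).comap (MulAut.conj l).toMonoidHom := Subgroup.commutator_le.2 fun u hu w hw => by
        rw [Subgroup.mem_comap, map_commutatorElement]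
        exact Subgroup.commutator_mem_commutator ((Subgroup.mem_normalizer_iff.1 (hEn (hQE hl)) u).1 hu)
          ((Subgroup.mem_normalizer_iff.1 (hEn (hQE hl)) w).1 hw)
      exact hle hx
    · refine hEsplit _ (Subgroup.commutator_le_self Er) ?_
      refine le_antisymm ((Subgroup.map_mono (Subgroup.comap_mono (Subgroup.commutator_le_self Er))).trans hK1eq.le) ?_
      conv_lhs => rw [← hperf, ← hK1eq]
      rw [hK1, ← Subgroup.map_commutator]
      refine Subgroup.map_mono (Subgroup.commutator_le.2 fun u hu w hw => ?_)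
      exact Subgroup.mem_subgroupOf.2 (Subgroup.commutator_mem_commutator hu hw)
  have hresEr : res p Er = Er := le_antisymm (res_le Er) (by
    conv_lhs => rw [hEr]
    exact res_le_of fun x hx hxo => mem_res (hEr.ge (mem_res hx hxo)) hxo)
  let ψ₀ : Er →* K := (q.comp (Subgroup.inclusion hErE)).codRestrict K fun x => hK1K ⟨Subgroup.inclusion hErE x, x.2, rfl⟩
  have hψs : Function.Surjective ψ₀ := by
    rintro ⟨k, hk⟩
    obtain ⟨r, hr, rfl⟩ := hK1eq.ge hk
    exact ⟨⟨r, hr⟩, rfl⟩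
  have hψk : ψ₀.ker = C.subgroupOf Er := by
    ext x
    rw [MonoidHom.mem_ker, Subgroup.mem_subgroupOf, ← Subtype.coe_inj]
    exact hqk (Subgroup.inclusion hErE x)
  have hq4 : Cfsg.IsQuasisimple (↥Er ⧸ C.subgroupOf Er) := quasisimple_congr
    ((QuotientGroup.quotientMulEquivOfEq hψk.symm).trans (QuotientGroup.quotientKerEquivOfSurjective ψ₀ hψs)).symm hqs
  refine ⟨?_, hperfEr, hresEr, hq4, ?_, ?_⟩
  · refine le_antisymm (sup_le ?_ le_sup_right) (sup_le_sup_right ?_ _)
    · rintro _ ⟨x, hx, rfl⟩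
      exact hdec x x.2 hx
    · rw [hEr]
      exact res_le_of fun y hy hyo => mem_res (hWE hy) hyo
  · haveI := CfsgLib.Solv.pCore_normal ↥Er p
    have hPC : Cfsg.pCore p ↥Er ≤ C.subgroupOf Er := by
      set Pn := Cfsg.pCoreOf p Er with hPn
      have hle : Pn ≤ Cfsg.pCoreOf p E := pCoreOf_le hErE hEn
      have hb : ((Cfsg.pCoreOf p E).subgroupOf E).map q = ⊥ := by
        refine normal_pgroup_bot hred ((pCoreOf_pgroup (p := p) E).comap_subtype.map q) ?_
        haveI : ((Cfsg.pCoreOf p E).subgroupOf E).Normal :=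
          Subgroup.normal_subgroupOf_of_le_normalizer (le_normalizer_pCoreOf E)
        exact Subgroup.Normal.map inferInstance q hqs'
      intro x hx
      have h1 : q ⟨x, hErE x.2⟩ ∈ ((Cfsg.pCoreOf p E).subgroupOf E).map q :=
        Subgroup.mem_map_of_mem q (hle (Subgroup.mem_map_of_mem Er.subtype hx))
      rw [hb, Subgroup.mem_bot] at h1
      exact (hqk _).1 h1
    set g := QuotientGroup.map (Cfsg.pCore p ↥Er) (C.subgroupOf Er) (MonoidHom.id _) hPC with hg
    refine Cfsg.Agent.S3746.quasisimple_of_central_extension ?_ g ?_ ?_ hq4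
    · haveI : Group.IsPerfect ↥Er := ⟨by
        rw [commutator_def]
        apply Subgroup.map_injective Er.subtype_injective
        rw [Subgroup.map_commutator, ← MonoidHom.range_eq_map, Subgroup.range_subtype, hperfEr]⟩
      exact (Group.IsPerfect.ofSurjective (f := QuotientGroup.mk' (Cfsg.pCore p ↥Er)) (QuotientGroup.mk'_surjective _)).commutator_eq_top
    · intro y
      obtain ⟨x, rfl⟩ := QuotientGroup.mk'_surjective _ y
      exact ⟨QuotientGroup.mk' _ x, rfl⟩
    · intro y hy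
      obtain ⟨x, rfl⟩ := QuotientGroup.mk'_surjective _ y
      have hxC : x ∈ C.subgroupOf Er := (QuotientGroup.eq_one_iff x).1 hy
      refine Subgroup.mem_center_iff.2 fun w => ?_
      obtain ⟨w, rfl⟩ := QuotientGroup.mk'_surjective _ w
      rw [← commutatorElement_eq_one_iff_mul_comm, ← map_commutatorElement]
      refine (QuotientGroup.eq_one_iff _).2 ?_
      have h1 : ⁅(w : G), (x : G)⁆ ∈ Z :=
        hErC0 (Subgroup.commutator_mem_commutator w.2 (Subgroup.mem_inf.2 ⟨hErE x.2, hxC⟩))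
      have h2 : Z ⊓ Er ≤ Cfsg.pCoreOf p Er := le_pCoreOf inf_le_right (hZp.to_le inf_le_left)
        (CfsgLib.Solv.le_normalizer_inf_of_le (hErE.trans hEZ) Subgroup.le_normalizer)
      exact (Subgroup.mem_map_iff_mem Er.subtype_injective).1
        (h2 (Subgroup.mem_inf.2 ⟨h1, (⁅w, x⁆ : Er).2⟩))
  · intro Y hYE hYp hYC
    set N := ⁅Er, Y⁆ with hN
    have hNEr : N ≤ Er := CfsgLib.Solv.commutator_le_of_le_normalizer (hYE.trans hEn)
    refine le_antisymm hNEr ?_
    have hErN : Er ≤ Subgroup.normalizer (N : Set G) := CfsgLib.Solv.left_le_normalizer_commutator Er Y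
    set Nb := (N.subgroupOf E).map q with hNb
    set Yb := (Y.subgroupOf E).map q with hYb
    have hNbK : Nb ≤ K := (Subgroup.map_mono (Subgroup.comap_mono hNEr)).trans hK1K
    by_cases hfull : Nb = K
    · refine hmake N hNEr Er hErE hperfEr hErN hErN ?_ ?_ (hEsplit N hNEr hfull)
      · exact CfsgLib.Solv.commutator_le_of_le_normalizer hErN
      · rw [Subgroup.commutator_comm]; exact hErC0
    · exfalso
      have hKN' : K ≤ Subgroup.normalizer (Nb : Set _) := by
        conv_lhs => rw [← hK1eq, hK1]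
        refine le_trans (Subgroup.map_mono fun x hx => ?_) (Subgroup.le_normalizer_map q)
        refine Subgroup.mem_normalizer_fintype fun w hw => ?_
        exact (Subgroup.mem_normalizer_iff.1 (hErN hx) w).1 hw
      have hc := hcen Nb hNbK hKN' hfull
      have hKY : ⁅K, Yb⁆ ≤ Nb := by
        conv_lhs => rw [← hK1eq, hK1, hYb, ← Subgroup.map_commutator]
        exact Subgroup.map_mono (Subgroup.commutator_le.2 fun u hu w hw =>
          Subgroup.mem_subgroupOf.2 (Subgroup.commutator_mem_commutator hu hw))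
      have hz : ⁅⁅K, Yb⁆, K⁆ = ⊥ := le_bot_iff.1 (Subgroup.commutator_le.2 fun v hv k hk =>
        Subgroup.mem_bot.2 (commutatorElement_eq_one_iff_mul_comm.2 (hc v (hKY hv) k hk)))
      have h3 : ⁅K, Yb⁆ = ⊥ := by
        rw [← hperf]
        exact Subgroup.commutator_commutator_eq_bot_of_rotate hz (by rw [Subgroup.commutator_comm Yb K]; exact hz)
      have hYb1 : Yb = ⊥ := centralizer_bot hred hKc (hYp.comap_subtype.map q)
        (Subgroup.commutator_eq_bot_iff_le_centralizer.1 (by rw [Subgroup.commutator_comm]; exact h3))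
      refine hYC fun y hy => ?_
      have h1 : q ⟨y, hYE hy⟩ ∈ Yb := Subgroup.mem_map_of_mem q hy
      rw [hYb1, Subgroup.mem_bot] at h1
      exact (hqk _).1 h1

end Cfsg.Agent.S2860
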