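import Cfsg.Statements.S2861
import Cfsg.Agent.Inv.YL
import Cfsg.Agent.Solv.ThompsonSubgroup
import Cfsg.Agent.Lie.GL2
import Cfsg.Agent.Lie.SzModels
import Cfsg.Agent.Suz.Props

set_option autoImplicit false
set_option maxHeartbeats 800000
set_option linter.style.haveILetI false
open Cfsg

namespace Cfsg.Agent.S2861

theorem mem_norm {G : Type*} [Group G] [Finite G] {H : Subgroup G} {g : G}
    (h : ∀ x ∈ H, g * x * g⁻¹ ∈ H) : g ∈ Subgroup.normalizer (H : Set G) := by
  have hle : H.map (MulAut.conj g).toMonoidHom ≤ H := by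
    rintro _ ⟨x, hx, rfl⟩
    exact h x hx
  exact Subgroup.mem_normalizer_iff_map_conj_eq.2 (Subgroup.eq_of_le_of_card_ge hle
    (Subgroup.card_map_of_injective (MulAut.conj g).injective).ge)

theorem card_two_case {K : Type*} [Group K] [Finite K] (Y V : Subgroup K) (hY2 : Nat.card Y = 2)
    (hpc : pCore 2 K = ⊥) (hmin : ∀ X : Subgroup K, Y ≤ X → X = ⊤ ∨ X ≤ Subgroup.normalizer (Y : Set K))
    (hVN : V ≤ Subgroup.normalizer (Y : Set K)) (hV1 : V ≠ ⊥) : V = Y := by
  haveI : Fact (Nat.Prime 2) := ⟨Nat.prime_two⟩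
  have key0 : ∀ M : Subgroup K, M.Normal → IsPGroup 2 M → M = ⊥ := fun M hM hp =>
    le_bot_iff.1 ((@CfsgLib.Solv.le_pCore K _ 2 M hM hp).trans hpc.le)
  haveI := fact_iff.2 Nat.prime_two
  obtain ⟨y', hy'⟩ := (isCyclic_of_prime_card (p := 2) hY2).exists_generator
  set y : K := (y' : K) with hydef
  have hyY : y ∈ Y := y'.2
  have hYy : ∀ z ∈ Y, z = 1 ∨ z = y := by
    intro z hz
    obtain ⟨k, hk⟩ := Subgroup.mem_zpowers_iff.1 (hy' ⟨z, hz⟩)
    have h2 : y' ^ (2 : ℤ) = 1 := by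
      rw [zpow_ofNat, ← hY2]
      exact pow_card_eq_one'
    have hz' : z = ((y' ^ k : Y) : K) := by rw [hk]
    rcases Int.even_or_odd k with ⟨j, rfl⟩ | ⟨j, rfl⟩
    · left
      rw [hz', ← two_mul, zpow_mul, h2, one_zpow]
      rfl
    · right
      rw [hz', zpow_add, zpow_mul, h2, one_zpow, one_mul, zpow_one]
  have hy2 : y * y = 1 := by
    have h : y' ^ 2 = 1 := by
      rw [← hY2]
      exact pow_card_eq_one'
    have := congrArg (fun w : Y => (w : K)) h
    simpa [pow_two] using this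
  have hY1 : Y ≠ ⊥ := fun h => by rw [h, Subgroup.card_bot] at hY2; omega
  have hy1 : y ≠ 1 := by
    intro h
    apply hY1
    refine le_bot_iff.1 fun z hz => ?_
    rcases hYy z hz with h' | h'
    · exact Subgroup.mem_bot.2 h'
    · exact Subgroup.mem_bot.2 (h'.trans h)
  have hyinv : y⁻¹ = y := inv_eq_of_mul_eq_one_right hy2
  have hnot : ¬ ∀ g : K, g * y * g⁻¹ ∈ Subgroup.normalizer (Y : Set K) := by
    intro h
    set C := Subgroup.normalClosure ({y} : Set K) with hC
    have hCN : C ≤ Subgroup.normalizer (Y : Set K) := by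
      rw [hC, Subgroup.normalClosure, Subgroup.closure_le]
      intro w hw
      obtain ⟨a, ha, hconj⟩ := Group.mem_conjugatesOfSet_iff.1 hw
      rw [Set.mem_singleton_iff] at ha
      subst ha
      obtain ⟨g, rfl⟩ := isConj_iff.1 hconj
      exact h g
    -- Y is normal in C, hence lies in the 2-core of C
    have hYC : Y ≤ C := fun z hz => by
      rcases hYy z hz with rfl | rfl
      · exact one_mem _
      · exact Subgroup.subset_normalClosure rfl
    haveI : (Y.subgroupOf C).Normal := Subgroup.normal_subgroupOf_of_le_normalizer hCN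
    haveI : C.Normal := Subgroup.normalClosure_normal
    haveI hchar : (pCore 2 ↥C).Characteristic := CfsgLib.Solv.pCore_characteristic
    have hp : IsPGroup 2 Y := IsPGroup.of_card (n := 1) (by rw [hY2]; norm_num)
    have h1 : Y.subgroupOf C ≤ pCore 2 ↥C := CfsgLib.Solv.le_pCore
      (hp.of_equiv (Subgroup.subgroupOfEquivOfLe hYC).symm)
    have h2 := key0 ((pCore 2 ↥C).map C.subtype) inferInstance ((CfsgLib.Solv.pCore_isPGroup ↥C 2).map _)
    apply hY1
    refine le_bot_iff.1 fun z hz => ?_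
    rw [← h2]
    exact ⟨⟨z, hYC hz⟩, h1 (Subgroup.mem_subgroupOf.2 hz), rfl⟩
  push Not at hnot
  obtain ⟨g, hg⟩ := hnot
  set z := g * y * g⁻¹ with hz
  have hz2 : z * z = 1 := by
    rw [hz, show g * y * g⁻¹ * (g * y * g⁻¹) = g * (y * y) * g⁻¹ by group, hy2]; group
  have hzinv : z⁻¹ = z := inv_eq_of_mul_eq_one_right hz2
  have htop : Subgroup.closure ({y, z} : Set K) = ⊤ := by
    refine (hmin _ fun w hw => ?_).resolve_right fun h => hg (h (Subgroup.subset_closure (Or.inr rfl)))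
    rcases hYy w hw with rfl | rfl
    · exact one_mem _
    · exact Subgroup.subset_closure (Or.inl rfl)
  set r := y * z with hr
  have hyr : y * r * y = r⁻¹ := by
    rw [hr, mul_inv_rev, hzinv, hyinv, show y * (y * z) * y = (y * y) * z * y by group, hy2, one_mul]
  have hyrz : ∀ k : ℤ, y * r ^ k * y = r ^ (-k) := by
    intro k
    have := map_zpow (MulAut.conj y).toMonoidHom r k
    simp only [MulEquiv.coe_toMonoidHom, MulAut.conj_apply, hyinv] at this
    rw [this, hyr, inv_zpow']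
  let R : Subgroup K :=
    { carrier := {w | ∃ k : ℤ, w = r ^ k ∨ w = y * r ^ k}
      one_mem' := ⟨0, Or.inl (zpow_zero r).symm⟩
      mul_mem' := by
        rintro a b ⟨i, hi⟩ ⟨j, hj⟩
        rcases hi with rfl | rfl <;> rcases hj with rfl | rfl
        · exact ⟨i + j, Or.inl (zpow_add r i j).symm⟩
        · refine ⟨-i + j, Or.inr ?_⟩
          rw [zpow_add, ← hyrz i]
          simp [mul_assoc, ← mul_assoc y y, hy2]
        · exact ⟨i + j, Or.inr (by rw [zpow_add, mul_assoc])⟩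
        · refine ⟨-i + j, Or.inl ?_⟩
          rw [zpow_add, ← hyrz i]
          simp [mul_assoc]
      inv_mem' := by
        rintro a ⟨i, rfl | rfl⟩
        · exact ⟨-i, Or.inl (zpow_neg r i).symm⟩
        · refine ⟨i, Or.inr ?_⟩
          rw [mul_inv_rev, hyinv, ← zpow_neg, ← hyrz i]
          simp [mul_assoc, hy2] }
  have hRtop : ∀ w : K, ∃ k : ℤ, w = r ^ k ∨ w = y * r ^ k := by
    intro w
    have : Subgroup.closure ({y, z} : Set K) ≤ R := (Subgroup.closure_le R).2 (by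
      rintro a (rfl | rfl)
      · exact ⟨0, Or.inr (by rw [zpow_zero, mul_one])⟩
      · exact ⟨1, Or.inr (by rw [zpow_one, hr, ← mul_assoc, hy2, one_mul])⟩)
    exact this (htop ▸ Subgroup.mem_top w)
  have hcen : ∀ k : ℤ, y * r ^ k = r ^ k * y → r ^ k = 1 := by
    intro k hk
    have h2k : r ^ k * r ^ k = 1 := by
      have := hyrz k
      rw [hk, mul_assoc, hy2, mul_one, zpow_neg] at this
      exact mul_eq_one_iff_eq_inv.2 this
    have hc : ∀ w : K, w * r ^ k = r ^ k * w := by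
      intro w
      obtain ⟨j, rfl | rfl⟩ := hRtop w
      · exact (Commute.zpow_zpow_self r j k).eq
      · rw [mul_assoc, (Commute.zpow_zpow_self r j k).eq, ← mul_assoc, hk, mul_assoc]
    haveI hn : (Subgroup.zpowers (r ^ k)).Normal := ⟨fun n hn w => by
      obtain ⟨i, rfl⟩ := Subgroup.mem_zpowers_iff.1 hn
      have : Commute w ((r ^ k) ^ i) := Commute.zpow_right (hc w) i
      rw [this.eq, mul_inv_cancel_right]
      exact Subgroup.zpow_mem_zpowers _ _⟩
    have h2 : orderOf (r ^ k) ∣ 2 := orderOf_dvd_of_pow_eq_one (by rw [pow_two, h2k])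
    have hp : IsPGroup 2 (Subgroup.zpowers (r ^ k)) := by
      obtain ⟨n, -, hn'⟩ := (Nat.dvd_prime_pow Nat.prime_two).1 (show orderOf (r ^ k) ∣ 2 ^ 1 by simpa using h2)
      exact IsPGroup.of_card (n := n) (by rw [Nat.card_zpowers, hn'])
    have := key0 _ hn hp
    exact Subgroup.zpowers_eq_bot.1 this
  have hle : V ≤ Y := by
    intro v hv
    have h1 := (Subgroup.mem_normalizer_iff.1 (hVN hv) y).1 hyY
    have hcomm : y * v = v * y := by
      rcases hYy _ h1 with h | h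
      · exact absurd (conj_eq_one_iff.1 h) hy1
      · exact (eq_mul_inv_iff_mul_eq.1 h.symm)
    obtain ⟨k, rfl | rfl⟩ := hRtop v
    · rw [hcen k hcomm]; exact one_mem _
    · have : y * r ^ k = r ^ k * y := by
        have := congrArg (y * ·) hcomm
        simp only [← mul_assoc, hy2, one_mul] at this
        exact this
      rw [hcen k this, mul_one]; exact hyY
  refine le_antisymm hle fun w hw => ?_
  obtain ⟨v, hv, hv1⟩ := V.bot_or_exists_ne_one.resolve_left hV1
  rcases hYy w hw with rfl | rfl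
  · exact one_mem _
  · rcases hYy v (hle hv) with rfl | rfl
    · exact absurd rfl hv1
    · exact hv

section SL2

open Matrix CfsgLib.Lie

theorem sl2_case {F : Type*} [Field F] [Fintype F] {p : ℕ} [Fact p.Prime]
    (Y V : Subgroup (SpecialLinearGroup (Fin 2) F)) (hY : IsPGroup p Y) (hYq : Nat.card Y = Fintype.card F)
    (hV : IsPGroup p V) (hVN : V ≤ Subgroup.normalizer (Y : Set (SpecialLinearGroup (Fin 2) F)))
    (hNV : Subgroup.normalizer (Y : Set (SpecialLinearGroup (Fin 2) F)) ≤ Subgroup.normalizer (V : Set (SpecialLinearGroup (Fin 2) F)))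
    (hV1 : V ≠ ⊥) : V = Y := by
  haveI : CharP F p := by
    obtain ⟨l, hl⟩ := CharP.exists F
    haveI := hl
    haveI : Fact l.Prime := ⟨CharP.char_is_prime F l⟩
    obtain ⟨n, -, hn⟩ := FiniteField.card F l
    obtain ⟨k, hk⟩ := IsPGroup.iff_card.1 hY
    rw [hYq, hn] at hk
    have hlp : l = p := by
      have h1 : l ∣ p ^ k := hk ▸ dvd_pow_self l n.ne_zero
      exact (Nat.prime_dvd_prime_iff_eq (Fact.out) (Fact.out)).1 ((Fact.out : l.Prime).dvd_of_dvd_pow h1)
    exact hlp ▸ hl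
  have hinj := SpecialLinearGroup.toGL_injective (n := Fin 2) (R := F)
  obtain ⟨P, hYP⟩ := hY.exists_le_sylow
  obtain ⟨S, hS⟩ := GL2.map_sylow_SL p P
  obtain ⟨g, hg⟩ := GL2.exists_conj_eq rfl p S
  have hcP : Nat.card P = Fintype.card F := by
    rw [← Subgroup.card_map_of_injective (f := SpecialLinearGroup.toGL) hinj, hS, hg,
      Subgroup.card_map_of_injective (MulAut.conj g).injective, GL2.card_unip rfl]
  have hYeq : Y = (P : Subgroup (SpecialLinearGroup (Fin 2) F)) :=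
    Subgroup.eq_of_le_of_card_ge hYP (by rw [hcP, hYq])
  have hmapY : Y.map SpecialLinearGroup.toGL = (GL2.unip F).map (MulAut.conj g).toMonoidHom := by
    rw [hYeq, hS, hg]
  have hVY : V ≤ Y := by
    have hVY' : IsPGroup p (V ⊔ Y : Subgroup (SpecialLinearGroup (Fin 2) F)) := hV.to_sup_of_normal_right' hY hVN
    have := P.is_maximal' hVY' (hYeq ▸ le_sup_right)
    rw [hYeq, ← this]
    exact le_sup_left
  set W : Subgroup (GL (Fin 2) F) := (V.map SpecialLinearGroup.toGL).comap (MulAut.conj g).toMonoidHom with hW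
  have hWu : W ≤ GL2.unip F := by
    intro x hx
    have h : (MulAut.conj g).toMonoidHom x ∈ Y.map SpecialLinearGroup.toGL :=
      Subgroup.map_mono hVY (Subgroup.mem_comap.1 hx)
    rw [hmapY] at h
    obtain ⟨x', hx', he⟩ := h
    exact (MulAut.conj g).injective he ▸ hx'
  have hWV : ∀ v ∈ V, ∃ x ∈ W, g * x * g⁻¹ = SpecialLinearGroup.toGL v := fun v hv =>
    ⟨g⁻¹ * SpecialLinearGroup.toGL v * g, by
      rw [hW, Subgroup.mem_comap]
      exact ⟨v, hv, by simp [mul_assoc]⟩, by group⟩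
  have hWconj : ∀ a : F, a ≠ 0 → ∀ b : F, GL2.u b ∈ W → GL2.u (a * a * b) ∈ W := by
    intro a ha b hb
    let d : GL (Fin 2) F := Matrix.GeneralLinearGroup.mkOfDetNeZero !![a, 0; 0, a⁻¹] (by simp [Matrix.det_fin_two, ha])
    have hd : ∀ c : F, d * GL2.u c * d⁻¹ = GL2.u (a * a * c) := by
      intro c
      rw [mul_inv_eq_iff_eq_mul]
      apply Units.ext
      simp only [Units.val_mul, GL2.coe_u, d, Matrix.GeneralLinearGroup.mkOfDetNeZero]
      ext i j
      fin_cases i <;> fin_cases j <;> simp [Matrix.mul_apply, Fin.sum_univ_two] <;> field_simp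
    have hdet : g * d * g⁻¹ ∈ (SpecialLinearGroup.toGL : SpecialLinearGroup (Fin 2) F →* GL (Fin 2) F).range := by
      rw [Orders.toGL_range_eq_det_ker, MonoidHom.mem_ker]
      simp only [map_mul, map_inv, mul_inv_cancel_comm]
      exact Units.ext (by simp [d, Matrix.GeneralLinearGroup.mkOfDetNeZero, Matrix.det_fin_two, ha])
    obtain ⟨s, hs⟩ := hdet
    have hsN : s ∈ Subgroup.normalizer (Y : Set (SpecialLinearGroup (Fin 2) F)) := by
      refine mem_norm fun w hw => ?_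
      have h : SpecialLinearGroup.toGL w ∈ Y.map SpecialLinearGroup.toGL := Subgroup.mem_map_of_mem _ hw
      rw [hmapY] at h
      obtain ⟨x, hx, hxe⟩ := h
      rw [← Subgroup.mem_map_iff_mem (f := (SpecialLinearGroup.toGL : SpecialLinearGroup (Fin 2) F →* GL (Fin 2) F)) hinj,
        map_mul, map_mul, map_inv, hs, ← hxe, hmapY]
      obtain ⟨c, rfl⟩ : ∃ c, x = GL2.u c := ⟨_, GL2.eq_u_of_mem hx⟩
      refine ⟨GL2.u (a * a * c), GL2.u_mem _, ?_⟩
      rw [← hd]
      simp only [MulEquiv.coe_toMonoidHom, MulAut.conj_apply]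
      group
    obtain ⟨v, hv, hve⟩ := Subgroup.mem_comap.1 hb
    refine Subgroup.mem_comap.2 ⟨s * v * s⁻¹, (Subgroup.mem_normalizer_iff.1 (hNV hsN) v).1 hv, ?_⟩
    rw [map_mul, map_mul, map_inv, hs, hve, ← hd]
    simp only [MulEquiv.coe_toMonoidHom, MulAut.conj_apply]
    group
  have umul : ∀ b c : F, GL2.u b * GL2.u c = GL2.u (b + c) := by
    intro b c
    apply Units.ext
    simp [Units.val_mul, Matrix.mul_fin_two, add_comm]
  obtain ⟨v, hv, hv1⟩ := V.bot_or_exists_ne_one.resolve_left hV1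
  obtain ⟨x, hx, hxe⟩ := hWV v hv
  obtain ⟨b, rfl⟩ : ∃ b, x = GL2.u b := ⟨_, GL2.eq_u_of_mem (hWu hx)⟩
  have u0 : GL2.u (0 : F) = 1 := Units.ext (by simp [Matrix.one_fin_two])
  have hb : b ≠ 0 := by
    rintro rfl
    rw [u0, mul_one, mul_inv_cancel] at hxe
    exact hv1 (hinj (hxe.symm.trans (map_one _).symm))
  have hsq : ∀ a : F, GL2.u (a * a * b) ∈ W := by
    intro a
    by_cases ha : a = 0
    · subst ha; simp [u0]
    · exact hWconj a ha b hx
  have hall : ∀ c : F, GL2.u c ∈ W := by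
    intro c
    by_cases h2 : ringChar F = 2
    · obtain ⟨a, ha⟩ := FiniteField.isSquare_of_char_two h2 (c / b)
      have := hsq a
      rwa [← ha, div_mul_cancel₀ c hb] at this
    · have h20 : (2 : F) ≠ 0 := Ring.two_ne_zero h2
      have hneg : GL2.u (-((c / b - 1) / 2 * ((c / b - 1) / 2) * b)) ∈ W := by
        have := W.inv_mem (hsq ((c / b - 1) / 2))
        convert this using 1
        exact (inv_eq_of_mul_eq_one_right (by rw [umul, add_neg_cancel, u0])).symm
      have := W.mul_mem (hsq ((c / b + 1) / 2)) hneg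
      rw [umul] at this
      convert this using 2
      field_simp
      ring
  refine le_antisymm hVY fun w hw => ?_
  have h : SpecialLinearGroup.toGL w ∈ Y.map SpecialLinearGroup.toGL := Subgroup.mem_map_of_mem _ hw
  rw [hmapY] at h
  obtain ⟨x, hx, hxe⟩ := h
  obtain ⟨c, rfl⟩ : ∃ c, x = GL2.u c := ⟨_, GL2.eq_u_of_mem hx⟩
  have h' := Subgroup.mem_comap.1 (hall c)
  rw [hxe] at h'
  exact (Subgroup.mem_map_iff_mem hinj).1 h'

end SL2

section Sz

open CfsgLib.Suz

theorem sz_case {F : Type*} [Field F] [Fintype F] {m : ℕ} (A : CfsgLib.Suz.Setup F m)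
    (Y V : Subgroup (Cfsg.Sz F m)) (hY : IsElementaryAbelian 2 Y) (hYq : Nat.card Y = Fintype.card F)
    (hV : IsElementaryAbelian 2 V) (hVN : V ≤ Subgroup.normalizer (Y : Set (Cfsg.Sz F m)))
    (hNV : Subgroup.normalizer (Y : Set (Cfsg.Sz F m)) ≤ Subgroup.normalizer (V : Set (Cfsg.Sz F m)))
    (hV1 : V ≠ ⊥) : V = Y := by
  haveI : Fact (Nat.Prime 2) := ⟨Nat.prime_two⟩
  have pg : ∀ {W : Subgroup (Cfsg.Sz F m)}, IsElementaryAbelian 2 W → IsPGroup 2 W := fun {W} h x =>
    ⟨1, Subtype.ext (by simpa using h.2 x x.2)⟩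
  obtain ⟨P, hYP⟩ := (pg hY).exists_le_sylow
  obtain ⟨g, hg⟩ := A.sylow_conj P
  set c := (MulAut.conj g).symm with hc
  set Y₀ := Y.map c.toMonoidHom with hY₀
  set V₀ := V.map c.toMonoidHom with hV₀
  have hY₀U : Y₀ ≤ A.U := by
    rintro _ ⟨y, hy, rfl⟩
    have := hYP hy
    rw [hg] at this
    obtain ⟨u, hu, rfl⟩ := this
    simpa [hc, mul_assoc] using hu
  have hinvol : ∀ {W : Subgroup (Cfsg.Sz F m)}, IsElementaryAbelian 2 W → W ≤ A.U → ∀ w ∈ W, ∃ b, w = A.T 0 b := by
    intro W hW hWU w hw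
    obtain ⟨a, b, rfl⟩ := A.mem_U.1 (hWU hw)
    have h2 := hW.2 _ hw
    rw [pow_two, A.T_sq_eq_one] at h2
    exact ⟨b, by rw [h2]⟩
  have eY := CfsgLib.Solv.isElementaryAbelian_map (f := c.toMonoidHom) hY
  have eV := CfsgLib.Solv.isElementaryAbelian_map (f := c.toMonoidHom) hV
  have hcardY : Nat.card Y₀ = Fintype.card F := by
    rw [hY₀, Subgroup.card_map_of_injective (f := c.toMonoidHom) c.injective, hYq]
  have hZY : ∀ b : F, A.T 0 b ∈ Y₀ := by
    have hf : ∀ y : Y₀, ∃ b, (y : Cfsg.Sz F m) = A.T 0 b := fun y => hinvol eY hY₀U y y.2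
    choose f hf using hf
    have hfi : Function.Injective f := fun y y' h => Subtype.ext (by rw [hf y, hf y', h])
    have hfb : Function.Bijective f :=
      hfi.bijective_of_nat_card_le (by rw [hcardY, Nat.card_eq_fintype_card])
    intro b
    obtain ⟨y, rfl⟩ := hfb.2 b
    exact hf y ▸ y.2
  have hN : ∀ {W : Subgroup (Cfsg.Sz F m)}, (Subgroup.normalizer (W : Set (Cfsg.Sz F m))).map c.toMonoidHom =
      Subgroup.normalizer ((W.map c.toMonoidHom : Subgroup (Cfsg.Sz F m)) : Set (Cfsg.Sz F m)) := fun {W} =>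
    Subgroup.map_equiv_normalizer_eq W c
  have hNV₀ : Subgroup.normalizer (Y₀ : Set (Cfsg.Sz F m)) ≤ Subgroup.normalizer (V₀ : Set (Cfsg.Sz F m)) := by
    rw [hY₀, hV₀, ← hN, ← hN]
    exact Subgroup.map_mono hNV
  have hUN : A.U ≤ Subgroup.normalizer (Y₀ : Set (Cfsg.Sz F m)) := by
    intro u hu
    refine mem_norm fun w hw => ?_
    obtain ⟨b, rfl⟩ := hinvol eY hY₀U w hw
    obtain ⟨s, t, rfl⟩ := A.mem_U.1 hu
    rw [A.T_conj, A.sg_zero]
    simpa using hZY _
  have hHN : ∀ k : Fˣ, A.H k ∈ Subgroup.normalizer (Y₀ : Set (Cfsg.Sz F m)) := fun k =>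
    mem_norm fun w hw => by
      obtain ⟨b, rfl⟩ := hinvol eY hY₀U w hw
      rw [A.H_conj, mul_zero]
      exact hZY _
  have hV₀U : V₀ ≤ A.U := by
    have hp : IsPGroup 2 (A.U ⊔ V₀ : Subgroup (Cfsg.Sz F m)) :=
      (A.sylU.isPGroup').to_sup_of_normal_right' ((pg eV)) (hUN.trans hNV₀)
    have := A.sylU.is_maximal' hp (A.sylU_coe ▸ le_sup_left)
    rw [← A.sylU_coe, ← this]
    exact le_sup_right
  have hV₀1 : V₀ ≠ ⊥ := fun h => hV1 ((Subgroup.map_eq_bot_iff_of_injective V c.injective).1 h)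
  obtain ⟨v, hv, hv1⟩ := V₀.bot_or_exists_ne_one.resolve_left hV₀1
  obtain ⟨b, rfl⟩ := hinvol eV hV₀U v hv
  have hb : b ≠ 0 := by rintro rfl; exact hv1 A.T_zero
  apply Subgroup.map_injective (f := c.toMonoidHom) c.injective
  show V₀ = Y₀
  refine le_antisymm (fun w hw => ?_) fun w hw => ?_
  · obtain ⟨d, rfl⟩ := hinvol eV hV₀U w hw
    exact hZY d
  · obtain ⟨d, rfl⟩ := hinvol eY hY₀U w hw
    by_cases hd : d = 0
    · subst hd; rw [A.T_zero]; exact one_mem _
    obtain ⟨k, hk⟩ := A.u_surj (div_ne_zero hd hb)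
    have := (Subgroup.mem_normalizer_iff.1 (hNV₀ (hHN k)) _).1 hv
    rw [A.H_conj, mul_zero, hk, div_mul_cancel₀ d hb] at this
    exact this

end Sz

/-- Large subgroup hypothesis, M in 𝔐_G with S ≤ M, and L ∈ 𝔏_G(Y_M). -/
theorem result {G : Type*} [Group G] [Finite G] {p : ℕ} [Fact p.Prime] (S : Sylow p G) (Q : Subgroup G) (hQp : IsPGroup p ↥Q) (hQ1 : Q ≠ ⊥) (hQS : Q ≤ (S : Subgroup G)) (hQ : Cfsg.IsLarge Q) (M : Subgroup G) (hSM : (S : Subgroup G) ≤ M) (hM : Cfsg.IsInFrakM p M) (L : Subgroup G) (hL : Cfsg.IsInFrakL p M L) (NL : Subgroup G) (hNL : NL = L ⊓ Subgroup.normalizer (((Cfsg.largestPReducedOf p M) : Subgroup G) : Set G)) [hn : (((Cfsg.pCoreOf p L)).subgroupOf NL).Normal] : let Ybar : Subgroup (↥NL ⧸ ((Cfsg.pCoreOf p L)).subgroupOf NL) := (((Cfsg.largestPReducedOf p M)).subgroupOf NL).map (QuotientGroup.mk' (((Cfsg.pCoreOf p L)).subgroupOf NL)); Ybar ≠ ⊥ ∧ Ybar.Normal ∧ Cfsg.IsElementaryAbelian p Ybar ∧ ∀ (V : Subgroup (↥NL ⧸ ((Cfsg.pCoreOf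 p L)).subgroupOf NL)), V.Normal → Cfsg.IsElementaryAbelian p V → V ≠ ⊥ → V = Ybar := by
  intro Ybar
  set Y := Cfsg.largestPReducedOf p M with hYdef
  obtain ⟨hYL, -, hAN, hMO, -, ⟨hlt, hmin⟩, hcase⟩ := hL
  have hAL : pCoreOf p L ≤ L := Subgroup.map_subtype_le _
  have hAleNL : pCoreOf p L ≤ NL := by rw [hNL]; exact le_inf hAL hAN
  have hYNL : Y ≤ NL := by rw [hNL]; exact le_inf hYL Subgroup.le_normalizer
  have hNLL : NL ≤ L := by rw [hNL]; exact inf_le_left
  have hYn : NL ≤ Subgroup.normalizer (Y : Set G) := by rw [hNL]; exact inf_le_right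
  have hYel : IsElementaryAbelian p Y :=
    CfsgLib.Solv.isElementaryAbelian_map ((CfsgLib.Inv.largestPReduced_spec (G := M) (p := p)).1.2.1)
  haveI := CfsgLib.Solv.pCore_normal (↥L) p
  set π := QuotientGroup.mk' (pCore p ↥L) with hπ
  have hπker : π.ker = pCore p ↥L := QuotientGroup.ker_mk' _
  have hAsub : (pCoreOf p L).subgroupOf L = pCore p ↥L :=
    Subgroup.comap_map_eq_self_of_injective L.subtype_injective _
  have hπs : Function.Surjective π := QuotientGroup.mk'_surjective _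
  set Y' := Y.subgroupOf L with hY'
  set Y₁ := Y'.map π with hY₁
  set N₁ := (NL.subgroupOf L).map π with hN₁
  have hA' : pCore p ↥L ≤ NL.subgroupOf L := hAsub ▸ Subgroup.comap_mono hAleNL
  have hN₁top : N₁ ≠ ⊤ := by
    intro h
    have h' := congrArg (Subgroup.comap π) h
    rw [hN₁, Subgroup.comap_map_eq, hπker, Subgroup.comap_top, sup_eq_left.2 hA'] at h'
    exact hlt.not_ge (hNL ▸ Subgroup.subgroupOf_eq_top.1 h')
  have hY₁1 : Y₁ ≠ ⊥ := by
    intro h
    rw [hY₁, Subgroup.map_eq_bot_iff, hπker, ← hAsub] at h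
    have hYA : Y ≤ pCoreOf p L := fun y hy => h (show (⟨y, hYL hy⟩ : L) ∈ Y' from hy)
    have h2 : (pCoreOf p L) < L := by
      refine lt_of_le_of_lt hAleNL ?_
      rw [hNL]; exact hlt
    have hcl := hMO.1
    have : Subgroup.normalClosure (Y' : Set L) ≤ pCore p ↥L := Subgroup.normalClosure_le_normal (by
      intro y hy; exact hAsub ▸ (h hy))
    rw [hcl, top_le_iff] at this
    apply h2.ne
    show (pCore p ↥L).map L.subtype = L
    rw [this, ← MonoidHom.range_eq_map, Subgroup.range_subtype]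
  have hY₁el : IsElementaryAbelian p Y₁ :=
    CfsgLib.Solv.isElementaryAbelian_map (CfsgLib.Solv.isElementaryAbelian_subgroupOf hYel)
  have pg : ∀ {H : Type _} [Group H] {W : Subgroup H}, IsElementaryAbelian p W → IsPGroup p W := by
    intro H _ W h x
    exact ⟨1, Subtype.ext (by simpa using h.2 x x.2)⟩
  have hpc : pCore p (↥L ⧸ pCore p ↥L) = ⊥ := by
    haveI := CfsgLib.Solv.pCore_normal (↥L ⧸ pCore p ↥L) p
    have h1 : IsPGroup p ((pCore p (↥L ⧸ pCore p ↥L)).comap π) :=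
      (CfsgLib.Solv.pCore_isPGroup _ p).comap_of_ker_isPGroup π (by rw [hπker]; exact CfsgLib.Solv.pCore_isPGroup _ p)
    have h2 : (pCore p (↥L ⧸ pCore p ↥L)).comap π ≤ pCore p ↥L := CfsgLib.Solv.le_pCore h1
    refine le_bot_iff.1 fun x hx => ?_
    obtain ⟨y, rfl⟩ := hπs x
    have := h2 hx
    rw [← hπker] at this
    exact Subgroup.mem_bot.2 this
  have hmin₁ : ∀ X : Subgroup (↥L ⧸ pCore p ↥L), Y₁ ≤ X → X = ⊤ ∨ X ≤ N₁ := by
    intro X hX
    by_cases h : X.comap π = ⊤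
    · exact Or.inl (by rw [← Subgroup.map_comap_eq_self_of_surjective hπs X, h, Subgroup.map_top_of_surjective π hπs])
    right
    have h1 : (X.comap π).map L.subtype ≤ L ⊓ Subgroup.normalizer (Y : Set G) := by
      refine hmin _ (fun y hy => ⟨⟨y, hYL hy⟩, hX ⟨_, hy, rfl⟩, rfl⟩) (lt_of_le_of_ne (Subgroup.map_subtype_le _) ?_)
      intro he
      apply h
      apply Subgroup.map_injective L.subtype_injective
      rw [he, ← MonoidHom.range_eq_map, Subgroup.range_subtype]
    rw [← Subgroup.map_comap_eq_self_of_surjective hπs X]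
    refine Subgroup.map_mono fun x hx => ?_
    rw [Subgroup.mem_subgroupOf, hNL]
    exact h1 ⟨x, hx, rfl⟩
  have hN₁le : N₁ ≤ Subgroup.normalizer (Y₁ : Set (↥L ⧸ pCore p ↥L)) := by
    haveI : (Y.subgroupOf NL).Normal := Subgroup.normal_subgroupOf_of_le_normalizer hYn
    refine le_trans (Subgroup.map_mono ?_) (Subgroup.le_normalizer_map π)
    intro x hx
    refine mem_norm fun y hy => ?_
    rw [Subgroup.mem_subgroupOf] at hy ⊢
    exact (Subgroup.mem_normalizer_iff.1 (hYn hx) _).1 hy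
  have hN₁eq : N₁ = Subgroup.normalizer (Y₁ : Set (↥L ⧸ pCore p ↥L)) := by
    refine le_antisymm hN₁le ((hmin₁ _ Subgroup.le_normalizer).resolve_left fun h => hY₁1 ?_)
    haveI : Y₁.Normal := Subgroup.normalizer_eq_top_iff.1 h
    exact le_bot_iff.1 ((CfsgLib.Solv.le_pCore (pg hY₁el)).trans hpc.le)
  -- the embedding of NL / A into L / A
  set A₀ := (pCoreOf p L).subgroupOf NL with hA₀
  have hker : A₀ ≤ (π.comp (Subgroup.inclusion hNLL)).ker := by
    intro x hx
    rw [MonoidHom.mem_ker, MonoidHom.comp_apply, ← MonoidHom.mem_ker, hπker, ← hAsub]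
    exact hx
  set ψ := QuotientGroup.lift A₀ (π.comp (Subgroup.inclusion hNLL)) hker with hψ
  have hψinj : Function.Injective ψ := by
    rw [← MonoidHom.ker_eq_bot_iff, hψ, QuotientGroup.ker_lift]
    refine le_bot_iff.1 ?_
    rintro _ ⟨x, hx, rfl⟩
    rw [SetLike.mem_coe, MonoidHom.mem_ker, MonoidHom.comp_apply, ← MonoidHom.mem_ker, hπker, ← hAsub] at hx
    exact Subgroup.mem_bot.2 ((QuotientGroup.eq_one_iff x).2 hx)
  have himg : ∀ (W : Subgroup G), W ≤ NL → ((W.subgroupOf NL).map (QuotientGroup.mk' A₀)).map ψ = (W.subgroupOf L).map π := by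
    intro W hW
    rw [Subgroup.map_map]
    refine le_antisymm ?_ ?_
    · rintro _ ⟨x, hx, rfl⟩
      exact ⟨Subgroup.inclusion hNLL x, hx, rfl⟩
    · rintro _ ⟨x, hx, rfl⟩
      exact ⟨⟨(x : G), hW hx⟩, hx, rfl⟩
  have hψY : Ybar.map ψ = Y₁ := himg Y hYNL
  have hψtop : (⊤ : Subgroup (↥NL ⧸ A₀)).map ψ = N₁ := by
    rw [hN₁, ← himg NL le_rfl, Subgroup.subgroupOf_self, Subgroup.map_top_of_surjective _ (QuotientGroup.mk'_surjective _)]
  refine ⟨fun h => hY₁1 (by rw [← hψY, h, Subgroup.map_bot]), ?_, ?_, ?_⟩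
  · haveI : (Y.subgroupOf NL).Normal := Subgroup.normal_subgroupOf_of_le_normalizer hYn
    exact Subgroup.Normal.map inferInstance _ (QuotientGroup.mk'_surjective _)
  · exact CfsgLib.Solv.isElementaryAbelian_map (CfsgLib.Solv.isElementaryAbelian_subgroupOf hYel)
  intro V hVn hVel hV1
  apply Subgroup.map_injective hψinj
  rw [hψY]
  set V₁ := V.map ψ with hV₁
  have hV₁el : IsElementaryAbelian p V₁ := CfsgLib.Solv.isElementaryAbelian_map hVel
  have hV₁1 : V₁ ≠ ⊥ := fun h => hV1 ((Subgroup.map_eq_bot_iff_of_injective V hψinj).1 h)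
  have hV₁N : V₁ ≤ Subgroup.normalizer (Y₁ : Set (↥L ⧸ pCore p ↥L)) := by
    rw [← hN₁eq, ← hψtop]; exact Subgroup.map_mono le_top
  have hNV₁ : Subgroup.normalizer (Y₁ : Set (↥L ⧸ pCore p ↥L)) ≤ Subgroup.normalizer (V₁ : Set (↥L ⧸ pCore p ↥L)) := by
    rw [← hN₁eq, ← hψtop]
    refine le_trans (Subgroup.map_mono ?_) (Subgroup.le_normalizer_map ψ)
    rw [Subgroup.normalizer_eq_top]
  have two : Nat.card Y₁ = 2 → p = 2 → V₁ = Y₁ := by
    intro h2 hp2
    subst hp2
    exact card_two_case Y₁ V₁ h2 hpc (hN₁eq ▸ hmin₁) hV₁N hV₁1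
  have hrel : (Y ⊓ pCoreOf p L).relIndex Y = Nat.card Y₁ := by
    rw [inf_comm, Subgroup.inf_relIndex_right, ← Subgroup.relIndex_subgroupOf hYL, hAsub, hY₁, ← Subgroup.relIndex_ker, hπker]
  rcases hcase with ⟨F, iF, iFF, hcard, ⟨e⟩⟩ | ⟨hp2, F, iF, iFF, m, hF2, hcard, ⟨e⟩⟩ | ⟨hp2, r, hr, hr2, ⟨e⟩⟩
  · rw [hrel] at hcard
    have he := sl2_case (p := p) (Y₁.map e.toMonoidHom) (V₁.map e.toMonoidHom) ((pg hY₁el).map _)
      (by rw [Subgroup.card_map_of_injective (f := e.toMonoidHom) e.injective, hcard]) ((pg hV₁el).map _)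
      (by rw [← Subgroup.map_equiv_normalizer_eq Y₁ e]; exact Subgroup.map_mono hV₁N)
      (by rw [← Subgroup.map_equiv_normalizer_eq Y₁ e, ← Subgroup.map_equiv_normalizer_eq V₁ e]
          exact Subgroup.map_mono hNV₁)
      (fun h => hV₁1 ((Subgroup.map_eq_bot_iff_of_injective V₁ e.injective).1 h))
    exact Subgroup.map_injective (f := e.toMonoidHom) e.injective he
  · subst hp2
    rw [hrel] at hcard
    by_cases hm : m = 0
    · subst hm
      exact two (by rw [← hcard, hF2]; norm_num) rfl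
    have A : CfsgLib.Suz.Setup F m := ⟨Nat.one_le_iff_ne_zero.2 hm, hF2⟩
    set e' := e.trans (CfsgLib.Lie.SzModels.iso A).symm with he'
    have he := sz_case A (Y₁.map e'.toMonoidHom) (V₁.map e'.toMonoidHom) (CfsgLib.Solv.isElementaryAbelian_map hY₁el)
      (by rw [Subgroup.card_map_of_injective (f := e'.toMonoidHom) e'.injective, hcard])
      (CfsgLib.Solv.isElementaryAbelian_map hV₁el)
      (by rw [← Subgroup.map_equiv_normalizer_eq Y₁ e']; exact Subgroup.map_mono hV₁N)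
      (by rw [← Subgroup.map_equiv_normalizer_eq Y₁ e', ← Subgroup.map_equiv_normalizer_eq V₁ e']
          exact Subgroup.map_mono hNV₁)
      (fun h => hV₁1 ((Subgroup.map_eq_bot_iff_of_injective V₁ e'.injective).1 h))
    exact Subgroup.map_injective (f := e'.toMonoidHom) e'.injective he
  · subst hp2
    refine two ?_ rfl
    obtain ⟨k, hk⟩ := IsPGroup.iff_card.1 (pg hY₁el)
    have hd : Nat.card Y₁ ∣ 2 * r := by
      have := Subgroup.card_subgroup_dvd_card Y₁
      rwa [Nat.card_congr e.toEquiv, DihedralGroup.nat_card] at this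
    have hk0 : k ≠ 0 := fun h => hY₁1 (Subgroup.card_eq_one.1 (by rw [hk, h, pow_zero]))
    rcases Nat.lt_or_ge k 2 with h | h
    · rw [hk, show k = 1 by omega, pow_one]
    · exfalso
      have h4 : 4 ∣ 2 * r := (show 4 ∣ 2 ^ k from (pow_dvd_pow 2 h)).trans (hk ▸ hd)
      have : 2 ∣ r := by omega
      exact hr2 ((Nat.prime_dvd_prime_iff_eq Nat.prime_two hr).1 this).symm

end Cfsg.Agent.S2861
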