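import Cfsg.Statements.S2864
import Cfsg.Agent.Inv.FrakM
import Cfsg.Agent.Solv.FittingBasic
import Cfsg.Agent.S2845

set_option autoImplicit false
open Cfsg

namespace Cfsg.Agent.S2864

/-- Standing hypotheses: G a finite group, S a Sylow p-subgroup, Q a nontrivial large p-subgroup of G contained in S, M a subgroup containing S with the basic property (M ∈ 𝔐_G(S)); Y_M the largest p-reduced normal subgroup of M and M† = M·C_G(Y_M). Let I be a nontrivial normal p-subgroup of M and Y ≤ O_p(M†); let L be a subgroup of G containing Y and A a normal p-subgroup of L with I ≤ A ≤ M. If [Y, A] ≤ [I, A], then Y ≤ O_p(L). -/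
theorem result {G : Type*} [Group G] [Finite G] {p : ℕ} [Fact p.Prime] (S : Sylow p G) (Q : Subgroup G) (hQp : IsPGroup p ↥Q) (hQ1 : Q ≠ ⊥) (hQS : Q ≤ (S : Subgroup G)) (hQ : Cfsg.IsLarge Q) (M : Subgroup G) (hSM : (S : Subgroup G) ≤ M) (hM : Cfsg.IsInFrakM p M) (I : Subgroup G) (hI1 : I ≠ ⊥) (hIp : IsPGroup p ↥I) (hIM : I ≤ M ∧ M ≤ Subgroup.normalizer ((I : Subgroup G) : Set G)) (Y : Subgroup G) (hY : Y ≤ (Cfsg.pCoreOf p (M ⊔ Subgroup.centralizer (((Cfsg.largestPReducedOf p M) : Subgroup G) : Set G)))) (L : Subgroup G) (hYL : Y ≤ L) (A : Subgroup G) (hAp : IsPGroup p ↥A) (hAL : A ≤ L ∧ L ≤ Subgroup.normalizer ((A : Subgroup G) : Set G)) (hIA : I ≤ A) (hAM : A ≤ M) (hc : ⁅Y, A⁆ ≤ ⁅I, A⁆) : Y ≤ (Cfsg.pCoreOf p L) := by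
  open CfsgLib.Inv in
  open scoped commutatorElement in
  exact (by
    obtain ⟨-, -, hpar⟩ := Cfsg.Agent.S2845.result Q hQp hQ1 hQ
    obtain ⟨hMF, -, huniq, -⟩ := hM
    set Md := M ⊔ Subgroup.centralizer (((Cfsg.largestPReducedOf p M) : Subgroup G) : Set G) with hMd
    set NI := Subgroup.normalizer (I : Set G) with hNI
    have hNIL : NI ∈ Cfsg.charPSubgroups p G := by
      have hle : I ≤ Cfsg.pCoreOf p NI := le_pCoreOf Subgroup.le_normalizer hIp le_rfl
      refine ⟨fun h => hI1 (le_bot_iff.1 (hle.trans (le_of_eq ?_))), fun x hx => ?_⟩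
      · show (Cfsg.pCore p ↥NI).map NI.subtype = ⊥
        rw [h, Subgroup.map_bot]
      · have hxN : x ∈ NI := Subgroup.centralizer_le_normalizer _ (Subgroup.centralizer_le (SetLike.coe_subset_coe.2 hle) hx)
        exact ⟨⟨x, hxN⟩, hpar I hIp hI1 ⟨S, hSM.trans hIM.2⟩ (mem_centralizer_map_subtype.1 hx), rfl⟩
    obtain ⟨X, ⟨hX, hNX⟩, hmax⟩ := Set.exists_max_image {X | X ∈ Cfsg.charPSubgroups p G ∧ NI ≤ X}
      (fun X => Nat.card X) (Set.toFinite _) ⟨NI, hNIL, le_rfl⟩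
    have hXmax : X ∈ Cfsg.maxCharPSubgroups p G :=
      ⟨hX, fun X' hX' hle => (Subgroup.eq_of_le_of_card_ge hle (hmax X' ⟨hX', hNX.trans hle⟩)).symm⟩
    have hNMd : NI ≤ Md := hNX.trans (huniq X hXmax (hIM.2.trans hNX)).le
    set D := L ⊓ Subgroup.centralizer (A : Set G) with hD
    set P0 := Cfsg.pCoreOf p L with hP0
    have hLD : L ≤ Subgroup.normalizer (D : Set G) :=
      CfsgLib.Solv.le_normalizer_inf_of_le Subgroup.le_normalizer (FM.centralizer_normal_in hAL.2)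
    have hDMd : D ≤ Md := (inf_le_right.trans ((Subgroup.centralizer_le (SetLike.coe_subset_coe.2 hIA)).trans
      (Subgroup.centralizer_le_normalizer _))).trans hNMd
    have hYD : ∀ y ∈ Y, ∀ d ∈ D, ⁅d, y⁆ ∈ P0 := by
      intro y hy d hd
      have h1 : ⁅d, y⁆ ∈ Cfsg.pCoreOf p Md ⊓ D := Subgroup.mem_inf.2
        ⟨comm_mem_right (hY hy) (le_normalizer_pCoreOf Md (hDMd hd)), comm_mem_left hd (hLD (hYL hy))⟩
      exact pCoreOf_le inf_le_left hLD (le_pCoreOf inf_le_right ((pCoreOf_pgroup Md).to_le inf_le_left)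
        (CfsgLib.Solv.le_normalizer_inf_of_le (hDMd.trans (le_normalizer_pCoreOf Md)) Subgroup.le_normalizer) h1)
    haveI := (Subgroup.normal_subgroupOf_iff_le_normalizer (pCoreOf_le_self (p := p) L)).2 (le_normalizer_pCoreOf L)
    set F := (frattini ↥A).map A.subtype with hF
    have hAF : L ≤ Subgroup.normalizer (F : Set G) := by
      rw [CfsgLib.Solv.le_normalizer_iff_forall_conj_mem]
      intro l hl x hx
      let f : ↥A ≃* ↥A :=
        { toFun := fun a => ⟨l * a * l⁻¹, (Subgroup.mem_normalizer_iff.1 (hAL.2 hl) a).1 a.2⟩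
          invFun := fun a => ⟨l⁻¹ * a * l, (Subgroup.mem_normalizer_iff''.1 (hAL.2 hl) a).1 a.2⟩
          left_inv := fun a => Subtype.ext (by simp [mul_assoc])
          right_inv := fun a => Subtype.ext (by simp [mul_assoc])
          map_mul' := fun a b => Subtype.ext (by simp [mul_assoc]) }
      obtain ⟨a, ha, rfl⟩ := hx
      have h1 : f a ∈ frattini ↥A := by
        have := (Subgroup.characteristic_iff_map_le.1 (frattini_characteristic (G := ↥A))) f (Subgroup.mem_map_of_mem _ ha)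
        exact this
      exact ⟨f a, h1, rfl⟩
    let K : Subgroup G :=
      { carrier := {x | x ∈ L ∧ (∀ a ∈ A, ⁅x, a⁆ ∈ F) ∧ ∀ d ∈ D, ⁅d, x⁆ ∈ P0}
        mul_mem' := fun {x y} hx hy => ⟨mul_mem hx.1 hy.1, fun a ha => by
            rw [show ⁅x * y, a⁆ = x * ⁅y, a⁆ * x⁻¹ * ⁅x, a⁆ by simp only [commutatorElement_def]; group]
            exact mul_mem ((Subgroup.mem_normalizer_iff.1 (hAF hx.1) _).1 (hy.2.1 a ha)) (hx.2.1 a ha),
          fun d hd => by
            rw [show ⁅d, x * y⁆ = ⁅d, x⁆ * (x * ⁅d, y⁆ * x⁻¹) by simp only [commutatorElement_def]; group]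
            exact mul_mem (hx.2.2 d hd) ((Subgroup.mem_normalizer_iff.1 (le_normalizer_pCoreOf L hx.1) _).1 (hy.2.2 d hd))⟩
        one_mem' := ⟨one_mem _, fun a _ => by simp, fun d _ => by simp⟩
        inv_mem' := fun {x} hx => ⟨inv_mem hx.1, fun a ha => by
            rw [show ⁅x⁻¹, a⁆ = x⁻¹ * ⁅x, a⁆⁻¹ * x⁻¹⁻¹ by simp only [commutatorElement_def]; group]
            exact (Subgroup.mem_normalizer_iff.1 (hAF (inv_mem hx.1)) _).1 (inv_mem (hx.2.1 a ha)),
          fun d hd => by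
            rw [show ⁅d, x⁻¹⁆ = x⁻¹ * ⁅d, x⁆⁻¹ * x⁻¹⁻¹ by simp only [commutatorElement_def]; group]
            exact (Subgroup.mem_normalizer_iff.1 (le_normalizer_pCoreOf L (inv_mem hx.1)) _).1 (inv_mem (hx.2.2 d hd))⟩ }
    have hKL : K ≤ L := fun x hx => hx.1
    have hKn : L ≤ Subgroup.normalizer (K : Set G) := by
      rw [CfsgLib.Solv.le_normalizer_iff_forall_conj_mem]
      intro l hl x hx
      refine ⟨mul_mem (mul_mem hl hx.1) (inv_mem hl), fun a ha => ?_, fun d hd => ?_⟩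
      · have ha' := (Subgroup.mem_normalizer_iff''.1 (hAL.2 hl) a).1 ha
        rw [show ⁅l * x * l⁻¹, a⁆ = l * ⁅x, l⁻¹ * a * l⁆ * l⁻¹ by simp only [commutatorElement_def]; group]
        exact (Subgroup.mem_normalizer_iff.1 (hAF hl) _).1 (hx.2.1 _ ha')
      · have hd' := (Subgroup.mem_normalizer_iff''.1 (hLD hl) d).1 hd
        rw [show ⁅d, l * x * l⁻¹⁆ = l * ⁅l⁻¹ * d * l, x⁆ * l⁻¹ by simp only [commutatorElement_def]; group]
        exact (Subgroup.mem_normalizer_iff.1 (le_normalizer_pCoreOf L hl) _).1 (hx.2.2 _ hd')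
    have hAAF : ∀ z ∈ ⁅A, A⁆, z ∈ F := fun z hz => by
      rw [← Subgroup.map_subtype_commutator] at hz
      exact Subgroup.map_mono (CfsgLib.Solv.commutator_le_frattini hAp) hz
    have hYK : Y ≤ K := fun y hy => ⟨hYL hy, fun a ha => hAAF _ (Subgroup.commutator_mono hIA le_rfl
      (hc (Subgroup.commutator_mem_commutator hy ha))), hYD y hy⟩
    have hel : ∀ x ∈ K, (orderOf x).Coprime p → x ∈ D := by
      intro x hx hxo
      refine Subgroup.mem_inf.2 ⟨hx.1, ?_⟩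
      refine CfsgLib.Solv.le_centralizer_of_trivial_on_frattini_quotient (A := Subgroup.zpowers x) ?_ ?_ (Subgroup.mem_zpowers x)
      · obtain ⟨n, hn⟩ := IsPGroup.iff_card.1 (hAp.to_subgroup (frattini ↥A))
        rw [hn, Nat.card_zpowers]; exact hxo.pow_right n
      · rintro _ ⟨i, rfl⟩ a ha
        exact (zpow_mem hx i : x ^ i ∈ K).2.1 a ha
    obtain ⟨R₀⟩ : Nonempty (Sylow p K) := inferInstance
    set R := (R₀ : Subgroup K).map K.subtype with hR
    have hRK : R ≤ K := Subgroup.map_subtype_le _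
    have hXp : IsPGroup p ↥(R ⊔ (P0 ⊓ K)) := (R₀.2.map _).to_sup_of_normal_right'
      ((pCoreOf_pgroup L).to_le inf_le_left)
      (CfsgLib.Solv.le_normalizer_inf_of_le ((hRK.trans hKL).trans (le_normalizer_pCoreOf L)) (hRK.trans Subgroup.le_normalizer))
    have hRP : R ⊔ (P0 ⊓ K) ≤ P0 := by
      refine (le_pCoreOf (M := K) (sup_le hRK inf_le_right) hXp ?_).trans (pCoreOf_le hKL hKn)
      intro x hx
      obtain ⟨s, hs, c, hc', hcK, hsc⟩ := CfsgLib.Solv.exists_mul_of_pElements R₀ (C := D) hel hx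
      rw [← hsc]
      refine mul_mem (Subgroup.le_normalizer (Subgroup.mem_sup_left ⟨s, hs, rfl⟩)) ?_
      rw [Subgroup.mem_normalizer_iff]
      suffices hh : ∀ e ∈ D, e ∈ K → ∀ r ∈ R ⊔ (P0 ⊓ K), e * r * e⁻¹ ∈ R ⊔ (P0 ⊓ K) by
        refine fun r => ⟨hh c hc' hcK r, fun h => ?_⟩
        simpa [mul_assoc] using hh c⁻¹ (inv_mem hc') (inv_mem hcK) _ h
      intro e he heK r hr
      have hrK : r ∈ K := (sup_le hRK inf_le_right : R ⊔ (P0 ⊓ K) ≤ K) hr
      rw [show e * r * e⁻¹ = ⁅e, r⁆ * r by simp [commutatorElement_def, mul_assoc]]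
      refine mul_mem (Subgroup.mem_sup_right (Subgroup.mem_inf.2 ⟨hrK.2.2 e he, ?_⟩)) hr
      exact mul_mem (mul_mem (mul_mem heK hrK) (inv_mem heK)) (inv_mem hrK)
    have hYp : IsPGroup p Y := (pCoreOf_pgroup Md).to_le hY
    obtain ⟨R₁, hR₁⟩ := (hYp.comap_subtype (K := K)).exists_le_sylow
    obtain ⟨k, hk⟩ := MulAction.exists_smul_eq K R₀ R₁
    intro y hy
    have h1 : (⟨y, hYK hy⟩ : K) ∈ (R₁ : Subgroup K) := hR₁ (Subgroup.mem_subgroupOf.2 hy)
    rw [← hk, Sylow.coe_subgroup_smul, CfsgLib.Solv.mem_conj_smul_iff] at h1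
    have h2 : ((k⁻¹ * (⟨y, hYK hy⟩ : K) * k : K) : G) ∈ P0 := hRP (Subgroup.mem_sup_left ⟨_, h1, rfl⟩)
    have h3 := (Subgroup.mem_normalizer_iff.1 (le_normalizer_pCoreOf L (hKL k.2)) _).1 h2
    simpa [mul_assoc] using h3)

end Cfsg.Agent.S2864
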