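import Cfsg.Statements.S2872
import Cfsg.Agent.Inv.Transfer
import Cfsg.Agent.Solv.FittingBasic

set_option autoImplicit false
open Cfsg

namespace Cfsg.Agent.S2872

/-- Let S be a Sylow 2-subgroup of the finite group G. Then G has a proper normal subgroup of 2-power index (O²(G) ≠ G), or Ω₁(Z(S)) is contained in the Frattini subgroup of S, or N_G(S) acts nontrivially on Ω₁(Z(S)) by conjugation. -/
theorem result {G : Type*} [Group G] [Finite G] (S : Sylow 2 G) : Cfsg.pResidual 2 G ≠ ⊤ ∨ Cfsg.omegaOne 2 ((S : Subgroup G) ⊓ Subgroup.centralizer ((S : Subgroup G) : Set G)) ≤ (frattini ↥(S : Subgroup G)).map (S : Subgroup G).subtype ∨ ∃ g ∈ Subgroup.normalizer ((S : Subgroup G) : Set G), ∃ z ∈ Cfsg.omegaOne 2 ((S : Subgroup G) ⊓ Subgroup.centralizer ((S : Subgroup G) : Set G)), g * z * g⁻¹ ≠ z := by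
  open CfsgLib.Inv in
  exact (by
    classical
    haveI : Fact (Nat.Prime 2) := ⟨Nat.prime_two⟩
    by_contra hno
    push Not at hno
    obtain ⟨hres, hΦ, hfix⟩ := hno
    obtain ⟨z, hzZ, hzΦ⟩ := SetLike.not_le_iff_exists.1 hΦ
    have hzprop : z ∈ (S : Subgroup G) ⊓ Subgroup.centralizer ((S : Subgroup G) : Set G) ∧ z * z = 1 := by
      have hz := hzZ
      simp only [Cfsg.omegaOne] at hz
      clear hzΦ hzZ
      induction hz using Subgroup.closure_induction with
      | mem a ha => exact ⟨ha.1, by rw [← pow_two]; exact ha.2⟩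
      | one => exact ⟨one_mem _, one_mul _⟩
      | mul a b _ _ iha ihb =>
        refine ⟨mul_mem iha.1 ihb.1, ?_⟩
        have hc := Subgroup.mem_centralizer_iff.1 (Subgroup.mem_inf.1 ihb.1).2 a (Subgroup.mem_inf.1 iha.1).1
        calc a * b * (a * b) = a * (b * a) * b := by group
          _ = a * (a * b) * b := by rw [hc]
          _ = (a * a) * (b * b) := by group
          _ = 1 := by rw [iha.2, ihb.2, one_mul]
      | inv a _ iha => exact ⟨inv_mem iha.1, by rw [← mul_inv_rev, iha.2, inv_one]⟩
    obtain ⟨hzSC, hz2⟩ := hzprop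
    obtain ⟨hzS, hzC⟩ := Subgroup.mem_inf.1 hzSC
    have hz2' : z⁻¹ = z := inv_eq_of_mul_eq_one_right hz2
    obtain ⟨K, hK, hzK⟩ : ∃ K : Subgroup (S : Subgroup G), IsCoatom K ∧ (⟨z, hzS⟩ : (S : Subgroup G)) ∉ K := by
      by_contra h
      push Not at h
      refine hzΦ (Subgroup.mem_map.2 ⟨⟨z, hzS⟩, ?_, rfl⟩)
      rw [frattini, Order.radical]
      simp only [Subgroup.mem_iInf]
      exact fun K hK => h K hK
    obtain ⟨hKn, hKi⟩ := CfsgLib.Solv.isCoatom_normal_and_card_quotient S.2 hK
    haveI := hKn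
    have hqcard : Nat.card ((S : Subgroup G) ⧸ K) = 2 := hKi
    haveI : IsCyclic ((S : Subgroup G) ⧸ K) := isCyclic_of_prime_card hqcard
    letI : CommGroup ((S : Subgroup G) ⧸ K) := IsCyclic.commGroup
    set φ : (S : Subgroup G) →* (S : Subgroup G) ⧸ K := QuotientGroup.mk' K with hφ
    set a := φ ⟨z, hzS⟩ with ha
    have ha1 : a ≠ 1 := fun e => hzK ((QuotientGroup.eq_one_iff _).1 e)
    have htwo : ∀ x : (S : Subgroup G) ⧸ K, x ≠ 1 → x = a := by
      intro x hx
      obtain ⟨u, v, huv, huniv⟩ := Nat.card_eq_two_iff.1 hqcard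
      have hm : ∀ w : (S : Subgroup G) ⧸ K, w = u ∨ w = v := fun w => by
        have : w ∈ ({u, v} : Set _) := huniv ▸ Set.mem_univ w
        simpa using this
      rcases hm x with h1 | h1 <;> rcases hm a with h2 | h2 <;> rcases hm 1 with h3 | h3
      all_goals first
        | exact h1.trans h2.symm
        | exact absurd (h1.trans h3.symm) hx
        | exact absurd (h2.trans h3.symm) ha1
    set V := MonoidHom.transfer φ with hV
    have hV1 : V z = 1 := by
      have hle : Cfsg.pResidual 2 G ≤ V.ker := by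
        refine (Subgroup.closure_le _).2 fun x hx => ?_
        exact orderOf_eq_one_iff.1 (Nat.eq_one_of_dvd_coprimes (show (orderOf x).Coprime 2 from hx) (orderOf_map_dvd V x)
          ((orderOf_dvd_natCard _).trans (dvd_of_eq hqcard)))
      rw [hres] at hle
      exact hle (Subgroup.mem_top z)
    -- compute the transfer
    letI : Fintype (G ⧸ (S : Subgroup G)) := Fintype.ofFinite _
    let T : (S : Subgroup G).LeftTransversal := default
    let α := T.2.leftQuotientEquiv
    let ψ : G ⧸ (S : Subgroup G) → (S : Subgroup G) ⧸ K := fun c =>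
      φ ⟨(α c : G)⁻¹ * (z * (α (z⁻¹ • c) : G)), by
        have h1 : ((α c : G) : G ⧸ (S : Subgroup G)) = c := α.symm_apply_apply c
        have h2 : ((α (z⁻¹ • c) : G) : G ⧸ (S : Subgroup G)) = z⁻¹ • c := α.symm_apply_apply _
        rw [← QuotientGroup.eq, h1]
        conv_lhs => rw [← smul_inv_smul z c, ← h2]
        rfl⟩
    have hVeq : V z = ∏ c, ψ c := by
      rw [hV, MonoidHom.transfer_def φ T, Subgroup.leftTransversals.diff]
      convert rfl using 2
      · simp only [ψ]
        congr 1
        ext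
        exact congrArg (fun w => (α _ : G)⁻¹ * w) (Subgroup.smul_apply_eq_smul_apply_inv_smul z T _).symm
    set F : Finset (G ⧸ (S : Subgroup G)) := Finset.univ.filter fun c => z • c = c with hF
    have hzz : ∀ c : G ⧸ (S : Subgroup G), z • z • c = c := fun c => by rw [smul_smul, hz2, one_smul]
    have hmoved : ∏ c ∈ (Finset.univ.filter fun c => ¬ z • c = c), ψ c = 1 := by
      refine Finset.prod_involution (fun c _ => z • c) (fun c hc => ?_) (fun c hc _ => (Finset.mem_filter.1 hc).2)
        (fun c hc => Finset.mem_filter.2 ⟨Finset.mem_univ _, fun e => (Finset.mem_filter.1 hc).2 ?_⟩) (fun c _ => hzz c)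
      · simp only [ψ, ← map_mul]
        rw [← map_one φ]
        congr 1
        ext
        simp only [Subgroup.coe_mul, Subgroup.coe_one]
        rw [hz2', hzz c]
        calc (α c : G)⁻¹ * (z * (α (z • c) : G)) * ((α (z • c) : G)⁻¹ * (z * (α c : G)))
            = (α c : G)⁻¹ * (z * z) * (α c : G) := by group
          _ = 1 := by rw [hz2]; group
      · have := congrArg (fun d => z • d) e
        simp only [hzz] at this
        exact this
    have hfixed : ∀ g : G, z • ((g : G) : G ⧸ (S : Subgroup G)) = g ↔ g⁻¹ * z * g ∈ (S : Subgroup G) := by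
      intro g
      show ((z * g : G) : G ⧸ (S : Subgroup G)) = _ ↔ _
      rw [eq_comm, QuotientGroup.eq, ← mul_assoc]
    -- value on fixed cosets
    have hval : ∀ g : G, ∀ h : g⁻¹ * z * g ∈ (S : Subgroup G), ψ (g : G ⧸ (S : Subgroup G)) = φ ⟨g⁻¹ * z * g, h⟩ := by
      intro g h
      set c : G ⧸ (S : Subgroup G) := (g : G ⧸ (S : Subgroup G)) with hc
      have h1 : ((α c : G) : G ⧸ (S : Subgroup G)) = c := α.symm_apply_apply c
      have hs : g⁻¹ * (α c : G) ∈ (S : Subgroup G) := QuotientGroup.eq.1 h1.symm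
      have e : z⁻¹ • c = c := by rw [hz2']; exact (hfixed g).2 h
      have key : ∀ w (hw : (α c : G)⁻¹ * (z * (α c : G)) ∈ (S : Subgroup G)), w = φ ⟨_, hw⟩ → w = φ ⟨g⁻¹ * z * g, h⟩ := by
        intro w hw hwe
        have e2 : (⟨(α c : G)⁻¹ * (z * (α c : G)), hw⟩ : (S : Subgroup G)) =
            ⟨_, hs⟩⁻¹ * ⟨g⁻¹ * z * g, h⟩ * ⟨_, hs⟩ := Subtype.ext (by simp [mul_assoc])
        rw [hwe, e2, map_mul, map_mul, map_inv, mul_comm _ (φ ⟨_, h⟩), inv_mul_cancel_right]
      refine key _ ?_ ?_
      · have hh := mul_mem (mul_mem (inv_mem hs) h) hs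
        simpa [mul_assoc] using hh
      · simp only [ψ, e]
    set B : Finset (G ⧸ (S : Subgroup G)) := F.filter fun c => ψ c ≠ 1 with hB
    have hprod : ∏ c, ψ c = a ^ B.card := by
      rw [← Finset.prod_filter_mul_prod_filter_not Finset.univ (fun c => z • c = c), hmoved, mul_one]
      rw [← Finset.prod_filter_ne_one, ← Finset.prod_const]
      exact Finset.prod_congr rfl fun c hc => htwo _ (Finset.mem_filter.1 hc).2
    have hodd : ¬ 2 ∣ B.card := by
      let BS : SubMulAction (S : Subgroup G) (G ⧸ (S : Subgroup G)) :=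
        { carrier := {c | c ∈ B}
          smul_mem' := by
            intro s c hc
            obtain ⟨g, rfl⟩ := QuotientGroup.mk_surjective c
            obtain ⟨hcF, hc1⟩ := Finset.mem_filter.1 hc
            have h := (hfixed g).1 (Finset.mem_filter.1 hcF).2
            have hcomm : (s : G) * z = z * s := Subgroup.mem_centralizer_iff.1 hzC s s.2
            have e : ((s : G) * g)⁻¹ * z * ((s : G) * g) = g⁻¹ * z * g := by
              calc ((s : G) * g)⁻¹ * z * ((s : G) * g) = g⁻¹ * ((s : G)⁻¹ * (z * s)) * g := by group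
                _ = _ := by rw [← hcomm, inv_mul_cancel_left]
            have h' : ((s : G) * g)⁻¹ * z * ((s : G) * g) ∈ (S : Subgroup G) := e ▸ h
            show (((s : G) * g : G) : G ⧸ (S : Subgroup G)) ∈ B
            refine Finset.mem_filter.2 ⟨Finset.mem_filter.2 ⟨Finset.mem_univ _, (hfixed _).2 h'⟩, ?_⟩
            rw [hval _ h', show (⟨_, h'⟩ : (S : Subgroup G)) = ⟨_, h⟩ from Subtype.ext e, ← hval _ h]
            exact hc1 }
      have hmemN : ∀ g : G, g ∈ Subgroup.normalizer ((S : Subgroup G) : Set G) ↔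
          ∀ s : (S : Subgroup G), (s : G) • ((g : G) : G ⧸ (S : Subgroup G)) = g := by
        intro g
        constructor
        · intro hg s
          show (((s : G) * g : G) : G ⧸ (S : Subgroup G)) = _
          rw [eq_comm, QuotientGroup.eq, ← mul_assoc]
          exact (Subgroup.mem_normalizer_iff''.1 hg s).1 s.2
        · intro h
          have hle : ∀ s ∈ (S : Subgroup G), g⁻¹ * s * g ∈ (S : Subgroup G) := fun s hs => by
            have h' := (h ⟨s, hs⟩).symm
            change ((g : G) : G ⧸ (S : Subgroup G)) = ((s * g : G) : G ⧸ (S : Subgroup G)) at h'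
            rw [QuotientGroup.eq, ← mul_assoc] at h'
            exact h'
          have e : (S : Subgroup G).map (MulAut.conj g⁻¹).toMonoidHom = (S : Subgroup G) :=
            Subgroup.eq_of_le_of_card_ge (by rintro _ ⟨s, hs, rfl⟩; simpa using hle s hs) (by
              rw [Subgroup.card_map_of_injective (f := (MulAut.conj g⁻¹).toMonoidHom) (MulAut.conj g⁻¹).injective])
          rw [Subgroup.mem_normalizer_iff'']
          intro y
          refine ⟨hle y, fun hy => ?_⟩
          rw [← e, CfsgLib.Solv.mem_map_conj_iff] at hy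
          simpa [mul_assoc] using hy
      have hmod := S.2.card_modEq_card_fixedPoints BS
      have hfixcard : Nat.card (MulAction.fixedPoints (S : Subgroup G) BS) =
          Nat.card (MulAction.fixedPoints (S : Subgroup G) (G ⧸ (S : Subgroup G))) := by
        refine Nat.card_congr
          { toFun := fun c => ⟨(c.1 : G ⧸ (S : Subgroup G)), fun s => congrArg Subtype.val (c.2 s)⟩
            invFun := fun c => ⟨⟨c.1, ?_⟩, fun s => Subtype.ext (c.2 s)⟩
            left_inv := fun c => rfl
            right_inv := fun c => rfl }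
        show c.1 ∈ B
        obtain ⟨g, hg⟩ := QuotientGroup.mk_surjective c.1
        rw [← hg]
        have hN : g ∈ Subgroup.normalizer ((S : Subgroup G) : Set G) := (hmemN g).2 fun s => by
          rw [hg]; exact c.2 s
        have e : g⁻¹ * z * g = z := by
          have h1 := hfix g⁻¹ (inv_mem hN) z hzZ
          rwa [inv_inv] at h1
        have h : g⁻¹ * z * g ∈ (S : Subgroup G) := e.symm ▸ hzS
        refine Finset.mem_filter.2 ⟨Finset.mem_filter.2 ⟨Finset.mem_univ _, (hfixed g).2 h⟩, ?_⟩
        rw [hval g h, show (⟨_, h⟩ : (S : Subgroup G)) = ⟨z, hzS⟩ from Subtype.ext e]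
        exact ha1
      have hall := S.2.card_modEq_card_fixedPoints (G ⧸ (S : Subgroup G))
      have hBS : Nat.card BS = B.card := by
        rw [show B.card = Nat.card {c // c ∈ B} by rw [Nat.card_eq_fintype_card, Fintype.card_coe]]
        rfl
      intro hd
      refine S.not_dvd_index ?_
      rw [Subgroup.index_eq_card]
      rw [hBS, hfixcard] at hmod
      exact Nat.modEq_zero_iff_dvd.1 ((hall.trans hmod.symm).trans (Nat.modEq_zero_iff_dvd.2 hd))
    rw [hVeq, hprod] at hV1
    refine ha1 (orderOf_eq_one_iff.1 ?_)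
    have h2 : orderOf a ∣ 2 := (orderOf_dvd_natCard _).trans (dvd_of_eq hqcard)
    rcases (Nat.dvd_prime Nat.prime_two).1 h2 with h | h
    · exact h
    · have := orderOf_dvd_of_pow_eq_one hV1
      rw [h] at this
      exact absurd this hodd)

end Cfsg.Agent.S2872
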