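import Cfsg.Statements.S2873
import Cfsg.Agent.Inv.DihedralOnTwo
import Cfsg.Agent.Fus.CoreBasic

set_option autoImplicit false
open Cfsg

namespace Cfsg.Agent.S2873

/-- Let G be a finite group and r an odd prime such that G ⧸ O₂(G) is dihedral of order 2r, and let R be a Sylow r-subgroup of G with C_{O₂(G)}(R) = 1. Then N_G(R) is dihedral of order 2r; for any involution a of N_G(R), every involution of G outside O₂(G) is conjugate to a; and |C_{O₂(G)}(a)|² = |O₂(G)|. -/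
theorem result {G : Type*} [Group G] [Finite G] {r : ℕ} [Fact r.Prime] (hr : r ≠ 2) [hN : (Cfsg.pCore 2 G).Normal] (hquot : Nonempty (G ⧸ Cfsg.pCore 2 G ≃* DihedralGroup r)) (R : Sylow r G) (hC : Cfsg.pCore 2 G ⊓ Subgroup.centralizer ((R : Subgroup G) : Set G) = ⊥) : Nonempty (↥(Subgroup.normalizer ((R : Subgroup G) : Set G)) ≃* DihedralGroup r) ∧ ∀ a : G, a ∈ Subgroup.normalizer ((R : Subgroup G) : Set G) → orderOf a = 2 → (∀ b : G, orderOf b = 2 → b ∉ Cfsg.pCore 2 G → ∃ g : G, g * a * g⁻¹ = b) ∧ Nat.card ↥(Cfsg.pCore 2 G ⊓ Subgroup.centralizer ({a} : Set G)) ^ 2 = Nat.card ↥(Cfsg.pCore 2 G) := by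
  classical
  obtain ⟨ψ⟩ := hquot
  haveI : Fact (Nat.Prime 2) := ⟨Nat.prime_two⟩
  have hrp : r.Prime := Fact.out
  have hodd : Odd r := hrp.odd_of_ne_two hr
  set Q := Cfsg.pCore 2 G with hQdef
  set N := Subgroup.normalizer ((R : Subgroup G) : Set G) with hNdef
  have hQ2 : IsPGroup 2 Q := CfsgLib.Fus.isPGroup_pCore
  obtain ⟨k, hk⟩ := (IsPGroup.iff_card).1 hQ2
  have hcardG : Nat.card G = 2 * r * 2 ^ k := by
    rw [Subgroup.card_eq_card_quotient_mul_card_subgroup Q, Nat.card_congr ψ.toEquiv, DihedralGroup.nat_card, hk]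
  have hcop : Nat.Coprime r 2 := (Nat.coprime_primes hrp Nat.prime_two).2 hr
  have hcardR : Nat.card (R : Subgroup G) = r := by
    obtain ⟨j, hj⟩ := (IsPGroup.iff_card).1 R.2
    have hnd : ¬ r ∣ (R : Subgroup G).index := R.not_dvd_index
    have h := Subgroup.card_mul_index (R : Subgroup G)
    rw [hj, hcardG] at h
    rcases j with _ | _ | j
    · exfalso; apply hnd; rw [pow_zero, one_mul] at h; exact ⟨2 * 2 ^ k, by rw [h]; ring⟩
    · rw [hj, pow_one]
    · exfalso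
      have h1 : r ^ 2 ∣ r * (2 * 2 ^ k) := ⟨r ^ j * (R : Subgroup G).index, by rw [show r * (2 * 2 ^ k) = 2 * r * 2 ^ k by ring, ← h]; ring⟩
      rw [sq] at h1
      have h2 : r ∣ 2 ^ (k + 1) := by
        rw [pow_succ']; exact (Nat.mul_dvd_mul_iff_left hrp.pos).1 h1
      exact hr ((Nat.prime_dvd_prime_iff_eq hrp Nat.prime_two).1 (hrp.dvd_of_dvd_pow h2))
  have hRQ : (R : Subgroup G) ⊓ Q = ⊥ := (Subgroup.eq_bot_iff_forall _).2 fun x hx => by
    rw [← orderOf_eq_one_iff]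
    have h1 : orderOf x ∣ r := hcardR ▸ Subgroup.orderOf_dvd_natCard _ hx.1
    have h2 : orderOf x ∣ 2 ^ k := hk ▸ Subgroup.orderOf_dvd_natCard _ hx.2
    exact Nat.dvd_one.1 ((Nat.Coprime.pow_right k hcop).gcd_eq_one ▸ Nat.dvd_gcd h1 h2)
  have hNQ : ∀ x ∈ N, x ∈ Q → x = 1 := fun x hxN hxQ => by
    refine Subgroup.mem_bot.1 (hC.le ⟨hxQ, Subgroup.mem_centralizer_iff.2 fun t ht => ?_⟩)
    have h1 : x * t * x⁻¹ * t⁻¹ ∈ (R : Subgroup G) ⊓ Q :=
      ⟨((R : Subgroup G).mul_mem ((Subgroup.mem_normalizer_iff.1 hxN t).1 ht) ((R : Subgroup G).inv_mem ht)), by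
        rw [show x * t * x⁻¹ * t⁻¹ = x * (t * x⁻¹ * t⁻¹) by group]
        exact mul_mem hxQ (hN.conj_mem _ (inv_mem hxQ) t)⟩
    rw [hRQ, Subgroup.mem_bot] at h1
    exact (commutatorElement_eq_one_iff_mul_comm.1 h1).symm
  let φ : G →* DihedralGroup r := ψ.toMonoidHom.comp (QuotientGroup.mk' Q)
  have hker : ∀ x, φ x = 1 ↔ x ∈ Q := fun x => by
    rw [show φ x = ψ (QuotientGroup.mk x) from rfl, MulEquiv.map_eq_one_iff, QuotientGroup.eq_one_iff]
  -- rotations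
  let rot : Subgroup (DihedralGroup r) := Subgroup.zpowers (DihedralGroup.r (1 : ZMod r))
  have hrot : ∀ g : DihedralGroup r, orderOf g = r → g ∈ rot := by
    intro g hg
    rcases g with i | i
    · haveI : NeZero r := ⟨hrp.ne_zero⟩
      exact Subgroup.mem_zpowers_iff.2 ⟨i.val, by rw [zpow_natCast, DihedralGroup.r_one_pow, ZMod.natCast_zmod_val]⟩
    · rw [DihedralGroup.orderOf_sr] at hg; exact absurd hg.symm hr
  haveI hrotn : rot.Normal := Subgroup.normal_of_index_eq_two (by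
    have h := Subgroup.card_mul_index rot
    rw [Nat.card_zpowers, DihedralGroup.orderOf_r_one, DihedralGroup.nat_card, mul_comm 2 r] at h
    exact Nat.eq_of_mul_eq_mul_left hrp.pos h)
  have hordR : ∀ x ∈ (R : Subgroup G), x ≠ 1 → orderOf x = r := fun x hx hx1 =>
    ((Nat.dvd_prime hrp).1 (hcardR ▸ Subgroup.orderOf_dvd_natCard _ hx)).resolve_left (fun h => hx1 (orderOf_eq_one_iff.1 h))
  have hφR : ∀ x ∈ (R : Subgroup G), x ≠ 1 → orderOf (φ x) = r := fun x hx hx1 =>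
    ((Nat.dvd_prime hrp).1 (hordR x hx hx1 ▸ orderOf_map_dvd φ x)).resolve_left (fun h => hx1 (by
      rw [orderOf_eq_one_iff, hker] at h
      exact Subgroup.mem_bot.1 (hRQ.le ⟨hx, h⟩)))
  have hle : (R : Subgroup G) ≤ rot.comap φ := fun x hx => by
    by_cases hx1 : x = 1
    · rw [hx1]; exact one_mem _
    · exact hrot _ (hφR x hx hx1)
  haveI : (rot.comap φ).Normal := hrotn.comap φ
  have hsup := Sylow.normalizer_sup_eq_top' R hle
  have hsurj : ∀ d : DihedralGroup r, ∃ x ∈ N, φ x = d := by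
    obtain ⟨ρ, hρ, hρ1⟩ : ∃ ρ ∈ (R : Subgroup G), ρ ≠ 1 := by
      by_contra h
      push Not at h
      rw [(Subgroup.eq_bot_iff_forall _).2 h, Subgroup.card_bot] at hcardR
      exact hrp.one_lt.ne hcardR
    intro d
    obtain ⟨x, hx⟩ := QuotientGroup.mk'_surjective Q (ψ.symm d)
    have hxd : φ x = d := by
      show ψ (QuotientGroup.mk' Q x) = d
      rw [hx, MulEquiv.apply_symm_apply]
    obtain ⟨y, hy, z, hz, rfl⟩ := Subgroup.mem_sup_of_normal_right.1 (hsup.ge (Subgroup.mem_top x))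
    have hzR : φ z ∈ (R : Subgroup G).map φ := by
      have h1 : (R : Subgroup G).map φ = rot := by
        refine Subgroup.eq_of_le_of_card_ge (Subgroup.map_le_iff_le_comap.2 hle) ?_
        rw [Nat.card_zpowers, DihedralGroup.orderOf_r_one]
        calc r = Nat.card (Subgroup.zpowers (φ ρ)) := by rw [Nat.card_zpowers, hφR ρ hρ hρ1]
          _ ≤ _ := Subgroup.card_le_of_le (Subgroup.zpowers_le.2 (Subgroup.mem_map_of_mem φ hρ))
      exact h1.ge hz
    obtain ⟨t, ht, hte⟩ := hzR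
    exact ⟨y * t, mul_mem hy (Subgroup.le_normalizer ht), by rw [map_mul, hte, ← map_mul, hxd]⟩
  let f : ↥N →* DihedralGroup r := φ.comp N.subtype
  have hf : Function.Bijective f := ⟨(injective_iff_map_eq_one f).2 fun x hx =>
      Subtype.ext (hNQ x x.2 ((hker x).1 hx)), fun d => by
    obtain ⟨x, hx, he⟩ := hsurj d
    exact ⟨⟨x, hx⟩, he⟩⟩
  refine ⟨⟨MulEquiv.ofBijective f hf⟩, fun a haN ha => ?_⟩
  have haa : a * a = 1 := by rw [← pow_two, ← ha]; exact pow_orderOf_eq_one a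
  have hsr : ∀ x : G, x * x = 1 → x ∉ Q → ∃ i, φ x = DihedralGroup.sr i := by
    intro x hxx hxQ
    rcases hc : φ x with i | i
    · exfalso
      have h := congrArg φ hxx
      rw [map_mul, map_one, hc, DihedralGroup.r_mul_r, DihedralGroup.one_def, DihedralGroup.r.injEq] at h
      haveI : Fact r.Prime := ⟨hrp⟩
      have hi : i = 0 := by
        rw [← two_mul] at h
        refine (mul_eq_zero.1 h).resolve_left ?_
        intro h2
        have : r ∣ 2 := (ZMod.natCast_eq_zero_iff 2 r).1 (by exact_mod_cast h2)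
        exact hr ((Nat.prime_dvd_prime_iff_eq hrp Nat.prime_two).1 this)
      exact hxQ ((hker x).1 (by rw [hc, hi, DihedralGroup.one_def]))
    · exact ⟨i, rfl⟩
  have haQ : a ∉ Q := fun h => by rw [hNQ a haN h, orderOf_one] at ha; omega
  obtain ⟨i, hi⟩ := hsr a haa haQ
  obtain ⟨ρ, hρN, hρ⟩ := hsurj (DihedralGroup.r 1)
  have hρr : ρ ^ r = 1 := by
    refine hNQ _ (pow_mem hρN r) ((hker _).1 ?_)
    rw [map_pow, hρ, DihedralGroup.r_one_pow_n]
  have hρR : (R : Subgroup G) ≤ Subgroup.zpowers ρ := by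
    intro x hx
    obtain ⟨m, hm⟩ := Subgroup.mem_zpowers_iff.1 (hle hx)
    refine Subgroup.mem_zpowers_iff.2 ⟨m, ?_⟩
    refine (mul_inv_eq_one.1 (hNQ _ (mul_mem (zpow_mem hρN m) (inv_mem (Subgroup.le_normalizer hx))) ((hker _).1 ?_)))
    rw [map_mul, map_zpow, map_inv, hρ, hm, mul_inv_cancel]
  have hCρ : Q ⊓ Subgroup.centralizer ({ρ} : Set G) = ⊥ := by
    refine le_bot_iff.1 (le_trans ?_ hC.le)
    refine inf_le_inf_left _ fun x hx => Subgroup.mem_centralizer_iff.2 fun t ht => ?_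
    obtain ⟨m, rfl⟩ := Subgroup.mem_zpowers_iff.1 (hρR ht)
    exact ((show Commute x ρ from Subgroup.mem_centralizer_singleton_iff.1 hx).zpow_right m).eq.symm
  have haρ : a * ρ * (a * ρ) = 1 := by
    refine hNQ _ (mul_mem (mul_mem haN hρN) (mul_mem haN hρN)) ((hker _).1 ?_)
    rw [map_mul, map_mul, hi, hρ, DihedralGroup.sr_mul_r, DihedralGroup.sr_mul_sr, sub_self, DihedralGroup.one_def]
  obtain ⟨hcard, hconj⟩ := CfsgLib.Inv.DihedralTwo.main (Nat.card Q) Q a ρ r le_rfl hQ2 haa haρ hodd hρr hCρ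
  refine ⟨fun b hb hbQ => ?_, hcard⟩
  have hbb : b * b = 1 := by rw [← pow_two, ← hb]; exact pow_orderOf_eq_one b
  obtain ⟨j, hj⟩ := hsr b hbb hbQ
  -- rotate `b` into the coset of `a`
  haveI : NeZero r := ⟨hrp.ne_zero⟩
  haveI : Fact r.Prime := ⟨hrp⟩
  obtain ⟨m, hm⟩ : ∃ m : ℕ, (j : ZMod r) - 2 * (m : ZMod r) = i := ⟨((j - i) / 2 : ZMod r).val, by
    have h2 : (2 : ZMod r) ≠ 0 := fun h2 => hr ((Nat.prime_dvd_prime_iff_eq hrp Nat.prime_two).1
      ((ZMod.natCast_eq_zero_iff 2 r).1 (by exact_mod_cast h2)))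
    rw [ZMod.natCast_zmod_val, mul_div_cancel₀ _ h2]; ring⟩
  have hφb : φ (ρ ^ m * b * (ρ ^ m)⁻¹) = φ a := by
    rw [map_mul, map_mul, map_inv, map_pow, hρ, hj, hi, DihedralGroup.r_one_pow, DihedralGroup.r_mul_sr,
      DihedralGroup.inv_r, DihedralGroup.sr_mul_r, ← hm]
    congr 1
    ring
  set c := ρ ^ m * b * (ρ ^ m)⁻¹ with hcdef
  have hxQ : c * a ∈ Q := (hker _).1 (by rw [map_mul, hφb, ← map_mul, haa, map_one])
  have hca : c * a * a = c := by rw [mul_assoc, haa, mul_one]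
  obtain ⟨w, hw, hwe⟩ := hconj (c * a) hxQ (by
    rw [hca, hcdef, show ρ ^ m * b * (ρ ^ m)⁻¹ * (ρ ^ m * b * (ρ ^ m)⁻¹) = ρ ^ m * (b * b) * (ρ ^ m)⁻¹ by group, hbb]
    group)
  rw [hca] at hwe
  refine ⟨(ρ ^ m)⁻¹ * w, ?_⟩
  rw [show (ρ ^ m)⁻¹ * w * a * ((ρ ^ m)⁻¹ * w)⁻¹ = (ρ ^ m)⁻¹ * (w * a * w⁻¹) * ρ ^ m by group, ← hwe, hcdef]
  group

end Cfsg.Agent.S2873
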