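import Cfsg.Statements.S2874
import Mathlib.GroupTheory.SpecificGroups.Alternating
import Mathlib.Tactic

set_option autoImplicit false
open Cfsg

namespace Cfsg.Agent.S2874

open Matrix

abbrev M2 (k : ℕ) := Matrix (Fin 2) (Fin 2) (ZMod (2 ^ k))
abbrev B2 := Matrix (Fin 2) (Fin 2) (ZMod 2)

/-- The standard element of order three. -/
def w (R : Type*) [CommRing R] : Matrix (Fin 2) (Fin 2) R := !![0, -1; 1, -1]

/-- Its inverse. -/
def w' (R : Type*) [CommRing R] : Matrix (Fin 2) (Fin 2) R := !![-1, 1; -1, 0]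

theorem w_mul (R : Type*) [CommRing R] : w R * w' R = 1 ∧ w' R * w R = 1 := by
  constructor <;> · simp [w, w', Matrix.one_fin_two]

theorem fact_one : ∀ G : B2, G * G = 1 → G * (w (ZMod 2) * G * w' (ZMod 2)) = w' (ZMod 2) * G * w (ZMod 2) → G = 1 := by
  decide +revert

theorem fact_idem : ∀ X : B2, X * X = X → X + w (ZMod 2) * X * w' (ZMod 2) + w' (ZMod 2) * X * w (ZMod 2) = 0 → X = 0 := by
  decide +revert

theorem fact_orbit : ∀ X Y : B2, X + w (ZMod 2) * X * w' (ZMod 2) + w' (ZMod 2) * X * w (ZMod 2) = 0 → X ≠ 0 →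
    Y + w (ZMod 2) * Y * w' (ZMod 2) + w' (ZMod 2) * Y * w (ZMod 2) = 0 → Y ≠ 0 →
      Y = X ∨ Y = w (ZMod 2) * X * w' (ZMod 2) ∨ Y = w' (ZMod 2) * X * w (ZMod 2) := by
  decide +revert

theorem fact_three : ∀ A : B2, A * A * A = 1 → A ≠ 1 → A 1 0 = 1 := by
  decide +revert

theorem fact_alt : ∃ c d : ↥(alternatingGroup (Fin 4)), c ^ 3 = 1 ∧ c ≠ 1 ∧ d * d = 1 ∧ d ≠ 1 ∧ d * (c * d * c⁻¹) = c⁻¹ * d * c ∧
    ∀ x : ↥(alternatingGroup (Fin 4)), ∃ i : Fin 3, x = c ^ (i : ℕ) ∨ x = d * c ^ (i : ℕ) ∨ x = c * d * c⁻¹ * c ^ (i : ℕ) ∨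
      x = c⁻¹ * d * c * c ^ (i : ℕ) := by
  refine ⟨⟨Equiv.swap 0 1 * Equiv.swap 1 2, Equiv.Perm.mem_alternatingGroup.2 (by decide)⟩, ⟨Equiv.swap 0 1 * Equiv.swap 2 3, Equiv.Perm.mem_alternatingGroup.2 (by decide)⟩, ?_⟩
  decide

theorem self_add_self (X : B2) : X + X = 0 := by
  ext i j; exact CharTwo.add_self_eq_zero _

variable {k : ℕ}

/-- Reduction modulo two. -/
def red (hk : 1 ≤ k) : M2 k →+* B2 := (ZMod.castHom (dvd_pow_self 2 (by omega)) (ZMod 2)).mapMatrix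

theorem red_w (hk : 1 ≤ k) : red hk (w _) = w (ZMod 2) ∧ red hk (w' _) = w' (ZMod 2) := by
  constructor <;> · ext i j; fin_cases i <;> fin_cases j <;> simp [red, w, w', -ZMod.castHom_apply]

theorem eq_two_smul (hk : 1 ≤ k) {X : M2 k} (h : red hk X = 0) : ∃ Y : M2 k, X = (2 : ZMod (2 ^ k)) • Y := by
  refine ⟨fun i j => ((((X i j).val / 2 : ℕ)) : ZMod (2 ^ k)), ?_⟩
  ext i j
  have h1 : ((X i j).val : ZMod 2) = 0 := by
    have := congrFun (congrFun h i) j
    simp only [red, RingHom.mapMatrix_apply, Matrix.map_apply, ZMod.castHom_apply, Matrix.zero_apply] at this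
    rwa [ZMod.natCast_val]
  obtain ⟨t, ht⟩ := (ZMod.natCast_eq_zero_iff _ 2).1 h1
  show X i j = 2 * ((((X i j).val / 2 : ℕ)) : ZMod (2 ^ k))
  rw [ht, Nat.mul_div_cancel_left _ two_pos]
  conv_lhs => rw [← ZMod.natCast_zmod_val (X i j), ht]
  push_cast
  rfl

theorem red_zero_of_smul (hk : 1 ≤ k) {j : ℕ} (hj : j < k) {X : M2 k} (h : (2 : ZMod (2 ^ k)) ^ j • X = 0) :
    red hk X = 0 := by
  ext a b
  have h1 : (((2 ^ j * (X a b).val : ℕ)) : ZMod (2 ^ k)) = 0 := by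
    push_cast
    rw [ZMod.natCast_zmod_val]
    exact congrFun (congrFun h a) b
  have h2 := (ZMod.natCast_eq_zero_iff _ _).1 h1
  have h2' : 2 ^ (j + 1) ∣ 2 ^ j * (X a b).val := (pow_dvd_pow 2 hj).trans h2
  rw [pow_succ, Nat.mul_dvd_mul_iff_left (by positivity)] at h2'
  have h3 : ((X a b).val : ZMod 2) = 0 := (ZMod.natCast_eq_zero_iff _ _).2 h2'
  simp only [red, RingHom.mapMatrix_apply, Matrix.map_apply, ZMod.castHom_apply, Matrix.zero_apply]
  rwa [← ZMod.natCast_val]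

theorem ge_k_zero {X : M2 k} : (2 : ZMod (2 ^ k)) ^ k • X = 0 := by
  rw [show (2 : ZMod (2 ^ k)) ^ k = ((2 ^ k : ℕ) : ZMod (2 ^ k)) by push_cast; rfl, ZMod.natCast_self, zero_smul]

/-- An involution generating a four group with its conjugates is a multiple of `2 ^ (k-1)` away from one. -/
theorem inv_shape (hk : 2 ≤ k) (g : M2 k) (hg : g * g = 1) (hg1 : g ≠ 1)
    (hprod : g * (w _ * g * w' _) = w' _ * g * w _) :
    ∃ X : M2 k, g = 1 + (2 : ZMod (2 ^ k)) ^ (k - 1) • X ∧ red (by omega) X ≠ 0 ∧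
      red (by omega) X + w (ZMod 2) * red (by omega) X * w' (ZMod 2) + w' (ZMod 2) * red (by omega) X * w (ZMod 2) = 0 := by
  obtain ⟨hw, hw'⟩ := w_mul (ZMod (2 ^ k))
  set π := red (k := k) (by omega : 1 ≤ k) with hπ
  obtain ⟨hrw, hrw'⟩ := red_w (k := k) (by omega : 1 ≤ k)
  have step : ∀ j, 1 ≤ j → j ≤ k - 1 → ∀ X : M2 k, g = 1 + (2 : ZMod (2 ^ k)) ^ j • X →
      π X + w (ZMod 2) * π X * w' (ZMod 2) + w' (ZMod 2) * π X * w (ZMod 2) = 0 ∧
      (j < k - 1 → π X = 0) := by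
    intro j hj1 hj2 X hX
    set s := (2 : ZMod (2 ^ k)) ^ j with hs
    have e1 : w _ * g * w' _ = 1 + s • (w _ * X * w' _) := by
      rw [hX, mul_add, mul_one, add_mul, hw, mul_smul_comm, smul_mul_assoc]
    have e2 : w' _ * g * w _ = 1 + s • (w' _ * X * w _) := by
      rw [hX, mul_add, mul_one, add_mul, hw', mul_smul_comm, smul_mul_assoc]
    have h1 : s • (X + w _ * X * w' _ - w' _ * X * w _ + s • (X * (w _ * X * w' _))) = 0 := by
      rw [e1, e2, hX] at hprod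
      simp only [add_mul, mul_add, one_mul, mul_one, smul_mul_assoc, mul_smul_comm] at hprod
      simp only [smul_add, smul_sub]
      rw [← sub_eq_zero] at hprod
      simp only [smul_add, smul_sub] at hprod ⊢
      rw [← hprod]
      abel
    have hsum : π X + w (ZMod 2) * π X * w' (ZMod 2) + w' (ZMod 2) * π X * w (ZMod 2) = 0 := by
      have h2 := red_zero_of_smul (by omega) (by omega) h1
      rw [← hπ] at h2
      have hs0 : π (s • (X * (w _ * X * w' _))) = 0 := by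
        ext a b
        simp [hπ, red, hs, map_ofNat, zero_pow (by omega : j ≠ 0), show (2 : ZMod 2) = 0 from rfl, -ZMod.castHom_apply]
      rw [map_add, map_sub, map_add, hs0, add_zero, map_mul, map_mul, map_mul, map_mul, hrw, hrw', sub_eq_zero] at h2
      rw [h2, self_add_self]
    refine ⟨hsum, fun hj => ?_⟩
    obtain ⟨i, rfl⟩ : ∃ i, j = i + 1 := ⟨j - 1, by omega⟩
    have h3 : (2 : ZMod (2 ^ k)) ^ (i + 2) • (X + (2 : ZMod (2 ^ k)) ^ i • (X * X)) = 0 := by
      rw [hX] at hg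
      simp only [add_mul, mul_add, one_mul, mul_one, smul_mul_assoc, mul_smul_comm, hs, smul_smul] at hg
      rw [show (2 : ZMod (2 ^ k)) ^ (i + 2) = 2 * 2 ^ (i + 1) by ring, smul_add, smul_smul, mul_smul, two_smul,
        show (2 : ZMod (2 ^ k)) * 2 ^ (i + 1) * 2 ^ i = 2 ^ (i + 1) * 2 ^ (i + 1) by ring]
      rw [← sub_eq_zero] at hg
      simp only [smul_add, smul_smul] at hg ⊢
      rw [← hg]
      abel
    have h4 := red_zero_of_smul (by omega) (by omega) h3
    rw [← hπ, map_add] at h4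
    rcases Nat.eq_zero_or_pos i with rfl | hi
    · rw [pow_zero, one_smul, map_mul] at h4
      exact fact_idem _ ((eq_neg_of_add_eq_zero_right h4).trans (neg_eq_of_add_eq_zero_left (self_add_self _))) hsum
    · have hs0 : π ((2 : ZMod (2 ^ k)) ^ i • (X * X)) = 0 := by
        ext a b
        simp [hπ, red, map_ofNat, zero_pow (by omega : i ≠ 0), show (2 : ZMod 2) = 0 from rfl, -ZMod.castHom_apply]
      rwa [hs0, add_zero] at h4
  have hall : ∀ j, j ≤ k - 1 → ∃ X : M2 k, g = 1 + (2 : ZMod (2 ^ k)) ^ j • X := by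
    intro j
    induction j with
    | zero => exact fun _ => ⟨g - 1, by simp⟩
    | succ j ih =>
      intro hj
      obtain ⟨X, hX⟩ := ih (by omega)
      have h0 : π X = 0 := by
        rcases Nat.eq_zero_or_pos j with rfl | hj'
        · rw [pow_zero, one_smul] at hX
          have h1 := fact_one (π g) (by rw [← map_mul, hg, map_one])
            (by rw [← hrw, ← hrw', ← map_mul, ← map_mul, ← map_mul, hprod, map_mul, map_mul])
          rw [hX, map_add, map_one] at h1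
          exact add_eq_left.1 h1
        · exact (step j hj' (by omega) X hX).2 (by omega)
      obtain ⟨Y, rfl⟩ := eq_two_smul (by omega) h0
      exact ⟨Y, by rw [hX, smul_smul, pow_succ]⟩
  obtain ⟨X, hX⟩ := hall (k - 1) le_rfl
  refine ⟨X, hX, fun h0 => ?_, (step _ (by omega) le_rfl X hX).1⟩
  obtain ⟨Y, rfl⟩ := eq_two_smul (by omega) h0
  rw [smul_smul, ← pow_succ, show k - 1 + 1 = k by omega, ge_k_zero, add_zero] at hX
  exact hg1 hX

theorem normal_form (hk : 2 ≤ k) (H : Subgroup (GL (Fin 2) (ZMod (2 ^ k))))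
    (h : Nonempty (↥H ≃* ↥(alternatingGroup (Fin 4)))) :
    ∃ (P c d : GL (Fin 2) (ZMod (2 ^ k))), (c : M2 k) = w _ ∧ (↑c⁻¹ : M2 k) = w' _ ∧ d * d = 1 ∧ d ≠ 1 ∧
      d * (c * d * c⁻¹) = c⁻¹ * d * c ∧ c ∈ H.map (MulAut.conj P).toMonoidHom ∧ d ∈ H.map (MulAut.conj P).toMonoidHom ∧
      H.map (MulAut.conj P).toMonoidHom = Subgroup.closure {c, d} := by
  obtain ⟨e⟩ := h
  obtain ⟨c₀, d₀, hc3, hc1, hd2, hd1, hrel, hall⟩ := fact_alt
  let φ : ↥(alternatingGroup (Fin 4)) →* GL (Fin 2) (ZMod (2 ^ k)) := H.subtype.comp e.symm.toMonoidHom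
  have hφ : Function.Injective φ := H.subtype_injective.comp e.symm.injective
  have hrange : φ.range = H := by
    rw [MonoidHom.range_comp, MonoidHom.range_eq_top.2 e.symm.surjective, ← MonoidHom.range_eq_map, Subgroup.range_subtype]
  set π := red (k := k) (by omega : 1 ≤ k) with hπ
  set C : M2 k := (φ c₀ : M2 k) with hC
  have hC3 : C * C * C = 1 := by
    rw [hC, ← Units.val_mul, ← Units.val_mul, ← map_mul, ← map_mul, ← Units.val_one, ← map_one φ, ← hc3]
    congr 2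
    try rw [pow_succ, pow_two]
  have hπC : π C ≠ 1 := by
    intro h1
    have hp : ∀ j, ∃ Y : M2 k, C ^ (2 ^ j) = 1 + (2 : ZMod (2 ^ k)) ^ (j + 1) • Y := by
      intro j
      induction j with
      | zero =>
        obtain ⟨Y, hY⟩ := eq_two_smul (k := k) (X := C - 1) (by omega) (by rw [← hπ, map_sub, h1, map_one, sub_self])
        exact ⟨Y, by rw [pow_zero, pow_one, zero_add, pow_one, ← hY, add_sub_cancel]⟩
      | succ j ih =>
        obtain ⟨Y, hY⟩ := ih
        refine ⟨Y + (2 : ZMod (2 ^ k)) ^ j • (Y * Y), ?_⟩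
        rw [pow_succ 2 j, pow_mul, hY, pow_two]
        simp only [add_mul, mul_add, one_mul, mul_one, smul_mul_assoc, mul_smul_comm, smul_smul, smul_add]
        rw [show (2 : ZMod (2 ^ k)) ^ (j + 1 + 1) = 2 * 2 ^ (j + 1) by ring, mul_smul 2, two_smul,
          show (2 : ZMod (2 ^ k)) * 2 ^ (j + 1) * 2 ^ j = 2 ^ (j + 1) * 2 ^ (j + 1) by ring]
        abel
    obtain ⟨Y, hY⟩ := hp (k - 1)
    rw [show k - 1 + 1 = k by omega, ge_k_zero, add_zero] at hY
    have h2 : c₀ ^ (2 ^ (k - 1)) = 1 := hφ (Units.ext (by rw [map_pow, map_one, Units.val_pow_eq_pow_val, ← hC, hY, Units.val_one]))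
    have h3 := orderOf_dvd_of_pow_eq_one h2
    rw [orderOf_eq_prime (p := 3) hc3 hc1] at h3
    have := Nat.prime_three.dvd_of_dvd_pow h3
    omega
  have h10 : π C 1 0 = 1 := fact_three (π C) (by rw [← map_mul, ← map_mul, hC3, map_one]) hπC
  have hunit : IsUnit (C 1 0) := by
    have h1 : ((C 1 0).val : ZMod 2) = 1 := by
      simp only [hπ, red, RingHom.mapMatrix_apply, Matrix.map_apply, ZMod.castHom_apply] at h10
      rwa [ZMod.natCast_val]
    have hodd : Odd (C 1 0).val := by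
      rw [← Nat.not_even_iff_odd]
      intro he
      rw [(ZMod.natCast_eq_zero_iff _ 2).2 he.two_dvd] at h1
      exact zero_ne_one h1
    rw [← ZMod.natCast_zmod_val (C 1 0), ZMod.isUnit_iff_coprime]
    exact hodd.coprime_two_right.pow_right k
  obtain ⟨u, hu⟩ := hunit
  let P : GL (Fin 2) (ZMod (2 ^ k)) :=
    ⟨!![1, -(C 0 0) * ↑u⁻¹; 0, ↑u⁻¹], !![1, C 0 0; 0, C 1 0],
      by ext i j; fin_cases i <;> fin_cases j <;>
          simp [Matrix.mul_apply, Matrix.vecMul, dotProduct, Fin.sum_univ_two, ← hu, mul_assoc],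
      by ext i j; fin_cases i <;> fin_cases j <;>
          simp [Matrix.mul_apply, Matrix.vecMul, dotProduct, Fin.sum_univ_two, ← hu, mul_assoc, mul_left_comm]⟩
  set ψ := (MulAut.conj P).toMonoidHom.comp φ with hψ
  have hψi : Function.Injective ψ := (MulAut.conj P).injective.comp hφ
  have hψr : H.map (MulAut.conj P).toMonoidHom = ψ.range := by rw [hψ, MonoidHom.range_comp, hrange]
  set M : M2 k := (ψ c₀ : M2 k) with hM
  have hMdef : M = !![1, -(C 0 0) * ↑u⁻¹; 0, ↑u⁻¹] * C * !![1, C 0 0; 0, C 1 0] := by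
    simp [hM, hψ, hC, P, MonoidHom.comp_apply, MulAut.conj_apply]
  have hM0 : M 0 0 = 0 := by
    rw [hMdef]; simp [Matrix.mul_apply, Matrix.vecMul, dotProduct, Fin.sum_univ_two, ← hu, mul_assoc]
  have hM1 : M 1 0 = 1 := by
    rw [hMdef]; simp [Matrix.mul_apply, Matrix.vecMul, dotProduct, Fin.sum_univ_two, ← hu]
  have hM3 : M * M * M = 1 := by
    rw [hM, ← Units.val_mul, ← Units.val_mul, ← map_mul, ← map_mul, ← Units.val_one, ← map_one ψ, ← hc3]
    congr 2
    try rw [pow_succ, pow_two]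
  have e00 := congrFun (congrFun hM3 0) 0
  have e10 := congrFun (congrFun hM3 1) 0
  simp only [Matrix.mul_apply, Fin.sum_univ_two, hM0, hM1, Matrix.one_apply_eq, Matrix.one_apply_ne (by decide : (1 : Fin 2) ≠ 0)] at e00 e10
  set x := M 0 1 with hx
  set y := M 1 1 with hy
  have hy3 : (y + 1) * (y * y - y + 1) = 0 := by linear_combination y * e10 - e00
  have hyu : IsUnit (y * y - y + 1) := by
    have h1 : ((y * y - y + 1).val : ZMod 2) = 1 := by
      rw [ZMod.natCast_val]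
      have := map_one (ZMod.castHom (dvd_pow_self 2 (by omega : k ≠ 0)) (ZMod 2))
      show ZMod.castHom (dvd_pow_self 2 (by omega : k ≠ 0)) (ZMod 2) (y * y - y + 1) = 1
      rw [map_add, map_sub, map_mul, map_one]
      generalize ZMod.castHom (dvd_pow_self 2 (by omega : k ≠ 0)) (ZMod 2) y = t
      revert t; decide
    have hodd : Odd (y * y - y + 1).val := by
      rw [← Nat.not_even_iff_odd]
      intro he
      rw [(ZMod.natCast_eq_zero_iff _ 2).2 he.two_dvd] at h1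
      exact zero_ne_one h1
    rw [← ZMod.natCast_zmod_val (y * y - y + 1), ZMod.isUnit_iff_coprime]
    exact hodd.coprime_two_right.pow_right k
  have hyv : y = -1 := eq_neg_of_add_eq_zero_left (hyu.mul_left_eq_zero.1 hy3)
  have hxv : x = -1 := by rw [hyv] at e00; linear_combination -e00
  have hMw : M = w _ := by
    ext i j; fin_cases i <;> fin_cases j
    · simpa [w] using hM0
    · simpa [w, ← hx] using hxv
    · simpa [w] using hM1
    · simpa [w, ← hy] using hyv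
  refine ⟨P, ψ c₀, ψ d₀, hMw, ?_, ?_, ?_, ?_, ?_, ?_, ?_⟩
  · refine Units.inv_eq_of_mul_eq_one_right ?_
    rw [← hM, hMw]; exact (w_mul _).1
  · rw [← map_mul, hd2, map_one]
  · exact fun h1 => hd1 (hψi (h1.trans (map_one ψ).symm))
  · rw [← map_inv, ← map_mul, ← map_mul, ← map_mul, ← map_mul, ← map_mul, hrel]
  · rw [hψr]; exact ⟨_, rfl⟩
  · rw [hψr]; exact ⟨_, rfl⟩
  · rw [hψr]
    apply le_antisymm
    · rintro _ ⟨z, rfl⟩
      have hc : ψ c₀ ∈ Subgroup.closure {ψ c₀, ψ d₀} := Subgroup.subset_closure (Or.inl rfl)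
      have hd : ψ d₀ ∈ Subgroup.closure {ψ c₀, ψ d₀} := Subgroup.subset_closure (Or.inr rfl)
      obtain ⟨i, rfl | rfl | rfl | rfl⟩ := hall z <;> simp only [map_mul, map_pow, map_inv]
      · exact pow_mem hc _
      · exact mul_mem hd (pow_mem hc _)
      · exact mul_mem (mul_mem (mul_mem hc hd) (inv_mem hc)) (pow_mem hc _)
      · exact mul_mem (mul_mem (mul_mem (inv_mem hc) hd) hc) (pow_mem hc _)
    · rw [Subgroup.closure_le]
      rintro z (rfl | rfl) <;> exact ⟨_, rfl⟩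

/-- For k ≥ 2, any two subgroups of GL₂(ℤ/2ᵏℤ) (the automorphism group of the homocyclic group ℤ/2ᵏ × ℤ/2ᵏ) that are isomorphic to the alternating group of degree 4 are conjugate. -/
theorem result (k : ℕ) (hk : 2 ≤ k) (H₁ H₂ : Subgroup (GL (Fin 2) (ZMod (2 ^ k)))) (h₁ : Nonempty (↥H₁ ≃* ↥(alternatingGroup (Fin 4)))) (h₂ : Nonempty (↥H₂ ≃* ↥(alternatingGroup (Fin 4)))) : ∃ g : GL (Fin 2) (ZMod (2 ^ k)), H₂ = H₁.map (MulAut.conj g).toMonoidHom := by
    obtain ⟨P₁, c₁, d₁, hc₁, hc₁', hd₁, hd₁', hr₁, hc₁m, hd₁m, hH₁⟩ := normal_form hk H₁ h₁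
    obtain ⟨P₂, c₂, d₂, hc₂, hc₂', hd₂, hd₂', hr₂, hc₂m, hd₂m, hH₂⟩ := normal_form hk H₂ h₂
    obtain rfl : c₁ = c₂ := Units.ext (hc₁.trans hc₂.symm)
    have shape : ∀ d : GL (Fin 2) (ZMod (2 ^ k)), d * d = 1 → d ≠ 1 → d * (c₁ * d * c₁⁻¹) = c₁⁻¹ * d * c₁ → _ := fun d h2 h1 hr =>
      inv_shape hk (d : M2 k) (by rw [← Units.val_mul, h2, Units.val_one]) (fun e => h1 (Units.ext e))
        (by rw [← hc₁, ← hc₁', ← Units.val_mul, ← Units.val_mul, ← Units.val_mul, hr, Units.val_mul, Units.val_mul])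
    obtain ⟨X₁, hX₁, hn₁, hs₁⟩ := shape d₁ hd₁ hd₁' hr₁
    obtain ⟨X₂, hX₂, hn₂, hs₂⟩ := shape d₂ hd₂ hd₂' hr₂
    have eqd : ∀ X Y : M2 k, red (by omega) X = red (by omega) Y →
        (1 : M2 k) + (2 : ZMod (2 ^ k)) ^ (k - 1) • X = 1 + (2 : ZMod (2 ^ k)) ^ (k - 1) • Y := by
      intro X Y h
      obtain ⟨Z, hZ⟩ := eq_two_smul (k := k) (X := X - Y) (by omega) (by rw [map_sub, h, sub_self])
      rw [show X = Y + (2 : ZMod (2 ^ k)) • Z by rw [← hZ]; abel, smul_add, smul_smul, ← pow_succ,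
        show k - 1 + 1 = k by omega, ge_k_zero, add_zero]
    have hmem : d₂ ∈ H₁.map (MulAut.conj P₁).toMonoidHom := by
      obtain ⟨hw, hw'⟩ := w_mul (ZMod (2 ^ k))
      obtain ⟨hrw, hrw'⟩ := red_w (k := k) (by omega : 1 ≤ k)
      rcases fact_orbit _ _ hs₁ hn₁ hs₂ hn₂ with h | h | h
      · have : d₂ = d₁ := Units.ext (by rw [hX₁, hX₂]; exact eqd _ _ h)
        rw [this]; exact hd₁m
      · have : d₂ = c₁ * d₁ * c₁⁻¹ := Units.ext (by
          rw [Units.val_mul, Units.val_mul, hc₁, hc₁', hX₁, hX₂, mul_add, mul_one, add_mul, hw, mul_smul_comm, smul_mul_assoc]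
          exact eqd _ _ (by rw [h, map_mul, map_mul, hrw, hrw']))
        rw [this]; exact mul_mem (mul_mem hc₁m hd₁m) (inv_mem hc₁m)
      · have : d₂ = c₁⁻¹ * d₁ * c₁ := Units.ext (by
          rw [Units.val_mul, Units.val_mul, hc₁, hc₁', hX₁, hX₂, mul_add, mul_one, add_mul, hw', mul_smul_comm, smul_mul_assoc]
          exact eqd _ _ (by rw [h, map_mul, map_mul, hrw, hrw']))
        rw [this]; exact mul_mem (mul_mem (inv_mem hc₁m) hd₁m) hc₁m
    have hle : H₂.map (MulAut.conj P₂).toMonoidHom ≤ H₁.map (MulAut.conj P₁).toMonoidHom := by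
      rw [hH₂, Subgroup.closure_le]
      rintro z (rfl | rfl)
      · exact hc₁m
      · exact hmem
    have hcard : ∀ (H : Subgroup (GL (Fin 2) (ZMod (2 ^ k)))) (P : GL (Fin 2) (ZMod (2 ^ k))), Nonempty (↥H ≃* ↥(alternatingGroup (Fin 4))) →
        Nat.card ↥(H.map (MulAut.conj P).toMonoidHom) = Nat.card ↥(alternatingGroup (Fin 4)) := by
      rintro H P ⟨e⟩
      rw [← Nat.card_congr (Subgroup.equivMapOfInjective H _ (MulAut.conj P).injective).toEquiv, Nat.card_congr e.toEquiv]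
    have heq := Subgroup.eq_of_le_of_card_ge hle (by rw [hcard _ _ h₁, hcard _ _ h₂])
    refine ⟨P₂⁻¹ * P₁, ?_⟩
    calc H₂ = (H₂.map (MulAut.conj P₂).toMonoidHom).map (MulAut.conj P₂⁻¹).toMonoidHom := by
          rw [Subgroup.map_map]; ext z; simp [mul_assoc]
      _ = (H₁.map (MulAut.conj P₁).toMonoidHom).map (MulAut.conj P₂⁻¹).toMonoidHom := by rw [heq]
      _ = _ := by rw [Subgroup.map_map]; congr 1; ext z; simp [mul_assoc]

end Cfsg.Agent.S2874
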