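import Cfsg.Statements.S2879
import Cfsg.Agent.Inv.Q8Auto
import Cfsg.Agent.Solv.FittingBasic
import Cfsg.Agent.Lie.Orders
import Mathlib

set_option autoImplicit false
open Cfsg

namespace Cfsg.Agent.S2879

open CfsgLib.Inv
open scoped Pointwise

set_option maxHeartbeats 1000000

theorem sl23_gen : Subgroup.closure ({(⟨!![0, 1; -1, 0], by decide⟩ : Matrix.SpecialLinearGroup (Fin 2) (ZMod 3)),
    ⟨!![2, 2; 2, 1], by decide⟩, ⟨!![1, 1; 0, 1], by decide⟩} : Set (Matrix.SpecialLinearGroup (Fin 2) (ZMod 3))) = ⊤ := by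
  set a : Matrix.SpecialLinearGroup (Fin 2) (ZMod 3) := ⟨!![0, 1; -1, 0], by decide⟩ with ha
  set y : Matrix.SpecialLinearGroup (Fin 2) (ZMod 3) := ⟨!![1, 1; 0, 1], by decide⟩ with hy
  set S := Subgroup.closure ({a, ⟨!![2, 2; 2, 1], by decide⟩, y} : Set (Matrix.SpecialLinearGroup (Fin 2) (ZMod 3)))
  have haS : a ∈ S := Subgroup.subset_closure (Or.inl rfl)
  have hyS : y ∈ S := Subgroup.subset_closure (Or.inr (Or.inr rfl))
  have hpow : ∀ n : ℕ, ((y ^ n : Matrix.SpecialLinearGroup (Fin 2) (ZMod 3)) : Matrix (Fin 2) (Fin 2) (ZMod 3)) = !![1, (n : ZMod 3); 0, 1] := by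
    intro n
    induction n with
    | zero => simp [Matrix.one_fin_two]
    | succ n ih =>
      rw [pow_succ, Matrix.SpecialLinearGroup.coe_mul, ih, hy]
      ext i j
      fin_cases i <;> fin_cases j <;> simp [Matrix.mul_apply, Fin.sum_univ_two] <;> ring
  have main : ∀ g : Matrix.SpecialLinearGroup (Fin 2) (ZMod 3), (g : Matrix (Fin 2) (Fin 2) (ZMod 3)) 1 0 ≠ 0 → g ∈ S := by
    intro g hr
    set p := (g : Matrix (Fin 2) (Fin 2) (ZMod 3)) 0 0 with hp
    set u := (g : Matrix (Fin 2) (Fin 2) (ZMod 3)) 0 1 with hu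
    set r := (g : Matrix (Fin 2) (Fin 2) (ZMod 3)) 1 0 with hr'
    set s := (g : Matrix (Fin 2) (Fin 2) (ZMod 3)) 1 1 with hs
    have hdet : p * s - u * r = 1 := by
      have := g.2
      rw [Matrix.det_fin_two] at this
      exact this
    have e : g = y ^ ((p - 1) / r).val * (a * y ^ (-r).val * a⁻¹) * y ^ ((s - 1) / r).val := by
      refine Subtype.ext ?_
      rw [Matrix.eta_fin_two (g : Matrix (Fin 2) (Fin 2) (ZMod 3)), ← hp, ← hu, ← hr', ← hs]
      simp only [Matrix.SpecialLinearGroup.coe_mul, Matrix.SpecialLinearGroup.coe_inv, hpow, ZMod.natCast_val,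
        ZMod.cast_id', id_eq]
      ext i j
      fin_cases i <;> fin_cases j <;>
        simp [ha, Matrix.mul_apply, Fin.sum_univ_two, Matrix.adjugate_fin_two] <;> field_simp <;>
        first | linear_combination (0 : ZMod 3) * hdet | linear_combination -hdet | linear_combination hdet | ring
    rw [e]
    exact mul_mem (mul_mem (pow_mem hyS _) (mul_mem (mul_mem haS (pow_mem hyS _)) (inv_mem haS))) (pow_mem hyS _)
  refine top_le_iff.1 fun g _ => ?_
  by_cases hr : (g : Matrix (Fin 2) (Fin 2) (ZMod 3)) 1 0 = 0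
  · have : g * a ∈ S := main _ (by
      have hdet := g.2
      rw [Matrix.det_fin_two, hr, mul_zero, sub_zero] at hdet
      have h10 : ((g * a : Matrix.SpecialLinearGroup (Fin 2) (ZMod 3)) : Matrix (Fin 2) (Fin 2) (ZMod 3)) 1 0 =
          - (g : Matrix (Fin 2) (Fin 2) (ZMod 3)) 1 1 := by
        rw [Matrix.SpecialLinearGroup.coe_mul]; simp [ha, Matrix.mul_apply, Fin.sum_univ_two]
      intro e
      rw [h10, neg_eq_zero] at e
      rw [e, mul_zero] at hdet
      exact zero_ne_one hdet)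
    have := mul_mem this (inv_mem haS)
    rwa [mul_inv_cancel_right] at this
  · exact main g hr

noncomputable def slData : Q8.Data (Matrix.SpecialLinearGroup (Fin 2) (ZMod 3)) where
  a := ⟨!![0, 1; -1, 0], by decide⟩
  b := ⟨!![2, 2; 2, 1], by decide⟩
  y := ⟨!![1, 1; 0, 1], by decide⟩
  hcard := by rw [CfsgLib.Lie.Orders.card_SL_two (ZMod.card 3)]; norm_num
  hgen := sl23_gen
  a4 := by decide
  b2 := by decide
  ba := by decide
  y3 := by decide
  ya := by decide
  yb := by decide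

theorem conj_rel {G : Type*} [Group G] {c b : G} (c4 : c ^ 4 = 1) (hb2 : b ^ 2 = c ^ 2) (hb' : b * c = c ^ 3 * b) :
    c * b * c⁻¹ = b ^ 3 :=
  calc c * b * c⁻¹ = (b * c ^ 3 * b⁻¹) * b * c⁻¹ := by
        rw [← conj_pow, mul_inv_eq_iff_eq_mul.2 hb', ← pow_mul,
          show c ^ (3 * 3) = (c ^ 4) ^ 2 * c by rw [← pow_mul, ← pow_succ], c4, one_pow, one_mul]
    _ = b * c ^ 2 := by group
    _ = b ^ 3 := by rw [← hb2, ← pow_succ']

theorem main {G : Type*} [Group G] [Finite G] [Group.IsSolvable G] (hO : Cfsg.oddCore G = ⊥) (T : Sylow 2 G)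
    (r : G) (hr : r ∈ (T : Subgroup G)) (hri : (Subgroup.zpowers r).relIndex (T : Subgroup G) = 2)
    (hT8 : 8 ≤ Nat.card (T : Subgroup G)) (hne : (T : Subgroup G) ≠ ⊤)
    (hZ : ((T : Subgroup G) ⊓ Subgroup.centralizer ((T : Subgroup G) : Set G)).Normal) :
    ∃ U : Subgroup G, U.Normal ∧ Nonempty (↥U ≃* Matrix.SpecialLinearGroup (Fin 2) (ZMod 3)) := by
  haveI : Fact (Nat.Prime 2) := ⟨Nat.prime_two⟩
  set F := Cfsg.pCore 2 G with hFdef
  haveI hFn : F.Normal := CfsgLib.Solv.pCore_normal G 2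
  have hF : IsPGroup 2 F := CfsgLib.Solv.pCore_isPGroup G 2
  have hFT : F ≤ T := CfsgLib.Solv.pCore_le_sylow T
  have hCF : Subgroup.centralizer (F : Set G) ≤ F := CfsgLib.Solv.centralizer_pCore_le hO
  have hFc : ∀ g : G, ∀ f ∈ F, g * f * g⁻¹ ∈ F := fun g f hf => hFn.conj_mem f hf g
  have hnc : ∀ x : G, Odd (orderOf x) → x ≠ 1 → ∃ f ∈ F, x * f * x⁻¹ ≠ f := by
    intro x hx hx1
    by_contra hno
    push Not at hno
    obtain ⟨k, hk⟩ := IsPGroup.iff_orderOf.1 hF ⟨x, hCF (Subgroup.mem_centralizer_iff.2 fun f hf =>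
      (mul_inv_eq_iff_eq_mul.1 (hno f hf)).symm)⟩
    rw [Subgroup.orderOf_mk] at hk
    rcases k with _ | k
    · exact hx1 (orderOf_eq_one_iff.1 (by rw [hk, pow_zero]))
    · rw [hk, pow_succ] at hx
      exact Nat.not_even_iff_odd.2 hx (even_two.mul_left _)
  obtain ⟨x, hx, hx1⟩ : ∃ x : G, Odd (orderOf x) ∧ x ≠ 1 := by
    by_contra hno
    push Not at hno
    refine hne (Subgroup.eq_top_of_card_eq _ ?_)
    obtain ⟨n, hn⟩ : ∃ n, Nat.card G = 2 ^ n :=
      ⟨_, Nat.eq_prime_pow_of_unique_prime_dvd Nat.card_pos.ne' fun {q} hq hdvd => by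
        by_contra hq2
        haveI : Fact q.Prime := ⟨hq⟩
        obtain ⟨x, hx⟩ := exists_prime_orderOf_dvd_card' q hdvd
        exact hq.ne_one (by rw [← hx, hno x (hx ▸ hq.odd_of_ne_two hq2), orderOf_one])⟩
    have hco := T.card_eq_multiplicity
    rw [hn, Nat.Prime.factorization_pow Nat.prime_two, Finsupp.single_eq_same] at hco
    rw [hn, ← hco]
  -- a cyclic subgroup of index at most 2 in `F`
  obtain ⟨⟨c, hcI⟩, hc⟩ : ∃ c : ↥(F ⊓ Subgroup.zpowers r), ∀ v, v ∈ Subgroup.zpowers c := by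
    haveI : IsCyclic ↥(F ⊓ Subgroup.zpowers r) :=
      isCyclic_of_injective (Subgroup.inclusion (inf_le_right : F ⊓ Subgroup.zpowers r ≤ Subgroup.zpowers r)) (Subgroup.inclusion_injective _)
    exact IsCyclic.exists_generator
  have hcF : c ∈ F := (Subgroup.mem_inf.1 hcI).1
  have hceq : Subgroup.zpowers c = F ⊓ Subgroup.zpowers r := by
    refine le_antisymm (Subgroup.zpowers_le.2 hcI) fun v hv => ?_
    obtain ⟨i, hi⟩ := hc ⟨v, hv⟩
    exact ⟨i, congrArg Subtype.val hi⟩
  have hidx : (Subgroup.zpowers c).relIndex F = 2 := by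
    rw [hceq, Subgroup.inf_relIndex_left]
    rcases eq_or_ne ((Subgroup.zpowers r).relIndex F) 1 with h | h
    · exfalso
      have hle := Subgroup.relIndex_eq_one.1 h
      obtain ⟨f, hf, hfne⟩ := hnc x hx hx1
      obtain ⟨k, hk⟩ := IsPGroup.iff_orderOf.1 hF ⟨c, hcF⟩
      rw [Subgroup.orderOf_mk] at hk
      have hxc := Q8.aut_cyclic_trivial hk hx (hceq.symm.le ⟨hFc x c hcF, hle (hFc x c hcF)⟩)
      obtain ⟨i, hi⟩ : f ∈ Subgroup.zpowers c := hceq.symm.le ⟨hf, hle hf⟩
      exact hfne (by rw [← hi]; show x * c ^ i * x⁻¹ = c ^ i; rw [← conj_zpow, hxc])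
    · haveI : ((Subgroup.zpowers r).subgroupOf (T : Subgroup G)).Normal := Subgroup.normal_of_index_eq_two hri
      have hd : ((Subgroup.zpowers r).subgroupOf (T : Subgroup G)).relIndex (F.subgroupOf (T : Subgroup G)) ∣
          ((Subgroup.zpowers r).subgroupOf (T : Subgroup G)).index := Subgroup.relIndex_dvd_index_of_normal _ _
      rw [Subgroup.relIndex_subgroupOf hFT] at hd
      change (Subgroup.zpowers r).relIndex F ∣ (Subgroup.zpowers r).relIndex (T : Subgroup G) at hd
      rw [hri] at hd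
      exact ((Nat.dvd_prime Nat.prime_two).1 hd).resolve_left h
  have hfull := fun (g : G) (hg : Odd (orderOf g)) (hg1 : g ≠ 1) =>
    Q8.structure_of_auto hF hcF hidx hg (hFc g) (hnc g hg hg1)
  have hcardc := Subgroup.relIndex_mul_relIndex ⊥ _ F bot_le (Subgroup.zpowers_le.2 hcF)
  rw [Subgroup.relIndex_bot_left, Subgroup.relIndex_bot_left, Nat.card_zpowers, hidx] at hcardc
  have hmv := Q8.moves hF hcF hidx hx (hFc x) (hnc x hx hx1)
  have h8 : Nat.card F = 8 := by
    have hle := Nat.le_of_dvd (by norm_num) (hfull x hx hx1).1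
    have hdvd := (hfull x hx hx1).1
    have hposc := orderOf_pos c
    have : orderOf c ≠ 1 := fun h => hmv (by rw [orderOf_eq_one_iff.1 h]; simp)
    by_contra hne8
    have ho : orderOf c = 2 := by
      rcases Nat.lt_or_ge (orderOf c) 3 with h | h
      · omega
      · exfalso
        have : orderOf c = 3 ∨ orderOf c = 4 := by omega
        rcases this with h' | h'
        · rw [← hcardc, h'] at hdvd; norm_num at hdvd
        · omega
    have hF4 : Nat.card F = 4 := by omega
    -- the centre of `T`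
    set Z := (T : Subgroup G) ⊓ Subgroup.centralizer ((T : Subgroup G) : Set G)
    haveI := hZ
    have hZF : Z ≤ F := CfsgLib.Solv.le_pCore (T.isPGroup'.to_le inf_le_left)
    haveI : Nontrivial ↥(T : Subgroup G) := Finite.one_lt_card_iff_nontrivial.1 (by omega)
    haveI : Nontrivial ↥(Subgroup.center ↥(T : Subgroup G)) := T.isPGroup'.center_nontrivial
    obtain ⟨⟨⟨z, hzT⟩, hzc⟩, hz1⟩ := exists_ne (1 : ↥(Subgroup.center ↥(T : Subgroup G)))
    have hzne : z ≠ 1 := fun e => hz1 (Subtype.ext (Subtype.ext e))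
    have hzZ : z ∈ Z := Subgroup.mem_inf.2 ⟨hzT, Subgroup.mem_centralizer_iff.2 fun t ht =>
      congrArg Subtype.val (Subgroup.mem_center_iff.1 hzc ⟨t, ht⟩)⟩
    have hZlt : Z < F := lt_of_le_of_ne hZF fun e => by
      have : (T : Subgroup G) ≤ F := fun t ht => hCF (Subgroup.mem_centralizer_iff.2 fun f hf => by
        rw [SetLike.mem_coe, ← e] at hf
        exact ((Subgroup.mem_centralizer_iff.1 (Subgroup.mem_inf.1 hf).2) t ht).symm)
      have := Nat.le_of_dvd Nat.card_pos (Subgroup.card_dvd_of_le this)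
      omega
    have hZ2 : Nat.card Z = 2 := by
      have hd : Nat.card Z ∣ 2 ^ 2 := by
        rw [show 2 ^ 2 = Nat.card F by rw [hF4]; rfl]; exact Subgroup.card_dvd_of_le hZlt.le
      obtain ⟨j, hj, e⟩ := (Nat.dvd_prime_pow Nat.prime_two).1 hd
      rcases j with _ | _ | _ | j
      · exfalso
        exact hzne (Subgroup.mem_bot.1 (Subgroup.eq_bot_of_card_le Z (by rw [e, pow_zero]) ▸ hzZ))
      · rw [e]; rfl
      · exact absurd (Subgroup.eq_of_le_of_card_ge hZlt.le (by rw [hF4, e]; norm_num)) hZlt.ne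
      · omega
    have hzZeq : Subgroup.zpowers z = Z := Subgroup.eq_of_le_of_card_ge (Subgroup.zpowers_le.2 hzZ) (by
      rw [hZ2, Nat.card_zpowers]
      rcases Nat.lt_or_ge (orderOf z) 2 with h | h
      · exfalso
        have := orderOf_pos z
        exact hzne (orderOf_eq_one_iff.1 (by omega))
      · exact h)
    have hzi : (Subgroup.zpowers z).relIndex F = 2 := by
      have h := Subgroup.relIndex_mul_relIndex ⊥ _ F bot_le (hzZeq.le.trans hZlt.le)
      rw [Subgroup.relIndex_bot_left, Subgroup.relIndex_bot_left, hzZeq, hZ2, hF4] at h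
      rw [hzZeq]; omega
    exact Q8.moves hF (hZlt.le hzZ) hzi hx (hFc x) (hnc x hx hx1) (hzZeq.symm.le (hZ.conj_mem z hzZ x))
  have hc4 : orderOf c = 4 := by omega
  obtain ⟨c4, c2, -, -, -⟩ := (hfull x hx hx1).2 h8
  -- every odd element has order 3 and satisfies one of two relation sets
  have hrel : ∀ g : G, Odd (orderOf g) → g ≠ 1 → g ^ 3 = 1 ∧
      (g * (g * c * g⁻¹) * g⁻¹ = c * (g * c * g⁻¹) ∨ g * (g * c * g⁻¹) * g⁻¹ = c ^ 3 * (g * c * g⁻¹)) := by
    intro g hg hg1
    obtain ⟨-, -, hb2, -, hbc⟩ := (hfull g hg hg1).2 h8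
    set b := g * c * g⁻¹ with hb
    have hbF : b ∈ F := hFc g c hcF
    have hCle : Subgroup.zpowers c ≤ F := Subgroup.zpowers_le.2 hcF
    have hbC : b ∉ Subgroup.zpowers c := Q8.moves hF hcF hidx hg (hFc g) (hnc g hg hg1)
    have hg2 : g ^ 2 ≠ 1 := fun e => by
      have h1 : orderOf g ∣ 2 := orderOf_dvd_of_pow_eq_one e
      rcases (Nat.dvd_prime Nat.prime_two).1 h1 with h | h
      · exact hg1 (orderOf_eq_one_iff.1 h)
      · rw [h] at hg; exact Nat.not_even_iff_odd.2 hg even_two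
    have hg2o : Odd (orderOf (g ^ 2)) := hg.of_dvd_nat (orderOf_pow_dvd 2)
    set t := g * b * g⁻¹ with ht
    have htC : t ∉ Subgroup.zpowers c := by
      have h := Q8.moves hF hcF hidx hg2o (hFc (g ^ 2)) (hnc _ hg2o hg2)
      have e : g ^ 2 * c * (g ^ 2)⁻¹ = t := by rw [ht, hb]; simp [pow_two, mul_assoc]
      rwa [e] at h
    have htB : t ∉ Subgroup.zpowers b :=
      Q8.moves hF hbF (Q8.relIndex_conj hcF hidx (hFc g)) hg (hFc g) (hnc g hg hg1)
    have hdec : ∀ f ∈ F, f ∉ Subgroup.zpowers c → ∃ j : ℕ, j < 4 ∧ f = c ^ j * b := by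
      intro f hf hfC
      have hm := Q8.mul_mem_of_not hCle hidx hf (inv_mem hbF) hfC (fun h => hbC (by simpa using inv_mem h))
      obtain ⟨j, hj⟩ := (isOfFinOrder_of_finite c).mem_powers_iff_mem_zpowers.2 hm
      refine ⟨j % 4, Nat.mod_lt _ (by norm_num), ?_⟩
      have hj' : c ^ j = f * b⁻¹ := hj
      rw [← hc4, pow_mod_orderOf, hj', inv_mul_cancel_right]
    obtain ⟨j, hj4, hj⟩ := hdec t (hFc g b hbF) htC
    have hj' : j = 1 ∨ j = 3 := by
      rcases j with _ | _ | _ | _ | j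
      · exact absurd (by rw [hj, pow_zero, one_mul]; exact Subgroup.mem_zpowers b) htB
      · exact Or.inl rfl
      · refine absurd ?_ htB
        rw [hj, ← hb2]
        exact mul_mem (pow_mem (Subgroup.mem_zpowers b) 2) (Subgroup.mem_zpowers b)
      · exact Or.inr rfl
      · omega
    have hconj : ∀ n : ℕ, g * (c ^ n * b) * g⁻¹ = b ^ n * t := fun n => by
      rw [show g * (c ^ n * b) * g⁻¹ = (g * c ^ n * g⁻¹) * (g * b * g⁻¹) by group, ← conj_pow]
    have hg3c : g * t * g⁻¹ = c := by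
      rw [hj, hconj, hj]
      have hbc' : b * c = c ^ 3 * b := mul_inv_eq_iff_eq_mul.1 hbc
      rcases hj' with rfl | rfl
      · rw [pow_one, pow_one, ← mul_assoc, hbc', mul_assoc, ← pow_two, hb2, ← pow_add]
        calc c ^ (3 + 2) = c ^ 4 * c := by rw [← pow_succ]
          _ = c := by rw [c4, one_mul]
      · have hb4 : b ^ 4 = 1 := by rw [show 4 = 2 * 2 from rfl, pow_mul, hb2, ← pow_mul, c4]
        rw [← hbc', ← mul_assoc, ← pow_succ, hb4, one_mul]
    have hcfix : g ^ 3 * c * (g ^ 3)⁻¹ = c := by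
      conv_rhs => rw [← hg3c, ht, hb]
      simp [pow_succ, mul_assoc]
    have hbfix : g ^ 3 * b * (g ^ 3)⁻¹ = b := by
      calc g ^ 3 * b * (g ^ 3)⁻¹ = g * (g ^ 3 * c * (g ^ 3)⁻¹) * g⁻¹ := by
            rw [hb]; simp [pow_succ, mul_assoc]
        _ = b := by rw [hcfix]
    refine ⟨?_, ?_⟩
    · by_contra hne3
      have h3o : Odd (orderOf (g ^ 3)) := hg.of_dvd_nat (orderOf_pow_dvd 3)
      obtain ⟨f, hf, hfne⟩ := hnc _ h3o hne3
      apply hfne
      by_cases hfC : f ∈ Subgroup.zpowers c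
      · obtain ⟨i, rfl⟩ := hfC
        show g ^ 3 * c ^ i * (g ^ 3)⁻¹ = c ^ i
        rw [← conj_zpow, hcfix]
      · obtain ⟨i, -, rfl⟩ := hdec f hf hfC
        rw [show g ^ 3 * (c ^ i * b) * (g ^ 3)⁻¹ = (g ^ 3 * c ^ i * (g ^ 3)⁻¹) * (g ^ 3 * b * (g ^ 3)⁻¹) by group,
          ← conj_pow, hcfix, hbfix]
    · rcases hj' with rfl | rfl
      · exact Or.inl (by rw [hj, pow_one])
      · exact Or.inr hj
  -- choose the generator
  obtain ⟨y, hy, hy1, hyrel⟩ : ∃ y : G, Odd (orderOf y) ∧ y ≠ 1 ∧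
      y * (y * c * y⁻¹) * y⁻¹ = c ^ 3 * (y * c * y⁻¹) := by
    obtain ⟨x3, h | h⟩ := hrel x hx hx1
    swap
    · exact ⟨x, hx, hx1, h⟩
    refine ⟨x⁻¹, by rwa [orderOf_inv], inv_ne_one.2 hx1, ?_⟩
    set b := x * c * x⁻¹ with hb
    have hx2 : x⁻¹ = x ^ 2 := inv_eq_of_mul_eq_one_right (by rw [← pow_succ', x3])
    have hb' : x⁻¹ * c * x⁻¹⁻¹ = c * b := by
      calc x⁻¹ * c * x⁻¹⁻¹ = x ^ 2 * c * (x ^ 2)⁻¹ := by rw [← hx2]
        _ = x * (x * c * x⁻¹) * x⁻¹ := by rw [pow_two]; group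
        _ = c * b := h
    rw [hb', ← mul_assoc (c ^ 3), ← pow_succ, c4, one_mul]
    calc x⁻¹ * (c * b) * x⁻¹⁻¹ = x⁻¹ * (x * b * x⁻¹) * x⁻¹⁻¹ := by rw [h]
      _ = b := by group
  obtain ⟨hy3, -⟩ := hrel y hy hy1
  obtain ⟨-, -, hb2, -, hbc⟩ := (hfull y hy hy1).2 h8
  set b := y * c * y⁻¹ with hb
  have hbF : b ∈ F := hFc y c hcF
  have hbC : b ∉ Subgroup.zpowers c := Q8.moves hF hcF hidx hy (hFc y) (hnc y hy hy1)
  have hCle : Subgroup.zpowers c ≤ F := Subgroup.zpowers_le.2 hcF
  have hb' : b * c = c ^ 3 * b := mul_inv_eq_iff_eq_mul.1 hbc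
  set U := F ⊔ Subgroup.zpowers y with hU
  have hFle : F ≤ U := le_sup_left
  have hyU : y ∈ U := Subgroup.mem_sup_right (Subgroup.mem_zpowers y)
  -- elements fixing both cyclic subgroups lie in `F`
  have kfix : ∀ g : G, g * c * g⁻¹ ∈ Subgroup.zpowers c → g * b * g⁻¹ ∈ Subgroup.zpowers b → g ∈ F := by
    intro g h1 h2
    have hbd : orderOf b = 4 := by
      rw [hb]
      exact (orderOf_injective (MulAut.conj y).toMonoidHom (MulAut.conj y).injective c).trans hc4
    have hpm : ∀ {u v : G}, orderOf u = 4 → orderOf v = 4 → v ∈ Subgroup.zpowers u → v = u ∨ v = u ^ 3 := by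
      intro u v hu hv hm
      obtain ⟨j, hj⟩ := (isOfFinOrder_of_finite u).mem_powers_iff_mem_zpowers.2 hm
      have hv' : v = u ^ (j % 4) := by rw [← hu, pow_mod_orderOf]; exact hj.symm
      have hlt : j % 4 < 4 := Nat.mod_lt _ (by norm_num)
      obtain ⟨m, hm'⟩ : ∃ m, m = j % 4 := ⟨_, rfl⟩
      rw [← hm'] at hv' hlt
      rcases m with _ | _ | _ | _ | m
      · rw [hv', pow_zero, orderOf_one] at hv; omega
      · exact Or.inl (by rw [hv', pow_one])
      · exfalso
        have h' : v ^ 2 = 1 := by rw [hv', ← pow_mul, show (0 + 1 + 1) * 2 = orderOf u by rw [hu], pow_orderOf_eq_one]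
        have := Nat.le_of_dvd (by norm_num) (orderOf_dvd_of_pow_eq_one h')
        omega
      · exact Or.inr hv'
      · omega
    have hgc : g * c * g⁻¹ = c ∨ g * c * g⁻¹ = c ^ 3 := hpm hc4 ((orderOf_injective (MulAut.conj g).toMonoidHom (MulAut.conj g).injective c).trans hc4) h1
    have hgb : g * b * g⁻¹ = b ∨ g * b * g⁻¹ = b ^ 3 := hpm hbd ((orderOf_injective (MulAut.conj g).toMonoidHom (MulAut.conj g).injective b).trans hbd) h2
    have hcb : c * b * c⁻¹ = b ^ 3 := conj_rel c4 hb2 hb'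
    have hCb : ∀ f : G, f * c * f⁻¹ = g * c * g⁻¹ → f * b * f⁻¹ = g * b * g⁻¹ → f ∈ F → g ∈ F := by
      intro f e1 e2 hf
      have hk : f⁻¹ * g ∈ F := hCF (Subgroup.mem_centralizer_iff.2 fun u hu => by
        refine (mul_inv_eq_iff_eq_mul.1 ?_).symm
        have hc' : f⁻¹ * g * c * (f⁻¹ * g)⁻¹ = c := by
          rw [show f⁻¹ * g * c * (f⁻¹ * g)⁻¹ = f⁻¹ * (g * c * g⁻¹) * f by group, ← e1]; group
        have hb'' : f⁻¹ * g * b * (f⁻¹ * g)⁻¹ = b := by
          rw [show f⁻¹ * g * b * (f⁻¹ * g)⁻¹ = f⁻¹ * (g * b * g⁻¹) * f by group, ← e2]; group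
        by_cases huC : u ∈ Subgroup.zpowers c
        · obtain ⟨i, rfl⟩ := huC
          show f⁻¹ * g * c ^ i * (f⁻¹ * g)⁻¹ = c ^ i
          rw [← conj_zpow, hc']
        · obtain ⟨i, hi⟩ := Q8.mul_mem_of_not hCle hidx hu (inv_mem hbF) huC (fun h => hbC (by simpa using inv_mem h))
          have hi' : c ^ i = u * b⁻¹ := hi
          rw [show u = c ^ i * b by rw [hi', inv_mul_cancel_right],
            show f⁻¹ * g * (c ^ i * b) * (f⁻¹ * g)⁻¹ = (f⁻¹ * g * c ^ i * (f⁻¹ * g)⁻¹) * (f⁻¹ * g * b * (f⁻¹ * g)⁻¹) by group,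
            ← conj_zpow, hc', hb''])
      simpa using mul_mem hf hk
    rcases hgc with e1 | e1 <;> rcases hgb with e2 | e2
    · exact hCb 1 (by rw [e1]; group) (by rw [e2]; group) (one_mem F)
    · exact hCb c (by rw [e1]; group) (by rw [e2, hcb]) hcF
    · exact hCb b (by rw [e1, hbc]) (by rw [e2]; group) hbF
    · refine hCb (c * b) ?_ ?_ (mul_mem hcF hbF)
      · rw [e1, show c * b * c * (c * b)⁻¹ = c * (b * c * b⁻¹) * c⁻¹ by group, hbc]; group
      · rw [e2, show c * b * b * (c * b)⁻¹ = c * b * c⁻¹ by group, hcb]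
  have hyy : y * b * y⁻¹ = c ^ 3 * b := hyrel
  have hycy : y * (c ^ 3 * b) * y⁻¹ = c := by
    rw [show y * (c ^ 3 * b) * y⁻¹ = (y * c ^ 3 * y⁻¹) * (y * b * y⁻¹) by group, ← conj_pow, hyy, ← hb]
    have hb4 : b ^ 4 = 1 := by rw [show 4 = 2 * 2 from rfl, pow_mul, hb2, ← pow_mul, c4]
    rw [← hb', ← mul_assoc, ← pow_succ, hb4, one_mul]
  have hUn : U.Normal := by
    refine ⟨fun u hu g => ?_⟩
    have hle : U ≤ U.comap (MulAut.conj g).toMonoidHom := by
      refine sup_le (fun f hf => hFle (hFc g f hf)) (Subgroup.zpowers_le.2 ?_)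
      show g * y * g⁻¹ ∈ U
      set w := g * y * g⁻¹ with hw
      have hwo : Odd (orderOf w) := by
        rw [hw]
        exact (orderOf_injective (MulAut.conj g).toMonoidHom (MulAut.conj g).injective y).symm ▸ hy
      have hw1 : w ≠ 1 := fun e => hy1 (conj_eq_one_iff.1 e)
      have hwm : ∀ u ∈ F, (Subgroup.zpowers u).relIndex F = 2 → w * u * w⁻¹ ∉ Subgroup.zpowers u :=
        fun u hu hu2 => Q8.moves hF hu hu2 hwo (hFc w) (hnc w hwo hw1)
      have hidb : (Subgroup.zpowers b).relIndex F = 2 := Q8.relIndex_conj hcF hidx (hFc y)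
      have hidt : (Subgroup.zpowers (c ^ 3 * b)).relIndex F = 2 := hyy ▸ Q8.relIndex_conj hbF hidb (hFc y)
      have hcube : ∀ v ∈ F, v ∈ Subgroup.zpowers c ∨ v ∈ Subgroup.zpowers b ∨ v ∈ Subgroup.zpowers (c ^ 3 * b) := by
        intro v hv
        by_cases hvC : v ∈ Subgroup.zpowers c
        · exact Or.inl hvC
        refine Or.inr ?_
        have hm := Q8.mul_mem_of_not hCle hidx hv (inv_mem hbF) hvC (fun h => hbC (by simpa using inv_mem h))
        obtain ⟨j, hj⟩ := (isOfFinOrder_of_finite c).mem_powers_iff_mem_zpowers.2 hm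
        have hj' : v = c ^ (j % 4) * b := by
          rw [← hc4, pow_mod_orderOf, show c ^ j = v * b⁻¹ from hj, inv_mul_cancel_right]
        have hlt : j % 4 < 4 := Nat.mod_lt _ (by norm_num)
        obtain ⟨m, hm'⟩ : ∃ m, m = j % 4 := ⟨_, rfl⟩
        rw [← hm'] at hj' hlt
        rcases m with _ | _ | _ | _ | m
        · exact Or.inl (by rw [hj', pow_zero, one_mul]; exact Subgroup.mem_zpowers b)
        · refine Or.inr ?_
          have e : (c ^ 3 * b) ^ 3 = v := by
            have h2 : (c ^ 3 * b) ^ 2 = c ^ 2 := by rw [← hyy, conj_pow, hb2, ← hb2, hb, conj_pow]; exact (by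
              have : y * c ^ 2 * y⁻¹ = c ^ 2 := by rw [← conj_pow, ← hb, hb2]
              rw [this, this])
            rw [hj', pow_succ, h2, ← mul_assoc, ← pow_add, show 2 + 3 = 4 + 1 from rfl, pow_succ, c4, one_mul, pow_one]
          rw [← e]; exact pow_mem (Subgroup.mem_zpowers _) 3
        · refine Or.inl ?_
          rw [hj', ← hb2]
          exact mul_mem (pow_mem (Subgroup.mem_zpowers b) 2) (Subgroup.mem_zpowers b)
        · exact Or.inr (by rw [hj']; exact Subgroup.mem_zpowers _)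
        · omega
      have hzimg : ∀ (k u v : G), k * u * k⁻¹ = v → ∀ z ∈ Subgroup.zpowers u, k * z * k⁻¹ ∈ Subgroup.zpowers v := by
        rintro k u v rfl _ ⟨i, rfl⟩
        exact ⟨i, conj_zpow⟩
      have hwc := hcube _ (hFc w c hcF)
      have hwb := hcube _ (hFc w b hbF)
      have hwt := hcube _ (hFc w _ (mul_mem (pow_mem hcF 3) hbF))
      have hpre : ∀ u v : G, orderOf u = orderOf v → w * u * w⁻¹ ∈ Subgroup.zpowers v →
          ∀ z ∈ Subgroup.zpowers v, ∃ a ∈ Subgroup.zpowers u, w * a * w⁻¹ = z := by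
        intro u v huv hm z hz
        have e : Subgroup.zpowers (w * u * w⁻¹) = Subgroup.zpowers v :=
          Subgroup.eq_of_le_of_card_ge (Subgroup.zpowers_le.2 hm) (by
            rw [Nat.card_zpowers, Nat.card_zpowers,
              show orderOf (w * u * w⁻¹) = orderOf u from orderOf_injective (MulAut.conj w).toMonoidHom (MulAut.conj w).injective u, huv])
        rw [← e] at hz
        obtain ⟨i, rfl⟩ := hz
        exact ⟨u ^ i, zpow_mem (Subgroup.mem_zpowers u) i, conj_zpow.symm⟩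
      have hob : orderOf b = orderOf c := orderOf_injective (MulAut.conj y).toMonoidHom (MulAut.conj y).injective c
      have hot : orderOf (c ^ 3 * b) = orderOf b := by
        rw [← hyy]; exact orderOf_injective (MulAut.conj y).toMonoidHom (MulAut.conj y).injective b
      have hwc' := hwm c hcF hidx
      rcases (hwc.resolve_left hwc') with h | h
      · -- `w` moves `c` to `b`
        have hbt : w * b * w⁻¹ ∈ Subgroup.zpowers (c ^ 3 * b) := by
          rcases hwb with h' | h' | h'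
          · exfalso
            rcases hwt with h'' | h'' | h''
            · obtain ⟨a, ha, e⟩ := hpre b c hob h' _ h''
              have hat : a = c ^ 3 * b := (MulAut.conj w).injective e
              rw [hat] at ha
              exact hbC (by
                have h3 : c ^ 3 ∈ Subgroup.zpowers b := by simpa using mul_mem ha (inv_mem (Subgroup.mem_zpowers b))
                have h9 : c ∈ Subgroup.zpowers b := by
                  have e9 : (c ^ 3) ^ 3 = c := by
                    calc (c ^ 3) ^ 3 = (c ^ 4) ^ 2 * c := by rw [← pow_mul, ← pow_mul, ← pow_succ]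
                      _ = c := by rw [c4, one_pow, one_mul]
                  rw [← e9]; exact pow_mem h3 3
                have e : Subgroup.zpowers c = Subgroup.zpowers b := Subgroup.eq_of_le_of_card_ge (Subgroup.zpowers_le.2 h9) (by
                  rw [Nat.card_zpowers, Nat.card_zpowers, hob])
                rw [e]; exact Subgroup.mem_zpowers b)
            · obtain ⟨a, ha, e⟩ := hpre c b hob.symm h _ h''
              have hat : a = c ^ 3 * b := (MulAut.conj w).injective e
              rw [hat] at ha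
              exact hbC (by simpa using mul_mem (inv_mem (pow_mem (Subgroup.mem_zpowers c) 3)) ha)
            · exact hwm _ (mul_mem (pow_mem hcF 3) hbF) hidt h''
          · exact absurd h' (hwm b hbF hidb)
          · exact h'
        have hv : y⁻¹ * w ∈ F := kfix _ (by
          have := hzimg y⁻¹ b c (by rw [hb]; group) _ h
          simpa [mul_assoc] using this) (by
          have := hzimg y⁻¹ (c ^ 3 * b) b (by rw [← hyy]; group) _ hbt
          simpa [mul_assoc] using this)
        simpa using mul_mem hyU (hFle hv)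
      · -- `w` moves `c` to the third subgroup
        have hbt : w * b * w⁻¹ ∈ Subgroup.zpowers c := by
          rcases hwb with h' | h' | h'
          · exact h'
          · exact absurd h' (hwm b hbF hidb)
          · exfalso
            obtain ⟨a, ha, e⟩ := hpre c _ (hot.trans hob).symm h _ h'
            have hat : a = b := (MulAut.conj w).injective e
            exact hbC (hat ▸ ha)
        have hv : y * w ∈ F := kfix _ (by
          have := hzimg y _ c hycy _ h
          simpa [mul_assoc] using this) (by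
          have := hzimg y c b hb.symm _ hbt
          simpa [mul_assoc] using this)
        simpa using mul_mem (inv_mem hyU) (hFle hv)
    exact hle hu
  refine ⟨U, hUn, ?_⟩
  have hyF : y ∉ F := fun h => by
    have hd : orderOf y ∣ 8 := h8 ▸ Subgroup.orderOf_dvd_natCard F h
    rw [orderOf_eq_prime hy3 hy1] at hd
    norm_num at hd
  have ho3 : orderOf y = 3 := orderOf_eq_prime hy3 hy1
  have hcU : Nat.card U = 24 := by
    have hle : Nat.card U ≤ 24 := by
      have e : (U : Set G) = (F : Set G) * (Subgroup.zpowers y : Set G) := Subgroup.normal_mul F (Subgroup.zpowers y)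
      have := Set.natCard_mul_le (s := (F : Set G)) (t := (Subgroup.zpowers y : Set G))
      rw [← e] at this
      simpa [h8, Nat.card_zpowers, ho3] using this
    have h1 : 8 ∣ Nat.card U := h8 ▸ Subgroup.card_dvd_of_le hFle
    have h2 : 3 ∣ Nat.card U := ho3 ▸ Subgroup.orderOf_dvd_natCard U hyU
    have h3 : 24 ∣ Nat.card U := Nat.Coprime.mul_dvd_of_dvd_of_dvd (by norm_num) h1 h2
    have := Nat.le_of_dvd Nat.card_pos h3
    omega
  have hgen : Subgroup.closure ({⟨c, hFle hcF⟩, ⟨b, hFle hbF⟩, ⟨y, hyU⟩} : Set ↥U) = ⊤ := by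
    refine Subgroup.map_injective U.subtype_injective ?_
    rw [MonoidHom.map_closure, ← MonoidHom.range_eq_map, Subgroup.range_subtype]
    simp only [Set.image_insert_eq, Set.image_singleton, Subgroup.coe_subtype]
    refine le_antisymm ((Subgroup.closure_le _).2 ?_) (sup_le (fun f hf => ?_) (Subgroup.zpowers_le.2 (Subgroup.subset_closure (Or.inr (Or.inr rfl)))))
    · rintro u (rfl | rfl | rfl)
      exacts [hFle hcF, hFle hbF, hyU]
    · by_cases hfC : f ∈ Subgroup.zpowers c
      · exact Subgroup.zpowers_le.2 (Subgroup.subset_closure (Set.mem_insert c ({b, y} : Set G))) hfC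
      · have hm := Q8.mul_mem_of_not hCle hidx hf (inv_mem hbF) hfC (fun h => hbC (by simpa using inv_mem h))
        have hcS : c ∈ Subgroup.closure ({c, b, y} : Set G) := Subgroup.subset_closure (Set.mem_insert c _)
        have hbS : b ∈ Subgroup.closure ({c, b, y} : Set G) := Subgroup.subset_closure (Set.mem_insert_of_mem c (Set.mem_insert b _))
        have := mul_mem (Subgroup.zpowers_le.2 hcS hm) hbS
        rwa [inv_mul_cancel_right] at this
  let D : Q8.Data ↥U :=
    { a := ⟨c, hFle hcF⟩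
      b := ⟨b, hFle hbF⟩
      y := ⟨y, hyU⟩
      hcard := hcU
      hgen := hgen
      a4 := Subtype.ext c4
      b2 := Subtype.ext hb2
      ba := Subtype.ext hb'
      y3 := Subtype.ext hy3
      ya := Subtype.ext (show y * c = b * y by rw [hb, inv_mul_cancel_right])
      yb := Subtype.ext (show y * b = c ^ 3 * b * y from mul_inv_eq_iff_eq_mul.1 hyy) }
  exact D.iso slData

/-- Let G be a finite solvable group with O(G) = 1 whose Sylow 2-subgroup T is dihedral of order at least 8 or semidihedral, with G ≠ T and Z(T) normal in G. Then G has a normal subgroup isomorphic to SL₂(3). -/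
theorem result {G : Type*} [Group G] [Finite G] (hsol : IsSolvable G) (hO : Cfsg.oddCore G = ⊥) (T : Sylow 2 G) (hT : (∃ n : ℕ, 4 ≤ n ∧ Nonempty (↥(T : Subgroup G) ≃* DihedralGroup n)) ∨ Cfsg.IsQuasiDihedral ↥(T : Subgroup G)) (hne : (T : Subgroup G) ≠ ⊤) (hZ : ((T : Subgroup G) ⊓ Subgroup.centralizer ((T : Subgroup G) : Set G)).Normal) : ∃ U : Subgroup G, U.Normal ∧ Nonempty (↥U ≃* Matrix.SpecialLinearGroup (Fin 2) (ZMod 3)) := by
  haveI : Group.IsSolvable G := hsol
  haveI : Fact (Nat.Prime 2) := ⟨Nat.prime_two⟩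
  obtain ⟨n, hn, ⟨e⟩⟩ | hq := hT
  · haveI : NeZero n := ⟨by omega⟩
    have hcard : Nat.card (T : Subgroup G) = 2 * n := by rw [Nat.card_congr e.toEquiv, DihedralGroup.nat_card]
    set r : ↥(T : Subgroup G) := e.symm (DihedralGroup.r 1) with hr
    have ho : orderOf (r : G) = n := by rw [Subgroup.orderOf_coe, hr, MulEquiv.orderOf_eq, DihedralGroup.orderOf_r_one]
    refine main hO T r r.2 ?_ (by omega) hne hZ
    have h := Subgroup.relIndex_mul_relIndex ⊥ _ (T : Subgroup G) bot_le (Subgroup.zpowers_le.2 r.2)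
    rw [Subgroup.relIndex_bot_left, Subgroup.relIndex_bot_left, Nat.card_zpowers, ho, hcard] at h
    exact Nat.eq_of_mul_eq_mul_left (by omega) (h.trans (mul_comm 2 n))
  · obtain ⟨n, hn, hcard, u, w, hu, -, -⟩ := hq
    have h8 : 2 ^ 3 ≤ 2 ^ (n + 1) := Nat.pow_le_pow_right (by norm_num) (by omega)
    refine main hO T (u : G) u.2 ?_ (by rw [hcard]; exact h8) hne hZ
    have h := Subgroup.relIndex_mul_relIndex ⊥ _ (T : Subgroup G) bot_le (Subgroup.zpowers_le.2 u.2)
    rw [Subgroup.relIndex_bot_left, Subgroup.relIndex_bot_left, Nat.card_zpowers, Subgroup.orderOf_coe, hu, hcard, pow_succ] at h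
    exact Nat.eq_of_mul_eq_mul_left (by positivity) h

end Cfsg.Agent.S2879
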