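import Cfsg.Statements.S2881
import Cfsg.Agent.Inv.ExtraTwo

set_option autoImplicit false
open Cfsg

namespace Cfsg.Agent.S2881

/-- Let E be an extraspecial 2-group of order 2^(2m+1) of plus type (containing an elementary abelian subgroup of order 2^(m+1)), and let ω be an automorphism of E of order 5 whose fixed points are exactly the centre of E. Then m is divisible by 4. -/
theorem result {E : Type*} [Group E] [Finite E] (m : ℕ) (hm : 1 ≤ m) (hE : Cfsg.IsExtraspecial 2 E) (hcard : Nat.card E = 2 ^ (2 * m + 1)) (hplus : ∃ A : Subgroup E, Cfsg.IsElementaryAbelian 2 A ∧ Nat.card A = 2 ^ (m + 1)) (ω : E ≃* E) (hω : orderOf ω = 5) (hfix : ∀ x : E, ω x = x ↔ x ∈ Subgroup.center E) : 4 ∣ m := by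
  exact (by
    classical
    obtain ⟨A, hA, hAc⟩ := hplus
    have hn := CfsgLib.Inv.extraspecialTwo_card_order_four m hE hcard hA hAc
    haveI : Fact (Nat.Prime 5) := ⟨by norm_num⟩
    let T := {x : E // orderOf x = 4}
    let f : Equiv.Perm T := (ω.toEquiv).subtypeEquiv fun x => by
      show orderOf x = 4 ↔ orderOf (ω x) = 4
      rw [MulEquiv.orderOf_eq]
    have hω5 : ∀ x : E, ω (ω (ω (ω (ω x)))) = x := by
      have h5 : ω ^ 5 = 1 := hω ▸ pow_orderOf_eq_one ω
      intro x
      have := DFunLike.congr_fun h5 x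
      simpa [pow_succ, MulAut.mul_apply] using this
    have hf : f ^ 5 = 1 := by
      refine Equiv.ext fun x => Subtype.ext ?_
      simp only [pow_succ, pow_zero, one_mul, Equiv.Perm.mul_apply, Equiv.Perm.one_apply]
      exact hω5 x
    haveI := Fintype.ofFinite T
    have hfree : ∀ x : T, f x ≠ x := by
      intro x hx
      have h1 : (x : E) ∈ Subgroup.center E := (hfix x).1 (congrArg Subtype.val hx)
      have h2 : (⟨(x : E), h1⟩ : Subgroup.center E) ^ Nat.card (Subgroup.center E) = 1 := pow_card_eq_one'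
      rw [hE.2] at h2
      have h3 := orderOf_dvd_of_pow_eq_one (congrArg Subtype.val h2 : (x : E) ^ 2 = 1)
      rw [x.2] at h3
      exact absurd (Nat.le_of_dvd (by norm_num) h3) (by norm_num)
    have hdvd : 5 ∣ Fintype.card T := by
      by_contra hnd
      obtain ⟨x, hx⟩ := Equiv.Perm.exists_fixed_point_of_prime (p := 5) (n := 1) hnd (σ := f) (by simpa using hf)
      exact hfree x hx
    rw [← Nat.card_eq_fintype_card, hn] at hdvd
    have h1 : 2 ^ (2 * m) - 2 ^ m = 2 ^ m * (2 ^ m - 1) := by
      rw [Nat.mul_sub, mul_one, ← pow_add, two_mul]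
    rw [h1] at hdvd
    have h2 : 5 ∣ 2 ^ m - 1 := ((Nat.Prime.coprime_iff_not_dvd (Fact.out : Nat.Prime 5)).2 fun h =>
      absurd (Nat.Prime.dvd_of_dvd_pow (Fact.out : Nat.Prime 5) h) (by norm_num)).dvd_of_dvd_mul_left hdvd
    have h3 : m = 4 * (m / 4) + m % 4 := (Nat.div_add_mod m 4).symm
    have h4 : 2 ^ m % 5 = 2 ^ (m % 4) % 5 := by
      have : ∀ a b : ℕ, 2 ^ (4 * a + b) % 5 = 2 ^ b % 5 := fun a b => by
        induction a with
        | zero => simp
        | succ a ih =>
          rw [show 4 * (a + 1) + b = (4 * a + b) + 4 by ring, pow_add, Nat.mul_mod, ih]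
          omega
      conv_lhs => rw [h3]
      exact this _ _
    have h5 : 2 ^ m % 5 = 1 := by
      have := Nat.one_le_two_pow (n := m)
      omega
    rw [h4] at h5
    rw [Nat.dvd_iff_mod_eq_zero]
    have h6 : m % 4 < 4 := Nat.mod_lt _ (by norm_num)
    interval_cases hr : m % 4 <;> first | rfl | norm_num at h5)

end Cfsg.Agent.S2881
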