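import Cfsg.Statements.S2882
import Cfsg.Agent.Spor.OctadKernel
import Cfsg.Agent.Spor.M24Card
import Cfsg.Agent.Perm.SylowSym

set_option autoImplicit false
open Cfsg

namespace Cfsg.Agent.S2882

open CfsgLib.Spor CfsgLib.Perm
open scoped Pointwise

/-- In the Mathieu group of degree 24 (realised as the automorphism group of the extended binary Golay code) every Sylow 2-subgroup is self-normalizing. -/
theorem result (S : Sylow 2 ↥Cfsg.M24) : Subgroup.normalizer ((S : Subgroup ↥Cfsg.M24) : Set ↥Cfsg.M24) = (S : Subgroup ↥Cfsg.M24) := by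
    classical
    haveI : Fact (Nat.Prime 2) := ⟨Nat.prime_two⟩
    refine le_antisymm ?_ Subgroup.le_normalizer
    let o := O0
    have ho : o ∈ Cfsg.octads := O0_mem
    have hcard : Nat.card ↥(octStabG o) = 322560 := (card_stab_M24 o).symm.trans (card_stab_octad ho)
    let St : Subgroup ↥Cfsg.M24 := (octStabG o).subgroupOf Cfsg.M24
    have hStcard : Nat.card ↥St = 322560 :=
      (Nat.card_congr (Subgroup.subgroupOfEquivOfLe (inf_le_left : octStabG o ≤ Cfsg.M24)).toEquiv).trans hcard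
    have hidx : St.index = 759 := by
      have h := St.index_mul_card
      rw [hStcard, card_M24] at h
      omega
    -- a Sylow subgroup inside the stabiliser
    obtain ⟨R⟩ := (inferInstance : Nonempty (Sylow 2 ↥St))
    have hRi : ¬ 2 ∣ ((R : Subgroup ↥St).map St.subtype).index := by
      rw [Subgroup.index_map_subtype, hidx]
      intro h
      rcases Nat.prime_two.dvd_mul.1 h with h | h
      · exact R.not_dvd_index h
      · norm_num at h
    let T : Sylow 2 ↥Cfsg.M24 := (R.2.map St.subtype).toSylow hRi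
    suffices h : Subgroup.normalizer ((T : Subgroup ↥Cfsg.M24) : Set ↥Cfsg.M24) ≤ T from
      CfsgLib.Perm.sylowSelfNormalizing_of_one T h S
    have hTSt : (T : Subgroup ↥Cfsg.M24) ≤ St := Subgroup.map_subtype_le _
    -- the pointwise stabiliser
    let Kf : Subgroup ↥Cfsg.M24 := (octFix o).subgroupOf Cfsg.M24
    have hKT : Kf ≤ (T : Subgroup ↥Cfsg.M24) := by
      have hKSt : Kf ≤ St := Subgroup.comap_mono (octFix_le_stab o)
      haveI hn : (Kf.subgroupOf St).Normal := by
        refine ⟨fun k hk g => ?_⟩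
        rw [Subgroup.mem_subgroupOf, Subgroup.mem_subgroupOf, mem_octFix] at hk ⊢
        refine ⟨((g * k * g⁻¹ : ↥St) : ↥Cfsg.M24).2, fun p hp => ?_⟩
        have hg := MulAction.mem_stabilizer_iff.1 (Subgroup.mem_inf.1 (Subgroup.mem_subgroupOf.1 g.2)).2
        have hp' : ((g : ↥Cfsg.M24) : Equiv.Perm Cfsg.GolayPt)⁻¹ p ∈ o := by
          rw [← mem_smul_iff (σ := ((g : ↥Cfsg.M24) : Equiv.Perm Cfsg.GolayPt)), hg]
          simpa using hp
        show ((g : ↥Cfsg.M24) : Equiv.Perm Cfsg.GolayPt) (((k : ↥Cfsg.M24) : Equiv.Perm Cfsg.GolayPt)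
          (((g : ↥Cfsg.M24) : Equiv.Perm Cfsg.GolayPt)⁻¹ p)) = p
        rw [hk.2 _ hp']
        simp
      have hKp : IsPGroup 2 ↥(Kf.subgroupOf St) := by
        refine IsPGroup.of_card (n := 4) ?_
        rw [Nat.card_congr (Subgroup.subgroupOfEquivOfLe hKSt).toEquiv,
          Nat.card_congr (Subgroup.subgroupOfEquivOfLe ((octFix_le_stab o).trans inf_le_left)).toEquiv,
          (card_octFix ho).1]
        rfl
      obtain ⟨P, hP⟩ := hKp.exists_le_sylow
      obtain ⟨g, hg⟩ := MulAction.exists_smul_eq ↥St P R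
      intro x hx
      refine Subgroup.mem_map.2 ⟨⟨x, hKSt hx⟩, ?_, rfl⟩
      rw [← hg, Sylow.coe_subgroup_smul, Subgroup.mem_pointwise_smul_iff_inv_smul_mem]
      refine hP ?_
      have := hn.conj_mem ⟨x, hKSt hx⟩ (Subgroup.mem_subgroupOf.2 hx) g⁻¹
      simpa [MulAut.smul_def] using this
    intro x hx
    -- x fixes the octad
    have hxSt : x ∈ St := by
      refine Subgroup.mem_subgroupOf.2 (Subgroup.mem_inf.2 ⟨x.2, MulAction.mem_stabilizer_iff.2 ?_⟩)
      obtain ⟨σ, hσdef⟩ : ∃ σ, σ = (x : Equiv.Perm Cfsg.GolayPt) := ⟨_, rfl⟩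
      rw [← hσdef]
      have hoc : σ • o ∈ Cfsg.octads := smul_mem_octads (hσdef ▸ x.2) ho
      have hinv : ∀ k ∈ octFix o, ∀ p ∈ σ • o, k p ∈ σ • o := by
        intro k hk p hp
        have hkM := (mem_octFix.1 hk).1
        have hy : x⁻¹ * ⟨k, hkM⟩ * x ∈ (T : Subgroup ↥Cfsg.M24) := by
          have := (Subgroup.mem_normalizer_iff.1 (inv_mem hx) ⟨k, hkM⟩).1 (hKT (Subgroup.mem_subgroupOf.2 hk))
          simpa using this
        have hy' := MulAction.mem_stabilizer_iff.1 (Subgroup.mem_inf.1 (Subgroup.mem_subgroupOf.1 (hTSt hy))).2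
        have h2 : k • (σ • o) = σ • o := by
          have h3 : k * σ = σ * (σ⁻¹ * k * σ) := by group
          rw [← mul_smul, h3, mul_smul]
          congr 1
          simpa [hσdef] using hy'
        rw [← h2]
        exact mem_smul_iff.2 (by simpa using hp) |> fun h => by simpa using h
      by_contra hne
      obtain ⟨p, hp, hpo⟩ : ∃ p ∈ σ • o, p ∉ o := by
        by_contra h
        push Not at h
        exact hne (Finset.eq_of_subset_of_card_le h (by rw [card_smul_perm]))
      have hsub : oᶜ ⊆ σ • o := by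
        intro q hq
        obtain ⟨k, hk, hkp⟩ := (octFix_sharp ho hpo (Finset.mem_compl.1 hq)).1
        rw [← hkp]
        exact hinv k hk p hp
      have h1 := Finset.card_le_card hsub
      rw [Finset.card_compl, card_smul_perm, ho.2, show Fintype.card Cfsg.GolayPt = 24 from rfl] at h1
      omega
    -- the image in the alternating group of the octad
    let ψ : ↥St →* ↥(octRestrict o).range :=
      (octRestrict o).rangeRestrict.comp (Subgroup.subgroupOfEquivOfLe (inf_le_left : octStabG o ≤ Cfsg.M24)).toMonoidHom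
    have hψs : Function.Surjective ψ := (octRestrict o).rangeRestrict_surjective.comp (MulEquiv.surjective _)
    have hsn : SylowSelfNormalizing 2 ↥(octRestrict o).range := by
      refine sylowSelfNormalizing_of_mulEquiv
        ((MulEquiv.subgroupCongr (octRestrict_range ho)).trans (Equiv.altCongrHom (Finset.equivFinOfCardEq ho.2))).symm
        (sylowSelfNormalizing_alternating 8 (by norm_num))
    let Q : Sylow 2 ↥(octRestrict o).range := R.mapSurjective hψs
    have hxN : ψ ⟨x, hxSt⟩ ∈ Subgroup.normalizer ((Q : Subgroup ↥(octRestrict o).range) : Set _) := by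
      have hxR : (⟨x, hxSt⟩ : ↥St) ∈ Subgroup.normalizer ((R : Subgroup ↥St) : Set ↥St) := by
        refine Subgroup.mem_normalizer_iff.2 fun y => ?_
        have h := Subgroup.mem_normalizer_iff.1 hx (y : ↥Cfsg.M24)
        have hm : ∀ z : ↥St, (z : ↥Cfsg.M24) ∈ (T : Subgroup ↥Cfsg.M24) ↔ z ∈ (R : Subgroup ↥St) := fun z =>
          Subgroup.mem_map_iff_mem St.subtype_injective
        rw [hm, show x * (y : ↥Cfsg.M24) * x⁻¹ = ((⟨x, hxSt⟩ * y * (⟨x, hxSt⟩ : ↥St)⁻¹ : ↥St) : ↥Cfsg.M24) from rfl,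
          hm] at h
        exact h
      rw [show (Q : Subgroup ↥(octRestrict o).range) = (R : Subgroup ↥St).map ψ from Sylow.coe_mapSurjective hψs R]
      exact Subgroup.le_normalizer_map ψ ⟨_, hxR, rfl⟩
    obtain ⟨t, ht, htx⟩ : ψ ⟨x, hxSt⟩ ∈ (R : Subgroup ↥St).map ψ := by
      have := hsn Q hxN
      rwa [show (Q : Subgroup ↥(octRestrict o).range) = (R : Subgroup ↥St).map ψ from Sylow.coe_mapSurjective hψs R] at this
    have hkm : (((t⁻¹ * ⟨x, hxSt⟩ : ↥St) : ↥Cfsg.M24) : Equiv.Perm Cfsg.GolayPt) ∈ octFix o := by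
      have h1 : ψ (t⁻¹ * ⟨x, hxSt⟩) = 1 := by rw [map_mul, map_inv, ← htx, inv_mul_cancel]
      refine mem_octFix.2 ⟨((t⁻¹ * ⟨x, hxSt⟩ : ↥St) : ↥Cfsg.M24).2, fun p hp => ?_⟩
      exact congrArg (fun w : ↥(octRestrict o).range =>
        (((w : Equiv.Perm ↥o) ⟨p, hp⟩ : ↥o) : Cfsg.GolayPt)) h1
    have hfin := mul_mem (show (t : ↥Cfsg.M24) ∈ (T : Subgroup ↥Cfsg.M24) from ⟨t, ht, rfl⟩)
      (hKT (Subgroup.mem_subgroupOf.2 hkm))
    simpa using hfin

end Cfsg.Agent.S2882
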