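import Cfsg.Statements.S2896
import Cfsg.Agent.Inv.CharPLocal
import Cfsg.Agent.Perm.MinClass

set_option autoImplicit false
open Cfsg

namespace Cfsg.Agent.S2896

/-- Let p be a prime dividing the order of the finite group G, S a Sylow p-subgroup of G and X a subgroup of S. (i) If some nontrivial element z of the centre of X has F*(C_G(z)) = O_p(C_G(z)), then F*(N_G(X)) = O_p(N_G(X)). (ii) G has parabolic characteristic p if and only if F*(C_G(z)) = O_p(C_G(z)) for every nontrivial z ∈ Ω₁(Z(S)). (iii) If F*(C_G(z)) = O_p(C_G(z)) for every element z of S of order p, then G has local characteristic p. -/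
theorem result {G : Type*} [Group G] [Finite G] {p : ℕ} [Fact p.Prime] (hdiv : p ∣ Nat.card G) (S : Sylow p G) (X : Subgroup G) (hX : X ≤ (S : Subgroup G)) : (∀ z : G, z ≠ 1 → z ∈ X → (∀ x ∈ X, x * z = z * x) → Cfsg.generalizedFittingSubgroup ↥(Subgroup.centralizer ({z} : Set G)) = Cfsg.pCore p ↥(Subgroup.centralizer ({z} : Set G)) → Cfsg.generalizedFittingSubgroup ↥(Subgroup.normalizer (X : Set G)) = Cfsg.pCore p ↥(Subgroup.normalizer (X : Set G))) ∧ (Cfsg.IsOfParabolicCharacteristic p G ↔ ∀ z : G, z ≠ 1 → z ∈ Cfsg.omegaOne p ((S : Subgroup G) ⊓ Subgroup.centralizer ((S : Subgroup G) : Set G)) → Cfsg.generalizedFittingSubgroup ↥(Subgroup.centralizer ({z} : Set G)) = Cfsg.pCore p ↥(Subgroup.centralizer ({z} : Set G))) ∧ ((∀ z : G, z ∈ (S : Subgroup G) → orderOf z = p → Cfsg.generalizedFittingSubgroup ↥(Subgroup.centralizer ({z} : Set G)) = Cfsg.pCore p ↥(Subgroup.centralizer ({z} : Set G))) → Cfsg.IsOfLocalCharacteristic p G) := by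
  open CfsgLib.Inv in
  open scoped Pointwise in
  exact (by
    have hlem : ∀ (Y : Subgroup G) (z : G), IsPGroup p Y → z ∈ Y → (∀ y ∈ Y, y * z = z * y) →
        Subgroup.centralizer (Cfsg.pCore p ↥(Subgroup.centralizer ({z} : Set G)) : Set ↥(Subgroup.centralizer ({z} : Set G))) ≤
          Cfsg.pCore p ↥(Subgroup.centralizer ({z} : Set G)) →
        Subgroup.centralizer (Cfsg.pCore p ↥(Subgroup.normalizer (Y : Set G)) : Set ↥(Subgroup.normalizer (Y : Set G))) ≤
          Cfsg.pCore p ↥(Subgroup.normalizer (Y : Set G)) := fun Y z hY hzY hzc hz =>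
      charP_normalizer hz hY (fun y hy => Subgroup.mem_centralizer_singleton_iff.2 (hzc y hy))
        (Subgroup.centralizer_le (Set.singleton_subset_iff.2 hzY))
    refine ⟨fun z _ hzX hzc hF => ?_, ⟨fun hpar z hz1 hz => ?_, fun hall R hR hR1 hpar => ?_⟩,
      fun hall => ⟨hdiv, fun R hR hR1 => ?_⟩⟩
    · rw [genFitting_eq_pCore_iff] at hF ⊢
      exact hlem X z (S.2.to_le hX) hzX hzc hF
    · rw [genFitting_eq_pCore_iff]
      set Z := (S : Subgroup G) ⊓ Subgroup.centralizer ((S : Subgroup G) : Set G) with hZ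
      have key : z ∈ Z ∧ z ^ p = 1 := by
        rw [Cfsg.omegaOne] at hz
        clear hz1
        induction hz using Subgroup.closure_induction with
        | mem a ha => exact ha
        | one => exact ⟨one_mem _, one_pow _⟩
        | mul a b _ _ iha ihb =>
          exact ⟨mul_mem iha.1 ihb.1, by
            rw [Commute.mul_pow (Subgroup.mem_centralizer_iff.1 (Subgroup.mem_inf.1 ihb.1).2 a
              (Subgroup.mem_inf.1 iha.1).1), iha.2, ihb.2, one_mul]⟩
        | inv a _ iha => exact ⟨inv_mem iha.1, by rw [inv_pow, iha.2, inv_one]⟩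
      refine charP_of_parabolic hpar S key.2 hz1 fun s hs => Subgroup.mem_centralizer_singleton_iff.2 ?_
      exact Subgroup.mem_centralizer_iff.1 (Subgroup.mem_inf.1 key.1).2 s hs
    · obtain ⟨T, hT⟩ := hpar
      obtain ⟨g, hg⟩ := MulAction.exists_smul_eq G S T
      set N := Subgroup.normalizer (R : Set G) with hN
      haveI : (R.subgroupOf N).Normal := Subgroup.normal_in_normalizer (H := R)
      have hRT : R ≤ (T : Subgroup G) := fun r hr =>
        (IsPGroup.le_sylow_of_normal (N := R.subgroupOf N) hR.comap_subtype (T.subtype hT) : R.subgroupOf N ≤ _)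
          (show (⟨r, Subgroup.le_normalizer hr⟩ : N) ∈ R.subgroupOf N from hr)
      haveI : (R.subgroupOf (T : Subgroup G)).Normal := (Subgroup.normal_subgroupOf_iff_le_normalizer hRT).2 hT
      have hne : R.subgroupOf (T : Subgroup G) ≠ ⊥ := fun e => hR1 (le_bot_iff.1 fun r hr => by
        have h1 : (⟨r, hRT hr⟩ : (T : Subgroup G)) ∈ R.subgroupOf (T : Subgroup G) := hr
        rw [e] at h1
        exact Subgroup.mem_bot.2 (congrArg Subtype.val (Subgroup.mem_bot.1 h1)))
      have hI := CfsgLib.Perm.inf_center_ne_bot T.2 (R.subgroupOf (T : Subgroup G)) hne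
      have hIp : IsPGroup p ↥(R.subgroupOf (T : Subgroup G) ⊓ Subgroup.center (T : Subgroup G)) :=
        T.2.to_subgroup _
      haveI := (Subgroup.nontrivial_iff_ne_bot _).2 hI
      obtain ⟨k, hk, hc⟩ := hIp.nontrivial_iff_card.1 inferInstance
      obtain ⟨z, hz⟩ := exists_prime_orderOf_dvd_card'
        (G := ↥(R.subgroupOf (T : Subgroup G) ⊓ Subgroup.center (T : Subgroup G))) p (hc ▸ dvd_pow_self p hk.ne')
      set w : G := ((z : (T : Subgroup G)) : G) with hw
      have hwo : orderOf w = p := by rw [hw, Subgroup.orderOf_coe, Subgroup.orderOf_coe, hz]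
      obtain ⟨hzR, hzC⟩ := Subgroup.mem_inf.1 z.2
      have hwR : w ∈ R := hzR
      have hwc : ∀ t ∈ (T : Subgroup G), t * w = w * t := fun t ht =>
        congrArg Subtype.val (Subgroup.mem_center_iff.1 hzC ⟨t, ht⟩)
      refine hlem R w hR hwR (fun r hr => hwc r (hRT hr)) ?_
      have hmem : g⁻¹ * w * g ∈ Cfsg.omegaOne p ((S : Subgroup G) ⊓ Subgroup.centralizer ((S : Subgroup G) : Set G)) := by
        refine Subgroup.subset_closure ⟨Subgroup.mem_inf.2 ⟨?_, ?_⟩, ?_⟩
        · have := hRT hwR
          rwa [← hg, Sylow.coe_subgroup_smul, CfsgLib.Solv.mem_conj_smul_iff] at this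
        · refine Subgroup.mem_centralizer_iff.2 fun s hs => ?_
          have hgs : g * s * g⁻¹ ∈ (T : Subgroup G) := by
            rw [← hg, Sylow.coe_subgroup_smul, CfsgLib.Solv.mem_conj_smul_iff]
            rwa [show g⁻¹ * (g * s * g⁻¹) * g = s by group]
          calc s * (g⁻¹ * w * g) = g⁻¹ * (g * s * g⁻¹ * w) * g := by group
            _ = g⁻¹ * (w * (g * s * g⁻¹)) * g := by rw [hwc _ hgs]
            _ = _ := by group
        · have e := (conj_pow (a := g⁻¹) (b := w) (i := p))
          rw [inv_inv] at e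
          rw [e, ← hwo, pow_orderOf_eq_one]; simp
      have h1 := hall (g⁻¹ * w * g) (fun e => (Fact.out : p.Prime).ne_one (by
        rw [← hwo, show w = g * (g⁻¹ * w * g) * g⁻¹ by group, e]; simp)) hmem
      rw [genFitting_eq_pCore_iff] at h1
      have h2 := charP_conj (g := g) h1
      rwa [show g * (g⁻¹ * w * g) * g⁻¹ = w by group] at h2
    · obtain ⟨z, hzR, hzo, hzc⟩ := exists_central_order_p hR hR1
      obtain ⟨T, hT⟩ := hR.exists_le_sylow
      obtain ⟨g, hg⟩ := MulAction.exists_smul_eq G S T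
      have hw : g⁻¹ * z * g ∈ (S : Subgroup G) := by
        have := hT hzR
        rwa [← hg, Sylow.coe_subgroup_smul, CfsgLib.Solv.mem_conj_smul_iff] at this
      have h1 := hall _ hw (by rw [show g⁻¹ * z * g = MulAut.conj g⁻¹ z by simp, MulEquiv.orderOf_eq, hzo])
      rw [genFitting_eq_pCore_iff] at h1
      have h2 := charP_conj (g := g) h1
      rw [show g * (g⁻¹ * z * g) * g⁻¹ = z by group] at h2
      exact hlem R z hR hzR hzc h2)

end Cfsg.Agent.S2896
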