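import Cfsg.Statements.S2898
import Cfsg.Agent.Inv.CharPLocal
import Cfsg.Agent.Perm.MinClass
import Cfsg.Agent.Solv.FrobeniusFpf

set_option autoImplicit false
open Cfsg

namespace Cfsg.Agent.S2898

/-- Let G be a finite group of even order with parabolic characteristic 2. If the centre of G ⧸ O(G) is trivial, then O(G) = 1. -/
theorem result {G : Type*} [Group G] [Finite G] (h2 : 2 ∣ Nat.card G) (hG : Cfsg.IsOfParabolicCharacteristic 2 G) [hN : (Cfsg.oddCore G).Normal] (hZ : Subgroup.center (G ⧸ Cfsg.oddCore G) = ⊥) : Cfsg.oddCore G = ⊥ := by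
  open CfsgLib.Inv in
  open scoped Pointwise in
  exact (by
    haveI : Fact (Nat.Prime 2) := ⟨Nat.prime_two⟩
    set O := Cfsg.oddCore G with hO
    obtain ⟨S⟩ := Sylow.nonempty (p := 2) (G := G)
    have hOodd : (Nat.card O).Coprime 2 := CfsgLib.Solv.pPrimeCore_coprime G 2
    have hone : ∀ x ∈ O, orderOf x ∣ 2 → x = 1 := fun x hx h =>
      orderOf_eq_one_iff.1 (Nat.eq_one_of_dvd_coprimes hOodd (Subgroup.orderOf_dvd_natCard O hx) h)
    -- central involutions of S act fixed point freely
    have hfpf : ∀ u : G, u * u = 1 → u ≠ 1 → (S : Subgroup G) ≤ Subgroup.centralizer ({u} : Set G) →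
        O ⊓ Subgroup.centralizer ({u} : Set G) = ⊥ := by
      intro u hu hu1 huS
      have hC := charP_of_parabolic hG S (z := u) (by rw [pow_two, hu]) hu1 huS
      set C := Subgroup.centralizer ({u} : Set G) with hCdef
      haveI := CfsgLib.Solv.pCore_normal ↥C 2
      set D : Subgroup C := O.subgroupOf C with hD
      have hd : Disjoint D (Cfsg.pCore 2 ↥C) := by
        rw [Subgroup.disjoint_def]
        intro x hxD hxP
        refine Subtype.ext (hone _ hxD ?_)
        obtain ⟨k, hk⟩ := (IsPGroup.iff_orderOf.1 (CfsgLib.Solv.pCore_isPGroup ↥C 2)) ⟨x, hxP⟩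
        rw [Subgroup.orderOf_mk] at hk
        rw [Subgroup.orderOf_coe, hk]
        rcases k with _ | k
        · exact one_dvd _
        · exfalso
          have h1 : orderOf (x : G) ∣ Nat.card O := Subgroup.orderOf_dvd_natCard O hxD
          rw [Subgroup.orderOf_coe, hk] at h1
          exact (Nat.Prime.coprime_iff_not_dvd Nat.prime_two).1 hOodd.symm
            (dvd_trans (dvd_pow_self 2 (Nat.succ_ne_zero k)) h1)
      have hDC : D ≤ Cfsg.pCore 2 ↥C := by
        refine le_trans ?_ hC
        rw [← Subgroup.commutator_eq_bot_iff_le_centralizer]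
        exact le_bot_iff.1 ((Subgroup.commutator_le_inf _ _).trans hd.le_bot)
      refine le_bot_iff.1 fun x hx => ?_
      have h1 : (⟨x, (Subgroup.mem_inf.1 hx).2⟩ : C) ∈ (⊥ : Subgroup C) :=
        hd.le_bot (Subgroup.mem_inf.2 ⟨(Subgroup.mem_inf.1 hx).1, hDC (Subgroup.mem_inf.1 hx).1⟩)
      exact Subgroup.mem_bot.2 (congrArg Subtype.val (Subgroup.mem_bot.1 h1))
    -- central involutions of S inside a normal subgroup of even order
    have hex : ∀ N : Subgroup G, N.Normal → 2 ∣ Nat.card N →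
        ∃ u ∈ N, u * u = 1 ∧ u ≠ 1 ∧ (S : Subgroup G) ≤ Subgroup.centralizer ({u} : Set G) := by
      intro N hNn h2N
      obtain ⟨a, ha⟩ := exists_prime_orderOf_dvd_card' (G := N) 2 h2N
      have hao : orderOf (a : G) = 2 := by rw [Subgroup.orderOf_coe, ha]
      obtain ⟨T, hT⟩ := (pgroup_zpowers_of_order hao).exists_le_sylow
      obtain ⟨g, hg⟩ := MulAction.exists_smul_eq G S T
      have hb : g⁻¹ * a * g ∈ (S : Subgroup G) := by
        have := hT (Subgroup.mem_zpowers _)
        rwa [← hg, Sylow.coe_subgroup_smul, CfsgLib.Solv.mem_conj_smul_iff] at this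
      have hne : N.subgroupOf (S : Subgroup G) ≠ ⊥ := fun e => by
        have h1 : (⟨g⁻¹ * a * g, hb⟩ : (S : Subgroup G)) ∈ N.subgroupOf (S : Subgroup G) := by
          show g⁻¹ * (a : G) * g ∈ N
          simpa using hNn.conj_mem a a.2 g⁻¹
        rw [e] at h1
        have h2 : g⁻¹ * (a : G) * g = 1 := congrArg Subtype.val (Subgroup.mem_bot.1 h1)
        have h3 : (a : G) = 1 := by
          rw [show (a : G) = g * (g⁻¹ * a * g) * g⁻¹ by group, h2]; simp
        rw [OneMemClass.coe_eq_one] at h3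
        rw [h3, orderOf_one] at ha
        exact absurd ha (by norm_num)
      have hI := CfsgLib.Perm.inf_center_ne_bot S.2 (N.subgroupOf (S : Subgroup G)) hne
      have hIp : IsPGroup 2 ↥(N.subgroupOf (S : Subgroup G) ⊓ Subgroup.center (S : Subgroup G)) :=
        S.2.to_subgroup _
      haveI := (Subgroup.nontrivial_iff_ne_bot _).2 hI
      obtain ⟨k, hk, hc⟩ := hIp.nontrivial_iff_card.1 inferInstance
      obtain ⟨z, hz⟩ := exists_prime_orderOf_dvd_card'
        (G := ↥(N.subgroupOf (S : Subgroup G) ⊓ Subgroup.center (S : Subgroup G))) 2 (hc ▸ dvd_pow_self 2 hk.ne')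
      set w : G := ((z : (S : Subgroup G)) : G) with hw
      have hwo : orderOf w = 2 := by rw [hw, Subgroup.orderOf_coe, Subgroup.orderOf_coe, hz]
      obtain ⟨hzN, hzC⟩ := Subgroup.mem_inf.1 z.2
      refine ⟨w, hzN, by rw [← pow_two, ← hwo, pow_orderOf_eq_one], fun e => ?_, fun s hs => ?_⟩
      · rw [e, orderOf_one] at hwo; exact absurd hwo (by norm_num)
      · exact Subgroup.mem_centralizer_singleton_iff.2 (congrArg Subtype.val (Subgroup.mem_center_iff.1 hzC ⟨s, hs⟩))
    obtain ⟨z, -, hz, hz1, hzS⟩ := hex ⊤ inferInstance (by rwa [Subgroup.card_top])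
    have hinv : ∀ o ∈ O, z * o * z⁻¹ = o⁻¹ := fun o ho =>
      CfsgLib.Solv.conj_eq_inv_of_fpf_involution hz (by rw [Subgroup.normalizer_eq_top]; exact Subgroup.mem_top _)
        (hfpf z hz hz1 hzS) ho
    set K := Subgroup.centralizer (O : Set G) with hK
    haveI hKn : K.Normal := inferInstance
    by_cases hKev : 2 ∣ Nat.card K
    · obtain ⟨u, huK, hu, hu1, huS⟩ := hex K hKn hKev
      have h := hfpf u hu hu1 huS
      have hle : O ≤ Subgroup.centralizer ({u} : Set G) := fun o ho =>
        Subgroup.mem_centralizer_singleton_iff.2 (Subgroup.mem_centralizer_iff.1 huK o ho)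
      rwa [inf_eq_left.2 hle] at h
    · exfalso
      have hKO : K ≤ O := CfsgLib.Solv.le_pPrimeCore ((Nat.Prime.coprime_iff_not_dvd Nat.prime_two).2 hKev).symm
      have hzc : QuotientGroup.mk' O z ∈ Subgroup.center (G ⧸ O) := by
        rw [Subgroup.mem_center_iff]
        intro q
        obtain ⟨g, rfl⟩ := QuotientGroup.mk'_surjective O q
        rw [← map_mul, ← map_mul, QuotientGroup.mk'_apply, QuotientGroup.mk'_apply, QuotientGroup.eq]
        refine hKO (Subgroup.mem_centralizer_iff.2 fun o ho => ?_)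
        have hz' : z⁻¹ = z := inv_eq_of_mul_eq_one_right hz
        have e1 : z * (g * o * g⁻¹) * z⁻¹ = (g * o * g⁻¹)⁻¹ := hinv _ (hN.conj_mem o ho g)
        have e2 := hinv o⁻¹ (inv_mem ho)
        rw [inv_inv, hz'] at e2
        have e : (g * z)⁻¹ * (z * g) * o * ((g * z)⁻¹ * (z * g))⁻¹ = o := by
          calc (g * z)⁻¹ * (z * g) * o * ((g * z)⁻¹ * (z * g))⁻¹
              = z⁻¹ * (g⁻¹ * (z * (g * o * g⁻¹) * z⁻¹) * g) * z := by group
            _ = z⁻¹ * o⁻¹ * z := by rw [e1]; group
            _ = o := by rw [hz']; exact e2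
        calc o * ((g * z)⁻¹ * (z * g))
            = (g * z)⁻¹ * (z * g) * o * ((g * z)⁻¹ * (z * g))⁻¹ * ((g * z)⁻¹ * (z * g)) := by rw [e]
          _ = _ := by group
      have : QuotientGroup.mk' O z = 1 := by rwa [hZ, Subgroup.mem_bot] at hzc
      exact hz1 (hone z ((QuotientGroup.eq_one_iff z).1 this) (orderOf_dvd_of_pow_eq_one (by rw [pow_two, hz]))))

end Cfsg.Agent.S2898
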