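import Cfsg.Statements.S2904
import Mathlib.RingTheory.Polynomial.Cyclotomic.Eval
import Mathlib.RingTheory.Polynomial.Cyclotomic.Expand

set_option autoImplicit false
open Cfsg

namespace Cfsg.Agent.S2904

open Polynomial in
theorem root_primitive {a n r : ℕ} (hn : n ≠ 0) (hr : r.Prime) (h : (r : ℤ) ∣ (cyclotomic n ℤ).eval (a : ℤ)) :
    ∃ k m : ℕ, n = r ^ k * m ∧ ¬ r ∣ m ∧ (m ∣ r - 1) ∧ IsPrimitiveRoot (a : ZMod r) m := by
  haveI := Fact.mk hr
  obtain ⟨k, m, hm, rfl⟩ := Nat.exists_eq_pow_mul_and_not_dvd hn r hr.ne_one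
  haveI : NeZero (m : ZMod r) := ⟨fun e => hm ((ZMod.natCast_eq_zero_iff m r).1 e)⟩
  have hroot : (cyclotomic (r ^ k * m) (ZMod r)).IsRoot (a : ZMod r) := by
    have e : ((((cyclotomic (r ^ k * m) ℤ).eval (a : ℤ)) : ℤ) : ZMod r) = 0 :=
      (ZMod.intCast_zmod_eq_zero_iff_dvd _ r).2 h
    rw [IsRoot.def, ← map_cyclotomic_int (r ^ k * m) (ZMod r), ← e, ← eq_intCast (Int.castRingHom (ZMod r)),
      ← Polynomial.eval_map_apply, eq_intCast, Int.cast_natCast]
  have hp := isRoot_cyclotomic_prime_pow_mul_iff_of_charP.1 hroot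
  have hm0 : m ≠ 0 := fun e => hm (e ▸ dvd_zero r)
  exact ⟨k, m, rfl, hm, (hp.pow_eq_one_iff_dvd _).1 (ZMod.pow_card_sub_one_eq_one (hp.ne_zero hm0)), hp⟩

open Polynomial in
theorem not_sq_dvd {a n r k m : ℕ} (ha : 1 < a) (hr : r.Prime) (hn : n = r ^ (k + 1) * m) (hn2 : 2 < n)
    (hm : ¬ r ∣ m) (hmr : m ∣ r - 1) (hp : IsPrimitiveRoot (a : ZMod r) m) :
    ¬ ((r ^ 2 : ℕ) : ℤ) ∣ (cyclotomic n ℤ).eval (a : ℤ) := by
  intro hdvd
  haveI := Fact.mk hr
  set d := r ^ k * m with hd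
  have hnd : n = d * r := by rw [hn, hd, pow_succ]; ring
  have hd0 : d ≠ 0 := fun e => by rw [e, zero_mul] at hnd; omega
  have hprop : d ∈ n.properDivisors := Nat.mem_properDivisors.2
    ⟨⟨r, hnd⟩, by rw [hnd]; exact lt_mul_of_one_lt_right (Nat.pos_of_ne_zero hd0) hr.one_lt⟩
  have h1 := eval_dvd (x := (a : ℤ)) (X_pow_sub_one_mul_cyclotomic_dvd_X_pow_sub_one_of_dvd ℤ hprop)
  simp only [eval_mul, eval_sub, eval_pow, eval_X, eval_one] at h1
  have hne : (a : ℤ) ^ d - 1 ≠ 0 := by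
    have : 1 < a ^ d := Nat.one_lt_pow hd0 ha
    have h' : (1 : ℤ) < (a : ℤ) ^ d := by exact_mod_cast this
    omega
  have e : (a : ℤ) ^ n - 1 = ((a : ℤ) ^ d - 1) * ∑ i ∈ Finset.range r, ((a : ℤ) ^ d) ^ i := by
    rw [mul_comm, geom_sum_mul, ← pow_mul, ← hnd]
  rw [e, mul_dvd_mul_iff_left hne] at h1
  have h2 := (ZMod.intCast_zmod_eq_zero_iff_dvd _ (r ^ 2)).2 (hdvd.trans h1)
  rw [Int.cast_sum] at h2
  simp only [Int.cast_pow, Int.cast_natCast] at h2
  -- the residue of `a ^ d`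
  have hb1 : (a : ZMod r) ^ d = 1 := by rw [hd, pow_mul', hp.pow_eq_one, one_pow]
  have hrr : ((r : ℕ) : ZMod (r ^ 2)) ^ 2 = 0 := by rw [← Nat.cast_pow]; exact ZMod.natCast_self _
  have hr0 : ((r : ℕ) : ZMod (r ^ 2)) ≠ 0 := fun e0 => by
    have := Nat.le_of_dvd hr.pos ((ZMod.natCast_eq_zero_iff r (r ^ 2)).1 e0)
    nlinarith [hr.two_le]
  obtain ⟨c, hc⟩ : (r : ℤ) ∣ (a : ℤ) ^ d - 1 := (ZMod.intCast_zmod_eq_zero_iff_dvd _ r).1 (by simp [hb1])
  have hb : (a : ZMod (r ^ 2)) ^ d = 1 + (r : ZMod (r ^ 2)) * (c : ZMod (r ^ 2)) := by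
    have h3 := congrArg (Int.cast : ℤ → ZMod (r ^ 2)) hc
    push_cast at h3
    rw [← h3]; ring
  rcases hr.eq_two_or_odd with h2r | hodd
  · -- `r = 2`
    subst h2r
    have hm1 : m = 1 := Nat.dvd_one.1 hmr
    have hk : k ≠ 0 := fun e0 => by rw [e0, hm1] at hn; omega
    have hodd : Odd a := by
      rw [← Nat.not_even_iff_odd]
      intro he
      rw [hm1, IsPrimitiveRoot.one_right_iff] at hp
      have h5 : (a : ZMod 2) = 0 := (ZMod.natCast_eq_zero_iff a 2).2 he.two_dvd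
      rw [h5] at hp
      exact zero_ne_one hp
    obtain ⟨t, ht⟩ := hodd
    have hsq : (a : ZMod (2 ^ 2)) ^ 2 = 1 := by
      rw [ht]; push_cast
      calc (2 * (t : ZMod (2 ^ 2)) + 1) ^ 2 = (2 : ZMod (2 ^ 2)) ^ 2 * ((t : ZMod (2 ^ 2)) ^ 2 + t) + 1 := by ring
        _ = 1 := by
          rw [show (2 : ZMod (2 ^ 2)) ^ 2 = 0 by exact_mod_cast hrr, zero_mul, zero_add]
    have hb2 : (a : ZMod (2 ^ 2)) ^ d = 1 := by
      obtain ⟨k', rfl⟩ := Nat.exists_eq_succ_of_ne_zero hk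
      rw [hd, hm1, mul_one, show 2 ^ k'.succ = 2 * 2 ^ k' from pow_succ' 2 k', pow_mul, hsq, one_pow]
    rw [hb2] at h2
    simp at h2
    exact hr0 (by exact_mod_cast h2)
  · have hi : ∀ i : ℕ, ((a : ZMod (r ^ 2)) ^ d) ^ i = 1 + (i : ZMod (r ^ 2)) * ((r : ZMod (r ^ 2)) * c) := by
      intro i
      induction i with
      | zero => simp
      | succ i ih =>
        rw [pow_succ ((a : ZMod (r ^ 2)) ^ d) i, ih, hb, Nat.cast_succ]
        calc _ = 1 + ((i : ZMod (r ^ 2)) + 1) * ((r : ZMod (r ^ 2)) * c) + (i : ZMod (r ^ 2)) * (r : ZMod (r ^ 2)) ^ 2 * (c : ZMod (r ^ 2)) ^ 2 := by ring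
          _ = _ := by rw [hrr]; ring
    rw [Finset.sum_congr rfl (fun i _ => hi i), Finset.sum_add_distrib, Finset.sum_const, Finset.card_range,
      nsmul_eq_mul, mul_one, ← Finset.sum_mul, ← Nat.cast_sum, Finset.sum_range_id] at h2
    obtain ⟨t, ht⟩ : ∃ t, r = 2 * t + 1 := ⟨r / 2, by omega⟩
    have ht' : r * (r - 1) / 2 = r * t := by
      rw [show r - 1 = 2 * t by omega, show r * (2 * t) = r * t * 2 by ring, Nat.mul_div_cancel _ two_pos]
    rw [ht', Nat.cast_mul, show (r : ZMod (r ^ 2)) * t * (r * c) = (r : ZMod (r ^ 2)) ^ 2 * (t * c) by ring, hrr, zero_mul,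
      add_zero] at h2
    exact hr0 h2

theorem three_mul_lt {r : ℕ} (hr : 5 ≤ r) : 3 * r < 2 ^ r - 1 := by
  induction r, hr using Nat.le_induction with
  | base => norm_num
  | succ r _ ih => rw [pow_succ]; omega

open Polynomial in
theorem cyclo_prime_divisor {a n : ℕ} (ha : 1 < a) (hn : 2 < n) (h6 : ¬ (a = 2 ∧ n = 6)) :
    ∃ r : ℕ, r.Prime ∧ (r : ℤ) ∣ (cyclotomic n ℤ).eval (a : ℤ) ∧ IsPrimitiveRoot (a : ZMod r) n := by
  by_contra hcon
  push Not at hcon
  set E := (cyclotomic n ℤ).eval (a : ℤ) with hE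
  have hEpos : 0 < E := cyclotomic_pos hn _
  have hbig := sub_one_pow_totient_lt_natAbs_cyclotomic_eval (n := n) (q := a) (by omega) (by omega)
  rw [← hE] at hbig
  have hN1 : E.natAbs ≠ 1 := fun e => by
    rw [e, Nat.lt_one_iff] at hbig
    have := pow_pos (show 0 < a - 1 by omega) n.totient
    omega
  obtain ⟨r, hr, hrN⟩ := Nat.exists_prime_and_dvd hN1
  have key : ∀ q : ℕ, q.Prime → q ∣ E.natAbs → ∃ k m : ℕ, n = q ^ (k + 1) * m ∧ ¬ q ∣ m ∧ m ∣ q - 1 ∧
      IsPrimitiveRoot (a : ZMod q) m := by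
    intro q hq hqN
    obtain ⟨k, m, h1, h2, h3, h4⟩ := root_primitive (by omega) hq (Int.natCast_dvd.2 hqN)
    cases k with
    | zero => exact absurd (show IsPrimitiveRoot (a : ZMod q) n by rw [h1, pow_zero, one_mul]; exact h4) (hcon q hq (Int.natCast_dvd.2 hqN))
    | succ k => exact ⟨k, m, h1, h2, h3, h4⟩
  obtain ⟨k, m, hnk, hm, hmr, hp⟩ := key r hr hrN
  have huniq : ∀ q : ℕ, q.Prime → q ∣ E.natAbs → q = r := by
    intro q hq hqN
    obtain ⟨k', m', hnk', hm', hmr', -⟩ := key q hq hqN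
    by_contra hne
    have h1 : q ∣ m := ((Nat.coprime_primes hq hr).2 hne).pow_right (k + 1) |>.dvd_of_dvd_mul_left
      (hnk ▸ hnk' ▸ Dvd.dvd.mul_right (dvd_pow_self q (by omega)) m')
    have h2 : r ∣ m' := ((Nat.coprime_primes hr hq).2 (Ne.symm hne)).pow_right (k' + 1) |>.dvd_of_dvd_mul_left
      (hnk' ▸ hnk ▸ Dvd.dvd.mul_right (dvd_pow_self r (by omega)) m)
    have := Nat.le_of_dvd (by have := hr.two_le; omega) (h1.trans hmr)
    have := Nat.le_of_dvd (by have := hq.two_le; omega) (h2.trans hmr')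
    omega
  have hNr : E.natAbs = r := by
    obtain ⟨c, hc⟩ := hrN
    by_contra hne
    have hc1 : c ≠ 1 := fun e => hne (by rw [hc, e, mul_one])
    obtain ⟨q, hq, hqc⟩ := Nat.exists_prime_and_dvd hc1
    obtain rfl := huniq q hq (hc ▸ hqc.mul_left _)
    exact not_sq_dvd ha hr hnk hn hm hmr hp (Int.natCast_dvd.2 (by rw [hc, pow_two]; exact Nat.mul_dvd_mul_left _ hqc))
  have hrn : r ∣ n := hnk ▸ Dvd.dvd.mul_right (dvd_pow_self r (by omega)) m
  have hphi : r - 1 ≤ n.totient := by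
    rw [← Nat.totient_prime hr]
    exact Nat.le_of_dvd (Nat.totient_pos.2 (by omega)) (Nat.totient_dvd_of_dvd hrn)
  have hm0 : m ≠ 0 := fun e => hm (e ▸ dvd_zero r)
  rcases Nat.lt_or_ge a 3 with ha2 | ha3
  · obtain rfl : a = 2 := by omega
    have hr2 : r ≠ 2 := by
      rintro rfl
      have hm1 : m = 1 := Nat.dvd_one.1 hmr
      rw [hm1, IsPrimitiveRoot.one_right_iff] at hp
      rw [(ZMod.natCast_eq_zero_iff 2 2).2 dvd_rfl] at hp
      exact zero_ne_one hp
    have hR : (cyclotomic n ℝ).eval (2 : ℝ) = (r : ℝ) := by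
      have h := cyclotomic.eval_apply (R := ℤ) (2 : ℤ) n (algebraMap ℤ ℝ)
      have e2 : E = (r : ℤ) := by rw [← hNr, Int.natAbs_of_nonneg hEpos.le]
      rw [hE] at e2
      simp only [Nat.cast_ofNat] at e2
      simpa [e2] using h
    cases k with
    | zero =>
      rw [zero_add, pow_one] at hnk
      have h3 : (cyclotomic m ℝ).eval ((2 : ℝ) ^ r) = r * (cyclotomic m ℝ).eval 2 := by
        have h := congrArg (Polynomial.eval (2 : ℝ)) (cyclotomic_expand_eq_cyclotomic_mul hr hm ℝ)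
        rw [Polynomial.expand_eval, eval_mul, mul_comm m r, ← hnk, hR] at h
        exact h
      have hpow : (1 : ℝ) < 2 ^ r := one_lt_pow₀ one_lt_two hr.ne_zero
      have h4 := sub_one_pow_totient_le_cyclotomic_eval hpow m
      have h5 := cyclotomic_eval_le_add_one_pow_totient (q := (2 : ℝ)) one_lt_two m
      have h6' : ((2 : ℝ) ^ r - 1) ^ m.totient ≤ r * 3 ^ m.totient := by
        rw [h3] at h4
        refine h4.trans (mul_le_mul_of_nonneg_left (h5.trans_eq ?_) (Nat.cast_nonneg r))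
        norm_num
      rcases Nat.lt_or_ge r 5 with hr5 | hr5
      · have hr3 : r = 3 := by
          have := hr.two_le
          interval_cases r
          · exact absurd rfl hr2
          · rfl
          · exact absurd hr (by decide)
        subst hr3
        have hm2 : m = 1 ∨ m = 2 := (Nat.dvd_prime Nat.prime_two).1 hmr
        rcases hm2 with rfl | rfl
        · subst hnk
          have h7 : E = 7 := by
            rw [hE, mul_one, cyclotomic_prime ℤ 3]
            simp [Finset.sum_range_succ]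
          rw [h7] at hNr
          norm_num at hNr
        · exact h6 ⟨rfl, hnk⟩
      · have hlt : (r : ℝ) * 3 ^ m.totient < ((2 : ℝ) ^ r - 1) ^ m.totient := by
          have hf : m.totient ≠ 0 := (Nat.totient_pos.2 (Nat.pos_of_ne_zero hm0)).ne'
          have h7 : (3 * r : ℝ) < 2 ^ r - 1 := by
            have h8 := three_mul_lt hr5
            have h9 : 1 ≤ 2 ^ r := Nat.one_le_two_pow
            have h10 : ((3 * r : ℕ) : ℝ) < ((2 ^ r - 1 : ℕ) : ℝ) := by exact_mod_cast h8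
            rw [Nat.cast_sub h9] at h10
            push_cast at h10
            exact h10
          calc (r : ℝ) * 3 ^ m.totient ≤ (r : ℝ) ^ m.totient * 3 ^ m.totient := by
                refine mul_le_mul_of_nonneg_right (le_self_pow₀ ?_ hf) (by positivity)
                exact_mod_cast hr.one_lt.le
            _ = (3 * (r : ℝ)) ^ m.totient := by rw [mul_pow, mul_comm]
            _ < _ := pow_lt_pow_left₀ h7 (by positivity) hf
        linarith
    | succ k =>
      set d := r ^ (k + 1) * m with hd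
      have hnd : d * r = n := by rw [hnk, hd, pow_succ _ (k + 1)]; ring
      have hrd : r ∣ d := Dvd.dvd.mul_right (dvd_pow_self r (by omega)) m
      have hd1 : 2 ≤ d := hr.two_le.trans (Nat.le_of_dvd (Nat.pos_of_ne_zero (mul_ne_zero (pow_ne_zero _ hr.ne_zero) hm0)) hrd)
      have h := congrArg (Polynomial.eval (2 : ℝ)) (cyclotomic_expand_eq_cyclotomic hr hrd ℝ)
      rw [Polynomial.expand_eval, hnd, hR] at h
      have hpow : (1 : ℝ) < 2 ^ r := one_lt_pow₀ one_lt_two hr.ne_zero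
      have h4 := sub_one_pow_totient_lt_cyclotomic_eval hd1 hpow
      rw [h] at h4
      have h5 : (2 : ℝ) ^ r - 1 ≤ ((2 : ℝ) ^ r - 1) ^ d.totient := by
        refine le_self_pow₀ ?_ (Nat.totient_pos.2 (by omega)).ne'
        have : (2 : ℝ) ^ 1 ≤ 2 ^ r := pow_le_pow_right₀ one_le_two hr.one_lt.le
        linarith
      have h6' : (r : ℝ) + 1 ≤ 2 ^ r := by exact_mod_cast r.lt_two_pow_self
      linarith
  · have h1 : 2 ^ (r - 1) ≤ (a - 1) ^ n.totient :=
      (Nat.pow_le_pow_left (show 2 ≤ a - 1 by omega) _).trans (Nat.pow_le_pow_right (by omega) hphi)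
    have h2 := (r - 1).lt_two_pow_self
    omega

/-- Zsigmondy's Theorem: for natural numbers a > 1 and n > 1 there is a prime dividing aⁿ − 1 that divides aᵏ − 1 for no natural number 0 < k < n, unless a = 2 and n = 6, or n = 2 and a + 1 is a power of two. -/
theorem result (a n : ℕ) (ha : 1 < a) (hn : 1 < n) (h6 : ¬ (a = 2 ∧ n = 6)) (h2 : ¬ (n = 2 ∧ ∃ m : ℕ, a + 1 = 2 ^ m)) : ∃ r : ℕ, r.Prime ∧ r ∣ a ^ n - 1 ∧ ∀ k : ℕ, 0 < k → k < n → ¬ r ∣ a ^ k - 1 := by
    haveI h0 : 1 ≤ a ^ n := Nat.one_le_pow _ _ (by omega)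
    rcases Nat.lt_or_ge 2 n with hn2 | hn2
    · obtain ⟨r, hr, hdvd, hp⟩ := cyclo_prime_divisor ha hn2 h6
      have hiff : ∀ j : ℕ, r ∣ a ^ j - 1 ↔ n ∣ j := fun j => by
        rw [← hp.pow_eq_one_iff_dvd, ← ZMod.natCast_eq_zero_iff, Nat.cast_sub (Nat.one_le_pow _ _ (by omega)), sub_eq_zero,
          Nat.cast_pow, Nat.cast_one]
      exact ⟨r, hr, (hiff n).2 dvd_rfl, fun j hj hjn h => absurd (Nat.le_of_dvd hj ((hiff j).1 h)) (by omega)⟩
    · obtain rfl : n = 2 := by omega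
      obtain ⟨k, m, hm, hk⟩ := Nat.exists_eq_pow_mul_and_not_dvd (n := a + 1) (by omega) 2 (by omega)
      have hm1 : m ≠ 1 := fun e => h2 ⟨rfl, k, by rw [hk, e, mul_one]⟩
      obtain ⟨r, hr, hrm⟩ := Nat.exists_prime_and_dvd hm1
      have hra : r ∣ a + 1 := hk ▸ hrm.mul_left _
      refine ⟨r, hr, ?_, fun j hj hjn h => ?_⟩
      · have e : a ^ 2 - 1 = (a + 1) * (a - 1) := by simpa using Nat.sq_sub_sq a 1
        rw [e]; exact hra.mul_right _
      · obtain rfl : j = 1 := by omega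
        rw [pow_one] at h
        have h3 : r ∣ 2 := by
          have := Nat.dvd_sub hra h
          rwa [show a + 1 - (a - 1) = 2 by omega] at this
        exact hm ((Nat.prime_dvd_prime_iff_eq hr Nat.prime_two).1 h3 ▸ hrm)

end Cfsg.Agent.S2904
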