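import Cfsg.Statements.S2905
import Cfsg.Agent.Inv.PMinimalBasic
import Cfsg.Agent.Inv.Transfer

set_option autoImplicit false
open Cfsg

namespace Cfsg.Agent.S2905

open CfsgLib.Inv.PMin

/-- Let P be a finite p-minimal group (a Sylow p-subgroup S is not normal and lies in a unique maximal subgroup M of P) and let F be the normal core of M. Then: every subnormal subgroup N of P contained in M satisfies N ∩ S ≤ O_p(P); if O^p(P) has a normal Sylow p-subgroup then the order of P has at most two prime divisors; every normal subgroup N of P either contains O^p(P) or is contained in F; and O^p(P)F ⧸ F is a minimal normal subgroup of P ⧸ F. -/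
theorem result {P : Type*} [Group P] [Finite P] {p : ℕ} [Fact p.Prime] (hP : Cfsg.IsPMinimal p P) (S : Sylow p P) (M : Subgroup P) (hM : IsCoatom M) (hSM : (S : Subgroup P) ≤ M) [hF : M.normalCore.Normal] : (∀ N : Subgroup P, N.IsSubnormal → N ≤ M → N ⊓ (S : Subgroup P) ≤ Cfsg.pCore p P) ∧ ((∀ T : Sylow p ↥(Cfsg.pResidual p P), (T : Subgroup ↥(Cfsg.pResidual p P)).Normal) → (Nat.card P).primeFactors.card ≤ 2) ∧ (∀ N : Subgroup P, N.Normal → Cfsg.pResidual p P ≤ N ∨ N ≤ M.normalCore) ∧ (∀ N : Subgroup P, N.Normal → M.normalCore ≤ N → N ≤ Cfsg.pResidual p P ⊔ M.normalCore → N = M.normalCore ∨ N = Cfsg.pResidual p P ⊔ M.normalCore) ∧ M.normalCore < Cfsg.pResidual p P ⊔ M.normalCore := by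
    have h := over_eq hP S hM hSM
    haveI := CfsgLib.Inv.pResidual_normal p P
    refine ⟨fun N hN hNM => subnormal_inf_le h hN hNM, fun hcl => ?_, fun N hN => haveI := hN; normal_dichotomy h N,
      fun N hN hFN hNF => ?_, lt_of_le_of_ne le_sup_right fun e => residual_not_le h
        ((le_sup_left (b := M.normalCore)).trans (e.ge.trans M.normalCore_le))⟩
    · set K := Cfsg.pResidual p P with hK
      have hcl' : Cfsg.IsPClosed p ↥K := hcl
      set O := Cfsg.pCore p P with hO
      haveI hOn : O.Normal := CfsgLib.Solv.pCore_normal P p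
      have hOM : O ≤ M := by
        obtain ⟨S', hS'⟩ := (CfsgLib.Solv.pCore_isPGroup P p).exists_le_sylow
        obtain ⟨g, hg⟩ := MulAction.exists_smul_eq P S' S
        refine le_trans ?_ hSM
        rw [← hg, Sylow.coe_subgroup_smul]
        intro x hx
        exact ⟨g⁻¹ * x * g, hS' (by simpa using hOn.conj_mem x hx g⁻¹), by simp [mul_assoc]⟩
      set f := QuotientGroup.mk' O with hf
      have hfs : Function.Surjective f := QuotientGroup.mk'_surjective O
      have h' := over_map h f hfs (by rw [hf, QuotientGroup.ker_mk']; exact hOM)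
      haveI : (K.map f).Normal := Subgroup.Normal.map inferInstance f hfs
      have hcop : (Nat.card ↥(K.map f)).Coprime p := by
        rw [Nat.coprime_comm, (Fact.out : p.Prime).coprime_iff_not_dvd]
        intro hd
        refine (CfsgLib.Inv.pClosed_iff_relIndex K).1 hcl' (hd.trans ?_)
        have e : K.map f = (f.comp K.subtype).range := by rw [MonoidHom.range_comp, Subgroup.range_subtype]
        rw [e, ← Subgroup.index_ker, ← MonoidHom.comap_ker, hf, QuotientGroup.ker_mk']
        exact dvd_rfl
      have hsup : ((S.mapSurjective hfs : Sylow p (P ⧸ O)) : Subgroup (P ⧸ O)) ⊔ K.map f = ⊤ := by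
        rw [Sylow.coe_mapSurjective, ← Subgroup.map_sup, sup_comm, CfsgLib.Inv.pResidual_sup_sylow,
          Subgroup.map_top_of_surjective f hfs]
      obtain ⟨q, hq, hKq⟩ := pPrime_supplement h' (K.map f) hcop hsup
      haveI := Fact.mk hq
      have hsub : (Nat.card P).primeFactors ⊆ {p, q} := by
        intro r hr
        rw [Nat.mem_primeFactors] at hr
        obtain ⟨hrp, hrd, -⟩ := hr
        have hd : Nat.card P ∣ Nat.card O * (Nat.card ↥((S.mapSurjective hfs : Sylow p (P ⧸ O)) : Subgroup (P ⧸ O)) * Nat.card ↥(K.map f)) := by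
          rw [Subgroup.card_eq_card_quotient_mul_card_subgroup O, mul_comm]
          refine Nat.mul_dvd_mul_left _ ?_
          have h2 := CfsgLib.Solv.card_sup_mul_card_inf ((S.mapSurjective hfs : Sylow p (P ⧸ O)) : Subgroup (P ⧸ O)) (K.map f)
          rw [hsup, Subgroup.card_top] at h2
          exact ⟨_, h2.symm⟩
        rw [Finset.mem_insert, Finset.mem_singleton]
        obtain ⟨a, ha⟩ := (CfsgLib.Solv.pCore_isPGroup P p).exists_card_eq
        obtain ⟨b, hb⟩ := (S.mapSurjective hfs).isPGroup'.exists_card_eq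
        obtain ⟨c, hc⟩ := hKq.exists_card_eq
        rw [ha, hb, hc] at hd
        rcases hrp.dvd_mul.1 (hrd.trans hd) with h1 | h1
        · exact Or.inl ((Nat.prime_dvd_prime_iff_eq hrp Fact.out).1 (hrp.dvd_of_dvd_pow h1))
        · rcases hrp.dvd_mul.1 h1 with h2 | h2
          · exact Or.inl ((Nat.prime_dvd_prime_iff_eq hrp Fact.out).1 (hrp.dvd_of_dvd_pow h2))
          · exact Or.inr ((Nat.prime_dvd_prime_iff_eq hrp hq).1 (hrp.dvd_of_dvd_pow h2))
      exact (Finset.card_le_card hsub).trans Finset.card_le_two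
    · haveI := hN
      rcases normal_dichotomy h N with h1 | h1
      · exact Or.inr (le_antisymm hNF (sup_le h1 hFN))
      · exact Or.inl (le_antisymm h1 hFN)

end Cfsg.Agent.S2905
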