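import Cfsg.Statements.S2907
import Cfsg.Agent.Solv.Basic

set_option autoImplicit false
open Cfsg

namespace Cfsg.Agent.S2907

/-- Let X be a finite semi-extraspecial p-group and x an element of X outside the centre. Then the index of C_X(x) in X equals the order of Z(X), and the commutators [x, y], y ∈ X, form exactly the centre Z(X). -/
theorem result {X : Type*} [Group X] [Finite X] {p : ℕ} [Fact p.Prime] (hX : Cfsg.IsSemiExtraspecial p X) (x : X) (hx : x ∉ Subgroup.center X) : (Subgroup.centralizer ({x} : Set X)).index = Nat.card ↥(Subgroup.center X) ∧ {z : X | ∃ y : X, z = x * y * x⁻¹ * y⁻¹} = (Subgroup.center X : Set X) := by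
  open scoped commutatorElement in
  exact (by
    obtain ⟨⟨hp', hfr, hder⟩, hY⟩ := hX
    have hcen : ∀ a b : X, ⁅a, b⁆ ∈ Subgroup.center X := fun a b =>
      hder ▸ Subgroup.commutator_mem_commutator (Subgroup.mem_top a) (Subgroup.mem_top b)
    let f : X →* Subgroup.center X :=
      MonoidHom.mk' (fun y => ⟨⁅x, y⁆, hcen x y⟩) fun a b => Subtype.ext (by
        show ⁅x, a * b⁆ = ⁅x, a⁆ * ⁅x, b⁆
        have e : ⁅x, a * b⁆ = ⁅x, a⁆ * (a * ⁅x, b⁆ * a⁻¹) := by
          simp only [commutatorElement_def]; group
        rw [e, Subgroup.mem_center_iff.1 (hcen x b) a, mul_inv_cancel_right])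
    have hker : f.ker = Subgroup.centralizer ({x} : Set X) := by
      ext y
      rw [MonoidHom.mem_ker, Subgroup.mem_centralizer_singleton_iff]
      exact Subtype.ext_iff.trans (commutatorElement_eq_one_iff_mul_comm.trans eq_comm)
    have hsurj : f.range = ⊤ := by
      by_contra hne
      obtain ⟨W, hW, hfW⟩ := (eq_top_or_exists_le_coatom f.range).resolve_left hne
      set Y := W.map (Subgroup.center X).subtype with hY'
      have hYZ : Y ≤ Subgroup.center X := Subgroup.map_subtype_le _
      obtain ⟨hYn, hYp, hYs⟩ := hY Y hYZ (by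
        rw [hY', Subgroup.subgroupOf, Subgroup.comap_map_eq_self_of_injective (Subgroup.center X).subtype_injective]
        exact hW)
      refine hx ?_
      have h1 : QuotientGroup.mk' Y x ∈ Subgroup.center (X ⧸ Y) := by
        rw [Subgroup.mem_center_iff]
        intro q
        obtain ⟨y, rfl⟩ := QuotientGroup.mk'_surjective Y q
        refine (commutatorElement_eq_one_iff_mul_comm.1 ?_).symm
        rw [← map_commutatorElement, QuotientGroup.mk'_apply, QuotientGroup.eq_one_iff]
        exact Subgroup.mem_map.2 ⟨f y, hfW ⟨y, rfl⟩, rfl⟩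
      rw [← hYp.2.2, commutator_def, ← Subgroup.map_top_of_surjective _ (QuotientGroup.mk'_surjective Y),
        ← Subgroup.map_commutator, ← commutator_def, hder] at h1
      have h2 := Subgroup.mem_comap.2 h1
      rw [QuotientGroup.comap_map_mk', sup_eq_right.2 hYZ] at h2
      exact h2
    constructor
    · rw [← hker, Subgroup.index_ker, hsurj, Subgroup.card_top]
    · ext z
      constructor
      · rintro ⟨y, rfl⟩; exact hcen x y
      · intro hz
        obtain ⟨y, hy⟩ := (hsurj ▸ Subgroup.mem_top (⟨z, hz⟩ : Subgroup.center X) : (⟨z, hz⟩ : Subgroup.center X) ∈ f.range)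
        exact ⟨y, (congrArg Subtype.val hy).symm⟩)

end Cfsg.Agent.S2907
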