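import Cfsg.Statements.S2908
import Cfsg.Agent.Inv.WeakClosed

set_option autoImplicit false
open Cfsg

namespace Cfsg.Agent.S2908

/-- Let P be a p-subgroup of a finite group, normalized by a p-subgroup A and by a subgroup B of order prime to p that commutes elementwise with A. If [P, B] ≤ [P, A], then B centralizes P. -/
theorem result {G : Type*} [Group G] [Finite G] {p : ℕ} [Fact p.Prime] (P A B : Subgroup G) (hP : IsPGroup p ↥P) (hA : IsPGroup p ↥A) (hB : ¬ p ∣ Nat.card ↥B) (hnA : A ≤ Subgroup.normalizer (P : Set G)) (hnB : B ≤ Subgroup.normalizer (P : Set G)) (hAB : ⁅A, B⁆ = ⊥) (hcomm : ⁅P, B⁆ ≤ ⁅P, A⁆) : ⁅P, B⁆ = ⊥ := by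
  open CfsgLib.Inv in
  open scoped commutatorElement in
  exact (by
    set D := ⁅P, B⁆ with hD
    set M := P ⊔ A with hM
    have hMp : IsPGroup p M := hP.to_sup_of_normal_left' hA hnA
    haveI := hMp.isNilpotent
    obtain ⟨m, hm⟩ := (Subgroup.isNilpotent_iff_lowerCentralSeries (S := M)).1 hMp.isNilpotent
    have hDP : D ≤ P := CfsgLib.Solv.commutator_le_of_le_normalizer hnB
    obtain ⟨a, ha⟩ := IsPGroup.iff_card.1 hP
    have hcop : (Nat.card B).Coprime (Nat.card P) := by
      rw [ha]
      exact (((Fact.out : p.Prime).coprime_iff_not_dvd.2 hB).symm).pow_right a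
    have hDD : ⁅D, B⁆ = D := CfsgLib.Solv.commutator_commutator_right hnB hcop
      (Or.inr (haveI := hP.isNilpotent; inferInstance))
    have hBM : B ≤ Subgroup.normalizer (M : Set G) := by
      rw [CfsgLib.Solv.le_normalizer_iff_forall_conj_mem]
      intro b hb x hx
      obtain ⟨u, hu, v, hv, rfl⟩ := CfsgLib.Solv.exists_mul_of_mem_sup hnA (sup_comm P A ▸ hx : x ∈ A ⊔ P)
      have hvb : b * v * b⁻¹ = v := by
        have := Subgroup.mem_centralizer_iff.1 (Subgroup.commutator_eq_bot_iff_le_centralizer.1 hAB hv) b hb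
        rw [this, mul_inv_cancel_right]
      rw [show b * (u * v) * b⁻¹ = b * u * b⁻¹ * (b * v * b⁻¹) by group, hvb]
      exact mul_mem (Subgroup.mem_sup_left (CfsgLib.Solv.le_normalizer_iff_forall_conj_mem.1 hnB b hb u hu))
        (Subgroup.mem_sup_right hv)
    have hgam : ∀ k, B ≤ Subgroup.normalizer (M.lowerCentralSeries k : Set G) ∧
        M ≤ Subgroup.normalizer (M.lowerCentralSeries k : Set G) := by
      intro k
      induction k with
      | zero => exact ⟨hBM, Subgroup.le_normalizer⟩
      | succ k ih =>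
        rw [Subgroup.lowerCentralSeries_succ]
        have hn : ∀ g : G, g ∈ Subgroup.normalizer (M.lowerCentralSeries k : Set G) →
            g ∈ Subgroup.normalizer (M : Set G) →
            g ∈ Subgroup.normalizer ((⁅M.lowerCentralSeries k, M⁆ : Subgroup G) : Set G) := by
          intro g h1 h2
          refine CfsgLib.Solv.mem_normalizer_of_conj_smul_eq ?_
          rw [CfsgLib.Solv.conj_smul_eq_map, Subgroup.map_commutator, ← CfsgLib.Solv.conj_smul_eq_map,
            ← CfsgLib.Solv.conj_smul_eq_map, CfsgLib.Solv.conj_smul_eq_self_of_mem_normalizer h1,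
            CfsgLib.Solv.conj_smul_eq_self_of_mem_normalizer h2]
        exact ⟨fun g hg => hn g (ih.1 hg) (hBM hg), fun g hg => hn g (ih.2 hg) (Subgroup.le_normalizer hg)⟩
    have key : ∀ k, D ≤ M.lowerCentralSeries k := by
      intro k
      induction k with
      | zero => exact hDP.trans le_sup_left
      | succ k ih =>
        calc D = ⁅D, B⁆ := hDD.symm
          _ ≤ ⁅⁅P, A⁆, B⁆ := Subgroup.commutator_mono hcomm le_rfl
          _ ≤ M.lowerCentralSeries (k + 1) := by
            refine three_subgroup_le (le_sup_left.trans (hgam _).2) (le_sup_right.trans (hgam _).2) (hgam _).1 ?_ ?_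
            · rw [hAB, Subgroup.commutator_bot_left]; exact bot_le
            · rw [Subgroup.commutator_comm B P, Subgroup.lowerCentralSeries_succ]
              exact Subgroup.commutator_mono ih le_sup_right
    exact le_bot_iff.1 ((key m).trans hm.le))

end Cfsg.Agent.S2908
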