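import Cfsg.Statements.S2909
import Cfsg.Agent.Solv.Basic
import Cfsg.Agent.Solv.CoprimeAction
import Cfsg.Agent.Solv.Generation
import Cfsg.Agent.Solv.FittingBasic

set_option autoImplicit false
open Cfsg

namespace Cfsg.Agent.S2909

/-- Let p be a prime, E a normal p-subgroup of the finite group G, and U a non-cyclic elementary abelian p-subgroup of G such that either C_E(U) = C_E(u) for every nontrivial u ∈ U, or [E, U] = [E, ⟨u⟩] for every nontrivial u ∈ U. If R is a subgroup of order prime to p normalized by U, then [R, U] centralizes E. -/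
theorem result {G : Type*} [Group G] [Finite G] {p : ℕ} [Fact p.Prime] (E : Subgroup G) [E.Normal] (hE : IsPGroup p ↥E) (U : Subgroup G) (hU : Cfsg.IsElementaryAbelian p U) (hnc : ¬ IsCyclic ↥U) (hcond : (∀ u ∈ U, u ≠ 1 → E ⊓ Subgroup.centralizer (U : Set G) = E ⊓ Subgroup.centralizer ({u} : Set G)) ∨ (∀ u ∈ U, u ≠ 1 → ⁅E, U⁆ = ⁅E, Subgroup.zpowers u⁆)) (R : Subgroup G) (hR : ¬ p ∣ Nat.card ↥R) (hRU : U ≤ Subgroup.normalizer (R : Set G)) : ⁅R, U⁆ ≤ Subgroup.centralizer (E : Set G) := by
  open scoped commutatorElement in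
  exact (by
    classical
    haveI : IsMulCommutative U := hU.1
    have hUp : IsPGroup p U := fun x => ⟨1, Subtype.ext (by simpa using hU.2 x x.2)⟩
    have hRc : (Nat.card R).Coprime p := ((Fact.out : p.Prime).coprime_iff_not_dvd.2 hR).symm
    have hUR : (Nat.card U).Coprime (Nat.card R) := by
      obtain ⟨n, hn⟩ := IsPGroup.iff_card.1 hUp
      rw [hn]; exact (hRc.pow_right n).symm
    have hXR : ⁅R, U⁆ ≤ R := CfsgLib.Solv.commutator_le_of_le_normalizer hRU
    have hYc : ∀ u : G, (Nat.card ↥(⁅R, U⁆ ⊓ Subgroup.centralizer {u})).Coprime p := fun u =>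
      hRc.coprime_dvd_left (Subgroup.card_dvd_of_le (inf_le_left.trans hXR))
    have huc : ∀ u : G, Subgroup.zpowers u ≤ Subgroup.centralizer ((⁅R, U⁆ ⊓ Subgroup.centralizer {u} : Subgroup G) : Set G) := fun u => by
      rw [Subgroup.zpowers_le, Subgroup.mem_centralizer_iff]
      intro y hy
      exact Subgroup.mem_centralizer_singleton_iff.1 (Subgroup.mem_inf.1 hy).2
    refine CfsgLib.Solv.le_of_noncyclic_centralizers hnc (CfsgLib.Solv.right_le_normalizer_commutator R U)
      (hUR.coprime_dvd_right (Subgroup.card_dvd_of_le hXR)) fun u hu hu1 => ?_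
    set Y := ⁅R, U⁆ ⊓ Subgroup.centralizer {u} with hY
    have hPp : IsPGroup p (Subgroup.zpowers u) := hUp.to_le (Subgroup.zpowers_le.2 hu)
    have hEn : ∀ H : Subgroup G, H ≤ Subgroup.normalizer (E : Set G) := fun H => by
      rw [Subgroup.normalizer_eq_top]; exact le_top
    have hPE : E ⊓ Subgroup.centralizer ((Subgroup.zpowers u : Subgroup G) : Set G) = E ⊓ Subgroup.centralizer {u} := by
      rw [Subgroup.zpowers_eq_closure, Subgroup.centralizer_closure]
    rcases hcond with h | h
    · set D := E ⊓ Subgroup.centralizer (U : Set G) with hD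
      have hRD : R ≤ Subgroup.normalizer (D : Set G) := by
        refine CfsgLib.Solv.le_of_noncyclic_centralizers hnc hRU hUR fun v hv hv1 => ?_
        rw [CfsgLib.Solv.le_normalizer_iff_forall_conj_mem]
        intro r hr d hd
        rw [h v hv hv1] at hd ⊢
        obtain ⟨hdE, hdv⟩ := Subgroup.mem_inf.1 hd
        refine Subgroup.mem_inf.2 ⟨Subgroup.Normal.conj_mem inferInstance d hdE r, ?_⟩
        exact mul_mem (mul_mem (Subgroup.mem_inf.1 hr).2 hdv) (inv_mem (Subgroup.mem_inf.1 hr).2)
      have hX : ⁅R, U⁆ ≤ Subgroup.centralizer (D : Set G) := by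
        rw [Subgroup.commutator_le]
        intro r hr v hv
        have hvD : ∀ d ∈ D, v * d = d * v := fun d hd =>
          Subgroup.mem_centralizer_iff.1 (Subgroup.mem_inf.1 hd).2 v hv
        rw [Subgroup.mem_centralizer_iff]
        intro d hd
        have hd' : r⁻¹ * d * r ∈ D := by
          simpa using CfsgLib.Solv.le_normalizer_iff_forall_conj_mem.1 hRD r⁻¹ (inv_mem hr) d hd
        have e1 := hvD _ hd'
        have e2 := hvD _ hd
        calc d * ⁅r, v⁆ = r * ((r⁻¹ * d * r) * v) * r⁻¹ * v⁻¹ := by rw [commutatorElement_def]; group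
          _ = r * (v * (r⁻¹ * d * r)) * r⁻¹ * v⁻¹ := by rw [e1]
          _ = r * v * r⁻¹ * (d * v⁻¹) := by group
          _ = r * v * r⁻¹ * (v⁻¹ * d) := by rw [(show Commute v d from e2).inv_left.eq]
          _ = ⁅r, v⁆ * d := by rw [commutatorElement_def]; group
      refine CfsgLib.Solv.thompson_pq hPp (hYc u) (huc u) E hE (hEn _) (hEn _) ?_
      rw [hPE, ← h u hu hu1]
      exact Subgroup.le_centralizer_iff.1 (inf_le_left.trans hX)
    · set D := ⁅E, U⁆ with hD
      have hRD : R ≤ Subgroup.normalizer (D : Set G) := by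
        refine CfsgLib.Solv.le_of_noncyclic_centralizers hnc hRU hUR fun v hv hv1 => ?_
        rw [CfsgLib.Solv.le_normalizer_iff_forall_conj_mem]
        intro r hr d hd
        rw [h v hv hv1] at hd ⊢
        have hrv : r * v * r⁻¹ = v := by
          rw [Subgroup.mem_centralizer_singleton_iff.1 (Subgroup.mem_inf.1 hr).2, mul_inv_cancel_right]
        have hm : (MulAut.conj r).toMonoidHom d ∈ (⁅E, Subgroup.zpowers v⁆).map (MulAut.conj r).toMonoidHom :=
          Subgroup.mem_map_of_mem _ hd
        rw [Subgroup.map_commutator, MonoidHom.map_zpowers] at hm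
        have hEr : E.map (MulAut.conj r).toMonoidHom = E := Subgroup.Normal.map_conj_eq (H := E) r
        have e' : (MulAut.conj r).toMonoidHom v = v := by simpa using hrv
        rw [hEr, e'] at hm
        simpa using hm
      have hDE : D ≤ E := CfsgLib.Solv.commutator_le_of_le_normalizer (hEn U)
      let S : Subgroup G :=
        { carrier := {g | g ∈ Subgroup.normalizer (D : Set G) ∧ ∀ e ∈ E, ⁅g, e⁆ ∈ D}
          mul_mem' := fun {a b} ha hb => ⟨mul_mem ha.1 hb.1, fun e he => by
            rw [show ⁅a * b, e⁆ = a * ⁅b, e⁆ * a⁻¹ * ⁅a, e⁆ by simp only [commutatorElement_def]; group]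
            exact mul_mem ((Subgroup.mem_normalizer_iff.1 ha.1 _).1 (hb.2 e he)) (ha.2 e he)⟩
          one_mem' := ⟨one_mem _, fun e he => by simp⟩
          inv_mem' := fun {a} ha => ⟨inv_mem ha.1, fun e he => by
            rw [show ⁅a⁻¹, e⁆ = a⁻¹ * ⁅a, e⁆⁻¹ * a⁻¹⁻¹ by simp only [commutatorElement_def]; group]
            exact (Subgroup.mem_normalizer_iff.1 (inv_mem ha.1) _).1 (inv_mem (ha.2 e he))⟩ }
      have hX : ⁅R, U⁆ ≤ S := by
        rw [Subgroup.commutator_le]
        intro r hr v hv
        have hvS : v ∈ S := ⟨CfsgLib.Solv.right_le_normalizer_commutator E U hv, fun e he => by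
          rw [← commutatorElement_inv]; exact inv_mem (Subgroup.commutator_mem_commutator he hv)⟩
        have hrv : r * v * r⁻¹ ∈ S := by
          refine ⟨mul_mem (mul_mem (hRD hr) hvS.1) (inv_mem (hRD hr)), fun e he => ?_⟩
          have h1 := hvS.2 (r⁻¹ * e * r) (by simpa using Subgroup.Normal.conj_mem inferInstance e he r⁻¹)
          have h2 := (Subgroup.mem_normalizer_iff.1 (hRD hr) _).1 h1
          simpa [commutatorElement_def, mul_assoc] using h2
        rw [commutatorElement_def]
        exact mul_mem hrv (inv_mem hvS)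
      set W := E ⊔ Subgroup.zpowers u with hWdef
      have hW : IsPGroup p W := hE.to_sup_of_normal_left' hPp (hEn _)
      refine (CfsgLib.Solv.le_centralizer_of_trivial_on_frattini_quotient (K := W) ?_ ?_).trans
        (Subgroup.centralizer_le (SetLike.coe_subset_coe.2 le_sup_left))
      · obtain ⟨n, hn⟩ := IsPGroup.iff_card.1 (hW.to_subgroup (frattini W))
        rw [hn]; exact (hYc u).pow_right n
      · intro y hy
        obtain ⟨hyX, hyu⟩ := Subgroup.mem_inf.1 hy
        let Z : Subgroup G :=
          { carrier := {w | w ∈ W ∧ ⁅y, w⁆ ∈ ⁅W, W⁆}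
            mul_mem' := fun {a b} ha hb => ⟨mul_mem ha.1 hb.1, by
              rw [show ⁅y, a * b⁆ = ⁅y, a⁆ * (a * ⁅y, b⁆ * a⁻¹) by simp only [commutatorElement_def]; group]
              exact mul_mem ha.2 ((Subgroup.mem_normalizer_iff.1 (CfsgLib.Solv.left_le_normalizer_commutator W W ha.1) _).1 hb.2)⟩
            one_mem' := ⟨one_mem _, by simp⟩
            inv_mem' := fun {a} ha => ⟨inv_mem ha.1, by
              rw [show ⁅y, a⁻¹⁆ = a⁻¹ * ⁅y, a⁆⁻¹ * a⁻¹⁻¹ by simp only [commutatorElement_def]; group]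
              exact (Subgroup.mem_normalizer_iff.1 (CfsgLib.Solv.left_le_normalizer_commutator W W (inv_mem ha.1)) _).1 (inv_mem ha.2)⟩ }
        have hle : W ≤ Z := by
          refine sup_le (fun e he => ⟨Subgroup.mem_sup_left he, ?_⟩) (Subgroup.zpowers_le.2 ⟨Subgroup.mem_sup_right (Subgroup.mem_zpowers u), ?_⟩)
          · have h1 := (hX hyX).2 e he
            have h1 : ⁅y, e⁆ ∈ ⁅E, Subgroup.zpowers u⁆ := h u hu hu1 ▸ h1
            exact Subgroup.commutator_mono le_sup_left le_sup_right h1
          · rw [commutatorElement_eq_one_iff_mul_comm.2 (Subgroup.mem_centralizer_singleton_iff.1 hyu)]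
            exact one_mem _
        intro w hw
        have h2 := (hle hw).2
        rw [← Subgroup.map_subtype_commutator] at h2
        exact Subgroup.map_mono (CfsgLib.Solv.commutator_le_frattini hW) h2)

end Cfsg.Agent.S2909
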