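import Cfsg.Statements.S2910
import Cfsg.Agent.Solv.PComplement
import Cfsg.Agent.Solv.PGroups

set_option autoImplicit false
open Cfsg

namespace Cfsg.Agent.S2910

/-- Let p be an odd prime dividing the order of the finite group G and P a Sylow p-subgroup of G. If Ω₁(P) (generated by the elements of order dividing p) is contained in the centre of G, then G has a normal p-complement. In particular, if G is quasisimple then Ω₁(P) is not central in G. -/
theorem result {G : Type*} [Group G] [Finite G] {p : ℕ} [Fact p.Prime] (hp : p ≠ 2) (hdiv : p ∣ Nat.card G) (P : Sylow p G) (hZ : Cfsg.omegaOne p (P : Subgroup G) ≤ Subgroup.center G) : Cfsg.HasNormalPComplement p G ∧ ¬ Cfsg.IsQuasisimple G := by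
  open scoped Pointwise in
  exact (by
    classical
    have hom : ∀ x : G, x ^ p = 1 → x ∈ Subgroup.center G := by
      intro x hx
      obtain ⟨Q, hQ⟩ := IsPGroup.exists_le_sylow (p := p) (P := Subgroup.zpowers x) (fun y => ⟨1, by
        obtain ⟨y, k, rfl⟩ := y
        apply Subtype.ext
        simp only [Subgroup.coe_pow, Subgroup.coe_one, pow_one]
        rw [← zpow_natCast, ← zpow_mul, mul_comm, zpow_mul, zpow_natCast, hx, one_zpow]⟩)
      obtain ⟨g, hg⟩ := MulAction.exists_smul_eq G Q P
      have h1 : g * x * g⁻¹ ∈ (P : Subgroup G) := by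
        rw [← hg, Sylow.coe_subgroup_smul]
        exact ⟨x, hQ (Subgroup.mem_zpowers x), by simp [MulAut.smul_def]⟩
      have h2 : g * x * g⁻¹ ∈ Subgroup.center G :=
        hZ (Subgroup.subset_closure ⟨h1, by rw [conj_pow, hx]; simp⟩)
      have h3 : (g⁻¹) * (g * x * g⁻¹) * g = g * x * g⁻¹ := by
        rw [Subgroup.mem_center_iff.1 h2 g⁻¹, inv_mul_cancel_right]
      rw [← h3] at h2
      simpa [mul_assoc] using h2
    have hnp : Cfsg.HasNormalPComplement p G := by
      rw [CfsgLib.Solv.hnpc_iff_frobCond]
      intro Q hQ g hg hc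
      let f : Subgroup.normalizer (Q : Set G) →* MulAut Q := Subgroup.normalizerMonoidHom Q
      have hf : f ⟨g, hg⟩ = 1 := by
        refine CfsgLib.Solv.aut_eq_one_of_fix_omega hp hQ ?_ fun x hx => ?_
        · refine Nat.Coprime.coprime_dvd_left ((orderOf_map_dvd f _).trans ?_) hc
          rw [← Subgroup.orderOf_coe]
        · apply Subtype.ext
          show g * (x : G) * g⁻¹ = x
          rw [Subgroup.mem_center_iff.1 (hom x (congrArg Subtype.val hx)) g, mul_inv_cancel_right]
      rw [Subgroup.mem_centralizer_iff]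
      intro q hq
      have := congrArg Subtype.val (DFunLike.congr_fun hf ⟨q, hq⟩)
      exact (mul_inv_eq_iff_eq_mul.1 (show g * q * g⁻¹ = q from this)).symm
    refine ⟨hnp, fun hqs => ?_⟩
    obtain ⟨Q, N, hN, hc⟩ := hnp
    haveI := hN
    let e := (hc.symm.QuotientMulEquiv : G ⧸ N ≃* ↥(Q : Subgroup G))
    haveI : Group.IsPerfect G := hqs.1
    have hQn : Nontrivial ↥(Q : Subgroup G) := by
      rw [← Finite.one_lt_card_iff_nontrivial]
      exact lt_of_lt_of_le (Fact.out : p.Prime).one_lt (Nat.le_of_dvd Nat.card_pos (Q.dvd_card_of_dvd_card hdiv))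
    haveI := Q.2.isNilpotent
    refine (IsSolvable.commutator_lt_top_of_nontrivial ↥(Q : Subgroup G)).ne ?_
    let π : G →* ↥(Q : Subgroup G) := e.toMonoidHom.comp (QuotientGroup.mk' N)
    have hπ : Function.Surjective π := e.surjective.comp (QuotientGroup.mk'_surjective N)
    have := congrArg (Subgroup.map π) (Group.IsPerfect.commutator_eq_top (G := G))
    rw [commutator_def, Subgroup.map_commutator, Subgroup.map_top_of_surjective π hπ] at this
    exact this)

end Cfsg.Agent.S2910
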