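import Cfsg.Statements.S2911
import Cfsg.Agent.S2872
import Cfsg.Agent.Inv.Transfer
import Cfsg.Agent.Solv.FittingBasic

set_option autoImplicit false
open Cfsg

namespace Cfsg.Agent.S2911

abbrev D := Multiplicative (ZMod 2) × DihedralGroup 4

theorem dec1 : ∀ x : D, x * x = 1 ∨ x * x = (1, DihedralGroup.r 2) := by decide
theorem dec2' : ∀ x : D, x * (1, DihedralGroup.r 1) = (1, DihedralGroup.r 1) * x →
    x * (1, DihedralGroup.sr 0) = (1, DihedralGroup.sr 0) * x → x * x = 1 →
    x = 1 ∨ x = (Multiplicative.ofAdd 1, 1) ∨ x = (1, DihedralGroup.r 2) ∨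
      x = (Multiplicative.ofAdd 1, 1) * (1, DihedralGroup.r 2) := by decide
theorem dec2 (x : D) (h : ∀ y, x * y = y * x) (h2 : x * x = 1) :
    x = 1 ∨ x = (Multiplicative.ofAdd 1, 1) ∨ x = (1, DihedralGroup.r 2) ∨
      x = (Multiplicative.ofAdd 1, 1) * (1, DihedralGroup.r 2) := dec2' x (h _) (h _) h2
theorem dec3 : ∀ y : D, (Multiplicative.ofAdd 1, 1) * y = y * (Multiplicative.ofAdd 1, 1) ∧
    (1, DihedralGroup.r 2) * y = y * (1, DihedralGroup.r 2) := by decide
theorem dec4 : ∀ x y : Multiplicative (ZMod 2), x * y * x⁻¹ * y⁻¹ = 1 ∧ x * x = 1 := by decide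
theorem dec5 : ((1, DihedralGroup.r 1) : D) * (1, DihedralGroup.r 1) = (1, DihedralGroup.r 2) := by decide
theorem dec6 : ((Multiplicative.ofAdd 1, 1) : D) ^ 2 = 1 := by decide
theorem dec7 : (Multiplicative.ofAdd 1 : Multiplicative (ZMod 2)) ≠ 1 := by decide
theorem dec8 : ((1, DihedralGroup.r 2) : D) ≠ 1 := by decide
theorem dec9 : ((Multiplicative.ofAdd 1, 1) : D) ≠ 1 := by decide
theorem dec10 : ((Multiplicative.ofAdd 1, 1) : D) ≠ (1, DihedralGroup.r 2) := by decide
theorem dec11 : ((1, DihedralGroup.r 2) : D) * (1, DihedralGroup.r 2) = 1 := by decide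
theorem dec12 : ((1, DihedralGroup.r 2) : D) ≠ (Multiplicative.ofAdd 1, 1) := by decide

/-- A finite group whose Sylow 2-subgroups are isomorphic to the direct product of a group of order 2 and a dihedral group of order 8 has a subgroup of index two. -/
theorem result {G : Type*} [Group G] [Finite G] (S : Sylow 2 G) (hS : Nonempty (↥(S : Subgroup G) ≃* Multiplicative (ZMod 2) × DihedralGroup 4)) : ∃ H : Subgroup G, H.index = 2 := by
  open CfsgLib.Inv in
  exact (by
    haveI : Fact (Nat.Prime 2) := ⟨Nat.prime_two⟩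
    obtain ⟨e⟩ := hS
    have d1 := dec1
    have d2 := dec2
    have d3 := dec3
    have d4 := dec4
    have d5 : ∃ x : D, x * x = (1, DihedralGroup.r 2) := ⟨_, dec5⟩
    set a : G := ((e.symm (Multiplicative.ofAdd 1, 1) : (S : Subgroup G)) : G) with ha
    set c : G := ((e.symm (1, DihedralGroup.r 2) : (S : Subgroup G)) : G) with hc
    have haS : a ∈ (S : Subgroup G) := SetLike.coe_mem _
    have hcS : c ∈ (S : Subgroup G) := SetLike.coe_mem _
    have hlift : ∀ x : G, ∀ hx : x ∈ (S : Subgroup G), ∀ w, e ⟨x, hx⟩ = w → x = (e.symm w : (S : Subgroup G)) :=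
      fun x hx w h => by rw [← h, e.symm_apply_apply]
    -- the elements of Ω₁Z(S)
    have hZ : ∀ z ∈ Cfsg.omegaOne 2 ((S : Subgroup G) ⊓ Subgroup.centralizer ((S : Subgroup G) : Set G)),
        z = 1 ∨ z = a ∨ z = c ∨ z = a * c := by
      intro z hz
      have key : ∃ h : z ∈ (S : Subgroup G), (∀ y, e ⟨z, h⟩ * y = y * e ⟨z, h⟩) ∧ e ⟨z, h⟩ * e ⟨z, h⟩ = 1 := by
        simp only [Cfsg.omegaOne] at hz
        induction hz using Subgroup.closure_induction with
        | mem x hx =>
          obtain ⟨h1, h2⟩ := hx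
          refine ⟨(Subgroup.mem_inf.1 h1).1, fun y => ?_, ?_⟩
          · rw [← e.apply_symm_apply y, ← map_mul, ← map_mul]
            exact congrArg e (Subtype.ext (Subgroup.mem_centralizer_iff.1 (Subgroup.mem_inf.1 h1).2 _ (e.symm y).2).symm)
          · rw [← map_mul, ← map_one e]
            exact congrArg e (Subtype.ext (by rw [Subgroup.coe_mul, ← pow_two]; exact h2))
        | one =>
          refine ⟨one_mem _, fun y => ?_, ?_⟩
          · rw [show (⟨1, one_mem _⟩ : (S : Subgroup G)) = 1 from rfl, map_one, one_mul, mul_one]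
          · rw [show (⟨1, one_mem _⟩ : (S : Subgroup G)) = 1 from rfl, map_one, one_mul]
        | mul x y _ _ ihx ihy =>
          obtain ⟨hx, cx, sx⟩ := ihx
          obtain ⟨hy, cy, sy⟩ := ihy
          have em : e ⟨x * y, mul_mem hx hy⟩ = e ⟨x, hx⟩ * e ⟨y, hy⟩ := map_mul e ⟨x, hx⟩ ⟨y, hy⟩
          refine ⟨mul_mem hx hy, fun w => ?_, ?_⟩
          · rw [em, mul_assoc, cy w, ← mul_assoc, cx w, mul_assoc]
          · rw [em, mul_assoc, ← mul_assoc (e ⟨y, hy⟩), cy, mul_assoc (e ⟨x, hx⟩) (e ⟨y, hy⟩), sy, mul_one, sx]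
        | inv x _ ihx =>
          obtain ⟨hx, cx, sx⟩ := ihx
          have : e ⟨x⁻¹, inv_mem hx⟩ = e ⟨x, hx⟩ := by
            rw [show (⟨x⁻¹, inv_mem hx⟩ : (S : Subgroup G)) = ⟨x, hx⟩⁻¹ from rfl, map_inv]
            exact inv_eq_of_mul_eq_one_right sx
          exact ⟨inv_mem hx, by rw [this]; exact cx, by rw [this]; exact sx⟩
      obtain ⟨h, h1, h2⟩ := key
      rcases d2 _ h1 h2 with w | w | w | w
      · left; have := hlift z h _ w; rw [map_one] at this; exact this
      · right; left; exact hlift z h _ w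
      · right; right; left; exact hlift z h _ w
      · right; right; right
        have := hlift z h _ w
        rw [map_mul, Subgroup.coe_mul] at this
        exact this
    rcases Cfsg.Agent.S2872.result S with h | h | ⟨g, hg, z, hz, hgz⟩
    · haveI := pResidual_normal 2 G
      have hQ := isPGroup_quot_pResidual (G := G) (p := 2)
      haveI : Nontrivial (G ⧸ Cfsg.pResidual 2 G) := QuotientGroup.nontrivial_iff.2 h
      obtain ⟨M, hM, -⟩ := (eq_top_or_exists_le_coatom (⊥ : Subgroup (G ⧸ Cfsg.pResidual 2 G))).resolve_left bot_ne_top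
      refine ⟨M.comap (QuotientGroup.mk' _), ?_⟩
      rw [Subgroup.index_comap_of_surjective _ (QuotientGroup.mk'_surjective _)]
      exact (CfsgLib.Solv.isCoatom_normal_and_card_quotient hQ hM).2
    · exfalso
      have haZ : a ∈ Cfsg.omegaOne 2 ((S : Subgroup G) ⊓ Subgroup.centralizer ((S : Subgroup G) : Set G)) := by
        refine Subgroup.subset_closure ⟨Subgroup.mem_inf.2 ⟨haS, Subgroup.mem_centralizer_iff.2 fun s hs => ?_⟩, ?_⟩
        · refine congrArg Subtype.val (e.injective (?_ : e (⟨s, hs⟩ * e.symm _) = e (e.symm _ * ⟨s, hs⟩)))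
          rw [map_mul, map_mul, e.apply_symm_apply]
          exact ((d3 _).1).symm
        · rw [ha, ← Subgroup.coe_pow, ← map_pow, dec6,
            map_one, Subgroup.coe_one]
      obtain ⟨w, hw, hwe⟩ := Subgroup.mem_map.1 (h haZ)
      set f : (S : Subgroup G) →* Multiplicative (ZMod 2) := (MonoidHom.fst _ _).comp e.toMonoidHom with hf
      have hle : frattini (S : Subgroup G) ≤ f.ker := by
        refine CfsgLib.Solv.frattini_le_of_elementary (p := 2) f.ker ?_ fun x => ?_
        · rw [commutator_def, Subgroup.commutator_le]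
          intro x _ y _
          rw [MonoidHom.mem_ker, map_commutatorElement, commutatorElement_def]
          exact (d4 _ _).1
        · rw [MonoidHom.mem_ker, map_pow, pow_two]
          exact (d4 _ 1).2
      have hw' := hle hw
      rw [MonoidHom.mem_ker, show w = e.symm (Multiplicative.ofAdd 1, 1) from Subtype.ext hwe] at hw'
      have : (Multiplicative.ofAdd 1 : Multiplicative (ZMod 2)) = 1 := by
        simpa [hf] using hw'
      exact dec7 this
    · exfalso
      refine hgz ?_
      have hconj : ∀ n ∈ Subgroup.normalizer ((S : Subgroup G) : Set G), n * c * n⁻¹ = c := by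
        intro n hn
        obtain ⟨x, hx⟩ := d5
        set s : G := ((e.symm x : (S : Subgroup G)) : G) with hs
        have hcs : c = s * s := by rw [hc, hs, ← Subgroup.coe_mul, ← map_mul, hx]
        have hns : n * s * n⁻¹ ∈ (S : Subgroup G) := (Subgroup.mem_normalizer_iff.1 hn s).1 (SetLike.coe_mem _)
        have hne : n * c * n⁻¹ ≠ 1 := by
          rw [Ne, conj_eq_one_iff, hc, OneMemClass.coe_eq_one, map_eq_one_iff _ e.symm.injective]
          exact dec8
        rcases d1 (e ⟨_, hns⟩) with w | w
        · refine absurd ?_ hne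
          rw [← map_mul, map_eq_one_iff _ e.injective] at w
          calc n * c * n⁻¹ = (n * s * n⁻¹) * (n * s * n⁻¹) := by rw [hcs]; group
            _ = 1 := congrArg Subtype.val w
        · rw [← map_mul] at w
          have := hlift _ (mul_mem hns hns) _ w
          calc n * c * n⁻¹ = (n * s * n⁻¹) * (n * s * n⁻¹) := by rw [hcs]; group
            _ = c := this
      have haa : ∀ n ∈ Subgroup.normalizer ((S : Subgroup G) : Set G), n * a * n⁻¹ = a ∨ n * a * n⁻¹ = a * c := by
        intro n hn
        have haZ' : a ∈ Cfsg.omegaOne 2 ((S : Subgroup G) ⊓ Subgroup.centralizer ((S : Subgroup G) : Set G)) := by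
          refine Subgroup.subset_closure ⟨Subgroup.mem_inf.2 ⟨haS, Subgroup.mem_centralizer_iff.2 fun s hs => ?_⟩, ?_⟩
          · refine congrArg Subtype.val (e.injective (?_ : e (⟨s, hs⟩ * e.symm _) = e (e.symm _ * ⟨s, hs⟩)))
            rw [map_mul, map_mul, e.apply_symm_apply]
            exact ((d3 _).1).symm
          · rw [ha, ← Subgroup.coe_pow, ← map_pow, dec6,
              map_one, Subgroup.coe_one]
        have hmem : n * a * n⁻¹ ∈ Cfsg.omegaOne 2 ((S : Subgroup G) ⊓ Subgroup.centralizer ((S : Subgroup G) : Set G)) := by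
          have hle : (Cfsg.omegaOne 2 ((S : Subgroup G) ⊓ Subgroup.centralizer ((S : Subgroup G) : Set G))).map
              (MulAut.conj n).toMonoidHom ≤ Cfsg.omegaOne 2 ((S : Subgroup G) ⊓ Subgroup.centralizer ((S : Subgroup G) : Set G)) := by
            rw [Cfsg.omegaOne, MonoidHom.map_closure]
            refine Subgroup.closure_mono ?_
            rintro _ ⟨x, ⟨hx, hx2⟩, rfl⟩
            obtain ⟨hxS, hxC⟩ := Subgroup.mem_inf.1 hx
            refine ⟨Subgroup.mem_inf.2 ⟨(Subgroup.mem_normalizer_iff.1 hn x).1 hxS, Subgroup.mem_centralizer_iff.2 fun y hy => ?_⟩, ?_⟩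
            · have h1 := Subgroup.mem_centralizer_iff.1 hxC _ ((Subgroup.mem_normalizer_iff''.1 hn y).1 hy)
              show y * (n * x * n⁻¹) = n * x * n⁻¹ * y
              calc y * (n * x * n⁻¹) = n * (n⁻¹ * y * n * x) * n⁻¹ := by group
                _ = n * (x * (n⁻¹ * y * n)) * n⁻¹ := by rw [h1]
                _ = _ := by group
            · rw [← map_pow, hx2, map_one]
          exact hle (Subgroup.mem_map.2 ⟨a, haZ', rfl⟩)
        rcases hZ _ hmem with w | w | w | w
        · exfalso
          rw [conj_eq_one_iff, ha, OneMemClass.coe_eq_one, map_eq_one_iff _ e.symm.injective] at w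
          exact dec9 w
        · exact Or.inl w
        · exfalso
          rw [← hconj n hn] at w
          have w' := (MulAut.conj n).injective w
          rw [ha, hc, Subtype.coe_inj, e.symm.injective.eq_iff] at w'
          exact dec10 w'
        · exact Or.inr w
      -- g centralizes a
      obtain ⟨k, m, hm, hkm⟩ := Nat.exists_eq_two_pow_mul_odd (orderOf_pos g).ne'
      set N := Subgroup.normalizer ((S : Subgroup G) : Set G) with hN
      have hga : g * a = a * g := by
        have h1 : g ^ m ∈ (S : Subgroup G) := by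
          haveI : ((S : Subgroup G).subgroupOf N).Normal := Subgroup.normal_in_normalizer (H := (S : Subgroup G))
          have hp : IsPGroup 2 (Subgroup.zpowers (⟨g ^ m, pow_mem hg m⟩ : N)) := IsPGroup.of_card (n := k) (by
            rw [Nat.card_zpowers, Subgroup.orderOf_mk, orderOf_pow_of_dvd hm.pos.ne' (hkm ▸ dvd_mul_left m _), hkm,
              Nat.mul_div_cancel _ hm.pos])
          obtain ⟨T, hT⟩ := hp.exists_le_sylow
          haveI : ((S.subtype (Subgroup.le_normalizer : (S : Subgroup G) ≤ N) : Sylow 2 N) : Subgroup N).Normal := by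
            rw [Sylow.coe_subtype]; infer_instance
          haveI := Sylow.unique_of_normal (S.subtype (Subgroup.le_normalizer : (S : Subgroup G) ≤ N)) inferInstance
          have hTS : T = S.subtype Subgroup.le_normalizer := Subsingleton.elim _ _
          have := hT (Subgroup.mem_zpowers _)
          rw [hTS, Sylow.coe_subtype] at this
          exact this
        have hca : Commute (g ^ m) a := by
          have := congrArg Subtype.val (e.injective (a₁ := ⟨g ^ m, h1⟩ * e.symm (Multiplicative.ofAdd 1, 1))
            (a₂ := e.symm (Multiplicative.ofAdd 1, 1) * ⟨g ^ m, h1⟩)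
            (by rw [map_mul, map_mul, e.apply_symm_apply]; exact ((d3 _).1).symm))
          exact this
        have hcb : Commute (g ^ 2 ^ k) a := by
          set h := g ^ 2 ^ k with hh
          have hodd : Odd (orderOf h) := by
            refine hm.of_dvd_nat (orderOf_dvd_of_pow_eq_one ?_)
            rw [hh, ← pow_mul, ← hkm, pow_orderOf_eq_one]
          have hhN : h ∈ N := pow_mem hg _
          rcases haa h hhN with w | w
          · exact (show h * a = a * h by
              calc h * a = h * a * h⁻¹ * h := by group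
                _ = a * h := by rw [w])
          · have h2 : h ^ 2 * a * (h ^ 2)⁻¹ = a := by
              calc h ^ 2 * a * (h ^ 2)⁻¹ = h * (h * a * h⁻¹) * h⁻¹ := by simp only [pow_two, mul_inv_rev, mul_assoc]
                _ = h * (a * c) * h⁻¹ := by rw [w]
                _ = (h * a * h⁻¹) * (h * c * h⁻¹) := by group
                _ = a * (c * c) := by rw [hconj h hhN, w, mul_assoc]
                _ = a := by
                  rw [hc, ← Subgroup.coe_mul, ← map_mul, dec11, map_one, Subgroup.coe_one, mul_one]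
            have h3 : Commute (h ^ 2) a := by
              calc h ^ 2 * a = h ^ 2 * a * (h ^ 2)⁻¹ * h ^ 2 := by group
                _ = a * h ^ 2 := by rw [h2]
            obtain ⟨j, hj⟩ := hodd
            have : h = (h ^ 2) ^ (j + 1) := by
              rw [← pow_mul, show 2 * (j + 1) = orderOf h + 1 by omega, pow_succ, pow_orderOf_eq_one, one_mul]
            rw [this]
            exact h3.pow_left _
        have hb := Nat.gcd_eq_gcd_ab m (2 ^ k)
        rw [show Nat.gcd m (2 ^ k) = 1 from Nat.Coprime.pow_right k (Nat.coprime_two_right.2 hm)] at hb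
        have e2 : g = (g ^ m) ^ (Nat.gcdA m (2 ^ k)) * (g ^ 2 ^ k) ^ (Nat.gcdB m (2 ^ k)) := by
          rw [← zpow_natCast g m, ← zpow_natCast g (2 ^ k), ← zpow_mul, ← zpow_mul, ← zpow_add, ← hb, Nat.cast_one, zpow_one]
        rw [e2]
        exact ((hca.zpow_left _).mul_left (hcb.zpow_left _)).eq
      have hgc : g * c * g⁻¹ = c := hconj g hg
      have hga' : g * a * g⁻¹ = a := by rw [hga, mul_inv_cancel_right]
      rcases hZ z hz with rfl | rfl | rfl | rfl
      · group
      · exact hga'
      · exact hgc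
      · calc g * (a * c) * g⁻¹ = (g * a * g⁻¹) * (g * c * g⁻¹) := by group
          _ = a * c := by rw [hga', hgc])

end Cfsg.Agent.S2911
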