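import Cfsg.Statements.S2912
import Mathlib

set_option autoImplicit false
open Cfsg

namespace Cfsg.Agent.S2912

open scoped commutatorElement IsMulCommutative

set_option maxHeartbeats 1000000

variable {E : Type*} [Group E] {K W : Type*} [Field K] [AddCommGroup W] [Module K W] [FiniteDimensional K W]

theorem sum_finrank_le {n : ℕ} {U : Fin n → Submodule K W} (h : iSupIndep U) :
    ∑ i, Module.finrank K (U i) ≤ Module.finrank K W := by
  classical
  have hinj : Function.Injective (DFinsupp.lsum ℕ (M := fun i => U i) fun i => (U i).subtype) :=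
    h.dfinsupp_lsum_injective
  calc ∑ i, Module.finrank K (U i) = Module.finrank K (Π₀ i, U i) :=
        (Module.finrank_directSum K (fun i => U i)).symm
    _ ≤ _ := LinearMap.finrank_le_finrank_of_injective hinj

/-- An eigenspace of a central element on which no commutator degenerates has large dimension. -/
theorem eigen_dim [Finite E] {p : ℕ} (hp : p.Prime) {w : ℕ} (φ : E →* Module.End K W) {z : E}
    (hzp : orderOf z = p) (hzgen : Subgroup.zpowers z = Subgroup.center E)
    (hcomm : ∀ a b : E, ⁅a, b⁆ ∈ Subgroup.center E) (hcard : Nat.card (E ⧸ Subgroup.center E) = p ^ (2 * w))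
    {μ : K} (hμp : orderOf μ = p) (hne : Module.End.eigenspace (φ z) μ ≠ ⊥) :
    p ^ w ≤ Module.finrank K (Module.End.eigenspace (φ z) μ) := by
  classical
  obtain ⟨x0, hx0, hx0ne⟩ := (Submodule.ne_bot_iff _).1 hne
  set U := Module.End.eigenspace (φ z) μ with hU
  have hzc : ∀ e, e * z = z * e := Subgroup.mem_center_iff.1 (hzgen ▸ Subgroup.mem_zpowers z)
  have hinv : ∀ (e : E), ∀ x ∈ U, φ e x ∈ U := fun e x hx => by
    rw [hU, Module.End.mem_eigenspace_iff] at hx ⊢
    rw [← Module.End.mul_apply, ← map_mul, ← hzc, map_mul, Module.End.mul_apply, hx, map_smul]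
  have hpow : ∀ (i : ℕ), ∀ x ∈ U, φ (z ^ i) x = μ ^ i • x := by
    intro i
    induction i with
    | zero => intro x _; simp
    | succ i ih =>
      intro x hx
      rw [pow_succ, map_mul, Module.End.mul_apply, Module.End.mem_eigenspace_iff.1 hx, map_smul, ih x hx,
        smul_smul, mul_comm, ← pow_succ]
  have hscal : ∀ c : E, ∃ s : K, c ∈ Subgroup.center E → ∀ x ∈ U, φ c x = s • x := fun c => by
    by_cases hc : c ∈ Subgroup.center E
    · rw [← hzgen, ← (isOfFinOrder_of_finite z).mem_powers_iff_mem_zpowers] at hc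
      obtain ⟨i, rfl⟩ := hc
      exact ⟨μ ^ i, fun _ => hpow i⟩
    · exact ⟨0, fun h => absurd h hc⟩
  choose s hs using hscal
  have hsm : ∀ c ∈ Subgroup.center E, ∀ d ∈ Subgroup.center E, s (c * d) = s c * s d := fun c hc d hd => by
    refine smul_left_injective K hx0ne ?_
    show s (c * d) • x0 = (s c * s d) • x0
    rw [← hs _ (mul_mem hc hd) x0 hx0, map_mul, Module.End.mul_apply, hs d hd x0 hx0, map_smul, hs c hc x0 hx0,
      smul_smul, mul_comm]
  have hs1 : s 1 = 1 := by
    refine smul_left_injective K hx0ne ?_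
    show s 1 • x0 = (1 : K) • x0
    rw [← hs 1 (one_mem _) x0 hx0, map_one, one_smul]; rfl
  have hsinj : ∀ c ∈ Subgroup.center E, s c = 1 → c = 1 := fun c hc h1 => by
    rw [← hzgen, ← (isOfFinOrder_of_finite z).mem_powers_iff_mem_zpowers] at hc
    obtain ⟨i, rfl⟩ := hc
    have hi : μ ^ i = 1 := by
      refine smul_left_injective K hx0ne ?_
      show μ ^ i • x0 = (1 : K) • x0
      rw [← hpow i x0 hx0, hs _ (hzgen ▸ pow_mem (Subgroup.mem_zpowers z) i) x0 hx0, h1]
    show z ^ i = 1
    rw [← orderOf_dvd_iff_pow_eq_one, hzp, ← hμp]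
    exact orderOf_dvd_of_pow_eq_one hi
  let χ : E ⧸ Subgroup.center E → E →* K := fun q =>
    { toFun := fun e => s ⁅e, q.out⁆
      map_one' := by rw [commutatorElement_one_left, hs1]
      map_mul' := fun a b => by
        have e1 : ⁅a * b, q.out⁆ = ⁅b, q.out⁆ * ⁅a, q.out⁆ := by
          have hc := Subgroup.mem_center_iff.1 (hcomm b q.out) a
          calc ⁅a * b, q.out⁆ = a * ⁅b, q.out⁆ * q.out * a⁻¹ * q.out⁻¹ := by
                simp only [commutatorElement_def]; group
            _ = _ := by rw [hc]; simp only [commutatorElement_def]; group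
        rw [e1, hsm _ (hcomm _ _) _ (hcomm _ _), mul_comm] }
  have hχ : Function.Injective χ := by
    intro q q' h
    rw [← QuotientGroup.out_eq' q, ← QuotientGroup.out_eq' q', QuotientGroup.eq, Subgroup.mem_center_iff]
    intro e
    set a := q.out; set b := q'.out
    have hse : s ⁅e, a⁆ = s ⁅e, b⁆ := DFunLike.congr_fun h e
    have hca := Subgroup.mem_center_iff.1 (hcomm e a)
    have : ⁅e, a⁆ = ⁅e, b⁆ := by
      refine mul_inv_eq_one.1 (hsinj _ (mul_mem (hcomm _ _) (inv_mem (hcomm _ _))) ?_)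
      rw [hsm _ (hcomm _ _) _ (inv_mem (hcomm _ _)), hse, ← hsm _ (hcomm _ _) _ (inv_mem (hcomm _ _)), mul_inv_cancel, hs1]
    -- conjugation by `e` agrees on `a` and `b`
    have ea : e * a * e⁻¹ = ⁅e, a⁆ * a := by simp only [commutatorElement_def]; group
    have eb : e * b * e⁻¹ = ⁅e, a⁆ * b := by rw [this]; simp only [commutatorElement_def]; group
    have key : e * (a⁻¹ * b) * e⁻¹ = a⁻¹ * b :=
      calc e * (a⁻¹ * b) * e⁻¹ = (e * a * e⁻¹)⁻¹ * (e * b * e⁻¹) := by group
        _ = _ := by rw [ea, eb]; group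
    exact mul_inv_eq_iff_eq_mul.1 key
  let Φ : E ⧸ Subgroup.center E → (U →ₗ[K] U) := fun q => (φ q.out).restrict (hinv q.out)
  have hli : LinearIndependent K Φ := by
    haveI : Fintype (E ⧸ Subgroup.center E) := Fintype.ofFinite _
    rw [Fintype.linearIndependent_iff]
    intro c hc q
    have hchi : LinearIndependent K (fun q => ((χ q : E →* K) : E → K)) :=
      (linearIndependent_monoidHom E K).comp χ hχ
    have h1 : ∀ x : U, c q • (φ q.out) (x : W) = 0 := by
      intro x
      -- test against a functional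
      by_contra hne'
      obtain ⟨ℓ, hℓ⟩ : ∃ ℓ : W →ₗ[K] K, ℓ (c q • (φ q.out) (x : W)) ≠ 0 := by
        by_contra hno
        push Not at hno
        exact hne' ((Module.forall_dual_apply_eq_zero_iff K _).1 hno)
      have hz0 : ∑ q', (c q' * ℓ (φ q'.out (x : W))) • ((χ q' : E →* K) : E → K) = 0 := by
        funext e
        have hx' : φ e⁻¹ (x : W) ∈ U := hinv _ _ x.2
        have h0 := congrArg (fun f : U →ₗ[K] U => ((f ⟨φ e⁻¹ (x : W), hx'⟩ : U) : W)) hc
        simp only [LinearMap.sum_apply, LinearMap.smul_apply, LinearMap.zero_apply, Submodule.coe_sum,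
          Submodule.coe_smul, Submodule.coe_zero, Φ, LinearMap.restrict_coe_apply] at h0
        have h2 := congrArg (fun v => ℓ (φ e v)) h0
        simp only [map_sum, map_smul, smul_eq_mul, map_zero] at h2
        simp only [Finset.sum_apply, Pi.smul_apply, smul_eq_mul, Pi.zero_apply]
        rw [← h2]
        refine Finset.sum_congr rfl fun q' _ => ?_
        rw [mul_assoc]
        congr 1
        have e2 : φ e (φ q'.out (φ e⁻¹ (x : W))) = s ⁅e, q'.out⁆ • φ q'.out (x : W) := by
          rw [← Module.End.mul_apply, ← map_mul, ← Module.End.mul_apply, ← map_mul,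
            show e * q'.out * e⁻¹ = ⁅e, q'.out⁆ * q'.out by simp only [commutatorElement_def]; group,
            map_mul, Module.End.mul_apply, hs _ (hcomm _ _) _ (hinv _ _ x.2)]
        rw [e2, map_smul, smul_eq_mul, mul_comm]
        rfl
      exact hℓ (by rw [map_smul, smul_eq_mul]; exact Fintype.linearIndependent_iff.1 hchi _ hz0 q)
    have h2 : φ q.out x0 ≠ 0 := fun e => hx0ne (by
      have : φ q.out⁻¹ (φ q.out x0) = x0 := by
        rw [← Module.End.mul_apply, ← map_mul, inv_mul_cancel, map_one]; rfl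
      rw [← this, e, map_zero])
    exact (smul_eq_zero.1 (h1 ⟨x0, hx0⟩)).resolve_right h2
  haveI : Fintype (E ⧸ Subgroup.center E) := Fintype.ofFinite _
  have hle := hli.fintype_card_le_finrank
  rw [← Nat.card_eq_fintype_card, hcard, Module.finrank_linearMap, ← pow_two, mul_comm 2, pow_mul] at hle
  exact (Nat.pow_le_pow_iff_left two_ne_zero).1 hle

/-- Frobenius carries eigenvectors of a matrix over the prime field to eigenvectors. -/
theorem frob_eigen {r d : ℕ} [Fact r.Prime] {L : Type*} [Field L] [CharP L r] (f : ZMod r →+* L)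
    (M : Matrix (Fin d) (Fin d) (ZMod r)) {x : Fin d → L} {μ : L} (h : (M.map f).mulVec x = μ • x) (k : ℕ) :
    (M.map f).mulVec (fun i => x i ^ r ^ k) = μ ^ r ^ k • fun i => x i ^ r ^ k := by
  have hF : ∀ a, iterateFrobenius L r k (f a) = f a := fun a =>
    DFunLike.congr_fun (Subsingleton.elim ((iterateFrobenius L r k).comp f) f) a
  funext i
  have h1 := congrArg (iterateFrobenius L r k) (congrFun h i)
  simp only [Matrix.mulVec, dotProduct, map_sum, map_mul, Matrix.map_apply, hF, Pi.smul_apply, smul_eq_mul] at h1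
  simp only [iterateFrobenius_def] at h1
  simpa only [Matrix.mulVec, dotProduct, Matrix.map_apply, Pi.smul_apply, smul_eq_mul] using h1

/-- The bound for a faithful representation over the prime field. -/
theorem bound [Finite E] {p r d : ℕ} [hp : Fact p.Prime] [Fact r.Prime] (hpr : p ≠ r) {w n : ℕ}
    (φ : E →* Matrix (Fin d) (Fin d) (ZMod r)) {z : E}
    (hzp : orderOf z = p) (hzgen : Subgroup.zpowers z = Subgroup.center E) (hz1 : φ z ≠ 1)
    (hcomm : ∀ a b : E, ⁅a, b⁆ ∈ Subgroup.center E) (hcard : Nat.card (E ⧸ Subgroup.center E) = p ^ (2 * w))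
    (hmin : ∀ k : ℕ, 1 ≤ k → p ∣ r ^ k - 1 → n ≤ k) : n * p ^ w ≤ d := by
  classical
  let L := AlgebraicClosure (ZMod r)
  haveI : CharP L r := charP_of_injective_algebraMap (algebraMap (ZMod r) L).injective r
  let f := algebraMap (ZMod r) L
  let ψ : E →* Module.End L (Fin d → L) :=
    ((Matrix.toLinAlgEquiv' : Matrix (Fin d) (Fin d) L ≃ₐ[L] _).toMonoidHom.comp f.mapMatrix.toMonoidHom).comp φ
  have hψ : ∀ e x, ψ e x = ((φ e).map f).mulVec x := fun e x => Matrix.toLinAlgEquiv'_apply _ _
  -- an eigenvalue different from 1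
  have hne1 : ψ z ≠ 1 := fun h => hz1 (by
    have : ((φ z).map f : Matrix (Fin d) (Fin d) L) = 1 := by
      apply Matrix.toLinAlgEquiv'.injective
      rw [map_one]; exact h
    exact Matrix.map_injective f.injective (this.trans (Matrix.map_one f f.map_zero f.map_one).symm))
  have hpz : (ψ z) ^ p = 1 := by rw [← map_pow, ← hzp, pow_orderOf_eq_one, map_one]
  obtain ⟨μ, x, hx, hx0, hμ1⟩ : ∃ (μ : L) (x : Fin d → L), ψ z x = μ • x ∧ x ≠ 0 ∧ μ ≠ 1 := by
    set R := LinearMap.range (ψ z - 1) with hR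
    have hRinv : ∀ v ∈ R, ψ z v ∈ R := by
      rintro _ ⟨y, rfl⟩
      exact ⟨ψ z y, by simp [map_sub]⟩
    have hRne : R ≠ ⊥ := fun e => hne1 (sub_eq_zero.1 (LinearMap.range_eq_bot.1 e))
    haveI : Nontrivial R := Submodule.nontrivial_iff_ne_bot.2 hRne
    obtain ⟨μ, hμ⟩ := Module.End.exists_eigenvalue ((ψ z).restrict hRinv)
    obtain ⟨⟨x, hxR⟩, hx⟩ := hμ.exists_hasEigenvector
    have he : ψ z x = μ • x := congrArg Subtype.val hx.apply_eq_smul
    have hx0 : x ≠ 0 := fun e => hx.2 (Subtype.ext e)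
    refine ⟨μ, x, he, hx0, fun h1 => hx0 ?_⟩
    obtain ⟨y, hy⟩ := hxR
    rw [h1, one_smul] at he
    have hy' : ψ z y = y + x := by rw [← hy]; simp
    have hit : ∀ k : ℕ, ((ψ z) ^ k) y = y + k • x := by
      intro k
      induction k with
      | zero => simp
      | succ k ih => rw [pow_succ', Module.End.mul_apply, ih, map_add, map_nsmul, hy', he, succ_nsmul]; abel
    have hpx := hit p
    rw [hpz] at hpx
    have h2 : (p : L) • x = 0 := by
      rw [Nat.cast_smul_eq_nsmul]
      simpa using hpx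
    refine (smul_eq_zero.1 h2).resolve_left fun h => hpr ?_
    exact ((Nat.prime_dvd_prime_iff_eq Fact.out hp.out).1 ((CharP.cast_eq_zero_iff L r p).1 h)).symm
  have hμp : μ ^ p = 1 := by
    have : ((ψ z) ^ p) x = μ ^ p • x := by
      have hk : ∀ k : ℕ, ((ψ z) ^ k) x = μ ^ k • x := by
        intro k
        induction k with
        | zero => simp
        | succ k ih => rw [pow_succ', Module.End.mul_apply, ih, map_smul, hx, smul_smul, ← pow_succ]
      exact hk p
    rw [hpz] at this
    exact (smul_left_injective L hx0 (show (1 : L) • x = μ ^ p • x by rw [one_smul]; exact this)).symm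
  have hord : orderOf μ = p := orderOf_eq_prime hμp hμ1
  let U : Fin n → Submodule L (Fin d → L) := fun i => Module.End.eigenspace (ψ z) (μ ^ r ^ (i : ℕ))
  have hdiff : Function.Injective fun i : Fin n => μ ^ r ^ (i : ℕ) := by
    intro i j hij
    by_contra hne'
    wlog hlt : (i : ℕ) < j generalizing i j with H
    · exact H hij.symm (Ne.symm hne') (by have := Fin.val_ne_of_ne hne'; omega)
    have hij' : μ ^ r ^ (i : ℕ) = μ ^ r ^ (j : ℕ) := hij
    have hle : r ^ (i : ℕ) ≤ r ^ (j : ℕ) := Nat.pow_le_pow_right (Fact.out (p := r.Prime)).pos hlt.le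
    have hμ0 : μ ≠ 0 := fun e => by rw [e, zero_pow hp.out.ne_zero] at hμp; exact zero_ne_one hμp
    have hd : p ∣ r ^ (j : ℕ) - r ^ (i : ℕ) := by
      rw [← hord]
      refine orderOf_dvd_of_pow_eq_one ?_
      rw [pow_sub₀ μ hμ0 hle, ← hij', mul_inv_cancel₀ (pow_ne_zero _ hμ0)]
    rw [show (j : ℕ) = i + (j - i) by omega, pow_add, ← Nat.mul_sub_one] at hd
    rcases hp.out.dvd_mul.1 hd with h | h
    · exact hpr ((Nat.prime_dvd_prime_iff_eq hp.out Fact.out).1 (hp.out.dvd_of_dvd_pow h))
    · have := hmin _ (by omega) h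
      omega
  have hind : iSupIndep U := (Module.End.eigenspaces_iSupIndep (ψ z)).comp hdiff
  have hdim : ∀ i, p ^ w ≤ Module.finrank L (U i) := by
    intro i
    refine eigen_dim hp.out ψ hzp hzgen hcomm hcard ?_ ?_
    · have hco : Nat.Coprime (orderOf μ) (r ^ (i : ℕ)) := by
        rw [hord]
        exact Nat.Coprime.pow_right _ ((Nat.coprime_primes hp.out Fact.out).2 hpr)
      rw [hco.orderOf_pow, hord]
    · refine (Submodule.ne_bot_iff _).2 ⟨fun j => x j ^ r ^ (i : ℕ), ?_, fun e => hx0 (funext fun j => ?_)⟩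
      · rw [Module.End.mem_eigenspace_iff, hψ]
        exact frob_eigen f (φ z) (by rw [← hψ]; exact hx) _
      · exact eq_zero_of_pow_eq_zero (congrFun e j)
  have := sum_finrank_le hind
  rw [Module.finrank_fin_fun] at this
  refine le_trans ?_ this
  calc n * p ^ w = ∑ _i : Fin n, p ^ w := by simp
    _ ≤ _ := Finset.sum_le_sum fun i _ => hdim i
/-- The bound, for a faithful action on an abelian group of exponent `r`. -/
theorem card_bound [Finite E] {p r : ℕ} [Fact p.Prime] [hr : Fact r.Prime] (hpr : p ≠ r) {w n : ℕ}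
    {V : Type*} [AddCommGroup V] [Finite V] [Module (ZMod r) V] (θ : E →* AddMonoid.End V) {z : E}
    (hzp : orderOf z = p) (hzgen : Subgroup.zpowers z = Subgroup.center E) (hz1 : θ z ≠ 1)
    (hcomm : ∀ a b : E, ⁅a, b⁆ ∈ Subgroup.center E) (hcard : Nat.card (E ⧸ Subgroup.center E) = p ^ (2 * w))
    (hmin : ∀ k : ℕ, 1 ≤ k → p ∣ r ^ k - 1 → n ≤ k) : r ^ (n * p ^ w) ≤ Nat.card V := by
  let T : E →* Module.End (ZMod r) V :=
    { toFun := fun e => AddMonoidHom.toZModLinearMap r (θ e)
      map_one' := LinearMap.ext fun a => show θ 1 a = a by rw [map_one]; rfl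
      map_mul' := fun x y => LinearMap.ext fun a => show θ (x * y) a = θ x (θ y a) by rw [map_mul]; rfl }
  let b := Module.finBasis (ZMod r) V
  let φ : E →* Matrix (Fin (Module.finrank (ZMod r) V)) (Fin (Module.finrank (ZMod r) V)) (ZMod r) :=
    (LinearMap.toMatrixAlgEquiv b).toMonoidHom.comp T
  have hz1' : φ z ≠ 1 := fun h => hz1 (by
    have h' : T z = 1 := (LinearMap.toMatrixAlgEquiv b).injective (h.trans (map_one _).symm)
    exact AddMonoidHom.ext fun a => LinearMap.congr_fun h' a)
  have hd := bound (d := Module.finrank (ZMod r) V) hpr φ hzp hzgen hz1' hcomm hcard hmin (w := w)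
  rw [Module.natCard_eq_pow_finrank (K := ZMod r), Nat.card_zmod]
  exact Nat.pow_le_pow_right hr.out.pos hd

/-- Let p and r be distinct primes, let E be an extraspecial subgroup of order p^(2w+1) of a finite group, and let A be an elementary abelian r-subgroup normalized by E on which E acts faithfully (C_E(A) = 1). If n ≥ 1 is least with p dividing rⁿ − 1 (the smallest dimension of a faithful representation of a group of order p over the field with r elements), then the order of A is at least r^(n·p^w). -/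
theorem result {G : Type*} [Group G] [Finite G] {p r : ℕ} [Fact p.Prime] [hr : Fact r.Prime] (hpr : p ≠ r) (E A : Subgroup G) (w : ℕ) (hE : Cfsg.IsExtraspecial p ↥E) (hEcard : Nat.card ↥E = p ^ (2 * w + 1)) (hA : Cfsg.IsElementaryAbelian r A) (hnorm : E ≤ Subgroup.normalizer (A : Set G)) (hfaith : E ⊓ Subgroup.centralizer (A : Set G) = ⊥) (n : ℕ) (hn : 1 ≤ n) (hdiv : p ∣ r ^ n - 1) (hmin : ∀ k : ℕ, 1 ≤ k → p ∣ r ^ k - 1 → n ≤ k) : r ^ (n * p ^ w) ≤ Nat.card ↥A := by
  obtain ⟨⟨-, -, hder⟩, hZ⟩ := hE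
  haveI := hA.1
  letI : Module (ZMod r) (Additive ↥A) := AddCommGroup.zmodModule fun a => by
    apply Additive.toMul.injective
    rw [toMul_nsmul, toMul_zero]
    exact Subtype.ext (hA.2 _ (Additive.toMul a).2)
  let θ : ↥E →* AddMonoid.End (Additive ↥A) :=
    { toFun := fun e => MonoidHom.toAdditive
        (MonoidHom.mk' (fun a : ↥A => (⟨(e : G) * (a : G) * (e : G)⁻¹, (Subgroup.mem_normalizer_iff.1 (hnorm e.2) a).1 a.2⟩ : ↥A))
          (fun a b => Subtype.ext (by simp [mul_assoc])))
      map_one' := AddMonoidHom.ext fun a => Subtype.ext (show (1 : G) * ((Additive.toMul a : ↥A) : G) * (1 : G)⁻¹ = ((Additive.toMul a : ↥A) : G) by simp)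
      map_mul' := fun e e' => AddMonoidHom.ext fun a => Subtype.ext
        (show ((e : G) * e') * ((Additive.toMul a : ↥A) : G) * ((e : G) * e')⁻¹ = e * ((e' : G) * ((Additive.toMul a : ↥A) : G) * (e' : G)⁻¹) * (e : G)⁻¹ by group) }
  obtain ⟨zz, hzord⟩ := exists_prime_orderOf_dvd_card' p (G := ↥(Subgroup.center ↥E)) (by rw [hZ])
  have hzp : orderOf (zz : ↥E) = p := by rw [Subgroup.orderOf_coe]; exact hzord
  have hzgen : Subgroup.zpowers (zz : ↥E) = Subgroup.center ↥E :=
    Subgroup.eq_of_le_of_card_ge (Subgroup.zpowers_le.2 zz.2) (by rw [Nat.card_zpowers, hzp, hZ])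
  refine card_bound hpr θ hzp hzgen ?_ ?_ ?_ hmin (w := w) (V := Additive ↥A)
  · intro h
    have hmem : ((zz : ↥E) : G) ∈ E ⊓ Subgroup.centralizer (A : Set G) := by
      refine Subgroup.mem_inf.2 ⟨(zz : ↥E).2, Subgroup.mem_centralizer_iff.2 fun a ha => ?_⟩
      have := congrArg (fun f : AddMonoid.End (Additive ↥A) => ((Additive.toMul (f (Additive.ofMul ⟨a, ha⟩)) : ↥A) : G)) h
      exact (mul_inv_eq_iff_eq_mul.1 this).symm
    rw [hfaith, Subgroup.mem_bot] at hmem
    have hp1 : orderOf (zz : ↥E) = 1 := orderOf_eq_one_iff.2 (Subtype.ext hmem)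
    exact (Fact.out : p.Prime).ne_one (hzp.symm.trans hp1)
  · intro a b
    rw [← hder, commutator_def]
    exact Subgroup.commutator_mem_commutator (Subgroup.mem_top a) (Subgroup.mem_top b)
  · have h := Subgroup.card_eq_card_quotient_mul_card_subgroup (Subgroup.center ↥E)
    rw [hEcard, hZ, pow_succ] at h
    exact (Nat.eq_of_mul_eq_mul_right (Fact.out : p.Prime).pos h).symm

end Cfsg.Agent.S2912
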