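import Cfsg.Statements.S2924
import Cfsg.Agent.Inv.CharTwo

set_option autoImplicit false
open Cfsg

namespace Cfsg.Agent.S2924

/-- Let X be a finite group and Y an elementary abelian 2-subgroup of X of order at least 8 such that C_X(x) has no components (E(C_X(x)) = 1) for every nontrivial x ∈ Y, and F*(C_X(z)) = O₂(C_X(z)) for some nontrivial z ∈ Y. Then the subgroup generated by the cores O(C_X(y)), y ∈ Y nontrivial, has odd order and is normalized by N_X(Y). -/
theorem result {X : Type*} [Group X] [Finite X] (Y : Subgroup X) (hY : Cfsg.IsElementaryAbelian 2 Y) (h8 : 8 ≤ Nat.card ↥Y) (hE : ∀ x ∈ Y, x ≠ 1 → Cfsg.layer ↥(Subgroup.centralizer ({x} : Set X)) = ⊥) (hz : ∃ z ∈ Y, z ≠ 1 ∧ Cfsg.generalizedFittingSubgroup ↥(Subgroup.centralizer ({z} : Set X)) = Cfsg.pCore 2 ↥(Subgroup.centralizer ({z} : Set X))) : Odd (Nat.card ↥(⨆ y : {y : X // y ∈ Y ∧ y ≠ 1}, (Cfsg.oddCore ↥(Subgroup.centralizer ({(y : X)} : Set X))).map (Subgroup.centralizer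 ({(y : X)} : Set X)).subtype)) ∧ Subgroup.normalizer (Y : Set X) ≤ Subgroup.normalizer ((⨆ y : {y : X // y ∈ Y ∧ y ≠ 1}, (Cfsg.oddCore ↥(Subgroup.centralizer ({(y : X)} : Set X))).map (Subgroup.centralizer ({(y : X)} : Set X)).subtype : Subgroup X) : Set X) := by
  classical
  obtain ⟨z, hzY, hz1, hFz⟩ := hz
  obtain ⟨hYc, hYe⟩ := hY
  have hsq : ∀ y ∈ Y, y * y = 1 := fun y hy => by rw [← pow_two]; exact hYe y hy
  have hcom : ∀ a ∈ Y, ∀ b ∈ Y, Commute a b := fun a ha b hb =>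
    congrArg Subtype.val (hYc.is_comm.comm ⟨a, ha⟩ ⟨b, hb⟩)
  have hmemC : ∀ a g : X, g ∈ Subgroup.centralizer ({a} : Set X) ↔ Commute a g := fun a g => by
    rw [Subgroup.mem_centralizer_singleton_iff]; exact ⟨fun e => e.symm, fun e => e.symm⟩
  set θ : X → Subgroup X := fun y =>
    (Cfsg.oddCore ↥(Subgroup.centralizer ({y} : Set X))).map
      (Subgroup.centralizer ({y} : Set X)).subtype with hθ
  have hodd : ∀ a, Odd (Nat.card (θ a)) := fun a => by
    rw [hθ, Subgroup.card_map_of_injective (Subgroup.subtype_injective _)]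
    exact Nat.coprime_two_right.1 (CfsgLib.Fus.coprime_card_pPrimeCore 2)
  have hleC : ∀ a, θ a ≤ Subgroup.centralizer ({a} : Set X) := fun a => Subgroup.map_subtype_le _
  have hnorm : ∀ a g : X, Commute a g → ∀ v ∈ θ a, g * v * g⁻¹ ∈ θ a := by
    rintro a g hg _ ⟨v, hv, rfl⟩
    haveI := CfsgLib.Fus.normal_pPrimeCore (G := Subgroup.centralizer ({a} : Set X)) 2
    exact ⟨_, Subgroup.Normal.conj_mem inferInstance v hv ⟨g, (hmemC a g).2 hg⟩, rfl⟩
  -- step 2: `z` has no fixed points on the cores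
  have hfix : ∀ a ∈ Y, ∀ v ∈ θ a, Commute z v → v = 1 := by
    intro a ha v hv hzv
    set H := Subgroup.centralizer ({z} : Set X) with hH
    have haH : a ∈ H := (hmemC z a).2 (hcom z hzY a ha)
    have hD : (θ a).subgroupOf H = ⊥ := by
      refine CfsgLib.Inv.char2_odd_trivial hFz (a := ⟨a, haH⟩) (Subtype.ext (hsq a ha)) ?_ ?_ ?_
      · exact (hodd a).of_dvd_nat (Subgroup.card_comap_dvd_of_injective _ _ H.subtype_injective)
      · exact fun d hd => Subtype.ext ((hmemC a d).1 (hleC a hd)).eq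
      · exact fun q _ hqa d hd => hnorm a q (congrArg Subtype.val hqa.eq) d hd
    have h1 : (⟨v, (hmemC z v).2 hzv⟩ : H) ∈ (θ a).subgroupOf H := hv
    rw [hD, Subgroup.mem_bot] at h1
    exact congrArg Subtype.val h1
  -- step 3
  have hinv : ∀ a ∈ Y, ∀ v ∈ θ a, z * v * z⁻¹ = v⁻¹ := fun a ha =>
    CfsgLib.Inv.inverted_of_no_fixed (hodd a) (hsq z hzY)
      (fun v hv => hnorm a z (hcom a ha z hzY) v hv) (hfix a ha)
  have habel : ∀ a ∈ Y, ∀ u ∈ θ a, ∀ v ∈ θ a, u * v = v * u := by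
    intro a ha u hu v hv
    have h1 := hinv a ha (u * v) (mul_mem hu hv)
    rw [mul_inv_rev, ← conj_mul, hinv a ha u hu, hinv a ha v hv] at h1
    calc u * v = (v⁻¹ * u⁻¹)⁻¹ := by group
      _ = (u⁻¹ * v⁻¹)⁻¹ := by rw [h1]
      _ = v * u := by group
  -- step 4: balance
  have hbal : ∀ a ∈ Y, ∀ b ∈ Y, b ≠ 1 → ∀ v ∈ θ a, Commute b v → v ∈ θ b := by
    intro a ha b hb hb1 v hv hbv
    set C := Subgroup.centralizer ({b} : Set X) with hC
    have haC : a ∈ C := (hmemC b a).2 (hcom b hb a ha)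
    have hzC : z ∈ C := (hmemC b z).2 (hcom b hb z hzY)
    set W := Cfsg.pPrimeCore 2 C with hW
    haveI := CfsgLib.Fus.normal_pPrimeCore (G := C) 2
    have hWodd : Odd (Nat.card W) := Nat.coprime_two_right.1 (CfsgLib.Fus.coprime_card_pPrimeCore 2)
    have hEz : Cfsg.layer ↥(Subgroup.centralizer ({(⟨z, hzC⟩ : C)} : Set C)) = ⊥ := by
      rw [CfsgLib.Inv.layer_eq_bot_iff]
      intro K hK
      set H := Subgroup.centralizer ({z} : Set X)
      have hbH : b ∈ H := (hmemC z b).2 (hcom z hzY b hb)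
      let e : ↥(Subgroup.centralizer ({(⟨z, hzC⟩ : C)} : Set C)) ≃*
          ↥(Subgroup.centralizer ({(⟨b, hbH⟩ : H)} : Set H)) :=
        { toFun := fun x => ⟨⟨x.1.1, (hmemC z _).2
              (congrArg Subtype.val (Subgroup.mem_centralizer_singleton_iff.1 x.2)).symm⟩,
            Subgroup.mem_centralizer_singleton_iff.2
              (Subtype.ext ((hmemC b _).1 x.1.2).eq.symm)⟩
          invFun := fun x => ⟨⟨x.1.1, (hmemC b _).2
              (congrArg Subtype.val (Subgroup.mem_centralizer_singleton_iff.1 x.2)).symm⟩,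
            Subgroup.mem_centralizer_singleton_iff.2
              (Subtype.ext ((hmemC z _).1 x.1.2).eq.symm)⟩
          left_inv := fun _ => rfl
          right_inv := fun _ => rfl
          map_mul' := fun _ _ => rfl }
      exact CfsgLib.Inv.char2_centralizer_no_component hFz (Subtype.ext (hsq b hb)) _
        (CfsgLib.Inv.isComponent_map e hK)
    have hE' : Cfsg.layer (↥C ⧸ W) = ⊥ :=
      CfsgLib.Inv.layer_quotient_eq_bot (z := (⟨z, hzC⟩ : C)) (Subtype.ext (hsq z hzY))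
        (fun w hw => Subtype.ext (hinv b hb w ⟨w, hw, rfl⟩)) (hE b hb hb1) hEz
    have hF : Cfsg.generalizedFittingSubgroup (↥C ⧸ W) = Cfsg.pCore 2 (↥C ⧸ W) :=
      CfsgLib.Inv.genFitting_eq_pCore_two hE' (CfsgLib.Fus.pPrimeCore_quotient_eq_bot 2)
    have hD : ((θ a).subgroupOf C).map (QuotientGroup.mk' W) = ⊥ := by
      refine CfsgLib.Inv.char2_odd_trivial hF (a := QuotientGroup.mk' W ⟨a, haC⟩) ?_ ?_ ?_ ?_
      · rw [← map_mul, show (⟨a, haC⟩ : C) * ⟨a, haC⟩ = 1 from Subtype.ext (hsq a ha), map_one]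
      · exact ((hodd a).of_dvd_nat (Subgroup.card_comap_dvd_of_injective _ _ C.subtype_injective)).of_dvd_nat
          (Subgroup.card_map_dvd _ _)
      · rintro _ ⟨d, hd, rfl⟩
        exact Commute.map (Subtype.ext ((hmemC a d).1 (hleC a hd)).eq) (QuotientGroup.mk' W)
      · intro q _ hqa d' hd'
        obtain ⟨d, hd, rfl⟩ := hd'
        obtain ⟨g, rfl⟩ := QuotientGroup.mk_surjective q
        have hm : g * ⟨a, haC⟩ * g⁻¹ * (⟨a, haC⟩ : C)⁻¹ ∈ W := by
          rw [← QuotientGroup.eq_one_iff]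
          simp only [QuotientGroup.mk_mul, QuotientGroup.mk_inv]
          simp only [QuotientGroup.mk'_apply] at hqa
          rw [← hqa.eq]; group
        obtain ⟨u, hu, hcu⟩ := CfsgLib.Inv.lift_centralizer W hWodd
          (Subtype.ext (hsq a ha) : (⟨a, haC⟩ : C) * ⟨a, haC⟩ = 1) hm
        refine ⟨(u⁻¹ * g) * d * (u⁻¹ * g)⁻¹,
          hnorm a (((u⁻¹ * g : C) : X)) (congrArg Subtype.val hcu.eq) d hd, ?_⟩
        simp [(QuotientGroup.eq_one_iff u).2 hu]
    have h1 : QuotientGroup.mk' W ⟨v, (hmemC b v).2 hbv⟩ = 1 := by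
      rw [← Subgroup.mem_bot, ← hD]
      exact Subgroup.mem_map_of_mem _ hv
    exact ⟨_, (QuotientGroup.eq_one_iff _).1 h1, rfl⟩
  -- step 6: generation by eigenvectors
  set E : Set X := {x | (∃ a ∈ Y, a ≠ 1 ∧ x ∈ θ a) ∧
    ∀ y ∈ Y, y * x * y⁻¹ = x ∨ y * x * y⁻¹ = x⁻¹} with hEdef
  have hgen : ∀ (S : Finset Y) (a : X), a ∈ Y → ∀ x ∈ θ a,
      x ∈ Subgroup.closure {v | v ∈ θ a ∧ ∀ y ∈ S, (y : X) * v * (y : X)⁻¹ = v ∨
        (y : X) * v * (y : X)⁻¹ = v⁻¹} := by
    intro S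
    induction S using Finset.induction with
    | empty => exact fun a _ x hx => Subgroup.subset_closure ⟨hx, by simp⟩
    | insert y S _ ih =>
      intro a ha x hx
      refine (Subgroup.closure_le _).2 ?_ (ih a ha x hx)
      rintro v ⟨hv, hvS⟩
      rw [SetLike.mem_coe]
      set T := {v | v ∈ θ a ∧ ∀ y' ∈ insert y S, (y' : X) * v * (y' : X)⁻¹ = v ∨
        (y' : X) * v * (y' : X)⁻¹ = v⁻¹}
      set vy := (y : X) * v * (y : X)⁻¹ with hvy
      have hvy' : vy ∈ θ a := hnorm a y (hcom a ha y y.2) v hv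
      have hyy : (y : X) * vy * (y : X)⁻¹ = v := by
        calc (y : X) * vy * (y : X)⁻¹ = ((y : X) * y) * v * ((y : X) * y)⁻¹ := by rw [hvy]; group
          _ = v := by rw [hsq y y.2]; group
      have hcomm : ∀ u ∈ θ a, ∀ w ∈ θ a, (u * w)⁻¹ = u⁻¹ * w⁻¹ := fun u hu w hw => by
        rw [mul_inv_rev, habel a ha _ (inv_mem hw) _ (inv_mem hu)]
      have hswap : ∀ y' : Y, (y' : X) * vy * (y' : X)⁻¹ =
          (y : X) * ((y' : X) * v * (y' : X)⁻¹) * (y : X)⁻¹ := fun y' => by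
        calc (y' : X) * vy * (y' : X)⁻¹ = ((y' : X) * y) * v * ((y' : X) * y)⁻¹ := by rw [hvy]; group
          _ = _ := by rw [(hcom y' y'.2 y y.2).eq]; group
      have h1 : v * vy ∈ T := by
        refine ⟨mul_mem hv hvy', fun y' hy' => ?_⟩
        rw [← conj_mul]
        rcases Finset.mem_insert.1 hy' with rfl | hy'
        · exact .inl (by rw [hyy, ← hvy, habel a ha _ hvy' _ hv])
        · rw [hswap y']
          rcases hvS y' hy' with e | e <;> rw [e]
          · exact .inl (by rw [← hvy])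
          · exact .inr (by rw [← conj_inv, ← hvy, hcomm v hv vy hvy'])
      have h2 : v * vy⁻¹ ∈ T := by
        refine ⟨mul_mem hv (inv_mem hvy'), fun y' hy' => ?_⟩
        rw [← conj_mul, ← conj_inv]
        rcases Finset.mem_insert.1 hy' with rfl | hy'
        · exact .inr (by rw [hyy, ← hvy, mul_inv_rev, inv_inv])
        · rw [hswap y']
          rcases hvS y' hy' with e | e <;> rw [e]
          · exact .inl (by rw [← hvy])
          · exact .inr (by rw [← conj_inv, ← hvy, hcomm v hv vy⁻¹ (inv_mem hvy')])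
      have h3 : v * v ∈ Subgroup.closure T := by
        have e : v * v = (v * vy) * (v * vy⁻¹) := by
          calc v * v = v * (v * vy) * vy⁻¹ := by group
            _ = v * (vy * v) * vy⁻¹ := by rw [habel a ha v hv vy hvy']
            _ = (v * vy) * (v * vy⁻¹) := by group
        rw [e]
        exact mul_mem (Subgroup.subset_closure h1) (Subgroup.subset_closure h2)
      obtain ⟨m, hm⟩ := CfsgLib.Inv.odd_orderOf_of_mem (hodd a) hv
      have h4 := pow_mem h3 (m + 1)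
      rwa [← pow_two, ← pow_mul, show 2 * (m + 1) = (2 * m + 1) + 1 by ring, ← hm, pow_succ,
        pow_orderOf_eq_one, one_mul] at h4
  haveI := Fintype.ofFinite Y
  have hW : (⨆ y : {y : X // y ∈ Y ∧ y ≠ 1}, θ y) = Subgroup.closure E := by
    refine le_antisymm (iSup_le fun y => ?_) ((Subgroup.closure_le _).2 ?_)
    · intro x hx
      refine Subgroup.closure_mono ?_ (hgen Finset.univ y y.2.1 x hx)
      intro v hv
      exact ⟨⟨y, y.2.1, y.2.2, hv.1⟩, fun y' hy' => hv.2 ⟨y', hy'⟩ (Finset.mem_univ _)⟩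
    · rintro x ⟨⟨a, ha, ha1, hx⟩, -⟩
      exact le_iSup (fun y : {y : X // y ∈ Y ∧ y ≠ 1} => θ y) ⟨a, ha, ha1⟩ hx
  have hEcomm : ∀ u ∈ E, ∀ v ∈ E, u * v = v * u := by
    rintro u ⟨⟨a, ha, -, hu⟩, hu'⟩ v ⟨⟨a', ha', -, hv⟩, hv'⟩
    obtain ⟨c, hc, hc1, hcu, hcv⟩ : ∃ c ∈ Y, c ≠ 1 ∧ Commute c u ∧ Commute c v := by
      have hlt : Fintype.card (Prop × Prop) < Fintype.card Y := by
        rw [Fintype.card_prod, Fintype.card_prop, ← Nat.card_eq_fintype_card]; omega
      obtain ⟨y₁, y₂, hne, he⟩ := Fintype.exists_ne_map_eq_of_card_lt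
        (fun y : Y => (((y : X) * u * (y : X)⁻¹ = u), ((y : X) * v * (y : X)⁻¹ = v))) hlt
      have key : ∀ x : X, (∀ y ∈ Y, y * x * y⁻¹ = x ∨ y * x * y⁻¹ = x⁻¹) →
          (((y₁ : X) * x * (y₁ : X)⁻¹ = x) = ((y₂ : X) * x * (y₂ : X)⁻¹ = x)) →
          Commute ((y₁ : X)⁻¹ * y₂) x := by
        intro x hx hiff
        have h : (y₁ : X) * x * (y₁ : X)⁻¹ = (y₂ : X) * x * (y₂ : X)⁻¹ := by
          rcases hx y₁ y₁.2 with e | e
          · rw [e, (hiff ▸ e : (y₂ : X) * x * (y₂ : X)⁻¹ = x)]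
          · rcases hx y₂ y₂.2 with e' | e'
            · rw [e', (hiff.symm ▸ e' : (y₁ : X) * x * (y₁ : X)⁻¹ = x)]
            · rw [e, e']
        show (y₁ : X)⁻¹ * y₂ * x = x * ((y₁ : X)⁻¹ * y₂)
        calc (y₁ : X)⁻¹ * y₂ * x = (y₁ : X)⁻¹ * ((y₂ : X) * x * (y₂ : X)⁻¹) * y₂ := by group
          _ = x * ((y₁ : X)⁻¹ * y₂) := by rw [← h]; group
      refine ⟨(y₁ : X)⁻¹ * y₂, mul_mem (inv_mem y₁.2) y₂.2, ?_, key u hu' (Prod.ext_iff.1 he).1,
        key v hv' (Prod.ext_iff.1 he).2⟩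
      intro h
      exact hne (Subtype.ext (inv_mul_eq_one.1 h))
    exact habel c hc u (hbal a ha c hc hc1 u hu hcu) v (hbal a' ha' c hc hc1 v hv hcv)
  have hconj : ∀ g : X, g ∈ Subgroup.normalizer (Y : Set X) → ∀ x ∈ ⨆ y : {y : X // y ∈ Y ∧ y ≠ 1}, θ y,
      g * x * g⁻¹ ∈ ⨆ y : {y : X // y ∈ Y ∧ y ≠ 1}, θ y := by
    intro g hg x hx
    refine Subgroup.iSup_induction (C := fun x => g * x * g⁻¹ ∈
      ⨆ y : {y : X // y ∈ Y ∧ y ≠ 1}, θ y) _ hx ?_ (by simp) ?_
    · rintro ⟨y, hy, hy1⟩ v hv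
      have hgy : g * y * g⁻¹ ∈ Y := (Subgroup.mem_normalizer_iff.1 hg y).1 hy
      refine Subgroup.mem_iSup_of_mem (⟨g * y * g⁻¹, hgy, fun h => hy1 (by simpa using h)⟩ :
        {y : X // y ∈ Y ∧ y ≠ 1}) ?_
      obtain ⟨w, hw, rfl⟩ := hv
      let e : ↥(Subgroup.centralizer ({y} : Set X)) ≃* ↥(Subgroup.centralizer ({g * y * g⁻¹} : Set X)) :=
        ((MulAut.conj g).subgroupMap _).trans (MulEquiv.subgroupCongr (by
          ext x
          constructor
          · rintro ⟨c, hc, rfl⟩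
            exact (hmemC _ _).2 (Commute.map ((hmemC y c).1 hc) (MulAut.conj g).toMonoidHom)
          · intro hx
            refine ⟨g⁻¹ * x * g, (hmemC _ _).2 ?_, by simp [mul_assoc]⟩
            have := Commute.map ((hmemC _ x).1 hx) (MulAut.conj g⁻¹).toMonoidHom
            simpa [mul_assoc] using this))
      exact ⟨e w, CfsgLib.Fus.map_pPrimeCore_mulEquiv 2 e (Subgroup.mem_map_of_mem _ hw), rfl⟩
    · intro a b ha hb
      rw [← conj_mul]; exact mul_mem ha hb
  refine ⟨?_, fun g hg => ?_⟩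
  · show Odd (Nat.card ↥(⨆ y : {y : X // y ∈ Y ∧ y ≠ 1}, θ y))
    rw [hW, ← Nat.not_even_iff_odd, even_iff_two_dvd]
    intro h2
    haveI := Fact.mk Nat.prime_two
    obtain ⟨x, hx⟩ := exists_prime_orderOf_dvd_card' 2 h2
    haveI := Subgroup.isMulCommutative_closure hEcomm
    have hall : ∀ w : X, w ∈ Subgroup.closure E → Odd (orderOf w) := by
      intro w hw
      induction hw using Subgroup.closure_induction with
      | mem u hu => obtain ⟨⟨a, -, -, hua⟩, -⟩ := hu; exact CfsgLib.Inv.odd_orderOf_of_mem (hodd a) hua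
      | one => simp
      | mul u v hu hv iu iv =>
        have hc : Commute u v := congrArg Subtype.val (this.is_comm.comm (⟨u, hu⟩ : Subgroup.closure E) ⟨v, hv⟩)
        exact (iu.mul iv).of_dvd_nat hc.orderOf_mul_dvd_mul_orderOf
      | inv u _ iu => rwa [orderOf_inv]
    have := hall x x.2
    rw [Subgroup.orderOf_coe, hx] at this
    exact absurd this (by decide)
  · show g ∈ Subgroup.normalizer ((⨆ y : {y : X // y ∈ Y ∧ y ≠ 1}, θ y : Subgroup X) : Set X)
    rw [Subgroup.mem_normalizer_iff]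
    refine fun x => ⟨hconj g hg x, fun hx => ?_⟩
    have := hconj g⁻¹ (inv_mem hg) _ hx
    simpa [mul_assoc] using this

end Cfsg.Agent.S2924
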