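import Cfsg.Statements.S2925
import Cfsg.Agent.Inv.Component
import Cfsg.Agent.Inv.CharPLocal

set_option autoImplicit false
open Cfsg

namespace Cfsg.Agent.S2925

/-- Let K be a component of the finite group X and T a Sylow 2-subgroup of X. If some abelian normal subgroup Y of T does not normalize K, then K ⧸ Z(K) has abelian Sylow 2-subgroups. -/
theorem result {X : Type*} [Group X] [Finite X] (K : Subgroup X) (hK : Cfsg.IsComponent K) (T : Sylow 2 X) (Y : Subgroup X) (hYT : Y ≤ (T : Subgroup X)) (hYn : (Y.subgroupOf (T : Subgroup X)).Normal) (hYab : IsMulCommutative ↥Y) (hnot : ¬ Y ≤ Subgroup.normalizer (K : Set X)) (P : Sylow 2 (↥K ⧸ Subgroup.center ↥K)) : IsMulCommutative ↥(P : Subgroup (↥K ⧸ Subgroup.center ↥K)) := by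
  haveI : Fact (Nat.Prime 2) := ⟨Nat.prime_two⟩
  obtain ⟨y, hy, hyN⟩ := SetLike.not_le_iff_exists.1 hnot
  set K' := K.map (MulAut.conj y).toMonoidHom with hK'
  have hne : K ≠ K' := fun e => hyN (Subgroup.mem_normalizer_iff_map_conj_eq.2 e.symm)
  have hcomm : ∀ a ∈ K, ∀ b ∈ K', a * b = b * a := fun a ha b hb =>
    commutatorElement_eq_one_iff_mul_comm.1 (Subgroup.mem_bot.1
      ((CfsgLib.Inv.components_commute hK (CfsgLib.Inv.isComponent_conj hK y) hne) ▸
        Subgroup.commutator_mem_commutator ha hb))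
  have hTY : (T : Subgroup X) ≤ Subgroup.normalizer (Y : Set X) :=
    (Subgroup.normal_subgroupOf_iff_le_normalizer hYT).1 hYn
  obtain ⟨P0, hP0⟩ := CfsgLib.Inv.sylow_subnormal T hK.1
  let π := QuotientGroup.mk' (Subgroup.center ↥K)
  have key : ∀ s ∈ (P0 : Subgroup ↥K), ∀ t ∈ (P0 : Subgroup ↥K), π s * π t = π t * π s := by
    intro s hs t ht
    have hmem : ∀ u ∈ (P0 : Subgroup ↥K), (u : X) * (y * (u : X)⁻¹ * y⁻¹) ∈ Y := fun u hu => by
      have huT : (u : X) ∈ (T : Subgroup X) := (Subgroup.mem_inf.1 (hP0 ▸ Subgroup.mem_map_of_mem _ hu)).1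
      convert mul_mem ((Subgroup.mem_normalizer_iff.1 (hTY huT) y).1 hy) (inv_mem hy) using 1
      group
    set s' := y * (s : X)⁻¹ * y⁻¹ with hs'
    set t' := y * (t : X)⁻¹ * y⁻¹ with ht'
    have hs'K : s' ∈ K' := ⟨(s : X)⁻¹, inv_mem s.2, rfl⟩
    have ht'K : t' ∈ K' := ⟨(t : X)⁻¹, inv_mem t.2, rfl⟩
    haveI := hYab
    have e : (t : X) * t' * (s * s') = s * s' * (t * t') :=
      congrArg Subtype.val (mul_comm' (⟨_, hmem t ht⟩ : Y) ⟨_, hmem s hs⟩)
    have e1 : ((t : X) * s) * (t' * s') = (s * t) * (s' * t') :=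
      calc ((t : X) * s) * (t' * s') = t * (s * t') * s' := by group
        _ = (t : X) * t' * (s * s') := by rw [hcomm _ s.2 _ ht'K]; group
        _ = (s : X) * s' * (t * t') := e
        _ = (s : X) * (s' * t) * t' := by group
        _ = _ := by rw [← hcomm _ t.2 _ hs'K]; group
    have e2 : ((s : X) * t)⁻¹ * (t * s) = (s' * t') * (t' * s')⁻¹ :=
      calc ((s : X) * t)⁻¹ * (t * s) = ((s : X) * t)⁻¹ * (((t : X) * s) * (t' * s')) * (t' * s')⁻¹ := by group
        _ = _ := by rw [e1]; group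
    rw [← map_mul, ← map_mul]
    refine QuotientGroup.eq.2 (Subgroup.mem_center_iff.2 fun k => Subtype.ext ?_)
    simp only [Subgroup.coe_mul, Subgroup.coe_inv]
    rw [e2]
    exact hcomm _ k.2 _ (mul_mem (mul_mem hs'K ht'K) (inv_mem (mul_mem ht'K hs'K)))
  let Q : Sylow 2 (↥K ⧸ Subgroup.center ↥K) := P0.mapSurjective (f := π) (QuotientGroup.mk'_surjective _)
  obtain ⟨g, hg⟩ := MulAction.exists_smul_eq (↥K ⧸ Subgroup.center ↥K) Q P
  refine ⟨⟨fun ⟨a, ha⟩ ⟨b, hb⟩ => Subtype.ext ?_⟩⟩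
  rw [← hg, Sylow.coe_subgroup_smul] at ha hb
  obtain ⟨_, ⟨s, hs, rfl⟩, rfl⟩ := ha
  obtain ⟨_, ⟨t, ht, rfl⟩, rfl⟩ := hb
  show MulAut.conj g (π s) * MulAut.conj g (π t) = MulAut.conj g (π t) * MulAut.conj g (π s)
  rw [← map_mul (MulAut.conj g), ← map_mul (MulAut.conj g), key s hs t ht]

end Cfsg.Agent.S2925
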