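import Cfsg.Statements.S2929
import Cfsg.Agent.Inv.ThreeCycles

set_option autoImplicit false
open Cfsg

namespace Cfsg.Agent.S2929

open CfsgLib.Inv CfsgLib.Inv.ThreeCycles Equiv
open scoped commutatorElement

/-- a family of disjoint 3-cycles in a conjugate of the Sylow 3-subgroup covers all but two points -/
theorem exists_cover {n : ℕ} (P : Sylow 3 (Perm (Fin n))) (H : Subgroup (Perm (Fin n)))
    (hP : (P : Subgroup (Perm (Fin n))) ≤ H) : ∃ U : Finset (Fin n), n ≤ U.card + 2 ∧
      ∀ a ∈ U, ∃ b c, a ≠ b ∧ b ≠ c ∧ a ≠ c ∧ cyc a b c ∈ H := by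
  classical
  let T : Set (Perm (Fin n)) := {σ | ∃ a b c : Fin n, ∃ i : ℕ, a.val = 3 * i ∧ b.val = 3 * i + 1 ∧ c.val = 3 * i + 2 ∧ σ = cyc a b c}
  have hcomm : ∀ x ∈ T, ∀ y ∈ T, x * y = y * x := by
    rintro x ⟨a, b, c, i, ha, hb, hc, rfl⟩ y ⟨a', b', c', j, ha', hb', hc', rfl⟩
    by_cases hij : i = j
    · subst hij
      rw [Fin.ext (ha.trans ha'.symm), Fin.ext (hb.trans hb'.symm), Fin.ext (hc.trans hc'.symm)]
    refine (Perm.Disjoint.commute fun z => ?_).eq
    by_cases hz : z = a ∨ z = b ∨ z = c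
    · right
      refine cyc_apply_other ?_ ?_ ?_ <;>
      · intro e
        subst e
        rcases hz with rfl | rfl | rfl <;> omega
    · push Not at hz
      exact Or.inl (cyc_apply_other hz.1 hz.2.1 hz.2.2)
  have hT : IsPGroup 3 ↥(Subgroup.closure T) := by
    intro g
    refine ⟨1, Subtype.ext ?_⟩
    have key : ∀ x ∈ Subgroup.closure T, x ^ 3 = 1 := by
      intro x hx
      haveI := Subgroup.isMulCommutative_closure hcomm
      induction hx using Subgroup.closure_induction with
      | mem w hw =>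
        obtain ⟨a, b, c, i, ha, hb, hc, rfl⟩ := hw
        exact cyc_pow_three (fun e => by subst e; omega) (fun e => by subst e; omega) (fun e => by subst e; omega)
      | one => exact one_pow _
      | mul u v hu hv hu' hv' =>
        have hc : Commute u v := congrArg Subtype.val (IsMulCommutative.is_comm.comm
          (⟨u, hu⟩ : ↥(Subgroup.closure T)) ⟨v, hv⟩)
        rw [hc.mul_pow, hu', hv', one_mul]
      | inv u _ hu' => rw [inv_pow, hu', inv_one]
    rw [Subgroup.coe_pow, pow_one]
    exact key g g.2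
  obtain ⟨Q, hQ⟩ := hT.exists_le_sylow
  obtain ⟨g, hg⟩ := MulAction.exists_smul_eq (Perm (Fin n)) Q P
  refine ⟨((Finset.univ : Finset (Fin n)).filter fun x => x.val < 3 * (n / 3)).image g, ?_, ?_⟩
  · rw [Finset.card_image_of_injective _ g.injective]
    have : ((Finset.univ : Finset (Fin n)).filter fun x => x.val < 3 * (n / 3)).card = 3 * (n / 3) := by
      rw [Fin.card_filter_val_lt]
      omega
    omega
  · intro a ha
    obtain ⟨x, hx, rfl⟩ := Finset.mem_image.1 ha
    rw [Finset.mem_filter] at hx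
    obtain ⟨i, hi⟩ : ∃ i, i = x.val / 3 := ⟨_, rfl⟩
    obtain ⟨p, hp⟩ : ∃ p : Fin n, p.val = 3 * i := ⟨⟨3 * i, by omega⟩, rfl⟩
    obtain ⟨q, hq⟩ : ∃ q : Fin n, q.val = 3 * i + 1 := ⟨⟨3 * i + 1, by omega⟩, rfl⟩
    obtain ⟨r, hr⟩ : ∃ r : Fin n, r.val = 3 * i + 2 := ⟨⟨3 * i + 2, by omega⟩, rfl⟩
    have hpq : p ≠ q := fun e => by subst e; omega
    have hqr : q ≠ r := fun e => by subst e; omega
    have hpr : p ≠ r := fun e => by subst e; omega
    have hmem : g * cyc p q r * g⁻¹ ∈ H := by
      refine hP ?_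
      rw [← hg, Sylow.coe_subgroup_smul]
      exact ⟨cyc p q r, hQ (Subgroup.subset_closure ⟨p, q, r, i, hp, hq, hr, rfl⟩), rfl⟩
    rw [cyc_conj] at hmem
    have ne : ∀ {u v : Fin n}, u ≠ v → g u ≠ g v := fun h e => h (g.injective e)
    have hx3 : x.val = 3 * i ∨ x.val = 3 * i + 1 ∨ x.val = 3 * i + 2 := by omega
    rcases hx3 with h | h | h
    · rw [show x = p from Fin.ext (h.trans hp.symm)]
      exact ⟨g q, g r, ne hpq, ne hqr, ne hpr, hmem⟩
    · rw [show x = q from Fin.ext (h.trans hq.symm)]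
      refine ⟨g r, g p, ne hqr, ne hpr.symm, ne hpq.symm, ?_⟩
      rwa [cyc_rot (ne hpq) (ne hqr) (ne hpr)]
    · rw [show x = r from Fin.ext (h.trans hr.symm)]
      refine ⟨g p, g q, ne hpr.symm, ne hpq, ne hqr.symm, ?_⟩
      rwa [cyc_rot (ne hqr) (ne hpr.symm) (ne hpq.symm), cyc_rot (ne hpq) (ne hqr) (ne hpr)]

/-- the core: some block of size at least five covers all 3-cycles -/
theorem core {n : ℕ} (hn : 5 ≤ n) (H : Subgroup (Perm (Fin n)))
    (hF : Cfsg.IsQuasisimple ↥(Cfsg.generalizedFittingSubgroup ↥H)) (U : Finset (Fin n)) (hU : n ≤ U.card + 2)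
    (hUc : ∀ a ∈ U, ∃ b c, a ≠ b ∧ b ≠ c ∧ a ≠ c ∧ cyc a b c ∈ H) :
    ∃ Ω : Finset (Fin n), n ≤ Ω.card + 2 ∧
      Nonempty (↥(Cfsg.generalizedFittingSubgroup ↥H) ≃* ↥(alternatingGroup {x // x ∈ Ω})) := by
  classical
  obtain ⟨L, hL⟩ : ∃ L : Subgroup ↥H, L = Cfsg.generalizedFittingSubgroup ↥H := ⟨_, rfl⟩
  rw [← hL] at hF ⊢
  haveI hLn : L.Normal := hL ▸ genFitting_normal
  have hCL : Subgroup.centralizer (L : Set ↥H) ≤ L := hL ▸ centralizer_genFitting_le
  haveI := quasisimple_nontrivial hF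
  have hperf : ∀ {X : Type} [Group X] (f : ↥L →* X) (hab : ∀ u v, f u * f v = f v * f u) (u : ↥L), f u = 1 := by
    intro X _ f hab u
    have hle : commutator ↥L ≤ f.ker := by
      rw [commutator_def, Subgroup.commutator_le]
      intro a _ b _
      rw [MonoidHom.mem_ker, map_commutatorElement, commutatorElement_eq_one_iff_mul_comm]
      exact hab a b
    exact hle (by rw [hF.1.commutator_eq_top]; exact Subgroup.mem_top u)
  by_cases h5 : ∃ Ω, Block H Ω ∧ 5 ≤ Ω.card
  · obtain ⟨Ω, hΩ, h5⟩ := h5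
    obtain ⟨A, hA⟩ : ∃ A : Subgroup ↥H, A =
        ((alternatingGroup {x // x ∈ Ω}).map (Perm.ofSubtype : Perm {x // x ∈ Ω} →* Perm (Fin n))).subgroupOf H :=
      ⟨_, rfl⟩
    have hAe : Nonempty (↥A ≃* ↥(alternatingGroup {x // x ∈ Ω})) := ⟨hA ▸ (Subgroup.subgroupOfEquivOfLe
      (alt_le_of_good hΩ.2.1)).trans (Subgroup.equivMapOfInjective _ _ Perm.ofSubtype_injective).symm⟩
    obtain ⟨e⟩ := hAe
    haveI : IsSimpleGroup ↥(alternatingGroup {x // x ∈ Ω}) := alternatingGroup.isSimpleGroup (by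
      rw [Nat.card_eq_fintype_card, Fintype.card_coe]; exact h5)
    haveI : Nontrivial ↥A := e.toEquiv.nontrivial
    haveI : IsSimpleGroup ↥A := IsSimpleGroup.isSimpleGroup_of_surjective e.symm.toMonoidHom e.symm.surjective
    have hAmem : ∀ {w : ↥H}, w ∈ A → ∀ y, y ∉ Ω → (w : Perm (Fin n)) y = y := by
      intro w hw y hy
      rw [hA, Subgroup.mem_subgroupOf] at hw
      obtain ⟨s, -, hs⟩ := hw
      rw [← hs]
      exact Perm.ofSubtype_apply_of_not_mem s hy
    have hAconj : ∀ (g : ↥H), Ω.image (g : Perm (Fin n)) = Ω → ∀ w ∈ A, g * w * g⁻¹ ∈ A := by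
      intro g hg w hw
      have hle : (alternatingGroup {x // x ∈ Ω}).map (Perm.ofSubtype : Perm {x // x ∈ Ω} →* Perm (Fin n)) ≤
          ((alternatingGroup {x // x ∈ Ω}).map (Perm.ofSubtype : Perm {x // x ∈ Ω} →* Perm (Fin n))).comap
            (MulAut.conj (g : Perm (Fin n))).toMonoidHom := by
        conv_lhs => rw [← Perm.closure_three_cycles_eq_alternating, MonoidHom.map_closure]
        rw [Subgroup.closure_le]
        rintro _ ⟨s, hs, rfl⟩
        obtain ⟨a, b, c, hab, hbc, hac, rfl⟩ := exists_cyc (show s.IsThreeCycle from hs)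
        rw [cyc, map_mul, Perm.ofSubtype_swap_eq, Perm.ofSubtype_swap_eq, SetLike.mem_coe, Subgroup.mem_comap]
        show (g : Perm (Fin n)) * cyc (a : Fin n) b c * (g : Perm (Fin n))⁻¹ ∈ _
        rw [cyc_conj]
        have hm : ∀ z : {x // x ∈ Ω}, (g : Perm (Fin n)) z ∈ Ω := fun z => by
          have := Finset.mem_image_of_mem (g : Perm (Fin n)) z.2
          rwa [hg] at this
        refine ⟨cyc ⟨_, hm a⟩ ⟨_, hm b⟩ ⟨_, hm c⟩, ?_, ?_⟩
        · rw [SetLike.mem_coe, Perm.mem_alternatingGroup, cyc, map_mul,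
            Perm.sign_swap (fun e => hab (Subtype.ext ((g : Perm (Fin n)).injective (congrArg Subtype.val e)))),
            Perm.sign_swap (fun e => hbc (Subtype.ext ((g : Perm (Fin n)).injective (congrArg Subtype.val e))))]
          decide
        · rw [cyc, map_mul, Perm.ofSubtype_swap_eq, Perm.ofSubtype_swap_eq]
          rfl
      rw [hA, Subgroup.mem_subgroupOf] at hw ⊢
      exact hle hw
    have hAsub : A.IsSubnormal := by
      let K := Subgroup.normalClosure (A : Set ↥H)
      refine Subgroup.IsSubnormal.step A K Subgroup.le_normalClosure (Subgroup.Normal.isSubnormal (H := K) inferInstance) ?_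
      refine (Subgroup.normal_subgroupOf_iff_le_normalizer Subgroup.le_normalClosure).2 ?_
      refine Subgroup.closure_le _ |>.2 ?_
      intro w hw
      obtain ⟨w₀, hw₀, hc⟩ := Group.mem_conjugatesOfSet_iff.1 hw
      obtain ⟨h, rfl⟩ := isConj_iff.1 hc
      have hw' : ∀ (v : ↥H), v ∈ A → h * v * h⁻¹ ∈ A.map (MulAut.conj h).toMonoidHom := fun v hv => ⟨v, hv, rfl⟩
      by_cases hh : Ω.image (h : Perm (Fin n)) = Ω
      · exact Subgroup.le_normalizer (hAconj h hh w₀ hw₀)
      · refine Subgroup.centralizer_le_normalizer _ (Subgroup.mem_centralizer_iff.2 fun v hv => Subtype.ext ?_)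
        refine (Perm.Disjoint.commute fun y => ?_).eq
        by_cases hy : y ∈ Ω
        · right
          have hy' : (h : Perm (Fin n))⁻¹ y ∉ Ω := fun hy2 => hh (block_eq (block_image hΩ h.2) hΩ
            (Finset.mem_image.2 ⟨_, hy2, by simp⟩) hy)
          show (h : Perm (Fin n)) ((w₀ : Perm (Fin n)) ((h : Perm (Fin n))⁻¹ y)) = y
          rw [hAmem hw₀ _ hy']
          simp
        · exact Or.inl (hAmem hv y hy)
    have hAL : A ≤ L := by
      rw [hL]
      refine le_trans (component_le_layer ⟨hAsub, ?_⟩) layer_le_genFitting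
      have hc : Subgroup.center ↥A = ⊥ := by
        refine ((inferInstance : (Subgroup.center ↥A).Normal).eq_bot_or_eq_top).resolve_right fun h => ?_
        have h2 : IsMulCommutative ↥A := ⟨⟨fun u v => (Subgroup.mem_center_iff.1 (h ▸ Subgroup.mem_top v) u)⟩⟩
        haveI : IsMulCommutative ↥(alternatingGroup {x // x ∈ Ω}) := ⟨⟨fun u v => e.symm.injective (by
          rw [map_mul, map_mul, h2.is_comm.comm])⟩⟩
        obtain ⟨a, b, c, ha, hb, hc, hab, hac, hbc⟩ := Finset.two_lt_card_iff.1
          (show 2 < (Finset.univ : Finset {x // x ∈ Ω}).card by rw [Finset.card_univ, Fintype.card_coe]; omega)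
        obtain ⟨d, hd⟩ : ∃ d : {x // x ∈ Ω}, d ∉ ({a, b, c} : Finset {x // x ∈ Ω}) := by
          refine Finset.exists_of_ssubset (lt_of_le_of_ne (Finset.subset_univ _) ?_) |>.imp fun d hd => hd.2
          intro e'
          have := congrArg Finset.card e'
          rw [Finset.card_univ, Fintype.card_coe, Finset.card_eq_three.2 ⟨a, b, c, hab, hac, hbc, rfl⟩] at this
          omega
        simp only [Finset.mem_insert, Finset.mem_singleton, not_or] at hd
        have mk : ∀ {x y z : {x // x ∈ Ω}}, x ≠ y → y ≠ z → cyc x y z ∈ alternatingGroup {x // x ∈ Ω} := by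
          intro x y z hxy hyz
          rw [Perm.mem_alternatingGroup, cyc, map_mul, Perm.sign_swap hxy, Perm.sign_swap hyz]
          decide
        have h3 := DFunLike.congr_fun (congrArg Subtype.val (IsMulCommutative.is_comm.comm
          (⟨cyc a b c, mk hab hbc⟩ : ↥(alternatingGroup {x // x ∈ Ω})) ⟨cyc a b d, mk hab (Ne.symm hd.2.1)⟩)) a
        simp only [Subgroup.coe_mul, Perm.mul_apply] at h3
        rw [cyc_apply_a hab (Ne.symm hd.1), cyc_apply_b hac hbc, cyc_apply_a hab hac,
          cyc_apply_b (Ne.symm hd.1) (Ne.symm hd.2.1)] at h3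
        exact hd.2.2 h3.symm
      refine ⟨⟨?_⟩, ?_⟩
      · refine ((inferInstance : (commutator ↥A).Normal).eq_bot_or_eq_top).resolve_left fun h => ?_
        have h3 : Subgroup.center ↥A = ⊤ := by
          refine eq_top_iff.2 fun u _ => Subgroup.mem_center_iff.2 fun v => ?_
          refine commutatorElement_eq_one_iff_mul_comm.1 (Subgroup.mem_bot.1 ?_)
          rw [← h, commutator_def]
          exact Subgroup.commutator_mem_commutator (Subgroup.mem_top v) (Subgroup.mem_top u)
        exact bot_ne_top (hc.symm.trans h3)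
      · haveI : Nontrivial (↥A ⧸ Subgroup.center ↥A) :=
          ((QuotientGroup.quotientMulEquivOfEq hc).trans (QuotientGroup.quotientBot)).toEquiv.nontrivial
        exact IsSimpleGroup.isSimpleGroup_of_surjective
          ((QuotientGroup.quotientMulEquivOfEq hc).trans (QuotientGroup.quotientBot)).symm.toMonoidHom
          (MulEquiv.surjective _)
    have hAtop : A.subgroupOf L = ⊤ := by
      refine (quasisimple_subnormal hF (hAsub.subgroupOf)).resolve_left fun h => ?_
      have hcomm : ∀ u v : ↥A, u * v = v * u := fun u v => by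
        have := Subgroup.mem_center_iff.1 (h (show (⟨v, hAL v.2⟩ : ↥L) ∈ A.subgroupOf L from v.2)) ⟨u, hAL u.2⟩
        exact Subtype.ext (congrArg (fun w : ↥L => (w : ↥H)) this)
      haveI : IsMulCommutative ↥A := ⟨⟨hcomm⟩⟩
      haveI : IsMulCommutative ↥(alternatingGroup {x // x ∈ Ω}) := ⟨⟨fun u v => e.symm.injective (by
        rw [map_mul, map_mul, hcomm])⟩⟩
      letI : CommGroup ↥(alternatingGroup {x // x ∈ Ω}) :=
        { (inferInstance : Group ↥(alternatingGroup {x // x ∈ Ω})) with
          mul_comm := fun u v => e.symm.injective (by rw [map_mul, map_mul, hcomm]) }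
      have hpr := IsSimpleGroup.prime_card (α := ↥(alternatingGroup {x // x ∈ Ω}))
      haveI : Nontrivial {x // x ∈ Ω} := Fintype.one_lt_card_iff_nontrivial.1 (by rw [Fintype.card_coe]; omega)
      have h2 : 2 * Nat.card ↥(alternatingGroup {x // x ∈ Ω}) = (Ω.card).factorial := by
        rw [Nat.card_eq_fintype_card, two_mul_card_alternatingGroup, Fintype.card_perm, Fintype.card_coe]
      have h3 : 12 ∣ Ω.card.factorial := (by decide : 12 ∣ Nat.factorial 5).trans (Nat.factorial_dvd_factorial h5)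
      rw [← h2, show (12 : ℕ) = 2 * 6 by norm_num] at h3
      have h4 := Nat.dvd_of_mul_dvd_mul_left (by norm_num) h3
      rcases (Nat.dvd_prime hpr).1 h4 with h6 | h6
      · omega
      · rw [← h6] at hpr; norm_num at hpr
    have hLA : L = A := le_antisymm (Subgroup.subgroupOf_eq_top.1 hAtop) hAL
    refine ⟨Ω, ?_, ⟨(MulEquiv.subgroupCongr hLA).trans e⟩⟩
    have hUΩ : U ⊆ Ω := by
      intro a ha
      by_contra haΩ
      obtain ⟨b, c, hab, hbc, hac, hcyc⟩ := hUc a ha
      obtain ⟨Ω', hΩ', haΩ'⟩ := exists_block hab hbc hac hcyc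
      obtain ⟨hbΩ', hcΩ'⟩ := hΩ'.2.2 a b c hab hbc hac hcyc haΩ'
      have hdis : ∀ y, y ∈ Ω' → y ∉ Ω := fun y hy hy2 => haΩ (block_eq hΩ' hΩ hy hy2 ▸ haΩ')
      have hmem : (⟨cyc a b c, hcyc⟩ : ↥H) ∈ L := hCL (Subgroup.mem_centralizer_iff.2 fun v hv => Subtype.ext (by
        refine (Perm.Disjoint.commute fun y => ?_).eq
        by_cases hy : y ∈ Ω
        · exact Or.inr (cyc_apply_other (fun e => hdis a haΩ' (e ▸ hy)) (fun e => hdis b hbΩ' (e ▸ hy))
            (fun e => hdis c hcΩ' (e ▸ hy)))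
        · exact Or.inl (hAmem (hLA ▸ hv) y hy)))
      have h2 := hAmem (hLA ▸ hmem) a haΩ
      rw [show ((⟨cyc a b c, hcyc⟩ : ↥H) : Perm (Fin n)) = cyc a b c from rfl, cyc_apply_a hab hac] at h2
      exact hab h2.symm
    have := Finset.card_le_card hUΩ
    omega
  · exfalso
    push Not at h5
    let W : Set (Perm (Fin n)) := {σ | σ ∈ H ∧ ∃ Ω, Block H Ω ∧ (∀ x, x ∉ Ω → σ x = x) ∧
      ((Ω.card = 3 ∧ ∃ a b c, a ∈ Ω ∧ b ∈ Ω ∧ c ∈ Ω ∧ a ≠ b ∧ b ≠ c ∧ a ≠ c ∧ σ = cyc a b c) ∨
       (Ω.card = 4 ∧ ∀ x ∈ Ω, σ x ∈ Ω ∧ σ x ≠ x ∧ σ (σ x) = x))}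
    have hWcomm : ∀ x ∈ W, ∀ y ∈ W, x * y = y * x := by
      rintro s ⟨-, Ω, hΩ, hsf, hs⟩ t ⟨-, Ω', hΩ', htf, ht⟩
      by_cases hd : ∃ y, y ∈ Ω ∧ y ∈ Ω'
      swap
      · push Not at hd
        refine (Perm.Disjoint.commute fun y => ?_).eq
        by_cases hy : y ∈ Ω
        · exact Or.inr (htf y (hd y hy))
        · exact Or.inl (hsf y hy)
      obtain ⟨y, hy, hy'⟩ := hd
      obtain rfl := block_eq hΩ hΩ' hy hy'
      rcases hs with ⟨h3, a, b, c, ha, hb, hc, hab, hbc, hac, rfl⟩ | ⟨h4, hs⟩
      · rcases ht with ⟨-, a', b', c', ha', hb', hc', hab', hbc', hac', rfl⟩ | ⟨h4, -⟩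
        · have hset : ({a, b, c} : Finset (Fin n)) = Ω := Finset.eq_of_subset_of_card_le
            (by simp [Finset.insert_subset_iff, ha, hb, hc])
            (by rw [h3, Finset.card_eq_three.2 ⟨a, b, c, hab, hac, hbc, rfl⟩])
          have e1 := cyc_rot hab hbc hac
          have e2 := cyc_rot hbc hac.symm hab.symm
          have e3 := cyc_inv hab hbc hac
          have e4 := cyc_rot hab.symm hac hbc
          have e5 := cyc_rot hac hbc.symm hab
          rw [← hset] at ha' hb' hc'
          simp only [Finset.mem_insert, Finset.mem_singleton] at ha' hb' hc'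
          have hcase : cyc a' b' c' = cyc a b c ∨ cyc a' b' c' = (cyc a b c)⁻¹ := by
            rcases ha' with rfl | rfl | rfl <;> rcases hb' with rfl | rfl | rfl <;>
              rcases hc' with rfl | rfl | rfl <;>
              first
                | contradiction
                | exact Or.inl rfl
                | exact Or.inl e1
                | exact Or.inl (e2.trans e1)
                | exact Or.inr e3.symm
                | exact Or.inr (e4.trans e3.symm)
                | exact Or.inr ((e5.trans e4).trans e3.symm)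
          rcases hcase with h | h <;> rw [h]
          rw [mul_inv_cancel, inv_mul_cancel]
        · omega
      · rcases ht with ⟨h3, -⟩ | ⟨-, ht⟩
        · omega
        · exact commute_of_fpf_four h4 hs hsf ht htf
    let V := (Subgroup.closure W).subgroupOf H
    haveI hVc : IsMulCommutative ↥(Subgroup.closure W) := Subgroup.isMulCommutative_closure hWcomm
    haveI : V.Normal := by
      refine ⟨fun v hv g => ?_⟩
      simp only [V, Subgroup.mem_subgroupOf] at hv ⊢
      have hle : Subgroup.closure W ≤ (Subgroup.closure W).comap (MulAut.conj (g : Perm (Fin n))).toMonoidHom := by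
        rw [Subgroup.closure_le]
        rintro s ⟨hsH, Ω, hΩ, hsf, hs⟩
        refine Subgroup.subset_closure ⟨mul_mem (mul_mem g.2 hsH) (inv_mem g.2), Ω.image (g : Perm (Fin n)),
          block_image hΩ g.2, ?_, ?_⟩
        · intro x hx
          have hx' : (g : Perm (Fin n))⁻¹ x ∉ Ω := fun h => hx (Finset.mem_image.2 ⟨_, h, by simp⟩)
          show (g : Perm (Fin n)) (s ((g : Perm (Fin n))⁻¹ x)) = x
          rw [hsf _ hx']
          simp
        · rcases hs with ⟨h3, a, b, c, ha, hb, hc, hab, hbc, hac, rfl⟩ | ⟨h4, hs⟩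
          · refine Or.inl ⟨by rw [Finset.card_image_of_injective _ (g : Perm (Fin n)).injective]; exact h3,
              (g : Perm (Fin n)) a, (g : Perm (Fin n)) b, (g : Perm (Fin n)) c, Finset.mem_image_of_mem _ ha,
              Finset.mem_image_of_mem _ hb, Finset.mem_image_of_mem _ hc, ?_, ?_, ?_, cyc_conj _ a b c⟩
            · exact fun e => hab ((g : Perm (Fin n)).injective e)
            · exact fun e => hbc ((g : Perm (Fin n)).injective e)
            · exact fun e => hac ((g : Perm (Fin n)).injective e)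
          · refine Or.inr ⟨by rw [Finset.card_image_of_injective _ (g : Perm (Fin n)).injective]; exact h4, ?_⟩
            intro x hx
            obtain ⟨y, hy, rfl⟩ := Finset.mem_image.1 hx
            obtain ⟨h1, h2, h3⟩ := hs y hy
            refine ⟨?_, ?_, ?_⟩
            · simpa using Finset.mem_image_of_mem (g : Perm (Fin n)) h1
            · simpa using h2
            · simpa using congrArg (g : Perm (Fin n)) h3
      simpa using hle hv
    have hVcent : ∀ l ∈ L, ∀ v ∈ V, l * v = v * l := by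
      have h2 : (V.subgroupOf L) ≤ Subgroup.center ↥L := by
        refine (quasisimple_normal hF _).resolve_right fun h => ?_
        rw [Subgroup.subgroupOf_eq_top] at h
        refine quasisimple_center_ne_top hF (eq_top_iff.2 fun u _ => Subgroup.mem_center_iff.2 fun w => ?_)
        refine Subtype.ext (Subtype.ext ?_)
        have := congrArg (fun z : ↥(Subgroup.closure W) => (z : Perm (Fin n))) (IsMulCommutative.is_comm.comm
          (⟨_, h w.2⟩ : ↥(Subgroup.closure W)) ⟨_, h u.2⟩)
        simpa using this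
      have hLV : ⁅V, L⁆ ≤ (Subgroup.center ↥L).map L.subtype := by
        refine le_trans (le_inf (Subgroup.commutator_le_left V L) (Subgroup.commutator_le_right V L)) ?_
        intro w hw
        exact ⟨⟨w, hw.2⟩, h2 hw.1, rfl⟩
      have h1 : ⁅⁅V, L⁆, L⁆ = ⊥ := by
        rw [eq_bot_iff, Subgroup.commutator_le]
        intro a ha b hb
        obtain ⟨a', ha', rfl⟩ := hLV ha
        rw [Subgroup.mem_bot, commutatorElement_eq_one_iff_mul_comm]
        exact congrArg Subtype.val (Subgroup.mem_center_iff.1 ha' ⟨b, hb⟩).symm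
      have h1' : ⁅⁅L, V⁆, L⁆ = ⊥ := by rw [Subgroup.commutator_comm L V]; exact h1
      have h3 : ⁅⁅L, L⁆, V⁆ = ⊥ := Subgroup.commutator_commutator_eq_bot_of_rotate h1' h1
      have hLL : ⁅L, L⁆ = L := by
        have h4 := congrArg (Subgroup.map L.subtype) hF.1.commutator_eq_top
        rwa [commutator_def, Subgroup.map_commutator, ← MonoidHom.range_eq_map, Subgroup.range_subtype] at h4
      rw [hLL] at h3
      intro l hl v hv
      exact commutatorElement_eq_one_iff_mul_comm.1 (Subgroup.mem_bot.1 (h3 ▸ Subgroup.commutator_mem_commutator hl hv))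
    have hWV : ∀ s ∈ W, ∀ l ∈ L, (l : Perm (Fin n)) * s = s * (l : Perm (Fin n)) := fun s hs l hl =>
      congrArg Subtype.val (hVcent l hl ⟨s, hs.1⟩ (Subgroup.mem_subgroupOf.2 (Subgroup.subset_closure hs)))
    -- orbits
    have horb : ∀ x ∈ U, ∀ l ∈ L, ∃ v ∈ Subgroup.closure W, (l : Perm (Fin n)) x = v x := by
      intro x hx l hl
      obtain ⟨b, c, hxb, hbc, hxc, hcyc⟩ := hUc x hx
      obtain ⟨Ω, hΩ, hxΩ⟩ := exists_block hxb hbc hxc hcyc
      obtain ⟨hb, hc⟩ := hΩ.2.2 x b c hxb hbc hxc hcyc hxΩ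
      have h34 : Ω.card = 3 ∨ Ω.card = 4 := by have := h5 Ω hΩ; have := hΩ.1; omega
      rcases h34 with h3 | h4
      · have hset : ({x, b, c} : Finset (Fin n)) = Ω := Finset.eq_of_subset_of_card_le
          (by simp [Finset.insert_subset_iff, hxΩ, hb, hc])
          (by rw [h3, Finset.card_eq_three.2 ⟨x, b, c, hxb, hxc, hbc, rfl⟩])
        have hW : cyc x b c ∈ W := ⟨hcyc, Ω, hΩ, fun y hy => cyc_apply_other (fun e => hy (e ▸ hxΩ))
          (fun e => hy (e ▸ hb)) (fun e => hy (e ▸ hc)), Or.inl ⟨h3, x, b, c, hxΩ, hb, hc, hxb, hbc, hxc, rfl⟩⟩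
        have hlx : cyc x b c ((l : Perm (Fin n)) x) ≠ (l : Perm (Fin n)) x := by
          intro e
          rw [← Perm.mul_apply, ← hWV _ hW l hl, Perm.mul_apply, cyc_apply_a hxb hxc] at e
          exact hxb ((l : Perm (Fin n)).injective e).symm
        have h' : (l : Perm (Fin n)) x = x ∨ (l : Perm (Fin n)) x = b ∨ (l : Perm (Fin n)) x = c := by
          by_contra h
          push Not at h
          exact hlx (cyc_apply_other h.1 h.2.1 h.2.2)
        rcases h' with h | h | h
        · exact ⟨1, one_mem _, h⟩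
        · exact ⟨_, Subgroup.subset_closure hW, h.trans (cyc_apply_a hxb hxc).symm⟩
        · refine ⟨_, mul_mem (Subgroup.subset_closure hW) (Subgroup.subset_closure hW), ?_⟩
          rw [Perm.mul_apply, cyc_apply_a hxb hxc, cyc_apply_b hxc hbc, h]
      · have hgen : ∀ y ∈ Ω, y ≠ x → ∃ v ∈ W, v x = y ∧ ∀ z, z ∉ Ω → v z = z := by
          intro y hy hyx
          have hsub : ({x, y} : Finset (Fin n)) ⊆ Ω := by simp [Finset.insert_subset_iff, hxΩ, hy]
          obtain ⟨p, q, hpq, hpqe⟩ := Finset.card_eq_two.1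
            (by rw [Finset.card_sdiff_of_subset hsub, h4, Finset.card_pair (Ne.symm hyx)] :
              (Ω \ ({x, y} : Finset (Fin n))).card = 2)
          have hp : p ∈ Ω \ ({x, y} : Finset (Fin n)) := by rw [hpqe]; simp
          have hq : q ∈ Ω \ ({x, y} : Finset (Fin n)) := by rw [hpqe]; simp
          simp only [Finset.mem_sdiff, Finset.mem_insert, Finset.mem_singleton, not_or] at hp hq
          obtain ⟨hpΩ, hpx, hpy⟩ := hp
          obtain ⟨hqΩ, hqx, hqy⟩ := hq
          have hall : ∀ z ∈ Ω, z = x ∨ z = y ∨ z = p ∨ z = q := by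
            intro z hz
            by_cases h : z = x ∨ z = y
            · tauto
            · have : z ∈ Ω \ ({x, y} : Finset (Fin n)) := by simp [hz, h]
              rw [hpqe] at this
              simp only [Finset.mem_insert, Finset.mem_singleton] at this
              tauto
          have hprod : swap x y * swap p q ∈ H := by
            have := mul_mem (hΩ.2.1 x y p hxΩ hy hpΩ (Ne.symm hyx) (Ne.symm hpy) (Ne.symm hpx))
              (hΩ.2.1 y p q hy hpΩ hqΩ (Ne.symm hpy) hpq (Ne.symm hqy))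
            rwa [cyc, cyc, mul_assoc, ← mul_assoc (swap y p), swap_mul_self, one_mul] at this
          have hfix : ∀ z, z ∉ Ω → (swap x y * swap p q) z = z := fun z hz => by
            rw [Perm.mul_apply, swap_apply_of_ne_of_ne (fun e : z = p => hz (e ▸ hpΩ)) (fun e : z = q => hz (e ▸ hqΩ)),
              swap_apply_of_ne_of_ne (fun e : z = x => hz (e ▸ hxΩ)) (fun e : z = y => hz (e ▸ hy))]
          have ex : (swap x y * swap p q) x = y := by
            rw [Perm.mul_apply, swap_apply_of_ne_of_ne (Ne.symm hpx) (Ne.symm hqx), swap_apply_left]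
          have ey : (swap x y * swap p q) y = x := by
            rw [Perm.mul_apply, swap_apply_of_ne_of_ne (Ne.symm hpy) (Ne.symm hqy), swap_apply_right]
          have ep : (swap x y * swap p q) p = q := by
            rw [Perm.mul_apply, swap_apply_left, swap_apply_of_ne_of_ne hqx hqy]
          have eq' : (swap x y * swap p q) q = p := by
            rw [Perm.mul_apply, swap_apply_right, swap_apply_of_ne_of_ne hpx hpy]
          refine ⟨swap x y * swap p q, ⟨hprod, Ω, hΩ, hfix, Or.inr ⟨h4, fun z hz => ?_⟩⟩, ex, hfix⟩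
          rcases hall z hz with rfl | rfl | rfl | rfl
          · exact ⟨by rw [ex]; exact hy, by rw [ex]; exact hyx, by rw [ex, ey]⟩
          · exact ⟨by rw [ey]; exact hxΩ, by rw [ey]; exact Ne.symm hyx, by rw [ey, ex]⟩
          · exact ⟨by rw [ep]; exact hqΩ, by rw [ep]; exact Ne.symm hpq, by rw [ep, eq']⟩
          · exact ⟨by rw [eq']; exact hpΩ, by rw [eq']; exact hpq, by rw [eq', ep]⟩
        obtain ⟨v, hv, hvx, hvf⟩ := hgen b hb (Ne.symm hxb)
        have hlx : (l : Perm (Fin n)) x ∈ Ω := by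
          by_contra hno
          have h := hvf _ hno
          rw [← Perm.mul_apply, ← hWV v hv l hl, Perm.mul_apply, hvx] at h
          exact hxb ((l : Perm (Fin n)).injective h).symm
        by_cases hll : (l : Perm (Fin n)) x = x
        · exact ⟨1, one_mem _, hll⟩
        · obtain ⟨u, hu, hux, -⟩ := hgen _ hlx hll
          exact ⟨u, Subgroup.subset_closure hu, hux.symm⟩
    have hclW : ∀ v ∈ Subgroup.closure W, ∀ l ∈ L, (l : Perm (Fin n)) * v = v * (l : Perm (Fin n)) := by
      intro v hv l hl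
      induction hv using Subgroup.closure_induction with
      | mem w hw => exact hWV w hw l hl
      | one => rw [mul_one, one_mul]
      | mul a b _ _ ha hb => rw [← mul_assoc, ha, mul_assoc, hb, mul_assoc]
      | inv a _ ha => exact (Commute.inv_right ha).eq
    -- the action of L on U is abelian, so trivial
    have hfixU : ∀ l : ↥L, ∀ x ∈ U, ((l : ↥H) : Perm (Fin n)) x = x := by
      intro l x hx
      have hcomm : ∀ l₁ l₂ : ↥L, ∀ y ∈ U, ((l₁ : ↥H) : Perm (Fin n)) (((l₂ : ↥H) : Perm (Fin n)) y) =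
          ((l₂ : ↥H) : Perm (Fin n)) (((l₁ : ↥H) : Perm (Fin n)) y) := by
        intro l₁ l₂ y hy
        obtain ⟨v₁, hv₁, e1⟩ := horb y hy _ l₁.2
        obtain ⟨v₂, hv₂, e2⟩ := horb y hy _ l₂.2
        calc ((l₁ : ↥H) : Perm (Fin n)) (((l₂ : ↥H) : Perm (Fin n)) y)
            = (((l₁ : ↥H) : Perm (Fin n)) * v₂) y := by rw [e2]; rfl
          _ = (v₂ * ((l₁ : ↥H) : Perm (Fin n))) y := by rw [hclW v₂ hv₂ _ l₁.2]
          _ = (v₂ * v₁) y := by rw [Perm.mul_apply, e1]; rfl
          _ = (v₁ * v₂) y := by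
            rw [show v₂ * v₁ = v₁ * v₂ from congrArg Subtype.val (IsMulCommutative.is_comm.comm
              (⟨v₂, hv₂⟩ : ↥(Subgroup.closure W)) ⟨v₁, hv₁⟩)]
          _ = (v₁ * ((l₂ : ↥H) : Perm (Fin n))) y := by rw [Perm.mul_apply, Perm.mul_apply, e2]
          _ = (((l₂ : ↥H) : Perm (Fin n)) * v₁) y := by rw [hclW v₁ hv₁ _ l₂.2]
          _ = _ := by rw [Perm.mul_apply, ← e1]
      have hker : commutator ↥L ≤ ((fixingSubgroup (Perm (Fin n)) (U : Set (Fin n))).comap H.subtype).subgroupOf L := by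
        rw [commutator_def, Subgroup.commutator_le]
        intro a _ b _
        rw [Subgroup.mem_subgroupOf, Subgroup.mem_comap, mem_fixingSubgroup_iff]
        intro y hy
        show ((⁅a, b⁆ : ↥L) : ↥H).1 y = y
        have h1 := hcomm (b * a)⁻¹ (a * b) y hy
        have h2 := hcomm b a y hy
        simp only [Subgroup.coe_mul, Subgroup.coe_inv, mul_inv_rev] at h1
        rw [commutatorElement_def, show a * b * a⁻¹ * b⁻¹ = a * b * (b * a)⁻¹ by group]
        simp only [Subgroup.coe_mul, Subgroup.coe_inv, mul_inv_rev]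
        rw [Perm.mul_apply, ← h1, Perm.mul_apply ((a : ↥H) : Perm (Fin n))]
        rw [← h2, ← Perm.mul_apply, ← Perm.mul_apply]
        group
        rfl
      have h := hker (by rw [hF.1.commutator_eq_top]; exact Subgroup.mem_top l)
      rw [Subgroup.mem_subgroupOf, Subgroup.mem_comap, mem_fixingSubgroup_iff] at h
      exact h x hx
    have hab : ∀ l₁ l₂ : ↥L, l₁ * l₂ = l₂ * l₁ := by
      intro l₁ l₂
      refine Subtype.ext (Subtype.ext ?_)
      show ((l₁ : ↥H) : Perm (Fin n)) * (l₂ : ↥H) = ((l₂ : ↥H) : Perm (Fin n)) * (l₁ : ↥H)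
      have hval : ∀ l : ↥L, ((l : ↥H) : Perm (Fin n)) = 1 ∨ (∀ y z, y ∉ U → z ∉ U → y ≠ z →
          ((l : ↥H) : Perm (Fin n)) = swap y z) := by
        intro l
        by_cases h1 : ((l : ↥H) : Perm (Fin n)) = 1
        · exact Or.inl h1
        refine Or.inr fun y z hy hz hyz => ?_
        have hs : ((l : ↥H) : Perm (Fin n)).support ⊆ {y, z} := by
          intro w hw
          have hwU : w ∉ U := fun h => Perm.mem_support.1 hw (hfixU l w h)
          have hle : ({y, z} : Finset (Fin n)) = Uᶜ := Finset.eq_of_subset_of_card_le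
            (by simp [Finset.insert_subset_iff, hy, hz])
            (by rw [Finset.card_compl, Fintype.card_fin, Finset.card_pair hyz]; omega)
          rw [hle]
          simp [hwU]
        have h2 : 2 ≤ ((l : ↥H) : Perm (Fin n)).support.card := Perm.two_le_card_support_of_ne_one h1
        have heq : ((l : ↥H) : Perm (Fin n)).support = {y, z} :=
          Finset.eq_of_subset_of_card_le hs (by rw [Finset.card_pair hyz]; exact h2)
        have hsw : ((l : ↥H) : Perm (Fin n)).IsSwap := Perm.card_support_eq_two.1 (by rw [heq, Finset.card_pair hyz])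
        obtain ⟨u, w, huw, he⟩ := hsw
        rw [he, Perm.support_swap huw] at heq
        rw [he]
        have hu : u ∈ ({y, z} : Finset (Fin n)) := by rw [← heq]; simp
        have hw : w ∈ ({y, z} : Finset (Fin n)) := by rw [← heq]; simp
        simp only [Finset.mem_insert, Finset.mem_singleton] at hu hw
        rcases hu with rfl | rfl <;> rcases hw with rfl | rfl <;> first | exact absurd rfl huw | rfl | exact swap_comm _ _
      rcases hval l₁ with h | h1
      · rw [h, one_mul, mul_one]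
      rcases hval l₂ with h | h2
      · rw [h, one_mul, mul_one]
      by_cases hne : ((l₁ : ↥H) : Perm (Fin n)) = 1
      · rw [hne, one_mul, mul_one]
      obtain ⟨y, z, hy, hz, hyz⟩ : ∃ y z, y ∉ U ∧ z ∉ U ∧ y ≠ z := by
        obtain ⟨y, hy⟩ : ((l₁ : ↥H) : Perm (Fin n)).support.Nonempty :=
          Finset.nonempty_iff_ne_empty.2 fun e => hne (Perm.support_eq_empty_iff.1 e)
        refine ⟨y, ((l₁ : ↥H) : Perm (Fin n)) y, fun h => Perm.mem_support.1 hy (hfixU l₁ y h),
          fun h => Perm.mem_support.1 (Perm.apply_mem_support.2 hy) (hfixU l₁ _ h), (Perm.mem_support.1 hy).symm⟩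
      rw [h1 y z hy hz hyz, h2 y z hy hz hyz]
    exact quasisimple_center_ne_top hF (eq_top_iff.2 fun u _ => Subgroup.mem_center_iff.2 fun w => hab w u)

/-- Let n ≥ 5 and let H be a subgroup of the symmetric group of degree n whose generalized Fitting subgroup F*(H) is quasisimple. If H contains a Sylow 3-subgroup of the symmetric group, then F*(H) is isomorphic to an alternating group of degree m for some m ∈ {n − 2, n − 1, n}. -/
theorem result (n : ℕ) (hn : 5 ≤ n) (H : Subgroup (Equiv.Perm (Fin n))) (hF : Cfsg.IsQuasisimple ↥(Cfsg.generalizedFittingSubgroup ↥H)) (hS : ∃ P : Sylow 3 (Equiv.Perm (Fin n)), (P : Subgroup (Equiv.Perm (Fin n))) ≤ H) : ∃ m : ℕ, (m = n - 2 ∨ m = n - 1 ∨ m = n) ∧ Nonempty (↥(Cfsg.generalizedFittingSubgroup ↥H) ≃* ↥(alternatingGroup (Fin m))) := by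
    obtain ⟨P, hP⟩ := hS
    obtain ⟨U, hU, hUc⟩ := exists_cover P H hP
    obtain ⟨Ω, hΩ, ⟨e⟩⟩ := core hn H hF U hU hUc
    have hle : Ω.card ≤ n := (Finset.card_le_univ Ω).trans (le_of_eq (Fintype.card_fin n))
    exact ⟨Ω.card, by omega, ⟨e.trans (Ω.equivFin).altCongrHom⟩⟩

end Cfsg.Agent.S2929
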