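import Cfsg.Statements.S2939
import Cfsg.Agent.Inv.SylowChain

set_option autoImplicit false
open Cfsg

namespace Cfsg.Agent.S2939

/-- Let p be a prime dividing the order of the finite group G and 𝓕 a family of subgroups of G closed under conjugation, with conjugates taken as X^g = g⁻¹Xg. Then 𝓕 controls Sylow p-intersections in G (any two distinct Sylow p-subgroups S and T with S ∩ T ≠ 1 are joined by a chain S = S₀, S₁, …, Sₙ = T of Sylow p-subgroups where, for each i, some member Xᵢ of 𝓕 meets both S_{i-1} and Sᵢ in Sylow p-subgroups of Xᵢ, satisfies S ∩ T ≤ Sᵢ ∩ Xᵢ, and contains an element xᵢ with Sᵢ^{xᵢ} = S_{i-1}) if and only if 𝓕 strongly controls p-fusion in G (whenever A is a subset of a Sylow p-subgroup S, A contains an element other than 1, and A^g ⊆ S, the element g factorises as g = y₁⋯yₙy with y ∈ N_G(S) and each yᵢ in a member Yᵢ of 𝓕 that meets S in a Sylow p-subgroup of Yᵢ, with A^{y₁⋯yᵢ} ⊆ S ∩ Yᵢ for each i). -/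
theorem result {G : Type*} [Group G] [Finite G] {p : ℕ} [Fact p.Prime] (hdiv : p ∣ Nat.card G) (𝓕 : Set (Subgroup G)) (h𝓕 : Cfsg.IsNormalSet 𝓕) : Cfsg.ControlsSylowIntersections p 𝓕 ↔ Cfsg.FamilyStronglyControlsFusion p 𝓕 := by
  open CfsgLib.Inv in
  exact (by
    have hcR : ∀ (g : G) (A : Set G) (Z : Subgroup G), A ⊆ (Z : Set G) →
        Cfsg.conjRight g A ⊆ (Cfsg.subgroupConjRight g Z : Set G) := by
      rintro g A Z hA _ ⟨a, ha, rfl⟩
      refine mem_conjR.2 ?_
      simpa [mul_assoc] using hA ha
    have hcm : ∀ (g h : G) (A : Set G), Cfsg.conjRight (g * h) A = Cfsg.conjRight h (Cfsg.conjRight g A) := by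
      intro g h A
      simp only [Cfsg.conjRight, Set.image_image, mul_inv_rev, mul_assoc]
    constructor
    · intro hc S A g hA hA1 hAg
      obtain ⟨T, hT⟩ := sylow_conjR S g
      rcases eq_or_ne S T with hST | hne
      · refine ⟨0, Fin.elim0, Fin.elim0, g, ?_, fun i => i.elim0, by simp, fun i => i.elim0⟩
        exact mem_normalizer_of_conjR (by rw [← hT, hST])
      have hD : Cfsg.conjRight g A ⊆ (((S : Subgroup G) ⊓ (T : Subgroup G) : Subgroup G) : Set G) := fun a ha =>
        Subgroup.mem_inf.2 ⟨hAg ha, hT ▸ hcR g A _ hA ha⟩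
      have hne' : (S : Subgroup G) ⊓ (T : Subgroup G) ≠ ⊥ := by
        intro e
        obtain ⟨a, ha, ha1⟩ := hA1
        have h1 : g⁻¹ * a * g ∈ (S : Subgroup G) ⊓ (T : Subgroup G) := hD ⟨a, ha, rfl⟩
        rw [e, Subgroup.mem_bot] at h1
        exact ha1 (by
          calc a = g * (g⁻¹ * a * g) * g⁻¹ := by group
            _ = 1 := by rw [h1]; simp)
      obtain ⟨n, c, X, x, h0, hl, h⟩ := hc S T hne hne'
      -- u i moves S to c i
      obtain ⟨u, hu0, hus⟩ : ∃ u : Fin (n + 1) → G, u 0 = 1 ∧ ∀ i : Fin n, u i.succ = u i.castSucc * (x i)⁻¹ :=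
        ⟨fun i => ((List.ofFn fun j => (x j)⁻¹).take i.val).prod, by simp, fun i => by
          show ((List.ofFn fun j => (x j)⁻¹).take (i.val + 1)).prod = _
          rw [List.prod_take_succ _ _ (by simp)]
          simp⟩
      have huc : ∀ i, (c i : Subgroup G) = Cfsg.subgroupConjRight (u i) (S : Subgroup G) := by
        intro i
        induction i using Fin.induction with
        | zero => rw [h0, hu0, conjR_one]
        | succ i ih => rw [hus, conjR_mul, ← ih, ← (h i).2.2.2.1, ← conjR_mul, mul_inv_cancel, conjR_one]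
      set y₀ := g * (u (Fin.last n))⁻¹ with hy₀
      have hy₀N : y₀ ∈ Subgroup.normalizer ((S : Subgroup G) : Set G) :=
        mem_normalizer_of_conjR (by rw [hy₀, conjR_mul, ← hT, ← hl, huc, ← conjR_mul, mul_inv_cancel, conjR_one])
      let a : Fin (n + 1) → G := fun i => y₀ * u i
      have haS : ∀ i, Cfsg.subgroupConjRight (a i)⁻¹ (c i : Subgroup G) = (S : Subgroup G) := fun i => by
        rw [huc, ← conjR_mul, show u i * (a i)⁻¹ = y₀⁻¹ by simp [a], conjR_mem_normalizer (inv_mem hy₀N)]
      let Y : Fin n → Subgroup G := fun k => Cfsg.subgroupConjRight (a k.rev.castSucc)⁻¹ (X k.rev)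
      let y : Fin n → G := fun k => a k.rev.castSucc * (x k.rev)⁻¹ * (a k.rev.castSucc)⁻¹
      have hP : ∀ m, (hm : m ≤ n) → ((List.ofFn y).take m).prod = g * (a ⟨n - m, by omega⟩)⁻¹ := by
        intro m
        induction m with
        | zero =>
          intro _
          have : a ⟨n - 0, by omega⟩ = g := by
            rw [show (⟨n - 0, by omega⟩ : Fin (n + 1)) = Fin.last n from Fin.ext (by simp)]
            simp [a, hy₀]
          rw [List.take_zero, List.prod_nil, this, mul_inv_cancel]
        | succ m ih =>
          intro hm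
          have e1 : (⟨m, hm⟩ : Fin n).rev.succ = (⟨n - m, by omega⟩ : Fin (n + 1)) := Fin.ext (by simp; omega)
          have e2 : (⟨m, hm⟩ : Fin n).rev.castSucc = (⟨n - (m + 1), by omega⟩ : Fin (n + 1)) := Fin.ext (by simp)
          rw [List.prod_take_succ _ _ (by simp; omega), ih (by omega), List.getElem_ofFn]
          simp only [y]
          rw [e2, ← e1]
          simp only [a, hus, ← e2]
          group
      refine ⟨n, Y, y, y₀, hy₀N, fun k => ⟨?_, ?_⟩, ?_, fun k => ?_⟩
      · have := sylowMembers_conjR h𝓕 (h k.rev).1 (a k.rev.castSucc)⁻¹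
        rwa [haS] at this
      · exact mem_conjR.2 (by simpa [y, mul_assoc] using inv_mem (h k.rev).2.2.1)
      · have := hP n le_rfl
        rw [List.take_of_length_le (by simp)] at this
        rw [this, show a ⟨n - n, by omega⟩ = y₀ by
          rw [show (⟨n - n, by omega⟩ : Fin (n + 1)) = 0 from Fin.ext (by simp)]
          simp [a, hu0]]
        group
      · have hDX : ∀ i : Fin n, ((S : Subgroup G) ⊓ (T : Subgroup G)) ≤ (c i.castSucc : Subgroup G) ⊓ X i := by
          intro i
          refine le_inf ?_ ((h i).2.2.2.2.trans inf_le_right)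
          obtain ⟨iv, hiv⟩ := i
          cases iv with
          | zero => rw [show (⟨0, hiv⟩ : Fin n).castSucc = 0 from rfl, h0]; exact inf_le_left
          | succ j => exact ((h ⟨j, by omega⟩).2.2.2.2).trans inf_le_left
        rw [hP (k.val + 1) k.isLt, show (⟨n - (k.val + 1), by omega⟩ : Fin (n + 1)) = k.rev.castSucc from
          Fin.ext (by simp), hcm]
        intro z hz
        have := hcR (a k.rev.castSucc)⁻¹ _ ((c k.rev.castSucc : Subgroup G) ⊓ X k.rev)
          (fun w hw => hDX k.rev (hD hw)) hz
        rw [conjR_inf, haS] at this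
        exact this
    · intro hf S T hne hD
      obtain ⟨g, hg⟩ := exists_conjR_eq S T
      set D := (S : Subgroup G) ⊓ (T : Subgroup G) with hDdef
      set A : Set G := (Cfsg.subgroupConjRight g⁻¹ D : Set G) with hAdef
      have hA : A ⊆ (S : Set G) := by
        intro a ha
        have := (Subgroup.mem_inf.1 (mem_conjR.1 ha)).2
        rw [← hg, mem_conjR] at this
        show a ∈ (S : Subgroup G)
        simpa [mul_assoc] using this
      have hAg : Cfsg.conjRight g A = (D : Set G) := by
        ext z
        constructor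
        · rintro ⟨a, ha, rfl⟩
          have := mem_conjR.1 ha
          rw [inv_inv] at this
          exact this
        · intro hz
          exact ⟨g * z * g⁻¹, mem_conjR.2 (by simpa [mul_assoc] using hz), by group⟩
      have hA1 : ∃ a ∈ A, a ≠ 1 := by
        obtain ⟨⟨d, hd⟩, hd1⟩ := Subgroup.ne_bot_iff_exists_ne_one.1 hD
        exact ⟨g * d * g⁻¹, mem_conjR.2 (by simpa [mul_assoc] using hd), fun e => hd1 (Subtype.ext (by simpa using e))⟩
      obtain ⟨n, Y, y, y₀, hy₀, hY, hprod, hsub⟩ :=
        hf S A g hA hA1 (hAg ▸ SetLike.coe_subset_coe.2 inf_le_left)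
      let P : ℕ → G := fun m => ((List.ofFn y).take m).prod
      let t : ℕ → G := fun m => (P m)⁻¹ * g
      have hts : ∀ m, (hm : m < n) → t m = y ⟨m, hm⟩ * t (m + 1) := by
        intro m hm
        simp only [t, P]
        rw [List.prod_take_succ _ _ (by simpa), List.getElem_ofFn]
        group
      choose c hc using fun i : Fin (n + 1) => sylow_conjR S (t (n - i.val))
      refine ⟨n, c, fun i => Cfsg.subgroupConjRight (t (n - i.val)) (Y i.rev),
        fun i => (t (n - i.val))⁻¹ * (y i.rev)⁻¹ * t (n - i.val), ?_, ?_, fun i => ?_⟩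
      · refine Sylow.ext ?_
        have htn : t n = y₀ := by
          simp only [t, P]
          rw [List.take_of_length_le (by simp), hprod]; group
        rw [hc, Fin.val_zero, Nat.sub_zero, htn, conjR_mem_normalizer hy₀]
      · refine Sylow.ext ?_
        rw [hc, Fin.val_last, Nat.sub_self, show t 0 = g by simp [t, P], hg]
      · have hk : n - i.val = i.rev.val + 1 := by simp; omega
        have hk' : n - (i.val + 1) = i.rev.val := by simp
        have htk : t i.rev.val = y i.rev * t (i.rev.val + 1) := hts _ i.rev.isLt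
        simp only [hc, Fin.val_castSucc, Fin.val_succ, hk, hk']
        refine ⟨sylowMembers_conjR h𝓕 (hY i.rev).1 _, ?_, ?_, ?_, le_inf ?_ ?_⟩
        · have := sylowMembers_conjR h𝓕 (hY i.rev).1 (t i.rev.val)
          rwa [show Cfsg.subgroupConjRight (t i.rev.val) (Y i.rev) = Cfsg.subgroupConjRight (t (i.rev.val + 1)) (Y i.rev) by
            rw [htk, conjR_mul, conjR_mem_self (hY i.rev).2]] at this
        · exact mem_conjR.2 (by simpa [mul_assoc] using inv_mem (hY i.rev).2)
        · rw [← conjR_mul, htk]; congr 1; group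
        · rw [← SetLike.coe_subset_coe, ← hAg, show g = P i.rev.val * t i.rev.val by simp [t], hcm]
          refine hcR _ _ _ ?_
          cases hv : i.rev.val with
          | zero =>
            simp only [P, List.take_zero, List.prod_nil]
            rintro _ ⟨a, ha, rfl⟩
            simpa using hA ha
          | succ j => exact (hsub ⟨j, by omega⟩).trans Set.inter_subset_left
        · rw [← SetLike.coe_subset_coe, ← hAg, show g = P (i.rev.val + 1) * t (i.rev.val + 1) by simp [t], hcm]
          exact hcR _ _ _ ((hsub i.rev).trans Set.inter_subset_right))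

end Cfsg.Agent.S2939
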