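import Cfsg.Statements.S2940
import Cfsg.Agent.Solv.Basic

set_option autoImplicit false
open Cfsg

namespace Cfsg.Agent.S2940

/-- Let S be a Sylow p-subgroup of the finite group G and G₁, G₂ subgroups containing S with G = G₁G₂. Then for every g ∈ G there is a Sylow p-subgroup U of G with S ∩ S^g ≤ U ≤ G₁ ∩ G₂^g (conjugates taken as X^g = g⁻¹Xg). -/
theorem result {G : Type*} [Group G] [Finite G] {p : ℕ} [Fact p.Prime] (S : Sylow p G) (G₁ G₂ : Subgroup G) (h1 : (S : Subgroup G) ≤ G₁) (h2 : (S : Subgroup G) ≤ G₂) (hfact : ∀ g : G, ∃ g₁ ∈ G₁, ∃ g₂ ∈ G₂, g = g₁ * g₂) (g : G) : ∃ U : Sylow p G, (S : Subgroup G) ⊓ Cfsg.subgroupConjRight g (S : Subgroup G) ≤ (U : Subgroup G) ∧ (U : Subgroup G) ≤ G₁ ⊓ Cfsg.subgroupConjRight g G₂ := by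
  open scoped Pointwise in
  exact (by
    obtain ⟨a, ha, b, hb, hab⟩ := hfact g⁻¹
    set W := G₁ ⊓ Cfsg.subgroupConjRight g G₂ with hW
    have hmem : ∀ (Y : Subgroup G) (y : G), y ∈ Cfsg.subgroupConjRight g Y ↔ g * y * g⁻¹ ∈ Y := by
      intro Y y
      rw [Cfsg.subgroupConjRight, CfsgLib.Solv.mem_map_conj_iff, inv_inv]
    have hSaW : ((MulAut.conj a • S : Sylow p G) : Subgroup G) ≤ W := by
      intro y hy
      rw [Sylow.pointwise_smul_def, CfsgLib.Solv.mem_conj_smul_iff] at hy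
      refine Subgroup.mem_inf.2 ⟨?_, (hmem _ _).2 ?_⟩
      · rw [show y = a * (a⁻¹ * y * a) * a⁻¹ by group]
        exact mul_mem (mul_mem ha (h1 hy)) (inv_mem ha)
      · rw [show g = b⁻¹ * a⁻¹ by rw [← mul_inv_rev, ← hab, inv_inv],
          show b⁻¹ * a⁻¹ * y * (b⁻¹ * a⁻¹)⁻¹ = b⁻¹ * (a⁻¹ * y * a) * b by group]
        exact mul_mem (mul_mem (inv_mem hb) (h2 hy)) hb
    set D := (S : Subgroup G) ⊓ Cfsg.subgroupConjRight g (S : Subgroup G) with hD
    have hDW : D ≤ W := fun y hy => Subgroup.mem_inf.2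
      ⟨h1 (Subgroup.mem_inf.1 hy).1, (hmem _ _).2 (h2 ((hmem _ _).1 (Subgroup.mem_inf.1 hy).2))⟩
    obtain ⟨T, hT⟩ := ((S.2.to_le inf_le_left : IsPGroup p D).comap_subtype (K := W)).exists_le_sylow
    have hcard : Nat.card ((T : Subgroup W).map W.subtype) = p ^ (Nat.card G).factorization p := by
      rw [Subgroup.card_map_of_injective W.subtype_injective]
      rw [T.card_eq_multiplicity, ← ((MulAut.conj a • S : Sylow p G).subtype hSaW).card_eq_multiplicity,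
        Sylow.coe_subtype, Nat.card_congr ((Subgroup.subgroupOfEquivOfLe hSaW).toEquiv), Sylow.card_eq_multiplicity]
    refine ⟨Sylow.ofCard _ hcard, ?_, ?_⟩
    · rw [Sylow.coe_ofCard]
      exact fun y hy => Subgroup.mem_map.2 ⟨⟨y, hDW hy⟩, hT hy, rfl⟩
    · rw [Sylow.coe_ofCard]; exact Subgroup.map_subtype_le _)

end Cfsg.Agent.S2940
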