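import Cfsg.Statements.S2941
import Mathlib
import Cfsg.Agent.Solv.CoprimeAction

set_option autoImplicit false
open Cfsg

namespace Cfsg.Agent.S2941

open scoped commutatorElement

/-- Let G be a finite group of characteristic 2 type in which every 2-local subgroup is solvable and the centralizer of Ω₁(Z(S)) lies in N_G(S) for every Sylow 2-subgroup S, and let T be a nontrivial 2-subgroup and K a J(T)-component (J the Thompson subgroup generated by the elementary abelian 2-subgroups of largest order). If a subgroup Q is normalized by ⟨K, J(T)⟩ and normalizes J(T), then Q normalizes K. -/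
theorem result {G : Type*} [Group G] [Finite G] (hL : Cfsg.IsCharacteristicTwoType G) (hN : ∀ N : Subgroup G, Cfsg.IsTwoLocal N → Group.IsSolvable ↥N)
    (hZ : ∀ S : Sylow 2 G, Subgroup.centralizer (Cfsg.omegaCenterOf (S : Subgroup G) : Set G) ≤ Subgroup.normalizer ((S : Subgroup G) : Set G)) (T : Subgroup G) (hT : IsPGroup 2 ↥T) (hT1 : T ≠ ⊥) (K : Subgroup G) (hK : Cfsg.IsJComponent T K)
    (Q : Subgroup G) (hQ1 : K ⊔ Cfsg.thompsonSubgroupOf 2 T ≤ Subgroup.normalizer (Q : Set G)) (hQ2 : Q ≤ Subgroup.normalizer (Cfsg.thompsonSubgroupOf 2 T : Set G)) :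
    Q ≤ Subgroup.normalizer (K : Set G) := by
  obtain ⟨hgen, hKJ, -⟩ := hK
  generalize hJdef : Cfsg.thompsonSubgroupOf 2 T = J at hKJ hQ1 hQ2
  have hJp : IsPGroup 2 ↥J := hJdef ▸ hT.to_le (Subgroup.map_subtype_le _)
  have hJK : J ≤ Subgroup.normalizer (K : Set G) := by
    have h : J ≤ Subgroup.normalizer ((⁅K, J⁆ : Subgroup G) : Set G) := CfsgLib.Solv.right_le_normalizer_commutator K J
    rwa [hKJ] at h
  have hmul : ∀ y ∈ K ⊔ J, ∃ k ∈ K, ∃ j ∈ J, k * j = y := fun y hy => by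
    rw [← SetLike.mem_coe, Subgroup.coe_mul_of_right_le_normalizer_left K J hJK] at hy
    obtain ⟨k, hk, j, hj, rfl⟩ := hy
    exact ⟨k, hk, j, hj, rfl⟩
  have hodd : ∀ x ∈ K ⊔ J, Odd (orderOf x) → x ∈ K := by
    intro x hx ho
    obtain ⟨k, hk, j, hj, rfl⟩ := hmul x hx
    obtain ⟨n, hn⟩ := hJp ⟨j, hj⟩
    have hpow : ∀ m : ℕ, (k * j) ^ m * (j ^ m)⁻¹ ∈ K := fun m => by
      induction m with
      | zero => simp
      | succ m ih =>
        have h2 : j ^ m * k * (j ^ m)⁻¹ ∈ K :=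
          (Subgroup.mem_normalizer_iff.1 (hJK (J.pow_mem hj m)) k).1 hk
        have := K.mul_mem ih h2
        convert this using 1
        rw [pow_succ, pow_succ]
        group
    have h2 : (k * j) ^ 2 ^ n ∈ K := by
      have := hpow (2 ^ n)
      rwa [show j ^ 2 ^ n = 1 from congrArg Subtype.val hn, inv_one, mul_one] at this
    obtain ⟨m, hm⟩ := exists_pow_eq_self_of_coprime (G := G) (x := k * j) (n := 2 ^ n)
      (Nat.Coprime.pow_left _ (Nat.coprime_two_left.2 ho))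
    rw [← hm]
    exact K.pow_mem h2 m
  have key : ∀ q ∈ Q, ∀ k ∈ K, q * k * q⁻¹ ∈ K ⊔ J := by
    intro q hq k hk
    have hcomm : ⁅K, J⁆ ≤ (K ⊔ J).comap (MulAut.conj q).toMonoidHom := by
      refine Subgroup.commutator_le.2 fun a ha b hb => ?_
      show q * ⁅a, b⁆ * q⁻¹ ∈ K ⊔ J
      have hqa : a⁻¹ * q * a ∈ Q :=
        (Subgroup.mem_normalizer_iff''.1 (hQ1 (le_sup_left (b := J) ha)) q).1 hq
      have h1 : (a⁻¹ * q * a) * b * (a⁻¹ * q * a)⁻¹ ∈ K ⊔ J :=
        le_sup_right (a := K) ((Subgroup.mem_normalizer_iff.1 (hQ2 hqa) b).1 hb)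
      have h2 : q * b⁻¹ * q⁻¹ ∈ K ⊔ J :=
        le_sup_right (a := K) ((Subgroup.mem_normalizer_iff.1 (hQ2 hq) b⁻¹).1 (J.inv_mem hb))
      have ha' : a ∈ K ⊔ J := le_sup_left (b := J) ha
      have h3 := (K ⊔ J).mul_mem ((K ⊔ J).mul_mem ((K ⊔ J).mul_mem ha' h1) ((K ⊔ J).inv_mem ha')) h2
      convert h3 using 1
      rw [commutatorElement_def]
      group
    exact hcomm (hKJ.symm ▸ hk)
  have hle : ∀ q ∈ Q, K ≤ K.comap (MulAut.conj q).toMonoidHom := by
    intro q hq
    conv_lhs => rw [← hgen]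
    rw [Subgroup.closure_le]
    rintro g ⟨hg, ho⟩
    refine hodd _ (key q hq g hg) ?_
    rwa [show (MulAut.conj q).toMonoidHom g = MulAut.conj q g from rfl, MulEquiv.orderOf_eq]
  intro q hq
  rw [Subgroup.mem_normalizer_iff]
  intro x
  refine ⟨fun hx => hle q hq hx, fun hx => ?_⟩
  have := hle q⁻¹ (Q.inv_mem hq) hx
  simpa [mul_assoc] using this

end Cfsg.Agent.S2941
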