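import Cfsg.Statements.S2947
import Cfsg.Agent.Inv.StronglyEmbedded
import Mathlib

set_option autoImplicit false
open Cfsg

namespace Cfsg.Agent.S2947

open CfsgLib.Inv
open scoped Pointwise

theorem grow {G : Type*} [Group G] [Finite G] {K L P Q : Subgroup G} (hQ : IsPGroup 2 Q) (hPQ : P ≤ Q) (hQL : Q ≤ L)
    (hmax : ∀ R : Subgroup G, IsPGroup 2 R → P ≤ R → R ≤ K → R = P)
    (hN : Subgroup.normalizer (P : Set G) ⊓ L ≤ K) : Q = P := by
  haveI : Fact (Nat.Prime 2) := ⟨Nat.prime_two⟩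
  haveI : Group.IsNilpotent Q := hQ.isNilpotent
  by_contra hne
  have hlt : P.subgroupOf Q < ⊤ := lt_top_iff_ne_top.2 fun e =>
    hne (le_antisymm (Subgroup.subgroupOf_eq_top.1 e) hPQ)
  obtain ⟨⟨n, hn⟩, hnN, hnP⟩ := SetLike.exists_of_lt (Group.normalizerCondition_of_isNilpotent _ hlt)
  have hnN' : n ∈ Subgroup.normalizer (P : Set G) := by
    rw [Subgroup.mem_normalizer_iff]
    intro x
    constructor
    · intro hx
      exact (Subgroup.mem_normalizer_iff.1 hnN ⟨x, hPQ hx⟩).1 hx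
    · intro hx
      have hxQ : x ∈ Q := by
        have := Q.mul_mem (Q.mul_mem (Q.inv_mem hn) (hPQ hx)) hn
        rwa [show n⁻¹ * (n * x * n⁻¹) * n = x by group] at this
      exact (Subgroup.mem_normalizer_iff.1 hnN ⟨x, hxQ⟩).2 hx
  have e := hmax ((Q ⊓ Subgroup.normalizer (P : Set G))) (hQ.to_le inf_le_left) (le_inf hPQ Subgroup.le_normalizer)
    (fun y hy => hN ⟨hy.2, hQL hy.1⟩)
  exact hnP (e.le ⟨hn, hnN'⟩)

theorem exists_max {G : Type*} [Group G] [Finite G] (K : Subgroup G) {T : Subgroup G} (hT : IsPGroup 2 T) (hTK : T ≤ K) :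
    ∃ P : Subgroup G, IsPGroup 2 P ∧ T ≤ P ∧ P ≤ K ∧ ∀ R : Subgroup G, IsPGroup 2 R → P ≤ R → R ≤ K → R = P := by
  obtain ⟨P, ⟨h1, h2, h3⟩, hmax⟩ := (Set.toFinite {P : Subgroup G | IsPGroup 2 P ∧ T ≤ P ∧ P ≤ K}).exists_maximal
    ⟨T, hT, le_rfl, hTK⟩
  exact ⟨P, h1, h2, h3, fun R r1 r2 r3 => le_antisymm (hmax ⟨r1, h2.trans r2, r3⟩ r2) r2⟩

theorem se_normalizer {G : Type*} [Group G] [Finite G] {M T : Subgroup G} (hM : Cfsg.IsStronglyEmbedded M)
    (hT : IsPGroup 2 T) (hT1 : T ≠ ⊥) (hTM : T ≤ M) : Subgroup.normalizer (T : Set G) ≤ M := by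
  intro g hg
  haveI : Fact (Nat.Prime 2) := ⟨Nat.prime_two⟩
  obtain ⟨n, hn⟩ := IsPGroup.iff_card.1 hT
  have he : Even (Nat.card T) := by
    rcases n with _ | n
    · exact absurd (Subgroup.eq_bot_of_card_le T (by rw [hn]; rfl)) hT1
    · rw [hn, pow_succ]; exact even_two.mul_left _
  obtain ⟨t, htT, ht⟩ := exists_invol_of_even he
  refine se_mem_of_conj hM (hTM htT) ht (hTM ((Subgroup.mem_normalizer_iff.1 hg t).1 htT))

/-- Let G be a finite group of characteristic 2 type in which every 2-local subgroup is solvable and the centralizer of Ω₁(Z(S)) lies in N_G(S) for every Sylow 2-subgroup S; suppose O₂(G) = 1, fix a Sylow 2-subgroup S and a 2-local subgroup M containing N_G(J(S)) (J the Thompson subgroup generated by the elementary abelian 2-subgroups of largest order). Then M is strongly embedded in G (a proper subgroup of even order whose intersection with each conjugate by an element outside M has odd order) if and only if no nontrivial 2-subgroup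 of M lies in a 2-local subgroup of G not contained in M. -/
theorem result {G : Type*} [Group G] [Finite G] (hL : Cfsg.IsCharacteristicTwoType G) (hN : ∀ N : Subgroup G, Cfsg.IsTwoLocal N → Group.IsSolvable ↥N)
    (hZ : ∀ S : Sylow 2 G, Subgroup.centralizer (Cfsg.omegaCenterOf (S : Subgroup G) : Set G) ≤ Subgroup.normalizer ((S : Subgroup G) : Set G)) (hO : Cfsg.pCore 2 G = ⊥) (S : Sylow 2 G) (M : Subgroup G) (hM : Cfsg.IsTwoLocal M)
    (hMJ : Subgroup.normalizer (Cfsg.thompsonSubgroupOf 2 (S : Subgroup G) : Set G) ≤ M) :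
    Cfsg.IsStronglyEmbedded M ↔ Cfsg.straddlingTwoSubgroups M = ∅ := by
  haveI : Fact (Nat.Prime 2) := ⟨Nat.prime_two⟩
  constructor
  · intro hse
    refine Set.eq_empty_iff_forall_notMem.2 ?_
    rintro T ⟨hT, hT1, hTM, L, ⟨R, hR, hR1, rfl⟩, hTL, hnle⟩
    obtain ⟨P, hP, hTP, hPK, hmax⟩ := exists_max (M ⊓ Subgroup.normalizer (R : Set G)) hT (le_inf hTM hTL)
    have hP1 : P ≠ ⊥ := fun e => hT1 (eq_bot_iff.2 (e ▸ hTP))
    have hPN := (hPK.trans inf_le_right)
    have hsup : IsPGroup 2 ↥(P ⊔ R) := hP.to_sup_of_normal_right' hR hPN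
    have hL' : P ⊔ R ≤ Subgroup.normalizer (R : Set G) := sup_le hPN Subgroup.le_normalizer
    have e := grow (K := M ⊓ Subgroup.normalizer (R : Set G)) hsup le_sup_left hL' hmax
      (le_inf (inf_le_left.trans (se_normalizer hse hP hP1 (hPK.trans inf_le_left))) inf_le_right)
    exact hnle (se_normalizer hse hR hR1 ((le_sup_right.trans e.le).trans (hPK.trans inf_le_left)))
  · intro hemp
    have hloc : ∀ T : Subgroup G, IsPGroup 2 T → T ≠ ⊥ → T ≤ M → Subgroup.normalizer (T : Set G) ≤ M := by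
      intro T hT hT1 hTM
      by_contra hnle
      exact (Set.eq_empty_iff_forall_notMem.1 hemp T) ⟨hT, hT1, hTM, _, ⟨T, hT, hT1, rfl⟩, Subgroup.le_normalizer, hnle⟩
    obtain ⟨R, hR, hR1, rfl⟩ := hM
    refine (se_iff_invol _).2 ⟨fun e => hR1 ?_, ?_, fun g t ht htM htg => ?_⟩
    · haveI : R.Normal := Subgroup.normalizer_eq_top_iff.1 e
      exact eq_bot_iff.2 (hO ▸ (le_sSup ⟨‹R.Normal›, hR⟩ : R ≤ Cfsg.pCore 2 G))
    · obtain ⟨n, hn⟩ := IsPGroup.iff_card.1 hR
      rcases n with _ | n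
      · exact absurd (Subgroup.eq_bot_of_card_le R (by rw [hn]; rfl)) hR1
      · exact even_iff_two_dvd.2 (dvd_trans (hn ▸ dvd_pow_self 2 (by omega)) (Subgroup.card_dvd_of_le Subgroup.le_normalizer))
    set M := Subgroup.normalizer (R : Set G) with hMdef
    have hK : t ∈ M ⊓ M.map (MulAut.conj g).toMonoidHom := ⟨htM, mem_conj_map.2 htg⟩
    have htp : IsPGroup 2 ↥(Subgroup.zpowers t) := IsPGroup.of_card (n := 1) (by rw [Nat.card_zpowers, ht, pow_one])
    obtain ⟨P, hP, hTP, hPK, hmax⟩ := exists_max (M ⊓ M.map (MulAut.conj g).toMonoidHom) htp (Subgroup.zpowers_le.2 hK)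
    have hP1 : P ≠ ⊥ := fun e => by
      have : t ∈ P := hTP (Subgroup.mem_zpowers t)
      rw [e, Subgroup.mem_bot] at this
      rw [this, orderOf_one] at ht
      exact absurd ht (by norm_num)
    have hP' : IsPGroup 2 ↥(P.map (MulAut.conj g⁻¹).toMonoidHom) := hP.map _
    have hP'M : P.map (MulAut.conj g⁻¹).toMonoidHom ≤ M := by
      rintro _ ⟨x, hx, rfl⟩
      simpa using mem_conj_map.1 (hPK hx).2
    have hN1 := hloc P hP hP1 (hPK.trans inf_le_left)
    have hN2 : Subgroup.normalizer (P : Set G) ≤ M.map (MulAut.conj g).toMonoidHom := by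
      intro n hn
      refine mem_conj_map.2 (hloc _ hP' ((Subgroup.map_eq_bot_iff_of_injective _ (MulAut.conj g⁻¹).injective).not.2 hP1) hP'M ?_)
      have := Subgroup.le_normalizer_map (MulAut.conj g⁻¹).toMonoidHom (Subgroup.mem_map_of_mem _ hn)
      simpa using this
    obtain ⟨Q, hQ⟩ := hP.exists_le_sylow
    have e := grow (L := (⊤ : Subgroup G)) Q.isPGroup' hQ le_top hmax (inf_le_left.trans (le_inf hN1 hN2))
    have hQM : (Q : Subgroup G) ≤ M := e.le.trans (hPK.trans inf_le_left)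
    have hQ'M : ((g⁻¹ • Q : Sylow 2 G) : Subgroup G) ≤ M := by
      rw [Sylow.coe_subgroup_smul, e]
      exact hP'M
    obtain ⟨m, hm⟩ := MulAction.exists_smul_eq (↥M) (Q.subtype hQM) ((g⁻¹ • Q).subtype hQ'M)
    rw [Sylow.smul_subtype hQM m] at hm
    have hm' : (m : G) • Q = g⁻¹ • Q := Sylow.subtype_injective hm
    have h2 : g * (m : G) ∈ Subgroup.normalizer ((Q : Subgroup G) : Set G) := by
      exact Sylow.smul_eq_iff_mem_normalizer.1 (by rw [mul_smul, hm', smul_inv_smul] : (g * (m : G)) • Q = Q)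
    rw [e] at h2
    have h3 := hN1 h2
    have := M.mul_mem h3 (M.inv_mem m.2)
    rwa [mul_inv_cancel_right] at this

end Cfsg.Agent.S2947
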