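import Cfsg.Statements.S2955
import Cfsg.Agent.Inv.SylowChain

set_option autoImplicit false
open Cfsg

namespace Cfsg.Agent.S2955

/-- Let p be a prime dividing the order of the finite group G and 𝓕 a conjugation-closed family of subgroups that controls Sylow p-intersections in G. Suppose the Sylow p-subgroups of G are chain-connected: any two of them are joined by a chain of Sylow p-subgroups, consecutive ones distinct with nontrivial intersection, all containing the intersection of the two ends (equivalently, the graph on the Sylow p-subgroups whose edges are the distinct pairs meeting nontrivially is connected). Then for every Sylow p-subgroup S, G is generated by N_G(S) together with the members of 𝓕 that meet S in a Sylow p-subgroup of themselves. -/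
theorem result {G : Type*} [Group G] [Finite G] (p : ℕ) [Fact p.Prime] (hdiv : p ∣ Nat.card G)
    (𝓕 : Set (Subgroup G)) (h𝓕 : Cfsg.IsNormalSet 𝓕) (hc : Cfsg.ControlsSylowIntersections p 𝓕)
    (hconn : Cfsg.IsSylowChainConnected p G) (S : Sylow p G) :
    (⨆ X ∈ Cfsg.sylowMembers p 𝓕 (S : Subgroup G), X) ⊔ Subgroup.normalizer ((S : Subgroup G) : Set G) = ⊤ := by
  open CfsgLib.Inv in
  exact (by
    set Y : Subgroup G := ⨆ X ∈ Cfsg.sylowMembers p 𝓕 (S : Subgroup G), X with hY
    have hmem : ∀ X ∈ Cfsg.sylowMembers p 𝓕 (S : Subgroup G), X ≤ Y := fun X hX =>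
      le_iSup₂_of_le X hX le_rfl
    -- neighbours of S
    have nb : ∀ T : Sylow p G, (S : Subgroup G) ⊓ (T : Subgroup G) ≠ ⊥ →
        ∃ y ∈ Y, (T : Subgroup G) = Cfsg.subgroupConjRight y (S : Subgroup G) := by
      intro T hT
      rcases eq_or_ne S T with rfl | hne
      · exact ⟨1, one_mem _, (conjR_one _).symm⟩
      obtain ⟨n, c, X, x, h0, hl, h⟩ := hc S T hne hT
      have key : ∀ i : Fin (n + 1), ∃ y ∈ Y, (c i : Subgroup G) = Cfsg.subgroupConjRight y (S : Subgroup G) := by
        intro i
        induction i using Fin.induction with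
        | zero => exact ⟨1, one_mem _, by rw [h0, conjR_one]⟩
        | succ i ih =>
          obtain ⟨y, hy, hye⟩ := ih
          obtain ⟨hX1, -, hx, hxe, -⟩ := h i
          have hX' : Cfsg.subgroupConjRight y⁻¹ (X i) ∈ Cfsg.sylowMembers p 𝓕 (S : Subgroup G) := by
            have := sylowMembers_conjR h𝓕 hX1 y⁻¹
            rwa [hye, ← conjR_mul, mul_inv_cancel, conjR_one] at this
          refine ⟨y * (x i)⁻¹, ?_, ?_⟩
          · have h1 : y * (x i)⁻¹ * y⁻¹ ∈ Y := hmem _ hX' (mem_conjR.2 (by simpa [mul_assoc] using inv_mem hx))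
            have := mul_mem h1 hy
            simpa [mul_assoc] using this
          · rw [conjR_mul, ← hye, ← hxe, ← conjR_mul, mul_inv_cancel, conjR_one]
      obtain ⟨y, hy, hye⟩ := key (Fin.last n)
      exact ⟨y, hy, by rw [← hl, hye]⟩
    refine top_le_iff.1 fun g _ => ?_
    obtain ⟨T, hT⟩ := sylow_conjR S g
    obtain ⟨n, c, h0, hl, -, hadj⟩ := hconn S T
    have key : ∀ i : Fin (n + 1), ∃ y ∈ Y, (c i : Subgroup G) = Cfsg.subgroupConjRight y (S : Subgroup G) := by
      intro i
      induction i using Fin.induction with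
      | zero => exact ⟨1, one_mem _, by rw [h0, conjR_one]⟩
      | succ i ih =>
        obtain ⟨y, hy, hye⟩ := ih
        obtain ⟨T', hT'⟩ := sylow_conjR (c i.succ) y⁻¹
        have hne : (S : Subgroup G) ⊓ (T' : Subgroup G) ≠ ⊥ := fun e => (hadj i).2 (by
          rw [hye, show (c i.succ : Subgroup G) = Cfsg.subgroupConjRight y (T' : Subgroup G) by
            rw [hT', ← conjR_mul, inv_mul_cancel, conjR_one], ← conjR_inf, e]
          exact Subgroup.map_bot _)
        obtain ⟨y', hy', hye'⟩ := nb T' hne
        refine ⟨y' * y, mul_mem hy' hy, ?_⟩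
        rw [conjR_mul, ← hye', hT', ← conjR_mul, inv_mul_cancel, conjR_one]
    obtain ⟨y, hy, hye⟩ := key (Fin.last n)
    rw [hl, hT] at hye
    have hn : g * y⁻¹ ∈ Subgroup.normalizer ((S : Subgroup G) : Set G) :=
      mem_normalizer_of_conjR (by rw [conjR_mul, hye, ← conjR_mul, mul_inv_cancel, conjR_one])
    rw [show g = g * y⁻¹ * y by group]
    exact mul_mem (Subgroup.mem_sup_right hn) (Subgroup.mem_sup_left hy))

end Cfsg.Agent.S2955
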