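import Cfsg.Statements.S2956
import Cfsg.Agent.Inv.SylowChain
import Cfsg.Agent.Solv.Basic

set_option autoImplicit false
open Cfsg

namespace Cfsg.Agent.S2956

/-- One step of a chain over `D`. -/
def CStep {G : Type*} [Group G] (p : ℕ) (𝓖 : Set (Subgroup G)) (D : Subgroup G) (A B : Sylow p G) : Prop :=
  ∃ X : Subgroup G, X ∈ Cfsg.sylowMembers p 𝓖 (A : Subgroup G) ∧ X ∈ Cfsg.sylowMembers p 𝓖 (B : Subgroup G) ∧
    ∃ x ∈ X, Cfsg.subgroupConjRight x (B : Subgroup G) = (A : Subgroup G) ∧ D ≤ (B : Subgroup G) ⊓ X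

theorem cstep_mono {G : Type*} [Group G] {p : ℕ} {𝓖 : Set (Subgroup G)} {D D' : Subgroup G} (h : D ≤ D')
    {A B : Sylow p G} (hc : Relation.ReflTransGen (CStep p 𝓖 D') A B) : Relation.ReflTransGen (CStep p 𝓖 D) A B :=
  Relation.ReflTransGen.mono (r := CStep p 𝓖 D') (p := CStep p 𝓖 D)
    (fun _ _ ⟨X, hA, hB, x, hx, he, hd⟩ => ⟨X, hA, hB, x, hx, he, h.trans hd⟩) _ _ hc

theorem exists_extension {G : Type*} [Group G] [Finite G] {p : ℕ} [Fact p.Prime] {M : Subgroup G} (P : Sylow p ↥M) :
    ∃ U : Sylow p G, (P : Subgroup ↥M).map M.subtype = (U : Subgroup G) ⊓ M := by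
  obtain ⟨U, hU⟩ := (P.isPGroup'.map M.subtype).exists_le_sylow
  have h1 : (P : Subgroup ↥M) = (U : Subgroup G).subgroupOf M :=
    (P.3 U.isPGroup'.comap_subtype fun y hy => hU (Subgroup.mem_map_of_mem _ hy)).symm
  exact ⟨U, by rw [h1, Subgroup.subgroupOf_map_subtype]⟩

theorem exists_above {G : Type*} [Group G] [Finite G] {p : ℕ} [Fact p.Prime] {M Y : Subgroup G}
    (hY : IsPGroup p Y) (hYM : Y ≤ M) :
    ∃ U : Sylow p G, Y ≤ (U : Subgroup G) ∧ ∃ P : Sylow p ↥M, (P : Subgroup ↥M).map M.subtype = (U : Subgroup G) ⊓ M := by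
  obtain ⟨P, hP⟩ := (hY.of_equiv (Subgroup.subgroupOfEquivOfLe hYM).symm).exists_le_sylow
  obtain ⟨U, hU⟩ := exists_extension P
  refine ⟨U, fun y hy => ?_, P, hU⟩
  have : y ∈ (P : Subgroup ↥M).map M.subtype := ⟨⟨y, hYM hy⟩, hP hy, rfl⟩
  exact ((hU.le this : y ∈ (U : Subgroup G) ⊓ M)).1

theorem exists_grow {G : Type*} [Group G] [Finite G] {p : ℕ} [Fact p.Prime] (A : Sylow p G) {D : Subgroup G}
    (hDA : D ≤ (A : Subgroup G)) (hne : D ≠ (A : Subgroup G)) :
    D < (A : Subgroup G) ⊓ Subgroup.normalizer (D : Set G) := by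
  haveI := A.isPGroup'.isNilpotent
  obtain ⟨a, ha, haD⟩ := SetLike.exists_of_lt (Group.normalizerCondition_of_isNilpotent
    (D.subgroupOf (A : Subgroup G)) (lt_top_iff_ne_top.2 fun e =>
      hne (le_antisymm hDA (Subgroup.subgroupOf_eq_top.1 e))))
  refine lt_of_le_of_ne (le_inf hDA Subgroup.le_normalizer) fun e => haD ?_
  have haN : (a : G) ∈ Subgroup.normalizer (D : Set G) := Subgroup.mem_normalizer_fintype fun d hd =>
    (Subgroup.mem_normalizer_iff.1 ha ⟨d, hDA hd⟩).1 hd
  show (a : G) ∈ D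
  rw [e]; exact ⟨a.2, haN⟩

open CfsgLib.Inv in
theorem control_aux {G : Type*} [Group G] [Finite G] (p : ℕ) [Fact p.Prime]
    (f : Subgroup G → Set (Subgroup G)) (hf : Cfsg.IsNormalizerFunctor p f)
    (hf1 : ∀ P : Subgroup G, IsPGroup p ↥P → P ≠ ⊥ → ∀ F ∈ f P, F ≠ ⊥) :
    Cfsg.ControlsSylowIntersections p
      (Cfsg.functorFamily p f ⊤ ∪ {M | Cfsg.IsMaximalPLocal p M ∧ ¬ Cfsg.IsFunctorRegular p f M}) := by
  set 𝓖 := Cfsg.functorFamily p f ⊤ ∪ {M | Cfsg.IsMaximalPLocal p M ∧ ¬ Cfsg.IsFunctorRegular p f M} with h𝓖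
  have hmax : ∀ K : Subgroup G, Cfsg.IsPLocal p K → ∃ M, Cfsg.IsMaximalPLocal p M ∧ K ≤ M := by
    intro K hK
    obtain ⟨M, hM⟩ := (Set.toFinite {M : Subgroup G | Cfsg.IsPLocal p M ∧ K ≤ M}).exists_maximal ⟨K, hK, le_rfl⟩
    exact ⟨M, ⟨hM.1.1, fun N hN hMN => le_antisymm (hM.2 ⟨hN, hM.1.2.trans hMN⟩ hMN) hMN⟩, hM.1.2⟩
  have main : ∀ k : ℕ, ∀ D : Subgroup G, Nat.card G - Nat.card D ≤ k → D ≠ ⊥ →
      ∀ A B : Sylow p G, D ≤ (A : Subgroup G) → D ≤ (B : Subgroup G) → Relation.ReflTransGen (CStep p 𝓖 D) A B := by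
    intro k
    induction k using Nat.strong_induction_on with
    | _ k ih =>
    intro D hk hD0 A B hDA hDB
    by_cases hAB : A = B
    · rw [hAB]
    have hne : ∀ C C' : Sylow p G, C ≠ C' → D ≤ (C : Subgroup G) → D ≤ (C' : Subgroup G) → D ≠ (C : Subgroup G) :=
      fun C C' hCC hC hC' e => hCC (Sylow.ext (Subgroup.eq_of_le_of_card_ge (e ▸ hC')
        (le_of_eq (by rw [Sylow.card_eq_multiplicity, Sylow.card_eq_multiplicity]))))
    -- chains over larger subgroups
    have big : ∀ E : Subgroup G, D ≤ E → D ≠ E → ∀ C C' : Sylow p G, E ≤ (C : Subgroup G) → E ≤ (C' : Subgroup G) →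
        Relation.ReflTransGen (CStep p 𝓖 D) C C' := by
      intro E hDE hne' C C' hC hC'
      have hlt : Nat.card D < Nat.card E :=
        Set.Finite.card_lt_card (Set.toFinite _) (SetLike.coe_ssubset_coe.2 (lt_of_le_of_ne hDE hne'))
      have hle := Subgroup.card_le_card_group E
      exact cstep_mono hDE (ih (Nat.card G - Nat.card E) (by omega) E le_rfl (fun e => hD0 (le_bot_iff.1 (e ▸ hDE)))
        C C' hC hC')
    -- inside a maximal local subgroup
    have inM : ∀ j : ℕ, ∀ (M : Subgroup G), Cfsg.IsMaximalPLocal p M → ∀ (U V : Sylow p G) (P Q : Sylow p ↥M),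
        (P : Subgroup ↥M).map M.subtype = (U : Subgroup G) ⊓ M → (Q : Subgroup ↥M).map M.subtype = (V : Subgroup G) ⊓ M →
        D ≤ (U : Subgroup G) ⊓ M → D ≤ (V : Subgroup G) ⊓ M → Nat.card D < Nat.card (P : Subgroup ↥M) →
        Nat.card G - Nat.card (P : Subgroup ↥M) ≤ j → Relation.ReflTransGen (CStep p 𝓖 D) U V := by
      intro j
      induction j using Nat.strong_induction_on with
      | _ j ihj =>
      intro M hM U V P Q hP hQ hDU hDV hDP hj
      have hcardM : ∀ R : Sylow p ↥M, Nat.card (R : Subgroup ↥M) = Nat.card (P : Subgroup ↥M) := fun R => by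
        rw [Sylow.card_eq_multiplicity, Sylow.card_eq_multiplicity]
      by_cases hreg : Cfsg.IsFunctorRegular p f M
      swap
      · -- a single step with `M`
        obtain ⟨m, hm⟩ := MulAction.exists_smul_eq ↥M Q P
        obtain ⟨V', hV'⟩ := sylow_conjR V ((m : G)⁻¹)
        have hV'M : (V' : Subgroup G) ⊓ M = (U : Subgroup G) ⊓ M := by
          have hM' : Cfsg.subgroupConjRight ((m : G)⁻¹) M = M := conjR_mem_self (inv_mem m.2)
          have e : Cfsg.subgroupConjRight ((m : G)⁻¹) ((V : Subgroup G) ⊓ M) = (V' : Subgroup G) ⊓ M := by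
            rw [conjR_inf, hM', hV']
          rw [← e, ← hQ]
          rw [← hP, ← hm, Cfsg.subgroupConjRight, Subgroup.map_map, Sylow.coe_subgroup_smul,
            CfsgLib.Solv.conj_smul_eq_map, Subgroup.map_map]
          congr 1
          ext z; simp
        refine (big ((U : Subgroup G) ⊓ M) hDU (fun e => ?_) U V' inf_le_left (hV'M ▸ inf_le_left)).tail ?_
        · have h' := congrArg (fun X : Subgroup G => Nat.card X) e
          rw [← hP, CfsgLib.Solv.card_map_subtype] at h'
          omega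
        · refine ⟨M, ⟨Or.inr ⟨hM, hreg⟩, P, by rw [hV'M, hP]⟩, ⟨Or.inr ⟨hM, hreg⟩, Q, hQ⟩,
            (m : G)⁻¹, inv_mem m.2, hV'.symm, hDV⟩
      -- the regular case
      by_cases hPQ : P = Q
      · refine big ((U : Subgroup G) ⊓ M) hDU (fun e => ?_) U V inf_le_left ?_
        · have h' := congrArg (fun X : Subgroup G => Nat.card X) e
          rw [← hP, CfsgLib.Solv.card_map_subtype] at h'
          omega
        · rw [← hP, hPQ, hQ]; exact inf_le_left
      have hDP' : ∀ d ∈ D, ∃ hd : d ∈ M, (⟨d, hd⟩ : ↥M) ∈ (P : Subgroup ↥M) ⊓ (Q : Subgroup ↥M) := by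
        intro d hd
        refine ⟨(hDU hd).2, ?_, ?_⟩
        · have h := hP.ge (hDU hd)
          obtain ⟨z, hz, hze⟩ := h
          rwa [show (⟨d, _⟩ : ↥M) = z from Subtype.ext hze.symm]
        · have h := hQ.ge (hDV hd)
          obtain ⟨z, hz, hze⟩ := h
          rwa [show (⟨d, _⟩ : ↥M) = z from Subtype.ext hze.symm]
      have hPQne : (P : Subgroup ↥M) ⊓ (Q : Subgroup ↥M) ≠ ⊥ := fun e => hD0 (eq_bot_iff.2 fun d hd => by
        obtain ⟨hdM, hd'⟩ := hDP' d hd
        rw [e, Subgroup.mem_bot] at hd'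
        exact Subgroup.mem_bot.2 (congrArg Subtype.val hd'))
      obtain ⟨n, c, X, x, h0, hl, hstep⟩ := hreg P Q hPQ hPQne
      choose W hW using fun i => exists_extension (c i)
      have hDc : ∀ i : Fin (n + 1), D ≤ (W i : Subgroup G) ⊓ M := by
        intro i d hd
        obtain ⟨hdM, hd'⟩ := hDP' d hd
        refine (hW i).le ⟨⟨d, hdM⟩, ?_, rfl⟩
        induction i using Fin.cases with
        | zero => rw [h0]; exact hd'.1
        | succ i => exact ((hstep i).2.2.2.2 hd').1
      have ebig : ∀ (R : Sylow p ↥M) (C C' : Sylow p G), (R : Subgroup ↥M).map M.subtype ≤ (C : Subgroup G) →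
          (R : Subgroup ↥M).map M.subtype ≤ (C' : Subgroup G) → D ≤ (R : Subgroup ↥M).map M.subtype →
          Relation.ReflTransGen (CStep p 𝓖 D) C C' := by
        intro R C C' hC hC' hDR
        refine big _ hDR (fun e => ?_) C C' hC hC'
        have h' := congrArg (fun X : Subgroup G => Nat.card X) e
        rw [CfsgLib.Solv.card_map_subtype, hcardM R] at h'
        omega
      have hchain : ∀ i : Fin (n + 1), Relation.ReflTransGen (CStep p 𝓖 D) U (W i) := by
        intro i
        induction i using Fin.induction with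
        | zero => exact ebig (c 0) _ _ (h0 ▸ hP ▸ inf_le_left) ((hW 0).le.trans inf_le_left) (hW 0 ▸ hDc 0)
        | succ i hi =>
          refine hi.trans ?_
          obtain ⟨⟨⟨Y, ⟨R, F, hF, rfl⟩, hYX⟩, Q1, hQ1⟩, ⟨-, Q2, hQ2⟩, hx, hxe, -⟩ := hstep i
          set R' := (R : Subgroup ↥M).map M.subtype with hR'
          have hR'p : IsPGroup p R' := R.isPGroup'.map M.subtype
          have hNR : Subgroup.normalizer (R' : Set G) ≤ Subgroup.normalizer (F : Set G) := ((hf R' hR'p).1 F hF).2
          have hRX : (R : Subgroup ↥M) ≤ X i := by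
            rw [← hYX]
            intro z hz
            exact ⟨z.2, hNR (Subgroup.le_normalizer (Subgroup.mem_map_of_mem M.subtype hz))⟩
          have hfull : ∀ (C : Sylow p ↥M) (Q' : Sylow p ↥(X i)),
              (Q' : Subgroup ↥(X i)).map (X i).subtype = (C : Subgroup ↥M) ⊓ X i →
              (C : Subgroup ↥M).map M.subtype ≤ Subgroup.normalizer (F : Set G) := by
            intro C Q' hQ'
            obtain ⟨R₁, hR₁⟩ := (R.isPGroup'.of_equiv (Subgroup.subgroupOfEquivOfLe hRX).symm).exists_le_sylow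
            have h1 : Nat.card (R : Subgroup ↥M) ≤ Nat.card ((C : Subgroup ↥M) ⊓ X i : Subgroup ↥M) := by
              rw [← hQ', CfsgLib.Solv.card_map_subtype, Sylow.card_eq_multiplicity Q', ← Sylow.card_eq_multiplicity R₁,
                ← CfsgLib.Solv.card_subgroupOf hRX]
              exact Subgroup.card_le_of_le hR₁
            have hCX : (C : Subgroup ↥M) ≤ X i := inf_eq_left.1
              (Subgroup.eq_of_le_of_card_ge inf_le_left ((le_of_eq ((hcardM C).trans (hcardM R).symm)).trans h1))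
            rintro _ ⟨z, hz, rfl⟩
            have := hCX hz
            rw [← hYX] at this
            exact this.2
          have hA : (c i.castSucc : Subgroup ↥M).map M.subtype ≤ Subgroup.normalizer (F : Set G) := hfull _ Q1 hQ1
          have hB : (c i.succ : Subgroup ↥M).map M.subtype ≤ Subgroup.normalizer (F : Set G) := hfull _ Q2 hQ2
          have hR'ne : R' ≠ ⊥ := fun e => by
            have h' : Nat.card R' = 1 := by rw [e, Subgroup.card_bot]
            rw [hR', CfsgLib.Solv.card_map_subtype, hcardM R] at h'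
            have := Nat.card_pos (α := D)
            omega
          have hKloc : Cfsg.IsPLocal p (Subgroup.normalizer (F : Set G)) :=
            ⟨F, hR'p.to_le ((hf R' hR'p).1 F hF).1, hf1 R' hR'p hR'ne F hF, rfl⟩
          obtain ⟨S₁, hS₁⟩ := hR'p.exists_le_sylow
          by_cases hfullG : R' = (S₁ : Subgroup G)
          · -- the local Sylow subgroups are Sylow in `G`
            have hcg : ∀ (C : Sylow p G), Nat.card (C : Subgroup G) = Nat.card (P : Subgroup ↥M) := fun C => by
              rw [Sylow.card_eq_multiplicity, ← Sylow.card_eq_multiplicity S₁, ← hfullG, hR',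
                CfsgLib.Solv.card_map_subtype, hcardM R]
            have hWeq : ∀ i', (c i' : Subgroup ↥M).map M.subtype = (W i' : Subgroup G) := fun i' =>
              Subgroup.eq_of_le_of_card_ge ((hW i').le.trans inf_le_left)
                (le_of_eq (by rw [CfsgLib.Solv.card_map_subtype, hcardM (c i'), hcg]))
            have hfam : Subgroup.normalizer (F : Set G) ∈ 𝓖 := by
              refine Or.inl ⟨S₁.subtype (le_top : (S₁ : Subgroup G) ≤ ⊤), F, ?_, (top_inf_eq _).symm⟩
              rw [Sylow.coe_subtype, Subgroup.subgroupOf_map_subtype, inf_top_eq, ← hfullG]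
              exact hF
            have hmem : ∀ C : Sylow p G, (C : Subgroup G) ≤ Subgroup.normalizer (F : Set G) →
                Subgroup.normalizer (F : Set G) ∈ Cfsg.sylowMembers p 𝓖 (C : Subgroup G) := fun C hC =>
              ⟨hfam, C.subtype hC, by rw [Sylow.coe_subtype, Subgroup.subgroupOf_map_subtype]⟩
            refine Relation.ReflTransGen.single ⟨_, hmem _ (hWeq _ ▸ hA), hmem _ (hWeq _ ▸ hB), (x i : G), ?_, ?_, ?_⟩
            · rw [← hYX] at hx; exact hx.2
            · rw [← hWeq, ← hWeq, ← hxe, Cfsg.subgroupConjRight, Cfsg.subgroupConjRight, Subgroup.map_map, Subgroup.map_map]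
              congr 1
            · exact fun d hd => ⟨(hDc i.succ hd).1, hB ((hW i.succ).ge (hDc i.succ hd))⟩
          -- pass to a larger local subgroup
          obtain ⟨M₂, hM₂, hKM₂⟩ := hmax _ hKloc
          obtain ⟨U₁, hU₁, P₁, hP₁⟩ := exists_above ((c i.castSucc).isPGroup'.map M.subtype) (hA.trans hKM₂)
          obtain ⟨V₁, hV₁, Q₁, hQ₁⟩ := exists_above ((c i.succ).isPGroup'.map M.subtype) (hB.trans hKM₂)
          obtain ⟨U₂, hU₂, P₂, hP₂⟩ := exists_above (S₁.isPGroup'.to_le inf_le_left)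
            ((inf_le_right.trans hNR).trans hKM₂ : (S₁ : Subgroup G) ⊓ Subgroup.normalizer (R' : Set G) ≤ M₂)
          have hlt : Nat.card (P : Subgroup ↥M) < Nat.card (P₁ : Subgroup ↥M₂) := by
            have h1 : Nat.card R' < Nat.card ((S₁ : Subgroup G) ⊓ Subgroup.normalizer (R' : Set G) : Subgroup G) :=
              Set.Finite.card_lt_card (Set.toFinite _) (exists_grow S₁ hS₁ hfullG)
            have h2 : Nat.card ((S₁ : Subgroup G) ⊓ Subgroup.normalizer (R' : Set G) : Subgroup G) ≤
                Nat.card (P₂ : Subgroup ↥M₂) := by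
              rw [← CfsgLib.Solv.card_map_subtype M₂, hP₂]
              exact Subgroup.card_le_of_le (le_inf hU₂ ((inf_le_right.trans hNR).trans hKM₂))
            have h3 : Nat.card R' = Nat.card (P : Subgroup ↥M) := (CfsgLib.Solv.card_map_subtype M _).trans (hcardM R)
            rw [Sylow.card_eq_multiplicity P₁, ← Sylow.card_eq_multiplicity P₂]
            omega
          have hgrp := Subgroup.card_le_card_group (P : Subgroup ↥M)
          have hMG := Subgroup.card_le_card_group M
          have hP₁G := Subgroup.card_le_card_group (P₁ : Subgroup ↥M₂)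
          have hM₂G := Subgroup.card_le_card_group M₂
          have step2 := ihj (Nat.card G - Nat.card (P₁ : Subgroup ↥M₂)) (by omega) M₂ hM₂ U₁ V₁ P₁ Q₁ hP₁ hQ₁
            (le_inf ((hW _ ▸ hDc i.castSucc).trans hU₁) ((hW _ ▸ hDc i.castSucc).trans (hA.trans hKM₂)))
            (le_inf ((hW _ ▸ hDc i.succ).trans hV₁) ((hW _ ▸ hDc i.succ).trans (hB.trans hKM₂)))
            (hDP.trans hlt) le_rfl
          exact ((ebig (c i.castSucc) (W i.castSucc) U₁ ((hW _).le.trans inf_le_left) hU₁ (hW _ ▸ hDc _)).trans step2).trans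
            (ebig (c i.succ) V₁ (W i.succ) hV₁ ((hW _).le.trans inf_le_left) (hW _ ▸ hDc _))
      refine (hchain (Fin.last n)).trans (ebig (c (Fin.last n)) _ _ ((hW _).le.trans inf_le_left) ?_ (hW _ ▸ hDc _))
      rw [hl, hQ]; exact inf_le_left
    -- move to a maximal local subgroup containing the normalizer
    obtain ⟨M, hM, hNM⟩ := hmax (Subgroup.normalizer (D : Set G)) ⟨D, A.isPGroup'.to_le hDA, hD0, rfl⟩
    have hgA := exists_grow A hDA (hne A B hAB hDA hDB)
    have hgB := exists_grow B hDB (hne B A (Ne.symm hAB) hDB hDA)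
    obtain ⟨U, hU, P, hP⟩ := exists_above (A.isPGroup'.to_le inf_le_left)
      (inf_le_right.trans hNM : (A : Subgroup G) ⊓ Subgroup.normalizer (D : Set G) ≤ M)
    obtain ⟨V, hV, Q, hQ⟩ := exists_above (B.isPGroup'.to_le inf_le_left)
      (inf_le_right.trans hNM : (B : Subgroup G) ⊓ Subgroup.normalizer (D : Set G) ≤ M)
    have hDM : D ≤ M := Subgroup.le_normalizer.trans hNM
    have hcard : Nat.card D < Nat.card (P : Subgroup ↥M) := by
      refine lt_of_lt_of_le (Set.Finite.card_lt_card (Set.toFinite _) hgA) ?_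
      rw [← CfsgLib.Solv.card_map_subtype M, hP]
      exact Subgroup.card_le_of_le (le_inf hU (inf_le_right.trans hNM))
    exact ((big _ hgA.le hgA.ne A U inf_le_left hU).trans
      (inM _ M hM U V P Q hP hQ (le_inf (hgA.le.trans hU) hDM) (le_inf (hgB.le.trans hV) hDM) hcard le_rfl)).trans
      (big _ hgB.le hgB.ne V B hV inf_le_left)
  intro S T hST hne
  set D := (S : Subgroup G) ⊓ (T : Subgroup G) with hD
  have hlist : ∀ C : Sylow p G, Relation.ReflTransGen (CStep p 𝓖 D) S C →
      ∃ (n : ℕ) (c : Fin (n + 1) → Sylow p G), c 0 = S ∧ c (Fin.last n) = C ∧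
        ∀ i : Fin n, CStep p 𝓖 D (c i.castSucc) (c i.succ) := by
    intro C hC
    induction hC with
    | refl => exact ⟨0, fun _ => S, rfl, rfl, fun i => i.elim0⟩
    | @tail C C' _ hCC ih =>
      obtain ⟨n, c, h0, hl, hadj⟩ := ih
      refine ⟨n + 1, Fin.snoc c C', by rw [← Fin.castSucc_zero, Fin.snoc_castSucc, h0], Fin.snoc_last _ _,
        fun i => ?_⟩
      induction i using Fin.lastCases with
      | last => rw [Fin.snoc_castSucc, hl, Fin.succ_last, Fin.snoc_last]; exact hCC
      | cast i => rw [Fin.snoc_castSucc, ← Fin.castSucc_succ, Fin.snoc_castSucc]; exact hadj i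
  obtain ⟨n, c, h0, hl, hadj⟩ := hlist T (main _ D le_rfl hne S T inf_le_left inf_le_right)
  choose X hXA hXB x hx hxe hDle using hadj
  exact ⟨n, c, X, x, h0, hl, fun i => ⟨hXA i, hXB i, hx i, hxe i, hDle i⟩⟩

/-- Let p be a prime dividing the order of the finite group G, and f an assignment to every p-subgroup P of a set f(P) of subgroups of P, each normalized by N_G(P), compatible with conjugation, such that for P ≠ 1 the members of f(P) are nontrivial. Let 𝓕 be the family of the normalizers N_G(F) of the members F of f(S) over the Sylow p-subgroups S of G, and 𝓕' the family of the maximal p-local subgroups M of G that are singular for f (the corresponding family of normalizers inside M does not control Sylow p-intersections in M). Then 𝓕 ∪ 𝓕' controls Sylow p-intersections in G. -/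
theorem result {G : Type*} [Group G] [Finite G] (p : ℕ) [Fact p.Prime] (hdiv : p ∣ Nat.card G)
    (f : Subgroup G → Set (Subgroup G)) (hf : Cfsg.IsNormalizerFunctor p f)
    (hf1 : ∀ P : Subgroup G, IsPGroup p ↥P → P ≠ ⊥ → ∀ F ∈ f P, F ≠ ⊥)
    (𝓕 𝓕' : Set (Subgroup G)) (h𝓕 : 𝓕 = Cfsg.functorFamily p f ⊤)
    (h𝓕' : 𝓕' = {M | Cfsg.IsMaximalPLocal p M ∧ ¬ Cfsg.IsFunctorRegular p f M}) :
    Cfsg.ControlsSylowIntersections p (𝓕 ∪ 𝓕') := by
  subst h𝓕 h𝓕'
  exact control_aux p f hf hf1

end Cfsg.Agent.S2956
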