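import Cfsg.Statements.S2957
import Cfsg.Agent.Inv.SylowChain
import Cfsg.Agent.Solv.Basic

set_option autoImplicit false
open Cfsg

namespace Cfsg.Agent.S2957

/-- One step of a chain over `D`. -/
def Step {G : Type*} [Group G] (p : ℕ) (f : Subgroup G → Set (Subgroup G)) (D : Subgroup G) (A B : Sylow p G) : Prop :=
  ∃ F : Subgroup G, (∃ P : Sylow p G, F ∈ f (P : Subgroup G)) ∧ (A : Subgroup G) ≤ Subgroup.normalizer (F : Set G) ∧
    (B : Subgroup G) ≤ Subgroup.normalizer (F : Set G) ∧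
    ∃ x ∈ Subgroup.normalizer (F : Set G), Cfsg.subgroupConjRight x (B : Subgroup G) = (A : Subgroup G) ∧
      D ≤ (B : Subgroup G) ⊓ Subgroup.normalizer (F : Set G)

open CfsgLib.Inv in
theorem step_conj {G : Type*} [Group G] [Finite G] {p : ℕ} [Fact p.Prime] {f : Subgroup G → Set (Subgroup G)}
    (hf : Cfsg.IsNormalizerFunctor p f) {D : Subgroup G} {A B A' B' : Sylow p G} (g : G) (h : Step p f D A B)
    (hA : (A' : Subgroup G) = Cfsg.subgroupConjRight g (A : Subgroup G))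
    (hB : (B' : Subgroup G) = Cfsg.subgroupConjRight g (B : Subgroup G)) :
    Step p f (Cfsg.subgroupConjRight g D) A' B' := by
  obtain ⟨F, ⟨P, hP⟩, h1, h2, x, hx, hxe, hD⟩ := h
  obtain ⟨P', hP'⟩ := sylow_conjR P g
  have hF' : Cfsg.subgroupConjRight g F ∈ f (P' : Subgroup G) := by
    rw [hP', Cfsg.subgroupConjRight, (hf _ P.isPGroup').2 g⁻¹]
    exact ⟨F, hP, rfl⟩
  have hN : Subgroup.normalizer ((Cfsg.subgroupConjRight g F : Subgroup G) : Set G) =
      Cfsg.subgroupConjRight g (Subgroup.normalizer (F : Set G)) := by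
    rw [Cfsg.subgroupConjRight, Cfsg.subgroupConjRight]
    exact (Subgroup.map_equiv_normalizer_eq F (MulAut.conj g⁻¹)).symm
  refine ⟨_, ⟨P', hF'⟩, ?_, ?_, g⁻¹ * x * g, ?_, ?_, ?_⟩
  · rw [hN, hA]; exact Subgroup.map_mono h1
  · rw [hN, hB]; exact Subgroup.map_mono h2
  · rw [hN, mem_conjR]; simpa [mul_assoc] using hx
  · rw [hA, hB, ← conjR_mul, show g * (g⁻¹ * x * g) = x * g by group, conjR_mul, hxe]
  · rw [hN, hB, ← conjR_inf]; exact Subgroup.map_mono hD

open CfsgLib.Inv in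
theorem chain_in {G : Type*} [Group G] [Finite G] {p : ℕ} [Fact p.Prime] {f : Subgroup G → Set (Subgroup G)}
    (hf : Cfsg.IsNormalizerFunctor p f) {M : Subgroup G} (hr : Cfsg.IsFunctorRegular p f M)
    (S₀ : Sylow p G) (hS₀ : (S₀ : Subgroup G) ≤ M) {A B : Sylow p G} (hA : (A : Subgroup G) ≤ M)
    (hB : (B : Subgroup G) ≤ M) {D : Subgroup G} (hDA : D ≤ (A : Subgroup G)) (hDB : D ≤ (B : Subgroup G))
    (hD : D ≠ ⊥) : Relation.ReflTransGen (Step p f D) A B := by
  by_cases hAB : A = B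
  · rw [hAB]
  let A' : Sylow p ↥M := A.subtype hA
  let B' : Sylow p ↥M := B.subtype hB
  have hne : A' ≠ B' := fun e => hAB (Sylow.ext (by
    have e' := congrArg (fun Z : Sylow p ↥M => (Z : Subgroup ↥M).map M.subtype) e
    simpa [A', B', Subgroup.subgroupOf_map_subtype, inf_of_le_left hA, inf_of_le_left hB] using e'))
  have hmap : ∀ (C : Sylow p ↥M), ∃ C' : Sylow p G, (C' : Subgroup G) = (C : Subgroup ↥M).map M.subtype := by
    intro C
    obtain ⟨k, hk⟩ := MulAction.exists_smul_eq ↥M (S₀.subtype hS₀) C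
    refine ⟨MulAut.conj (k : G) • S₀, ?_⟩
    rw [← hk]
    ext z
    simp only [Sylow.coe_subgroup_smul, Sylow.coe_subtype]
    constructor
    · intro hz
      have hz' : (k : G)⁻¹ * z * k ∈ (S₀ : Subgroup G) := CfsgLib.Solv.mem_conj_smul_iff.1 hz
      have hzM : z ∈ M := by
        have := mul_mem (mul_mem k.2 (hS₀ hz')) (inv_mem k.2)
        simpa [mul_assoc] using this
      exact ⟨⟨z, hzM⟩, CfsgLib.Solv.mem_conj_smul_iff.2 (Subgroup.mem_subgroupOf.2 hz'), rfl⟩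
    · rintro ⟨w, hw, rfl⟩
      exact CfsgLib.Solv.mem_conj_smul_iff.2 (Subgroup.mem_subgroupOf.1 (CfsgLib.Solv.mem_conj_smul_iff.1 hw))
  have hne' : (A' : Subgroup ↥M) ⊓ (B' : Subgroup ↥M) ≠ ⊥ := by
    intro e
    refine hD (eq_bot_iff.2 fun d hd => ?_)
    have : (⟨d, hA (hDA hd)⟩ : ↥M) ∈ (A' : Subgroup ↥M) ⊓ (B' : Subgroup ↥M) := ⟨hDA hd, hDB hd⟩
    rw [e, Subgroup.mem_bot] at this
    exact Subgroup.mem_bot.2 (congrArg Subtype.val this)
  obtain ⟨n, c, X, x, h0, hl, hstep⟩ := hr A' B' hne hne'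
  choose c' hc' using fun i => hmap (c i)
  have key : ∀ i : Fin (n + 1), Relation.ReflTransGen (Step p f D) A (c' i) := by
    intro i
    induction i using Fin.induction with
    | zero =>
      have : c' 0 = A := Sylow.ext (by
        rw [hc', h0]; show (((A : Subgroup G).subgroupOf M)).map M.subtype = _
        rw [Subgroup.subgroupOf_map_subtype, inf_of_le_left hA])
      rw [this]
    | succ i ih =>
      refine ih.tail ?_
      obtain ⟨⟨⟨Y, ⟨P, F, hF, rfl⟩, hYX⟩, Q1, hQ1⟩, ⟨-, Q2, hQ2⟩, hx, hxe, hint⟩ := hstep i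
      obtain ⟨P', hP'⟩ := hmap P
      rw [← hP'] at hF
      have hPN : (P' : Subgroup G) ≤ Subgroup.normalizer (F : Set G) :=
        Subgroup.le_normalizer.trans ((hf _ P'.isPGroup').1 F hF).2
      have hPX : (P : Subgroup ↥M) ≤ X i := by
        rw [← hYX]
        intro z hz
        exact ⟨z.2, hPN (hP' ▸ Subgroup.mem_map_of_mem M.subtype hz)⟩
      have hfull : ∀ (C : Sylow p ↥M) (Q : Sylow p ↥(X i)),
          (Q : Subgroup ↥(X i)).map (X i).subtype = (C : Subgroup ↥M) ⊓ X i → (C : Subgroup ↥M) ≤ X i := by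
        intro C Q hQ
        obtain ⟨Q', hQ'⟩ := (P.isPGroup'.of_equiv (Subgroup.subgroupOfEquivOfLe hPX).symm).exists_le_sylow
        have h1 : Nat.card (P : Subgroup ↥M) ≤ Nat.card ((C : Subgroup ↥M) ⊓ X i : Subgroup ↥M) := by
          rw [← hQ, CfsgLib.Solv.card_map_subtype, Sylow.card_eq_multiplicity Q, ← Sylow.card_eq_multiplicity Q',
            ← CfsgLib.Solv.card_subgroupOf hPX]
          exact Subgroup.card_le_of_le hQ'
        have h2 : Nat.card (C : Subgroup ↥M) = Nat.card (P : Subgroup ↥M) := by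
          rw [Sylow.card_eq_multiplicity, Sylow.card_eq_multiplicity]
        exact inf_eq_left.1 (Subgroup.eq_of_le_of_card_ge inf_le_left (h2.le.trans h1))
      have hin : ∀ (C : Sylow p ↥M), (C : Subgroup ↥M) ≤ X i →
          (C : Subgroup ↥M).map M.subtype ≤ Subgroup.normalizer (F : Set G) := by
        intro C hC
        rintro _ ⟨z, hz, rfl⟩
        have := hC hz
        rw [← hYX] at this
        exact this.2
      refine ⟨F, ⟨P', hF⟩, hc' i.castSucc ▸ hin _ (hfull _ Q1 hQ1), hc' i.succ ▸ hin _ (hfull _ Q2 hQ2),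
        (x i : G), ?_, ?_, ?_⟩
      · rw [← hYX] at hx; exact hx.2
      · rw [hc', hc', ← hxe, Cfsg.subgroupConjRight, Cfsg.subgroupConjRight, Subgroup.map_map, Subgroup.map_map]
        congr 1
      · intro d hd
        have hd' := hint (show (⟨d, hA (hDA hd)⟩ : ↥M) ∈ (A' : Subgroup ↥M) ⊓ (B' : Subgroup ↥M) from ⟨hDA hd, hDB hd⟩)
        refine ⟨hc' i.succ ▸ Subgroup.mem_map_of_mem M.subtype hd'.1, ?_⟩
        have := hd'.2
        rw [← hYX] at this
        exact this.2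
  have : c' (Fin.last n) = B := Sylow.ext (by
    rw [hc', hl]; show (((B : Subgroup G).subgroupOf M)).map M.subtype = _
    rw [Subgroup.subgroupOf_map_subtype, inf_of_le_left hB])
  exact this ▸ key (Fin.last n)

open CfsgLib.Inv in
theorem regular_of_product {G : Type*} [Group G] [Finite G] (p : ℕ) [Fact p.Prime]
    (f : Subgroup G → Set (Subgroup G)) (hf : Cfsg.IsNormalizerFunctor p f) (S₀ : Sylow p G)
    (G₁ G₂ : Subgroup G) (h₁ : (S₀ : Subgroup G) ≤ G₁) (h₂ : (S₀ : Subgroup G) ≤ G₂)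
    (hprod : ∀ g : G, ∃ g₁ ∈ G₁, ∃ g₂ ∈ G₂, g = g₁ * g₂)
    (hr₁ : Cfsg.IsFunctorRegular p f G₁) (hr₂ : Cfsg.IsFunctorRegular p f G₂) :
    Cfsg.IsFunctorRegular p f ⊤ := by
  -- it is enough to find chains in `G`
  suffices main : ∀ A B : Sylow p G, (A : Subgroup G) ⊓ (B : Subgroup G) ≠ ⊥ →
      Relation.ReflTransGen (Step p f ((A : Subgroup G) ⊓ (B : Subgroup G))) A B by
    intro S T hST hne
    obtain ⟨A, hA⟩ : ∃ A : Sylow p G, (A : Subgroup G) = (S : Subgroup ↥(⊤ : Subgroup G)).map (Subgroup.subtype ⊤) :=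
      ⟨S.mapSurjective (f := Subgroup.subtype ⊤) (fun g => ⟨⟨g, trivial⟩, rfl⟩), Sylow.coe_mapSurjective _ _⟩
    obtain ⟨B, hB⟩ : ∃ B : Sylow p G, (B : Subgroup G) = (T : Subgroup ↥(⊤ : Subgroup G)).map (Subgroup.subtype ⊤) :=
      ⟨T.mapSurjective (f := Subgroup.subtype ⊤) (fun g => ⟨⟨g, trivial⟩, rfl⟩), Sylow.coe_mapSurjective _ _⟩
    have hD : (A : Subgroup G) ⊓ (B : Subgroup G) ≠ ⊥ := by
      rw [hA, hB, ← Subgroup.map_inf _ _ _ (Subgroup.subtype_injective _)]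
      exact fun e => hne ((Subgroup.map_eq_bot_iff_of_injective _ (Subgroup.subtype_injective _)).1 e)
    set D := (A : Subgroup G) ⊓ (B : Subgroup G) with hDdef
    have hlist : ∀ C : Sylow p G, Relation.ReflTransGen (Step p f D) A C →
        ∃ (n : ℕ) (c : Fin (n + 1) → Sylow p G), c 0 = A ∧ c (Fin.last n) = C ∧
          ∀ i : Fin n, Step p f D (c i.castSucc) (c i.succ) := by
      intro C hC
      induction hC with
      | refl => exact ⟨0, fun _ => A, rfl, rfl, fun i => i.elim0⟩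
      | @tail C C' _ hCC ih =>
        obtain ⟨n, c, h0, hl, hadj⟩ := ih
        refine ⟨n + 1, Fin.snoc c C', by rw [← Fin.castSucc_zero, Fin.snoc_castSucc, h0], Fin.snoc_last _ _,
          fun i => ?_⟩
        induction i using Fin.lastCases with
        | last => rw [Fin.snoc_castSucc, hl, Fin.succ_last, Fin.snoc_last]; exact hCC
        | cast i => rw [Fin.snoc_castSucc, ← Fin.castSucc_succ, Fin.snoc_castSucc]; exact hadj i
    obtain ⟨n, c, h0, hl, hadj⟩ := hlist B (main A B hD)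
    choose F hF hAF hBF x hx hxe hDle using hadj
    let up : Sylow p G → Sylow p ↥(⊤ : Subgroup G) := fun C => C.subtype le_top
    have hup : ∀ (C : Sylow p G), ((up C : Sylow p ↥(⊤ : Subgroup G)) : Subgroup ↥(⊤ : Subgroup G)).map (Subgroup.subtype ⊤) = C := by
      intro C
      show (((C : Subgroup G).subgroupOf ⊤)).map _ = _
      rw [Subgroup.subgroupOf_map_subtype, inf_top_eq]
    have hminj := Subgroup.map_injective (Subgroup.subtype_injective (⊤ : Subgroup G))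
    have hfam : ∀ i, (Subgroup.normalizer (F i : Set G)).subgroupOf ⊤ ∈
        (fun X : Subgroup G => X.subgroupOf ⊤) '' Cfsg.functorFamily p f ⊤ := fun i => by
      obtain ⟨P, hP⟩ := hF i
      exact ⟨_, ⟨up P, F i, by rw [hup]; exact hP, (top_inf_eq _).symm⟩, rfl⟩
    have hmem : ∀ (i : Fin n) (C : Sylow p G), (C : Subgroup G) ≤ Subgroup.normalizer (F i : Set G) →
        (Subgroup.normalizer (F i : Set G)).subgroupOf ⊤ ∈
          Cfsg.sylowMembers p ((fun X : Subgroup G => X.subgroupOf ⊤) '' Cfsg.functorFamily p f ⊤)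
            ((up C : Sylow p ↥(⊤ : Subgroup G)) : Subgroup ↥(⊤ : Subgroup G)) := fun i C hC => by
      have hle : ((up C : Sylow p ↥(⊤ : Subgroup G)) : Subgroup ↥(⊤ : Subgroup G)) ≤
          (Subgroup.normalizer (F i : Set G)).subgroupOf ⊤ := fun z hz => hC hz
      refine ⟨hfam i, (up C).subtype hle, ?_⟩
      rw [inf_of_le_left hle, Sylow.coe_subtype, Subgroup.subgroupOf_map_subtype, inf_of_le_left hle]
    refine ⟨n, fun i => up (c i), fun i => (Subgroup.normalizer (F i : Set G)).subgroupOf ⊤,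
      fun i => ⟨x i, trivial⟩, Sylow.ext (hminj (by rw [hup, h0, hA])), Sylow.ext (hminj (by rw [hup, hl, hB])),
      fun i => ⟨hmem i _ (hAF i), hmem i _ (hBF i), hx i, hminj ?_, ?_⟩⟩
    · rw [hup, ← hxe i, Cfsg.subgroupConjRight, Cfsg.subgroupConjRight, Subgroup.map_map]
      rw [← hup (c i.succ), Subgroup.map_map]
      congr 1
    · intro z hz
      have hzD : (z : G) ∈ D := ⟨hA ▸ Subgroup.mem_map_of_mem _ hz.1, hB ▸ Subgroup.mem_map_of_mem _ hz.2⟩
      exact ⟨(hDle i hzD).1, (hDle i hzD).2⟩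
  intro A B hne
  set D := (A : Subgroup G) ⊓ (B : Subgroup G) with hD
  -- move `A` to `S₀`
  obtain ⟨a, ha'⟩ := exists_conjR_eq S₀ A
  have ha := ha'.symm
  obtain ⟨B₀, hB₀⟩ := sylow_conjR B a⁻¹
  suffices h0 : Relation.ReflTransGen (Step p f (Cfsg.subgroupConjRight a⁻¹ D)) S₀ B₀ by
    obtain ⟨tr, htr⟩ : ∃ tr : Sylow p G → Sylow p G, ∀ C, (tr C : Subgroup G) = Cfsg.subgroupConjRight a (C : Subgroup G) :=
      ⟨fun C => (sylow_conjR C a).choose, fun C => (sylow_conjR C a).choose_spec⟩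
    have h := Relation.ReflTransGen.lift tr (fun X Y hXY => step_conj hf a hXY (htr X) (htr Y)) _ _ h0
    rw [← conjR_mul, inv_mul_cancel, conjR_one] at h
    simp only [Function.onFun] at h
    rwa [show tr S₀ = A from Sylow.ext (by rw [htr, ha]), show tr B₀ = B from Sylow.ext (by
      rw [htr, hB₀, ← conjR_mul, inv_mul_cancel, conjR_one])] at h
  set D₀ := Cfsg.subgroupConjRight a⁻¹ D with hD₀
  have hD₀S : D₀ ≤ (S₀ : Subgroup G) := by
    have := Subgroup.map_mono (f := (MulAut.conj a⁻¹⁻¹).toMonoidHom) (inf_le_left : D ≤ (A : Subgroup G))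
    refine this.trans ?_
    show Cfsg.subgroupConjRight a⁻¹ (A : Subgroup G) ≤ _
    rw [ha, ← conjR_mul, mul_inv_cancel, conjR_one]
  have hD₀B : D₀ ≤ (B₀ : Subgroup G) := hB₀ ▸ Subgroup.map_mono inf_le_right
  have hD₀ne : D₀ ≠ ⊥ := fun e => hne
    ((Subgroup.map_eq_bot_iff_of_injective _ (MulAut.conj a⁻¹⁻¹).injective).1 e)
  obtain ⟨g, hg'⟩ := exists_conjR_eq S₀ B₀
  obtain ⟨g₁, hg₁, g₂, hg₂, rfl⟩ := hprod g
  have hg := hg'.symm
  rw [conjR_mul] at hg
  set D' := Cfsg.subgroupConjRight g₂⁻¹ D₀ with hD'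
  obtain ⟨U, hU⟩ := sylow_conjR S₀ g₁
  have hD'U : D' ≤ (U : Subgroup G) := by
    refine (Subgroup.map_mono hD₀B).trans ?_
    show Cfsg.subgroupConjRight g₂⁻¹ (B₀ : Subgroup G) ≤ _
    rw [hg, ← hU, ← conjR_mul, mul_inv_cancel, conjR_one]
  have hUG₁ : (U : Subgroup G) ≤ G₁ := by
    intro u hu
    rw [hU, mem_conjR] at hu
    simpa [mul_assoc] using mul_mem (mul_mem (inv_mem hg₁) (h₁ hu)) hg₁
  have hD'G₂ : D' ≤ G₂ := by
    intro d hd
    rw [hD', mem_conjR, inv_inv] at hd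
    simpa [mul_assoc] using mul_mem (mul_mem hg₂ (h₂ (hD₀S hd))) (inv_mem hg₂)
  obtain ⟨T, hT⟩ := (U.isPGroup'.to_le hD'U : IsPGroup p D').of_equiv
    (Subgroup.subgroupOfEquivOfLe (le_inf (hD'U.trans hUG₁) hD'G₂ : D' ≤ G₁ ⊓ G₂)).symm |>.exists_le_sylow
  obtain ⟨k, hk⟩ := MulAction.exists_smul_eq ↥(G₁ ⊓ G₂) (S₀.subtype (le_inf h₁ h₂)) T
  obtain ⟨V, hV⟩ := sylow_conjR S₀ ((k : G)⁻¹)
  have hD'V : D' ≤ (V : Subgroup G) := by
    intro d hd
    have h := hT (x := ⟨d, le_inf (hD'U.trans hUG₁) hD'G₂ hd⟩) hd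
    rw [← hk, Sylow.coe_subgroup_smul, CfsgLib.Solv.mem_conj_smul_iff, Sylow.coe_subtype, Subgroup.mem_subgroupOf] at h
    rw [hV, mem_conjR, inv_inv]
    exact h
  have hVle : (V : Subgroup G) ≤ G₁ ⊓ G₂ := by
    intro v hv
    rw [hV, mem_conjR, inv_inv] at hv
    simpa [mul_assoc] using mul_mem (mul_mem k.2 (le_inf h₁ h₂ hv)) (inv_mem k.2)
  obtain ⟨R, hR⟩ := sylow_conjR V g₂
  have hRG₂ : (R : Subgroup G) ≤ G₂ := by
    intro r hr
    rw [hR, mem_conjR] at hr
    simpa [mul_assoc] using mul_mem (mul_mem (inv_mem hg₂) (hVle hr).2) hg₂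
  have hD₀R : D₀ ≤ (R : Subgroup G) := by
    intro d hd
    rw [hR, mem_conjR]
    exact hD'V (by rw [hD', mem_conjR]; simpa [mul_assoc] using hd)
  have c1 := chain_in hf hr₂ S₀ h₂ h₂ hRG₂ hD₀S hD₀R hD₀ne
  have hD'ne : D' ≠ ⊥ := fun e => hD₀ne
    ((Subgroup.map_eq_bot_iff_of_injective _ (MulAut.conj g₂⁻¹⁻¹).injective).1 e)
  have c2 := chain_in hf hr₁ S₀ h₁ (hVle.trans inf_le_left) hUG₁ hD'V hD'U hD'ne
  obtain ⟨tr, htr⟩ : ∃ tr : Sylow p G → Sylow p G, ∀ C, (tr C : Subgroup G) = Cfsg.subgroupConjRight g₂ (C : Subgroup G) :=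
    ⟨fun C => (sylow_conjR C g₂).choose, fun C => (sylow_conjR C g₂).choose_spec⟩
  have c2' := Relation.ReflTransGen.lift tr (fun X Y hXY => step_conj hf g₂ hXY (htr X) (htr Y)) _ _ c2
  simp only [Function.onFun] at c2'
  rw [hD', ← conjR_mul, inv_mul_cancel, conjR_one, show tr V = R from Sylow.ext (by rw [htr, hR]),
    show tr U = B₀ from Sylow.ext (by rw [htr, hg, hU])] at c2'
  exact c1.trans c2'

/-- Let p be a prime dividing the order of the finite group G, f an equivariant assignment of a set of subgroups f(P) of P to every p-subgroup P, each normalized by N_G(P), and S a Sylow p-subgroup. If G = G₁G₂ for subgroups G₁, G₂ both containing S and both regular for f (in each Gᵢ, the family of normalizers in Gᵢ of the members of f(P), P a Sylow p-subgroup of Gᵢ, controls Sylow p-intersections), then G itself is regular for f. -/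
theorem result {G : Type*} [Group G] [Finite G] (p : ℕ) [Fact p.Prime] (hdiv : p ∣ Nat.card G)
    (f : Subgroup G → Set (Subgroup G)) (hf : Cfsg.IsNormalizerFunctor p f) (S : Sylow p G)
    (G₁ G₂ : Subgroup G) (h₁ : (S : Subgroup G) ≤ G₁) (h₂ : (S : Subgroup G) ≤ G₂)
    (hprod : ∀ g : G, ∃ g₁ ∈ G₁, ∃ g₂ ∈ G₂, g = g₁ * g₂)
    (hr₁ : Cfsg.IsFunctorRegular p f G₁) (hr₂ : Cfsg.IsFunctorRegular p f G₂) :
    Cfsg.IsFunctorRegular p f ⊤ := by
  exact regular_of_product p f hf S G₁ G₂ h₁ h₂ hprod hr₁ hr₂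

end Cfsg.Agent.S2957
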