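import Cfsg.Statements.S2958
import Cfsg.Agent.Solv.Basic

set_option autoImplicit false
open Cfsg

namespace Cfsg.Agent.S2958

/-- Let X, A, B be subgroups of a group G such that G is generated by the conjugates of X and every conjugate of X is contained in A or in B. Then A = G or B = G. -/
theorem result {G : Type*} [Group G] (X A B : Subgroup G) (hgen : (⨆ g : G, X.map (MulAut.conj g).toMonoidHom) = ⊤) (hcover : ∀ g : G, X.map (MulAut.conj g).toMonoidHom ≤ A ∨ X.map (MulAut.conj g).toMonoidHom ≤ B) : A = ⊤ ∨ B = ⊤ := by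
  exact (by
    rcases eq_or_ne B ⊤ with hB | hB
    · exact Or.inr hB
    refine Or.inl ?_
    let W : Subgroup G := ⨆ g : {g : G // ¬ X.map (MulAut.conj g).toMonoidHom ≤ B},
      X.map (MulAut.conj (g : G)).toMonoidHom
    have hmc : ∀ (b g : G), (X.map (MulAut.conj g).toMonoidHom).map (MulAut.conj b).toMonoidHom =
        X.map (MulAut.conj (b * g)).toMonoidHom := fun b g => by
      rw [Subgroup.map_map, map_mul]; rfl
    have hWA : W ≤ A := iSup_le fun g => (hcover g).resolve_right g.2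
    have hBW : ∀ b ∈ B, ∀ w ∈ W, b * w * b⁻¹ ∈ W := by
      intro b hb w hw
      have hmap : W.map (MulAut.conj b).toMonoidHom ≤ W := by
        rw [Subgroup.map_iSup]
        refine iSup_le fun g => ?_
        rw [hmc]
        refine le_iSup (fun g : {g : G // ¬ X.map (MulAut.conj g).toMonoidHom ≤ B} =>
          X.map (MulAut.conj (g : G)).toMonoidHom) ⟨b * g, fun h => g.2 ?_⟩
        intro y hy
        have h1 : b * y * b⁻¹ ∈ B := h (hmc b g ▸ Subgroup.mem_map.2 ⟨y, hy, rfl⟩)
        have := mul_mem (mul_mem (inv_mem hb) h1) hb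
        simpa [mul_assoc] using this
      exact hmap (Subgroup.mem_map.2 ⟨w, hw, rfl⟩)
    have hWn : W.Normal := by
      rw [← Subgroup.normalizer_eq_top_iff, eq_top_iff, ← hgen]
      refine iSup_le fun g => ?_
      by_cases hg : X.map (MulAut.conj g).toMonoidHom ≤ B
      · exact hg.trans (CfsgLib.Solv.le_normalizer_iff_forall_conj_mem.2 hBW)
      · exact (le_iSup (fun g : {g : G // ¬ X.map (MulAut.conj g).toMonoidHom ≤ B} =>
          X.map (MulAut.conj (g : G)).toMonoidHom) ⟨g, hg⟩).trans Subgroup.le_normalizer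
    obtain ⟨g₀, hg₀⟩ : ∃ g, ¬ X.map (MulAut.conj g).toMonoidHom ≤ B := by
      by_contra h
      push Not at h
      exact hB (top_le_iff.1 (hgen ▸ iSup_le h))
    refine top_le_iff.1 (le_trans ?_ hWA)
    rw [← hgen]
    refine iSup_le fun g => ?_
    rintro _ ⟨x, hx, rfl⟩
    have h1 : g₀ * x * g₀⁻¹ ∈ W :=
      le_iSup (fun g : {g : G // ¬ X.map (MulAut.conj g).toMonoidHom ≤ B} =>
        X.map (MulAut.conj (g : G)).toMonoidHom) ⟨g₀, hg₀⟩ (Subgroup.mem_map.2 ⟨x, hx, rfl⟩)
    have h2 := hWn.conj_mem _ h1 (g * g₀⁻¹)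
    simpa [mul_assoc] using h2)

end Cfsg.Agent.S2958
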