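import Cfsg.Statements.S2959
import Cfsg.Agent.Inv.CharPLocal

set_option autoImplicit false
open Cfsg

namespace Cfsg.Agent.S2959

/-- Let G be a finite group of characteristic p, that is C_G(O_p(G)) ≤ O_p(G), with p prime, and let L be a subgroup of G normalized by O_p(G). Then L has characteristic p: C_L(O_p(L)) ≤ O_p(L). -/
theorem result {G : Type*} [Group G] [Finite G] {p : ℕ} [Fact p.Prime] (hG : Subgroup.centralizer (Cfsg.pCore p G : Set G) ≤ Cfsg.pCore p G) (L : Subgroup G) (hL : Cfsg.pCore p G ≤ Subgroup.normalizer (L : Set G)) : Subgroup.centralizer (Cfsg.pCore p ↥L : Set ↥L) ≤ Cfsg.pCore p ↥L := by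
  open CfsgLib.Inv in
  exact (by
    haveI := CfsgLib.Solv.pCore_normal G p
    refine charP_of_coprime fun x hxo hxc => Subtype.ext ?_
    rw [← Subgroup.orderOf_coe] at hxo
    have hQ := CfsgLib.Solv.pCore_isPGroup G p
    refine eq_one_of_coprime_mem hQ (hG (kill_of_nilpotent hQ hxo
      (by rw [Subgroup.normalizer_eq_top]; exact Subgroup.mem_top _) (n := 2) ?_)) hxo
    show ⁅⁅Cfsg.pCore p G, Subgroup.zpowers (x : G)⁆, Subgroup.zpowers (x : G)⁆ = ⊥
    rw [Subgroup.commutator_eq_bot_iff_le_centralizer, Subgroup.le_centralizer_iff, Subgroup.zpowers_le]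
    have hle : ⁅Cfsg.pCore p G, Subgroup.zpowers (x : G)⁆ ≤ Cfsg.pCore p G ⊓ L :=
      le_inf (Subgroup.commutator_le_left _ _) ((Subgroup.commutator_mono le_rfl
        (Subgroup.zpowers_le.2 x.2)).trans (Subgroup.le_normalizer_iff_commutator_le_right.1 hL))
    refine Subgroup.centralizer_le hle (Subgroup.mem_centralizer_iff.2 fun c hc => ?_)
    haveI : ((Cfsg.pCore p G ⊓ L).subgroupOf L).Normal := Subgroup.normal_subgroupOf_iff_le_normalizer inf_le_right |>.2
      (CfsgLib.Solv.le_normalizer_inf_of_le (by rw [Subgroup.normalizer_eq_top]; exact le_top) Subgroup.le_normalizer)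
    exact congrArg Subtype.val (Subgroup.mem_centralizer_iff.1 hxc ⟨c, (Subgroup.mem_inf.1 hc).2⟩
      (CfsgLib.Solv.le_pCore (N := (Cfsg.pCore p G ⊓ L).subgroupOf L) (hQ.to_le inf_le_left).comap_subtype hc)))

end Cfsg.Agent.S2959
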