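import Cfsg.Statements.S2960
import Cfsg.Agent.Inv.CharPLocal

set_option autoImplicit false
open Cfsg

namespace Cfsg.Agent.S2960

/-- Let G be a finite group of characteristic p (C_G(O_p(G)) ≤ O_p(G)), p prime, T a Sylow p-subgroup of G and Q a normal subgroup of T with C_T(Q) ≤ Q. Then C_G(Q) ≤ Q. -/
theorem result {G : Type*} [Group G] [Finite G] {p : ℕ} [Fact p.Prime] (hG : Subgroup.centralizer (Cfsg.pCore p G : Set G) ≤ Cfsg.pCore p G) (T : Sylow p G) (Q : Subgroup G) (hQT : Q ≤ (T : Subgroup G)) (hQn : (T : Subgroup G) ≤ Subgroup.normalizer (Q : Set G)) (hC : (T : Subgroup G) ⊓ Subgroup.centralizer (Q : Set G) ≤ Q) : Subgroup.centralizer (Q : Set G) ≤ Q := by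
  open CfsgLib.Inv in
  exact (by
    set R := Cfsg.pCore p G with hR
    haveI := CfsgLib.Solv.pCore_normal G p
    have hRp := CfsgLib.Solv.pCore_isPGroup G p
    have hQp : IsPGroup p Q := T.2.to_le hQT
    set C := Subgroup.centralizer (Q : Set G) with hCdef
    have hNR : ∀ Y : Subgroup G, Y ≤ Subgroup.normalizer (R : Set G) := fun Y => by
      rw [Subgroup.normalizer_eq_top]; exact le_top
    have hcx : ∀ x y : G, Commute y x → ∀ z ∈ Subgroup.zpowers x, Commute y z := by
      rintro x y hy _ ⟨i, rfl⟩; exact hy.zpow_right i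
    have hone : ∀ x ∈ C, (orderOf x).Coprime p → x = 1 := by
      intro x hx hxo
      have h := CfsgLib.Solv.thompson_pq (P := Q) (Q := Subgroup.zpowers x) hQp
        (by rw [Nat.card_zpowers]; exact hxo)
        (fun b hb => Subgroup.mem_centralizer_iff.2 fun z hz =>
          (hcx x b (Subgroup.mem_centralizer_iff.1 hx b hb) z hz).symm.eq)
        R hRp (hNR _) (hNR _)
        (fun r hr => Subgroup.mem_centralizer_iff.2 fun z hz =>
          (hcx x r (Subgroup.mem_centralizer_iff.1 hx r (hC (Subgroup.mem_inf.2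
            ⟨CfsgLib.Solv.pCore_le_sylow T (Subgroup.mem_inf.1 hr).1, (Subgroup.mem_inf.1 hr).2⟩))) z hz).symm.eq)
      exact eq_one_of_coprime_mem hRp (hG (h (Subgroup.mem_zpowers x))) hxo
    set N := Subgroup.normalizer (Q : Set G) with hN
    have hCN : C ≤ N := Subgroup.centralizer_le_normalizer _
    haveI : (C.subgroupOf N).Normal := by
      refine (Subgroup.normal_subgroupOf_iff_le_normalizer hCN).2 ?_
      rw [CfsgLib.Solv.le_normalizer_iff_forall_conj_mem]
      intro n hn c hc
      refine Subgroup.mem_centralizer_iff.2 fun b hb => ?_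
      have h1 := Subgroup.mem_centralizer_iff.1 hc _ ((Subgroup.mem_normalizer_iff''.1 hn b).1 hb)
      calc b * (n * c * n⁻¹) = n * (n⁻¹ * b * n * c) * n⁻¹ := by group
        _ = n * (c * (n⁻¹ * b * n)) * n⁻¹ := by rw [h1]
        _ = _ := by group
    intro c hc
    have hp' : IsPGroup p (C.subgroupOf N) := (isPGroup_of_elements hone).comap_subtype
    exact hC (Subgroup.mem_inf.2 ⟨(IsPGroup.le_sylow_of_normal hp' (T.subtype hQn) :
      C.subgroupOf N ≤ _) (show (⟨c, hCN hc⟩ : N) ∈ C.subgroupOf N from hc), hc⟩))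

end Cfsg.Agent.S2960
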