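import Cfsg.Statements.S2961
import Cfsg.Agent.Inv.CharPLocal
import Cfsg.Agent.S2960

set_option autoImplicit false
open Cfsg

namespace Cfsg.Agent.S2961

/-- Let G be a finite group of characteristic p (C_G(O_p(G)) ≤ O_p(G)), p prime, T a Sylow p-subgroup of G and Q a normal subgroup of T with C_T(Q) ≤ Q. Then every subgroup L of G containing Q has characteristic p: C_L(O_p(L)) ≤ O_p(L). -/
theorem result {G : Type*} [Group G] [Finite G] {p : ℕ} [Fact p.Prime] (hG : Subgroup.centralizer (Cfsg.pCore p G : Set G) ≤ Cfsg.pCore p G) (T : Sylow p G) (Q : Subgroup G) (hQT : Q ≤ (T : Subgroup G)) (hQn : (T : Subgroup G) ≤ Subgroup.normalizer (Q : Set G)) (hC : (T : Subgroup G) ⊓ Subgroup.centralizer (Q : Set G) ≤ Q) (L : Subgroup G) (hQL : Q ≤ L) : Subgroup.centralizer (Cfsg.pCore p ↥L : Set ↥L) ≤ Cfsg.pCore p ↥L := by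
  open CfsgLib.Inv in
  open scoped commutatorElement in
  exact (by
    have hCQ := Cfsg.Agent.S2960.result hG T Q hQT hQn hC
    set R := Cfsg.pCore p G with hR
    haveI := CfsgLib.Solv.pCore_normal G p
    haveI := CfsgLib.Solv.pCore_normal ↥L p
    have hRp := CfsgLib.Solv.pCore_isPGroup G p
    have hQp : IsPGroup p Q := T.2.to_le hQT
    set P := Cfsg.pCoreOf p L with hP
    have hPL : P ≤ L := Subgroup.map_subtype_le _
    have hPp : IsPGroup p P := (CfsgLib.Solv.pCore_isPGroup ↥L p).map _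
    have hLP : L ≤ Subgroup.normalizer (P : Set G) := by
      refine le_trans ?_ (Subgroup.le_normalizer_map L.subtype)
      rw [Subgroup.normalizer_eq_top, ← MonoidHom.range_eq_map, Subgroup.range_subtype]
    -- elements of L moving R only inside L
    let K : Subgroup G :=
      { carrier := {k | k ∈ L ∧ ∀ r ∈ R, ⁅r, k⁆ ∈ L}
        one_mem' := ⟨one_mem _, fun r _ => by simp⟩
        mul_mem' := fun {a b} ha hb => ⟨mul_mem ha.1 hb.1, fun r hr => by
          rw [show ⁅r, a * b⁆ = ⁅r, a⁆ * (a * ⁅r, b⁆ * a⁻¹) by simp only [commutatorElement_def]; group]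
          exact mul_mem (ha.2 r hr) (mul_mem (mul_mem ha.1 (hb.2 r hr)) (inv_mem ha.1))⟩
        inv_mem' := fun {a} ha => ⟨inv_mem ha.1, fun r hr => by
          rw [show ⁅r, a⁻¹⁆ = a⁻¹ * ⁅r, a⁆⁻¹ * a by simp only [commutatorElement_def]; group]
          exact mul_mem (mul_mem (inv_mem ha.1) (inv_mem (ha.2 r hr))) ha.1⟩ }
    have hQK : Q ≤ K := by
      intro q hq
      refine ⟨hQL hq, fun r hr => ?_⟩
      rw [commutatorElement_def]
      refine hQL (mul_mem ?_ (inv_mem hq))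
      exact CfsgLib.Solv.le_normalizer_iff_forall_conj_mem.1 hQn r (CfsgLib.Solv.pCore_le_sylow T hr) q hq
    have hLK : L ≤ Subgroup.normalizer (K : Set G) := by
      rw [CfsgLib.Solv.le_normalizer_iff_forall_conj_mem]
      intro l hl k hk
      refine ⟨mul_mem (mul_mem hl hk.1) (inv_mem hl), fun r hr => ?_⟩
      rw [show ⁅r, l * k * l⁻¹⁆ = l * ⁅l⁻¹ * r * l, k⁆ * l⁻¹ by simp only [commutatorElement_def]; group]
      have hr' : l⁻¹ * r * l ∈ R := by
        simpa using (inferInstance : R.Normal).conj_mem r hr l⁻¹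
      exact mul_mem (mul_mem hl (hk.2 _ hr')) (inv_mem hl)
    have hRL : R ⊓ L ≤ P := by
      haveI : ((R ⊓ L).subgroupOf L).Normal := Subgroup.normal_subgroupOf_iff_le_normalizer inf_le_right |>.2
        (CfsgLib.Solv.le_normalizer_inf_of_le (by rw [Subgroup.normalizer_eq_top]; exact le_top) Subgroup.le_normalizer)
      intro c hc
      exact Subgroup.mem_map.2 ⟨⟨c, (Subgroup.mem_inf.1 hc).2⟩,
        CfsgLib.Solv.le_pCore (N := (R ⊓ L).subgroupOf L) (hRp.to_le inf_le_left).comap_subtype hc, rfl⟩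
    set M := L ⊓ Subgroup.centralizer (P : Set G) with hM
    have hLM : L ≤ Subgroup.normalizer (M : Set G) := by
      refine CfsgLib.Solv.le_normalizer_inf_of_le Subgroup.le_normalizer ?_
      rw [CfsgLib.Solv.le_normalizer_iff_forall_conj_mem]
      intro n hn c hc
      refine Subgroup.mem_centralizer_iff.2 fun b hb => ?_
      have h1 := Subgroup.mem_centralizer_iff.1 hc _ ((Subgroup.mem_normalizer_iff''.1 (hLP hn) b).1 hb)
      calc b * (n * c * n⁻¹) = n * (n⁻¹ * b * n * c) * n⁻¹ := by group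
        _ = n * (c * (n⁻¹ * b * n)) * n⁻¹ := by rw [h1]
        _ = _ := by group
    have hKMp : IsPGroup p ↥(K ⊓ M) := by
      refine isPGroup_of_elements fun x hx hxo => ?_
      obtain ⟨hxK, hxM⟩ := Subgroup.mem_inf.1 hx
      obtain ⟨hxL, hxc⟩ := Subgroup.mem_inf.1 hxM
      refine eq_one_of_coprime_mem hRp (hG (kill_of_nilpotent hRp hxo
        (by rw [Subgroup.normalizer_eq_top]; exact Subgroup.mem_top _) (n := 2) ?_)) hxo
      show ⁅⁅R, Subgroup.zpowers x⁆, Subgroup.zpowers x⁆ = ⊥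
      rw [Subgroup.commutator_eq_bot_iff_le_centralizer, Subgroup.le_centralizer_iff, Subgroup.zpowers_le]
      refine Subgroup.centralizer_le ((?_ : ⁅R, Subgroup.zpowers x⁆ ≤ R ⊓ L).trans hRL) hxc
      refine le_inf (Subgroup.commutator_le_left _ _) (Subgroup.commutator_le.2 fun r hr k hk => ?_)
      exact ((Subgroup.zpowers_le.2 hxK : Subgroup.zpowers x ≤ K) hk).2 r hr
    have hKM : K ⊓ M ≤ P := by
      have hle : K ⊓ M ≤ L := inf_le_right.trans inf_le_left
      haveI : ((K ⊓ M).subgroupOf L).Normal :=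
        (Subgroup.normal_subgroupOf_iff_le_normalizer hle).2 (CfsgLib.Solv.le_normalizer_inf_of_le hLK hLM)
      intro c hc
      exact Subgroup.mem_map.2 ⟨⟨c, hle hc⟩,
        CfsgLib.Solv.le_pCore (N := (K ⊓ M).subgroupOf L) hKMp.comap_subtype hc, rfl⟩
    refine charP_of_coprime fun x hxo hxc => Subtype.ext ?_
    rw [← Subgroup.orderOf_coe] at hxo
    have hxM : (x : G) ∈ M := by
      refine Subgroup.mem_inf.2 ⟨x.2, Subgroup.mem_centralizer_iff.2 ?_⟩
      rintro _ ⟨q, hq, rfl⟩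
      exact congrArg Subtype.val (Subgroup.mem_centralizer_iff.1 hxc q hq)
    set W := Q ⊔ (P ⊓ Subgroup.centralizer (P : Set G)) with hW
    have hQZ : Q ≤ Subgroup.normalizer ((P ⊓ Subgroup.centralizer (P : Set G) : Subgroup G) : Set G) := by
      refine CfsgLib.Solv.le_normalizer_inf_of_le (hQL.trans hLP) ?_
      rw [CfsgLib.Solv.le_normalizer_iff_forall_conj_mem]
      intro n hn c hc
      refine Subgroup.mem_centralizer_iff.2 fun b hb => ?_
      have h1 := Subgroup.mem_centralizer_iff.1 hc _ ((Subgroup.mem_normalizer_iff''.1 (hLP (hQL hn)) b).1 hb)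
      calc b * (n * c * n⁻¹) = n * (n⁻¹ * b * n * c) * n⁻¹ := by group
        _ = n * (c * (n⁻¹ * b * n)) * n⁻¹ := by rw [h1]
        _ = _ := by group
    have hWp : IsPGroup p W := hQp.to_sup_of_normal_right' (hPp.to_le inf_le_left) hQZ
    have hWc : ∀ z ∈ P ⊓ Subgroup.centralizer (P : Set G), z * (x : G) = (x : G) * z := fun z hz =>
      Subgroup.mem_centralizer_iff.1 (Subgroup.mem_inf.1 hxM).2 z (Subgroup.mem_inf.1 hz).1
    have hxq : ∀ k ∈ Subgroup.zpowers (x : G), ∀ q ∈ Q, ⁅q, k⁆ ∈ P ⊓ Subgroup.centralizer (P : Set G) := by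
      intro k hk q hq
      have hkM : k ∈ M := Subgroup.zpowers_le.2 hxM hk
      have h1 : ⁅q, k⁆ ∈ K := by
        rw [show ⁅q, k⁆ = q * (k * q⁻¹ * k⁻¹) by simp only [commutatorElement_def]; group]
        exact mul_mem (hQK hq) ((Subgroup.mem_normalizer_iff.1 (hLK (Subgroup.mem_inf.1 hkM).1) _).1 (inv_mem (hQK hq)))
      have h2 : ⁅q, k⁆ ∈ M := by
        rw [commutatorElement_def]
        exact mul_mem ((Subgroup.mem_normalizer_iff.1 (hLM (hQL hq)) k).1 hkM) (inv_mem hkM)
      exact Subgroup.mem_inf.2 ⟨hKM (Subgroup.mem_inf.2 ⟨h1, h2⟩), (Subgroup.mem_inf.1 h2).2⟩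
    have hgen : ∀ k ∈ Subgroup.zpowers (x : G), ∀ w ∈ W, ⁅w, k⁆ ∈ P ⊓ Subgroup.centralizer (P : Set G) := by
      intro k hk w hw
      obtain ⟨z, hz, q, hq, rfl⟩ := CfsgLib.Solv.exists_mul_of_mem_sup hQZ hw
      obtain ⟨i, rfl⟩ := hk
      have hzc : Commute z ((x : G) ^ i) := (show Commute z (x : G) from hWc z hz).zpow_right i
      rw [show ⁅z * q, (x : G) ^ i⁆ = z * ⁅q, (x : G) ^ i⁆ * ((x : G) ^ i * z⁻¹ * ((x : G) ^ i)⁻¹) by
        simp only [commutatorElement_def]; group, show (x : G) ^ i * z⁻¹ * ((x : G) ^ i)⁻¹ = z⁻¹ by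
        rw [hzc.inv_left.symm.eq, mul_inv_cancel_right]]
      exact mul_mem (mul_mem hz (hxq _ ⟨i, rfl⟩ q hq)) (inv_mem hz)
    have hxW : (x : G) ∈ Subgroup.normalizer (W : Set G) := by
      refine (?_ : Subgroup.zpowers (x : G) ≤ _) (Subgroup.mem_zpowers _)
      rw [CfsgLib.Solv.le_normalizer_iff_forall_conj_mem]
      intro k hk w hw
      rw [show k * w * k⁻¹ = ⁅w, k⁆⁻¹ * w by simp only [commutatorElement_def]; group]
      exact mul_mem (inv_mem (Subgroup.mem_sup_right (hgen k hk w hw))) hw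
    have hxC : (x : G) ∈ Subgroup.centralizer (W : Set G) := by
      refine kill_of_nilpotent hWp hxo hxW (n := 2) ?_
      show ⁅⁅W, Subgroup.zpowers (x : G)⁆, Subgroup.zpowers (x : G)⁆ = ⊥
      rw [Subgroup.commutator_eq_bot_iff_le_centralizer, Subgroup.le_centralizer_iff, Subgroup.zpowers_le]
      exact Subgroup.centralizer_le (Subgroup.commutator_le.2 fun w hw k hk => hgen k hk w hw)
        (Subgroup.mem_centralizer_iff.2 hWc)
    exact eq_one_of_coprime_mem hQp (hCQ (Subgroup.centralizer_le (SetLike.coe_subset_coe.2 le_sup_left) hxC)) hxo)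

end Cfsg.Agent.S2961
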