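import Cfsg.Statements.S2963


set_option autoImplicit false
open Cfsg
open scoped Pointwise

namespace Cfsg.Agent.S2963

/-- Let n be odd. If the symmetric group of degree n is a minimal parabolic group for the prime 2, that is, a Sylow 2-subgroup is not normal and lies in exactly one maximal subgroup, then n = 2^m + 1 for some natural number m. -/
theorem result (n : ℕ) (hn : Odd n) (h : Cfsg.IsPMinimal 2 (Equiv.Perm (Fin n))) : ∃ m : ℕ, n = 2 ^ m + 1 := by
  classical
  obtain ⟨S⟩ : Nonempty (Sylow 2 (Equiv.Perm (Fin n))) := inferInstance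
  obtain ⟨hnn, M, ⟨hM, hSM⟩, huniq⟩ := h S
  haveI : Fact (Nat.Prime 2) := ⟨Nat.prime_two⟩
  have hsub : ∀ K : Subgroup (Equiv.Perm (Fin n)), (S : Subgroup _) ≤ K → K ≠ ⊤ → K ≤ M := by
    intro K hSK hK
    rcases eq_top_or_exists_le_coatom K with h | ⟨N, hN, hKN⟩
    · exact absurd h hK
    · exact hKN.trans (huniq N ⟨hN, hSK.trans hKN⟩).le
  obtain ⟨x, hx⟩ : (MulAction.fixedPoints ↥(S : Subgroup (Equiv.Perm (Fin n))) (Fin n)).Nonempty := by
    have h1 := S.2.card_modEq_card_fixedPoints (Fin n)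
    rw [Nat.card_fin] at h1
    by_contra h0
    rw [Set.not_nonempty_iff_eq_empty] at h0
    rw [h0] at h1
    simp only [Nat.card_of_isEmpty] at h1
    rw [Nat.modEq_zero_iff_dvd] at h1
    exact absurd h1 (by have := Nat.odd_iff.1 hn; omega)
  have hx' : ∀ s ∈ (S : Subgroup (Equiv.Perm (Fin n))), s x = x := fun s hs => hx ⟨s, hs⟩
  obtain ⟨s, hs, y, hy⟩ : ∃ s ∈ (S : Subgroup (Equiv.Perm (Fin n))), ∃ y, s y ≠ y := by
    by_contra hne
    push Not at hne
    exact hnn (by
      rw [show (S : Subgroup (Equiv.Perm (Fin n))) = ⊥ from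
        (Subgroup.eq_bot_iff_forall _).2 fun s hs => Equiv.ext (hne s hs)]
      infer_instance)
  set O := MulAction.orbit ↥(S : Subgroup (Equiv.Perm (Fin n))) y with hO
  obtain ⟨m, hm⟩ := S.2.card_orbit y
  refine ⟨m, ?_⟩
  have hxO : x ∉ O := by
    rintro ⟨t, ht⟩
    have e : (t : Equiv.Perm (Fin n)) y = x := ht
    have hyx : y = x := (t : Equiv.Perm (Fin n)).injective (e.trans (hx' _ t.2).symm)
    exact hy (hyx ▸ hx' s hs)
  by_contra hne
  obtain ⟨z, hzO, hzx⟩ : ∃ z, z ∉ O ∧ z ≠ x := by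
    by_contra hall
    push Not at hall
    apply hne
    have he : (Finset.univ.erase x) = O.toFinset := by
      ext w
      simp only [Finset.mem_erase, Finset.mem_univ, and_true, Set.mem_toFinset]
      exact ⟨fun hw => by_contra fun h => hw (hall w h), fun hw e => hxO (e ▸ hw)⟩
    have h2 := congrArg Finset.card he
    rw [Finset.card_erase_of_mem (Finset.mem_univ x), Finset.card_univ, Fintype.card_fin, Set.toFinset_card,
      ← Nat.card_eq_fintype_card, hm] at h2
    have := x.pos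
    omega
  let KO := MulAction.stabilizer (Equiv.Perm (Fin n)) O
  let Kx := MulAction.stabilizer (Equiv.Perm (Fin n)) x
  have hSO : (S : Subgroup (Equiv.Perm (Fin n))) ≤ KO := fun t ht => by
    rw [MulAction.mem_stabilizer_iff]
    exact MulAction.smul_orbit (⟨t, ht⟩ : ↥(S : Subgroup (Equiv.Perm (Fin n)))) y
  have hswx : ∀ a b : Fin n, a ≠ x → b ≠ x → Equiv.swap a b ∈ Kx := fun a b ha hb => by
    rw [MulAction.mem_stabilizer_iff, Equiv.Perm.smul_def, Equiv.swap_apply_of_ne_of_ne ha.symm hb.symm]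
  have hKx : Kx ≠ ⊤ := fun e => by
    have h1 : Equiv.swap x z ∈ Kx := e ▸ Subgroup.mem_top _
    rw [MulAction.mem_stabilizer_iff, Equiv.Perm.smul_def, Equiv.swap_apply_left] at h1
    exact hzx h1
  have hKO : KO ≠ ⊤ := fun e => by
    have h1 : Equiv.swap x y ∈ KO := e ▸ Subgroup.mem_top _
    rw [MulAction.mem_stabilizer_iff] at h1
    apply hxO
    rw [← h1]
    exact ⟨y, MulAction.mem_orbit_self y, Equiv.swap_apply_right x y⟩
  have hzsw : Equiv.swap x z ∈ KO := by
    have key : ∀ w ∈ O, Equiv.swap x z w = w := fun w hw =>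
      Equiv.swap_apply_of_ne_of_ne (fun e => hxO (e ▸ hw)) (fun e => hzO (e ▸ hw))
    rw [MulAction.mem_stabilizer_iff]
    ext w
    constructor
    · rintro ⟨v, hv, rfl⟩
      show Equiv.swap x z v ∈ O
      rw [key v hv]; exact hv
    · exact fun hw => ⟨w, hw, key w hw⟩
  have hz : Equiv.swap x z ∈ M := hsub KO hSO hKO hzsw
  have hgen : ∀ a, a ≠ x → Equiv.swap x a ∈ M := fun a ha => by
    by_cases haz : a = z
    · exact haz ▸ hz
    have h1 : Equiv.swap z a ∈ M :=
      hsub Kx (fun t ht => hx' t ht) hKx (hswx z a hzx ha)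
    have := mul_mem (mul_mem h1 hz) h1
    rwa [show Equiv.swap z a * Equiv.swap x z * Equiv.swap z a = Equiv.swap x a by
      rw [Equiv.mul_swap_eq_swap_mul (Equiv.swap z a) x z, mul_assoc, Equiv.swap_mul_self, mul_one, Equiv.swap_apply_left, Equiv.swap_apply_of_ne_of_ne hzx.symm (Ne.symm ha)]] at this
  apply hM.1
  rw [eq_top_iff, ← Equiv.Perm.closure_isSwap, Subgroup.closure_le]
  rintro _ ⟨a, b, hab, rfl⟩
  by_cases ha : a = x
  · subst ha; exact hgen b (Ne.symm hab)
  by_cases hb : b = x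
  · subst hb; rw [Equiv.swap_comm]; exact hgen a hab
  exact hsub Kx (fun t ht => hx' t ht) hKx (hswx a b ha hb)

end Cfsg.Agent.S2963
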