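import Cfsg.Statements.S2969
import Cfsg.Agent.Inv.IsolatedP

set_option autoImplicit false
open Cfsg

namespace Cfsg.Agent.S2969

/-- Let G be a finite group, p a prime and x ∈ G an element of p-power order which is isolated in G. If R is a p-subgroup of G containing x, then N_G(R) ≤ C_G(x); in particular x lies in the centre of R. Moreover, if x lies in a normal subgroup N of a subgroup H of G, then H = N·C_H(x). -/
theorem result {G : Type*} [Group G] [Finite G] {p : ℕ} [Fact p.Prime] (x : G) (hx : ∃ k : ℕ, orderOf x = p ^ k) (hiso : Cfsg.IsIsolated x) : (∀ R : Subgroup G, IsPGroup p ↥R → x ∈ R → Subgroup.normalizer (R : Set G) ≤ Subgroup.centralizer ({x} : Set G)) ∧ (∀ H N : Subgroup G, N ≤ H → H ≤ Subgroup.normalizer (N : Set G) → x ∈ N → N ⊔ (H ⊓ Subgroup.centralizer ({x} : Set G)) = H) := by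
  open CfsgLib.Inv in
  exact (by
    have hxp := isPGroup_zpowers_of_pow hx
    refine ⟨fun R hR hxR n hn => Subgroup.mem_centralizer_singleton_iff.2 ?_, fun H N hNH hHN hxN => ?_⟩
    · have h1 := iso_eq hiso hR hxR ((Subgroup.mem_normalizer_iff.1 hn x).1 hxR)
      calc n * x = n * x * n⁻¹ * n := by group
        _ = x * n := by rw [h1]
    · refine le_antisymm (sup_le hNH inf_le_left) fun h hh => ?_
      have hy : h * x * h⁻¹ ∈ N := (Subgroup.mem_normalizer_iff.1 (hHN hh) x).1 hxN
      have hyp : IsPGroup p (Subgroup.zpowers (h * x * h⁻¹)) := by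
        rw [show Subgroup.zpowers (h * x * h⁻¹) = (Subgroup.zpowers x).map (MulAut.conj h).toMonoidHom by
          rw [MonoidHom.map_zpowers]; rfl]
        exact hxp.map _
      obtain ⟨k, hk, P, hxP, hkP⟩ := exists_conj_common_sylow hxN hy hxp hyp
      have h1 : k * h * x * (k * h)⁻¹ = x := iso_eq hiso P.2 hxP
        (by rw [show k * h * x * (k * h)⁻¹ = k * (h * x * h⁻¹) * k⁻¹ by group]; exact hkP)
      have h2 : k * h ∈ Subgroup.centralizer ({x} : Set G) := Subgroup.mem_centralizer_singleton_iff.2 (by
        calc k * h * x = k * h * x * (k * h)⁻¹ * (k * h) := by group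
          _ = x * (k * h) := by rw [h1])
      rw [show h = k⁻¹ * (k * h) by group]
      exact mul_mem (Subgroup.mem_sup_left (inv_mem hk))
        (Subgroup.mem_sup_right (Subgroup.mem_inf.2 ⟨mul_mem (hNH hk) hh, h2⟩)))

end Cfsg.Agent.S2969
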