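import Cfsg.Statements.S2970
import Cfsg.Agent.Inv.IsolatedP
import Cfsg.Agent.Solv.TransferTools

set_option autoImplicit false
open Cfsg

namespace Cfsg.Agent.S2970

/-- Let G be a finite group, p a prime and x ∈ G an element of p-power order which is isolated in G. Then the image of x in any quotient G ⧸ N is isolated in G ⧸ N; and if x ≠ 1 and the Sylow p-subgroups of G are cyclic, then G has a normal p-complement. -/
theorem result {G : Type*} [Group G] [Finite G] {p : ℕ} [Fact p.Prime] (x : G) (hx : ∃ k : ℕ, orderOf x = p ^ k) (hiso : Cfsg.IsIsolated x) : (∀ (N : Subgroup G) [N.Normal], Cfsg.IsIsolated (QuotientGroup.mk x : G ⧸ N)) ∧ (x ≠ 1 → (∀ P : Sylow p G, IsCyclic ↥(P : Subgroup G)) → Cfsg.HasNormalPComplement p G) := by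
  open CfsgLib.Inv in
  exact (by
    have hxp := isPGroup_zpowers_of_pow hx
    refine ⟨fun N _ q hq => ?_, fun hx1 hcyc => ?_⟩
    · obtain ⟨g, rfl⟩ := QuotientGroup.mk'_surjective N q
      set f := QuotientGroup.mk' N with hf
      change Commute (f x) (f g * f x * (f g)⁻¹) at hq
      change f g * f x * (f g)⁻¹ = f x
      rw [← map_inv, ← map_mul, ← map_mul] at hq ⊢
      set K := (Subgroup.centralizer ({f (g * x * g⁻¹)} : Set (G ⧸ N))).comap f with hK
      have hxK : x ∈ K := Subgroup.mem_comap.2 (Subgroup.mem_centralizer_singleton_iff.2 hq.eq)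
      have hyK : g * x * g⁻¹ ∈ K := Subgroup.mem_comap.2 (Subgroup.mem_centralizer_singleton_iff.2 rfl)
      have hyp : IsPGroup p (Subgroup.zpowers (g * x * g⁻¹)) := by
        rw [show Subgroup.zpowers (g * x * g⁻¹) = (Subgroup.zpowers x).map (MulAut.conj g).toMonoidHom by
          rw [MonoidHom.map_zpowers]; rfl]
        exact hxp.map _
      obtain ⟨k, hk, P, hxP, hkP⟩ := exists_conj_common_sylow hxK hyK hxp hyp
      have h1 : k * g * x * (k * g)⁻¹ = x := iso_eq hiso P.2 hxP
        (by rw [show k * g * x * (k * g)⁻¹ = k * (g * x * g⁻¹) * k⁻¹ by group]; exact hkP)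
      have h2 := congrArg f h1
      rw [show k * g * x * (k * g)⁻¹ = k * (g * x * g⁻¹) * k⁻¹ by group, map_mul, map_mul,
        Subgroup.mem_centralizer_singleton_iff.1 (Subgroup.mem_comap.1 hk), map_inv, mul_inv_cancel_right] at h2
      exact h2
    · obtain ⟨P, hP⟩ := hxp.exists_le_sylow
      refine CfsgLib.Solv.hnpc_of_normalizer_le_centralizer P ?_
      set N := Subgroup.normalizer ((P : Subgroup G) : Set G) with hN
      haveI := hcyc P
      obtain ⟨⟨u, hu⟩, hgen⟩ := IsCyclic.exists_zpow_surjective (G := (P : Subgroup G))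
      have hPu : ∀ y ∈ (P : Subgroup G), ∃ j : ℤ, u ^ j = y := fun y hy => by
        obtain ⟨j, hj⟩ := hgen ⟨y, hy⟩; exact ⟨j, congrArg Subtype.val hj⟩
      have hPC : (P : Subgroup G) ≤ Subgroup.centralizer ((P : Subgroup G) : Set G) := by
        intro y hy
        refine Subgroup.mem_centralizer_iff.2 fun z hz => ?_
        obtain ⟨i, rfl⟩ := hPu y hy
        obtain ⟨j, rfl⟩ := hPu z hz
        exact ((Commute.refl u).zpow_zpow j i).eq
      obtain ⟨e, he⟩ := (IsPGroup.iff_orderOf.1 P.2) ⟨u, hu⟩
      rw [Subgroup.orderOf_mk] at he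
      have hxP : x ∈ (P : Subgroup G) := hP (Subgroup.mem_zpowers x)
      obtain ⟨j, hj⟩ := hPu x hxP
      intro n hn
      obtain ⟨a, ha⟩ := hPu _ ((Subgroup.mem_normalizer_iff.1 hn u).1 hu)
      have hnx : n * x * n⁻¹ = x := iso_eq hiso P.2 hxP ((Subgroup.mem_normalizer_iff.1 hn x).1 hxP)
      have h1 : u ^ ((a - 1) * j) = 1 := by
        rw [sub_mul, one_mul, zpow_sub, zpow_mul, ha, conj_zpow, hj, hnx, mul_inv_cancel]
      have hpa : (p : ℤ) ∣ a - 1 := by
        rw [← orderOf_dvd_iff_zpow_eq_one, he] at h1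
        by_contra hpa
        have hcop : IsCoprime (((p ^ e : ℕ) : ℤ)) (a - 1) := by
          push_cast
          exact IsCoprime.pow_left (((Nat.prime_iff_prime_int.1 (Fact.out : p.Prime)).coprime_iff_not_dvd).2 hpa)
        refine hx1 ?_
        rw [← hj, ← orderOf_dvd_iff_zpow_eq_one, he]
        exact hcop.dvd_of_dvd_mul_left h1
      have hpow : ∀ k : ℕ, n ^ k * u * (n ^ k)⁻¹ = u ^ (a ^ k) := by
        intro k
        induction k with
        | zero => simp
        | succ k ih =>
          calc n ^ (k + 1) * u * (n ^ (k + 1))⁻¹ = n * (n ^ k * u * (n ^ k)⁻¹) * n⁻¹ := by rw [pow_succ']; group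
            _ = n * u ^ (a ^ k) * n⁻¹ := by rw [ih]
            _ = (n * u * n⁻¹) ^ (a ^ k) := conj_zpow.symm
            _ = _ := by rw [← ha, ← zpow_mul, ← pow_succ']
      have hae : u ^ (a ^ p ^ e) = u := by
        have hd : ((p ^ e : ℕ) : ℤ) ∣ a ^ p ^ e - 1 := by
          have := dvd_sub_pow_of_dvd_sub (p := p) (a := a) (b := 1) (by simpa using hpa) e
          rw [one_pow] at this
          push_cast
          exact dvd_trans (pow_dvd_pow _ (Nat.le_succ e)) this
        rw [← he, orderOf_dvd_iff_zpow_eq_one, zpow_sub, zpow_one, mul_inv_eq_one, he] at hd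
        exact hd
      set C := Subgroup.centralizer ((P : Subgroup G) : Set G) with hC
      have hnC : n ^ p ^ e ∈ C := by
        refine Subgroup.mem_centralizer_iff.2 fun y hy => ?_
        obtain ⟨i, rfl⟩ := hPu y hy
        have := congrArg (fun w => w ^ i) ((hpow (p ^ e)).trans hae : n ^ p ^ e * u * (n ^ p ^ e)⁻¹ = u)
        simp only [conj_zpow] at this
        calc u ^ i * n ^ p ^ e = n ^ p ^ e * u ^ i * (n ^ p ^ e)⁻¹ * n ^ p ^ e := by rw [this]
          _ = _ := by group
      haveI : (C.subgroupOf N).Normal := by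
        refine (Subgroup.normal_subgroupOf_iff_le_normalizer (Subgroup.centralizer_le_normalizer _)).2 ?_
        rw [CfsgLib.Solv.le_normalizer_iff_forall_conj_mem]
        intro n hn c hc
        refine Subgroup.mem_centralizer_iff.2 fun b hb => ?_
        have h1 := Subgroup.mem_centralizer_iff.1 hc _ ((Subgroup.mem_normalizer_iff''.1 hn b).1 hb)
        calc b * (n * c * n⁻¹) = n * (n⁻¹ * b * n * c) * n⁻¹ := by group
          _ = n * (c * (n⁻¹ * b * n)) * n⁻¹ := by rw [h1]
          _ = _ := by group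
      have hidx : (C.subgroupOf N).index.Coprime p := by
        have hd : (C.subgroupOf N).index ∣ ((P : Subgroup G).subgroupOf N).index :=
          Subgroup.index_dvd_of_le (Subgroup.comap_mono hPC)
        exact Nat.Coprime.of_dvd_left hd ((Nat.Prime.coprime_iff_not_dvd Fact.out).2
          (P.subtype Subgroup.le_normalizer).not_dvd_index).symm
      have hq : ((⟨n, hn⟩ : N) : N ⧸ C.subgroupOf N) ^ p ^ e = 1 := by
        rw [← QuotientGroup.mk_pow, QuotientGroup.eq_one_iff]
        exact hnC
      have ho := Nat.eq_one_of_dvd_coprimes (hidx.pow_right e)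
        (by rw [Subgroup.index_eq_card]; exact orderOf_dvd_natCard _) (orderOf_dvd_of_pow_eq_one hq)
      exact (QuotientGroup.eq_one_iff (N := C.subgroupOf N) (⟨n, hn⟩ : N)).1 (orderOf_eq_one_iff.1 ho))

end Cfsg.Agent.S2970
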