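import Cfsg.Statements.S2972
import Cfsg.Agent.Inv.IsolatedP
import Cfsg.Agent.Fus.CoreBasic
import Cfsg.Agent.Inv.CharPLocal
import Mathlib

set_option autoImplicit false
open Cfsg

namespace Cfsg.Agent.S2972

open CfsgLib.Inv
open scoped commutatorElement

variable {G : Type*} [Group G] [Finite G] {p : ℕ} [hp : Fact p.Prime]

theorem central_false {x : G} (hnz : ¬ Cfsg.InZStar p x) (h : ∀ g : G, g * x * g⁻¹ = x) : False :=
  hnz fun g => by rw [h g, mul_inv_cancel]; exact one_mem _

theorem normal_of_proper {x : G} (hiso : Cfsg.IsIsolated x) (hnz : ¬ Cfsg.InZStar p x) (hcore : Cfsg.pPrimeCore p G = ⊥)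
    (hmin : ∀ (H : Subgroup G) (hxH : x ∈ H), H ≠ ⊤ → Cfsg.InZStar p (⟨x, hxH⟩ : ↥H))
    (H : Subgroup G) [hn : H.Normal] (hxH : x ∈ H) : H = ⊤ := by
  by_contra hne
  have hz := hmin H hxH hne
  have hD : (Cfsg.pPrimeCore p ↥H) = ⊥ := by
    refine (Subgroup.map_eq_bot_iff_of_injective _ H.subtype_injective).1 (eq_bot_iff.2 (hcore ▸ ?_))
    refine CfsgLib.Fus.subnormal_le_pPrimeCore ?_ ?_
    · exact ((CfsgLib.Fus.normal_pPrimeCore p).isSubnormal).trans' hn.isSubnormal
    · rw [Subgroup.card_map_of_injective H.subtype_injective]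
      exact CfsgLib.Fus.coprime_card_pPrimeCore p
  refine central_false hnz fun g => hiso g ?_
  have h1 := hz ⟨g * x * g⁻¹, hn.conj_mem x hxH g⟩
  rw [hD, Subgroup.mem_bot] at h1
  have h2 : g * x * g⁻¹ * x * (g * x * g⁻¹)⁻¹ * x⁻¹ = 1 := congrArg Subtype.val h1
  exact (mul_inv_eq_iff_eq_mul.1 (mul_inv_eq_one.1 h2)).symm

theorem main {x : G} (hx : orderOf x = p) (hiso : Cfsg.IsIsolated x) (hnz : ¬ Cfsg.InZStar p x)
    (hmin : ∀ (H : Subgroup G) (hxH : x ∈ H), H ≠ ⊤ → Cfsg.InZStar p (⟨x, hxH⟩ : ↥H))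
    (hquot : ∀ (N : Subgroup G) [N.Normal], N ≠ ⊥ → Cfsg.InZStar p (QuotientGroup.mk x : G ⧸ N)) :
    IsSimpleGroup ↥(commutator G) ∧ ¬ IsMulCommutative ↥(commutator G) ∧
      commutator G ⊔ Subgroup.zpowers x = ⊤ := by
  haveI hOn := CfsgLib.Fus.normal_pPrimeCore (G := G) p
  have hcore : Cfsg.pPrimeCore p G = ⊥ := by
    by_contra h
    refine hnz fun g => ?_
    have h1 := hquot (Cfsg.pPrimeCore p G) h (g : G ⧸ Cfsg.pPrimeCore p G)
    rw [CfsgLib.Fus.pPrimeCore_quotient_eq_bot p, Subgroup.mem_bot] at h1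
    exact (QuotientGroup.eq_one_iff _).1 h1
  have hx1 : x ≠ 1 := fun e => by
    rw [e, orderOf_one] at hx; exact hp.out.one_lt.ne hx
  have hxp : IsPGroup p ↥(Subgroup.zpowers x) := IsPGroup.of_card (n := 1) (by rw [Nat.card_zpowers, hx, pow_one])
  have hsub : ∀ U : Subgroup G, U.IsSubnormal → (Nat.card U).Coprime p → U = ⊥ := fun U hU hc =>
    eq_bot_iff.2 (hcore ▸ CfsgLib.Fus.subnormal_le_pPrimeCore hU hc)
  -- every minimal normal subgroup is moved
  obtain ⟨N, ⟨hNn, hN1⟩, hNmin⟩ := (Set.toFinite {M : Subgroup G | M.Normal ∧ M ≠ ⊥}).exists_minimal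
    ⟨⊤, inferInstance, fun e => hx1 (Subgroup.mem_bot.1 (e ▸ Subgroup.mem_top x))⟩
  haveI := hNn
  have hnc : ¬ (∀ n ∈ N, n * x = x * n) := by
    intro hc
    have hxC : x ∈ Subgroup.centralizer (N : Set G) := Subgroup.mem_centralizer_iff.2 fun n hn => hc n hn
    have hCtop := normal_of_proper hiso hnz hcore hmin (Subgroup.centralizer (N : Set G)) hxC
    have hcent : ∀ n ∈ N, ∀ g : G, n * g = g * n := fun n hn g =>
      Subgroup.mem_centralizer_iff.1 (hCtop ▸ Subgroup.mem_top g : g ∈ Subgroup.centralizer (N : Set G)) n hn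
    set K := (Cfsg.pPrimeCore p (G ⧸ N)).comap (QuotientGroup.mk' N) with hK
    haveI := CfsgLib.Fus.normal_pPrimeCore (G := G ⧸ N) p
    have hNK : N ≤ K := fun n hn => by
      rw [hK, Subgroup.mem_comap, QuotientGroup.mk'_apply, (QuotientGroup.eq_one_iff n).2 hn]
      exact one_mem _
    have hH : K ⊔ Subgroup.zpowers x = ⊤ := by
      haveI : (K ⊔ Subgroup.zpowers x).Normal := by
        refine ⟨fun u hu g => ?_⟩
        have hle : K ⊔ Subgroup.zpowers x ≤ (K ⊔ Subgroup.zpowers x).comap (MulAut.conj g).toMonoidHom := by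
          refine sup_le (fun k hk => Subgroup.mem_sup_left (Subgroup.Normal.conj_mem inferInstance k hk g))
            (Subgroup.zpowers_le.2 ?_)
          show g * x * g⁻¹ ∈ K ⊔ Subgroup.zpowers x
          have h1 : g * x * g⁻¹ * x⁻¹ ∈ K := hquot N hN1 (g : G ⧸ N)
          have := mul_mem (Subgroup.mem_sup_left (T := Subgroup.zpowers x) h1) (Subgroup.mem_sup_right (S := K) (Subgroup.mem_zpowers x))
          rwa [inv_mul_cancel_right] at this
        exact hle hu
      exact normal_of_proper hiso hnz hcore hmin _ (Subgroup.mem_sup_right (Subgroup.mem_zpowers x))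
    -- a complement of `N` in `K`
    have hNp : IsPGroup p N := by
      refine IsPGroup.of_card (Nat.eq_prime_pow_of_unique_prime_dvd Nat.card_pos.ne' fun {q} hq hdvd => ?_)
      by_contra hne
      haveI : Fact q.Prime := ⟨hq⟩
      obtain ⟨⟨n, hn⟩, hord⟩ := exists_prime_orderOf_dvd_card' q hdvd
      rw [Subgroup.orderOf_mk] at hord
      haveI : (Subgroup.zpowers n).Normal := ⟨fun u hu g => by
        obtain ⟨i, rfl⟩ := hu
        have := hcent _ (zpow_mem hn i) g
        rw [← this, mul_inv_cancel_right]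
        exact zpow_mem (Subgroup.mem_zpowers n) i⟩
      have h := hsub (Subgroup.zpowers n) (inferInstance : (Subgroup.zpowers n).Normal).isSubnormal (by
        rw [Nat.card_zpowers, hord]; exact (Nat.coprime_primes hq hp.out).2 hne)
      rw [Subgroup.zpowers_eq_bot] at h
      rw [h, orderOf_one] at hord
      exact hq.one_lt.ne hord
    obtain ⟨a, ha⟩ := IsPGroup.iff_card.1 hNp
    have hidx : (Nat.card ↥(N.subgroupOf K)).Coprime (N.subgroupOf K).index := by
      rw [Nat.card_congr (Subgroup.subgroupOfEquivOfLe hNK).toEquiv, ha]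
      refine Nat.Coprime.pow_left _ ?_
      have e : (N.subgroupOf K).index = Nat.card (Cfsg.pPrimeCore p (G ⧸ N)) := by
        have hker : N.subgroupOf K = ((QuotientGroup.mk' N).comp K.subtype).ker := by
          rw [← MonoidHom.comap_ker, QuotientGroup.ker_mk']; rfl
        rw [hker, Subgroup.index_ker, MonoidHom.range_comp, Subgroup.range_subtype, hK,
          Subgroup.map_comap_eq_self_of_surjective (QuotientGroup.mk'_surjective N)]
      rw [e]
      exact (CfsgLib.Fus.coprime_card_pPrimeCore p).symm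
    haveI : (N.subgroupOf K).Normal := hNn.subgroupOf K
    obtain ⟨D, hD⟩ := Subgroup.exists_right_complement'_of_coprime hidx
    haveI hDn : D.Normal := by
      refine ⟨fun d hd g => ?_⟩
      obtain ⟨⟨⟨n, hn⟩, ⟨e, he⟩⟩, heq⟩ := (hD.existsUnique g).exists
      have hg : g = n * e := heq.symm
      have hnc' : n * (e * d * e⁻¹) = (e * d * e⁻¹) * n := Subtype.ext (hcent (n : G) hn _)
      rw [hg, show n * e * d * (n * e)⁻¹ = (n * (e * d * e⁻¹)) * n⁻¹ by group, hnc', mul_inv_cancel_right]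
      exact mul_mem (mul_mem he hd) (inv_mem he)
    have hDb : D = ⊥ := by
      refine (Subgroup.map_eq_bot_iff_of_injective _ K.subtype_injective).1 (hsub _ ?_ ?_)
      · exact hDn.isSubnormal.trans' (inferInstance : K.Normal).isSubnormal
      · rw [Subgroup.card_map_of_injective K.subtype_injective]
        have h1 := hD.card_mul
        rw [← Subgroup.card_mul_index (N.subgroupOf K)] at h1
        rw [Nat.eq_of_mul_eq_mul_left Nat.card_pos h1]
        have hidx2 := hidx
        rw [Nat.card_congr (Subgroup.subgroupOfEquivOfLe hNK).toEquiv, ha] at hidx2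
        rcases Nat.eq_zero_or_pos a with ha0 | ha0
        · rw [ha0, pow_zero] at ha
          exact absurd (Subgroup.eq_bot_of_card_le N ha.le) hN1
        · exact ((Nat.coprime_pow_left_iff ha0 _ _).1 hidx2).symm
    rw [hDb, Subgroup.isComplement'_bot_right, Subgroup.subgroupOf_eq_top] at hD
    refine central_false hnz fun g => mul_inv_eq_iff_eq_mul.2 ?_
    have hle : (⊤ : Subgroup G) ≤ Subgroup.centralizer ({x} : Set G) := hH ▸ sup_le
      (hD.trans fun n hn => Subgroup.mem_centralizer_singleton_iff.2 (hc n hn))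
      (Subgroup.zpowers_le.2 (Subgroup.mem_centralizer_singleton_iff.2 rfl))
    exact Subgroup.mem_centralizer_singleton_iff.1 (hle (Subgroup.mem_top g))
  have htop : N ⊔ Subgroup.zpowers x = ⊤ := by
    by_contra hne
    refine hnc fun n hn => ?_
    have hz := hmin _ (Subgroup.mem_sup_right (S := N) (Subgroup.mem_zpowers x)) hne ⟨n, Subgroup.mem_sup_left hn⟩
    set H := N ⊔ Subgroup.zpowers x
    haveI := CfsgLib.Fus.normal_pPrimeCore (G := ↥H) p
    set D := (Cfsg.pPrimeCore p ↥H).map H.subtype ⊓ N with hDdef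
    have hmem : n * x * n⁻¹ * x⁻¹ ∈ D := Subgroup.mem_inf.2 ⟨⟨_, hz, rfl⟩, by
      rw [show n * x * n⁻¹ * x⁻¹ = n * (x * n⁻¹ * x⁻¹) by group]
      exact mul_mem hn (hNn.conj_mem _ (inv_mem hn) x)⟩
    have hDn : (D.subgroupOf N).Normal := ⟨fun d hd g => Subgroup.mem_inf.2 ⟨by
      obtain ⟨u, hu, e⟩ := (Subgroup.mem_inf.1 hd).1
      refine ⟨⟨g, Subgroup.mem_sup_left g.2⟩ * u * ⟨g, Subgroup.mem_sup_left g.2⟩⁻¹,
        Subgroup.Normal.conj_mem inferInstance u hu _, ?_⟩
      simp only [map_mul, map_inv, Subgroup.coe_subtype]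
      rw [show (u : G) = (d : G) from e], (g * d * g⁻¹).2⟩⟩
    have hDs : D.IsSubnormal := by
      have := hDn.isSubnormal.trans' hNn.isSubnormal
      rwa [Subgroup.map_subgroupOf_eq_of_le inf_le_right] at this
    have hb := hsub D hDs (Nat.Coprime.coprime_dvd_left (Subgroup.card_dvd_of_le inf_le_left)
      (by rw [Subgroup.card_map_of_injective H.subtype_injective]; exact CfsgLib.Fus.coprime_card_pPrimeCore p))
    rw [hb, Subgroup.mem_bot] at hmem
    exact mul_inv_eq_iff_eq_mul.1 (mul_inv_eq_one.1 hmem)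
  -- `N` is not abelian
  have hNc : ¬ IsMulCommutative N := by
    intro hc
    have hNp : IsPGroup p N := by
      refine IsPGroup.of_card (Nat.eq_prime_pow_of_unique_prime_dvd Nat.card_pos.ne' fun {q} hq hdvd => ?_)
      by_contra hne
      haveI : Fact q.Prime := ⟨hq⟩
      obtain ⟨n, hord⟩ := exists_prime_orderOf_dvd_card' q hdvd
      haveI : (Subgroup.zpowers n).Normal := ⟨fun u hu g => by
        rw [hc.is_comm.comm g u, mul_inv_cancel_right]; exact hu⟩
      have h := hsub ((Subgroup.zpowers n).map N.subtype)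
        ((inferInstance : (Subgroup.zpowers n).Normal).isSubnormal.trans' hNn.isSubnormal) (by
        rw [Subgroup.card_map_of_injective N.subtype_injective, Nat.card_zpowers, hord]
        exact (Nat.coprime_primes hq hp.out).2 hne)
      rw [Subgroup.map_eq_bot_iff_of_injective _ N.subtype_injective, Subgroup.zpowers_eq_bot] at h
      rw [h, orderOf_one] at hord
      exact hq.one_lt.ne hord
    have hG : IsPGroup p ↥(⊤ : Subgroup G) := htop ▸ hNp.to_sup_of_normal_left' hxp (by
      rw [Subgroup.normalizer_eq_top]; exact le_top)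
    exact central_false hnz fun g => mul_inv_eq_iff_eq_mul.2
      (iso_commute hiso hG (Subgroup.mem_top x) (Subgroup.mem_top g))
  have hder : commutator G = N := by
    refine le_antisymm ?_ ?_
    · rw [commutator_def]
      refine Subgroup.commutator_le.2 fun a _ b _ => ?_
      have hdec : ∀ a : G, ∃ i : ℤ, a * (x ^ i)⁻¹ ∈ N := fun a => by
        have ha : a ∈ ((N ⊔ Subgroup.zpowers x : Subgroup G) : Set G) := by rw [htop]; trivial
        rw [Subgroup.normal_mul] at ha
        obtain ⟨n, hn, _, ⟨i, rfl⟩, rfl⟩ := ha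
        exact ⟨i, by rw [mul_inv_cancel_right]; exact hn⟩
      obtain ⟨i, hi⟩ := hdec a
      obtain ⟨j, hj⟩ := hdec b
      rw [← QuotientGroup.eq_one_iff] at hi hj ⊢
      rw [QuotientGroup.mk_mul, QuotientGroup.mk_inv, QuotientGroup.mk_zpow, mul_inv_eq_one] at hi hj
      rw [commutatorElement_def, QuotientGroup.mk_mul, QuotientGroup.mk_mul, QuotientGroup.mk_mul,
        QuotientGroup.mk_inv, QuotientGroup.mk_inv, hi, hj,
        ((Commute.refl (x : G ⧸ N)).zpow_zpow i j).eq]
      group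
    · have hle : ⁅N, N⁆ ≤ commutator G := by
        rw [commutator_def]; exact Subgroup.commutator_mono le_top le_top
      refine le_trans ?_ hle
      refine hNmin ⟨inferInstance, fun e => hNc ⟨⟨fun a b => Subtype.ext ?_⟩⟩⟩ (Subgroup.commutator_le_left N N)
      exact commutatorElement_eq_one_iff_mul_comm.1 (Subgroup.mem_bot.1 (e ▸ Subgroup.commutator_mem_commutator a.2 b.2))
  rw [hder]
  refine ⟨?_, hNc, htop⟩
  haveI : Nontrivial N := (Subgroup.nontrivial_iff_ne_bot N).2 hN1
  refine ⟨fun T₁ hT₁ => ?_⟩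
  by_contra hno
  push Not at hno
  obtain ⟨T, ⟨hTn, hT1⟩, hTmin⟩ := (Set.toFinite {T : Subgroup N | T.Normal ∧ T ≠ ⊥}).exists_minimal ⟨T₁, hT₁, hno.1⟩
  have hTtop : T ≠ ⊤ := fun e => hno.2 (top_le_iff.1 (e ▸ hTmin ⟨hT₁, hno.1⟩ (e ▸ le_top)))
  haveI := hTn
  set φ : ↥N ≃* ↥N := MulAut.conjNormal x with hφ
  set T' := T.map φ.toMonoidHom with hT'
  haveI : T'.Normal := hTn.map _ φ.surjective
  have hTT : T ⊓ T' = ⊥ := by
    by_contra hne
    have hle : T ≤ T' := (hTmin ⟨inferInstance, hne⟩ inf_le_left).trans inf_le_right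
    have heq : T = T' := Subgroup.eq_of_le_of_card_ge hle (le_of_eq (Subgroup.card_map_of_injective φ.injective))
    haveI : (T.map N.subtype).Normal := by
      refine Subgroup.normalizer_eq_top_iff.1 (top_le_iff.1 ?_)
      rw [← htop]
      refine sup_le ?_ (Subgroup.zpowers_le.2 (Subgroup.mem_normalizer_iff_map_conj_eq.2 ?_))
      · refine le_trans ?_ (Subgroup.le_normalizer_map N.subtype)
        rw [Subgroup.normalizer_eq_top, ← MonoidHom.range_eq_map, Subgroup.range_subtype]
      · conv_rhs => rw [heq, hT', Subgroup.map_map]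
        rw [Subgroup.map_map]
        congr 1
    have h2 := hNmin ⟨this, fun e => hT1 ((Subgroup.map_eq_bot_iff_of_injective _ N.subtype_injective).1 e)⟩ (Subgroup.map_subtype_le T)
    refine hTtop (top_le_iff.1 fun y _ => ?_)
    obtain ⟨z, hz, e⟩ := h2 y.2
    rwa [← Subtype.ext e]
  obtain ⟨P, hP⟩ := hxp.exists_le_sylow
  have hTs : (T.map N.subtype).IsSubnormal := hTn.isSubnormal.trans' hNn.isSubnormal
  obtain ⟨R, hR⟩ := CfsgLib.Inv.sylow_subnormal P hTs
  have hdvd : p ∣ Nat.card (T.map N.subtype) := by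
    by_contra hd
    exact hT1 ((Subgroup.map_eq_bot_iff_of_injective _ N.subtype_injective).1
      (hsub _ hTs ((hp.out.coprime_iff_not_dvd.2 hd).symm)))
  obtain ⟨r, hr, hr1⟩ := (Subgroup.bot_or_exists_ne_one (R : Subgroup ↥(T.map N.subtype))).resolve_left (R.ne_bot_of_dvd_card hdvd)
  have hrP : (r : G) ∈ (P : Subgroup G) := (Subgroup.mem_inf.1 (hR ▸ ⟨r, hr, rfl⟩ : (r : G) ∈ (P : Subgroup G) ⊓ T.map N.subtype)).1
  obtain ⟨t, ht, hte⟩ := r.2
  have hcx : x * (t : G) * x⁻¹ = t := mul_inv_eq_iff_eq_mul.2 (by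
    rw [show (t : G) = r from hte]
    exact (iso_commute hiso P.isPGroup' (hP (Subgroup.mem_zpowers x)) hrP).symm)
  have hfix : φ t = t := Subtype.ext hcx
  have : t ∈ T ⊓ T' := Subgroup.mem_inf.2 ⟨ht, hfix ▸ Subgroup.mem_map_of_mem _ ht⟩
  rw [hTT, Subgroup.mem_bot] at this
  exact hr1 (Subtype.ext (by rw [← hte, this]; rfl))

/-- Let G be a finite group, p a prime and x ∈ G an isolated element of order p (the only conjugate of x commuting with x is x) which is not central modulo the largest normal subgroup of order prime to p, while x is central modulo the largest normal subgroup of order prime to p in every proper subgroup containing x, and the image of x is so in every quotient of G by a nontrivial normal subgroup (a minimal counterexample to the Z*_p statement). Then the derived subgroup G' is a non-abelian simple group and G = G'⟨x⟩. -/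
theorem result {G : Type*} [Group G] [Finite G] {p : ℕ} [Fact p.Prime] (x : G) (hx : orderOf x = p) (hiso : Cfsg.IsIsolated x) (hnz : ¬ Cfsg.InZStar p x) (hmin : ∀ (H : Subgroup G) (hxH : x ∈ H), H ≠ ⊤ → Cfsg.InZStar p (⟨x, hxH⟩ : ↥H)) (hquot : ∀ (N : Subgroup G) [N.Normal], N ≠ ⊥ → Cfsg.InZStar p (QuotientGroup.mk x : G ⧸ N)) : IsSimpleGroup ↥(commutator G) ∧ ¬ IsMulCommutative ↥(commutator G) ∧ commutator G ⊔ Subgroup.zpowers x = ⊤ := by
  exact main hx hiso hnz hmin hquot

end Cfsg.Agent.S2972
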