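import Cfsg.Statements.S2975
import Cfsg.Agent.Inv.IsolatedP
import Cfsg.Agent.Fus.CoreBasic
import Cfsg.Agent.Solv.Basic
import Mathlib

set_option autoImplicit false
open Cfsg

namespace Cfsg.Agent.S2975

open CfsgLib.Inv
open scoped Pointwise

variable {G : Type*} [Group G] [Finite G] {p q : ℕ} [hp : Fact p.Prime] [hq : Fact q.Prime]

theorem card_sup_dvd {A B : Subgroup G} (h : B ≤ Subgroup.normalizer (A : Set G))
    (hc : (Nat.card A).Coprime (Nat.card B)) : Nat.card ↥(A ⊔ B) = Nat.card A * Nat.card B := by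
  refine le_antisymm ?_ (Nat.le_of_dvd Nat.card_pos (hc.mul_dvd_of_dvd_of_dvd
    (Subgroup.card_dvd_of_le le_sup_left) (Subgroup.card_dvd_of_le le_sup_right)))
  have := Set.natCard_mul_le (s := (A : Set G)) (t := (B : Set G))
  rw [← Subgroup.coe_mul_of_right_le_normalizer_left A B h] at this
  exact this

theorem card_sup_dvd' {D R : Subgroup G} (h : R ≤ Subgroup.normalizer (D : Set G)) :
    Nat.card ↥(D ⊔ R) ∣ Nat.card D * Nat.card R := by
  haveI : (D.subgroupOf (D ⊔ R)).Normal :=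
    (Subgroup.normal_subgroupOf_iff_le_normalizer le_sup_left).2 (sup_le Subgroup.le_normalizer h)
  have h1 := CfsgLib.Solv.card_sup_dvd_mul (R.subgroupOf (D ⊔ R)) (D.subgroupOf (D ⊔ R))
  rw [CfsgLib.Solv.card_subgroupOf le_sup_left, CfsgLib.Solv.card_subgroupOf le_sup_right, ← Subgroup.subgroupOf_sup le_sup_right le_sup_left,
    sup_comm R D, Subgroup.subgroupOf_self, Subgroup.card_top, mul_comm (Nat.card R)] at h1
  exact h1

/-- An `x`-invariant Sylow subgroup of a `p'`-subgroup normalized by `x`. -/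
theorem exists_invariant {x : G} (hx : orderOf x = p) {M : Subgroup G} (hxM : x ∈ Subgroup.normalizer (M : Set G))
    (hc : (Nat.card M).Coprime p) {R : Subgroup G} (hRM : R ≤ M) (hR : IsPGroup q R) (hidx : ¬ q ∣ R.relIndex M) :
    ∃ l ∈ M ⊔ Subgroup.zpowers x, x ∈ Subgroup.normalizer ((R.map (MulAut.conj l).toMonoidHom : Subgroup G) : Set G) := by
  set L := M ⊔ Subgroup.zpowers x with hL
  have hxn : Subgroup.zpowers x ≤ Subgroup.normalizer (M : Set G) := Subgroup.zpowers_le.2 hxM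
  have hcard : Nat.card L = Nat.card M * p := by
    rw [hL, card_sup_dvd hxn (by rwa [Nat.card_zpowers, hx]), Nat.card_zpowers, hx]
  haveI hMn : (M.subgroupOf L).Normal :=
    (Subgroup.normal_subgroupOf_iff_le_normalizer le_sup_left).2 (sup_le Subgroup.le_normalizer hxn)
  have hML : M ≤ L := le_sup_left
  -- the Sylow subgroup
  let R0 : Sylow q ↥(M.subgroupOf L) := (IsPGroup.comap_subtype (K := M.subgroupOf L) (hR.comap_subtype (K := L))).toSylow (by
    intro hd
    refine hidx ?_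
    rw [← Subgroup.relIndex_subgroupOf (H := R) hML]
    exact hd)
  have hfr := Sylow.normalizer_sup_eq_top R0
  have hmapR : ((R0 : Subgroup ↥(M.subgroupOf L)).map (M.subgroupOf L).subtype) = R.subgroupOf L := by
    show ((R.subgroupOf L).subgroupOf (M.subgroupOf L)).map (M.subgroupOf L).subtype = _
    exact Subgroup.map_subgroupOf_eq_of_le (fun r hr => hRM hr)
  rw [hmapR] at hfr
  set Nr := Subgroup.normalizer ((R.subgroupOf L : Subgroup ↥L) : Set ↥L) with hNr
  have hpN : p ∣ Nat.card Nr := by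
    have h1 : Nat.card ↥L ∣ Nat.card Nr * Nat.card ↥(M.subgroupOf L) := by
      have := CfsgLib.Solv.card_sup_dvd_mul Nr (M.subgroupOf L)
      rwa [hfr, Subgroup.card_top] at this
    have h4 : p ∣ Nat.card Nr * Nat.card ↥(M.subgroupOf L) := (hcard ▸ dvd_mul_left p _ : p ∣ Nat.card L).trans h1
    rw [Nat.card_congr (Subgroup.subgroupOfEquivOfLe hML).toEquiv] at h4
    exact (Nat.Coprime.dvd_of_dvd_mul_right hc.symm h4)
  obtain ⟨⟨y, hyN⟩, hy⟩ := exists_prime_orderOf_dvd_card' p hpN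
  rw [← Subgroup.orderOf_coe] at hy
  change orderOf y = p at hy
  set x' : ↥L := ⟨x, Subgroup.mem_sup_right (Subgroup.mem_zpowers x)⟩ with hx'
  have hx'o : orderOf x' = p := by rw [hx', Subgroup.orderOf_mk, hx]
  have hfac : p ^ (Nat.card ↥L).factorization p = p := by
    rw [hcard, Nat.factorization_mul Nat.card_pos.ne' hp.out.ne_zero, Finsupp.add_apply,
      Nat.factorization_eq_zero_of_not_dvd ((hp.out.coprime_iff_not_dvd).1 hc.symm), hp.out.factorization_self, zero_add, pow_one]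
  let Y : Sylow p ↥L := Sylow.ofCard (Subgroup.zpowers y) (by rw [Nat.card_zpowers, hy, hfac])
  let Z : Sylow p ↥L := Sylow.ofCard (Subgroup.zpowers x') (by rw [Nat.card_zpowers, hx'o, hfac])
  obtain ⟨l, hl⟩ := MulAction.exists_smul_eq ↥L Y Z
  have hxm : x' ∈ (Nr.map (MulAut.conj l).toMonoidHom) := by
    have h1 : x' ∈ (Z : Subgroup ↥L) := Subgroup.mem_zpowers x'
    rw [← hl, Sylow.coe_subgroup_smul, CfsgLib.Solv.conj_smul_eq_map] at h1
    exact Subgroup.map_mono (Subgroup.zpowers_le.2 hyN : (Y : Subgroup ↥L) ≤ Nr) h1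
  refine ⟨(l : G), l.2, ?_⟩
  have h2 := Subgroup.le_normalizer_map _ hxm
  have h3 := Subgroup.le_normalizer_map L.subtype (Subgroup.mem_map_of_mem L.subtype h2)
  have e : ((R.subgroupOf L).map (MulAut.conj l).toMonoidHom).map L.subtype = R.map (MulAut.conj (l : G)).toMonoidHom := by
    conv_rhs => rw [← Subgroup.map_subgroupOf_eq_of_le (hRM.trans hML)]
    rw [Subgroup.map_map, Subgroup.map_map]
    congr 1
  rwa [e] at h3

theorem part_one {x : G} (hx : orderOf x = p) (hiso : Cfsg.IsIsolated x) (hcore : Cfsg.pPrimeCore p G = ⊥)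
    (hmin : ∀ (H : Subgroup G) (hxH : x ∈ H), H ≠ ⊤ → Cfsg.InZStar p (⟨x, hxH⟩ : ↥H))
    {Q : Subgroup G} (hQ : IsPGroup q Q) (hxQ : x ∈ Subgroup.normalizer (Q : Set G))
    (hmax : ∀ R : Subgroup G, IsPGroup q R → x ∈ Subgroup.normalizer (R : Set G) → Q ≤ R → R = Q) (hQ1 : Q ≠ ⊥) :
    ∃ S : Sylow q G, (S : Subgroup G) = Q := by
  have hxp : IsPGroup p ↥(Subgroup.zpowers x) := IsPGroup.of_card (n := 1) (by rw [Nat.card_zpowers, hx, pow_one])
  by_cases hqp : q = p
  · subst hqp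
    have hsup' : IsPGroup q ↥(Q ⊔ Subgroup.zpowers x) := hQ.to_sup_of_normal_left' hxp (Subgroup.zpowers_le.2 hxQ)
    obtain ⟨S, hS⟩ := hsup'.exists_le_sylow
    refine ⟨S, hmax _ S.isPGroup' (Subgroup.le_normalizer (hS (Subgroup.mem_sup_right (Subgroup.mem_zpowers x)))) (le_sup_left.trans hS)⟩
  set H := Subgroup.normalizer (Q : Set G) with hH
  have hne : H ≠ ⊤ := by
    intro e
    haveI : Q.Normal := Subgroup.normalizer_eq_top_iff.1 e
    obtain ⟨n, hn⟩ := IsPGroup.iff_card.1 hQ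
    refine hQ1 (eq_bot_iff.2 (hcore ▸ CfsgLib.Fus.le_pPrimeCore inferInstance ?_))
    rw [hn]
    exact Nat.Coprime.pow_left n ((Nat.coprime_primes hq.out hp.out).2 hqp)
  have hz := hmin H hxQ hne
  set D := (Cfsg.pPrimeCore p ↥H).map H.subtype with hD
  haveI := CfsgLib.Fus.normal_pPrimeCore (G := ↥H) p
  have hDH : D ≤ H := Subgroup.map_subtype_le _
  have hHD : H ≤ Subgroup.normalizer (D : Set G) := by
    refine le_trans ?_ (Subgroup.le_normalizer_map H.subtype)
    rw [Subgroup.normalizer_eq_top, ← MonoidHom.range_eq_map, Subgroup.range_subtype]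
  obtain ⟨R0, hR0⟩ := (hQ.comap_subtype (K := H)).exists_le_sylow
  set R := (R0 : Subgroup ↥H).map H.subtype with hR
  have hQR : Q ≤ R := fun u hu => ⟨⟨u, Subgroup.le_normalizer hu⟩, hR0 hu, rfl⟩
  have hRH : R ≤ H := Subgroup.map_subtype_le _
  have hRq : IsPGroup q R := R0.isPGroup'.map _
  set M := D ⊔ R with hM
  have hMH : M ≤ H := sup_le hDH hRH
  have hDc : (Nat.card D).Coprime p := by
    rw [hD, Subgroup.card_map_of_injective H.subtype_injective]; exact CfsgLib.Fus.coprime_card_pPrimeCore p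
  have hMc : (Nat.card M).Coprime p := by
    have hd : Nat.card M ∣ Nat.card D * Nat.card R := card_sup_dvd' (hRH.trans hHD)
    obtain ⟨n, hn⟩ := IsPGroup.iff_card.1 hRq
    refine Nat.Coprime.coprime_dvd_left hd (Nat.Coprime.mul_left hDc ?_)
    rw [hn]; exact Nat.Coprime.pow_left n ((Nat.coprime_primes hq.out hp.out).2 hqp)
  have hxM : x ∈ Subgroup.normalizer (M : Set G) := by
    have hle : ∀ g ∈ Subgroup.zpowers x, ∀ m ∈ M, g * m * g⁻¹ ∈ M := by
      have h1 : M ≤ M.comap (MulAut.conj x).toMonoidHom := by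
        refine sup_le (fun d hd => Subgroup.mem_sup_left ((Subgroup.mem_normalizer_iff.1 (hHD hxQ) d).1 hd)) fun r hr => ?_
        show x * r * x⁻¹ ∈ M
        have h2 : r * x * r⁻¹ * x⁻¹ ∈ D := ⟨_, hz ⟨r, hRH hr⟩, rfl⟩
        have := mul_mem (Subgroup.mem_sup_left (T := R) (inv_mem h2)) (Subgroup.mem_sup_right (S := D) hr)
        rwa [show (r * x * r⁻¹ * x⁻¹)⁻¹ * r = x * r * x⁻¹ by group] at this
      intro g hg
      obtain ⟨n, rfl⟩ := (isOfFinOrder_of_finite x).mem_powers_iff_mem_zpowers.2 hg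
      show ∀ m ∈ M, x ^ n * m * (x ^ n)⁻¹ ∈ M
      induction n with
      | zero => intro m hm; simpa using hm
      | succ n ih =>
        intro m hm
        have := h1 (ih (pow_mem (Subgroup.mem_zpowers x) n) m hm)
        rw [pow_succ', show x * x ^ n * m * (x * x ^ n)⁻¹ = x * (x ^ n * m * (x ^ n)⁻¹) * x⁻¹ by group]
        exact this
    exact (CfsgLib.Solv.le_normalizer_iff_forall_conj_mem.2 hle) (Subgroup.mem_zpowers x)
  have hidx : ¬ q ∣ R.relIndex M := by
    intro hd
    refine R0.not_dvd_index (hd.trans ?_)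
    have h1 : R.relIndex H = (R0 : Subgroup ↥H).index := by
      rw [hR, Subgroup.relIndex, Subgroup.subgroupOf, Subgroup.comap_map_eq_self_of_injective H.subtype_injective]
    rw [← h1]
    exact ⟨_, (Subgroup.relIndex_mul_relIndex R M H le_sup_right hMH).symm⟩
  obtain ⟨l, hl, hxl⟩ := exists_invariant hx hxM hMc le_sup_right hRq hidx
  have hlH : l ∈ H := (sup_le hMH (Subgroup.zpowers_le.2 hxQ)) hl
  have hQl : Q ≤ R.map (MulAut.conj l).toMonoidHom := by
    conv_lhs => rw [← Subgroup.mem_normalizer_iff_map_conj_eq.1 hlH]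
    exact Subgroup.map_mono hQR
  have e := hmax _ (hRq.map _) hxl hQl
  obtain ⟨S, hS⟩ := hQ.exists_le_sylow
  refine ⟨S, ?_⟩
  by_contra hSQ
  haveI : Group.IsNilpotent ↥(S : Subgroup G) := S.isPGroup'.isNilpotent
  have hlt : Q.subgroupOf (S : Subgroup G) < ⊤ := lt_top_iff_ne_top.2 fun e =>
    hSQ (le_antisymm (Subgroup.subgroupOf_eq_top.1 e) hS)
  obtain ⟨⟨n, hn⟩, hnN, hnQ⟩ := SetLike.exists_of_lt (Group.normalizerCondition_of_isNilpotent _ hlt)
  have hnH : n ∈ H := by
    rw [hH, Subgroup.mem_normalizer_iff]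
    intro u
    constructor
    · intro hu
      exact (Subgroup.mem_normalizer_iff.1 hnN ⟨u, hS hu⟩).1 hu
    · intro hu
      have huS : u ∈ (S : Subgroup G) := by
        have := mul_mem (mul_mem (inv_mem hn) (hS hu)) hn
        rwa [show n⁻¹ * (n * u * n⁻¹) * n = u by group] at this
      exact (Subgroup.mem_normalizer_iff.1 hnN ⟨u, huS⟩).2 hu
  -- `Q` is a Sylow subgroup of `H`
  have hcardR : Nat.card R = Nat.card Q := by
    conv_rhs => rw [← e]
    exact (Subgroup.card_map_of_injective (f := (MulAut.conj l).toMonoidHom) (K := R) (MulAut.conj l).injective).symm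
  have hRQ : R = Q := (Subgroup.eq_of_le_of_card_ge hQR hcardR.le).symm
  have hbig : IsPGroup q ↥(Q ⊔ Subgroup.zpowers n) := S.isPGroup'.to_le (sup_le hS (Subgroup.zpowers_le.2 hn))
  have hleH : Q ⊔ Subgroup.zpowers n ≤ H := sup_le Subgroup.le_normalizer (Subgroup.zpowers_le.2 hnH)
  have hsub := R0.is_maximal' (hbig.comap_subtype (K := H)) (fun u hu => Subgroup.mem_sup_left (hRQ.le ⟨u, hu, rfl⟩))
  have h5 : (⟨n, hnH⟩ : ↥H) ∈ (R0 : Subgroup ↥H) := hsub.le (show (⟨n, hnH⟩ : ↥H) ∈ (Q ⊔ Subgroup.zpowers n).subgroupOf H from Subgroup.mem_sup_right (Subgroup.mem_zpowers n))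
  exact hnQ (hRQ.le ⟨_, h5, rfl⟩)

theorem part_two {x : G} (hx : orderOf x = p) (hiso : Cfsg.IsIsolated x) (S₁ S₂ : Sylow q G)
    (h1 : x ∈ Subgroup.normalizer ((S₁ : Subgroup G) : Set G)) (h2 : x ∈ Subgroup.normalizer ((S₂ : Subgroup G) : Set G)) :
    ∃ c ∈ Subgroup.centralizer ({x} : Set G), (S₁ : Subgroup G).map (MulAut.conj c).toMonoidHom = (S₂ : Subgroup G) := by
  have hxp : IsPGroup p ↥(Subgroup.zpowers x) := IsPGroup.of_card (n := 1) (by rw [Nat.card_zpowers, hx, pow_one])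
  obtain ⟨g, hg⟩ := MulAction.exists_smul_eq G S₁ S₂
  have hg' : (S₁ : Subgroup G).map (MulAut.conj g).toMonoidHom = (S₂ : Subgroup G) := by
    rw [← hg, Sylow.coe_subgroup_smul, CfsgLib.Solv.conj_smul_eq_map]
  set H := Subgroup.normalizer ((S₁ : Subgroup G) : Set G) with hH
  set y := g⁻¹ * x * g with hy
  have hyH : y ∈ H := by
    have hnm : x ∈ (Subgroup.normalizer ((S₁ : Subgroup G) : Set G)).map (MulAut.conj g).toMonoidHom := by
      rw [Subgroup.map_equiv_normalizer_eq, hg']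
      exact h2
    obtain ⟨u, hu, e⟩ := hnm
    have : y = u := by rw [hy, ← e]; simp [mul_assoc]
    rw [this]; exact hu
  obtain ⟨P, hP⟩ := (hxp.comap_subtype (K := H)).exists_le_sylow
  have hyp : IsPGroup p ↥(Subgroup.zpowers (⟨y, hyH⟩ : ↥H)) := IsPGroup.of_card (n := 1) (by
    rw [Nat.card_zpowers, Subgroup.orderOf_mk, pow_one, hy,
      show g⁻¹ * x * g = MulAut.conj g⁻¹ x by simp, MulEquiv.orderOf_eq, hx])
  obtain ⟨h, hh⟩ := CfsgLib.Fus.exists_conj_mem_sylow P hyp
  set P' := (P : Subgroup ↥H).map H.subtype with hP'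
  have hxP : x ∈ P' := ⟨⟨x, h1⟩, hP (Subgroup.mem_zpowers x), rfl⟩
  have hmem : ((h : G) * g⁻¹) * x * ((h : G) * g⁻¹)⁻¹ ∈ P' := ⟨_, hh, by simp [hy, mul_assoc]⟩
  have e := iso_eq hiso (P.isPGroup'.map _) hxP hmem
  refine ⟨((h : G) * g⁻¹)⁻¹, inv_mem (Subgroup.mem_centralizer_singleton_iff.2 (mul_inv_eq_iff_eq_mul.1 e)), ?_⟩
  rw [← hg']
  have hn : (S₁ : Subgroup G).map (MulAut.conj (h : G)⁻¹).toMonoidHom = (S₁ : Subgroup G) :=
    Subgroup.mem_normalizer_iff_map_conj_eq.1 (inv_mem h.2)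
  conv_rhs => rw [← hn, Subgroup.map_map]
  congr 1
  ext u
  simp [mul_assoc]

/-- Let G be a finite group, p a prime and x ∈ G an isolated element of order p (the only conjugate of x commuting with x is x) which is not central modulo the largest normal subgroup of order prime to p, while x is central modulo the largest normal subgroup of order prime to p in every proper subgroup containing x, and the image of x is so in every quotient of G by a nontrivial normal subgroup (a minimal counterexample to the Z*_p statement). Then for every prime q, every q-subgroup of G that is normalized by x and maximal among the q-subgroups normalized by x is either trivial or a Sylow q-subgroup of G; and C_G(x) permutes the x-invariant Sylow q-subgroups of G transitively by conjugation. -/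
theorem result {G : Type*} [Group G] [Finite G] {p : ℕ} [Fact p.Prime] (x : G) (hx : orderOf x = p) (hiso : Cfsg.IsIsolated x) (hnz : ¬ Cfsg.InZStar p x) (hmin : ∀ (H : Subgroup G) (hxH : x ∈ H), H ≠ ⊤ → Cfsg.InZStar p (⟨x, hxH⟩ : ↥H)) (hquot : ∀ (N : Subgroup G) [N.Normal], N ≠ ⊥ → Cfsg.InZStar p (QuotientGroup.mk x : G ⧸ N)) (q : ℕ) [Fact q.Prime] : (∀ Q : Subgroup G, IsPGroup q ↥Q → x ∈ Subgroup.normalizer (Q : Set G) → (∀ R : Subgroup G, IsPGroup q ↥R → x ∈ Subgroup.normalizer (R : Set G) → Q ≤ R → R = Q) → Q = ⊥ ∨ ∃ S : Sylow q G, (S : Subgroup G) = Q) ∧ (∀ S₁ S₂ : Sylow q G, x ∈ Subgroup.normalizer ((S₁ : Subgroup G) : Set G) → x ∈ Subgroup.normalizer ((S₂ : Subgroup G) : Set G) → ∃ c ∈ Subgroup.centralizer ({x} : Set G), (S₁ : Subgroup G).map (MulAut.conj c).toMonoidHom = (S₂ : Subgroup G)) := by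
  haveI := CfsgLib.Fus.normal_pPrimeCore (G := G) p
  have hcore : Cfsg.pPrimeCore p G = ⊥ := by
    by_contra h
    refine hnz fun g => ?_
    have h1 := hquot (Cfsg.pPrimeCore p G) h (g : G ⧸ Cfsg.pPrimeCore p G)
    rw [CfsgLib.Fus.pPrimeCore_quotient_eq_bot p, Subgroup.mem_bot] at h1
    exact (QuotientGroup.eq_one_iff _).1 h1
  exact ⟨fun Q hQ hxQ hmax => or_iff_not_imp_left.2 (part_one hx hiso hcore hmin hQ hxQ hmax), part_two hx hiso⟩

end Cfsg.Agent.S2975
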