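import Cfsg.Statements.S2998
import Cfsg.Agent.Inv.IsolatedP
import Cfsg.Agent.Perm.Basic

set_option autoImplicit false
open Cfsg

namespace Cfsg.Agent.S2998

theorem mem_normalizer_of_map_le {G : Type*} [Group G] [Finite G] {H : Subgroup G} {n : G}
    (h : H.map (MulAut.conj n).toMonoidHom ≤ H) : n ∈ Subgroup.normalizer (H : Set G) := by
  have e : H.map (MulAut.conj n).toMonoidHom = H := Subgroup.eq_of_le_of_card_ge h (by
    rw [Subgroup.card_map_of_injective (MulAut.conj n).injective])
  rw [Subgroup.mem_normalizer_iff]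
  intro y
  constructor
  · intro hy; rw [← e]; exact Subgroup.mem_map.2 ⟨y, hy, rfl⟩
  · intro hy
    rw [← e, CfsgLib.Solv.mem_map_conj_iff] at hy
    simpa [mul_assoc] using hy

/-- Let G be a finite group, p a prime, P a Sylow p-subgroup of G and x ∈ P an element such that N_G(R) ≤ C_G(x) for every nontrivial subgroup R of P. Then P ≤ C_G(x); every G-conjugate of x lying in P equals x (so g ∈ C_G(x) whenever g x g⁻¹ ∈ P); and for every normal subgroup N of G, the image of x in G ⧸ N has the same property with respect to the image of P: the normalizer of every nontrivial subgroup of the image of P centralizes the image of x. -/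
theorem result {G : Type*} [Group G] [Finite G] {p : ℕ} [Fact p.Prime] (P : Sylow p G) (x : G) (hxP : x ∈ (P : Subgroup G)) (hlc : ∀ R : Subgroup G, R ≤ (P : Subgroup G) → R ≠ ⊥ → Subgroup.normalizer (R : Set G) ≤ Subgroup.centralizer ({x} : Set G)) : (P : Subgroup G) ≤ Subgroup.centralizer ({x} : Set G) ∧ (∀ g : G, g * x * g⁻¹ ∈ (P : Subgroup G) → g * x * g⁻¹ = x) ∧ ∀ (N : Subgroup G) [N.Normal], ∀ R : Subgroup (G ⧸ N), R ≤ (P : Subgroup G).map (QuotientGroup.mk' N) → R ≠ ⊥ → Subgroup.normalizer (R : Set (G ⧸ N)) ≤ Subgroup.centralizer ({(QuotientGroup.mk x : G ⧸ N)} : Set (G ⧸ N)) := by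
  open CfsgLib.Inv in
  exact (by
    set C := Subgroup.centralizer ({x} : Set G) with hC
    have hPC : (P : Subgroup G) ≤ C := by
      rcases eq_or_ne (P : Subgroup G) ⊥ with h | h
      · rw [h]; exact bot_le
      · exact Subgroup.le_normalizer.trans (hlc _ le_rfl h)
    have hcon : ∀ g : G, g * x * g⁻¹ ∈ (P : Subgroup G) → g * x * g⁻¹ = x := by
      intro g hg
      rcases eq_or_ne x 1 with rfl | hx1
      · simp
      set y := g * x * g⁻¹ with hy
      have hy1 : y ≠ 1 := fun e => hx1 (by rw [show x = g⁻¹ * y * g by rw [hy]; group, e]; simp)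
      have hle : Subgroup.centralizer ({y} : Set G) ≤ C := by
        refine le_trans (fun c hc => ?_) (hlc (Subgroup.zpowers y) (Subgroup.zpowers_le.2 hg) (by simpa using hy1))
        refine Subgroup.centralizer_le_normalizer _ (Subgroup.mem_centralizer_iff.2 ?_)
        rintro _ ⟨i, rfl⟩
        exact (Commute.zpow_left (Subgroup.mem_centralizer_singleton_iff.1 hc).symm i).eq
      have e : C.map (MulAut.conj g).toMonoidHom = Subgroup.centralizer ({y} : Set G) := by
        ext c
        rw [CfsgLib.Solv.mem_map_conj_iff, hC, Subgroup.mem_centralizer_singleton_iff,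
          Subgroup.mem_centralizer_singleton_iff, hy]
        constructor
        · intro h
          calc c * (g * x * g⁻¹) = g * (g⁻¹ * c * g * x) * g⁻¹ := by group
            _ = g * (x * (g⁻¹ * c * g)) * g⁻¹ := by rw [h]
            _ = _ := by group
        · intro h
          calc g⁻¹ * c * g * x = g⁻¹ * (c * (g * x * g⁻¹)) * g := by group
            _ = g⁻¹ * (g * x * g⁻¹ * c) * g := by rw [h]
            _ = _ := by group
      have hcard : Nat.card C ≤ Nat.card (Subgroup.centralizer ({y} : Set G)) := by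
        rw [← e, Subgroup.card_map_of_injective (MulAut.conj g).injective]
      have heq : Subgroup.centralizer ({y} : Set G) = C := Subgroup.eq_of_le_of_card_ge hle hcard
      obtain ⟨n, hn, hne⟩ := Sylow.conj_eq_normalizer_conj_of_mem_centralizer P x g⁻¹
        (Subgroup.mem_centralizer_iff.2 fun s hs => Subgroup.mem_centralizer_singleton_iff.1 (hPC hs))
        (Subgroup.mem_centralizer_iff.2 fun s hs => by
          rw [inv_inv]; exact Subgroup.mem_centralizer_singleton_iff.1 (heq.ge (hPC hs)))
      rw [inv_inv] at hne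
      rw [hy, hne, mul_assoc, ← Subgroup.mem_centralizer_singleton_iff.1 (hlc _ le_rfl (fun h => hy1
        (Subgroup.mem_bot.1 (h ▸ hg))) hn), inv_mul_cancel_left]
    refine ⟨hPC, hcon, fun N _ R hR hR1 nb hnb => ?_⟩
    set f := QuotientGroup.mk' N with hf
    obtain ⟨n, rfl⟩ := QuotientGroup.mk'_surjective N nb
    set X := R.comap f with hX
    set R' := X ⊓ (P : Subgroup G) with hR'
    have hXeq : X ≤ R' ⊔ N := by
      intro a ha
      obtain ⟨s, hs, hse⟩ := Subgroup.mem_map.1 (hR ha)
      have hsN : s⁻¹ * a ∈ N := (QuotientGroup.eq).1 hse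
      have hsX : s ∈ X := Subgroup.mem_comap.2 (by rw [hse]; exact ha)
      rw [show a = s * (s⁻¹ * a) by group]
      exact mul_mem (Subgroup.mem_sup_left (Subgroup.mem_inf.2 ⟨hsX, hs⟩)) (Subgroup.mem_sup_right hsN)
    have hNX : N ≤ X := fun a ha => Subgroup.mem_comap.2 (by
      rw [hf, QuotientGroup.mk'_apply, (QuotientGroup.eq_one_iff a).2 ha]; exact one_mem _)
    have hXe : X = R' ⊔ N := le_antisymm hXeq (sup_le inf_le_left hNX)
    have hR'ne : R' ≠ ⊥ := by
      intro h
      refine hR1 (le_bot_iff.1 fun r hr => ?_)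
      obtain ⟨a, rfl⟩ := QuotientGroup.mk'_surjective N r
      have : a ∈ R' ⊔ N := hXeq (Subgroup.mem_comap.2 hr)
      rw [h, bot_sup_eq] at this
      exact Subgroup.mem_bot.2 ((QuotientGroup.eq_one_iff a).2 this)
    have hSyl : ¬ p ∣ (R'.subgroupOf X).index := by
      show ¬ p ∣ R'.relIndex X
      rw [hXe, CfsgLib.Perm.relIndex_sup_eq_of_normal]
      obtain ⟨T, hT⟩ := sylow_inf_normal P N
      have : R'.relIndex N = ((P : Subgroup G) ⊓ N).relIndex N := by
        rw [← Subgroup.inf_relIndex_right R' N, hR']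
        congr 1
        rw [inf_comm X, inf_assoc, inf_eq_right.2 hNX]
      rw [this, ← hT, Subgroup.relIndex, Subgroup.subgroupOf, Subgroup.comap_map_eq_self_of_injective
        N.subtype_injective]
      exact T.not_dvd_index
    have hR'p : IsPGroup p (R'.subgroupOf X) := (P.2.to_le inf_le_right).comap_subtype
    set S : Sylow p X := hR'p.toSylow hSyl with hS
    have hnX : ∀ a, a ∈ X ↔ n * a * n⁻¹ ∈ X := by
      intro a
      rw [hX, Subgroup.mem_comap, Subgroup.mem_comap, map_mul, map_mul, map_inv]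
      exact Subgroup.mem_normalizer_iff.1 hnb (f a)
    have hmap : (R'.map (MulAut.conj n).toMonoidHom) ≤ X := by
      rintro _ ⟨a, ha, rfl⟩
      exact (hnX a).1 (Subgroup.mem_inf.1 ha).1
    have hp2 : IsPGroup p ((R'.map (MulAut.conj n).toMonoidHom).subgroupOf X) :=
      ((P.2.to_le inf_le_right).map _).comap_subtype
    obtain ⟨T, hT⟩ := hp2.exists_le_sylow
    obtain ⟨m, hm⟩ := MulAction.exists_smul_eq X T S
    have hmn : (m : G) * n ∈ Subgroup.normalizer (R' : Set G) := by
      refine mem_normalizer_of_map_le ?_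
      rintro _ ⟨a, ha, rfl⟩
      have h1 : n * a * n⁻¹ ∈ R'.map (MulAut.conj n).toMonoidHom := Subgroup.mem_map.2 ⟨a, ha, rfl⟩
      have h2 : m * (⟨n * a * n⁻¹, hmap h1⟩ : X) * m⁻¹ ∈ (S : Subgroup X) := by
        rw [← hm, Sylow.coe_subgroup_smul, CfsgLib.Solv.mem_conj_smul_iff,
          show m⁻¹ * (m * (⟨n * a * n⁻¹, hmap h1⟩ : X) * m⁻¹) * m = ⟨n * a * n⁻¹, hmap h1⟩ by group]
        exact hT h1
      show (m : G) * n * a * ((m : G) * n)⁻¹ ∈ R'
      rw [show (m : G) * n * a * ((m : G) * n)⁻¹ = (m : G) * (n * a * n⁻¹) * (m : G)⁻¹ by group]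
      exact h2
    have hc := hlc R' inf_le_right hR'ne hmn
    have hmc : f (m : G) * f x = f x * f (m : G) := by
      obtain ⟨r, hr, hre⟩ := Subgroup.mem_map.1 (hR m.2)
      rw [← hre, ← map_mul, ← map_mul, Subgroup.mem_centralizer_singleton_iff.1 (hPC hr)]
    refine Subgroup.mem_centralizer_singleton_iff.2 ?_
    have h3 := congrArg f (Subgroup.mem_centralizer_singleton_iff.1 hc)
    rw [map_mul, map_mul, map_mul, map_mul] at h3
    show f n * f x = f x * f n
    calc f n * f x = (f (m : G))⁻¹ * (f (m : G) * f n * f x) := by group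
      _ = (f (m : G))⁻¹ * (f x * f (m : G)) * f n := by rw [h3]; group
      _ = _ := by rw [← hmc]; group)

end Cfsg.Agent.S2998
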