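import Cfsg.Statements.S3003
import Cfsg.Agent.Solv.Generation

set_option autoImplicit false
open Cfsg

namespace Cfsg.Agent.S3003

/-- Let G be a finite group, p a prime and Q a large p-subgroup of G: C_G(Q) ≤ Q and N_G(U) ≤ N_G(Q) for every nontrivial subgroup U of C_G(Q). Let Q ≤ G₁ ≤ G, let R be a subgroup of order prime to p normalized by G₁, and let U ≤ G₁ be a p-subgroup. If U contains a nontrivial element which is G₁-conjugate to an element of Z(Q), then C_R(U) = 1. In particular, if U is elementary abelian of order at least p² and every maximal subgroup of U contains a nontrivial element G₁-conjugate into Z(Q), then R = 1. -/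
theorem result {G : Type*} [Group G] [Finite G] {p : ℕ} [Fact p.Prime] (Q : Subgroup G) (hQp : IsPGroup p ↥Q) (hlarge : Cfsg.IsLarge Q) (G₁ : Subgroup G) (hQG : Q ≤ G₁) (R : Subgroup G) (hR : (Nat.card ↥R).Coprime p) (hGR : G₁ ≤ Subgroup.normalizer (R : Set G)) (U : Subgroup G) (hUG : U ≤ G₁) (hUp : IsPGroup p ↥U) : ((∃ x ∈ U, x ≠ 1 ∧ ∃ g ∈ G₁, g * x * g⁻¹ ∈ Q ⊓ Subgroup.centralizer (Q : Set G)) → R ⊓ Subgroup.centralizer (U : Set G) = ⊥) ∧ (Cfsg.IsElementaryAbelian p U → p ^ 2 ≤ Nat.card ↥U → (∀ U₀ : Subgroup G, U₀ ≤ U → IsCoatom (U₀.subgroupOf U) → ∃ x ∈ U₀, x ≠ 1 ∧ ∃ g ∈ G₁, g * x * g⁻¹ ∈ Q ⊓ Subgroup.centralizer (Q : Set G)) → R = ⊥) := by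
  exact (by
    obtain ⟨hCQ, hU'⟩ := hlarge
    have hRQ : R ⊓ Q = ⊥ := by
      refine (Subgroup.disjoint_of_coprime_natCard ?_).eq_bot
      obtain ⟨k, hk⟩ := IsPGroup.iff_card.1 hQp
      rw [hk]; exact hR.pow_right k
    have main : ∀ W : Subgroup G, (∃ x ∈ W, x ≠ 1 ∧ ∃ g ∈ G₁, g * x * g⁻¹ ∈ Q ⊓ Subgroup.centralizer (Q : Set G)) →
        R ⊓ Subgroup.centralizer (W : Set G) = ⊥ := by
      rintro W ⟨x, hxW, hx1, g, hg, hy⟩
      refine le_bot_iff.1 fun r hr => ?_
      obtain ⟨hrR, hrC⟩ := Subgroup.mem_inf.1 hr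
      set y := g * x * g⁻¹ with hydef
      set s := g * r * g⁻¹ with hs
      have hsR : s ∈ R := (Subgroup.mem_normalizer_iff.1 (hGR hg) r).1 hrR
      have hsy : s * y = y * s := by
        have h := Subgroup.mem_centralizer_iff.1 hrC x hxW
        calc s * y = g * (r * x) * g⁻¹ := by rw [hs, hydef]; group
          _ = g * (x * r) * g⁻¹ := by rw [← h]
          _ = y * s := by rw [hs, hydef]; group
      have hsN : s ∈ Subgroup.normalizer (Q : Set G) := by
        refine hU' (Subgroup.zpowers y) (Subgroup.zpowers_le.2 (Subgroup.mem_inf.1 hy).2)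
          (by simp only [Ne, Subgroup.zpowers_eq_bot, hydef, conj_eq_one_iff]; exact hx1)
          (Subgroup.centralizer_le_normalizer _ (Subgroup.mem_centralizer_iff.2 ?_))
        rintro _ ⟨i, rfl⟩
        exact ((show Commute s y from hsy).symm.zpow_left i).eq
      have hsC : s ∈ Subgroup.centralizer (Q : Set G) := by
        refine Subgroup.mem_centralizer_iff.2 fun q hq => ?_
        have h1 : q * s * q⁻¹ * s⁻¹ ∈ R ⊓ Q := by
          refine Subgroup.mem_inf.2 ⟨mul_mem ((Subgroup.mem_normalizer_iff.1 (hGR (hQG hq)) s).1 hsR) (inv_mem hsR), ?_⟩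
          rw [show q * s * q⁻¹ * s⁻¹ = q * (s * q⁻¹ * s⁻¹) by group]
          exact mul_mem hq ((Subgroup.mem_normalizer_iff.1 hsN _).1 (inv_mem hq))
        rw [hRQ, Subgroup.mem_bot] at h1
        calc q * s = q * s * q⁻¹ * s⁻¹ * (s * q) := by group
          _ = s * q := by rw [h1, one_mul]
      have h2 : s ∈ R ⊓ Q := Subgroup.mem_inf.2 ⟨hsR, hCQ hsC⟩
      rw [hRQ, Subgroup.mem_bot, hs, conj_eq_one_iff] at h2
      exact Subgroup.mem_bot.2 h2
    refine ⟨fun h => main U h, fun hUe hU2 hall => le_bot_iff.1 ?_⟩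
    haveI := hUe.1
    have hcopU : (Nat.card U).Coprime (Nat.card R) := by
      obtain ⟨k, hk⟩ := IsPGroup.iff_card.1 hUp
      rw [hk]; exact (hR.pow_right k).symm
    refine CfsgLib.Solv.le_of_cocyclic_centralizers (A := U) (hUG.trans hGR) hcopU fun B hBU hBc => ?_
    obtain ⟨a, ha, hBa⟩ := hBc
    -- B contains a maximal subgroup or is one
    obtain ⟨U₀, hU₀U, hBU₀, hco⟩ : ∃ U₀ : Subgroup G, U₀ ≤ U ∧ (U₀ ≤ B) ∧ IsCoatom (U₀.subgroupOf U) := by
      by_cases hB : B.subgroupOf U = ⊤
      · haveI : Nontrivial U := Finite.one_lt_card_iff_nontrivial.1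
          (lt_of_lt_of_le (Nat.one_lt_pow (by norm_num) (Fact.out : p.Prime).one_lt) hU2)
        obtain ⟨M, hM, -⟩ := (eq_top_or_exists_le_coatom (⊥ : Subgroup U)).resolve_left bot_ne_top
        refine ⟨M.map U.subtype, Subgroup.map_subtype_le _, (Subgroup.map_subtype_le _).trans (Subgroup.subgroupOf_eq_top.1 hB), ?_⟩
        rw [Subgroup.subgroupOf, Subgroup.comap_map_eq_self_of_injective U.subtype_injective]
        exact hM
      · refine ⟨B, hBU, le_rfl, hB, fun L hL => ?_⟩
        have hap : a ^ p = 1 := hUe.2 a ha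
        have hcard : (B.subgroupOf U).index ≤ p := by
          have hsur : ∀ q : U ⧸ B.subgroupOf U, ∃ i : Fin p, ((⟨a, ha⟩ : U) ^ (i : ℕ) : U) = (q : U ⧸ B.subgroupOf U) := by
            intro q
            obtain ⟨⟨u, hu⟩, rfl⟩ := QuotientGroup.mk_surjective q
            have hu' : u ∈ B ⊔ Subgroup.zpowers a := hBa.symm ▸ hu
            have hn : Subgroup.zpowers a ≤ Subgroup.normalizer (B : Set G) := by
              refine le_trans (fun z hz => ?_) (Subgroup.centralizer_le_normalizer _)
              exact Subgroup.mem_centralizer_iff.2 fun b hb =>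
                congrArg Subtype.val (hUe.1.is_comm.comm (⟨b, hBU hb⟩ : U) ⟨z, Subgroup.zpowers_le.2 ha hz⟩)
            rw [sup_comm] at hu'
            obtain ⟨b, hb, z, hz, rfl⟩ := CfsgLib.Solv.exists_mul_of_mem_sup hn hu'
            obtain ⟨i, rfl⟩ := hz
            refine ⟨⟨(i % p).toNat, by
              have h1 := Int.emod_lt_of_pos i (show (0 : ℤ) < p by exact_mod_cast (Fact.out : p.Prime).pos)
              have h2 := Int.emod_nonneg i (show (p : ℤ) ≠ 0 by exact_mod_cast (Fact.out : p.Prime).ne_zero)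
              exact (Int.toNat_lt h2).2 h1⟩, ?_⟩
            rw [QuotientGroup.eq, Subgroup.mem_subgroupOf]
            have e : a ^ (i % p).toNat = a ^ i := by
              rw [← zpow_natCast, Int.toNat_of_nonneg (Int.emod_nonneg _ (by exact_mod_cast (Fact.out : p.Prime).ne_zero))]
              conv_rhs => rw [← Int.mul_ediv_add_emod i p, zpow_add, zpow_mul, zpow_natCast, hap, one_zpow, one_mul]
            simp only [Subgroup.coe_mul, Subgroup.coe_inv, Subgroup.coe_pow, e]
            rw [show (a ^ i)⁻¹ * (b * a ^ i) = b by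
              rw [show b * a ^ i = a ^ i * b from congrArg Subtype.val (hUe.1.is_comm.comm (⟨b, hBU hb⟩ : U) ⟨a ^ i, zpow_mem ha i⟩)]
              group]
            exact hb
          choose f hf using hsur
          rw [Subgroup.index_eq_card]
          have := Nat.card_le_card_of_injective f (fun q q' h => by rw [← hf q, ← hf q', h])
          simpa using this
        have hd : (B.subgroupOf U).index ∣ Nat.card U := Subgroup.index_dvd_card _
        obtain ⟨n, hn⟩ := IsPGroup.iff_card.1 hUp
        rw [hn] at hd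
        obtain ⟨j, -, hj⟩ := (Nat.dvd_prime_pow Fact.out).1 hd
        have hj1 : j = 1 := by
          rcases Nat.lt_or_ge j 1 with h | h
          · interval_cases j
            exact absurd (Subgroup.index_eq_one.1 (by simpa using hj)) hB
          · by_contra hne
            have : p ^ 2 ≤ p ^ j := Nat.pow_le_pow_right (Fact.out : p.Prime).pos (by omega)
            have h2 : p < p ^ 2 := by nlinarith [(Fact.out : p.Prime).two_le]
            omega
        rw [hj1, pow_one] at hj
        rcases (Nat.dvd_prime Fact.out).1 (hj ▸ Subgroup.index_dvd_of_le hL.le : L.index ∣ p) with h | h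
        · exact Subgroup.index_eq_one.1 h
        · refine absurd (Subgroup.eq_of_le_of_card_ge hL.le ?_) hL.ne
          have e1 := Subgroup.card_mul_index (B.subgroupOf U)
          have e2 := Subgroup.card_mul_index L
          rw [h] at e2; rw [hj] at e1
          exact le_of_eq (Nat.eq_of_mul_eq_mul_right (Fact.out : p.Prime).pos (e2.trans e1.symm))
    exact (inf_le_inf_left R (Subgroup.centralizer_le (SetLike.coe_subset_coe.2 hBU₀))).trans
      (main U₀ (hall U₀ hU₀U hco)).le)

end Cfsg.Agent.S3003
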