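import Cfsg.Statements.S3006
import Cfsg.Agent.Inv.ChermakDelgado

set_option autoImplicit false
open scoped Pointwise
open Cfsg

namespace Cfsg.Agent.S3006

/-- Let P be a finite p-group, Q a centrally large subgroup of P (|Q|·|Z(Q)| maximal among subgroups of P) and A an abelian subgroup of P of largest order. Then QA = AQ is a centrally large subgroup of P, C_{QA}(Q ∩ A) = Z(Q)·A, and the subgroup generated by all centrally large subgroups of P contains C_P(Z(J(P))), where J(P) is generated by the abelian subgroups of largest order. -/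
theorem result {p : ℕ} [Fact p.Prime] (P : Type*) [Group P] [Finite P] (hP : IsPGroup p P) (Q A : Subgroup P) (hQ : Cfsg.IsCentrallyLarge Q) (hA : A ∈ Cfsg.maxAbelianSubgroups P) : ((Q ⊔ A : Subgroup P) : Set P) = (Q : Set P) * (A : Set P) ∧ Cfsg.IsCentrallyLarge (Q ⊔ A) ∧ (Q ⊔ A) ⊓ Subgroup.centralizer ((Q ⊓ A : Subgroup P) : Set P) = (Q ⊓ Subgroup.centralizer (Q : Set P)) ⊔ A ∧ (((Q ⊓ Subgroup.centralizer (Q : Set P)) ⊔ A : Subgroup P) : Set P) = ((Q ⊓ Subgroup.centralizer (Q : Set P)) : Set P) * (A : Set P) ∧ Subgroup.centralizer ((Cfsg.thompsonSubgroupA P ⊓ Subgroup.centralizer (Cfsg.thompsonSubgroupA P : Set P) : Subgroup P) : Set P) ≤ Cfsg.centrallyLargeJoin P := by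
  open CfsgLib.Inv.CD in
  open scoped Pointwise in
  exact (by
    obtain ⟨hQ1, hQ2⟩ := cl_iff.1 hQ
    obtain ⟨hJ, hset, hB⟩ := cl_sup_maxAbelian hQ hA
    rw [inf_eq_right.2 hQ2]
    set Z := Subgroup.centralizer (Q : Set P) with hZ
    have hcen := centralizer_maxAbelian hB
    have hAI : A ≤ Subgroup.centralizer ((Q ⊓ A : Subgroup P) : Set P) :=
      (centralizer_maxAbelian hA).ge.trans (Subgroup.centralizer_le (SetLike.coe_subset_coe.2 inf_le_right))
    have hdec : ∀ x ∈ (Q ⊔ A) ⊓ Subgroup.centralizer ((Q ⊓ A : Subgroup P) : Set P),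
        ∃ z ∈ Z, ∃ a ∈ A, z * a = x := by
      intro x hx
      obtain ⟨hxJ, hxC⟩ := Subgroup.mem_inf.1 hx
      obtain ⟨q, hq, a, ha, rfl⟩ := (hset ▸ hxJ : x ∈ (Q : Set P) * (A : Set P))
      have hqC : q ∈ Subgroup.centralizer ((Q ⊓ A : Subgroup P) : Set P) := by
        have := mul_mem hxC (inv_mem (hAI ha))
        simpa [mul_assoc] using this
      have hqB : q ∈ Z ⊔ (Q ⊓ A) := by
        rw [← hcen, centralizer_sup]
        refine Subgroup.mem_inf.2 ⟨?_, hqC⟩
        exact le_centralizer_centralizer Q hq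
      have hn : Z ≤ Subgroup.normalizer ((Q ⊓ A : Subgroup P) : Set P) :=
        le_trans (Subgroup.centralizer_le (SetLike.coe_subset_coe.2 inf_le_left)) (Subgroup.centralizer_le_normalizer _)
      obtain ⟨z, hz, i, hi, rfl⟩ : ∃ z ∈ Z, ∃ i ∈ Q ⊓ A, q = z * i := by
        obtain ⟨i, hi, z, hz, rfl⟩ := CfsgLib.Solv.exists_mul_of_mem_sup hn hqB
        refine ⟨z, hz, i, hi, ?_⟩
        exact Subgroup.mem_centralizer_iff.1 (le_centralizer_centralizer Q (Subgroup.mem_inf.1 hi).1) z hz |>.symm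
      exact ⟨z, hz, i * a, mul_mem (Subgroup.mem_inf.1 hi).2 ha, by group⟩
    have hle : Z ⊔ A ≤ (Q ⊔ A) ⊓ Subgroup.centralizer ((Q ⊓ A : Subgroup P) : Set P) :=
      sup_le (le_inf (hQ2.trans le_sup_left) (Subgroup.centralizer_le (SetLike.coe_subset_coe.2 inf_le_left)))
        (le_inf le_sup_right hAI)
    refine ⟨hset, hJ, le_antisymm (fun x hx => ?_) hle, Set.Subset.antisymm (fun x hx => ?_) ?_, ?_⟩
    · obtain ⟨z, hz, a, ha, rfl⟩ := hdec x hx
      exact mul_mem (Subgroup.mem_sup_left hz) (Subgroup.mem_sup_right ha)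
    · obtain ⟨z, hz, a, ha, rfl⟩ := hdec x (hle hx)
      exact ⟨z, ⟨hQ2 hz, hz⟩, a, ha, rfl⟩
    · rintro _ ⟨z, hz, a, ha, rfl⟩
      exact mul_mem (Subgroup.mem_sup_left hz.2) (Subgroup.mem_sup_right ha)
    · have hCL : Cfsg.IsCentrallyLarge (Cfsg.centrallyLargeJoin P) := cl_sSup ⟨Q, hQ⟩ fun R hR => hR
      obtain ⟨-, hC2⟩ := cl_iff.1 hCL
      refine centralizer_le_cl hCL ?_
      have hJA : ∀ B ∈ Cfsg.maxAbelianSubgroups P, B ≤ Cfsg.centrallyLargeJoin P := fun B hB' =>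
        le_sup_right.trans (le_sSup (cl_sup_maxAbelian hCL hB').1)
      refine le_inf ?_ (Subgroup.centralizer_le (SetLike.coe_subset_coe.2 (sSup_le hJA)))
      intro z hz
      have hzA : z ∈ Subgroup.centralizer (A : Set P) :=
        Subgroup.centralizer_le (SetLike.coe_subset_coe.2 (hJA A hA)) hz
      rw [centralizer_maxAbelian hA] at hzA
      exact le_sSup (α := Subgroup P) hA hzA)

end Cfsg.Agent.S3006
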