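import Cfsg.Statements.S3007
import Cfsg.Agent.Inv.ChermakDelgado

set_option autoImplicit false
open Cfsg

namespace Cfsg.Agent.S3007

/-- Let P be a finite p-group and Q, R minimal centrally large subgroups of P (centrally large: |Q|·|Z(Q)| maximal among subgroups of P; minimal among such under inclusion). Then Q = (Q ∩ R)·Z(Q), the derived subgroups [Q, Q] and [R, R] coincide, |Q| = |R| and |Z(Q)| = |Z(R)|; and if Q is abelian then the minimal centrally large subgroups of P are exactly the abelian subgroups of P of largest order. -/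
theorem result {p : ℕ} [Fact p.Prime] (P : Type*) [Group P] [Finite P] (hP : IsPGroup p P) (Q R : Subgroup P) (hQ : Cfsg.IsMinimalCentrallyLarge Q) (hR : Cfsg.IsMinimalCentrallyLarge R) : (Q ⊓ R) ⊔ (Q ⊓ Subgroup.centralizer (Q : Set P)) = Q ∧ ⁅Q, Q⁆ = ⁅R, R⁆ ∧ Nat.card ↥Q = Nat.card ↥R ∧ Nat.card ↥(Q ⊓ Subgroup.centralizer (Q : Set P)) = Nat.card ↥(R ⊓ Subgroup.centralizer (R : Set P)) ∧ (IsMulCommutative ↥Q → ∀ X : Subgroup P, Cfsg.IsMinimalCentrallyLarge X ↔ X ∈ Cfsg.maxAbelianSubgroups P) := by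
  open CfsgLib.Inv.CD in
  open scoped commutatorElement in
  open scoped Pointwise in
  exact (by
    obtain ⟨hQc, hQmin⟩ := hQ
    obtain ⟨hRc, hRmin⟩ := hR
    -- decomposition of a minimal member along another one
    have hdec : ∀ Q R : Subgroup P, Cfsg.IsMinimalCentrallyLarge Q → Cfsg.IsMinimalCentrallyLarge R →
        (Q ⊓ R) ⊔ Subgroup.centralizer (Q : Set P) = Q ∧
        Subgroup.centralizer ((Q ⊓ R : Subgroup P) : Set P) ⊓ (Q ⊓ R) =
          Subgroup.centralizer (Q : Set P) ⊓ (Q ⊓ R) := by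
      intro Q R hQ hR
      obtain ⟨hQ1, hQ2⟩ := cl_iff.1 hQ.1
      obtain ⟨hR1, hR2⟩ := cl_iff.1 hR.1
      obtain ⟨-, hI, -, hC, heC⟩ := lattice hQ1 hR1
      obtain ⟨hZ, hQQ⟩ := centralizer_large hQ1
      set Z := Subgroup.centralizer (Q : Set P) with hZdef
      obtain ⟨hQ', -⟩ := lattice hI hZ
      have hle : Subgroup.centralizer (((Q ⊓ R) ⊔ Z : Subgroup P) : Set P) ≤ (Q ⊓ R) ⊔ Z := by
        rw [centralizer_sup, ← hQQ, hC]
        intro x hx
        obtain ⟨h1, h2⟩ := Subgroup.mem_inf.1 hx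
        have hset := set_eq_mul_of_card heC
        obtain ⟨u, hu, v, hv, rfl⟩ : x ∈ (Z : Set P) * (Subgroup.centralizer (R : Set P) : Set P) := hset ▸ h1
        have hvQ : v ∈ Q := by
          have := mul_mem (inv_mem (hQ2 hu)) h2
          simpa using this
        exact mul_mem (Subgroup.mem_sup_right hu) (Subgroup.mem_sup_left (Subgroup.mem_inf.2 ⟨hvQ, hR2 hv⟩))
      have heq := hQ.2 _ (sup_le inf_le_left hQ2) (cl_iff.2 ⟨hQ', hle⟩)
      refine ⟨heq, le_antisymm ?_ (inf_le_inf_right _ (Subgroup.centralizer_le (SetLike.coe_subset_coe.2 inf_le_left)))⟩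
      intro x hx
      obtain ⟨hxC, hxI⟩ := Subgroup.mem_inf.1 hx
      refine Subgroup.mem_inf.2 ⟨?_, hxI⟩
      rw [hZdef, ← heq, centralizer_sup, ← hQQ]
      exact Subgroup.mem_inf.2 ⟨hxC, (Subgroup.mem_inf.1 hxI).1⟩
    have hZQ : ∀ Q : Subgroup P, Cfsg.IsCentrallyLarge Q →
        Q ⊓ Subgroup.centralizer (Q : Set P) = Subgroup.centralizer (Q : Set P) := fun Q h => inf_eq_right.2 (cl_iff.1 h).2
    have hder : ∀ Q R : Subgroup P, Cfsg.IsMinimalCentrallyLarge Q → Cfsg.IsMinimalCentrallyLarge R →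
        ⁅Q, Q⁆ ≤ ⁅R, R⁆ := by
      intro Q R hQ hR
      have heq := (hdec Q R hQ hR).1
      set Z := Subgroup.centralizer (Q : Set P)
      refine Subgroup.commutator_le.2 fun x hx y hy => ?_
      have hn : (Q ⊓ R) ≤ Subgroup.centralizer (Z : Set P) := inf_le_left.trans (le_centralizer_centralizer Q)
      have hdx : ∀ x ∈ Q, ∃ i ∈ Q ⊓ R, ∃ z ∈ Z, x = i * z := by
        intro x hx
        rw [← heq] at hx
        obtain ⟨z, hz, i, hi, rfl⟩ := CfsgLib.Solv.exists_mul_of_mem_sup (hn.trans (Subgroup.centralizer_le_normalizer _)) hx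
        exact ⟨i, hi, z, hz, Subgroup.mem_centralizer_iff.1 (hn hi) z hz⟩
      obtain ⟨i, hi, z, hz, rfl⟩ := hdx x hx
      obtain ⟨j, hj, w, hw, rfl⟩ := hdx y hy
      have c1 : ∀ q ∈ Q, q * z = z * q := fun q hq => Subgroup.mem_centralizer_iff.1 hz q hq
      have c2 : ∀ q ∈ Q, q * w = w * q := fun q hq => Subgroup.mem_centralizer_iff.1 hw q hq
      have hjQ := (Subgroup.mem_inf.1 hj).1
      have hiQ := (Subgroup.mem_inf.1 hi).1
      have hQ2 := (cl_iff.1 hQ.1).2
      rw [show ⁅i * z, j * w⁆ = ⁅i, j⁆ by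
        simp only [commutatorElement_def, mul_inv_rev]
        calc i * z * (j * w) * (z⁻¹ * i⁻¹) * (w⁻¹ * j⁻¹)
            = i * (z * j) * w * z⁻¹ * i⁻¹ * w⁻¹ * j⁻¹ := by group
          _ = i * (j * z) * w * z⁻¹ * i⁻¹ * w⁻¹ * j⁻¹ := by rw [c1 j hjQ]
          _ = i * j * (z * w) * z⁻¹ * i⁻¹ * w⁻¹ * j⁻¹ := by group
          _ = i * j * (w * z) * z⁻¹ * i⁻¹ * w⁻¹ * j⁻¹ := by rw [c2 z (hQ2 hz)]
          _ = i * j * (w * i⁻¹) * w⁻¹ * j⁻¹ := by group
          _ = i * j * (i⁻¹ * w) * w⁻¹ * j⁻¹ := by rw [c2 i⁻¹ (inv_mem hiQ)]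
          _ = i * j * i⁻¹ * j⁻¹ := by group]
      exact Subgroup.commutator_mem_commutator (Subgroup.mem_inf.1 hi).2 (Subgroup.mem_inf.1 hj).2
    -- orders
    have hcard : ∀ Q R : Subgroup P, Cfsg.IsMinimalCentrallyLarge Q → Cfsg.IsMinimalCentrallyLarge R →
        Nat.card Q * Nat.card ↥(Subgroup.centralizer ((Q ⊓ R : Subgroup P) : Set P) ⊓ (Q ⊓ R)) =
          Nat.card ↥(Q ⊓ R) * Nat.card (Subgroup.centralizer (Q : Set P)) := by
      intro Q R hQ hR
      obtain ⟨heq, hcen⟩ := hdec Q R hQ hR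
      obtain ⟨hQ1, hQ2⟩ := cl_iff.1 hQ.1
      obtain ⟨hR1, -⟩ := cl_iff.1 hR.1
      obtain ⟨-, hI, -, -, -⟩ := lattice hQ1 hR1
      have he := (lattice hI (centralizer_large hQ1).1).2.2.1
      rw [heq] at he
      rw [hcen, inf_comm, ← he]
    have e1 := hcard Q R ⟨hQc, hQmin⟩ ⟨hRc, hRmin⟩
    have e2 := hcard R Q ⟨hRc, hRmin⟩ ⟨hQc, hQmin⟩
    rw [inf_comm R Q] at e2
    have hf : Nat.card Q * Nat.card (Subgroup.centralizer (Q : Set P)) =
        Nat.card R * Nat.card (Subgroup.centralizer (R : Set P)) :=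
      ((cl_iff.1 hQc).1 : _ = _).trans ((cl_iff.1 hRc).1 : _ = _).symm
    have hQR : Nat.card Q = Nat.card R := by
      set i := Nat.card ↥(Q ⊓ R) with hi
      set c := Nat.card ↥(Subgroup.centralizer ((Q ⊓ R : Subgroup P) : Set P) ⊓ (Q ⊓ R)) with hc
      have hipos : 0 < i := Nat.card_pos
      have hcpos : 0 < c := Nat.card_pos
      have : Nat.card Q * Nat.card Q * (c * i) = Nat.card R * Nat.card R * (c * i) := by
        calc Nat.card Q * Nat.card Q * (c * i) = Nat.card Q * i * (Nat.card Q * c) := by ring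
          _ = i * i * (Nat.card Q * Nat.card (Subgroup.centralizer (Q : Set P))) := by rw [e1]; ring
          _ = i * i * (Nat.card R * Nat.card (Subgroup.centralizer (R : Set P))) := by rw [hf]
          _ = Nat.card R * i * (Nat.card R * c) := by rw [e2]; ring
          _ = _ := by ring
      exact Nat.mul_self_inj.1 (Nat.eq_of_mul_eq_mul_right (mul_pos hcpos hipos) this)
    refine ⟨?_, le_antisymm (hder Q R ⟨hQc, hQmin⟩ ⟨hRc, hRmin⟩) (hder R Q ⟨hRc, hRmin⟩ ⟨hQc, hQmin⟩), hQR, ?_, ?_⟩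
    · rw [hZQ Q hQc]; exact (hdec Q R ⟨hQc, hQmin⟩ ⟨hRc, hRmin⟩).1
    · rw [hZQ Q hQc, hZQ R hRc]
      rw [hQR] at hf
      exact Nat.eq_of_mul_eq_mul_left Nat.card_pos hf
    · intro hab X
      have hsq : ∀ Y : Subgroup P, Cfsg.IsCentrallyLarge Y → IsMulCommutative Y →
          Cfsg.maxCentralProduct P = Nat.card Y * Nat.card Y := fun Y hY hYc => by
        rw [← (hY : _ = _), card_center_eq, inf_eq_left.2 fun y hy => Subgroup.mem_centralizer_iff.2 fun z hz =>
          congrArg Subtype.val (hYc.is_comm.comm (⟨z, hz⟩ : Y) ⟨y, hy⟩)]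
      have hbound : ∀ B : Subgroup P, IsMulCommutative B → Nat.card B * Nat.card B ≤ Cfsg.maxCentralProduct P := by
        intro B hB
        rw [maxCentral_eq]
        refine le_trans (Nat.mul_le_mul_left _ (Nat.le_of_dvd Nat.card_pos (Subgroup.card_dvd_of_le ?_))) (meas_le B)
        exact fun y hy => Subgroup.mem_centralizer_iff.2 fun z hz =>
          congrArg Subtype.val (hB.is_comm.comm (⟨z, hz⟩ : B) ⟨y, hy⟩)
      have hf0 := hsq Q hQc hab
      constructor
      · intro hX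
        have hXc : IsMulCommutative X := by
          have h0 : ⁅Q, Q⁆ = ⊥ := Subgroup.commutator_eq_bot_iff_le_centralizer.2 fun y hy =>
            Subgroup.mem_centralizer_iff.2 fun z hz => congrArg Subtype.val (hab.is_comm.comm (⟨z, hz⟩ : Q) ⟨y, hy⟩)
          have h1 : ⁅X, X⁆ = ⊥ := le_bot_iff.1 ((hder X Q hX ⟨hQc, hQmin⟩).trans h0.le)
          rw [Subgroup.commutator_eq_bot_iff_le_centralizer] at h1
          exact ⟨⟨fun u v => Subtype.ext (Subgroup.mem_centralizer_iff.1 (h1 v.2) u u.2)⟩⟩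
        exact ⟨hXc, fun B hB => Nat.mul_self_le_mul_self_iff.1 ((hbound B hB).trans (hsq X hX.1 hXc).le)⟩
      · intro hX
        have hXX : Nat.card X * Nat.card X = Cfsg.maxCentralProduct P := by
          refine le_antisymm (hbound X hX.1) ?_
          rw [hf0]
          exact Nat.mul_self_le_mul_self (hX.2 Q hab)
        refine ⟨?_, fun Y hYX hY => ?_⟩
        · show _ = _
          rw [card_center_eq, inf_eq_left.2 (centralizer_maxAbelian hX).ge]
          exact hXX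
        · have hYc : IsMulCommutative Y := ⟨⟨fun u v => Subtype.ext (by
            simpa using congrArg Subtype.val (hX.1.is_comm.comm (⟨u, hYX u.2⟩ : X) ⟨v, hYX v.2⟩))⟩⟩
          refine Subgroup.eq_of_le_of_card_ge hYX (Nat.mul_self_le_mul_self_iff.1 ?_)
          rw [hXX, hsq Y hY hYc])

end Cfsg.Agent.S3007
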