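import Cfsg.Statements.S3012
import Cfsg.Agent.Solv.Basic

set_option autoImplicit false
open Cfsg

namespace Cfsg.Agent.S3012

/-- Let G be a finite group, V a nontrivial elementary abelian 2-subgroup of G satisfying the Sidki pair condition (every odd-order element inverted by an element of V commutes with a nontrivial element of V), and K a normal subgroup of G with V ∩ K = 1. Then the image of V in G/K satisfies the Sidki pair condition in G/K. -/
theorem result {G : Type*} [Group G] [Finite G] (V K : Subgroup G) [K.Normal] (hV : Cfsg.IsElementaryAbelian 2 V) (hV1 : V ≠ ⊥) (hS : Cfsg.IsSidkiPair V) (hVK : V ⊓ K = ⊥) : Cfsg.IsSidkiPair (V.map (QuotientGroup.mk' K)) := by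
  exact (by
    have hne : ∀ w ∈ V, w ≠ 1 → QuotientGroup.mk' K w ≠ 1 := fun w hw hw1 e => hw1 (by
      have : w ∈ V ⊓ K := Subgroup.mem_inf.2 ⟨hw, (QuotientGroup.eq_one_iff w).1 e⟩
      rwa [hVK, Subgroup.mem_bot] at this)
    intro hb vb hvb hodd hinv
    obtain ⟨v, hv, rfl⟩ := hvb
    obtain ⟨g, rfl⟩ := QuotientGroup.mk'_surjective K hb
    set f := QuotientGroup.mk' K with hf
    have hv2 : v * v = 1 := by rw [← pow_two]; exact hV.2 v hv
    have hvi : v⁻¹ = v := inv_eq_of_mul_eq_one_right hv2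
    set a := g * v * g⁻¹ * v⁻¹ with ha
    have hai : v * a * v⁻¹ = a⁻¹ := by rw [ha, hvi]; simp only [mul_inv_rev, inv_inv, hvi, mul_assoc]; simp [hv2]
    have hfa : f a = f g ^ 2 := by
      rw [ha, show g * v * g⁻¹ * v⁻¹ = g * (v * g⁻¹ * v⁻¹) by group, map_mul, pow_two]
      congr 1
      rw [map_mul, map_mul, map_inv, map_inv]
      calc f v * (f g)⁻¹ * (f v)⁻¹ = (f v * f g * (f v)⁻¹)⁻¹ := by group
        _ = f g := by rw [hinv, inv_inv]
    set o := orderOf (f g) with ho
    obtain ⟨c, hc⟩ := hodd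
    obtain ⟨k, l, hl, hkl⟩ := Nat.exists_eq_two_pow_mul_odd (orderOf_pos a).ne'
    set t := 2 ^ k * (c + 1) ^ (k + 1) with ht
    have h1 : Odd (orderOf (a ^ t)) := by
      refine hl.of_dvd_nat (orderOf_dvd_of_pow_eq_one ?_)
      rw [← pow_mul, ← orderOf_dvd_iff_pow_eq_one, hkl, ht]
      exact ⟨(c + 1) ^ (k + 1), by ring⟩
    have hfg : f g ^ (2 * (c + 1)) = f g := by
      rw [show 2 * (c + 1) = o + 1 by omega, pow_succ, ho, pow_orderOf_eq_one, one_mul]
    have h2 : f (a ^ t) = f g := by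
      have key : ∀ j : ℕ, f g ^ (2 * (c + 1)) ^ j = f g := by
        intro j
        induction j with
        | zero => simp
        | succ j ih => rw [pow_succ, pow_mul, ih, hfg]
      rw [map_pow, hfa, ← pow_mul, ht, show 2 * (2 ^ k * (c + 1) ^ (k + 1)) = (2 * (c + 1)) ^ (k + 1) by rw [mul_pow, pow_succ 2 k]; ring, key]
    obtain ⟨w, hw, hw1, hwc⟩ := hS (a ^ t) v hv h1 (by
      rw [← conj_pow, hai, inv_pow])
    refine ⟨f w, Subgroup.mem_map.2 ⟨w, hw, rfl⟩, hne w hw hw1, ?_⟩
    rw [← h2, ← map_mul, hwc, map_mul])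

end Cfsg.Agent.S3012
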