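import Cfsg.Statements.S3013
import Cfsg.Agent.Solv.Basic

set_option autoImplicit false
open Cfsg

namespace Cfsg.Agent.S3013

/-- Let G be a finite group and V a nontrivial elementary abelian 2-subgroup of G satisfying the Sidki pair condition. Let v ∈ V and let x be an element of odd order inverted by v, and put C = C_G(v) ∩ C_G(x), the centralizer of the dihedral subgroup generated by v and x. Then C ∩ V is nontrivial and satisfies the Sidki pair condition inside C: every odd-order element of C inverted by an element of C ∩ V commutes with a nontrivial element of C ∩ V. -/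
theorem result {G : Type*} [Group G] [Finite G] (V : Subgroup G) (hV : Cfsg.IsElementaryAbelian 2 V) (hV1 : V ≠ ⊥) (hS : Cfsg.IsSidkiPair V) (v x : G) (hv : v ∈ V) (hx : Odd (orderOf x)) (hinv : v * x * v⁻¹ = x⁻¹) (C : Subgroup G) (hC : C = Subgroup.centralizer ({v} : Set G) ⊓ Subgroup.centralizer ({x} : Set G)) : C ⊓ V ≠ ⊥ ∧ Cfsg.IsSidkiPair ((C ⊓ V).subgroupOf C) := by
  exact (by
    subst hC
    set C := Subgroup.centralizer ({v} : Set G) ⊓ Subgroup.centralizer ({x} : Set G) with hC
    have hcomm : ∀ a ∈ V, ∀ b ∈ V, a * b = b * a := fun a ha b hb =>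
      congrArg Subtype.val (hV.1.is_comm.comm (⟨a, ha⟩ : V) ⟨b, hb⟩)
    have hmemC : ∀ y, y ∈ C ↔ y * v = v * y ∧ y * x = x * y := fun y => by
      rw [hC, Subgroup.mem_inf, Subgroup.mem_centralizer_singleton_iff, Subgroup.mem_centralizer_singleton_iff]
    have hsq : ∀ y : G, Odd (orderOf y) → ∀ w : G, Commute w (y ^ 2) → Commute w y := by
      intro y hy w hw
      obtain ⟨c, hc⟩ := hy
      have : y = (y ^ 2) ^ (c + 1) := by
        rw [← pow_mul, show 2 * (c + 1) = orderOf y + 1 by omega, pow_succ, pow_orderOf_eq_one, one_mul]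
      rw [this]; exact hw.pow_right _
    -- an element of V commuting with an inverted odd element and its twist
    have key : ∀ (h u : G), u ∈ V → Odd (orderOf h) → h * v = v * h → h * x = x * h → u * x = x * u →
        u * h * u⁻¹ = h⁻¹ → ∃ w ∈ V, w ≠ 1 ∧ w ∈ C ∧ w * h = h * w := by
      intro h u hu hh hhv hhx hux hinvh
      have e1 : u * v * (x * h) * (u * v)⁻¹ = (x * h)⁻¹ := by
        calc u * v * (x * h) * (u * v)⁻¹ = u * ((v * x * v⁻¹) * (v * h * v⁻¹)) * u⁻¹ := by group
          _ = u * (x⁻¹ * h) * u⁻¹ := by rw [hinv, ← hhv, mul_inv_cancel_right]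
          _ = (u * x * u⁻¹)⁻¹ * (u * h * u⁻¹) := by group
          _ = x⁻¹ * h⁻¹ := by rw [hux, mul_inv_cancel_right, hinvh]
          _ = (x * h)⁻¹ := by rw [mul_inv_rev]; exact ((show Commute x h from hhx.symm).inv_inv).eq
      have hxh : Commute x h := hhx.symm
      have ho : Odd (orderOf (x * h)) := (hx.mul hh).of_dvd_nat hxh.orderOf_mul_dvd_mul_orderOf
      obtain ⟨w, hw, hw1, hwc⟩ := hS (x * h) (u * v) (mul_mem hu hv) ho e1
      have hwv : Commute w v := hcomm w hw v hv
      have hwxh : Commute w (x * h) := hwc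
      have hw2 : Commute w (x⁻¹ * h) := by
        have : v * (x * h) * v⁻¹ = x⁻¹ * h := by
          calc v * (x * h) * v⁻¹ = (v * x * v⁻¹) * (v * h * v⁻¹) := by group
            _ = x⁻¹ * h := by rw [hinv, ← hhv, mul_inv_cancel_right]
        rw [← this]
        exact (hwv.mul_right hwxh).mul_right hwv.inv_right
      have hwh : Commute w h := hsq h hh w (by
        rw [show h ^ 2 = (x * h) * (x⁻¹ * h) by
          rw [pow_two]
          calc h * h = x * (x⁻¹ * h) * h := by group
            _ = x * (h * x⁻¹) * h := by rw [hxh.inv_left.eq]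
            _ = _ := by group]
        exact hwxh.mul_right hw2)
      have hwx : Commute w x := by
        have := hwxh.mul_right hwh.inv_right
        rwa [mul_inv_cancel_right] at this
      exact ⟨w, hw, hw1, (hmemC w).2 ⟨hwv.eq, hwx.eq⟩, hwh.eq⟩
    obtain ⟨w, hw, hw1, hwC, -⟩ := key 1 1 (one_mem _) (by simp) (by simp) (by simp) (by simp) (by simp)
    refine ⟨fun e => hw1 (Subgroup.mem_bot.1 (e ▸ Subgroup.mem_inf.2 ⟨hwC, hw⟩)), fun h u hu ho hi => ?_⟩
    obtain ⟨huC, huV⟩ := Subgroup.mem_inf.1 (Subgroup.mem_subgroupOf.1 hu)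
    rw [← Subgroup.orderOf_coe] at ho
    obtain ⟨w', hw', hw'1, hw'C, hw'c⟩ := key (h : G) (u : G) huV ho ((hmemC _).1 h.2).1 ((hmemC _).1 h.2).2
      ((hmemC _).1 huC).2 (congrArg Subtype.val hi)
    exact ⟨⟨w', hw'C⟩, Subgroup.mem_subgroupOf.2 (Subgroup.mem_inf.2 ⟨hw'C, hw'⟩),
      fun e => hw'1 (congrArg Subtype.val e), Subtype.ext hw'c⟩)

end Cfsg.Agent.S3013
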