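import Cfsg.Statements.S3014
import Cfsg.Agent.Inv.PrimeIndexTI

set_option autoImplicit false
open Cfsg

namespace Cfsg.Agent.S3014

/-- Let G be a finite group and H ≤ M ≤ G subgroups such that for every g ∈ G the subgroup generated by H and g H g⁻¹ meets M exactly in H. If H is a maximal subgroup of M and M is a maximal subgroup of G, then the normal closure of H in G meets M exactly in H. -/
theorem result {G : Type*} [Group G] [Finite G] (H M : Subgroup G) (hHM : H ≤ M) (hcl : ∀ g : G, (H ⊔ H.map (MulAut.conj g).toMonoidHom) ⊓ M = H) (hmaxH : IsCoatom (H.subgroupOf M)) (hmaxM : IsCoatom M) : Subgroup.normalClosure (H : Set G) ⊓ M = H := by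
  exact (by
    have hn : (H.subgroupOf M).Normal := by
      refine (Subgroup.normal_subgroupOf_iff_le_normalizer hHM).2 ?_
      rw [CfsgLib.Solv.le_normalizer_iff_forall_conj_mem]
      intro m hm h hh
      rw [← hcl m]
      exact Subgroup.mem_inf.2 ⟨Subgroup.mem_sup_right (Subgroup.mem_map.2 ⟨h, hh, rfl⟩),
        mul_mem (mul_mem hm (hHM hh)) (inv_mem hm)⟩
    haveI := hn
    refine CfsgLib.Inv.inf_normalClosure_eq hmaxM hHM hn ?_ hcl
    exact CfsgLib.Inv.card_quotient_prime_of_coatom hmaxH)

end Cfsg.Agent.S3014
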