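import Cfsg.Statements.S3015
import Cfsg.Agent.Inv.PrimeIndexTI
import Cfsg.Agent.Solv.TransferTools
import Cfsg.Agent.Perm.PComp

set_option autoImplicit false
open Cfsg

namespace Cfsg.Agent.S3015

/-- Let G be a finite non-abelian simple group, M a maximal subgroup of G and H a normal subgroup of M of prime index in M. Then G is generated by H together with one of its conjugates. -/
theorem result {G : Type*} [Group G] [Finite G] [IsSimpleGroup G] (hG : ¬ IsMulCommutative G) (M H : Subgroup G) (hmaxM : IsCoatom M) (hHM : H ≤ M) (hHn : (H.subgroupOf M).Normal) (hidx : (H.relIndex M).Prime) : ∃ g : G, H ⊔ H.map (MulAut.conj g).toMonoidHom = ⊤ := by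
  exact (by
    set q := H.relIndex M with hq
    haveI := Fact.mk hidx
    by_contra hno
    push Not at hno
    have hMN : M ≤ Subgroup.normalizer (H : Set G) := (Subgroup.normal_subgroupOf_iff_le_normalizer hHM).1 hHn
    have hM1 : M ≠ ⊥ := fun e => hidx.ne_one (by rw [hq, e, Subgroup.relIndex_bot_right])
    -- normalizers of nontrivial normal subgroups of M
    have hnorm : ∀ R : Subgroup G, R ≤ M → R ≠ ⊥ → M ≤ Subgroup.normalizer (R : Set G) →
        Subgroup.normalizer (R : Set G) = M := by
      intro R hRM hR1 hMR
      rcases hMR.eq_or_lt with h | h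
      · exact h.symm
      · exfalso
        rcases (Subgroup.normalizer_eq_top_iff.1 (hmaxM.2 _ h)).eq_bot_or_eq_top with h' | h'
        · exact hR1 h'
        · exact hmaxM.1 (top_le_iff.1 (h' ▸ hRM))
    have hH1 : H ≠ ⊥ := by
      intro e
      have hcard : Nat.card M = q := by rw [hq, e, Subgroup.relIndex_bot_left]
      haveI : IsCyclic M := isCyclic_of_prime_card hcard
      have hMp : IsPGroup q M := IsPGroup.of_card (n := 1) (by rw [pow_one]; exact hcard)
      have hnM := hnorm M le_rfl hM1 Subgroup.le_normalizer
      obtain ⟨P, hP⟩ := hMp.exists_le_sylow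
      have hPM : (P : Subgroup G) = M := by
        refine le_antisymm ?_ hP
        by_contra hne
        haveI := P.2.isNilpotent
        obtain ⟨n, hn', hnP⟩ := SetLike.exists_of_lt (Group.normalizerCondition_of_isNilpotent
          (M.subgroupOf (P : Subgroup G))
          (lt_top_iff_ne_top.2 fun e => hne (Subgroup.subgroupOf_eq_top.1 e)))
        refine hnP (hnM.le ?_)
        rw [Subgroup.mem_normalizer_iff]
        intro y
        constructor
        · intro hy; exact (Subgroup.mem_normalizer_iff.1 hn' ⟨y, hP hy⟩).1 hy
        · intro hy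
          have hy' : y ∈ (P : Subgroup G) := by
            have := mul_mem (mul_mem (inv_mem n.2) (hP hy)) n.2
            simpa [mul_assoc] using this
          exact (Subgroup.mem_normalizer_iff.1 hn' ⟨y, hy'⟩).2 hy
      have hnpc : Cfsg.HasNormalPComplement q G := CfsgLib.Solv.hnpc_of_normalizer_le_centralizer P (by
        rw [hPM, hnM]
        letI : CommGroup M := IsCyclic.commGroup
        exact fun a ha => Subgroup.mem_centralizer_iff.2 fun b hb =>
          congrArg Subtype.val (mul_comm (⟨b, hb⟩ : M) ⟨a, ha⟩))
      obtain ⟨N, hN, hNp, m, hm⟩ := CfsgLib.Perm.exists_of_hasNormalPComplement hnpc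
      rcases hN.eq_bot_or_eq_top with h | h
      · rw [h, Subgroup.index_bot] at hm
        obtain ⟨k, hk⟩ := IsPGroup.iff_card.1 P.2
        have hGM : (P : Subgroup G) = ⊤ := Subgroup.index_eq_one.1 (by
          have h2 := Subgroup.card_mul_index (P : Subgroup G)
          rw [hm, hk] at h2
          rcases Nat.eq_zero_or_pos ((P : Subgroup G).index) with h0 | h0
          · exact absurd h0 Subgroup.index_ne_zero_of_finite
          · have hd : (P : Subgroup G).index ∣ q ^ m := ⟨q ^ k, by rw [mul_comm]; exact h2.symm⟩
            exact Nat.eq_one_of_dvd_coprimes ((hidx.coprime_iff_not_dvd.2 P.not_dvd_index).symm.pow_right m) dvd_rfl hd)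
        exact hmaxM.1 (hPM ▸ hGM)
      · rw [h, Subgroup.card_top] at hNp
        exact hNp (dvd_trans (hcard ▸ dvd_rfl) (Subgroup.card_subgroup_dvd_card M))
    have hNH := hnorm H hHM hH1 hMN
    -- conjugates of H inside M
    have hW : ∀ g : G, H.map (MulAut.conj g).toMonoidHom ≤ M → g ∈ M := by
      intro g hg
      haveI := hHn
      set R := Subgroup.closure {x : G | x ∈ M ∧ (orderOf x).Coprime q} with hR
      have hRH : R ≤ H := by
        refine (Subgroup.closure_le _).2 fun x hx => ?_
        have h1 : orderOf ((⟨x, hx.1⟩ : M) : M ⧸ H.subgroupOf M) = 1 :=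
          Nat.eq_one_of_dvd_coprimes hx.2 ((orderOf_map_dvd (QuotientGroup.mk' (H.subgroupOf M)) _).trans
            (by rw [Subgroup.orderOf_mk])) (orderOf_dvd_natCard _)
        exact (QuotientGroup.eq_one_iff (N := H.subgroupOf M) (⟨x, hx.1⟩ : M)).1 (orderOf_eq_one_iff.1 h1)
      have hRM : R ≤ M := hRH.trans hHM
      have hMR : M ≤ Subgroup.normalizer (R : Set G) := by
        rw [CfsgLib.Solv.le_normalizer_iff_forall_conj_mem]
        intro a ha b hb
        have : R.map (MulAut.conj a).toMonoidHom ≤ R := by
          rw [hR, MonoidHom.map_closure]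
          refine Subgroup.closure_mono ?_
          rintro _ ⟨x, ⟨hx, hxo⟩, rfl⟩
          exact ⟨mul_mem (mul_mem ha hx) (inv_mem ha), by rw [MulEquiv.coe_toMonoidHom, MulEquiv.orderOf_eq]; exact hxo⟩
        exact this (Subgroup.mem_map.2 ⟨b, hb, rfl⟩)
      by_cases hR1 : R = ⊥
      · have hMp : IsPGroup q M := by
          intro x
          refine ⟨(orderOf x).factorization q, ?_⟩
          have ho : orderOf x ≠ 0 := (orderOf_pos x).ne'
          have hmem : ((x ^ q ^ (orderOf x).factorization q : M) : G) ∈ R := Subgroup.subset_closure ⟨SetLike.coe_mem _, by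
            rw [Subgroup.orderOf_coe, orderOf_pow_of_dvd (pow_ne_zero _ hidx.ne_zero) (Nat.ordProj_dvd _ _)]
            exact (Nat.coprime_ordCompl hidx ho).symm⟩
          rw [hR1, Subgroup.mem_bot] at hmem
          exact Subtype.ext hmem
        set K := H.map (MulAut.conj g).toMonoidHom with hK
        have hcardK : Nat.card K = Nat.card H :=
          Subgroup.card_map_of_injective (f := (MulAut.conj g).toMonoidHom) (MulAut.conj g).injective
        have hKq : K.relIndex M = q := by
          have h1 := CfsgLib.Solv.relIndex_mul_card hg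
          have h2 := CfsgLib.Solv.relIndex_mul_card hHM
          rw [hcardK, ← h2] at h1
          exact Nat.eq_of_mul_eq_mul_left Nat.card_pos h1
        haveI := hMp.isNilpotent
        have hKn : M ≤ Subgroup.normalizer (K : Set G) := by
          have hlt : K.subgroupOf M < ⊤ := lt_top_iff_ne_top.2 fun e => by
            have : K.relIndex M = 1 := by rw [Subgroup.relIndex, e, Subgroup.index_top]
            exact hidx.ne_one (hKq ▸ this)
          have h1 := Group.normalizerCondition_of_isNilpotent _ hlt
          set L := Subgroup.normalizer ((K.subgroupOf M : Subgroup M) : Set M) with hL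
          have h2 : L.index ∣ q := hKq ▸ Subgroup.index_dvd_of_le h1.le
          rcases (Nat.dvd_prime hidx).1 h2 with h | h
          · rw [Subgroup.index_eq_one, hL, Subgroup.normalizer_eq_top_iff] at h
            exact (Subgroup.normal_subgroupOf_iff_le_normalizer hg).1 h
          · refine absurd (Subgroup.eq_of_le_of_card_ge h1.le ?_) h1.ne
            have e1 := Subgroup.card_mul_index (K.subgroupOf M)
            have e2 := Subgroup.card_mul_index L
            rw [h, ← hKq] at e2
            exact le_of_eq (Nat.eq_of_mul_eq_mul_right (show 0 < (K.subgroupOf M).index by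
              show 0 < K.relIndex M; rw [hKq]; exact hidx.pos) (e2.trans e1.symm))
        have hK1 : K ≠ ⊥ := fun e => hH1 (Subgroup.eq_bot_of_card_le H (by rw [← hcardK, e, Subgroup.card_bot]))
        have hNK := hnorm K hg hK1 hKn
        have hgM : M.map (MulAut.conj g).toMonoidHom ≤ M :=
          ((Subgroup.map_mono hMN).trans (Subgroup.le_normalizer_map (MulAut.conj g).toMonoidHom)).trans hNK.le
        rw [← hnorm M le_rfl hM1 Subgroup.le_normalizer, Subgroup.mem_normalizer_iff]
        have e : M.map (MulAut.conj g).toMonoidHom = M := Subgroup.eq_of_le_of_card_ge hgM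
          (by rw [Subgroup.card_map_of_injective (f := (MulAut.conj g).toMonoidHom) (MulAut.conj g).injective])
        intro y
        constructor
        · intro hy; rw [← e]; exact Subgroup.mem_map.2 ⟨y, hy, rfl⟩
        · intro hy
          rw [← e, CfsgLib.Solv.mem_map_conj_iff] at hy
          simpa [mul_assoc] using hy
      · have hgR : R.map (MulAut.conj g).toMonoidHom ≤ R := by
          rw [hR, MonoidHom.map_closure, Subgroup.closure_le]
          rintro _ ⟨x, ⟨hx, hxo⟩, rfl⟩
          have hxH : x ∈ H := hRH (Subgroup.subset_closure ⟨hx, hxo⟩)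
          exact Subgroup.subset_closure ⟨hg (Subgroup.mem_map.2 ⟨x, hxH, rfl⟩),
            by rw [MulEquiv.coe_toMonoidHom, MulEquiv.orderOf_eq]; exact hxo⟩
        have e : R.map (MulAut.conj g).toMonoidHom = R := Subgroup.eq_of_le_of_card_ge hgR
          (by rw [Subgroup.card_map_of_injective (f := (MulAut.conj g).toMonoidHom) (MulAut.conj g).injective])
        rw [← hnorm R hRM hR1 hMR, Subgroup.mem_normalizer_iff]
        intro y
        constructor
        · intro hy; rw [← e]; exact Subgroup.mem_map.2 ⟨y, hy, rfl⟩
        · intro hy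
          rw [← e, CfsgLib.Solv.mem_map_conj_iff] at hy
          simpa [mul_assoc] using hy
    have hcl : ∀ g : G, (H ⊔ H.map (MulAut.conj g).toMonoidHom) ⊓ M = H := by
      intro g
      set J := H ⊔ H.map (MulAut.conj g).toMonoidHom with hJ
      have hle : H ≤ J ⊓ M := le_inf le_sup_left hHM
      rcases (Nat.dvd_prime hidx).1 (Subgroup.relIndex_dvd_of_le_left M hle) with h | h
      · have hMJ : M ≤ J := (Subgroup.relIndex_eq_one.1 h).trans inf_le_left
        rcases hMJ.eq_or_lt with h' | h'
        · have hgM : g ∈ M := hW g (le_sup_right.trans h'.ge)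
          have : H.map (MulAut.conj g).toMonoidHom ≤ H := by
            rintro _ ⟨y, hy, rfl⟩; exact (Subgroup.mem_normalizer_iff.1 (hMN hgM) y).1 hy
          have hJH : J = H := le_antisymm (sup_le le_rfl this) le_sup_left
          rw [hJH]; exact inf_eq_left.2 hHM
        · exact absurd (hmaxM.2 _ h') (hno g)
      · have e1 := CfsgLib.Solv.relIndex_mul_card (inf_le_right : J ⊓ M ≤ M)
        have e2 := CfsgLib.Solv.relIndex_mul_card hHM
        rw [h, ← e2] at e1
        exact (Subgroup.eq_of_le_of_card_ge hle (le_of_eq (Nat.eq_of_mul_eq_mul_right hidx.pos e1))).symm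
    have h := CfsgLib.Inv.inf_normalClosure_eq hmaxM hHM hHn hidx hcl
    rcases (inferInstance : (Subgroup.normalClosure (H : Set G)).Normal).eq_bot_or_eq_top with h' | h'
    · exact hH1 (le_bot_iff.1 (h' ▸ (Subgroup.subset_normalClosure : (H : Set G) ⊆ _)))
    · rw [h', top_inf_eq] at h
      exact hidx.ne_one (by rw [hq, h, Subgroup.relIndex_self]))

end Cfsg.Agent.S3015
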