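import Cfsg.Statements.S3020
import Cfsg.Agent.Solv.Basic
import Cfsg.Agent.Solv.TransferTools
import Cfsg.Agent.Perm.PComp

set_option autoImplicit false
open Cfsg

namespace Cfsg.Agent.S3020

/-- Let G be a finite group, p a prime and H an abelian p-subgroup of G that is extremely closed (for every g, the subgroup generated by H and g H g⁻¹ meets N_G(H) exactly in H). Then for every g ∈ G, the subgroup T generated by H and g H g⁻¹ is the product of H with O_{p'}(T), and H meets O_{p'}(T) trivially; that is, O_{p'}(T) is a normal p-complement of H in T. -/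
theorem result {G : Type*} [Group G] [Finite G] {p : ℕ} [Fact p.Prime] (H : Subgroup G) (hHp : IsPGroup p H) (hHab : IsMulCommutative H) (hcl : Cfsg.IsExtremelyClosed H) (g : G) (T : Subgroup G) (hT : T = H ⊔ H.map (MulAut.conj g).toMonoidHom) : H ⊔ (Cfsg.pPrimeCore p ↥T).map T.subtype = T ∧ H ⊓ (Cfsg.pPrimeCore p ↥T).map T.subtype = ⊥ := by
  exact (by
    have hHT : H ≤ T := hT ▸ le_sup_left
    have hTH : T ⊓ Subgroup.normalizer (H : Set G) = H := hT ▸ hcl g
    set H' := H.subgroupOf T with hH'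
    obtain ⟨S, hS⟩ := (hHp.comap_subtype (K := T)).exists_le_sylow
    have hn : ∀ a : T, a ∈ Subgroup.normalizer (H' : Set T) → a ∈ H' := by
      intro a ha
      show (a : G) ∈ H
      rw [← hTH]
      refine Subgroup.mem_inf.2 ⟨a.2, Subgroup.mem_normalizer_iff.2 fun y => ⟨fun hy => ?_, fun hy => ?_⟩⟩
      · exact (Subgroup.mem_normalizer_iff.1 ha ⟨y, hHT hy⟩).1 hy
      · have hyT : y ∈ T := by
          rw [show y = (a : G)⁻¹ * ((a : G) * y * (a : G)⁻¹) * a by group]
          exact mul_mem (mul_mem (inv_mem a.2) (hHT hy)) a.2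
        exact (Subgroup.mem_normalizer_iff.1 ha ⟨y, hyT⟩).2 hy
    have hSH : (S : Subgroup T) = H' := by
      refine le_antisymm ?_ hS
      by_contra hne
      haveI := S.2.isNilpotent
      obtain ⟨a, ha, haH⟩ := SetLike.exists_of_lt (Group.normalizerCondition_of_isNilpotent
        (H'.subgroupOf (S : Subgroup T)) (lt_top_iff_ne_top.2 fun e => hne (Subgroup.subgroupOf_eq_top.1 e)))
      refine haH (hn _ (Subgroup.mem_normalizer_iff.2 fun y => ⟨fun hy => ?_, fun hy => ?_⟩))
      · exact (Subgroup.mem_normalizer_iff.1 ha ⟨y, hS hy⟩).1 hy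
      · have hyS : y ∈ (S : Subgroup T) := by
          rw [show y = (a : T)⁻¹ * ((a : T) * y * (a : T)⁻¹) * a by group]
          exact mul_mem (mul_mem (inv_mem a.2) (hS hy)) a.2
        exact (Subgroup.mem_normalizer_iff.1 ha ⟨y, hyS⟩).2 hy
    have hnpc : Cfsg.HasNormalPComplement p T := CfsgLib.Solv.hnpc_of_normalizer_le_centralizer S (by
      intro a ha
      rw [hSH] at ha ⊢
      refine Subgroup.mem_centralizer_iff.2 fun y hy => Subtype.ext ?_
      have := congrArg Subtype.val (hHab.is_comm.comm (⟨(y : G), hy⟩ : H) ⟨(a : G), hn a ha⟩)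
      exact this)
    obtain ⟨N, hNn, hNp, m, hm⟩ := CfsgLib.Perm.exists_of_hasNormalPComplement hnpc
    haveI := hNn
    have hNcop : (Nat.card N).Coprime p := ((Nat.Prime.coprime_iff_not_dvd Fact.out).2 hNp).symm
    have hNO : N ≤ Cfsg.pPrimeCore p ↥T := CfsgLib.Solv.le_pPrimeCore hNcop
    have hsup : N ⊔ (S : Subgroup T) = ⊤ := Subgroup.index_eq_one.1 (Nat.eq_one_of_dvd_coprimes
      (((Nat.Prime.coprime_iff_not_dvd Fact.out).2 S.not_dvd_index).symm.pow_right m)
      (Subgroup.index_dvd_of_le le_sup_right) (hm ▸ Subgroup.index_dvd_of_le le_sup_left))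
    refine ⟨le_antisymm (sup_le hHT (Subgroup.map_subtype_le _)) ?_, ?_⟩
    · calc T = (⊤ : Subgroup T).map T.subtype := by rw [← MonoidHom.range_eq_map, Subgroup.range_subtype]
        _ = (N ⊔ H').map T.subtype := by rw [← hsup, hSH]
        _ ≤ _ := by
          rw [Subgroup.map_sup, hH', Subgroup.map_subgroupOf_eq_of_le hHT, sup_comm]
          exact sup_le_sup le_rfl (Subgroup.map_mono hNO)
    · refine (Subgroup.disjoint_of_coprime_natCard ?_).eq_bot
      obtain ⟨k, hk⟩ := IsPGroup.iff_card.1 hHp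
      rw [hk, Subgroup.card_map_of_injective T.subtype_injective]
      exact (CfsgLib.Solv.pPrimeCore_coprime (↥T) p).symm.pow_left k)

end Cfsg.Agent.S3020
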