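import Cfsg.Statements.S3017
import Cfsg.Agent.Inv.TameAbelian
import Cfsg.Agent.S3020

set_option autoImplicit false
open Cfsg

namespace Cfsg.Agent.S3017

/-- Let G be a finite group and H an abelian 2-subgroup of G that is extremely closed (for every g, the subgroup generated by H and g H g⁻¹ meets N_G(H) exactly in H). Then G = N_G(H) O(G), where O(G) is the largest normal subgroup of odd order. For H of order 2 this is Glauberman's Z*-statement. -/
theorem result {G : Type*} [Group G] [Finite G] (H : Subgroup G) (hH2 : IsPGroup 2 H) (hHab : IsMulCommutative H) (hcl : Cfsg.IsExtremelyClosed H) : Subgroup.normalizer (H : Set G) ⊔ Cfsg.oddCore G = ⊤ := by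
    haveI : Fact (Nat.Prime 2) := ⟨Nat.prime_two⟩
    refine CfsgLib.Inv.Tame.normalizer_sup_oddCore hH2 hHab fun g => ?_
    set T := H ⊔ H.map (MulAut.conj g).toMonoidHom with hT
    obtain ⟨h1, -⟩ := Cfsg.Agent.S3020.result H hH2 hHab hcl g T hT
    haveI : (Cfsg.pPrimeCore 2 T).Normal := CfsgLib.Solv.pPrimeCore_normal T 2
    refine ⟨(Cfsg.pPrimeCore 2 T).map T.subtype, ?_, ?_, fun x hx => ?_⟩
    · rw [CfsgLib.Solv.card_map_subtype]; exact CfsgLib.Base.ZStar.odd_card_oddCore
    · rw [CfsgLib.Solv.le_normalizer_iff_forall_conj_mem]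
      rintro a ha _ ⟨q, hq, rfl⟩
      exact ⟨⟨a, Subgroup.mem_sup_left ha⟩ * q * ⟨a, Subgroup.mem_sup_left ha⟩⁻¹,
        Subgroup.Normal.conj_mem inferInstance q hq _, rfl⟩
    · rw [h1]
      exact Subgroup.mem_sup_right (Subgroup.mem_map.2 ⟨x, hx, rfl⟩)

end Cfsg.Agent.S3017
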