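import Cfsg.Statements.S3021
import Cfsg.Agent.Solv.Basic

set_option autoImplicit false
open Cfsg

namespace Cfsg.Agent.S3021

theorem mem_normalizer_of_map_le {G : Type*} [Group G] [Finite G] {H : Subgroup G} {n : G}
    (h : H.map (MulAut.conj n).toMonoidHom ≤ H) : n ∈ Subgroup.normalizer (H : Set G) := by
  have e : H.map (MulAut.conj n).toMonoidHom = H := Subgroup.eq_of_le_of_card_ge h (by
    rw [Subgroup.card_map_of_injective (MulAut.conj n).injective])
  rw [Subgroup.mem_normalizer_iff]
  intro y
  constructor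
  · intro hy; rw [← e]; exact Subgroup.mem_map.2 ⟨y, hy, rfl⟩
  · intro hy
    rw [← e, CfsgLib.Solv.mem_map_conj_iff] at hy
    simpa [mul_assoc] using hy

/-- Let G be a finite group, p a prime and H a p-subgroup of G that is extremely closed (for every g, the subgroup generated by H and g H g⁻¹ meets N_G(H) exactly in H). Then every p-subgroup Q of G containing H has N_G(Q) ≤ N_G(H); in particular every Sylow p-subgroup P of G containing H normalizes H, and H is strongly closed in P with respect to G. -/
theorem result {G : Type*} [Group G] [Finite G] {p : ℕ} [Fact p.Prime] (H : Subgroup G) (hHp : IsPGroup p H) (hcl : Cfsg.IsExtremelyClosed H) : (∀ Q : Subgroup G, IsPGroup p Q → H ≤ Q → Subgroup.normalizer (Q : Set G) ≤ Subgroup.normalizer (H : Set G)) ∧ ∀ P : Sylow p G, H ≤ (P : Subgroup G) → (P : Subgroup G) ≤ Subgroup.normalizer (H : Set G) ∧ Cfsg.IsStronglyClosed H (P : Subgroup G) := by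
  exact (by
    have hQ : ∀ Q : Subgroup G, IsPGroup p Q → H ≤ Q →
        Subgroup.normalizer (Q : Set G) ≤ Subgroup.normalizer (H : Set G) := by
      intro Q hQp hHQ n hn
      set J := H ⊔ H.map (MulAut.conj n).toMonoidHom with hJ
      have hJQ : J ≤ Q := sup_le hHQ (by
        rintro _ ⟨a, ha, rfl⟩; exact (Subgroup.mem_normalizer_iff.1 hn a).1 (hHQ ha))
      have hJH : J = H := by
        refine le_antisymm ?_ le_sup_left
        by_contra hne
        haveI := (hQp.to_le hJQ).isNilpotent
        obtain ⟨a, ha, haH⟩ := SetLike.exists_of_lt (Group.normalizerCondition_of_isNilpotent (H.subgroupOf J)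
          (lt_top_iff_ne_top.2 fun e => hne (Subgroup.subgroupOf_eq_top.1 e)))
        refine haH ?_
        show (a : G) ∈ H
        rw [← hcl n]
        refine Subgroup.mem_inf.2 ⟨a.2, Subgroup.mem_normalizer_iff.2 fun y => ⟨fun hy => ?_, fun hy => ?_⟩⟩
        · exact (Subgroup.mem_normalizer_iff.1 ha ⟨y, le_sup_left (a := H) hy⟩).1 hy
        · have hyJ : y ∈ J := by
            rw [show y = (a : G)⁻¹ * ((a : G) * y * (a : G)⁻¹) * a by group]
            exact mul_mem (mul_mem (inv_mem a.2) (le_sup_left (a := H) hy)) a.2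
          exact (Subgroup.mem_normalizer_iff.1 ha ⟨y, hyJ⟩).2 hy
      refine mem_normalizer_of_map_le ?_
      rw [← hJH]; nth_rw 1 [hJH]; exact le_sup_right
    refine ⟨hQ, fun P hP => ⟨?_, hP, fun x hx g hg => ?_⟩⟩
    · exact Subgroup.le_normalizer.trans (hQ _ P.2 hP)
    · rw [← hcl g]
      exact Subgroup.mem_inf.2 ⟨Subgroup.mem_sup_right (Subgroup.mem_map.2 ⟨x, hx, rfl⟩),
        Subgroup.le_normalizer.trans (hQ _ P.2 hP) hg⟩)

end Cfsg.Agent.S3021
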