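import Cfsg.Statements.S3023
import Cfsg.Agent.Inv.CharPLocal
import Cfsg.Agent.Perm.MinClass

set_option autoImplicit false
open Cfsg

namespace Cfsg.Agent.S3023

/-- Let p be a prime, G a finite group of parabolic characteristic p (every p-local subgroup containing a Sylow p-subgroup of G has characteristic p), S a Sylow p-subgroup of G and G₁ a subnormal subgroup of G. If the centre of S ∩ G₁ is nontrivial and contained in the centre of S, then G₁ has parabolic characteristic p. -/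
theorem result {G : Type*} [Group G] [Finite G] {p : ℕ} [Fact p.Prime] (hG : Cfsg.IsOfParabolicCharacteristic p G) (S : Sylow p G) (G₁ : Subgroup G) (hsn : G₁.IsSubnormal) (hne : ((S : Subgroup G) ⊓ G₁) ⊓ Subgroup.centralizer (((S : Subgroup G) ⊓ G₁ : Subgroup G) : Set G) ≠ ⊥) (hle : ((S : Subgroup G) ⊓ G₁) ⊓ Subgroup.centralizer (((S : Subgroup G) ⊓ G₁ : Subgroup G) : Set G) ≤ (S : Subgroup G) ⊓ Subgroup.centralizer ((S : Subgroup G) : Set G)) : Cfsg.IsOfParabolicCharacteristic p ↥G₁ := by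
  open CfsgLib.Inv in
  open scoped Pointwise in
  exact (by
    intro R hR hR1 hpar
    obtain ⟨T, hT⟩ := hpar
    obtain ⟨P, hP⟩ := sylow_subnormal S hsn
    obtain ⟨g, hg⟩ := MulAction.exists_smul_eq ↥G₁ P T
    set N := Subgroup.normalizer (R : Set ↥G₁) with hN
    haveI : (R.subgroupOf N).Normal := Subgroup.normal_in_normalizer (H := R)
    have hRT : R ≤ (T : Subgroup ↥G₁) := fun r hr =>
      (IsPGroup.le_sylow_of_normal (N := R.subgroupOf N) hR.comap_subtype (T.subtype hT) : R.subgroupOf N ≤ _)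
        (show (⟨r, Subgroup.le_normalizer hr⟩ : N) ∈ R.subgroupOf N from hr)
    haveI : (R.subgroupOf (T : Subgroup ↥G₁)).Normal := (Subgroup.normal_subgroupOf_iff_le_normalizer hRT).2 hT
    have hne' : R.subgroupOf (T : Subgroup ↥G₁) ≠ ⊥ := fun e => hR1 (le_bot_iff.1 fun r hr => by
      have h1 : (⟨r, hRT hr⟩ : (T : Subgroup ↥G₁)) ∈ R.subgroupOf (T : Subgroup ↥G₁) := hr
      rw [e] at h1
      exact Subgroup.mem_bot.2 (congrArg Subtype.val (Subgroup.mem_bot.1 h1)))
    have hI := CfsgLib.Perm.inf_center_ne_bot T.2 (R.subgroupOf (T : Subgroup ↥G₁)) hne'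
    have hIp : IsPGroup p ↥(R.subgroupOf (T : Subgroup ↥G₁) ⊓ Subgroup.center (T : Subgroup ↥G₁)) :=
      T.2.to_subgroup _
    haveI := (Subgroup.nontrivial_iff_ne_bot _).2 hI
    obtain ⟨k, hk, hc⟩ := hIp.nontrivial_iff_card.1 inferInstance
    obtain ⟨z, hz⟩ := exists_prime_orderOf_dvd_card'
      (G := ↥(R.subgroupOf (T : Subgroup ↥G₁) ⊓ Subgroup.center (T : Subgroup ↥G₁))) p (hc ▸ dvd_pow_self p hk.ne')
    set w : ↥G₁ := ((z : (T : Subgroup ↥G₁)) : ↥G₁) with hw
    have hwo : orderOf w = p := by rw [hw, Subgroup.orderOf_coe, Subgroup.orderOf_coe, hz]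
    obtain ⟨hzR, hzC⟩ := Subgroup.mem_inf.1 z.2
    have hwR : w ∈ R := hzR
    have hwc : ∀ t ∈ (T : Subgroup ↥G₁), t * w = w * t := fun t ht =>
      congrArg Subtype.val (Subgroup.mem_center_iff.1 hzC ⟨t, ht⟩)
    set w' : ↥G₁ := g⁻¹ * w * g with hw'
    have hw'o : orderOf w' = p := by
      rw [hw', show g⁻¹ * w * g = MulAut.conj g⁻¹ w by simp, MulEquiv.orderOf_eq, hwo]
    have hw'P : w' ∈ (P : Subgroup ↥G₁) := by
      have := hRT hwR
      rwa [← hg, Sylow.coe_subgroup_smul, CfsgLib.Solv.mem_conj_smul_iff] at this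
    have hw'Z : (w' : G) ∈ ((S : Subgroup G) ⊓ G₁) ⊓
        Subgroup.centralizer (((S : Subgroup G) ⊓ G₁ : Subgroup G) : Set G) := by
      rw [← hP]
      refine Subgroup.mem_inf.2 ⟨Subgroup.mem_map.2 ⟨w', hw'P, rfl⟩, Subgroup.mem_centralizer_iff.2 ?_⟩
      rintro _ ⟨s, hs, rfl⟩
      have hgs : g * s * g⁻¹ ∈ (T : Subgroup ↥G₁) := by
        rw [← hg, Sylow.coe_subgroup_smul, CfsgLib.Solv.mem_conj_smul_iff]
        rwa [show g⁻¹ * (g * s * g⁻¹) * g = s by group]
      have e : s * w' = w' * s := by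
        rw [hw']
        calc s * (g⁻¹ * w * g) = g⁻¹ * (g * s * g⁻¹ * w) * g := by group
          _ = g⁻¹ * (w * (g * s * g⁻¹)) * g := by rw [hwc _ hgs]
          _ = _ := by group
      exact congrArg Subtype.val e
    have hw'S := Subgroup.mem_inf.1 (hle hw'Z)
    have hwG : orderOf (w' : G) = p := by rw [Subgroup.orderOf_coe, hw'o]
    have h1 := charP_of_parabolic hG S (z := (w' : G)) (by rw [← hwG, pow_orderOf_eq_one])
      (fun e => (Fact.out : p.Prime).ne_one (by rw [← hwG, e, orderOf_one]))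
      (fun s hs => Subgroup.mem_centralizer_singleton_iff.2 (Subgroup.mem_centralizer_iff.1 hw'S.2 s hs))
    have h2 := charP_conj (g := (g : G)) h1
    rw [show (g : G) * (w' : G) * (g : G)⁻¹ = (w : G) by rw [hw']; push_cast; group] at h2
    set C := Subgroup.centralizer ({(w : G)} : Set G) with hC
    have h3 := charP_subnormal h2 (hsn.subgroupOf (K := C))
    set C₁ := Subgroup.centralizer ({w} : Set ↥G₁) with hC₁
    have h4 : Subgroup.centralizer (Cfsg.pCore p ↥C₁ : Set ↥C₁) ≤ Cfsg.pCore p ↥C₁ := by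
      let φ : ↥(G₁.subgroupOf C) ≃* ↥C₁ :=
        { toFun := fun a => ⟨⟨((a : C) : G), a.2⟩, Subgroup.mem_centralizer_singleton_iff.2
            (Subtype.ext (Subgroup.mem_centralizer_singleton_iff.1 (a : C).2))⟩
          invFun := fun b => ⟨⟨((b : ↥G₁) : G), Subgroup.mem_centralizer_singleton_iff.2
            (congrArg Subtype.val (Subgroup.mem_centralizer_singleton_iff.1 b.2))⟩, (b : ↥G₁).2⟩
          left_inv := fun a => rfl
          right_inv := fun b => rfl
          map_mul' := fun a b => rfl }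
      exact Coset.charP_equiv φ h3
    exact charP_normalizer h4 hR (fun r hr => Subgroup.mem_centralizer_singleton_iff.2 (hwc r (hRT hr)))
      (Subgroup.centralizer_le (Set.singleton_subset_iff.2 hwR)))

end Cfsg.Agent.S3023
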