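import Cfsg.Statements.S3025
import Cfsg.Agent.Solv.UniqueSub
import Mathlib

set_option autoImplicit false
open Cfsg

namespace Cfsg.Agent.S3025



/-- Let F be a finite group and H a nontrivial subgroup of F that is contained in every nontrivial subgroup of F which H normalizes. Then F has a nontrivial normal subgroup N contained in every nontrivial normal subgroup of F (a unique minimal normal subgroup), N is simple, and one of the following holds: C_F(N) = 1; or H = N has prime order p, C_F(N) is cyclic of order a power of p, and F/C_F(N) is cyclic of order dividing p − 1; or H = N has order 2, N is central in F, and F is a generalized quaternion group. -/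
theorem result {F : Type*} [Group F] [Finite F] (H : Subgroup F) (hH : H ≠ ⊥)
    (hmin : ∀ R : Subgroup F, R ≠ ⊥ → H ≤ Subgroup.normalizer (R : Set F) → H ≤ R) :
    ∃ N : Subgroup F, N.Normal ∧ N ≠ ⊥ ∧ (∀ M : Subgroup F, M.Normal → M ≠ ⊥ → N ≤ M) ∧ IsSimpleGroup ↥N ∧
      (Subgroup.centralizer (N : Set F) = ⊥ ∨
       (H = N ∧ (Nat.card N).Prime ∧ IsCyclic ↥(Subgroup.centralizer (N : Set F)) ∧
          (∃ k : ℕ, 1 ≤ k ∧ Nat.card ↥(Subgroup.centralizer (N : Set F)) = Nat.card N ^ k) ∧
          (∃ g : F, Subgroup.centralizer (N : Set F) ⊔ Subgroup.zpowers g = ⊤) ∧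
          (Subgroup.centralizer (N : Set F)).index ∣ Nat.card N - 1) ∨
       (H = N ∧ Nat.card N = 2 ∧ Subgroup.centralizer (N : Set F) = ⊤ ∧
          ∃ k : ℕ, 1 ≤ k ∧ Nonempty (F ≃* QuaternionGroup (2 ^ k)))) := by
  classical
  have hHn : ∀ M : Subgroup F, M.Normal → M ≠ ⊥ → H ≤ M := fun M hM hM1 =>
    hmin M hM1 (by haveI := hM; rw [Subgroup.normalizer_eq_top]; exact le_top)
  obtain ⟨N, ⟨hNn, hN1⟩, hNmin⟩ := (Set.toFinite {M : Subgroup F | M.Normal ∧ M ≠ ⊥}).exists_minimal
    ⟨⊤, inferInstance, fun e => hH (eq_bot_iff.2 (le_top.trans e.le))⟩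
  haveI := hNn
  have hmem : ∀ M : Subgroup F, M.Normal → M ≠ ⊥ → N ≤ M := by
    intro M hM hM1
    haveI := hM
    have hne : N ⊓ M ≠ ⊥ := fun e => hH (eq_bot_iff.2 (e ▸ le_inf (hHn N hNn hN1) (hHn M hM hM1)))
    exact (hNmin ⟨inferInstance, hne⟩ inf_le_left).trans inf_le_right
  have hHN : H ≤ N := hHn N hNn hN1
  haveI : Nontrivial ↥N := (Subgroup.nontrivial_iff_ne_bot N).2 hN1
  have hsimple : IsSimpleGroup ↥N := by
    refine ⟨fun T hT => ?_⟩
    by_contra hno
    push Not at hno
    -- the intersection of all non-trivial normal subgroups of `N`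
    set D : Subgroup ↥N := sInf {T : Subgroup ↥N | T.Normal ∧ T ≠ ⊥} with hD
    have hHD : H.subgroupOf N ≤ D := le_sInf fun U ⟨hU, hU1⟩ => by
      have h := hmin (U.map N.subtype) (fun e => hU1 ((Subgroup.map_eq_bot_iff_of_injective _ N.subtype_injective).1 e)) (by
        intro x hx
        haveI := hU
        have h2 : N ≤ Subgroup.normalizer ((U.map N.subtype : Subgroup F) : Set F) := by
          refine le_trans ?_ (Subgroup.le_normalizer_map N.subtype)
          rw [Subgroup.normalizer_eq_top, ← MonoidHom.range_eq_map, Subgroup.range_subtype]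
        exact h2 (hHN hx))
      intro y hy
      obtain ⟨u, hu, e⟩ := h hy
      rwa [← Subtype.ext e]
    haveI : D.Characteristic := Subgroup.characteristic_iff_le_comap.2 fun φ => by
      intro y hy
      refine Subgroup.mem_sInf.2 fun U ⟨hU, hU1⟩ => ?_
      have h := Subgroup.mem_sInf.1 hy (U.comap φ.toMonoidHom) ⟨hU.comap _, fun e => hU1 (by
        rw [← Subgroup.map_comap_eq_self_of_surjective (f := φ.toMonoidHom) φ.surjective U, e, Subgroup.map_bot])⟩
      exact h
    haveI : (D.map N.subtype).Normal := ConjAct.normal_of_characteristic_of_normal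
    have hD1 : D.map N.subtype ≠ ⊥ := fun e => hH (eq_bot_iff.2 fun x hx => by
      rw [← e]; exact ⟨⟨x, hHN hx⟩, hHD hx, rfl⟩)
    have hDt : D = ⊤ := top_le_iff.1 fun y _ => by
      obtain ⟨z, hz, e⟩ := hmem _ inferInstance hD1 y.2
      rwa [← Subtype.ext e]
    exact hno.2 (top_le_iff.1 (hDt ▸ sInf_le ⟨hT, hno.1⟩))
  refine ⟨N, hNn, hN1, hmem, hsimple, ?_⟩
  set C := Subgroup.centralizer (N : Set F) with hC
  by_cases hC1 : C = ⊥
  · exact Or.inl hC1
  have hNC : N ≤ C := hmem C inferInstance hC1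
  haveI hNc : IsMulCommutative ↥N := ⟨⟨fun a b => Subtype.ext (Subgroup.mem_centralizer_iff.1 (hNC b.2) a a.2)⟩⟩
  letI : CommGroup ↥N := { (inferInstance : Group ↥N) with mul_comm := fun a b => mul_comm' a b }
  haveI := hsimple
  have hp : (Nat.card ↥N).Prime := IsSimpleGroup.prime_card
  set p := Nat.card ↥N with hpdef
  haveI : Fact p.Prime := ⟨hp⟩
  have hHN' : H = N := by
    refine Subgroup.eq_of_le_of_card_ge hHN ?_
    rcases (Nat.dvd_prime hp).1 (Subgroup.card_dvd_of_le hHN) with h | h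
    · exact absurd (Subgroup.eq_bot_of_card_le H h.le) hH
    · exact h.ge
  have hsub : ∀ x ∈ C, x ≠ 1 → N ≤ Subgroup.zpowers x := by
    intro x hx hx1
    refine hHN'.symm.le.trans (hmin (Subgroup.zpowers x) (fun e => hx1 ?_) ?_)
    · have h : x ∈ (⊥ : Subgroup F) := e ▸ Subgroup.mem_zpowers x
      exact Subgroup.mem_bot.1 h
    · refine le_trans ?_ (Subgroup.centralizer_le_normalizer _)
      intro h hh
      refine Subgroup.mem_centralizer_iff.2 ?_
      rintro _ ⟨i, rfl⟩
      exact ((show Commute h x from Subgroup.mem_centralizer_iff.1 hx h (hHN hh)).zpow_right i).eq.symm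
  have hpg : IsPGroup p ↥C := by
    refine IsPGroup.of_card (Nat.eq_prime_pow_of_unique_prime_dvd Nat.card_pos.ne' fun {q} hq hdvd => ?_)
    haveI : Fact q.Prime := ⟨hq⟩
    obtain ⟨x, hx⟩ := exists_prime_orderOf_dvd_card' q hdvd
    have hx1 : (x : F) ≠ 1 := fun e => hq.ne_one (by rw [← hx, ← Subgroup.orderOf_coe, e, orderOf_one])
    have h := Subgroup.card_dvd_of_le (hsub x x.2 hx1)
    rw [Nat.card_zpowers, Subgroup.orderOf_coe, hx, ← hpdef] at h
    exact ((Nat.prime_dvd_prime_iff_eq hp hq).1 h).symm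
  have huniq : ∀ x y : ↥C, orderOf x = p → orderOf y = p → y ∈ Subgroup.zpowers x := by
    intro x y hx hy
    have key : ∀ z : ↥C, orderOf z = p → N = Subgroup.zpowers (z : F) := fun z hz =>
      Subgroup.eq_of_le_of_card_ge (hsub z z.2 (fun e => hp.ne_one (by rw [← hz, ← Subgroup.orderOf_coe, e, orderOf_one])))
        (by rw [Nat.card_zpowers, Subgroup.orderOf_coe, hz])
    have : (y : F) ∈ Subgroup.zpowers (x : F) := by
      rw [← key x hx, key y hy]; exact Subgroup.mem_zpowers _
    obtain ⟨i, hi⟩ := this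
    exact ⟨i, Subtype.ext (by rw [Subgroup.coe_zpow]; exact hi)⟩
  obtain ⟨k, hk⟩ := IsPGroup.iff_card.1 hpg
  have hk1 : 1 ≤ k := by
    by_contra h
    rw [show k = 0 by omega, pow_zero] at hk
    exact hC1 (Subgroup.eq_bot_of_card_le C hk.le)
  let φ : F →* (ZMod p)ˣ := (IsCyclic.mulAutMulEquiv ↥N).toMonoidHom.comp (MulAut.conjNormal (H := N))
  have hker : φ.ker = C := by
    ext x
    rw [MonoidHom.mem_ker, MonoidHom.comp_apply, MulEquiv.coe_toMonoidHom, MulEquiv.map_eq_one_iff, hC, Subgroup.mem_centralizer_iff]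
    constructor
    · intro h a ha
      have := congrArg Subtype.val (DFunLike.congr_fun h ⟨a, ha⟩)
      rw [MulAut.conjNormal_apply] at this
      exact (mul_inv_eq_iff_eq_mul.1 this).symm
    · intro h
      ext a
      rw [MulAut.conjNormal_apply, MulAut.one_apply, mul_inv_eq_iff_eq_mul]
      exact (h a a.2).symm
  have hidx : C.index ∣ p - 1 := by
    rw [← hker, Subgroup.index_ker, show p - 1 = Nat.card (ZMod p)ˣ by rw [Nat.card_eq_fintype_card, ZMod.card_units]]
    exact Subgroup.card_subgroup_dvd_card _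
  rcases CfsgLib.Solv.pgroup_unique_sub hpg huniq with hcyc | ⟨hp2, n, hn⟩
  · refine Or.inr (Or.inl ⟨hHN', hp, hcyc, ⟨k, hk1, hk⟩, ?_, hidx⟩)
    obtain ⟨⟨_, g, rfl⟩, hg⟩ := IsCyclic.exists_generator (α := ↥φ.range)
    refine ⟨g, top_le_iff.1 fun x _ => ?_⟩
    obtain ⟨i, hi⟩ := hg ⟨φ x, x, rfl⟩
    have hxg : x * (g ^ i)⁻¹ ∈ C := by
      rw [← hker, MonoidHom.mem_ker, map_mul, map_inv, map_zpow]
      have := congrArg Subtype.val hi
      simp only [Subgroup.coe_zpow] at this
      rw [← this, mul_inv_cancel]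
    have := mul_mem (Subgroup.mem_sup_left (T := Subgroup.zpowers g) hxg) (Subgroup.mem_sup_right (zpow_mem (Subgroup.mem_zpowers g) i))
    rwa [inv_mul_cancel_right] at this
  · refine Or.inr (Or.inr ⟨hHN', hp2, ?_, n + 1, by omega, ?_⟩)
    · exact Subgroup.index_eq_one.1 (Nat.dvd_one.1 (by simpa [hp2] using hidx))
    · have hCt : C = ⊤ := Subgroup.index_eq_one.1 (Nat.dvd_one.1 (by simpa [hp2] using hidx))
      exact hn.map fun e => ((MulEquiv.subgroupCongr hCt).trans Subgroup.topEquiv).symm.trans e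

end Cfsg.Agent.S3025
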