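import Cfsg.Statements.S3027
import Cfsg.Agent.Solv.Basic

set_option autoImplicit false
open Cfsg

namespace Cfsg.Agent.S3027

/-- Let G be a finite group and D a normal subgroup of G such that G/D is perfect (that is, G = G′D). Then among the subnormal subgroups B of G with BD = G there is a least one, and it is normal in G. -/
theorem result {G : Type*} [Group G] [Finite G] (D : Subgroup G) [D.Normal] (hperf : ⁅(⊤ : Subgroup G), (⊤ : Subgroup G)⁆ ⊔ D = ⊤) :
    ∃ B : Subgroup G, B.Normal ∧ B ⊔ D = ⊤ ∧ ∀ B' : Subgroup G, B'.IsSubnormal → B' ⊔ D = ⊤ → B ≤ B' := by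
  open scoped commutatorElement in
  exact (by
    set f := QuotientGroup.mk' D with hf
    have hsup : ∀ X : Subgroup G, X ⊔ D = ⊤ ↔ X.map f = ⊤ := by
      intro X
      constructor
      · intro h
        have := congrArg (Subgroup.map f) h
        rw [Subgroup.map_sup, QuotientGroup.map_mk'_self, sup_bot_eq,
          Subgroup.map_top_of_surjective _ (QuotientGroup.mk'_surjective _)] at this
        exact this
      · intro h
        have := congrArg (Subgroup.comap f) h
        rwa [Subgroup.comap_map_eq, QuotientGroup.ker_mk', Subgroup.comap_top] at this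
    have hperf' : ⁅(⊤ : Subgroup (G ⧸ D)), (⊤ : Subgroup (G ⧸ D))⁆ = ⊤ := by
      have := (hsup _).1 hperf
      rwa [Subgroup.map_commutator, Subgroup.map_top_of_surjective _ (QuotientGroup.mk'_surjective _)] at this
    have hinf : ∀ X Y : Subgroup G, X ≤ Subgroup.normalizer (Y : Set G) → Y ≤ Subgroup.normalizer (X : Set G) →
        X ⊔ D = ⊤ → Y ⊔ D = ⊤ → (X ⊓ Y) ⊔ D = ⊤ := by
      intro X Y hXY hYX hX hY
      rw [hsup] at hX hY ⊢
      have hle : ⁅X, Y⁆ ≤ X ⊓ Y := le_inf (Subgroup.le_normalizer_iff_commutator_le_left.1 hYX)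
        (Subgroup.le_normalizer_iff_commutator_le_right.1 hXY)
      refine top_le_iff.1 ((le_of_eq ?_).trans (Subgroup.map_mono hle))
      rw [Subgroup.map_commutator, hX, hY, hperf']
    obtain ⟨B, hBn, hB, hBmin⟩ : ∃ B : Subgroup G, B.Normal ∧ B ⊔ D = ⊤ ∧
        ∀ B' : Subgroup G, B'.Normal → B' ⊔ D = ⊤ → B ≤ B' := by
      obtain ⟨B, ⟨hBn, hB⟩, hmin⟩ := Set.exists_min_image {B : Subgroup G | B.Normal ∧ B ⊔ D = ⊤}
        (fun B => Nat.card B) (Set.toFinite _) ⟨⊤, inferInstance, top_sup_eq _⟩
      refine ⟨B, hBn, hB, fun B' hn' h' => ?_⟩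
      haveI := hBn; haveI := hn'
      have h := hmin (B ⊓ B') ⟨inferInstance, hinf B B' (le_top.trans (Subgroup.normalizer_eq_top (H := B')).ge)
        (le_top.trans (Subgroup.normalizer_eq_top (H := B)).ge) hB h'⟩
      exact inf_eq_left.1 (Subgroup.eq_of_le_of_card_ge inf_le_left h)
    refine ⟨B, hBn, hB, fun B' hB' => ?_⟩
    induction hB' with
    | top => exact fun _ => le_top
    | step X K hXK _ hn ih =>
      intro hXD
      have hBK : B ≤ K := ih (top_le_iff.1 (hXD ▸ sup_le_sup_right hXK D))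
      haveI := hBn
      have hKX : K ≤ Subgroup.normalizer (X : Set G) := (Subgroup.normal_subgroupOf_iff_le_normalizer hXK).1 hn
      have hBX : (X ⊓ B) ⊔ D = ⊤ :=
        hinf X B (le_top.trans (Subgroup.normalizer_eq_top (H := B)).ge) (hBK.trans hKX) hXD hB
      set F : Set (Subgroup G) := {Y | Y ≤ B ∧ B ≤ Subgroup.normalizer (Y : Set G) ∧ Y ⊔ D = ⊤} with hF
      have hmemF : X ⊓ B ∈ F := by
        refine ⟨inf_le_right, fun b hb => ?_, hBX⟩
        have h1 := hKX (hBK hb)
        rw [Subgroup.mem_normalizer_iff] at h1 ⊢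
        intro y
        rw [Subgroup.mem_inf, Subgroup.mem_inf, h1 y, Subgroup.mem_normalizer_iff.1 (Subgroup.le_normalizer hb) y]
      obtain ⟨M, hMF, hMmin⟩ := Set.exists_min_image F (fun Y => Nat.card Y) (Set.toFinite _) ⟨_, hmemF⟩
      have hsub : ∀ Y ∈ F, M ≤ Y := by
        intro Y hY
        have hMY : M ⊓ Y ∈ F := by
          refine ⟨inf_le_left.trans hMF.1, fun b hb => ?_,
            hinf M Y (hMF.1.trans hY.2.1) (hY.1.trans hMF.2.1) hMF.2.2 hY.2.2⟩
          rw [Subgroup.mem_normalizer_iff]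
          intro y
          rw [Subgroup.mem_inf, Subgroup.mem_inf, Subgroup.mem_normalizer_iff.1 (hMF.2.1 hb) y,
            Subgroup.mem_normalizer_iff.1 (hY.2.1 hb) y]
        exact inf_eq_left.1 (Subgroup.eq_of_le_of_card_ge inf_le_left (hMmin _ hMY))
      have hMn : M.Normal := by
        refine ⟨fun x hx g => ?_⟩
        have hF' : M.map (MulAut.conj g⁻¹).toMonoidHom ∈ F := by
          refine ⟨?_, ?_, ?_⟩
          · rintro _ ⟨y, hy, rfl⟩; exact hBn.conj_mem y (hMF.1 hy) g⁻¹
          · intro b hb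
            rw [Subgroup.mem_normalizer_iff]
            intro y
            simp only [CfsgLib.Solv.mem_map_conj_iff]
            have h := Subgroup.mem_normalizer_iff.1 (hMF.2.1 (hBn.conj_mem b hb g)) (g⁻¹⁻¹ * y * g⁻¹)
            rw [h]
            constructor <;> intro h' <;> simpa [mul_assoc] using h'
          · have := congrArg (Subgroup.map (MulAut.conj g⁻¹).toMonoidHom) hMF.2.2
            rw [Subgroup.map_sup, Subgroup.map_top_of_surjective _ (MulAut.conj g⁻¹).surjective] at this
            refine top_le_iff.1 (this ▸ sup_le_sup le_rfl ?_)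
            rintro _ ⟨y, hy, rfl⟩; exact (inferInstance : D.Normal).conj_mem y hy g⁻¹
        have := hsub _ hF' hx
        rw [CfsgLib.Solv.mem_map_conj_iff] at this
        simpa using this
      exact (hBmin M hMn hMF.2.2).trans ((hsub _ hmemF).trans inf_le_left))

end Cfsg.Agent.S3027
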