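import Cfsg.Statements.S3036
import Cfsg.Agent.Solv.Basic

set_option autoImplicit false
open Cfsg

namespace Cfsg.Agent.S3036

/-- Let G be a finite non-abelian simple group and A a proper nontrivial subgroup of G. Then |G| > |A| · |C_G(A)|. In particular |G| > |A|² for every nontrivial abelian subgroup A of G. -/
theorem result {G : Type*} [Group G] [Finite G] [IsSimpleGroup G] (hG : ¬ IsMulCommutative G) (A : Subgroup G) (hA1 : A ≠ ⊥) (hA2 : A ≠ ⊤) : Nat.card A * Nat.card ↥(Subgroup.centralizer (A : Set G)) < Nat.card G := by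
  exact (by
    classical
    let m : Subgroup G → ℕ := fun B => Nat.card B * Nat.card ↥(Subgroup.centralizer (B : Set G))
    obtain ⟨M₀, -, hmax⟩ := Set.exists_max_image (Set.univ : Set (Subgroup G)) m Set.finite_univ ⟨⊥, trivial⟩
    set M := m M₀ with hM
    by_contra hlt
    push Not at hlt
    have hbot : m ⊥ = Nat.card G := by
      simp only [m, Subgroup.card_bot, one_mul]
      rw [show Subgroup.centralizer ((⊥ : Subgroup G) : Set G) = ⊤ from eq_top_iff.2 fun x _ =>
        Subgroup.mem_centralizer_iff.2 fun y hy => by rw [Subgroup.mem_bot.1 hy]; simp, Subgroup.card_top]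
    have hcen : Subgroup.center G = ⊥ :=
      ((inferInstance : (Subgroup.center G).Normal).eq_bot_or_eq_top).resolve_right fun e => hG
        ⟨⟨fun a b => (Subgroup.mem_center_iff.1 (e ▸ Subgroup.mem_top b : b ∈ Subgroup.center G) a)⟩⟩
    have htop : m ⊤ = Nat.card G := by
      simp only [m, Subgroup.card_top]
      rw [show Subgroup.centralizer ((⊤ : Subgroup G) : Set G) = ⊥ by
        rw [Subgroup.coe_top, Subgroup.centralizer_univ, hcen], Subgroup.card_bot, mul_one]
    -- a proper nontrivial maximizer
    obtain ⟨B₁, hB₁, h1, h2⟩ : ∃ B, m B = M ∧ B ≠ ⊥ ∧ B ≠ ⊤ := by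
      by_cases h : M₀ = ⊥ ∨ M₀ = ⊤
      · refine ⟨A, le_antisymm (hmax A trivial) ?_, hA1, hA2⟩
        rcases h with h | h
        · rw [hM, h, hbot]; exact hlt
        · rw [hM, h, htop]; exact hlt
      · push Not at h; exact ⟨M₀, rfl, h.1, h.2⟩
    obtain ⟨B, ⟨hB, hBb, hBt⟩, hBmax⟩ := Set.exists_max_image {B : Subgroup G | m B = M ∧ B ≠ ⊥ ∧ B ≠ ⊤}
      (fun B => Nat.card B) (Set.toFinite _) ⟨B₁, hB₁, h1, h2⟩
    have hprod : ∀ P Q : Subgroup G, Nat.card P * Nat.card Q ≤ Nat.card ↥(P ⊔ Q) * Nat.card ↥(P ⊓ Q) ∧
        (Nat.card P * Nat.card Q = Nat.card ↥(P ⊔ Q) * Nat.card ↥(P ⊓ Q) → P.relIndex Q = P.relIndex (P ⊔ Q)) := by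
      intro P Q
      have h1 := CfsgLib.Solv.relIndex_mul_card (le_sup_left : P ≤ P ⊔ Q)
      have h2 := CfsgLib.Solv.relIndex_mul_card (inf_le_right : P ⊓ Q ≤ Q)
      rw [Subgroup.inf_relIndex_right] at h2
      have h3 : P.relIndex Q ≤ P.relIndex (P ⊔ Q) :=
        Subgroup.relIndex_le_of_le_right le_sup_right Subgroup.index_ne_zero_of_finite
      refine ⟨?_, fun e => ?_⟩
      · rw [← h1, ← h2]
        calc Nat.card P * (Nat.card ↥(P ⊓ Q) * P.relIndex Q)
            ≤ Nat.card P * (Nat.card ↥(P ⊓ Q) * P.relIndex (P ⊔ Q)) := by gcongr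
          _ = _ := by ring
      · rw [← h1, ← h2] at e
        have hne : Nat.card P * Nat.card ↥(P ⊓ Q) ≠ 0 := (mul_pos Nat.card_pos Nat.card_pos).ne'
        refine mul_left_cancel₀ hne ?_
        linarith
    have hnorm : B.Normal := by
      rw [← Subgroup.normalizer_eq_top_iff, eq_top_iff]
      intro g _
      set D := B.map (MulAut.conj g).toMonoidHom with hD
      suffices hDB : D = B by
        rw [Subgroup.mem_normalizer_iff]
        intro y
        constructor
        · intro hy; rw [← hDB]; exact Subgroup.mem_map.2 ⟨y, hy, rfl⟩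
        · intro hy
          rw [← hDB, hD, CfsgLib.Solv.mem_map_conj_iff] at hy
          simpa [mul_assoc] using hy
      have hcardD : Nat.card D = Nat.card B :=
        Subgroup.card_map_of_injective (f := (MulAut.conj g).toMonoidHom) (MulAut.conj g).injective
      have hmD : m D = M := by
        rw [← hB]
        simp only [m, hcardD]
        congr 1
        rw [show Subgroup.centralizer (D : Set G) =
            (Subgroup.centralizer (B : Set G)).map (MulAut.conj g).toMonoidHom by
          ext y
          rw [CfsgLib.Solv.mem_map_conj_iff, Subgroup.mem_centralizer_iff, Subgroup.mem_centralizer_iff]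
          constructor
          · intro hc b hb
            have h := hc (g * b * g⁻¹) (Subgroup.mem_map.2 ⟨b, hb, rfl⟩)
            calc b * (g⁻¹ * y * g) = g⁻¹ * (g * b * g⁻¹ * y) * g := by group
              _ = g⁻¹ * (y * (g * b * g⁻¹)) * g := by rw [h]
              _ = _ := by group
          · rintro hc _ ⟨b, hb, rfl⟩
            show g * b * g⁻¹ * y = y * (g * b * g⁻¹)
            calc g * b * g⁻¹ * y = g * (b * (g⁻¹ * y * g)) * g⁻¹ := by group
              _ = g * (g⁻¹ * y * g * b) * g⁻¹ := by rw [hc b hb]
              _ = _ := by group]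
        exact Subgroup.card_map_of_injective (f := (MulAut.conj g).toMonoidHom) (MulAut.conj g).injective
      set J := B ⊔ D with hJ
      set I := B ⊓ D with hI
      have hC1 : Subgroup.centralizer (B : Set G) ⊓ Subgroup.centralizer (D : Set G) ≤ Subgroup.centralizer (J : Set G) := by
        rw [Subgroup.le_centralizer_iff]
        exact sup_le (Subgroup.le_centralizer_iff.1 inf_le_left) (Subgroup.le_centralizer_iff.1 inf_le_right)
      have hC2 : Subgroup.centralizer (B : Set G) ⊔ Subgroup.centralizer (D : Set G) ≤ Subgroup.centralizer (I : Set G) :=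
        sup_le (Subgroup.centralizer_le (SetLike.coe_subset_coe.2 inf_le_left))
          (Subgroup.centralizer_le (SetLike.coe_subset_coe.2 inf_le_right))
      have hc : Nat.card ↥(Subgroup.centralizer (B : Set G)) * Nat.card ↥(Subgroup.centralizer (D : Set G)) ≤
          Nat.card ↥(Subgroup.centralizer (J : Set G)) * Nat.card ↥(Subgroup.centralizer (I : Set G)) :=
        le_trans (hprod _ _).1 (le_trans (Nat.mul_le_mul
          (Nat.le_of_dvd Nat.card_pos (Subgroup.card_dvd_of_le hC2))
          (Nat.le_of_dvd Nat.card_pos (Subgroup.card_dvd_of_le hC1))) (le_of_eq (Nat.mul_comm _ _)))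
      have ha := hprod B D
      have hineq : m B * m D ≤ m J * m I := by
        simp only [m]
        calc _ = (Nat.card B * Nat.card D) * (Nat.card ↥(Subgroup.centralizer (B : Set G)) *
              Nat.card ↥(Subgroup.centralizer (D : Set G))) := by ring
          _ ≤ _ := Nat.mul_le_mul ha.1 hc
          _ = _ := by ring
      have hM0 : 0 < M := hB ▸ mul_pos Nat.card_pos Nat.card_pos
      rw [hB, hmD] at hineq
      have hJM : m J = M := by
        refine le_antisymm (hmax J trivial) (Nat.le_of_mul_le_mul_right ?_ hM0)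
        exact hineq.trans (Nat.mul_le_mul_left _ (hmax I trivial))
      have hIM : m I = M := by
        refine le_antisymm (hmax I trivial) (Nat.le_of_mul_le_mul_left ?_ hM0)
        exact hineq.trans (Nat.mul_le_mul_right _ (hmax J trivial))
      by_cases hJt : J = ⊤
      · exfalso
        have heq : Nat.card B * Nat.card D = Nat.card J * Nat.card I := by
          refine le_antisymm ha.1 ?_
          by_contra hlt2
          push Not at hlt2
          have : m B * m D < m J * m I := by
            simp only [m]
            calc _ = (Nat.card B * Nat.card D) * (Nat.card ↥(Subgroup.centralizer (B : Set G)) *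
                  Nat.card ↥(Subgroup.centralizer (D : Set G))) := by ring
              _ < (Nat.card J * Nat.card I) * (Nat.card ↥(Subgroup.centralizer (J : Set G)) *
                  Nat.card ↥(Subgroup.centralizer (I : Set G))) :=
                Nat.mul_lt_mul_of_lt_of_le hlt2 hc (mul_pos Nat.card_pos Nat.card_pos)
              _ = _ := by ring
          rw [hB, hmD, hJM, hIM] at this
          exact lt_irrefl _ this
        have hri := ha.2 heq
        rw [← hJ, hJt, Subgroup.relIndex_top_right] at hri
        have hst : MulAction.stabilizer D ((1 : G) : G ⧸ B) = B.subgroupOf D := by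
          ext d
          rw [MulAction.mem_stabilizer_iff, Subgroup.mem_subgroupOf]
          show ((d : G) * 1 : G) = ((1 : G) : G ⧸ B) ↔ _
          rw [mul_one, QuotientGroup.eq, mul_one, inv_mem_iff]
        have horb : MulAction.orbit D ((1 : G) : G ⧸ B) = Set.univ := by
          refine Set.eq_univ_iff_ncard _ |>.2 ?_
          rw [← MulAction.index_stabilizer, hst]
          exact hri
        obtain ⟨⟨d, hd⟩, hdg⟩ : (g : G ⧸ B) ∈ MulAction.orbit D ((1 : G) : G ⧸ B) := horb ▸ trivial
        have hdg' : ((d * 1 : G) : G ⧸ B) = (g : G ⧸ B) := hdg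
        rw [mul_one, QuotientGroup.eq] at hdg'
        obtain ⟨b, hb, rfl⟩ := hd
        change (g * b * g⁻¹)⁻¹ * g ∈ B at hdg'
        have hg : g ∈ B := by
          rw [show g = (g * b * g⁻¹)⁻¹ * g * b by group]
          exact mul_mem hdg' hb
        refine hBt (top_le_iff.1 (hJt ▸ sup_le le_rfl ?_))
        rintro _ ⟨y, hy, rfl⟩
        exact mul_mem (mul_mem hg hy) (inv_mem hg)
      · have hJb : J ≠ ⊥ := fun e => hBb (le_bot_iff.1 (e ▸ le_sup_left))
        have h := hBmax J ⟨hJM, hJb, hJt⟩
        exact Subgroup.eq_of_le_of_card_ge (le_sup_right.trans (Subgroup.eq_of_le_of_card_ge le_sup_left h).ge)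
          hcardD.ge
    rcases hnorm.eq_bot_or_eq_top with h | h
    · exact hBb h
    · exact hBt h)

end Cfsg.Agent.S3036
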