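import Cfsg.Statements.S3037
import Cfsg.Agent.Solv.Basic
import Cfsg.Agent.Inv.CharP

set_option autoImplicit false
open Cfsg

namespace Cfsg.Agent.S3037

/-- Let V and G be subgroups of a finite group with V an elementary abelian p-group (p prime) on which G acts faithfully and irreducibly by conjugation: G normalizes V, G ∩ C(V) = 1, and the only subgroups of V normalized by G are 1 and V. If for some nontrivial subgroup A of G and some real α > 0 one has |V| ≤ |A|^α · |C_V(A)|, then |V| ≤ |G|^α. -/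
theorem result {X : Type*} [Group X] [Finite X] {p : ℕ} [Fact p.Prime] (V G : Subgroup X) (hV : Cfsg.IsElementaryAbelian p V)
    (hGV : G ≤ Subgroup.normalizer (V : Set X)) (hfaith : G ⊓ Subgroup.centralizer (V : Set X) = ⊥)
    (hirr : ∀ W : Subgroup X, W ≤ V → G ≤ Subgroup.normalizer (W : Set X) → W = ⊥ ∨ W = V)
    (A : Subgroup X) (hA : A ≤ G) (hA1 : A ≠ ⊥) (α : ℝ) (hα : 0 < α)
    (hbig : (Nat.card V : ℝ) ≤ (Nat.card A : ℝ) ^ α * (Nat.card ↥(V ⊓ Subgroup.centralizer (A : Set X)) : ℝ)) :
    (Nat.card V : ℝ) ≤ (Nat.card G : ℝ) ^ α := by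
  exact (by
    classical
    obtain ⟨hVc, hVe⟩ := hV
    let C : Subgroup X → Subgroup X := fun B => V ⊓ Subgroup.centralizer (B : Set X)
    let m : Subgroup X → ℝ := fun B => (Nat.card B : ℝ) ^ α * (Nat.card (C B) : ℝ)
    set S : Set (Subgroup X) := {B | B ≤ G} with hS
    obtain ⟨B₀, hB₀, hmax⟩ := Set.exists_max_image S m S.toFinite ⟨⊥, (bot_le : (⊥ : Subgroup X) ≤ G)⟩
    obtain ⟨B, ⟨hBG, hBm⟩, hBmax⟩ :=
      Set.exists_max_image {B : Subgroup X | B ∈ S ∧ m B = m B₀} (fun B => Nat.card B) (Set.toFinite _) ⟨B₀, hB₀, rfl⟩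
    have hM : ∀ D, D ≤ G → m D ≤ m B := fun D hD => hBm ▸ hmax D hD
    have hpos : ∀ D : Subgroup X, (0 : ℝ) < (Nat.card D : ℝ) := fun D => Nat.cast_pos.2 Nat.card_pos
    have hVB : (Nat.card V : ℝ) ≤ m B := le_trans hbig (hM A hA)
    have hB1 : B ≠ ⊥ := by
      intro e
      have hmB : m B = Nat.card V := by
        have hC0 : C B = V := inf_eq_left.2 fun v _ => Subgroup.mem_centralizer_iff.2 fun b hb => by
          rw [e] at hb; rw [Subgroup.mem_bot.1 hb]; simp
        simp only [m, hC0]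
        rw [e, Subgroup.card_bot, Nat.cast_one, Real.one_rpow, one_mul]
      have hAm : m A = m B₀ := le_antisymm (hmax A hA) (by rw [← hBm, hmB]; exact hbig)
      have h := hBmax A ⟨hA, hAm⟩
      rw [e, Subgroup.card_bot] at h
      exact hA1 (Subgroup.eq_bot_of_card_le A h)
    have hsum : ∀ g ∈ G, B.map (MulAut.conj g).toMonoidHom ≤ B := by
      intro g hg
      set D := B.map (MulAut.conj g).toMonoidHom with hD
      have hgN := hGV hg
      have hDG : D ≤ G := by
        rintro _ ⟨b, hb, rfl⟩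
        exact mul_mem (mul_mem hg (hBG hb)) (inv_mem hg)
      have hcardD : Nat.card D = Nat.card B := Subgroup.card_map_of_injective (MulAut.conj g).injective
      have hCD : C D = (C B).map (MulAut.conj g).toMonoidHom := by
        ext y
        rw [CfsgLib.Solv.mem_map_conj_iff]
        simp only [C, Subgroup.mem_inf, Subgroup.mem_centralizer_iff]
        constructor
        · rintro ⟨hy, hc⟩
          refine ⟨(Subgroup.mem_normalizer_iff''.1 hgN y).1 hy, fun b hb => ?_⟩
          have h := hc (g * b * g⁻¹) (Subgroup.mem_map.2 ⟨b, hb, rfl⟩)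
          calc b * (g⁻¹ * y * g) = g⁻¹ * (g * b * g⁻¹ * y) * g := by group
            _ = g⁻¹ * (y * (g * b * g⁻¹)) * g := by rw [h]
            _ = _ := by group
        · rintro ⟨hy, hc⟩
          refine ⟨(Subgroup.mem_normalizer_iff''.1 hgN y).2 hy, ?_⟩
          rintro _ ⟨b, hb, rfl⟩
          show g * b * g⁻¹ * y = y * (g * b * g⁻¹)
          calc g * b * g⁻¹ * y = g * (b * (g⁻¹ * y * g)) * g⁻¹ := by group
            _ = g * (g⁻¹ * y * g * b) * g⁻¹ := by rw [hc b hb]
            _ = _ := by group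
      have hmD : m D = m B := by
        simp only [m, hcardD, hCD]
        rw [Subgroup.card_map_of_injective (f := (MulAut.conj g).toMonoidHom) (MulAut.conj g).injective]
      -- super-additivity
      have hprod : ∀ P Q : Subgroup X,
          Nat.card P * Nat.card Q ≤ Nat.card ↥(P ⊔ Q) * Nat.card ↥(P ⊓ Q) := by
        intro P Q
        have h1 := CfsgLib.Solv.relIndex_mul_card (le_sup_left : P ≤ P ⊔ Q)
        have h2 := CfsgLib.Solv.relIndex_mul_card (inf_le_right : P ⊓ Q ≤ Q)
        rw [Subgroup.inf_relIndex_right] at h2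
        have h3 : P.relIndex Q ≤ P.relIndex (P ⊔ Q) :=
          Subgroup.relIndex_le_of_le_right le_sup_right Subgroup.index_ne_zero_of_finite
        rw [← h1, ← h2]
        calc Nat.card P * (Nat.card ↥(P ⊓ Q) * P.relIndex Q)
            ≤ Nat.card P * (Nat.card ↥(P ⊓ Q) * P.relIndex (P ⊔ Q)) := by gcongr
          _ = _ := by ring
      have hC1 : C B ⊓ C D = C (B ⊔ D) := by
        apply le_antisymm
        · intro y hy
          obtain ⟨h1, h2⟩ := Subgroup.mem_inf.1 hy
          refine Subgroup.mem_inf.2 ⟨(Subgroup.mem_inf.1 h1).1, Subgroup.mem_centralizer_iff.2 fun b hb => ?_⟩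
          have : B ⊔ D ≤ Subgroup.centralizer ({y} : Set X) := sup_le
            (fun b hb => Subgroup.mem_centralizer_singleton_iff.2 (Subgroup.mem_centralizer_iff.1 (Subgroup.mem_inf.1 h1).2 b hb))
            (fun b hb => Subgroup.mem_centralizer_singleton_iff.2 (Subgroup.mem_centralizer_iff.1 (Subgroup.mem_inf.1 h2).2 b hb))
          exact Subgroup.mem_centralizer_singleton_iff.1 (this hb)
        · exact le_inf (inf_le_inf_left V (Subgroup.centralizer_le (SetLike.coe_subset_coe.2 le_sup_left)))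
            (inf_le_inf_left V (Subgroup.centralizer_le (SetLike.coe_subset_coe.2 le_sup_right)))
      have hC2 : C B ⊔ C D ≤ C (B ⊓ D) := sup_le
        (inf_le_inf_left V (Subgroup.centralizer_le (SetLike.coe_subset_coe.2 inf_le_left)))
        (inf_le_inf_left V (Subgroup.centralizer_le (SetLike.coe_subset_coe.2 inf_le_right)))
      have hc : (Nat.card (C B) : ℝ) * Nat.card (C D) ≤ Nat.card (C (B ⊔ D)) * Nat.card (C (B ⊓ D)) := by
        have h1 := hprod (C B) (C D)
        rw [hC1] at h1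
        have h2 : Nat.card ↥(C B ⊔ C D) ≤ Nat.card (C (B ⊓ D)) :=
          Nat.le_of_dvd Nat.card_pos (Subgroup.card_dvd_of_le hC2)
        exact_mod_cast le_trans h1 (le_trans (Nat.mul_le_mul_right _ h2) (le_of_eq (Nat.mul_comm _ _)))
      have ha : (Nat.card B : ℝ) ^ α * (Nat.card D : ℝ) ^ α ≤
          (Nat.card ↥(B ⊔ D) : ℝ) ^ α * (Nat.card ↥(B ⊓ D) : ℝ) ^ α := by
        rw [← Real.mul_rpow (hpos _).le (hpos _).le, ← Real.mul_rpow (hpos _).le (hpos _).le]
        exact Real.rpow_le_rpow (mul_nonneg (hpos _).le (hpos _).le) (by exact_mod_cast hprod B D) hα.le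
      have hineq : m B * m D ≤ m (B ⊔ D) * m (B ⊓ D) := by
        simp only [m]
        calc ((Nat.card B : ℝ) ^ α * Nat.card (C B)) * ((Nat.card D : ℝ) ^ α * Nat.card (C D))
            = ((Nat.card B : ℝ) ^ α * (Nat.card D : ℝ) ^ α) * ((Nat.card (C B) : ℝ) * Nat.card (C D)) := by ring
          _ ≤ _ := mul_le_mul ha hc (mul_nonneg (hpos _).le (hpos _).le)
                (mul_nonneg (Real.rpow_nonneg (hpos _).le _) (Real.rpow_nonneg (hpos _).le _))
          _ = _ := by ring
      have hJG : B ⊔ D ≤ G := sup_le hBG hDG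
      have hmpos : 0 < m B := mul_pos (Real.rpow_pos_of_pos (hpos _) _) (hpos _)
      have hJm : m (B ⊔ D) = m B := by
        refine le_antisymm (hM _ hJG) ?_
        have h1 : m (B ⊓ D) ≤ m B := hM _ (inf_le_left.trans hBG)
        have h2 : 0 ≤ m (B ⊔ D) := mul_nonneg (Real.rpow_nonneg (hpos _).le _) (hpos _).le
        rw [hmD] at hineq
        exact le_of_mul_le_mul_right (le_trans hineq (mul_le_mul_of_nonneg_left h1 h2)) hmpos
      have h := hBmax (B ⊔ D) ⟨hJG, hJm.trans hBm⟩
      exact le_sup_right.trans (Subgroup.eq_of_le_of_card_ge le_sup_left h).ge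
    have hCn : G ≤ Subgroup.normalizer (C B : Set X) := by
      refine CfsgLib.Solv.le_normalizer_inf_of_le hGV ?_
      rw [CfsgLib.Solv.le_normalizer_iff_forall_conj_mem]
      intro g hg c hc
      refine Subgroup.mem_centralizer_iff.2 fun b hb => ?_
      have hb' : g⁻¹ * b * g ∈ B := hsum g⁻¹ (inv_mem hg) (Subgroup.mem_map.2 ⟨b, hb, by simp⟩)
      have h1 := Subgroup.mem_centralizer_iff.1 hc _ hb'
      calc b * (g * c * g⁻¹) = g * (g⁻¹ * b * g * c) * g⁻¹ := by group
        _ = g * (c * (g⁻¹ * b * g)) * g⁻¹ := by rw [h1]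
        _ = _ := by group
    rcases hirr (C B) inf_le_left hCn with h | h
    · calc (Nat.card V : ℝ) ≤ m B := hVB
        _ = (Nat.card B : ℝ) ^ α := by simp only [m, h, Subgroup.card_bot, Nat.cast_one, mul_one]
        _ ≤ _ := Real.rpow_le_rpow (hpos _).le (by exact_mod_cast Nat.le_of_dvd Nat.card_pos (Subgroup.card_dvd_of_le hBG)) hα.le
    · refine absurd ?_ hB1
      rw [← le_bot_iff, ← hfaith]
      refine le_inf hBG (Subgroup.le_centralizer_iff.1 ?_)
      exact h ▸ (inf_le_right : C B ≤ _))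

end Cfsg.Agent.S3037
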