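import Cfsg.Statements.S3045
import Cfsg.Agent.S2859
import Cfsg.Agent.S2851
import Cfsg.Agent.S2860
import Cfsg.Agent.Inv.FrakH
import Cfsg.Agent.Inv.FrakM
import Cfsg.Agent.Inv.PMinimalComponent
import Cfsg.Agent.Solv.Maschke
import Cfsg.Agent.Solv.CoprimeAction

set_option autoImplicit false
set_option maxHeartbeats 400000
set_option linter.style.haveILetI false
open Cfsg
open CfsgLib.Inv
open scoped commutatorElement Pointwise

namespace Cfsg.Agent.S3045

variable {G : Type*} [Group G] [Finite G] {p : ℕ} [Fact p.Prime]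

/-- `L_P`: the normalizer of `S` and the other p-minimal overgroups. -/
abbrev others (S : Sylow p G) (P : Subgroup G) : Subgroup G :=
  Subgroup.normalizer ((S : Subgroup G) : Set G) ⊔
    ⨆ P' : {P' : Subgroup G // (S : Subgroup G) ≤ P' ∧ Cfsg.IsPMinimal p ↥P' ∧ P' ≠ P}, (P' : Subgroup G)

theorem generated (S : Sylow p G) (P : Subgroup G) : ∀ (n : ℕ) (X : Subgroup G), Nat.card X = n →
    (S : Subgroup G) ≤ X → (P ≤ X ∨ X ≤ others S P) ∧ X ≤ others S P ⊔ P := by
  intro n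
  induction n using Nat.strong_induction_on with
  | _ n ih =>
    intro X hn hSX
    suffices h : X ≤ others S P ∨ P ≤ X ∧ X ≤ others S P ⊔ P by
      rcases h with h | ⟨h1, h2⟩
      · exact ⟨Or.inr h, h.trans le_sup_left⟩
      · exact ⟨Or.inl h1, h2⟩
    set Sx := S.subtype hSX with hSx
    by_cases hnorm : (Sx : Subgroup X).Normal
    · left
      refine le_trans ?_ le_sup_left
      intro x hx
      refine Subgroup.mem_normalizer_fintype fun s hs => ?_
      exact hnorm.conj_mem ⟨s, hSX hs⟩ hs ⟨x, hx⟩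
    have hne : (Sx : Subgroup X) ≠ ⊤ := fun e => hnorm (by rw [e]; infer_instance)
    obtain ⟨M, hM, hSM⟩ := (eq_top_or_exists_le_coatom _).resolve_left hne
    by_cases hover : ∀ Z : Subgroup X, (Sx : Subgroup X) ≤ Z → Z ≠ ⊤ → Z ≤ M
    · have hmin : Cfsg.IsPMinimal p ↥X := CfsgLib.Inv.PMin.isPMinimal_of_over Sx hnorm ⟨hM, hSM, hover⟩
      by_cases hXP : X = P
      · exact Or.inr ⟨hXP.ge, hXP.le.trans le_sup_right⟩
      · exact Or.inl (le_trans (le_iSup (fun P' : {P' : Subgroup G // (S : Subgroup G) ≤ P' ∧ Cfsg.IsPMinimal p ↥P' ∧ P' ≠ P} => (P' : Subgroup G)) ⟨X, hSX, hmin, hXP⟩) le_sup_right)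
    push Not at hover
    obtain ⟨Z, hSZ, hZ, hZM⟩ := hover
    have htop : M ⊔ Z = ⊤ := hM.2 _ (lt_of_le_of_ne le_sup_left fun e => hZM (e ▸ le_sup_right))
    have hsub : ∀ U : Subgroup X, (Sx : Subgroup X) ≤ U → U ≠ ⊤ →
        (P ≤ U.map X.subtype ∨ U.map X.subtype ≤ others S P) ∧ U.map X.subtype ≤ others S P ⊔ P := by
      intro U hSU hU
      refine ih _ ?_ (U.map X.subtype) rfl fun s hs => ⟨⟨s, hSX hs⟩, hSU hs, rfl⟩
      rw [Subgroup.card_map_of_injective X.subtype_injective, ← hn]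
      exact lt_of_le_of_ne (Subgroup.card_le_card_group U) fun e => hU (Subgroup.eq_top_of_card_eq U e)
    obtain ⟨hM1, hM2⟩ := hsub M hSM hM.1
    obtain ⟨hZ1, hZ2⟩ := hsub Z hSZ hZ
    have hX : X = M.map X.subtype ⊔ Z.map X.subtype := by
      rw [← Subgroup.map_sup, htop, ← MonoidHom.range_eq_map, Subgroup.range_subtype]
    rcases hM1 with h | h
    · exact Or.inr ⟨h.trans (Subgroup.map_subtype_le _), hX.le.trans (sup_le hM2 hZ2)⟩
    rcases hZ1 with h' | h'
    · exact Or.inr ⟨h'.trans (Subgroup.map_subtype_le _), hX.le.trans (sup_le hM2 hZ2)⟩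
    · exact Or.inl (hX.le.trans (sup_le h h'))

theorem exists_complement {X : Type*} [Group X] [Finite X] {t : ℕ} (ht : t.Prime) (V U : Subgroup X)
    (hVc : ∀ a ∈ V, ∀ b ∈ V, a * b = b * a) (hVe : ∀ a ∈ V, a ^ t = 1) (hUV : U ≤ V) :
    ∃ W, W ≤ V ∧ U ⊓ W = ⊥ ∧ U ⊔ W = V := by
  obtain ⟨W, ⟨hWV, hUW⟩, hmax⟩ := Set.exists_max_image {W : Subgroup X | W ≤ V ∧ U ⊓ W = ⊥}
    (fun W => Nat.card W) (Set.toFinite _) ⟨⊥, bot_le, inf_bot_eq U⟩
  refine ⟨W, hWV, hUW, le_antisymm (sup_le hUV hWV) fun v hv => ?_⟩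
  by_contra hne
  set W' := W ⊔ Subgroup.zpowers v with hW'
  have hWn : Subgroup.zpowers v ≤ Subgroup.normalizer (W : Set X) := by
    intro w hw
    refine Subgroup.mem_normalizer_fintype fun x hx => ?_
    show w * x * w⁻¹ ∈ W
    rw [hVc w ((Subgroup.zpowers_le.2 hv) hw) x (hWV hx), mul_inv_cancel_right]
    exact hx
  have hUW' : U ⊓ W' = ⊥ := by
    refine le_bot_iff.1 fun x hx => ?_
    obtain ⟨hxU, hxW⟩ := Subgroup.mem_inf.1 hx
    obtain ⟨w, hw, _, ⟨k, rfl⟩, e⟩ : x ∈ (W : Set X) * (Subgroup.zpowers v : Set X) := by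
      rw [← Subgroup.coe_mul_of_right_le_normalizer_left W _ hWn]; exact hxW
    have hk : v ^ k ∈ U ⊔ W := by
      rw [show v ^ k = w⁻¹ * x from eq_inv_mul_of_mul_eq e]
      exact mul_mem (Subgroup.mem_sup_right (inv_mem hw)) (Subgroup.mem_sup_left hxU)
    have hvk : v ^ k = 1 := by
      by_contra hk1
      apply hne
      have hvt : v ^ (t : ℤ) = 1 := by rw [zpow_natCast]; exact hVe v hv
      have hd : ¬ (t : ℤ) ∣ k := fun ⟨c, hc⟩ => hk1 (by rw [hc, zpow_mul, hvt, one_zpow])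
      obtain ⟨a, b, hab⟩ := ((Nat.prime_iff_prime_int.1 ht).coprime_iff_not_dvd.2 hd)
      have : v = (v ^ (t : ℤ)) ^ a * (v ^ k) ^ b := by
        rw [← zpow_mul, ← zpow_mul, ← zpow_add, show (t : ℤ) * a + k * b = 1 by linarith, zpow_one]
      rw [this, hvt, one_zpow, one_mul]
      exact zpow_mem hk b
    have e' : w * v ^ k = x := e
    rw [hvk, mul_one] at e'
    rw [← hUW]
    exact Subgroup.mem_inf.2 ⟨hxU, e' ▸ hw⟩
  have h1 := hmax W' ⟨sup_le hWV (Subgroup.zpowers_le.2 hv), hUW'⟩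
  have h2 := Subgroup.eq_of_le_of_card_ge (le_sup_left : W ≤ W') h1
  exact hne (Subgroup.mem_sup_right (h2.ge (Subgroup.mem_sup_right (Subgroup.mem_zpowers v))))

/-- Isolated p-minimal subgroups. -/
theorem result {G : Type*} [Group G] [Finite G] {p : ℕ} [Fact p.Prime] (S : Sylow p G) (P : Subgroup G) (hSP : (S : Subgroup G) ≤ P) (hPmin : Cfsg.IsPMinimal p ↥P)
    (L Y : Subgroup G)
    (hL : L = Subgroup.normalizer ((S : Subgroup G) : Set G) ⊔ ⨆ P' : {P' : Subgroup G // (S : Subgroup G) ≤ P' ∧ Cfsg.IsPMinimal p ↥P' ∧ P' ≠ P}, (P' : Subgroup G))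
    (hiso : ¬ (Cfsg.pCore p ↥L).map L.subtype ≤ (Cfsg.pCore p ↥P).map P.subtype)
    (hY : Y = Subgroup.normalClosure (((Cfsg.pResidual p ↥P).map P.subtype : Subgroup G) : Set G)) [hn : (Cfsg.pCore p G).Normal] :
    (Cfsg.pResidual p ↥P).map P.subtype ≤ (Cfsg.generalizedFittingSubgroup (G ⧸ Cfsg.pCore p G)).comap (QuotientGroup.mk' (Cfsg.pCore p G)) ∧
    (Group.IsSolvable ↥Y → (Cfsg.pResidual p ↥P).map P.subtype = Y ∧
       ∃ _ : (Cfsg.pCore p ↥Y).Normal, ∃ t : ℕ, t.Prime ∧ t ≠ p ∧ IsPGroup t (↥Y ⧸ Cfsg.pCore p ↥Y) ∧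
         ∃ _ : Group.IsNilpotent (↥Y ⧸ Cfsg.pCore p ↥Y), Group.nilpotencyClass (↥Y ⧸ Cfsg.pCore p ↥Y) ≤ 2) := by
  have hL' : L = others S P := hL
  set A := Cfsg.pCore p G with hA
  set π := QuotientGroup.mk' A with hπ
  have hπs : Function.Surjective π := QuotientGroup.mk'_surjective _
  have hπk : ∀ g : G, π g = 1 ↔ g ∈ A := fun g => QuotientGroup.eq_one_iff g
  set R0 := (Cfsg.pResidual p ↥P).map P.subtype with hR0
  have hSL : (S : Subgroup G) ≤ L := by
    rw [hL]; exact Subgroup.le_normalizer.trans le_sup_left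
  set O := Cfsg.pCoreOf p L with hO
  have hOS : O ≤ (S : Subgroup G) := CfsgLib.Inv.FM.pCoreOf_le_sylow S hSL
  have hAS : A ≤ (S : Subgroup G) := CfsgLib.Solv.pCore_le_sylow S
  have hAP : A ≤ Cfsg.pCoreOf p P := le_pCoreOf (hAS.trans hSP) (CfsgLib.Solv.pCore_isPGroup G p)
    (by rw [Subgroup.normalizer_eq_top]; exact le_top)
  have hpc : Cfsg.pCore p (G ⧸ A) = ⊥ := by
    haveI := CfsgLib.Solv.pCore_normal (G ⧸ A) p
    have h1 : IsPGroup p ((Cfsg.pCore p (G ⧸ A)).comap π) :=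
      (CfsgLib.Solv.pCore_isPGroup _ p).comap_of_ker_isPGroup π
        (by rw [hπ, QuotientGroup.ker_mk']; exact CfsgLib.Solv.pCore_isPGroup G p)
    refine le_bot_iff.1 fun x hx => ?_
    obtain ⟨y, rfl⟩ := hπs x
    exact Subgroup.mem_bot.2 ((hπk y).2 (CfsgLib.Solv.le_pCore h1 hx))
  set R := R0.map π with hR
  set Sb := (S : Subgroup G).map π with hSb
  set Lb := L.map π with hLb
  set Ob := O.map π with hOb
  have hObp : IsPGroup p Ob := (pCoreOf_pgroup L).map π
  have hLO : Lb ≤ Subgroup.normalizer (Ob : Set (G ⧸ A)) :=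
    (Subgroup.map_mono (le_normalizer_pCoreOf L)).trans (Subgroup.le_normalizer_map π)
  have hO1 : Ob ≠ ⊥ := by
    intro h
    refine hiso fun x hx => hAP ((hπk x).1 ?_)
    have h1 : π x ∈ Ob := Subgroup.mem_map_of_mem π hx
    rwa [h, Subgroup.mem_bot] at h1
  have hcen : ∀ W : Subgroup (G ⧸ A), W ≤ Lb → W.Normal → ⁅W, Ob⁆ = ⊥ := by
    intro W hW hWn
    have hnW : ∀ K : Subgroup (G ⧸ A), K ≤ Subgroup.normalizer (W : Set (G ⧸ A)) := fun K => by
      rw [Subgroup.normalizer_eq_top]; exact le_top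
    refine le_bot_iff.1 (le_trans (b := W ⊓ Ob) (le_inf (CfsgLib.Solv.commutator_le_of_le_normalizer (hnW Ob)) ?_) ?_ : ⁅W, Ob⁆ ≤ ⊥)
    · rw [Subgroup.commutator_comm]
      exact CfsgLib.Solv.commutator_le_of_le_normalizer (hW.trans hLO)
    · refine (FH.le_core (H := ⊤) le_top ?_ (hObp.to_le inf_le_right) inf_le_left ?_).trans
        (Cfsg.Agent.S2860.core_top hpc).le
      · rw [Subgroup.normalizer_eq_top]
      · exact CfsgLib.Solv.le_normalizer_inf_of_le Subgroup.le_normalizer (hW.trans hLO)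
  have hdich : ∀ W : Subgroup (G ⧸ A), Sb ≤ Subgroup.normalizer (W : Set (G ⧸ A)) → R ≤ W ∨ W ≤ Lb := by
    intro W hW
    set X := W.comap π ⊔ (S : Subgroup G) with hX
    rcases (generated S P _ X rfl le_sup_right).1 with h | h
    · left
      have hXm : X.map π ≤ W ⊔ Sb := by
        rw [hX, Subgroup.map_sup, Subgroup.map_comap_eq_self_of_surjective hπs]
      rw [hR, Subgroup.map_le_iff_le_comap]
      refine FH.residual_le fun x hx hxo => ?_
      exact Cfsg.Agent.S2859.pprime_mem hW (S.isPGroup'.map π) (hXm (Subgroup.mem_map_of_mem π (h hx)))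
        (Nat.Coprime.coprime_dvd_left (orderOf_map_dvd π x) hxo)
    · right
      rw [← Subgroup.map_comap_eq_self_of_surjective hπs W]
      exact Subgroup.map_mono (le_sup_left.trans (h.trans hL'.ge))
  have hnorm : ∀ W : Subgroup (G ⧸ A), W.Normal → Sb ≤ Subgroup.normalizer (W : Set (G ⧸ A)) := fun W hWn => by
    rw [Subgroup.normalizer_eq_top]; exact le_top
  have hR1 : R ≠ ⊥ := by
    intro h
    obtain ⟨hnn, -⟩ := hPmin (S.subtype hSP)
    refine hnn ?_
    have htop : ((S.subtype hSP : Sylow p P) : Subgroup P) = ⊤ := eq_top_of_sylow_coprime _ le_rfl fun x hx => by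
      have h1 : π x ∈ R := Subgroup.mem_map_of_mem π (FH.mem_residual x.2 (by rwa [Subgroup.orderOf_coe]))
      rw [h, Subgroup.mem_bot] at h1
      have h2 : (x : G) = 1 := eq_one_of_coprime_mem (CfsgLib.Solv.pCore_isPGroup G p) ((hπk _).1 h1)
        (by rwa [Subgroup.orderOf_coe])
      rw [show x = 1 from Subtype.ext h2]; exact one_mem _
    rw [htop]; infer_instance
  set N := Cfsg.generalizedFittingSubgroup (G ⧸ A) with hN
  haveI hNn : N.Normal := genFitting_normal
  have part1 : R ≤ N := by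
    refine (hdich N (hnorm N hNn)).resolve_right fun hNL => hO1 ?_
    have hc := hcen N hNL hNn
    refine Cfsg.Agent.S2851.eq_bot_of_normalized hpc hObp fun n hn' => ?_
    exact Subgroup.centralizer_le_normalizer _ (Subgroup.commutator_eq_bot_iff_le_centralizer.1 hc hn')
  refine ⟨Subgroup.map_le_iff_le_comap.1 part1, fun hsol => ?_⟩
  haveI hYn : Y.Normal := by rw [hY]; exact Subgroup.normalClosure_normal
  set Yb := Y.map π with hYb
  haveI hYbn : Yb.Normal := Subgroup.Normal.map hYn π hπs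
  have hYmin : ∀ W : Subgroup (G ⧸ A), W.Normal → R ≤ W → Yb ≤ W := by
    intro W hW hRW
    haveI := hW
    rw [hYb, Subgroup.map_le_iff_le_comap, hY]
    exact Subgroup.normalClosure_le_normal (Subgroup.map_le_iff_le_comap.1 hRW)
  have hRY : R ≤ Yb := Subgroup.map_mono (hY ▸ Subgroup.le_normalClosure)
  haveI : Group.IsSolvable ↥Yb := Group.isSolvable_of_surjective (π.subgroupMap_surjective Y)
  have hYb1 : Yb ≠ ⊥ := fun h => hR1 (le_bot_iff.1 (hRY.trans h.le))
  have hgenG : Yb ⊔ Lb = ⊤ := by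
    refine top_le_iff.1 ?_
    have h := (generated S P _ (⊤ : Subgroup G) rfl le_top).2
    have hP : P ≤ Y ⊔ L := by
      intro x hx
      have h1 : (⟨x, hx⟩ : P) ∈ Cfsg.pResidual p ↥P ⊔ ((S.subtype hSP : Sylow p P) : Subgroup P) := by
        rw [pResidual_sup_sylow]; exact Subgroup.mem_top _
      have h2 := Subgroup.mem_map_of_mem P.subtype h1
      rw [Subgroup.map_sup] at h2
      refine (sup_le ?_ ?_ : _ ≤ Y ⊔ L) h2
      · exact (hY ▸ Subgroup.le_normalClosure : R0 ≤ Y).trans le_sup_left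
      · rintro _ ⟨s, hs, rfl⟩
        exact Subgroup.mem_sup_right (hSL hs)
    rw [← Subgroup.map_top_of_surjective π hπs, hYb, hLb, ← Subgroup.map_sup]
    exact Subgroup.map_mono (h.trans (sup_le (hL'.ge.trans le_sup_right) hP))
  -- Y = [Y, O]
  set X := ⁅Yb, Ob⁆ with hXdef
  have hXY : X ≤ Yb := CfsgLib.Solv.commutator_le_of_le_normalizer (by rw [Subgroup.normalizer_eq_top]; exact le_top)
  haveI hXn : X.Normal := by
    rw [← Subgroup.normalizer_eq_top_iff, ← top_le_iff, ← hgenG]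
    refine sup_le (CfsgLib.Solv.left_le_normalizer_commutator Yb Ob) ?_
    rw [CfsgLib.Solv.le_normalizer_iff_forall_conj_mem]
    intro l hl x hx
    have hle : X ≤ X.comap (MulAut.conj l).toMonoidHom := Subgroup.commutator_le.2 fun a ha b hb => by
      rw [Subgroup.mem_comap, map_commutatorElement]
      exact Subgroup.commutator_mem_commutator (hYbn.conj_mem a ha l) ((Subgroup.mem_normalizer_iff.1 (hLO hl) b).1 hb)
    exact hle hx
  have hYX : Yb ≤ X := by
    refine hYmin X hXn ((hdich X (hnorm X hXn)).resolve_right fun hXL => hO1 ?_)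
    have hc := hcen X hXL hXn
    have hn3 : (⊤ : Subgroup (G ⧸ A)) ≤ Subgroup.normalizer ((X ⊔ Ob : Subgroup (G ⧸ A)) : Set (G ⧸ A)) := by
      rw [← hgenG]
      refine sup_le ?_ ?_ <;> rw [CfsgLib.Solv.le_normalizer_iff_forall_conj_mem] <;> intro l hl x hx
      · have hle : X ⊔ Ob ≤ (X ⊔ Ob).comap (MulAut.conj l).toMonoidHom := sup_le
          (fun a ha => Subgroup.mem_sup_left (hXn.conj_mem a ha l))
          (fun a ha => by
            have h1 := mul_mem (Subgroup.mem_sup_left (T := Ob) (Subgroup.commutator_mem_commutator (H₁ := Yb) hl ha))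
              (Subgroup.mem_sup_right (S := X) ha)
            show l * a * l⁻¹ ∈ X ⊔ Ob
            simpa [commutatorElement_def] using h1)
        exact hle hx
      · have hle : X ⊔ Ob ≤ (X ⊔ Ob).comap (MulAut.conj l).toMonoidHom := sup_le
          (fun a ha => Subgroup.mem_sup_left (hXn.conj_mem a ha l))
          (fun a ha => Subgroup.mem_sup_right ((Subgroup.mem_normalizer_iff.1 (hLO hl) a).1 ha))
        exact hle hx
    refine le_bot_iff.1 ((FH.le_core (H := ⊤) le_top hn3 hObp le_sup_right (sup_le ?_ Subgroup.le_normalizer)).trans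
      (Cfsg.Agent.S2860.core_top hpc).le)
    exact (Subgroup.commutator_eq_bot_iff_le_centralizer.1 hc).trans (Subgroup.centralizer_le_normalizer _)
  -- the derived group is central
  set D := ⁅Yb, Yb⁆ with hDdef
  haveI hDn : D.Normal := Subgroup.commutator_normal Yb Yb
  have hDY : D ≤ Yb := Subgroup.commutator_le_self Yb
  have hDne : ¬ Yb ≤ D := by
    intro h
    have h0 : commutator ↥Yb = ⊤ := by
      rw [commutator_def]
      apply Subgroup.map_injective Yb.subtype_injective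
      rw [Subgroup.map_commutator, ← MonoidHom.range_eq_map, Subgroup.range_subtype]
      exact le_antisymm hDY h
    haveI : Group.IsPerfect ↥Yb := ⟨h0⟩
    haveI : Nontrivial ↥Yb := (Subgroup.nontrivial_iff_ne_bot _).2 hYb1
    exact Group.IsPerfect.not_isSolvable ↥Yb inferInstance
  have hDO : ⁅D, Ob⁆ = ⊥ :=
    hcen D ((hdich D (hnorm D hDn)).resolve_left fun h => hDne (hYmin D hDn h)) hDn
  have hYD : ⁅Yb, D⁆ = ⊥ := by
    have h1 : ⁅⁅Ob, Yb⁆, D⁆ = ⊥ := by
      refine Subgroup.commutator_commutator_eq_bot_of_rotate ?_ ?_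
      · refine le_bot_iff.1 ((Subgroup.commutator_mono (?_ : ⁅Yb, D⁆ ≤ D) le_rfl).trans hDO.le)
        exact Subgroup.commutator_le_right Yb D
      · rw [hDO, Subgroup.commutator_bot_left]
    rw [Subgroup.commutator_comm Ob Yb, ← hXdef] at h1
    exact le_bot_iff.1 ((Subgroup.commutator_mono hYX le_rfl).trans h1.le)
  have hlcs : Subgroup.lowerCentralSeries (⊤ : Subgroup ↥Yb) 2 = ⊥ := by
    apply Subgroup.map_injective Yb.subtype_injective
    rw [Subgroup.map_bot]
    show (⁅⁅(⊤ : Subgroup ↥Yb), (⊤ : Subgroup ↥Yb)⁆, (⊤ : Subgroup ↥Yb)⁆).map Yb.subtype = ⊥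
    rw [Subgroup.map_commutator, Subgroup.map_commutator, ← MonoidHom.range_eq_map, Subgroup.range_subtype,
      Subgroup.commutator_comm, hYD]
  haveI hnil : Group.IsNilpotent ↥Yb :=
    Group.isNilpotent_top.1 ((Subgroup.isNilpotent_iff_lowerCentralSeries (S := (⊤ : Subgroup ↥Yb))).2 ⟨2, hlcs⟩)
  -- the prime t
  have hsyl : ∀ (r : ℕ), r.Prime → ∀ T : Sylow r ↥Yb, ((T : Subgroup ↥Yb).map Yb.subtype).Normal := by
    intro r hr T
    haveI : Fact r.Prime := ⟨hr⟩
    haveI : (T : Subgroup ↥Yb).Normal := Sylow.normal_of_normalizerCondition Group.normalizerCondition_of_isNilpotent T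
    haveI := Sylow.characteristic_of_normal T inferInstance
    exact inferInstance
  obtain ⟨t, ht, T, hRT⟩ : ∃ (t : ℕ) (_ : t.Prime) (T : Sylow t ↥Yb), R ≤ (T : Subgroup ↥Yb).map Yb.subtype := by
    by_contra hno
    push Not at hno
    have hall : Yb ≤ Subgroup.centralizer (Ob : Set (G ⧸ A)) := by
      have hidx : (Subgroup.centralizer (Ob : Set (G ⧸ A))).subgroupOf Yb = ⊤ := by
        refine Subgroup.index_eq_one.1 (Nat.eq_one_iff_not_exists_prime_dvd.2 fun r hr hd => ?_)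
        haveI : Fact r.Prime := ⟨hr⟩
        obtain ⟨T⟩ : Nonempty (Sylow r ↥Yb) := inferInstance
        have hTn := hsyl r hr T
        have hTc := Subgroup.commutator_eq_bot_iff_le_centralizer.1
          (hcen _ ((hdich _ (hnorm _ hTn)).resolve_left (hno r hr T)) hTn)
        refine T.not_dvd_index (hd.trans (Subgroup.index_dvd_of_le fun x hx => ?_))
        exact hTc (Subgroup.mem_map_of_mem Yb.subtype hx)
      exact Subgroup.subgroupOf_eq_top.1 hidx
    exact hYb1 (le_bot_iff.1 (hYX.trans (Subgroup.commutator_eq_bot_iff_le_centralizer.2 hall).le))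
  haveI : Fact t.Prime := ⟨ht⟩
  have hTY : Yb ≤ (T : Subgroup ↥Yb).map Yb.subtype := hYmin _ (hsyl t ht T) hRT
  have hYt : IsPGroup t Yb := (T.2.map Yb.subtype).to_le hTY
  have htp : t ≠ p := by
    intro e
    subst e
    exact hYb1 (Cfsg.Agent.S2860.normal_pgroup_bot hpc hYt hYbn)
  -- the Frattini quotient
  set Φ := (frattini ↥Yb).map Yb.subtype with hΦdef
  haveI : (frattini ↥Yb).Characteristic := frattini_characteristic
  haveI hΦn : Φ.Normal := inferInstance
  have hΦY : Φ ≤ Yb := Subgroup.map_subtype_le _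
  have hΦne : ¬ Yb ≤ Φ := by
    intro h
    have hfr : frattini ↥Yb = ⊤ := top_le_iff.1 fun x _ => (Subgroup.mem_map_iff_mem Yb.subtype_injective).1 (h x.2)
    haveI : Nontrivial ↥Yb := (Subgroup.nontrivial_iff_ne_bot _).2 hYb1
    obtain ⟨M, hM, -⟩ := (eq_top_or_exists_le_coatom (⊥ : Subgroup ↥Yb)).resolve_left bot_ne_top
    exact hM.1 (top_le_iff.1 (hfr.ge.trans (frattini_le_coatom hM)))
  have hDΦ : D ≤ Φ := by
    have h := CfsgLib.Solv.commutator_le_frattini hYt
    have e : (commutator ↥Yb).map Yb.subtype = D := by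
      rw [commutator_def, Subgroup.map_commutator, ← MonoidHom.range_eq_map, Subgroup.range_subtype]
    rw [← e]; exact Subgroup.map_mono h
  set U := R ⊔ Φ with hU
  have hUY : U ≤ Yb := sup_le hRY hΦY
  have hYU : Yb ≤ U := by
    set q := QuotientGroup.mk' Φ with hq
    set V := Yb.map q with hV
    have hVc : ∀ a ∈ V, ∀ b ∈ V, a * b = b * a := by
      rintro _ ⟨a, ha, rfl⟩ _ ⟨b, hb, rfl⟩
      rw [← commutatorElement_eq_one_iff_mul_comm, ← map_commutatorElement]
      exact (QuotientGroup.eq_one_iff _).2 (hDΦ (Subgroup.commutator_mem_commutator ha hb))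
    have hVe : ∀ a ∈ V, a ^ t = 1 := by
      rintro _ ⟨a, ha, rfl⟩
      rw [← map_pow]
      refine (QuotientGroup.eq_one_iff _).2 ⟨(⟨a, ha⟩ : Yb) ^ t, ?_, rfl⟩
      exact CfsgLib.Solv.pow_mem_frattini hYt _
    obtain ⟨W0, hW0V, hUW0, hUW0s⟩ := exists_complement ht V (U.map q) hVc hVe (Subgroup.map_mono hUY)
    have hSU : Sb ≤ Subgroup.normalizer (U : Set (G ⧸ A)) := by
      rw [CfsgLib.Solv.le_normalizer_iff_forall_conj_mem]
      intro l hl x hx
      have hRn : Sb ≤ Subgroup.normalizer (R : Set (G ⧸ A)) :=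
        (Subgroup.map_mono (hSP.trans (FH.residual_normal P))).trans (Subgroup.le_normalizer_map π)
      have hle : U ≤ U.comap (MulAut.conj l).toMonoidHom := sup_le
        (fun a ha => Subgroup.mem_sup_left ((Subgroup.mem_normalizer_iff.1 (hRn hl) a).1 ha))
        (fun a ha => Subgroup.mem_sup_right (hΦn.conj_mem a ha l))
      exact hle hx
    have hVn : ∀ K : Subgroup ((G ⧸ A) ⧸ Φ), K ≤ Subgroup.normalizer (V : Set ((G ⧸ A) ⧸ Φ)) := fun K => by
      haveI : V.Normal := Subgroup.Normal.map hYbn q (QuotientGroup.mk'_surjective Φ)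
      rw [Subgroup.normalizer_eq_top]; exact le_top
    have hcop : ∀ K : Subgroup (G ⧸ A), IsPGroup p K → (Nat.card (K.map q)).Coprime (Nat.card V) := fun K hK => by
      obtain ⟨i, hi⟩ := (hK.map q).exists_card_eq
      obtain ⟨j, hj⟩ := (hYt.map q).exists_card_eq
      rw [hi, show Nat.card V = t ^ j from hj]
      exact ((Nat.coprime_primes Fact.out ht).2 (Ne.symm htp)).pow i j
    have hVab : IsMulCommutative V := ⟨⟨fun a b => Subtype.ext (hVc a a.2 b b.2)⟩⟩
    obtain ⟨W, hWV, hWn, hUW, hUWs⟩ := CfsgLib.Solv.exists_invariant_complement V (Sb.map q) (U.map q) hVab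
      (hVn _) (hcop Sb (S.isPGroup'.map π)) (Subgroup.map_mono hUY)
      ((Subgroup.map_mono hSU).trans (Subgroup.le_normalizer_map q)) W0 hW0V hUW0 hUW0s
    set C1 := V ⊓ Subgroup.centralizer ((Ob.map q : Subgroup ((G ⧸ A) ⧸ Φ)) : Set ((G ⧸ A) ⧸ Φ)) with hC1
    have hVO : V ≤ ⁅V, Ob.map q⁆ := by
      rw [hV, ← Subgroup.map_commutator, ← hXdef]
      exact Subgroup.map_mono hYX
    have hC1b : C1 = ⊥ := by
      obtain ⟨C2, hC2V, hC2, hC2s⟩ := exists_complement ht V C1 hVc hVe inf_le_left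
      have hOC1 : Ob.map q ≤ Subgroup.normalizer (C1 : Set ((G ⧸ A) ⧸ Φ)) :=
        CfsgLib.Solv.le_normalizer_inf_of_le (hVn _)
          (CfsgLib.Inv.FM.centralizer_normal_in Subgroup.le_normalizer)
      obtain ⟨W1, hW1V, hW1n, hW1, hW1s⟩ := CfsgLib.Solv.exists_invariant_complement V (Ob.map q) C1 hVab
        (hVn _) (hcop Ob hObp) inf_le_left hOC1 C2 hC2V hC2 hC2s
      have hle : V ≤ W1 := hVO.trans (Subgroup.commutator_le.2 fun v hv o ho => by
        obtain ⟨c, hc, w, hw, e⟩ : v ∈ (C1 : Set ((G ⧸ A) ⧸ Φ)) * (W1 : Set ((G ⧸ A) ⧸ Φ)) := by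
          rw [← Subgroup.coe_mul_of_right_le_normalizer_left C1 W1 (fun w hw => Subgroup.mem_normalizer_fintype fun c hc => by
            show w * c * w⁻¹ ∈ C1
            rw [hVc w (hW1V hw) c (Subgroup.mem_inf.1 hc).1, mul_inv_cancel_right]; exact hc), hW1s]
          exact hv
        have hco : Commute c o := (Subgroup.mem_centralizer_iff.1 (Subgroup.mem_inf.1 hc).2 o ho).symm
        have hwo : ⁅w, o⁆ ∈ W1 := by
          have := (Subgroup.mem_normalizer_iff.1 (hW1n ho) w⁻¹).1 (inv_mem hw)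
          rw [commutatorElement_def, mul_assoc w, mul_assoc w]
          exact mul_mem hw this
        have hcw : Commute c ⁅w, o⁆ := hVc c (Subgroup.mem_inf.1 hc).1 _ (hW1V hwo)
        rw [← e, show ⁅c * w, o⁆ = c * ⁅w, o⁆ * c⁻¹ * ⁅c, o⁆ by simp only [commutatorElement_def]; group,
          hco.commutator_eq, hcw.eq, mul_inv_cancel_right, mul_one]
        exact hwo)
      rw [← le_bot_iff, ← hW1]
      exact le_inf le_rfl (inf_le_left.trans hle)
    set W' := W.comap q ⊓ Yb with hW'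
    have hSW' : Sb ≤ Subgroup.normalizer (W' : Set (G ⧸ A)) := by
      refine CfsgLib.Solv.le_normalizer_inf_of_le ?_ (hnorm Yb hYbn)
      rw [← Subgroup.comap_normalizer_eq_of_surjective W (QuotientGroup.mk'_surjective Φ), ← Subgroup.map_le_iff_le_comap]
      exact hWn
    have hWL : W' ≤ Lb := by
      refine (hdich W' hSW').resolve_left fun hRW => hΦne (hYmin Φ hΦn fun r hr => ?_)
      refine (QuotientGroup.eq_one_iff r).1 ?_
      have : q r ∈ U.map q ⊓ W := Subgroup.mem_inf.2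
        ⟨Subgroup.mem_map_of_mem q (Subgroup.mem_sup_left hr), (Subgroup.mem_inf.1 (hRW hr)).1⟩
      rw [hUW, Subgroup.mem_bot] at this
      exact this
    have hWb : W = ⊥ := by
      rw [← le_bot_iff, ← hC1b]
      intro w hw
      obtain ⟨y, hy, rfl⟩ := hWV hw
      have hyL : y ∈ Lb := hWL (Subgroup.mem_inf.2 ⟨hw, hy⟩)
      refine Subgroup.mem_inf.2 ⟨Subgroup.mem_map_of_mem q hy, Subgroup.mem_centralizer_iff.2 ?_⟩
      rintro _ ⟨o, ho, rfl⟩
      rw [← map_mul, ← map_mul]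
      congr 1
      refine commutatorElement_eq_one_iff_mul_comm.1 ?_
      have h1 : ⁅o, y⁆ ∈ Ob ⊓ Yb := Subgroup.mem_inf.2 ⟨comm_mem_left ho (hLO hyL),
        comm_mem_right hy (by rw [Subgroup.normalizer_eq_top]; exact Subgroup.mem_top _)⟩
      have hb : Ob ⊓ Yb = ⊥ := CfsgLib.Solv.inf_eq_bot_of_coprime_card (by
        obtain ⟨i, hi⟩ := hObp.exists_card_eq
        obtain ⟨j, hj⟩ := hYt.exists_card_eq
        rw [hi, hj]
        exact ((Nat.coprime_primes Fact.out ht).2 (Ne.symm htp)).pow i j)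
      rw [hb, Subgroup.mem_bot] at h1
      exact h1
    rw [hWb, sup_bot_eq] at hUWs
    intro y hy
    obtain ⟨u, hu, hue⟩ := hUWs.ge (Subgroup.mem_map_of_mem q hy)
    have h1 : u⁻¹ * y ∈ Φ := (QuotientGroup.eq_one_iff _).1 (by
      show q (u⁻¹ * y) = 1
      rw [map_mul, map_inv, hue, inv_mul_cancel])
    have := mul_mem hu (Subgroup.mem_sup_right (S := R) h1)
    rwa [mul_inv_cancel_left] at this
  have hRYb : Yb ≤ R := by
    have htop : R.subgroupOf Yb ⊔ frattini ↥Yb = ⊤ := by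
      apply Subgroup.map_injective Yb.subtype_injective
      rw [Subgroup.map_sup, Subgroup.map_subgroupOf_eq_of_le hRY, ← MonoidHom.range_eq_map, Subgroup.range_subtype]
      exact le_antisymm (sup_le hRY hΦY) hYU
    exact Subgroup.subgroupOf_eq_top.1 (frattini_nongenerating htop)
  have hAPle : A ≤ P := hAS.trans hSP
  have hYR0 : Y = R0 := by
    refine le_antisymm ?_ (hY ▸ Subgroup.le_normalClosure)
    have hYA : ∀ y ∈ Y, y ∈ R0 ⊔ A := fun y hy => by
      obtain ⟨r, hr, e⟩ := hRYb (Subgroup.mem_map_of_mem π hy)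
      have h1 : r⁻¹ * y ∈ A := (hπk _).1 (by rw [map_mul, map_inv, e, inv_mul_cancel])
      simpa using mul_mem (Subgroup.mem_sup_left (T := A) hr) (Subgroup.mem_sup_right (S := R0) h1)
    have hAR : A ≤ Subgroup.normalizer (R0 : Set G) := hAPle.trans (FH.residual_normal P)
    rw [hY, Subgroup.normalClosure, Subgroup.closure_le]
    intro z hz
    obtain ⟨a, ha, hconj⟩ := Group.mem_conjugatesOfSet_iff.1 hz
    obtain ⟨g, rfl⟩ := isConj_iff.1 hconj
    have hle : R0 ≤ R0.comap (MulAut.conj g).toMonoidHom := FH.residual_le fun x hx hxo => by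
      refine Cfsg.Agent.S2859.pprime_mem hAR (CfsgLib.Solv.pCore_isPGroup G p) ?_ ?_
      · refine hYA _ (hYn.conj_mem x ?_ g)
        exact (hY ▸ Subgroup.le_normalClosure : R0 ≤ Y) (FH.mem_residual hx hxo)
      · show (orderOf (MulAut.conj g x)).Coprime p
        rwa [MulEquiv.orderOf_eq]
    exact hle ha
  refine ⟨hYR0.symm, CfsgLib.Solv.pCore_normal ↥Y p, t, ht, htp, ?_⟩
  haveI := CfsgLib.Solv.pCore_normal ↥Y p
  set φ := π.subgroupMap Y with hφ
  have hker : φ.ker = Cfsg.pCore p ↥Y := by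
    apply le_antisymm
    · refine CfsgLib.Solv.le_pCore ((CfsgLib.Solv.pCore_isPGroup G p).comap_subtype (K := Y) |>.to_le ?_)
      intro x hx
      exact (hπk _).1 (congrArg Subtype.val hx)
    · intro x hx
      refine Subtype.ext ((hπk _).2 ?_)
      have h1 : Cfsg.pCoreOf p Y ≤ A := by
        refine (pCoreOf_le (L := ⊤) le_top (by rw [Subgroup.normalizer_eq_top])).trans fun z hz => ?_
        obtain ⟨w, hw, rfl⟩ := hz
        have e := CfsgLib.Solv.map_pCore_equiv (p := p) (Subgroup.topEquiv (G := G))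
        have h2 : (w : G) ∈ (Cfsg.pCore p ↥(⊤ : Subgroup G)).map (Subgroup.topEquiv (G := G)).toMonoidHom := ⟨w, hw, rfl⟩
        rwa [e] at h2
      exact h1 (Subgroup.mem_map_of_mem Y.subtype hx)
  let e : (↥Y ⧸ Cfsg.pCore p ↥Y) ≃* ↥Yb :=
    (QuotientGroup.quotientMulEquivOfEq hker.symm).trans (QuotientGroup.quotientKerEquivOfSurjective φ (π.subgroupMap_surjective Y))
  haveI hnq : Group.IsNilpotent (↥Y ⧸ Cfsg.pCore p ↥Y) := nilpotent_of_surjective e.symm.toMonoidHom e.symm.surjective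
  refine ⟨hYt.of_equiv e.symm, hnq, ?_⟩
  rw [← lowerCentralSeries_eq_bot_iff_nilpotencyClass_le]
  apply Subgroup.map_injective (f := e.toMonoidHom) e.injective
  show (⁅⁅(⊤ : Subgroup (↥Y ⧸ Cfsg.pCore p ↥Y)), (⊤ : Subgroup (↥Y ⧸ Cfsg.pCore p ↥Y))⁆, (⊤ : Subgroup (↥Y ⧸ Cfsg.pCore p ↥Y))⁆).map e.toMonoidHom = Subgroup.map e.toMonoidHom ⊥
  rw [Subgroup.map_bot, Subgroup.map_commutator, Subgroup.map_commutator, Subgroup.map_top_of_surjective _ e.surjective]
  exact hlcs

end Cfsg.Agent.S3045
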