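import Cfsg.Statements.S3044
import Cfsg.Agent.S3045
import Cfsg.Agent.Perm.Kazarin
import Cfsg.Agent.Solv.CoprimeSylow

set_option autoImplicit false
set_option maxHeartbeats 2000000
set_option linter.style.haveILetI false
open Cfsg
open CfsgLib.Inv
open scoped commutatorElement Pointwise

namespace Cfsg.Agent.S3044

theorem conj_comp {G : Type*} [Group G] (K : Subgroup G) (a b : G) :
    (K.map (MulAut.conj a).toMonoidHom).map (MulAut.conj b).toMonoidHom = K.map (MulAut.conj (b * a)).toMonoidHom := by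
  rw [Subgroup.map_map]
  congr 1
  ext y
  simp [mul_assoc]

/-- A subgroup of finite order whose class equation gives a prime power class. -/
theorem class_index {G : Type*} [Group G] [Finite G] (Y : Subgroup G) [Y.Normal] (o : G) :
    (Subgroup.centralizer ({⟨o, Subgroup.mem_sup_right (Subgroup.mem_zpowers o)⟩} : Set ↥(Y ⊔ Subgroup.zpowers o))).index =
      ((Subgroup.centralizer ({o} : Set G)).subgroupOf Y).index := by
  set H := Y ⊔ Subgroup.zpowers o with hH
  set D := Subgroup.centralizer ({o} : Set G) with hD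
  have e : Subgroup.centralizer ({⟨o, Subgroup.mem_sup_right (Subgroup.mem_zpowers o)⟩} : Set ↥H) = D.subgroupOf H := by
    ext x
    rw [Subgroup.mem_subgroupOf, hD, Subgroup.mem_centralizer_iff, Subgroup.mem_centralizer_iff]
    simp only [Set.mem_singleton_iff, forall_eq]
    simp only [Subtype.ext_iff, Subgroup.coe_mul]
  rw [e]
  have hoD : Subgroup.zpowers o ≤ D := Subgroup.zpowers_le.2 (Subgroup.mem_centralizer_iff.2 fun y hy => by
    rw [Set.mem_singleton_iff.1 hy])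
  have htop : (D ⊓ H) ⊔ Y = H := le_antisymm (sup_le inf_le_right le_sup_left)
    (sup_le le_sup_right ((le_inf hoD le_sup_right).trans le_sup_left))
  have h1 := CfsgLib.Solv.card_sup_mul_card_inf (D ⊓ H) Y
  rw [htop, show D ⊓ H ⊓ Y = D ⊓ Y by rw [inf_assoc, inf_eq_right.2 (le_sup_left : Y ≤ H)]] at h1
  have h2 := Subgroup.card_mul_index (D.subgroupOf H)
  have h3 := Subgroup.card_mul_index (D.subgroupOf Y)
  rw [Nat.card_congr ((D.subgroupOf H).equivMapOfInjective H.subtype H.subtype_injective).toEquiv, Subgroup.subgroupOf_map_subtype] at h2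
  rw [Nat.card_congr ((D.subgroupOf Y).equivMapOfInjective Y.subtype Y.subtype_injective).toEquiv, Subgroup.subgroupOf_map_subtype] at h3
  have hp1 : 0 < Nat.card ↥(D ⊓ H) := Nat.card_pos
  have hp2 : 0 < Nat.card ↥(D ⊓ Y) := Nat.card_pos
  refine Nat.eq_of_mul_eq_mul_left (Nat.mul_pos hp1 hp2) ?_
  calc Nat.card ↥(D ⊓ H) * Nat.card ↥(D ⊓ Y) * (D.subgroupOf H).index
      = (Nat.card ↥(D ⊓ H) * (D.subgroupOf H).index) * Nat.card ↥(D ⊓ Y) := by ring
    _ = Nat.card ↥H * Nat.card ↥(D ⊓ Y) := by rw [h2]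
    _ = Nat.card ↥(D ⊓ H) * Nat.card ↥Y := h1
    _ = Nat.card ↥(D ⊓ H) * (Nat.card ↥(D ⊓ Y) * (D.subgroupOf Y).index) := by rw [h3]
    _ = _ := by ring

/-- Isolated p-minimal subgroups: the normal closure. -/
theorem result {G : Type*} [Group G] [Finite G] {p : ℕ} [Fact p.Prime] (S : Sylow p G) (P : Subgroup G) (hSP : (S : Subgroup G) ≤ P) (hPmin : Cfsg.IsPMinimal p ↥P)
    (L Y : Subgroup G)
    (hL : L = Subgroup.normalizer ((S : Subgroup G) : Set G) ⊔ ⨆ P' : {P' : Subgroup G // (S : Subgroup G) ≤ P' ∧ Cfsg.IsPMinimal p ↥P' ∧ P' ≠ P}, (P' : Subgroup G))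
    (hiso : ¬ (Cfsg.pCore p ↥L).map L.subtype ≤ (Cfsg.pCore p ↥P).map P.subtype)
    (hY : Y = Subgroup.normalClosure (((Cfsg.pResidual p ↥P).map P.subtype : Subgroup G) : Set G)) :
    Y ⊔ L = ⊤ ∧
    ¬ (Cfsg.pCore p ↥((Subgroup.normalizer ((S : Subgroup G) : Set G) ⊓ (Y ⊔ (S : Subgroup G))) ⊔
          ⨆ P' : {P' : Subgroup G // (S : Subgroup G) ≤ P' ∧ P' ≤ Y ⊔ (S : Subgroup G) ∧ Cfsg.IsPMinimal p ↥P' ∧ P' ≠ P}, (P' : Subgroup G))).map
        (Subgroup.subtype _) ≤ (Cfsg.pCore p ↥P).map P.subtype ∧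
    ((Cfsg.pResidual p ↥P).map P.subtype = Y ∨
     ∃ _ : (Cfsg.pCore p ↥Y).Normal,
       p ∣ Nat.card (↥Y ⧸ Cfsg.pCore p ↥Y) ∧ Cfsg.layer (↥Y ⧸ Cfsg.pCore p ↥Y) = ⊤ ∧
       ∀ K₁ K₂ : Subgroup (↥Y ⧸ Cfsg.pCore p ↥Y), Cfsg.IsComponent K₁ → Cfsg.IsComponent K₂ →
         ∃ s ∈ (S : Subgroup G), ((K₂.comap (QuotientGroup.mk' (Cfsg.pCore p ↥Y))).map Y.subtype) = (((K₁.comap (QuotientGroup.mk' (Cfsg.pCore p ↥Y))).map Y.subtype)).map (MulAut.conj s).toMonoidHom) := by
  haveI hn : (Cfsg.pCore p G).Normal := CfsgLib.Solv.pCore_normal G p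
  have hL' : L = Cfsg.Agent.S3045.others S P := hL
  haveI hYn : Y.Normal := by rw [hY]; exact Subgroup.normalClosure_normal
  set R0 := (Cfsg.pResidual p ↥P).map P.subtype with hR0
  have hR0Y : R0 ≤ Y := hY ▸ Subgroup.le_normalClosure
  have hSL : (S : Subgroup G) ≤ L := by
    rw [hL]; exact Subgroup.le_normalizer.trans le_sup_left
  set O := Cfsg.pCoreOf p L with hO
  have hOS : O ≤ (S : Subgroup G) := CfsgLib.Inv.FM.pCoreOf_le_sylow S hSL
  have hgen : Y ⊔ L = ⊤ := by
    refine top_le_iff.1 ?_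
    have h := (Cfsg.Agent.S3045.generated S P _ (⊤ : Subgroup G) rfl le_top).2
    have hP : P ≤ Y ⊔ L := by
      intro x hx
      have h1 : (⟨x, hx⟩ : P) ∈ Cfsg.pResidual p ↥P ⊔ ((S.subtype hSP : Sylow p P) : Subgroup P) := by
        rw [pResidual_sup_sylow]; exact Subgroup.mem_top _
      have h2 := Subgroup.mem_map_of_mem P.subtype h1
      rw [Subgroup.map_sup] at h2
      refine (sup_le ?_ ?_ : _ ≤ Y ⊔ L) h2
      · exact hR0Y.trans le_sup_left
      · rintro _ ⟨s, hs, rfl⟩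
        exact Subgroup.mem_sup_right (hSL hs)
    exact h.trans (sup_le (hL'.ge.trans le_sup_right) hP)
  refine ⟨hgen, ?_, ?_⟩
  · intro h
    refine hiso (le_trans (le_pCoreOf ?_ (pCoreOf_pgroup L) ?_) h)
    · exact hOS.trans ((le_inf Subgroup.le_normalizer le_sup_right).trans le_sup_left)
    · refine le_trans (sup_le (inf_le_left.trans (le_sup_left.trans hL.ge)) (iSup_le fun P' => ?_)) (le_normalizer_pCoreOf L)
      exact le_trans (le_iSup (fun P' : {P' : Subgroup G // (S : Subgroup G) ≤ P' ∧ Cfsg.IsPMinimal p ↥P' ∧ P' ≠ P} => (P' : Subgroup G))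
        ⟨P'.1, P'.2.1, P'.2.2.2.1, P'.2.2.2.2⟩) (le_sup_right.trans hL.ge)
  by_cases hsol : Group.IsSolvable ↥Y
  · exact Or.inl ((Cfsg.Agent.S3045.result S P hSP hPmin L Y hL hiso hY).2 hsol).1
  right
  set A := Cfsg.pCore p G with hA
  set π := QuotientGroup.mk' A with hπ
  have hπs : Function.Surjective π := QuotientGroup.mk'_surjective _
  have hπk : ∀ g : G, π g = 1 ↔ g ∈ A := fun g => QuotientGroup.eq_one_iff g
  have hAS : A ≤ (S : Subgroup G) := CfsgLib.Solv.pCore_le_sylow S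
  have hAP : A ≤ Cfsg.pCoreOf p P := le_pCoreOf (hAS.trans hSP) (CfsgLib.Solv.pCore_isPGroup G p)
    (by rw [Subgroup.normalizer_eq_top]; exact le_top)
  have hpc : Cfsg.pCore p (G ⧸ A) = ⊥ := by
    haveI := CfsgLib.Solv.pCore_normal (G ⧸ A) p
    have h1 : IsPGroup p ((Cfsg.pCore p (G ⧸ A)).comap π) :=
      (CfsgLib.Solv.pCore_isPGroup _ p).comap_of_ker_isPGroup π
        (by rw [hπ, QuotientGroup.ker_mk']; exact CfsgLib.Solv.pCore_isPGroup G p)
    refine le_bot_iff.1 fun x hx => ?_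
    obtain ⟨y, rfl⟩ := hπs x
    exact Subgroup.mem_bot.2 ((hπk y).2 (CfsgLib.Solv.le_pCore h1 hx))
  set R := R0.map π with hR
  set Sb := (S : Subgroup G).map π with hSb
  set Lb := L.map π with hLb
  set Ob := O.map π with hOb
  have hObp : IsPGroup p Ob := (pCoreOf_pgroup L).map π
  have hSbp : IsPGroup p Sb := S.isPGroup'.map π
  have hSbL : Sb ≤ Lb := Subgroup.map_mono hSL
  have hLO : Lb ≤ Subgroup.normalizer (Ob : Set (G ⧸ A)) :=
    (Subgroup.map_mono (le_normalizer_pCoreOf L)).trans (Subgroup.le_normalizer_map π)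
  have hO1 : Ob ≠ ⊥ := by
    intro h
    refine hiso fun x hx => hAP ((hπk x).1 ?_)
    have h1 : π x ∈ Ob := Subgroup.mem_map_of_mem π hx
    rwa [h, Subgroup.mem_bot] at h1
  have hnorm : ∀ (W : Subgroup (G ⧸ A)), W.Normal → ∀ K : Subgroup (G ⧸ A), K ≤ Subgroup.normalizer (W : Set (G ⧸ A)) :=
    fun W hW K => by rw [Subgroup.normalizer_eq_top]; exact le_top
  have hcen : ∀ W : Subgroup (G ⧸ A), W ≤ Lb → W.Normal → ⁅W, Ob⁆ = ⊥ := by
    intro W hW hWn
    refine le_bot_iff.1 (le_trans (b := W ⊓ Ob) (le_inf (CfsgLib.Solv.commutator_le_of_le_normalizer (hnorm W hWn Ob)) ?_) ?_ : ⁅W, Ob⁆ ≤ ⊥)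
    · rw [Subgroup.commutator_comm]
      exact CfsgLib.Solv.commutator_le_of_le_normalizer (hW.trans hLO)
    · refine (FH.le_core (H := ⊤) le_top ?_ (hObp.to_le inf_le_right) inf_le_left ?_).trans
        (Cfsg.Agent.S2860.core_top hpc).le
      · exact hnorm W hWn ⊤
      · exact CfsgLib.Solv.le_normalizer_inf_of_le Subgroup.le_normalizer (hW.trans hLO)
  have hdich : ∀ W : Subgroup (G ⧸ A), Sb ≤ Subgroup.normalizer (W : Set (G ⧸ A)) → R ≤ W ∨ W ≤ Lb := by
    intro W hW
    set X := W.comap π ⊔ (S : Subgroup G) with hX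
    rcases (Cfsg.Agent.S3045.generated S P _ X rfl le_sup_right).1 with h | h
    · left
      have hXm : X.map π ≤ W ⊔ Sb := by
        rw [hX, Subgroup.map_sup, Subgroup.map_comap_eq_self_of_surjective hπs]
      rw [hR, Subgroup.map_le_iff_le_comap]
      refine FH.residual_le fun x hx hxo => ?_
      exact Cfsg.Agent.S2859.pprime_mem hW hSbp (hXm (Subgroup.mem_map_of_mem π (h hx)))
        (Nat.Coprime.coprime_dvd_left (orderOf_map_dvd π x) hxo)
    · right
      rw [← Subgroup.map_comap_eq_self_of_surjective hπs W]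
      exact Subgroup.map_mono (le_sup_left.trans (h.trans hL'.ge))
  set Yb := Y.map π with hYb
  haveI hYbn : Yb.Normal := Subgroup.Normal.map hYn π hπs
  have hYmin : ∀ W : Subgroup (G ⧸ A), W.Normal → R ≤ W → Yb ≤ W := by
    intro W hW hRW
    haveI := hW
    rw [hYb, Subgroup.map_le_iff_le_comap, hY]
    exact Subgroup.normalClosure_le_normal (Subgroup.map_le_iff_le_comap.1 hRW)
  have hRY : R ≤ Yb := Subgroup.map_mono hR0Y
  have hgenb : Yb ⊔ Lb = ⊤ := by
    rw [hYb, hLb, ← Subgroup.map_sup, hgen, Subgroup.map_top_of_surjective π hπs]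
  -- the quotient of Y
  set φ := π.subgroupMap Y with hφ
  have hker : φ.ker = Cfsg.pCore p ↥Y := by
    haveI := CfsgLib.Solv.pCore_normal ↥Y p
    apply le_antisymm
    · refine CfsgLib.Solv.le_pCore ((CfsgLib.Solv.pCore_isPGroup G p).comap_subtype (K := Y) |>.to_le ?_)
      intro x hx
      exact (hπk _).1 (congrArg Subtype.val hx)
    · intro x hx
      refine Subtype.ext ((hπk _).2 ?_)
      have h1 : Cfsg.pCoreOf p Y ≤ A := by
        refine (pCoreOf_le (L := ⊤) le_top (by rw [Subgroup.normalizer_eq_top])).trans fun z hz => ?_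
        obtain ⟨w, hw, rfl⟩ := hz
        have e := CfsgLib.Solv.map_pCore_equiv (p := p) (Subgroup.topEquiv (G := G))
        have h2 : (w : G) ∈ (Cfsg.pCore p ↥(⊤ : Subgroup G)).map (Subgroup.topEquiv (G := G)).toMonoidHom := ⟨w, hw, rfl⟩
        rwa [e] at h2
      exact h1 (Subgroup.mem_map_of_mem Y.subtype hx)
  have hYbs : ¬ Group.IsSolvable ↥Yb := by
    intro h
    haveI := h
    refine hsol ?_
    haveI : Group.IsNilpotent ↥φ.ker := by
      rw [hker]; exact (CfsgLib.Solv.pCore_isPGroup ↥Y p).isNilpotent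
    exact Group.isSolvable_of_ker_le_range φ.ker.subtype φ (by rw [Subgroup.range_subtype])
  set F := Cfsg.fittingSubgroup (G ⧸ A) with hF
  haveI hFn : F.Normal := CfsgLib.Solv.fittingSubgroup_normal _
  have hFc : ⁅F, Ob⁆ = ⊥ := by
    refine hcen F ((hdich F (hnorm F hFn Sb)).resolve_left fun h => hYbs ?_) hFn
    haveI := fitting_nilpotent (G := G ⧸ A)
    exact Group.isSolvable_of_isSolvable_injective (f := Subgroup.inclusion (hYmin F hFn h)) (Subgroup.inclusion_injective _)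
  set E := Cfsg.layer (G ⧸ A) with hE
  haveI hEn : E.Normal := layer_normal
  have hEc : ¬ E ≤ Subgroup.centralizer (Ob : Set (G ⧸ A)) := by
    intro h
    refine hO1 (Cfsg.Agent.S2851.eq_bot_of_normalized hpc hObp fun n hn' => ?_)
    exact Subgroup.centralizer_le_normalizer _ ((sup_le h (Subgroup.commutator_eq_bot_iff_le_centralizer.1 hFc) :
      Cfsg.generalizedFittingSubgroup (G ⧸ A) ≤ _) hn')
  have hEL : ¬ E ≤ Lb := fun h => hEc (Subgroup.commutator_eq_bot_iff_le_centralizer.1 (hcen E h hEn))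
  have hRE : R ≤ E := (hdich E (hnorm E hEn Sb)).resolve_right hEL
  have hYE : Yb ≤ E := hYmin E hEn hRE
  -- orbits
  let M : Subgroup (G ⧸ A) → Subgroup (G ⧸ A) := fun K => ⨆ s : ↥Sb, K.map (MulAut.conj (s : G ⧸ A)).toMonoidHom
  have hMle : ∀ (K : Subgroup (G ⧸ A)) (s : G ⧸ A), s ∈ Sb → K.map (MulAut.conj s).toMonoidHom ≤ M K :=
    fun K s hs => le_iSup (fun s : ↥Sb => K.map (MulAut.conj (s : G ⧸ A)).toMonoidHom) ⟨s, hs⟩
  have hKM : ∀ K : Subgroup (G ⧸ A), K ≤ M K := fun K => by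
    refine le_trans ?_ (hMle K 1 (one_mem _))
    intro x hx
    exact CfsgLib.Solv.mem_map_conj_iff.2 (by simpa using hx)
  have hMn : ∀ K : Subgroup (G ⧸ A), Sb ≤ Subgroup.normalizer (M K : Set (G ⧸ A)) := by
    intro K
    rw [CfsgLib.Solv.le_normalizer_iff_forall_conj_mem]
    intro s hs x hx
    have h1 : (M K).map (MulAut.conj s).toMonoidHom ≤ M K := by
      show (⨆ t : ↥Sb, K.map (MulAut.conj (t : G ⧸ A)).toMonoidHom).map _ ≤ _
      rw [Subgroup.map_iSup]
      refine iSup_le fun t => ?_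
      rw [conj_comp]
      exact hMle K _ (mul_mem hs t.2)
    exact h1 ⟨x, hx, rfl⟩
  have hRM : ∀ K : Subgroup (G ⧸ A), ¬ K ≤ Lb → R ≤ M K := fun K hK =>
    (hdich _ (hMn K)).resolve_right fun h => hK ((hKM K).trans h)
  have key : ∀ K K' : Subgroup (G ⧸ A), Cfsg.IsComponent K → Cfsg.IsComponent K' → ¬ K ≤ Lb → ¬ K' ≤ Lb →
      ∃ s ∈ Sb, K' = K.map (MulAut.conj s).toMonoidHom := by
    intro K K' hK hK' hKL hK'L
    by_contra hne
    push Not at hne
    have hc : M K ≤ Subgroup.centralizer (M K' : Set (G ⧸ A)) := by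
      refine iSup_le fun s => ?_
      rw [Subgroup.le_centralizer_iff]
      refine iSup_le fun t => ?_
      rw [Subgroup.le_centralizer_iff]
      refine Subgroup.commutator_eq_bot_iff_le_centralizer.1 (components_commute (isComponent_conj hK _) (isComponent_conj hK' _) fun e => ?_)
      refine hne ((t : G ⧸ A)⁻¹ * s) (mul_mem (inv_mem t.2) s.2) ?_
      rw [← conj_comp, e, conj_comp, inv_mul_cancel]
      ext x
      simp
    have hcR : E ≤ Subgroup.centralizer (R : Set (G ⧸ A)) := by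
      refine sSup_le fun J hJ => ?_
      by_cases hJK : ∃ s ∈ Sb, J = K.map (MulAut.conj s).toMonoidHom
      · obtain ⟨s, hs, rfl⟩ := hJK
        exact (hMle K s hs).trans (hc.trans (Subgroup.centralizer_le (hRM K' hK'L)))
      · push Not at hJK
        refine le_trans ?_ (Subgroup.centralizer_le (hRM K hKL))
        rw [Subgroup.le_centralizer_iff]
        refine iSup_le fun s => ?_
        exact Subgroup.commutator_eq_bot_iff_le_centralizer.1
          (components_commute (isComponent_conj hK _) hJ fun e => hJK s s.2 e.symm)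
    set W := E ⊓ Subgroup.centralizer (E : Set (G ⧸ A)) with hW
    haveI hWn : W.Normal := inferInstance
    have h1 : Yb ≤ W := hYmin W hWn (le_inf hRE (Subgroup.le_centralizer_iff.1 hcR))
    exact hYbs (Group.isSolvable_of_comm fun a b => Subtype.ext
      (Subgroup.mem_centralizer_iff.1 (Subgroup.mem_inf.1 (h1 b.2)).2 a (hYE a.2)))
  obtain ⟨K0, hK0, hK0L⟩ : ∃ K0, Cfsg.IsComponent K0 ∧ ¬ K0 ≤ Lb := by
    by_contra hno
    push Not at hno
    exact hEL (sSup_le fun K hK => hno K hK)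
  have hnotL : ∀ s ∈ Sb, ¬ K0.map (MulAut.conj s).toMonoidHom ≤ Lb := by
    intro s hs h
    refine hK0L fun x hx => ?_
    have h1 := mul_mem (mul_mem (inv_mem (hSbL hs)) (h ⟨x, hx, rfl⟩)) (hSbL hs)
    simpa [mul_assoc] using h1
  haveI hM0n : (M K0).Normal := by
    rw [← Subgroup.normalizer_eq_top_iff, ← top_le_iff, ← hgenb]
    refine sup_le ?_ ?_
    · intro y hy
      exact Subgroup.iInf_normalizer_le_normalizer_iSup _ (Subgroup.mem_iInf.2 fun s =>
        component_normal_in_layer (isComponent_conj hK0 _) (hYE hy))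
    · rw [CfsgLib.Solv.le_normalizer_iff_forall_conj_mem]
      intro l hl x hx
      have h1 : (M K0).map (MulAut.conj l).toMonoidHom ≤ M K0 := by
        show (⨆ t : ↥Sb, K0.map (MulAut.conj (t : G ⧸ A)).toMonoidHom).map _ ≤ _
        rw [Subgroup.map_iSup]
        refine iSup_le fun t => ?_
        have hnl : ¬ (K0.map (MulAut.conj (t : G ⧸ A)).toMonoidHom).map (MulAut.conj l).toMonoidHom ≤ Lb := by
          intro h
          refine hnotL t t.2 fun z hz => ?_
          have h2 := mul_mem (mul_mem (inv_mem hl) (h ⟨z, hz, rfl⟩)) hl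
          simpa [mul_assoc] using h2
        obtain ⟨s, hs, e⟩ := key K0 _ hK0 (isComponent_conj (isComponent_conj hK0 _) l) hK0L hnl
        rw [e]
        exact hMle K0 s hs
      exact h1 ⟨x, hx, rfl⟩
  have hYM : Yb ≤ M K0 := hYmin _ hM0n (hRM K0 hK0L)
  have hK0Y : K0 ≤ Yb := by
    refine (component_le_or_commute hK0 Yb).resolve_right fun h => hYbs ?_
    have hc : M K0 ≤ Subgroup.centralizer (Yb : Set (G ⧸ A)) := by
      refine iSup_le fun s => Subgroup.commutator_eq_bot_iff_le_centralizer.1 ?_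
      refine (component_le_or_commute (isComponent_conj hK0 _) Yb).resolve_left fun h' => ?_
      have hle : K0 ≤ Yb := fun x hx => by
        simpa [mul_assoc] using hYbn.conj_mem _ (h' ⟨x, hx, rfl⟩) (s : G ⧸ A)⁻¹
      refine component_ne_bot hK0 (le_bot_iff.1 ?_)
      rw [← component_commutator hK0, ← h]
      exact Subgroup.commutator_mono le_rfl hle
    exact Group.isSolvable_of_comm fun a b => Subtype.ext
      (Subgroup.mem_centralizer_iff.1 (hc (hYM b.2)) a a.2)
  have hMY : M K0 ≤ Yb := iSup_le fun s x hx => by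
    obtain ⟨z, hz, rfl⟩ := hx
    exact hYbn.conj_mem z (hK0Y hz) s
  have hcomp : ∀ J : Subgroup (G ⧸ A), Cfsg.IsComponent J → J ≤ Yb → ∃ s ∈ Sb, J = K0.map (MulAut.conj s).toMonoidHom := by
    intro J hJ hJY
    by_contra hne
    push Not at hne
    refine component_ne_bot hJ (le_bot_iff.1 ?_)
    rw [← component_commutator hJ, le_bot_iff, Subgroup.commutator_eq_bot_iff_le_centralizer]
    refine le_trans ?_ (Subgroup.centralizer_le (hJY.trans hYM))
    rw [Subgroup.le_centralizer_iff]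
    exact iSup_le fun s => Subgroup.commutator_eq_bot_iff_le_centralizer.1
      (components_commute (isComponent_conj hK0 _) hJ fun e => hne s s.2 e.symm)
  have hlayer : Cfsg.layer ↥Yb = ⊤ := by
    refine top_le_iff.1 fun y _ => ?_
    have h1 : M K0 ≤ (Cfsg.layer ↥Yb).map Yb.subtype := iSup_le fun s => by
      rw [← Subgroup.map_subgroupOf_eq_of_le ((hMle K0 s s.2).trans hMY)]
      exact Subgroup.map_mono (component_le_layer (isComponent_subgroupOf (isComponent_conj hK0 _) ((hMle K0 s s.2).trans hMY)))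
    exact (Subgroup.mem_map_iff_mem Yb.subtype_injective).1 (h1 (hYM y.2))
  have hperf : Yb ≤ ⁅Yb, Yb⁆ := hYM.trans (iSup_le fun s => by
    rw [← component_commutator (isComponent_conj hK0 (s : G ⧸ A))]
    exact Subgroup.commutator_mono ((hMle K0 s s.2).trans hMY) ((hMle K0 s s.2).trans hMY))
  have hdvd : p ∣ Nat.card ↥Yb := by
    by_contra hp'
    have hcop : ∀ Q : Subgroup (G ⧸ A), IsPGroup p Q → (Nat.card Q).Coprime (Nat.card Yb) := fun Q hQ => by
      obtain ⟨i, hi⟩ := hQ.exists_card_eq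
      rw [hi]
      exact ((Nat.Prime.coprime_iff_not_dvd Fact.out).2 hp').pow_left i
    set C := (Subgroup.centralizer (Ob : Set (G ⧸ A))).subgroupOf Yb with hC
    have hR1 : R ≠ ⊥ := fun h => hYbs (by
      haveI : Subsingleton ↥Yb := by
        rw [show Yb = ⊥ from le_bot_iff.1 (hYmin ⊥ inferInstance h.le)]
        infer_instance
      exact Group.isSolvable_of_comm fun a b => Subsingleton.elim _ _)
    have hprime : ∀ r : ℕ, r.Prime → r ∣ C.index → ∃ T : Subgroup (G ⧸ A), IsPGroup r T ∧ R ≤ T := by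
      intro r hr hd
      haveI : Fact r.Prime := ⟨hr⟩
      haveI := hSbp.isNilpotent
      obtain ⟨T, hT⟩ := CfsgLib.Solv.exists_invariant_sylow (p := r) (hnorm Yb hYbn Sb) (hcop Sb hSbp) (Or.inl inferInstance)
      refine ⟨_, T.2.map Yb.subtype, (hdich _ hT).resolve_right fun hTL => T.not_dvd_index (hd.trans (Subgroup.index_dvd_of_le fun x hx => ?_))⟩
      show (x : G ⧸ A) ∈ Subgroup.centralizer (Ob : Set (G ⧸ A))
      refine Subgroup.mem_centralizer_iff.2 fun o ho => commutatorElement_eq_one_iff_mul_comm.1 ?_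
      have h1 : ⁅o, (x : G ⧸ A)⁆ ∈ Ob ⊓ Yb := Subgroup.mem_inf.2 ⟨comm_mem_left ho (hLO (hTL (Subgroup.mem_map_of_mem Yb.subtype hx))),
        comm_mem_right x.2 (hnorm Yb hYbn ⊤ (Subgroup.mem_top _))⟩
      rwa [CfsgLib.Solv.inf_eq_bot_of_coprime_card (hcop Ob hObp), Subgroup.mem_bot] at h1
    obtain ⟨t, ht, huniq⟩ : ∃ t : ℕ, t.Prime ∧ ∀ {d : ℕ}, d.Prime → d ∣ C.index → d = t := by
      by_cases hex : ∃ r : ℕ, r.Prime ∧ r ∣ C.index
      · obtain ⟨r, hr, hrd⟩ := hex
        refine ⟨r, hr, fun {d} hd hdd => ?_⟩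
        by_contra hne
        obtain ⟨T, hT, hRT⟩ := hprime r hr hrd
        obtain ⟨T', hT', hRT'⟩ := hprime d hd hdd
        haveI : Fact r.Prime := ⟨hr⟩
        haveI : Fact d.Prime := ⟨hd⟩
        refine hR1 (le_bot_iff.1 ((le_inf hRT hRT').trans (CfsgLib.Solv.inf_eq_bot_of_coprime_card ?_).le))
        obtain ⟨i, hi⟩ := hT.exists_card_eq
        obtain ⟨j, hj⟩ := hT'.exists_card_eq
        rw [hi, hj]
        exact ((Nat.coprime_primes hr hd).2 (Ne.symm hne)).pow i j
      · exact ⟨2, Nat.prime_two, fun {d} hd hdd => absurd ⟨d, hd, hdd⟩ hex⟩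
    have hidx := Nat.eq_prime_pow_of_unique_prime_dvd (Subgroup.index_ne_zero_of_finite (H := C)) huniq
    have hYO : Ob ≤ Subgroup.centralizer (Yb : Set (G ⧸ A)) := by
      intro o ho
      set H := Yb ⊔ Subgroup.zpowers o with hH
      set Z := Subgroup.zpowers o with hZ
      have hdv : ((Subgroup.centralizer ({o} : Set (G ⧸ A))).subgroupOf Yb).index ∣ C.index :=
        Subgroup.index_dvd_of_le fun x hx => Subgroup.mem_centralizer_iff.2 fun y hy => by
          rw [Set.mem_singleton_iff.1 hy]; exact Subgroup.mem_centralizer_iff.1 hx o ho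
      rw [hidx, ← class_index Yb o] at hdv
      obtain ⟨k, -, hk⟩ := (Nat.dvd_prime_pow ht).1 hdv
      have hs := CfsgLib.Perm.Kazarin.isSolvable_normalClosure_of_class_pow ht hk
      set x : ↥H := ⟨o, Subgroup.mem_sup_right (Subgroup.mem_zpowers o)⟩ with hx
      set Nc := Subgroup.normalClosure ({x} : Set ↥H) with hNc
      haveI : Nc.Normal := Subgroup.normalClosure_normal
      set W := Nc.map H.subtype ⊓ Yb with hW
      have hWsol : Group.IsSolvable ↥W := by
        haveI := hs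
        haveI : Group.IsSolvable ↥(Nc.map H.subtype) :=
          Group.isSolvable_of_surjective (f := H.subtype.subgroupMap Nc) (MonoidHom.subgroupMap_surjective _ _)
        exact CfsgLib.Solv.isSolvable_of_le inf_le_left
      have hYW : Yb ≤ Subgroup.normalizer (W : Set (G ⧸ A)) := by
        refine CfsgLib.Solv.le_normalizer_inf_of_le ?_ Subgroup.le_normalizer
        rw [CfsgLib.Solv.le_normalizer_iff_forall_conj_mem]
        rintro y hy _ ⟨z, hz, rfl⟩
        exact ⟨⟨y, Subgroup.mem_sup_left hy⟩ * z * ⟨y, Subgroup.mem_sup_left hy⟩⁻¹,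
          (inferInstance : Nc.Normal).conj_mem z hz _, rfl⟩
      have hWsn : W.IsSubnormal := by
        haveI : (W.subgroupOf Yb).Normal :=
          ⟨fun n hn g => (Subgroup.mem_normalizer_iff.1 (hYW g.2) n).1 hn⟩
        have h := ((inferInstance : (W.subgroupOf Yb).Normal).isSubnormal).trans' hYbn.isSubnormal
        rwa [Subgroup.map_subgroupOf_eq_of_le inf_le_right] at h
      have hYW' : Yb ≤ Subgroup.centralizer (W : Set (G ⧸ A)) := hYM.trans (iSup_le fun s =>
        Subgroup.commutator_eq_bot_iff_le_centralizer.1 (component_commute_solvable (isComponent_conj hK0 _) hWsn hWsol))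
      have hcomm : ⁅Yb, Z⁆ ≤ W := by
        refine le_inf ?_ (CfsgLib.Solv.commutator_le_of_le_normalizer (hnorm Yb hYbn Z))
        refine Subgroup.commutator_le.2 fun y hy z hz => ?_
        obtain ⟨n, rfl⟩ := Subgroup.mem_zpowers_iff.1 hz
        have h1 : ⁅(⟨y, Subgroup.mem_sup_left hy⟩ : ↥H), x ^ n⁆ ∈ Nc := by
          have hxN : x ∈ Nc := Subgroup.subset_normalClosure (Set.mem_singleton x)
          have hxn : x ^ n ∈ Nc := Nc.zpow_mem hxN n
          rw [commutatorElement_def]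
          exact mul_mem ((inferInstance : Nc.Normal).conj_mem _ hxn _) (inv_mem hxn)
        exact ⟨_, h1, by simp [commutatorElement_def, hx]⟩
      have h3 : ⁅⁅Yb, Z⁆, Yb⁆ = ⊥ := Subgroup.commutator_eq_bot_iff_le_centralizer.2
        (hcomm.trans (Subgroup.le_centralizer_iff.1 hYW'))
      have h4 : ⁅⁅Z, Yb⁆, Yb⁆ = ⊥ := by rwa [Subgroup.commutator_comm Z Yb]
      have h5 := Subgroup.commutator_commutator_eq_bot_of_rotate h3 h4
      have h6 : ⁅Yb, Z⁆ = ⊥ := le_bot_iff.1 ((Subgroup.commutator_mono hperf le_rfl).trans h5.le)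
      exact Subgroup.le_centralizer_iff.1 (Subgroup.commutator_eq_bot_iff_le_centralizer.1 h6) (Subgroup.mem_zpowers o)
    apply hEc
    refine sSup_le fun J hJ => ?_
    by_cases hJY : J ≤ Yb
    · exact hJY.trans (Subgroup.le_centralizer_iff.1 hYO)
    set M' := sSup {J : Subgroup (G ⧸ A) | Cfsg.IsComponent J ∧ ¬ J ≤ Yb} with hM'
    have hM'L : M' ≤ Lb := sSup_le fun J hJ => by
      by_contra h
      obtain ⟨s, hs, rfl⟩ := key K0 J hK0 hJ.1 hK0L h
      exact hJ.2 ((hMle K0 s hs).trans hMY)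
    haveI hM'n : M'.Normal := by
      refine ⟨fun n hn g => ?_⟩
      have h1 : M'.map (MulAut.conj g).toMonoidHom ≤ M' := by
        refine Subgroup.map_le_iff_le_comap.2 (sSup_le fun J hJ => Subgroup.map_le_iff_le_comap.1 ?_)
        refine le_sSup ⟨isComponent_conj hJ.1 g, fun h => hJ.2 fun z hz => ?_⟩
        simpa [mul_assoc] using hYbn.conj_mem _ (h ⟨z, hz, rfl⟩) g⁻¹
      exact h1 ⟨n, hn, rfl⟩
    exact (le_sSup ⟨hJ, hJY⟩ : J ≤ M').trans (Subgroup.commutator_eq_bot_iff_le_centralizer.1 (hcen M' hM'L hM'n))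
  -- translate to Y/O_p(Y)
  haveI hQn := CfsgLib.Solv.pCore_normal ↥Y p
  let e : (↥Y ⧸ Cfsg.pCore p ↥Y) ≃* ↥Yb :=
    (QuotientGroup.quotientMulEquivOfEq hker.symm).trans (QuotientGroup.quotientKerEquivOfSurjective φ (π.subgroupMap_surjective Y))
  have he : ∀ y : Y, (e (QuotientGroup.mk' (Cfsg.pCore p ↥Y) y) : G ⧸ A) = π y := fun y => rfl
  refine ⟨hQn, ?_, ?_, ?_⟩
  · rw [Nat.card_congr e.toEquiv]; exact hdvd
  · refine top_le_iff.1 fun x _ => ?_
    exact layer_map_le e.symm ⟨e x, by rw [hlayer]; exact Subgroup.mem_top _, e.symm_apply_apply x⟩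
  intro K₁ K₂ hK₁ hK₂
  have hmem : ∀ (K : Subgroup (↥Y ⧸ Cfsg.pCore p ↥Y)) (x : G),
      x ∈ (K.comap (QuotientGroup.mk' (Cfsg.pCore p ↥Y))).map Y.subtype ↔ x ∈ Y ∧ π x ∈ (K.map e.toMonoidHom).map Yb.subtype := by
    intro K x
    constructor
    · rintro ⟨y, hy, rfl⟩
      exact ⟨y.2, ⟨_, ⟨_, hy, rfl⟩, he y⟩⟩
    · rintro ⟨hx, w, ⟨k, hk, rfl⟩, hw⟩
      refine ⟨⟨x, hx⟩, ?_, rfl⟩
      have : k = QuotientGroup.mk' (Cfsg.pCore p ↥Y) ⟨x, hx⟩ := e.injective (Subtype.ext (hw.trans (he ⟨x, hx⟩).symm))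
      rw [this] at hk; exact hk
  obtain ⟨s₁, hs₁, e₁⟩ := hcomp _ (isComponent_map_subtype hYbn.isSubnormal (isComponent_map e hK₁)) (Subgroup.map_subtype_le _)
  obtain ⟨s₂, hs₂, e₂⟩ := hcomp _ (isComponent_map_subtype hYbn.isSubnormal (isComponent_map e hK₂)) (Subgroup.map_subtype_le _)
  obtain ⟨s, hs, hse⟩ := mul_mem hs₂ (inv_mem hs₁)
  refine ⟨s, hs, ?_⟩
  ext x
  rw [CfsgLib.Solv.mem_map_conj_iff, hmem, hmem, e₁, e₂, CfsgLib.Solv.mem_map_conj_iff, CfsgLib.Solv.mem_map_conj_iff,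
    map_mul, map_mul, map_inv, hse]
  refine and_congr ⟨fun h => by simpa using hYn.conj_mem x h s⁻¹, fun h => by simpa [mul_assoc] using hYn.conj_mem _ h s⟩ ?_
  simp [mul_assoc]

end Cfsg.Agent.S3044
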