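import Cfsg.Statements.S3048
import Cfsg.Agent.Inv.Component
import Cfsg.Agent.Solv.Basic
import Cfsg.Agent.S3012
import Cfsg.Agent.S3013

set_option autoImplicit false
universe u
open Cfsg

namespace Cfsg.Agent.S3048

open CfsgLib.Inv
open scoped commutatorElement

theorem exne {H : Type*} [Group H] {W : Subgroup H} (h : W ≠ ⊥) : ∃ x ∈ W, x ≠ 1 := by
  by_contra hc
  push Not at hc
  exact h ((Subgroup.eq_bot_iff_forall W).2 hc)

theorem main {G : Type u} [Group G] [Finite G] (V : Subgroup G) (hV : Cfsg.IsElementaryAbelian 2 V) (hV1 : V ≠ ⊥) (hS : Cfsg.IsSidkiPair V) (hVO : V ⊓ Cfsg.pCore 2 G = ⊥) (hminG : ∀ (H : Type u) [Group H] [Finite H] (W : Subgroup H), Nat.card H < Nat.card G → Cfsg.IsElementaryAbelian 2 W → W ≠ ⊥ → Cfsg.IsSidkiPair W → W ⊓ Cfsg.pCore 2 H ≠ ⊥) :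
    IsSimpleGroup ↥(Cfsg.generalizedFittingSubgroup G) ∧ ¬ IsMulCommutative ↥(Cfsg.generalizedFittingSubgroup G) ∧ V ⊔ Cfsg.generalizedFittingSubgroup G = ⊤ := by
  classical
  haveI : Fact (Nat.Prime 2) := ⟨Nat.prime_two⟩
  have hVc : ∀ a ∈ V, ∀ b ∈ V, a * b = b * a := fun a ha b hb =>
    congrArg Subtype.val (hV.1.is_comm.comm (⟨a, ha⟩ : V) ⟨b, hb⟩)
  have hVp : IsPGroup 2 ↥V := fun a => ⟨1, Subtype.ext (hV.2 a a.2)⟩
  have hVinv : ∀ v ∈ V, v⁻¹ = v := fun v hv => inv_eq_of_mul_eq_one_right (by rw [← pow_two]; exact hV.2 v hv)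
  have hlt : ∀ H : Subgroup G, H ≠ ⊤ → Nat.card ↥H < Nat.card G := fun H hH =>
    lt_of_le_of_ne (Subgroup.card_le_card_group H) fun e => hH (Subgroup.eq_top_of_card_eq _ e)
  have hsub : ∀ (W H : Subgroup G), W ≤ V → Cfsg.IsElementaryAbelian 2 (W.subgroupOf H) := fun W H hWV =>
    ⟨⟨⟨fun a b => Subtype.ext (Subtype.ext (hVc _ (hWV a.2) _ (hWV b.2)))⟩⟩,
      fun a ha => Subtype.ext (hV.2 _ (hWV ha))⟩
  -- O₂(G) = 1
  have hO : Cfsg.pCore 2 G = ⊥ := by
    by_contra hO
    haveI := CfsgLib.Solv.pCore_normal G 2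
    have hVne : V.map (QuotientGroup.mk' (Cfsg.pCore 2 G)) ≠ ⊥ := fun h => hV1 (by
      rw [Subgroup.map_eq_bot_iff, QuotientGroup.ker_mk'] at h
      rwa [inf_eq_left.2 h] at hVO)
    have hcard : Nat.card (G ⧸ Cfsg.pCore 2 G) < Nat.card G := by
      rw [Subgroup.card_eq_card_quotient_mul_card_subgroup (Cfsg.pCore 2 G)]
      exact lt_mul_of_one_lt_right Nat.card_pos ((Subgroup.one_lt_card_iff_ne_bot _).2 hO)
    refine hminG _ _ hcard ⟨⟨⟨?_⟩⟩, ?_⟩ hVne (Cfsg.Agent.S3012.result V _ hV hV1 hS hVO) ?_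
    · rintro ⟨_, a, ha, rfl⟩ ⟨_, b, hb, rfl⟩
      exact Subtype.ext (by simp only [Subgroup.coe_mul, ← map_mul, hVc a ha b hb])
    · rintro _ ⟨a, ha, rfl⟩
      rw [← map_pow, hV.2 a ha, map_one]
    · rw [eq_bot_iff]
      intro y hy
      have hpre : (Cfsg.pCore 2 (G ⧸ Cfsg.pCore 2 G)).comap (QuotientGroup.mk' (Cfsg.pCore 2 G)) ≤ Cfsg.pCore 2 G := by
        haveI := CfsgLib.Solv.pCore_normal (G ⧸ Cfsg.pCore 2 G) 2
        exact CfsgLib.Solv.le_pCore ((CfsgLib.Solv.pCore_isPGroup _ 2).comap_of_ker_isPGroup _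
          (by rw [QuotientGroup.ker_mk']; exact CfsgLib.Solv.pCore_isPGroup G 2))
      obtain ⟨x, rfl⟩ := QuotientGroup.mk'_surjective _ y
      exact (QuotientGroup.eq_one_iff x).2 (hpre (Subgroup.mem_inf.1 hy).2)
  have hnormal2 : ∀ N : Subgroup G, N.Normal → IsPGroup 2 ↥N → N = ⊥ := fun N hN h => by
    haveI := hN
    exact le_bot_iff.1 (hO ▸ CfsgLib.Solv.le_pCore h)
  -- the centraliser in V of a normal subgroup
  have hCN : ∀ N : Subgroup G, N.Normal → N ≠ ⊥ → V ⊓ Subgroup.centralizer (N : Set G) = ⊥ := by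
    intro N hNn hN1
    haveI := hNn
    by_contra hW
    have hC : Subgroup.centralizer (N : Set G) ≠ ⊤ := by
      intro hC
      have hNc : N ≤ Subgroup.center G := fun n hn => Subgroup.mem_center_iff.2 fun g =>
        (Subgroup.mem_centralizer_iff.1 (hC ▸ Subgroup.mem_top g) n hn).symm
      have hVN : V ⊓ N = ⊥ := by
        refine hnormal2 _ ⟨fun x hx g => ?_⟩ (hVp.to_le inf_le_left)
        rw [show g * x * g⁻¹ = x by rw [Subgroup.mem_center_iff.1 (hNc hx.2) g, mul_inv_cancel_right]]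
        exact hx
      have hVne : V.map (QuotientGroup.mk' N) ≠ ⊥ := fun h => hV1 (by
        rw [Subgroup.map_eq_bot_iff, QuotientGroup.ker_mk'] at h
        rwa [inf_eq_left.2 h] at hVN)
      have hcard : Nat.card (G ⧸ N) < Nat.card G := by
        rw [Subgroup.card_eq_card_quotient_mul_card_subgroup N]
        exact lt_mul_of_one_lt_right Nat.card_pos ((Subgroup.one_lt_card_iff_ne_bot _).2 hN1)
      have hne := hminG _ (V.map (QuotientGroup.mk' N)) hcard ⟨⟨⟨by
        rintro ⟨_, a, ha, rfl⟩ ⟨_, b, hb, rfl⟩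
        exact Subtype.ext (by simp only [Subgroup.coe_mul, ← map_mul, hVc a ha b hb])⟩⟩, by
        rintro _ ⟨a, ha, rfl⟩
        rw [← map_pow, hV.2 a ha, map_one]⟩ hVne (Cfsg.Agent.S3012.result V N hV hV1 hS hVN)
      apply hne
      rw [eq_bot_iff]
      rintro _ ⟨⟨v, hv, rfl⟩, hvO⟩
      haveI := CfsgLib.Solv.pCore_normal (G ⧸ N) 2
      let P0 := (Cfsg.pCore 2 (G ⧸ N)).comap (QuotientGroup.mk' N)
      haveI : Group.IsNilpotent ↥(Cfsg.pCore 2 (G ⧸ N)) := (CfsgLib.Solv.pCore_isPGroup (G ⧸ N) 2).isNilpotent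
      haveI hP0 : Group.IsNilpotent ↥P0 := Subgroup.isNilpotent_of_ker_le_center
        ((QuotientGroup.mk' N).subgroupComap (Cfsg.pCore 2 (G ⧸ N))) (fun x hx => Subgroup.mem_center_iff.2 fun y =>
          Subtype.ext (Subgroup.mem_center_iff.1 (hNc ((QuotientGroup.eq_one_iff _).1 (congrArg Subtype.val hx))) y))
      haveI : P0.Normal := inferInstanceAs ((Cfsg.pCore 2 (G ⧸ N)).comap (QuotientGroup.mk' N)).Normal
      have h1 := CfsgLib.Solv.map_pCore_subtype_le (p := 2) P0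
      rw [hO, le_bot_iff, Subgroup.map_eq_bot_iff, Subgroup.ker_subtype, le_bot_iff] at h1
      obtain ⟨R⟩ := (inferInstance : Nonempty (Sylow 2 ↥P0))
      haveI hRn : (R : Subgroup ↥P0).Normal := ((Group.isNilpotent_of_finite_tfae (G := ↥P0)).out 0 3 rfl rfl).1 hP0 2 inferInstance R
      have hR1 : (R : Subgroup ↥P0) = ⊥ := le_bot_iff.1 (h1 ▸ CfsgLib.Solv.le_pCore R.2)
      have hvP : IsPGroup 2 ↥(Subgroup.zpowers (⟨v, hvO⟩ : ↥P0)) := by
        intro a
        refine ⟨1, ?_⟩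
        obtain ⟨_, k, rfl⟩ := a
        refine Subtype.ext (Subtype.ext ?_)
        show (v ^ k) ^ (2 ^ 1) = 1
        rw [pow_one, ← zpow_natCast, ← zpow_mul, mul_comm, zpow_mul, zpow_natCast, hV.2 v hv, one_zpow]
      obtain ⟨R', hR'⟩ := hvP.exists_le_sylow
      haveI := Sylow.unique_of_normal R hRn
      rw [Subsingleton.elim R' R, hR1] at hR'
      have := congrArg Subtype.val (Subgroup.mem_bot.1 (hR' (Subgroup.mem_zpowers _)))
      rw [Subgroup.mem_bot, show v = 1 from this, map_one]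
    -- C_V(N) is a Sidki pair in C(N)
    obtain ⟨W, hWdef⟩ : ∃ W, W = V ⊓ Subgroup.centralizer (N : Set G) := ⟨_, rfl⟩
    rw [← hWdef] at hW
    have hWC : W ≤ Subgroup.centralizer (N : Set G) := hWdef ▸ inf_le_right
    have hWV : W ≤ V := hWdef ▸ inf_le_left
    have hW1 : W.subgroupOf (Subgroup.centralizer (N : Set G)) ≠ ⊥ := fun h => hW (by
      rwa [Subgroup.subgroupOf_eq_bot, disjoint_iff, inf_eq_left.2 hWC] at h)
    have hsid : Cfsg.IsSidkiPair (W.subgroupOf (Subgroup.centralizer (N : Set G))) := by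
      intro h u hu hodd hinv
      by_cases hh : h = 1
      · obtain ⟨w, hw, hw1⟩ := exne hW1  
        exact ⟨w, hw, hw1, by rw [hh, mul_one, one_mul]⟩
      have hodd' : Odd (orderOf (h : G)) := by rwa [Subgroup.orderOf_coe]
      have hinv' : (u : G) * h * (u : G)⁻¹ = (h : G)⁻¹ := congrArg Subtype.val hinv
      obtain ⟨C1, hC1⟩ : ∃ C1, C1 = Subgroup.centralizer ({(u : G)} : Set G) ⊓ Subgroup.centralizer ({(h : G)} : Set G) :=
        ⟨_, rfl⟩
      obtain ⟨hX, hXS⟩ := Cfsg.Agent.S3013.result V hV hV1 hS (u : G) (h : G) (hWV hu) hodd' hinv' C1 hC1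
      have hC1t : C1 ≠ ⊤ := by
        intro htop
        have hc : (u : G) * h = h * u := by
          have h2 : (h : G) ∈ C1 := htop ▸ Subgroup.mem_top _
          rw [hC1] at h2
          exact (Subgroup.mem_centralizer_singleton_iff.1 h2.1).symm
        rw [hc, mul_inv_cancel_right, eq_inv_iff_mul_eq_one, ← pow_two] at hinv'
        have h3 := Nat.le_of_dvd two_pos (orderOf_dvd_of_pow_eq_one hinv')
        have h4 : orderOf (h : G) ≠ 2 := fun e => by rw [e] at hodd'; exact absurd hodd' (by decide)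
        have h5 : orderOf (h : G) = 1 := by have := orderOf_pos (h : G); omega
        exact hh (Subtype.ext (orderOf_eq_one_iff.1 h5))
      have hne := hminG ↥C1 ((C1 ⊓ V).subgroupOf C1) (hlt C1 hC1t) (hsub _ _ inf_le_right) (fun e => hX (by
        rwa [Subgroup.subgroupOf_eq_bot, disjoint_iff, inf_right_comm, inf_idem] at e)) hXS
      obtain ⟨x, hx, hx1⟩ := exne hne  
      have hxV : (x : G) ∈ V := (Subgroup.mem_inf.1 (Subgroup.mem_inf.1 hx).1).2
      have hNC : N ≤ C1 := by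
        intro n hn
        rw [hC1, Subgroup.mem_inf, Subgroup.mem_centralizer_singleton_iff, Subgroup.mem_centralizer_singleton_iff]
        exact ⟨Subgroup.mem_centralizer_iff.1 (hWC hu) n hn,
          Subgroup.mem_centralizer_iff.1 h.2 n hn⟩
      have hxN : (x : G) ∈ Subgroup.centralizer (N : Set G) := by
        refine Subgroup.mem_centralizer_iff.2 fun n hn => ?_
        haveI := CfsgLib.Solv.pCore_normal ↥C1 2
        have hcm : ⁅x, (⟨n, hNC hn⟩ : ↥C1)⁆ = 1 := by
          have hmem : ⁅x, (⟨n, hNC hn⟩ : ↥C1)⁆ ∈ Cfsg.pCore 2 ↥C1 ⊓ N.subgroupOf C1 :=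
            Subgroup.commutator_le_inf _ _ (Subgroup.commutator_mem_commutator (Subgroup.mem_inf.1 hx).2
              (Subgroup.mem_subgroupOf.2 hn))
          have hb : (Cfsg.pCore 2 ↥C1).map C1.subtype ⊓ N = ⊥ := by
            let M := ((Cfsg.pCore 2 ↥C1).map C1.subtype ⊓ N).subgroupOf N
            haveI : M.Normal := by
              refine ⟨fun a ha g => ?_⟩
              obtain ⟨⟨b, hb, hba⟩, haN⟩ := Subgroup.mem_inf.1 (Subgroup.mem_subgroupOf.1 ha)
              refine Subgroup.mem_subgroupOf.2 (Subgroup.mem_inf.2 ⟨⟨⟨g, hNC g.2⟩ * b * (⟨g, hNC g.2⟩ : ↥C1)⁻¹,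
                (CfsgLib.Solv.pCore_normal ↥C1 2).conj_mem b hb _, ?_⟩, (g * a * g⁻¹).2⟩)
              show (g : G) * C1.subtype b * (g : G)⁻¹ = _
              rw [hba]
              rfl
            have hMp : IsPGroup 2 ↥M := (((CfsgLib.Solv.pCore_isPGroup ↥C1 2).map C1.subtype).to_le
              inf_le_left).of_equiv (Subgroup.subgroupOfEquivOfLe inf_le_right).symm
            have h1 : M.map N.subtype ≤ Cfsg.pCore 2 G :=
              (Subgroup.map_mono (CfsgLib.Solv.le_pCore hMp)).trans (CfsgLib.Solv.map_pCore_subtype_le (p := 2) N)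
            rw [Subgroup.subgroupOf_map_subtype, inf_assoc, inf_idem, hO, le_bot_iff] at h1
            exact h1
          have h2 : ((⁅x, (⟨n, hNC hn⟩ : ↥C1)⁆ : ↥C1) : G) ∈ (⊥ : Subgroup G) := hb ▸
            Subgroup.mem_inf.2 ⟨⟨_, (Subgroup.mem_inf.1 hmem).1, rfl⟩, (Subgroup.mem_inf.1 hmem).2⟩
          exact Subtype.ext (Subgroup.mem_bot.1 h2)
        exact (congrArg Subtype.val (commutatorElement_eq_one_iff_mul_comm.1 hcm)).symm
      refine ⟨⟨(x : G), hxN⟩, ?_, fun e => hx1 (Subtype.ext (by have := congrArg Subtype.val e; simpa using this)), Subtype.ext ?_⟩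
      · rw [Subgroup.mem_subgroupOf, hWdef]
        exact ⟨hxV, hxN⟩
      · have := (SetLike.ext_iff.1 hC1 (x : G)).1 x.2
        rw [Subgroup.mem_inf, Subgroup.mem_centralizer_singleton_iff, Subgroup.mem_centralizer_singleton_iff] at this
        exact this.2
    have hne := hminG _ _ (hlt _ hC) (hsub W _ hWV) hW1 hsid
    apply hne
    rw [eq_bot_iff]
    have h1 := CfsgLib.Solv.map_pCore_subtype_le (p := 2) (Subgroup.centralizer (N : Set G))
    rw [hO, le_bot_iff, Subgroup.map_eq_bot_iff, Subgroup.ker_subtype, le_bot_iff] at h1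
    rw [h1]
    exact inf_le_right
  have hVN : ∀ N : Subgroup G, N.Normal → N ≠ ⊥ → V ⊔ N = ⊤ := by
    intro N hNn hN1
    haveI := hNn
    by_contra htop
    have hVne : V.subgroupOf (V ⊔ N) ≠ ⊥ := fun h => hV1 (by
      rwa [Subgroup.subgroupOf_eq_bot, disjoint_iff, inf_eq_left.2 le_sup_left] at h)
    have hsid : Cfsg.IsSidkiPair (V.subgroupOf (V ⊔ N)) := by
      intro h u hu hodd hinv
      obtain ⟨w, hw, hw1, hwc⟩ := hS (h : G) (u : G) hu (by rwa [Subgroup.orderOf_coe]) (congrArg Subtype.val hinv)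
      exact ⟨⟨w, Subgroup.mem_sup_left hw⟩, hw, fun e => hw1 (congrArg Subtype.val e), Subtype.ext hwc⟩
    obtain ⟨x, hx, hx1⟩ := exne
      (hminG _ _ (hlt _ htop) (hsub V _ le_rfl) hVne hsid)  
    haveI := CfsgLib.Solv.pCore_normal ↥(V ⊔ N) 2
    haveI : (N.subgroupOf (V ⊔ N)).Normal := hNn.subgroupOf _
    have hON : Cfsg.pCore 2 ↥(V ⊔ N) ⊓ N.subgroupOf (V ⊔ N) = ⊥ := by
      let M := ((Cfsg.pCore 2 ↥(V ⊔ N)).map (V ⊔ N).subtype ⊓ N).subgroupOf N
      haveI : M.Normal := by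
        refine ⟨fun a ha g => ?_⟩
        obtain ⟨⟨b, hb, hba⟩, haN⟩ := Subgroup.mem_inf.1 (Subgroup.mem_subgroupOf.1 ha)
        refine Subgroup.mem_subgroupOf.2 (Subgroup.mem_inf.2 ⟨⟨⟨g, Subgroup.mem_sup_right g.2⟩ * b *
          (⟨g, Subgroup.mem_sup_right g.2⟩ : ↥(V ⊔ N))⁻¹,
          (CfsgLib.Solv.pCore_normal ↥(V ⊔ N) 2).conj_mem b hb _, ?_⟩, (g * a * g⁻¹).2⟩)
        show (g : G) * (V ⊔ N).subtype b * (g : G)⁻¹ = _
        rw [hba]
        rfl
      have hMp : IsPGroup 2 ↥M := (((CfsgLib.Solv.pCore_isPGroup ↥(V ⊔ N) 2).map (V ⊔ N).subtype).to_le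
        inf_le_left).of_equiv (Subgroup.subgroupOfEquivOfLe inf_le_right).symm
      have h1 : M.map N.subtype ≤ Cfsg.pCore 2 G :=
        (Subgroup.map_mono (CfsgLib.Solv.le_pCore hMp)).trans (CfsgLib.Solv.map_pCore_subtype_le (p := 2) N)
      rw [Subgroup.subgroupOf_map_subtype, inf_assoc, inf_idem, hO, le_bot_iff] at h1
      rw [eq_bot_iff]
      rintro a ⟨ha, haN⟩
      have h2 : (a : G) ∈ (⊥ : Subgroup G) := h1 ▸ Subgroup.mem_inf.2 ⟨⟨a, ha, rfl⟩, haN⟩
      exact Subgroup.mem_bot.2 (Subtype.ext (Subgroup.mem_bot.1 h2))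
    have hcent : (x : G) ∈ V ⊓ Subgroup.centralizer (N : Set G) := by
      refine Subgroup.mem_inf.2 ⟨(Subgroup.mem_inf.1 hx).1, Subgroup.mem_centralizer_iff.2 fun n hn => ?_⟩
      have hmem : ⁅x, (⟨n, Subgroup.mem_sup_right hn⟩ : ↥(V ⊔ N))⁆ ∈ Cfsg.pCore 2 ↥(V ⊔ N) ⊓ N.subgroupOf (V ⊔ N) :=
        Subgroup.commutator_le_inf _ _ (Subgroup.commutator_mem_commutator (Subgroup.mem_inf.1 hx).2
          (Subgroup.mem_subgroupOf.2 hn))
      rw [hON, Subgroup.mem_bot] at hmem
      exact (congrArg Subtype.val (commutatorElement_eq_one_iff_mul_comm.1 hmem)).symm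
    rw [hCN N hNn hN1, Subgroup.mem_bot] at hcent
    exact hx1 (Subtype.ext hcent)
  -- a minimal normal subgroup
  haveI hGnt : Nontrivial G := by
    obtain ⟨v, -, hv1⟩ := exne hV1  
    exact ⟨v, 1, hv1⟩
  obtain ⟨N, ⟨hNn, hN1⟩, hNmin⟩ : ∃ N : Subgroup G, (N.Normal ∧ N ≠ ⊥) ∧
      ∀ M : Subgroup G, M.Normal → M ≠ ⊥ → M ≤ N → M = N := by
    obtain ⟨N, hN⟩ := exists_minimal_of_wellFoundedLT (fun N : Subgroup G => N.Normal ∧ N ≠ ⊥)
      ⟨⊤, inferInstance, top_ne_bot⟩
    exact ⟨N, hN.1, fun M hMn hM1 hle => le_antisymm hle (hN.2 ⟨hMn, hM1⟩ hle)⟩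
  haveI := hNn
  have hGN := hVN N hNn hN1
  have hN2 : ¬ IsPGroup 2 ↥N := fun h => hN1 (hnormal2 N hNn h)
  have hNle : ∀ M : Subgroup G, M.Normal → M ≠ ⊥ → N ≤ M := by
    intro M hMn hM1
    haveI := hMn
    by_cases h : N ⊓ M = ⊥
    · exfalso
      have hGM := hVN M hMn hM1
      refine hN2 fun a => ?_
      have hq : QuotientGroup.mk' M (a : G) ∈ V.map (QuotientGroup.mk' M) := by
        have h3 : QuotientGroup.mk' M (a : G) ∈ (V ⊔ M).map (QuotientGroup.mk' M) :=
          ⟨a, hGM ▸ Subgroup.mem_top _, rfl⟩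
        rw [Subgroup.map_sup, QuotientGroup.map_mk'_self, sup_bot_eq] at h3
        exact h3
      obtain ⟨v, hv, hva⟩ := hq
      refine ⟨1, Subtype.ext ?_⟩
      have h4 : QuotientGroup.mk' M ((a : G) ^ (2 ^ 1)) = 1 := by
        rw [map_pow, ← hva, ← map_pow, pow_one, hV.2 v hv, map_one]
      have h5 : (a : G) ^ (2 ^ 1) ∈ N ⊓ M := Subgroup.mem_inf.2 ⟨pow_mem a.2 _, (QuotientGroup.eq_one_iff _).1 h4⟩
      rw [h, Subgroup.mem_bot] at h5
      rw [Subgroup.coe_pow]
      exact h5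
    · have := hNmin (N ⊓ M) inferInstance h inf_le_left
      rw [← this]; exact inf_le_right
  have hconjle : ∀ X : Subgroup G, (∀ g, ∀ x ∈ X, g * x * g⁻¹ ∈ X) → X.Normal := fun X h => ⟨fun x hx g => h g x hx⟩
  have hdecomp : ∀ g : G, ∃ a ∈ V, ∃ n ∈ N, g = a * n := fun g => by
    have h : g ∈ V ⊔ N := hGN ▸ Subgroup.mem_top g
    rw [← SetLike.mem_coe, Subgroup.mul_normal] at h
    obtain ⟨a, ha, n, hn, rfl⟩ := Set.mem_mul.1 h
    exact ⟨a, ha, n, hn, rfl⟩
  -- N is not abelian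
  have hNc : ¬ ∀ a ∈ N, ∀ b ∈ N, a * b = b * a := by
    intro hab
    have hinv : ∀ v ∈ V, v ≠ 1 → ∀ n ∈ N, v * n * v⁻¹ = n⁻¹ := by
      intro v hv hv1 n hn
      have hFn : (N ⊓ Subgroup.centralizer ({v} : Set G)).Normal := by
        refine hconjle _ fun g x hx => ?_
        obtain ⟨a, ha, m, hm, rfl⟩ := hdecomp g
        have hxm : m * x * m⁻¹ = x := by rw [hab m hm x hx.1, mul_inv_cancel_right]
        rw [show a * m * x * (a * m)⁻¹ = a * (m * x * m⁻¹) * a⁻¹ by group, hxm]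
        refine Subgroup.mem_inf.2 ⟨hNn.conj_mem x hx.1 a, Subgroup.mem_centralizer_singleton_iff.2 ?_⟩
        have h1 := Subgroup.mem_centralizer_singleton_iff.1 hx.2
        calc a * x * a⁻¹ * v = a * x * (v * a⁻¹) := by rw [hVc v hv a⁻¹ (inv_mem ha)]; group
          _ = a * (x * v) * a⁻¹ := by group
          _ = a * (v * x) * a⁻¹ := by rw [h1]
          _ = (a * v) * x * a⁻¹ := by group
          _ = v * (a * x * a⁻¹) := by rw [hVc a ha v hv]; group
      by_cases hF : N ⊓ Subgroup.centralizer ({v} : Set G) = ⊥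
      · have hmem : n * (v * n * v⁻¹) ∈ N ⊓ Subgroup.centralizer ({v} : Set G) := by
          refine Subgroup.mem_inf.2 ⟨mul_mem hn (hNn.conj_mem n hn v), Subgroup.mem_centralizer_singleton_iff.2 ?_⟩
          have h2 : v * v = 1 := by rw [← pow_two]; exact hV.2 v hv
          have h3 : v * (n * (v * n * v⁻¹)) * v⁻¹ = n * (v * n * v⁻¹) := by
            rw [hVinv v hv, show v * (n * (v * n * v)) * v = (v * n * v) * (n * (v * v)) by group, h2, mul_one]
            have hv' := hNn.conj_mem n hn v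
            rw [hVinv v hv] at hv'
            exact (hab n hn _ hv').symm
          calc n * (v * n * v⁻¹) * v = v * (n * (v * n * v⁻¹)) * v⁻¹ * v := by rw [h3]
            _ = _ := by group
        rw [hF, Subgroup.mem_bot] at hmem
        exact eq_inv_of_mul_eq_one_right hmem
      · have h4 := hNle _ hFn hF
        have h5 : v ∈ V ⊓ Subgroup.centralizer (N : Set G) := Subgroup.mem_inf.2 ⟨hv,
          Subgroup.mem_centralizer_iff.2 fun m hm => Subgroup.mem_centralizer_singleton_iff.1 (h4 hm).2⟩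
        rw [hCN N hNn hN1, Subgroup.mem_bot] at h5
        exact absurd h5 hv1
    obtain ⟨v, hv, hv1⟩ := exne hV1  
    have honly : ∀ w ∈ V, w = 1 ∨ w = v := by
      intro w hw
      by_contra h
      push Not at h
      have h5 : w * v ∈ V ⊓ Subgroup.centralizer (N : Set G) := Subgroup.mem_inf.2 ⟨mul_mem hw hv,
        Subgroup.mem_centralizer_iff.2 fun m hm => by
          have e1 := hinv v hv hv1 m hm
          have e2 := hinv w hw h.1 m⁻¹ (inv_mem hm)
          rw [inv_inv, ← e1] at e2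
          calc m * (w * v) = (w * (v * m * v⁻¹) * w⁻¹) * (w * v) := by rw [e2]
            _ = w * v * m := by group⟩
      rw [hCN N hNn hN1, Subgroup.mem_bot] at h5
      exact h.2 ((eq_inv_of_mul_eq_one_left h5).trans (hVinv v hv))
    refine hN2 fun n => ⟨1, Subtype.ext ?_⟩
    rw [Subgroup.coe_pow, pow_one]
    by_contra hn2
    have hodd : Odd (orderOf (n : G)) := by
      by_contra he
      rw [Nat.not_odd_iff_even, even_iff_two_dvd] at he
      haveI : IsMulCommutative ↥N := ⟨⟨fun a b => Subtype.ext (hab a a.2 b b.2)⟩⟩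
      obtain ⟨z, hz, hz2⟩ : ∃ z ∈ N, orderOf z = 2 :=
        ⟨(n : G) ^ (orderOf (n : G) / 2), pow_mem n.2 _, orderOf_pow_orderOf_div (orderOf_pos _).ne' he⟩
      have e1 := hinv v hv hv1 z hz
      rw [show z⁻¹ = z from inv_eq_of_mul_eq_one_right (by rw [← pow_two, ← hz2, pow_orderOf_eq_one])] at e1
      have hzc : z ∈ N ⊓ Subgroup.centralizer ({v} : Set G) :=
        Subgroup.mem_inf.2 ⟨hz, Subgroup.mem_centralizer_singleton_iff.2 (mul_inv_eq_iff_eq_mul.1 e1).symm⟩
      -- the elements of order at most two form a normal 2-subgroup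
      let Z : Subgroup G :=
        { carrier := {y | y ∈ N ∧ y * y = 1}
          one_mem' := ⟨one_mem _, mul_one 1⟩
          mul_mem' := fun {a b} ha hb => ⟨mul_mem ha.1 hb.1, by
            rw [mul_assoc, ← mul_assoc b, hab b hb.1 a ha.1, mul_assoc a, hb.2, mul_one, ha.2]⟩
          inv_mem' := fun {a} ha => ⟨inv_mem ha.1, by rw [← _root_.mul_inv_rev, ha.2, inv_one]⟩ }
      have hZ : Z.Normal := ⟨fun y hy g => ⟨hNn.conj_mem y hy.1 g, by
        rw [show g * y * g⁻¹ * (g * y * g⁻¹) = g * (y * y) * g⁻¹ by group, hy.2, mul_one, mul_inv_cancel]⟩⟩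
      have := hnormal2 Z hZ fun a => ⟨1, Subtype.ext (by rw [Subgroup.coe_pow, pow_one, pow_two]; exact a.2.2)⟩
      have hz1 : z ∈ Z := ⟨hz, by rw [← pow_two, ← hz2, pow_orderOf_eq_one]⟩
      rw [this, Subgroup.mem_bot] at hz1
      rw [hz1, orderOf_one] at hz2
      norm_num at hz2
    obtain ⟨w, hw, hw1, hwc⟩ := hS (n : G) v hv hodd (hinv v hv hv1 n n.2)
    have e1 := hinv w hw hw1 n n.2
    rw [hwc, mul_inv_cancel_right] at e1
    exact hn2 (by rw [pow_two]; nth_rw 2 [e1]; exact mul_inv_cancel _)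
  -- a minimal N-invariant subgroup
  obtain ⟨S, ⟨hSN, hSn, hS1⟩, hSmin⟩ : ∃ S : Subgroup G, (S ≤ N ∧ N ≤ Subgroup.normalizer (S : Set G) ∧ S ≠ ⊥) ∧
      ∀ T : Subgroup G, T ≤ N → N ≤ Subgroup.normalizer (T : Set G) → T ≠ ⊥ → T ≤ S → T = S := by
    obtain ⟨S, hS'⟩ := exists_minimal_of_wellFoundedLT
      (fun S : Subgroup G => S ≤ N ∧ N ≤ Subgroup.normalizer (S : Set G) ∧ S ≠ ⊥) ⟨N, le_rfl, Subgroup.le_normalizer, hN1⟩
    exact ⟨S, hS'.1, fun T h1 h2 h3 hle => le_antisymm hle (hS'.2 ⟨h1, h2, h3⟩ hle)⟩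
  let cj : G → Subgroup G := fun a => S.map (MulAut.conj a).toMonoidHom
  have hcjmem : ∀ a x, x ∈ cj a ↔ a⁻¹ * x * a ∈ S := fun a x => by
    constructor
    · rintro ⟨y, hy, rfl⟩
      simpa [mul_assoc] using hy
    · intro h
      exact ⟨_, h, by simp [mul_assoc]⟩
  have hcjN : ∀ a, cj a ≤ N := fun a x hx => by
    have := hNn.conj_mem _ (hSN ((hcjmem a x).1 hx)) a
    simpa [mul_assoc] using this
  have hcjn : ∀ a, ∀ n ∈ N, ∀ x ∈ cj a, n * x * n⁻¹ ∈ cj a := fun a n hn x hx => by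
    rw [hcjmem] at hx ⊢
    have := (Subgroup.mem_normalizer_iff.1 (hSn (hNn.conj_mem n hn a⁻¹)) (a⁻¹ * x * a)).1 hx
    simpa [mul_assoc] using this
  have hdis : ∀ a, cj a ≠ S → S ⊓ cj a = ⊥ := by
    intro a ha
    by_contra h
    have h1 := hSmin (S ⊓ cj a) (inf_le_left.trans hSN) (fun n hn => by
      refine Subgroup.mem_normalizer_iff.2 fun x => ⟨fun hx => ⟨(Subgroup.mem_normalizer_iff.1 (hSn hn) x).1 hx.1,
        hcjn a n hn x hx.2⟩, fun hx => ⟨(Subgroup.mem_normalizer_iff.1 (hSn hn) x).2 hx.1, ?_⟩⟩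
      have := hcjn a n⁻¹ (inv_mem hn) _ hx.2
      simpa [mul_assoc] using this) h inf_le_left
    have h2 : S ≤ cj a := inf_eq_left.1 h1
    exact ha (Subgroup.eq_of_le_of_card_ge h2 (by rw [Subgroup.card_map_of_injective (MulAut.conj a).injective])).symm
  have hcomm : ∀ a, cj a ≠ S → ∀ x ∈ S, ∀ y ∈ cj a, x * y = y * x := by
    intro a ha x hx y hy
    have h1 : ⁅x, y⁆ ∈ S ⊓ cj a := by
      refine Subgroup.mem_inf.2 ⟨?_, ?_⟩
      · rw [commutatorElement_def, show x * y * x⁻¹ * y⁻¹ = x * (y * x⁻¹ * y⁻¹) by group]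
        exact mul_mem hx ((Subgroup.mem_normalizer_iff.1 (hSn (hcjN a hy)) x⁻¹).1 (inv_mem hx))
      · rw [commutatorElement_def]
        exact mul_mem (hcjn a x (hSN hx) y hy) (inv_mem hy)
    rw [hdis a ha, Subgroup.mem_bot] at h1
    exact commutatorElement_eq_one_iff_mul_comm.1 h1
  have hjoin : ⨆ a : V, cj a = N := by
    let J := ⨆ a : V, cj a
    have hle : ∀ a : V, cj a ≤ J := fun a => le_iSup (fun a : V => cj a) a
    have hJn : J.Normal := by
      refine hconjle _ fun g x hx => ?_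
      obtain ⟨b, hb, m, hm, rfl⟩ := hdecomp g
      have h2 : J ≤ J.comap (MulAut.conj (b * m)).toMonoidHom := by
        refine iSup_le fun a y hy => Subgroup.mem_comap.2 (hle ⟨b * a, mul_mem hb a.2⟩ ?_)
        show b * m * y * (b * m)⁻¹ ∈ cj (b * a)
        have := hcjn a m hm y hy
        rw [hcjmem] at this ⊢
        simpa [mul_assoc] using this
      exact h2 hx
    refine hNmin J hJn (fun h => hS1 ?_) (iSup_le fun a => hcjN a)
    have h1 := hle 1
    rw [h, le_bot_iff] at h1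
    rw [← le_bot_iff, ← h1]
    intro x hx
    simpa [hcjmem] using hx
  have hScomm : ¬ ∀ x ∈ S, ∀ y ∈ S, x * y = y * x := by
    intro hab
    apply hNc
    have hcl : N ≤ Subgroup.closure (⋃ a : V, (cj a : Set G)) := by
      rw [← hjoin]
      exact iSup_le fun a x hx => Subgroup.subset_closure (Set.mem_iUnion.2 ⟨a, hx⟩)
    have hcc : ∀ x ∈ ⋃ a : V, (cj a : Set G), ∀ y ∈ ⋃ a : V, (cj a : Set G), x * y = y * x := by
      intro x hx y hy
      obtain ⟨a, ha⟩ := Set.mem_iUnion.1 hx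
      obtain ⟨b, hb⟩ := Set.mem_iUnion.1 hy
      have h1 := (hcjmem a x).1 ha
      have h2 : (a : G)⁻¹ * y * a ∈ cj ((a : G)⁻¹ * b) := by
        rw [hcjmem]
        simpa [mul_assoc] using (hcjmem b y).1 hb
      have h3 : ((a : G)⁻¹ * x * a) * ((a : G)⁻¹ * y * a) = ((a : G)⁻¹ * y * a) * ((a : G)⁻¹ * x * a) := by
        by_cases he : cj ((a : G)⁻¹ * b) = S
        · exact hab _ h1 _ (he ▸ h2)
        · exact hcomm _ he _ h1 _ h2
      calc x * y = (a : G) * (((a : G)⁻¹ * x * a) * ((a : G)⁻¹ * y * a)) * (a : G)⁻¹ := by group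
        _ = _ := by rw [h3]; group
    haveI := Subgroup.isMulCommutative_closure hcc
    intro p hp q hq
    exact congrArg Subtype.val (IsMulCommutative.is_comm.comm
      (⟨p, hcl hp⟩ : ↥(Subgroup.closure (⋃ a : V, (cj a : Set G)))) ⟨q, hcl hq⟩)
  -- normal subgroups of S are normal in N
  have hSsimple : ∀ M : Subgroup G, M ≤ S → (∀ s ∈ S, ∀ m ∈ M, s * m * s⁻¹ ∈ M) → M = ⊥ ∨ M = S := by
    intro M hMS hMn
    by_cases hM : M = ⊥
    · exact Or.inl hM
    refine Or.inr (hSmin M (hMS.trans hSN) ?_ hM hMS)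
    rw [← hjoin]
    refine iSup_le fun a y hy => ?_
    by_cases ha : cj a = S
    · rw [ha] at hy
      refine Subgroup.mem_normalizer_iff.2 fun m => ⟨fun hm => hMn y hy m hm, fun hm => ?_⟩
      have := hMn y⁻¹ (inv_mem hy) _ hm
      simpa [mul_assoc] using this
    · refine Subgroup.centralizer_le_normalizer _ (Subgroup.mem_centralizer_iff.2 fun m hm => ?_)
      exact hcomm a ha m (hMS hm) y hy
  have hSN' : S = N := by
    by_contra hne
    obtain ⟨v, hv, hvS⟩ : ∃ v ∈ V, cj v ≠ S := by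
      by_contra h
      push Not at h
      apply hne
      rw [← hjoin]
      exact le_antisymm (le_iSup_of_le (1 : V) (fun x hx => by simpa [hcjmem] using hx))
        (iSup_le fun a => le_of_eq (h a a.2))
    obtain ⟨x, hxS, hxodd, hx1⟩ : ∃ x ∈ S, Odd (orderOf x) ∧ x ≠ 1 := by
      by_contra h
      push Not at h
      apply hScomm
      have hS2 : IsPGroup 2 ↥S := by
        intro s
        obtain ⟨e, o, ho, heq⟩ := Nat.exists_eq_pow_mul_and_not_dvd (orderOf_pos (s : G)).ne' 2 (by norm_num)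
        refine ⟨e, Subtype.ext ?_⟩
        have hodd : Odd (orderOf ((s : G) ^ 2 ^ e)) := by
          refine (Nat.odd_iff.2 (Nat.two_dvd_ne_zero.1 ho)).of_dvd_nat (orderOf_dvd_of_pow_eq_one ?_)
          rw [← pow_mul, ← heq, pow_orderOf_eq_one]
        rw [Subgroup.coe_pow]
        exact h _ (pow_mem s.2 _) hodd
      haveI : Nontrivial ↥S := (Subgroup.nontrivial_iff_ne_bot S).2 hS1
      haveI := hS2.center_nontrivial
      rcases hSsimple ((Subgroup.center ↥S).map S.subtype) (Subgroup.map_subtype_le _) (fun s hs m hm => by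
        obtain ⟨m', hm', rfl⟩ := hm
        refine ⟨⟨s, hs⟩ * m' * (⟨s, hs⟩ : ↥S)⁻¹, ?_, rfl⟩
        rw [Subgroup.mem_center_iff.1 hm' ⟨s, hs⟩, mul_inv_cancel_right]
        exact hm') with h1 | h1
      · rw [Subgroup.map_eq_bot_iff, Subgroup.ker_subtype, le_bot_iff] at h1
        exact absurd h1 ((Subgroup.nontrivial_iff_ne_bot _).1 inferInstance)
      · intro p hp q hq
        obtain ⟨p', hp', hpe⟩ : p ∈ (Subgroup.center ↥S).map S.subtype := h1.symm ▸ hp
        have := congrArg Subtype.val (Subgroup.mem_center_iff.1 hp' ⟨q, hq⟩)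
        rw [← hpe]
        exact this.symm
    have hxv : v * x * v⁻¹ ∈ cj v := by rw [hcjmem]; simpa [mul_assoc] using hxS
    have hcen : ∀ y ∈ S, (∀ z ∈ S, y * z = z * y) → y = 1 := by
      intro y hy hc
      rcases hSsimple ((Subgroup.center ↥S).map S.subtype) (Subgroup.map_subtype_le _) (fun s hs m hm => by
        obtain ⟨m', hm', rfl⟩ := hm
        refine ⟨⟨s, hs⟩ * m' * (⟨s, hs⟩ : ↥S)⁻¹, ?_, rfl⟩
        rw [Subgroup.mem_center_iff.1 hm' ⟨s, hs⟩, mul_inv_cancel_right]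
        exact hm') with h1 | h1
      · have h2 : y ∈ (Subgroup.center ↥S).map S.subtype :=
          ⟨⟨y, hy⟩, Subgroup.mem_center_iff.2 fun z => Subtype.ext (hc z z.2).symm, rfl⟩
        rw [h1, Subgroup.mem_bot] at h2
        exact h2
      · refine absurd (fun p hp q hq => ?_) hScomm
        obtain ⟨p', hp', hpe⟩ : p ∈ (Subgroup.center ↥S).map S.subtype := h1.symm ▸ hp
        have := congrArg Subtype.val (Subgroup.mem_center_iff.1 hp' ⟨q, hq⟩)
        rw [← hpe]
        exact this.symm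
    obtain ⟨h, hh⟩ : ∃ h, h = x * (v * x * v⁻¹)⁻¹ := ⟨_, rfl⟩
    have hcx : Commute x (v * x * v⁻¹) := hcomm v hvS x hxS _ hxv
    have hhodd : Odd (orderOf h) := by
      refine hxodd.of_dvd_nat (orderOf_dvd_of_pow_eq_one ?_)
      rw [hh, (hcx.inv_right).mul_pow, pow_orderOf_eq_one, inv_pow, conj_pow, pow_orderOf_eq_one]
      simp
    have h2 : v * v = 1 := by rw [← pow_two]; exact hV.2 v hv
    have hhinv : v * h * v⁻¹ = h⁻¹ := by
      rw [hh]
      simp only [_root_.mul_inv_rev, hVinv v hv, inv_inv]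
      calc v * (x * (v * (x⁻¹ * v))) * v = (v * x * v) * (x⁻¹ * (v * v)) := by group
        _ = _ := by rw [h2]; group
    obtain ⟨w, hw, hw1, hwc⟩ := hS h v hv hhodd hhinv
    obtain ⟨u, hu, hu1, huS⟩ : ∃ u ∈ V, u ≠ 1 ∧ cj u = S := by
      by_cases hwS : cj w = S
      · exact ⟨w, hw, hw1, hwS⟩
      refine ⟨w * v, mul_mem hw hv, ?_, ?_⟩
      · intro e
        have hwv : w = v := (eq_inv_of_mul_eq_one_left e).trans (hVinv v hv)
        rw [← hwv] at hhinv
        rw [hwc, mul_inv_cancel_right] at hhinv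
        have h3 := Nat.le_of_dvd two_pos (orderOf_dvd_of_pow_eq_one (show h ^ 2 = 1 by
          rw [pow_two]; nth_rw 2 [hhinv]; exact mul_inv_cancel h))
        have h4 : orderOf h ≠ 2 := fun e => by rw [e] at hhodd; exact absurd hhodd (by decide)
        have h5 : orderOf h = 1 := by have := orderOf_pos h; omega
        rw [orderOf_eq_one_iff, hh, mul_inv_eq_one] at h5
        have : x ∈ S ⊓ cj v := ⟨hxS, h5 ▸ hxv⟩
        rw [hdis v hvS, Subgroup.mem_bot] at this
        exact hx1 this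
      · by_contra hwv
        refine hx1 (hcen x hxS fun z hz => ?_)
        have hhz : h * z = z * h := by
          have h1 : h = (w * x * w⁻¹) * (w * (v * x * v⁻¹) * w⁻¹)⁻¹ := by
            calc h = w * h * w⁻¹ := by rw [hwc, mul_inv_cancel_right]
              _ = _ := by rw [hh]; group
          have c1 : Commute z (w * x * w⁻¹) := hcomm w hwS z hz _ (by rw [hcjmem]; simpa [mul_assoc] using hxS)
          have c2 : Commute z (w * (v * x * v⁻¹) * w⁻¹) := hcomm (w * v) hwv z hz _ (by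
            rw [hcjmem]; simpa [mul_assoc] using hxS)
          rw [h1]
          exact (c1.mul_right c2.inv_right).eq.symm
        have c3 : Commute z (v * x * v⁻¹) := hcomm v hvS z hz _ hxv
        have c4 : Commute z (h * (v * x * v⁻¹)) := (show Commute z h from hhz.symm).mul_right c3
        rw [hh, inv_mul_cancel_right] at c4
        exact c4.eq.symm
    -- the group ⟨U, S⟩
    obtain ⟨U, hU⟩ : ∃ U : Subgroup G, U = V ⊓ Subgroup.normalizer (S : Set G) := ⟨_, rfl⟩
    have hUmem : ∀ a, a ∈ U ↔ a ∈ V ∧ cj a = S := by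
      intro a
      rw [hU, Subgroup.mem_inf]
      refine and_congr_right fun ha => ⟨fun hn => ?_, fun hn => ?_⟩
      · ext y
        rw [hcjmem]
        have := Subgroup.mem_normalizer_iff.1 hn (a⁻¹ * y * a)
        simpa [mul_assoc] using this
      · refine Subgroup.mem_normalizer_iff.2 fun y => ?_
        have := hcjmem a (a * y * a⁻¹)
        rw [hn] at this
        simpa [mul_assoc] using this.symm
    have huU : u ∈ U := (hUmem u).2 ⟨hu, huS⟩
    have hUV : U ≤ V := hU ▸ inf_le_left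
    have hUn : U ≤ Subgroup.normalizer (S : Set G) := hU ▸ inf_le_right
    obtain ⟨H, hH⟩ : ∃ H, H = U ⊔ S := ⟨_, rfl⟩
    haveI hSnH : (S.subgroupOf H).Normal := by
      refine (Subgroup.normal_subgroupOf_iff_le_normalizer (hH ▸ le_sup_right)).2 ?_
      rw [hH]
      exact sup_le hUn Subgroup.le_normalizer
    have hmemH : ∀ g ∈ H, g ^ 2 ∈ S := by
      intro g hg
      rw [hH, ← SetLike.mem_coe, Subgroup.coe_mul_of_left_le_normalizer_right U S hUn] at hg
      obtain ⟨a, ha, s, hs, rfl⟩ := Set.mem_mul.1 hg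
      have h3 : a * a = 1 := by rw [← pow_two]; exact hV.2 a (hUV ha)
      rw [pow_two, show a * s * (a * s) = (a * s * a⁻¹) * ((a * a) * s) by group, h3, one_mul]
      exact mul_mem ((Subgroup.mem_normalizer_iff.1 (hUn ha) s).1 hs) hs
    have hHtop : H ≠ ⊤ := by
      intro e
      refine hvS ?_
      have h3 : v ∈ Subgroup.normalizer (S : Set G) := (hH ▸ sup_le hUn Subgroup.le_normalizer :
        H ≤ Subgroup.normalizer (S : Set G)) (e ▸ Subgroup.mem_top v)
      exact ((hUmem v).1 (by rw [hU]; exact ⟨hv, h3⟩)).2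
    have hUH : U ≤ H := hH ▸ le_sup_left
    have hsid : Cfsg.IsSidkiPair (U.subgroupOf H) := by
      intro k a ha hodd hinv
      by_cases hk : k = 1
      · exact ⟨⟨u, hUH huU⟩, huU, fun e => hu1 (congrArg Subtype.val e), by rw [hk, mul_one, one_mul]⟩
      have hodd' : Odd (orderOf (k : G)) := by rwa [Subgroup.orderOf_coe]
      obtain ⟨t, ht, ht1, htc⟩ := hS (k : G) (a : G) (hUV ha) hodd' (congrArg Subtype.val hinv)
      have hkS : (k : G) ∈ S := by
        obtain ⟨j, hj⟩ := hodd'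
        have : (k : G) = ((k : G) ^ 2) ^ (j + 1) := by
          rw [← pow_mul, show 2 * (j + 1) = (2 * j + 1) + 1 by ring, pow_succ, ← hj, pow_orderOf_eq_one, one_mul]
        rw [this]
        exact pow_mem (hmemH _ k.2) _
      have htU : t ∈ U := by
        refine (hUmem t).2 ⟨ht, ?_⟩
        by_contra htS
        have : (k : G) ∈ S ⊓ cj t := Subgroup.mem_inf.2 ⟨hkS, by
          rw [hcjmem, show t⁻¹ * (k : G) * t = k by rw [mul_assoc, ← htc, inv_mul_cancel_left]]; exact hkS⟩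
        rw [hdis t htS, Subgroup.mem_bot] at this
        exact hk (Subtype.ext this)
      exact ⟨⟨t, hUH htU⟩, htU, fun e => ht1 (congrArg Subtype.val e), Subtype.ext htc⟩
    have hUne : U.subgroupOf H ≠ ⊥ := fun e => hu1 (by
      have h3 : (⟨u, hUH huU⟩ : ↥H) ∈ U.subgroupOf H := huU
      rw [e, Subgroup.mem_bot] at h3
      exact congrArg Subtype.val h3)
    obtain ⟨t, ht, ht1⟩ := exne (hminG _ _ (hlt H hHtop) (hsub U H hUV) hUne hsid)  
    haveI := CfsgLib.Solv.pCore_normal ↥H 2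
    have htU : (t : G) ∈ U := (Subgroup.mem_inf.1 ht).1
    have htS : ∀ s ∈ S, (t : G) * s = s * t := by
      intro s hs
      have hsH : s ∈ H := hH ▸ Subgroup.mem_sup_right hs
      have hmem : ⁅t, (⟨s, hsH⟩ : ↥H)⁆ ∈ Cfsg.pCore 2 ↥H ⊓ S.subgroupOf H :=
        Subgroup.commutator_le_inf _ _ (Subgroup.commutator_mem_commutator (Subgroup.mem_inf.1 ht).2
          (Subgroup.mem_subgroupOf.2 hs))
      have hbot : ((Cfsg.pCore 2 ↥H ⊓ S.subgroupOf H).map H.subtype) = ⊥ := by
        have hle : (Cfsg.pCore 2 ↥H ⊓ S.subgroupOf H).map H.subtype ≤ S := by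
          rintro _ ⟨y, hy, rfl⟩; exact (Subgroup.mem_inf.1 hy).2
        refine (hSsimple _ hle fun s' hs' m hm => ?_).resolve_right fun e => ?_
        · obtain ⟨y, hy, rfl⟩ := hm
          exact ⟨⟨s', hH ▸ Subgroup.mem_sup_right hs'⟩ * y * (⟨s', hH ▸ Subgroup.mem_sup_right hs'⟩ : ↥H)⁻¹,
            (inferInstance : (Cfsg.pCore 2 ↥H ⊓ S.subgroupOf H).Normal).conj_mem y hy _, rfl⟩
        · apply hScomm
          have hp2 : IsPGroup 2 ↥S := e ▸ ((CfsgLib.Solv.pCore_isPGroup ↥H 2).to_le inf_le_left).map H.subtype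
          exfalso
          obtain ⟨i, hi⟩ := hp2 ⟨x, hxS⟩
          have h4 : orderOf x ∣ 2 ^ i := orderOf_dvd_of_pow_eq_one (by simpa using congrArg Subtype.val hi)
          obtain ⟨j, -, hj⟩ := (Nat.dvd_prime_pow Nat.prime_two).1 h4
          rw [hj] at hxodd
          rcases Nat.eq_zero_or_pos j with rfl | hj0
          · exact hx1 (orderOf_eq_one_iff.1 (by rw [hj]; rfl))
          · exact absurd hxodd (Nat.not_odd_iff_even.2 (Nat.even_pow.2 ⟨even_two, by omega⟩))
      have h5 : ((⁅t, (⟨s, hsH⟩ : ↥H)⁆ : ↥H) : G) ∈ (⊥ : Subgroup G) := hbot ▸ ⟨_, hmem, rfl⟩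
      exact congrArg Subtype.val (commutatorElement_eq_one_iff_mul_comm.1
        (Subtype.ext (Subgroup.mem_bot.1 h5) : ⁅t, (⟨s, hsH⟩ : ↥H)⁆ = 1))
    have htN : (t : G) ∈ V ⊓ Subgroup.centralizer (N : Set G) := by
      refine Subgroup.mem_inf.2 ⟨hUV htU, ?_⟩
      have hNC : N ≤ Subgroup.centralizer ({(t : G)} : Set G) := by
        rw [← hjoin]
        refine iSup_le fun a y hy => Subgroup.mem_centralizer_singleton_iff.2 ?_
        have h6 := htS _ ((hcjmem a y).1 hy)
        have h7 := hVc _ (hUV htU) _ a.2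
        calc y * (t : G) = (a : G) * ((((a : G)⁻¹ * y * a)) * ((a : G)⁻¹ * ((t : G) * a)) * (a : G)⁻¹) := by group
          _ = (a : G) * ((((a : G)⁻¹ * y * a)) * t * (a : G)⁻¹) := by rw [h7]; group
          _ = (a : G) * (t : G) * ((a : G)⁻¹ * y * a) * (a : G)⁻¹ := by rw [← h6]; group
          _ = (t : G) * y := by rw [← h7]; group
      exact Subgroup.mem_centralizer_iff.2 fun n hn => Subgroup.mem_centralizer_singleton_iff.1 (hNC hn)
    rw [hCN N hNn hN1, Subgroup.mem_bot] at htN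
    exact ht1 (Subtype.ext htN)
  haveI hNnt : Nontrivial ↥N := (Subgroup.nontrivial_iff_ne_bot N).2 hN1
  haveI hNsimple : IsSimpleGroup ↥N := by
    refine { eq_bot_or_eq_top_of_normal := fun M hM => ?_ }
    rcases hSsimple (M.map N.subtype) ((Subgroup.map_subtype_le M).trans hSN'.ge) (fun s hs m hm => by
      obtain ⟨m', hm', rfl⟩ := hm
      exact ⟨⟨s, hSN hs⟩ * m' * (⟨s, hSN hs⟩ : ↥N)⁻¹, hM.conj_mem m' hm' _, rfl⟩) with h | h
    · left
      exact (Subgroup.map_eq_bot_iff_of_injective M N.subtype_injective).1 h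
    · right
      refine Subgroup.map_injective N.subtype_injective ?_
      rw [h, hSN', ← MonoidHom.range_eq_map, Subgroup.range_subtype]
  have hNna : ¬ IsMulCommutative ↥N := fun h => hNc fun a ha b hb =>
    congrArg Subtype.val (h.is_comm.comm (⟨a, ha⟩ : ↥N) ⟨b, hb⟩)
  have hNcen : Subgroup.center ↥N = ⊥ :=
    ((inferInstance : (Subgroup.center ↥N).Normal).eq_bot_or_eq_top).resolve_right fun h => hNna
      ⟨⟨fun a b => (Subgroup.mem_center_iff.1 (h ▸ Subgroup.mem_top b) a)⟩⟩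
  have hNq : Cfsg.IsQuasisimple ↥N := by
    refine ⟨⟨?_⟩, ?_⟩
    · refine ((inferInstance : (commutator ↥N).Normal).eq_bot_or_eq_top).resolve_left fun h => hNna ?_
      refine ⟨⟨fun a b => commutatorElement_eq_one_iff_mul_comm.1 (Subgroup.mem_bot.1 (h ▸ ?_))⟩⟩
      rw [commutator_def]
      exact Subgroup.commutator_mem_commutator (Subgroup.mem_top a) (Subgroup.mem_top b)
    · haveI : Nontrivial (↥N ⧸ Subgroup.center ↥N) :=
        ((QuotientGroup.quotientMulEquivOfEq hNcen).trans QuotientGroup.quotientBot).toEquiv.nontrivial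
      exact IsSimpleGroup.isSimpleGroup_of_surjective
        ((QuotientGroup.quotientMulEquivOfEq hNcen).trans QuotientGroup.quotientBot).symm.toMonoidHom
        (MulEquiv.surjective _)
  have hcomp : Cfsg.IsComponent N := ⟨hNn.isSubnormal, hNq⟩
  have hCN' : Subgroup.centralizer (N : Set G) = ⊥ := by
    by_contra h
    have h1 := hNle _ inferInstance h
    exact hNc fun a ha b hb => (Subgroup.mem_centralizer_iff.1 (h1 ha) b hb).symm
  have hlay : Cfsg.layer G = N := by
    refine le_antisymm (sSup_le fun K hK => ?_) (component_le_layer hcomp)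
    by_contra hne
    have hKN : K ≠ N := fun e => hne (le_of_eq e)
    have h2 := Subgroup.commutator_eq_bot_iff_le_centralizer.1 (components_commute hK hcomp hKN)
    rw [hCN', le_bot_iff] at h2
    exact component_ne_bot hK h2
  have hfit : Cfsg.fittingSubgroup G = ⊥ := by
    by_contra h
    haveI := CfsgLib.Solv.fittingSubgroup_normal G
    have h1 := hNle _ inferInstance h
    haveI := fitting_nilpotent (G := G)
    haveI : Group.IsNilpotent ↥N := Group.nilpotent_of_mulEquiv (Subgroup.subgroupOfEquivOfLe h1)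
    exact component_not_solvable hcomp inferInstance
  have hF : Cfsg.generalizedFittingSubgroup G = N := by
    unfold Cfsg.generalizedFittingSubgroup
    rw [hlay, hfit, sup_bot_eq]
  rw [hF]
  exact ⟨hNsimple, hNna, hGN⟩

/-- Minimal counterexample reduction for the Sidki pair problem. Let G be a finite group and V a nontrivial elementary abelian 2-subgroup satisfying the Sidki pair condition with V ∩ O₂(G) = 1. Suppose that for every finite group H of smaller order, every nontrivial elementary abelian 2-subgroup W of H satisfying the Sidki pair condition meets O₂(H) nontrivially, and that the same holds in G for every such subgroup W of order smaller than that of V. Then the generalized Fitting subgroup F*(G) is a non-abelian simple group and G = V F*(G). -/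
theorem result {G : Type u} [Group G] [Finite G] (V : Subgroup G) (hV : Cfsg.IsElementaryAbelian 2 V) (hV1 : V ≠ ⊥) (hS : Cfsg.IsSidkiPair V) (hVO : V ⊓ Cfsg.pCore 2 G = ⊥) (hminG : ∀ (H : Type u) [Group H] [Finite H] (W : Subgroup H), Nat.card H < Nat.card G → Cfsg.IsElementaryAbelian 2 W → W ≠ ⊥ → Cfsg.IsSidkiPair W → W ⊓ Cfsg.pCore 2 H ≠ ⊥) (hminV : ∀ W : Subgroup G, Nat.card W < Nat.card V → Cfsg.IsElementaryAbelian 2 W → W ≠ ⊥ → Cfsg.IsSidkiPair W → W ⊓ Cfsg.pCore 2 G ≠ ⊥) : IsSimpleGroup ↥(Cfsg.generalizedFittingSubgroup G) ∧ ¬ IsMulCommutative ↥(Cfsg.generalizedFittingSubgroup G) ∧ V ⊔ Cfsg.generalizedFittingSubgroup G = ⊤ := by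
    exact main V hV hV1 hS hVO hminG

end Cfsg.Agent.S3048
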