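import Cfsg.Statements.S3053
import Cfsg.Agent.Solv.Basic
import Cfsg.Agent.Solv.ClassTwo
import Cfsg.Agent.Solv.CoprimeAction

set_option autoImplicit false
open Cfsg

namespace Cfsg.Agent.S3053

/-- Let p be an odd prime and G a finite group with a Sylow p-subgroup P that is extraspecial of order p³ and exponent p². Then the centre of P is strongly closed in P with respect to G: a G-conjugate of an element of Z(P) that lies in P already lies in Z(P). In particular a nontrivial central element of P is conjugate in G to no noncentral element of P. -/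
theorem result {G : Type*} [Group G] [Finite G]
    {p : ℕ} [Fact p.Prime] (hp : p ≠ 2) (P : Sylow p G) (hE : Cfsg.IsExtraspecial p ↥P)
    (hcard : Nat.card P = p ^ 3) (hexp : Monoid.exponent ↥P = p ^ 2) :
    Cfsg.IsStronglyClosed ((Subgroup.center ↥P).map (P : Subgroup G).subtype) (P : Subgroup G) := by
  open scoped commutatorElement in
  open scoped Pointwise in
  exact (by
    classical
    obtain ⟨⟨hPp, -, hcom⟩, hZc⟩ := hE
    refine ⟨Subgroup.map_subtype_le _, ?_⟩
    rintro _ ⟨⟨z, hzP⟩, hzZ, rfl⟩ g hg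
    simp only [Subgroup.coe_subtype] at hg ⊢
    by_cases hz1 : z = 1
    · subst hz1; simp
    set x := g * z * g⁻¹ with hxdef
    by_contra hxn
    have hxc : (⟨x, hg⟩ : (P : Subgroup G)) ∉ Subgroup.center ↥(P : Subgroup G) := fun h => hxn ⟨_, h, rfl⟩
    have hzne : (⟨z, hzP⟩ : (P : Subgroup G)) ≠ 1 := fun h => hz1 (congrArg Subtype.val h)
    have hgen : ∀ w ∈ Subgroup.center ↥(P : Subgroup G), ∃ i : ℕ, z ^ i = (w : G) := by
      intro w hw
      obtain ⟨i, -, hi⟩ := CfsgLib.Solv.exists_pow_eq_of_mem hZc hzZ hzne hw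
      exact ⟨i, by simpa using congrArg Subtype.val hi⟩
    have hzc : ∀ k ∈ (P : Subgroup G), k * z = z * k := fun k hk =>
      congrArg Subtype.val (Subgroup.mem_center_iff.1 hzZ ⟨k, hk⟩)
    have hzp : z ^ p = 1 := by
      have h := pow_card_eq_one' (x := (⟨⟨z, hzP⟩, hzZ⟩ : Subgroup.center ↥(P : Subgroup G)))
      rw [show Nat.card ↥(Subgroup.center ↥(P : Subgroup G)) = p from hZc] at h
      simpa using congrArg (fun w => ((Subtype.val w : (P : Subgroup G)) : G)) h
    have hxp : x ^ p = 1 := by rw [hxdef, conj_pow, hzp, mul_one, mul_inv_cancel]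
    have hpowc : ∀ w ∈ (P : Subgroup G), ∃ i : ℕ, z ^ i = w ^ p := fun w hw =>
      hgen _ (CfsgLib.Solv.sympl_pow_mem hZc hcom.le (⟨w, hw⟩ : (P : Subgroup G)))
    -- an element of `P` commuting with `x` has order dividing `p`
    have hcx : ∀ w ∈ (P : Subgroup G), w * x = x * w → w ^ p = 1 := by
      intro w hw hwx
      by_contra hwp
      have hord : orderOf w = p ^ 2 := by
        refine orderOf_eq_prime_pow (n := 1) (by rwa [pow_one]) ?_
        have := Monoid.pow_exponent_eq_one (⟨w, hw⟩ : (P : Subgroup G))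
        rw [show Monoid.exponent (P : Subgroup G) = p ^ 2 from hexp] at this
        exact congrArg Subtype.val this
      set C := (P : Subgroup G) ⊓ Subgroup.centralizer {x} with hC
      have hle : Subgroup.zpowers w ≤ C :=
        Subgroup.zpowers_le.2 (Subgroup.mem_inf.2 ⟨hw, Subgroup.mem_centralizer_singleton_iff.2 hwx⟩)
      have hxC : x ∈ C := Subgroup.mem_inf.2 ⟨hg, Subgroup.mem_centralizer_singleton_iff.2 rfl⟩
      have hCne : C ≠ (P : Subgroup G) := fun h => hxc (Subgroup.mem_center_iff.2 fun k => Subtype.ext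
        (Subgroup.mem_centralizer_singleton_iff.1 (Subgroup.mem_inf.1 (h.ge k.2)).2))
      have hCc : Nat.card C ≤ p ^ 2 := by
        have hPc : Nat.card (P : Subgroup G) = p ^ 3 := hcard
        obtain ⟨i, hi, hci⟩ := (Nat.dvd_prime_pow Fact.out).1
          (hPc ▸ Subgroup.card_dvd_of_le (inf_le_left : C ≤ (P : Subgroup G)))
        rw [hci]
        refine Nat.pow_le_pow_right (Fact.out : p.Prime).pos (Nat.lt_succ_iff.1 (lt_of_le_of_ne hi ?_))
        rintro rfl
        exact hCne (Subgroup.eq_of_le_of_card_ge inf_le_left (by rw [hci, hPc]))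
      have heq := Subgroup.eq_of_le_of_card_ge hle (by rw [Nat.card_zpowers, hord]; exact hCc)
      rw [← heq] at hxC
      obtain ⟨i, hi⟩ := hxC
      simp only at hi
      have hxp' := hxp
      rw [← hi, ← zpow_natCast, ← zpow_mul] at hxp'
      have h2 := orderOf_dvd_iff_zpow_eq_one.2 hxp'
      rw [hord, Nat.cast_pow, pow_two] at h2
      obtain ⟨j, rfl⟩ := Int.dvd_of_mul_dvd_mul_right (by exact_mod_cast (Fact.out : p.Prime).ne_zero) h2
      obtain ⟨k, hk⟩ := hpowc w hw
      rw [zpow_mul, zpow_natCast, ← hk] at hi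
      refine hxc ?_
      have : (⟨x, hg⟩ : (P : Subgroup G)) = ((⟨z, hzP⟩ : (P : Subgroup G)) ^ k) ^ j := Subtype.ext (by simp [hi])
      rw [this]
      exact zpow_mem (pow_mem hzZ k) j
    -- conjugation by an element with a given effect
    have hpair : ∀ w ∈ (P : Subgroup G), (∀ i : ℕ, z ^ i ≠ w) → ∀ u : G, ∀ i : ℕ, u = z ^ i →
        ∃ y ∈ (P : Subgroup G), y * w * y⁻¹ = u * w := by
      intro w hw hwz u i hu
      have hwc : (⟨w, hw⟩ : (P : Subgroup G)) ∉ Subgroup.center ↥(P : Subgroup G) := fun h => by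
        obtain ⟨j, hj⟩ := hgen _ h
        exact hwz j hj
      obtain ⟨y, hy⟩ := CfsgLib.Solv.sympl_exists_pair hZc hcom.le hwc (inv_mem (pow_mem hzZ i))
      refine ⟨y, y.2, ?_⟩
      have h1 : w * (y : G) * w⁻¹ * (y : G)⁻¹ = u⁻¹ := by rw [hu]; exact congrArg Subtype.val hy
      calc (y : G) * w * (y : G)⁻¹ = (w * (y : G) * w⁻¹ * (y : G)⁻¹)⁻¹ * w := by group
        _ = u * w := by rw [h1, inv_inv]
    have hxz : ∀ i : ℕ, z ^ i ≠ x := fun i hi => hxn ⟨⟨z, hzP⟩ ^ i, pow_mem hzZ i, by simpa using hi⟩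
    obtain ⟨y, hyP, hy⟩ := hpair x hg hxz z 1 (pow_one z).symm
    have hyz : y * z * y⁻¹ = z := by rw [hzc y hyP, mul_inv_cancel_right]
    have hxzc : x * z = z * x := hzc x hg
    set E := Subgroup.closure ({z, x} : Set G) with hEdef
    have hzE : z ∈ E := Subgroup.subset_closure (by simp)
    have hxE : x ∈ E := Subgroup.subset_closure (by simp)
    have hEP : E ≤ (P : Subgroup G) := by
      rw [hEdef, Subgroup.closure_le]; rintro a (rfl | rfl)
      · exact hzP
      · exact hg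
    have hEx : E ≤ Subgroup.centralizer {x} := by
      rw [hEdef, Subgroup.closure_le]; rintro a (rfl | rfl)
      · exact Subgroup.mem_centralizer_singleton_iff.2 hxzc.symm
      · exact Subgroup.mem_centralizer_singleton_iff.2 rfl
    -- a Sylow subgroup of `C(x)` containing `E`
    set K := Subgroup.centralizer ({x} : Set G) with hKdef
    have hgP : ((g • P : Sylow p G) : Subgroup G) ≤ K := by
      rw [Sylow.coe_subgroup_smul]
      rintro _ ⟨k, hk, rfl⟩
      refine Subgroup.mem_centralizer_singleton_iff.2 ?_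
      simp only [MulDistribMulAction.toMonoidEnd_apply, MulDistribMulAction.toMonoidHom_apply, MulAut.smul_def, MulAut.conj_apply, hxdef]
      calc g * k * g⁻¹ * (g * z * g⁻¹) = g * (k * z) * g⁻¹ := by group
        _ = g * (z * k) * g⁻¹ := by rw [hzc k hk]
        _ = _ := by group
    obtain ⟨R, hR⟩ := (((P.2.to_le hEP).comap_of_injective K.subtype K.subtype_injective) :
      IsPGroup p (E.subgroupOf K)).exists_le_sylow
    obtain ⟨c, hc⟩ := MulAction.exists_smul_eq K ((g • P).subtype hgP) R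
    have hmem : ∀ a ∈ E, (((c : G) * g)⁻¹ * a * ((c : G) * g)) ∈ (P : Subgroup G) := by
      intro a ha
      have h1 : (⟨a, hEx ha⟩ : K) ∈ (R : Subgroup K) := hR (Subgroup.mem_subgroupOf.2 ha)
      rw [← hc, Sylow.coe_subgroup_smul] at h1
      obtain ⟨b, hb, hbe⟩ := h1
      have hb' : (b : G) ∈ ((g • P : Sylow p G) : Subgroup G) := hb
      rw [Sylow.coe_subgroup_smul] at hb'
      obtain ⟨k, hk, hkb⟩ := hb'
      have hbe' := congrArg Subtype.val hbe
      simp [MulAut.smul_def] at hkb hbe'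
      have : ((c : G) * g)⁻¹ * a * ((c : G) * g) = k := by rw [← hbe', ← hkb]; group
      rw [this]; exact hk
    set d := (c : G) * g with hd
    have hdz : d * z * d⁻¹ = x := by
      have h1 := Subgroup.mem_centralizer_singleton_iff.1 c.2
      calc d * z * d⁻¹ = (c : G) * x * (c : G)⁻¹ := by rw [hd, hxdef]; group
        _ = x := by rw [h1, mul_inv_cancel_right]
    have hzx' : ∀ i : ℕ, z ^ i ≠ d⁻¹ * z * d := by
      intro i hi
      have h1 : x ^ i = z := by
        rw [← hdz, conj_pow, hi]; group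
      refine hxn ⟨⟨z, hzP⟩, hzZ, ?_⟩
      -- the two lines coincide
      exfalso
      have hpi : ¬ p ∣ i := by
        rintro ⟨j, rfl⟩
        rw [pow_mul, hxp, one_pow] at h1
        exact hz1 h1.symm
      obtain ⟨j, hj⟩ := exists_pow_eq_self_of_coprime (n := i) (x := x) (by
        rw [orderOf_eq_prime hxp (fun h => hz1 (by rw [← h1, h, one_pow]))]
        exact ((Fact.out : p.Prime).coprime_iff_not_dvd.2 hpi).symm)
      rw [h1] at hj
      exact hxz j hj
    have hp1 : 0 < p := (Fact.out : p.Prime).pos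
    obtain ⟨y₀, hy₀P, hy₀⟩ := hpair (d⁻¹ * z * d) (hmem z hzE) hzx' (z⁻¹) (p - 1)
      (inv_eq_of_mul_eq_one_right (by rw [← pow_succ', Nat.sub_add_cancel hp1, hzp]))
    set y' := d * y₀ * d⁻¹ with hy'def
    have hy'z : y' * z * y'⁻¹ = x⁻¹ * z := by
      calc y' * z * y'⁻¹ = d * (y₀ * (d⁻¹ * z * d) * y₀⁻¹) * d⁻¹ := by rw [hy'def]; group
        _ = (d * z * d⁻¹)⁻¹ * z := by rw [hy₀]; group
        _ = _ := by rw [hdz]
    have hy'x : y' * x * y'⁻¹ = x := by
      calc y' * x * y'⁻¹ = d * (y₀ * z * y₀⁻¹) * d⁻¹ := by rw [hy'def, ← hdz]; group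
        _ = x := by rw [hzc y₀ hy₀P, mul_inv_cancel_right, hdz]
    have hwz : (y * y' * y) * z * (y * y' * y)⁻¹ = x⁻¹ := by
      calc (y * y' * y) * z * (y * y' * y)⁻¹ = y * (y' * (y * z * y⁻¹) * y'⁻¹) * y⁻¹ := by group
        _ = y * (x⁻¹ * z) * y⁻¹ := by rw [hyz, hy'z]
        _ = (y * x * y⁻¹)⁻¹ * (y * z * y⁻¹) := by group
        _ = x⁻¹ := by rw [hy, hyz]; group
    have hwx : (y * y' * y) * x * (y * y' * y)⁻¹ = z := by
      calc (y * y' * y) * x * (y * y' * y)⁻¹ = y * (y' * (y * x * y⁻¹) * y'⁻¹) * y⁻¹ := by group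
        _ = y * ((y' * z * y'⁻¹) * (y' * x * y'⁻¹)) * y⁻¹ := by rw [hy]; group
        _ = y * (x⁻¹ * (z * x)) * y⁻¹ := by rw [hy'z, hy'x]; group
        _ = z := by rw [← hxzc, inv_mul_cancel_left, hyz]
    set w := y * y' * y with hwdef
    have hhz : (w * w) * z * (w * w)⁻¹ = z⁻¹ := by
      calc (w * w) * z * (w * w)⁻¹ = w * (w * z * w⁻¹) * w⁻¹ := by group
        _ = (w * x * w⁻¹)⁻¹ := by rw [hwz]; group
        _ = _ := by rw [hwx]
    have hhx : (w * w) * x * (w * w)⁻¹ = x⁻¹ := by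
      calc (w * w) * x * (w * w)⁻¹ = w * (w * x * w⁻¹) * w⁻¹ := by group
        _ = x⁻¹ := by rw [hwx, hwz]
    set h := w * w with hhdef
    have hEc : ∀ a ∈ E, ∀ b ∈ E, a * b = b * a := by
      intro a ha b hb
      have h1 : E ≤ Subgroup.centralizer (E : Set G) := by
        rw [hEdef, Subgroup.centralizer_closure, Subgroup.closure_le]
        rintro u (rfl | rfl) <;> refine Subgroup.mem_centralizer_iff.2 ?_ <;> rintro v (rfl | rfl)
        · rfl
        · exact hxzc
        · exact hxzc.symm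
        · rfl
      exact Subgroup.mem_centralizer_iff.1 (h1 hb) a ha
    have hinv : ∀ a ∈ E, h * a * h⁻¹ = a⁻¹ := by
      intro a ha
      induction ha using Subgroup.closure_induction with
      | mem a ha =>
        rcases ha with rfl | rfl
        · exact hhz
        · exact hhx
      | one => simp
      | mul a b ha hb iha ihb =>
        calc h * (a * b) * h⁻¹ = (h * a * h⁻¹) * (h * b * h⁻¹) := by group
          _ = a⁻¹ * b⁻¹ := by rw [iha, ihb]
          _ = (a * b)⁻¹ := by rw [← mul_inv_rev, hEc b hb a ha]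
      | inv a _ iha =>
        calc h * a⁻¹ * h⁻¹ = (h * a * h⁻¹)⁻¹ := by group
          _ = a⁻¹⁻¹ := by rw [iha]
    have hPE : (P : Subgroup G) ≤ Subgroup.normalizer (E : Set G) := by
      rw [CfsgLib.Solv.le_normalizer_iff_forall_conj_mem]
      intro k hk a ha
      induction ha using Subgroup.closure_induction with
      | mem a ha =>
        rcases ha with rfl | rfl
        · rw [hzc k hk, mul_inv_cancel_right]; exact hzE
        · obtain ⟨i, hi⟩ := hgen _ (hcom.le (Subgroup.commutator_mem_commutator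
            (Subgroup.mem_top (⟨k, hk⟩ : (P : Subgroup G))) (Subgroup.mem_top ⟨x, hg⟩)))
          replace hi : z ^ i = k * x * k⁻¹ * x⁻¹ := hi
          have : k * x * k⁻¹ = z ^ i * x := by rw [hi]; group
          rw [this]; exact mul_mem (pow_mem hzE i) hxE
      | one => simp
      | mul a b _ _ iha ihb =>
        rw [show k * (a * b) * k⁻¹ = (k * a * k⁻¹) * (k * b * k⁻¹) by group]
        exact mul_mem iha ihb
      | inv a _ iha =>
        rw [show k * a⁻¹ * k⁻¹ = (k * a * k⁻¹)⁻¹ by group]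
        exact inv_mem iha
    set CE := Subgroup.centralizer (E : Set G) with hCE
    have hPC : (P : Subgroup G) ≤ Subgroup.normalizer (CE : Set G) := by
      rw [CfsgLib.Solv.le_normalizer_iff_forall_conj_mem]
      intro k hk a ha
      rw [hCE, Subgroup.mem_centralizer_iff]
      intro e he
      have he' : k⁻¹ * e * k ∈ E := by
        simpa using CfsgLib.Solv.le_normalizer_iff_forall_conj_mem.1 hPE k⁻¹ (inv_mem hk) e he
      have h1 := Subgroup.mem_centralizer_iff.1 ha _ he'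
      calc e * (k * a * k⁻¹) = k * ((k⁻¹ * e * k) * a) * k⁻¹ := by group
        _ = k * (a * (k⁻¹ * e * k)) * k⁻¹ := by rw [h1]
        _ = _ := by group
    set L := (P : Subgroup G) ⊔ CE with hL
    have hhk : ∀ k ∈ (P : Subgroup G), h * k * h⁻¹ ∈ L := by
      intro k hk
      have h1 : h * k * h⁻¹ * k⁻¹ ∈ CE := by
        rw [hCE, Subgroup.mem_centralizer_iff]
        intro e he
        have he' : k⁻¹ * e * k ∈ E := by
          simpa using CfsgLib.Solv.le_normalizer_iff_forall_conj_mem.1 hPE k⁻¹ (inv_mem hk) e he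
        have e1 := hinv _ he'
        have e2 := hinv _ he
        have e3 : h⁻¹ * (k⁻¹ * e * k) * h = (k⁻¹ * e * k)⁻¹ := by
          calc h⁻¹ * (k⁻¹ * e * k) * h = h⁻¹ * (h * (k⁻¹ * e * k) * h⁻¹)⁻¹ * h := by rw [e1, inv_inv]
            _ = _ := by group
        have e4 : (h * k * h⁻¹ * k⁻¹) * e * (h * k * h⁻¹ * k⁻¹)⁻¹ = e := by
          calc (h * k * h⁻¹ * k⁻¹) * e * (h * k * h⁻¹ * k⁻¹)⁻¹
              = h * k * (h⁻¹ * (k⁻¹ * e * k) * h) * k⁻¹ * h⁻¹ := by group
            _ = h * e⁻¹ * h⁻¹ := by rw [e3]; group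
            _ = e := by rw [hinv _ (inv_mem he), inv_inv]
        exact (mul_inv_eq_iff_eq_mul.1 e4).symm
      have := mul_mem (Subgroup.mem_sup_right (S := (P : Subgroup G)) h1) (Subgroup.mem_sup_left (T := CE) hk)
      simpa using this
    have hhP : ((h • P : Sylow p G) : Subgroup G) ≤ L := by
      rw [Sylow.coe_subgroup_smul]
      rintro _ ⟨k, hk, rfl⟩
      simpa [MulAut.smul_def] using hhk k hk
    obtain ⟨e, he⟩ := MulAction.exists_smul_eq L ((h • P).subtype hhP) (P.subtype le_sup_left)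
    have heh : ∀ k ∈ (P : Subgroup G), ((e : G) * h) * k * ((e : G) * h)⁻¹ ∈ (P : Subgroup G) := by
      intro k hk
      have h0 : (⟨h * k * h⁻¹, hhk k hk⟩ : L) ∈ (((h • P : Sylow p G).subtype hhP : Sylow p L) : Subgroup L) := by
        show h * k * h⁻¹ ∈ ((h • P : Sylow p G) : Subgroup G)
        rw [Sylow.coe_subgroup_smul]
        exact ⟨k, hk, by simp [MulAut.smul_def]⟩
      have h1 : MulAut.conj e ⟨h * k * h⁻¹, hhk k hk⟩ ∈ ((P.subtype (le_sup_left : (P : Subgroup G) ≤ L) : Sylow p L) : Subgroup L) := by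
        rw [← he, Sylow.coe_subgroup_smul]
        exact ⟨_, h0, rfl⟩
      have h2 : (e : G) * (h * k * h⁻¹) * (e : G)⁻¹ ∈ (P : Subgroup G) := h1
      simpa [mul_assoc] using h2
    obtain ⟨c', hc', k', hk', he'⟩ := CfsgLib.Solv.exists_mul_of_mem_sup hPC e.2
    set n := k'⁻¹ * ((e : G) * h) with hn
    have hnP : ∀ k ∈ (P : Subgroup G), n * k * n⁻¹ ∈ (P : Subgroup G) := by
      intro k hk
      have h1 := heh k hk
      rw [hn, show k'⁻¹ * ((e : G) * h) * k * (k'⁻¹ * ((e : G) * h))⁻¹ = k'⁻¹ * (((e : G) * h) * k * ((e : G) * h)⁻¹) * k' by group]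
      exact mul_mem (mul_mem (inv_mem hk') h1) hk'
    have hnE : ∀ a ∈ E, n * a * n⁻¹ = a⁻¹ := by
      intro a ha
      have hc'' : k'⁻¹ * c' * k' ∈ CE := by
        simpa using CfsgLib.Solv.le_normalizer_iff_forall_conj_mem.1 hPC k'⁻¹ (inv_mem hk') c' hc'
      have h2 := Subgroup.mem_centralizer_iff.1 hc'' _ (inv_mem ha)
      calc n * a * n⁻¹ = (k'⁻¹ * c' * k') * (h * a * h⁻¹) * (k'⁻¹ * c' * k')⁻¹ := by rw [hn, he']; group
        _ = a⁻¹ := by rw [hinv a ha, ← h2, mul_inv_cancel_right]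
    set y2 := n * y * n⁻¹ with hy2
    have hy2P := hnP y hyP
    have h5 : y2 * x * y2⁻¹ = z * x := by
      calc y2 * x * y2⁻¹ = n * y * (n⁻¹ * x * n) * y⁻¹ * n⁻¹ := by rw [hy2]; group
        _ = n * y * x⁻¹ * y⁻¹ * n⁻¹ := by
          rw [show n⁻¹ * x * n = x⁻¹ by
            calc n⁻¹ * x * n = n⁻¹ * (n * x * n⁻¹)⁻¹ * n := by rw [hnE x hxE, inv_inv]
              _ = x⁻¹ := by group]
        _ = n * (y * x * y⁻¹)⁻¹ * n⁻¹ := by group
        _ = (n * (z * x) * n⁻¹)⁻¹ := by rw [hy]; group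
        _ = z * x := by rw [hnE _ (mul_mem hzE hxE), inv_inv]
    have h6 := hcx (y⁻¹ * y2) (mul_mem (inv_mem hyP) hy2P) (by
      have h7 : y⁻¹ * y2 * x * (y⁻¹ * y2)⁻¹ = x := by
        calc y⁻¹ * y2 * x * (y⁻¹ * y2)⁻¹ = y⁻¹ * (y2 * x * y2⁻¹) * y := by group
          _ = y⁻¹ * (y * x * y⁻¹) * y := by rw [h5, hy]
          _ = x := by group
      exact mul_inv_eq_iff_eq_mul.1 h7)
    have h8 : (y⁻¹ * y2) ^ p = (y ^ p)⁻¹ * y2 ^ p := by
      have := CfsgLib.Solv.mul_pow_prime (p := p) hp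
        (CfsgLib.Solv.sympl_commute hcom.le (⟨y2, hy2P⟩ : (P : Subgroup G)) ⟨y⁻¹, inv_mem hyP⟩ ⟨y⁻¹, inv_mem hyP⟩)
        (CfsgLib.Solv.sympl_commute hcom.le (⟨y2, hy2P⟩ : (P : Subgroup G)) ⟨y⁻¹, inv_mem hyP⟩ ⟨y2, hy2P⟩)
        (CfsgLib.Solv.sympl_pow_commutator hZc hcom.le _ _)
      simpa [inv_pow] using congrArg Subtype.val this
    obtain ⟨i, hi⟩ := hpowc y hyP
    have h9 : y2 ^ p = (y ^ p)⁻¹ := by rw [hy2, conj_pow, hnE _ (hi ▸ pow_mem hzE i)]
    rw [h8, h9, ← mul_inv_rev, inv_eq_one, ← pow_add] at h6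
    have h10 : y ^ p = 1 := by
      have h11 : (y ^ p) ^ p = 1 := by rw [← hi, ← pow_mul, mul_comm, pow_mul, hzp, one_pow]
      obtain ⟨m, hm⟩ : Odd p := (Fact.out : p.Prime).odd_of_ne_two hp
      have h12 : (y ^ p) ^ 2 = 1 := by rw [← pow_mul, mul_two, h6]
      rw [hm, pow_succ, pow_mul, ← hm, h12, one_pow, one_mul] at h11
      exact h11
    -- `y` then centralizes `x`
    have hord : orderOf x = p := orderOf_eq_prime hxp (fun h => hxz 0 (by rw [pow_zero, h]))
    have hyx : y * x * y⁻¹ = x := by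
      by_contra hne
      set C := (P : Subgroup G) ⊓ Subgroup.centralizer {x} with hC
      have hall : ∀ k ∈ (P : Subgroup G), k ^ p = 1 := by
        intro k hk
        have hk2 : ∃ i : ℕ, k * x * k⁻¹ = z ^ i * x := by
          obtain ⟨i, hi⟩ := hgen _ (hcom.le (Subgroup.commutator_mem_commutator
            (Subgroup.mem_top (⟨k, hk⟩ : (P : Subgroup G))) (Subgroup.mem_top ⟨x, hg⟩)))
          replace hi : z ^ i = k * x * k⁻¹ * x⁻¹ := hi
          exact ⟨i, by rw [hi]; group⟩
        obtain ⟨i, hki⟩ := hk2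
        have hyi : ∀ i : ℕ, (y ^ i) * x * (y ^ i)⁻¹ = z ^ i * x := by
          intro i
          induction i with
          | zero => simp
          | succ i ih =>
            calc y ^ (i + 1) * x * (y ^ (i + 1))⁻¹ = y * (y ^ i * x * (y ^ i)⁻¹) * y⁻¹ := by rw [pow_succ']; group
              _ = (y * z * y⁻¹) ^ i * (y * x * y⁻¹) := by rw [ih, conj_pow]; group
              _ = z ^ (i + 1) * x := by rw [hyz, hy, pow_succ, mul_assoc]
        have h13 := hcx ((y ^ i)⁻¹ * k) (mul_mem (inv_mem (pow_mem hyP i)) hk) (by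
          refine mul_inv_eq_iff_eq_mul.1 ?_
          calc (y ^ i)⁻¹ * k * x * ((y ^ i)⁻¹ * k)⁻¹ = (y ^ i)⁻¹ * (k * x * k⁻¹) * y ^ i := by group
            _ = (y ^ i)⁻¹ * (y ^ i * x * (y ^ i)⁻¹) * y ^ i := by rw [hki, hyi]
            _ = x := by group)
        have h14 : ((y ^ i) * ((y ^ i)⁻¹ * k)) ^ p = (y ^ i) ^ p * ((y ^ i)⁻¹ * k) ^ p := by
          have := CfsgLib.Solv.mul_pow_prime (p := p) hp
            (CfsgLib.Solv.sympl_commute hcom.le (⟨(y ^ i)⁻¹ * k, mul_mem (inv_mem (pow_mem hyP i)) hk⟩ : (P : Subgroup G)) ⟨y ^ i, pow_mem hyP i⟩ ⟨y ^ i, pow_mem hyP i⟩)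
            (CfsgLib.Solv.sympl_commute hcom.le (⟨(y ^ i)⁻¹ * k, mul_mem (inv_mem (pow_mem hyP i)) hk⟩ : (P : Subgroup G)) ⟨y ^ i, pow_mem hyP i⟩ ⟨(y ^ i)⁻¹ * k, mul_mem (inv_mem (pow_mem hyP i)) hk⟩)
            (CfsgLib.Solv.sympl_pow_commutator hZc hcom.le _ _)
          simpa using congrArg Subtype.val this
        rw [mul_inv_cancel_left, h13, mul_one, ← pow_mul, mul_comm i p, pow_mul, h10, one_pow] at h14
        exact h14
      have := Monoid.exponent_dvd_of_forall_pow_eq_one (G := (P : Subgroup G)) (n := p) fun k => Subtype.ext (by simpa using hall k k.2)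
      rw [show Monoid.exponent (P : Subgroup G) = p ^ 2 from hexp] at this
      have := Nat.le_of_dvd hp1 this
      nlinarith [(Fact.out : p.Prime).two_le]
    rw [hy] at hyx
    exact hz1 (mul_eq_right.1 hyx))

end Cfsg.Agent.S3053
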