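import Cfsg.Statements.S3054
import Cfsg.Agent.Inv.CubeTorus

set_option autoImplicit false
open Cfsg

namespace Cfsg.Agent.S3054

open CfsgLib.Inv CubeTorus Matrix

/-- an element of order `p` of `Aut A` from a shear of coordinates -/
theorem shear_aut {G : Type*} [Group G] {p : ℕ} [Fact p.Prime] {A : Subgroup G}
    (E : Multiplicative (ZMod p × ZMod p) ≃* ↥A) :
    ∃ φ : MulAut ↥A, orderOf φ = p ∧ (∀ i j : ZMod p, φ (E (.ofAdd (i, j))) = E (.ofAdd (i + j, j))) := by
  let σ : MulAut (Multiplicative (ZMod p × ZMod p)) :=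
    { toFun := fun a => .ofAdd (a.toAdd.1 + a.toAdd.2, a.toAdd.2)
      invFun := fun a => .ofAdd (a.toAdd.1 - a.toAdd.2, a.toAdd.2)
      left_inv := fun a => Multiplicative.toAdd.injective (by ext <;> simp)
      right_inv := fun a => Multiplicative.toAdd.injective (by ext <;> simp)
      map_mul' := fun a b => Multiplicative.toAdd.injective (Prod.ext (by simp; ring) (by simp)) }
  have hpow : ∀ (n : ℕ) (i j : ZMod p), (σ ^ n) (.ofAdd (i, j)) = .ofAdd (i + (n : ZMod p) * j, j) := by
    intro n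
    induction n with
    | zero => intro i j; simp
    | succ n ih =>
      intro i j
      rw [pow_succ, MulAut.mul_apply, show σ (.ofAdd (i, j)) = .ofAdd (i + j, j) from rfl, ih]
      congr 2
      push_cast
      ring
  refine ⟨MulAut.congr E σ, ?_, fun i j => ?_⟩
  · rw [MulEquiv.orderOf_eq (MulAut.congr E)]
    refine orderOf_eq_prime (MulEquiv.ext fun a => ?_) fun h => ?_
    · obtain ⟨⟨i, j⟩, rfl⟩ := Multiplicative.ofAdd.surjective a
      rw [hpow, ZMod.natCast_self, zero_mul, add_zero]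
      rfl
    · have h2 := DFunLike.congr_fun h (Multiplicative.ofAdd ((0 : ZMod p), (1 : ZMod p)))
      have h3 := congrArg (fun a : Multiplicative (ZMod p × ZMod p) => (Multiplicative.toAdd a).1) h2
      simp [σ] at h3
  · simp [MulAut.congr, σ]

/-- Let p be an odd prime and G a finite group with a Sylow p-subgroup P that is extraspecial of order p³ and exponent p. Suppose P contains three distinct subgroups A of order p² (each is elementary abelian of rank 2) such that every automorphism of A of order p is induced by conjugation by an element of G; equivalently the automorphism group induced on A by its normalizer contains the special linear group of A. Then p ≤ 13. -/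
theorem result {G : Type*} [Group G] [Finite G]
    {p : ℕ} [Fact p.Prime] (hp : p ≠ 2) (P : Sylow p G) (hE : Cfsg.IsExtraspecial p ↥P)
    (hcard : Nat.card P = p ^ 3) (hexp : Monoid.exponent ↥P = p)
    (A : Fin 3 → Subgroup G) (hA : Function.Injective A) (hAP : ∀ i, A i ≤ (P : Subgroup G))
    (hAcard : ∀ i, Nat.card ↥(A i) = p ^ 2)
    (hSL : ∀ i, ∀ φ : MulAut ↥(A i), orderOf φ = p → ∃ g : G, ∀ a : ↥(A i), (φ a : G) = g * (a : G) * g⁻¹) :
    p ≤ 13 := by
    classical
    obtain ⟨F⟩ := exists_frame P hE hcard hexp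
    by_contra hp13
    have hpp := (Fact.out : p.Prime)
    have π1 : F.π 1 = 0 := by
      have := F.π_mul 1 1
      rw [one_mul] at this
      simpa using this.symm
    have πpow : ∀ (w) (n : ℕ), F.π (w ^ n) = (n : ZMod p) • F.π w := by
      intro w n
      induction n with
      | zero => rw [pow_zero, π1, Nat.cast_zero, zero_smul]
      | succ n ih => rw [pow_succ, F.π_mul, ih, Nat.cast_succ, add_smul, one_smul]
    have hxp : ∀ x ∈ P, x ^ p = 1 := by
      intro x hx
      have h := Monoid.pow_exponent_eq_one (⟨x, hx⟩ : ↥P)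
      rw [hexp] at h
      exact congrArg Subtype.val h
    -- the data of each plane
    have hplane : ∀ i, ∃ (x : G) (hx : x ∈ P), x ∈ A i ∧ F.π ⟨x, hx⟩ ≠ 0 ∧
        ∃ E : Multiplicative (ZMod p × ZMod p) ≃* ↥(A i), ∀ a b, ((E (.ofAdd (a, b)) : ↥(A i)) : G) = el F.z x a b := by
      intro i
      have hcm : ∀ u v : ↥(A i), u * v = v * u := IsPGroup.commutative_of_card_eq_prime_sq (p := p) (hAcard i)
      obtain ⟨w, hw1, hw0⟩ : ∃ w : ↥(A i), w ≠ 1 ∧ F.π ⟨w, hAP i w.2⟩ = 0 := by
        by_contra h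
        push Not at h
        let ψ : ↥(A i) → (Fin 2 → ZMod p) := fun w => F.π ⟨w, hAP i w.2⟩
        have hψm : ∀ u v, ψ (u * v) = ψ u + ψ v := fun u v => F.π_mul ⟨u, hAP i u.2⟩ ⟨v, hAP i v.2⟩
        have hinj : Function.Injective ψ := fun u v huv => by
          by_contra hne
          have h1 : ψ (u * v⁻¹) + ψ v = ψ v := by rw [← hψm, inv_mul_cancel_right]; exact huv
          exact h (u * v⁻¹) (fun e => hne (mul_inv_eq_one.1 e)) (add_eq_right.1 h1)
        have hbij := hinj.bijective_of_nat_card_le (le_of_eq (by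
          rw [hAcard i, Nat.card_fun, Nat.card_zmod, Nat.card_fin]))
        obtain ⟨u, hu⟩ := hbij.2 ![1, 0]
        obtain ⟨v, hv⟩ := hbij.2 ![0, 1]
        have := (F.π_comm ⟨u, hAP i u.2⟩ ⟨v, hAP i v.2⟩).2 (congrArg Subtype.val (hcm u v))
        change ψ u 0 * ψ v 1 - ψ u 1 * ψ v 0 = 0 at this
        rw [hu, hv] at this
        simp at this
      obtain ⟨r, hr⟩ := (F.π_zero _).1 hw0
      have hr0 : r ≠ 0 := fun e => hw1 (Subtype.ext (by rw [e, pw_zero] at hr; exact hr))
      have hzA : F.z ∈ A i := by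
        have h1 : pw (w : G) r⁻¹ = F.z := by
          rw [show (w : G) = pw F.z r from hr, pw, ← pw_mul F.hzp, mul_inv_cancel₀ hr0, pw_one]
        rw [← h1]
        exact pow_mem w.2 _
      obtain ⟨x, hxA, hx0⟩ : ∃ (x : G) (hxA : x ∈ A i), F.π ⟨x, hAP i hxA⟩ ≠ 0 := by
        by_contra h
        push Not at h
        have hle : A i ≤ Subgroup.zpowers F.z := fun x hxA => by
          obtain ⟨s, hs⟩ := (F.π_zero _).1 (h x hxA)
          rw [show x = pw F.z s from hs]
          exact pow_mem (Subgroup.mem_zpowers _) _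
        have h2 := Subgroup.card_le_of_le hle
        rw [hAcard i, Nat.card_zpowers] at h2
        have h3 := Nat.le_of_dvd hpp.pos (orderOf_dvd_of_pow_eq_one F.hzp)
        have := hpp.one_lt
        nlinarith
      have hc : Commute F.z x := (F.hzc x (hAP i hxA)).symm
      have hxpp := hxp x (hAP i hxA)
      let f : Multiplicative (ZMod p × ZMod p) →* ↥(A i) := MonoidHom.mk' (fun a =>
          ⟨el F.z x a.toAdd.1 a.toAdd.2, mul_mem (pow_mem hzA _) (pow_mem hxA _)⟩)
        (fun a b => Subtype.ext (el_mul F.hzp hxpp hc _ _ _ _).symm)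
      have hinj : Function.Injective f := (injective_iff_map_eq_one f).2 fun a ha => by
        have ha' : el F.z x a.toAdd.1 a.toAdd.2 = 1 := congrArg Subtype.val ha
        have h0 : F.π (⟨F.z, F.hzP⟩ ^ a.toAdd.1.val * ⟨x, hAP i hxA⟩ ^ a.toAdd.2.val) = 0 := by
          rw [show (⟨F.z, F.hzP⟩ : ↥P) ^ a.toAdd.1.val * ⟨x, hAP i hxA⟩ ^ a.toAdd.2.val = 1 from Subtype.ext ha', π1]
        rw [F.π_mul, (F.π_zero (⟨F.z, F.hzP⟩ ^ a.toAdd.1.val)).2 ⟨a.toAdd.1, by simp [pw]⟩, zero_add, πpow,
          ZMod.natCast_val, ZMod.cast_id, smul_eq_zero, or_iff_left hx0] at h0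
        rw [h0, el, pw_zero, mul_one] at ha'
        have h1 : a.toAdd.1 = 0 := by
          have h2 := orderOf_eq_prime F.hzp F.hz1
          have h3 : p ∣ a.toAdd.1.val := (dvd_of_eq h2.symm).trans (orderOf_dvd_of_pow_eq_one ha')
          exact (ZMod.val_eq_zero _).1 (Nat.eq_zero_of_dvd_of_lt h3 (ZMod.val_lt _))
        exact Multiplicative.toAdd.injective (Prod.ext h1 h0)
      have hbij := hinj.bijective_of_nat_card_le (le_of_eq (by
        rw [hAcard i, Nat.card_congr Multiplicative.toAdd, Nat.card_prod, Nat.card_zmod, pow_two]))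
      exact ⟨x, hAP i hxA, hxA, hx0, MulEquiv.ofBijective f hbij, fun a b => rfl⟩
    choose x hxP hxA hx0 E hE' using hplane
    let pt : Fin 3 → CfsgLib.Lie.ProjLine.Pt (ZMod p) := fun i => Projectivization.mk _ _ (hx0 i)
    have hsub : ∀ i j, pt i = pt j → A i ≤ A j := by
      intro i j h a ha
      obtain ⟨c, hc⟩ := (Projectivization.mk_eq_mk_iff' _ _ _ (hx0 i) (hx0 j)).1 h
      obtain ⟨⟨⟨u, v⟩, huv⟩⟩ : Nonempty {q : ZMod p × ZMod p // E i (.ofAdd q) = ⟨a, ha⟩} :=
        ⟨⟨((E i).symm ⟨a, ha⟩).toAdd, by simp⟩⟩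
      have h0 : F.π (⟨x i, hxP i⟩ * (⟨x j, hxP j⟩ ^ c.val)⁻¹) = 0 := by
        have h1 : F.π (⟨x i, hxP i⟩ * (⟨x j, hxP j⟩ ^ c.val)⁻¹) + F.π (⟨x j, hxP j⟩ ^ c.val) = F.π ⟨x i, hxP i⟩ := by
          rw [← F.π_mul, inv_mul_cancel_right]
        rw [πpow ⟨x j, hxP j⟩, ZMod.natCast_val, ZMod.cast_id, hc] at h1
        simpa using h1
      obtain ⟨s, hs⟩ := (F.π_zero _).1 h0
      have hzj : F.z ∈ A j := by
        have := (E j (.ofAdd ((1 : ZMod p), (0 : ZMod p)))).2
        rwa [hE', el, pw_one, pw_zero, mul_one] at this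
      have hxi : x i ∈ A j := by
        simp only [Subgroup.coe_mul, Subgroup.coe_inv, Subgroup.coe_pow] at hs
        rw [show x i = pw F.z s * x j ^ c.val by rw [← hs, inv_mul_cancel_right]]
        exact mul_mem (pow_mem hzj _) (pow_mem (hxA j) _)
      have hae : el F.z (x i) u v = a := (hE' i u v).symm.trans (congrArg Subtype.val huv)
      rw [← hae]
      exact mul_mem (pow_mem hzj _) (pow_mem hxi _)
    have hpt : Function.Injective pt := fun i j h => hA (le_antisymm (hsub i j h) (hsub j i h.symm))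
    have hcardX : (Finset.univ.image pt).card = 3 := by
      rw [Finset.card_image_of_injective _ hpt]
      rfl
    have h17 : 17 ≤ p := by
      by_contra h
      have : p = 14 ∨ p = 15 ∨ p = 16 := by omega
      rcases this with rfl | rfl | rfl <;> norm_num at hpp
    refine bound P hp F hexp (Finset.univ.image pt) (by omega) (Or.inl h17) fun q hq => ?_
    obtain ⟨i, -, rfl⟩ := Finset.mem_image.1 hq
    obtain ⟨φ, hφ, hφa⟩ := shear_aut (E i)
    obtain ⟨u, hu⟩ := hSL i φ hφ
    let sw : Multiplicative (ZMod p × ZMod p) ≃* Multiplicative (ZMod p × ZMod p) :=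
      AddEquiv.toMultiplicative AddEquiv.prodComm
    obtain ⟨φ', hφ', hφa'⟩ := shear_aut (sw.trans (E i))
    obtain ⟨l, hl⟩ := hSL i φ' hφ'
    have e1 : ∀ a b : ZMod p, u * el F.z (x i) a b * u⁻¹ = el F.z (x i) (a + b) b := by
      intro a b
      rw [← hE' i a b, ← hu, hφa, hE']
    have e2 : ∀ a b : ZMod p, l * el F.z (x i) a b * l⁻¹ = el F.z (x i) a (b + a) := by
      intro a b
      rw [← hE' i a b, ← hl, show E i (.ofAdd (a, b)) = (sw.trans (E i)) (.ofAdd (b, a)) from rfl, hφa',
        show (sw.trans (E i)) (.ofAdd (b + a, a)) = E i (.ofAdd (a, b + a)) from rfl, hE']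
    refine ⟨x i, hxP i, hx0 i, u, l, rfl, ?_, ?_, ?_, ?_⟩
    · simpa [el, pw_one, pw_zero] using e1 1 0
    · simpa [el, pw_one, pw_zero] using e1 0 1
    · simpa [el, pw_one, pw_zero] using e2 0 1
    · simpa [el, pw_one, pw_zero] using e2 1 0

end Cfsg.Agent.S3054
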