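import Cfsg.Statements.S3055
import Cfsg.Agent.Inv.CubeTorus

set_option autoImplicit false
open Cfsg

namespace Cfsg.Agent.S3055

open CfsgLib.Inv CubeTorus Matrix

/-- Let p be an odd prime and G a finite group with a Sylow p-subgroup P that is extraspecial of order p³ and exponent p. If all nonidentity elements of P are conjugate in G, then p ≤ 7. -/
theorem result {G : Type*} [Group G] [Finite G]
    {p : ℕ} [Fact p.Prime] (hp : p ≠ 2) (P : Sylow p G) (hE : Cfsg.IsExtraspecial p ↥P)
    (hcard : Nat.card P = p ^ 3) (hexp : Monoid.exponent ↥P = p)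
    (hconj : ∀ x y : ↥P, x ≠ 1 → y ≠ 1 → ∃ g : G, g * (x : G) * g⁻¹ = (y : G)) :
    p ≤ 7 := by
    classical
    obtain ⟨F⟩ := exists_frame P hE hcard hexp
    by_contra hp7
    have hpp := (Fact.out : p.Prime)
    haveI : Finite (CfsgLib.Lie.ProjLine.Pt (ZMod p)) := inferInstance
    haveI : Fintype (CfsgLib.Lie.ProjLine.Pt (ZMod p)) := Fintype.ofFinite _
    have hcardX : (Finset.univ : Finset (CfsgLib.Lie.ProjLine.Pt (ZMod p))).card = p + 1 := by
      rw [Finset.card_univ, ← Nat.card_eq_fintype_card,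
        Projectivization.card_of_finrank_two (ZMod p) (Fin 2 → ZMod p) (by simp), Nat.card_zmod]
    have hcases : p = 11 ∨ 13 ≤ p := by
      by_contra h
      push Not at h
      have : p = 8 ∨ p = 9 ∨ p = 10 ∨ p = 12 := by omega
      rcases this with rfl | rfl | rfl | rfl <;> norm_num at hpp
    refine bound P hp F hexp Finset.univ (by omega) ?_ fun pt _ => ?_
    · rcases hcases with h | h
      · exact Or.inr (Or.inl h)
      · exact Or.inr (Or.inr ⟨by omega, by omega⟩)
    induction pt using Projectivization.ind with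
    | h v hv =>
      obtain ⟨⟨x, hx⟩, rfl⟩ := F.π_surj v
      have hnc : ¬ ∃ i : ZMod p, x = pw F.z i := fun h => hv ((F.π_zero _).2 h)
      obtain ⟨y, hy, hyx⟩ := F.comm_surj x hx hnc 1
      rw [pw_one] at hyx
      have hyz : y * F.z * y⁻¹ = F.z := by rw [(F.hzc y hy).eq, mul_inv_cancel_right]
      have hx1 : (⟨x, hx⟩ : ↥P) ≠ 1 := by
        intro h
        have h' : x = 1 := congrArg Subtype.val h
        exact hnc ⟨0, by rw [h', pw_zero]⟩
      obtain ⟨g, hg⟩ := hconj ⟨F.z, F.hzP⟩ ⟨x, hx⟩ (fun h => F.hz1 (congrArg Subtype.val h)) hx1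
      let C := Subgroup.centralizer ({x} : Set G)
      have hQC : ((MulAut.conj g • P : Sylow p G) : Subgroup G) ≤ C := by
        intro q hq
        rw [Sylow.pointwise_smul_def] at hq
        obtain ⟨w, hw, rfl⟩ := hq
        refine Subgroup.mem_centralizer_iff.2 fun a ha => ?_
        rw [Set.mem_singleton_iff.1 ha, show x = g * F.z * g⁻¹ from hg.symm]
        show g * F.z * g⁻¹ * (g * w * g⁻¹) = g * w * g⁻¹ * (g * F.z * g⁻¹)
        calc g * F.z * g⁻¹ * (g * w * g⁻¹) = g * (F.z * w) * g⁻¹ := by group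
          _ = g * (w * F.z) * g⁻¹ := by rw [(F.hzc w hw).eq]
          _ = _ := by group
      have hzC : F.z ∈ C := by
        refine Subgroup.mem_centralizer_iff.2 fun a ha => ?_
        rw [Set.mem_singleton_iff.1 ha]
        exact (F.hzc x hx).eq
      obtain ⟨R, hR⟩ := ((P.2.to_le inf_le_left : IsPGroup p ↥((P : Subgroup G) ⊓ C)).comap_of_injective C.subtype
        C.subtype_injective).exists_le_sylow
      obtain ⟨k, hk⟩ := MulAction.exists_smul_eq C ((MulAut.conj g • P).subtype hQC) R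
      have hzR : (⟨F.z, hzC⟩ : C) ∈ (R : Subgroup C) := hR (Subgroup.mem_comap.2 ⟨F.hzP, hzC⟩)
      rw [← hk, Sylow.coe_subgroup_smul] at hzR
      obtain ⟨q, hq, hqz⟩ := hzR
      have hq' : (q : G) ∈ ((MulAut.conj g • P : Sylow p G) : Subgroup G) := hq
      rw [Sylow.pointwise_smul_def] at hq'
      obtain ⟨w, hw, hwq⟩ := hq'
      have hzw : (k : G) * g * w * ((k : G) * g)⁻¹ = F.z := by
        have h1 : (k : G) * (q : G) * (k : G)⁻¹ = F.z := congrArg Subtype.val hqz
        rw [← h1, ← hwq]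
        show _ = (k : G) * (g * w * g⁻¹) * (k : G)⁻¹
        group
      have hzx : (k : G) * g * F.z * ((k : G) * g)⁻¹ = x := by
        have h1 := Subgroup.mem_centralizer_iff.1 k.2 x rfl
        calc (k : G) * g * F.z * ((k : G) * g)⁻¹ = (k : G) * (g * F.z * g⁻¹) * (k : G)⁻¹ := by group
          _ = _ := by rw [show g * F.z * g⁻¹ = x from hg, ← h1, mul_inv_cancel_right]
      have hwnc : ¬ ∃ i : ZMod p, w = pw F.z i := by
        rintro ⟨i, rfl⟩
        have h1 : F.z = pw x i := by
          rw [← hzw, pw, pw, ← conj_pow, hzx]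
        have π1 : F.π 1 = 0 := by
          have := F.π_mul 1 1
          rw [one_mul] at this
          simpa using this.symm
        have πpow : ∀ n : ℕ, F.π (⟨x, hx⟩ ^ n) = (n : ZMod p) • F.π ⟨x, hx⟩ := by
          intro n
          induction n with
          | zero => rw [pow_zero, π1, Nat.cast_zero, zero_smul]
          | succ n ih => rw [pow_succ, F.π_mul, ih, Nat.cast_succ, add_smul, one_smul]
        have h2 : F.π (⟨x, hx⟩ ^ i.val) = 0 :=
          (F.π_zero _).2 ⟨1, by rw [pw_one, h1]; rfl⟩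
        rw [πpow, ZMod.natCast_val, ZMod.cast_id, smul_eq_zero] at h2
        rcases h2 with h2 | h2
        · rw [h2, pw_zero] at h1
          exact F.hz1 h1
        · exact hv h2
      obtain ⟨y', hy', hyw⟩ := F.comm_surj w hw hwnc 1
      rw [pw_one] at hyw
      have hy'z : y' * F.z * y'⁻¹ = F.z := by rw [(F.hzc y' hy').eq, mul_inv_cancel_right]
      refine ⟨x, hx, hv, y, (k : G) * g * y' * ((k : G) * g)⁻¹, rfl, hyz, hyx, ?_, ?_⟩
      · calc (k : G) * g * y' * ((k : G) * g)⁻¹ * x * ((k : G) * g * y' * ((k : G) * g)⁻¹)⁻¹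
            = (k : G) * g * y' * ((k : G) * g)⁻¹ * ((k : G) * g * F.z * ((k : G) * g)⁻¹) *
                ((k : G) * g * y' * ((k : G) * g)⁻¹)⁻¹ := by rw [hzx]
          _ = (k : G) * g * (y' * F.z * y'⁻¹) * ((k : G) * g)⁻¹ := by group
          _ = x := by rw [hy'z, hzx]
      · rw [(F.hzc x hx).symm.eq]
        calc (k : G) * g * y' * ((k : G) * g)⁻¹ * F.z * ((k : G) * g * y' * ((k : G) * g)⁻¹)⁻¹
            = (k : G) * g * y' * ((k : G) * g)⁻¹ * ((k : G) * g * w * ((k : G) * g)⁻¹) *
                ((k : G) * g * y' * ((k : G) * g)⁻¹)⁻¹ := by rw [hzw]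
          _ = (k : G) * g * (y' * w * y'⁻¹) * ((k : G) * g)⁻¹ := by group
          _ = ((k : G) * g * F.z * ((k : G) * g)⁻¹) * ((k : G) * g * w * ((k : G) * g)⁻¹) := by rw [hyw]; group
          _ = x * F.z := by rw [hzx, hzw]

end Cfsg.Agent.S3055
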