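import Cfsg.Statements.S3056
import Cfsg.Agent.Solv.Basic

set_option autoImplicit false
open Cfsg

namespace Cfsg.Agent.S3056

/-- Let G be a finite group and p a prime. Join two Sylow p-subgroups when they are distinct and meet nontrivially. This graph on the Sylow p-subgroups is disconnected (the Sylow p-subgroups are not chain-connected through nontrivial intersections) if and only if G has a strongly p-embedded subgroup in the classical sense: a proper subgroup H of order divisible by p such that H ∩ gHg⁻¹ has order prime to p for every g outside H. -/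
theorem result {G : Type*} [Group G] [Finite G]
    (p : ℕ) [Fact p.Prime] :
    ¬ Cfsg.IsSylowChainConnected p G ↔
      ∃ H : Subgroup G, H ≠ ⊤ ∧ p ∣ Nat.card H ∧
        ∀ g : G, g ∉ H → ¬ p ∣ Nat.card ↥(H ⊓ H.map (MulAut.conj g).toMonoidHom) := by
  open scoped Pointwise in
  exact (by
    let R : Sylow p G → Sylow p G → Prop := fun A B => (A : Subgroup G) ⊓ (B : Subgroup G) ≠ ⊥
    let E := Relation.EqvGen R
    have hconn : Cfsg.IsSylowChainConnected p G ↔ ∀ A B, E A B := by
      constructor
      · intro h A B
        obtain ⟨n, c, h0, hl, -, hadj⟩ := h A B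
        have key : ∀ i : Fin (n + 1), E A (c i) := by
          intro i
          induction i using Fin.induction with
          | zero => rw [h0]; exact Relation.EqvGen.refl _
          | succ i ih => exact Relation.EqvGen.trans _ _ _ ih (Relation.EqvGen.rel _ _ (hadj i).2)
        exact hl ▸ key (Fin.last n)
      · intro h S T
        by_cases hST : S = T
        · exact ⟨0, fun _ => S, rfl, hST, fun _ => inf_le_left, fun i => i.elim0⟩
        by_cases hD : (S : Subgroup G) ⊓ (T : Subgroup G) = ⊥
        · let R' : Sylow p G → Sylow p G → Prop := fun A B => A ≠ B ∧ R A B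
          haveI hRsymm : Std.Symm R' := ⟨fun A B hab => ⟨hab.1.symm, by
            show (B : Subgroup G) ⊓ (A : Subgroup G) ≠ ⊥
            rw [inf_comm]; exact hab.2⟩⟩
          have hgen : ∀ A B, E A B → Relation.ReflTransGen R' A B := by
            intro A B hab
            induction hab with
            | rel A B hab =>
              by_cases e : A = B
              · rw [e]
              · exact Relation.ReflTransGen.single ⟨e, hab⟩
            | refl A => exact Relation.ReflTransGen.refl
            | symm A B _ ih => exact (Relation.ReflTransGen.stdSymm (r := R')).symm _ _ ih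
            | trans A B C _ _ ih1 ih2 => exact ih1.trans ih2
          have hmk : ∀ B, Relation.ReflTransGen R' S B → ∃ (n : ℕ) (c : Fin (n + 1) → Sylow p G),
              c 0 = S ∧ c (Fin.last n) = B ∧ ∀ i : Fin n, R' (c i.castSucc) (c i.succ) := by
            intro B hB
            induction hB with
            | refl => exact ⟨0, fun _ => S, rfl, rfl, fun i => i.elim0⟩
            | @tail B C _ hBC ih =>
              obtain ⟨n, c, h0, hl, hadj⟩ := ih
              refine ⟨n + 1, Fin.snoc c C, by rw [← Fin.castSucc_zero, Fin.snoc_castSucc, h0], Fin.snoc_last _ _,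
                fun i => ?_⟩
              induction i using Fin.lastCases with
              | last => rw [Fin.snoc_castSucc, hl, Fin.succ_last, Fin.snoc_last]; exact hBC
              | cast i => rw [Fin.snoc_castSucc, ← Fin.castSucc_succ, Fin.snoc_castSucc]; exact hadj i
          obtain ⟨n, c, h0, hl, hadj⟩ := hmk T (hgen S T (h S T))
          exact ⟨n, c, h0, hl, fun i => by rw [hD]; exact bot_le, hadj⟩
        · refine ⟨1, ![S, T], rfl, rfl, fun i => ?_, fun i => ?_⟩
          · fin_cases i
            · exact inf_le_left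
            · exact inf_le_right
          · fin_cases i
            exact ⟨hST, hD⟩
    have hmemE : ∀ (x : G), x ≠ 1 → ∀ A B : Sylow p G, x ∈ (A : Subgroup G) → x ∈ (B : Subgroup G) → E A B :=
      fun x hx A B hA hB => Relation.EqvGen.rel _ _ fun e => hx (by
        have : x ∈ (A : Subgroup G) ⊓ (B : Subgroup G) := Subgroup.mem_inf.2 ⟨hA, hB⟩
        rwa [e, Subgroup.mem_bot] at this)
    rw [hconn]
    constructor
    · intro h
      obtain ⟨S⟩ := (inferInstance : Nonempty (Sylow p G))
      have hsmul : ∀ (g : G) A B, E A B → E (g • A) (g • B) := by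
        intro g A B hab
        induction hab with
        | rel A B hab =>
          refine Relation.EqvGen.rel _ _ ?_
          show ((g • A : Sylow p G) : Subgroup G) ⊓ ((g • B : Sylow p G) : Subgroup G) ≠ ⊥
          rw [Sylow.coe_subgroup_smul, Sylow.coe_subgroup_smul, ← Subgroup.smul_inf]
          intro e
          exact hab (MulAction.injective (MulAut.conj g) (e.trans (Subgroup.smul_bot _).symm))
        | refl A => exact Relation.EqvGen.refl _
        | symm A B _ ih => exact Relation.EqvGen.symm _ _ ih
        | trans A B C _ _ ih1 ih2 => exact Relation.EqvGen.trans _ _ _ ih1 ih2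
      let H : Subgroup G :=
        { carrier := {g | E (g • S) S}
          one_mem' := by show E ((1 : G) • S) S; rw [one_smul]; exact Relation.EqvGen.refl _
          mul_mem' := fun {a b} ha hb => by
            show E ((a * b) • S) S
            rw [mul_smul]; exact Relation.EqvGen.trans _ _ _ (hsmul a _ _ hb) ha
          inv_mem' := fun {a} ha => by
            show E (a⁻¹ • S) S
            have := hsmul a⁻¹ _ _ ha
            rw [inv_smul_smul] at this
            exact Relation.EqvGen.symm _ _ this }
      have hSH : (S : Subgroup G) ≤ H := fun s hs => by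
        show E (s • S) S
        rw [Sylow.smul_eq_iff_mem_normalizer.2 (Subgroup.le_normalizer hs)]
        exact Relation.EqvGen.refl _
      have hHtop : H ≠ ⊤ := fun e => h fun A B => by
        obtain ⟨a, rfl⟩ := MulAction.exists_smul_eq G S A
        obtain ⟨b, rfl⟩ := MulAction.exists_smul_eq G S B
        have ha : a ∈ H := e ▸ Subgroup.mem_top a
        have hb : b ∈ H := e ▸ Subgroup.mem_top b
        exact Relation.EqvGen.trans _ _ _ ha (Relation.EqvGen.symm _ _ hb)
      have hdiv : p ∣ Nat.card G := by
        by_contra hp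
        refine h fun A B => ?_
        have hb : ∀ A : Sylow p G, (A : Subgroup G) = ⊥ := fun A => Subgroup.card_eq_one.1 (by
          obtain ⟨k, hk⟩ := IsPGroup.iff_card.1 A.2
          rcases Nat.eq_zero_or_pos k with rfl | hk0
          · simpa using hk
          · exact absurd ((dvd_pow_self p hk0.ne').trans (hk ▸ Subgroup.card_subgroup_dvd_card _)) hp)
        rw [show A = B from Sylow.ext (by rw [hb, hb])]
        exact Relation.EqvGen.refl _
      refine ⟨H, hHtop, (S.dvd_card_of_dvd_card hdiv).trans (Subgroup.card_dvd_of_le hSH), fun g hg hdvd => hg ?_⟩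
      obtain ⟨⟨u, hu⟩, huo⟩ := exists_prime_orderOf_dvd_card' (G := ↥(H ⊓ H.map (MulAut.conj g).toMonoidHom)) p hdvd
      rw [Subgroup.orderOf_mk] at huo
      have hu1 : u ≠ 1 := fun e => (Fact.out : p.Prime).ne_one (by rw [← huo, e, orderOf_one])
      -- every p-element of H is in a Sylow subgroup linked to S
      have hin : ∀ v ∈ H, orderOf v = p → ∃ A : Sylow p G, v ∈ (A : Subgroup G) ∧ E A S := by
        intro v hv hvo
        have hvp : IsPGroup p ((Subgroup.zpowers v).subgroupOf H) :=
          (IsPGroup.of_card (n := 1) (by rw [Nat.card_zpowers, hvo, pow_one])).comap_subtype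
        obtain ⟨T, hT⟩ := hvp.exists_le_sylow
        obtain ⟨k, hk⟩ := MulAction.exists_smul_eq H (S.subtype hSH) T
        refine ⟨(k : G) • S, ?_, k.2⟩
        have := hT (show (⟨v, hv⟩ : H) ∈ (Subgroup.zpowers v).subgroupOf H from Subgroup.mem_zpowers v)
        rw [← hk, Sylow.coe_subgroup_smul, CfsgLib.Solv.mem_conj_smul_iff, Sylow.coe_subtype,
          Subgroup.mem_subgroupOf] at this
        rw [Sylow.coe_subgroup_smul, CfsgLib.Solv.mem_conj_smul_iff]
        exact this
      obtain ⟨A, hA, hAS⟩ := hin u (Subgroup.mem_inf.1 hu).1 huo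
      have hu' := CfsgLib.Solv.mem_map_conj_iff.1 (Subgroup.mem_inf.1 hu).2
      obtain ⟨B, hB, hBS⟩ := hin _ hu' (by
        rw [show g⁻¹ * u * g = MulAut.conj g⁻¹ u by simp, MulEquiv.orderOf_eq, huo])
      have hgB : u ∈ ((g • B : Sylow p G) : Subgroup G) := by
        rw [Sylow.coe_subgroup_smul, CfsgLib.Solv.mem_conj_smul_iff]; exact hB
      show E (g • S) S
      exact Relation.EqvGen.trans _ _ _ (Relation.EqvGen.symm _ _ (hsmul g _ _ hBS))
        (Relation.EqvGen.trans _ _ _ (hmemE u hu1 _ _ hgB hA) hAS)
    · rintro ⟨H, hH, hpH, hse⟩ hall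
      have hgrow : ∀ A : Sylow p G, (A : Subgroup G) ⊓ H ≠ ⊥ → (A : Subgroup G) ≤ H := by
        intro A hne
        by_contra hle
        set D := (A : Subgroup G) ⊓ H with hD
        haveI := A.2.isNilpotent
        obtain ⟨a, ha, haD⟩ := SetLike.exists_of_lt (Group.normalizerCondition_of_isNilpotent
          (D.subgroupOf (A : Subgroup G)) (lt_top_iff_ne_top.2 fun e =>
            hle (fun x hx => (Subgroup.mem_inf.1 ((Subgroup.subgroupOf_eq_top.1 e) hx)).2)))
        have haH : (a : G) ∉ H := fun h => haD (Subgroup.mem_inf.2 ⟨a.2, h⟩)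
        haveI : Nontrivial D := (Subgroup.nontrivial_iff_ne_bot _).2 hne
        obtain ⟨k, hk, hcard⟩ := (A.2.to_le inf_le_left : IsPGroup p D).nontrivial_iff_card.1 inferInstance
        refine hse a haH ((dvd_pow_self p hk.ne').trans (hcard ▸ Subgroup.card_dvd_of_le (le_inf inf_le_right ?_)))
        intro x hx
        rw [CfsgLib.Solv.mem_map_conj_iff]
        exact (Subgroup.mem_inf.1 ((Subgroup.mem_normalizer_iff''.1 ha ⟨x, (Subgroup.mem_inf.1 hx).1⟩).1 hx :
          (a : G)⁻¹ * x * a ∈ D)).2
      obtain ⟨⟨v, hv⟩, hvo⟩ := exists_prime_orderOf_dvd_card' (G := H) p hpH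
      rw [Subgroup.orderOf_mk] at hvo
      obtain ⟨A, hA⟩ := (IsPGroup.of_card (n := 1) (G := Subgroup.zpowers v) (p := p)
        (by rw [Nat.card_zpowers, hvo, pow_one])).exists_le_sylow
      have hv1 : v ≠ 1 := fun e => (Fact.out : p.Prime).ne_one (by rw [← hvo, e, orderOf_one])
      have hAH : (A : Subgroup G) ≤ H := hgrow A fun e => hv1 (by
        have : v ∈ (A : Subgroup G) ⊓ H := Subgroup.mem_inf.2 ⟨hA (Subgroup.mem_zpowers v), hv⟩
        rwa [e, Subgroup.mem_bot] at this)
      have hinv : ∀ X Z, E X Z → ((X : Subgroup G) ≤ H ↔ (Z : Subgroup G) ≤ H) := by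
        intro X Z hXZ
        induction hXZ with
        | rel X Z hXZ =>
          constructor
          · intro h; exact hgrow Z fun e => hXZ (le_bot_iff.1 (e ▸ le_inf inf_le_right (inf_le_left.trans h)))
          · intro h; exact hgrow X fun e => hXZ (le_bot_iff.1 (e ▸ le_inf inf_le_left (inf_le_right.trans h)))
        | refl X => exact Iff.rfl
        | symm X Z _ ih => exact ih.symm
        | trans X Y Z _ _ ih1 ih2 => exact ih1.trans ih2
      obtain ⟨g, hg⟩ : ∃ g, g ∉ H := by
        by_contra h
        push Not at h
        exact hH (top_le_iff.1 fun g _ => h g)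
      have hgA : ((g⁻¹ • A : Sylow p G) : Subgroup G) ≤ H := (hinv A _ (hall A _)).1 hAH
      refine hse g hg ?_
      have hle : Subgroup.zpowers v ≤ H ⊓ H.map (MulAut.conj g).toMonoidHom := by
        refine Subgroup.zpowers_le.2 (Subgroup.mem_inf.2 ⟨hv, CfsgLib.Solv.mem_map_conj_iff.2 (hgA ?_)⟩)
        rw [Sylow.coe_subgroup_smul, CfsgLib.Solv.mem_conj_smul_iff]
        simpa [mul_assoc] using hA (Subgroup.mem_zpowers v)
      have := Subgroup.card_dvd_of_le hle
      rwa [Nat.card_zpowers, hvo] at this)

end Cfsg.Agent.S3056
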