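import Cfsg.Statements.S3057
import Cfsg.Agent.S3056
import Cfsg.Agent.Solv.UniqueSub
import Cfsg.Agent.Solv.Generation
import Cfsg.Agent.Solv.PLengthOne
import Cfsg.Agent.Perm.HallHigman
import Cfsg.Agent.Base.PPrimeP

set_option autoImplicit false
open Cfsg

namespace Cfsg.Agent.S3057

open CfsgLib.Solv in
theorem eq_of_sq_quaternion {m : ℕ} {x : QuaternionGroup m} (hm : m ≠ 0) (hx : x ^ 2 = 1) (hx1 : x ≠ 1) :
    x = QuaternionGroup.a (m : ZMod (2 * m)) := by
  haveI : NeZero m := ⟨hm⟩
  haveI : NeZero (2 * m) := ⟨by omega⟩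
  cases x with
  | a i =>
    rw [pow_two, QuaternionGroup.a_mul_a, QuaternionGroup.one_def] at hx
    injection hx with hi
    congr 1
    have hval : (2 * m) ∣ 2 * i.val := by
      have : ((2 * i.val : ℕ) : ZMod (2 * m)) = 0 := by
        simpa [two_mul] using hi
      exact (ZMod.natCast_eq_zero_iff _ _).1 this
    obtain ⟨c, hc⟩ := Nat.dvd_of_mul_dvd_mul_left (by norm_num) hval
    have hlt : i.val < 2 * m := ZMod.val_lt i
    have hc2 : c < 2 := by
      rw [hc, mul_comm 2 m] at hlt; exact Nat.lt_of_mul_lt_mul_left hlt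
    interval_cases c
    · exfalso
      exact hx1 (by rw [show i = 0 from (ZMod.val_eq_zero i).1 (by simpa using hc)]; rfl)
    · rw [← ZMod.natCast_zmod_val i, hc, mul_one]
  | xa i =>
    exfalso
    have h4 : orderOf (QuaternionGroup.xa i : QuaternionGroup m) = 4 := QuaternionGroup.orderOf_xa i
    have := orderOf_dvd_of_pow_eq_one hx
    rw [h4] at this
    exact absurd this (by norm_num)

open CfsgLib.Solv in
open scoped Pointwise in
theorem chain_iff {G : Type*} [Group G] [Finite G] (p : ℕ) [hp : Fact p.Prime] (hdiv : p ∣ Nat.card G)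
    (hsol : Cfsg.IsPSolvable p G) (P : Sylow p G) :
    ¬ Cfsg.IsSylowChainConnected p G ↔
      Cfsg.pCore p G = ⊥ ∧ (IsCyclic ↥P ∨ (p = 2 ∧ ∃ n : ℕ, Nonempty (↥P ≃* QuaternionGroup (2 ^ n)))) := by
  rw [Cfsg.Agent.S3056.result p]
  obtain ⟨z, hz⟩ := exists_prime_orderOf_dvd_card' (G := P) p (P.dvd_card_of_dvd_card hdiv)
  constructor
  · rintro ⟨H, hH, hpH, hse⟩
    have key : ∀ u g : G, u ∈ H → orderOf u = p → g⁻¹ * u * g ∈ H → g ∈ H := by
      intro u g hu huo hug
      by_contra hg
      refine hse g hg ?_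
      rw [← huo, ← Nat.card_zpowers]
      exact Subgroup.card_dvd_of_le ((Subgroup.zpowers_le).2 (Subgroup.mem_inf.2
        ⟨hu, mem_map_conj_iff.2 hug⟩))
    have hcomm : ∀ u g : G, u ∈ H → orderOf u = p → g * u = u * g → g ∈ H := fun u g hu huo h =>
      key u g hu huo (by rwa [mul_assoc, ← h, inv_mul_cancel_left])
    obtain ⟨w, hw⟩ := exists_prime_orderOf_dvd_card' (G := H) p hpH
    rw [← Subgroup.orderOf_coe] at hw
    -- a conjugate of `P` inside `H`
    obtain ⟨Q, hQ⟩ := (IsPGroup.of_card (n := 1) (G := Subgroup.zpowers (w : G)) (p := p)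
      (by rw [Nat.card_zpowers, hw, pow_one])).exists_le_sylow
    have hQH : (Q : Subgroup G) ≤ H := by
      have hwQ : (w : G) ∈ (Q : Subgroup G) := hQ (Subgroup.mem_zpowers _)
      haveI : Nontrivial (Q : Subgroup G) := ⟨⟨⟨w, hwQ⟩, 1, fun h => by
        have h' : (w : G) = 1 := congrArg Subtype.val h
        rw [h', orderOf_one] at hw; exact hp.out.ne_one hw.symm⟩⟩
      haveI := Q.isPGroup'.center_nontrivial
      obtain ⟨k, hk⟩ := IsPGroup.iff_card.1 (Q.isPGroup'.to_subgroup (Subgroup.center (Q : Subgroup G)))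
      have hk0 : k ≠ 0 := by
        rintro rfl
        exact absurd hk (by simpa using (Finite.one_lt_card (α := Subgroup.center (Q : Subgroup G))).ne')
      obtain ⟨c, hc⟩ := exists_prime_orderOf_dvd_card' (G := Subgroup.center (Q : Subgroup G)) p
        (hk ▸ dvd_pow_self p hk0)
      rw [← Subgroup.orderOf_coe, ← Subgroup.orderOf_coe] at hc
      have hcQ : ∀ q ∈ (Q : Subgroup G), q * ((c : ↥Q) : G) = ((c : ↥Q) : G) * q := fun q hq =>
        congrArg Subtype.val (Subgroup.mem_center_iff.1 c.2 ⟨q, hq⟩)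
      have hcH : ((c : ↥Q) : G) ∈ H := hcomm w _ w.2 hw (hcQ _ hwQ).symm
      exact fun q hq => hcomm _ q hcH hc (hcQ q hq)
    have hcore : Cfsg.pCore p G = ⊥ := by
      by_contra h
      haveI := CfsgLib.Solv.pCore_normal G p
      obtain ⟨j, hj⟩ := IsPGroup.iff_card.1 (CfsgLib.Solv.pCore_isPGroup G p)
      have hj0 : j ≠ 0 := by rintro rfl; exact h (Subgroup.card_eq_one.1 (by simpa using hj))
      obtain ⟨u, hu⟩ := exists_prime_orderOf_dvd_card' (G := Cfsg.pCore p G) p (hj ▸ dvd_pow_self p hj0)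
      rw [← Subgroup.orderOf_coe] at hu
      have hle : Cfsg.pCore p G ≤ H := (CfsgLib.Solv.pCore_le_sylow Q).trans hQH
      exact hH (eq_top_iff.2 fun g _ => key u g (hle u.2) hu
        (hle (by simpa using (CfsgLib.Solv.pCore_normal G p).conj_mem _ u.2 g⁻¹)))
    refine ⟨hcore, ?_⟩
    set N := Cfsg.pPrimeCore p G with hN
    haveI : N.Normal := CfsgLib.Solv.pPrimeCore_normal G p
    suffices huniq : ∀ x y : ↥(Q : Subgroup G), orderOf x = p → orderOf y = p → y ∈ Subgroup.zpowers x by
      obtain ⟨g, rfl⟩ := MulAction.exists_smul_eq G Q P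
      have e : ↥(Q : Subgroup G) ≃* ↥((g • Q : Sylow p G) : Subgroup G) :=
        (Q.equivSMul g)
      rcases pgroup_unique_sub Q.isPGroup' huniq with h | ⟨h2, n, ⟨f⟩⟩
      · exact Or.inl (isCyclic_of_surjective e e.surjective)
      · exact Or.inr ⟨h2, n + 1, ⟨e.symm.trans f⟩⟩
    intro x y hx hy
    by_contra hne
    rw [← Subgroup.orderOf_coe] at hx hy
    -- a non-cyclic elementary abelian subgroup of `Q`
    haveI : Nontrivial (Q : Subgroup G) := ⟨⟨x, 1, fun h => by
      rw [h, OneMemClass.coe_one, orderOf_one] at hx; exact hp.out.ne_one hx.symm⟩⟩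
    haveI := Q.isPGroup'.center_nontrivial
    obtain ⟨k, hk⟩ := IsPGroup.iff_card.1 (Q.isPGroup'.to_subgroup (Subgroup.center (Q : Subgroup G)))
    have hk0 : k ≠ 0 := by
      rintro rfl
      exact absurd hk (by simpa using (Finite.one_lt_card (α := Subgroup.center (Q : Subgroup G))).ne')
    obtain ⟨c, hc⟩ := exists_prime_orderOf_dvd_card' (G := Subgroup.center (Q : Subgroup G)) p
      (hk ▸ dvd_pow_self p hk0)
    rw [← Subgroup.orderOf_coe] at hc
    have mem_of : ∀ a b : ↥(Q : Subgroup G), orderOf a = p → orderOf b = p →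
        b ∈ Subgroup.zpowers a → a ∈ Subgroup.zpowers b := fun a b ha hb h => by
      have e := Subgroup.eq_of_le_of_card_ge ((Subgroup.zpowers_le).2 h)
        (by rw [Nat.card_zpowers, Nat.card_zpowers, ha, hb])
      rw [e]; exact Subgroup.mem_zpowers a
    obtain ⟨v, hv, hvc⟩ : ∃ v : ↥(Q : Subgroup G), orderOf v = p ∧ v ∉ Subgroup.zpowers (c : ↥Q) := by
      by_contra h
      push Not at h
      rw [Subgroup.orderOf_coe] at hx hy
      exact hne ((Subgroup.zpowers_le).2 (mem_of _ x hc hx (h x hx)) (h y hy))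
    set E := Subgroup.closure ({((c : ↥Q) : G), (v : G)} : Set G) with hE
    haveI : IsMulCommutative E := Subgroup.isMulCommutative_closure (by
      have h : (v : G) * ((c : ↥Q) : G) = ((c : ↥Q) : G) * v :=
        congrArg Subtype.val (Subgroup.mem_center_iff.1 c.2 v)
      rintro a (rfl | rfl) b (rfl | rfl) <;> first | rfl | exact h | exact h.symm)
    have hcE : ((c : ↥Q) : G) ∈ E := Subgroup.subset_closure (Set.mem_insert _ _)
    have hvE : (v : G) ∈ E := Subgroup.subset_closure (Set.mem_insert_of_mem _ rfl)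
    have hEQ : E ≤ (Q : Subgroup G) := (Subgroup.closure_le _).2 (by
      rintro a (rfl | rfl)
      · exact (c : ↥Q).2
      · exact v.2)
    have hnc : ¬ IsCyclic E := by
      intro hcyc
      classical
      letI := Fintype.ofFinite E
      have hoc : orderOf (⟨_, hcE⟩ : E) = p := by rw [Subgroup.orderOf_mk, Subgroup.orderOf_coe, hc]
      have hov : orderOf (⟨_, hvE⟩ : E) = p := by rw [Subgroup.orderOf_mk, Subgroup.orderOf_coe, hv]
      have hz : (Finset.univ.filter fun e : E => e ∈ Subgroup.zpowers (⟨_, hcE⟩ : E)) =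
          Finset.univ.filter fun e : E => e ^ p = 1 := by
        refine Finset.eq_of_subset_of_card_le (fun e he => ?_)
          ((IsCyclic.card_pow_eq_one_le hp.out.pos).trans ?_)
        · obtain ⟨i, rfl⟩ := (Finset.mem_filter.1 he).2
          refine Finset.mem_filter.2 ⟨Finset.mem_univ _, ?_⟩
          rw [← zpow_natCast, zpow_comm, zpow_natCast, orderOf_dvd_iff_pow_eq_one.1 hoc.dvd, one_zpow]
        · refine le_of_eq (hoc.symm.trans ?_)
          rw [← Nat.card_zpowers, Nat.card_eq_fintype_card, Fintype.card_subtype]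
      have hv' : (⟨(v : G), hvE⟩ : E) ∈ Subgroup.zpowers (⟨_, hcE⟩ : E) := by
        have : (⟨(v : G), hvE⟩ : E) ∈ Finset.univ.filter fun e : E => e ^ p = 1 :=
          Finset.mem_filter.2 ⟨Finset.mem_univ _, orderOf_dvd_iff_pow_eq_one.1 hov.dvd⟩
        rw [← hz] at this
        exact (Finset.mem_filter.1 this).2
      obtain ⟨i, hi⟩ := hv'
      refine hvc ⟨i, Subtype.ext ?_⟩
      simpa using congrArg Subtype.val hi
    have hcen : ∀ e ∈ E, e ≠ 1 → Subgroup.centralizer {e} ≤ H := by
      intro e he he1 g hg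
      obtain ⟨j, hj⟩ := IsPGroup.iff_orderOf.1 Q.isPGroup' ⟨e, hEQ he⟩
      rw [Subgroup.orderOf_mk] at hj
      rcases j with _ | j
      · exact absurd (orderOf_eq_one_iff.1 (by simpa using hj)) he1
      refine hcomm (e ^ p ^ j) g (hQH (pow_mem (hEQ he) _)) ?_
        ((show Commute g e from Subgroup.mem_centralizer_singleton_iff.1 hg).pow_right _).eq
      rw [orderOf_pow_of_dvd (pow_ne_zero j hp.out.ne_zero) (hj ▸ pow_dvd_pow p (Nat.le_succ j)), hj,
        Nat.pow_div (Nat.le_succ j) hp.out.pos, Nat.succ_sub le_rfl, Nat.sub_self, pow_one]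
    have hNH : N ≤ H := le_of_noncyclic_centralizers (A := E) hnc
      (by rw [Subgroup.normalizer_eq_top]; exact le_top)
      (by
        obtain ⟨j, hj⟩ := IsPGroup.iff_card.1 (Q.isPGroup'.to_le hEQ)
        rw [hj]; exact (CfsgLib.Solv.pPrimeCore_coprime G p).symm.pow_left j)
      fun e he he1 => inf_le_right.trans (hcen e he he1)
    -- `O_{p',p}(G)` lies in `H` and has order divisible by `p`
    set M := Cfsg.pPrimePCore p G with hM
    haveI : M.Normal := CfsgLib.Base.PPrimeP.pPrimePCore_normal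
    have hMH : M ≤ H := by
      rw [hM, ← CfsgLib.Base.PPrimeP.sylow_sup_core Q]
      exact sup_le (inf_le_left.trans hQH) hNH
    have hpM : p ∣ Nat.card M := by
      by_contra hnd
      have hMN : M = N := le_antisymm
        (CfsgLib.Solv.le_pPrimeCore ((hp.out.coprime_iff_not_dvd.2 hnd).symm))
        CfsgLib.Base.PPrimeP.pPrimeCore_le
      haveI : Nontrivial (G ⧸ N) := by
        rw [← Finite.one_lt_card_iff_nontrivial, ← Subgroup.index_eq_card]
        refine Nat.one_lt_iff_ne_zero_and_ne_one.2 ⟨Subgroup.index_ne_zero_of_finite, fun h => ?_⟩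
        rw [Subgroup.index_eq_one] at h
        exact CfsgLib.Solv.not_dvd_card_pPrimeCore (G := G) (p := p)
          (by rw [← hN, h, Subgroup.card_top]; exact hdiv)
      refine CfsgLib.Solv.PLen.pPrimeCore_ne_bot_of_pCore_eq_bot
        (CfsgLib.Perm.isPSolvable_quotient hsol N) ?_ (CfsgLib.Solv.pPrimeCore_quotient_self (G := G) (p := p))
      rw [eq_bot_iff]
      intro q hq
      obtain ⟨g, rfl⟩ := QuotientGroup.mk'_surjective N q
      exact Subgroup.mem_bot.2 ((QuotientGroup.eq_one_iff g).2 (hMN ▸ (hq : g ∈ M)))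
    obtain ⟨u, hu⟩ := exists_prime_orderOf_dvd_card' (G := M) p hpM
    rw [← Subgroup.orderOf_coe] at hu
    exact hH (eq_top_iff.2 fun g _ => key u g (hMH u.2) hu
      (hMH (by simpa using ‹M.Normal›.conj_mem _ u.2 g⁻¹)))
  · rintro ⟨hcore, hP⟩
    -- every element of order p of `P` lies in the subgroup generated by `z`
    have huniq : ∀ x : ↥P, orderOf x = p → x ∈ Subgroup.zpowers z := by
      intro x hx
      rcases hP with hcyc | ⟨h2, n, ⟨f⟩⟩
      · classical
        haveI := hcyc
        letI := Fintype.ofFinite ↥P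
        have hsub : (Finset.univ.filter fun e : ↥P => e ∈ Subgroup.zpowers z) =
            Finset.univ.filter fun e : ↥P => e ^ p = 1 := by
          refine Finset.eq_of_subset_of_card_le (fun e he => ?_)
            ((IsCyclic.card_pow_eq_one_le hp.out.pos).trans ?_)
          · obtain ⟨i, rfl⟩ := (Finset.mem_filter.1 he).2
            refine Finset.mem_filter.2 ⟨Finset.mem_univ _, ?_⟩
            rw [← zpow_natCast, zpow_comm, zpow_natCast, orderOf_dvd_iff_pow_eq_one.1 hz.dvd, one_zpow]
          · refine le_of_eq (hz.symm.trans ?_)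
            rw [← Nat.card_zpowers, Nat.card_eq_fintype_card, Fintype.card_subtype]
            exact congrArg Finset.card (Finset.ext fun e => by simp)
        have : x ∈ Finset.univ.filter fun e : ↥P => e ^ p = 1 :=
          Finset.mem_filter.2 ⟨Finset.mem_univ _, orderOf_dvd_iff_pow_eq_one.1 hx.dvd⟩
        rw [← hsub] at this
        exact (Finset.mem_filter.1 this).2
      · subst h2
        have h : ∀ y : ↥P, orderOf y = 2 → f y = QuaternionGroup.a ((2 ^ n : ℕ) : ZMod (2 * 2 ^ n)) :=
          fun y hy => eq_of_sq_quaternion (pow_ne_zero n two_ne_zero)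
            (by rw [← map_pow, orderOf_dvd_iff_pow_eq_one.1 hy.dvd, map_one])
            (fun e => by
              rw [(map_eq_one_iff f f.injective).1 e, orderOf_one] at hy; omega)
        rw [f.injective ((h x hx).trans (h z hz).symm)]
        exact Subgroup.mem_zpowers z
    rw [← Subgroup.orderOf_coe] at hz
    set Z := Subgroup.zpowers (z : G) with hZ
    set H := Subgroup.normalizer (Z : Set G) with hH
    have hZcard : Nat.card Z = p := by rw [Nat.card_zpowers, hz]
    refine ⟨H, fun h => ?_, (hZcard ▸ dvd_rfl : p ∣ Nat.card Z).trans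
      (Subgroup.card_dvd_of_le Subgroup.le_normalizer), ?_⟩
    · haveI : Z.Normal := Subgroup.normalizer_eq_top_iff.1 h
      have hle : Z ≤ Cfsg.pCore p G := CfsgLib.Solv.le_pCore (IsPGroup.of_card (n := 1) (by rw [hZcard, pow_one]))
      rw [hcore, le_bot_iff] at hle
      rw [hle, Subgroup.card_bot] at hZcard
      exact hp.out.ne_one hZcard.symm
    -- elements of order p of `H` lie in `Z`
    have hin : ∀ u ∈ H, orderOf u = p → u ∈ Z := by
      intro u hu huo
      have hX : IsPGroup p ↥(Subgroup.zpowers u ⊔ Z) :=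
        (IsPGroup.of_card (n := 1) (G := Subgroup.zpowers u) (by rw [Nat.card_zpowers, huo, pow_one])).to_sup_of_normal_right'
          (IsPGroup.of_card (n := 1) (by rw [hZcard, pow_one])) ((Subgroup.zpowers_le).2 hu)
      obtain ⟨T, hT⟩ := hX.exists_le_sylow
      obtain ⟨g, rfl⟩ := MulAction.exists_smul_eq G P T
      have hu' : g⁻¹ * u * g ∈ (P : Subgroup G) := by
        have := hT (Subgroup.mem_sup_left (Subgroup.mem_zpowers u))
        rwa [Sylow.coe_subgroup_smul, mem_conj_smul_iff] at this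
      have hz' : g⁻¹ * z * g ∈ (P : Subgroup G) := by
        have := hT (Subgroup.mem_sup_right (Subgroup.mem_zpowers (z : G)))
        rwa [Sylow.coe_subgroup_smul, mem_conj_smul_iff] at this
      have ho : ∀ w : G, orderOf w = p → orderOf (g⁻¹ * w * g) = p := fun w hw => by
        rw [show g⁻¹ * w * g = MulAut.conj g⁻¹ w by simp, MulEquiv.orderOf_eq, hw]
      obtain ⟨i, hi⟩ := huniq ⟨_, hu'⟩ (by rw [Subgroup.orderOf_mk]; exact ho u huo)
      obtain ⟨j, hj⟩ := huniq ⟨_, hz'⟩ (by rw [Subgroup.orderOf_mk]; exact ho z hz)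
      have hi' : (z : G) ^ i = g⁻¹ * u * g := by simpa using congrArg Subtype.val hi
      have hj' : (z : G) ^ j = g⁻¹ * z * g := by simpa using congrArg Subtype.val hj
      have hle : Subgroup.zpowers (g⁻¹ * z * g) ≤ Z := (Subgroup.zpowers_le).2 (hj' ▸ Subgroup.zpow_mem_zpowers _ j)
      have heq := Subgroup.eq_of_le_of_card_ge hle (le_of_eq (hZcard.trans (((Nat.card_zpowers _).trans (ho z hz)).symm)))
      obtain ⟨l, hl⟩ : g⁻¹ * u * g ∈ Subgroup.zpowers (g⁻¹ * z * g) := heq ▸ hi' ▸ Subgroup.zpow_mem_zpowers _ i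
      refine ⟨l, ?_⟩
      have hl' : (g⁻¹ * z * g) ^ l = g⁻¹ * u * g := hl
      rw [show g⁻¹ * z * g = g⁻¹ * z * g⁻¹⁻¹ by rw [inv_inv], conj_zpow, inv_inv] at hl'
      exact mul_left_cancel (mul_right_cancel hl')
    intro g hg hdvd
    obtain ⟨u, hu⟩ := exists_prime_orderOf_dvd_card' (G := ↥(H ⊓ H.map (MulAut.conj g).toMonoidHom)) p hdvd
    rw [← Subgroup.orderOf_coe] at hu
    refine hg ?_
    obtain ⟨hu1, hu2⟩ := Subgroup.mem_inf.1 u.2
    rw [mem_map_conj_iff] at hu2
    have h1 : Subgroup.zpowers (u : G) = Z := Subgroup.eq_of_le_of_card_ge ((Subgroup.zpowers_le).2 (hin _ hu1 hu))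
      (by rw [hZcard, Nat.card_zpowers, hu])
    have ho : orderOf (g⁻¹ * (u : G) * g) = p := by
      rw [show g⁻¹ * (u : G) * g = MulAut.conj g⁻¹ (u : G) by simp, MulEquiv.orderOf_eq, hu]
    have h2 : Subgroup.zpowers (g⁻¹ * (u : G) * g) = Z := Subgroup.eq_of_le_of_card_ge
      ((Subgroup.zpowers_le).2 (hin _ hu2 ho)) (by rw [hZcard, Nat.card_zpowers, ho])
    refine mem_normalizer_of_conj_smul_eq ?_
    conv_lhs => rw [← h2]
    rw [conj_smul_eq_map, MonoidHom.map_zpowers, ← h1]
    congr 1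
    show g * (g⁻¹ * (u : G) * g) * g⁻¹ = (u : G)
    group

/-- Let p be a prime and G a finite p-solvable group of order divisible by p, with Sylow p-subgroup P. Then the Sylow p-subgroups of G fail to be chain-connected through nontrivial intersections (equivalently, G has a strongly p-embedded subgroup) if and only if O_p(G) = 1 and P is cyclic or, for p = 2, generalized quaternion. -/
theorem result {G : Type*} [Group G] [Finite G]
    (p : ℕ) [Fact p.Prime] (hdiv : p ∣ Nat.card G) (hsol : Cfsg.IsPSolvable p G) (P : Sylow p G) :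
    ¬ Cfsg.IsSylowChainConnected p G ↔
      Cfsg.pCore p G = ⊥ ∧ (IsCyclic ↥P ∨ (p = 2 ∧ ∃ n : ℕ, Nonempty (↥P ≃* QuaternionGroup (2 ^ n)))) := by
  exact chain_iff p hdiv hsol P

end Cfsg.Agent.S3057
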