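import Cfsg.Statements.S3059
import Cfsg.Agent.Inv.Spe
import Cfsg.Agent.Inv.CharP2

set_option autoImplicit false
open Cfsg

namespace Cfsg.Agent.S3059

/-- Let p be a prime and H a strongly p-embedded subgroup of the finite group G in the classical sense: H is proper, p divides the order of H, and H ∩ gHg⁻¹ has order prime to p for every g outside H. Then for every normal subgroup N of G of order divisible by p, G = H · O^p(N), where O^p(N) is the subgroup generated by the elements of N of order prime to p. -/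
theorem result {G : Type*} [Group G] [Finite G]
    (p : ℕ) [Fact p.Prime] (H : Subgroup G) (hH : H ≠ ⊤) (hpH : p ∣ Nat.card H)
    (hse : ∀ g : G, g ∉ H → ¬ p ∣ Nat.card ↥(H ⊓ H.map (MulAut.conj g).toMonoidHom))
    (N : Subgroup G) [N.Normal] (hN : p ∣ Nat.card N) :
    H ⊔ Subgroup.closure {g : G | g ∈ N ∧ (orderOf g).Coprime p} = ⊤ := by
  open CfsgLib.Inv in
  exact (by
    set R := Subgroup.closure {g : G | g ∈ N ∧ (orderOf g).Coprime p} with hR
    have key : ∀ u x : G, u ∈ H → u ≠ 1 → IsPGroup p ↥(Subgroup.zpowers u) → x⁻¹ * u * x ∈ H → x ∈ H := by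
      intro u x hu hu1 hup hux
      by_contra hx
      obtain ⟨k, hk⟩ := IsPGroup.iff_card.1 hup
      refine hse x hx ?_
      have hk0 : k ≠ 0 := by
        intro h0; rw [h0, pow_zero, Subgroup.card_eq_one, Subgroup.zpowers_eq_bot] at hk; exact hu1 hk
      refine (dvd_pow_self p hk0).trans (hk ▸ Subgroup.card_dvd_of_le (Subgroup.zpowers_le.2 ?_))
      exact Subgroup.mem_inf.2 ⟨hu, CfsgLib.Solv.mem_map_conj_iff.2 hux⟩
    have hS := spe_crit hH hpH key
    obtain ⟨hdvd, -, P₀, hP₀⟩ := id hS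
    have hPH : (P₀ : Subgroup G) ≤ H := Subgroup.le_normalizer.trans
      (CfsgLib.Fus.spe_normalizer_le hS P₀.isPGroup' (Subgroup.le_normalizer.trans (le_trans
        (le_iSup (fun Q : {Q : Subgroup G // Q ≤ (P₀ : Subgroup G) ∧ ¬ PRankLE p (1 - 1) Q} =>
          Subgroup.normalizer ((Q : Subgroup G) : Set G))
          ⟨P₀, le_rfl, by simpa using CfsgLib.Fus.rank_of_ne_bot P₀.isPGroup' (P₀.ne_bot_of_dvd_card hdvd)⟩) hP₀))
        (P₀.ne_bot_of_dvd_card hdvd))
    obtain ⟨Q, hQ⟩ := sylow_inf_normal P₀ N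
    have hQ1 : (P₀ : Subgroup G) ⊓ N ≠ ⊥ := by
      rw [← hQ]
      intro e
      exact Q.ne_bot_of_dvd_card hN ((Subgroup.map_eq_bot_iff_of_injective _ N.subtype_injective).1 e)
    have hNle : Subgroup.normalizer (((P₀ : Subgroup G) ⊓ N : Subgroup G) : Set G) ≤ H :=
      CfsgLib.Fus.spe_normalizer_le hS (P₀.isPGroup'.to_le inf_le_left) (inf_le_left.trans hPH) hQ1
    have h1 : Subgroup.normalizer (((P₀ : Subgroup G) ⊓ N : Subgroup G) : Set G) ⊔ N = ⊤ := by
      rw [← hQ]; exact Q.normalizer_sup_eq_top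
    have h2 : N ≤ R ⊔ ((P₀ : Subgroup G) ⊓ N) := by
      have htop : (R ⊔ ((P₀ : Subgroup G) ⊓ N)).subgroupOf N = ⊤ := by
        refine eq_top_of_sylow_coprime Q (fun q hq => Subgroup.mem_subgroupOf.2 (Subgroup.mem_sup_right ?_))
          fun x hx => Subgroup.mem_subgroupOf.2 (Subgroup.mem_sup_left (Subgroup.subset_closure
            ⟨x.2, by rwa [Subgroup.orderOf_coe]⟩))
        rw [← hQ]; exact Subgroup.mem_map.2 ⟨q, hq, rfl⟩
      exact Subgroup.subgroupOf_eq_top.1 htop
    refine top_le_iff.1 (h1 ▸ sup_le (hNle.trans le_sup_left) (h2.trans (sup_le le_sup_right ?_)))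
    exact (inf_le_left.trans hPH).trans le_sup_left)

end Cfsg.Agent.S3059
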