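import Cfsg.Statements.S3058
import Cfsg.Agent.S3056
import Cfsg.Agent.S3059
import Cfsg.Agent.Inv.Spe
import Cfsg.Agent.Inv.CharP2
import Cfsg.Agent.Solv.Generation

set_option autoImplicit false
open Cfsg

namespace Cfsg.Agent.S3058

/-- Let p be a prime and G a finite group whose Sylow p-subgroups are not chain-connected through nontrivial intersections (so G has a strongly p-embedded subgroup). If N and M are normal subgroups of G whose orders are both divisible by p, then the order of N ∩ M is divisible by p. Consequently, among the normal subgroups of G whose order is divisible by p there is a smallest one (the intersection of all of them). -/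
theorem result {G : Type*} [Group G] [Finite G]
    (p : ℕ) [Fact p.Prime] (hG : ¬ Cfsg.IsSylowChainConnected p G)
    (N M : Subgroup G) [N.Normal] [M.Normal] (hN : p ∣ Nat.card N) (hM : p ∣ Nat.card M) :
    p ∣ Nat.card ↥(N ⊓ M) := by
  open CfsgLib.Inv in
  open scoped commutatorElement in
  exact (by
    obtain ⟨H, hH, hpH, hse⟩ := (Cfsg.Agent.S3056.result (G := G) p).1 hG
    by_contra hK
    set K := N ⊓ M with hKdef
    haveI : K.Normal := Subgroup.normal_inf_normal _ _
    have hKcop : (Nat.card K).Coprime p := ((Nat.Prime.coprime_iff_not_dvd Fact.out).2 hK).symm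
    have key : ∀ u x : G, u ∈ H → u ≠ 1 → IsPGroup p ↥(Subgroup.zpowers u) → x⁻¹ * u * x ∈ H → x ∈ H := by
      intro u x hu hu1 hup hux
      by_contra hx
      obtain ⟨k, hk⟩ := IsPGroup.iff_card.1 hup
      refine hse x hx ?_
      have hk0 : k ≠ 0 := by
        intro h0; rw [h0, pow_zero, Subgroup.card_eq_one, Subgroup.zpowers_eq_bot] at hk; exact hu1 hk
      refine (dvd_pow_self p hk0).trans (hk ▸ Subgroup.card_dvd_of_le (Subgroup.zpowers_le.2 ?_))
      exact Subgroup.mem_inf.2 ⟨hu, CfsgLib.Solv.mem_map_conj_iff.2 hux⟩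
    have hcen : ∀ u ∈ H, orderOf u = p → Subgroup.centralizer ({u} : Set G) ≤ H := fun u hu huo c hc =>
      key u c hu (fun e => (Fact.out : p.Prime).ne_one (by rw [← huo, e, orderOf_one])) (pgroup_zpowers_of_order huo)
        (by rw [show c⁻¹ * u * c = u by
          rw [mul_assoc, ← Subgroup.mem_centralizer_singleton_iff.1 hc, inv_mul_cancel_left]]; exact hu)
    -- a Sylow subgroup of G inside H
    have hS := spe_crit hH hpH key
    obtain ⟨hdvd, -, P, hP⟩ := id hS
    have hPH : (P : Subgroup G) ≤ H := Subgroup.le_normalizer.trans (le_trans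
        (le_iSup (fun Q : {Q : Subgroup G // Q ≤ (P : Subgroup G) ∧ ¬ PRankLE p (1 - 1) Q} =>
          Subgroup.normalizer ((Q : Subgroup G) : Set G))
          ⟨P, le_rfl, by simpa using CfsgLib.Fus.rank_of_ne_bot P.isPGroup' (P.ne_bot_of_dvd_card hdvd)⟩) hP)
    have hget : ∀ X : Subgroup G, X.Normal → p ∣ Nat.card X → ∃ u ∈ (P : Subgroup G), u ∈ X ∧ orderOf u = p := by
      intro X hX hpX
      haveI := hX
      obtain ⟨Q, hQ⟩ := sylow_inf_normal P X
      obtain ⟨u, hu, huo⟩ := exists_order_p (H := (P : Subgroup G) ⊓ X) (p := p) (by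
        rw [← hQ, Subgroup.card_map_of_injective X.subtype_injective]; exact Q.dvd_card_of_dvd_card hpX)
      exact ⟨u, (Subgroup.mem_inf.1 hu).1, (Subgroup.mem_inf.1 hu).2, huo⟩
    obtain ⟨a, haP, haN, hao⟩ := hget N inferInstance hN
    obtain ⟨b, hbP, hbM, hbo⟩ := hget M inferInstance hM
    have hone : ∀ x ∈ (P : Subgroup G), x ∈ K → x = 1 := by
      intro x hx hxK
      obtain ⟨k, hk⟩ := IsPGroup.iff_orderOf.1 P.2 ⟨x, hx⟩
      rw [Subgroup.orderOf_mk] at hk
      refine orderOf_eq_one_iff.1 (Nat.eq_one_of_dvd_coprimes (hKcop.pow_right k) ?_ (hk ▸ dvd_rfl))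
      exact Subgroup.orderOf_dvd_natCard K hxK
    have hcommK : ∀ x ∈ N, ∀ y ∈ M, ⁅x, y⁆ ∈ K := fun x hx y hy =>
      Subgroup.commutator_le_inf N M (Subgroup.commutator_mem_commutator hx hy)
    have hab : a * b = b * a := by
      have h1 := hone ⁅a, b⁆ (by
        rw [commutatorElement_def]; exact mul_mem (mul_mem (mul_mem haP hbP) (inv_mem haP)) (inv_mem hbP)) (hcommK a haN b hbM)
      exact commutatorElement_eq_one_iff_mul_comm.1 h1
    have hb1 : b ≠ 1 := fun e => (Fact.out : p.Prime).ne_one (by rw [← hbo, e, orderOf_one])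
    have ha1 : a ≠ 1 := fun e => (Fact.out : p.Prime).ne_one (by rw [← hao, e, orderOf_one])
    set E := Subgroup.closure ({a, b} : Set G) with hE
    have haE : a ∈ E := Subgroup.subset_closure (Set.mem_insert _ _)
    have hbE : b ∈ E := Subgroup.subset_closure (Set.mem_insert_of_mem _ rfl)
    haveI hEc : IsMulCommutative E := Subgroup.isMulCommutative_closure (by
      intro x hx y hy
      simp only [Set.mem_insert_iff, Set.mem_singleton_iff] at hx hy
      rcases hx with rfl | rfl <;> rcases hy with rfl | rfl <;> first | rfl | exact hab | exact hab.symm)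
    have hEP : E ≤ (P : Subgroup G) := (Subgroup.closure_le _).2 (by
      intro x hx
      rcases hx with rfl | rfl
      · exact haP
      · exact hbP)
    have hnc : ¬ IsCyclic E := by
      intro hcyc
      classical
      letI := Fintype.ofFinite E
      have hz : ∀ x : E, orderOf x = p → (Finset.univ.filter fun y : E => y ∈ Subgroup.zpowers x) =
          Finset.univ.filter fun y : E => y ^ p = 1 := by
        intro x hx
        refine Finset.eq_of_subset_of_card_le (fun y hy => ?_) ((IsCyclic.card_pow_eq_one_le (Fact.out : p.Prime).pos).trans ?_)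
        · obtain ⟨i, rfl⟩ := (Finset.mem_filter.1 hy).2
          exact Finset.mem_filter.2 ⟨Finset.mem_univ _, by
            rw [← zpow_natCast, zpow_comm, zpow_natCast, ← hx, pow_orderOf_eq_one, one_zpow]⟩
        · rw [← hx, ← Nat.card_zpowers, Nat.card_eq_fintype_card, Fintype.card_subtype]
      have h1 : Subgroup.zpowers (⟨a, haE⟩ : E) = Subgroup.zpowers (⟨b, hbE⟩ : E) := by
        ext y
        have h := Finset.ext_iff.1 ((hz ⟨a, haE⟩ (by rw [Subgroup.orderOf_mk, hao])).trans
          (hz ⟨b, hbE⟩ (by rw [Subgroup.orderOf_mk, hbo])).symm) y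
        simpa using h
      obtain ⟨i, hi⟩ : (⟨b, hbE⟩ : E) ∈ Subgroup.zpowers (⟨a, haE⟩ : E) := h1 ▸ Subgroup.mem_zpowers _
      have hbN : b ∈ N := by
        have : a ^ i = b := congrArg Subtype.val hi
        rw [← this]; exact zpow_mem haN i
      exact hb1 (hone b hbP (Subgroup.mem_inf.2 ⟨hbN, hbM⟩))
    have hKH : K ≤ H := by
      refine CfsgLib.Solv.le_of_noncyclic_centralizers (A := E) hnc
        (by rw [Subgroup.normalizer_eq_top]; exact le_top) ?_ fun x hx hx1 => inf_le_right.trans ?_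
      · obtain ⟨k, hk⟩ := IsPGroup.iff_card.1 (P.2.to_le hEP)
        rw [hk]; exact (hKcop.pow_right k).symm
      · intro c hc
        refine key x c (hPH (hEP hx)) hx1 (P.2.to_le (Subgroup.zpowers_le.2 (hEP hx))) ?_
        rw [show c⁻¹ * x * c = x by rw [mul_assoc, ← Subgroup.mem_centralizer_singleton_iff.1 hc, inv_mul_cancel_left]]
        exact hPH (hEP hx)
    refine hH (top_le_iff.1 ?_)
    rw [← Cfsg.Agent.S3059.result p H hH hpH hse N hN]
    refine sup_le le_rfl ((Subgroup.closure_le _).2 fun g hg => ?_)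
    obtain ⟨hgN, -⟩ := hg
    -- g moves b only inside b K
    set L := Subgroup.zpowers b ⊔ K with hL
    have hgb : g * b * g⁻¹ ∈ L := by
      rw [show g * b * g⁻¹ = ⁅g, b⁆ * b by rw [commutatorElement_def]; group]
      exact mul_mem (Subgroup.mem_sup_right (hcommK g hgN b hbM)) (Subgroup.mem_sup_left (Subgroup.mem_zpowers b))
    set f := QuotientGroup.mk' K with hf
    have hzb : IsPGroup p (Subgroup.zpowers b) := pgroup_zpowers_of_order hbo
    have hyb : IsPGroup p (Subgroup.zpowers (g * b * g⁻¹)) := pgroup_zpowers_of_order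
      (by rw [show g * b * g⁻¹ = MulAut.conj g b by simp, MulEquiv.orderOf_eq, hbo])
    have hbL : b ∈ L := Subgroup.mem_sup_left (Subgroup.mem_zpowers b)
    obtain ⟨S₁, hS₁⟩ := (hzb.comap_subtype (K := L)).exists_le_sylow
    obtain ⟨S₂, hS₂⟩ := (hyb.comap_subtype (K := L)).exists_le_sylow
    obtain ⟨k, hk⟩ := MulAction.exists_smul_eq L S₂ S₁
    have hcard : (S₁ : Subgroup L) = (Subgroup.zpowers b).subgroupOf L := by
      refine le_antisymm (fun s hs => ?_) hS₁
      obtain ⟨u, hu, v, hv, huv⟩ := Subgroup.mem_sup_of_normal_right.1 s.2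
      have hvS : (⟨v, Subgroup.mem_sup_right hv⟩ : L) ∈ (S₁ : Subgroup L) := by
        rw [show (⟨v, Subgroup.mem_sup_right hv⟩ : L) = (⟨u, Subgroup.mem_sup_left hu⟩ : L)⁻¹ * s from
          Subtype.ext (by show v = u⁻¹ * (s : G); rw [← huv]; group)]
        exact mul_mem (inv_mem (hS₁ hu)) hs
      have hv1 : v = 1 := by
        obtain ⟨j, hj⟩ := IsPGroup.iff_orderOf.1 S₁.2 ⟨_, hvS⟩
        rw [Subgroup.orderOf_mk, Subgroup.orderOf_mk] at hj
        exact orderOf_eq_one_iff.1 (Nat.eq_one_of_dvd_coprimes (hKcop.pow_right j)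
          (Subgroup.orderOf_dvd_natCard K hv) (hj ▸ dvd_rfl))
      show (s : G) ∈ Subgroup.zpowers b
      rw [← huv, hv1, mul_one]; exact hu
    have hky : (k : G) * (g * b * g⁻¹) * (k : G)⁻¹ ∈ Subgroup.zpowers b := by
      have h1 : k * (⟨g * b * g⁻¹, hgb⟩ : L) * k⁻¹ ∈ (S₁ : Subgroup L) := by
        rw [← hk, Sylow.coe_subgroup_smul, CfsgLib.Solv.mem_conj_smul_iff]
        rw [show k⁻¹ * (k * (⟨g * b * g⁻¹, hgb⟩ : L) * k⁻¹) * k = ⟨g * b * g⁻¹, hgb⟩ by group]
        exact hS₂ (Subgroup.mem_zpowers (g * b * g⁻¹) : g * b * g⁻¹ ∈ _)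
      rw [hcard] at h1
      exact h1
    have hLH : L ≤ H := sup_le (Subgroup.zpowers_le.2 (hPH hbP)) hKH
    have hkg : (k : G) * g ∈ H := by
      refine key ((k : G) * (g * b * g⁻¹) * (k : G)⁻¹) ((k : G) * g) (hLH (Subgroup.mem_sup_left hky)) ?_
        (hzb.to_le (Subgroup.zpowers_le.2 hky)) ?_
      · intro e
        exact hb1 (conj_eq_one_iff.1 (conj_eq_one_iff.1 e))
      · rw [show ((k : G) * g)⁻¹ * ((k : G) * (g * b * g⁻¹) * (k : G)⁻¹) * ((k : G) * g) = b by group]
        exact hPH hbP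
    have := mul_mem (inv_mem (hLH k.2)) hkg
    rwa [inv_mul_cancel_left] at this)

end Cfsg.Agent.S3058
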