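import Cfsg.Statements.S3061
import Cfsg.Agent.Perm.MinClass

set_option autoImplicit false
open Cfsg

namespace Cfsg.Agent.S3061

/-- Let S be a finite p-group. Then D*(S) itself belongs to the family that generates it: D*(S) is abelian, and every x ∈ S with ⟨D*(S), x⟩ of class at most two centralizes D*(S). Hence D*(S) is the unique maximal member of that family. -/
theorem result {S : Type*} [Group S] [Finite S] {p : ℕ} [Fact p.Prime] (hS : IsPGroup p S) :
    Cfsg.dStar S ∈ Cfsg.dStarFamily S := by
  open scoped commutatorElement in
  exact (by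
    haveI := hS.isNilpotent
    have key : ∀ M : Subgroup S, M.Normal → IsMulCommutative M → ∀ A ∈ Cfsg.dStarFamily S,
        A ≤ Subgroup.centralizer (M : Set S) := by
      intro M hMn hMc A hA
      have ind : ∀ i : ℕ, A ≤ Subgroup.centralizer ((M ⊓ Subgroup.upperCentralSeries S i : Subgroup S) : Set S) := by
        intro i
        induction i with
        | zero =>
          intro a _
          refine Subgroup.mem_centralizer_iff.2 fun m hm => ?_
          have : m = 1 := by simpa using (Subgroup.mem_inf.1 hm).2
          subst this; simp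
        | succ i ih =>
          intro a ha
          refine Subgroup.mem_centralizer_iff.2 fun x hx => ?_
          obtain ⟨hxM, hxZ⟩ := Subgroup.mem_inf.1 hx
          refine (hA.2 x ?_ a ha).symm
          set N := M ⊓ Subgroup.upperCentralSeries S i with hN
          set H := A ⊔ Subgroup.zpowers x with hH
          haveI : N.Normal := Subgroup.normal_inf_normal _ _
          have hHN : H ≤ Subgroup.centralizer (N : Set S) := sup_le ih (Subgroup.zpowers_le.2
            (Subgroup.mem_centralizer_iff.2 fun m hm =>
              congrArg Subtype.val (hMc.is_comm.comm (⟨m, (Subgroup.mem_inf.1 hm).1⟩ : M) ⟨x, hxM⟩)))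
          set f := QuotientGroup.mk' N with hf
          have hax : ∀ b ∈ A, f b * f x = f x * f b := by
            intro b _
            rw [← map_mul, ← map_mul, hf, QuotientGroup.mk'_apply, QuotientGroup.mk'_apply, QuotientGroup.eq]
            refine Subgroup.mem_inf.2 ⟨?_, ?_⟩
            · rw [show (b * x)⁻¹ * (x * b) = x⁻¹ * (b⁻¹ * x * b) by group]
              exact mul_mem (inv_mem hxM) (by simpa using hMn.conj_mem x hxM b⁻¹)
            · have h1 := (Subgroup.mem_upperCentralSeries_succ_iff.1 (inv_mem hxZ)) b⁻¹
              rw [commutatorElement_def] at h1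
              rwa [show (b * x)⁻¹ * (x * b) = x⁻¹ * b⁻¹ * x⁻¹⁻¹ * b⁻¹⁻¹ by group]
          have hab : ⁅H, H⁆ ≤ N := by
            rw [← QuotientGroup.ker_mk' N, ← Subgroup.map_eq_bot_iff, Subgroup.map_commutator,
              Subgroup.commutator_eq_bot_iff_le_centralizer, hH, Subgroup.map_sup, MonoidHom.map_zpowers]
            have e1 : ∀ b ∈ A, ∀ c ∈ A, f b * f c = f c * f b := fun b hb c hc => by
              rw [← map_mul, ← map_mul]
              exact congrArg f (congrArg Subtype.val (hA.1.is_comm.comm (⟨b, hb⟩ : A) ⟨c, hc⟩))
            refine sup_le (Subgroup.le_centralizer_iff.1 (sup_le ?_ (Subgroup.zpowers_le.2 ?_)))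
              (Subgroup.le_centralizer_iff.1 (sup_le ?_ (Subgroup.zpowers_le.2 ?_)))
            · rintro _ ⟨b, hb, rfl⟩
              refine Subgroup.mem_centralizer_iff.2 ?_
              rintro _ ⟨c, hc, rfl⟩
              exact e1 c hc b hb
            · refine Subgroup.mem_centralizer_iff.2 ?_
              rintro _ ⟨c, hc, rfl⟩
              exact hax c hc
            · rintro _ ⟨b, hb, rfl⟩
              refine Subgroup.mem_centralizer_iff.2 ?_
              rintro _ ⟨j, rfl⟩
              exact ((show Commute (f x) (f b) from (hax b hb).symm).zpow_left j).eq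
            · refine Subgroup.mem_centralizer_iff.2 ?_
              rintro _ ⟨j, rfl⟩
              exact ((Commute.refl (f x)).zpow_left j).eq
          rw [← le_bot_iff]
          refine (Subgroup.commutator_mono hab le_rfl).trans (le_bot_iff.2 ?_)
          rw [Subgroup.commutator_eq_bot_iff_le_centralizer]
          exact Subgroup.le_centralizer_iff.1 hHN
      have := ind (Group.nilpotencyClass S)
      rwa [upperCentralSeries_nilpotencyClass, inf_top_eq] at this
    obtain ⟨M, hMn, hMc, hMe⟩ := CfsgLib.Perm.exists_self_centralizing_normal_abelian hS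
    have hDM : Cfsg.dStar S ≤ M := sSup_le fun A hA => (key M hMn hMc A hA).trans hMe.le
    refine ⟨⟨⟨fun a b => Subtype.ext (by simpa using congrArg Subtype.val (hMc.is_comm.comm (⟨(a : S), hDM a.2⟩ : M) ⟨(b : S), hDM b.2⟩))⟩⟩,
      fun x hx a ha => ?_⟩
    have hle : Cfsg.dStar S ≤ Subgroup.centralizer ({x} : Set S) := by
      refine sSup_le fun A hA b hb => Subgroup.mem_centralizer_singleton_iff.2 ?_
      refine hA.2 x (le_bot_iff.1 (le_trans ?_ hx.le)) b hb
      have : A ⊔ Subgroup.zpowers x ≤ Cfsg.dStar S ⊔ Subgroup.zpowers x :=
        sup_le_sup (le_sSup hA) le_rfl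
      exact Subgroup.commutator_mono (Subgroup.commutator_mono this this) this
    exact Subgroup.mem_centralizer_singleton_iff.1 (hle ha))

end Cfsg.Agent.S3061
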