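import Cfsg.Statements.S3062
import Cfsg.Agent.Inv.DStar

set_option autoImplicit false
open Cfsg

namespace Cfsg.Agent.S3062

/-- Let S be a finite p-group, J(S) the subgroup generated by the abelian subgroups of S of largest order and Z(J(S)) its centre. Then Z(S) ≤ D*(S) ≤ Z(J(S)), and every maximal normal abelian subgroup of S contains D*(S). -/
theorem result {S : Type*} [Group S] [Finite S] {p : ℕ} [Fact p.Prime]
    (hS : IsPGroup p S) :
    Subgroup.center S ≤ Cfsg.dStar S ∧
    Cfsg.dStar S ≤ Cfsg.thompsonSubgroupA S ⊓ Subgroup.centralizer (Cfsg.thompsonSubgroupA S : Set S) ∧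
    ∀ A : Subgroup S, A.Normal → IsMulCommutative A →
      (∀ B : Subgroup S, B.Normal → IsMulCommutative B → A ≤ B → B = A) → Cfsg.dStar S ≤ A := by
  open CfsgLib.Inv in
  open scoped commutatorElement in
  exact (by
    set D := Cfsg.dStar S with hD
    haveI hDn : D.Normal := dStar_normal
    have hDc := dStar_commutative hS
    have hDcomm : ∀ u ∈ D, ∀ v ∈ D, u * v = v * u := fun u hu v hv =>
      congrArg Subtype.val (hDc.is_comm.comm (⟨u, hu⟩ : D) ⟨v, hv⟩)
    have abel : ∀ A : Subgroup S, IsMulCommutative A → (∀ a ∈ A, ∀ d ∈ D, d * a = a * d) →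
        IsMulCommutative ↥(A ⊔ D) := by
      intro A hA h
      have hle : A ⊔ D ≤ Subgroup.centralizer ((A ⊔ D : Subgroup S) : Set S) := by
        refine sup_le (Subgroup.le_centralizer_iff.1 (sup_le ?_ ?_)) (Subgroup.le_centralizer_iff.1 (sup_le ?_ ?_))
        · exact fun u hu => Subgroup.mem_centralizer_iff.2 fun v hv =>
            congrArg Subtype.val (hA.is_comm.comm (⟨v, hv⟩ : A) ⟨u, hu⟩)
        · exact fun u hu => Subgroup.mem_centralizer_iff.2 fun v hv => (h v hv u hu).symm
        · exact fun u hu => Subgroup.mem_centralizer_iff.2 fun v hv => h u hu v hv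
        · exact fun u hu => Subgroup.mem_centralizer_iff.2 fun v hv => hDcomm v hv u hu
      exact ⟨⟨fun u v => Subtype.ext (Subgroup.mem_centralizer_iff.1 (hle v.2) u u.2)⟩⟩
    have hmax : ∀ A ∈ Cfsg.maxAbelianSubgroups S, D ≤ A := by
      suffices h : ∀ n, ∀ A ∈ Cfsg.maxAbelianSubgroups S, Nat.card D ≤ Nat.card ↥(A ⊓ D) + n → D ≤ A from
        fun A hA => h (Nat.card D) A hA (Nat.le_add_left _ _)
      intro n
      induction n with
      | zero =>
        intro A _ hn
        exact (Subgroup.eq_of_le_of_card_ge inf_le_right (by simpa using hn)).ge.trans inf_le_left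
      | succ n ih =>
        intro A hA hn
        by_cases hDA : D ≤ Subgroup.normalizer (A : Set S)
        · have hcomm : ∀ a ∈ A, ∀ d ∈ D, d * a = a * d := by
            intro a ha d hd
            refine dStar_centralizer ?_ hd
            have hAD : ∀ u ∈ A, ∀ e ∈ D, ⁅u, e⁆ ∈ A ⊓ D := fun u hu e he => by
              rw [commutatorElement_def]
              refine Subgroup.mem_inf.2 ⟨?_, mul_mem (hDn.conj_mem e he u) (inv_mem he)⟩
              rw [show u * e * u⁻¹ * e⁻¹ = u * (e * u⁻¹ * e⁻¹) by group]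
              exact mul_mem hu ((Subgroup.mem_normalizer_iff.1 (hDA he) _).1 (inv_mem hu))
            set H := D ⊔ Subgroup.zpowers a with hH
            have hHH : ⁅H, H⁆ ≤ A ⊓ D := by
              refine Subgroup.commutator_le.2 fun x hx y hy => ?_
              obtain ⟨e, he, u, hu, rfl⟩ := Subgroup.mem_sup_of_normal_left.1 hx
              obtain ⟨e', he', v, hv, rfl⟩ := Subgroup.mem_sup_of_normal_left.1 hy
              have huA : u ∈ A := Subgroup.zpowers_le.2 ha hu
              have hvA : v ∈ A := Subgroup.zpowers_le.2 ha hv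
              have huv : v * u⁻¹ = u⁻¹ * v :=
                congrArg Subtype.val (hA.1.is_comm.comm (⟨v, hvA⟩ : A) ⟨u⁻¹, inv_mem huA⟩)
              have e1 : ⁅e * u, e' * v⁆ = e * ⁅u, e'⁆ * e' * e⁻¹ * (⁅v, e⁆)⁻¹ * e'⁻¹ := by
                simp only [commutatorElement_def]
                calc e * u * (e' * v) * (e * u)⁻¹ * (e' * v)⁻¹ = e * u * e' * (v * u⁻¹) * e⁻¹ * v⁻¹ * e'⁻¹ := by group
                  _ = e * u * e' * (u⁻¹ * v) * e⁻¹ * v⁻¹ * e'⁻¹ := by rw [huv]
                  _ = _ := by group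
              have p1 := hAD u huA e' he'
              have p2 := inv_mem (hAD v hvA e he)
              rw [e1]
              set c₁ := ⁅u, e'⁆
              set c₂ := (⁅v, e⁆)⁻¹
              rw [show e * c₁ * e' * e⁻¹ * c₂ * e'⁻¹ = (e * c₁) * (e' * e⁻¹) * c₂ * e'⁻¹ by group,
                hDcomm e he c₁ (Subgroup.mem_inf.1 p1).2, hDcomm e' he' e⁻¹ (inv_mem he),
                show c₁ * e * (e⁻¹ * e') * c₂ * e'⁻¹ = c₁ * (e' * c₂) * e'⁻¹ by group,
                hDcomm e' he' c₂ (Subgroup.mem_inf.1 p2).2,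
                show c₁ * (c₂ * e') * e'⁻¹ = c₁ * c₂ by group]
              exact mul_mem p1 p2
            refine le_bot_iff.1 ((Subgroup.commutator_mono hHH le_rfl).trans (le_bot_iff.2 ?_))
            rw [Subgroup.commutator_eq_bot_iff_le_centralizer, Subgroup.le_centralizer_iff]
            refine sup_le (fun u hu => Subgroup.mem_centralizer_iff.2 fun v hv => hDcomm v (Subgroup.mem_inf.1 hv).2 u hu)
              (Subgroup.zpowers_le.2 (Subgroup.mem_centralizer_iff.2 fun v hv => ?_))
            exact congrArg Subtype.val (hA.1.is_comm.comm (⟨v, (Subgroup.mem_inf.1 hv).1⟩ : A) ⟨a, ha⟩)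
          exact le_sup_right.trans (Subgroup.eq_of_le_of_card_ge le_sup_left (hA.2 _ (abel A hA.1 hcomm))).ge
        · obtain ⟨A', hA', hA'N, -, hlt⟩ := replacement hS hDn hDc hA hDA
          have hc : Nat.card ↥(A ⊓ D) < Nat.card ↥(A' ⊓ D) := by
            by_contra hle
            exact hlt.ne (Subgroup.eq_of_le_of_card_ge hlt.le (not_lt.1 hle))
          exact absurd ((ih A' hA' (by omega)).trans hA'N) hDA
    obtain ⟨A₀, hA₀, hA₀max⟩ := Set.exists_max_image {A : Subgroup S | IsMulCommutative A} (fun A => Nat.card A)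
      (Set.toFinite _) ⟨⊥, ⟨⟨fun a b => Subsingleton.elim _ _⟩⟩⟩
    have hA₀' : A₀ ∈ Cfsg.maxAbelianSubgroups S := ⟨hA₀, hA₀max⟩
    refine ⟨le_sSup center_mem_dStarFamily, le_inf ((hmax A₀ hA₀').trans (le_sSup hA₀')) ?_, fun A hAn hAc hAm => ?_⟩
    · rw [Subgroup.le_centralizer_iff]
      refine sSup_le fun A hA a ha => Subgroup.mem_centralizer_iff.2 fun d hd => ?_
      exact congrArg Subtype.val (hA.1.is_comm.comm (⟨d, hmax A hA hd⟩ : A) ⟨a, ha⟩)
    · have hc : ∀ a ∈ A, ∀ d ∈ D, d * a = a * d := by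
        intro a ha d hd
        have hle : D ≤ Subgroup.centralizer (A : Set S) := sSup_le fun B hB => dStar_member_centralizes hS hAn hAc hB
        exact (Subgroup.mem_centralizer_iff.1 (hle hd) a ha).symm
      haveI := hAn
      exact le_sup_right.trans (hAm (A ⊔ D) inferInstance (abel A hAc hc) le_sup_left).le)

end Cfsg.Agent.S3062
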