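import Cfsg.Statements.S3063
import Cfsg.Agent.Solv.Basic
import Cfsg.Agent.Solv.PLocalBasic

set_option autoImplicit false
open Cfsg

namespace Cfsg.Agent.S3063

/-- A weak replacement Theorem for metabelian p-groups: let S be a finite p-group whose derived subgroup is abelian and A an abelian subgroup of S of largest possible order. Then the normal closure of A in S contains an abelian subgroup B of the same order as A that is normal in S. -/
theorem result {S : Type*} [Group S] [Finite S] {p : ℕ} [Fact p.Prime]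
    (hS : IsPGroup p S) (hmeta : IsMulCommutative ↥(commutator S))
    (A : Subgroup S) (hA : A ∈ Cfsg.maxAbelianSubgroups S) :
    ∃ B ∈ Cfsg.maxAbelianSubgroups S, B.Normal ∧ B ≤ Subgroup.normalClosure (A : Set S) := by
  classical
  obtain ⟨hAc, hAmax⟩ := hA
  let conjA : S → Subgroup S := fun s => A.map (MulAut.conj s).toMonoidHom
  have hcard : ∀ s, Nat.card (conjA s) = Nat.card A := fun s =>
    Subgroup.card_map_of_injective (MulAut.conj s).injective
  have habel : ∀ s, ∀ x ∈ conjA s, ∀ y ∈ conjA s, x * y = y * x := by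
    rintro s _ ⟨a, ha, rfl⟩ _ ⟨b, hb, rfl⟩
    rw [← map_mul, ← map_mul, show a * b = b * a from congrArg Subtype.val (hAc.is_comm.comm ⟨a, ha⟩ ⟨b, hb⟩)]
  -- the counting along the conjugates
  have key : ∀ F : Finset S, ∀ M C : Subgroup S, M = A ⊔ F.sup conjA → C = A ⊓ F.inf conjA →
      Nat.card A * Nat.card A ≤ Nat.card M * Nat.card C := by
    intro F
    induction F using Finset.induction with
    | empty =>
      rintro M C rfl rfl
      simp
    | @insert s F _ ih =>
      rintro M C rfl rfl
      have h := ih _ _ rfl rfl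
      set M₀ := A ⊔ F.sup conjA with hM₀
      set C₀ := A ⊓ F.inf conjA with hC₀
      rw [Finset.sup_insert, Finset.inf_insert, sup_left_comm, inf_left_comm]
      -- `C₀` commutes with `M₀`
      have hcomm : ∀ c ∈ C₀, M₀ ≤ Subgroup.centralizer ({c} : Set S) := by
        intro c hc
        refine sup_le (fun a ha => ?_) (Finset.sup_le fun t ht a ha => ?_)
        · exact Subgroup.mem_centralizer_singleton_iff.2
            (congrArg Subtype.val (hAc.is_comm.comm ⟨a, ha⟩ ⟨c, hc.1⟩))
        · exact Subgroup.mem_centralizer_singleton_iff.2 (habel t a ha c ((Finset.inf_le ht : F.inf conjA ≤ conjA t) hc.2))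
      set X := M₀ ⊓ conjA s with hX
      have hXC : IsMulCommutative (X ⊔ C₀ : Subgroup S) := by
        rw [← Subgroup.le_centralizer_iff_isMulCommutative]
        refine sup_le (fun x hx => ?_) fun c hc => ?_ <;>
          rw [Subgroup.mem_centralizer_iff] <;> intro y hy
        · have hy' : y ∈ Subgroup.centralizer ({x} : Set S) := by
            refine (sup_le ?_ ?_ : X ⊔ C₀ ≤ _) hy
            · exact fun z hz => Subgroup.mem_centralizer_singleton_iff.2 (habel s z hz.2 x hx.2)
            · exact fun c hc => Subgroup.mem_centralizer_singleton_iff.2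
                (Subgroup.mem_centralizer_singleton_iff.1 (hcomm c hc hx.1)).symm
          exact Subgroup.mem_centralizer_singleton_iff.1 hy'
        · have hy' : y ∈ Subgroup.centralizer ({c} : Set S) := by
            refine (sup_le ?_ ?_ : X ⊔ C₀ ≤ _) hy
            · exact fun z hz => hcomm c hc hz.1
            · exact fun c' hc' => Subgroup.mem_centralizer_singleton_iff.2
                (congrArg Subtype.val (hAc.is_comm.comm ⟨c', hc'.1⟩ ⟨c, hc.1⟩))
          exact Subgroup.mem_centralizer_singleton_iff.1 hy'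
      have h1 : Nat.card X * Nat.card C₀ ≤ Nat.card (X ⊔ C₀ : Subgroup S) * Nat.card (X ⊓ C₀ : Subgroup S) :=
        CfsgLib.Solv.card_mul_inf_le le_sup_left le_sup_right
      have h2 := hAmax _ hXC
      have h3 : X ⊓ C₀ ≤ conjA s ⊓ C₀ := inf_le_inf_right _ inf_le_right
      have h3' : Nat.card (X ⊓ C₀ : Subgroup S) ≤ Nat.card (conjA s ⊓ C₀ : Subgroup S) := Subgroup.card_le_of_le h3
      have h4 : Nat.card M₀ * Nat.card (conjA s) ≤ Nat.card (conjA s ⊔ M₀ : Subgroup S) * Nat.card X :=
        CfsgLib.Solv.card_mul_inf_le le_sup_right le_sup_left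
      rw [hcard] at h4
      have hX0 : 0 < Nat.card X * Nat.card A := Nat.mul_pos Nat.card_pos Nat.card_pos
      refine Nat.le_of_mul_le_mul_right ?_ hX0
      calc Nat.card A * Nat.card A * (Nat.card X * Nat.card A)
          ≤ Nat.card M₀ * Nat.card C₀ * (Nat.card X * Nat.card A) := Nat.mul_le_mul_right _ h
        _ = (Nat.card M₀ * Nat.card A) * (Nat.card X * Nat.card C₀) := by ring
        _ ≤ (Nat.card (conjA s ⊔ M₀ : Subgroup S) * Nat.card X) *
            (Nat.card A * Nat.card (conjA s ⊓ C₀ : Subgroup S)) :=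
          Nat.mul_le_mul h4 (h1.trans (Nat.mul_le_mul h2 h3'))
        _ = Nat.card (conjA s ⊔ M₀ : Subgroup S) * Nat.card (conjA s ⊓ C₀ : Subgroup S) *
            (Nat.card X * Nat.card A) := by ring
  haveI := Fintype.ofFinite S
  set M := Subgroup.normalClosure (A : Set S) with hM
  set C := A.normalCore with hC
  have hsupM : A ⊔ (Finset.univ : Finset S).sup conjA ≤ M := by
    refine sup_le Subgroup.le_normalClosure (Finset.sup_le fun s _ => ?_)
    rintro _ ⟨a, ha, rfl⟩
    exact Subgroup.normalClosure_normal.conj_mem a (Subgroup.le_normalClosure ha) s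
  have hinfC : A ⊓ (Finset.univ : Finset S).inf conjA ≤ C := by
    intro x hx b
    obtain ⟨a, ha, hae⟩ := (Finset.inf_le (Finset.mem_univ b⁻¹) : _ ≤ conjA b⁻¹) hx.2
    have hae' : b⁻¹ * a * b⁻¹⁻¹ = x := hae
    rw [← hae']
    simpa [mul_assoc] using ha
  have hcount : Nat.card A * Nat.card A ≤ Nat.card M * Nat.card C :=
    (key Finset.univ _ _ rfl rfl).trans
      (Nat.mul_le_mul (Subgroup.card_le_of_le hsupM) (Subgroup.card_le_of_le hinfC))
  set D := commutator S with hD
  set V := M ⊓ D with hV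
  have hW : (A ⊔ D).Normal := Subgroup.Normal.of_commutator_le S (le_sup_right : commutator S ≤ A ⊔ D)
  have hMW : M ≤ A ⊔ D := Subgroup.normalClosure_le_normal (N := A ⊔ D) (fun a ha => Subgroup.mem_sup_left ha)
  have hAV : M = A ⊔ V := by
    refine le_antisymm (fun x hx => ?_) (sup_le Subgroup.le_normalClosure inf_le_left)
    obtain ⟨a, ha, d, hd, rfl⟩ := Subgroup.mem_sup_of_normal_right.1 (hMW hx)
    refine Subgroup.mul_mem_sup ha ⟨?_, hd⟩
    simpa using mul_mem (inv_mem (Subgroup.le_normalClosure ha : a ∈ M)) hx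
  haveI : V.Normal := by
    rw [hV]; infer_instance
  haveI : C.Normal := A.normalCore_normal
  have hCA : C ≤ A := A.normalCore_le
  have hCM : ∀ c ∈ C, M ≤ Subgroup.centralizer ({c} : Set S) := by
    intro c hc
    refine (Subgroup.closure_le _).2 ?_
    intro y hy
    obtain ⟨a, ha, s, rfl⟩ : ∃ a ∈ A, ∃ s, s * a * s⁻¹ = y := by
      obtain ⟨a, ha, hca⟩ := Group.mem_conjugatesOfSet_iff.1 hy
      obtain ⟨s, hs⟩ := isConj_iff.1 hca
      exact ⟨a, ha, s, hs⟩
    have hc' : s⁻¹ * c * s ∈ A := hCA (by simpa using ‹C.Normal›.conj_mem c hc s⁻¹)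
    refine Subgroup.mem_centralizer_singleton_iff.2 ?_
    have h : a * (s⁻¹ * c * s) = s⁻¹ * c * s * a := congrArg Subtype.val (hAc.is_comm.comm ⟨a, ha⟩ ⟨_, hc'⟩)
    calc s * a * s⁻¹ * c = s * (a * (s⁻¹ * c * s)) * s⁻¹ := by group
      _ = s * (s⁻¹ * c * s * a) * s⁻¹ := by rw [h]
      _ = c * (s * a * s⁻¹) := by group
  have hB : IsMulCommutative (V ⊔ C : Subgroup S) := by
    rw [← Subgroup.le_centralizer_iff_isMulCommutative]
    refine sup_le (fun x hx => ?_) fun c hc => ?_ <;>
      rw [Subgroup.mem_centralizer_iff] <;> intro y hy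
    · have hy' : y ∈ Subgroup.centralizer ({x} : Set S) := by
        refine (sup_le ?_ ?_ : V ⊔ C ≤ _) hy
        · exact fun z hz => Subgroup.mem_centralizer_singleton_iff.2
            (congrArg Subtype.val (hmeta.is_comm.comm ⟨z, hz.2⟩ ⟨x, hx.2⟩))
        · exact fun c hc => Subgroup.mem_centralizer_singleton_iff.2
            (Subgroup.mem_centralizer_singleton_iff.1 (hCM c hc hx.1)).symm
      exact Subgroup.mem_centralizer_singleton_iff.1 hy'
    · have hy' : y ∈ Subgroup.centralizer ({c} : Set S) := by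
        refine (sup_le ?_ ?_ : V ⊔ C ≤ _) hy
        · exact fun z hz => hCM c hc hz.1
        · exact fun c' hc' => Subgroup.mem_centralizer_singleton_iff.2
            (congrArg Subtype.val (hAc.is_comm.comm ⟨c', hCA hc'⟩ ⟨c, hCA hc⟩))
      exact Subgroup.mem_centralizer_singleton_iff.1 hy'
  have hB' := hAmax _ hB
  have e1 : Nat.card M * Nat.card (A ⊓ V : Subgroup S) = Nat.card A * Nat.card V := by
    rw [hAV]; exact CfsgLib.Solv.card_sup_mul_card_inf A V
  have e2 : Nat.card (V ⊔ C : Subgroup S) * Nat.card (V ⊓ C : Subgroup S) = Nat.card V * Nat.card C :=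
    CfsgLib.Solv.card_sup_mul_card_inf V C
  have e3 : Nat.card (V ⊓ C : Subgroup S) ≤ Nat.card (A ⊓ V : Subgroup S) :=
    Subgroup.card_le_of_le (le_inf (inf_le_right.trans hCA) inf_le_left)
  have hpos : 0 < Nat.card A * Nat.card (A ⊓ V : Subgroup S) := Nat.mul_pos Nat.card_pos Nat.card_pos
  have hge : Nat.card A ≤ Nat.card (V ⊔ C : Subgroup S) := by
    refine Nat.le_of_mul_le_mul_right ?_ hpos
    calc Nat.card A * (Nat.card A * Nat.card (A ⊓ V : Subgroup S))
        = Nat.card A * Nat.card A * Nat.card (A ⊓ V : Subgroup S) := by ring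
      _ ≤ Nat.card M * Nat.card C * Nat.card (A ⊓ V : Subgroup S) := Nat.mul_le_mul_right _ hcount
      _ = Nat.card A * (Nat.card V * Nat.card C) := by rw [mul_right_comm, e1]; ring
      _ ≤ Nat.card A * (Nat.card (V ⊔ C : Subgroup S) * Nat.card (A ⊓ V : Subgroup S)) := by
        rw [← e2]; exact Nat.mul_le_mul_left _ (Nat.mul_le_mul_left _ e3)
      _ = Nat.card (V ⊔ C : Subgroup S) * (Nat.card A * Nat.card (A ⊓ V : Subgroup S)) := by ring
  exact ⟨V ⊔ C, ⟨hB, fun B hBc => (hAmax B hBc).trans hge⟩, inferInstance,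
    sup_le inf_le_left (hCA.trans Subgroup.le_normalClosure)⟩

end Cfsg.Agent.S3063
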