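import Cfsg.Statements.S3064
import Cfsg.Agent.Solv.PComplement
import Cfsg.Agent.Solv.Frobenius
import Cfsg.Agent.Solv.Thompson

set_option autoImplicit false
open Cfsg

namespace Cfsg.Agent.S3064

universe u

open CfsgLib.Solv in
open scoped Pointwise in
theorem central_of_isolated {p : ℕ} [hp : Fact p.Prime] : ∀ (n : ℕ) (G : Type u) [Group G] [Finite G],
    Nat.card G ≤ n → ∀ (S : Sylow p G) (x : G), x ∈ S →
    (∀ g : G, g⁻¹ * x * g ∈ S → g⁻¹ * x * g = x) →
    (∀ H : Subgroup G, (Nat.card H).Coprime p → (∀ h ∈ H, x * h * x⁻¹ ∈ H) → ∀ h ∈ H, x * h = h * x) →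
    x ∈ Subgroup.center G := by
  intro n
  induction n with
  | zero => exact fun G _ _ h => absurd h (Nat.card_pos (α := G)).not_ge
  | succ n ih =>
  intro G _ _ hn S x hx hU hb
  set Z := Subgroup.center G with hZ
  set C := Subgroup.centralizer ({x} : Set G) with hC
  by_contra hxZ
  -- two conjugates of x in a common Sylow subgroup are equal
  have huniq : ∀ (T : Sylow p G) (a b : G), a * x * a⁻¹ ∈ T → b * x * b⁻¹ ∈ T →
      a * x * a⁻¹ = b * x * b⁻¹ := by
    intro T a b ha hb'
    obtain ⟨g, rfl⟩ := MulAction.exists_smul_eq G S T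
    have key : ∀ c : G, c * x * c⁻¹ ∈ g • S → c * x * c⁻¹ = g * x * g⁻¹ := by
      intro c hc
      have hc' : g⁻¹ * (c * x * c⁻¹) * g ∈ S := by
        obtain ⟨s, hs, hse⟩ := hc
        have hse' : g * s * g⁻¹ = c * x * c⁻¹ := hse
        rw [← hse']
        have : g⁻¹ * (g * s * g⁻¹) * g = s := by group
        rw [this]; exact hs
      have h := hU (c⁻¹ * g) (by convert hc' using 1; group)
      calc c * x * c⁻¹ = g * ((c⁻¹ * g)⁻¹ * x * (c⁻¹ * g)) * g⁻¹ := by group
        _ = g * x * g⁻¹ := by rw [h]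
    rw [key a ha, key b hb']
  -- proper subgroups containing x centralise it
  have hprop : ∀ H : Subgroup G, x ∈ H → H ≠ ⊤ → H ≤ C := by
    intro H hxH hH
    obtain ⟨R, hR⟩ := (show IsPGroup p ↥(Subgroup.zpowers (⟨x, hxH⟩ : ↥H)) from by
      obtain ⟨k, hk⟩ := S.isPGroup' ⟨x, hx⟩
      have hk' : (⟨x, hxH⟩ : ↥H) ^ p ^ k = 1 :=
        Subtype.ext (by simpa using congrArg Subtype.val hk)
      rintro ⟨y, hy⟩
      obtain ⟨i, rfl⟩ := Subgroup.mem_zpowers_iff.1 hy
      exact ⟨k, Subtype.ext (by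
        show ((⟨x, hxH⟩ : ↥H) ^ i) ^ p ^ k = 1
        rw [← zpow_natCast, ← zpow_mul, mul_comm, zpow_mul, zpow_natCast, hk', one_zpow])⟩).exists_le_sylow
    obtain ⟨T, hT⟩ := (R.isPGroup'.map H.subtype).exists_le_sylow
    have h := ih ↥H (Nat.le_of_lt_succ ((card_lt_of_ne_top hH).trans_le hn)) R ⟨x, hxH⟩
      (hR (Subgroup.mem_zpowers _)) (fun g hg => Subtype.ext (by
        have h1 := huniq T 1 (g : G)⁻¹
          (by show _ ∈ (T : Subgroup G); simpa using hT (Subgroup.mem_map_of_mem H.subtype (hR (Subgroup.mem_zpowers _))))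
          (by show _ ∈ (T : Subgroup G); simpa using hT (Subgroup.mem_map_of_mem H.subtype hg))
        simpa using h1.symm))
      (fun K hK hnorm h hh => Subtype.ext (hb (K.map H.subtype)
        (by rwa [card_map_subtype]) (fun y hy => by
          obtain ⟨z, hz, rfl⟩ := hy
          exact ⟨_, hnorm z hz, rfl⟩) _ (Subgroup.mem_map_of_mem _ hh)))
    intro y hy
    have := congrArg Subtype.val (Subgroup.mem_center_iff.1 h ⟨y, hy⟩)
    exact Subgroup.mem_centralizer_singleton_iff.2 this
  have hxC : x ∈ C := Subgroup.mem_centralizer_singleton_iff.2 rfl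
  have hCtop : C ≠ ⊤ := fun h => hxZ (Subgroup.mem_center_iff.2 fun g =>
    Subgroup.mem_centralizer_singleton_iff.1 (h ▸ Subgroup.mem_top g : g ∈ C))
  have hSC : ∀ T : Sylow p G, x ∈ T → (T : Subgroup G) ≤ C := by
    intro T hT s hs
    have h := huniq T 1 s (by simpa using hT) (T.mul_mem (T.mul_mem hs hT) (T.inv_mem hs))
    rw [one_mul, inv_one, mul_one, eq_mul_inv_iff_mul_eq] at h
    exact Subgroup.mem_centralizer_singleton_iff.2 h.symm
  have hZC : Z ≤ C := Subgroup.center_le_centralizer _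
  -- C is malnormal modulo the centre
  have hmal : ∀ g : G, g ∉ C → ∀ c ∈ C, g⁻¹ * c * g ∈ C → c ∈ Z := by
    intro g hg c hc hcg
    have hc' : c * (g * x * g⁻¹) = g * x * g⁻¹ * c := by
      have h1 := Subgroup.mem_centralizer_singleton_iff.1 hcg
      calc c * (g * x * g⁻¹) = g * (g⁻¹ * c * g * x) * g⁻¹ := by group
        _ = g * (x * (g⁻¹ * c * g)) * g⁻¹ := by rw [h1]
        _ = g * x * g⁻¹ * c := by group
    have htop : Subgroup.closure ({x, g * x * g⁻¹} : Set G) = ⊤ := by
      by_contra h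
      have hle := hprop _ (Subgroup.subset_closure (Set.mem_insert _ _)) h
      have hcomm := Subgroup.mem_centralizer_singleton_iff.1
        (hle (Subgroup.subset_closure (Set.mem_insert_of_mem _ rfl)))
      obtain ⟨T, hT⟩ := (show IsPGroup p ↥(Subgroup.zpowers x ⊔ Subgroup.zpowers (g * x * g⁻¹)) from by
        have h1 : IsPGroup p ↥(Subgroup.zpowers x) := S.isPGroup'.to_le ((Subgroup.zpowers_le).2 hx)
        refine h1.to_sup_of_normal_left' (S.isPGroup'.map (MulAut.conj g).toMonoidHom |>.to_le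
          ((Subgroup.zpowers_le).2 ⟨x, hx, rfl⟩)) ?_
        rw [Subgroup.zpowers_le]
        refine Subgroup.centralizer_le_normalizer _ (Subgroup.mem_centralizer_iff.2 ?_)
        intro y hy
        obtain ⟨i, rfl⟩ := Subgroup.mem_zpowers_iff.1 hy
        exact ((show Commute (g * x * g⁻¹) x from hcomm).zpow_right i).eq.symm).exists_le_sylow
      have h2 := huniq T 1 g
        (by show _ ∈ (T : Subgroup G); simpa using hT (Subgroup.mem_sup_left (Subgroup.mem_zpowers x)))
        (hT (Subgroup.mem_sup_right (Subgroup.mem_zpowers _)))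
      exact hg (Subgroup.mem_centralizer_singleton_iff.2 (by
        rw [one_mul, inv_one, mul_one, eq_mul_inv_iff_mul_eq] at h2
        exact h2.symm))
    rw [hZ, Subgroup.mem_center_iff]
    intro y
    have hy : y ∈ Subgroup.centralizer ({c} : Set G) :=
      (Subgroup.closure_le _).2 (by
        rintro z (rfl | rfl)
        · exact Subgroup.mem_centralizer_singleton_iff.2 (Subgroup.mem_centralizer_singleton_iff.1 hc).symm
        · exact Subgroup.mem_centralizer_singleton_iff.2 hc'.symm) (htop ▸ Subgroup.mem_top y)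
    exact Subgroup.mem_centralizer_singleton_iff.1 hy
  set f := QuotientGroup.mk' Z with hf
  have hfs : Function.Surjective f := QuotientGroup.mk'_surjective Z
  have hker : f.ker ≤ C := by rw [hf, QuotientGroup.ker_mk']; exact hZC
  have hFC : Cfsg.IsFrobeniusComplement (C.map f) := by
    refine ⟨fun h => hxZ ?_, fun h => hCtop ?_, fun q hq => ?_⟩
    · have := (Subgroup.eq_bot_iff_forall _).1 h _ (Subgroup.mem_map_of_mem f hxC)
      exact (QuotientGroup.eq_one_iff x).1 this
    · rw [← Subgroup.comap_map_eq_self hker, h, Subgroup.comap_top]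
    · obtain ⟨g, rfl⟩ := hfs q
      rw [eq_bot_iff]
      rintro _ ⟨⟨c, hc, rfl⟩, hcq⟩
      obtain ⟨_, ⟨d, hd, rfl⟩, hde⟩ := Subgroup.mem_smul_pointwise_iff_exists _ _ _ |>.1 hcq
      have hde' : f (g * d * g⁻¹) = f c := by
        rw [map_mul, map_mul, map_inv]; exact hde
      have hg : g ∉ C := fun h => hq (Subgroup.mem_map_of_mem f h)
      refine Subgroup.mem_bot.2 ((QuotientGroup.eq_one_iff c).2 (hmal g hg c hc ?_))
      obtain ⟨z, hz, hze⟩ : ∃ z ∈ Z, g * d * g⁻¹ * z = c :=
        ⟨(g * d * g⁻¹)⁻¹ * c, QuotientGroup.eq.1 hde', mul_inv_cancel_left _ _⟩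
      rw [← hze]
      have hz' : g⁻¹ * z * g = z := by
        rw [mul_assoc, ← Subgroup.mem_center_iff.1 hz g, inv_mul_cancel_left]
      have : g⁻¹ * (g * d * g⁻¹ * z) * g = d * (g⁻¹ * z * g) := by group
      rw [this, hz']
      exact mul_mem hd (hZC hz)
  obtain ⟨N, -, hN, hNC⟩ := frobenius_theorem hFC
  haveI := hN
  set K := N.comap f with hK
  have hKC : K ⊔ C = ⊤ := by
    refine eq_top_iff.2 fun g _ => ?_
    have h : f g ∈ N ⊔ C.map f := by rw [hNC.sup_eq_top]; trivial
    obtain ⟨a, ha, b, ⟨c, hc, rfl⟩, hab⟩ := Subgroup.mem_sup_of_normal_left.1 h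
    have : g = g * c⁻¹ * c := by group
    rw [this]
    refine Subgroup.mul_mem_sup ?_ hc
    show f (g * c⁻¹) ∈ N
    rwa [map_mul, map_inv, ← hab, mul_inv_cancel_right]
  have hpN : ¬ p ∣ Nat.card N := by
    intro h
    have hidx := hNC.index_eq_card
    have h1 : ((S : Subgroup G).map f) ≤ C.map f := Subgroup.map_mono (hSC S hx)
    have h2 : (C.map f).index = Nat.card N := Subgroup.IsComplement'.index_eq_card hNC
    exact (S.mapSurjective hfs).not_dvd_index (dvd_trans h (h2 ▸ Subgroup.index_dvd_of_le h1))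
  -- Sylow p-subgroup of K is central
  let R : Sylow p ↥K := Classical.arbitrary _
  have hRZ : ∀ y : ↥K, y ∈ (R : Subgroup ↥K) → (y : G) ∈ Z := by
    intro y hy
    rw [← QuotientGroup.eq_one_iff]
    by_contra hne
    obtain ⟨k, hk⟩ := R.isPGroup' ⟨y, hy⟩
    have hk' : (⟨f y, y.2⟩ : N) ^ p ^ k = 1 := Subtype.ext (by
      have := congrArg (fun z : ↥(R : Subgroup ↥K) => f ((z : ↥K) : G)) hk
      simpa using this)
    obtain ⟨j, -, hj⟩ := (Nat.dvd_prime_pow hp.out).1 (orderOf_dvd_of_pow_eq_one hk')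
    rcases j with _ | j
    · rw [pow_zero, orderOf_eq_one_iff] at hj
      exact hne (congrArg Subtype.val hj)
    · exact hpN ((hj ▸ dvd_pow_self p (Nat.succ_ne_zero j)).trans (orderOf_dvd_natCard _))
  have hnp : Cfsg.HasNormalPComplement p ↥K := hnpc_of_fusion R fun y hy c _ =>
    ⟨1, one_mem _, Subtype.ext (by
      have h := Subgroup.mem_center_iff.1 (hRZ y hy) (c : G)
      simp only [one_mul, inv_one, mul_one, Subgroup.coe_mul, Subgroup.coe_inv]
      rw [h, mul_inv_cancel_right])⟩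
  haveI : (Cfsg.pResidual p ↥K).Characteristic := pResidual_char p ↥K
  haveI : K.Normal := Subgroup.Normal.comap hN f
  haveI hWn : ((Cfsg.pResidual p ↥K).map K.subtype).Normal := normal_map_subtype_of_characteristic _
  have hW : ∀ w ∈ (Cfsg.pResidual p ↥K).map K.subtype, x * w = w * x := hb _
    (by rw [card_map_subtype]; exact Nat.Coprime.symm (hp.out.coprime_iff_not_dvd.2 (hnpc_iff.1 hnp)))
    (fun w hw => hWn.conj_mem w hw x)
  have hKle : K ≤ C := by
    intro k hk
    have h : (⟨k, hk⟩ : ↥K) ∈ (R : Subgroup ↥K) ⊔ Cfsg.pResidual p ↥K := by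
      rw [sylow_sup_pResidual R]; trivial
    obtain ⟨r, hr, w, hw, hrw⟩ :=
      (haveI := CfsgLib.Inv.pResidual_normal p ↥K; Subgroup.mem_sup_of_normal_right.1 h)
    have : k = (r : G) * (w : G) := (congrArg Subtype.val hrw).symm
    rw [this]
    exact mul_mem (hZC (hRZ r hr))
      (Subgroup.mem_centralizer_singleton_iff.2 (hW _ (Subgroup.mem_map_of_mem _ hw)).symm)
  exact hCtop (by rw [← hKC, sup_eq_right.2 hKle])

/-- Let S be a Sylow p-subgroup of the finite group G and x an element of S such that (i) x is the only G-conjugate of x lying in S, and (ii) x centralizes every subgroup of order prime to p that it normalizes. Then x lies in the centre of G. -/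
theorem result {G : Type*} [Group G] [Finite G] {p : ℕ} [Fact p.Prime]
    (S : Sylow p G) (x : G) (hx : x ∈ S)
    (hU : ∀ g : G, g⁻¹ * x * g ∈ S → g⁻¹ * x * g = x)
    (hb : ∀ H : Subgroup G, (Nat.card H).Coprime p → (∀ h ∈ H, x * h * x⁻¹ ∈ H) → ∀ h ∈ H, x * h = h * x) :
    x ∈ Subgroup.center G := by
  exact central_of_isolated (Nat.card G) G le_rfl S x hx hU hb

end Cfsg.Agent.S3064
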