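import Cfsg.Statements.S3069
import Cfsg.Agent.Fus.TransferK
import Cfsg.Agent.Fus.KInf
import Cfsg.Agent.Solv.PComplement

set_option autoImplicit false
open Cfsg

namespace Cfsg.Agent.S3069

/-- Let p ≥ 7 be a prime and S a nontrivial Sylow p-subgroup of the finite group G. If N_G(S)/C_G(S) is a p-group (every element of N_G(S) of order prime to p centralizes S), then O^p(G) < G, i.e. G has a nontrivial p-factor group. -/
theorem result {G : Type*} [Group G] [Finite G] {p : ℕ} [Fact p.Prime]
    (hp : 7 ≤ p) (S : Sylow p G) (hS : (S : Subgroup G) ≠ ⊥)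
    (hN : ∀ g ∈ Subgroup.normalizer ((S : Subgroup G) : Set G), (orderOf g).Coprime p →
      g ∈ Subgroup.centralizer ((S : Subgroup G) : Set G)) :
    Cfsg.pResidual p G ≠ ⊤ := by
  have h := CfsgLib.Glau.not_le_commutator Cfsg.kInfLower (CfsgLib.KInf.isCharPFunctor_lower p)
    (CfsgLib.Glau.kInf_transfer (G := G) (p := p) (by omega)).1 G (CfsgLib.Glau.isSec_self G) (S : Subgroup G)
    (CfsgLib.Glau.syl_top S) hS hN
  obtain ⟨N, hNn, hNi⟩ := CfsgLib.Glau.exists_normal_index S.2 h
  intro htop
  have hle : Cfsg.pResidual p G ≤ N := by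
    rw [Cfsg.pResidual, Subgroup.closure_le]
    intro g hg
    haveI := hNn
    have h1 : orderOf (QuotientGroup.mk' N g) ∣ p := by
      rw [← hNi]
      exact orderOf_dvd_natCard _
    have h2 : orderOf (QuotientGroup.mk' N g) ∣ orderOf g := orderOf_map_dvd _ g
    exact (QuotientGroup.eq_one_iff g).1 (orderOf_eq_one_iff.1 (Nat.eq_one_of_dvd_coprimes hg h2 h1))
  rw [htop, top_le_iff] at hle
  rw [hle, Subgroup.index_top] at hNi
  exact (Fact.out : p.Prime).ne_one hNi.symm

end Cfsg.Agent.S3069
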