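import Cfsg.Statements.S3071
import Cfsg.Agent.Inv.ZJCentric

set_option autoImplicit false
open Cfsg

namespace Cfsg.Agent.S3071

/-- Let p be an odd prime and S a Sylow p-subgroup of the finite group G such that, for every subgroup P with Z(S) ≤ P ≤ S, the normalizer N_G(P) has no section isomorphic to SL₂(p). Let J(S) be the subgroup generated by the abelian subgroups of S of largest order. Then two elements of S are conjugate in G if and only if they are conjugate in N_G(Z(J(S))). -/
theorem result {G : Type*} [Group G] [Finite G] {p : ℕ} [Fact p.Prime]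
    (hp : p ≠ 2) (S : Sylow p G)
    (hfree : ∀ P : Subgroup G, (S : Subgroup G) ⊓ Subgroup.centralizer ((S : Subgroup G) : Set G) ≤ P → P ≤ S →
      ¬ ∃ (H K : Subgroup G) (hK : (K.subgroupOf H).Normal), H ≤ Subgroup.normalizer (P : Set G) ∧
        Nonempty ((H ⧸ K.subgroupOf H) ≃* Matrix.SpecialLinearGroup (Fin 2) (ZMod p))) :
    ∀ x ∈ S, ∀ y ∈ S, (∃ g : G, g * x * g⁻¹ = y) ↔
      ∃ n ∈ Subgroup.normalizer (Cfsg.centerThompsonAOf (S : Subgroup G) : Set G), n * x * n⁻¹ = y := by
  rw [CfsgLib.Inv.ZJ.centerThompsonAOf_eq]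
  have hst : ∀ T : Subgroup G, (S : Subgroup G) ⊓ Subgroup.centralizer ((S : Subgroup G) : Set G) ≤ T →
      T ≤ (S : Subgroup G) → Cfsg.IsNormalizerPStable p ↥(Subgroup.normalizer (T : Set G)) := by
    intro T h1 h2
    by_contra hns
    obtain ⟨Q, -, -, hinv⟩ := CfsgLib.Dickson.involves_sl2_of_qd (CfsgLib.Dickson.isSec_qd_of_not_stable hp hns)
    obtain ⟨K, f, hf⟩ := CfsgLib.Dickson.isSec_trans (A := ↥(Subgroup.normalizer (T : Set G)))
      ⟨_, MonoidHom.id _, Function.surjective_id⟩ (CfsgLib.Dickson.isSec_of_involves hinv)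
    set H := K.map (Subgroup.normalizer (T : Set G)).subtype with hH
    set eK := K.equivMapOfInjective _ (Subgroup.normalizer (T : Set G)).subtype_injective with heK
    let f' : ↥H →* Matrix.SpecialLinearGroup (Fin 2) (ZMod p) := f.comp eK.symm.toMonoidHom
    have hf' : Function.Surjective f' := hf.comp eK.symm.surjective
    have e : (f'.ker.map H.subtype).subgroupOf H = f'.ker :=
      Subgroup.comap_map_eq_self_of_injective H.subtype_injective f'.ker
    haveI hn : ((f'.ker.map H.subtype).subgroupOf H).Normal := by rw [e]; infer_instance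
    exact hfree T h1 h2 ⟨H, f'.ker.map H.subtype, hn, Subgroup.map_subtype_le K,
      ⟨(QuotientGroup.quotientMulEquivOfEq e).trans (QuotientGroup.quotientKerEquivOfSurjective f' hf')⟩⟩
  intro x hx y hy
  refine ⟨fun ⟨g, hg⟩ => ?_, fun ⟨n, _, hn⟩ => ⟨n, hn⟩⟩
  obtain ⟨n, hn, hne⟩ := CfsgLib.Glau.def_of_fus (CfsgLib.Inv.ZJ.fus_of_local_center hp S hst) {x} g trivial
    (Set.singleton_subset_iff.2 hx) (by rintro _ ⟨a, rfl, rfl⟩; show g * a * g⁻¹ ∈ (S : Subgroup G); rw [hg]; exact hy)
  exact ⟨n, hn, (hne x rfl).trans hg⟩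

end Cfsg.Agent.S3071
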