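import Cfsg.Statements.S3072
import Cfsg.Agent.Fus.AlperinGoldschmidt
import Cfsg.Agent.Fus.CoreBasic
import Cfsg.Agent.Inv.CharP2
import Cfsg.Agent.Inv.FrakH
import Cfsg.Agent.Solv.Generation

set_option autoImplicit false
set_option maxHeartbeats 1000000
set_option linter.style.haveILetI false
open Cfsg
open CfsgLib.Glau
open CfsgLib.Fus.AlpGold
open scoped Pointwise

namespace Cfsg.Agent.S3072

variable {G : Type*} [Group G] [Finite G] {p : ℕ} [hp : Fact p.Prime]

theorem chain_congr {A B : Type*} [Group A] [Group B] [Finite A] [Finite B] (e : A ≃* B)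
    (h : IsSylowChainConnected p A) : IsSylowChainConnected p B := by
  intro S T
  have hf : Function.Surjective e.toMonoidHom := e.surjective
  have hg : Function.Surjective e.symm.toMonoidHom := e.symm.surjective
  have hi : Function.Injective e.toMonoidHom := e.injective
  have back : ∀ S : Sylow p B, (S.mapSurjective hg).mapSurjective hf = S := fun S => by
    refine Sylow.ext ?_
    show ((S : Subgroup B).map e.symm.toMonoidHom).map e.toMonoidHom = (S : Subgroup B)
    rw [Subgroup.map_map]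
    ext x
    simp
  obtain ⟨n, c, h0, hl, hc, hs⟩ := h (S.mapSurjective hg) (T.mapSurjective hg)
  refine ⟨n, fun i => (c i).mapSurjective hf, ?_, ?_, fun i => ?_, fun i => ⟨fun he => (hs i).1 ?_, fun he => (hs i).2 ?_⟩⟩
  · show (c 0).mapSurjective hf = S
    rw [h0, back]
  · show (c (Fin.last n)).mapSurjective hf = T
    rw [hl, back]
  · have h1 : ((S.mapSurjective hg : Sylow p A) : Subgroup A).map e.toMonoidHom ⊓ ((T.mapSurjective hg : Sylow p A) : Subgroup A).map e.toMonoidHom ≤ (c i : Subgroup A).map e.toMonoidHom := by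
      rw [← Subgroup.map_inf _ _ _ hi]; exact Subgroup.map_mono (hc i)
    have eS := congrArg (fun S : Sylow p B => (S : Subgroup B)) (back S)
    have eT := congrArg (fun S : Sylow p B => (S : Subgroup B)) (back T)
    exact (inf_le_inf eS.ge eT.ge).trans h1
  · exact Sylow.ext (Subgroup.map_injective (f := e.toMonoidHom) hi (congrArg (fun S : Sylow p B => (S : Subgroup B)) he))
  · have h2 : (c i.castSucc : Subgroup A).map e.toMonoidHom ⊓ (c i.succ : Subgroup A).map e.toMonoidHom = ⊥ := he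
    rwa [← Subgroup.map_inf _ _ _ hi, Subgroup.map_eq_bot_iff_of_injective _ hi] at h2

theorem relIndex_map_subtype {A : Type*} [Group A] {M : Subgroup A} (Q : Subgroup M) :
    (Q.map M.subtype).relIndex M = Q.index := by
  show ((Q.map M.subtype).comap M.subtype).index = Q.index
  rw [Subgroup.comap_map_eq_self_of_injective M.subtype_injective]

theorem map_core {A B : Type*} [Group A] [Group B] [Finite A] [Finite B] (e : A ≃* B) :
    (pPrimePCore p A).map e.toMonoidHom = pPrimePCore p B := by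
  haveI := CfsgLib.Solv.pPrimeCore_normal A p
  haveI := CfsgLib.Solv.pPrimeCore_normal B p
  let ē := QuotientGroup.congr (pPrimeCore p A) (pPrimeCore p B) e (CfsgLib.Solv.map_pPrimeCore_equiv e)
  ext y
  obtain ⟨x, rfl⟩ := e.surjective y
  rw [show e x = e.toMonoidHom x from rfl, Subgroup.mem_map_iff_mem e.injective, pPrimePCore, pPrimePCore, Subgroup.mem_comap, Subgroup.mem_comap,
    ← CfsgLib.Solv.map_pCore_equiv ē]
  exact (Subgroup.mem_map_iff_mem (f := ē.toMonoidHom) ē.injective).symm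

theorem map_centralizer (e : G ≃* G) (S : Set G) :
    (Subgroup.centralizer S).map e.toMonoidHom = Subgroup.centralizer (e '' S) := by
  ext x
  obtain ⟨y, rfl⟩ := e.surjective x
  rw [show e y = e.toMonoidHom y from rfl, Subgroup.mem_map_iff_mem e.injective, Subgroup.mem_centralizer_iff, Subgroup.mem_centralizer_iff]
  refine ⟨?_, fun h s hs => e.injective ?_⟩
  · rintro h _ ⟨s, hs, rfl⟩
    show e s * e y = e y * e s
    rw [← map_mul, ← map_mul, h s hs]
  · rw [map_mul, map_mul]; exact h _ ⟨s, hs, rfl⟩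

theorem normalizer_map (e : G ≃* G) (H : Subgroup G) :
    (Subgroup.normalizer (H : Set G)).map e.toMonoidHom = Subgroup.normalizer (H.map e.toMonoidHom : Set G) := by
  ext x
  obtain ⟨y, rfl⟩ := e.surjective x
  rw [show e y = e.toMonoidHom y from rfl, Subgroup.mem_map_iff_mem e.injective, Subgroup.mem_normalizer_iff, Subgroup.mem_normalizer_iff]
  constructor
  · intro h z
    obtain ⟨w, rfl⟩ := e.surjective z
    rw [show e w = e.toMonoidHom w from rfl, Subgroup.mem_map_iff_mem e.injective, ← map_inv, ← map_mul, ← map_mul, Subgroup.mem_map_iff_mem e.injective]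
    exact h w
  · intro h w
    have := h (e.toMonoidHom w)
    rwa [Subgroup.mem_map_iff_mem e.injective, ← map_inv, ← map_mul, ← map_mul, Subgroup.mem_map_iff_mem e.injective] at this

/-- An admissible step. -/
def StepOK (p : ℕ) (P H : Subgroup G) (x : G) : Prop :=
  H ≤ P ∧
  ¬ p ∣ (P ⊓ Subgroup.normalizer (H : Set G)).relIndex (Subgroup.normalizer (H : Set G)) ∧
  P ⊓ Subgroup.centralizer (H : Set G) ≤ H ∧
  (Cfsg.pPrimePCore p ↥(Subgroup.normalizer (H : Set G))).map (Subgroup.normalizer (H : Set G)).subtype =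
    H ⊔ Subgroup.centralizer (H : Set G) ∧
  ¬ Cfsg.IsSylowChainConnected p
      (↥(Subgroup.normalizer (H : Set G)) ⧸ H.subgroupOf (Subgroup.normalizer (H : Set G))) ∧
  ∃ X : Subgroup G, (H ≤ X ∧ X ≤ Subgroup.normalizer (H : Set G) ∧
    (X.subgroupOf (Subgroup.normalizer (H : Set G))).Normal ∧ p ∣ H.relIndex X ∧
    ∀ Y : Subgroup G, H ≤ Y → Y ≤ Subgroup.normalizer (H : Set G) →
      (Y.subgroupOf (Subgroup.normalizer (H : Set G))).Normal → p ∣ H.relIndex Y → X ≤ Y) ∧
    x ∈ (Cfsg.pResidual p ↥X).map X.subtype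

theorem stepOK_map {P H : Subgroup G} {x : G} (e : G ≃* G) (heP : P.map e.toMonoidHom = P) (h : StepOK p P H x) :
    StepOK p P (H.map e.toMonoidHom) (e x) := by
  obtain ⟨h1, h2, h3, h4, h5, X, ⟨hX1, hX2, hX3, hX4, hX5⟩, hx⟩ := h
  set N := Subgroup.normalizer (H : Set G) with hN
  have hN' := normalizer_map e H
  have hC : (Subgroup.centralizer (H : Set G)).map e.toMonoidHom = Subgroup.centralizer (H.map e.toMonoidHom : Set G) := by
    rw [map_centralizer, Subgroup.coe_map]; rfl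
  refine ⟨heP ▸ Subgroup.map_mono h1, ?_, ?_, ?_, ?_, X.map e.toMonoidHom, ⟨Subgroup.map_mono hX1, ?_, ?_, ?_, ?_⟩, ?_⟩
  · rw [← hN', ← heP, ← Subgroup.map_inf _ _ _ e.injective, Subgroup.relIndex_map_map_of_injective _ _ e.injective]
    exact h2
  · rw [← hC, ← heP, ← Subgroup.map_inf _ _ _ e.injective]; exact Subgroup.map_mono h3
  · rw [← hC, ← Subgroup.map_sup, ← h4, ← map_core ((e.subgroupMap N).trans (MulEquiv.subgroupCongr hN')), Subgroup.map_map, Subgroup.map_map]
    rfl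
  · intro hc
    refine h5 (chain_congr (QuotientGroup.congr (H.subgroupOf N) ((H.map e.toMonoidHom).subgroupOf (Subgroup.normalizer (H.map e.toMonoidHom : Set G)))
      ((e.subgroupMap N).trans (MulEquiv.subgroupCongr hN')) ?_).symm hc)
    ext z
    constructor
    · rintro ⟨w, hw, rfl⟩; exact ⟨w, hw, rfl⟩
    · rintro ⟨w, hw, hwz⟩
      exact ⟨⟨w, Subgroup.le_normalizer hw⟩, hw, Subtype.ext hwz⟩
  · rw [← hN']; exact Subgroup.map_mono hX2
  · refine Subgroup.normal_subgroupOf_of_le_normalizer ?_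
    rw [← hN', ← normalizer_map]
    exact Subgroup.map_mono ((Subgroup.normal_subgroupOf_iff_le_normalizer hX2).1 hX3)
  · rwa [Subgroup.relIndex_map_map_of_injective _ _ e.injective]
  · intro Y hY1 hY2 hY3 hY4
    have hY : (Y.map e.symm.toMonoidHom).map e.toMonoidHom = Y := by
      rw [Subgroup.map_map]; ext z; simp
    rw [← hY] at hY1 hY2 hY3 hY4 ⊢
    rw [← hN'] at hY2
    have hY2' := (Subgroup.map_le_map_iff_of_injective e.injective).1 hY2
    refine Subgroup.map_mono (hX5 _ ((Subgroup.map_le_map_iff_of_injective e.injective).1 hY1) hY2'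
      (Subgroup.normal_subgroupOf_of_le_normalizer ?_) ?_)
    · have h6 := (Subgroup.normal_subgroupOf_iff_le_normalizer (hN' ▸ hY2)).1 hY3
      rw [← hN', ← normalizer_map] at h6
      exact (Subgroup.map_le_map_iff_of_injective e.injective).1 h6
    · rwa [Subgroup.relIndex_map_map_of_injective _ _ e.injective] at hY4
  · have hle : (Cfsg.pResidual p ↥X).map X.subtype ≤ ((Cfsg.pResidual p ↥(X.map e.toMonoidHom)).map (X.map e.toMonoidHom).subtype).comap e.toMonoidHom :=
      CfsgLib.Inv.FH.residual_le fun z hz hzo => CfsgLib.Inv.FH.mem_residual (Subgroup.mem_map_of_mem _ hz)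
        (by show (orderOf (e z)).Coprime p; rwa [MulEquiv.orderOf_eq])
    exact hle hx

/-- A product of admissible steps carrying `A`. -/
inductive Word (p : ℕ) (P : Subgroup G) : Subgroup G → G → Prop
  | one (A : Subgroup G) : Word p P A 1
  | step {A : Subgroup G} {x g : G} (H : Subgroup G) (hs : StepOK p P H x) (hA : A ≤ H)
      (hc : Word p P (cj x⁻¹ A) g) : Word p P A (x * g)

theorem Word.trans {P A : Subgroup G} {g : G} (h : Word p P A g) :
    ∀ {g' : G}, Word p P (cj g⁻¹ A) g' → Word p P A (g * g') := by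
  induction h with
  | one A => intro g' h; rw [one_mul]; rwa [inv_one, cj_one] at h
  | step H hs hA _ ih =>
    intro g' h
    rw [mul_assoc]
    exact Word.step H hs hA (ih (by rwa [← cj_mul, ← mul_inv_rev]))

theorem Word.mono {P A : Subgroup G} {g : G} (h : Word p P A g) : ∀ {B : Subgroup G}, B ≤ A → Word p P B g := by
  induction h with
  | one A => exact fun _ => Word.one _
  | step H hs hA _ ih => exact fun hB => Word.step H hs (hB.trans hA) (ih (cj_mono _ hB))

theorem Word.conj {P A : Subgroup G} {g y : G} (hy : cj y P = P) (h : Word p P A g) :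
    Word p P (cj y A) (y * g * y⁻¹) := by
  induction h with
  | one A => rw [mul_one, mul_inv_cancel]; exact Word.one _
  | @step A x g H hs hA _ ih =>
    rw [show y * (x * g) * y⁻¹ = y * x * y⁻¹ * (y * g * y⁻¹) by group]
    refine Word.step (cj y H) (stepOK_map (MulAut.conj y) hy hs) (cj_mono _ hA) ?_
    rwa [← cj_mul, show (y * x * y⁻¹)⁻¹ * y = y * x⁻¹ by group, cj_mul]

/-- The conclusion, in subgroup form. -/
def Good (p : ℕ) (P A : Subgroup G) (g : G) : Prop :=
  ∃ c ∈ Subgroup.centralizer (A : Set G), ∃ w y : G, Word p P A w ∧ y ∈ Subgroup.normalizer (P : Set G) ∧ g = c * w * y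

theorem Good.mono {P A B : Subgroup G} {g : G} (h : Good p P A g) (hB : B ≤ A) : Good p P B g := by
  obtain ⟨c, hc, w, y, hw, hy, e⟩ := h
  exact ⟨c, Subgroup.centralizer_le hB hc, w, y, hw.mono hB, hy, e⟩

theorem cj_eq_of_cent {A : Subgroup G} {c : G} (hc : c ∈ Subgroup.centralizer (A : Set G)) : cj c A = A :=
  mem_normalizer_iff_cj.1 (Subgroup.centralizer_le_normalizer _ hc)

theorem Good.trans {P A : Subgroup G} {g g' : G} (h : Good p P A g) (h' : Good p P (cj g⁻¹ A) g') :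
    Good p P A (g * g') := by
  obtain ⟨c, hc, w, y, hw, hy, rfl⟩ := h
  obtain ⟨c', hc', w', y', hw', hy', rfl⟩ := h'
  set B := cj w⁻¹ A with hB
  have hAB : cj (c * w * y)⁻¹ A = cj y⁻¹ B := by
    rw [hB, mul_inv_rev, mul_inv_rev, cj_mul, cj_mul, cj_eq_of_cent (inv_mem hc)]
  rw [hAB] at hc' hw'
  have hc2 : y * c' * y⁻¹ ∈ Subgroup.centralizer (B : Set G) := by
    refine Subgroup.mem_centralizer_iff.2 fun b hb => ?_
    have h1 := Subgroup.mem_centralizer_iff.1 hc' (y⁻¹ * b * y) (by have := conj_mem_cj (g := y⁻¹) hb; rwa [inv_inv] at this)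
    calc b * (y * c' * y⁻¹) = y * ((y⁻¹ * b * y) * c') * y⁻¹ := by group
      _ = y * (c' * (y⁻¹ * b * y)) * y⁻¹ := by rw [h1]
      _ = _ := by group
  have hc3 : w * (y * c' * y⁻¹) * w⁻¹ ∈ Subgroup.centralizer (A : Set G) := by
    refine Subgroup.mem_centralizer_iff.2 fun a ha => ?_
    have h1 := Subgroup.mem_centralizer_iff.1 hc2 (w⁻¹ * a * w) (by have := conj_mem_cj (g := w⁻¹) ha; rwa [inv_inv] at this)
    calc a * (w * (y * c' * y⁻¹) * w⁻¹) = w * ((w⁻¹ * a * w) * (y * c' * y⁻¹)) * w⁻¹ := by group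
      _ = w * ((y * c' * y⁻¹) * (w⁻¹ * a * w)) * w⁻¹ := by rw [h1]
      _ = _ := by group
  have hw2 := hw'.conj (mem_normalizer_iff_cj.1 hy)
  rw [cj_cj_inv] at hw2
  exact ⟨c * (w * (y * c' * y⁻¹) * w⁻¹), mul_mem hc hc3, w * (y * w' * y⁻¹), y * y', hw.trans hw2, mul_mem hy hy', by group⟩

theorem good_of_norm {P A : Subgroup G} {y : G} (hy : y ∈ Subgroup.normalizer (P : Set G)) : Good p P A y :=
  ⟨1, one_mem _, 1, y, Word.one _, hy, by group⟩

theorem good_of_cent {P A : Subgroup G} {c : G} (hc : c ∈ Subgroup.centralizer (A : Set G)) : Good p P A c :=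
  ⟨c, hc, 1, 1, Word.one _, one_mem _, by group⟩

/-- Transport of a subgroup inside a Sylow subgroup, given all tame normalizers of at least its order. -/
theorem good_of_transport (P : Sylow p G) (k : ℕ)
    (hgood : ∀ D, Tame p (P : Subgroup G) D → k ≤ Nat.card D → ∀ n ∈ Subgroup.normalizer (D : Set G), Good p (P : Subgroup G) D n)
    {R : Subgroup G} {g : G} (hR : R ≤ (P : Subgroup G)) (hk : k ≤ Nat.card R) (hg : cj g⁻¹ R ≤ (P : Subgroup G)) :
    Good p (P : Subgroup G) R g := by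
  have hmap : CfsgLib.Fus.IsMap (groupFusionSystem (P : Subgroup G)) R (CfsgLib.Fus.conjF g⁻¹) :=
    CfsgLib.Fus.isMap_group_iff.2 ⟨hR, g⁻¹, fun x hx => ⟨rfl, hg (conj_mem_cj hx)⟩⟩
  obtain ⟨g', hp', hg'⟩ := (isMap_routedSys.1 (CfsgLib.Fus.le_iff.1 (le_routedSys P) _ _ hmap)).2
  have hc : g * g'⁻¹ ∈ Subgroup.centralizer (R : Set G) := by
    refine Subgroup.mem_centralizer_iff.2 fun a ha => ?_
    have h1 : g⁻¹ * a * g = g'⁻¹ * a * g' := by simpa using hg' a ha
    calc a * (g * g'⁻¹) = g * (g⁻¹ * a * g) * g'⁻¹ := by group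
      _ = g * g'⁻¹ * a := by rw [h1]; group
  suffices key : ∀ (A : Subgroup G) (w : G), Path p (P : Subgroup G) A w → k ≤ Nat.card A → Good p (P : Subgroup G) A w by
    have h1 := (good_of_cent (p := p) (P := (P : Subgroup G)) hc).trans
      (g' := g') (key _ _ (by rwa [cj_eq_of_cent (inv_mem hc)]) (by rwa [cj_eq_of_cent (inv_mem hc)]))
    rwa [inv_mul_cancel_right] at h1
  intro A w hw
  induction hw with
  | one A => exact fun _ => good_of_cent (one_mem _)
  | @step A x g D hD hx hA _ ih =>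
    intro hk'
    exact ((hgood D hD (hk'.trans (Subgroup.card_le_of_le hA)) x hx).mono hA).trans (ih (by rwa [card_cj]))

/-- Sylow conjugation below a subgroup. -/
theorem syl_conj {T M U : Subgroup G} (hT : IsPGroup p T) (hTM : T ≤ M) (hidx : ¬ p ∣ T.relIndex M)
    (hU : IsPGroup p U) (hUM : U ≤ M) : ∃ m ∈ M, cj m U ≤ T := by
  let S : Sylow p M := (hT.comap_subtype (K := M)).toSylow (by exact hidx)
  obtain ⟨Q, hQ⟩ := (hU.comap_subtype (K := M)).exists_le_sylow
  obtain ⟨m, hm⟩ := MulAction.exists_smul_eq M Q S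
  refine ⟨m, m.2, ?_⟩
  rintro _ ⟨u, hu, rfl⟩
  have h1 : m * ⟨u, hUM hu⟩ * m⁻¹ ∈ (S : Subgroup M) := by
    rw [← hm, Sylow.coe_subgroup_smul, CfsgLib.Solv.mem_conj_smul_iff]
    simpa [mul_assoc] using hQ (show (⟨u, hUM hu⟩ : M) ∈ U.comap M.subtype from hu)
  exact h1

theorem exists_norm_gt {P D : Subgroup G} (hP : IsPGroup p P) (hDP : D ≤ P) (hne : D ≠ P) :
    D < P ⊓ Subgroup.normalizer (D : Set G) := by
  refine lt_of_le_of_ne (le_inf hDP Subgroup.le_normalizer) fun e => ?_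
  have hlt : D.subgroupOf P < ⊤ := lt_top_iff_ne_top.2 fun h => hne (le_antisymm hDP (Subgroup.subgroupOf_eq_top.1 h))
  haveI := hP.isNilpotent
  obtain ⟨m, hm, hmD⟩ := SetLike.exists_of_lt (Group.normalizerCondition_of_isNilpotent _ hlt)
  refine hmD (Subgroup.mem_subgroupOf.2 (e.ge (Subgroup.mem_inf.2 ⟨m.2, ?_⟩)))
  exact Subgroup.mem_normalizer_fintype fun x hx => (Subgroup.mem_normalizer_iff.1 hm ⟨x, hDP hx⟩).1 hx

theorem main (P : Sylow p G) : ∀ (k : ℕ) (D : Subgroup G), Nat.card (P : Subgroup G) - Nat.card D = k →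
    Tame p (P : Subgroup G) D → ∀ n ∈ Subgroup.normalizer (D : Set G), Good p (P : Subgroup G) D n := by
  intro k
  induction k using Nat.strong_induction_on with
  | _ k ih =>
  intro D hk hDt
  obtain ⟨hDP, hCL, hdir, hsyl⟩ := hDt
  by_cases hDeq : D = (P : Subgroup G)
  · exact fun n hn => good_of_norm (hDeq ▸ hn)
  set N := Subgroup.normalizer (D : Set G) with hN
  set T := (P : Subgroup G) ⊓ N with hT
  have hTN : T ≤ N := inf_le_right
  have hTp : IsPGroup p T := P.isPGroup'.to_le inf_le_left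
  have hDT : D < T := exists_norm_gt P.isPGroup' hDP hDeq
  have hr : ∀ R : Subgroup G, D < R → R ≤ T → ∀ r, r ∈ Subgroup.normalizer (R : Set G) → Good p (P : Subgroup G) D r := by
    intro R hDR hRT r hr
    have hlt : Nat.card D < Nat.card R := lt_of_not_ge fun hge => hDR.ne (Subgroup.eq_of_le_of_card_ge hDR.le hge)
    refine (good_of_transport P (Nat.card R) (fun E hE hkE => ih _ ?_ E rfl hE) (hRT.trans inf_le_left) le_rfl ?_).mono hDR.le
    · have hEP : Nat.card E ≤ Nat.card (P : Subgroup G) := Subgroup.card_le_of_le hE.1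
      omega
    · rw [mem_normalizer_iff_cj.1 (inv_mem hr)]; exact hRT.trans inf_le_left
  have hmulgood : ∀ a b, a ∈ N → Good p (P : Subgroup G) D a → Good p (P : Subgroup G) D b → Good p (P : Subgroup G) D (a * b) :=
    fun a b ha h1 h2 => h1.trans (by rwa [mem_normalizer_iff_cj.1 (inv_mem ha)])
  set M0 := Subgroup.closure {r : G | r ∈ N ∧ ∃ R : Subgroup G, D < R ∧ R ≤ T ∧ r ∈ Subgroup.normalizer (R : Set G)} with hM0
  have hM0N : M0 ≤ N := (Subgroup.closure_le _).2 fun r hr => hr.1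
  have hM0good : ∀ r ∈ M0, Good p (P : Subgroup G) D r := by
    intro r hr'
    rw [hM0, ← Subgroup.mem_toSubmonoid, Subgroup.closure_toSubmonoid_of_finite] at hr'
    suffices h : r ∈ N ∧ Good p (P : Subgroup G) D r from h.2
    induction hr' using Submonoid.closure_induction with
    | mem r hr' =>
      obtain ⟨h1, R, hR1, hR2, hR3⟩ := hr'
      exact ⟨h1, hr R hR1 hR2 r hR3⟩
    | one => exact ⟨one_mem _, good_of_cent (one_mem _)⟩
    | mul a b _ _ iha ihb => exact ⟨mul_mem iha.1 ihb.1, hmulgood a b iha.1 iha.2 ihb.2⟩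
  by_cases hNM : N ≤ M0
  · exact fun n hn => hM0good n (hNM hn)
  have hgen : ∀ R : Subgroup G, D < R → R ≤ T → ∀ r ∈ N, r ∈ Subgroup.normalizer (R : Set G) → r ∈ M0 :=
    fun R h1 h2 r h3 h4 => Subgroup.subset_closure ⟨h3, R, h1, h2, h4⟩
  have hTM0 : T ≤ M0 := fun t ht => hgen T hDT le_rfl t (hTN ht) (Subgroup.le_normalizer ht)
  -- fusion above `D` stays in `M0`
  have hfuse : ∀ (j : ℕ) (U : Subgroup G), Nat.card T - Nat.card U = j → D < U → U ≤ T →
      ∀ m ∈ N, cj m U ≤ T → m ∈ M0 := by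
    intro j
    induction j using Nat.strong_induction_on with
    | _ j ihj =>
    intro U hj hDU hUT m hm hmU
    by_cases hUe : U = T
    · subst hUe
      exact hgen T hDU le_rfl m hm (mem_normalizer_iff_cj.2 (Subgroup.eq_of_le_of_card_ge hmU (card_cj m T).ge))
    have hU2ne : cj m U ≠ T := fun e => hUe (Subgroup.eq_of_le_of_card_ge hUT (by rw [← card_cj m U, e]))
    have h1 := exists_norm_gt hTp hUT hUe
    have h2 := exists_norm_gt hTp hmU hU2ne
    set U1 := T ⊓ Subgroup.normalizer (U : Set G) with hU1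
    set U2 := T ⊓ Subgroup.normalizer (cj m U : Set G) with hU2
    set K := N ⊓ Subgroup.normalizer (U : Set G) with hK
    have hV : cj m⁻¹ U2 ≤ K := by
      refine le_inf ?_ ?_
      · rintro _ ⟨u, hu, rfl⟩
        exact mul_mem (mul_mem (inv_mem hm) (hTN (Subgroup.mem_inf.1 hu).1)) (inv_mem (inv_mem hm))
      · refine (cj_mono _ inf_le_right).trans ?_
        rw [cj_normalizer, cj_inv_cj]
    obtain ⟨Q⟩ : Nonempty (Sylow p K) := inferInstance
    set Q' := (Q : Subgroup K).map K.subtype with hQ'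
    have hQp : IsPGroup p Q' := Q.isPGroup'.map _
    have hQK : Q' ≤ K := Subgroup.map_subtype_le _
    have hQidx : ¬ p ∣ Q'.relIndex K := by
      rw [hQ', relIndex_map_subtype]
      exact Q.not_dvd_index
    obtain ⟨a, ha, hau⟩ := syl_conj hQp hQK hQidx (hTp.to_le inf_le_left : IsPGroup p U1) (inf_le_inf_right _ hTN)
    obtain ⟨b, hb, hbv⟩ := syl_conj hQp hQK hQidx (isPGroup_cj m⁻¹ (hTp.to_le inf_le_left : IsPGroup p U2)) hV
    obtain ⟨z, hz, hzQ⟩ := syl_conj hTp hTN hsyl hQp (hQK.trans inf_le_left)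
    have hlt1 : Nat.card U < Nat.card U1 := lt_of_not_ge fun hge => h1.ne (Subgroup.eq_of_le_of_card_ge h1.le hge)
    have hlt2 : Nat.card U < Nat.card U2 := lt_of_not_ge fun hge => h2.ne (Subgroup.eq_of_le_of_card_ge h2.le (by rwa [card_cj]))
    have hU1T : Nat.card U1 ≤ Nat.card T := Subgroup.card_le_of_le inf_le_left
    have hU2T : Nat.card U2 ≤ Nat.card T := Subgroup.card_le_of_le inf_le_left
    have haM : a ∈ M0 := hgen U hDU hUT a (Subgroup.mem_inf.1 ha).1 (Subgroup.mem_inf.1 ha).2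
    have hbM : b ∈ M0 := hgen U hDU hUT b (Subgroup.mem_inf.1 hb).1 (Subgroup.mem_inf.1 hb).2
    have hza : z * a ∈ M0 := ihj _ (by omega) U1 rfl (hDU.trans h1) inf_le_left _ (mul_mem hz (Subgroup.mem_inf.1 ha).1)
      (by rw [cj_mul]; exact (cj_mono z hau).trans hzQ)
    have hDU2 : D < U2 := lt_of_le_of_ne (le_inf hDT.le (fun d hd => Subgroup.le_normalizer (by
        rw [← mem_normalizer_iff_cj.1 hm] at hd; exact cj_mono m hDU.le hd))) fun e => by
      rw [← e] at hlt2
      have := Subgroup.card_le_of_le hDU.le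
      omega
    have hzb : z * b * m⁻¹ ∈ M0 := ihj _ (by omega) U2 rfl hDU2 inf_le_left _
      (mul_mem (mul_mem hz (Subgroup.mem_inf.1 hb).1) (inv_mem hm))
      (by rw [cj_mul, cj_mul]; exact (cj_mono z hbv).trans hzQ)
    have hzM : z ∈ M0 := by
      have := mul_mem hza (inv_mem haM); rwa [mul_inv_cancel_right] at this
    have := mul_mem (inv_mem hzb) (mul_mem hzM hbM)
    simpa [mul_assoc] using this
  have fuse : ∀ U : Subgroup G, D < U → U ≤ T → ∀ m ∈ N, cj m U ≤ T → m ∈ M0 := fun U => hfuse _ U rfl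
  -- quotient
  set D' := D.subgroupOf N with hD'
  haveI hD'n : D'.Normal := Subgroup.normal_subgroupOf_of_le_normalizer le_rfl
  set q := QuotientGroup.mk' D' with hq
  let T0 : Sylow p N := (hTp.comap_subtype (K := N)).toSylow (by exact hsyl)
  have hpre : ∀ (z : N) (x : N), q x ∈ (((z • T0).mapSurjective (f := q) (QuotientGroup.mk'_surjective D') : Sylow p (N ⧸ D')) : Subgroup (N ⧸ D')) ↔
      (z : G)⁻¹ * x * z ∈ T := by
    intro z x
    rw [Sylow.coe_mapSurjective]
    have hker : D' ≤ ((z • T0 : Sylow p N) : Subgroup N) := by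
      intro d hd
      rw [Sylow.coe_subgroup_smul, CfsgLib.Solv.mem_conj_smul_iff]
      exact hDT.le (by simpa using (Subgroup.mem_normalizer_iff''.1 z.2 (d : G)).1 hd)
    rw [← Subgroup.mem_comap, Subgroup.comap_map_eq_self (by rw [hq, QuotientGroup.ker_mk']; exact hker),
      Sylow.coe_subgroup_smul, CfsgLib.Solv.mem_conj_smul_iff]
    rfl
  have hnc : ¬ IsSylowChainConnected p (N ⧸ D') := by
    intro hc
    apply hNM
    intro n hn
    obtain ⟨l, c, h0, hl, -, hs⟩ := hc (((1 : N) • T0).mapSurjective (f := q) (QuotientGroup.mk'_surjective D'))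
      (((⟨n, hn⟩ : N) • T0).mapSurjective (f := q) (QuotientGroup.mk'_surjective D'))
    have hsame : ∀ z z' : N, (z • T0).mapSurjective (f := q) (QuotientGroup.mk'_surjective D') = (z' • T0).mapSurjective (f := q) (QuotientGroup.mk'_surjective D') →
        (z : G) ∈ M0 → (z' : G) ∈ M0 := by
      intro z z' he hz
      have hm : cj ((z' : G)⁻¹ * z) T ≤ T := by
        rintro _ ⟨t, ht, rfl⟩
        have h1 := (hpre z (z * ⟨t, hTN ht⟩ * z⁻¹)).2 (by simpa [mul_assoc] using ht)
        rw [he, hpre] at h1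
        simpa [mul_assoc] using h1
      have := mul_mem hz (inv_mem (fuse T hDT le_rfl _ (mul_mem (inv_mem z'.2) z.2) hm))
      simpa [mul_assoc] using this
    have key : ∀ i : Fin (l + 1), ∃ z : N, (z : G) ∈ M0 ∧ c i = (z • T0).mapSurjective (f := q) (QuotientGroup.mk'_surjective D') := by
      intro i
      induction i using Fin.induction with
      | zero => exact ⟨1, one_mem _, h0⟩
      | succ i ihi =>
        obtain ⟨z, hz, hzc⟩ := ihi
        obtain ⟨Q, hQ⟩ := Sylow.mapSurjective_surjective (QuotientGroup.mk'_surjective D') p (c i.succ)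
        obtain ⟨z', hz'⟩ := MulAction.exists_smul_eq N T0 Q
        subst hz'
        refine ⟨z', ?_, hQ.symm⟩
        have hne := (hs i).2
        rw [hzc, ← hQ] at hne
        obtain ⟨xb, hxb, hxb1⟩ := (Subgroup.bot_or_exists_ne_one _).resolve_left hne
        obtain ⟨x, rfl⟩ := QuotientGroup.mk'_surjective D' xb
        obtain ⟨ha, hb⟩ := Subgroup.mem_inf.1 hxb
        rw [hpre] at ha hb
        have hU : D ⊔ Subgroup.zpowers ((z : G)⁻¹ * x * z) ≤ T := sup_le hDT.le (Subgroup.zpowers_le.2 ha)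
        have hlt : D < D ⊔ Subgroup.zpowers ((z : G)⁻¹ * x * z) := lt_of_le_of_ne le_sup_left fun e => hxb1 ((QuotientGroup.eq_one_iff x).2 (by
          have h1 : (z : G)⁻¹ * x * z ∈ D := e.ge (Subgroup.mem_sup_right (Subgroup.mem_zpowers _))
          exact (Subgroup.mem_normalizer_iff''.1 z.2 (x : G)).2 h1))
        have hm := fuse _ hlt hU ((z' : G)⁻¹ * z) (mul_mem (inv_mem z'.2) z.2) (by
          rw [cj, Subgroup.map_sup, MonoidHom.map_zpowers]
          refine sup_le ?_ (Subgroup.zpowers_le.2 ?_)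
          · exact ((mem_normalizer_iff_cj.1 (mul_mem (inv_mem z'.2) z.2)).le.trans hDT.le)
          · simpa [mul_assoc] using hb)
        have := mul_mem hz (inv_mem hm)
        simpa [mul_assoc] using this
    obtain ⟨z, hz, hzc⟩ := key (Fin.last l)
    rw [hl] at hzc
    exact hsame z ⟨n, hn⟩ hzc.symm hz
  -- the smallest normal subgroup of order divisible by `p` over `D`
  have hTidx : p ∣ D.relIndex T := by
    obtain ⟨j, hj⟩ := hTp.index (D.subgroupOf T)
    rcases Nat.eq_zero_or_pos j with rfl | hj0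
    · rw [pow_zero] at hj
      exact absurd (le_antisymm hDT.le (Subgroup.relIndex_eq_one.1 hj)) hDT.ne
    · have h' := dvd_pow_self p hj0.ne'
      rw [← hj] at h'
      exact h'
  obtain ⟨X, ⟨hDX, hXN, hXn, hXp⟩, hXmin⟩ := Set.exists_min_image
    {Y : Subgroup G | D ≤ Y ∧ Y ≤ N ∧ N ≤ Subgroup.normalizer (Y : Set G) ∧ p ∣ D.relIndex Y} (fun Y => Nat.card Y)
    (Set.toFinite _) ⟨N, Subgroup.le_normalizer, le_rfl, Subgroup.le_normalizer, hTidx.trans ⟨T.relIndex N, (Subgroup.relIndex_mul_relIndex _ _ _ hDT.le hTN).symm⟩⟩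
  have hsylY : ∀ Y : Subgroup G, D ≤ Y → Y ≤ N → N ≤ Subgroup.normalizer (Y : Set G) →
      ¬ p ∣ (T ⊓ Y).relIndex Y ∧ (p ∣ D.relIndex Y → D < T ⊓ Y) := by
    intro Y hDY hYN hYn
    haveI : (Y.subgroupOf N).Normal := Subgroup.normal_subgroupOf_of_le_normalizer hYn
    obtain ⟨Q, hQ⟩ := CfsgLib.Inv.sylow_inf_normal T0 (Y.subgroupOf N)
    have h1 : ¬ p ∣ ((T ⊓ Y).subgroupOf N).relIndex (Y.subgroupOf N) := by
      rw [show (T ⊓ Y).subgroupOf N = (T0 : Subgroup N) ⊓ Y.subgroupOf N from rfl, ← hQ, relIndex_map_subtype]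
      exact Q.not_dvd_index
    rw [← Subgroup.relIndex_map_map_of_injective _ _ N.subtype_injective, Subgroup.map_subgroupOf_eq_of_le (inf_le_left.trans hTN),
      Subgroup.map_subgroupOf_eq_of_le hYN] at h1
    exact ⟨h1, fun hd => lt_of_le_of_ne (le_inf hDT.le hDY) fun e => h1 (e ▸ hd)⟩
  have hTX := (hsylY X hDX hXN hXn).2 hXp
  have hmove : ∀ (Z : Subgroup G), D < Z → Z ≤ T → ∀ n ∈ N, cj n Z ≤ M0 → n ∈ M0 := by
    intro Z hDZ hZT n hn hZ
    obtain ⟨m, hm, hmle⟩ := syl_conj hTp hTM0 (fun h => hsyl (h.trans ⟨M0.relIndex N, (Subgroup.relIndex_mul_relIndex _ _ _ hTM0 hM0N).symm⟩))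
      (isPGroup_cj n (hTp.to_le hZT)) hZ
    have := mul_mem (inv_mem hm) (fuse Z hDZ hZT (m * n) (mul_mem (hM0N hm) hn) (by rwa [cj_mul]))
    rwa [inv_mul_cancel_left] at this
  have hminimal : ∀ Y : Subgroup G, D ≤ Y → Y ≤ N → N ≤ Subgroup.normalizer (Y : Set G) → p ∣ D.relIndex Y → X ≤ Y := by
    intro Y hDY hYN hYn hYp
    set I := X ⊓ Y with hI
    have hIn : N ≤ Subgroup.normalizer (I : Set G) := CfsgLib.Solv.le_normalizer_inf_of_le hXn hYn
    by_cases hIp : p ∣ D.relIndex I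
    · have := Subgroup.eq_of_le_of_card_ge (inf_le_left : I ≤ X) (hXmin I ⟨le_inf hDX hDY, inf_le_left.trans hXN, hIn, hIp⟩)
      exact this.ge.trans inf_le_right
    exfalso
    have hTY := (hsylY Y hDY hYN hYn).2 hYp
    have hIT : T ⊓ I ≤ D := by
      have hd : D.relIndex (T ⊓ I) ∣ D.relIndex I :=
        ⟨(T ⊓ I).relIndex I, (Subgroup.relIndex_mul_relIndex _ _ _ (le_inf hDT.le (le_inf hDX hDY)) inf_le_right).symm⟩
      obtain ⟨j, hj⟩ := (hTp.to_le (inf_le_left : T ⊓ I ≤ T)).index (D.subgroupOf (T ⊓ I))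
      rcases Nat.eq_zero_or_pos j with rfl | hj0
      · rw [pow_zero] at hj; exact Subgroup.relIndex_eq_one.1 hj
      · have h' := dvd_pow_self p hj0.ne'
        rw [← hj] at h'
        exact absurd ((h' : p ∣ D.relIndex (T ⊓ I)).trans hd) hIp
    -- elements of order `p` in the quotient
    have hq1 : ∀ x : N, q x = 1 ↔ (x : G) ∈ D := fun x => QuotientGroup.eq_one_iff x
    set Xq := ((T ⊓ X).subgroupOf N).map q with hXq
    set Yq := ((T ⊓ Y).subgroupOf N).map q with hYq
    have hne : ∀ Z : Subgroup G, D < T ⊓ Z → ∃ u, u ∈ ((T ⊓ Z).subgroupOf N).map q ∧ orderOf u = p := by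
      intro Z hZ
      have hp1 : IsPGroup p (((T ⊓ Z).subgroupOf N).map q) := ((hTp.to_le inf_le_left).comap_subtype).map _
      have hnt : ((T ⊓ Z).subgroupOf N).map q ≠ ⊥ := fun e => hZ.not_ge fun x hx => (hq1 ⟨x, hTN hx.1⟩).1
        (Subgroup.mem_bot.1 (e.le (Subgroup.mem_map_of_mem q (show (⟨x, hTN hx.1⟩ : N) ∈ (T ⊓ Z).subgroupOf N from hx))))
      obtain ⟨j, hj⟩ := hp1.exists_card_eq
      have hd : p ∣ Nat.card (((T ⊓ Z).subgroupOf N).map q) := by
        rcases Nat.eq_zero_or_pos j with rfl | hj0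
        · rw [pow_zero] at hj; exact absurd (Subgroup.card_eq_one.1 hj) hnt
        · exact hj ▸ dvd_pow_self p hj0.ne'
      obtain ⟨u, hu⟩ := exists_prime_orderOf_dvd_card' (G := ↥(((T ⊓ Z).subgroupOf N).map q)) p hd
      exact ⟨u, u.2, by rwa [Subgroup.orderOf_coe]⟩
    obtain ⟨u, hu, hou⟩ := hne X hTX
    obtain ⟨v, hv, hov⟩ := hne Y hTY
    obtain ⟨a, ha, rfl⟩ := hu
    obtain ⟨b, hb, rfl⟩ := hv
    have hab : ∀ x ∈ T ⊓ X, ∀ y ∈ T ⊓ Y, x * y * x⁻¹ * y⁻¹ ∈ D := fun x hx y hy => hIT (Subgroup.mem_inf.2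
      ⟨mul_mem (mul_mem (mul_mem hx.1 hy.1) (inv_mem hx.1)) (inv_mem hy.1), Subgroup.mem_inf.2
        ⟨by rw [mul_assoc x, mul_assoc x]; exact mul_mem hx.2 ((Subgroup.mem_normalizer_iff.1 (hXn (hTN hy.1)) _).1 (inv_mem hx.2)),
         mul_mem ((Subgroup.mem_normalizer_iff.1 (hYn (hTN hx.1)) _).1 hy.2) (inv_mem hy.2)⟩⟩)
    have hcomm : q a * q b = q b * q a := by
      rw [← commutatorElement_eq_one_iff_mul_comm, ← map_commutatorElement, hq1]
      exact hab a ha b hb
    set A := Subgroup.closure ({q a, q b} : Set (N ⧸ D')) with hA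
    haveI : IsMulCommutative A := Subgroup.isMulCommutative_closure (by
      rintro x (rfl | rfl) y (rfl | rfl)
      exacts [rfl, hcomm, hcomm.symm, rfl])
    set Tq := (T.subgroupOf N).map q with hTq
    have hAT : A ≤ Tq := (Subgroup.closure_le _).2 (by
      rintro x (rfl | rfl)
      · exact Subgroup.mem_map_of_mem q (show (a : G) ∈ T from ha.1)
      · exact Subgroup.mem_map_of_mem q (show (b : G) ∈ T from hb.1))
    set Iq := (I.subgroupOf N).map q with hIq
    haveI : (I.subgroupOf N).Normal := Subgroup.normal_subgroupOf_of_le_normalizer hIn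
    haveI : Iq.Normal := Subgroup.Normal.map inferInstance q (QuotientGroup.mk'_surjective _)
    have hIq' : (Nat.card Iq).Coprime p := by
      rw [Nat.coprime_comm, (hp.out).coprime_iff_not_dvd]
      intro hd
      obtain ⟨⟨w, hw⟩, how⟩ := exists_prime_orderOf_dvd_card' (G := ↥Iq) p hd
      obtain ⟨x, hx, rfl⟩ := hw
      rw [← Subgroup.orderOf_coe] at how
      have hxp : IsPGroup p (Subgroup.zpowers (q x)) := IsPGroup.of_card (n := 1) (by rw [Nat.card_zpowers, how, pow_one])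
      -- a Sylow conjugate of `⟨x⟩D` lies in `T`
      have hU : IsPGroup p (((Subgroup.zpowers (q x)).comap q).map N.subtype) :=
        (hxp.comap_of_ker_isPGroup q (by rw [hq, QuotientGroup.ker_mk']; exact (P.isPGroup'.to_le hDP).comap_subtype)).map _
      obtain ⟨m, hm, hmle⟩ := syl_conj hTp hTN hsyl hU (Subgroup.map_subtype_le _)
      have h1 : m * x * m⁻¹ ∈ T := hmle ⟨x, Subgroup.mem_map_of_mem _ (Subgroup.mem_zpowers _), rfl⟩
      have h2 : m * x * m⁻¹ ∈ D := hIT (Subgroup.mem_inf.2 ⟨h1, (Subgroup.mem_normalizer_iff.1 (hIn hm) _).1 hx⟩)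
      have h3 : q x = 1 := (hq1 x).2 ((Subgroup.mem_normalizer_iff.1 hm _).2 h2)
      have how' : orderOf (q x) = p := how
      rw [h3, orderOf_one] at how'
      exact hp.out.one_lt.ne how'
    have hAp : IsPGroup p A := ((hTp.comap_subtype).map q).to_le hAT
    have hcent : ∀ e ∈ A, e ≠ 1 → Iq ⊓ Subgroup.centralizer {e} ≤ (M0.subgroupOf N).map q := by
      intro e he he1 c hc
      obtain ⟨⟨i, hi, rfl⟩, hc2⟩ := Subgroup.mem_inf.1 hc
      obtain ⟨t, ht, rfl⟩ := hAT he
      refine Subgroup.mem_map_of_mem q (show (i : G) ∈ M0 from ?_)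
      refine fuse (D ⊔ Subgroup.zpowers (t : G)) (lt_of_le_of_ne le_sup_left fun e' => he1 ((hq1 t).2
        (e'.ge (Subgroup.mem_sup_right (Subgroup.mem_zpowers _))))) (sup_le hDT.le (Subgroup.zpowers_le.2 ht)) i i.2 ?_
      rw [cj, Subgroup.map_sup, MonoidHom.map_zpowers]
      refine sup_le ((mem_normalizer_iff_cj.1 i.2).le.trans hDT.le) (Subgroup.zpowers_le.2 ?_)
      have h1 : q (i * t * i⁻¹ * t⁻¹) = 1 := by
        rw [map_mul, map_mul, map_mul, map_inv, map_inv, Subgroup.mem_centralizer_singleton_iff.1 hc2, mul_inv_cancel_right, mul_inv_cancel]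
      have h2 := mul_mem (hDT.le ((hq1 _).1 h1)) ht
      simpa [mul_assoc] using h2
    have hIM : Iq ≤ (M0.subgroupOf N).map q := by
      have hqa : q a ∈ A := Subgroup.subset_closure (Or.inl rfl)
      have hqb : q b ∈ A := Subgroup.subset_closure (Or.inr rfl)
      have hap : q a ^ p = 1 := hou ▸ pow_orderOf_eq_one _
      have hbp : q b ^ p = 1 := hov ▸ pow_orderOf_eq_one _
      refine CfsgLib.Solv.le_of_centralizers_pair' (q := p) hqa hqb (by rw [Subgroup.normalizer_eq_top]; exact le_top) ?_ hIq'.symm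
        (fun x _ => by rw [hap, one_mul, mul_one]) (fun x _ => by rw [hbp, one_mul, mul_one]) (fun i => hcent _ (mul_mem hqa (pow_mem hqb i)) ?_)
        (hcent _ hqb fun e => hp.out.one_lt.ne' (by rw [← hov, e, orderOf_one]))
      · obtain ⟨j, hj⟩ := hAp.exists_card_eq
        rw [hj]; exact hIq'.symm.pow_left j
      · intro e
        have hmem : q a ∈ Iq := by
          refine ⟨a, Subgroup.mem_inf.2 ⟨ha.2, ?_⟩, rfl⟩
          have hab' : q a = (q b ^ i)⁻¹ := eq_inv_of_mul_eq_one_left e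
          rw [← map_pow, ← map_inv, QuotientGroup.mk'_eq_mk'] at hab'
          obtain ⟨z, hz, hze⟩ := hab'
          rw [eq_mul_inv_of_mul_eq hze]
          exact mul_mem (inv_mem (pow_mem hb.2 i)) (hDY (inv_mem (Subgroup.mem_subgroupOf.1 hz)))
        exact hp.out.one_lt.ne' (Nat.eq_one_of_dvd_coprimes hIq' (hou ▸ Subgroup.orderOf_dvd_natCard _ hmem) dvd_rfl)
    have hIM0 : I ≤ M0 := fun x hx => by
      obtain ⟨y, hy, hye⟩ := hIM (Subgroup.mem_map_of_mem q (show (⟨x, hXN hx.1⟩ : N) ∈ I.subgroupOf N from hx))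
      rw [QuotientGroup.mk'_eq_mk'] at hye
      obtain ⟨z, hz, hze⟩ := hye
      have h1 : (y : G) * z ∈ M0 := mul_mem hy (hTM0 (hDT.le hz))
      have h2 : (y : G) * z = x := congrArg Subtype.val hze
      rwa [h2] at h1
    have hXM : X ≤ M0 := by
      intro x hx
      refine hmove (T ⊓ Y) hTY inf_le_left x (hXN hx) ?_
      rintro _ ⟨t, ht, rfl⟩
      have h1 : x * t * x⁻¹ * t⁻¹ ∈ I := Subgroup.mem_inf.2
        ⟨by rw [mul_assoc x, mul_assoc x]; exact mul_mem hx ((Subgroup.mem_normalizer_iff.1 (hXn (hTN ht.1)) _).1 (inv_mem hx)),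
         mul_mem ((Subgroup.mem_normalizer_iff.1 (hYn (hXN hx)) _).1 ht.2) (inv_mem ht.2)⟩
      have h2 := mul_mem (hIM0 h1) (hTM0 ht.1)
      rw [inv_mul_cancel_right] at h2
      exact h2
    exact hNM fun n hn => hmove (T ⊓ X) hTX inf_le_left n hn (by
      rintro _ ⟨t, ht, rfl⟩
      exact hXM ((Subgroup.mem_normalizer_iff.1 (hXn hn) _).1 ht.2))
  -- the step
  obtain ⟨hKL, hDL, hKD, hKDb, hKDs⟩ := hdir
  have hcent : (P : Subgroup G) ⊓ Subgroup.centralizer (D : Set G) ≤ D := by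
    intro c hc
    obtain ⟨hcP, hcC⟩ := Subgroup.mem_inf.1 hc
    have h1 := hCL hcC
    rw [← hKDs, ← SetLike.mem_coe, Subgroup.coe_mul_of_left_le_normalizer_right _ _ ((Subgroup.map_subtype_le _).trans le_rfl)] at h1
    obtain ⟨k, hk, d, hd, rfl⟩ := h1
    have hkP : k ∈ (P : Subgroup G) := by
      have := mul_mem hcP (inv_mem (hDP hd)); rwa [mul_inv_cancel_right] at this
    obtain ⟨k', hk', rfl⟩ := hk
    haveI := CfsgLib.Solv.pPrimeCore_normal ↥N p
    have h2 : k' ∈ (T.subgroupOf N) ⊓ pPrimeCore p ↥N := Subgroup.mem_inf.2 ⟨Subgroup.mem_inf.2 ⟨hkP, k'.2⟩, hk'⟩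
    have h2' : k' ∈ (⊥ : Subgroup N) := (CfsgLib.Base.PPrimeP.inf_pPrimeCore (hTp.comap_subtype (K := N))).le h2
    rw [Subgroup.mem_bot] at h2'
    show N.subtype k' * d ∈ D
    rw [h2', map_one, one_mul]
    exact hd
  have hcore : (Cfsg.pPrimePCore p ↥N).map N.subtype = D ⊔ Subgroup.centralizer (D : Set G) := by
    refine le_antisymm ?_ (sup_le hDL hCL)
    rw [← hKDs]
    exact sup_le (le_sup_of_le_right fun k hk => Subgroup.mem_centralizer_iff.2 fun d hd => (hKD k hk d hd).symm) le_sup_left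
  intro n hn
  -- Sylow conjugation inside `X`
  obtain ⟨x0, hx0, hx0le⟩ := syl_conj (hTp.to_le (inf_le_left : T ⊓ X ≤ T)) inf_le_right (hsylY X hDX hXN hXn).1
    (isPGroup_cj n (hTp.to_le (inf_le_left : T ⊓ X ≤ T))) (by
      rintro _ ⟨t, ht, rfl⟩
      exact (Subgroup.mem_normalizer_iff.1 (hXn hn) _).1 ht.2)
  set r := x0 * n with hr0
  have hrN : r ∈ N := mul_mem (hXN hx0) hn
  have hrn : r ∈ Subgroup.normalizer ((T ⊓ X : Subgroup G) : Set G) :=
    mem_normalizer_iff_cj.2 (Subgroup.eq_of_le_of_card_ge (by rw [hr0, cj_mul]; exact hx0le) (card_cj _ _).ge)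
  obtain ⟨x, hx, t, ht, e⟩ : x0⁻¹ ∈ (((Cfsg.pResidual p ↥X).map X.subtype : Subgroup G) : Set G) * ((T ⊓ X : Subgroup G) : Set G) := by
    have hle : (T ⊓ X : Subgroup G) ≤ Subgroup.normalizer (((Cfsg.pResidual p ↥X).map X.subtype : Subgroup G) : Set G) :=
      inf_le_right.trans (CfsgLib.Inv.FH.residual_normal X)
    rw [← Subgroup.coe_mul_of_right_le_normalizer_left _ _ hle]
    let SX : Sylow p X := ((hTp.to_le (inf_le_left : T ⊓ X ≤ T)).comap_subtype (K := X)).toSylow (by exact (hsylY X hDX hXN hXn).1)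
    have h1 : (⟨x0⁻¹, inv_mem hx0⟩ : X) ∈ Cfsg.pResidual p ↥X ⊔ (SX : Subgroup X) := by
      rw [CfsgLib.Inv.pResidual_sup_sylow]; exact Subgroup.mem_top _
    have h2 := Subgroup.mem_map_of_mem X.subtype h1
    rw [Subgroup.map_sup] at h2
    exact sup_le_sup_left (Subgroup.map_comap_le X.subtype (T ⊓ X)) _ h2
  have hxN : x ∈ N := hXN (Subgroup.map_subtype_le _ hx)
  have hstep : StepOK p (P : Subgroup G) D x :=
    ⟨hDP, hsyl, hcent, hcore, hnc, X, ⟨hDX, hXN, Subgroup.normal_subgroupOf_of_le_normalizer hXn, hXp,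
      fun Y h1 h2 h3 h4 => hminimal Y h1 h2 ((Subgroup.normal_subgroupOf_iff_le_normalizer h2).1 h3) h4⟩, hx⟩
  have hgx : Good p (P : Subgroup G) D x :=
    ⟨1, one_mem _, x * 1, 1, Word.step D hstep le_rfl (Word.one _), one_mem _, by group⟩
  have htr : t * r ∈ Subgroup.normalizer ((T ⊓ X : Subgroup G) : Set G) := mul_mem (Subgroup.le_normalizer ht) hrn
  have hgr := hr (T ⊓ X) hTX inf_le_left (t * r) htr
  have e' : x * t = x0⁻¹ := e
  have := hmulgood x (t * r) hxN hgx hgr
  rwa [← mul_assoc, e', hr0, inv_mul_cancel_left] at this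

/-- The strong form of the fusion theorem. -/
theorem result {G : Type*} [Group G] [Finite G] {p : ℕ} [Fact p.Prime]
    (P : Sylow p G) (A : Set G) (hA : A ⊆ (P : Set G)) (hA1 : ∃ a ∈ A, a ≠ 1)
    (g : G) (hAg : (fun a => g⁻¹ * a * g) '' A ⊆ (P : Set G)) :
    ∃ (n : ℕ) (H X : Fin n → Subgroup G) (x : Fin n → G) (c y : G),
      c ∈ Subgroup.centralizer A ∧ y ∈ Subgroup.normalizer ((P : Subgroup G) : Set G) ∧
      g = c * (List.ofFn x).prod * y ∧
      ∀ i : Fin n,
        H i ≤ (P : Subgroup G) ∧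
        ¬ p ∣ ((P : Subgroup G) ⊓ Subgroup.normalizer (H i : Set G)).relIndex (Subgroup.normalizer (H i : Set G)) ∧
        (P : Subgroup G) ⊓ Subgroup.centralizer (H i : Set G) ≤ H i ∧
        (Cfsg.pPrimePCore p ↥(Subgroup.normalizer (H i : Set G))).map (Subgroup.normalizer (H i : Set G)).subtype =
          H i ⊔ Subgroup.centralizer (H i : Set G) ∧
        ¬ Cfsg.IsSylowChainConnected p
            (↥(Subgroup.normalizer (H i : Set G)) ⧸ (H i).subgroupOf (Subgroup.normalizer (H i : Set G))) ∧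
        (H i ≤ X i ∧ X i ≤ Subgroup.normalizer (H i : Set G) ∧
          ((X i).subgroupOf (Subgroup.normalizer (H i : Set G))).Normal ∧ p ∣ (H i).relIndex (X i) ∧
          ∀ Y : Subgroup G, H i ≤ Y → Y ≤ Subgroup.normalizer (H i : Set G) →
            (Y.subgroupOf (Subgroup.normalizer (H i : Set G))).Normal → p ∣ (H i).relIndex Y → X i ≤ Y) ∧
        x i ∈ (Cfsg.pResidual p ↥(X i)).map (X i).subtype ∧
        (fun a => (((List.ofFn x).take i.val).prod)⁻¹ * a * ((List.ofFn x).take i.val).prod) '' A ⊆ (H i : Set G) := by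
  set B := Subgroup.closure A with hB
  have hBP : B ≤ (P : Subgroup G) := (Subgroup.closure_le _).2 hA
  have hBg : cj g⁻¹ B ≤ (P : Subgroup G) := by
    rw [cj, hB, MonoidHom.map_closure, Subgroup.closure_le]
    rintro _ ⟨a, ha, rfl⟩
    simpa using hAg ⟨a, ha, rfl⟩
  obtain ⟨c, hc, w, y, hw, hy, e⟩ := good_of_transport P 0 (fun D hD _ => main P _ D rfl hD) hBP (Nat.zero_le _) hBg
  suffices key : ∀ (B : Subgroup G) (w : G), Word p (P : Subgroup G) B w →
      ∃ (n : ℕ) (H X : Fin n → Subgroup G) (x : Fin n → G), (List.ofFn x).prod = w ∧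
        ∀ i : Fin n,
          (H i ≤ (P : Subgroup G) ∧
          ¬ p ∣ ((P : Subgroup G) ⊓ Subgroup.normalizer (H i : Set G)).relIndex (Subgroup.normalizer (H i : Set G)) ∧
          (P : Subgroup G) ⊓ Subgroup.centralizer (H i : Set G) ≤ H i ∧
          (Cfsg.pPrimePCore p ↥(Subgroup.normalizer (H i : Set G))).map (Subgroup.normalizer (H i : Set G)).subtype =
            H i ⊔ Subgroup.centralizer (H i : Set G) ∧
          ¬ Cfsg.IsSylowChainConnected p
              (↥(Subgroup.normalizer (H i : Set G)) ⧸ (H i).subgroupOf (Subgroup.normalizer (H i : Set G))) ∧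
          (H i ≤ X i ∧ X i ≤ Subgroup.normalizer (H i : Set G) ∧
            ((X i).subgroupOf (Subgroup.normalizer (H i : Set G))).Normal ∧ p ∣ (H i).relIndex (X i) ∧
            ∀ Y : Subgroup G, H i ≤ Y → Y ≤ Subgroup.normalizer (H i : Set G) →
              (Y.subgroupOf (Subgroup.normalizer (H i : Set G))).Normal → p ∣ (H i).relIndex Y → X i ≤ Y) ∧
          x i ∈ (Cfsg.pResidual p ↥(X i)).map (X i).subtype) ∧
          cj (((List.ofFn x).take i.val).prod)⁻¹ B ≤ H i by
    obtain ⟨n, H, X, x, hx, hprop⟩ := key _ _ hw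
    refine ⟨n, H, X, x, c, y, Subgroup.centralizer_le Subgroup.subset_closure hc, hy, hx.symm ▸ e, fun i => ?_⟩
    obtain ⟨⟨p1, p2, p3, p4, p5, p6, p7⟩, hin⟩ := hprop i
    refine ⟨p1, p2, p3, p4, p5, p6, p7, ?_⟩
    rintro _ ⟨a, ha, rfl⟩
    exact hin (by simpa using conj_mem_cj (g := (((List.ofFn x).take i.val).prod)⁻¹) (Subgroup.subset_closure ha))
  intro B w hw
  induction hw with
  | one B => exact ⟨0, Fin.elim0, Fin.elim0, Fin.elim0, by simp, fun i => i.elim0⟩
  | @step A x g H hs hA _ ih =>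
    obtain ⟨n, H', X', z, hz, hin⟩ := ih
    obtain ⟨h1, h2, h3, h4, h5, X, h6, h7⟩ := hs
    refine ⟨n + 1, Fin.cons H H', Fin.cons X X', Fin.cons x z, by simp [hz], fun i => ?_⟩
    refine Fin.cases ?_ (fun j => ?_) i
    · simp only [Fin.cons_zero, Fin.val_zero, List.take_zero, List.prod_nil, inv_one, cj_one]
      exact ⟨⟨h1, h2, h3, h4, h5, h6, h7⟩, hA⟩
    · simp only [Fin.cons_succ, Fin.val_succ, List.ofFn_succ, Fin.cons_zero, List.take_succ_cons, List.prod_cons,
        mul_inv_rev]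
      rw [cj_mul]
      exact hin j

end Cfsg.Agent.S3072
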