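import Cfsg.Statements.S3074
import Cfsg.Agent.Inv.QdSylow

set_option autoImplicit false
open Cfsg

namespace Cfsg.Agent.S3074

/-- Let p be an odd prime. A Sylow p-subgroup of Qd(p), the split extension of an elementary abelian group of order p² by SL₂(p) acting naturally, is extraspecial of order p³ and exponent p. -/
theorem result (p : ℕ) [Fact p.Prime] (hp : p ≠ 2) (P : Sylow p ↥(Cfsg.qd p)) :
    Cfsg.IsExtraspecial p ↥P ∧ Nat.card P = p ^ 3 ∧ Monoid.exponent ↥P = p := by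
  have hU : IsPGroup p ↥(CfsgLib.Inv.QdSylow.unitri (p := p)) := IsPGroup.of_card CfsgLib.Inv.QdSylow.card_unitri
  have hidx : (CfsgLib.Inv.QdSylow.unitri (p := p)).index = p ^ 2 - 1 := by
    have h := Subgroup.card_mul_index (CfsgLib.Inv.QdSylow.unitri (p := p))
    rw [CfsgLib.Inv.QdSylow.card_unitri, CfsgLib.Inv.QdSylow.card_qd] at h
    exact Nat.eq_of_mul_eq_mul_left (pow_pos (Fact.out : p.Prime).pos 3) h
  have hnd : ¬ p ∣ (CfsgLib.Inv.QdSylow.unitri (p := p)).index := by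
    rw [hidx]
    intro h
    have h1 : p ∣ p ^ 2 := dvd_pow_self p (by norm_num)
    have h2 := Nat.dvd_sub h1 h
    have h3 : 1 ≤ p ^ 2 := Nat.one_le_pow _ _ (Fact.out : p.Prime).pos
    rw [show p ^ 2 - (p ^ 2 - 1) = 1 by omega] at h2
    exact (Fact.out : p.Prime).one_lt.ne' (Nat.dvd_one.1 h2)
  let U := hU.toSylow hnd
  let e := U.equiv P
  have hUe : ∀ x : ↥(U : Subgroup ↥(Cfsg.qd p)), (x : ↥(Cfsg.qd p)) ∈ CfsgLib.Inv.QdSylow.unitri := fun x => x.2
  have hcard : Nat.card ↥(P : Subgroup ↥(Cfsg.qd p)) = p ^ 3 := by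
    rw [← Nat.card_congr e.toEquiv]; exact CfsgLib.Inv.QdSylow.card_unitri
  have hexp : ∀ x : ↥(P : Subgroup ↥(Cfsg.qd p)), x ^ p = 1 := fun x => by
    obtain ⟨u, rfl⟩ := e.surjective x
    rw [← map_pow, show u ^ p = 1 from Subtype.ext (by
      rw [Subgroup.coe_pow]; exact CfsgLib.Inv.QdSylow.unitri_pow hp (hUe u)), map_one]
  refine ⟨CfsgLib.Inv.QdSylow.extraspecial_of_cube hcard hexp fun h => CfsgLib.Inv.QdSylow.unitri_nc (p := p) fun x y => ?_, hcard, ?_⟩
  · have key : ∀ u v : ↥(U : Subgroup ↥(Cfsg.qd p)), u * v = v * u := fun u v =>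
      e.injective (by rw [map_mul, map_mul]; exact h _ _)
    exact Subtype.ext (congrArg Subtype.val (key ⟨x.1, x.2⟩ ⟨y.1, y.2⟩) :)
  · have hnt : Nontrivial ↥(P : Subgroup ↥(Cfsg.qd p)) :=
      Finite.one_lt_card_iff_nontrivial.1 (hcard ▸ Nat.one_lt_pow (by norm_num) (Fact.out : p.Prime).one_lt)
    obtain ⟨x, hx⟩ := exists_ne (1 : ↥(P : Subgroup ↥(Cfsg.qd p)))
    have h1 : orderOf x = p := orderOf_eq_prime (hexp x) hx
    have h2 := Monoid.order_dvd_exponent x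
    rw [h1] at h2
    exact Nat.dvd_antisymm (Monoid.exponent_dvd_of_forall_pow_eq_one hexp) h2

end Cfsg.Agent.S3074
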