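import Cfsg.Statements.S3075
import Cfsg.Agent.Solv.Basic

set_option autoImplicit false
open Cfsg

namespace Cfsg.Agent.S3075

/-- Let p be an odd prime and N a finite group with a normal elementary abelian subgroup A of order p² that is its own centralizer in N, such that N/A is isomorphic to SL₂(p) (over any field F with p elements). Then N splits over A: some subgroup U of N satisfies A ∩ U = 1 and AU = N. -/
theorem result {N : Type*} [Group N] [Finite N] {p : ℕ} [Fact p.Prime] (hp : p ≠ 2)
    (A : Subgroup N) [A.Normal] (hAcomm : IsMulCommutative A) (hAcard : Nat.card A = p ^ 2) (hAexp : Monoid.exponent ↥A = p)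
    (hAself : Subgroup.centralizer (A : Set N) = A)
    {F : Type*} [Field F] [Fintype F] (hF : Fintype.card F = p) (e : N ⧸ A ≃* Matrix.SpecialLinearGroup (Fin 2) F) :
    ∃ U : Subgroup N, A ⊓ U = ⊥ ∧ A ⊔ U = ⊤ := by
  open scoped commutatorElement in
  exact (by
    classical
    set z : N ⧸ A := e.symm (-1) with hz
    have hne : (-1 : Matrix.SpecialLinearGroup (Fin 2) F) ≠ 1 := by
      intro h
      have h2 := congrArg (fun M : Matrix.SpecialLinearGroup (Fin 2) F => (M : Matrix (Fin 2) (Fin 2) F) 0 0) h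
      simp at h2
      have h3 : ((2 : ℕ) : F) = 0 := by push_cast; linear_combination (-h2)
      have hchar : CharP F p := charP_of_card_eq_prime hF
      rw [CharP.cast_eq_zero_iff F p] at h3
      exact hp ((Nat.prime_dvd_prime_iff_eq Fact.out Nat.prime_two).1 h3)
    have hzz : z * z = 1 := by
      apply e.injective
      rw [map_mul, map_one, hz, e.apply_symm_apply]
      ext i j
      simp
    have hzc : ∀ q : N ⧸ A, q * z = z * q := by
      intro q
      apply e.injective
      rw [map_mul, map_mul, hz, e.apply_symm_apply]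
      ext i j
      simp
    have hapow : ∀ a : N, a ∈ A → a ^ p = 1 := fun a ha => by
      have := Monoid.pow_exponent_eq_one (⟨a, ha⟩ : A)
      rw [hAexp] at this
      exact congrArg Subtype.val this
    have hcm : ∀ a ∈ A, ∀ b ∈ A, a * b = b * a := fun a ha b hb =>
      congrArg Subtype.val (hAcomm.is_comm.comm (⟨a, ha⟩ : A) ⟨b, hb⟩)
    obtain ⟨m, hm⟩ : Odd p := (Fact.out : p.Prime).odd_of_ne_two hp
    obtain ⟨x, hx⟩ := QuotientGroup.mk_surjective z
    have hx2 : x * x ∈ A := by
      rw [← QuotientGroup.eq_one_iff, QuotientGroup.mk_mul, hx, hzz]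
    set t := x ^ p with ht
    have ht2 : t * t = 1 := by
      rw [ht, ← pow_add, show p + p = 2 * p by ring, pow_mul, pow_two, hapow _ hx2]
    have htz : (t : N ⧸ A) = z := by
      rw [ht, QuotientGroup.mk_pow, hx, hm, pow_succ, pow_mul, pow_two, hzz, one_pow, one_mul]
    have htA : t ∉ A := fun h => by
      rw [← QuotientGroup.eq_one_iff, htz] at h
      exact hne (by rw [← e.apply_symm_apply (-1), ← hz, h, map_one])
    have hcen : ∀ g : N, g * t * g⁻¹ * t⁻¹ ∈ A := fun g => by
      rw [← QuotientGroup.eq_one_iff, QuotientGroup.mk_mul, QuotientGroup.mk_mul, QuotientGroup.mk_mul,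
        QuotientGroup.mk_inv, QuotientGroup.mk_inv, htz, hzc, mul_inv_cancel_right, mul_inv_cancel]
    have hAn : ∀ a ∈ A, ∀ g : N, g * a * g⁻¹ ∈ A := fun a ha g => Subgroup.Normal.conj_mem inferInstance a ha g
    have hactA : ∀ g : N, ∀ a ∈ A, t * (g * a * g⁻¹) * t⁻¹ = g * (t * a * t⁻¹) * g⁻¹ := by
      intro g a ha
      have h1 := hcen g
      have h2 := hcm _ h1 _ (hAn _ (hAn a ha g) t)
      calc t * (g * a * g⁻¹) * t⁻¹
          = (g * t * g⁻¹ * t⁻¹) * (t * (g * a * g⁻¹) * t⁻¹) * (g * t * g⁻¹ * t⁻¹)⁻¹ := by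
            rw [h2, mul_inv_cancel_right]
        _ = g * (t * a * t⁻¹) * g⁻¹ := by group
    let K1 : Subgroup N :=
      { carrier := {a | a ∈ A ∧ t * a * t⁻¹ = a}
        mul_mem' := fun {a b} ha hb => ⟨mul_mem ha.1 hb.1, by
          calc t * (a * b) * t⁻¹ = (t * a * t⁻¹) * (t * b * t⁻¹) := by group
            _ = a * b := by rw [ha.2, hb.2]⟩
        one_mem' := ⟨one_mem A, by simp⟩
        inv_mem' := fun {a} ha => ⟨inv_mem ha.1, by
          calc t * a⁻¹ * t⁻¹ = (t * a * t⁻¹)⁻¹ := by group
            _ = a⁻¹ := by rw [ha.2]⟩ }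
    let K2 : Subgroup N :=
      { carrier := {a | a ∈ A ∧ t * a * t⁻¹ = a⁻¹}
        mul_mem' := fun {a b} ha hb => ⟨mul_mem ha.1 hb.1, by
          calc t * (a * b) * t⁻¹ = (t * a * t⁻¹) * (t * b * t⁻¹) := by group
            _ = a⁻¹ * b⁻¹ := by rw [ha.2, hb.2]
            _ = (a * b)⁻¹ := by rw [mul_inv_rev, hcm _ (inv_mem ha.1) _ (inv_mem hb.1)]⟩
        one_mem' := ⟨one_mem A, by simp⟩
        inv_mem' := fun {a} ha => ⟨inv_mem ha.1, by
          calc t * a⁻¹ * t⁻¹ = (t * a * t⁻¹)⁻¹ := by group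
            _ = a⁻¹⁻¹ := by rw [ha.2]⟩ }
    have hinv : ∀ a ∈ A, t * a * t⁻¹ = a⁻¹ := by
      have hdecomp : ∀ a ∈ A, a * a ∈ K1 ⊔ K2 := by
        intro a ha
        have hb := hAn a ha t
        have htt : t⁻¹ = t := inv_eq_of_mul_eq_one_right ht2
        have h1 : a * (t * a * t⁻¹) ∈ K1 := by
          refine ⟨mul_mem ha hb, ?_⟩
          calc t * (a * (t * a * t⁻¹)) * t⁻¹ = (t * a * t⁻¹) * ((t * t) * a * (t * t)⁻¹) := by group
            _ = a * (t * a * t⁻¹) := by rw [ht2, inv_one, mul_one, one_mul, hcm _ hb _ ha]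
        have h2 : (t * a * t⁻¹)⁻¹ * a ∈ K2 := by
          refine ⟨mul_mem (inv_mem hb) ha, ?_⟩
          calc t * ((t * a * t⁻¹)⁻¹ * a) * t⁻¹ = ((t * t) * a * (t * t)⁻¹)⁻¹ * (t * a * t⁻¹) := by simp [mul_assoc]
            _ = ((t * a * t⁻¹)⁻¹ * a)⁻¹ := by rw [ht2, inv_one, mul_one, one_mul, mul_inv_rev, inv_inv]
        have : a * a = (a * (t * a * t⁻¹)) * ((t * a * t⁻¹)⁻¹ * a) := by group
        rw [this]
        exact mul_mem (Subgroup.mem_sup_left h1) (Subgroup.mem_sup_right h2)
      have htop : A ≤ K1 ⊔ K2 := by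
        intro a ha
        have : (a ^ (m + 1)) * (a ^ (m + 1)) = a := by
          rw [← pow_add, show (m + 1) + (m + 1) = p + 1 by omega, pow_succ, hapow a ha, one_mul]
        exact this ▸ hdecomp _ (pow_mem ha _)
      by_cases h1 : K1 = ⊥
      · intro a ha
        have hK2 : A ≤ K2 := by rw [h1, bot_sup_eq] at htop; exact htop
        exact (hK2 ha).2
      exfalso
      have hK1A : K1 ≠ A := fun h => htA (by
        rw [← hAself, Subgroup.mem_centralizer_iff]
        intro a ha
        have := (show a ∈ K1 from h ▸ ha).2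
        exact (mul_inv_eq_iff_eq_mul.1 this).symm)
      have hK2b : K2 ≠ ⊥ := fun h => by
        rw [h, sup_bot_eq] at htop
        exact hK1A (le_antisymm (fun a ha => ha.1) htop)
      have hK2A : K2 ≠ A := fun h => by
        refine h1 ((Subgroup.eq_bot_iff_forall _).2 fun a ha => ?_)
        have h2 : t * a * t⁻¹ = a⁻¹ := (show a ∈ K2 from h ▸ ha.1).2
        rw [ha.2] at h2
        have h3 : a * a = 1 := mul_eq_one_iff_eq_inv.2 h2
        calc a = a ^ (2 * (m + 1)) := by
              rw [show 2 * (m + 1) = p + 1 by omega, pow_succ, hapow a ha.1, one_mul]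
          _ = 1 := by rw [pow_mul, pow_two, h3, one_pow]
      have hprime : ∀ K : Subgroup N, K ≤ A → K ≠ ⊥ → K ≠ A → (Nat.card K) = p := by
        intro K hK hb hne'
        obtain ⟨i, hi, hc⟩ := (Nat.dvd_prime_pow Fact.out).1 (hAcard ▸ Subgroup.card_dvd_of_le hK)
        interval_cases i
        · exact absurd (Subgroup.eq_bot_of_card_eq K (by simpa using hc)) hb
        · simpa using hc
        · exact absurd (Subgroup.eq_of_le_of_card_ge hK (by rw [hc, hAcard])) hne'
      have hc1 := hprime K1 (fun a ha => ha.1) h1 hK1A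
      have hc2 := hprime K2 (fun a ha => ha.1) hK2b hK2A
      have hn : ∀ K : Subgroup N, (K = K1 ∨ K = K2) → ∀ g : N, ∀ a ∈ K, g * a * g⁻¹ ∈ K := by
        rintro K (rfl | rfl) g a ⟨ha, hta⟩
        · exact ⟨hAn a ha g, by rw [hactA g a ha, hta]⟩
        · exact ⟨hAn a ha g, by rw [hactA g a ha, hta]; group⟩
      have hcomm : ∀ g h : N, ⁅g, h⁆ ∈ A := by
        intro g h
        rw [← hAself, Subgroup.mem_centralizer_iff]
        suffices hh : ∀ a ∈ K1 ⊔ K2, ⁅g, h⁆ * a * ⁅g, h⁆⁻¹ = a by
          intro a ha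
          exact ((mul_inv_eq_iff_eq_mul).1 (hh a (htop ha))).symm
        intro a ha
        suffices hle : K1 ⊔ K2 ≤ Subgroup.centralizer {⁅g, h⁆} by
          rw [← Subgroup.mem_centralizer_singleton_iff.1 (hle ha), mul_inv_cancel_right]
        have hK : ∀ K : Subgroup N, (K = K1 ∨ K = K2) → Nat.card K = p → K ≤ Subgroup.centralizer {⁅g, h⁆} := by
          intro K hK hc b hb
          rw [Subgroup.mem_centralizer_singleton_iff]
          haveI : IsCyclic K := isCyclic_of_prime_card hc
          obtain ⟨i, hi⟩ : ∃ i : ℤ, ∀ b : K, g * (b : N) * g⁻¹ = (b : N) ^ i := by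
            let f : K →* K :=
              { toFun := fun b => ⟨g * b * g⁻¹, hn K hK g b b.2⟩
                map_one' := Subtype.ext (by simp)
                map_mul' := fun x y => Subtype.ext (by simp [mul_assoc]) }
            obtain ⟨i, hi⟩ := MonoidHom.map_cyclic f
            exact ⟨i, fun b => by simpa [f] using congrArg Subtype.val (hi b)⟩
          obtain ⟨j, hj⟩ : ∃ j : ℤ, ∀ b : K, h * (b : N) * h⁻¹ = (b : N) ^ j := by
            let f : K →* K :=
              { toFun := fun b => ⟨h * b * h⁻¹, hn K hK h b b.2⟩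
                map_one' := Subtype.ext (by simp)
                map_mul' := fun x y => Subtype.ext (by simp [mul_assoc]) }
            obtain ⟨j, hj⟩ := MonoidHom.map_cyclic f
            exact ⟨j, fun b => by simpa [f] using congrArg Subtype.val (hj b)⟩
          have hgh : ∀ c : K, (g * h) * (c : N) * (g * h)⁻¹ = (h * g) * (c : N) * (h * g)⁻¹ := by
            intro c
            have e1 := hi ⟨_, hn K hK h c c.2⟩
            have e2 := hj ⟨_, hn K hK g c c.2⟩
            simp only [hj c] at e1
            simp only [hi c] at e2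
            calc (g * h) * (c : N) * (g * h)⁻¹ = g * (h * c * h⁻¹) * g⁻¹ := by group
              _ = ((c : N) ^ i) ^ j := by rw [hj c, e1, ← zpow_mul, ← zpow_mul, mul_comm]
              _ = h * (g * c * g⁻¹) * h⁻¹ := by rw [hi c, e2]
              _ = (h * g) * (c : N) * (h * g)⁻¹ := by group
          have e3 : (h * g)⁻¹ * b * (h * g) ∈ K := by
            simpa using hn K hK (h * g)⁻¹ b hb
          have e4 : ⁅g, h⁆ * b * ⁅g, h⁆⁻¹ = b := by
            calc ⁅g, h⁆ * b * ⁅g, h⁆⁻¹ = (g * h) * ((h * g)⁻¹ * b * (h * g)) * (g * h)⁻¹ := by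
                  rw [commutatorElement_def]; group
              _ = (h * g) * ((h * g)⁻¹ * b * (h * g)) * (h * g)⁻¹ := hgh ⟨_, e3⟩
              _ = b := by group
          exact (mul_inv_eq_iff_eq_mul.1 e4).symm
        exact sup_le (hK K1 (Or.inl rfl) hc1) (hK K2 (Or.inr rfl) hc2)
      let u : Matrix.SpecialLinearGroup (Fin 2) F := ⟨!![1, 1; 0, 1], by simp [Matrix.det_fin_two]⟩
      let v : Matrix.SpecialLinearGroup (Fin 2) F := ⟨!![1, 0; 1, 1], by simp [Matrix.det_fin_two]⟩
      obtain ⟨g, hg⟩ := QuotientGroup.mk_surjective (e.symm u)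
      obtain ⟨h, hh⟩ := QuotientGroup.mk_surjective (e.symm v)
      have huv : u * v = v * u := by
        have h0 := (QuotientGroup.eq_one_iff _).2 (hcomm g h)
        rw [commutatorElement_def] at h0
        simp only [QuotientGroup.mk_mul, QuotientGroup.mk_inv, hg, hh] at h0
        apply e.symm.injective
        rw [map_mul, map_mul]
        rw [mul_inv_eq_one, mul_inv_eq_iff_eq_mul] at h0
        exact h0
      have := congrArg (fun M : Matrix.SpecialLinearGroup (Fin 2) F => (M : Matrix (Fin 2) (Fin 2) F) 0 0) huv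
      simp only [Matrix.SpecialLinearGroup.coe_mul] at this
      simp [u, v, Matrix.mul_apply, Fin.sum_univ_two] at this
    refine ⟨Subgroup.centralizer {t}, (Subgroup.eq_bot_iff_forall _).2 fun a ha => ?_, ?_⟩
    · obtain ⟨haA, hat⟩ := Subgroup.mem_inf.1 ha
      have h2 := hinv a haA
      rw [← Subgroup.mem_centralizer_singleton_iff.1 hat, mul_inv_cancel_right] at h2
      have h3 : a * a = 1 := mul_eq_one_iff_eq_inv.2 h2
      calc a = a ^ (2 * (m + 1)) := by
            rw [show 2 * (m + 1) = p + 1 by omega, pow_succ, hapow a haA, one_mul]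
        _ = 1 := by rw [pow_mul, pow_two, h3, one_pow]
    · rw [eq_top_iff]
      intro g _
      have ha : t * g * t⁻¹ * g⁻¹ ∈ A := by
        have h1 := hAn _ (inv_mem (hcen g)) 1
        simpa [mul_assoc] using h1
      set a := t * g * t⁻¹ * g⁻¹ with hadef
      set b := a ^ (m + 1)
      have hb : b ∈ A := pow_mem ha _
      have hbb : b * b = a := by
        rw [← pow_add, show (m + 1) + (m + 1) = p + 1 by omega, pow_succ, hapow a ha, one_mul]
      have e1 : t * (b * g) * t⁻¹ = b * g := by
        calc t * (b * g) * t⁻¹ = (t * b * t⁻¹) * (t * g * t⁻¹ * g⁻¹) * g := by group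
          _ = b⁻¹ * (b * b) * g := by rw [hinv b hb, ← hadef, hbb]
          _ = b * g := by group
      have hg : b * g ∈ Subgroup.centralizer {t} :=
        Subgroup.mem_centralizer_singleton_iff.2 (mul_inv_eq_iff_eq_mul.1 e1).symm
      have := mul_mem (Subgroup.mem_sup_left (T := Subgroup.centralizer {t}) (inv_mem hb)) (Subgroup.mem_sup_right (S := A) hg)
      simpa using this)

end Cfsg.Agent.S3075
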