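import Cfsg.Statements.S3076
import Cfsg.Agent.Base.PPrimeP
import Cfsg.Agent.Solv.PComplement
import Cfsg.Agent.Solv.Thompson

set_option autoImplicit false
open Cfsg

namespace Cfsg.Agent.S3076

open CfsgLib.Solv in
open scoped Pointwise in
theorem core_iff {M : Type*} [Group M] [Finite M] {p : ℕ} [hp : Fact p.Prime] (Q : Sylow p M)
    (H : Subgroup M) [hH : H.Normal] (hHp : IsPGroup p H) (hHQ : H ≤ (Q : Subgroup M)) (C : Subgroup M)
    [C.Normal] (hC : C = Subgroup.centralizer (H : Set M)) :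
    (H ≤ (Cfsg.pCore p (M ⧸ C)).comap (QuotientGroup.mk' C) ∧
      ¬ p ∣ H.relIndex ((Cfsg.pCore p (M ⧸ C)).comap (QuotientGroup.mk' C))) ↔
    ((Q : Subgroup M) ⊓ C ≤ H ∧ Cfsg.pPrimePCore p M = H ⊔ C) := by
  set fC := QuotientGroup.mk' C with hfC
  set K := (Cfsg.pCore p (M ⧸ C)).comap fC with hK
  set D := Cfsg.pPrimeCore p M with hD
  haveI : D.Normal := CfsgLib.Solv.pPrimeCore_normal M p
  set fD := QuotientGroup.mk' D with hfD
  have hHK : H ≤ K := Subgroup.map_le_iff_le_comap.1 (by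
    haveI := hH.map fC (QuotientGroup.mk'_surjective C)
    exact le_pCore (hHp.map fC))
  have hCK : C ≤ K := QuotientGroup.le_comap_mk' _ _
  have hHL : H ≤ Cfsg.pPrimePCore p M := Subgroup.map_le_iff_le_comap.1 (by
    haveI := hH.map fD (QuotientGroup.mk'_surjective D)
    exact le_pCore (hHp.map fD))
  have hDC : D ≤ C := fun d hd => by
    rw [hC, Subgroup.mem_centralizer_iff]
    exact fun h hh => (Subgroup.commute_of_normal_of_disjoint H D hH inferInstance
      (disjoint_iff.2 (CfsgLib.Base.PPrimeP.inf_pPrimeCore hHp)) h d hh hd)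
  have hCD : (Q : Subgroup M) ⊓ C ≤ H → C ≤ H ⊔ D := by
    intro hQC
    let R : Sylow p ↥C := Classical.arbitrary _
    obtain ⟨g, hg⟩ : ∃ g : M, (R : Subgroup ↥C).map C.subtype ≤ MulAut.conj g • (Q : Subgroup M) := by
      obtain ⟨S, hS⟩ := (R.isPGroup'.map C.subtype).exists_le_sylow
      obtain ⟨g, rfl⟩ := MulAction.exists_smul_eq M Q S
      exact ⟨g, hS⟩
    have hRH : ∀ x : ↥C, x ∈ (R : Subgroup ↥C) → (x : M) ∈ H := fun x hx => by
      obtain ⟨q, hq, hqe⟩ := Subgroup.mem_smul_pointwise_iff_exists _ _ _ |>.1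
        (hg (Subgroup.mem_map_of_mem _ hx))
      have hqe' : g * q * g⁻¹ = (x : M) := hqe
      have hqC : q ∈ C := by
        have h := ‹C.Normal›.conj_mem _ (x.2 : (x : M) ∈ C) g⁻¹
        rw [← hqe'] at h
        simpa [mul_assoc] using h
      rw [← hqe']
      exact hH.conj_mem _ (hQC ⟨hq, hqC⟩) g
    have hnp : Cfsg.HasNormalPComplement p ↥C := hnpc_of_fusion R fun x hx c _ =>
      ⟨1, one_mem _, by
        have hc : (c : M) ∈ Subgroup.centralizer (H : Set M) := hC ▸ c.2
        have h := Subgroup.mem_centralizer_iff.1 hc x (hRH x hx)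
        rw [one_mul, inv_one, mul_one]
        refine Subtype.ext ?_
        simp [← h]⟩
    haveI : (Cfsg.pResidual p ↥C).Characteristic := CfsgLib.Solv.pResidual_char p ↥C
    haveI : ((Cfsg.pResidual p ↥C).map C.subtype).Normal := normal_map_subtype_of_characteristic _
    have hres : (Cfsg.pResidual p ↥C).map C.subtype ≤ D := CfsgLib.Solv.le_pPrimeCore (by
      rw [card_map_subtype]
      exact Nat.Coprime.symm (hp.out.coprime_iff_not_dvd.2 (hnpc_iff.1 hnp)))
    calc C = (⊤ : Subgroup ↥C).map C.subtype := by rw [← MonoidHom.range_eq_map, C.range_subtype]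
      _ = ((R : Subgroup ↥C) ⊔ Cfsg.pResidual p ↥C).map C.subtype := by rw [sylow_sup_pResidual R]
      _ ≤ H ⊔ D := by
        rw [Subgroup.map_sup]
        exact sup_le_sup (fun y hy => by obtain ⟨x, hx, rfl⟩ := hy; exact hRH x hx) hres
  constructor
  · rintro ⟨-, hidx⟩
    have hQC : (Q : Subgroup M) ⊓ C ≤ H := by
      have hX : IsPGroup p ↥((((Q : Subgroup M) ⊓ C) ⊔ H : Subgroup M)) :=
        (Q.isPGroup'.to_le (sup_le inf_le_left hHQ))
      have h1 : H.relIndex (((Q : Subgroup M) ⊓ C) ⊔ H) ∣ H.relIndex K := by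
        rw [← Subgroup.relIndex_mul_relIndex H _ K le_sup_right (sup_le (inf_le_right.trans hCK) hHK)]
        exact Dvd.intro _ rfl
      obtain ⟨k, hk⟩ := hX.index (H.subgroupOf _)
      rcases k with _ | k
      · rw [pow_zero] at hk
        exact le_sup_left.trans (Subgroup.relIndex_eq_one.1 hk)
      · exact absurd ((hk ▸ dvd_pow_self p (Nat.succ_ne_zero k)).trans h1) hidx
    refine ⟨hQC, le_antisymm ?_ (sup_le hHL ((hCD hQC).trans
      (sup_le hHL CfsgLib.Base.PPrimeP.pPrimeCore_le)))⟩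
    have hLK : Cfsg.pPrimePCore p M ≤ K := by
      haveI := CfsgLib.Base.PPrimeP.pPrimePCore_normal (G := M) (p := p)
      refine Subgroup.map_le_iff_le_comap.1 ?_
      haveI : ((Cfsg.pPrimePCore p M).map fC).Normal :=
        Subgroup.Normal.map inferInstance fC (QuotientGroup.mk'_surjective C)
      refine le_pCore ?_
      rw [← CfsgLib.Base.PPrimeP.sylow_sup_core Q, Subgroup.map_sup,
        show D.map fC = ⊥ from
          (Subgroup.map_eq_bot_iff D).2 (by rw [hfC, QuotientGroup.ker_mk']; exact hDC), sup_bot_eq]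
      exact (Q.isPGroup'.to_le inf_le_left).map fC
    refine hLK.trans ?_
    have h1 : (H ⊔ C).relIndex K ∣ H.relIndex K := Subgroup.relIndex_dvd_of_le_left K le_sup_left
    have h2 : (H ⊔ C).relIndex K ∣ C.relIndex K := Subgroup.relIndex_dvd_of_le_left K le_sup_right
    obtain ⟨k, hk⟩ : ∃ k, C.relIndex K = p ^ k := by
      obtain ⟨k, hk⟩ := IsPGroup.iff_card.1 (CfsgLib.Solv.pCore_isPGroup (M ⧸ C) p)
      refine ⟨k, ?_⟩
      have := Subgroup.relIndex_comap (⊥ : Subgroup (M ⧸ C)) fC K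
      rw [MonoidHom.comap_bot, hfC, QuotientGroup.ker_mk', Subgroup.map_comap_eq_self_of_surjective
        (QuotientGroup.mk'_surjective C), Subgroup.relIndex_bot_left, hk] at this
      exact this
    obtain ⟨j, -, hj⟩ := (Nat.dvd_prime_pow hp.out).1 (hk ▸ h2)
    rcases j with _ | j
    · rw [pow_zero] at hj; exact Subgroup.relIndex_eq_one.1 hj
    · exact absurd ((hj ▸ dvd_pow_self p (Nat.succ_ne_zero j)).trans h1) hidx
  · rintro ⟨hQC, hL⟩
    have hCD' := hCD hQC
    have hKL : K ≤ Cfsg.pPrimePCore p M := Subgroup.map_le_iff_le_comap.1 (by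
      haveI : (Cfsg.pCore p (M ⧸ C)).Normal := CfsgLib.Solv.pCore_normal (M ⧸ C) p
      haveI : (K.map fD).Normal :=
        Subgroup.Normal.map (Subgroup.Normal.comap inferInstance fC) fD (QuotientGroup.mk'_surjective D)
      refine le_pCore ?_
      rintro ⟨_, x, hx, rfl⟩
      obtain ⟨k, hk⟩ := CfsgLib.Solv.pCore_isPGroup (M ⧸ C) p ⟨fC x, hx⟩
      have hk' : x ^ p ^ k ∈ C := by
        rw [← QuotientGroup.eq_one_iff]
        simpa [hfC] using congrArg Subtype.val hk
      obtain ⟨h, hh, d, hd, he⟩ := Subgroup.mem_sup_of_normal_right.1 (hCD' hk')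
      obtain ⟨j, hj⟩ := hHp ⟨h, hh⟩
      refine ⟨k + j, Subtype.ext ?_⟩
      show fD x ^ p ^ (k + j) = 1
      rw [pow_add, pow_mul, ← map_pow, ← he, map_mul, show fD d = 1 from
        (QuotientGroup.eq_one_iff d).2 hd, mul_one, ← map_pow,
        show h ^ p ^ j = 1 from by simpa using congrArg Subtype.val hj, map_one])
    refine ⟨hHK, fun hd => ?_⟩
    have hKD : K ≤ H ⊔ D := (hKL.trans hL.le).trans (sup_le le_sup_left hCD')
    have h1 : H.relIndex K ∣ H.relIndex (H ⊔ D) := by
      rw [← Subgroup.relIndex_mul_relIndex H K _ hHK hKD]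
      exact Dvd.intro _ rfl
    have h2 := card_sup_mul_card_inf H D
    rw [← relIndex_mul_card (le_sup_left : H ≤ H ⊔ D),
      CfsgLib.Base.PPrimeP.inf_pPrimeCore hHp, Subgroup.card_bot, mul_one, mul_comm] at h2
    have h3 : H.relIndex (H ⊔ D) = Nat.card D := Nat.eq_of_mul_eq_mul_right Nat.card_pos (h2.trans (mul_comm _ _))
    rw [h3] at h1
    exact not_dvd_card_pPrimeCore (G := M) (hd.trans h1)

/-- Let P be a Sylow p-subgroup of the finite group G and H ≤ P a subgroup with N_P(H) a Sylow p-subgroup of N_G(H). Let N be the preimage in N_G(H) of O_p(N_G(H)/C_G(H)). Then H is a Sylow p-subgroup of N if and only if C_P(H) ≤ H and O_{p',p}(N_G(H)) = H·C_G(H). -/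
theorem result {G : Type*} [Group G] [Finite G] {p : ℕ} [Fact p.Prime]
    (P : Sylow p G) (H : Subgroup G) (hHP : H ≤ (P : Subgroup G))
    (hSyl : ¬ p ∣ ((P : Subgroup G) ⊓ Subgroup.normalizer (H : Set G)).relIndex (Subgroup.normalizer (H : Set G)))
    [hC : ((Subgroup.centralizer (H : Set G)).subgroupOf (Subgroup.normalizer (H : Set G))).Normal] :
    (H ≤ ((Cfsg.pCore p (↥(Subgroup.normalizer (H : Set G)) ⧸
              (Subgroup.centralizer (H : Set G)).subgroupOf (Subgroup.normalizer (H : Set G)))).comap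
            (QuotientGroup.mk' _)).map (Subgroup.normalizer (H : Set G)).subtype ∧
      ¬ p ∣ H.relIndex (((Cfsg.pCore p (↥(Subgroup.normalizer (H : Set G)) ⧸
              (Subgroup.centralizer (H : Set G)).subgroupOf (Subgroup.normalizer (H : Set G)))).comap
            (QuotientGroup.mk' _)).map (Subgroup.normalizer (H : Set G)).subtype)) ↔
    ((P : Subgroup G) ⊓ Subgroup.centralizer (H : Set G) ≤ H ∧
      (Cfsg.pPrimePCore p ↥(Subgroup.normalizer (H : Set G))).map (Subgroup.normalizer (H : Set G)).subtype =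
        H ⊔ Subgroup.centralizer (H : Set G)) := by
  set N := Subgroup.normalizer (H : Set G) with hN
  have hHN : H ≤ N := Subgroup.le_normalizer
  have hCN : Subgroup.centralizer (H : Set G) ≤ N := Subgroup.centralizer_le_normalizer _
  haveI : (H.subgroupOf N).Normal := Subgroup.normal_subgroupOf_iff_le_normalizer hHN |>.2 le_rfl
  have hCeq : (Subgroup.centralizer (H : Set G)).subgroupOf N =
      Subgroup.centralizer ((H.subgroupOf N : Subgroup ↥N) : Set ↥N) := by
    ext x
    simp only [Subgroup.mem_subgroupOf, Subgroup.mem_centralizer_iff, SetLike.mem_coe]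
    exact ⟨fun h y hy => Subtype.ext (h _ hy),
      fun h y hy => congrArg Subtype.val (h ⟨y, hHN hy⟩ hy)⟩
  have hQp : IsPGroup p ↥(((P : Subgroup G) ⊓ N).subgroupOf N) :=
    (P.isPGroup'.to_le inf_le_left).of_equiv (Subgroup.subgroupOfEquivOfLe inf_le_right).symm
  let Q : Sylow p ↥N := hQp.toSylow hSyl
  have key := core_iff Q (H.subgroupOf N)
    ((hQp.to_le (fun x hx => ⟨hHP hx, x.2⟩ : H.subgroupOf N ≤ ((P : Subgroup G) ⊓ N).subgroupOf N)))
    (fun x hx => (⟨hHP hx, x.2⟩ : (x : G) ∈ (P : Subgroup G) ⊓ N)) _ hCeq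
  set K := (Cfsg.pCore p (↥N ⧸ (Subgroup.centralizer (H : Set G)).subgroupOf N)).comap
    (QuotientGroup.mk' ((Subgroup.centralizer (H : Set G)).subgroupOf N)) with hK
  have e1 : H = (H.subgroupOf N).map N.subtype := by
    rw [Subgroup.subgroupOf_map_subtype, inf_of_le_left hHN]
  have e2 : Subgroup.centralizer (H : Set G) =
      ((Subgroup.centralizer (H : Set G)).subgroupOf N).map N.subtype := by
    rw [Subgroup.subgroupOf_map_subtype, inf_of_le_left hCN]
  have hinj := N.subtype_injective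
  have a1 : (H ≤ K.map N.subtype) ↔ H.subgroupOf N ≤ K := by
    conv_lhs => rw [e1]
    exact Subgroup.map_le_map_iff_of_injective hinj
  have a2 : H.relIndex (K.map N.subtype) = (H.subgroupOf N).relIndex K := by
    conv_lhs => rw [e1]
    rw [Subgroup.relIndex_map_map_of_injective _ _ hinj]
  have a3 : ((P : Subgroup G) ⊓ Subgroup.centralizer (H : Set G) ≤ H) ↔
      ((Q : Subgroup ↥N) ⊓ (Subgroup.centralizer (H : Set G)).subgroupOf N ≤ H.subgroupOf N) := by
    refine ⟨fun h x hx => h ⟨hx.1.1, hx.2⟩, fun h x hx => h (x := ⟨x, hCN hx.2⟩) ⟨⟨hx.1, hCN hx.2⟩, hx.2⟩⟩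
  have a4 : ((Cfsg.pPrimePCore p ↥N).map N.subtype = H ⊔ Subgroup.centralizer (H : Set G)) ↔
      (Cfsg.pPrimePCore p ↥N = H.subgroupOf N ⊔ (Subgroup.centralizer (H : Set G)).subgroupOf N) := by
    conv_lhs => rw [e2]; rhs; lhs; rw [e1]
    rw [← Subgroup.map_sup]
    exact (Subgroup.map_injective hinj).eq_iff
  rw [a1, a2, a3, a4]
  exact key

end Cfsg.Agent.S3076
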