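import Cfsg.Statements.S3078
import Cfsg.Agent.Inv.Replacement
import Cfsg.Agent.Inv.ZJ

set_option autoImplicit false
open Cfsg

namespace Cfsg.Agent.S3078

/-- A replacement Theorem for abelian subgroups of p-groups, p odd. Let G be a finite p-group with p odd, A an abelian subgroup of G, and B a subgroup of nilpotency class at most 2 with [B, B] ≤ A, such that A normalizes B but B does not normalize A. Then there is an abelian subgroup A* of G of the same order as A with A ∩ B strictly contained in A* ∩ B, A* contained in N_G(A) and in the normal closure of A, the exponent of A* dividing the exponent of A, and with the subgroup generated by the elements of order dividing p in A of order at most that of the corresponding subgroup of A* (the rank of A is at most the rank of A*). -/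
theorem result {G : Type*} [Group G] [Finite G] {p : ℕ} [Fact p.Prime] (hp : p ≠ 2) (hG : IsPGroup p G) (A B : Subgroup G) (hA : IsMulCommutative A) (hB2 : ⁅⁅B, B⁆, B⁆ = ⊥) (hBA : ⁅B, B⁆ ≤ A) (hAB : A ≤ Subgroup.normalizer (B : Set G)) (hBnA : ¬ B ≤ Subgroup.normalizer (A : Set G)) : ∃ Astar : Subgroup G, IsMulCommutative Astar ∧ Nat.card Astar = Nat.card A ∧ A ⊓ B < Astar ⊓ B ∧ Astar ≤ Subgroup.normalizer (A : Set G) ∧ Astar ≤ Subgroup.normalClosure (A : Set G) ∧ Monoid.exponent Astar ∣ Monoid.exponent A ∧ Nat.card (Cfsg.omegaOne p A) ≤ Nat.card (Cfsg.omegaOne p Astar) := by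
  have hodd : Odd p := (Fact.out : p.Prime).odd_of_ne_two hp
  have he : Odd (Monoid.exponent A) := by
    obtain ⟨k, hk⟩ := (hG.to_subgroup A).exists_card_eq
    exact hodd.pow.of_dvd_nat (hk ▸ Group.exponent_dvd_nat_card)
  have hAe : CfsgLib.Inv.ZJ.Abel (Monoid.exponent A) A :=
    ⟨hA, fun a ha => congrArg Subtype.val (Monoid.pow_exponent_eq_one (⟨a, ha⟩ : A))⟩
  obtain ⟨A', h1, h2, -, h4, h5, h6, h7⟩ := CfsgLib.Inv.ZJ.replacement (p := p) hp (Or.inr he) (hG.to_subgroup ⊤)
    le_top le_top hAe hB2 hBA hAB hBnA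
  have homega : ∀ {H : Subgroup G}, CfsgLib.Inv.ZJ.Abel (Monoid.exponent A) H →
      Nat.card (Cfsg.omegaOne p H) = Nat.card {a : G // a ∈ H ∧ a ^ p = 1} := by
    intro H hH
    refine Nat.card_congr (Equiv.subtypeEquivRight fun x => ⟨fun hx => ⟨CfsgLib.Inv.ZJ.omE_le (e := p) H hx,
      CfsgLib.Inv.ZJ.pow_of_omE (Or.inr hodd) ?_ hx⟩, fun hx => Subgroup.subset_closure hx⟩)
    have hHH : ⁅H, H⁆ = ⊥ := Subgroup.commutator_eq_bot_iff_le_centralizer.2 fun a ha b hb => hH.comm hb ha
    rw [hHH, Subgroup.commutator_bot_left]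
  refine ⟨A', h1.1, h2, h5, h6, h4, ?_, ?_⟩
  · exact Monoid.exponent_dvd_of_forall_pow_eq_one fun a => Subtype.ext (h1.2 a a.2)
  · rw [homega hAe, homega h1]
    exact h7 p hodd

end Cfsg.Agent.S3078
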