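import Cfsg.Statements.S3084
import Cfsg.Agent.Inv.PauliExtra

set_option autoImplicit false
open Cfsg

namespace Cfsg.Agent.S3084

open CfsgLib.Inv.PauliExtra Matrix

/-- Let K be a group acting faithfully and linearly on a finite-dimensional vector space U of dimension 2n ≥ 2 over the field with two elements, preserving a quadratic form q whose polar bilinear form is non-degenerate and which vanishes on some n-dimensional subspace (a non-singular form of plus type). Then there is a finite group R with a normal extraspecial 2-subgroup Q of order 2^(2n+1), an isomorphism of R/Q with K, and a surjective homomorphism χ from Q onto (the additive group of) U with kernel the centre of Q, such that χ carries conjugation by any r in R to the action of the image of r in K, and an element a of Q squares to the identity exactly when q vanishes at χ(a). -/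
theorem result {K : Type*} [Group K] {U : Type*} [AddCommGroup U] [Module (ZMod 2) U] [Module.Finite (ZMod 2) U] (n : ℕ) (hn1 : 1 ≤ n) (hn : Module.finrank (ZMod 2) U = 2 * n) (ρ : Representation (ZMod 2) K U) (hρ : Function.Injective ρ) (q : QuadraticForm (ZMod 2) U) (hq : ∀ (k : K) (u : U), q (ρ k u) = q u) (hnd : (QuadraticMap.polarBilin q).Nondegenerate) (hplus : ∃ W : Submodule (ZMod 2) U, Module.finrank (ZMod 2) ↥W = n ∧ ∀ w ∈ W, q w = 0) : ∃ (R : Type) (_ : Group R) (_ : Finite R) (Q : Subgroup R) (hN : Q.Normal) (e : R ⧸ Q ≃* K) (χ : ↥Q →* Multiplicative U), Cfsg.IsExtraspecial 2 ↥Q ∧ Nat.card ↥Q = 2 ^ (2 * n + 1) ∧ Function.Surjective χ ∧ χ.ker = Subgroup.center ↥Q ∧ (∀ (r : R) (a : ↥Q), χ ⟨r * a * r⁻¹, hN.conj_mem (a : R) a.2 r⟩ = Multiplicative.ofAdd (ρ (e (r : R ⧸ Q)) (Multiplicative.toAdd (χ a)))) ∧ ∀ a : ↥Q, a * a = 1 ↔ q (Multiplicative.toAdd (χ a)) = 0 := by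
    classical
    obtain ⟨e0, he0⟩ := exists_coord hn q hnd hplus
    let σ : K → (Sp n →ₗ[ZMod 2] Sp n) := fun k => e0.symm.toLinearMap ∘ₗ (ρ k) ∘ₗ e0.toLinearMap
    have hσe : ∀ k v, e0 (σ k v) = ρ k (e0 v) := fun k v => by simp [σ]
    have hσ1 : ∀ v, σ 1 v = v := fun v => e0.injective (by rw [hσe, map_one]; rfl)
    have hσmul : ∀ k k' v, σ (k * k') v = σ k (σ k' v) := fun k k' v => e0.injective (by
      rw [hσe, hσe, hσe, map_mul]; rfl)
    have hσQ : ∀ k v, Qf (σ k v) = Qf v := fun k v => by rw [← he0, hσe, hq, he0]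
    have hσinj : ∀ k k', (∀ v, σ k v = σ k' v) → k = k' := fun k k' h => hρ (LinearMap.ext fun u => by
      obtain ⟨v, rfl⟩ := e0.surjective u
      rw [← hσe, ← hσe, h])
    let Rs : Subgroup (Matrix (Pt n) (Pt n) (ZMod 3))ˣ :=
      { carrier := {r | ∃ k : K, ∀ v, ∃ c : ZMod 3, c ≠ 0 ∧
          (r : Matrix (Pt n) (Pt n) (ZMod 3)) * P v = c • (P (σ k v) * (r : Matrix (Pt n) (Pt n) (ZMod 3)))}
        one_mem' := ⟨1, fun v => ⟨1, one_ne_zero, by rw [hσ1, one_smul, Units.val_one, one_mul, mul_one]⟩⟩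
        mul_mem' := by
          rintro r s ⟨k, hk⟩ ⟨k', hk'⟩
          refine ⟨k * k', fun v => ?_⟩
          obtain ⟨c, hc, e⟩ := hk' v
          obtain ⟨d, hd, e'⟩ := hk (σ k' v)
          refine ⟨c * d, mul_ne_zero hc hd, ?_⟩
          rw [Units.val_mul, mul_assoc, e, Matrix.mul_smul, ← mul_assoc, e', Matrix.smul_mul, smul_smul, hσmul,
            mul_assoc]
        inv_mem' := by
          rintro r ⟨k, hk⟩
          refine ⟨k⁻¹, fun v => ?_⟩
          obtain ⟨c, hc, e⟩ := hk (σ k⁻¹ v)
          refine ⟨c, hc, ?_⟩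
          have hkk : σ k (σ k⁻¹ v) = v := by rw [← hσmul, mul_inv_cancel, hσ1]
          rw [hkk] at e
          have h1 : ((r⁻¹ : (Matrix (Pt n) (Pt n) (ZMod 3))ˣ) : Matrix (Pt n) (Pt n) (ZMod 3)) *
              ((r : Matrix (Pt n) (Pt n) (ZMod 3)) * P (σ k⁻¹ v)) *
                ((r⁻¹ : (Matrix (Pt n) (Pt n) (ZMod 3))ˣ) : Matrix (Pt n) (Pt n) (ZMod 3)) =
              c • (((r⁻¹ : (Matrix (Pt n) (Pt n) (ZMod 3))ˣ) : Matrix (Pt n) (Pt n) (ZMod 3)) * P v) := by
            rw [e, Matrix.mul_smul, Matrix.smul_mul, mul_assoc, mul_assoc, Units.mul_inv, mul_one]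
          rw [← mul_assoc, Units.inv_mul, one_mul] at h1
          rw [h1, smul_smul, sq_three c hc, one_smul] }
    have hRk : ∀ r : ↥Rs, ∃ k : K, ∀ v, ∃ c : ZMod 3, c ≠ 0 ∧
        ((r : (Matrix (Pt n) (Pt n) (ZMod 3))ˣ) : Matrix (Pt n) (Pt n) (ZMod 3)) * P v =
          c • (P (σ k v) * ((r : (Matrix (Pt n) (Pt n) (ZMod 3))ˣ) : Matrix (Pt n) (Pt n) (ZMod 3))) := fun r => r.2
    choose φf hφ using hRk
    have huniq : ∀ (r : ↥Rs) (k : K), (∀ v, ∃ c : ZMod 3, c ≠ 0 ∧
        ((r : (Matrix (Pt n) (Pt n) (ZMod 3))ˣ) : Matrix (Pt n) (Pt n) (ZMod 3)) * P v =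
          c • (P (σ k v) * ((r : (Matrix (Pt n) (Pt n) (ZMod 3))ˣ) : Matrix (Pt n) (Pt n) (ZMod 3)))) → φf r = k := by
      intro r k hk
      refine hσinj _ _ fun v => ?_
      obtain ⟨c, hc, e⟩ := hφ r v
      obtain ⟨d, hd, e'⟩ := hk v
      rw [e, ← Matrix.smul_mul, ← Matrix.smul_mul] at e'
      exact (P_inj hc ((Units.mul_left_inj (r : (Matrix (Pt n) (Pt n) (ZMod 3))ˣ)).1 e')).1
    let φ : ↥Rs →* K := MonoidHom.mk' φf fun r s => huniq _ _ fun v => by
      obtain ⟨c, hc, e⟩ := hφ s v
      obtain ⟨d, hd, e'⟩ := hφ r (σ (φf s) v)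
      refine ⟨c * d, mul_ne_zero hc hd, ?_⟩
      rw [Subgroup.coe_mul, Units.val_mul, mul_assoc, e, Matrix.mul_smul, ← mul_assoc, e', Matrix.smul_mul, smul_smul,
        hσmul, mul_assoc]
    have hφsurj : Function.Surjective φ := by
      intro k
      let σe : Sp n ≃ₗ[ZMod 2] Sp n := LinearEquiv.ofBijective (σ k)
        ⟨fun a b h => by simpa [← hσmul, hσ1] using congrArg (σ k⁻¹) h,
          fun b => ⟨σ k⁻¹ b, by rw [← hσmul, mul_inv_cancel, hσ1]⟩⟩
      obtain ⟨T, hT, hTP⟩ := intertwiner σe (hσQ k)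
      refine ⟨⟨hT.unit, k, hTP⟩, huniq _ k hTP⟩
    -- the kernel
    have hscal : ∀ (c : ZMod 3) (u : Sp n), c ≠ 0 → ∃ r : ↥Rs,
        ((r : (Matrix (Pt n) (Pt n) (ZMod 3))ˣ) : Matrix (Pt n) (Pt n) (ZMod 3)) = c • P u ∧ φ r = 1 := by
      intro c u hc
      let g : (Matrix (Pt n) (Pt n) (ZMod 3))ˣ :=
        ⟨c • P u, (c * sgn (Qf u)) • P u,
          by rw [smul_mul_smul_comm, P_sq, smul_smul, ← mul_assoc, sq_three c hc, one_mul, sgn_sq, one_smul],
          by rw [smul_mul_smul_comm, P_sq, smul_smul, mul_comm (c * sgn (Qf u)) c, ← mul_assoc, sq_three c hc, one_mul, sgn_sq, one_smul]⟩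
      have hg : ∀ v, ∃ d : ZMod 3, d ≠ 0 ∧ (g : Matrix (Pt n) (Pt n) (ZMod 3)) * P v =
          d • (P (σ 1 v) * (g : Matrix (Pt n) (Pt n) (ZMod 3))) := fun v => ⟨sgn (β u v + β v u), sgn_ne _, by
        rw [hσ1]
        show c • P u * P v = sgn (β u v + β v u) • (P v * (c • P u))
        rw [Matrix.smul_mul, Matrix.mul_smul, P_comm u v, smul_comm]⟩
      exact ⟨⟨g, 1, hg⟩, rfl, huniq _ 1 hg⟩
    have hker : ∀ r : ↥φ.ker, ∃ u : Sp n, ∃ c : ZMod 3, c ≠ 0 ∧
        (((r : ↥Rs) : (Matrix (Pt n) (Pt n) (ZMod 3))ˣ) : Matrix (Pt n) (Pt n) (ZMod 3)) = c • P u := by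
      intro r
      obtain ⟨M, hMdef⟩ : ∃ M : Matrix (Pt n) (Pt n) (ZMod 3),
          M = (((r : ↥Rs) : (Matrix (Pt n) (Pt n) (ZMod 3))ˣ) : Matrix (Pt n) (Pt n) (ZMod 3)) := ⟨_, rfl⟩
      have hM : ∀ v, ∃ t : ZMod 2, M * P v = sgn t • (P v * M) := by
        intro v
        obtain ⟨c, hc, e⟩ := hφ (r : ↥Rs) v
        rw [show φf (r : ↥Rs) = 1 from r.2, hσ1, ← hMdef] at e
        exact ⟨if c = 1 then 0 else 1, by rw [← sgn_exists c hc]; exact e⟩
      choose ℓ hℓ using hM
      let u : Sp n := (fun i => ℓ (0, Pi.single i 1), fun i => ℓ (Pi.single i 1, 0))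
      let N := M * P u
      have hN : ∀ v, ℓ v = β u v + β v u → N * P v = P v * N := by
        intro v hv
        simp only [N]
        rw [mul_assoc, P_comm u v, Matrix.mul_smul, ← mul_assoc M, hℓ, Matrix.smul_mul, smul_smul, ← hv, sgn_sq,
          one_smul, mul_assoc]
      have hgen1 : ∀ a : Pt n, N * P (a, 0) = P (a, 0) * N := by
        let S : Submodule (ZMod 2) (Pt n) :=
          { carrier := {a | N * P (a, 0) = P (a, 0) * N}
            zero_mem' := by
              show N * P (((0 : Pt n), (0 : Pt n)) : Sp n) = P (((0 : Pt n), (0 : Pt n)) : Sp n) * N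
              rw [show (((0 : Pt n), (0 : Pt n)) : Sp n) = 0 from rfl, P_zero, mul_one, one_mul]
            add_mem' := fun {a b} ha hb => by
              show N * P (a + b, 0) = P (a + b, 0) * N
              have h : P ((a + b, 0) : Sp n) = P ((a, 0) : Sp n) * P (b, 0) := by
                rw [P_mul]; simp [β, sgn_zero]
              rw [h, ← mul_assoc, ha, mul_assoc, hb, mul_assoc]
            smul_mem' := fun c {a} ha => by
              rcases (by decide : ∀ c : ZMod 2, c = 0 ∨ c = 1) c with rfl | rfl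
              · show N * P (((0 : ZMod 2) • a, 0) : Sp n) = P (((0 : ZMod 2) • a, 0) : Sp n) * N
                rw [zero_smul, show (((0 : Pt n), (0 : Pt n)) : Sp n) = 0 from rfl, P_zero, mul_one, one_mul]
              · show N * P (((1 : ZMod 2) • a, 0) : Sp n) = P (((1 : ZMod 2) • a, 0) : Sp n) * N
                rw [one_smul]; exact ha }
        intro a
        suffices h : a ∈ S from h
        rw [show a = ∑ i, a i • (Pi.single i 1 : Pt n) by funext k; simp [Finset.sum_apply, Pi.single_apply]]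
        exact S.sum_mem fun i _ => S.smul_mem _ (hN _ (by simp [u, β]))
      have hgen2 : ∀ b : Pt n, N * P (0, b) = P (0, b) * N := by
        let S : Submodule (ZMod 2) (Pt n) :=
          { carrier := {a | N * P (0, a) = P (0, a) * N}
            zero_mem' := by
              show N * P (((0 : Pt n), (0 : Pt n)) : Sp n) = P (((0 : Pt n), (0 : Pt n)) : Sp n) * N
              rw [show (((0 : Pt n), (0 : Pt n)) : Sp n) = 0 from rfl, P_zero, mul_one, one_mul]
            add_mem' := fun {a b} ha hb => by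
              show N * P (0, a + b) = P (0, a + b) * N
              have h : P ((0, a + b) : Sp n) = P ((0, a) : Sp n) * P (0, b) := by
                rw [P_mul]; simp [β, sgn_zero]
              rw [h, ← mul_assoc, ha, mul_assoc, hb, mul_assoc]
            smul_mem' := fun c {a} ha => by
              rcases (by decide : ∀ c : ZMod 2, c = 0 ∨ c = 1) c with rfl | rfl
              · show N * P ((0, (0 : ZMod 2) • a) : Sp n) = P ((0, (0 : ZMod 2) • a) : Sp n) * N
                rw [zero_smul, show (((0 : Pt n), (0 : Pt n)) : Sp n) = 0 from rfl, P_zero, mul_one, one_mul]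
              · show N * P ((0, (1 : ZMod 2) • a) : Sp n) = P ((0, (1 : ZMod 2) • a) : Sp n) * N
                rw [one_smul]; exact ha }
        intro a
        suffices h : a ∈ S from h
        rw [show a = ∑ i, a i • (Pi.single i 1 : Pt n) by funext k; simp [Finset.sum_apply, Pi.single_apply]]
        exact S.sum_mem fun i _ => S.smul_mem _ (hN _ (by simp [u, β]))
      have hdiag : ∀ x y : Pt n, x ≠ y → N x y = 0 := by
        intro x y hxy
        obtain ⟨i, hi⟩ : ∃ i, x i ≠ y i := Function.ne_iff.1 hxy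
        have h := congrFun (congrFun (hgen2 (Pi.single i 1)) x) y
        rw [Matrix.mul_apply, Matrix.mul_apply, Finset.sum_eq_single y, Finset.sum_eq_single x] at h
        · simp only [P, Matrix.of_apply, add_zero, if_true, single_dotProduct, one_mul] at h
          rcases (mul_eq_mul_left_iff.1 (h.trans (mul_comm _ _))) with h' | h'
          · exact absurd (sgn_inj _ _ h').symm hi
          · exact h'
        · intro z _ hz
          simp only [P, Matrix.of_apply, add_zero, if_neg (Ne.symm hz), zero_mul]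
        · intro h; exact absurd (Finset.mem_univ _) h
        · intro z _ hz
          simp only [P, Matrix.of_apply, add_zero, if_neg hz, mul_zero]
        · intro h; exact absurd (Finset.mem_univ _) h
      have hconst : ∀ x : Pt n, N x x = N 0 0 := by
        intro x
        have h := congrFun (congrFun (hgen1 x) x) 0
        rw [Matrix.mul_apply, Matrix.mul_apply, Finset.sum_eq_single x, Finset.sum_eq_single 0] at h
        · simpa [P, sgn_zero] using h
        · intro z _ hz
          rw [hdiag z 0 hz, mul_zero]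
        · intro h; exact absurd (Finset.mem_univ _) h
        · intro z _ hz
          rw [hdiag x z (Ne.symm hz), zero_mul]
        · intro h; exact absurd (Finset.mem_univ _) h
      have hNs : N = (N 0 0) • (1 : Matrix (Pt n) (Pt n) (ZMod 3)) := by
        ext x y
        rw [Matrix.smul_apply, Matrix.one_apply]
        by_cases h : x = y
        · rw [h, if_pos rfl, hconst, smul_eq_mul, mul_one]
        · rw [if_neg h, hdiag x y h, smul_zero]
      have hMu : M = (N 0 0 * sgn (Qf u)) • P u := by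
        have h1 : N * P u = sgn (Qf u) • M := by
          simp only [N]
          rw [mul_assoc, P_sq, Matrix.mul_smul, mul_one]
        rw [hNs, Matrix.smul_mul, one_mul] at h1
        calc M = sgn (Qf u) • (sgn (Qf u) • M) := by rw [smul_smul, sgn_sq, one_smul]
          _ = _ := by rw [← h1, smul_smul, mul_comm]
      refine ⟨u, _, fun h0 => ?_, hMdef.symm.trans hMu⟩
      rw [h0, zero_smul] at hMu
      exact ((r : ↥Rs) : (Matrix (Pt n) (Pt n) (ZMod 3))ˣ).ne_zero (hMdef.symm.trans hMu)
    choose π c hc hπ using hker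
    have hext : ∀ a b : ↥φ.ker, π a = π b → c a = c b → a = b := fun a b h1 h2 =>
      Subtype.ext (Subtype.ext (Units.ext (by rw [hπ a, hπ b, h1, h2])))
    have hπmul : ∀ a b, π (a * b) = π a + π b ∧ c (a * b) = c a * c b * sgn (β (π a) (π b)) := by
      intro a b
      refine P_inj (hc _) ?_
      rw [← hπ, Subgroup.coe_mul, Subgroup.coe_mul, Units.val_mul, hπ a, hπ b, smul_mul_smul_comm, P_mul, smul_smul]
    have hmk : ∀ (d : ZMod 3) (u : Sp n), d ≠ 0 → ∃ a : ↥φ.ker, π a = u ∧ c a = d := by
      intro d u hd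
      obtain ⟨r, hr, hr1⟩ := hscal d u hd
      exact ⟨⟨r, hr1⟩, P_inj (hc _) ((hπ ⟨r, hr1⟩).symm.trans hr)⟩
    have h1 : π (1 : ↥φ.ker) = 0 ∧ c (1 : ↥φ.ker) = 1 := by
      refine P_inj (hc _) ?_
      rw [← hπ, P_zero, one_smul]
      rfl
    have hsq : ∀ a : ↥φ.ker, π (a * a) = 0 ∧ c (a * a) = sgn (Qf (π a)) := fun a => by
      obtain ⟨e1, e2⟩ := hπmul a a
      rw [add_self (π a)] at e1
      rw [sq_three _ (hc a), one_mul, β_self] at e2
      exact ⟨e1, e2⟩
    let χ : ↥φ.ker →* Multiplicative U := MonoidHom.mk' (fun a => Multiplicative.ofAdd (e0 (π a)))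
      fun a b => by rw [(hπmul a b).1, map_add, ofAdd_add]
    have hχker : ∀ a, a ∈ χ.ker ↔ π a = 0 := fun a => by
      rw [MonoidHom.mem_ker]
      show Multiplicative.ofAdd (e0 (π a)) = 1 ↔ _
      rw [ofAdd_eq_one, LinearEquiv.map_eq_zero_iff]
    have hcenter : χ.ker = Subgroup.center ↥φ.ker := by
      ext a
      rw [hχker, Subgroup.mem_center_iff]
      constructor
      · intro h b
        refine hext _ _ ?_ ?_
        · rw [(hπmul b a).1, (hπmul a b).1, add_comm]
        · rw [(hπmul b a).2, (hπmul a b).2, h]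
          simp [β, sgn_zero, mul_comm]
      · intro h
        have key : ∀ v, β (π a) v = β v (π a) := by
          intro v
          obtain ⟨b, hb, -⟩ := hmk 1 v one_ne_zero
          have e := congrArg c (h b)
          rw [(hπmul b a).2, (hπmul a b).2, mul_comm (c b), hb] at e
          exact (sgn_inj _ _ (mul_left_cancel₀ (mul_ne_zero (hc _) (hc _)) e)).symm
        refine Prod.ext (funext fun i => ?_) (funext fun i => ?_)
        · have := key (0, Pi.single i 1)
          simp [β] at this
          simpa using this.symm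
        · have := key (Pi.single i 1, 0)
          simp [β] at this
          simpa using this
    have hcards : Nat.card ↥φ.ker = 2 ^ (2 * n + 1) := by
      have hbij : Function.Bijective (fun a : ↥φ.ker => ((π a, if c a = 1 then (0 : ZMod 2) else 1) : Sp n × ZMod 2)) := by
        constructor
        · intro a b h
          obtain ⟨h1, h2⟩ := Prod.mk.injEq _ _ _ _ |>.mp h
          exact hext a b h1 (by rw [sgn_exists _ (hc a), sgn_exists _ (hc b), h2])
        · rintro ⟨u, t⟩
          obtain ⟨a, ha, hca⟩ := hmk (sgn t) u (sgn_ne t)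
          refine ⟨a, ?_⟩
          simp only [ha, hca]
          exact Prod.ext rfl (sgn_inj _ _ (sgn_exists _ (sgn_ne t)).symm)
      rw [Nat.card_eq_of_bijective _ hbij, Nat.card_prod, Nat.card_prod, Nat.card_fun, Nat.card_zmod, Nat.card_fin]
      rw [← pow_add, ← pow_succ, two_mul]
    have hQp : IsPGroup 2 ↥φ.ker := IsPGroup.of_card hcards
    have hcommle : commutator ↥φ.ker ≤ Subgroup.center ↥φ.ker := by
      rw [← hcenter, commutator_def, Subgroup.commutator_le]
      intro a _ b _
      rw [MonoidHom.mem_ker, map_commutatorElement, commutatorElement_eq_one_iff_mul_comm, mul_comm]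
    have hzcard : Nat.card ↥(Subgroup.center ↥φ.ker) = 2 := by
      rw [← hcenter]
      have hbij : Function.Bijective (fun a : ↥χ.ker => (if c (a : ↥φ.ker) = 1 then (0 : ZMod 2) else 1)) := by
        constructor
        · intro a b h
          refine Subtype.ext (hext _ _ ?_ ?_)
          · rw [(hχker _).1 a.2, (hχker _).1 b.2]
          · rw [sgn_exists _ (hc _), sgn_exists _ (hc (b : ↥φ.ker))]
            exact congrArg sgn h
        · intro t
          obtain ⟨a, ha, hca⟩ := hmk (sgn t) 0 (sgn_ne t)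
          refine ⟨⟨a, (hχker a).2 ha⟩, ?_⟩
          simp only [hca]
          exact sgn_inj _ _ (sgn_exists _ (sgn_ne t)).symm
      rw [Nat.card_eq_of_bijective _ hbij, Nat.card_zmod]
    have hcomm : commutator ↥φ.ker = Subgroup.center ↥φ.ker := by
      haveI : Fact (Nat.card ↥(Subgroup.center ↥φ.ker)).Prime := ⟨by rw [hzcard]; exact Nat.prime_two⟩
      rcases Subgroup.eq_bot_or_eq_top_of_prime_card ((commutator ↥φ.ker).subgroupOf (Subgroup.center ↥φ.ker)) with h | h
      · exfalso
        rw [Subgroup.subgroupOf_eq_bot, disjoint_iff, inf_eq_left.2 hcommle] at h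
        have hall : Subgroup.center ↥φ.ker = ⊤ := by
          refine eq_top_iff.2 fun a _ => Subgroup.mem_center_iff.2 fun b => ?_
          refine commutatorElement_eq_one_iff_mul_comm.1 (Subgroup.mem_bot.1 (h ▸ ?_))
          rw [commutator_def]
          exact Subgroup.commutator_mem_commutator (Subgroup.mem_top b) (Subgroup.mem_top a)
        rw [hall, Subgroup.card_top, hcards] at hzcard
        have := Nat.pow_right_injective (le_refl 2) (hzcard.trans (pow_one 2).symm)
        omega
      · exact le_antisymm hcommle (Subgroup.subgroupOf_eq_top.1 h)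
    refine ⟨↥Rs, inferInstance, inferInstance, φ.ker, MonoidHom.normal_ker φ,
      QuotientGroup.quotientKerEquivOfSurjective φ hφsurj, χ, ⟨⟨hQp, ?_, hcomm⟩, hzcard⟩, hcards, ?_, hcenter, ?_, ?_⟩
    · refine le_antisymm (CfsgLib.Solv.frattini_le_of_elementary (p := 2) _ hcommle fun a => ?_)
        (hcomm ▸ CfsgLib.Solv.commutator_le_frattini hQp)
      rw [← hcenter, hχker, pow_two]
      exact (hsq a).1
    · intro m
      obtain ⟨v, hv⟩ := e0.surjective (Multiplicative.toAdd m)
      obtain ⟨a, ha, -⟩ := hmk 1 v one_ne_zero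
      refine ⟨a, ?_⟩
      show Multiplicative.ofAdd (e0 (π a)) = m
      rw [ha, hv]
      rfl
    · intro r a
      show Multiplicative.ofAdd (e0 (π _)) = Multiplicative.ofAdd (ρ (φ r) (e0 (π a)))
      rw [← hσe]
      congr 2
      obtain ⟨d, hd, e⟩ := hφ r (π a)
      refine (P_inj (hc ⟨r * (a : ↥Rs) * r⁻¹, (MonoidHom.normal_ker φ).conj_mem (a : ↥Rs) a.2 r⟩) (c' := c a * d) ?_).1
      rw [← hπ]
      simp only [Subgroup.coe_mul, Subgroup.coe_inv, Units.val_mul]
      rw [hπ a, Matrix.mul_smul, e, smul_smul, Matrix.smul_mul, mul_assoc, Units.mul_inv, mul_one]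
      rfl
    · intro a
      show a * a = 1 ↔ q (e0 (π a)) = 0
      rw [he0, ← sgn_eq_one, ← (hsq a).2]
      constructor
      · intro h; rw [h, h1.2]
      · intro h
        exact hext _ _ ((hsq a).1.trans h1.1.symm) (h.trans h1.2.symm)

end Cfsg.Agent.S3084
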