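import Cfsg.Statements.S3087


set_option autoImplicit false
open Cfsg

namespace Cfsg.Agent.S3087

/-- Let p be a prime, G a finite group acting linearly on a finite vector space V over the field with p elements, W a G-invariant subspace, and A a subgroup of G with |A|·|C_V(A)| ≥ |B|·|C_V(B)| for every subgroup B of A. Then |A|·|C_W(A)| ≥ |B|·|C_W(B)| for every subgroup B of A that contains C_A(W); that is, the image of A in the group induced on W satisfies the same maximality condition. -/
theorem result {G V : Type*} [Group G] [Finite G] [AddCommGroup V] [Finite V] (p : ℕ) [Fact p.Prime] [Module (ZMod p) V]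
    (ρ : Representation (ZMod p) G V) (W : Submodule (ZMod p) V) (hW : ∀ g : G, ∀ w ∈ W, ρ g w ∈ W)
    (A : Subgroup G)
    (hP : ∀ B : Subgroup G, B ≤ A →
      Nat.card ↥B * Nat.card {v : V // ∀ b ∈ B, ρ b v = v} ≤ Nat.card ↥A * Nat.card {v : V // ∀ a ∈ A, ρ a v = v})
    (B : Subgroup G) (hBA : B ≤ A) (hCB : ∀ a ∈ A, (∀ w ∈ W, ρ a w = w) → a ∈ B) :
    Nat.card ↥B * Nat.card {w : W // ∀ b ∈ B, ρ b w = w} ≤ Nat.card ↥A * Nat.card {w : W // ∀ a ∈ A, ρ a w = w} := by
  exact (by
    classical
    let X := {v : V // ∀ a ∈ A, ρ a v = v}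
    let Y := {w : W // ∀ b ∈ B, ρ b w = w}
    let Z := {v : V // ∀ b ∈ B, ρ b v = v}
    let M := {w : W // ∀ a ∈ A, ρ a w = w}
    let s : X × Y → Z := fun q => ⟨(q.1 : V) + ((q.2 : W) : V), fun b hb => by
      rw [map_add, q.1.2 b (hBA hb), q.2.2 b hb]⟩
    let r : Z → X × Y := fun z => if h : ∃ q, s q = z then h.choose
      else (⟨0, fun a _ => map_zero _⟩, ⟨0, fun b _ => map_zero _⟩)
    have hr : ∀ q, s (r (s q)) = s q := fun q => by
      show s (dite _ _ _) = s q
      rw [dif_pos ⟨q, rfl⟩]
      exact (⟨q, rfl⟩ : ∃ q', s q' = s q).choose_spec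
    have hMmem : ∀ q : X × Y, ∀ a ∈ A, ρ a (((q.2 : W) - ((r (s q)).2 : W) : W) : V) =
        (((q.2 : W) - ((r (s q)).2 : W) : W) : V) := by
      intro q a ha
      have e : (((q.2 : W) - ((r (s q)).2 : W) : W) : V) = ((r (s q)).1 : V) - (q.1 : V) := by
        have := congrArg Subtype.val (hr q)
        simp only [s] at this
        rw [Submodule.coe_sub, sub_eq_sub_iff_add_eq_add, add_comm ((q.2 : W) : V), ← this]
      rw [e, map_sub, (r (s q)).1.2 a ha, q.1.2 a ha]
    let φ : X × Y → Z × M := fun q => (s q, ⟨(q.2 : W) - ((r (s q)).2 : W), hMmem q⟩)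
    have hφ : Function.Injective φ := by
      intro q q' h
      have h1 : s q = s q' := congrArg Prod.fst h
      have h2 := congrArg (fun z => (z.2 : W)) h
      simp only [φ, h1] at h2
      have h3 : q.2 = q'.2 := Subtype.ext (sub_left_inj.1 h2)
      refine Prod.ext (Subtype.ext ?_) h3
      have := congrArg Subtype.val h1
      simp only [s, h3] at this
      exact add_right_cancel this
    have hc := Nat.card_le_card_of_injective φ hφ
    rw [Nat.card_prod, Nat.card_prod] at hc
    haveI : Nonempty X := ⟨⟨0, fun a _ => map_zero _⟩⟩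
    have hX : 0 < Nat.card X := Nat.card_pos
    have h1 : Nat.card B * Nat.card Z ≤ Nat.card A * Nat.card X := hP B hBA
    show Nat.card B * Nat.card Y ≤ Nat.card A * Nat.card M
    nlinarith [Nat.mul_le_mul_left (Nat.card B) hc, Nat.mul_le_mul_right (Nat.card M) h1])

end Cfsg.Agent.S3087
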