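import Cfsg.Statements.S3103
import Cfsg.Agent.S2551
import Cfsg.Agent.Fus.Tate
import Cfsg.Agent.Solv.CoprimeAction
import Cfsg.Agent.Solv.FittingBasic

set_option autoImplicit false
open Cfsg
open scoped commutatorElement

namespace Cfsg.Agent.S3103

section Helpers

variable {X : Type*} [Group X] [Finite X]

theorem cent_le (hc : Cfsg.IsPConstrained 2 X) (hO : Cfsg.oddCore X = ⊥) :
    Subgroup.centralizer (Cfsg.pCore 2 X : Set X) ≤ Cfsg.pCore 2 X := by
  haveI := Fact.mk Nat.prime_two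
  have hbot : Cfsg.pPrimeCore 2 X = ⊥ := hO
  haveI := CfsgLib.Solv.pPrimeCore_normal X 2
  have hinj : Function.Injective (QuotientGroup.mk' (Cfsg.pPrimeCore 2 X)) := by
    rw [← MonoidHom.ker_eq_bot_iff, QuotientGroup.ker_mk', hbot]
  have hT : Cfsg.pPrimePCore 2 X = Cfsg.pCore 2 X := by
    show (Cfsg.pCore 2 _).comap (QuotientGroup.mk' (Cfsg.pPrimeCore 2 X)) = _
    rw [← CfsgLib.Solv.map_pCore_equiv (MulEquiv.ofBijective _ ⟨hinj, QuotientGroup.mk'_surjective _⟩)]
    exact Subgroup.comap_map_eq_self_of_injective hinj _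
  have hp : IsPGroup 2 ↥(Cfsg.pPrimePCore 2 X) := by rw [hT]; exact CfsgLib.Solv.pCore_isPGroup X 2
  let P : Sylow 2 ↥(Cfsg.pPrimePCore 2 X) := default
  have hP : ((P : Subgroup ↥(Cfsg.pPrimePCore 2 X))) = ⊤ :=
    (P.is_maximal' (Q := ⊤) (IsPGroup.of_equiv hp Subgroup.topEquiv.symm) le_top).symm
  have := hc P
  rw [hP, ← MonoidHom.range_eq_map, Subgroup.range_subtype, hT] at this
  exact this

/-- the action on `R / Φ(R)` -/
noncomputable def act (R : Subgroup X) [R.Normal] : X →* MulAut (↥R ⧸ frattini ↥R) where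
  toFun x := QuotientGroup.congr _ _ (MulAut.conjNormal x)
    (Subgroup.characteristic_iff_map_eq.mp inferInstance (MulAut.conjNormal x))
  map_one' := by
    ext q
    obtain ⟨r, rfl⟩ := QuotientGroup.mk'_surjective _ q
    simp
  map_mul' x y := by
    ext q
    obtain ⟨r, rfl⟩ := QuotientGroup.mk'_surjective _ q
    simp
    rfl

theorem mk_act (R : Subgroup X) [R.Normal] (x : X) (r : ↥R) :
    act R x (r : ↥R ⧸ frattini ↥R) = ((MulAut.conjNormal x r : ↥R) : ↥R ⧸ frattini ↥R) := rfl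

theorem ker_act (hc : Cfsg.IsPConstrained 2 X) (hO : Cfsg.oddCore X = ⊥) [(Cfsg.pCore 2 X).Normal] :
    (act (Cfsg.pCore 2 X)).ker = Cfsg.pCore 2 X := by
  haveI := Fact.mk Nat.prime_two
  set R := Cfsg.pCore 2 X with hR
  have hRp : IsPGroup 2 ↥R := CfsgLib.Solv.pCore_isPGroup X 2
  set F := (frattini ↥R).map R.subtype with hF
  have hmem : ∀ x, x ∈ (act R).ker → ∀ r ∈ R, ⁅x, r⁆ ∈ F := by
    intro x hx r hr
    have h1 : act R x ((⟨r, hr⟩ : ↥R) : ↥R ⧸ frattini ↥R) = ((⟨r, hr⟩ : ↥R) : ↥R ⧸ frattini ↥R) :=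
      DFunLike.congr_fun (MonoidHom.mem_ker.mp hx) _
    rw [mk_act] at h1
    have h2 : (MulAut.conjNormal x ⟨r, hr⟩ : ↥R) * (⟨r, hr⟩ : ↥R)⁻¹ ∈ frattini ↥R := by
      rw [← QuotientGroup.eq_one_iff, QuotientGroup.mk_mul, h1, QuotientGroup.mk_inv, mul_inv_cancel]
    exact ⟨_, h2, by simp [commutatorElement_def, MulAut.conjNormal_apply]⟩
  refine le_antisymm ?_ ?_
  · refine CfsgLib.Solv.le_pCore (N := (act R).ker) ?_
    refine IsPGroup.of_card (n := (Nat.card (act R).ker).primeFactorsList.length)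
      (Nat.eq_prime_pow_of_unique_prime_dvd Nat.card_pos.ne' fun {l} hl hld => ?_)
    by_contra hne
    haveI := Fact.mk hl
    obtain ⟨y, hy⟩ := exists_prime_orderOf_dvd_card' l hld
    have hyo : orderOf (y : X) = l := by rw [Subgroup.orderOf_coe, hy]
    obtain ⟨n, hn⟩ := IsPGroup.iff_card.1 hRp
    have hcop : (Nat.card (Subgroup.zpowers (y : X))).Coprime (Nat.card R) := by
      rw [Nat.card_zpowers, hyo, hn]
      exact ((Nat.coprime_primes hl Nat.prime_two).2 hne).pow_right n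
    have hyR : (y : X) ∈ R := by
      refine cent_le hc hO (CfsgLib.Solv.le_centralizer_of_trivial_on_frattini_quotient (K := R)
        (A := Subgroup.zpowers (y : X)) (hcop.coprime_dvd_right (frattini ↥R).card_subgroup_dvd_card)
        (fun a ha k hk => hmem a ((Subgroup.zpowers_le.2 y.2) ha) k hk) (Subgroup.mem_zpowers _))
    refine hl.ne_one ?_
    rw [← hyo]
    exact Nat.eq_one_of_dvd_coprimes hcop (Nat.card_zpowers _).symm.dvd (Subgroup.orderOf_dvd_natCard R hyR)
  · intro x hx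
    rw [MonoidHom.mem_ker]
    ext q
    obtain ⟨r, rfl⟩ := QuotientGroup.mk'_surjective _ q
    show act R x (r : ↥R ⧸ frattini ↥R) = (r : ↥R ⧸ frattini ↥R)
    rw [mk_act]
    refine QuotientGroup.eq.mpr ?_
    have h1 : ⁅x, (r : X)⁻¹⁆ ∈ F := CfsgLib.Fus.commutator_le_frattini_map hRp
      (Subgroup.commutator_mem_commutator hx (inv_mem r.2))
    obtain ⟨w, hw, hwe⟩ := h1
    have : (MulAut.conjNormal x r : ↥R)⁻¹ * r = w := Subtype.ext (by
      show ((MulAut.conjNormal x r : ↥R) : X)⁻¹ * (r : X) = w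
      rw [show (w : X) = ⁅x, (r : X)⁻¹⁆ from hwe, MulAut.conjNormal_apply, commutatorElement_def]
      group)
    rwa [this]

/-- `Aut(V)` embeds in `GL₄(2)` for `|V| ≤ 16` elementary abelian -/
theorem mulAut_embeds {V : Type*} [CommGroup V] [Finite V] (he : ∀ v : V, v ^ 2 = 1) (h16 : Nat.card V ≤ 16) :
    ∃ θ : MulAut V →* Matrix.GeneralLinearGroup (Fin 4) (ZMod 2), Function.Injective θ := by
  haveI := Fact.mk Nat.prime_two
  letI : Module (ZMod 2) (Additive V) := AddCommGroup.zmodModule fun x => Additive.toMul.injective (he x.toMul)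
  haveI : Module.Finite (ZMod 2) (Additive V) := Module.Finite.of_finite
  set d := Module.finrank (ZMod 2) (Additive V) with hd
  have hcard : Nat.card V = 2 ^ d := by
    rw [← Nat.card_congr (Additive.ofMul : V ≃ Additive V).symm, Module.natCard_eq_pow_finrank (K := ZMod 2),
      Nat.card_zmod]
  have hd4 : d ≤ 4 := (Nat.pow_le_pow_iff_right (by norm_num : 1 < 2)).mp
    (by rw [← hcard]; simpa using h16)
  obtain ⟨E⟩ : Nonempty ((Additive V × (Fin (4 - d) → ZMod 2)) ≃ₗ[ZMod 2] (Fin 4 → ZMod 2)) := by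
    refine ⟨LinearEquiv.ofFinrankEq _ _ ?_⟩
    rw [Module.finrank_prod, Module.finrank_fin_fun, Module.finrank_fin_fun, ← hd]
    omega
  let lin : MulAut V → (Additive V ≃ₗ[ZMod 2] Additive V) := fun f =>
    (MulEquiv.toAdditive f).toLinearEquiv (fun c x => ZMod.map_smul (MulEquiv.toAdditive f) c x)
  let θ₀ : MulAut V →* ((Fin 4 → ZMod 2) ≃ₗ[ZMod 2] (Fin 4 → ZMod 2)) :=
    { toFun := fun f => E.symm.trans (((lin f).prodCongr (LinearEquiv.refl _ _)).trans E)
      map_one' := by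
        refine LinearEquiv.ext fun v => ?_
        show E (((E.symm v).1, (E.symm v).2)) = v
        rw [Prod.mk.eta, E.apply_symm_apply]
      map_mul' := fun f g => by
        refine LinearEquiv.ext fun v => ?_
        show E (_, (E.symm v).2) = E (lin f (E.symm (E (lin g (E.symm v).1, (E.symm v).2))).1,
          (E.symm (E (lin g (E.symm v).1, (E.symm v).2))).2)
        rw [E.symm_apply_apply]
        rfl }
  have hinj : Function.Injective θ₀ := by
    intro f g h
    refine MulEquiv.ext fun v => ?_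
    have h1 := DFunLike.congr_fun h (E (Additive.ofMul v, 0))
    have h2 : E (lin f (Additive.ofMul v), 0) = E (lin g (Additive.ofMul v), 0) := by
      simpa [θ₀] using h1
    exact (Prod.ext_iff.mp (E.injective h2)).1
  let toG : ((Fin 4 → ZMod 2) ≃ₗ[ZMod 2] (Fin 4 → ZMod 2)) ≃* Matrix.GeneralLinearGroup (Fin 4) (ZMod 2) :=
    (LinearMap.GeneralLinearGroup.generalLinearEquiv (ZMod 2) (Fin 4 → ZMod 2)).symm.trans
      Matrix.GeneralLinearGroup.toLin.symm
  exact ⟨toG.toMonoidHom.comp θ₀, toG.injective.comp hinj⟩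

end Helpers

/-- Let X be a finite 2-constrained group with no nontrivial normal subgroup of odd order such that O₂(X) has sectional 2-rank at most 4. Then X/O₂(X) is isomorphic to a subgroup of the alternating group of degree 8. -/
theorem result {X : Type*} [Group X] [Finite X] (hc : Cfsg.IsPConstrained 2 X) (hO : Cfsg.oddCore X = ⊥)
    (h4 : Cfsg.SectionalPRankLE 2 4 ↥(Cfsg.pCore 2 X)) :
    ∃ f : X ⧸ Cfsg.pCore 2 X →* ↥(alternatingGroup (Fin 8)), Function.Injective f := by
  haveI := Fact.mk Nat.prime_two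
  haveI := CfsgLib.Solv.pCore_normal X 2
  set R := Cfsg.pCore 2 X with hR
  have hRp : IsPGroup 2 ↥R := CfsgLib.Solv.pCore_isPGroup X 2
  have hsq : ∀ v : ↥R ⧸ frattini ↥R, v ^ 2 = 1 := by
    intro v
    obtain ⟨r, rfl⟩ := QuotientGroup.mk'_surjective _ v
    exact (QuotientGroup.eq_one_iff _).mpr (CfsgLib.Solv.pow_mem_frattini hRp r)
  letI : CommGroup (↥R ⧸ frattini ↥R) :=
    { (inferInstance : Group (↥R ⧸ frattini ↥R)) with
      mul_comm := fun a b => by
        have hab := hsq (a * b)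
        have ha := hsq a
        have hb := hsq b
        rw [sq] at hab ha hb
        calc a * b = (a * b)⁻¹ := eq_inv_of_mul_eq_one_left hab
          _ = b * a := by rw [mul_inv_rev, inv_eq_of_mul_eq_one_right ha, inv_eq_of_mul_eq_one_right hb] }
  have h16 : Nat.card (↥R ⧸ frattini ↥R) ≤ 16 := by
    set N := (frattini ↥R).comap (Subgroup.topEquiv : ↥(⊤ : Subgroup ↥R) ≃* ↥R).toMonoidHom with hN
    let e : ↥(⊤ : Subgroup ↥R) ⧸ N ≃* ↥R ⧸ frattini ↥R := QuotientGroup.congr _ _ Subgroup.topEquiv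
      (Subgroup.map_comap_eq_self_of_surjective Subgroup.topEquiv.surjective _)
    have := h4 ⊤ N ⊤ ⟨⟨fun a b => Subtype.ext (e.injective (by
      show e ((a : _) * b) = e ((b : _) * a)
      rw [map_mul, map_mul, mul_comm]))⟩⟩ (fun a _ => e.injective (by rw [map_pow, hsq, map_one]))
    rw [Subgroup.card_top, Nat.card_congr e.toEquiv] at this
    simpa using this
  obtain ⟨θ, hθ⟩ := mulAut_embeds hsq h16
  obtain ⟨iso⟩ := Cfsg.Agent.S2551.iso_A8 (F := ZMod 2) (ZMod.card 2)
  let g : X →* ↥(alternatingGroup (Fin 8)) := iso.toMonoidHom.comp (θ.comp (act R))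
  have hker : g.ker = R := by
    refine Eq.trans ?_ (ker_act hc hO)
    ext x
    simp only [MonoidHom.mem_ker, g, MonoidHom.comp_apply]
    exact ⟨fun h => hθ (iso.injective (by simpa using h)), fun h => by
      rw [show act R x = 1 from h]; simp⟩
  refine ⟨QuotientGroup.lift R g hker.ge, ?_⟩
  rw [← MonoidHom.ker_eq_bot_iff, QuotientGroup.ker_lift, hker, QuotientGroup.map_mk'_self]

end Cfsg.Agent.S3103
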