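import Cfsg.Statements.S3116
import Mathlib

set_option autoImplicit false
open Cfsg

namespace Cfsg.Agent.S3116

/-- The automorphism group of a dihedral 2-group of order at least 8, or of a quasi-dihedral (semidihedral) 2-group of order at least 16, is a 2-group. -/
theorem result {X : Type*} [Group X] [Finite X] (h2 : IsPGroup 2 X)
    (h : (∃ n : ℕ, 4 ≤ n ∧ Nonempty (X ≃* DihedralGroup n)) ∨ Cfsg.IsQuasiDihedral X) : IsPGroup 2 (MulAut X) := by
  have : Fact (Nat.Prime 2) := ⟨Nat.prime_two⟩
  -- a cyclic subgroup containing every element of its order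
  suffices key : ∀ (a b : X) (m : ℕ), orderOf a = m → (∀ u : X, orderOf u = m → u ∈ Subgroup.zpowers a) →
      (∀ u : X, u ∈ Subgroup.zpowers a ∨ u * b⁻¹ ∈ Subgroup.zpowers a) → b ∉ Subgroup.zpowers a →
      IsPGroup 2 (MulAut X) by
    rcases h with ⟨n, hn, ⟨e⟩⟩ | ⟨n, hn, hcard, x, y, hx, hy, hyx⟩
    · have hNZ : NeZero n := ⟨by omega⟩
      have hro : orderOf (e.symm (DihedralGroup.r 1)) = n := by
        rw [MulEquiv.orderOf_eq, DihedralGroup.orderOf_r_one]
      refine key (e.symm (DihedralGroup.r 1)) (e.symm (DihedralGroup.sr 0)) n hro ?_ ?_ ?_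
      · intro u hu
        obtain ⟨v, rfl⟩ := e.symm.surjective u
        rw [MulEquiv.orderOf_eq] at hu
        cases v with
        | r i =>
          refine ⟨(i.val : ℤ), ?_⟩
          simp only [zpow_natCast, ← map_pow, DihedralGroup.r_one_pow, ZMod.natCast_zmod_val]
        | sr i =>
          rw [DihedralGroup.orderOf_sr] at hu
          omega
      · intro u
        obtain ⟨v, rfl⟩ := e.symm.surjective u
        cases v with
        | r i =>
          left
          exact ⟨(i.val : ℤ), by simp only [zpow_natCast, ← map_pow, DihedralGroup.r_one_pow, ZMod.natCast_zmod_val]⟩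
        | sr i =>
          right
          refine ⟨((-i).val : ℤ), ?_⟩
          rw [← map_inv, ← map_mul]
          simp only [zpow_natCast, ← map_pow, DihedralGroup.r_one_pow, ZMod.natCast_zmod_val]
          congr 1
          simp [DihedralGroup.inv_sr]
      · rintro ⟨k, hk⟩
        simp only [← map_zpow] at hk
        have := e.symm.injective hk
        rw [DihedralGroup.r_one_zpow] at this
        exact absurd this (by simp)
    · have hcardX := hcard
      have hidx : (Subgroup.zpowers x).index = 2 := by
        have h1 := Subgroup.card_mul_index (Subgroup.zpowers x)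
        rw [Nat.card_zpowers, hx, hcard, pow_succ] at h1
        exact mul_left_cancel₀ (by positivity) h1
      have hyn : y ∉ Subgroup.zpowers x := by
        rintro ⟨k, hk⟩
        simp only [] at hk
        have hcm : y * x * y⁻¹ = x := by rw [← hk]; group
        rw [hcm] at hyx
        nth_rewrite 1 [← pow_one x] at hyx
        have := (pow_inj_mod.mp hyx)
        rw [hx] at this
        obtain ⟨m, rfl⟩ : ∃ m, n = m + 3 := ⟨n - 3, by omega⟩
        have h8 : 8 ≤ 2 ^ (m + 3) := by rw [pow_add]; nlinarith [Nat.one_le_two_pow (n := m)]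
        have h4 : 2 * 2 ^ (m + 3 - 1) = 2 ^ (m + 3) := by rw [← pow_succ']; congr 1
        rw [Nat.mod_eq_of_lt (by omega), Nat.mod_eq_of_lt (by omega)] at this
        omega
      have hmem : ∀ u : X, u ∈ Subgroup.zpowers x ∨ u * y⁻¹ ∈ Subgroup.zpowers x := by
        intro u
        by_cases hu : u ∈ Subgroup.zpowers x
        · exact Or.inl hu
        · right
          rw [Subgroup.mul_mem_iff_of_index_two hidx]
          exact iff_of_false hu (fun h => hyn (by simpa using inv_mem h))
      refine key x y (2 ^ n) hx (fun u hu => ?_) hmem hyn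
      rcases hmem u with h1 | ⟨k, hk⟩
      · exact h1
      · exfalso
        have hu4 : u ^ 4 = 1 := by
          have hk2 : u = x ^ k * y := by simp only [] at hk; rw [hk]; group
          have hy2 : y * y = 1 := by
            have := pow_orderOf_eq_one y; rwa [hy, sq] at this
          have hconj : y * x ^ k * y⁻¹ = x ^ (((2 ^ (n - 1) - 1 : ℕ) : ℤ) * k) := by
            rw [← conj_zpow, hyx, ← zpow_natCast, ← zpow_mul]
          have hu2 : u * u = x ^ (k * (2 ^ (n - 1) : ℕ)) := by
            rw [hk2]
            calc x ^ k * y * (x ^ k * y) = x ^ k * (y * x ^ k * y⁻¹) * (y * y) := by group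
              _ = _ := by
                rw [hconj, hy2, mul_one, ← zpow_add]
                congr 1
                have : 1 ≤ 2 ^ (n - 1) := Nat.one_le_two_pow
                push_cast [Nat.cast_sub this]
                ring
          have : u ^ 4 = (u * u) * (u * u) := by rw [show (4:ℕ) = 2 + 2 from rfl, pow_add, sq]
          rw [this, hu2, ← zpow_add]
          have e2 : k * ((2 ^ (n - 1) : ℕ) : ℤ) + k * ((2 ^ (n - 1) : ℕ) : ℤ) = ((2 ^ n : ℕ) : ℤ) * k := by
            obtain ⟨m, rfl⟩ : ∃ m, n = m + 1 := ⟨n - 1, by omega⟩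
            push_cast [Nat.add_sub_cancel, pow_succ]
            ring
          rw [e2, zpow_mul, zpow_natCast, ← hx, pow_orderOf_eq_one, one_zpow]
        have h1 := orderOf_dvd_of_pow_eq_one hu4
        rw [hu] at h1
        have h2 : 8 ≤ 2 ^ n := le_trans (by norm_num) (Nat.pow_le_pow_right (by norm_num) hn)
        have := Nat.le_of_dvd (by norm_num) h1
        omega
  intro a b m ha hall hcov hb
  set C := Subgroup.zpowers a with hC
  have hinv : ∀ (φ : MulAut X) (c : X), c ∈ C → φ c ∈ C := by
    rintro φ c ⟨k, rfl⟩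
    simp only [map_zpow]
    exact zpow_mem (hall _ (by rw [MulEquiv.orderOf_eq, ha])) k
  -- cardinality of the automorphism group
  obtain ⟨s, hs⟩ := (Nat.dvd_prime_pow Nat.prime_two).mp
    (show orderOf a ∣ 2 ^ (IsPGroup.iff_card.mp h2).choose from
      (IsPGroup.iff_card.mp h2).choose_spec ▸ orderOf_dvd_natCard a)
  have hgen : ∀ φ : MulAut X, φ a ∈ C := fun φ => hinv φ a (Subgroup.mem_zpowers a)
  let ρ : MulAut X →* MulAut C :=
    { toFun := fun φ =>
        { toFun := fun c => ⟨φ c, hinv φ c c.2⟩
          invFun := fun c => ⟨φ.symm c, hinv φ.symm c c.2⟩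
          left_inv := fun c => by ext; simp
          right_inv := fun c => by ext; simp
          map_mul' := fun c d => by ext; simp }
      map_one' := by ext c; rfl
      map_mul' := fun φ ψ => by ext c; rfl }
  have hAutC : IsPGroup 2 (MulAut C) := by
    refine IsPGroup.iff_card.mpr ⟨s - 1, ?_⟩
    rw [Nat.card_congr (IsCyclic.mulAutMulEquiv C).toEquiv, Nat.card_zpowers, hs.2, Nat.card_eq_fintype_card, ZMod.card_units_eq_totient]
    rcases Nat.eq_zero_or_pos s with h0 | h0
    · rw [h0]; rfl
    · rw [Nat.totient_prime_pow Nat.prime_two h0]; norm_num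
  have hker : IsPGroup 2 ρ.ker := by
    have hfixC : ∀ (φ : ρ.ker) (c : X), c ∈ C → (φ : MulAut X) c = c := fun φ c hc =>
      congrArg Subtype.val (DFunLike.congr_fun (φ.2 : ρ φ = 1) ⟨c, hc⟩)
    have hb2 : ∀ φ : ρ.ker, (φ : MulAut X) b * b⁻¹ ∈ C := by
      intro φ
      rcases hcov ((φ : MulAut X) b) with h1 | h1
      · exfalso
        apply hb
        have := hfixC φ _ h1
        exact (φ : MulAut X).injective this ▸ h1
      · exact h1
    let ψ : ρ.ker →* C :=
      { toFun := fun φ => ⟨(φ : MulAut X) b * b⁻¹, hb2 φ⟩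
        map_one' := by ext; simp
        map_mul' := fun φ φ' => by
          apply Subtype.ext
          simp only [Subgroup.coe_mul]
          show (φ : MulAut X) ((φ' : MulAut X) b) * b⁻¹ = _
          have e : (φ' : MulAut X) b = ((φ' : MulAut X) b * b⁻¹) * b := by group
          rw [e, map_mul, hfixC φ _ (hb2 φ'), ← e]
          obtain ⟨i₁, h₁⟩ := hb2 φ
          obtain ⟨i₂, h₂⟩ := hb2 φ'
          simp only [] at h₁ h₂
          rw [← h₁, ← h₂, mul_assoc, ← h₁, ← zpow_add, ← zpow_add, add_comm] }
    refine (h2.to_subgroup C).of_injective ψ ?_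
    rw [← MonoidHom.ker_eq_bot_iff, eq_bot_iff]
    intro φ hφ
    have hφb : (φ : MulAut X) b = b := mul_inv_eq_one.mp (congrArg Subtype.val (hφ : ψ φ = 1))
    apply Subtype.ext
    ext u
    show (φ : MulAut X) u = u
    rcases hcov u with h1 | h1
    · exact hfixC φ u h1
    · calc (φ : MulAut X) u = (φ : MulAut X) (u * b⁻¹ * b) := by rw [inv_mul_cancel_right]
        _ = u := by rw [map_mul, hfixC φ _ h1, hφb, inv_mul_cancel_right]
  obtain ⟨i, hi⟩ := IsPGroup.iff_card.mp hker
  obtain ⟨j, hj⟩ := IsPGroup.iff_card.mp (hAutC.to_subgroup ρ.range)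
  exact IsPGroup.iff_card.mpr ⟨i + j, by
    rw [← Subgroup.card_mul_index ρ.ker, Subgroup.index_ker, hi, hj, pow_add]⟩

end Cfsg.Agent.S3116
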