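import Cfsg.Statements.S3155
import Mathlib

set_option autoImplicit false
open Cfsg

namespace Cfsg.Agent.S3155

/-- Let B be the direct product of three cyclic groups of order 4. Then the automorphism of B inverting every element is not the square of any automorphism of B. -/
theorem result {B : Type*} [CommGroup B] [Finite B] (hB : Nonempty (B ≃* Multiplicative (ZMod 4 × ZMod 4 × ZMod 4)))
    (τ : B ≃* B) : τ.trans τ ≠ MulEquiv.inv B := by
  intro h
  obtain ⟨e⟩ := hB
  have : Fact (1 < 4) := ⟨by norm_num⟩
  let A := ZMod 4 × ZMod 4 × ZMod 4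
  let g : Multiplicative A →* Multiplicative A := (e.toMonoidHom.comp τ.toMonoidHom).comp e.symm.toMonoidHom
  let f : A →ₗ[ZMod 4] A := AddMonoidHom.toZModLinearMap 4 (MonoidHom.toAdditive g)
  have hg : ∀ v, g (g v) = v⁻¹ := by
    intro v
    have := DFunLike.congr_fun h (e.symm v)
    simp only [MulEquiv.trans_apply, MulEquiv.inv_apply] at this
    simp [g, this]
  have hf : f.comp f = (-1 : ZMod 4) • LinearMap.id := by
    apply LinearMap.ext
    intro v
    have := congrArg Multiplicative.toAdd (hg (Multiplicative.ofAdd v))
    simp only [f, LinearMap.comp_apply, LinearMap.smul_apply, LinearMap.id_apply, neg_smul, one_smul]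
    exact this
  have hdet := congrArg LinearMap.det hf
  rw [LinearMap.det_comp, LinearMap.det_smul, LinearMap.det_id, mul_one] at hdet
  have hr : Module.finrank (ZMod 4) A = 3 := by
    show Module.finrank (ZMod 4) (ZMod 4 × ZMod 4 × ZMod 4) = 3
    rw [Module.finrank_prod, Module.finrank_prod, Module.finrank_self]
  rw [hr] at hdet
  revert hdet
  generalize LinearMap.det f = d
  revert d
  decide

end Cfsg.Agent.S3155
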