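import Cfsg.Statements.S3156
import Cfsg.Agent.Lie.SUThreeNoSThree
-- import your own Cfsg.Agent.* helpers here

set_option autoImplicit false
open Cfsg

namespace Cfsg.Agent.S3156

/-- If a finite group T is isomorphic to a Sylow 2-subgroup of the projective special unitary group of dimension 3 with parameter 4 (realised over the field with 16 elements), then no subgroup of the automorphism group of T is isomorphic to the symmetric group of degree 3. -/
theorem result {T : Type*} [Group T] [Finite T] (hT : (∃ (F : Type) (_ : Field F) (_ : Fintype F), Fintype.card F = 16 ∧ ∃ S : Sylow 2 (Cfsg.PSU 3 F 4), Nonempty (T ≃* ↥(S : Subgroup (Cfsg.PSU 3 F 4))))) (H : Subgroup (MulAut T)) : ¬ Nonempty (↥H ≃* Equiv.Perm (Fin 3)) := by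
  obtain ⟨F, _, _, hF, S, ⟨e₀⟩⟩ := hT
  rintro ⟨f⟩
  haveI : Fact (Nat.Prime 2) := ⟨Nat.prime_two⟩
  haveI : CharP F 2 := charP_of_card_eq_prime_pow (R := F) (p := 2) (f := 4) (by rw [hF]; norm_num)
  haveI : Fact (Fintype.card F = 4 ^ 2) := ⟨by rw [hF]; norm_num⟩
  obtain ⟨e₁⟩ := CfsgLib.Lie.SUThreeSylow.exists_iso (n := 2) le_rfl (by norm_num) S
  let Φ := (MulAut.congr (e₀.trans e₁)).toMonoidHom.comp (H.subtype.comp f.symm.toMonoidHom)
  have hΦ : Function.Injective Φ :=
    (MulAut.congr (e₀.trans e₁)).injective.comp (H.subtype_injective.comp f.symm.injective)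
  have k1 : (finRotate 3) ^ 3 = 1 := by decide +kernel
  have k2 : Equiv.swap (0 : Fin 3) 1 * Equiv.swap 0 1 = 1 := by decide +kernel
  have k3 : Equiv.swap (0 : Fin 3) 1 * finRotate 3 * Equiv.swap 0 1 = (finRotate 3)⁻¹ := by decide +kernel
  refine CfsgLib.Lie.SUThreeSylow.no_three_inverted rfl (Φ (finRotate 3)) (Φ (Equiv.swap 0 1)) ?_ ?_ ?_ ?_
  · rw [← map_pow, k1, map_one]
  · intro h
    exact (by decide +kernel : finRotate 3 ≠ 1) (hΦ (h.trans (map_one Φ).symm))
  · rw [← map_mul, k2, map_one]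
  · rw [← map_mul, ← map_mul, k3, map_inv]


end Cfsg.Agent.S3156
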