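import Cfsg.Statements.S3158
import Mathlib.Tactic
import Mathlib.GroupTheory.OrderOfElement
-- import your own Cfsg.Agent.* helpers here

set_option autoImplicit false
open Cfsg

namespace Cfsg.Agent.S3158

/-- Let U be a group of order q² with q = 2^n ≥ 2, and y an automorphism of U of order q − 1 all of whose nontrivial powers fix only the identity. Let V be a proper normal y-invariant subgroup of U such that V and U/V are elementary abelian 2-groups and there is an isomorphism from V to U/V commuting with the actions of y. Then U is abelian. -/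
theorem result {U : Type*} [Group U] [Finite U] (n : ℕ) (hn : 1 ≤ n) (hU : Nat.card U = (2 ^ n) ^ 2)
    (y : MulAut U) (hy : orderOf y = 2 ^ n - 1) (hfp : ∀ k : ℕ, y ^ k ≠ 1 → ∀ u : U, (y ^ k) u = u → u = 1)
    (V : Subgroup U) [V.Normal] (hV : V ≠ ⊤) (hyV : ∀ v ∈ V, y v ∈ V)
    (hVe : ∀ v ∈ V, v ^ 2 = 1) (hQe : ∀ u : U, u ^ 2 ∈ V) (hQc : ∀ u w : U, u * w * u⁻¹ * w⁻¹ ∈ V)
    (φ : ↥V ≃* U ⧸ V) (hφ : ∀ (v : ↥V) (u : U), (QuotientGroup.mk u : U ⧸ V) = φ v → φ ⟨y v, hyV v v.2⟩ = QuotientGroup.mk (y u)) :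
    IsMulCommutative U := by
  classical
  have hmem : ∀ (k : ℕ), ∀ v ∈ V, (y ^ k) v ∈ V := by
    intro k
    induction k with
    | zero => exact fun v hv => hv
    | succ k ih => exact fun v hv => by rw [pow_succ', MulAut.mul_apply]; exact hyV _ (ih v hv)
  have heq : ∀ (k : ℕ) (v : ↥V) (u : U), (QuotientGroup.mk u : U ⧸ V) = φ v →
      φ ⟨(y ^ k) v, hmem k v v.2⟩ = QuotientGroup.mk ((y ^ k) u) := by
    intro k
    induction k with
    | zero => exact fun v u h => h.symm
    | succ k ih =>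
      intro v u h
      have := hφ ⟨(y ^ k) v, hmem k v v.2⟩ ((y ^ k) u) (ih v u h).symm
      simp only [pow_succ', MulAut.mul_apply]
      exact this
  have hq : Nat.card V = 2 ^ n := by
    have h := V.card_eq_card_quotient_mul_card_subgroup
    rw [hU, ← Nat.card_congr φ.toEquiv, ← pow_two] at h
    exact (Nat.pow_left_injective (by norm_num) h).symm
  have hq2 : 2 ≤ 2 ^ n := Nat.le_self_pow (by omega) 2
  haveI := Fintype.ofFinite V
  have horb : ∀ v w : ↥V, v ≠ 1 → w ≠ 1 → ∃ j : ℕ, (y ^ j) (v : U) = w := by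
    intro v w hv hw
    let f : Fin (2 ^ n - 1) → {x : ↥V // x ≠ 1} := fun j =>
      ⟨⟨(y ^ (j : ℕ)) v, hmem _ v v.2⟩, fun e => hv (Subtype.ext ((map_eq_one_iff _ (y ^ (j : ℕ)).injective).1 (congrArg Subtype.val e)))⟩
    have hinj : Function.Injective f := by
      have key : ∀ i j : Fin (2 ^ n - 1), i < j → f i ≠ f j := by
        intro i j hij e
        have e' : (y ^ (i : ℕ)) (v : U) = (y ^ (j : ℕ)) v := congrArg (fun x => ((x.1 : ↥V) : U)) e
        rw [show (j : ℕ) = i + (j - i : ℕ) by omega, pow_add, MulAut.mul_apply] at e'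
        have h1 := (y ^ (i : ℕ)).injective e'
        by_cases h : y ^ ((j : ℕ) - i) = 1
        · have hd := Nat.le_of_dvd (Nat.sub_pos_of_lt hij) (orderOf_dvd_of_pow_eq_one h)
          rw [hy] at hd
          have := j.isLt
          omega
        · exact hv (Subtype.ext (hfp _ h _ h1.symm))
      intro i j e
      rcases lt_trichotomy i j with h | h | h
      · exact absurd e (key i j h)
      · exact h
      · exact absurd e.symm (key j i h)
    have hbij : Function.Bijective f := (Fintype.bijective_iff_injective_and_card _).2 ⟨hinj, by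
      rw [Fintype.card_fin, Fintype.card_subtype_compl, Fintype.card_subtype_eq, ← Nat.card_eq_fintype_card, hq]⟩
    obtain ⟨j, hj⟩ := hbij.2 ⟨w, hw⟩
    exact ⟨j, congrArg (fun x => ((x.1 : ↥V) : U)) hj⟩
  -- V is central
  haveI : Fact (Nat.Prime 2) := ⟨Nat.prime_two⟩
  have hUp : IsPGroup 2 U := IsPGroup.of_card (n := n * 2) (by rw [hU, pow_mul])
  obtain ⟨z, hzV, hzc, hz1⟩ : ∃ z : U, z ∈ V ∧ z ∈ Subgroup.center U ∧ z ≠ 1 := by
    have hVn : V ≠ ⊥ := fun e => by rw [e, Subgroup.card_bot] at hq; omega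
    have hconj := hUp.to_subgroup V
    let act : MulAction (ConjAct U) V := inferInstance
    have hpC : IsPGroup 2 (ConjAct U) := hUp.of_equiv ConjAct.toConjAct
    have hd : 2 ∣ Nat.card V := hq ▸ dvd_pow_self 2 (by omega)
    obtain ⟨b, hb, hb1⟩ := hpC.exists_fixed_point_of_prime_dvd_card_of_fixed_point V hd
      (a := 1) (by intro g; exact smul_one g)
    refine ⟨b, b.2, Subgroup.mem_center_iff.2 fun g => ?_, fun e => hb1 (Subtype.ext e).symm⟩
    have := congrArg Subtype.val (hb (ConjAct.toConjAct g))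
    rw [ConjAct.Subgroup.val_conj_smul, ConjAct.smul_def, ConjAct.ofConjAct_toConjAct] at this
    exact mul_inv_eq_iff_eq_mul.1 this
  have hVc : ∀ v ∈ V, v ∈ Subgroup.center U := by
    intro v hv
    by_cases hv1 : v = 1
    · rw [hv1]; exact one_mem _
    obtain ⟨j, hj⟩ := horb ⟨z, hzV⟩ ⟨v, hv⟩ (fun e => hz1 (congrArg Subtype.val e)) (fun e => hv1 (congrArg Subtype.val e))
    change (y ^ j) z = v at hj
    refine Subgroup.mem_center_iff.2 fun g => ?_
    rw [← hj, ← (y ^ j).apply_symm_apply g, ← map_mul, ← map_mul, Subgroup.mem_center_iff.1 hzc]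
  have hVV : ∀ v ∈ V, v * v = 1 := fun v hv => by rw [← pow_two]; exact hVe v hv
  have hsq : ∀ u : U, ∀ v ∈ V, (u * v) * (u * v) = u * u := fun u v hv => by
    calc u * v * (u * v) = u * (v * u) * v := by group
      _ = u * (u * v) * v := by rw [← Subgroup.mem_center_iff.1 (hVc v hv) u]
      _ = u * u * (v * v) := by group
      _ = u * u := by rw [hVV v hv, mul_one]
  obtain ⟨u₀, hu₀⟩ : ∃ u, u ∉ V := by
    by_contra h
    push Not at h
    exact hV (eq_top_iff.2 fun u _ => h u)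
  set v₀ := φ.symm (QuotientGroup.mk u₀) with hv₀
  have hv₀1 : v₀ ≠ 1 := fun e => hu₀ ((QuotientGroup.eq_one_iff u₀).1 (by
    rw [← φ.apply_symm_apply (QuotientGroup.mk u₀), ← hv₀, e, map_one]))
  have hpre : ∀ u : U, u ∉ V → ∃ j : ℕ, φ.symm (QuotientGroup.mk u) = ⟨(y ^ j) v₀, hmem j v₀ v₀.2⟩ ∧
      u * u = (y ^ j) (u₀ * u₀) := by
    intro u hu
    have hne : φ.symm (QuotientGroup.mk u) ≠ 1 := fun e => hu ((QuotientGroup.eq_one_iff u).1 (by
      rw [← φ.apply_symm_apply (QuotientGroup.mk u), e, map_one]))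
    obtain ⟨j, hj⟩ := horb v₀ _ hv₀1 hne
    refine ⟨j, Subtype.ext hj.symm, ?_⟩
    have h1 := heq j v₀ u₀ (by rw [hv₀, MulEquiv.apply_symm_apply])
    rw [show (⟨(y ^ j) v₀, hmem j v₀ v₀.2⟩ : ↥V) = φ.symm (QuotientGroup.mk u) from Subtype.ext hj,
      MulEquiv.apply_symm_apply, QuotientGroup.eq] at h1
    have h2 := hsq u _ h1
    rw [mul_inv_cancel_left] at h2
    rw [map_mul, h2]
  obtain ⟨g, hg, hgs⟩ : ∃ g : U → U, (∀ a b, g (a * b) = g a * g b) ∧ ∀ u, u * u = g u := by
    by_cases hs : u₀ * u₀ = 1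
    · refine ⟨fun _ => 1, fun _ _ => (one_mul 1).symm, fun u => ?_⟩
      by_cases hu : u ∈ V
      · exact hVV u hu
      · obtain ⟨j, -, hj⟩ := hpre u hu
        rw [hj, hs, map_one]
    · have hm : u₀ * u₀ ∈ V := by rw [← pow_two]; exact hQe u₀
      obtain ⟨k, hk⟩ := horb v₀ ⟨u₀ * u₀, hm⟩ hv₀1 (fun e => hs (congrArg Subtype.val e))
      refine ⟨fun u => (y ^ k) ((φ.symm (QuotientGroup.mk u) : ↥V) : U), fun a b => by
        simp [QuotientGroup.mk_mul], fun u => ?_⟩
      beta_reduce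
      by_cases hu : u ∈ V
      · rw [hVV u hu, (QuotientGroup.eq_one_iff u).2 hu]
        simp
      · obtain ⟨j, hj1, hj2⟩ := hpre u hu
        change (y ^ k) (v₀ : U) = u₀ * u₀ at hk
        rw [hj2, hj1, ← hk, ← MulAut.mul_apply, ← MulAut.mul_apply, ← pow_add, ← pow_add, add_comm]
  refine ⟨⟨fun a b => ?_⟩⟩
  have e := hgs (a * b)
  rw [hg, ← hgs, ← hgs] at e
  rw [mul_assoc a b, mul_assoc a a] at e
  have e2 := mul_left_cancel e
  rw [← mul_assoc, ← mul_assoc] at e2
  exact (mul_right_cancel e2).symm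

end Cfsg.Agent.S3158
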