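import Cfsg.Statements.S3163
import Mathlib

set_option autoImplicit false
open Cfsg

namespace Cfsg.Agent.S3163

/-- Let S be a non-abelian finite 2-group which is the product S = AB of two elementary abelian subgroups A and B, and suppose that the centralizer in S of every element of A outside B is exactly A. Then the centralizer of every element of B outside A is exactly B; A and B are maximal elementary abelian subgroups of S and the only ones; the centre of S is A ∩ B; and every element of S outside A ∪ B has centralizer of order at most min(|A|, |B|). -/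
theorem result {S : Type*} [Group S] [Finite S] (hS : IsPGroup 2 S) (hna : ¬ IsMulCommutative S) (A B : Subgroup S)
    (hA : Cfsg.IsElementaryAbelian 2 A) (hB : Cfsg.IsElementaryAbelian 2 B) (hAB : ∀ s : S, ∃ a ∈ A, ∃ b ∈ B, s = a * b)
    (hC : ∀ a ∈ A, a ∉ B → Subgroup.centralizer ({a} : Set S) = A) :
    (∀ b ∈ B, b ∉ A → Subgroup.centralizer ({b} : Set S) = B) ∧
      (∀ E : Subgroup S, Cfsg.IsElementaryAbelian 2 E → (∀ E' : Subgroup S, Cfsg.IsElementaryAbelian 2 E' → E ≤ E' → E' = E) → E = A ∨ E = B) ∧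
      (∀ E' : Subgroup S, Cfsg.IsElementaryAbelian 2 E' → A ≤ E' → E' = A) ∧ (∀ E' : Subgroup S, Cfsg.IsElementaryAbelian 2 E' → B ≤ E' → E' = B) ∧
      Subgroup.center S = A ⊓ B ∧
      (∀ x : S, x ∉ A → x ∉ B → Nat.card ↥(Subgroup.centralizer ({x} : Set S)) ≤ min (Nat.card ↥A) (Nat.card ↥B)) := by
  have hAc : ∀ a ∈ A, ∀ a' ∈ A, a * a' = a' * a := fun a ha a' ha' =>
    congrArg Subtype.val (hA.1.is_comm.comm ⟨a, ha⟩ ⟨a', ha'⟩)
  have hBc : ∀ a ∈ B, ∀ a' ∈ B, a * a' = a' * a := fun a ha a' ha' =>
    congrArg Subtype.val (hB.1.is_comm.comm ⟨a, ha⟩ ⟨a', ha'⟩)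
  have hcomm : (∀ a ∈ A, a ∈ B) → False := fun h => hna ⟨⟨fun s t => by
    obtain ⟨a, ha, b, hb, rfl⟩ := hAB s
    obtain ⟨a', ha', b', hb', rfl⟩ := hAB t
    exact hBc _ (mul_mem (h a ha) hb) _ (mul_mem (h a' ha') hb')⟩⟩
  obtain ⟨a0, ha0, ha0B⟩ : ∃ a ∈ A, a ∉ B := by
    by_contra h
    push Not at h
    exact hcomm h
  have hBnA : ¬ B ≤ A := fun h => hna ⟨⟨fun s t => by
    obtain ⟨a, ha, b, hb, rfl⟩ := hAB s
    obtain ⟨a', ha', b', hb', rfl⟩ := hAB t
    exact hAc _ (mul_mem ha (h hb)) _ (mul_mem ha' (h hb'))⟩⟩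
  -- commuting elements
  have key : ∀ a ∈ A, ∀ b ∈ B, a * b = b * a → a ∈ B ∨ b ∈ A := by
    intro a ha b hb h
    by_cases haB : a ∈ B
    · exact Or.inl haB
    · right
      rw [← hC a ha haB, Subgroup.mem_centralizer_singleton_iff]
      exact h.symm
  have hZ : Subgroup.center S = A ⊓ B := by
    apply le_antisymm
    · intro z hz
      rw [Subgroup.mem_center_iff] at hz
      have hzA : z ∈ A := by
        rw [← hC a0 ha0 ha0B, Subgroup.mem_centralizer_singleton_iff]
        exact (hz a0).symm
      refine ⟨hzA, ?_⟩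
      by_contra hzB
      have := hC z hzA hzB
      apply hBnA
      intro b _
      rw [← this, Subgroup.mem_centralizer_singleton_iff]
      exact hz b
    · rintro z ⟨hzA, hzB⟩
      rw [Subgroup.mem_center_iff]
      intro s
      obtain ⟨a, ha, b, hb, rfl⟩ := hAB s
      rw [mul_assoc, hBc b hb z hzB, ← mul_assoc, hAc a ha z hzA, mul_assoc]
  have hinv : ∀ x : S, x ^ 2 = 1 → x ∈ A ∨ x ∈ B := by
    intro x hx
    obtain ⟨a, ha, b, hb, rfl⟩ := hAB x
    have ha2 := hA.2 a ha
    have hb2 := hB.2 b hb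
    rw [sq] at ha2 hb2 hx
    have h : a * b = b * a := by
      calc a * b = a * ((a * b) * (a * b)) * b := by rw [hx, mul_one]
        _ = (a * a) * b * a * (b * b) := by group
        _ = b * a := by rw [ha2, hb2, one_mul, mul_one]
    rcases key a ha b hb h with h1 | h1
    · exact Or.inr (mul_mem h1 hb)
    · exact Or.inl (mul_mem ha h1)
  have hsub : ∀ E : Subgroup S, Cfsg.IsElementaryAbelian 2 E → E ≤ A ∨ E ≤ B := by
    intro E hE
    by_contra h
    simp only [not_or, SetLike.not_le_iff_exists] at h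
    obtain ⟨⟨u, hu, huA⟩, ⟨v, hv, hvB⟩⟩ := h
    have huB := (hinv u (hE.2 u hu)).resolve_left huA
    have hvA := (hinv v (hE.2 v hv)).resolve_right hvB
    rcases hinv (u * v) (hE.2 _ (mul_mem hu hv)) with h1 | h1
    · exact huA (by simpa using mul_mem h1 (inv_mem hvA))
    · exact hvB (by simpa using mul_mem (inv_mem huB) h1)
  refine ⟨fun b hb hbA => ?_, fun E hE hmax => ?_, fun E' hE' hle => ?_, fun E' hE' hle => ?_, hZ, fun x hxA hxB => ?_⟩
  · apply le_antisymm
    · intro x hx
      rw [Subgroup.mem_centralizer_singleton_iff] at hx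
      obtain ⟨a, ha, b', hb', rfl⟩ := hAB x
      have h : a * b = b * a := by
        have h2 : a * b * b' = b * a * b' := by
          rw [mul_assoc a b b', hBc b hb b' hb', ← mul_assoc, hx, mul_assoc]
        exact mul_right_cancel h2
      exact mul_mem ((key a ha b hb h).resolve_right hbA) hb'
    · intro x hx
      rw [Subgroup.mem_centralizer_singleton_iff]
      exact hBc x hx b hb
  · rcases hsub E hE with h | h
    · exact Or.inl (hmax A hA h).symm
    · exact Or.inr (hmax B hB h).symm
  · rcases hsub E' hE' with h | h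
    · exact le_antisymm h hle
    · exact absurd (fun a ha => h (hle ha)) (fun h => hcomm h)
  · rcases hsub E' hE' with h | h
    · exact absurd (hle.trans h) hBnA
    · exact le_antisymm h hle
  · obtain ⟨a, ha, b, hb, rfl⟩ := hAB x
    have haB : a ∉ B := fun h => hxB (mul_mem h hb)
    have hbA : b ∉ A := fun h => hxA (mul_mem ha h)
    set C := Subgroup.centralizer ({a * b} : Set S) with hCdef
    have hCB : ∀ c ∈ C, c ∈ B → c ∈ A := by
      intro c hc hcB
      rw [hCdef, Subgroup.mem_centralizer_singleton_iff] at hc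
      have h : c * a = a * c := by
        have h2 : c * a * b = a * c * b := by
          rw [mul_assoc c a b, hc, mul_assoc, hBc b hb c hcB, ← mul_assoc]
        exact mul_right_cancel h2
      rw [← hC a ha haB, Subgroup.mem_centralizer_singleton_iff]
      exact h
    have hCA : ∀ c ∈ C, c ∈ A → c ∈ B := by
      intro c hc hcA
      rw [hCdef, Subgroup.mem_centralizer_singleton_iff] at hc
      have h : c * b = b * c := by
        have h2 : a * (c * b) = a * (b * c) := by
          rw [← mul_assoc, hAc a ha c hcA, mul_assoc, hc, mul_assoc]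
        exact mul_left_cancel h2
      exact (key c hcA b hb h).resolve_right hbA
    have hcard : ∀ H K : Subgroup S, Nat.card ↥(H ⊓ K) * H.relIndex K = Nat.card K := by
      intro H K
      have := Subgroup.relIndex_mul_relIndex ⊥ (H ⊓ K) K bot_le inf_le_right
      rwa [Subgroup.relIndex_bot_left, Subgroup.relIndex_bot_left, Subgroup.inf_relIndex_right] at this
    have hidx : ∀ H K : Subgroup S, (∀ s : S, ∃ k ∈ K, k⁻¹ * s ∈ H) → H.index ≤ H.relIndex K := by
      intro H K h
      refine Nat.card_le_card_of_surjective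
        (Quotient.map' (Subtype.val : K → S) fun x y hxy => ?_) ?_
      · rw [QuotientGroup.leftRel_apply] at hxy ⊢
        exact hxy
      · intro q
        induction q using QuotientGroup.induction_on with
        | H s =>
          obtain ⟨k, hk, hkh⟩ := h s
          exact ⟨QuotientGroup.mk ⟨k, hk⟩, QuotientGroup.eq.mpr hkh⟩
    have hbound : ∀ H K : Subgroup S, (∀ s : S, ∃ k ∈ K, k⁻¹ * s ∈ H) → H ⊓ C ≤ H ⊓ K →
        Nat.card C ≤ Nat.card K := by
      intro H K h hle
      rw [← hcard H C, ← hcard H K]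
      exact Nat.mul_le_mul (Nat.card_le_card_of_injective _ (Subgroup.inclusion_injective hle))
        (((Subgroup.relIndex_le_of_le_right (le_top : C ≤ ⊤)
          (by rw [Subgroup.relIndex_top_right]; exact Subgroup.index_ne_zero_of_finite)).trans
          (Subgroup.relIndex_top_right H).le).trans (hidx H K h))
    refine le_min (hbound B A ?_ fun c hc => ⟨hc.1, hCB c hc.2 hc.1⟩)
      (hbound A B ?_ fun c hc => ⟨hc.1, hCA c hc.2 hc.1⟩)
    · intro s
      obtain ⟨u, hu, v, hv, rfl⟩ := hAB s
      exact ⟨u, hu, by rwa [inv_mul_cancel_left]⟩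
    · intro s
      obtain ⟨u, hu, v, hv, hs⟩ := hAB s⁻¹
      refine ⟨v⁻¹, inv_mem hv, ?_⟩
      have : v⁻¹⁻¹ * s = u⁻¹ := by
        rw [inv_inv, ← inv_inv s, hs, mul_inv_rev, mul_inv_cancel_left]
      rw [this]; exact inv_mem hu

end Cfsg.Agent.S3163
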