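import Cfsg.Statements.S3166
import Mathlib


set_option autoImplicit false
open Cfsg

namespace Cfsg.Agent.S3166

/-- Let q = 2^n with n ≥ 1. If q⁴ − q³ + q² − q + 1 is a power p^m of a prime p, then m = 1: the value is never a prime power with exponent greater than 1. -/
theorem result (n p m : ℕ) (hn : 1 ≤ n) (hp : p.Prime) (h : (2 ^ n) ^ 4 - (2 ^ n) ^ 3 + (2 ^ n) ^ 2 - 2 ^ n + 1 = p ^ m) : m = 1 := by
  obtain ⟨q, hq⟩ : ∃ q, q = 2 ^ n := ⟨_, rfl⟩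
  rw [← hq] at h
  have hq2 : 2 ≤ q := by
    rw [hq]; exact Nat.le_self_pow (by omega) 2
  have hf : (p : ℤ) ^ m = (q : ℤ) ^ 4 - (q : ℤ) ^ 3 + (q : ℤ) ^ 2 - q + 1 := by
    have h43 : q ^ 3 ≤ q ^ 4 := Nat.pow_le_pow_right (by omega) (by norm_num)
    have h21 : q ≤ q ^ 4 - q ^ 3 + q ^ 2 := le_trans (Nat.le_self_pow (by norm_num) q) (Nat.le_add_left _ _)
    have := congrArg (fun k : ℕ => (k : ℤ)) h
    push_cast [Nat.cast_sub h43, Nat.cast_sub h21] at this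
    linarith
  have hqZ : (2 : ℤ) ≤ q := by exact_mod_cast hq2
  -- m is odd
  have hodd : Odd m := by
    rcases Nat.even_or_odd m with ⟨k, hk⟩ | ho
    · exfalso
      set a : ℤ := 2 * (p : ℤ) ^ k with ha
      have hsq : a ^ 2 = 4 * ((q : ℤ) ^ 4 - (q : ℤ) ^ 3 + (q : ℤ) ^ 2 - q + 1) := by
        rw [ha, ← hf, hk, pow_add]; ring
      have ha0 : 0 ≤ a := by positivity
      set b : ℤ := 2 * (q : ℤ) ^ 2 - q with hb
      have hb0 : 0 ≤ b := by nlinarith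
      have e1 : b ^ 2 < a ^ 2 := by rw [hsq, hb]; nlinarith
      have e2 : a ^ 2 < (b + 1) ^ 2 := by rw [hsq, hb]; nlinarith
      nlinarith [sq_lt_sq.mp e1, sq_lt_sq.mp e2, abs_of_nonneg ha0, abs_of_nonneg hb0,
        abs_of_nonneg (by linarith : (0:ℤ) ≤ b + 1)]
    · exact ho
  have hpodd : Odd p := by
    rcases hp.eq_two_or_odd' with rfl | ho
    · exfalso
      have h2 : (2 : ℤ) ∣ (q : ℤ) := by
        have : (2 : ℕ) ∣ q := by rw [hq]; exact dvd_pow_self 2 (by omega)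
        exact_mod_cast this
      have h2m : (2 : ℤ) ∣ (2 : ℤ) ^ m := dvd_pow_self 2 (by obtain ⟨k, hk⟩ := hodd; omega)
      push_cast at hf
      rw [hf] at h2m
      obtain ⟨c, hc⟩ := h2
      obtain ⟨d, hd⟩ := h2m
      rw [hc] at hd
      have : (1 : ℤ) = 2 * (d - 8 * c ^ 4 + 4 * c ^ 3 - 2 * c ^ 2 + c) := by linarith [hd]
      omega
    · exact ho
  -- q divides p - 1
  have hgeom : ((p : ℤ) - 1) * ∑ i ∈ Finset.range m, (p : ℤ) ^ i = (p : ℤ) ^ m - 1 := by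
    rw [mul_comm, geom_sum_mul]
  have hsodd : Odd (∑ i ∈ Finset.range m, p ^ i) := by
    rw [Finset.odd_sum_iff_odd_card_odd]
    rw [Finset.filter_true_of_mem (fun i _ => hpodd.pow), Finset.card_range]
    exact hodd
  have hdvd : q ∣ p - 1 := by
    have hZ : (q : ℤ) ∣ ((p - 1 : ℕ) : ℤ) * ((∑ i ∈ Finset.range m, p ^ i : ℕ) : ℤ) := by
      rw [Nat.cast_sub hp.one_le]
      push_cast
      rw [hgeom, hf]
      exact ⟨(q : ℤ) ^ 3 - (q : ℤ) ^ 2 + q - 1, by ring⟩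
    have hN : q ∣ (p - 1) * ∑ i ∈ Finset.range m, p ^ i := by exact_mod_cast hZ
    refine (Nat.Coprime.dvd_of_dvd_mul_right ?_ hN)
    rw [hq]
    exact Nat.Coprime.pow_left _ ((Nat.coprime_two_left).mpr hsodd)
  obtain ⟨k, hk⟩ := hdvd
  have hk0 : 1 ≤ k := by
    rcases Nat.eq_zero_or_pos k with rfl | h0
    · have := hp.two_le; omega
    · exact h0
  have hpq : (p : ℤ) = q * k + 1 := by
    have : p = q * k + 1 := by have := hp.one_le; omega
    exact_mod_cast this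
  have hkZ : (1 : ℤ) ≤ k := by exact_mod_cast hk0
  have hlt : (p : ℤ) ^ m < (q : ℤ) ^ 4 := by rw [hf]; nlinarith
  have hm : m ≤ 3 := by
    by_contra hc
    have : (q : ℤ) ^ 4 ≤ (p : ℤ) ^ m :=
      le_trans (pow_le_pow_left₀ (by linarith) (by nlinarith) 4) (pow_le_pow_right₀ (by nlinarith) (by omega))
    linarith
  obtain ⟨j, hj⟩ := hodd
  rcases (by omega : j = 0 ∨ j = 1) with rfl | rfl
  · simpa using hj
  exfalso
  have hm3 : m = 3 := by omega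
  subst hm3
  have hmain : (k : ℤ) * ((q : ℤ) ^ 2 * k ^ 2 + 3 * q * k + 3) = (q : ℤ) ^ 3 - (q : ℤ) ^ 2 + q - 1 := by
    have : (q : ℤ) * ((k : ℤ) * ((q : ℤ) ^ 2 * k ^ 2 + 3 * q * k + 3))
        = q * ((q : ℤ) ^ 3 - (q : ℤ) ^ 2 + q - 1) := by
      rw [hpq] at hf; linarith [hf]
    exact mul_left_cancel₀ (by linarith) this
  have hdiv : (q : ℤ) ∣ 3 * (k : ℤ) + 1 :=
    ⟨(q : ℤ) ^ 2 - q + 1 - q * k ^ 3 - 3 * k ^ 2, by linarith [hmain]⟩
  have hle : (q : ℤ) ≤ 3 * (k : ℤ) + 1 := Int.le_of_dvd (by linarith) hdiv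
  have hk3 : (k : ℤ) ^ 3 < q := by
    by_contra hc
    nlinarith [mul_le_mul_of_nonneg_left (not_lt.mp hc) (sq_nonneg (q : ℤ))]
  have hk1 : k = 1 := by
    by_contra hc
    have : (2 : ℤ) ≤ k := by exact_mod_cast (by omega : 2 ≤ k)
    nlinarith [mul_le_mul_of_nonneg_right (show (4 : ℤ) ≤ (k : ℤ) ^ 2 by nlinarith) (by linarith : (0:ℤ) ≤ k)]
  subst hk1
  have : q ∣ 4 := by exact_mod_cast (by simpa using hdiv : (q : ℤ) ∣ 4)
  have h4 := Nat.le_of_dvd (by norm_num) this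
  interval_cases q <;> norm_num at hmain

end Cfsg.Agent.S3166
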