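import Cfsg.Statements.S3178
import Cfsg.Agent.S0071
-- import your own Cfsg.Agent.* helpers here

set_option autoImplicit false
open Cfsg

namespace Cfsg.Agent.S3178

variable {G : Type*} [Group G]

theorem iter_fix {g x : G} {m : ℕ} (hm : g ^ m = 1) (hodd : Odd m)
    (h : g ^ 4 * x * (g ^ 4)⁻¹ = x) : g * x * g⁻¹ = x := by
  have hc : Commute (g ^ 4) x := mul_inv_eq_iff_eq_mul.mp h
  have hcop : Nat.Coprime 4 m := by
    have h2 : Nat.Coprime 2 m := Nat.coprime_two_left.mpr hodd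
    exact (h2.mul_left h2 : Nat.Coprime (2 * 2) m)
  have hcg : Commute g x := by
    have hbez := Nat.gcd_eq_gcd_ab 4 m
    rw [hcop.gcd_eq_one] at hbez
    have : g = (g ^ 4) ^ (Nat.gcdA 4 m) := by
      conv_lhs => rw [← zpow_one g]
      rw [show (1 : ℤ) = (4 : ℕ) * Nat.gcdA 4 m + m * Nat.gcdB 4 m by rw [← hbez]; rfl, zpow_add,
        zpow_mul, zpow_mul, zpow_natCast g m, hm, one_zpow, mul_one, zpow_natCast]
    rw [this]
    exact hc.zpow_left _
  rw [hcg.eq, mul_inv_cancel_right]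

end Cfsg.Agent.S3178

namespace Cfsg.Agent.S3178

/-- Groups with a modular Sylow 2-subgroup have a normal 2-complement. Let S, of order 2^(n+1) with n ≥ 3, be a Sylow 2-subgroup of a finite group G, and suppose S contains an element a of order 2^n and an involution b with b a b⁻¹ = a^(2^(n-1) + 1); so S is the non-abelian 2-group with a cyclic subgroup of index 2 that is neither dihedral, semidihedral nor generalized quaternion. Then G has a normal 2-complement. -/
theorem result {G : Type*} [Group G] [Finite G]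
    (S : Sylow 2 G) (n : ℕ) (hn : 3 ≤ n) (hS : Nat.card ↥(S : Subgroup G) = 2 ^ (n + 1))
    (a b : G) (ha : a ∈ (S : Subgroup G)) (hb : b ∈ (S : Subgroup G))
    (hao : orderOf a = 2 ^ n) (hbo : orderOf b = 2) (hrel : b * a * b⁻¹ = a ^ (2 ^ (n - 1) + 1)) :
    Cfsg.HasNormalPComplement 2 G := by
  classical
  haveI : Fact (Nat.Prime 2) := ⟨Nat.prime_two⟩
  obtain ⟨k, rfl⟩ : ∃ k, n = k + 3 := ⟨n - 3, by omega⟩
  rw [show k + 3 - 1 = k + 2 by omega] at hrel
  have hb2 : b * b = 1 := by rw [← sq, ← hbo, pow_orderOf_eq_one]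
  have hbinv : b⁻¹ = b := inv_eq_of_mul_eq_one_right hb2
  set z := a ^ (2 ^ (k + 2)) with hz
  have haN : a ^ (2 ^ (k + 3)) = 1 := by rw [← hao, pow_orderOf_eq_one]
  have hz2 : z * z = 1 := by rw [hz, ← pow_add, ← two_mul, ← pow_succ', haN]
  have hz1 : z ≠ 1 := by
    intro h
    have := orderOf_dvd_of_pow_eq_one h
    rw [hao] at this
    have := (Nat.pow_dvd_pow_iff_le_right (by norm_num : 1 < 2)).mp this
    omega
  have hbconj : ∀ i : ℤ, b * a ^ i * b = a ^ (i * (2 ^ (k + 2) + 1)) := by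
    intro i
    nth_rewrite 2 [← hbinv]
    rw [← conj_zpow, hrel, ← zpow_natCast, ← zpow_mul]
    congr 1; push_cast; ring
  have hbA : b ∉ Subgroup.zpowers a := by
    intro h
    obtain ⟨i, hi⟩ := Subgroup.mem_zpowers_iff.mp h
    apply hz1
    have h1 : b * a * b⁻¹ = a := by
      rw [← hi, (Commute.zpow_left (Commute.refl a) i).eq, mul_inv_cancel_right]
    rw [hrel, pow_succ] at h1
    exact mul_eq_right.mp h1
  -- description of the elements of S
  have hAS : Subgroup.zpowers a ≤ (S : Subgroup G) := Subgroup.zpowers_le.mpr ha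
  have hidx : ((Subgroup.zpowers a).subgroupOf (S : Subgroup G)).index = 2 := by
    have h1 := Subgroup.card_mul_index ((Subgroup.zpowers a).subgroupOf (S : Subgroup G))
    rw [Nat.card_congr (Subgroup.subgroupOfEquivOfLe hAS).toEquiv, Nat.card_zpowers, hao, hS,
      pow_succ] at h1
    exact Nat.eq_of_mul_eq_mul_left (by positivity) h1
  have hmem : ∀ x ∈ (S : Subgroup G), ∃ i : ℤ, x = a ^ i ∨ x = a ^ i * b := by
    intro x hx
    by_cases hxA : x ∈ Subgroup.zpowers a
    · obtain ⟨i, hi⟩ := Subgroup.mem_zpowers_iff.mp hxA; exact ⟨i, Or.inl hi.symm⟩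
    · have := (Subgroup.mul_mem_iff_of_index_two hidx (a := ⟨x, hx⟩) (b := ⟨b, hb⟩)).mpr
        (by simp [Subgroup.mem_subgroupOf, hxA, hbA])
      obtain ⟨i, hi⟩ := Subgroup.mem_zpowers_iff.mp (Subgroup.mem_subgroupOf.mp this)
      refine ⟨i, Or.inr ?_⟩
      have hi' : a ^ i = x * b := hi
      rw [hi', mul_assoc, hb2, mul_one]
  have hsqb : ∀ i : ℤ, a ^ i * b * (a ^ i * b) = a ^ (i * (2 ^ (k + 2) + 2)) := by
    intro i
    rw [show a ^ i * b * (a ^ i * b) = a ^ i * (b * a ^ i * b) by simp [mul_assoc], hbconj,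
      ← zpow_add]
    congr 1; ring
  have hdvd : ∀ j : ℤ, a ^ j = 1 → (2 : ℤ) ^ (k + 3) ∣ j := by
    intro j hj
    have := orderOf_dvd_iff_zpow_eq_one.mpr hj
    rw [hao] at this
    exact_mod_cast this
  have hsqA : ∀ j : ℤ, a ^ j * a ^ j = 1 → a ^ j = 1 ∨ a ^ j = z := by
    intro j hj
    rw [← zpow_add] at hj
    obtain ⟨c, hc⟩ := hdvd _ hj
    have hj2 : j = 2 ^ (k + 2) * c := by
      rw [pow_succ] at hc; linarith
    have : a ^ j = z ^ c := by
      rw [hj2, zpow_mul, hz]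
      congr 1
      rw [← zpow_natCast]; norm_num
    rcases Int.even_or_odd c with ⟨d, hd⟩ | ⟨d, hd⟩
    · left; rw [this, hd, zpow_add, ← (Commute.refl z).mul_zpow, hz2, one_zpow]
    · right
      rw [this, hd, zpow_add, zpow_mul, zpow_two, hz2, one_zpow, one_mul, zpow_one]
  have hinvsq : ∀ x ∈ (S : Subgroup G), x * x * (x * x) = 1 → x * x = 1 ∨ x * x = z := by
    intro x hx hxx
    obtain ⟨i, rfl | rfl⟩ := hmem x hx
    · rw [← zpow_add] at hxx ⊢; exact hsqA _ hxx
    · rw [hsqb] at hxx ⊢; exact hsqA _ hxx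
  -- at most two pairs {x, xz} with a given square
  have hpairA : ∀ i j : ℤ, a ^ i * a ^ i = a ^ j * a ^ j → a ^ j = a ^ i ∨ a ^ j = a ^ i * z := by
    intro i j h
    have h2 : a ^ (j - i) * a ^ (j - i) = 1 := by
      rw [← zpow_add]
      rw [← zpow_add, ← zpow_add] at h
      rw [show j - i + (j - i) = (j + j) - (i + i) by ring, zpow_sub, h, mul_inv_cancel]
    rcases hsqA _ h2 with h3 | h3 <;> rw [zpow_sub, mul_inv_eq_iff_eq_mul] at h3
    · left; rw [h3, one_mul]
    · right; rw [h3, hz, ← zpow_natCast, ← zpow_add, ← zpow_add, add_comm]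
  have hzcomm : ∀ x ∈ (S : Subgroup G), z * x = x * z := by
    intro x hx
    have hzb : z * b = b * z := by
      have : b * z * b = z := by
        rw [hz, ← zpow_natCast, hbconj, mul_add, mul_one, zpow_add]
        rw [show ((2 ^ (k + 2) : ℕ) : ℤ) * 2 ^ (k + 2) = ((2 : ℕ) ^ (k + 3) : ℕ) * 2 ^ (k + 1) by
          push_cast; ring, zpow_mul, zpow_natCast, haN, one_zpow, one_mul]
      calc z * b = b * z * b * b := by rw [this]
        _ = b * z := by rw [mul_assoc (b * z), hb2, mul_one]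
    obtain ⟨i, rfl | rfl⟩ := hmem x hx
    · exact (Commute.self_pow a _).symm.zpow_right i |>.eq
    · exact ((Commute.self_pow a _).symm.zpow_right i |>.mul_right hzb).eq
  have hpairB : ∀ i j : ℤ, (a ^ i * b) * (a ^ i * b) = (a ^ j * b) * (a ^ j * b) →
      a ^ j * b = a ^ i * b ∨ a ^ j * b = a ^ i * b * z := by
    intro i j h
    rw [hsqb, hsqb] at h
    have h1 : a ^ ((j - i) * (2 ^ (k + 2) + 2)) = 1 := by
      rw [sub_mul, zpow_sub, ← h, mul_inv_cancel]
    obtain ⟨c, hc⟩ := hdvd _ h1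
    obtain ⟨d, hd⟩ : (2 : ℤ) ^ (k + 2) ∣ j - i := by
      have hco : IsCoprime ((2 : ℤ) ^ (k + 2)) (2 ^ (k + 1) + 1) :=
        (IsCoprime.pow_left ⟨-(2 ^ k), 1, by ring⟩)
      refine hco.dvd_of_dvd_mul_right ⟨c, ?_⟩
      have : (2 : ℤ) * ((j - i) * (2 ^ (k + 1) + 1)) = 2 * (2 ^ (k + 2) * c) := by
        calc (2 : ℤ) * ((j - i) * (2 ^ (k + 1) + 1)) = (j - i) * (2 ^ (k + 2) + 2) := by ring
          _ = 2 ^ (k + 3) * c := hc
          _ = 2 * (2 ^ (k + 2) * c) := by ring
      linarith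
    have h2 : a ^ (j - i) * a ^ (j - i) = 1 := by
      rw [← zpow_add, hd, show (2 : ℤ) ^ (k + 2) * d + 2 ^ (k + 2) * d = ((2 : ℕ) ^ (k + 3) : ℕ) * d by
        push_cast; ring, zpow_mul, zpow_natCast, haN, one_zpow]
    rcases hsqA _ h2 with h3 | h3 <;> rw [zpow_sub, mul_inv_eq_iff_eq_mul] at h3
    · left; rw [h3, one_mul]
    · right
      rw [h3, mul_assoc, hzcomm (a ^ i * b) (mul_mem (zpow_mem ha i) hb)]
  have hfibre : ∀ x1 ∈ (S : Subgroup G), ∀ x2 ∈ (S : Subgroup G), ∀ x3 ∈ (S : Subgroup G),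
      x1 * x1 = x2 * x2 → x2 * x2 = x3 * x3 →
      (x2 = x1 ∨ x2 = x1 * z) ∨ (x3 = x1 ∨ x3 = x1 * z) ∨ (x3 = x2 ∨ x3 = x2 * z) := by
    intro x1 h1 x2 h2 x3 h3 e12 e23
    obtain ⟨i1, r1 | r1⟩ := hmem x1 h1 <;> obtain ⟨i2, r2 | r2⟩ := hmem x2 h2 <;>
      obtain ⟨i3, r3 | r3⟩ := hmem x3 h3 <;> subst r1 r2 r3 <;>
      first
        | exact Or.inl (hpairA _ _ e12)
        | exact Or.inl (hpairB _ _ e12)
        | exact Or.inr (Or.inr (hpairA _ _ e23))
        | exact Or.inr (Or.inr (hpairB _ _ e23))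
        | exact Or.inr (Or.inl (hpairA _ _ (e12.trans e23)))
        | exact Or.inr (Or.inl (hpairB _ _ (e12.trans e23)))
  -- automorphisms of odd order of subgroups with an element of order at least four
  have fix : ∀ Q : Subgroup G, Q ≤ (S : Subgroup G) → (∃ x ∈ Q, x * x ≠ 1) →
      ∀ g ∈ Subgroup.normalizer (Q : Set G), Odd (orderOf g) → ∀ x ∈ Q, g * x * g⁻¹ = x := by
    intro Q hQS hQ4 g hg hgodd
    obtain ⟨x0, hx0, hx04⟩ := hQ4
    have hgQ : ∀ x ∈ Q, g * x * g⁻¹ ∈ Q := fun x hx => (Subgroup.mem_normalizer_iff.mp hg x).mp hx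
    have hgm : g ^ orderOf g = 1 := pow_orderOf_eq_one g
    obtain ⟨y, hy, hyz⟩ : ∃ y ∈ Q, y * y = z := by
      obtain ⟨j, hj⟩ := S.isPGroup' ⟨x0, hQS hx0⟩
      have hj' : x0 ^ (2 ^ j) = 1 := congrArg Subtype.val hj
      have hex : ∃ m, x0 ^ (2 ^ m) = 1 := ⟨j, hj'⟩
      set m := Nat.find hex with hm
      have hms := Nat.find_spec hex
      have hm2 : 2 ≤ m := by
        by_contra hlt
        apply hx04
        rcases (by omega : m = 0 ∨ m = 1) with h | h <;> rw [← hm, h] at hms <;>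
          simp [pow_succ] at hms
        · simp [hms]
        · exact hms
      refine ⟨x0 ^ (2 ^ (m - 2)), pow_mem hx0 _, ?_⟩
      have hne : ¬ x0 ^ (2 ^ (m - 1)) = 1 := Nat.find_min hex (by omega)
      have e1 : x0 ^ (2 ^ (m - 2)) * x0 ^ (2 ^ (m - 2)) = x0 ^ (2 ^ (m - 1)) := by
        rw [← pow_add, ← two_mul, ← pow_succ', show m - 2 + 1 = m - 1 by omega]
      refine (hinvsq _ (pow_mem (hQS hx0) _) ?_).resolve_left (by rw [e1]; exact hne)
      rw [e1, ← pow_add, ← two_mul, ← pow_succ', show m - 1 + 1 = m by omega]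
      exact hms
    have hgz : g * z * g⁻¹ = z := by
      have e : g * y * g⁻¹ * (g * y * g⁻¹) = g * z * g⁻¹ := by rw [← hyz]; group
      rcases hinvsq (g * y * g⁻¹) (hQS (hgQ y hy)) (by
        rw [e, show g * z * g⁻¹ * (g * z * g⁻¹) = g * (z * z) * g⁻¹ by group, hz2]; simp) with h | h
      · rw [e, conj_eq_one_iff] at h; exact absurd h hz1
      · rwa [e] at h
    suffices H : ∀ N : ℕ, ∀ x ∈ Q, orderOf x ≤ N → g * x * g⁻¹ = x from
      fun x hx => H _ x hx le_rfl
    intro N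
    induction N with
    | zero => intro x _ hle; exact absurd (orderOf_pos x) (by omega)
    | succ N ih =>
      intro x hx hle
      have hsq : g * (x * x) * g⁻¹ = x * x := by
        by_cases hx1 : x = 1
        · simp [hx1]
        refine ih _ (mul_mem hx hx) ?_
        have hlt : orderOf (x * x) < orderOf x := by
          rw [← sq, orderOf_pow' x two_ne_zero]
          obtain ⟨j, hj⟩ := S.isPGroup' ⟨x, hQS hx⟩
          have hdvd' : orderOf x ∣ 2 ^ j := orderOf_dvd_of_pow_eq_one (congrArg Subtype.val hj)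
          obtain ⟨l, -, hl⟩ := (Nat.dvd_prime_pow Nat.prime_two).mp hdvd'
          have hl0 : l ≠ 0 := fun h0 => hx1 (orderOf_eq_one_iff.mp (by rw [hl, h0, pow_zero]))
          obtain ⟨l', rfl⟩ := Nat.exists_eq_succ_of_ne_zero hl0
          rw [hl, Nat.gcd_eq_right (by rw [pow_succ]; exact Dvd.intro_left _ rfl)]
          exact Nat.div_lt_self (by positivity) (by norm_num)
        omega
      set x2 := g * x * g⁻¹ with hx2
      set x3 := g * x2 * g⁻¹ with hx3
      have e12 : x * x = x2 * x2 := by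
        calc x * x = g * (x * x) * g⁻¹ := hsq.symm
          _ = x2 * x2 := by rw [hx2]; group
      have e23 : x2 * x2 = x3 * x3 := by
        calc x2 * x2 = x * x := e12.symm
          _ = g * (x * x) * g⁻¹ := hsq.symm
          _ = g * (x2 * x2) * g⁻¹ := by rw [e12]
          _ = x3 * x3 := by rw [hx3]; group
      have hshift : ∀ u v : G, (v = u ∨ v = u * z) →
          g * v * g⁻¹ = g * u * g⁻¹ ∨ g * v * g⁻¹ = g * u * g⁻¹ * z := by
        rintro u v (rfl | rfl)
        · exact Or.inl rfl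
        · right
          conv_rhs => rw [← hgz]
          group
      have hback : ∀ u v : G, (v = u ∨ v = u * z) → (u = v ∨ u = v * z) := by
        rintro u v (rfl | rfl)
        · exact Or.inl rfl
        · right; rw [mul_assoc, hz2, mul_one]
      have htrans : ∀ u v w : G, (v = u ∨ v = u * z) → (w = v ∨ w = v * z) → (w = u ∨ w = u * z) := by
        rintro u v w (rfl | rfl) (rfl | rfl)
        · exact Or.inl rfl
        · exact Or.inr rfl
        · exact Or.inr rfl
        · left; rw [mul_assoc, hz2, mul_one]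
      have h13 : x3 = x ∨ x3 = x * z := by
        rcases hfibre x (hQS hx) x2 (hQS (hgQ x hx)) x3 (hQS (hgQ _ (hgQ x hx))) e12 e23 with h | h | h
        · exact htrans _ _ _ h (hshift x x2 h)
        · exact h
        · have h' : x2 = x ∨ x2 = x * z := by
            rcases h with h | h
            · left
              have h' : g * x2 * g⁻¹ = g * x * g⁻¹ := h
              simpa using h'
            · right
              have h' : g * x2 * g⁻¹ = g * (x * z) * g⁻¹ :=
                h.trans (by conv_lhs => rw [← hgz]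
                            rw [hx2]; group)
              simpa using h'
          exact htrans _ _ _ h' h
      apply iter_fix hgm hgodd
      have e4 : g ^ 4 * x * (g ^ 4)⁻¹ = g * (g * x3 * g⁻¹) * g⁻¹ := by
        rw [hx3, hx2]; simp [pow_succ, mul_assoc]
      rw [e4]
      rcases h13 with h | h
      · rw [h]; exact (hx3.symm.trans h)
      · rw [h]
        calc g * (g * (x * z) * g⁻¹) * g⁻¹ = x3 * (g * (g * z * g⁻¹) * g⁻¹) := by
              rw [hx3, hx2]; group
          _ = x := by rw [hgz, hgz, h, mul_assoc, hz2, mul_one]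
  refine ⟨S, (Cfsg.Agent.S0071.result S).mpr fun Q hQS g hg hgc => ?_⟩
  have hgodd : Odd (orderOf g) := Nat.coprime_two_right.mp hgc
  rw [Subgroup.mem_centralizer_iff]
  suffices H : ∀ x ∈ Q, g * x * g⁻¹ = x by
    intro x hx
    calc x * g = g * x * g⁻¹ * g := by rw [H x hx]
      _ = g * x := by group
  by_cases h4 : ∃ x ∈ Q, x * x ≠ 1
  · exact fix Q hQS h4 g hg hgodd
  push Not at h4
  -- Q is elementary; it lies in ⟨z, b⟩
  have hE : ∀ x ∈ Q, x = 1 ∨ x = z ∨ x = b ∨ x = b * z := by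
    intro x hx
    obtain ⟨i, rfl | rfl⟩ := hmem x (hQS hx)
    · rcases hsqA i (h4 _ hx) with h | h
      · exact Or.inl h
      · exact Or.inr (Or.inl h)
    · have h := h4 _ hx
      rcases hpairB 0 i (by rw [h]; simp [hb2]) with h' | h'
      · simp at h'; exact Or.inr (Or.inr (Or.inl (by rw [h']; simp)))
      · simp at h'; exact Or.inr (Or.inr (Or.inr h'))
  by_contra hmove
  push Not at hmove
  obtain ⟨x, hxQ, hxg⟩ := hmove
  -- then Q is the full four group
  have hgQ : ∀ x ∈ Q, g * x * g⁻¹ ∈ Q := fun x hx => (Subgroup.mem_normalizer_iff.mp hg x).mp hx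
  have hfull : z ∈ Q ∧ b ∈ Q := by
    have hy := hgQ x hxQ
    have hx1 : x ≠ 1 := fun h => hxg (by rw [h]; simp)
    have hy1 : g * x * g⁻¹ ≠ 1 := fun h => hx1 (conj_eq_one_iff.mp h)
    have hne : g * x * g⁻¹ ≠ x := hxg
    have hprod := mul_mem hxQ hy
    rcases hE x hxQ with e | e | e | e <;> rcases hE _ hy with e' | e' | e' | e'
    all_goals first
      | exact absurd e hx1
      | exact absurd e' hy1
      | exact absurd (e'.trans e.symm) hne
      | skip
    all_goals rw [e'] at hy hprod; rw [e] at hxQ hprod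
    · exact ⟨hxQ, hy⟩
    · refine ⟨hxQ, ?_⟩
      rwa [hzcomm (b * z) (mul_mem hb (pow_mem ha _)), mul_assoc, hz2, mul_one] at hprod
    · exact ⟨hy, hxQ⟩
    · refine ⟨?_, hxQ⟩
      rwa [← mul_assoc, hb2, one_mul] at hprod
    · refine ⟨hy, ?_⟩
      rwa [mul_assoc, hz2, mul_one] at hprod
    · refine ⟨?_, hy⟩
      rwa [mul_assoc, hzcomm b hb, ← mul_assoc, hb2, one_mul] at hprod
  set C := Subgroup.centralizer (Q : Set G) with hC
  have hgNC : ∀ c ∈ C, g * c * g⁻¹ ∈ C := by
    intro c hc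
    rw [hC, Subgroup.mem_centralizer_iff] at hc ⊢
    intro q hq
    have hg' : g⁻¹ * q * g ∈ Q := by
      have := (Subgroup.mem_normalizer_iff.mp (inv_mem hg) q).mp hq
      simpa using this
    have := hc _ hg'
    calc q * (g * c * g⁻¹) = g * ((g⁻¹ * q * g) * c) * g⁻¹ := by group
      _ = g * (c * (g⁻¹ * q * g)) * g⁻¹ := by rw [this]
      _ = g * c * g⁻¹ * q := by group
  -- a Sylow 2-subgroup of C
  have hCS : ∀ T : Subgroup G, IsPGroup 2 T → T ≤ C → Nat.card T ≤ 2 ^ (k + 3) := by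
    intro T hT hTC
    by_contra hlt
    obtain ⟨P, hP⟩ := hT.exists_le_sylow
    have hcardP : Nat.card (P : Subgroup G) = 2 ^ (k + 3 + 1) :=
      (Nat.card_congr (Sylow.equiv P S).toEquiv).trans hS
    obtain ⟨l, hl⟩ := hT.exists_card_eq
    have hle : 2 ^ l ≤ 2 ^ (k + 3 + 1) := by
      rw [← hl, ← hcardP]; exact Subgroup.card_le_of_le hP
    have hl4 : l = k + 3 + 1 := by
      have h1 := (Nat.pow_le_pow_iff_right (by norm_num : 1 < 2)).mp hle
      have h2 : ¬ l ≤ k + 3 := fun h => hlt (by rw [hl]; exact Nat.pow_le_pow_right (by norm_num) h)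
      omega
    have hTP : T = (P : Subgroup G) := Subgroup.eq_of_le_of_card_ge hP (by rw [hl, hcardP, hl4])
    obtain ⟨c, hc⟩ := MulAction.exists_smul_eq G P S
    -- both z and b become central in S
    have hcen : ∀ q ∈ Q, ∀ s ∈ (S : Subgroup G), c * q * c⁻¹ ∈ (S : Subgroup G) ∧
        c * q * c⁻¹ * s = s * (c * q * c⁻¹) := by
      intro q hq s hs
      have hqT : q ∈ (P : Subgroup G) := by
        have hqc : q ∈ Subgroup.centralizer (T : Set G) := Subgroup.mem_centralizer_iff.mpr fun t ht =>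
          (Subgroup.mem_centralizer_iff.mp (hTC ht) q hq).symm
        have hp : IsPGroup 2 (Subgroup.zpowers q) := by
          refine IsPGroup.of_card (n := (orderOf q).factorization 2) ?_
          have hd : orderOf q ∣ 2 ^ 1 := orderOf_dvd_of_pow_eq_one (by rw [pow_one, sq]; exact h4 q hq)
          obtain ⟨j, -, hj⟩ := (Nat.dvd_prime_pow Nat.prime_two).mp hd
          rw [Nat.card_zpowers, hj, Nat.Prime.factorization_pow Nat.prime_two]; simp
        have hsup := IsPGroup.to_sup_of_normal_right' hp P.isPGroup' (Subgroup.zpowers_le.mpr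
          (by rw [← hTP]; exact Subgroup.centralizer_le_normalizer _ hqc))
        rw [← P.is_maximal' hsup le_sup_right]
        exact Subgroup.mem_sup_left (Subgroup.mem_zpowers q)
      rw [← hc, Sylow.coe_subgroup_smul] at hs ⊢
      refine ⟨⟨q, hqT, rfl⟩, ?_⟩
      obtain ⟨t, ht, rfl⟩ := hs
      have htq : q * t = t * q := Subgroup.mem_centralizer_iff.mp (hTC (hTP.symm ▸ ht)) q hq
      show c * q * c⁻¹ * (c * t * c⁻¹) = c * t * c⁻¹ * (c * q * c⁻¹)
      calc c * q * c⁻¹ * (c * t * c⁻¹) = c * (q * t) * c⁻¹ := by group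
        _ = c * (t * q) * c⁻¹ := by rw [htq]
        _ = _ := by group
    have honly : ∀ q ∈ Q, c * q * c⁻¹ = 1 ∨ c * q * c⁻¹ = z := by
      intro q hq
      have hq2 : c * q * c⁻¹ * (c * q * c⁻¹) = 1 := by
        rw [show c * q * c⁻¹ * (c * q * c⁻¹) = c * (q * q) * c⁻¹ by group, h4 q hq]; simp
      obtain ⟨hS', hcomm⟩ := hcen q hq a ha
      obtain ⟨i, e | e⟩ := hmem _ hS'
      · rw [e] at hq2 ⊢; exact hsqA i hq2
      · exfalso
        rw [e] at hcomm
        apply hz1
        have : b * a * b⁻¹ = a := by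
          calc b * a * b⁻¹ = (a ^ i)⁻¹ * (a ^ i * b * a) * b⁻¹ := by group
            _ = a := by rw [hcomm]; group
        rw [hrel, pow_succ] at this
        exact mul_eq_right.mp this
    have inj : ∀ q r : G, c * q * c⁻¹ = c * r * c⁻¹ → q = r := fun q r h => by simpa using h
    have hbz : b ≠ z := fun h => hbA (h ▸ Subgroup.pow_mem _ (Subgroup.mem_zpowers a) _)
    rcases honly z hfull.1 with h1 | h1
    · exact hz1 (conj_eq_one_iff.mp h1)
    rcases honly b hfull.2 with h2 | h2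
    · rw [conj_eq_one_iff] at h2; simp [h2] at hbo
    exact hbz (inj _ _ (h2.trans h1.symm))
  -- A = ⟨a², b⟩
  set A := Subgroup.centralizer ({b} : Set G) ⊓ (S : Subgroup G) with hA
  have hAC : A ≤ C := by
    intro x hx
    obtain ⟨hx1, hx2⟩ := Subgroup.mem_inf.mp hx
    have hxb := Subgroup.mem_centralizer_singleton_iff.mp hx1
    rw [hC, Subgroup.mem_centralizer_iff]
    intro q hq
    have hxz : z * x = x * z := hzcomm x hx2
    rcases hE q hq with rfl | rfl | rfl | rfl
    · simp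
    · exact hxz
    · exact hxb.symm
    · rw [mul_assoc, hxz, ← mul_assoc, ← hxb, mul_assoc]
  have ha2A : a * a ∈ A := by
    refine Subgroup.mem_inf.mpr ⟨Subgroup.mem_centralizer_singleton_iff.mpr ?_, mul_mem ha ha⟩
    have hconj : b * (a * a) * b = a * a := by
      have e : a * a = a ^ ((2 : ℤ)) := (zpow_two a).symm
      rw [e, hbconj, mul_add, mul_one, zpow_add,
        show (2 : ℤ) * 2 ^ (k + 2) = ((2 : ℕ) ^ (k + 3) : ℕ) by push_cast; ring, zpow_natCast, haN,
        one_mul]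
    calc a * a * b = b * (a * a) * b * b := by rw [hconj]
      _ = b * (a * a) := by rw [mul_assoc (b * (a * a)), hb2, mul_one]
  have hAcard : 2 ^ (k + 3) ≤ Nat.card A := by
    have ha2 : orderOf (a * a) = 2 ^ (k + 2) := by
      rw [← sq, orderOf_pow' a two_ne_zero, hao, Nat.gcd_eq_right (dvd_pow_self 2 (by omega)),
        pow_succ 2 (k + 2), Nat.mul_div_cancel _ (by norm_num)]
    have hbA' : b ∈ A := Subgroup.mem_inf.mpr ⟨Subgroup.mem_centralizer_singleton_iff.mpr rfl, hb⟩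
    have hle : Subgroup.zpowers (a * a) ≤ A := Subgroup.zpowers_le.mpr ha2A
    have hne : Subgroup.zpowers (a * a) ≠ A := fun h => hbA (by
      rw [← h] at hbA'
      exact Subgroup.zpowers_le.mpr (mul_mem (Subgroup.mem_zpowers a) (Subgroup.mem_zpowers a)) hbA')
    have hdvd := Subgroup.card_dvd_of_le hle
    obtain ⟨l, hl⟩ := (S.isPGroup'.to_le (inf_le_right : A ≤ (S : Subgroup G))).exists_card_eq
    rw [Nat.card_zpowers, ha2, hl] at hdvd
    have hl2 := (Nat.pow_dvd_pow_iff_le_right (by norm_num : 1 < 2)).mp hdvd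
    rw [hl]
    refine Nat.pow_le_pow_right (by norm_num) ?_
    by_contra hlt
    apply hne
    refine Subgroup.eq_of_le_of_card_ge hle ?_
    rw [hl, Nat.card_zpowers, ha2]
    exact Nat.pow_le_pow_right (by norm_num) (by omega)
  have hAp : IsPGroup 2 A := S.isPGroup'.to_le inf_le_right
  obtain ⟨T, hT⟩ := (hAp.comap_subtype (K := C)).exists_le_sylow
  have hTA : (T : Subgroup C).map C.subtype = A := by
    have hAT : A ≤ (T : Subgroup C).map C.subtype := fun x hx => ⟨⟨x, hAC hx⟩, hT hx, rfl⟩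
    refine (Subgroup.eq_of_le_of_card_ge hAT ?_).symm
    exact (hCS _ (T.isPGroup'.map _) (Subgroup.map_subtype_le _)).trans hAcard
  obtain ⟨c, hcC, hcN⟩ : ∃ c ∈ C, c * g ∈ Subgroup.normalizer (A : Set G) := by
    let φ : C →* C := MonoidHom.mk' (fun x => ⟨g * x * g⁻¹, hgNC x x.2⟩)
      (fun x y => Subtype.ext (by push_cast; group))
    have hφ : Function.Injective φ := fun x y h => by
      have h' : g * (x : G) * g⁻¹ = g * y * g⁻¹ := congrArg Subtype.val h
      exact Subtype.ext (by simpa using h')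
    have hT' : Nat.card ((T : Subgroup C).map φ) = 2 ^ (Nat.card C).factorization 2 := by
      rw [← Nat.card_congr ((T : Subgroup C).equivMapOfInjective φ hφ).toEquiv]
      exact Sylow.card_eq_multiplicity T
    obtain ⟨d, hd⟩ := MulAction.exists_smul_eq C (Sylow.ofCard _ hT') T
    refine ⟨(d : G), d.2, ?_⟩
    have hsub : ∀ x ∈ A, (d : G) * g * x * ((d : G) * g)⁻¹ ∈ A := by
      intro x hx
      rw [← hTA] at hx ⊢
      obtain ⟨t, ht, rfl⟩ := hx
      refine ⟨d * φ t * d⁻¹, ?_, by simp [φ, mul_assoc]⟩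
      rw [← hd, Sylow.coe_subgroup_smul]
      exact ⟨φ t, ⟨t, ht, rfl⟩, rfl⟩
    have hmap : A.map (MulAut.conj ((d : G) * g)).toMonoidHom = A := by
      refine Subgroup.eq_of_le_of_card_ge ?_ ?_
      · rintro _ ⟨x, hx, rfl⟩; exact hsub x hx
      · rw [← Nat.card_congr (A.equivMapOfInjective _ (MulAut.conj ((d : G) * g)).injective).toEquiv]
    rw [Subgroup.mem_normalizer_iff]
    intro x
    refine ⟨hsub x, fun hx => ?_⟩
    rw [← hmap] at hx
    obtain ⟨x', hx', e⟩ := hx
    have : (d : G) * g * x' * ((d : G) * g)⁻¹ = (d : G) * g * x * ((d : G) * g)⁻¹ := e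
    have : x' = x := by simpa [mul_assoc] using this
    rwa [← this]
  set g1 := c * g with hg1
  have hact : ∀ q ∈ Q, g1 * q * g1⁻¹ = g * q * g⁻¹ := fun q hq => by
    have := Subgroup.mem_centralizer_iff.mp hcC _ (hgQ q hq)
    calc g1 * q * g1⁻¹ = c * (g * q * g⁻¹) * c⁻¹ := by rw [hg1]; group
      _ = g * q * g⁻¹ * c * c⁻¹ := by rw [← this]
      _ = _ := by group
  obtain ⟨r, m, hm, hrm⟩ := Nat.exists_eq_pow_mul_and_not_dvd (n := orderOf g1)
    (orderOf_pos g1).ne' 2 (by norm_num)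
  set g2 := g1 ^ (2 ^ r) with hg2
  have hg2odd : Odd (orderOf g2) := by
    have : orderOf g2 ∣ m := orderOf_dvd_of_pow_eq_one (by rw [hg2, ← pow_mul, ← hrm, pow_orderOf_eq_one])
    exact (Nat.odd_iff.mpr (by omega) : Odd m).of_dvd_nat this
  have hpowact : ∀ j : ℕ, ∀ q ∈ Q, g1 ^ j * q * (g1 ^ j)⁻¹ = g ^ j * q * (g ^ j)⁻¹ ∧
      g ^ j * q * (g ^ j)⁻¹ ∈ Q := by
    intro j
    induction j with
    | zero => intro q hq; simpa using hq
    | succ j ih =>
      intro q hq
      obtain ⟨h1, h2⟩ := ih q hq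
      have e : g ^ (j + 1) * q * (g ^ (j + 1))⁻¹ = g * (g ^ j * q * (g ^ j)⁻¹) * g⁻¹ := by
        rw [pow_succ']; group
      refine ⟨?_, e ▸ hgQ _ h2⟩
      calc g1 ^ (j + 1) * q * (g1 ^ (j + 1))⁻¹ = g1 * (g1 ^ j * q * (g1 ^ j)⁻¹) * g1⁻¹ := by
            rw [pow_succ']; group
        _ = _ := by rw [h1, hact _ h2, e]
  have haa : a * a * (a * a) ≠ 1 := by
    intro h
    have h4' : a ^ 4 = 1 := by rw [← h]; simp [pow_succ, mul_assoc]
    have := Nat.le_of_dvd (by norm_num) (hao ▸ orderOf_dvd_of_pow_eq_one h4')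
    have : 2 ^ 3 ≤ 2 ^ (k + 3) := Nat.pow_le_pow_right (by norm_num) (by omega)
    omega
  have hfixA := fix A inf_le_right ⟨a * a, ha2A, haa⟩ g2 (pow_mem hcN _) hg2odd
  have hgfix : ∀ q ∈ Q, g ^ (2 ^ r) * q * (g ^ (2 ^ r))⁻¹ = q := by
    intro q hq
    rw [← (hpowact _ q hq).1]
    refine hfixA q (Subgroup.mem_inf.mpr ⟨Subgroup.mem_centralizer_singleton_iff.mpr ?_, hQS hq⟩)
    rcases hE q hq with rfl | rfl | rfl | rfl
    · simp
    · exact hzcomm b hb
    · rfl
    · rw [mul_assoc, hzcomm b hb, ← mul_assoc]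
  apply hxg
  have hcop : Nat.Coprime (2 ^ r) (orderOf g) := (Nat.coprime_two_left.mpr hgodd).pow_left r
  have hc1 : Commute (g ^ (2 ^ r)) x := mul_inv_eq_iff_eq_mul.mp (hgfix x hxQ)
  have hbez := Nat.gcd_eq_gcd_ab (2 ^ r) (orderOf g)
  rw [hcop.gcd_eq_one] at hbez
  have hgx : g = (g ^ (2 ^ r)) ^ (Nat.gcdA (2 ^ r) (orderOf g)) := by
    conv_lhs => rw [← zpow_one g]
    rw [show (1 : ℤ) = ((2 ^ r : ℕ) : ℤ) * Nat.gcdA (2 ^ r) (orderOf g) +
      (orderOf g : ℤ) * Nat.gcdB (2 ^ r) (orderOf g) by rw [← hbez]; rfl, zpow_add,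
      zpow_mul, zpow_mul, zpow_natCast g (orderOf g), pow_orderOf_eq_one, one_zpow, mul_one,
      zpow_natCast]
  have hcg : Commute g x := by rw [hgx]; exact hc1.zpow_left _
  rw [hcg.eq, mul_inv_cancel_right]

end Cfsg.Agent.S3178
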