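import Cfsg.Statements.S3179
import Cfsg.Agent.Lie.SzModels
import Cfsg.Agent.Lie.Orders
import Cfsg.Agent.Base.Spectrum.PSLTwo
import Cfsg.Agent.S0280

set_option autoImplicit false
open Cfsg

namespace Cfsg.Agent.S3179

open Polynomial in
theorem no_nine (x : GL (Fin 5) (ZMod 2)) (hx : x ^ 9 = 1) : x ^ 3 = 1 := by
  classical
  haveI : Fact (Nat.Prime 2) := ⟨Nat.prime_two⟩
  set A := (x : Matrix (Fin 5) (Fin 5) (ZMod 2))
  set μ := minpoly (ZMod 2) A
  have hA : A ^ 9 = 1 := by rw [← Units.val_pow_eq_pow_val, hx]; rfl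
  have hsplit : (X : (ZMod 2)[X]) ^ 9 - 1 = (X ^ 3 - 1) * (X ^ 6 + X ^ 3 + 1) := by ring
  have hdvd : μ ∣ (X ^ 3 - 1) * (X ^ 6 + X ^ 3 + 1) := hsplit ▸ minpoly.dvd _ A (by simp [hA])
  have hint : IsIntegral (ZMod 2) A := .of_finite _ A
  have hμ : μ.natDegree ≤ 5 := by
    refine (natDegree_le_of_dvd (Matrix.minpoly_dvd_charpoly A) A.charpoly_monic.ne_zero).trans ?_
    rw [Matrix.charpoly_natDegree_eq_dim, Fintype.card_fin]
  have hcop : IsCoprime μ (X ^ 6 + X ^ 3 + 1) := by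
    refine isCoprime_of_irreducible_dvd (fun h => minpoly.ne_zero hint h.1) fun h hirr hhμ hh6 => ?_
    have hne : h ≠ 0 := hirr.ne_zero
    have hdeg : h.natDegree ≤ 5 := (natDegree_le_of_dvd hhμ (minpoly.ne_zero hint)).trans hμ
    have hpos : 0 < h.natDegree := hirr.natDegree_pos
    haveI : Fact (Irreducible h) := ⟨hirr⟩
    haveI : Module.Finite (ZMod 2) (AdjoinRoot h) := (AdjoinRoot.powerBasis hne).finite
    haveI : Finite (AdjoinRoot h) := Module.finite_of_finite (ZMod 2)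
    haveI := Fintype.ofFinite (AdjoinRoot h)
    set r := AdjoinRoot.root h
    have h6 : r ^ 6 + r ^ 3 + 1 = 0 := by
      have := AdjoinRoot.mk_eq_zero.2 hh6
      simpa using this
    have hr3 : r ^ 3 ≠ 1 := fun e => by
      rw [show r ^ 6 = (r ^ 3) ^ 2 by ring, e] at h6
      have h2 : (2 : AdjoinRoot h) = 0 := by
        rw [← map_ofNat (algebraMap (ZMod 2) (AdjoinRoot h)), show (OfNat.ofNat 2 : ZMod 2) = 0 from rfl, map_zero]
      exact one_ne_zero (by linear_combination h6 - h2 : (1 : AdjoinRoot h) = 0)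
    have hr9 : r ^ 9 = 1 := by linear_combination (r ^ 3 - 1) * h6
    have hord : orderOf r = 9 :=
      orderOf_eq_prime_pow (p := 3) (n := 1) (by simpa using hr3) (by simpa using hr9)
    have hr0 : r ≠ 0 := fun e => by rw [e] at hr9; simp at hr9
    have hd := orderOf_dvd_of_pow_eq_one (FiniteField.pow_card_sub_one_eq_one r hr0)
    rw [hord, Module.card_eq_pow_finrank (K := ZMod 2), ZMod.card, (AdjoinRoot.powerBasis hne).finrank,
      AdjoinRoot.powerBasis_dim] at hd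
    generalize h.natDegree = d at hd hdeg hpos
    interval_cases d <;> norm_num at hd
  have h3 : A ^ 3 = 1 := by
    obtain ⟨c, hc⟩ := hcop.dvd_of_dvd_mul_right hdvd
    have := congrArg (aeval A) hc
    rw [map_mul, minpoly.aeval, zero_mul, map_sub, map_pow, aeval_X, map_one, sub_eq_zero] at this
    exact this
  exact Units.ext (by rw [Units.val_pow_eq_pow_val]; exact h3)

/-- Let X be a section of the general linear group GL(5, 2), that is, a quotient of a subgroup of it. If X is isomorphic to PSL(2, 2^n) for some n ≥ 2, to a Suzuki group over the field with 2^(2m+1) elements for some m ≥ 1, or to PSU(3, 2^n) for some n ≥ 2, then X is isomorphic to PSL(2, 4). -/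
theorem result {H : Subgroup (GL (Fin 5) (ZMod 2))}
    {K : Subgroup ↥H} [K.Normal]
    (hX : (∃ (n : ℕ) (F : Type) (_ : Field F) (_ : Fintype F), 2 ≤ n ∧ Fintype.card F = 2 ^ n ∧
        Nonempty (↥H ⧸ K ≃* Matrix.ProjectiveSpecialLinearGroup (Fin 2) F)) ∨
      (∃ (m : ℕ) (F : Type) (_ : Field F) (_ : Fintype F), 1 ≤ m ∧ Fintype.card F = 2 ^ (2 * m + 1) ∧
        Nonempty (↥H ⧸ K ≃* ↥(Cfsg.Lie.Sz F (2 ^ (m + 1))))) ∨
      (∃ (n : ℕ) (F : Type) (_ : Field F) (_ : Fintype F), 2 ≤ n ∧ Fintype.card F = 4 ^ n ∧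
        Nonempty (↥H ⧸ K ≃* Cfsg.PSU 3 F (2 ^ n)))) :
    ∃ (F : Type) (_ : Field F) (_ : Fintype F), Fintype.card F = 4 ∧
      Nonempty (↥H ⧸ K ≃* Matrix.ProjectiveSpecialLinearGroup (Fin 2) F) := by
  classical
  haveI : Fact (Nat.Prime 2) := ⟨Nat.prime_two⟩
  have hN : Nat.card (↥H ⧸ K) ∣ 9999360 := by
    have h1 : Nat.card (↥H ⧸ K) ∣ Nat.card (GL (Fin 5) (ZMod 2)) :=
      (Subgroup.card_quotient_dvd_card K).trans (Subgroup.card_subgroup_dvd_card H)
    rw [CfsgLib.Lie.Orders.card_GL_fin (ZMod.card 2) 5] at h1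
    simpa [Fin.prod_univ_five] using h1
  rcases hX with ⟨n, F, iF, iFt, hn, hF, ⟨e⟩⟩ | ⟨m, F, iF, iFt, hm, hF, ⟨e⟩⟩ | ⟨n, F, iF, iFt, hn, hF, ⟨e⟩⟩
  · haveI hc : CharP F 2 := charP_of_card_eq_prime_pow hF
    have hZ : Subgroup.center (Matrix.SpecialLinearGroup (Fin 2) F) = ⊥ := by
      rw [eq_bot_iff]
      intro g hg
      have hneg : (-1 : Matrix.SpecialLinearGroup (Fin 2) F) = 1 := by
        ext i j
        rw [Matrix.SpecialLinearGroup.coe_neg]
        fin_cases i <;> fin_cases j <;> simp [CharTwo.neg_eq]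
      rcases CfsgLib.PSLTwoSpec.mem_Z.1 hg with h | h
      · exact h
      · exact h.trans hneg
    have hcard : Nat.card (↥H ⧸ K) = 2 ^ n * ((2 ^ n) ^ 2 - 1) := by
      rw [Nat.card_congr e.toEquiv, ← CfsgLib.Lie.Orders.card_SL_two hF]
      have := Subgroup.card_eq_card_quotient_mul_card_subgroup (Subgroup.center (Matrix.SpecialLinearGroup (Fin 2) F))
      rw [hZ, Subgroup.card_bot, mul_one, ← hZ] at this
      exact this.symm
    rw [hcard] at hN
    have hn10 : n ≤ 10 := by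
      by_contra hlt
      have : 2 ^ 11 ∣ 9999360 := (pow_dvd_pow 2 (by omega : 11 ≤ n)).trans (dvd_of_mul_right_dvd hN)
      norm_num at this
    interval_cases n <;> norm_num at hN
    · exact ⟨F, iF, iFt, hF.trans (by norm_num), ⟨e⟩⟩
    · exfalso
      obtain ⟨g, hg⟩ := CfsgLib.PSLTwoSpec.exists_order_succ (F := F)
      have hg9 : orderOf g = 9 := by rw [hg, hF]; norm_num
      have him := CfsgLib.PSLTwoSpec.order_image g 9 hg9 (fun h => by rw [hF] at h; norm_num at h)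
      rw [hF, show Nat.gcd 2 (2 ^ 3 - 1) = 1 by norm_num, Nat.div_one] at him
      obtain ⟨y, hy⟩ := QuotientGroup.mk'_surjective K (e.symm (QuotientGroup.mk' _ g))
      have hoy : orderOf (QuotientGroup.mk' K y) = 9 := by rw [hy, MulEquiv.orderOf_eq, him]
      obtain ⟨d, hd⟩ : 9 ∣ orderOf y := hoy ▸ orderOf_map_dvd _ _
      have h9 : (y ^ d) ^ 9 = 1 := by rw [← pow_mul, mul_comm d 9, ← hd, pow_orderOf_eq_one]
      have h3 : (y ^ d) ^ 3 = 1 := Subtype.ext (no_nine ((y ^ d : ↥H) : GL (Fin 5) (ZMod 2))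
        (by rw [← Subgroup.coe_pow, h9]; rfl))
      rw [← pow_mul] at h3
      have := orderOf_dvd_of_pow_eq_one h3
      have hpos : 0 < orderOf y := orderOf_pos y
      rw [hd] at this hpos
      have := Nat.le_of_dvd (by nlinarith) this
      nlinarith
  · exfalso
    have A : CfsgLib.Suz.Setup F m := ⟨hm, hF⟩
    have hcard : Nat.card (↥H ⧸ K) = (2 ^ (2 * m + 1)) ^ 2 * ((2 ^ (2 * m + 1)) ^ 2 + 1) * (2 ^ (2 * m + 1) - 1) := by
      rw [Nat.card_congr e.toEquiv, ← Nat.card_congr (CfsgLib.Lie.SzModels.iso A).toEquiv, A.card_Sz]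
    rw [hcard] at hN
    have hm2 : m ≤ 2 := by
      by_contra hlt
      have : 2 ^ 11 ∣ 9999360 := by
        refine dvd_trans ?_ (dvd_of_mul_right_dvd (dvd_of_mul_right_dvd hN))
        rw [← pow_mul]
        exact pow_dvd_pow 2 (by omega)
      norm_num at this
    interval_cases m <;> norm_num at hN
  · exfalso
    have hF' : Fintype.card F = (2 ^ n) ^ 2 := by rw [hF, ← pow_mul, show (4 : ℕ) = 2 ^ 2 by norm_num, ← pow_mul, mul_comm]
    have hU := Cfsg.Agent.S0280.result hF' 3 (by norm_num)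
    rw [← Nat.card_congr e.toEquiv] at hU
    simp [Finset.prod_range_succ, Nat.even_iff, -Nat.card_eq_fintype_card] at hU
    have hdiv : Nat.gcd 3 (2 ^ n + 1) * ((2 ^ n + 1) * Nat.card (↥H ⧸ K)) ∣ 3 * ((2 ^ n + 1) * 9999360) :=
      Nat.mul_dvd_mul (Nat.gcd_dvd_left _ _) (Nat.mul_dvd_mul_left _ hN)
    rw [hU] at hdiv
    have hn3 : n ≤ 3 := by
      by_contra hlt
      have h2 : 2 ^ 12 ∣ 3 * ((2 ^ n + 1) * 9999360) := by
        refine dvd_trans ?_ (dvd_of_mul_right_dvd hdiv)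
        rw [← pow_mul]
        exact pow_dvd_pow 2 (by omega)
      have hodd : Nat.Coprime (2 ^ 12) (3 * (2 ^ n + 1)) := by
        refine Nat.Coprime.pow_left _ (Nat.coprime_two_left.2 ?_)
        exact (by decide : Odd 3).mul ((Nat.even_pow.2 ⟨even_two, by omega⟩).add_one)
      rw [← mul_assoc] at h2
      have := hodd.dvd_of_dvd_mul_left h2
      norm_num at this
    interval_cases n <;> norm_num at hdiv

end Cfsg.Agent.S3179
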