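import Cfsg.Statements.S3180
import Mathlib

set_option autoImplicit false
open Cfsg

namespace Cfsg.Agent.S3180

/-- Let P be a Sylow p-subgroup of a finite group J and P₁ a subgroup of P that is weakly closed in P with respect to J. If J acts on a set and two points, each fixed by every element of P₁, lie in one J-orbit, then they lie in one orbit of the normalizer of P₁ in J. -/
theorem result {J : Type*} [Group J] [Finite J]
    {p : ℕ} [Fact p.Prime] (P : Sylow p J) (P₁ : Subgroup J) (hW : Cfsg.IsWeaklyClosed P₁ (P : Subgroup J))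
    {Ω : Type*} [MulAction J Ω] (x y : Ω) (hx : ∀ g ∈ P₁, g • x = x) (hy : ∀ g ∈ P₁, g • y = y)
    (hc : ∃ g : J, g • x = y) :
    ∃ g ∈ Subgroup.normalizer (P₁ : Set J), g • x = y := by
  obtain ⟨hW1, hW2⟩ := hW
  obtain ⟨g, hg⟩ := hc
  set St := MulAction.stabilizer J y with hSt
  have h1 : P₁ ≤ St := fun a ha => hy a ha
  set P₂ : Subgroup J := P₁.map (MulAut.conj g).toMonoidHom with hP2
  have h2 : P₂ ≤ St := by
    rintro _ ⟨a, ha, rfl⟩
    show (g * a * g⁻¹) • y = y
    rw [← hg, mul_smul, mul_smul, inv_smul_smul, hx a ha]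
  have hp1 : IsPGroup p P₁ := P.2.to_le hW1
  have hp2 : IsPGroup p P₂ := hp1.map _
  obtain ⟨Q, hQ⟩ := (hp1.comap_of_injective St.subtype Subtype.val_injective).exists_le_sylow
  obtain ⟨R, hR⟩ := (hp2.comap_of_injective St.subtype Subtype.val_injective).exists_le_sylow
  obtain ⟨h, hh⟩ := MulAction.exists_smul_eq St R Q
  have hQp : IsPGroup p ((Q : Subgroup St).map St.subtype) := Q.2.map _
  obtain ⟨T, hT⟩ := hQp.exists_le_sylow
  obtain ⟨k, hk⟩ := MulAction.exists_smul_eq J T P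
  have hmem : ∀ t ∈ (T : Subgroup J), k * t * k⁻¹ ∈ (P : Subgroup J) := by
    intro t ht
    rw [← hk, Sylow.coe_subgroup_smul]
    exact Subgroup.mem_pointwise_smul_iff_inv_smul_mem.mpr (by simpa [MulAut.smul_def, mul_assoc] using ht)
  have e1 : P₁.map (MulAut.conj k).toMonoidHom = P₁ := hW2 k (by
    rintro _ ⟨a, ha, rfl⟩
    exact hmem a (hT ⟨⟨a, h1 ha⟩, hQ (show (⟨a, h1 ha⟩ : St) ∈ P₁.comap St.subtype from ha), rfl⟩))
  have e2 : P₁.map (MulAut.conj (k * (h : J) * g)).toMonoidHom = P₁ := hW2 _ (by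
    rintro _ ⟨a, ha, rfl⟩
    have hb : g * a * g⁻¹ ∈ P₂ := ⟨a, ha, rfl⟩
    have hbR : (⟨g * a * g⁻¹, h2 hb⟩ : St) ∈ (R : Subgroup St) := hR hb
    have hbQ : h * (⟨g * a * g⁻¹, h2 hb⟩ : St) * h⁻¹ ∈ (Q : Subgroup St) := by
      rw [← hh, Sylow.coe_subgroup_smul]
      exact Subgroup.mem_pointwise_smul_iff_inv_smul_mem.mpr (by simpa [MulAut.smul_def, mul_assoc] using hbR)
    have h3 := hmem _ (hT ⟨_, hbQ, rfl⟩)
    simpa [MulAut.conj_apply, mul_assoc] using h3)
  have n1 : ∀ (u : J), P₁.map (MulAut.conj u).toMonoidHom = P₁ → u ∈ Subgroup.normalizer (P₁ : Set J) := by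
    intro u hu
    rw [Subgroup.mem_normalizer_iff]
    intro a
    constructor
    · intro ha
      rw [← hu]; exact ⟨a, ha, rfl⟩
    · intro ha
      rw [← hu] at ha
      obtain ⟨b, hb, hb2⟩ := ha
      have : b = a := (MulAut.conj u).injective hb2
      rw [← this]; exact hb
  refine ⟨(h : J) * g, ?_, ?_⟩
  · have := mul_mem (inv_mem (n1 _ e1)) (n1 _ e2)
    simpa [mul_assoc] using this
  · rw [mul_smul, hg]; exact h.2

end Cfsg.Agent.S3180
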