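import Cfsg.Statements.S3183
import Mathlib

set_option autoImplicit false
open Cfsg

namespace Cfsg.Agent.S3183

/-- Let G be a finite group in which the intersection of any two distinct Sylow 2-subgroups is contained in the centre of some Sylow 2-subgroup, and let S be a Sylow 2-subgroup. Then for every x in S the centralizer of x in S is a Sylow 2-subgroup of the centralizer of x in G (no 2-subgroup centralizing x is larger), and for every other Sylow 2-subgroup T the intersection S ∩ T lies in both the centre of S and the centre of T. -/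
theorem result {G : Type*} [Group G] [Finite G]
    (hCI : ∀ S T : Sylow 2 G, S ≠ T → ∃ U : Sylow 2 G,
      (S : Subgroup G) ⊓ (T : Subgroup G) ≤ (Subgroup.center ↥(U : Subgroup G)).map (U : Subgroup G).subtype)
    (S : Sylow 2 G) :
    (∀ x ∈ (S : Subgroup G), ∀ P : Subgroup G, IsPGroup 2 ↥P → P ≤ Subgroup.centralizer ({x} : Set G) →
        Nat.card ↥P ≤ Nat.card ↥((S : Subgroup G) ⊓ Subgroup.centralizer ({x} : Set G))) ∧
    (∀ T : Sylow 2 G, T ≠ S →
        (S : Subgroup G) ⊓ (T : Subgroup G) ≤
          (Subgroup.center ↥(S : Subgroup G)).map (S : Subgroup G).subtype ⊓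
            (Subgroup.center ↥(T : Subgroup G)).map (T : Subgroup G).subtype) := by
  have : Fact (Nat.Prime 2) := ⟨Nat.prime_two⟩
  have hcen : ∀ (U : Sylow 2 G) (w : G), w ∈ (Subgroup.center ↥(U : Subgroup G)).map (U : Subgroup G).subtype ↔
      w ∈ (U : Subgroup G) ∧ ∀ u ∈ (U : Subgroup G), u * w = w * u := by
    intro U w
    constructor
    · rintro ⟨c, hc, rfl⟩
      exact ⟨c.2, fun u hu => congrArg Subtype.val (Subgroup.mem_center_iff.mp hc ⟨u, hu⟩)⟩
    · rintro ⟨hw, hc⟩
      exact ⟨⟨w, hw⟩, Subgroup.mem_center_iff.mpr fun u => Subtype.ext (hc u u.2), rfl⟩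
  have main : ∀ (n : ℕ) (S T : Sylow 2 G), S ≠ T →
      Nat.card G - Nat.card ↥((S : Subgroup G) ⊓ (T : Subgroup G)) = n →
      (S : Subgroup G) ⊓ (T : Subgroup G) ≤ (Subgroup.center ↥(S : Subgroup G)).map (S : Subgroup G).subtype := by
    intro n
    induction n using Nat.strong_induction_on with
    | _ n ih =>
    intro S T hST hn
    set D : Subgroup G := (S : Subgroup G) ⊓ (T : Subgroup G) with hD
    obtain ⟨U, hU⟩ := hCI S T hST
    by_cases hUS : U = S
    · rw [← hUS]; exact hU
    have hUc : (U : Subgroup G) ≤ Subgroup.centralizer (D : Set G) := by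
      intro u hu
      rw [Subgroup.mem_centralizer_iff]
      intro d hd
      exact (((hcen U d).mp (hU hd)).2 u hu).symm
    have hDS : D ≤ (S : Subgroup G) := inf_le_left
    have hDlt : D < (S : Subgroup G) := by
      refine lt_of_le_of_ne hDS fun h => hST (Sylow.ext ?_)
      exact (Subgroup.eq_of_le_of_card_ge (inf_eq_left.mp h) (by
        rw [S.card_eq_multiplicity, T.card_eq_multiplicity]))
    -- Q = N_S(D)
    have : Group.IsNilpotent (S : Subgroup G) := S.2.isNilpotent
    have hlt : D.subgroupOf (S : Subgroup G) < ⊤ := lt_top_iff_ne_top.mpr fun h => hDlt.ne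
      (le_antisymm hDS (Subgroup.subgroupOf_eq_top.mp h))
    obtain ⟨v, hv, hv1⟩ := SetLike.exists_of_lt (Group.normalizerCondition_of_isNilpotent _ hlt)
    have hvN : (v : G) ∈ Subgroup.normalizer (D : Set G) := by
      rw [Subgroup.mem_normalizer_iff]
      intro a
      constructor
      · intro ha
        exact (Subgroup.mem_normalizer_iff.mp hv ⟨a, hDS ha⟩).mp ha
      · intro ha
        have haS : a ∈ (S : Subgroup G) := by
          have := mul_mem (mul_mem (inv_mem v.2) (hDS ha)) v.2
          simpa [mul_assoc] using this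
        exact (Subgroup.mem_normalizer_iff.mp hv ⟨a, haS⟩).mpr ha
    set N : Subgroup G := Subgroup.normalizer (D : Set G) with hN
    have hCN : Subgroup.centralizer (D : Set G) ≤ N := by
      intro c hc
      rw [hN, Subgroup.mem_normalizer_iff]
      intro a
      constructor
      · intro ha
        have := Subgroup.mem_centralizer_iff.mp hc a ha
        rwa [← this, mul_inv_cancel_right]
      · intro ha
        have h2 := Subgroup.mem_centralizer_iff.mp hc _ ha
        have : c * a * c⁻¹ = a := by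
          have h3 : c * a = c * (c * a * c⁻¹) := by rw [← h2]; group
          exact (mul_left_cancel h3).symm
        rwa [this] at ha
    set Q : Subgroup G := (S : Subgroup G) ⊓ N with hQ
    have hQp : IsPGroup 2 Q := S.2.to_le inf_le_left
    obtain ⟨R, hR⟩ := (hQp.comap_of_injective N.subtype Subtype.val_injective).exists_le_sylow
    set UN : Sylow 2 N := U.subtype (hUc.trans hCN) with hUN
    obtain ⟨c, hc⟩ := MulAction.exists_smul_eq N UN R
    set U₁ : Sylow 2 G := (c : G) • U with hU1
    have hmemU : ∀ a : G, a ∈ (U₁ : Subgroup G) ↔ (c : G)⁻¹ * a * (c : G) ∈ (U : Subgroup G) := by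
      intro a
      rw [hU1, Sylow.coe_subgroup_smul, Subgroup.mem_pointwise_smul_iff_inv_smul_mem]
      simp [MulAut.smul_def]
    have hQU : Q ≤ (U₁ : Subgroup G) := by
      intro a ha
      have h2 : (⟨a, ha.2⟩ : N) ∈ (R : Subgroup N) := hR ha
      rw [← hc, Sylow.coe_subgroup_smul, Subgroup.mem_pointwise_smul_iff_inv_smul_mem] at h2
      rw [hmemU]
      simpa [MulAut.smul_def, Subgroup.mem_subgroupOf, UN] using h2
    have hUD : ∀ d ∈ D, d ∈ (U₁ : Subgroup G) ∧ ∀ u ∈ (U₁ : Subgroup G), u * d = d * u := by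
      intro d hd
      have hd2 : (c : G)⁻¹ * d * (c : G) ∈ D := by
        have := (Subgroup.mem_normalizer_iff.mp (inv_mem c.2) d).mp hd
        simpa using this
      obtain ⟨hd3, hd4⟩ := (hcen U _).mp (hU hd2)
      refine ⟨(hmemU d).mpr hd3, fun u hu => ?_⟩
      have := hd4 _ ((hmemU u).mp hu)
      have h5 := congrArg (fun w => (c : G) * w * (c : G)⁻¹) this
      simpa [mul_assoc] using h5
    by_cases hU1S : U₁ = S
    · intro d hd
      rw [← hU1S, hcen]
      exact hUD d hd
    have hDQ : D < (S : Subgroup G) ⊓ (U₁ : Subgroup G) := by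
      refine lt_of_le_of_ne (fun d hd => ⟨hDS hd, (hUD d hd).1⟩) fun h => hv1 ?_
      rw [Subgroup.mem_subgroupOf, h]
      exact ⟨v.2, hQU ⟨v.2, hvN⟩⟩
    have hcard : Nat.card D < Nat.card ↥((S : Subgroup G) ⊓ (U₁ : Subgroup G)) := by
      by_contra hc2
      exact hDQ.ne (Subgroup.eq_of_le_of_card_ge hDQ.le (not_lt.mp hc2))
    have hle : Nat.card ↥((S : Subgroup G) ⊓ (U₁ : Subgroup G)) ≤ Nat.card G :=
      Nat.card_le_card_of_injective _ Subtype.val_injective
    exact hDQ.le.trans (ih _ (by omega) S U₁ (Ne.symm hU1S) rfl)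
  have both : ∀ T : Sylow 2 G, T ≠ S → (S : Subgroup G) ⊓ (T : Subgroup G) ≤
      (Subgroup.center ↥(S : Subgroup G)).map (S : Subgroup G).subtype ⊓
      (Subgroup.center ↥(T : Subgroup G)).map (T : Subgroup G).subtype := fun T hT =>
    le_inf (main _ S T (Ne.symm hT) rfl) (inf_comm (S : Subgroup G) (T : Subgroup G) ▸ main _ T S hT rfl)
  refine ⟨fun x hx P hP hPC => ?_, both⟩
  set C := Subgroup.centralizer ({x} : Set G) with hC
  obtain ⟨T, hT⟩ := hP.exists_le_sylow
  have hP' : P ≤ (T : Subgroup G) ⊓ C := le_inf hT hPC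
  refine le_trans (Nat.card_le_card_of_injective _ (Subgroup.inclusion_injective hP')) ?_
  -- a Sylow 2-subgroup of the centraliser
  have hSC : IsPGroup 2 ↥((S : Subgroup G) ⊓ C) := S.2.to_le inf_le_left
  obtain ⟨R, hR⟩ := (hSC.comap_of_injective C.subtype Subtype.val_injective).exists_le_sylow
  obtain ⟨V, hV⟩ := (R.2.map C.subtype).exists_le_sylow
  have hcardR : Nat.card ↥(R : Subgroup C) ≤ Nat.card ↥((S : Subgroup G) ⊓ C) := by
    rw [Nat.card_congr ((R : Subgroup C).equivMapOfInjective C.subtype Subtype.val_injective).toEquiv]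
    by_cases hVS : V = S
    · apply Nat.card_le_card_of_injective _ (Subgroup.inclusion_injective (H := (R : Subgroup C).map C.subtype) ?_)
      rintro _ ⟨r, hr, rfl⟩
      exact ⟨hVS ▸ hV ⟨r, hr, rfl⟩, r.2⟩
    · have hxV : x ∈ (V : Subgroup G) :=
        hV ⟨⟨x, Subgroup.mem_centralizer_singleton_iff.mpr rfl⟩, hR ⟨hx, Subgroup.mem_centralizer_singleton_iff.mpr rfl⟩, rfl⟩
      have hxS := ((hcen S x).mp (both V hVS ⟨hx, hxV⟩).1).2
      have : (S : Subgroup G) ≤ C := fun a ha => Subgroup.mem_centralizer_singleton_iff.mpr (hxS a ha)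
      rw [inf_eq_left.mpr this, S.card_eq_multiplicity, ← V.card_eq_multiplicity]
      exact Nat.card_le_card_of_injective _ (Subgroup.inclusion_injective hV)
  refine le_trans ?_ hcardR
  obtain ⟨W, hW⟩ := ((T.2.to_le inf_le_left : IsPGroup 2 ↥((T : Subgroup G) ⊓ C)).comap_of_injective C.subtype Subtype.val_injective).exists_le_sylow
  rw [R.card_eq_multiplicity, ← W.card_eq_multiplicity]
  rw [← Nat.card_congr (Subgroup.subgroupOfEquivOfLe (inf_le_right : (T : Subgroup G) ⊓ C ≤ C)).toEquiv]
  exact Nat.card_le_card_of_injective _ (Subgroup.inclusion_injective hW)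

end Cfsg.Agent.S3183
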