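import Cfsg.Statements.S3190
import Mathlib
import Cfsg.Agent.Perm.MinClass

set_option autoImplicit false
open Cfsg

namespace Cfsg.Agent.S3190

/-- Let p be an odd prime and, inside a finite group, let P be a p-subgroup normalized by a Klein four-group T. Let R be a subgroup of P, normal in P and normalized by T, such that P is the product of R with the centralizer of T in P. If T centralizes the centre of P, then T centralizes the centre of R. -/
theorem result {X : Type*} [Group X] [Finite X]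
    {p : ℕ} (hp : p.Prime) (hodd : Odd p) (P T R : Subgroup X) (hP : IsPGroup p ↥P) (hT : IsKleinFour ↥T)
    (hTP : T ≤ Subgroup.normalizer (P : Set X)) (hRP : R ≤ P) (hRn : (R.subgroupOf P).Normal)
    (hTR : T ≤ Subgroup.normalizer (R : Set X)) (hfac : R ⊔ (P ⊓ Subgroup.centralizer (T : Set X)) = P)
    (hZ : T ≤ Subgroup.centralizer (((Subgroup.center ↥P).map P.subtype : Subgroup X) : Set X)) :
    T ≤ Subgroup.centralizer (((Subgroup.center ↥R).map R.subtype : Subgroup X) : Set X) := by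
  intro t ht
  rw [Subgroup.mem_centralizer_iff]
  rintro z ⟨⟨z0, hz0R⟩, hz0, rfl⟩
  simp only [Subgroup.coe_subtype]
  have hzc : ∀ r ∈ R, r * z0 = z0 * r := fun r hr =>
    congrArg Subtype.val (Subgroup.mem_center_iff.mp hz0 ⟨r, hr⟩)
  by_cases ht1 : t = 1
  · simp [ht1]
  have : Fact p.Prime := ⟨hp⟩
  have ht2 : t * t = 1 := by
    have h := IsKleinFour.mul_self (⟨t, ht⟩ : T)
    exact congrArg Subtype.val h
  have htinv : t⁻¹ = t := inv_eq_of_mul_eq_one_right ht2
  have hconjR : ∀ a ∈ R, t * a * t⁻¹ ∈ R := fun a ha =>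
    (Subgroup.mem_normalizer_iff.mp (hTR ht) a).mp ha
  -- the inverted part of Z(R)
  let M : Subgroup X :=
    { carrier := {a | a ∈ R ∧ (∀ r ∈ R, r * a = a * r) ∧ t * a * t⁻¹ = a⁻¹}
      one_mem' := ⟨one_mem _, by simp, by simp⟩
      mul_mem' := by
        rintro a b ⟨ha, hac, hat⟩ ⟨hb, hbc, hbt⟩
        refine ⟨mul_mem ha hb, fun r hr => by rw [← mul_assoc, hac r hr, mul_assoc, hbc r hr, ← mul_assoc], ?_⟩
        calc t * (a * b) * t⁻¹ = (t * a * t⁻¹) * (t * b * t⁻¹) := by group
          _ = a⁻¹ * b⁻¹ := by rw [hat, hbt]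
          _ = (b * a)⁻¹ := by group
          _ = (a * b)⁻¹ := by rw [hac b hb]
      inv_mem' := by
        rintro a ⟨ha, hac, hat⟩
        refine ⟨inv_mem ha, fun r hr => ?_, ?_⟩
        · calc r * a⁻¹ = a⁻¹ * (a * r) * a⁻¹ := by group
            _ = a⁻¹ * (r * a) * a⁻¹ := by rw [hac r hr]
            _ = a⁻¹ * r := by group
        · calc t * a⁻¹ * t⁻¹ = (t * a * t⁻¹)⁻¹ := by group
            _ = a⁻¹⁻¹ := by rw [hat] }
  have hM : M = ⊥ := by
    by_contra hne
    have hMP : M ≤ P := fun a ha => hRP ha.1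
    have hnormR : P ≤ Subgroup.normalizer (R : Set X) :=
      (Subgroup.normal_subgroupOf_iff_le_normalizer hRP).mp hRn
    have hMn : P ≤ Subgroup.normalizer (M : Set X) := by
      rw [← hfac, sup_le_iff]
      constructor
      · intro r hr
        rw [Subgroup.mem_normalizer_iff]
        intro a
        constructor
        · intro ha
          rw [ha.2.1 r hr]; simpa using ha
        · intro ha
          have h2 := ha.2.1 r hr
          have : r * a * r⁻¹ = a := by
            have h3 : r * (r * a * r⁻¹) * r⁻¹ = r * a * r⁻¹ := by rw [h2]; group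
            have := mul_left_cancel (mul_right_cancel h3)
            exact this
          rwa [this] at ha
      · intro c hc
        have hct : t * c = c * t := Subgroup.mem_centralizer_iff.mp hc.2 t ht
        rw [Subgroup.mem_normalizer_iff]
        have hcR := Subgroup.mem_normalizer_iff.mp (hnormR hc.1)
        have hct2 : t * c * t⁻¹ = c := by rw [hct]; group
        have key : ∀ d : X, t * d * t⁻¹ = d → (∀ a, a ∈ R ↔ d * a * d⁻¹ ∈ R) → ∀ a ∈ M, d * a * d⁻¹ ∈ M := by
          rintro d hd hdR a ⟨ha, hac, hat⟩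
          refine ⟨(hdR a).mp ha, fun r hr => ?_, ?_⟩
          · have hr2 : d⁻¹ * r * d ∈ R := (hdR _).mpr (by simpa [mul_assoc] using hr)
            calc r * (d * a * d⁻¹) = d * ((d⁻¹ * r * d) * a) * d⁻¹ := by group
              _ = d * (a * (d⁻¹ * r * d)) * d⁻¹ := by rw [hac _ hr2]
              _ = d * a * d⁻¹ * r := by group
          · calc t * (d * a * d⁻¹) * t⁻¹ = (t * d * t⁻¹) * (t * a * t⁻¹) * (t * d * t⁻¹)⁻¹ := by group
              _ = d * a⁻¹ * d⁻¹ := by rw [hd, hat]
              _ = (d * a * d⁻¹)⁻¹ := by group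
        intro a
        refine ⟨key c hct2 hcR a, fun ha => ?_⟩
        have := key c⁻¹ (by rw [show t * c⁻¹ * t⁻¹ = (t * c * t⁻¹)⁻¹ by group, hct2])
          (fun a => by rw [inv_inv]; rw [hcR (c⁻¹ * a * c)]; simp [mul_assoc]) _ ha
        simpa [mul_assoc] using this
    set M' : Subgroup P := M.subgroupOf P with hM'
    have : M'.Normal := (Subgroup.normal_subgroupOf_iff_le_normalizer hMP).mpr hMn
    have hMne : M' ≠ ⊥ := fun h => hne (le_bot_iff.mp ((Subgroup.subgroupOf_eq_bot.mp h).le_bot.trans_eq rfl |> fun h' => by rwa [inf_eq_left.mpr hMP] at h'))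
    obtain ⟨a, ha, ha1⟩ := (M' ⊓ Subgroup.center P).bot_or_exists_ne_one.resolve_left (CfsgLib.Perm.inf_center_ne_bot hP _ hMne)
    obtain ⟨⟨haR, -, hat⟩, haZ⟩ := ha
    have h1 : (a : X) * t = t * (a : X) := Subgroup.mem_centralizer_iff.mp (hZ ht) _ ⟨a, haZ, rfl⟩
    have h2 : (a : X) * (a : X) = 1 := by
      have : t * (a : X) * t⁻¹ = a := by rw [← h1]; group
      have hat' : t * (a : X) * t⁻¹ = (a : X)⁻¹ := hat
      rw [this] at hat'
      nth_rewrite 1 [hat']; simp
    apply ha1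
    have ho : orderOf a ∣ 2 := orderOf_dvd_of_pow_eq_one (by rw [sq]; exact Subtype.ext h2)
    obtain ⟨k, hk⟩ := IsPGroup.iff_orderOf.mp hP a
    rcases (Nat.dvd_prime Nat.prime_two).mp ho with h | h
    · exact orderOf_eq_one_iff.mp h
    · exfalso
      rw [hk] at h
      have : Odd (p ^ k) := hodd.pow
      rw [h] at this
      exact absurd this (by decide)
  have hmem : z0⁻¹ * (t * z0 * t⁻¹) ∈ M := by
    have hb := hconjR z0 hz0R
    refine ⟨mul_mem (inv_mem hz0R) hb, fun r hr => ?_, ?_⟩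
    · have hbc : r * (t * z0 * t⁻¹) = t * z0 * t⁻¹ * r := by
        have hr2 : t * r * t⁻¹ ∈ R := hconjR r hr
        calc r * (t * z0 * t⁻¹) = t * ((t⁻¹ * r * t) * z0) * t⁻¹ := by group
          _ = t * (z0 * (t⁻¹ * r * t)) * t⁻¹ := by rw [hzc _ (by rw [htinv]; rw [htinv] at hr2; exact hr2)]
          _ = t * z0 * t⁻¹ * r := by group
      have hzi : r * z0⁻¹ = z0⁻¹ * r := by
        calc r * z0⁻¹ = z0⁻¹ * (z0 * r) * z0⁻¹ := by group
          _ = z0⁻¹ * (r * z0) * z0⁻¹ := by rw [hzc r hr]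
          _ = z0⁻¹ * r := by group
      rw [← mul_assoc, hzi, mul_assoc, hbc, ← mul_assoc]
    · rw [htinv]
      calc t * (z0⁻¹ * (t * z0 * t)) * t = (t * z0⁻¹ * t) * z0 * (t * t) := by group
        _ = (t * z0 * t⁻¹)⁻¹ * z0 := by rw [ht2, mul_one, mul_inv_rev, mul_inv_rev, inv_inv, htinv, mul_assoc t z0⁻¹ t]
        _ = (z0⁻¹ * (t * z0 * t))⁻¹ := by rw [htinv]; group
  rw [hM, Subgroup.mem_bot, inv_mul_eq_one] at hmem
  calc z0 * t = t * z0 * t⁻¹ * t := by rw [← hmem]
    _ = t * z0 := by group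

end Cfsg.Agent.S3190
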