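import Cfsg.Statements.S3196
import Mathlib.GroupTheory.PGroup
import Mathlib.Algebra.Group.Subgroup.Pointwise
import Mathlib.GroupTheory.Sylow
import Mathlib.FieldTheory.Finite.Basic
-- import your own Cfsg.Agent.* helpers here

set_option autoImplicit false
set_option linter.style.haveILetI false
open Cfsg

namespace Cfsg.Agent.S3196

variable {G : Type*} [Group G] {p : ℕ}

theorem comm_of_normalize (hp : p.Prime) {x w : G} (hx : x ^ p = 1) (hw : orderOf w = p)
    (h : x * w * x⁻¹ ∈ Subgroup.zpowers w) : x * w = w * x := by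
  haveI : Fact p.Prime := ⟨hp⟩
  obtain ⟨k, hk⟩ := Subgroup.mem_zpowers_iff.mp h
  have hiter : ∀ j : ℕ, x ^ j * w * (x ^ j)⁻¹ = w ^ (k ^ j) := by
    intro j
    induction j with
    | zero => simp
    | succ j ih =>
      calc x ^ (j + 1) * w * (x ^ (j + 1))⁻¹ = x * (x ^ j * w * (x ^ j)⁻¹) * x⁻¹ := by
            rw [pow_succ']; group
        _ = (x * w * x⁻¹) ^ (k ^ j) := by rw [ih, conj_zpow]
        _ = w ^ (k ^ (j + 1)) := by rw [← hk, ← zpow_mul, pow_succ']
  have h1 := hiter p
  rw [hx] at h1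
  simp only [one_mul, inv_one, mul_one] at h1
  have h2 : w ^ (k ^ p - 1) = 1 := by rw [zpow_sub, ← h1]; group
  have h3 := orderOf_dvd_iff_zpow_eq_one.mpr h2
  rw [hw, ← ZMod.intCast_zmod_eq_zero_iff_dvd, Int.cast_sub, Int.cast_pow, ZMod.pow_card,
    Int.cast_one, ← Int.cast_one, ← Int.cast_sub, ZMod.intCast_zmod_eq_zero_iff_dvd, ← hw,
    orderOf_dvd_iff_zpow_eq_one, zpow_sub, mul_inv_eq_one, zpow_one, hk] at h3
  calc x * w = x * w * x⁻¹ * x := by group
    _ = w * x := by rw [h3]

theorem ord_of_mem (hp : p.Prime) [Finite G] {X : Subgroup G} (hX : Nat.card X = p) {x : G} (hx : x ∈ X)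
    (hx1 : x ≠ 1) : orderOf x = p ∧ Subgroup.zpowers x = X := by
  have h : orderOf x ∣ p := by
    have := orderOf_dvd_natCard (⟨x, hx⟩ : X)
    rwa [Subgroup.orderOf_mk, hX] at this
  have ho : orderOf x = p := ((Nat.dvd_prime hp).mp h).resolve_left
    (fun h1 => hx1 (orderOf_eq_one_iff.mp h1))
  refine ⟨ho, Subgroup.eq_of_le_of_card_ge (Subgroup.zpowers_le.mpr hx) ?_⟩
  rw [Nat.card_zpowers, ho, hX]

theorem exists_gen (hp : p.Prime) [Finite G] {X : Subgroup G} (hX : Nat.card X = p) :
    ∃ x ∈ X, x ≠ 1 := by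
  by_contra h
  push Not at h
  have : X = ⊥ := (Subgroup.eq_bot_iff_forall X).mpr h
  rw [this, Subgroup.card_bot] at hX
  exact hp.one_lt.ne hX

/-- the two subgroups commute -/
def Comm' (A B : Subgroup G) : Prop := ∀ a ∈ A, ∀ b ∈ B, a * b = b * a

theorem Comm'.symm' {A B : Subgroup G} (h : Comm' A B) : Comm' B A := fun b hb a ha => (h a ha b hb).symm

theorem comm'_zpowers {A : Subgroup G} {b : G} (h : ∀ a ∈ A, a * b = b * a) :
    Comm' A (Subgroup.zpowers b) := by
  intro a ha c hc
  obtain ⟨i, rfl⟩ := Subgroup.mem_zpowers_iff.mp hc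
  exact (Commute.zpow_right (h a ha) i).eq

theorem mem_sup_comm {A B : Subgroup G} (h : Comm' A B) {z : G} (hz : z ∈ A ⊔ B) :
    ∃ a ∈ A, ∃ b ∈ B, z = a * b := by
  rw [← SetLike.mem_coe, Subgroup.coe_mul_of_left_le_normalizer_right] at hz
  · obtain ⟨a, ha, b, hb, rfl⟩ := hz
    exact ⟨a, ha, b, hb, rfl⟩
  · intro a ha
    rw [Subgroup.mem_normalizer_iff]
    intro b
    constructor
    · intro hb; rw [h a ha b hb]; simpa using hb
    · intro hb
      have := h a ha _ hb
      have e : a * b * a⁻¹ = b := by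
        have h2 : a * (a * b * a⁻¹) = a * b := by rw [this]; group
        exact mul_left_cancel h2
      rwa [e] at hb

theorem comm_of_sup {A B : Subgroup G} {g : G} (ha : ∀ a ∈ A, a * g = g * a)
    (hb : ∀ b ∈ B, b * g = g * b) {z : G} (hz : z ∈ A ⊔ B) : z * g = g * z := by
  have : A ⊔ B ≤ Subgroup.centralizer ({g} : Set G) :=
    sup_le (fun a h => Subgroup.mem_centralizer_singleton_iff.mpr (ha a h))
      (fun b h => Subgroup.mem_centralizer_singleton_iff.mpr (hb b h))
  exact Subgroup.mem_centralizer_singleton_iff.mp (this hz)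

theorem pow_eq_one_sup (hp : p.Prime) [Finite G] {A B : Subgroup G} (hA : Nat.card A = p)
    (hB : Nat.card B = p) (h : Comm' A B) {z : G} (hz : z ∈ A ⊔ B) : z ^ p = 1 := by
  obtain ⟨a, ha, b, hb, rfl⟩ := mem_sup_comm h hz
  have h1 : ∀ {C : Subgroup G}, Nat.card C = p → ∀ c ∈ C, c ^ p = 1 := fun {C} hC c hc => by
    have := pow_card_eq_one' (x := (⟨c, hc⟩ : C))
    rw [hC] at this
    exact congrArg Subtype.val this
  rw [(show Commute a b from h a ha b hb).mul_pow, h1 hA a ha, h1 hB b hb, one_mul]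

theorem line_eq (hp : p.Prime) [Finite G] {A B C D : Subgroup G} (hA : Nat.card A = p)
    (hB : Nat.card B = p) (h : Comm' A B) (hC : Nat.card C = p) (hD : Nat.card D = p) (hne : C ≠ D)
    (hCl : C ≤ A ⊔ B) (hDl : D ≤ A ⊔ B) : C ⊔ D = A ⊔ B := by
  haveI : Fact p.Prime := ⟨hp⟩
  refine Subgroup.eq_of_le_of_card_ge (sup_le hCl hDl) ?_
  have hle : Nat.card (A ⊔ B : Subgroup G) ≤ p * p := by
    have hs : Function.Surjective (fun q : A × B => (⟨(q.1 : G) * (q.2 : G),
        Subgroup.mul_mem_sup q.1.2 q.2.2⟩ : (A ⊔ B : Subgroup G))) := by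
      rintro ⟨z, hz⟩
      obtain ⟨a, ha, b, hb, rfl⟩ := mem_sup_comm h hz
      exact ⟨(⟨a, ha⟩, ⟨b, hb⟩), rfl⟩
    have := Nat.card_le_card_of_surjective _ hs
    rwa [Nat.card_prod, hA, hB] at this
  have hpg : IsPGroup p (C ⊔ D : Subgroup G) := fun z =>
    ⟨1, Subtype.ext (by rw [pow_one]; exact pow_eq_one_sup hp hA hB h (sup_le hCl hDl z.2))⟩
  obtain ⟨j, hj⟩ := hpg.exists_card_eq
  have hj2 : 2 ≤ j := by
    by_contra hlt
    have hle1 : Nat.card (C ⊔ D : Subgroup G) ≤ p := by
      rw [hj]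
      calc p ^ j ≤ p ^ 1 := Nat.pow_le_pow_right hp.pos (by omega)
        _ = p := pow_one p
    apply hne
    have e1 := Subgroup.eq_of_le_of_card_ge (le_sup_left : C ≤ C ⊔ D) (by omega)
    have e2 := Subgroup.eq_of_le_of_card_ge (le_sup_right : D ≤ C ⊔ D) (by omega)
    exact e1.trans e2.symm
  calc Nat.card (A ⊔ B : Subgroup G) ≤ p * p := hle
    _ = p ^ 2 := (sq p).symm
    _ ≤ p ^ j := Nat.pow_le_pow_right hp.pos hj2
    _ = _ := hj.symm

end Cfsg.Agent.S3196

namespace Cfsg.Agent.S3196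

/-- Let p be a prime and K a set of subgroups of order p of a finite group G, closed under conjugation, such that at least two distinct members of K commute elementwise, and whenever two distinct members X, Y of K commute: every subgroup of order p of the group XY they generate belongs to K, and every member W of K has centralizer meeting XY nontrivially. Then some member V of K commutes elementwise with every member of K and lies in O_p(G); in particular G is not simple. -/
theorem result {G : Type*} [Group G] [Finite G]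
    {p : ℕ} (hp : p.Prime) (K : Set (Subgroup G)) (hK : ∀ X ∈ K, Nat.card ↥X = p)
    (hKc : ∀ X ∈ K, ∀ g : G, X.map (MulAut.conj g).toMonoidHom ∈ K)
    (hex : ∃ X ∈ K, ∃ Y ∈ K, X ≠ Y ∧ ∀ x ∈ X, ∀ y ∈ Y, x * y = y * x)
    (ha : ∀ X ∈ K, ∀ Y ∈ K, X ≠ Y → (∀ x ∈ X, ∀ y ∈ Y, x * y = y * x) →
      ∀ Z : Subgroup G, Z ≤ X ⊔ Y → Nat.card ↥Z = p → Z ∈ K)
    (hb : ∀ X ∈ K, ∀ Y ∈ K, X ≠ Y → (∀ x ∈ X, ∀ y ∈ Y, x * y = y * x) →
      ∀ W ∈ K, (X ⊔ Y) ⊓ Subgroup.centralizer (W : Set G) ≠ ⊥) :
    (∃ V ∈ K, (∀ W ∈ K, ∀ v ∈ V, ∀ w ∈ W, v * w = w * v) ∧ V ≤ Cfsg.pCore p G) ∧ ¬ IsSimpleGroup G := by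
  classical
  haveI : Fact p.Prime := ⟨hp⟩
  have hconj : ∀ X ∈ K, ∀ x ∈ X, ∀ g : G, x ≠ 1 → Subgroup.zpowers (g * x * g⁻¹) ∈ K := by
    intro X hX x hx g hx1
    have := hKc X hX g
    rw [← (ord_of_mem hp (hK X hX) hx hx1).2] at this
    rwa [show Subgroup.zpowers (g * x * g⁻¹) = (Subgroup.zpowers x).map (MulAut.conj g).toMonoidHom
      from (MonoidHom.map_zpowers (MulAut.conj g).toMonoidHom x).symm]
  -- a point of a line perpendicular to a given point
  have getPoint : ∀ X ∈ K, ∀ Y ∈ K, X ≠ Y → Comm' X Y → ∀ W ∈ K, ∃ z ∈ X ⊔ Y, z ≠ 1 ∧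
      Subgroup.zpowers z ∈ K ∧ ∀ w ∈ W, w * z = z * w := by
    intro X hX Y hY hne hXY W hW
    obtain ⟨z, hz, hz1⟩ : ∃ z ∈ (X ⊔ Y) ⊓ Subgroup.centralizer (W : Set G), z ≠ 1 := by
      by_contra h
      push Not at h
      exact hb X hX Y hY hne hXY W hW ((Subgroup.eq_bot_iff_forall _).mpr h)
    obtain ⟨hzl, hzc⟩ := Subgroup.mem_inf.mp hz
    refine ⟨z, hzl, hz1, ha X hX Y hY hne hXY _ (Subgroup.zpowers_le.mpr hzl) ?_, fun w hw =>
      Subgroup.mem_centralizer_iff.mp hzc w hw⟩
    rw [Nat.card_zpowers]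
    exact orderOf_eq_prime (pow_eq_one_sup hp (hK X hX) (hK Y hY) hXY hzl) hz1
  have core : ∃ V ∈ K, ∀ W ∈ K, Comm' V W := by
    by_contra hno
    push Not at hno
    let perp : Subgroup G → Finset (Subgroup G) := fun X =>
      (Set.toFinite {S | S ∈ K ∧ Comm' X S}).toFinset
    have memperp : ∀ X S, S ∈ perp X ↔ S ∈ K ∧ Comm' X S := fun X S => by simp [perp]
    let Pts := {X : Subgroup G | X ∈ K ∧ ∃ Y ∈ K, X ≠ Y ∧ Comm' X Y}
    obtain ⟨X, hXP, hmax⟩ := Set.exists_max_image Pts (fun X => (perp X).card) (Set.toFinite _)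
      (by obtain ⟨X, hX, Y, hY, hne, hc⟩ := hex; exact ⟨X, hX, Y, hY, hne, hc⟩)
    obtain ⟨hX, Y₀, hY₀, hXY₀, hc₀⟩ := hXP
    obtain ⟨W, hW, hXW⟩ := hno X hX
    obtain ⟨x, hx, hx1⟩ := exists_gen hp (hK X hX)
    obtain ⟨w, hw, hw1⟩ := exists_gen hp (hK W hW)
    obtain ⟨hxo, hxz⟩ := ord_of_mem hp (hK X hX) hx hx1
    obtain ⟨hwo, hwz⟩ := ord_of_mem hp (hK W hW) hw hw1
    have hxw : x * w ≠ w * x := by
      intro h
      apply hXW
      rw [← hxz, ← hwz]
      intro a ha b hb
      obtain ⟨i, rfl⟩ := Subgroup.mem_zpowers_iff.mp ha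
      obtain ⟨j, rfl⟩ := Subgroup.mem_zpowers_iff.mp hb
      exact (Commute.zpow_zpow h i j).eq
    obtain ⟨z, hzl, hz1, hzK, hzW⟩ := getPoint X hX Y₀ hY₀ hXY₀ hc₀ W hW
    have hwzc : w * z = z * w := hzW w hw
    have hXXc : Comm' X X := by
      rw [← hxz]
      intro a ha b hb
      obtain ⟨i, rfl⟩ := Subgroup.mem_zpowers_iff.mp ha
      obtain ⟨j, rfl⟩ := Subgroup.mem_zpowers_iff.mp hb
      exact zpow_mul_comm x i j
    have hxzc : ∀ a ∈ X, a * z = z * a := fun a ha =>
      (comm_of_sup (fun b hb => hXXc b hb a ha) (fun b hb => (hc₀ a ha b hb).symm) hzl).symm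
    have hznX : z ∉ X := fun h => hxw (by
      rw [← (ord_of_mem hp (hK X hX) h hz1).2] at hx
      obtain ⟨i, rfl⟩ := Subgroup.mem_zpowers_iff.mp hx
      exact (Commute.zpow_left (show Commute z w from hwzc.symm) i).eq)
    have hXZne : X ≠ Subgroup.zpowers z := fun h => hznX (h ▸ Subgroup.mem_zpowers z)
    have hXZ : Comm' X (Subgroup.zpowers z) := comm'_zpowers hxzc
    -- the third point on the line
    set y := x * z with hy
    have hyl : y ∈ X ⊔ Subgroup.zpowers z := Subgroup.mul_mem_sup hx (Subgroup.mem_zpowers z)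
    have hy1 : y ≠ 1 := fun h => hznX (by
      have : z = x⁻¹ := eq_inv_of_mul_eq_one_right h
      rw [this]; exact inv_mem hx)
    have hzc : Nat.card (Subgroup.zpowers z) = p := hK _ hzK
    have hYK : Subgroup.zpowers y ∈ K := ha X hX _ hzK hXZne hXZ _ (Subgroup.zpowers_le.mpr hyl) (by
      rw [Nat.card_zpowers]
      exact orderOf_eq_prime (pow_eq_one_sup hp (hK X hX) hzc hXZ hyl) hy1)
    have hyw : y * w * y⁻¹ = x * w * x⁻¹ := by
      rw [hy, show x * z * w * (x * z)⁻¹ = x * (z * w) * z⁻¹ * x⁻¹ by group, ← hwzc]; group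
    have hxp : x ^ p = 1 := by rw [← hxo, pow_orderOf_eq_one]
    set w' := x * w * x⁻¹ with hw'
    have hw'K : Subgroup.zpowers w' ∈ K := hconj W hW w hw x hw1
    have hw'W : w' ∉ W := fun h => hxw (comm_of_normalize hp hxp hwo (by rw [hwz]; exact h))
    have hWW' : W ≠ Subgroup.zpowers w' := fun h => hw'W (h ▸ Subgroup.mem_zpowers w')
    by_cases hcase : w * w' = w' * w
    · -- the two conjugates commute
      have hWW'c : Comm' W (Subgroup.zpowers w') := comm'_zpowers fun a ha => by
        rw [← hwz] at ha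
        obtain ⟨i, rfl⟩ := Subgroup.mem_zpowers_iff.mp ha
        exact (Commute.zpow_left (show Commute w w' from hcase) i).eq
      obtain ⟨π, hπl, hπ1, hπK, hπX⟩ := getPoint W hW _ hw'K hWW' hWW'c X hX
      have hπx : x * π = π * x := hπX x hx
      have hπw : w * π = π * w := (comm_of_sup (fun a ha => by
          rw [← hwz] at ha
          obtain ⟨i, rfl⟩ := Subgroup.mem_zpowers_iff.mp ha
          exact (zpow_mul_comm w i 1).trans (by rw [zpow_one]) |> fun h => by simpa using h)
        (fun b hb => (hWW'c w hw b hb).symm) hπl).symm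
      have hWP : W ≠ Subgroup.zpowers π := fun h => hxw (by
        rw [h] at hw
        obtain ⟨i, rfl⟩ := Subgroup.mem_zpowers_iff.mp hw
        exact (Commute.zpow_right (show Commute x π from hπx) i).eq)
      have hWPc : Comm' W (Subgroup.zpowers π) := comm'_zpowers fun a ha => by
        rw [← hwz] at ha
        obtain ⟨i, rfl⟩ := Subgroup.mem_zpowers_iff.mp ha
        exact (Commute.zpow_left (show Commute w π from hπw) i).eq
      have hWPl : W ⊔ Subgroup.zpowers π = W ⊔ Subgroup.zpowers w' :=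
        line_eq hp (hK W hW) (hK _ hw'K) hWW'c (hK W hW) (hK _ hπK) hWP le_sup_left
          (Subgroup.zpowers_le.mpr hπl)
      obtain ⟨S, hS, hPS⟩ := hno _ hπK
      apply hPS
      have hXP : X ≠ Subgroup.zpowers π := fun h => hxw (by
        rw [h] at hx
        obtain ⟨i, rfl⟩ := Subgroup.mem_zpowers_iff.mp hx
        exact (Commute.zpow_left (show Commute π w from hπw.symm) i).eq)
      have hXPc : Comm' X (Subgroup.zpowers π) := comm'_zpowers hπX
      obtain ⟨r, hrl, hr1, hrK, hrS⟩ := getPoint X hX _ hπK hXP hXPc S hS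
      obtain ⟨q, hql, hq1, hqK, hqS⟩ := getPoint W hW _ hπK hWP hWPc S hS
      obtain ⟨a, ha, b, hb, hrab⟩ := mem_sup_comm hXPc hrl
      refine fun c hc s hs => ?_
      obtain ⟨i, rfl⟩ := Subgroup.mem_zpowers_iff.mp hc
      refine (Commute.zpow_left (show Commute π s from ?_) i).eq
      by_cases hqP : q ∈ Subgroup.zpowers π
      · have hm : π ∈ Subgroup.zpowers q := by
          rw [(ord_of_mem hp (hK _ hπK) hqP hq1).2]
          exact Subgroup.mem_zpowers π
        obtain ⟨j, hj⟩ := Subgroup.mem_zpowers_iff.mp hm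
        rw [← hj]
        exact Commute.zpow_left (hqS s hs).symm j
      by_cases hrP : r ∈ Subgroup.zpowers π
      · have hm : π ∈ Subgroup.zpowers r := by
          rw [(ord_of_mem hp (hK _ hπK) hrP hr1).2]
          exact Subgroup.mem_zpowers π
        obtain ⟨j, hj⟩ := Subgroup.mem_zpowers_iff.mp hm
        rw [← hj]
        exact Commute.zpow_left (hrS s hs).symm j
      -- r moves q
      have ha1 : a ≠ 1 := fun h => hrP (by rw [hrab, h, one_mul]; exact hb)
      obtain ⟨c', hc', d', hd', hqcd⟩ := mem_sup_comm hWPc hql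
      have hc1 : c' ≠ 1 := fun h => hqP (by rw [hqcd, h, one_mul]; exact hd')
      have hlinv : ∀ v ∈ W ⊔ Subgroup.zpowers π, x * v * x⁻¹ ∈ W ⊔ Subgroup.zpowers π := by
        intro v hv
        obtain ⟨a1, ha1', b1, hb1, rfl⟩ := mem_sup_comm hWPc hv
        rw [← hwz] at ha1'
        obtain ⟨i, rfl⟩ := Subgroup.mem_zpowers_iff.mp ha1'
        rw [show x * (w ^ i * b1) * x⁻¹ = (x * w ^ i * x⁻¹) * (x * b1 * x⁻¹) by group, ← conj_zpow]
        refine mul_mem ?_ ?_
        · rw [hWPl]; exact Subgroup.zpow_mem _ (Subgroup.mem_sup_right (Subgroup.mem_zpowers w')) i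
        · rw [hπX x hx |> fun _ => (hXPc x hx b1 hb1)]
          simpa using Subgroup.mem_sup_right (S := W) hb1
      have hlinv' : ∀ (n : ℕ), ∀ v ∈ W ⊔ Subgroup.zpowers π,
          x ^ n * v * (x ^ n)⁻¹ ∈ W ⊔ Subgroup.zpowers π := by
        intro n
        induction n with
        | zero => intro v hv; simpa using hv
        | succ n ih =>
          intro v hv
          rw [show x ^ (n + 1) * v * (x ^ (n + 1))⁻¹ = x * (x ^ n * v * (x ^ n)⁻¹) * x⁻¹ by
            rw [pow_succ']; group]
          exact hlinv _ (ih v hv)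
      have hrq : r * q * r⁻¹ ∈ W ⊔ Subgroup.zpowers π := by
        rw [← hxz] at ha
        obtain ⟨n, rfl⟩ := mem_powers_iff_mem_zpowers.mpr ha
        have hbq : b * q = q * b := (comm_of_sup (fun e he => hWPc e he b hb)
          (fun e he => by
            obtain ⟨i1, rfl⟩ := Subgroup.mem_zpowers_iff.mp he
            obtain ⟨i2, rfl⟩ := Subgroup.mem_zpowers_iff.mp hb
            exact zpow_mul_comm π i1 i2) hql).symm
        rw [hrab, show x ^ n * b * q * (x ^ n * b)⁻¹ = x ^ n * (b * q * b⁻¹) * (x ^ n)⁻¹ by group,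
          hbq, mul_inv_cancel_right]
        exact hlinv' n q hql
      have hne2 : Subgroup.zpowers q ≠ Subgroup.zpowers (r * q * r⁻¹) := by
        intro h
        have hqo : orderOf q = p := orderOf_eq_prime (pow_eq_one_sup hp (hK W hW) (hK _ hπK) hWPc hql) hq1
        have hcm := comm_of_normalize hp (pow_eq_one_sup hp (hK X hX) (hK _ hπK) hXPc hrl) hqo
          (h ▸ Subgroup.mem_zpowers _)
        -- then a and c' commute
        apply hxw
        have hac : a * c' = c' * a := by
          have e1 : Commute b q := (comm_of_sup (fun e he => hWPc e he b hb)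
            (fun e he => by
              obtain ⟨i1, rfl⟩ := Subgroup.mem_zpowers_iff.mp he
              obtain ⟨i2, rfl⟩ := Subgroup.mem_zpowers_iff.mp hb
              exact zpow_mul_comm π i1 i2) hql).symm
          have e2 : Commute a q := by
            have : a = r * b⁻¹ := by rw [hrab]; group
            rw [this]
            exact Commute.mul_left hcm e1.inv_left
          have e3 : Commute a d' := hXPc a ha d' hd'
          have : c' = q * d'⁻¹ := by rw [hqcd]; group
          rw [this]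
          exact (Commute.mul_right e2 e3.inv_right).eq
        rw [← (ord_of_mem hp (hK X hX) ha ha1).2] at hx
        rw [← (ord_of_mem hp (hK W hW) hc' hc1).2] at hw
        obtain ⟨i1, rfl⟩ := Subgroup.mem_zpowers_iff.mp hx
        obtain ⟨i2, rfl⟩ := Subgroup.mem_zpowers_iff.mp hw
        exact (Commute.zpow_zpow hac i1 i2).eq
      have hlq := line_eq hp (hK W hW) (hK _ hπK) hWPc (hK _ hqK)
        (hK _ (hconj _ hqK q (Subgroup.mem_zpowers q) r hq1)) hne2
        (Subgroup.zpowers_le.mpr hql) (Subgroup.zpowers_le.mpr hrq)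
      have hπin : π ∈ Subgroup.zpowers q ⊔ Subgroup.zpowers (r * q * r⁻¹) := by
        rw [hlq]; exact Subgroup.mem_sup_right (Subgroup.mem_zpowers π)
      refine comm_of_sup (g := s) (fun e he => ?_) (fun e he => ?_) hπin
      · obtain ⟨i1, rfl⟩ := Subgroup.mem_zpowers_iff.mp he
        exact (Commute.zpow_left (show Commute q s from (hqS s hs).symm) i1).eq
      · obtain ⟨i1, rfl⟩ := Subgroup.mem_zpowers_iff.mp he
        refine (Commute.zpow_left ?_ i1).eq
        have h1 : Commute r s := (hrS s hs).symm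
        have h2 : Commute q s := (hqS s hs).symm
        exact (h1.mul_left h2).mul_left h1.inv_left
    · -- the generic case
      have claim : ∀ V ∈ K, Comm' X V → Comm' W V → ∀ v ∈ V, y * v = v * y := by
        intro V hV hXV hWV v hv
        have hne : W ≠ V := fun h => hXW (h ▸ hXV)
        obtain ⟨m, hml, hm1, hmK, hmY⟩ := getPoint W hW V hV hne hWV _ hYK
        have hmy : y * m = m * y := hmY y (Subgroup.mem_zpowers y)
        by_cases hmV : m ∈ V
        · rw [← (ord_of_mem hp (hK V hV) hmV hm1).2] at hv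
          obtain ⟨i, rfl⟩ := Subgroup.mem_zpowers_iff.mp hv
          exact (Commute.zpow_right (show Commute y m from hmy) i).eq
        exfalso
        apply hcase
        have hne' : V ≠ Subgroup.zpowers m := fun h => hmV (h ▸ Subgroup.mem_zpowers m)
        have hl := line_eq hp (hK W hW) (hK V hV) hWV (hK V hV) (hK _ hmK) hne' le_sup_right
          (Subgroup.zpowers_le.mpr hml)
        have hwm : w * m = m * w := (comm_of_sup (fun a ha => by
            rw [← hwz] at ha
            obtain ⟨i, rfl⟩ := Subgroup.mem_zpowers_iff.mp ha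
            exact (Commute.self_zpow w i).eq.symm)
          (fun b hb => (hWV w hw b hb).symm) hml).symm
        refine comm_of_sup (g := w') (fun a ha => ?_) (fun a ha => ?_)
          (hl.symm ▸ Subgroup.mem_sup_left hw : w ∈ V ⊔ Subgroup.zpowers m)
        · have h1 : Commute a x := (hXV x hx a ha).symm
          have h2 : Commute a w := (hWV w hw a ha).symm
          exact (h1.mul_right h2).mul_right h1.inv_right
        · obtain ⟨i, rfl⟩ := Subgroup.mem_zpowers_iff.mp ha
          refine (Commute.zpow_left ?_ i).eq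
          rw [← hyw]
          exact ((show Commute m y from hmy.symm).mul_right hwm.symm).mul_right
            (show Commute m y from hmy.symm).inv_right
      have hsub : perp X ⊂ perp (Subgroup.zpowers z) := by
        have hWin : W ∈ perp (Subgroup.zpowers z) := (memperp _ _).mpr
          ⟨hW, (comm'_zpowers hzW).symm'⟩
        have hWout : W ∉ perp X := fun h => hXW ((memperp _ _).mp h).2
        refine (Finset.ssubset_iff_of_subset ?_).mpr ⟨W, hWin, hWout⟩
        intro S hSp
        obtain ⟨hS, hXS⟩ := (memperp _ _).mp hSp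
        refine (memperp _ _).mpr ⟨hS, ?_⟩
        suffices hYS : ∀ e ∈ S, y * e = e * y by
          refine (comm'_zpowers fun e he => ?_).symm'
          have h1 : Commute e x := (hXS x hx e he).symm
          have h2 : Commute e y := (hYS e he).symm
          have : z = x⁻¹ * y := by rw [hy]; group
          rw [this]
          exact (h1.inv_right.mul_right h2).eq
        intro e he
        have hxy : Commute y x := (show Commute x x from Commute.refl x).mul_left
          (hxzc x hx).symm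
        by_cases hSX : S = X
        · subst hSX
          rw [← hxz] at he
          obtain ⟨i, rfl⟩ := Subgroup.mem_zpowers_iff.mp he
          exact (hxy.zpow_right i).eq
        obtain ⟨r, hrl, hr1, hrK, hrW⟩ := getPoint X hX S hS (Ne.symm hSX) hXS W hW
        have hrne : X ≠ Subgroup.zpowers r := fun h => hXW (h ▸ (comm'_zpowers hrW).symm')
        have hl := line_eq hp (hK X hX) (hK S hS) hXS (hK X hX) (hK _ hrK) hrne le_sup_left
          (Subgroup.zpowers_le.mpr hrl)
        have hrX : Comm' X (Subgroup.zpowers r) := comm'_zpowers fun a ha =>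
          (comm_of_sup (fun b hb => hXXc b hb a ha) (fun b hb => (hXS a ha b hb).symm) hrl).symm
        refine (comm_of_sup (g := y) (fun a ha => ?_) (fun a ha => ?_)
          (hl.symm ▸ Subgroup.mem_sup_right he : e ∈ X ⊔ Subgroup.zpowers r)).symm
        · rw [← hxz] at ha
          obtain ⟨i, rfl⟩ := Subgroup.mem_zpowers_iff.mp ha
          exact (hxy.zpow_right i).eq.symm
        · exact (claim _ hrK hrX (comm'_zpowers hrW) a ha).symm
      have := hmax (Subgroup.zpowers z) ⟨hzK, X, hX, hXZne.symm, hXZ.symm'⟩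
      exact absurd this (not_le.mpr (Finset.card_lt_card hsub))
  obtain ⟨V, hV, hVc⟩ := core
  set U := sSup {V : Subgroup G | V ∈ K ∧ ∀ W ∈ K, Comm' V W} with hU
  have hUn : U.Normal := by
    constructor
    intro n hn g
    have : U.map (MulAut.conj g).toMonoidHom ≤ U := by
      rw [hU, sSup_eq_iSup, Subgroup.map_iSup]
      refine iSup_le fun A => ?_
      rw [Subgroup.map_iSup]
      refine iSup_le fun hA => ?_
      rw [← sSup_eq_iSup]
      refine le_sSup ⟨hKc A hA.1 g, fun W hW a ha w hw => ?_⟩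
      obtain ⟨a0, ha0, rfl⟩ := Subgroup.mem_map.mp ha
      have hw0 : g⁻¹ * w * g ∈ W.map (MulAut.conj g⁻¹).toMonoidHom := ⟨w, hw, by simp⟩
      have := hA.2 _ (hKc W hW g⁻¹) a0 ha0 _ hw0
      show g * a0 * g⁻¹ * w = w * (g * a0 * g⁻¹)
      calc g * a0 * g⁻¹ * w = g * (a0 * (g⁻¹ * w * g)) * g⁻¹ := by group
        _ = g * (g⁻¹ * w * g * a0) * g⁻¹ := by rw [this]
        _ = w * (g * a0 * g⁻¹) := by group
    exact this ⟨n, hn, rfl⟩
  have hUcomm : ∀ u ∈ U, ∀ v ∈ U, u * v = v * u := by
    have h1 : ∀ W ∈ K, (∀ S ∈ K, Comm' W S) → U ≤ Subgroup.centralizer (W : Set G) := fun W hW hWc =>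
      sSup_le fun A hA => fun a ha => Subgroup.mem_centralizer_iff.mpr fun w hw =>
        (hA.2 W hW a ha w hw).symm
    have h2 : U ≤ Subgroup.centralizer (U : Set G) := by
      rw [Subgroup.le_centralizer_iff]
      refine sSup_le fun A hA => ?_
      rw [Subgroup.le_centralizer_iff]
      exact h1 A hA.1 hA.2
    intro u hu v hv
    exact (Subgroup.mem_centralizer_iff.mp (h2 hu) v hv).symm
  have hUp : IsPGroup p U := by
    let E : Subgroup U :=
      { carrier := {u | u ^ p = 1}
        one_mem' := one_pow p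
        mul_mem' := fun {a b} (ha : a ^ p = 1) (hb : b ^ p = 1) => by
          show (a * b) ^ p = 1
          rw [(show Commute a b from Subtype.ext (hUcomm a a.2 b b.2)).mul_pow, ha, hb, one_mul]
        inv_mem' := fun {a} (ha : a ^ p = 1) => by
          show a⁻¹ ^ p = 1
          rw [inv_pow, ha, inv_one] }
    have hle : U ≤ E.map U.subtype := by
      refine sSup_le fun A hA a ha => ?_
      have haU : a ∈ U := le_sSup (a := A) hA ha
      refine ⟨⟨a, haU⟩, Subtype.ext ?_, rfl⟩
      show a ^ p = 1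
      have := pow_card_eq_one' (x := (⟨a, ha⟩ : A))
      rw [hK A hA.1] at this
      exact congrArg Subtype.val this
    intro u
    obtain ⟨u', hu', he⟩ := hle u.2
    refine ⟨1, ?_⟩
    rw [pow_one, ← Subtype.ext he]
    exact hu'
  have hVU : V ≤ U := le_sSup ⟨hV, hVc⟩
  have hUcore : U ≤ Cfsg.pCore p G := le_sSup ⟨hUn, hUp⟩
  refine ⟨⟨V, hV, hVc, hVU.trans hUcore⟩, fun hs => ?_⟩
  haveI := hs
  rcases hUn.eq_bot_or_eq_top with h | h
  · obtain ⟨v, hv, hv1⟩ := exists_gen hp (hK V hV)
    exact hv1 (Subgroup.mem_bot.mp (h ▸ hVU hv))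
  · obtain ⟨X, hX, Y, hY, hne, hc⟩ := hex
    obtain ⟨x, hx, hx1⟩ := exists_gen hp (hK X hX)
    haveI : X.Normal := ⟨fun a ha g => by
      rw [hUcomm g (h ▸ Subgroup.mem_top g) a (h ▸ Subgroup.mem_top a)]; simpa using ha⟩
    rcases ‹X.Normal›.eq_bot_or_eq_top with h' | h'
    · exact hx1 (Subgroup.mem_bot.mp (h' ▸ hx))
    · apply hne
      rw [h']
      exact (Subgroup.eq_of_le_of_card_ge le_top (by rw [hK Y hY, ← h', hK X hX])).symm

end Cfsg.Agent.S3196
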