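import Cfsg.Statements.S3201
import Cfsg.Agent.Base.QuatExt
-- import your own Cfsg.Agent.* helpers here

set_option autoImplicit false
open Cfsg

namespace Cfsg.Agent.S3201

/-- Let S be a finite 2-group whose centre Z(S) has n ≥ 2 distinct maximal subgroups C₁, …, Cₙ with trivial intersection such that each quotient S/Cᵢ is a non-abelian group with exactly one involution (a generalized quaternion group). Then S is the internal direct product of an elementary abelian subgroup and a non-abelian subgroup with exactly one involution. -/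
theorem result {S : Type*} [Group S] [Finite S]
    (hS : IsPGroup 2 S) (n : ℕ) (hn : 2 ≤ n) (C : Fin n → Subgroup ↥(Subgroup.center S))
    (hCmax : ∀ i, IsCoatom (C i)) (hCinj : Function.Injective C) (hCint : ⨅ i, C i = ⊥)
    (hCq : ∀ i, ∃ (_ : ((C i).map (Subgroup.center S).subtype).Normal),
      ¬ IsMulCommutative (S ⧸ (C i).map (Subgroup.center S).subtype) ∧
      ∃! x : S ⧸ (C i).map (Subgroup.center S).subtype, orderOf x = 2) :
    ∃ E Q : Subgroup S, Cfsg.IsInternalDirectProduct E Q ⊤ ∧ Cfsg.IsElementaryAbelian 2 E ∧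
      ¬ IsMulCommutative ↥Q ∧ ∃! x : ↥Q, orderOf x = 2 := by
  classical
  let i₀ : Fin n := ⟨0, by omega⟩
  set D : Fin n → Subgroup S := fun i => (C i).map (Subgroup.center S).subtype with hDdef
  have hDn : ∀ i, (D i).Normal := fun i => (hCq i).1
  have hE : ∀ i, CfsgLib.QuatExt.Ext (D i) := fun i => by
    obtain ⟨hn', h1, h2⟩ := hCq i
    exact CfsgLib.QuatExt.of_map (hCmax i) h1 h2
  have hall : ∀ w ∈ Subgroup.center S, (∀ i, w ∈ D i) → w = 1 := by
    intro w hw h
    have hw' : (⟨w, hw⟩ : Subgroup.center S) ∈ ⨅ i, C i := by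
      refine Subgroup.mem_iInf.2 fun i => ?_
      obtain ⟨v, hv, hve⟩ := Subgroup.mem_map.1 (h i)
      rwa [show (⟨w, hw⟩ : Subgroup.center S) = v from Subtype.ext hve.symm]
    rw [hCint, Subgroup.mem_bot] at hw'
    exact congrArg Subtype.val hw'
  have hmul : ∀ i, ∀ a ∈ Subgroup.center S, ∀ b ∈ Subgroup.center S, a ∉ D i → b ∉ D i → a * b ∈ D i := by
    intro i a ha b hb ha' hb'
    obtain ⟨z, hzc, hz, hzz, hzall⟩ := CfsgLib.QuatExt.exists_z hS (hE i)
    have h1 := (D i).mul_mem ((hzall a ha).resolve_left ha') ((hzall b hb).resolve_left hb')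
    have : a * z * (b * z) = a * b * (z * z) := by
      rw [mul_assoc, mul_assoc a b, ← mul_assoc z b, ← Subgroup.mem_center_iff.1 hzc b, mul_assoc]
    rw [this] at h1
    exact ((D i).mul_mem_cancel_right hzz).1 h1
  have hexp : ∀ w ∈ Subgroup.center S, w * w = 1 := fun w hw =>
    hall _ ((Subgroup.center S).mul_mem hw hw) fun i => by
      by_cases h : w ∈ D i
      · exact (D i).mul_mem h h
      · exact hmul i w hw w hw h h
  obtain ⟨x, y, N, h2, hN, hord, hcard, hxN, hxh, hyy, hy, hyx, hrel, hcov⟩ :=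
    CfsgLib.QuatExt.exists_gens hS (hE i₀)
  set z := x ^ N with hz
  have hzD : ∀ i, z ∉ D i := by
    intro i
    have := CfsgLib.QuatExt.sq_not_mem hS (hE i) hxh
    rwa [← pow_add, ← two_mul, Nat.mul_div_cancel' h2] at this
  have hzz : z * z = 1 := hexp z hxN
  have hzi : z⁻¹ = z := inv_eq_of_mul_eq_one_right hzz
  have hzc : ∀ g : S, g * z = z * g := Subgroup.mem_center_iff.1 hxN
  have hy2 : y * y = z := by
    have := hall (y * y * z) ((Subgroup.center S).mul_mem hyy hxN) fun i =>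
      hmul i _ hyy _ hxN (CfsgLib.QuatExt.sq_not_mem hS (hE i) hy) (hzD i)
    rw [eq_inv_of_mul_eq_one_left this, hzi]
  set d := y * x * y⁻¹ * x with hd
  have hdc : d ∈ Subgroup.center S := (hE i₀).le hrel
  have hd1 : d = 1 := by
    refine hall d hdc fun i => ?_
    by_contra hdi
    have h3 : y * x * (y * x) = d * z := by
      rw [← hy2, Subgroup.mem_center_iff.1 hyy d, hd]
      have hyyc : ∀ g : S, g * (y * y) = y * y * g := Subgroup.mem_center_iff.1 hyy
      calc y * x * (y * x) = y * x * y⁻¹ * ((y * y) * x) := by group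
        _ = y * x * y⁻¹ * (x * (y * y)) := by rw [hyyc x]
        _ = y * y * (y * x * y⁻¹ * x) := by rw [← hyyc]; group
    exact CfsgLib.QuatExt.sq_not_mem hS (hE i) hyx (h3 ▸ hmul i d hdc z hxN hdi (hzD i))
  have hconj : y * x * y⁻¹ = x⁻¹ := eq_inv_of_mul_eq_one_left (hd ▸ hd1)
  have hmove : ∀ i : ℤ, x ^ i * y = y * x ^ (-i) := by
    intro i
    have : y * x ^ (-i) * y⁻¹ = x ^ i := by rw [← conj_zpow, hconj, inv_zpow, zpow_neg, inv_inv]
    calc x ^ i * y = y * x ^ (-i) * y⁻¹ * y := by rw [this]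
      _ = y * x ^ (-i) := by group
  let Q : Subgroup S :=
    { carrier := {s | ∃ i : ℤ, s = x ^ i ∨ s = y * x ^ i}
      one_mem' := ⟨0, .inl (zpow_zero x).symm⟩
      mul_mem' := by
        rintro a b ⟨i, rfl | rfl⟩ ⟨j, rfl | rfl⟩
        · exact ⟨i + j, .inl (zpow_add x i j).symm⟩
        · exact ⟨-i + j, .inr (by rw [← mul_assoc, hmove, mul_assoc, ← zpow_add])⟩
        · exact ⟨i + j, .inr (by rw [mul_assoc, ← zpow_add])⟩
        · exact ⟨N + (-i + j), .inl (by
            rw [mul_assoc, ← mul_assoc (x ^ i), hmove, mul_assoc y, ← zpow_add, ← mul_assoc, hy2, hz,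
              ← zpow_natCast, ← zpow_add])⟩
      inv_mem' := by
        rintro a ⟨i, rfl | rfl⟩
        · exact ⟨-i, .inl (zpow_neg x i).symm⟩
        · refine ⟨i + N, .inr (inv_eq_of_mul_eq_one_right ?_)⟩
          rw [mul_assoc, ← mul_assoc (x ^ i), hmove, mul_assoc y, ← zpow_add, ← mul_assoc, hy2,
            neg_add_cancel_left, zpow_natCast, ← hz, hzz] }
  have hxQ : x ∈ Q := ⟨1, .inl (zpow_one x).symm⟩
  have hyQ : y ∈ Q := ⟨0, .inr (by simp)⟩
  have hxy : x * y ≠ y * x := by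
    intro hxy
    have h5 : x = x⁻¹ := by
      calc x = y * x * y⁻¹ := by rw [← hxy]; group
        _ = x⁻¹ := hconj
    have h6 : x ^ 2 = 1 := by
      rw [pow_two]; nth_rewrite 1 [h5]; exact inv_mul_cancel x
    have h7 := Nat.le_of_dvd two_pos (orderOf_dvd_of_pow_eq_one (x := ((x : S) : S ⧸ D i₀)) (n := 2)
      (by rw [← QuotientGroup.mk_pow, h6, QuotientGroup.mk_one]))
    rw [hord] at h7
    have := Nat.le_of_dvd hN h2
    omega
  have hdis : ∀ s ∈ Q, s ∈ D i₀ → s = 1 := by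
    rintro s ⟨i, rfl | rfl⟩ hs
    · have hdv : ((orderOf ((x : S) : S ⧸ D i₀) : ℕ) : ℤ) ∣ i := by
        rw [orderOf_dvd_iff_zpow_eq_one, ← QuotientGroup.mk_zpow, QuotientGroup.eq_one_iff]
        exact hs
      rw [hord] at hdv
      obtain ⟨c, rfl⟩ := hdv
      rw [zpow_mul, zpow_natCast, two_mul, pow_add, ← hz, hzz, one_zpow]
    · exfalso
      apply hy
      have hc : y * x ^ i ∈ Subgroup.center S := (hE i₀).le hs
      have h1 := Subgroup.mem_center_iff.1 hc x
      exfalso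
      refine hxy ?_
      calc x * y = x * (y * x ^ i) * (x ^ i)⁻¹ := by group
        _ = y * x ^ i * x * (x ^ i)⁻¹ := by rw [h1]
        _ = y * x := by group
  refine ⟨D i₀, Q, ⟨le_top, le_top, fun a ha b _ => (Subgroup.mem_center_iff.1 ((hE i₀).le ha) b).symm,
    (Subgroup.eq_bot_iff_forall _).2 fun s hs => hdis s hs.2 hs.1,
    eq_top_iff.2 fun s _ => ?_⟩, ⟨⟨⟨fun a b => Subtype.ext ?_⟩⟩, fun a ha => ?_⟩, ?_, ?_⟩
  · obtain ⟨i, hs | hs⟩ := hcov s
    · rw [show s = x ^ i * ((x ^ i)⁻¹ * s) by group]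
      exact Subgroup.mul_mem _ (Subgroup.mem_sup_right ⟨i, .inl rfl⟩) (Subgroup.mem_sup_left hs)
    · rw [show s = y * x ^ i * ((y * x ^ i)⁻¹ * s) by group]
      exact Subgroup.mul_mem _ (Subgroup.mem_sup_right ⟨i, .inr rfl⟩) (Subgroup.mem_sup_left hs)
  · exact (Subgroup.mem_center_iff.1 ((hE i₀).le a.2) b.1).symm
  · rw [pow_two]; exact hexp a ((hE i₀).le ha)
  · intro hc
    exact hxy (congrArg Subtype.val (hc.is_comm.comm ⟨x, hxQ⟩ ⟨y, hyQ⟩))
  · have hzQ : z ∈ Q := ⟨N, .inl (by rw [zpow_natCast])⟩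
    have hz1 : z ≠ 1 := fun e => hzD i₀ (e ▸ one_mem _)
    refine ⟨⟨z, hzQ⟩, ?_, fun b hb => ?_⟩
    · show orderOf (⟨z, hzQ⟩ : Q) = 2
      rw [Subgroup.orderOf_mk]
      exact orderOf_eq_prime (by rw [pow_two, hzz]) hz1
    · have hbb : (b : S) * b = 1 := by
        have := pow_orderOf_eq_one b
        rw [show orderOf b = 2 from hb, pow_two] at this
        exact congrArg Subtype.val this
      have hbc := CfsgLib.QuatExt.central_of_sq hS (hE i₀) (s := (b : S)) (hbb ▸ one_mem _)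
      have hb1 : (b : S) ≠ 1 := fun e => by
        rw [show b = 1 from Subtype.ext e, orderOf_one] at hb
        exact absurd hb (by norm_num)
      have hbD : (b : S) ∉ D i₀ := fun e => hb1 (hdis _ b.2 e)
      have := hdis _ (Q.mul_mem b.2 hzQ) (hmul i₀ _ hbc _ hxN hbD (hzD i₀))
      exact Subtype.ext (by rw [eq_inv_of_mul_eq_one_left this, hzi])

end Cfsg.Agent.S3201
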