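import Cfsg.Statements.S3203
import Mathlib

set_option autoImplicit false
open Cfsg

namespace Cfsg.Agent.S3203


theorem two_maximal {P : Type*} [Group P] [Finite P] (A B : Subgroup P) (hAB : A ≠ B)
    (hA : Cfsg.IsElementaryAbelian 2 A ∧ ∀ C, Cfsg.IsElementaryAbelian 2 C → A ≤ C → C = A)
    (hB : Cfsg.IsElementaryAbelian 2 B ∧ ∀ C, Cfsg.IsElementaryAbelian 2 C → B ≤ C → C = B)
    (honly : ∀ C, Cfsg.IsElementaryAbelian 2 C →
      (∀ D, Cfsg.IsElementaryAbelian 2 D → C ≤ D → D = C) → C = A ∨ C = B)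
    (hprod : ∀ s : P, ∃ a ∈ A, ∃ b ∈ B, a * b = s) :
    A.Normal ∧ B.Normal ∧ (∀ C, Cfsg.IsElementaryAbelian 2 C → C ≤ A ∨ C ≤ B) ∧
      ∀ φ : MulAut P, A.map φ.toMonoidHom = A ∨
        (A.map φ.toMonoidHom = B ∧ B.map φ.toMonoidHom = A) := by
  have helem : ∀ (C : Subgroup P) (φ : MulAut P), Cfsg.IsElementaryAbelian 2 C →
      Cfsg.IsElementaryAbelian 2 (C.map φ.toMonoidHom) := by
    intro C φ hC
    refine ⟨⟨⟨?_⟩⟩, ?_⟩
    · rintro ⟨_, c, hc, rfl⟩ ⟨_, d, hd, rfl⟩
      apply Subtype.ext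
      show φ c * φ d = φ d * φ c
      rw [← map_mul, ← map_mul,
        show c * d = d * c from congrArg Subtype.val (hC.1.is_comm.comm ⟨c, hc⟩ ⟨d, hd⟩)]
    · rintro _ ⟨c, hc, rfl⟩
      rw [← map_pow, hC.2 c hc, map_one]
  have hsub : ∀ C : Subgroup P, Cfsg.IsElementaryAbelian 2 C → C ≤ A ∨ C ≤ B := by
    intro C hC
    obtain ⟨D, hCD, hD⟩ :=
      (Set.toFinite {D : Subgroup P | Cfsg.IsElementaryAbelian 2 D}).exists_le_maximal hC
    rcases honly D hD.prop (fun E hE hDE => le_antisymm (hD.le_of_ge hE hDE) hDE) with rfl | rfl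
    · exact Or.inl hCD
    · exact Or.inr hCD
  have hroundtrip : ∀ (C : Subgroup P) (φ : MulAut P), (C.map φ.toMonoidHom).map φ.symm.toMonoidHom = C := by
    intro C φ
    rw [Subgroup.map_map]
    convert Subgroup.map_id C using 2
    ext d; simp
  have himg : ∀ X : Subgroup P, (X = A ∨ X = B) → ∀ φ : MulAut P,
      X.map φ.toMonoidHom = A ∨ X.map φ.toMonoidHom = B := by
    intro X hX φ
    have hXm : Cfsg.IsElementaryAbelian 2 X ∧ ∀ C, Cfsg.IsElementaryAbelian 2 C → X ≤ C → C = X := by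
      rcases hX with rfl | rfl
      · exact hA
      · exact hB
    refine honly _ (helem X φ hXm.1) fun D hD hle => ?_
    have h2 : D.map φ.symm.toMonoidHom = X := hXm.2 _ (helem D φ.symm hD)
      ((hroundtrip X φ).symm.le.trans (Subgroup.map_mono hle))
    conv_rhs => rw [← h2]
    exact (hroundtrip D φ.symm).symm
  have hself : ∀ (H : Subgroup P) (a : P), a ∈ H → H.map (MulAut.conj a).toMonoidHom = H := by
    intro H a ha
    ext w
    constructor
    · rintro ⟨v, hv, rfl⟩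
      exact mul_mem (mul_mem ha hv) (inv_mem ha)
    · intro hw
      exact ⟨a⁻¹ * w * a, mul_mem (mul_mem (inv_mem ha) hw) ha, by simp [mul_assoc]⟩
  have hinj : ∀ φ : MulAut P, A.map φ.toMonoidHom ≠ B.map φ.toMonoidHom := fun φ h =>
    hAB (Subgroup.map_injective φ.injective h)
  have hmk : ∀ H : Subgroup P, (∀ s : P, H.map (MulAut.conj s).toMonoidHom = H) → H.Normal :=
    fun H h => ⟨fun n hn g => (h g).le ⟨n, hn, rfl⟩⟩
  have hcomp : ∀ (H : Subgroup P) (u v : P),
      H.map (MulAut.conj (u * v)).toMonoidHom = (H.map (MulAut.conj v).toMonoidHom).map (MulAut.conj u).toMonoidHom := by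
    intro H u v
    rw [Subgroup.map_map]
    congr 1
    ext w; simp [mul_assoc]
  have hAb : ∀ b ∈ B, A.map (MulAut.conj b).toMonoidHom = A := fun b hb =>
    (himg A (Or.inl rfl) _).resolve_right fun h => hinj (MulAut.conj b) (h.trans (hself B b hb).symm)
  have hBa : ∀ a ∈ A, B.map (MulAut.conj a).toMonoidHom = B := fun a ha =>
    (himg B (Or.inr rfl) _).resolve_left fun h => hinj (MulAut.conj a) ((hself A a ha).trans h.symm)
  refine ⟨hmk A fun s => ?_, hmk B fun s => ?_, hsub, fun φ => ?_⟩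
  · obtain ⟨a, ha, b, hb, rfl⟩ := hprod s
    rw [hcomp, hAb b hb, hself A a ha]
  · obtain ⟨a, ha, b, hb, rfl⟩ := hprod s
    rw [hcomp, hself B b hb, hBa a ha]
  · rcases himg A (Or.inl rfl) φ with h | h
    · exact Or.inl h
    · exact Or.inr ⟨h, (himg B (Or.inr rfl) φ).resolve_right fun h2 => hinj φ (h.trans h2.symm)⟩

theorem normalizer_fix {G : Type*} [Group G] [Finite G] (S : Sylow 2 G) (A B : Subgroup ↥(S : Subgroup G))
    (hAn : A.Normal) (hauto : ∀ φ : MulAut ↥(S : Subgroup G), A.map φ.toMonoidHom = A ∨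
        (A.map φ.toMonoidHom = B ∧ B.map φ.toMonoidHom = A))
    (n : Subgroup.normalizer ((S : Subgroup G) : Set G)) :
    A.map (Subgroup.normalizerMonoidHom (S : Subgroup G) n).toMonoidHom = A := by
  let N := Subgroup.normalizer ((S : Subgroup G) : Set G)
  let ψ : N →* MulAut ↥(S : Subgroup G) := Subgroup.normalizerMonoidHom (S : Subgroup G)
  have hmul : ∀ u v : N, A.map (ψ (u * v)).toMonoidHom = (A.map (ψ v).toMonoidHom).map (ψ u).toMonoidHom := by
    intro u v
    rw [Subgroup.map_map, map_mul]; rfl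
  let K : Subgroup N :=
    { carrier := {m | A.map (ψ m).toMonoidHom = A}
      one_mem' := by
        show A.map (ψ 1).toMonoidHom = A
        rw [map_one]; exact Subgroup.map_id A
      mul_mem' := by
        intro u v hu hv
        show A.map (ψ (u * v)).toMonoidHom = A
        rw [hmul, (hv : A.map _ = A), (hu : A.map _ = A)]
      inv_mem' := by
        intro u hu
        show A.map (ψ u⁻¹).toMonoidHom = A
        conv_lhs => rw [← (hu : A.map _ = A), ← hmul, inv_mul_cancel, map_one]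
        exact Subgroup.map_id A }
  have hPN : (S : Subgroup G) ≤ N := Subgroup.le_normalizer
  have hPK : (S : Subgroup G).subgroupOf N ≤ K := by
    intro u hu
    show A.map (ψ u).toMonoidHom = A
    apply le_antisymm
    · rintro _ ⟨a, ha, rfl⟩
      convert hAn.conj_mem a ha ⟨u, hu⟩ using 1
      exact Subtype.ext rfl
    · intro a ha
      refine ⟨⟨u, hu⟩⁻¹ * a * ⟨u, hu⟩, ?_, ?_⟩
      · simpa using hAn.conj_mem a ha (⟨u, hu⟩ : ↥(S : Subgroup G))⁻¹
      · apply Subtype.ext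
        show (u : G) * ((u : G)⁻¹ * a * u) * (u : G)⁻¹ = a
        group
  by_contra hne
  have h2 : K.index = 2 := by
    rw [Subgroup.index_eq_two_iff]
    refine ⟨n, fun u => ?_⟩
    by_cases hu : u ∈ K
    · refine Or.inr ⟨hu, fun hun => hne ?_⟩
      have := K.mul_mem (K.inv_mem hu) hun
      rw [inv_mul_cancel_left] at this
      exact this
    · refine Or.inl ⟨?_, hu⟩
      show A.map (ψ (u * n)).toMonoidHom = A
      rw [hmul, ((hauto _).resolve_left hne).1, ((hauto (ψ u)).resolve_left hu).2]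
  have h1 : 2 ∣ ((S : Subgroup G).subgroupOf N).index := by
    exact h2.symm.dvd.trans (Subgroup.index_dvd_of_le hPK)
  exact S.not_dvd_index (h1.trans (Subgroup.relIndex_dvd_index_of_le hPN))

/-- Let S be a Sylow 2-subgroup of a finite group G having exactly two subgroups A ≠ B that are maximal among its elementary abelian subgroups, with S = AB. Then A and B are each weakly closed in S with respect to G, and the normalizer of S normalizes both A and B. -/
theorem result {G : Type*} [Group G] [Finite G] (S : Sylow 2 G)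
    (A B : Subgroup ↥(S : Subgroup G)) (hAB : A ≠ B)
    (hA : Cfsg.IsElementaryAbelian 2 A ∧ ∀ C : Subgroup ↥(S : Subgroup G), Cfsg.IsElementaryAbelian 2 C → A ≤ C → C = A)
    (hB : Cfsg.IsElementaryAbelian 2 B ∧ ∀ C : Subgroup ↥(S : Subgroup G), Cfsg.IsElementaryAbelian 2 C → B ≤ C → C = B)
    (honly : ∀ C : Subgroup ↥(S : Subgroup G), Cfsg.IsElementaryAbelian 2 C →
      (∀ D : Subgroup ↥(S : Subgroup G), Cfsg.IsElementaryAbelian 2 D → C ≤ D → D = C) → C = A ∨ C = B)
    (hprod : ∀ s : ↥(S : Subgroup G), ∃ a ∈ A, ∃ b ∈ B, a * b = s)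
    (A' B' : Subgroup G) (hA' : A' = A.map (S : Subgroup G).subtype) (hB' : B' = B.map (S : Subgroup G).subtype) :
    Cfsg.IsWeaklyClosed A' (S : Subgroup G) ∧ Cfsg.IsWeaklyClosed B' (S : Subgroup G) ∧
      Subgroup.normalizer ((S : Subgroup G) : Set G) ≤ Subgroup.normalizer (A' : Set G) ⊓ Subgroup.normalizer (B' : Set G) := by
  have : Fact (Nat.Prime 2) := ⟨Nat.prime_two⟩
  obtain ⟨hAn, hBn, hsub, hauto⟩ := two_maximal A B hAB hA hB honly hprod
  have hautoB : ∀ φ : MulAut ↥(S : Subgroup G), B.map φ.toMonoidHom = B ∨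
      (B.map φ.toMonoidHom = A ∧ A.map φ.toMonoidHom = B) :=
    (two_maximal B A hAB.symm hB hA (fun C h1 h2 => (honly C h1 h2).symm) (fun s => by
      obtain ⟨a, ha, b, hb, hab⟩ := hprod s⁻¹
      exact ⟨b⁻¹, inv_mem hb, a⁻¹, inv_mem ha, by rw [← mul_inv_rev, hab, inv_inv]⟩)).2.2.2
  suffices key : ∀ (A B : Subgroup ↥(S : Subgroup G)), A ≠ B → A.Normal → B.Normal →
      (Cfsg.IsElementaryAbelian 2 A ∧ ∀ C, Cfsg.IsElementaryAbelian 2 C → A ≤ C → C = A) →
      Cfsg.IsElementaryAbelian 2 B →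
      (∀ C, Cfsg.IsElementaryAbelian 2 C → C ≤ A ∨ C ≤ B) →
      (∀ φ : MulAut ↥(S : Subgroup G), A.map φ.toMonoidHom = A ∨
        (A.map φ.toMonoidHom = B ∧ B.map φ.toMonoidHom = A)) →
      Cfsg.IsWeaklyClosed (A.map (S : Subgroup G).subtype) (S : Subgroup G) ∧
      Subgroup.normalizer ((S : Subgroup G) : Set G) ≤
        Subgroup.normalizer ((A.map (S : Subgroup G).subtype : Subgroup G) : Set G) by
    subst hA' hB'
    obtain ⟨w1, n1⟩ := key A B hAB hAn hBn hA hB.1 hsub hauto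
    obtain ⟨w2, n2⟩ := key B A hAB.symm hBn hAn hB hA.1 (fun C hC => (hsub C hC).symm) hautoB
    exact ⟨w1, w2, le_inf n1 n2⟩
  clear hautoB hauto hsub hAn hBn hA' hB' hprod honly hA hB hAB A B
  intro A B hAB hAn hBn hA hB hsub hauto
  set ι := (S : Subgroup G).subtype with hι
  have hSN : ∀ X : Subgroup ↥(S : Subgroup G), X.Normal →
      (S : Subgroup G) ≤ Subgroup.normalizer ((X.map ι : Subgroup G) : Set G) := by
    intro X hX s hs
    rw [Subgroup.mem_normalizer_iff]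
    intro a
    constructor
    · rintro ⟨c, hc, rfl⟩
      exact ⟨_, hX.conj_mem c hc ⟨s, hs⟩, rfl⟩
    · rintro ⟨c, hc, he⟩
      refine ⟨_, hX.conj_mem c hc (⟨s, hs⟩ : ↥(S : Subgroup G))⁻¹, ?_⟩
      simp only [map_mul, map_inv, hι, Subgroup.coe_subtype]
      have he' : (c : G) = s * a * s⁻¹ := he
      rw [he']; group
  have hnorm : Subgroup.normalizer ((S : Subgroup G) : Set G) ≤
      Subgroup.normalizer ((A.map ι : Subgroup G) : Set G) := by
    intro n hn
    have h := normalizer_fix S A B hAn hauto ⟨n, hn⟩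
    rw [Subgroup.mem_normalizer_iff]
    intro a
    constructor
    · rintro ⟨c, hc, rfl⟩
      exact ⟨_, h.le ⟨c, hc, rfl⟩, rfl⟩
    · rintro ⟨c, hc, he⟩
      obtain ⟨d, hd, hde⟩ := h.ge hc
      refine ⟨d, hd, ?_⟩
      rw [← hde] at he
      exact mul_left_cancel (mul_right_cancel (he : n * (d : G) * n⁻¹ = n * a * n⁻¹))
  refine ⟨⟨Subgroup.map_subtype_le A, fun g hg => ?_⟩, hnorm⟩
  -- elementary abelian subgroups of G inside S
  have hpull : ∀ D : Subgroup G, D ≤ (S : Subgroup G) → (∀ x ∈ D, ∀ y ∈ D, x * y = y * x) →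
      (∀ x ∈ D, x ^ 2 = 1) → Cfsg.IsElementaryAbelian 2 (D.subgroupOf (S : Subgroup G)) := by
    intro D _ hc he
    exact ⟨⟨⟨fun x y => Subtype.ext (Subtype.ext (hc _ x.2 _ y.2))⟩⟩, fun x hx => Subtype.ext (he _ hx)⟩
  have helemG : ∀ (X : Subgroup ↥(S : Subgroup G)), Cfsg.IsElementaryAbelian 2 X → ∀ k : G,
      (∀ x ∈ (X.map ι).map (MulAut.conj k).toMonoidHom, ∀ y ∈ (X.map ι).map (MulAut.conj k).toMonoidHom, x * y = y * x) ∧
      (∀ x ∈ (X.map ι).map (MulAut.conj k).toMonoidHom, x ^ 2 = 1) := by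
    intro X hX k
    refine ⟨?_, ?_⟩
    · rintro _ ⟨_, ⟨x, hx, rfl⟩, rfl⟩ _ ⟨_, ⟨y, hy, rfl⟩, rfl⟩
      simp only [← map_mul]
      rw [show x * y = y * x from congrArg Subtype.val (hX.1.is_comm.comm ⟨x, hx⟩ ⟨y, hy⟩)]
    · rintro _ ⟨_, ⟨x, hx, rfl⟩, rfl⟩
      simp only [← map_pow]
      rw [hX.2 x hx, map_one, map_one]
  have hcardconj : ∀ (D : Subgroup G) (k : G), Nat.card (D.map (MulAut.conj k).toMonoidHom) = Nat.card D :=
    fun D k => (Nat.card_congr (D.equivMapOfInjective (MulAut.conj k).toMonoidHom (MulAut.conj k).injective).toEquiv).symm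
  obtain ⟨hgc, hge⟩ := helemG A hA.1 g
  rcases hsub _ (hpull _ hg hgc hge) with h | h
  · refine Subgroup.eq_of_le_of_card_ge (fun x hx => ⟨⟨x, hg hx⟩, h hx, rfl⟩) ?_
    rw [hcardconj]
  exfalso
  have hle : (A.map ι).map (MulAut.conj g).toMonoidHom ≤ B.map ι := fun x hx => ⟨⟨x, hg hx⟩, h hx, rfl⟩
  set A' := A.map ι with hA'
  set B' := B.map ι with hB'
  -- the pulled back B is conjugate into S by the normaliser of A'
  set B₂ := B'.map (MulAut.conj g⁻¹).toMonoidHom with hB₂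
  have hA2 : A' ≤ B₂ := fun a ha => ⟨_, hle ⟨a, ha, rfl⟩, by simp [mul_assoc]⟩
  obtain ⟨hB2c, hB2e⟩ := helemG B hB g⁻¹
  have hB2N : B₂ ≤ Subgroup.normalizer (A' : Set G) := by
    intro b hb
    rw [Subgroup.mem_normalizer_iff]
    intro a
    constructor
    · intro ha
      rwa [hB2c b hb a (hA2 ha), mul_inv_cancel_right]
    · intro ha
      have h1 := hB2c b hb _ (hA2 ha)
      have : b * a * b⁻¹ = a := by
        have h3 : b * (b * a * b⁻¹) = b * a := by rw [h1]; group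
        exact mul_left_cancel h3
      rwa [this] at ha
  have hB2p : IsPGroup 2 B₂ := IsPGroup.of_card (n := (IsPGroup.iff_card.mp ((S.2.to_subgroup B).map ι)).choose)
    (by rw [hB₂, hcardconj]; exact (IsPGroup.iff_card.mp ((S.2.to_subgroup B).map ι)).choose_spec)
  set N := Subgroup.normalizer (A' : Set G) with hN
  obtain ⟨R, hR⟩ := (hB2p.comap_of_injective N.subtype Subtype.val_injective).exists_le_sylow
  obtain ⟨k, hk⟩ := MulAction.exists_smul_eq N R (S.subtype (hSN A hAn))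
  have hk2 : ∀ b ∈ B₂, (k : G) * b * (k : G)⁻¹ ∈ (S : Subgroup G) := by
    intro b hb
    have hbR : (⟨b, hB2N hb⟩ : N) ∈ (R : Subgroup N) := hR hb
    have h1 : k * ⟨b, hB2N hb⟩ * k⁻¹ ∈ (S.subtype (hSN A hAn) : Subgroup N) := by
      rw [← hk, Sylow.coe_subgroup_smul, Subgroup.mem_pointwise_smul_iff_inv_smul_mem]
      convert hbR using 1
      show (MulAut.conj k)⁻¹ (k * ⟨b, hB2N hb⟩ * k⁻¹) = _
      rw [MulAut.conj_inv_apply]; group
    rw [Sylow.coe_subtype] at h1
    exact h1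
  set B₃ := B₂.map (MulAut.conj (k : G)).toMonoidHom with hB₃
  have hB3S : B₃ ≤ (S : Subgroup G) := by
    rintro _ ⟨b, hb, rfl⟩; exact hk2 b hb
  have hA3 : A' ≤ B₃ := by
    intro a ha
    refine ⟨(k : G)⁻¹ * a * k, hA2 ?_, by simp [mul_assoc]⟩
    simpa using (Subgroup.mem_normalizer_iff.mp (inv_mem k.2) a).mp ha
  have hB3A : B₃.subgroupOf (S : Subgroup G) = A := by
    refine hA.2 _ (hpull _ hB3S ?_ ?_) (fun a ha => hA3 ⟨a, ha, rfl⟩)
    · rintro _ ⟨x, hx, rfl⟩ _ ⟨y, hy, rfl⟩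
      simp only [← map_mul]
      rw [hB2c x hx y hy]
    · rintro _ ⟨x, hx, rfl⟩
      simp only [← map_pow]
      rw [hB2e x hx, map_one]
  have hcardAB : Nat.card B' ≤ Nat.card A' := by
    rw [hA', ← hB3A, Subgroup.subgroupOf_map_subtype, inf_eq_left.mpr hB3S, hB₃, hB₂, hcardconj, hcardconj]
  have heq : A'.map (MulAut.conj g).toMonoidHom = B' :=
    Subgroup.eq_of_le_of_card_ge hle (by rw [hcardconj]; exact hcardAB)
  -- Burnside: the conjugating element may be taken in the normaliser of S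
  set M := Subgroup.normalizer (B' : Set G) with hM
  have hgS : ((g • S : Sylow 2 G) : Subgroup G) ≤ M := by
    intro x hx
    rw [Sylow.coe_subgroup_smul, Subgroup.mem_pointwise_smul_iff_inv_smul_mem] at hx
    have hx' : g⁻¹ * x * g ∈ (S : Subgroup G) := by simpa [MulAut.smul_def] using hx
    have h1 := Subgroup.mem_normalizer_iff.mp (hSN A hAn hx')
    rw [Subgroup.mem_normalizer_iff]
    intro b
    rw [← heq]
    constructor
    · rintro ⟨a, ha, rfl⟩
      exact ⟨_, (h1 a).mp ha, by simp [mul_assoc]⟩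
    · rintro ⟨a, ha, he⟩
      refine ⟨_, (h1 ((g⁻¹ * x * g)⁻¹ * a * (g⁻¹ * x * g))).mpr (by
        have e : g⁻¹ * x * g * ((g⁻¹ * x * g)⁻¹ * a * (g⁻¹ * x * g)) * (g⁻¹ * x * g)⁻¹ = a := by group
        rw [e]; exact ha), ?_⟩
      have he' : g * a * g⁻¹ = x * b * x⁻¹ := he
      calc g * ((g⁻¹ * x * g)⁻¹ * a * (g⁻¹ * x * g)) * g⁻¹ = x⁻¹ * (g * a * g⁻¹) * x := by group
        _ = b := by rw [he']; group
  obtain ⟨m, hm⟩ := MulAction.exists_smul_eq M ((g • S).subtype hgS) (S.subtype (hSN B hBn))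
  rw [Sylow.smul_subtype] at hm
  have hm2 : (m : G) • (g • S) = S := Sylow.subtype_injective hm
  rw [← mul_smul] at hm2
  have hmg : (m : G) * g ∈ Subgroup.normalizer ((S : Subgroup G) : Set G) :=
    Sylow.smul_eq_iff_mem_normalizer.mp hm2
  have h5 := hnorm hmg
  apply hAB
  have hBA : B' = A' := by
    ext b
    constructor
    · intro hb
      have hb' := (Subgroup.mem_normalizer_iff.mp (inv_mem m.2) b).mp hb
      rw [← heq] at hb'
      obtain ⟨a, ha, he⟩ := hb'
      have := (Subgroup.mem_normalizer_iff.mp h5 a).mp ha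
      have he' : g * a * g⁻¹ = (m : G)⁻¹ * b * (m : G)⁻¹⁻¹ := he
      have e2 : (m : G) * g * a * ((m : G) * g)⁻¹ = b := by
        calc (m : G) * g * a * ((m : G) * g)⁻¹ = m * (g * a * g⁻¹) * (m : G)⁻¹ := by group
          _ = b := by rw [he']; group
      rwa [e2] at this
    · intro ha
      obtain ⟨a, ha2, he⟩ : ∃ a ∈ A', (m : G) * g * a * ((m : G) * g)⁻¹ = b :=
        ⟨((m : G) * g)⁻¹ * b * ((m : G) * g), by simpa using (Subgroup.mem_normalizer_iff.mp (inv_mem h5) b).mp ha, by group⟩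
      rw [← he]
      have h6 : g * a * g⁻¹ ∈ B' := heq ▸ ⟨a, ha2, rfl⟩
      have h7 := (Subgroup.mem_normalizer_iff.mp m.2 _).mp h6
      simpa [mul_assoc] using h7
  exact (Subgroup.map_injective (Subgroup.subtype_injective _) hBA).symm

end Cfsg.Agent.S3203
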