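import Cfsg.Statements.S3208
import Mathlib

set_option autoImplicit false
open Cfsg

namespace Cfsg.Agent.S3208

/-- Let j be an involution of a finite group G, H a subgroup of G, and T a Sylow 2-subgroup of H ∩ C_G(j) containing j such that ⟨j⟩ is a characteristic subgroup of T. Then T is a Sylow 2-subgroup of H. -/
theorem result {G : Type*} [Group G] [Finite G]
    (j : G) (hj : orderOf j = 2) (H T : Subgroup G) (hT : T ≤ H ⊓ Subgroup.centralizer ({j} : Set G)) (h2 : IsPGroup 2 ↥T)
    (hSyl : ¬ 2 ∣ T.relIndex (H ⊓ Subgroup.centralizer ({j} : Set G))) (hjT : j ∈ T)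
    (hchar : ((Subgroup.zpowers j).subgroupOf T).Characteristic) :
    ¬ 2 ∣ T.relIndex H := by
  have : Fact (Nat.Prime 2) := ⟨Nat.prime_two⟩
  have hTH : T ≤ H := hT.trans inf_le_left
  set T' : Subgroup H := T.subgroupOf H with hT'
  have hp : IsPGroup 2 T' := h2.of_equiv (Subgroup.subgroupOfEquivOfLe hTH).symm
  obtain ⟨P, hP⟩ := hp.exists_le_sylow
  have key : (P : Subgroup H) = T' := by
    by_contra hne
    have hlt : T' < (P : Subgroup H) := lt_of_le_of_ne hP (Ne.symm hne)
    have : Group.IsNilpotent (P : Subgroup H) := P.2.isNilpotent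
    have hlt2 : T'.subgroupOf (P : Subgroup H) < ⊤ := lt_top_iff_ne_top.mpr fun h => hne
      (le_antisymm (Subgroup.subgroupOf_eq_top.mp h) hP)
    obtain ⟨u, hu, hu1⟩ := SetLike.exists_of_lt (Group.normalizerCondition_of_isNilpotent _ hlt2)
    set v : G := ((u : H) : G) with hv
    have hnorm : v ∈ Subgroup.normalizer (T : Set G) := by
      rw [Subgroup.mem_normalizer_iff]
      intro a
      constructor
      · intro ha
        have haH : a ∈ H := hTH ha
        have haP : (⟨a, haH⟩ : H) ∈ (P : Subgroup H) := hP ha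
        exact (Subgroup.mem_normalizer_iff.mp hu ⟨⟨a, haH⟩, haP⟩).mp ha
      · intro ha
        have hbP : (⟨v * a * v⁻¹, hTH ha⟩ : H) ∈ (P : Subgroup H) := hP ha
        have haH : a ∈ H := by
          have := mul_mem (mul_mem (inv_mem (u : H).2) (hTH ha)) (u : H).2
          simpa [hv, mul_assoc] using this
        have haP : (⟨a, haH⟩ : H) ∈ (P : Subgroup H) := by
          have := mul_mem (mul_mem (inv_mem u.2) hbP) u.2
          convert this using 1
          exact Subtype.ext (by simp [hv, mul_assoc])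
        exact (Subgroup.mem_normalizer_iff.mp hu ⟨⟨a, haH⟩, haP⟩).mpr ha
    let φ : MulAut T := Subgroup.normalizerMonoidHom T ⟨v, hnorm⟩
    have hfix := hchar.fixed φ
    have hjm : (⟨j, hjT⟩ : T) ∈ (Subgroup.zpowers j).subgroupOf T := Subgroup.mem_zpowers j
    rw [← hfix] at hjm
    have hvj : v * j * v⁻¹ ∈ Subgroup.zpowers j := hjm
    have hvj2 : v * j * v⁻¹ = j := by
      obtain ⟨k, hk⟩ := hvj
      have hk2 : j ^ k = j ^ (k % 2) := by rw [← zpow_mod_orderOf, hj]; rfl
      rcases Int.emod_two_eq_zero_or_one k with h0 | h0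
      · exfalso
        have : v * j * v⁻¹ = 1 := by rw [← hk]; simp only []; rw [hk2, h0, zpow_zero]
        have : j = 1 := conj_eq_one_iff.mp this
        rw [this, orderOf_one] at hj
        omega
      · rw [← hk]; simp only []; rw [hk2, h0, zpow_one]
    set C := H ⊓ Subgroup.centralizer ({j} : Set G) with hC
    set K : Subgroup G := (P : Subgroup H).map H.subtype ⊓ C with hK
    have hvK : v ∈ K := ⟨⟨(u : H), u.2, rfl⟩, (u : H).2,
      Subgroup.mem_centralizer_singleton_iff.mpr (by rw [← mul_inv_eq_iff_eq_mul]; exact hvj2)⟩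
    have hTK : T ≤ K := le_inf (fun a ha => ⟨⟨a, hTH ha⟩, hP ha, rfl⟩) hT
    have hK2 : IsPGroup 2 K := (P.2.map H.subtype).to_le inf_le_left
    have hTKne : T.relIndex K ≠ 1 := fun h1 => hu1 (Subgroup.relIndex_eq_one.mp h1 hvK)
    have hKsub : IsPGroup 2 K := hK2
    obtain ⟨n, hn⟩ := IsPGroup.iff_card.mp hK2
    have hdvd : T.relIndex K ∣ 2 ^ n := hn ▸ Subgroup.relIndex_dvd_card T K
    obtain ⟨m, _, hm⟩ := (Nat.dvd_prime_pow Nat.prime_two).mp hdvd
    apply hSyl
    rw [← Subgroup.relIndex_mul_relIndex T K C hTK inf_le_right, hm]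
    refine dvd_mul_of_dvd_left (dvd_pow_self 2 ?_) _
    rintro rfl
    exact hTKne hm
  show ¬ 2 ∣ T'.index
  rw [← key]
  exact P.not_dvd_index

end Cfsg.Agent.S3208
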