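import Cfsg.Statements.S3209
import Cfsg.Agent.Fus.PSL2Dihedral
import Mathlib.Algebra.Group.Subgroup.Pointwise
-- import your own Cfsg.Agent.* helpers here

set_option autoImplicit false
open Cfsg

namespace Cfsg.Agent.S3209

open CfsgLib.Fus.PSL2Two in
theorem facts {G : Type*} [Group G] {F : Type*} [Field F] [Fintype F] (hF : Odd (Fintype.card F)) (L : Subgroup G)
    (e : L ≃* Matrix.SpecialLinearGroup (Fin 2) F) (j : G) (hjL : j ∈ L) (hj : orderOf j = 2) :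
    (∀ a ∈ L, a * a = 1 → a = 1 ∨ a = j) ∧
      ∃ a₀ ∈ L, a₀ * a₀ = j ∧ ∀ a ∈ L, a * a = j → ∃ k ∈ L, a = k * a₀ * k⁻¹ := by
  have hodd : Fintype.card F % 2 = 1 := Nat.odd_iff.1 hF
  have hj1 : j ≠ 1 := fun h => by rw [h, orderOf_one] at hj; exact absurd hj (by norm_num)
  have hjj : j * j = 1 := by rw [← sq, ← hj, pow_orderOf_eq_one]
  have hej : e ⟨j, hjL⟩ = -1 := by
    rcases sq_eq_one_cases hodd (g := e ⟨j, hjL⟩) (by
      rw [← map_mul, show (⟨j, hjL⟩ * ⟨j, hjL⟩ : L) = 1 from Subtype.ext hjj, map_one]) with h | h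
    · exact absurd (congrArg Subtype.val (e.injective (h.trans (map_one e).symm))) hj1
    · exact h
  refine ⟨fun a ha haa => ?_, ((e.symm jEl : L) : G), (e.symm jEl).2, ?_, fun a ha haa => ?_⟩
  · rcases sq_eq_one_cases hodd (g := e ⟨a, ha⟩) (by
      rw [← map_mul, show (⟨a, ha⟩ * ⟨a, ha⟩ : L) = 1 from Subtype.ext haa, map_one]) with h | h
    · exact .inl (congrArg Subtype.val (e.injective (h.trans (map_one e).symm)))
    · exact .inr (congrArg Subtype.val (e.injective (h.trans hej.symm)))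
  · have hJ : (jEl : Matrix.SpecialLinearGroup (Fin 2) F) * jEl = -1 := by
      ext i k
      rw [Matrix.SpecialLinearGroup.coe_mul]
      fin_cases i <;> fin_cases k <;> simp [jEl, Matrix.SpecialLinearGroup.coe_neg, Matrix.mul_apply, Fin.sum_univ_two]
    have := congrArg (fun z => ((e.symm z : L) : G)) hJ
    simp only [map_mul, Subgroup.coe_mul] at this
    rw [this, ← hej, MulEquiv.symm_apply_apply]
  · obtain ⟨k, hk⟩ := exists_conj_j hodd (g := e ⟨a, ha⟩) (by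
      rw [← map_mul, show (⟨a, ha⟩ * ⟨a, ha⟩ : L) = ⟨j, hjL⟩ from Subtype.ext haa, hej])
    refine ⟨((e.symm k : L) : G), (e.symm k).2, ?_⟩
    have := congrArg (fun z => ((e.symm z : L) : G)) hk
    simpa using this

end Cfsg.Agent.S3209

namespace Cfsg.Agent.S3209

/-- Let L₁ ≅ SL₂(q₁) and L₂ ≅ SL₂(q₂), q₁ and q₂ odd, be elementwise-commuting subgroups of a finite group meeting in ⟨j⟩ for an involution j. Then L₁L₂ has exactly two conjugacy classes of involutions: the central involution j, and one further class (there is an involution x ≠ j in L₁L₂, and every involution of L₁L₂ other than j is conjugate to x by an element of L₁L₂). -/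
theorem result {G : Type*} [Group G] [Finite G]
    {F₁ : Type*} [Field F₁] [Fintype F₁] {F₂ : Type*} [Field F₂] [Fintype F₂]
    (hF₁ : Odd (Fintype.card F₁)) (hF₂ : Odd (Fintype.card F₂)) (L₁ L₂ : Subgroup G)
    (e₁ : ↥L₁ ≃* Matrix.SpecialLinearGroup (Fin 2) F₁) (e₂ : ↥L₂ ≃* Matrix.SpecialLinearGroup (Fin 2) F₂)
    (hc : ∀ x ∈ L₁, ∀ y ∈ L₂, x * y = y * x) (j : G) (hj : orderOf j = 2) (hm : L₁ ⊓ L₂ = Subgroup.zpowers j) :
    ∃ x ∈ L₁ ⊔ L₂, orderOf x = 2 ∧ x ≠ j ∧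
      ∀ y ∈ L₁ ⊔ L₂, orderOf y = 2 → y = j ∨ ∃ g ∈ L₁ ⊔ L₂, g * x * g⁻¹ = y := by
  obtain ⟨hj₁, hj₂⟩ : j ∈ L₁ ∧ j ∈ L₂ := Subgroup.mem_inf.1 (hm ▸ Subgroup.mem_zpowers j)
  obtain ⟨hu₁, a₀, ha₀, haa₀, hc₁⟩ := facts hF₁ L₁ e₁ j hj₁ hj
  obtain ⟨hu₂, b₀, hb₀, hbb₀, hc₂⟩ := facts hF₂ L₂ e₂ j hj₂ hj
  have hj1 : j ≠ 1 := fun h => by rw [h, orderOf_one] at hj; exact absurd hj (by norm_num)
  have hjj : j * j = 1 := by rw [← sq, ← hj, pow_orderOf_eq_one]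
  have hint : ∀ z ∈ L₁, z ∈ L₂ → z = 1 ∨ z = j := by
    intro z h1 h2
    obtain ⟨i, rfl⟩ := Subgroup.mem_zpowers_iff.1 (hm ▸ Subgroup.mem_inf.2 ⟨h1, h2⟩ : z ∈ Subgroup.zpowers j)
    rcases Int.even_or_odd' i with ⟨l, rfl | rfl⟩
    · exact .inl (by rw [zpow_mul, zpow_two, hjj, one_zpow])
    · exact .inr (by rw [zpow_add, zpow_mul, zpow_two, hjj, one_zpow, one_mul, zpow_one])
  have hxsq : (a₀ * b₀) * (a₀ * b₀) = 1 := by
    rw [Commute.mul_mul_mul_comm (hc a₀ ha₀ b₀ hb₀).symm, haa₀, hbb₀, hjj]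
  have hx : ∀ z ∈ L₂, a₀ ≠ z := by
    intro z hz e
    rcases hint a₀ ha₀ (e ▸ hz) with h | h <;> rw [h] at haa₀
    · exact hj1 (by simpa using haa₀.symm)
    · exact hj1 (haa₀.symm.trans hjj)
  have hx1 : a₀ * b₀ ≠ 1 := fun e => hx _ (L₂.inv_mem hb₀) (eq_inv_of_mul_eq_one_left e)
  refine ⟨a₀ * b₀, Subgroup.mul_mem_sup ha₀ hb₀, @orderOf_eq_prime _ _ _ _ ⟨Nat.prime_two⟩ (by rw [sq, hxsq]) hx1,
    fun e => hx _ (L₂.mul_mem hj₂ (L₂.inv_mem hb₀)) (eq_mul_inv_of_mul_eq e), ?_⟩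
  intro y hy hyo
  have hnorm : L₂ ≤ Subgroup.normalizer (L₁ : Set G) := fun b hb => Subgroup.mem_normalizer_iff.2 fun a => by
    constructor
    · intro ha; rwa [← hc a ha b hb, mul_inv_cancel_right]
    · intro ha
      have h := hc _ ha b hb
      have h2 : a = b * a * b⁻¹ := mul_left_cancel (a := b) (by rw [← h]; group)
      rwa [h2]
  rw [sup_comm, ← SetLike.mem_coe, Subgroup.coe_mul_of_left_le_normalizer_right _ _ hnorm] at hy
  obtain ⟨b, hb, a, ha, rfl⟩ := hy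
  have hyy : b * a * (b * a) = 1 := by rw [← sq, ← hyo, pow_orderOf_eq_one]
  rw [Commute.mul_mul_mul_comm (hc a ha b hb)] at hyy
  have haa : a * a = (b * b)⁻¹ := eq_inv_of_mul_eq_one_right hyy
  rcases hint (a * a) (L₁.mul_mem ha ha) (haa ▸ L₂.inv_mem (L₂.mul_mem hb hb)) with h | h
  · left
    have hbb : b * b = 1 := by rwa [h, mul_one] at hyy
    rcases hu₁ a ha h with rfl | rfl <;> rcases hu₂ b hb hbb with rfl | rfl <;>
      first | (simp [hjj] at hyo; done) | simp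
  · right
    have hbb : b * b = j := by
      rw [h] at hyy
      rw [eq_inv_of_mul_eq_one_left hyy, inv_eq_of_mul_eq_one_right hjj]
    obtain ⟨k₁, hk₁, rfl⟩ := hc₁ a ha h
    obtain ⟨k₂, hk₂, rfl⟩ := hc₂ b hb hbb
    refine ⟨k₂ * k₁, sup_comm L₂ L₁ ▸ Subgroup.mul_mem_sup hk₂ hk₁, ?_⟩
    have c1 : Commute k₁ b₀ := hc _ hk₁ _ hb₀
    have c2 : Commute k₂ (k₁ * a₀ * k₁⁻¹) := (hc _ (L₁.mul_mem (L₁.mul_mem hk₁ ha₀) (L₁.inv_mem hk₁)) _ hk₂).symm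
    calc k₂ * k₁ * (a₀ * b₀) * (k₂ * k₁)⁻¹ = k₂ * (k₁ * a₀ * b₀ * k₁⁻¹) * k₂⁻¹ := by group
      _ = k₂ * ((k₁ * a₀ * k₁⁻¹) * b₀) * k₂⁻¹ := by rw [mul_assoc (k₁ * a₀) b₀, ← c1.inv_left.eq, ← mul_assoc (k₁ * a₀)]
      _ = (k₁ * a₀ * k₁⁻¹) * (k₂ * b₀ * k₂⁻¹) := by rw [← mul_assoc k₂, c2.eq]; group
      _ = (k₂ * b₀ * k₂⁻¹) * (k₁ * a₀ * k₁⁻¹) :=
        hc _ (L₁.mul_mem (L₁.mul_mem hk₁ ha₀) (L₁.inv_mem hk₁)) _ (L₂.mul_mem (L₂.mul_mem hk₂ hb₀) (L₂.inv_mem hk₂))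

end Cfsg.Agent.S3209
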