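import Cfsg.Statements.S3210
import Cfsg.Agent.Fus.PSL2Dihedral
import Mathlib.Algebra.Group.Subgroup.Pointwise
import Mathlib.GroupTheory.Index
-- import your own Cfsg.Agent.* helpers here

set_option autoImplicit false
open Cfsg

namespace Cfsg.Agent.S3210

open CfsgLib.Fus.PSL2Two in
theorem cent_fours {F : Type*} [Field F] [Fintype F] (hodd : Fintype.card F % 2 = 1)
    (g : Matrix.SpecialLinearGroup (Fin 2) F) (h : ∀ e : Matrix.SpecialLinearGroup (Fin 2) F, e * e = -1 → g * e = e * g) :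
    g = 1 ∨ g = -1 := by
  obtain ⟨x, y, hxy⟩ := exists_two_squares hodd (-1 : F)
  let S : Matrix.SpecialLinearGroup (Fin 2) F := ⟨!![x, y; y, -x], by
    rw [Matrix.det_fin_two_of]; linear_combination -hxy⟩
  have hS : S * S = -1 := by
    ext i k
    rw [Matrix.SpecialLinearGroup.coe_mul]
    fin_cases i <;> fin_cases k <;> simp [S, Matrix.SpecialLinearGroup.coe_neg, Matrix.mul_apply, Fin.sum_univ_two] <;>
      first | ring1 | linear_combination hxy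
  have hJ : (jEl : Matrix.SpecialLinearGroup (Fin 2) F) * jEl = -1 := by
    ext i k
    rw [Matrix.SpecialLinearGroup.coe_mul]
    fin_cases i <;> fin_cases k <;> simp [jEl, Matrix.SpecialLinearGroup.coe_neg, Matrix.mul_apply, Fin.sum_univ_two]
  have h1 := congrArg Subtype.val (h _ hJ)
  have h2 := congrArg Subtype.val (h _ hS)
  rw [Matrix.SpecialLinearGroup.coe_mul, Matrix.SpecialLinearGroup.coe_mul] at h1 h2
  have a1 := congrFun (congrFun h1 0) 0
  have a2 := congrFun (congrFun h1 0) 1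
  have b1 := congrFun (congrFun h2 0) 0
  have b2 := congrFun (congrFun h2 0) 1
  simp [jEl, S, Matrix.mul_apply, Fin.sum_univ_two] at a1 a2 b1 b2
  set M := (g : Matrix (Fin 2) (Fin 2) F) with hM
  have two := two_ne_zero' hodd
  have hb : M 0 1 = 0 := by
    by_cases hy : y = 0
    · have hx : x ≠ 0 := fun e => by rw [e, hy] at hxy; simp at hxy
      subst hy
      refine (mul_eq_zero.1 ?_).resolve_left (mul_ne_zero two hx)
      linear_combination -b2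
    · refine (mul_eq_zero.1 ?_).resolve_left (mul_ne_zero two hy)
      linear_combination b1 + y * a1
  have hc : M 1 0 = 0 := by linear_combination a1 - hb
  have hd : M 1 1 = M 0 0 := by linear_combination -a2
  have hdet : M 0 0 * M 1 1 - M 0 1 * M 1 0 = 1 := by rw [← Matrix.det_fin_two]; exact g.2
  rw [hb, hc, hd, mul_zero, sub_zero] at hdet
  rcases mul_self_eq_one_iff.1 hdet with e | e
  · left; ext i k; fin_cases i <;> fin_cases k <;> simp [← hM, hb, hc, hd, e]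
  · right; ext i k; fin_cases i <;> fin_cases k <;> simp [← hM, Matrix.SpecialLinearGroup.coe_neg, hb, hc, hd, e]

open CfsgLib.Fus.PSL2Two in
theorem facts {G : Type*} [Group G] {F : Type*} [Field F] [Fintype F] (hF : Odd (Fintype.card F)) (L : Subgroup G)
    (e : L ≃* Matrix.SpecialLinearGroup (Fin 2) F) (j : G) (hjL : j ∈ L) (hj : orderOf j = 2) :
    (∀ a ∈ L, a * a = 1 → a = 1 ∨ a = j) ∧
      (∃ a₀ ∈ L, a₀ * a₀ = j ∧ ∀ a ∈ L, a * a = j → ∃ k ∈ L, a = k * a₀ * k⁻¹) ∧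
      ∀ a ∈ L, (∀ b ∈ L, b * b = j → a * b = b * a) → a = 1 ∨ a = j := by
  have hodd : Fintype.card F % 2 = 1 := Nat.odd_iff.1 hF
  have hj1 : j ≠ 1 := fun h => by rw [h, orderOf_one] at hj; exact absurd hj (by norm_num)
  have hjj : j * j = 1 := by rw [← sq, ← hj, pow_orderOf_eq_one]
  have hej : e ⟨j, hjL⟩ = -1 := by
    rcases sq_eq_one_cases hodd (g := e ⟨j, hjL⟩) (by
      rw [← map_mul, show (⟨j, hjL⟩ * ⟨j, hjL⟩ : L) = 1 from Subtype.ext hjj, map_one]) with h | h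
    · exact absurd (congrArg Subtype.val (e.injective (h.trans (map_one e).symm))) hj1
    · exact h
  have back : ∀ z : L, e z = 1 ∨ e z = -1 → (z : G) = 1 ∨ (z : G) = j := by
    rintro z (h | h)
    · exact .inl (congrArg Subtype.val (e.injective (h.trans (map_one e).symm)))
    · exact .inr (congrArg Subtype.val (e.injective (h.trans hej.symm)))
  refine ⟨fun a ha haa => back ⟨a, ha⟩ (sq_eq_one_cases hodd (by
      rw [← map_mul, show (⟨a, ha⟩ * ⟨a, ha⟩ : L) = 1 from Subtype.ext haa, map_one])),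
    ⟨((e.symm jEl : L) : G), (e.symm jEl).2, ?_, fun a ha haa => ?_⟩, fun a ha hcomm => ?_⟩
  · have hJ : (jEl : Matrix.SpecialLinearGroup (Fin 2) F) * jEl = -1 := by
      ext i k
      rw [Matrix.SpecialLinearGroup.coe_mul]
      fin_cases i <;> fin_cases k <;> simp [jEl, Matrix.SpecialLinearGroup.coe_neg, Matrix.mul_apply, Fin.sum_univ_two]
    have := congrArg (fun z => ((e.symm z : L) : G)) hJ
    simp only [map_mul, Subgroup.coe_mul] at this
    rw [this, ← hej, MulEquiv.symm_apply_apply]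
  · obtain ⟨k, hk⟩ := exists_conj_j hodd (g := e ⟨a, ha⟩) (by
      rw [← map_mul, show (⟨a, ha⟩ * ⟨a, ha⟩ : L) = ⟨j, hjL⟩ from Subtype.ext haa, hej])
    refine ⟨((e.symm k : L) : G), (e.symm k).2, ?_⟩
    have := congrArg (fun z => ((e.symm z : L) : G)) hk
    simpa using this
  · refine back ⟨a, ha⟩ (cent_fours hodd _ fun f hf => ?_)
    have hf' : (e.symm f : G) * (e.symm f : G) = j := by
      have := congrArg (fun z => ((e.symm z : L) : G)) hf
      simp only [map_mul, Subgroup.coe_mul] at this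
      rw [this, ← hej, MulEquiv.symm_apply_apply]
    have h' : (⟨a, ha⟩ : L) * e.symm f = e.symm f * ⟨a, ha⟩ := Subtype.ext (hcomm _ (e.symm f).2 hf')
    have := congrArg e h'
    simpa only [map_mul, MulEquiv.apply_symm_apply] using this

end Cfsg.Agent.S3210

namespace Cfsg.Agent.S3210

/-- Let G be a finite group with subgroups L₁ ≅ SL₂(q₁) and L₂ ≅ SL₂(q₂), q₁ and q₂ odd prime powers, which commute elementwise and meet in ⟨j⟩ for an involution j, and suppose L₁L₂ has index 2 in C_G(j). Then every element n of C_G(j) outside L₁L₂ either normalizes both L₁ and L₂, or conjugates L₁ onto L₂; in the second case q₁ = q₂ and there is an element n′ of C_G(j) outside L₁L₂ conjugating L₁ onto L₂ with n′² ∈ ⟨j⟩. -/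
theorem result {G : Type*} [Group G] [Finite G]
    {F₁ : Type*} [Field F₁] [Fintype F₁] {F₂ : Type*} [Field F₂] [Fintype F₂]
    (hF₁ : Odd (Fintype.card F₁)) (hF₂ : Odd (Fintype.card F₂)) (L₁ L₂ : Subgroup G)
    (e₁ : ↥L₁ ≃* Matrix.SpecialLinearGroup (Fin 2) F₁) (e₂ : ↥L₂ ≃* Matrix.SpecialLinearGroup (Fin 2) F₂)
    (hc : ∀ x ∈ L₁, ∀ y ∈ L₂, x * y = y * x) (j : G) (hj : orderOf j = 2) (hm : L₁ ⊓ L₂ = Subgroup.zpowers j)
    (hle : L₁ ⊔ L₂ ≤ Subgroup.centralizer ({j} : Set G)) (hi : (L₁ ⊔ L₂).relIndex (Subgroup.centralizer ({j} : Set G)) = 2) (n : G) (hn : n ∈ Subgroup.centralizer ({j} : Set G)) (hn' : n ∉ L₁ ⊔ L₂) :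
    (L₁.map (MulAut.conj n).toMonoidHom = L₁ ∧ L₂.map (MulAut.conj n).toMonoidHom = L₂) ∨
      (L₁.map (MulAut.conj n).toMonoidHom = L₂ ∧ Fintype.card F₁ = Fintype.card F₂ ∧
        ∃ n' ∈ Subgroup.centralizer ({j} : Set G), n' ∉ L₁ ⊔ L₂ ∧ L₁.map (MulAut.conj n').toMonoidHom = L₂ ∧ n' ^ 2 ∈ Subgroup.zpowers j) := by
  classical
  obtain ⟨hj₁, hj₂⟩ : j ∈ L₁ ∧ j ∈ L₂ := Subgroup.mem_inf.1 (hm ▸ Subgroup.mem_zpowers j)
  obtain ⟨hu₁, ⟨a₀, ha₀, haa₀, hc₁⟩, hz₁⟩ := facts hF₁ L₁ e₁ j hj₁ hj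
  obtain ⟨hu₂, ⟨b₀, hb₀, hbb₀, hc₂⟩, hz₂⟩ := facts hF₂ L₂ e₂ j hj₂ hj
  have hj1 : j ≠ 1 := fun h => by rw [h, orderOf_one] at hj; exact absurd hj (by norm_num)
  have hjj : j * j = 1 := by rw [← sq, ← hj, pow_orderOf_eq_one]
  have hint : ∀ z ∈ L₁, z ∈ L₂ → z = 1 ∨ z = j := by
    intro z h1 h2
    obtain ⟨i, rfl⟩ := Subgroup.mem_zpowers_iff.1 (hm ▸ Subgroup.mem_inf.2 ⟨h1, h2⟩ : z ∈ Subgroup.zpowers j)
    rcases Int.even_or_odd' i with ⟨l, rfl | rfl⟩
    · exact .inl (by rw [zpow_mul, zpow_two, hjj, one_zpow])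
    · exact .inr (by rw [zpow_add, zpow_mul, zpow_two, hjj, one_zpow, one_mul, zpow_one])
  have conjL : ∀ (A B : Subgroup G), (∀ x ∈ A, ∀ y ∈ B, x * y = y * x) → B ≤ Subgroup.normalizer (A : Set G) := by
    intro A B h b hb
    refine Subgroup.mem_normalizer_iff.2 fun a => ⟨fun ha => ?_, fun ha => ?_⟩
    · rwa [← h a ha b hb, mul_inv_cancel_right]
    · have h' := h _ ha b hb
      have h2 : a = b * a * b⁻¹ := mul_left_cancel (a := b) (by rw [← h']; group)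
      rwa [h2]
  have hc' : ∀ x ∈ L₂, ∀ y ∈ L₁, x * y = y * x := fun x hx y hy => (hc y hy x hx).symm
  have hN₁ : L₁ ⊔ L₂ ≤ Subgroup.normalizer (L₁ : Set G) := sup_le Subgroup.le_normalizer (conjL _ _ hc)
  have hN₂ : L₁ ⊔ L₂ ≤ Subgroup.normalizer (L₂ : Set G) := sup_le (conjL _ _ hc') Subgroup.le_normalizer
  have hdec : ∀ x ∈ L₁ ⊔ L₂, ∃ a ∈ L₁, ∃ b ∈ L₂, x = a * b := by
    intro x hx
    rw [← SetLike.mem_coe, Subgroup.coe_mul_of_left_le_normalizer_right _ _ (le_sup_left.trans hN₂)] at hx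
    obtain ⟨a, ha, b, hb, rfl⟩ := hx
    exact ⟨a, ha, b, hb, rfl⟩
  have hfour : ∀ x ∈ L₁ ⊔ L₂, x * x = j → x ∈ L₁ ∨ x ∈ L₂ := by
    intro x hx hxx
    obtain ⟨a, ha, b, hb, rfl⟩ := hdec x hx
    rw [Commute.mul_mul_mul_comm (hc a ha b hb).symm] at hxx
    have haa : a * a = j * (b * b)⁻¹ := eq_mul_inv_of_mul_eq hxx
    rcases hint (a * a) (L₁.mul_mem ha ha) (haa ▸ L₂.mul_mem hj₂ (L₂.inv_mem (L₂.mul_mem hb hb))) with h | h
    · rcases hu₁ a ha h with rfl | rfl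
      · exact .inr (by rwa [one_mul])
      · exact .inr (L₂.mul_mem hj₂ hb)
    · rw [h, mul_eq_left] at hxx
      rcases hu₂ b hb hxx with rfl | rfl
      · exact .inl (by rwa [mul_one])
      · exact .inl (L₁.mul_mem ha hj₁)
  -- `n` normalises the central product
  set M := L₁ ⊔ L₂ with hMdef
  have hnj : n * j * n⁻¹ = j := by
    rw [Subgroup.mem_centralizer_iff] at hn
    rw [← hn j rfl, mul_inv_cancel_right]
  have hidx : (M.subgroupOf (Subgroup.centralizer ({j} : Set G))).index = 2 := hi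
  haveI hnorm := Subgroup.normal_of_index_eq_two hidx
  have hconjM : ∀ c ∈ Subgroup.centralizer ({j} : Set G), ∀ x ∈ M, c * x * c⁻¹ ∈ M := fun c hc0 x hx =>
    hnorm.conj_mem ⟨x, hle hx⟩ hx ⟨c, hc0⟩
  have hn2 : n * n ∈ M := by
    have := Subgroup.mul_self_mem_of_index_two hidx ⟨n, hn⟩
    exact this
  let E : Subgroup G → Set G := fun L => {x | x ∈ L ∧ x * x = j}
  have hE : ∀ x, x ∈ E L₁ → x ∉ L₂ := fun x hx h2 => by
    rcases hint x hx.1 h2 with h | h <;> have h' := hx.2 <;> rw [h] at h'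
    · exact hj1 (by simpa using h'.symm)
    · exact hj1 (h'.symm.trans hjj)
  have hE' : ∀ x, x ∈ E L₂ → x ∉ L₁ := fun x hx h2 => by
    rcases hint x h2 hx.1 with h | h <;> have h' := hx.2 <;> rw [h] at h'
    · exact hj1 (by simpa using h'.symm)
    · exact hj1 (h'.symm.trans hjj)
  have hsq : ∀ (c x : G), c * j * c⁻¹ = j → x * x = j → c * x * c⁻¹ * (c * x * c⁻¹) = j := fun c x hc0 hx => by
    rw [show c * x * c⁻¹ * (c * x * c⁻¹) = c * (x * x) * c⁻¹ by group, hx, hc0]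
  have hcls : ∀ L, L = L₁ ∨ L = L₂ → (∀ x ∈ E L, n * x * n⁻¹ ∈ E L₁) ∨ (∀ x ∈ E L, n * x * n⁻¹ ∈ E L₂) := by
    intro L hL
    obtain ⟨hLM, r, hr, hrr, hcl⟩ : L ≤ M ∧ ∃ r ∈ L, r * r = j ∧ ∀ a ∈ L, a * a = j → ∃ k ∈ L, a = k * r * k⁻¹ := by
      rcases hL with rfl | rfl
      · exact ⟨le_sup_left, a₀, ha₀, haa₀, hc₁⟩
      · exact ⟨le_sup_right, b₀, hb₀, hbb₀, hc₂⟩
    have go : ∀ T : Subgroup G, M ≤ Subgroup.normalizer (T : Set G) → n * r * n⁻¹ ∈ T → ∀ x ∈ E L, n * x * n⁻¹ ∈ E T := by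
      intro T hT hrT x hx
      obtain ⟨k, hk, hxk⟩ := hcl x hx.1 hx.2
      refine ⟨?_, hsq n x hnj hx.2⟩
      have hk' : n * k * n⁻¹ ∈ Subgroup.normalizer (T : Set G) := hT (hconjM n hn k (hLM hk))
      have := (Subgroup.mem_normalizer_iff.1 hk' _).1 hrT
      rwa [hxk, show n * (k * r * k⁻¹) * n⁻¹ = n * k * n⁻¹ * (n * r * n⁻¹) * (n * k * n⁻¹)⁻¹ by group]
    rcases hfour _ (hconjM n hn r (hLM hr)) (hsq n r hnj hrr) with h | h
    · exact .inl (go L₁ hN₁ h)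
    · exact .inr (go L₂ hN₂ h)
  -- the inverse of the square of `n` fixes both classes
  have htw : ∀ L, L = L₁ ∨ L = L₂ → ∀ x ∈ E L, (n * n)⁻¹ * x * (n * n) ∈ E L ∧ n * (n * x * n⁻¹) * n⁻¹ ∈ E L := by
    intro L hL x hx
    have hT : M ≤ Subgroup.normalizer (L : Set G) := by rcases hL with rfl | rfl <;> assumption
    have hnnj : n * n * j * (n * n)⁻¹ = j := by
      rw [show n * n * j * (n * n)⁻¹ = n * (n * j * n⁻¹) * n⁻¹ by group, hnj, hnj]
    refine ⟨⟨(Subgroup.mem_normalizer_iff''.1 (hT hn2) _).1 hx.1, ?_⟩, ?_, hsq n _ hnj (hsq n x hnj hx.2)⟩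
    · have := hsq (n * n)⁻¹ x (by rw [inv_inv]; nth_rw 1 [← hnnj]; group) hx.2
      rwa [inv_inv] at this
    · have := (Subgroup.mem_normalizer_iff.1 (hT hn2) _).1 hx.1
      rwa [show n * n * x * (n * n)⁻¹ = n * (n * x * n⁻¹) * n⁻¹ by group] at this
  have hpre : ∀ A B, B = L₁ ∨ B = L₂ → (∀ x ∈ E B, n * x * n⁻¹ ∈ E A) → ∀ x ∈ E B, n⁻¹ * x * n ∈ E A := by
    intro A B hB h x hx
    have := h _ (htw B hB x hx).1
    rwa [show n * ((n * n)⁻¹ * x * (n * n)) * n⁻¹ = n⁻¹ * x * n by group] at this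
  have hcent₁ : ∀ x ∈ M, (∀ e ∈ E L₂, x * e = e * x) → x ∈ L₁ := by
    intro x hx h
    obtain ⟨a, ha, b, hb, rfl⟩ := hdec x hx
    rcases hz₂ b hb (fun e he hee => by
      have := h e ⟨he, hee⟩
      rw [mul_assoc, ← mul_assoc e a, ← hc a ha e he, mul_assoc] at this
      exact mul_left_cancel this) with rfl | rfl
    · rwa [mul_one]
    · exact L₁.mul_mem ha hj₁
  have hcent₂ : ∀ x ∈ M, (∀ e ∈ E L₁, x * e = e * x) → x ∈ L₂ := by
    intro x hx h
    obtain ⟨a, ha, b, hb, rfl⟩ := hdec x hx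
    rcases hz₁ a ha (fun e he hee => by
      have := h e ⟨he, hee⟩
      rw [mul_assoc, ← hc e he b hb, ← mul_assoc, ← mul_assoc] at this
      exact mul_right_cancel this) with rfl | rfl
    · rwa [one_mul]
    · exact L₂.mul_mem hj₂ hb
  have himg : ∀ (x : G), ∀ e, (n⁻¹ * e * n) * x = x * (n⁻¹ * e * n) → (n * x * n⁻¹) * e = e * (n * x * n⁻¹) := by
    intro x e h
    have h2 := congrArg (fun z => n * z * n⁻¹) h
    simp only [mul_assoc, mul_inv_cancel, mul_inv_cancel_left, mul_one] at h2 ⊢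
    exact h2.symm
  have hbyhom : ∀ (A B : Subgroup G), (∀ x ∈ A, n * x * n⁻¹ ∈ B) → (∀ y ∈ B, ∃ x ∈ A, n * x * n⁻¹ = y) →
      A.map (MulAut.conj n).toMonoidHom = B := fun A B h1 h2 => by
    ext y
    rw [Subgroup.mem_map]
    exact ⟨fun ⟨x, hx, hxy⟩ => hxy ▸ h1 x hx, fun hy => h2 y hy⟩
  have hback : ∀ (A B : Subgroup G), A ≤ M → B ≤ M → M ≤ Subgroup.normalizer (B : Set G) →
      (∀ x ∈ B, n * x * n⁻¹ ∈ A) → ∀ y ∈ B, ∃ x ∈ A, n * x * n⁻¹ = y := by
    intro A B _ _ hB h y hy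
    refine ⟨n⁻¹ * y * n, ?_, by group⟩
    have := h _ ((Subgroup.mem_normalizer_iff''.1 (hB hn2) y).1 hy)
    rwa [show n * ((n * n)⁻¹ * y * (n * n)) * n⁻¹ = n⁻¹ * y * n by group] at this
  have hne₁ : a₀ ∈ E L₁ := ⟨ha₀, haa₀⟩
  have hne₂ : b₀ ∈ E L₂ := ⟨hb₀, hbb₀⟩
  rcases hcls L₁ (.inl rfl) with h | h
  · left
    have h' : ∀ x ∈ E L₂, n * x * n⁻¹ ∈ E L₂ := by
      rcases hcls L₂ (.inr rfl) with g | g
      · exact absurd (h _ (g _ hne₂)).1 (hE' _ (htw L₂ (.inr rfl) _ hne₂).2)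
      · exact g
    have m1 : ∀ x ∈ L₁, n * x * n⁻¹ ∈ L₁ := fun x hx => hcent₁ _ (hconjM n hn x (le_sup_left (a := L₁) hx)) fun e he =>
      himg x e (hc x hx _ (hpre L₂ L₂ (.inr rfl) h' e he).1).symm
    have m2 : ∀ x ∈ L₂, n * x * n⁻¹ ∈ L₂ := fun x hx => hcent₂ _ (hconjM n hn x (le_sup_right (a := L₁) hx)) fun e he =>
      himg x e (hc _ (hpre L₁ L₁ (.inl rfl) h e he).1 x hx)
    exact ⟨hbyhom _ _ m1 (hback _ _ le_sup_left le_sup_left hN₁ m1), hbyhom _ _ m2 (hback _ _ le_sup_right le_sup_right hN₂ m2)⟩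
  · right
    have h' : ∀ x ∈ E L₂, n * x * n⁻¹ ∈ E L₁ := by
      rcases hcls L₂ (.inr rfl) with g | g
      · exact g
      · exact absurd (htw L₁ (.inl rfl) _ hne₁).2.1 (hE' _ (g _ (h _ hne₁)))
    have m1 : ∀ x ∈ L₁, n * x * n⁻¹ ∈ L₂ := fun x hx => hcent₂ _ (hconjM n hn x (le_sup_left (a := L₁) hx)) fun e he =>
      himg x e (hc x hx _ (hpre L₂ L₁ (.inl rfl) h e he).1).symm
    have m2 : ∀ x ∈ L₂, n * x * n⁻¹ ∈ L₁ := fun x hx => hcent₁ _ (hconjM n hn x (le_sup_right (a := L₁) hx)) fun e he =>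
      himg x e (hc _ (hpre L₁ L₂ (.inr rfl) h' e he).1 x hx)
    have hmap : L₁.map (MulAut.conj n).toMonoidHom = L₂ :=
      hbyhom _ _ m1 (hback _ _ le_sup_left le_sup_right hN₂ m2)
    refine ⟨hmap, ?_, ?_⟩
    · have h1 : Nat.card L₁ = Nat.card L₂ :=
        hmap ▸ Nat.card_congr (L₁.equivMapOfInjective _ (MulEquiv.injective _)).toEquiv
      rw [Nat.card_congr e₁.toEquiv, Nat.card_congr e₂.toEquiv, CfsgLib.Lie.Orders.card_SL_two rfl,
        CfsgLib.Lie.Orders.card_SL_two rfl] at h1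
      by_contra hne
      rcases Nat.lt_or_gt_of_ne hne with hlt | hlt
      · exact absurd h1 (Nat.mul_lt_mul_of_lt_of_le hlt (Nat.sub_le_sub_right (Nat.pow_le_pow_left hlt.le 2) 1)
          (Nat.sub_pos_of_lt (Nat.one_lt_pow two_ne_zero Fintype.one_lt_card))).ne
      · exact absurd h1.symm (Nat.mul_lt_mul_of_lt_of_le hlt (Nat.sub_le_sub_right (Nat.pow_le_pow_left hlt.le 2) 1)
          (Nat.sub_pos_of_lt (Nat.one_lt_pow two_ne_zero Fintype.one_lt_card))).ne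
    · obtain ⟨a, ha, b, hb, hab⟩ := hdec _ hn2
      have haM : a⁻¹ ∈ M := le_sup_left (a := L₁) (L₁.inv_mem ha)
      refine ⟨n * a⁻¹, Subgroup.mul_mem _ hn (hle haM), fun hh => hn' ?_, ?_, ?_⟩
      · simpa using M.mul_mem hh (le_sup_left (a := L₁) ha)
      · refine le_antisymm ?_ ?_
        · rintro y ⟨x, hx, rfl⟩
          have := m1 _ (L₁.mul_mem (L₁.mul_mem (L₁.inv_mem ha) hx) ha)
          simpa [mul_assoc] using this
        · intro y hy
          obtain ⟨x, hx, rfl⟩ := hback L₁ L₂ le_sup_left le_sup_right hN₂ m2 y hy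
          exact ⟨a * x * a⁻¹, L₁.mul_mem (L₁.mul_mem ha hx) (L₁.inv_mem ha), by simp [mul_assoc]⟩
      · -- conjugation by `n` fixes `a * b` and swaps the factors
        have hfix : n * a * n⁻¹ * (n * b * n⁻¹) = a * b := by
          rw [show n * a * n⁻¹ * (n * b * n⁻¹) = n * (a * b) * n⁻¹ by group, ← hab]; group
        have hA := m1 a ha
        have hB := m2 b hb
        rw [(hc _ hB _ hA).symm] at hfix
        have hq : a⁻¹ * (n * b * n⁻¹) = b * (n * a * n⁻¹)⁻¹ := by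
          rw [eq_mul_inv_iff_mul_eq, mul_assoc, hfix, inv_mul_cancel_left]
        have hmem : a⁻¹ * (n * b * n⁻¹) ∈ L₁ ⊓ L₂ :=
          ⟨L₁.mul_mem (L₁.inv_mem ha) hB, hq ▸ L₂.mul_mem hb (L₂.inv_mem hA)⟩
        have hmem' : b * (n * a * n⁻¹)⁻¹ = 1 ∨ b * (n * a * n⁻¹)⁻¹ = j := hint _ (hq ▸ hmem.1) (hq ▸ hmem.2)
        have e1 : (n * a⁻¹) ^ 2 = (n * a * n⁻¹)⁻¹ * b := by
          rw [sq, show n * a⁻¹ * (n * a⁻¹) = (n * a * n⁻¹)⁻¹ * ((n * n) * a⁻¹) by group, hab, hc a ha b hb,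
            mul_inv_cancel_right]
        rw [e1, show (n * a * n⁻¹)⁻¹ * b = b⁻¹ * (b * (n * a * n⁻¹)⁻¹) * b by group]
        rcases hmem' with h | h <;> rw [h]
        · rw [mul_one, inv_mul_cancel]; exact one_mem _
        · rw [mul_assoc, hc j hj₁ b hb, inv_mul_cancel_left]; exact Subgroup.mem_zpowers j

end Cfsg.Agent.S3210
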