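import Cfsg.Statements.S3213
import Cfsg.Agent.Lie.Orders
import Mathlib.LinearAlgebra.Matrix.GeneralLinearGroup.Card
import Mathlib.LinearAlgebra.Dimension.FreeAndStrongRankCondition
import Mathlib.FieldTheory.Finite.Basic
import Mathlib.GroupTheory.Sylow
import Mathlib.Tactic
-- import your own Cfsg.Agent.* helpers here

set_option autoImplicit false
set_option linter.all false
set_option maxHeartbeats 1000000
open Cfsg

namespace Cfsg.Agent.S3213

open Matrix

theorem triv_on_small {F : Type*} [Field F] [Fintype F] (hF : Fintype.card F = 3) {U : Type*} [AddCommGroup U] [Module F U]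
    [FiniteDimensional F U] (h : Module.finrank F U ≤ 3) (f : Module.End F U) (hf : f ^ 5 = 1) : f = 1 := by
  let u : (Module.End F U)ˣ := Units.ofPowEqOne f 5 hf (by norm_num)
  have h5 : orderOf u ∣ 5 := orderOf_dvd_of_pow_eq_one (Units.ext hf)
  let e : (Module.End F U)ˣ ≃* GL (Fin (Module.finrank F U)) F :=
    Units.mapEquiv (LinearMap.toMatrixAlgEquiv (Module.finBasis F U)).toRingEquiv.toMulEquiv
  have hd : orderOf u ∣ Nat.card (GL (Fin (Module.finrank F U)) F) := by
    rw [← e.orderOf_eq u]; exact orderOf_dvd_natCard _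
  have hco : (Nat.card (GL (Fin (Module.finrank F U)) F)).Coprime 5 := by
    rw [Matrix.card_GL_field, hF]
    generalize Module.finrank F U = k at h
    interval_cases k <;> simp [Fin.prod_univ_succ] <;> norm_num
  have h1 : orderOf u = 1 := Nat.eq_one_of_dvd_coprimes hco hd h5
  exact congrArg Units.val (orderOf_eq_one_iff.1 h1)

theorem ne_one_dim {F : Type*} [Field F] [Fintype F] (hF : Fintype.card F = 3) {E : Type*} [AddCommGroup E] [Module F E]
    (S : Module.End F E) (hS : ∀ v, S (S v) = -v) (U : Submodule F E) (hU : ∀ v ∈ U, S v ∈ U) :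
    Module.finrank F U ≠ 1 := by
  intro h
  obtain ⟨⟨v, hv⟩, hv0, hall⟩ := finrank_eq_one_iff'.1 h
  obtain ⟨c, hc⟩ := hall ⟨S v, hU v hv⟩
  have hc' : S v = c • v := (congrArg Subtype.val hc).symm
  have h2 : (c * c) • v = (-1 : F) • v := by
    rw [mul_smul, ← hc', ← map_smul, ← hc', hS, neg_one_smul]
  have hv' : v ≠ 0 := fun e => hv0 (Subtype.ext e)
  have h3 : c * c = -1 := smul_left_injective F hv' h2
  have hc0 : c ≠ 0 := fun e => by rw [e, mul_zero] at h3; exact one_ne_zero (neg_eq_zero.1 h3.symm)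
  have h4 := FiniteField.pow_card_sub_one_eq_one c hc0
  rw [hF, show 3 - 1 = 2 from rfl, pow_two, h3] at h4
  have h5 : ((3 : ℕ) : F) = 0 := by rw [← hF]; exact FiniteField.cast_card_eq_zero F
  exact one_ne_zero (show (1 : F) = 0 by push_cast at h5; linear_combination h5 + h4)

/-- Let F be the field with 3 elements and K the field with 5 elements. For every injective homomorphism φ from SL₂(K) into the symplectic group Sp₄(F) (4 × 4 matrices g with g J gᵀ = J for the standard alternating matrix J) and every element x of order 3 of SL₂(K), the vectors of F⁴ fixed by φ(x) form a 2-dimensional subspace that is totally isotropic for the alternating form defined by J. -/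
theorem result {F : Type*} [Field F] [Fintype F] (hF : Fintype.card F = 3)
    {K : Type*} [Field K] [Fintype K] (hK : Fintype.card K = 5)
    (φ : Matrix.SpecialLinearGroup (Fin 2) K →* ↥(Matrix.symplecticGroup (Fin 2) F)) (hφ : Function.Injective φ)
    (x : Matrix.SpecialLinearGroup (Fin 2) K) (hx : orderOf x = 3) :
    Module.finrank F ↥(LinearMap.ker (Matrix.toLin' ((φ x : Matrix (Fin 2 ⊕ Fin 2) (Fin 2 ⊕ Fin 2) F)) - LinearMap.id)) = 2 ∧
      ∀ v w : Fin 2 ⊕ Fin 2 → F, (φ x : Matrix (Fin 2 ⊕ Fin 2) (Fin 2 ⊕ Fin 2) F).mulVec v = v →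
        (φ x : Matrix (Fin 2 ⊕ Fin 2) (Fin 2 ⊕ Fin 2) F).mulVec w = w →
          dotProduct v ((Matrix.J (Fin 2) F).mulVec w) = 0 := by
  classical
  haveI : Fact (Nat.Prime 3) := ⟨Nat.prime_three⟩
  haveI : Fact (Nat.Prime 5) := ⟨by norm_num⟩
  have k5 : (5 : K) = 0 := by
    have := FiniteField.cast_card_eq_zero K
    rw [hK] at this
    exact_mod_cast this
  have k1 : (1 : K) ≠ 0 := one_ne_zero
  let x0 : Matrix.SpecialLinearGroup (Fin 2) K := ⟨!![0, -1; 1, -1], by simp [Matrix.det_fin_two_of]⟩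
  let s0 : Matrix.SpecialLinearGroup (Fin 2) K := ⟨!![0, 2; 2, 0], by
    rw [Matrix.det_fin_two_of]; linear_combination (-1 : K) * k5⟩
  let u0 : Matrix.SpecialLinearGroup (Fin 2) K := ⟨!![1, 1; 0, 1], by simp [Matrix.det_fin_two_of]⟩
  have hx0 : orderOf x0 = 3 := orderOf_eq_prime (Subtype.ext (show (!![0, -1; 1, -1] : Matrix (Fin 2) (Fin 2) K) ^ 3 = 1 by
      ext i j; fin_cases i <;> fin_cases j <;> simp [x0, pow_succ, Matrix.mul_apply, Fin.sum_univ_two, Matrix.SpecialLinearGroup.coe_mul, Matrix.SpecialLinearGroup.coe_pow, Matrix.SpecialLinearGroup.coe_inv, Matrix.adjugate_fin_two_of]))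
    (fun e => k1 (by simpa [x0] using congrFun (congrFun (congrArg Subtype.val e) 1) 0))
  have hu0 : orderOf u0 = 5 := orderOf_eq_prime (Subtype.ext (show (!![1, 1; 0, 1] : Matrix (Fin 2) (Fin 2) K) ^ 5 = 1 by
      ext i j; fin_cases i <;> fin_cases j <;> simp [u0, pow_succ, Matrix.mul_apply, Fin.sum_univ_two, Matrix.SpecialLinearGroup.coe_mul, Matrix.SpecialLinearGroup.coe_pow, Matrix.SpecialLinearGroup.coe_inv, Matrix.adjugate_fin_two_of]
      linear_combination k5))
    (fun e => k1 (by simpa [u0] using congrFun (congrFun (congrArg Subtype.val e) 0) 1))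
  have hsx : s0 * x0 * s0⁻¹ = x0⁻¹ := by
    rw [mul_inv_eq_iff_eq_mul, eq_inv_mul_iff_mul_eq]
    refine Subtype.ext ?_
    show (!![0, -1; 1, -1] : Matrix (Fin 2) (Fin 2) K) * ((!![0, 2; 2, 0] : Matrix (Fin 2) (Fin 2) K) * (!![0, -1; 1, -1] : Matrix (Fin 2) (Fin 2) K)) = (!![0, 2; 2, 0] : Matrix (Fin 2) (Fin 2) K)
    ext i j; fin_cases i <;> fin_cases j <;> simp [x0, s0, Matrix.mul_apply, Fin.sum_univ_two, Matrix.SpecialLinearGroup.coe_mul, Matrix.SpecialLinearGroup.coe_pow, Matrix.SpecialLinearGroup.coe_inv, Matrix.adjugate_fin_two_of]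
  set z := s0 * s0 with hz
  have hzc : ∀ g, g * z = z * g := fun g => by
    refine Subtype.ext ?_
    have e : ((z : Matrix.SpecialLinearGroup (Fin 2) K) : Matrix (Fin 2) (Fin 2) K) = -1 := by
      show (!![0, 2; 2, 0] : Matrix (Fin 2) (Fin 2) K) * (!![0, 2; 2, 0] : Matrix (Fin 2) (Fin 2) K) = -1
      ext i j; fin_cases i <;> fin_cases j <;> simp [hz, s0, Matrix.mul_apply, Fin.sum_univ_two, Matrix.SpecialLinearGroup.coe_mul, Matrix.SpecialLinearGroup.coe_pow, Matrix.SpecialLinearGroup.coe_inv, Matrix.adjugate_fin_two_of] <;> linear_combination k5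
    show (g : Matrix (Fin 2) (Fin 2) K) * (z : Matrix (Fin 2) (Fin 2) K) = (z : Matrix (Fin 2) (Fin 2) K) * (g : Matrix (Fin 2) (Fin 2) K)
    rw [e, mul_neg, neg_mul, mul_one, one_mul]
  have hz1 : z ≠ 1 := fun e => by
    have e' : (!![0, 2; 2, 0] : Matrix (Fin 2) (Fin 2) K) * (!![0, 2; 2, 0] : Matrix (Fin 2) (Fin 2) K) = 1 := congrArg Subtype.val e
    have := congrFun (congrFun e' 0) 0
    simp [hz, s0, Matrix.mul_apply, Fin.sum_univ_two, Matrix.SpecialLinearGroup.coe_mul, Matrix.SpecialLinearGroup.coe_pow, Matrix.SpecialLinearGroup.coe_inv, Matrix.adjugate_fin_two_of] at this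
    exact k1 (by linear_combination 2 * this - k5)
  have hz2 : z * z = 1 := by
    refine Subtype.ext ?_
    show (!![0, 2; 2, 0] : Matrix (Fin 2) (Fin 2) K) * (!![0, 2; 2, 0] : Matrix (Fin 2) (Fin 2) K) * ((!![0, 2; 2, 0] : Matrix (Fin 2) (Fin 2) K) * (!![0, 2; 2, 0] : Matrix (Fin 2) (Fin 2) K)) = 1
    ext i j; fin_cases i <;> fin_cases j <;> simp [hz, s0, Matrix.mul_apply, Fin.sum_univ_two, Matrix.SpecialLinearGroup.coe_mul, Matrix.SpecialLinearGroup.coe_pow, Matrix.SpecialLinearGroup.coe_inv, Matrix.adjugate_fin_two_of] <;> linear_combination 3 * k5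
  -- an element inverting `x`
  obtain ⟨s, hs, hs2⟩ : ∃ s, s * x * s⁻¹ = x⁻¹ ∧ s * s = z := by
    have hcard : Nat.card (Matrix.SpecialLinearGroup (Fin 2) K) = 120 := by
      rw [CfsgLib.Lie.Orders.card_SL_two hK]; norm_num
    have hf : (Nat.card (Matrix.SpecialLinearGroup (Fin 2) K)).factorization 3 = 1 := by
      rw [hcard, Nat.factorization_def _ Nat.prime_three, show (120 : ℕ) = 3 * 40 from rfl,
        padicValNat.mul (by norm_num) (by norm_num), padicValNat_self, padicValNat.eq_zero_of_not_dvd (by norm_num)]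
    let P : Sylow 3 (Matrix.SpecialLinearGroup (Fin 2) K) := Sylow.ofCard (Subgroup.zpowers x) (by rw [Nat.card_zpowers, hx, hf, pow_one])
    let P0 : Sylow 3 (Matrix.SpecialLinearGroup (Fin 2) K) := Sylow.ofCard (Subgroup.zpowers x0) (by rw [Nat.card_zpowers, hx0, hf, pow_one])
    obtain ⟨g, hg⟩ := MulAction.exists_smul_eq (Matrix.SpecialLinearGroup (Fin 2) K) P0 P
    have hxm : x ∈ (g • P0 : Sylow 3 _) := by rw [hg]; exact Subgroup.mem_zpowers x
    change x ∈ ((g • P0 : Sylow 3 _) : Subgroup _) at hxm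
    rw [Sylow.coe_subgroup_smul] at hxm
    obtain ⟨y, hy, rfl⟩ := hxm
    obtain ⟨i, rfl⟩ := Subgroup.mem_zpowers_iff.1 (show y ∈ Subgroup.zpowers x0 from hy)
    refine ⟨g * s0 * g⁻¹, ?_, by rw [show g * s0 * g⁻¹ * (g * s0 * g⁻¹) = g * (s0 * s0) * g⁻¹ by group, ← hz, hzc, mul_inv_cancel_right]⟩
    show g * s0 * g⁻¹ * (g * x0 ^ i * g⁻¹) * (g * s0 * g⁻¹)⁻¹ = (g * x0 ^ i * g⁻¹)⁻¹
    rw [show g * s0 * g⁻¹ * (g * x0 ^ i * g⁻¹) * (g * s0 * g⁻¹)⁻¹ = g * (s0 * x0 ^ i * s0⁻¹) * g⁻¹ by group,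
      ← conj_zpow, hsx]
    group
  let L : Matrix.SpecialLinearGroup (Fin 2) K →* Module.End F (Fin 2 ⊕ Fin 2 → F) :=
    { toFun := fun g => Matrix.toLin' (φ g : Matrix (Fin 2 ⊕ Fin 2) (Fin 2 ⊕ Fin 2) F)
      map_one' := by simp [Matrix.toLin'_one, Module.End.one_eq_id]
      map_mul' := fun a b => by simp [Matrix.toLin'_mul, Module.End.mul_eq_comp] }
  have hL : Function.Injective L := fun a b e => hφ (Subtype.ext (Matrix.toLin'.injective e))
  have hE : Module.finrank F (Fin 2 ⊕ Fin 2 → F) = 4 := by simp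
  -- the central involution acts as `-1`
  have hLz : ∀ v, L z v = -v := by
    let Vp : Submodule F (Fin 2 ⊕ Fin 2 → F) := LinearMap.ker (L z - 1)
    let Vm : Submodule F (Fin 2 ⊕ Fin 2 → F) := LinearMap.ker (L z + 1)
    have memp : ∀ v, v ∈ Vp ↔ L z v = v := fun v => by
      show (L z - 1) v = 0 ↔ _
      rw [LinearMap.sub_apply, sub_eq_zero, Module.End.one_apply]
    have memm : ∀ v, v ∈ Vm ↔ L z v = -v := fun v => by
      show (L z + 1) v = 0 ↔ _
      rw [LinearMap.add_apply, Module.End.one_apply, add_eq_zero_iff_eq_neg]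
    have hzz : ∀ v, L z (L z v) = v := fun v => by rw [← Module.End.mul_apply, ← map_mul, hz2, map_one]; rfl
    have hcomm : ∀ v, L z (L u0 v) = L u0 (L z v) := fun v => by
      rw [← Module.End.mul_apply, ← Module.End.mul_apply, ← map_mul, ← map_mul, hzc u0]
    by_contra hne
    push Not at hne
    obtain ⟨v0, hv0⟩ := hne
    have hm : Vm ≠ ⊥ := by
      intro hb
      refine hz1 (hL ?_)
      rw [map_one]
      refine LinearMap.ext fun v => ?_
      have : L z v - v ∈ Vm := by rw [memm, map_sub, hzz, neg_sub]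
      rw [hb, Submodule.mem_bot, sub_eq_zero] at this
      exact this
    have hp : Vp ≠ ⊥ := by
      intro hb
      have : L z v0 + v0 ∈ Vp := by rw [memp, map_add, hzz, add_comm]
      rw [hb, Submodule.mem_bot, add_eq_zero_iff_eq_neg] at this
      exact hv0 this
    have h3 : ((3 : ℕ) : F) = 0 := by rw [← hF]; exact FiniteField.cast_card_eq_zero F
    have hdisj : Vp ⊓ Vm = ⊥ := by
      rw [eq_bot_iff]
      rintro v ⟨h1, h2⟩
      rw [SetLike.mem_coe, memp] at h1
      rw [SetLike.mem_coe, memm, h1] at h2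
      have e2 : (2 : F) • v = 0 := by rw [two_smul]; nth_rewrite 2 [h2]; exact add_neg_cancel v
      rcases smul_eq_zero.1 e2 with e | e
      · exfalso; push_cast at h3; exact one_ne_zero (show (1 : F) = 0 by linear_combination h3 - e)
      · exact (Submodule.mem_bot F).2 e
    have hsum : Vp ⊔ Vm = ⊤ := by
      rw [eq_top_iff]
      intro v _
      have h2 : v = (-(v + L z v)) + (-(v - L z v)) := by
        push_cast at h3
        have e3 : (3 : F) • v = 0 := by rw [h3, zero_smul]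
        calc v = v - (3 : F) • v := by rw [e3, sub_zero]
          _ = _ := by module
      rw [h2]
      refine Submodule.add_mem_sup (Submodule.neg_mem _ ?_) (Submodule.neg_mem _ ?_)
      · rw [memp, map_add, hzz, add_comm]
      · rw [memm, map_sub, hzz, neg_sub]
    have hdim := Submodule.finrank_sup_add_finrank_inf_eq Vp Vm
    rw [hsum, hdisj, finrank_top, finrank_bot, hE, add_zero] at hdim
    have hp0 : 0 < Module.finrank F Vp := Nat.pos_of_ne_zero fun e => hp (Submodule.finrank_eq_zero.1 e)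
    have hm0 : 0 < Module.finrank F Vm := Nat.pos_of_ne_zero fun e => hm (Submodule.finrank_eq_zero.1 e)
    have triv : ∀ U : Submodule F (Fin 2 ⊕ Fin 2 → F), (∀ v ∈ U, L u0 v ∈ U) → Module.finrank F U ≤ 3 → ∀ v ∈ U, L u0 v = v := by
      intro U hU hd v hv
      have h := triv_on_small hF hd ((L u0).restrict hU) (by
        rw [Module.End.pow_restrict]
        refine LinearMap.ext fun y => Subtype.ext ?_
        show (L u0 ^ 5) (y : (Fin 2 ⊕ Fin 2 → F)) = y
        rw [← map_pow, ← hu0, pow_orderOf_eq_one, map_one]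
        rfl)
      exact congrArg Subtype.val (LinearMap.congr_fun h ⟨v, hv⟩)
    have h1 : L u0 = 1 := by
      refine LinearMap.ext fun v => ?_
      obtain ⟨a, ha, b, hb, rfl⟩ := Submodule.mem_sup.1 (hsum ▸ Submodule.mem_top : v ∈ Vp ⊔ Vm)
      rw [map_add, triv Vp (fun y hy => by rw [memp] at hy ⊢; rw [hcomm, hy]) (by omega) a ha,
        triv Vm (fun y hy => by rw [memm] at hy ⊢; rw [hcomm, hy, map_neg]) (by omega) b hb]
      rfl
    have := hL (h1.trans (map_one L).symm)
    rw [this, orderOf_one] at hu0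
    omega
  set S := L s with hS
  have hSS : ∀ v, S (S v) = -v := fun v => by rw [hS, ← Module.End.mul_apply, ← map_mul, hs2, hLz]
  set M := L x with hM
  set N : Module.End F (Fin 2 ⊕ Fin 2 → F) := M - 1 with hN
  have hM3 : ∀ v, M (M (M v)) = v := fun v => by
    rw [hM, ← Module.End.mul_apply, ← Module.End.mul_apply, ← map_mul, ← map_mul, ← pow_two, ← pow_succ,
      show x ^ (2 + 1) = 1 by rw [show 2 + 1 = orderOf x by rw [hx], pow_orderOf_eq_one], map_one]
    rfl
  have hNv : ∀ v, N v = M v - v := fun v => rfl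
  have h3 : ∀ v : (Fin 2 ⊕ Fin 2 → F), (3 : F) • v = 0 := fun v => by
    have : ((3 : ℕ) : F) = 0 := by rw [← hF]; exact FiniteField.cast_card_eq_zero F
    push_cast at this
    rw [this, zero_smul]
  have hN3 : ∀ v, N (N (N v)) = 0 := fun v => by
    simp only [hNv, map_sub]
    rw [hM3]
    calc v - M (M v) - (M (M v) - M v) - (M (M v) - M v - (M v - v)) = (3 : F) • M v - (3 : F) • M (M v) := by module
      _ = 0 := by rw [h3, h3, sub_zero]
  have hSN : ∀ v, S (N v) = N (-(M (M (S v)))) := fun v => by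
    have e : S (M v) = M (M (S v)) := by
      have hx2 : x⁻¹ = x * x := inv_eq_of_mul_eq_one_right (by rw [← mul_assoc, ← pow_two, ← pow_succ, show 2 + 1 = orderOf x by rw [hx], pow_orderOf_eq_one])
      have h1 : s * x = x * x * s := by rw [← hx2, ← hs, inv_mul_cancel_right]
      rw [hS, hM, ← Module.End.mul_apply, ← Module.End.mul_apply, ← Module.End.mul_apply, ← map_mul, ← map_mul, ← map_mul, h1]
    rw [hNv, map_sub, e, hNv, map_neg, hM3]
    abel
  let R : Submodule F (Fin 2 ⊕ Fin 2 → F) := LinearMap.range N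
  let R2 : Submodule F (Fin 2 ⊕ Fin 2 → F) := R.map N
  have hRinv : ∀ v ∈ R, S v ∈ R := by
    rintro _ ⟨v, rfl⟩
    exact ⟨_, (hSN v).symm⟩
  have hR2inv : ∀ v ∈ R2, S v ∈ R2 := by
    rintro _ ⟨_, ⟨v, rfl⟩, rfl⟩
    refine ⟨-(M (M (S (N v)))), ?_, (hSN _).symm⟩
    rw [hSN]
    refine ⟨M (M (M (M (S v)))), ?_⟩
    simp only [hNv, map_sub, map_neg]
    abel
  have hWinv : ∀ v ∈ LinearMap.ker N, S v ∈ LinearMap.ker N := fun v hv => by
    rw [LinearMap.mem_ker, hNv] at hv ⊢
    replace hv : M v = v := sub_eq_zero.1 hv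
    refine sub_eq_zero.2 ?_
    have e2 : S (M v) = M (M (S v)) := by
      have := hSN v
      rw [hNv, hNv, hv, sub_self, map_zero, map_neg, hM3] at this
      rw [hv]
      have h5 : -S v - -(M (M (S v))) = 0 := this.symm
      rw [sub_neg_eq_add, neg_add_eq_zero] at h5
      exact h5
    rw [hv] at e2
    calc M (S v) = M (M (M (S v))) := by rw [← e2]
      _ = S v := hM3 _
  have hrk := LinearMap.finrank_range_add_finrank_ker N
  rw [hE] at hrk
  have hR0 : R ≠ ⊥ := fun h => by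
    have : M = 1 := sub_eq_zero.1 (LinearMap.range_eq_bot.1 h)
    have := hL ((hM ▸ this).trans (map_one L).symm)
    rw [this, orderOf_one] at hx
    omega
  have hr0 : 0 < Module.finrank F R := Nat.pos_of_ne_zero fun e => hR0 (Submodule.finrank_eq_zero.1 e)
  have hR2lt : R2 < R := by
    refine lt_of_le_of_ne (by rintro _ ⟨v, -, rfl⟩; exact ⟨v, rfl⟩) fun e => hR0 ?_
    rw [eq_bot_iff]
    intro v hv
    have h1 : v ∈ R2.map N := by rw [e]; show v ∈ R2; rw [e]; exact hv
    obtain ⟨_, ⟨_, ⟨u, rfl⟩, rfl⟩, rfl⟩ := h1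
    rw [hN3]
    exact zero_mem _
  have hlt := Submodule.finrank_lt_finrank_of_lt hR2lt
  have hR4 : Module.finrank F R ≠ 4 := fun e => by
    have hk : LinearMap.ker N = ⊥ := Submodule.finrank_eq_zero.1 (by change Module.finrank F R + _ = _ at hrk; omega)
    have hi := LinearMap.ker_eq_bot.1 hk
    obtain ⟨v, hv⟩ := exists_ne (0 : (Fin 2 ⊕ Fin 2 → F))
    exact hv (hi ((hi (hi ((hN3 v).trans (by simp : (0 : (Fin 2 ⊕ Fin 2 → F)) = N (N (N 0))))))  ▸ rfl))
  have hR1 := ne_one_dim hF S hSS R hRinv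
  have hR21 := ne_one_dim hF S hSS R2 hR2inv
  have hW1 := ne_one_dim hF S hSS (LinearMap.ker N) hWinv
  change Module.finrank F R + _ = _ at hrk
  have hW : Module.finrank F (LinearMap.ker N) = 2 ∧ Module.finrank F R = 2 := by omega
  have hR20 : R2 = ⊥ := Submodule.finrank_eq_zero.1 (by omega)
  have hRW : R = LinearMap.ker N := Submodule.eq_of_le_of_finrank_eq (fun v hv => by
      rw [LinearMap.mem_ker]
      exact (Submodule.mem_bot F).1 (hR20 ▸ Submodule.mem_map_of_mem hv)) (by omega)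
  refine ⟨hW.1, fun v w hv hw => ?_⟩
  have hvR : v ∈ R := by
    rw [hRW, LinearMap.mem_ker, hNv]
    exact sub_eq_zero.2 hv
  obtain ⟨a, rfl⟩ := hvR
  have hsym : (φ x : Matrix (Fin 2 ⊕ Fin 2) (Fin 2 ⊕ Fin 2) F)ᵀ * Matrix.J (Fin 2) F * (φ x : Matrix (Fin 2 ⊕ Fin 2) (Fin 2 ⊕ Fin 2) F) = Matrix.J (Fin 2) F := by
    have := SymplecticGroup.transpose_mem (φ x).2
    rw [SymplecticGroup.mem_iff, Matrix.transpose_transpose] at this
    exact this
  show dotProduct ((φ x : Matrix (Fin 2 ⊕ Fin 2) (Fin 2 ⊕ Fin 2) F).mulVec a - a) _ = 0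
  rw [sub_dotProduct]
  nth_rewrite 1 [← hw]
  have key : ∀ (A B : Matrix (Fin 2 ⊕ Fin 2) (Fin 2 ⊕ Fin 2) F) (a b : Fin 2 ⊕ Fin 2 → F), (A *ᵥ a) ⬝ᵥ (B *ᵥ b) = a ⬝ᵥ ((Aᵀ * B) *ᵥ b) := fun A B a b => by
    rw [← Matrix.mulVec_mulVec, Matrix.dotProduct_mulVec a Aᵀ, Matrix.vecMul_transpose]
  rw [Matrix.mulVec_mulVec, key, ← Matrix.mul_assoc, hsym, sub_self]

end Cfsg.Agent.S3213
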