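import Cfsg.Statements.S3215
import Cfsg.Agent.Solv.FittingBasic
import Cfsg.Agent.Solv.FixedPointFree
import Cfsg.Agent.Solv.Signalizer
import Cfsg.Agent.S0126
import Mathlib.GroupTheory.SpecificGroups.Cyclic
import Mathlib.RingTheory.IntegralDomain
import Mathlib.Tactic.Group
import Mathlib.Tactic.Positivity
import Mathlib.Tactic.Linarith
import Mathlib.GroupTheory.Nilpotent
-- import your own Cfsg.Agent.* helpers here

set_option autoImplicit false
open Cfsg

namespace Cfsg.Agent.S3215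

open CfsgLib.Solv

variable {H : Type*} [Group H] [Finite H]

theorem odd_mem_of_index_two_pow {N : Subgroup H} [N.Normal] {k : ℕ} (hk : N.index = 2 ^ k) {x : H}
    (hx : Odd (orderOf x)) : x ∈ N := by
  rw [← QuotientGroup.eq_one_iff, ← orderOf_eq_one_iff]
  refine Nat.eq_one_of_dvd_coprimes ((Nat.coprime_two_left.2 hx).pow_left k) ?_ (orderOf_map_dvd (QuotientGroup.mk' N) x)
  rw [← hk, Subgroup.index_eq_card]
  exact orderOf_dvd_natCard _

theorem eq_one_of_two_odd {c : H} {P : Subgroup H} (hP : IsPGroup 2 P) (hc : c ∈ P) {k : ℕ} (hk : Odd k) (h : c ^ k = 1) : c = 1 := by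
  obtain ⟨i, hi⟩ := hP ⟨c, hc⟩
  exact orderOf_eq_one_iff.1 (Nat.eq_one_of_dvd_coprimes ((Nat.coprime_two_left.2 hk).pow_left i)
    (orderOf_dvd_of_pow_eq_one (congrArg Subtype.val hi)) (orderOf_dvd_of_pow_eq_one h))

/-- the odd-order elements of a `2`-nilpotent centralizer centralize the fixed points of a normal `2`-group -/
theorem commute_fixed (hI : ∀ t : H, orderOf t = 2 → Cfsg.HasNormalPComplement 2 ↥(Subgroup.centralizer ({t} : Set H)))
    {P : Subgroup H} [hPn : P.Normal] (hP : IsPGroup 2 P) {z x c : H} (hz : orderOf z = 2) (hx : Odd (orderOf x))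
    (hxz : x * z = z * x) (hc : c ∈ P) (hcz : c * z = z * c) : x * c = c * x := by
  set C := Subgroup.centralizer ({z} : Set H)
  obtain ⟨S, N, hN, hcomp⟩ : Cfsg.HasNormalPComplement 2 ↥C := hI z hz
  haveI := hN
  have hxC : x ∈ C := Subgroup.mem_centralizer_singleton_iff.2 hxz
  have hcC : c ∈ C := Subgroup.mem_centralizer_singleton_iff.2 hcz
  obtain ⟨k, hk⟩ := IsPGroup.iff_card.1 S.2
  have hidx : N.index = 2 ^ k := by rw [hcomp.symm.index_eq_card, hk]
  have hxN : (⟨x, hxC⟩ : C) ∈ N := odd_mem_of_index_two_pow hidx (by rwa [Subgroup.orderOf_mk])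
  have hNodd : Odd (Nat.card N) := by
    rw [← Nat.not_even_iff_odd, even_iff_two_dvd]
    intro h
    haveI : Fact (Nat.Prime 2) := ⟨Nat.prime_two⟩
    have hnd := S.not_dvd_index
    rw [hcomp.index_eq_card] at hnd
    exact hnd h
  set w := x * c * x⁻¹ * c⁻¹ with hw
  have hwP : w ∈ P := P.mul_mem (hPn.conj_mem c hc x) (P.inv_mem hc)
  have hwN : (⟨w, C.mul_mem (C.mul_mem (C.mul_mem hxC hcC) (C.inv_mem hxC)) (C.inv_mem hcC)⟩ : C) ∈ N := by
    have := N.mul_mem hxN (hN.conj_mem _ (N.inv_mem hxN) ⟨c, hcC⟩)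
    convert this using 1
    exact Subtype.ext (by simp [hw, mul_assoc])
  have h1 : w ^ Nat.card N = 1 := by
    exact congrArg (fun y : N => ((y : C) : H)) (pow_card_eq_one' (x := (⟨_, hwN⟩ : N)))
  have := eq_one_of_two_odd hP hwP hNodd h1
  rwa [hw, mul_inv_eq_one, mul_inv_eq_iff_eq_mul] at this

theorem fpf (hI : ∀ t : H, orderOf t = 2 → Cfsg.HasNormalPComplement 2 ↥(Subgroup.centralizer ({t} : Set H)))
    {P : Subgroup H} [hPn : P.Normal] (hP : IsPGroup 2 P) (hC : Subgroup.centralizer (P : Set H) ≤ P)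
    {x : H} (hx : Odd (orderOf x)) (hx1 : x ≠ 1) {y : H} (hy : y ∈ P) (hxy : x * y = y * x) : y = 1 := by
  by_contra hy1
  haveI : Fact (Nat.Prime 2) := ⟨Nat.prime_two⟩
  obtain ⟨j, hj⟩ := hP ⟨y, hy⟩
  have hj' : orderOf y ∣ 2 ^ j := orderOf_dvd_of_pow_eq_one (congrArg Subtype.val hj)
  obtain ⟨i, -, hi⟩ := (Nat.dvd_prime_pow Nat.prime_two).1 hj'
  have h2 : 2 ∣ orderOf y := by
    rcases Nat.eq_zero_or_pos i with rfl | hi0
    · exact absurd (orderOf_eq_one_iff.1 (by simpa using hi)) hy1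
    · rw [hi]; exact dvd_pow_self 2 hi0.ne'
  set z := y ^ (orderOf y / 2)
  have hz : orderOf z = 2 := orderOf_pow_orderOf_div (orderOf_pos y).ne' h2
  have hzP : z ∈ P := P.pow_mem hy _
  have hxz : x * z = z * x := (show Commute x y from hxy).pow_right _
  let A : Subgroup P := (Subgroup.centralizer ({x} : Set H)).subgroupOf P
  have memA : ∀ p : P, p ∈ A ↔ (p : H) * x = x * p := fun p => by
    rw [Subgroup.mem_subgroupOf, Subgroup.mem_centralizer_singleton_iff]
  have hzA : (⟨z, hzP⟩ : P) ∈ A := (memA _).2 hxz.symm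
  have hAtop : A = ⊤ := by
    haveI : Group.IsNilpotent P := hP.isNilpotent
    by_contra hne
    have hlt := (Group.normalizerCondition_of_isNilpotent (G := P)) A (lt_top_iff_ne_top.2 hne)
    obtain ⟨n, hn, hnA⟩ := SetLike.exists_of_lt hlt
    apply hnA
    set c : H := (n : H)⁻¹ * (x * n * x⁻¹) with hcdef
    have hcP : c ∈ P := P.mul_mem (P.inv_mem n.2) (hPn.conj_mem _ n.2 x)
    have hcA : ∀ a : P, a ∈ A → c * (a : H) = a * c := by
      intro a ha
      have h1 := (memA a).1 ha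
      have h2 : ((n : H) * a * (n : H)⁻¹) * x = x * ((n : H) * a * (n : H)⁻¹) := by
        have := (memA _).1 ((Subgroup.mem_normalizer_iff.1 hn a).1 ha)
        simpa using this
      have e : x * (n : H) * x⁻¹ * a * (x * (n : H) * x⁻¹)⁻¹ = (n : H) * a * (n : H)⁻¹ := by
        calc x * (n : H) * x⁻¹ * a * (x * (n : H) * x⁻¹)⁻¹ = x * n * (x⁻¹ * (a * x)) * (n : H)⁻¹ * x⁻¹ := by group
          _ = x * n * (x⁻¹ * (x * a)) * (n : H)⁻¹ * x⁻¹ := by rw [h1]
          _ = x * ((n : H) * a * (n : H)⁻¹) * x⁻¹ := by group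
          _ = _ := by rw [← h2]; group
      calc c * (a : H) = (n : H)⁻¹ * (x * n * x⁻¹ * a * (x * n * x⁻¹)⁻¹) * (x * n * x⁻¹) := by rw [hcdef]; group
        _ = (n : H)⁻¹ * ((n : H) * a * (n : H)⁻¹) * (x * n * x⁻¹) := by rw [e]
        _ = _ := by rw [hcdef]; group
    have hcx : x * c = c * x := commute_fixed hI hP hz hx hxz hcP (hcA _ hzA)
    have hpow : ∀ k : ℕ, x ^ k * (n : H) * (x ^ k)⁻¹ = n * c ^ k := by
      intro k
      induction k with
      | zero => simp
      | succ k ih =>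
        have hcc : x * c ^ k * x⁻¹ = c ^ k := by
          rw [((show Commute x c from hcx).pow_right k).eq, mul_inv_cancel_right]
        calc x ^ (k + 1) * (n : H) * (x ^ (k + 1))⁻¹ = x * (x ^ k * n * (x ^ k)⁻¹) * x⁻¹ := by rw [pow_succ']; group
          _ = (x * (n : H) * x⁻¹) * (x * c ^ k * x⁻¹) := by rw [ih]; group
          _ = _ := by rw [hcc, show x * (n : H) * x⁻¹ = n * c by rw [hcdef]; group, pow_succ' c, mul_assoc]
    have h1 := hpow (orderOf x)
    rw [pow_orderOf_eq_one, one_mul, inv_one, mul_one, eq_comm, mul_eq_left] at h1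
    have hc1 := eq_one_of_two_odd hP hcP hx h1
    rw [hcdef, inv_mul_eq_one] at hc1
    rw [memA]
    nth_rewrite 1 [hc1]
    rw [inv_mul_cancel_right]
  have hxP : x ∈ P := hC (Subgroup.mem_centralizer_iff.2 fun p hp => (memA ⟨p, hp⟩).1 (hAtop ▸ Subgroup.mem_top _))
  exact hx1 (eq_one_of_two_odd hP hxP hx (pow_orderOf_eq_one x))

end Cfsg.Agent.S3215

namespace Cfsg.Agent.S3215

/-- Let H be a finite solvable group with no nontrivial normal subgroup of odd order in which the centralizer of every involution has a normal 2-complement. Let X be a Hall 2'-subgroup of H (odd order, index a power of 2) and Y = O₂(H). Then no non-identity element of X commutes with a non-identity element of Y (so for X ≠ 1 the group XY is a Frobenius group with kernel Y), every Sylow subgroup of X is cyclic, XY is normal in H, and H/XY is a cyclic 2-group. -/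
theorem result {H : Type*} [Group H] [Finite H] (hsol : Group.IsSolvable H)
    (hO : Cfsg.oddCore H = ⊥)
    (hI : ∀ t : H, orderOf t = 2 → Cfsg.HasNormalPComplement 2 ↥(Subgroup.centralizer ({t} : Set H)))
    (X : Subgroup H) (hXodd : Odd (Nat.card X)) (hXidx : ∃ k : ℕ, X.index = 2 ^ k) :
    (∀ x ∈ X, x ≠ 1 → ∀ y ∈ Cfsg.pCore 2 H, y ≠ 1 → x * y ≠ y * x) ∧
      (∀ (p : ℕ) [Fact p.Prime] (P : Sylow p ↥X), IsCyclic ↥(P : Subgroup ↥X)) ∧
      (X ⊔ Cfsg.pCore 2 H).Normal ∧
      ∀ hN : (X ⊔ Cfsg.pCore 2 H).Normal, IsCyclic (H ⧸ (X ⊔ Cfsg.pCore 2 H)) ∧ IsPGroup 2 (H ⧸ (X ⊔ Cfsg.pCore 2 H)) := by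
  classical
  haveI := hsol
  haveI : Fact (Nat.Prime 2) := ⟨Nat.prime_two⟩
  set P := Cfsg.pCore 2 H with hPdef
  haveI hPn : P.Normal := CfsgLib.Solv.pCore_normal H 2
  have hP : IsPGroup 2 P := CfsgLib.Solv.pCore_isPGroup H 2
  have hC : Subgroup.centralizer (P : Set H) ≤ P := CfsgLib.Solv.centralizer_pCore_le hO
  have oddX : ∀ x ∈ X, Odd (orderOf x) := fun x hx =>
    hXodd.of_dvd_nat (Subgroup.orderOf_mk x hx ▸ orderOf_dvd_natCard (⟨x, hx⟩ : X))
  have cyc : ∀ (p : ℕ) [Fact p.Prime], p ≠ 2 → ∀ R : Subgroup H, IsPGroup p R → IsCyclic R := by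
    intro p _ hp R hR
    by_contra hnc
    obtain ⟨A, -, hAel, hAc⟩ := Cfsg.Agent.S0126.result hp hR hnc
    apply CfsgLib.Solv.Sig.not_isCyclic hAel hAc.ge
    let A' : Subgroup H := A.map R.subtype
    let e : A ≃* A' := A.equivMapOfInjective _ R.subtype_injective
    haveI : IsMulCommutative A' := ⟨⟨fun a b => by
      obtain ⟨a', rfl⟩ := e.surjective a
      obtain ⟨b', rfl⟩ := e.surjective b
      rw [← map_mul, ← map_mul, hAel.1.is_comm.comm]⟩⟩
    have hP1 : P ≠ ⊥ := by
      intro h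
      have : (A' : Subgroup H) ≤ ⊥ := fun a ha => h ▸ hC (Subgroup.mem_centralizer_iff.2 fun y hy => by
        rw [h, SetLike.mem_coe, Subgroup.mem_bot] at hy; simp [hy])
      have h1 : Nat.card A' = 1 := by rw [le_bot_iff.1 this, Subgroup.card_bot]
      rw [← Nat.card_congr e.toEquiv, hAc] at h1
      exact absurd h1 (by have := (Fact.out : p.Prime).two_le; nlinarith)
    haveI := CfsgLib.Solv.isCyclic_of_fpf_abelian (A := A') hP1
      (fun a _ => by rw [Subgroup.normalizer_eq_top]; trivial) (fun a ha ha1 => by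
        rw [eq_bot_iff]
        intro y hy
        obtain ⟨a0, -, rfl⟩ := ha
        have ho : Odd (orderOf (R.subtype a0)) := by
          obtain ⟨k, hk⟩ := hR a0
          have hd : orderOf (R.subtype a0) ∣ p ^ k := (Subgroup.orderOf_coe a0).symm ▸ orderOf_dvd_of_pow_eq_one hk
          exact (((Fact.out : p.Prime).odd_of_ne_two hp).pow).of_dvd_nat hd
        exact Subgroup.mem_bot.2 (fpf hI hP hC ho ha1 hy.1 (Subgroup.mem_centralizer_singleton_iff.1 hy.2).symm))
    exact isCyclic_of_surjective e.symm.toMonoidHom e.symm.surjective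
  have part1 : ∀ x ∈ X, x ≠ 1 → ∀ y ∈ P, y ≠ 1 → x * y ≠ y * x := fun x hx hx1 y hy hy1 e =>
    hy1 (fpf hI hP hC (oddX x hx) hx1 hy e)
  have part2 : ∀ (p : ℕ) [Fact p.Prime] (S : Sylow p ↥X), IsCyclic ↥(S : Subgroup ↥X) := by
    intro p _ S
    rcases eq_or_ne p 2 with rfl | hp
    · have : Nat.card S = 1 := by
        rw [S.card_eq_multiplicity, Nat.factorization_eq_zero_of_not_dvd (fun h => by
          rw [← even_iff_two_dvd, ← Nat.not_odd_iff_even] at h; exact h hXodd), pow_zero]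
      haveI : Subsingleton (S : Subgroup ↥X) := (Nat.card_eq_one_iff_unique.1 this).1
      infer_instance
    · let e := (S : Subgroup ↥X).equivMapOfInjective _ X.subtype_injective
      haveI := cyc p hp ((S : Subgroup ↥X).map X.subtype) (S.2.map _)
      exact isCyclic_of_surjective e.symm.toMonoidHom e.symm.surjective
  refine ⟨part1, part2, ?_⟩
  -- work modulo the core
  let π := QuotientGroup.mk' P
  have hπ : Function.Surjective π := QuotientGroup.mk'_surjective P
  set Xb := X.map π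
  have hcomap : Xb.comap π = X ⊔ P := by rw [Subgroup.comap_map_eq, QuotientGroup.ker_mk']
  obtain ⟨kx, hkx⟩ := hXidx
  obtain ⟨kb, hkb⟩ : ∃ k, Xb.index = 2 ^ k := by
    have : Xb.index ∣ 2 ^ kx := hkx ▸ Subgroup.index_map_dvd X hπ
    obtain ⟨k, -, hk⟩ := (Nat.dvd_prime_pow Nat.prime_two).1 this
    exact ⟨k, hk⟩
  suffices h : ∃ K : Subgroup (H ⧸ P), ∃ _ : K.Normal, Odd (Nat.card K) ∧ IsCyclic ((H ⧸ P) ⧸ K) by
    obtain ⟨K, hK, hKodd, hKcyc⟩ := h
    haveI := hK
    have hKX : K ≤ Xb := by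
      intro k hk
      have : Nat.card ↥(K ⊔ Xb) ∣ Nat.card (H ⧸ P) := Subgroup.card_subgroup_dvd_card _
      have hdm := CfsgLib.Solv.card_sup_dvd_mul Xb K
      rw [sup_comm] at hdm
      have hXbodd : Odd (Nat.card Xb) := hXodd.of_dvd_nat (Subgroup.card_map_dvd X π)
      have ho : Odd (Nat.card ↥(K ⊔ Xb)) := (hXbodd.mul hKodd).of_dvd_nat hdm
      rw [← Xb.index_mul_card, hkb] at this
      have h1 := ((Nat.coprime_two_left.2 ho).pow_left kb).symm.dvd_of_dvd_mul_left this
      have : Xb = K ⊔ Xb := Subgroup.eq_of_le_of_card_ge le_sup_right (Nat.le_of_dvd Nat.card_pos h1)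
      rw [this]; exact Subgroup.mem_sup_left hk
    haveI := hKcyc
    have hcom : commutator (H ⧸ P) ≤ Xb := by
      refine le_trans ?_ hKX
      refine Subgroup.Normal.quotient_commutative_iff_commutator_le.1 ?_
      exact ⟨⟨fun a b => IsCyclic.commGroup.mul_comm a b⟩⟩
    haveI hXbn : Xb.Normal := ⟨fun x hx g => by
      have h1 : g * x * g⁻¹ * x⁻¹ ∈ Xb := hcom (Subgroup.commutator_mem_commutator (Subgroup.mem_top g) (Subgroup.mem_top x))
      have := Xb.mul_mem h1 hx
      simpa using this⟩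
    haveI hn : (X ⊔ P).Normal := hcomap ▸ hXbn.comap π
    refine ⟨hn, fun _ => ⟨?_, ?_⟩⟩
    · have hsur : Function.Surjective ((QuotientGroup.mk' Xb).comp π) := (QuotientGroup.mk'_surjective Xb).comp hπ
      have hker : ((QuotientGroup.mk' Xb).comp π).ker = X ⊔ P := by
        rw [← MonoidHom.comap_ker, QuotientGroup.ker_mk', hcomap]
      haveI : IsCyclic ((H ⧸ P) ⧸ Xb) := isCyclic_of_surjective
        (QuotientGroup.map K Xb (MonoidHom.id _) (by rw [Subgroup.comap_id]; exact hKX))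
        (fun q => QuotientGroup.induction_on q fun y => ⟨QuotientGroup.mk y, rfl⟩)
      let e := (QuotientGroup.quotientMulEquivOfEq hker.symm).trans (QuotientGroup.quotientKerEquivOfSurjective _ hsur)
      exact isCyclic_of_surjective e.symm.toMonoidHom e.symm.surjective
    · apply IsPGroup.of_card (n := kb)
      rw [← Subgroup.index_eq_card, ← hcomap, Subgroup.index_comap_of_surjective _ hπ, hkb]
  -- a normal subgroup of odd prime order
  rcases subsingleton_or_nontrivial (H ⧸ P) with hs | hs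
  · exact ⟨⊥, inferInstance, by rw [Subgroup.card_bot]; exact odd_one, inferInstance⟩
  have hO2 : Cfsg.pCore 2 (H ⧸ P) = ⊥ := CfsgLib.Solv.pCore_quotient_self
  haveI : Group.IsSolvable (H ⧸ P) := Group.isSolvable_of_surjective hπ
  obtain ⟨n, hn⟩ := (Group.isSolvable_def (H ⧸ P)).1 inferInstance
  obtain ⟨A, hAn, hA1, hAc⟩ : ∃ A : Subgroup (H ⧸ P), A.Normal ∧ A ≠ ⊥ ∧ ∀ a ∈ A, ∀ b ∈ A, a * b = b * a := by
    have hex : ∃ m, derivedSeries (H ⧸ P) m = ⊥ := ⟨n, hn⟩
    have h0 : Nat.find hex ≠ 0 := fun e => top_ne_bot (α := Subgroup (H ⧸ P)) (by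
      have := Nat.find_spec hex; rwa [e, derivedSeries_zero] at this)
    obtain ⟨m, hm⟩ : ∃ m, Nat.find hex = m + 1 := ⟨Nat.find hex - 1, by omega⟩
    refine ⟨derivedSeries (H ⧸ P) m, inferInstance, Nat.find_min hex (by omega), fun a ha b hb => ?_⟩
    have h := Nat.find_spec hex
    rw [hm, derivedSeries_succ, Subgroup.commutator_eq_bot_iff_le_centralizer] at h
    exact (Subgroup.mem_centralizer_iff.1 (h ha) b hb).symm
  haveI := hAn
  obtain ⟨r, hr, hr2, hrA⟩ : ∃ r : ℕ, r.Prime ∧ r ≠ 2 ∧ r ∣ Nat.card A := by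
    by_contra hno
    push Not at hno
    have hA2 : IsPGroup 2 A := IsPGroup.of_card (n := (Nat.card A).factorization 2) (by
      refine Nat.eq_pow_of_factorization_eq_single Nat.card_pos.ne' ?_
      ext q
      rcases eq_or_ne q 2 with rfl | hq
      · simp
      · rw [Finsupp.single_eq_of_ne hq]
        by_cases hqp : q.Prime
        · exact Nat.factorization_eq_zero_of_not_dvd fun hd => hno q hqp hq hd
        · exact Nat.factorization_eq_zero_of_not_prime _ hqp)
    exact hA1 (le_bot_iff.1 (hO2 ▸ CfsgLib.Solv.le_pCore hA2))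
  haveI := Fact.mk hr
  let R : Subgroup (H ⧸ P) :=
    { carrier := {a | a ∈ A ∧ a ^ r = 1}
      one_mem' := ⟨A.one_mem, one_pow r⟩
      mul_mem' := fun {a b} ha hb => ⟨A.mul_mem ha.1 hb.1, by
        rw [(show Commute a b from hAc a ha.1 b hb.1).mul_pow, ha.2, hb.2, one_mul]⟩
      inv_mem' := fun {a} ha => ⟨A.inv_mem ha.1, by rw [inv_pow, ha.2, inv_one]⟩ }
  haveI hRn : R.Normal := ⟨fun a ha g => ⟨hAn.conj_mem a ha.1 g, by rw [conj_pow, ha.2]; group⟩⟩
  have hRp : IsPGroup r R := fun a => ⟨1, Subtype.ext (by rw [pow_one, Subgroup.coe_pow]; exact a.2.2)⟩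
  -- it is cyclic
  haveI hRcyc : IsCyclic R := by
    obtain ⟨S⟩ : Nonempty (Sylow r ↥(R.comap π)) := inferInstance
    let φ : R.comap π →* R := π.subgroupComap R
    have hφ : Function.Surjective φ := fun a => by
      obtain ⟨h, hh⟩ := hπ a
      exact ⟨⟨h, show π h ∈ R by rw [hh]; exact a.2⟩, Subtype.ext hh⟩
    let T := S.mapSurjective hφ
    have hT : (T : Subgroup R) = ⊤ := by
      refine Subgroup.eq_top_of_card_eq _ ?_
      obtain ⟨j, hj⟩ := IsPGroup.iff_card.1 hRp
      rw [T.card_eq_multiplicity, hj, hr.factorization_pow, Finsupp.single_eq_same]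
    haveI := cyc r hr2 ((S : Subgroup _).map (R.comap π).subtype) (S.2.map _)
    let e := (S : Subgroup _).equivMapOfInjective _ (R.comap π).subtype_injective
    haveI : IsCyclic (S : Subgroup _) := isCyclic_of_surjective e.symm.toMonoidHom e.symm.surjective
    refine isCyclic_of_surjective (φ.comp (S : Subgroup _).subtype) fun a => ?_
    have ha : a ∈ (T : Subgroup R) := hT ▸ Subgroup.mem_top a
    rw [Sylow.coe_mapSurjective] at ha
    obtain ⟨s, hs, e'⟩ := ha
    exact ⟨⟨s, hs⟩, e'⟩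
  obtain ⟨ρ, hρ⟩ := hRcyc.exists_ofOrder_eq_natCard
  obtain ⟨a0, ha0⟩ := exists_prime_orderOf_dvd_card' r hrA
  have hcardR : Nat.card R = r := by
    refine Nat.dvd_antisymm (hρ ▸ orderOf_dvd_of_pow_eq_one (Subtype.ext (by rw [Subgroup.coe_pow]; exact ρ.2.2))) ?_
    have hmem : (a0 : H ⧸ P) ∈ R := ⟨a0.2, by rw [← Subgroup.coe_pow, ← ha0, pow_orderOf_eq_one]; rfl⟩
    have : orderOf (⟨(a0 : H ⧸ P), hmem⟩ : R) ∣ Nat.card R := orderOf_dvd_natCard _
    rwa [Subgroup.orderOf_mk, Subgroup.orderOf_coe, ha0] at this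
  let conjR : (H ⧸ P) →* MulAut R := MulAut.conjNormal
  refine ⟨conjR.ker, inferInstance, ?_, ?_⟩
  · rw [← Nat.not_even_iff_odd, even_iff_two_dvd]
    intro h2
    obtain ⟨⟨a, ha⟩, hao⟩ := exists_prime_orderOf_dvd_card' 2 h2
    rw [Subgroup.orderOf_mk] at hao
    -- an odd element over a generator
    obtain ⟨x0, hx0⟩ := hπ ρ
    obtain ⟨v, k, hk, hvk⟩ := Nat.exists_eq_two_pow_mul_odd (orderOf_pos x0).ne'
    set x := x0 ^ 2 ^ v with hxdef
    have hxodd : Odd (orderOf x) := by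
      rw [hxdef, orderOf_pow' _ (by positivity), hvk, Nat.gcd_mul_right_left, Nat.mul_div_cancel_left _ (by positivity)]
      exact hk
    have hπx : π x = ((ρ ^ 2 ^ v : R) : H ⧸ P) := by rw [hxdef, map_pow, hx0, Subgroup.coe_pow]
    have hx1 : π x ≠ 1 := by
      intro e
      rw [hπx, ← Subgroup.coe_one R, Subtype.coe_inj, ← orderOf_dvd_iff_pow_eq_one, hρ, hcardR] at e
      exact hr2 ((Nat.prime_dvd_prime_iff_eq hr Nat.prime_two).1 (hr.dvd_of_dvd_pow e))
    have hx1' : x ≠ 1 := fun e => hx1 (by rw [e, map_one])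
    obtain ⟨b, hb⟩ := hπ a
    have hcomm : π (x⁻¹ * (b * x * b⁻¹)) = 1 := by
      have e := DFunLike.congr_fun (MonoidHom.mem_ker.1 ha) (ρ ^ 2 ^ v)
      have e' := congrArg Subtype.val e
      rw [MulAut.conjNormal_apply, MulAut.one_apply, ← hπx, ← hb] at e'
      rw [map_mul, map_mul, map_mul, map_inv, map_inv, e', inv_mul_cancel]
    have hc : x⁻¹ * (b * x * b⁻¹) ∈ P := (QuotientGroup.eq_one_iff _).1 hcomm
    -- adjust `b` so that it commutes with `x`
    let f : P → P := fun p => ⟨x⁻¹ * (p : H)⁻¹ * x * p, by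
      have := P.mul_mem (hPn.conj_mem _ (P.inv_mem p.2) x⁻¹) p.2
      simpa using this⟩
    have hf : Function.Injective f := by
      intro p q e
      have e' := congrArg Subtype.val e
      simp only [f] at e'
      have : ((p : H) * (q : H)⁻¹) = 1 := fpf hI hP hC hxodd hx1' (P.mul_mem p.2 (P.inv_mem q.2)) (by
        calc x * ((p : H) * (q : H)⁻¹) = x * (p : H) * (q : H)⁻¹ := by group
          _ = (p : H) * x * ((x⁻¹ * (p : H)⁻¹ * x * p) * (q : H)⁻¹) := by group
          _ = (p : H) * x * ((x⁻¹ * (q : H)⁻¹ * x * q) * (q : H)⁻¹) := by rw [e']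
          _ = _ := by group)
      exact Subtype.ext (mul_inv_eq_one.1 this)
    obtain ⟨p1, hp1⟩ := Finite.injective_iff_surjective.1 hf ⟨_, hc⟩
    have hp1' := congrArg Subtype.val hp1
    simp only [f] at hp1'
    obtain ⟨a1, ha1def⟩ : ∃ a1, a1 = (p1 : H) * b := ⟨_, rfl⟩
    have ha1x : a1 * x = x * a1 := by
      calc a1 * x = (p1 : H) * (x * (x⁻¹ * (b * x * b⁻¹))) * b := by rw [ha1def]; group
        _ = (p1 : H) * (x * (x⁻¹ * (p1 : H)⁻¹ * x * p1)) * b := by rw [hp1']
        _ = _ := by rw [ha1def]; group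
    have hπa1 : π a1 = a := by
      rw [ha1def, map_mul, show π (p1 : H) = 1 from (QuotientGroup.eq_one_iff _).2 p1.2, one_mul, hb]
    have ha2 : a1 ^ 2 = 1 := by
      refine fpf hI hP hC hxodd hx1' ((QuotientGroup.eq_one_iff _).1 ?_) ?_
      · show π (a1 ^ 2) = 1
        rw [map_pow, hπa1, ← hao, pow_orderOf_eq_one]
      · exact ((show Commute x a1 from ha1x.symm).pow_right 2).eq
    have ha1o : orderOf a1 = 2 := orderOf_eq_prime ha2 fun e => by
      rw [e, map_one] at hπa1; rw [← hπa1, orderOf_one] at hao; exact absurd hao (by norm_num)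
    -- a fixed point on `P`
    obtain ⟨y, hy, hy1, hya⟩ : ∃ y ∈ P, y ≠ 1 ∧ y * a1 = a1 * y := by
      by_contra hno
      push Not at hno
      have hai : a1⁻¹ = a1 := inv_eq_of_mul_eq_one_left (by rw [← pow_two]; exact ha2)
      let g : P → P := fun p => ⟨(p : H) * (a1 * (p : H)⁻¹ * a1⁻¹), P.mul_mem p.2 (hPn.conj_mem _ (P.inv_mem p.2) a1)⟩
      have hg : Function.Injective g := by
        intro p q e
        have e' := congrArg Subtype.val e
        simp only [g] at e'
        by_contra hne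
        refine hno ((q : H)⁻¹ * p) (P.mul_mem (P.inv_mem q.2) p.2) (fun h => hne (Subtype.ext (inv_mul_eq_one.1 h).symm)) ?_
        calc (q : H)⁻¹ * p * a1 = (q : H)⁻¹ * ((p : H) * (a1 * (p : H)⁻¹ * a1⁻¹)) * a1 * p * a1⁻¹ * a1 * a1⁻¹ * a1 := by group
          _ = (q : H)⁻¹ * ((q : H) * (a1 * (q : H)⁻¹ * a1⁻¹)) * a1 * p * a1⁻¹ * a1 * a1⁻¹ * a1 := by rw [e']
          _ = a1 * ((q : H)⁻¹ * p) := by group
      have hinv : ∀ y ∈ P, a1 * y * a1⁻¹ = y⁻¹ := by
        intro y hy
        obtain ⟨p, hp⟩ := Finite.injective_iff_surjective.1 hg ⟨y, hy⟩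
        have hp' := congrArg Subtype.val hp
        simp only [g] at hp'
        rw [← hp', mul_inv_rev, mul_inv_rev, mul_inv_rev, inv_inv, inv_inv]
        calc a1 * ((p : H) * (a1 * (p : H)⁻¹ * a1⁻¹)) * a1⁻¹ = a1 * (p : H) * a1 * (p : H)⁻¹ * (a1⁻¹ * a1⁻¹) := by group
          _ = _ := by rw [show a1⁻¹ * a1⁻¹ = 1 by rw [← mul_inv_rev, ← pow_two, ha2, inv_one], mul_one, hai]; group
      have hP1 : P ≠ ⊥ := fun h => hx1' (by
        have : x ∈ P := hC (Subgroup.mem_centralizer_iff.2 fun y hy => by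
          rw [h, SetLike.mem_coe, Subgroup.mem_bot] at hy; simp [hy])
        rwa [h, Subgroup.mem_bot] at this)
      obtain ⟨j, hj⟩ := IsPGroup.iff_card.1 hP
      have hj0 : j ≠ 0 := fun e => hP1 (Subgroup.card_eq_one.1 (by rw [hj, e, pow_zero]))
      obtain ⟨⟨y, hy⟩, hyo⟩ := exists_prime_orderOf_dvd_card' (G := P) 2 (hj ▸ dvd_pow_self 2 hj0)
      rw [Subgroup.orderOf_mk] at hyo
      have hy2 : y⁻¹ = y := inv_eq_of_mul_eq_one_left (by rw [← pow_two, ← hyo]; exact pow_orderOf_eq_one y)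
      refine hno y hy (fun e => by rw [e, orderOf_one] at hyo; exact absurd hyo (by norm_num)) ?_
      have := hinv y hy
      rw [hy2, mul_inv_eq_iff_eq_mul] at this
      exact this.symm
    exact hy1 (fpf hI hP hC hxodd hx1' hy (commute_fixed hI hP ha1o hxodd ha1x.symm hy hya))
  · haveI : IsCyclic (ZMod (Nat.card R))ˣ := by rw [hcardR]; infer_instance
    let e := IsCyclic.mulAutMulEquiv (G := R)
    haveI : IsCyclic (MulAut R) := isCyclic_of_surjective e.symm.toMonoidHom e.symm.surjective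
    exact isCyclic_of_surjective (QuotientGroup.quotientKerEquivRange conjR).symm.toMonoidHom (MulEquiv.surjective _)

end Cfsg.Agent.S3215
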