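import Cfsg.Statements.S3224
import Cfsg.Agent.Inv.Dihedral
import Mathlib.GroupTheory.PGroup
import Mathlib.GroupTheory.IndexNormal
import Mathlib.Tactic
-- import your own Cfsg.Agent.* helpers here

set_option autoImplicit false
open Cfsg

namespace Cfsg.Agent.S3224

open Subgroup

theorem zpowers_index_two_normal {S : Type*} [Group S] [Finite S] {M : Subgroup S}
    (h : 2 * Nat.card ↥M = Nat.card S) : M.index = 2 := by
  have := M.card_mul_index
  have hp : 0 < Nat.card ↥M := Nat.card_pos
  exact Nat.eq_of_mul_eq_mul_left hp (by rw [this, ← h, mul_comm])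

/-- An abelian normal subgroup of order at least 4 not containing `x` meets the centralizer in order 2. -/
theorem cent_facts {S : Type*} [Group S] [Finite S] {x : S}
    (hC : Nat.card ↥(centralizer ({x} : Set S)) = 4) (hx : orderOf x = 2) {z : S}
    (hz : orderOf z = 2) (hzx : z * x = x * z) (hne : z ≠ x) :
    ∀ w : S, w * x = x * w → w = 1 ∨ w = x ∨ w = z ∨ w = x * z := by
  classical
  intro w hw
  by_contra h
  push Not at h
  have hmem : ∀ v : S, v * x = x * v → v ∈ centralizer ({x} : Set S) := fun v hv =>
    mem_centralizer_singleton_iff.2 hv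
  have hxz : x * z ≠ 1 := fun e => hne (by
    rw [← CfsgLib.Inv.invol_inv hx, eq_inv_of_mul_eq_one_right e])
  have hs : ({1, x, z, x * z, w} : Finset S).card = 5 := by
    have hx1 := CfsgLib.Inv.invol_ne_one hx
    have hz1 := CfsgLib.Inv.invol_ne_one hz
    have h3 : x ≠ x * z := fun e => hz1 (by simpa using e)
    have h4 : z ≠ x * z := fun e => hx1 (by simpa using e)
    simp [Finset.card_insert_of_notMem, hx1.symm, hz1.symm, hxz.symm, hne.symm, h3, h4, h.1.symm,
      h.2.1.symm, h.2.2.1.symm, h.2.2.2.symm]
  have : Nat.card ↥({1, x, z, x * z, w} : Finset S) ≤ Nat.card ↥(centralizer ({x} : Set S)) := by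
    refine Nat.card_le_card_of_injective (fun v => ⟨v.1, hmem _ ?_⟩) fun u v huv => ?_
    · have hv := v.2
      simp only [Finset.mem_insert, Finset.mem_singleton] at hv
      rcases hv with h | h | h | h | h <;> rw [h]
      · simp
      · exact hzx
      · rw [mul_assoc, hzx]
      · exact hw
    · exact Subtype.ext (by simpa using congrArg Subtype.val huv)
  rw [Nat.card_eq_fintype_card, Fintype.card_coe, hs, hC] at this
  omega

universe u in
/-- There is a cyclic subgroup of index 2. -/
theorem exists_half : ∀ (N : ℕ) (S : Type u) [Group S] [Finite S], Nat.card S ≤ N → IsPGroup 2 S →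
    ∀ x : S, orderOf x = 2 → Nat.card ↥(centralizer ({x} : Set S)) = 4 →
      ∃ g : S, 2 * orderOf g = Nat.card S := by
  intro N
  induction N with
  | zero =>
    intro S _ _ h
    have : 0 < Nat.card S := Nat.card_pos
    omega
  | succ N ih =>
    intro S _ _ hN hS x hx hC
    have : Fact (Nat.Prime 2) := ⟨Nat.prime_two⟩
    obtain ⟨k, hk⟩ := IsPGroup.iff_card.1 hS
    have h4 : 4 ≤ Nat.card S := hC ▸ Subgroup.card_le_card_group _
    by_cases h4' : Nat.card S = 4
    · exact ⟨x, by rw [hx, h4']⟩
    have hxc : x ∉ center S := by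
      intro h
      apply h4'
      rw [← hC, show centralizer ({x} : Set S) = ⊤ from ?_, card_top]
      exact eq_top_iff.2 fun v _ => mem_centralizer_singleton_iff.2 (mem_center_iff.1 h v)
    have : Nontrivial S := Finite.one_lt_card_iff_nontrivial.1 (by omega)
    have hzc := hS.center_nontrivial
    obtain ⟨⟨z, hzm⟩, hz⟩ : ∃ z : center S, orderOf z = 2 := exists_prime_orderOf_dvd_card' 2 (by
      obtain ⟨j, hj⟩ := IsPGroup.iff_card.1 (hS.to_subgroup (center S))
      have := Finite.one_lt_card (α := center S)
      rw [hj] at this ⊢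
      exact dvd_pow_self 2 (by rintro rfl; simp at this))
    rw [orderOf_mk] at hz
    have hzx : z * x = x * z := (mem_center_iff.1 hzm x).symm
    have hne : z ≠ x := fun e => hxc (e ▸ hzm)
    have hcases := cent_facts hC hx hz hzx hne
    let Z := zpowers z
    have : Z.Normal := ⟨fun a ha g => by
      have : a ∈ center S := zpowers_le.2 hzm ha
      rw [mem_center_iff.1 this g, mul_inv_cancel_right]; exact ha⟩
    have hZc : Nat.card ↥Z = 2 := by rw [Nat.card_zpowers, hz]
    have hZ2 : ∀ a ∈ Z, a = 1 ∨ a = z := by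
      intro a ha
      obtain ⟨i, rfl⟩ := mem_zpowers_iff.1 ha
      rcases Int.even_or_odd i with ⟨j, rfl⟩ | ⟨j, rfl⟩
      · left; rw [← two_mul, zpow_mul, zpow_ofNat, pow_two, CfsgLib.Inv.invol_mul_self hz, one_zpow]
      · right; rw [zpow_add_one, zpow_mul, zpow_ofNat, pow_two, CfsgLib.Inv.invol_mul_self hz, one_zpow, one_mul]
    have hidx : Nat.card (S ⧸ Z) * 2 = Nat.card S := by
      rw [card_eq_card_quotient_mul_card_subgroup Z, hZc]
    set q := QuotientGroup.mk' Z with hq
    have hqx : orderOf (q x) = 2 := by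
      refine orderOf_eq_prime ?_ fun h => ?_
      · rw [← map_pow, pow_two, CfsgLib.Inv.invol_mul_self hx, map_one]
      · rcases hZ2 x ((QuotientGroup.eq_one_iff x).1 h) with h | h
        · exact CfsgLib.Inv.invol_ne_one hx h
        · exact hne h.symm
    by_cases h8 : Nat.card S = 8
    · by_contra hcon
      push Not at hcon
      have hexp : ∀ g : S, g * g = 1 := by
        intro g
        obtain ⟨j, hj⟩ := IsPGroup.iff_orderOf.1 hS g
        have hd : orderOf g ∣ 8 := h8 ▸ orderOf_dvd_natCard g
        have hn4 := hcon g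
        have h8' : orderOf g ≠ 8 := by
          intro e
          have hcyc : zpowers g = ⊤ := eq_top_of_card_eq _ (by rw [Nat.card_zpowers, e, h8])
          apply hxc
          rw [mem_center_iff]
          intro v
          obtain ⟨a, rfl⟩ := mem_zpowers_iff.1 (hcyc ▸ mem_top v : v ∈ zpowers g)
          obtain ⟨b, rfl⟩ := mem_zpowers_iff.1 (hcyc ▸ mem_top x : x ∈ zpowers g)
          rw [← zpow_add, ← zpow_add, add_comm]
        have hj3 : j ≤ 3 := (Nat.pow_dvd_pow_iff_le_right (by norm_num : 1 < 2)).1 (hj ▸ hd)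
        have hj1 : j ≤ 1 := by
          by_contra hj1
          interval_cases j <;> omega
        have := pow_orderOf_eq_one g
        interval_cases j
        · rw [hj] at this; simp at this; simp [this]
        · rw [hj, pow_one, pow_two] at this; exact this
      apply hxc
      rw [mem_center_iff]
      intro v
      have hi : ∀ w : S, w⁻¹ = w := fun w => inv_eq_of_mul_eq_one_right (hexp w)
      have h1 := hi (v * x)
      rw [mul_inv_rev, hi, hi] at h1
      exact h1.symm
    obtain ⟨h4q, h16⟩ : 8 ≤ Nat.card (S ⧸ Z) ∧ 16 ≤ Nat.card S := by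
      rw [hk] at h4 h4' h8 ⊢
      have : 4 ≤ k := by
        by_contra hlt
        interval_cases k <;> omega
      have : 2 ^ 4 ≤ 2 ^ k := Nat.pow_le_pow_right (by norm_num) this
      omega
    -- the centralizer in the quotient
    have hCq : Nat.card ↥(centralizer ({q x} : Set (S ⧸ Z))) = 4 := by
      obtain ⟨t, htn, htc⟩ : ∃ t ∈ normalizer ((centralizer ({x} : Set S)) : Set S),
          t ∉ centralizer ({x} : Set S) := by
        have := hS.isNilpotent
        refine SetLike.exists_of_lt (Group.normalizerCondition_of_isNilpotent _ ?_)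
        refine lt_top_iff_ne_top.2 fun e => ?_
        rw [e, card_top] at hC
        omega
      have hxC : x ∈ centralizer ({x} : Set S) := mem_centralizer_singleton_iff.2 rfl
      have htx : t * x * t⁻¹ = x * z := by
        have h1 := (mem_normalizer_iff.1 htn x).1 hxC
        rcases hcases _ (mem_centralizer_singleton_iff.1 h1) with h | h | h | h
        · exact absurd (conj_eq_one_iff.1 h) (CfsgLib.Inv.invol_ne_one hx)
        · refine absurd (mem_centralizer_singleton_iff.2 ?_) htc
          calc t * x = t * x * t⁻¹ * t := by group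
            _ = x * t := by rw [h]
        · exfalso
          apply hne
          calc z = t⁻¹ * (t * z) := by group
            _ = t⁻¹ * (z * t) := by rw [mem_center_iff.1 hzm t]
            _ = t⁻¹ * ((t * x * t⁻¹) * t) := by rw [h]
            _ = x := by group
        · exact h
      have hmemC : ∀ b : S, b ∈ (centralizer ({q x} : Set (S ⧸ Z))).comap q ↔
          b * x * b⁻¹ = x ∨ b * x * b⁻¹ = x * z := by
        intro b
        rw [mem_comap, mem_centralizer_singleton_iff, ← map_mul, ← map_mul, hq,
          QuotientGroup.mk'_apply, QuotientGroup.mk'_apply, QuotientGroup.eq_iff_div_mem]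
        constructor
        · intro h
          rcases hZ2 _ h with h | h
          · left
            rw [div_eq_one] at h
            rw [h, mul_inv_cancel_right]
          · right
            rw [div_eq_iff_eq_mul, mem_center_iff.1 hzm (x * b) |>.symm] at h
            rw [h, mul_assoc x b z, mem_center_iff.1 hzm b, ← mul_assoc, mul_inv_cancel_right]
        · intro h
          rcases h with h | h
          · rw [show b * x = x * b from mul_inv_eq_iff_eq_mul.1 h, div_self']
            exact one_mem _
          · rw [show b * x = x * z * b from mul_inv_eq_iff_eq_mul.1 h, mul_assoc,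
              ← mem_center_iff.1 hzm b, ← mul_assoc, mem_center_iff.1 hzm (x * b),
              mul_div_cancel_right]
            exact mem_zpowers z
      set C' := (centralizer ({q x} : Set (S ⧸ Z))).comap q with hC'
      have hle : centralizer ({x} : Set S) ≤ C' := fun b hb => (hmemC b).2 <| .inl <| by
        rw [mem_centralizer_singleton_iff.1 hb, mul_inv_cancel_right]
      have hrel : (centralizer ({x} : Set S)).relIndex C' = 2 := by
        rw [relIndex, index_eq_two_iff]
        refine ⟨⟨t, (hmemC t).2 (.inr htx)⟩, fun ⟨b, hb⟩ => ?_⟩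
        have key : ∀ u : S, u ∈ centralizer ({x} : Set S) ↔ u * x * u⁻¹ = x := fun u => by
          rw [mem_centralizer_singleton_iff, mul_inv_eq_iff_eq_mul]
        have hbt : b * t * x * (b * t)⁻¹ = b * x * b⁻¹ * z := by
          rw [show b * t * x * (b * t)⁻¹ = b * (t * x * t⁻¹) * b⁻¹ by group, htx]
          rw [mul_assoc, mul_assoc x z b⁻¹, ← mem_center_iff.1 hzm b⁻¹]
          group
        have hnx : x * z ≠ x := fun e => CfsgLib.Inv.invol_ne_one hz (by simpa using e)
        simp only [xor_iff_not_iff, mem_subgroupOf, key, MulMemClass.mk_mul_mk, hbt]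
        rcases (hmemC b).1 hb with h | h <;> rw [h]
        · simp [hnx]
        · rw [mul_assoc, CfsgLib.Inv.invol_mul_self hz, mul_one]; simp [hnx]
      have h8C : Nat.card ↥C' = 8 := by
        rw [← relIndex_bot_left, ← relIndex_mul_relIndex _ _ _ bot_le hle, relIndex_bot_left, hC, hrel]
      have hi1 := C'.card_mul_index
      have hi2 := (centralizer ({q x} : Set (S ⧸ Z))).card_mul_index
      rw [hC', index_comap_of_surjective _ (QuotientGroup.mk'_surjective Z), ← hC', h8C] at hi1
      have hpos : 0 < (centralizer ({q x} : Set (S ⧸ Z))).index :=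
        Nat.pos_of_ne_zero index_ne_zero_of_finite
      refine Nat.eq_of_mul_eq_mul_right (Nat.mul_pos hpos two_pos) ?_
      rw [← mul_assoc, ← mul_assoc, hi2, hidx, ← hi1]
      omega
    obtain ⟨gb, hgb⟩ := ih (S ⧸ Z) (by omega) (hS.to_quotient Z) (q x) hqx hCq
    obtain ⟨g, rfl⟩ := QuotientGroup.mk'_surjective Z gb
    refine ⟨g, ?_⟩
    obtain ⟨n, hn⟩ := IsPGroup.iff_orderOf.1 (hS.to_quotient Z) (q g)
    have hm4 : 4 ≤ orderOf (q g) := by rw [← hq] at hgb; omega
    have hgm : g ^ orderOf (q g) ∈ Z := by
      rw [← QuotientGroup.eq_one_iff, QuotientGroup.mk_pow]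
      exact pow_orderOf_eq_one _
    rcases hZ2 _ hgm with hg1 | hgz
    · exfalso
      set M := (zpowers (q g)).comap q with hM
      have hMidx : M.index = 2 := by
        rw [hM, index_comap_of_surjective _ (QuotientGroup.mk'_surjective Z)]
        refine zpowers_index_two_normal ?_
        rw [Nat.card_zpowers]
        exact hgb
      have hMn : M.Normal := normal_of_index_eq_two hMidx
      have hMel : ∀ a ∈ M, ∃ i : ℤ, a = g ^ i ∨ a = g ^ i * z := by
        intro a ha
        obtain ⟨i, hi⟩ := mem_zpowers_iff.1 (mem_comap.1 ha)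
        rw [← map_zpow, hq, QuotientGroup.mk'_apply, QuotientGroup.mk'_apply,
          QuotientGroup.eq] at hi
        refine ⟨i, ?_⟩
        rcases hZ2 _ hi with h | h
        · left; rw [inv_mul_eq_one] at h; exact h.symm
        · right; rw [inv_mul_eq_iff_eq_mul] at h; exact h
      have hgM : g ∈ M := mem_comap.2 (mem_zpowers _)
      have hgcomm : ∀ a ∈ M, a * g = g * a := by
        intro a ha
        obtain ⟨i, rfl | rfl⟩ := hMel a ha
        · exact ((Commute.refl g).zpow_left i).eq
        · rw [mul_assoc, ← mem_center_iff.1 hzm g, ← mul_assoc, ((Commute.refl g).zpow_left i).eq, mul_assoc]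
      have hxM : x ∉ M := by
        intro h
        have hgc : g * x = x * g := (hgcomm x h).symm
        have hle : M ≤ centralizer ({x} : Set S) := by
          intro a ha
          rw [mem_centralizer_singleton_iff]
          obtain ⟨i, rfl | rfl⟩ := hMel a ha
          · exact (Commute.zpow_left hgc i).eq
          · exact ((Commute.zpow_left hgc i).mul_left hzx).eq
        have h1 := card_le_of_le hle
        rw [hC] at h1
        have h2 := M.card_mul_index
        rw [hMidx] at h2
        omega
      have hMC : ∀ a ∈ M, a * x = x * a → a = 1 ∨ a = z := by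
        intro a ha hax
        rcases hcases a hax with h | h | h | h
        · exact .inl h
        · exact absurd (h ▸ ha) hxM
        · exact .inr h
        · refine absurd ?_ hxM
          have : z ∈ M := mem_comap.2 (by
            rw [show q z = 1 from (QuotientGroup.eq_one_iff z).2 (mem_zpowers z)]; exact one_mem _)
          have h' := M.mul_mem ha (M.inv_mem this)
          rwa [h, mul_inv_cancel_right] at h'
      have hconj : x * g * x⁻¹ ∈ M := hMn.conj_mem g hgM x
      have hwx : g * (x * g * x⁻¹) * x = x * (g * (x * g * x⁻¹)) := by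
        nth_rewrite 1 [← hgcomm _ hconj]
        calc x * g * x⁻¹ * g * x = x * (g * (x⁻¹ * g * x)) := by group
          _ = x * (g * (x * g * x⁻¹)) := by rw [CfsgLib.Inv.invol_inv hx]
      obtain ⟨j, hj⟩ : ∃ j, orderOf (q g) = 2 * (2 * j) := by
        rw [hn] at hm4 ⊢
        refine ⟨2 ^ (n - 2), ?_⟩
        have : 2 ≤ n := by
          by_contra h
          interval_cases n <;> omega
        conv_lhs => rw [← Nat.sub_add_cancel this, pow_add]
        ring
      have hvv : g ^ (2 * j) * g ^ (2 * j) = 1 := by rw [← pow_add, ← two_mul, ← hj, hg1]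
      have hv : x * g ^ (2 * j) * x⁻¹ = g ^ (2 * j) := by
        rw [← conj_pow]
        have hzz : z ^ (2 * j) = 1 := by rw [pow_mul, pow_two, CfsgLib.Inv.invol_mul_self hz, one_pow]
        rcases hMC _ (M.mul_mem hgM hconj) hwx with h | h
        · rw [eq_inv_of_mul_eq_one_right h, inv_pow, inv_eq_of_mul_eq_one_right hvv]
        · rw [← eq_inv_mul_iff_mul_eq] at h
          rw [h, Commute.mul_pow (mem_center_iff.1 hzm g⁻¹ : Commute g⁻¹ z), hzz, mul_one, inv_pow,
            inv_eq_of_mul_eq_one_right hvv]
      have hvne : q g ^ (2 * j) ≠ 1 := fun h => by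
        have := Nat.le_of_dvd (by omega) (orderOf_dvd_of_pow_eq_one h)
        omega
      rcases hMC _ (M.pow_mem hgM _) (mul_inv_eq_iff_eq_mul.1 hv).symm with h | h
      · exact hvne (by rw [← map_pow, h, map_one])
      · exact hvne (by rw [← map_pow, h]; exact (QuotientGroup.eq_one_iff z).2 (mem_zpowers z))
    · have hd : orderOf (q g) ∣ orderOf g := orderOf_map_dvd q g
      have hd2 : orderOf g ∣ orderOf (q g) * 2 := by
        apply orderOf_dvd_of_pow_eq_one
        rw [pow_mul, hgz, pow_two, CfsgLib.Inv.invol_mul_self hz]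
      have hne' : orderOf g ≠ orderOf (q g) := fun e => CfsgLib.Inv.invol_ne_one hz (by
        rw [← hgz, ← e, pow_orderOf_eq_one])
      obtain ⟨c, hc⟩ := hd
      rw [hc] at hd2
      have hc2 : c ∣ 2 := Nat.dvd_of_mul_dvd_mul_left (by omega) hd2
      rcases (Nat.dvd_prime Nat.prime_two).1 hc2 with rfl | rfl
      · exact absurd (by rw [hc, mul_one]) hne'
      · rw [hc, ← hidx]
        rw [← hq] at hgb
        omega

theorem cyc_invol {S : Type*} [Group S] {g a : S} {h : ℕ} (hg : orderOf g = 2 * h)
    (ha : a ∈ zpowers g) (ha2 : a * a = 1) : a = 1 ∨ a = g ^ h := by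
  obtain ⟨i, rfl⟩ := mem_zpowers_iff.1 ha
  rw [← zpow_add, ← orderOf_dvd_iff_zpow_eq_one, hg] at ha2
  obtain ⟨c, hc⟩ := ha2
  push_cast at hc
  have hi : i = (h : ℤ) * c := by linarith
  subst hi
  have hv : g ^ h * g ^ h = 1 := by rw [← pow_add, ← two_mul, ← hg, pow_orderOf_eq_one]
  rcases Int.even_or_odd c with ⟨j, rfl⟩ | ⟨j, rfl⟩
  · left; rw [zpow_mul, zpow_natCast, ← two_mul, zpow_mul, zpow_ofNat, pow_two, hv, one_zpow]
  · right; rw [zpow_mul, zpow_natCast, zpow_add_one, zpow_mul, zpow_ofNat, pow_two, hv, one_zpow, one_mul]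

end Cfsg.Agent.S3224


namespace Cfsg.Agent.S3224

/-- A finite 2-group containing an involution whose centralizer has order 4 is dihedral, quasi-dihedral (semidihedral), or of order 4. -/
theorem result {S : Type*} [Group S] [Finite S] (hS : IsPGroup 2 S)
    (x : S) (hx : orderOf x = 2) (hC : Nat.card ↥(Subgroup.centralizer ({x} : Set S)) = 4) :
    (∃ n : ℕ, Nonempty (S ≃* DihedralGroup n)) ∨ Cfsg.IsQuasiDihedral S ∨ Nat.card S = 4 := by
  classical
  obtain ⟨g, hg⟩ := exists_half _ S le_rfl hS x hx hC
  by_cases h4 : Nat.card S = 4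
  · exact .inr (.inr h4)
  have hge : 4 ≤ Nat.card S := hC ▸ Subgroup.card_le_card_group _
  obtain ⟨n, hn⟩ : ∃ n, orderOf g = 2 ^ n := IsPGroup.iff_orderOf.1 hS g
  obtain ⟨k, hk⟩ : ∃ k, n = k + 2 := by
    refine ⟨n - 2, ?_⟩
    by_contra hcon
    have : n ≤ 1 := by omega
    interval_cases n <;> omega
  subst hk
  have hh : orderOf g = 2 * 2 ^ (k + 1) := by rw [hn]; ring
  set h := 2 ^ (k + 1) with hhdef
  set v := g ^ h with hvdef
  set M := Subgroup.zpowers g with hM
  have hMn : M.Normal := Subgroup.normal_of_index_eq_two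
    (zpowers_index_two_normal (by rw [Nat.card_zpowers]; exact hg))
  have hvM : v ∈ M := M.pow_mem (Subgroup.mem_zpowers g) _
  have hv : orderOf v = 2 := by
    rw [hvdef, orderOf_pow, hh]
    simp [Nat.gcd_mul_left_left, hhdef]
  have hvv := CfsgLib.Inv.invol_mul_self hv
  have hvc : ∀ a : S, a * v * a⁻¹ = v := fun a => by
    have h1 := CfsgLib.Inv.invol_conj hv a
    rcases cyc_invol hh (hMn.conj_mem v hvM a) (CfsgLib.Inv.invol_mul_self h1) with e | e
    · exact absurd e (CfsgLib.Inv.invol_ne_one h1)
    · exact e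
  have hvx : v * x = x * v := (mul_inv_eq_iff_eq_mul.1 (hvc x)).symm
  have hxM : x ∉ M := by
    intro hxM
    apply h4
    rcases cyc_invol hh hxM (CfsgLib.Inv.invol_mul_self hx) with e | e
    · exact absurd e (CfsgLib.Inv.invol_ne_one hx)
    · rw [← hC, show Subgroup.centralizer ({x} : Set S) = ⊤ from ?_, Subgroup.card_top]
      refine eq_top_iff.2 fun a _ => Subgroup.mem_centralizer_singleton_iff.2 ?_
      rw [e]; exact mul_inv_eq_iff_eq_mul.1 (hvc a)
  have hcases := cent_facts hC hx hv hvx (fun e => hxM (e ▸ hvM))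
  have hMC : ∀ a ∈ M, a * x = x * a → a = 1 ∨ a = v := by
    intro a ha hax
    rcases hcases a hax with e | e | e | e
    · exact .inl e
    · exact absurd (e ▸ ha) hxM
    · exact .inr e
    · refine absurd ?_ hxM
      have h' := M.mul_mem ha (M.inv_mem hvM)
      rwa [e, mul_inv_cancel_right] at h'
  obtain ⟨i, hi⟩ := Subgroup.mem_zpowers_iff.1 (hMn.conj_mem g (Subgroup.mem_zpowers g) x)
  have hwx : g * (x * g * x⁻¹) * x = x * (g * (x * g * x⁻¹)) := by
    have hc : g * (x * g * x⁻¹) = (x * g * x⁻¹) * g := by
      rw [← hi]; exact ((Commute.refl g).zpow_right i).eq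
    nth_rewrite 1 [hc]
    calc x * g * x⁻¹ * g * x = x * (g * (x⁻¹ * g * x)) := by group
      _ = x * (g * (x * g * x⁻¹)) := by rw [CfsgLib.Inv.invol_inv hx]
  rcases hMC _ (M.mul_mem (Subgroup.mem_zpowers g) (hMn.conj_mem g (Subgroup.mem_zpowers g) x)) hwx with e | e
  · left
    refine ⟨orderOf g, ?_⟩
    have hxg : x * g * x⁻¹ = g⁻¹ := eq_inv_of_mul_eq_one_right e
    have hy : orderOf (x * g) = 2 := by
      refine orderOf_eq_prime ?_ fun e' => hxM ?_
      · rw [pow_two]
        calc x * g * (x * g) = x * g * x⁻¹ * ((x * x) * g) := by group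
          _ = 1 := by rw [hxg, CfsgLib.Inv.invol_mul_self hx, one_mul, inv_mul_cancel]
      · rw [eq_inv_of_mul_eq_one_left e']; exact M.inv_mem (Subgroup.mem_zpowers g)
    have hxy : x * (x * g) = g := by rw [← mul_assoc, CfsgLib.Inv.invol_mul_self hx, one_mul]
    obtain ⟨eq⟩ := CfsgLib.Inv.dihedral_equiv hx hy
    rw [hxy] at eq
    have htop : Subgroup.closure ({x, x * g} : Set S) = ⊤ := by
      apply Subgroup.eq_top_of_card_eq
      rw [Nat.card_congr eq.toEquiv, DihedralGroup.nat_card, hg]
    exact ⟨(Subgroup.topEquiv.symm.trans (MulEquiv.subgroupCongr htop).symm).trans eq⟩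
  · right; left
    have hxg : x * g * x⁻¹ = g⁻¹ * v := (eq_inv_mul_iff_mul_eq.2 e)
    have hpow : g ^ (h - 1) = g⁻¹ * v := by
      rw [eq_inv_mul_iff_mul_eq, hvdef, ← pow_succ']
      congr 1
      have : 0 < h := Nat.pos_of_ne_zero (by simp [hhdef])
      omega
    obtain ⟨k, rfl⟩ : ∃ k', k = k' + 1 := by
      refine ⟨k - 1, ?_⟩
      by_contra hcon
      have hk0 : k = 0 := by omega
      subst hk0
      have hgx : g * x = x * g := by
        have : x * g * x⁻¹ = g := by rw [hxg, ← hpow, hhdef]; simp
        exact (mul_inv_eq_iff_eq_mul.1 this).symm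
      have h1 : orderOf g = 4 := hn
      rcases hMC g (Subgroup.mem_zpowers g) hgx with e' | e'
      · rw [e', orderOf_one] at h1; omega
      · rw [e', hv] at h1; omega
    refine ⟨k + 3, by omega, ?_, g, x, hn, hx, ?_⟩
    · rw [← hg, hn]; ring
    · rw [hxg, ← hpow, hhdef]
      norm_num

end Cfsg.Agent.S3224
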