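import Cfsg.Statements.S3225
import Mathlib

set_option autoImplicit false
open Cfsg

namespace Cfsg.Agent.S3225

/-- Let G be a finite group of even order with no subgroup of index 2, S a Sylow 2-subgroup of G and M a subgroup of index 2 in S such that, for some n ≥ 1, every element of S outside M has order greater than 2^(n−1). Then every element of S of order 2ⁿ is conjugate in G to an element of M. -/
theorem result {G : Type*} [Group G] [Finite G] (hev : Even (Nat.card G))
    (hG : ∀ H : Subgroup G, H.index ≠ 2) (S : Sylow 2 G) (M : Subgroup G) (hMS : M ≤ (S : Subgroup G)) (hM : M.relIndex (S : Subgroup G) = 2)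
    (n : ℕ) (hn : 1 ≤ n) (hord : ∀ y ∈ (S : Subgroup G), y ∉ M → 2 ^ (n - 1) < orderOf y)
    (x : G) (hx : x ∈ (S : Subgroup G)) (hxn : orderOf x = 2 ^ n) :
    ∃ g : G, g * x * g⁻¹ ∈ M := by
  classical
  haveI : Fact (Nat.Prime 2) := ⟨Nat.prime_two⟩
  by_contra hcon
  push Not at hcon
  set M' := M.subgroupOf (S : Subgroup G) with hM'
  have hM2 : M'.index = 2 := hM
  let ϕ : ↥(S : Subgroup G) →* ℤˣ :=
    { toFun := fun s => if s ∈ M' then 1 else -1
      map_one' := if_pos (one_mem _)
      map_mul' := fun a b => by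
        have := Subgroup.mul_mem_iff_of_index_two hM2 (a := a) (b := b)
        by_cases ha : a ∈ M' <;> by_cases hb : b ∈ M' <;> simp_all }
  haveI : (S : Subgroup G).FiniteIndex := inferInstance
  letI := (S : Subgroup G).fintypeQuotientOfFiniteIndex
  set per : Quotient (MulAction.orbitRel (Subgroup.zpowers x) (G ⧸ (S : Subgroup G))) → ℕ :=
    fun q => Function.minimalPeriod (x • ·) q.out with hper
  have hper2 : ∀ q, per q ≠ 1 → Even (per q) := by
    intro q hq
    have hdvd : per q ∣ 2 ^ n := by
      have h1 : Function.IsPeriodicPt (x • ·) (2 ^ n) q.out := by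
        show (x • ·)^[2 ^ n] q.out = q.out
        rw [smul_iterate, ← hxn, pow_orderOf_eq_one]
        exact one_smul _ _
      exact h1.minimalPeriod_dvd
    obtain ⟨i, -, hi⟩ := (Nat.dvd_prime_pow Nat.prime_two).1 hdvd
    rw [hi] at hq ⊢
    exact even_two.pow_of_ne_zero fun h => hq (by rw [h, pow_zero])
  have hval : ∀ q, ϕ ⟨q.out.out⁻¹ * x ^ Function.minimalPeriod (x • ·) q.out * q.out.out,
      QuotientGroup.out_conj_pow_minimalPeriod_mem (S : Subgroup G) x q.out⟩ = (-1) ^ per q := by
    intro q
    set k := Function.minimalPeriod (x • ·) q.out with hk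
    have hkq : per q = k := rfl
    rw [hkq]
    set c := q.out.out
    show (if (⟨c⁻¹ * x ^ k * c, _⟩ : ↥(S : Subgroup G)) ∈ M' then (1 : ℤˣ) else -1) = (-1) ^ k
    by_cases hk1 : k = 1
    · rw [if_neg, (show ((-1 : ℤˣ) ^ k) = -1 by rw [hk1, pow_one])]
      intro hmem
      rw [hM', Subgroup.mem_subgroupOf] at hmem
      change c⁻¹ * x ^ k * c ∈ M at hmem
      exact hcon c⁻¹ (by rw [inv_inv]; simpa [hk1] using hmem)
    · have hev := hper2 q hk1
      rw [hkq] at hev
      rw [hev.neg_one_pow, if_pos]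
      by_contra hnm
      have hy := hord _ (QuotientGroup.out_conj_pow_minimalPeriod_mem (S : Subgroup G) x q.out) hnm
      obtain ⟨m, hm⟩ := hev
      have hle : orderOf (c⁻¹ * x ^ k * c) ∣ 2 ^ (n - 1) := by
        apply orderOf_dvd_of_pow_eq_one
        have hx1 : (x ^ k) ^ 2 ^ (n - 1) = 1 := by
          rw [← pow_mul, hm, ← two_mul, mul_assoc, mul_comm m, ← mul_assoc, ← pow_succ',
            Nat.sub_add_cancel hn, pow_mul, ← hxn, pow_orderOf_eq_one, one_pow]
        have := conj_pow (i := 2 ^ (n - 1)) (a := c⁻¹) (b := x ^ k)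
        rw [inv_inv] at this
        rw [this, hx1, mul_one, inv_mul_cancel]
      exact absurd (Nat.le_of_dvd (pow_pos two_pos _) hle) (not_le.2 hy)
  have htr : MonoidHom.transfer ϕ x = -1 := by
    rw [MonoidHom.transfer_eq_prod_quotient_orbitRel_zpowers_quot,
      Finset.prod_congr rfl (fun q _ => hval q), Finset.prod_pow_eq_pow_sum, hper,
      ← Subgroup.index_eq_sum_minimalPeriod]
    refine Odd.neg_one_pow ?_
    rw [← Nat.not_even_iff_odd, even_iff_two_dvd]
    exact S.not_dvd_index
  have hsurj : Function.Surjective (MonoidHom.transfer ϕ) := by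
    intro u
    rcases Int.units_eq_one_or u with rfl | rfl
    · exact ⟨1, map_one _⟩
    · exact ⟨x, htr⟩
  refine hG (MonoidHom.transfer ϕ).ker ?_
  rw [Subgroup.index_ker, MonoidHom.range_eq_top.2 hsurj, Subgroup.card_top]
  simp [Nat.card_eq_fintype_card]

end Cfsg.Agent.S3225
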