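import Cfsg.Statements.S3247
import Cfsg.Agent.Base.Constrained
-- import your own Cfsg.Agent.* helpers here

set_option autoImplicit false
open Cfsg

namespace Cfsg.Agent.S3247

/-- Let G be a finite group and p a prime; here a p-local subgroup means the normalizer of a nontrivial p-subgroup, other than G itself. If every p-local subgroup of G that is maximal among p-local subgroups is p-constrained, or if the centralizer of every element of order p of G is p-constrained, then every p-local subgroup of G is p-constrained. -/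
theorem result {G : Type*} [Group G] [Finite G] (p : ℕ) [hp : Fact p.Prime]
    (h : (∀ M : Subgroup G, (∃ T : Subgroup G, IsPGroup p ↥T ∧ T ≠ ⊥ ∧ M = Subgroup.normalizer (T : Set G)) → M ≠ ⊤ →
        (∀ M' : Subgroup G, (∃ T' : Subgroup G, IsPGroup p ↥T' ∧ T' ≠ ⊥ ∧ M' = Subgroup.normalizer (T' : Set G)) → M' ≠ ⊤ → M ≤ M' → M = M') →
        Cfsg.IsPConstrained p ↥M) ∨
      (∀ x : G, orderOf x = p → Cfsg.IsPConstrained p ↥(Subgroup.centralizer ({x} : Set G))))
    (T : Subgroup G) (hT : IsPGroup p ↥T) (hT1 : T ≠ ⊥) (hTG : Subgroup.normalizer (T : Set G) ≠ ⊤) :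
    Cfsg.IsPConstrained p ↥(Subgroup.normalizer (T : Set G)) := by
  classical
  set N := Subgroup.normalizer (T : Set G) with hN
  rcases h with h | h
  · obtain ⟨M, hNM, hM⟩ := Finite.exists_le_maximal
      (p := fun M : Subgroup G => (∃ U : Subgroup G, IsPGroup p ↥U ∧ U ≠ ⊥ ∧ M = Subgroup.normalizer (U : Set G)) ∧ M ≠ ⊤)
      (a := N) ⟨⟨T, hT, hT1, rfl⟩, hTG⟩
    have hMc := h M hM.1.1 hM.1.2 fun M' h1 h2 hle => le_antisymm hle (hM.2 ⟨h1, h2⟩ hle)
    have h1 := CfsgLib.Base.Constrained.constrained_normalizer_inf hMc hT (Subgroup.le_normalizer.trans hNM)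
    rwa [inf_eq_right.mpr hNM] at h1
  · obtain ⟨x, hxT, hxo, hxc⟩ := CfsgLib.Inv.exists_central_order_p hT hT1
    have hTC : T ≤ Subgroup.centralizer ({x} : Set G) := fun t ht =>
      Subgroup.mem_centralizer_singleton_iff.mpr (hxc t ht)
    have h1 := CfsgLib.Base.Constrained.constrained_normalizer_inf (h x hxo) hT hTC
    refine CfsgLib.Base.Constrained.constrained_of_centralizer hT (CfsgLib.Base.Constrained.constrained_sub h1
      (le_inf (Subgroup.centralizer_le (Set.singleton_subset_iff.mpr hxT)) (Subgroup.centralizer_le_normalizer _))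
      (inf_le_right.trans ?_))
    intro n hn
    rw [Subgroup.mem_normalizer_iff'']
    intro c
    simp only [Subgroup.mem_centralizer_iff]
    constructor
    · intro hc t ht
      have := hc (n * t * n⁻¹) ((Subgroup.mem_normalizer_iff.mp hn t).mp ht)
      calc t * (n⁻¹ * c * n) = n⁻¹ * (n * t * n⁻¹ * c) * n := by group
        _ = n⁻¹ * (c * (n * t * n⁻¹)) * n := by rw [this]
        _ = _ := by group
    · intro hc t ht
      have := hc (n⁻¹ * t * n) ((Subgroup.mem_normalizer_iff''.mp hn t).mp ht)
      calc t * c = n * (n⁻¹ * t * n * (n⁻¹ * c * n)) * n⁻¹ := by group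
        _ = n * (n⁻¹ * c * n * (n⁻¹ * t * n)) * n⁻¹ := by rw [this]
        _ = _ := by group

end Cfsg.Agent.S3247
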