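import Cfsg.Statements.S3276
import Mathlib
import Cfsg.Agent.Inv.Dihedral

set_option autoImplicit false
open Cfsg

namespace Cfsg.Agent.S3276

/-- Let x and y be commuting, non-conjugate involutions of a finite group G, and suppose that for every involution u commuting with x, each conjugate of y that commutes with u also commutes with y. Then the normal closure of y is a proper, normal, elementary abelian 2-subgroup of G; and if y is the only involution of that normal closure commuting with x, it has order at most 4. -/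
theorem result {G : Type*} [Group G] [Finite G] (x y : G) (hx : orderOf x = 2) (hy : orderOf y = 2)
    (hxy : Commute x y) (hnc : ¬ IsConj x y)
    (hstar : ∀ u : G, orderOf u = 2 → Commute u x → ∀ g : G, Commute (g * y * g⁻¹) u → Commute (g * y * g⁻¹) y) :
    Subgroup.normalClosure ({y} : Set G) ≠ ⊤ ∧ Cfsg.IsElementaryAbelian 2 (Subgroup.normalClosure ({y} : Set G)) ∧
      ((∀ u ∈ Subgroup.normalClosure ({y} : Set G), orderOf u = 2 → Commute u x → u = y) →
        Nat.card ↥(Subgroup.normalClosure ({y} : Set G)) ≤ 4) := by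
  have hyg : ∀ g : G, Commute (g * y * g⁻¹) y := by
    intro g
    have ho := CfsgLib.Inv.invol_conj hy g
    have heven : Even (orderOf (x * (g * y * g⁻¹))) := by
      rcases Nat.even_or_odd (orderOf (x * (g * y * g⁻¹))) with h | h
      · exact h
      · exfalso
        exact hnc ((CfsgLib.Inv.isConj_of_odd hx ho h).trans (isConj_iff.mpr ⟨g⁻¹, by group⟩))
    obtain ⟨hu, hux, huy⟩ := CfsgLib.Inv.even_center hx ho heven
    exact hstar _ hu hux g huy.symm
  have hN : Subgroup.normalClosure ({y} : Set G) = Subgroup.closure (Group.conjugatesOfSet ({y} : Set G)) := rfl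
  have hmem : ∀ a ∈ Group.conjugatesOfSet ({y} : Set G), ∃ g : G, g * y * g⁻¹ = a := by
    intro a ha
    obtain ⟨b, hb, hab⟩ := Group.mem_conjugatesOfSet_iff.mp ha
    rw [Set.mem_singleton_iff] at hb
    subst hb
    exact isConj_iff.mp hab
  have hgc : ∀ a ∈ Group.conjugatesOfSet ({y} : Set G), ∀ b ∈ Group.conjugatesOfSet ({y} : Set G), a * b = b * a := by
    intro a ha b hb
    obtain ⟨g, rfl⟩ := hmem a ha
    obtain ⟨k, rfl⟩ := hmem b hb
    have h := congrArg (MulAut.conj k) (hyg (k⁻¹ * g)).eq
    simpa [mul_assoc] using h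
  have hcomm : IsMulCommutative ↥(Subgroup.normalClosure ({y} : Set G)) :=
    Subgroup.isMulCommutative_closure hgc
  have hsq : ∀ a ∈ Subgroup.normalClosure ({y} : Set G), a ^ 2 = 1 := by
    intro a ha
    have hsq0 : ∀ b, b ∈ Group.conjugatesOfSet ({y} : Set G) → b ^ 2 = 1 := by
      intro b hb
      obtain ⟨g, rfl⟩ := hmem b hb
      rw [sq]; exact CfsgLib.Inv.invol_mul_self (CfsgLib.Inv.invol_conj hy g)
    rw [hN] at ha
    induction ha using Subgroup.closure_induction with
    | mem b hb => exact hsq0 b hb
    | one => exact one_pow 2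
    | mul b c hb hc ihb ihc =>
      have : Commute b c := congrArg Subtype.val (hcomm.is_comm.comm ⟨b, hb⟩ ⟨c, hc⟩)
      rw [this.mul_pow, ihb, ihc, one_mul]
    | inv b _ ihb => rw [inv_pow, ihb, inv_one]
  refine ⟨fun htop => ?_, ⟨hcomm, hsq⟩, fun h => ?_⟩
  · have hab : ∀ a b : G, a * b = b * a := fun a b =>
      congrArg Subtype.val (hcomm.is_comm.comm ⟨a, htop ▸ Subgroup.mem_top a⟩ ⟨b, htop ▸ Subgroup.mem_top b⟩)
    have hle : Subgroup.normalClosure ({y} : Set G) ≤ Subgroup.zpowers y := by
      have : (Subgroup.zpowers y).Normal := ⟨fun a ha g => by rwa [hab g a, mul_inv_cancel_right]⟩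
      exact Subgroup.normalClosure_le_normal (Set.singleton_subset_iff.mpr (Subgroup.mem_zpowers y))
    rw [htop] at hle
    obtain ⟨k, hk⟩ := hle (Subgroup.mem_top x)
    have hk2 : y ^ k = y ^ (k % 2) := by rw [← zpow_mod_orderOf, hy]; rfl
    simp only [] at hk
    rcases Int.emod_two_eq_zero_or_one k with h0 | h0
    · rw [hk2, h0, zpow_zero] at hk
      exact CfsgLib.Inv.invol_ne_one hx hk.symm
    · rw [hk2, h0, zpow_one] at hk
      exact hnc (hk ▸ IsConj.refl x)
  · set N := Subgroup.normalClosure ({y} : Set G) with hNdef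
    have hx2 := CfsgLib.Inv.invol_mul_self hx
    have hxi := CfsgLib.Inv.invol_inv hx
    have hNn : N.Normal := Subgroup.normalClosure_normal
    have hcm : ∀ a ∈ N, ∀ b ∈ N, a * b = b * a := fun a ha b hb =>
      congrArg Subtype.val (hcomm.is_comm.comm ⟨a, ha⟩ ⟨b, hb⟩)
    let f : N →* N :=
      { toFun := fun n => ⟨(n : G) * (x * n * x⁻¹), mul_mem n.2 (hNn.conj_mem _ n.2 x)⟩
        map_one' := by ext; simp
        map_mul' := fun a b => by
          apply Subtype.ext
          simp only [Subgroup.coe_mul]
          have := hcm b b.2 _ (hNn.conj_mem _ a.2 x)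
          calc (a : G) * b * (x * (a * b) * x⁻¹) = a * (b * (x * a * x⁻¹)) * (x * b * x⁻¹) := by group
            _ = a * (x * a * x⁻¹ * b) * (x * b * x⁻¹) := by rw [this]
            _ = a * (x * a * x⁻¹) * (b * (x * b * x⁻¹)) := by group }
    have htwo : ∀ w : N, Commute (w : G) x → w = 1 ∨ (w : G) = y := by
      intro w hw
      by_cases h1 : w = 1
      · exact Or.inl h1
      · refine Or.inr (h _ w.2 (CfsgLib.Inv.invol_iff.mpr ⟨fun h2 => h1 (Subtype.ext h2), ?_⟩) hw)
        rw [← sq]; exact hsq _ w.2
    have hy0 : y ∈ N := Subgroup.subset_normalClosure rfl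
    have hrange : ∀ n : N, f n = 1 ∨ (f n : G) = y := by
      intro n
      apply htwo
      show (n : G) * (x * n * x⁻¹) * x = x * ((n : G) * (x * n * x⁻¹))
      rw [hxi]
      calc (n : G) * (x * n * x) * x = n * (x * n) * (x * x) := by group
        _ = n * (x * n * x) * x := by group
        _ = (x * n * x) * n * x := by rw [hcm n n.2 (x * n * x) (by simpa [hxi] using hNn.conj_mem _ n.2 x)]
        _ = x * (n * (x * n * x)) := by group
    have hker : ∀ n : N, f n = 1 → n = 1 ∨ (n : G) = y := by
      intro n hn
      apply htwo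
      have h1 : (n : G) * (x * n * x⁻¹) = 1 := congrArg Subtype.val hn
      have h2 : x * n * x⁻¹ = n := by
        rw [eq_inv_of_mul_eq_one_right h1]
        exact inv_eq_of_mul_eq_one_right (by rw [← sq]; exact hsq _ n.2)
      show (n : G) * x = x * n
      nth_rewrite 1 [← h2]
      group
    have hpair : Nat.card ({1, y} : Set G) ≤ 2 := by
      rw [Nat.card_coe_set_eq]
      exact (Set.ncard_insert_le _ _).trans (by simp)
    have c1 : Nat.card f.ker ≤ 2 := by
      refine le_trans (Nat.card_le_card_of_injective
        (fun n => (⟨((n : N) : G), ?_⟩ : ({1, y} : Set G))) ?_) hpair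
      · rcases hker n n.2 with h1 | h1
        · exact Or.inl (congrArg Subtype.val h1)
        · exact Or.inr h1
      · intro a b hab
        have := congrArg Subtype.val hab
        exact Subtype.ext (Subtype.ext this)
    have c2 : Nat.card f.range ≤ 2 := by
      refine le_trans (Nat.card_le_card_of_injective
        (fun n => (⟨((n : N) : G), ?_⟩ : ({1, y} : Set G))) ?_) hpair
      · obtain ⟨m, a, rfl⟩ := n
        rcases hrange a with h1 | h1
        · exact Or.inl (congrArg Subtype.val h1)
        · exact Or.inr h1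
      · intro a b hab
        have := congrArg Subtype.val hab
        exact Subtype.ext (Subtype.ext this)
    rw [← Subgroup.card_mul_index f.ker, Subgroup.index_ker]
    calc Nat.card f.ker * Nat.card f.range ≤ 2 * 2 := Nat.mul_le_mul c1 c2
      _ = 4 := rfl

end Cfsg.Agent.S3276
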