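import Cfsg.Statements.S3279
import Cfsg.Agent.Base.ZStar.Main
import Cfsg.Agent.Inv.Dihedral

set_option autoImplicit false
open Cfsg
open scoped Pointwise

namespace Cfsg.Agent.S3279

open CfsgLib.Inv

variable {G : Type*} [Group G] [Finite G] [IsSimpleGroup G]

theorem comm_all_of_normal_abelian {a : G} (ha : a ≠ 1)
    (h : ∀ g k : G, Commute (g * a * g⁻¹) (k * a * k⁻¹)) : ∀ g k : G, Commute g k := by
  haveI hc : IsMulCommutative (Subgroup.normalClosure ({a} : Set G)) := by
    rw [Subgroup.normalClosure]
    refine Subgroup.isMulCommutative_closure fun u hu v hv => ?_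
    obtain ⟨w, hw, hwu⟩ := Group.mem_conjugatesOfSet_iff.1 hu
    obtain ⟨w', hw', hwv⟩ := Group.mem_conjugatesOfSet_iff.1 hv
    rw [Set.mem_singleton_iff] at hw hw'
    subst hw hw'
    obtain ⟨g, rfl⟩ := isConj_iff.1 hwu
    obtain ⟨k, rfl⟩ := isConj_iff.1 hwv
    exact h g k
  rcases (Subgroup.normalClosure_normal (s := ({a} : Set G))).eq_bot_or_eq_top with e | e
  · exact absurd ((Subgroup.mem_bot).1 (e ▸ Subgroup.subset_normalClosure rfl)) ha
  · intro g k
    have hg : g ∈ Subgroup.normalClosure ({a} : Set G) := e ▸ Subgroup.mem_top g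
    have hk : k ∈ Subgroup.normalClosure ({a} : Set G) := e ▸ Subgroup.mem_top k
    exact congrArg Subtype.val (hc.is_comm.comm ⟨g, hg⟩ ⟨k, hk⟩)

/-- Conjugate a relation backwards. -/
theorem commute_back {g y x : G} (h : Commute y (g * x * g⁻¹)) : Commute (g⁻¹ * y * g) x := by
  have := h.map (MulAut.conj g⁻¹).toMonoidHom
  simpa [mul_assoc] using this

/-- If the only involutions centralizing `x` are `x`, `a`, `b`, with `a` not conjugate and `b`
conjugate to `x`, then the group is commutative. -/
theorem comm_of_triple {x a b : G} (hx : orderOf x = 2) (ha : orderOf a = 2) (hax : Commute a x)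
    (hnc : ¬ IsConj x a) (hb : IsConj x b)
    (hI : ∀ u : G, orderOf u = 2 → Commute u x → u = x ∨ u = a ∨ u = b) (hab : Commute a b) :
    ∀ g k : G, Commute g k := by
  obtain ⟨g, rfl⟩ := isConj_iff.1 hb
  -- a conjugate of `a` centralizing `x` is `a`
  have h1 : ∀ y, IsConj a y → Commute y x → y = a := by
    intro y hy hyx
    obtain ⟨k, rfl⟩ := isConj_iff.1 hy
    rcases hI _ (invol_conj ha k) hyx with e | e | e
    · exact absurd (isConj_iff.2 ⟨k⁻¹, by rw [← e]; group⟩) hnc
    · exact e
    · exact absurd (hb.trans (isConj_iff.2 ⟨k, e⟩).symm) hnc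
  -- likewise for `b`
  have h2 : ∀ y, IsConj a y → Commute y (g * x * g⁻¹) → y = a := by
    intro y hy hyb
    have key : ∀ w, IsConj a w → Commute w (g * x * g⁻¹) → g⁻¹ * w * g = a := fun w hw hwb =>
      h1 _ (hw.trans (isConj_iff.2 ⟨g⁻¹, by group⟩)) (commute_back hwb)
    calc y = g * (g⁻¹ * y * g) * g⁻¹ := by group
      _ = g * (g⁻¹ * a * g) * g⁻¹ := by rw [key y hy hyb, key a (IsConj.refl a) hab]
      _ = a := by group
  have h3 : ∀ y, IsConj a y → Commute y a := by
    intro y hy
    have hy2 : orderOf y = 2 := by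
      obtain ⟨k, rfl⟩ := isConj_iff.1 hy
      exact invol_conj ha k
    have hxy : ¬ IsConj x y := fun h => hnc (h.trans hy.symm)
    obtain ⟨hc2, hcx, hcy⟩ := even_center hx hy2
      ((Nat.even_or_odd _).resolve_right fun ho => hxy (isConj_of_odd hx hy2 ho))
    rcases hI _ hc2 hcx with e | e | e
    · rw [e] at hcy
      rw [h1 y hy hcy.symm]
    · rw [e] at hcy; exact hcy.symm
    · rw [e] at hcy
      rw [h2 y hy hcy.symm]
  refine comm_all_of_normal_abelian (invol_ne_one ha) fun u v => ?_
  have h := (h3 (v⁻¹ * (u * a * u⁻¹) * v) ((isConj_iff.2 ⟨u, rfl⟩).trans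
    (isConj_iff.2 ⟨v⁻¹, by group⟩))).map (MulAut.conj v).toMonoidHom
  simpa [mul_assoc] using h

/-- The involutions commuting with `x`, when there are at most three. -/
theorem triple {x a : G} (hx : orderOf x = 2)
    (h3 : Nat.card {u : ↥(Subgroup.centralizer ({x} : Set G)) // orderOf u = 2} ≤ 3)
    (ha : orderOf a = 2) (hax : Commute a x) (hne : a ≠ x) :
    orderOf (x * a) = 2 ∧ ∀ u : G, orderOf u = 2 → Commute u x → u = x ∨ u = a ∨ u = x * a := by
  classical
  have hxx := invol_mul_self hx
  have haa := invol_mul_self ha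
  have hb : orderOf (x * a) = 2 := by
    refine invol_iff.2 ⟨fun e => hne ?_, ?_⟩
    · calc a = (x * x) * a := by rw [hxx, one_mul]
        _ = x * (x * a) := mul_assoc _ _ _
        _ = x := by rw [e, mul_one]
    · calc x * a * (x * a) = x * (a * x) * a := by group
        _ = x * x * (a * a) := by rw [hax.eq]; group
        _ = 1 := by rw [hxx, haa, one_mul]
  refine ⟨hb, fun u hu hux => ?_⟩
  by_contra hne'
  push_neg at hne'
  set T := {u : ↥(Subgroup.centralizer ({x} : Set G)) // orderOf u = 2}
  haveI := Fintype.ofFinite T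
  let mkT : ∀ v : G, orderOf v = 2 → Commute v x → T := fun v hv hvx =>
    ⟨⟨v, Subgroup.mem_centralizer_singleton_iff.2 hvx⟩, by rwa [Subgroup.orderOf_mk]⟩
  let e : Fin 4 → T := ![mkT x hx (Commute.refl x), mkT a ha hax,
    mkT (x * a) hb ((Commute.refl x).mul_left hax), mkT u hu hux]
  have hnodup : [x, a, x * a, u].Nodup := by
    simp only [List.nodup_cons, List.mem_cons, List.not_mem_nil, or_false, not_or,
      List.nodup_nil, and_true, not_false_eq_true]
    refine ⟨⟨hne.symm, ?_, hne'.1.symm⟩, ⟨?_, hne'.2.1.symm⟩, hne'.2.2.symm⟩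
    · exact fun h => invol_ne_one ha (by simpa using h.symm)
    · exact fun h => invol_ne_one hx (by simpa using h.symm)
  have hinj : Function.Injective fun i => ((e i).1 : G) := by
    have h4 : (fun i => ((e i).1 : G)) = fun i : Fin 4 => [x, a, x * a, u][(i : ℕ)] := by
      funext i; fin_cases i <;> rfl
    rw [h4]
    intro i j hij
    exact Fin.ext ((hnodup.getElem_inj_iff).1 hij)
  have := Nat.card_le_card_of_injective e (fun i j h => hinj (congrArg (fun t : T => (t.1 : G)) h))
  simp only [Nat.card_eq_fintype_card, Fintype.card_fin] at this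
  rw [← Nat.card_eq_fintype_card] at this
  omega


/-- Let G be a finite simple group and x an involution of G whose centralizer contains at most three involutions. Then C_G(x) contains a Sylow 2-subgroup of G, and all involutions of G are conjugate. -/
theorem result {G : Type*} [Group G] [Finite G] [IsSimpleGroup G] (x : G) (hx : orderOf x = 2)
    (h3 : Nat.card {u : ↥(Subgroup.centralizer ({x} : Set G)) // orderOf u = 2} ≤ 3) :
    (∃ S : Sylow 2 G, (S : Subgroup G) ≤ Subgroup.centralizer ({x} : Set G)) ∧
      ∀ u v : G, orderOf u = 2 → orderOf v = 2 → IsConj u v := by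
  classical
  by_cases hab : ∀ g k : G, Commute g k
  · have htop : Subgroup.centralizer ({x} : Set G) = ⊤ :=
      eq_top_iff.2 fun g _ => Subgroup.mem_centralizer_singleton_iff.2 (hab g x)
    have hn : (Subgroup.zpowers x).Normal := ⟨fun n hn g => by
      rwa [(hab g n).eq, mul_inv_cancel_right]⟩
    have hxtop : Subgroup.zpowers x = ⊤ := hn.eq_bot_or_eq_top.resolve_left fun e =>
      invol_ne_one hx (Subgroup.zpowers_eq_bot.1 e)
    have huniq : ∀ u : G, orderOf u = 2 → u = x := fun u hu => by
      have hmem : u ∈ Subgroup.zpowers x := hxtop ▸ Subgroup.mem_top u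
      rw [mem_zpowers_iff_mem_range_orderOf, hx] at hmem
      simp only [Finset.mem_image, Finset.mem_range] at hmem
      obtain ⟨i, hi, rfl⟩ := hmem
      interval_cases i
      · simp at hu
      · exact pow_one x
    obtain ⟨S⟩ : Nonempty (Sylow 2 G) := inferInstance
    exact ⟨⟨S, htop ▸ le_top⟩, fun u v hu hv => by rw [huniq u hu, huniq v hv]⟩
  · have hxp : IsPGroup 2 (Subgroup.zpowers x) :=
      IsPGroup.of_card (n := 1) (by rw [Nat.card_zpowers, hx, pow_one])
    obtain ⟨S₀, hxS₀⟩ := hxp.exists_le_sylow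
    have hxS : x ∈ (S₀ : Subgroup G) := hxS₀ (Subgroup.mem_zpowers x)
    have hcent : ∃ S : Sylow 2 G, (S : Subgroup G) ≤ Subgroup.centralizer ({x} : Set G) := by
      by_contra hno
      push_neg at hno
      -- a central involution of the Sylow subgroup
      haveI : Nontrivial ↥(S₀ : Subgroup G) :=
        ⟨⟨⟨x, hxS⟩, 1, fun e => invol_ne_one hx (congrArg Subtype.val e)⟩⟩
      haveI := S₀.isPGroup'.center_nontrivial
      have hd : 2 ∣ Nat.card (Subgroup.center ↥(S₀ : Subgroup G)) := by
        obtain ⟨k, hk⟩ := (S₀.isPGroup'.to_subgroup (Subgroup.center ↥(S₀ : Subgroup G))).exists_card_eq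
        have h1 : 1 < Nat.card (Subgroup.center ↥(S₀ : Subgroup G)) := Finite.one_lt_card
        rw [hk] at h1 ⊢
        exact dvd_pow_self 2 (by rintro rfl; simp at h1)
      obtain ⟨z', hz'⟩ := exists_prime_orderOf_dvd_card' 2 hd
      set z : G := ((z' : ↥(S₀ : Subgroup G)) : G) with hzdef
      have hz : orderOf z = 2 := by rw [hzdef, Subgroup.orderOf_coe, Subgroup.orderOf_coe, hz']
      have hzS : ∀ s ∈ (S₀ : Subgroup G), Commute z s := fun s hs =>
        (congrArg Subtype.val (Subgroup.mem_center_iff.1 z'.2 ⟨s, hs⟩)).symm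
      have hnc : ¬ IsConj x z := by
        intro hc
        obtain ⟨g, hg⟩ := isConj_iff.1 hc
        refine hno (g⁻¹ • S₀) fun s hs => ?_
        have hs' : s ∈ MulAut.conj g⁻¹ • (S₀ : Subgroup G) := hs
        rw [Subgroup.mem_pointwise_smul_iff_inv_smul_mem] at hs'
        have hgs : g * s * g⁻¹ ∈ (S₀ : Subgroup G) := by
          simpa [MulAut.conj_symm_apply, mul_assoc] using hs'
        rw [Subgroup.mem_centralizer_singleton_iff]
        have h := hzS _ hgs
        rw [← hg] at h
        have h' := h.map (MulAut.conj g⁻¹).toMonoidHom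
        have h'' : Commute x s := by simpa [mul_assoc] using h'
        exact h''.eq.symm
      have hzx : Commute z x := hzS x hxS
      have hne : z ≠ x := fun e => hnc (by rw [e])
      obtain ⟨-, hI⟩ := triple hx h3 hz hzx hne
      set T := (S₀ : Subgroup G) ⊓ Subgroup.centralizer ({x} : Set G) with hT
      haveI : Group.IsNilpotent ↥(S₀ : Subgroup G) := S₀.isPGroup'.isNilpotent
      have hTlt : T.subgroupOf (S₀ : Subgroup G) < ⊤ := by
        rw [lt_top_iff_ne_top, Ne, Subgroup.subgroupOf_eq_top]
        exact fun h => hno S₀ (h.trans inf_le_right)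
      have hn := Group.normalizerCondition_of_isNilpotent (G := ↥(S₀ : Subgroup G)) _ hTlt
      obtain ⟨s, hs, hsT⟩ := SetLike.exists_of_lt hn
      have hxT : (⟨x, hxS⟩ : ↥(S₀ : Subgroup G)) ∈ T.subgroupOf (S₀ : Subgroup G) :=
        ⟨hxS, Subgroup.mem_centralizer_singleton_iff.2 rfl⟩
      have hsx : (s : G) * x * (s : G)⁻¹ ∈ T := by
        have := (Subgroup.mem_normalizer_iff.1 hs ⟨x, hxS⟩).1 hxT
        exact this
      have hb : IsConj x (x * z) := by
        rcases hI _ (invol_conj hx _) (Subgroup.mem_centralizer_singleton_iff.1 hsx.2) with e | e | e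
        · refine absurd ⟨s.2, Subgroup.mem_centralizer_singleton_iff.2 ?_⟩ hsT
          calc (s : G) * x = (s : G) * x * (s : G)⁻¹ * s := by group
            _ = x * s := by rw [e]
        · exact absurd (isConj_iff.2 ⟨_, e⟩) hnc
        · exact isConj_iff.2 ⟨_, e⟩
      exact hab (comm_of_triple hx hz hzx hnc hb hI (hzx.mul_right (Commute.refl z)))
    refine ⟨hcent, ?_⟩
    obtain ⟨S, hS⟩ := hcent
    suffices h : ∀ u : G, orderOf u = 2 → IsConj x u from fun u v hu hv => (h u hu).symm.trans (h v hv)
    intro u hu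
    by_contra hun
    have hup : IsPGroup 2 (Subgroup.zpowers u) :=
      IsPGroup.of_card (n := 1) (by rw [Nat.card_zpowers, hu, pow_one])
    obtain ⟨U, hU⟩ := hup.exists_le_sylow
    obtain ⟨g, hg⟩ := MulAction.exists_smul_eq G U S
    have huS : g * u * g⁻¹ ∈ (S : Subgroup G) := by
      rw [← hg]
      exact ⟨u, hU (Subgroup.mem_zpowers u), rfl⟩
    have hax : Commute (g * u * g⁻¹) x := Subgroup.mem_centralizer_singleton_iff.1 (hS huS)
    have hnc : ¬ IsConj x (g * u * g⁻¹) := fun h =>
      hun (h.trans (isConj_iff.2 ⟨g⁻¹, by group⟩))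
    obtain ⟨hb2, hI⟩ := triple hx h3 (invol_conj hu g) hax fun e => hnc (by rw [e])
    by_cases hb : IsConj x (x * (g * u * g⁻¹))
    · exact hab (comm_of_triple hx (invol_conj hu g) hax hnc hb hI
        (hax.mul_right (Commute.refl _)))
    · -- `x` is isolated
      have hxS' : x ∈ (S : Subgroup G) := by
        have hsup : IsPGroup 2 ↥((S : Subgroup G) ⊔ Subgroup.zpowers x) :=
          IsPGroup.to_sup_of_normal_right' S.isPGroup' hxp (by
            intro s hs
            rw [Subgroup.mem_normalizer_iff]
            intro h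
            have hc : Commute s x := Subgroup.mem_centralizer_singleton_iff.1 (hS hs)
            constructor
            · rintro ⟨i, rfl⟩
              exact ⟨i, by dsimp only; rw [(hc.zpow_right i).eq, mul_inv_cancel_right]⟩
            · rintro ⟨i, hi⟩
              refine ⟨i, ?_⟩
              have hi' : x ^ i = s * h * s⁻¹ := hi
              show x ^ i = h
              calc x ^ i = s⁻¹ * (x ^ i * s) := by rw [← (hc.zpow_right i).eq]; group
                _ = h := by rw [hi']; group)
        exact (S.3 hsup le_sup_left).le (SetLike.le_def.1 le_sup_right (Subgroup.mem_zpowers x))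
      obtain ⟨N, hN, hNodd, hNc⟩ := CfsgLib.Base.ZStar.zstar S x hx hxS' fun k hk => by
        rcases hI _ (invol_conj hx k) (Subgroup.mem_centralizer_singleton_iff.1 (hS hk)) with
          e | e | e
        · exact e
        · exact absurd (isConj_iff.2 ⟨k, e⟩) hnc
        · exact absurd (isConj_iff.2 ⟨k, e⟩) hb
      have hcx : ∀ k : G, Commute x k := by
        rcases hN.eq_bot_or_eq_top with e | e
        · intro k
          have h := hNc k
          rw [e, Subgroup.mem_bot] at h
          calc x * k = (x * k * x⁻¹ * k⁻¹) * (k * x) := by group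
            _ = k * x := by rw [h, one_mul]
        · rw [e, Subgroup.card_top] at hNodd
          exact absurd (hx ▸ orderOf_dvd_natCard x) (fun h => hNodd.not_two_dvd_nat h)
      exact hab (comm_all_of_normal_abelian (invol_ne_one hx) fun p q => by
        rw [(hcx p).eq.symm, (hcx q).eq.symm, mul_inv_cancel_right, mul_inv_cancel_right])

end Cfsg.Agent.S3279
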