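import Cfsg.Statements.S3294
import Cfsg.Agent.Base.Small.CyclicCore

set_option autoImplicit false
open Cfsg

namespace Cfsg.Agent.S3294

/-- A finite solvable group whose Sylow 2-subgroups are generalized quaternion of order at least 32 has a normal 2-complement. -/
theorem result {G : Type*} [Group G] [Finite G] (hsol : Group.IsSolvable G) (T : Sylow 2 G) (n : ℕ) (hn : 3 ≤ n) (hT : Nonempty ((T : Subgroup G) ≃* QuaternionGroup (2 ^ n))) : Cfsg.HasNormalPComplement 2 G := by
  haveI := hsol
  obtain ⟨e⟩ := hT
  exact CfsgLib.Base.Small.hnpc_of_quaternion_sylow T hn e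

end Cfsg.Agent.S3294
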