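import Cfsg.Statements.S3303
import Cfsg.Agent.Base.Small.CyclicMeet

set_option autoImplicit false
open Cfsg

namespace Cfsg.Agent.S3303

/-- Let G be a finite solvable group in which the intersection of any two distinct Sylow 2-subgroups is cyclic. Then G/O(G) has a normal Sylow 2-subgroup, where O(G) is the largest normal subgroup of odd order. -/
theorem result {G : Type*} [Group G] [Finite G] (hs : Group.IsSolvable G)
    (hC : ∀ S T : Sylow 2 G, S ≠ T → IsCyclic ↥((S : Subgroup G) ⊓ (T : Subgroup G))) :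
    ∃ P : Sylow 2 (G ⧸ Cfsg.oddCore G), (P : Subgroup (G ⧸ Cfsg.oddCore G)).Normal := by
  haveI := hs
  haveI : (Cfsg.oddCore G).Normal := CfsgLib.Fus.normal_pPrimeCore 2
  haveI : Fact (Nat.Prime 2) := ⟨Nat.prime_two⟩
  obtain ⟨P⟩ := (inferInstance : Nonempty (Sylow 2 (G ⧸ Cfsg.oddCore G)))
  exact ⟨P, CfsgLib.Base.Small.CyclicMeet.sylow_normal (CfsgLib.Base.Small.CyclicMeet.quotient hC _)
    CfsgLib.Solv.pPrimeCore_quotient_self P⟩

end Cfsg.Agent.S3303
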