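import Cfsg.Statements.S3309
import Cfsg.Agent.Solv.SmallTransfer
import Cfsg.Agent.Base.ZStar.Main
import Mathlib.GroupTheory.SpecificGroups.Dihedral
-- import your own Cfsg.Agent.* helpers here

set_option autoImplicit false
open Cfsg

namespace Cfsg.Agent.S3309

set_option synthInstance.maxSize 2000
set_option maxSynthPendingDepth 10

/-- the Sylow group -/
abbrev T2D : Type := Multiplicative (ZMod 2) × DihedralGroup 4

abbrev tA : T2D := (Multiplicative.ofAdd 1, DihedralGroup.r 0)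
abbrev tZ : T2D := (Multiplicative.ofAdd 0, DihedralGroup.r 2)
abbrev tAZ : T2D := (Multiplicative.ofAdd 1, DihedralGroup.r 2)
abbrev tS : T2D := (Multiplicative.ofAdd 0, DihedralGroup.sr 0)
abbrev tR : T2D := (Multiplicative.ofAdd 0, DihedralGroup.sr 1)
abbrev tAS : T2D := (Multiplicative.ofAdd 1, DihedralGroup.sr 0)
abbrev tAR : T2D := (Multiplicative.ofAdd 1, DihedralGroup.sr 1)

/-- the characters killing neither central involution outside the square -/
def chiFun (b c : ZMod 2) : T2D → ZMod 2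
  | (x, DihedralGroup.r i) => x.toAdd + c * (i.val : ZMod 2)
  | (x, DihedralGroup.sr i) => x.toAdd + b + c * (i.val : ZMod 2)

theorem chiFun_mul : ∀ (b c : ZMod 2) (x y : T2D), chiFun b c (x * y) = chiFun b c x + chiFun b c y := by
  decide +kernel

theorem t_center : ∀ y : T2D, tA * y = y * tA ∧ tZ * y = y * tZ ∧ tAZ * y = y * tAZ := by decide +kernel

theorem t_sq : ∀ y : T2D, y * y = 1 ∨ y * y = tZ := by decide +kernel

theorem t_invol : ∀ x : T2D, x * x = 1 → x ≠ 1 → x = tA ∨ x = tZ ∨ x = tAZ ∨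
    ∃ y : T2D, y * x * y⁻¹ = tS ∨ y * x * y⁻¹ = tR ∨ y * x * y⁻¹ = tAS ∨ y * x * y⁻¹ = tAR := by
  decide +kernel

theorem t_ker : ∀ (b c : ZMod 2) (x : T2D), x * x = 1 → x ≠ 1 → chiFun b c x = 0 →
    x = tZ ∨ ∃ y : T2D,
      (b = 0 ∧ y * x * y⁻¹ = tS) ∨ (b = 1 ∧ y * x * y⁻¹ = tAS) ∨
      (b + c = 0 ∧ y * x * y⁻¹ = tR) ∨ (b + c = 1 ∧ y * x * y⁻¹ = tAR) := by
  decide +kernel

theorem chiFun_one : ∀ b c : ZMod 2, chiFun b c 1 = 0 := by decide +kernel

theorem tZ_sq : tZ * tZ = 1 := by decide +kernel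
theorem tZ_ne : tZ ≠ 1 := by decide +kernel
theorem t_ne : tA ≠ tZ ∧ tAZ ≠ tZ ∧ tA ≠ tAZ ∧ tZ ≠ tA ∧ tZ ≠ tAZ ∧ tAZ ≠ tA := by decide +kernel
theorem t_r : tZ = (Multiplicative.ofAdd 0, DihedralGroup.r 1) * (Multiplicative.ofAdd 0, DihedralGroup.r 1) := by
  decide +kernel
theorem t_mul : tA * tZ = tAZ ∧ tAZ * tZ = tA := by decide +kernel
theorem t_chi : ∀ b c : ZMod 2, (tA * tA = 1 ∧ tA ≠ 1 ∧ chiFun b c tA = 1) ∧
    (tAZ * tAZ = 1 ∧ tAZ ≠ 1 ∧ chiFun b c tAZ = 1) := by decide +kernel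
theorem t_xor : ∀ v : ZMod 2, Xor (v + 1 = 0) (v = 0) := by
  unfold Xor; decide +kernel

/-- kernels as subgroups -/
def chiKer (b c : ZMod 2) : Subgroup T2D where
  carrier := {x | chiFun b c x = 0}
  one_mem' := by
    exact chiFun_one b c
  mul_mem' := fun {x y} (hx : chiFun b c x = 0) (hy : chiFun b c y = 0) => by
    show chiFun b c (x * y) = 0
    rw [chiFun_mul, hx, hy, add_zero]
  inv_mem' := fun {x} (hx : chiFun b c x = 0) => by
    show chiFun b c x⁻¹ = 0
    have h := chiFun_mul b c x x⁻¹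
    rw [mul_inv_cancel, hx, zero_add] at h
    rw [← h]
    exact chiFun_one b c

end Cfsg.Agent.S3309

namespace Cfsg.Agent.S3309

/-- A finite group whose Sylow 2-subgroups are isomorphic to the direct product of a group of order 2 and the dihedral group of order 8 is not a non-abelian simple group. -/
theorem result {G : Type*} [Group G] [Finite G] (S : Sylow 2 G) (hS : Nonempty (↥(S : Subgroup G) ≃* Multiplicative (ZMod 2) × DihedralGroup 4))
    [IsSimpleGroup G] (hG : ¬ IsMulCommutative G) : False := by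
  classical
  haveI : Fact (Nat.Prime 2) := ⟨Nat.prime_two⟩
  obtain ⟨e⟩ := hS
  set ι : T2D → G := fun x => ((e.symm x : (S : Subgroup G)) : G) with hι
  have ιmem : ∀ x, ι x ∈ (S : Subgroup G) := fun x => (e.symm x).2
  have ιmul : ∀ x y, ι (x * y) = ι x * ι y := fun x y => by simp [hι]
  have ιinj : Function.Injective ι := fun x y h => e.symm.injective (Subtype.ext h)
  have ιone : ι 1 = 1 := by simp [hι]
  have ιinv : ∀ x, ι x⁻¹ = (ι x)⁻¹ := fun x => by simp [hι]
  have ιsurj : ∀ g ∈ (S : Subgroup G), ∃ x, ι x = g := fun g hg => ⟨e ⟨g, hg⟩, by simp [hι]⟩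
  have ιord : ∀ x, x * x = 1 → x ≠ 1 → orderOf (ι x) = 2 := fun x hx hx1 =>
    orderOf_eq_prime (by rw [sq, ← ιmul, hx, ιone]) fun h => hx1 (ιinj (h.trans ιone.symm))
  have hnc : ¬ ∀ a b : G, a * b = b * a := fun h => hG ⟨⟨h⟩⟩
  have h2G : 2 ∣ Nat.card G := by
    have := orderOf_dvd_natCard (ι tZ)
    rwa [ιord tZ tZ_sq tZ_ne] at this
  let R : T2D → T2D → Prop := fun x y => IsConj (ι x) (ι y)
  have Rconj : ∀ x y : T2D, R x (y * x * y⁻¹) := fun x y =>
    isConj_iff.mpr ⟨ι y, by rw [ιmul, ιmul, ιinv]⟩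
  -- z is the unique square
  have hzfix : ∀ n : G, n ∈ Subgroup.normalizer ((S : Subgroup G) : Set G) →
      n * ι tZ * n⁻¹ = ι tZ := by
    intro n hn
    let r1 : T2D := (Multiplicative.ofAdd 0, DihedralGroup.r 1)
    obtain ⟨y, hy⟩ := ιsurj _ ((Subgroup.mem_normalizer_iff.mp hn _).mp (ιmem r1))
    have hzz : n * ι tZ * n⁻¹ = ι (y * y) := by
      rw [show tZ = r1 * r1 from t_r, ιmul, ιmul, hy]; group
    rcases t_sq y with h | h
    · rw [h, ιone, conj_eq_one_iff] at hzz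
      exact absurd (ιinj (hzz.trans ιone.symm)) tZ_ne
    · rw [hzz, h]
  have hcent : ∀ x ∈ [tA, tZ, tAZ], ∀ y ∈ (S : Subgroup G), ι x * y = y * ι x := by
    intro x hx y hy
    obtain ⟨w, rfl⟩ := ιsurj y hy
    obtain ⟨h1, h2, h3⟩ := t_center w
    simp at hx
    rcases hx with rfl | rfl | rfl <;> rw [← ιmul, ← ιmul] <;> congr 1
  -- the central involutions are pairwise not conjugate
  have burn : ∀ x ∈ [tA, tZ, tAZ], ∀ y ∈ [tA, tZ, tAZ], R x y → x = y := by
    intro x hx y hy hxy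
    obtain ⟨g, hg⟩ := isConj_iff.mp hxy
    obtain ⟨n, hn, hn'⟩ := Sylow.conj_eq_normalizer_conj_of_mem_centralizer S (ι x) g⁻¹
      (Subgroup.mem_centralizer_iff.mpr fun s hs => (hcent x hx s hs).symm) (by
        rw [inv_inv, hg]
        exact Subgroup.mem_centralizer_iff.mpr fun s hs => (hcent y hy s hs).symm)
    rw [inv_inv, hg] at hn'
    have hn0 : n⁻¹ ∈ Subgroup.normalizer ((S : Subgroup G) : Set G) := inv_mem hn
    have hnz : n⁻¹ * ι tZ * n = ι tZ := by simpa using hzfix n⁻¹ hn0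
    have hxz : x = tZ → y = tZ := fun h => ιinj (by rw [hn', h, hnz])
    have hyz : y = tZ → x = tZ := fun h => ιinj (by
      calc ι x = n * (n⁻¹ * ι x * n) * n⁻¹ := by group
        _ = ι tZ := by rw [← hn', h, hzfix n hn])
    simp at hx hy
    -- the remaining case: the two are exchanged by a 2-element of the normalizer
    by_contra hne
    set m := n⁻¹ with hm
    have hmx : m * ι x * m⁻¹ = ι y := by rw [hn', hm, inv_inv]
    have hxy' : x * tZ = y ∧ y * tZ = x := by
      rcases hx with rfl | rfl | rfl <;> rcases hy with rfl | rfl | rfl <;>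
        first | exact absurd rfl hne | exact absurd (hxz rfl) t_ne.1 |
          exact absurd (hxz rfl) t_ne.2.1 | exact absurd (hyz rfl) t_ne.1 |
          exact absurd (hyz rfl) t_ne.2.1 | exact t_mul | exact t_mul.symm
    have hmy : m * ι y * m⁻¹ = ι x := by
      rw [← hxy'.1, ιmul]
      calc m * (ι x * ι tZ) * m⁻¹ = (m * ι x * m⁻¹) * (m * ι tZ * m⁻¹) := by group
        _ = ι x := by rw [hmx, hzfix m hn0, ← ιmul, hxy'.2]
    have hpow : ∀ j : ℕ, m ^ (2 * j + 1) * ι x * (m ^ (2 * j + 1))⁻¹ = ι y := by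
      intro j
      induction j with
      | zero => simpa using hmx
      | succ j ih =>
        calc m ^ (2 * (j + 1) + 1) * ι x * (m ^ (2 * (j + 1) + 1))⁻¹
            = m * (m * (m ^ (2 * j + 1) * ι x * (m ^ (2 * j + 1))⁻¹) * m⁻¹) * m⁻¹ := by
              rw [show 2 * (j + 1) + 1 = (2 * j + 1) + 1 + 1 by ring, pow_succ', pow_succ']
              group
          _ = ι y := by rw [ih, hmy, hmx]
    obtain ⟨k, q, hq, hkq⟩ := Nat.exists_eq_pow_mul_and_not_dvd (n := orderOf m)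
      (orderOf_pos m).ne' 2 (by norm_num)
    have hqS : m ^ q ∈ (S : Subgroup G) := by
      have hp : IsPGroup 2 (Subgroup.zpowers (m ^ q)) := by
        have hdvd : orderOf (m ^ q) ∣ 2 ^ k :=
          orderOf_dvd_of_pow_eq_one (by rw [← pow_mul, mul_comm, ← hkq, pow_orderOf_eq_one])
        obtain ⟨j, -, hj⟩ := (Nat.dvd_prime_pow Nat.prime_two).mp hdvd
        exact IsPGroup.of_card (n := j) (by rw [Nat.card_zpowers, hj])
      have hsup := IsPGroup.to_sup_of_normal_right' hp S.isPGroup'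
        (Subgroup.zpowers_le.mpr (pow_mem hn0 q))
      rw [← S.is_maximal' hsup le_sup_right]
      exact Subgroup.mem_sup_left (Subgroup.mem_zpowers _)
    obtain ⟨j, hj⟩ : Odd q := by rw [Nat.odd_iff]; omega
    have h1 := hpow j
    rw [← hj, ← hcent x (by simp [hx]) _ hqS, mul_inv_cancel_right] at h1
    exact hne (ιinj h1)
  -- transfer
  have htrans : ∀ x ∈ [tA, tAZ], ∀ b c : ZMod 2, ∃ u : T2D, u * u = 1 ∧ u ≠ 1 ∧
      chiFun b c u = 0 ∧ R x u := by
    intro x hx b c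
    have hx2 : x * x = 1 ∧ x ≠ 1 ∧ chiFun b c x = 1 := by
      simp at hx; rcases hx with rfl | rfl; exacts [(t_chi b c).1, (t_chi b c).2]
    set Q := ((chiKer b c).map e.symm.toMonoidHom).map (S : Subgroup G).subtype with hQ
    have hQS : Q ≤ (S : Subgroup G) := Subgroup.map_subtype_le _
    have hidx : (chiKer b c).index = 2 := by
      rw [Subgroup.index_eq_two_iff]
      refine ⟨x, fun y => ?_⟩
      show Xor (chiFun b c (y * x) = 0) (chiFun b c y = 0)
      rw [chiFun_mul, hx2.2.2]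
      exact t_xor _
    have hQi : Q.relIndex (S : Subgroup G) = 2 := by
      rw [Subgroup.relIndex, hQ, Subgroup.subgroupOf,
        Subgroup.comap_map_eq_self_of_injective (Subgroup.subtype_injective _)]
      exact (Subgroup.index_map_equiv (chiKer b c) e.symm).trans hidx
    rcases CfsgLib.Solv.thompson_transfer S hQS hQi (ιord x hx2.1 hx2.2.1) with
      ⟨M, hMn, hMi, hMx⟩ | ⟨g, hg⟩
    · rcases hMn.eq_bot_or_eq_top with h | h
      · subst h
        rw [Subgroup.index_bot] at hMi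
        exfalso; apply hnc
        haveI : IsCyclic G := isCyclic_of_prime_card (p := 2) hMi
        exact fun a b => (IsCyclic.commGroup (α := G)).mul_comm a b
      · subst h; simp at hMi
    · rw [hQ, Subgroup.mem_map] at hg
      obtain ⟨w, hw, hwg⟩ := hg
      rw [Subgroup.mem_map] at hw
      obtain ⟨u, hu, rfl⟩ := hw
      have hconj : R x u := isConj_iff.mpr ⟨g, hwg.symm⟩
      refine ⟨u, ιinj ?_, fun h => hx2.2.1 ?_, hu, hconj⟩
      · rw [ιmul, ιone]
        show ι u * ι u = 1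
        have : ι u = g * ι x * g⁻¹ := hwg
        rw [this, show g * ι x * g⁻¹ * (g * ι x * g⁻¹) = g * (ι x * ι x) * g⁻¹ by group, ← ιmul,
          hx2.1, ιone]
        simp
      · have : ι u = g * ι x * g⁻¹ := hwg
        rw [h, ιone, eq_comm, conj_eq_one_iff] at this
        exact ιinj (this.trans ιone.symm)
  have hA : ∀ x ∈ [tA, tAZ], (R x tS ∧ R x tAS) ∨ (R x tR ∧ R x tAR) := by
    intro x hx
    have key : ∀ b c : ZMod 2, (b = 0 ∧ R x tS) ∨ (b = 1 ∧ R x tAS) ∨ (b + c = 0 ∧ R x tR) ∨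
        (b + c = 1 ∧ R x tAR) := by
      intro b c
      obtain ⟨u, hu, hu1, huk, hR⟩ := htrans x hx b c
      rcases t_ker b c u hu hu1 huk with rfl | ⟨y, hy⟩
      · exfalso
        have := burn x (by simp at hx ⊢; rcases hx with h | h <;> simp [h]) tZ (by simp) hR
        simp only [List.mem_cons, List.not_mem_nil, or_false] at hx
        rcases hx with rfl | rfl
        · exact t_ne.1 this
        · exact t_ne.2.1 this
      · rcases hy with ⟨h, e'⟩ | ⟨h, e'⟩ | ⟨h, e'⟩ | ⟨h, e'⟩ <;>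
          have h2 := hR.trans (Rconj u y) <;> rw [e'] at h2
        · exact Or.inl ⟨h, h2⟩
        · exact Or.inr (Or.inl ⟨h, h2⟩)
        · exact Or.inr (Or.inr (Or.inl ⟨h, h2⟩))
        · exact Or.inr (Or.inr (Or.inr ⟨h, h2⟩))
    have k00 := key 0 0
    have k01 := key 0 1
    have k10 := key 1 0
    have k11 := key 1 1
    simp [show (1 : ZMod 2) + 1 = 0 from rfl] at k00 k01 k10 k11
    tauto
  have hdisj : ∀ u, R tA u → ¬ R tAZ u := fun u h1 h2 =>
    absurd (burn tA (by simp) tAZ (by simp) (h1.trans h2.symm)) t_ne.2.2.1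
  have hz : ∀ u : T2D, u * u = 1 → u ≠ 1 → R tZ u → u = tZ := by
    intro u hu hu1 hR
    have nA : ¬ R tZ tA := fun h => absurd (burn tZ (by simp) tA (by simp) h) t_ne.2.2.2.1
    have nB : ¬ R tZ tAZ := fun h => absurd (burn tZ (by simp) tAZ (by simp) h) t_ne.2.2.2.2.1
    rcases t_invol u hu hu1 with rfl | rfl | rfl | ⟨y, hy⟩
    · exact absurd hR nA
    · rfl
    · exact absurd hR nB
    · exfalso
      have h4 : (R tA tS ∧ R tA tAS ∧ R tAZ tR ∧ R tAZ tAR) ∨
          (R tA tR ∧ R tA tAR ∧ R tAZ tS ∧ R tAZ tAS) := by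
        rcases hA tA (by simp) with ⟨a1, a2⟩ | ⟨a1, a2⟩ <;>
          rcases hA tAZ (by simp) with ⟨b1, b2⟩ | ⟨b1, b2⟩
        · exact absurd b1 (hdisj _ a1)
        · exact Or.inl ⟨a1, a2, b1, b2⟩
        · exact Or.inr ⟨a1, a2, b1, b2⟩
        · exact absurd b1 (hdisj _ a1)
      have h5 : R tZ (y * u * y⁻¹) := hR.trans (Rconj u y)
      rcases h4 with ⟨c1, c2, c3, c4⟩ | ⟨c1, c2, c3, c4⟩ <;>
        rcases hy with h | h | h | h <;> rw [h] at h5 <;>
        first | exact nA (h5.trans c1.symm) | exact nA (h5.trans c2.symm) |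
          exact nB (h5.trans c3.symm) | exact nB (h5.trans c4.symm)
  have hzo := ιord tZ tZ_sq tZ_ne
  obtain ⟨N, hNn, hNodd, hN⟩ := CfsgLib.Base.ZStar.zstar S (ι tZ) hzo (ιmem tZ) (fun g hg => by
    obtain ⟨u, hu⟩ := ιsurj _ hg
    have hR : R tZ u := isConj_iff.mpr ⟨g, hu.symm⟩
    have hu2 : u * u = 1 := ιinj (by
      rw [ιmul, hu, ιone, show g * ι tZ * g⁻¹ * (g * ι tZ * g⁻¹) = g * (ι tZ * ι tZ) * g⁻¹ by group,
        ← ιmul, tZ_sq, ιone]
      simp)
    have hu1 : u ≠ 1 := fun h => by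
      rw [h, ιone, eq_comm, conj_eq_one_iff] at hu
      exact absurd (ιinj (hu.trans ιone.symm)) tZ_ne
    rw [← hu, hz u hu2 hu1 hR])
  rcases hNn.eq_bot_or_eq_top with h | h
  · have hc : ι tZ ∈ Subgroup.center G := Subgroup.mem_center_iff.mpr fun g => by
      have := hN g
      rw [h, Subgroup.mem_bot, mul_inv_eq_one, mul_inv_eq_iff_eq_mul] at this
      exact this.symm
    rcases (inferInstance : (Subgroup.center G).Normal).eq_bot_or_eq_top with h' | h'
    · rw [h', Subgroup.mem_bot] at hc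
      simp [hc] at hzo
    · exact hnc fun a b => Subgroup.mem_center_iff.mp (h' ▸ Subgroup.mem_top b) a
  · rw [h, Subgroup.card_top] at hNodd
    exact Nat.not_even_iff_odd.mpr hNodd (even_iff_two_dvd.mpr h2G)

end Cfsg.Agent.S3309
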