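import Cfsg.Statements.S3335
import Mathlib.GroupTheory.PresentedGroup
import Mathlib.GroupTheory.SemidirectProduct
import Mathlib.GroupTheory.Perm.Sign
import Mathlib.GroupTheory.SpecificGroups.Alternating
import Mathlib.Data.ZMod.Basic
import Mathlib.Data.Fintype.Perm
import Mathlib.Tactic.Ring
import Mathlib.Tactic.Group
-- import your own Cfsg.Agent.* helpers here

set_option autoImplicit false
open Cfsg

namespace Cfsg.Agent.S3335

open Equiv

theorem comm_of {G : Type*} [Group G] {x y : G} (hx : x * x = 1) (hy : y * y = 1) (h : (x * y) ^ 2 = 1) : x * y = y * x := by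
  rw [pow_two, mul_eq_one_iff_eq_inv, mul_inv_rev] at h
  rwa [inv_eq_of_mul_eq_one_left hx, inv_eq_of_mul_eq_one_left hy] at h

/-- cosets representatives: `desc t m k = t m * t (m-1) * ... ` with `k` factors -/
def desc {G : Type*} [Group G] (t : ℕ → G) (m : ℕ) : ℕ → G
  | 0 => 1
  | k + 1 => desc t m k * t (m - k)

theorem coxeter_bound {G : Type*} [Group G] (t : ℕ → G) :
    ∀ m : ℕ, (∀ i, i < m → t i * t i = 1) →
      (∀ i, i + 1 < m → t (i + 1) * t i * t (i + 1) = t i * t (i + 1) * t i) →
      (∀ i j, i + 1 < j → j < m → t i * t j = t j * t i) →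
      ((Subgroup.closure (t '' Set.Iio m) : Subgroup G) : Set G).Finite ∧
        Nat.card (Subgroup.closure (t '' Set.Iio m)) ≤ (m + 1).factorial := by
  intro m
  induction m with
  | zero =>
    intro _ _ _
    have : Subgroup.closure (t '' Set.Iio 0) = ⊥ := by simp [Set.Iio, Subgroup.closure_eq_bot_iff]
    rw [this]
    simp
  | succ m ih =>
    intro h2 h3 hc
    obtain ⟨hfin, hcard⟩ := ih (fun i hi => h2 i (by omega)) (fun i hi => h3 i (by omega)) (fun i j h h' => hc i j h (by omega))
    set H := Subgroup.closure (t '' Set.Iio m) with hH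
    set d := desc t m with hd
    have far : ∀ k i, i + k < m → k ≤ m + 1 → t i * d k = d k * t i := by
      intro k
      induction k with
      | zero => intro i _ _; simp [d, desc]
      | succ k ihk =>
        intro i hi hk
        show t i * (d k * t (m - k)) = d k * t (m - k) * t i
        rw [← mul_assoc, ihk i (by omega) (by omega), mul_assoc, mul_assoc, hc i (m - k) (by omega) (by omega)]
    have near : ∀ k l, l + 2 ≤ k → k ≤ m + 1 → d k * t (m - l) = t (m - l - 1) * d k := by
      intro k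
      induction k with
      | zero => intro l h _; omega
      | succ k ihk =>
        intro l hl hk
        rcases Nat.lt_or_eq_of_le hl with h | h
        · show d k * t (m - k) * t (m - l) = t (m - l - 1) * (d k * t (m - k))
          rw [mul_assoc, hc (m - k) (m - l) (by omega) (by omega), ← mul_assoc, ihk l (by omega) (by omega), mul_assoc]
        · obtain rfl : k = l + 1 := by omega
          show d l * t (m - l) * t (m - (l + 1)) * t (m - l) = t (m - l - 1) * (d l * t (m - l) * t (m - (l + 1)))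
          rw [show m - (l + 1) = m - l - 1 by omega]
          have hb := h3 (m - l - 1) (by omega)
          rw [show m - l - 1 + 1 = m - l by omega] at hb
          rw [← mul_assoc (t (m - l - 1)), ← mul_assoc (t (m - l - 1)), far l (m - l - 1) (by omega) (by omega)]
          simp only [mul_assoc] at hb ⊢
          rw [hb]
    let U : Set G := (fun x : G × ℕ => x.1 * d x.2) '' ((H : Set G) ×ˢ Set.Iio (m + 2))
    have hUfin : U.Finite := (hfin.prod (Set.finite_Iio _)).image _
    have step : ∀ x ∈ U, ∀ i < m + 1, x * t i ∈ U := by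
      rintro _ ⟨⟨h, k⟩, ⟨hh, hk⟩, rfl⟩ i hi
      rw [Set.mem_Iio] at hk
      simp only
      obtain ⟨l, hl, rfl⟩ : ∃ l, l ≤ m ∧ i = m - l := ⟨m - i, by omega, by omega⟩
      rcases lt_trichotomy l k with hlk | rfl | hlk
      · rcases Nat.lt_or_eq_of_le (show l + 1 ≤ k from hlk) with h' | h'
        · refine ⟨(h * t (m - l - 1), k), ⟨H.mul_mem hh (Subgroup.subset_closure ⟨m - l - 1, by simp; omega, rfl⟩), hk⟩, ?_⟩
          simp only
          rw [mul_assoc, mul_assoc, near k l h' (by omega)]
        · subst h'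
          refine ⟨(h, l), ⟨hh, by simp; omega⟩, ?_⟩
          simp only
          show h * d l = h * (d l * t (m - l)) * t (m - l)
          rw [mul_assoc, mul_assoc (d l), h2 (m - l) (by omega), mul_one]
      · refine ⟨(h, l + 1), ⟨hh, by simp; omega⟩, ?_⟩
        simp only
        show h * (d l * t (m - l)) = _
        rw [mul_assoc]
      · refine ⟨(h * t (m - l), k), ⟨H.mul_mem hh (Subgroup.subset_closure ⟨m - l, by simp; omega, rfl⟩), hk⟩, ?_⟩
        simp only
        rw [mul_assoc, far k (m - l) (by omega) (by omega), ← mul_assoc]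
    have hsub : ((Subgroup.closure (t '' Set.Iio (m + 1)) : Subgroup G) : Set G) ⊆ U := by
      intro x hx
      induction hx using Subgroup.closure_induction_right with
      | one => exact ⟨(1, 0), ⟨H.one_mem, by simp⟩, by simp [d, desc]⟩
      | mul_right x _ y hy ih =>
        obtain ⟨i, hi, rfl⟩ := hy
        exact step x ih i hi
      | mul_inv_cancel x _ y hy ih =>
        obtain ⟨i, hi, rfl⟩ := hy
        rw [inv_eq_of_mul_eq_one_left (h2 i hi)]
        exact step x ih i hi
    refine ⟨hUfin.subset hsub, ?_⟩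
    calc Nat.card (Subgroup.closure (t '' Set.Iio (m + 1))) ≤ Nat.card U := Nat.card_mono hUfin hsub
      _ ≤ Nat.card ((H : Set G) ×ˢ Set.Iio (m + 2) : Set (G × ℕ)) := Nat.card_image_le (hfin.prod (Set.finite_Iio _))
      _ = Nat.card H * (m + 2) := by
        rw [Nat.card_congr (Equiv.Set.prod _ _), Nat.card_prod, show Nat.card (Set.Iio (m + 2)) = m + 2 by simp]
        rfl
      _ ≤ (m + 1).factorial * (m + 2) := Nat.mul_le_mul_right _ hcard
      _ = (m + 1 + 1).factorial := by rw [Nat.factorial_succ (m + 1)]; ring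

/-- Moore's relations -/
def rels (k : ℕ) : Set (FreeGroup (Fin k)) :=
  {g : FreeGroup (Fin k) | ∃ i : Fin k, i.val = 0 ∧ g = FreeGroup.of i ^ 3} ∪
    {g | ∃ i : Fin k, 1 ≤ i.val ∧ g = FreeGroup.of i ^ 2} ∪
    {g | ∃ i j : Fin k, j.val = i.val + 1 ∧ g = (FreeGroup.of i * FreeGroup.of j) ^ 3} ∪
    {g | ∃ i j : Fin k, i.val + 1 < j.val ∧ g = (FreeGroup.of i * FreeGroup.of j) ^ 2}

/-- `f` satisfies Moore's relations. -/
def Moore {G : Type*} [Group G] (k : ℕ) (f : Fin k → G) : Prop :=
  (∀ i, i.val = 0 → f i ^ 3 = 1) ∧ (∀ i, 1 ≤ i.val → f i ^ 2 = 1) ∧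
    (∀ i j, j.val = i.val + 1 → (f i * f j) ^ 3 = 1) ∧ ∀ i j, i.val + 1 < j.val → (f i * f j) ^ 2 = 1

theorem moore_lift {G : Type*} [Group G] {k : ℕ} {f : Fin k → G} (h : Moore k f) :
    ∀ r ∈ rels k, FreeGroup.lift f r = 1 := by
  rintro r (((⟨i, hi, rfl⟩ | ⟨i, hi, rfl⟩) | ⟨i, j, hi, rfl⟩) | ⟨i, j, hi, rfl⟩)
  · simpa using h.1 i hi
  · simpa using h.2.1 i hi
  · simpa using h.2.2.1 i j hi
  · simpa using h.2.2.2 i j hi

theorem moore_of (k : ℕ) : Moore k (PresentedGroup.of : Fin k → PresentedGroup (rels k)) := by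
  have e : ∀ w ∈ rels k, PresentedGroup.mk (rels k) w = 1 := fun w hw =>
    (QuotientGroup.eq_one_iff _).2 (Subgroup.subset_normalClosure hw)
  refine ⟨fun i hi => ?_, fun i hi => ?_, fun i j hi => ?_, fun i j hi => ?_⟩
  · exact (map_pow (PresentedGroup.mk (rels k)) _ _).symm.trans (e _ (.inl (.inl (.inl ⟨i, hi, rfl⟩))))
  · exact (map_pow (PresentedGroup.mk (rels k)) _ _).symm.trans (e _ (.inl (.inl (.inr ⟨i, hi, rfl⟩))))
  · have := e _ (.inl (.inr ⟨i, j, hi, rfl⟩))
    rw [map_pow, map_mul] at this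
    exact this
  · have := e _ (.inr ⟨i, j, hi, rfl⟩)
    rw [map_pow, map_mul] at this
    exact this

/-- twisting the first generator by inversion preserves the relations -/
theorem Moore.twist {G : Type*} [Group G] {k : ℕ} {f : Fin k → G} (h : Moore k f) :
    Moore k fun i => if i.val = 0 then (f i)⁻¹ else f i := by
  refine ⟨fun i hi => ?_, fun i hi => ?_, fun i j hij => ?_, fun i j hij => ?_⟩
  · simp only [hi, if_true]
    rw [inv_pow, h.1 i hi, inv_one]
  · simp only [show ¬ i.val = 0 by omega, if_false]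
    exact h.2.1 i hi
  all_goals
    simp only [show ¬ j.val = 0 by omega, if_false]
    split_ifs with hi
    · have hj : f j ^ 2 = 1 := h.2.1 j (by omega)
      have e : ((f i)⁻¹ * f j)⁻¹ = f j * (f i * f j) * (f j)⁻¹ := by
        rw [pow_two] at hj
        rw [mul_inv_rev, inv_inv, inv_eq_of_mul_eq_one_left hj, mul_assoc (f j) (f i * f j), mul_assoc (f i), hj, mul_one]
      rw [← inv_inj, ← inv_pow, e, conj_pow, inv_one]
      first
      | rw [h.2.2.1 i j hij, mul_one, mul_inv_cancel]
      | rw [h.2.2.2 i j hij, mul_one, mul_inv_cancel]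
    · first
      | exact h.2.2.1 i j hij
      | exact h.2.2.2 i j hij

/-- adjacent transposition -/
def adj (k j : ℕ) : Perm (Fin (k + 2)) :=
  if h : j + 1 < k + 2 then swap ⟨j, by omega⟩ ⟨j + 1, h⟩ else 1

theorem adj_sq (k j : ℕ) : adj k j * adj k j = 1 := by
  unfold adj; split_ifs <;> simp

theorem adj_comm {k i j : ℕ} (h : i + 1 < j) : adj k i * adj k j = adj k j * adj k i := by
  unfold adj
  split_ifs with h1 h2 <;> try simp
  rw [Equiv.mul_swap_eq_swap_mul, swap_apply_of_ne_of_ne, swap_apply_of_ne_of_ne] <;> simp [Fin.ext_iff] <;> omega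

theorem adj_braid {k i : ℕ} (h : i + 2 < k + 2) : (adj k i * adj k (i + 1)) ^ 3 = 1 := by
  rw [adj, dif_pos (by omega : i + 1 < k + 2), adj, dif_pos h, swap_comm (⟨i, by omega⟩ : Fin (k + 2))]
  have h3 : (swap (⟨i + 1, by omega⟩ : Fin (k + 2)) ⟨i, by omega⟩ * swap (⟨i + 1, by omega⟩ : Fin (k + 2)) ⟨i + 1 + 1, h⟩).IsThreeCycle :=
    Equiv.Perm.isThreeCycle_swap_mul_swap_same
      (show (⟨i + 1, by omega⟩ : Fin (k + 2)) ≠ ⟨i, by omega⟩ by simp [Fin.ext_iff])
      (show (⟨i + 1, by omega⟩ : Fin (k + 2)) ≠ ⟨i + 1 + 1, h⟩ by simp [Fin.ext_iff])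
      (show (⟨i, by omega⟩ : Fin (k + 2)) ≠ ⟨i + 1 + 1, h⟩ by simp [Fin.ext_iff]; omega)
  exact h3.orderOf ▸ pow_orderOf_eq_one _

theorem moore_perm (k : ℕ) : Moore k fun i : Fin k => adj k 0 * adj k (i.val + 1) := by
  have c : ∀ j, 2 ≤ j → adj k 0 * adj k j = adj k j * adj k 0 := fun j hj => adj_comm (by omega)
  have sq : ∀ j, adj k j * adj k j = 1 := adj_sq k
  refine ⟨fun i hi => ?_, fun i hi => ?_, fun i j hij => ?_, fun i j hij => ?_⟩
  · simp only [hi]; exact adj_braid (by omega)
  · have c1 := c (i.val + 1) (by omega)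
    rw [(show Commute (adj k 0) (adj k (i.val + 1)) from c1).mul_pow, pow_two, pow_two, sq, sq, one_mul]
  all_goals
    have cj' := c (j.val + 1) (by omega)
    have e : adj k 0 * adj k (i.val + 1) * (adj k 0 * adj k (j.val + 1)) =
        adj k 0 * (adj k (i.val + 1) * adj k (j.val + 1)) * (adj k 0)⁻¹ := by
      rw [inv_eq_of_mul_eq_one_left (sq 0), cj']; simp only [mul_assoc]
    rw [e, conj_pow]
  · rw [hij, adj_braid (by omega), mul_one, mul_inv_cancel]
  · rw [(show Commute (adj k (i.val + 1)) (adj k (j.val + 1)) from adj_comm (by omega)).mul_pow, pow_two, pow_two, sq, sq,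
      one_mul, mul_one, mul_inv_cancel]

theorem main (k : ℕ) : Nonempty (PresentedGroup (rels k) ≃* alternatingGroup (Fin (k + 2))) := by
  classical
  let A : Fin k → PresentedGroup (rels k) := PresentedGroup.of
  have hA : Moore k A := moore_of k
  -- the twist as an automorphism
  let τ0 : PresentedGroup (rels k) →* PresentedGroup (rels k) := PresentedGroup.toGroup (moore_lift hA.twist)
  have τ_of : ∀ i, τ0 (A i) = if i.val = 0 then (A i)⁻¹ else A i := fun i => PresentedGroup.toGroup.of _
  have hinv : τ0.comp τ0 = MonoidHom.id _ := by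
    refine PresentedGroup.ext fun i => ?_
    rw [MonoidHom.comp_apply, τ_of, MonoidHom.id_apply]
    split_ifs with h
    · rw [map_inv, τ_of, if_pos h, inv_inv]
    · rw [τ_of, if_neg h]
  let τ : MulAut (PresentedGroup (rels k)) := τ0.toMulEquiv τ0 hinv hinv
  have hτ2 : τ * τ = 1 := MulEquiv.ext fun x => DFunLike.congr_fun hinv x
  let C := Multiplicative (ZMod 2)
  have h01 : ∀ x : C, x = 1 ∨ x = Multiplicative.ofAdd 1 := by decide
  have hne : (Multiplicative.ofAdd 1 : C) ≠ 1 := by decide
  have hsq : (Multiplicative.ofAdd 1 : C) * Multiplicative.ofAdd 1 = 1 := by decide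
  have mkC : ∀ {G : Type} [Group G] (c : G), c * c = 1 → ∀ x y : C,
      (if x * y = 1 then 1 else c) = (if x = 1 then 1 else c) * (if y = 1 then 1 else c) := by
    intro G _ c hc x y
    rcases h01 x with rfl | rfl <;> rcases h01 y with rfl | rfl <;> simp [hne, hsq, hc]
  let φ : C →* MulAut (PresentedGroup (rels k)) := MonoidHom.mk' (fun x => if x = 1 then 1 else τ) (mkC τ hτ2)
  let fp : PresentedGroup (rels k) →* Perm (Fin (k + 2)) := PresentedGroup.toGroup (moore_lift (moore_perm k))
  let gp : C →* Perm (Fin (k + 2)) := MonoidHom.mk' (fun x => if x = 1 then 1 else adj k 0) (mkC _ (adj_sq k 0))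
  have hfp : ∀ i, fp (A i) = adj k 0 * adj k (i.val + 1) := fun i => PresentedGroup.toGroup.of _
  have hcompat : ∀ x, fp.comp (φ x).toMonoidHom = (MulAut.conj (gp x)).toMonoidHom.comp fp := by
    intro x
    refine PresentedGroup.ext fun i => ?_
    rcases h01 x with rfl | rfl
    · simp
    · show fp (φ (Multiplicative.ofAdd 1) (A i)) = gp (Multiplicative.ofAdd 1) * fp (A i) * (gp (Multiplicative.ofAdd 1))⁻¹
      simp only [φ, gp, MonoidHom.mk'_apply, if_neg hne]
      show fp (τ0 (A i)) = _
      rw [τ_of, inv_eq_of_mul_eq_one_left (adj_sq k 0)]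
      split_ifs with h
      · rw [map_inv, hfp, mul_inv_rev, inv_eq_of_mul_eq_one_left (adj_sq k 0), inv_eq_of_mul_eq_one_left (adj_sq k _)]
        simp only [← mul_assoc, adj_sq, one_mul]
      · rw [hfp, mul_assoc (adj k 0) (adj k 0 * adj k (i.val + 1)), mul_assoc (adj k 0) (adj k (i.val + 1)),
          ← adj_comm (k := k) (i := 0) (j := i.val + 1) (by omega), ← mul_assoc (adj k 0) (adj k 0), adj_sq, one_mul]
  let W := PresentedGroup (rels k) ⋊[φ] C
  let Ψ : W →* Perm (Fin (k + 2)) := SemidirectProduct.lift fp gp hcompat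
  have Ψl : ∀ x, Ψ (SemidirectProduct.inl x) = fp x := fun x => SemidirectProduct.lift_inl _ _ _ x
  have Ψr : ∀ x, Ψ (SemidirectProduct.inr x) = gp x := fun x => SemidirectProduct.lift_inr _ _ _ x
  let u : W := SemidirectProduct.inr (Multiplicative.ofAdd 1)
  let a : Fin k → W := fun i => SemidirectProduct.inl (A i)
  have huu : u * u = 1 := by rw [← map_mul, hsq, map_one]
  have hconj : ∀ i, u * a i * u = if i.val = 0 then (a i)⁻¹ else a i := by
    intro i
    have e := SemidirectProduct.inl_aut (φ := φ) (Multiplicative.ofAdd 1) (A i)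
    rw [map_inv, inv_eq_of_mul_eq_one_left huu] at e
    show u * SemidirectProduct.inl (A i) * u = _
    rw [← e]
    simp only [φ, MonoidHom.mk'_apply, if_neg hne]
    show SemidirectProduct.inl (τ0 (A i)) = _
    rw [τ_of]; split_ifs <;> simp [a]
  have haM : Moore k a := ⟨fun i h => by rw [← map_pow, hA.1 i h, map_one], fun i h => by rw [← map_pow, hA.2.1 i h, map_one],
    fun i j h => by rw [← map_mul, ← map_pow, hA.2.2.1 i j h, map_one],
    fun i j h => by rw [← map_mul, ← map_pow, hA.2.2.2 i j h, map_one]⟩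
  let t : ℕ → W := fun j => if h : 1 ≤ j ∧ j - 1 < k then u * a ⟨j - 1, h.2⟩ else u
  have t0 : t 0 = u := by simp [t]
  have tsucc : ∀ i : Fin k, t (i.val + 1) = u * a i := by
    intro i
    simp only [t]
    rw [dif_pos ⟨by omega, by simp⟩]
    simp
  have tsq : ∀ j, j < k + 1 → t j * t j = 1 := by
    intro j hj
    rcases Nat.eq_zero_or_pos j with rfl | hj0
    · rw [t0, huu]
    · obtain ⟨i, rfl⟩ : ∃ i : Fin k, j = i.val + 1 := ⟨⟨j - 1, by omega⟩, by simp; omega⟩
      rw [tsucc, ← mul_assoc, hconj]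
      split_ifs with h
      · rw [inv_mul_cancel]
      · rw [← pow_two]; exact haM.2.1 i (by omega)
  have tprod : ∀ i j : Fin k, t (i.val + 1) * t (j.val + 1) = (if i.val = 0 then (a i)⁻¹ else a i) * a j := by
    intro i j
    rw [tsucc, tsucc, ← mul_assoc, hconj]
  have tpow : ∀ p q e, p < q → q < k + 1 → (q = p + 1 ∧ e = 3 ∨ p + 1 < q ∧ e = 2) → (t p * t q) ^ e = 1 := by
    intro p q e hpq hq he
    obtain ⟨j, rfl⟩ : ∃ j : Fin k, q = j.val + 1 := ⟨⟨q - 1, by omega⟩, by simp; omega⟩
    rcases Nat.eq_zero_or_pos p with rfl | hp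
    · rw [t0, tsucc, ← mul_assoc, huu, one_mul]
      rcases he with ⟨h, rfl⟩ | ⟨h, rfl⟩
      · exact haM.1 j (by omega)
      · exact haM.2.1 j (by omega)
    · obtain ⟨i, rfl⟩ : ∃ i : Fin k, p = i.val + 1 := ⟨⟨p - 1, by omega⟩, by simp; omega⟩
      rw [tprod]
      have hM := haM.twist
      have key : ∀ e', (e' = 3 → j.val = i.val + 1) → (e' = 2 → i.val + 1 < j.val) → (e' = 3 ∨ e' = 2) →
          ((if i.val = 0 then (a i)⁻¹ else a i) * a j) ^ e' = 1 := by
        intro e' g3 g2 he'
        rcases he' with rfl | rfl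
        · have := hM.2.2.1 i j (g3 rfl)
          simpa [show ¬ j.val = 0 by have := g3 rfl; omega] using this
        · have := hM.2.2.2 i j (g2 rfl)
          simpa [show ¬ j.val = 0 by have := g2 rfl; omega] using this
      exact key e (by omega) (by omega) (by omega)
  have tbraid : ∀ i, i + 1 < k + 1 → t (i + 1) * t i * t (i + 1) = t i * t (i + 1) * t i := by
    intro i hi
    have h := tpow i (i + 1) 3 (by omega) hi (.inl ⟨rfl, rfl⟩)
    have hx := inv_eq_of_mul_eq_one_left (tsq i (by omega))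
    have hy := inv_eq_of_mul_eq_one_left (tsq (i + 1) hi)
    rw [show 3 = 2 + 1 from rfl, pow_succ, pow_two] at h
    have h' : t i * t (i + 1) * t i * (t (i + 1) * t i * t (i + 1)) = 1 := by
      rw [← h]; simp only [mul_assoc]
    have e := eq_inv_of_mul_eq_one_left h'
    rw [mul_inv_rev, mul_inv_rev, hx, hy] at e
    rw [e, mul_assoc]
  have tcomm : ∀ i j, i + 1 < j → j < k + 1 → t i * t j = t j * t i := fun i j h h' =>
    comm_of (tsq i (by omega)) (tsq j h') (tpow i j 2 (by omega) h' (.inr ⟨h, rfl⟩))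
  obtain ⟨hfin, hcard⟩ := coxeter_bound t (k + 1) tsq tbraid tcomm
  have htop : Subgroup.closure (t '' Set.Iio (k + 1)) = ⊤ := by
    set K := Subgroup.closure (t '' Set.Iio (k + 1))
    have hu : u ∈ K := Subgroup.subset_closure ⟨0, by simp, t0⟩
    have ha : ∀ i, a i ∈ K := fun i => by
      have := K.mul_mem hu (Subgroup.subset_closure ⟨i.val + 1, by simp, tsucc i⟩ : u * a i ∈ K)
      rwa [← mul_assoc, huu, one_mul] at this
    refine eq_top_iff.2 fun w _ => ?_
    rw [← SemidirectProduct.inl_left_mul_inr_right w]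
    refine K.mul_mem ?_ ?_
    · have : ⊤ ≤ K.comap SemidirectProduct.inl := by
        rw [← PresentedGroup.closure_range_of (rels k), Subgroup.closure_le]
        rintro _ ⟨i, rfl⟩; exact ha i
      exact this (Subgroup.mem_top w.left)
    · rcases h01 w.right with h | h <;> rw [h]
      · rw [map_one]; exact K.one_mem
      · exact hu
  rw [htop] at hfin hcard
  haveI : Finite W := Set.finite_univ_iff.1 (by simpa using hfin)
  rw [Subgroup.card_top] at hcard
  have hsurj : Function.Surjective Ψ := by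
    rw [← MonoidHom.range_eq_top, eq_top_iff, ← Subgroup.closure_eq_top_of_mclosure_eq_top (Equiv.Perm.mclosure_swap_castSucc_succ (k + 1)),
      Subgroup.closure_le]
    rintro _ ⟨j, rfl⟩
    refine ⟨t j.val, ?_⟩
    have e : Equiv.swap j.castSucc j.succ = adj k j.val := by
      rw [adj, dif_pos (by omega)]; rfl
    show Ψ (t j.val) = Equiv.swap j.castSucc j.succ
    rw [e]
    rcases Nat.eq_zero_or_pos j.val with h | h
    · rw [h, t0, Ψr]; simp only [gp, MonoidHom.mk'_apply, if_neg hne]
    · obtain ⟨i, hi⟩ : ∃ i : Fin k, j.val = i.val + 1 := ⟨⟨j.val - 1, by omega⟩, by simp; omega⟩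
      rw [hi, tsucc, map_mul, Ψr, Ψl, hfp]
      simp only [gp, MonoidHom.mk'_apply, if_neg hne, ← mul_assoc, adj_sq, one_mul]
  have hP : Nat.card W = Nat.card (PresentedGroup (rels k)) * 2 := by
    rw [SemidirectProduct.card, show Nat.card C = 2 from Nat.card_zmod 2]
  have hperm : Nat.card (Perm (Fin (k + 2))) = (k + 2).factorial := by rw [Nat.card_perm, Nat.card_fin]
  have hWc : Nat.card W = (k + 2).factorial :=
    le_antisymm hcard (hperm ▸ Nat.card_le_card_of_surjective Ψ hsurj)
  have hbij : Function.Bijective Ψ := (Nat.bijective_iff_surjective_and_card Ψ).2 ⟨hsurj, hWc.trans hperm.symm⟩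
  haveI : Finite (PresentedGroup (rels k)) := Finite.of_injective (SemidirectProduct.inl (φ := φ)) SemidirectProduct.inl_injective
  have hfinj : Function.Injective fp := by
    intro x y h
    apply SemidirectProduct.inl_injective (φ := φ)
    apply hbij.1
    rw [Ψl, Ψl, h]
  have hmem : ∀ x, fp x ∈ alternatingGroup (Fin (k + 2)) := by
    intro x
    show fp x ∈ _
    have : ⊤ ≤ (alternatingGroup (Fin (k + 2))).comap fp := by
      rw [← PresentedGroup.closure_range_of (rels k), Subgroup.closure_le]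
      rintro _ ⟨i, rfl⟩
      change fp (A i) ∈ alternatingGroup (Fin (k + 2))
      rw [hfp, Equiv.Perm.mem_alternatingGroup, map_mul, adj, dif_pos (by omega), adj, dif_pos (by omega),
        Equiv.Perm.sign_swap (by simp [Fin.ext_iff]), Equiv.Perm.sign_swap (by simp [Fin.ext_iff])]
      simp
    exact this (Subgroup.mem_top x)
  let fA : PresentedGroup (rels k) →* alternatingGroup (Fin (k + 2)) := fp.codRestrict _ hmem
  refine ⟨MulEquiv.ofBijective fA ((Nat.bijective_iff_injective_and_card fA).2 ⟨fun x y h => hfinj (congrArg Subtype.val h), ?_⟩)⟩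
  have : Nontrivial (Fin (k + 2)) := inferInstance
  have h2 := two_mul_nat_card_alternatingGroup (α := Fin (k + 2))
  rw [hperm] at h2
  omega

end Cfsg.Agent.S3335

namespace Cfsg.Agent.S3335

/-- A presentation of the alternating group of degree n ≥ 3 on generators x_1, …, x_{n−2} (indexed here by 0, …, n−3): the first generator cubes to 1, every other generator squares to 1, the product of two consecutive generators has order dividing 3, and the product of two generators at distance at least 2 has order dividing 2. The group so presented is isomorphic to the alternating group of degree n. -/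
theorem result (n : ℕ) (hn : 3 ≤ n) :
    Nonempty (PresentedGroup
      ({g : FreeGroup (Fin (n - 2)) | ∃ i : Fin (n - 2), i.val = 0 ∧ g = FreeGroup.of i ^ 3} ∪
       {g | ∃ i : Fin (n - 2), 1 ≤ i.val ∧ g = FreeGroup.of i ^ 2} ∪
       {g | ∃ i j : Fin (n - 2), j.val = i.val + 1 ∧ g = (FreeGroup.of i * FreeGroup.of j) ^ 3} ∪
       {g | ∃ i j : Fin (n - 2), i.val + 1 < j.val ∧ g = (FreeGroup.of i * FreeGroup.of j) ^ 2})
      ≃* alternatingGroup (Fin n)) := by
  obtain ⟨k, rfl⟩ : ∃ k, n = k + 2 := ⟨n - 2, by omega⟩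
  exact main k

end Cfsg.Agent.S3335
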