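import Cfsg.Statements.S3349
import Mathlib

set_option autoImplicit false
open Cfsg

namespace Cfsg.Agent.S3349

/-- Let Q be a finite extraspecial p-group and α an automorphism of Q fixing every element of some maximal abelian subgroup of Q. Then the order of α is a power of p. -/
theorem result {Q : Type*} [Group Q] [Finite Q]
    (p : ℕ) [Fact p.Prime] (hQ : Cfsg.IsExtraspecial p Q) (α : MulAut Q)
    (A : Subgroup Q) (hA : IsMulCommutative A) (hmax : ∀ B : Subgroup Q, A ≤ B → IsMulCommutative B → B = A)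
    (hfix : ∀ a ∈ A, α a = a) :
    ∃ k : ℕ, orderOf α = p ^ k := by
  classical
  obtain ⟨⟨hP, hfr, hcz⟩, hcard⟩ := hQ
  have hC : ∀ x : Q, (∀ a ∈ A, x * a = a * x) → x ∈ A := by
    intro x hx
    have hB : IsMulCommutative ↥(Subgroup.closure ((A : Set Q) ∪ {x})) := by
      refine Subgroup.isMulCommutative_closure (fun y hy z hz => ?_)
      rcases hy with hy | hy <;> rcases hz with hz | hz
      · exact congrArg Subtype.val (hA.is_comm.comm ⟨y, hy⟩ ⟨z, hz⟩)
      · rw [hz]; exact (hx y hy).symm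
      · rw [hy]; exact hx z hz
      · rw [hy, hz]
    have := hmax _ (fun a ha => Subgroup.subset_closure (Or.inl ha)) hB
    exact this ▸ Subgroup.subset_closure (Or.inr rfl)
  have hzA : Subgroup.center Q ≤ A := fun z hz => hC z fun a _ => (Subgroup.mem_center_iff.1 hz a).symm
  have hn : ∀ x : Q, ∀ a ∈ A, x * a * x⁻¹ ∈ A := fun x a ha => by
    have h1 : x * a * x⁻¹ * a⁻¹ ∈ Subgroup.center Q := hcz ▸ Subgroup.commutator_mem_commutator (Subgroup.mem_top x) (Subgroup.mem_top a)
    simpa using mul_mem (hzA h1) ha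
  have hc : ∀ x : Q, x⁻¹ * α x ∈ A := fun x => hC _ fun a ha => by
    have h1 := hfix _ (hn x a ha)
    rw [map_mul, map_mul, map_inv, hfix a ha] at h1
    calc x⁻¹ * α x * a = x⁻¹ * (α x * a * (α x)⁻¹) * α x := by group
      _ = a * (x⁻¹ * α x) := by rw [h1]; group
  have hpow : ∀ (n : ℕ) (x : Q), (α ^ n) x = x * (x⁻¹ * α x) ^ n := by
    intro n x
    induction n with
    | zero => simp
    | succ n ih =>
      rw [pow_succ', MulAut.mul_apply, ih, map_mul, hfix _ (pow_mem (hc x) n), pow_succ',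
        ← mul_assoc x, mul_inv_cancel_left]
  obtain ⟨k, hk⟩ := IsPGroup.iff_card.1 hP
  have h1 : α ^ (p ^ k) = 1 := MulEquiv.ext fun x => by
    rw [hpow, ← hk, pow_card_eq_one', mul_one]; rfl
  obtain ⟨i, -, hi⟩ := (Nat.dvd_prime_pow Fact.out).1 (orderOf_dvd_of_pow_eq_one h1)
  exact ⟨i, hi⟩

end Cfsg.Agent.S3349
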