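import Cfsg.Statements.S3356
import Mathlib.GroupTheory.GroupAction.Quotient
import Mathlib.GroupTheory.Sylow
import Mathlib.GroupTheory.GroupAction.ConjAct
import Mathlib.Data.Set.Card
import Mathlib.Tactic.Group
-- import your own Cfsg.Agent.* helpers here

set_option autoImplicit false
open Cfsg

namespace Cfsg.Agent.S3356

theorem conj_cancel {G : Type*} [Group G] (h g : G) : h⁻¹ * (h * g * h⁻¹) * h = g := by group

section
variable {G : Type*} [Group G] [Finite G]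

/-- the elements of `H` centralizing `x` -/
def Kc (H : Subgroup G) (x : G) : Subgroup G := H ⊓ Subgroup.centralizer ({x} : Set G)

theorem mem_Kc {H : Subgroup G} {x h : G} : h ∈ Kc H x ↔ h ∈ H ∧ h * x = x * h := by
  simp only [Kc, Subgroup.mem_inf, Subgroup.mem_centralizer_iff, Set.mem_singleton_iff, forall_eq]
  exact ⟨fun h => ⟨h.1, h.2.symm⟩, fun h => ⟨h.1, h.2.symm⟩⟩

theorem Kc_le (H : Subgroup G) (x : G) : Kc H x ≤ H := inf_le_left

theorem card_orbit_dvd (L : Subgroup G) (S : Set G) (hstab : ∀ h ∈ L, ∀ y ∈ S, h * y * h⁻¹ ∈ S) (c : ℕ)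
    (hc : ∀ y ∈ S, Nat.card (Kc L y) = c) : Nat.card L ∣ c * Nat.card S := by
  classical
  letI : MulAction L S :=
    { smul := fun h y => ⟨(h : G) * y * (h : G)⁻¹, hstab h h.2 y y.2⟩
      one_smul := fun y => Subtype.ext (show ((1 : L) : G) * y * ((1 : L) : G)⁻¹ = y by simp)
      mul_smul := fun g h y => Subtype.ext (show ((g * h : L) : G) * y * ((g * h : L) : G)⁻¹ = g * (h * y * (h : G)⁻¹) * (g : G)⁻¹ by
        rw [Subgroup.coe_mul]; group) }
  haveI : Fintype (Quotient (MulAction.orbitRel L S)) := Fintype.ofFinite _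
  have horb : ∀ y : S, c * Nat.card (MulAction.orbit L y) = Nat.card L := by
    intro y
    have hs : Nat.card (MulAction.stabilizer L y) = c := by
      rw [← hc y y.2, ← Nat.card_congr (Subgroup.subgroupOfEquivOfLe (Kc_le L (y : G))).toEquiv]
      refine Nat.card_congr (Equiv.subtypeEquivRight fun h => ?_)
      rw [Subgroup.mem_subgroupOf, mem_Kc, MulAction.mem_stabilizer_iff]
      refine ⟨fun e => ⟨h.2, mul_inv_eq_iff_eq_mul.1 (congrArg Subtype.val e)⟩, fun e => Subtype.ext ?_⟩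
      exact mul_inv_eq_iff_eq_mul.2 e.2
    rw [← hs, Nat.card_coe_set_eq, ← MulAction.index_stabilizer, mul_comm, Subgroup.index_mul_card]
  rw [Nat.card_congr (MulAction.selfEquivSigmaOrbits L S), Nat.card_sigma, Finset.mul_sum]
  exact Finset.dvd_sum fun q _ => (horb _).symm ▸ dvd_refl _

variable (N H : Subgroup G)

/-- On an `H`-block of non-trivial elements of `N` whose size divides `|N|`, centralizers are constant. -/
theorem const_on_block (hnorm : ∀ h ∈ H, ∀ n ∈ N, h * n * h⁻¹ ∈ N) (c : ℕ)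
    (hc : ∀ x ∈ N, x ≠ 1 → Nat.card (Kc H x) = c) (S : Set G) (hS : S ⊆ N) (hS1 : (1 : G) ∉ S)
    (hdvd : Nat.card S ∣ Nat.card N) (hblock : ∀ h ∈ H, ∀ y ∈ S, h * y * h⁻¹ ∈ S → ∀ z ∈ S, h * z * h⁻¹ ∈ S)
    (x y : G) (hx : x ∈ S) (hy : y ∈ S) : Kc H x = Kc H y := by
  classical
  let L : Subgroup G :=
    { carrier := {h | h ∈ H ∧ ∀ z ∈ S, h * z * h⁻¹ ∈ S}
      one_mem' := ⟨H.one_mem, fun z hz => by simpa using hz⟩
      mul_mem' := fun {a b} ha hb => ⟨H.mul_mem ha.1 hb.1, fun z hz => by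
        have := ha.2 _ (hb.2 z hz); simpa [mul_assoc] using this⟩
      inv_mem' := fun {a} ha => ⟨H.inv_mem ha.1, fun z hz => by
        have hinj : Function.Injective fun z : S => (⟨a * z * a⁻¹, ha.2 z z.2⟩ : S) :=
          fun u v e => Subtype.ext (by simpa using congrArg Subtype.val e)
        obtain ⟨w, hw⟩ := Finite.injective_iff_surjective.1 hinj ⟨z, hz⟩
        have e := congrArg Subtype.val hw
        simp only at e
        rw [inv_inv, ← e, conj_cancel]; exact w.2⟩ }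
  have hKL : ∀ z ∈ S, Kc H z ≤ L := fun z hz h hh => by
    rw [mem_Kc] at hh
    exact ⟨hh.1, hblock h hh.1 z hz (by rwa [mul_inv_eq_iff_eq_mul.2 hh.2])⟩
  have hKeq : ∀ z ∈ S, Kc L z = Kc H z := fun z hz => le_antisymm
    (fun h hh => mem_Kc.2 ⟨((mem_Kc.1 hh).1 : h ∈ L).1, (mem_Kc.1 hh).2⟩) (fun h hh => mem_Kc.2 ⟨hKL z hz hh, (mem_Kc.1 hh).2⟩)
  have hS0 : ∀ z ∈ S, z ≠ 1 := fun z hz e => hS1 (e ▸ hz)
  have h1 := card_orbit_dvd L S (fun h hh => hh.2) c fun z hz => by rw [hKeq z hz]; exact hc z (hS hz) (hS0 z hz)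
  have h2 := card_orbit_dvd H ((N : Set G) \ {1}) (fun h hh z hz => ⟨hnorm h hh z hz.1, fun e => hz.2 (by
    simp only [Set.mem_singleton_iff] at e ⊢
    exact conj_eq_one_iff.1 e)⟩) c fun z hz => hc z hz.1 hz.2
  have hcpos : 0 < c := hc x (hS hx) (hS0 x hx) ▸ Nat.card_pos
  obtain ⟨e, he⟩ : c ∣ Nat.card L := hc x (hS hx) (hS0 x hx) ▸ Subgroup.card_dvd_of_le (hKL x hx)
  obtain ⟨d, hd⟩ : c ∣ Nat.card H := hc x (hS hx) (hS0 x hx) ▸ Subgroup.card_dvd_of_le inf_le_left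
  have hLH : Nat.card L ∣ Nat.card H := Subgroup.card_dvd_of_le fun h hh => hh.1
  rw [he, hd] at hLH
  rw [he] at h1
  rw [hd] at h2
  have a1 : e ∣ Nat.card N := (Nat.dvd_of_mul_dvd_mul_left hcpos h1).trans hdvd
  have a2 : e ∣ Nat.card ((N : Set G) \ {1} : Set G) := (Nat.dvd_of_mul_dvd_mul_left hcpos hLH).trans (Nat.dvd_of_mul_dvd_mul_left hcpos h2)
  have hcardN : Nat.card ((N : Set G) \ {1} : Set G) + 1 = Nat.card N := by
    rw [Nat.card_coe_set_eq, Set.ncard_sdiff_singleton_of_mem N.one_mem, ← Nat.card_coe_set_eq]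
    have : 0 < Nat.card N := Nat.card_pos
    exact Nat.sub_add_cancel this
  have he1 : e = 1 := by
    have := Nat.dvd_sub a1 a2
    rw [show Nat.card N - Nat.card ((N : Set G) \ {1} : Set G) = 1 by omega] at this
    exact Nat.dvd_one.1 this
  have key : ∀ z ∈ S, Kc H z = L := fun z hz =>
    Subgroup.eq_of_le_of_card_ge (hKL z hz) (by rw [he, he1, mul_one, hc z (hS hz) (hS0 z hz)])
  rw [key x hx, key y hy]

end

theorem elem_abelian {G : Type*} [Group G] [Finite G] (N H : Subgroup G) [N.Normal] (hN : N ≠ ⊥) (c : ℕ)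
    (hc : ∀ x ∈ N, x ≠ 1 → Nat.card (Kc H x) = c) (hfaith : ∀ h ∈ H, (∀ x ∈ N, h * x = x * h) → h = 1)
    (hnf : ∃ x ∈ N, x ≠ 1 ∧ Kc H x ≠ ⊥) :
    (∀ M : Subgroup G, M ≤ N → M ≠ ⊥ → (∀ h ∈ H, ∀ m ∈ M, h * m * h⁻¹ ∈ M) → M = N) ∧
      ∃ p : ℕ, p.Prime ∧ IsMulCommutative N ∧ ∀ x ∈ N, x ^ p = 1 := by
  classical
  have hnorm : ∀ h ∈ H, ∀ n ∈ N, h * n * h⁻¹ ∈ N := fun h _ n hn => (inferInstance : N.Normal).conj_mem n hn h
  -- if all centralizers coincide we have a contradiction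
  have hconst : ∀ K : Subgroup G, (∀ x ∈ N, x ≠ 1 → Kc H x = K) → False := by
    intro K hK
    obtain ⟨x, hx, hx1, hne⟩ := hnf
    apply hne
    rw [eq_bot_iff]
    intro h hh
    refine Subgroup.mem_bot.2 (hfaith h (mem_Kc.1 hh).1 fun z hz => ?_)
    rcases eq_or_ne z 1 with rfl | hz1
    · simp
    · exact (mem_Kc.1 (show h ∈ Kc H z by rw [hK z hz hz1, ← hK x hx hx1]; exact hh)).2
  -- no proper invariant subgroup
  have irr : ∀ M : Subgroup G, M ≤ N → M ≠ ⊥ → (∀ h ∈ H, ∀ m ∈ M, h * m * h⁻¹ ∈ M) → M = N := by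
    intro M hMN hM hinv
    by_contra hne
    obtain ⟨x, hxN, hxM⟩ := SetLike.exists_of_lt (lt_of_le_of_ne hMN hne)
    obtain ⟨⟨m₀, hm₀⟩, hm₀1⟩ := Subgroup.ne_bot_iff_exists_ne_one.1 hM
    have hm₀1' : m₀ ≠ 1 := fun e => hm₀1 (Subtype.ext e)
    have outside : ∀ z ∈ N, z ∉ M → ∀ m ∈ M, m ≠ 1 → Kc H z = Kc H m := by
      intro z hz hzM m hm hm1
      have hblk : ∀ h ∈ H, ∀ y ∈ (fun m => z * m) '' (M : Set G), h * y * h⁻¹ ∈ (fun m => z * m) '' (M : Set G) →
          ∀ w ∈ (fun m => z * m) '' (M : Set G), h * w * h⁻¹ ∈ (fun m => z * m) '' (M : Set G) := by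
        rintro h hh _ ⟨m1, hm1', rfl⟩ ⟨m2, hm2, e⟩ _ ⟨m3, hm3, rfl⟩
        refine ⟨m2 * (h * (m1⁻¹ * m3) * h⁻¹), M.mul_mem hm2 (hinv h hh _ (M.mul_mem (M.inv_mem hm1') hm3)), ?_⟩
        simp only at e ⊢
        rw [← mul_assoc, e]; group
      have hall := const_on_block N H hnorm c hc ((fun m => z * m) '' (M : Set G))
        (by rintro _ ⟨w, hw, rfl⟩; exact N.mul_mem hz (hMN hw))
        (fun ⟨w, hw, e⟩ => hzM (by rw [eq_inv_of_mul_eq_one_left (e : z * w = 1)]; exact M.inv_mem hw))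
        (by rw [Nat.card_image_of_injective (mul_right_injective z)]; exact Subgroup.card_dvd_of_le hMN) hblk
      have h1 := hall z (z * m) ⟨1, M.one_mem, mul_one z⟩ ⟨m, hm, rfl⟩
      refine Subgroup.eq_of_le_of_card_ge (fun h hh => ?_) (le_of_eq ?_)
      · have hh2 := (mem_Kc.1 (h1 ▸ hh)).2
        have hh1 := mem_Kc.1 hh
        refine mem_Kc.2 ⟨hh1.1, ?_⟩
        rw [← mul_assoc, hh1.2, mul_assoc, mul_assoc z m h] at hh2
        exact mul_left_cancel hh2
      · rw [hc z hz (fun e => hzM (e ▸ M.one_mem)), hc m (hMN hm) hm1]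
    refine hconst (Kc H x) fun z hz hz1 => ?_
    by_cases hzM : z ∈ M
    · exact (outside x hxN hxM z hzM hz1).symm
    · rw [outside z hz hzM m₀ hm₀ hm₀1', outside x hxN hxM m₀ hm₀ hm₀1']
  refine ⟨irr, ?_⟩
  -- the minimal normal subgroups of `N`
  let Nrm : Subgroup G → Prop := fun M => M ≤ N ∧ ∀ n ∈ N, ∀ m ∈ M, n * m * n⁻¹ ∈ M
  let Min : Subgroup G → Prop := fun M => Nrm M ∧ M ≠ ⊥ ∧ ∀ M', Nrm M' → M' ≤ M → M' ≠ ⊥ → M' = M
  obtain ⟨M₀, ⟨hM₀1, hM₀2⟩, hM₀min⟩ : ∃ M, (Nrm M ∧ M ≠ ⊥) ∧ ∀ M', (Nrm M' ∧ M' ≠ ⊥) → Nat.card M ≤ Nat.card M' := by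
    obtain ⟨M, hM, hmin⟩ := Set.exists_min_image {M : Subgroup G | Nrm M ∧ M ≠ ⊥} (fun M => Nat.card M)
      (Set.toFinite _) ⟨N, ⟨le_rfl, fun n hn m hm => N.mul_mem (N.mul_mem hn hm) (N.inv_mem hn)⟩, hN⟩
    exact ⟨M, hM, hmin⟩
  have hMin₀ : Min M₀ := ⟨hM₀1, hM₀2, fun M' h h' h'' => Subgroup.eq_of_le_of_card_ge h' (hM₀min M' ⟨h, h''⟩)⟩
  let U : Subgroup G := Subgroup.closure (⋃ M ∈ {M | Min M}, (M : Set G))
  have hUN : U = N := by
    refine irr U ((Subgroup.closure_le _).2 (Set.iUnion₂_subset fun M hM => hM.1.1)) ?_ ?_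
    · intro e
      apply hMin₀.2.1
      rw [eq_bot_iff]
      intro m hm
      exact e ▸ Subgroup.subset_closure (Set.mem_iUnion₂.2 ⟨M₀, hMin₀, hm⟩)
    · intro h hh m hm
      induction hm using Subgroup.closure_induction with
      | one => simp
      | mem m hm =>
        obtain ⟨M, hM, hm⟩ := Set.mem_iUnion₂.1 hm
        let e : G ≃* G := MulAut.conj h
        have hNe : ∀ z ∈ N, e z ∈ N := fun z hz => (inferInstance : N.Normal).conj_mem z hz h
        have hNe' : ∀ z ∈ N, e.symm z ∈ N := fun z hz => by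
          have := (inferInstance : N.Normal).conj_mem z hz h⁻¹; simpa [e] using this
        refine Subgroup.subset_closure (Set.mem_iUnion₂.2 ⟨M.map e.toMonoidHom, ⟨⟨?_, ?_⟩, ?_, ?_⟩, ⟨m, hm, rfl⟩⟩)
        · rintro _ ⟨z, hz, rfl⟩; exact hNe z (hM.1.1 hz)
        · rintro n hn _ ⟨z, hz, rfl⟩
          exact ⟨e.symm n * z * (e.symm n)⁻¹, hM.1.2 _ (hNe' n hn) z hz, by simp⟩
        · rw [Ne, Subgroup.map_eq_bot_iff_of_injective _ e.injective]; exact hM.2.1
        · intro M' hM' hle hne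
          have h1 := hM.2.2 (M'.comap e.toMonoidHom) ⟨fun z hz => by
              have := hNe' _ (hM'.1 hz); simpa using this, fun n hn z hz => by
              show e (n * z * n⁻¹) ∈ M'
              rw [map_mul, map_mul, map_inv]; exact hM'.2 _ (hNe n hn) _ hz⟩
            (fun z hz => by
              obtain ⟨w, hw, e'⟩ := hle hz
              exact e.injective e' ▸ hw)
            (fun e0 => hne (by
              rw [← Subgroup.map_comap_eq_self_of_surjective (f := e.toMonoidHom) e.surjective M', e0, Subgroup.map_bot]))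
          rw [← h1, Subgroup.map_comap_eq_self_of_surjective (f := e.toMonoidHom) e.surjective]
      | mul a b _ _ ha hb =>
        have : h * (a * b) * h⁻¹ = h * a * h⁻¹ * (h * b * h⁻¹) := by group
        rw [this]; exact U.mul_mem ha hb
      | inv a _ ha =>
        have : h * a⁻¹ * h⁻¹ = (h * a * h⁻¹)⁻¹ := by group
        rw [this]; exact U.inv_mem ha
  have hcommMM : ∀ M M', Min M → Min M' → M ≠ M' → ∀ a ∈ M, ∀ b ∈ M', a * b = b * a := by
    intro M M' hM hM' hne a ha b hb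
    have hint : M ⊓ M' = ⊥ := by
      by_contra h
      have hN' : Nrm (M ⊓ M') := ⟨inf_le_left.trans hM.1.1, fun n hn m hm => ⟨hM.1.2 n hn m hm.1, hM'.1.2 n hn m hm.2⟩⟩
      exact hne ((hM.2.2 _ hN' inf_le_left h).symm.trans (hM'.2.2 _ hN' inf_le_right h))
    have : a * b * a⁻¹ * b⁻¹ ∈ M ⊓ M' := by
      refine ⟨?_, M'.mul_mem (hM'.1.2 a (hM.1.1 ha) b hb) (M'.inv_mem hb)⟩
      rw [show a * b * a⁻¹ * b⁻¹ = a * (b * a⁻¹ * b⁻¹) by group]
      exact M.mul_mem ha (hM.1.2 b (hM'.1.1 hb) _ (M.inv_mem ha))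
    rw [hint, Subgroup.mem_bot, mul_inv_eq_one, mul_inv_eq_iff_eq_mul] at this
    exact this
  have habel : ∀ a ∈ N, ∀ b ∈ N, a * b = b * a := by
    by_contra hna
    -- then every minimal normal subgroup is non-abelian
    have hcenter : ∀ M, Min M → ∀ m ∈ M, (∀ y ∈ M, m * y = y * m) → m = 1 := by
      intro M hM m hm hcm
      by_contra hm1
      let Z := M ⊓ Subgroup.centralizer (M : Set G)
      have hZ : Z = M := hM.2.2 Z ⟨inf_le_left.trans hM.1.1, fun n hn z hz => ⟨hM.1.2 n hn z hz.1,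
          Subgroup.mem_centralizer_iff.2 fun y hy => by
            have h := Subgroup.mem_centralizer_iff.1 hz.2 (n⁻¹ * y * n) (by
              have := hM.1.2 n⁻¹ (N.inv_mem hn) y hy; simpa using this)
            calc y * (n * z * n⁻¹) = n * ((n⁻¹ * y * n) * z) * n⁻¹ := by group
              _ = n * (z * (n⁻¹ * y * n)) * n⁻¹ := by rw [h]
              _ = _ := by group⟩⟩ inf_le_left
        (fun e => hm1 (Subgroup.mem_bot.1 (e ▸ ⟨hm, Subgroup.mem_centralizer_iff.2 fun y hy => (hcm y hy).symm⟩)))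
      have hMab : ∀ a ∈ M, ∀ b ∈ M, a * b = b * a := fun a ha b hb =>
        (Subgroup.mem_centralizer_iff.1 ((hZ.symm ▸ ha : a ∈ Z)).2 b hb).symm
      have hMN : M ≤ Subgroup.centralizer (N : Set G) := by
        rw [← hUN, Subgroup.centralizer_closure]
        intro a ha
        rw [Subgroup.mem_centralizer_iff]
        intro b hb
        obtain ⟨M', hM', hb⟩ := Set.mem_iUnion₂.1 hb
        rcases eq_or_ne M M' with rfl | hne
        · exact hMab b hb a ha
        · exact (hcommMM M M' hM hM' hne a ha b hb).symm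
      apply hna
      -- the centre of `N` is everything
      have hZN : N ⊓ Subgroup.centralizer (N : Set G) = N := irr _ inf_le_left
        (fun e => hM.2.1 (eq_bot_iff.2 (e ▸ le_inf hM.1.1 hMN)))
        (fun h hh z hz => ⟨hnorm h hh z hz.1, Subgroup.mem_centralizer_iff.2 fun y hy => by
          have h' := Subgroup.mem_centralizer_iff.1 hz.2 (h⁻¹ * y * h) (by
            have := (inferInstance : N.Normal).conj_mem y hy h⁻¹; simpa using this)
          calc y * (h * z * h⁻¹) = h * ((h⁻¹ * y * h) * z) * h⁻¹ := by group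
            _ = h * (z * (h⁻¹ * y * h)) * h⁻¹ := by rw [h']
            _ = _ := by group⟩)
      intro a ha b hb
      exact (Subgroup.mem_centralizer_iff.1 ((hZN.symm ▸ ha : a ∈ N ⊓ Subgroup.centralizer (N : Set G))).2 b hb).symm
    -- a conjugacy class has constant centralizer
    have hclass : ∀ x ∈ N, x ≠ 1 → ∀ h ∈ Kc H x, ∀ n ∈ N, h * (n * x * n⁻¹) = n * x * n⁻¹ * h := by
      intro x hx hx1 h hh n hn
      let S : Set G := Set.range fun n : N => (n : G) * x * (n : G)⁻¹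
      have hcard : Nat.card S ∣ Nat.card N := by
        have : S = ((↑) : N → G) '' MulAction.orbit (ConjAct N) (⟨x, hx⟩ : N) := by
          ext z
          constructor
          · rintro ⟨n, rfl⟩
            exact ⟨ConjAct.toConjAct n • ⟨x, hx⟩, ⟨ConjAct.toConjAct n, rfl⟩, by simp [ConjAct.smul_def]⟩
          · rintro ⟨_, ⟨n, rfl⟩, rfl⟩
            exact ⟨ConjAct.ofConjAct n, by simp [ConjAct.smul_def]⟩
        rw [this, Nat.card_image_of_injective Subtype.val_injective, Nat.card_coe_set_eq, ← MulAction.index_stabilizer]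
        exact Subgroup.index_dvd_card _
      have := const_on_block N H hnorm c hc S
        (by rintro _ ⟨n, rfl⟩; exact N.mul_mem (N.mul_mem n.2 hx) (N.inv_mem n.2))
        (by rintro ⟨n, e⟩; exact hx1 (conj_eq_one_iff.1 e))
        hcard (by
          rintro h hh _ ⟨n1, rfl⟩ ⟨n2, e⟩ _ ⟨n3, rfl⟩
          refine ⟨⟨h * (n3 : G) * h⁻¹, hnorm h hh _ n3.2⟩ * ⟨h * (n1 : G)⁻¹ * h⁻¹, hnorm h hh _ (N.inv_mem n1.2)⟩ * n2, ?_⟩
          simp only [Subgroup.coe_mul]
          simp only at e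
          calc _ = (h * (n3 : G) * h⁻¹) * (h * (n1 : G)⁻¹ * h⁻¹) * ((n2 : G) * x * (n2 : G)⁻¹) *
                ((h * (n3 : G) * h⁻¹) * (h * (n1 : G)⁻¹ * h⁻¹))⁻¹ := by group
            _ = _ := by rw [e]; group)
        x (n * x * n⁻¹) ⟨1, by simp⟩ ⟨⟨n, hn⟩, rfl⟩
      exact (mem_Kc.1 (this ▸ hh)).2
    -- hence the centralizer is constant on minimal normal subgroups
    have hK : ∀ x ∈ N, x ≠ 1 → ∀ M, Min M → ∀ a ∈ M, (∃ y ∈ M, a * y ≠ y * a) → (∀ y ∈ M, x * y * x⁻¹ = a * y * a⁻¹) →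
        ∀ h ∈ Kc H x, ∀ y ∈ M, h * y = y * h := by
      intro x hx hx1 M hM a ha ⟨y₀, hy₀, hne⟩ hact h hh
      let C := M ⊓ Subgroup.closure (Set.range fun n : N => (n : G) * x * (n : G)⁻¹)
      have hC : C = M := by
        refine hM.2.2 C ⟨inf_le_left.trans hM.1.1, fun n hn z hz => ⟨hM.1.2 n hn z hz.1, ?_⟩⟩ inf_le_left fun e => hne ?_
        · have hle : (Subgroup.closure (Set.range fun n : N => (n : G) * x * (n : G)⁻¹)) ≤
              (Subgroup.closure (Set.range fun n : N => (n : G) * x * (n : G)⁻¹)).comap (MulAut.conj n).toMonoidHom := by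
            rw [Subgroup.closure_le]
            rintro _ ⟨n', rfl⟩
            exact Subgroup.subset_closure ⟨⟨n, hn⟩ * n', by simp [mul_assoc]⟩
          exact hle hz.2
        · have hm : a * y₀ * a⁻¹ * y₀⁻¹ ∈ C := by
            refine ⟨M.mul_mem (M.mul_mem (M.mul_mem ha hy₀) (M.inv_mem ha)) (M.inv_mem hy₀), ?_⟩
            rw [← hact y₀ hy₀, show x * y₀ * x⁻¹ * y₀⁻¹ = x * (y₀ * x⁻¹ * y₀⁻¹) by group]
            refine Subgroup.mul_mem _ (Subgroup.subset_closure ⟨1, by simp⟩) ?_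
            rw [show y₀ * x⁻¹ * y₀⁻¹ = (y₀ * x * y₀⁻¹)⁻¹ by group]
            exact Subgroup.inv_mem _ (Subgroup.subset_closure ⟨⟨y₀, hM.1.1 hy₀⟩, rfl⟩)
          rw [e, Subgroup.mem_bot, mul_inv_eq_one, mul_inv_eq_iff_eq_mul] at hm
          exact hm
      intro y hy
      have hle : Subgroup.closure (Set.range fun n : N => (n : G) * x * (n : G)⁻¹) ≤ Subgroup.centralizer ({h} : Set G) := by
        rw [Subgroup.closure_le]
        rintro _ ⟨n, rfl⟩
        rw [SetLike.mem_coe, Subgroup.mem_centralizer_iff]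
        simpa using hclass x hx hx1 h hh n n.2
      have := Subgroup.mem_centralizer_iff.1 (hle ((hC.symm ▸ hy : y ∈ C)).2) h rfl
      exact this
    have hex : ∀ M, Min M → ∀ a ∈ M, a ≠ 1 → ∃ y ∈ M, a * y ≠ y * a := by
      intro M hM a ha ha1
      by_contra hh; push Not at hh
      exact ha1 (hcenter M hM a ha hh)
    -- `Kc H a` centralizes the subgroup of `a`
    have hA : ∀ M, Min M → ∀ a ∈ M, a ≠ 1 → ∀ M', Min M' → ∀ b ∈ M', b ≠ 1 → ∀ h ∈ Kc H a, ∀ y ∈ M', h * y = y * h := by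
      intro M hM a ha ha1 M' hM' b hb hb1
      rcases eq_or_ne M M' with rfl | hne
      · exact hK a (hM.1.1 ha) ha1 M hM a ha (hex M hM a ha ha1) fun y _ => rfl
      · have hab : a * b ∈ N := N.mul_mem (hM.1.1 ha) (hM'.1.1 hb)
        have hab1 : a * b ≠ 1 := by
          intro e
          apply ha1
          have haM' : a ∈ M' := by rw [eq_inv_of_mul_eq_one_left e]; exact M'.inv_mem hb
          exact hcenter M hM a ha fun y hy => (hcommMM M M' hM hM' hne y hy a haM').symm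
        have f1 := hK (a * b) hab hab1 M hM a ha (hex M hM a ha ha1) fun y hy => by
          rw [mul_inv_rev, mul_assoc a b y, ← hcommMM M M' hM hM' hne y hy b hb]; group
        have f2 := hK (a * b) hab hab1 M' hM' b hb (hex M' hM' b hb hb1) fun y hy => by
          rw [mul_inv_rev, show a * b * y * (b⁻¹ * a⁻¹) = a * (b * y * b⁻¹) * a⁻¹ by group,
            hcommMM M M' hM hM' hne a ha _ (M'.mul_mem (M'.mul_mem hb hy) (M'.inv_mem hb)), mul_inv_cancel_right]
        have e1 : Kc H (a * b) = Kc H a := Subgroup.eq_of_le_of_card_ge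
          (fun k hk => mem_Kc.2 ⟨(mem_Kc.1 hk).1, f1 k hk a ha⟩) (by rw [hc _ hab hab1, hc a (hM.1.1 ha) ha1])
        rw [← e1]
        exact f2
    obtain ⟨⟨a, ha⟩, ha1⟩ := Subgroup.ne_bot_iff_exists_ne_one.1 hMin₀.2.1
    have ha1' : a ≠ 1 := fun e => ha1 (Subtype.ext e)
    refine hconst (Kc H a) fun z hz hz1 => (Subgroup.eq_of_le_of_card_ge (fun k hk => mem_Kc.2 ⟨(mem_Kc.1 hk).1, ?_⟩)
      (by rw [hc z hz hz1, hc a (hMin₀.1.1 ha) ha1'])).symm
    have : N ≤ Subgroup.centralizer ({k} : Set G) := by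
      rw [← hUN, Subgroup.closure_le]
      intro y hy
      obtain ⟨M', hM', hy⟩ := Set.mem_iUnion₂.1 hy
      obtain ⟨⟨b, hb⟩, hb1⟩ := Subgroup.ne_bot_iff_exists_ne_one.1 hM'.2.1
      rw [SetLike.mem_coe, Subgroup.mem_centralizer_iff]
      simpa using hA M₀ hMin₀ a ha ha1' M' hM' b hb (fun e => hb1 (Subtype.ext e)) k hk y hy
    exact Subgroup.mem_centralizer_iff.1 (this hz) k rfl
  -- the exponent
  obtain ⟨p, hp, hpd⟩ := Nat.exists_prime_and_dvd (Nat.one_lt_iff_ne_zero_and_ne_one.2 ⟨Nat.card_pos.ne', mt Subgroup.card_eq_one.1 hN⟩).ne'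
  haveI := Fact.mk hp
  obtain ⟨⟨g, hg⟩, hgo⟩ := exists_prime_orderOf_dvd_card' p hpd
  rw [Subgroup.orderOf_mk] at hgo
  let T : Subgroup G :=
    { carrier := {x | x ∈ N ∧ x ^ p = 1}
      one_mem' := ⟨N.one_mem, one_pow p⟩
      mul_mem' := fun {a b} ha hb => ⟨N.mul_mem ha.1 hb.1, by
        rw [(show Commute a b from habel a ha.1 b hb.1).mul_pow, ha.2, hb.2, one_mul]⟩
      inv_mem' := fun {a} ha => ⟨N.inv_mem ha.1, by rw [inv_pow, ha.2, inv_one]⟩ }
  have hT : T = N := irr T (fun x hx => hx.1) (fun e => by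
      have : g ∈ T := ⟨hg, hgo ▸ pow_orderOf_eq_one g⟩
      rw [e, Subgroup.mem_bot] at this
      rw [this, orderOf_one] at hgo
      exact hp.ne_one hgo.symm)
    (fun h hh m hm => ⟨hnorm h hh m hm.1, by rw [conj_pow, hm.2]; group⟩)
  exact ⟨p, hp, ⟨⟨fun a b => Subtype.ext (habel a a.2 b b.2)⟩⟩, fun x hx => ((hT.symm ▸ hx : x ∈ T)).2⟩

end Cfsg.Agent.S3356

namespace Cfsg.Agent.S3356

/-- Let G be a finite 3/2-transitive permutation group: G acts faithfully and transitively on a finite set, the point stabilizers are non-trivial, and for each point a all orbits of G_a on the remaining points have the same size. Suppose G has a regular normal subgroup N and G is not a Frobenius group (some two-point stabilizer is non-trivial). Then N is an elementary abelian p-group for some prime p, and every non-trivial normal subgroup of G contains N (so N is the unique minimal normal subgroup). -/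
theorem result {G Ω : Type*} [Group G] [Finite G]
    [MulAction G Ω] [FaithfulSMul G Ω] [Finite Ω] (htrans : MulAction.IsPretransitive G Ω)
    (hne : ∀ a : Ω, MulAction.stabilizer G a ≠ ⊥)
    (hhalf : ∀ a b c : Ω, b ≠ a → c ≠ a →
      Nat.card (MulAction.orbit (MulAction.stabilizer G a) b) = Nat.card (MulAction.orbit (MulAction.stabilizer G a) c))
    (N : Subgroup G) [hN : N.Normal] (hNt : MulAction.IsPretransitive N Ω) (hNr : ∀ a : Ω, MulAction.stabilizer N a = ⊥)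
    (hnotF : ∃ a b : Ω, a ≠ b ∧ MulAction.stabilizer G a ⊓ MulAction.stabilizer G b ≠ ⊥) :
    (∃ p : ℕ, p.Prime ∧ IsMulCommutative N ∧ ∀ x ∈ N, x ^ p = 1) ∧
    (∀ M : Subgroup G, M.Normal → M ≠ ⊥ → N ≤ M) := by
  classical
  rcases isEmpty_or_nonempty Ω with hΩ | hΩ
  · obtain ⟨a, -⟩ := hnotF; exact hΩ.elim a
  obtain ⟨a⟩ := hΩ
  set H := MulAction.stabilizer G a with hH
  have hb : ∀ ω : Ω, ∃ n ∈ N, n • a = ω := fun ω => by
    obtain ⟨⟨n, hn⟩, e⟩ := MulAction.exists_smul_eq N a ω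
    exact ⟨n, hn, e⟩
  have huniq : ∀ x ∈ N, ∀ y ∈ N, x • a = y • a → x = y := by
    intro x hx y hy e
    have : (⟨y⁻¹ * x, N.mul_mem (N.inv_mem hy) hx⟩ : N) ∈ MulAction.stabilizer N a := by
      rw [MulAction.mem_stabilizer_iff]
      show (y⁻¹ * x) • a = a
      rw [mul_smul, e, inv_smul_smul]
    rw [hNr, Subgroup.mem_bot] at this
    exact (inv_mul_eq_one.1 (congrArg Subtype.val this)).symm
  -- translation between the two actions
  have hmove : ∀ h ∈ H, ∀ x ∈ N, (h • (x • a) = x • a ↔ h * x = x * h) := by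
    intro h hh x hx
    have e : h • (x • a) = (h * x * h⁻¹) • a := by
      rw [mul_smul, MulAction.mem_stabilizer_iff.1 (H.inv_mem hh), mul_smul]
    rw [e]
    exact ⟨fun e => mul_inv_eq_iff_eq_mul.1 (huniq _ (hN.conj_mem x hx h) _ hx e), fun e => by rw [mul_inv_eq_iff_eq_mul.2 e]⟩
  have hstab : ∀ x ∈ N, x ≠ 1 → x • a ≠ a ∧ Nat.card (MulAction.orbit H (x • a)) * Nat.card (Kc H x) = Nat.card H := by
    intro x hx hx1
    refine ⟨fun e => hx1 (huniq x hx 1 N.one_mem (by rw [e, one_smul])), ?_⟩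
    rw [← Nat.card_congr (Subgroup.subgroupOfEquivOfLe (Kc_le H x)).toEquiv,
      show (Kc H x).subgroupOf H = MulAction.stabilizer H (x • a) by
        ext h; rw [Subgroup.mem_subgroupOf, mem_Kc, MulAction.mem_stabilizer_iff]
        exact ⟨fun e => (hmove h h.2 x hx).2 e.2, fun e => ⟨h.2, (hmove h h.2 x hx).1 e⟩⟩,
      Nat.card_coe_set_eq, ← MulAction.index_stabilizer, Subgroup.index_mul_card]
  obtain ⟨a1, b1, hne1, hF⟩ := hnotF
  obtain ⟨g, hg⟩ := htrans.exists_smul_eq a1 a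
  obtain ⟨x1, hx1, e1⟩ := hb (g • b1)
  have hx11 : x1 ≠ 1 := fun e => by
    rw [e, one_smul, ← hg] at e1; exact hne1 (MulAction.injective g e1)
  have hK1 : Kc H x1 ≠ ⊥ := by
    obtain ⟨⟨h, hh1, hh2⟩, hne⟩ := Subgroup.ne_bot_iff_exists_ne_one.1 hF
    intro e
    apply hne
    have hmem : g * h * g⁻¹ ∈ Kc H x1 := by
      have hH' : g * h * g⁻¹ ∈ H := by
        rw [hH, MulAction.mem_stabilizer_iff, mul_smul, mul_smul, ← hg, inv_smul_smul, MulAction.mem_stabilizer_iff.1 hh1]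
      refine mem_Kc.2 ⟨hH', (hmove _ hH' x1 hx1).1 ?_⟩
      rw [e1, mul_smul, mul_smul, inv_smul_smul, MulAction.mem_stabilizer_iff.1 hh2]
    rw [e, Subgroup.mem_bot, conj_eq_one_iff] at hmem
    exact Subtype.ext hmem
  have hfaith : ∀ h ∈ H, (∀ x ∈ N, h * x = x * h) → h = 1 := by
    intro h hh hcm
    apply FaithfulSMul.eq_of_smul_eq_smul (α := Ω)
    intro ω
    obtain ⟨x, hx, rfl⟩ := hb ω
    rw [one_smul]; exact (hmove h hh x hx).2 (hcm x hx)
  have hNbot : N ≠ ⊥ := fun e => hx11 (Subgroup.mem_bot.1 (e ▸ hx1))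
  have hc : ∀ x ∈ N, x ≠ 1 → Nat.card (Kc H x) = Nat.card (Kc H x1) := by
    intro x hx hx0
    obtain ⟨n1, m1⟩ := hstab x hx hx0
    obtain ⟨n2, m2⟩ := hstab x1 hx1 hx11
    have := hhalf a (x • a) (x1 • a) n1 n2
    rw [this] at m1
    exact mul_left_cancel₀ (by
      intro e0; rw [e0, zero_mul] at m2; exact Nat.card_pos.ne' m2.symm) (m1.trans m2.symm)
  obtain ⟨hirr, hel⟩ := elem_abelian N H hNbot _ hc hfaith ⟨x1, hx1, hx11, hK1⟩
  refine ⟨hel, fun M hM hM1 => ?_⟩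
  by_cases hMN : M ⊓ N = ⊥
  · exfalso
    obtain ⟨p, -, hab, -⟩ := hel
    apply hM1
    rw [eq_bot_iff]
    intro m hm
    have hcm : ∀ n ∈ N, m * n = n * m := by
      intro n hn
      have : m * n * m⁻¹ * n⁻¹ ∈ M ⊓ N := by
        refine ⟨?_, N.mul_mem (hN.conj_mem n hn m) (N.inv_mem hn)⟩
        rw [show m * n * m⁻¹ * n⁻¹ = m * (n * m⁻¹ * n⁻¹) by group]
        exact M.mul_mem hm (hM.conj_mem _ (M.inv_mem hm) n)
      rw [hMN, Subgroup.mem_bot, mul_inv_eq_one, mul_inv_eq_iff_eq_mul] at this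
      exact this
    obtain ⟨n, hn, e⟩ := hb (m • a)
    have hn' : n⁻¹ * m ∈ H := by rw [hH, MulAction.mem_stabilizer_iff, mul_smul, ← e, inv_smul_smul]
    have : n⁻¹ * m = 1 := hfaith _ hn' fun x hx => by
      have h1 : n⁻¹ * x = x * n⁻¹ := congrArg Subtype.val (hab.is_comm.comm ⟨n⁻¹, N.inv_mem hn⟩ ⟨x, hx⟩)
      rw [mul_assoc, hcm x hx, ← mul_assoc, h1, mul_assoc]
    rw [Subgroup.mem_bot, ← inv_mul_eq_one.1 this]
    exact Subgroup.mem_bot.1 (hMN ▸ Subgroup.mem_inf.2 ⟨inv_mul_eq_one.1 this ▸ hm, hn⟩)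
  · exact inf_eq_right.1 (hirr (M ⊓ N) inf_le_right hMN fun h hh m hm =>
      ⟨hM.conj_mem m hm.1 h, hN.conj_mem m hm.2 h⟩)

end Cfsg.Agent.S3356
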