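import Cfsg.Statements.S3357

import Cfsg.Agent.Perm.FpfSources
import Cfsg.Agent.Perm.FpfBasic

set_option autoImplicit false
set_option linter.style.haveILetI false
open Cfsg

namespace Cfsg.Agent.S3357
open CfsgLib.Perm.Fpf Finset

theorem exists_irreducible_fpf {G : Type*} [Group G] [Finite G] (h : HasFpf G) :
    ∃ (n : ℕ) (ρ : G →* GL (Fin n) (AlgebraicClosure ℚ)), 0 < n ∧ Function.Injective ρ ∧
      (∀ W : Submodule (AlgebraicClosure ℚ) (Fin n → AlgebraicClosure ℚ),
        (∀ g : G, ∀ w ∈ W, ((ρ g : GL (Fin n) (AlgebraicClosure ℚ)) : Matrix (Fin n) (Fin n) (AlgebraicClosure ℚ)).mulVec w ∈ W) → W = ⊥ ∨ W = ⊤) ∧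
      ∀ g : G, g ≠ 1 → ∀ v : Fin n → AlgebraicClosure ℚ,
        ((ρ g : GL (Fin n) (AlgebraicClosure ℚ)) : Matrix (Fin n) (Fin n) (AlgebraicClosure ℚ)).mulVec v = v → v = 0 := by
  classical
  obtain ⟨N, θ, hθ⟩ := h
  let θ' : G →* Module.End (AlgebraicClosure ℚ) (Fin (N + 1) → AlgebraicClosure ℚ) :=
    (Matrix.toLinAlgEquiv' (R := AlgebraicClosure ℚ) (n := Fin (N + 1))).toAlgHom.toMonoidHom.comp
      (((algebraMap ℚ (AlgebraicClosure ℚ)).mapMatrix (m := Fin (N + 1))).toMonoidHom.comp θ)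
  have hsum : ∀ g : G, (orderOf g).Prime → ∑ i ∈ range (orderOf g), θ' g ^ i = 0 := by
    intro g hg
    have := congrArg (fun M => (Matrix.toLinAlgEquiv' (R := AlgebraicClosure ℚ) (n := Fin (N + 1)))
      ((algebraMap ℚ (AlgebraicClosure ℚ)).mapMatrix M)) (hθ g hg)
    simpa [θ', map_sum, map_pow] using this
  have hfix : ∀ g : G, g ≠ 1 → ∀ v, θ' g v = v → v = 0 := by
    intro g hg v hv
    obtain ⟨p, hp, hd⟩ := Nat.exists_prime_and_dvd (fun e => hg (orderOf_eq_one_iff.1 e))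
    have ho : orderOf (g ^ (orderOf g / p)) = p := orderOf_pow_orderOf_div (orderOf_pos g).ne' hd
    have hpow : ∀ k : ℕ, (θ' g ^ k) v = v := by
      intro k
      induction k with
      | zero => rfl
      | succ k ih => rw [pow_succ, Module.End.mul_apply, hv, ih]
    have h1 := LinearMap.congr_fun (hsum _ (ho.symm ▸ hp)) v
    rw [LinearMap.sum_apply, ho, map_pow] at h1
    simp only [← pow_mul, hpow, LinearMap.zero_apply] at h1
    rw [sum_const, card_range, ← Nat.cast_smul_eq_nsmul (AlgebraicClosure ℚ)] at h1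
    exact (smul_eq_zero.1 h1).resolve_left (by exact_mod_cast hp.ne_zero)
  obtain ⟨W, ⟨hW0, hWi⟩, hmin⟩ := wellFounded_lt.has_min
    {W : Submodule (AlgebraicClosure ℚ) (Fin (N + 1) → AlgebraicClosure ℚ) | W ≠ ⊥ ∧ ∀ g, ∀ w ∈ W, θ' g w ∈ W}
    ⟨⊤, top_ne_bot, fun _ _ _ => Submodule.mem_top⟩
  let σ : G →* Module.End (AlgebraicClosure ℚ) W :=
    { toFun := fun g => (θ' g).restrict (hWi g)
      map_one' := LinearMap.ext fun w => Subtype.ext (by simp)
      map_mul' := fun g h => LinearMap.ext fun w => Subtype.ext (by simp) }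
  have hσ : ∀ g w, (σ g w : Fin (N + 1) → AlgebraicClosure ℚ) = θ' g w := fun g w => rfl
  set n := Module.finrank (AlgebraicClosure ℚ) W with hn
  let b := Module.finBasis (AlgebraicClosure ℚ) W
  let ρ₀ : G →* Matrix (Fin n) (Fin n) (AlgebraicClosure ℚ) :=
    (LinearMap.toMatrixAlgEquiv b).toAlgHom.toMonoidHom.comp σ
  have hρ₀ : ∀ g (v : Fin n → AlgebraicClosure ℚ), (ρ₀ g).mulVec v = b.equivFun (σ g (b.equivFun.symm v)) := by
    intro g v
    show (LinearMap.toMatrixAlgEquiv b (σ g)).mulVec v = _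
    conv_lhs => rw [← b.equivFun.apply_symm_apply v]
    exact LinearMap.toMatrix_mulVec_repr b b (σ g) _
  let ρ : G →* GL (Fin n) (AlgebraicClosure ℚ) := ρ₀.toHomUnits
  have hρ : ∀ g (v : Fin n → AlgebraicClosure ℚ),
      ((ρ g : GL (Fin n) (AlgebraicClosure ℚ)) : Matrix (Fin n) (Fin n) (AlgebraicClosure ℚ)).mulVec v =
        b.equivFun (σ g (b.equivFun.symm v)) := hρ₀
  have hfix' : ∀ g : G, g ≠ 1 → ∀ v : Fin n → AlgebraicClosure ℚ,
      ((ρ g : GL (Fin n) (AlgebraicClosure ℚ)) : Matrix (Fin n) (Fin n) (AlgebraicClosure ℚ)).mulVec v = v → v = 0 := by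
    intro g hg v hv
    rw [hρ] at hv
    have h1 : σ g (b.equivFun.symm v) = b.equivFun.symm v := b.equivFun.eq_symm_apply.2 hv
    have h2 := hfix g hg _ (congrArg Subtype.val h1)
    have h3 : b.equivFun.symm v = 0 := Subtype.ext h2
    exact b.equivFun.symm.map_eq_zero_iff.1 h3
  haveI : Nontrivial W := Submodule.nontrivial_iff_ne_bot.2 hW0
  have hpos : 0 < n := Module.finrank_pos
  refine ⟨n, ρ, hpos, ?_, ?_, hfix'⟩
  · rw [injective_iff_map_eq_one]
    intro g hg
    by_contra hg1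
    have h1 := hfix' g hg1 (Pi.single ⟨0, hpos⟩ 1) (by rw [hg, Units.val_one, Matrix.one_mulVec])
    simpa using congrFun h1 ⟨0, hpos⟩
  · intro U hU
    set U' : Submodule (AlgebraicClosure ℚ) (Fin (N + 1) → AlgebraicClosure ℚ) :=
      (U.map b.equivFun.symm.toLinearMap).map W.subtype with hU'
    have hle : U' ≤ W := Submodule.map_subtype_le _ _
    by_cases hU0 : U' = ⊥
    · left
      rw [Submodule.eq_bot_iff] at hU0 ⊢
      intro u hu
      exact b.equivFun.symm.map_eq_zero_iff.1 (Subtype.ext (hU0 _ ⟨_, ⟨u, hu, rfl⟩, rfl⟩))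
    · right
      have hinv : ∀ g, ∀ w ∈ U', θ' g w ∈ U' := by
        rintro g _ ⟨_, ⟨u, hu, rfl⟩, rfl⟩
        exact ⟨σ g (b.equivFun.symm u), ⟨_, hU g u hu, by rw [hρ]; exact b.equivFun.symm_apply_apply _⟩, hσ g _⟩
      have heq : U' = W := eq_of_le_of_not_lt hle (hmin U' ⟨hU0, hinv⟩)
      rw [eq_top_iff]
      intro v _
      have hv : (b.equivFun.symm v : Fin (N + 1) → AlgebraicClosure ℚ) ∈ U' := by rw [heq]; exact (b.equivFun.symm v).2
      obtain ⟨_, ⟨u, hu, rfl⟩, e⟩ := hv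
      have e' : u = v := b.equivFun.symm.injective (Subtype.ext e)
      exact e' ▸ hu

/-- Let G be a finite group that occurs as a Frobenius complement. Then G has a faithful irreducible representation over an algebraic closure of the rationals in which no non-identity element of G has 1 as an eigenvalue: there are n ≥ 1 and an injective homomorphism ρ from G to GL(n) over that field, with no invariant subspace other than 0 and the whole space, such that for g ≠ 1 the only vector fixed by ρ(g) is 0. -/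
theorem result {G : Type*} [Group G] [Finite G]
    (hFC : ∃ (L : Type) (_ : Group L) (_ : Finite L) (H : Subgroup L), Cfsg.IsFrobeniusComplement H ∧ Nonempty (G ≃* H)) :
    ∃ (n : ℕ) (ρ : G →* GL (Fin n) (AlgebraicClosure ℚ)), 0 < n ∧ Function.Injective ρ ∧
      (∀ W : Submodule (AlgebraicClosure ℚ) (Fin n → AlgebraicClosure ℚ),
        (∀ g : G, ∀ w ∈ W, ((ρ g : GL (Fin n) (AlgebraicClosure ℚ)) : Matrix (Fin n) (Fin n) (AlgebraicClosure ℚ)).mulVec w ∈ W) → W = ⊥ ∨ W = ⊤) ∧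
      ∀ g : G, g ≠ 1 → ∀ v : Fin n → AlgebraicClosure ℚ,
        ((ρ g : GL (Fin n) (AlgebraicClosure ℚ)) : Matrix (Fin n) (Fin n) (AlgebraicClosure ℚ)).mulVec v = v → v = 0 := by
  obtain ⟨L, iL, iLf, H, hH, ⟨eH⟩⟩ := hFC
  exact exists_irreducible_fpf ((hasFpf_of_frobeniusComplement hH).of_injective eH.toMonoidHom eH.injective)

end Cfsg.Agent.S3357
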