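import Cfsg.Statements.S4291

import Cfsg.Agent.Perm.ComplementQuotientSol
import Cfsg.Agent.Perm.FpfSources

set_option autoImplicit false
set_option linter.style.haveILetI false
open Cfsg

namespace Cfsg.Agent.S4291
open CfsgLib.Perm.Fpf

theorem odd_killer_a4 : ∀ x : alternatingGroup (Fin 4), x ^ 3 = 1 → x ≠ 1 →
    ∃ g, (g * x * g⁻¹ * x⁻¹) ^ 2 = 1 ∧ g * x * g⁻¹ * x⁻¹ ≠ 1 := by decide +kernel

theorem odd_killer_s4 : ∀ x : Equiv.Perm (Fin 4), x ^ 3 = 1 → x ≠ 1 →
    ∃ g, (g * x * g⁻¹ * x⁻¹) ^ 2 = 1 ∧ g * x * g⁻¹ * x⁻¹ ≠ 1 := by decide +kernel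

theorem odd_killer_v4 : ∀ x : DihedralGroup 2, x ^ 3 = 1 → x ≠ 1 →
    ∃ g, (g * x * g⁻¹ * x⁻¹) ^ 2 = 1 ∧ g * x * g⁻¹ * x⁻¹ ≠ 1 := by decide

theorem odd_normal_le_ker {G Q : Type*} [Group G] [Finite G] [Group Q] [Finite Q] (hQ : Nat.card Q ∣ 24)
    (hk : ∀ x : Q, x ^ 3 = 1 → x ≠ 1 → ∃ g, (g * x * g⁻¹ * x⁻¹) ^ 2 = 1 ∧ g * x * g⁻¹ * x⁻¹ ≠ 1)
    (O : Subgroup G) [O.Normal] (hO : Odd (Nat.card O)) (f : G →* Q) (hf : Function.Surjective f) : O ≤ f.ker := by
  intro x hx
  rw [MonoidHom.mem_ker]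
  by_contra h1
  have hn : (O.map f).Normal := Subgroup.Normal.map inferInstance f hf
  have hodd : ∀ y ∈ O.map f, Odd (orderOf y) := fun y hy =>
    Odd.of_dvd_nat hO ((Subgroup.orderOf_dvd_natCard (O.map f) hy).trans (Subgroup.card_map_dvd O f))
  have h3 : (f x) ^ 3 = 1 := by
    rw [← orderOf_dvd_iff_pow_eq_one]
    have hd : orderOf (f x) ∣ 2 ^ 3 * 3 := (orderOf_dvd_natCard _).trans (hQ.trans (by norm_num))
    exact (Nat.Coprime.pow_right 3 (Nat.coprime_two_right.2 (hodd _ ⟨x, hx, rfl⟩))).dvd_of_dvd_mul_left hd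
  obtain ⟨g, hg2, hg1⟩ := hk _ h3 h1
  haveI := Fact.mk Nat.prime_two
  have hmem : g * f x * g⁻¹ * (f x)⁻¹ ∈ O.map f := mul_mem (hn.conj_mem _ ⟨x, hx, rfl⟩ g) (inv_mem ⟨x, hx, rfl⟩)
  have := hodd _ hmem
  rw [orderOf_eq_prime hg2 hg1] at this
  exact absurd this (by decide)

theorem unique_solvable {G : Type*} [Group G] [Finite G] (h : HasFpf G) (hs : Group.IsSolvable G) :
    ∃! N : Subgroup G, N.Normal ∧ (∀ (p : ℕ) [Fact p.Prime] (P : Sylow p N), IsCyclic P) ∧ QuotientCond G N := by
  classical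
  haveI := Fact.mk Nat.prime_two
  haveI := hs
  obtain ⟨S⟩ : Nonempty (Sylow 2 G) := inferInstance
  rcases cyclic_or_quaternion h S.2 with hSc | ⟨n, ⟨eS⟩⟩
  · haveI hZ : IsZGroup G := ⟨fun p hp P => by
      haveI := Fact.mk hp
      by_cases hp2 : p = 2
      · subst hp2
        haveI := hSc
        exact isCyclic_of_surjective (Sylow.equiv S P).toMonoidHom (Sylow.equiv S P).surjective
      · exact isCyclic_odd h hp2 P.2⟩
    exact ⟨⊤, ⟨inferInstance, fun p hp P => IsZGroup.isZGroup p hp.out P, Or.inl rfl⟩,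
      fun N hN => eq_top_of_zgroup hN.2.2⟩
  haveI : NeZero (2 ^ (n + 1)) := ⟨by positivity⟩
  set O := Cfsg.pPrimeCore 2 G with hOdef
  haveI hOn : O.Normal := CfsgLib.Fus.normal_pPrimeCore 2
  have hOodd : Odd (Nat.card O) := Nat.coprime_two_right.1 (CfsgLib.Fus.coprime_card_pPrimeCore 2)
  set π := QuotientGroup.mk' O with hπ
  have hX : Cfsg.pPrimeCore 2 (G ⧸ O) = ⊥ := CfsgLib.Fus.pPrimeCore_quotient_eq_bot 2
  have hπS : ∀ T : Subgroup G, IsPGroup 2 T → Function.Injective (π.comp T.subtype) := by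
    intro T hT
    rw [← MonoidHom.ker_eq_bot_iff, Subgroup.eq_bot_iff_forall]
    intro t ht
    obtain ⟨k, hk⟩ := IsPGroup.iff_orderOf.1 hT t
    have hd : orderOf (t : G) ∣ Nat.card O := Subgroup.orderOf_dvd_natCard O ((QuotientGroup.eq_one_iff _).1 ht)
    rw [Subgroup.orderOf_coe, hk] at hd
    rcases Nat.eq_zero_or_pos k with rfl | hk0
    · exact orderOf_eq_one_iff.1 hk
    · exact absurd (even_iff_two_dvd.2 ((dvd_pow_self 2 hk0.ne').trans hd)) (Nat.not_even_iff_odd.2 hOodd)
  -- the two-subgroups of the quotient lift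
  have hlift : ∀ T : Subgroup (G ⧸ O), IsPGroup 2 T → ∃ T' : Subgroup G, IsPGroup 2 T' ∧ Nonempty (T' ≃* T) := by
    intro T hT
    obtain ⟨Q, hQ⟩ := hT.exists_le_sylow
    obtain ⟨R, hR⟩ := Sylow.mapSurjective_surjective (QuotientGroup.mk'_surjective O) 2 Q
    set T' := (R : Subgroup G) ⊓ T.comap π with hT'
    have hT'p : IsPGroup 2 T' := R.2.to_le inf_le_left
    refine ⟨T', hT'p, ⟨(MulEquiv.ofBijective ((π.comp T'.subtype).codRestrict T fun t => t.2.2)
      ⟨fun a b e => hπS T' hT'p (congrArg Subtype.val e), fun t => ?_⟩)⟩⟩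
    obtain ⟨r, hr, hrt⟩ : (t : G ⧸ O) ∈ (R : Subgroup G).map π := by
      have := hQ t.2
      rw [← hR] at this
      exact this
    exact ⟨⟨r, Subgroup.mem_inf.2 ⟨hr, show π r ∈ T from hrt.symm ▸ t.2⟩⟩, Subtype.ext hrt⟩
  have key : ∃! K : Subgroup (G ⧸ O), K.Normal ∧ (∀ T : Subgroup (G ⧸ O), T ≤ K → IsPGroup 2 T → IsCyclic T) ∧
      SolQuot (G ⧸ O) K := by
    by_cases hXp : IsPGroup 2 (G ⧸ O)
    · refine unique_two_group hXp (n := n) ((MulEquiv.ofBijective (π.comp (S : Subgroup G).subtype)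
        ⟨hπS _ S.2, ?_⟩).symm.trans eS)
      rw [← MonoidHom.range_eq_top, MonoidHom.range_comp, Subgroup.range_subtype]
      have hmap := Sylow.mapSurjective (QuotientGroup.mk'_surjective O) S
      exact (Sylow.mapSurjective (QuotientGroup.mk'_surjective O) S).is_maximal' (hXp.to_subgroup ⊤) le_top |>.symm
    · set T := Cfsg.pCore 2 (G ⧸ O) with hT
      haveI : T.Normal := CfsgLib.Fus.normal_pCore 2
      have hTp : IsPGroup 2 T := CfsgLib.Fus.isPGroup_pCore
      have hCT : Subgroup.centralizer (T : Set (G ⧸ O)) ≤ T := CfsgLib.Solv.centralizer_pCore_le hX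
      obtain ⟨x, q, hq, hq2, hxo⟩ : ∃ (x : G ⧸ O) (q : ℕ), q.Prime ∧ q ≠ 2 ∧ orderOf x = q := by
        by_contra hcon
        push Not at hcon
        refine hXp (IsPGroup.iff_orderOf.2 fun y => ⟨_, Nat.eq_prime_pow_of_unique_prime_dvd (orderOf_pos _).ne'
          (fun {d} hd hdd => by_contra fun hne => hcon _ d hd hne (orderOf_pow_orderOf_div (orderOf_pos y).ne' hdd))⟩)
      haveI := Fact.mk hq
      have hxT : x ∉ T := fun hx => by
        obtain ⟨k, hk⟩ := IsPGroup.iff_orderOf.1 hTp ⟨x, hx⟩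
        rw [Subgroup.orderOf_mk, hxo] at hk
        exact hq2 ((Nat.prime_dvd_prime_iff_eq hq Nat.prime_two).1 (hq.dvd_of_dvd_pow hk.dvd))
      obtain ⟨T', hT'p, ⟨eT'⟩⟩ := hlift T hTp
      rcases cyclic_or_quaternion h hT'p with hc | ⟨m, ⟨e'⟩⟩
      · exfalso
        haveI : IsCyclic T := isCyclic_of_surjective eT'.toMonoidHom eT'.surjective
        refine hxT (hCT (Subgroup.mem_centralizer_iff.2 fun t ht => ?_))
        by_cases hTb : T = ⊥
        · rw [hTb] at ht; rw [Subgroup.mem_bot.1 ht, mul_one, one_mul]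
        obtain ⟨k, hk⟩ := IsPGroup.iff_card.1 hTp
        obtain ⟨⟨z, hzT⟩, hz⟩ := exists_prime_orderOf_dvd_card' (G := T) 2
          (hk ▸ dvd_pow_self 2 (fun e => hTb (Subgroup.card_eq_one.1 (by rw [hk, e, pow_zero]))))
        rw [Subgroup.orderOf_mk] at hz
        have hz1 : z ≠ 1 := fun e => by rw [e, orderOf_one] at hz; omega
        have hxn : x ∈ Subgroup.normalizer (T : Set (G ⧸ O)) := by rw [Subgroup.normalizer_eq_top]; trivial
        have hfix : x * z = z * x := by
          have h1 : x * z * x⁻¹ ∈ T := (Subgroup.mem_normalizer_iff.1 hxn z).1 hzT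
          letI := Fintype.ofFinite T
          have hle := IsCyclic.card_pow_eq_one_le (α := T) (n := 2) two_pos
          by_contra hne
          have hsub : ({1, ⟨z, hzT⟩, ⟨_, h1⟩} : Finset T) ⊆ Finset.univ.filter fun y => y ^ 2 = 1 := by
            intro y hy
            simp only [Finset.mem_insert, Finset.mem_singleton] at hy
            refine Finset.mem_filter.2 ⟨Finset.mem_univ _, ?_⟩
            have hz2 : z ^ 2 = 1 := hz ▸ pow_orderOf_eq_one z
            rcases hy with rfl | rfl | rfl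
            · exact one_pow 2
            · exact Subtype.ext hz2
            · refine Subtype.ext ?_
              show (x * z * x⁻¹) ^ 2 = 1
              rw [conj_pow, hz2, mul_one, mul_inv_cancel]
          have hc3 := (Finset.card_le_card hsub).trans hle
          rw [Finset.card_eq_three.2 ⟨1, ⟨z, hzT⟩, ⟨_, h1⟩, fun e => hz1 (congrArg Subtype.val e).symm,
            fun e => hz1 (conj_eq_one_iff.1 (congrArg Subtype.val e).symm),
            fun e => hne (mul_inv_eq_iff_eq_mul.1 (congrArg Subtype.val e).symm), rfl⟩] at hc3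
          omega
        exact (centralizes_cyclic hTp inferInstance hxn (e := q)
          (fun hd => hq2 ((Nat.prime_dvd_prime_iff_eq Nat.prime_two hq).1 hd).symm)
          (fun y _ => by rw [← hxo, pow_orderOf_eq_one, one_mul, mul_one]) hzT hz1 hfix t ht).symm
      · have eT : T ≃* QuaternionGroup (2 ^ (m + 1)) := eT'.symm.trans e'
        by_cases hm : m = 0
        · subst hm
          exact unique_three inferInstance hX hXp eT
        · exfalso
          refine hxT (hCT (Subgroup.mem_centralizer_iff.2 fun t ht => ?_))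
          set ψ : MulAut T := MulAut.conjNormal x with hψ
          let φ : MulAut (QuaternionGroup (2 ^ (m + 1))) := (eT.symm.trans ψ).trans eT
          have hpw : ∀ i : ℕ, ∀ y, (φ ^ i : MulAut _) y = eT ((ψ ^ i : MulAut T) (eT.symm y)) := fun i => by
            induction i with
            | zero => intro y; simp
            | succ i ih =>
              intro y
              rw [pow_succ' φ, MulAut.mul_apply, ih, pow_succ' ψ, MulAut.mul_apply]
              simp [φ]
          have hφ : φ ^ (q ^ 1) = 1 := by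
            refine MulEquiv.ext fun y => ?_
            rw [hpw, pow_one, hψ, ← map_pow, show x ^ q = 1 from hxo ▸ pow_orderOf_eq_one x, map_one]
            simp
          have h3 := quaternion_aut_trivial' rfl φ hq (Or.inr ⟨hq2, Nat.one_le_iff_ne_zero.2 hm⟩) hφ (eT ⟨t, ht⟩)
          simp only [φ, MulEquiv.trans_apply, MulEquiv.symm_apply_apply, EmbeddingLike.apply_eq_iff_eq] at h3
          have h4 := congrArg Subtype.val h3
          rw [hψ, MulAut.conjNormal_apply] at h4
          exact (mul_inv_eq_iff_eq_mul.1 h4).symm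
  obtain ⟨K, ⟨hKn, hKc, hKq⟩, hKu⟩ := key
  haveI := hKn
  have hcond : QuotientCond G (K.comap π) := by
    rcases hKq with ⟨f, hf, hk⟩ | ⟨f, hf, hk⟩ | ⟨f, hf, hk⟩
    · exact Or.inr (Or.inl ⟨f.comp π, hf.comp (QuotientGroup.mk'_surjective O), by rw [← hk, MonoidHom.comap_ker]⟩)
    · exact Or.inr (Or.inr (Or.inl ⟨f.comp π, hf.comp (QuotientGroup.mk'_surjective O), by rw [← hk, MonoidHom.comap_ker]⟩))
    · exact Or.inr (Or.inr (Or.inr (Or.inl ⟨f.comp π, hf.comp (QuotientGroup.mk'_surjective O), by rw [← hk, MonoidHom.comap_ker]⟩)))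
  refine ⟨K.comap π, ⟨inferInstance, fun p hp P => ?_, hcond⟩, ?_⟩
  · by_cases hp2 : p = 2
    · subst hp2
      set P' := (P : Subgroup (K.comap π)).map (K.comap π).subtype with hP'
      have hP'p : IsPGroup 2 P' := P.2.map _
      haveI := hKc (P'.map π) (Subgroup.map_le_iff_le_comap.2 (Subgroup.map_subtype_le _)) (hP'p.map π)
      haveI : IsCyclic P' := isCyclic_of_injective
        ((π.comp P'.subtype).codRestrict (P'.map π) fun t => ⟨t, t.2, rfl⟩)
        (fun a b e => hπS P' hP'p (congrArg Subtype.val e))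
      exact isCyclic_of_injective (Subgroup.equivMapOfInjective _ _ (Subgroup.subtype_injective _)).toMonoidHom
        (MulEquiv.injective _)
    · exact isCyclic_odd (h.of_injective (K.comap π).subtype (Subgroup.subtype_injective _)) hp2 P.2
  rintro N ⟨hNn, hNc, hNQ⟩
  haveI := hNn
  have main : ∀ {Q : Type} [Group Q] [Finite Q] (f : G →* Q), Function.Surjective f → f.ker = N →
      Nat.card Q ∣ 24 → (∀ x : Q, x ^ 3 = 1 → x ≠ 1 → ∃ g, (g * x * g⁻¹ * x⁻¹) ^ 2 = 1 ∧ g * x * g⁻¹ * x⁻¹ ≠ 1) →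
      (∀ g : (G ⧸ O) →* Q, Function.Surjective g → SolQuot (G ⧸ O) g.ker) → N = K.comap π := by
    intro Q _ _ f hf hfk hcard hkill hsol
    have hle := odd_normal_le_ker hcard hkill O hOodd f hf
    set g := QuotientGroup.lift O f hle with hg
    have hgs : Function.Surjective g := fun a => by
      obtain ⟨b, rfl⟩ := hf a; exact ⟨π b, rfl⟩
    have hcomp : g.ker.comap π = N := by rw [MonoidHom.comap_ker, ← hfk]; rfl
    have hgK : g.ker = K := by
      refine hKu _ ⟨inferInstance, fun T hT hTp => ?_, hsol g hgs⟩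
      obtain ⟨Q', hQ'⟩ := hTp.exists_le_sylow
      obtain ⟨R, hR⟩ := Sylow.mapSurjective_surjective (QuotientGroup.mk'_surjective O) 2 Q'
      set T' := (R : Subgroup G) ⊓ T.comap π with hT'
      have hT'N : T' ≤ N := fun t ht => hcomp ▸ hT ht.2
      have hT'p : IsPGroup 2 T' := R.2.to_le inf_le_left
      obtain ⟨P, hP⟩ := (hT'p.comap_subtype (K := N)).exists_le_sylow
      haveI := hNc 2 P
      haveI : IsCyclic (T'.subgroupOf N) := isCyclic_of_injective (Subgroup.inclusion hP) (Subgroup.inclusion_injective hP)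
      haveI : IsCyclic T' := isCyclic_of_surjective (Subgroup.subgroupOfEquivOfLe hT'N).toMonoidHom (MulEquiv.surjective _)
      refine isCyclic_of_surjective ((π.comp T'.subtype).codRestrict T fun t => t.2.2) fun t => ?_
      obtain ⟨r, hr, hrt⟩ : (t : G ⧸ O) ∈ (R : Subgroup G).map π := by
        have := hQ' t.2
        rw [← hR] at this
        exact this
      exact ⟨⟨r, Subgroup.mem_inf.2 ⟨hr, show π r ∈ T from hrt.symm ▸ t.2⟩⟩, Subtype.ext hrt⟩
    rw [← hgK, hcomp]
  have hns5 : ∀ {Q : Type} [Group Q] (f : G →* Q), Function.Surjective f → ¬ Group.IsSolvable Q → False :=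
    fun f hf hQ => hQ (Group.isSolvable_of_surjective hf)
  rcases hNQ with e | ⟨f, hf, hk⟩ | ⟨f, hf, hk⟩ | ⟨f, hf, hk⟩ | ⟨f, hf, -⟩ | ⟨f, hf, -⟩
  · exfalso
    subst e
    obtain ⟨P, hP⟩ := (S.2.comap_subtype (K := (⊤ : Subgroup G))).exists_le_sylow
    haveI := hNc 2 P
    haveI : IsCyclic ((S : Subgroup G).subgroupOf ⊤) :=
      isCyclic_of_injective (Subgroup.inclusion hP) (Subgroup.inclusion_injective hP)
    haveI : IsCyclic (S : Subgroup G) :=
      isCyclic_of_surjective (Subgroup.subgroupOfEquivOfLe (le_top : (S : Subgroup G) ≤ ⊤)).toMonoidHom (MulEquiv.surjective _)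
    haveI : IsCyclic (QuaternionGroup (2 ^ (n + 1))) := isCyclic_of_surjective eS.toMonoidHom eS.surjective
    letI := IsCyclic.commGroup (α := QuaternionGroup (2 ^ (n + 1)))
    have h1 := mul_comm (QuaternionGroup.xa 0 : QuaternionGroup (2 ^ (n + 1))) (QuaternionGroup.a 1)
    rw [QuaternionGroup.xa_mul_a, QuaternionGroup.a_mul_xa, QuaternionGroup.xa.injEq] at h1
    have h2 : ((2 : ℕ) : ZMod (2 * 2 ^ (n + 1))) = 0 := by push_cast; linear_combination h1
    have := Nat.le_of_dvd two_pos ((ZMod.natCast_eq_zero_iff _ _).1 h2)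
    have : 2 ≤ 2 ^ (n + 1) := Nat.le_self_pow (by omega) 2
    omega
  · exact main f hf hk (by rw [v4_card]; norm_num) odd_killer_v4 fun g hg => Or.inl ⟨g, hg, rfl⟩
  · exact main f hf hk (by rw [a4_card]; norm_num) odd_killer_a4 fun g hg => Or.inr (Or.inl ⟨g, hg, rfl⟩)
  · exact main f hf hk (by rw [s4_card]) odd_killer_s4 fun g hg => Or.inr (Or.inr ⟨g, hg, rfl⟩)
  · exact (hns5 f hf not_solvable_alt5).elim
  · exact (hns5 f hf Equiv.Perm.not_isSolvable_fin_5).elim

/-- Let G be a finite group that occurs as a Frobenius complement. Then G has exactly one normal subgroup N such that every Sylow subgroup of N is cyclic and the quotient of G by N is trivial or isomorphic to one of the following five groups: the Klein four-group, the alternating group of degree 4, the symmetric group of degree 4, the alternating group of degree 5, the symmetric group of degree 5. (The quotient is described by a surjective homomorphism with kernel N; the Klein four-group is written as the dihedral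 group of order 4.) -/
theorem result {G : Type*} [Group G] [Finite G]
    (hFC : (∃ (L : Type) (_ : Group L) (_ : Finite L) (H : Subgroup L), Cfsg.IsFrobeniusComplement H ∧ Nonempty (G ≃* H))) :
    ∃! N : Subgroup G, N.Normal ∧ (∀ (p : ℕ) [Fact p.Prime] (P : Sylow p N), IsCyclic P) ∧
      (N = ⊤ ∨
        (∃ f : G →* DihedralGroup 2, Function.Surjective f ∧ f.ker = N) ∨
        (∃ f : G →* alternatingGroup (Fin 4), Function.Surjective f ∧ f.ker = N) ∨
        (∃ f : G →* Equiv.Perm (Fin 4), Function.Surjective f ∧ f.ker = N) ∨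
        (∃ f : G →* alternatingGroup (Fin 5), Function.Surjective f ∧ f.ker = N) ∨
        (∃ f : G →* Equiv.Perm (Fin 5), Function.Surjective f ∧ f.ker = N)) := by
  obtain ⟨L, _, _, H, hH, ⟨e⟩⟩ := hFC
  have h : HasFpf G := (hasFpf_of_frobeniusComplement hH).of_injective e.toMonoidHom e.injective
  by_cases hs : Group.IsSolvable G
  · exact unique_solvable h hs
  · exact unique_insoluble h hs

end Cfsg.Agent.S4291
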