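import Cfsg.Statements.S3358

import Cfsg.Agent.S4291
import Cfsg.Agent.Perm.FpfSources
import Cfsg.Agent.Perm.FpfBasic

set_option autoImplicit false
set_option linter.style.haveILetI false
open Cfsg

namespace Cfsg.Agent.S3358
open CfsgLib.Perm.Fpf
open scoped commutatorElement

/-- The metacyclic relators. -/
def relSet (n m r : ℕ) : Set (FreeGroup (Fin 2)) :=
  {FreeGroup.of (0 : Fin 2) ^ n, FreeGroup.of (1 : Fin 2) ^ m,
    (FreeGroup.of (0 : Fin 2))⁻¹ * FreeGroup.of 1 * FreeGroup.of 0 * (FreeGroup.of (1 : Fin 2) ^ r)⁻¹}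

theorem card_presented_le (n m r : ℕ) (hn : 0 < n) (hm : 0 < m) (hr : r.Coprime m) :
    Finite (PresentedGroup (relSet n m r)) ∧ Nat.card (PresentedGroup (relSet n m r)) ≤ n * m := by
  classical
  set a : PresentedGroup (relSet n m r) := PresentedGroup.of (0 : Fin 2) with ha
  set b : PresentedGroup (relSet n m r) := PresentedGroup.of (1 : Fin 2) with hb
  have ran : a ^ n = 1 := PresentedGroup.one_of_mem (x := FreeGroup.of (0 : Fin 2) ^ n) (by simp [relSet])
  have rbm : b ^ m = 1 := PresentedGroup.one_of_mem (x := FreeGroup.of (1 : Fin 2) ^ m) (by simp [relSet])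
  have rconj : a⁻¹ * b * a * (b ^ r)⁻¹ = 1 := PresentedGroup.one_of_mem
    (x := (FreeGroup.of (0 : Fin 2))⁻¹ * FreeGroup.of 1 * FreeGroup.of 0 * (FreeGroup.of (1 : Fin 2) ^ r)⁻¹)
    (by simp [relSet])
  have hab : a⁻¹ * b * a = b ^ r := mul_inv_eq_one.1 rconj
  have hbr : b ∈ Subgroup.zpowers (b ^ r) := by
    obtain ⟨k, hk⟩ := exists_pow_eq_self_of_coprime (x := b) (hr.coprime_dvd_right (orderOf_dvd_of_pow_eq_one rbm))
    exact ⟨k, by show (b ^ r) ^ (k : ℤ) = b; rw [zpow_natCast]; exact hk⟩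
  set B := Subgroup.zpowers b
  have hB1 : ∀ y ∈ B, a⁻¹ * y * a ∈ B := by
    intro y hy
    obtain ⟨k, rfl⟩ := hy
    show a⁻¹ * b ^ k * a ∈ B
    rw [show a⁻¹ * b ^ k * a = (a⁻¹ * b * a) ^ k by
      rw [show a⁻¹ * b * a = a⁻¹ * b * (a⁻¹)⁻¹ by rw [inv_inv], conj_zpow, inv_inv], hab]
    exact B.zpow_mem (B.pow_mem (Subgroup.mem_zpowers b) r) k
  have hB2 : ∀ y ∈ B, a * y * a⁻¹ ∈ B := by
    intro y hy
    obtain ⟨j, hj⟩ := hy
    change b ^ j = y at hj
    obtain ⟨i, hi⟩ := hbr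
    change (b ^ r) ^ i = b at hi
    have h2 : a⁻¹ * b ^ i * a = b := by
      rw [show a⁻¹ * b ^ i * a = (a⁻¹ * b * a) ^ i by
        rw [show a⁻¹ * b * a = a⁻¹ * b * (a⁻¹)⁻¹ by rw [inv_inv], conj_zpow, inv_inv], hab, hi]
    have h1 : a * b * a⁻¹ = b ^ i := by
      calc a * b * a⁻¹ = a * (a⁻¹ * b ^ i * a) * a⁻¹ := by rw [h2]
        _ = b ^ i := by group
    rw [← hj, ← conj_zpow, h1]
    exact B.zpow_mem (B.zpow_mem (Subgroup.mem_zpowers b) i) j
  have hB3 : ∀ y ∈ B, ∀ c ∈ B, c * y * c⁻¹ ∈ B := fun y hy c hc => B.mul_mem (B.mul_mem hc hy) (B.inv_mem hc)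
  haveI hBn : B.Normal := ⟨fun y hy g => by
    have htop : g ∈ Subgroup.closure (Set.range (PresentedGroup.of (rels := relSet n m r))) := by
      rw [PresentedGroup.closure_range_of]; trivial
    revert y hy
    induction htop using Subgroup.closure_induction'' with
    | mem x hx =>
      obtain ⟨i, rfl⟩ := hx
      fin_cases i
      · exact hB2
      · exact fun y hy => hB3 y hy b (Subgroup.mem_zpowers b)
    | inv_mem x hx =>
      obtain ⟨i, rfl⟩ := hx
      fin_cases i
      · intro y hy; rw [inv_inv]; exact hB1 y hy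
      · exact fun y hy => hB3 y hy b⁻¹ (B.inv_mem (Subgroup.mem_zpowers b))
    | one => intro y hy; simpa using hy
    | mul x z _ _ hx hz =>
      intro y hy
      rw [show x * z * y * (x * z)⁻¹ = x * (z * y * z⁻¹) * x⁻¹ by group]
      exact hx _ (hz y hy)⟩
  have htop : Subgroup.zpowers a ⊔ B = ⊤ := by
    rw [eq_top_iff, ← PresentedGroup.closure_range_of, Subgroup.closure_le]
    rintro _ ⟨i, rfl⟩
    fin_cases i
    · exact Subgroup.mem_sup_left (Subgroup.mem_zpowers a)
    · exact Subgroup.mem_sup_right (Subgroup.mem_zpowers b)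
  have key : ∀ (x : PresentedGroup (relSet n m r)) (N : ℕ), 0 < N → x ^ N = 1 → ∀ y ∈ Subgroup.zpowers x,
      ∃ i : Fin N, x ^ (i : ℕ) = y := by
    intro x N hN hx y hy
    obtain ⟨k, rfl⟩ := hy
    refine ⟨⟨(k % N).toNat, ?_⟩, ?_⟩
    · have := Int.emod_lt_of_pos k (by exact_mod_cast hN : (0 : ℤ) < N)
      have := Int.emod_nonneg k (by exact_mod_cast hN.ne' : (N : ℤ) ≠ 0)
      omega
    · show x ^ (k % N).toNat = x ^ k
      rw [← zpow_natCast, Int.toNat_of_nonneg (Int.emod_nonneg k (by exact_mod_cast hN.ne' : (N : ℤ) ≠ 0))]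
      conv_rhs => rw [← Int.mul_ediv_add_emod k N, zpow_add, zpow_mul, zpow_natCast, hx, one_zpow, one_mul]
  have hsurj : Function.Surjective (fun q : Fin n × Fin m => a ^ (q.1 : ℕ) * b ^ (q.2 : ℕ)) := by
    intro g
    have hg : g ∈ ((Subgroup.zpowers a ⊔ B : Subgroup _) : Set (PresentedGroup (relSet n m r))) := by
      rw [htop]; trivial
    rw [Subgroup.mul_normal] at hg
    obtain ⟨u, hu, v, hv, rfl⟩ := hg
    obtain ⟨i, hi⟩ := key a n hn ran u hu
    obtain ⟨j, hj⟩ := key b m hm rbm v hv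
    exact ⟨(i, j), by simp only [hi, hj]⟩
  exact ⟨Finite.of_surjective _ hsurj, (Nat.card_le_card_of_surjective _ hsurj).trans (by simp)⟩

theorem metacyclic_presentation {N : Type*} [Group N] [Finite N] [IsZGroup N] (h : HasFpf N) :
    ∃ n m r : ℕ, 0 < n ∧ 0 < m ∧ Nat.Coprime (r - 1) m ∧ Nat.Coprime n m ∧ 1 ≤ r ∧
      r ^ (n / ∏ p ∈ n.primeFactors, p) % m = 1 % m ∧ Nonempty (N ≃* PresentedGroup (relSet n m r)) := by
  classical
  set K := commutator N
  haveI : IsCyclic K := IsZGroup.isCyclic_commutator N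
  obtain ⟨C, hC⟩ := Subgroup.exists_right_complement'_of_coprime (IsZGroup.coprime_commutator_index (G := N))
  have hCcard : Nat.card C = K.index := hC.symm.index_eq_card.symm
  haveI : IsCyclic C := by
    haveI : IsCyclic (Abelianization N) := IsZGroup.isCyclic_abelianization
    have e : Abelianization N ≃* C := hC.symm.QuotientMulEquiv
    exact isCyclic_of_surjective e.toMonoidHom e.surjective
  obtain ⟨⟨y, hyK⟩, hy⟩ := IsCyclic.exists_generator (α := K)
  obtain ⟨⟨x, hxC⟩, hx⟩ := IsCyclic.exists_generator (α := C)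
  have hKy : K = Subgroup.zpowers y := by
    refine le_antisymm (fun z hz => ?_) (Subgroup.zpowers_le.2 hyK)
    obtain ⟨k, hk⟩ := hy ⟨z, hz⟩
    exact ⟨k, by simpa using congrArg Subtype.val hk⟩
  have hCx : C = Subgroup.zpowers x := by
    refine le_antisymm (fun z hz => ?_) (Subgroup.zpowers_le.2 hxC)
    obtain ⟨k, hk⟩ := hx ⟨z, hz⟩
    exact ⟨k, by simpa using congrArg Subtype.val hk⟩
  set m := orderOf y with hm
  set n := orderOf x with hn
  have hm0 : 0 < m := orderOf_pos y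
  have hn0 : 0 < n := orderOf_pos x
  have hcop : n.Coprime m := by
    have := IsZGroup.coprime_commutator_index (G := N)
    rw [← hCcard] at this
    rw [hn, hm, ← Nat.card_zpowers, ← Nat.card_zpowers, ← hKy, ← hCx]
    exact this.symm
  obtain ⟨r0, hr0⟩ : ∃ r0 : ℕ, x⁻¹ * y * x = y ^ r0 := by
    have hmem : x⁻¹ * y * x ∈ Subgroup.zpowers y := by
      rw [← hKy]
      have := Subgroup.Normal.conj_mem (inferInstance : K.Normal) y hyK x⁻¹
      rwa [inv_inv] at this
    obtain ⟨k, hk⟩ := mem_powers_iff_mem_zpowers.2 hmem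
    exact ⟨k, hk.symm⟩
  set r := r0 + m with hr
  have hrel : x⁻¹ * y * x = y ^ r := by rw [hr, pow_add, hm, pow_orderOf_eq_one, mul_one, hr0]
  have hr1 : 1 ≤ r := by omega
  have hpow : ∀ j : ℕ, (x ^ j)⁻¹ * y * x ^ j = y ^ (r ^ j) := by
    intro j
    induction j with
    | zero => simp
    | succ j ih =>
      calc (x ^ (j + 1))⁻¹ * y * x ^ (j + 1) = x⁻¹ * ((x ^ j)⁻¹ * y * x ^ j) * x := by rw [pow_succ]; group
        _ = (x⁻¹ * y * x) ^ (r ^ j) := by
          rw [ih, show x⁻¹ * y * x = x⁻¹ * y * (x⁻¹)⁻¹ by rw [inv_inv], conj_pow, inv_inv]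
        _ = _ := by rw [hrel, ← pow_mul, pow_succ']
  have hrn : (r : ZMod m) ^ n = 1 := by
    have h1 := hpow n
    rw [hn, pow_orderOf_eq_one, inv_one, one_mul, mul_one] at h1
    conv_lhs at h1 => rw [← pow_one y]
    rw [pow_eq_pow_iff_modEq, ← hm, ← hn, ← ZMod.natCast_eq_natCast_iff, Nat.cast_one, Nat.cast_pow] at h1
    exact h1.symm
  have hrcop : r.Coprime m := (ZMod.isUnit_iff_coprime r m).1 (IsUnit.of_pow_eq_one hrn hn0.ne')
  have hprime : ∀ p ∈ n.primeFactors, (r : ZMod m) ^ (n / p) = 1 := by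
    intro p hp
    obtain ⟨hpp, hpn, -⟩ := Nat.mem_primeFactors.1 hp
    set s := r ^ (n / p)
    have hw : orderOf (x ^ (n / p)) = p := orderOf_pow_orderOf_div hn0.ne' hpn
    have hsp : (s : ZMod m) ^ p = 1 := by
      rw [Nat.cast_pow, ← pow_mul, Nat.div_mul_cancel hpn, hrn]
    have hsum : IsUnit (∑ i ∈ Finset.range p, (s : ZMod m) ^ i) := by
      have hcast : (∑ i ∈ Finset.range p, (s : ZMod m) ^ i) = ((∑ i ∈ Finset.range p, s ^ i : ℕ) : ZMod m) := by
        push_cast; rfl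
      rw [hcast, ZMod.isUnit_iff_coprime]
      refine Nat.coprime_of_dvd fun q hq h1 h2 => ?_
      have hz : orderOf (y ^ (m / q)) = q := orderOf_pow_orderOf_div hm0.ne' h2
      have hconj : (x ^ (n / p))⁻¹ * y ^ (m / q) * x ^ (n / p) = (y ^ (m / q)) ^ s := by
        rw [← pow_mul, mul_comm (m / q), pow_mul, ← hpow,
          show (x ^ (n / p))⁻¹ * y * x ^ (n / p) = (x ^ (n / p))⁻¹ * y * ((x ^ (n / p))⁻¹)⁻¹ by rw [inv_inv], conj_pow, inv_inv]
      have hwi : orderOf (x ^ (n / p))⁻¹ = p := by rw [orderOf_inv]; exact hw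
      have h3 := commute_of_normalizes h hq hpp hz hwi (by
        rw [inv_inv, hconj]; exact Subgroup.npow_mem_zpowers _ _)
      rw [inv_inv, hconj] at h3
      conv_rhs at h3 => rw [← pow_one (y ^ (m / q))]
      rw [pow_eq_pow_iff_modEq, hz, ← ZMod.natCast_eq_natCast_iff, Nat.cast_one] at h3
      have h4 : ((∑ i ∈ Finset.range p, s ^ i : ℕ) : ZMod q) = (p : ZMod q) := by
        push_cast; simp [h3]
      rw [(ZMod.natCast_eq_zero_iff _ _).2 h1] at h4
      have h5 : q = p := (Nat.prime_dvd_prime_iff_eq hq hpp).1 ((ZMod.natCast_eq_zero_iff _ _).1 h4.symm)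
      subst h5
      exact hq.ne_one (Nat.eq_one_of_dvd_coprimes hcop hpn h2)
    have h6 := geom_sum_mul (s : ZMod m) p
    rw [hsp, sub_self] at h6
    rw [← Nat.cast_pow]
    exact sub_eq_zero.1 (hsum.mul_right_eq_zero.1 h6)
  have hfinal : (r : ZMod m) ^ (n / ∏ p ∈ n.primeFactors, p) = 1 := by
    rw [← orderOf_dvd_iff_pow_eq_one]
    set d := orderOf (r : ZMod m)
    obtain ⟨k, hk⟩ : d ∣ n := orderOf_dvd_of_pow_eq_one hrn
    have hpk : ∀ p ∈ n.primeFactors, p ∣ k := by
      intro p hp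
      obtain ⟨t, ht⟩ := orderOf_dvd_of_pow_eq_one (hprime p hp)
      have hd0 : 0 < d := Nat.pos_of_ne_zero fun h0 => hn0.ne' (by rw [hk, h0, zero_mul])
      refine ⟨t, Nat.eq_of_mul_eq_mul_left hd0 ?_⟩
      rw [← hk, mul_left_comm, ← ht, Nat.mul_div_cancel' (Nat.mem_primeFactors.1 hp).2.1]
    have hprod : (∏ p ∈ n.primeFactors, p) ∣ k := Finset.prod_primes_dvd k
      (fun p hp => (Nat.mem_primeFactors.1 hp).1.prime) hpk
    obtain ⟨u, hu⟩ := hprod
    refine ⟨u, Nat.div_eq_of_eq_mul_left (Finset.prod_pos fun p hp => (Nat.mem_primeFactors.1 hp).1.pos) ?_⟩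
    exact hk.trans (by rw [hu]; ring)
  have hrm1 : (r - 1).Coprime m := by
    set D := Subgroup.zpowers (y ^ (r - 1))
    have hDK : D ≤ K := Subgroup.zpowers_le.2 (K.pow_mem hyK _)
    haveI hDn : D.Normal := Subgroup.normalizer_eq_top_iff.1 (eq_top_iff.2 fun g _ => by
      refine Subgroup.mem_normalizer_fintype (S := (D : Set N)) fun z hz => ?_
      obtain ⟨i, rfl⟩ := hz
      have hgy : g * y * g⁻¹ ∈ Subgroup.zpowers y := by
        rw [← hKy]; exact Subgroup.Normal.conj_mem inferInstance y hyK g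
      obtain ⟨j, hj⟩ := hgy
      change y ^ j = g * y * g⁻¹ at hj
      show g * (y ^ (r - 1)) ^ i * g⁻¹ ∈ D
      rw [← conj_zpow, ← conj_pow, ← hj,
        show (y ^ j) ^ (r - 1) = (y ^ (r - 1)) ^ j by rw [← zpow_natCast, ← zpow_mul, mul_comm, zpow_mul, zpow_natCast]]
      exact D.zpow_mem (D.zpow_mem (Subgroup.mem_zpowers _) _) _)
    have hgen : Subgroup.closure ({x, y} : Set N) = ⊤ := by
      rw [eq_top_iff, ← hC.sup_eq_top]
      exact sup_le (by rw [show commutator N = Subgroup.zpowers y from hKy, Subgroup.zpowers_le]; exact Subgroup.subset_closure (by simp))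
        (by rw [hCx, Subgroup.zpowers_le]; exact Subgroup.subset_closure (by simp))
    have hKD : K ≤ D := by
      set π := QuotientGroup.mk' D
      have hcomm : π x * π y = π y * π x := by
        have h1 : π (x⁻¹ * y * x) = π y := by
          rw [hrel]
          rw [show y ^ r = y ^ (r - 1) * y by rw [← pow_succ, Nat.sub_add_cancel hr1], map_mul,
            show π (y ^ (r - 1)) = 1 from (QuotientGroup.eq_one_iff _).2 (Subgroup.mem_zpowers _), one_mul]
        rw [map_mul, map_mul, map_inv, mul_assoc, inv_mul_eq_iff_eq_mul] at h1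
        exact h1.symm
      haveI : IsMulCommutative (Subgroup.closure ({π x, π y} : Set (N ⧸ D))) :=
        Subgroup.isMulCommutative_closure (by rintro a (rfl | rfl) b (rfl | rfl) <;> simp [hcomm])
      have hall : ∀ a b : N ⧸ D, a * b = b * a := by
        have htop : Subgroup.closure ({π x, π y} : Set (N ⧸ D)) = ⊤ := by
          rw [← Set.image_pair, ← MonoidHom.map_closure, hgen, ← MonoidHom.range_eq_map,
            MonoidHom.range_eq_top.2 (QuotientGroup.mk'_surjective D)]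
        intro a b
        exact congrArg Subtype.val (mul_comm' (⟨a, by rw [htop]; trivial⟩ : Subgroup.closure ({π x, π y} : Set (N ⧸ D))) ⟨b, by rw [htop]; trivial⟩)
      show ⁅(⊤ : Subgroup N), ⊤⁆ ≤ D
      rw [Subgroup.commutator_le]
      intro a _ b _
      rw [← QuotientGroup.eq_one_iff]
      show π ⁅a, b⁆ = 1
      rw [map_commutatorElement, commutatorElement_eq_one_iff_mul_comm.2 (hall _ _)]
    have h7 : orderOf (y ^ (r - 1)) = m := by
      rw [← Nat.card_zpowers, show Subgroup.zpowers (y ^ (r - 1)) = K from le_antisymm hDK hKD, hKy, Nat.card_zpowers]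
    rw [orderOf_pow y] at h7
    have hg : m.gcd (r - 1) = 1 := by
      have h8 : m / m.gcd (r - 1) = m := h7
      exact (Nat.div_eq_self.1 h8).resolve_left hm0.ne'
    rw [Nat.Coprime, Nat.gcd_comm]; exact hg
  refine ⟨n, m, r, hn0, hm0, hrm1, hcop, hr1, ?_, ?_⟩
  · rw [← Nat.cast_pow, ← Nat.cast_one, ZMod.natCast_eq_natCast_iff] at hfinal
    exact hfinal
  let ρ : PresentedGroup (relSet n m r) →* N := PresentedGroup.toGroup (f := ![x, y]) (by
    intro rel hrl
    simp only [relSet, Set.mem_insert_iff, Set.mem_singleton_iff] at hrl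
    rcases hrl with rfl | rfl | rfl
    · simp [hn, pow_orderOf_eq_one]
    · simp [hm, pow_orderOf_eq_one]
    · simp [hrel])
  have hρ : Function.Surjective ρ := by
    rw [← MonoidHom.range_eq_top, eq_top_iff, ← hC.sup_eq_top]
    refine sup_le ?_ ?_
    · rw [show commutator N = Subgroup.zpowers y from hKy, Subgroup.zpowers_le]
      exact ⟨PresentedGroup.of (1 : Fin 2), by simp [ρ, PresentedGroup.toGroup.of]⟩
    · rw [hCx, Subgroup.zpowers_le]; exact ⟨PresentedGroup.of (0 : Fin 2), by simp [ρ, PresentedGroup.toGroup.of]⟩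
  obtain ⟨hfin, hle⟩ := card_presented_le n m r hn0 hm0 hrcop
  haveI := hfin
  have hNcard : Nat.card N = n * m := by
    rw [← K.card_mul_index, ← hCcard, hCx, hKy, Nat.card_zpowers, Nat.card_zpowers, mul_comm]
  exact ⟨(MulEquiv.ofBijective ρ ((Nat.bijective_iff_surjective_and_card ρ).2
    ⟨hρ, le_antisymm (hle.trans_eq hNcard.symm) (Nat.card_le_card_of_surjective ρ hρ)⟩)).symm⟩

theorem a5_not_solv : ¬ Group.IsSolvable A5 := fun h => Equiv.Perm.fin_5_not_solvable (by
  haveI := h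
  exact Group.isSolvable_of_ker_le_range (f := (alternatingGroup (Fin 5)).subtype) (g := Equiv.Perm.sign)
    (by rw [Subgroup.range_subtype]; exact le_of_eq rfl))

/-- Structure of solvable Frobenius complements. Let G be a finite solvable group that occurs as a Frobenius complement. Then G has a normal subgroup G₀ such that G/G₀ is isomorphic to a subgroup of Sym(4) (G₀ is the kernel of a homomorphism to Sym(4)), all Sylow subgroups of G₀ are cyclic, and G₀ has a presentation ⟨x, y | x^n = 1, y^m = 1, x⁻¹ y x = y^r⟩ with n, m ≥ 1, gcd(r − 1, m) = gcd(n, m) = 1 and r^(n/n′) ≡ 1 (mod m), where n′ is the product of the distinct primes dividing n. -/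
theorem result {G : Type*} [Group G] [Finite G] (hsol : Group.IsSolvable G)
    (hFC : ∃ (L : Type) (_ : Group L) (_ : Finite L) (H : Subgroup L), Cfsg.IsFrobeniusComplement H ∧ Nonempty (G ≃* H)) :
    ∃ G₀ : Subgroup G, G₀.Normal ∧
      (∃ f : G →* Equiv.Perm (Fin 4), f.ker = G₀) ∧
      (∀ (p : ℕ) [Fact p.Prime] (P : Sylow p G₀), IsCyclic P) ∧
      ∃ n m r : ℕ, 0 < n ∧ 0 < m ∧ Nat.Coprime (r - 1) m ∧ Nat.Coprime n m ∧ 1 ≤ r ∧
        r ^ (n / ∏ p ∈ n.primeFactors, p) % m = 1 % m ∧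
        Nonempty (G₀ ≃* PresentedGroup
          ({FreeGroup.of (0 : Fin 2) ^ n, FreeGroup.of (1 : Fin 2) ^ m,
            (FreeGroup.of (0 : Fin 2))⁻¹ * FreeGroup.of 1 * FreeGroup.of 0 * (FreeGroup.of (1 : Fin 2) ^ r)⁻¹} :
            Set (FreeGroup (Fin 2)))) := by
  classical
  obtain ⟨L, iL, iLf, H, hH, ⟨eH⟩⟩ := hFC
  have h : HasFpf G := (hasFpf_of_frobeniusComplement hH).of_injective eH.toMonoidHom eH.injective
  haveI := hsol
  obtain ⟨N, ⟨hNn, hNc, hNq⟩, -⟩ := Cfsg.Agent.S4291.unique_solvable h hsol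
  haveI := hNn
  haveI : IsZGroup N := ⟨fun p hp P => by haveI := Fact.mk hp; exact hNc p P⟩
  refine ⟨N, hNn, ?_, hNc, ?_⟩
  · rcases hNq with e | ⟨f, hf, e⟩ | ⟨f, hf, e⟩ | ⟨f, hf, e⟩ | ⟨f, hf, e⟩ | ⟨f, hf, e⟩
    · exact ⟨1, by rw [MonoidHom.ker_one, e]⟩
    · have eD : DihedralGroup 2 ≃ Fin 4 :=
        (Fintype.equivFinOfCardEq (DihedralGroup.card (n := 2)))
      refine ⟨(eD.permCongrHom.toMonoidHom.comp (MulAction.toPermHom (DihedralGroup 2) (DihedralGroup 2))).comp f, ?_⟩
      rw [← e]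
      ext g
      rw [MonoidHom.mem_ker, MonoidHom.mem_ker, MonoidHom.comp_apply, MonoidHom.comp_apply,
        MulEquiv.coe_toMonoidHom, EmbeddingLike.map_eq_one_iff]
      exact ⟨fun hg => by simpa using Equiv.ext_iff.1 hg 1, fun hg => by rw [hg, map_one]⟩
    · refine ⟨(alternatingGroup (Fin 4)).subtype.comp f, ?_⟩
      rw [← e]
      ext g
      simp
    · exact ⟨f, e⟩
    · exfalso
      haveI : Group.IsSolvable A5 := Group.isSolvable_of_surjective hf
      exact a5_not_solv inferInstance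
    · exfalso
      haveI : Group.IsSolvable (Equiv.Perm (Fin 5)) := Group.isSolvable_of_surjective hf
      exact Equiv.Perm.fin_5_not_solvable inferInstance
  · exact metacyclic_presentation (h.of_injective N.subtype N.subtype_injective)

end Cfsg.Agent.S3358
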