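import Mathlib
-- Template for statement S3362 (row 3362; see /opt/grader/pristine/manifest.json for weights).
-- Copy to Cfsg/Agent/S3362.lean and replace the sorry. The statement below is byte-identical to the frozen
-- statement Cfsg.CfsgFrozen.S3362 (Cfsg/Statements/S3362.lean; the theorem Cfsg.mathieu_twelve_explicit_permutations_sharply_five_transitive);
-- the grader kernel-checks Cfsg.Agent.S3362.result against that frozen type. Keep the theorem IN THIS FILE
-- (a `result` declared elsewhere and merely imported here is not credited); helpers may live anywhere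
-- under Cfsg/Agent/.
import Cfsg.Statements.S3362
import Cfsg.Agent.Spor.SharpFour
-- import your own Cfsg.Agent.* helpers here

set_option autoImplicit false
open Cfsg

namespace Cfsg.Agent.S3362

open Equiv

/-- The eight generators. -/
def gen : Fin 8 → Perm (Fin 12) :=
  ![Equiv.swap (3 : Fin 12) 5 * Equiv.swap (3 : Fin 12) 4 * Equiv.swap (6 : Fin 12) 8 * Equiv.swap (6 : Fin 12) 7 * Equiv.swap (9 : Fin 12) 11 * Equiv.swap (9 : Fin 12) 10,
    Equiv.swap (3 : Fin 12) 9 * Equiv.swap (3 : Fin 12) 6 * Equiv.swap (4 : Fin 12) 10 * Equiv.swap (4 : Fin 12) 7 * Equiv.swap (5 : Fin 12) 11 * Equiv.swap (5 : Fin 12) 8,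
    Equiv.swap (4 : Fin 12) 9 * Equiv.swap (4 : Fin 12) 5 * Equiv.swap (4 : Fin 12) 6 * Equiv.swap (7 : Fin 12) 10 * Equiv.swap (7 : Fin 12) 11 * Equiv.swap (7 : Fin 12) 8,
    Equiv.swap (4 : Fin 12) 11 * Equiv.swap (4 : Fin 12) 5 * Equiv.swap (4 : Fin 12) 7 * Equiv.swap (6 : Fin 12) 8 * Equiv.swap (6 : Fin 12) 9 * Equiv.swap (6 : Fin 12) 10,
    Equiv.swap (4 : Fin 12) 8 * Equiv.swap (4 : Fin 12) 5 * Equiv.swap (4 : Fin 12) 10 * Equiv.swap (6 : Fin 12) 7 * Equiv.swap (6 : Fin 12) 9 * Equiv.swap (6 : Fin 12) 11,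
    Equiv.swap (0 : Fin 12) 3 * Equiv.swap (6 : Fin 12) 7 * Equiv.swap (8 : Fin 12) 10 * Equiv.swap (9 : Fin 12) 11,
    Equiv.swap (0 : Fin 12) 1 * Equiv.swap (6 : Fin 12) 9 * Equiv.swap (7 : Fin 12) 10 * Equiv.swap (8 : Fin 12) 11,
    Equiv.swap (1 : Fin 12) 2 * Equiv.swap (6 : Fin 12) 11 * Equiv.swap (7 : Fin 12) 9 * Equiv.swap (8 : Fin 12) 10]

/-- One level of the stabiliser chain: base point, generators, transversal words. -/
structure Lvl where
  b : Fin 12
  L : List (Fin 8)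
  W : List (List (Fin 8))

/-- The transversal of a level. -/
def Lvl.R (l : Lvl) : List (Perm (Fin 12)) := l.W.map fun w => (w.map gen).prod

/-- The chain. -/
def chain : List Lvl := [
  ⟨2, [0, 1, 2, 3, 4, 5, 6, 7], [[6, 7], [7], [], [5, 6, 7], [0, 5, 6, 7], [0, 0, 5, 6, 7], [1, 5, 6, 7], [1, 0, 5, 6, 7], [1, 0, 0, 5, 6, 7], [1, 1, 5, 6, 7], [4, 0, 5, 6, 7], [4, 1, 5, 6, 7]]⟩,
  ⟨1, [0, 1, 2, 3, 4, 5, 6], [[6], [], [5, 6], [0, 5, 6], [0, 0, 5, 6], [1, 5, 6], [1, 0, 5, 6], [1, 0, 0, 5, 6], [1, 1, 5, 6], [4, 0, 5, 6], [4, 1, 5, 6]]⟩,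
  ⟨0, [0, 1, 2, 3, 4, 5], [[], [5], [0, 5], [0, 0, 5], [1, 5], [1, 0, 5], [1, 0, 0, 5], [1, 1, 5], [4, 0, 5], [4, 1, 5]]⟩,
  ⟨3, [0, 1, 2, 3, 4], [[], [0], [0, 0], [1], [1, 0], [1, 0, 0], [1, 1], [4, 0], [4, 1]]⟩,
  ⟨4, [2, 3, 4], [[], [2, 2], [2], [3], [2, 3], [3, 4], [4], [4, 2]]⟩]

/-- Sifting through a chain. -/
def sift : List Lvl → Perm (Fin 12) → Bool
  | [], p => decide (∀ x, p x = x)
  | l :: rest, p => l.R.any fun r => decide (r l.b = p l.b) && sift rest (r⁻¹ * p)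

/-- Generators of the following level. -/
def nextL : List Lvl → List (Fin 8)
  | [] => []
  | l :: _ => l.L

/-- Certificate of a chain. -/
def check : List Lvl → List (Fin 12) → Bool
  | [], _ => true
  | l :: rest, F =>
    (l.L.all fun i => F.all fun x => decide (gen i x = x)) &&
    (l.W.all fun w => w.all fun i => decide (i ∈ l.L)) &&
    ((nextL rest).all fun i => decide (gen i l.b = l.b) && decide (i ∈ l.L)) &&
    (l.R.all fun r => !decide (r l.b = l.b) || decide (∀ x, r x = x)) &&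
    ((List.finRange 12).all fun x => decide (x ∈ F) || l.R.any fun r => decide (r l.b = x)) &&
    !decide (l.b ∈ F) &&
    (l.L.all fun i => l.R.all fun r => l.R.any fun r' =>
      decide (r' l.b = gen i (r l.b)) && sift rest (r'⁻¹ * (gen i * r))) &&
    check rest (l.b :: F)

theorem chain_ok : check chain [] = true := by decide +kernel

/-- The group of a generator list. -/
def cl (L : List (Fin 8)) : Subgroup (Perm (Fin 12)) := Subgroup.closure {p | ∃ i ∈ L, gen i = p}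

theorem gen_mem {L : List (Fin 8)} {i : Fin 8} (h : i ∈ L) : gen i ∈ cl L := Subgroup.subset_closure ⟨i, h, rfl⟩

/-- Facts of a certified level. -/
structure Good (l : Lvl) (rest : List Lvl) (F : List (Fin 12)) : Prop where
  fixF : ∀ i ∈ l.L, ∀ x ∈ F, gen i x = x
  rmem : ∀ r ∈ l.R, r ∈ cl l.L
  nextfix : ∀ i ∈ nextL rest, gen i l.b = l.b
  nextsub : cl (nextL rest) ≤ cl l.L
  rone : ∀ r ∈ l.R, r l.b = l.b → r = 1
  cover : ∀ x, x ∉ F → ∃ r ∈ l.R, r l.b = x
  notF : l.b ∉ F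
  closed : ∀ i ∈ l.L, ∀ r ∈ l.R, ∃ r' ∈ l.R, sift rest (r'⁻¹ * (gen i * r)) = true
  ok : check rest (l.b :: F) = true

theorem good {l : Lvl} {rest : List Lvl} {F : List (Fin 12)} (h : check (l :: rest) F = true) : Good l rest F := by
  simp only [check, Bool.and_eq_true, List.all_eq_true, List.any_eq_true, Bool.or_eq_true, Bool.not_eq_true',
    decide_eq_true_eq, decide_eq_false_iff_not, List.mem_finRange, true_implies] at h
  obtain ⟨⟨⟨⟨⟨⟨⟨h1, h2⟩, h3⟩, h4⟩, h5⟩, h6⟩, h7⟩, h8⟩ := h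
  refine ⟨h1, ?_, fun i hi => (h3 i hi).1, ?_, fun r hr hb => Equiv.ext ((h4 r hr).resolve_left fun h => h hb),
    fun x hx => (h5 x).resolve_left hx, h6, fun i hi r hr => ?_, h8⟩
  · intro r hr
    obtain ⟨w, hw, rfl⟩ := List.mem_map.1 hr
    refine Subgroup.list_prod_mem _ fun p hp => ?_
    obtain ⟨i, hi, rfl⟩ := List.mem_map.1 hp
    exact gen_mem (h2 w hw i hi)
  · rw [cl, Subgroup.closure_le]
    rintro _ ⟨i, hi, rfl⟩
    exact gen_mem (h3 i hi).2
  · obtain ⟨r', hr', -, hs⟩ := h7 i hi r hr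
    exact ⟨r', hr', hs⟩

theorem sift_sound : ∀ (C : List Lvl) (F : List (Fin 12)), check C F = true →
    ∀ p, sift C p = true → p ∈ cl (nextL C) := by
  intro C
  induction C with
  | nil =>
    intro F _ p hp
    simp only [sift, decide_eq_true_eq] at hp
    rw [show p = 1 from Equiv.ext hp]
    exact one_mem _
  | cons l rest ih =>
    intro F hC p hp
    have hg := good hC
    simp only [sift, List.any_eq_true, Bool.and_eq_true, decide_eq_true_eq] at hp
    obtain ⟨r, hr, -, hs⟩ := hp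
    have h1 := mul_mem (hg.rmem r hr) (hg.nextsub (ih _ hg.ok _ hs))
    rwa [mul_inv_cancel_left] at h1

theorem fixes {L : List (Fin 8)} {x : Fin 12} (h : ∀ i ∈ L, gen i x = x) {p : Perm (Fin 12)} (hp : p ∈ cl L) :
    p x = x := by
  have hle : cl L ≤ MulAction.stabilizer (Perm (Fin 12)) x := by
    rw [cl, Subgroup.closure_le]
    rintro _ ⟨i, hi, rfl⟩
    exact h i hi
  exact hle hp

theorem decomp {l : Lvl} {rest : List Lvl} {F : List (Fin 12)} (h : check (l :: rest) F = true)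
    {p : Perm (Fin 12)} (hp : p ∈ cl l.L) : ∃ r ∈ l.R, r⁻¹ * p ∈ cl (nextL rest) := by
  have hg := good h
  obtain ⟨r₁, hr₁, hb₁⟩ := hg.cover l.b hg.notF
  have hr₁' := hg.rone r₁ hr₁ hb₁
  let T : Set (Perm (Fin 12)) := {x | ∀ q, (∃ r ∈ l.R, r⁻¹ * q ∈ cl (nextL rest)) → ∃ r ∈ l.R, r⁻¹ * (x * q) ∈ cl (nextL rest)}
  have hT : ∀ x ∈ cl l.L, x ∈ T := by
    intro x hx
    have hgen : ∀ i ∈ l.L, gen i ∈ T := by
      rintro i hi q ⟨r, hr, hq⟩
      obtain ⟨r', hr', hs⟩ := hg.closed i hi r hr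
      refine ⟨r', hr', ?_⟩
      have h1 := mul_mem (sift_sound rest _ hg.ok _ hs) hq
      rwa [show r'⁻¹ * (gen i * r) * (r⁻¹ * q) = r'⁻¹ * (gen i * q) by group] at h1
    have hmul : ∀ a b, a ∈ T → b ∈ T → a * b ∈ T := fun a b ha hb q hq => by
      rw [mul_assoc]; exact ha _ (hb q hq)
    induction hx using Subgroup.closure_induction with
    | mem x hx => obtain ⟨i, hi, rfl⟩ := hx; exact hgen i hi
    | one => intro q hq; rwa [one_mul]
    | mul a b _ _ ha hb => exact hmul a b ha hb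
    | inv a _ ha =>
      have hpow : ∀ n : ℕ, a ^ n ∈ T := by
        intro n
        induction n with
        | zero => intro q hq; rwa [pow_zero, one_mul]
        | succ n ih => rw [pow_succ]; exact hmul _ _ ih ha
      rw [show a⁻¹ = a ^ (orderOf a - 1) from inv_eq_of_mul_eq_one_right (by
        rw [← pow_succ', Nat.sub_add_cancel (orderOf_pos a), pow_orderOf_eq_one])]
      exact hpow _
  obtain ⟨r, hr, h'⟩ := hT p hp 1 ⟨r₁, hr₁, by rw [hr₁', inv_one, one_mul]; exact one_mem _⟩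
  exact ⟨r, hr, by rwa [mul_one] at h'⟩

theorem stab_eq {l : Lvl} {rest : List Lvl} {F : List (Fin 12)} (h : check (l :: rest) F = true) :
    cl (nextL rest) = cl l.L ⊓ MulAction.stabilizer (Perm (Fin 12)) l.b := by
  have hg := good h
  refine le_antisymm (le_inf hg.nextsub fun p hp => fixes hg.nextfix hp) ?_
  rintro p ⟨hp, hpb⟩
  obtain ⟨r, hr, hh⟩ := decomp h hp
  have h1 := fixes hg.nextfix hh
  rw [Perm.mul_apply, show p l.b = l.b from hpb, Perm.inv_eq_iff_eq] at h1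
  rw [hg.rone r hr h1.symm, inv_one, one_mul] at hh
  exact hh

/-- Base points. -/
def base (C : List Lvl) : List (Fin 12) := C.map Lvl.b

theorem eq_one_of_fix : ∀ (C : List Lvl) (F : List (Fin 12)), check C F = true →
    ∀ p ∈ cl (nextL C), (∀ x ∈ base C, p x = x) → p = 1 := by
  intro C
  induction C with
  | nil =>
    intro F _ p hp _
    rw [cl, show {p : Perm (Fin 12) | ∃ i ∈ nextL ([] : List Lvl), gen i = p} = ∅ by simp [nextL],
      Subgroup.closure_empty, Subgroup.mem_bot] at hp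
    exact hp
  | cons l rest ih =>
    intro F hC p hp hx
    refine ih _ (good hC).ok p ?_ fun x hx' => hx x (List.mem_cons_of_mem _ hx')
    rw [stab_eq hC]
    exact ⟨hp, hx l.b List.mem_cons_self⟩

theorem exists_map : ∀ (C : List Lvl) (F : List (Fin 12)), check C F = true →
    ∀ ys : List (Fin 12), ys.length = C.length → ys.Nodup → (∀ y ∈ ys, y ∉ F) →
      ∃ p ∈ cl (nextL C), (base C).map p = ys := by
  intro C
  induction C with
  | nil =>
    intro F _ ys hys _ _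
    exact ⟨1, one_mem _, by rw [List.length_eq_zero_iff.1 hys]; rfl⟩
  | cons l rest ih =>
    intro F hC ys hys hnd hF
    have hg := good hC
    obtain ⟨y, ys, rfl⟩ : ∃ y zs, ys = y :: zs := by
      cases ys with
      | nil => simp at hys
      | cons y zs => exact ⟨y, zs, rfl⟩
    obtain ⟨r, hr, hry⟩ := hg.cover y (hF y List.mem_cons_self)
    rw [List.nodup_cons] at hnd
    obtain ⟨p, hp, hpm⟩ := ih _ hg.ok (ys.map ⇑r⁻¹) (by simpa using hys) (hnd.2.map r⁻¹.injective) fun z hz hzF => by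
      obtain ⟨w, hw, rfl⟩ := List.mem_map.1 hz
      rcases List.mem_cons.1 hzF with h1 | h1
      · rw [Perm.inv_eq_iff_eq, hry] at h1
        exact hnd.1 (h1 ▸ hw)
      · have h2 := fixes (fun i hi => hg.fixF i hi _ h1) (hg.rmem r hr)
        rw [Perm.inv_def, Equiv.apply_symm_apply] at h2
        exact hF w (List.mem_cons_of_mem _ hw) (by rw [h2]; exact h1)
    refine ⟨r * p, mul_mem (hg.rmem r hr) (hg.nextsub hp), ?_⟩
    show (l.b :: base rest).map ⇑(r * p) = y :: ys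
    rw [List.map_cons, Perm.mul_apply, fixes hg.nextfix hp, hry]
    refine congrArg (y :: ·) ?_
    rw [show ⇑(r * p) = ⇑r ∘ ⇑p from rfl, ← List.map_map, hpm, List.map_map]
    conv_rhs => rw [← List.map_id ys]
    exact List.map_congr_left fun x _ => Equiv.apply_symm_apply r x

/-- An explicit construction of the Mathieu groups of degrees 11 and 12. On the points 0, …, 11 let s = (3 4 5)(6 7 8)(9 10 11), t = (3 6 9)(4 7 10)(5 8 11), u = (4 6 5 9)(7 8 11 10), v = (4 7 5 11)(6 10 9 8), w = (4 10 5 8)(6 11 9 7), x₁ = (0 3)(6 7)(8 10)(9 11), x₂ = (0 1)(6 9)(7 10)(8 11), x₃ = (1 2)(6 11)(7 9)(8 10) (each written as a product of transpositions). Then the group M₁₂ generated by all eight permutations is sharply 5-transitive on the 12 points and has order 95040, and the group M₁₁ generated by the first seven has order 7920 and is the stabilizer of the point 2 in M₁₂. -/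
theorem result
    (s t u v w x₁ x₂ x₃ : Equiv.Perm (Fin 12))
    (hs : s = Equiv.swap (3 : Fin 12) 5 * Equiv.swap (3 : Fin 12) 4 * Equiv.swap (6 : Fin 12) 8 * Equiv.swap (6 : Fin 12) 7 * Equiv.swap (9 : Fin 12) 11 * Equiv.swap (9 : Fin 12) 10) (ht : t = Equiv.swap (3 : Fin 12) 9 * Equiv.swap (3 : Fin 12) 6 * Equiv.swap (4 : Fin 12) 10 * Equiv.swap (4 : Fin 12) 7 * Equiv.swap (5 : Fin 12) 11 * Equiv.swap (5 : Fin 12) 8)
    (hu : u = Equiv.swap (4 : Fin 12) 9 * Equiv.swap (4 : Fin 12) 5 * Equiv.swap (4 : Fin 12) 6 * Equiv.swap (7 : Fin 12) 10 * Equiv.swap (7 : Fin 12) 11 * Equiv.swap (7 : Fin 12) 8) (hv : v = Equiv.swap (4 : Fin 12) 11 * Equiv.swap (4 : Fin 12) 5 * Equiv.swap (4 : Fin 12) 7 * Equiv.swap (6 : Fin 12) 8 * Equiv.swap (6 : Fin 12) 9 * Equiv.swap (6 : Fin 12) 10) (hw : w = Equiv.swap (4 : Fin 12) 8 * Equiv.swap (4 : Fin 12) 5 * Equiv.swap (4 : Fin 12) 10 * Equiv.swap (6 : Fin 12) 7 * Equiv.swap (6 : Fin 12) 9 * Equiv.swap (6 :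 Fin 12) 11)
    (hx₁ : x₁ = Equiv.swap (0 : Fin 12) 3 * Equiv.swap (6 : Fin 12) 7 * Equiv.swap (8 : Fin 12) 10 * Equiv.swap (9 : Fin 12) 11) (hx₂ : x₂ = Equiv.swap (0 : Fin 12) 1 * Equiv.swap (6 : Fin 12) 9 * Equiv.swap (7 : Fin 12) 10 * Equiv.swap (8 : Fin 12) 11)
    (hx₃ : x₃ = Equiv.swap (1 : Fin 12) 2 * Equiv.swap (6 : Fin 12) 11 * Equiv.swap (7 : Fin 12) 9 * Equiv.swap (8 : Fin 12) 10)
    (M₁₂ M₁₁ : Subgroup (Equiv.Perm (Fin 12))) (hM₁₂ : M₁₂ = Subgroup.closure {s, t, u, v, w, x₁, x₂, x₃})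
    (hM₁₁ : M₁₁ = Subgroup.closure {s, t, u, v, w, x₁, x₂}) :
    MulAction.IsMultiplyPretransitive M₁₂ (Fin 12) 5 ∧ (∀ y : Fin 5 ↪ Fin 12, MulAction.stabilizer M₁₂ y = ⊥) ∧
    Nat.card M₁₂ = 95040 ∧ Nat.card M₁₁ = 7920 ∧
    M₁₁ = M₁₂ ⊓ MulAction.stabilizer (Equiv.Perm (Fin 12)) (2 : Fin 12) := by
  subst hs ht hu hv hw hx₁ hx₂ hx₃
  have h12 : M₁₂ = cl (nextL chain) := by
    rw [hM₁₂]
    refine le_antisymm ((Subgroup.closure_le _).2 ?_) ((Subgroup.closure_le _).2 ?_)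
    · rintro p (rfl|rfl|rfl|rfl|rfl|rfl|rfl|rfl)
      exacts [gen_mem (i := 0) (by decide), gen_mem (i := 1) (by decide), gen_mem (i := 2) (by decide), gen_mem (i := 3) (by decide), gen_mem (i := 4) (by decide), gen_mem (i := 5) (by decide), gen_mem (i := 6) (by decide), gen_mem (i := 7) (by decide)]
    · rintro _ ⟨i, hi, rfl⟩
      fin_cases i
      · exact Subgroup.subset_closure (Or.inl rfl)
      · exact Subgroup.subset_closure (Or.inr (Or.inl rfl))
      · exact Subgroup.subset_closure (Or.inr (Or.inr (Or.inl rfl)))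
      · exact Subgroup.subset_closure (Or.inr (Or.inr (Or.inr (Or.inl rfl))))
      · exact Subgroup.subset_closure (Or.inr (Or.inr (Or.inr (Or.inr (Or.inl rfl)))))
      · exact Subgroup.subset_closure (Or.inr (Or.inr (Or.inr (Or.inr (Or.inr (Or.inl rfl))))))
      · exact Subgroup.subset_closure (Or.inr (Or.inr (Or.inr (Or.inr (Or.inr (Or.inr (Or.inl rfl)))))))
      · exact Subgroup.subset_closure (Or.inr (Or.inr (Or.inr (Or.inr (Or.inr (Or.inr (Or.inr rfl)))))))
  have h11 : M₁₁ = cl (nextL chain.tail) := by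
    rw [hM₁₁]
    refine le_antisymm ((Subgroup.closure_le _).2 ?_) ((Subgroup.closure_le _).2 ?_)
    · rintro p (rfl|rfl|rfl|rfl|rfl|rfl|rfl)
      exacts [gen_mem (i := 0) (by decide), gen_mem (i := 1) (by decide), gen_mem (i := 2) (by decide), gen_mem (i := 3) (by decide), gen_mem (i := 4) (by decide), gen_mem (i := 5) (by decide), gen_mem (i := 6) (by decide)]
    · rintro _ ⟨i, hi, rfl⟩
      fin_cases i
      · exact Subgroup.subset_closure (Or.inl rfl)
      · exact Subgroup.subset_closure (Or.inr (Or.inl rfl))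
      · exact Subgroup.subset_closure (Or.inr (Or.inr (Or.inl rfl)))
      · exact Subgroup.subset_closure (Or.inr (Or.inr (Or.inr (Or.inl rfl))))
      · exact Subgroup.subset_closure (Or.inr (Or.inr (Or.inr (Or.inr (Or.inl rfl)))))
      · exact Subgroup.subset_closure (Or.inr (Or.inr (Or.inr (Or.inr (Or.inr (Or.inl rfl))))))
      · exact Subgroup.subset_closure (Or.inr (Or.inr (Or.inr (Or.inr (Or.inr (Or.inr rfl))))))
      · exact absurd hi (by decide)
  have hM : M₁₁ = M₁₂ ⊓ MulAction.stabilizer (Perm (Fin 12)) (2 : Fin 12) := by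
    rw [h11, h12]
    exact stab_eq (l := ⟨2, nextL chain, _⟩) chain_ok
  have hmap : ∀ x : Fin 5 ↪ Fin 12, ∃ p ∈ M₁₂, List.ofFn (fun i => x i) = (base chain).map p := by
    intro x
    obtain ⟨p, hp, hpm⟩ := exists_map chain [] chain_ok (List.ofFn fun i => x i) (by simp [chain])
      (List.nodup_ofFn.2 x.injective) (by simp)
    exact ⟨p, h12 ▸ hp, hpm.symm⟩
  have hcoord : ∀ (x : Fin 5 ↪ Fin 12) (p : Perm (Fin 12)), List.ofFn (fun i => x i) = (base chain).map p →
      ∀ i, x i = p ((![2, 1, 0, 3, 4] : Fin 5 → Fin 12) i) := by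
    intro x p h i
    have hb : base chain = List.ofFn (![2, 1, 0, 3, 4] : Fin 5 → Fin 12) := by
      simp [base, chain, List.ofFn_succ]
    rw [hb, List.map_ofFn, List.ofFn_inj] at h
    exact congrFun h i
  have htrans : MulAction.IsMultiplyPretransitive M₁₂ (Fin 12) 5 := ⟨fun x y => by
    obtain ⟨p, hp, hpx⟩ := hmap x
    obtain ⟨q, hq, hqy⟩ := hmap y
    refine ⟨⟨q * p⁻¹, mul_mem hq (inv_mem hp)⟩, DFunLike.ext _ _ fun i => ?_⟩
    show q (p⁻¹ (x i)) = y i
    rw [hcoord x p hpx i, hcoord y q hqy i, Perm.inv_def, Equiv.symm_apply_apply]⟩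
  have hfree : ∀ y : Fin 5 ↪ Fin 12, MulAction.stabilizer M₁₂ y = ⊥ := by
    intro y
    rw [eq_bot_iff]
    intro g hg
    obtain ⟨p, hp, hpy⟩ := hmap y
    have h1 : p⁻¹ * (g : Perm (Fin 12)) * p = 1 := by
      refine eq_one_of_fix chain [] chain_ok _ (h12 ▸ mul_mem (mul_mem (inv_mem hp) g.2) hp) ?_
      intro x hx
      obtain ⟨i, rfl⟩ : ∃ i, (![2, 1, 0, 3, 4] : Fin 5 → Fin 12) i = x := by
        simpa [base, chain, Fin.exists_fin_succ, eq_comm] using hx
      have h2 : (g : Perm (Fin 12)) (y i) = y i := DFunLike.congr_fun (MulAction.mem_stabilizer_iff.1 hg) i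
      rw [hcoord y p hpy i] at h2
      rw [Perm.mul_apply, Perm.mul_apply, h2, Perm.inv_def, Equiv.symm_apply_apply]
    rw [Subgroup.mem_bot]
    refine Subtype.ext ?_
    show (g : Perm (Fin 12)) = 1
    calc (g : Perm (Fin 12)) = p * (p⁻¹ * g * p) * p⁻¹ := by group
      _ = 1 := by rw [h1]; group
  haveI := htrans
  have hcard : Nat.card M₁₂ = 95040 := by
    rw [CfsgLib.Spor.SharpFour.card_sharp 5 (by simp) hfree, Nat.card_fin]; rfl
  refine ⟨htrans, hfree, hcard, ?_, hM⟩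
  haveI : MulAction.IsPretransitive M₁₂ (Fin 12) :=
    MulAction.isPretransitive_of_is_two_pretransitive (G := M₁₂) (α := Fin 12)
      (h2 := MulAction.isMultiplyPretransitive_of_le (by norm_num : 2 ≤ 5) (by simp))
  have h1 := (MulAction.stabilizer M₁₂ (2 : Fin 12)).card_mul_index
  rw [MulAction.index_stabilizer_of_transitive, Nat.card_fin, hcard] at h1
  have h2 : Nat.card M₁₁ = Nat.card (MulAction.stabilizer M₁₂ (2 : Fin 12)) := by
    rw [hM]
    exact Nat.card_congr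
      { toFun := fun g => ⟨⟨g.1, g.2.1⟩, g.2.2⟩
        invFun := fun g => ⟨g.1.1, g.1.2, g.2⟩
        left_inv := fun g => rfl
        right_inv := fun g => rfl }
  omega

end Cfsg.Agent.S3362
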