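import Cfsg.Statements.S3370
import Cfsg.Agent.Solv.UniqueSub
import Mathlib.LinearAlgebra.Matrix.GeneralLinearGroup.Card
import Mathlib.NumberTheory.Multiplicity
import Mathlib.Algebra.Ring.GeomSum
import Mathlib.FieldTheory.Finiteness
import Mathlib.GroupTheory.Sylow
import Mathlib.LinearAlgebra.Dimension.Free
-- import your own Cfsg.Agent.* helpers here

set_option autoImplicit false
open Cfsg

namespace Cfsg.Agent.S3370

theorem int_congr (x : ℤ) : ∀ j : ℕ, x ^ 2 ∣ (x - 1) ^ (2 * j + 1) + 1 - (2 * j + 1) * x := by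
  intro j
  induction j with
  | zero => simp
  | succ j ih =>
    obtain ⟨c, hc⟩ := ih
    refine ⟨c * (x - 1) ^ 2 + ((2 * j + 1) * x - 1) - 2 * (2 * j + 1), ?_⟩
    have e : (x - 1) ^ (2 * (j + 1) + 1) = (x - 1) ^ (2 * j + 1) * (x - 1) ^ 2 := by
      rw [← pow_add]; congr 1
    have h' : (x - 1) ^ (2 * j + 1) = x ^ 2 * c + (2 * j + 1) * x - 1 := by linarith
    rw [e, h']
    push_cast
    ring

theorem two_pow_sub_one {p n k : ℕ} (hp : p.Prime) (hn : 2 ≤ n) (h : 2 ^ n - 1 = p ^ k) : k = 1 := by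
  obtain ⟨a, ha⟩ : (4 : ℕ) ∣ 2 ^ n := Dvd.intro (2 ^ (n - 2)) (by rw [show (4 : ℕ) = 2 ^ 2 by rfl, ← pow_add, Nat.add_sub_cancel' hn])
  have e : p ^ k + 1 = 2 ^ n := by
    have := Nat.one_le_two_pow (n := n)
    omega
  have hp2 : p ≠ 2 := by
    rintro rfl
    rcases Nat.eq_zero_or_pos k with rfl | hk
    · omega
    · have : 2 ∣ 2 ^ k := dvd_pow_self 2 hk.ne'
      omega
  obtain ⟨r, hr⟩ : ∃ r, k = 2 * r ∨ k = 2 * r + 1 := ⟨k / 2, by omega⟩
  rcases hr with rfl | rfl
  · exfalso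
    have hsq : (p ^ r) * (p ^ r) + 1 = 2 ^ n := by rw [← e, two_mul, pow_add]
    have hm := Nat.mul_mod (p ^ r) (p ^ r) 4
    have hlt : p ^ r % 4 < 4 := Nat.mod_lt _ (by norm_num)
    generalize hg : p ^ r % 4 = u at *
    interval_cases u <;> omega
  rcases Nat.eq_zero_or_pos r with rfl | hr0
  · rfl
  exfalso
  have hdvd : p + 1 ∣ p ^ (2 * r + 1) + 1 := by
    simpa using (odd_two_mul_add_one r).nat_add_dvd_pow_add_pow p 1
  rw [e] at hdvd
  obtain ⟨b, -, hb⟩ := (Nat.dvd_prime_pow Nat.prime_two).1 hdvd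
  have hb0 : b ≠ 0 := by
    rintro rfl
    have := hp.two_le
    simp at hb
    omega
  have hbig : 2 ^ (2 * b) < 2 ^ n := by
    rw [← e, two_mul, pow_add, ← hb]
    have h3 : 3 ≤ p := by have := hp.two_le; omega
    have : p ^ 3 ≤ p ^ (2 * r + 1) := Nat.pow_le_pow_right hp.pos (by omega)
    nlinarith
  have hbn : 2 * b < n := (Nat.pow_lt_pow_iff_right (by norm_num)).1 hbig
  obtain ⟨c, hc⟩ := int_congr ((2 : ℤ) ^ b) r
  have hx : (p : ℤ) = 2 ^ b - 1 := by
    have : ((p + 1 : ℕ) : ℤ) = ((2 ^ b : ℕ) : ℤ) := by rw [hb]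
    push_cast at this
    linarith
  have he : (p : ℤ) ^ (2 * r + 1) + 1 = 2 ^ n := by exact_mod_cast e
  rw [← hx, he] at hc
  have hn' : (2 : ℤ) ^ n = 2 ^ b * (2 ^ b * 2 ^ (n - 2 * b)) := by
    rw [← pow_add, ← pow_add]; congr 1; omega
  rw [hn', pow_two] at hc
  have hd : (2 : ℤ) ^ b ∣ 2 * (r : ℤ) + 1 := by
    refine ⟨2 ^ (n - 2 * b) - c, ?_⟩
    have h0 : ((2 : ℤ) ^ b) ≠ 0 := pow_ne_zero _ (by norm_num)
    apply mul_left_cancel₀ h0
    linear_combination (-1 : ℤ) * hc
  obtain ⟨d, hd'⟩ := (dvd_pow_self (2 : ℤ) hb0).trans hd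
  omega

theorem odd_case {q n k : ℕ} (hq : q.Prime) (hq2 : q ≠ 2) (hn : 2 ≤ n) (h : q ^ n - 1 = 2 ^ k) : q = 3 ∧ n = 2 := by
  have hodd : Odd q := hq.odd_of_ne_two hq2
  obtain ⟨r, hr⟩ : ∃ r, n = 2 * r ∨ n = 2 * r + 1 := ⟨n / 2, by omega⟩
  rcases hr with rfl | rfl
  · have hd : (q ^ r + 1) * (q ^ r - 1) = 2 ^ k := by
      rw [← Nat.sq_sub_sq, ← pow_mul, one_pow, mul_comm r 2, h]
    obtain ⟨a, -, ha⟩ := (Nat.dvd_prime_pow Nat.prime_two).1 (Dvd.intro _ hd)
    obtain ⟨b, -, hb⟩ := (Nat.dvd_prime_pow Nat.prime_two).1 (Dvd.intro_left _ hd)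
    have hr0 : r ≠ 0 := by omega
    have h3 : 3 ≤ q ^ r := le_trans (by have := hq.two_le; omega) (Nat.le_self_pow hr0 q)
    have hb1 : b = 1 := by
      rcases b with _ | _ | b
      · simp at hb; omega
      · rfl
      · exfalso
        rcases a with _ | _ | a
        · simp only [pow_zero] at ha
          omega
        · simp only [zero_add, pow_one] at ha; omega
        · have e1 : 4 ∣ 2 ^ (b + 2) := ⟨2 ^ b, by rw [pow_add]; ring⟩
          have e2 : 4 ∣ 2 ^ (a + 2) := ⟨2 ^ a, by rw [pow_add]; ring⟩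
          omega
    subst hb1
    have hqr : q ^ r = 3 := by simp at hb; omega
    have hr1 : r = 1 := (Nat.prime_three.pow_eq_iff).1 hqr |>.2
    subst hr1
    exact ⟨by simpa using hqr, rfl⟩
  · exfalso
    obtain ⟨x, rfl⟩ : ∃ x, q = x + 1 := ⟨q - 1, by have := hq.two_le; omega⟩
    have hg := geom_sum_mul_add x (2 * r + 1)
    obtain ⟨a, -, ha⟩ := (Nat.dvd_prime_pow Nat.prime_two).1
      (show (∑ i ∈ Finset.range (2 * r + 1), (x + 1) ^ i) ∣ 2 ^ k from Dvd.intro x (by omega))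
    have hso : Odd (∑ i ∈ Finset.range (2 * r + 1), (x + 1) ^ i) := by
      rw [Finset.odd_sum_iff_odd_card_odd, Finset.filter_true_of_mem (fun i _ => hodd.pow), Finset.card_range]
      exact odd_two_mul_add_one r
    rw [ha] at hso
    have ha0 : a = 0 := by
      by_contra ha0
      exact (Nat.not_even_iff_odd.2 hso) ((even_two).pow_of_ne_zero ha0)
    subst ha0
    have : 2 ≤ ∑ i ∈ Finset.range (2 * r + 1), (x + 1) ^ i := by
      rw [Finset.sum_range_succ', pow_zero]
      have : 1 ≤ ∑ i ∈ Finset.range (2 * r), (x + 1) ^ (i + 1) := by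
        refine le_trans (Nat.one_le_pow 1 (x + 1) (by omega)) (Finset.single_le_sum (f := fun i => (x + 1) ^ (i + 1)) (fun i _ => Nat.zero_le _) (Finset.mem_range.2 (show 0 < 2 * r by omega)))
      omega
    simp at ha
    omega

abbrev GL23 := GL (Fin 2) (ZMod 3)

theorem sylow_decide : ∀ a b c d : ZMod 3,
    (!![a, b; c, d] * !![1, 1; 1, 0] = !![1, 1; 1, 0] * !![a, b; c, d] ∨
      !![a, b; c, d] * !![1, 1; 1, 0] = !![0, 2; 2, 1] * !![a, b; c, d]) → a * d - b * c ≠ 0 →
    !![a, b; c, d] ^ 8 = (1 : Matrix (Fin 2) (Fin 2) (ZMod 3)) := by decide +kernel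

def qx : GL23 := ⟨!![1, 1; 1, 0], !![0, 1; 1, 2], by decide +kernel, by decide +kernel⟩

def qy : GL23 := ⟨!![1, 0; 2, 2], !![1, 0; 2, 2], by decide +kernel, by decide +kernel⟩

theorem qx_cube : (qx ^ 3 : GL23).1 = !![0, 2; 2, 1] := by decide +kernel
theorem qx_four : qx ^ 4 ≠ 1 := by decide +kernel
theorem qx_eight : qx ^ 8 = 1 := by decide +kernel
theorem qx_nine : (qx ^ 3) ^ 3 = qx := by decide +kernel
theorem qy_sq : qy * qy = 1 := by decide +kernel
theorem qy_ne : qy ≠ 1 := by decide +kernel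
theorem qy_conj : qy * qx * qy⁻¹ = qx ^ 3 := by decide +kernel

def QS : Subgroup GL23 where
  carrier := {g | g * qx * g⁻¹ = qx ∨ g * qx * g⁻¹ = qx ^ 3}
  one_mem' := Or.inl (by group)
  mul_mem' := by
    intro g h hg hh
    have e : g * h * qx * (g * h)⁻¹ = g * (h * qx * h⁻¹) * g⁻¹ := by group
    have e3 : g * qx ^ 3 * g⁻¹ = (g * qx * g⁻¹) ^ 3 := conj_pow.symm
    simp only [Set.mem_setOf_eq, e] at hg hh ⊢
    rcases hh with hh | hh <;> rw [hh] <;> rcases hg with hg | hg
    · exact Or.inl hg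
    · exact Or.inr hg
    · exact Or.inr (by rw [e3, hg])
    · exact Or.inl (by rw [e3, hg, qx_nine])
  inv_mem' := by
    intro g hg
    simp only [Set.mem_setOf_eq, inv_inv] at hg ⊢
    rcases hg with hg | hg
    · exact Or.inl (by nth_rewrite 1 [← hg]; group)
    · refine Or.inr ?_
      have e : g⁻¹ * qx ^ 3 * g = qx := by rw [← hg]; group
      have e3 : (g⁻¹ * qx ^ 3 * g) ^ 3 = g⁻¹ * (qx ^ 3) ^ 3 * g := by
        have := (conj_pow (i := 3) (a := g⁻¹) (b := qx ^ 3))
        rwa [inv_inv] at this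
      rw [e, qx_nine] at e3
      exact e3.symm

theorem QS_pgroup : IsPGroup 2 QS := by
  rintro ⟨g, hg⟩
  refine ⟨3, Subtype.ext (Units.ext ?_)⟩
  change (g ^ (2 ^ 3)).1 = 1
  rw [show (2 : ℕ) ^ 3 = 8 by rfl, Units.val_pow_eq_pow_val]
  obtain ⟨M, hM⟩ : ∃ M : Matrix (Fin 2) (Fin 2) (ZMod 3), M = g.1 := ⟨_, rfl⟩
  rw [← hM]
  have hd : M.det ≠ 0 := by
    rw [hM]; exact (Matrix.isUnit_iff_isUnit_det _).1 g.isUnit |>.ne_zero
  have hc : M * !![1, 1; 1, 0] = !![1, 1; 1, 0] * M ∨ M * !![1, 1; 1, 0] = !![0, 2; 2, 1] * M := by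
    rcases hg with hg | hg
    · refine Or.inl ?_
      have := congrArg Units.val (mul_inv_eq_iff_eq_mul.1 hg)
      rw [hM]; exact this
    · refine Or.inr ?_
      have := congrArg Units.val (mul_inv_eq_iff_eq_mul.1 hg)
      rw [Units.val_mul, Units.val_mul, qx_cube] at this
      rw [hM]; exact this
  rw [Matrix.eta_fin_two M] at hc hd ⊢
  rw [Matrix.det_fin_two_of] at hd
  exact sylow_decide _ _ _ _ hc hd

theorem card_gl23 : Nat.card GL23 = 48 := by
  rw [Matrix.card_GL_field, Fin.prod_univ_two, ZMod.card]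
  rfl

theorem quasi {G : Type*} [Group G] [Finite G] (f : G →* GL23) (hf : Function.Injective f) (h16 : Nat.card G = 16) :
    ∃ x y : G, orderOf x = 2 ^ 3 ∧ orderOf y = 2 ∧ y * x * y⁻¹ = x ^ (2 ^ (3 - 1) - 1) := by
  have : Fact (Nat.Prime 2) := ⟨Nat.prime_two⟩
  have hc : Nat.card f.range = 2 ^ (Nat.card GL23).factorization 2 := by
    have h48 : (Nat.card GL23).factorization 2 = 4 := by
      rw [card_gl23, show (48 : ℕ) = 2 ^ 4 * 3 by rfl, Nat.factorization_mul (by norm_num) (by norm_num)]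
      rw [Nat.Prime.factorization_pow Nat.prime_two, Nat.Prime.factorization Nat.prime_three]
      simp
    rw [h48, ← Nat.card_congr (MonoidHom.ofInjective hf).toEquiv, h16]
    rfl
  obtain ⟨P, hP⟩ := QS_pgroup.exists_le_sylow
  obtain ⟨g, hg⟩ := MulAction.exists_smul_eq GL23 P (Sylow.ofCard f.range hc)
  have hmem : ∀ z ∈ QS, ∃ a : G, f a = g * z * g⁻¹ := fun z hz => by
    have : g * z * g⁻¹ ∈ f.range := by
      have := congrArg (fun S : Sylow 2 GL23 => (S : Subgroup GL23)) hg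
      rw [Sylow.coe_subgroup_smul, Sylow.coe_ofCard] at this
      rw [← this]
      exact Subgroup.smul_mem_pointwise_smul z (MulAut.conj g) P (hP hz)
    exact this
  obtain ⟨a, ha⟩ := hmem qx (Or.inl (by group))
  obtain ⟨c, hc'⟩ := hmem qy (Or.inr qy_conj)
  refine ⟨a, c, ?_, ?_, hf ?_⟩
  · rw [← orderOf_injective f hf, ha]
    rw [show g * qx * g⁻¹ = MulAut.conj g qx from rfl, MulEquiv.orderOf_eq]
    exact orderOf_eq_prime_pow qx_four qx_eight
  · rw [← orderOf_injective f hf, hc', show g * qy * g⁻¹ = MulAut.conj g qy from rfl, MulEquiv.orderOf_eq]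
    exact orderOf_eq_prime (by rw [pow_two, qy_sq]) qy_ne
  · rw [map_mul, map_mul, map_inv, map_pow, ha, hc']
    simp only [show 2 ^ (3 - 1) - 1 = 3 by rfl, conj_pow]
    rw [← qy_conj]
    group

end Cfsg.Agent.S3370

namespace Cfsg.Agent.S3370

/-- Let q be a prime, V a non-trivial finite vector space over the field with q elements, and G a non-trivial finite p-group (p prime) acting faithfully and linearly on V and transitively on the non-zero vectors. Then either q = 2 and G has prime order p = |V| − 1; or p = 2, V has q elements with q = 2^m + 1 and G is cyclic of order 2^m; or p = 2, q = 3, V has 9 elements and G is cyclic of order 8, quaternion of order 8, or semidihedral of order 16. -/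
theorem result (q : ℕ) [Fact q.Prime] {V : Type*} [AddCommGroup V] [Module (ZMod q) V] [Finite V] [Nontrivial V]
    {G : Type*} [Group G] [Finite G] [Nontrivial G] (p : ℕ) [Fact p.Prime] (hG : IsPGroup p G)
    (ρ : G →* (V ≃ₗ[ZMod q] V)) (hρ : Function.Injective ρ)
    (htrans : ∀ v w : V, v ≠ 0 → w ≠ 0 → ∃ g : G, ρ g v = w) :
    (q = 2 ∧ p = Nat.card V - 1 ∧ Nat.card G = p) ∨
    (p = 2 ∧ Nat.card V = q ∧ (∃ m : ℕ, q = 2 ^ m + 1 ∧ Nat.card G = 2 ^ m) ∧ IsCyclic G) ∨
    (p = 2 ∧ q = 3 ∧ Nat.card V = 9 ∧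
      ((IsCyclic G ∧ Nat.card G = 8) ∨ Nonempty (G ≃* QuaternionGroup 2) ∨ (Cfsg.IsQuasiDihedral G ∧ Nat.card G = 16))) := by
  obtain ⟨n, hn⟩ : ∃ n, n = Module.finrank (ZMod q) V := ⟨_, rfl⟩
  have hV : Nat.card V = q ^ n := by rw [hn, Module.natCard_eq_pow_finrank (K := ZMod q), Nat.card_zmod]
  have hn1 : 1 ≤ n := by rw [hn]; exact Module.finrank_pos
  have hq := (Fact.out : q.Prime)
  have hp := (Fact.out : p.Prime)
  letI act : MulAction G {v : V // v ≠ 0} :=
    { smul := fun g v => ⟨ρ g v.1, fun e => v.2 ((ρ g).map_eq_zero_iff.1 e)⟩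
      one_smul := fun v => Subtype.ext (by change ρ 1 v.1 = v.1; rw [map_one]; rfl)
      mul_smul := fun a b v => Subtype.ext (by change ρ (a * b) v.1 = ρ a (ρ b v.1); rw [map_mul]; rfl) }
  haveI : MulAction.IsPretransitive G {v : V // v ≠ 0} :=
    ⟨fun v w => (htrans v.1 w.1 v.2 w.2).imp fun g hg => Subtype.ext hg⟩
  obtain ⟨v0, hv0⟩ := exists_ne (0 : V)
  have hS : Nat.card {v : V // v ≠ 0} = q ^ n - 1 := by
    haveI := Fintype.ofFinite V
    classical
    rw [← hV, Nat.card_eq_fintype_card, Fintype.card_subtype_compl, Fintype.card_subtype_eq, Nat.card_eq_fintype_card]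
  have horb : Nat.card {v : V // v ≠ 0} * Nat.card (MulAction.stabilizer G (⟨v0, hv0⟩ : {v : V // v ≠ 0})) = Nat.card G := by
    rw [← MulAction.index_stabilizer_of_transitive G (⟨v0, hv0⟩ : {v : V // v ≠ 0})]
    exact Subgroup.index_mul_card _
  obtain ⟨e, he⟩ := IsPGroup.iff_card.1 hG
  obtain ⟨k, -, hk⟩ := (Nat.dvd_prime_pow hp).1 (he ▸ Dvd.intro _ horb)
  rw [hS] at hk
  have hfaith : ∀ g : G, (∀ v : V, v ≠ 0 → ρ g v = v) → g = 1 := fun g hg =>
    hρ (by
      rw [map_one]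
      refine LinearEquiv.ext fun v => ?_
      rcases eq_or_ne v 0 with rfl | hv
      · simp
      · simpa using hg v hv)
  rcases eq_or_lt_of_le hn1 with h1 | h2
  · subst h1
    rw [pow_one] at hk hV hS
    have hsp : ∀ v : V, ∃ c : ZMod q, c • v0 = v := fun v => exists_smul_eq_of_finrank_eq_one hn.symm hv0 v
    choose c hc using fun g : G => hsp (ρ g v0)
    have hsc : ∀ g v, ρ g v = c g • v := fun g v => by
      obtain ⟨d, rfl⟩ := hsp v
      rw [map_smul, ← hc g, smul_comm]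
    have hcm : ∀ a b, c (a * b) = c a * c b := fun a b => by
      refine smul_left_injective (ZMod q) hv0 ?_
      simp only
      rw [hc, map_mul, LinearEquiv.mul_apply, hsc a, hsc b, mul_smul]
    have hc1 : c 1 = 1 := smul_left_injective (ZMod q) hv0 (by simp only; rw [hc, map_one, one_smul]; rfl)
    let cu : G →* (ZMod q)ˣ := MonoidHom.toHomUnits { toFun := c, map_one' := hc1, map_mul' := hcm }
    have hcu : Function.Injective cu := (injective_iff_map_eq_one cu).2 fun g hg => hfaith g fun v _ => by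
      have : c g = 1 := congrArg Units.val hg
      rw [hsc, this, one_smul]
    have hdvd : Nat.card G ∣ q - 1 := by
      have := Subgroup.card_dvd_of_injective cu hcu
      rwa [Nat.card_units, Nat.card_zmod] at this
    have hcard : Nat.card G = q - 1 := Nat.dvd_antisymm hdvd (hS ▸ Dvd.intro _ horb)
    have hG1 := Finite.one_lt_card (α := G)
    have hp2 : p = 2 := by
      have hodd : q % 2 = 1 := Nat.odd_iff.1 (hq.odd_of_ne_two (by omega))
      have : 2 ∣ p ^ k := by omega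
      exact ((Nat.prime_dvd_prime_iff_eq Nat.prime_two hp).1 (Nat.prime_two.dvd_of_dvd_pow this)).symm
    subst hp2
    exact Or.inr (Or.inl ⟨rfl, hV, ⟨k, by omega, by omega⟩, isCyclic_of_injective cu hcu⟩)
  by_cases hq2 : q = 2
  · subst hq2
    have hk1 := two_pow_sub_one hp h2 hk
    subst hk1
    rw [pow_one] at hk
    refine Or.inl ⟨rfl, by omega, ?_⟩
    have hinj : Function.Injective (MulAction.toPermHom G {v : V // v ≠ 0}) :=
      (injective_iff_map_eq_one _).2 fun g hg => hfaith g fun v hv =>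
        congrArg Subtype.val (Equiv.ext_iff.1 hg ⟨v, hv⟩)
    have hd := Subgroup.card_dvd_of_injective _ hinj
    rw [Nat.card_perm, hS, hk, he] at hd
    have he1 : e ≤ 1 := by
      by_contra he1
      have : p ^ 2 ∣ p.factorial := (pow_dvd_pow p (by omega)).trans hd
      obtain ⟨m, rfl⟩ : ∃ m, p = m + 1 := ⟨p - 1, by have := hp.two_le; omega⟩
      rw [Nat.factorial_succ, pow_two, Nat.mul_dvd_mul_iff_left (by omega)] at this
      exact absurd (hp.dvd_factorial.1 this) (by omega)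
    rcases Nat.le_one_iff_eq_zero_or_eq_one.1 he1 with rfl | rfl
    · have := Finite.one_lt_card (α := G); simp [he] at this
    · simpa using he
  have hp2 : p = 2 := by
    have hodd : (q ^ n) % 2 = 1 := Nat.odd_iff.1 (hq.odd_of_ne_two hq2).pow
    have hbig : 2 ≤ q ^ n := le_trans hq.two_le (Nat.le_self_pow (by omega) q)
    have : 2 ∣ p ^ k := by omega
    exact ((Nat.prime_dvd_prime_iff_eq Nat.prime_two hp).1 (Nat.prime_two.dvd_of_dvd_pow this)).symm
  subst hp2
  obtain ⟨rfl, hn2⟩ := odd_case hq hq2 h2 hk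
  subst hn2
  refine Or.inr (Or.inr ⟨rfl, rfl, by rw [hV]; rfl, ?_⟩)
  let b : Module.Basis (Fin 2) (ZMod 3) V := Module.finBasisOfFinrankEq (ZMod 3) V hn.symm
  let f : G →* GL (Fin 2) (ZMod 3) := MonoidHom.toHomUnits
    { toFun := fun g => LinearMap.toMatrix b b (ρ g : V →ₗ[ZMod 3] V)
      map_one' := by rw [map_one]; exact LinearMap.toMatrix_one b
      map_mul' := fun a c => by rw [map_mul]; exact LinearMap.toMatrix_mul b _ _ }
  have hf : Function.Injective f := fun a c hac => hρ (LinearEquiv.toLinearMap_injective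
    ((LinearMap.toMatrix b b).injective (congrArg Units.val hac)))
  have h48 := Subgroup.card_dvd_of_injective f hf
  rw [card_gl23, he] at h48
  have he4 : e ≤ 4 := by
    by_contra he4
    exact absurd ((pow_dvd_pow 2 (show 5 ≤ e by omega)).trans h48) (by norm_num)
  rw [hS, he] at horb
  norm_num at horb
  have he3 : 3 ≤ e := by
    by_contra he3
    have := Nat.pow_le_pow_right (show 1 ≤ 2 by norm_num) (show e ≤ 2 by omega)
    have hpos := Nat.card_pos (α := MulAction.stabilizer G (⟨v0, hv0⟩ : {v : V // v ≠ 0}))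
    omega
  obtain rfl | rfl : e = 3 ∨ e = 4 := by omega
  swap
  · exact Or.inr (Or.inr ⟨⟨3, le_rfl, he, quasi f hf he⟩, by rw [he]; rfl⟩)
  have hfree : ∀ g : G, ∀ v : V, v ≠ 0 → ρ g v = v → g = 1 := by
    intro g v hv hgv
    obtain ⟨a, ha⟩ := htrans v v0 hv hv0
    have hst : a * g * a⁻¹ ∈ MulAction.stabilizer G (⟨v0, hv0⟩ : {v : V // v ≠ 0}) := by
      rw [MulAction.mem_stabilizer_iff]
      refine Subtype.ext ?_
      change ρ (a * g * a⁻¹) v0 = v0
      rw [← ha, ← LinearEquiv.mul_apply, ← map_mul, inv_mul_cancel_right, map_mul, LinearEquiv.mul_apply, hgv]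
    have hbot : MulAction.stabilizer G (⟨v0, hv0⟩ : {v : V // v ≠ 0}) = ⊥ :=
      Subgroup.card_eq_one.1 (by norm_num at horb ⊢; omega)
    rw [hbot, Subgroup.mem_bot] at hst
    simpa using hst
  have hneg : ∀ t : G, orderOf t = 2 → ∀ v, ρ t v = -v := by
    intro t ht v
    by_contra hv
    have h2' : t * t = 1 := by rw [← pow_two, ← ht]; exact pow_orderOf_eq_one t
    have hne : t ≠ 1 := fun h => by rw [h, orderOf_one] at ht; omega
    refine hne (hfree t (ρ t v + v) (fun h => hv (eq_neg_of_add_eq_zero_left h)) ?_)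
    rw [map_add, ← LinearEquiv.mul_apply, ← map_mul, h2', map_one, LinearEquiv.coe_one, id_eq, add_comm]
  rcases CfsgLib.Solv.pgroup_unique_sub hG (fun x y hx hy => by
      have : y = x := hρ (LinearEquiv.ext fun v => by rw [hneg x hx, hneg y hy])
      rw [this]; exact Subgroup.mem_zpowers x) with hcy | ⟨-, m, ⟨eq'⟩⟩
  · exact Or.inl ⟨hcy, by rw [he]; rfl⟩
  · refine Or.inr (Or.inl ?_)
    have hm := Nat.card_congr eq'.toEquiv
    haveI : NeZero (2 ^ (m + 1)) := ⟨by positivity⟩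
    rw [he, Nat.card_eq_fintype_card (α := QuaternionGroup _), QuaternionGroup.card] at hm
    have hm0 : m = 0 := by
      have : 2 ^ (m + 1) = 2 ^ 1 := by norm_num at hm ⊢; omega
      have := Nat.pow_right_injective le_rfl this
      omega
    subst hm0
    exact ⟨eq'⟩

end Cfsg.Agent.S3370
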