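import Cfsg.Statements.S3374
import Cfsg.Agent.Base.Spectrum.SL25
import Cfsg.Agent.Base.Spectrum.FpfSemidirect
import Mathlib.LinearAlgebra.Matrix.Nondegenerate
-- import your own Cfsg.Agent.* helpers here

set_option autoImplicit false
open Cfsg

namespace Cfsg.Agent.S3374

/-- SL(2,5) occurs as a Frobenius complement: there is a finite group L with a subgroup H isomorphic to SL(2,5) which is a non-trivial proper subgroup meeting each conjugate gHg⁻¹ with g outside H trivially. -/
theorem result :
    ∃ (L : Type) (_ : Group L) (_ : Finite L) (H : Subgroup L),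
      Cfsg.IsFrobeniusComplement H ∧ Nonempty (H ≃* Matrix.SpecialLinearGroup (Fin 2) (ZMod 5)) := by
  classical
  haveI : Fact (Nat.Prime 11) := ⟨by norm_num⟩
  obtain ⟨f, hf⟩ := CfsgLib.SL25.exists_embedding
  let ψ : Matrix.SpecialLinearGroup (Fin 2) (ZMod 5) →* MulAut (Multiplicative (Fin 2 → ZMod 11)) :=
    MonoidHom.mk' (fun g => AddEquiv.toMultiplicative (Matrix.SpecialLinearGroup.toLin' (f g)).toAddEquiv)
      (fun g h => by
        refine MulEquiv.ext fun v => Multiplicative.toAdd.injective ?_
        show Matrix.SpecialLinearGroup.toLin' (f (g * h)) (Multiplicative.toAdd v) = _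
        rw [map_mul, map_mul]
        rfl)
  haveI : Finite (Multiplicative (Fin 2 → ZMod 11) ⋊[ψ] Matrix.SpecialLinearGroup (Fin 2) (ZMod 5)) :=
    Finite.of_equiv _ SemidirectProduct.equivProd.symm
  haveI : Nontrivial (Matrix.SpecialLinearGroup (Fin 2) (ZMod 5)) :=
    ⟨1, ⟨!![1, 1; 0, 1], by simp⟩, fun h => by
      have := congrArg (fun z : Matrix.SpecialLinearGroup (Fin 2) (ZMod 5) => z.1 0 1) h
      simp at this; exact absurd this (by decide)⟩
  refine ⟨Multiplicative (Fin 2 → ZMod 11) ⋊[ψ] Matrix.SpecialLinearGroup (Fin 2) (ZMod 5), inferInstance, inferInstance,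
    (SemidirectProduct.inr (φ := ψ)).range, CfsgLib.FpfSemidirect.isFrobeniusComplement ψ ?_,
    ⟨(MonoidHom.ofInjective SemidirectProduct.inr_injective).symm⟩⟩
  intro g hg v hv
  by_contra hv0
  have hfix : (f g).1.mulVec (Multiplicative.toAdd v) = Multiplicative.toAdd v := congrArg Multiplicative.toAdd hv
  have hz : ((f g).1 - 1).det = 0 := Matrix.exists_mulVec_eq_zero_iff.1 ⟨Multiplicative.toAdd v,
    fun e => hv0 (Multiplicative.toAdd.injective e), by rw [Matrix.sub_mulVec, Matrix.one_mulVec, hfix, sub_self]⟩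
  have hd : (f g).1.det = 1 := (f g).2
  rw [Matrix.det_fin_two] at hz hd
  simp only [Matrix.sub_apply, Matrix.one_apply_eq, Matrix.one_apply_ne (show (0 : Fin 2) ≠ 1 by decide),
    Matrix.one_apply_ne (show (1 : Fin 2) ≠ 0 by decide), sub_zero] at hz
  exact hf g hg (by linear_combination hd - hz)

end Cfsg.Agent.S3374
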