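import Cfsg.Statements.S3375
import Mathlib

set_option autoImplicit false
open Cfsg

namespace Cfsg.Agent.S3375

/-- Let γ be an automorphism of order 2 of a finite group H. (i) If γ fixes only the identity, then H is abelian and γ inverts every element. (ii) If γ has exactly two fixed points and H has a subgroup of index 2, then H has a γ-invariant abelian subgroup of index 2 on which γ acts by inversion. -/
theorem result {H : Type*} [Group H] [Finite H] (γ : MulAut H) (hγ : orderOf γ = 2) :
    ((∀ h : H, γ h = h → h = 1) → (∀ a b : H, a * b = b * a) ∧ ∀ h : H, γ h = h⁻¹) ∧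
    ((Nat.card {h : H // γ h = h} = 2 ∧ ∃ M : Subgroup H, M.index = 2) →
      ∃ A : Subgroup H, A.index = 2 ∧ IsMulCommutative A ∧ (∀ a ∈ A, γ a ∈ A) ∧ ∀ a ∈ A, γ a = a⁻¹) := by
  classical
  letI := Fintype.ofFinite H
  have hγ2 : ∀ h, γ (γ h) = h := fun h => by
    have := congrArg (fun f : MulAut H => f h) (hγ ▸ pow_orderOf_eq_one γ : γ ^ 2 = 1)
    simpa [pow_two] using this
  have hinvl : ∀ x : H, γ (x⁻¹ * γ x) = (x⁻¹ * γ x)⁻¹ := fun x => by
    rw [map_mul, map_inv, hγ2, mul_inv_rev, inv_inv]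
  refine ⟨fun hf => ?_, fun hf => ?_⟩
  · have hinj : Function.Injective fun x : H => x⁻¹ * γ x := fun x y h => by
      simp only at h
      have : γ (x * y⁻¹) = x * y⁻¹ := by
        have h1 : γ x = x * (y⁻¹ * γ y) := by rw [← h, mul_inv_cancel_left]
        rw [map_mul, map_inv, h1]; group
      exact mul_inv_eq_one.1 (hf _ this)
    have hall : ∀ h : H, γ h = h⁻¹ := fun h => by
      obtain ⟨x, rfl⟩ := Finite.injective_iff_surjective.1 hinj h
      exact hinvl x
    refine ⟨fun a b => ?_, hall⟩
    have h1 := hall (a * b)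
    rw [map_mul, hall, hall, mul_inv_rev] at h1
    calc a * b = (b⁻¹ * a⁻¹)⁻¹ := by group
      _ = b * a := by rw [← h1]; group
  · obtain ⟨hcard, M₀, hM₀⟩ := hf
    obtain ⟨M, hM, hMinv⟩ : ∃ M : Subgroup H, M.index = 2 ∧ ∀ m ∈ M, γ m ∈ M := by
      by_cases hinv : ∀ m ∈ M₀, γ m ∈ M₀
      · exact ⟨M₀, hM₀, hinv⟩
      set M₁ := M₀.comap γ.toMonoidHom with hM₁
      have h1 : M₁.index = 2 := by
        rw [hM₁, Subgroup.index_comap_of_surjective M₀ (f := γ.toMonoidHom) γ.surjective, hM₀]
      have m0 := @Subgroup.mul_mem_iff_of_index_two _ _ _ hM₀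
      have m1 := @Subgroup.mul_mem_iff_of_index_two _ _ _ h1
      let M : Subgroup H :=
        { carrier := {x | x ∈ M₀ ↔ x ∈ M₁}
          one_mem' := by simp
          mul_mem' := fun {a b} ha hb => by
            simp only [Set.mem_setOf_eq] at ha hb ⊢
            rw [m0, m1, ha, hb]
          inv_mem' := fun {a} ha => by simpa using ha }
      have hmem : ∀ x, x ∈ M ↔ (x ∈ M₀ ↔ γ x ∈ M₀) := fun x => Iff.rfl
      refine ⟨M, ?_, fun m hm => ?_⟩
      · push Not at hinv
        obtain ⟨m, hm, hm'⟩ := hinv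
        rw [Subgroup.index_eq_two_iff]
        refine ⟨m, fun b => ?_⟩
        have e0 := m0 (a := b) (b := m)
        have e1 := m0 (a := γ b) (b := γ m)
        rw [← map_mul] at e1
        simp only [hmem]
        rw [e0, e1]
        by_cases hb : b ∈ M₀ <;> by_cases hb' : γ b ∈ M₀ <;>
          simp [hb, hb', hm, hm', xor_def]
      · rw [hmem] at hm ⊢
        rw [hγ2]; exact hm.symm
    have hI : ∀ x : H, x⁻¹ * γ x ∈ M := fun x => by
      rw [Subgroup.mul_mem_iff_of_index_two hM, inv_mem_iff]
      exact ⟨fun h => hMinv x h, fun h => by simpa [hγ2] using hMinv _ h⟩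
    have hfib : ∀ x y : H, x⁻¹ * γ x = y⁻¹ * γ y → γ (x * y⁻¹) = x * y⁻¹ := fun x y h => by
      have h1 : γ x = x * (y⁻¹ * γ y) := by rw [← h, mul_inv_cancel_left]
      rw [map_mul, map_inv, h1]; group
    set C := Finset.univ.filter fun h : H => γ h = h
    have hC : C.card = 2 := by rw [← hcard, Nat.card_eq_fintype_card, Fintype.card_subtype]
    set I := Finset.univ.image fun x : H => x⁻¹ * γ x
    have hIc : Fintype.card H ≤ 2 * I.card := by
      rw [← Finset.card_univ]
      refine Finset.card_le_mul_card_image Finset.univ 2 fun i hi => ?_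
      obtain ⟨y, -, rfl⟩ := Finset.mem_image.1 hi
      rw [← hC]
      refine Finset.card_le_card_of_injOn (fun x => x * y⁻¹) (fun x hx => ?_) (fun x _ x' _ h => mul_right_cancel h)
      simp only [Finset.coe_filter, Finset.mem_univ, true_and, Set.mem_setOf_eq, C] at hx ⊢
      exact hfib x y hx
    have hMc : 2 * (Finset.univ.filter fun h : H => h ∈ M).card = Fintype.card H := by
      rw [← Fintype.card_subtype, ← Nat.card_eq_fintype_card, ← Nat.card_eq_fintype_card,
        ← M.index_mul_card, hM]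
    have heq : I = Finset.univ.filter fun h : H => h ∈ M := by
      refine Finset.eq_of_subset_of_card_le (fun h hh => ?_) (by omega)
      obtain ⟨y, -, rfl⟩ := Finset.mem_image.1 hh
      simpa using hI y
    have hall : ∀ a ∈ M, γ a = a⁻¹ := fun a ha => by
      obtain ⟨y, -, rfl⟩ := Finset.mem_image.1 (heq.symm ▸ (by simpa using ha) : a ∈ I)
      exact hinvl y
    refine ⟨M, hM, ⟨⟨fun a b => Subtype.ext ?_⟩⟩, hMinv, hall⟩
    show (a : H) * b = b * a
    have h1 := hall _ (mul_mem a.2 b.2)
    rw [map_mul, hall _ a.2, hall _ b.2, mul_inv_rev] at h1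
    calc (a : H) * b = ((b : H)⁻¹ * (a : H)⁻¹)⁻¹ := by group
      _ = b * a := by rw [← h1]; group

end Cfsg.Agent.S3375
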