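import Cfsg.Statements.S3376
import Mathlib.GroupTheory.Sylow
import Mathlib.GroupTheory.SpecificGroups.Dihedral
import Mathlib.GroupTheory.SemidirectProduct
import Mathlib.GroupTheory.Index
import Mathlib.Data.ZMod.Basic
import Mathlib.Algebra.Group.End
import Mathlib.Data.Fintype.Pi
import Mathlib.Tactic.Group
import Mathlib.Tactic.NormNum
-- import your own Cfsg.Agent.* helpers here

set_option autoImplicit false
open Cfsg

namespace Cfsg.Agent.S3376

open DihedralGroup

abbrev A := Multiplicative (ZMod 3 → ZMod 3)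

/-- action of the dihedral group on the indices -/
def idx : DihedralGroup 3 → ZMod 3 → ZMod 3
  | r i, j => j + i
  | sr i, j => -(j + i)

theorem idx_mul : ∀ g h : DihedralGroup 3, ∀ j, idx (g * h) j = idx g (idx h j) := by decide

theorem idx_one : ∀ j, idx 1 j = j := by decide

theorem idx_inv : ∀ (g : DihedralGroup 3) (j : ZMod 3), idx g⁻¹ (idx g j) = j ∧ idx g (idx g⁻¹ j) = j := by decide

theorem idx_faithful : ∀ g : DihedralGroup 3, (∀ j, idx g j = j) → g = 1 := by decide

theorem idx_surj : ∀ a b c : ZMod 3, a ≠ b → a ≠ c → b ≠ c →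
    ∃ g : DihedralGroup 3, idx g 0 = a ∧ idx g 1 = b ∧ idx g 2 = c := by decide

/-- permuting coordinates -/
def act : DihedralGroup 3 →* MulAut A :=
  MonoidHom.mk' (fun g =>
    { toFun := fun f => Multiplicative.ofAdd fun j => Multiplicative.toAdd f (idx g⁻¹ j)
      invFun := fun f => Multiplicative.ofAdd fun j => Multiplicative.toAdd f (idx g j)
      left_inv := fun f => Multiplicative.toAdd.injective (funext fun j => by simp [(idx_inv g j).1])
      right_inv := fun f => Multiplicative.toAdd.injective (funext fun j => by simp [(idx_inv g j).2])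
      map_mul' := fun f f' => rfl })
    (fun g h => MulEquiv.ext fun f => Multiplicative.toAdd.injective (funext fun j => by
      show Multiplicative.toAdd f (idx (g * h)⁻¹ j) = Multiplicative.toAdd f (idx h⁻¹ (idx g⁻¹ j))
      rw [mul_inv_rev, idx_mul]))

abbrev Model := A ⋊[act] DihedralGroup 3

theorem card_model : Nat.card Model = 162 := by
  rw [SemidirectProduct.card, Nat.card_eq_fintype_card, Nat.card_eq_fintype_card, DihedralGroup.card,
    Fintype.card_multiplicative, Fintype.card_fun, ZMod.card]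
  norm_num

/-- the natural action of the model on `ZMod 3 × ZMod 3` -/
def natFun (x : Model) : Function.End (ZMod 3 × ZMod 3) :=
  fun p => (idx x.right p.1, p.2 + Multiplicative.toAdd x.left (idx x.right p.1))

def natHom : Model →* Function.End (ZMod 3 × ZMod 3) where
  toFun := natFun
  map_one' := funext fun p => by
    show (idx (1 : Model).right p.1, p.2 + Multiplicative.toAdd (1 : Model).left (idx (1 : Model).right p.1)) = p
    simp [idx_one]
  map_mul' x y := funext fun p => by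
    show (idx (x * y).right p.1, p.2 + Multiplicative.toAdd (x * y).left (idx (x * y).right p.1)) =
      (idx x.right (idx y.right p.1), p.2 + Multiplicative.toAdd y.left (idx y.right p.1) +
        Multiplicative.toAdd x.left (idx x.right (idx y.right p.1)))
    rw [SemidirectProduct.mul_right, idx_mul, SemidirectProduct.mul_left, toAdd_mul, Pi.add_apply,
      show Multiplicative.toAdd (act x.right y.left) (idx x.right (idx y.right p.1)) =
        Multiplicative.toAdd y.left (idx x.right⁻¹ (idx x.right (idx y.right p.1))) from rfl, (idx_inv _ _).1]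
    ext <;> simp [add_assoc, add_comm, add_left_comm]

def nat9 : Model →* Equiv.Perm (ZMod 3 × ZMod 3) := MonoidHom.toHomPerm natHom

/-- the labelling of the nine points -/
def lab : ZMod 3 × ZMod 3 ≃ Fin 9 where
  toFun p := ⟨(3 * p.1.val + p.2.val) % 9, Nat.mod_lt _ (by norm_num)⟩
  invFun i := (((i.val / 3 : ℕ) : ZMod 3), ((i.val % 3 : ℕ) : ZMod 3))
  left_inv := by unfold Function.LeftInverse; decide
  right_inv := by unfold Function.RightInverse Function.LeftInverse; decide

theorem lab_spec : ∀ p : ZMod 3 × ZMod 3,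
    (Equiv.swap (0 : Fin 9) 1 * Equiv.swap 1 2 * Equiv.swap 3 4 * Equiv.swap 4 5 * Equiv.swap 6 7 * Equiv.swap 7 8 : Equiv.Perm (Fin 9)) (lab p) =
      lab (p.1, p.2 + 1) := by decide

theorem nat9_apply (x : Model) (p : ZMod 3 × ZMod 3) :
    nat9 x p = (idx x.right p.1, p.2 + Multiplicative.toAdd x.left (idx x.right p.1)) := rfl

theorem model_centralizer (e : ZMod 3 × ZMod 3 ≃ Fin 9) (c : Equiv.Perm (Fin 9))
    (hc : ∀ p, c (e p) = e (p.1, p.2 + 1)) : Nonempty (Model ≃* Subgroup.centralizer ({c} : Set (Equiv.Perm (Fin 9)))) := by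
  have hmem : ∀ x, e.permCongrHom (nat9 x) ∈ Subgroup.centralizer ({c} : Set (Equiv.Perm (Fin 9))) := by
    intro x
    rw [Subgroup.mem_centralizer_iff]
    rintro _ rfl
    ext1 i
    obtain ⟨p, rfl⟩ := e.surjective i
    simp only [Equiv.Perm.mul_apply, hc, Equiv.permCongrHom, MulEquiv.coe_mk, Equiv.permCongr_apply, Equiv.symm_apply_apply, nat9_apply]
    congr 1
    ext <;> simp [add_right_comm]
  refine ⟨MulEquiv.ofBijective ((e.permCongrHom.toMonoidHom.comp nat9).codRestrict _ hmem) ⟨?_, ?_⟩⟩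
  · rw [injective_iff_map_eq_one]
    intro x hx
    have h : nat9 x = 1 := e.permCongrHom.injective (by rw [map_one]; exact congrArg Subtype.val hx)
    have hr : x.right = 1 := idx_faithful _ fun j => by
      have := congrArg Prod.fst (DFunLike.congr_fun h (j, 0))
      simpa [nat9_apply] using this
    refine SemidirectProduct.ext (Multiplicative.toAdd.injective (funext fun j => ?_)) hr
    have := congrArg Prod.snd (DFunLike.congr_fun h (j, 0))
    simpa [nat9_apply, hr, idx_one] using this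
  · rintro ⟨σ, hσ⟩
    let s : Equiv.Perm (ZMod 3 × ZMod 3) := e.symm.permCongrHom σ
    have hs : ∀ p, s (p.1, p.2 + 1) = ((s p).1, (s p).2 + 1) := by
      intro p
      apply e.injective
      have := DFunLike.congr_fun (Subgroup.mem_centralizer_iff.1 hσ c rfl) (e p)
      simp only [Equiv.Perm.mul_apply, hc] at this
      simp only [s, Equiv.permCongrHom, MulEquiv.coe_mk, Equiv.permCongr_apply, Equiv.symm_symm, Equiv.apply_symm_apply]
      rw [← this, ← hc, Equiv.apply_symm_apply]
    have hshift : ∀ a b, s (a, b) = ((s (a, 0)).1, (s (a, 0)).2 + b) := by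
      intro a b
      obtain ⟨k, rfl⟩ : ∃ k : ℕ, (k : ZMod 3) = b := ⟨b.val, ZMod.natCast_zmod_val b⟩
      induction k with
      | zero => simp
      | succ k ih =>
        have := hs (a, (k : ZMod 3))
        rw [ih] at this
        rw [Nat.cast_succ, this, add_assoc]
    have hinj : ∀ a b, a ≠ b → (s (a, 0)).1 ≠ (s (b, 0)).1 := by
      intro a b hab he
      apply hab
      have : s (a, (s (b, 0)).2) = s (b, (s (a, 0)).2) := by
        rw [hshift a (s (b, 0)).2, hshift b (s (a, 0)).2, he, add_comm (s (a, 0)).2]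
      exact congrArg Prod.fst (s.injective this)
    obtain ⟨g, g0, g1, g2⟩ := idx_surj _ _ _ (hinj 0 1 (by decide)) (hinj 0 2 (by decide)) (hinj 1 2 (by decide))
    have hg : ∀ a, idx g a = (s (a, 0)).1 := by
      intro a
      have : a = 0 ∨ a = 1 ∨ a = 2 := by revert a; decide
      rcases this with rfl | rfl | rfl <;> assumption
    let f : A := Multiplicative.ofAdd fun j => (s (idx g⁻¹ j, 0)).2
    refine ⟨⟨f, g⟩, Subtype.ext ?_⟩
    show e.permCongrHom (nat9 ⟨f, g⟩) = σ
    have hnat : nat9 ⟨f, g⟩ = s := by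
      refine Equiv.ext fun p => ?_
      obtain ⟨a, b⟩ := p
      rw [nat9_apply, hshift a b]
      show (idx g a, b + (s (idx g⁻¹ (idx g a), 0)).2) = _
      rw [(idx_inv g a).1, hg, add_comm]
    rw [hnat]
    ext1 i
    simp [s, Equiv.permCongrHom]

theorem model_of_group {G : Type*} [Group G] [Finite G] (hG : Nat.card G = 162) (J : Subgroup G) (u t : G) [J.Normal]
    (hcomm : ∀ a ∈ J, ∀ b ∈ J, a * b = b * a) (hexp : ∀ a ∈ J, a ^ 3 = 1) (hcard : Nat.card J = 27)
    (hu : u ^ 3 = 1) (huJ : u ∉ J) (htt : t * t = 1) (htJ : t ∉ J) (htu : t * u * t = u⁻¹)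
    (v : G) (hv : v ∈ J) (hvt : t * v * t = v) (hN : v * (u * v * u⁻¹) * (u * (u * v * u⁻¹) * u⁻¹) ≠ 1) :
    Nonempty (Model ≃* G) := by
  have hu' : ∀ k, u ^ k = u ^ (k % 3) := fun k => pow_eq_pow_mod k hu
  let U : ZMod 3 → G := fun i => u ^ i.val
  have Uadd : ∀ i j, U (i + j) = U i * U j := fun i j => by
    show u ^ (i + j).val = u ^ i.val * u ^ j.val
    rw [← pow_add, ZMod.val_add, ← hu']
  have U0 : U 0 = 1 := by simp [U]
  have Uneg : ∀ i, U (-i) = (U i)⁻¹ := fun i => eq_inv_of_mul_eq_one_left (by rw [← Uadd, neg_add_cancel, U0])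
  have htinv : t⁻¹ = t := inv_eq_of_mul_eq_one_left htt
  have hflip : ∀ i, t * U i * t = U (-i) := by
    intro i
    rw [Uneg]
    have : ∀ k : ℕ, t * u ^ k * t = (u ^ k)⁻¹ := fun k => by
      have e := conj_pow (i := k) (a := t) (b := u)
      rw [htinv, htu] at e
      rw [← e, inv_pow]
    exact this _
  let d : DihedralGroup 3 → G := fun
    | r i => U i
    | sr i => t * U i
  have hd : ∀ g h, d (g * h) = d g * d h := by
    have key : ∀ i, U i * t = t * U (-i) := fun i => by
      rw [← hflip, ← mul_assoc, ← mul_assoc, htt, one_mul]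
    rintro (i | i) (j | j)
    · exact Uadd i j
    · show t * U (j - i) = U i * (t * U j)
      rw [← mul_assoc, key, mul_assoc, ← Uadd, sub_eq_neg_add]
    · show t * U (i + j) = t * U i * U j
      rw [Uadd, mul_assoc]
    · show U (j - i) = t * U i * (t * U j)
      rw [← mul_assoc, hflip, ← Uadd, sub_eq_neg_add]
  let D : DihedralGroup 3 →* G := MonoidHom.mk' d hd
  let V : ZMod 3 → G := fun j => U j * v * (U j)⁻¹
  have hVJ : ∀ j, V j ∈ J := fun j => (inferInstance : J.Normal).conj_mem v hv _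
  have hconj : ∀ g j, D g * V j * (D g)⁻¹ = V (idx g j) := by
    rintro (i | i) j
    · show U i * (U j * v * (U j)⁻¹) * (U i)⁻¹ = U (j + i) * v * (U (j + i))⁻¹
      rw [add_comm, Uadd]; group
    · show t * U i * (U j * v * (U j)⁻¹) * (t * U i)⁻¹ = U (-(j + i)) * v * (U (-(j + i)))⁻¹
      rw [← hflip, add_comm, Uadd, mul_inv_rev, mul_inv_rev, mul_inv_rev, htinv]
      conv_rhs => rw [show t * (U i * U j) * t * v * (t * ((U i * U j)⁻¹ * t)) = t * (U i * U j) * (t * v * t) * ((U i * U j)⁻¹ * t) by group, hvt]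
      group
  have cJ : ∀ i j, ∀ m n : ℕ, Commute (V i ^ m) (V j ^ n) := fun i j m n =>
    Commute.pow_pow (hcomm _ (hVJ i) _ (hVJ j)) m n
  let P : A → G := fun f => V 0 ^ (Multiplicative.toAdd f 0).val * V 1 ^ (Multiplicative.toAdd f 1).val * V 2 ^ (Multiplicative.toAdd f 2).val
  have hVmod : ∀ j k, V j ^ k = V j ^ (k % 3) := fun j k => pow_eq_pow_mod k (hexp _ (hVJ j))
  have hPmul : ∀ f f', P (f * f') = P f * P f' := by
    intro f f'
    show V 0 ^ (_ + _ : ZMod 3).val * V 1 ^ (_ + _ : ZMod 3).val * V 2 ^ (_ + _ : ZMod 3).val = _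
    rw [ZMod.val_add, ZMod.val_add, ZMod.val_add, ← hVmod, ← hVmod, ← hVmod, pow_add, pow_add, pow_add]
    rw [Commute.mul_mul_mul_comm (cJ 0 1 _ _), Commute.mul_mul_mul_comm ((cJ 0 2 _ _).mul_left (cJ 1 2 _ _))]
    rfl
  let Ph : A →* G := MonoidHom.mk' P hPmul
  have h3 : ∀ j : ZMod 3, j = 0 ∨ j = 1 ∨ j = 2 := by decide
  have hbasis : ∀ (g : DihedralGroup 3) (j : ZMod 3),
      act g (Multiplicative.ofAdd (Pi.single j 1)) = Multiplicative.ofAdd (Pi.single (idx g j) 1) := by
    intro g j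
    refine Multiplicative.toAdd.injective (funext fun i => ?_)
    show (Pi.single j (1 : ZMod 3) : ZMod 3 → ZMod 3) (idx g⁻¹ i) = (Pi.single (idx g j) (1 : ZMod 3) : ZMod 3 → ZMod 3) i
    simp only [Pi.single_apply]
    have e1 : idx g⁻¹ i = j ↔ i = idx g j := ⟨fun h => h ▸ (idx_inv g i).2.symm, fun h => h ▸ (idx_inv g j).1⟩
    simp only [e1]
  have hPb : ∀ j, Ph (Multiplicative.ofAdd (Pi.single j 1)) = V j := by
    intro j
    show P _ = _
    rcases h3 j with rfl | rfl | rfl <;> simp [P, Pi.single_apply, (by decide : (0 : ZMod 3) ≠ 1), (by decide : (0 : ZMod 3) ≠ 2),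
      (by decide : (1 : ZMod 3) ≠ 2), (by decide : (1 : ZMod 3) ≠ 0), (by decide : (2 : ZMod 3) ≠ 0), (by decide : (2 : ZMod 3) ≠ 1), ZMod.val_one]
  have hgen : ∀ f : A, f = Multiplicative.ofAdd (Pi.single 0 1) ^ (Multiplicative.toAdd f 0).val *
      Multiplicative.ofAdd (Pi.single 1 1) ^ (Multiplicative.toAdd f 1).val *
      Multiplicative.ofAdd (Pi.single 2 1) ^ (Multiplicative.toAdd f 2).val := by
    intro f
    refine Multiplicative.toAdd.injective (funext fun j => ?_)
    rcases h3 j with rfl | rfl | rfl <;>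
      simp only [toAdd_mul, toAdd_pow, toAdd_ofAdd, Pi.add_apply, Pi.smul_apply, Pi.single_apply] <;>
      simp [nsmul_eq_mul, Pi.single_apply, (by decide : (0 : ZMod 3) ≠ 1), (by decide : (0 : ZMod 3) ≠ 2),
        (by decide : (1 : ZMod 3) ≠ 2), (by decide : (1 : ZMod 3) ≠ 0), (by decide : (2 : ZMod 3) ≠ 0), (by decide : (2 : ZMod 3) ≠ 1)]
  have hcompat : ∀ g, Ph.comp (act g).toMonoidHom = (MulAut.conj (D g)).toMonoidHom.comp Ph := by
    intro g
    refine MonoidHom.ext fun f => ?_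
    rw [hgen f]
    simp only [map_mul, map_pow, MonoidHom.comp_apply, MulEquiv.coe_toMonoidHom, hbasis, hPb, MulAut.conj_apply, hconj]
  let Φ : Model →* G := SemidirectProduct.lift Ph D hcompat
  have hPker : ∀ f, Ph f = 1 → f = 1 := by
    have hinv : ∀ g f, Ph f = 1 → Ph (act g f) = 1 := fun g f hf => by
      rw [show Ph (act g f) = D g * Ph f * (D g)⁻¹ from DFunLike.congr_fun (hcompat g) f, hf]; group
    have key : ∀ f : ZMod 3 → ZMod 3, f ≠ 0 → (fun j => f j - f (j + 1)) = 0 ∨
        (fun j => f j - f (j + 1) - (f (j + 1) - f (j + 1 + 1))) = 0 ∨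
        ((fun j => f j - f (j + 1) - (f (j + 1) - f (j + 1 + 1))) = fun _ => 1) ∨
        ((fun j => f j - f (j + 1) - (f (j + 1) - f (j + 1 + 1))) = fun _ => 2) := by decide
    have key2 : ∀ f : ZMod 3 → ZMod 3,
        (¬ (fun j => f j - f (j + 1) - (f (j + 1) - f (j + 1 + 1))) = 0 ∨ (fun j => f j - f (j + 1)) = 0 ∨
          ((fun j => f j - f (j + 1)) = fun _ => 1) ∨ ((fun j => f j - f (j + 1)) = fun _ => 2)) := by decide
    have key3 : ∀ f : ZMod 3 → ZMod 3, (f = 0 ∨ ¬ (fun j => f j - f (j + 1)) = 0 ∨ (f = fun _ => 1) ∨ (f = fun _ => 2)) := by decide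
    intro f hf
    by_contra hne
    have hs : ∀ f, Ph f = 1 → Ph (Multiplicative.ofAdd fun j => Multiplicative.toAdd f j - Multiplicative.toAdd f (j + 1)) = 1 := by
      intro f hf
      have e : (Multiplicative.ofAdd fun j => Multiplicative.toAdd f j - Multiplicative.toAdd f (j + 1)) = f * (act (r (-1)) f)⁻¹ := by
        refine Multiplicative.toAdd.injective (funext fun j => ?_)
        show _ = Multiplicative.toAdd f j + -(Multiplicative.toAdd f (idx (r (-1 : ZMod 3))⁻¹ j))
        rw [show (r (-1 : ZMod 3))⁻¹ = r 1 by decide]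
        simp only [toAdd_ofAdd, sub_eq_add_neg]; rfl
      rw [e, map_mul, map_inv, hf, hinv _ _ hf, inv_one, one_mul]
    have hconst : ∀ c : ZMod 3, (c = 1 ∨ c = 2) → Ph (Multiplicative.ofAdd fun _ => c) ≠ 1 := by
      intro c hc e
      apply hN
      have hV : V 0 = v ∧ V 1 = u * v * u⁻¹ ∧ V 2 = u * (u * v * u⁻¹) * u⁻¹ := by
        refine ⟨by simp [V, U0], by simp [V, U, ZMod.val_one], ?_⟩
        show u ^ 2 * v * (u ^ 2)⁻¹ = _
        rw [pow_two]; group
      have e1 : Ph (Multiplicative.ofAdd fun _ => (1 : ZMod 3)) = 1 := by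
        rcases hc with rfl | rfl
        · exact e
        · rw [show (Multiplicative.ofAdd fun _ : ZMod 3 => (1 : ZMod 3)) = (Multiplicative.ofAdd fun _ : ZMod 3 => (2 : ZMod 3)) * Multiplicative.ofAdd fun _ : ZMod 3 => (2 : ZMod 3) by decide,
            map_mul, e, one_mul]
      have : P (Multiplicative.ofAdd fun _ => (1 : ZMod 3)) = v * (u * v * u⁻¹) * (u * (u * v * u⁻¹) * u⁻¹) := by
        simp only [P, toAdd_ofAdd, ZMod.val_one, pow_one]
        rw [hV.1, hV.2.1, hV.2.2]
      exact this.symm.trans e1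
    have hne' : Multiplicative.toAdd f ≠ 0 := fun e => hne (Multiplicative.toAdd.injective e)
    have h1 := hs f hf
    have h2 := hs _ h1
    rcases key _ hne' with e | e | e | e
    · rcases ((key3 _).resolve_left hne').resolve_left (not_not.2 e) with e' | e'
      · exact hconst 1 (.inl rfl) (by rw [← e']; exact hf)
      · exact hconst 2 (.inr rfl) (by rw [← e']; exact hf)
    · rcases (key2 _).resolve_left (not_not.2 e) with e' | e' | e'
      · rcases ((key3 _).resolve_left hne').resolve_left (not_not.2 e') with e'' | e''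
        · exact hconst 1 (.inl rfl) (by rw [← e'']; exact hf)
        · exact hconst 2 (.inr rfl) (by rw [← e'']; exact hf)
      · exact hconst 1 (.inl rfl) (by rw [← e']; exact h1)
      · exact hconst 2 (.inr rfl) (by rw [← e']; exact h1)
    · exact hconst 1 (.inl rfl) (by rw [← e]; exact h2)
    · exact hconst 2 (.inr rfl) (by rw [← e]; exact h2)
  have hPJ : ∀ f, Ph f ∈ J := fun f => J.mul_mem (J.mul_mem (J.pow_mem (hVJ 0) _) (J.pow_mem (hVJ 1) _)) (J.pow_mem (hVJ 2) _)
  have hDJ : ∀ g, D g ∈ J → g = 1 := by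
    have hU : ∀ i, U i ∈ J → i = 0 := by
      intro i hi
      rcases h3 i with rfl | rfl | rfl
      · rfl
      · exact absurd (by simpa [U, ZMod.val_one] using hi) huJ
      · exfalso; apply huJ
        have h' : u ^ 2 ∈ J := hi
        have := J.mul_mem h' h'
        rwa [← pow_add, hu' 4, pow_one] at this
    rintro (i | i) hi
    · rw [hU i hi]; rfl
    · exfalso
      have hi' : t * U i ∈ J := hi
      apply htJ
      have h2 : (t * U i) * (t * U i) = 1 := by rw [← mul_assoc, hflip, ← Uadd, neg_add_cancel, U0]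
      have : t * U i = 1 := by
        have h3 := hexp _ hi'
        rw [pow_succ, pow_two, h2, one_mul] at h3
        exact h3
      rw [mul_eq_one_iff_eq_inv, ← Uneg] at this
      -- `t` is a power of `u`
      have ht2 : U (-i) * U (-i) = 1 := by rw [← this, htt]
      have h3' : U (-i) * U (-i) * U (-i) = 1 := by
        rw [← Uadd, ← Uadd, show -i + -i + -i = 0 by rcases h3 i with rfl | rfl | rfl <;> decide, U0]
      rw [ht2, one_mul] at h3'
      rw [this, h3']; exact J.one_mem
  have hinj : Function.Injective Φ := by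
    rw [injective_iff_map_eq_one]
    rintro ⟨f, g⟩ h
    have h' : Ph f * D g = 1 := h
    have hg : g = 1 := hDJ g (by rw [eq_inv_of_mul_eq_one_right h']; exact J.inv_mem (hPJ f))
    subst hg
    rw [map_one, mul_one] at h'
    rw [hPker f h']; rfl
  exact ⟨MulEquiv.ofBijective Φ ((Nat.bijective_iff_injective_and_card Φ).2 ⟨hinj, by rw [card_model, hG]⟩)⟩

end Cfsg.Agent.S3376

namespace Cfsg.Agent.S3376

/-- Let G be a group of order 162 = 3⁴·2 with Sylow 3-subgroup S and Sylow 2-subgroup T, having an elementary abelian normal subgroup J of order 27, such that Z = Z(S) has order 3, Z centralizes T, and C_S(T) ≠ S. Then G is isomorphic to the centralizer in Sym(9) of a product of three disjoint 3-cycles. -/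
theorem result {G : Type*} [Group G] [Finite G] (hG : Nat.card G = 162)
    (S : Sylow 3 G) (T : Sylow 2 G) (J : Subgroup G) [hJn : J.Normal] (hJcomm : IsMulCommutative J)
    (hJexp : ∀ a ∈ J, a ^ 3 = 1) (hJcard : Nat.card J = 27)
    (Z : Subgroup G) (hZ : Z = (S : Subgroup G) ⊓ Subgroup.centralizer ((S : Subgroup G) : Set G)) (hZcard : Nat.card Z = 3)
    (hZT : Z ≤ Subgroup.centralizer ((T : Subgroup G) : Set G))
    (hST : (S : Subgroup G) ⊓ Subgroup.centralizer ((T : Subgroup G) : Set G) ≠ S) :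
    Nonempty (G ≃* Subgroup.centralizer ({Equiv.swap (0 : Fin 9) 1 * Equiv.swap 1 2 * Equiv.swap 3 4 * Equiv.swap 4 5 * Equiv.swap 6 7 * Equiv.swap 7 8} : Set (Equiv.Perm (Fin 9)))) := by
  classical
  have hJc : ∀ a ∈ J, ∀ b ∈ J, a * b = b * a := fun a ha b hb => congrArg Subtype.val (hJcomm.is_comm.comm ⟨a, ha⟩ ⟨b, hb⟩)
  haveI : Fact (Nat.Prime 3) := ⟨Nat.prime_three⟩
  haveI : Fact (Nat.Prime 2) := ⟨Nat.prime_two⟩
  have hScard : Nat.card S = 81 := by
    rw [S.card_eq_multiplicity, hG, show (162 : ℕ) = 3 ^ 4 * 2 by norm_num, Nat.factorization_mul (by norm_num) (by norm_num),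
      Finsupp.add_apply, Nat.Prime.factorization_pow Nat.prime_three, Finsupp.single_eq_same,
      Nat.factorization_eq_zero_of_not_dvd (by norm_num : ¬ 3 ∣ 2)]
    norm_num
  have hTcard : Nat.card T = 2 := by
    rw [T.card_eq_multiplicity, hG, show (162 : ℕ) = 3 ^ 4 * 2 by norm_num, Nat.factorization_mul (by norm_num) (by norm_num),
      Finsupp.add_apply, Nat.Prime.factorization_self Nat.prime_two,
      Nat.factorization_eq_zero_of_not_dvd (by norm_num : ¬ 2 ∣ 3 ^ 4)]
    norm_num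
  have hSidx : (S : Subgroup G).index = 2 := by
    have := (S : Subgroup G).index_mul_card
    rw [hG, hScard] at this
    omega
  haveI hSn : (S : Subgroup G).Normal := Subgroup.normal_of_index_eq_two hSidx
  have hJS : J ≤ S := by
    obtain ⟨Q, hQ⟩ := (IsPGroup.of_card (n := 3) (by rw [hJcard]; norm_num) : IsPGroup 3 J).exists_le_sylow
    haveI := Sylow.unique_of_normal S hSn
    rwa [Subsingleton.elim Q S] at hQ
  obtain ⟨t, ht, hto⟩ : ∃ t ∈ (T : Subgroup G), orderOf t = 2 := by
    obtain ⟨⟨t, ht⟩, h⟩ := exists_prime_orderOf_dvd_card' (G := T) 2 (by rw [hTcard])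
    exact ⟨t, ht, by rwa [Subgroup.orderOf_mk] at h⟩
  have htt : t * t = 1 := by rw [← pow_two, ← hto]; exact pow_orderOf_eq_one t
  have htinv : t⁻¹ = t := inv_eq_of_mul_eq_one_left htt
  have hTmem : ∀ x ∈ (T : Subgroup G), x = 1 ∨ x = t := by
    intro x hx
    have hz : Subgroup.zpowers t = (T : Subgroup G) := Subgroup.eq_of_le_of_card_ge (Subgroup.zpowers_le.2 ht)
      (by rw [Nat.card_zpowers, hto, hTcard])
    rw [← hz, ← mem_powers_iff_mem_zpowers] at hx
    obtain ⟨k, rfl⟩ := hx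
    rcases Nat.mod_two_eq_zero_or_one k with h | h
    · left; show t ^ k = 1; rw [← pow_mod_orderOf, hto, h, pow_zero]
    · right; show t ^ k = t; rw [← pow_mod_orderOf, hto, h, pow_one]
  have htS : t ∉ (S : Subgroup G) := fun h => by
    have h1 : orderOf (⟨t, h⟩ : (S : Subgroup G)) ∣ Nat.card S := orderOf_dvd_natCard _
    rw [Subgroup.orderOf_mk, hto, hScard] at h1
    norm_num at h1
  -- the centre of `S` lies in `J`
  have hmemZ : ∀ z, z ∈ Z ↔ z ∈ (S : Subgroup G) ∧ ∀ s ∈ (S : Subgroup G), s * z = z * s := by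
    intro z; rw [hZ, Subgroup.mem_inf, Subgroup.mem_centralizer_iff]; rfl
  have hdec : ∀ x ∈ (S : Subgroup G), x ∉ J → ∀ s ∈ (S : Subgroup G), ∃ k : ℕ, ∃ j ∈ J, s = x ^ k * j := by
    intro x hx hxJ s hs
    let K : Subgroup G := Subgroup.zpowers x ⊔ J
    have hKS : K = (S : Subgroup G) := by
      refine Subgroup.eq_of_le_of_card_ge (sup_le (Subgroup.zpowers_le.2 hx) hJS) ?_
      obtain ⟨e, he⟩ : Nat.card J ∣ Nat.card K := Subgroup.card_dvd_of_le le_sup_right
      have h2 : Nat.card K ∣ 81 := hScard ▸ Subgroup.card_dvd_of_le (sup_le (Subgroup.zpowers_le.2 hx) hJS)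
      have hne : e ≠ 1 := fun e1 => hxJ (by
        have : J = K := Subgroup.eq_of_le_of_card_ge le_sup_right (by rw [he, e1, mul_one])
        rw [this]; exact Subgroup.mem_sup_left (Subgroup.mem_zpowers x))
      rw [he, hJcard, show 81 = 27 * 3 by norm_num, Nat.mul_dvd_mul_iff_left (by norm_num : 0 < 27), Nat.dvd_prime Nat.prime_three] at h2
      rcases h2 with h2 | h2
      · exact absurd h2 hne
      · rw [hScard, he, hJcard, h2]
    rw [← hKS, Subgroup.mem_sup_of_normal_right] at hs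
    obtain ⟨y, hy, j, hj, e⟩ := hs
    rw [← mem_powers_iff_mem_zpowers] at hy
    obtain ⟨k, rfl⟩ := hy
    exact ⟨k, j, hj, e.symm⟩
  have hZJ : Z ≤ J := by
    intro z hz
    by_contra hzJ
    obtain ⟨hzS, hzc⟩ := (hmemZ z).1 hz
    have hall : ∀ j ∈ J, j ∈ Z := by
      intro j hj
      refine (hmemZ j).2 ⟨hJS hj, fun s hs => ?_⟩
      obtain ⟨k, j', hj', rfl⟩ := hdec z hzS hzJ s hs
      have c1 : Commute z j := (hzc j (hJS hj)).symm
      exact ((c1.pow_left k).mul_left (hJc j' hj' j hj)).eq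
    have := Subgroup.card_le_of_le (show J ≤ Z from hall)
    omega
  have hZfix : ∀ z ∈ Z, t * z * t = z := fun z hz => by
    have h : t * z = z * t := Subgroup.mem_centralizer_iff.1 (hZT hz) t ht
    rw [h, mul_assoc, htt, mul_one]
  have htS' : ∀ x ∈ (S : Subgroup G), t * x * t ∈ (S : Subgroup G) := fun x hx => by
    have := hSn.conj_mem x hx t; rwa [htinv] at this
  have htJ' : ∀ x ∈ J, t * x * t ∈ J := fun x hx => by
    have := hJn.conj_mem x hx t; rwa [htinv] at this
  -- centralizers in `J` of elements outside `J`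
  have hfixJ : ∀ x ∈ (S : Subgroup G), x ∉ J → ∀ j ∈ J, x * j = j * x → j ∈ Z := by
    intro x hx hxJ j hj hc
    refine (hmemZ j).2 ⟨hJS hj, fun s hs => ?_⟩
    obtain ⟨k, j', hj', rfl⟩ := hdec x hx hxJ s hs
    exact (((show Commute x j from hc).pow_left k).mul_left (hJc j' hj' j hj)).eq
  let Dm : ∀ x : G, J → J := fun x j => ⟨(j : G)⁻¹ * (x * j * x⁻¹), J.mul_mem (J.inv_mem j.2) (hJn.conj_mem _ j.2 x)⟩
  have hNne : ∀ x ∈ (S : Subgroup G), x ∉ J → ∃ j ∈ J, j * (x * j * x⁻¹) * (x * (x * j * x⁻¹) * x⁻¹) ≠ 1 := by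
    intro x hx hxJ
    by_contra hall
    push Not at hall
    letI : CommGroup J := { (inferInstance : Group J) with mul_comm := fun a b => Subtype.ext (hJc a a.2 b b.2) }
    let δ : J →* J := MonoidHom.mk' (Dm x) (fun a b => Subtype.ext (by
      simp only [Dm, Subgroup.coe_mul]
      rw [show ((a : G) * b)⁻¹ * (x * ((a : G) * b) * x⁻¹) = (b : G)⁻¹ * ((a : G)⁻¹ * (x * a * x⁻¹)) * (x * b * x⁻¹) by group,
        hJc _ (J.inv_mem b.2) _ (J.mul_mem (J.inv_mem a.2) (hJn.conj_mem _ a.2 x)), mul_assoc _ (b : G)⁻¹]))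
    have hker : Nat.card δ.ker ≤ 3 := by
      rw [← hZcard]
      refine Nat.card_le_card_of_injective (fun j => (⟨((j : J) : G), ?_⟩ : Z)) fun a b e => ?_
      · refine hfixJ x hx hxJ _ (j : J).2 ?_
        have e : (((j : J) : G))⁻¹ * (x * (j : J) * x⁻¹) = 1 := congrArg Subtype.val j.2
        exact mul_inv_eq_iff_eq_mul.1 (inv_mul_eq_one.1 e).symm
      · exact Subtype.ext (Subtype.ext (congrArg Subtype.val e :))
    have hle : δ.range ≤ δ.ker := by
      rintro _ ⟨j, rfl⟩
      rw [MonoidHom.mem_ker]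
      apply Subtype.ext
      show ((j : G)⁻¹ * (x * j * x⁻¹))⁻¹ * (x * ((j : G)⁻¹ * (x * j * x⁻¹)) * x⁻¹) = 1
      set b := x * (j : G) * x⁻¹ with hb
      have hbJ : b ∈ J := hJn.conj_mem _ j.2 x
      set c := x * b * x⁻¹ with hc
      have hcJ : c ∈ J := hJn.conj_mem _ hbJ x
      have h1 : (j : G) * b * c = 1 := hall j j.2
      rw [show x * ((j : G)⁻¹ * b) * x⁻¹ = (x * j * x⁻¹)⁻¹ * (x * b * x⁻¹) by group, ← hb, ← hc, mul_inv_rev, inv_inv]
      calc b⁻¹ * (j : G) * (b⁻¹ * c) = (j : G) * (b⁻¹ * b⁻¹) * c := by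
            rw [hJc _ (J.inv_mem hbJ) _ j.2]; simp only [mul_assoc]
        _ = (j : G) * b * c := by
            have hb3 : b⁻¹ * b⁻¹ = b := by
              rw [← mul_inv_rev, inv_eq_iff_mul_eq_one, ← pow_two, ← pow_succ]; exact hJexp b hbJ
            rw [hb3]
        _ = 1 := h1
    have hr := Subgroup.card_le_of_le hle
    have := δ.ker.index_mul_card
    rw [Subgroup.index_ker, hJcard] at this
    have hmul : Nat.card δ.range * Nat.card δ.ker ≤ 3 * 3 := Nat.mul_le_mul (hr.trans hker) hker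
    omega
  -- `t` inverts `S / J`
  obtain ⟨u, hu, huJ, htu⟩ : ∃ u ∈ (S : Subgroup G), u ∉ J ∧ t * u * t = u⁻¹ := by
    by_contra hno
    push Not at hno
    have hmod : ∀ x ∈ (S : Subgroup G), x⁻¹ * (t * x * t) ∈ J := by
      intro x hx
      by_contra hxJ
      refine hno _ ((S : Subgroup G).mul_mem ((S : Subgroup G).inv_mem hx) (htS' x hx)) hxJ ?_
      rw [mul_inv_rev, mul_inv_rev, mul_inv_rev, htinv, inv_inv]
      calc t * (x⁻¹ * (t * x * t)) * t = t * x⁻¹ * t * x * (t * t) := by group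
        _ = _ := by rw [htt]; group
    apply hST
    refine le_antisymm inf_le_left (le_inf le_rfl fun x hx => ?_)
    -- `t` centralises `J`
    have hJfix : ∀ j ∈ J, t * j * t = j := by
      obtain ⟨x0, hx0, hx0J⟩ : ∃ x ∈ (S : Subgroup G), x ∉ J := by
        by_contra h; push Not at h
        have := Subgroup.card_le_of_le (show (S : Subgroup G) ≤ J from h)
        omega
      intro j hj
      obtain ⟨a, ha, hx0'⟩ : ∃ a ∈ J, t * x0 * t = x0 * a := ⟨_, hmod x0 hx0, by group⟩
      -- conjugation by `x0` commutes with `t` on `J`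
      have hcomm' : ∀ w ∈ J, t * (x0 * w * x0⁻¹) * t = x0 * (t * w * t) * x0⁻¹ := by
        intro w hw
        have hb := htJ' w hw
        calc t * (x0 * w * x0⁻¹) * t = (t * x0 * t) * (t * w * t) * (t * x0 * t)⁻¹ := by
              rw [mul_inv_rev, mul_inv_rev, htinv]
              simp only [mul_assoc]
              rw [← mul_assoc t t, htt, one_mul, ← mul_assoc t t, htt, one_mul]
          _ = x0 * a * (t * w * t) * (x0 * a)⁻¹ := by rw [hx0']
          _ = _ := by rw [mul_assoc x0 a, hJc a ha _ hb]; group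
      -- the elements fixed by `t` form a subgroup containing the centre
      have step : ∀ w ∈ J, x0 * w * x0⁻¹ * w⁻¹ ∈ {z : G | z ∈ J ∧ t * z * t = z} → t * w * t = w := by
        intro w hw hz
        obtain ⟨-, hz⟩ := hz
        set m := w⁻¹ * (t * w * t) with hm
        have hmJ : m ∈ J := J.mul_mem (J.inv_mem hw) (htJ' w hw)
        have hz' : x0 * (t * w * t) * x0⁻¹ * (t * w * t)⁻¹ = x0 * w * x0⁻¹ * w⁻¹ := by
          rw [← hcomm' w hw]
          refine Eq.trans ?_ hz
          rw [mul_inv_rev, mul_inv_rev, htinv]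
          simp only [mul_assoc]
          rw [← mul_assoc t t, htt, one_mul]
        have hmfix : x0 * m = m * x0 := by
          have hwm : t * w * t = w * m := by rw [hm]; group
          rw [hwm] at hz'
          have e : x0 * w * x0⁻¹ * (x0 * m * x0⁻¹ * m⁻¹) * w⁻¹ = x0 * w * x0⁻¹ * 1 * w⁻¹ := by
            rw [mul_one, ← hz']; group
          have e2 := mul_left_cancel (mul_right_cancel e)
          rwa [mul_inv_eq_one, mul_inv_eq_iff_eq_mul] at e2
        have hmZ := hfixJ x0 hx0 hx0J m hmJ hmfix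
        have h1 : t * m * t = m := hZfix m hmZ
        have h2 : t * m * t = m⁻¹ := by
          rw [hm, mul_inv_rev, mul_inv_rev, mul_inv_rev, htinv, inv_inv]
          simp only [mul_assoc]
          rw [htt, mul_one]
        have h3 : m * m = 1 := by nth_rewrite 2 [← h1.symm.trans h2 |> fun e : m = m⁻¹ => e.symm]; simp
        have h4 : m = 1 := by
          have := hJexp m hmJ
          rw [pow_succ, pow_two, h3, one_mul] at this
          exact this
        rw [hm] at h4
        exact (inv_mul_eq_one.1 h4).symm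
      obtain ⟨b, hb⟩ : ∃ b, b = x0 * j * x0⁻¹ * j⁻¹ := ⟨_, rfl⟩
      have hbJ : b ∈ J := hb ▸ J.mul_mem (hJn.conj_mem j hj x0) (J.inv_mem hj)
      refine step j hj ?_
      rw [← hb]
      refine ⟨hbJ, step b hbJ ?_⟩
      have hcJ : x0 * b * x0⁻¹ * b⁻¹ ∈ J := J.mul_mem (hJn.conj_mem b hbJ x0) (J.inv_mem hbJ)
      refine ⟨hcJ, hZfix _ (hfixJ x0 hx0 hx0J _ hcJ ?_)⟩
      -- `x0 ^ 3` acts trivially, so the third difference vanishes
      have h3 : x0 ^ 3 ∈ J := by
        have hxn : x0 ^ (3 : ℕ) ∈ (S : Subgroup G) := (S : Subgroup G).pow_mem hx0 3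
        obtain ⟨k, j', hj', e⟩ := hdec x0 hx0 hx0J (x0 ^ 3) hxn
        by_contra h
        have hq : orderOf (x0 : G ⧸ J) ∣ 3 := by
          have hc : (J.subgroupOf (S : Subgroup G)).index = 3 := by
            have := (J.subgroupOf (S : Subgroup G)).index_mul_card
            rw [Nat.card_congr (Subgroup.subgroupOfEquivOfLe hJS).toEquiv, hJcard, hScard] at this
            omega
          have hmem := (J.subgroupOf (S : Subgroup G)).pow_index_mem ⟨x0, hx0⟩
          rw [hc] at hmem
          exact absurd hmem h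
        exact h ((QuotientGroup.eq_one_iff _).1 (orderOf_dvd_iff_pow_eq_one.1 hq))
      set c := x0 * b * x0⁻¹ * b⁻¹ with hc
      -- conjugation action computations
      set σ : G → G := fun w => x0 * w * x0⁻¹ with hσ
      have hσJ : ∀ w ∈ J, σ w ∈ J := fun w hw => hJn.conj_mem w hw x0
      have hσm : ∀ a b, σ (a * b) = σ a * σ b := fun a b => by simp only [hσ]; group
      have hσi : ∀ a, σ a⁻¹ = (σ a)⁻¹ := fun a => by simp only [hσ]; group
      have hσ3 : σ (σ (σ j)) = j := by
        have h := hJc _ h3 j hj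
        simp only [hσ]
        calc x0 * (x0 * (x0 * j * x0⁻¹) * x0⁻¹) * x0⁻¹ = (x0 ^ 3 * j) * (x0 ^ 3)⁻¹ := by rw [pow_succ, pow_two]; group
          _ = _ := by rw [h]; group
      have hsig : σ c = c := by
        letI : CommGroup J := { (inferInstance : Group J) with mul_comm := fun a b => Subtype.ext (hJc a a.2 b b.2) }
        obtain ⟨a0, ea0⟩ : ∃ a0 : J, (a0 : G) = j := ⟨⟨j, hj⟩, rfl⟩
        obtain ⟨a1, ea1⟩ : ∃ a1 : J, (a1 : G) = σ j := ⟨⟨_, hσJ j hj⟩, rfl⟩
        obtain ⟨a2, ea2⟩ : ∃ a2 : J, (a2 : G) = σ (σ j) := ⟨⟨_, hσJ _ (hσJ j hj)⟩, rfl⟩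
        have q : ∀ w : J, w⁻¹ * w⁻¹ = w := fun w => by
          have h : w ^ 3 = 1 := Subtype.ext (hJexp _ w.2)
          rw [← mul_inv_rev, inv_eq_iff_mul_eq_one, ← pow_two, ← pow_succ]; exact h
        have ec : c = ((a0 * a1 * a2 : J) : G) := by
          have e0 : a2 * a1⁻¹ * (a1 * a0⁻¹)⁻¹ = a0 * a1 * a2 := by
            calc a2 * a1⁻¹ * (a1 * a0⁻¹)⁻¹ = a0 * (a1⁻¹ * a1⁻¹) * a2 := by rw [mul_inv_rev, inv_inv]; ac_rfl
              _ = _ := by rw [q]
          rw [← e0, hc, hb]
          show σ (σ j * j⁻¹) * (σ j * j⁻¹)⁻¹ = _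
          rw [hσm, hσi, Subgroup.coe_mul, Subgroup.coe_mul, Subgroup.coe_inv, Subgroup.coe_inv, Subgroup.coe_mul, Subgroup.coe_inv, ea2, ea1, ea0]
        rw [ec]
        simp only [Subgroup.coe_mul, hσm, ea0, ea1, ea2, hσ3]
        rw [← ea2, ← ea1, ← ea0]
        simp only [← Subgroup.coe_mul]
        exact congrArg Subtype.val (by ac_rfl)
      simpa [hσ, mul_inv_eq_iff_eq_mul] using hsig
    intro y hy
    rcases hTmem y hy with hy' | hy' <;> rw [hy']
    · simp
    · have ha := hmod x hx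
      have h1 := hJfix _ ha
      have h2 : t * (x⁻¹ * (t * x * t)) * t = (x⁻¹ * (t * x * t))⁻¹ := by
        rw [mul_inv_rev, mul_inv_rev, mul_inv_rev, htinv, inv_inv]
        calc t * (x⁻¹ * (t * x * t)) * t = t * x⁻¹ * t * x * (t * t) := by group
          _ = _ := by rw [htt]; group
      set m := x⁻¹ * (t * x * t) with hm
      have h4 : m = 1 := by
        have h3 : m * m = 1 := by nth_rewrite 2 [h1.symm.trans h2]; simp
        have := hJexp m ha
        rw [pow_succ, pow_two, h3, one_mul] at this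
        exact this
      rw [hm, inv_mul_eq_one] at h4
      nth_rewrite 1 [h4]
      rw [mul_assoc t x t, ← mul_assoc t t, htt, one_mul]
  have hu3 : u ^ 3 = 1 := by
    have h3 : u ^ 3 ∈ J := by
      have hc : (J.subgroupOf (S : Subgroup G)).index = 3 := by
        have := (J.subgroupOf (S : Subgroup G)).index_mul_card
        rw [Nat.card_congr (Subgroup.subgroupOfEquivOfLe hJS).toEquiv, hJcard, hScard] at this
        omega
      have hmem := (J.subgroupOf (S : Subgroup G)).pow_index_mem ⟨u, hu⟩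
      rw [hc] at hmem
      exact hmem
    have hz := hfixJ u hu huJ _ h3 (Commute.self_pow u 3)
    have h1 := hZfix _ hz
    have h2 : t * u ^ 3 * t = (u ^ 3)⁻¹ := by
      have e := conj_pow (i := 3) (a := t) (b := u)
      rw [htinv, htu] at e
      rw [← e, inv_pow]
    have h4 : u ^ 3 * u ^ 3 = 1 := by nth_rewrite 2 [h1.symm.trans h2]; simp
    have := hJexp _ h3
    rw [pow_succ (u ^ 3), pow_two, h4, one_mul] at this
    exact this
  obtain ⟨j, hj, hjN⟩ := hNne u hu huJ
  -- a vector fixed by `t`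
  obtain ⟨v, hv, hvt, hvN⟩ : ∃ v ∈ J, t * v * t = v ∧ v * (u * v * u⁻¹) * (u * (u * v * u⁻¹) * u⁻¹) ≠ 1 := by
    refine ⟨j * (t * j * t), J.mul_mem hj (htJ' j hj), ?_, ?_⟩
    · calc t * (j * (t * j * t)) * t = (t * j * t) * j * (t * t) := by group
        _ = j * (t * j * t) := by rw [htt, mul_one, hJc _ (htJ' j hj) j hj]
    · letI : CommGroup J := { (inferInstance : Group J) with mul_comm := fun a b => Subtype.ext (hJc a a.2 b b.2) }
      intro e
      obtain ⟨a0, ea0⟩ : ∃ a : J, (a : G) = j := ⟨⟨j, hj⟩, rfl⟩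
      obtain ⟨a1, ea1⟩ : ∃ a : J, (a : G) = u * j * u⁻¹ := ⟨⟨_, hJn.conj_mem j hj u⟩, rfl⟩
      obtain ⟨a2, ea2⟩ : ∃ a : J, (a : G) = u * (u * j * u⁻¹) * u⁻¹ := ⟨⟨_, hJn.conj_mem _ (hJn.conj_mem j hj u) u⟩, rfl⟩
      obtain ⟨w, ew⟩ : ∃ w, w = t * j * t := ⟨_, rfl⟩
      have hw : w ∈ J := ew ▸ htJ' j hj
      rw [← ew] at e
      obtain ⟨b0, eb0⟩ : ∃ a : J, (a : G) = w := ⟨⟨w, hw⟩, rfl⟩
      obtain ⟨b1, eb1⟩ : ∃ a : J, (a : G) = u * w * u⁻¹ := ⟨⟨_, hJn.conj_mem w hw u⟩, rfl⟩
      obtain ⟨b2, eb2⟩ : ∃ a : J, (a : G) = u * (u * w * u⁻¹) * u⁻¹ := ⟨⟨_, hJn.conj_mem _ (hJn.conj_mem w hw u) u⟩, rfl⟩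
      let n : G := j * (u * j * u⁻¹) * (u * (u * j * u⁻¹) * u⁻¹)
      have hn : n ∈ J := J.mul_mem (J.mul_mem hj (hJn.conj_mem j hj u)) (hJn.conj_mem _ (hJn.conj_mem j hj u) u)
      have hnz : n ∈ Z := by
        refine hfixJ u hu huJ n hn (mul_inv_eq_iff_eq_mul.1 ?_)
        have h3 : u * (u * (u * j * u⁻¹) * u⁻¹) * u⁻¹ = j := by
          calc u * (u * (u * j * u⁻¹) * u⁻¹) * u⁻¹ = u ^ 3 * j * (u ^ 3)⁻¹ := by rw [pow_succ, pow_two]; group
            _ = j := by rw [hu3]; group
        calc u * n * u⁻¹ = (u * j * u⁻¹) * (u * (u * j * u⁻¹) * u⁻¹) * (u * (u * (u * j * u⁻¹) * u⁻¹) * u⁻¹) := by simp only [n]; group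
          _ = n := by
            rw [h3]
            show (u * j * u⁻¹) * (u * (u * j * u⁻¹) * u⁻¹) * j = n
            simp only [n]
            rw [← ea2, ← ea1, ← ea0, ← Subgroup.coe_mul, ← Subgroup.coe_mul, ← Subgroup.coe_mul, ← Subgroup.coe_mul]
            exact congrArg Subtype.val (by ac_rfl)
      have htn := hZfix n hnz
      have eN : t * n * t = w * (u⁻¹ * w * u) * (u⁻¹ * (u⁻¹ * w * u) * u) := by
        have hκ : ∀ y, t * y * t = MulAut.conj t y := fun y => by rw [MulAut.conj_apply, htinv]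
        rw [hκ, show MulAut.conj t n = MulAut.conj t j * (MulAut.conj t u * MulAut.conj t j * (MulAut.conj t u)⁻¹) *
          (MulAut.conj t u * (MulAut.conj t u * MulAut.conj t j * (MulAut.conj t u)⁻¹) * (MulAut.conj t u)⁻¹) by
            simp only [n, map_mul, map_inv], ← hκ, ← hκ, htu, ← ew, inv_inv]
      have hi : u⁻¹ = u * u := inv_eq_of_mul_eq_one_left (by rw [← pow_two, ← pow_succ]; exact hu3)
      have e1 : u⁻¹ * w * u = u * (u * w * u⁻¹) * u⁻¹ := by
        calc u⁻¹ * w * u = (u * u) * w * (u * u)⁻¹ := by rw [← hi, inv_inv]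
          _ = _ := by group
      have e2 : u⁻¹ * (u⁻¹ * w * u) * u = u * w * u⁻¹ := by
        calc u⁻¹ * (u⁻¹ * w * u) * u = (u⁻¹ * u⁻¹) * w * (u⁻¹ * u⁻¹)⁻¹ := by simp only [mul_inv_rev, inv_inv, mul_assoc]
          _ = _ := by
            have : u⁻¹ * u⁻¹ = u := by rw [← mul_inv_rev, inv_eq_iff_mul_eq_one, ← pow_two, ← pow_succ]; exact hu3
            rw [this]
      rw [e2, e1, ← eb2, ← eb1, ← eb0, ← Subgroup.coe_mul, ← Subgroup.coe_mul, htn] at eN
      apply hjN
      have hA : (((a0 * a1 * a2) * (b0 * b2 * b1) : J) : G) = 1 := by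
        rw [← e]
        have h1 : u * (j * w) * u⁻¹ = (u * j * u⁻¹) * (u * w * u⁻¹) := by group
        have h2 : u * ((u * j * u⁻¹) * (u * w * u⁻¹)) * u⁻¹ = (u * (u * j * u⁻¹) * u⁻¹) * (u * (u * w * u⁻¹) * u⁻¹) := by group
        rw [h1, h2, ← ea2, ← eb2, ← ea1, ← eb1, ← ea0, ← eb0]
        simp only [← Subgroup.coe_mul]
        exact congrArg Subtype.val (by ac_rfl)
      have hn' : n = ((a0 * a1 * a2 : J) : G) := by simp only [n, Subgroup.coe_mul, ea0, ea1, ea2]
      rw [Subgroup.coe_mul, ← eN, ← hn'] at hA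
      show n = 1
      have h3 := hJexp n hn
      rw [pow_succ, pow_two, hA, one_mul] at h3
      exact h3
  have hu1 : t ∉ J := fun h => htS (hJS h)
  obtain ⟨iso⟩ := model_of_group hG J u t hJc hJexp hJcard hu3 huJ htt hu1 htu v hv hvt hvN
  obtain ⟨iso2⟩ := model_centralizer lab _ lab_spec
  exact ⟨iso.symm.trans iso2⟩

end Cfsg.Agent.S3376
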