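import Cfsg.Statements.S3378

import Cfsg.Agent.Perm.ZassenhausSL
import Cfsg.Agent.S3377

set_option autoImplicit false
set_option linter.style.haveILetI false
open Cfsg

namespace Cfsg.Agent.S3378
open CfsgLib.Perm.Fpf

theorem alt5_two_invol : ∃ s t : alternatingGroup (Fin 5), s ^ 2 = 1 ∧ t ^ 2 = 1 ∧ s ≠ 1 ∧ t ≠ 1 ∧ s ≠ t ∧ s * t = t * s := by
  refine ⟨⟨Equiv.swap 0 1 * Equiv.swap 2 3, Equiv.Perm.mem_alternatingGroup.2 (by decide)⟩,
    ⟨Equiv.swap 0 2 * Equiv.swap 1 3, Equiv.Perm.mem_alternatingGroup.2 (by decide)⟩, ?_⟩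
  decide

theorem q8_invol : ∀ a b : QuaternionGroup 2, a * a = 1 → b * b = 1 → a ≠ 1 → b ≠ 1 → a = b := by decide

theorem perfect_and_unique {G : Type*} [Group G] [Finite G] (hc : Nat.card G = 120) (hns : ¬ Group.IsSolvable G)
    (hQ : ∀ P : Sylow 2 G, Nonempty ((P : Subgroup G) ≃* QuaternionGroup 2)) :
    commutator G = ⊤ ∧ UniqueInvol G := by
  classical
  haveI := Fact.mk Nat.prime_two
  haveI h5 : Fact (Nat.Prime 5) := ⟨by norm_num⟩
  have hcomm : ∀ s t : G, orderOf s = 2 → orderOf t = 2 → s * t = t * s → s = t := by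
    intro s t hs ht hst
    have hs1 : IsPGroup 2 (Subgroup.zpowers s) := IsPGroup.of_card (n := 1) (by rw [Nat.card_zpowers, hs, pow_one])
    have ht1 : IsPGroup 2 (Subgroup.zpowers t) := IsPGroup.of_card (n := 1) (by rw [Nat.card_zpowers, ht, pow_one])
    obtain ⟨P, hP⟩ := (hs1.to_sup_of_normal_right' ht1 (Subgroup.zpowers_le.2
      (mem_normalizer_zpowers (by rw [hst, mul_inv_cancel_right]; exact Subgroup.mem_zpowers t)))).exists_le_sylow
    obtain ⟨e⟩ := hQ P
    have hsP : s ∈ (P : Subgroup G) := hP (Subgroup.mem_sup_left (Subgroup.mem_zpowers s))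
    have htP : t ∈ (P : Subgroup G) := hP (Subgroup.mem_sup_right (Subgroup.mem_zpowers t))
    have hsq : ∀ {x : G} (hx : x ∈ (P : Subgroup G)), orderOf x = 2 → e ⟨x, hx⟩ * e ⟨x, hx⟩ = 1 ∧ e ⟨x, hx⟩ ≠ 1 := by
      intro x hx ho
      refine ⟨?_, fun e1 => ?_⟩
      · rw [← map_mul, EmbeddingLike.map_eq_one_iff]
        refine Subtype.ext ?_
        have := pow_orderOf_eq_one x
        rwa [ho, pow_two] at this
      · rw [EmbeddingLike.map_eq_one_iff] at e1
        rw [show x = 1 from congrArg Subtype.val e1, orderOf_one] at ho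
        omega
    exact congrArg Subtype.val (e.injective (q8_invol _ _ (hsq hsP hs).1 (hsq htP ht).1 (hsq hsP hs).2 (hsq htP ht).2))
  have hperf : commutator G = ⊤ := by
    have hns' : ¬ Group.IsSolvable (⊤ : Subgroup G) := fun h => hns
      (Group.isSolvable_of_isSolvable_injective (f := (Subgroup.topEquiv.symm : G ≃* (⊤ : Subgroup G)).toMonoidHom)
        (MulEquiv.injective _))
    obtain ⟨L, -, hLb, hLp, -⟩ := exists_perfect hns'
    haveI := (Subgroup.nontrivial_iff_ne_bot L).2 hLb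
    by_cases hL60 : Nat.card L = 60
    · exfalso
      haveI := isSimple_of_perfect_sixty hL60 (perfect_subtype hLp)
      obtain ⟨e⟩ := CfsgLib.OrderSixty.iso_alt5 hL60
      obtain ⟨s, t, hs, ht, hs1, ht1, hne, hst⟩ := alt5_two_invol
      set f : alternatingGroup (Fin 5) →* G := L.subtype.comp e.symm.toMonoidHom
      have hf : Function.Injective f := L.subtype_injective.comp e.symm.injective
      refine hne (hf (hcomm (f s) (f t) ?_ ?_ (by rw [← map_mul, hst, map_mul])))
      · rw [orderOf_injective f hf]; exact orderOf_eq_prime hs hs1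
      · rw [orderOf_injective f hf]; exact orderOf_eq_prime ht ht1
    have hL : L = ⊤ := by
      refine Subgroup.eq_top_of_card_eq L ?_
      by_contra h
      haveI := solvable_of_dvd_120 (hc ▸ L.card_subgroup_dvd_card) hL60 (hc ▸ h)
      exact not_perfect_of_solvable (perfect_subtype hLp)
    rw [commutator_def, ← hL, hLp]
  refine ⟨hperf, ?_⟩
  haveI : Nontrivial G := Finite.one_lt_card_iff_nontrivial.1 (by omega)
  obtain ⟨P⟩ : Nonempty (Sylow 5 G) := inferInstance
  have hP : Nat.card (P : Subgroup G) = 5 := by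
    rw [Sylow.card_eq_multiplicity, hc, show (120 : ℕ) = 5 ^ 1 * 24 by norm_num,
      Nat.factorization_mul (pow_ne_zero 1 (by norm_num)) (by norm_num), Finsupp.add_apply,
      Nat.Prime.factorization_pow h5.out, Finsupp.single_eq_same,
      Nat.factorization_eq_zero_of_not_dvd (by norm_num : ¬ 5 ∣ 24)]
    norm_num
  have hn : Nat.card (Sylow 5 G) = 6 := by
    have hidx : (P : Subgroup G).index = 24 := by
      have := (P : Subgroup G).card_mul_index
      rw [hP, hc] at this; omega
    have h1 : Nat.card (Sylow 5 G) ∣ 24 := hidx ▸ P.card_dvd_index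
    have h2 := card_sylow_modEq_one 5 G
    rw [Nat.ModEq] at h2
    have hne : Nat.card (Sylow 5 G) ≠ 1 := by
      intro e
      haveI : (P : Subgroup G).Normal := by
        haveI := (Nat.card_eq_one_iff_unique.1 e).1
        exact Sylow.normal_of_subsingleton P
      haveI : Nontrivial (G ⧸ (P : Subgroup G)) := QuotientGroup.nontrivial_iff.2 fun e1 => by
        rw [e1, Subgroup.card_top, hc] at hP; omega
      haveI : Group.IsSolvable (G ⧸ (P : Subgroup G)) := solvable_of_dvd_120
        (by rw [← Subgroup.index_eq_card, hidx]; norm_num) (by rw [← Subgroup.index_eq_card, hidx]; norm_num)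
        (by rw [← Subgroup.index_eq_card, hidx]; norm_num)
      exact not_perfect_of_solvable (perfect_of_surjective _ (QuotientGroup.mk'_surjective (P : Subgroup G)) hperf)
    have hle := Nat.le_of_dvd (by norm_num) h1
    generalize Nat.card (Sylow 5 G) = n at h1 h2 hle hne ⊢
    interval_cases n <;> omega
  letI := Fintype.ofFinite (Sylow 5 G)
  set φ := MulAction.toPermHom G (Sylow 5 G) with hφ
  have halt : φ.range ≤ alternatingGroup (Sylow 5 G) := by
    rintro _ ⟨g, rfl⟩
    rw [Equiv.Perm.mem_alternatingGroup]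
    exact Abelianization.commutator_subset_ker (Equiv.Perm.sign.comp φ) (hperf ▸ Subgroup.mem_top g)
  have hK : φ.ker ≠ ⊥ := by
    intro e
    have hcard : Fintype.card (Sylow 5 G) = 6 := by rw [← Nat.card_eq_fintype_card, hn]
    haveI := alternatingGroup.isSimpleGroup (α := Sylow 5 G) (by rw [Nat.card_eq_fintype_card, hcard]; norm_num)
    let ψ : G →* alternatingGroup (Sylow 5 G) := φ.codRestrict _ fun g => halt ⟨g, rfl⟩
    have hψ : Function.Injective ψ := fun a b h =>
      (MonoidHom.ker_eq_bot_iff _).1 e (congrArg Subtype.val h)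
    haveI : Nontrivial (Sylow 5 G) := Finite.one_lt_card_iff_nontrivial.1 (by omega)
    have hA : Nat.card (alternatingGroup (Sylow 5 G)) = 360 := by
      have h2 := two_mul_card_alternatingGroup (α := Sylow 5 G)
      rw [Fintype.card_perm, hcard, show Nat.factorial 6 = 720 by decide] at h2
      rw [Nat.card_eq_fintype_card]; omega
    have hi : ψ.range.index = 3 := by
      have := ψ.range.card_mul_index
      rw [hA, ← Nat.card_congr (MonoidHom.ofInjective hψ).toEquiv, hc] at this
      omega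
    rcases (Subgroup.normalCore_normal ψ.range).eq_bot_or_eq_top with h | h
    · have hinj : Function.Injective
          (MulAction.toPermHom (alternatingGroup (Sylow 5 G)) (alternatingGroup (Sylow 5 G) ⧸ ψ.range)) := by
        rw [← MonoidHom.ker_eq_bot_iff, ← Subgroup.normalCore_eq_ker, h]
      have hd := Subgroup.card_dvd_of_injective _ hinj
      rw [Nat.card_perm, hA, ← Subgroup.index_eq_card, hi, show Nat.factorial 3 = 6 by decide] at hd
      norm_num at hd
    · have := Subgroup.normalCore_le ψ.range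
      rw [h, top_le_iff] at this
      rw [this, Subgroup.index_top] at hi
      omega
  have hKt : φ.ker ≠ ⊤ := by
    intro e
    haveI : Subsingleton (Sylow 5 G) := ⟨fun Q R => by
      obtain ⟨g, rfl⟩ := MulAction.exists_smul_eq G Q R
      have hg : φ g = 1 := MonoidHom.mem_ker.1 (e ▸ Subgroup.mem_top g)
      exact (congrFun (congrArg DFunLike.coe hg) Q).symm⟩
    have := Finite.card_le_one_iff_subsingleton.2 (inferInstance : Subsingleton (Sylow 5 G))
    omega
  haveI : Nontrivial (G ⧸ φ.ker) := QuotientGroup.nontrivial_iff.2 hKt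
  have hK2 : Nat.card φ.ker = 2 := by
    have hmul := φ.ker.card_mul_index
    rw [hc, Subgroup.index_eq_card] at hmul
    by_contra hne
    have h1 := φ.ker.one_lt_card_iff_ne_bot.2 hK
    haveI : Group.IsSolvable (G ⧸ φ.ker) := solvable_of_dvd_120 ⟨Nat.card φ.ker, by rw [mul_comm, hmul]⟩
      (fun e => hne (by rw [e] at hmul; omega)) (fun e => by rw [e] at hmul; omega)
    exact not_perfect_of_solvable (perfect_of_surjective _ (QuotientGroup.mk'_surjective φ.ker) hperf)
  obtain ⟨⟨k, hk⟩, hko⟩ := exists_prime_orderOf_dvd_card' (G := φ.ker) 2 (by rw [hK2])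
  rw [Subgroup.orderOf_mk] at hko
  have hkz : ∀ g : G, g * k = k * g := by
    intro g
    have h1 : g * k * g⁻¹ ∈ φ.ker := MonoidHom.normal_ker φ |>.conj_mem k hk g
    have h2 : Subgroup.zpowers k = φ.ker :=
      Subgroup.eq_of_le_of_card_ge (Subgroup.zpowers_le.2 hk) (by rw [Nat.card_zpowers, hko, hK2])
    rw [← h2] at h1
    obtain ⟨l, hl⟩ := mem_powers_iff_mem_zpowers.2 h1
    change k ^ l = _ at hl
    have hl' := pow_mod_orderOf k l
    rw [hko, hl] at hl'
    rcases Nat.mod_two_eq_zero_or_one l with e | e <;> rw [e] at hl'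
    · rw [pow_zero, eq_comm, conj_eq_one_iff] at hl'
      rw [hl', orderOf_one] at hko; omega
    · rw [pow_one] at hl'; exact mul_inv_eq_iff_eq_mul.1 hl'.symm
  intro s t hs ht
  rw [hcomm s k hs hko (hkz s), hcomm t k ht hko (hkz t)]

abbrev rels3 : Set (FreeGroup (Fin 3)) :=
  {FreeGroup.of (0 : Fin 3) ^ 3, FreeGroup.of (1 : Fin 3) ^ 5, FreeGroup.of (2 : Fin 3) ^ 2,
    (FreeGroup.of (2 : Fin 3))⁻¹ * FreeGroup.of 0 * FreeGroup.of 2 * (FreeGroup.of (0 : Fin 3))⁻¹,
    (FreeGroup.of (2 : Fin 3))⁻¹ * FreeGroup.of 1 * FreeGroup.of 2 * (FreeGroup.of (1 : Fin 3))⁻¹,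
    (FreeGroup.of (0 : Fin 3) * FreeGroup.of 1) ^ 2 * (FreeGroup.of (2 : Fin 3))⁻¹}

abbrev SL5 := Matrix.SpecialLinearGroup (Fin 2) (ZMod 5)

def matA : SL5 := ⟨!![0, -1; 1, -1], by decide⟩
def matB : SL5 := ⟨!![1, 1; 0, 1], by decide⟩
def matZ : SL5 := ⟨!![-1, 0; 0, -1], by decide⟩

theorem mats : matA ^ 3 = 1 ∧ matA ≠ 1 ∧ matB ^ 5 = 1 ∧ matB ≠ 1 ∧ matZ ^ 2 = 1 ∧ matZ * matA = matA * matZ ∧
    matZ * matB = matB * matZ ∧ (matA * matB) ^ 2 = matZ ∧ matZ ≠ 1 := by decide +kernel

set_option maxHeartbeats 1000000 in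
theorem presented : Nonempty (PresentedGroup rels3 ≃* SL5) := by
  classical
  haveI h3 : Fact (Nat.Prime 3) := ⟨by norm_num⟩
  haveI h5 : Fact (Nat.Prime 5) := ⟨by norm_num⟩
  set P := PresentedGroup rels3
  obtain ⟨hA3, hA1, hB5, hB1, hZ2, hZA, hZB, hAB, hZ1⟩ := mats
  have hrel : ∀ r ∈ rels3, FreeGroup.lift ![matA, matB, matZ] r = 1 := by
    intro r hr
    simp only [rels3, Set.mem_insert_iff, Set.mem_singleton_iff] at hr
    rcases hr with rfl | rfl | rfl | rfl | rfl | rfl
    · simpa using hA3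
    · simpa using hB5
    · simpa using hZ2
    · simp [mul_assoc, ← hZA]
      rw [← mul_assoc matA matZ, ← hZA, mul_assoc, mul_inv_cancel, mul_one, inv_mul_cancel]
    · simp [mul_assoc, ← hZB]
      rw [← mul_assoc matB matZ, ← hZB, mul_assoc, mul_inv_cancel, mul_one, inv_mul_cancel]
    · simp [hAB]
  let f : P →* SL5 := PresentedGroup.toGroup hrel
  set a : P := PresentedGroup.of (0 : Fin 3) with ha
  set b : P := PresentedGroup.of (1 : Fin 3) with hb
  set z : P := PresentedGroup.of (2 : Fin 3) with hz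
  have hfa : f a = matA := PresentedGroup.toGroup.of _
  have hfb : f b = matB := PresentedGroup.toGroup.of _
  have hfz : f z = matZ := PresentedGroup.toGroup.of _
  have ra : a ^ 3 = 1 := PresentedGroup.one_of_mem (x := FreeGroup.of (0 : Fin 3) ^ 3) (by simp)
  have rb : b ^ 5 = 1 := PresentedGroup.one_of_mem (x := FreeGroup.of (1 : Fin 3) ^ 5) (by simp)
  have rz : z ^ 2 = 1 := PresentedGroup.one_of_mem (x := FreeGroup.of (2 : Fin 3) ^ 2) (by simp)
  have rza : z⁻¹ * a * z * a⁻¹ = 1 := PresentedGroup.one_of_mem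
    (x := (FreeGroup.of (2 : Fin 3))⁻¹ * FreeGroup.of 0 * FreeGroup.of 2 * (FreeGroup.of (0 : Fin 3))⁻¹) (by simp)
  have rzb : z⁻¹ * b * z * b⁻¹ = 1 := PresentedGroup.one_of_mem
    (x := (FreeGroup.of (2 : Fin 3))⁻¹ * FreeGroup.of 1 * FreeGroup.of 2 * (FreeGroup.of (1 : Fin 3))⁻¹) (by simp)
  have rab : (a * b) ^ 2 * z⁻¹ = 1 := PresentedGroup.one_of_mem
    (x := (FreeGroup.of (0 : Fin 3) * FreeGroup.of 1) ^ 2 * (FreeGroup.of (2 : Fin 3))⁻¹) (by simp)
  have hca : a * z = z * a := by
    rw [mul_inv_eq_one, mul_assoc, inv_mul_eq_iff_eq_mul] at rza; exact rza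
  have hcb : b * z = z * b := by
    rw [mul_inv_eq_one, mul_assoc, inv_mul_eq_iff_eq_mul] at rzb; exact rzb
  have htop : Subgroup.closure ({a, b, z} : Set P) = ⊤ := by
    rw [eq_top_iff, ← PresentedGroup.closure_range_of rels3]
    refine Subgroup.closure_mono ?_
    rintro _ ⟨i, rfl⟩
    fin_cases i <;> simp [ha, hb, hz]
  have hcen : ∀ g : P, g * z = z * g := by
    intro g
    have hle : Subgroup.closure ({a, b, z} : Set P) ≤ Subgroup.centralizer ({z} : Set P) := by
      rw [Subgroup.closure_le]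
      rintro x (rfl | rfl | rfl)
      · exact Subgroup.mem_centralizer_singleton_iff.2 hca
      · exact Subgroup.mem_centralizer_singleton_iff.2 hcb
      · exact Subgroup.mem_centralizer_singleton_iff.2 rfl
    exact Subgroup.mem_centralizer_singleton_iff.1 (hle (htop ▸ Subgroup.mem_top g))
  haveI : (Subgroup.zpowers z).Normal := ⟨fun n hn g => by
    obtain ⟨l, rfl⟩ := Subgroup.mem_zpowers_iff.1 hn
    rw [(Commute.zpow_right (hcen g) l).eq, mul_inv_cancel_right]
    exact hn⟩
  set π := QuotientGroup.mk' (Subgroup.zpowers z)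
  have hπz : π z = 1 := (QuotientGroup.eq_one_iff _).2 (Subgroup.mem_zpowers z)
  obtain ⟨e⟩ := Cfsg.Agent.S3377.result
  let ρ : PresentedGroup ({FreeGroup.of (0 : Fin 2) ^ 3, FreeGroup.of (1 : Fin 2) ^ 5,
      (FreeGroup.of (0 : Fin 2) * FreeGroup.of 1) ^ 2} : Set (FreeGroup (Fin 2))) →* P ⧸ Subgroup.zpowers z :=
    PresentedGroup.toGroup (f := ![π a, π b]) (by
      intro r hr
      simp only [Set.mem_insert_iff, Set.mem_singleton_iff] at hr
      rcases hr with rfl | rfl | rfl
      · rw [map_pow, FreeGroup.lift_apply_of]; show π a ^ 3 = 1; rw [← map_pow, ra, map_one]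
      · rw [map_pow, FreeGroup.lift_apply_of]; show π b ^ 5 = 1; rw [← map_pow, rb, map_one]
      · simp only [map_pow, map_mul, FreeGroup.lift_apply_of, Matrix.cons_val_zero, Matrix.cons_val_one]
        rw [← map_mul, ← map_pow, show (a * b) ^ 2 = z from mul_inv_eq_one.1 rab, hπz])
  have hρ : Function.Surjective ρ := by
    rw [← MonoidHom.range_eq_top, eq_top_iff, ← Subgroup.map_top_of_surjective π (QuotientGroup.mk'_surjective _),
      ← htop, MonoidHom.map_closure, Subgroup.closure_le]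
    rintro _ ⟨x, hx, rfl⟩
    rcases hx with rfl | rfl | rfl
    · exact ⟨PresentedGroup.of 0, PresentedGroup.toGroup.of _⟩
    · exact ⟨PresentedGroup.of 1, PresentedGroup.toGroup.of _⟩
    · exact ⟨1, by rw [map_one, hπz]⟩
  haveI : Finite (P ⧸ Subgroup.zpowers z) :=
    Finite.of_surjective (ρ.comp e.symm.toMonoidHom) (hρ.comp e.symm.surjective)
  have h60 : Nat.card (alternatingGroup (Fin 5)) = 60 := by rw [Nat.card_eq_fintype_card]; decide +kernel
  have hq : Nat.card (P ⧸ Subgroup.zpowers z) ≤ 60 :=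
    h60 ▸ Nat.card_le_card_of_surjective (ρ.comp e.symm.toMonoidHom) (hρ.comp e.symm.surjective)
  haveI : Finite (Subgroup.zpowers z) :=
    (finite_zpowers.2 (isOfFinOrder_iff_pow_eq_one.2 ⟨2, two_pos, rz⟩)).to_subtype
  haveI : Finite P := Finite.of_equiv _ (Subgroup.groupEquivQuotientProdSubgroup (s := Subgroup.zpowers z)).symm
  have hP : Nat.card P ≤ 120 := by
    rw [Subgroup.card_eq_card_quotient_mul_card_subgroup (Subgroup.zpowers z), Nat.card_zpowers]
    calc _ ≤ 60 * 2 := Nat.mul_le_mul hq (orderOf_le_of_pow_eq_one two_pos rz)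
      _ = 120 := rfl
  have hR : f.range = ⊤ := by
    have oA : orderOf matA = 3 := orderOf_eq_prime hA3 hA1
    have oB : orderOf matB = 5 := orderOf_eq_prime hB5 hB1
    have oAB : orderOf (matA * matB) = 4 := by
      haveI := Fact.mk Nat.prime_two
      refine orderOf_eq_prime_pow (p := 2) (n := 1) ?_ ?_
      · rw [pow_one, hAB]; exact hZ1
      · rw [show (2 : ℕ) ^ (1 + 1) = 2 * 2 by norm_num, pow_mul, hAB, hZ2]
    have d3 : 3 ∣ Nat.card f.range := by
      have h := Subgroup.orderOf_dvd_natCard f.range (x := matA) ⟨a, hfa⟩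
      rwa [oA] at h
    have d5 : 5 ∣ Nat.card f.range := by
      have h := Subgroup.orderOf_dvd_natCard f.range (x := matB) ⟨b, hfb⟩
      rwa [oB] at h
    have d4 : 4 ∣ Nat.card f.range := by rw [← oAB]; exact Subgroup.orderOf_dvd_natCard _ ⟨a * b, by rw [map_mul, hfa, hfb]⟩
    have d60 : 60 ∣ Nat.card f.range := by
      have h12 := Nat.Coprime.mul_dvd_of_dvd_of_dvd (by norm_num : Nat.Coprime 3 4) d3 d4
      simpa using Nat.Coprime.mul_dvd_of_dvd_of_dvd (by norm_num : Nat.Coprime (3 * 4) 5) h12 d5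
    have hmul := f.range.card_mul_index
    rw [sl25_card] at hmul
    obtain ⟨c, hc⟩ := d60
    rw [hc] at hmul
    have hidx : f.range.index = 1 ∨ f.range.index = 2 := by
      rcases c with _ | _ | _ | c
      · omega
      · omega
      · omega
      · rcases Nat.eq_zero_or_pos f.range.index with h0 | h0
        · rw [h0] at hmul; omega
        · nlinarith
    rcases hidx with h | h
    · exact Subgroup.index_eq_one.1 h
    · exfalso
      haveI := Subgroup.normal_of_index_eq_two h
      haveI : Group.IsSolvable (SL5 ⧸ f.range) := solvable_of_dvd_120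
        (by rw [← Subgroup.index_eq_card, h]; norm_num) (by rw [← Subgroup.index_eq_card, h]; norm_num)
        (by rw [← Subgroup.index_eq_card, h]; norm_num)
      haveI : Nontrivial (SL5 ⧸ f.range) := Finite.one_lt_card_iff_nontrivial.1 (by
        rw [← Subgroup.index_eq_card, h]; norm_num)
      exact not_perfect_of_solvable (perfect_of_surjective _ (QuotientGroup.mk'_surjective f.range) sl25_perfect)
  have hsurj : Function.Surjective f := MonoidHom.range_eq_top.1 hR
  refine ⟨MulEquiv.ofBijective f ((Nat.bijective_iff_surjective_and_card f).2 ⟨hsurj, ?_⟩)⟩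
  have h1 := Nat.card_le_card_of_surjective _ hsurj
  rw [sl25_card] at h1 ⊢
  omega

/-- Every non-solvable group of order 120 whose Sylow 2-subgroups are quaternion of order 8 is isomorphic to SL(2,5), and SL(2,5) has the presentation ⟨x, y, z | x³ = y⁵ = z² = 1, z⁻¹xz = x, z⁻¹yz = y, (xy)² = z⟩. -/
theorem result :
    (∀ (G : Type*) [Group G] [Finite G], Nat.card G = 120 → ¬ Group.IsSolvable G →
      (∀ P : Sylow 2 G, Nonempty ((P : Subgroup G) ≃* QuaternionGroup 2)) →
      Nonempty (G ≃* Matrix.SpecialLinearGroup (Fin 2) (ZMod 5))) ∧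
    Nonempty (PresentedGroup ({FreeGroup.of (0 : Fin 3) ^ 3, FreeGroup.of (1 : Fin 3) ^ 5, FreeGroup.of (2 : Fin 3) ^ 2,
        (FreeGroup.of (2 : Fin 3))⁻¹ * FreeGroup.of 0 * FreeGroup.of 2 * (FreeGroup.of (0 : Fin 3))⁻¹,
        (FreeGroup.of (2 : Fin 3))⁻¹ * FreeGroup.of 1 * FreeGroup.of 2 * (FreeGroup.of (1 : Fin 3))⁻¹,
        (FreeGroup.of (0 : Fin 3) * FreeGroup.of 1) ^ 2 * (FreeGroup.of (2 : Fin 3))⁻¹} : Set (FreeGroup (Fin 3)))
      ≃* Matrix.SpecialLinearGroup (Fin 2) (ZMod 5)) := by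
  refine ⟨fun G _ _ hc hns hQ => ?_, presented⟩
  obtain ⟨hp, hu⟩ := perfect_and_unique hc hns hQ
  exact iso_SL25 hc hp hu

end Cfsg.Agent.S3378
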