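import Cfsg.Statements.S3379
import Mathlib.GroupTheory.SpecificGroups.ZGroup
import Mathlib.GroupTheory.SchurZassenhaus
import Mathlib.Tactic
-- import your own Cfsg.Agent.* helpers here

set_option autoImplicit false
open Cfsg

namespace Cfsg.Agent.S3379

/-- Let G be a finite group all of whose Sylow subgroups are cyclic. Then G is generated by two elements x and y of coprime orders n and m with x⁻¹yx = y^r, where gcd(r − 1, m) = 1 and r^n ≡ 1 (mod m). -/
theorem result {G : Type*} [Group G] [Finite G]
    (hZ : ∀ (p : ℕ) [Fact p.Prime] (P : Sylow p G), IsCyclic (P : Subgroup G)) :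
    ∃ (x y : G) (n m r : ℕ), Subgroup.closure {x, y} = ⊤ ∧ orderOf x = n ∧ orderOf y = m ∧
      x⁻¹ * y * x = y ^ r ∧ Nat.Coprime (r - 1) m ∧ Nat.Coprime n m ∧ 1 ≤ r ∧ r ^ n % m = 1 % m := by
  classical
  haveI : IsZGroup G := ⟨fun p hp P => @hZ p ⟨hp⟩ P⟩
  set Y := commutator G with hY
  haveI : IsCyclic Y := IsZGroup.isCyclic_commutator G
  obtain ⟨⟨y, hyY⟩, hy⟩ := IsCyclic.exists_generator (α := Y)
  obtain ⟨X, hX⟩ := Subgroup.exists_right_complement'_of_coprime (N := Y) (IsZGroup.coprime_commutator_index G)
  have hYz : Subgroup.zpowers y = Y := by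
    refine le_antisymm (Subgroup.zpowers_le.2 hyY) fun a ha => ?_
    obtain ⟨k, hk⟩ := Subgroup.mem_zpowers_iff.1 (hy ⟨a, ha⟩)
    exact ⟨k, congrArg Subtype.val hk⟩
  have hXc : IsCyclic X := by
    have hXab : ∀ a b : X, a * b = b * a := by
      intro a b
      open scoped commutatorElement in
      have h1 : ⁅(a : G), (b : G)⁆ ∈ Y ⊓ X := ⟨Subgroup.commutator_mem_commutator (Subgroup.mem_top _) (Subgroup.mem_top _),
        X.mul_mem (X.mul_mem (X.mul_mem a.2 b.2) (X.inv_mem a.2)) (X.inv_mem b.2)⟩
      rw [hX.disjoint.eq_bot, Subgroup.mem_bot, commutatorElement_eq_one_iff_commute] at h1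
      exact Subtype.ext h1
    haveI : IsZGroup X := IsZGroup.of_injective X.subtype_injective
    letI : CommGroup X := { (inferInstance : Group X) with mul_comm := hXab }
    haveI : Group.IsNilpotent X := CommGroup.isNilpotent
    infer_instance
  obtain ⟨⟨x, hxX⟩, hx⟩ := hXc.exists_generator
  have hXz : Subgroup.zpowers x = X := by
    refine le_antisymm (Subgroup.zpowers_le.2 hxX) fun a ha => ?_
    obtain ⟨k, hk⟩ := Subgroup.mem_zpowers_iff.1 (hx ⟨a, ha⟩)
    exact ⟨k, congrArg Subtype.val hk⟩
  have hYn : Y.Normal := inferInstance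
  obtain ⟨r₀, hr₀⟩ : ∃ r₀ : ℕ, y ^ r₀ = x⁻¹ * y * x := by
    have hm : x⁻¹ * y * x ∈ Y := by simpa using hYn.conj_mem y hyY x⁻¹
    rw [← hYz] at hm
    obtain ⟨i, _, hi⟩ := Finset.mem_image.1 (mem_zpowers_iff_mem_range_orderOf.1 hm)
    exact ⟨i, hi⟩
  set m := orderOf y with hm
  set r := r₀ + m with hr
  have hrel : x⁻¹ * y * x = y ^ r := by rw [hr, pow_add, hm, pow_orderOf_eq_one, mul_one, hr₀]
  have hm0 : 0 < m := orderOf_pos y
  have htop : Subgroup.closure ({x, y} : Set G) = ⊤ := by
    rw [eq_top_iff, ← hX.sup_eq_top, sup_le_iff]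
    refine ⟨?_, ?_⟩
    · rw [← hYz, Subgroup.zpowers_le]; exact Subgroup.subset_closure (Or.inr rfl)
    · rw [← hXz, Subgroup.zpowers_le]; exact Subgroup.subset_closure (Or.inl rfl)
  have hcop : Nat.Coprime (orderOf x) m := by
    have h := IsZGroup.coprime_commutator_index G
    rw [hX.symm.index_eq_card] at h
    rw [hm, ← Nat.card_zpowers, ← Nat.card_zpowers, hXz, hYz]
    exact h.symm
  refine ⟨x, y, orderOf x, m, r, htop, rfl, rfl, hrel, ?_, hcop, by omega, ?_⟩
  · -- the commutator y^(r-1) generates the derived group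
    set w := y ^ (r - 1) with hw
    have hxw : x⁻¹ * w * x = w ^ r := by
      have := conj_pow (a := x⁻¹) (b := y) (i := r - 1)
      rw [inv_inv, hrel] at this
      rw [hw, ← this, ← pow_mul, ← pow_mul, mul_comm]
    haveI : (Subgroup.zpowers w).Normal := by
      refine Subgroup.normalizer_eq_top_iff.1 (eq_top_iff.2 (htop ▸ ?_))
      rw [Subgroup.closure_le]
      rintro g (rfl | rfl)
      · have hle : (Subgroup.zpowers w).map (MulAut.conj g⁻¹).toMonoidHom ≤ Subgroup.zpowers w := by
          rw [MonoidHom.map_zpowers, Subgroup.zpowers_le]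
          show g⁻¹ * w * g⁻¹⁻¹ ∈ _
          rw [inv_inv, hxw]; exact Subgroup.npow_mem_zpowers w r
        have heq := Subgroup.eq_of_le_of_card_ge hle (by rw [Subgroup.card_map_of_injective (MulAut.conj g⁻¹).injective])
        have hmem : g⁻¹ ∈ Subgroup.normalizer ((Subgroup.zpowers w : Subgroup G) : Set G) := by
          refine Subgroup.mem_normalizer_iff.2 fun a => ⟨fun ha => heq ▸ ⟨a, ha, rfl⟩, fun ha => ?_⟩
          rw [← heq] at ha
          obtain ⟨b, hb, hbe⟩ := ha
          rwa [← (MulAut.conj g⁻¹).injective (a₁ := b) (a₂ := a) hbe]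
        simpa using inv_mem hmem
      · refine Subgroup.mem_normalizer_iff.2 fun a => ?_
        constructor
        · intro ha
          obtain ⟨i, rfl⟩ := Subgroup.mem_zpowers_iff.1 ha
          have : Commute g (w ^ i) := ((Commute.refl g).pow_right _).zpow_right i
          rw [this.eq, mul_inv_cancel_right]; exact ha
        · intro ha
          obtain ⟨i, hi⟩ := Subgroup.mem_zpowers_iff.1 ha
          have hc : Commute g (w ^ i) := ((Commute.refl g).pow_right _).zpow_right i
          have : a = w ^ i := by
            calc a = g⁻¹ * (g * a * g⁻¹) * g := by group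
              _ = g⁻¹ * (w ^ i * g) := by rw [← hi]; group
              _ = w ^ i := by rw [← hc.eq]; group
          exact this ▸ Subgroup.zpow_mem_zpowers w i
    have hle : Y ≤ Subgroup.zpowers w := by
      rw [hY, ← Subgroup.Normal.quotient_commutative_iff_commutator_le]
      refine ⟨?_⟩
      set q := QuotientGroup.mk' (Subgroup.zpowers w) with hq
      have hqxy : Commute (q x) (q y) := by
        have : q (y ^ (r - 1)) = 1 := (QuotientGroup.eq_one_iff _).2 (Subgroup.mem_zpowers w)
        have h2 : q (x⁻¹ * y * x) = q y := by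
          rw [hrel, show r = r - 1 + 1 by omega, pow_succ, map_mul, this, one_mul]
        rw [map_mul, map_mul, map_inv, mul_assoc, inv_mul_eq_iff_eq_mul] at h2
        exact h2.symm
      have key : ∀ g : G, Commute (q g) (q x) ∧ Commute (q g) (q y) := by
        intro g
        have hg : g ∈ Subgroup.closure ({x, y} : Set G) := htop ▸ Subgroup.mem_top g
        induction hg using Subgroup.closure_induction with
        | mem a ha => rcases ha with rfl | rfl
                      · exact ⟨Commute.refl _, hqxy⟩
                      · exact ⟨hqxy.symm, Commute.refl _⟩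
        | one => rw [map_one]; exact ⟨Commute.one_left _, Commute.one_left _⟩
        | mul a b _ _ ha hb => rw [map_mul]; exact ⟨ha.1.mul_left hb.1, ha.2.mul_left hb.2⟩
        | inv a _ ha => rw [map_inv]; exact ⟨ha.1.inv_left, ha.2.inv_left⟩
      refine ⟨fun a b => ?_⟩
      obtain ⟨a, rfl⟩ := QuotientGroup.mk'_surjective (Subgroup.zpowers w) a
      obtain ⟨b, rfl⟩ := QuotientGroup.mk'_surjective (Subgroup.zpowers w) b
      show Commute (q a) (q b)
      have hb : b ∈ Subgroup.closure ({x, y} : Set G) := htop ▸ Subgroup.mem_top b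
      induction hb using Subgroup.closure_induction with
      | mem c hc => rcases hc with rfl | rfl
                    · exact (key a).1
                    · exact (key a).2
      | one => rw [map_one]; exact Commute.one_right _
      | mul c d _ _ hc hd => rw [map_mul]; exact hc.mul_right hd
      | inv c _ hc => rw [map_inv]; exact hc.inv_right
    have he : Subgroup.zpowers w = Y := le_antisymm (Subgroup.zpowers_le.2 (Y.pow_mem hyY _)) hle
    have ho : orderOf w = m := by rw [hm, ← Nat.card_zpowers, ← Nat.card_zpowers, he, hYz]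
    rw [hw, orderOf_pow, ← hm, Nat.div_eq_self] at ho
    rcases ho with h | h
    · omega
    · rw [Nat.coprime_comm]; exact h
  · have key : ∀ k : ℕ, (x ^ k)⁻¹ * y * x ^ k = y ^ (r ^ k) := by
      intro k
      induction k with
      | zero => simp
      | succ k ih =>
        rw [pow_succ, mul_inv_rev]
        calc x⁻¹ * (x ^ k)⁻¹ * y * (x ^ k * x) = x⁻¹ * ((x ^ k)⁻¹ * y * x ^ k) * x := by group
          _ = (x⁻¹ * y * x) ^ (r ^ k) := by
            rw [ih]
            have := conj_pow (a := x⁻¹) (b := y) (i := r ^ k)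
            rw [inv_inv] at this
            exact this.symm
          _ = y ^ (r ^ (k + 1)) := by rw [hrel, ← pow_mul, pow_succ']
    have h := key (orderOf x)
    rw [pow_orderOf_eq_one, inv_one, one_mul, mul_one] at h
    have h' : y ^ (r ^ orderOf x) = y ^ 1 := by rw [pow_one]; exact h.symm
    exact pow_eq_pow_iff_modEq.1 h'

end Cfsg.Agent.S3379
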