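import Cfsg.Statements.S3381
import Mathlib.GroupTheory.Perm.Cycle.Type
import Mathlib.Tactic
import Mathlib.LinearAlgebra.FiniteDimensional.Basic
import Mathlib.FieldTheory.Finite.Basic
-- import your own Cfsg.Agent.* helpers here

set_option autoImplicit false
open Cfsg

namespace Cfsg.Agent.S3381

variable {q : ℕ} [Fact q.Prime] {V : Type*} [AddCommGroup V] [Module (ZMod q) V]
variable {G : Type*} [Group G]

/-- The fixed space of an element. -/
def Fx (ρ : G →* (V ≃ₗ[ZMod q] V)) (g : G) : Submodule (ZMod q) V :=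
  LinearMap.ker ((ρ g : V →ₗ[ZMod q] V) - LinearMap.id)

theorem mem_Fx {ρ : G →* (V ≃ₗ[ZMod q] V)} {g : G} {v : V} : v ∈ Fx ρ g ↔ ρ g v = v := by
  simp [Fx, sub_eq_zero]

theorem uniq [Finite G] {ρ : G →* (V ≃ₗ[ZMod q] V)}
    (hstab : ∀ v : V, v ≠ 0 → Nat.card {g : G // ρ g v = v} = 2) {v : V} (hv : v ≠ 0) {s t : G}
    (hs : s ≠ 1) (ht : t ≠ 1) (hsv : ρ s v = v) (htv : ρ t v = v) : s = t := by
  classical
  by_contra hne
  have : Nat.card ({1, s, t} : Finset G) ≤ Nat.card {g : G // ρ g v = v} := by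
    refine Nat.card_le_card_of_injective (fun x => ⟨x.1, ?_⟩) fun a b h => Subtype.ext (by simpa using congrArg Subtype.val h)
    have hx := x.2
    simp only [Finset.mem_insert, Finset.mem_singleton] at hx
    rcases hx with h | h | h <;> rw [h]
    · simp
    · exact hsv
    · exact htv
  rw [hstab v hv, Nat.card_eq_fintype_card, Fintype.card_coe] at this
  simp [Finset.card_insert_of_notMem, Ne.symm hs, Ne.symm ht, hne] at this

theorem exists_stab [Finite G] {ρ : G →* (V ≃ₗ[ZMod q] V)}
    (hstab : ∀ v : V, v ≠ 0 → Nat.card {g : G // ρ g v = v} = 2) {v : V} (hv : v ≠ 0) :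
    ∃ t : G, orderOf t = 2 ∧ ρ t v = v := by
  classical
  haveI : Fact (Nat.Prime 2) := ⟨Nat.prime_two⟩
  let S : Subgroup G :=
    { carrier := {g | ρ g v = v}
      one_mem' := by simp
      mul_mem' := fun {a b} (ha : ρ a v = v) (hb : ρ b v = v) => by
        show ρ (a * b) v = v
        rw [map_mul, LinearEquiv.mul_apply, hb, ha]
      inv_mem' := fun {a} (ha : ρ a v = v) => by
        show ρ a⁻¹ v = v
        rw [map_inv]
        exact (LinearEquiv.symm_apply_eq (ρ a)).2 ha.symm }
  obtain ⟨t, ht⟩ := exists_prime_orderOf_dvd_card' (G := S) 2 ((hstab v hv).symm ▸ dvd_rfl)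
  exact ⟨t.1, by rw [Subgroup.orderOf_coe, ht], t.2⟩

end Cfsg.Agent.S3381

namespace Cfsg.Agent.S3381

/-- Let G be a finite group acting faithfully and linearly on a non-trivial finite vector space V over the field with q elements (q prime) so that every non-zero vector has a stabilizer of order 2, and suppose G has a central involution. Then V has q^(2r) elements for some r and G contains exactly q^r + 1 non-central involutions. -/
theorem result
    (q : ℕ) [Fact q.Prime] {V : Type*} [AddCommGroup V] [Module (ZMod q) V] [Finite V] [Nontrivial V]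
    {G : Type*} [Group G] [Finite G] (ρ : G →* (V ≃ₗ[ZMod q] V)) (hρ : Function.Injective ρ)
    (hstab : ∀ v : V, v ≠ 0 → Nat.card {g : G // ρ g v = v} = 2)
    (z : G) (hz : orderOf z = 2) (hzc : z ∈ Subgroup.center G) :
    ∃ r : ℕ, Nat.card V = q ^ (2 * r) ∧
      Nat.card {g : G // orderOf g = 2 ∧ g ∉ Subgroup.center G} = q ^ r + 1 := by
  classical
  have hz1 : z ≠ 1 := fun e => by rw [e, orderOf_one] at hz; omega
  have pow2 : ∀ {t : G}, orderOf t = 2 → t ^ 2 = 1 := fun {t} ht => by rw [← ht, pow_orderOf_eq_one]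
  have hinv : ∀ {t : G}, orderOf t = 2 → ∀ v, ρ t (ρ t v) = v := fun {t} ht v => by
    rw [← LinearEquiv.mul_apply, ← map_mul, ← pow_two, pow2 ht, map_one]; rfl
  have hcomm : ∀ (g : G) (v : V), ρ g (ρ z v) = ρ z (ρ g v) := fun g v => by
    rw [← LinearEquiv.mul_apply, ← LinearEquiv.mul_apply, ← map_mul, ← map_mul, Subgroup.mem_center_iff.1 hzc g]
  -- the central involution fixes no nonzero vector
  have hzfix : ∀ v : V, v ≠ 0 → ρ z v ≠ v := by
    intro w hw hzw
    have hall : ∀ u, ρ z u = u := by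
      intro u
      by_contra hu
      have hu0 : u ≠ 0 := fun e => hu (by rw [e, map_zero])
      -- the vector u + z u is fixed by z
      obtain ⟨t, ht, htu⟩ := exists_stab hstab hu0
      have ht1 : t ≠ 1 := fun e => by rw [e, orderOf_one] at ht; omega
      have htzu : ρ t (ρ z u) = ρ z u := by rw [hcomm, htu]
      by_cases hs : u + ρ z u = 0
      · -- add the fixed vector
        have hzu : ρ z u = -u := eq_neg_of_add_eq_zero_right hs
        have hwu : w + u ≠ 0 := fun e => hu (by
          have : u = -w := eq_neg_of_add_eq_zero_right e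
          rw [this, map_neg, hzw])
        obtain ⟨s, hs2, hsv⟩ := exists_stab hstab hwu
        have hs1 : s ≠ 1 := fun e => by rw [e, orderOf_one] at hs2; omega
        have hsv2 : ρ s (w - u) = w - u := by
          have := hcomm s (w + u)
          rw [hsv, map_add (ρ z), hzw, hzu, ← sub_eq_add_neg] at this
          exact this
        have hsw : ρ s (w + w) = w + w := by
          have h := congrArg₂ (· + ·) hsv hsv2
          simp only [← map_add] at h
          rwa [show w + u + (w - u) = w + w by abel] at h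
        by_cases hww : w + w = 0
        · -- characteristic two, so u is fixed after all
          have hq2 : ((2 : ℕ) : ZMod q) = 0 := by
            by_contra h2
            have : ((2 : ℕ) : ZMod q) • w = 0 := by rw [Nat.cast_smul_eq_nsmul, two_nsmul, hww]
            exact hw ((smul_eq_zero.1 this).resolve_left h2)
          apply hu
          rw [hzu, neg_eq_iff_add_eq_zero, ← two_nsmul, ← Nat.cast_smul_eq_nsmul (ZMod q), hq2, zero_smul]
        · have : s = z := uniq hstab hww hs1 hz1 hsw (by rw [map_add, hzw])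
          subst this
          rw [map_add, hzw, add_right_inj] at hsv
          exact hu hsv
      · have : t = z := uniq hstab hs ht1 hz1 (by rw [map_add, htu, htzu]) (by rw [map_add, hinv hz, add_comm])
        exact hu (this ▸ htu)
    exact hz1 (hρ (by rw [map_one]; exact LinearEquiv.ext fun u => hall u))
  have hneg : ∀ v, ρ z v = -v := fun v => by
    by_contra h
    refine hzfix (v + ρ z v) (fun e => h (eq_neg_of_add_eq_zero_right e)) ?_
    rw [map_add, hinv hz, add_comm]
  have h2 : (2 : ZMod q) ≠ 0 := by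
    intro h
    obtain ⟨v, hv⟩ := exists_ne (0 : V)
    refine hzfix v hv ?_
    rw [hneg, neg_eq_iff_add_eq_zero, ← two_smul (ZMod q), h, zero_smul]
  let I := {g : G // orderOf g = 2 ∧ g ∉ Subgroup.center G}
  have hnc : ∀ t : G, orderOf t = 2 → t ≠ z → t ∉ Subgroup.center G := by
    intro t ht htz htc
    have ht1 : t ≠ 1 := fun e => by rw [e, orderOf_one] at ht; omega
    -- a central involution different from z fixes some vector, hence all
    obtain ⟨v, hv⟩ := exists_ne (0 : V)
    by_cases hall : ∀ u, ρ t u = -u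
    · exact htz (hρ (LinearEquiv.ext fun u => by rw [hall, hneg]))
    push Not at hall
    obtain ⟨u, hu⟩ := hall
    have hw : u + ρ t u ≠ 0 := fun e => hu (eq_neg_of_add_eq_zero_right e)
    have hwf : ρ t (u + ρ t u) = u + ρ t u := by rw [map_add, hinv ht, add_comm]
    apply ht1
    refine hρ ?_
    rw [map_one]
    refine LinearEquiv.ext fun x => ?_
    by_contra hx
    have hd : x - ρ t x ≠ 0 := fun e => hx (sub_eq_zero.1 e).symm
    have hsum : (u + ρ t u) + (x - ρ t x) ≠ 0 := by
      intro e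
      have e2 := congrArg (ρ t) e
      rw [map_add, hwf, map_sub, hinv ht, map_zero] at e2
      have : (2 : ZMod q) • (u + ρ t u) = 0 := by
        rw [two_smul]
        calc (u + ρ t u) + (u + ρ t u) = ((u + ρ t u) + (x - ρ t x)) + ((u + ρ t u) + (ρ t x - x)) := by abel
          _ = 0 := by rw [e, e2, add_zero]
      exact hw ((smul_eq_zero.1 this).resolve_left h2)
    obtain ⟨s, hs, hsv⟩ := exists_stab hstab hsum
    have hs1 : s ≠ 1 := fun e => by rw [e, orderOf_one] at hs; omega
    have hst : ∀ y, ρ s (ρ t y) = ρ t (ρ s y) := fun y => by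
      rw [← LinearEquiv.mul_apply, ← LinearEquiv.mul_apply, ← map_mul, ← map_mul, Subgroup.mem_center_iff.1 htc s]
    have hsv2 := hst ((u + ρ t u) + (x - ρ t x))
    rw [hsv, map_add (ρ t), hwf, map_sub (ρ t), hinv ht] at hsv2
    have hsw : ρ s ((2 : ZMod q) • (u + ρ t u)) = (2 : ZMod q) • (u + ρ t u) := by
      have h := congrArg₂ (· + ·) hsv hsv2
      simp only [← map_add] at h
      rw [two_smul]
      rwa [show u + ρ t u + (x - ρ t x) + (u + ρ t u + (ρ t x - x)) = u + ρ t u + (u + ρ t u) by abel] at h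
    have hne0 : (2 : ZMod q) • (u + ρ t u) ≠ 0 := fun e => hw ((smul_eq_zero.1 e).resolve_left h2)
    have : s = t := uniq hstab hne0 hs1 ht1 hsw (by rw [map_smul, hwf])
    subst this
    rw [map_add, hwf, map_sub, hinv ht, add_right_inj] at hsv
    have : (2 : ZMod q) • (x - ρ s x) = 0 := by
      rw [two_smul]; nth_rewrite 2 [← hsv]; abel
    exact hd ((smul_eq_zero.1 this).resolve_left h2)
  have hI1 : ∀ t : I, t.1 ≠ 1 := fun t e => t.2.2 (e ▸ one_mem _)
  have hzt : ∀ t : I, orderOf (z * t.1) = 2 ∧ z * t.1 ∉ Subgroup.center G := by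
    intro t
    refine ⟨orderOf_eq_prime ?_ fun e => t.2.2 ?_, fun e => t.2.2 ?_⟩
    · rw [(show Commute z t.1 from (Subgroup.mem_center_iff.1 hzc t.1).symm).mul_pow]
      rw [pow2 hz, pow2 t.2.1, one_mul]
    · rw [eq_inv_of_mul_eq_one_right e]; exact inv_mem hzc
    · have := mul_mem (inv_mem hzc) e
      rwa [inv_mul_cancel_left] at this
  let op : I → I := fun t => ⟨z * t.1, hzt t⟩
  have hop : ∀ (t : I) v, ρ (op t).1 v = - ρ t.1 v := fun t v => by
    show ρ (z * t.1) v = _
    rw [map_mul, LinearEquiv.mul_apply, hneg]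
  haveI : FiniteDimensional (ZMod q) V := Module.Finite.of_finite
  -- comparison of fixed spaces
  have hcmp : ∀ s t : I, s ≠ t → s ≠ op t → Nat.card (Fx ρ s.1) ≤ Nat.card (Fx ρ t.1) := by
    intro s t hst hsop
    refine Nat.card_le_card_of_injective (fun v => ⟨(v : V) + ρ t.1 v, mem_Fx.2 (by rw [map_add, hinv t.2.1, add_comm])⟩) ?_
    intro a b hab
    have hab' : (a : V) + ρ t.1 a = (b : V) + ρ t.1 b := congrArg Subtype.val hab
    by_contra hne
    have hd : (a : V) - b ≠ 0 := fun e => hne (Subtype.ext (sub_eq_zero.1 e))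
    refine hsop (Subtype.ext (uniq hstab hd (hI1 s) (hI1 (op t)) ?_ ?_))
    · rw [map_sub, mem_Fx.1 a.2, mem_Fx.1 b.2]
    · rw [hop, map_sub, neg_sub, sub_eq_sub_iff_add_eq_add, add_comm (ρ t.1 b) (b : V), hab']
  have hcov : ∀ v : V, v ≠ 0 → ∃ t : I, v ∈ Fx ρ t.1 := by
    intro v hv
    obtain ⟨t, ht, htv⟩ := exists_stab hstab hv
    exact ⟨⟨t, ht, hnc t ht fun e => hzfix v hv (e ▸ htv)⟩, mem_Fx.2 htv⟩
  have hopop : ∀ t : I, op (op t) = t := fun t => Subtype.ext (by
    show z * (z * t.1) = t.1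
    rw [← mul_assoc, ← pow_two, pow2 hz, one_mul])
  have hopne : ∀ t : I, op t ≠ t := fun t e => hz1 (by
    have := congrArg Subtype.val e
    exact mul_eq_right.1 this)
  have hnt : ∀ t : I, ∃ v : V, v ≠ 0 ∧ ρ t.1 v = v := by
    intro t
    by_contra h
    push Not at h
    have : t.1 = z := hρ (LinearEquiv.ext fun u => by
      rw [hneg]
      by_contra hu
      refine h (u + ρ t.1 u) (fun e => hu (eq_neg_of_add_eq_zero_right e)) ?_
      rw [map_add, hinv t.2.1, add_comm])
    exact t.2.2 (this ▸ hzc)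
  have hthird : ∀ t : I, ∃ s : I, s ≠ t ∧ s ≠ op t := by
    intro t
    obtain ⟨v, hv, htv⟩ := hnt t
    obtain ⟨w, hw, htw⟩ := hnt (op t)
    rw [hop] at htw
    have htw' : ρ t.1 w = -w := by rw [← neg_neg (ρ t.1 w), htw]
    have hvw : v + w ≠ 0 := fun e => by
      have e2 := congrArg (ρ t.1) e
      rw [map_add, htv, htw', map_zero, ← sub_eq_add_neg] at e2
      have : (2 : ZMod q) • v = 0 := by
        rw [two_smul]
        calc v + v = (v + w) + (v - w) := by abel
          _ = 0 := by rw [e, e2, add_zero]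
      exact hv ((smul_eq_zero.1 this).resolve_left h2)
    obtain ⟨s, hs⟩ := hcov _ hvw
    refine ⟨s, fun e => ?_, fun e => ?_⟩
    · subst e
      have hs' := mem_Fx.1 hs
      rw [map_add, htv, htw', add_right_inj] at hs'
      have : (2 : ZMod q) • w = 0 := by rw [two_smul]; nth_rewrite 1 [← hs']; exact neg_add_cancel w
      exact hw ((smul_eq_zero.1 this).resolve_left h2)
    · subst e
      have hs' := mem_Fx.1 hs
      rw [hop, map_add, htv, htw', neg_add, neg_neg, add_left_inj] at hs'
      have : (2 : ZMod q) • v = 0 := by rw [two_smul]; nth_rewrite 1 [← hs']; exact neg_add_cancel v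
      exact hv ((smul_eq_zero.1 this).resolve_left h2)
  have hsame : ∀ s t : I, Nat.card (Fx ρ s.1) = Nat.card (Fx ρ t.1) := by
    have hne2 : ∀ s t : I, s ≠ t → s ≠ op t → Nat.card (Fx ρ s.1) = Nat.card (Fx ρ t.1) := fun s t h1 h2' =>
      le_antisymm (hcmp s t h1 h2') (hcmp t s (Ne.symm h1) fun e => h2' (by rw [e, hopop]))
    intro s t
    by_cases h1 : s = t
    · rw [h1]
    by_cases h2' : s = op t
    · obtain ⟨u, hu1, hu2⟩ := hthird t
      rw [← hne2 u t hu1 hu2]
      exact (hne2 u s (fun e => hu2 (e.trans h2')) (fun e => hu1 (e.trans (by rw [h2', hopop])))).symm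
    · exact hne2 s t h1 h2'
  obtain ⟨v₀, hv₀⟩ := exists_ne (0 : V)
  obtain ⟨t₀, -⟩ := hcov v₀ hv₀
  set r := Module.finrank (ZMod q) (Fx ρ t₀.1) with hr
  have hcard : Nat.card (Fx ρ t₀.1) = q ^ r := by
    rw [Module.natCard_eq_pow_finrank (K := ZMod q), Nat.card_zmod]
  have hV : Nat.card V = q ^ (2 * r) := by
    let f : Fx ρ t₀.1 × Fx ρ (op t₀).1 → V := fun x => (x.1 : V) + x.2
    have hf : Function.Bijective f := by
      constructor
      · rintro ⟨a, b⟩ ⟨c, d⟩ h
        have h' : (a : V) + b = c + d := h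
        have ha := mem_Fx.1 a.2; have hc := mem_Fx.1 c.2
        have hb : ρ t₀.1 (b : V) = -(b : V) := by
          have := mem_Fx.1 b.2; rw [hop] at this; rw [← neg_neg (ρ t₀.1 (b : V)), this]
        have hd : ρ t₀.1 (d : V) = -(d : V) := by
          have := mem_Fx.1 d.2; rw [hop] at this; rw [← neg_neg (ρ t₀.1 (d : V)), this]
        have h'' := congrArg (ρ t₀.1) h'
        rw [map_add, map_add, ha, hc, hb, hd] at h''
        have : (2 : ZMod q) • ((a : V) - c) = 0 := by
          rw [two_smul]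
          calc (a : V) - c + ((a : V) - c) = ((a : V) + b) - (c + d) + (((a : V) + -b) - (c + -d)) := by abel
            _ = 0 := by rw [h', h'']; abel
        have hac : (a : V) = c := sub_eq_zero.1 ((smul_eq_zero.1 this).resolve_left h2)
        rw [hac, add_right_inj] at h'
        exact Prod.ext (Subtype.ext hac) (Subtype.ext h')
      · intro v
        have hi := hinv t₀.2.1 v
        refine ⟨(⟨(2 : ZMod q)⁻¹ • (v + ρ t₀.1 v), mem_Fx.2 ?_⟩, ⟨(2 : ZMod q)⁻¹ • (v - ρ t₀.1 v), mem_Fx.2 ?_⟩), ?_⟩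
        · rw [map_smul, map_add, hi, add_comm]
        · rw [map_smul, hop, map_sub, hi, neg_sub]
        · show _ + _ = v
          rw [← smul_add, show v + ρ t₀.1 v + (v - ρ t₀.1 v) = (2 : ZMod q) • v by rw [two_smul]; abel, smul_smul,
            inv_mul_cancel₀ h2, one_smul]
    rw [← Nat.card_congr (Equiv.ofBijective f hf), Nat.card_prod, hsame (op t₀) t₀, hcard, ← pow_add, two_mul]
  refine ⟨r, hV, ?_⟩
  let g : (Σ t : I, {v : Fx ρ t.1 // v ≠ 0}) → {v : V // v ≠ 0} :=
    fun x => ⟨x.2.1.1, fun e => x.2.2 (Subtype.ext e)⟩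
  have hg : Function.Bijective g := by
    constructor
    · rintro ⟨s, v, hv⟩ ⟨t, w, hw⟩ e
      have e' : (v : V) = w := congrArg Subtype.val e
      obtain rfl : s = t := Subtype.ext (uniq hstab (fun h => hv (Subtype.ext h)) (hI1 s) (hI1 t) (mem_Fx.1 v.2) (e' ▸ mem_Fx.1 w.2))
      simp [Subtype.ext e']
    · rintro ⟨v, hv⟩
      obtain ⟨t, ht⟩ := hcov v hv
      exact ⟨⟨t, ⟨v, ht⟩, fun e => hv (congrArg Subtype.val e)⟩, rfl⟩
  have hcg := Nat.card_congr (Equiv.ofBijective g hg)
  haveI := Fintype.ofFinite I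
  rw [Nat.card_sigma] at hcg
  have hnz : ∀ (W : Type _) [AddCommGroup W] [Finite W], Nat.card {v : W // v ≠ 0} = Nat.card W - 1 := by
    intro W _ _
    haveI := Fintype.ofFinite W
    rw [Nat.card_eq_fintype_card, Fintype.card_subtype_compl, Fintype.card_subtype_eq, Nat.card_eq_fintype_card]
  rw [Finset.sum_congr rfl (fun (t : I) _ => (hnz (Fx ρ t.1)).trans (by rw [hsame t t₀, hcard])), Finset.sum_const,
    Finset.card_univ, smul_eq_mul, ← Nat.card_eq_fintype_card] at hcg
  have hVnz : Nat.card {v : V // v ≠ 0} = q ^ (2 * r) - 1 := by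
    haveI := Fintype.ofFinite V
    rw [Nat.card_eq_fintype_card, Fintype.card_subtype_compl, Fintype.card_subtype_eq, ← Nat.card_eq_fintype_card, hV]
  rw [hVnz] at hcg
  have h1 : 1 ≤ q ^ r := Nat.one_le_pow _ _ (Nat.Prime.pos Fact.out)
  have hgt : 1 < q ^ r := by
    rw [← hcard, Finite.one_lt_card_iff_nontrivial]
    obtain ⟨v, hv, hv'⟩ := hnt t₀
    exact ⟨⟨v, mem_Fx.2 hv'⟩, 0, fun e => hv (congrArg Subtype.val e)⟩
  refine Nat.eq_of_mul_eq_mul_right (by omega : 0 < q ^ r - 1) (hcg.trans ?_)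
  rw [pow_mul', ← one_pow 2, Nat.sq_sub_sq, one_pow]

end Cfsg.Agent.S3381
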