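import Cfsg.Statements.S3382
import Mathlib.GroupTheory.PGroup
import Mathlib.FieldTheory.Finite.Basic
import Mathlib.LinearAlgebra.Determinant
import Mathlib.LinearAlgebra.FiniteDimensional.Basic
import Mathlib.RingTheory.IntegralDomain
import Mathlib.NumberTheory.LegendreSymbol.Basic
import Mathlib.Tactic.FinCases
import Mathlib.Tactic.Ring
import Mathlib.Tactic.FieldSimp
import Mathlib.Tactic.LinearCombination
import Mathlib.Tactic.Group
import Mathlib.Tactic.IntervalCases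
-- import your own Cfsg.Agent.* helpers here

set_option autoImplicit false
open Cfsg

namespace Cfsg.Agent.S3382

theorem aut_two {T : Type*} [Group T] [Finite T] (hT : IsPGroup 2 T) (D : Subgroup T)
    (hcomm : ∀ x ∈ D, ∀ y ∈ D, x * y = y * x) (hout : ∀ x y, x ∉ D → y ∉ D → x⁻¹ * y ∈ D)
    (hinv : ∀ φ : MulAut T, ∀ x ∈ D, φ x ∈ D)
    (hfix : ∀ ψ : MulAut T, (∃ k, Odd k ∧ ψ ^ k = 1) → ∀ e ∈ D, e ^ 2 = 1 → ψ e = e) :
    IsPGroup 2 (MulAut T) := by
  intro φ
  obtain ⟨v, k, hk, hvk⟩ := Nat.exists_eq_two_pow_mul_odd (orderOf_pos φ).ne'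
  refine ⟨v, ?_⟩
  set ψ := φ ^ 2 ^ v
  have hψ : ψ ^ k = 1 := by rw [← pow_mul, ← hvk, pow_orderOf_eq_one]
  have step : ∀ x e : T, ψ x = x * e → ψ e = e → ∀ j, (ψ ^ j) x = x * e ^ j := by
    intro x e hx he j
    induction j with
    | zero => simp
    | succ j ih =>
      rw [pow_succ', MulAut.mul_apply, ih, map_mul, map_pow, hx, he, mul_assoc, ← pow_succ']
  have fixD : ∀ i, ∀ x ∈ D, x ^ 2 ^ i = 1 → ψ x = x := by
    intro i
    induction i with
    | zero => intro x _ h; simp at h; simp [h]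
    | succ i ih =>
      intro x hx h
      have h2 : ψ (x ^ 2) = x ^ 2 := ih _ (pow_mem hx 2) (by rw [← pow_mul, ← pow_succ']; exact h)
      set e := x⁻¹ * ψ x with he
      have heD : e ∈ D := D.mul_mem (D.inv_mem hx) (hinv ψ x hx)
      have hxe : ψ x = x * e := by rw [he, mul_inv_cancel_left]
      have he2 : e ^ 2 = 1 := by
        rw [map_pow, hxe, (show Commute x e from hcomm x hx e heD).mul_pow] at h2
        exact mul_left_cancel (h2.trans (mul_one _).symm)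
      have hkk := step x e hxe (hfix ψ ⟨k, hk, hψ⟩ e heD he2) k
      rw [hψ, MulAut.one_apply, eq_comm, mul_eq_left] at hkk
      obtain ⟨j, rfl⟩ := hk
      rw [pow_succ, pow_mul, he2, one_pow, one_mul] at hkk
      rw [hxe, hkk, mul_one]
  refine MulEquiv.ext fun x => ?_
  rw [MulAut.one_apply]
  by_cases hx : x ∈ D
  · obtain ⟨i, hi⟩ := hT x
    exact fixD i x hx hi
  · have hψx : ψ x ∉ D := fun h => hx (by simpa using hinv ψ⁻¹ _ h)
    set e := x⁻¹ * ψ x with he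
    have heD : e ∈ D := hout x _ hx hψx
    obtain ⟨i, hi⟩ := hT e
    have hkk := step x e (by rw [he, mul_inv_cancel_left]) (fixD i e heD hi) k
    rw [hψ, MulAut.one_apply, eq_comm, mul_eq_left] at hkk
    have : orderOf e = 1 := Nat.eq_one_of_dvd_coprimes
      ((Nat.coprime_two_left.2 hk).pow_left i) (orderOf_dvd_of_pow_eq_one hi) (orderOf_dvd_of_pow_eq_one hkk)
    rw [orderOf_eq_one_iff] at this
    exact (inv_mul_eq_one.1 (he ▸ this)).symm

theorem fix_four {T : Type*} [Group T] (ψ : MulAut T) (z d : T) (hz : z ^ 2 = 1) (hz1 : z ≠ 1) (hψz : ψ z = z)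
    (hψd : ψ d = d ∨ ψ d = d * z) {k : ℕ} (hk : Odd k) (hψ : ψ ^ k = 1) : ψ d = d := by
  rcases hψd with h | h
  · exact h
  · exfalso
    have : ∀ j, (ψ ^ j) d = d * z ^ j := by
      intro j
      induction j with
      | zero => simp
      | succ j ih => rw [pow_succ', MulAut.mul_apply, ih, map_mul, map_pow, h, hψz, mul_assoc, ← pow_succ']
    have hkk := this k
    obtain ⟨j, rfl⟩ := hk
    rw [hψ, MulAut.one_apply, eq_comm, mul_eq_left, pow_succ, pow_mul, hz, one_pow, one_mul] at hkk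
    exact hz1 hkk

theorem one_two : ∀ a : ZMod 2, a ≠ 0 → a = 1 := by decide

theorem one_three : ∀ a : ZMod 3, a ≠ 0 → a = 1 ∨ a = -1 := by decide

theorem sq_three : ∀ b : ZMod 3, b ≠ 0 → b ^ 2 = 1 := by decide

theorem ne_three : ¬ (1 : ZMod 3) = -1 := by decide

theorem units_three : ∀ u w : (ZMod 3)ˣ, u ≠ 1 → w ≠ 1 → u⁻¹ * w = 1 := by decide

variable {q : ℕ} [Fact q.Prime]

def Dg (f : (Fin 2 → ZMod q) ≃ₗ[ZMod q] (Fin 2 → ZMod q)) (a s : ZMod q) : Prop :=
  a ≠ 0 ∧ (s = 1 ∨ s = -1) ∧ ∀ v, f v = ![a * v 0, s * a⁻¹ * v 1]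

def Ag (f : (Fin 2 → ZMod q) ≃ₗ[ZMod q] (Fin 2 → ZMod q)) (a s : ZMod q) : Prop :=
  a ≠ 0 ∧ (s = 1 ∨ s = -1) ∧ ∀ v, f v = ![s * a⁻¹ * v 1, a * v 0]

theorem sign_mul {s t : ZMod q} (hs : s = 1 ∨ s = -1) (ht : t = 1 ∨ t = -1) : s * t = 1 ∨ s * t = -1 := by
  rcases hs with rfl | rfl <;> rcases ht with rfl | rfl <;> simp

theorem sign_ne {s : ZMod q} (hs : s = 1 ∨ s = -1) : s ≠ 0 := by
  rcases hs with rfl | rfl <;> simp

theorem Dg.mul {f g : (Fin 2 → ZMod q) ≃ₗ[ZMod q] (Fin 2 → ZMod q)} {a s b t : ZMod q} (hf : Dg f a s) (hg : Dg g b t) :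
    Dg (f * g) (a * b) (s * t) :=
  ⟨mul_ne_zero hf.1 hg.1, sign_mul hf.2.1 hg.2.1, fun v => by
    rw [LinearEquiv.mul_apply, hg.2.2, hf.2.2]; ext i; fin_cases i <;> simp [mul_inv] <;> ring⟩

theorem Ag.mul {f g : (Fin 2 → ZMod q) ≃ₗ[ZMod q] (Fin 2 → ZMod q)} {a s b t : ZMod q} (hf : Ag f a s) (hg : Ag g b t) :
    Dg (f * g) (s * b * a⁻¹) (s * t) :=
  ⟨mul_ne_zero (mul_ne_zero (sign_ne hf.2.1) hg.1) (inv_ne_zero hf.1), sign_mul hf.2.1 hg.2.1, fun v => by
    rw [LinearEquiv.mul_apply, hg.2.2, hf.2.2]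
    have := sign_ne hf.2.1
    have := hf.1
    have := hg.1
    ext i; fin_cases i <;> simp <;> field_simp⟩

theorem Dg.ext {f g : (Fin 2 → ZMod q) ≃ₗ[ZMod q] (Fin 2 → ZMod q)} {a s : ZMod q} (hf : Dg f a s) (hg : Dg g a s) : f = g :=
  LinearEquiv.ext fun v => (hf.2.2 v).trans (hg.2.2 v).symm

theorem Ag.ext {f g : (Fin 2 → ZMod q) ≃ₗ[ZMod q] (Fin 2 → ZMod q)} {a s : ZMod q} (hf : Ag f a s) (hg : Ag g a s) : f = g :=
  LinearEquiv.ext fun v => (hf.2.2 v).trans (hg.2.2 v).symm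

theorem Dg.one : Dg (1 : (Fin 2 → ZMod q) ≃ₗ[ZMod q] (Fin 2 → ZMod q)) 1 1 :=
  ⟨one_ne_zero, .inl rfl, fun v => by ext i; fin_cases i <;> simp⟩

theorem Dg.pow {f : (Fin 2 → ZMod q) ≃ₗ[ZMod q] (Fin 2 → ZMod q)} {a s : ZMod q} (hf : Dg f a s) :
    ∀ n, Dg (f ^ n) (a ^ n) (s ^ n)
  | 0 => by simpa using Dg.one
  | n + 1 => by rw [pow_succ, pow_succ, pow_succ]; exact (Dg.pow hf n).mul hf

theorem Dg.data {f : (Fin 2 → ZMod q) ≃ₗ[ZMod q] (Fin 2 → ZMod q)} {a s b t : ZMod q} (hf : Dg f a s) (hg : Dg f b t) :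
    a = b ∧ s = t := by
  have h0 := congrFun ((hf.2.2 ![1, 1]).symm.trans (hg.2.2 ![1, 1])) 0
  have h1 := congrFun ((hf.2.2 ![1, 1]).symm.trans (hg.2.2 ![1, 1])) 1
  simp at h0 h1
  subst h0
  exact ⟨rfl, mul_right_cancel₀ (inv_ne_zero hf.1) h1⟩

theorem not_both {f : (Fin 2 → ZMod q) ≃ₗ[ZMod q] (Fin 2 → ZMod q)} {a s b t : ZMod q} (hf : Dg f a s) (hg : Ag f b t) : False := by
  have h0 := congrFun ((hf.2.2 ![1, 0]).symm.trans (hg.2.2 ![1, 0])) 0
  simp at h0
  exact hf.1 h0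

theorem Ag.pow_four {f : (Fin 2 → ZMod q) ≃ₗ[ZMod q] (Fin 2 → ZMod q)} {a s : ZMod q} (hf : Ag f a s) : f ^ 4 = 1 := by
  have h := (hf.mul hf).pow 2
  rw [← pow_two f, ← pow_mul] at h
  refine Dg.ext h ?_
  have hs : s * s = 1 := by rcases hf.2.1 with rfl | rfl <;> simp
  rw [show s * a * a⁻¹ = s by rw [mul_assoc, mul_inv_cancel₀ hf.1, mul_one], pow_two, hs, one_pow]
  exact Dg.one

theorem Ag.mulD {f g : (Fin 2 → ZMod q) ≃ₗ[ZMod q] (Fin 2 → ZMod q)} {a s b t : ZMod q} (hf : Ag f a s) (hg : Dg g b t) :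
    Ag (f * g) (a * b) (s * t) :=
  ⟨mul_ne_zero hf.1 hg.1, sign_mul hf.2.1 hg.2.1, fun v => by
    rw [LinearEquiv.mul_apply, hg.2.2, hf.2.2]; ext i; fin_cases i <;> simp [mul_inv] <;> ring⟩

end Cfsg.Agent.S3382

namespace Cfsg.Agent.S3382

/-- Let q = 2^m + 1 be a prime other than 5. Then the automorphism group of the group of linear maps of F_q² of the forms (x, y) ↦ (a x, ± a⁻¹ y) and (x, y) ↦ (± a⁻¹ y, a x) with a ≠ 0 is itself a 2-group. -/
theorem result (q m : ℕ) [Fact q.Prime] (hq : q = 2 ^ m + 1) (hq5 : q ≠ 5)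
    (T : Subgroup ((Fin 2 → ZMod q) ≃ₗ[ZMod q] (Fin 2 → ZMod q)))
    (hT : ∀ f, f ∈ T ↔ ∃ a s : ZMod q, a ≠ 0 ∧ (s = 1 ∨ s = -1) ∧
      ((∀ v, f v = ![a * v 0, s * a⁻¹ * v 1]) ∨ (∀ v, f v = ![s * a⁻¹ * v 1, a * v 0]))) :
    IsPGroup 2 (MulAut T) := by
  classical
  have hq' : q.Prime := Fact.out
  have hcl : ∀ x : T, (∃ a s, Dg (x : (Fin 2 → ZMod q) ≃ₗ[ZMod q] (Fin 2 → ZMod q)) a s) ∨ ∃ a s, Ag (x : (Fin 2 → ZMod q) ≃ₗ[ZMod q] (Fin 2 → ZMod q)) a s := by
    intro x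
    obtain ⟨a, s, ha, hs, h | h⟩ := (hT _).1 x.2
    · exact .inl ⟨a, s, ha, hs, h⟩
    · exact .inr ⟨a, s, ha, hs, h⟩
  haveI : Finite T := Finite.of_injective (fun x : T => fun v : Fin 2 → ZMod q => (x : (Fin 2 → ZMod q) ≃ₗ[ZMod q] (Fin 2 → ZMod q)) v)
    fun x y h => Subtype.ext (LinearEquiv.ext (congrFun h))
  have mkD : ∀ a s : ZMod q, a ≠ 0 → (s = 1 ∨ s = -1) → ∃ x : T, Dg (x : (Fin 2 → ZMod q) ≃ₗ[ZMod q] (Fin 2 → ZMod q)) a s := by
    intro a s ha hs
    let f : (Fin 2 → ZMod q) →ₗ[ZMod q] (Fin 2 → ZMod q) :=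
      { toFun := fun v => ![a * v 0, s * a⁻¹ * v 1]
        map_add' := fun v w => by ext i; fin_cases i <;> simp [mul_add]
        map_smul' := fun c v => by ext i; fin_cases i <;> simp <;> ring }
    have hf : Function.Injective f := by
      intro v w h
      have h0 := congrFun h 0
      have h1 := congrFun h 1
      simp [f] at h0 h1
      ext i; fin_cases i
      · exact h0.resolve_right ha
      · exact h1.resolve_right (not_or.2 ⟨sign_ne hs, ha⟩)
    exact ⟨⟨LinearEquiv.ofBijective f ⟨hf, LinearMap.injective_iff_surjective.1 hf⟩,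
      (hT _).2 ⟨a, s, ha, hs, .inl fun v => rfl⟩⟩, ha, hs, fun v => rfl⟩
  have fermat : ∀ a : ZMod q, a ≠ 0 → a ^ 2 ^ m = 1 := fun a ha => by
    rw [show (2 : ℕ) ^ m = q - 1 from (Nat.sub_eq_of_eq_add hq).symm]; exact ZMod.pow_card_sub_one_eq_one ha
  have hTp : IsPGroup 2 T := by
    intro x
    rcases hcl x with ⟨a, s, h⟩ | ⟨a, s, h⟩
    · refine ⟨m, Subtype.ext ?_⟩
      have := h.pow (2 ^ m)
      rw [fermat a h.1, fermat s (sign_ne h.2.1)] at this
      exact this.ext Dg.one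
    · exact ⟨2, Subtype.ext h.pow_four⟩
  let D : Subgroup T :=
    { carrier := {x | ∃ a s, Dg (x : (Fin 2 → ZMod q) ≃ₗ[ZMod q] (Fin 2 → ZMod q)) a s}
      one_mem' := ⟨1, 1, Dg.one⟩
      mul_mem' := fun {x y} ⟨a, s, hx⟩ ⟨b, t, hy⟩ => ⟨a * b, s * t, hx.mul hy⟩
      inv_mem' := fun {x} ⟨a, s, hx⟩ => by
        rcases hcl x⁻¹ with h | ⟨b, t, h⟩
        · exact h
        · exfalso
          have e := h.pow_four
          have e' : ((x⁻¹) ^ 3 : T) = x := by
            rw [show (x⁻¹) ^ 3 = x⁻¹ ^ 4 * x by group, show x⁻¹ ^ 4 = 1 from Subtype.ext e, one_mul]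
          have h3 := Ag.mulD h (h.mul h)
          rw [← pow_two, ← pow_succ', ← Subgroup.coe_pow, e'] at h3
          exact not_both hx h3 }
  have hcomm : ∀ x ∈ D, ∀ y ∈ D, x * y = y * x := by
    rintro x ⟨a, s, hx⟩ y ⟨b, t, hy⟩
    have h1 := hx.mul hy
    rw [mul_comm a b, mul_comm s t] at h1
    exact Subtype.ext (h1.ext (hy.mul hx))
  have hout : ∀ x y : T, x ∉ D → y ∉ D → x⁻¹ * y ∈ D := by
    intro x y hx hy
    obtain ⟨a, s, hX⟩ := (hcl x⁻¹).resolve_left fun h => hx (by simpa using D.inv_mem h)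
    obtain ⟨b, t, hY⟩ := (hcl y).resolve_left hy
    exact ⟨_, _, hX.mul hY⟩
  have hq2 : 2 ≤ q := hq'.two_le
  by_cases hsmall : q ≤ 3
  · -- the dihedral group of order 8, and the group of order 2
    rcases Nat.lt_or_ge q 3 with h3 | h3
    · obtain rfl : q = 2 := by omega
      have hone : ∀ (x : T) (a s : ZMod 2), Dg (x : (Fin 2 → ZMod 2) ≃ₗ[ZMod 2] (Fin 2 → ZMod 2)) a s → x = 1 := by
        intro x a s hx
        obtain rfl := one_two a hx.1
        obtain rfl := one_two s (sign_ne hx.2.1)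
        exact Subtype.ext (hx.ext Dg.one)
      refine aut_two hTp D hcomm hout (fun φ x ⟨a, s, hx⟩ => ?_) fun ψ _ e ⟨a, s, he⟩ _ => ?_
      · rw [hone x a s hx, map_one]; exact D.one_mem
      · rw [hone e a s he, map_one]
    · obtain rfl : q = 3 := by omega
      have hall := one_three
      let R : Subgroup T :=
        (((LinearEquiv.det : ((Fin 2 → ZMod 3) ≃ₗ[ZMod 3] (Fin 2 → ZMod 3)) →* (ZMod 3)ˣ)).comp T.subtype).ker
      have memR : ∀ x : T, x ∈ R ↔ (∃ a, Dg (x : (Fin 2 → ZMod 3) ≃ₗ[ZMod 3] (Fin 2 → ZMod 3)) a 1) ∨ ∃ a, Ag (x : (Fin 2 → ZMod 3) ≃ₗ[ZMod 3] (Fin 2 → ZMod 3)) a (-1) := by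
        intro x
        have hdet : ∀ {a s : ZMod 3}, a ≠ 0 → ∀ M : Matrix (Fin 2) (Fin 2) (ZMod 3),
            (∀ v, (x : (Fin 2 → ZMod 3) ≃ₗ[ZMod 3] (Fin 2 → ZMod 3)) v = M.mulVec v) → (x ∈ R ↔ M.det = 1) := by
          intro a s _ M hM
          rw [MonoidHom.mem_ker, Units.ext_iff]
          show ((LinearEquiv.det (x : (Fin 2 → ZMod 3) ≃ₗ[ZMod 3] (Fin 2 → ZMod 3))) : ZMod 3) = 1 ↔ _
          rw [LinearEquiv.coe_det, show ((x : (Fin 2 → ZMod 3) ≃ₗ[ZMod 3] (Fin 2 → ZMod 3)) : (Fin 2 → ZMod 3) →ₗ[ZMod 3] (Fin 2 → ZMod 3)) = Matrix.toLin' M from LinearMap.ext fun v => hM v, LinearMap.det_toLin']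
        rcases hcl x with ⟨a, s, h⟩ | ⟨a, s, h⟩
        · rw [hdet (s := s) h.1 !![a, 0; 0, s * a⁻¹] fun v => (h.2.2 v).trans (by ext i; fin_cases i <;> simp [Matrix.mulVec, dotProduct, Fin.sum_univ_two]),
            Matrix.det_fin_two_of, mul_zero, sub_zero, show a * (s * a⁻¹) = s by rw [mul_comm s, ← mul_assoc, mul_inv_cancel₀ h.1, one_mul]]
          exact ⟨fun e => .inl ⟨a, e ▸ h⟩, fun e => e.elim (fun ⟨b, hb⟩ => (h.data hb).2) fun ⟨b, hb⟩ => (not_both h hb).elim⟩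
        · rw [hdet (s := s) h.1 !![0, s * a⁻¹; a, 0] fun v => (h.2.2 v).trans (by ext i; fin_cases i <;> simp [Matrix.mulVec, dotProduct, Fin.sum_univ_two]),
            Matrix.det_fin_two_of, zero_mul, zero_sub, show s * a⁻¹ * a = s by rw [mul_assoc, inv_mul_cancel₀ h.1, mul_one], neg_eq_iff_eq_neg]
          refine ⟨fun e => .inr ⟨a, e ▸ h⟩, fun e => e.elim (fun ⟨b, hb⟩ => (not_both hb h).elim) fun ⟨b, hb⟩ => ?_⟩
          have h1 := congrFun ((h.2.2 ![1, 1]).symm.trans (hb.2.2 ![1, 1])) 0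
          have h2 := congrFun ((h.2.2 ![1, 1]).symm.trans (hb.2.2 ![1, 1])) 1
          simp at h1 h2
          subst h2
          exact mul_right_cancel₀ (inv_ne_zero h.1) (h1.trans (by simp))
      -- the elements of order four
      have four : ∀ x : T, x ^ 2 ≠ 1 → x ∈ R := by
        intro x hx
        rw [memR]
        rcases hcl x with ⟨a, s, h⟩ | ⟨a, s, h⟩
        · refine absurd (Subtype.ext ((h.pow 2).ext ?_)) hx
          have e1 := sq_three
          rw [e1 a h.1, e1 s (sign_ne h.2.1)]; exact Dg.one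
        · rcases h.2.1 with rfl | rfl
          · refine absurd (Subtype.ext ?_) hx
            have h2 := h.mul h
            rw [one_mul, one_mul, mul_inv_cancel₀ h.1, ← pow_two] at h2
            exact h2.ext Dg.one
          · exact .inr ⟨a, h⟩
      obtain ⟨r, hr⟩ : ∃ r : T, Ag (r : (Fin 2 → ZMod 3) ≃ₗ[ZMod 3] (Fin 2 → ZMod 3)) 1 (-1) := by
        let f : (Fin 2 → ZMod 3) ≃ₗ[ZMod 3] (Fin 2 → ZMod 3) :=
          { toFun := fun v => ![-v 1, v 0]
            invFun := fun v => ![v 1, -v 0]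
            map_add' := fun v w => by ext i; fin_cases i <;> simp [add_comm]
            map_smul' := fun c v => by ext i; fin_cases i <;> simp
            left_inv := fun v => by ext i; fin_cases i <;> simp
            right_inv := fun v => by ext i; fin_cases i <;> simp }
        exact ⟨⟨f, (hT f).2 ⟨1, -1, one_ne_zero, .inr rfl, .inr fun v => by ext i; fin_cases i <;> simp [f]⟩⟩,
          one_ne_zero, .inr rfl, fun v => by ext i; fin_cases i <;> simp [f]⟩
      have hr2 : r ^ 2 ≠ 1 := by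
        intro e
        have h2 := hr.mul hr
        rw [← pow_two, ← Subgroup.coe_pow, e, Subgroup.coe_one] at h2
        exact ne_three (by simpa using (Dg.one.data h2).1)
      have memP : ∀ x ∈ R, x ∈ Subgroup.zpowers r := by
        intro x hx
        have h2 := hr.mul hr
        rcases (memR x).1 hx with ⟨a, h⟩ | ⟨a, h⟩ <;> rcases hall a h.1 with rfl | rfl
        · exact (show x = 1 from Subtype.ext (h.ext Dg.one)) ▸ Subgroup.one_mem _
        · refine (show x = r * r from Subtype.ext (h.ext ?_)) ▸ Subgroup.mul_mem _ (Subgroup.mem_zpowers r) (Subgroup.mem_zpowers r)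
          simpa using h2
        · exact (show x = r from Subtype.ext (h.ext hr)) ▸ Subgroup.mem_zpowers r
        · refine (show x = r * (r * r) from Subtype.ext (h.ext ?_)) ▸ Subgroup.mul_mem _ (Subgroup.mem_zpowers r) (Subgroup.mul_mem _ (Subgroup.mem_zpowers r) (Subgroup.mem_zpowers r))
          simpa using Ag.mulD hr h2
      have hrR : r ∈ R := four r hr2
      have hRP : ∀ x, x ∈ Subgroup.zpowers r → x ∈ R := fun x hx => Subgroup.zpowers_le.2 hrR hx
      refine aut_two hTp R ?_ ?_ ?_ ?_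
      · intro x hx y hy
        obtain ⟨i, rfl⟩ := Subgroup.mem_zpowers_iff.1 (memP x hx)
        obtain ⟨j, rfl⟩ := Subgroup.mem_zpowers_iff.1 (memP y hy)
        exact zpow_mul_comm r i j
      · intro x y hx hy
        rw [MonoidHom.mem_ker] at hx hy ⊢
        have e := units_three
        rw [map_mul, map_inv]; exact e _ _ hx hy
      · intro φ x hx
        obtain ⟨i, rfl⟩ := Subgroup.mem_zpowers_iff.1 (memP x hx)
        rw [map_zpow]
        refine R.zpow_mem (four _ fun e => hr2 ?_) i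
        rw [← map_pow, ← map_one φ] at e
        exact φ.injective e
      · rintro ψ - e he he2
        obtain ⟨i, rfl⟩ := Subgroup.mem_zpowers_iff.1 (memP e he)
        have hr4 : r ^ 4 = 1 := Subtype.ext hr.pow_four
        rcases Int.even_or_odd i with ⟨j, rfl⟩ | ⟨j, rfl⟩
        · have hψr : ψ r ∈ Subgroup.zpowers r := memP _ (four _ fun e => hr2 (ψ.injective (by rw [map_pow, map_one]; exact e)))
          obtain ⟨l, hl⟩ := Subgroup.mem_zpowers_iff.1 hψr
          rw [map_zpow, ← hl, ← zpow_mul]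
          rcases Int.even_or_odd l with ⟨u, hu⟩ | ⟨u, hu⟩
          · exfalso
            apply hr2
            apply ψ.injective
            rw [map_pow, map_one, ← hl, hu, ← zpow_natCast, ← zpow_mul, show (u + u) * ((2 : ℕ) : ℤ) = ((4 : ℕ) : ℤ) * u by push_cast; ring,
              zpow_mul, zpow_natCast, hr4, one_zpow]
          · rw [hu, show (2 * u + 1) * (j + j) = j + j + ((4 : ℕ) : ℤ) * (u * j) by push_cast; ring, zpow_add, zpow_mul r ((4 : ℕ) : ℤ),
              zpow_natCast, hr4, one_zpow, mul_one]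
        · exfalso
          apply hr2
          rw [← zpow_natCast, ← zpow_mul, show (2 * j + 1) * ((2 : ℕ) : ℤ) = ((4 : ℕ) : ℤ) * j + ((2 : ℕ) : ℤ) by push_cast; ring,
            zpow_add, zpow_mul, zpow_natCast, hr4, one_zpow, one_mul, zpow_natCast] at he2
          exact he2
  · have hm : 3 ≤ m := by
      by_contra hm
      interval_cases m <;> simp at hq <;> omega
    obtain ⟨g, hg⟩ : ∃ g : ZMod q, g ≠ 0 ∧ g ^ 4 ≠ 1 := by
      obtain ⟨u, hu⟩ := IsCyclic.exists_ofOrder_eq_natCard (α := (ZMod q)ˣ)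
      refine ⟨u, u.ne_zero, fun e => ?_⟩
      have h4 := orderOf_dvd_of_pow_eq_one (Units.ext (by rw [Units.val_pow_eq_pow_val, e, Units.val_one]) : u ^ 4 = 1)
      rw [hu, Nat.card_eq_fintype_card, ZMod.card_units_eq_totient, Nat.totient_prime hq'] at h4
      have := Nat.le_of_dvd (by norm_num) h4
      have : 2 ^ 3 ≤ 2 ^ m := Nat.pow_le_pow_right (by norm_num) hm
      omega
    obtain ⟨hg0, hg4⟩ := hg
    have big : ∀ (φ : MulAut T) (x : T) (a s : ZMod q), Dg (x : (Fin 2 → ZMod q) ≃ₗ[ZMod q] (Fin 2 → ZMod q)) a s → a ^ 4 ≠ 1 → φ x ∈ D := by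
      intro φ x a s hx ha
      refine (hcl (φ x)).resolve_right ?_
      rintro ⟨b, t, h⟩
      have e : (φ x) ^ 4 = 1 := Subtype.ext h.pow_four
      rw [← map_pow, ← map_one φ] at e
      have h4 := hx.pow 4
      rw [← Subgroup.coe_pow, φ.injective e] at h4
      exact ha (h4.data Dg.one).1
    have hinv : ∀ φ : MulAut T, ∀ x ∈ D, φ x ∈ D := by
      rintro φ x ⟨a, s, hx⟩
      by_cases ha : a ^ 4 = 1
      · obtain ⟨y, hy⟩ := mkD g 1 hg0 (.inl rfl)
        have e : φ x = φ (x * y) * (φ y)⁻¹ := by rw [map_mul, mul_inv_cancel_right]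
        rw [e]
        exact D.mul_mem (big φ _ _ _ (hx.mul hy) (by rw [mul_pow, ha, one_mul]; exact hg4)) (D.inv_mem (big φ y g 1 hy hg4))
      · exact big φ x a s hx ha
    refine aut_two hTp D hcomm hout hinv ?_
    rintro ψ ⟨k, hk, hψ⟩
    obtain ⟨i, hi⟩ : ∃ i : ZMod q, i ^ 2 = -1 := by
      refine (ZMod.exists_sq_eq_neg_one_iff.2 ?_).imp fun c hc => by rw [pow_two]; exact hc.symm
      obtain ⟨j, rfl⟩ : ∃ j, m = j + 3 := ⟨m - 3, by omega⟩
      rw [hq, pow_add]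
      omega
    have h2 : (2 : ZMod q) ≠ 0 := by
      intro h0
      have : q ∣ 2 := (ZMod.natCast_eq_zero_iff 2 q).1 (by exact_mod_cast h0)
      have := Nat.le_of_dvd (by norm_num) this
      omega
    have hneg : (-1 : ZMod q) ≠ 1 := fun e => h2 (by linear_combination -e)
    have hi0 : i ≠ 0 := fun e => by simp [e] at hi
    obtain ⟨u, hu⟩ := mkD i 1 hi0 (.inl rfl)
    obtain ⟨d, hd⟩ := mkD 1 (-1) one_ne_zero (.inr rfl)
    have hz : Dg ((u ^ 2 : T) : (Fin 2 → ZMod q) ≃ₗ[ZMod q] (Fin 2 → ZMod q)) (-1) 1 := by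
      have := hu.pow 2
      rwa [hi, one_pow, ← Subgroup.coe_pow] at this
    have hzz : (u ^ 2) ^ 2 = 1 := Subtype.ext (by
      have := hz.pow 2
      rw [neg_one_sq, one_pow] at this
      exact this.ext Dg.one)
    have hz1 : u ^ 2 ≠ 1 := fun e => hneg ((e ▸ hz).data Dg.one).1
    have invol : ∀ x ∈ D, x ^ 2 = 1 → ∃ a s, Dg (x : (Fin 2 → ZMod q) ≃ₗ[ZMod q] (Fin 2 → ZMod q)) a s ∧ (a = 1 ∨ a = -1) := by
      rintro x ⟨a, s, hx⟩ e
      have := hx.pow 2
      rw [← Subgroup.coe_pow, e] at this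
      exact ⟨a, s, hx, mul_self_eq_one_iff.1 (by rw [← pow_two]; exact (this.data Dg.one).1)⟩
    have hψz : ψ (u ^ 2) = u ^ 2 := by
      obtain ⟨b, t, hb⟩ := hinv ψ u ⟨i, 1, hu⟩
      obtain ⟨a, s, hA, ha⟩ := invol (ψ (u ^ 2)) (hinv ψ _ ⟨_, _, hz⟩) (by rw [← map_pow, hzz, map_one])
      have hb2 := hb.pow 2
      rw [← Subgroup.coe_pow, ← map_pow] at hb2
      obtain ⟨e1, e2⟩ := hA.data hb2
      have ht : t ^ 2 = 1 := by rw [pow_two]; rcases hb.2.1 with rfl | rfl <;> simp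
      rw [ht] at e2
      subst e2
      rcases ha with rfl | rfl
      · exfalso; apply hz1; apply ψ.injective
        rw [map_one]; exact Subtype.ext (hA.ext Dg.one)
      · exact Subtype.ext (hA.ext hz)
    have hdD : d ∈ D := ⟨_, _, hd⟩
    have hd2 : d ^ 2 = 1 := Subtype.ext (by
      have := hd.pow 2
      rw [neg_one_sq, one_pow] at this
      exact this.ext Dg.one)
    have hψd : ψ d = d ∨ ψ d = d * u ^ 2 := by
      obtain ⟨a, s, hA, ha⟩ := invol (ψ d) (hinv ψ d hdD) (by rw [← map_pow, hd2, map_one])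
      rcases hA.2.1 with rfl | rfl <;> rcases ha with rfl | rfl
      · exfalso
        have : d = 1 := ψ.injective (by rw [map_one]; exact Subtype.ext (hA.ext Dg.one))
        exact hneg ((this ▸ hd).data Dg.one).2
      · exfalso
        have : d = u ^ 2 := ψ.injective (by rw [hψz]; exact Subtype.ext (hA.ext hz))
        exact hneg ((this ▸ hd).data hz).2
      · exact .inl (Subtype.ext (hA.ext hd))
      · refine .inr (Subtype.ext (hA.ext ?_))
        have := hd.mul hz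
        rwa [one_mul, mul_one] at this
    have hfd := fix_four ψ (u ^ 2) d hzz hz1 hψz hψd hk hψ
    intro e he he2
    obtain ⟨a, s, hA, ha⟩ := invol e he he2
    rcases hA.2.1 with rfl | rfl <;> rcases ha with rfl | rfl
    · rw [show e = 1 from Subtype.ext (hA.ext Dg.one), map_one]
    · rw [show e = u ^ 2 from Subtype.ext (hA.ext hz)]; exact hψz
    · rw [show e = d from Subtype.ext (hA.ext hd)]; exact hfd
    · have hh := hd.mul hz
      rw [one_mul, mul_one] at hh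
      rw [show e = d * u ^ 2 from Subtype.ext (hA.ext hh), map_mul, hfd, hψz]

end Cfsg.Agent.S3382
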