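import Cfsg.Statements.S3383
import Cfsg.Agent.Solv.Frobenius
import Cfsg.Agent.Solv.FrobeniusFpf

set_option autoImplicit false
open Cfsg

namespace Cfsg.Agent.S3383

/-- Let H be a Frobenius complement in a finite group L and K the Frobenius kernel (as a subgroup). Then K is characteristic in L, and every normal subgroup of L either contains K or is contained in K. -/
theorem result {L : Type*} [Group L] [Finite L]
    (H : Subgroup L) (hH : Cfsg.IsFrobeniusComplement H)
    (K : Subgroup L) (hK : (K : Set L) = Cfsg.frobeniusKernel H) :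
    K.Characteristic ∧ ∀ N : Subgroup L, N.Normal → K ≤ N ∨ N ≤ K := by
  classical
  obtain ⟨N₀, hN₀, hn, hc⟩ := CfsgLib.Solv.frobenius_theorem hH
  obtain rfl : K = N₀ := SetLike.coe_injective (hK.trans hN₀.symm)
  haveI := hn
  have hcmp : ∀ N : Subgroup L, N.Normal → K ≤ N ∨ N ≤ K := by
    intro N hN
    haveI := hN
    rcases CfsgLib.Solv.frobenius_kernel_le_or_ge hc hH N with h | h
    · right
      intro x hx
      rw [← SetLike.mem_coe, hK]
      rcases eq_or_ne x 1 with h1 | h1
      · exact Or.inl h1
      · refine Or.inr fun g hg => h1 ?_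
        rw [Subgroup.mem_pointwise_smul_iff_inv_smul_mem] at hg
        have h2 : (MulAut.conj g)⁻¹ • x ∈ N := by
          have := hN.conj_mem x hx g⁻¹
          simpa [MulAut.smul_def, mul_assoc] using this
        have h3 : (MulAut.conj g)⁻¹ • x ∈ N ⊓ H := ⟨h2, hg⟩
        rw [h, Subgroup.mem_bot] at h3
        have h4 := congrArg (fun y => MulAut.conj g • y) h3
        simpa [MulAut.smul_def, mul_assoc] using h4
    · exact Or.inl h
  refine ⟨Subgroup.characteristic_iff_map_eq.2 fun φ => ?_, hcmp⟩
  have hcard : Nat.card (K.map φ.toMonoidHom) = Nat.card K :=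
    (Nat.card_congr (K.equivMapOfInjective _ φ.injective).toEquiv).symm
  rcases hcmp _ (hn.map φ.toMonoidHom φ.surjective) with h | h
  · exact (Subgroup.eq_of_le_of_card_ge h hcard.le).symm
  · exact Subgroup.eq_of_le_of_card_ge h hcard.ge

end Cfsg.Agent.S3383
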