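import Cfsg.Statements.S3389
import Mathlib.GroupTheory.Sylow
import Mathlib.GroupTheory.GroupAction.Quotient
import Mathlib.GroupTheory.Perm.Cycle.Type
-- import your own Cfsg.Agent.* helpers here

set_option autoImplicit false
open Cfsg

namespace Cfsg.Agent.S3389

theorem card_fix_modEq {G : Type*} [Group G] [Finite G] {Ω : Type*} [Fintype Ω] [MulAction G Ω] {p : ℕ}
    [Fact p.Prime] (g : G) (hg : orderOf g = p) :
    Fintype.card Ω ≡ Nat.card (MulAction.fixedBy Ω g) [MOD p] := by
  have hpg : IsPGroup p (Subgroup.zpowers g) := IsPGroup.of_card (n := 1) (by rw [Nat.card_zpowers, hg, pow_one])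
  have h := hpg.card_modEq_card_fixedPoints Ω
  rw [Nat.card_eq_fintype_card (α := Ω)] at h
  have he : MulAction.fixedPoints (Subgroup.zpowers g) Ω = MulAction.fixedBy Ω g := by
    ext x
    constructor
    · exact fun hx => hx ⟨g, Subgroup.mem_zpowers g⟩
    · intro hx y
      obtain ⟨k, hk⟩ := Subgroup.mem_zpowers_iff.1 y.2
      show (y : G) • x = x
      rw [← hk]
      exact MulAction.fixedBy_subset_fixedBy_zpow Ω g k hx
  rwa [he] at h

end Cfsg.Agent.S3389

namespace Cfsg.Agent.S3389

/-- Let G be a finite group acting faithfully and transitively on a finite set Ω with fixity k ≥ 1: every non-identity element fixes at most k points and some non-identity element fixes exactly k points. Then |Z(G)| divides k; if k = 2 then |G| is even; and for every prime p > k dividing |G| and every point α, either p does not divide |G_α| or G_α contains a Sylow p-subgroup of G. -/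
theorem result {G : Type*} [Group G] [Finite G] {Ω : Type*} [Fintype Ω] [MulAction G Ω] [FaithfulSMul G Ω]
    (htr : MulAction.IsPretransitive G Ω) (k : ℕ) (hk : 1 ≤ k)
    (hfix : ∀ g : G, g ≠ 1 → Nat.card (MulAction.fixedBy Ω g) ≤ k) (hex : ∃ g : G, g ≠ 1 ∧ Nat.card (MulAction.fixedBy Ω g) = k) :
    Nat.card (Subgroup.center G) ∣ k ∧ (k = 2 → 2 ∣ Nat.card G) ∧
      ∀ (p : ℕ), p.Prime → k < p → p ∣ Nat.card G → ∀ α : Ω,
        ¬ p ∣ Nat.card (MulAction.stabilizer G α) ∨ ¬ p ∣ (MulAction.stabilizer G α).index := by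
  classical
  obtain ⟨g, g1, hgk⟩ := hex
  obtain ⟨⟨α, hα⟩⟩ : Nonempty (MulAction.fixedBy Ω g) := Finite.card_pos_iff.1 (by omega)
  have hn : Fintype.card Ω ∣ Nat.card G := by
    rw [← Nat.card_eq_fintype_card, ← MulAction.index_stabilizer_of_transitive G α]
    exact Subgroup.index_dvd_card _
  refine ⟨?_, ?_, ?_⟩
  · -- the centre is semiregular on the fixed points of `g`
    let X : SubMulAction (Subgroup.center G) Ω :=
      { carrier := MulAction.fixedBy Ω g
        smul_mem' := fun c x hx => by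
          show g • ((c : G) • x) = (c : G) • x
          rw [smul_smul, Subgroup.mem_center_iff.1 c.2 g, mul_smul, show g • x = x from hx] }
    have hst : ∀ x : X, MulAction.stabilizer (Subgroup.center G) x = ⊥ := by
      refine fun x => (Subgroup.eq_bot_iff_forall _).2 fun c hc => Subtype.ext ?_
      refine eq_of_smul_eq_smul (α := Ω) fun y => ?_
      obtain ⟨h, rfl⟩ := htr.exists_smul_eq (x : Ω) y
      have hx : (c : G) • (x : Ω) = x := congrArg Subtype.val (show c • x = x from hc)
      show (c : G) • h • (x : Ω) = (1 : G) • h • (x : Ω)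
      rw [one_smul, smul_smul, ← Subgroup.mem_center_iff.1 c.2 h, mul_smul, hx]
    have e := MulAction.selfEquivSigmaOrbits (Subgroup.center G) X
    haveI : Fintype (Quotient (MulAction.orbitRel (Subgroup.center G) X)) := Fintype.ofFinite _
    have hcard := Nat.card_congr e
    rw [Nat.card_sigma] at hcard
    have : ∀ ω : Quotient (MulAction.orbitRel (Subgroup.center G) X),
        Nat.card (MulAction.orbit (Subgroup.center G) ω.out) = Nat.card (Subgroup.center G) := fun ω => by
      rw [Nat.card_coe_set_eq, ← MulAction.index_stabilizer, hst, Subgroup.index_bot]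
    rw [Finset.sum_congr rfl (fun ω _ => this ω), Finset.sum_const, smul_eq_mul] at hcard
    exact ⟨_, hgk.symm.trans (hcard.trans (mul_comm _ _))⟩
  · intro hk2
    subst hk2
    by_contra h2
    have hodd : ∀ x : G, x ^ 2 • α = α → x • α = α := by
      intro x hx
      obtain ⟨m, hm⟩ : Odd (orderOf x) :=
        Nat.not_even_iff_odd.1 fun he => h2 (he.two_dvd.trans (orderOf_dvd_natCard x))
      have h1 : ∀ j : ℕ, (x ^ 2) ^ j • α = α := fun j => by
        induction j with
        | zero => simp
        | succ j ih => rw [pow_succ, mul_smul, hx, ih]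
      conv_lhs => rw [← h1 m]
      rw [smul_smul, ← pow_mul, ← pow_succ', ← hm, pow_orderOf_eq_one, one_smul]
    obtain ⟨q, hq, hqd⟩ := Nat.exists_prime_and_dvd (mt orderOf_eq_one_iff.1 g1)
    haveI := Fact.mk hq
    obtain ⟨x, hxo, hxfix⟩ : ∃ x : G, orderOf x = q ∧ Nat.card (MulAction.fixedBy Ω x) = 2 := by
      obtain ⟨d, hd⟩ := hqd
      have ho : orderOf (g ^ d) = q := by
        have hd0 : d ≠ 0 := by rintro rfl; rw [mul_zero] at hd; exact (orderOf_pos g).ne' hd
        rw [orderOf_pow_of_dvd hd0 (hd ▸ dvd_mul_left d q), hd, Nat.mul_div_cancel _ (Nat.pos_of_ne_zero hd0)]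
      have hne : g ^ d ≠ 1 := fun e => by rw [e, orderOf_one] at ho; exact hq.ne_one ho.symm
      refine ⟨_, ho, le_antisymm (hfix _ hne) (hgk ▸ ?_)⟩
      have := MulAction.fixedBy_subset_fixedBy_zpow Ω g (d : ℤ)
      rw [zpow_natCast] at this
      exact Nat.card_mono (Set.toFinite _) this
    have hq2 : q ≠ 2 := fun e => h2 (e ▸ hxo ▸ orderOf_dvd_natCard x)
    have hqn : ¬ q ∣ Fintype.card Ω := fun h => by
      have := (card_fix_modEq (Ω := Ω) x hxo).symm.trans (Nat.modEq_zero_iff_dvd.2 h)
      rw [hxfix, Nat.modEq_zero_iff_dvd, Nat.prime_dvd_prime_iff_eq hq Nat.prime_two] at this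
      exact hq2 this
    have hpg : IsPGroup q (Subgroup.zpowers x) := IsPGroup.of_card (n := 1) (by rw [Nat.card_zpowers, hxo, pow_one])
    obtain ⟨Q, hxQ⟩ := hpg.exists_le_sylow
    set F := MulAction.fixedPoints (Q : Subgroup G) Ω with hF
    have hmod := Q.isPGroup'.card_modEq_card_fixedPoints Ω
    have hsub : F ⊆ MulAction.fixedBy Ω x := fun y hy => hy ⟨x, hxQ (Subgroup.mem_zpowers x)⟩
    have hF2 : Nat.card F = 2 := by
      have hle : Nat.card F ≤ 2 := hxfix ▸ Nat.card_mono (Set.toFinite _) hsub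
      have h3 : Nat.card F ≡ 2 [MOD q] := by
        refine hmod.symm.trans ?_
        rw [Nat.card_eq_fintype_card, ← hxfix]
        exact card_fix_modEq x hxo
      have hq3 : 3 ≤ q := by have := hq.two_le; omega
      have h4 : Nat.card F % q = 2 % q := h3
      rwa [Nat.mod_eq_of_lt (by omega), Nat.mod_eq_of_lt (by omega)] at h4
    obtain ⟨⟨a, ha⟩, ⟨b, hb⟩, hab, huniv⟩ := Nat.card_eq_two_iff.1 hF2
    have hmem : ∀ y ∈ F, y = a ∨ y = b := fun y hy => by
      have := (huniv ▸ Set.mem_univ (⟨y, hy⟩ : F) : (⟨y, hy⟩ : F) ∈ ({⟨a, ha⟩, ⟨b, hb⟩} : Set F))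
      rcases this with e | e
      · exact .inl (congrArg Subtype.val e)
      · exact .inr (congrArg Subtype.val e)
    obtain ⟨t, ht⟩ := htr.exists_smul_eq a b
    let H := MulAction.stabilizer G a
    have h1 : (Q : Subgroup G) ≤ H := fun y hy => ha ⟨y, hy⟩
    have h2' : ((t⁻¹ • Q : Sylow q G) : Subgroup G) ≤ H := by
      rw [Sylow.coe_subgroup_smul]
      intro y hy
      obtain ⟨z, hz, rfl⟩ := Subgroup.mem_pointwise_smul_iff_inv_smul_mem.1 hy |> fun h => (⟨_, h, rfl⟩ : ∃ z, z ∈ (Q : Subgroup G) ∧ (MulAut.conj t⁻¹)⁻¹ • y = z)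
      show y • a = a
      have hzb : ((MulAut.conj t⁻¹)⁻¹ • y) • b = b := hb ⟨_, hz⟩
      simp only [MulAut.smul_def, MulAut.conj_inv_apply, inv_inv] at hzb
      rw [← ht, smul_smul, mul_assoc (t * y), inv_mul_cancel, mul_one, mul_smul] at hzb
      exact smul_left_cancel t hzb
    obtain ⟨h, hh⟩ := MulAction.exists_smul_eq H (Q.subtype h1) ((t⁻¹ • Q).subtype h2')
    rw [Sylow.smul_subtype] at hh
    have hQ : ((h : G) • Q) = t⁻¹ • Q := Sylow.subtype_injective hh
    have hnQ : (t * (h : G)) • Q = Q := by rw [mul_smul, hQ, smul_inv_smul]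
    rw [Sylow.smul_eq_iff_mem_normalizer] at hnQ
    have hna : (t * (h : G)) • a = b := by rw [mul_smul, show (h : G) • a = a from h.2, ht]
    have hnb : (t * (h : G)) • b = a := by
      have hFb : (t * (h : G)) • b ∈ F := by
        intro y
        show (y : G) • (t * (h : G)) • b = (t * (h : G)) • b
        have hy : (t * (h : G))⁻¹ * (y : G) * (t * (h : G)) ∈ (Q : Subgroup G) := (Subgroup.mem_normalizer_iff''.1 hnQ _).1 y.2
        have := hb ⟨_, hy⟩
        change ((t * (h : G))⁻¹ * (y : G) * (t * (h : G))) • b = b at this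
        rwa [mul_smul, mul_smul, inv_smul_eq_iff] at this
      refine (hmem _ hFb).resolve_right fun e => hab (Subtype.ext (smul_left_cancel (t * (h : G)) ?_))
      rw [hna, e]
    -- move the argument to the point `a`
    obtain ⟨u, hu⟩ := htr.exists_smul_eq α a
    generalize t * (h : G) = M at hna hnb
    have := hodd (u⁻¹ * M * u) (by
      simp only [pow_two, mul_smul, hu, hna, smul_inv_smul, hnb]
      rw [inv_smul_eq_iff, hu])
    rw [mul_smul, mul_smul, hu, hna, inv_smul_eq_iff, hu] at this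
    exact hab (Subtype.ext this.symm)
  · intro p hp hkp _ β
    rw [or_iff_not_imp_left, not_not]
    intro hst hidx
    haveI := Fact.mk hp
    obtain ⟨x, hx⟩ := exists_prime_orderOf_dvd_card' p hst
    have hxo : orderOf (x : G) = p := (Subgroup.orderOf_coe x).trans hx
    have hx1 : (x : G) ≠ 1 := fun e => by rw [e, orderOf_one] at hxo; exact hp.ne_one hxo.symm
    rw [MulAction.index_stabilizer_of_transitive, Nat.card_eq_fintype_card] at hidx
    have h0 := (card_fix_modEq (Ω := Ω) (x : G) hxo).symm.trans (Nat.modEq_zero_iff_dvd.2 hidx)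
    have hpos : 0 < Nat.card (MulAction.fixedBy Ω (x : G)) := Finite.card_pos_iff.2 ⟨⟨β, x.2⟩⟩
    exact absurd (Nat.le_of_dvd hpos (Nat.modEq_zero_iff_dvd.1 h0)) (by have := hfix _ hx1; omega)

end Cfsg.Agent.S3389
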