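import Cfsg.Statements.S3419
import Cfsg.Agent.Spectrum.ChiefPrime
-- import your own Cfsg.Agent.* helpers here

set_option autoImplicit false
open Cfsg

namespace Cfsg.Agent.S3419

open CfsgLib.ChiefPrime in
theorem main {G : Type*} [Group G] [Finite G] (n : ℕ) (hn : 5 ≤ n)
    (hcard : Nat.card G = Nat.card ↥(alternatingGroup (Fin n)))
    (hspec : Set.range (orderOf : G → ℕ) = Set.range (orderOf : ↥(alternatingGroup (Fin n)) → ℕ)) :
    ¬ Group.IsSolvable G := by
  intro hsol
  obtain ⟨hdiv, hdvd, hno⟩ := alt_facts (by omega) hcard hspec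
  have key : ∀ p q : ℕ, p.Prime → q.Prime → p ≠ q → n < 2 * p → p ≤ n → 3 ≤ q → q ≤ n → n < p + q →
      (∀ k : ℕ, 1 ≤ k → p ^ k ∣ Nat.card G → p ^ k % q ≠ 1) →
      (∀ k : ℕ, 1 ≤ k → q ^ k ∣ Nat.card G → q ^ k % p ≠ 1) → False := by
    intro p q hp hq hne hp2 hpn hq3 hqn hlt h1 h2
    obtain ⟨N, H, hN, -, -, hs, hnc, -⟩ := chief hp hq hne (hdiv p hp (by omega) hpn)
      (fun h => sq_not_dvd_factorial hp hp2 (hdvd _ h)) (hdiv q hq hq3 hqn) (hno p q hp hq hne hlt) h1 h2
    haveI := hs
    haveI : Group.IsSolvable H := inferInstance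
    haveI : Group.IsSolvable (↥H ⧸ N.subgroupOf H) := inferInstance
    exact hnc ⟨⟨IsSimpleGroup.comm_iff_isSolvable.2 inferInstance⟩⟩
  rcases Nat.lt_or_ge n 11 with h | h
  · rcases Nat.lt_or_ge n 7 with h7 | h7
    · refine key 5 3 (by norm_num) (by norm_num) (by norm_num) (by omega) hn le_rfl (by omega) (by omega) ?_ ?_
      · intro k hk hd
        rcases Nat.lt_or_ge k 2 with h | h
        · rw [show k = 1 by omega]; norm_num
        · exact absurd ((pow_dvd_pow 5 h).trans (hdvd _ hd)) (sq_not_dvd_factorial (by norm_num) (by omega))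
      · intro k hk hd
        rcases Nat.lt_or_ge k 3 with h | h
        · interval_cases k <;> norm_num
        · have := (pow_dvd_pow 3 h).trans (hdvd _ hd)
          interval_cases n <;> norm_num [Nat.factorial] at this
    · refine key 7 5 (by norm_num) (by norm_num) (by norm_num) (by omega) h7 (by norm_num) hn (by omega) ?_ ?_
      · intro k hk hd
        rcases Nat.lt_or_ge k 2 with h | h
        · rw [show k = 1 by omega]; norm_num
        · exact absurd ((pow_dvd_pow 7 h).trans (hdvd _ hd)) (sq_not_dvd_factorial (by norm_num) (by omega))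
      · intro k hk hd
        rcases Nat.lt_or_ge k 3 with h | h
        · interval_cases k <;> norm_num
        · have := (pow_dvd_pow 5 h).trans (hdvd _ hd)
          interval_cases n <;> norm_num [Nat.factorial] at this
  · obtain ⟨p, q, hp, hq, h2, hpq, hqn⟩ := CfsgLib.TwoPrimes.two_primes_upper h
    exact key p q hp hq hpq.ne h2 (by omega) (by omega) hqn (by omega)
      (big_conds hdvd hp hq h2 (by omega) (by omega) hn) (big_conds hdvd hq hp (by omega) h2 hqn hn)

end Cfsg.Agent.S3419

namespace Cfsg.Agent.S3419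

/-- Let n ≥ 5 and let G be a finite group with the same order and the same set of element orders as the alternating group of degree n. Then G is not solvable. -/
theorem result {G : Type*} [Group G] [Finite G] (n : ℕ) (hn : 5 ≤ n)
    (hcard : Nat.card G = Nat.card ↥(alternatingGroup (Fin n)))
    (hspec : Set.range (orderOf : G → ℕ) = Set.range (orderOf : ↥(alternatingGroup (Fin n)) → ℕ)) :
    ¬ Group.IsSolvable G := by
  exact main n hn hcard hspec

end Cfsg.Agent.S3419
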