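import Cfsg.Statements.S3420
import Cfsg.Agent.Spectrum.ChiefPrime
-- import your own Cfsg.Agent.* helpers here

set_option autoImplicit false
open Cfsg

namespace Cfsg.Agent.S3420

open CfsgLib.ChiefPrime in
theorem main {G : Type*} [Group G] [Finite G] (n : ℕ) (hn : 11 ≤ n)
    (hcard : Nat.card G = Nat.card ↥(alternatingGroup (Fin n)))
    (hspec : Set.range (orderOf : G → ℕ) = Set.range (orderOf : ↥(alternatingGroup (Fin n)) → ℕ)) :
    ∃ (N H : Subgroup G) (_ : N.Normal), H.Normal ∧ N < H ∧ IsSimpleGroup (↥H ⧸ N.subgroupOf H) ∧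
      ¬ IsMulCommutative (↥H ⧸ N.subgroupOf H) ∧
      ∀ p : ℕ, p.Prime → n < 2 * p → p ≤ n → p ∣ Nat.card (↥H ⧸ N.subgroupOf H) := by
  obtain ⟨hdiv, hdvd, hno⟩ := alt_facts (by omega) hcard hspec
  obtain ⟨p, q, hp, hq, h2, hpq, hqn⟩ := CfsgLib.TwoPrimes.two_primes_upper hn
  obtain ⟨N, H, hN, hH, hlt, hs, hnc, hpd, hall⟩ := chief hp hq hpq.ne (hdiv p hp (by omega) (by omega))
    (fun h => sq_not_dvd_factorial hp h2 (hdvd _ h)) (hdiv q hq (by omega) hqn)
    (hno p q hp hq hpq.ne (by omega))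
    (big_conds hdvd hp hq h2 (by omega) (by omega) (by omega))
    (big_conds hdvd hq hp (by omega) h2 hqn (by omega))
  refine ⟨N, H, hN, hH, hlt, hs, hnc, fun r hr hr2 hrn => ?_⟩
  by_cases hrp : r = p
  · subst hrp; exact hpd
  · exact hall r hr hrp (hdiv r hr (by omega) hrn) (hno p r hp hr (Ne.symm hrp) (by omega))
      (big_conds hdvd hp hr h2 hr2 (by omega) (by omega)) (big_conds hdvd hr hp hr2 h2 hrn (by omega))

end Cfsg.Agent.S3420

namespace Cfsg.Agent.S3420

/-- Let n ≥ 11 and let G be a finite group with the same order and the same set of element orders as the alternating group of degree n. Then G has normal subgroups N < H such that H/N is a non-abelian simple group whose order is divisible by every prime p with n/2 < p ≤ n. -/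
theorem result {G : Type*} [Group G] [Finite G] (n : ℕ) (hn : 11 ≤ n)
    (hcard : Nat.card G = Nat.card ↥(alternatingGroup (Fin n)))
    (hspec : Set.range (orderOf : G → ℕ) = Set.range (orderOf : ↥(alternatingGroup (Fin n)) → ℕ)) :
    ∃ (N H : Subgroup G) (_ : N.Normal), H.Normal ∧ N < H ∧
      IsSimpleGroup (↥H ⧸ N.subgroupOf H) ∧ ¬ IsMulCommutative (↥H ⧸ N.subgroupOf H) ∧
      ∀ p : ℕ, p.Prime → n < 2 * p → p ≤ n → p ∣ Nat.card (↥H ⧸ N.subgroupOf H) := by
  exact main n hn hcard hspec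

end Cfsg.Agent.S3420
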