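import Cfsg.Statements.S3437
import Cfsg.Agent.Base.Spectrum.Octahedral
import Mathlib.GroupTheory.OrderOfElement
import Mathlib.LinearAlgebra.Matrix.GeneralLinearGroup.Projective
import Mathlib.Algebra.CharP.CharAndCard
-- import your own Cfsg.Agent.* helpers here

set_option autoImplicit false
open Cfsg

namespace Cfsg.Agent.S3437

open CfsgLib.Octahedral in
/-- A solvable group with element orders the divisors of 6, 8 or 13. -/
theorem exists_solvable : ∃ (H : Type) (_ : Group H) (_ : Fintype H), Group.IsSolvable H ∧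
    ∀ n, (∃ x : H, orderOf x = n) ↔ n ∣ 6 ∨ n ∣ 8 ∨ n ∣ 13 := by
  classical
  let V := Multiplicative (Fin 2 → Q)
  let φ : O48 →* MulAut V := MonoidHom.mk' (fun g => AddEquiv.toMultiplicative
      (Matrix.SpecialLinearGroup.toLin' (g : Matrix.SpecialLinearGroup (Fin 2) Q)).toAddEquiv)
    (fun g h => MulEquiv.ext fun v => Multiplicative.toAdd.injective (by
      show Matrix.SpecialLinearGroup.toLin' ((g * h : O48) : Matrix.SpecialLinearGroup (Fin 2) Q) (Multiplicative.toAdd v) = _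
      rw [Subgroup.coe_mul, map_mul]
      rfl))
  haveI : Finite (V ⋊[φ] O48) := Finite.of_equiv _ SemidirectProduct.equivProd.symm
  haveI := Fintype.ofFinite (V ⋊[φ] O48)
  haveI := isSolvable
  refine ⟨V ⋊[φ] O48, inferInstance, inferInstance, Group.isSolvable_of_ker_le_range (SemidirectProduct.inl (φ := φ))
    SemidirectProduct.rightHom (by rw [SemidirectProduct.range_inl_eq_ker_rightHom]), fun n => ?_⟩
  have hV : ∀ v : V, v ^ 13 = 1 := fun v => Multiplicative.toAdd.injective (by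
    rw [toAdd_pow]
    refine funext fun i => ?_
    show (13 : ℕ) • (Multiplicative.toAdd v i) = 0
    rw [nsmul_eq_mul, show ((13 : ℕ) : Q) = 0 by decide +kernel, zero_mul])
  have hout : ∀ g : V ⋊[φ] O48, g.right ≠ 1 → orderOf g = orderOf g.right := by
    intro g hg
    refine Nat.dvd_antisymm (orderOf_dvd_of_pow_eq_one ?_) (orderOf_map_dvd SemidirectProduct.rightHom g)
    set k := orderOf g.right
    have hr : (g ^ k).right = 1 := (map_pow SemidirectProduct.rightHom g k).trans (pow_orderOf_eq_one g.right)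
    set w := (g ^ k).left with hw
    have hgk : g ^ k = SemidirectProduct.inl w := SemidirectProduct.ext rfl hr
    have hcomm : g * SemidirectProduct.inl w = SemidirectProduct.inl w * g := hgk ▸ (Commute.self_pow g k).eq
    have h1 := congrArg SemidirectProduct.left hcomm
    simp only [SemidirectProduct.mul_left, SemidirectProduct.left_inl, SemidirectProduct.right_inl,
      map_one, MulAut.one_apply] at h1
    rw [mul_comm w, mul_right_inj] at h1
    have hw1 : w = 1 := Multiplicative.toAdd.injective (no_eigenvalue_one g.right hg _ (congrArg Multiplicative.toAdd h1))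
    rw [hgk, hw1, map_one]
  constructor
  · rintro ⟨g, rfl⟩
    by_cases hg : g.right = 1
    · refine .inr (.inr (orderOf_dvd_of_pow_eq_one ?_))
      rw [show g = SemidirectProduct.inl g.left from SemidirectProduct.ext rfl hg, ← map_pow, hV, map_one]
    · rw [hout g hg]
      exact (order_cases g.right).imp id .inl
  · intro h
    have key : ∀ {m : ℕ}, 0 < m → (∃ x : V ⋊[φ] O48, orderOf x = m) → n ∣ m → ∃ x : V ⋊[φ] O48, orderOf x = n := by
      rintro m hm ⟨x, rfl⟩ hn
      exact ⟨x ^ (orderOf x / n), orderOf_pow_orderOf_div hm.ne' hn⟩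
    rcases h with h | h | h
    · obtain ⟨g, hg⟩ := exists_six
      exact key (by norm_num) ⟨SemidirectProduct.inr g, (orderOf_injective _ SemidirectProduct.inr_injective g).trans hg⟩ h
    · obtain ⟨g, hg⟩ := exists_eight
      exact key (by norm_num) ⟨SemidirectProduct.inr g, (orderOf_injective _ SemidirectProduct.inr_injective g).trans hg⟩ h
    · refine key (by norm_num) ⟨SemidirectProduct.inl (Multiplicative.ofAdd fun _ => (1 : Q)), ?_⟩ h
      refine orderOf_eq_prime (by rw [← map_pow, hV, map_one]) fun e => ?_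
      exact one_ne_zero (congrFun (congrArg (fun z : V ⋊[φ] O48 => Multiplicative.toAdd z.left) e) 0)

/-- Coefficients of the powers of a 3×3 matrix. -/
def cf {R : Type*} [CommRing R] (t s : R) : ℕ → R × R × R
  | 0 => (0, 0, 1)
  | k + 1 => ((cf t s k).1 * t + (cf t s k).2.1, (cf t s k).2.2 - (cf t s k).1 * s, (cf t s k).1)

theorem cf_cases : ∀ t s : ZMod 3, cf t s 6 = (0, 0, 1) ∨ cf t s 8 = (0, 0, 1) ∨ cf t s 13 = (0, 0, 1) := by
  decide +kernel

theorem pow_eq {R : Type*} [CommRing R] (M : Matrix (Fin 3) (Fin 3) R) (hd : M.det = 1) (t s : R)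
    (ht : t = M 0 0 + M 1 1 + M 2 2)
    (hs : s = M 0 0 * M 1 1 - M 0 1 * M 1 0 + (M 0 0 * M 2 2 - M 0 2 * M 2 0) + (M 1 1 * M 2 2 - M 1 2 * M 2 1)) :
    ∀ k, M ^ k = (cf t s k).1 • (M * M) + (cf t s k).2.1 • M + (cf t s k).2.2 • (1 : Matrix (Fin 3) (Fin 3) R) := by
  have h3 : M * M * M = t • (M * M) - s • M + (1 : Matrix (Fin 3) (Fin 3) R) := by
    rw [← one_smul R (1 : Matrix (Fin 3) (Fin 3) R), ← hd, ht, hs, Matrix.det_fin_three]
    ext i j
    fin_cases i <;> fin_cases j <;> simp [Matrix.mul_apply, Fin.sum_univ_three] <;> ring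
  intro k
  induction k with
  | zero => simp [cf]
  | succ k ih =>
    rw [pow_succ, ih, add_mul, add_mul, smul_mul_assoc, smul_mul_assoc, smul_mul_assoc, one_mul, h3, cf]
    simp only [smul_add, smul_sub, smul_smul, add_smul, sub_smul]
    abel

theorem cube_one : ∀ a : ZMod 3, a ^ 3 = 1 → a = 1 := by decide

theorem wit6 : (!![0, 0, 1; 1, 0, 1; 0, 1, 2] : Matrix (Fin 3) (Fin 3) (ZMod 3)).det = 1 ∧
    (!![0, 0, 1; 1, 0, 1; 0, 1, 2] : Matrix (Fin 3) (Fin 3) (ZMod 3)) ^ 6 = 1 ∧
    ∀ d < 6, 0 < d → (!![0, 0, 1; 1, 0, 1; 0, 1, 2] : Matrix (Fin 3) (Fin 3) (ZMod 3)) ^ d ≠ 1 := by decide +kernel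

theorem wit8 : (!![0, 0, 1; 1, 0, 0; 0, 1, 1] : Matrix (Fin 3) (Fin 3) (ZMod 3)).det = 1 ∧
    (!![0, 0, 1; 1, 0, 0; 0, 1, 1] : Matrix (Fin 3) (Fin 3) (ZMod 3)) ^ 8 = 1 ∧
    ∀ d < 8, 0 < d → (!![0, 0, 1; 1, 0, 0; 0, 1, 1] : Matrix (Fin 3) (Fin 3) (ZMod 3)) ^ d ≠ 1 := by decide +kernel

theorem wit13 : (!![0, 0, 1; 1, 0, 1; 0, 1, 0] : Matrix (Fin 3) (Fin 3) (ZMod 3)).det = 1 ∧
    (!![0, 0, 1; 1, 0, 1; 0, 1, 0] : Matrix (Fin 3) (Fin 3) (ZMod 3)) ^ 13 = 1 ∧
    ∀ d < 13, 0 < d → (!![0, 0, 1; 1, 0, 1; 0, 1, 0] : Matrix (Fin 3) (Fin 3) (ZMod 3)) ^ d ≠ 1 := by decide +kernel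

theorem range_psl {F : Type*} [Field F] [Fintype F] (hF : Fintype.card F = 3) (n : ℕ) :
    (∃ x : Matrix.ProjectiveSpecialLinearGroup (Fin 3) F, orderOf x = n) ↔ n ∣ 6 ∨ n ∣ 8 ∨ n ∣ 13 := by
  classical
  haveI : Fact (Nat.Prime 3) := ⟨Nat.prime_three⟩
  haveI : CharP F 3 := charP_of_card_eq_prime hF
  let r : ZMod 3 →+* F := ZMod.castHom dvd_rfl F
  have hr : Function.Surjective r :=
    ((Fintype.bijective_iff_injective_and_card r).2 ⟨r.injective, by rw [ZMod.card, hF]⟩).2
  have hZ : ∀ z ∈ Subgroup.center (Matrix.SpecialLinearGroup (Fin 3) F), z = 1 := by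
    intro z hz
    obtain ⟨c, hc, hcz⟩ := Matrix.SpecialLinearGroup.mem_center_iff.1 hz
    obtain ⟨a, rfl⟩ := hr c
    rw [Fintype.card_fin, ← map_pow, ← map_one r, r.injective.eq_iff] at hc
    have : a = 1 := cube_one a hc
    refine Subtype.ext ?_
    rw [← hcz, this]
    simp
  let π : Matrix.SpecialLinearGroup (Fin 3) F →* Matrix.ProjectiveSpecialLinearGroup (Fin 3) F :=
    QuotientGroup.mk' (Subgroup.center (Matrix.SpecialLinearGroup (Fin 3) F))
  have hπ : Function.Injective π := (injective_iff_map_eq_one π).2 fun z hz => hZ z ((QuotientGroup.eq_one_iff z).1 hz)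
  constructor
  · rintro ⟨x, rfl⟩
    obtain ⟨g, rfl⟩ := QuotientGroup.mk'_surjective _ x
    show orderOf (π g) ∣ 6 ∨ orderOf (π g) ∣ 8 ∨ orderOf (π g) ∣ 13
    rw [orderOf_injective π hπ]
    set M : Matrix (Fin 3) (Fin 3) F := g.1 with hM
    obtain ⟨t, ht⟩ := hr (M 0 0 + M 1 1 + M 2 2)
    obtain ⟨s, hs⟩ := hr (M 0 0 * M 1 1 - M 0 1 * M 1 0 + (M 0 0 * M 2 2 - M 0 2 * M 2 0) + (M 1 1 * M 2 2 - M 1 2 * M 2 1))
    have hmap : ∀ k, cf (r t) (r s) k = (r (cf t s k).1, r (cf t s k).2.1, r (cf t s k).2.2) := by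
      intro k
      induction k with
      | zero => simp [cf]
      | succ k ih => simp [cf, ih]
    have hone : ∀ k, cf t s k = (0, 0, 1) → orderOf g ∣ k := fun k hk => orderOf_dvd_of_pow_eq_one (Subtype.ext (by
      rw [Matrix.SpecialLinearGroup.coe_pow, Matrix.SpecialLinearGroup.coe_one, pow_eq M g.2 (r t) (r s) ht hs, hmap, hk]
      simp))
    exact (cf_cases t s).imp (hone 6) (Or.imp (hone 8) (hone 13))
  · intro h
    let f : Matrix.SpecialLinearGroup (Fin 3) (ZMod 3) →* Matrix.ProjectiveSpecialLinearGroup (Fin 3) F :=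
      π.comp (Matrix.SpecialLinearGroup.map r)
    have hf : Function.Injective f := hπ.comp fun a b e => by
      ext i j
      exact r.injective (congrFun (congrFun (congrArg Subtype.val e) i) j)
    have mkord : ∀ (A : Matrix (Fin 3) (Fin 3) (ZMod 3)) (hA : A.det = 1) (m : ℕ), 0 < m →
        (A ^ m = 1 ∧ ∀ d < m, 0 < d → A ^ d ≠ 1) → n ∣ m →
        ∃ x : Matrix.ProjectiveSpecialLinearGroup (Fin 3) F, orderOf x = n := by
      intro A hA m hm hpow hn
      let X : Matrix.SpecialLinearGroup (Fin 3) (ZMod 3) := ⟨A, hA⟩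
      have ho : orderOf X = m := by
        refine (orderOf_eq_iff hm).2 ⟨Subtype.ext (by rw [Matrix.SpecialLinearGroup.coe_pow]; exact hpow.1), fun d hd hd0 e => ?_⟩
        have := congrArg Subtype.val e
        rw [Matrix.SpecialLinearGroup.coe_pow] at this
        exact hpow.2 d hd hd0 this
      have hfx := (orderOf_injective f hf _).trans ho
      exact ⟨f X ^ (orderOf (f X) / n), orderOf_pow_orderOf_div (by rw [hfx]; omega) (by rw [hfx]; exact hn)⟩
    rcases h with h | h | h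
    · exact mkord _ wit6.1 6 (by norm_num) wit6.2 h
    · exact mkord _ wit8.1 8 (by norm_num) wit8.2 h
    · exact mkord _ wit13.1 13 (by norm_num) wit13.2 h

end Cfsg.Agent.S3437

namespace Cfsg.Agent.S3437

/-- There is a finite solvable group with exactly the same set of element orders as the simple group PSL(3,3). -/
theorem result {F : Type*} [Field F] [Fintype F] (hF : Fintype.card F = 3) :
    ∃ (H : Type) (_ : Group H) (_ : Fintype H), Group.IsSolvable H ∧
      Set.range (orderOf : H → ℕ) = Set.range (orderOf : Matrix.ProjectiveSpecialLinearGroup (Fin 3) F → ℕ) := by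
  obtain ⟨H, i1, i2, hs, hH⟩ := exists_solvable
  exact ⟨H, i1, i2, hs, Set.ext fun n => (hH n).trans (range_psl hF n).symm⟩

end Cfsg.Agent.S3437
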