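import Cfsg.Statements.S3438
import Cfsg.Agent.Base.Spectrum.UThreeThree
import Cfsg.Prelude.Def_Classical
import Mathlib.FieldTheory.Finite.GaloisField
-- import your own Cfsg.Agent.* helpers here

set_option autoImplicit false
open Cfsg

namespace Cfsg.Agent.S3438

open CfsgLib.UThreeThree

theorem pow_eq {R : Type*} [CommRing R] (M : Matrix (Fin 3) (Fin 3) R) (hd : M.det = 1) (t s : R)
    (ht : t = M 0 0 + M 1 1 + M 2 2)
    (hs : s = M 0 0 * M 1 1 - M 0 1 * M 1 0 + (M 0 0 * M 2 2 - M 0 2 * M 2 0) + (M 1 1 * M 2 2 - M 1 2 * M 2 1)) :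
    ∀ k, M ^ k = (cf t s k).1 • (M * M) + (cf t s k).2.1 • M + (cf t s k).2.2 • (1 : Matrix (Fin 3) (Fin 3) R) := by
  have h3 : M * M * M = t • (M * M) - s • M + (1 : Matrix (Fin 3) (Fin 3) R) := by
    rw [← one_smul R (1 : Matrix (Fin 3) (Fin 3) R), ← hd, ht, hs, Matrix.det_fin_three]
    ext i j
    fin_cases i <;> fin_cases j <;> simp [Matrix.mul_apply, Fin.sum_univ_three] <;> ring
  intro k
  induction k with
  | zero => simp [cf]
  | succ k ih =>
    rw [pow_succ, ih, add_mul, add_mul, smul_mul_assoc, smul_mul_assoc, smul_mul_assoc, one_mul, h3, cf]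
    simp only [smul_add, smul_sub, smul_smul, add_smul, sub_smul]
    abel


theorem exists_solvable : ∃ (H : Type) (_ : Group H) (_ : Fintype H), Group.IsSolvable H ∧
    ∀ n, (∃ x : H, orderOf x = n) ↔ n ∣ 7 ∨ n ∣ 8 ∨ n ∣ 12 := by
  classical
  let V := Multiplicative (Fin 2 → Q)
  let φ : C24 →* MulAut V := MonoidHom.mk' (fun g => AddEquiv.toMultiplicative
      { toFun := fun v => (g : G2).1.mulVec v
        invFun := fun v => ((g⁻¹ : C24) : G2).1.mulVec v
        left_inv := fun v => by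
          simp only [Matrix.mulVec_mulVec, ← Units.val_mul, ← Subgroup.coe_mul, inv_mul_cancel, Subgroup.coe_one,
            Units.val_one, Matrix.one_mulVec]
        right_inv := fun v => by
          simp only [Matrix.mulVec_mulVec, ← Units.val_mul, ← Subgroup.coe_mul, mul_inv_cancel, Subgroup.coe_one,
            Units.val_one, Matrix.one_mulVec]
        map_add' := fun v w => Matrix.mulVec_add _ _ _ })
    (fun g h => MulEquiv.ext fun v => Multiplicative.toAdd.injective (by
      show ((g * h : C24) : G2).1.mulVec (Multiplicative.toAdd v) =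
        (g : G2).1.mulVec ((h : G2).1.mulVec (Multiplicative.toAdd v))
      rw [Matrix.mulVec_mulVec, Subgroup.coe_mul, Units.val_mul]))
  haveI : Finite (V ⋊[φ] C24) := Finite.of_equiv _ SemidirectProduct.equivProd.symm
  haveI := Fintype.ofFinite (V ⋊[φ] C24)
  haveI := isSolvable
  refine ⟨V ⋊[φ] C24, inferInstance, inferInstance, Group.isSolvable_of_ker_le_range (SemidirectProduct.inl (φ := φ))
    SemidirectProduct.rightHom (by rw [SemidirectProduct.range_inl_eq_ker_rightHom]), fun n => ?_⟩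
  have hV : ∀ v : V, v ^ 7 = 1 := fun v => Multiplicative.toAdd.injective (by
    rw [toAdd_pow]
    refine funext fun i => ?_
    show (7 : ℕ) • (Multiplicative.toAdd v i) = 0
    rw [nsmul_eq_mul, show ((7 : ℕ) : Q) = 0 by decide +kernel, zero_mul])
  have hout : ∀ g : V ⋊[φ] C24, g.right ≠ 1 → orderOf g = orderOf g.right := by
    intro g hg
    refine Nat.dvd_antisymm (orderOf_dvd_of_pow_eq_one ?_) (orderOf_map_dvd SemidirectProduct.rightHom g)
    set k := orderOf g.right
    have hr : (g ^ k).right = 1 := (map_pow SemidirectProduct.rightHom g k).trans (pow_orderOf_eq_one g.right)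
    set w := (g ^ k).left with hw
    have hgk : g ^ k = SemidirectProduct.inl w := SemidirectProduct.ext rfl hr
    have hcomm : g * SemidirectProduct.inl w = SemidirectProduct.inl w * g := hgk ▸ (Commute.self_pow g k).eq
    have h1 := congrArg SemidirectProduct.left hcomm
    simp only [SemidirectProduct.mul_left, SemidirectProduct.left_inl, SemidirectProduct.right_inl,
      map_one, MulAut.one_apply] at h1
    rw [mul_comm w, mul_right_inj] at h1
    have hw1 : w = 1 := Multiplicative.toAdd.injective (no_eigenvalue_one g.right hg _ (congrArg Multiplicative.toAdd h1))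
    rw [hgk, hw1, map_one]
  constructor
  · rintro ⟨g, rfl⟩
    by_cases hg : g.right = 1
    · refine .inl (orderOf_dvd_of_pow_eq_one ?_)
      rw [show g = SemidirectProduct.inl g.left from SemidirectProduct.ext rfl hg, ← map_pow, hV, map_one]
    · rw [hout g hg]
      exact .inr (order_cases g.right)
  · intro h
    have key : ∀ {m : ℕ}, 0 < m → (∃ x : V ⋊[φ] C24, orderOf x = m) → n ∣ m → ∃ x : V ⋊[φ] C24, orderOf x = n := by
      rintro m hm ⟨x, rfl⟩ hn
      exact ⟨x ^ (orderOf x / n), orderOf_pow_orderOf_div hm.ne' hn⟩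
    rcases h with h | h | h
    · haveI : Fact (Nat.Prime 7) := ⟨by norm_num⟩
      refine key (by norm_num) ⟨SemidirectProduct.inl (Multiplicative.ofAdd fun _ => (1 : Q)), ?_⟩ h
      refine orderOf_eq_prime (by rw [← map_pow, hV, map_one]) fun e => ?_
      exact one_ne_zero (congrFun (congrArg (fun z : V ⋊[φ] C24 => Multiplicative.toAdd z.left) e) 0)
    · obtain ⟨g, hg⟩ := exists_eight
      exact key (by norm_num) ⟨SemidirectProduct.inr g, (orderOf_injective _ SemidirectProduct.inr_injective g).trans hg⟩ h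
    · obtain ⟨g, hg⟩ := exists_twelve
      exact key (by norm_num) ⟨SemidirectProduct.inr g, (orderOf_injective _ SemidirectProduct.inr_injective g).trans hg⟩ h

theorem unitary_entries {F : Type*} [Field F] (g : Cfsg.SU 3 F 3) (i j : Fin 3) :
    ∑ k, (g : Matrix.SpecialLinearGroup (Fin 3) F).1 k i * ((g : Matrix.SpecialLinearGroup (Fin 3) F).1 k j) ^ 3 =
      if i = j then 1 else 0 := by
  have h := g.2 (Pi.single i 1) (Pi.single j 1)
  have e : ∀ (A : Matrix (Fin 3) (Fin 3) F) (a k : Fin 3), A.mulVec (Pi.single a 1) k = A k a := fun A a k => by simp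
  simp only [Cfsg.hermForm] at h
  rw [show (Cfsg.slToMat 3 F) (g : Matrix.SpecialLinearGroup (Fin 3) F) = (g : Matrix.SpecialLinearGroup (Fin 3) F).1 from rfl] at h
  simp only [e] at h
  rw [h]
  fin_cases i <;> fin_cases j <;> simp [Fin.sum_univ_three]

theorem minors {F : Type*} [Field F] [CharP F 3] (g : Cfsg.SU 3 F 3) (M : Matrix (Fin 3) (Fin 3) F)
    (hM : M = (g : Matrix.SpecialLinearGroup (Fin 3) F).1) :
    (M 0 0 + M 1 1 + M 2 2) ^ 3 =
      M 0 0 * M 1 1 - M 0 1 * M 1 0 + (M 0 0 * M 2 2 - M 0 2 * M 2 0) + (M 1 1 * M 2 2 - M 1 2 * M 2 1) := by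
  haveI : Fact (Nat.Prime 3) := ⟨Nat.prime_three⟩
  let B : Matrix (Fin 3) (Fin 3) F := Matrix.of fun a b => M a b ^ 3
  have hB : M.transpose * B = 1 := by
    ext a b
    rw [Matrix.mul_apply, Matrix.one_apply]
    simpa [B, hM] using unitary_entries g a b
  have hd : M.det = 1 := hM ▸ (g : Matrix.SpecialLinearGroup (Fin 3) F).2
  have hB2 : B = M.transpose.adjugate := by
    have := congrArg (fun X => M.transpose.adjugate * X) hB
    simp only [← Matrix.mul_assoc, Matrix.adjugate_mul, Matrix.det_transpose, hd, one_smul, Matrix.one_mul,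
      Matrix.mul_one] at this
    exact this
  rw [add_pow_char, add_pow_char]
  have e0 : M 0 0 ^ 3 = B 0 0 := rfl
  have e1 : M 1 1 ^ 3 = B 1 1 := rfl
  have e2 : M 2 2 ^ 3 = B 2 2 := rfl
  rw [e0, e1, e2, hB2, Matrix.adjugate_fin_three]
  simp
  ring

theorem range_psu {F : Type*} [Field F] [Fintype F] (hF : Fintype.card F = 9) (n : ℕ) :
    (∃ x : Cfsg.PSU 3 F 3, orderOf x = n) ↔ n ∣ 7 ∨ n ∣ 8 ∨ n ∣ 12 := by
  classical
  haveI : Fintype K9 := Fintype.ofFinite K9
  have hK : Fintype.card K9 = 9 := by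
    rw [← Nat.card_eq_fintype_card, Nat.card_congr (QuadraticAlgebra.equivProd (2 : ZMod 3) 0), Nat.card_prod,
      Nat.card_zmod]
  let r : K9 ≃+* F := FiniteField.ringEquivOfCardEq (hK.trans hF.symm)
  haveI : CharP K9 3 := (CharP.charP_iff_prime_eq_zero Nat.prime_three).2 (by decide +kernel)
  haveI : CharP F 3 := charP_of_injective_ringHom (f := r.toRingHom) r.injective 3
  let π : Cfsg.SU 3 F 3 →* Cfsg.PSU 3 F 3 := QuotientGroup.mk' (Subgroup.center (Cfsg.SU 3 F 3))
  -- transport of unitary matrices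
  have lift : ∀ A : Matrix (Fin 3) (Fin 3) K9, IsU A → ∃ g : Cfsg.SU 3 F 3,
      (g : Matrix.SpecialLinearGroup (Fin 3) F).1 = A.map r := by
    rintro A ⟨hd, hu⟩
    have hd' : (A.map r).det = 1 := by
      rw [← RingEquiv.mapMatrix_apply, ← RingEquiv.map_det, hd, map_one]
    refine ⟨⟨⟨A.map r, hd'⟩, fun u v => ?_⟩, rfl⟩
    show Cfsg.hermForm 3 F 3 ((A.map r).mulVec u) ((A.map r).mulVec v) = Cfsg.hermForm 3 F 3 u v
    haveI : Fact (Nat.Prime 3) := ⟨Nat.prime_three⟩
    have hu' : ∀ i j, ∑ k, r (A k i) * r (A k j) ^ 3 = if i = j then 1 else 0 := fun i j => by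
      have := congrArg r (hu i j)
      rw [map_sum] at this
      simpa [pow_three', apply_ite r, map_mul] using this
    simp only [Cfsg.hermForm, Matrix.mulVec, dotProduct, Fin.sum_univ_three, Matrix.map_apply, add_pow_char, mul_pow]
    have a00 := hu' 0 0
    have a01 := hu' 0 1
    have a02 := hu' 0 2
    have a10 := hu' 1 0
    have a11 := hu' 1 1
    have a12 := hu' 1 2
    have a20 := hu' 2 0
    have a21 := hu' 2 1
    have a22 := hu' 2 2
    simp [Fin.sum_univ_three] at a00 a01 a02 a10 a11 a12 a20 a21 a22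
    linear_combination (u 0 * v 0 ^ 3) * a00 + (u 0 * v 1 ^ 3) * a01 + (u 0 * v 2 ^ 3) * a02 +
      (u 1 * v 0 ^ 3) * a10 + (u 1 * v 1 ^ 3) * a11 + (u 1 * v 2 ^ 3) * a12 +
      (u 2 * v 0 ^ 3) * a20 + (u 2 * v 1 ^ 3) * a21 + (u 2 * v 2 ^ 3) * a22
  have hpow : ∀ (A : Matrix (Fin 3) (Fin 3) K9) (g : Cfsg.SU 3 F 3),
      (g : Matrix.SpecialLinearGroup (Fin 3) F).1 = A.map r → ∀ k, g ^ k = 1 ↔ A ^ k = 1 := by
    intro A g hg k
    have e : ((g ^ k : Cfsg.SU 3 F 3) : Matrix.SpecialLinearGroup (Fin 3) F).1 = r.toRingHom.mapMatrix (A ^ k) := by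
      rw [Subgroup.coe_pow, Matrix.SpecialLinearGroup.coe_pow, hg, map_pow]; rfl
    constructor
    · intro h
      rw [h] at e
      exact Matrix.map_injective r.injective (e.symm.trans (map_one r.toRingHom.mapMatrix).symm)
    · intro h
      rw [h, map_one] at e
      exact Subtype.ext (Subtype.ext e)
  have hZ : ∀ z ∈ Subgroup.center (Cfsg.SU 3 F 3), z = 1 := by
    intro z hz
    obtain ⟨d, hd⟩ := lift dg dg_spec
    obtain ⟨c, hc⟩ := lift cy cy_spec
    set Z := (z : Matrix.SpecialLinearGroup (Fin 3) F).1 with hZdef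
    have comm : ∀ x : Cfsg.SU 3 F 3, (x : Matrix.SpecialLinearGroup (Fin 3) F).1 * Z =
        Z * (x : Matrix.SpecialLinearGroup (Fin 3) F).1 := fun x => by
      have := congrArg (fun y : Cfsg.SU 3 F 3 => (y : Matrix.SpecialLinearGroup (Fin 3) F).1) (Subgroup.mem_center_iff.1 hz x)
      simpa using this
    have h1 := comm d
    have h2 := comm c
    rw [hd] at h1
    rw [hc] at h2
    have ne1 : r ⟨0, 1⟩ - r ⟨0, 2⟩ ≠ 0 := by
      rw [← map_sub, Ne, map_eq_zero_iff _ r.injective]; decide +kernel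
    have ne2 : r ⟨0, 1⟩ - 1 ≠ 0 := by
      rw [← map_one r, ← map_sub, Ne, map_eq_zero_iff _ r.injective]; decide +kernel
    have ne3 : r ⟨0, 2⟩ - 1 ≠ 0 := by
      rw [← map_one r, ← map_sub, Ne, map_eq_zero_iff _ r.injective]; decide +kernel
    have p01 := congrFun (congrFun h1 0) 1
    have p02 := congrFun (congrFun h1 0) 2
    have p10 := congrFun (congrFun h1 1) 0
    have p12 := congrFun (congrFun h1 1) 2
    have p20 := congrFun (congrFun h1 2) 0
    have p21 := congrFun (congrFun h1 2) 1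
    have q01 := congrFun (congrFun h2 0) 1
    have q12 := congrFun (congrFun h2 1) 2
    simp [Matrix.mul_apply, Fin.sum_univ_three, dg, cy] at p01 p02 p10 p12 p20 p21 q01 q12
    have z01 : Z 0 1 = 0 := (mul_eq_zero.1 (show (r ⟨0, 1⟩ - r ⟨0, 2⟩) * Z 0 1 = 0 by linear_combination p01)).resolve_left ne1
    have z10 : Z 1 0 = 0 := (mul_eq_zero.1 (show (r ⟨0, 1⟩ - r ⟨0, 2⟩) * Z 1 0 = 0 by linear_combination -p10)).resolve_left ne1
    have z02 : Z 0 2 = 0 := (mul_eq_zero.1 (show (r ⟨0, 1⟩ - 1) * Z 0 2 = 0 by linear_combination p02)).resolve_left ne2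
    have z20 : Z 2 0 = 0 := (mul_eq_zero.1 (show (r ⟨0, 1⟩ - 1) * Z 2 0 = 0 by linear_combination -p20)).resolve_left ne2
    have z12 : Z 1 2 = 0 := (mul_eq_zero.1 (show (r ⟨0, 2⟩ - 1) * Z 1 2 = 0 by linear_combination p12)).resolve_left ne3
    have z21 : Z 2 1 = 0 := (mul_eq_zero.1 (show (r ⟨0, 2⟩ - 1) * Z 2 1 = 0 by linear_combination -p21)).resolve_left ne3
    have hdet : Z.det = 1 := (z : Matrix.SpecialLinearGroup (Fin 3) F).2
    rw [Matrix.det_fin_three, z01, z02, z10, z12, z20, z21, q12, q01] at hdet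
    haveI : Fact (Nat.Prime 3) := ⟨Nat.prime_three⟩
    have hone : Z 0 0 = 1 := by
      have h3 : (Z 0 0 - 1) ^ 3 = 0 := by
        rw [sub_pow_char, one_pow]
        linear_combination hdet
      exact sub_eq_zero.1 (eq_zero_of_pow_eq_zero h3)
    refine Subtype.ext (Subtype.ext ?_)
    show Z = 1
    ext a b
    fin_cases a <;> fin_cases b <;> simp [z01, z02, z10, z12, z20, z21, hone, q01, q12]
  have hπ : Function.Injective π := (injective_iff_map_eq_one π).2 fun z hz => hZ z ((QuotientGroup.eq_one_iff z).1 hz)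
  constructor
  · rintro ⟨x, rfl⟩
    obtain ⟨g, rfl⟩ := QuotientGroup.mk'_surjective _ x
    show orderOf (π g) ∣ 7 ∨ orderOf (π g) ∣ 8 ∨ orderOf (π g) ∣ 12
    rw [orderOf_injective π hπ]
    set M : Matrix (Fin 3) (Fin 3) F := (g : Matrix.SpecialLinearGroup (Fin 3) F).1 with hM
    obtain ⟨t, ht⟩ := r.surjective (M 0 0 + M 1 1 + M 2 2)
    have hs : r (t ^ 3) = M 0 0 * M 1 1 - M 0 1 * M 1 0 + (M 0 0 * M 2 2 - M 0 2 * M 2 0) + (M 1 1 * M 2 2 - M 1 2 * M 2 1) := by
      rw [map_pow, ht]; exact minors g M hM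
    have hmap : ∀ k, cf (r t) (r (t ^ 3)) k = (r (cf t (t ^ 3) k).1, r (cf t (t ^ 3) k).2.1, r (cf t (t ^ 3) k).2.2) := by
      intro k
      induction k with
      | zero => simp [cf]
      | succ k ih => simp only [cf, ih]; simp
    have hone : ∀ k, cf t (t ^ 3) k = (0, 0, 1) → orderOf g ∣ k := fun k hk =>
      orderOf_dvd_of_pow_eq_one (Subtype.ext (Subtype.ext (by
        rw [Subgroup.coe_pow, Subgroup.coe_one, Matrix.SpecialLinearGroup.coe_pow, Matrix.SpecialLinearGroup.coe_one,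
          ← hM, pow_eq M (g : Matrix.SpecialLinearGroup (Fin 3) F).2 (r t) (r (t ^ 3)) ht hs, hmap, hk]
        simp)))
    exact (cf_cases t).imp (hone 7) (Or.imp (hone 8) (hone 12))
  · intro h
    have key : ∀ {m : ℕ}, 0 < m → (∃ g : Cfsg.SU 3 F 3, orderOf g = m) → n ∣ m → ∃ x : Cfsg.PSU 3 F 3, orderOf x = n := by
      rintro m hm ⟨g, rfl⟩ hn
      refine ⟨π g ^ (orderOf (π g) / n), orderOf_pow_orderOf_div ?_ ?_⟩ <;> rw [orderOf_injective π hπ]
      exacts [hm.ne', hn]
    rcases h with h | h | h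
    · obtain ⟨g, hg⟩ := lift w7 w7_spec.1
      haveI : Fact (Nat.Prime 7) := ⟨by norm_num⟩
      exact key (by norm_num) ⟨g, orderOf_eq_prime ((hpow _ g hg 7).2 w7_spec.2.1)
        fun e => w7_spec.2.2 (by simpa using (hpow _ g hg 1).1 (by simpa using e))⟩ h
    · obtain ⟨g, hg⟩ := lift w8 w8_spec.1
      exact key (by norm_num) ⟨g, order_eight ((hpow _ g hg 8).2 w8_spec.2.1)
        fun e => w8_spec.2.2 ((hpow _ g hg 4).1 e)⟩ h
    · obtain ⟨g, hg⟩ := lift w12 w12_spec.1
      exact key (by norm_num) ⟨g, order_twelve ((hpow _ g hg 12).2 w12_spec.2.1)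
        (fun e => w12_spec.2.2.1 ((hpow _ g hg 6).1 e)) fun e => w12_spec.2.2.2 ((hpow _ g hg 4).1 e)⟩ h

end Cfsg.Agent.S3438

namespace Cfsg.Agent.S3438

/-- There is a finite solvable group with exactly the same set of element orders as the simple group PSU(3,3) (realised over the field with 9 elements). -/
theorem result {F : Type*} [Field F] [Fintype F] (hF : Fintype.card F = 9) :
    ∃ (H : Type) (_ : Group H) (_ : Fintype H), Group.IsSolvable H ∧ Set.range (orderOf : H → ℕ) = Set.range (orderOf : Cfsg.PSU 3 F 3 → ℕ) := by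
  obtain ⟨H, i1, i2, hs, hH⟩ := exists_solvable
  exact ⟨H, i1, i2, hs, Set.ext fun n => (hH n).trans (range_psu hF n).symm⟩

end Cfsg.Agent.S3438
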