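import Cfsg.Statements.S3448
import Cfsg.Agent.Base.Small.AltFive

set_option autoImplicit false
open Cfsg

namespace Cfsg.Agent.S3448

/-- The set of element orders of the direct product of two copies of the alternating group of degree 5 is {1, 2, 3, 5, 6, 10, 15}. (It is shared by the direct product of two Frobenius groups of orders 50 and 75, so this direct product is not determined by its element orders.) -/
theorem result : Set.range (orderOf : alternatingGroup (Fin 5) × alternatingGroup (Fin 5) → ℕ) = {1, 2, 3, 5, 6, 10, 15} := by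
  refine Set.Subset.antisymm ?_ ?_
  · rintro n ⟨⟨a, b⟩, rfl⟩
    show orderOf (a, b) ∈ _
    rw [Prod.orderOf_mk]
    rcases CfsgLib.Base.Small.alt5_orderOf a with h | h | h | h <;>
      rcases CfsgLib.Base.Small.alt5_orderOf b with h' | h' | h' | h' <;> simp [h, h', Nat.lcm]
  · intro n hn
    have e := CfsgLib.Base.Small.alt5_exists
    obtain ⟨o, ho⟩ := e 1 (by simp)
    obtain ⟨a, ha⟩ := e 2 (by simp)
    obtain ⟨b, hb⟩ := e 3 (by simp)
    obtain ⟨c, hc⟩ := e 5 (by simp)
    rcases hn with rfl | rfl | rfl | rfl | rfl | rfl | rfl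
    · exact ⟨(o, o), by rw [Prod.orderOf_mk, ho]; rfl⟩
    · exact ⟨(a, o), by rw [Prod.orderOf_mk, ha, ho]; rfl⟩
    · exact ⟨(b, o), by rw [Prod.orderOf_mk, hb, ho]; rfl⟩
    · exact ⟨(c, o), by rw [Prod.orderOf_mk, hc, ho]; rfl⟩
    · exact ⟨(a, b), by rw [Prod.orderOf_mk, ha, hb]; rfl⟩
    · exact ⟨(a, c), by rw [Prod.orderOf_mk, ha, hc]; rfl⟩
    · exact ⟨(b, c), by rw [Prod.orderOf_mk, hb, hc]; rfl⟩

end Cfsg.Agent.S3448
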