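import Cfsg.Statements.S3449
import Cfsg.Agent.Base.Small.AltFive

set_option autoImplicit false
open Cfsg

namespace Cfsg.Agent.S3449

/-- The direct product of three copies of the alternating group of degree 5 has exactly the same set of element orders as the cyclic group of order 30, namely the divisors of 30; in particular a direct power of a non-abelian simple group need not be determined by its element orders. -/
theorem result : Set.range (orderOf : alternatingGroup (Fin 5) × alternatingGroup (Fin 5) × alternatingGroup (Fin 5) → ℕ) =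
      Set.range (orderOf : Multiplicative (ZMod 30) → ℕ) := by
  have hz : ∀ n : ℕ, n ∈ Set.range (orderOf : Multiplicative (ZMod 30) → ℕ) ↔ n ∣ 30 := by
    intro n
    constructor
    · rintro ⟨x, rfl⟩
      refine orderOf_dvd_natCard x |>.trans ?_
      simp [Nat.card_eq_fintype_card]
    · intro hn
      refine ⟨Multiplicative.ofAdd ((30 / n : ℕ) : ZMod 30), ?_⟩
      rw [orderOf_ofAdd_eq_addOrderOf, ZMod.addOrderOf_coe _ (by norm_num)]
      rcases eq_or_ne n 0 with rfl | h0
      · simp at hn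
      rw [Nat.gcd_eq_right (Nat.div_dvd_of_dvd hn), Nat.div_div_self hn (by norm_num)]
  ext n
  rw [hz]
  constructor
  · rintro ⟨⟨a, b, c⟩, rfl⟩
    rw [Prod.orderOf_mk, Prod.orderOf_mk]
    have h : ∀ x : alternatingGroup (Fin 5), orderOf x ∣ 30 := fun x => by
      rcases CfsgLib.Base.Small.alt5_orderOf x with h | h | h | h <;> rw [h] <;> norm_num
    exact Nat.lcm_dvd (h a) (Nat.lcm_dvd (h b) (h c))
  · intro hn
    have e := CfsgLib.Base.Small.alt5_exists
    obtain ⟨o, ho⟩ := e 1 (by simp)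
    obtain ⟨a, ha⟩ := e 2 (by simp)
    obtain ⟨b, hb⟩ := e 3 (by simp)
    obtain ⟨c, hc⟩ := e 5 (by simp)
    have hd : n ∈ ({1, 2, 3, 5, 6, 10, 15, 30} : Finset ℕ) := by
      have h30 : Nat.divisors 30 = {1, 2, 3, 5, 6, 10, 15, 30} := by decide +kernel
      exact h30 ▸ Nat.mem_divisors.2 ⟨hn, by norm_num⟩
    simp only [Finset.mem_insert, Finset.mem_singleton] at hd
    rcases hd with rfl | rfl | rfl | rfl | rfl | rfl | rfl | rfl
    · exact ⟨(o, o, o), by simp [Prod.orderOf_mk, ho]⟩
    · exact ⟨(a, o, o), by simp [Prod.orderOf_mk, ha, ho]⟩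
    · exact ⟨(b, o, o), by simp [Prod.orderOf_mk, hb, ho]⟩
    · exact ⟨(c, o, o), by simp [Prod.orderOf_mk, hc, ho]⟩
    · exact ⟨(a, b, o), by simp [Prod.orderOf_mk, ha, hb, ho, Nat.lcm]⟩
    · exact ⟨(a, c, o), by simp [Prod.orderOf_mk, ha, hc, ho, Nat.lcm]⟩
    · exact ⟨(b, c, o), by simp [Prod.orderOf_mk, hb, hc, ho, Nat.lcm]⟩
    · exact ⟨(a, b, c), by simp [Prod.orderOf_mk, ha, hb, hc, Nat.lcm]⟩

end Cfsg.Agent.S3449
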