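import Cfsg.Statements.S3488
import Cfsg.Agent.Base.Small.AltSixSpectrum
-- import your own Cfsg.Agent.* helpers here

set_option autoImplicit false
open Cfsg

namespace Cfsg.Agent.S3488

open CfsgLib.Base.Small.AltSixSpectrum in
theorem affine_inv {F : Type*} [Field F] [Fintype F] {M : Matrix.SpecialLinearGroup (Fin 3) F} (hF : Fintype.card F = 4)
    (hM : Affine M) : Affine M⁻¹ := by
  classical
  have hp : ∀ n : ℕ, Affine (M ^ n) := fun n => by
    induction n with
    | zero => rw [pow_zero]; exact affine_one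
    | succ n ih => rw [pow_succ]; exact affine_mul ih hM
  rcases pow_cases hF hM with ⟨-, h⟩ | ⟨-, h⟩ | ⟨-, -, h⟩
  · rw [inv_eq_of_mul_eq_one_right (show M * M ^ 3 = 1 by rw [← pow_succ']; exact h)]; exact hp 3
  · rw [inv_eq_of_mul_eq_one_right (show M * M ^ 2 = 1 by rw [← pow_succ']; exact h)]; exact hp 2
  · rw [inv_eq_of_mul_eq_one_right (show M * M ^ 4 = 1 by rw [← pow_succ']; exact h)]; exact hp 4

open CfsgLib.Base.Small.AltSixSpectrum in
theorem witness {F : Type*} [Field F] [Fintype F] (hF : Fintype.card F = 4) : ∀ d ∈ ({1, 2, 3, 4, 5} : Set ℕ),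
    ∃ M : Matrix.SpecialLinearGroup (Fin 3) F, Affine M ∧ orderOf M = d := by
  have h2 : (2 : F) = 0 := two_zero hF
  obtain ⟨w, hw0, hw1⟩ : ∃ w : F, w ≠ 0 ∧ w ≠ 1 := by
    classical
    by_contra h
    push_neg at h
    have h1 : (Finset.univ : Finset F) ⊆ {0, 1} := fun x _ => by
      by_cases hx : x = 0
      · simp [hx]
      · simp [h x hx]
    have := (Finset.card_le_card h1).trans Finset.card_le_two
    rw [Finset.card_univ, hF] at this
    omega
  haveI : Fact (Nat.Prime 2) := ⟨Nat.prime_two⟩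
  haveI : Fact (Nat.Prime 3) := ⟨Nat.prime_three⟩
  haveI : Fact (Nat.Prime 5) := ⟨Nat.prime_five⟩
  intro d hd
  rcases hd with rfl | rfl | rfl | rfl | rfl
  · exact ⟨1, affine_one, orderOf_one⟩
  · let M : Matrix.SpecialLinearGroup (Fin 3) F := ⟨!![1, 0, 1; 0, 1, 0; 0, 0, 1], by simp [Matrix.det_fin_three]⟩
    refine ⟨M, ⟨rfl, rfl, rfl⟩, orderOf_eq_prime (Subtype.ext ?_) fun h => ?_⟩
    · rw [Matrix.SpecialLinearGroup.coe_pow, Matrix.SpecialLinearGroup.coe_one, sq]
      ext i j
      fin_cases i <;> fin_cases j <;> simp [M, Matrix.mul_apply, Fin.sum_univ_three, one_add_one_eq_two, h2]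
    · have := congrArg (fun N : Matrix.SpecialLinearGroup (Fin 3) F => (N : Matrix (Fin 3) (Fin 3) F) 0 2) h
      simp [M] at this
  · let M : Matrix.SpecialLinearGroup (Fin 3) F := ⟨!![0, 1, 0; 1, 1, 0; 0, 0, 1], by
      simp [Matrix.det_fin_three]; linear_combination -h2⟩
    refine ⟨M, ⟨rfl, rfl, rfl⟩, orderOf_eq_prime ?_ fun h => ?_⟩
    · rcases pow_cases hF (M := M) ⟨rfl, rfl, rfl⟩ with ⟨h, -⟩ | ⟨-, h⟩ | ⟨-, h, -⟩
      · simp [M] at h
      · exact h
      · simp [M] at h
    · have := congrArg (fun N : Matrix.SpecialLinearGroup (Fin 3) F => (N : Matrix (Fin 3) (Fin 3) F) 0 1) h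
      simp [M] at this
  · let M : Matrix.SpecialLinearGroup (Fin 3) F := ⟨!![1, 1, 0; 0, 1, 1; 0, 0, 1], by simp [Matrix.det_fin_three]⟩
    refine ⟨M, ⟨rfl, rfl, rfl⟩, ?_⟩
    have h := orderOf_eq_prime_pow (x := M) (p := 2) (n := 1) ?_ ?_
    · simpa using h
    · intro h
      have := congrArg (fun N : Matrix.SpecialLinearGroup (Fin 3) F => (N : Matrix (Fin 3) (Fin 3) F) 0 2) h
      simp only [pow_one, sq, Matrix.SpecialLinearGroup.coe_mul, Matrix.SpecialLinearGroup.coe_one] at this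
      simp [M, Matrix.mul_apply, Fin.sum_univ_three] at this
    · rcases pow_cases hF (M := M) ⟨rfl, rfl, rfl⟩ with ⟨-, h⟩ | ⟨h, -⟩ | ⟨h, -, -⟩
      · simpa using h
      · simp [M, one_add_one_eq_two, h2] at h
      · simp [M, one_add_one_eq_two, h2] at h
  · let M : Matrix.SpecialLinearGroup (Fin 3) F := ⟨!![0, 1, 0; 1, w, 0; 0, 0, 1], by
      simp [Matrix.det_fin_three]; linear_combination -h2⟩
    refine ⟨M, ⟨rfl, rfl, rfl⟩, orderOf_eq_prime ?_ fun h => ?_⟩
    · rcases pow_cases hF (M := M) ⟨rfl, rfl, rfl⟩ with ⟨h, -⟩ | ⟨h, -⟩ | ⟨-, -, h⟩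
      · simp [M, hw0] at h
      · simp [M, hw1] at h
      · exact h
    · have := congrArg (fun N : Matrix.SpecialLinearGroup (Fin 3) F => (N : Matrix (Fin 3) (Fin 3) F) 0 1) h
      simp [M] at this

end Cfsg.Agent.S3488

namespace Cfsg.Agent.S3488

/-- Let F be the field with four elements. The affine group F² ⋊ SL(2,F), realised as the subgroup of SL(3,F) of matrices with last row (0, 0, 1), has exactly the same set of element orders as the alternating group of degree 6 (namely {1, 2, 3, 4, 5}); so the alternating group of degree 6 is not determined by its element orders. -/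
theorem result {F : Type*} [Field F] [Fintype F] (hF : Fintype.card F = 4) :
    Set.range (orderOf : Subgroup.closure {M : Matrix.SpecialLinearGroup (Fin 3) F |
        (M : Matrix (Fin 3) (Fin 3) F) 2 0 = 0 ∧ (M : Matrix (Fin 3) (Fin 3) F) 2 1 = 0 ∧ (M : Matrix (Fin 3) (Fin 3) F) 2 2 = 1} → ℕ) =
      Set.range (orderOf : alternatingGroup (Fin 6) → ℕ) := by
  classical
  open CfsgLib.Base.Small.AltSixSpectrum in
  rw [CfsgLib.Base.Small.AltSixSpectrum.range_alt6]
  ext d
  constructor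
  · rintro ⟨⟨M, hM⟩, rfl⟩
    rw [Subgroup.orderOf_mk]
    have hMA : CfsgLib.Base.Small.AltSixSpectrum.Affine M := by
      induction hM using Subgroup.closure_induction with
      | mem x hx => exact hx
      | one => exact CfsgLib.Base.Small.AltSixSpectrum.affine_one
      | mul a b _ _ ha hb => exact CfsgLib.Base.Small.AltSixSpectrum.affine_mul ha hb
      | inv a _ ha => exact affine_inv hF ha
    refine CfsgLib.Base.Small.AltSixSpectrum.mem_of_pow ?_
    rcases CfsgLib.Base.Small.AltSixSpectrum.pow_cases hF hMA with ⟨-, h⟩ | ⟨-, h⟩ | ⟨-, -, h⟩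
    · exact Or.inl h
    · exact Or.inr (Or.inl h)
    · exact Or.inr (Or.inr h)
  · intro hd
    obtain ⟨M, hM, rfl⟩ := witness hF d hd
    exact ⟨⟨M, Subgroup.subset_closure hM⟩, Subgroup.orderOf_mk _ _⟩

end Cfsg.Agent.S3488
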