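import Cfsg.Statements.S3491
import Cfsg.Agent.S3488
-- import your own Cfsg.Agent.* helpers here

set_option autoImplicit false
open Cfsg

namespace Cfsg.Agent.S3491

set_option maxHeartbeats 1000000 in
/-- The alternating group of degree 6 is not determined by its set of element orders, not even up to finitely many groups: for every bound N there is a finite group of order greater than N with exactly the same set of element orders as the alternating group of degree 6. -/
theorem result (N : ℕ) : ∃ (H : Type) (_ : Group H) (_ : Fintype H), N < Fintype.card H ∧ Set.range (orderOf : H → ℕ) = Set.range (orderOf : alternatingGroup (Fin 6) → ℕ) := by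
  classical
  haveI : Fact (Nat.Prime 2) := ⟨Nat.prime_two⟩
  haveI : Fintype (GaloisField 2 2) := Fintype.ofFinite _
  have hF : Fintype.card (GaloisField 2 2) = 4 := by
    rw [← Nat.card_eq_fintype_card, GaloisField.card 2 2 (by norm_num)]; norm_num
  let H : Subgroup (Fin (N + 1) → Matrix.SpecialLinearGroup (Fin 3) (GaloisField 2 2)) :=
    { carrier := {f | (∀ i, CfsgLib.Base.Small.AltSixSpectrum.Affine (f i)) ∧ ∀ i, ∀ a b : Fin 2,
        (f i : Matrix (Fin 3) (Fin 3) (GaloisField 2 2)) (Fin.castSucc a) (Fin.castSucc b) = (f 0 : Matrix (Fin 3) (Fin 3) (GaloisField 2 2)) (Fin.castSucc a) (Fin.castSucc b)}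
      one_mem' := ⟨fun i => CfsgLib.Base.Small.AltSixSpectrum.affine_one, fun i a b => rfl⟩
      mul_mem' := by
        rintro f g ⟨hf, hf'⟩ ⟨hg, hg'⟩
        refine ⟨fun i => CfsgLib.Base.Small.AltSixSpectrum.affine_mul (hf i) (hg i), fun i a b => ?_⟩
        have e1 := (hg i).1
        have e2 := (hg i).2.1
        have e3 := (hg 0).1
        have e4 := (hg 0).2.1
        have e5 := hf' i a 0
        have e6 := hf' i a 1
        have e7 := hg' i 0 b
        have e8 := hg' i 1 b
        fin_cases b <;> simp_all [Matrix.mul_apply, Fin.sum_univ_three]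
      inv_mem' := by
        rintro f ⟨hf, hf'⟩
        -- the inverse is a power
        have hpow : ∀ n : ℕ, (∀ i, CfsgLib.Base.Small.AltSixSpectrum.Affine ((f ^ n) i)) ∧ ∀ i, ∀ a b : Fin 2,
            ((f ^ n) i : Matrix (Fin 3) (Fin 3) (GaloisField 2 2)) (Fin.castSucc a) (Fin.castSucc b) = ((f ^ n) 0 : Matrix (Fin 3) (Fin 3) (GaloisField 2 2)) (Fin.castSucc a) (Fin.castSucc b) := by
          intro n
          induction n with
          | zero => exact ⟨fun i => CfsgLib.Base.Small.AltSixSpectrum.affine_one, fun i a b => rfl⟩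
          | succ n ih =>
            refine ⟨fun i => by rw [pow_succ]; exact CfsgLib.Base.Small.AltSixSpectrum.affine_mul (ih.1 i) (hf i), fun i a b => ?_⟩
            have e1 := (hf i).1
            have e2 := (hf i).2.1
            have e3 := (hf 0).1
            have e4 := (hf 0).2.1
            have e5 := ih.2 i a 0
            have e6 := ih.2 i a 1
            have e7 := hf' i 0 b
            have e8 := hf' i 1 b
            fin_cases b <;> simp_all [pow_succ, Matrix.mul_apply, Fin.sum_univ_three]
        have : f⁻¹ = f ^ (orderOf f - 1) := inv_eq_of_mul_eq_one_right (by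
          rw [← pow_succ', Nat.sub_add_cancel (orderOf_pos f), pow_orderOf_eq_one])
        show (∀ i, _) ∧ ∀ i, ∀ a b : Fin 2, _
        rw [this]; exact hpow _ }
  refine ⟨↥H, inferInstance, Fintype.ofFinite _, ?_, ?_⟩
  · have hdet : ∀ x : GaloisField 2 2, Matrix.det !![(1 : GaloisField 2 2), 0, x; 0, 1, 0; 0, 0, 1] = 1 := fun x => by
      simp [Matrix.det_fin_three]
    let ι : (Fin (N + 1) → GaloisField 2 2) → ↥H := fun v => ⟨fun i => ⟨!![1, 0, v i; 0, 1, 0; 0, 0, 1], hdet _⟩,
      fun i => ⟨rfl, rfl, rfl⟩, fun i a b => by fin_cases a <;> fin_cases b <;> rfl⟩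
    have hι : Function.Injective ι := fun v w h => funext fun i => by
      have := congrArg (fun f : ↥H => (f.1 i).1 0 2) h
      simpa [ι] using this
    letI := Fintype.ofFinite ↥H
    refine lt_of_lt_of_le ?_ (Fintype.card_le_of_injective ι hι)
    rw [Fintype.card_fun, hF, Fintype.card_fin]
    exact (Nat.lt_succ_self N).trans (Nat.lt_pow_self (by norm_num))
  · rw [CfsgLib.Base.Small.AltSixSpectrum.range_alt6]
    ext d
    constructor
    · rintro ⟨⟨f, hf, hf'⟩, rfl⟩
      rw [← Subgroup.orderOf_coe]
      refine CfsgLib.Base.Small.AltSixSpectrum.mem_of_pow ?_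
      have ht : ∀ i, (f i : Matrix (Fin 3) (Fin 3) (GaloisField 2 2)) 0 0 + (f i : Matrix (Fin 3) (Fin 3) (GaloisField 2 2)) 1 1
          = (f 0 : Matrix (Fin 3) (Fin 3) (GaloisField 2 2)) 0 0 + (f 0 : Matrix (Fin 3) (Fin 3) (GaloisField 2 2)) 1 1 := fun i => by
        have e1 := hf' i 0 0
        have e2 := hf' i 1 1
        simp at e1 e2
        rw [e1, e2]
      rcases CfsgLib.Base.Small.AltSixSpectrum.pow_cases hF (hf 0) with ⟨h0, -⟩ | ⟨h0, -⟩ | ⟨h0, h1, -⟩
      · refine Or.inl (funext fun i => ?_)
        rcases CfsgLib.Base.Small.AltSixSpectrum.pow_cases hF (hf i) with ⟨-, h⟩ | ⟨h', -⟩ | ⟨h', -, -⟩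
        · exact h
        · rw [ht i, h0] at h'; exact absurd h' zero_ne_one
        · exact absurd ((ht i).trans h0) h'
      · refine Or.inr (Or.inl (funext fun i => ?_))
        rcases CfsgLib.Base.Small.AltSixSpectrum.pow_cases hF (hf i) with ⟨h', -⟩ | ⟨-, h⟩ | ⟨-, h', -⟩
        · rw [ht i, h0] at h'; exact absurd h' one_ne_zero
        · exact h
        · exact absurd ((ht i).trans h0) h'
      · refine Or.inr (Or.inr (funext fun i => ?_))
        rcases CfsgLib.Base.Small.AltSixSpectrum.pow_cases hF (hf i) with ⟨h', -⟩ | ⟨h', -⟩ | ⟨-, -, h⟩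
        · exact absurd ((ht i).symm.trans h') h0
        · exact absurd ((ht i).symm.trans h') h1
        · exact h
    · intro hd
      obtain ⟨M, hM, rfl⟩ := Cfsg.Agent.S3488.witness hF d hd
      refine ⟨⟨fun _ => M, fun _ => hM, fun _ _ _ => rfl⟩, ?_⟩
      rw [← Subgroup.orderOf_coe]
      exact orderOf_injective (Pi.constMonoidHom (Fin (N + 1)) (Matrix.SpecialLinearGroup (Fin 3) (GaloisField 2 2))) (fun a b h => congrFun h 0) M

end Cfsg.Agent.S3491
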