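import Cfsg.Statements.S3494
import Mathlib.GroupTheory.GroupAction.Primitive
import Mathlib.GroupTheory.GroupAction.SubMulAction.OfFixingSubgroup
import Mathlib.Algebra.Group.Action.Pointwise.Set.Basic
import Mathlib.GroupTheory.GroupAction.Blocks
-- import your own Cfsg.Agent.* helpers here

set_option autoImplicit false
open Cfsg

namespace Cfsg.Agent.S3494

open scoped Pointwise

open MulAction in
theorem card_orbit_pair {G : Type*} [Group G] [Finite G] {Ω : Type*} [MulAction G Ω] [Finite Ω]
    [IsPretransitive G Ω] (x y : Ω) : Nat.card (orbit (stabilizer G x) y) = Nat.card (orbit (stabilizer G y) x) := by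
  have hst : ∀ a b : Ω, Nat.card (stabilizer (stabilizer G a) b) = Nat.card (stabilizer G a ⊓ stabilizer G b : Subgroup G) := by
    intro a b
    exact Nat.card_congr
      { toFun := fun g => ⟨(g : stabilizer G a), Subgroup.mem_inf.2 ⟨(g : stabilizer G a).2, g.2⟩⟩
        invFun := fun g => ⟨⟨g, (Subgroup.mem_inf.1 g.2).1⟩, (Subgroup.mem_inf.1 g.2).2⟩
        left_inv := fun g => rfl
        right_inv := fun g => rfl }
  have hcard : Nat.card (stabilizer G x) = Nat.card (stabilizer G y) := by
    obtain ⟨g, rfl⟩ := exists_smul_eq G x y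
    rw [stabilizer_smul_eq_stabilizer_map_conj]
    exact Nat.card_congr ((stabilizer G x).equivMapOfInjective _ (MulEquiv.injective _)).toEquiv
  have h1 := (stabilizer (stabilizer G x) y).index_mul_card
  have h2 := (stabilizer (stabilizer G y) x).index_mul_card
  rw [index_stabilizer, hst] at h1 h2
  rw [inf_comm, ← hcard, ← h1] at h2
  exact (mul_right_cancel₀ Nat.card_pos.ne' h2).symm

end Cfsg.Agent.S3494

namespace Cfsg.Agent.S3494

open scoped Pointwise

/-- Manning's Theorem on extremely primitive groups. Let a finite group G act faithfully and primitively on a finite set Ω with non-trivial point stabilizers, and suppose every point stabilizer G_α acts primitively on each of its orbits. Then G_α acts faithfully on each of its orbits other than {α}: an element of G_α fixing every point of one such orbit is the identity. -/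
theorem result {G : Type*} [Group G] [Finite G] {Ω : Type*} [Fintype Ω] [MulAction G Ω] [FaithfulSMul G Ω] (hprim : MulAction.IsPreprimitive G Ω) (hH : ∀ α : Ω, MulAction.stabilizer G α ≠ ⊥) (hep : ∀ (α : Ω) (ω : Ω), MulAction.IsPreprimitive (MulAction.stabilizer G α) (MulAction.orbit (MulAction.stabilizer G α) ω))
    (α ω : Ω) (hω : ω ≠ α) (h : MulAction.stabilizer G α) (hfix : ∀ x ∈ MulAction.orbit (MulAction.stabilizer G α) ω, h • x = x) : h = 1 := by
  classical
  let H := MulAction.stabilizer G α
  let Δ := MulAction.orbit H ω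
  let K : Subgroup H := (MulAction.toPermHom H Δ).ker
  have hKn : K.Normal := MonoidHom.normal_ker _
  have hK : h ∈ K := Equiv.ext fun x => Subtype.ext (hfix x x.2)
  suffices hall : ∀ y : Ω, ∀ k ∈ K, k • y = y by
    exact Subtype.ext (eq_of_smul_eq_smul (α := Ω) fun y => by
      rw [Subgroup.coe_one, one_smul]; exact hall y h hK)
  let S : Set Ω := {y | ∀ k ∈ K, k • y = y}
  have hαS : α ∈ S := fun k _ => k.2
  have hωS : ω ∈ S := fun k hk => congrArg Subtype.val (Equiv.congr_fun hk ⟨ω, MulAction.mem_orbit_self ω⟩)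
  have hSinv : ∀ g : H, ∀ y ∈ S, g • y ∈ S := by
    intro g y hy k hk
    have := hy _ (hKn.conj_mem k hk g⁻¹)
    rwa [inv_inv, mul_smul, mul_smul, inv_smul_eq_iff] at this
  by_contra hnot
  let M : Finset Ω := (Finset.univ : Finset Ω).filter (fun y => y ∉ S)
  have hM : M.Nonempty := by
    by_contra hne
    exact hnot fun y => by_contra fun hy => hne ⟨y, Finset.mem_filter.2 ⟨Finset.mem_univ _, hy⟩⟩
  obtain ⟨γ, hγM, hmax⟩ := Finset.exists_max_image M (fun y => Nat.card (MulAction.orbit H y)) hM
  have hγ : γ ∉ S := (Finset.mem_filter.1 hγM).2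
  -- the kernel is transitive on the orbit of `γ`
  have hKtr : MulAction.orbit H γ ⊆ MulAction.orbit K γ := by
    haveI := hep α γ
    haveI : MulAction.IsPretransitive K (MulAction.orbit H γ) :=
      MulAction.IsQuasiPreprimitive.isPretransitive_of_normal fun he => hγ fun k hk => by
        have := (Set.ext_iff.1 he ⟨γ, MulAction.mem_orbit_self γ⟩).2 trivial
        exact congrArg Subtype.val (this ⟨k, hk⟩)
    intro y hy
    obtain ⟨k, hk⟩ := MulAction.exists_smul_eq K (⟨γ, MulAction.mem_orbit_self γ⟩ : MulAction.orbit H γ) ⟨y, hy⟩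
    exact ⟨k, congrArg Subtype.val hk⟩
  have htr : MulAction.IsPretransitive G Ω := hprim.toIsPretransitive
  have hne : Nontrivial Ω := ⟨ω, α, hω⟩
  have hco : IsCoatom H := MulAction.IsPreprimitive.isCoatom_stabilizer_of_isPreprimitive G α
  obtain ⟨g, hg⟩ := htr.exists_smul_eq α γ
  -- every other fixed point lies in the fixed set belonging to `γ`
  have hS1 : ∀ β ∈ S, β ≠ α → g⁻¹ • β ∈ S := by
    intro β hβ hβα
    by_contra hn
    have hle := hmax _ (Finset.mem_filter.2 ⟨Finset.mem_univ _, hn⟩)
    have e1 : Nat.card (MulAction.orbit H (g⁻¹ • β)) = Nat.card (MulAction.orbit (MulAction.stabilizer G γ) β) := by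
      refine Nat.card_congr (Equiv.subtypeEquiv (MulAction.toPerm g) fun y => ?_)
      constructor
      · rintro ⟨k, rfl⟩
        refine ⟨⟨g * k * g⁻¹, ?_⟩, ?_⟩
        · show (g * (k : G) * g⁻¹) • γ = γ
          rw [← hg, mul_smul, inv_smul_smul, mul_smul, show (k : G) • α = α from k.2]
        · show (g * (k : G) * g⁻¹) • β = g • (k : G) • g⁻¹ • β
          rw [mul_smul, mul_smul]
      · rintro ⟨k, hk⟩
        refine ⟨⟨g⁻¹ * k * g, ?_⟩, ?_⟩
        · show (g⁻¹ * (k : G) * g) • α = α
          rw [mul_smul, hg, mul_smul, show (k : G) • γ = γ from k.2, inv_smul_eq_iff, hg]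
        · show (g⁻¹ * (k : G) * g) • g⁻¹ • β = y
          rw [mul_smul, smul_inv_smul, mul_smul, inv_smul_eq_iff]
          exact hk
    rw [e1, card_orbit_pair γ β] at hle
    have hsub : MulAction.orbit H γ ⊆ MulAction.orbit (MulAction.stabilizer G β) γ := by
      intro y hy
      obtain ⟨k, hk⟩ := hKtr hy
      exact ⟨⟨((k : H) : G), hβ _ k.2⟩, hk⟩
    have heq : MulAction.orbit H γ = MulAction.orbit (MulAction.stabilizer G β) γ :=
      Set.eq_of_subset_of_ncard_le hsub (by rw [← Nat.card_coe_set_eq, ← Nat.card_coe_set_eq]; exact hle)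
    let St := MulAction.stabilizer G (MulAction.orbit H γ)
    have i1 : H ≤ St := fun k hk => MulAction.smul_orbit (⟨k, hk⟩ : H) γ
    have i2 : MulAction.stabilizer G β ≤ St := fun k hk => by
      show k • MulAction.orbit H γ = MulAction.orbit H γ
      rw [heq]; exact MulAction.smul_orbit (⟨k, hk⟩ : MulAction.stabilizer G β) γ
    rcases hco.le_iff.1 i1 with e | e
    · obtain ⟨u, hu⟩ := htr.exists_smul_eq γ α
      have : α ∈ MulAction.orbit H γ := by
        have hm : u ∈ St := e ▸ Subgroup.mem_top u
        have hm' : u • MulAction.orbit H γ = MulAction.orbit H γ := hm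
        rw [← hm', ← hu]
        exact Set.smul_mem_smul_set (MulAction.mem_orbit_self γ)
      obtain ⟨k, hk⟩ := this
      have : γ = α := by
        have := congrArg ((k⁻¹ : H) • ·) hk
        simp only [inv_smul_smul] at this
        exact this.trans (k⁻¹).2
      exact hγ (this ▸ hαS)
    · have hle2 : MulAction.stabilizer G β ≤ H := e ▸ i2
      rcases (MulAction.IsPreprimitive.isCoatom_stabilizer_of_isPreprimitive G β).le_iff.1 hle2 with e' | e'
      · exact hco.1 e'
      · have hb : MulAction.stabilizer G β = H := e'.symm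
        have horb : ∀ k : H, (k : G) • β = β := fun k => (hb.symm ▸ k.2 : (k : G) ∈ MulAction.stabilizer G β)
        -- then `H` fixes two points, so it is normal, so trivial
        obtain ⟨u, hu⟩ := htr.exists_smul_eq α β
        have hun : u ∈ Subgroup.normalizer (H : Set G) := Subgroup.mem_normalizer_iff.2 fun k => by
          constructor
          · intro hk
            rw [← hb]
            show (u * k * u⁻¹) • β = β
            rw [← hu, mul_smul, inv_smul_smul, mul_smul, show k • α = α from hk]
          · intro hk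
            rw [← hb] at hk
            have hk' : (u * k * u⁻¹) • β = β := hk
            rw [← hu, mul_smul, inv_smul_smul, mul_smul] at hk'
            exact smul_left_cancel u hk'
        rcases hco.le_iff.1 (Subgroup.le_normalizer : H ≤ Subgroup.normalizer (H : Set G)) with e'' | e''
        · have hn : H.Normal := Subgroup.normalizer_eq_top_iff.1 e''
          refine hγ fun k _ => ?_
          obtain ⟨v, hv⟩ := htr.exists_smul_eq α γ
          have := hn.conj_mem k k.2 v⁻¹
          rw [inv_inv] at this
          have hthis : (v⁻¹ * (k : G) * v) • α = α := this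
          rw [mul_smul, mul_smul, inv_smul_eq_iff, hv] at hthis
          exact hthis
        · rw [e''] at hun
          exact hβα (hu.symm.trans hun)
  -- and so does `α`
  have hS2 : g⁻¹ • α ∈ S := by
    by_contra hn
    obtain ⟨k, hk, hkne⟩ : ∃ k ∈ K, k • g⁻¹ • α ≠ g⁻¹ • α := by
      by_contra hc; push Not at hc; exact hn hc
    let F := fixingSubgroup G (S \ {α})
    have hFn : H ≤ Subgroup.normalizer (F : Set G) := by
      have key : ∀ (u : H) (f : G), f ∈ F → (u : G) * f * (u : G)⁻¹ ∈ F := by
        intro u f hf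
        rw [mem_fixingSubgroup_iff] at hf ⊢
        rintro y ⟨hy, hya⟩
        have := hf ((u⁻¹ : H) • y) ⟨hSinv u⁻¹ y hy, fun e => hya (by
          have e' : (u⁻¹ : H) • y = α := e
          rw [inv_smul_eq_iff] at e'
          exact e'.trans u.2)⟩
        have h' : f • (u : G)⁻¹ • y = (u : G)⁻¹ • y := this
        rw [mul_smul, mul_smul, h', smul_inv_smul]
      intro u hu
      refine Subgroup.mem_normalizer_iff.2 fun f => ⟨key ⟨u, hu⟩ f, fun hf => ?_⟩
      have := key (⟨u, hu⟩ : H)⁻¹ _ hf
      simpa [mul_assoc] using this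
    have hfF : g * (k : G) * g⁻¹ ∈ F := by
      rw [mem_fixingSubgroup_iff]
      rintro y ⟨hy, hya⟩
      rw [mul_smul, mul_smul, show (k : G) • g⁻¹ • y = g⁻¹ • y from hS1 y hy hya k hk, smul_inv_smul]
    rcases hco.le_iff.1 hFn with e | e
    · have hFnormal : F.Normal := Subgroup.normalizer_eq_top_iff.1 e
      have : ∀ y : Ω, (g * (k : G) * g⁻¹) • y = y := by
        intro y
        obtain ⟨v, rfl⟩ := htr.exists_smul_eq ω y
        have h' := (mem_fixingSubgroup_iff G).1 (hFnormal.conj_mem _ hfF v⁻¹) ω ⟨hωS, hω⟩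
        rwa [inv_inv, mul_smul, mul_smul, inv_smul_eq_iff] at h'
      have := this α
      rw [mul_smul, mul_smul, smul_eq_iff_eq_inv_smul] at this
      exact hkne this
    · have hFle : F ≤ H := e ▸ Subgroup.le_normalizer
      have h' : (g * (k : G) * g⁻¹) • α = α := hFle hfF
      rw [mul_smul, mul_smul, smul_eq_iff_eq_inv_smul] at h'
      exact hkne h'
  have hsub : (g⁻¹ • ·) '' S ⊆ S := by
    rintro - ⟨y, hy, rfl⟩
    by_cases hya : y = α
    · exact hya ▸ hS2
    · exact hS1 y hy hya
  have hSeq : (g⁻¹ • ·) '' S = S :=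
    Set.eq_of_subset_of_ncard_le hsub (le_of_eq (Set.ncard_image_of_injective _ (MulAction.injective g⁻¹)).symm)
  rw [← hSeq] at hαS
  obtain ⟨y, hy, e⟩ := hαS
  rw [inv_smul_eq_iff, hg] at e
  exact hγ (e ▸ hy)

end Cfsg.Agent.S3494
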