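import Cfsg.Statements.S3495
import Mathlib.GroupTheory.GroupAction.Primitive
import Mathlib.Tactic.Group
-- import your own Cfsg.Agent.* helpers here

set_option autoImplicit false
open Cfsg

namespace Cfsg.Agent.S3495

/-- Let a finite group G act faithfully and primitively on a finite set Ω with non-trivial point stabilizers, each acting primitively on every one of its orbits (an extremely primitive group), and suppose G has an elementary abelian normal p-subgroup N acting regularly on Ω (affine type). Then every non-trivial subgroup M of a point stabilizer G_α that is normal in G_α has the same orbits on Ω as G_α, and normalizes no subgroup of N other than 1 and N. -/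
theorem result {G : Type*} [Group G] [Finite G] {Ω : Type*} [Fintype Ω] [MulAction G Ω] [FaithfulSMul G Ω] (hprim : MulAction.IsPreprimitive G Ω) (hH : ∀ α : Ω, MulAction.stabilizer G α ≠ ⊥) (hep : ∀ (α : Ω) (ω : Ω), MulAction.IsPreprimitive (MulAction.stabilizer G α) (MulAction.orbit (MulAction.stabilizer G α) ω))
    (N : Subgroup G) [N.Normal] (hNc : IsMulCommutative N) (p : ℕ) (hp : p.Prime) (hNp : ∀ n ∈ N, n ^ p = 1)
    (hNtr : MulAction.IsPretransitive N Ω) (hNreg : ∀ ω : Ω, MulAction.stabilizer N ω = ⊥) (α : Ω) (M : Subgroup G) (hM : M ≠ ⊥) (hMle : M ≤ MulAction.stabilizer G α)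
    (hMn : MulAction.stabilizer G α ≤ Subgroup.normalizer (M : Set G)) :
    (∀ ω : Ω, MulAction.orbit M ω = MulAction.orbit (MulAction.stabilizer G α) ω) ∧
    (∀ L : Subgroup G, L ≤ N → M ≤ Subgroup.normalizer (L : Set G) → L = ⊥ ∨ L = N) := by
  classical
  set H := MulAction.stabilizer G α with hHdef
  have hsurj : ∀ ω : Ω, ∃ n ∈ N, n • α = ω := fun ω => by
    obtain ⟨⟨n, hn⟩, e⟩ := hNtr.exists_smul_eq α ω
    exact ⟨n, hn, e⟩
  have huniq : ∀ x ∈ N, ∀ y ∈ N, x • α = y • α → x = y := by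
    intro x hx y hy e
    have : (⟨y⁻¹ * x, N.mul_mem (N.inv_mem hy) hx⟩ : N) ∈ MulAction.stabilizer N α := by
      rw [MulAction.mem_stabilizer_iff]
      show (y⁻¹ * x) • α = α
      rw [mul_smul, e, inv_smul_smul]
    rw [hNreg, Subgroup.mem_bot] at this
    exact (inv_mul_eq_one.1 (congrArg Subtype.val this)).symm
  have hconj : ∀ h ∈ H, ∀ n ∈ N, h • (n • α) = (h * n * h⁻¹) • α := by
    intro h hh n hn
    rw [mul_smul, mul_smul, show h⁻¹ • α = α from MulAction.mem_stabilizer_iff.1 (H.inv_mem hh)]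
  -- an `H`-invariant subgroup of `N` is trivial or everything
  have irr : ∀ L : Subgroup G, L ≤ N → (∀ h ∈ H, ∀ l ∈ L, h * l * h⁻¹ ∈ L) → L = ⊥ ∨ L = N := by
    intro L hL hinv
    haveI := hprim
    rcases subsingleton_or_nontrivial Ω with hs | hs
    · left
      rw [eq_bot_iff]
      intro l hl
      exact Subgroup.mem_bot.2 (huniq l (hL hl) 1 N.one_mem (Subsingleton.elim _ _))
    have hco := hprim.isCoatom_stabilizer_of_isPreprimitive (a := α)
    let K : Subgroup G :=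
      { carrier := {g | ∃ l ∈ L, ∃ h ∈ H, g = l * h}
        one_mem' := ⟨1, L.one_mem, 1, H.one_mem, (one_mul 1).symm⟩
        mul_mem' := fun {a b} ⟨l, hl, h, hh, ea⟩ ⟨l', hl', h', hh', eb⟩ =>
          ⟨l * (h * l' * h⁻¹), L.mul_mem hl (hinv h hh l' hl'), h * h', H.mul_mem hh hh', by rw [ea, eb]; group⟩
        inv_mem' := fun {a} ⟨l, hl, h, hh, ea⟩ =>
          ⟨h⁻¹ * l⁻¹ * h⁻¹⁻¹, hinv h⁻¹ (H.inv_mem hh) _ (L.inv_mem hl), h⁻¹, H.inv_mem hh, by rw [ea]; group⟩ }
    have hHK : H ≤ K := fun h hh => ⟨1, L.one_mem, h, hh, (one_mul h).symm⟩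
    rcases eq_or_lt_of_le hHK with e | e
    · left
      rw [eq_bot_iff]
      intro l hl
      have : l ∈ H := by rw [e]; exact ⟨l, hl, 1, H.one_mem, (mul_one l).symm⟩
      exact Subgroup.mem_bot.2 (huniq l (hL hl) 1 N.one_mem (by rw [MulAction.mem_stabilizer_iff.1 this, one_smul]))
    · right
      refine le_antisymm hL fun n hn => ?_
      obtain ⟨l, hl, h, hh, e'⟩ : n ∈ K := by rw [hco.2 K e]; trivial
      rw [huniq n hn l (hL hl) (by rw [e', mul_smul, MulAction.mem_stabilizer_iff.1 hh])]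
      exact hl
  -- `M` fixes only `α`
  have hfix : ∀ n ∈ N, (∀ m ∈ M, m • (n • α) = n • α) → n = 1 := by
    intro n hn hfx
    rcases irr (N ⊓ Subgroup.centralizer (M : Set G)) inf_le_left (fun h hh x hx =>
      ⟨(inferInstance : N.Normal).conj_mem x hx.1 h, Subgroup.mem_centralizer_iff.2 fun m hm => by
        have h' := Subgroup.mem_centralizer_iff.1 hx.2 (h⁻¹ * m * h) (by
          have h2 := (Subgroup.mem_normalizer_iff''.1 (hMn hh) m).1 hm
          simpa using h2)
        calc m * (h * x * h⁻¹) = h * ((h⁻¹ * m * h) * x) * h⁻¹ := by group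
          _ = h * (x * (h⁻¹ * m * h)) * h⁻¹ := by rw [h']
          _ = _ := by group⟩) with e | e
    · have : n ∈ N ⊓ Subgroup.centralizer (M : Set G) := ⟨hn, Subgroup.mem_centralizer_iff.2 fun m hm =>
        mul_inv_eq_iff_eq_mul.1 (huniq _ ((inferInstance : N.Normal).conj_mem n hn m) n hn (by rw [← hconj m (hMle hm) n hn, hfx m hm]))⟩
      rw [e, Subgroup.mem_bot] at this
      exact this
    · exfalso
      apply hM
      rw [eq_bot_iff]
      intro m hm
      refine Subgroup.mem_bot.2 (FaithfulSMul.eq_of_smul_eq_smul (α := Ω) fun ω => ?_)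
      obtain ⟨x, hx, rfl⟩ := hsurj ω
      have hc := Subgroup.mem_centralizer_iff.1 ((e.symm ▸ hx : x ∈ N ⊓ Subgroup.centralizer (M : Set G))).2 m hm
      rw [one_smul, ← mul_smul, hc, mul_smul, MulAction.mem_stabilizer_iff.1 (hMle hm)]
  have hd : ∀ ω : Ω, MulAction.orbit M ω = MulAction.orbit H ω := by
    intro ω
    refine Set.Subset.antisymm (fun z ⟨m, hm⟩ => ⟨⟨m, hMle m.2⟩, hm⟩) ?_
    rintro _ ⟨k, rfl⟩
    -- the `M`-orbit is a block
    let O := MulAction.orbit H ω
    haveI := hep α ω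
    let B : Set O := {y | (y : Ω) ∈ MulAction.orbit M ω}
    have hB : MulAction.IsBlock H B := by
      rw [MulAction.isBlock_iff_smul_eq_of_nonempty]
      rintro g ⟨y, hy1, hy2⟩
      obtain ⟨z, hz, rfl⟩ := hy1
      have key : ∀ (m : M) (w : Ω), ∃ m' : M, (g : G) • ((m : G) • w) = (m' : G) • ((g : G) • w) :=
        fun m w => ⟨⟨g * m * (g : G)⁻¹, (Subgroup.mem_normalizer_iff.1 (hMn g.2) m).1 m.2⟩, by simp only [mul_smul, inv_smul_smul]⟩
      obtain ⟨mz, hmz⟩ := hz
      obtain ⟨my, hmy⟩ := hy2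
      -- `g • ω` lies in the orbit of `ω`
      obtain ⟨m', hm'⟩ := key mz ω
      have hgω : (g : G) • ω ∈ MulAction.orbit M ω := by
        refine ⟨m'⁻¹ * my, ?_⟩
        show ((m' : G)⁻¹ * (my : G)) • ω = _
        rw [mul_smul, show (my : G) • ω = ((g • z : O) : Ω) from hmy, show ((g • z : O) : Ω) = (g : G) • (z : Ω) from rfl,
          ← show (mz : G) • ω = (z : Ω) from hmz, hm', inv_smul_smul]
      obtain ⟨m0, hm0⟩ := hgω
      have hginv : (g : G)⁻¹ • ω ∈ MulAction.orbit M ω := by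
        obtain ⟨m1, hm1⟩ : ∃ m1 : M, (g : G)⁻¹ • ((m0⁻¹ : M) : G) • ((g : G) • ω) = (m1 : G) • ω :=
          ⟨⟨(g : G)⁻¹ * ((m0⁻¹ : M) : G) * g, (Subgroup.mem_normalizer_iff''.1 (hMn g.2) _).1 (m0⁻¹ : M).2⟩, by simp only [mul_smul]⟩
        refine ⟨m1, hm1.symm.trans ?_⟩
        rw [← show (m0 : G) • ω = (g : G) • ω from hm0, Subgroup.coe_inv, inv_smul_smul]
      obtain ⟨m2, hm2⟩ := hginv
      ext w
      constructor
      · rintro ⟨v, ⟨mv, hmv⟩, rfl⟩
        obtain ⟨m3, hm3⟩ := key mv ω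
        refine ⟨m3 * m0, ?_⟩
        show ((m3 : G) * (m0 : G)) • ω = (g : G) • (v : Ω)
        rw [mul_smul, show (m0 : G) • ω = (g : G) • ω from hm0, ← show (mv : G) • ω = (v : Ω) from hmv, hm3]
      · rintro ⟨mw, hmw⟩
        refine ⟨g⁻¹ • w, ⟨⟨(g : G)⁻¹ * mw * g, (Subgroup.mem_normalizer_iff''.1 (hMn g.2) _).1 mw.2⟩ * m2, ?_⟩, smul_inv_smul g w⟩
        show ((g : G)⁻¹ * mw * g * (m2 : G)) • ω = ((g⁻¹ : H) : G) • (w : Ω)
        rw [mul_smul, show (m2 : G) • ω = (g : G)⁻¹ • ω from hm2, mul_smul, mul_smul, smul_inv_smul,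
          show (mw : G) • ω = (w : Ω) from hmw, Subgroup.coe_inv]
    rcases MulAction.IsPreprimitive.isTrivialBlock_of_isBlock hB with h | h
    · obtain ⟨n, hn, rfl⟩ := hsurj ω
      have h1 := hfix n hn fun m hm => by
        let y : O := ⟨m • (n • α), ⟨⟨m, hMle hm⟩, rfl⟩⟩
        let y0 : O := ⟨n • α, MulAction.mem_orbit_self _⟩
        have e : y = y0 := h (x := y) ⟨⟨m, hm⟩, rfl⟩ (y := y0) (MulAction.mem_orbit_self (n • α))
        exact congrArg Subtype.val e
      subst h1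
      refine ⟨1, ?_⟩
      show (1 : M) • ((1 : G) • α) = (k : G) • ((1 : G) • α)
      rw [one_smul, one_smul, MulAction.mem_stabilizer_iff.1 k.2]
    · have : (⟨(k : G) • ω, ⟨k, rfl⟩⟩ : O) ∈ B := by rw [h]; trivial
      exact this
  refine ⟨hd, fun L hL hML => irr L hL fun h hh l hl => ?_⟩
  obtain ⟨m, hm⟩ : (h * l * h⁻¹) • α ∈ MulAction.orbit M (l • α) := by
    rw [hd]; exact ⟨⟨h, hh⟩, hconj h hh l (hL hl)⟩
  rw [huniq _ ((inferInstance : N.Normal).conj_mem l (hL hl) h) _ ((inferInstance : N.Normal).conj_mem l (hL hl) m)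
    (by rw [← hconj m (hMle m.2) l (hL hl)]; exact hm.symm)]
  exact (Subgroup.mem_normalizer_iff.1 (hML m.2) l).1 hl

end Cfsg.Agent.S3495
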