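import Cfsg.Statements.S3498
import Cfsg.Agent.Solv.FrobeniusNilp
import Mathlib.GroupTheory.Transfer
import Mathlib.GroupTheory.Solvable
-- import your own Cfsg.Agent.* helpers here

set_option autoImplicit false
open Cfsg

namespace Cfsg.Agent.S3498

/-- A maximal subgroup of a finite almost simple group does not have prime order. Here G is almost simple in the sense that it has a non-abelian simple normal subgroup T with trivial centralizer. -/
theorem result {G : Type*} [Group G] [Finite G] (T : Subgroup G) [T.Normal] (hT : IsSimpleGroup T) (hTc : ¬ IsMulCommutative T)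
    (hC : Subgroup.centralizer (T : Set G) = ⊥) (H : Subgroup G) (hmax : IsCoatom H) : ¬ (Nat.card H).Prime := by
  intro hq
  set q := Nat.card H with hqdef
  haveI := Fact.mk hq
  haveI := hT
  have hTne : (T : Subgroup G) ≠ ⊥ := fun e => hTc ⟨⟨fun a b => Subtype.ext (by
    have ha : (a : G) = 1 := Subgroup.mem_bot.1 (e ▸ a.2)
    have hb : (b : G) = 1 := Subgroup.mem_bot.1 (e ▸ b.2)
    rw [Subgroup.coe_mul, Subgroup.coe_mul, ha, hb])⟩⟩
  by_cases hHT : H ⊓ T = ⊥
  · -- a generator of `H` is fixed-point-free on `T`
    obtain ⟨h, hh⟩ := exists_prime_orderOf_dvd_card' q (dvd_refl (Nat.card H))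
    have hz : Subgroup.zpowers (h : G) = H := by
      refine Subgroup.eq_of_le_of_card_ge (Subgroup.zpowers_le.2 h.2) ?_
      rw [Nat.card_zpowers, Subgroup.orderOf_coe, hh]
    set D := T ⊓ Subgroup.centralizer ({(h : G)} : Set G) with hD
    have hHn : H ≤ Subgroup.normalizer (D : Set G) := by
      rw [← hz, Subgroup.zpowers_le]
      refine Subgroup.mem_normalizer_iff.2 fun x => ?_
      constructor
      · intro hx
        have hc := Subgroup.mem_centralizer_iff.1 (Subgroup.mem_inf.1 hx).2 (h : G) rfl
        rwa [hc, mul_inv_cancel_right]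
      · intro hx
        have hc := Subgroup.mem_centralizer_iff.1 (Subgroup.mem_inf.1 hx).2 (h : G) rfl
        have e : (h : G) * x * (h : G)⁻¹ = x := by
          have h' := congrArg (fun z => (h : G)⁻¹ * z) hc
          simp only [mul_assoc, inv_mul_cancel_left, inv_mul_cancel, mul_one] at h'
          rw [mul_assoc]; exact h'
        rwa [e] at hx
    have hDbot : D = ⊥ := by
      rcases hmax.le_iff.1 (le_sup_left : H ≤ H ⊔ D) with e | e
      · exfalso
        have hTD : T ≤ D := by
          intro t ht
          have hmem : t ∈ ((H ⊔ D : Subgroup G) : Set G) := by rw [e]; trivial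
          rw [Subgroup.coe_mul_of_left_le_normalizer_right _ _ hHn] at hmem
          obtain ⟨a, ha, d, hd, rfl⟩ := hmem
          have : a ∈ H ⊓ T := ⟨ha, by simpa using T.mul_mem ht (T.inv_mem hd.1)⟩
          rw [hHT, Subgroup.mem_bot] at this
          show a * d ∈ D
          rw [this, one_mul]; exact hd
        have : (h : G) ∈ Subgroup.centralizer (T : Set G) := Subgroup.mem_centralizer_iff.2 fun t ht =>
          (Subgroup.mem_centralizer_iff.1 (hTD ht).2 (h : G) rfl).symm
        rw [hC, Subgroup.mem_bot] at this
        rw [← Subgroup.orderOf_coe, this, orderOf_one] at hh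
        exact hq.ne_one hh.symm
      · refine (Subgroup.eq_bot_iff_forall _).2 fun x hx => ?_
        have : x ∈ H ⊓ T := ⟨e ▸ Subgroup.mem_sup_right hx, hx.1⟩
        rwa [hHT, Subgroup.mem_bot] at this
    haveI : Group.IsNilpotent T := CfsgLib.Solv.isNilpotent_of_fpf_element (p := q)
      (by rw [← hh, ← Subgroup.coe_pow, pow_orderOf_eq_one, Subgroup.coe_one]) hDbot
    exact hTc ⟨⟨fun a b => IsSimpleGroup.comm_iff_isSolvable.2 inferInstance a b⟩⟩
  · -- otherwise `G = T` is simple and `H` is a self-centralising Sylow subgroup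
    have hHle : H ≤ T := by
      have hd : Nat.card ↥(H ⊓ T) ∣ q := Subgroup.card_dvd_of_le inf_le_left
      rcases (Nat.dvd_prime hq).1 hd with e | e
      · exact absurd (Subgroup.card_eq_one.1 e) hHT
      · exact inf_eq_left.1 (Subgroup.eq_of_le_of_card_ge inf_le_left (by rw [e]))
    have hTtop : T = ⊤ := by
      rcases hmax.le_iff.1 hHle with e | e
      · exact e
      · exfalso
        haveI : IsCyclic T := isCyclic_of_prime_card (p := q) (by rw [e])
        exact hTc ⟨⟨fun a b => (IsCyclic.commGroup (α := T)).mul_comm a b⟩⟩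
    haveI : Nontrivial G := (Subtype.val_injective : Function.Injective ((↑) : T → G)).nontrivial
    haveI hGs : IsSimpleGroup G := by
      subst hTtop
      exact IsSimpleGroup.isSimpleGroup_of_surjective (Subgroup.topEquiv : (⊤ : Subgroup G) ≃* G).toMonoidHom
        Subgroup.topEquiv.surjective
    have hHne : H ≠ ⊥ := fun e => hq.ne_one (hqdef.trans (e ▸ Subgroup.card_bot))
    have hN : Subgroup.normalizer (H : Set G) = H := by
      rcases hmax.le_iff.1 (Subgroup.le_normalizer : H ≤ Subgroup.normalizer (H : Set G)) with e | e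
      · rcases (Subgroup.normalizer_eq_top_iff.1 e).eq_bot_or_eq_top with e' | e'
        · exact absurd e' hHne
        · exact absurd e' hmax.1
      · exact e
    obtain ⟨P, hHP⟩ := (IsPGroup.of_card (p := q) (n := 1) (by rw [pow_one]) : IsPGroup q H).exists_le_sylow
    have hPH : (P : Subgroup G) = H := by
      by_contra hne
      have hlt : H.subgroupOf (P : Subgroup G) < ⊤ := lt_top_iff_ne_top.2 fun e => hne (le_antisymm (Subgroup.subgroupOf_eq_top.1 e) hHP)
      haveI : Group.IsNilpotent (P : Subgroup G) := P.isPGroup'.isNilpotent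
      have hgt := Group.normalizerCondition_of_isNilpotent _ hlt
      rw [← Subgroup.subgroupOf_normalizer_eq hHP, hN] at hgt
      exact lt_irrefl _ hgt
    haveI : IsCyclic (P : Subgroup G) := isCyclic_of_prime_card (p := q) (by rw [hPH])
    have hP : Subgroup.normalizer ((P : Subgroup G) : Set G) ≤ Subgroup.centralizer ((P : Subgroup G) : Set G) := by
      rw [hPH, hN]
      intro x hx
      refine Subgroup.mem_centralizer_iff.2 fun y hy => ?_
      have hxP : x ∈ (P : Subgroup G) := by rw [hPH]; exact hx
      have hyP : y ∈ (P : Subgroup G) := by rw [hPH]; exact hy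
      exact congrArg Subtype.val ((IsCyclic.commGroup (α := (P : Subgroup G))).mul_comm ⟨y, hyP⟩ ⟨x, hxP⟩)
    have hc := MonoidHom.ker_transferSylow_isComplement' P hP
    rcases (MonoidHom.normal_ker (MonoidHom.transferSylow P hP)).eq_bot_or_eq_top with e | e
    · rw [e] at hc
      have hP2 := Subgroup.isComplement'_bot_left.1 hc
      exact hmax.1 (hPH ▸ hP2)
    · rw [e] at hc
      have hP2 := Subgroup.isComplement'_top_left.1 hc
      exact hHne (hPH ▸ hP2)

end Cfsg.Agent.S3498
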