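import Cfsg.Statements.S3504
import Mathlib.GroupTheory.Perm.Cycle.Type
import Mathlib.Data.Nat.Factorization.PrimePow
import Mathlib.Data.ZMod.Basic
-- import your own Cfsg.Agent.* helpers here

set_option autoImplicit false
open Cfsg

namespace Cfsg.Agent.S3504

theorem class_data {n : ℕ} (g : Equiv.Perm (Fin n)) (hg : (orderOf g).Prime) (hf : ∀ i, g i ≠ i) :
    ∃ k, g.cycleType = Multiset.replicate k (orderOf g) ∧ k * orderOf g = n := by
  obtain ⟨k, hk⟩ := Equiv.Perm.cycleType_prime_order hg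
  refine ⟨k + 1, hk, ?_⟩
  have hs : g.support = Finset.univ := Finset.eq_univ_of_forall fun i => Equiv.Perm.mem_support.2 (hf i)
  have h := g.sum_cycleType
  rw [hk, hs, Multiset.sum_replicate, Finset.card_univ, Fintype.card_fin, smul_eq_mul] at h
  exact h

theorem conj_of_eq {n : ℕ} {g h : Equiv.Perm (Fin n)} (hg : (orderOf g).Prime) (hgf : ∀ i, g i ≠ i)
    (hh : (orderOf h).Prime) (hhf : ∀ i, h i ≠ i) (e : orderOf g = orderOf h) : IsConj g h := by
  obtain ⟨k, hk, hkn⟩ := class_data g hg hgf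
  obtain ⟨l, hl, hln⟩ := class_data h hh hhf
  rw [Equiv.Perm.isConj_iff_cycleType_eq, hk, hl, ← e]
  rw [← e] at hln
  rw [Nat.eq_of_mul_eq_mul_right hg.pos (hkn.trans hln.symm)]

theorem exists_perm {n p : ℕ} (hp : p.Prime) (hd : p ∣ n) (hpos : 0 < n) :
    ∃ g : Equiv.Perm (Fin n), orderOf g = p ∧ ∀ i, g i ≠ i := by
    obtain ⟨k, rfl⟩ := hd
    haveI := Fact.mk hp
    have hk : 0 < k := Nat.pos_of_mul_pos_left hpos
    let e : ZMod p × Fin k ≃ Fin (p * k) := Fintype.equivOfCardEq (by simp [ZMod.card])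
    let s : Equiv.Perm (Fin (p * k)) := e.permCongrHom ((Equiv.addRight (1 : ZMod p)).prodCongr (Equiv.refl (Fin k)))
    have hfix : ∀ i, s i ≠ i := by
      intro i h
      have := congrArg (fun x => (e.symm x).1) h
      simp [s, Equiv.permCongrHom, Equiv.permCongr_apply] at this
    refine ⟨s, orderOf_eq_prime ?_ (fun h => hfix ⟨0, hpos⟩ (by rw [h]; rfl)), hfix⟩
    rw [← map_pow]
    refine (congrArg _ ?_).trans (map_one _)
    have : ∀ (j : ℕ) (x : ZMod p × Fin k), (((Equiv.addRight (1 : ZMod p)).prodCongr (Equiv.refl (Fin k))) ^ j) x = (x.1 + (j : ZMod p), x.2) := by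
      intro j
      induction j with
      | zero => simp
      | succ j ih => intro x; rw [pow_succ', Equiv.Perm.mul_apply, ih]; simp [add_assoc]
    ext1 x
    rw [this]; simp

end Cfsg.Agent.S3504

namespace Cfsg.Agent.S3504

/-- For n ≥ 5, the fixed-point-free permutations of prime order in the symmetric group of degree n form a single conjugacy class if and only if n is a prime power. -/
theorem result (n : ℕ) (hn : 5 ≤ n) :
    Nat.card {c : ConjClasses (Equiv.Perm (Fin n)) // ∃ g : Equiv.Perm (Fin n), ConjClasses.mk g = c ∧ (orderOf g).Prime ∧ ∀ i : Fin n, g i ≠ i} = 1 ↔ IsPrimePow n := by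
  rw [isPrimePow_iff_unique_prime_dvd, Nat.card_eq_one_iff_exists]
  constructor
  · rintro ⟨⟨c, g, hgc, hg, hgf⟩, huniq⟩
    obtain ⟨k, hk, hkn⟩ := class_data g hg hgf
    refine ⟨orderOf g, ⟨hg, Dvd.intro_left k hkn⟩, fun q hq => ?_⟩
    obtain ⟨h, ho, hf⟩ := exists_perm hq.1 hq.2 (by omega)
    have e := huniq ⟨ConjClasses.mk h, h, rfl, ho.symm ▸ hq.1, hf⟩
    have : IsConj h g := ConjClasses.mk_eq_mk_iff_isConj.1 ((congrArg Subtype.val e).trans hgc.symm)
    obtain ⟨a, ha⟩ := isConj_iff.1 this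
    rw [← ho, ← ha]
    exact ((MulAut.conj a).orderOf_eq h).symm
  · rintro ⟨p, ⟨hp, hpn⟩, huniq⟩
    obtain ⟨g, hg, hgf⟩ := exists_perm hp hpn (by omega)
    refine ⟨⟨ConjClasses.mk g, g, rfl, hg.symm ▸ hp, hgf⟩, ?_⟩
    rintro ⟨c, h, rfl, hh, hhf⟩
    obtain ⟨k, hk, hkn⟩ := class_data h hh hhf
    refine Subtype.ext (ConjClasses.mk_eq_mk_iff_isConj.2 (conj_of_eq hh hhf (hg.symm ▸ hp) (hgf) ?_))
    rw [hg]; exact huniq _ ⟨hh, Dvd.intro_left k hkn⟩

end Cfsg.Agent.S3504
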