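import Cfsg.Statements.S3508
import Mathlib.Algebra.Module.ZMod
import Mathlib.Algebra.CharP.Lemmas
import Mathlib.FieldTheory.Finiteness
import Mathlib.LinearAlgebra.Eigenspace.Basic
import Mathlib.Algebra.Polynomial.AlgebraMap
import Mathlib.Algebra.Ring.GeomSum
import Mathlib.Algebra.Field.ZMod
import Mathlib.RingTheory.Finiteness.Cardinality
import Mathlib.Algebra.Polynomial.Degree.Lemmas
import Mathlib.LinearAlgebra.FiniteDimensional.Basic
import Mathlib.Tactic.Group
import Mathlib.Algebra.Module.LinearMap.End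
-- import your own Cfsg.Agent.* helpers here

set_option autoImplicit false
open Cfsg

namespace Cfsg.Agent.S3508

theorem geom_eq (p : ℕ) [Fact p.Prime] (s : ℕ) :
    ∑ i ∈ Finset.range (p ^ s), (Polynomial.X : Polynomial (ZMod p)) ^ i = (Polynomial.X - 1) ^ (p ^ s - 1) := by
  have h0 : (Polynomial.X - 1 : Polynomial (ZMod p)) ≠ 0 := by
    simpa using Polynomial.X_sub_C_ne_zero (1 : ZMod p)
  refine mul_right_cancel₀ h0 ?_
  rw [geom_sum_mul, ← pow_succ, Nat.sub_add_cancel (Nat.one_le_pow _ _ (Fact.out : p.Prime).pos),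
    sub_pow_char_pow, one_pow]

theorem bound {G : Type*} [Group G] [Finite G] {Ω : Type*} [Fintype Ω] [MulAction G Ω] [FaithfulSMul G Ω]
    (p m : ℕ) (hp : p.Prime) (hcard : Fintype.card Ω = p ^ m) (N : Subgroup G) [N.Normal] (hNc : IsMulCommutative N)
    (hNp : ∀ n ∈ N, n ^ p = 1) (hNtr : MulAction.IsPretransitive N Ω)
    (hNreg : ∀ ω : Ω, MulAction.stabilizer N ω = ⊥) (g : G) (r : ℕ) (hr : 1 ≤ r) (hg : orderOf g = p ^ r) :
    p ^ (r - 1) ≤ m := by
  classical
  by_contra hlt
  push Not at hlt
  haveI := Fact.mk hp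
  letI : CommGroup N := { (inferInstance : Group N) with mul_comm := hNc.is_comm.comm }
  obtain ⟨hmod⟩ : Nonempty (Module (ZMod p) (Additive N)) := ⟨AddCommGroup.zmodModule fun x => by
    apply Additive.toMul.injective
    rw [toMul_nsmul, toMul_zero]
    exact Subtype.ext (hNp _ (Additive.toMul x).2)⟩
  have hm1 : 1 ≤ Fintype.card Ω := hcard ▸ Nat.one_le_pow _ _ hp.pos
  obtain ⟨α⟩ : Nonempty Ω := Fintype.card_pos_iff.1 hm1
  have hbij : Function.Bijective fun n : N => n • α := by
    refine ⟨fun a b e => ?_, fun ω => MulAction.exists_smul_eq N α ω⟩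
    have : b⁻¹ * a ∈ MulAction.stabilizer N α := by
      rw [MulAction.mem_stabilizer_iff, mul_smul, show a • α = b • α from e, inv_smul_smul]
    rw [hNreg, Subgroup.mem_bot, inv_mul_eq_one] at this
    exact this.symm
  haveI : Module.Finite (ZMod p) (Additive N) := Module.Finite.of_finite
  have hdim : Module.finrank (ZMod p) (Additive N) = m := by
    have h := Module.natCard_eq_pow_finrank (K := ZMod p) (V := Additive N)
    rw [Nat.card_zmod, show Nat.card (Additive N) = Nat.card N from rfl, Nat.card_eq_of_bijective _ hbij,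
      Nat.card_eq_fintype_card, hcard] at h
    exact (Nat.pow_right_injective hp.two_le h).symm
  obtain ⟨n, hn⟩ := hbij.2 (g • α)
  set h : G := (n : G)⁻¹ * g with hh
  have hgnh : g = n * h := by rw [hh, mul_inv_cancel_left]
  have hα : h • α = α := by
    rw [hh, mul_smul, ← hn]; exact inv_smul_smul (n : G) α
  let U : Module.End (ZMod p) (Additive N) :=
    AddMonoidHom.toZModLinearMap p (MonoidHom.toAdditive ((MulAut.conjNormal h : MulAut N).toMonoidHom))
  have hU : ∀ (j : ℕ) (x : Additive N), ((Additive.toMul ((U ^ j) x) : N) : G) = h ^ j * (Additive.toMul x : N) * (h ^ j)⁻¹ := by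
    intro j
    induction j with
    | zero => intro x; simp
    | succ j ih =>
      intro x
      rw [pow_succ', Module.End.mul_apply]
      show ((MulAut.conjNormal h (Additive.toMul ((U ^ j) x)) : N) : G) = _
      rw [MulAut.conjNormal_apply, ih]
      group
  have hgh : ∀ x : N, g * x * g⁻¹ = h * x * h⁻¹ := by
    intro x
    have e := (Subgroup.mem_center_iff.1 (by rw [Subgroup.center_eq_top_iff.2 hNc]; trivial : n ∈ Subgroup.center N))
      (MulAut.conjNormal h x)
    have e' := congrArg Subtype.val e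
    simp only [Subgroup.coe_mul, MulAut.conjNormal_apply] at e'
    rw [hgnh]
    calc (n : G) * h * x * (n * h)⁻¹ = n * (h * x * h⁻¹) * (n : G)⁻¹ := by group
      _ = _ := by rw [← e']; group
  have hgh' : ∀ (j : ℕ) (x : N), g ^ j * x * (g ^ j)⁻¹ = h ^ j * x * (h ^ j)⁻¹ := by
    intro j
    induction j with
    | zero => simp
    | succ j ih =>
      intro x
      rw [pow_succ' g, pow_succ' h]
      calc g * g ^ j * x * (g * g ^ j)⁻¹ = g * (MulAut.conjNormal (g ^ j) x : N) * g⁻¹ := by
            rw [MulAut.conjNormal_apply]; group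
        _ = h * (MulAut.conjNormal (g ^ j) x : N) * h⁻¹ := hgh _
        _ = _ := by rw [MulAut.conjNormal_apply, ih]; group
  have hnil : (U - 1) ^ (p ^ r) = 0 := by
    have hUQ : U ^ (p ^ r) = 1 := LinearMap.ext fun x => Additive.toMul.injective (Subtype.ext (by
      rw [hU, ← hgh', ← hg, pow_orderOf_eq_one]; simp))
    have e := congrArg (Polynomial.aeval U) (sub_pow_char_pow (p := p) (n := r) (Polynomial.X : Polynomial (ZMod p)) 1)
    simpa [hUQ] using e
  have hm : (U - 1) ^ m = 0 := by
    rw [← LinearMap.ker_eq_top, eq_top_iff, ← hdim, ← (LinearMap.ker_eq_top (f := (U - 1) ^ (p ^ r))).2 hnil]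
    exact Module.End.ker_pow_le_ker_pow_finrank _ _
  set P := p ^ (r - 1) with hP
  have hz : (U - 1) ^ (P - 1) = 0 := pow_eq_zero_of_le (by omega) hm
  have hgeom : ∑ i ∈ Finset.range P, U ^ i = 0 := by
    have e := congrArg (Polynomial.aeval U) (geom_eq p (r - 1))
    simp only [map_sum, map_pow, map_sub, Polynomial.aeval_X, map_one, ← hP] at e
    rw [e, hz]
  have hUP : U ^ P = 1 := by
    have e := geom_sum_mul U P
    rwa [hgeom, zero_mul, eq_comm, sub_eq_zero] at e
  have key : ∀ j, g ^ j = ((Additive.toMul ((∑ i ∈ Finset.range j, U ^ i) (Additive.ofMul n)) : N) : G) * h ^ j := by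
    intro j
    induction j with
    | zero => simp
    | succ j ih =>
      rw [pow_succ, ih, Finset.sum_range_succ, LinearMap.add_apply, toMul_add, Subgroup.coe_mul, hU, hgnh, toMul_ofMul]
      rw [pow_succ h]
      group
  have hhP : h ^ P = 1 := by
    apply FaithfulSMul.eq_of_smul_eq_smul (α := Ω)
    intro ω
    obtain ⟨x, hx⟩ := hbij.2 ω
    subst hx
    have hc := hU P (Additive.ofMul x)
    rw [hUP, Module.End.one_apply, toMul_ofMul] at hc
    have hfix : (h ^ P) • α = α := by
      rw [← MulAction.mem_stabilizer_iff]; exact pow_mem (MulAction.mem_stabilizer_iff.2 hα) _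
    show h ^ P • ((x : G) • α) = (1 : G) • ((x : G) • α)
    rw [one_smul, ← mul_smul, show h ^ P * (x : G) = x * h ^ P by
      nth_rewrite 2 [hc]; group, mul_smul, hfix]
  have h1 := key P
  rw [hgeom, hhP, LinearMap.zero_apply, toMul_zero, Subgroup.coe_one, one_mul] at h1
  have hd := orderOf_dvd_of_pow_eq_one h1
  rw [hg, hP, Nat.pow_dvd_pow_iff_le_right hp.one_lt] at hd
  omega

end Cfsg.Agent.S3508

namespace Cfsg.Agent.S3508

/-- Let a finite group G act faithfully on a set Ω with p ^ m points (p prime) and have an elementary abelian normal p-subgroup N acting regularly on Ω (so G is a group of affine transformations of an m-dimensional space over the field with p elements). If G contains an element of order p ^ r with r ≥ 1, then p ^ (r − 1) ≤ m. In particular an element of order p ^ m forces m ≤ 2, and m ≤ 1 when p is odd. -/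
theorem result {G : Type*} [Group G] [Finite G] {Ω : Type*} [Fintype Ω] [MulAction G Ω] [FaithfulSMul G Ω] (p m : ℕ) (hp : p.Prime) (hcard : Fintype.card Ω = p ^ m)
    (N : Subgroup G) [N.Normal] (hNc : IsMulCommutative N) (hNp : ∀ n ∈ N, n ^ p = 1)
    (hNtr : MulAction.IsPretransitive N Ω) (hNreg : ∀ ω : Ω, MulAction.stabilizer N ω = ⊥)
    (g : G) (r : ℕ) (hr : 1 ≤ r) (hg : orderOf g = p ^ r) :
    p ^ (r - 1) ≤ m ∧ (r = m → m ≤ 2 ∧ (2 < p → m ≤ 1)) := by
  have h := bound p m hp hcard N hNc hNp hNtr hNreg g r hr hg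
  refine ⟨h, fun e => ?_⟩
  subst e
  have h2 : 2 ^ (r - 1) ≤ r := (Nat.pow_le_pow_left hp.two_le _).trans h
  have hr2 : r ≤ 2 := by
    by_contra h3
    obtain ⟨j, rfl⟩ : ∃ j, r = j + 3 := ⟨r - 3, by omega⟩
    have : j < 2 ^ j := Nat.lt_two_pow_self
    rw [show j + 3 - 1 = j + 2 by omega, pow_add] at h2
    omega
  refine ⟨hr2, fun hp2 => ?_⟩
  by_contra h3
  obtain rfl : r = 2 := by omega
  simp at h
  omega

end Cfsg.Agent.S3508
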