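import Cfsg.Statements.S3511
import Mathlib

set_option autoImplicit false
open Cfsg

namespace Cfsg.Agent.S3511

/-- Let a finite group G act faithfully on a set Ω. If every element of G of square-free order has a regular cycle (an orbit of the cyclic group it generates with trivial stabilizer), then every element of G has a regular cycle. -/
theorem result {G : Type*} [Group G] [Finite G] {Ω : Type*} [MulAction G Ω] [FaithfulSMul G Ω]
    (h : ∀ g : G, Squarefree (orderOf g) → ∃ ω : Ω, MulAction.stabilizer (Subgroup.zpowers g) ω = ⊥) (g : G) :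
    ∃ ω : Ω, MulAction.stabilizer (Subgroup.zpowers g) ω = ⊥ := by
  classical
  obtain ⟨ω, hω⟩ := h (g ^ (orderOf g / ∏ p ∈ (orderOf g).primeFactors, p)) (by
    rw [orderOf_pow_of_dvd (Nat.div_pos (Nat.le_of_dvd (orderOf_pos g) (Nat.prod_primeFactors_dvd _))
        (Finset.prod_pos fun p hp => (Nat.prime_of_mem_primeFactors hp).pos)).ne'
        (Nat.div_dvd_of_dvd (Nat.prod_primeFactors_dvd _)),
      Nat.div_div_self (Nat.prod_primeFactors_dvd _) (orderOf_pos g).ne']
    exact Finset.squarefree_prod_of_pairwise_isCoprime (fun a ha b hb hab => Nat.coprime_iff_isRelPrime.1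
      ((Nat.coprime_primes (Nat.prime_of_mem_primeFactors ha) (Nat.prime_of_mem_primeFactors hb)).2 hab))
      fun a ha => (Nat.prime_of_mem_primeFactors ha).squarefree)
  refine ⟨ω, ?_⟩
  rw [Subgroup.eq_bot_iff_forall]
  rintro ⟨y, hy⟩ hyω
  by_contra hne
  obtain ⟨r, hr, hdvd⟩ := Nat.exists_prime_and_dvd
    (show orderOf y ≠ 1 from fun hh => hne (Subtype.ext (orderOf_eq_one_iff.1 hh)))
  set z := y ^ (orderOf y / r)
  have hzo : orderOf z = r := orderOf_pow_orderOf_div (orderOf_pos y).ne' hdvd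
  have hyn : orderOf y ∣ orderOf g := orderOf_dvd_of_mem_zpowers hy
  have hrm : r ∈ (orderOf g).primeFactors :=
    Nat.mem_primeFactors.2 ⟨hr, hdvd.trans hyn, (orderOf_pos g).ne'⟩
  have hzmem : z ∈ Subgroup.zpowers (g ^ (orderOf g / ∏ p ∈ (orderOf g).primeFactors, p)) := by
    obtain ⟨i, hi⟩ := (Submonoid.mem_powers_iff _ _).1 (mem_powers_iff_mem_zpowers.2
      (pow_mem hy (orderOf y / r) : z ∈ Subgroup.zpowers g))
    have h1 : g ^ (i * r) = 1 := by
      have hh := pow_orderOf_eq_one z
      rw [hzo] at hh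
      rw [pow_mul, hi]; exact hh
    have h2 : orderOf g / ∏ p ∈ (orderOf g).primeFactors, p ∣ i := by
      have h3 : orderOf g ∣ i * r := orderOf_dvd_of_pow_eq_one h1
      have h4 : orderOf g / ∏ p ∈ (orderOf g).primeFactors, p ∣ orderOf g / r := by
        exact Nat.div_dvd_div_left (Nat.prod_primeFactors_dvd _) (Finset.dvd_prod_of_mem _ hrm)
      refine h4.trans ?_
      rw [Nat.div_dvd_iff_dvd_mul (hdvd.trans hyn) hr.pos, mul_comm]
      exact h3
    obtain ⟨j, hj⟩ := h2
    exact ⟨j, by show _ ^ (j : ℤ) = z; rw [zpow_natCast, ← pow_mul, ← hj, hi]⟩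
  have hz1 : (⟨z, hzmem⟩ : Subgroup.zpowers _) ∈ MulAction.stabilizer _ ω := by
    have := pow_mem hyω (orderOf y / r)
    exact this
  rw [hω, Subgroup.mem_bot] at hz1
  have : z = 1 := congrArg Subtype.val hz1
  rw [this, orderOf_one] at hzo
  exact hr.ne_one hzo.symm

end Cfsg.Agent.S3511
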