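import Cfsg.Statements.S3514
import Cfsg.Agent.Solv.Basic
import Mathlib.GroupTheory.GroupAction.Quotient
-- import your own Cfsg.Agent.* helpers here

set_option autoImplicit false
open Cfsg

namespace Cfsg.Agent.S3514

theorem card_sup_of_normalizes {G : Type*} [Group G] [Finite G] (H N : Subgroup G)
    (h : H ≤ Subgroup.normalizer (N : Set G)) :
    Nat.card ↥(H ⊔ N) * Nat.card ↥(H ⊓ N) = Nat.card H * Nat.card N := by
  let W := H ⊔ N
  haveI : (N.subgroupOf W).Normal := (Subgroup.normal_subgroupOf_iff_le_normalizer (le_sup_right : N ≤ W)).2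
    (sup_le h Subgroup.le_normalizer)
  have := CfsgLib.Solv.card_sup_mul_card_inf (H.subgroupOf W) (N.subgroupOf W)
  rw [← Subgroup.subgroupOf_sup le_sup_left le_sup_right, Subgroup.subgroupOf_self, Subgroup.card_top] at this
  have e : Nat.card ↥(H.subgroupOf W ⊓ N.subgroupOf W) = Nat.card ↥(H ⊓ N) := by
    rw [show H.subgroupOf W ⊓ N.subgroupOf W = (H ⊓ N).subgroupOf W from (Subgroup.comap_inf H N W.subtype).symm]
    exact Nat.card_congr (Subgroup.subgroupOfEquivOfLe (inf_le_left.trans le_sup_left)).toEquiv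
  rw [e, Nat.card_congr (Subgroup.subgroupOfEquivOfLe (le_sup_left : H ≤ W)).toEquiv,
    Nat.card_congr (Subgroup.subgroupOfEquivOfLe (le_sup_right : N ≤ W)).toEquiv] at this
  exact this

theorem card_orbit_mul {G X : Type*} [Group G] [Finite G] [MulAction G X] (H : Subgroup G) (v : X) :
    Nat.card {u : X | ∃ h ∈ H, h • v = u} * Nat.card ↥(MulAction.stabilizer G v ⊓ H) = Nat.card H := by
  have e1 : {u : X | ∃ h ∈ H, h • v = u} = MulAction.orbit H v := by
    ext u
    exact ⟨fun ⟨h, hh, e⟩ => ⟨⟨h, hh⟩, e⟩, fun ⟨h, e⟩ => ⟨h, h.2, e⟩⟩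
  have e2 : Nat.card (MulAction.stabilizer H v) = Nat.card ↥(MulAction.stabilizer G v ⊓ H) :=
    Nat.card_congr
      { toFun := fun g => ⟨(g : H), Subgroup.mem_inf.2 ⟨g.2, (g : H).2⟩⟩
        invFun := fun g => ⟨⟨g, (Subgroup.mem_inf.1 g.2).2⟩, (Subgroup.mem_inf.1 g.2).1⟩
        left_inv := fun g => rfl
        right_inv := fun g => rfl }
  rw [e1, Nat.card_coe_set_eq, ← MulAction.index_stabilizer, ← e2, Subgroup.index_mul_card]

end Cfsg.Agent.S3514

namespace Cfsg.Agent.S3514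

/-- Let p be a prime, V a finite vector space over the field with p elements, and H a group of linear transformations of V all of whose orbits on V have size coprime to p. (i) Every normal subgroup K of H has all its orbits on V of size coprime to p. (ii) If N is a group of linear transformations of V of order coprime to p that is normalized by H, then the group generated by N and H has all its orbits on V of size coprime to p. -/
theorem result (p : ℕ) [Fact p.Prime] {V : Type*} [AddCommGroup V] [Module (ZMod p) V] [Finite V]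
    (H : Subgroup (V ≃ₗ[ZMod p] V)) (hH : ∀ v : V, ¬ p ∣ Nat.card {u : V | ∃ h ∈ H, h v = u}) :
    (∀ K : Subgroup (V ≃ₗ[ZMod p] V), K ≤ H → H ≤ Subgroup.normalizer (K : Set (V ≃ₗ[ZMod p] V)) →
        ∀ v : V, ¬ p ∣ Nat.card {u : V | ∃ k ∈ K, k v = u}) ∧
    (∀ N : Subgroup (V ≃ₗ[ZMod p] V), ¬ p ∣ Nat.card N → H ≤ Subgroup.normalizer (N : Set (V ≃ₗ[ZMod p] V)) →
        ∀ v : V, ¬ p ∣ Nat.card {u : V | ∃ x ∈ N ⊔ H, x v = u}) := by
  haveI : Finite (V ≃ₗ[ZMod p] V) := Finite.of_injective _ (DFunLike.coe_injective (F := V ≃ₗ[ZMod p] V))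
  have hp : p.Prime := Fact.out
  refine ⟨fun K hK hHK v hdvd => hH v ?_, fun N hN hHN v hdvd => ?_⟩
  · refine hdvd.trans ?_
    set St := MulAction.stabilizer (V ≃ₗ[ZMod p] V) v
    have h1 := card_orbit_mul (X := V) K v
    have h2 := card_orbit_mul (X := V) H v
    have h3 := card_sup_of_normalizes (St ⊓ H) K (inf_le_right.trans hHK)
    rw [show (St ⊓ H) ⊓ K = St ⊓ K by rw [inf_assoc, inf_eq_right.2 hK], ← h1] at h3
    obtain ⟨c, hc⟩ := Subgroup.card_dvd_of_le (sup_le inf_le_right hK : (St ⊓ H) ⊔ K ≤ H)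
    rw [← h2, mul_comm] at hc
    refine ⟨c, Nat.eq_of_mul_eq_mul_left (show 0 < Nat.card ↥(St ⊓ H) * Nat.card ↥(St ⊓ K) from
      Nat.mul_pos Nat.card_pos Nat.card_pos) ?_⟩
    change Nat.card ↥(St ⊓ H) * Nat.card {u : V | ∃ h ∈ H, h • v = u} = _ at hc
    change _ * Nat.card {u : V | ∃ h ∈ H, h • v = u} = _ * (Nat.card {u : V | ∃ k ∈ K, k • v = u} * c)
    calc _ = Nat.card ↥(St ⊓ H) * Nat.card {u : V | ∃ h ∈ H, h • v = u} * Nat.card ↥(St ⊓ K) := by ring
      _ = Nat.card ↥((St ⊓ H) ⊔ K) * Nat.card ↥(St ⊓ K) * c := by rw [hc]; ring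
      _ = _ := by rw [h3]; ring
  · set St := MulAction.stabilizer (V ≃ₗ[ZMod p] V) v
    have h1 := card_orbit_mul (X := V) (N ⊔ H) v
    have h2 := card_orbit_mul (X := V) H v
    have h3 := card_sup_of_normalizes H N hHN
    rw [sup_comm] at h3
    obtain ⟨a, ha⟩ := Subgroup.card_dvd_of_le (inf_le_inf_left St (le_sup_right : H ≤ N ⊔ H))
    rw [← h1, ← h2, ha] at h3
    have key : Nat.card {u : V | ∃ x ∈ N ⊔ H, x • v = u} * (a * Nat.card ↥(H ⊓ N)) =
        Nat.card {u : V | ∃ h ∈ H, h • v = u} * Nat.card N := by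
      refine Nat.eq_of_mul_eq_mul_left (Nat.card_pos (α := ↥(St ⊓ H))) ?_
      calc _ = Nat.card {u : V | ∃ x ∈ N ⊔ H, x • v = u} * (Nat.card ↥(St ⊓ H) * a) * Nat.card ↥(H ⊓ N) := by ring
        _ = Nat.card {u : V | ∃ h ∈ H, h • v = u} * Nat.card ↥(St ⊓ H) * Nat.card N := h3
        _ = _ := by ring
    rcases hp.dvd_mul.1 (key ▸ Dvd.dvd.mul_right hdvd _) with h | h
    · exact hH v h
    · exact hN h

end Cfsg.Agent.S3514
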