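import Cfsg.Statements.S3515
import Cfsg.Agent.Base.AffineTriples
import Mathlib.Tactic.FinCases
import Mathlib.LinearAlgebra.StdBasis
-- import your own Cfsg.Agent.* helpers here

set_option autoImplicit false
open Cfsg

namespace Cfsg.Agent.S3515

theorem four : ∀ y : Fin 2 → ZMod 2, y = 0 ∨ y = Pi.single 0 1 ∨ y = Pi.single 1 1 ∨ y = ![1, 1] := by decide

theorem four_ne : (![1, 1] : Fin 2 → ZMod 2) ≠ 0 ∧ (![1, 1] : Fin 2 → ZMod 2) ≠ Pi.single 0 1 ∧
    (![1, 1] : Fin 2 → ZMod 2) ≠ Pi.single 1 1 := by decide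

end Cfsg.Agent.S3515

namespace Cfsg.Agent.S3515

/-- Every primitive affine permutation group of degree p² is 3-closed. Let p be a prime and G a group of permutations of the plane V = F_p² consisting of affine maps x ↦ Ax + b, containing all translations, and acting primitively on V. Then any permutation σ of V that agrees on every triple of points with some element of G (σ preserves every G-orbit on ordered triples) already lies in G. -/
theorem result (p : ℕ) [Fact p.Prime] (G : Subgroup (Equiv.Perm (Fin 2 → ZMod p)))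
    (haff : (G : Set (Equiv.Perm (Fin 2 → ZMod p))) ⊆ {τ : Equiv.Perm (Fin 2 → ZMod p) | ∃ (A : (Fin 2 → ZMod p) ≃ₗ[ZMod p] (Fin 2 → ZMod p)) (b : Fin 2 → ZMod p), ∀ x, τ x = A x + b})
    (htrans : ∀ b : Fin 2 → ZMod p, ∃ g ∈ G, ∀ x, g x = x + b) (hprim : MulAction.IsPreprimitive G (Fin 2 → ZMod p))
    (σ : Equiv.Perm (Fin 2 → ZMod p)) (hσ : (∀ t : Fin 3 → (Fin 2 → ZMod p), ∃ g ∈ G, ∀ i, σ (t i) = g (t i))) : σ ∈ G := by
  obtain ⟨g, hg, hgt⟩ := hσ ![0, Pi.single 0 1, Pi.single 1 1]
  have k0 := hgt 0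
  have k1 := hgt 1
  have k2 := hgt 2
  simp at k0 k1 k2
  suffices σ = g by rwa [this]
  ext1 x
  by_cases hp : p = 2
  · subst hp
    by_contra hne
    have hx : x = ![1, 1] := by
      rcases four x with h | h | h | h
      · exact absurd (h ▸ k0) hne
      · exact absurd (h ▸ k1) hne
      · exact absurd (h ▸ k2) hne
      · exact h
    obtain ⟨y, hy⟩ := g.surjective (σ x)
    rcases four y with h | h | h | h
    · have e := σ.injective (hy.symm.trans (h ▸ k0.symm))
      rw [hx] at e
      exact four_ne.1 (e.trans h)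
    · have e := σ.injective (hy.symm.trans (h ▸ k1.symm))
      rw [hx] at e
      exact four_ne.2.1 (e.trans h)
    · have e := σ.injective (hy.symm.trans (h ▸ k2.symm))
      rw [hx] at e
      exact four_ne.2.2 (e.trans h)
    · exact hne (by rw [← hy, h, hx])
  · obtain ⟨A, b, hA⟩ := CfsgLib.AffineTriples.affine_of_triples hp σ fun t => by
      obtain ⟨f, hf, hft⟩ := hσ t
      obtain ⟨A, b, hA⟩ := haff hf
      exact ⟨A, b, fun i => (hft i).trans (hA _)⟩
    obtain ⟨B, c, hB⟩ := haff hg
    simp only [hA, hB, map_zero, zero_add] at k0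
    subst k0
    simp only [hA, hB, add_left_inj] at k1 k2
    have : (A : (Fin 2 → ZMod p) →ₗ[ZMod p] (Fin 2 → ZMod p)) = B := LinearMap.pi_ext' fun i => LinearMap.ext_ring (by
      fin_cases i <;> simpa)
    rw [hA, hB]
    exact congrArg (· + b) (LinearMap.congr_fun this x)

end Cfsg.Agent.S3515
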