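import Cfsg.Statements.S3516
import Cfsg.Agent.Base.AffineTriples
import Mathlib.LinearAlgebra.Matrix.SchurComplement
import Mathlib.LinearAlgebra.Determinant
import Mathlib.LinearAlgebra.Dimension.Constructions
import Mathlib.LinearAlgebra.Dual.Lemmas
import Mathlib.LinearAlgebra.FiniteDimensional.Basic
import Mathlib.Tactic.LinearCombination
import Mathlib.Tactic.FinCases
-- import your own Cfsg.Agent.* helpers here

set_option autoImplicit false
open Cfsg

namespace Cfsg.Agent.S3516

/-- Let p be an odd prime, d ≥ 3, and G a group of affine permutations x ↦ Ax + b of V = F_p^d containing all translations and all maps x ↦ Ax with A of determinant 1. Then the 3-closure of G is the full affine group: a permutation σ of V agrees on every triple of points with some element of G if and only if σ is an affine map. -/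
theorem result (p : ℕ) [Fact p.Prime] (hp : p ≠ 2) (d : ℕ) (hd : 3 ≤ d) (G : Subgroup (Equiv.Perm (Fin d → ZMod p)))
    (haff : (G : Set (Equiv.Perm (Fin d → ZMod p))) ⊆ {τ : Equiv.Perm (Fin d → ZMod p) | ∃ (A : (Fin d → ZMod p) ≃ₗ[ZMod p] (Fin d → ZMod p)) (b : Fin d → ZMod p), ∀ x, τ x = A x + b})
    (htrans : ∀ b : Fin d → ZMod p, ∃ g ∈ G, ∀ x, g x = x + b)
    (hsl : ∀ A : (Fin d → ZMod p) ≃ₗ[ZMod p] (Fin d → ZMod p), LinearMap.det (A : (Fin d → ZMod p) →ₗ[ZMod p] (Fin d → ZMod p)) = 1 → ∃ g ∈ G, ∀ x, g x = A x)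
    (σ : Equiv.Perm (Fin d → ZMod p)) :
    (∀ t : Fin 3 → (Fin d → ZMod p), ∃ g ∈ G, ∀ i, σ (t i) = g (t i)) ↔ σ ∈ {τ : Equiv.Perm (Fin d → ZMod p) | ∃ (A : (Fin d → ZMod p) ≃ₗ[ZMod p] (Fin d → ZMod p)) (b : Fin d → ZMod p), ∀ x, τ x = A x + b} := by
  constructor
  · intro h
    exact CfsgLib.AffineTriples.affine_of_triples hp σ fun t => by
      obtain ⟨f, hf, hft⟩ := h t
      obtain ⟨A, b, hA⟩ := haff hf
      exact ⟨A, b, fun i => (hft i).trans (hA _)⟩
  · rintro ⟨A, b, hA⟩ t
    let V := Fin d → ZMod p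
    let W : Submodule (ZMod p) V := Submodule.span (ZMod p) (Set.range ![t 1 - t 0, t 2 - t 0])
    have hW : W < ⊤ := by
      refine lt_top_iff_ne_top.2 fun hW => ?_
      have h1 : Module.finrank (ZMod p) W ≤ 2 := (finrank_range_le_card _).trans (by simp)
      rw [hW, finrank_top, Module.finrank_fin_fun] at h1
      omega
    obtain ⟨φ, hφ0, hφW⟩ := W.exists_le_ker_of_lt_top hW
    obtain ⟨v, hv⟩ : ∃ v, φ v ≠ 0 := by
      by_contra h; push Not at h; exact hφ0 (LinearMap.ext h)
    set δ : ZMod p := LinearMap.det (A : V →ₗ[ZMod p] V) with hδ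
    have hδ0 : δ ≠ 0 := by
      rw [hδ, ← LinearEquiv.coe_det]; exact Units.ne_zero _
    -- a transformation fixing the span with determinant the inverse of that of `A`
    let w : V := ((δ⁻¹ - 1) / φ v) • v
    have hdet : LinearMap.det (LinearMap.id + φ.smulRight w) = δ⁻¹ := by
      rw [← LinearMap.det_toMatrix' ]
      have e : LinearMap.toMatrix' (LinearMap.id + φ.smulRight w) =
          1 + Matrix.replicateCol Unit w * Matrix.replicateRow Unit (fun j => φ (Pi.single j 1)) := by
        ext i j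
        rw [LinearMap.toMatrix'_apply, LinearMap.add_apply, Matrix.add_apply, Matrix.mul_apply, Matrix.one_apply]
        show (Pi.single j 1 : Fin d → ZMod p) i + φ (Pi.single j 1) * w i = _
        simp [Pi.single_apply, mul_comm]
      rw [e, Matrix.det_one_add_replicateCol_mul_replicateRow]
      have : (fun j => φ (Pi.single j 1)) ⬝ᵥ w = φ w := by
        conv_rhs => rw [pi_eq_sum_univ' w, map_sum]
        simp [dotProduct, mul_comm]
      rw [this, map_smul, smul_eq_mul, div_mul_cancel₀ _ hv]
      ring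
    let L : V →ₗ[ZMod p] V := (A : V →ₗ[ZMod p] V) ∘ₗ (LinearMap.id + φ.smulRight w)
    have hL : LinearMap.det L = 1 := by
      rw [LinearMap.det_comp, hdet, ← hδ, mul_inv_cancel₀ hδ0]
    let A' : V ≃ₗ[ZMod p] V := LinearMap.equivOfDetNeZero L (by rw [hL]; exact one_ne_zero)
    have hA' : ∀ x, A' x = A (x + φ x • w) := fun x => by simp [A', L, V]
    obtain ⟨g, hg, hgx⟩ := hsl A' hL
    obtain ⟨f, hf, hfx⟩ := htrans (σ (t 0) - A' (t 0))
    refine ⟨f * g, G.mul_mem hf hg, fun i => ?_⟩
    rw [Equiv.Perm.mul_apply, hgx, hfx, hA, hA]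
    have key : A' (t i - t 0) = A (t i - t 0) := by
      have : φ (t i - t 0) = 0 := by
        fin_cases i
        · simp
        · exact hφW (Submodule.subset_span ⟨0, rfl⟩)
        · exact hφW (Submodule.subset_span ⟨1, rfl⟩)
      rw [hA', this, zero_smul, add_zero]
    rw [map_sub, map_sub] at key
    linear_combination (norm := abel) -key

end Cfsg.Agent.S3516
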