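import Cfsg.Statements.S3517
import Cfsg.Agent.Base.Small.LinExtend

set_option autoImplicit false
open Cfsg

namespace Cfsg.Agent.S3517

/-- For d ≥ 3, the 3-closure of the affine group AGL_d(2) acting on F_2^d is the full symmetric group: every permutation of F_2^d agrees on every ordered triple of points with some affine map (AGL_d(2) is 3-transitive). -/
theorem result (d : ℕ) (hd : 3 ≤ d) (σ : Equiv.Perm (Fin d → ZMod 2)) (t : Fin 3 → (Fin d → ZMod 2)) :
    ∃ (A : (Fin d → ZMod 2) ≃ₗ[ZMod 2] (Fin d → ZMod 2)) (b : Fin d → ZMod 2), ∀ i, σ (t i) = A (t i) + b := by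
  classical
  have htwo : ∀ x : Fin d → ZMod 2, x + x = 0 := fun x => funext fun i => by
    show x i + x i = 0
    generalize x i = a
    revert a; decide
  have hli1 : ∀ a : Fin d → ZMod 2, a ≠ 0 → LinearIndependent (ZMod 2) (fun _ : Fin 1 => a) := fun a ha =>
    linearIndependent_unique_iff.2 ha
  have hli2 : ∀ a b : Fin d → ZMod 2, a ≠ 0 → b ≠ 0 → a ≠ b → LinearIndependent (ZMod 2) ![a, b] := by
    intro a b ha hb hab
    refine LinearIndependent.pair_iff.2 fun s t hst => ?_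
    have h01 : ∀ c : ZMod 2, c = 0 ∨ c = 1 := by decide
    rcases h01 s with rfl | rfl <;> rcases h01 t with rfl | rfl
    · exact ⟨rfl, rfl⟩
    · simp at hst; exact absurd hst hb
    · simp at hst; exact absurd hst ha
    · simp only [one_smul] at hst
      exact absurd (by rw [eq_neg_of_add_eq_zero_left hst]; exact neg_eq_of_add_eq_zero_left (htwo b)) hab
  -- the difference vectors have the same pattern
  set v₁ := t 1 + t 0
  set v₂ := t 2 + t 0
  set w₁ := σ (t 1) + σ (t 0)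
  set w₂ := σ (t 2) + σ (t 0)
  have hz : ∀ a b : Fin d → ZMod 2, a + b = 0 ↔ a = b := fun a b =>
    ⟨fun h => by rw [eq_neg_of_add_eq_zero_left h]; exact neg_eq_of_add_eq_zero_left (htwo b),
      fun h => h ▸ htwo a⟩
  have e1 : v₁ = 0 ↔ w₁ = 0 := by rw [hz, hz, σ.injective.eq_iff]
  have e2 : v₂ = 0 ↔ w₂ = 0 := by rw [hz, hz, σ.injective.eq_iff]
  have e3 : v₁ = v₂ ↔ w₁ = w₂ := by
    rw [add_left_inj, add_left_inj, σ.injective.eq_iff]
  obtain ⟨A, h1, h2⟩ : ∃ A : (Fin d → ZMod 2) ≃ₗ[ZMod 2] (Fin d → ZMod 2), A v₁ = w₁ ∧ A v₂ = w₂ := by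
    by_cases a1 : v₁ = 0
    · by_cases a2 : v₂ = 0
      · exact ⟨LinearEquiv.refl _ _, by simp [a1, e1.1 a1], by simp [a2, e2.1 a2]⟩
      · obtain ⟨A, hA⟩ := CfsgLib.Base.Small.exists_equiv_of_linearIndependent (hli1 _ a2)
          (hli1 _ (fun h => a2 (e2.2 h)))
        exact ⟨A, by rw [a1, e1.1 a1, map_zero], hA 0⟩
    · by_cases a2 : v₂ = 0
      · obtain ⟨A, hA⟩ := CfsgLib.Base.Small.exists_equiv_of_linearIndependent (hli1 _ a1)
          (hli1 _ (fun h => a1 (e1.2 h)))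
        exact ⟨A, hA 0, by rw [a2, e2.1 a2, map_zero]⟩
      · by_cases a3 : v₁ = v₂
        · obtain ⟨A, hA⟩ := CfsgLib.Base.Small.exists_equiv_of_linearIndependent (hli1 _ a1)
            (hli1 _ (fun h => a1 (e1.2 h)))
          exact ⟨A, hA 0, by rw [← a3, ← e3.1 a3]; exact hA 0⟩
        · obtain ⟨A, hA⟩ := CfsgLib.Base.Small.exists_equiv_of_linearIndependent (hli2 _ _ a1 a2 a3)
            (hli2 _ _ (fun h => a1 (e1.2 h)) (fun h => a2 (e2.2 h)) (fun h => a3 (e3.2 h)))
          exact ⟨A, hA 0, hA 1⟩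
  refine ⟨A, σ (t 0) + A (t 0), fun i => ?_⟩
  have hkey : ∀ x y : Fin d → ZMod 2, A (x + t 0) = y + σ (t 0) → y = A x + (σ (t 0) + A (t 0)) := by
    intro x y h
    rw [map_add] at h
    calc y = y + σ (t 0) + σ (t 0) := by rw [add_assoc, htwo, add_zero]
      _ = A x + A (t 0) + σ (t 0) := by rw [h]
      _ = _ := by abel
  fin_cases i
  · exact hkey (t 0) _ ((congrArg A (htwo (t 0))).trans ((map_zero A).trans (htwo (σ (t 0))).symm))
  · exact hkey _ _ h1
  · exact hkey _ _ h2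

end Cfsg.Agent.S3517
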