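import Cfsg.Statements.S3518
import Mathlib
-- import your own Cfsg.Agent.* helpers here

set_option autoImplicit false
open Cfsg

namespace Cfsg.Agent.S3518

open Polynomial in
/-- A polynomial function invariant under averaging over a unit group of order `e` has degree below `e`. -/
theorem degree_lt {p : ℕ} [Fact p.Prime] (A : Subgroup (ZMod p)ˣ) [Fintype ↥A] (g : (ZMod p)[X]) (hg : g.natDegree < p)
    (h : ∀ x : ZMod p, ∑ u : ↥A, g.eval (x + ((u : (ZMod p)ˣ) : ZMod p)) = (Fintype.card ↥A : ZMod p) * g.eval x) :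
    g.natDegree < Fintype.card ↥A := by
  classical
  set e := Fintype.card ↥A with he
  have he0 : 0 < e := Fintype.card_pos
  have hep : e < p := by
    have h1 : e ≤ Fintype.card (ZMod p)ˣ := Fintype.card_subtype_le _
    rw [ZMod.card_units p] at h1
    have := (Fact.out : p.Prime).pos
    omega
  have heZ : (e : ZMod p) ≠ 0 := by
    rw [Ne, ZMod.natCast_eq_zero_iff]
    exact fun hd => absurd (Nat.le_of_dvd he0 hd) (not_le.mpr hep)
  by_contra hm
  push_neg at hm
  set m := g.natDegree with hmdef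
  have hpoly : (∑ u : ↥A, taylor ((u : (ZMod p)ˣ) : ZMod p) g) - C (e : ZMod p) * g = 0 := by
    refine eq_zero_of_natDegree_lt_card_of_eval_eq_zero _ Function.injective_id (fun x => ?_) ?_
    · simp only [id, eval_sub, eval_finsetSum, eval_mul, eval_C, taylor_eval, h x, sub_self]
    · rw [ZMod.card p]
      refine lt_of_le_of_lt (natDegree_sub_le _ _) (max_lt ?_ ?_)
      · exact lt_of_le_of_lt (natDegree_sum_le_of_forall_le _ _ fun u _ => (natDegree_taylor g _).le) hg
      · exact lt_of_le_of_lt (natDegree_C_mul_le _ _) hg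
  have hc := congrArg (fun q => q.coeff (m - e)) hpoly
  simp only [coeff_sub, finsetSum_coeff, coeff_C_mul, coeff_zero, taylor_coeff] at hc
  set d := hasseDeriv (m - e) g with hd
  have hdeg : d.natDegree < e + 1 := by
    have := natDegree_hasseDeriv_le g (m - e)
    rw [← hd] at this
    omega
  have hS : ∀ j, 0 < j → j < e → ∑ u : ↥A, ((u : (ZMod p)ˣ) : ZMod p) ^ j = 0 := by
    intro j hj hje
    haveI : IsCyclic ↥A := inferInstance
    obtain ⟨a, ha⟩ := IsCyclic.exists_ofOrder_eq_natCard (α := ↥A)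
    rw [Nat.card_eq_fintype_card] at ha
    have ha1 : (((a ^ j : ↥A) : (ZMod p)ˣ) : ZMod p) ≠ 1 := by
      intro h1
      have : a ^ j = 1 := Subtype.ext (Units.ext h1)
      have := Nat.le_of_dvd hj (orderOf_dvd_of_pow_eq_one this)
      omega
    have h2 : (((a ^ j : ↥A) : (ZMod p)ˣ) : ZMod p) * ∑ u : ↥A, ((u : (ZMod p)ˣ) : ZMod p) ^ j
        = ∑ u : ↥A, ((u : (ZMod p)ˣ) : ZMod p) ^ j := by
      rw [Finset.mul_sum]
      refine Fintype.sum_equiv (Equiv.mulLeft a) _ _ fun u => ?_
      simp [mul_pow]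
    by_contra hne
    exact ha1 ((mul_eq_right₀ hne).mp h2)
  have hSe : ∑ u : ↥A, ((u : (ZMod p)ˣ) : ZMod p) ^ e = e := by
    have : ∀ u : ↥A, ((u : (ZMod p)ˣ) : ZMod p) ^ e = 1 := fun u => by
      rw [← Units.val_pow_eq_pow_val, ← SubmonoidClass.coe_pow, pow_card_eq_one]; rfl
    rw [Finset.sum_congr rfl fun u _ => this u]; simp [he]
  have hsum : ∑ u : ↥A, d.eval ((u : (ZMod p)ˣ) : ZMod p) = (e : ZMod p) * d.coeff 0 + (e : ZMod p) * d.coeff e := by
    simp_rw [eval_eq_sum_range' hdeg]
    rw [Finset.sum_comm, Finset.sum_range_succ, ← Finset.mul_sum, hSe,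
      Finset.sum_eq_single_of_mem 0 (Finset.mem_range.mpr he0) fun j hj hj0 => by
        rw [← Finset.mul_sum, hS j (Nat.pos_of_ne_zero hj0) (Finset.mem_range.mp hj), mul_zero]]
    simp [he]; ring
  have hd0 : d.coeff 0 = g.coeff (m - e) := by rw [hd, hasseDeriv_coeff]; simp
  have hde : d.coeff e = (m.choose (m - e) : ZMod p) * g.coeff m := by
    rw [hd, hasseDeriv_coeff, Nat.add_sub_cancel' hm]
  rw [hsum, hd0, hde, add_sub_cancel_left] at hc
  have hchoose : (m.choose (m - e) : ZMod p) ≠ 0 := by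
    rw [Ne, ZMod.natCast_eq_zero_iff]
    intro hd2
    have h3 : p ∣ m.factorial := hd2.trans (Dvd.intro _ (by rw [← mul_assoc]; exact Nat.choose_mul_factorial_mul_factorial (Nat.sub_le m e)))
    exact absurd ((Fact.out : p.Prime).dvd_factorial.mp h3) (not_le.mpr hg)
  have hlead : g.coeff m ≠ 0 := by
    rw [hmdef, coeff_natDegree, Ne, leadingCoeff_eq_zero]
    intro hg0
    rw [hmdef, hg0, natDegree_zero] at hm
    omega
  exact mul_ne_zero heZ (mul_ne_zero hchoose hlead) hc

open Polynomial in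
theorem closure_two {p : ℕ} [Fact p.Prime] (A : Subgroup (ZMod p)ˣ) [Fintype ↥A] (hA : A ≠ ⊤) (σ : Equiv.Perm (ZMod p))
    (hσ : ∀ x y : ZMod p, x ≠ y → ∃ a ∈ A, σ x - σ y = (a : ZMod p) * (x - y)) :
    ∃ a ∈ A, ∃ b, ∀ x, σ x = (a : ZMod p) * x + b := by
  classical
  set e := Fintype.card ↥A with he
  have he0 : 0 < e := Fintype.card_pos
  have h2e : 2 * e < p := by
    have hd : e ∣ Nat.card (ZMod p)ˣ := by rw [he, ← Nat.card_eq_fintype_card]; exact Subgroup.card_subgroup_dvd_card A
    have hne : e ≠ Nat.card (ZMod p)ˣ := fun h => hA (Subgroup.eq_top_of_card_eq A (by rw [← h, he, Nat.card_eq_fintype_card]))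
    have hcard : Nat.card (ZMod p)ˣ = p - 1 := by rw [Nat.card_eq_fintype_card]; exact ZMod.card_units p
    obtain ⟨k, hk⟩ := hd
    have hk2 : 2 ≤ k := by
      rcases k with _ | _ | k
      · have := Nat.card_pos (α := (ZMod p)ˣ); omega
      · exact absurd (by rw [hk]; simp) hne
      · omega
    have : e * 2 ≤ e * k := Nat.mul_le_mul_left e hk2
    have := (Fact.out : p.Prime).two_le
    omega
  set f := Lagrange.interpolate Finset.univ id (fun x => σ x) with hf
  have hfe : ∀ x, f.eval x = σ x := fun x =>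
    Lagrange.eval_interpolate_at_node (fun x => σ x) Function.injective_id.injOn (Finset.mem_univ x)
  have hfdeg : f.natDegree < p := by
    rcases eq_or_ne f 0 with h0 | h0
    · rw [h0, natDegree_zero]; omega
    · rw [natDegree_lt_iff_degree_lt h0]
      have := Lagrange.degree_interpolate_lt (fun x => σ x) (v := id) (s := (Finset.univ : Finset (ZMod p))) Function.injective_id.injOn
      rw [Finset.card_univ, ZMod.card] at this
      exact this
  -- the values on a translate of A
  have key : ∀ i, i < e → ∀ x : ZMod p,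
      ∑ u : ↥A, σ (x + ((u : (ZMod p)ˣ) : ZMod p)) ^ i = (e : ZMod p) * σ x ^ i := by
    intro i hi x
    have hb : ∀ u : ↥A, ∃ v : ↥A, σ (x + ((u : (ZMod p)ˣ) : ZMod p)) = σ x + ((v : (ZMod p)ˣ) : ZMod p) := by
      intro u
      obtain ⟨a, ha, h1⟩ := hσ (x + ((u : (ZMod p)ˣ) : ZMod p)) x (by simp)
      rw [add_sub_cancel_left] at h1
      exact ⟨⟨a, ha⟩ * u, by rw [Subgroup.coe_mul, Units.val_mul, ← h1]; ring⟩
    choose v hv using hb
    have hvi : Function.Bijective v := Finite.injective_iff_bijective.mp fun u w huw => by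
      have : σ (x + ((u : (ZMod p)ˣ) : ZMod p)) = σ (x + ((w : (ZMod p)ˣ) : ZMod p)) := by rw [hv, hv, huw]
      exact Subtype.ext (Units.ext (add_left_cancel (σ.injective this)))
    rw [Fintype.sum_bijective v hvi _ (fun w : ↥A => (σ x + ((w : (ZMod p)ˣ) : ZMod p)) ^ i) (fun u => by rw [hv])]
    simp_rw [add_pow]
    rw [Finset.sum_comm, Finset.sum_eq_single_of_mem i (Finset.self_mem_range_succ i) fun j hj hji => ?_]
    · simp [he]
    · rw [← Finset.sum_mul, ← Finset.mul_sum]
      have hjlt : j < i := lt_of_le_of_ne (Nat.lt_succ_iff.mp (Finset.mem_range.mp hj)) hji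
      have : ∑ u : ↥A, ((u : (ZMod p)ˣ) : ZMod p) ^ (i - j) = 0 := by
        obtain ⟨a, ha⟩ := IsCyclic.exists_ofOrder_eq_natCard (α := ↥A)
        rw [Nat.card_eq_fintype_card] at ha
        have h2 : (((a ^ (i - j) : ↥A) : (ZMod p)ˣ) : ZMod p) * ∑ u : ↥A, ((u : (ZMod p)ˣ) : ZMod p) ^ (i - j)
            = ∑ u : ↥A, ((u : (ZMod p)ˣ) : ZMod p) ^ (i - j) := by
          rw [Finset.mul_sum]
          exact Fintype.sum_equiv (Equiv.mulLeft a) _ _ fun u => by simp [mul_pow]
        by_contra hne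
        have : a ^ (i - j) = 1 := Subtype.ext (Units.ext ((mul_eq_right₀ hne).mp h2))
        have := Nat.le_of_dvd (by omega) (orderOf_dvd_of_pow_eq_one this)
        omega
      rw [this, mul_zero, zero_mul]
  have hdeg1 : f.natDegree ≤ 1 := by
    by_contra hn
    push_neg at hn
    have he2 : 2 ≤ e := by
      by_contra he2
      have h1 : ∀ a ∈ A, a = 1 := fun a ha => congrArg Subtype.val
        ((Fintype.card_le_one_iff_subsingleton.mp (by omega : Fintype.card ↥A ≤ 1)).elim ⟨a, ha⟩ 1)
      have hlin : f = X + C (σ 0) := by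
        refine eq_of_degrees_lt_of_eval_finset_eq Finset.univ ?_ ?_ fun x _ => ?_
        · calc f.degree ≤ f.natDegree := degree_le_natDegree
            _ < _ := by rw [Finset.card_univ, ZMod.card]; exact_mod_cast hfdeg
        · calc (X + C (σ 0) : (ZMod p)[X]).degree = 1 := degree_X_add_C _
            _ < _ := by rw [Finset.card_univ, ZMod.card]; exact_mod_cast (Fact.out : p.Prime).one_lt
        · rw [hfe, eval_add, eval_X, eval_C]
          rcases eq_or_ne x 0 with rfl | hx
          · simp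
          · obtain ⟨a, ha, h⟩ := hσ x 0 hx
            rw [h1 a ha] at h
            simp at h
            linear_combination h
      rw [hlin, natDegree_X_add_C] at hn
      omega
    set n := f.natDegree with hn'
    have hne : n < e := by
      refine degree_lt A f hfdeg fun x => ?_
      have := key 1 (by omega) x
      simpa [hfe] using this
    -- the least power of f whose degree reaches e
    set i := (e - 1) / n + 1 with hi
    have hi1 : n * ((e - 1) / n) ≤ e - 1 := Nat.mul_div_le _ _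
    have hi2 : e - 1 < n * i := Nat.lt_mul_div_succ _ (by omega)
    have hie : i < e := by
      have : (e - 1) / n < e - 1 := Nat.div_lt_self (by omega) hn
      omega
    have hni : (f ^ i).natDegree = n * i := by rw [natDegree_pow, mul_comm]
    have hnip : n * i < p := by rw [hi, Nat.mul_succ]; omega
    have := degree_lt A (f ^ i) (hni ▸ hnip) fun x => by
      have := key i hie x
      simpa [hfe] using this
    omega
  have hlin : ∀ x, σ x = f.coeff 1 * x + f.coeff 0 := fun x => by
    rw [← hfe x]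
    conv_lhs => rw [Polynomial.eq_X_add_C_of_natDegree_le_one hdeg1]
    simp
  obtain ⟨a, ha, h⟩ := hσ 1 0 one_ne_zero
  refine ⟨a, ha, σ 0, fun x => ?_⟩
  rw [hlin 1, hlin 0] at h
  simp at h
  rw [hlin x, hlin 0, h]; ring

end Cfsg.Agent.S3518

namespace Cfsg.Agent.S3518

/-- Closures of subgroups of the one-dimensional affine group. Let p be a prime and G a group of permutations of F_p lying in the affine group AGL₁(p) = {x ↦ ax + b, a ≠ 0} and containing all translations. (1) If G is a proper subgroup of AGL₁(p), then G is 2-closed: a permutation of F_p agreeing on every ordered pair of points with some element of G lies in G. (2) Every permutation of F_p agrees on every ordered pair with some element of AGL₁(p) (the 2-closure of AGL₁(p) is the symmetric group). (3) AGL₁(p) is 3-closed: a permutation agreeing on every ordered triple with some affine map is affine. -/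
theorem result (p : ℕ) [Fact p.Prime] (G : Subgroup (Equiv.Perm (ZMod p))) (hG : G ≤ Cfsg.affineGroup (ZMod p))
    (htrans : ∀ b : ZMod p, ∃ g ∈ G, ∀ x, g x = x + b) :
    (G ≠ Cfsg.affineGroup (ZMod p) → ∀ σ : Equiv.Perm (ZMod p), (∀ t : Fin 2 → ZMod p, ∃ g ∈ G, ∀ i, σ (t i) = g (t i)) → σ ∈ G) ∧
    (∀ σ : Equiv.Perm (ZMod p), (∀ t : Fin 2 → ZMod p, ∃ g ∈ Cfsg.affineGroup (ZMod p), ∀ i, σ (t i) = g (t i))) ∧
    (∀ σ : Equiv.Perm (ZMod p), (∀ t : Fin 3 → ZMod p, ∃ g ∈ Cfsg.affineGroup (ZMod p), ∀ i, σ (t i) = g (t i)) → σ ∈ Cfsg.affineGroup (ZMod p)) := by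
  classical
  refine ⟨fun hne σ hσ => ?_, fun σ t => ?_, fun σ hσ => ?_⟩
  · let A : Subgroup (ZMod p)ˣ :=
      { carrier := {a | ∃ g ∈ G, ∃ b, ∀ x, g x = (a : ZMod p) * x + b}
        one_mem' := ⟨1, G.one_mem, 0, fun x => by simp⟩
        mul_mem' := by
          rintro a c ⟨g, hg, b, hgb⟩ ⟨h, hh, d, hhd⟩
          exact ⟨g * h, G.mul_mem hg hh, (a : ZMod p) * d + b, fun x => by
            rw [Equiv.Perm.mul_apply, hgb, hhd, Units.val_mul]; ring⟩
        inv_mem' := by
          rintro a ⟨g, hg, b, hgb⟩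
          refine ⟨g⁻¹, G.inv_mem hg, -((a⁻¹ : (ZMod p)ˣ) : ZMod p) * b, fun x => ?_⟩
          rw [Equiv.Perm.inv_def, Equiv.symm_apply_eq, hgb]
          have := a.mul_inv
          linear_combination (b - x) * this }
    have hmemA : ∀ g ∈ G, ∃ a ∈ A, ∃ b, ∀ x, g x = (a : ZMod p) * x + b := fun g hg => by
      obtain ⟨a, b, h⟩ := hG hg
      exact ⟨a, ⟨g, hg, b, h⟩, b, h⟩
    have hcons : ∀ a ∈ A, ∀ b : ZMod p, ∀ τ : Equiv.Perm (ZMod p), (∀ x, τ x = (a : ZMod p) * x + b) → τ ∈ G := by
      rintro a ⟨g, hg, b', hgb⟩ b τ hτ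
      obtain ⟨t, ht, htb⟩ := htrans (b - b')
      have : τ = t * g := Equiv.ext fun x => by rw [Equiv.Perm.mul_apply, htb, hgb, hτ]; ring
      rw [this]; exact G.mul_mem ht hg
    have hA : A ≠ ⊤ := by
      intro hA
      refine hne (le_antisymm hG ?_)
      rintro τ ⟨a, b, hτ⟩
      exact hcons a (hA ▸ Subgroup.mem_top a) b τ hτ
    haveI : Fintype ↥A := Fintype.ofFinite _
    obtain ⟨a, ha, b, hab⟩ := closure_two A hA σ fun x y _ => by
      obtain ⟨g, hg, h⟩ := hσ ![x, y]
      obtain ⟨a, ha, b, hgb⟩ := hmemA g hg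
      refine ⟨a, ha, ?_⟩
      have h0 : σ x = g x := by simpa using h 0
      have h1 : σ y = g y := by simpa using h 1
      rw [h0, h1, hgb, hgb]; ring
    exact hcons a ha b σ hab
  · rcases eq_or_ne (t 0) (t 1) with h | h
    · refine ⟨Equiv.addRight (σ (t 0) - t 0), ⟨1, σ (t 0) - t 0, fun x => by simp⟩, fun i => ?_⟩
      fin_cases i <;> simp [h]
    · have hd : t 1 - t 0 ≠ 0 := sub_ne_zero.mpr (Ne.symm h)
      have hn : (σ (t 1) - σ (t 0)) / (t 1 - t 0) ≠ 0 :=
        div_ne_zero (sub_ne_zero.mpr fun e => h (σ.injective e).symm) hd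
      set a := Units.mk0 _ hn
      refine ⟨(Equiv.mulLeft₀ (a : ZMod p) a.ne_zero).trans (Equiv.addRight (σ (t 0) - (a : ZMod p) * t 0)),
        ⟨a, σ (t 0) - (a : ZMod p) * t 0, fun x => rfl⟩, fun i => ?_⟩
      fin_cases i
      · simp
      · show σ (t 1) = (a : ZMod p) * t 1 + (σ (t 0) - (a : ZMod p) * t 0)
        rw [Units.val_mk0]
        field_simp
        ring
  · have hn : σ 1 - σ 0 ≠ 0 := sub_ne_zero.mpr fun e => one_ne_zero (σ.injective e)
    refine ⟨Units.mk0 _ hn, σ 0, fun x => ?_⟩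
    obtain ⟨g, ⟨a, b, hg⟩, h⟩ := hσ ![0, 1, x]
    have h0 : σ 0 = g 0 := by simpa using h 0
    have h1 : σ 1 = g 1 := by simpa using h 1
    have h2 : σ x = g x := by simpa using h 2
    rw [Units.val_mk0, h2, h1, h0, hg, hg, hg]; ring

end Cfsg.Agent.S3518
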