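import Cfsg.Statements.S3524
import Mathlib

set_option autoImplicit false
open Cfsg

namespace Cfsg.Agent.S3524

/-- A permutation group with a base is closed at one level above the base size. Let G be a group of permutations of a set Ω and suppose some k points α₁, …, α_k are fixed simultaneously only by the identity of G (a base of size k). Then G is (k+1)-closed: a permutation of Ω that agrees on every (k+1)-tuple of points with some element of G belongs to G. -/
theorem result {Ω : Type*} (G : Subgroup (Equiv.Perm Ω)) (k : ℕ) (α : Fin k → Ω)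
    (hbase : ∀ g ∈ G, (∀ i, g (α i) = α i) → g = 1) (σ : Equiv.Perm Ω)
    (hσ : ∀ t : Fin (k + 1) → Ω, ∃ g ∈ G, ∀ i, σ (t i) = g (t i)) : σ ∈ G := by
  rcases isEmpty_or_nonempty Ω with hE | ⟨⟨x₀⟩⟩
  · rw [show σ = 1 from Equiv.ext fun x => isEmptyElim x]
    exact one_mem G
  choose f hf hf' using fun x : Ω => hσ (Fin.snoc α x)
  have hσα : ∀ x i, f x (α i) = σ (α i) := fun x i => by
    have := hf' x i.castSucc
    simpa using this.symm
  have hσx : ∀ x, f x x = σ x := fun x => by
    have := hf' x (Fin.last k)
    simpa using this.symm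
  have heq : ∀ x, f x = f x₀ := fun x => by
    have := hbase ((f x₀)⁻¹ * f x) (mul_mem (inv_mem (hf x₀)) (hf x)) fun i => by
      rw [Equiv.Perm.mul_apply, hσα, ← hσα x₀]
      exact (f x₀).symm_apply_apply _
    exact (inv_mul_eq_one.1 this).symm
  rw [show σ = f x₀ from Equiv.ext fun x => by rw [← hσx x, heq x]]
  exact hf x₀

end Cfsg.Agent.S3524
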