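import Cfsg.Statements.S3532
import Cfsg.Agent.Base.Spectrum.PSLTwo
-- import your own Cfsg.Agent.* helpers here

set_option autoImplicit false
open Cfsg

namespace Cfsg.Agent.S3532

/-- Let q ≥ 4 be a prime power and L = PSL(2,q). There is a finite solvable group with the same set of element orders as L × L (so L × L is not determined by its spectrum). -/
theorem result {F : Type*} [Field F] [Fintype F] (hF : 4 ≤ Fintype.card F) :
    ∃ (H : Type) (_ : Group H) (_ : Finite H), Group.IsSolvable H ∧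
      Set.range (orderOf : H → ℕ) = Set.range (orderOf : Matrix.ProjectiveSpecialLinearGroup (Fin 2) F × Matrix.ProjectiveSpecialLinearGroup (Fin 2) F → ℕ) := by
  classical
  obtain ⟨p, hpch⟩ := CharP.exists F
  haveI : Fact p.Prime := ⟨CharP.char_is_prime F p⟩
  obtain ⟨n, -, hq⟩ := FiniteField.card F p
  set q := Fintype.card F with hqdef
  set k := Nat.gcd 2 (q - 1) with hk
  have hka : k ∣ q - 1 := Nat.gcd_dvd_right _ _
  have hkb : k ∣ q + 1 := by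
    have h := Nat.dvd_add hka (Nat.gcd_dvd_left 2 (q - 1))
    rwa [show q - 1 + 2 = q + 1 by omega] at h
  obtain ⟨A, i1, i2, hA, hAo⟩ := CfsgLib.PSLTwoSpec.exists_frobenius p (n : ℕ) ((q - 1) / k) n.pos.ne'
    ((Nat.div_dvd_of_dvd hka).trans (by rw [hq]))
  obtain ⟨B, j1, j2, hB, hBo⟩ := CfsgLib.PSLTwoSpec.exists_frobenius p (2 * n : ℕ) ((q + 1) / k) (by positivity) (by
    refine (Nat.div_dvd_of_dvd hkb).trans ⟨q - 1, ?_⟩
    rw [mul_comm 2, pow_mul, ← hq, ← Nat.sq_sub_sq q 1, one_pow])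
  have hL := CfsgLib.PSLTwoSpec.range_orderOf (F := F) p
  rw [← hqdef, ← hk] at hL
  haveI := hA
  haveI := hB
  refine ⟨A × B, inferInstance, inferInstance, inferInstance, ?_⟩
  have hp1 : ∃ x : Matrix.ProjectiveSpecialLinearGroup (Fin 2) F, orderOf x = p :=
    (Set.ext_iff.1 hL p).2 (Or.inl rfl)
  have mL : ∀ m, (m = p ∨ m ∣ (q - 1) / k ∨ m ∣ (q + 1) / k) ↔
      ∃ x : Matrix.ProjectiveSpecialLinearGroup (Fin 2) F, orderOf x = m := fun m => (Set.ext_iff.1 hL m).symm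
  have mA : ∀ m, (m = p ∨ m ∣ (q - 1) / k) ↔ ∃ x : A, orderOf x = m := fun m => (Set.ext_iff.1 hAo m).symm
  have mB : ∀ m, (m = p ∨ m ∣ (q + 1) / k) ↔ ∃ x : B, orderOf x = m := fun m => (Set.ext_iff.1 hBo m).symm
  ext m
  constructor
  · rintro ⟨⟨a, b⟩, rfl⟩
    obtain ⟨x, hx⟩ := (mL (orderOf a)).1 (((mA _).2 ⟨a, rfl⟩).imp id Or.inl)
    obtain ⟨y, hy⟩ := (mL (orderOf b)).1 (((mB _).2 ⟨b, rfl⟩).imp id Or.inr)
    exact ⟨(x, y), by rw [Prod.orderOf, Prod.orderOf, hx, hy]⟩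
  · rintro ⟨⟨x, y⟩, rfl⟩
    obtain ⟨u, v, hu, hv, huv⟩ : ∃ u v, (u = p ∨ u ∣ (q - 1) / k) ∧ (v = p ∨ v ∣ (q + 1) / k) ∧
        Nat.lcm (orderOf x) (orderOf y) = Nat.lcm u v := by
      rcases (mL _).2 ⟨x, rfl⟩ with h | h | h <;> rcases (mL _).2 ⟨y, rfl⟩ with h' | h' | h'
      · exact ⟨p, p, .inl rfl, .inl rfl, by rw [h, h']⟩
      · exact ⟨orderOf y, p, .inr h', .inl rfl, by rw [h, Nat.lcm_comm]⟩
      · exact ⟨p, orderOf y, .inl rfl, .inr h', by rw [h]⟩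
      · exact ⟨orderOf x, p, .inr h, .inl rfl, by rw [h']⟩
      · exact ⟨Nat.lcm (orderOf x) (orderOf y), 1, .inr (Nat.lcm_dvd h h'), .inr (one_dvd _), by rw [Nat.lcm_one_right]⟩
      · exact ⟨orderOf x, orderOf y, .inr h, .inr h', rfl⟩
      · exact ⟨p, orderOf x, .inl rfl, .inr h, by rw [h', Nat.lcm_comm]⟩
      · exact ⟨orderOf y, orderOf x, .inr h', .inr h, Nat.lcm_comm _ _⟩
      · exact ⟨1, Nat.lcm (orderOf x) (orderOf y), .inr (one_dvd _), .inr (Nat.lcm_dvd h h'), by rw [Nat.lcm_one_left]⟩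
    obtain ⟨a, ha⟩ := (mA u).1 hu
    obtain ⟨b, hb⟩ := (mB v).1 hv
    exact ⟨(a, b), by rw [Prod.orderOf, Prod.orderOf, ha, hb, huv]⟩

end Cfsg.Agent.S3532
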