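import Cfsg.Statements.S3546
import Mathlib

set_option autoImplicit false
open Cfsg

namespace Cfsg.Agent.S3546

/-- Let G act faithfully and transitively on a finite set and let D be the subgroup of G generated by the derangements (the elements fixing no point). Then D is itself transitive, and D contains every element of G whose number of fixed points is different from 1. -/
theorem result {G Ω : Type*} [Group G] [Finite G] [MulAction G Ω] [FaithfulSMul G Ω] [Finite Ω]
    (htrans : MulAction.IsPretransitive G Ω) :
    MulAction.IsPretransitive ↥(Subgroup.closure {g : G | ∀ ω : Ω, g • ω ≠ ω}) Ω ∧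
    ∀ g : G, Nat.card (MulAction.fixedBy Ω g) ≠ 1 → g ∈ Subgroup.closure {g : G | ∀ ω : Ω, g • ω ≠ ω} := by
  classical
  letI := Fintype.ofFinite G
  letI := Fintype.ofFinite Ω
  set S := {g : G | ∀ ω : Ω, g • ω ≠ ω} with hS
  set K := Subgroup.closure S with hK
  haveI hKn : K.Normal := by
    refine Subgroup.Normal.mk fun n hn g => ?_
    have hle : K ≤ K.comap (MulAut.conj g).toMonoidHom := by
      rw [hK, Subgroup.closure_le]
      intro s hs
      refine Subgroup.subset_closure fun ω hω => hs (g⁻¹ • ω) ?_
      simp only [MulEquiv.coe_toMonoidHom, MulAut.conj_apply, mul_smul] at hω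
      exact eq_inv_smul_iff.2 hω
    exact hle hn
  rcases isEmpty_or_nonempty Ω with hE | hne
  · exact ⟨⟨fun a => isEmptyElim a⟩, fun g _ => Subgroup.subset_closure fun ω => isEmptyElim ω⟩
  let f : G → ℕ := fun g => Fintype.card (MulAction.fixedBy Ω g)
  have hGtot : ∑ g : G, f g = Fintype.card G := by
    have := MulAction.sum_card_fixedBy_eq_card_orbits_mul_card_group G Ω
    have h1 : Subsingleton (MulAction.orbitRel.Quotient G Ω) := by
      refine ⟨fun x y => ?_⟩
      induction x using Quotient.inductionOn' with | h a => ?_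
      induction y using Quotient.inductionOn' with | h b => ?_
      exact Quotient.sound' (MulAction.exists_smul_eq G b a)
    have h2 : Fintype.card (MulAction.orbitRel.Quotient G Ω) = 1 :=
      Fintype.card_eq_one_iff.2 ⟨Quotient.mk'' (Classical.arbitrary Ω), fun y => Subsingleton.elim _ _⟩
    rw [h2, one_mul] at this
    exact this
  have hKtot : ∑ g ∈ Finset.univ.filter (fun g : G => g ∈ K), f g =
      Fintype.card (MulAction.orbitRel.Quotient K Ω) * Fintype.card K := by
    rw [← MulAction.sum_card_fixedBy_eq_card_orbits_mul_card_group K Ω,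
      Finset.sum_subtype (p := fun g : G => g ∈ K) _ (fun g => by simp) f]
    exact Finset.sum_congr rfl fun g _ => Fintype.card_congr (Equiv.refl _)
  have hpos : ∀ g : G, g ∉ K → 1 ≤ f g := by
    intro g hg
    by_contra hlt
    refine hg (Subgroup.subset_closure fun ω hω => ?_)
    have : 0 < f g := Fintype.card_pos_iff.2 ⟨⟨ω, hω⟩⟩
    omega
  have hsum := Finset.sum_filter_add_sum_filter_not Finset.univ (fun g : G => g ∈ K) f
  have hlow : (Finset.univ.filter fun g : G => g ∉ K).card ≤
      ∑ g ∈ Finset.univ.filter (fun g : G => g ∉ K), f g := by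
    rw [Finset.card_eq_sum_ones]
    exact Finset.sum_le_sum fun g hg => hpos g (Finset.mem_filter.1 hg).2
  have hcard := Finset.card_filter_add_card_filter_not (s := (Finset.univ : Finset G)) (fun g => g ∈ K)
  have hKc : (Finset.univ.filter fun g : G => g ∈ K).card = Fintype.card K :=
    (Fintype.card_subtype _).symm
  rw [Finset.card_univ, hKc] at hcard
  have horb : 0 < Fintype.card (MulAction.orbitRel.Quotient K Ω) :=
    Fintype.card_pos_iff.2 ⟨Quotient.mk'' (Classical.arbitrary Ω)⟩
  have hKp : 0 < Fintype.card K := Fintype.card_pos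
  have horb1 : Fintype.card (MulAction.orbitRel.Quotient K Ω) = 1 := by
    by_contra hne1
    have : 2 * Fintype.card K ≤ Fintype.card (MulAction.orbitRel.Quotient K Ω) * Fintype.card K :=
      Nat.mul_le_mul_right _ (by omega)
    omega
  rw [horb1, one_mul] at hKtot
  refine ⟨⟨fun a b => ?_⟩, fun g hg => ?_⟩
  · exact Quotient.exact' (Fintype.card_le_one_iff.1 horb1.le (Quotient.mk'' b)
      (Quotient.mk'' a : MulAction.orbitRel.Quotient K Ω))
  · by_contra hgK
    have h2 : 2 ≤ f g := by
      have h1 : 1 ≤ f g := hpos g hgK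
      have h3 : f g ≠ 1 := fun h => hg (by rw [Nat.card_eq_fintype_card]; exact h)
      omega
    have hlt : (Finset.univ.filter fun g : G => g ∉ K).card <
        ∑ g ∈ Finset.univ.filter (fun g : G => g ∉ K), f g := by
      rw [Finset.card_eq_sum_ones]
      exact Finset.sum_lt_sum (fun x hx => hpos x (Finset.mem_filter.1 hx).2)
        ⟨g, Finset.mem_filter.2 ⟨Finset.mem_univ g, hgK⟩, h2⟩
    omega

end Cfsg.Agent.S3546
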