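import Cfsg.Statements.S3554
import Mathlib

set_option autoImplicit false
open Cfsg

namespace Cfsg.Agent.S3554

/-- Let G act faithfully and transitively on a finite set and suppose G has a non-trivial cyclic normal subgroup. Then some element of G of prime order fixes no point. -/
theorem result {G Ω : Type*} [Group G] [Finite G] [MulAction G Ω] [FaithfulSMul G Ω] [Finite Ω]
    (htrans : MulAction.IsPretransitive G Ω) (C : Subgroup G) (hC : C.Normal) (hC1 : C ≠ ⊥) (hcyc : IsCyclic ↥C) :
    ∃ g : G, (orderOf g).Prime ∧ ∀ ω : Ω, g • ω ≠ ω := by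
  classical
  haveI := hC
  haveI : Nontrivial ↥C := (Subgroup.nontrivial_iff_ne_bot C).2 hC1
  obtain ⟨p, hp, hpd⟩ := Nat.exists_prime_and_dvd (Finite.one_lt_card (α := ↥C)).ne'
  haveI := Fact.mk hp
  obtain ⟨x, hx⟩ := exists_prime_orderOf_dvd_card' p hpd
  have hxg : orderOf (x : G) = p := by rw [Subgroup.orderOf_coe]; exact hx
  have hconj : ∀ k : G, k * x * k⁻¹ ∈ Subgroup.zpowers (x : G) := by
    intro k
    haveI := hcyc
    let y : ↥C := ⟨k * x * k⁻¹, hC.conj_mem _ x.2 k⟩
    have hy : orderOf y = p := by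
      rw [← Subgroup.orderOf_coe]
      exact (orderOf_injective (MulAut.conj k).toMonoidHom (MulAut.conj k).injective (x : G)).trans hxg
    letI := Fintype.ofFinite ↥C
    have hle : (Finset.univ.filter fun a : ↥C => a ^ p = 1).card ≤ p := IsCyclic.card_pow_eq_one_le hp.pos
    have hsub : (Finset.univ.filter fun a : ↥C => a ∈ Subgroup.zpowers x) ⊆
        Finset.univ.filter fun a : ↥C => a ^ p = 1 := by
      intro a ha
      simp only [Finset.mem_filter, Finset.mem_univ, true_and] at ha ⊢
      exact orderOf_dvd_iff_pow_eq_one.1 (hx ▸ orderOf_dvd_of_mem_zpowers ha)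
    have hcard : (Finset.univ.filter fun a : ↥C => a ∈ Subgroup.zpowers x).card = p := by
      rw [← Fintype.card_subtype, ← Nat.card_eq_fintype_card, Nat.card_zpowers, hx]
    have hym : y ∈ Finset.univ.filter fun a : ↥C => a ∈ Subgroup.zpowers x := by
      rw [Finset.eq_of_subset_of_card_le hsub (hcard.symm ▸ hle)]
      simp only [Finset.mem_filter, Finset.mem_univ, true_and]
      exact hy ▸ pow_orderOf_eq_one y
    obtain ⟨j, hj⟩ := Subgroup.mem_zpowers_iff.1 (Finset.mem_filter.1 hym).2
    exact ⟨j, by simpa using congrArg Subtype.val hj⟩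
  refine ⟨x, hxg ▸ hp, fun ω hω => ?_⟩
  refine (show (x : G) ≠ 1 from fun h => hp.ne_one (by rw [← hxg, h, orderOf_one])) ?_
  refine eq_of_smul_eq_smul (α := Ω) fun η => ?_
  obtain ⟨k, rfl⟩ := MulAction.exists_smul_eq G ω η
  obtain ⟨j, hj⟩ := hconj k⁻¹
  have hfix : ((x : G) ^ j) • ω = ω := by
    exact MulAction.mem_stabilizer_iff.1 (zpow_mem (MulAction.mem_stabilizer_iff.2 hω) j)
  simp only [inv_inv] at hj
  rw [hj, mul_smul, mul_smul, inv_smul_eq_iff] at hfix
  rw [one_smul, hfix]

end Cfsg.Agent.S3554
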