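import Cfsg.Statements.S3557
import Cfsg.Agent.Perm.MinClass
import Mathlib.GroupTheory.GroupAction.Quotient
import Mathlib.GroupTheory.Sylow
import Mathlib.Data.Set.Card
import Mathlib.GroupTheory.Index
import Mathlib.Tactic.Linarith
import Mathlib.Tactic.Positivity
-- import your own Cfsg.Agent.* helpers here

set_option autoImplicit false
open Cfsg

namespace Cfsg.Agent.S3557

theorem glue {G Ω : Type*} [Group G] [Finite G] [MulAction G Ω] [FaithfulSMul G Ω] [Finite Ω] {p : ℕ} [Fact p.Prime]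
    (hcl : ∀ σ : Equiv.Perm Ω, (∀ a b : Ω, ∃ g : G, σ a = g • a ∧ σ b = g • b) → ∃ g : G, ∀ a : Ω, σ a = g • a)
    (P : Subgroup G) (hP : IsPGroup p P) (a0 b0 : Ω)
    (hcover : ∀ x : Ω, x ∈ MulAction.orbit P a0 ∨ x ∈ MulAction.orbit P b0)
    (hbig : (MulAction.stabilizer P b0).index = p ^ 2) (hbig' : (MulAction.stabilizer P a0).index = p ^ 2)
    (z : G) (hz : z ∈ P) (hzp : orderOf z = p) (hzc : ∀ g ∈ P, g * z = z * g)
    (hza : z • a0 ≠ a0) (hzb : z • b0 = b0) : ∃ g : G, (orderOf g).Prime ∧ ∀ ω : Ω, g • ω ≠ ω := by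
  classical
  have hp : p.Prime := Fact.out
  set O1 := MulAction.orbit P a0
  set O2 := MulAction.orbit P b0
  have hPinv : ∀ (h : P) (x : Ω), x ∈ O1 → (h : G) • x ∈ O1 := fun h x ⟨g, hg⟩ => ⟨h * g, by
    show ((h * g : P) : G) • a0 = _
    rw [Subgroup.coe_mul, mul_smul]; rw [show (g : G) • a0 = x from hg]⟩
  have hPinv2 : ∀ (h : P) (x : Ω), x ∈ O2 → (h : G) • x ∈ O2 := fun h x ⟨g, hg⟩ => ⟨h * g, by
    show ((h * g : P) : G) • b0 = _
    rw [Subgroup.coe_mul, mul_smul]; rw [show (g : G) • b0 = x from hg]⟩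
  have hzO1 : ∀ x ∈ O1, z • x ≠ x := by
    rintro _ ⟨g, rfl⟩ e
    apply hza
    apply MulAction.injective (g : G)
    show (g : G) • z • a0 = (g : G) • a0
    rw [← mul_smul, hzc g g.2, mul_smul]; exact e
  have hzO2 : ∀ x ∈ O2, z • x = x := by
    rintro _ ⟨g, rfl⟩
    show z • (g : G) • b0 = (g : G) • b0
    rw [← mul_smul, ← hzc g g.2, mul_smul, hzb]
  -- stabilizer of the block of `a0`
  let Blk : Set Ω := MulAction.orbit (Subgroup.zpowers z) a0
  have hBlkmem : ∀ x, x ∈ Blk ↔ ∃ i : ℤ, z ^ i • a0 = x := fun x =>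
    ⟨fun ⟨⟨w, hw⟩, e⟩ => by obtain ⟨i, rfl⟩ := Subgroup.mem_zpowers_iff.1 hw; exact ⟨i, e⟩,
      fun ⟨i, e⟩ => ⟨⟨z ^ i, Subgroup.zpow_mem _ (Subgroup.mem_zpowers z) i⟩, e⟩⟩
  have hzi : ∀ g ∈ P, ∀ i : ℤ, g * z ^ i = z ^ i * g := fun g hg i => ((show Commute g z from hzc g hg).zpow_right i).eq
  let M : Subgroup P :=
    { carrier := {h | (h : G) • a0 ∈ Blk}
      one_mem' := by
        show ((1 : P) : G) • a0 ∈ Blk
        rw [Subgroup.coe_one, one_smul]; exact MulAction.mem_orbit_self a0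
      mul_mem' := fun {g h} hg hh => by
        obtain ⟨i, hi⟩ := (hBlkmem _).1 hg
        obtain ⟨j, hj⟩ := (hBlkmem _).1 hh
        refine (hBlkmem _).2 ⟨j + i, ?_⟩
        rw [Subgroup.coe_mul, mul_smul, ← hj, ← mul_smul, hzi g g.2, mul_smul, ← hi, ← mul_smul, zpow_add]
      inv_mem' := fun {g} hg => by
        obtain ⟨i, hi⟩ := (hBlkmem _).1 hg
        refine (hBlkmem _).2 ⟨-i, MulAction.injective ((g : P) : G) ?_⟩
        show (g : G) • z ^ (-i) • a0 = (g : G) • ((g⁻¹ : P) : G) • a0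
        rw [Subgroup.coe_inv, smul_inv_smul, ← mul_smul, hzi g g.2, mul_smul, ← hi, ← mul_smul, zpow_neg, inv_mul_cancel, one_smul] }
  have hle : MulAction.stabilizer P a0 ≤ M := fun h hh => by
    show (h : G) • a0 ∈ Blk
    rw [show (h : G) • a0 = a0 from hh]; exact MulAction.mem_orbit_self a0
  have hzM : (⟨z, hz⟩ : P) ∈ M := (hBlkmem _).2 ⟨1, by simp⟩
  have hMblock : ∀ h : P, h ∈ M → ∀ g : P, g⁻¹ * h * g ∈ M → ∃ i : ℤ, (h : G) • ((g : G) • a0) = z ^ i • ((g : G) • a0) := by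
    intro h _ g hg
    obtain ⟨i, hi⟩ := (hBlkmem _).1 hg
    refine ⟨i, ?_⟩
    rw [← mul_smul (z ^ i), ← hzi g g.2, mul_smul, hi, Subgroup.coe_mul, Subgroup.coe_mul, Subgroup.coe_inv, mul_smul, mul_smul, smul_inv_smul]
  have hidx : M.index ∣ p := by
    have h1 : M.index ∣ p ^ 2 := hbig' ▸ Subgroup.index_dvd_of_le hle
    obtain ⟨j, hj, hj'⟩ := (Nat.dvd_prime_pow hp).1 h1
    rcases Nat.lt_or_ge j 2 with hj2 | hj2
    · rw [hj']; exact (pow_dvd_pow p (by omega : j ≤ 1)).trans (pow_one p).dvd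
    · exfalso
      obtain rfl : j = 2 := by omega
      have e := Subgroup.relIndex_mul_index hle
      rw [hbig', hj'] at e
      have hr : (MulAction.stabilizer P a0).relIndex M = 1 := by
        have hpos : 0 < p ^ 2 := pow_pos hp.pos 2
        nlinarith
      rw [Subgroup.relIndex_eq_one] at hr
      exact hza (hr hzM)
  haveI hMn : M.Normal := by
    rcases (Nat.dvd_prime hp).1 hidx with h | h
    · rw [Subgroup.index_eq_one.1 h]; infer_instance
    · obtain ⟨k, hk⟩ := IsPGroup.iff_card.1 hP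
      refine Subgroup.normal_of_index_eq_minFac_card ?_
      have hk0 : k ≠ 0 := by
        intro e
        have := Subgroup.index_dvd_card M
        rw [hk, e, pow_zero, h, Nat.dvd_one] at this
        exact hp.ne_one this
      rw [h, hk, Nat.pow_minFac hk0, hp.minFac_eq]
  -- a central element of the image on the other orbit
  let ψ : P →* Equiv.Perm O2 :=
    MonoidHom.toHomPerm (
      { toFun := fun h x => ⟨(h : G) • (x : Ω), hPinv2 h x x.2⟩
        map_one' := funext fun x => Subtype.ext (one_smul G (x : Ω))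
        map_mul' := fun g h => funext fun x => Subtype.ext (mul_smul (g : G) (h : G) (x : Ω)) } : P →* Function.End O2)
  have hψ : ∀ (h : P) (x : O2), ((ψ h x : O2) : Ω) = (h : G) • (x : Ω) := fun h x => rfl
  have hne : M.map ψ.rangeRestrict ≠ ⊥ := by
    rw [Ne, Subgroup.map_eq_bot_iff]
    intro hle2
    have h2 : M ≤ MulAction.stabilizer P b0 := fun h hh => by
      have e := congrArg Subtype.val (MonoidHom.mem_ker.1 (hle2 hh))
      have e2 := congrArg (fun f : Equiv.Perm O2 => ((f ⟨b0, MulAction.mem_orbit_self b0⟩ : O2) : Ω)) e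
      exact e2
    have := Nat.le_of_dvd hp.pos ((hbig ▸ Subgroup.index_dvd_of_le h2).trans hidx)
    have := hp.two_le
    nlinarith
  haveI : (M.map ψ.rangeRestrict).Normal := hMn.map _ ψ.rangeRestrict_surjective
  have hRp : IsPGroup p ψ.range := hP.of_surjective _ ψ.rangeRestrict_surjective
  have hne2 := CfsgLib.Perm.inf_center_ne_bot hRp _ hne
  obtain ⟨j, hj⟩ := IsPGroup.iff_card.1 (hRp.to_subgroup (M.map ψ.rangeRestrict ⊓ Subgroup.center ψ.range))
  have hj0 : j ≠ 0 := fun e => hne2 (Subgroup.card_eq_one.1 (by rw [hj, e, pow_zero]))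
  obtain ⟨⟨w, hw⟩, hwo⟩ := exists_prime_orderOf_dvd_card' p (hj ▸ dvd_pow_self p hj0)
  rw [Subgroup.orderOf_mk] at hwo
  obtain ⟨hwM, hwc⟩ := Subgroup.mem_inf.1 hw
  obtain ⟨h, hh, rfl⟩ := hwM
  have hhc : ∀ (g : P) (x : Ω), x ∈ O2 → (g : G) • (h : G) • x = (h : G) • (g : G) • x := by
    intro g x hx
    have := Subgroup.mem_center_iff.1 hwc (ψ.rangeRestrict g)
    exact congrArg (fun f : ψ.range => (((f : Equiv.Perm O2) ⟨x, hx⟩ : O2) : Ω)) this
  have hh1 : ∀ x ∈ O2, (h : G) • x ≠ x := by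
    rintro _ ⟨g, rfl⟩ e
    have hb : (h : G) • b0 = b0 := by
      have h' := hhc g b0 (MulAction.mem_orbit_self b0)
      apply MulAction.injective (g : G)
      show (g : G) • (h : G) • b0 = (g : G) • b0
      rw [h']; exact e
    have : ψ.rangeRestrict h = 1 := by
      refine Subtype.ext (Equiv.ext fun x => Subtype.ext ?_)
      obtain ⟨g', hg'⟩ := x.2
      show (h : G) • (x : Ω) = (x : Ω)
      rw [← show (g' : G) • b0 = (x : Ω) from hg', ← hhc g' b0 (MulAction.mem_orbit_self b0), hb]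
    rw [this, orderOf_one] at hwo
    exact hp.ne_one hwo.symm
  have hhp : ∀ x ∈ O2, ((h : G) ^ p) • x = x := by
    intro x hx
    have e : (ψ.rangeRestrict h) ^ p = 1 := hwo ▸ pow_orderOf_eq_one _
    rw [← map_pow] at e
    exact congrArg (fun f : ψ.range => (((f : Equiv.Perm O2) ⟨x, hx⟩ : O2) : Ω)) e
  -- the glued permutation
  let f : Ω → Ω := fun x => if x ∈ O1 then z • x else (h : G) • x
  have hdisj : ∀ x, x ∈ O1 → x ∈ O2 → False := fun x h1 h2 => hzO1 x h1 (hzO2 x h2)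
  have hf1 : ∀ x ∈ O1, f x = z • x := fun x hx => if_pos hx
  have hf2 : ∀ x ∈ O2, f x = (h : G) • x := fun x hx => if_neg fun h1 => hdisj x h1 hx
  have hmem1 : ∀ x ∈ O1, f x ∈ O1 := fun x hx => by rw [hf1 x hx]; exact hPinv ⟨z, hz⟩ x hx
  have hmem2 : ∀ x ∈ O2, f x ∈ O2 := fun x hx => by rw [hf2 x hx]; exact hPinv2 h x hx
  have hfinj : Function.Injective f := by
    intro x y e
    rcases hcover x with hx | hx <;> rcases hcover y with hy | hy
    · rw [hf1 x hx, hf1 y hy] at e; exact MulAction.injective z e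
    · exact (hdisj _ (hmem1 x hx) (e ▸ hmem2 y hy)).elim
    · exact (hdisj _ (e ▸ hmem1 y hy) (hmem2 x hx)).elim
    · rw [hf2 x hx, hf2 y hy] at e; exact MulAction.injective (h : G) e
  let σ : Equiv.Perm Ω := Equiv.ofBijective f (Finite.injective_iff_bijective.1 hfinj)
  have hpair : ∀ a ∈ O1, ∀ b ∈ O2, ∃ g : G, z • a = g • a ∧ (h : G) • b = g • b := by
    rintro _ ⟨g, rfl⟩ b hb
    have hconj : ∀ k : P, g⁻¹ * h * g ∈ M := fun _ => by simpa using hMn.conj_mem h hh g⁻¹
    obtain ⟨i, hi⟩ := hMblock h hh g (hconj 1)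
    refine ⟨z ^ (1 - i) * (h : G), ?_, ?_⟩
    · show z • (g : G) • a0 = (z ^ (1 - i) * (h : G)) • (g : G) • a0
      rw [mul_smul, hi, ← mul_smul (z ^ (1 - i)), ← zpow_add, sub_add_cancel, zpow_one]
    · have hfix : ∀ y ∈ O2, ∀ l : ℤ, z ^ l • y = y := fun y hy l =>
        MulAction.mem_stabilizer_iff.1 (zpow_mem (MulAction.mem_stabilizer_iff.2 (hzO2 y hy)) l)
      rw [mul_smul, hfix _ (hPinv2 h b hb)]
  obtain ⟨g, hg⟩ := hcl σ fun a b => by
    show ∃ g : G, f a = g • a ∧ f b = g • b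
    rcases hcover a with ha | ha <;> rcases hcover b with hb | hb
    · exact ⟨z, hf1 a ha, hf1 b hb⟩
    · rw [hf1 a ha, hf2 b hb]; exact hpair a ha b hb
    · rw [hf2 a ha, hf1 b hb]
      obtain ⟨g, e1, e2⟩ := hpair b hb a ha
      exact ⟨g, e2, e1⟩
    · exact ⟨h, hf2 a ha, hf2 b hb⟩
  have hgf : ∀ x : Ω, g • x = f x := fun x => (hg x).symm
  have hne3 : ∀ x : Ω, g • x ≠ x := by
    intro x
    rw [hgf]
    rcases hcover x with hx | hx
    · rw [hf1 x hx]; exact hzO1 x hx
    · rw [hf2 x hx]; exact hh1 x hx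
  refine ⟨g, ?_, hne3⟩
  have hit : ∀ (k : ℕ) (x : Ω), (x ∈ O1 → g ^ k • x = z ^ k • x) ∧ (x ∈ O2 → g ^ k • x = (h : G) ^ k • x) := by
    intro k
    induction k with
    | zero => intro x; simp
    | succ k ih =>
      intro x
      refine ⟨fun hx => ?_, fun hx => ?_⟩
      · rw [pow_succ, mul_smul, pow_succ, mul_smul, hgf, hf1 x hx]; exact (ih _).1 (hPinv ⟨z, hz⟩ x hx)
      · rw [pow_succ, mul_smul, pow_succ, mul_smul, hgf, hf2 x hx]; exact (ih _).2 (hPinv2 h x hx)
  have hgp : g ^ p = 1 := FaithfulSMul.eq_of_smul_eq_smul (α := Ω) fun x => by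
    rw [one_smul]
    rcases hcover x with hx | hx
    · rw [(hit p x).1 hx, ← hzp, pow_orderOf_eq_one, one_smul]
    · rw [(hit p x).2 hx]; exact hhp x hx
  rw [orderOf_eq_prime hgp fun e => hne3 a0 (by rw [e, one_smul])]
  exact hp

end Cfsg.Agent.S3557

namespace Cfsg.Agent.S3557

/-- Let G act faithfully and transitively on a finite set with 2p² points, p a prime, and suppose G is 2-closed: every permutation of the set which, on each ordered pair of points, agrees with some element of G, is itself induced by an element of G. Then some element of G of prime order fixes no point. -/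
theorem result {G Ω : Type*} [Group G] [Finite G] [MulAction G Ω] [FaithfulSMul G Ω] [Finite Ω]
    (htrans : MulAction.IsPretransitive G Ω) (p : ℕ) (hp : p.Prime) (hcard : Nat.card Ω = 2 * p ^ 2)
    (hcl : ∀ σ : Equiv.Perm Ω, (∀ a b : Ω, ∃ g : G, σ a = g • a ∧ σ b = g • b) → ∃ g : G, ∀ a : Ω, σ a = g • a) :
    ∃ g : G, (orderOf g).Prime ∧ ∀ ω : Ω, g • ω ≠ ω := by
  classical
  haveI := Fact.mk hp
  obtain ⟨P⟩ : Nonempty (Sylow p G) := inferInstance
  have hpos : 0 < Nat.card Ω := by rw [hcard]; have := hp.pos; positivity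
  haveI : Nonempty Ω := (Nat.card_pos_iff.1 hpos).1
  -- the orbits are large
  have hbig : ∀ a : Ω, p ^ 2 ∣ (MulAction.stabilizer (P : Subgroup G) a).index := by
    intro a
    obtain ⟨k, hk⟩ := IsPGroup.iff_card.1 P.2
    obtain ⟨j, hj⟩ := IsPGroup.iff_card.1 (P.2.to_subgroup (MulAction.stabilizer (P : Subgroup G) a))
    have h1 : (MulAction.stabilizer (P : Subgroup G) a).index * p ^ j = p ^ k := by
      rw [← hj, ← hk, Subgroup.index_mul_card]
    have h2 : p ^ j ∣ Nat.card (MulAction.stabilizer G a) := by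
      rw [← hj]
      exact (Subgroup.card_subtype _ _).symm.dvd.trans (Subgroup.card_dvd_of_le (by
        rintro _ ⟨x, hx, rfl⟩; exact hx))
    have hidx : (MulAction.stabilizer G a).index = 2 * p ^ 2 := by
      haveI := htrans
      rw [MulAction.index_stabilizer, MulAction.orbit_eq_univ, Set.ncard_univ, hcard]
    have h3 : p ^ 2 * p ^ j ∣ Nat.card G := by
      rw [← (MulAction.stabilizer G a).index_mul_card, hidx]
      exact Nat.mul_dvd_mul (dvd_mul_left _ _) h2
    rw [← pow_add] at h3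
    have h4 := (hp.pow_dvd_iff_le_factorization Nat.card_pos.ne').1 h3
    have h5 : (Nat.card G).factorization p = k := by
      have := P.card_eq_multiplicity
      rw [hk] at this
      exact (Nat.pow_right_injective hp.two_le this).symm
    rw [show k = (k - j) + j by omega, pow_add] at h1
    rw [Nat.eq_of_mul_eq_mul_right (pow_pos hp.pos j) h1]
    exact pow_dvd_pow p (by omega)
  have horb : ∀ a : Ω, (MulAction.orbit (P : Subgroup G) a).ncard = (MulAction.stabilizer (P : Subgroup G) a).index :=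
    fun a => (MulAction.index_stabilizer _ a).symm
  have hPne : (P : Subgroup G) ≠ ⊥ := by
    intro e
    obtain ⟨a⟩ := ‹Nonempty Ω›
    have h1 : Nat.card (P : Subgroup G) = 1 := by rw [e, Subgroup.card_bot]
    have := (hbig a).trans (Subgroup.index_dvd_card _)
    rw [h1, Nat.dvd_one] at this
    have := hp.two_le
    nlinarith
  haveI : Nontrivial (P : Subgroup G) := (Subgroup.nontrivial_iff_ne_bot _).2 hPne
  have hZne := P.2.center_nontrivial
  obtain ⟨j, hj⟩ := IsPGroup.iff_card.1 (P.2.to_subgroup (Subgroup.center (P : Subgroup G)))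
  have hj0 : j ≠ 0 := fun e => by
    rw [e, pow_zero] at hj
    exact absurd hj (Finite.one_lt_card_iff_nontrivial.2 hZne).ne'
  obtain ⟨⟨⟨z, hz⟩, hzc⟩, hzo⟩ := exists_prime_orderOf_dvd_card' p (hj ▸ dvd_pow_self p hj0)
  rw [Subgroup.orderOf_mk, Subgroup.orderOf_mk] at hzo
  have hzc' : ∀ g ∈ (P : Subgroup G), g * z = z * g := fun g hg => congrArg Subtype.val (Subgroup.mem_center_iff.1 hzc ⟨g, hg⟩)
  by_cases hfree : ∀ ω : Ω, z • ω ≠ ω
  · exact ⟨z, hzo.symm ▸ hp, hfree⟩
  push Not at hfree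
  obtain ⟨b0, hb0⟩ := hfree
  obtain ⟨a0, ha0⟩ : ∃ a : Ω, z • a ≠ a := by
    by_contra hall; push Not at hall
    have : z = 1 := FaithfulSMul.eq_of_smul_eq_smul (α := Ω) fun a => by rw [hall a, one_smul]
    rw [this, orderOf_one] at hzo
    exact hp.ne_one hzo.symm
  have hfixorb : ∀ x ∈ MulAction.orbit (P : Subgroup G) b0, z • x = x := by
    rintro _ ⟨g, rfl⟩
    show z • (g : G) • b0 = (g : G) • b0
    rw [← mul_smul, ← hzc' g g.2, mul_smul, hb0]
  have hdisj : Disjoint (MulAction.orbit (P : Subgroup G) a0) (MulAction.orbit (P : Subgroup G) b0) := by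
    rw [Set.disjoint_left]
    intro x hx hx'
    obtain ⟨g, rfl⟩ := hx
    apply ha0
    apply MulAction.injective (g : G)
    show (g : G) • z • a0 = (g : G) • a0
    rw [← mul_smul, hzc' g g.2, mul_smul]; exact hfixorb _ hx'
  have hu := Set.ncard_union_eq hdisj
  rw [horb, horb] at hu
  have hle : ((MulAction.orbit (P : Subgroup G) a0) ∪ (MulAction.orbit (P : Subgroup G) b0)).ncard ≤ 2 * p ^ 2 := by
    rw [← hcard, ← Set.ncard_univ]; exact Set.ncard_le_ncard (Set.subset_univ _)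
  have h1 := Nat.le_of_dvd (Nat.pos_of_ne_zero Subgroup.index_ne_zero_of_finite) (hbig a0)
  have h2 := Nat.le_of_dvd (Nat.pos_of_ne_zero Subgroup.index_ne_zero_of_finite) (hbig b0)
  have huniv : (MulAction.orbit (P : Subgroup G) a0) ∪ (MulAction.orbit (P : Subgroup G) b0) = Set.univ :=
    Set.eq_of_subset_of_ncard_le (Set.subset_univ _) (by rw [Set.ncard_univ, hcard]; omega)
  exact glue hcl (P : Subgroup G) P.2 a0 b0 (fun x => by rw [← Set.mem_union, huniv]; trivial)
    (by omega) (by omega) z hz hzo hzc' ha0 hb0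

end Cfsg.Agent.S3557
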