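import Cfsg.Statements.S3560
import Mathlib.GroupTheory.GroupAction.Primitive
import Mathlib.GroupTheory.GroupAction.MultipleTransitivity
import Mathlib.Data.Fintype.Card
-- import your own Cfsg.Agent.* helpers here

set_option autoImplicit false
open Cfsg

namespace Cfsg.Agent.S3560

variable {n m : ℕ} {ι : Type*}

/-- Two points differ in exactly one coordinate. -/
def Adj (φ : Fin n ≃ (ι → Fin m)) (a b : Fin n) : Prop :=
  ∃ i, φ a i ≠ φ b i ∧ ∀ j, j ≠ i → φ a j = φ b j

/-- The automorphism group of the Hamming graph. -/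
def hamming (φ : Fin n ≃ (ι → Fin m)) : Subgroup (Equiv.Perm (Fin n)) where
  carrier := {g | ∀ a b, Adj φ (g a) (g b) ↔ Adj φ a b}
  one_mem' := fun a b => Iff.rfl
  mul_mem' := fun {g h} hg hh a b => (hg (h a) (h b)).trans (hh a b)
  inv_mem' := fun {g} hg a b => by
    have := hg (g⁻¹ a) (g⁻¹ b)
    rw [← Equiv.Perm.mul_apply, ← Equiv.Perm.mul_apply, mul_inv_cancel] at this
    exact this.symm

/-- Permute the coordinates and then the values in each coordinate. -/
def prodPerm (φ : Fin n ≃ (ι → Fin m)) (π : Equiv.Perm ι) (σ : ι → Equiv.Perm (Fin m)) :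
    Equiv.Perm (Fin n) :=
  φ.trans (((Equiv.arrowCongr π (Equiv.refl (Fin m))).trans (Equiv.piCongrRight σ)).trans φ.symm)

theorem prodPerm_apply (φ : Fin n ≃ (ι → Fin m)) (π : Equiv.Perm ι) (σ : ι → Equiv.Perm (Fin m))
    (a : Fin n) (k : ι) : φ (prodPerm φ π σ a) k = σ k (φ a (π.symm k)) := by
  simp [prodPerm, Equiv.arrowCongr]

theorem prodPerm_mem (φ : Fin n ≃ (ι → Fin m)) (π : Equiv.Perm ι) (σ : ι → Equiv.Perm (Fin m)) :
    prodPerm φ π σ ∈ hamming φ := by
  intro a b
  simp only [Adj, prodPerm_apply, (σ _).injective.ne_iff, (σ _).injective.eq_iff]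
  constructor
  · rintro ⟨i, hi, h⟩
    refine ⟨π.symm i, hi, fun j hj => ?_⟩
    have := h (π j) (fun e => hj (by rw [← e, Equiv.symm_apply_apply]))
    rwa [Equiv.symm_apply_apply] at this
  · rintro ⟨i, hi, h⟩
    refine ⟨π i, by rwa [Equiv.symm_apply_apply], fun j hj => h _ ?_⟩
    exact fun e => hj (by rw [← e, Equiv.apply_symm_apply])

theorem exists_perm_two {x y x' y' : Fin m} (h : x ≠ y) (h' : x' ≠ y') :
    ∃ σ : Equiv.Perm (Fin m), σ x = x' ∧ σ y = y' := by
  refine ⟨Equiv.swap (Equiv.swap x x' y) y' * Equiv.swap x x', ?_, ?_⟩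
  · rw [Equiv.Perm.mul_apply, Equiv.swap_apply_left, Equiv.swap_apply_of_ne_of_ne ?_ h']
    intro e
    have := (Equiv.swap x x').injective ((Equiv.swap_apply_left x x').trans e)
    exact h this
  · rw [Equiv.Perm.mul_apply, Equiv.swap_apply_left]

/-- The stabilizer of a point is transitive on its neighbours. -/
theorem nbr_trans [DecidableEq ι] (φ : Fin n ≃ (ι → Fin m)) {a b c : Fin n} (hb : Adj φ a b) (hc : Adj φ a c) :
    ∃ g ∈ hamming φ, g a = a ∧ g b = c := by
  obtain ⟨i, hi, hib⟩ := hb
  obtain ⟨j, hj, hjc⟩ := hc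
  obtain ⟨τ, hτa, hτb⟩ := exists_perm_two hi hj
  refine ⟨prodPerm φ (Equiv.swap i j)
    (fun k => if k = j then τ else Equiv.swap (φ a ((Equiv.swap i j).symm k)) (φ a k)),
    prodPerm_mem _ _ _, ?_, ?_⟩ <;> refine φ.injective (funext fun k => ?_) <;>
    rw [prodPerm_apply, Equiv.symm_swap] <;> by_cases hk : k = j
  · subst hk; simp [hτa]
  · simp [hk]
  · subst hk; simp [hτb]
  · rw [if_neg hk, ← hib (Equiv.swap i j k) ?_, ← hjc k hk]
    · exact Equiv.swap_apply_left _ _
    · intro e
      exact hk (by rw [← Equiv.swap_apply_self i j k, e, Equiv.swap_apply_left])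

theorem hamming_preprimitive [Fintype ι] [DecidableEq ι] (φ : Fin n ≃ (ι → Fin m)) (hm : 3 ≤ m)
    [MulAction.IsPretransitive ↥(hamming φ) (Fin n)] :
    MulAction.IsPreprimitive ↥(hamming φ) (Fin n) := by
  refine MulAction.IsPreprimitive.mk fun {B} hB => ?_
  by_cases hs : B.Subsingleton
  · exact .inl hs
  refine .inr (Set.eq_univ_of_forall ?_)
  obtain ⟨a, ha, b, hb, hab⟩ := Set.not_subsingleton_iff.1 hs
  have stab : ∀ g ∈ hamming φ, ∀ x ∈ B, g x ∈ B → ∀ y ∈ B, g y ∈ B := by
    intro g hg x hx hgx y hy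
    have := hB.smul_eq_of_mem (g := (⟨g, hg⟩ : ↥(hamming φ))) hx hgx
    rw [← this]
    exact Set.smul_mem_smul_set hy
  obtain ⟨i, hi⟩ : ∃ i, φ a i ≠ φ b i := Function.ne_iff.1 (fun e => hab (φ.injective e))
  obtain ⟨c, hca, hcb⟩ : ∃ c : Fin m, c ≠ φ a i ∧ c ≠ φ b i := by
    by_contra hcon
    push Not at hcon
    have hsub : (Finset.univ : Finset (Fin m)) ⊆ {φ a i, φ b i} := fun c _ => by
      by_cases h : c = φ a i
      · simp [h]
      · simp [hcon c h]
    have := (Finset.card_le_card hsub).trans Finset.card_le_two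
    simp at this
    omega
  set g := prodPerm φ (Equiv.refl ι) (Function.update (fun _ => 1) i (Equiv.swap (φ b i) c)) with hgdef
  have hga : g a = a := φ.injective (funext fun k => by
    rw [hgdef, prodPerm_apply]
    by_cases hk : k = i
    · subst hk; simp [Equiv.swap_apply_of_ne_of_ne hi hca.symm]
    · simp [hk])
  have hgb : g b ∈ B := stab g (prodPerm_mem _ _ _) a ha (by rw [hga]; exact ha) b hb
  have hadj : Adj φ b (g b) := by
    refine ⟨i, ?_, fun k hk => ?_⟩
    · rw [hgdef, prodPerm_apply]; simpa using hcb.symm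
    · rw [hgdef, prodPerm_apply]; simp [hk]
  have nb : ∀ y ∈ B, ∀ z, Adj φ y z → z ∈ B := by
    have h0 : ∀ z, Adj φ b z → z ∈ B := by
      intro z hz
      obtain ⟨u, hu, hub, huz⟩ := nbr_trans φ hadj hz
      rw [← huz]
      exact stab u hu b hb (by rw [hub]; exact hb) _ hgb
    intro y hy z hz
    obtain ⟨t, ht⟩ := MulAction.exists_smul_eq ↥(hamming φ) b y
    have ht' : (t : Equiv.Perm (Fin n)) b = y := ht
    have := stab _ t.2 b hb (by rw [ht']; exact hy) _
      (h0 ((t : Equiv.Perm (Fin n)).symm z) ((t.2 _ _).1 (by rw [ht', Equiv.apply_symm_apply]; exact hz)))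
    rwa [Equiv.apply_symm_apply] at this
  intro z
  have : ∀ s : Finset ι, ∀ z, (∀ k ∉ s, φ z k = φ a k) → z ∈ B := by
    intro s
    induction s using Finset.induction with
    | empty =>
      intro z hz
      rwa [φ.injective (funext fun k => hz k (Finset.notMem_empty k))]
    | insert k s hks ih =>
      intro z hz
      by_cases hzk : φ z k = φ a k
      · exact ih z fun l hl => by
          by_cases h : l = k
          · rw [h]; exact hzk
          · exact hz l (by simp [h, hl])
      · set y := φ.symm (Function.update (φ z) k (φ a k)) with hy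
        refine nb y (ih y fun l hl => ?_) z ⟨k, ?_, fun l hl => ?_⟩
        · rw [hy, Equiv.apply_symm_apply]
          by_cases h : l = k
          · subst h; simp
          · rw [Function.update_of_ne h]; exact hz l (by simp [h, hl])
        · rw [hy, Equiv.apply_symm_apply]; simpa using Ne.symm hzk
        · rw [hy, Equiv.apply_symm_apply, Function.update_of_ne hl]
  exact this Finset.univ z (by simp)

end Cfsg.Agent.S3560

namespace Cfsg.Agent.S3560

/-- Let K be a finite group isomorphic to a direct product of r ≥ 2 groups all of the same order m ≥ 3. Then K is not a B-group: there is a primitive but not doubly transitive permutation group (on some finite set) containing a regular subgroup isomorphic to K. -/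
theorem result {K : Type*} [Group K] [Finite K] {ι : Type*} [Fintype ι] (F : ι → Type*) [∀ i, Group (F i)]
    (hr : 2 ≤ Fintype.card ι) (m : ℕ) (hm : 3 ≤ m) (hcard : ∀ i, Nat.card (F i) = m) (e : K ≃* (∀ i, F i)) :
    ∃ (n : ℕ) (G R : Subgroup (Equiv.Perm (Fin n))), R ≤ G ∧ Nonempty (↥R ≃* K) ∧
      MulAction.IsPretransitive ↥R (Fin n) ∧ (∀ a : Fin n, MulAction.stabilizer ↥R a = ⊥) ∧
      MulAction.IsPreprimitive ↥G (Fin n) ∧ ¬ MulAction.IsMultiplyPretransitive ↥G (Fin n) 2 := by
  classical
  have : ∀ i, Finite (F i) := fun i => Nat.finite_of_card_ne_zero (by rw [hcard i]; omega)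
  let ψ : (∀ i, F i) ≃ Fin (Nat.card (∀ i, F i)) := Finite.equivFin _
  let u : ∀ i, F i ≃ Fin m := fun i => (Finite.equivFin _).trans (finCongr (hcard i))
  let φ : Fin (Nat.card (∀ i, F i)) ≃ (ι → Fin m) := ψ.symm.trans (Equiv.piCongrRight u)
  let L : K →* Equiv.Perm (Fin (Nat.card (∀ i, F i))) :=
    { toFun := fun k => ψ.permCongr (Equiv.mulLeft (e k))
      map_one' := by ext; simp
      map_mul' := fun a b => by ext; simp [mul_assoc] }
  have hL : ∀ k a, L k a = ψ (e k * ψ.symm a) := fun k a => rfl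
  have hinj : Function.Injective L := fun a b h => by
    have := Equiv.ext_iff.1 h (ψ 1)
    simpa [hL] using this
  have hle : L.range ≤ hamming φ := by
    rintro _ ⟨k, rfl⟩ a b
    simp [Adj, φ, hL]
  have htr : MulAction.IsPretransitive ↥L.range (Fin (Nat.card (∀ i, F i))) := by
    refine ⟨fun a b => ⟨⟨_, e.symm (ψ.symm b * (ψ.symm a)⁻¹), rfl⟩, ?_⟩⟩
    show L _ a = b
    rw [hL, MulEquiv.apply_symm_apply, inv_mul_cancel_right, Equiv.apply_symm_apply]
  have : MulAction.IsPretransitive ↥(hamming φ) (Fin (Nat.card (∀ i, F i))) :=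
    ⟨fun a b => by
      obtain ⟨g, hg⟩ := MulAction.exists_smul_eq ↥L.range a b
      exact ⟨⟨g.1, hle g.2⟩, hg⟩⟩
  refine ⟨_, hamming φ, L.range, hle, ⟨(MonoidHom.ofInjective hinj).symm⟩, htr, fun a => ?_,
    hamming_preprimitive φ hm, ?_⟩
  · rw [Subgroup.eq_bot_iff_forall]
    rintro ⟨g, k, rfl⟩ hg
    have h : L k a = a := hg
    have : e k = 1 := by simpa [hL, Equiv.apply_eq_iff_eq_symm_apply] using h
    refine Subtype.ext ?_
    show L k = 1
    rw [(map_eq_one_iff e e.injective).1 this, map_one]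
  · intro h2
    obtain ⟨i, j, hij⟩ := Fintype.exists_pair_of_one_lt_card (α := ι) (by omega)
    let o : Fin m := ⟨0, by omega⟩
    let l : Fin m := ⟨1, by omega⟩
    have hol : o ≠ l := by simp [o, l]
    let a := φ.symm fun _ => o
    let b := φ.symm (Function.update (fun _ => o) i l)
    let c := φ.symm (Function.update (Function.update (fun _ => o) i l) j l)
    have hab : Adj φ a b := ⟨i, by simp [a, b, hol], fun k hk => by simp [a, b, hk]⟩
    have hac : ¬ Adj φ a c := by
      rintro ⟨k, hk, h⟩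
      by_cases hkj : k = j
      · have := h i (by rw [hkj]; exact hij)
        simp [a, c, hij, hol] at this
      · have := h j (Ne.symm hkj)
        simp [a, c, hol] at this
    have hab' : a ≠ b := fun e' => by
      obtain ⟨k, hk, _⟩ := hab
      exact hk (by rw [e'])
    have hac' : a ≠ c := fun e' => by
      have := congr_fun (congrArg φ e') j
      simp [a, c, hol] at this
    obtain ⟨g, hga, hgb⟩ := MulAction.is_two_pretransitive_iff.1 h2 hab' hac'
    have := (g.2 a b).2 hab
    rw [show (g : Equiv.Perm _) a = a from hga, show (g : Equiv.Perm _) b = c from hgb] at this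
    exact hac this

end Cfsg.Agent.S3560
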