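import Cfsg.Statements.S3573
import Mathlib.GroupTheory.Perm.Cycle.Type
import Mathlib.Data.Nat.Choose.Lucas
import Mathlib.Data.Nat.Prime.Factorial
-- import your own Cfsg.Agent.* helpers here

set_option autoImplicit false
open Cfsg

namespace Cfsg.Agent.S3573

theorem union_cycles {α : Type*} [Fintype α] [DecidableEq α] (σ : Equiv.Perm α) (F : Finset (Equiv.Perm α))
    (hF : F ⊆ σ.cycleFactorsFinset) (T : Finset α) (hT : T ⊆ σ.supportᶜ) :
    ((F.biUnion Equiv.Perm.support) ∪ T).image σ = F.biUnion Equiv.Perm.support ∪ T ∧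
      ((F.biUnion Equiv.Perm.support) ∪ T).card = ∑ c ∈ F, c.support.card + T.card := by
  have hdis : (F : Set (Equiv.Perm α)).PairwiseDisjoint Equiv.Perm.support := fun a ha b hb hab =>
    Equiv.Perm.disjoint_iff_disjoint_support.1 (σ.cycleFactorsFinset_pairwise_disjoint (hF ha) (hF hb) hab)
  have hsub : F.biUnion Equiv.Perm.support ⊆ σ.support := by
    intro x hx
    obtain ⟨c, hc, hxc⟩ := Finset.mem_biUnion.1 hx
    exact Equiv.Perm.mem_cycleFactorsFinset_support_le (hF hc) hxc
  refine ⟨Finset.eq_of_subset_of_card_le ?_ (by rw [Finset.card_image_of_injective _ σ.injective]), ?_⟩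
  · intro y hy
    obtain ⟨x, hx, rfl⟩ := Finset.mem_image.1 hy
    rcases Finset.mem_union.1 hx with h | h
    · obtain ⟨c, hc, hxc⟩ := Finset.mem_biUnion.1 h
      refine Finset.mem_union_left _ (Finset.mem_biUnion.2 ⟨c, hc, ?_⟩)
      rw [← (Equiv.Perm.mem_cycleFactorsFinset_iff.1 (hF hc)).2 x hxc, Equiv.Perm.apply_mem_support]
      exact hxc
    · rw [Equiv.Perm.notMem_support.1 (Finset.mem_compl.1 (hT h))]
      exact Finset.mem_union_right _ h
  · rw [Finset.card_union_of_disjoint, Finset.card_biUnion hdis]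
    exact Finset.disjoint_left.2 fun x hx hx' => Finset.mem_compl.1 (hT hx') (hsub hx)

theorem crit (n k : ℕ) (hk1 : 1 ≤ k) (hkn : k ≤ n) (r : ℕ) (hr : r.Prime) (hrn : r ≤ n) :
    (∀ σ : Equiv.Perm (Fin n), orderOf σ = r → ∃ s : Finset (Fin n), s.card = k ∧ s.image σ = s) ↔ k % r ≤ n % r := by
  classical
  haveI := Fact.mk hr
  constructor
  · intro h
    obtain ⟨g, hg⟩ := (Equiv.Perm.exists_with_cycleType_iff (α := Fin n) (m := Multiset.replicate (n / r) r)).2
      ⟨by rw [Multiset.sum_replicate, smul_eq_mul, Fintype.card_fin]; exact Nat.div_mul_le_self n r,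
        fun a ha => (Multiset.eq_of_mem_replicate ha).symm ▸ hr.two_le⟩
    have hne : n / r ≠ 0 := (Nat.div_pos hrn hr.pos).ne'
    have hord : orderOf g = r := by
      rw [← g.lcm_cycleType, hg]
      refine Nat.dvd_antisymm (Multiset.lcm_dvd.2 fun b hb => (Multiset.eq_of_mem_replicate hb) ▸ dvd_rfl) ?_
      exact Multiset.dvd_lcm (Multiset.mem_replicate.2 ⟨hne, rfl⟩)
    obtain ⟨s, hs, hsi⟩ := h g hord
    have hmem : ∀ x, x ∈ s → g x ∈ s := fun x hx => hsi ▸ Finset.mem_image_of_mem g hx
    let f : Function.End s := fun x => ⟨g x, hmem x x.2⟩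
    have hfp : ∀ j (x : s), (((f ^ j : Function.End s) x : s) : Fin n) = (g ^ j) x := by
      intro j
      induction j with
      | zero => intro x; rfl
      | succ j ih =>
        intro x
        rw [pow_succ, pow_succ]
        show (((f ^ j : Function.End s) (f x) : s) : Fin n) = _
        rw [ih]; rfl
    have hf1 : f ^ r ^ 1 = 1 := funext fun x => Subtype.ext (by
      rw [hfp, pow_one, ← hord, pow_orderOf_eq_one]; rfl)
    have hmod : k ≡ Fintype.card f.fixedPoints [MOD r] := by
      have := Equiv.Perm.card_fixedPoints_modEq hf1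
      rwa [Fintype.card_coe, hs] at this
    have hle : Fintype.card f.fixedPoints ≤ n % r := by
      have hcard : (g.support)ᶜ.card = n % r := by
        rw [Finset.card_compl, Fintype.card_fin, ← g.sum_cycleType, hg, Multiset.sum_replicate, smul_eq_mul]
        have := Nat.mod_add_div n r
        rw [mul_comm r] at this
        omega
      rw [← hcard, ← Fintype.card_coe]
      refine Fintype.card_le_of_injective (fun x => ⟨(x.1 : s), ?_⟩) fun x y e => ?_
      · rw [Finset.mem_compl, Equiv.Perm.notMem_support]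
        exact congrArg Subtype.val x.2
      · simp only [Subtype.mk.injEq] at e
        exact Subtype.ext (Subtype.ext e)
    calc k % r = Fintype.card f.fixedPoints % r := hmod
      _ ≤ Fintype.card f.fixedPoints := Nat.mod_le _ _
      _ ≤ _ := hle
  · intro hkr σ hσ
    obtain ⟨j, hj⟩ := Equiv.Perm.cycleType_prime_order (σ := σ) (hσ.symm ▸ hr)
    rw [hσ] at hj
    have hcardF : σ.cycleFactorsFinset.card = j + 1 := by
      have := congrArg Multiset.card hj
      rw [Equiv.Perm.cycleType_def, Multiset.card_map, Multiset.card_replicate] at this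
      exact this
    have hsupp : ∀ c ∈ σ.cycleFactorsFinset, c.support.card = r := fun c hc => by
      have : c.support.card ∈ σ.cycleType := by
        rw [Equiv.Perm.cycleType_def]; exact Multiset.mem_map.2 ⟨c, hc, rfl⟩
      rw [hj] at this
      exact Multiset.eq_of_mem_replicate this
    have hfix : (σ.support)ᶜ.card = n - (j + 1) * r := by
      rw [Finset.card_compl, Fintype.card_fin, ← σ.sum_cycleType, hj, Multiset.sum_replicate, smul_eq_mul]
    have hjn : (j + 1) * r ≤ n := by
      have := σ.sum_cycleType_le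
      rwa [hj, Multiset.sum_replicate, smul_eq_mul, Fintype.card_fin] at this
    obtain ⟨i, hi1, hi2, hi3⟩ : ∃ i, i ≤ j + 1 ∧ i * r ≤ k ∧ k - i * r ≤ n - (j + 1) * r := by
      rcases Nat.le_total (k / r) (j + 1) with h | h
      · refine ⟨k / r, h, Nat.div_mul_le_self k r, ?_⟩
        have h1 := Nat.mod_add_div k r
        have h2 := Nat.mod_add_div n r
        have h3 : j + 1 ≤ n / r := (Nat.le_div_iff_mul_le hr.pos).2 hjn
        have h4 : (j + 1) * r ≤ n / r * r := Nat.mul_le_mul_right r h3
        rw [mul_comm r] at h1 h2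
        omega
      · exact ⟨j + 1, le_rfl, (Nat.le_div_iff_mul_le hr.pos).1 h, by omega⟩
    obtain ⟨F, hFs, hFc⟩ := Finset.exists_subset_card_eq (hcardF.symm ▸ hi1 : i ≤ σ.cycleFactorsFinset.card)
    obtain ⟨T, hTs, hTc⟩ := Finset.exists_subset_card_eq (hfix.symm ▸ hi3 : k - i * r ≤ (σ.support)ᶜ.card)
    obtain ⟨h1, h2⟩ := union_cycles σ F hFs T hTs
    refine ⟨_, ?_, h1⟩
    rw [h2, Finset.sum_congr rfl fun c hc => hsupp c (hFs hc), Finset.sum_const, smul_eq_mul, hFc, hTc]
    omega

end Cfsg.Agent.S3573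

namespace Cfsg.Agent.S3573

/-- Let 1 ≤ k with 2k < n and consider the symmetric group of degree n acting on the k-subsets of an n-set. Let r be a prime dividing the number C(n,k) of k-subsets. If r is odd, then every permutation of order r fixes some k-subset if and only if r ≤ k and the remainder of k modulo r is at most the remainder of n modulo r. If r = 2, then every involution fixes some k-subset if and only if k is even or n is odd. -/
theorem result (n k : ℕ) (hk : 1 ≤ k) (hkn : 2 * k < n) (r : ℕ) (hr : r.Prime) (hrd : r ∣ Nat.choose n k) :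
    (r ≠ 2 → ((∀ σ : Equiv.Perm (Fin n), orderOf σ = r → ∃ s : Finset (Fin n), s.card = k ∧ s.image σ = s) ↔
      (r ≤ k ∧ k % r ≤ n % r))) ∧
    (r = 2 → ((∀ σ : Equiv.Perm (Fin n), orderOf σ = 2 → ∃ s : Finset (Fin n), s.card = k ∧ s.image σ = s) ↔
      (Even k ∨ Odd n))) := by
  haveI := Fact.mk hr
  have hrn : r ≤ n := by
    have h : r ∣ n.factorial := by
      rw [← Nat.choose_mul_factorial_mul_factorial (show k ≤ n by omega), mul_assoc]
      exact dvd_mul_of_dvd_left hrd _
    exact hr.dvd_factorial.1 h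
  refine ⟨fun _ => ?_, fun h2 => ?_⟩
  · rw [crit n k hk (by omega) r hr hrn]
    refine ⟨fun h => ⟨?_, h⟩, fun h => h.2⟩
    by_contra hlt
    push Not at hlt
    rw [Nat.mod_eq_of_lt hlt] at h
    have hmod := Choose.choose_modEq_choose_mod_mul_choose_div_nat (n := n) (k := k) (p := r)
    rw [Nat.mod_eq_of_lt hlt, Nat.div_eq_of_lt hlt, Nat.choose_zero_right, mul_one] at hmod
    have h3 : r ∣ (n % r).choose k := (hmod.dvd_iff dvd_rfl).1 hrd
    have h4 : r ∣ (n % r).factorial := by
      rw [← Nat.choose_mul_factorial_mul_factorial h, mul_assoc]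
      exact dvd_mul_of_dvd_left h3 _
    exact absurd (hr.dvd_factorial.1 h4) (not_le.2 (Nat.mod_lt n hr.pos))
  · subst h2
    rw [crit n k hk (by omega) 2 hr hrn, Nat.even_iff, Nat.odd_iff]
    omega

end Cfsg.Agent.S3573
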