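import Cfsg.Statements.S3599
import Cfsg.Agent.Base.Spectrum.MinTwoPrime

set_option autoImplicit false
open Cfsg

namespace Cfsg.Agent.S3599

theorem ord_pi {s : ℕ} {K : Fin s → Type} [∀ j, Group (K j)] (g : ∀ j, K j)
    (h : ∀ i j, i ≠ j → Nat.Coprime (orderOf (g i)) (orderOf (g j))) : orderOf g = ∏ j, orderOf (g j) := by
  refine Nat.dvd_antisymm (orderOf_dvd_of_pow_eq_one (funext fun j => ?_)) ?_
  · exact orderOf_dvd_iff_pow_eq_one.1 (Finset.dvd_prod_of_mem (fun j => orderOf (g j)) (Finset.mem_univ j))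
  · refine Finset.prod_dvd_of_isRelPrime ?_ fun j _ => orderOf_map_dvd (Pi.evalMonoidHom K j) g
    intro i _ j _ hij
    exact Nat.coprime_iff_isRelPrime.1 (h i j hij)

/-- A finite group is critical with respect to a set Ω of natural numbers when its set of element orders is Ω while no proper section H/N (H a subgroup, N normal in H, (H, N) ≠ (whole group, 1)) has Ω as its set of element orders. Let s ≥ 1 and let p(j,0), p(j,1) (j < s) be 2s pairwise distinct primes, and let Ω be the set of all products c(0)·…·c(s−1) with each c(j) ∈ {1, p(j,0), p(j,1)}. Then there are 2^s pairwise non-isomorphic finite groups critical with respect to Ω. -/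
theorem result (s : ℕ) (hs : 1 ≤ s) (p : Fin s → Fin 2 → ℕ)
    (hp : ∀ j i, (p j i).Prime) (hinj : ∀ j i j' i', p j i = p j' i' → j = j' ∧ i = i') :
    ∃ (G : Fin (2 ^ s) → Type) (_ : ∀ a, Group (G a)) (_ : ∀ a, Fintype (G a)),
      (∀ a b, a ≠ b → ¬ Nonempty (G a ≃* G b)) ∧
      ∀ a, Set.range (orderOf : (G a) → ℕ) = {m : ℕ | ∃ c : Fin s → ℕ, (∀ j, c j = 1 ∨ c j = p j 0 ∨ c j = p j 1) ∧ m = ∏ j, c j} ∧
      ∀ (H : Subgroup (G a)) (N : Subgroup ↥H) [N.Normal], (H ≠ ⊤ ∨ N ≠ ⊥) → Set.range (orderOf : (↥H ⧸ N) → ℕ) ≠ {m : ℕ | ∃ c : Fin s → ℕ, (∀ j, c j = 1 ∨ c j = p j 0 ∨ c j = p j 1) ∧ m = ∏ j, c j} := by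
  classical
  have hne : ∀ j (i : Fin 2), p j i ≠ p j i.rev := fun j i e => by
    have := (hinj j i j i.rev e).2
    revert this; fin_cases i <;> decide
  choose K iG iF hgood hsub hquot using fun j (i : Fin 2) =>
    CfsgLib.MinTwoPrime.exists_minimal (hp j i) (hp j i.rev) (hne j i)
  let e : Fin (2 ^ s) ≃ (Fin s → Fin 2) := finFunctionFinEquiv.symm
  letI iG' : ∀ a j, Group (K j (e a j)) := fun a j => iG j (e a j)
  letI iF' : ∀ a j, Fintype (K j (e a j)) := fun a j => iF j (e a j)
  refine ⟨fun a => ∀ j, K j (e a j), fun a => inferInstance, fun a => inferInstance, ?_, ?_⟩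
  all_goals
    have hord : ∀ a j (x : K j (e a j)), orderOf x = 1 ∨ orderOf x = p j 0 ∨ orderOf x = p j 1 := by
      intro a j x
      have h2 : ∀ (i : Fin 2) n, (n = p j i ∨ n = p j i.rev) → n = p j 0 ∨ n = p j 1 := by
        intro i n
        fin_cases i
        · exact id
        · exact Or.symm
      rcases (hgood j (e a j)).orders x with h | h | h
      · exact .inl h
      · exact .inr (h2 _ _ (.inl h))
      · exact .inr (h2 _ _ (.inr h))
    have hex : ∀ a j (i : Fin 2), ∃ x : K j (e a j), orderOf x = p j i := by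
      intro a j i
      by_cases h : i = e a j
      · rw [h]; exact (hgood j (e a j)).has_a
      · rw [show i = (e a j).rev by revert h; generalize e a j = k; fin_cases i <;> fin_cases k <;> decide]
        exact (hgood j (e a j)).has_b
    have hcop : ∀ a i j (x : K i (e a i)) (y : K j (e a j)), i ≠ j → Nat.Coprime (orderOf x) (orderOf y) := by
      intro a i j x y hij
      rcases hord a i x with h | h | h <;> rw [h] <;> rcases hord a j y with h' | h' | h' <;> rw [h'] <;>
        first
        | exact Nat.coprime_one_left _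
        | exact Nat.coprime_one_right _
        | exact (Nat.coprime_primes (hp _ _) (hp _ _)).2 fun e => hij (hinj _ _ _ _ e).1
  · intro a b hab ⟨φ⟩
    obtain ⟨j, hj⟩ := Function.ne_iff.1 (fun h => hab (e.injective h))
    have hb : e b j = (e a j).rev := by
      revert hj; generalize e a j = k; generalize e b j = l; fin_cases k <;> fin_cases l <;> decide
    set q := p j (e a j).rev with hq
    have hqp : q.Prime := hp _ _
    -- the elements killed by `q` are closed in the group of `b`
    have hclosed : ∀ x y : (∀ i, K i (e b i)), x ^ q = 1 → y ^ q = 1 → (x * y) ^ q = 1 := by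
      intro x y hx hy
      funext i
      by_cases hi : i = j
      · have hq' : p i (e b i) = q := by rw [hq, hi, hb]
        have := (hgood i (e b i)).closed (x i) (y i) (hq'.symm ▸ congrFun hx i) (hq'.symm ▸ congrFun hy i)
        exact hq' ▸ this
      · have triv : ∀ z : (∀ i, K i (e b i)), z ^ q = 1 → z i = 1 := by
          intro z hz
          have h := orderOf_dvd_of_pow_eq_one (show z i ^ q = 1 from congrFun hz i)
          rcases hord b i (z i) with h' | h' | h'
          · exact orderOf_eq_one_iff.1 h'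
          all_goals
            rw [h', Nat.prime_dvd_prime_iff_eq (hp _ _) hqp] at h
            exact absurd (hinj _ _ _ _ h).1 hi
        simp [Pi.pow_apply, triv x hx, triv y hy]
    have hclosedK : ∀ x y : K j (e a j), x ^ q = 1 → y ^ q = 1 → (x * y) ^ q = 1 := by
      intro x y hx hy
      have h := hclosed (φ (Pi.mulSingle j x)) (φ (Pi.mulSingle j y))
        (by rw [← map_pow, ← Pi.mulSingle_pow, hx, Pi.mulSingle_one, map_one])
        (by rw [← map_pow, ← Pi.mulSingle_pow, hy, Pi.mulSingle_one, map_one])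
      rw [← map_mul, ← map_pow, ← Pi.mulSingle_mul, ← Pi.mulSingle_pow, map_eq_one_iff φ φ.injective,
        Pi.mulSingle_eq_one_iff] at h
      exact h
    obtain ⟨x, hx⟩ := (hgood j (e a j)).has_a
    obtain ⟨y, hy⟩ := (hgood j (e a j)).has_b
    have hxp : x ^ p j (e a j) = 1 := by rw [← hx, pow_orderOf_eq_one]
    have hyp : y ^ q = 1 := by rw [hq, ← hy, pow_orderOf_eq_one]
    have hconj : ∀ (n : ℕ) (g z : K j (e a j)), z ^ n = 1 → (g * z * g⁻¹) ^ n = 1 := fun n g z hz => by
      rw [conj_pow, hz, mul_one, mul_inv_cancel]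
    have hcp : Nat.Coprime (p j (e a j)) q := (Nat.coprime_primes (hp _ _) hqp).2 (hne _ _)
    have c1 : (x * y * x⁻¹ * y⁻¹) ^ q = 1 :=
      hclosedK _ _ (hconj _ _ _ hyp) (by rw [inv_pow, hyp, inv_one])
    have c2 : (x * y * x⁻¹ * y⁻¹) ^ p j (e a j) = 1 := by
      rw [show x * y * x⁻¹ * y⁻¹ = x * (y * x⁻¹ * y⁻¹) by group]
      exact (hgood j (e a j)).closed _ _ hxp (hconj _ _ _ (by rw [inv_pow, hxp, inv_one]))
    have hc : x * y * x⁻¹ * y⁻¹ = 1 := orderOf_eq_one_iff.1
      (Nat.eq_one_of_dvd_coprimes hcp (orderOf_dvd_of_pow_eq_one c2) (orderOf_dvd_of_pow_eq_one c1))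
    have hcomm : Commute x y := by
      rw [mul_inv_eq_one, mul_inv_eq_iff_eq_mul] at hc
      exact hc
    have hxy := hcomm.orderOf_mul_eq_mul_orderOf_of_coprime (by rw [hx, hy]; exact hcp)
    rw [hx, hy] at hxy
    have h1 := (hp j (e a j)).one_lt
    have h2 := (hp j (e a j).rev).one_lt
    rcases (hgood j (e a j)).orders (x * y) with h | h | h <;> rw [hxy] at h <;> nlinarith
  · intro a
    refine ⟨?_, ?_⟩
    · ext m
      constructor
      · rintro ⟨g, rfl⟩
        exact ⟨fun j => orderOf (g j), fun j => hord a j (g j), ord_pi g fun i j hij => hcop a i j _ _ hij⟩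
      · rintro ⟨c, hc, rfl⟩
        have : ∀ j, ∃ x : K j (e a j), orderOf x = c j := by
          intro j
          rcases hc j with h | h | h <;> rw [h]
          · exact ⟨1, orderOf_one⟩
          · exact hex a j 0
          · exact hex a j 1
        choose g hg using this
        exact ⟨g, (ord_pi g fun i j hij => hcop a i j _ _ hij).trans (Finset.prod_congr rfl fun j _ => hg j)⟩
    · intro H N _ hne' heq
      -- isolate one component by a power
      have iso : ∀ (g : ∀ i, K i (e a i)) (j : Fin s), ∃ t : ℕ, g ^ t = Pi.mulSingle j (g j ^ t) ∧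
          (∀ i, i ≠ j → orderOf (g i) ∣ t) ∧
          ∀ n, (∀ i, i ≠ j → Nat.Coprime n (orderOf (g i))) → Nat.Coprime n t := by
        intro g j
        refine ⟨∏ i ∈ Finset.univ.erase j, orderOf (g i), ?_, fun i hi => Finset.dvd_prod_of_mem _
          (Finset.mem_erase.2 ⟨hi, Finset.mem_univ i⟩), fun n hn => Nat.Coprime.prod_right fun i hi => hn i (Finset.mem_erase.1 hi).1⟩
        funext i
        by_cases hi : i = j
        · subst hi; rw [Pi.mulSingle_eq_same, Pi.pow_apply]
        · rw [Pi.mulSingle_eq_of_ne hi, Pi.pow_apply]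
          exact orderOf_dvd_iff_pow_eq_one.1 (Finset.dvd_prod_of_mem (fun i => orderOf (g i))
            (Finset.mem_erase.2 ⟨hi, Finset.mem_univ i⟩))
      have key : ∀ j (i : Fin 2), ∃ (x : K j (e a j)) (hx : Pi.mulSingle j x ∈ H),
          orderOf x = p j i ∧ orderOf (QuotientGroup.mk' N ⟨_, hx⟩) = p j i := by
        intro j i
        have hm : p j i ∈ Set.range (orderOf : (↥H ⧸ N) → ℕ) := by
          rw [heq]
          refine ⟨fun k => if k = j then p j i else 1, fun k => ?_, by simp⟩
          dsimp only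
          by_cases hk : k = j
          · subst hk
            rw [if_pos rfl]
            fin_cases i
            · exact .inr (.inl rfl)
            · exact .inr (.inr rfl)
          · rw [if_neg hk]; exact .inl rfl
        obtain ⟨u, hu⟩ := hm
        obtain ⟨h, rfl⟩ := QuotientGroup.mk'_surjective N u
        obtain ⟨t, ht, -, htc⟩ := iso (h : ∀ i, K i (e a i)) j
        have hcp : Nat.Coprime (p j i) t := htc _ fun k hk => by
          obtain ⟨y, hy⟩ := hex a j i
          rw [← hy]
          exact hcop a j k _ _ (Ne.symm hk)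
        have hmem : Pi.mulSingle j ((h : ∀ i, K i (e a i)) j ^ t) ∈ H := ht ▸ H.pow_mem h.2 t
        have hq : orderOf (QuotientGroup.mk' N ⟨_, hmem⟩) = p j i := by
          rw [show (⟨_, hmem⟩ : H) = h ^ t from Subtype.ext (by rw [Subgroup.coe_pow, ht]), map_pow,
            Nat.Coprime.orderOf_pow (by rw [hu]; exact hcp), hu]
        refine ⟨_, hmem, ?_, hq⟩
        have hd : p j i ∣ orderOf ((h : ∀ i, K i (e a i)) j ^ t) := by
          have := hq ▸ orderOf_map_dvd (QuotientGroup.mk' N) (⟨_, hmem⟩ : H)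
          rw [← Subgroup.orderOf_coe] at this
          exact (orderOf_injective (MonoidHom.mulSingle (fun i => K i (e a i)) j) (Pi.mulSingle_injective (M := fun i => K i (e a i)) j) _) ▸ this
        rcases hord a j ((h : ∀ i, K i (e a i)) j ^ t) with h' | h' | h' <;> rw [h'] at hd ⊢
        · exact absurd (Nat.dvd_one.1 hd) (hp j i).ne_one
        all_goals exact ((Nat.prime_dvd_prime_iff_eq (hp _ _) (hp _ _)).1 hd).symm
      have hsingle : ∀ j (x : K j (e a j)), Pi.mulSingle j x ∈ H := by
        intro j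
        have : H.comap (MonoidHom.mulSingle (fun i => K i (e a i)) j) = ⊤ := by
          refine hsub j (e a j) _ ?_ ?_
          · obtain ⟨x, hx, hxo, -⟩ := key j (e a j)
            exact ⟨⟨x, hx⟩, by rw [← Subgroup.orderOf_coe]; exact hxo⟩
          · obtain ⟨x, hx, hxo, -⟩ := key j (e a j).rev
            exact ⟨⟨x, hx⟩, by rw [← Subgroup.orderOf_coe]; exact hxo⟩
        intro x
        exact (this ▸ Subgroup.mem_top x : x ∈ H.comap (MonoidHom.mulSingle (fun i => K i (e a i)) j))
      have hH : H = ⊤ := (Subgroup.eq_top_iff' H).2 fun g => Subgroup.pi_mem_of_mulSingle_mem g fun j => hsingle j _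
      refine (hne'.resolve_left (not_not.2 hH)) ?_
      have hbot : ∀ j, N.comap ((MonoidHom.mulSingle (fun i => K i (e a i)) j).codRestrict H (hsingle j)) = ⊥ := by
        intro j
        refine hquot j (e a j) _ ?_ ?_
        all_goals
          obtain ⟨x, hx, hxo, hxq⟩ := key j _
          refine ⟨QuotientGroup.mk x, @orderOf_eq_prime _ _ _ _ ⟨hp _ _⟩ ?_ ?_⟩
          · rw [← QuotientGroup.mk_pow, ← hxo, pow_orderOf_eq_one, QuotientGroup.mk_one]
          · intro h1
            rw [QuotientGroup.eq_one_iff] at h1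
            have : QuotientGroup.mk' N (⟨_, hx⟩ : H) = 1 := (QuotientGroup.eq_one_iff _).2 h1
            rw [this, orderOf_one] at hxq
            exact (hp _ _).ne_one hxq.symm
      refine (Subgroup.eq_bot_iff_forall N).2 fun n hn => Subtype.ext (funext fun j => ?_)
      obtain ⟨t, ht, -, htc⟩ := iso (n : ∀ i, K i (e a i)) j
      have hmem : (n : ∀ i, K i (e a i)) j ^ t ∈
          N.comap ((MonoidHom.mulSingle (fun i => K i (e a i)) j).codRestrict H (hsingle j)) := by
        show (⟨_, _⟩ : H) ∈ N
        have := N.pow_mem hn t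
        rwa [show n ^ t = ⟨_, hsingle j ((n : ∀ i, K i (e a i)) j ^ t)⟩ from Subtype.ext (by rw [Subgroup.coe_pow, ht])] at this
      rw [hbot j, Subgroup.mem_bot] at hmem
      have hcp : Nat.Coprime (orderOf ((n : ∀ i, K i (e a i)) j)) t := htc _ fun k hk => hcop a j k _ _ (Ne.symm hk)
      have h1 := hcp.orderOf_pow
      rw [hmem, orderOf_one] at h1
      exact orderOf_eq_one_iff.1 h1.symm

end Cfsg.Agent.S3599
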