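import Cfsg.Statements.S3619
import Mathlib

set_option autoImplicit false
open Cfsg

namespace Cfsg.Agent.S3619

/-- Let G act faithfully on a finite set in such a way that every non-trivial normal subgroup of G is transitive (G is quasiprimitive). Let Γ be a subset with more than one point and not the whole set, such that the pointwise stabilizer of the complement of Γ acts transitively on Γ (a Jordan set). If that pointwise stabilizer acts primitively on Γ, then G is k-fold transitive where k is one more than the number of points outside Γ (the Jordan set is a trivial one). -/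
theorem result {G Ω : Type*} [Group G] [Finite G] [MulAction G Ω] [FaithfulSMul G Ω] [Finite Ω]
    (hqp : ∀ N : Subgroup G, N.Normal → N ≠ ⊥ → MulAction.IsPretransitive ↥N Ω)
    (Γ : Set Ω) (hΓ1 : 1 < Γ.ncard) (hΓ2 : Γ.ncard < Nat.card Ω)
    (hJ : MulAction.IsPretransitive ↥(fixingSubgroup G Γᶜ) ↥(SubMulAction.ofFixingSubgroup G Γᶜ))
    (hJp : MulAction.IsPreprimitive ↥(fixingSubgroup G Γᶜ) ↥(SubMulAction.ofFixingSubgroup G Γᶜ)) :
    MulAction.IsMultiplyPretransitive G Ω (Nat.card Ω - Γ.ncard + 1) := by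
  classical
  open scoped Pointwise in
  have hG : MulAction.IsPreprimitive G Ω := by
    set H := fixingSubgroup G Γᶜ with hH
    have hfixH : ∀ h ∈ H, ∀ z ∉ Γ, h • z = z := fun h hh z hz => hh ⟨z, hz⟩
    have hmove : ∀ p ∈ Γ, ∀ q ∈ Γ, ∃ h ∈ H, h • p = q := by
      intro p hp q hq
      have hp' : p ∈ SubMulAction.ofFixingSubgroup G Γᶜ := fun h => h hp
      have hq' : q ∈ SubMulAction.ofFixingSubgroup G Γᶜ := fun h => h hq
      obtain ⟨h, hh⟩ := MulAction.exists_smul_eq H (⟨p, hp'⟩ : SubMulAction.ofFixingSubgroup G Γᶜ) ⟨q, hq'⟩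
      exact ⟨h, h.2, congrArg Subtype.val hh⟩
    obtain ⟨p₀, hp₀, q₀, hq₀, hpq₀⟩ := (Set.one_lt_ncard (Set.toFinite Γ)).1 hΓ1
    have hHne : H ≠ ⊥ := by
      intro hb
      obtain ⟨h, hh, hhp⟩ := hmove p₀ hp₀ q₀ hq₀
      rw [hb, Subgroup.mem_bot] at hh
      exact hpq₀ (by rw [← hhp, hh, one_smul])
    haveI htr : MulAction.IsPretransitive G Ω := by
      obtain ⟨h, hh, hh1⟩ := H.bot_or_exists_ne_one.resolve_left hHne
      haveI := hqp ⊤ inferInstance (fun e => hh1 (Subgroup.mem_bot.1 (e ▸ Subgroup.mem_top h)))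
      exact ⟨fun a b => by
        obtain ⟨g, hg⟩ := MulAction.exists_smul_eq (⊤ : Subgroup G) a b
        exact ⟨(g : G), hg⟩⟩
    refine MulAction.IsPreprimitive.mk fun {B} hB => ?_
    by_contra htriv
    rw [MulAction.IsTrivialBlock, not_or] at htriv
    obtain ⟨hBsub, hBuniv⟩ := htriv
    obtain ⟨b, hb⟩ : B.Nonempty := Set.nonempty_iff_ne_empty.2 fun h => hBsub (by simp [h])
    -- the elements fixing every block
    let K : Subgroup G :=
      { carrier := {k | ∀ g : G, k • g • B = g • B}
        one_mem' := fun g => one_smul _ _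
        mul_mem' := fun {k l} hk hl g => by rw [mul_smul, hl g, hk g]
        inv_mem' := fun {k} hk g => by
          conv_lhs => rw [← hk g, inv_smul_smul] }
    have hKn : K.Normal := Subgroup.Normal.mk fun k hk g x => by
      rw [mul_smul, mul_smul, ← mul_smul g⁻¹ x B, hk (g⁻¹ * x), mul_smul, smul_inv_smul]
    have hK : K = ⊥ := by
      by_contra hne
      haveI := hqp K hKn hne
      refine hBuniv (Set.eq_univ_of_forall fun z => ?_)
      obtain ⟨k, hk⟩ := MulAction.exists_smul_eq K b z
      have h1 := k.2 1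
      rw [one_smul] at h1
      rw [← hk, ← h1]
      exact Set.smul_mem_smul_set hb
    have hblock : ∀ g : G, MulAction.IsBlock G (g • B) := fun g => hB.translate g
    -- a block with a point outside `Γ` is stable under `H`
    have hstab : ∀ h ∈ H, ∀ g : G, (∃ z ∈ g • B, z ∉ Γ) → h • g • B = g • B := by
      rintro h hh g ⟨z, hz, hzΓ⟩
      rcases (MulAction.isBlock_iff_smul_eq_or_disjoint.1 (hblock g)) h with he | he
      · exact he
      · exact absurd hz (Set.disjoint_left.1 he (by
          have := Set.smul_mem_smul_set (a := h) hz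
          rwa [hfixH h hh z hzΓ] at this))
    have hrestr : ∀ g : G, (g • B ∩ Γ).Subsingleton ∨ Γ ⊆ g • B := by
      intro g
      have h1 : MulAction.IsBlock H (g • B) := (hblock g).subgroup
      rcases hJp.isTrivialBlock_of_isBlock (h1.subtype_val_preimage (C := SubMulAction.ofFixingSubgroup G Γᶜ)) with h | h
      · refine Or.inl fun x hx y hy => ?_
        exact congrArg Subtype.val (h (x := ⟨x, fun hc => hc hx.2⟩) hx.1 (y := ⟨y, fun hc => hc hy.2⟩) hy.1)
      · exact Or.inr fun x hx => (Set.eq_univ_iff_forall.1 h ⟨x, fun hc => hc hx⟩ : _)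
    obtain ⟨g₀, hg₀⟩ := MulAction.exists_smul_eq G b p₀
    have hp₀B : p₀ ∈ g₀ • B := hg₀ ▸ Set.smul_mem_smul_set hb
    rcases hrestr g₀ with hs | hsub
    · -- the block meets `Γ` only in `p₀`, so it has a point outside
      obtain ⟨z, hz, hzp⟩ : ∃ z ∈ g₀ • B, z ≠ p₀ := by
        by_contra hall
        push Not at hall
        refine hBsub fun u hu v hv => MulAction.injective g₀ ?_
        show g₀ • u = g₀ • v
        rw [hall _ (Set.smul_mem_smul_set hu), hall _ (Set.smul_mem_smul_set hv)]
      have hzΓ : z ∉ Γ := fun hzΓ => hzp (hs ⟨hz, hzΓ⟩ ⟨hp₀B, hp₀⟩)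
      obtain ⟨h, hh, hhp⟩ := hmove p₀ hp₀ q₀ hq₀
      have hq' : q₀ ∈ g₀ • B := by
        rw [← hstab h hh g₀ ⟨z, hz, hzΓ⟩, ← hhp]
        exact Set.smul_mem_smul_set hp₀B
      exact hpq₀ (hs ⟨hp₀B, hp₀⟩ ⟨hq', hq₀⟩)
    · -- `H` fixes every block
      refine hHne (eq_bot_iff.2 (hK ▸ fun h hh g => ?_))
      by_cases hgB : ∃ z ∈ g • B, z ∉ Γ
      · exact hstab h hh g hgB
      push Not at hgB
      rcases (MulAction.isBlock_iff_smul_eq_or_disjoint.1 (hblock g₀)) (g * g₀⁻¹) with he | he
      · rw [← mul_smul, inv_mul_cancel_right] at he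
        rw [he]
        by_cases hg' : ∃ z ∈ g₀ • B, z ∉ Γ
        · exact hstab h hh g₀ hg'
        push Not at hg'
        have hΓeq : g₀ • B = Γ := Set.Subset.antisymm hg' hsub
        refine Set.Subset.antisymm (fun w hw => ?_) (fun w hw => ?_)
        · obtain ⟨u, hu, rfl⟩ := hw
          rw [hΓeq] at hu ⊢
          by_contra hc
          have h2 : h⁻¹ • (h • u) = h • u := hfixH h⁻¹ (inv_mem hh) _ hc
          rw [inv_smul_smul] at h2
          show False
          exact hc (show h • u ∈ Γ by rw [← h2]; exact hu)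
        · rw [Set.mem_smul_set_iff_inv_smul_mem, hΓeq]
          rw [hΓeq] at hw
          by_contra hc
          have h2 : h • (h⁻¹ • w) = h⁻¹ • w := hfixH h hh _ hc
          rw [smul_inv_smul] at h2
          exact hc (h2 ▸ hw)
      · rw [← mul_smul, inv_mul_cancel_right] at he
        obtain ⟨w, hw⟩ : (g • B).Nonempty := ⟨g • b, Set.smul_mem_smul_set hb⟩
        exact absurd (hsub (hgB w hw)) (Set.disjoint_left.1 he hw)
  have hc := Set.ncard_add_ncard_compl Γ
  have h := hG.isMultiplyPreprimitive (s := Γᶜ) (n := Γᶜ.ncard - 1) (by omega) (by omega) hJp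
  have e : Nat.card Ω - Γ.ncard + 1 = Γᶜ.ncard - 1 + 2 := by omega
  rw [e]
  exact h.isMultiplyPretransitive

end Cfsg.Agent.S3619
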