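import Cfsg.Statements.S3633
import Cfsg.Agent.Base.Small.Coclique

set_option autoImplicit false
open Cfsg

namespace Cfsg.Agent.S3633

/-- Let G be a finite group and ρ a set of at least three prime divisors of the order of G that are pairwise non-adjacent in the prime graph (no element of order rs for distinct r, s ∈ ρ). Then at most one prime of ρ divides the order of any given solvable normal subgroup of G; in particular G is not solvable. -/
theorem result {G : Type*} [Group G] [Finite G] (ρ : Finset ℕ) (hρ : 3 ≤ ρ.card) (hc : ((∀ r ∈ ρ, r.Prime ∧ r ∣ Nat.card G) ∧ (∀ r ∈ ρ, ∀ s ∈ ρ, r ≠ s → ¬ ∃ x : G, orderOf x = r * s)))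
    (K : Subgroup G) [K.Normal] (hK : Group.IsSolvable ↥K) :
    (∀ r ∈ ρ, ∀ s ∈ ρ, r ∣ Nat.card ↥K → s ∣ Nat.card ↥K → r = s) ∧ ¬ Group.IsSolvable G := by
  classical
  obtain ⟨hpr, hno⟩ := hc
  refine ⟨fun r hr s hs hrK hsK => ?_, fun hsol => ?_⟩
  · by_contra hne
    obtain ⟨T, hrs, hTρ, hT⟩ := Finset.exists_subsuperset_card_eq
      (show ({r, s} : Finset ℕ) ⊆ ρ by simp [Finset.insert_subset_iff, hr, hs])
      (Finset.card_le_two.trans (by omega : 2 ≤ 3)) hρ
    have h := CfsgLib.Base.Small.solvable_coclique hT (fun a ha => (hpr a (hTρ ha)).1)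
      (fun a ha => (hpr a (hTρ ha)).2) (fun a ha b hb => hno a (hTρ ha) b (hTρ hb)) K hK
    refine hne (Finset.card_le_one.1 h r ?_ s ?_)
    · exact Finset.mem_filter.2 ⟨hrs (by simp), hrK⟩
    · exact Finset.mem_filter.2 ⟨hrs (by simp), hsK⟩
  · haveI := hsol
    obtain ⟨T, hTρ, hT⟩ := Finset.exists_subset_card_eq hρ
    have h := CfsgLib.Base.Small.solvable_coclique hT (fun a ha => (hpr a (hTρ ha)).1)
      (fun a ha => (hpr a (hTρ ha)).2) (fun a ha b hb => hno a (hTρ ha) b (hTρ hb)) (⊤ : Subgroup G)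
      inferInstance
    rw [Finset.filter_true_of_mem (fun a ha => by rw [Subgroup.card_top]; exact (hpr a (hTρ ha)).2)] at h
    omega

end Cfsg.Agent.S3633
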