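import Cfsg.Statements.S3660
import Cfsg.Agent.Base.Spectrum.GraphTwo
import Mathlib.FieldTheory.Finite.GaloisField
-- import your own Cfsg.Agent.* helpers here

set_option autoImplicit false
open Cfsg

namespace Cfsg.Agent.S3660

theorem graph_of_equiv {A B : Type*} [Group A] [Group B] (e : A ≃* B) (n : ℕ) :
    (∃ g : A, orderOf g = n) ↔ (∃ g : B, orderOf g = n) :=
  ⟨fun ⟨g, hg⟩ => ⟨e g, by rw [MulEquiv.orderOf_eq, hg]⟩, fun ⟨g, hg⟩ => ⟨e.symm g, by rw [MulEquiv.orderOf_eq, hg]⟩⟩

end Cfsg.Agent.S3660

namespace Cfsg.Agent.S3660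

/-- The prime graph of a finite group has the prime divisors of its order as vertices, two distinct primes p, q being joined when the group has an element of order pq; two groups have the same prime graph when they have the same prime divisors and the same joined pairs. Let F be a finite field of characteristic 2 with at least 4 elements. Then there are finite groups of arbitrarily large order with the same prime graph as PSL(2,F); in particular PSL(2,F) is not determined by its prime graph. -/
theorem result {F : Type*} [Field F] [Fintype F] [CharP F 2] (hF : 4 ≤ Fintype.card F) (N : ℕ) :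
    ∃ (H : Type) (_ : Group H) (_ : Finite H), N < Nat.card H ∧
      ((∀ p : ℕ, p.Prime → (p ∣ Nat.card (Matrix.ProjectiveSpecialLinearGroup (Fin 2) F) ↔ p ∣ Nat.card H)) ∧
      (∀ p q : ℕ, p.Prime → q.Prime → p ≠ q → ((∃ g : (Matrix.ProjectiveSpecialLinearGroup (Fin 2) F), orderOf g = p * q) ↔ (∃ g : H, orderOf g = p * q)))) := by
  classical
  haveI : Fact (Nat.Prime 2) := ⟨Nat.prime_two⟩
  obtain ⟨n, hn, hFn⟩ := FiniteField.card F 2
  haveI : Finite (GaloisField 2 n) := Module.finite_of_finite (ZMod 2)
  haveI := Fintype.ofFinite (GaloisField 2 n)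
  let r : GaloisField 2 n ≃+* F := FiniteField.ringEquivOfCardEq (by
    rw [hFn, ← Nat.card_eq_fintype_card, GaloisField.card 2 n n.pos.ne'])
  let s : Matrix.SpecialLinearGroup (Fin 2) (GaloisField 2 n) ≃* Matrix.SpecialLinearGroup (Fin 2) F :=
    MulEquiv.ofBijective (Matrix.SpecialLinearGroup.map r.toRingHom)
      ⟨fun a b h => by
          ext i j
          exact r.injective (congrFun (congrFun (congrArg Subtype.val h) i) j),
        fun a => ⟨Matrix.SpecialLinearGroup.map r.symm.toRingHom a, by
          ext i j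
          exact r.apply_symm_apply _⟩⟩
  obtain ⟨π⟩ := CfsgLib.GraphTwo.psl_equiv (F := F)
  obtain ⟨H, i1, i2, h1, h2, h3⟩ := CfsgLib.GraphTwo.exists_large (F := GaloisField 2 n) N
  refine ⟨H, i1, i2, h1, fun p hp => ?_, fun p q hp hq hpq => ?_⟩
  · rw [Nat.card_congr (π.trans s.symm).toEquiv, h2 p hp]
  · rw [graph_of_equiv (π.trans s.symm), h3 p q hp hq hpq]

end Cfsg.Agent.S3660
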