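import Cfsg.Statements.S3669
import Cfsg.Agent.S3377
import Cfsg.Agent.Base.Small.OrderSixty
import Cfsg.Agent.Char.ExtMore
import Cfsg.Agent.Char.Classes
import Cfsg.Agent.Char.PPrimeDegree
import Cfsg.Agent.Inv.CyclicSylow
import Mathlib.GroupTheory.CommutingProbability
import Mathlib.GroupTheory.Transfer
-- import your own Cfsg.Agent.* helpers here

set_option autoImplicit false
open Cfsg

namespace Cfsg.Agent.S3669

open Cfsg Subgroup CfsgLib.Char CfsgLib.OrderSixty

theorem count_comm : ((List.finRange 60).map fun i => ((List.finRange 60).filter fun j =>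
    decide (List.ofFn (Cfsg.Agent.S3377.act (Cfsg.Agent.S3377.W i ++ Cfsg.Agent.S3377.W j)) =
      List.ofFn (Cfsg.Agent.S3377.act (Cfsg.Agent.S3377.W j ++ Cfsg.Agent.S3377.W i)))).length).sum = 300 := by
  decide +kernel

theorem ev_append (u v : List Bool) :
    Cfsg.Agent.S3377.ev (u ++ v) = Cfsg.Agent.S3377.ev u * Cfsg.Agent.S3377.ev v := by
  induction u with
  | nil => simp [Cfsg.Agent.S3377.ev]
  | cons g u ih => cases g <;> simp [Cfsg.Agent.S3377.ev, ih, mul_assoc]

theorem count_pairs {n : ℕ} (P : Fin n → Fin n → Prop) [DecidableRel P] :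
    Nat.card {p : Fin n × Fin n // P p.1 p.2} =
      ((List.finRange n).map fun i => ((List.finRange n).filter fun j => decide (P i j)).length).sum := by
  rw [Nat.card_eq_fintype_card, Fintype.card_subtype, Finset.card_filter, Fintype.sum_prod_type, Fin.sum_univ_def]
  congr 1
  refine List.map_congr_left fun i _ => ?_
  rw [← Finset.card_filter]
  rfl

theorem card_classes : Nat.card (ConjClasses (alternatingGroup (Fin 5))) = 5 := by
  classical
  open Cfsg.Agent.S3377 in
  have hA : Fintype.card (alternatingGroup (Fin 5)) = 60 := by decide +kernel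
  let e : Fin 60 ≃ alternatingGroup (Fin 5) := Equiv.ofBijective _
    ((Fintype.bijective_iff_injective_and_card _).2 ⟨Cfsg.Agent.S3377.comp_inj, by rw [hA, Fintype.card_fin]⟩)
  have key : ∀ i j, Commute (e i) (e j) ↔
      List.ofFn (Cfsg.Agent.S3377.act (Cfsg.Agent.S3377.W i ++ Cfsg.Agent.S3377.W j)) =
        List.ofFn (Cfsg.Agent.S3377.act (Cfsg.Agent.S3377.W j ++ Cfsg.Agent.S3377.W i)) := by
    intro i j
    show Cfsg.Agent.S3377.toA5 _ * Cfsg.Agent.S3377.toA5 _ = Cfsg.Agent.S3377.toA5 _ * Cfsg.Agent.S3377.toA5 _ ↔ _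
    rw [← map_mul, ← map_mul, ← ev_append, ← ev_append, List.ofFn_inj, funext_iff, Subtype.ext_iff, Equiv.ext_iff]
    simp only [Cfsg.Agent.S3377.toA5_ev]
  have h : Nat.card {p : alternatingGroup (Fin 5) × alternatingGroup (Fin 5) // Commute p.1 p.2} = 300 := by
    rw [← Nat.card_congr ((e.prodCongr e).subtypeEquiv
      (p := fun p => List.ofFn (Cfsg.Agent.S3377.act (Cfsg.Agent.S3377.W p.1 ++ Cfsg.Agent.S3377.W p.2)) =
        List.ofFn (Cfsg.Agent.S3377.act (Cfsg.Agent.S3377.W p.2 ++ Cfsg.Agent.S3377.W p.1)))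
      fun p => (key p.1 p.2).symm)]
    exact (count_pairs fun i j => List.ofFn (Cfsg.Agent.S3377.act (Cfsg.Agent.S3377.W i ++ Cfsg.Agent.S3377.W j)) =
        List.ofFn (Cfsg.Agent.S3377.act (Cfsg.Agent.S3377.W j ++ Cfsg.Agent.S3377.W i))).trans count_comm
  rw [card_comm_eq_card_conjClasses_mul_card, Nat.card_eq_fintype_card (α := alternatingGroup (Fin 5)), hA] at h
  omega

theorem no_five : ∀ a ∈ ([2, 3, 4, 6] : List ℕ), ∀ b ∈ ([2, 3, 4, 6] : List ℕ), ∀ c ∈ ([2, 3, 4, 6] : List ℕ),
    ∀ e ∈ ([2, 3, 4, 6] : List ℕ), a ^ 2 + b ^ 2 + c ^ 2 + e ^ 2 ≠ 59 := by decide +kernel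

theorem sumSq {H : Type} [Group H] [Fintype H] :
    ∑ χ : IrrCharacter H, charDegree (χ : H → ℂ) ^ 2 = Nat.card H := by
  have h := sum_degree_sq (G := H)
  rw [Finset.sum_congr rfl (g := fun χ : IrrCharacter H => ((charDegree (χ : H → ℂ) ^ 2 : ℕ) : ℂ))
    (fun χ _ => by rw [irr_one_eq χ.2, Nat.cast_pow]), ← Nat.cast_sum, Nat.cast_inj] at h
  exact h

theorem five_mem_alt5 : 5 ∈ degreePrimes (alternatingGroup (Fin 5)) := by
  classical
  refine ⟨by norm_num, ?_⟩
  by_contra hno
  push Not at hno
  set one' : IrrCharacter (alternatingGroup (Fin 5)) := ⟨fun _ => 1, isIrr_one⟩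
  have hk : Nat.card (IrrCharacter (alternatingGroup (Fin 5))) = 5 := by
    rw [card_irr_eq_card_conjClasses, card_classes]
  obtain ⟨e, he⟩ : ∃ e : Fin 5 ≃ IrrCharacter (alternatingGroup (Fin 5)), e 0 = one' := by
    let e0 := ((Finite.equivFin _).trans (finCongr hk)).symm
    exact ⟨(Equiv.swap 0 (e0.symm one')).trans e0, by simp⟩
  have hA : Nat.card (alternatingGroup (Fin 5)) = 60 := by
    rw [Nat.card_eq_fintype_card]; decide +kernel
  set d : Fin 5 → ℕ := fun i => charDegree ((e i : IrrCharacter _) : alternatingGroup (Fin 5) → ℂ) with hd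
  have hsum : ∑ i, d i ^ 2 = 60 := by
    have := sumSq (H := alternatingGroup (Fin 5))
    rw [hA, ← Equiv.sum_comp e] at this
    exact this
  have hd0 : d 0 = 1 := by
    have : (d 0 : ℂ) = 1 := by rw [hd]; simp only []; rw [← irr_one_eq (e 0).2, he]
    exact_mod_cast this
  have hmem : ∀ i, i ≠ 0 → d i ∈ ([2, 3, 4, 6] : List ℕ) := by
    intro i hi
    have hdv : d i ∣ 60 := hA ▸ degree_dvd_card (e i).2
    have h5 : ¬ 5 ∣ d i := hno (d i) ⟨e i, rfl⟩
    have hle : d i ^ 2 ≤ 59 := by
      have : d 0 ^ 2 + d i ^ 2 ≤ 60 := by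
        rw [← hsum, ← Finset.sum_pair (Ne.symm hi) (f := fun i => d i ^ 2)]
        exact Finset.sum_le_univ_sum_of_nonneg (fun _ => Nat.zero_le _)
      rw [hd0] at this
      omega
    have h7 : d i ≤ 7 := by nlinarith
    have h1 : d i ≠ 1 := by
      intro h1
      obtain ⟨μ, hμ⟩ := exists_hom_of_degree_one (isCharacter_of_isIrr (e i).2)
        (by rw [irr_one_eq (e i).2]; simp [hd] at h1; rw [h1, Nat.cast_one])
      apply hi
      apply e.injective
      rw [he]
      refine Subtype.ext (funext fun g => ?_)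
      rw [hμ]
      have hg : g ∈ μ.ker := by
        rcases (inferInstance : μ.ker.Normal).eq_bot_or_eq_top with h | h
        · exfalso
          have hinj := (MonoidHom.ker_eq_bot_iff μ).1 h
          have h12 : ¬ ∀ a b : alternatingGroup (Fin 5), a * b = b * a := by
            intro hab
            have := hab Cfsg.Agent.S3377.A5a Cfsg.Agent.S3377.A5b
            revert this
            decide +kernel
          exact h12 fun a b => hinj (by rw [map_mul, map_mul, mul_comm])
        · exact h ▸ mem_top g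
      show ((μ g : ℂˣ) : ℂ) = 1
      rw [MonoidHom.mem_ker.1 hg]
      rfl
    rcases Nat.eq_zero_or_pos (d i) with h | h
    · rw [h] at hdv; simp at hdv
    · interval_cases hdi : d i <;> simp_all
  rw [Fin.sum_univ_five, hd0] at hsum
  exact no_five _ (hmem 1 (by decide)) _ (hmem 2 (by decide)) _ (hmem 3 (by decide)) _ (hmem 4 (by decide)) (by omega)

section
variable {G : Type*} [Group G] [Finite G]

theorem cent_small {M : Subgroup G} [M.Normal] (hM : Nat.card M ≤ 4) {q : G} (hq : orderOf q = 5)
    {m : G} (hm : m ∈ M) : Commute q m := by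
  let f := (MulAut.toPerm M).comp (MulAut.conjNormal : G →* MulAut M)
  have h1 : orderOf (f q) ∣ 5 := hq ▸ orderOf_map_dvd f q
  have h2 : orderOf (f q) ∣ (Nat.card M).factorial := Nat.card_perm (α := M) ▸ orderOf_dvd_natCard _
  have h3 : orderOf (f q) = 1 := by
    rcases (Nat.dvd_prime (by norm_num)).1 h1 with h | h
    · exact h
    · rw [h] at h2
      have := ((by norm_num : Nat.Prime 5).dvd_factorial).1 h2
      omega
  have := Equiv.ext_iff.1 (orderOf_eq_one_iff.1 h3) ⟨m, hm⟩
  have h4 : q * m * q⁻¹ = m := congrArg Subtype.val this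
  exact mul_inv_eq_iff_eq_mul.1 h4

variable (hcard : Nat.card G = 60) (hP : ∀ P : Subgroup G, Nat.card P = 5 → ¬ P.Normal)
include hcard hP

theorem norm_five (P : Subgroup G) (h5 : Nat.card P = 5) : Nat.card (normalizer (P : Set G)) = 10 := by
  haveI : Fact (Nat.Prime 5) := ⟨by norm_num⟩
  have hf : (Nat.card G).factorization 5 = 1 := by
    rw [hcard, show (60 : ℕ) = 5 * 12 by norm_num, Nat.factorization_mul (by norm_num) (by norm_num),
      Finsupp.coe_add, Pi.add_apply, Nat.Prime.factorization_self Fact.out,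
      Nat.factorization_eq_zero_of_not_dvd (by norm_num)]
  set S := Sylow.ofCard P (by rw [h5, hf, pow_one]) with hS
  have hSc : (S : Subgroup G) = P := rfl
  have hm := card_sylow_modEq_one 5 G
  have hd := Sylow.card_dvd_index S
  have hi := (S : Subgroup G).card_mul_index
  rw [hSc, h5, hcard] at hi
  rw [hSc, show P.index = 12 by omega] at hd
  have hle := Nat.le_of_dvd (by norm_num) hd
  rw [Nat.ModEq] at hm
  have hne : Nat.card (Sylow 5 G) ≠ 1 := fun e => hP P h5 (by
    rw [Sylow.card_eq_index_normalizer S, index_eq_one] at e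
    exact normalizer_eq_top_iff.1 e)
  have h6 : Nat.card (Sylow 5 G) = 6 := by
    interval_cases hs : Nat.card (Sylow 5 G) <;> simp_all
  have := (normalizer (P : Set G)).card_mul_index
  rw [show (normalizer (P : Set G)).index = 6 from (Sylow.card_eq_index_normalizer S).symm.trans h6, hcard] at this
  omega

theorem not_three (M : Subgroup G) [M.Normal] (h5 : ¬ 5 ∣ Nat.card M) : ¬ 3 ∣ Nat.card M := by
  intro h3
  haveI : Fact (Nat.Prime 3) := ⟨Nat.prime_three⟩
  haveI : Fact (Nat.Prime 5) := ⟨by norm_num⟩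
  obtain ⟨R⟩ := (inferInstance : Nonempty (Sylow 3 M))
  set R' := (R : Subgroup M).map M.subtype with hR'
  set L := normalizer (R' : Set G) with hL
  have hsup : L ⊔ M = ⊤ := Sylow.normalizer_sup_eq_top R
  have h5L : 5 ∣ Nat.card L := by
    have hsurj : Function.Surjective ((QuotientGroup.mk' M).comp L.subtype) := by
      rw [← MonoidHom.range_eq_top, MonoidHom.range_comp, range_subtype]
      have := Subgroup.map_sup L M (QuotientGroup.mk' M)
      rw [hsup, map_top_of_surjective _ (QuotientGroup.mk'_surjective M)] at this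
      rw [(map_eq_bot_iff M).2 (by rw [QuotientGroup.ker_mk']), sup_bot_eq] at this
      exact this.symm
    have h1 := card_dvd_of_surjective _ hsurj
    have h2 := M.card_eq_card_quotient_mul_card_subgroup
    rw [hcard] at h2
    have : 5 ∣ Nat.card (G ⧸ M) * Nat.card M := h2 ▸ (by norm_num)
    exact (((by norm_num : Nat.Prime 5).dvd_mul.1 this).resolve_right h5).trans h1
  obtain ⟨q, hq⟩ := exists_prime_orderOf_dvd_card' 5 h5L
  haveI : (R'.subgroupOf L).Normal := normal_subgroupOf_of_le_normalizer le_rfl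
  have hR3 : Nat.card R' = 3 := by
    rw [hR', card_map_of_injective M.subtype_injective]
    obtain ⟨k, hk⟩ := IsPGroup.iff_card.1 R.isPGroup'
    have hd : Nat.card R ∣ 60 := (card_subgroup_dvd_card _).trans (hcard ▸ card_subgroup_dvd_card M)
    have hd3 := Sylow.dvd_card_of_dvd_card R h3
    rw [hk] at hd hd3 ⊢
    rcases k with _ | _ | k
    · norm_num at hd3
    · norm_num
    · have : 9 ∣ 60 := dvd_trans ⟨3 ^ k, by ring⟩ hd
      norm_num at this
  have hle : R' ≤ L := le_normalizer
  have hcR : Nat.card (R'.subgroupOf L) = 3 := (Nat.card_congr (subgroupOfEquivOfLe hle).toEquiv).trans hR3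
  obtain ⟨r, hr⟩ := exists_prime_orderOf_dvd_card' 3 (hR3 ▸ dvd_rfl : 3 ∣ Nat.card R')
  have hc := cent_small (by rw [hcR]; norm_num) hq (m := (⟨(r : G), hle r.2⟩ : L)) r.2
  have hrn : (r : G) ∈ normalizer ((zpowers (q : G) : Subgroup G) : Set G) := by
    refine mem_normalizer_iff.2 fun x => ?_
    have hc' : Commute (q : G) (r : G) := congrArg Subtype.val hc
    constructor
    · intro hx
      obtain ⟨i, rfl⟩ := mem_zpowers_iff.1 hx
      rw [(hc'.zpow_left i).symm.eq, mul_inv_cancel_right]; exact zpow_mem (mem_zpowers _) i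
    · intro hx
      obtain ⟨i, hi⟩ := mem_zpowers_iff.1 hx
      have : x = (q : G) ^ i := by
        calc x = (r : G)⁻¹ * ((r : G) * x * (r : G)⁻¹) * r := by group
          _ = (r : G)⁻¹ * ((q : G) ^ i * r) := by rw [← hi]; group
          _ = (q : G) ^ i := by rw [(hc'.zpow_left i).eq]; group
      exact this ▸ zpow_mem (mem_zpowers _) i
  have h10 := norm_five hcard hP (zpowers (q : G)) (by rw [Nat.card_zpowers, orderOf_coe, hq])
  have := (orderOf_mk _ hrn) ▸ orderOf_dvd_natCard (⟨(r : G), hrn⟩ : normalizer ((zpowers (q : G) : Subgroup G) : Set G))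
  rw [h10, orderOf_coe, hr] at this
  norm_num at this

theorem all_five_mem (M : Subgroup G) [M.Normal] (h5 : 5 ∣ Nat.card M) {L : Subgroup M}
    (hL : ∀ x : M, orderOf x = 5 → x ∈ L) (hLc : Nat.card L / 5 ≤ 4) : False := by
  haveI : Fact (Nat.Prime 5) := ⟨by norm_num⟩
  obtain ⟨x, hx⟩ := exists_prime_orderOf_dvd_card' 5 h5
  have hxL := hL x hx
  set P := zpowers x with hPdef
  have hPL : P ≤ L := zpowers_le.2 hxL
  have hPc : Nat.card P = 5 := by rw [Nat.card_zpowers, hx]
  obtain ⟨m, hm⟩ : 5 ∣ Nat.card L := hPc ▸ card_dvd_of_le hPL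
  rw [hm, Nat.mul_div_cancel_left _ (by norm_num)] at hLc
  have huniq : ∀ y : M, orderOf y = 5 → y ∈ P := by
    intro y hy
    by_contra hyP
    let f : Fin 5 × Fin 5 → L := fun p => ⟨x ^ (p.1 : ℕ) * y ^ (p.2 : ℕ),
      L.mul_mem (L.pow_mem hxL _) (L.pow_mem (hL y hy) _)⟩
    have hf : Function.Injective f := by
      intro p p' e
      have e' : x ^ (p.1 : ℕ) * y ^ (p.2 : ℕ) = x ^ (p'.1 : ℕ) * y ^ (p'.2 : ℕ) := congrArg Subtype.val e
      have e2 : (x ^ (p'.1 : ℕ))⁻¹ * x ^ (p.1 : ℕ) = y ^ (p'.2 : ℕ) * (y ^ (p.2 : ℕ))⁻¹ := by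
        rw [eq_mul_inv_iff_mul_eq, mul_assoc, e', inv_mul_cancel_left]
      have hint : ∀ z, z ∈ P → z ∈ zpowers y → z = 1 := by
        intro z hz hz'
        by_contra hz1
        apply hyP
        have hzc : Nat.card (zpowers z) = 5 := by
          rw [Nat.card_zpowers]
          have := (orderOf_dvd_natCard (⟨z, hz⟩ : P))
          rw [Subgroup.orderOf_mk, hPc, Nat.dvd_prime Fact.out] at this
          exact this.resolve_left fun e => hz1 (orderOf_eq_one_iff.1 e)
        have e3 : zpowers z = zpowers y := eq_of_le_of_card_ge (zpowers_le.2 hz') (by rw [hzc, Nat.card_zpowers, hy])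
        exact zpowers_le.2 hz (e3 ▸ mem_zpowers y)
      have hz := hint _ (P.mul_mem (P.inv_mem (P.pow_mem (mem_zpowers x) _)) (P.pow_mem (mem_zpowers x) _))
        (e2 ▸ (zpowers y).mul_mem ((zpowers y).pow_mem (mem_zpowers y) _) ((zpowers y).inv_mem ((zpowers y).pow_mem (mem_zpowers y) _)))
      have h1 := inv_mul_eq_one.1 hz
      have h2 := mul_inv_eq_one.1 (e2 ▸ hz)
      exact Prod.ext (Fin.ext (pow_injOn_Iio_orderOf (by simp [hx]) (by simp [hx]) h1.symm))
        (Fin.ext (pow_injOn_Iio_orderOf (by simp [hy]) (by simp [hy]) h2.symm))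
    have := Nat.card_le_card_of_injective f hf
    rw [Nat.card_prod, Nat.card_fin, hm] at this
    omega
  refine hP (P.map M.subtype) (by rw [card_map_of_injective M.subtype_injective, hPc]) ⟨fun z hz g => ?_⟩
  obtain ⟨w, hw, rfl⟩ := mem_map.1 hz
  by_cases hw1 : w = 1
  · subst hw1; simp
  have ho : orderOf w = 5 := by
    have := (orderOf_dvd_natCard (⟨w, hw⟩ : P))
    rw [Subgroup.orderOf_mk, hPc, Nat.dvd_prime Fact.out] at this
    exact this.resolve_left fun e => hw1 (orderOf_eq_one_iff.1 e)
  exact mem_map.2 ⟨⟨g * w * g⁻¹, Normal.conj_mem ‹_› _ w.2 g⟩, huniq _ (by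
    rw [← Subgroup.orderOf_coe]
    show orderOf (g * (w : G) * g⁻¹) = 5
    rw [← MulAut.conj_apply, MulEquiv.orderOf_eq, Subgroup.orderOf_coe, ho]), rfl⟩

theorem no_normal (M : Subgroup G) [M.Normal] (h1 : M ≠ ⊥) (h2 : M ≠ ⊤) : False := by
  haveI : Fact (Nat.Prime 5) := ⟨by norm_num⟩
  have hd : Nat.card M ∣ 60 := hcard ▸ card_subgroup_dvd_card M
  by_cases h5 : 5 ∣ Nat.card M
  · obtain ⟨k, hk⟩ := h5
    have hk12 : k ∣ 12 := Nat.dvd_of_mul_dvd_mul_left (by norm_num : 0 < 5) (by rw [← hk]; exact hd)
    have hkne : k ≠ 12 := fun e => h2 (eq_top_of_card_eq _ (by rw [hk, hcard, e]))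
    by_cases h6 : k = 6
    · subst h6
      haveI : Fact (Nat.Prime 2) := ⟨Nat.prime_two⟩
      obtain ⟨T⟩ := (inferInstance : Nonempty (Sylow 2 M))
      have hT : Nat.card (T : Subgroup M) = 2 := by
        rw [Sylow.card_eq_multiplicity, hk, show (5 * 6 : ℕ) = 2 * 15 by norm_num,
          Nat.factorization_mul (by norm_num) (by norm_num), Finsupp.coe_add, Pi.add_apply,
          Nat.Prime.factorization_self Nat.prime_two, Nat.factorization_eq_zero_of_not_dvd (by norm_num)]
        norm_num
      obtain ⟨L, hL⟩ := CfsgLib.Inv.exists_index_two_of_cyclic_sylow (G := M) (hk ▸ by decide) T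
        (isCyclic_of_prime_card (p := 2) hT)
      refine all_five_mem hcard hP M (hk ▸ dvd_mul_right 5 6) (L := L) (fun x hx => ?_) ?_
      · have : x = (x * x) * (x * x) * (x * x) := by
          have h := pow_orderOf_eq_one x
          rw [hx] at h
          calc x = x ^ 5 * x := by rw [h, one_mul]
            _ = _ := by simp only [pow_succ, pow_zero, one_mul, mul_assoc]
        rw [this]
        have := mul_self_mem_of_index_two hL x
        exact L.mul_mem (L.mul_mem this this) this
      · have := L.card_mul_index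
        rw [hL, hk] at this
        omega
    · refine all_five_mem hcard hP M (hk ▸ dvd_mul_right 5 k) (L := ⊤) (fun x _ => mem_top x) ?_
      rw [card_top, hk, Nat.mul_div_cancel_left _ (by norm_num)]
      have := Nat.le_of_dvd (by norm_num) hk12
      interval_cases k <;> omega
  · have h3 := not_three hcard hP M h5
    have hMpos : 1 < Nat.card M := M.one_lt_card_iff_ne_bot.2 h1
    have h24 : Nat.card M = 2 ∨ Nat.card M = 4 := by
      have := Nat.le_of_dvd (by norm_num) hd
      interval_cases h : Nat.card M <;> simp_all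
    obtain ⟨q, hq⟩ := exists_prime_orderOf_dvd_card' 5 (hcard ▸ (by norm_num) : 5 ∣ Nat.card G)
    have hMN : M ≤ normalizer ((zpowers q : Subgroup G) : Set G) := by
      intro m hm
      have hc := cent_small (q := q) (by omega) hq hm
      refine mem_normalizer_iff.2 fun x => ?_
      constructor
      · intro hx
        obtain ⟨i, rfl⟩ := mem_zpowers_iff.1 hx
        rw [(hc.zpow_left i).symm.eq, mul_inv_cancel_right]; exact zpow_mem (mem_zpowers _) i
      · intro hx
        obtain ⟨i, hi⟩ := mem_zpowers_iff.1 hx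
        have : x = q ^ i := by
          calc x = m⁻¹ * (m * x * m⁻¹) * m := by group
            _ = m⁻¹ * (q ^ i * m) := by rw [← hi]; group
            _ = q ^ i := by rw [(hc.zpow_left i).eq]; group
        exact this ▸ zpow_mem (mem_zpowers _) i
    have h5q : Nat.card (zpowers q) = 5 := by rw [Nat.card_zpowers, hq]
    have h10 := norm_five hcard hP _ h5q
    have hdvd := card_dvd_of_le hMN
    rw [h10] at hdvd
    rcases h24 with hM2 | hM4
    · -- the normalizer is abelian, so there is a normal complement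
      have hf : (Nat.card G).factorization 5 = 1 := by
        rw [hcard, show (60 : ℕ) = 5 * 12 by norm_num, Nat.factorization_mul (by norm_num) (by norm_num),
          Finsupp.coe_add, Pi.add_apply, Nat.Prime.factorization_self Fact.out,
          Nat.factorization_eq_zero_of_not_dvd (by norm_num)]
      let S := Sylow.ofCard (zpowers q) (by rw [h5q, hf, pow_one])
      have hNC : normalizer ((S : Subgroup G) : Set G) ≤ centralizer ((S : Subgroup G) : Set G) := by
        have hle : M ⊔ zpowers q ≤ normalizer ((zpowers q : Subgroup G) : Set G) := sup_le hMN le_normalizer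
        have heq : M ⊔ zpowers q = normalizer ((zpowers q : Subgroup G) : Set G) := by
          refine eq_of_le_of_card_ge hle ?_
          rw [h10]
          refine Nat.le_of_dvd Nat.card_pos ?_
          refine Nat.Coprime.mul_dvd_of_dvd_of_dvd (by norm_num : Nat.Coprime 2 5) ?_ ?_
          · exact hM2 ▸ card_dvd_of_le le_sup_left
          · exact h5q ▸ card_dvd_of_le le_sup_right
        show normalizer ((zpowers q : Subgroup G) : Set G) ≤ centralizer ((zpowers q : Subgroup G) : Set G)
        rw [← heq, sup_le_iff]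
        refine ⟨fun m hm => mem_centralizer_iff.2 fun y hy => ?_, fun y hy => mem_centralizer_iff.2 fun y' hy' => ?_⟩
        · obtain ⟨i, rfl⟩ := mem_zpowers_iff.1 hy
          exact ((cent_small (q := q) (by omega) hq hm).zpow_left i).eq
        · obtain ⟨i, rfl⟩ := mem_zpowers_iff.1 hy
          obtain ⟨j, rfl⟩ := mem_zpowers_iff.1 hy'
          exact ((Commute.refl q).zpow_zpow j i).eq
      have hc := MonoidHom.ker_transferSylow_isComplement' S hNC
      have h12 := hc.card_mul
      rw [show Nat.card (S : Subgroup G) = 5 from h5q, hcard] at h12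
      have hk : ∀ a : ℕ, a * 5 = 60 → ¬ 5 ∣ a ∧ 3 ∣ a := by omega
      exact not_three hcard hP _ (hk _ h12).1 (hk _ h12).2
    · rw [hM4] at hdvd
      norm_num at hdvd

end

end Cfsg.Agent.S3669

namespace Cfsg.Agent.S3669

/-- The character degree graph of a finite group has as vertices the primes dividing some irreducible complex character degree, two distinct primes being joined when their product divides some irreducible character degree; two groups have the same character degree graph when they have the same vertices and the same joined pairs. A finite group of order 60 with the same character degree graph as the alternating group A₅ (whose character degrees are 1, 3, 4, 5, so the graph has vertices 2, 3, 5 and no edges) is isomorphic to A₅. -/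
theorem result {G : Type*} [Group G] [Finite G] (hcard : Nat.card G = 60)
    (hΓ : Cfsg.degreePrimes G = Cfsg.degreePrimes (alternatingGroup (Fin 5)) ∧ Cfsg.degreeGraph G = Cfsg.degreeGraph (alternatingGroup (Fin 5))) : Nonempty (G ≃* alternatingGroup (Fin 5)) := by
  haveI : Fact (Nat.Prime 5) := ⟨by norm_num⟩
  haveI := Fintype.ofFinite G
  obtain ⟨-, d, ⟨χ, rfl⟩, hd5⟩ := hΓ.1.symm ▸ five_mem_alt5
  have hP : ∀ P : Subgroup G, Nat.card P = 5 → ¬ P.Normal := by
    intro P hP hn
    haveI := isCyclic_of_prime_card (p := 5) hP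
    obtain ⟨n, ρ, hρi, hρc⟩ := χ.2
    haveI := hρi
    have hdvd := CfsgLib.Char.finrank_dvd_index ρ P (fun a ha b hb =>
      congrArg Subtype.val ((IsCyclic.isMulCommutative (α := P)).is_comm.comm ⟨a, ha⟩ ⟨b, hb⟩))
    have hdeg : Cfsg.charDegree (χ : G → ℂ) = Module.finrank ℂ (Fin n → ℂ) :=
      CfsgLib.Char.charDegree_eq (by rw [← hρc, Representation.char_one])
    have hi := P.card_mul_index
    rw [hP, hcard] at hi
    rw [show P.index = 12 by omega] at hdvd
    rw [hdeg] at hd5
    have := hd5.trans hdvd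
    norm_num at this
  haveI : Nontrivial G := Finite.one_lt_card_iff_nontrivial.1 (by rw [hcard]; norm_num)
  haveI : IsSimpleGroup G := ⟨fun M hM => by
    by_contra h
    push Not at h
    haveI := hM
    exact no_normal hcard hP M h.1 h.2⟩
  exact CfsgLib.OrderSixty.iso_alt5 hcard

end Cfsg.Agent.S3669
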