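import Cfsg.Statements.S3678
import Cfsg.Agent.Base.Spectrum.GraphTwo
import Mathlib.FieldTheory.Finite.GaloisField
-- import your own Cfsg.Agent.* helpers here

set_option autoImplicit false
open Cfsg

namespace Cfsg.Agent.S3678

theorem graph_of_equiv {A B : Type*} [Group A] [Group B] (e : A ≃* B) (n : ℕ) :
    (∃ g : A, orderOf g = n) ↔ (∃ g : B, orderOf g = n) :=
  ⟨fun ⟨g, hg⟩ => ⟨e g, by rw [MulEquiv.orderOf_eq, hg]⟩, fun ⟨g, hg⟩ => ⟨e.symm g, by rw [MulEquiv.orderOf_eq, hg]⟩⟩

/-- Coefficients of powers of a matrix with trace `t` and determinant one. -/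
def cf {F : Type*} [CommRing F] (t : F) : ℕ → F × F
  | 0 => (0, -1)
  | k + 1 => (t * (cf t k).1 - (cf t k).2, (cf t k).1)

theorem pow_eq {F : Type*} [CommRing F] (M : Matrix (Fin 2) (Fin 2) F) (hd : M.det = 1) :
    ∀ k, M ^ k = (cf (M 0 0 + M 1 1) k).1 • M - (cf (M 0 0 + M 1 1) k).2 • (1 : Matrix (Fin 2) (Fin 2) F) := by
  rw [Matrix.det_fin_two] at hd
  intro k
  induction k with
  | zero => simp [cf]
  | succ k ih =>
    have h2 : M * M = (M 0 0 + M 1 1) • M - 1 := by
      ext i j
      fin_cases i <;> fin_cases j <;> simp [Matrix.mul_apply, Fin.sum_univ_two]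
      · linear_combination -hd
      · ring
      · ring
      · linear_combination -hd
    rw [pow_succ, ih, sub_mul, smul_mul_assoc, h2, smul_mul_assoc, one_mul, cf, smul_sub, smul_smul, sub_smul,
      mul_comm]
    abel

theorem cases_seven : ∀ t : ZMod 7, (cf t 2).1 = 0 ∨ (cf t 3).1 = 0 ∨ (cf t 4).1 = 0 ∨ (cf t 7).1 = 0 := by
  decide +kernel

theorem central {F : Type*} [Field F] (g : Matrix.SpecialLinearGroup (Fin 2) F) (k : ℕ)
    (h : (cf ((g : Matrix (Fin 2) (Fin 2) F) 0 0 + (g : Matrix (Fin 2) (Fin 2) F) 1 1) k).1 = 0) :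
    g ^ k ∈ Subgroup.center (Matrix.SpecialLinearGroup (Fin 2) F) := by
  have h2 := pow_eq (g : Matrix (Fin 2) (Fin 2) F) g.2 k
  rw [h, zero_smul, zero_sub] at h2
  refine Subgroup.mem_center_iff.2 fun x => Subtype.ext ?_
  rw [Matrix.SpecialLinearGroup.coe_mul, Matrix.SpecialLinearGroup.coe_mul, Matrix.SpecialLinearGroup.coe_pow, h2]
  simp

theorem eq_of_dvd {p q d : ℕ} (hp : p.Prime) (hq : q.Prime) (r k : ℕ) (hr : r.Prime) (hd : d = r ^ k)
    (h : p * q ∣ d) : p = q := by
  subst hd
  rw [(Nat.prime_dvd_prime_iff_eq hp hr).1 (hp.dvd_of_dvd_pow ((dvd_mul_right p q).trans h)),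
    (Nat.prime_dvd_prime_iff_eq hq hr).1 (hq.dvd_of_dvd_pow ((dvd_mul_left q p).trans h))]

end Cfsg.Agent.S3678

namespace Cfsg.Agent.S3678

/-- The prime graph of a finite group has the prime divisors of its order as vertices, two distinct primes p, q being joined when the group has an element of order pq; two groups have the same prime graph when they have the same prime divisors and the same joined pairs. Let F be the field with 7 elements. There are finite groups of arbitrarily large order with the same prime graph as PSL(2,F) (the graph on {2, 3, 7} with no edges, which is also the prime graph of PSL(2,8)). -/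
theorem result {F : Type*} [Field F] [Fintype F] (hF : Fintype.card F = 7) (N : ℕ) :
    ∃ (H : Type) (_ : Group H) (_ : Finite H), N < Nat.card H ∧
      ((∀ p : ℕ, p.Prime → (p ∣ Nat.card (Matrix.ProjectiveSpecialLinearGroup (Fin 2) F) ↔ p ∣ Nat.card H)) ∧
      (∀ p q : ℕ, p.Prime → q.Prime → p ≠ q → ((∃ g : (Matrix.ProjectiveSpecialLinearGroup (Fin 2) F), orderOf g = p * q) ↔ (∃ g : H, orderOf g = p * q)))) := by
  classical
  haveI : Fact (Nat.Prime 7) := ⟨by norm_num⟩
  haveI : Fact (Nat.Prime 2) := ⟨Nat.prime_two⟩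
  let E := GaloisField 2 3
  haveI : Finite E := Module.finite_of_finite (ZMod 2)
  haveI := Fintype.ofFinite E
  have hE : Fintype.card E = 2 ^ 3 := by rw [← Nat.card_eq_fintype_card]; exact GaloisField.card 2 3 (by norm_num)
  obtain ⟨H, i1, i2, h1, h2, h3⟩ := CfsgLib.GraphTwo.exists_large (F := E) N
  have hG := CfsgLib.Lie.ProjLine.card_PSL_two (F := F) hF
  have hS := CfsgLib.Lie.Orders.card_SL_two (F := E) hE
  norm_num at hG hS
  have hG' : Nat.card (Matrix.ProjectiveSpecialLinearGroup (Fin 2) F) = 2 ^ 3 * 3 * 7 := by norm_num; omega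
  have hS' : Nat.card (Matrix.SpecialLinearGroup (Fin 2) E) = 2 ^ 3 * 3 ^ 2 * 7 := by
    rw [CfsgLib.Lie.Orders.card_SL_two (F := E) hE]; norm_num
  refine ⟨H, i1, i2, h1, fun p hp => ?_, fun p q hp hq hpq => ?_⟩
  · rw [← h2 p hp, hG', hS']
    simp only [hp.dvd_mul]
    constructor <;> rintro ((h | h) | h)
    all_goals
      first
      | exact .inr h
      | exact .inl (.inl h)
      | exact .inl (.inr (hp.dvd_of_dvd_pow h))
      | exact .inl (.inr (dvd_pow h (by norm_num)))
  · rw [← h3 p q hp hq hpq]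
    refine iff_of_false ?_ ?_
    · rintro ⟨x, hx⟩
      obtain ⟨g, rfl⟩ := QuotientGroup.mk'_surjective _ x
      have h7 : (7 : F) = 0 := by
        have := FiniteField.cast_card_eq_zero F
        rw [hF] at this
        exact_mod_cast this
      haveI : CharP F 7 := (CharP.charP_iff_prime_eq_zero (by norm_num)).2 (by exact_mod_cast h7)
      have hcases : ∀ t : F, (cf t 2).1 = 0 ∨ (cf t 3).1 = 0 ∨ (cf t 4).1 = 0 ∨ (cf t 7).1 = 0 := by
        let r : ZMod 7 →+* F := ZMod.castHom dvd_rfl F
        have hr : Function.Surjective r :=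
          ((Fintype.bijective_iff_injective_and_card r).2 ⟨r.injective, by rw [ZMod.card, hF]⟩).2
        have hk := cases_seven
        intro t
        obtain ⟨u, rfl⟩ := hr t
        have hmap : ∀ k, cf (r u) k = (r (cf u k).1, r (cf u k).2) := by
          intro k
          induction k with
          | zero => simp [cf]
          | succ k ih => simp [cf, ih]
        simp only [hmap, map_eq_zero]
        exact hk u
      have key : ∀ k, g ^ k ∈ Subgroup.center (Matrix.SpecialLinearGroup (Fin 2) F) → p * q ∣ k := fun k hk => by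
        rw [← hx]
        exact orderOf_dvd_of_pow_eq_one (by rw [← map_pow]; exact (QuotientGroup.eq_one_iff _).2 hk)
      rcases hcases ((g : Matrix (Fin 2) (Fin 2) F) 0 0 + (g : Matrix (Fin 2) (Fin 2) F) 1 1) with h | h | h | h
      · exact hpq (eq_of_dvd hp hq 2 1 Nat.prime_two rfl (key 2 (central g 2 h)))
      · exact hpq (eq_of_dvd hp hq 3 1 Nat.prime_three rfl (key 3 (central g 3 h)))
      · exact hpq (eq_of_dvd hp hq 2 2 Nat.prime_two rfl (key 4 (central g 4 h)))
      · exact hpq (eq_of_dvd hp hq 7 1 (by norm_num) rfl (key 7 (central g 7 h)))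
    · rintro ⟨g, hx⟩
      have hc : ∀ z ∈ Subgroup.center (Matrix.SpecialLinearGroup (Fin 2) E), z = 1 := by
        obtain ⟨π⟩ := CfsgLib.GraphTwo.psl_equiv (F := E)
        have hcard := Nat.card_congr π.toEquiv
        have := (Subgroup.center (Matrix.SpecialLinearGroup (Fin 2) E)).card_eq_card_quotient_mul_card_subgroup
        change _ = Nat.card (Matrix.ProjectiveSpecialLinearGroup (Fin 2) E) * _ at this
        rw [hcard] at this
        have h1 : Nat.card (Subgroup.center (Matrix.SpecialLinearGroup (Fin 2) E)) = 1 :=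
          (Nat.eq_of_mul_eq_mul_left Nat.card_pos (by rw [mul_one]; exact this)).symm
        intro z hz
        rw [Subgroup.card_eq_one.1 h1] at hz
        exact hz
      have key : ∀ k, (cf ((g : Matrix (Fin 2) (Fin 2) E) 0 0 + (g : Matrix (Fin 2) (Fin 2) E) 1 1) k).1 = 0 →
          p * q ∣ k := fun k hk => hx ▸ orderOf_dvd_of_pow_eq_one (hc _ (central g k hk))
      have h2' : (2 : E) = 0 := CharP.cast_eq_zero E 2
      have hprod : ∀ t : E, (cf t 2).1 * (cf t 7).1 * (cf t 9).1 = 0 := by
        intro t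
        have ht : t ^ 8 = t := by
          have := FiniteField.pow_card t
          rwa [hE] at this
        simp only [cf]
        linear_combination (1 + t ^ 7) * ht +
          ((8:E)*t^3 + (-40:E)*t^5 + (74:E)*t^7 + (-64:E)*t^9 + (28:E)*t^11 + (-6:E)*t^13) * h2'
      rcases mul_eq_zero.1 (hprod ((g : Matrix (Fin 2) (Fin 2) E) 0 0 + (g : Matrix (Fin 2) (Fin 2) E) 1 1)) with h | h
      · rcases mul_eq_zero.1 h with h | h
        · exact hpq (eq_of_dvd hp hq 2 1 Nat.prime_two rfl (key 2 h))
        · exact hpq (eq_of_dvd hp hq 7 1 (by norm_num) rfl (key 7 h))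
      · exact hpq (eq_of_dvd hp hq 3 2 Nat.prime_three rfl (key 9 h))

end Cfsg.Agent.S3678
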