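import Cfsg.Statements.S3680
import Cfsg.Agent.S0704
import Cfsg.Agent.S0721
import Cfsg.Agent.Solv.MinimalNormal
import Mathlib.GroupTheory.GroupAction.Primitive
-- import your own Cfsg.Agent.* helpers here

set_option autoImplicit false
open Cfsg

namespace Cfsg.Agent.S3680

/-- The socle of a finite primitive permutation group. Let a finite group G act faithfully and primitively on a set Ω, and let N be the subgroup generated by the minimal normal subgroups of G. Then either N is an elementary abelian p-group for some prime p and acts regularly on Ω (transitively with trivial point stabilizers), or N is isomorphic to a direct product of m ≥ 1 copies of a non-abelian simple group. -/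
theorem result {G Ω : Type*} [Group G] [Finite G] [MulAction G Ω] [FaithfulSMul G Ω] [Finite Ω]
    (hprim : MulAction.IsPreprimitive G Ω) (N : Subgroup G)
    (hN : N = sSup {V : Subgroup G | V.Normal ∧ V ≠ ⊥ ∧ ∀ M : Subgroup G, M.Normal → M ≤ V → M = ⊥ ∨ M = V}) :
    (∃ p : ℕ, p.Prime ∧ IsMulCommutative N ∧ (∀ x : N, x ^ p = 1) ∧
      MulAction.IsPretransitive N Ω ∧ ∀ ω : Ω, MulAction.stabilizer N ω = ⊥) ∨
    (∃ (T : Type) (_ : Group T) (m : ℕ), 1 ≤ m ∧ IsSimpleGroup T ∧ ¬ IsMulCommutative T ∧ Nonempty (N ≃* (Fin m → T))) := by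
  classical
  set S : Set (Subgroup G) := {V : Subgroup G | V.Normal ∧ V ≠ ⊥ ∧ ∀ M : Subgroup G, M.Normal → M ≤ V → M = ⊥ ∨ M = V} with hS
  by_cases hG : Subsingleton G
  · left
    have hb : N = ⊥ := Subsingleton.elim _ _
    subst hb
    refine ⟨2, Nat.prime_two, ⟨⟨fun a b => Subsingleton.elim _ _⟩⟩, fun x => Subsingleton.elim _ _, ?_, fun ω => Subsingleton.elim _ _⟩
    haveI := hprim.toIsPretransitive
    refine ⟨fun a b => ⟨1, ?_⟩⟩
    obtain ⟨g, hg⟩ := MulAction.exists_smul_eq G a b
    rw [one_smul, ← hg, Subsingleton.elim g 1, one_smul]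
  haveI : Nontrivial G := not_subsingleton_iff_nontrivial.1 hG
  haveI := hprim
  have htr : ∀ V ∈ S, MulAction.IsPretransitive V Ω := by
    intro V hV
    haveI := hV.1
    haveI := MulAction.IsPreprimitive.isQuasiPreprimitive (M := G) (α := Ω)
    refine MulAction.IsQuasiPreprimitive.isPretransitive_of_normal (N := V) fun hfix => hV.2.1 ?_
    rw [Subgroup.eq_bot_iff_forall]
    intro v hv
    refine eq_of_smul_eq_smul fun ω : Ω => ?_
    have : ω ∈ MulAction.fixedPoints V Ω := hfix ▸ Set.mem_univ ω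
    rw [one_smul]
    exact this ⟨v, hv⟩
  obtain ⟨M, hM⟩ := CfsgLib.Solv.exists_isMinimalNormal (G := G)
  have hMS : M ∈ S := hM
  set f := MulAction.toPermHom G Ω
  have hf : Function.Injective f := MulAction.toPerm_injective
  set e : G ≃* f.range := MonoidHom.ofInjective hf
  haveI := hM.1
  have key : ∀ M' ∈ S, M' ≠ M → ¬ IsMulCommutative M ∧ Nonempty (M ≃* M') ∧
      (∀ ω : Ω, MulAction.stabilizer M ω = ⊥) ∧ ∀ L ∈ S, L = M ∨ L = M' := by
    intro M' hM' hne
    haveI := hM'.1
    have hmap : ∀ L : Subgroup G, L.Normal → (L.map e.toMonoidHom).Normal := fun L hL => hL.map _ e.surjective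
    haveI := hmap M hM.1
    haveI := hmap M' hM'.1
    have hmin : ∀ L : Subgroup G, L ∈ S → ∀ K : Subgroup f.range, K.Normal → K ≤ L.map e.toMonoidHom → K = ⊥ ∨ K = L.map e.toMonoidHom := by
      intro L hL K hK hKL
      have e1 : (K.comap e.toMonoidHom).map e.toMonoidHom = K := Subgroup.map_comap_eq_self_of_surjective e.surjective K
      have h2 : K.comap e.toMonoidHom ≤ L := by
        intro x hx
        obtain ⟨y, hy, hye⟩ := hKL hx
        rwa [← e.injective hye]
      rcases hL.2.2 _ (hK.comap _) h2 with h | h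
      · left; rw [← e1, h, Subgroup.map_bot]
      · right; rw [← e1, h]
    have hne' : ∀ L : Subgroup G, L ≠ ⊥ → L.map e.toMonoidHom ≠ ⊥ := fun L hL h =>
      hL ((Subgroup.map_eq_bot_iff_of_injective L e.injective).1 h)
    have ht : ∀ L : Subgroup G, L ∈ S → MulAction.IsPretransitive (L.map e.toMonoidHom) Ω := fun L hL => by
      haveI := htr L hL
      refine ⟨fun a b => ?_⟩
      obtain ⟨l, hl⟩ := MulAction.exists_smul_eq L a b
      exact ⟨⟨e l, ⟨l, l.2, rfl⟩⟩, hl⟩
    have hres := Cfsg.Agent.S0704.result f.range (M.map e.toMonoidHom) (M'.map e.toMonoidHom)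
      (hne' M hM.2.1) (hne' M' hM'.2.1) (hmin M hMS) (hmin M' hM')
      (fun h => hne (Subgroup.map_injective e.injective h).symm) (ht M hMS) (ht M' hM')
    obtain ⟨h1, -, h3, ⟨h4⟩, -, -, h7⟩ := hres
    refine ⟨fun hc => h3 ?_, ⟨((M.equivMapOfInjective _ e.injective).trans h4).trans (M'.equivMapOfInjective _ e.injective).symm⟩, fun ω => ?_, fun L hL => ?_⟩
    · refine ⟨⟨fun a b => ?_⟩⟩
      obtain ⟨a', rfl⟩ := (M.equivMapOfInjective _ e.injective).surjective a
      obtain ⟨b', rfl⟩ := (M.equivMapOfInjective _ e.injective).surjective b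
      exact ((map_mul _ a' b').symm.trans (congrArg _ (hc.is_comm.comm a' b'))).trans (map_mul _ b' a')
    · rw [Subgroup.eq_bot_iff_forall]
      rintro m hm
      have hm' : (⟨e m, ⟨m, m.2, rfl⟩⟩ : M.map e.toMonoidHom) ∈ MulAction.stabilizer (M.map e.toMonoidHom) ω := hm
      rw [h1 ω, Subgroup.mem_bot] at hm'
      exact Subtype.ext (e.injective ((congrArg Subtype.val hm').trans (map_one e).symm))
    · haveI := hL.1
      rcases h7 (L.map e.toMonoidHom) (hmap L hL.1) (hne' L hL.2.1) (hmin L hL) with h | h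
      · exact .inl (Subgroup.map_injective e.injective h)
      · exact .inr (Subgroup.map_injective e.injective h)
  obtain ⟨T, hTg, m, hT, hm, ⟨eM⟩⟩ := Cfsg.Agent.S0721.result M hM.2.1 hM.2.2
  have hTab : (∀ a b : T, a * b = b * a) → IsMulCommutative M := fun hT' =>
    ⟨⟨fun a b => eM.injective (by rw [map_mul, map_mul]; funext i; exact hT' _ _)⟩⟩
  by_cases hone : ∀ M' ∈ S, M' = M
  · have hNM : N = M := by
      rw [hN]
      exact le_antisymm (sSup_le fun V hV => (hone V hV).le) (le_sSup hMS)
    subst hNM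
    by_cases hab : IsMulCommutative N
    · left
      have hsol : Group.IsSolvable N := Group.isSolvable_of_comm fun a b => hab.is_comm.comm a b
      obtain ⟨p, hp, hexp, -⟩ := CfsgLib.Solv.exists_prime_exponent_of_minimal_solvable hM hsol
      refine ⟨p, hp, hab, fun x => Subtype.ext (by rw [Subgroup.coe_pow]; exact hexp x x.2), htr N hMS, fun ω => ?_⟩
      haveI := htr N hMS
      rw [Subgroup.eq_bot_iff_forall]
      intro n hn
      refine Subtype.ext (eq_of_smul_eq_smul fun x : Ω => ?_)
      obtain ⟨k, rfl⟩ := MulAction.exists_smul_eq N ω x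
      rw [Subgroup.coe_one, one_smul]
      show n • k • ω = k • ω
      rw [smul_smul, hab.is_comm.comm n k, mul_smul, show n • ω = ω from hn]
    · exact .inr ⟨T, hTg, m, hm, hT, fun hc => hab (hTab fun a b => hc.is_comm.comm a b), ⟨eM⟩⟩
  · right
    push Not at hone
    obtain ⟨M', hM', hne⟩ := hone
    obtain ⟨hnc, ⟨eMM⟩, hreg, honly⟩ := key M' hM' hne
    haveI := hM'.1
    have hNsup : N = M ⊔ M' := by
      rw [hN]
      refine le_antisymm (sSup_le fun V hV => ?_) (sup_le (le_sSup hMS) (le_sSup hM'))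
      rcases honly V hV with h | h <;> rw [h]
      · exact le_sup_left
      · exact le_sup_right
    have hd : Disjoint M M' := by
      rw [disjoint_iff]
      rcases hM'.2.2 (M ⊓ M') inferInstance inf_le_right with h | h
      · exact h
      · exact absurd ((hM.2.2 M' hM'.1 (inf_eq_right.1 h)).resolve_left hM'.2.1) hne
    have hcomm := Subgroup.commute_of_normal_of_disjoint M M' hM.1 hM'.1 hd
    let φ : M × M' →* ↥(M ⊔ M') := MonoidHom.noncommCoprod
      (Subgroup.inclusion le_sup_left) (Subgroup.inclusion le_sup_right)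
      (fun k c => Subtype.ext (hcomm k c k.2 c.2))
    have hφ : Function.Bijective φ := by
      constructor
      · rw [← MonoidHom.ker_eq_bot_iff, eq_bot_iff]
        rintro ⟨k, c⟩ h
        rw [MonoidHom.mem_ker] at h
        have h1 : (k : G) * c = 1 := congrArg Subtype.val h
        have h2 : (k : G) = 1 := Subgroup.mem_bot.1 (hd.le_bot ⟨k.2, eq_inv_of_mul_eq_one_left h1 ▸ M'.inv_mem c.2⟩)
        rw [h2, one_mul] at h1
        exact Subgroup.mem_bot.2 (Prod.ext (Subtype.ext h2) (Subtype.ext h1))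
      · rintro ⟨x, hx⟩
        have hx' : x ∈ ((M ⊔ M' : Subgroup G) : Set G) := hx
        rw [Subgroup.normal_mul] at hx'
        obtain ⟨k, hk, c, hc', rfl⟩ := hx'
        exact ⟨(⟨k, hk⟩, ⟨c, hc'⟩), Subtype.ext rfl⟩
    let app : (Fin m → T) × (Fin m → T) ≃* (Fin (m + m) → T) :=
      { toEquiv := (Equiv.sumArrowEquivProdArrow _ _ _).symm.trans (Equiv.arrowCongr finSumFinEquiv (Equiv.refl T))
        map_mul' := fun x y => by
          funext i
          rcases h : finSumFinEquiv.symm i with j | j <;>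
            simp [Equiv.arrowCongr, Equiv.sumArrowEquivProdArrow, h] }
    subst hNsup
    exact ⟨T, hTg, m + m, by omega, hT, fun hc => hnc (hTab fun a b => hc.is_comm.comm a b),
      ⟨((MulEquiv.ofBijective φ hφ).symm.trans (eM.prodCongr (eMM.symm.trans eM))).trans app⟩⟩

end Cfsg.Agent.S3680
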