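import Cfsg.Statements.S3681
import Mathlib.GroupTheory.GroupAction.Jordan
import Mathlib.GroupTheory.Perm.Cycle.Type
-- import your own Cfsg.Agent.* helpers here

set_option autoImplicit false
open Cfsg

namespace Cfsg.Agent.S3681

open Equiv Equiv.Perm in
theorem commutator_three {α : Type*} [Fintype α] [DecidableEq α] (g h : Perm α) (a : α) (ga : g a ≠ a)
    (ha : h a ≠ a) (hm : ∀ x, g x ≠ x → h x ≠ x → x = a) : IsThreeCycle (g * h * g⁻¹ * h⁻¹) := by
  have gga : g (g a) ≠ g a := fun e => ga (g.injective e)
  have hha : h (h a) ≠ h a := fun e => ha (h.injective e)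
  have hga : h (g a) = g a := by by_contra e; exact ga (hm _ gga e)
  have gha : g (h a) = h a := by by_contra e; exact ha (hm _ e hha)
  have hne : h a ≠ g a := fun e => gga (by rw [← e]; exact gha)
  have key : g * h = swap a (h a) * swap a (g a) * (h * g) := by
    refine Equiv.ext fun y => ?_
    show g (h y) = swap a (h a) (swap a (g a) (h (g y)))
    by_cases e1 : y = a
    · subst e1
      rw [gha, hga]; simp
    by_cases e2 : g y = a
    · have hy : h y = y := by
        by_contra e; exact e1 (hm _ (fun e' => e1 (e'.symm.trans e2)) e)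
      rw [hy, e2, swap_apply_of_ne_of_ne ha hne, swap_apply_right]
    by_cases e3 : h y = a
    · have hy : g y = y := by
        by_contra e; exact e1 (hm _ e (fun e' => e1 (e'.symm.trans e3)))
      rw [hy, e3, swap_apply_left, swap_apply_of_ne_of_ne ga hne.symm]
    by_cases eh : h y = y
    · have p : h (g y) = g y := by
        by_contra e
        by_cases eg : g y = y
        · exact e (by rw [eg, eh])
        · exact e2 (hm _ (fun e' => eg (g.injective e')) e)
      rw [eh, p, swap_apply_of_ne_of_ne e2 (fun e => e1 (g.injective e)), swap_apply_of_ne_of_ne e2]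
      intro e
      by_cases eg : g y = y
      · rw [eg] at e; subst e; exact hha eh
      · exact eg (g.injective (by rw [e, gha]))
    · have p : g y = y := by
        by_contra e; exact e1 (hm _ e eh)
      have q : g (h y) = h y := by
        by_contra e; exact e3 (hm _ e (fun e' => eh (h.injective e')))
      rw [p, q, swap_apply_of_ne_of_ne e3 (fun e => eh (h.injective (by rw [e, hga]))),
        swap_apply_of_ne_of_ne e3 (fun e => e1 (h.injective e))]
  rw [show g * h * g⁻¹ * h⁻¹ = swap a (h a) * swap a (g a) by rw [key]; group]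
  exact isThreeCycle_swap_mul_swap_same (Ne.symm ha) (Ne.symm ga) hne

end Cfsg.Agent.S3681

namespace Cfsg.Agent.S3681

/-- Bochert's bound for primitive groups. Let a finite group G act faithfully and primitively on a finite set Ω with n elements, and suppose the image of G in the symmetric group of Ω does not contain the alternating group of Ω. Then |G| · ⌊(n + 1)/2⌋! ≤ n!, that is, the index of G in the symmetric group is at least ⌊(n + 1)/2⌋!. -/
theorem result {G Ω : Type*} [Group G] [Finite G] [MulAction G Ω] [FaithfulSMul G Ω] [Fintype Ω] [DecidableEq Ω]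
    (hprim : MulAction.IsPreprimitive G Ω) (hA : ¬ alternatingGroup Ω ≤ (MulAction.toPermHom G Ω).range) :
    Nat.card G * Nat.factorial ((Fintype.card Ω + 1) / 2) ≤ Nat.factorial (Fintype.card Ω) := by
  classical
haveI := Fintype.ofFinite G
let φ := MulAction.toPermHom G Ω
have hφ : Function.Injective φ := MulAction.toPerm_injective
haveI : MulAction.IsPreprimitive φ.range Ω :=
  MulAction.IsPreprimitive.of_surjective
    (f := ({ toFun := id, map_smul' := fun _ _ => rfl } : Ω →ₑ[φ.rangeRestrict] Ω)) Function.surjective_id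
let P : Finset Ω → Prop := fun D => ∀ g : G, (∀ x, x ∉ D → g • x = x) → g = 1
obtain ⟨D, hD, hmax⟩ := Finset.exists_max_image (Finset.univ.filter P) Finset.card
  ⟨∅, Finset.mem_filter.2 ⟨Finset.mem_univ _, fun g hg => eq_of_smul_eq_smul (α := Ω) fun x => by
    rw [hg x (Finset.notMem_empty x), one_smul]⟩⟩
have hP : P D := (Finset.mem_filter.1 hD).2
have hlarge : (Fintype.card Ω + 1) / 2 ≤ D.card := by
  by_contra hlt
  have hc : D.card < Dᶜ.card := by rw [Finset.card_compl]; omega
  have hno : ∀ E : Finset Ω, D.card < E.card → ∃ g : G, g ≠ 1 ∧ ∀ x, x ∉ E → g • x = x := by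
    intro E hE
    have hn : ¬ P E := fun h => not_lt.2 (hmax E (Finset.mem_filter.2 ⟨Finset.mem_univ _, h⟩)) hE
    simp only [P, not_forall] at hn
    obtain ⟨g, h1, h2⟩ := hn
    exact ⟨g, h2, h1⟩
  obtain ⟨h, h1, hfix⟩ := hno _ hc
  obtain ⟨a, ha⟩ : ∃ a, h • a ≠ a := by
    by_contra hn
    push Not at hn
    exact h1 (eq_of_smul_eq_smul (α := Ω) fun x => by rw [hn x, one_smul])
  have haD : a ∉ D := fun haD => ha (hfix a (fun hc => Finset.mem_compl.1 hc haD))
  obtain ⟨g, g1, gfix⟩ := hno (insert a D) (by rw [Finset.card_insert_of_notMem haD]; omega)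
  have ga : g • a ≠ a := fun e => g1 (hP g fun x hx => by
    by_cases hxa : x = a
    · rw [hxa, e]
    · exact gfix x (by simp [hxa, hx]))
  have hm : ∀ x, φ g x ≠ x → φ h x ≠ x → x = a := by
    intro x hx1 hx2
    by_contra hxa
    by_cases hxD : x ∈ D
    · exact hx2 (hfix x (fun hc => Finset.mem_compl.1 hc hxD))
    · exact hx1 (gfix x (by simp [hxa, hxD]))
  exact hA (Equiv.Perm.alternatingGroup_le_of_isPreprimitive_of_isThreeCycle_mem inferInstance
    (commutator_three (φ g) (φ h) a ga ha hm)
    ⟨g * h * g⁻¹ * h⁻¹, by simp only [map_mul, map_inv]; rfl⟩)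
let f : G × Equiv.Perm D → Equiv.Perm Ω := fun z => φ z.1 * Equiv.Perm.ofSubtype z.2
have hf : Function.Injective f := by
  rintro ⟨g1, s1⟩ ⟨g2, s2⟩ e
  have e' : φ (g2⁻¹ * g1) = Equiv.Perm.ofSubtype (s2 * s1⁻¹) := by
    simp only [f] at e
    rw [map_mul, map_inv, map_mul, map_inv, inv_mul_eq_iff_eq_mul, ← mul_assoc, ← e, mul_inv_cancel_right]
  have h1 : g2⁻¹ * g1 = 1 := hP _ fun x hx => by
    have := Equiv.congr_fun e' x
    rw [Equiv.Perm.ofSubtype_apply_of_not_mem _ hx] at this
    exact this
  rw [h1, map_one, eq_comm, ← map_one (Equiv.Perm.ofSubtype (p := (· ∈ D)))] at e'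
  rw [inv_mul_eq_one] at h1
  exact Prod.ext h1.symm (mul_inv_eq_one.1 (Equiv.Perm.ofSubtype_injective e')).symm
have := Nat.card_le_card_of_injective f hf
rw [Nat.card_prod, Nat.card_perm, Nat.card_perm, Nat.card_eq_fintype_card (α := ↥D), Fintype.card_coe,
  Nat.card_eq_fintype_card (α := Ω)] at this
exact le_trans (Nat.mul_le_mul_left _ (Nat.factorial_le hlarge)) this

end Cfsg.Agent.S3681
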