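import Cfsg.Statements.S3683
import Mathlib

set_option autoImplicit false
open Cfsg

namespace Cfsg.Agent.S3683

/-- Let a finite group G act faithfully and primitively on a set Ω, and suppose the stabilizer of a point a fixes a second point b ≠ a (a suborbit of length 1 other than {a}). Then the stabilizer of a is trivial and G is cyclic of prime order. -/
theorem result {G Ω : Type*} [Group G] [Finite G] [MulAction G Ω] [FaithfulSMul G Ω] [Finite Ω]
    (hprim : MulAction.IsPreprimitive G Ω) (a b : Ω) (hab : a ≠ b) (hfix : ∀ g : G, g • a = a → g • b = b) :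
    MulAction.stabilizer G a = ⊥ ∧ IsCyclic G ∧ (Nat.card G).Prime := by
  haveI : Nontrivial Ω := ⟨⟨a, b, hab⟩⟩
  have hle : MulAction.stabilizer G a ≤ MulAction.stabilizer G b := fun g hg => hfix g hg
  have hcoa : IsCoatom (MulAction.stabilizer G a) := (MulAction.isCoatom_stabilizer_iff_preprimitive G a).2 hprim
  have hcob : IsCoatom (MulAction.stabilizer G b) := (MulAction.isCoatom_stabilizer_iff_preprimitive G b).2 hprim
  have heq : MulAction.stabilizer G a = MulAction.stabilizer G b :=
    (hle.lt_or_eq.resolve_left fun h => hcob.1 (hcoa.2 _ h))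
  obtain ⟨g, hg⟩ := MulAction.exists_smul_eq G a b
  have hgN : g ∈ Subgroup.normalizer ((MulAction.stabilizer G a : Subgroup G) : Set G) := by
    rw [Subgroup.mem_normalizer_iff]
    intro x
    conv_rhs => rw [heq]
    simp only [MulAction.mem_stabilizer_iff, mul_smul, ← hg, inv_smul_smul, smul_left_cancel_iff]
  have hN : (MulAction.stabilizer G a).Normal := by
    rw [← Subgroup.normalizer_eq_top_iff]
    refine hcoa.2 _ (lt_of_le_of_ne Subgroup.le_normalizer fun h => hab ?_)
    rw [← h, MulAction.mem_stabilizer_iff, hg] at hgN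
    exact hgN.symm
  have hbot : MulAction.stabilizer G a = ⊥ := by
    rw [Subgroup.eq_bot_iff_forall]
    intro x hx
    refine eq_of_smul_eq_smul (α := Ω) fun ω => ?_
    obtain ⟨k, rfl⟩ := MulAction.exists_smul_eq G a ω
    have := hN.conj_mem x hx k⁻¹
    rw [inv_inv, MulAction.mem_stabilizer_iff, mul_smul, mul_smul, inv_smul_eq_iff] at this
    rw [one_smul]
    exact this
  refine ⟨hbot, ?_⟩
  haveI : Nontrivial G := ⟨⟨g, 1, fun h => hab (by rw [← hg, h, one_smul])⟩⟩
  haveI : IsSimpleGroup G := ⟨fun H hH => by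
    rw [hbot] at hcoa
    rcases eq_or_ne H ⊥ with h | h
    · exact Or.inl h
    · exact Or.inr (hcoa.2 H (bot_lt_iff_ne_bot.2 h))⟩
  obtain ⟨x, hx⟩ := exists_ne (1 : G)
  have htop : Subgroup.zpowers x = ⊤ := by
    rw [hbot] at hcoa
    exact hcoa.2 _ (bot_lt_iff_ne_bot.2 (Subgroup.zpowers_ne_bot.2 hx))
  haveI hc : IsCyclic G := ⟨⟨x, fun y => Subgroup.mem_zpowers_iff.1 (by rw [htop]; exact Subgroup.mem_top y)⟩⟩
  haveI : IsMulCommutative G := inferInstance
  exact ⟨hc, Group.is_simple_iff_prime_card.1 inferInstance⟩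

end Cfsg.Agent.S3683
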