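import Cfsg.Statements.S3684
import Mathlib
import Cfsg.Agent.Inv.Dihedral

set_option autoImplicit false
open Cfsg

namespace Cfsg.Agent.S3684

/-- Let a finite group G act faithfully and primitively on a set Ω, and suppose the stabilizer of a point a has an orbit of length 2. Then the stabilizer of a has order 2 and G is isomorphic to the dihedral group of order 2p for some prime p. -/
theorem result {G Ω : Type*} [Group G] [Finite G] [MulAction G Ω] [FaithfulSMul G Ω] [Finite Ω]
    (hprim : MulAction.IsPreprimitive G Ω) (a b : Ω) (h2 : Nat.card (MulAction.orbit (MulAction.stabilizer G a) b) = 2) :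
    Nat.card (MulAction.stabilizer G a) = 2 ∧ ∃ p : ℕ, p.Prime ∧ Nonempty (G ≃* DihedralGroup p) := by
  classical
  set A := MulAction.stabilizer G a with hA
  set B := MulAction.stabilizer G b with hB
  haveI : Nontrivial Ω := by
    by_contra h
    rw [not_nontrivial_iff_subsingleton] at h
    haveI := h
    have := Finite.card_le_one_iff_subsingleton.2 (inferInstance : Subsingleton (MulAction.orbit A b))
    omega
  haveI := hprim
  obtain ⟨g, hg⟩ := MulAction.exists_smul_eq G a b
  have hcard : Nat.card B = Nat.card A :=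
    (Nat.card_congr (MulAction.stabilizerEquivStabilizer hg.symm).toEquiv).symm
  set I := A ⊓ B with hI
  have hidxA : (I.subgroupOf A).index = 2 := by
    have h1 : MulAction.stabilizer A b = I.subgroupOf A := by
      ext x
      simp [hI, hB, Subgroup.mem_subgroupOf, MulAction.mem_stabilizer_iff, Subgroup.smul_def]
    rw [← h1, MulAction.index_stabilizer]
    rwa [← Nat.card_coe_set_eq]
  have hidxB : (I.subgroupOf B).index = 2 := by
    have e1 := (I.subgroupOf A).index_mul_card
    have e2 := (I.subgroupOf B).index_mul_card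
    rw [Nat.card_congr (Subgroup.subgroupOfEquivOfLe (inf_le_left : I ≤ A)).toEquiv, hidxA] at e1
    rw [Nat.card_congr (Subgroup.subgroupOfEquivOfLe (inf_le_right : I ≤ B)).toEquiv, hcard, ← e1] at e2
    exact Nat.eq_of_mul_eq_mul_right Nat.card_pos e2
  have hnA : A ≤ Subgroup.normalizer (I : Set G) :=
    (Subgroup.normal_subgroupOf_iff_le_normalizer inf_le_left).1 (Subgroup.normal_of_index_eq_two hidxA)
  have hnB : B ≤ Subgroup.normalizer (I : Set G) :=
    (Subgroup.normal_subgroupOf_iff_le_normalizer inf_le_right).1 (Subgroup.normal_of_index_eq_two hidxB)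
  have hcoa : IsCoatom A := (MulAction.isCoatom_stabilizer_iff_preprimitive G a).2 hprim
  have hAB : ¬ B ≤ A := fun h => by
    have : I = B := inf_eq_right.2 h
    rw [this, Subgroup.subgroupOf_self, Subgroup.index_top] at hidxB
    omega
  have htop : A ⊔ B = ⊤ := hcoa.2 _ (lt_of_le_of_ne le_sup_left fun h => hAB (h ▸ le_sup_right))
  have hIn : I.Normal := by
    rw [← Subgroup.normalizer_eq_top_iff, eq_top_iff, ← htop]
    exact sup_le hnA hnB
  have hI1 : I = ⊥ := by
    rw [Subgroup.eq_bot_iff_forall]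
    intro x hx
    refine eq_of_smul_eq_smul (α := Ω) fun ω => ?_
    obtain ⟨k, rfl⟩ := MulAction.exists_smul_eq G a ω
    have := (hIn.conj_mem x hx k⁻¹).1
    rw [inv_inv] at this
    change ((k⁻¹ * x * k) • a = a) at this
    rw [mul_smul, mul_smul, inv_smul_eq_iff] at this
    rw [one_smul]
    exact this
  have hA2 : Nat.card A = 2 := by
    have e1 := (I.subgroupOf A).index_mul_card
    rw [hidxA, hI1, Subgroup.bot_subgroupOf, Subgroup.card_bot] at e1
    omega
  refine ⟨hA2, ?_⟩
  obtain ⟨x, hxA, hx1⟩ := A.bot_or_exists_ne_one.resolve_left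
    (fun h => by rw [h, Subgroup.card_bot] at hA2; omega)
  obtain ⟨y, hyB, hy1⟩ := B.bot_or_exists_ne_one.resolve_left
    (fun h => by rw [h, Subgroup.card_bot] at hcard; omega)
  have hox : orderOf x = 2 := by
    rcases (Nat.dvd_prime Nat.prime_two).1 (hA2 ▸ Subgroup.orderOf_dvd_natCard A hxA) with h | h
    · exact absurd (orderOf_eq_one_iff.1 h) hx1
    · exact h
  have hoy : orderOf y = 2 := by
    have h0 := Subgroup.orderOf_dvd_natCard B hyB
    rw [hcard, hA2] at h0
    rcases (Nat.dvd_prime Nat.prime_two).1 h0 with h | h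
    · exact absurd (orderOf_eq_one_iff.1 h) hy1
    · exact h
  have hzA : Subgroup.zpowers x = A := Subgroup.eq_of_le_of_card_ge (Subgroup.zpowers_le.2 hxA)
    (by rw [Nat.card_zpowers, hox, hA2])
  have hzB : Subgroup.zpowers y = B := Subgroup.eq_of_le_of_card_ge (Subgroup.zpowers_le.2 hyB)
    (by rw [Nat.card_zpowers, hoy, hcard, hA2])
  have hgen : Subgroup.closure ({x, y} : Set G) = ⊤ := by
    rw [eq_top_iff, ← htop, ← hzA, ← hzB]
    exact sup_le (Subgroup.zpowers_le.2 (Subgroup.subset_closure (Set.mem_insert x _)))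
      (Subgroup.zpowers_le.2 (Subgroup.subset_closure (Or.inr rfl)))
  obtain ⟨e⟩ := CfsgLib.Inv.dihedral_equiv hox hoy
  let e' : G ≃* DihedralGroup (orderOf (x * y)) :=
    (Subgroup.topEquiv.symm.trans (MulEquiv.subgroupCongr hgen.symm)).trans e
  refine ⟨orderOf (x * y), ?_, ⟨e'⟩⟩
  set n := orderOf (x * y) with hn
  have hnpos : 0 < n := orderOf_pos _
  have hn1 : n ≠ 1 := fun h => by
    have hh : y = x⁻¹ := eq_inv_of_mul_eq_one_right (orderOf_eq_one_iff.1 h)
    exact hy1 (by
      have hm : y ∈ I := ⟨by rw [hh]; exact A.inv_mem hxA, hyB⟩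
      rwa [hI1, Subgroup.mem_bot] at hm)
  obtain ⟨r, hr, hrn⟩ := Nat.exists_prime_and_dvd hn1
  by_contra hnp
  -- a proper overgroup of the point stabiliser
  set z := (x * y) ^ r with hz
  have hoz : orderOf z = n / r := orderOf_pow_of_dvd hr.ne_zero hrn
  have hflip : ∀ w ∈ Subgroup.zpowers z, x * w * x⁻¹ ∈ Subgroup.zpowers z := by
    rintro w ⟨j, rfl⟩
    refine ⟨-j, ?_⟩
    show z ^ (-j) = x * z ^ j * x⁻¹
    rw [← conj_zpow, zpow_neg, ← inv_zpow]
    congr 1
    rw [hz, ← conj_pow, show x * (x * y) * x⁻¹ = (x * y)⁻¹ by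
      rw [mul_inv_rev, CfsgLib.Inv.invol_inv hox, CfsgLib.Inv.invol_inv hoy, ← mul_assoc,
        CfsgLib.Inv.invol_mul_self hox, one_mul], inv_pow]
  have hAn : A ≤ Subgroup.normalizer (Subgroup.zpowers z : Set G) := by
    rw [← hzA, Subgroup.zpowers_le]
    exact Subgroup.mem_normalizer_fintype hflip
  have hne : A < A ⊔ Subgroup.zpowers z := by
    refine lt_of_le_of_ne le_sup_left fun h => ?_
    have hzmem : z ∈ A := h ▸ Subgroup.mem_sup_right (Subgroup.mem_zpowers z)
    have hdd := Subgroup.orderOf_dvd_natCard A hzmem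
    rw [hA2, hoz] at hdd
    rcases (Nat.dvd_prime Nat.prime_two).1 hdd with h1 | h1
    · exact hnp (Nat.eq_of_dvd_of_div_eq_one hrn h1 ▸ hr)
    · -- the rotation of order two would be x
      rw [← hzA] at hzmem
      obtain ⟨j, hj⟩ := hzmem
      have hz2 : z = x := by
        rcases Int.even_or_odd j with ⟨i, rfl⟩ | ⟨i, rfl⟩
        · exfalso
          have hz1 : z = 1 := by
            rw [← hj]; show x ^ (i + i) = 1
            rw [← two_mul, zpow_mul, zpow_two, CfsgLib.Inv.invol_mul_self hox, one_zpow]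
          rw [hz1, orderOf_one] at hoz
          omega
        · rw [← hj]; show x ^ (2 * i + 1) = x
          rw [zpow_add, zpow_mul, zpow_two, CfsgLib.Inv.invol_mul_self hox, one_zpow, one_mul, zpow_one]
      have hc0 : Commute z (x * y) := (Commute.refl (x * y)).pow_left r
      have hc1 : Commute x (x * y) := by rwa [hz2] at hc0
      have hc2 : Commute x y := by
        have := hc1.eq
        rw [mul_assoc x y x] at this
        exact mul_left_cancel this
      have h2 : n ∣ 2 := orderOf_dvd_of_pow_eq_one (by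
        rw [pow_two, hc2.symm.mul_mul_mul_comm, CfsgLib.Inv.invol_mul_self hox,
          CfsgLib.Inv.invol_mul_self hoy, one_mul])
      rcases (Nat.dvd_prime Nat.prime_two).1 h2 with h3 | h3
      · exact hn1 h3
      · exact hnp (h3 ▸ Nat.prime_two)
  have htop2 := hcoa.2 _ hne
  have hle : Nat.card (A ⊔ Subgroup.zpowers z : Subgroup G) ≤ 2 * (n / r) := by
    rw [← hA2, ← hoz, ← Nat.card_zpowers]
    rw [← SetLike.coe_sort_coe,
      Subgroup.coe_mul_of_left_le_normalizer_right A (Subgroup.zpowers z) hAn]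
    exact Set.natCard_mul_le
  rw [htop2, Subgroup.card_top, Nat.card_congr e'.toEquiv, DihedralGroup.nat_card] at hle
  have := Nat.div_lt_self hnpos hr.one_lt
  omega

end Cfsg.Agent.S3684
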