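import Cfsg.Statements.S3696
import Mathlib.Analysis.MeanInequalities
import Mathlib.GroupTheory.PGroup
import Mathlib.GroupTheory.Perm.Basic
import Mathlib.Tactic.Linarith
-- import your own Cfsg.Agent.* helpers here

set_option autoImplicit false
open Cfsg

namespace Cfsg.Agent.S3696

theorem amgm (k : ℕ) (z : Fin k → ℕ) : (∏ i, z i) * k ^ k ≤ (∑ i, z i) ^ k := by
  rcases Nat.eq_zero_or_pos k with rfl | hk
  · simp
  have hk' : (0 : ℝ) < k := by exact_mod_cast hk
  have h := Real.geom_mean_le_arith_mean (Finset.univ : Finset (Fin k)) (fun _ => (1 : ℝ)) (fun i => (z i : ℝ))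
    (fun _ _ => zero_le_one) (by simpa using hk) (fun i _ => Nat.cast_nonneg _)
  simp only [Real.rpow_one, one_mul, Finset.sum_const, Finset.card_univ, Fintype.card_fin, nsmul_eq_mul, mul_one] at h
  have h2 := pow_le_pow_left₀ (Real.rpow_nonneg (Finset.prod_nonneg fun i _ => Nat.cast_nonneg _) _) h k
  rw [Real.rpow_inv_natCast_pow (Finset.prod_nonneg fun i _ => Nat.cast_nonneg _) hk.ne', div_pow,
    le_div_iff₀ (pow_pos hk' k)] at h2
  exact_mod_cast h2

theorem split_bound (p : ℕ) (hp : 2 ≤ p) : ∀ (d j : ℕ) (e : Fin j → ℕ), (∀ i, 1 ≤ e i) → j + d ≤ ∑ i, e i →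
    p ^ (∑ i, e i) * (j + d) ^ (j + d) ≤ (∑ i, p ^ e i) ^ (j + d) := by
  intro d
  induction d with
  | zero =>
    intro j e _ _
    rw [Nat.add_zero, ← Finset.prod_pow_eq_pow_sum]
    exact amgm j _
  | succ d ih =>
    intro j e he hsum
    obtain ⟨i, hi⟩ : ∃ i, 2 ≤ e i := by
      by_contra h
      push Not at h
      have : ∑ i, e i ≤ ∑ _i : Fin j, 1 := Finset.sum_le_sum fun i _ => Nat.le_of_lt_succ (h i)
      simp at this
      omega
    let f : Fin (j + 1) → ℕ := Fin.cons 1 (Function.update e i (e i - 1))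
    have hf : ∀ x, 1 ≤ f x := by
      intro x
      refine Fin.cases ?_ (fun y => ?_) x
      · simp only [f, Fin.cons_zero, le_refl]
      · simp only [f, Fin.cons_succ]
        rcases eq_or_ne y i with rfl | hy
        · rw [Function.update_self]; omega
        · rw [Function.update_of_ne hy]; exact he y
    have h1 : ∑ x, f x = ∑ x, e x := by
      rw [Fin.sum_univ_succ]
      simp only [f, Fin.cons_zero, Fin.cons_succ]
      rw [Finset.sum_update_of_mem (Finset.mem_univ i), ← Finset.sum_erase_add _ _ (Finset.mem_univ i),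
        ← Finset.erase_eq]
      omega
    have h2 : ∑ x, p ^ f x ≤ ∑ x, p ^ e x := by
      rw [Fin.sum_univ_succ]
      simp only [f, Fin.cons_zero, Fin.cons_succ]
      have : (fun x => p ^ Function.update e i (e i - 1) x) = Function.update (fun x => p ^ e x) i (p ^ (e i - 1)) := by
        funext x
        rcases eq_or_ne x i with rfl | hy
        · simp
        · simp [Function.update_of_ne hy]
      rw [this, Finset.sum_update_of_mem (Finset.mem_univ i), ← Finset.sum_erase_add _ _ (Finset.mem_univ i),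
        ← Finset.erase_eq]
      have hs : p ^ e i = p * p ^ (e i - 1) := by rw [← pow_succ']; congr 1; omega
      have hq : p ≤ p ^ (e i - 1) := Nat.le_self_pow (by omega) p
      have hm : 2 * p ^ (e i - 1) ≤ p * p ^ (e i - 1) := Nat.mul_le_mul_right _ hp
      simp only [pow_one]
      omega
    have h3 := ih (j + 1) f hf (by omega)
    rw [h1, show j + 1 + d = j + (d + 1) by omega] at h3
    exact h3.trans (Nat.pow_le_pow_left h2 _)

end Cfsg.Agent.S3696

namespace Cfsg.Agent.S3696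

/-- Let p be a prime, Ω a finite set with n ≥ p elements, and A an abelian p-subgroup of the symmetric group on Ω whose elements of order dividing p number p^k (so k is the rank of A). Then |A| · k^k ≤ n^k, that is, |A| ≤ (n/k)^k. -/
theorem result {Ω : Type*} [Fintype Ω] [DecidableEq Ω]
    (p : ℕ) (hp : p.Prime) (hn : p ≤ Fintype.card Ω) (A : Subgroup (Equiv.Perm Ω)) (hA : IsPGroup p A) (hab : IsMulCommutative A)
    (k : ℕ) (hk : Nat.card {x : A // x ^ p = 1} = p ^ k) :
    Nat.card A * k ^ k ≤ Fintype.card Ω ^ k := by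
  classical
  haveI := Fact.mk hp
  have comm : ∀ a b : A, a * b = b * a := hab.is_comm.comm
  let T : Subgroup A :=
    { carrier := {x | x ^ p = 1}
      one_mem' := one_pow p
      mul_mem' := fun {a b} ha hb => by
        show (a * b) ^ p = 1
        rw [(show Commute a b from comm a b).mul_pow, show a ^ p = 1 from ha, show b ^ p = 1 from hb, one_mul]
      inv_mem' := fun {a} ha => by
        show a⁻¹ ^ p = 1
        rw [inv_pow, show a ^ p = 1 from ha, inv_one] }
  have hT : Nat.card T = p ^ k := hk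
  let F : Finset Ω → Subgroup A := fun S => T ⊓ ⨅ ω ∈ S, MulAction.stabilizer A ω
  have memF : ∀ S x, x ∈ F S ↔ x ^ p = 1 ∧ ∀ ω ∈ S, (x : Equiv.Perm Ω) ω = ω := by
    intro S x
    simp only [F, Subgroup.mem_inf, Subgroup.mem_iInf, MulAction.mem_stabilizer_iff]
    rfl
  -- few points suffice to kill the elements of order p
  have hex : ∀ j, j ≤ k → ∃ S : Finset Ω, S.card ≤ j ∧ Nat.card (F S) ≤ p ^ (k - j) := by
    intro j
    induction j with
    | zero => exact fun _ => ⟨∅, le_rfl, by rw [Nat.sub_zero, ← hT]; exact Subgroup.card_le_of_le inf_le_left⟩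
    | succ j ih =>
      intro hj
      obtain ⟨S, hS, hF⟩ := ih (by omega)
      by_cases htriv : F S = ⊥
      · exact ⟨S, by omega, by rw [htriv, Subgroup.card_bot]; exact Nat.one_le_pow _ _ hp.pos⟩
      obtain ⟨⟨x, hx⟩, hx1⟩ := Subgroup.ne_bot_iff_exists_ne_one.1 htriv
      obtain ⟨ω, hω⟩ : ∃ ω, (x : Equiv.Perm Ω) ω ≠ ω := by
        by_contra h; push Not at h
        exact hx1 (Subtype.ext (Subtype.ext (Equiv.ext h)))
      refine ⟨insert ω S, (Finset.card_insert_le _ _).trans (by omega), ?_⟩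
      have hlt : F (insert ω S) < F S := by
        refine lt_of_le_of_ne (fun y hy => (memF _ _).2 ⟨((memF _ _).1 hy).1, fun η hη => ((memF _ _).1 hy).2 η (Finset.mem_insert_of_mem hη)⟩) fun e => ?_
        exact hω (((memF _ _).1 (e ▸ hx)).2 ω (Finset.mem_insert_self _ _))
      obtain ⟨a, ha⟩ := (IsPGroup.iff_card.1 (hA.to_subgroup (F S)))
      obtain ⟨b, hb⟩ := (IsPGroup.iff_card.1 (hA.to_subgroup (F (insert ω S))))
      have hab' : b < a := (Nat.pow_lt_pow_iff_right hp.one_lt).1 (hb ▸ ha ▸ (Subgroup.card_le_of_le hlt.le).lt_of_ne fun e => hlt.ne (Subgroup.eq_of_le_of_card_ge hlt.le e.ge))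
      have hak : a ≤ k - j := (Nat.pow_le_pow_iff_right hp.one_lt).1 (ha ▸ hF)
      rw [hb]
      exact Nat.pow_le_pow_right hp.pos (by omega)
  obtain ⟨S₀, hS₀, hF₀⟩ := hex k le_rfl
  rw [Nat.sub_self, pow_zero, Finite.card_le_one_iff_subsingleton] at hF₀
  have hbase : ∃ S : Finset Ω, (F S = ⊥ ∧ S.card ≤ k) ∧ ∀ S' : Finset Ω, F S' = ⊥ → S.card ≤ S'.card := by
    obtain ⟨S, hS, hmin⟩ := Finset.exists_min_image (Finset.univ.filter fun S : Finset Ω => F S = ⊥) Finset.card
      ⟨S₀, Finset.mem_filter.2 ⟨Finset.mem_univ _, Subgroup.eq_bot_of_subsingleton _⟩⟩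
    exact ⟨S, ⟨(Finset.mem_filter.1 hS).2, (hmin S₀ (Finset.mem_filter.2 ⟨Finset.mem_univ _, Subgroup.eq_bot_of_subsingleton _⟩)).trans hS₀⟩,
      fun S' h => hmin S' (Finset.mem_filter.2 ⟨Finset.mem_univ _, h⟩)⟩
  obtain ⟨S, ⟨hF, hSk⟩, hmin⟩ := hbase
  have hredundant : ∀ ω ∈ S, ¬ ∀ x : A, (∀ η ∈ S.erase ω, (x : Equiv.Perm Ω) η = η) → (x : Equiv.Perm Ω) ω = ω := by
    intro ω hω h
    have := hmin (S.erase ω) (eq_bot_iff.2 fun x hx => hF ▸ (memF _ _).2 ⟨((memF _ _).1 hx).1, fun η hη => by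
      rcases eq_or_ne η ω with rfl | hne
      · exact h x ((memF _ _).1 hx).2
      · exact ((memF _ _).1 hx).2 η (Finset.mem_erase.2 ⟨hne, hη⟩)⟩)
    have := Finset.card_erase_lt_of_mem hω
    omega
  -- the stabiliser of the chosen points is trivial
  have hfree : ∀ x : A, (∀ η ∈ S, (x : Equiv.Perm Ω) η = η) → x = 1 := by
    intro x hx
    obtain ⟨t, ht⟩ := hA x
    induction t generalizing x with
    | zero => simpa using ht
    | succ t ih =>
      have hp1 : x ^ p = 1 := ih (x ^ p) (fun η hη => by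
        rw [Subgroup.coe_pow]; exact Equiv.Perm.pow_apply_eq_self_of_apply_eq_self (hx η hη) p) (by rw [← pow_mul, ← pow_succ']; exact ht)
      exact Subgroup.mem_bot.1 (hF ▸ (memF _ _).2 ⟨hp1, hx⟩)
  let O : Ω → Finset Ω := fun ω => Finset.univ.image fun x : A => (x : Equiv.Perm Ω) ω
  have hdisj : (S : Set Ω).PairwiseDisjoint O := by
    intro ω hω η hη hne
    simp only [Function.onFun, Finset.disjoint_left]
    intro z hz hz'
    obtain ⟨a, -, ha⟩ := Finset.mem_image.1 hz
    obtain ⟨b, -, hb⟩ := Finset.mem_image.1 hz'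
    refine hredundant ω hω fun x hx => ?_
    have hxη := hx η (Finset.mem_erase.2 ⟨hne.symm, hη⟩)
    have c1 : x * a = a * x := comm x a
    have c2 : x * b = b * x := comm x b
    have d1 : (x : Equiv.Perm Ω) ((a : Equiv.Perm Ω) ω) = (a : Equiv.Perm Ω) ((x : Equiv.Perm Ω) ω) :=
      DFunLike.congr_fun (congrArg Subtype.val c1) ω
    have d2 : (x : Equiv.Perm Ω) ((b : Equiv.Perm Ω) η) = (b : Equiv.Perm Ω) ((x : Equiv.Perm Ω) η) :=
      DFunLike.congr_fun (congrArg Subtype.val c2) η
    rw [ha, ← hb, d2, hxη, hb, ← ha] at d1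
    exact ((a : Equiv.Perm Ω).injective d1).symm
  have hpow : ∀ ω ∈ S, ∃ e, 1 ≤ e ∧ (O ω).card = p ^ e := by
    intro ω hω
    obtain ⟨e, he⟩ := hA.card_orbit ω
    have hO : (O ω).card = p ^ e := by
      rw [← he, ← Nat.card_eq_finsetCard]
      refine Nat.card_congr (Equiv.subtypeEquivRight fun z => ?_)
      simp only [O, Finset.mem_image, Finset.mem_univ, true_and, MulAction.orbit, Set.mem_range]
      rfl
    refine ⟨e, Nat.one_le_iff_ne_zero.2 fun e0 => hredundant ω hω fun x _ => ?_, hO⟩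
    rw [e0, pow_zero, Finset.card_eq_one] at hO
    obtain ⟨z, hz⟩ := hO
    have m1 : (x : Equiv.Perm Ω) ω ∈ O ω := Finset.mem_image.2 ⟨x, Finset.mem_univ _, rfl⟩
    have m2 : ω ∈ O ω := Finset.mem_image.2 ⟨1, Finset.mem_univ _, rfl⟩
    rw [hz, Finset.mem_singleton] at m1 m2
    exact m1.trans m2.symm
  choose e he1 he using hpow
  let σ : Fin S.card ≃ S := S.equivFin.symm
  let E : Fin S.card → ℕ := fun i => e (σ i) (σ i).2
  have hcardA : Nat.card A ≤ p ^ (∑ i, E i) := by
    let Φ : A → ∀ i, O (σ i : Ω) := fun x i => ⟨(x : Equiv.Perm Ω) (σ i), Finset.mem_image.2 ⟨x, Finset.mem_univ _, rfl⟩⟩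
    have hΦ : Function.Injective Φ := by
      intro x y h
      refine (inv_mul_eq_one.1 (hfree (y⁻¹ * x) fun η hη => ?_)).symm
      have := congrArg Subtype.val (congrFun h (σ.symm ⟨η, hη⟩))
      simp only [Φ, Equiv.apply_symm_apply] at this
      rw [Subgroup.coe_mul, Equiv.Perm.mul_apply, this, Subgroup.coe_inv]
      exact Equiv.symm_apply_apply _ η
    refine (Nat.card_le_card_of_injective Φ hΦ).trans (le_of_eq ?_)
    rw [Nat.card_pi, ← Finset.prod_pow_eq_pow_sum]
    exact Finset.prod_congr rfl fun i _ => by rw [Nat.card_eq_finsetCard, he]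
  have hsum : ∑ i, p ^ E i ≤ Fintype.card Ω := by
    calc ∑ i, p ^ E i = ∑ i, (O (σ i : Ω)).card := Finset.sum_congr rfl fun i _ => (he _ _).symm
      _ = ∑ ω : S, (O (ω : Ω)).card := Equiv.sum_comp σ fun ω : S => (O (ω : Ω)).card
      _ = (S.biUnion O).card := by rw [Finset.card_biUnion hdisj, Finset.sum_coe_sort S fun ω => (O ω).card]
      _ ≤ _ := Finset.card_le_univ _
  have hkA : k ≤ ∑ i, E i :=
    (Nat.pow_le_pow_iff_right hp.one_lt).1 (hT ▸ (Subgroup.card_le_card_group T).trans hcardA)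
  have hb := split_bound p hp.two_le (k - S.card) S.card E (fun i => he1 _ _) (by omega)
  rw [Nat.add_sub_cancel' hSk] at hb
  exact (Nat.mul_le_mul_right _ hcardA).trans (hb.trans (Nat.pow_le_pow_left hsum k))

end Cfsg.Agent.S3696
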