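import Cfsg.Statements.S3703
import Mathlib.GroupTheory.Sylow
import Mathlib.GroupTheory.SpecificGroups.Cyclic
import Mathlib.GroupTheory.QuotientGroup.Basic
import Mathlib.Algebra.BigOperators.Fin
import Mathlib.Tactic.Group
-- import your own Cfsg.Agent.* helpers here

set_option autoImplicit false
open Cfsg

namespace Cfsg.Agent.S3703

/-- Twisted norm `y * η y * ... * η^(i-1) y`. -/
def nrm {P : Type*} [Group P] (η : MulAut P) : ℕ → P → P
  | 0, _ => 1
  | i + 1, y => nrm η i y * (η ^ i) y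

theorem nrm_map {P Q : Type*} [Group P] [Group Q] (f : P →* Q) (η : MulAut P) (η' : MulAut Q)
    (h : ∀ x, f (η x) = η' (f x)) (y : P) : ∀ i, f (nrm η i y) = nrm η' i (f y) := by
  have hp : ∀ i x, f ((η ^ i) x) = (η' ^ i) (f x) := by
    intro i
    induction i with
    | zero => simp
    | succ i ih => intro x; rw [pow_succ', pow_succ', MulAut.mul_apply, MulAut.mul_apply, h, ih]
  intro i
  induction i with
  | zero => simp [nrm]
  | succ i ih => rw [nrm, nrm, map_mul, ih, hp]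

theorem nrm_comm {V : Type*} [CommGroup V] (η : MulAut V) (v : V) : ∀ i, nrm η i v = ∏ j ∈ Finset.range i, (η ^ j) v
  | 0 => by simp [nrm]
  | i + 1 => by rw [nrm, nrm_comm η v i, Finset.prod_range_succ]

section Trivial
variable {R : Type*} [Group R] [Fintype R] (θ : MulAut R) (n : ℕ)

theorem trivial_comm (hθ : ∀ i, 0 < i → i < n → ∀ r, (θ ^ i) r = r → r = 1) (hn : 0 < n) {V : Type*} [CommGroup V] [Finite V]
    (hco : (Nat.card V).Coprime (Fintype.card R)) (φ : R →* MulAut V) (η : MulAut V)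
    (hc : ∀ r x, η (φ r x) = φ (θ r) (η x)) (hnorm : ∀ v, nrm η n v = 1) (r : R) (v : V) : φ r v = v := by
  classical
  have hci : ∀ i r x, (η ^ i) (φ r x) = φ ((θ ^ i) r) ((η ^ i) x) := by
    intro i
    induction i with
    | zero => simp
    | succ i ih =>
      intro r x
      rw [pow_succ', pow_succ', MulAut.mul_apply, MulAut.mul_apply, MulAut.mul_apply, ih, hc]
  let S : V → V := fun w => ∏ r : R, φ r w
  have hS : ∀ (i : ℕ), 0 < i → i < n → ∏ r : R, φ r ((η ^ i) (φ r⁻¹ v)) = S ((η ^ i) v) := by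
    intro i hi hin
    have hinj : Function.Injective fun r : R => r * (θ ^ i) r⁻¹ := by
      intro a b e
      simp only [map_inv] at e
      have e' : (θ ^ i) (b⁻¹ * a) = b⁻¹ * a := by
        rw [map_mul, map_inv]
        calc ((θ ^ i) b)⁻¹ * (θ ^ i) a = b⁻¹ * (b * ((θ ^ i) b)⁻¹) * (θ ^ i) a := by group
          _ = b⁻¹ * (a * ((θ ^ i) a)⁻¹) * (θ ^ i) a := by rw [e]
          _ = _ := by group
      exact (inv_mul_eq_one.1 (hθ i hi hin _ e')).symm
    refine Fintype.prod_bijective _ ⟨hinj, Finite.injective_iff_surjective.1 hinj⟩ _ _ fun r => ?_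
    rw [hci, map_inv (θ ^ i), map_mul, MulAut.mul_apply]
  have h1 : ∏ r : R, φ r (nrm η n (φ r⁻¹ v)) = 1 := by simp [hnorm]
  obtain ⟨m, rfl⟩ : ∃ m, n = m + 1 := ⟨n - 1, by omega⟩
  simp only [nrm_comm, map_prod] at h1
  rw [Finset.prod_comm, Finset.prod_range_succ'] at h1
  rw [Finset.prod_congr rfl fun i hi => hS (i + 1) (Nat.succ_pos i) (by rw [Finset.mem_range] at hi; omega)] at h1
  have h0 : ∏ r : R, φ r ((η ^ 0) (φ r⁻¹ v)) = v ^ Fintype.card R := by
    simp only [pow_zero, MulAut.one_apply, ← MulAut.mul_apply, ← map_mul, mul_inv_cancel, map_one]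
    simp
  rw [h0] at h1
  have hSmul : ∀ f : ℕ → V, ∀ k, ∏ i ∈ Finset.range k, S (f i) = S (∏ i ∈ Finset.range k, f i) := by
    intro f k
    simp only [S, map_prod]
    exact Finset.prod_comm
  rw [hSmul] at h1
  have hv := hnorm v
  rw [nrm_comm, Finset.prod_range_succ', pow_zero, MulAut.one_apply, mul_eq_one_iff_eq_inv] at hv
  rw [hv] at h1
  have hfix : ∀ s, φ s (v ^ Fintype.card R) = v ^ Fintype.card R := by
    intro s
    have e : v ^ Fintype.card R = (S v⁻¹)⁻¹ := eq_inv_of_mul_eq_one_right h1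
    rw [e, map_inv, inv_inj]
    simp only [S, map_prod, ← MulAut.mul_apply, ← map_mul]
    exact Fintype.prod_bijective (fun x => s * x) (Group.mulLeft_bijective s) _ _ fun x => rfl
  have h2 : (φ r v * v⁻¹) ^ Fintype.card R = 1 := by
    rw [mul_pow, ← map_pow, hfix, inv_pow, mul_inv_cancel]
  exact mul_inv_eq_one.1 ((powCoprime hco).injective (by simpa [powCoprime] using h2))

theorem trivial_pgroup (hθ : ∀ i, 0 < i → i < n → ∀ r, (θ ^ i) r = r → r = 1) (hn : 0 < n) {p : ℕ} [Fact p.Prime]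
    (hco : ¬ p ∣ Fintype.card R) :
    ∀ (k : ℕ) {P : Type*} [Group P] [Finite P], Nat.card P = k → IsPGroup p P → ∀ (φ : R →* MulAut P) (η : MulAut P),
      (∀ r x, η (φ r x) = φ (θ r) (η x)) → (∀ y, nrm η n y = 1) → ∀ r x, φ r x = x := by
  intro k
  induction k using Nat.strong_induction_on with
  | _ k ih =>
    intro P _ _ hk hP φ η hc hnorm r x
    classical
    rcases subsingleton_or_nontrivial P with hs | hs
    · exact Subsingleton.elim _ _
    have hpp : p.Prime := Fact.out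
    let Z := Subgroup.center P
    have hZne : Z ≠ ⊥ := by
      haveI := hP.center_nontrivial
      exact (Subgroup.nontrivial_iff_ne_bot _).1 this
    have hmapZ : ∀ f : MulAut P, Z.map (f : P ≃* P).toMonoidHom = Z := fun f =>
      Subgroup.characteristic_iff_map_eq.1 inferInstance f
    -- the quotient by the centre
    let φq : R →* MulAut (P ⧸ Z) := MonoidHom.mk' (fun a => QuotientGroup.congr Z Z (φ a) (hmapZ _))
      (fun a b => MulEquiv.ext fun q => QuotientGroup.induction_on q fun y => by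
        show QuotientGroup.mk' Z (φ (a * b) y) = QuotientGroup.mk' Z (φ a (φ b y))
        rw [map_mul]; rfl)
    let ηq : MulAut (P ⧸ Z) := QuotientGroup.congr Z Z η (hmapZ _)
    have hlt : Nat.card (P ⧸ Z) < k := by
      rw [← hk, ← Subgroup.index_eq_card, ← Z.index_mul_card]
      exact lt_mul_of_one_lt_right (Nat.pos_of_ne_zero Subgroup.index_ne_zero_of_finite) (Subgroup.one_lt_card_iff_ne_bot _ |>.2 hZne)
    have hq := ih _ hlt rfl (hP.to_quotient Z) φq ηq
      (fun a q => QuotientGroup.induction_on q fun y => congrArg (QuotientGroup.mk' Z) (hc a y))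
      (fun q => QuotientGroup.induction_on q fun y => by
        rw [← QuotientGroup.mk'_apply, ← nrm_map (QuotientGroup.mk' Z) η ηq (fun z => rfl), hnorm, map_one])
      r (x : P ⧸ Z)
    have hzc : x⁻¹ * φ r x ∈ Z := QuotientGroup.eq.1 hq.symm
    -- the action on the centre
    letI : CommGroup Z := { (inferInstance : Group Z) with mul_comm := fun a b => Subtype.ext ((Subgroup.mem_center_iff.1 b.2) a) }
    let φz : R →* MulAut Z := MonoidHom.mk' (fun a =>
        ((φ a : P ≃* P).subgroupMap Z).trans (MulEquiv.subgroupCongr (hmapZ _)))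
      (fun a b => MulEquiv.ext fun z => Subtype.ext (show φ (a * b) (z : P) = φ a (φ b z) by rw [map_mul]; rfl))
    let ηz : MulAut Z := ((η : P ≃* P).subgroupMap Z).trans (MulEquiv.subgroupCongr (hmapZ _))
    have hcard : (Nat.card Z).Coprime (Fintype.card R) := by
      obtain ⟨j, hj⟩ := IsPGroup.iff_card.1 (hP.to_subgroup Z)
      rw [hj]; exact ((Nat.Prime.coprime_iff_not_dvd hpp).2 hco).pow_left j
    have hz := trivial_comm θ n hθ hn hcard φz ηz (fun a z => Subtype.ext (hc a z))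
      (fun z => Subtype.ext (by
        have := nrm_map Z.subtype ηz η (fun w => rfl) z n
        simpa [hnorm] using this))
    -- coprimality
    set z := x⁻¹ * φ r x with hzdef
    have hx : φ r x = x * z := by rw [hzdef, mul_inv_cancel_left]
    have hfix : ∀ a : R, φ a z = z := fun a => congrArg Subtype.val (hz a ⟨z, hzc⟩)
    have hpow : ∀ j, φ (r ^ j) x = x * z ^ j := by
      intro j
      induction j with
      | zero => simp
      | succ j ihj => rw [pow_succ, map_mul, MulAut.mul_apply, hx, map_mul, ihj, hfix, pow_succ, mul_assoc]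
    have h1 := hpow (Fintype.card R)
    rw [pow_card_eq_one, map_one, MulAut.one_apply, eq_comm, mul_eq_left] at h1
    obtain ⟨j, hj⟩ := hP z
    have : orderOf z = 1 := Nat.eq_one_of_dvd_coprimes
      (((Nat.Prime.coprime_iff_not_dvd hpp).2 hco).pow_left j) (orderOf_dvd_of_pow_eq_one hj) (orderOf_dvd_of_pow_eq_one h1)
    rw [hx, orderOf_eq_one_iff.1 this, mul_one]

end Trivial

/-- conjugate of a subgroup -/
def cj {G : Type*} [Group G] (g : G) (H : Subgroup G) : Subgroup G := H.map (MulAut.conj g).toMonoidHom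

theorem mem_cj {G : Type*} [Group G] {g x : G} {H : Subgroup G} : x ∈ cj g H ↔ g⁻¹ * x * g ∈ H := by
  rw [cj, Subgroup.mem_map_equiv]
  simp [MulAut.conj_symm_apply]

theorem cj_cj {G : Type*} [Group G] (g h : G) (H : Subgroup G) : cj g (cj h H) = cj (g * h) H := by
  ext x; simp only [mem_cj]; rw [mul_inv_rev]; simp only [mul_assoc]

theorem cj_one {G : Type*} [Group G] (H : Subgroup G) : cj 1 H = H := by
  ext x; simp [mem_cj]

theorem mem_norm {G : Type*} [Group G] {g : G} {H : Subgroup G} : g ∈ Subgroup.normalizer (H : Set G) ↔ cj g H = H := by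
  constructor
  · intro h; ext x; rw [mem_cj]; exact (Subgroup.mem_normalizer_iff''.1 h x).symm
  · intro h; rw [Subgroup.mem_normalizer_iff'']; intro x; conv_lhs => rw [← h]
    exact mem_cj

theorem card_cj {G : Type*} [Group G] (g : G) (H : Subgroup G) : Nat.card (cj g H) = Nat.card H :=
  Nat.card_congr (H.equivMapOfInjective _ (MulAut.conj g).injective).symm.toEquiv

/-- two subgroups of Sylow order in `M` are conjugate in `M` -/
theorem conj_in {G : Type*} [Group G] [Finite G] (r : ℕ) [Fact r.Prime] {M A B : Subgroup G} (hA : A ≤ M) (hB : B ≤ M)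
    (hcA : Nat.card A = r ^ (Nat.card M).factorization r) (hcB : Nat.card B = r ^ (Nat.card M).factorization r) :
    ∃ m ∈ M, cj m A = B := by
  let PA : Sylow r M := Sylow.ofCard (A.subgroupOf M) (by rw [Nat.card_congr (Subgroup.subgroupOfEquivOfLe hA).toEquiv, hcA])
  let PB : Sylow r M := Sylow.ofCard (B.subgroupOf M) (by rw [Nat.card_congr (Subgroup.subgroupOfEquivOfLe hB).toEquiv, hcB])
  obtain ⟨⟨m, hm⟩, e⟩ := MulAction.exists_smul_eq M PA PB
  refine ⟨m, hm, ?_⟩
  have e' : ((⟨m, hm⟩ : M) • PA : Sylow r M).1 = B.subgroupOf M := congrArg (fun S : Sylow r M => S.1) e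
  ext x
  rw [mem_cj]
  constructor
  · intro hx
    have hxM : x ∈ M := by
      have := M.mul_mem (M.mul_mem hm (hA hx)) (M.inv_mem hm); simpa [mul_assoc] using this
    have : (⟨x, hxM⟩ : M) ∈ B.subgroupOf M := by
      rw [← e', Sylow.coe_subgroup_smul, Subgroup.mem_smul_pointwise_iff_exists]
      exact ⟨⟨m⁻¹ * x * m, hA hx⟩, hx, Subtype.ext (by simp [MulAut.smul_def, mul_assoc])⟩
    exact this
  · intro hx
    have : (⟨x, hB hx⟩ : M) ∈ B.subgroupOf M := hx
    rw [← e', Sylow.coe_subgroup_smul, Subgroup.mem_smul_pointwise_iff_exists] at this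
    obtain ⟨s, hs, e2⟩ := this
    have e3 := congrArg Subtype.val e2
    simp [MulAut.smul_def] at e3
    rw [← e3]
    have hs' : (s : G) ∈ A := hs
    simpa [mul_assoc] using hs'

end Cfsg.Agent.S3703

namespace Cfsg.Agent.S3703

/-- Let N be a normal subgroup of the finite group G such that G/N is a Frobenius group with kernel F and cyclic complement H, where the order of F is coprime to that of N and F is not contained in the image of C_G(N) in G/N. Then G has an element of order p·#H for some prime p dividing the order of N. (A standard tool in recognising groups by their element orders.) -/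
theorem result {G : Type*} [Group G] [Finite G] (N : Subgroup G) [N.Normal]
    (Fb Hb : Subgroup (G ⧸ N)) [Fb.Normal] (hHb : Cfsg.IsFrobeniusComplement Hb) (hker : Cfsg.frobeniusKernel Hb = (Fb : Set (G ⧸ N)))
    (hcyc : IsCyclic Hb) (hcop : (Nat.card Fb).Coprime (Nat.card N))
    (hnot : ¬ Fb ≤ (Subgroup.centralizer (N : Set G)).map (QuotientGroup.mk' N)) :
    ∃ p : ℕ, p.Prime ∧ p ∣ Nat.card N ∧ ∃ g : G, orderOf g = p * Nat.card Hb := by
  classical
  haveI := Fintype.ofFinite G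
  obtain ⟨hH1, -, hfrob⟩ := hHb
  have hdisj : ∀ x ∈ Hb, x ∈ Fb → x = 1 := by
    intro x hx hxF
    have : x ∈ Cfsg.frobeniusKernel Hb := by rw [hker]; exact hxF
    exact this.resolve_right fun h => h 1 (by simpa using hx)
  have hfpf : ∀ x ∈ Hb, x ≠ 1 → ∀ f ∈ Fb, x * f = f * x → f = 1 := by
    intro x hx hx1 f hf e
    by_contra hf1
    have hfH : f ∉ Hb := fun h => hf1 (hdisj f h hf)
    refine hx1 (Subgroup.mem_bot.1 (hfrob f hfH ▸ Subgroup.mem_inf.2 ⟨hx, ?_⟩))
    rw [Subgroup.mem_smul_pointwise_iff_exists]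
    exact ⟨x, hx, by simp [MulAut.smul_def, ← e]⟩
  obtain ⟨b, hb⟩ := hcyc.exists_ofOrder_eq_natCard
  have hb' : orderOf (b : G ⧸ N) = Nat.card Hb := by rw [Subgroup.orderOf_coe, hb]
  have hn2 : 1 < Nat.card Hb := Subgroup.one_lt_card_iff_ne_bot _ |>.2 hH1
  have hb1 : (b : G ⧸ N) ≠ 1 := fun e => by rw [e, orderOf_one] at hb'; omega
  -- every element of the coset of `b` is a conjugate of `b`
  have hcoset : ∀ f ∈ Fb, ∃ c ∈ Fb, c * b * c⁻¹ = f * (b : G ⧸ N) := by
    intro f hf
    let T : Fb → Fb := fun c => ⟨(c : G ⧸ N) * b * (c : G ⧸ N)⁻¹ * (b : G ⧸ N)⁻¹, by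
      have := Fb.mul_mem c.2 ((inferInstance : Fb.Normal).conj_mem _ (Fb.inv_mem c.2) b)
      simpa [mul_assoc] using this⟩
    have hT : Function.Injective T := by
      intro c d e
      have e' := congrArg Subtype.val e
      simp only [T, mul_left_inj] at e'
      refine (inv_mul_eq_one.1 (Subtype.ext (hfpf b b.2 hb1 _ (d⁻¹ * c).2 ?_))).symm
      simp only [Subgroup.coe_mul, Subgroup.coe_inv]
      calc (b : G ⧸ N) * ((d : G ⧸ N)⁻¹ * c) = (d : G ⧸ N)⁻¹ * ((d : G ⧸ N) * b * (d : G ⧸ N)⁻¹) * c := by group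
        _ = (d : G ⧸ N)⁻¹ * ((c : G ⧸ N) * b * (c : G ⧸ N)⁻¹) * c := by rw [e']
        _ = _ := by group
    obtain ⟨c, hc⟩ := Finite.injective_iff_surjective.1 hT ⟨f, hf⟩
    exact ⟨c, c.2, mul_inv_eq_iff_eq_mul.1 (congrArg Subtype.val hc)⟩
  -- a Sylow subgroup of the kernel acting non-trivially
  set C := (Subgroup.centralizer (N : Set G)).map (QuotientGroup.mk' N) with hCdef
  haveI : C.Normal := (inferInstance : (Subgroup.centralizer (N : Set G)).Normal).map _ (QuotientGroup.mk'_surjective N)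
  obtain ⟨r, hr, S, hS⟩ : ∃ r : ℕ, r.Prime ∧ ∃ S : Sylow r Fb, ¬ ((S : Subgroup Fb).map Fb.subtype ≤ C) := by
    by_contra hall
    push Not at hall
    apply hnot
    rw [← Subgroup.subgroupOf_eq_top]
    refine Subgroup.eq_top_of_card_eq _ (Nat.dvd_antisymm (Subgroup.card_subgroup_dvd_card _) ?_)
    rw [← Nat.factorization_prime_le_iff_dvd Nat.card_pos.ne' Nat.card_pos.ne']
    intro q hq
    haveI := Fact.mk hq
    obtain ⟨S⟩ : Nonempty (Sylow q Fb) := inferInstance
    have hle : (S : Subgroup Fb) ≤ C.subgroupOf Fb := fun x hx => hall q hq S ⟨x, hx, rfl⟩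
    have := Subgroup.card_dvd_of_le hle
    rw [S.card_eq_multiplicity] at this
    exact (hq.pow_dvd_iff_le_factorization Nat.card_pos.ne').1 this
  haveI := Fact.mk hr
  let S0 := (S : Subgroup Fb).map Fb.subtype
  have hS0F : S0 ≤ Fb := Subgroup.map_subtype_le _
  have hS0c : Nat.card S0 = r ^ (Nat.card Fb).factorization r := by
    rw [Subgroup.card_subtype, S.card_eq_multiplicity]
  obtain ⟨f, hf, hfS⟩ := conj_in r (M := Fb) (A := cj (b : G ⧸ N) S0) (B := S0)
    (fun x hx => by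
      rw [mem_cj] at hx
      have := (inferInstance : Fb.Normal).conj_mem _ (hS0F hx) (b : G ⧸ N)
      simpa [mul_assoc] using this) hS0F (by rw [card_cj, hS0c]) hS0c
  obtain ⟨c, hcF, hc⟩ := hcoset f hf
  -- the invariant Sylow subgroup
  let Rb := cj c⁻¹ S0
  have hRbF : Rb ≤ Fb := fun x hx => by
    rw [mem_cj, inv_inv] at hx
    have := (inferInstance : Fb.Normal).conj_mem _ (hS0F hx) c⁻¹
    simpa [mul_assoc] using this
  have hRbb : cj (b : G ⧸ N) Rb = Rb := by
    have e1 : cj (f * (b : G ⧸ N)) S0 = S0 := by rw [← cj_cj]; exact hfS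
    show cj (b : G ⧸ N) (cj c⁻¹ S0) = cj c⁻¹ S0
    rw [cj_cj, show (b : G ⧸ N) * c⁻¹ = c⁻¹ * (f * (b : G ⧸ N)) by rw [← hc]; group, ← cj_cj, e1]
  have hRbC : ¬ Rb ≤ C := by
    intro h
    apply hS
    intro x hx
    have h1 : c⁻¹ * x * c ∈ Rb := by rw [mem_cj, inv_inv, show c * (c⁻¹ * x * c) * c⁻¹ = x by group]; exact hx
    have := (inferInstance : C.Normal).conj_mem _ (h h1) c
    simpa [mul_assoc] using this
  have hRbc : Nat.card Rb = r ^ (Nat.card Fb).factorization r := by rw [card_cj, hS0c]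
  have hrF : r ∣ Nat.card Fb := by
    have : (Nat.card Fb).factorization r ≠ 0 := by
      intro e
      rw [e, pow_zero, Subgroup.card_eq_one] at hRbc
      exact hRbC (hRbc ▸ bot_le)
    exact Nat.dvd_of_factorization_pos this
  have hrN : ¬ r ∣ Nat.card N := fun h => hr.not_dvd_one (hcop ▸ Nat.dvd_gcd hrF h)
  set a := (Nat.card Fb).factorization r with hadef
  -- preimage and its Sylow subgroup
  let π := QuotientGroup.mk' N
  let R0 := Rb.comap π
  have hNR0 : N ≤ R0 := fun x hx => by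
    show π x ∈ Rb
    rw [show π x = 1 from (QuotientGroup.eq_one_iff x).2 hx]; exact Rb.one_mem
  have hcR0 : ∀ M : Subgroup G, M ≤ R0 → (∀ y ∈ Rb, ∃ m ∈ M, π m = y) → Nat.card M = Nat.card Rb * Nat.card (N.subgroupOf M) := by
    intro M hM hsur
    let g : M →* Rb := MonoidHom.codRestrict (π.comp M.subtype) Rb fun m => hM m.2
    have hg : g.range = ⊤ := MonoidHom.range_eq_top.2 fun y => by
      obtain ⟨m, hm, e⟩ := hsur y y.2
      exact ⟨⟨m, hm⟩, Subtype.ext e⟩
    rw [← g.ker.index_mul_card, Subgroup.index_ker, hg, Subgroup.card_top,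
      show g.ker = N.subgroupOf M by ext m; rw [MonoidHom.mem_ker, Subtype.ext_iff, Subgroup.mem_subgroupOf]; exact QuotientGroup.eq_one_iff _]
  have hfac : ∀ M : Subgroup G, M ≤ R0 → (∀ y ∈ Rb, ∃ m ∈ M, π m = y) → (Nat.card M).factorization r = a := by
    intro M hM hsur
    have hd : ¬ r ∣ Nat.card (N.subgroupOf M) := fun h => hrN (h.trans (by
      rw [← Subgroup.card_subtype]
      exact Subgroup.card_dvd_of_le (Subgroup.map_comap_le _ _)))
    rw [hcR0 M hM hsur, Nat.factorization_mul Nat.card_pos.ne' Nat.card_pos.ne', Finsupp.add_apply, hRbc,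
      Nat.Prime.factorization_pow hr, Finsupp.single_eq_same, Nat.factorization_eq_zero_of_not_dvd hd, add_zero]
  have hfacR0 := hfac R0 le_rfl fun y hy => by
    obtain ⟨m, hm⟩ := QuotientGroup.mk'_surjective N y
    exact ⟨m, show π m ∈ Rb by rw [show π m = y from hm]; exact hy, hm⟩
  obtain ⟨SR⟩ : Nonempty (Sylow r R0) := inferInstance
  let R := (SR : Subgroup R0).map R0.subtype
  have hR0 : R ≤ R0 := Subgroup.map_subtype_le _
  have hRc : Nat.card R = r ^ a := by rw [Subgroup.card_subtype, SR.card_eq_multiplicity, hfacR0]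
  have hRN : ∀ x ∈ R, x ∈ N → x = 1 := by
    intro x hx hxN
    have h1 : orderOf (⟨x, hx⟩ : R) ∣ r ^ a := hRc ▸ orderOf_dvd_natCard _
    have h2 : orderOf (⟨x, hxN⟩ : N) ∣ Nat.card N := orderOf_dvd_natCard _
    rw [Subgroup.orderOf_mk] at h1 h2
    exact orderOf_eq_one_iff.1 (Nat.eq_one_of_dvd_coprimes (((Nat.Prime.coprime_iff_not_dvd hr).2 hrN).pow_left a) h1 h2)
  have hRsur : ∀ y ∈ Rb, ∃ x ∈ R, π x = y := by
    have hinj : Function.Injective (fun x : R => (⟨π x, hR0 x.2⟩ : Rb)) := fun x y e => by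
      have e' : π (x⁻¹ * y : R) = 1 := by
        rw [Subgroup.coe_mul, Subgroup.coe_inv, map_mul, map_inv, show π x = π y from congrArg Subtype.val e, inv_mul_cancel]
      have := hRN _ (x⁻¹ * y).2 ((QuotientGroup.eq_one_iff _).1 e')
      exact inv_mul_eq_one.1 (Subtype.ext this)
    have hbij := (Function.Injective.bijective_of_nat_card_le hinj (by rw [hRc, hRbc]))
    intro y hy
    obtain ⟨x, hx⟩ := hbij.2 ⟨y, hy⟩
    exact ⟨x, x.2, congrArg Subtype.val hx⟩
  have hdec : ∀ x ∈ R0, ∃ ν ∈ N, ∃ ρ ∈ R, x = ν * ρ := by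
    intro x hx
    obtain ⟨ρ, hρ, e⟩ := hRsur (π x) hx
    refine ⟨x * ρ⁻¹, (QuotientGroup.eq_one_iff _).1 ?_, ρ, hρ, by group⟩
    show π (x * ρ⁻¹) = 1
    rw [map_mul, map_inv, e, mul_inv_cancel]
  obtain ⟨g0, hg0⟩ := QuotientGroup.mk'_surjective N (b : G ⧸ N)
  have hg0R : cj g0 R ≤ R0 := by
    intro x hx
    rw [mem_cj] at hx
    show π x ∈ Rb
    rw [← hRbb, mem_cj]
    rw [← hg0, ← map_inv, ← map_mul, ← map_mul]
    exact hR0 hx
  obtain ⟨m, hm, hmR⟩ := conj_in r (M := R0) hg0R hR0 (by rw [card_cj, hRc, hfacR0]) (by rw [hRc, hfacR0])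
  obtain ⟨ν, hν, ρ, hρ, em⟩ : ∃ ν ∈ N, ∃ ρ ∈ R, m⁻¹ = ν * ρ := hdec _ (R0.inv_mem hm)
  -- an element over `b` normalizing `R`
  obtain ⟨h1, hh1R, hh1b⟩ : ∃ h, cj h R = R ∧ π h = (b : G ⧸ N) := by
    refine ⟨ν⁻¹ * g0, ?_, ?_⟩
    · have e : cj g0 R = cj m⁻¹ R := by conv_rhs => rw [← hmR, cj_cj, inv_mul_cancel, cj_one]
      rw [← cj_cj, e, em, cj_cj, ← mul_assoc, inv_mul_cancel, one_mul]
      exact mem_norm.1 (Subgroup.le_normalizer hρ)
    · rw [map_mul, map_inv, show π ν = 1 from (QuotientGroup.eq_one_iff _).2 hν, inv_one, one_mul]; exact hg0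
  -- an invariant Sylow subgroup not centralized
  have hinvS : ∀ (q : ℕ) [Fact q.Prime], ∃ P : Sylow q N, ∀ x ∈ R, cj x ((P : Subgroup N).map N.subtype) = (P : Subgroup N).map N.subtype := by
    intro q _
    obtain ⟨P⟩ : Nonempty (Sylow q N) := inferInstance
    let K := R0 ⊓ Subgroup.normalizer (((P : Subgroup N).map N.subtype) : Set G)
    have hK : ∀ y ∈ Rb, ∃ k ∈ K, π k = y := by
      intro y hy
      obtain ⟨x, hx⟩ := QuotientGroup.mk'_surjective N y
      have htop := Sylow.normalizer_sup_eq_top P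
      have : x ∈ Subgroup.normalizer (((P : Subgroup N).map N.subtype) : Set G) ⊔ N := htop ▸ Subgroup.mem_top x
      obtain ⟨k, hk, u, hu, e⟩ := Subgroup.mem_sup_of_normal_right.1 this
      have hπ : π k = y := by
        rw [← hx, ← e]
        show π k = π (k * u)
        rw [map_mul, show π u = 1 from (QuotientGroup.eq_one_iff u).2 hu, mul_one]
      exact ⟨k, ⟨show π k ∈ Rb from hπ ▸ hy, hk⟩, hπ⟩
    obtain ⟨SK⟩ : Nonempty (Sylow r K) := inferInstance
    have hSKc : Nat.card ((SK : Subgroup K).map K.subtype) = r ^ a := by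
      rw [Subgroup.card_subtype, SK.card_eq_multiplicity, hfac K inf_le_left hK]
    obtain ⟨w, hw, hwR⟩ := conj_in r (M := R0) ((Subgroup.map_subtype_le _).trans inf_le_left) hR0
      (by rw [hSKc, hfacR0]) (by rw [hRc, hfacR0])
    obtain ⟨ν', hν', ρ', hρ', ew⟩ := hdec _ (R0.inv_mem hw)
    refine ⟨(⟨ν'⁻¹, N.inv_mem hν'⟩ : N) • P, fun x hx => ?_⟩
    have hmap : (((⟨ν'⁻¹, N.inv_mem hν'⟩ : N) • P : Sylow q N) : Subgroup N).map N.subtype = cj ν'⁻¹ ((P : Subgroup N).map N.subtype) := by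
      rw [Sylow.coe_subgroup_smul]
      ext z
      simp only [Subgroup.mem_map, mem_cj, Subgroup.mem_smul_pointwise_iff_exists]
      constructor
      · rintro ⟨-, ⟨s, hs, rfl⟩, rfl⟩
        exact ⟨s, hs, by simp [MulAut.smul_def, mul_assoc]⟩
      · rintro ⟨s, hs, e⟩
        refine ⟨_, ⟨s, hs, rfl⟩, ?_⟩
        simp only [Subgroup.coe_subtype] at e
        simp [MulAut.smul_def, e, mul_assoc]
    rw [hmap]
    -- w⁻¹ = ν' ρ'
    have e2 : ∃ y ∈ Subgroup.normalizer (((P : Subgroup N).map N.subtype) : Set G), x = ν'⁻¹ * y * ν' := by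
      refine ⟨ν' * x * ν'⁻¹, ?_, by group⟩
      have hx' : ρ'⁻¹ * x * ρ' ∈ R := R.mul_mem (R.mul_mem (R.inv_mem hρ') hx) hρ'
      rw [← hwR, mem_cj] at hx'
      have hn1 := ((Subgroup.map_subtype_le _) hx').2
      have ew2 : w = ρ'⁻¹ * ν'⁻¹ := by rw [← inv_inv w, ew, mul_inv_rev]
      rw [ew2] at hn1
      simpa [mul_assoc] using hn1
    obtain ⟨y, hy, rfl⟩ := e2
    rw [cj_cj, show ν'⁻¹ * y * ν' * ν'⁻¹ = ν'⁻¹ * y by group, ← cj_cj, mem_norm.1 hy]
  obtain ⟨p, hp, P, hPinv, hPnot⟩ : ∃ p : ℕ, p.Prime ∧ ∃ P : Sylow p N,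
      (∀ x ∈ R, cj x ((P : Subgroup N).map N.subtype) = (P : Subgroup N).map N.subtype) ∧
      ¬ ((P : Subgroup N).map N.subtype ≤ Subgroup.centralizer (R : Set G)) := by
    by_contra hall
    push Not at hall
    apply hRbC
    intro y hy
    obtain ⟨x, hx, rfl⟩ := hRsur y hy
    refine ⟨x, ?_, rfl⟩
    have htop : (Subgroup.centralizer (R : Set G)).subgroupOf N = ⊤ := by
      refine Subgroup.eq_top_of_card_eq _ (Nat.dvd_antisymm (Subgroup.card_subgroup_dvd_card _) ?_)
      rw [← Nat.factorization_prime_le_iff_dvd Nat.card_pos.ne' Nat.card_pos.ne']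
      intro q hq
      haveI := Fact.mk hq
      obtain ⟨P, hP⟩ := hinvS q
      have hle : (P : Subgroup N) ≤ (Subgroup.centralizer (R : Set G)).subgroupOf N := fun z hz => hall q hq P hP ⟨z, hz, rfl⟩
      have := Subgroup.card_dvd_of_le hle
      rw [P.card_eq_multiplicity] at this
      exact (hq.pow_dvd_iff_le_factorization Nat.card_pos.ne').1 this
    intro z hz
    have : (⟨z, hz⟩ : N) ∈ (Subgroup.centralizer (R : Set G)).subgroupOf N := htop ▸ Subgroup.mem_top _
    exact (this x hx).symm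
  haveI := Fact.mk hp
  let P0 := (P : Subgroup N).map N.subtype
  have hP0N : P0 ≤ N := Subgroup.map_subtype_le _
  have hP0c : Nat.card P0 = p ^ (Nat.card N).factorization p := by rw [Subgroup.card_subtype, P.card_eq_multiplicity]
  -- correct the lift so that it normalizes the Sylow subgroup
  obtain ⟨h, hhR, hhP, hhb⟩ : ∃ h, cj h R = R ∧ cj h P0 = P0 ∧ π h = (b : G ⧸ N) := by
    obtain ⟨ν1, hν1, e1⟩ := conj_in p (M := N) (A := cj h1 P0) (B := P0)
      (fun x hx => by
        rw [mem_cj] at hx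
        have := (inferInstance : N.Normal).conj_mem _ (hP0N hx) h1
        simpa [mul_assoc] using this) hP0N (by rw [card_cj, hP0c]) hP0c
    let K := R0 ⊓ Subgroup.normalizer (P0 : Set G)
    have hRK : R ≤ K := fun x hx => ⟨hR0 hx, mem_norm.2 (hPinv x hx)⟩
    have hR'K : cj ν1 R ≤ K := by
      intro x hx
      rw [mem_cj] at hx
      refine ⟨?_, mem_norm.2 ?_⟩
      · have := R0.mul_mem (R0.mul_mem (hNR0 hν1) (hR0 hx)) (R0.inv_mem (hNR0 hν1))
        simpa [mul_assoc] using this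
      · obtain ⟨z, hz, hz'⟩ : ∃ z ∈ R, x = ν1 * h1 * z * (ν1 * h1)⁻¹ := by
          refine ⟨h1⁻¹ * (ν1⁻¹ * x * ν1) * h1, ?_, by group⟩
          have := hx
          rwa [← hh1R, mem_cj] at this
        have e2 : cj (ν1 * h1) P0 = P0 := by rw [← cj_cj, e1]
        have e2' : cj (ν1 * h1)⁻¹ P0 = P0 := by
          conv_lhs => rw [← e2, cj_cj, inv_mul_cancel, cj_one]
        rw [hz', ← cj_cj, e2', ← cj_cj, hPinv z hz, e2]
    have hfK := hfac K inf_le_left fun y hy => by
      obtain ⟨x, hx, e⟩ := hRsur y hy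
      exact ⟨x, hRK hx, e⟩
    obtain ⟨κ, hκ, e3⟩ := conj_in r (M := K) hR'K hRK (by rw [card_cj, hRc, hfK]) (by rw [hRc, hfK])
    obtain ⟨ν2, hν2, ρ2, hρ2, e4⟩ := hdec _ (R0.inv_mem hκ.1)
    refine ⟨ν2⁻¹ * (ν1 * h1), ?_, ?_, ?_⟩
    · have e5 : cj ν1 R = cj κ⁻¹ R := by conv_rhs => rw [← e3, cj_cj, inv_mul_cancel, cj_one]
      rw [← cj_cj, ← cj_cj ν1, hh1R, e5, e4, cj_cj, ← mul_assoc, inv_mul_cancel, one_mul]
      exact mem_norm.1 (Subgroup.le_normalizer hρ2)
    · rw [← cj_cj, ← cj_cj ν1, e1]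
      have hρn : ρ2 ∈ Subgroup.normalizer (P0 : Set G) := (hRK hρ2).2
      have : ν2 ∈ Subgroup.normalizer (P0 : Set G) := by
        have := Subgroup.mul_mem _ (Subgroup.inv_mem _ hκ.2) (Subgroup.inv_mem _ hρn)
        rwa [e4, mul_inv_cancel_right] at this
      exact mem_norm.1 (Subgroup.inv_mem _ this)
    · rw [map_mul, map_mul, map_inv, show π ν1 = 1 from (QuotientGroup.eq_one_iff _).2 hν1,
        show π ν2 = 1 from (QuotientGroup.eq_one_iff _).2 hν2, inv_one, one_mul, one_mul, hh1b]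
  set n := Nat.card Hb with hn
  -- every element over `b` is settled, or has order `n`
  have settle : ∀ g : G, π g = (b : G ⧸ N) → g ^ n ≠ 1 → ∃ p : ℕ, p.Prime ∧ p ∣ Nat.card N ∧ ∃ g : G, orderOf g = p * n := by
    intro g hg hgn
    have hd : n ∣ orderOf g := hb' ▸ hg ▸ orderOf_map_dvd π g
    have hgN : g ^ n ∈ N := (QuotientGroup.eq_one_iff _).1 (by
      show π (g ^ n) = 1
      rw [map_pow, hg, ← hb', pow_orderOf_eq_one])
    obtain ⟨q, hq, hqd⟩ := Nat.exists_prime_and_dvd (mt orderOf_eq_one_iff.1 hgn)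
    refine ⟨q, hq, hqd.trans ((Subgroup.orderOf_mk (g ^ n) hgN).symm ▸ orderOf_dvd_natCard (⟨g ^ n, hgN⟩ : N)), ?_⟩
    have hd2 : q * n ∣ orderOf g := by
      rw [orderOf_pow, Nat.gcd_eq_right hd] at hqd
      exact (Nat.dvd_div_iff_mul_dvd hd).1 hqd |> fun e => by rwa [mul_comm]
    exact ⟨g ^ (orderOf g / (q * n)), orderOf_pow_orderOf_div (orderOf_pos g).ne' hd2⟩
  by_contra hno
  have hall : ∀ g : G, π g = (b : G ⧸ N) → g ^ n = 1 := fun g hg => by_contra fun h => hno (settle g hg h)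
  -- the actions
  let φ : R →* MulAut P0 := MonoidHom.mk' (fun x =>
      ((MulAut.conj (x : G) : G ≃* G).subgroupMap P0).trans (MulEquiv.subgroupCongr (hPinv x x.2)))
    (fun x y => MulEquiv.ext fun z => Subtype.ext (show ((x * y : R) : G) * z * ((x * y : R) : G)⁻¹ = (x : G) * ((y : G) * z * (y : G)⁻¹) * (x : G)⁻¹ by rw [Subgroup.coe_mul]; group))
  let η : MulAut P0 := ((MulAut.conj h : G ≃* G).subgroupMap P0).trans (MulEquiv.subgroupCongr hhP)
  let θ : MulAut R := ((MulAut.conj h : G ≃* G).subgroupMap R).trans (MulEquiv.subgroupCongr hhR)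
  have hθv : ∀ (i : ℕ) (x : R), (((θ ^ i) x : R) : G) = h ^ i * x * (h ^ i)⁻¹ := by
    intro i
    induction i with
    | zero => simp
    | succ i ih =>
      intro x
      rw [pow_succ', MulAut.mul_apply]
      show h * ((θ ^ i) x : R) * h⁻¹ = _
      rw [ih, pow_succ']; group
  have hηv : ∀ (i : ℕ) (x : P0), (((η ^ i) x : P0) : G) = h ^ i * x * (h ^ i)⁻¹ := by
    intro i
    induction i with
    | zero => simp
    | succ i ih =>
      intro x
      rw [pow_succ', MulAut.mul_apply]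
      show h * ((η ^ i) x : P0) * h⁻¹ = _
      rw [ih, pow_succ']; group
  have hnrm : ∀ (y : P0) (i : ℕ), ((y : G) * h) ^ i = (nrm η i y : P0) * h ^ i := by
    intro y i
    induction i with
    | zero => simp [nrm]
    | succ i ih =>
      rw [pow_succ, ih, nrm, Subgroup.coe_mul, hηv]
      group
  have htriv := trivial_pgroup θ n ?_ (by omega) (p := p) ?_ _ rfl (P.isPGroup'.map N.subtype) φ η ?_ ?_
  · apply hPnot
    intro z hz x hx
    have := congrArg Subtype.val (htriv ⟨x, hx⟩ ⟨z, hz⟩)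
    exact mul_inv_eq_iff_eq_mul.1 this
  · intro i hi hin x hx
    have e := congrArg Subtype.val hx
    rw [hθv, mul_inv_eq_iff_eq_mul] at e
    have e2 := congrArg π e
    rw [map_mul, map_mul, map_pow, hhb] at e2
    have hb_ne : (b : G ⧸ N) ^ i ≠ 1 := pow_ne_one_of_lt_orderOf hi.ne' (hb'.symm ▸ hin)
    have := hfpf _ (Hb.pow_mem b.2 i) hb_ne _ (hRbF (hR0 x.2)) e2
    exact Subtype.ext (hRN _ x.2 ((QuotientGroup.eq_one_iff _).1 this))
  · rw [← Nat.card_eq_fintype_card, hRc]
    intro hpd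
    have hpr := (Nat.prime_dvd_prime_iff_eq hp hr).1 (hp.dvd_of_dvd_pow hpd)
    subst hpr
    apply hPnot
    rw [Nat.factorization_eq_zero_of_not_dvd hrN, pow_zero, Subgroup.card_eq_one] at hP0c
    exact hP0c.le.trans bot_le
  · intro x z
    apply Subtype.ext
    show h * ((x : G) * z * (x : G)⁻¹) * h⁻¹ = (h * (x : G) * h⁻¹) * (h * z * h⁻¹) * (h * (x : G) * h⁻¹)⁻¹
    group
  · intro y
    apply Subtype.ext
    have := hnrm y n
    rw [hall _ hhb, mul_one, hall _ (by rw [map_mul, show π (y : G) = 1 from (QuotientGroup.eq_one_iff _).2 (hP0N y.2), one_mul, hhb])] at this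
    exact this.symm

end Cfsg.Agent.S3703
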