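import Cfsg.Statements.S3704
import Cfsg.Agent.Base.Small.TwoOrbits

set_option autoImplicit false
open Cfsg

namespace Cfsg.Agent.S3704

/-- Let G be a finite group acting faithfully and 2-transitively on a finite set Ω of size n, and let H be a subgroup of index n in G which is not transitive on Ω and fixes no point of Ω. Then H has exactly two orbits on Ω. -/
theorem result {G Ω : Type*} [Group G] [Finite G] [MulAction G Ω] [FaithfulSMul G Ω] [Finite Ω] (h2 : MulAction.IsMultiplyPretransitive G Ω 2) (H : Subgroup G) (hidx : H.index = Nat.card Ω) (hnt : ¬ MulAction.IsPretransitive H Ω) (hfix : ∀ a : Ω, ∃ h : H, h • a ≠ a) : Nat.card (MulAction.orbitRel.Quotient H Ω) = 2 := by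
  classical
  have hne : Nonempty Ω := by
    by_contra h
    exact hnt ⟨fun a _ => absurd ⟨a⟩ h⟩
  have hn : 2 ≤ Nat.card Ω := by
    have h0 : 0 < Nat.card Ω := Nat.card_pos
    by_contra h
    have h1 : Nat.card Ω = 1 := by omega
    haveI := (Nat.card_eq_one_iff_unique.1 h1).1
    exact hnt ⟨fun a b => ⟨1, Subsingleton.elim _ _⟩⟩
  refine le_antisymm (CfsgLib.Base.Small.orbits_le_two h2 hn H hidx) ?_
  by_contra h
  haveI hsub : Subsingleton (MulAction.orbitRel.Quotient H Ω) :=
    Finite.card_le_one_iff_subsingleton.1 (by omega)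
  exact hnt ⟨fun a b => Quotient.exact'
    (Subsingleton.elim (Quotient.mk'' b : MulAction.orbitRel.Quotient H Ω) (Quotient.mk'' a))⟩

end Cfsg.Agent.S3704
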