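import Cfsg.Statements.S3733
import Cfsg.Agent.Solv.Basic

set_option autoImplicit false
open Cfsg

namespace Cfsg.Agent.S3733

/-- Let A and V be subgroups of a finite group with V abelian and nontrivial and A normalizing V. Suppose a nonempty finite family of proper subgroups of A partitions A: every non-identity element of A lies in exactly one member. If the number of members minus one is coprime to the order of V, then some member B of the family has a non-identity fixed point on V, that is V ∩ C(B) ≠ 1. -/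
theorem result {G : Type*} [Group G] [Finite G] (A V : Subgroup G) (hVab : IsMulCommutative V) (hV : V ≠ ⊥) (hAV : A ≤ Subgroup.normalizer (V : Set G)) (𝒜 : Finset (Subgroup G)) (hne : 𝒜.Nonempty) (hprop : ∀ B ∈ 𝒜, B < A) (hpart : ∀ a ∈ A, a ≠ 1 → ∃! B, B ∈ 𝒜 ∧ a ∈ B) (hk : (𝒜.card - 1).Coprime (Nat.card V)) : ∃ B ∈ 𝒜, V ⊓ Subgroup.centralizer (B : Set G) ≠ ⊥ := by
  classical
  haveI := Fintype.ofFinite G
  by_contra hno
  push Not at hno
  letI : CommGroup V := { (inferInstance : Group V) with mul_comm := hVab.is_comm.comm }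
  have hm : ∀ a : A, ∀ v : V, (a : G) * v * (a : G)⁻¹ ∈ V := fun a v => (Subgroup.mem_normalizer_iff.1 (hAV a.2) v).1 v.2
  let act : G → V → V := fun g v => if h : g * v * g⁻¹ ∈ V then ⟨g * v * g⁻¹, h⟩ else 1
  have hact : ∀ g ∈ A, ∀ v : V, (act g v : G) = g * v * g⁻¹ := fun g hg v => by
    simp only [act]; rw [dif_pos (hm ⟨g, hg⟩ v)]
  have hfix : ∀ (B : Subgroup G), B ≤ A → ∀ v : V, ∀ b ∈ B,
      (b : G) * (∏ c ∈ (Finset.univ.filter fun c => c ∈ B), act c v : V) * b⁻¹ =
        ((∏ c ∈ (Finset.univ.filter fun c => c ∈ B), act c v : V) : G) := by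
    intro B hBA v b hb
    let f : V →* V :=
      { toFun := fun w => ⟨b * w * b⁻¹, hm ⟨b, hBA hb⟩ w⟩
        map_one' := Subtype.ext (by simp)
        map_mul' := fun w w' => Subtype.ext (by simp [mul_assoc]) }
    show ((f _ : V) : G) = _
    rw [map_prod]
    refine congrArg Subtype.val (Finset.prod_nbij' (fun c => b * c) (fun c => b⁻¹ * c) ?_ ?_ ?_ ?_ ?_)
    · intro c hc; simp only [Finset.mem_filter, Finset.mem_univ, true_and] at hc ⊢; exact mul_mem hb hc
    · intro c hc; simp only [Finset.mem_filter, Finset.mem_univ, true_and] at hc ⊢; exact mul_mem (inv_mem hb) hc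
    · intro c _; simp
    · intro c _; simp
    · intro c hc
      simp only [Finset.mem_filter, Finset.mem_univ, true_and] at hc
      refine Subtype.ext ?_
      show b * (act c v : G) * b⁻¹ = (act (b * c) v : G)
      rw [hact c (hBA hc), hact _ (mul_mem (hBA hb) (hBA hc))]
      group
  have hone : ∀ B ∈ 𝒜, ∀ v : V, (∏ c ∈ (Finset.univ.filter fun c => c ∈ B), act c v : V) = 1 := by
    intro B hB v
    refine Subtype.ext ((Subgroup.eq_bot_iff_forall _).1 (hno B hB) _ ⟨SetLike.coe_mem _, ?_⟩)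
    exact Subgroup.mem_centralizer_iff.2 fun b hb => mul_inv_eq_iff_eq_mul.1 (hfix B (hprop B hB).le v b hb)
  obtain ⟨B₀, hB₀⟩ := hne
  have honeA : ∀ v : V, (∏ c ∈ (Finset.univ.filter fun c => c ∈ A), act c v : V) = 1 := by
    intro v
    refine Subtype.ext ((Subgroup.eq_bot_iff_forall _).1 (hno B₀ hB₀) _ ⟨SetLike.coe_mem _, ?_⟩)
    exact Subgroup.mem_centralizer_iff.2 fun b hb =>
      mul_inv_eq_iff_eq_mul.1 (hfix A le_rfl v b ((hprop B₀ hB₀).le hb))
  apply hV
  rw [Subgroup.eq_bot_iff_forall]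
  intro v₀ hv₀
  set v : V := ⟨v₀, hv₀⟩
  suffices hv : v = 1 from congrArg Subtype.val hv
  let T : Subgroup G → Finset G := fun B => (Finset.univ.filter fun c => c ∈ B).erase 1
  have hsplit : ∀ B : Subgroup G, B ≤ A → (∏ c ∈ (Finset.univ.filter fun c => c ∈ B), act c v : V) = v * ∏ c ∈ T B, act c v := by
    intro B hBA
    rw [← Finset.mul_prod_erase _ _ (show (1 : G) ∈ Finset.univ.filter fun c => c ∈ B by simp [one_mem])]
    congr 1
    exact Subtype.ext (by rw [hact 1 (one_mem A)]; simp)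
  have hT : ∏ c ∈ T A, act c v = ∏ B ∈ 𝒜, ∏ c ∈ T B, act c v := by
    rw [← Finset.prod_biUnion]
    · refine Finset.prod_congr ?_ fun _ _ => rfl
      ext c
      simp only [T, Finset.mem_erase, Finset.mem_filter, Finset.mem_univ, true_and, Finset.mem_biUnion]
      constructor
      · rintro ⟨h1, h2⟩
        obtain ⟨B, ⟨hB, hcB⟩, -⟩ := hpart c h2 h1
        exact ⟨B, hB, h1, hcB⟩
      · rintro ⟨B, hB, h1, hcB⟩
        exact ⟨h1, (hprop B hB).le hcB⟩
    · intro B hB C hC hBC
      rw [Function.onFun, Finset.disjoint_left]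
      intro c hc hc'
      simp only [T, Finset.mem_erase, Finset.mem_filter, Finset.mem_univ, true_and] at hc hc'
      obtain ⟨D, -, hu⟩ := hpart c ((hprop B hB).le hc.2) hc.1
      exact hBC ((hu B ⟨hB, hc.2⟩).trans (hu C ⟨hC, hc'.2⟩).symm)
  have hA1 : ∏ c ∈ T A, act c v = v⁻¹ := eq_inv_of_mul_eq_one_right ((hsplit A le_rfl).symm.trans (honeA v))
  have hB1 : ∀ B ∈ 𝒜, ∏ c ∈ T B, act c v = v⁻¹ := fun B hB =>
    eq_inv_of_mul_eq_one_right ((hsplit B (hprop B hB).le).symm.trans (hone B hB v))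
  rw [hA1, Finset.prod_congr rfl hB1, Finset.prod_const] at hT
  have hpow : v ^ (𝒜.card - 1) = 1 := by
    have hpos : 0 < 𝒜.card := Finset.card_pos.2 ⟨B₀, hB₀⟩
    rw [show 𝒜.card = 𝒜.card - 1 + 1 by omega, pow_succ, right_eq_mul, inv_pow, inv_eq_one] at hT
    exact hT
  exact orderOf_eq_one_iff.1 (Nat.eq_one_of_dvd_coprimes hk (orderOf_dvd_of_pow_eq_one hpow) (orderOf_dvd_natCard v))

end Cfsg.Agent.S3733
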