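import Cfsg.Statements.S3735
import Cfsg.Agent.Solv.CoprimeAction

set_option autoImplicit false
open Cfsg

namespace Cfsg.Agent.S3735


open scoped Pointwise


/-- Clifford's Theorem for actions on finite abelian groups, first part. Let H and V be subgroups of a finite group with V abelian and H normalizing V, and let A be a normal subgroup of H. If every H-invariant subgroup of V has an H-invariant complement in V, then every A-invariant subgroup of V has an A-invariant complement in V. -/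
theorem result {G : Type*} [Group G] [Finite G] (H A V : Subgroup G) (hVab : IsMulCommutative V) (hHV : H ≤ Subgroup.normalizer (V : Set G)) (hAH : A ≤ H) (hAn : H ≤ Subgroup.normalizer (A : Set G)) (hss : ∀ U : Subgroup G, U ≤ V → H ≤ Subgroup.normalizer (U : Set G) → ∃ W : Subgroup G, W ≤ V ∧ H ≤ Subgroup.normalizer (W : Set G) ∧ U ⊓ W = ⊥ ∧ U ⊔ W = V) (U : Subgroup G) (hUV : U ≤ V) (hAU : A ≤ Subgroup.normalizer (U : Set G)) : ∃ W : Subgroup G, W ≤ V ∧ A ≤ Subgroup.normalizer (W : Set G) ∧ U ⊓ W = ⊥ ∧ U ⊔ W = V := by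

  classical
  haveI := hVab
  have hcomm : ∀ {a b : G}, a ∈ V → b ∈ V → a * b = b * a := fun ha hb =>
    congrArg Subtype.val ((IsMulCommutative.is_comm (M := V)).comm ⟨_, ha⟩ ⟨_, hb⟩)
  let Inv : Subgroup G → Prop := fun M => M ≤ V ∧ A ≤ Subgroup.normalizer (M : Set G)
  have hsupA : ∀ {M M' : Subgroup G}, A ≤ Subgroup.normalizer (M : Set G) → A ≤ Subgroup.normalizer (M' : Set G) →
      A ≤ Subgroup.normalizer ((M ⊔ M' : Subgroup G) : Set G) := fun h h' a ha => by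
    refine CfsgLib.Solv.mem_normalizer_of_conj_smul_eq ?_
    rw [CfsgLib.Solv.conj_smul_eq_map, Subgroup.map_sup, ← CfsgLib.Solv.conj_smul_eq_map,
      ← CfsgLib.Solv.conj_smul_eq_map, CfsgLib.Solv.conj_smul_eq_self_of_mem_normalizer (h ha),
      CfsgLib.Solv.conj_smul_eq_self_of_mem_normalizer (h' ha)]
  let Min : Subgroup G → Prop := fun M => Inv M ∧ M ≠ ⊥ ∧ ∀ M' : Subgroup G, Inv M' → M' ≤ M → M' ≠ ⊥ → M' = M
  have hexmin : ∀ M : Subgroup G, Inv M → M ≠ ⊥ → ∃ M', Min M' ∧ M' ≤ M := by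
    intro M hM hne
    obtain ⟨M', ⟨hM', hne', hle'⟩, hmin⟩ := (Set.toFinite {M' : Subgroup G | Inv M' ∧ M' ≠ ⊥ ∧ M' ≤ M}).exists_minimal
      ⟨M, hM, hne, le_rfl⟩
    exact ⟨M', ⟨hM', hne', fun M'' h1 h2 h3 => le_antisymm h2 (hmin ⟨h1, h3, h2.trans hle'⟩ h2)⟩, hle'⟩
  -- conjugation by `H` permutes the minimal invariant subgroups
  have hconjInv : ∀ h ∈ H, ∀ M, Inv M → Inv (MulAut.conj h • M) := by
    rintro h hh M ⟨hMV, hAM⟩
    refine ⟨fun x hx => ?_, fun a ha => Subgroup.mem_normalizer_fintype fun x hx => ?_⟩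
    · rw [CfsgLib.Solv.mem_conj_smul_iff] at hx
      have := (Subgroup.mem_normalizer_iff.1 (hHV hh) _).1 (hMV hx)
      rwa [show h * (h⁻¹ * x * h) * h⁻¹ = x by group] at this
    · rw [SetLike.mem_coe, CfsgLib.Solv.mem_conj_smul_iff] at hx ⊢
      have ha' : h⁻¹ * a * h ∈ A := by
        have := (Subgroup.mem_normalizer_iff.1 (hAn (inv_mem hh)) a).1 ha
        rwa [inv_inv] at this
      have := (Subgroup.mem_normalizer_iff.1 (hAM ha') _).1 hx
      rwa [show h⁻¹ * a * h * (h⁻¹ * x * h) * (h⁻¹ * a * h)⁻¹ = h⁻¹ * (a * x * a⁻¹) * h by group] at this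
  have hconjMin : ∀ h ∈ H, ∀ M, Min M → Min (MulAut.conj h • M) := by
    rintro h hh M ⟨hM, hne, hmin⟩
    refine ⟨hconjInv h hh M hM, fun e => hne ?_, fun M' h1 h2 h3 => ?_⟩
    · rw [← inv_smul_smul (MulAut.conj h) M, e, Subgroup.smul_bot]
    · have h4 := hmin _ (hconjInv h⁻¹ (inv_mem hh) M' h1) (by
        rw [map_inv, ← inv_smul_smul (MulAut.conj h) M]; exact Subgroup.pointwise_smul_le_pointwise_smul_iff.2 h2)
        (fun e => h3 (by rw [← smul_inv_smul (MulAut.conj h) M', ← map_inv, e, Subgroup.smul_bot]))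
      rw [← h4, map_inv, smul_inv_smul]
  set S := sSup {M : Subgroup G | Min M} with hS
  have hSV : S ≤ V := sSup_le fun M hM => hM.1.1
  have hHS : H ≤ Subgroup.normalizer (S : Set G) := fun h hh => Subgroup.mem_normalizer_fintype fun x hx => by
    have h1 : S ≤ S.comap (MulAut.conj h).toMonoidHom := sSup_le fun M hM => by
      rw [← Subgroup.map_le_iff_le_comap, ← CfsgLib.Solv.conj_smul_eq_map]
      exact le_sSup (hconjMin h hh M hM)
    exact h1 hx
  obtain ⟨W0, hW0V, hHW0, hW01, hW02⟩ := hss S hSV hHS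
  have hW0 : W0 = ⊥ := by
    by_contra hne
    obtain ⟨M, hM, hMW⟩ := hexmin W0 ⟨hW0V, hAH.trans hHW0⟩ hne
    exact hM.2.1 (le_bot_iff.1 (hW01 ▸ le_inf (le_sSup hM) hMW))
  rw [hW0, sup_bot_eq] at hW02
  obtain ⟨W, ⟨⟨hWV, hAW⟩, hUW⟩, hWmax⟩ := (Set.toFinite {W : Subgroup G | Inv W ∧ U ⊓ W = ⊥}).exists_maximal
    ⟨⊥, ⟨bot_le, fun a _ => Subgroup.mem_normalizer_fintype fun x hx => by
      rw [SetLike.mem_coe, Subgroup.mem_bot] at hx; rw [hx]; simp⟩, inf_bot_eq U⟩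
  refine ⟨W, hWV, hAW, hUW, le_antisymm (sup_le hUV hWV) ?_⟩
  rw [← hW02]
  refine sSup_le fun M hM => ?_
  by_contra hMle
  have hint : M ⊓ (U ⊔ W) = ⊥ := by
    by_contra hne
    exact hMle ((hM.2.2 _ ⟨inf_le_left.trans hM.1.1, CfsgLib.Solv.le_normalizer_inf_of_le hM.1.2 (hsupA hAU hAW)⟩
      inf_le_left hne).ge.trans inf_le_right)
  refine hMle (le_trans (le_trans le_sup_right (hWmax ⟨⟨sup_le hWV hM.1.1, hsupA hAW hM.1.2⟩, ?_⟩ le_sup_left)) le_sup_right)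
  rw [eq_bot_iff]
  rintro x ⟨hxU, hxWM⟩
  have hWn : W ≤ Subgroup.normalizer (M : Set G) := fun w hw => Subgroup.mem_normalizer_fintype fun y hy => by
    rwa [hcomm (hWV hw) (hM.1.1 hy), mul_inv_cancel_right]
  obtain ⟨m, hm, w, hw, rfl⟩ := CfsgLib.Solv.exists_mul_of_mem_sup hWn hxWM
  have h1 : m ∈ U ⊔ W := by
    rw [show m = m * w * w⁻¹ by group]
    exact mul_mem (Subgroup.mem_sup_left hxU) (Subgroup.mem_sup_right (inv_mem hw))
  have h2 : m ∈ (⊥ : Subgroup G) := hint ▸ (Subgroup.mem_inf.2 ⟨hm, h1⟩)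
  rw [Subgroup.mem_bot] at h2
  subst h2
  rw [one_mul] at hxU ⊢
  exact (hUW ▸ Subgroup.mem_inf.2 ⟨hxU, hw⟩ : w ∈ (⊥ : Subgroup G))

end Cfsg.Agent.S3735
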