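import Cfsg.Statements.S3736
import Cfsg.Agent.S0119
import Cfsg.Agent.S0094
import Cfsg.Agent.Solv.Generation
import Cfsg.Agent.Solv.CoprimeAction
import Cfsg.Agent.Solv.ClassTwo

set_option autoImplicit false
open Cfsg
open scoped commutatorElement

namespace Cfsg.Agent.S3736

/-- The Hall–Higman reduction for a minimal non-trivial action. Let B, A and P be subgroups of a finite group with P a p-group, B normalizing P, and A a normal subgroup of B of order prime to p. Suppose A does not centralize P but centralizes every proper B-invariant subgroup of P. Then [P, A] = P; P is elementary abelian or special; B acts irreducibly on P/Φ(P), that is, the only B-invariant subgroups of P containing Φ(P) are Φ(P) and P; and if p is odd then every element of P has order dividing p. -/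
theorem result {X : Type*} [Group X] [Finite X] {p : ℕ} [Fact p.Prime] (B A P : Subgroup X) (hP : IsPGroup p P) (hBP : B ≤ Subgroup.normalizer (P : Set X)) (hAB : A ≤ B) (hAn : B ≤ Subgroup.normalizer (A : Set X)) (hAp : (Nat.card A).Coprime p) (hnt : ⁅P, A⁆ ≠ ⊥) (hmin : ∀ U : Subgroup X, U < P → B ≤ Subgroup.normalizer (U : Set X) → ⁅U, A⁆ = ⊥) : ⁅P, A⁆ = P ∧ (Cfsg.IsElementaryAbelian p P ∨ Cfsg.IsSpecial p ↥P) ∧ (∀ U : Subgroup X, (frattini ↥P).map P.subtype ≤ U → U ≤ P → B ≤ Subgroup.normalizer (U : Set X) → U = (frattini ↥P).map P.subtype ∨ U = P) ∧ (p ≠ 2 → ∀ x ∈ P, x ^ p = 1) := by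
  classical
  have hAP : A ≤ Subgroup.normalizer (P : Set X) := hAB.trans hBP
  have hPA : ⁅P, A⁆ ≤ P := CfsgLib.Solv.commutator_le_of_le_normalizer hAP
  obtain ⟨m, hm⟩ := hP.exists_card_eq
  have hcopA : (Nat.card A).Coprime (Nat.card P) := by rw [hm]; exact hAp.pow_right m
  haveI hPs : Group.IsSolvable P := by haveI := hP.isNilpotent; infer_instance
  have hPA' : ⁅P, A⁆ = P := by
    by_contra hne
    refine hnt ?_
    rw [← CfsgLib.Solv.commutator_commutator_right hAP hcopA (.inr hPs)]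
    refine hmin _ (lt_of_le_of_ne hPA hne) ?_
    rw [CfsgLib.Solv.le_normalizer_iff_forall_conj_mem]
    intro b hb c hc
    have hle : (⁅P, A⁆).map (MulAut.conj b).toMonoidHom ≤ ⁅P, A⁆ := by
      rw [Subgroup.map_commutator]
      refine Subgroup.commutator_mono ?_ ?_
      · rintro _ ⟨x, hx, rfl⟩; exact (Subgroup.mem_normalizer_iff.1 (hBP hb) x).1 hx
      · rintro _ ⟨x, hx, rfl⟩; exact (Subgroup.mem_normalizer_iff.1 (hAn hb) x).1 hx
    exact hle ⟨c, hc, rfl⟩
  let ψ : ↥A →* MulAut ↥P :=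
    { toFun := fun a =>
        { toFun := fun x => ⟨(a : X) * x * (a : X)⁻¹, (Subgroup.mem_normalizer_iff.1 (hAP a.2) x).1 x.2⟩
          invFun := fun x => ⟨(a : X)⁻¹ * x * a, (Subgroup.mem_normalizer_iff''.1 (hAP a.2) x).1 x.2⟩
          left_inv := fun x => Subtype.ext (show (a : X)⁻¹ * ((a : X) * x * (a : X)⁻¹) * a = x by group)
          right_inv := fun x => Subtype.ext (show (a : X) * ((a : X)⁻¹ * x * a) * (a : X)⁻¹ = x by group)
          map_mul' := fun x y => Subtype.ext (show (a : X) * ((x : X) * y) * (a : X)⁻¹ = ((a : X) * x * (a : X)⁻¹) * ((a : X) * y * (a : X)⁻¹) by group) }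
      map_one' := MulEquiv.ext fun x => Subtype.ext (show (1 : X) * x * (1 : X)⁻¹ = x by group)
      map_mul' := fun a b => MulEquiv.ext fun x => Subtype.ext (show ((a : X) * b) * x * ((a : X) * b)⁻¹ = (a : X) * ((b : X) * x * (b : X)⁻¹) * (a : X)⁻¹ by group) }
  have hcop : Nat.Coprime (Nat.card ψ.range) p := hAp.coprime_dvd_left (Subgroup.card_range_dvd ψ)
  have hgen : Subgroup.closure {x : ↥P | ∃ g : ↥P, ∃ a ∈ ψ.range, x = g⁻¹ * a g} = ⊤ := by
    refine Subgroup.map_injective P.subtype_injective ?_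
    rw [← MonoidHom.range_eq_map, Subgroup.range_subtype]
    refine le_antisymm (Subgroup.map_subtype_le _) ?_
    refine le_of_eq_of_le hPA'.symm ?_
    rw [Subgroup.commutator_le]
    intro x hx a ha
    refine ⟨(⟨x⁻¹, inv_mem hx⟩ : ↥P)⁻¹ * ψ ⟨a, ha⟩ ⟨x⁻¹, inv_mem hx⟩, Subgroup.subset_closure ⟨_, _, ⟨_, rfl⟩, rfl⟩, ?_⟩
    show (x⁻¹)⁻¹ * (a * x⁻¹ * a⁻¹) = x * a * x⁻¹ * a⁻¹
    group
  have hCle : ∀ U : Subgroup X, U < P → B ≤ Subgroup.normalizer (U : Set X) → ∀ a ∈ A, ∀ u ∈ U, a * u * a⁻¹ = u := by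
    intro U hU hUB a ha u hu
    have h := Subgroup.commutator_eq_bot_iff_le_centralizer.1 (hmin U hU hUB) hu
    rw [Subgroup.mem_centralizer_iff] at h
    rw [h a ha, mul_inv_cancel_right]
  -- characteristic subgroups of `P` are invariant under `B`
  have hcharB : ∀ H : Subgroup ↥P, H.Characteristic → B ≤ Subgroup.normalizer ((H.map P.subtype : Subgroup X) : Set X) := by
    intro H hH
    rw [CfsgLib.Solv.le_normalizer_iff_forall_conj_mem]
    rintro b hb _ ⟨h, hh, rfl⟩
    let e : MulAut ↥P :=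
      { toFun := fun x => ⟨b * x * b⁻¹, (Subgroup.mem_normalizer_iff.1 (hBP hb) x).1 x.2⟩
        invFun := fun x => ⟨b⁻¹ * x * b, (Subgroup.mem_normalizer_iff''.1 (hBP hb) x).1 x.2⟩
        left_inv := fun x => Subtype.ext (show b⁻¹ * (b * x * b⁻¹) * b = x by group)
        right_inv := fun x => Subtype.ext (show b * (b⁻¹ * x * b) * b⁻¹ = x by group)
        map_mul' := fun x y => Subtype.ext (show b * ((x : X) * y) * b⁻¹ = (b * x * b⁻¹) * (b * y * b⁻¹) by group) }
    exact ⟨e h, Subgroup.characteristic_iff_map_le.1 hH e ⟨h, hh, rfl⟩, rfl⟩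
  have hproper : ∀ H : Subgroup ↥P, H ≠ ⊤ → H.map P.subtype < P := fun H hH =>
    lt_of_le_of_ne (Subgroup.map_subtype_le H) fun e => hH (Subgroup.map_injective P.subtype_injective (by
      rw [e, ← MonoidHom.range_eq_map, Subgroup.range_subtype]))
  have hfixH : ∀ H : Subgroup ↥P, H.Characteristic → H ≠ ⊤ → ∀ a ∈ ψ.range, ∀ h ∈ H, a h = h := by
    rintro H hH hne _ ⟨a, rfl⟩ h hh
    exact Subtype.ext (hCle _ (hproper H hne) (hcharB H hH) a a.2 _ ⟨h, hh, rfl⟩)
  haveI : Nontrivial ↥P := (Subgroup.nontrivial_iff_ne_bot P).2 fun h => hnt (by rw [h]; exact Subgroup.commutator_bot_left A)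
  -- the main dichotomy, with the fixed points
  have hmain : (Cfsg.IsElementaryAbelian p P ∧ ∀ g : ↥P, (∀ a ∈ ψ.range, a g = g) → g = 1) ∨
      (Cfsg.IsSpecial p ↥P ∧ ∀ g : ↥P, (∀ a ∈ ψ.range, a g = g) → g ∈ Subgroup.center ↥P) := by
    by_cases hab : IsMulCommutative ↥P
    · left
      have hfix : ∀ g : ↥P, (∀ a ∈ ψ.range, a g = g) → g = 1 := by
        intro g hg
        have hgC : (g : X) ∈ P ⊓ Subgroup.centralizer (A : Set X) := ⟨g.2, Subgroup.mem_centralizer_iff.2 fun a ha =>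
          mul_inv_eq_iff_eq_mul.1 (congrArg Subtype.val (hg _ ⟨⟨a, ha⟩, rfl⟩) : a * g * a⁻¹ = g)⟩
        have h1 := CfsgLib.Solv.abelian_fixed_inf_commutator hab hAP hcopA
        have h2 : (g : X) ∈ (P ⊓ Subgroup.centralizer (A : Set X)) ⊓ ⁅P, A⁆ := ⟨hgC, hPA'.symm ▸ g.2⟩
        rw [h1, Subgroup.mem_bot] at h2
        exact Subtype.ext h2
      let Ω : Subgroup ↥P :=
        { carrier := {x | x ^ p = 1}
          one_mem' := one_pow p
          mul_mem' := fun {a b} ha hb => by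
            show (a * b) ^ p = 1
            rw [(show Commute a b from hab.is_comm.comm a b).mul_pow, ha, hb, one_mul]
          inv_mem' := fun {a} ha => by show a⁻¹ ^ p = 1; rw [inv_pow, ha, inv_one] }
      have hΩ : Ω.Characteristic := Subgroup.characteristic_iff_map_le.2 fun e => by
        rintro _ ⟨x, hx, rfl⟩
        show (e x) ^ p = 1
        rw [← map_pow, show x ^ p = 1 from hx, map_one]
      refine ⟨⟨hab, fun x hx => ?_⟩, hfix⟩
      by_contra hne
      have hΩne : Ω ≠ ⊤ := fun h => hne (congrArg Subtype.val (show (⟨x, hx⟩ : ↥P) ∈ Ω by rw [h]; exact Subgroup.mem_top _))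
      obtain ⟨k, hk0, hk⟩ := hP.nontrivial_iff_card.1 inferInstance
      obtain ⟨z, hz⟩ := exists_prime_orderOf_dvd_card' p (G := ↥P) (hk ▸ dvd_pow_self p hk0.ne')
      have hzΩ : z ∈ Ω := show z ^ p = 1 by rw [← hz, pow_orderOf_eq_one]
      have := hfix z fun a ha => hfixH Ω hΩ hΩne a ha z hzΩ
      rw [this, orderOf_one] at hz
      exact (Fact.out : p.Prime).ne_one hz.symm
    · right
      have h := Cfsg.Agent.S0119.result hP ψ.range hcop hgen (fun H hH hHc a ha h hh =>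
        hfixH H hH (fun e => hab ⟨⟨fun u v => by
          have := congrArg Subtype.val (hHc.is_comm.comm (⟨u, e.symm ▸ Subgroup.mem_top u⟩ : H) ⟨v, e.symm ▸ Subgroup.mem_top v⟩)
          exact this⟩⟩) a ha h hh)
      exact ⟨h.1, fun g hg => (h.2 g).2 hg⟩
  refine ⟨hPA', hmain.imp And.left And.left, fun U hΦU hUP hUB => ?_, fun hp2 x hx => ?_⟩
  · by_cases hne : U = P
    · exact .inr hne
    left
    refine le_antisymm (fun u hu => ?_) hΦU
    have hg : ∀ a ∈ ψ.range, a (⟨u, hUP hu⟩ : ↥P) = ⟨u, hUP hu⟩ := by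
      rintro _ ⟨a, rfl⟩
      exact Subtype.ext (hCle U (lt_of_le_of_ne hUP hne) hUB a a.2 u hu)
    refine ⟨⟨u, hUP hu⟩, ?_, rfl⟩
    rcases hmain with ⟨-, h2⟩ | ⟨h1, h2⟩
    · rw [h2 _ hg]; exact one_mem _
    · show _ ∈ frattini ↥P
      rw [h1.2.1]; exact h2 _ hg
  · rcases hmain with ⟨h1, -⟩ | ⟨⟨hPp, hf, hc⟩, -⟩
    · exact h1.2 x hx
    have hcent : ∀ a b : ↥P, ⁅a, b⁆ ∈ Subgroup.center ↥P := fun a b =>
      hc ▸ Subgroup.commutator_mem_commutator (Subgroup.mem_top a) (Subgroup.mem_top b)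
    have hexp := Cfsg.Agent.S0094.result (P := ↥P) ⟨hPp, hf, hc⟩
    let f : ↥P →* ↥P :=
      { toFun := fun a => a ^ p
        map_one' := one_pow p
        map_mul' := fun a b => CfsgLib.Solv.mul_pow_prime hp2 (Subgroup.mem_center_iff.1 (hcent b a) a).symm
          (Subgroup.mem_center_iff.1 (hcent b a) b).symm (hexp _ (hcent b a)) }
    have hZne : Subgroup.center ↥P ≠ ⊤ := fun h => by
      haveI := hP.isNilpotent
      exact (IsSolvable.commutator_lt_top_of_nontrivial ↥P).ne (hc.trans h)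
    have hker : f.ker = ⊤ := by
      rw [← top_le_iff, ← hgen, Subgroup.closure_le]
      rintro _ ⟨g, a, ha, rfl⟩
      show (g⁻¹ * a g) ^ p = 1
      have hgp : g ^ p ∈ Subgroup.center ↥P := hf ▸ CfsgLib.Solv.pow_mem_frattini hP g
      have e : f (g⁻¹ * a g) = (f g)⁻¹ * f (a g) := by rw [map_mul, map_inv]
      have e2 : a g ^ p = g ^ p := by rw [← map_pow, hfixH _ inferInstance hZne a ha _ hgp]
      show f (g⁻¹ * a g) = 1
      rw [e]
      show (g ^ p)⁻¹ * (a g ^ p) = 1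
      rw [e2, inv_mul_cancel]
    have : (⟨x, hx⟩ : ↥P) ∈ f.ker := hker ▸ Subgroup.mem_top _
    exact congrArg Subtype.val (show (⟨x, hx⟩ : ↥P) ^ p = 1 from this)

end Cfsg.Agent.S3736
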