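import Cfsg.Statements.S3773
import Cfsg.Agent.Solv.Basic
import Cfsg.Agent.Solv.FittingBasic
import Mathlib

set_option autoImplicit false
open Cfsg

namespace Cfsg.Agent.S3773

open scoped commutatorElement

theorem coords {V : Type*} [CommGroup V] [Finite V] (hV : ∀ v : V, v * v = 1) :
    ∃ d : ℕ, Nonempty (Additive V ≃+ (Fin d → ZMod 2)) ∧ Nat.card V = 2 ^ d := by
  letI : Module (ZMod 2) (Additive V) := AddCommGroup.zmodModule (fun x => by
    rw [two_nsmul]; exact congrArg Additive.ofMul (hV (Additive.toMul x)))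
  haveI : Module.Finite (ZMod 2) (Additive V) := Module.Finite.of_finite
  let b := Module.finBasis (ZMod 2) (Additive V)
  refine ⟨_, ⟨b.equivFun.toAddEquiv⟩, ?_⟩
  rw [Nat.card_congr (Additive.ofMul.trans b.equivFun.toEquiv), Nat.card_fun, Nat.card_zmod, Nat.card_fin]

open MvPolynomial in
theorem quad_bound {V W : Type*} [CommGroup V] [Finite V] [CommGroup W] [Finite W]
    (hV : ∀ v : V, v * v = 1) (hW : ∀ w : W, w * w = 1) (Q : V → W) (B : V → V → W)
    (hB : ∀ a b c, B a (b * c) = B a b * B a c) (hQ : ∀ a b, Q (a * b) = Q a * Q b * B a b)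
    (h0 : ∀ v, Q v = 1 → v = 1) : Nat.card V ≤ Nat.card W ^ 2 := by
  classical
  obtain ⟨d, ⟨eV⟩, hd⟩ := coords hV
  obtain ⟨n, ⟨eW⟩, hn⟩ := coords hW
  rw [hd, hn, ← pow_mul]
  refine Nat.pow_le_pow_right two_pos (not_lt.1 fun hlt => ?_)
  -- work additively
  let φ : (Fin d → ZMod 2) → V := fun a => Additive.toMul (eV.symm a)
  let q : V → (Fin n → ZMod 2) := fun v => eW (Additive.ofMul (Q v))
  let β : V → V → (Fin n → ZMod 2) := fun u v => eW (Additive.ofMul (B u v))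
  have hφ : ∀ a b, φ (a + b) = φ a * φ b := fun a b => by
    show Additive.toMul (eV.symm (a + b)) = _
    rw [map_add]; rfl
  have hφ0 : φ 0 = 1 := by
    show Additive.toMul (eV.symm 0) = 1
    rw [map_zero]; rfl
  have hq : ∀ u v, q (u * v) = q u + q v + β u v := fun u v => by
    show eW (Additive.ofMul (Q (u * v))) = _
    rw [hQ, ofMul_mul, ofMul_mul, map_add, map_add]
  have hB1 : ∀ u, β u 1 = 0 := fun u => by
    have h := hB u 1 1
    rw [one_mul, left_eq_mul] at h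
    show eW (Additive.ofMul (B u 1)) = 0
    rw [h, ofMul_one, map_zero]
  have hq1 : q 1 = 0 := by
    have h := hq 1 1
    rw [one_mul, hB1, add_zero, left_eq_add] at h
    exact h
  have hβ : ∀ u v w, β u (v * w) = β u v + β u w := fun u v w => by
    show eW (Additive.ofMul (B u (v * w))) = _
    rw [hB, ofMul_mul, map_add]
  have hsmul : ∀ (c : ZMod 2) (i : Fin d), φ (Pi.single i c) = if c = 0 then 1 else φ (Pi.single i 1) := by
    intro c i
    rcases (by decide : ∀ c : ZMod 2, c = 0 ∨ c = 1) c with rfl | rfl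
    · simp [hφ0]
    · simp
  have hlin : ∀ (u : V) (s : Finset (Fin d)), ∀ k, ∃ P : MvPolynomial (Fin d) (ZMod 2), P.totalDegree ≤ 1 ∧
      ∀ a : Fin d → ZMod 2, eval a P = β u (φ (∑ i ∈ s, Pi.single i (a i))) k := by
    intro u s k
    induction s using Finset.induction_on with
    | empty => exact ⟨0, by simp, fun a => by simp [hφ0, hB1]⟩
    | @insert i s hi ih =>
      obtain ⟨P, hP, hPe⟩ := ih
      refine ⟨C (β u (φ (Pi.single i 1)) k) * X i + P, (totalDegree_add _ _).trans (max_le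
        ((totalDegree_mul _ _).trans (by simp)) hP), fun a => ?_⟩
      rw [Finset.sum_insert hi, hφ, hβ, Pi.add_apply, map_add, hPe, map_mul, eval_C, eval_X, hsmul]
      congr 1
      generalize a i = c
      rcases (by decide : ∀ c : ZMod 2, c = 0 ∨ c = 1) c with rfl | rfl
      · simp [hB1, hφ0]
      · simp
  have hpoly : ∀ (s : Finset (Fin d)), ∀ k, ∃ P : MvPolynomial (Fin d) (ZMod 2), P.totalDegree ≤ 2 ∧
      ∀ a : Fin d → ZMod 2, eval a P = q (φ (∑ i ∈ s, Pi.single i (a i))) k := by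
    intro s k
    induction s using Finset.induction_on with
    | empty => exact ⟨0, by simp, fun a => by simp [hφ0, hq1]⟩
    | @insert i s hi ih =>
      obtain ⟨P, hP, hPe⟩ := ih
      obtain ⟨L, hL, hLe⟩ := hlin (φ (Pi.single i 1)) s k
      refine ⟨C (q (φ (Pi.single i 1)) k) * X i + P + X i * L, (totalDegree_add _ _).trans (max_le
        ((totalDegree_add _ _).trans (max_le ((totalDegree_mul _ _).trans (by simp)) hP))
        ((totalDegree_mul _ _).trans (by rw [totalDegree_X]; omega))), fun a => ?_⟩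
      rw [Finset.sum_insert hi, hφ, hq, Pi.add_apply, Pi.add_apply, map_add, map_add, hPe, map_mul, map_mul,
        eval_C, eval_X, hLe, hsmul]
      generalize hv : φ (∑ j ∈ s, Pi.single j (a j)) = v
      generalize a i = c
      have hone : β 1 v k = 0 := by
        have h := hq 1 v
        rw [one_mul, hq1, zero_add, left_eq_add] at h
        rw [h]; rfl
      rcases (by decide : ∀ c : ZMod 2, c = 0 ∨ c = 1) c with rfl | rfl
      · simp [hq1, hone, hφ0]
      · simp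
  have hpoly' : ∀ k, ∃ P : MvPolynomial (Fin d) (ZMod 2), P.totalDegree ≤ 2 ∧
      ∀ a : Fin d → ZMod 2, eval a P = q (φ a) k := fun k => by
    obtain ⟨P, h1, h2⟩ := hpoly Finset.univ k
    exact ⟨P, h1, fun a => by rw [h2, Finset.univ_sum_single]⟩
  choose P hP hPe using hpoly'
  haveI : Fact (Nat.Prime 2) := ⟨Nat.prime_two⟩
  have hcw := char_dvd_card_solutions_of_fintype_sum_lt (K := ZMod 2) 2 (σ := Fin d) (f := P) (by
    refine lt_of_le_of_lt (Finset.sum_le_sum fun i _ => hP i) ?_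
    rw [Finset.sum_const, Finset.card_univ, Fintype.card_fin, Fintype.card_fin, smul_eq_mul]; omega)
  have hone : Fintype.card { x : Fin d → ZMod 2 // ∀ k, eval x (P k) = 0 } = 1 := by
    refine Fintype.card_eq_one_iff.2 ⟨⟨0, fun k => by rw [hPe, hφ0, hq1]; rfl⟩, fun x => Subtype.ext ?_⟩
    have h1 : q (φ x.1) = 0 := funext fun k => by rw [← hPe]; exact x.2 k
    have h2 : Q (φ x.1) = 1 := Additive.ofMul.injective (eW.injective (h1.trans (map_zero eW).symm))
    exact eV.symm.injective ((congrArg Additive.ofMul (h0 _ h2)).trans (map_zero eV.symm).symm)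
  rw [Fintype.card_eq_nat_card] at hone hcw
  rw [hone] at hcw
  exact absurd hcw (by norm_num)

theorem exists_compl {V : Type*} [CommGroup V] [Finite V] (hV : ∀ v : V, v * v = 1) (U : Subgroup V) :
    ∃ K : Subgroup V, U ⊓ K = ⊥ ∧ Nat.card V = Nat.card U * Nat.card K := by
  obtain ⟨K, -, hK, hmax⟩ := Finite.exists_le_maximal (α := Subgroup V) (p := fun K => U ⊓ K = ⊥) (a := ⊥)
    (inf_bot_eq U)
  refine ⟨K, hK, ?_⟩
  have htop : U ⊔ K = ⊤ := eq_top_iff.2 fun a _ => by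
    by_contra hna
    refine hna (Subgroup.mem_sup_right (hmax (y := K ⊔ Subgroup.zpowers a) ?_ le_sup_left
      (Subgroup.mem_sup_right (Subgroup.mem_zpowers a))))
    show U ⊓ (K ⊔ Subgroup.zpowers a) = ⊥
    rw [eq_bot_iff]
    rintro u ⟨hu, hu2⟩
    obtain ⟨k, hk, _, ⟨i, rfl⟩, e⟩ := Subgroup.mem_sup.1 hu2
    change k * a ^ i = u at e
    rcases Int.even_or_odd i with ⟨j, rfl⟩ | ⟨j, rfl⟩
    · rw [zpow_add, hV, mul_one] at e
      have : u ∈ U ⊓ K := ⟨hu, e ▸ hk⟩
      rwa [hK] at this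
    · rw [two_mul, zpow_add, zpow_add, hV, one_mul, zpow_one] at e
      refine absurd ?_ hna
      rw [show a = k⁻¹ * u by rw [← e, inv_mul_cancel_left]]
      exact mul_mem (Subgroup.mem_sup_right (inv_mem hk)) (Subgroup.mem_sup_left hu)
  exact (Subgroup.isComplement'_of_disjoint_and_mul_eq_univ (disjoint_iff.2 hK)
    (by rw [← Subgroup.normal_mul, htop]; rfl)).card_mul.symm

theorem main {G : Type*} [Group G] [Finite G] (hG : IsPGroup 2 G) (hcom : ∀ x y g : G, ⁅x, y⁆ * g = g * ⁅x, y⁆)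
    (hexp : ∀ x : G, x ^ 4 = 1) (N : Subgroup G) (hN : ∀ x, x ∈ N ↔ x ^ 2 = 1) :
    Nat.card G ≤ Nat.card N ^ 3 ∧ (¬ Cfsg.IsSpecial 2 G → Nat.card G < Nat.card N ^ 3) := by
  classical
  haveI : Fact (Nat.Prime 2) := ⟨Nat.prime_two⟩
  have hsw : ∀ x y : G, y * x = ⁅y, x⁆ * x * y := fun x y => by rw [commutatorElement_def]; group
  have hmul : ∀ x y : G, (x * y) ^ 2 = x ^ 2 * y ^ 2 * ⁅y, x⁆ := fun x y => by
    calc (x * y) ^ 2 = x * (y * x) * y := by simp only [pow_two, mul_assoc]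
      _ = x * (⁅y, x⁆ * (x * y)) * y := by rw [hsw x y]; group
      _ = x * ((x * y) * ⁅y, x⁆) * y := by rw [hcom y x (x * y)]
      _ = x * x * y * (⁅y, x⁆ * y) := by group
      _ = x * x * y * (y * ⁅y, x⁆) := by rw [hcom y x y]
      _ = _ := by simp only [pow_two, mul_assoc]
  have hcmul : ∀ x y z : G, ⁅x, y * z⁆ = ⁅x, y⁆ * ⁅x, z⁆ := fun x y z => by
    calc ⁅x, y * z⁆ = ⁅x, y⁆ * (y * ⁅x, z⁆ * y⁻¹) := by simp only [commutatorElement_def]; group
      _ = _ := by rw [← hcom x z y, mul_inv_cancel_right]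
  have hc2 : ∀ x y : G, ⁅x, y⁆ ^ 2 = 1 := fun x y => by
    have h1 := hexp (y * x)
    rw [show (y * x) ^ 4 = ((y * x) ^ 2) ^ 2 by rw [← pow_mul], hmul] at h1
    have hc : Commute (y ^ 2 * x ^ 2) ⁅x, y⁆ := (hcom x y _).symm
    rw [hc.mul_pow, hmul, ← pow_mul, ← pow_mul, hexp, hexp, one_mul, one_mul] at h1
    have h2 : ⁅x ^ 2, y ^ 2⁆ = 1 := by
      have e : ⁅x ^ 2, y ^ 2⁆ = ⁅x ^ 2, y⁆ ^ 2 := by rw [pow_two y, hcmul, pow_two ⁅x ^ 2, y⁆]
      have e2 : ⁅x ^ 2, y⁆ = ⁅x, y⁆ ^ 2 := by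
        rw [← commutatorElement_inv y (x ^ 2), pow_two x, hcmul, ← commutatorElement_inv y x, inv_pow, pow_two]
      rw [e, e2, ← pow_mul]
      have h4 : ⁅x, y⁆ ^ 4 = 1 := hexp _
      exact h4
    rwa [h2, one_mul] at h1
  have hsqc : ∀ x g : G, x ^ 2 * g = g * x ^ 2 := fun x g => by
    have h : ⁅g, x ^ 2⁆ = 1 := by rw [pow_two, hcmul, ← pow_two, hc2]
    exact ((commutatorElement_eq_one_iff_mul_comm).1 h).symm
  set F : Subgroup G := Subgroup.closure (Set.range fun x : G => x ^ 2) with hF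
  have hsqF : ∀ x : G, x ^ 2 ∈ F := fun x => Subgroup.subset_closure ⟨x, rfl⟩
  have hcF : ∀ x y : G, ⁅x, y⁆ ∈ F := fun x y => by
    have h := mul_mem (inv_mem (mul_mem (hsqF y) (hsqF x))) (hsqF (y * x))
    rwa [hmul, inv_mul_cancel_left] at h
  have hFN : F ≤ N := (Subgroup.closure_le N).2 (by
    rintro _ ⟨x, rfl⟩
    exact (hN _).2 (by rw [← pow_mul]; exact hexp x))
  have hFc : F ≤ Subgroup.center G := (Subgroup.closure_le _).2 (by
    rintro _ ⟨x, rfl⟩
    exact Subgroup.mem_center_iff.2 fun g => (hsqc x g).symm)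
  haveI hFn : F.Normal := ⟨fun f hf g => by
    rw [Subgroup.mem_center_iff.1 (hFc hf) g, mul_inv_cancel_right]; exact hf⟩
  set π := QuotientGroup.mk' F with hπ
  have hπs : Function.Surjective π := QuotientGroup.mk'_surjective F
  letI instF : CommGroup ↥F := { (inferInstance : Group ↥F) with
    mul_comm := fun a b => Subtype.ext ((Subgroup.mem_center_iff.1 (hFc a.2) (b : G)).symm) }
  letI instV : CommGroup (G ⧸ F) := { (inferInstance : Group (G ⧸ F)) with
    mul_comm := fun a b => by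
      obtain ⟨a, rfl⟩ := hπs a
      obtain ⟨b, rfl⟩ := hπs b
      rw [← commutatorElement_eq_one_iff_mul_comm, ← map_commutatorElement]
      exact (QuotientGroup.eq_one_iff _).2 (hcF a b) }
  have hV2 : ∀ v : G ⧸ F, v * v = 1 := fun v => by
    obtain ⟨a, rfl⟩ := hπs v
    rw [← map_mul, ← pow_two]; exact (QuotientGroup.eq_one_iff _).2 (hsqF a)
  have hkey : ∀ {W : Type _} [CommGroup W] [Finite W] (ρ : ↥F →* W), (∀ w : W, w * w = 1) →
      ∀ K : Subgroup (G ⧸ F), (∀ x : G, π x ∈ K → ρ ⟨x ^ 2, hsqF x⟩ = 1 → π x = 1) →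
      Nat.card K ≤ Nat.card W ^ 2 := by
    intro W _ _ ρ hW K hK
    have hrep : ∀ v : K, ∃ x : G, π x = v.1 := fun v => hπs v.1
    choose r hr using hrep
    let Q : K → W := fun v => ρ ⟨r v ^ 2, hsqF _⟩
    let B : K → K → W := fun a b => ρ ⟨⁅r b, r a⁆, hcF _ _⟩
    have hfix : ∀ x y : G, π x = π y → x ^ 2 = y ^ 2 := fun x y h => by
      have hm : x⁻¹ * y ∈ F := QuotientGroup.eq.1 h
      have hc : Commute x (x⁻¹ * y) := (Subgroup.mem_center_iff.1 (hFc hm) x)
      rw [← mul_inv_cancel_left x y, hc.mul_pow, (hN _).1 (hFN hm), mul_one]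
    refine quad_bound (fun v => Subtype.ext (hV2 v.1)) hW Q B ?_ ?_ ?_
    · intro a b c
      show ρ _ = ρ _ * ρ _
      rw [← map_mul]
      congr 1
      refine Subtype.ext ?_
      show ⁅r (b * c), r a⁆ = ⁅r b, r a⁆ * ⁅r c, r a⁆
      have hm : (r b * r c)⁻¹ * r (b * c) ∈ F := QuotientGroup.eq.1 (by
        show π (r b * r c) = π (r (b * c))
        rw [map_mul, hr, hr, hr]; rfl)
      have hz : ⁅r a, (r b * r c)⁻¹ * r (b * c)⁆ = 1 :=
        commutatorElement_eq_one_iff_mul_comm.2 (Subgroup.mem_center_iff.1 (hFc hm) _)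
      have h1 : ⁅r a, r (b * c)⁆ = ⁅r a, r b⁆ * ⁅r a, r c⁆ := by
        rw [← mul_inv_cancel_left (r b * r c) (r (b * c)), hcmul, hcmul, hz, mul_one]
      have hinv : ∀ u w : G, ⁅w, u⁆ = ⁅u, w⁆ := fun u w => by
        rw [← commutatorElement_inv u w, inv_eq_iff_mul_eq_one, ← pow_two, hc2]
      rw [hinv (r a) (r (b * c)), h1, hinv (r a) (r b), hinv (r a) (r c)]
    · intro a b
      show ρ _ = ρ _ * ρ _ * ρ _
      rw [← map_mul, ← map_mul]
      congr 1
      refine Subtype.ext ?_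
      show r (a * b) ^ 2 = r a ^ 2 * r b ^ 2 * ⁅r b, r a⁆
      rw [← hmul]
      exact hfix _ _ (by rw [map_mul, hr, hr, hr]; rfl)
    · intro v hv
      refine Subtype.ext ?_
      have := hK (r v) (hr v ▸ v.2) hv
      rwa [hr] at this
  have hF2 : ∀ w : ↥F, w * w = 1 := fun w => Subtype.ext (by
    rw [Subgroup.coe_mul, ← pow_two]; exact (hN _).1 (hFN w.2))
  have hcardG : Nat.card G = Nat.card (G ⧸ F) * Nat.card F := Subgroup.card_eq_card_quotient_mul_card_subgroup F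
  set U : Subgroup (G ⧸ F) := N.map π with hU
  have hUN : Nat.card U * Nat.card F = Nat.card N := by
    have h := CfsgLib.Solv.card_map_mk' F N
    rw [inf_eq_right.2 hFN] at h
    exact h
  obtain ⟨K, hUK, hcard⟩ := exists_compl hV2 U
  have hK : Nat.card K ≤ Nat.card F ^ 2 := hkey (MonoidHom.id ↥F) hF2 K fun x hx h1 => by
    have hxN : x ∈ N := (hN x).2 (congrArg Subtype.val h1)
    have : π x ∈ U ⊓ K := ⟨Subgroup.mem_map_of_mem π hxN, hx⟩
    rwa [hUK, Subgroup.mem_bot] at this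
  have hle : Nat.card G ≤ Nat.card N * Nat.card F ^ 2 := by
    rw [hcardG, hcard, ← hUN]
    calc Nat.card U * Nat.card K * Nat.card F = Nat.card U * Nat.card F * Nat.card K := by ring
      _ ≤ _ := Nat.mul_le_mul_left _ hK
  have hFNc : Nat.card F ≤ Nat.card N := Subgroup.card_le_of_le hFN
  have hN0 : 0 < Nat.card N := Nat.card_pos
  have hN3 : Nat.card G ≤ Nat.card N ^ 3 := by
    refine hle.trans ?_
    rw [pow_succ' _ 2]
    exact Nat.mul_le_mul_left _ (Nat.pow_le_pow_left hFNc 2)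
  refine ⟨hN3, fun hns => lt_of_le_of_ne hN3 fun heq => hns ?_⟩
  have hFeq : F = N := by
    refine Subgroup.eq_of_le_of_card_ge hFN ?_
    by_contra hlt
    have h2 := Nat.mul_lt_mul_of_pos_left (Nat.pow_lt_pow_left (not_le.1 hlt) two_ne_zero) hN0
    rw [← pow_succ' _ 2, ← heq] at h2
    omega
  have hVN : Nat.card (G ⧸ F) = Nat.card N ^ 2 := by
    refine Nat.eq_of_mul_eq_mul_right hN0 ?_
    rw [← pow_succ, ← heq, hcardG, hFeq]
  have hsqzero : ∀ x : G, x ^ 2 = 1 → π x = 1 := fun x hx =>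
    (QuotientGroup.eq_one_iff x).2 (hFeq ▸ (hN x).2 hx)
  have hfr : frattini G = F := by
    refine le_antisymm (CfsgLib.Solv.frattini_le_of_elementary F ?_ hsqF) ((Subgroup.closure_le _).2 ?_)
    · rw [commutator_def, Subgroup.commutator_le]
      exact fun a _ b _ => hcF a b
    · rintro _ ⟨x, rfl⟩
      exact CfsgLib.Solv.pow_mem_frattini hG x
  have hcenter : Subgroup.center G = F := by
    refine le_antisymm (fun z hz => ?_) hFc
    by_contra hzF
    have hz1 : π z ≠ 1 := fun h => hzF ((QuotientGroup.eq_one_iff z).1 h)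
    obtain ⟨K', hK', hcard'⟩ := exists_compl hV2 (Subgroup.zpowers (π z))
    let W := ↥F ⧸ Subgroup.zpowers (⟨z ^ 2, hsqF z⟩ : ↥F)
    have h := hkey (W := W) (QuotientGroup.mk' _) (fun w => by
      obtain ⟨w, rfl⟩ := QuotientGroup.mk'_surjective _ w
      rw [← map_mul, hF2, map_one]) K' (fun x hx h1 => by
      obtain ⟨i, hi⟩ := Subgroup.mem_zpowers_iff.1 ((QuotientGroup.eq_one_iff _).1 h1)
      have hi' : (z ^ 2) ^ i = x ^ 2 := (Subgroup.coe_zpow _ _ i).symm.trans (congrArg Subtype.val hi)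
      have hcz : Commute x (z ^ i)⁻¹ := ((show Commute x z from Subgroup.mem_center_iff.1 hz x).zpow_right i).inv_right
      have h2 : π (x * (z ^ i)⁻¹) = 1 := hsqzero _ (by
        rw [hcz.mul_pow, inv_pow, ← hi', ← zpow_natCast (z ^ i), ← zpow_natCast z, ← zpow_mul, ← zpow_mul, mul_comm i, mul_inv_cancel])
      rw [map_mul, map_inv, mul_inv_eq_one, map_zpow] at h2
      have h3 : π x ∈ Subgroup.zpowers (π z) ⊓ K' := ⟨h2 ▸ Subgroup.zpow_mem_zpowers _ _, hx⟩
      rwa [hK', Subgroup.mem_bot] at h3)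
    have hz2 : Nat.card (Subgroup.zpowers (⟨z ^ 2, hsqF z⟩ : ↥F)) = 2 := by
      rw [Nat.card_zpowers, ← Subgroup.orderOf_coe]
      exact orderOf_eq_prime (by rw [← pow_mul]; exact hexp z) fun e => hz1 (hsqzero z e)
    have hz3 : Nat.card (Subgroup.zpowers (π z)) = 2 := by
      rw [Nat.card_zpowers]; exact orderOf_eq_prime (by rw [pow_two]; exact hV2 _) hz1
    have h4 : Nat.card ↥F = Nat.card W * 2 := hz2 ▸ Subgroup.card_eq_card_quotient_mul_card_subgroup _
    rw [hz3, hVN, ← hFeq, h4] at hcard'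
    have : 0 < Nat.card W := Nat.card_pos
    nlinarith
  refine ⟨hG, hfr.trans hcenter.symm, ?_⟩
  rw [hcenter]
  refine le_antisymm (by rw [commutator_def, Subgroup.commutator_le]; exact fun a _ b _ => hcF a b) ?_
  by_contra hne
  -- a linear condition
  set D : Subgroup ↥F := (commutator G).subgroupOf F with hD
  have hD1 : D ≠ ⊤ := fun h => hne fun f hf => by
    have : (⟨f, hf⟩ : ↥F) ∈ D := h ▸ Subgroup.mem_top _
    exact this
  obtain ⟨M, hM, hDM⟩ := (IsCoatomic.eq_top_or_exists_le_coatom D).resolve_left hD1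
  have hMidx : Nat.card ↥F = Nat.card M * 2 := by
    obtain ⟨a, -, ha⟩ := SetLike.exists_of_lt (lt_top_iff_ne_top.2 hM.1)
    have htop : M ⊔ Subgroup.zpowers a = ⊤ := hM.2 _ (left_lt_sup.2 fun h => ha (h (Subgroup.mem_zpowers a)))
    obtain ⟨T, hT, hTc⟩ := exists_compl hF2 M
    have h2 := CfsgLib.Solv.card_sup_mul_card_inf (Subgroup.zpowers a) M
    rw [sup_comm, htop, Subgroup.card_top] at h2
    have ho : orderOf a = 2 := orderOf_eq_prime (by rw [pow_two]; exact hF2 a) fun e => ha (e ▸ one_mem M)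
    have hb : Subgroup.zpowers a ⊓ M = ⊥ := by
      rw [eq_bot_iff]
      rintro w ⟨⟨i, rfl⟩, hw⟩
      rcases Int.even_or_odd i with ⟨j, rfl⟩ | ⟨j, rfl⟩
      · show a ^ (j + j) ∈ (⊥ : Subgroup ↥F)
        rw [zpow_add, hF2]; exact one_mem _
      · exfalso
        change a ^ (2 * j + 1) ∈ M at hw
        rw [two_mul, zpow_add, zpow_add, hF2, one_mul, zpow_one] at hw
        exact ha hw
    rw [hb, Subgroup.card_bot, mul_one, Nat.card_zpowers, ho] at h2
    rw [h2, mul_comm]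
  let ρ : ↥F →* ↥F ⧸ M := QuotientGroup.mk' M
  have hsq2 : ∀ x y : G, π x = π y → x ^ 2 = y ^ 2 := fun x y h => by
    have hm : x⁻¹ * y ∈ F := QuotientGroup.eq.1 h
    rw [← mul_inv_cancel_left x y, (show Commute x (x⁻¹ * y) from Subgroup.mem_center_iff.1 (hFc hm) x).mul_pow,
      (hN _).1 (hFN hm), mul_one]
  have hπs' := hπs
  choose r hr using hπs'
  let L : (G ⧸ F) →* ↥F ⧸ M := MonoidHom.mk' (fun v => ρ ⟨r v ^ 2, hsqF _⟩) fun a b => by
    have e : (⟨r (a * b) ^ 2, hsqF _⟩ : ↥F) = ⟨r a ^ 2, hsqF _⟩ * ⟨r b ^ 2, hsqF _⟩ * ⟨⁅r b, r a⁆, hcF _ _⟩ := by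
      refine Subtype.ext ?_
      show r (a * b) ^ 2 = r a ^ 2 * r b ^ 2 * ⁅r b, r a⁆
      rw [← hmul]; exact hsq2 _ _ (by rw [map_mul, hr, hr, hr])
    show ρ _ = ρ _ * ρ _
    rw [e, map_mul, map_mul]
    have hc : ρ ⟨⁅r b, r a⁆, hcF _ _⟩ = 1 := (QuotientGroup.eq_one_iff _).2
      (hDM (Subgroup.commutator_mem_commutator (Subgroup.mem_top _) (Subgroup.mem_top _)))
    rw [hc, mul_one]
  have hKc : Nat.card (G ⧸ F) ≤ Nat.card L.ker * 2 := by
    rw [← Subgroup.card_mul_index L.ker, Subgroup.index_ker]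
    refine Nat.mul_le_mul_left _ ((Subgroup.card_le_card_group _).trans ?_)
    have := Subgroup.card_eq_card_quotient_mul_card_subgroup M
    rw [hMidx, mul_comm] at this
    exact (Nat.eq_of_mul_eq_mul_right Nat.card_pos this).ge
  -- on the kernel all squares lie in `M`
  let s : ↥F →* ↥F := MonoidHom.id _
  obtain ⟨T, hT, hTc⟩ := exists_compl hF2 M
  have hsM : ∀ f : ↥F, ∃ m ∈ M, ∃ t ∈ T, m * t = f := fun f => by
    have htop : M ⊔ T = ⊤ := by
      refine Subgroup.eq_top_of_card_eq _ ?_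
      have h2 := CfsgLib.Solv.card_sup_mul_card_inf T M
      rw [inf_comm, hT, Subgroup.card_bot, mul_one, sup_comm] at h2
      rw [h2, hTc, mul_comm]
    exact Subgroup.mem_sup.1 (htop ▸ Subgroup.mem_top f)
  choose pm hpm pt hpt hpe using hsM
  have huniq : ∀ f m : ↥F, m ∈ M → m⁻¹ * f ∈ T → pm f = m := fun f m hm ht => by
    have h1 : m⁻¹ * pm f ∈ M ⊓ T := Subgroup.mem_inf.2 ⟨mul_mem (inv_mem hm) (hpm f), by
      have := mul_mem ht (inv_mem (hpt f))
      rwa [show m⁻¹ * f * (pt f)⁻¹ = m⁻¹ * pm f by rw [← mul_inv_eq_iff_eq_mul.2 (hpe f).symm]; group] at this⟩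
    rw [hT, Subgroup.mem_bot] at h1
    exact (inv_mul_eq_one.1 h1).symm
  let pr : ↥F →* ↥M := MonoidHom.mk' (fun f => ⟨pm f, hpm f⟩) fun f g => Subtype.ext
    (huniq _ _ (mul_mem (hpm f) (hpm g)) (by
      show (pm f * pm g)⁻¹ * (f * g) ∈ T
      rw [show (pm f * pm g)⁻¹ * (f * g) = ((pm f)⁻¹ * f) * ((pm g)⁻¹ * g) by rw [mul_inv, mul_mul_mul_comm]]
      refine mul_mem ?_ ?_
      · have : (pm f)⁻¹ * f = pt f := by rw [inv_mul_eq_iff_eq_mul]; exact (hpe f).symm
        rw [this]; exact hpt f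
      · have : (pm g)⁻¹ * g = pt g := by rw [inv_mul_eq_iff_eq_mul]; exact (hpe g).symm
        rw [this]; exact hpt g))
  have hb := hkey pr (fun w => Subtype.ext (hF2 w.1)) L.ker fun x hx h1 => by
    refine hsqzero x ?_
    have hxM : (⟨x ^ 2, hsqF x⟩ : ↥F) ∈ M := by
      have h2 : (⟨r (π x) ^ 2, hsqF _⟩ : ↥F) ∈ M := (QuotientGroup.eq_one_iff _).1 hx
      have h3 : (⟨r (π x) ^ 2, hsqF _⟩ : ↥F) = ⟨x ^ 2, hsqF x⟩ := Subtype.ext (hsq2 _ _ (hr _))
      rwa [h3] at h2
    have h4 := huniq _ _ hxM (by rw [inv_mul_cancel]; exact one_mem T)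
    have h5 : pm ⟨x ^ 2, hsqF x⟩ = 1 := congrArg Subtype.val h1
    exact congrArg Subtype.val (h4.symm.trans h5)
  rw [hVN, ← hFeq, hMidx] at hKc
  have : 0 < Nat.card M := Nat.card_pos
  nlinarith


/-- Let G be a finite 2-group of nilpotency class at most 2 and exponent dividing 4 in which the elements x with x² = 1 form a subgroup N. Then |G| ≤ |N|³, and |G| < |N|³ unless G is special. -/
theorem result {G : Type*} [Group G] [Finite G] (hG : IsPGroup 2 G) (hcl : (⊤ : Subgroup G).lowerCentralSeries 2 = ⊥) (hexp : ∀ x : G, x ^ 4 = 1) (hN : ∀ x y : G, x ^ 2 = 1 → y ^ 2 = 1 → (x * y) ^ 2 = 1) : Nat.card G ≤ Nat.card {x : G // x ^ 2 = 1} ^ 3 ∧ (¬ Cfsg.IsSpecial 2 G → Nat.card G < Nat.card {x : G // x ^ 2 = 1} ^ 3) := by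
  let N : Subgroup G :=
    { carrier := {x | x ^ 2 = 1}
      one_mem' := one_pow 2
      mul_mem' := fun {x y} hx hy => hN x y hx hy
      inv_mem' := fun {x} hx => by show x⁻¹ ^ 2 = 1; rw [inv_pow, hx, inv_one] }
  have hcom : ∀ x y g : G, ⁅x, y⁆ * g = g * ⁅x, y⁆ := fun x y g => by
    have h1 : ⁅x, y⁆ ∈ (⊤ : Subgroup G).lowerCentralSeries 1 := by
      rw [Subgroup.lowerCentralSeries_succ, Subgroup.lowerCentralSeries_zero]
      exact Subgroup.commutator_mem_commutator (Subgroup.mem_top _) (Subgroup.mem_top _)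
    have h2 : ⁅⁅x, y⁆, g⁆ ∈ (⊤ : Subgroup G).lowerCentralSeries 2 := by
      rw [Subgroup.lowerCentralSeries_succ]
      exact Subgroup.commutator_mem_commutator h1 (Subgroup.mem_top _)
    rw [hcl, Subgroup.mem_bot] at h2
    exact commutatorElement_eq_one_iff_mul_comm.1 h2
  exact main hG hcom hexp N fun _ => Iff.rfl

end Cfsg.Agent.S3773
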