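import Cfsg.Statements.S3738
import Cfsg.Agent.S3773
import Cfsg.Agent.Solv.PGroups
import Cfsg.Agent.Solv.FittingBasic
import Mathlib

set_option autoImplicit false
open Cfsg

namespace Cfsg.Agent.S3738

open CfsgLib.Solv
open scoped commutatorElement

theorem smallPeriod {W : Type*} [CommGroup W] [Finite W] (hW : ∀ w : W, w * w = 1) (hc : Nat.card W ≤ 16)
    (e : MulAut W) {k : ℕ} (he : orderOf e = 3 ^ k) : e ^ 3 = 1 := by
  classical
  haveI : Fact (Nat.Prime 3) := ⟨Nat.prime_three⟩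
  haveI : Fact (Nat.Prime 2) := ⟨Nat.prime_two⟩
  set F : Subgroup W :=
    { carrier := {w | (e ^ 3 : MulAut W) w = w}
      one_mem' := map_one _
      mul_mem' := fun {x y} hx hy => by
        show (e ^ 3 : MulAut W) (x * y) = x * y
        rw [map_mul, hx, hy]
      inv_mem' := fun {x} hx => by
        show (e ^ 3 : MulAut W) x⁻¹ = x⁻¹
        rw [map_inv, hx] } with hF
  by_contra hne
  have hFt : F ≠ ⊤ := fun h => hne (MulEquiv.ext fun w => (show w ∈ F from h ▸ Subgroup.mem_top w))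
  have hWp : IsPGroup 2 W := fun w => ⟨1, by rw [pow_one, pow_two]; exact hW w⟩
  obtain ⟨i, hi⟩ := IsPGroup.iff_card.1 hWp
  obtain ⟨j, hj⟩ := IsPGroup.iff_card.1 (hWp.to_subgroup F)
  have hji : j < i := by
    have : Nat.card F < Nat.card W := lt_of_le_of_ne (Subgroup.card_le_card_group F) fun h => hFt (Subgroup.eq_top_of_card_eq F h)
    rw [hi, hj] at this
    exact (Nat.pow_lt_pow_iff_right one_lt_two).1 this
  have hi4 : i ≤ 4 := (Nat.pow_le_pow_iff_right one_lt_two).1 (hi ▸ hc)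
  let X := {w : W // w ∉ F}
  have hmove : ∀ (c : Subgroup.zpowers e) (w : W), w ∉ F → (c : MulAut W) w ∉ F := by
    intro c w hw h
    refine hw ((c : MulAut W).injective ?_)
    have hcomm : (c : MulAut W) * e ^ 3 = e ^ 3 * c := by
      obtain ⟨m, hm⟩ := Subgroup.mem_zpowers_iff.1 c.2
      rw [← hm]; exact (((Commute.refl e).pow_right 3).zpow_left m).eq
    have h2 : (e ^ 3 : MulAut W) ((c : MulAut W) w) = (c : MulAut W) w := h
    rw [← MulAut.mul_apply, hcomm, MulAut.mul_apply]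
    exact h2
  letI : MulAction (Subgroup.zpowers e) X :=
    { smul := fun c w => ⟨(c : MulAut W) w.1, hmove c w.1 w.2⟩
      one_smul := fun w => Subtype.ext rfl
      mul_smul := fun c c' w => Subtype.ext rfl }
  have hP : IsPGroup 3 (Subgroup.zpowers e) := IsPGroup.of_card (n := k) (by rw [Nat.card_zpowers, he])
  -- every orbit has length divisible by nine
  have horb : ∀ x : X, 9 ∣ Nat.card (MulAction.orbit (Subgroup.zpowers e) x) := by
    intro x
    obtain ⟨m, hm⟩ := hP.card_orbit x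
    rw [hm]
    rcases Nat.lt_or_ge m 2 with h | h
    · exfalso
      apply x.2
      set g : Subgroup.zpowers e := ⟨e, Subgroup.mem_zpowers e⟩
      have hfix : g ^ (3 : ℕ) • x = x := by
        haveI : Fintype ↑(MulAction.orbit (Subgroup.zpowers g) x) := Fintype.ofFinite _
        have h1 : Function.minimalPeriod (g • ·) x ∣ 3 ^ 1 := by
          have h2 := MulAction.minimalPeriod_eq_card (a := g) (b := x)
          rw [h2, ← Nat.card_eq_fintype_card]
          have h3 : MulAction.orbit (Subgroup.zpowers g) x = MulAction.orbit (Subgroup.zpowers e) x := by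
            ext y
            constructor
            · rintro ⟨c, rfl⟩; exact ⟨c.1, rfl⟩
            · rintro ⟨c, rfl⟩
              obtain ⟨t, ht⟩ := Subgroup.mem_zpowers_iff.1 c.2
              exact ⟨⟨c, t, Subtype.ext ((Subgroup.coe_zpow _ g t).trans ht)⟩, rfl⟩
          rw [h3, hm]
          exact pow_dvd_pow 3 (by omega)
        rw [pow_one] at h1
        exact MulAction.pow_smul_eq_iff_minimalPeriod_dvd.2 h1
      exact congrArg Subtype.val hfix
    · rw [show (9 : ℕ) = 3 ^ 2 by norm_num]; exact pow_dvd_pow 3 h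
  haveI : Fintype (Quotient (MulAction.orbitRel (Subgroup.zpowers e) X)) := Fintype.ofFinite _
  have h9 : 9 ∣ Nat.card X := by
    rw [Nat.card_congr (MulAction.selfEquivSigmaOrbits (Subgroup.zpowers e) X), Nat.card_sigma]
    exact Finset.dvd_sum fun c _ => horb c.out
  have hX : Nat.card X = 2 ^ i - 2 ^ j := by
    rw [← hi, ← hj]
    have : Fintype W := Fintype.ofFinite W
    rw [Nat.card_eq_fintype_card, Nat.card_eq_fintype_card, Nat.card_eq_fintype_card, Fintype.card_subtype_compl]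
  rw [hX] at h9
  interval_cases i <;> interval_cases j <;> norm_num at h9

theorem core {P : Type*} [Group P] [Finite P] (hP : IsPGroup 2 P) (hrk : ∀ A : Subgroup P, IsMulCommutative A →
    (∀ a ∈ A, a ^ 2 = 1) → Nat.card A ≤ 4) (a : MulAut P) {k : ℕ} (hk : orderOf a = 3 ^ k)
    (hfpf : ∀ x, a x = x → x = 1) : a ^ 3 = 1 := by
  classical
  haveI : Fact (Nat.Prime 2) := ⟨Nat.prime_two⟩
  haveI : Fact (Nat.Prime 3) := ⟨Nat.prime_three⟩
  set b := a ^ 3 with hb
  have hbo : Nat.Coprime (orderOf b) 2 := by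
    have h1 : orderOf b ∣ 3 ^ k := hk ▸ orderOf_pow_dvd 3
    exact Nat.Coprime.coprime_dvd_left h1 ((show Nat.Coprime 3 2 by norm_num).pow_left k)
  obtain ⟨H, hHc, h1, h2, h3⟩ := exists_critical hP
  haveI := hHc
  refine aut_eq_one_of_fix hP h3 hbo ?_
  set Z : Subgroup P := H ⊓ Subgroup.centralizer (H : Set P) with hZ
  have haH : ∀ x ∈ H, a x ∈ H := fun x hx => map_mem_of_characteristic a hx
  have haZ : ∀ x ∈ Z, a x ∈ Z := fun x hx => ⟨haH x hx.1, Subgroup.mem_centralizer_iff.2 fun w hw => by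
    have := congrArg a (Subgroup.mem_centralizer_iff.1 hx.2 (a.symm w) (map_mem_of_characteristic a.symm hw))
    simpa using this⟩
  have hZc : ∀ x ∈ Z, ∀ y ∈ H, x * y = y * x := fun x hx y hy =>
    (Subgroup.mem_centralizer_iff.1 hx.2 y hy).symm
  let Om : Subgroup P :=
    { carrier := {x | x ∈ Z ∧ x ^ 2 = 1}
      one_mem' := ⟨one_mem Z, one_pow 2⟩
      mul_mem' := fun {x y} hx hy => ⟨mul_mem hx.1 hy.1, by
        rw [(show Commute x y from hZc x hx.1 y hy.1.1).mul_pow, hx.2, hy.2, mul_one]⟩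
      inv_mem' := fun {x} hx => ⟨inv_mem hx.1, by rw [inv_pow, hx.2, inv_one]⟩ }
  have hOmc : IsMulCommutative Om := ⟨⟨fun x y => Subtype.ext (hZc x x.2.1 y y.2.1.1)⟩⟩
  have hOm4 : Nat.card Om ≤ 4 := hrk Om hOmc fun x hx => hx.2
  -- powers of `a` respect `Om`
  have haO : ∀ x : Om, a x ∈ Om := fun x => ⟨haZ x x.2.1, by rw [← map_pow, x.2.2, map_one]⟩
  have hbO : ∀ x ∈ Om, b x = x := by
    intro x hx
    by_cases hx1 : x = 1
    · rw [hx1, map_one]
    letI : MulAction (Subgroup.zpowers a) P := MulAction.compHom P (Subgroup.zpowers a).subtype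
    have hP3 : IsPGroup 3 (Subgroup.zpowers a) := IsPGroup.of_card (n := k) (by rw [Nat.card_zpowers, hk])
    obtain ⟨m, hm⟩ := hP3.card_orbit x
    have hsub : MulAction.orbit (Subgroup.zpowers a) x ⊆ (Om : Set P) \ {1} := by
      rintro _ ⟨⟨c, hc⟩, rfl⟩
      obtain ⟨t, ht⟩ : ∃ t : ℕ, a ^ t = c := (isOfFinOrder_of_finite a).mem_powers_iff_mem_zpowers.2 hc
      show c x ∈ (Om : Set P) \ {1}
      rw [← ht]
      refine ⟨?_, fun e => hx1 ((a ^ t).injective (e.trans (map_one _).symm))⟩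
      clear ht
      induction t with
      | zero => exact hx
      | succ t ih => rw [pow_succ', MulAut.mul_apply]; exact haO ⟨_, ih⟩
    have hle : 3 ^ m ≤ 3 := by
      rw [← hm, Nat.card_coe_set_eq]
      refine (Set.ncard_le_ncard hsub (Set.toFinite _)).trans ?_
      rw [Set.ncard_diff_singleton_of_mem (one_mem Om), ← Nat.card_coe_set_eq]
      exact Nat.sub_le_iff_le_add.2 (hOm4.trans le_rfl)
    set g : Subgroup.zpowers a := ⟨a, Subgroup.mem_zpowers a⟩
    haveI : Fintype ↑(MulAction.orbit (Subgroup.zpowers g) x) := Fintype.ofFinite _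
    have hd : Function.minimalPeriod (g • ·) x ∣ 3 := by
      rw [MulAction.minimalPeriod_eq_card (a := g) (b := x), ← Nat.card_eq_fintype_card]
      have h3' : MulAction.orbit (Subgroup.zpowers g) x = MulAction.orbit (Subgroup.zpowers a) x := by
        ext y
        constructor
        · rintro ⟨c, rfl⟩; exact ⟨c.1, rfl⟩
        · rintro ⟨c, rfl⟩
          obtain ⟨t, ht⟩ := Subgroup.mem_zpowers_iff.1 c.2
          exact ⟨⟨c, t, Subtype.ext ((Subgroup.coe_zpow _ g t).trans ht)⟩, rfl⟩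
      rw [h3', hm]
      have : m ≤ 1 := (Nat.pow_le_pow_iff_right (by norm_num : 1 < 3)).1 (hle.trans (pow_one 3).ge)
      exact (pow_dvd_pow 3 this).trans (pow_one 3).dvd
    exact MulAction.pow_smul_eq_iff_minimalPeriod_dvd.2 hd
  have hcommab : ∀ x, b (a x) = a (b x) := fun x => by
    rw [← MulAut.mul_apply, hb, ← pow_succ, pow_succ', MulAut.mul_apply]
  have hbmem : ∀ x ∈ Z, b x ∈ Z := fun x hx => by
    show (a ^ 3) x ∈ Z
    simp only [pow_succ, pow_zero, one_mul, MulAut.mul_apply]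
    exact haZ _ (haZ _ (haZ _ hx))
  have hbZ : ∀ (t : ℕ), ∀ x ∈ Z, x ^ 2 ^ t = 1 → b x = x := by
    intro t
    induction t with
    | zero => intro x _ hx; rw [pow_zero, pow_one] at hx; rw [hx, map_one]
    | succ t ih =>
      intro x hx ht
      have h2 : b (x ^ 2) = x ^ 2 := ih _ (pow_mem hx 2) (by rw [← pow_mul, ← pow_succ']; exact ht)
      set z := x⁻¹ * b x with hz
      have hzO : z ∈ Om := ⟨mul_mem (inv_mem hx) (hbmem x hx), by
        have hc : Commute x⁻¹ (b x) := hZc _ (inv_mem hx) _ (hbmem x hx).1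
        rw [hz, hc.mul_pow, inv_pow, ← map_pow, h2, inv_mul_cancel]⟩
      have hz1 := eq_one_of_fixed_shift hP hbo (x := x) (z := z) (by rw [hz, mul_inv_cancel_left]) (hbO z hzO)
      exact (inv_mul_eq_one.1 hz1).symm
  have hbZ' : ∀ x ∈ Z, b x = x := fun x hx => by
    obtain ⟨t, ht⟩ := hP x
    exact hbZ t x hx ht
  by_cases hH : H = ⊥
  · intro x hx; rw [hH, Subgroup.mem_bot] at hx; rw [hx, map_one]
  -- the socle of the centre is a four group
  have hOm : Nat.card Om = 4 := by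
    haveI : Nontrivial H := (Subgroup.nontrivial_iff_ne_bot H).2 hH
    have hHP : IsPGroup 2 H := hP.to_subgroup H
    haveI := hHP.center_nontrivial
    obtain ⟨t, ht0, ht⟩ := (hHP.to_subgroup (Subgroup.center H)).nontrivial_iff_card.1 inferInstance
    obtain ⟨c, hc⟩ := exists_prime_orderOf_dvd_card' (G := Subgroup.center H) 2 (ht ▸ dvd_pow_self 2 ht0.ne')
    have hcO : ((c : H) : P) ∈ Om := by
      refine ⟨⟨(c : H).2, Subgroup.mem_centralizer_iff.2 fun w hw =>
        congrArg Subtype.val (Subgroup.mem_center_iff.1 c.2 ⟨w, hw⟩)⟩, ?_⟩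
      rw [← hc, ← Subgroup.orderOf_coe c, ← Subgroup.orderOf_coe (c : H), pow_orderOf_eq_one]
    have hc1 : ((c : H) : P) ≠ 1 := fun e => by
      rw [← Subgroup.orderOf_coe c, ← Subgroup.orderOf_coe (c : H), e, orderOf_one] at hc
      norm_num at hc
    obtain ⟨u, hu⟩ := IsPGroup.iff_card.1 (hP.to_subgroup Om)
    have hlt : 2 < Nat.card Om := by
      by_contra hle
      have hac : a ((c : H) : P) = (c : H) := by
        have h1 : ({1, ((c : H) : P)} : Set P) ⊆ Om := Set.insert_subset (one_mem Om) (Set.singleton_subset_iff.2 hcO)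
        have h2 := Set.eq_of_subset_of_ncard_le h1 (by
          rw [Set.ncard_pair (Ne.symm hc1), ← Nat.card_coe_set_eq]; exact not_lt.1 hle) (Set.toFinite _)
        have h3 : a ((c : H) : P) ∈ ({1, ((c : H) : P)} : Set P) := h2 ▸ haO ⟨_, hcO⟩
        rcases h3 with e | e
        · exact absurd (a.injective (e.trans (map_one a).symm)) hc1
        · exact e
      exact hc1 (hfpf _ hac)
    rw [hu] at hlt hOm4 ⊢
    have : u ≤ 2 := (Nat.pow_le_pow_iff_right one_lt_two).1 hOm4
    interval_cases u <;> simp_all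
  -- the quadratic map
  have hsq : ∀ x ∈ H, x ^ 2 ∈ Z := fun x hx => ⟨pow_mem hx 2, h1 ⟨(⟨x, hx⟩ : H) ^ 2, pow_mem_frattini (hP.to_subgroup H) _, rfl⟩⟩
  have hcomm : ∀ x ∈ H, ∀ y ∈ H, ⁅x, y⁆ ∈ Z := fun x hx y _ => h2 (Subgroup.commutator_mem_commutator hx (Subgroup.mem_top y))
  set ZH : Subgroup H := Z.subgroupOf H with hZH
  haveI hZn : ZH.Normal := ⟨fun z hz g => by
    show ((g * z * g⁻¹ : H) : P) ∈ Z
    rw [Subgroup.coe_mul, Subgroup.coe_mul, Subgroup.coe_inv, ← hZc (z : P) (show (z : P) ∈ Z from hz) (g : P) g.2, mul_inv_cancel_right]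
    exact hz⟩
  letI instZ : CommGroup Z := { (inferInstance : Group Z) with mul_comm := fun x y => Subtype.ext (hZc x x.2 y y.2.1) }
  let sq : Z →* Z := powMonoidHom 2
  let V := Z ⧸ sq.range
  have hV : Nat.card V = 4 := by
    show sq.range.index = 4
    rw [← hOm]
    have h4 := sq.ker.card_mul_index
    rw [Subgroup.index_ker, ← sq.range.card_mul_index, mul_comm] at h4
    have h5 := (Nat.eq_of_mul_eq_mul_left Nat.card_pos h4).symm
    rw [h5]
    refine Nat.card_congr
      { toFun := fun x => ⟨(x : Z), (x : Z).2, ?_⟩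
        invFun := fun x => ⟨⟨x, x.2.1⟩, Subtype.ext x.2.2⟩
        left_inv := fun _ => rfl
        right_inv := fun _ => rfl }
    exact congrArg Subtype.val x.2
  letI instW : CommGroup (H ⧸ ZH) := { (inferInstance : Group (H ⧸ ZH)) with
    mul_comm := fun x y => by
      obtain ⟨x, rfl⟩ := QuotientGroup.mk'_surjective ZH x
      obtain ⟨y, rfl⟩ := QuotientGroup.mk'_surjective ZH y
      rw [← commutatorElement_eq_one_iff_mul_comm, ← map_commutatorElement]
      exact (QuotientGroup.eq_one_iff _).2 (hcomm x x.2 y y.2) }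
  have hW2 : ∀ w : H ⧸ ZH, w * w = 1 := fun w => by
    obtain ⟨x, rfl⟩ := QuotientGroup.mk'_surjective ZH w
    rw [← map_mul]
    refine (QuotientGroup.eq_one_iff _).2 ?_
    show ((x * x : H) : P) ∈ Z
    rw [Subgroup.coe_mul, ← pow_two]; exact hsq x x.2
  have hV2 : ∀ v : V, v * v = 1 := fun v => by
    obtain ⟨x, rfl⟩ := QuotientGroup.mk'_surjective sq.range v
    rw [← map_mul]
    exact (QuotientGroup.eq_one_iff _).2 ⟨x, pow_two x⟩
  have hrep : ∀ w : H ⧸ ZH, ∃ x : H, QuotientGroup.mk' ZH x = w := QuotientGroup.mk'_surjective ZH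
  choose r hr using hrep
  let π := QuotientGroup.mk' sq.range
  let Q : H ⧸ ZH → V := fun w => π ⟨(r w : P) ^ 2, hsq _ (r w).2⟩
  let B : H ⧸ ZH → H ⧸ ZH → V := fun u v => π ⟨⁅(r v : P), (r u : P)⁆, hcomm _ (r v).2 _ (r u).2⟩
  have hcc : ∀ {x y g : P}, x ∈ H → y ∈ H → g ∈ H → ⁅x, y⁆ * g = g * ⁅x, y⁆ :=
    fun hx hy hg => hZc _ (hcomm _ hx _ hy) _ hg
  have hinvc : ∀ {x y : P}, x ∈ H → y ∈ H → ⁅x, y * y⁆ = 1 := fun {x y} hx hy =>
    commutatorElement_eq_one_iff_mul_comm.2 ((hZc _ (by rw [← pow_two]; exact hsq y hy) _ hx).symm)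
  have hcl : ∀ {x y z : P}, x ∈ H → y ∈ H → z ∈ H → ⁅x, y * z⁆ = ⁅x, y⁆ * ⁅x, z⁆ := fun {x y z} hx hy hz => by
    calc ⁅x, y * z⁆ = ⁅x, y⁆ * (y * ⁅x, z⁆ * y⁻¹) := by simp only [commutatorElement_def]; group
      _ = _ := by rw [← hcc hx hz hy, mul_inv_cancel_right]
  have hsym : ∀ {x y : P}, x ∈ H → y ∈ H → ⁅y, x⁆ = ⁅x, y⁆ := fun {x y} hx hy => by
    have h : ⁅x, y⁆ * ⁅x, y⁆ = 1 := by rw [← hcl hx hy hy, hinvc hx hy]
    rw [← commutatorElement_inv x y]
    exact inv_eq_of_mul_eq_one_right h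
  have hbound : Nat.card (H ⧸ ZH) ≤ Nat.card V ^ 2 := by
    refine Cfsg.Agent.S3773.quad_bound hW2 hV2 Q B ?_ ?_ ?_
    · intro u v w
      show π _ = π _ * π _
      rw [← map_mul]
      congr 1
      refine Subtype.ext ?_
      show ⁅(r (v * w) : P), (r u : P)⁆ = ⁅(r v : P), (r u : P)⁆ * ⁅(r w : P), (r u : P)⁆
      have hm : (r v * r w)⁻¹ * r (v * w) ∈ ZH := QuotientGroup.eq.1 (by
        show QuotientGroup.mk' ZH (r v * r w) = QuotientGroup.mk' ZH (r (v * w))
        rw [map_mul, hr, hr, hr])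
      have hvw := mul_mem (r v).2 (r w).2
      rw [hsym (r u).2 (r (v * w)).2, hsym (r u).2 (r v).2, hsym (r u).2 (r w).2, ← hcl (r u).2 (r v).2 (r w).2]
      have e : (r (v * w) : P) = ((r v : P) * r w) * (((r v * r w)⁻¹ * r (v * w) : H) : P) := by
        rw [← Subgroup.coe_mul, ← Subgroup.coe_mul, mul_inv_cancel_left]
      rw [e, hcl (r u).2 hvw ((r v * r w)⁻¹ * r (v * w)).2,
        commutatorElement_eq_one_iff_mul_comm.2 ((hZc (((r v * r w)⁻¹ * r (v * w) : H) : P) hm _ (r u).2).symm), mul_one]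
    · intro u v
      show π _ = π _ * π _ * π _
      rw [← map_mul, ← map_mul]
      have hm : (r u * r v)⁻¹ * r (u * v) ∈ ZH := QuotientGroup.eq.1 (by
        show QuotientGroup.mk' ZH (r u * r v) = QuotientGroup.mk' ZH (r (u * v))
        rw [map_mul, hr, hr, hr])
      set z : P := (((r u * r v)⁻¹ * r (u * v) : H) : P) with hz
      have hzO : z ^ 2 ∈ Z := pow_mem (show z ∈ Z from hm) 2
      have e : (r (u * v) : P) = ((r u : P) * r v) * z := by
        rw [hz, ← Subgroup.coe_mul, ← Subgroup.coe_mul, mul_inv_cancel_left]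
      have hexpand : ((r u : P) * r v) ^ 2 = (r u : P) ^ 2 * (r v : P) ^ 2 * ⁅(r v : P), (r u : P)⁆ := by
        set x : P := (r u : P)
        set y : P := (r v : P)
        calc (x * y) ^ 2 = x * (y * x) * y := by simp only [pow_two, mul_assoc]
          _ = x * (⁅y, x⁆ * (x * y)) * y := by rw [commutatorElement_def]; group
          _ = x * ((x * y) * ⁅y, x⁆) * y := by rw [hcc (r v).2 (r u).2 (mul_mem (r u).2 (r v).2)]
          _ = x * x * y * (⁅y, x⁆ * y) := by group
          _ = x * x * y * (y * ⁅y, x⁆) := by rw [hcc (r v).2 (r u).2 (r v).2]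
          _ = _ := by simp only [pow_two, mul_assoc]
      have hcz : Commute ((r u : P) * r v) z := (hZc z hm _ (mul_mem (r u).2 (r v).2)).symm
      refine QuotientGroup.eq.2 ⟨(⟨z, hm⟩ : Z)⁻¹, Subtype.ext ?_⟩
      show z⁻¹ ^ 2 = ((r (u * v) : P) ^ 2)⁻¹ * ((r u : P) ^ 2 * (r v : P) ^ 2 * ⁅(r v : P), (r u : P)⁆)
      rw [← hexpand, e, hcz.mul_pow]; group
    · intro w hw
      obtain ⟨⟨z, hz⟩, hze⟩ : (⟨(r w : P) ^ 2, hsq _ (r w).2⟩ : Z) ∈ sq.range := (QuotientGroup.eq_one_iff _).1 hw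
      have hz' : z ^ 2 = (r w : P) ^ 2 := congrArg Subtype.val hze
      set t : P := (r w : P) * z⁻¹ with ht
      have hc : Commute (r w : P) z⁻¹ := (hZc _ (inv_mem hz) _ (r w).2).symm
      have ht2 : t ^ 2 = 1 := by rw [ht, hc.mul_pow, inv_pow, hz', mul_inv_cancel]
      rw [← hr w]
      refine (QuotientGroup.eq_one_iff _).2 ?_
      show (r w : P) ∈ Z
      by_contra hne
      have htZ : t ∉ Z := fun h => hne (by simpa [ht] using mul_mem h hz)
      have htH : t ∈ H := mul_mem (r w).2 (inv_mem hz.1)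
      set E := Om ⊔ Subgroup.zpowers t
      have hgen : E = Subgroup.closure ((Om : Set P) ∪ {t}) := by
        rw [Subgroup.closure_union, Subgroup.closure_eq, ← Subgroup.zpowers_eq_closure]
      have hEc : IsMulCommutative E := by
        have : ∀ x ∈ E, ∀ y ∈ E, x * y = y * x := by
          intro x hx y hy
          rw [hgen] at hx hy
          haveI := Subgroup.isMulCommutative_closure (k := (Om : Set P) ∪ {t}) (by
            rintro x (hx | rfl) y (hy | rfl)
            · exact hZc x hx.1 y hy.1.1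
            · exact hZc x hx.1 _ htH
            · exact (hZc y hy.1 _ htH).symm
            · rfl)
          exact congrArg Subtype.val (mul_comm' (⟨x, hx⟩ : Subgroup.closure ((Om : Set P) ∪ {t})) ⟨y, hy⟩)
        exact ⟨⟨fun x y => Subtype.ext (this x x.2 y y.2)⟩⟩
      have hsup : ∀ x ∈ E, x ^ 2 = 1 := by
        intro x hx
        rw [hgen] at hx
        induction hx using Subgroup.closure_induction with
        | mem x hx =>
          rcases hx with hx | hx
          · exact hx.2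
          · rw [Set.mem_singleton_iff.1 hx, ht2]
        | one => exact one_pow 2
        | inv x hxE hx => rw [inv_pow, hx, inv_one]
        | mul x y hxE hyE hx hy =>
          have hcx : Commute x y := congrArg Subtype.val (hEc.is_comm.comm ⟨x, hgen ▸ hxE⟩ ⟨y, hgen ▸ hyE⟩)
          rw [hcx.mul_pow, hx, hy, one_mul]
      have hlt : Nat.card Om < Nat.card E := by
        refine lt_of_le_of_ne (Subgroup.card_le_of_le le_sup_left) fun e => htZ ?_
        have := Subgroup.eq_of_le_of_card_ge (le_sup_left : Om ≤ E) e.ge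
        have ht' : t ∈ Om := this ▸ Subgroup.mem_sup_right (Subgroup.mem_zpowers t)
        exact ht'.1
      exact absurd (hrk E hEc hsup) (by omega)
  -- the action on `H ⧸ Z(H)`
  rw [hV] at hbound
  let aH : MulAut H :=
    { toFun := fun x => ⟨a x, haH x x.2⟩
      invFun := fun x => ⟨a.symm x, map_mem_of_characteristic a.symm x.2⟩
      left_inv := fun x => Subtype.ext (a.symm_apply_apply x)
      right_inv := fun x => Subtype.ext (a.apply_symm_apply x)
      map_mul' := fun x y => Subtype.ext (map_mul a _ _) }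
  have hmap : ZH.map aH.toMonoidHom = ZH := by
    refine Subgroup.eq_of_le_of_card_ge (fun x hx => ?_) (Nat.card_congr (ZH.equivMapOfInjective aH.toMonoidHom aH.injective).toEquiv).le
    obtain ⟨y, hy, rfl⟩ := hx
    exact haZ _ hy
  let ab : MulAut (H ⧸ ZH) := QuotientGroup.congr ZH ZH aH hmap
  have hit : ∀ (m : ℕ) (x : H), ((aH ^ m) x : P) = (a ^ m) x ∧ (ab ^ m) (QuotientGroup.mk' ZH x) = QuotientGroup.mk' ZH ((aH ^ m) x) := by
    intro m
    induction m with
    | zero => intro x; exact ⟨rfl, rfl⟩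
    | succ m ih =>
      intro x
      simp only [pow_succ', MulAut.mul_apply]
      refine ⟨?_, ?_⟩
      · show a ((aH ^ m) x : P) = _
        rw [(ih x).1]
      · rw [(ih x).2]; rfl
  obtain ⟨k', -, hk'⟩ : ∃ k' ≤ k, orderOf ab = 3 ^ k' := (Nat.dvd_prime_pow Nat.prime_three).1
    (orderOf_dvd_of_pow_eq_one (MulEquiv.ext fun w => by
      obtain ⟨x, rfl⟩ := QuotientGroup.mk'_surjective ZH w
      rw [(hit _ x).2, MulAut.one_apply]
      congr 1
      refine Subtype.ext ?_
      rw [(hit _ x).1, ← hk, pow_orderOf_eq_one, MulAut.one_apply]))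
  have hW3 := smallPeriod hW2 (hbound.trans (by norm_num)) ab hk'
  intro x hx
  have h6 : QuotientGroup.mk' ZH ((aH ^ 3) ⟨x, hx⟩) = QuotientGroup.mk' ZH ⟨x, hx⟩ := by
    rw [← (hit 3 _).2, hW3, MulAut.one_apply]
  have h7 : x⁻¹ * b x ∈ Z := by
    have h8 := QuotientGroup.eq.1 h6.symm
    have h9 : (((⟨x, hx⟩ : H)⁻¹ * (aH ^ 3) ⟨x, hx⟩ : H) : P) ∈ Z := h8
    rwa [Subgroup.coe_mul, Subgroup.coe_inv, (hit 3 _).1] at h9
  exact (inv_mul_eq_one.1 (eq_one_of_fixed_shift hP hbo (x := x) (z := x⁻¹ * b x)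
    (by rw [mul_inv_cancel_left]) (hbZ' _ h7))).symm


/-- Let d be a non-identity 3-element of a finite group and P a 2-subgroup normalized by d on which ⟨d⟩ acts faithfully (no non-identity power of d centralizes P) and without non-identity fixed points (C_P(d) = 1). If every abelian subgroup of P has 2-rank at most 2, then d has order 3. -/
theorem result {X : Type*} [Group X] [Finite X] (d : X) (n : ℕ) (hn : 1 ≤ n) (hd : orderOf d = 3 ^ n) (P : Subgroup X) (hP : IsPGroup 2 P) (hdP : d ∈ Subgroup.normalizer (P : Set X)) (hfaith : Subgroup.zpowers d ⊓ Subgroup.centralizer (P : Set X) = ⊥) (hfpf : P ⊓ Subgroup.centralizer {d} = ⊥) (hrank : ∀ V : Subgroup X, V ≤ P → IsMulCommutative V → Cfsg.PRankLE 2 2 V) : orderOf d = 3 := by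
  haveI : Fact (Nat.Prime 3) := ⟨Nat.prime_three⟩
  let a : MulAut P := P.normalizerMonoidHom ⟨d, hdP⟩
  have hap : ∀ (m : ℕ) (x : P), ((a ^ m) x : X) = d ^ m * x * (d ^ m)⁻¹ := by
    intro m x
    rw [show a ^ m = P.normalizerMonoidHom (⟨d, hdP⟩ ^ m) from (map_pow _ _ m).symm]
    show ((⟨d, hdP⟩ ^ m : ↥(Subgroup.normalizer (P : Set X))) : X) * x * _ = _
    rfl
  have hker : ∀ m : ℕ, a ^ m = 1 → d ^ m = 1 := fun m hm => by
    have h : d ^ m ∈ Subgroup.zpowers d ⊓ Subgroup.centralizer (P : Set X) :=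
      ⟨Subgroup.pow_mem _ (Subgroup.mem_zpowers d) m, Subgroup.mem_centralizer_iff.2 fun x hx => by
        have h2 := hap m ⟨x, hx⟩
        rw [hm, MulAut.one_apply] at h2
        exact (mul_inv_eq_iff_eq_mul.1 h2.symm).symm⟩
    rwa [hfaith, Subgroup.mem_bot] at h
  have hdvd : orderOf a ∣ 3 ^ n := orderOf_dvd_of_pow_eq_one (MulEquiv.ext fun x => Subtype.ext (by
    rw [hap, ← hd, pow_orderOf_eq_one, one_mul, inv_one, mul_one]; rfl))
  obtain ⟨k, -, hk⟩ := (Nat.dvd_prime_pow Nat.prime_three).1 hdvd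
  have h3 : a ^ 3 = 1 := core hP (fun A hA hAe => by
      have h := hrank (A.map P.subtype) (Subgroup.map_subtype_le _) (by
        haveI := hA; infer_instance) ⊤ (by
        haveI := hA; infer_instance) (fun x _ => Subtype.ext (by
        obtain ⟨y, hy, e⟩ := x.2
        rw [Subgroup.coe_pow, ← e, ← map_pow, hAe y hy, map_one]; rfl))
      rw [Subgroup.card_top, Nat.card_congr (A.equivMapOfInjective _ P.subtype_injective).symm.toEquiv] at h
      exact h) a hk (fun x hx => Subtype.ext (by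
      have h2 := hap 1 x
      rw [pow_one, pow_one, hx] at h2
      have h4 : (x : X) ∈ P ⊓ Subgroup.centralizer {d} :=
        ⟨x.2, Subgroup.mem_centralizer_singleton_iff.2 (mul_inv_eq_iff_eq_mul.1 h2.symm).symm⟩
      rwa [hfpf, Subgroup.mem_bot] at h4))
  have h5 := orderOf_dvd_of_pow_eq_one (hker 3 h3)
  rcases (Nat.dvd_prime Nat.prime_three).1 h5 with e | e
  · rw [hd] at e
    exact absurd e (Nat.one_lt_pow (by omega) (by norm_num)).ne'
  · exact e

end Cfsg.Agent.S3738
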