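import Cfsg.Statements.S3739
import Cfsg.Agent.S3738
import Cfsg.Agent.Solv.Generation
import Cfsg.Agent.Solv.Basic
import Cfsg.Agent.Solv.PGroups
import Cfsg.Agent.Perm.MinClass

set_option autoImplicit false
open Cfsg

namespace Cfsg.Agent.S3739

/-- Let G be a finite group with C_G(O₂(G)) ≤ O₂(G) containing an element of order 6, and let d be a non-identity 3-element of G normalizing a nontrivial elementary abelian 2-subgroup W with C_W(d) = 1. Then G has an elementary abelian subgroup of order 8. -/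
theorem result {G : Type*} [Group G] [Finite G] (hchar : Subgroup.centralizer (Cfsg.pCore 2 G : Set G) ≤ Cfsg.pCore 2 G) (hsix : ∃ g : G, orderOf g = 6) (d : G) (hd1 : d ≠ 1) (hd : IsPGroup 3 ↥(Subgroup.zpowers d)) (W : Subgroup G) (hW : Cfsg.IsElementaryAbelian 2 W) (hW1 : W ≠ ⊥) (hdW : d ∈ Subgroup.normalizer (W : Set G)) (hfpf : W ⊓ Subgroup.centralizer {d} = ⊥) : ∃ E : Subgroup G, Cfsg.IsElementaryAbelian 2 E ∧ Nat.card E = 8 := by
  classical
  haveI : Fact (Nat.Prime 2) := ⟨Nat.prime_two⟩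
  haveI : Fact (Nat.Prime 3) := ⟨Nat.prime_three⟩
  by_contra hno
  push Not at hno
  -- every elementary abelian two-subgroup has order at most four
  have hrk : ∀ E : Subgroup G, Cfsg.IsElementaryAbelian 2 E → Nat.card E ≤ 4 := by
    intro E hE
    by_contra hgt
    have hEp : IsPGroup 2 E := fun x => ⟨1, Subtype.ext (by rw [pow_one]; exact hE.2 _ x.2)⟩
    obtain ⟨n, hn⟩ := hEp.exists_card_eq
    have h3 : 3 ≤ n := by
      by_contra h
      have : n ≤ 2 := by omega
      interval_cases n <;> simp_all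
    obtain ⟨K, hK⟩ := Sylow.exists_subgroup_card_pow_prime 2 (G := E) (n := 3) (hn ▸ pow_dvd_pow 2 h3)
    have hcm : ∀ a ∈ E, ∀ b ∈ E, a * b = b * a := fun a ha b hb =>
      congrArg Subtype.val (hE.1.is_comm.comm ⟨a, ha⟩ ⟨b, hb⟩)
    refine hno (K.map E.subtype) ⟨⟨⟨fun a b => Subtype.ext
      (hcm _ (Subgroup.map_subtype_le K a.2) _ (Subgroup.map_subtype_le K b.2))⟩⟩,
      fun a ha => hE.2 a (Subgroup.map_subtype_le K ha)⟩ ?_
    rw [Subgroup.card_map_of_injective E.subtype_injective, hK]; norm_num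
  have hWp : IsPGroup 2 W := fun x => ⟨1, Subtype.ext (by rw [pow_one]; exact hW.2 _ x.2)⟩
  have hWab : ∀ a ∈ W, ∀ b ∈ W, a * b = b * a := fun a ha b hb =>
    congrArg Subtype.val (hW.1.is_comm.comm ⟨a, ha⟩ ⟨b, hb⟩)
  have hinv : ∀ a ∈ W, a⁻¹ = a := fun a ha => inv_eq_of_mul_eq_one_right (by rw [← pow_two]; exact hW.2 a ha)
  have hdfix : ∀ w ∈ W, d * w = w * d → w = 1 := fun w hw h => by
    have : w ∈ W ⊓ Subgroup.centralizer {d} := ⟨hw, Subgroup.mem_centralizer_singleton_iff.2 h.symm⟩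
    rwa [hfpf, Subgroup.mem_bot] at this
  have hdW' : ∀ w ∈ W, d * w * d⁻¹ ∈ W := fun w hw => (Subgroup.mem_normalizer_iff.1 hdW w).1 hw
  have hW4 : Nat.card W = 4 := by
    obtain ⟨n, hn⟩ := hWp.exists_card_eq
    have h4 := hrk W hW
    have h1 : n ≠ 0 := fun h => hW1 (Subgroup.card_eq_one.1 (by rw [hn, h, pow_zero]))
    have h2 : n ≠ 1 := by
      intro h
      obtain ⟨w, hw, hw1⟩ := (Subgroup.bot_or_exists_ne_one W).resolve_left hW1
      have hc2 : (W : Set G).ncard = 2 := by rw [← Nat.card_coe_set_eq]; exact hn.trans (by rw [h, pow_one])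
      have hsub : ({1, w} : Set G) = (W : Set G) := Set.eq_of_subset_of_ncard_le
        (Set.insert_subset (one_mem W) (Set.singleton_subset_iff.2 hw))
        (by rw [Set.ncard_pair (Ne.symm hw1), hc2]) (Set.toFinite _)
      have hm : d * w * d⁻¹ ∈ ({1, w} : Set G) := hsub ▸ hdW' w hw
      rcases hm with e | e
      · exact hw1 (conj_eq_one_iff.1 e)
      · exact hw1 (hdfix w hw (mul_inv_eq_iff_eq_mul.1 e))
    have h5 : n ≤ 2 := (Nat.pow_le_pow_iff_right one_lt_two).1 (hn ▸ h4)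
    interval_cases n <;> simp_all
  -- an involution centralizing `W` lies in `W`
  have hR : ∀ u : G, u ^ 2 = 1 → (∀ w ∈ W, u * w = w * u) → u ∈ W := by
    intro u hu huW
    set E := Subgroup.closure ((W : Set G) ∪ {u})
    have hcl : ∀ x ∈ (W : Set G) ∪ {u}, ∀ y ∈ (W : Set G) ∪ {u}, x * y = y * x := by
      rintro x (hx | rfl) y (hy | rfl)
      · exact hWab x hx y hy
      · exact (huW x hx).symm
      · exact huW y hy
      · rfl
    haveI := Subgroup.isMulCommutative_closure hcl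
    have hcE : ∀ x ∈ E, ∀ y ∈ E, x * y = y * x := fun x hx y hy =>
      congrArg Subtype.val (mul_comm' (⟨x, hx⟩ : E) ⟨y, hy⟩)
    have hexp : ∀ x ∈ E, x ^ 2 = 1 := by
      intro x hx
      induction hx using Subgroup.closure_induction with
      | mem x hx =>
        rcases hx with hx | hx
        · exact hW.2 x hx
        · rw [Set.mem_singleton_iff.1 hx, hu]
      | one => exact one_pow 2
      | inv x hxE hx => rw [inv_pow, hx, inv_one]
      | mul x y hxE hyE hx hy =>
        rw [(show Commute x y from hcE x hxE y hyE).mul_pow, hx, hy, one_mul]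
    have hWE : W ≤ E := fun w hw => Subgroup.subset_closure (Or.inl hw)
    have h := hrk E ⟨inferInstance, hexp⟩
    rw [Subgroup.eq_of_le_of_card_ge hWE (hW4 ▸ h)]
    exact Subgroup.subset_closure (Or.inr rfl)
  set P := Cfsg.pCore 2 G with hPdef
  haveI : P.Normal := CfsgLib.Solv.pCore_normal G 2
  have hPp : IsPGroup 2 P := CfsgLib.Solv.pCore_isPGroup G 2
  haveI : Nontrivial G := ⟨⟨d, 1, hd1⟩⟩
  have hPne : P ≠ ⊥ := fun h => by
    have h1 : d ∈ P := hchar (Subgroup.mem_centralizer_iff.2 fun x hx => by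
      have hx' : x ∈ P := hx
      rw [h, Subgroup.mem_bot] at hx'
      rw [hx', one_mul, mul_one])
    rw [h, Subgroup.mem_bot] at h1
    exact hd1 h1
  -- a non-trivial element of the socle of `Z(P)` fixed by `W`
  let Z1 : Subgroup G :=
    { carrier := {x | x ∈ P ∧ (∀ y ∈ P, x * y = y * x) ∧ x ^ 2 = 1}
      one_mem' := ⟨one_mem P, fun y _ => by rw [one_mul, mul_one], one_pow 2⟩
      mul_mem' := fun {a b} ha hb => ⟨mul_mem ha.1 hb.1, fun y hy => by
        rw [mul_assoc, hb.2.1 y hy, ← mul_assoc, ha.2.1 y hy, mul_assoc], by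
        rw [(show Commute a b from ha.2.1 b hb.1).mul_pow, ha.2.2, hb.2.2, one_mul]⟩
      inv_mem' := fun {a} ha => ⟨inv_mem ha.1, fun y hy => (show Commute a y from ha.2.1 y hy).inv_left.eq,
        by rw [inv_pow, ha.2.2, inv_one]⟩ }
  have hZ1n : Z1.Normal := ⟨fun x hx g => ⟨Subgroup.Normal.conj_mem inferInstance x hx.1 g, fun y hy => by
    have h := hx.2.1 (g⁻¹ * y * g) (by simpa using Subgroup.Normal.conj_mem (inferInstance : P.Normal) y hy g⁻¹)
    calc g * x * g⁻¹ * y = g * (x * (g⁻¹ * y * g)) * g⁻¹ := by group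
      _ = g * ((g⁻¹ * y * g) * x) * g⁻¹ := by rw [h]
      _ = _ := by group, by rw [conj_pow, hx.2.2, mul_one, mul_inv_cancel]⟩⟩
  obtain ⟨z, hz, hz1, hzW⟩ : ∃ z ∈ Z1, z ≠ 1 ∧ ∀ w ∈ W, w * z = z * w := by
    letI : MulAction W Z1 :=
      { smul := fun w x => ⟨(w : G) * x * (w : G)⁻¹, hZ1n.conj_mem x x.2 w⟩
        one_smul := fun x => Subtype.ext (show ((1 : W) : G) * x * ((1 : W) : G)⁻¹ = x by simp)
        mul_smul := fun a b x => Subtype.ext (show ((a * b : W) : G) * x * ((a * b : W) : G)⁻¹ =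
          (a : G) * ((b : G) * x * (b : G)⁻¹) * (a : G)⁻¹ by rw [Subgroup.coe_mul]; group) }
    haveI : Nontrivial P := (Subgroup.nontrivial_iff_ne_bot P).2 hPne
    haveI := hPp.center_nontrivial
    obtain ⟨k, hk0, hk⟩ := (hPp.to_subgroup (Subgroup.center P)).nontrivial_iff_card.1 inferInstance
    obtain ⟨c, hc⟩ := exists_prime_orderOf_dvd_card' (G := Subgroup.center P) 2 (hk ▸ dvd_pow_self 2 hk0.ne')
    rw [← Subgroup.orderOf_coe c, ← Subgroup.orderOf_coe (c : P)] at hc
    have hcZ : ((c : P) : G) ∈ Z1 := ⟨(c : P).2, fun y hy =>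
      (congrArg Subtype.val (Subgroup.mem_center_iff.1 c.2 ⟨y, hy⟩)).symm, by rw [← hc, pow_orderOf_eq_one]⟩
    have hd2 : 2 ∣ Nat.card Z1 := by
      rw [← hc]; exact Subgroup.orderOf_dvd_natCard _ hcZ
    obtain ⟨x, hx, hx1⟩ := hWp.exists_fixed_point_of_prime_dvd_card_of_fixed_point (α := Z1) hd2
      (a := 1) (fun w => Subtype.ext (show (w : G) * 1 * (w : G)⁻¹ = 1 by group))
    exact ⟨x, x.2, fun e => hx1 (Subtype.ext e.symm), fun w hw =>
      mul_inv_eq_iff_eq_mul.1 (congrArg Subtype.val (hx ⟨w, hw⟩))⟩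
  have hzmem : z ∈ W := hR z hz.2.2 fun w hw => (hzW w hw).symm
  have hz' : d * z * d⁻¹ ≠ z := fun h => hz1 (hdfix z hzmem (mul_inv_eq_iff_eq_mul.1 h))
  have hz'1 : d * z * d⁻¹ ≠ 1 := fun h => hz1 (conj_eq_one_iff.1 h)
  have hWZ : W ≤ Z1 := by
    set z' := d * z * d⁻¹
    have hz'Z : z' ∈ Z1 := hZ1n.conj_mem z hz d
    have h3 : z * z' ∉ ({1, z, z'} : Set G) := by
      rintro (h | h | h)
      · exact hz' (by rw [← hinv z hzmem]; exact (inv_eq_of_mul_eq_one_right h).symm)
      · exact hz'1 (mul_eq_left.1 h)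
      · exact hz1 (mul_eq_right.1 h)
    have hc4 : (W : Set G).ncard = 4 := by rw [← Nat.card_coe_set_eq]; exact hW4
    have hset : ({z * z', 1, z, z'} : Set G) = (W : Set G) := by
      refine Set.eq_of_subset_of_ncard_le ?_ ?_ (Set.toFinite _)
      · rintro x (rfl | rfl | rfl | rfl)
        · exact mul_mem hzmem (hdW' z hzmem)
        · exact one_mem W
        · exact hzmem
        · exact hdW' z hzmem
      · rw [Set.ncard_insert_of_notMem h3, Set.ncard_insert_of_notMem (by simp [Ne.symm hz1, Ne.symm hz'1]),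
          Set.ncard_pair (Ne.symm hz'), hc4]
    intro w hw
    rw [← SetLike.mem_coe, ← hset] at hw
    rcases hw with rfl | rfl | rfl | rfl
    exacts [mul_mem hz hz'Z, one_mem _, hz, hz'Z]
  have hZW : Z1 = W := le_antisymm (fun x hx => hR x hx.2.2 fun w hw => hx.2.1 w (hWZ hw).1) hWZ
  haveI hWn : W.Normal := hZW ▸ hZ1n
  have hPinv : ∀ u ∈ P, u ^ 2 = 1 → u ∈ W := fun u hu hu2 =>
    hR u hu2 fun w hw => ((hWZ hw).2.1 u hu).symm
  -- an element acting without fixed points on `W` acts without fixed points on `P`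
  have hfp : ∀ a : G, (∀ w ∈ W, a * w = w * a → w = 1) → P ⊓ Subgroup.centralizer {a} = ⊥ := by
    intro a ha
    rw [Subgroup.eq_bot_iff_forall]
    intro x hx
    by_contra hx1
    obtain ⟨k, hk⟩ := hPp ⟨x, hx.1⟩
    have hk' : x ^ 2 ^ k = 1 := congrArg Subtype.val hk
    obtain ⟨j, -, hj⟩ := (Nat.dvd_prime_pow Nat.prime_two).1 (orderOf_dvd_of_pow_eq_one hk')
    cases j with
    | zero => rw [pow_zero] at hj; exact hx1 (orderOf_eq_one_iff.1 hj)
    | succ j =>
      have hu2 : (x ^ 2 ^ j) ^ 2 = 1 := by rw [← pow_mul, ← pow_succ, ← hj, pow_orderOf_eq_one]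
      have hu : x ^ 2 ^ j ≠ 1 := pow_ne_one_of_lt_orderOf (by positivity) (hj ▸ Nat.pow_lt_pow_right one_lt_two (by omega))
      have hc : Commute a x := (Subgroup.mem_centralizer_singleton_iff.1 hx.2).symm
      exact hu (ha _ (hPinv _ (pow_mem hx.1 _) hu2) (hc.pow_right _).eq)
  have hcP : ∀ x : G, x ∈ Subgroup.centralizer (P : Set G) → (orderOf x).Coprime 2 → x = 1 := by
    intro x hx hxo
    obtain ⟨k, hk⟩ := hPp ⟨x, hchar hx⟩
    have hk' : x ^ 2 ^ k = 1 := congrArg Subtype.val hk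
    exact orderOf_eq_one_iff.1 (Nat.eq_one_of_dvd_coprimes (hxo.pow_right k) dvd_rfl (orderOf_dvd_of_pow_eq_one hk'))
  obtain ⟨n, hn⟩ := IsPGroup.iff_card.1 hd
  rw [Nat.card_zpowers] at hn
  have hn1 : 1 ≤ n := Nat.one_le_iff_ne_zero.2 fun h => hd1 (orderOf_eq_one_iff.1 (by rw [hn, h, pow_zero]))
  have hdo : orderOf d = 3 := by
    refine Cfsg.Agent.S3738.result d n hn1 hn P hPp (by rw [Subgroup.normalizer_eq_top_iff.2 inferInstance]; trivial)
      ?_ (hfp d hdfix) ?_
    · rw [Subgroup.eq_bot_iff_forall]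
      intro x hx
      refine hcP x hx.2 (Nat.Coprime.coprime_dvd_left (?_ : orderOf x ∣ 3 ^ n) (Nat.Coprime.pow_left n (by norm_num)))
      exact (Subgroup.orderOf_dvd_natCard _ hx.1).trans (by rw [Nat.card_zpowers, hn])
    · intro V hV hVc A hA hAe
      have hcA : ∀ a ∈ A, ∀ b ∈ A, a * b = b * a := fun a _ b _ => hVc.is_comm.comm a b
      refine le_trans (le_of_eq (Subgroup.card_map_of_injective V.subtype_injective).symm) (hrk (A.map V.subtype)
        ⟨⟨⟨?_⟩⟩, ?_⟩)
      · rintro ⟨_, a, ha, rfl⟩ ⟨_, b, hb, rfl⟩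
        exact Subtype.ext (show V.subtype a * V.subtype b = V.subtype b * V.subtype a by
          rw [← map_mul, ← map_mul, hcA a ha b hb])
      · rintro _ ⟨a, ha, rfl⟩
        rw [← map_pow, hAe a ha, map_one]
  -- an element of order three centralizing `W`
  set C := Subgroup.centralizer (W : Set G) with hC
  haveI : C.Normal := Subgroup.normal_centralizer
  obtain ⟨g, hg⟩ := hsix
  set e := g ^ 2 with he
  set t := g ^ 3 with ht
  have heo : orderOf e = 3 := by rw [he, orderOf_pow, hg]; norm_num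
  have hto : orderOf t = 2 := by rw [ht, orderOf_pow, hg]; norm_num
  have het : Commute e t := (Commute.refl g).pow_pow 2 3
  have hef : ∃ f ∈ W, f ≠ 1 ∧ e * f * e⁻¹ = f := by
    by_cases htC : ∀ w ∈ W, t * w = w * t
    · refine ⟨t, hR t (by rw [← hto, pow_orderOf_eq_one]) htC, fun h => ?_, by rw [het.eq, mul_inv_cancel_right]⟩
      rw [h, orderOf_one] at hto; exact absurd hto (by norm_num)
    push Not at htC
    obtain ⟨w, hw, hwt⟩ := htC
    have ht2 : t * t = 1 := by rw [← pow_two, ← hto, pow_orderOf_eq_one]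
    have htt : ∀ x, t * (t * x * t⁻¹) * t⁻¹ = x := fun x => by
      rw [← mul_assoc, ← mul_assoc, ht2, one_mul, mul_assoc, ← mul_inv_rev, ht2, inv_one, mul_one]
    have htW : t * w * t⁻¹ ∈ W := hWn.conj_mem w hw t
    set f := w * (t * w * t⁻¹) with hf
    have hfW : f ∈ W := mul_mem hw htW
    have hf1 : f ≠ 1 := fun h => by
      have : t * w * t⁻¹ = w := by rw [← inv_eq_of_mul_eq_one_right h, hinv w hw]
      exact hwt (mul_inv_eq_iff_eq_mul.1 this)
    have htf : t * f * t⁻¹ = f := by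
      have e1 : t * f * t⁻¹ = (t * w * t⁻¹) * (t * (t * w * t⁻¹) * t⁻¹) := by rw [hf]; group
      rw [e1, htt, hf, hWab _ htW _ hw]
    refine ⟨f, hfW, hf1, ?_⟩
    -- the fixed points of `t` on `W` are `1` and `f`
    by_contra hne
    set f' := e * f * e⁻¹ with hf'
    have hf'W : f' ∈ W := hWn.conj_mem f hfW e
    have htf' : t * f' * t⁻¹ = f' := by
      have : t * f' * t⁻¹ = e * (t * f * t⁻¹) * e⁻¹ := by
        rw [hf', ← mul_assoc, ← mul_assoc, ← het.eq, mul_assoc _ e⁻¹ t⁻¹, ← mul_inv_rev, ← het.eq, mul_inv_rev]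
        group
      rw [this, htf]
    have hf'1 : f' ≠ 1 := fun h => hf1 (conj_eq_one_iff.1 h)
    have hwn : w ∉ ({1, f, f'} : Set G) := by
      rintro (rfl | h | h)
      · exact hwt (by rw [mul_one, one_mul])
      · exact hwt (mul_inv_eq_iff_eq_mul.1 (by rw [h]; exact htf))
      · exact hwt (mul_inv_eq_iff_eq_mul.1 (by rw [h]; exact htf'))
    have htwn : t * w * t⁻¹ ∉ ({w, 1, f, f'} : Set G) := by
      rintro (h | h | h | h)
      · exact hwt (mul_inv_eq_iff_eq_mul.1 h)
      · exact hwn (Or.inl (conj_eq_one_iff.1 h))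
      · exact hwn (Or.inr (Or.inl (by rw [← htt w, h, htf])))
      · exact hwn (Or.inr (Or.inr (by rw [← htt w, h]; exact htf')))
    have h5 : ({t * w * t⁻¹, w, 1, f, f'} : Set G) ⊆ (W : Set G) := by
      rintro x (rfl | rfl | rfl | rfl | rfl)
      exacts [htW, hw, one_mem W, hfW, hf'W]
    have h6 := Set.ncard_le_ncard h5 (Set.toFinite _)
    rw [Set.ncard_insert_of_notMem htwn, Set.ncard_insert_of_notMem hwn,
      Set.ncard_insert_of_notMem (by simp [Ne.symm hf1, Ne.symm hf'1]), Set.ncard_pair (Ne.symm hne),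
      ← Nat.card_coe_set_eq] at h6
    exact absurd (h6.trans hW4.le) (by norm_num)
  have heC : e ∈ C := by
    obtain ⟨f, hfW, hf1, hfe⟩ := hef
    refine Subgroup.mem_centralizer_iff.2 fun w hw => (mul_inv_eq_iff_eq_mul.1 ?_).symm
    have he3 : e * e * e = 1 := by rw [← pow_two, ← pow_succ, show 2 + 1 = 3 from rfl, ← heo, pow_orderOf_eq_one]
    by_contra hne
    have hw1 : w ≠ 1 := fun h => hne (by rw [h, mul_one, mul_inv_cancel])
    have hwf : w ≠ f := fun h => hne (h ▸ hfe)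
    set w' := e * w * e⁻¹ with hw'
    have hw'W : w' ∈ W := hWn.conj_mem w hw e
    have hw'1 : w' ≠ 1 := fun h => hw1 (conj_eq_one_iff.1 h)
    have hw'f : w' ≠ f := fun h => hwf ((MulAut.conj e).injective (by simpa [hw', hfe] using h))
    set w'' := e * w' * e⁻¹ with hw''
    have hw''1 : w'' ≠ 1 := fun h => hw'1 (conj_eq_one_iff.1 h)
    have hw''f : w'' ≠ f := fun h => hw'f ((MulAut.conj e).injective (by simpa [hw'', hfe] using h))
    have hw''w' : w'' ≠ w' := fun h => hne ((MulAut.conj e).injective (by simpa [hw', hw''] using h))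
    have hw''w : w'' ≠ w := fun h => by
      refine hne ?_
      calc w' = e * w * e⁻¹ := rfl
        _ = e * w'' * e⁻¹ := by rw [h]
        _ = (e * e * e) * w * (e * e * e)⁻¹ := by rw [hw'', hw']; group
        _ = w := by rw [he3]; group
    have h5 : ({w'', w', w, f, 1} : Set G) ⊆ (W : Set G) := by
      rintro x (rfl | rfl | rfl | rfl | rfl)
      exacts [hWn.conj_mem _ hw'W e, hw'W, hw, hfW, one_mem W]
    have h6 := Set.ncard_le_ncard h5 (Set.toFinite _)
    rw [Set.ncard_insert_of_notMem (by simp [hw''w', hw''w, hw''f, hw''1]),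
      Set.ncard_insert_of_notMem (by simp [hw'f, hw'1, show w' ≠ w from hne]),
      Set.ncard_insert_of_notMem (by simp [hwf, hw1]), Set.ncard_pair hf1, ← Nat.card_coe_set_eq] at h6
    exact absurd (h6.trans hW4.le) (by norm_num)
  -- a commuting one
  obtain ⟨S, hS⟩ := hd.exists_le_sylow
  have hdS : d ∈ (S : Subgroup G) := hS (Subgroup.mem_zpowers d)
  obtain ⟨e', he'o, he'C, hde⟩ : ∃ e' : G, orderOf e' = 3 ∧ e' ∈ C ∧ Commute d e' := by
    obtain ⟨R, hR⟩ := (IsPGroup.of_card (n := 1) (by rw [Nat.card_zpowers, heo, pow_one]) :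
      IsPGroup 3 (Subgroup.zpowers e)).exists_le_sylow
    obtain ⟨a, ha⟩ := MulAction.exists_smul_eq G R S
    have hea : a * e * a⁻¹ ∈ (S : Subgroup G) ⊓ C := by
      refine ⟨?_, Subgroup.Normal.conj_mem inferInstance e heC a⟩
      rw [← ha]
      exact ⟨e, hR (Subgroup.mem_zpowers e), rfl⟩
    have hT : C.subgroupOf (S : Subgroup G) ≠ ⊥ := fun h => by
      have h1 : (⟨a * e * a⁻¹, hea.1⟩ : (S : Subgroup G)) ∈ C.subgroupOf (S : Subgroup G) := hea.2
      rw [h, Subgroup.mem_bot] at h1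
      rw [conj_eq_one_iff.1 (congrArg Subtype.val h1), orderOf_one] at heo
      exact absurd heo (by norm_num)
    have hZT := CfsgLib.Perm.inf_center_ne_bot S.2 (C.subgroupOf (S : Subgroup G)) hT
    obtain ⟨x, hx, hx1⟩ := (Subgroup.bot_or_exists_ne_one _).resolve_left hZT
    obtain ⟨k, hk⟩ := S.2 x
    obtain ⟨j, -, hj⟩ := (Nat.dvd_prime_pow Nat.prime_three).1 (orderOf_dvd_of_pow_eq_one hk)
    cases j with
    | zero => rw [pow_zero] at hj; exact absurd (orderOf_eq_one_iff.1 hj) hx1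
    | succ j =>
      have hy : x ^ 3 ^ j ∈ C.subgroupOf (S : Subgroup G) ⊓ Subgroup.center ↥(S : Subgroup G) := pow_mem hx _
      refine ⟨((x ^ 3 ^ j : (S : Subgroup G)) : G), ?_, Subgroup.mem_subgroupOf.1 hy.1, ?_⟩
      · rw [Subgroup.orderOf_coe, orderOf_pow, hj, Nat.gcd_eq_right (pow_dvd_pow 3 (Nat.le_succ j)), pow_succ,
          Nat.mul_div_cancel_left _ (by positivity)]
      · exact congrArg Subtype.val (Subgroup.mem_center_iff.1 hy.2 ⟨d, hdS⟩)
  set A := Subgroup.closure ({d, e'} : Set G) with hAdef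
  haveI : IsMulCommutative A := Subgroup.isMulCommutative_closure (by
    rintro x (rfl | rfl) y (rfl | rfl)
    exacts [rfl, hde.eq, hde.symm.eq, rfl])
  have hA3 : ∀ a ∈ A, a ^ 3 = 1 ∧ ∃ i j : ℤ, a = d ^ i * e' ^ j := by
    intro a ha
    obtain ⟨i, j, hij⟩ : ∃ i j : ℤ, d ^ i * e' ^ j = a := by
      induction ha using Subgroup.closure_induction with
      | mem x hx =>
        rcases hx with rfl | rfl
        · exact ⟨1, 0, by simp⟩
        · exact ⟨0, 1, by simp⟩
      | one => exact ⟨0, 0, by simp⟩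
      | inv x _ hx =>
        obtain ⟨i, j, rfl⟩ := hx
        exact ⟨-i, -j, by rw [zpow_neg, zpow_neg, mul_inv_rev, ((hde.zpow_zpow i j).inv_inv).eq]⟩
      | mul x y _ _ hx hy =>
        obtain ⟨i, j, rfl⟩ := hx
        obtain ⟨k, l, rfl⟩ := hy
        exact ⟨i + k, j + l, by
          rw [zpow_add, zpow_add, mul_assoc (d ^ i) (e' ^ j), ← mul_assoc (e' ^ j), (hde.zpow_zpow k j).symm.eq]
          group⟩
    refine ⟨?_, i, j, hij.symm⟩
    rw [← hij, ((hde.zpow_zpow i j)).mul_pow, ← zpow_natCast, ← zpow_natCast, ← zpow_mul, ← zpow_mul, mul_comm i,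
      mul_comm j, zpow_mul, zpow_mul, zpow_natCast, zpow_natCast, ← hdo, pow_orderOf_eq_one, hdo, ← he'o,
      pow_orderOf_eq_one, one_zpow, one_zpow, one_mul]
  have hnc : ¬ IsCyclic A := fun hcyc => by
    obtain ⟨x, hx⟩ := hcyc.exists_generator
    have hx3 : orderOf (x : G) ∣ 3 := orderOf_dvd_of_pow_eq_one (hA3 x x.2).1
    have hdm : d ∈ A := Subgroup.subset_closure (by simp)
    have hem : e' ∈ A := Subgroup.subset_closure (by simp)
    have hzp : ∀ y ∈ A, y ∈ Subgroup.zpowers (x : G) := fun y hy => by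
      obtain ⟨i, hi⟩ := hx ⟨y, hy⟩
      exact ⟨i, congrArg Subtype.val hi⟩
    have hle : Subgroup.zpowers d = Subgroup.zpowers (x : G) := Subgroup.eq_of_le_of_card_ge
      (Subgroup.zpowers_le.2 (hzp d hdm)) (by
        rw [Nat.card_zpowers, Nat.card_zpowers, hdo]; exact Nat.le_of_dvd (by norm_num) hx3)
    obtain ⟨i, hi⟩ := hle ▸ hzp e' hem
    have hdC : d ∉ C := fun h => by
      obtain ⟨w, hw, hw1⟩ := (Subgroup.bot_or_exists_ne_one W).resolve_left hW1
      exact hw1 (hdfix w hw (Subgroup.mem_centralizer_iff.1 h w hw).symm)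
    apply hdC
    have h1 : Subgroup.zpowers e' = Subgroup.zpowers d := Subgroup.eq_of_le_of_card_ge
      (Subgroup.zpowers_le.2 ⟨i, hi⟩) (by rw [Nat.card_zpowers, Nat.card_zpowers, hdo, he'o])
    exact Subgroup.zpowers_le.2 he'C (h1.ge (Subgroup.mem_zpowers d))
  have hle := CfsgLib.Solv.le_of_noncyclic_centralizers (A := A) (K := P) (W := Subgroup.centralizer {e'}) hnc
    (by rw [Subgroup.normalizer_eq_top_iff.2 inferInstance]; exact le_top) ?_ ?_
  rotate_left
  · obtain ⟨k, hk⟩ := hPp.exists_card_eq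
    have hA3' : IsPGroup 3 A := fun x => ⟨1, Subtype.ext (by rw [pow_one]; exact (hA3 x x.2).1)⟩
    obtain ⟨l, hl⟩ := hA3'.exists_card_eq
    rw [hk, hl]
    exact Nat.Coprime.pow l k (by norm_num)
  · intro a ha ha1 x hx
    obtain ⟨-, i, j, rfl⟩ := hA3 a ha
    rcases eq_or_ne (d ^ i) 1 with hi | hi
    · rw [hi, one_mul] at hx ha1
      have hce : Commute x (e' ^ j) := Subgroup.mem_centralizer_singleton_iff.1 hx.2
      refine Subgroup.mem_centralizer_singleton_iff.2 ?_
      have hz : Subgroup.zpowers (e' ^ j) = Subgroup.zpowers e' := Subgroup.eq_of_le_of_card_ge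
        (Subgroup.zpowers_le.2 ⟨j, rfl⟩) (by
          rw [Nat.card_zpowers, Nat.card_zpowers, he'o]
          rcases (Nat.dvd_prime Nat.prime_three).1 (orderOf_dvd_of_pow_eq_one (hA3 _ (Subgroup.zpow_mem _ (Subgroup.subset_closure (by simp)) j)).1 : orderOf (e' ^ j) ∣ 3) with h | h
          · exact absurd (orderOf_eq_one_iff.1 h) ha1
          · rw [h])
      obtain ⟨l, hl⟩ := hz.ge (Subgroup.mem_zpowers e')
      rw [← hl]
      exact (hce.zpow_right l).eq
    · have h0 : P ⊓ Subgroup.centralizer {d ^ i * e' ^ j} = ⊥ := by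
        refine hfp _ fun w hw hcomm => hdfix w hw ?_
        have hew : Commute (e' ^ j) w :=
          (show Commute e' w from (Subgroup.mem_centralizer_iff.1 he'C w hw).symm).zpow_left j
        have hdi : Commute (d ^ i) w := by
          have h : Commute (d ^ i * e' ^ j) w := hcomm
          simpa using h.mul_left hew.inv_left
        have hz : Subgroup.zpowers (d ^ i) = Subgroup.zpowers d := Subgroup.eq_of_le_of_card_ge
          (Subgroup.zpowers_le.2 ⟨i, rfl⟩) (by
            rw [Nat.card_zpowers, Nat.card_zpowers, hdo]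
            rcases (Nat.dvd_prime Nat.prime_three).1 (orderOf_dvd_of_pow_eq_one (hA3 _ (Subgroup.zpow_mem _ (Subgroup.subset_closure (by simp)) i)).1 : orderOf (d ^ i) ∣ 3) with h | h
            · exact absurd (orderOf_eq_one_iff.1 h) hi
            · rw [h])
        obtain ⟨l, hl⟩ := hz.ge (Subgroup.mem_zpowers d)
        rw [← hl]
        exact (hdi.zpow_left l).eq
      rw [h0, Subgroup.mem_bot] at hx
      rw [hx]; exact one_mem _
  have : e' = 1 := hcP e' (Subgroup.mem_centralizer_iff.2 fun y hy =>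
    Subgroup.mem_centralizer_singleton_iff.1 (hle hy)) (by rw [he'o]; norm_num)
  rw [this, orderOf_one] at he'o
  exact absurd he'o (by norm_num)

end Cfsg.Agent.S3739
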