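import Cfsg.Statements.S3741
import Cfsg.Agent.Solv.Basic

set_option autoImplicit false
open Cfsg
open scoped commutatorElement

namespace Cfsg.Agent.S3741

theorem relIndex_le {G : Type*} [Group G] [Finite G] {p : ℕ} [hp : Fact p.Prime] (hG : IsPGroup p G)
    (A B : Subgroup G) (hcard : Nat.card ↥⁅A, B⁆ ≤ p) :
    (A ⊓ Subgroup.centralizer (B : Set G)).relIndex A ≤ (B ⊓ Subgroup.centralizer (A : Set G)).relIndex B := by
  classical
  set C := B ⊓ Subgroup.centralizer (A : Set G) with hC
  obtain ⟨K, -, hK⟩ := Finite.exists_le_maximal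
    (p := fun K : Subgroup G => K ≤ B ∧ ∃ s : Finset G, K = C ⊔ Subgroup.closure (s : Set G) ∧
      p ^ s.card * Nat.card C ≤ Nat.card K) (a := C)
    ⟨inf_le_left, ∅, by simp, by simp⟩
  obtain ⟨hKB, s, hKs, hKc⟩ := hK.1
  have hKeq : K = B := by
    by_contra hne
    obtain ⟨b, hb, hbK⟩ : ∃ b ∈ B, b ∉ K := SetLike.exists_of_lt (lt_of_le_of_ne hKB hne)
    set K' := C ⊔ Subgroup.closure ((insert b s : Finset G) : Set G) with hK'
    have hKK' : K ≤ K' := hKs.trans_le (sup_le_sup_left (Subgroup.closure_mono (by simp)) _)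
    have hbK' : b ∈ K' := Subgroup.mem_sup_right (Subgroup.subset_closure (by simp))
    have hK'B : K' ≤ B := sup_le inf_le_left ((Subgroup.closure_le B).2 fun x hx => by
      rcases Finset.mem_insert.1 (Finset.mem_coe.1 hx) with rfl | hxs
      · exact hb
      · exact hKB (hKs ▸ Subgroup.mem_sup_right (Subgroup.subset_closure hxs)))
    have hlt : K < K' := lt_of_le_of_ne hKK' fun e => hbK (e ▸ hbK')
    obtain ⟨i, hi⟩ := (hG.to_subgroup K).exists_card_eq
    obtain ⟨j, hj⟩ := (hG.to_subgroup K').exists_card_eq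
    have hij : i < j := by
      by_contra h
      exact hlt.ne (Subgroup.eq_of_le_of_card_ge hKK' (by rw [hi, hj]; exact Nat.pow_le_pow_right hp.out.pos (by omega)))
    have hbs : b ∉ s := fun h => hbK (hKs ▸ Subgroup.mem_sup_right (Subgroup.subset_closure h))
    have hP : p ^ (insert b s).card * Nat.card C ≤ Nat.card K' := by
      rw [Finset.card_insert_of_notMem hbs, pow_succ', mul_assoc]
      refine (Nat.mul_le_mul_left p hKc).trans ?_
      rw [hi, hj, ← pow_succ']
      exact Nat.pow_le_pow_right hp.out.pos hij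
    exact hlt.not_ge (hK.2 ⟨hK'B, insert b s, hK', hP⟩ hKK')
  subst hKeq
  have hs : ∀ x ∈ s, x ∈ K := fun x hx => hKs ▸ Subgroup.mem_sup_right (Subgroup.subset_closure hx)
  set D := (A ⊓ Subgroup.centralizer (K : Set G)).subgroupOf A with hD
  let f : ↥A ⧸ D → (↥s → ↥⁅A, K⁆) := fun q x =>
    ⟨⁅((Quotient.out q : A) : G), (x : G)⁆, Subgroup.commutator_mem_commutator (Quotient.out q : A).2 (hs _ x.2)⟩
  have hf : Function.Injective f := by
    intro q r hqr
    set a := (Quotient.out q : A)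
    set b := (Quotient.out r : A)
    have hKle : K ≤ Subgroup.centralizer ({(a : G)⁻¹ * b} : Set G) := by
      refine hKs.trans_le (sup_le (fun c hc => Subgroup.mem_centralizer_singleton_iff.2 ?_) ((Subgroup.closure_le _).2 fun x hx => ?_))
      · exact (Subgroup.mem_centralizer_iff.1 hc.2 _ (A.mul_mem (inv_mem a.2) b.2)).symm
      · have h1 : ⁅(a : G), x⁆ = ⁅(b : G), x⁆ := congrArg Subtype.val (congrFun hqr ⟨x, hx⟩)
        rw [commutatorElement_def, commutatorElement_def, mul_left_inj] at h1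
        refine Subgroup.mem_centralizer_singleton_iff.2 ?_
        calc x * ((a : G)⁻¹ * b) = (a : G)⁻¹ * ((a : G) * x * (a : G)⁻¹) * b := by group
          _ = _ := by rw [h1]; group
    have hab : a⁻¹ * b ∈ D := ⟨(a⁻¹ * b).2, Subgroup.mem_centralizer_iff.2 fun x hx =>
      Subgroup.mem_centralizer_singleton_iff.1 (hKle hx)⟩
    rw [← Quotient.out_eq q, ← Quotient.out_eq r]
    exact QuotientGroup.eq.2 hab
  have h1 : (A ⊓ Subgroup.centralizer (K : Set G)).relIndex A ≤ p ^ s.card := by
    refine (Nat.card_le_card_of_injective f hf).trans ?_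
    rw [Nat.card_fun, Nat.card_eq_fintype_card (α := ↥s), Fintype.card_coe]
    exact Nat.pow_le_pow_left hcard _
  refine h1.trans (Nat.le_of_mul_le_mul_right ?_ (Nat.card_pos (α := C)))
  exact hKc.trans_eq (by rw [← CfsgLib.Solv.relIndex_mul_card (inf_le_left : C ≤ K)]; ring)


/-- Let A and B be subgroups of a finite p-group with [A, B] ≤ A ∩ B and [A, B] of order at most p. Then |A : C_A(B)| = |B : C_B(A)|. -/
theorem result {G : Type*} [Group G] [Finite G] {p : ℕ} [Fact p.Prime] (hG : IsPGroup p G) (A B : Subgroup G) (hAB : ⁅A, B⁆ ≤ A ⊓ B) (hcard : Nat.card ↥⁅A, B⁆ ≤ p) : (A ⊓ Subgroup.centralizer (B : Set G)).relIndex A = (B ⊓ Subgroup.centralizer (A : Set G)).relIndex B := by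
  refine le_antisymm (relIndex_le hG A B hcard) (relIndex_le hG B A ?_)
  rwa [Subgroup.commutator_comm]

end Cfsg.Agent.S3741
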