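import Cfsg.Statements.S3742


set_option autoImplicit false
open Cfsg

namespace Cfsg.Agent.S3742


open QuaternionGroup

abbrev Q := QuaternionGroup 2

def f (u v : Q) : Q → Q
  | a i => u ^ i.val
  | xa i => v * u ^ i.val

def cond (u v : Q) : Prop := u ^ 2 = a 2 ∧ v ^ 2 = a 2 ∧ u ≠ v ∧ u ≠ v⁻¹

instance (u v : Q) : Decidable (cond u v) := by unfold cond; infer_instance

theorem f_mul : ∀ u v : Q, cond u v → ∀ x y : Q, f u v (x * y) = f u v x * f u v y := by
  decide +kernel

theorem f_bij : ∀ u v : Q, cond u v → ∀ y : Q, ∃ x, f u v x = y := by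
  decide +kernel

noncomputable def autOf (p : {p : Q × Q // cond p.1 p.2}) : MulAut Q :=
  MulEquiv.ofBijective (MonoidHom.mk' (f p.1.1 p.1.2) (f_mul _ _ p.2))
    (Finite.surjective_iff_bijective.1 (f_bij _ _ p.2))

theorem autOf_apply (p : {p : Q × Q // cond p.1 p.2}) (x : Q) :
    autOf p x = f p.1.1 p.1.2 x := rfl

theorem cond_of_aut (φ : MulAut Q) : cond (φ (a 1)) (φ (xa 0)) := by
  refine ⟨?_, ?_, ?_, ?_⟩
  · rw [← map_pow, show ((a 1 : Q) ^ 2) = a 2 from by decide]
    have : ∀ y : Q, y ^ 2 = 1 → y ≠ 1 → y = a 2 := by decide +kernel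
    refine this _ ?_ ?_
    · rw [← map_pow, show ((a 2 : Q) ^ 2) = 1 from by decide, map_one]
    · exact fun h => absurd (φ.injective (h.trans (map_one φ).symm)) (by decide)
  · rw [← map_pow, show ((xa 0 : Q) ^ 2) = a 2 from by decide]
    have : ∀ y : Q, y ^ 2 = 1 → y ≠ 1 → y = a 2 := by decide +kernel
    refine this _ ?_ ?_
    · rw [← map_pow, show ((a 2 : Q) ^ 2) = 1 from by decide, map_one]
    · exact fun h => absurd (φ.injective (h.trans (map_one φ).symm)) (by decide)
  · exact fun h => absurd (φ.injective h) (by decide)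
  · rw [← map_inv]
    exact fun h => absurd (φ.injective h) (by decide)

theorem eq_autOf (φ : MulAut Q) : φ = autOf ⟨(φ (a 1), φ (xa 0)), cond_of_aut φ⟩ := by
  ext x
  rw [autOf_apply]
  have ha : ∀ i : ZMod (2 * 2), (a i : Q) = a 1 ^ i.val := by decide
  have hx : ∀ i : ZMod (2 * 2), (xa i : Q) = xa 0 * a 1 ^ i.val := by decide
  cases x with
  | a i => conv_lhs => rw [ha i, map_pow]
           rfl
  | xa i => conv_lhs => rw [hx i, map_mul, map_pow]
            rfl

def isNeg : Q → Fin 3 → Bool
  | a i, 0 => i.val == 3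
  | xa i, 1 => i.val == 2
  | xa i, 2 => i.val == 3
  | _, _ => false

def code (p q r : Q) : Bool × Bool :=
  let P : Fin 3 → Bool := fun k => isNeg p k || isNeg q k || isNeg r k
  (xor (P 0) (P 1), xor (P 0) (P 2))

def g (φ : Q → Q) (d : Bool × Bool) : Bool × Bool :=
  code (φ (a 1)) (φ (if d.1 then xa 2 else xa 0)) (φ (if d.2 then xa 3 else xa 1))

theorem g_id : ∀ d, g id d = d := by decide +kernel

theorem g_comp : ∀ u v : Q, cond u v → ∀ u' v' : Q, cond u' v' → ∀ d,
    g (fun q => f u v (f u' v' q)) d = g (f u v) (g (f u' v') d) := by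
  decide +kernel

theorem g_faithful : ∀ u v : Q, cond u v →
    (∀ d, g (f u v) d = d) → u = a 1 ∧ v = xa 0 := by
  decide +kernel

theorem cond_card : (Finset.univ.filter fun p : Q × Q => cond p.1 p.2).card = 24 := by
  decide +kernel

theorem coe_eq (φ : MulAut Q) : (φ : Q → Q) = f (φ (a 1)) (φ (xa 0)) := by
  funext x
  conv_lhs => rw [eq_autOf φ]
  rfl

theorem g_mul (φ ψ : MulAut Q) (d : Bool × Bool) : g ((φ * ψ : MulAut Q) : Q → Q) d = g φ (g ψ d) := by
  have h := g_comp _ _ (cond_of_aut φ) _ _ (cond_of_aut ψ) d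
  rw [← coe_eq φ, ← coe_eq ψ] at h
  exact h

theorem g_one (d : Bool × Bool) : g (1 : MulAut Q) d = d := g_id d

def toPermHom : MulAut Q →* Equiv.Perm (Bool × Bool) where
  toFun φ :=
    { toFun := g φ
      invFun := g (φ⁻¹ : MulAut Q)
      left_inv := fun d => by rw [← g_mul, inv_mul_cancel, g_one]
      right_inv := fun d => by rw [← g_mul, mul_inv_cancel, g_one] }
  map_one' := by ext d : 1; exact g_one d
  map_mul' φ ψ := by ext d : 1; exact g_mul φ ψ d

theorem toPermHom_injective : Function.Injective toPermHom := by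
  rw [injective_iff_map_eq_one]
  intro φ hφ
  have h := g_faithful _ _ (cond_of_aut φ) fun d => by
    rw [← coe_eq φ]
    exact Equiv.congr_fun hφ d
  have h1 : cond (a 1) (xa 0) := by decide
  rw [eq_autOf φ, eq_autOf 1]
  congr 1
  exact Subtype.ext (Prod.ext h.1 h.2)


/-- The automorphism group of the quaternion group of order 8 is isomorphic to the symmetric group of degree 4. -/
theorem result : Nonempty (MulAut (QuaternionGroup 2) ≃* Equiv.Perm (Fin 4)) := by
  classical
  haveI : Finite (MulAut Q) := Finite.of_injective toPermHom toPermHom_injective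
  have hle : 24 ≤ Nat.card (MulAut Q) := by
    have hinj : Function.Injective autOf := by
      intro p q h
      have h1 := congrArg (fun φ : MulAut Q => φ (a 1)) h
      have h2 := congrArg (fun φ : MulAut Q => φ (xa 0)) h
      simp only [autOf_apply] at h1 h2
      have : ∀ u v : Q, f u v (a 1) = u ∧ f u v (xa 0) = v := by decide +kernel
      rw [(this _ _).1, (this _ _).1] at h1
      rw [(this _ _).2, (this _ _).2] at h2
      exact Subtype.ext (Prod.ext h1 h2)
    have := Nat.card_le_card_of_injective autOf hinj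
    rwa [Nat.card_eq_fintype_card, Fintype.card_subtype, cond_card] at this
  have hperm : Nat.card (Equiv.Perm (Bool × Bool)) = 24 := by
    rw [Nat.card_perm, Nat.card_eq_fintype_card]
    decide
  have hbij : Function.Bijective toPermHom :=
    toPermHom_injective.bijective_of_nat_card_le (by rw [hperm]; exact hle)
  exact ⟨(MulEquiv.ofBijective toPermHom hbij).trans
    (Fintype.equivFinOfCardEq (by decide : Fintype.card (Bool × Bool) = 4)).permCongrHom⟩

end Cfsg.Agent.S3742
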