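-- Statement S3744
import Cfsg.Statements.S3744
import Cfsg.Agent.Solv.Hall

set_option autoImplicit false
open Cfsg

namespace Cfsg.Agent.S3744

/-- A finite p-soluble group has a p-complement, all its p-complements are conjugate, and every subgroup of order prime to p lies in one of them. Here a p-complement is a subgroup of order prime to p whose index is a power of p. -/
theorem result {G : Type*} [Group G] [Finite G] {p : ℕ} [Fact p.Prime] (hG : Cfsg.IsPSolvable p G) : (∃ H : Subgroup G, (Nat.card H).Coprime p ∧ ∃ n : ℕ, H.index = p ^ n) ∧ (∀ H₁ H₂ : Subgroup G, (Nat.card H₁).Coprime p → (∃ n : ℕ, H₁.index = p ^ n) → (Nat.card H₂).Coprime p → (∃ n : ℕ, H₂.index = p ^ n) → ∃ g : G, H₂ = H₁.map (MulAut.conj g).toMonoidHom) ∧ (∀ U : Subgroup G, (Nat.card U).Coprime p → ∃ H : Subgroup G, (Nat.card H).Coprime p ∧ (∃ n : ℕ, H.index = p ^ n) ∧ ∃ g : G, U.map (MulAut.conj g).toMonoidHom ≤ H) := by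
  have hp : p.Prime := Fact.out
  have e1 : ∀ k : ℕ, k.Coprime p → CfsgLib.Solv.PiNat ({p}ᶜ : Set ℕ) k := by
    intro k hk r hr hd
    simp only [Set.mem_compl_iff, Set.mem_singleton_iff]
    rintro rfl
    exact hr.not_dvd_one (hk ▸ Nat.dvd_gcd hd dvd_rfl)
  have e1' : ∀ k : ℕ, CfsgLib.Solv.PiNat ({p}ᶜ : Set ℕ) k → k.Coprime p := by
    intro k hk
    exact ((hp.coprime_iff_not_dvd).2 fun hd => by simpa using hk p hp hd).symm
  have e2 : ∀ k : ℕ, (∃ n, k = p ^ n) → CfsgLib.Solv.PiNat ({p}ᶜᶜ : Set ℕ) k := by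
    rintro k ⟨n, rfl⟩
    exact CfsgLib.Solv.piNat_of_pow hp (by simp)
  have e2' : ∀ k : ℕ, k ≠ 0 → CfsgLib.Solv.PiNat ({p}ᶜᶜ : Set ℕ) k → ∃ n, k = p ^ n := by
    intro k hk0 hk
    exact ⟨_, Nat.eq_prime_pow_of_unique_prime_dvd hk0 fun hq hd => by simpa using hk _ hq hd⟩
  have hsep := CfsgLib.Solv.PiSolvable.of_isPSolvable hG
  refine ⟨?_, ?_, ?_⟩
  · obtain ⟨H, h1, h2⟩ := CfsgLib.Solv.exists_hall hsep
    exact ⟨H, e1' _ h1, e2' _ Subgroup.index_ne_zero_of_finite h2⟩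
  · intro H₁ H₂ a1 a2 b1 b2
    obtain ⟨g, hg⟩ := CfsgLib.Solv.hall_conj hsep (e1 _ a1) (e2 _ a2) (e1 _ b1) (e2 _ b2)
    exact ⟨g, hg.symm.trans (CfsgLib.Solv.conj_smul_eq_map g H₁)⟩
  · intro U hU
    obtain ⟨H, h1, h2, h3⟩ := CfsgLib.Solv.exists_hall_ge hsep (e1 _ hU)
    refine ⟨H, e1' _ h1, e2' _ Subgroup.index_ne_zero_of_finite h2, 1, ?_⟩
    intro x hx
    rw [CfsgLib.Solv.mem_map_conj_iff] at hx
    simpa using h3 hx

end Cfsg.Agent.S3744
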