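import Cfsg.Statements.S3747
import Cfsg.Agent.Inv.CharTwo
import Cfsg.Agent.Solv.CompLayer

set_option autoImplicit false
open Cfsg
open scoped commutatorElement

namespace Cfsg.Agent.S3747

/-- Let G be a finite group. (a) If K is a component of G with trivial centre, then the normal closure of K in G is a minimal normal subgroup of G. (b) If the Fitting subgroup of G is trivial, then the layer E(G) is generated by the minimal normal subgroups of G. -/
theorem result {G : Type*} [Group G] [Finite G] : (∀ K : Subgroup G, Cfsg.IsComponent K → Subgroup.center ↥K = ⊥ → (Subgroup.normalClosure (K : Set G) ≠ ⊥ ∧ ∀ N : Subgroup G, N.Normal → N ≤ Subgroup.normalClosure (K : Set G) → N = ⊥ ∨ N = Subgroup.normalClosure (K : Set G))) ∧ (Cfsg.fittingSubgroup G = ⊥ → sSup {N : Subgroup G | N ≠ ⊥ ∧ N.Normal ∧ ∀ N' : Subgroup G, N'.Normal → N' ≤ N → N' = ⊥ ∨ N' = N} = Cfsg.layer G) := by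
  classical
  have hconj : ∀ (K : Subgroup G) (g : G), K ≤ Subgroup.normalClosure (K : Set G) ∧
      K.map (MulAut.conj g).toMonoidHom ≤ Subgroup.normalClosure (K : Set G) := by
    intro K g
    refine ⟨Subgroup.le_normalClosure, ?_⟩
    rintro _ ⟨x, hx, rfl⟩
    exact Subgroup.normalClosure_normal.conj_mem x (Subgroup.le_normalClosure hx) g
  have partA : ∀ K : Subgroup G, Cfsg.IsComponent K → Subgroup.center ↥K = ⊥ →
      (Subgroup.normalClosure (K : Set G) ≠ ⊥ ∧ ∀ N : Subgroup G, N.Normal → N ≤ Subgroup.normalClosure (K : Set G) → N = ⊥ ∨ N = Subgroup.normalClosure (K : Set G)) := by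
    intro K hK hZK
    set M := Subgroup.normalClosure (K : Set G) with hM
    refine ⟨fun h => CfsgLib.Inv.component_ne_bot hK (le_bot_iff.1 (h ▸ (hconj K 1).1)), fun N hN hNM => ?_⟩
    haveI := hN
    by_cases hKN : K ≤ N
    · exact .inr (le_antisymm hNM (Subgroup.normalClosure_le_normal hKN))
    left
    -- `N` centralizes every conjugate of `K`
    have hMC : M ≤ Subgroup.centralizer (N : Set G) := by
      refine Subgroup.normalClosure_le_normal ?_
      exact Subgroup.commutator_eq_bot_iff_le_centralizer.1 ((CfsgLib.Inv.component_le_or_commute hK N).resolve_left hKN)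
    -- components inside `M` are conjugates of `K`
    have hcomp : ∀ L : Subgroup G, Cfsg.IsComponent L → L ≤ M → ∃ g : G, L = K.map (MulAut.conj g).toMonoidHom := by
      intro L hL hLM
      by_contra hno
      push Not at hno
      have : M ≤ Subgroup.centralizer (L : Set G) := by
        refine (Subgroup.closure_le _).2 fun y hy => ?_
        obtain ⟨x, hx, hxy⟩ := Group.mem_conjugatesOfSet_iff.1 hy
        obtain ⟨g, hg⟩ := isConj_iff.1 hxy
        exact Subgroup.commutator_eq_bot_iff_le_centralizer.1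
          (CfsgLib.Inv.components_commute (CfsgLib.Inv.isComponent_conj hK g) hL (fun e => hno g e.symm)) ⟨x, hx, hg⟩
      refine CfsgLib.Inv.quasisimple_center_ne_top hL.2 ((Subgroup.eq_top_iff' _).2 fun x =>
        Subgroup.mem_center_iff.2 fun y => Subtype.ext ?_)
      exact (Subgroup.mem_centralizer_iff.1 (this (hLM x.2)) y y.2)
    have hMlayer : (Cfsg.layer ↥M) = ⊤ := by
      rw [eq_top_iff, ← Subgroup.map_le_map_iff_of_injective M.subtype_injective, ← MonoidHom.range_eq_map, Subgroup.range_subtype]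
      refine (Subgroup.closure_le _).2 fun y hy => ?_
      obtain ⟨x, hx, hxy⟩ := Group.mem_conjugatesOfSet_iff.1 hy
      obtain ⟨g, hg⟩ := isConj_iff.1 hxy
      have hy' : y ∈ K.map (MulAut.conj g).toMonoidHom := ⟨x, hx, hg⟩
      exact ⟨⟨y, (hconj K g).2 hy'⟩, CfsgLib.Inv.component_le_layer
        (CfsgLib.Inv.isComponent_subgroupOf (CfsgLib.Inv.isComponent_conj hK g) (hconj K g).2) hy', rfl⟩
    haveI : M.Normal := Subgroup.normalClosure_normal
    have hZ : (Subgroup.center (Cfsg.layer ↥M)).map (Cfsg.layer ↥M).subtype = ⊥ := by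
      rw [CfsgLib.Solv.center_layer_eq_iSup, iSup_eq_bot]
      rintro ⟨L, hL⟩
      obtain ⟨g, hg⟩ := hcomp _ (CfsgLib.Inv.isComponent_map_subtype (inferInstance : M.Normal).isSubnormal hL) (Subgroup.map_subtype_le L)
      let e : ↥K ≃* ↥L := ((K.equivMapOfInjective (MulAut.conj g).toMonoidHom (MulAut.conj g).injective).trans
        (MulEquiv.subgroupCongr hg.symm)).trans (L.equivMapOfInjective _ M.subtype_injective).symm
      rw [← CfsgLib.Inv.center_map_mulEquiv e, hZK, Subgroup.map_bot, Subgroup.map_bot]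
    rw [eq_bot_iff]
    intro x hx
    have hxl : (⟨x, hNM hx⟩ : M) ∈ Cfsg.layer ↥M := hMlayer.symm ▸ Subgroup.mem_top _
    have hm : (⟨x, hNM hx⟩ : M) ∈ (Subgroup.center (Cfsg.layer ↥M)).map (Cfsg.layer ↥M).subtype :=
      ⟨⟨_, hxl⟩, Subgroup.mem_center_iff.2 fun y => Subtype.ext (Subtype.ext
        (Subgroup.mem_centralizer_iff.1 (hMC y.1.2) x hx).symm), rfl⟩
    rw [hZ, Subgroup.mem_bot] at hm
    exact congrArg Subtype.val hm
  refine ⟨partA, fun hF => le_antisymm (sSup_le ?_) (sSup_le fun K hK => ?_)⟩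
  · rintro N ⟨hN1, hN, hmin⟩
    haveI := hN
    have hlayn : (Cfsg.layer G).Normal := CfsgLib.Inv.layer_normal
    rcases hmin (Cfsg.layer G ⊓ N) inferInstance inf_le_right with h | h
    · exfalso
      have hc : N ≤ Subgroup.centralizer (Cfsg.layer G : Set G) := fun n hn => Subgroup.mem_centralizer_iff.2 fun l hl =>
        (Subgroup.commute_of_normal_of_disjoint _ _ hlayn hN (disjoint_iff.2 h) l n hl hn).eq
      have hgf : Cfsg.generalizedFittingSubgroup G = Cfsg.layer G := by
        rw [Cfsg.generalizedFittingSubgroup, hF, sup_bot_eq]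
      have h2 := (hgf ▸ CfsgLib.Inv.centralizer_genFitting_le (G := G) : Subgroup.centralizer (Cfsg.layer G : Set G) ≤ Cfsg.layer G)
      exact hN1 (by rw [eq_bot_iff, ← h]; exact le_inf (hc.trans h2) le_rfl)
    · rw [← h]; exact inf_le_left
  · have hZK : Subgroup.center ↥K = ⊥ := by
      have h := CfsgLib.Inv.subnormal_le_fitting ((inferInstance : (Subgroup.center ↥K).Normal).isSubnormal.trans' hK.1)
        (by
          haveI : IsMulCommutative ↥((Subgroup.center ↥K).map K.subtype) := ⟨⟨fun a b => Subtype.ext (by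
            obtain ⟨⟨a', ha'⟩, ha, hae⟩ := a.2
            obtain ⟨⟨b', hb'⟩, hb, hbe⟩ := b.2
            show (a : G) * b = b * a
            rw [← hae, ← hbe]
            exact congrArg Subtype.val (Subgroup.mem_center_iff.1 hb ⟨a', ha'⟩))⟩⟩
          letI : CommGroup ↥((Subgroup.center ↥K).map K.subtype) :=
            { (inferInstance : Group ↥((Subgroup.center ↥K).map K.subtype)) with mul_comm := mul_comm' }
          exact CommGroup.isNilpotent)
      rw [hF, le_bot_iff, Subgroup.map_eq_bot_iff_of_injective _ K.subtype_injective] at h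
      exact h
    obtain ⟨h1, h2⟩ := partA K hK hZK
    exact (hconj K 1).1.trans (le_sSup ⟨h1, Subgroup.normalClosure_normal, h2⟩)

end Cfsg.Agent.S3747
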