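import Cfsg.Statements.S3749
import Cfsg.Agent.Solv.CoprimeSylow

set_option autoImplicit false
open Cfsg

namespace Cfsg.Agent.S3749

/-- Call a proper subgroup M of G primitive when M = N_G(N) for every non-trivial normal subgroup N of M. Let M be a primitive subgroup of the finite group G, p a prime with O_p(M) ≠ 1, and N a normal subgroup of G with M ∩ N = 1. Then p does not divide the order of N; for every prime q there is exactly one Sylow q-subgroup of N normalized by M; and if the order of N has at least two prime divisors then M is not a maximal subgroup of G. -/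
theorem result {G : Type*} [Group G] [Finite G] (M : Subgroup G) (hM : M ≠ ⊤) (hprim : ∀ N : Subgroup G, N ≤ M → M ≤ Subgroup.normalizer (N : Set G) → N ≠ ⊥ → Subgroup.normalizer (N : Set G) = M) {p : ℕ} [Fact p.Prime] (hOp : Cfsg.pCore p ↥M ≠ ⊥) (N : Subgroup G) [N.Normal] (hMN : M ⊓ N = ⊥) : ¬ p ∣ Nat.card N ∧ (∀ q : ℕ, [Fact q.Prime] → ∃! Q : Sylow q ↥N, M ≤ Subgroup.normalizer ((Q : Subgroup ↥N).map N.subtype : Set G)) ∧ ((∃ q r : ℕ, q.Prime ∧ r.Prime ∧ q ≠ r ∧ q ∣ Nat.card N ∧ r ∣ Nat.card N) → ¬ IsCoatom M) := by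

  open scoped Pointwise in
  set R := (Cfsg.pCore p ↥M).map M.subtype with hR
  have hRp : IsPGroup p R := (CfsgLib.Solv.pCore_isPGroup ↥M p).map _
  have hRne : R ≠ ⊥ := fun h => hOp ((Subgroup.map_eq_bot_iff_of_injective _ M.subtype_injective).1 h)
  have hRM : R ≤ M := Subgroup.map_subtype_le _
  have hRn : M ≤ Subgroup.normalizer (R : Set G) := fun m hm => Subgroup.mem_normalizer_fintype fun x hx => by
    obtain ⟨x', hx', rfl⟩ := hx
    exact ⟨⟨m, hm⟩ * x' * ⟨m, hm⟩⁻¹, (CfsgLib.Solv.pCore_normal ↥M p).conj_mem _ hx' _, rfl⟩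
  have hN := hprim R hRM hRn hRne
  have hC : ∀ x ∈ N, x ∈ Subgroup.centralizer (R : Set G) → x = 1 := fun x hx hc => by
    have h1 : x ∈ M := hN ▸ Subgroup.mem_normalizer_fintype fun t ht => by
      rwa [← Subgroup.mem_centralizer_iff.1 hc t ht, mul_inv_cancel_right]
    have : x ∈ M ⊓ N := ⟨h1, hx⟩
    rwa [hMN, Subgroup.mem_bot] at this
  have hpN : ¬ p ∣ Nat.card N := by
    intro hdvd
    haveI := Fintype.ofFinite G
    obtain ⟨r, hr⟩ := IsPGroup.iff_card.1 hRp
    have hRN : R ≤ Subgroup.normalizer (N : Set G) := by rw [Subgroup.normalizer_eq_top]; exact le_top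
    letI : MulAction R N := MulAction.compHom N ((MulAut.conjNormal (H := N)).comp R.subtype)
    have h2 := hRp.card_modEq_card_fixedPoints (α := N)
    have h3 : MulAction.fixedPoints R N = {(1 : N)} := by
      refine Set.eq_singleton_iff_unique_mem.2 ⟨fun a => show MulAut.conjNormal (a : G) (1 : N) = 1 from map_one _, fun x hx => ?_⟩
      refine Subtype.ext (hC _ x.2 (Subgroup.mem_centralizer_iff.2 fun t ht => ?_))
      have h4 : t * (x : G) * t⁻¹ = x := by
        have := congrArg Subtype.val (hx ⟨t, ht⟩)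
        exact (MulAut.conjNormal_apply t x).symm.trans this
      exact mul_inv_eq_iff_eq_mul.1 h4
    rw [h3, Nat.card_coe_set_eq, Set.ncard_singleton] at h2
    have h5 : Nat.ModEq p (Nat.card N) 0 := Nat.modEq_zero_iff_dvd.2 hdvd
    have h6 := Nat.modEq_zero_iff_dvd.1 (h2.symm.trans h5)
    exact (Fact.out : p.Prime).one_lt.ne' (Nat.dvd_one.1 h6)
  have hRNn : R ≤ Subgroup.normalizer (N : Set G) := by rw [Subgroup.normalizer_eq_top]; exact le_top
  have hcop : (Nat.card R).Coprime (Nat.card N) := by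
    obtain ⟨r, hr⟩ := IsPGroup.iff_card.1 hRp
    rw [hr]
    exact ((Fact.out : p.Prime).coprime_iff_not_dvd.2 hpN).pow_left r
  haveI := hRp.isNilpotent
  have huniq : ∀ q : ℕ, [Fact q.Prime] → ∃! Q : Sylow q ↥N, M ≤ Subgroup.normalizer ((Q : Subgroup ↥N).map N.subtype : Set G) := by
    intro q _
    obtain ⟨Q, hQ⟩ := CfsgLib.Solv.exists_invariant_sylow (p := q) hRNn hcop (Or.inl inferInstance)
    have hu : ∀ Q' : Sylow q N, R ≤ Subgroup.normalizer ((Q' : Subgroup ↥N).map N.subtype : Set G) → Q' = Q := by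
      intro Q' hQ'
      obtain ⟨c, hc, he⟩ := CfsgLib.Solv.invariant_sylow_conj hRNn hcop (Or.inl inferInstance) Q Q' hQ hQ'
      rw [show c = 1 from Subtype.ext (hC c c.2 hc), one_smul] at he
      exact he.symm
    refine ⟨Q, fun m hm => Subgroup.mem_normalizer_fintype fun x hx => ?_, fun Q' hQ' => hu Q' (hRM.trans hQ')⟩
    obtain ⟨z, hz, rfl⟩ := hx
    let φ : N ≃* N := MulAut.conjNormal m
    have hQ' : R ≤ Subgroup.normalizer (((Q.mapSurjective (f := φ.toMonoidHom) φ.surjective : Sylow q N) :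
        Subgroup N).map N.subtype : Set G) := by
      intro t ht
      refine Subgroup.mem_normalizer_fintype fun y hy => ?_
      obtain ⟨y', ⟨w, hw, rfl⟩, rfl⟩ := hy
      have ht' : m⁻¹ * t * m ∈ R := by
        have := (Subgroup.mem_normalizer_iff.1 (inv_mem (hRn hm)) t).1 ht
        rwa [inv_inv] at this
      have h1 : (m⁻¹ * t * m) * (w : G) * (m⁻¹ * t * m)⁻¹ ∈ ((Q : Subgroup N).map N.subtype) :=
        (Subgroup.mem_normalizer_iff.1 (hQ ht') _).1 ⟨w, hw, rfl⟩
      obtain ⟨v, hv, hve⟩ := h1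
      refine ⟨φ v, ⟨v, hv, rfl⟩, ?_⟩
      show m * (v : G) * m⁻¹ = t * (m * (w : G) * m⁻¹) * t⁻¹
      rw [show (v : G) = (m⁻¹ * t * m) * (w : G) * (m⁻¹ * t * m)⁻¹ from hve]
      group
    rw [show Q = Q.mapSurjective (f := φ.toMonoidHom) φ.surjective from (hu _ hQ').symm]
    exact ⟨φ z, ⟨z, hz, rfl⟩, MulAut.conjNormal_apply m z⟩
  refine ⟨hpN, huniq, ?_⟩
  rintro ⟨q, r, hq, hr, hqr, hqN, hrN⟩ hmax
  haveI := Fact.mk hq
  obtain ⟨Q, hQ, -⟩ := huniq q
  set Q₁ := (Q : Subgroup ↥N).map N.subtype with hQ₁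
  have hQN : Q₁ ≤ N := Subgroup.map_subtype_le _
  have hQne : Q₁ ≠ ⊥ := fun h => Q.ne_bot_of_dvd_card hqN ((Subgroup.map_eq_bot_iff_of_injective _ N.subtype_injective).1 h)
  have hlt : M < M ⊔ Q₁ := lt_of_le_of_ne le_sup_left fun h => hQne (le_bot_iff.1
    (hMN ▸ le_inf (h.symm ▸ le_sup_right) hQN))
  have htop := hmax.2 _ hlt
  have h1 := Subgroup.coe_mul_of_left_le_normalizer_right M Q₁ hQ
  rw [htop, Subgroup.coe_top] at h1
  have h7 : (N : Set G) ⊆ (Q₁ : Set G) := fun x hx => by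
    obtain ⟨m, hm, y, hy, e⟩ := (h1 ▸ Set.mem_univ x : x ∈ (M : Set G) * (Q₁ : Set G))
    have hmN : m ∈ M ⊓ N := ⟨hm, by
      rw [show m = x * y⁻¹ from eq_mul_inv_of_mul_eq e]; exact N.mul_mem hx (N.inv_mem (hQN hy))⟩
    rw [hMN, Subgroup.mem_bot] at hmN
    rw [← e, hmN]; simpa using hy
  have h8 : r ∣ Nat.card Q₁ := hrN.trans (Subgroup.card_dvd_of_le h7)
  obtain ⟨n, hn⟩ := IsPGroup.iff_card.1 ((Q.isPGroup').map N.subtype)
  exact hqr ((Nat.prime_dvd_prime_iff_eq hr hq).1 (hr.dvd_of_dvd_pow (hn ▸ h8))).symm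

end Cfsg.Agent.S3749
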