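import Cfsg.Statements.S3750
import Cfsg.Agent.Solv.PrimitiveSubgroup
import Cfsg.Agent.Solv.CompBasic

set_option autoImplicit false
open Cfsg

namespace Cfsg.Agent.S3750

/-- Call a proper subgroup M of G primitive when M = N_G(N) for every non-trivial normal subgroup N of M. Let M be a primitive subgroup of the finite group G and N a normal subgroup of G with M ∩ F*(N) ≠ 1. Then F(G) = 1 and F*(N) = F*(G) = E(G); in particular every minimal normal subgroup of G is contained in N. -/
theorem result {G : Type*} [Group G] [Finite G] (M : Subgroup G) (hM : M ≠ ⊤) (hprim : ∀ N : Subgroup G, N ≤ M → M ≤ Subgroup.normalizer (N : Set G) → N ≠ ⊥ → Subgroup.normalizer (N : Set G) = M) (N : Subgroup G) [N.Normal] (hMF : M ⊓ (Cfsg.generalizedFittingSubgroup ↥N).map N.subtype ≠ ⊥) : Cfsg.fittingSubgroup G = ⊥ ∧ (Cfsg.generalizedFittingSubgroup ↥N).map N.subtype = Cfsg.generalizedFittingSubgroup G ∧ Cfsg.generalizedFittingSubgroup G = Cfsg.layer G ∧ ∀ K : Subgroup G, K.Normal → K ≠ ⊥ → (∀ K' : Subgroup G, K'.Normal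 → K' ≤ K → K' = ⊥ ∨ K' = K) → K ≤ N := by

  haveI hFn : (Cfsg.fittingSubgroup G).Normal := CfsgLib.Solv.fittingSubgroup_normal G
  haveI hSn : (Cfsg.generalizedFittingSubgroup G).Normal := CfsgLib.Inv.genFitting_normal
  haveI hEn : (Cfsg.layer G).Normal := CfsgLib.Inv.layer_normal
  rw [← CfsgLib.Solv.genFitting_inf_normal N] at hMF
  set R := M ⊓ (Cfsg.generalizedFittingSubgroup G ⊓ N) with hR
  have hRn : M ≤ Subgroup.normalizer (R : Set G) :=
    CfsgLib.Solv.le_normalizer_inf_of_le Subgroup.le_normalizer (by rw [Subgroup.normalizer_eq_top]; exact le_top)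
  have hN := hprim R inf_le_left hRn hMF
  have hC : Subgroup.centralizer (R : Set G) ≤ M := fun x hx => hN ▸ Subgroup.mem_normalizer_fintype fun t ht => by
    rwa [← Subgroup.mem_centralizer_iff.1 hx t ht, mul_inv_cancel_right]
  have hF : Cfsg.fittingSubgroup G = ⊥ := by
    by_contra hne
    haveI := CfsgLib.Inv.fitting_nilpotent (G := G)
    haveI : Nontrivial (Cfsg.fittingSubgroup G) := (Subgroup.nontrivial_iff_ne_bot _).2 hne
    haveI : Nontrivial (Subgroup.center (Cfsg.fittingSubgroup G)) :=
      (Subgroup.nontrivial_iff_ne_bot _).2 (Group.IsNilpotent.center_ne_bot (Cfsg.fittingSubgroup G))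
    obtain ⟨z, hz⟩ := exists_ne (1 : Subgroup.center (Cfsg.fittingSubgroup G))
    set w : G := ((z : Cfsg.fittingSubgroup G) : G) with hw
    have hwF : w ∈ Cfsg.fittingSubgroup G := (z : Cfsg.fittingSubgroup G).2
    have h1 : Cfsg.generalizedFittingSubgroup G ≤ Subgroup.centralizer {w} := by
      refine sup_le ?_ ?_
      · intro e he
        rw [Subgroup.mem_centralizer_singleton_iff]
        exact ((Subgroup.mem_centralizer_iff.1 ((Subgroup.commutator_eq_bot_iff_le_centralizer.1
          CfsgLib.Inv.layer_commute_fitting) he)) w hwF).symm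
      · intro e he
        rw [Subgroup.mem_centralizer_singleton_iff]
        exact congrArg Subtype.val (Subgroup.mem_center_iff.1 z.2 ⟨e, he⟩)
    have h2 : w ∈ M ⊓ Cfsg.fittingSubgroup G := ⟨hC (Subgroup.mem_centralizer_iff.2 fun r hr =>
      Subgroup.mem_centralizer_singleton_iff.1 (h1 hr.2.1)), hwF⟩
    rw [CfsgLib.Solv.Prim.inf_fitting_eq_bot hM hprim, Subgroup.mem_bot] at h2
    exact hz (Subtype.ext (Subtype.ext h2))
  have hS : Cfsg.generalizedFittingSubgroup G = Cfsg.layer G := by
    rw [Cfsg.generalizedFittingSubgroup, hF, sup_bot_eq]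
  have hEN : Cfsg.layer G ≤ N := sSup_le fun K hK => by
    rcases CfsgLib.Inv.component_le_or_commute hK N with h | h
    · exact h
    exfalso
    refine CfsgLib.Inv.component_ne_bot hK (CfsgLib.Solv.Prim.subnormal_le_eq_bot hM hprim hK.1 ?_)
    exact ((Subgroup.commutator_eq_bot_iff_le_centralizer.1 h).trans
      (Subgroup.centralizer_le fun r hr => hr.2.2)).trans hC
  refine ⟨hF, ?_, hS, fun K hK hne hmin => ?_⟩
  · rw [← CfsgLib.Solv.genFitting_inf_normal N]
    exact inf_eq_left.2 (hS ▸ hEN)
  · haveI := hK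
    rcases hmin (K ⊓ Cfsg.layer G) inferInstance inf_le_left with h | h
    · refine absurd ?_ hne
      have h1 : K ≤ Subgroup.centralizer (Cfsg.generalizedFittingSubgroup G : Set G) := by
        rw [← Subgroup.commutator_eq_bot_iff_le_centralizer, hS, ← le_bot_iff, ← h]
        exact Subgroup.commutator_le_inf K (Cfsg.layer G)
      rw [← h]
      exact (inf_eq_left.2 (hS ▸ h1.trans CfsgLib.Inv.centralizer_genFitting_le)).symm
    · exact (h ▸ inf_le_right : K ≤ Cfsg.layer G).trans hEN

end Cfsg.Agent.S3750
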