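import Cfsg.Statements.S3751
import Cfsg.Agent.Solv.CoprimeSylow
import Cfsg.Agent.Solv.Basic

set_option autoImplicit false
open Cfsg

namespace Cfsg.Agent.S3751


open scoped commutatorElement Pointwise


/-- Two distinct subgroups M₁, M₂ of G form a primitive pair when, for {i, j} = {1, 2}, every non-trivial normal subgroup A of M_i contained in M₁ ∩ M₂ satisfies N_{M_j}(A) = M₁ ∩ M₂; the pair has characteristic p when moreover C_{M_i}(O_p(M_i)) ≤ O_p(M_i) for both i and O_p(M₁)O_p(M₂) ≤ M₁ ∩ M₂. Let G be a finite group, p a prime dividing its order, with O_p(G) = 1 and every p-local subgroup of characteristic p. Then either G has a primitive pair of characteristic p, or every maximal p-local subgroup M of G is strongly p-embedded in G: M is a proper subgroup, p divides its order, and for every g ∉ M the order of M ∩ gMg⁻¹ is prime to p. -/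
theorem result {G : Type*} [Group G] [Finite G] {p : ℕ} [Fact p.Prime] (hloc : Cfsg.IsOfLocalCharacteristic p G) (hOp : Cfsg.pCore p G = ⊥) : (∃ M₁ M₂ : Subgroup G, M₁ ≠ M₂ ∧ (∀ A : Subgroup G, A ≠ ⊥ → A ≤ M₁ ⊓ M₂ → (M₁ ≤ Subgroup.normalizer (A : Set G) → M₂ ⊓ Subgroup.normalizer (A : Set G) = M₁ ⊓ M₂) ∧ (M₂ ≤ Subgroup.normalizer (A : Set G) → M₁ ⊓ Subgroup.normalizer (A : Set G) = M₁ ⊓ M₂)) ∧ Subgroup.centralizer (Cfsg.pCore p ↥M₁ : Set ↥M₁) ≤ Cfsg.pCore p ↥M₁ ∧ Subgroup.centralizer (Cfsg.pCore p ↥M₂ : Set ↥M₂) ≤ Cfsg.pCore p ↥M₂ ∧ (Cfsg.pCore p ↥M₁).map M₁.subtype ⊔ (Cfsg.pCore p ↥M₂).map M₂.subtype ≤ M₁ ⊓ M₂) ∨ (∀ M : Subgroup G, (∃ T : Subgroup G, IsPGroup p T ∧ T ≠ ⊥ ∧ M = Subgroup.normalizer (T : Set G)) → (∀ L : Subgroup G, (∃ T : Subgroup G, IsPGroup p T ∧ T ≠ ⊥ ∧ L = Subgroup.normalizer (T : Set G)) → M ≤ L → L = M) → M ≠ ⊤ ∧ p ∣ Nat.card M ∧ ∀ g : G, g ∉ M → ¬ p ∣ Nat.card ↥(M ⊓ M.map (MulAut.conj g).toMonoidHom)) :=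 by

  classical
  open CfsgLib.Solv in
  have hp := (Fact.out : p.Prime)
  by_cases hemb : ∀ M : Subgroup G, (∃ T : Subgroup G, IsPGroup p T ∧ T ≠ ⊥ ∧ M = Subgroup.normalizer (T : Set G)) →
      (∀ L : Subgroup G, (∃ T : Subgroup G, IsPGroup p T ∧ T ≠ ⊥ ∧ L = Subgroup.normalizer (T : Set G)) → M ≤ L → L = M) →
      M ≠ ⊤ ∧ p ∣ Nat.card M ∧ ∀ g : G, g ∉ M → ¬ p ∣ Nat.card ↥(M ⊓ M.map (MulAut.conj g).toMonoidHom)
  · exact Or.inr hemb
  refine Or.inl ?_
  let Loc : Subgroup G → Prop := fun M => ∃ T : Subgroup G, IsPGroup p T ∧ T ≠ ⊥ ∧ M = Subgroup.normalizer (T : Set G)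
  let Max : Subgroup G → Prop := fun M => Loc M ∧ ∀ L, Loc L → M ≤ L → L = M
  let R : Subgroup G → Subgroup G := fun M => (Cfsg.pCore p ↥M).map M.subtype
  have hRp : ∀ M, IsPGroup p (R M) := fun M => (CfsgLib.Solv.pCore_isPGroup ↥M p).map _
  have hRM : ∀ M, R M ≤ M := fun M => Subgroup.map_subtype_le _
  have hRn : ∀ M, M ≤ Subgroup.normalizer (R M : Set G) := fun M m hm => Subgroup.mem_normalizer_fintype fun x hx => by
    obtain ⟨x', hx', rfl⟩ := hx
    exact ⟨⟨m, hm⟩ * x' * ⟨m, hm⟩⁻¹, (CfsgLib.Solv.pCore_normal ↥M p).conj_mem _ hx' _, rfl⟩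
  have hsub : ∀ {M T : Subgroup G}, T ≤ M → M ≤ Subgroup.normalizer (T : Set G) → IsPGroup p T → T ≤ R M := by
    intro M T hT hn hTp x hx
    haveI : (T.subgroupOf M).Normal := Subgroup.normal_subgroupOf_of_le_normalizer hn
    exact ⟨⟨x, hT hx⟩, le_pCore (N := T.subgroupOf M) (hTp.comap_of_injective _ M.subtype_injective) hx, rfl⟩
  have hRne : ∀ M, Loc M → R M ≠ ⊥ := by
    rintro M ⟨T, hT, hne, rfl⟩ e
    exact hne (le_bot_iff.1 (e ▸ hsub Subgroup.le_normalizer le_rfl hT))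
  have hNtop : ∀ T : Subgroup G, IsPGroup p T → T ≠ ⊥ → Subgroup.normalizer (T : Set G) ≠ ⊤ := by
    intro T hT hne e
    haveI : T.Normal := Subgroup.normalizer_eq_top_iff.1 e
    exact hne (le_bot_iff.1 (hOp ▸ le_pCore hT))
  have hchar : ∀ M, Loc M → Subgroup.centralizer (Cfsg.pCore p ↥M : Set ↥M) ≤ Cfsg.pCore p ↥M := by
    rintro M ⟨T, hT, hne, rfl⟩
    exact hloc.2 T hT hne
  have hNR : ∀ M, Max M → Subgroup.normalizer (R M : Set G) = M := fun M hM =>
    hM.2 _ ⟨R M, hRp M, hRne M hM.1, rfl⟩ (hRn M)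
  -- any two maximal local subgroups are primitive
  have hprim : ∀ M L, Max M → ∀ A : Subgroup G, A ≠ ⊥ → A ≤ M ⊓ L → M ≤ Subgroup.normalizer (A : Set G) →
      L ⊓ Subgroup.normalizer (A : Set G) = M ⊓ L := by
    intro M L hM A hA hAle hn
    refine le_antisymm ?_ (le_inf inf_le_right (inf_le_left.trans hn))
    refine le_inf ?_ inf_le_left
    set A₀ := A ⊓ R M with hA0
    have hA0ne : A₀ ≠ ⊥ := by
      intro e
      refine hA (le_bot_iff.1 (e ▸ le_inf le_rfl ?_))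
      intro a ha
      have haM : a ∈ M := (hAle ha).1
      refine ⟨⟨a, haM⟩, hchar M hM.1 (Subgroup.mem_centralizer_iff.2 fun r hr => Subtype.ext ?_), rfl⟩
      show (r : G) * a = a * r
      rw [← commutatorElement_eq_one_iff_mul_comm, ← Subgroup.mem_bot, ← e]
      refine ⟨?_, ?_⟩
      · rw [show ⁅(r : G), a⁆ = (r : G) * a * (r : G)⁻¹ * a⁻¹ from commutatorElement_def _ _]
        exact A.mul_mem ((Subgroup.mem_normalizer_iff.1 (hn r.2) a).1 ha) (A.inv_mem ha)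
      · rw [show ⁅(r : G), a⁆ = (r : G) * (a * (r : G)⁻¹ * a⁻¹) by rw [commutatorElement_def]; group]
        exact (R M).mul_mem ⟨r, hr, rfl⟩ ((Subgroup.mem_normalizer_iff.1 (hRn M haM) _).1 ((R M).inv_mem ⟨r, hr, rfl⟩))
    have hAM : A ≤ M := hAle.trans inf_le_left
    have h0p : IsPGroup p A₀ := (hRp M).to_le inf_le_right
    have h0R : A₀ ≤ R A := hsub inf_le_left
      (le_normalizer_inf_of_le Subgroup.le_normalizer (hAM.trans (hRn M))) h0p
    have hNA : Subgroup.normalizer (A : Set G) ≤ Subgroup.normalizer (R A : Set G) := by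
      intro x hx
      refine Subgroup.mem_normalizer_fintype fun y hy => ?_
      have hT : MulAut.conj x • R A ≤ R A := by
        refine hsub ?_ ?_ ?_
        · exact (Subgroup.pointwise_smul_le_pointwise_smul_iff.2 (hRM A)).trans
            (conj_smul_eq_self_of_mem_normalizer hx).le
        · intro a ha
          refine Subgroup.mem_normalizer_fintype fun z hz => ?_
          rw [SetLike.mem_coe, mem_conj_smul_iff] at hz ⊢
          have ha' : x⁻¹ * a * x ∈ A := by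
            have := (Subgroup.mem_normalizer_iff.1 (inv_mem hx) a).1 ha
            rwa [inv_inv] at this
          have := (Subgroup.mem_normalizer_iff.1 (hRn A ha') _).1 hz
          rwa [show x⁻¹ * a * x * (x⁻¹ * z * x) * (x⁻¹ * a * x)⁻¹ = x⁻¹ * (a * z * a⁻¹) * x by group] at this
        · refine IsPGroup.of_card (n := (Nat.card (R A)).factorization p) ?_
          obtain ⟨k, hk⟩ := IsPGroup.iff_card.1 (hRp A)
          rw [card_conj_smul, hk, hp.factorization_pow, Finsupp.single_eq_same]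
      exact hT (mem_conj_smul_iff.2 (by simpa [mul_assoc] using hy))
    have hRAne : R A ≠ ⊥ := fun e => hA0ne (le_bot_iff.1 (e ▸ h0R))
    have := hM.2 _ ⟨R A, hRp A, hRAne, rfl⟩ (hn.trans hNA)
    exact inf_le_right.trans (this ▸ hNA)
  -- distinct maximal local subgroups with intersection of order divisible by `p`
  let S : Set (Subgroup G × Subgroup G) := {q | Max q.1 ∧ Max q.2 ∧ q.1 ≠ q.2 ∧ p ∣ Nat.card ↥(q.1 ⊓ q.2)}
  have hS : S.Nonempty := by
    push Not at hemb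
    obtain ⟨M, hM1, hM2, hbad⟩ := hemb
    have hM : Max M := ⟨hM1, hM2⟩
    obtain ⟨T, hT, hne, hMT⟩ := hM1
    obtain ⟨g, hg, hdvd⟩ := hbad (hMT ▸ hNtop T hT hne) (by
      obtain ⟨k, hk⟩ := IsPGroup.iff_card.1 hT
      have hk0 : k ≠ 0 := fun e => hne (Subgroup.card_eq_one.1 (by rw [hk, e, pow_zero]))
      exact ((dvd_pow_self p hk0).trans hk.symm.dvd).trans (Subgroup.card_dvd_of_le (hMT ▸ Subgroup.le_normalizer)))
    have hL : Max (M.map (MulAut.conj g).toMonoidHom) := by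
      refine ⟨⟨T.map (MulAut.conj g).toMonoidHom, hT.map _, fun e => hne ((Subgroup.map_eq_bot_iff_of_injective _ (MulAut.conj g).injective).1 e),
        by rw [hMT]; exact (Subgroup.map_equiv_normalizer_eq T (MulAut.conj g))⟩, ?_⟩
      rintro L ⟨T', hT', hne', rfl⟩ hle
      have h1 := hM.2 ((Subgroup.normalizer (T' : Set G)).map (MulAut.conj g).symm.toMonoidHom)
        ⟨T'.map (MulAut.conj g).symm.toMonoidHom, hT'.map _,
          fun e => hne' ((Subgroup.map_eq_bot_iff_of_injective _ (MulAut.conj g).symm.injective).1 e),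
          Subgroup.map_equiv_normalizer_eq T' _⟩ (by
          rintro x hx
          exact ⟨(MulAut.conj g) x, hle ⟨x, hx, rfl⟩, (MulAut.conj g).symm_apply_apply x⟩)
      rw [← h1, Subgroup.map_map]
      ext x
      constructor
      · intro hx; exact ⟨x, hx, (MulAut.conj g).apply_symm_apply x⟩
      · rintro ⟨y, hy, rfl⟩
        show (MulAut.conj g) ((MulAut.conj g).symm y) ∈ _
        rw [MulEquiv.apply_symm_apply]; exact hy
    refine ⟨(M, M.map (MulAut.conj g).toMonoidHom), hM, hL, fun e => hg ?_, hdvd⟩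
    have e' : M = M.map (MulAut.conj g).toMonoidHom := e
    rw [← hNR M hM]
    refine mem_normalizer_of_conj_smul_eq (Subgroup.eq_of_le_of_card_ge (hsub ?_ ?_ ?_) (by rw [card_conj_smul]))
    · rw [conj_smul_eq_map]; exact (Subgroup.map_mono (hRM M)).trans e'.ge
    · intro m hm
      rw [conj_smul_eq_map, show (Subgroup.normalizer ((R M).map (MulAut.conj g).toMonoidHom : Set G)) =
        (Subgroup.normalizer (R M : Set G)).map (MulAut.conj g).toMonoidHom from (Subgroup.map_equiv_normalizer_eq _ _).symm, hNR M hM]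
      exact e'.le hm
    · rw [conj_smul_eq_map]; exact (hRp M).map _
  obtain ⟨⟨M, L⟩, ⟨hM, hL, hne, hdvd⟩, hmax⟩ := (Set.toFinite S).exists_maximalFor
    (fun q : Subgroup G × Subgroup G => (Nat.card ↥(q.1 ⊓ q.2)).factorization p) _ hS
  have hmk : ∀ M L, Max M → Max L → M ≠ L → R M ≤ L → R L ≤ M → ∃ M₁ M₂ : Subgroup G, M₁ ≠ M₂ ∧
      (∀ A : Subgroup G, A ≠ ⊥ → A ≤ M₁ ⊓ M₂ → (M₁ ≤ Subgroup.normalizer (A : Set G) → M₂ ⊓ Subgroup.normalizer (A : Set G) = M₁ ⊓ M₂) ∧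
        (M₂ ≤ Subgroup.normalizer (A : Set G) → M₁ ⊓ Subgroup.normalizer (A : Set G) = M₁ ⊓ M₂)) ∧
      Subgroup.centralizer (Cfsg.pCore p ↥M₁ : Set ↥M₁) ≤ Cfsg.pCore p ↥M₁ ∧
      Subgroup.centralizer (Cfsg.pCore p ↥M₂ : Set ↥M₂) ≤ Cfsg.pCore p ↥M₂ ∧
      R M₁ ⊔ R M₂ ≤ M₁ ⊓ M₂ := fun M L hM hL hne h1 h2 =>
    ⟨M, L, hne, fun A hA hle => ⟨fun h => hprim M L hM A hA hle h,
      fun h => by rw [inf_comm M L]; exact hprim L M hL A hA (inf_comm M L ▸ hle) h⟩,
      hchar M hM.1, hchar L hL.1, sup_le (le_inf (hRM M) h1) (le_inf h2 (hRM L))⟩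
  obtain ⟨P⟩ : Nonempty (Sylow p ↥(M ⊓ L)) := inferInstance
  set T := (P : Subgroup ↥(M ⊓ L)).map (M ⊓ L).subtype with hT
  have hTp : IsPGroup p T := P.isPGroup'.map _
  have hTc : Nat.card T = p ^ (Nat.card ↥(M ⊓ L)).factorization p := by
    rw [hT, card_map_subtype, P.card_eq_multiplicity]
  have hTle : T ≤ M ⊓ L := Subgroup.map_subtype_le _
  have hTne : T ≠ ⊥ := fun e => by
    have h1 : 1 ≤ (Nat.card ↥(M ⊓ L)).factorization p :=
      (hp.dvd_iff_one_le_factorization Nat.card_pos.ne').1 hdvd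
    rw [e, Subgroup.card_bot] at hTc
    have := Nat.one_lt_pow (by omega : (Nat.card ↥(M ⊓ L)).factorization p ≠ 0) hp.one_lt
    omega
  -- a Sylow subgroup of a member containing `T`
  have hsyl : ∀ X : Subgroup G, T ≤ X → ∃ Q : Subgroup G, Q ≤ X ∧ IsPGroup p Q ∧ T ≤ Q ∧ R X ≤ Q ∧
      (Q ≠ T → ∃ m ∈ Q, m ∉ T ∧ m ∈ Subgroup.normalizer (T : Set G)) := by
    intro X hX
    obtain ⟨Q, hQ⟩ := (hTp.comap_of_injective X.subtype X.subtype_injective).exists_le_sylow
    have hTQ : T ≤ (Q : Subgroup X).map X.subtype := fun x hx => ⟨⟨x, hX hx⟩, hQ hx, rfl⟩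
    have hQp : IsPGroup p ((Q : Subgroup X).map X.subtype) := Q.isPGroup'.map _
    refine ⟨_, Subgroup.map_subtype_le _, hQp, hTQ, Subgroup.map_mono (haveI := CfsgLib.Solv.pCore_normal ↥X p; IsPGroup.le_sylow_of_normal (N := Cfsg.pCore p ↥X) (CfsgLib.Solv.pCore_isPGroup ↥X p) Q), fun hne => ?_⟩
    set Q' := (Q : Subgroup X).map X.subtype
    haveI := hQp.isNilpotent
    have hlt : T.subgroupOf Q' < ⊤ := by
      rw [lt_top_iff_ne_top, Ne, Subgroup.subgroupOf_eq_top]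
      exact fun h => hne (le_antisymm h hTQ)
    obtain ⟨m, hmN, hmT⟩ := SetLike.exists_of_lt (Group.normalizerCondition_of_isNilpotent _ hlt)
    refine ⟨m, m.2, hmT, Subgroup.mem_normalizer_fintype fun t ht => ?_⟩
    exact (Subgroup.mem_normalizer_iff.1 hmN ⟨t, hTQ ht⟩).1 ht
  -- an element outside `T` extends `T` inside an intersection
  have hgrow : ∀ (X Y : Subgroup G) (m : G), Max X → Max Y → T ≤ X → T ≤ Y → m ∈ X → m ∈ Y →
      m ∈ Subgroup.normalizer (T : Set G) → m ∉ T → (∃ k, orderOf m = p ^ k) → X = Y := by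
    rintro X Y m hX hY hTX hTY hmX hmY hmN hmT ⟨k, hk⟩
    by_contra hne'
    set T' := Subgroup.zpowers m ⊔ T with hT'
    have hT'p : IsPGroup p T' :=
      (IsPGroup.of_card (n := k) (by rw [Nat.card_zpowers, hk])).to_sup_of_normal_right' hTp (Subgroup.zpowers_le.2 hmN)
    have hT'le : T' ≤ X ⊓ Y := sup_le (Subgroup.zpowers_le.2 ⟨hmX, hmY⟩) (le_inf hTX hTY)
    obtain ⟨j, hj⟩ := IsPGroup.iff_card.1 hT'p
    have h1 : p ^ j ∣ Nat.card ↥(X ⊓ Y) := hj ▸ Subgroup.card_dvd_of_le hT'le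
    have h2 := (hp.pow_dvd_iff_le_factorization Nat.card_pos.ne').1 h1
    have hlt : (Nat.card ↥(M ⊓ L)).factorization p < j := by
      by_contra hle
      push Not at hle
      have h3 : Nat.card T' ≤ Nat.card T := by rw [hj, hTc]; exact Nat.pow_le_pow_right hp.pos hle
      exact hmT ((Subgroup.eq_of_le_of_card_ge (le_sup_right : T ≤ T') h3).ge (Subgroup.mem_sup_left (Subgroup.mem_zpowers m)))
    have hmem : (X, Y) ∈ S := ⟨hX, hY, hne', (dvd_pow_self p (by omega : j ≠ 0)).trans h1⟩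
    have := hmax hmem (show (Nat.card ↥(M ⊓ L)).factorization p ≤ (Nat.card ↥(X ⊓ Y)).factorization p by omega)
    have h4 : (Nat.card ↥(X ⊓ Y)).factorization p ≤ (Nat.card ↥(M ⊓ L)).factorization p := this
    omega
  obtain ⟨H, hHloc, hHmax⟩ := (Set.toFinite {H : Subgroup G | Loc H ∧ Subgroup.normalizer (T : Set G) ≤ H}).exists_maximal
    ⟨_, ⟨T, hTp, hTne, rfl⟩, le_rfl⟩
  have hH : Max H := ⟨hHloc.1, fun K hK hle => le_antisymm (hHmax ⟨hK, hHloc.2.trans hle⟩ hle) hle⟩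
  have hTH : T ≤ H := Subgroup.le_normalizer.trans hHloc.2
  obtain ⟨QM, hQM, hQMp, hTQM, hRQM, hstepM⟩ := hsyl M (hTle.trans inf_le_left)
  obtain ⟨QL, hQL, hQLp, hTQL, hRQL, hstepL⟩ := hsyl L (hTle.trans inf_le_right)
  have hord : ∀ {Q : Subgroup G}, IsPGroup p Q → ∀ m ∈ Q, ∃ k, orderOf m = p ^ k := fun hQ m hm => by
    obtain ⟨k, hk⟩ := IsPGroup.iff_orderOf.1 hQ ⟨m, hm⟩
    exact ⟨k, by rwa [Subgroup.orderOf_mk] at hk⟩
  have hkey : ∀ (X Y Q : Subgroup G), Max X → Max Y → X ≠ Y → T ≤ X → T ≤ Y → Q ≤ X → IsPGroup p Q →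
      R Y ≤ T → Q ≠ T → (Q ≠ T → ∃ m ∈ Q, m ∉ T ∧ m ∈ Subgroup.normalizer (T : Set G)) →
      ∃ Y', Max Y' ∧ Y ≠ Y' ∧ R Y ≤ Y' ∧ R Y' ≤ Y := by
    intro X Y Q hX hY hne' hTX hTY hQX hQp hRY hQT hstep
    obtain ⟨m, hmQ, hmT, hmN⟩ := hstep hQT
    obtain ⟨k, hk⟩ := hord hQp m hmQ
    have hmY : m ∉ Y := fun h => hne' (hgrow X Y m hX hY hTX hTY (hQX hmQ) h hmN hmT ⟨k, hk⟩)
    have hTm : MulAut.conj m • T = T := conj_smul_eq_self_of_mem_normalizer hmN
    refine ⟨Y.map (MulAut.conj m).toMonoidHom, ?_, fun e => hmY ?_, ?_, ?_⟩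
    · obtain ⟨⟨T0, hT0, hne0, hY0⟩, hY2⟩ := hY
      refine ⟨⟨T0.map (MulAut.conj m).toMonoidHom, hT0.map _, fun e => hne0 ((Subgroup.map_eq_bot_iff_of_injective _ (MulAut.conj m).injective).1 e),
        by rw [hY0]; exact Subgroup.map_equiv_normalizer_eq T0 _⟩, ?_⟩
      rintro L' ⟨T', hT', hne', rfl⟩ hle
      have h1 := hY2 ((Subgroup.normalizer (T' : Set G)).map (MulAut.conj m).symm.toMonoidHom)
        ⟨T'.map (MulAut.conj m).symm.toMonoidHom, hT'.map _,
          fun e => hne' ((Subgroup.map_eq_bot_iff_of_injective _ (MulAut.conj m).symm.injective).1 e),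
          Subgroup.map_equiv_normalizer_eq T' _⟩ (fun x hx => ⟨(MulAut.conj m) x, hle ⟨x, hx, rfl⟩, (MulAut.conj m).symm_apply_apply x⟩)
      rw [← h1, Subgroup.map_map]
      ext x
      constructor
      · intro hx; exact ⟨x, hx, (MulAut.conj m).apply_symm_apply x⟩
      · rintro ⟨y, hy, rfl⟩
        show (MulAut.conj m) ((MulAut.conj m).symm y) ∈ _
        rw [MulEquiv.apply_symm_apply]; exact hy
    · rw [← hNR Y hY]
      refine mem_normalizer_of_conj_smul_eq (Subgroup.eq_of_le_of_card_ge (hsub ?_ ?_ ?_) (by rw [card_conj_smul]))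
      · rw [conj_smul_eq_map]; exact (Subgroup.map_mono (hRM Y)).trans e.ge
      · intro y hy
        rw [conj_smul_eq_map, show (Subgroup.normalizer ((R Y).map (MulAut.conj m).toMonoidHom : Set G)) =
          (Subgroup.normalizer (R Y : Set G)).map (MulAut.conj m).toMonoidHom from (Subgroup.map_equiv_normalizer_eq _ _).symm, hNR Y hY]
        exact e.le hy
      · rw [conj_smul_eq_map]; exact (hRp Y).map _
    · refine hRY.trans ?_
      rw [← hTm, conj_smul_eq_map]; exact Subgroup.map_mono hTY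
    · intro x hx
      set Y' := Y.map (MulAut.conj m).toMonoidHom with hY'
      have h1 : R Y' ≤ MulAut.conj m • R Y := by
        have h2 : MulAut.conj m⁻¹ • R Y' ≤ R Y := by
          refine hsub ?_ ?_ ?_
          · rw [conj_smul_eq_map]
            rintro _ ⟨z, hz, rfl⟩
            obtain ⟨y, hy, e⟩ := hRM Y' hz
            rw [← e]; simpa [mul_assoc] using hy
          · intro y hy
            refine Subgroup.mem_normalizer_fintype fun z hz => ?_
            rw [SetLike.mem_coe, mem_conj_smul_iff, inv_inv] at hz ⊢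
            have := (Subgroup.mem_normalizer_iff.1 (hRn Y' ⟨y, hy, rfl⟩) _).1 hz
            rwa [show (MulAut.conj m).toMonoidHom y * (m * z * m⁻¹) * ((MulAut.conj m).toMonoidHom y)⁻¹ =
              m * (y * z * y⁻¹) * m⁻¹ by show m * y * m⁻¹ * (m * z * m⁻¹) * (m * y * m⁻¹)⁻¹ = _; group] at this
          · rw [conj_smul_eq_map]; exact (hRp Y').map _
        intro z hz
        rw [mem_conj_smul_iff]
        refine h2 ?_
        rw [mem_conj_smul_iff, inv_inv]
        simpa [mul_assoc] using hz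
      have h3 := h1 hx
      have h4 : x ∈ MulAut.conj m • T := Subgroup.pointwise_smul_le_pointwise_smul_iff.2 hRY h3
      rw [hTm] at h4
      exact hTY h4
  by_cases eM : QM = T
  · by_cases eL : QL = T
    · exact hmk M L hM hL hne ((eM ▸ hRQM).trans (hTle.trans inf_le_right)) ((eL ▸ hRQL).trans (hTle.trans inf_le_left))
    · obtain ⟨Y', hY', hne', h1, h2⟩ := hkey L M QL hL hM (Ne.symm hne) (hTle.trans inf_le_right) (hTle.trans inf_le_left) hQL hQLp (eM ▸ hRQM) eL hstepL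
      exact hmk M Y' hM hY' hne' h1 h2
  · obtain ⟨m, hmQ, hmT, hmN⟩ := hstepM eM
    have hMH : M = H := hgrow M H m hM hH (hTle.trans inf_le_left) hTH (hQM hmQ) (hHloc.2 hmN) hmN hmT (hord hQMp m hmQ)
    have eL : QL = T := by
      by_contra eL
      obtain ⟨l, hlQ, hlT, hlN⟩ := hstepL eL
      exact hne (hgrow M L l hM hL (hTle.trans inf_le_left) (hTle.trans inf_le_right)
        (hMH ▸ hHloc.2 hlN) (hQL hlQ) hlN hlT (hord hQLp l hlQ))
    obtain ⟨Y', hY', hne', h1, h2⟩ := hkey M L QM hM hL hne (hTle.trans inf_le_left) (hTle.trans inf_le_right) hQM hQMp (eL ▸ hRQL) eM hstepM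
    exact hmk L Y' hL hY' hne' h1 h2

end Cfsg.Agent.S3751
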