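import Cfsg.Statements.S3754
import Cfsg.Agent.Solv.TransvectionTransfer
import Cfsg.Agent.Solv.FittingBasic
import Cfsg.Agent.Inv.PClosed

set_option autoImplicit false
open Cfsg

namespace Cfsg.Agent.S3754

open scoped commutatorElement

/-- Let M be a finite p-soluble group and A a p-subgroup of M with Φ(A) ≤ O_p(M) but A ≰ O_p(M). Then there is x ∈ O_{p,p'}(M) such that L = ⟨A, xAx⁻¹⟩ satisfies: x ∈ O^p(L) and O^p(L) ≤ O_{p,p'}(M); [O^p(L), A] = O^p(L); A ∩ O_p(L) has index p in A; and [A ∩ O_p(L), L] ≤ O_p(M). Here O^p(L) is the subgroup generated by the p'-elements of L and O_{p,p'}(M) the preimage of O_{p'}(M/O_p(M)). -/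
theorem result {M : Type*} [Group M] [Finite M] {p : ℕ} [Fact p.Prime] (hM : Cfsg.IsPSolvable p M) (A : Subgroup M) (hA : IsPGroup p A) (hΦ : (frattini ↥A).map A.subtype ≤ Cfsg.pCore p M) (hnot : ¬ A ≤ Cfsg.pCore p M) : ∃ x ∈ (Cfsg.pPrimeCore p (M ⧸ Cfsg.pCore p M)).comap (QuotientGroup.mk' (Cfsg.pCore p M)), x ∈ (Cfsg.pResidual p ↥(A ⊔ A.map (MulAut.conj x).toMonoidHom)).map (A ⊔ A.map (MulAut.conj x).toMonoidHom).subtype ∧ (Cfsg.pResidual p ↥(A ⊔ A.map (MulAut.conj x).toMonoidHom)).map (A ⊔ A.map (MulAut.conj x).toMonoidHom).subtype ≤ (Cfsg.pPrimeCore p (M ⧸ Cfsg.pCore p M)).comap (QuotientGroup.mk' (Cfsg.pCore p M)) ∧ ⁅(Cfsg.pResidual p ↥(A ⊔ A.map (MulAut.conj x).toMonoidHom)).map (A ⊔ A.map (MulAut.conj x).toMonoidHom).subtype, A⁆ = (Cfsg.pResidual p ↥(A ⊔ A.map (MulAut.conj x).toMonoidHom)).map (A ⊔ A.map (MulAut.conj x).toMonoidHom).subtype ∧ (A ⊓ (Cfsg.pCore p ↥(A ⊔ A.map (MulAut.conj x).toMonoidHom)).map (A ⊔ A.map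 (MulAut.conj x).toMonoidHom).subtype).relIndex A = p ∧ ⁅A ⊓ (Cfsg.pCore p ↥(A ⊔ A.map (MulAut.conj x).toMonoidHom)).map (A ⊔ A.map (MulAut.conj x).toMonoidHom).subtype, A ⊔ A.map (MulAut.conj x).toMonoidHom⁆ ≤ Cfsg.pCore p M := by
  classical
  haveI hOn : (Cfsg.pCore p M).Normal := CfsgLib.Solv.pCore_normal M p
  let π := QuotientGroup.mk' (Cfsg.pCore p M)
  set Q := Cfsg.pPrimeCore p (M ⧸ Cfsg.pCore p M) with hQ
  haveI hQn : Q.Normal := CfsgLib.Solv.pPrimeCore_normal _ p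
  have hQc : Subgroup.centralizer (Q : Set (M ⧸ Cfsg.pCore p M)) ≤ Q :=
    CfsgLib.Solv.FFP.centralizer_pPrimeCore_le_of_pSolvable (CfsgLib.Perm.isPSolvable_quotient hM _)
      CfsgLib.Solv.pCore_quotient_self
  have hQcop : (Nat.card Q).Coprime p := CfsgLib.Solv.pPrimeCore_coprime _ p
  set A' := A.map π with hA'
  have hA'p : IsPGroup p A' := hA.map π
  have hAex : ∀ a ∈ A', a ^ p = 1 := by
    rintro _ ⟨a, ha, rfl⟩
    rw [← map_pow]
    exact (QuotientGroup.eq_one_iff _).2 (hΦ (Subgroup.mem_map.2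
      ⟨⟨a, ha⟩ ^ p, CfsgLib.Solv.pow_mem_frattini hA ⟨a, ha⟩, by simp⟩))
  have hAcomm : ∀ a ∈ A', ∀ b ∈ A', a * b = b * a := by
    rintro _ ⟨a, ha, rfl⟩ _ ⟨b, hb, rfl⟩
    refine commutatorElement_eq_one_iff_mul_comm.1 ?_
    rw [← map_commutatorElement]
    exact (QuotientGroup.eq_one_iff _).2 (hΦ (Subgroup.mem_map.2
      ⟨⁅(⟨a, ha⟩ : A), ⟨b, hb⟩⁆, CfsgLib.Solv.commutator_le_frattini hA
        (Subgroup.commutator_mem_commutator (Subgroup.mem_top _) (Subgroup.mem_top _)),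
        by simp [commutatorElement_def]⟩))
  haveI hAab : IsMulCommutative A' := ⟨⟨fun a b => Subtype.ext (hAcomm a a.2 b b.2)⟩⟩
  have hdisj : A' ⊓ Q = ⊥ := by
    obtain ⟨n, hn⟩ := hA'p.exists_card_eq
    exact CfsgLib.Solv.inf_eq_bot_of_coprime_card (by rw [hn]; exact (hQcop.pow_right n).symm)
  have hA'1 : A' ≠ ⊥ := fun h => hnot (by
    rwa [hA', Subgroup.map_eq_bot_iff, QuotientGroup.ker_mk'] at h)
  have hAQn : A' ≤ Subgroup.normalizer (Q : Set (M ⧸ Cfsg.pCore p M)) :=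
    Subgroup.normalizer_eq_top (H := Q) ▸ le_top
  obtain ⟨B, hBA, ⟨a₀, ha₀, hBa⟩, hQB⟩ : ∃ B : Subgroup (M ⧸ Cfsg.pCore p M), B ≤ A' ∧
      (∃ a ∈ A', B ⊔ Subgroup.zpowers a = A') ∧
      ¬ Q ⊓ Subgroup.centralizer (B : Set (M ⧸ Cfsg.pCore p M)) ≤
        Subgroup.centralizer (A' : Set (M ⧸ Cfsg.pCore p M)) := by
    by_contra h
    push Not at h
    have h1 := CfsgLib.Solv.le_of_cocyclic_centralizers hAQn (by
      obtain ⟨n, hn⟩ := hA'p.exists_card_eq
      rw [hn]; exact (hQcop.pow_right n).symm) h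
    exact hA'1 (le_bot_iff.1 ((le_inf le_rfl ((Subgroup.le_centralizer_iff.1 h1).trans hQc)).trans hdisj.le))
  have hBlt : B < A' := lt_of_le_of_ne hBA fun e => hQB (e ▸ inf_le_right)
  set Q' := Q ⊓ Subgroup.centralizer (B : Set (M ⧸ Cfsg.pCore p M)) with hQ'
  set P : M → Prop := fun x => π x ∈ Q' ∧ π x ∉ Subgroup.centralizer (A' : Set (M ⧸ Cfsg.pCore p M))
    with hP
  set XX : M → Subgroup M := fun x => A ⊔ A.map (MulAut.conj x).toMonoidHom with hXX
  have hne : ∃ x, P x := by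
    obtain ⟨y, hy, hy'⟩ := SetLike.not_le_iff_exists.1 hQB
    obtain ⟨x, rfl⟩ := QuotientGroup.mk'_surjective _ y
    exact ⟨x, hy, hy'⟩
  haveI := Fintype.ofFinite M
  obtain ⟨x₀, hx₀, hmin⟩ := Finset.exists_min_image (Finset.univ.filter P) (fun x => Nat.card (XX x))
    (by obtain ⟨x, hx⟩ := hne; exact ⟨x, Finset.mem_filter.2 ⟨Finset.mem_univ _, hx⟩⟩)
  obtain ⟨-, hx₀⟩ := Finset.mem_filter.1 hx₀
  set X := XX x₀ with hXdef
  have hAQ'n : A' ≤ Subgroup.normalizer (Q' : Set (M ⧸ Cfsg.pCore p M)) :=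
    CfsgLib.Solv.le_normalizer_inf_of_le hAQn (le_trans (fun a ha => by
      refine Subgroup.le_normalizer (Subgroup.mem_centralizer_iff.2 fun b hb => ?_)
      exact hAcomm b (hBA hb) a ha) le_rfl)
  have hXbar : X.map π ≤ A' ⊔ Q' := by
    rw [hXdef, Subgroup.map_sup]
    refine sup_le le_sup_left ?_
    rintro _ ⟨_, ⟨a, ha, rfl⟩, rfl⟩
    show π (x₀ * a * x₀⁻¹) ∈ A' ⊔ Q'
    rw [map_mul, map_mul, map_inv]
    exact mul_mem (mul_mem (Subgroup.mem_sup_right hx₀.1)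
      (Subgroup.mem_sup_left (Subgroup.mem_map_of_mem π ha))) (inv_mem (Subgroup.mem_sup_right hx₀.1))
  have hXcB : X.map π ≤ Subgroup.centralizer (B : Set (M ⧸ Cfsg.pCore p M)) :=
    hXbar.trans (sup_le (fun a ha => Subgroup.mem_centralizer_iff.2 fun b hb => hAcomm b (hBA hb) a ha)
      inf_le_right)
  set R := (Cfsg.pResidual p ↥X).map X.subtype with hR
  have hRX : R ≤ X := Subgroup.map_subtype_le _
  -- the residual lies over `Q'`
  have hRQ : R.map π ≤ Q' := by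
    rw [hR, Subgroup.map_map, Cfsg.pResidual, MonoidHom.map_closure, Subgroup.closure_le]
    rintro _ ⟨g, hg, rfl⟩
    show π (g : M) ∈ Q'
    obtain ⟨m, hm, a, ha, hga⟩ := CfsgLib.Solv.exists_mul_of_mem_sup hAQ'n
      (hXbar (Subgroup.mem_map_of_mem π g.2))
    have hpow : ∀ n : ℕ, ∃ m' ∈ Q', (m * a) ^ n = m' * a ^ n := by
      intro n
      induction n with
      | zero => exact ⟨1, one_mem _, by simp⟩
      | succ n ih =>
        obtain ⟨m', hm', h⟩ := ih
        refine ⟨m' * (a ^ n * m * (a ^ n)⁻¹), mul_mem hm'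
          (CfsgLib.Solv.le_normalizer_iff_forall_conj_mem.1 hAQ'n _ (pow_mem ha n) m hm), ?_⟩
        rw [pow_succ, h, pow_succ]; group
    obtain ⟨m', hm', h1⟩ := hpow (orderOf g)
    have h2 : (π (g : M)) ^ orderOf g = 1 := by
      rw [← map_pow, ← SubmonoidClass.coe_pow, pow_orderOf_eq_one, OneMemClass.coe_one, map_one]
    rw [hga] at h2
    rw [h2] at h1
    have h3 : a ^ orderOf g ∈ A' ⊓ Q := Subgroup.mem_inf.2 ⟨pow_mem ha _, by
      rw [show a ^ orderOf g = m'⁻¹ by rw [eq_inv_iff_mul_eq_one]; exact mul_eq_one_comm.1 h1.symm]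
      exact inv_mem hm'.1⟩
    rw [hdisj, Subgroup.mem_bot] at h3
    have h4 := pow_gcd_eq_one.2 ⟨h3, hAex a ha⟩
    rw [show (orderOf g).gcd p = 1 from hg, pow_one] at h4
    rw [hga, h4, mul_one]
    exact hm
  -- an element of the residual moving `A'`
  obtain ⟨y, hyR, hy⟩ : ∃ y ∈ R, π y ∉ Subgroup.centralizer (A' : Set (M ⧸ Cfsg.pCore p M)) := by
    by_contra h
    push Not at h
    obtain ⟨S, hS⟩ := (hA.comap_of_injective X.subtype X.subtype_injective).exists_le_sylow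
    set S' := ((S : Subgroup X).map X.subtype).map π with hS'
    have hS'p : IsPGroup p S' := (S.2.map X.subtype).map π
    have hXSR : X.map π = S' ⊔ R.map π := by
      have h := congrArg (Subgroup.map X.subtype) (CfsgLib.Solv.sylow_sup_pResidual S)
      rw [Subgroup.map_sup, ← MonoidHom.range_eq_map, Subgroup.range_subtype] at h
      rw [hS', hR, ← Subgroup.map_sup, h]
    have hS'A : S' = A' := by
      refine le_antisymm ?_ ?_
      · intro s hs
        obtain ⟨m, hm, a, ha, hsa⟩ := CfsgLib.Solv.exists_mul_of_mem_sup hAQ'n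
          (hXbar (hXSR.ge (Subgroup.mem_sup_left hs)))
        have hA'S : A' ≤ S' := by
          rw [hS']
          refine Subgroup.map_mono fun b hb => ?_
          exact Subgroup.mem_map.2 ⟨⟨b, Subgroup.mem_sup_left hb⟩, hS (Subgroup.mem_comap.2 hb), rfl⟩
        have hmS : m ∈ S' ⊓ Q := Subgroup.mem_inf.2 ⟨by
          rw [show m = s * a⁻¹ by rw [hsa]; group]; exact mul_mem hs (inv_mem (hA'S ha)), hm.1⟩
        obtain ⟨n, hn⟩ := hS'p.exists_card_eq
        rw [CfsgLib.Solv.inf_eq_bot_of_coprime_card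
          (by rw [hn]; exact (hQcop.pow_right n).symm), Subgroup.mem_bot] at hmS
        rw [hsa, hmS, one_mul]; exact ha
      · rw [hS']
        refine Subgroup.map_mono fun b hb => ?_
        exact Subgroup.mem_map.2 ⟨⟨b, Subgroup.mem_sup_left hb⟩, hS (Subgroup.mem_comap.2 hb), rfl⟩
    have hXn : X.map π ≤ Subgroup.normalizer (A' : Set (M ⧸ Cfsg.pCore p M)) := by
      rw [hXSR, hS'A]
      refine sup_le Subgroup.le_normalizer (le_trans ?_ (Subgroup.centralizer_le_normalizer _))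
      rintro _ ⟨r, hr, rfl⟩; exact h r hr
    have hxn : π x₀ ∈ Subgroup.normalizer (A' : Set (M ⧸ Cfsg.pCore p M)) := by
      set A'' := A'.map (MulAut.conj (π x₀)).toMonoidHom with hA''
      have hle : A'' ≤ X.map π := by
        rintro _ ⟨_, ⟨a, ha, rfl⟩, rfl⟩
        exact ⟨x₀ * a * x₀⁻¹, Subgroup.mem_sup_right (Subgroup.mem_map_of_mem _ ha), by simp⟩
      have hA''A : A'' = A' := by
        refine Subgroup.eq_of_le_of_card_ge (fun s hs => ?_)
          (Nat.card_congr (A'.equivMapOfInjective (MulAut.conj (π x₀)).toMonoidHom (MulAut.conj (π x₀)).injective).toEquiv).le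
        have hsp : IsPGroup p (A' ⊔ A'' : Subgroup (M ⧸ Cfsg.pCore p M)) :=
          hA'p.to_sup_of_normal_left' (hA'p.map _) (hle.trans hXn)
        obtain ⟨m, hm, a, ha, hsa⟩ := CfsgLib.Solv.exists_mul_of_mem_sup hAQ'n (hXbar (hle hs))
        obtain ⟨n, hn⟩ := hsp.exists_card_eq
        have hmS : m ∈ (A' ⊔ A'') ⊓ Q := Subgroup.mem_inf.2 ⟨by
          rw [show m = s * a⁻¹ by rw [hsa]; group]
          exact mul_mem (Subgroup.mem_sup_right hs) (inv_mem (Subgroup.mem_sup_left ha)), hm.1⟩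
        rw [CfsgLib.Solv.inf_eq_bot_of_coprime_card
          (by rw [hn]; exact (hQcop.pow_right n).symm), Subgroup.mem_bot] at hmS
        rw [hsa, hmS, one_mul]; exact ha
      rw [Subgroup.mem_normalizer_iff]
      intro n
      conv_rhs => rw [← hA''A, hA'', CfsgLib.Solv.FFP.map_mem_iff]
      rw [show (π x₀)⁻¹ * (π x₀ * n * (π x₀)⁻¹) * π x₀ = n by group]
    exact hx₀.2 (CfsgLib.Solv.mem_centralizer_of_mem_normalizer hAQn hdisj hx₀.1.1 hxn)
  have hyX : y ∈ X := hRX hyR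
  have hyP : P y := ⟨hRQ (Subgroup.mem_map_of_mem π hyR), hy⟩
  have hle : XX y ≤ X := by
    refine sup_le le_sup_left ?_
    rintro _ ⟨a, ha, rfl⟩
    exact mul_mem (mul_mem hyX (Subgroup.mem_sup_left ha)) (inv_mem hyX)
  have heq : A ⊔ A.map (MulAut.conj y).toMonoidHom = X :=
    Subgroup.eq_of_le_of_card_ge hle (hmin y (Finset.mem_filter.2 ⟨Finset.mem_univ _, hyP⟩))
  refine ⟨y, (hyP.1).1, ?_⟩
  rw [heq, ← hR]
  have hAX : A ≤ X := le_sup_left
  have hAR : A ≤ Subgroup.normalizer (R : Set M) := by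
    refine CfsgLib.Solv.le_normalizer_iff_forall_conj_mem.2 fun a ha s hs => ?_
    obtain ⟨s', hs', rfl⟩ := Subgroup.mem_map.1 hs
    exact Subgroup.mem_map.2 ⟨⟨a, hAX ha⟩ * s' * ⟨a, hAX ha⟩⁻¹,
      (CfsgLib.Inv.pResidual_normal p ↥X).conj_mem s' hs' ⟨a, hAX ha⟩, rfl⟩
  set D := ⁅R, A⁆ with hD
  have hDR : D ≤ R := CfsgLib.Solv.commutator_le_of_le_normalizer hAR
  have hXRA : X ≤ R ⊔ A := by
    rw [← heq]
    refine sup_le le_sup_right ?_
    rintro _ ⟨a, ha, rfl⟩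
    exact mul_mem (mul_mem (Subgroup.mem_sup_left hyR) (Subgroup.mem_sup_right ha))
      (inv_mem (Subgroup.mem_sup_left hyR))
  have hXD : X ≤ Subgroup.normalizer (D : Set M) := hXRA.trans
    (sup_le (CfsgLib.Solv.left_le_normalizer_commutator R A) (CfsgLib.Solv.right_le_normalizer_commutator R A))
  have hXDA : X ≤ A ⊔ D := by
    rw [← heq]
    refine sup_le le_sup_left ?_
    rintro _ ⟨a, ha, rfl⟩
    show y * a * y⁻¹ ∈ A ⊔ D
    rw [show y * a * y⁻¹ = ⁅y, a⁆ * a by simp [commutatorElement_def, mul_assoc]]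
    exact mul_mem (Subgroup.mem_sup_right (Subgroup.commutator_mem_commutator hyR ha)) (Subgroup.mem_sup_left ha)
  have hRD : R ≤ D := by
    haveI : (D.subgroupOf X).Normal :=
      (Subgroup.normal_subgroupOf_iff_le_normalizer (hDR.trans hRX)).2 hXD
    have h := CfsgLib.Inv.pResidual_le_of_sup (G := ↥X) (p := p) (N := D.subgroupOf X)
      (Y := A.subgroupOf X) (hA.comap_of_injective X.subtype X.subtype_injective) (by
        rw [← Subgroup.subgroupOf_sup hAX (hDR.trans hRX)]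
        exact fun g _ => Subgroup.mem_subgroupOf.2 (hXDA g.2))
    rintro _ ⟨r, hr, rfl⟩
    exact Subgroup.mem_subgroupOf.1 (h hr)
  set B0 := A ⊓ B.comap π with hB0
  have hB0map : B0.map π = B := by
    refine le_antisymm ((Subgroup.map_mono inf_le_right).trans (Subgroup.map_comap_le _ _)) fun b hb => ?_
    obtain ⟨a, ha, rfl⟩ := Subgroup.mem_map.1 (hBA hb)
    exact Subgroup.mem_map_of_mem π (Subgroup.mem_inf.2 ⟨ha, hb⟩)
  have hcB0 : Nat.card A = p * Nat.card B0 := by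
    have h1 := CfsgLib.Solv.FFP.card_map_mul_ker π A
    have h2 := CfsgLib.Solv.FFP.card_map_mul_ker π B0
    rw [show B0 ⊓ π.ker = A ⊓ π.ker from le_antisymm (inf_le_inf_right _ inf_le_left)
      (le_inf (le_inf inf_le_left (inf_le_right.trans (Subgroup.ker_le_comap π B))) inf_le_right),
      hB0map] at h2
    have h3 : Nat.card A' = p * Nat.card B := by
      refine le_antisymm ?_ (by rw [mul_comm]; exact CfsgLib.Solv.FFP.mul_le_of_lt hA'p hBlt)
      have hcard : Nat.card (Subgroup.zpowers a₀) ≤ p := by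
        rw [Nat.card_zpowers]; exact orderOf_le_of_pow_eq_one (Fact.out : p.Prime).pos (hAex a₀ ha₀)
      refine le_trans ?_ (Nat.mul_le_mul_right _ hcard)
      rw [← Nat.card_prod]
      refine Nat.card_le_card_of_surjective
        (fun x : Subgroup.zpowers a₀ × B => (⟨(x.1 : M ⧸ Cfsg.pCore p M) * x.2,
          mul_mem (Subgroup.zpowers_le.2 ha₀ x.1.2) (hBA x.2.2)⟩ : A')) ?_
      rintro ⟨w, hw⟩
      rw [← hBa] at hw
      have hn' : B ≤ Subgroup.normalizer (Subgroup.zpowers a₀ : Set (M ⧸ Cfsg.pCore p M)) := by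
        refine le_trans (fun b hb => ?_) (Subgroup.centralizer_le_normalizer _)
        exact Subgroup.mem_centralizer_iff.2 fun z hz => hAcomm z (Subgroup.zpowers_le.2 ha₀ hz) b (hBA hb)
      obtain ⟨m, hm, x, hx, e⟩ := CfsgLib.Solv.exists_mul_of_mem_sup hn' hw
      exact ⟨(⟨m, hm⟩, ⟨x, hx⟩), Subtype.ext e.symm⟩
    rw [← hA', h3, mul_assoc, h2] at h1
    exact h1.symm
  set OX := (Cfsg.pCore p ↥X).map X.subtype with hOX
  have hB0OX : B0 ≤ OX := by
    set N := X ⊓ B.comap π with hN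
    have hBc : ∀ g ∈ X, ∀ b ∈ B, π g * b * (π g)⁻¹ = b := fun g hg b hb => by
      rw [← Subgroup.mem_centralizer_iff.1 (hXcB (Subgroup.mem_map_of_mem π hg)) b hb, mul_inv_cancel_right]
    have hXN : X ≤ Subgroup.normalizer (N : Set M) := by
      refine CfsgLib.Solv.le_normalizer_iff_forall_conj_mem.2 fun g hg n hn => ?_
      refine Subgroup.mem_inf.2 ⟨mul_mem (mul_mem hg hn.1) (inv_mem hg), ?_⟩
      show π (g * n * g⁻¹) ∈ B
      rw [map_mul, map_mul, map_inv, hBc g hg _ hn.2]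
      exact hn.2
    have hNp : IsPGroup p N := by
      intro n
      have h1 : (n : M) ^ p ∈ Cfsg.pCore p M := (QuotientGroup.eq_one_iff _).1 (by
        show π ((n : M) ^ p) = 1
        rw [map_pow]; exact hAex _ (hBA n.2.2))
      obtain ⟨k, hk⟩ := CfsgLib.Solv.pCore_isPGroup M p ⟨_, h1⟩
      refine ⟨k + 1, Subtype.ext ?_⟩
      have h2 : ((n : M) ^ p) ^ p ^ k = 1 := by simpa using congrArg Subtype.val hk
      rw [SubmonoidClass.coe_pow, pow_succ', pow_mul]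
      exact h2
    haveI : (N.subgroupOf X).Normal := (Subgroup.normal_subgroupOf_iff_le_normalizer inf_le_left).2 hXN
    have h : N.subgroupOf X ≤ Cfsg.pCore p ↥X :=
      CfsgLib.Solv.le_pCore (hNp.comap_of_injective X.subtype X.subtype_injective)
    intro b hb
    exact Subgroup.mem_map.2 ⟨⟨b, hAX hb.1⟩, h (Subgroup.mem_subgroupOf.2
      (Subgroup.mem_inf.2 ⟨hAX hb.1, hb.2⟩)), rfl⟩
  have hAOX : ¬ A ≤ OX := by
    intro h
    haveI : (Cfsg.pCore p ↥X).Normal := CfsgLib.Solv.pCore_normal _ p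
    have hXO : X ≤ OX := by
      conv_lhs => rw [← heq]
      refine sup_le h ?_
      rintro _ ⟨a, ha, rfl⟩
      obtain ⟨a', ha', rfl⟩ := Subgroup.mem_map.1 (h ha)
      exact Subgroup.mem_map.2 ⟨⟨y, hyX⟩ * a' * ⟨y, hyX⟩⁻¹,
        (CfsgLib.Solv.pCore_normal ↥X p).conj_mem a' ha' ⟨y, hyX⟩, rfl⟩
    have hOp : IsPGroup p OX := (CfsgLib.Solv.pCore_isPGroup ↥X p).map X.subtype
    obtain ⟨n, hn⟩ := hOp ⟨y, hXO hyX⟩
    have h1 : y ^ p ^ n = 1 := by simpa using congrArg Subtype.val hn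
    have h2 : π y = 1 := by
      have h3 : (π y) ^ p ^ n = 1 := by rw [← map_pow, h1, map_one]
      have h4 : (π y) ^ Nat.card Q = 1 :=
        orderOf_dvd_iff_pow_eq_one.1 (Subgroup.orderOf_dvd_natCard Q hyP.1.1)
      have h5 := pow_gcd_eq_one.2 ⟨h3, h4⟩
      rwa [show (p ^ n).gcd (Nat.card Q) = 1 from (hQcop.pow_right n).symm, pow_one] at h5
    exact hy (h2 ▸ one_mem _)
  have hAO : A ⊓ OX = B0 := by
    refine (Subgroup.eq_of_le_of_card_ge (le_inf inf_le_left hB0OX) ?_).symm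
    have hlt : A ⊓ OX < A := lt_of_le_of_ne inf_le_left fun e => hAOX (inf_eq_left.1 e)
    have h := CfsgLib.Solv.FFP.mul_le_of_lt hA hlt
    rw [hcB0, mul_comm p] at h
    exact Nat.le_of_mul_le_mul_right h (Fact.out : p.Prime).pos
  refine ⟨hyR, fun r hr => (hRQ (Subgroup.mem_map_of_mem π hr)).1, le_antisymm hDR hRD, ?_, ?_⟩
  · rw [hAO]
    have h := CfsgLib.Solv.relIndex_mul_card (inf_le_left : B0 ≤ A)
    rw [hcB0, mul_comm p] at h
    exact Nat.eq_of_mul_eq_mul_left Nat.card_pos h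
  · rw [hAO, Subgroup.commutator_le]
    intro b hb g hg
    refine (QuotientGroup.eq_one_iff _).1 ?_
    show π ⁅b, g⁆ = 1
    rw [map_commutatorElement, commutatorElement_eq_one_iff_mul_comm]
    exact Subgroup.mem_centralizer_iff.1 (hXcB (Subgroup.mem_map_of_mem π hg)) _ hb.2

end Cfsg.Agent.S3754
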