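import Cfsg.Statements.S3755
import Cfsg.Agent.Solv.TransvectionFF
import Cfsg.Agent.Inv.InvolvesDihedral
import Cfsg.Agent.S2759

set_option autoImplicit false
open Cfsg

namespace Cfsg.Agent.S3755

open scoped commutatorElement

theorem small_index {X : Type*} [Group X] [Finite X] {U : Subgroup X} (hU : ∀ u ∈ U, u ^ 2 = 1)
    (hUp : IsPGroup 2 U)
    {b y : X} {r : ℕ} (hb2 : b * b = 1) (hr : r.Prime) (hr5 : 5 ≤ r) (hby : b * y * b⁻¹ = y⁻¹)
    (hyU : y ∈ Subgroup.normalizer (U : Set X)) (hyr : y ^ r ∈ Subgroup.centralizer (U : Set X))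
    (hy : y ∉ Subgroup.centralizer (U : Set X)) :
    Nat.card (U ⊓ Subgroup.centralizer ({b} : Set X) : Subgroup X) * 4 ≤ Nat.card U := by
  classical
  haveI : Fact (Nat.Prime 2) := ⟨Nat.prime_two⟩
  set C0 := U ⊓ Subgroup.centralizer ({b} : Set X) with hC0
  by_contra hcon
  push Not at hcon
  have hlt : C0 ≤ U := inf_le_left
  have h2 : Nat.card U ≤ Nat.card C0 * 2 := by
    obtain ⟨n, hn⟩ := hUp.exists_card_eq
    obtain ⟨m, -, hm⟩ := (Nat.dvd_prime_pow Nat.prime_two).1 (hn ▸ Subgroup.card_dvd_of_le hlt)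
    rw [hn, hm] at hcon ⊢
    have h4 : 2 ^ n < 2 ^ (m + 2) := by rw [pow_add]; simpa using hcon
    have := (Nat.pow_lt_pow_iff_right one_lt_two).1 h4
    rw [← pow_succ]
    exact Nat.pow_le_pow_right (by norm_num) (by omega)
  set C0y := C0.map (MulAut.conj y).toMonoidHom with hC0y
  have hC0yU : C0y ≤ U := by
    rintro _ ⟨u, hu, rfl⟩; exact (Subgroup.mem_normalizer_iff.1 hyU u).1 hu.1
  set C1 := C0 ⊓ C0y with hC1
  have hcard : Nat.card U ≤ Nat.card C1 * 4 := by
    have h3 := CfsgLib.Solv.card_mul_inf_le hlt hC0yU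
    rw [Subgroup.card_map_of_injective (MulAut.conj y).injective] at h3
    have h4 : Nat.card U * Nat.card U ≤ Nat.card U * (Nat.card C1 * 4) := by
      calc Nat.card U * Nat.card U ≤ (Nat.card C0 * 2) * (Nat.card C0 * 2) := Nat.mul_le_mul h2 h2
        _ = Nat.card C0 * Nat.card C0 * 4 := by ring
        _ ≤ Nat.card U * Nat.card C1 * 4 := Nat.mul_le_mul_right _ h3
        _ = _ := by ring
    exact Nat.le_of_mul_le_mul_left h4 Nat.card_pos
  have hrodd : ¬ 2 ∣ r := fun h => by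
    rcases hr.eq_one_or_self_of_dvd 2 h with h' | h' <;> omega
  have hfix : ∀ (z u : X) (d : ℕ), Commute (z ^ d) u → Commute (z ^ r) u → d.Coprime r → Commute z u := by
    intro z u d h1 h2 hcop
    have hz : z = (z ^ d) ^ (d.gcdA r) * (z ^ r) ^ (d.gcdB r) := by
      rw [← zpow_natCast z d, ← zpow_natCast z r, ← zpow_mul, ← zpow_mul, ← zpow_add,
        ← Nat.gcd_eq_gcd_ab, hcop, Nat.cast_one, zpow_one]
    rw [hz]
    exact (h1.zpow_left _).mul_left (h2.zpow_left _)
  have hyrU : ∀ u ∈ U, Commute (y ^ r) u := fun u hu => (Subgroup.mem_centralizer_iff.1 hyr u hu).symm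
  -- `y` centralises the common fixed points
  have hC1y : ∀ c ∈ C1, Commute y c := by
    intro c hc
    obtain ⟨hc0, hcy⟩ := Subgroup.mem_inf.1 hc
    have h1 : Commute b c := (Subgroup.mem_centralizer_singleton_iff.1 hc0.2).symm
    obtain ⟨w, hw, hwc⟩ := Subgroup.mem_map.1 hcy
    have h1' : Commute (y * b * y⁻¹) c := by
      have h0 : Commute b w := (Subgroup.mem_centralizer_singleton_iff.1 hw.2).symm
      have := h0.map (MulAut.conj y).toMonoidHom
      rw [hwc] at this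
      exact this
    have hyy : y * b * y⁻¹ * b = y ^ 2 := by
      have h4 : b * y⁻¹ = y * b := by
        rw [← hby]
        calc b * (b * y * b⁻¹) = (b * b) * y * b⁻¹ := by group
          _ = y * b⁻¹ := by rw [hb2, one_mul]
          _ = y * b := by rw [inv_eq_of_mul_eq_one_right hb2]
      calc y * b * y⁻¹ * b = y * (b * y⁻¹) * b := by group
        _ = y * y * (b * b) := by rw [h4]; group
        _ = y ^ 2 := by rw [hb2, mul_one, pow_two]
    exact hfix y c 2 (hyy ▸ h1'.mul_left h1) (hyrU c (hlt hc0))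
      ((Nat.Prime.coprime_iff_not_dvd Nat.prime_two).2 hrodd)
  refine hy (Subgroup.mem_centralizer_iff.2 fun u hu => ?_)
  have hmem : ∀ i : ℕ, y ^ i * u * (y ^ i)⁻¹ ∈ U := fun i =>
    (Subgroup.mem_normalizer_iff.1 (pow_mem hyU i) u).1 hu
  haveI := Fintype.ofFinite (U ⧸ C1.subgroupOf U)
  obtain ⟨i, j, hij, he⟩ := Fintype.exists_ne_map_eq_of_card_lt
    (fun i : Fin 5 => (QuotientGroup.mk (⟨_, hmem i⟩ : U) : U ⧸ C1.subgroupOf U)) (by
      rw [Fintype.card_fin, ← Nat.card_eq_fintype_card]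
      show (C1.subgroupOf U).index < 5
      have h5 := (C1.subgroupOf U).card_mul_index
      rw [Nat.card_congr (Subgroup.subgroupOfEquivOfLe (inf_le_left.trans hlt)).toEquiv] at h5
      have hpos : 0 < Nat.card C1 := Nat.card_pos
      by_contra h
      push Not at h
      have := Nat.mul_le_mul_left (Nat.card C1) h
      rw [h5] at this
      omega)
  wlog hlt' : (i : ℕ) < j generalizing i j with H
  · exact H j i hij.symm he.symm (lt_of_le_of_ne (not_lt.1 hlt') fun e => hij (Fin.ext e.symm))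
  obtain ⟨d, hd, hdj⟩ : ∃ d : ℕ, 0 < d ∧ (j : ℕ) = i + d := ⟨j - i, by omega, by omega⟩
  have hd5 : d < 5 := by omega
  have h6 := QuotientGroup.eq.1 he
  rw [Subgroup.mem_subgroupOf] at h6
  simp only [Subgroup.coe_mul, Subgroup.coe_inv, hdj, pow_add] at h6
  set c := (y ^ (i : ℕ) * u * (y ^ (i : ℕ))⁻¹)⁻¹ *
    (y ^ (i : ℕ) * y ^ d * u * (y ^ (i : ℕ) * y ^ d)⁻¹) with hc
  have hyc : Commute (y ^ (i : ℕ)) c := (hC1y c h6).pow_left _
  have hc' : u⁻¹ * (y ^ d * u * (y ^ d)⁻¹) = c := by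
    calc u⁻¹ * (y ^ d * u * (y ^ d)⁻¹) = (y ^ (i : ℕ))⁻¹ * c * y ^ (i : ℕ) := by rw [hc]; group
      _ = (y ^ (i : ℕ))⁻¹ * (y ^ (i : ℕ) * c) := by rw [mul_assoc, ← hyc.eq]
      _ = c := by group
  have hstep : y ^ d * u * (y ^ d)⁻¹ = u * c := by rw [← hc']; group
  have hpow : ∀ n : ℕ, (y ^ d) ^ n * u * ((y ^ d) ^ n)⁻¹ = u * c ^ n := by
    intro n
    induction n with
    | zero => simp
    | succ n ih =>
      have hdc : Commute (y ^ d) (c ^ n) := ((hC1y c h6).pow_left d).pow_right n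
      calc (y ^ d) ^ (n + 1) * u * ((y ^ d) ^ (n + 1))⁻¹
          = y ^ d * ((y ^ d) ^ n * u * ((y ^ d) ^ n)⁻¹) * (y ^ d)⁻¹ := by rw [pow_succ']; group
        _ = y ^ d * u * (c ^ n * (y ^ d)⁻¹) := by rw [ih]; group
        _ = y ^ d * u * ((y ^ d)⁻¹ * c ^ n) := by rw [(hdc.inv_left).eq]
        _ = u * c ^ (n + 1) := by rw [← mul_assoc, hstep, pow_succ']; group
  have hcr : c ^ r = 1 := by
    have h7 := hpow r
    rw [← pow_mul, mul_comm d r, pow_mul, ((hyrU u hu).pow_left d).eq, mul_inv_cancel_right] at h7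
    exact (left_eq_mul.1 h7)
  have hc1 : c = 1 := by
    have h8 : c ^ 2 = 1 := hU c (hlt (Subgroup.mem_inf.1 h6).1)
    have := pow_gcd_eq_one.2 ⟨h8, hcr⟩
    rwa [(Nat.Prime.coprime_iff_not_dvd Nat.prime_two).2 hrodd, pow_one] at this
  rw [hc1, mul_one] at hstep
  have hcd : Commute (y ^ d) u := by
    show y ^ d * u = u * y ^ d
    calc y ^ d * u = y ^ d * u * (y ^ d)⁻¹ * y ^ d := by group
      _ = u * y ^ d := by rw [hstep]
  exact (hfix y u d hcd (hyrU u hu) (Nat.Coprime.symm ((Nat.Prime.coprime_iff_not_dvd hr).2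
    fun h => by have := Nat.le_of_dvd hd h; omega))).eq.symm

theorem involves_s3 {X : Type*} [Group X] [Finite X] {M : Subgroup X} {b w : X} (hb : b ∈ M)
    (hw : w ∈ M) (hb2 : orderOf b = 2) (hw3 : orderOf w = 3) (h : b * w * b⁻¹ = w⁻¹) :
    Cfsg.Involves (Equiv.Perm (Fin 3)) ↥M := by
  haveI : Fact (Nat.Prime 3) := ⟨Nat.prime_three⟩
  obtain ⟨K, R, hn, ⟨f⟩⟩ := CfsgLib.Inv.InvolvesDih.involves_of_inverted (G := ↥M) (p := 3) (by norm_num)
    (x := ⟨b, hb⟩) (y := ⟨w, hw⟩) ⟨1, by rw [pow_one, Subgroup.orderOf_mk, hb2]⟩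
    ⟨1, by rw [pow_one, Subgroup.orderOf_mk, hw3]⟩
    (fun e => by have e1 : w = 1 := congrArg Subtype.val e; rw [e1] at hw3; simp at hw3) (Subtype.ext h)
  obtain ⟨e⟩ := Cfsg.Agent.S2759.exists_s3_iso
  exact ⟨K, R, hn, ⟨f.trans e⟩⟩

/-- Let M and V be subgroups of a finite group with V an elementary abelian 2-group, M normalizing V and acting faithfully on it (M ∩ C(V) = 1), and C_M(O_{2'}(M)) ≤ O_{2'}(M). If some elementary abelian 2-subgroup A of M satisfies |V : C_V(A)| < |A|², then M has a section isomorphic to the symmetric group of degree 3. -/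
theorem result {X : Type*} [Group X] [Finite X] (M V : Subgroup X) (hV : Cfsg.IsElementaryAbelian 2 V) (hMV : M ≤ Subgroup.normalizer (V : Set X)) (hfaith : M ⊓ Subgroup.centralizer (V : Set X) = ⊥) (hcon : Subgroup.centralizer (Cfsg.pPrimeCore 2 ↥M : Set ↥M) ≤ Cfsg.pPrimeCore 2 ↥M) (A : Subgroup X) (hAM : A ≤ M) (hA : Cfsg.IsElementaryAbelian 2 A) (hsmall : (V ⊓ Subgroup.centralizer (A : Set X)).relIndex V < Nat.card A ^ 2) : Cfsg.Involves (Equiv.Perm (Fin 3)) ↥M := by
  classical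
  haveI : Fact (Nat.Prime 2) := ⟨Nat.prime_two⟩
  by_contra hno
  have C := CfsgLib.Solv.FFP.ctx_of hV hMV hfaith hcon
  set Q := (Cfsg.pPrimeCore 2 ↥M).map M.subtype with hQ
  suffices key : ∀ (n : ℕ) (A : Subgroup X), Nat.card A ≤ n → A ≤ M → Cfsg.IsElementaryAbelian 2 A →
      Nat.card A ^ 2 * Nat.card (V ⊓ Subgroup.centralizer (A : Set X) : Subgroup X) ≤ Nat.card V by
    have h := key _ A le_rfl hAM hA
    have h1 := ((V ⊓ Subgroup.centralizer (A : Set X)).subgroupOf V).card_mul_index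
    rw [Nat.card_congr (Subgroup.subgroupOfEquivOfLe inf_le_left).toEquiv] at h1
    rw [← h1, mul_comm] at h
    have := Nat.le_of_mul_le_mul_left h Nat.card_pos
    change ((V ⊓ Subgroup.centralizer (A : Set X)).subgroupOf V).index < _ at hsmall
    omega
  intro n
  induction n with
  | zero => intro A h; exact absurd (Nat.le_zero.1 h) Nat.card_pos.ne'
  | succ n ih =>
    intro A hn hAM hA
    by_cases hA1 : A = ⊥
    · rw [hA1, CfsgLib.Solv.FFP.centralizer_bot_inf, Subgroup.card_bot]; simp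
    haveI := hA.1
    have hAp : IsPGroup 2 A := fun a => ⟨1, Subtype.ext (by simpa using hA.2 a a.2)⟩
    have hAQ : A ≤ Subgroup.normalizer (Q : Set X) := hAM.trans C.hHQ
    have hcopA : (Nat.card A).Coprime (Nat.card Q) := by
      obtain ⟨k, hk⟩ := hAp.exists_card_eq
      rw [hk]; exact (C.hcop.pow_right k).symm
    obtain ⟨B, hBA, ⟨a, ha, hBa⟩, hQB⟩ : ∃ B : Subgroup X, B ≤ A ∧
        (∃ a ∈ A, B ⊔ Subgroup.zpowers a = A) ∧
        ¬ Q ⊓ Subgroup.centralizer (B : Set X) ≤ Subgroup.centralizer (A : Set X) := by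
      by_contra h
      push Not at h
      have h1 := CfsgLib.Solv.le_of_cocyclic_centralizers hAQ hcopA
        (W := Subgroup.centralizer (A : Set X)) h
      exact hA1 (le_bot_iff.1 ((le_inf le_rfl (Subgroup.le_centralizer_iff.1 h1)).trans
        (C.inf_centralizer_Q hAM hAp).le))
    have hBlt : B < A := lt_of_le_of_ne hBA fun e => hQB (e ▸ inf_le_right)
    have hcardA : Nat.card A ≤ Nat.card B * 2 := by
      have hcard : Nat.card (Subgroup.zpowers a) ≤ 2 := by
        rw [Nat.card_zpowers]; exact orderOf_le_of_pow_eq_one two_pos (hA.2 a ha)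
      refine le_trans ?_ (Nat.mul_le_mul_left _ hcard)
      rw [← Nat.card_prod]
      refine Nat.card_le_card_of_surjective
        (fun x : B × Subgroup.zpowers a => (⟨(x.2 : X) * x.1,
          mul_mem (Subgroup.zpowers_le.2 ha x.2.2) (hBA x.1.2)⟩ : A)) ?_
      rintro ⟨y, hy⟩
      rw [← hBa] at hy
      have hn' : B ≤ Subgroup.normalizer (Subgroup.zpowers a : Set X) := by
        refine le_trans (fun b hb => ?_) (Subgroup.centralizer_le_normalizer _)
        exact Subgroup.mem_centralizer_iff.2 fun z hz =>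
          CfsgLib.Solv.commute_of_isElementaryAbelian hA (Subgroup.zpowers_le.2 ha hz) (hBA hb)
      obtain ⟨m, hm, x, hx, e⟩ := CfsgLib.Solv.exists_mul_of_mem_sup hn' hy
      exact ⟨(⟨x, hx⟩, ⟨m, hm⟩), Subtype.ext e.symm⟩
    have hBea : Cfsg.IsElementaryAbelian 2 B := ⟨⟨⟨fun x y => Subtype.ext
      (CfsgLib.Solv.commute_of_isElementaryAbelian hA (hBA x.2) (hBA y.2))⟩⟩, fun x hx => hA.2 x (hBA hx)⟩
    have hBn : Nat.card B ≤ n := by
      have hlt : Nat.card B < Nat.card A := lt_of_le_of_ne (Subgroup.card_le_of_le hBA)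
        fun e => hBlt.ne (Subgroup.eq_of_le_of_card_ge hBA e.ge)
      omega
    have hIH := ih B hBn (hBA.trans hAM) hBea
    set U := V ⊓ Subgroup.centralizer (B : Set X) with hUdef
    set Q' := Q ⊓ Subgroup.centralizer (B : Set X) with hQ'
    have hQ'H : Q' ≤ M := inf_le_left.trans C.hQH
    have hXB : ⁅Q', A⁆ ≤ Subgroup.centralizer (B : Set X) := by
      have hBB : A ≤ Subgroup.centralizer (B : Set X) := fun x hx =>
        Subgroup.mem_centralizer_iff.2 fun b hb =>
          CfsgLib.Solv.commute_of_isElementaryAbelian hA (hBA hb) hx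
      refine Subgroup.commutator_le.2 fun q hq b hb => ?_
      rw [commutatorElement_def]
      exact mul_mem (mul_mem (mul_mem hq.2 (hBB hb)) (inv_mem hq.2)) (inv_mem (hBB hb))
    have hXQ : ⁅Q', A⁆ ≤ Q := (Subgroup.commutator_mono inf_le_left le_rfl).trans
      (CfsgLib.Solv.commutator_le_of_le_normalizer hAQ)
    obtain ⟨q, hq, b, hb, hz⟩ : ∃ q ∈ Q', ∃ b ∈ A, ⁅q, b⁆ ∉ Subgroup.centralizer (U : Set X) := by
      by_contra h
      push Not at h
      have h1 : ⁅Q', A⁆ ≤ Subgroup.centralizer (U : Set X) := Subgroup.commutator_le.2 h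
      have h2 := CfsgLib.Solv.thompson_pq (P := B) (Q := ⁅Q', A⁆) (hAp.to_le hBA)
        (Nat.Coprime.coprime_dvd_left (Subgroup.card_dvd_of_le hXQ) C.hcop)
        (Subgroup.le_centralizer_iff.1 hXB) V C.isPGroup ((hBA.trans hAM).trans C.hHV)
        ((hXQ.trans C.hQH).trans C.hHV) (Subgroup.le_centralizer_iff.1 h1)
      exact hQB (Subgroup.commutator_eq_bot_iff_le_centralizer.1
        (le_bot_iff.1 ((le_inf (hXQ.trans C.hQH) h2).trans C.hf.le)))
    set z := ⁅q, b⁆ with hzdef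
    have hzX : z ∈ ⁅Q', A⁆ := Subgroup.commutator_mem_commutator hq hb
    have hzM : z ∈ M := C.hQH (hXQ hzX)
    have hzU : z ∈ Subgroup.normalizer (U : Set X) :=
      CfsgLib.Solv.le_normalizer_inf_of_le (A := ⁅Q', A⁆) ((hXQ.trans C.hQH).trans C.hHV)
        (hXB.trans (le_trans (Subgroup.centralizer_le_normalizer _)
          (CfsgLib.Solv.FFP.normalizer_le_normalizer_cent _))) hzX
    have hb2 : b * b = 1 := by rw [← pow_two]; exact hA.2 b hb
    have hb1 : b ≠ 1 := fun e => hz (by rw [hzdef, e, commutatorElement_one_right]; exact one_mem _)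
    have hinv : b * z * b⁻¹ = z⁻¹ := by
      have e : b⁻¹ = b := inv_eq_of_mul_eq_one_right hb2
      calc b * z * b⁻¹ = b * q * b * q⁻¹ * (b⁻¹ * b⁻¹) := by rw [hzdef, commutatorElement_def]; group
        _ = b * q * b⁻¹ * q⁻¹ := by rw [e, hb2, mul_one]
        _ = z⁻¹ := by rw [hzdef, commutatorElement_def]; group
    set N := orderOf z with hN
    have hNpos : 0 < N := orderOf_pos z
    obtain ⟨k, hk, hkmax⟩ := Finset.exists_max_image
      (N.divisors.filter fun k => z ^ k ∉ Subgroup.centralizer (U : Set X)) id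
      ⟨1, Finset.mem_filter.2 ⟨Nat.one_mem_divisors.2 hNpos.ne', by rwa [pow_one]⟩⟩
    obtain ⟨hkN, hky⟩ := Finset.mem_filter.1 hk
    have hkN' : k ∣ N := (Nat.mem_divisors.1 hkN).1
    have hk0 : 0 < k := Nat.pos_of_dvd_of_pos hkN' hNpos
    obtain ⟨l, hl⟩ := hkN'
    have hl1 : l ≠ 1 := by
      rintro rfl
      rw [mul_one] at hl
      exact hky (by rw [← hl, pow_orderOf_eq_one]; exact one_mem _)
    obtain ⟨r, hr, hrl⟩ := Nat.exists_prime_and_dvd hl1
    have hrN : k * r ∣ N := hl ▸ Nat.mul_dvd_mul_left k hrl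
    have hyr : z ^ (k * r) ∈ Subgroup.centralizer (U : Set X) := by
      by_contra h
      have h3 : k * r ≤ k := hkmax (k * r) (Finset.mem_filter.2 ⟨Nat.mem_divisors.2 ⟨hrN, hNpos.ne'⟩, h⟩)
      have h4 := hr.two_le
      nlinarith
    have hrN' : r ∣ N := (dvd_mul_left r k).trans hrN
    have hr2 : r ≠ 2 := by
      rintro rfl
      have h5 : 2 ∣ Nat.card Q := hrN'.trans (hN ▸ Subgroup.orderOf_dvd_natCard Q (hXQ hzX))
      exact (Nat.prime_two.coprime_iff_not_dvd.1 C.hcop.symm) h5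
    have hr3 : r ≠ 3 := by
      rintro rfl
      refine hno (involves_s3 (hAM hb) (pow_mem hzM (N / 3)) (orderOf_eq_prime (hA.2 b hb) hb1) ?_ ?_)
      · rw [orderOf_pow_of_dvd (Nat.div_pos (Nat.le_of_dvd hNpos hrN') (by norm_num)).ne'
          (Nat.div_dvd_of_dvd hrN'), ← hN, Nat.div_div_self hrN' hNpos.ne']
      · rw [← conj_pow, hinv, inv_pow]
    have hr5 : 5 ≤ r := by
      have := hr.two_le
      by_contra h
      have h4 : r = 4 := by omega
      exact absurd hr (h4 ▸ (by norm_num))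
    have h4 := small_index (U := U) (fun u hu => hV.2 u hu.1) (C.isPGroup.to_le inf_le_left)
      (b := b) (y := z ^ k) hb2 hr hr5 (by rw [← conj_pow, hinv, inv_pow]) (pow_mem hzU k)
      (by rw [← pow_mul]; exact hyr) hky
    have h5 : Nat.card (V ⊓ Subgroup.centralizer (A : Set X) : Subgroup X) ≤
        Nat.card (U ⊓ Subgroup.centralizer ({b} : Set X) : Subgroup X) :=
      Subgroup.card_le_of_le (le_inf (inf_le_inf_left V (Subgroup.centralizer_le hBA))
        (inf_le_right.trans (Subgroup.centralizer_le (by simpa using hb))))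
    calc Nat.card A ^ 2 * Nat.card (V ⊓ Subgroup.centralizer (A : Set X) : Subgroup X)
        ≤ (Nat.card B * 2) ^ 2 * Nat.card (U ⊓ Subgroup.centralizer ({b} : Set X) : Subgroup X) :=
          Nat.mul_le_mul (Nat.pow_le_pow_left hcardA 2) h5
      _ = Nat.card B ^ 2 * (Nat.card (U ⊓ Subgroup.centralizer ({b} : Set X) : Subgroup X) * 4) := by ring
      _ ≤ Nat.card B ^ 2 * Nat.card U := Nat.mul_le_mul_left _ h4
      _ ≤ _ := hIH

end Cfsg.Agent.S3755
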