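import Cfsg.Statements.S3760


set_option autoImplicit false
open Cfsg

namespace Cfsg.Agent.S3760

/-- Let the group G act transitively on a set X, let x ∈ X with stabilizer H = G_x, and let K ≤ H. Then N_G(K) acts transitively on the set of fixed points of K if and only if every G-conjugate of K contained in H is already an H-conjugate of K. -/
theorem result {G : Type*} [Group G] {X : Type*} [MulAction G X] (htrans : ∀ a b : X, ∃ g : G, g • a = b) (x : X) (K : Subgroup G) (hK : K ≤ MulAction.stabilizer G x) : (∀ a b : X, (∀ k ∈ K, k • a = a) → (∀ k ∈ K, k • b = b) → ∃ g ∈ Subgroup.normalizer (K : Set G), g • a = b) ↔ ∀ g : G, K.map (MulAut.conj g).toMonoidHom ≤ MulAction.stabilizer G x → ∃ h ∈ MulAction.stabilizer G x, K.map (MulAut.conj g).toMonoidHom = K.map (MulAut.conj h).toMonoidHom := by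
  classical
  set H := MulAction.stabilizer G x
  have hfix : ∀ g : G, (∀ k ∈ K, k • g • x = g • x) ↔ K.map (MulAut.conj g⁻¹).toMonoidHom ≤ H := by
    intro g
    constructor
    · rintro h _ ⟨k, hk, rfl⟩
      show (g⁻¹ * k * g⁻¹⁻¹) • x = x
      rw [inv_inv, mul_smul, mul_smul, h k hk, inv_smul_smul]
    · intro h k hk
      have h1 : (g⁻¹ * k * g⁻¹⁻¹) • x = x := h ⟨k, hk, rfl⟩
      rw [inv_inv, mul_smul, mul_smul, inv_smul_eq_iff] at h1
      exact h1
  have hnorm : ∀ {g : G}, K.map (MulAut.conj g).toMonoidHom = K → g ∈ Subgroup.normalizer (K : Set G) := by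
    intro g h
    refine Subgroup.mem_normalizer_iff.2 fun k => ?_
    constructor
    · intro hk; rw [← h]; exact ⟨k, hk, rfl⟩
    · intro hk; rw [← h] at hk
      obtain ⟨k', hk', e⟩ := hk
      exact (MulAut.conj g).injective e ▸ hk'
  have hmm : ∀ a b : G, (K.map (MulAut.conj a).toMonoidHom).map (MulAut.conj b).toMonoidHom = K.map (MulAut.conj (b * a)).toMonoidHom := by
    intro a b
    rw [Subgroup.map_map, map_mul]
    rfl
  constructor
  · intro htr g hg
    have h1 : ∀ k ∈ K, k • g⁻¹ • x = g⁻¹ • x := (hfix g⁻¹).2 (by rw [inv_inv]; exact hg)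
    obtain ⟨n, hn, hnx⟩ := htr x (g⁻¹ • x) (fun k hk => hK hk) h1
    refine ⟨g * n, ?_, ?_⟩
    · show (g * n) • x = x
      rw [mul_smul, hnx, smul_inv_smul]
    · rw [← hmm n g]
      congr 1
      ext k
      constructor
      · intro hk
        exact ⟨n⁻¹ * k * n, (Subgroup.mem_normalizer_iff''.1 hn k).1 hk, show n * (n⁻¹ * k * n) * n⁻¹ = k by group⟩
      · rintro ⟨k', hk', rfl⟩
        exact (Subgroup.mem_normalizer_iff.1 hn k').1 hk'
  · intro hc a b ha hb
    have key : ∀ c : X, (∀ k ∈ K, k • c = c) → ∃ n ∈ Subgroup.normalizer (K : Set G), n • x = c := by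
      intro c hcf
      obtain ⟨g, rfl⟩ := htrans x c
      obtain ⟨h, hh, he⟩ := hc g⁻¹ ((hfix g).1 hcf)
      refine ⟨g * h, hnorm ?_, by rw [mul_smul, show h • x = x from hh]⟩
      rw [← hmm h g, ← he, hmm, mul_inv_cancel, map_one]
      exact Subgroup.map_id K
    obtain ⟨n, hn, rfl⟩ := key a ha
    obtain ⟨m, hm, rfl⟩ := key b hb
    exact ⟨m * n⁻¹, mul_mem hm (inv_mem hn), by rw [mul_smul, inv_smul_smul]⟩

end Cfsg.Agent.S3760
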