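import Cfsg.Statements.S3763

import Cfsg.Agent.Perm.ExtraTwoRank

set_option autoImplicit false
set_option linter.style.haveILetI false
open Cfsg

namespace Cfsg.Agent.S3763

open CfsgLib.Perm.ExtraTwo

theorem s3763_rank {E : Type*} [Group E] [Finite E] (hE : Cfsg.IsExtraspecial 2 E) {m : ℕ}
    (hcard : Nat.card E = 2 ^ (2 * m + 1)) :
    Cfsg.PRankLE 2 (m + 1) E ∧ ¬ Cfsg.PRankLE 2 (m - 1) E ∧ 1 ≤ m ∧
      (Cfsg.PRankLE 2 m E ↔ excess E ≠ 2 ^ (m + 1)) := by
  have hm : 1 ≤ m := by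
    by_contra h
    obtain rfl : m = 0 := by omega
    have htop : Subgroup.center E = ⊤ := Subgroup.eq_top_of_card_eq _ (by rw [hE.2, hcard]; norm_num)
    have hbot : commutator E = ⊥ := Subgroup.commutator_eq_bot_iff_le_centralizer.2 (fun g _ => Subgroup.mem_centralizer_iff.2 fun b _ => Subgroup.mem_center_iff.1 (htop ▸ Subgroup.mem_top g) b)
    have h2 := hE.2
    rw [← hE.1.2.2, hbot, Subgroup.card_bot] at h2
    norm_num at h2
  obtain ⟨A, hA, hAc, hAp⟩ := exists_elab m E hcard hE.2 hE.1.2.2.le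
  refine ⟨fun B hB _ => card_abelian_le hE hcard B hB, fun h => ?_, hm, ⟨fun h he => ?_, fun he B hB hB2 => ?_⟩⟩
  · have h1 := hAc.trans (h A hA.1 hA.2)
    have := (Nat.pow_le_pow_iff_right one_lt_two).1 h1
    omega
  · have h1 := (hAp he).trans (h A hA.1 hA.2)
    have := (Nat.pow_le_pow_iff_right one_lt_two).1 h1
    omega
  · have h1 := card_abelian_le hE hcard B hB
    obtain ⟨i, hi, hBi⟩ := (Nat.dvd_prime_pow Nat.prime_two).1 (hcard ▸ Subgroup.card_subgroup_dvd_card B)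
    rw [hBi] at h1 ⊢
    have := (Nat.pow_le_pow_iff_right one_lt_two).1 h1
    refine Nat.pow_le_pow_right two_pos ?_
    by_contra hlt
    obtain rfl : i = m + 1 := by omega
    exact he (excess_of_elab hE hcard ⟨hB, hB2⟩ hBi)

/-- Let E be an extraspecial 2-group of order 2^(2n+1). Then the largest elementary abelian subgroups of E have order 2^n or 2^(n+1); and two extraspecial 2-groups of the same order whose largest elementary abelian subgroups have the same order are isomorphic. -/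
theorem result {E : Type*} [Group E] [Finite E] (hE : Cfsg.IsExtraspecial 2 E) (n : ℕ) (hn : Nat.card E = 2 ^ (2 * n + 1)) : ((Cfsg.PRankLE 2 n E ∧ ¬ Cfsg.PRankLE 2 (n - 1) E) ∨ (Cfsg.PRankLE 2 (n + 1) E ∧ ¬ Cfsg.PRankLE 2 n E)) ∧ ∀ (E' : Type*) [Group E'] [Finite E'], Cfsg.IsExtraspecial 2 E' → Nat.card E' = Nat.card E → (∀ k : ℕ, Cfsg.PRankLE 2 k E ↔ Cfsg.PRankLE 2 k E') → Nonempty (E ≃* E') := by
  obtain ⟨h1, h0, hm, hiff⟩ := s3763_rank hE hn
  refine ⟨?_, fun E' _ _ hE' hc hk => ?_⟩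
  · by_cases h : Cfsg.PRankLE 2 n E
    · exact Or.inl ⟨h, h0⟩
    · exact Or.inr ⟨h1, h⟩
  · obtain ⟨-, -, -, hiff'⟩ := s3763_rank hE' (hc.trans hn)
    have hpos : (0:ℤ) < 2 ^ (n + 1) := by positivity
    have hex : excess E = excess E' := by
      rcases excess_eq n E hn hE.2 hE.1.2.2.le with a | ⟨-, a⟩ <;>
        rcases excess_eq n E' (hc.trans hn) hE'.2 hE'.1.2.2.le with b | ⟨-, b⟩
      · rw [a, b]
      · exact absurd a (hiff.1 ((hk n).2 (hiff'.2 (by rw [b]; exact ((neg_lt_self hpos).ne)))))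
      · exact absurd b (hiff'.1 ((hk n).1 (hiff.2 (by rw [a]; exact ((neg_lt_self hpos).ne)))))
      · rw [a, b]
    obtain ⟨a, ha, ha1⟩ := exists_gen_center hE.2
    obtain ⟨b, hb, hb1⟩ := exists_gen_center hE'.2
    obtain ⟨φ, -⟩ := iso_of_excess _ E E' rfl hc hE.2 hE.1.2.2.le hE'.2 hE'.1.2.2.le hex a ha ha1 b hb hb1
    exact ⟨φ⟩

end Cfsg.Agent.S3763
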