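import Cfsg.Statements.S3764
import Cfsg.Agent.Solv.HBGroup
-- import your own Cfsg.Agent.* helpers here

set_option autoImplicit false
open Cfsg

namespace Cfsg.Agent.S3764

/-- Let p, q, r be distinct primes and let X, Q, V be subgroups of a finite group with X of order r, Q an extraspecial q-group normalized by X with C_Q(X) = Z(Q), and V an elementary abelian p-group normalized by X and Q on which XQ acts faithfully ((X ⊔ Q) ∩ C(V) = 1). If C_V(X) = 1, then q = 2, r = 2^n + 1 for some n, and Q has order 2^(2n+1). -/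
theorem result {G : Type*} [Group G] [Finite G] {p q r : ℕ} (hp : p.Prime) (hq : q.Prime) (hr : r.Prime) (hpq : p ≠ q) (hpr : p ≠ r) (hqr : q ≠ r) (X Q V : Subgroup G) (hX : Nat.card X = r) (hQ : Cfsg.IsExtraspecial q ↥Q) (hXQ : X ≤ Subgroup.normalizer (Q : Set G)) (hCQ : Q ⊓ Subgroup.centralizer (X : Set G) = (Subgroup.center ↥Q).map Q.subtype) (hV : Cfsg.IsElementaryAbelian p V) (hXV : X ≤ Subgroup.normalizer (V : Set G)) (hQV : Q ≤ Subgroup.normalizer (V : Set G)) (hfaith : (X ⊔ Q) ⊓ Subgroup.centralizer (V : Set G) = ⊥) (hCV : V ⊓ Subgroup.centralizer (X : Set G) = ⊥) : q = 2 ∧ ∃ n : ℕ, r = 2 ^ n + 1 ∧ Nat.card Q = 2 ^ (2 * n + 1) := by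
  classical
  haveI := Fact.mk hp
  haveI := Fact.mk hq
  haveI := Fact.mk hr
  obtain ⟨⟨hQp, -, hQcomm⟩, hZcard⟩ := hQ
  haveI : Group.IsNilpotent Q := hQp.isNilpotent
  obtain ⟨x, hxX, hxne⟩ : ∃ x ∈ X, x ≠ 1 := X.bot_or_exists_ne_one.resolve_left fun e => by
    rw [e, Subgroup.card_bot] at hX; exact hr.one_lt.ne hX
  have hord : orderOf x = r := by
    have h1 : orderOf x ∣ r := hX ▸ Subgroup.orderOf_mk x hxX ▸ orderOf_dvd_natCard (⟨x, hxX⟩ : X)
    exact ((Nat.dvd_prime hr).1 h1).resolve_left fun e => hxne (orderOf_eq_one_iff.1 e)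
  have hXgen : X = Subgroup.zpowers x := by
    refine (Subgroup.eq_of_le_of_card_ge (Subgroup.zpowers_le.2 hxX) ?_).symm
    rw [Nat.card_zpowers, hord, hX]
  have hcent : Subgroup.centralizer (X : Set G) = Subgroup.centralizer {x} := by
    rw [hXgen, Subgroup.zpowers_eq_closure, Subgroup.centralizer_closure]
  obtain ⟨e, he⟩ := hQp.exists_card_eq
  have hrQ : ∀ u : Q, u ^ r = 1 → u = 1 := by
    intro u hu
    rcases (Nat.dvd_prime hr).1 (orderOf_dvd_of_pow_eq_one hu) with h | h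
    · exact orderOf_eq_one_iff.1 h
    · exact absurd ((Nat.prime_dvd_prime_iff_eq hr hq).1
        (hr.dvd_of_dvd_pow (he ▸ h ▸ orderOf_dvd_natCard u))) hqr.symm
  -- the automorphism
  have hxN := hXQ hxX
  let θ : Q ≃* Q := Subgroup.normalizerMonoidHom Q ⟨x, hxN⟩
  have hθv : ∀ u : Q, (θ u : G) = x * u * x⁻¹ := fun u => rfl
  have hfixZ : ∀ u : Q, θ u = u ↔ u ∈ Subgroup.center Q := by
    intro u
    have h1 : (u : G) ∈ Q ⊓ Subgroup.centralizer (X : Set G) ↔ u ∈ Subgroup.center Q := by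
      rw [hCQ]
      exact ⟨fun ⟨z, hz, hzu⟩ => Subtype.ext hzu ▸ hz, fun hu => ⟨u, hu, rfl⟩⟩
    rw [← h1, hcent]
    constructor
    · intro h
      refine ⟨u.2, Subgroup.mem_centralizer_singleton_iff.2 ?_⟩
      exact (mul_inv_eq_iff_eq_mul.1 ((hθv u).symm.trans (congrArg Subtype.val h))).symm
    · intro h
      refine Subtype.ext ?_
      rw [hθv, mul_inv_eq_iff_eq_mul]
      exact (Subgroup.mem_centralizer_singleton_iff.1 h.2).symm
  have hθit : ∀ (k : ℕ) (u : Q), ((θ^[k] u : Q) : G) = x ^ k * u * (x ^ k)⁻¹ := by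
    intro k
    induction k with
    | zero => intro u; simp
    | succ k ih => intro u; rw [Function.iterate_succ_apply', hθv, ih, pow_succ']; group
  have hfix : ∀ u : Q, u⁻¹ * θ u ∈ Subgroup.center Q → u ∈ Subgroup.center Q := by
    intro u hu
    obtain ⟨d, hd⟩ : ∃ d, d = u⁻¹ * θ u := ⟨_, rfl⟩
    have hu' : θ u = u * d := by rw [hd, mul_inv_cancel_left]
    have hd' : θ d = d := (hfixZ d).2 (hd ▸ hu)
    have h1 : ∀ k : ℕ, θ^[k] u = u * d ^ k := by
      intro k
      induction k with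
      | zero => simp
      | succ k ih => rw [Function.iterate_succ_apply', ih, map_mul, map_pow, hu', hd', pow_succ', mul_assoc]
    have h2 : θ^[r] u = u := Subtype.ext (by rw [hθit, ← hord, pow_orderOf_eq_one]; simp)
    rw [h1] at h2
    rw [← hfixZ u, hu', hrQ d (mul_eq_left.1 h2), mul_one]
  have hcommZ : ∀ a b : Q, a * b * a⁻¹ * b⁻¹ ∈ Subgroup.center Q := fun a b => by
    rw [← hQcomm]
    exact Subgroup.commutator_mem_commutator (Subgroup.mem_top a) (Subgroup.mem_top b)
  -- the module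
  obtain ⟨d, ρ, -, hker, hsum⟩ := CfsgLib.Solv.HB.exists_linear_action V hV
  let g : Q →* Module.End (AlgebraicClosure (ZMod p)) (Fin d → AlgebraicClosure (ZMod p)) :=
    ρ.comp (Subgroup.inclusion hQV)
  have hginj : Function.Injective g := by
    rw [injective_iff_map_eq_one]
    intro u hu
    have h1 : (u : G) ∈ (X ⊔ Q) ⊓ Subgroup.centralizer (V : Set G) :=
      ⟨Subgroup.mem_sup_right u.2, (hker _).1 hu⟩
    rw [hfaith, Subgroup.mem_bot] at h1
    exact Subtype.ext h1
  set S := ρ ⟨x, hXV hxX⟩ with hS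
  have hgS : ∀ u, S * g u = g (θ u) * S := by
    intro u
    rw [hS, MonoidHom.comp_apply, MonoidHom.comp_apply, ← map_mul, ← map_mul]
    congr 1
    refine Subtype.ext ?_
    show x * (u : G) = (θ u : G) * x
    rw [hθv, inv_mul_cancel_right]
  have hxr : (⟨x, hXV hxX⟩ : Subgroup.normalizer (V : Set G)) ^ r = 1 :=
    Subtype.ext (by rw [Subgroup.coe_pow, OneMemClass.coe_one, ← hord, pow_orderOf_eq_one])
  have hSsum : ∑ i ∈ Finset.range r, S ^ i = 0 := hsum _ r hxr (by rw [← hcent]; exact hCV)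
  have hpQ : (Nat.card Q : AlgebraicClosure (ZMod p)) ≠ 0 := CfsgLib.Solv.HB.cast_ne_zero_of_not_dvd
    fun h => hpq ((Nat.prime_dvd_prime_iff_eq hp hq).1 (hp.dvd_of_dvd_pow (he ▸ h)))
  obtain ⟨z₀, hz₀, hz₀ne⟩ : ∃ z ∈ Subgroup.center Q, z ≠ 1 :=
    (Subgroup.center Q).bot_or_exists_ne_one.resolve_left fun h => by
      rw [h, Subgroup.card_bot] at hZcard; exact hq.one_lt.ne hZcard
  have hZgen : ∀ z ∈ Subgroup.center Q, ∃ k : ℕ, z = z₀ ^ k := by
    intro z hz
    obtain ⟨k, hk⟩ := Submonoid.mem_powers_iff _ _ |>.1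
      (mem_powers_of_prime_card (g := (⟨z₀, hz₀⟩ : Subgroup.center Q)) (g' := ⟨z, hz⟩) hZcard
        (fun h => hz₀ne (congrArg Subtype.val h)))
    exact ⟨k, (congrArg Subtype.val hk).symm⟩
  have hz₀q : z₀ ^ q = 1 := by
    have : (⟨z₀, hz₀⟩ : Subgroup.center Q) ^ q = 1 := hZcard ▸ pow_card_eq_one'
    exact congrArg Subtype.val this
  let Ops : Set (Module.End (AlgebraicClosure (ZMod p)) (Fin d → AlgebraicClosure (ZMod p))) :=
    insert S (Set.range g)
  have hops : ∀ h ∈ Ops, Commute (g z₀) h := by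
    rintro h (rfl | ⟨b, rfl⟩)
    · show g z₀ * S = S * g z₀
      rw [hgS, (hfixZ z₀).2 hz₀]
    · exact (show Commute z₀ b from (Subgroup.mem_center_iff.1 hz₀ b).symm).map g
  obtain ⟨U, hUle, hU, hUinv, hsc⟩ := CfsgLib.Solv.HB.exists_scalar_submodule Ops {g z₀}
    (by intro f hf h hh; rw [Finset.mem_singleton] at hf; subst hf; exact hops h hh)
    (by intro f hf; rw [Finset.mem_singleton] at hf; subst hf; exact Set.mem_insert_of_mem _ ⟨z₀, rfl⟩)
    (LinearMap.range (g z₀ - 1))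
    (fun h => hz₀ne (hginj ((sub_eq_zero.1 (LinearMap.range_eq_bot.1 h)).trans (map_one g).symm)))
    (by
      rintro h hh u ⟨v, rfl⟩
      refine ⟨h v, ?_⟩
      rw [← Module.End.mul_apply, ← Module.End.mul_apply,
        (((hops h hh).sub_left (Commute.one_left h))).eq])
  obtain ⟨c, hc⟩ := hsc _ (Finset.mem_singleton_self _)
  haveI : Nontrivial U := Submodule.nontrivial_iff_ne_bot.2 hU
  let gU : Q →* Module.End (AlgebraicClosure (ZMod p)) U :=
    { toFun := fun a => LinearMap.restrict (g a) (hUinv (g a) (Set.mem_insert_of_mem _ ⟨a, rfl⟩))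
      map_one' := LinearMap.ext fun u => Subtype.ext (by simp [LinearMap.restrict_apply])
      map_mul' := fun a b => LinearMap.ext fun u => Subtype.ext (by simp [LinearMap.restrict_apply]) }
  let SU : Module.End (AlgebraicClosure (ZMod p)) U := LinearMap.restrict S (hUinv _ (Set.mem_insert _ _))
  have hSUit : ∀ (i : ℕ) (u : U), ((SU ^ i) u).1 = (S ^ i) u.1 := by
    intro i
    induction i with
    | zero => intro u; simp
    | succ i ihi => intro u; rw [pow_succ, pow_succ, Module.End.mul_apply, ihi]; rfl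
  have hzc : ∀ k : ℕ, gU (z₀ ^ k) = c ^ k • (1 : Module.End (AlgebraicClosure (ZMod p)) U) := by
    intro k
    have h1 : gU z₀ = c • (1 : Module.End (AlgebraicClosure (ZMod p)) U) :=
      LinearMap.ext fun u => Subtype.ext (hc u.1 u.2)
    rw [map_pow, h1, smul_pow, one_pow]
  obtain ⟨w, hw, hw0⟩ := Submodule.exists_mem_ne_zero_of_ne_bot hU
  have hscal : ∀ k : ℕ, gU (z₀ ^ k) = 1 → c ^ k = 1 := fun k hk => by
    rw [hzc] at hk
    have h1 : c ^ k • w = w := congrArg (fun f => (f (⟨w, hw⟩ : U)).1) hk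
    exact smul_left_injective _ hw0 (h1.trans (one_smul _ w).symm)
  have hordc : orderOf c = q := by
    refine orderOf_eq_prime (hscal q (by rw [hz₀q, map_one])) fun hc1 => hw0 ?_
    refine CfsgLib.Solv.HB.eq_zero_of_fixed_of_mem_range (g z₀) (n := Nat.card Q) ?_ hpQ ?_ (hUle hw)
    · rw [← map_pow, pow_card_eq_one', map_one]
    · rw [hc w hw, hc1, one_smul]
  obtain ⟨n, hn, hn'⟩ := CfsgLib.Solv.HB.central_type_count gU
    (fun z hz => by
      obtain ⟨k, rfl⟩ := hZgen z hz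
      exact ⟨c ^ k, hzc k⟩)
    hcommZ
    (fun u hu => by
      by_contra hall
      push Not at hall
      apply hu
      rw [Subgroup.mem_center_iff]
      intro a
      obtain ⟨k, hk⟩ := hZgen _ (hcommZ a u)
      have h2 : z₀ ^ k = 1 := by
        obtain ⟨j, hj⟩ := hordc ▸ orderOf_dvd_of_pow_eq_one (hscal k (hk ▸ hall a))
        rw [hj, pow_mul, hz₀q, one_pow]
      exact mul_inv_eq_iff_eq_mul.1 (mul_inv_eq_one.1 (hk.trans h2)))
    θ (fun z hz => (hfixZ z).2 hz) hfix (CfsgLib.Solv.HB.cast_ne_zero_of_not_dvd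
      fun h => hpr ((Nat.prime_dvd_prime_iff_eq hp hr).1 h)) SU
    (LinearMap.ext fun u => Subtype.ext (by
      rw [hSUit, hS, ← map_pow, hxr, map_one]; rfl))
    (fun a => LinearMap.ext fun u => Subtype.ext (LinearMap.congr_fun (hgS a) u.1))
    (LinearMap.ext fun u => Subtype.ext (by
      rw [LinearMap.sum_apply, AddSubmonoidClass.coe_finsetSum]
      simp only [hSUit]
      rw [← LinearMap.sum_apply, hSsum]
      rfl))
  have hne : Subgroup.center Q ≠ ⊤ := by
    intro h
    have hcm : commutator Q = ⊥ := by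
      rw [commutator_def, Subgroup.commutator_eq_bot_iff_le_centralizer]
      intro a _
      exact Subgroup.mem_centralizer_iff.2 fun b _ =>
        Subgroup.mem_center_iff.1 (h ▸ Subgroup.mem_top a) b
    rw [hcm] at hQcomm
    rw [← hQcomm, Subgroup.card_bot] at hZcard
    exact hq.one_lt.ne hZcard
  have hidx : 1 < Nat.card (Q ⧸ Subgroup.center Q) := Subgroup.one_lt_index_of_ne_top hne
  have hcardQ : Nat.card Q = q * (n * n) := by
    rw [(Subgroup.center Q).card_eq_card_quotient_mul_card_subgroup, hZcard, hn, mul_comm]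
  rcases hn' with rfl | hn'
  · omega
  obtain ⟨j, -, rfl⟩ := (Nat.dvd_prime_pow hq).1
    (show n ∣ q ^ e from he ▸ hcardQ ▸ Dvd.intro (q * n) (by ring))
  have hj : j ≠ 0 := by
    rintro rfl
    rw [pow_zero, one_mul] at hn
    omega
  rcases hq.eq_two_or_odd with h2 | hodd
  · subst h2
    refine ⟨rfl, j, hn'.symm, ?_⟩
    rw [hcardQ]; ring
  · exfalso
    have : r % 2 = 0 := by rw [← hn', Nat.add_mod, Nat.pow_mod, hodd]; simp
    rcases hr.eq_two_or_odd with h2 | h2
    · have := Nat.one_lt_pow hj hq.one_lt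
      omega
    · omega

end Cfsg.Agent.S3764
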