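import Cfsg.Statements.S3765
import Cfsg.Agent.Solv.HBGroup
-- import your own Cfsg.Agent.* helpers here

set_option autoImplicit false
open Cfsg

namespace Cfsg.Agent.S3765

/-- Let p, q, r be distinct primes and let X, Q, V be subgroups of a finite group with X of order r normalizing the q-group Q and acting faithfully on it (X ∩ C(Q) = 1), and V a nontrivial elementary abelian p-group normalized by X and Q on which XQ acts faithfully. If q = 2 and r has the form 2^n + 1, assume in addition that Q is abelian. Then C_V(X) ≠ 1. -/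
theorem result {G : Type*} [Group G] [Finite G] {p q r : ℕ} (hp : p.Prime) (hq : q.Prime) (hr : r.Prime) (hpq : p ≠ q) (hpr : p ≠ r) (hqr : q ≠ r) (X Q V : Subgroup G) (hX : Nat.card X = r) (hQ : IsPGroup q Q) (hXQ : X ≤ Subgroup.normalizer (Q : Set G)) (hXfaith : X ⊓ Subgroup.centralizer (Q : Set G) = ⊥) (hV : Cfsg.IsElementaryAbelian p V) (hV1 : V ≠ ⊥) (hXV : X ≤ Subgroup.normalizer (V : Set G)) (hQV : Q ≤ Subgroup.normalizer (V : Set G)) (hfaith : (X ⊔ Q) ⊓ Subgroup.centralizer (V : Set G) = ⊥) (hexc : q = 2 → (∃ n : ℕ, r = 2 ^ n + 1) → IsMulCommutative Q) : V ⊓ Subgroup.centralizer (X : Set G) ≠ ⊥ := by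
  haveI := Fact.mk hp
  haveI := Fact.mk hq
  haveI := Fact.mk hr
  haveI : Group.IsNilpotent Q := hQ.isNilpotent
  intro hfix
  obtain ⟨x, hxX, hxne⟩ : ∃ x ∈ X, x ≠ 1 := X.bot_or_exists_ne_one.resolve_left fun e => by
    rw [e, Subgroup.card_bot] at hX; exact hr.one_lt.ne hX
  have hord : orderOf x = r := by
    have h1 : orderOf x ∣ r := hX ▸ Subgroup.orderOf_mk x hxX ▸ orderOf_dvd_natCard (⟨x, hxX⟩ : X)
    exact ((Nat.dvd_prime hr).1 h1).resolve_left fun e => hxne (orderOf_eq_one_iff.1 e)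
  have hXgen : X = Subgroup.zpowers x := by
    refine (Subgroup.eq_of_le_of_card_ge (Subgroup.zpowers_le.2 hxX) ?_).symm
    rw [Nat.card_zpowers, hord, hX]
  have hfix' : V ⊓ Subgroup.centralizer {x} = ⊥ := by
    rwa [hXgen, Subgroup.zpowers_eq_closure, Subgroup.centralizer_closure] at hfix
  obtain ⟨e, he⟩ := hQ.exists_card_eq
  have hnd : ∀ t : ℕ, t.Prime → t ≠ q → ¬ t ∣ Nat.card Q := fun t ht htq h =>
    htq ((Nat.prime_dvd_prime_iff_eq ht hq).1 (ht.dvd_of_dvd_pow (he ▸ h)))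
  rcases CfsgLib.Solv.HB.centralized_or_exceptional_group V hV hr hpr.symm x hord (hXV hxX) hfix' Q hQV
      (hXQ hxX) (hnd p hp hpq) (hnd r hr hqr.symm) with h | ⟨⟨a, ha, b, hb, hab⟩, s, m, hs, hsd, hm, hrm⟩
  · apply hxne
    rw [← Subgroup.mem_bot, ← hXfaith]
    refine ⟨hxX, Subgroup.mem_centralizer_iff.2 fun y hy => ?_⟩
    have h1 : x * y * x⁻¹ * y⁻¹ ∈ (X ⊔ Q) ⊓ Subgroup.centralizer (V : Set G) :=
      ⟨mul_mem (mul_mem (mul_mem (Subgroup.mem_sup_left hxX) (Subgroup.mem_sup_right hy))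
        (Subgroup.mem_sup_left (inv_mem hxX))) (Subgroup.mem_sup_right (inv_mem hy)), h y hy⟩
    rw [hfaith, Subgroup.mem_bot] at h1
    exact (mul_inv_eq_iff_eq_mul.1 (mul_inv_eq_one.1 h1)).symm
  · have hsq : s = q := (Nat.prime_dvd_prime_iff_eq hs hq).1 (hs.dvd_of_dvd_pow (he ▸ hsd))
    subst hsq
    rcases hs.eq_two_or_odd with h2 | hodd
    · haveI := hexc h2 ⟨m, h2 ▸ hrm⟩
      exact hab (congrArg Subtype.val (mul_comm' (⟨a, ha⟩ : Q) ⟨b, hb⟩))
    · have : r % 2 = 0 := by rw [hrm, Nat.add_mod, Nat.pow_mod, hodd]; simp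
      rcases hr.eq_two_or_odd with h2 | h2
      · have := Nat.one_lt_pow (by omega : m ≠ 0) hs.one_lt
        omega
      · omega

end Cfsg.Agent.S3765
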