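import Cfsg.Statements.S3766
import Cfsg.Agent.Inv.Component

set_option autoImplicit false
open Cfsg

namespace Cfsg.Agent.S3766


open scoped commutatorElement


/-- Let G be a finite solvable group and N a normal subgroup of G. Call a pair V < U of normal subgroups of G a chief factor of G when no normal subgroup of G lies strictly between them; an element g centralizes the chief factor U/V when u g u⁻¹ g⁻¹ ∈ V for all u ∈ U. Then an element of G lies in the Fitting subgroup F(N) if and only if it lies in N and centralizes every chief factor of G; and also if and only if it lies in N and centralizes every chief factor U/V of G with U ≤ F(N). -/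
theorem result {G : Type*} [Group G] [Finite G] (hG : Group.IsSolvable G) (N : Subgroup G) [N.Normal] (g : G) : (g ∈ (Cfsg.fittingSubgroup ↥N).map N.subtype ↔ g ∈ N ∧ ∀ U V : Subgroup G, (U.Normal ∧ V.Normal ∧ V < U ∧ ∀ W : Subgroup G, W.Normal → V ≤ W → W ≤ U → W = V ∨ W = U) → ∀ u ∈ U, u * g * u⁻¹ * g⁻¹ ∈ V) ∧ (g ∈ (Cfsg.fittingSubgroup ↥N).map N.subtype ↔ g ∈ N ∧ ∀ U V : Subgroup G, (U.Normal ∧ V.Normal ∧ V < U ∧ ∀ W : Subgroup G, W.Normal → V ≤ W → W ≤ U → W = V ∨ W = U) → U ≤ (Cfsg.fittingSubgroup ↥N).map N.subtype → ∀ u ∈ U, u * g * u⁻¹ * g⁻¹ ∈ V) := by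

  classical
  open CfsgLib.Solv in
  haveI := hG
  set F := (Cfsg.fittingSubgroup ↥N).map N.subtype with hF
  have hFN : F ≤ N := Subgroup.map_subtype_le _
  haveI hchar := CfsgLib.Inv.fitting_characteristic (G := ↥N)
  haveI hFn : F.Normal := normal_map_subtype_of_characteristic (Cfsg.fittingSubgroup ↥N)
  haveI := CfsgLib.Inv.fitting_nilpotent (G := ↥N)
  have hFnil : Group.IsNilpotent F :=
    Group.nilpotent_of_mulEquiv (Subgroup.equivMapOfInjective _ _ N.subtype_injective)
  obtain ⟨n, hn⟩ := (Subgroup.isNilpotent_iff_lowerCentralSeries F).1 hFnil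
  -- members of `F` centralize all chief factors
  have hfwd : g ∈ F → g ∈ N ∧ ∀ U V : Subgroup G, (U.Normal ∧ V.Normal ∧ V < U ∧ ∀ W : Subgroup G,
      W.Normal → V ≤ W → W ≤ U → W = V ∨ W = U) → ∀ u ∈ U, u * g * u⁻¹ * g⁻¹ ∈ V := by
    intro hg
    refine ⟨hFN hg, ?_⟩
    rintro U V ⟨hUn, hVn, hlt, hchief⟩ u hu
    haveI := hUn; haveI := hVn
    have hW : ⁅U, F⁆ ⊔ V ≤ U := sup_le (Subgroup.commutator_le_left U F) hlt.le
    rcases hchief (⁅U, F⁆ ⊔ V) inferInstance le_sup_right hW with h | h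
    · rw [← h]
      exact Subgroup.mem_sup_left (Subgroup.commutator_mem_commutator hu hg)
    exfalso
    have hind : ∀ k, U ≤ F.lowerCentralSeries k ⊔ V := by
      intro k
      induction k with
      | zero => exact h ▸ sup_le_sup_right (Subgroup.commutator_le_right U F) V
      | succ k ih =>
        refine h ▸ sup_le (le_trans (Subgroup.commutator_mono ih le_rfl) ?_) le_sup_right
        rw [Subgroup.commutator_le]
        intro x hx f hf
        obtain ⟨l, hl, v, hv, rfl⟩ := Subgroup.mem_sup_of_normal_right.1 hx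
        rw [show ⁅l * v, f⁆ = l * ⁅v, f⁆ * l⁻¹ * ⁅l, f⁆ by simp only [commutatorElement_def]; group]
        refine mul_mem (Subgroup.mem_sup_right (hVn.conj_mem _ ?_ l))
          (Subgroup.mem_sup_left (Subgroup.commutator_mem_commutator hl hf))
        rw [show ⁅v, f⁆ = v * (f * v⁻¹ * f⁻¹) by rw [commutatorElement_def]; group]
        exact mul_mem hv (hVn.conj_mem _ (inv_mem hv) f)
    have := hind n
    rw [hn, bot_sup_eq] at this
    exact hlt.not_ge this
  -- an element of `N` centralizing the chief factors below `F` lies in `F`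
  have hbwd : (g ∈ N ∧ ∀ U V : Subgroup G, (U.Normal ∧ V.Normal ∧ V < U ∧ ∀ W : Subgroup G, W.Normal → V ≤ W → W ≤ U → W = V ∨ W = U) →
      U ≤ F → ∀ u ∈ U, u * g * u⁻¹ * g⁻¹ ∈ V) → g ∈ F := by
    rintro ⟨hgN, hg⟩
    let P : Subgroup G × Subgroup G → Prop := fun q => q.1.Normal ∧ q.2.Normal ∧ q.2 < q.1 ∧
      (∀ W : Subgroup G, W.Normal → q.2 ≤ W → W ≤ q.1 → W = q.2 ∨ W = q.1) ∧ q.1 ≤ F
    let cf : Subgroup G × Subgroup G → Subgroup G := fun q => Subgroup.closure {x | ∀ u ∈ q.1, u * x * u⁻¹ * x⁻¹ ∈ q.2}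
    -- the centralizer of one chief factor
    have hcf : ∀ q, P q → ∀ x, x ∈ cf q ↔ ∀ u ∈ q.1, u * x * u⁻¹ * x⁻¹ ∈ q.2 := by
      intro q hq x
      haveI := hq.2.1
      refine ⟨fun hx => ?_, fun hx => Subgroup.subset_closure hx⟩
      set π := QuotientGroup.mk' q.2
      have key : ∀ z, (∀ u ∈ q.1, u * z * u⁻¹ * z⁻¹ ∈ q.2) ↔
          z ∈ (Subgroup.centralizer ((q.1.map π : Subgroup (G ⧸ q.2)) : Set (G ⧸ q.2))).comap π := by
        intro z
        rw [Subgroup.mem_comap, Subgroup.mem_centralizer_iff]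
        constructor
        · rintro hz _ ⟨u, hu, rfl⟩
          rw [← commutatorElement_eq_one_iff_mul_comm, ← map_commutatorElement]
          exact (QuotientGroup.eq_one_iff _).2 (hz u hu)
        · intro hz u hu
          have h1 := hz (π u) ⟨u, hu, rfl⟩
          rw [← commutatorElement_eq_one_iff_mul_comm, ← map_commutatorElement] at h1
          exact (QuotientGroup.eq_one_iff _).1 h1
      rw [key]
      exact (Subgroup.closure_le _).2 (fun z hz => (key z).1 hz) hx
    set C := N ⊓ ⨅ q : {q // P q}, cf q.1 with hC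
    haveI hCn : C.Normal := by
      refine ⟨fun x hx a => Subgroup.mem_inf.2 ⟨(inferInstance : N.Normal).conj_mem x hx.1 a, Subgroup.mem_iInf.2 fun q => ?_⟩⟩
      rw [hcf q.1 q.2]
      intro u hu
      haveI := q.2.1
      have h1 := (hcf q.1 q.2 x).1 (Subgroup.mem_iInf.1 hx.2 q) (a⁻¹ * u * a) (by
        have := q.2.1.conj_mem u hu a⁻¹
        rwa [inv_inv] at this)
      have h2 := q.2.2.1.conj_mem _ h1 a
      rwa [show a * (a⁻¹ * u * a * x * (a⁻¹ * u * a)⁻¹ * x⁻¹) * a⁻¹ = u * (a * x * a⁻¹) * u⁻¹ * (a * x * a⁻¹)⁻¹ by group] at h2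
    have hgC : g ∈ C := Subgroup.mem_inf.2 ⟨hgN, Subgroup.mem_iInf.2 fun q => (hcf q.1 q.2 g).2
      (hg q.1.1 q.1.2 ⟨q.2.1, q.2.2.1, q.2.2.2.1, q.2.2.2.2.1⟩ q.2.2.2.2.2)⟩
    let D : ℕ → Subgroup G := fun k => (derivedSeries ↥C k).map C.subtype
    have hDs : ∀ k, D (k + 1) = ⁅D k, D k⁆ := fun k => by
      simp only [D, derivedSeries_succ, Subgroup.map_commutator]
    obtain ⟨m, hm⟩ := (isSolvable_def ↥C).1 inferInstance
    suffices hall : C ≤ F from hall hgC
    by_contra hCF
    have hex : ∃ k, D k ≤ F := ⟨m, by simp [D, hm]⟩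
    set k0 := Nat.find hex
    have hk0 : k0 ≠ 0 := fun h => hCF (by
      have := Nat.find_spec hex
      rw [show Nat.find hex = 0 from h] at this
      simp only [D, derivedSeries_zero] at this
      rwa [← MonoidHom.range_eq_map, Subgroup.range_subtype] at this)
    obtain ⟨k, hk⟩ := Nat.exists_eq_succ_of_ne_zero hk0
    set W := D k with hW
    have hWnot : ¬ W ≤ F := Nat.find_min hex (show k < k0 by omega)
    have hW1 : ⁅W, W⁆ ≤ F := by
      rw [← hDs]
      have := Nat.find_spec hex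
      rwa [show Nat.find hex = k + 1 from hk] at this
    have hWC : W ≤ C := Subgroup.map_subtype_le _
    haveI hWn : W.Normal := normal_map_subtype_of_characteristic (derivedSeries ↥C k)
    have hdesc : ∀ c : ℕ, ∀ U : Subgroup G, Nat.card U = c → U.Normal → U ≤ F →
        ∃ j, ∀ i, W.lowerCentralSeries i ≤ U → W.lowerCentralSeries (i + j) = ⊥ := by
      intro c
      induction c using Nat.strong_induction_on with
      | _ c ih => ?_
      intro U hc hU hUF
      by_cases hU1 : U = ⊥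
      · exact ⟨0, fun i hi => le_bot_iff.1 (hU1 ▸ hi)⟩
      obtain ⟨V, ⟨hVn, hVU⟩, hVmax⟩ := (Set.toFinite {V : Subgroup G | V.Normal ∧ V < U}).exists_maximal
        ⟨⊥, inferInstance, bot_lt_iff_ne_bot.2 hU1⟩
      obtain ⟨j, hj⟩ := ih (Nat.card V) (hc ▸ lt_of_le_of_ne (Subgroup.card_le_of_le hVU.le)
        (fun h => hVU.ne (Subgroup.eq_of_le_of_card_ge hVU.le h.ge))) V rfl hVn (hVU.le.trans hUF)
      refine ⟨j + 1, fun i hi => ?_⟩
      rw [show i + (j + 1) = (i + 1) + j by omega]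
      refine hj _ ?_
      rw [Subgroup.lowerCentralSeries_succ, Subgroup.commutator_le]
      intro u hu w hw
      have hP : P (U, V) := ⟨hU, hVn, hVU, fun W' hW' h1 h2 => by
        rcases eq_or_lt_of_le h2 with h | h
        · exact Or.inr h
        · exact Or.inl (le_antisymm (hVmax ⟨hW', h⟩ h1) h1), hUF⟩
      exact (hcf _ hP w).1 (Subgroup.mem_iInf.1 (hWC hw).2 ⟨(U, V), hP⟩) u (hi hu)
    obtain ⟨j, hj⟩ := hdesc _ F rfl hFn le_rfl
    have hWnil : Group.IsNilpotent W := (Subgroup.isNilpotent_iff_lowerCentralSeries W).2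
      ⟨1 + j, hj 1 (by simpa using hW1)⟩
    have hWN : W ≤ N := hWC.trans inf_le_left
    haveI : Group.IsNilpotent (W.subgroupOf N) :=
      Group.nilpotent_of_mulEquiv (Subgroup.subgroupOfEquivOfLe hWN).symm
    refine hWnot fun w hw => ⟨⟨w, hWN hw⟩, le_fittingSubgroup (N := W.subgroupOf N) inferInstance hw, rfl⟩
  exact ⟨⟨hfwd, fun h => hbwd ⟨h.1, fun U V hc _ => h.2 U V hc⟩⟩,
    ⟨fun h => ⟨(hfwd h).1, fun U V hc _ => (hfwd h).2 U V hc⟩, hbwd⟩⟩

end Cfsg.Agent.S3766
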