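import Cfsg.Statements.S4454
import Cfsg.Agent.Char.Ramified
import Cfsg.Agent.Char.Gallagher
import Cfsg.Agent.Char.ExtCrit
import Cfsg.Agent.Char.Clifford
import Cfsg.Agent.Char.Classes

set_option autoImplicit false
open Cfsg

namespace Cfsg.Agent.S4454
open CfsgLib.Char
open scoped ComplexConjugate CfsgLib.Char

universe u

/-- The squared norm of an extension is constant on cosets of a normal subgroup with cyclic quotient. -/
theorem coset_norm {Γ : Type u} [Group Γ] [Fintype Γ] (G : Subgroup Γ) [G.Normal] [Fintype G]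
    (hcyc : IsCyclic (Γ ⧸ G)) {η : Γ → ℂ} (hη : IsIrrCharacter Γ η) {χ : G → ℂ}
    (hχ : IsIrrCharacter G χ) (hext : ∀ g : G, η g = χ g) (y : Γ) :
    ∑ g : G, η (y * g) * conj (η (y * g)) = (Nat.card G : ℂ) := by
  classical
  haveI := Fintype.ofFinite (Γ ⧸ G)
  letI : CommGroup (Γ ⧸ G) := IsCyclic.commGroup
  have hs := QuotientGroup.mk'_surjective G
  have hinj := (gallagher hχ (isCharacter_of_isIrr hη) hext).injOn
  have horth : ∀ β : IrrCharacter (Γ ⧸ G), classInner (fun h : Γ => (β : Γ ⧸ G → ℂ) h * η h) η =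
      if (β : Γ ⧸ G → ℂ) = (fun _ => 1) then 1 else 0 := by
    intro β
    have hdeg : (β : Γ ⧸ G → ℂ) 1 = 1 := irr_degree_one_of_comm (fun a b => mul_comm a b) β.2
    obtain ⟨L, hL⟩ := exists_hom_of_degree_one (isCharacter_of_isIrr β.2) hdeg
    have hirr : IsIrrCharacter Γ (fun h : Γ => (β : Γ ⧸ G → ℂ) h * η h) := by
      have := irr_mul_linear hη (L.comp (QuotientGroup.mk' G))
      convert this using 1
      funext h
      rw [hL, mul_comm]
      rfl
    split_ifs with h1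
    · simp only [h1, one_mul]
      exact irr_inner_self hη
    · refine irr_inner_ne hirr hη fun e => h1 ?_
      have hβG : IsIrrCharacter Γ ((β : Γ ⧸ G → ℂ) ∘ QuotientGroup.mk' G) := irr_comp _ hs β.2
      have hmem : ∀ n : G, ((β : Γ ⧸ G → ℂ) ∘ QuotientGroup.mk' G) n = ((β : Γ ⧸ G → ℂ) ∘ QuotientGroup.mk' G) 1 := fun n => by
        show (β : Γ ⧸ G → ℂ) (QuotientGroup.mk' G n) = (β : Γ ⧸ G → ℂ) (QuotientGroup.mk' G 1)
        rw [map_one, QuotientGroup.mk'_apply, (QuotientGroup.eq_one_iff (n : Γ)).2 n.2]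
      have h := hinj (show ((β : Γ ⧸ G → ℂ) ∘ QuotientGroup.mk' G) ∈ _ from ⟨hβG, hmem⟩)
        (show (fun _ : Γ => (1 : ℂ)) ∈ _ from ⟨isIrr_one, fun n => rfl⟩)
        (by
          funext h
          show (β : Γ ⧸ G → ℂ) (QuotientGroup.mk' G h) * η h = 1 * η h
          rw [one_mul]
          exact congrFun e h)
      funext q
      obtain ⟨h', rfl⟩ := hs q
      exact congrFun h h'
  have key : (Nat.card Γ : ℂ) = (Nat.card (Γ ⧸ G) : ℂ) * ∑ g : G, η (y * g) * conj (η (y * g)) := by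
    calc (Nat.card Γ : ℂ)
        = ∑ β : IrrCharacter (Γ ⧸ G), conj ((β : Γ ⧸ G → ℂ) (y : Γ ⧸ G)) *
            ((Nat.card Γ : ℂ) * classInner (fun h : Γ => (β : Γ ⧸ G → ℂ) h * η h) η) := by
          rw [Finset.sum_eq_single (⟨_, isIrr_one⟩ : IrrCharacter (Γ ⧸ G))]
          · rw [horth, if_pos rfl]
            simp
          · intro β _ hne
            rw [horth, if_neg (fun h => hne (Subtype.ext h)), mul_zero, mul_zero]
          · simp
      _ = ∑ h : Γ, (∑ β : IrrCharacter (Γ ⧸ G), (β : Γ ⧸ G → ℂ) h * conj ((β : Γ ⧸ G → ℂ) (y : Γ ⧸ G))) *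
            (η h * conj (η h)) := by
          simp only [classInner_def, ← mul_assoc (Nat.card Γ : ℂ), mul_inv_cancel₀ (natCard_ne_zero Γ), one_mul,
            Finset.mul_sum, Finset.sum_mul]
          rw [Finset.sum_comm]
          refine Finset.sum_congr rfl fun h _ => Finset.sum_congr rfl fun β _ => by ring
      _ = ∑ h ∈ Finset.univ.filter (fun h : Γ => (h : Γ ⧸ G) = y), (Nat.card (Γ ⧸ G) : ℂ) * (η h * conj (η h)) := by
          rw [Finset.sum_filter]
          refine Finset.sum_congr rfl fun h _ => ?_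
          rw [second_orth]
          by_cases e : (h : Γ ⧸ G) = y
          · rw [if_pos (e ▸ IsConj.refl _), if_pos e]
            congr 2
            rw [show Subgroup.centralizer ({(h : Γ ⧸ G)} : Set (Γ ⧸ G)) = ⊤ from eq_top_iff.2 fun z _ =>
              Subgroup.mem_centralizer_singleton_iff.2 (mul_comm _ _), Subgroup.card_top]
          · rw [if_neg (fun hc => e (isConj_iff_eq.1 hc)), if_neg e, zero_mul]
      _ = _ := by
          rw [Finset.mul_sum]
          refine (Finset.sum_bij (fun (g : G) _ => y * (g : Γ)) ?_ ?_ ?_ ?_).symm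
          · exact fun g _ => Finset.mem_filter.2 ⟨Finset.mem_univ _, by
              rw [QuotientGroup.mk_mul, (QuotientGroup.eq_one_iff (g : Γ)).2 g.2, mul_one]⟩
          · exact fun a _ b _ h => Subtype.ext (mul_left_cancel h)
          · intro h hh
            exact ⟨⟨y⁻¹ * h, QuotientGroup.eq.1 (Finset.mem_filter.1 hh).2.symm⟩, Finset.mem_univ _, by simp⟩
          · exact fun _ _ => rfl
  rw [Subgroup.card_eq_card_quotient_mul_card_subgroup G, Nat.cast_mul] at key
  exact (mul_left_cancel₀ (natCard_ne_zero (Γ ⧸ G)) key).symm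

/-- Integer slots with prescribed sum and square sum. -/
theorem arith {ι : Type*} (C : Finset ι) (a : ι → ℤ) (w e : ℕ) (hC : C.card = w) (hw : 1 < w)
    (h1 : ∑ i ∈ C, a i = e) (h2 : (w : ℤ) * ∑ i ∈ C, a i ^ 2 = (e : ℤ) ^ 2 + w - 1) :
    (w : ℤ) ∣ (e : ℤ) - 1 ∨ (w : ℤ) ∣ (e : ℤ) + 1 := by
  set r := (-(e : ℤ)) % (w : ℤ) with hr
  have hr0 : 0 ≤ r := Int.emod_nonneg _ (by omega)
  have hr1 : r < w := Int.emod_lt_of_pos _ (by omega)
  obtain ⟨m, hm⟩ : ∃ m, -(e : ℤ) = r + (w : ℤ) * m := ⟨_, (Int.emod_add_mul_ediv _ _).symm⟩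
  have hpos : ∀ i ∈ C, 0 ≤ ((w : ℤ) * a i - e - r) * ((w : ℤ) * a i - e - r + w) := by
    intro i _
    have e1 : (w : ℤ) * a i - e - r = w * (a i + m) := by linarith
    rw [e1]
    rcases le_or_gt 0 (a i + m) with h | h
    · exact mul_nonneg (mul_nonneg (by omega) h) (add_nonneg (mul_nonneg (by omega) h) (by omega))
    · refine mul_nonneg_of_nonpos_of_nonpos (mul_nonpos_of_nonneg_of_nonpos (by omega) h.le) ?_
      nlinarith
  have hsum := Finset.sum_nonneg hpos
  have hexp : ∀ i, ((w : ℤ) * a i - e - r) * ((w : ℤ) * a i - e - r + w) =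
      (w : ℤ) * w * a i ^ 2 + (w : ℤ) * a i * (w - 2 * (e + r)) + (e + r) * (e + r - w) := fun i => by ring
  simp only [hexp, Finset.sum_add_distrib, ← Finset.mul_sum, ← Finset.sum_mul, h1, Finset.sum_const, hC,
    nsmul_eq_mul] at hsum
  have hkey : r * ((w : ℤ) - r) ≤ w - 1 := by
    rw [show (w : ℤ) * w * ∑ i ∈ C, a i ^ 2 = w * (w * ∑ i ∈ C, a i ^ 2) by ring, h2] at hsum
    nlinarith
  have h3 : r = 0 ∨ r = 1 ∨ r = (w : ℤ) - 1 := by
    by_contra h
    push Not at h
    have h4 : 2 ≤ r := by omega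
    have h5 : r ≤ (w : ℤ) - 2 := by omega
    nlinarith [mul_nonneg (show (0 : ℤ) ≤ r - 2 by omega) (show (0 : ℤ) ≤ (w : ℤ) - r - 2 by omega)]
  rcases h3 with h | h | h
  · exfalso
    have hw1 : (w : ℤ) ∣ 1 := ⟨(w : ℤ) * m ^ 2 + 1 - ∑ i ∈ C, a i ^ 2, by
      have he : (e : ℤ) = -((w : ℤ) * m) := by linarith
      rw [he] at h2
      linarith⟩
    have := Int.le_of_dvd one_pos hw1
    omega
  · exact Or.inr ⟨-m, by linarith⟩
  · exact Or.inl ⟨-(m + 1), by linarith⟩



/-- Let N ≤ G be normal subgroups of the finite group Γ with Γ/G cyclic and Γ/N a Frobenius group with kernel G/N: G ≠ Γ, N ≠ G, and no element of Γ outside G fixes a non-identity coset of N in G under conjugation. Let ϑ be an irreducible character of N invariant under conjugation by Γ and suppose ϑ is fully ramified in G: the character of G induced from ϑ equals e·χ for an irreducible character χ of G and a natural number e. Then the index of G in Γ divides e − 1 or e + 1. -/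
theorem result {Γ : Type*} [Group Γ] [Fintype Γ] (G N : Subgroup Γ) [hG : G.Normal] [hN : N.Normal] [Fintype G] [Fintype N] (hNG : N ≤ G) (hGlt : G ≠ ⊤) (hNlt : N ≠ G) (hcyc : IsCyclic (Γ ⧸ G)) (hfrob : ∀ x : Γ, x ∉ G → ∀ g : Γ, g ∈ G → x * g * x⁻¹ * g⁻¹ ∈ N → g ∈ N) (θ : Cfsg.IrrCharacter N) (hinv : ∀ (x : Γ) (n : N), (θ : N → ℂ) ⟨x * n * x⁻¹, hN.conj_mem n n.2 x⟩ = (θ : N → ℂ) n) (χ : Cfsg.IrrCharacter G) (e : ℕ) (hram : Cfsg.indFun (N.subgroupOf G) (fun n : N.subgroupOf G => (θ : N → ℂ) ⟨(n : G), n.2⟩) = fun g => (e : ℂ) * (χ : G → ℂ) g) : (G.index : ℤ) ∣ (e : ℤ) - 1 ∨ (G.index : ℤ) ∣ (e : ℤ) + 1 := by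
  classical
  obtain ⟨x, hx⟩ := isCyclic_iff_exists_zpowers_eq_top.1 hcyc
  obtain ⟨x, rfl⟩ := QuotientGroup.mk_surjective x
  have hNeq : ∀ t : G, t ∈ N.subgroupOf G ↔ (t : Γ) ∈ N := fun t => Iff.rfl
  haveI := Fintype.ofFinite (N.subgroupOf G)
  haveI : (N.subgroupOf G).Normal := hN.subgroupOf G
  have hθG : IsIrrCharacter (N.subgroupOf G) (fun n : N.subgroupOf G => (θ : N → ℂ) ⟨(n : G), n.2⟩) :=
    irr_mulEquiv (Subgroup.subgroupOfEquivOfLe hNG) θ.2
  have hinvG : ∀ g : G, conjN (fun n : N.subgroupOf G => (θ : N → ℂ) ⟨(n : G), n.2⟩) g =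
      fun n : N.subgroupOf G => (θ : N → ℂ) ⟨(n : G), n.2⟩ := fun g => funext fun n => hinv g ⟨(n : G), n.2⟩
  -- multiplicity
  have hm : classInner (fun n : N.subgroupOf G => (χ : G → ℂ) n)
      (fun n : N.subgroupOf G => (θ : N → ℂ) ⟨(n : G), n.2⟩) = (e : ℂ) := by
    rw [← classInner_conj, ← CfsgLib.Char.frobenius _ _ (classFun_of_irr χ.2), hram,
      show (fun g => (e : ℂ) * (χ : G → ℂ) g) = (e : ℂ) • (χ : G → ℂ) from rfl, classInner_smul_left,
      irr_inner_self χ.2, mul_one, Complex.conj_natCast]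
  have he0 : (e : ℂ) ≠ 0 := fun h => by
    have h' := congrFun hram 1
    rw [h, zero_mul, indFun_one] at h'
    exact irr_one_ne_zero hθG ((mul_eq_zero.1 h').resolve_left (Nat.cast_ne_zero.2 Subgroup.index_ne_zero_of_finite))
  have hχN : ∀ n : N, (χ : G → ℂ) ⟨n, hNG n.2⟩ = (e : ℂ) * (θ : N → ℂ) n := by
    intro n
    have h := congrFun (res_homogeneous χ.2 hθG (by rw [hm]; exact he0) hinvG) ⟨⟨n, hNG n.2⟩, n.2⟩
    rw [hm] at h
    exact h
  -- invariance and extension
  have hχinv : ∀ y : Γ, conjN (χ : G → ℂ) y = (χ : G → ℂ) := by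
    intro y
    by_contra hne
    have hirr := irr_conjN χ.2 y
    have h0 : classInner (fun n : N.subgroupOf G => conjN (χ : G → ℂ) y n)
        (fun n : N.subgroupOf G => (θ : N → ℂ) ⟨(n : G), n.2⟩) = 0 := by
      rw [← classInner_conj, ← CfsgLib.Char.frobenius _ _ (classFun_of_irr hirr), hram,
        show (fun g => (e : ℂ) * (χ : G → ℂ) g) = (e : ℂ) • (χ : G → ℂ) from rfl, classInner_smul_left,
        irr_inner_ne χ.2 hirr (Ne.symm hne), mul_zero, map_zero]
    have hval : (fun n : N.subgroupOf G => conjN (χ : G → ℂ) y n) =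
        (e : ℂ) • fun n : N.subgroupOf G => (θ : N → ℂ) ⟨(n : G), n.2⟩ := by
      funext n
      show (χ : G → ℂ) ⟨y * (n : G) * y⁻¹, _⟩ = (e : ℂ) * _
      exact (hχN ⟨y * (n : G) * y⁻¹, hN.conj_mem _ n.2 y⟩).trans (congrArg _ (hinv y ⟨(n : G), n.2⟩))
    rw [hval, classInner_smul_left, irr_inner_self hθG, mul_one] at h0
    exact he0 h0
  obtain ⟨η, hη, hηG⟩ := extend_cyclic χ.2 hχinv hcyc
  haveI := Fintype.ofFinite (Γ ⧸ G)
  set w := G.index with hwdef
  have hxw : x ^ w ∈ N := by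
    have hG' : x ^ w ∈ G := (QuotientGroup.eq_one_iff _).1 (by
      rw [QuotientGroup.mk_pow, hwdef, Subgroup.index_eq_card]; exact pow_card_eq_one')
    have hxG : x ∉ G := fun h => hGlt (Subgroup.index_eq_one.1 (by
      rw [Subgroup.index_eq_card, ← Subgroup.card_top, ← hx, (QuotientGroup.eq_one_iff x).2 h,
        Subgroup.zpowers_one_eq_bot, Subgroup.card_bot]))
    refine hfrob x hxG _ hG' ?_
    rw [((Commute.refl x).pow_right w).eq, mul_inv_cancel_right, mul_inv_cancel]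
    exact one_mem _
  let X : Subgroup Γ := Subgroup.zpowers x ⊔ N
  haveI := Fintype.ofFinite X
  haveI : (N.subgroupOf X).Normal := hN.subgroupOf X
  haveI := Fintype.ofFinite (N.subgroupOf X)
  have hmemX : ∀ z : X, ((z : Γ) ∈ G ↔ (z : Γ) ∈ N) := by
    intro z
    refine ⟨fun hz => ?_, fun hz => hNG hz⟩
    obtain ⟨a, ha, b, hb, hab⟩ := Subgroup.mem_sup_of_normal_right.1 z.2
    obtain ⟨i, rfl⟩ := Subgroup.mem_zpowers_iff.1 ha
    have hxi : x ^ i ∈ G := by
      have := mul_mem hz (inv_mem (hNG hb))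
      rwa [← hab, mul_inv_cancel_right] at this
    have hord : orderOf ((x : Γ) : Γ ⧸ G) = w := by
      rw [← Nat.card_zpowers, hx, Subgroup.card_top, ← Subgroup.index_eq_card]
    have hdvd : ((w : ℕ) : ℤ) ∣ i := by
      rw [← hord]
      exact orderOf_dvd_iff_zpow_eq_one.2 (by rw [← QuotientGroup.mk_zpow]; exact (QuotientGroup.eq_one_iff _).2 hxi)
    obtain ⟨k, rfl⟩ := hdvd
    rw [← hab, zpow_mul, zpow_natCast]
    exact mul_mem (zpow_mem hxw k) hb
  let π : X →* Γ ⧸ G := (QuotientGroup.mk' G).comp X.subtype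
  have hker : π.ker = N.subgroupOf X := by
    ext z
    rw [MonoidHom.mem_ker, Subgroup.mem_subgroupOf, ← hmemX z]
    exact QuotientGroup.eq_one_iff _
  have hπ : Function.Surjective π := by
    intro q
    have hq : q ∈ Subgroup.zpowers ((x : Γ) : Γ ⧸ G) := hx ▸ Subgroup.mem_top q
    obtain ⟨i, rfl⟩ := Subgroup.mem_zpowers_iff.1 hq
    exact ⟨⟨x ^ i, Subgroup.mem_sup_left (zpow_mem (Subgroup.mem_zpowers x) i)⟩, by simp [π]⟩
  have hidx : (N.subgroupOf X).index = w := by
    rw [← hker, Subgroup.index_ker, MonoidHom.range_eq_top.2 hπ, Subgroup.card_top, ← Subgroup.index_eq_card]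
  let eq : X ⧸ N.subgroupOf X ≃* Γ ⧸ G :=
    (QuotientGroup.quotientMulEquivOfEq hker.symm).trans (QuotientGroup.quotientKerEquivOfSurjective π hπ)
  have hXcyc : IsCyclic (X ⧸ N.subgroupOf X) := isCyclic_of_surjective eq.symm eq.symm.surjective
  have hNX : N ≤ X := le_sup_right
  set θX : N.subgroupOf X → ℂ := fun n => (θ : N → ℂ) ⟨(n : X), n.2⟩ with hθXdef
  have hθX : IsIrrCharacter (N.subgroupOf X) θX := irr_mulEquiv (Subgroup.subgroupOfEquivOfLe hNX) θ.2
  have hinvX : ∀ g : X, conjN θX g = θX := fun g => funext fun n => hinv g ⟨(n : X), n.2⟩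
  have hab : ∀ a b : X, a * b * a⁻¹ * b⁻¹ ∈ N.subgroupOf X := by
    intro a b
    letI : CommGroup (Γ ⧸ G) := IsCyclic.commGroup
    rw [← hker, MonoidHom.mem_ker, map_mul, map_mul, map_mul, map_inv, map_inv]
    rw [mul_comm (π a), mul_inv_cancel_right, mul_inv_cancel]
  obtain ⟨f, C, hf, hfC, hind, hres⟩ := exists_constituents_abelian hθX hinvX hab
  have hmemC : ∀ ψ : IrrCharacter X, classInner (fun n : N.subgroupOf X => (ψ : X → ℂ) n) θX ≠ 0 → ψ ∈ C := by
    intro ψ hψ
    by_contra hn'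
    apply hψ
    rw [← classInner_conj, ← CfsgLib.Char.frobenius _ θX (classFun_of_irr ψ.2), hind, classInner_smul_left,
      classInner_sum_left, Finset.sum_eq_zero fun χ' hχ' => irr_inner_ne χ'.2 ψ.2 (fun h => hn' (Subtype.ext h ▸ hχ')),
      mul_zero, map_zero]
  have hf1 : f = 1 := by
    obtain ⟨η', hη', hη'N⟩ := extend_cyclic hθX hinvX hXcyc
    have hc : classInner (fun n : N.subgroupOf X => η' n) θX ≠ 0 := by
      rw [show (fun n : N.subgroupOf X => η' n) = θX from funext hη'N, irr_inner_self hθX]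
      exact one_ne_zero
    have h := congrFun (hres ⟨η', hη'⟩ (hmemC ⟨η', hη'⟩ hc)) 1
    rw [Pi.smul_apply, smul_eq_mul] at h
    exact_mod_cast mul_right_cancel₀ (irr_one_ne_zero hθX) ((one_mul (θX 1)).trans ((hη'N 1).symm.trans h)).symm
  rw [hf1, one_pow, one_mul, hidx] at hfC
  -- the restriction of the extension
  set φ : X → ℂ := fun z => η z with hφdef
  have hφc : IsCharacter X φ := isCharacter_restrict X (isCharacter_of_isIrr hη)
  have hφN : (fun n : N.subgroupOf X => φ n) = (e : ℂ) • θX := funext fun n =>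
    (hηG ⟨(n : X), hNG n.2⟩).trans (hχN ⟨(n : X), n.2⟩)
  choose a ha using fun ψ : IrrCharacter X => inner_char_irr hφc ψ.2
  have hout : ∀ ψ, ψ ∉ C → a ψ = 0 := by
    intro ψ hψ
    by_contra hne'
    have hrest := isCharacter_sub_constituent hφc ψ.2 (by rw [ha]; exact_mod_cast hne')
    obtain ⟨θ', hθ', hθ'c⟩ := exists_constituent_res (N := N.subgroupOf X) ψ.2
    apply hθ'c
    have heq : θ' ≠ θX := fun h => hψ (hmemC ψ (h ▸ hθ'c))
    refine inner_zero_of_summand (isCharacter_restrict _ (isCharacter_of_isIrr ψ.2))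
      (isCharacter_restrict _ hrest) (isCharacter_of_isIrr hθ') ?_
    rw [show (fun n : N.subgroupOf X => (ψ : X → ℂ) n) + (fun n : N.subgroupOf X => (φ - (ψ : X → ℂ)) n) =
      (e : ℂ) • θX from by rw [← hφN]; funext n; simp, classInner_smul_left, irr_inner_ne hθX hθ' heq.symm, mul_zero]
  have hexp : φ = ∑ ψ ∈ C, (a ψ : ℂ) • (ψ : X → ℂ) := by
    conv_lhs => rw [classFun_eq_sum (classFun_of_char hφc)]
    rw [← Finset.sum_subset (Finset.subset_univ C) fun ψ _ hψ => by rw [ha, hout ψ hψ, Nat.cast_zero, zero_smul]]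
    exact Finset.sum_congr rfl fun ψ _ => by rw [ha]
  have hS1 : ∑ ψ ∈ C, (a ψ : ℤ) = e := by
    have h1 := congrFun hφN 1
    simp only [OneMemClass.coe_one, Pi.smul_apply, smul_eq_mul] at h1
    conv_lhs at h1 => rw [hexp, Finset.sum_apply]
    rw [Finset.sum_congr rfl (g := fun ψ => ((a ψ : ℂ)) * θX 1) fun ψ hψ => by
      have h2 := congrFun (hres ψ hψ) 1
      simp only [OneMemClass.coe_one, Pi.smul_apply, smul_eq_mul, hf1, Nat.cast_one, one_mul] at h2
      simp [h2], ← Finset.sum_mul] at h1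
    have h3 := mul_right_cancel₀ (irr_one_ne_zero hθX) h1
    exact_mod_cast h3
  have hS2 : (w : ℤ) * ∑ ψ ∈ C, (a ψ : ℤ) ^ 2 = (e : ℤ) ^ 2 + w - 1 := by
    have hL : classInner φ φ = ((∑ ψ ∈ C, (a ψ) ^ 2 : ℕ) : ℂ) := by
      conv_lhs => rw [hexp]
      simp only [classInner_sum_left, classInner_sum_right, classInner_smul_left, classInner_smul_right,
        irrChar_inner, Complex.conj_natCast, mul_ite, mul_one, mul_zero, Finset.sum_ite_eq']
      push_cast
      refine Finset.sum_congr rfl fun ψ hψ => ?_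
      rw [if_pos hψ, sq]
    have hcos : ∀ z : X, (z : Γ) ∉ N → ∑ n : N, η ((z : Γ) * n) * conj (η ((z : Γ) * n)) = (Nat.card N : ℂ) := by
      intro z hzN
      have hzG : (z : Γ) ∉ G := fun h => hzN ((hmemX z).1 h)
      -- conjugation spreads the coset of N over the coset of G
      let Φ : G × N → G := fun gn => ⟨(z : Γ)⁻¹ * ((gn.1 : Γ) * (z * gn.2) * (gn.1 : Γ)⁻¹), by
        have := mul_mem (mul_mem (hG.conj_mem _ gn.1.2 (z : Γ)⁻¹) (hNG gn.2.2)) (inv_mem gn.1.2)
        convert this using 1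
        group⟩
      have hfib : ∀ t : G, (Finset.univ.filter fun gn : G × N => Φ gn = t).card ≤ Nat.card N := by
        intro t
        rcases (Finset.univ.filter fun gn : G × N => Φ gn = t).eq_empty_or_nonempty with h | ⟨⟨g₀, n₀⟩, h₀⟩
        · simp [h]
        rw [Nat.card_eq_fintype_card, ← Finset.card_univ]
        have hinN : ∀ gn ∈ (Finset.univ.filter fun gn : G × N => Φ gn = t), (g₀ : Γ)⁻¹ * (gn.1 : Γ) ∈ N := by
          rintro ⟨g, n⟩ hgn
          have he := congrArg Subtype.val ((Finset.mem_filter.1 hgn).2.trans (Finset.mem_filter.1 h₀).2.symm)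
          simp only [Φ, mul_right_inj] at he
          refine hfrob _ hzG _ (mul_mem (inv_mem g₀.2) g.2) ?_
          set k : Γ := (g₀ : Γ)⁻¹ * (g : Γ) with hk
          have hk2 : k * ((z : Γ) * n) * k⁻¹ = (z : Γ) * n₀ := by
            calc k * ((z : Γ) * n) * k⁻¹ = (g₀ : Γ)⁻¹ * ((g : Γ) * ((z : Γ) * n) * (g : Γ)⁻¹) * g₀ := by rw [hk]; group
              _ = _ := by rw [he]; group
          have e3 : k * (z : Γ) * k⁻¹ = (z : Γ) * (n₀ : Γ) * (k * (n : Γ) * k⁻¹)⁻¹ := by
            rw [← hk2]; group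
          have e5 : (z : Γ) * k * (z : Γ)⁻¹ * k⁻¹ = (z : Γ) * (k * (z : Γ)⁻¹ * k⁻¹) := by group
          rw [e5, show k * (z : Γ)⁻¹ * k⁻¹ = (k * (z : Γ) * k⁻¹)⁻¹ by group, e3]
          have hm2 : (z : Γ) * ((k * (n : Γ) * k⁻¹) * (n₀ : Γ)⁻¹) * (z : Γ)⁻¹ ∈ N :=
            hN.conj_mem _ (mul_mem (hN.conj_mem _ n.2 k) (inv_mem n₀.2)) (z : Γ)
          convert hm2 using 1
          group
        refine Finset.card_le_card_of_injOn (fun gn => if h : (g₀ : Γ)⁻¹ * (gn.1 : Γ) ∈ N then ⟨_, h⟩ else 1)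
          (fun _ _ => Finset.mem_univ _) ?_
        intro gn hgn gn' hgn' h
        rw [Finset.mem_coe] at hgn hgn'
        simp only [dif_pos (hinN gn hgn), dif_pos (hinN gn' hgn'), Subtype.mk.injEq, mul_right_inj] at h
        have hg : gn.1 = gn'.1 := Subtype.ext h
        have he := congrArg Subtype.val ((Finset.mem_filter.1 hgn).2.trans (Finset.mem_filter.1 hgn').2.symm)
        simp only [Φ, hg, mul_right_inj, mul_left_inj] at he
        exact Prod.ext hg (Subtype.ext he)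
      have htot : ∑ t : G, (Finset.univ.filter fun gn : G × N => Φ gn = t).card = ∑ _t : G, Nat.card N := by
        rw [← Finset.card_eq_sum_card_fiberwise (fun gn _ => Finset.mem_univ _), Finset.sum_const, Finset.card_univ,
          Finset.card_univ, Fintype.card_prod, smul_eq_mul, ← Nat.card_eq_fintype_card (α := N)]
      have heqf := (Finset.sum_eq_sum_iff_of_le fun t _ => hfib t).1 htot
      have h1 : ∑ gn : G × N, η ((z : Γ) * (Φ gn : Γ)) * conj (η ((z : Γ) * (Φ gn : Γ))) =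
          (Nat.card N : ℂ) * (Nat.card G : ℂ) := by
        rw [← Finset.sum_fiberwise Finset.univ Φ, ← coset_norm G hcyc hη χ.2 hηG (z : Γ), Finset.mul_sum]
        refine Finset.sum_congr rfl fun t _ => ?_
        rw [Finset.sum_congr rfl fun gn hgn => by rw [(Finset.mem_filter.1 hgn).2], Finset.sum_const,
          heqf t (Finset.mem_univ t), nsmul_eq_mul]
      have h2 : ∀ gn : G × N, η ((z : Γ) * (Φ gn : Γ)) = η ((z : Γ) * gn.2) := by
        intro gn
        simp only [Φ, mul_inv_cancel_left]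
        exact classFun_of_irr hη _ _
      rw [Fintype.sum_prod_type] at h1
      simp only [h2, Finset.sum_const, Finset.card_univ, ← Nat.card_eq_fintype_card, nsmul_eq_mul] at h1
      rw [mul_comm (Nat.card N : ℂ)] at h1
      exact mul_left_cancel₀ (natCard_ne_zero G) h1
    have hX : ∑ z : X, φ z * conj (φ z) = (Nat.card N : ℂ) * ((e : ℂ) ^ 2 + w - 1) := by
      haveI := Fintype.ofFinite (X ⧸ N.subgroupOf X)
      rw [← Finset.sum_fiberwise Finset.univ (QuotientGroup.mk' (N.subgroupOf X))]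
      have hone : ∑ n : N, η (n : Γ) * conj (η (n : Γ)) = (Nat.card N : ℂ) * (e : ℂ) ^ 2 := by
        have hn1 := irr_inner_self θ.2
        rw [classInner_def, inv_mul_eq_iff_eq_mul₀ (natCard_ne_zero N), mul_one] at hn1
        rw [mul_comm, ← hn1, Finset.mul_sum]
        refine Finset.sum_congr rfl fun n _ => ?_
        rw [show η (n : Γ) = (e : ℂ) * (θ : N → ℂ) n from (hηG ⟨n, hNG n.2⟩).trans (hχN n), map_mul,
          Complex.conj_natCast]
        ring
      have hq : ∀ q : X ⧸ N.subgroupOf X, ∑ z ∈ Finset.univ.filter (fun z => QuotientGroup.mk' (N.subgroupOf X) z = q),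
          φ z * conj (φ z) = if q = 1 then (Nat.card N : ℂ) * (e : ℂ) ^ 2 else (Nat.card N : ℂ) := by
        intro q
        obtain ⟨z₀, rfl⟩ := QuotientGroup.mk'_surjective _ q
        have hre : ∑ z ∈ Finset.univ.filter (fun z => QuotientGroup.mk' (N.subgroupOf X) z = QuotientGroup.mk' _ z₀),
            φ z * conj (φ z) = ∑ n : N, η ((z₀ : Γ) * n) * conj (η ((z₀ : Γ) * n)) := by
          refine (Finset.sum_bij (fun (n : N) _ => z₀ * ⟨(n : Γ), hNX n.2⟩) ?_ ?_ ?_ ?_).symm
          · intro n _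
            refine Finset.mem_filter.2 ⟨Finset.mem_univ _, ?_⟩
            rw [map_mul, show QuotientGroup.mk' (N.subgroupOf X) (⟨(n : Γ), hNX n.2⟩ : X) = 1 from
              (QuotientGroup.eq_one_iff _).2 n.2, mul_one]
          · exact fun n _ n' _ h => Subtype.ext (congrArg (fun y : X => (y : Γ)) (mul_left_cancel h) : _)
          · intro z hz
            have hm3 : (z₀ : Γ)⁻¹ * z ∈ N := (QuotientGroup.eq (s := N.subgroupOf X) (a := z₀) (b := z)).1
              (Finset.mem_filter.1 hz).2.symm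
            exact ⟨⟨_, hm3⟩, Finset.mem_univ _, Subtype.ext (by simp)⟩
          · exact fun _ _ => rfl
        rw [hre]
        split_ifs with h
        · have hz₀ : (z₀ : Γ) ∈ N := (QuotientGroup.eq_one_iff (N := N.subgroupOf X) z₀).1 h
          rw [← hone]
          exact Fintype.sum_equiv (Equiv.mulLeft (⟨_, hz₀⟩ : N)) _ _ fun n => rfl
        · exact hcos z₀ fun hh => h ((QuotientGroup.eq_one_iff (N := N.subgroupOf X) z₀).2 hh)
      rw [Finset.sum_congr rfl fun q _ => hq q]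
      rw [← Finset.add_sum_erase _ _ (Finset.mem_univ (1 : X ⧸ N.subgroupOf X)), if_pos rfl,
        Finset.sum_congr rfl (fun q hq' => if_neg (Finset.ne_of_mem_erase hq')), Finset.sum_const,
        Finset.card_erase_of_mem (Finset.mem_univ _), Finset.card_univ, ← Nat.card_eq_fintype_card,
        ← Subgroup.index_eq_card, hidx, nsmul_eq_mul, Nat.cast_sub (by
          rw [hwdef]; exact Nat.one_le_iff_ne_zero.2 Subgroup.index_ne_zero_of_finite)]
      push_cast
      ring
    have hcardX : (Nat.card X : ℂ) = (Nat.card N : ℂ) * w := by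
      rw [← (N.subgroupOf X).card_mul_index, hidx, Nat.cast_mul,
        Nat.card_congr (Subgroup.subgroupOfEquivOfLe hNX).toEquiv]
    rw [classInner_def, inv_mul_eq_iff_eq_mul₀ (natCard_ne_zero X), hX, hcardX] at hL
    have h4 : ((w : ℤ) * ∑ ψ ∈ C, (a ψ : ℤ) ^ 2 : ℂ) = (((e : ℤ) ^ 2 + w - 1 : ℤ) : ℂ) := by
      push_cast at hL ⊢
      rw [mul_assoc] at hL
      exact (mul_left_cancel₀ (natCard_ne_zero N) hL).symm
    exact_mod_cast h4
  exact arith C (fun ψ => (a ψ : ℤ)) w e hfC (by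
    rw [hwdef]; exact (Subgroup.one_lt_index_of_ne_top hGlt)) hS1 hS2

end Cfsg.Agent.S4454
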