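import Cfsg.Statements.S3767
import Cfsg.Agent.S4454
import Cfsg.Agent.S0894
import Cfsg.Agent.Char.Extraspecial
import Cfsg.Agent.Char.CoprimeCoset
import Cfsg.Agent.Char.ExtCrit
import Cfsg.Agent.Char.Classes
import Cfsg.Agent.Char.Monomial
-- import your own Cfsg.Agent.* helpers here

set_option autoImplicit false
open Cfsg

namespace Cfsg.Agent.S3767

open CfsgLib.Char
open scoped ComplexConjugate CfsgLib.Char

/-- Integers with `m Σ a² - (Σ a)² = m - 1` are all equal but one. -/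
theorem int_lemma {ι : Type*} [Fintype ι] [Nonempty ι] (a : ι → ℕ) (hm : 1 < Fintype.card ι)
    (h : (Fintype.card ι : ℤ) * ∑ i, (a i : ℤ) ^ 2 - (∑ i, (a i : ℤ)) ^ 2 = (Fintype.card ι : ℤ) - 1) :
    (Fintype.card ι : ℤ) ∣ (∑ i, (a i : ℤ)) - 1 ∨ (Fintype.card ι : ℤ) ∣ (∑ i, (a i : ℤ)) + 1 := by
  classical
  obtain ⟨m, hm'⟩ : ∃ m : ℤ, m = (Fintype.card ι : ℤ) := ⟨_, rfl⟩
  rw [← hm'] at h ⊢
  obtain ⟨i₀, hi₀⟩ := Finite.exists_min a
  set d : ι → ℤ := fun i => (a i : ℤ) - a i₀ with hd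
  have hd0 : ∀ i, 0 ≤ d i := fun i => by simp only [hd]; linarith [Int.ofNat_le.2 (hi₀ i)]
  have hsum : ∑ i, (a i : ℤ) = ∑ i, d i + m * a i₀ := by
    simp only [hd, Finset.sum_sub_distrib, Finset.sum_const, Finset.card_univ, nsmul_eq_mul]
    rw [hm']; ring
  have hsq : ∑ i, (a i : ℤ) ^ 2 = ∑ i, d i ^ 2 + 2 * (a i₀ : ℤ) * ∑ i, d i + m * (a i₀ : ℤ) ^ 2 := by
    have : ∀ i, (a i : ℤ) ^ 2 = d i ^ 2 + 2 * (a i₀ : ℤ) * d i + (a i₀ : ℤ) ^ 2 := fun i => by simp only [hd]; ring
    rw [Finset.sum_congr rfl (fun i _ => this i), Finset.sum_add_distrib, Finset.sum_add_distrib, ← Finset.mul_sum, Finset.sum_const, Finset.card_univ, nsmul_eq_mul, hm']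
  have heq : m * ∑ i, d i ^ 2 - (∑ i, d i) ^ 2 = m - 1 := by
    rw [hsum, hsq] at h
    linear_combination h
  set S := Finset.univ.filter fun i => d i ≠ 0
  have hS1 : ∑ i, d i = ∑ i ∈ S, d i := (Finset.sum_filter_ne_zero Finset.univ).symm
  have hS2 : ∑ i, d i ^ 2 = ∑ i ∈ S, d i ^ 2 := by
    refine (Finset.sum_subset (Finset.subset_univ S) fun i _ hi => ?_).symm
    simp only [S, Finset.mem_filter, Finset.mem_univ, true_and, not_not] at hi
    rw [hi]; ring
  obtain ⟨k, hk⟩ : ∃ k : ℤ, k = (S.card : ℤ) := ⟨_, rfl⟩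
  have hk_lt : k < m := by
    have : S.card < Fintype.card ι := Finset.card_lt_univ_of_notMem (x := i₀) (by simp [S, hd])
    rw [hk, hm']; exact_mod_cast this
  have hcs : (∑ i, d i) ^ 2 ≤ k * ∑ i, d i ^ 2 := by
    rw [hS1, hS2, hk]; exact sq_sum_le_card_mul_sum_sq
  have hone : ∀ i ∈ S, 1 ≤ d i := fun i hi => by
    simp only [S, Finset.mem_filter, Finset.mem_univ, true_and] at hi
    have := hd0 i; omega
  have hQD : ∑ i, d i ≤ ∑ i, d i ^ 2 := Finset.sum_le_sum fun i _ => by nlinarith [hd0 i, (show d i = 0 ∨ 1 ≤ d i by have := hd0 i; omega).elim (fun h => by rw [h]; norm_num : d i = 0 → d i ≤ d i ^ 2) (fun h => by nlinarith)]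
  have hDk : k ≤ ∑ i, d i := by
    rw [hS1]
    calc k = ∑ _i ∈ S, (1 : ℤ) := by simp [hk]
      _ ≤ _ := Finset.sum_le_sum hone
  have hk0 : 1 ≤ k := by
    by_contra hk1
    have : S = ∅ := Finset.card_eq_zero.1 (by simp only [hk] at hk1; omega)
    rw [hS1, hS2, this, Finset.sum_empty, Finset.sum_empty] at heq
    have : (1 : ℤ) < m := by rw [hm']; exact_mod_cast hm
    simp at heq
    linarith
  have h1 : (m - k) * k ≤ m - 1 := by nlinarith
  have h2 : m - 1 ≤ k * (m - k) := by nlinarith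
  have hkk : (k - 1) * (m - k - 1) = 0 := by nlinarith
  have hQ : ∑ i, d i ^ 2 = k := by nlinarith
  have hD : ∑ i, d i = k := le_antisymm (hQ ▸ hQD) hDk
  rw [hsum, hD]
  rcases mul_eq_zero.1 hkk with h' | h'
  · exact Or.inl ⟨a i₀, by linarith⟩
  · exact Or.inr ⟨(a i₀ : ℤ) + 1, by linarith⟩

universe u

/-- The restriction to `H` of a character with absolute value one off the identity. -/
theorem dvd_of_norm_one {H : Type u} [CommGroup H] [Fintype H] (hm : 1 < Nat.card H) {f : H → ℂ}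
    (hf : Cfsg.IsCharacter H f) (d : ℕ) (h1 : f 1 = d) (hn : ∀ x : H, x ≠ 1 → f x * conj (f x) = 1) :
    (Nat.card H : ℤ) ∣ (d : ℤ) - 1 ∨ (Nat.card H : ℤ) ∣ (d : ℤ) + 1 := by
  classical
  choose a ha using fun χ : Cfsg.IrrCharacter H => inner_char_irr hf χ.2
  haveI : Nonempty (Cfsg.IrrCharacter H) := ⟨⟨_, isIrr_one⟩⟩
  have hcard : Fintype.card (Cfsg.IrrCharacter H) = Nat.card H := by
    rw [← Nat.card_eq_fintype_card, card_irr_eq_card_conjClasses]
    exact Nat.card_congr (ConjClasses.mkEquiv (α := H)).symm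
  have hlin : ∀ χ : Cfsg.IrrCharacter H, (χ : H → ℂ) 1 = 1 := fun χ => irr_degree_one_of_comm mul_comm χ.2
  have hdec := classFun_eq_sum (classFun_of_char hf)
  have hsum : (d : ℤ) = ∑ χ : Cfsg.IrrCharacter H, (a χ : ℤ) := by
    have h := congrFun hdec 1
    rw [h1, Finset.sum_apply] at h
    simp only [Pi.smul_apply, smul_eq_mul, hlin, mul_one, ha] at h
    exact_mod_cast h
  have hnorm : classInner f f = ∑ χ : Cfsg.IrrCharacter H, ((a χ : ℕ) : ℂ) ^ 2 := by
    conv_lhs => arg 1; rw [hdec]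
    rw [classInner_sum_left]
    refine Finset.sum_congr rfl fun χ _ => ?_
    rw [classInner_smul_left, ← classInner_conj f (χ : H → ℂ), ha, map_natCast, pow_two]
  have hval : (Nat.card H : ℂ) * classInner f f = (d : ℂ) ^ 2 + ((Nat.card H : ℂ) - 1) := by
    rw [classInner_def, ← mul_assoc, mul_inv_cancel₀ (natCard_ne_zero H), one_mul,
      ← Finset.add_sum_erase Finset.univ _ (Finset.mem_univ (1 : H)), h1, map_natCast,
      Finset.sum_congr rfl (g := fun _ => (1 : ℂ)) (fun x hx => hn x (Finset.mem_erase.1 hx).1),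
      Finset.sum_const, Finset.card_erase_of_mem (Finset.mem_univ _), Finset.card_univ, nsmul_eq_mul,
      Nat.cast_sub Fintype.card_pos, Nat.card_eq_fintype_card]
    push_cast
    ring
  rw [hnorm] at hval
  have hint : (Fintype.card (Cfsg.IrrCharacter H) : ℤ) * ∑ χ, (a χ : ℤ) ^ 2 - (∑ χ, (a χ : ℤ)) ^ 2 =
      (Fintype.card (Cfsg.IrrCharacter H) : ℤ) - 1 := by
    rw [← hsum, hcard]
    have : ((Nat.card H : ℤ) * ∑ χ, (a χ : ℤ) ^ 2 - (d : ℤ) ^ 2 : ℂ) = (((Nat.card H : ℤ) - 1 : ℤ) : ℂ) := by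
      push_cast
      linear_combination hval
    exact_mod_cast this
  have := int_lemma a (hcard ▸ hm) hint
  rwa [hcard, ← hsum] at this

/-- Let P be an extraspecial p-group of order p^(2n+1) and H a cyclic group of order h prime to p acting on P (inside a common finite group: H normalizes P) so that C_P(x) = Z(P) for every non-identity x ∈ H. Then h divides p^n + 1 or h divides p^n − 1. -/
theorem result {G : Type*} [Group G] [Finite G] {p : ℕ} [Fact p.Prime] (P H : Subgroup G) (hP : Cfsg.IsExtraspecial p ↥P) (n : ℕ) (hn : Nat.card P = p ^ (2 * n + 1)) (hH : IsCyclic H) (hcop : (Nat.card H).Coprime p) (hHP : H ≤ Subgroup.normalizer (P : Set G)) (hfix : ∀ x ∈ H, x ≠ 1 → P ⊓ Subgroup.centralizer {x} = (Subgroup.center ↥P).map P.subtype) : Nat.card H ∣ p ^ n + 1 ∨ Nat.card H ∣ p ^ n - 1 := by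
  classical
  have hp : p.Prime := Fact.out
  rcases Nat.eq_zero_or_pos n with rfl | hn0
  · exact Or.inr (by simp)
  rcases subsingleton_or_nontrivial H with hs | hs
  · left; rw [Nat.card_unique]; exact one_dvd _
  -- `H` centralizes the centre of `P`
  have hHZ : ∀ x ∈ H, ∀ c : P, c ∈ Subgroup.center ↥P → x * (c : G) = (c : G) * x := by
    intro x hx c hc
    by_cases hx1 : x = 1
    · simp [hx1]
    have : (c : G) ∈ P ⊓ Subgroup.centralizer {x} := by rw [hfix x hx hx1]; exact ⟨c, hc, rfl⟩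
    exact (Subgroup.mem_centralizer_singleton_iff.1 this.2).symm
  set L := P ⊔ H with hL
  haveI : Fintype L := Fintype.ofFinite L
  haveI hN : (P.subgroupOf L).Normal :=
    Subgroup.normal_subgroupOf_of_le_normalizer (sup_le Subgroup.le_normalizer hHP)
  set N := P.subgroupOf L with hNdef
  haveI : Fintype N := Fintype.ofFinite N
  let e : N ≃* P := Subgroup.subgroupOfEquivOfLe (le_sup_left : P ≤ L)
  -- a faithful character of `P`
  obtain ⟨h0894a, h0894b⟩ := Cfsg.Agent.S0894.result p n hP hn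
  have hpos : 0 < Nat.card {χ : Cfsg.IrrCharacter P // (χ : P → ℂ) 1 = (p : ℂ) ^ n} := by
    rw [h0894b]; have := hp.two_le; omega
  obtain ⟨⟨χ, hχ1⟩⟩ := (Nat.card_pos_iff.1 hpos).1
  haveI := Fintype.ofFinite P
  obtain ⟨z, hz, hzne⟩ : ∃ z ∈ Subgroup.center ↥P, (χ : P → ℂ) z ≠ (χ : P → ℂ) 1 := by
    by_contra! hk
    have h := degree_one_of_center_kernel hP χ.2 hk
    rw [hχ1] at h
    have h' : p ^ n = 1 := by exact_mod_cast h
    exact (Nat.one_lt_pow hn0.ne' hp.one_lt).ne' h'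
  let θ : N → ℂ := fun x => (χ : P → ℂ) (e x)
  have hθ : Cfsg.IsIrrCharacter N θ := irr_mulEquiv e χ.2
  have hinv : ∀ g : L, conjN θ g = θ := by
    intro g
    funext x
    have hval : ∀ w : P, ((w : G) = (g : G) * ((e x : P) : G) * (g : G)⁻¹) → (χ : P → ℂ) w = (χ : P → ℂ) (e x) := by
      intro w hw
      by_cases hxc : e x ∈ Subgroup.center ↥P
      · have hle : L ≤ Subgroup.centralizer ({((e x : P) : G)} : Set G) := by
          refine sup_le (fun y hy => ?_) (fun y hy => ?_)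
          · exact Subgroup.mem_centralizer_singleton_iff.2 (congrArg Subtype.val (Subgroup.mem_center_iff.1 hxc ⟨y, hy⟩))
          · exact Subgroup.mem_centralizer_singleton_iff.2 (hHZ y hy _ hxc)
        rw [show w = e x from Subtype.ext (by
          rw [hw, Subgroup.mem_centralizer_singleton_iff.1 (hle g.2), mul_inv_cancel_right])]
      · have hwc : w ∉ Subgroup.center ↥P := by
          intro hwc
          apply hxc
          have hle : L ≤ Subgroup.centralizer ({(w : G)} : Set G) := by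
            refine sup_le (fun y hy => ?_) (fun y hy => ?_)
            · exact Subgroup.mem_centralizer_singleton_iff.2 (congrArg Subtype.val (Subgroup.mem_center_iff.1 hwc ⟨y, hy⟩))
            · exact Subgroup.mem_centralizer_singleton_iff.2 (hHZ y hy _ hwc)
          have h1 := Subgroup.mem_centralizer_singleton_iff.1 (hle g.2)
          have h2 : (w : G) = ((e x : P) : G) := mul_left_cancel (h1.trans (by rw [hw, inv_mul_cancel_right]))
          exact (Subtype.ext h2 : w = e x) ▸ hwc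
        rw [vanish_of_extraspecial hP χ.2 hz hzne hwc, vanish_of_extraspecial hP χ.2 hz hzne hxc]
    exact hval _ rfl
  have hcycH : IsCyclic H := hH
  have hcycQ : IsCyclic (L ⧸ N) := by
    haveI := hH
    let f : H →* L ⧸ N := (QuotientGroup.mk' N).comp (Subgroup.inclusion (le_sup_right : H ≤ L))
    refine isCyclic_of_surjective f fun q => ?_
    obtain ⟨l, rfl⟩ := QuotientGroup.mk'_surjective N q
    have hl : (l : G) ∈ ((P ⊔ H : Subgroup G) : Set G) := l.2
    rw [Subgroup.coe_mul_of_right_le_normalizer_left P H hHP] at hl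
    obtain ⟨u, hu, v, hv, huv⟩ := hl
    refine ⟨⟨v, hv⟩, ?_⟩
    have hl' : l = (⟨u, Subgroup.mem_sup_left hu⟩ : L) * Subgroup.inclusion (le_sup_right : H ≤ L) ⟨v, hv⟩ :=
      Subtype.ext huv.symm
    show QuotientGroup.mk' N _ = _
    conv_rhs => rw [hl', map_mul]
    rw [show QuotientGroup.mk' N (⟨u, Subgroup.mem_sup_left hu⟩ : L) = 1 from (QuotientGroup.eq_one_iff _).2 hu, one_mul]
  obtain ⟨η, hη, hext⟩ := extend_cyclic hθ hinv hcycQ
  -- centre elements act as roots of unity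
  have hscal : ∀ c : P, c ∈ Subgroup.center ↥P → ∃ ω : ℂ, ω * conj ω = 1 ∧
      ∀ l : L, η (l * ⟨c, Subgroup.mem_sup_left c.2⟩) = ω * η l := by
    intro c hc
    have hcL : (⟨c, Subgroup.mem_sup_left c.2⟩ : L) ∈ Subgroup.center L := by
      rw [Subgroup.mem_center_iff]
      have hle : L ≤ Subgroup.centralizer ({(c : G)} : Set G) := by
        refine sup_le (fun y hy => ?_) (fun y hy => ?_)
        · exact Subgroup.mem_centralizer_singleton_iff.2 (congrArg Subtype.val (Subgroup.mem_center_iff.1 hc ⟨y, hy⟩))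
        · exact Subgroup.mem_centralizer_singleton_iff.2 (hHZ y hy _ hc)
      exact fun l => Subtype.ext (Subgroup.mem_centralizer_singleton_iff.1 (hle l.2))
    obtain ⟨ω, hω, -⟩ := exists_central_scalar hη hcL
    refine ⟨ω, ?_, hω⟩
    have hk : ∀ k : ℕ, η ((⟨c, Subgroup.mem_sup_left c.2⟩ : L) ^ k) = ω ^ k * η 1 := by
      intro k
      induction k with
      | zero => simp
      | succ k ih => rw [pow_succ, hω, ih, pow_succ]; ring
    have h := hk (orderOf (⟨c, Subgroup.mem_sup_left c.2⟩ : L))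
    rw [pow_orderOf_eq_one] at h
    have hω1 := mul_right_cancel₀ (irr_one_ne_zero hη) (h.symm.trans (one_mul _).symm)
    rw [Complex.mul_conj', norm_root (orderOf_pos _).ne' hω1]
    simp
  have hnorm : ∀ x : L, (x : G) ∈ H → (x : G) ≠ 1 → η x * conj (η x) = 1 := by
    intro x hxH hx1
    have hcop' : Nat.Coprime (orderOf (x : G)) (Nat.card P) := by
      rw [hn]
      refine Nat.Coprime.pow_right _ (Nat.Coprime.coprime_dvd_left ?_ hcop)
      rw [← Subgroup.orderOf_mk (x : G) hxH]; exact orderOf_dvd_natCard _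
    have hterm : ∀ g : N, η (x * g) * conj (η (x * g)) = η x * conj (η x) := by
      intro g
      have hh : (x : G) * (g : L) * (x : G)⁻¹ ∈ P :=
        (Subgroup.mem_normalizer_iff.1 (hHP hxH) _).1 g.2
      obtain ⟨y, hy, c, hc, hcx, he⟩ := CfsgLib.Char.coset_conj P (hHP hxH) hcop' hh
      rw [inv_mul_cancel_right] at he
      have hcZ : (⟨c, hc⟩ : P) ∈ Subgroup.center ↥P := by
        have : c ∈ P ⊓ Subgroup.centralizer {(x : G)} := ⟨hc, Subgroup.mem_centralizer_singleton_iff.2 hcx⟩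
        rw [hfix _ hxH hx1] at this
        obtain ⟨c', hc', hce⟩ := this
        rwa [show (⟨c, hc⟩ : P) = c' from Subtype.ext hce.symm]
      obtain ⟨ω, hω, hωl⟩ := hscal ⟨c, hc⟩ hcZ
      have heL : (⟨y, Subgroup.mem_sup_left hy⟩ : L) * (x * g) * (⟨y, Subgroup.mem_sup_left hy⟩ : L)⁻¹ =
          x * ⟨c, Subgroup.mem_sup_left hc⟩ := Subtype.ext (he.trans hcx)
      rw [← classFun_of_irr hη (x * g) ⟨y, Subgroup.mem_sup_left hy⟩, heL, hωl, map_mul]
      linear_combination (η x * conj (η x)) * hω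
    have h := Cfsg.Agent.S4454.coset_norm N hcycQ hη hθ hext x
    rw [Finset.sum_congr rfl (fun g _ => hterm g), Finset.sum_const, Finset.card_univ, nsmul_eq_mul,
      ← Nat.card_eq_fintype_card] at h
    exact mul_left_cancel₀ (natCard_ne_zero N) (h.trans (mul_one _).symm)
  haveI := hH
  letI : CommGroup H := IsCyclic.commGroup
  haveI : Fintype H := Fintype.ofFinite H
  let ι : H →* L := Subgroup.inclusion le_sup_right
  have hf1 : η (ι 1) = ((p ^ n : ℕ) : ℂ) := by
    rw [map_one, Nat.cast_pow, ← hχ1, ← show θ 1 = (χ : P → ℂ) 1 by simp [θ], ← hext 1, Subgroup.coe_one]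
  have := dvd_of_norm_one (H := H) Finite.one_lt_card (isCharacter_comp ι (isCharacter_of_isIrr hη)) (p ^ n) hf1
    (fun x hx => hnorm (ι x) x.2 fun h => hx (Subtype.ext h))
  rcases this with h | h
  · right
    have h1 : ((Nat.card H : ℕ) : ℤ) ∣ ((p ^ n - 1 : ℕ) : ℤ) := by
      rw [Nat.cast_sub (Nat.one_le_pow _ _ hp.pos)]; simpa using h
    exact Int.natCast_dvd_natCast.1 h1
  · left
    exact Int.natCast_dvd_natCast.1 (by simpa using h)

end Cfsg.Agent.S3767
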