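import Cfsg.Statements.S3769
import Cfsg.Agent.Solv.HBGroup
import Cfsg.Agent.Solv.CoprimeSylow
-- import your own Cfsg.Agent.* helpers here

set_option autoImplicit false
open Cfsg

namespace Cfsg.Agent.S3769

/-- Let G and V be subgroups of a finite group with G solvable of odd order normalizing V, V an elementary abelian ℓ-group for a prime ℓ not dividing the order of G, and suppose G has a normal Hall subgroup K with a complement R of prime order. If C_V(R) = 1, then [R, K] centralizes V. -/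
theorem result {X : Type*} [Group X] [Finite X] (G : Subgroup X) (hsolv : Group.IsSolvable G) (hodd : Odd (Nat.card G)) (V : Subgroup X) {ℓ : ℕ} (hℓ : ℓ.Prime) (hV : Cfsg.IsElementaryAbelian ℓ V) (hℓG : ¬ ℓ ∣ Nat.card G) (hGV : G ≤ Subgroup.normalizer (V : Set X)) (K R : Subgroup X) (hKG : K ≤ G) (hKn : G ≤ Subgroup.normalizer (K : Set X)) (hHall : (Nat.card K).Coprime (K.relIndex G)) (hRG : R ≤ G) (hR : (Nat.card R).Prime) (hKR : K ⊓ R = ⊥) (hKRG : K ⊔ R = G) (hCV : V ⊓ Subgroup.centralizer (R : Set X) = ⊥) : ⁅R, K⁆ ≤ Subgroup.centralizer (V : Set X) := by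
  classical
  haveI := Fact.mk hℓ
  set r := Nat.card R with hr
  haveI := Fact.mk hR
  have hrG : r ∣ Nat.card G := Subgroup.card_dvd_of_le hRG
  have hrodd : r ≠ 2 := fun h => (Nat.not_even_iff_odd.2 hodd) (even_iff_two_dvd.2 (h ▸ hrG))
  have hcop : (Nat.card R).Coprime (Nat.card K) := by
    rw [← hr, hR.coprime_iff_not_dvd]
    intro h
    haveI : (K.subgroupOf G).Normal := Subgroup.normal_subgroupOf_of_le_normalizer hKn
    let f : R →* G ⧸ K.subgroupOf G := (QuotientGroup.mk' _).comp (Subgroup.inclusion hRG)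
    have hf : Function.Injective f := by
      rw [injective_iff_map_eq_one]
      intro a ha
      have h0 : Subgroup.inclusion hRG a ∈ K.subgroupOf G := (QuotientGroup.eq_one_iff _).1 ha
      have h1 : (a : X) ∈ K ⊓ R := ⟨h0, a.2⟩
      rw [hKR, Subgroup.mem_bot] at h1
      exact Subtype.ext h1
    have h2 : r ∣ K.relIndex G := Subgroup.card_dvd_of_injective f hf
    exact hR.ne_one (Nat.eq_one_of_dvd_coprimes hHall h h2)
  obtain ⟨x, hxR, hxne⟩ : ∃ x ∈ R, x ≠ 1 := R.bot_or_exists_ne_one.resolve_left fun e => by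
    have : r = 1 := by rw [hr, e, Subgroup.card_bot]
    exact hR.ne_one this
  have hord : orderOf x = r := by
    have h1 : orderOf x ∣ r := Subgroup.orderOf_mk x hxR ▸ orderOf_dvd_natCard (⟨x, hxR⟩ : R)
    exact ((Nat.dvd_prime hR).1 h1).resolve_left fun e => hxne (orderOf_eq_one_iff.1 e)
  have hRgen : R = Subgroup.zpowers x := by
    refine (Subgroup.eq_of_le_of_card_ge (Subgroup.zpowers_le.2 hxR) ?_).symm
    rw [Nat.card_zpowers, hord]
  have hfix : V ⊓ Subgroup.centralizer {x} = ⊥ := by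
    rwa [hRgen, Subgroup.zpowers_eq_closure, Subgroup.centralizer_closure] at hCV
  have hRK : R ≤ Subgroup.normalizer (K : Set X) := hRG.trans hKn
  have hRsol : Group.IsSolvable R := by
    haveI := hsolv
    exact Group.isSolvable_of_isSolvable_injective (f := Subgroup.inclusion hRG) (Subgroup.inclusion_injective hRG)
  have hℓK : ¬ ℓ ∣ Nat.card K := fun h => hℓG (h.trans (Subgroup.card_dvd_of_le hKG))
  have hoddK : ¬ 2 ∣ Nat.card K := fun h =>
    (Nat.not_even_iff_odd.2 hodd) (even_iff_two_dvd.2 (h.trans (Subgroup.card_dvd_of_le hKG)))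
  -- the elements of `G` whose commutator with a conjugate of `R` is trivial on `V`
  let M : Subgroup X :=
    { carrier := {k | k ∈ G ∧ x * k * x⁻¹ * k⁻¹ ∈ Subgroup.centralizer (V : Set X)}
      one_mem' := ⟨one_mem _, by simp [Subgroup.one_mem]⟩
      mul_mem' := fun {a b} ha hb => ⟨mul_mem ha.1 hb.1, by
        have e : x * (a * b) * x⁻¹ * (a * b)⁻¹
            = (x * a * x⁻¹ * a⁻¹) * (a * (x * b * x⁻¹ * b⁻¹) * a⁻¹) := by group
        rw [e]
        refine mul_mem ha.2 ?_
        rw [Subgroup.mem_centralizer_iff]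
        intro v hv
        have hv' : a⁻¹ * v * a ∈ V := (Subgroup.mem_normalizer_iff''.1 (hGV ha.1) v).1 hv
        have h := Subgroup.mem_centralizer_iff.1 hb.2 _ hv'
        calc v * (a * (x * b * x⁻¹ * b⁻¹) * a⁻¹)
            = a * (a⁻¹ * v * a * (x * b * x⁻¹ * b⁻¹)) * a⁻¹ := by group
          _ = a * (x * b * x⁻¹ * b⁻¹ * (a⁻¹ * v * a)) * a⁻¹ := by rw [h]
          _ = a * (x * b * x⁻¹ * b⁻¹) * a⁻¹ * v := by group⟩
      inv_mem' := fun {a} ha => ⟨inv_mem ha.1, by
        rw [Subgroup.mem_centralizer_iff]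
        intro v hv
        have hv' : a * v * a⁻¹ ∈ V := (Subgroup.mem_normalizer_iff.1 (hGV ha.1) v).1 hv
        have h := Subgroup.mem_centralizer_iff.1 (inv_mem ha.2) _ hv'
        calc v * (x * a⁻¹ * x⁻¹ * a⁻¹⁻¹)
            = a⁻¹ * (a * v * a⁻¹ * (x * a * x⁻¹ * a⁻¹)⁻¹) * a := by group
          _ = a⁻¹ * ((x * a * x⁻¹ * a⁻¹)⁻¹ * (a * v * a⁻¹)) * a := by rw [h]
          _ = x * a⁻¹ * x⁻¹ * a⁻¹⁻¹ * v := by group⟩ }
  have hKM : K ≤ M := by
    have key : ∀ s : ℕ, s.Prime → s ^ (Nat.card K).factorization s ∣ Nat.card (M ⊓ K : Subgroup X) := by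
      intro s hs
      haveI := Fact.mk hs
      obtain ⟨P, hPinv⟩ := CfsgLib.Solv.exists_invariant_sylow (p := s) hRK hcop (Or.inl hRsol)
      set P' := (P : Subgroup K).map K.subtype with hP'
      haveI : Group.IsNilpotent P' := (P.2.map K.subtype).isNilpotent
      have hP'K : P' ≤ K := Subgroup.map_subtype_le _
      have hcard : Nat.card P' = s ^ (Nat.card K).factorization s := by
        rw [hP', Subgroup.card_map_of_injective K.subtype_injective, Sylow.card_eq_multiplicity]
      rw [← hcard]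
      refine Subgroup.card_dvd_of_le (le_inf (fun k hk => ⟨hKG (hP'K hk), ?_⟩) hP'K)
      have hsub : Nat.card P' ∣ Nat.card K := Subgroup.card_dvd_of_le hP'K
      rcases CfsgLib.Solv.HB.centralized_or_exceptional_group V hV hR
          (fun h => hℓG (h ▸ hrG)) x hord (hGV (hRG hxR)) hfix P' ((hP'K.trans hKG).trans hGV)
          (hPinv hxR) (fun h => hℓK (h.trans hsub))
          (fun h => hR.coprime_iff_not_dvd.1 hcop (h.trans hsub)) with h | ⟨-, t, m, ht, htd, hm, hrm⟩
      · exact h k hk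
      · exfalso
        have ht2 : t ≠ 2 := fun e => hoddK (e ▸ htd.trans hsub)
        have h3 : r % 2 = 0 := by
          rw [hrm, Nat.add_mod, Nat.pow_mod, (ht.eq_two_or_odd.resolve_left ht2)]; simp
        exact hrodd ((hR.eq_two_or_odd).resolve_right (by omega))
    have h1 : M ⊓ K = K := by
      refine Subgroup.eq_of_le_of_card_ge inf_le_right (Nat.le_of_dvd Nat.card_pos ?_)
      refine (Nat.dvd_iff_prime_pow_dvd_dvd _ _).2 fun s k hs hk => ?_
      exact (pow_dvd_pow s ((hs.pow_dvd_iff_le_factorization Nat.card_pos.ne').1 hk)).trans (key s hs)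
    exact inf_eq_right.1 h1
  rw [Subgroup.commutator_le]
  intro a ha b hb
  rw [hRgen] at ha
  obtain ⟨i, rfl⟩ : a ∈ Submonoid.powers x :=
    (isOfFinOrder_of_finite x).mem_powers_iff_mem_zpowers.2 ha
  rw [commutatorElement_def]
  clear hRgen
  induction i generalizing b with
  | zero => simp [Subgroup.one_mem]
  | succ i ih =>
    have hc : x * b * x⁻¹ ∈ K := (Subgroup.mem_normalizer_iff.1 (hRK hxR) b).1 hb
    have e : x ^ (i + 1) * b * (x ^ (i + 1))⁻¹ * b⁻¹
        = (x ^ i * (x * b * x⁻¹) * (x ^ i)⁻¹ * (x * b * x⁻¹)⁻¹) * (x * b * x⁻¹ * b⁻¹) := by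
      rw [pow_succ]; group
    rw [e]
    exact mul_mem (ih _ hc (pow_mem (Subgroup.mem_zpowers x) i)) (hKM hb).2

end Cfsg.Agent.S3769
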