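import Cfsg.Statements.S3770
import Cfsg.Agent.Solv.HBRankOne
import Cfsg.Agent.Solv.HBGroup
import Cfsg.Agent.Solv.FrobeniusNilp
-- import your own Cfsg.Agent.* helpers here

set_option autoImplicit false
open Cfsg

namespace Cfsg.Agent.S3770

/-- Let G and V be subgroups of a finite group with G a Frobenius group with complement R of prime order and kernel K, G normalizing V, and V an elementary abelian ℓ-group for a prime ℓ not dividing the order of G. If C_V(R) has order ℓ, then the derived subgroup of K centralizes V. -/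
theorem result {X : Type*} [Group X] [Finite X] (G : Subgroup X) (V : Subgroup X) {ℓ : ℕ} (hℓ : ℓ.Prime) (hV : Cfsg.IsElementaryAbelian ℓ V) (hℓG : ¬ ℓ ∣ Nat.card G) (hGV : G ≤ Subgroup.normalizer (V : Set X)) (R : Subgroup ↥G) (hR : Cfsg.IsFrobeniusComplement R) (hRp : (Nat.card R).Prime) (hCV : Nat.card ↥(V ⊓ Subgroup.centralizer ((R.map G.subtype : Subgroup X) : Set X)) = ℓ) : ⁅Subgroup.closure (Subtype.val '' Cfsg.frobeniusKernel R), Subgroup.closure (Subtype.val '' Cfsg.frobeniusKernel R)⁆ ≤ Subgroup.centralizer (V : Set X) := by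
  classical
  haveI := Fact.mk hℓ
  set r := Nat.card R with hr
  haveI := Fact.mk hRp
  obtain ⟨N, hN, hNn, hNR⟩ := CfsgLib.Solv.frobenius_theorem hR
  haveI := hNn
  rw [← hN]
  have hd : N ⊓ R = ⊥ := hNR.disjoint.eq_bot
  haveI : Group.IsNilpotent N := CfsgLib.Solv.frobenius_isNilpotent hR hd
  obtain ⟨x, hxR, hxne⟩ : ∃ x ∈ R, x ≠ 1 := R.bot_or_exists_ne_one.resolve_left hR.1
  have hord : orderOf x = r := by
    have h1 : orderOf x ∣ r := Subgroup.orderOf_mk x hxR ▸ orderOf_dvd_natCard (⟨x, hxR⟩ : R)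
    exact ((Nat.dvd_prime hRp).1 h1).resolve_left fun e => hxne (orderOf_eq_one_iff.1 e)
  have hxr : x ^ r = 1 := hord ▸ pow_orderOf_eq_one x
  have hRgen : R = Subgroup.zpowers x := by
    refine (Subgroup.eq_of_le_of_card_ge (Subgroup.zpowers_le.2 hxR) ?_).symm
    rw [Nat.card_zpowers, hord]
  -- the automorphism of the kernel
  let θ : N ≃* N := MulAut.conjNormal x
  have hθv : ∀ u : N, (θ u : G) = x * u * x⁻¹ := fun u => MulAut.conjNormal_apply x u
  have hθit : ∀ (k : ℕ) (u : N), ((θ^[k] u : N) : G) = x ^ k * u * (x ^ k)⁻¹ := by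
    intro k
    induction k with
    | zero => intro u; simp
    | succ k ih => intro u; rw [Function.iterate_succ_apply', hθv, ih, pow_succ']; group
  have hθr : ∀ u, θ^[r] u = u := fun u => Subtype.ext (by rw [hθit, hxr]; simp)
  have hfpf : ∀ u, θ u = u → u = 1 := by
    intro u hu
    have h1 : (u : G) ∈ N ⊓ Subgroup.centralizer {x} := ⟨u.2,
      Subgroup.mem_centralizer_singleton_iff.2
        (mul_inv_eq_iff_eq_mul.1 ((hθv u).symm.trans (congrArg Subtype.val hu))).symm⟩
    rw [CfsgLib.Solv.fpf_of_frobenius hR hd hxR hxne, Subgroup.mem_bot] at h1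
    exact Subtype.ext h1
  -- the module
  letI : CommGroup V := { (inferInstance : Group V) with mul_comm := hV.1.is_comm.comm }
  haveI hmod : Module (ZMod ℓ) (Additive V) := AddCommGroup.zmodModule (fun v => by
    apply Additive.toMul.injective
    rw [toMul_nsmul, toMul_zero]
    exact Subtype.ext (hV.2 _ (Additive.toMul v).2))
  haveI : FiniteDimensional (ZMod ℓ) (Additive V) := Module.Finite.of_finite
  let c : G →* MulAut V := (Subgroup.normalizerMonoidHom V).comp (Subgroup.inclusion hGV)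
  let ρ₀ : G →* Module.End (ZMod ℓ) (Additive V) :=
    { toFun := fun x => (MonoidHom.toAdditive (c x).toMonoidHom).toZModLinearMap ℓ
      map_one' := LinearMap.ext fun v => by rw [map_one]; rfl
      map_mul' := fun x y => LinearMap.ext fun v => by rw [map_mul]; rfl }
  have hval : ∀ (g : G) (v : Additive V),
      ((Additive.toMul (ρ₀ g v) : V) : X) = g * (Additive.toMul v : V) * (g : X)⁻¹ := fun g v => rfl
  obtain ⟨Φ, hΦ, hΦrank⟩ := CfsgLib.Solv.HB.exists_scalar_extension_rank_one (k := ZMod ℓ)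
    (M := Additive V) (AlgebraicClosure (ZMod ℓ))
  -- the fixed space is a line
  obtain ⟨a, haA, hane⟩ : ∃ a ∈ V ⊓ Subgroup.centralizer ((R.map G.subtype : Subgroup X) : Set X), a ≠ 1 :=
    (V ⊓ _).bot_or_exists_ne_one.resolve_left fun e => by
      rw [e, Subgroup.card_bot] at hCV; exact hℓ.one_lt.ne hCV
  set A := V ⊓ Subgroup.centralizer ((R.map G.subtype : Subgroup X) : Set X) with hA
  have hAgen : ∀ b ∈ A, ∃ i : ℕ, b = a ^ i := by
    intro b hb
    obtain ⟨i, hi⟩ := (Submonoid.mem_powers_iff _ _).1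
      (mem_powers_of_prime_card (g := (⟨a, haA⟩ : A)) (g' := ⟨b, hb⟩) hCV
        (fun h => hane (congrArg Subtype.val h)))
    exact ⟨i, (congrArg Subtype.val hi).symm⟩
  set P := ∑ i ∈ Finset.range r, ρ₀ x ^ i with hP
  have hPline : ∀ v, P v ∈ Submodule.span (ZMod ℓ) {Additive.ofMul (⟨a, haA.1⟩ : V)} := by
    intro v
    set w := P v with hw
    have hwfix : ρ₀ x w = w := by
      have h1 : ρ₀ x * P = P := by
        rw [hP, Finset.mul_sum]
        have h2 := Finset.sum_range_succ (fun i => ρ₀ x ^ i) r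
        have h3 : ρ₀ x ^ r = ρ₀ x ^ 0 := by rw [← map_pow, hxr, map_one, pow_zero]
        rw [Finset.sum_range_succ', h3, add_left_inj] at h2
        simp only [← pow_succ']
        exact h2
      rw [hw, ← Module.End.mul_apply, h1]
    have h4 : ((Additive.toMul w : V) : X) ∈ A := by
      refine ⟨(Additive.toMul w).2, ?_⟩
      rw [hRgen, MonoidHom.map_zpowers, Subgroup.zpowers_eq_closure, Subgroup.centralizer_closure]
      refine Subgroup.mem_centralizer_singleton_iff.2 ?_
      have := congrArg Subtype.val (congrArg Additive.toMul hwfix)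
      rw [hval] at this
      exact (mul_inv_eq_iff_eq_mul.1 this).symm
    obtain ⟨i, hi⟩ := hAgen _ h4
    have h5 : w = i • Additive.ofMul (⟨a, haA.1⟩ : V) := by
      apply Additive.toMul.injective
      rw [toMul_nsmul]
      exact Subtype.ext hi
    rw [h5]
    exact Submodule.smul_of_tower_mem _ i (Submodule.mem_span_singleton_self _)
  obtain ⟨a', ha'⟩ := hΦrank P ⟨_, hPline⟩
  let g : N →* Module.End (AlgebraicClosure (ZMod ℓ))
      (Fin (Module.finrank (ZMod ℓ) (Additive V)) → AlgebraicClosure (ZMod ℓ)) :=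
    (Φ.toMonoidHom.comp ρ₀).comp N.subtype
  have hmain := CfsgLib.Solv.HB.commute_of_fpf_rank_one hRp (Nat.card N) N rfl
    (CfsgLib.Solv.HB.cast_ne_zero_of_not_dvd fun h => hℓG (h.trans (Subgroup.card_subgroup_dvd_card N)))
    θ hθr hfpf _ g (Φ (ρ₀ x)) (by rw [← map_pow, ← map_pow, hxr, map_one, map_one])
    (fun u => by
      show Φ (ρ₀ x) * Φ (ρ₀ u) = Φ (ρ₀ (θ u : G)) * Φ (ρ₀ x)
      rw [← map_mul, ← map_mul, ← map_mul, ← map_mul, hθv, inv_mul_cancel_right])
    ⟨a', fun w => by
      have := ha' w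
      simpa only [hP, map_sum, map_pow] using this⟩
  have hkey : ∀ p ∈ N, ∀ q ∈ N, ((p * q * p⁻¹ * q⁻¹ : G) : X) ∈ Subgroup.centralizer (V : Set X) := by
    intro p hp q hq
    have h1 : ρ₀ (p * q * p⁻¹ * q⁻¹) = 1 := hΦ ((hmain ⟨p, hp⟩ ⟨q, hq⟩).trans (map_one Φ).symm)
    rw [Subgroup.mem_centralizer_iff]
    intro v hv
    have h2 := congrArg Subtype.val
      (congrArg Additive.toMul (LinearMap.congr_fun h1 (Additive.ofMul (⟨v, hv⟩ : V))))
    rw [hval] at h2
    exact (mul_inv_eq_iff_eq_mul.1 h2).symm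
  rw [show (Subtype.val '' (N : Set G)) = ((N.map G.subtype : Subgroup X) : Set X) from rfl,
    Subgroup.closure_eq, Subgroup.commutator_le]
  rintro _ ⟨p, hp, rfl⟩ _ ⟨q, hq, rfl⟩
  rw [commutatorElement_def]
  exact hkey p hp q hq

end Cfsg.Agent.S3770
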