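import Cfsg.Statements.S3771
import Cfsg.Agent.Perm.MinClass
import Mathlib.GroupTheory.PGroup
-- import your own Cfsg.Agent.* helpers here

set_option autoImplicit false
open Cfsg

namespace Cfsg.Agent.S3771

/-- Let p be a prime and R a finite p-group of p-rank at most 2 (no elementary abelian subgroup of order p³) in which every element has order dividing p. Then R has order at most p³. -/
theorem result {R : Type*} [Group R] [Finite R] {p : ℕ} [Fact p.Prime] (hR : IsPGroup p R) (hrank : Cfsg.PRankLE p 2 R) (hexp : ∀ x : R, x ^ p = 1) : Nat.card R ≤ p ^ 3 := by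
  classical
  obtain ⟨A, hAn, hAc, hAA⟩ := CfsgLib.Perm.exists_self_centralizing_normal_abelian hR
  have hA2 : Nat.card A ≤ p ^ 2 := hrank A hAc fun a _ => hexp a
  have hpp : p.Prime := Fact.out
  by_cases htop : A = ⊤
  · rw [htop, Subgroup.card_top] at hA2
    exact hA2.trans (Nat.pow_le_pow_right hpp.pos (by norm_num))
  have : Nontrivial R := by
    by_contra h
    rw [not_nontrivial_iff_subsingleton] at h
    exact htop (Subsingleton.elim _ _)
  haveI := hR.center_nontrivial
  obtain ⟨⟨z, hz⟩, hz1⟩ := exists_ne (1 : Subgroup.center R)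
  have hz1' : z ≠ 1 := fun e => hz1 (Subtype.ext e)
  have hzA : z ∈ A := by
    rw [← hAA]; exact Subgroup.mem_centralizer_iff.2 fun y _ => Subgroup.mem_center_iff.1 hz y
  have hzo : orderOf z = p := orderOf_eq_prime (hexp z) hz1'
  obtain ⟨k, hk⟩ := (hR.to_subgroup A).exists_card_eq
  have hk2 : k ≤ 2 := (Nat.pow_le_pow_iff_right hpp.one_lt).1 (hk ▸ hA2)
  have hzle : Subgroup.zpowers z ≤ A := Subgroup.zpowers_le.2 hzA
  have hne : A ≠ Subgroup.zpowers z := by
    intro e
    apply htop
    rw [eq_top_iff, ← hAA, e]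
    intro r _
    refine Subgroup.mem_centralizer_iff.2 fun y hy => ?_
    obtain ⟨i, rfl⟩ := Subgroup.mem_zpowers_iff.1 hy
    exact (Commute.zpow_left (Subgroup.mem_center_iff.1 hz r).symm i).eq
  obtain ⟨b, hbA, hb⟩ := SetLike.exists_of_lt (lt_of_le_of_ne hzle (Ne.symm hne))
  have hCb : ∀ r : R, r * b = b * r → r ∈ A := by
    intro r hr
    let K : Subgroup R := Subgroup.centralizer ({r} : Set R) ⊓ A
    have hzK : Subgroup.zpowers z < K := by
      refine lt_of_le_of_ne (le_inf (Subgroup.zpowers_le.2 (Subgroup.mem_centralizer_singleton_iff.2 (Subgroup.mem_center_iff.1 hz r).symm)) hzle) fun e => hb ?_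
      rw [e]
      exact ⟨Subgroup.mem_centralizer_singleton_iff.2 hr.symm, hbA⟩
    have hKA : K = A := by
      obtain ⟨j, hj⟩ := (hR.to_subgroup K).exists_card_eq
      refine Subgroup.eq_of_le_of_card_ge inf_le_right ?_
      have hlt : Nat.card (Subgroup.zpowers z) < Nat.card K := by
        refine lt_of_le_of_ne (Subgroup.card_le_of_le hzK.le) fun e => hzK.ne (Subgroup.eq_of_le_of_card_ge hzK.le e.ge)
      rw [Nat.card_zpowers, hzo, hj] at hlt
      rw [hj, hk]
      refine Nat.pow_le_pow_right hpp.pos ?_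
      by_contra hjk
      have : j ≤ 1 := by omega
      have := Nat.pow_le_pow_right hpp.pos this
      rw [pow_one] at this
      omega
    rw [← hAA]
    refine Subgroup.mem_centralizer_iff.2 fun y hy => ?_
    exact Subgroup.mem_centralizer_singleton_iff.1 ((hKA ▸ hy : y ∈ K).1)
  let f : R ⧸ A → {y : A // (y : R) ≠ 1} := Quotient.lift
    (fun r => ⟨⟨r * b * r⁻¹, hAn.conj_mem b hbA r⟩, fun e => hb (by rw [conj_eq_one_iff.1 e]; exact one_mem _)⟩)
    (fun r s (hrs : QuotientGroup.leftRel A r s) => by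
      rw [QuotientGroup.leftRel_apply] at hrs
      have hc : r⁻¹ * s * b = b * (r⁻¹ * s) := congrArg Subtype.val (hAc.is_comm.comm ⟨_, hrs⟩ ⟨b, hbA⟩)
      refine Subtype.ext (Subtype.ext ?_)
      show r * b * r⁻¹ = s * b * s⁻¹
      calc r * b * r⁻¹ = r * (b * (r⁻¹ * s)) * s⁻¹ := by group
        _ = r * (r⁻¹ * s * b) * s⁻¹ := by rw [hc]
        _ = s * b * s⁻¹ := by group)
  have hinj : Function.Injective f := by
    intro q₁ q₂
    induction q₁ using QuotientGroup.induction_on with
    | _ r =>
      induction q₂ using QuotientGroup.induction_on with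
      | _ s =>
        intro e
        have e' : r * b * r⁻¹ = s * b * s⁻¹ := congrArg (fun y => ((y.1 : A) : R)) e
        rw [QuotientGroup.eq]
        refine hCb _ ?_
        calc r⁻¹ * s * b = r⁻¹ * (s * b * s⁻¹) * s := by group
          _ = r⁻¹ * (r * b * r⁻¹) * s := by rw [e']
          _ = b * (r⁻¹ * s) := by group
  have hle := Nat.card_le_card_of_injective f hinj
  have hlt : Nat.card {y : A // (y : R) ≠ 1} < Nat.card A :=
    Finite.card_subtype_lt (x := (1 : A)) (by simp)
  obtain ⟨j, hj⟩ := IsPGroup.iff_card.1 (hR.to_quotient A)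
  have hcard := A.card_eq_card_quotient_mul_card_subgroup
  rw [hj, hk, ← pow_add] at hcard
  rw [hcard]
  refine Nat.pow_le_pow_right hpp.pos ?_
  have : p ^ j < p ^ k := by rw [← hj, ← hk]; omega
  have := (Nat.pow_lt_pow_iff_right hpp.one_lt).1 this
  omega

end Cfsg.Agent.S3771
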