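import Cfsg.Statements.S3772

import Cfsg.Agent.Solv.ClassTwo
import Cfsg.Agent.Solv.FittingBasic

set_option autoImplicit false
set_option linter.style.haveILetI false
open Cfsg

namespace Cfsg.Agent.S3772

open scoped commutatorElement

/-- Let G be a finite 2-group whose Frattini subgroup Φ(G) has order 2, with |G : Φ(G)| = 2^d, and let j be the number of elements x of G with x² = 1. Then j = 2^d, or j = 2^d + 2^(d−r) or j = 2^d − 2^(d−r) for some positive integer r with 2r ≤ d. Moreover if d = 2r and j is 2^d + 2^r or 2^d − 2^r, then G is extraspecial. -/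
theorem result {G : Type*} [Group G] [Finite G] (hG : IsPGroup 2 G) (hΦ : Nat.card (frattini G) = 2) (d : ℕ) (hd : (frattini G).index = 2 ^ d) : (Nat.card {x : G // x ^ 2 = 1} = 2 ^ d ∨ ∃ r : ℕ, 1 ≤ r ∧ 2 * r ≤ d ∧ (Nat.card {x : G // x ^ 2 = 1} = 2 ^ d + 2 ^ (d - r) ∨ Nat.card {x : G // x ^ 2 = 1} + 2 ^ (d - r) = 2 ^ d)) ∧ (∀ r : ℕ, d = 2 * r → (Nat.card {x : G // x ^ 2 = 1} = 2 ^ d + 2 ^ r ∨ Nat.card {x : G // x ^ 2 = 1} + 2 ^ r = 2 ^ d) → Cfsg.IsExtraspecial 2 G) := by
  classical
  haveI : Fact (Nat.Prime 2) := ⟨Nat.prime_two⟩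
  haveI := Fintype.ofFinite G
  have hcard : Nat.card G = 2 ^ (d + 1) := by
    rw [← (frattini G).card_mul_index, hΦ, hd, pow_succ']
  have hcen : frattini G ≤ Subgroup.center G := by
    intro w hw
    refine Subgroup.mem_center_iff.2 fun g => ?_
    by_cases hw1 : w = 1
    · rw [hw1, one_mul, mul_one]
    have h1 := (Nat.card_eq_two_iff' (1 : frattini G)).1 hΦ
    have h2 : g * w * g⁻¹ = w := congrArg Subtype.val (h1.unique
      (y₁ := ⟨_, (inferInstance : (frattini G).Normal).conj_mem w hw g⟩) (y₂ := ⟨w, hw⟩)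
      (fun e => hw1 (by simpa using congrArg Subtype.val e))
      (fun e => hw1 (congrArg Subtype.val e)))
    calc g * w = g * w * g⁻¹ * g := by group
      _ = _ := by rw [h2]
  have hcomm : ∀ g h : G, ⁅g, h⁆ ∈ frattini G := fun g h => CfsgLib.Solv.commutator_le_frattini hG
    (Subgroup.commutator_mem_commutator (Subgroup.mem_top g) (Subgroup.mem_top h))
  have hsqm : ∀ g : G, g ^ 2 ∈ frattini G := CfsgLib.Solv.pow_mem_frattini hG
  let s : G → ℤ := fun w => if w = 1 then 1 else -1
  have hs : ∀ w ∈ frattini G, ∀ v ∈ frattini G, s (w * v) = s w * s v := by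
    intro w hw v hv
    by_cases hw1 : w = 1
    · simp [s, hw1]
    by_cases hv1 : v = 1
    · simp [s, hv1]
    have h1 := (Nat.card_eq_two_iff' (1 : frattini G)).1 hΦ
    have h2 : w = v := congrArg Subtype.val (h1.unique (y₁ := ⟨w, hw⟩) (y₂ := ⟨v, hv⟩)
      (fun e => hw1 (congrArg Subtype.val e)) (fun e => hv1 (congrArg Subtype.val e)))
    have h3 : w * v = 1 := by
      have h4 : (⟨w, hw⟩ : frattini G) ^ 2 = 1 := hΦ ▸ pow_card_eq_one'
      rw [← h2, ← sq]
      exact congrArg Subtype.val h4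
    simp [s, hw1, hv1, h3]
  let ε : G → ℤ := fun g => s (g ^ 2)
  have hε : ∀ g k : G, ε (g * k) = s ⁅k, g⁆ * (ε g * ε k) := fun g k => by
    show s ((g * k) ^ 2) = _
    rw [CfsgLib.Solv.pow_mul_of_commutator (Subgroup.mem_center_iff.1 (hcen (hcomm k g)) g).symm
      (Subgroup.mem_center_iff.1 (hcen (hcomm k g)) k).symm, Nat.choose_self, pow_one,
      hs _ (hcomm k g) _ (mul_mem (hsqm g) (hsqm k)), hs _ (hsqm g) _ (hsqm k)]
  have hεsq : ∀ g, ε g * ε g = 1 := fun g => by
    show (if g ^ 2 = 1 then (1:ℤ) else -1) * (if g ^ 2 = 1 then (1:ℤ) else -1) = 1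
    split_ifs <;> norm_num
  have hinner : ∀ k : G, ∑ g : G, s ⁅k, g⁆ = if k ∈ Subgroup.center G then (Nat.card G : ℤ) else 0 := by
    intro k
    split_ifs with hk
    · rw [Finset.sum_congr rfl (fun g _ => show s ⁅k, g⁆ = 1 from if_pos
        (commutatorElement_eq_one_iff_mul_comm.2 (Subgroup.mem_center_iff.1 hk g).symm))]
      simp [Nat.card_eq_fintype_card]
    · obtain ⟨g₀, hg₀⟩ : ∃ g₀ : G, ⁅k, g₀⁆ ≠ 1 := by
        by_contra hne
        push Not at hne
        exact hk (Subgroup.mem_center_iff.2 fun g => (commutatorElement_eq_one_iff_mul_comm.1 (hne g)).symm)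
      have hmul : ∀ g : G, ⁅k, g * g₀⁆ = ⁅k, g⁆ * ⁅k, g₀⁆ := fun g => by
        have h := Subgroup.mem_center_iff.1 (hcen (hcomm k g₀)) g
        calc ⁅k, g * g₀⁆ = ⁅k, g⁆ * (g * ⁅k, g₀⁆ * g⁻¹) := by simp only [commutatorElement_def]; group
          _ = _ := by rw [h, mul_inv_cancel_right]
      have h1 : ∑ g : G, s ⁅k, g⁆ = ∑ g : G, s ⁅k, g⁆ * (-1) := by
        rw [← Equiv.sum_comp (Equiv.mulRight g₀) fun g => s ⁅k, g⁆]
        exact Finset.sum_congr rfl fun g _ => by
          rw [Equiv.coe_mulRight, hmul, hs _ (hcomm k g) _ (hcomm k g₀), show s ⁅k, g₀⁆ = -1 from if_neg hg₀]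
      rw [← Finset.sum_mul] at h1
      linarith
  set S := ∑ g : G, ε g with hS
  have hSS : S * S = (Nat.card G : ℤ) * ∑ k : G, if k ∈ Subgroup.center G then ε k else 0 := by
    rw [hS, Finset.sum_mul_sum]
    calc ∑ g, ∑ h, ε g * ε h = ∑ g, ∑ k, ε g * ε (g * k) :=
          Finset.sum_congr rfl fun g _ => (Equiv.sum_comp (Equiv.mulLeft g) fun h => ε g * ε h).symm
      _ = ∑ k, ∑ g, ε k * s ⁅k, g⁆ := by
          rw [Finset.sum_comm]
          refine Finset.sum_congr rfl fun k _ => Finset.sum_congr rfl fun g _ => ?_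
          rw [hε, ← mul_assoc, mul_comm (ε g), mul_assoc, ← mul_assoc (ε g), hεsq, one_mul, mul_comm]
      _ = _ := by
          rw [Finset.mul_sum]
          refine Finset.sum_congr rfl fun k _ => ?_
          rw [← Finset.mul_sum, hinner]
          split_ifs <;> ring
  have hZsum : (∑ k : G, if k ∈ Subgroup.center G then ε k else 0) = 0 ∨
      ((∑ k : G, if k ∈ Subgroup.center G then ε k else 0) = Nat.card (Subgroup.center G) ∧
        ∀ k ∈ Subgroup.center G, ε k = 1) := by
    by_cases hall : ∀ k ∈ Subgroup.center G, ε k = 1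
    · refine Or.inr ⟨?_, hall⟩
      rw [← Finset.sum_filter, Finset.sum_congr rfl (fun k hk => hall k (Finset.mem_filter.1 hk).2)]
      simp [Nat.card_eq_fintype_card, Fintype.card_subtype]
    · left
      push Not at hall
      obtain ⟨k₀, hk₀, hne⟩ := hall
      have hk₀' : ε k₀ = -1 := by
        have := hεsq k₀
        rcases mul_self_eq_one_iff.1 this with h | h
        · exact absurd h hne
        · exact h
      have h1 : (∑ k : G, if k ∈ Subgroup.center G then ε k else 0) =
          ∑ k : G, (if k ∈ Subgroup.center G then ε k else 0) * (-1) := by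
        rw [← Equiv.sum_comp (Equiv.mulRight k₀) fun k => if k ∈ Subgroup.center G then ε k else 0]
        refine Finset.sum_congr rfl fun k _ => ?_
        simp only [Equiv.coe_mulRight, Subgroup.mul_mem_cancel_right _ hk₀]
        split_ifs with hk
        · rw [hε, hk₀', show s ⁅k₀, k⁆ = 1 from if_pos
            (commutatorElement_eq_one_iff_mul_comm.2 (Subgroup.mem_center_iff.1 hk₀ k).symm), one_mul]
        · rw [zero_mul]
      rw [← Finset.sum_mul] at h1
      linarith
  have hj : S = 2 * (Nat.card {x : G // x ^ 2 = 1} : ℤ) - 2 ^ (d + 1) := by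
    have h1 : ∀ g : G, ε g = 2 * (if g ^ 2 = 1 then (1 : ℤ) else 0) - 1 := fun g => by
      show (if g ^ 2 = 1 then (1:ℤ) else -1) = _
      split_ifs <;> norm_num
    have h2 : (Fintype.card G : ℤ) = 2 ^ (d + 1) := by rw [← Nat.card_eq_fintype_card, hcard]; norm_num
    rw [hS, Finset.sum_congr rfl (fun g _ => h1 g), Finset.sum_sub_distrib, ← Finset.mul_sum, Finset.sum_boole,
      Nat.card_eq_fintype_card, Fintype.card_subtype]
    simp [h2]
  obtain ⟨t, ht, htc⟩ := (Nat.dvd_prime_pow Nat.prime_two).1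
    (hcard ▸ Subgroup.card_subgroup_dvd_card (Subgroup.center G))
  have ht1 : 1 ≤ t := by
    by_contra h
    have h1 := Subgroup.card_le_of_le hcen
    rw [hΦ, htc, show t = 0 by omega] at h1
    norm_num at h1
  have hmain : S = 0 ∨ ∃ r, 1 ≤ r ∧ 2 * r + t = d + 1 ∧ (S = 2 ^ (d - r + 1) ∨ S = -2 ^ (d - r + 1)) := by
    rcases hZsum with h | ⟨h, hall⟩
    · left
      rw [h, mul_zero] at hSS
      exact mul_self_eq_zero.1 hSS
    · right
      rw [h, hcard, htc] at hSS
      push_cast at hSS
      rw [← pow_add] at hSS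
      have htd : t ≠ d + 1 := by
        intro he
        have htop : Subgroup.center G = ⊤ := Subgroup.eq_top_of_card_eq _ (by rw [htc, he, hcard])
        have h1 : Nat.card {x : G // x ^ 2 = 1} = Nat.card G := Nat.card_congr (Equiv.subtypeUnivEquiv fun x => by
          by_contra hx
          have := hall x (htop ▸ Subgroup.mem_top x)
          simp [ε, s, hx] at this)
        have h2 : ∀ x : G, x ^ 2 = 1 := fun x => by
          by_contra hx
          have := hall x (htop ▸ Subgroup.mem_top x)
          simp [ε, s, hx] at this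
        have h3 : frattini G = ⊥ := le_bot_iff.1 (CfsgLib.Solv.frattini_le_of_elementary (p := 2) ⊥
          (le_of_eq (Subgroup.commutator_eq_bot_iff_le_centralizer.2 fun g _ => Subgroup.mem_centralizer_iff.2
            fun b _ => Subgroup.mem_center_iff.1 (htop ▸ Subgroup.mem_top g) b))
          fun x => Subgroup.mem_bot.2 (h2 x))
        rw [h3, Subgroup.card_bot] at hΦ
        norm_num at hΦ
      have hnat : S.natAbs * S.natAbs = 2 ^ (d + 1 + t) := by
        rw [← Int.natAbs_mul, hSS]; simp [Int.natAbs_pow]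
      obtain ⟨k, -, hk⟩ := (Nat.dvd_prime_pow Nat.prime_two).1 ⟨_, hnat.symm⟩
      rw [hk, ← pow_add] at hnat
      have hkt := Nat.pow_right_injective (le_refl 2) hnat
      refine ⟨d + 1 - k, by omega, by omega, ?_⟩
      rw [show d - (d + 1 - k) + 1 = k by omega]
      rcases Int.natAbs_eq S with e | e
      · left; rw [e, hk]; norm_num
      · right; rw [e, hk]; norm_num
  refine ⟨?_, fun r hr hjr => ?_⟩
  · rcases hmain with h | ⟨r, hr1, hrt, h | h⟩
    · left
      have : (Nat.card {x : G // x ^ 2 = 1} : ℤ) = ((2 ^ d : ℕ) : ℤ) := by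
        push_cast
        rw [h, pow_succ] at hj
        linarith
      exact_mod_cast this
    · refine Or.inr ⟨r, hr1, by omega, Or.inl ?_⟩
      have : (Nat.card {x : G // x ^ 2 = 1} : ℤ) = ((2 ^ d + 2 ^ (d - r) : ℕ) : ℤ) := by
        push_cast
        rw [h, pow_succ, pow_succ] at hj
        linarith
      exact_mod_cast this
    · refine Or.inr ⟨r, hr1, by omega, Or.inr ?_⟩
      have : ((Nat.card {x : G // x ^ 2 = 1} + 2 ^ (d - r) : ℕ) : ℤ) = ((2 ^ d : ℕ) : ℤ) := by
        push_cast
        rw [h, pow_succ, pow_succ] at hj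
        linarith
      exact_mod_cast this
  · have hSr : S = 2 ^ (r + 1) ∨ S = -2 ^ (r + 1) := by
      rcases hjr with h | h <;> have h' := congrArg (Nat.cast : ℕ → ℤ) h <;> push_cast at h'
      · left; rw [hj, pow_succ, pow_succ]; linarith
      · right; rw [hj, pow_succ, pow_succ]; linarith
    have hpos : (0 : ℤ) < 2 ^ (r + 1) := by positivity
    rcases hmain with h | ⟨r', hr1, hrt, hS'⟩
    · rcases hSr with e | e <;> rw [h] at e <;> linarith
    · have hrr : r = d - r' := by
        have hpos' : (0 : ℤ) < 2 ^ (d - r' + 1) := by positivity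
        have : (2 : ℤ) ^ (r + 1) = 2 ^ (d - r' + 1) := by
          rcases hSr with e | e <;> rcases hS' with e' | e' <;> rw [e] at e' <;> linarith
        have := Nat.pow_right_injective (le_refl 2) (show 2 ^ (r + 1) = 2 ^ (d - r' + 1) by exact_mod_cast this)
        omega
      have hZ2 : Nat.card (Subgroup.center G) = 2 := by rw [htc, show t = 1 by omega, pow_one]
      have hΦZ : frattini G = Subgroup.center G := Subgroup.eq_of_le_of_card_ge hcen (by rw [hZ2, hΦ])
      refine ⟨⟨hG, hΦZ, ?_⟩, hZ2⟩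
      refine (CfsgLib.Solv.commutator_le_frattini hG).trans hΦZ.le |>.antisymm ?_
      intro w hw
      by_contra hwc
      have hbot : commutator G = ⊥ := by
        rw [Subgroup.eq_bot_iff_forall]
        intro v hv
        by_contra hv1
        have h1 := (Nat.card_eq_two_iff' (1 : frattini G)).1 hΦ
        have hvm := CfsgLib.Solv.commutator_le_frattini hG hv
        have hwm : w ∈ frattini G := hΦZ ▸ hw
        have hw1 : w ≠ 1 := fun e => hwc (e ▸ one_mem _)
        have hwv : w = v := congrArg Subtype.val (h1.unique (y₁ := ⟨w, hwm⟩) (y₂ := ⟨v, hvm⟩)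
          (fun e => hw1 (congrArg Subtype.val e)) (fun e => hv1 (congrArg Subtype.val e)))
        exact hwc (hwv ▸ hv)
      have htop : Subgroup.center G = ⊤ := by
        rw [eq_top_iff]
        intro g _
        refine Subgroup.mem_center_iff.2 fun h => ?_
        rw [← commutatorElement_eq_one_iff_mul_comm]
        exact (Subgroup.mem_bot).1 (hbot ▸ Subgroup.commutator_mem_commutator (Subgroup.mem_top h) (Subgroup.mem_top g))
      rw [htop, Subgroup.card_top, hcard] at hZ2
      have := Nat.pow_right_injective (le_refl 2) (hZ2.trans (pow_one 2).symm)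
      omega

end Cfsg.Agent.S3772
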