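import Cfsg.Statements.S3774
import Mathlib

set_option autoImplicit false
open Cfsg

namespace Cfsg.Agent.S3774

/-- Let G be a nontrivial finite 2-group whose automorphism group permutes the involutions of G transitively. Then every involution of G is central, so that the involutions together with 1 form the subgroup Ω₁(Z(G)), and if this subgroup has order q then |G| is a power of q. -/
theorem result {G : Type*} [Group G] [Finite G] [Nontrivial G] (hG : IsPGroup 2 G) (htrans : ∀ x y : G, x ≠ 1 → x ^ 2 = 1 → y ≠ 1 → y ^ 2 = 1 → ∃ a : MulAut G, a x = y) : (∀ x : G, x ^ 2 = 1 → x ∈ Subgroup.center G) ∧ ∃ m : ℕ, Nat.card G = Nat.card {z : G // z ^ 2 = 1} ^ m := by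
  classical
  haveI : Fact (Nat.Prime 2) := ⟨Nat.prime_two⟩
  obtain ⟨m, hm⟩ := IsPGroup.iff_card.1 hG
  have hcen : ∀ x : G, x ^ 2 = 1 → x ∈ Subgroup.center G := by
    intro x hx
    by_cases h1 : x = 1
    · rw [h1]; exact one_mem _
    haveI := hG.center_nontrivial
    obtain ⟨k, hk, hck⟩ := (hG.to_subgroup (Subgroup.center G)).nontrivial_iff_card.1 inferInstance
    obtain ⟨c, hc⟩ := exists_prime_orderOf_dvd_card' (G := ↥(Subgroup.center G)) 2
      (hck ▸ dvd_pow_self 2 hk.ne')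
    rw [← Subgroup.orderOf_coe] at hc
    have hc1 : (c : G) ≠ 1 := fun e => by rw [e, orderOf_one] at hc; norm_num at hc
    obtain ⟨a, rfl⟩ := htrans c x hc1 (by rw [← hc, pow_orderOf_eq_one]) h1 hx
    rw [Subgroup.mem_center_iff]
    intro g
    have := congrArg a (Subgroup.mem_center_iff.1 c.2 (a.symm g))
    simpa using this
  refine ⟨hcen, ?_⟩
  let Om : Subgroup G :=
    { carrier := {z | z ^ 2 = 1}
      one_mem' := one_pow 2
      mul_mem' := fun {x y} hx hy => by
        have h : Commute x y := (Subgroup.mem_center_iff.1 (hcen x hx) y).symm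
        show (x * y) ^ 2 = 1
        rw [h.mul_pow, hx, hy, mul_one]
      inv_mem' := fun {x} hx => by
        show x⁻¹ ^ 2 = 1
        rw [inv_pow, hx, inv_one] }
  have hOm : Nat.card {z : G // z ^ 2 = 1} = Nat.card ↥Om := rfl
  obtain ⟨n, hnm, hn⟩ := (Nat.dvd_prime_pow Nat.prime_two).1 (hm ▸ Subgroup.card_subgroup_dvd_card Om)
  -- the equivariant map sending an element to its involution
  have hev : ∀ g : G, g ≠ 1 → g ^ (orderOf g / 2) ≠ 1 ∧ (g ^ (orderOf g / 2)) ^ 2 = 1 := by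
    intro g hg
    obtain ⟨k, hk⟩ := IsPGroup.iff_orderOf.1 hG g
    have hk0 : k ≠ 0 := fun e => hg (orderOf_eq_one_iff.1 (by rw [hk, e, pow_zero]))
    refine ⟨fun e => ?_, ?_⟩
    · have h2 : 2 ≤ orderOf g := by rw [hk]; exact Nat.le_self_pow hk0 2
      exact pow_ne_one_of_lt_orderOf (by omega) (Nat.div_lt_self (by omega) (by norm_num)) e
    · rw [← pow_mul, Nat.div_mul_cancel (hk ▸ dvd_pow_self 2 hk0), pow_orderOf_eq_one]
  let inv : {g : G // g ≠ 1} → {z : G // z ≠ 1 ∧ z ^ 2 = 1} := fun g =>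
    ⟨(g : G) ^ (orderOf (g : G) / 2), hev g g.2⟩
  have hfib : ∀ z w, Nat.card {g // inv g = z} = Nat.card {g // inv g = w} := by
    intro z w
    obtain ⟨a, ha⟩ := htrans z w z.2.1 z.2.2 w.2.1 w.2.2
    let ea : {g : G // g ≠ 1} ≃ {g : G // g ≠ 1} :=
      a.toEquiv.subtypeEquiv fun g => not_congr (map_eq_one_iff a a.injective).symm
    refine Nat.card_congr (ea.subtypeEquiv fun g => ?_)
    have key : ((inv (ea g) : {z : G // z ≠ 1 ∧ z ^ 2 = 1}) : G) = a (inv g : G) := by
      show (a (g : G)) ^ (orderOf (a (g : G)) / 2) = a ((g : G) ^ (orderOf (g : G) / 2))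
      rw [MulEquiv.orderOf_eq, map_pow]
    constructor
    · intro h
      exact Subtype.ext (by rw [key, h, ha])
    · intro h
      refine Subtype.ext (a.injective ?_)
      rw [← key, h, ha]
  have : Fintype {z : G // z ≠ 1 ∧ z ^ 2 = 1} := Fintype.ofFinite _
  have hcount : Nat.card {z : G // z ≠ 1 ∧ z ^ 2 = 1} ∣ Nat.card {g : G // g ≠ 1} := by
    rcases isEmpty_or_nonempty {z : G // z ≠ 1 ∧ z ^ 2 = 1} with he | ⟨⟨z0⟩⟩
    · haveI : IsEmpty {g : G // g ≠ 1} := ⟨fun g => he.false (inv g)⟩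
      simp
    refine Dvd.intro (Nat.card {g // inv g = z0}) ?_
    rw [← Nat.card_congr (Equiv.sigmaFiberEquiv inv), Nat.card_sigma,
      Finset.sum_congr rfl (fun z _ => hfib z z0), Finset.sum_const, Finset.card_univ, smul_eq_mul,
      Nat.card_eq_fintype_card (α := {z : G // z ≠ 1 ∧ z ^ 2 = 1})]
  have h1 : Nat.card {g : G // g ≠ 1} = 2 ^ m - 1 := by
    rw [← hm]
    have : Fintype G := Fintype.ofFinite G
    rw [Nat.card_eq_fintype_card, Nat.card_eq_fintype_card, Fintype.card_subtype_compl,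
      Fintype.card_subtype_eq]
  have h2 : Nat.card {z : G // z ≠ 1 ∧ z ^ 2 = 1} = 2 ^ n - 1 := by
    rw [← hn, ← Nat.card_congr (Equiv.subtypeSubtypeEquivSubtypeInter (fun z : G => z ^ 2 = 1) (fun z => z ≠ 1)) |>.trans
      (Nat.card_congr (Equiv.subtypeEquivRight fun z => and_comm))]
    have : Fintype ↥Om := Fintype.ofFinite _
    show Nat.card {z : ↥Om // (z : G) ≠ 1} = _
    rw [Nat.card_congr (Equiv.subtypeEquivRight (q := fun z : ↥Om => z ≠ 1)
      fun z => not_congr OneMemClass.coe_eq_one), Nat.card_eq_fintype_card, Nat.card_eq_fintype_card,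
      Fintype.card_subtype_compl, Fintype.card_subtype_eq]
  rw [h1, h2] at hcount
  have h3 := Nat.pow_sub_one_gcd_pow_sub_one 2 n m
  rw [Nat.gcd_eq_left hcount] at h3
  have h4 : n = n.gcd m := by
    refine Nat.pow_right_injective le_rfl ?_
    have := Nat.one_le_two_pow (n := n)
    have := Nat.one_le_two_pow (n := n.gcd m)
    show 2 ^ n = 2 ^ n.gcd m
    omega
  obtain ⟨t, ht⟩ : n ∣ m := h4 ▸ Nat.gcd_dvd_right n m
  refine ⟨t, ?_⟩
  rw [hm, hOm, hn, ← pow_mul, ← ht]

end Cfsg.Agent.S3774
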