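import Cfsg.Statements.S3775
import Mathlib

set_option autoImplicit false
open Cfsg

namespace Cfsg.Agent.S3775

variable {A : Type*} [CommGroup A] [Finite A] {p : ℕ} [hp : Fact p.Prime]

def Inv (X : Subgroup (MulAut A)) (B : Subgroup A) : Prop := ∀ x ∈ X, ∀ b ∈ B, x b ∈ B

omit [Finite A] in
theorem map_eq_of_inv {X : Subgroup (MulAut A)} {B : Subgroup A} (h : Inv X B) :
    ∀ x ∈ X, B.map x.toMonoidHom = B := by
  intro x hx
  refine le_antisymm (Subgroup.map_le_iff_le_comap.2 fun b hb => h x hx b hb) fun b hb => ?_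
  exact ⟨x⁻¹ b, h _ (inv_mem hx) b hb, MulAut.apply_inv_self A x b⟩

omit [Finite A] in
theorem inv_iff {X : Subgroup (MulAut A)} {B : Subgroup A} :
    (∀ x ∈ X, B.map x.toMonoidHom = B) ↔ Inv X B :=
  ⟨fun h x hx b hb => (h x hx).le ⟨b, hb, rfl⟩, map_eq_of_inv⟩

/-- Averaging a complement. -/
theorem maschke (hA : IsPGroup p A) (X : Subgroup (MulAut A)) (hX : (Nat.card X).Coprime p)
    {Z U K : Subgroup A} (hZ : Inv X Z) (hU : Inv X U) (hUZ : U ≤ Z) (hKZ : K ≤ Z)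
    (hd : U ⊓ K = ⊥) (hs : U ⊔ K = Z) :
    ∃ K' : Subgroup A, K' ≤ Z ∧ Inv X K' ∧ U ⊓ K' = ⊥ ∧ U ⊔ K' = Z ∧
      ∀ Y : Subgroup A, Inv X Y → Y ≤ K → Y ≤ K' := by
  classical
  haveI : Fintype X := Fintype.ofFinite _
  have hdec : ∀ z : Z, ∃ u ∈ U, u⁻¹ * (z : A) ∈ K := fun z => by
    obtain ⟨u, hu, k, hk, e⟩ := Subgroup.mem_sup.1 (hs.symm ▸ z.2 : (z : A) ∈ U ⊔ K)
    exact ⟨u, hu, by rw [← e, inv_mul_cancel_left]; exact hk⟩
  choose π hπU hπK using hdec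
  have huniq : ∀ (z : Z) (u : A), u ∈ U → u⁻¹ * (z : A) ∈ K → π z = u := by
    intro z u hu hk
    have h1 : u⁻¹ * π z ∈ U ⊓ K := Subgroup.mem_inf.2 ⟨mul_mem (inv_mem hu) (hπU z), by
      have h3 := mul_mem hk (inv_mem (hπK z))
      rwa [show u⁻¹ * (z : A) * ((π z)⁻¹ * (z : A))⁻¹ = u⁻¹ * π z by group] at h3⟩
    rw [hd, Subgroup.mem_bot] at h1
    exact (inv_mul_eq_one.1 h1).symm
  have hπmul : ∀ v w : Z, π (v * w) = π v * π w := fun v w => huniq _ _ (mul_mem (hπU v) (hπU w)) (by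
    rw [Subgroup.coe_mul, mul_inv, mul_mul_mul_comm]; exact mul_mem (hπK v) (hπK w))
  have hπfix : ∀ z : Z, (z : A) ∈ U → π z = z := fun z hz =>
    huniq _ _ hz (by rw [inv_mul_cancel]; exact one_mem K)
  let act : X → Z → Z := fun x z => ⟨((x : MulAut A)⁻¹ : MulAut A) z, hZ _ (inv_mem x.2) _ z.2⟩
  let φ : Z →* A := MonoidHom.mk' (fun z => ∏ x : X, (x : MulAut A) (π (act x z))) (fun v w => by
    rw [← Finset.prod_mul_distrib]
    refine Finset.prod_congr rfl fun x _ => ?_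
    rw [← map_mul, ← hπmul]
    congr 2
    exact Subtype.ext (map_mul _ _ _))
  have hφU : ∀ z, φ z ∈ U := fun z => Subgroup.prod_mem _ fun x _ => hU _ x.2 _ (hπU _)
  have hφfix : ∀ z : Z, (z : A) ∈ U → φ z = (z : A) ^ Nat.card X := fun z hz => by
    show ∏ x : X, _ = _
    rw [Nat.card_eq_fintype_card, ← Finset.card_univ, ← Finset.prod_const]
    refine Finset.prod_congr rfl fun x _ => ?_
    rw [hπfix _ (hU _ (inv_mem x.2) _ hz)]
    exact MulAut.apply_inv_self A _ _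
  have hpow : ∀ a : A, a ^ Nat.card X = 1 → a = 1 := fun a ha => by
    obtain ⟨k, hk⟩ := IsPGroup.iff_orderOf.1 hA a
    exact orderOf_eq_one_iff.1 (Nat.eq_one_of_dvd_coprimes (hX.pow_right k) (orderOf_dvd_of_pow_eq_one ha) hk.dvd)
  refine ⟨φ.ker.map Z.subtype, Subgroup.map_subtype_le _, ?_, ?_, ?_, ?_⟩
  · rintro x hx _ ⟨z, hz, rfl⟩
    refine ⟨⟨x (z : A), hZ x hx _ z.2⟩, ?_, rfl⟩
    rw [SetLike.mem_coe, MonoidHom.mem_ker] at hz ⊢
    have e : φ ⟨x (z : A), hZ x hx _ z.2⟩ = x (φ z) := by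
      show ∏ y : X, _ = x (∏ y : X, _)
      rw [map_prod, ← Equiv.prod_comp (Equiv.mulLeft (⟨x, hx⟩ : X))]
      refine Finset.prod_congr rfl fun y _ => ?_
      show (x * (y : MulAut A)) _ = _
      rw [MulAut.mul_apply]
      congr 3
      refine Subtype.ext ?_
      show ((x * (y : MulAut A))⁻¹ : MulAut A) (x (z : A)) = ((y : MulAut A)⁻¹ : MulAut A) (z : A)
      rw [mul_inv_rev, MulAut.mul_apply, MulAut.inv_apply_self]
    rw [e, hz, map_one]
  · rw [eq_bot_iff]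
    rintro a ⟨haU, z, hz, rfl⟩
    rw [SetLike.mem_coe, MonoidHom.mem_ker, hφfix z haU] at hz
    exact Subgroup.mem_bot.2 (hpow _ hz)
  · refine le_antisymm (sup_le hUZ (Subgroup.map_subtype_le _)) fun a ha => ?_
    let f : U →* U := MonoidHom.mk' (fun u => u ^ Nat.card X) (fun u v => mul_pow u v _)
    have hf : Function.Surjective f := Finite.injective_iff_surjective.1 ((injective_iff_map_eq_one f).2 fun u hu =>
      Subtype.ext (hpow (u : A) (by rw [← Subgroup.coe_pow]; exact congrArg Subtype.val hu)))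
    obtain ⟨u, hu⟩ := hf ⟨φ ⟨a, ha⟩, hφU _⟩
    have hu' : (u : A) ^ Nat.card X = φ ⟨a, ha⟩ := congrArg Subtype.val hu
    refine Subgroup.mem_sup.2 ⟨u, u.2, (u : A)⁻¹ * a, ⟨⟨(u : A)⁻¹ * a, mul_mem (inv_mem (hUZ u.2)) ha⟩, ?_, rfl⟩,
      mul_inv_cancel_left _ _⟩
    rw [SetLike.mem_coe, MonoidHom.mem_ker]
    have e : (⟨(u : A)⁻¹ * a, mul_mem (inv_mem (hUZ u.2)) ha⟩ : Z) = (⟨(u : A), hUZ u.2⟩ : Z)⁻¹ * ⟨a, ha⟩ :=
      Subtype.ext rfl
    rw [e, map_mul, map_inv, hφfix _ u.2]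
    exact inv_mul_eq_one.2 hu'
  · intro Y hY hYK y hy
    refine ⟨⟨y, hKZ (hYK hy)⟩, ?_, rfl⟩
    rw [SetLike.mem_coe, MonoidHom.mem_ker]
    refine Finset.prod_eq_one fun x _ => ?_
    rw [huniq _ 1 (one_mem U) (by
      rw [inv_one, one_mul]; exact hYK (hY _ (inv_mem x.2) _ hy)), map_one]

theorem exists_decomp (hA : IsPGroup p A) (X : Subgroup (MulAut A)) (hX : (Nat.card X).Coprime p)
    {B : Subgroup A} (hB : Inv X B) (hBp : ∀ b ∈ B, b ^ p = 1) (hB1 : B ≠ ⊥) (hBne : ∃ a : A, a ^ p = 1 ∧ a ∉ B) :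
    ∃ P Q : Subgroup A, P ≠ ⊥ ∧ Q ≠ ⊥ ∧ Inv X P ∧ Inv X Q ∧ P ⊓ Q = ⊥ ∧ P ⊔ Q = ⊤ := by
  classical
  obtain ⟨N, hN⟩ := IsPGroup.iff_card.1 hA
  have hex : ∃ e, ∀ a : A, a ^ p ^ e = 1 := ⟨N, fun a => hN ▸ pow_card_eq_one'⟩
  set e := Nat.find hex with he
  have hexp : ∀ a : A, a ^ p ^ e = 1 := Nat.find_spec hex
  have he0 : e ≠ 0 := fun h0 => by
    obtain ⟨a, -, ha⟩ := hBne
    have := hexp a
    rw [h0, pow_zero, pow_one] at this
    exact ha (this ▸ one_mem B)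
  obtain ⟨r0, hr0⟩ : ∃ a : A, a ^ p ^ (e - 1) ≠ 1 := by
    by_contra h; push Not at h
    exact Nat.find_min hex (by omega : e - 1 < e) h
  set Om : Subgroup A := (powMonoidHom p : A →* A).ker with hOm
  have hmOm : ∀ {a : A}, a ∈ Om ↔ a ^ p = 1 := Iff.rfl
  set R : Subgroup A := (powMonoidHom (p ^ (e - 1)) : A →* A).range with hR
  have hInvR : Inv X R := by
    rintro x - _ ⟨a, rfl⟩
    exact ⟨x a, (map_pow x a _).symm⟩
  have hROm : R ≤ Om := by
    rintro _ ⟨a, rfl⟩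
    show (a ^ p ^ (e - 1)) ^ p = 1
    rw [← pow_mul, ← pow_succ, Nat.sub_add_cancel (Nat.one_le_iff_ne_zero.2 he0), hexp]
  have hR1 : R ≠ ⊥ := fun h => hr0 (by
    have : r0 ^ p ^ (e - 1) ∈ R := ⟨r0, rfl⟩
    rwa [h, Subgroup.mem_bot] at this)
  obtain ⟨U, hU, hUR, hU1, hUOm⟩ : ∃ U, Inv X U ∧ U ≤ R ∧ U ≠ ⊥ ∧ U ≠ Om := by
    by_cases h : R = Om
    · refine ⟨B, hB, h ▸ fun b hb => hBp b hb, hB1, fun h' => ?_⟩
      obtain ⟨a, ha, haB⟩ := hBne
      exact haB (h' ▸ ha)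
    · exact ⟨R, hInvR, le_rfl, hR1, h⟩
  obtain ⟨Y, -, ⟨hY, hUY⟩, hmax⟩ := Finite.exists_le_maximal (α := Subgroup A)
    (p := fun Y => Inv X Y ∧ U ⊓ Y = ⊥) (a := ⊥) ⟨fun x _ b hb => by
      rw [Subgroup.mem_bot] at hb ⊢; rw [hb, map_one], inf_bot_eq U⟩
  -- elements with `p`th power in `Y`
  set Z : Subgroup A := Y.comap (powMonoidHom p) with hZdef
  have hZ : Inv X Z := fun x hx a ha => by
    show (x a) ^ p ∈ Y
    rw [← map_pow]; exact hY x hx _ ha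
  have hUZ : U ≤ Z := fun u hu => by
    show u ^ p ∈ Y
    rw [show u ^ p = 1 from hROm (hUR hu)]; exact one_mem Y
  have hYZ : Y ≤ Z := fun y hy => show y ^ p ∈ Y from pow_mem hy p
  obtain ⟨K, -, ⟨hYK, hKZ, hUK⟩, hKmax⟩ := Finite.exists_le_maximal (α := Subgroup A)
    (p := fun K => Y ≤ K ∧ K ≤ Z ∧ U ⊓ K = ⊥) (a := Y) ⟨le_rfl, hYZ, hUY⟩
  have hsup : U ⊔ K = Z := by
    refine le_antisymm (sup_le hUZ hKZ) fun a ha => ?_
    by_contra hna
    have haK : a ∉ K := fun h => hna (Subgroup.mem_sup_right h)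
    refine haK (hKmax (y := K ⊔ Subgroup.zpowers a) ⟨hYK.trans le_sup_left,
      sup_le hKZ (Subgroup.zpowers_le.2 ha), ?_⟩ le_sup_left (Subgroup.mem_sup_right (Subgroup.mem_zpowers a)))
    rw [eq_bot_iff]
    rintro u ⟨hu, hu2⟩
    obtain ⟨k, hk, _, ⟨i, rfl⟩, e⟩ := Subgroup.mem_sup.1 hu2
    change k * a ^ i = u at e
    have hai : a ^ i ∈ U ⊔ K := by
      rw [show a ^ i = u * k⁻¹ by rw [← e, mul_comm k, mul_inv_cancel_right]]
      exact mul_mem (Subgroup.mem_sup_left hu) (Subgroup.mem_sup_right (inv_mem hk))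
    rcases em ((p : ℤ) ∣ i) with ⟨j, hj⟩ | hpi
    · have : u ∈ U ⊓ K := ⟨hu, by
        rw [← e, hj, zpow_mul, zpow_natCast]
        exact mul_mem hk (hYK (zpow_mem (show a ^ p ∈ Y from ha) j))⟩
      rwa [hUK] at this
    · obtain ⟨s, t, hst⟩ := ((Nat.prime_iff_prime_int.1 hp.out).coprime_iff_not_dvd.2 hpi)
      refine absurd ?_ hna
      rw [← zpow_one a, ← hst, zpow_add, mul_comm s, zpow_mul, mul_comm t, zpow_mul, zpow_natCast]
      exact mul_mem (Subgroup.mem_sup_right (zpow_mem (hYK (show a ^ p ∈ Y from ha)) s)) (zpow_mem hai t)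
  obtain ⟨K', hK'Z, hK', hUK', hsup', hge⟩ := maschke hA X hX hZ hU hUZ hKZ hUK hsup
  have hYK' : Y ≤ K' := hge Y hY hYK
  obtain rfl : K' = Y := le_antisymm (hmax ⟨hK', hUK'⟩ hYK') hYK'
  -- the quotient by `Y` is homocyclic with socle `U`
  obtain ⟨ι, hι, n, hn1, ⟨f⟩⟩ := CommGroup.equiv_prod_multiplicative_zmod_of_finite (A ⧸ K')
  set π := QuotientGroup.mk' K' with hπ
  have hπs : Function.Surjective π := QuotientGroup.mk'_surjective K'
  set g : ι → A := fun i => (hπs (f.symm (Pi.mulSingle i (Multiplicative.ofAdd 1)))).choose with hg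
  have hgs : ∀ i, π (g i) = f.symm (Pi.mulSingle i (Multiplicative.ofAdd 1)) := fun i =>
    (hπs (f.symm (Pi.mulSingle i (Multiplicative.ofAdd 1)))).choose_spec
  have hsingle : ∀ (i : ι) (k : ℕ), (f (π (g i ^ k))) i = Multiplicative.ofAdd (k : ZMod (n i)) := by
    intro i k
    rw [map_pow, map_pow, hgs, MulEquiv.apply_symm_apply, Pi.pow_apply, Pi.mulSingle_eq_same, ← ofAdd_nsmul, nsmul_one]
  have hgn : ∀ i, g i ^ n i = 1 := by
    intro i
    haveI : NeZero (n i) := ⟨by have := hn1 i; omega⟩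
    have hdvd : n i ∣ p ^ e := by
      have h1 := hsingle i (p ^ e)
      rw [hexp, map_one, map_one, Pi.one_apply] at h1
      exact (ZMod.natCast_eq_zero_iff _ _).1 (Multiplicative.ofAdd.injective h1).symm
    obtain ⟨k, hke, hk⟩ := (Nat.dvd_prime_pow hp.out).1 hdvd
    rcases Nat.eq_or_lt_of_le hke with rfl | hlt
    · rw [hk]; exact hexp _
    exfalso
    have hk0 : k ≠ 0 := fun h0 => by have := hn1 i; rw [hk, h0, pow_zero] at this; omega
    have hmem : g i ^ p ^ (k - 1) ∈ Z := by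
      show (g i ^ p ^ (k - 1)) ^ p ∈ K'
      rw [← pow_mul, ← pow_succ, Nat.sub_add_cancel (Nat.one_le_iff_ne_zero.2 hk0), ← hk,
        ← QuotientGroup.eq_one_iff]
      show π (g i ^ n i) = 1
      rw [map_pow, hgs, ← map_pow, ← Pi.mulSingle_pow, ← ofAdd_nsmul, nsmul_one, ZMod.natCast_self, ofAdd_zero,
        Pi.mulSingle_one, map_one]
    rw [← hsup'] at hmem
    obtain ⟨u, hu, y, hy, euy⟩ := Subgroup.mem_sup.1 hmem
    obtain ⟨b, hb⟩ := hUR hu
    change b ^ p ^ (e - 1) = u at hb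
    have hne : (f (π (g i ^ p ^ (k - 1)))) i ≠ 1 := fun h1 => by
      rw [hsingle] at h1
      have h2 := (ZMod.natCast_eq_zero_iff _ _).1 (Multiplicative.ofAdd.injective h1)
      rw [hk, Nat.pow_dvd_pow_iff_le_right hp.out.one_lt] at h2
      omega
    refine hne ?_
    rw [← euy, ← hb, map_mul, show π y = 1 from (QuotientGroup.eq_one_iff y).2 hy, mul_one, map_pow, map_pow,
      Pi.pow_apply]
    obtain ⟨c, hc⟩ : n i ∣ p ^ (e - 1) := hk ▸ pow_dvd_pow p (by omega)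
    rw [hc, pow_mul]
    have h1 : ∀ z : Multiplicative (ZMod (n i)), z ^ n i = 1 := fun z => by
      apply Multiplicative.toAdd.injective
      rw [toAdd_pow, toAdd_one, nsmul_eq_mul, ZMod.natCast_self, zero_mul]
    rw [h1, one_pow]
  let sec : ((i : ι) → Multiplicative (ZMod (n i))) →* A :=
    MonoidHom.mk' (fun v => ∏ i, g i ^ (Multiplicative.toAdd (v i)).val) (fun v w => by
      rw [← Finset.prod_mul_distrib]
      refine Finset.prod_congr rfl fun i _ => ?_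
      haveI : NeZero (n i) := ⟨by have := hn1 i; omega⟩
      rw [← pow_add, Pi.mul_apply, toAdd_mul, ZMod.val_add]
      exact (pow_eq_pow_mod _ (hgn i)).symm)
  have hsec : ∀ v, π (sec v) = f.symm v := by
    intro v
    show π (∏ i, g i ^ (Multiplicative.toAdd (v i)).val) = _
    conv_rhs => rw [← Finset.univ_prod_mulSingle v]
    rw [map_prod, map_prod]
    refine Finset.prod_congr rfl fun i _ => ?_
    haveI : NeZero (n i) := ⟨by have := hn1 i; omega⟩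
    rw [map_pow, hgs, ← map_pow, ← Pi.mulSingle_pow, ← ofAdd_nsmul, nsmul_one, ZMod.natCast_zmod_val, ofAdd_toAdd]
  have hd : K' ⊓ sec.range = ⊥ := by
    rw [eq_bot_iff]
    rintro _ ⟨hy, v, rfl⟩
    have h1 : f.symm v = 1 := hsec v ▸ (QuotientGroup.eq_one_iff _).2 hy
    rw [show v = 1 from f.symm.injective (h1.trans (map_one f.symm).symm), map_one]
    exact one_mem _
  have hs : K' ⊔ sec.range = ⊤ := eq_top_iff.2 fun a _ => by
    refine Subgroup.mem_sup.2 ⟨a * (sec (f (π a)))⁻¹, ?_, _, ⟨f (π a), rfl⟩, inv_mul_cancel_right _ _⟩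
    refine (QuotientGroup.eq_one_iff _).1 ?_
    show π (a * (sec (f (π a)))⁻¹) = 1
    rw [map_mul, map_inv, hsec, MulEquiv.symm_apply_apply, mul_inv_cancel]
  obtain ⟨Q, -, hQ, hdQ, hsQ, -⟩ := maschke hA X hX (Z := ⊤) (fun _ _ _ _ => Subgroup.mem_top _) hY le_top le_top hd hs
  have hY1 : K' ≠ ⊥ := fun h => hUOm (le_antisymm (hUR.trans hROm) fun a ha => by
    have hm : a ∈ Z := show a ^ p ∈ K' by rw [show a ^ p = 1 from ha]; exact one_mem _
    rwa [← hsup', h, sup_bot_eq] at hm)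
  have hQ1 : Q ≠ ⊥ := fun h => by
    rw [h, sup_bot_eq] at hsQ
    rw [hsQ, inf_top_eq] at hUK'
    exact hU1 hUK'
  exact ⟨K', Q, hY1, hQ1, hY, hQ, hdQ, hsQ⟩


/-- Let A be a finite abelian p-group and X a group of automorphisms of A of order prime to p. Call a subgroup of A invariant when every element of X maps it onto itself. Then the following are equivalent: (i) A is not the direct product of two nontrivial invariant subgroups; (ii) every invariant subgroup of A is one of the subgroups Ω_i(A) = {a : a^(p^i) = 1}; (iii) the subgroup Ω₁(A) of elements of order dividing p has no invariant subgroups other than 1 and itself. -/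
theorem result {A : Type*} [CommGroup A] [Finite A] {p : ℕ} [Fact p.Prime] (hA : IsPGroup p A) (X : Subgroup (MulAut A)) (hX : (Nat.card X).Coprime p) : ((¬ ∃ B C : Subgroup A, B ≠ ⊥ ∧ C ≠ ⊥ ∧ (∀ x ∈ X, B.map x.toMonoidHom = B) ∧ (∀ x ∈ X, C.map x.toMonoidHom = C) ∧ B ⊓ C = ⊥ ∧ B ⊔ C = ⊤) ↔ (∀ B : Subgroup A, (∀ x ∈ X, B.map x.toMonoidHom = B) → ∃ i : ℕ, ∀ a : A, a ∈ B ↔ a ^ p ^ i = 1)) ∧ ((∀ B : Subgroup A, (∀ x ∈ X, B.map x.toMonoidHom = B) → ∃ i : ℕ, ∀ a : A, a ∈ B ↔ a ^ p ^ i = 1) ↔ (∀ B : Subgroup A, (∀ x ∈ X, B.map x.toMonoidHom = B) → (∀ b ∈ B, b ^ p = 1) → B = ⊥ ∨ ∀ a : A, a ∈ B ↔ a ^ p = 1)) := by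
  classical
  have hiii_ii : (∀ B : Subgroup A, (∀ x ∈ X, B.map x.toMonoidHom = B) → (∀ b ∈ B, b ^ p = 1) → B = ⊥ ∨ ∀ a : A, a ∈ B ↔ a ^ p = 1) →
      ∀ B : Subgroup A, (∀ x ∈ X, B.map x.toMonoidHom = B) → ∃ i : ℕ, ∀ a : A, a ∈ B ↔ a ^ p ^ i = 1 := by
    intro h3
    have key : ∀ (i : ℕ) (B : Subgroup A), Inv X B → (∀ b ∈ B, b ^ p ^ i = 1) →
        ∃ j, j ≤ i ∧ ∀ a : A, a ∈ B ↔ a ^ p ^ j = 1 := by
      intro i
      induction i with
      | zero =>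
        intro B _ hb
        refine ⟨0, le_rfl, fun a => ⟨hb a, fun ha => ?_⟩⟩
        rw [pow_zero, pow_one] at ha; rw [ha]; exact one_mem B
      | succ i ih =>
        intro B hB hb
        by_cases hlow : ∀ b ∈ B, b ^ p ^ i = 1
        · obtain ⟨j, hj, h⟩ := ih B hB hlow
          exact ⟨j, hj.trans (Nat.le_succ i), h⟩
        refine ⟨i + 1, le_rfl, fun a => ⟨hb a, fun ha => ?_⟩⟩
        set B' := B.map (powMonoidHom (p ^ i) : A →* A) with hB'
        have hInv' : Inv X B' := by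
          rintro x hx _ ⟨b, hb', rfl⟩
          exact ⟨x b, hB x hx b hb', (map_pow x b _).symm⟩
        rcases h3 B' (map_eq_of_inv hInv') (by
          rintro _ ⟨b, hb', rfl⟩
          show (b ^ p ^ i) ^ p = 1
          rw [← pow_mul, ← pow_succ]; exact hb b hb') with h | h
        · refine absurd (fun b hb' => ?_) hlow
          have h' : b ^ p ^ i ∈ B' := ⟨b, hb', rfl⟩
          rwa [h, Subgroup.mem_bot] at h'
        · obtain ⟨b, hbB, hbe⟩ := (h (a ^ p ^ i)).2 (by rw [← pow_mul, ← pow_succ]; exact ha)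
          have hbe' : b ^ p ^ i = a ^ p ^ i := hbe
          -- lower elements lie in `B`
          have hlowmem : ∀ c : A, c ^ p ^ i = 1 → c ∈ B := by
            intro c hc
            rcases Nat.eq_zero_or_pos i with h0 | h0
            · rw [h0, pow_zero, pow_one] at hc; rw [hc]; exact one_mem B
            set B2 := B.map (powMonoidHom p : A →* A) with hB2
            have hInv2 : Inv X B2 := by
              rintro x hx _ ⟨b, hb', rfl⟩
              exact ⟨x b, hB x hx b hb', (map_pow x b _).symm⟩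
            obtain ⟨j, hj, hjmem⟩ := ih B2 hInv2 (by
              rintro _ ⟨b, hb', rfl⟩
              show (b ^ p) ^ p ^ i = 1
              rw [← pow_mul, ← pow_succ']; exact hb b hb')
            have hji : j = i := by
              refine le_antisymm hj (not_lt.1 fun hlt => hlow fun b hb' => ?_)
              have h1 : (b ^ p) ^ p ^ j = 1 := (hjmem _).1 ⟨b, hb', rfl⟩
              rw [← pow_mul, ← pow_succ'] at h1
              obtain ⟨m, hm⟩ := pow_dvd_pow p hlt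
              rw [hm, pow_mul, h1, one_pow]
            subst hji
            obtain ⟨b, hb', rfl⟩ := (hjmem c).2 hc
            exact pow_mem hb' p
          have : a = b * (b⁻¹ * a) := (mul_inv_cancel_left _ _).symm
          rw [this]
          exact mul_mem hbB (hlowmem _ (by rw [mul_pow, inv_pow, hbe', inv_mul_cancel]))
    intro B hB
    obtain ⟨N, hN⟩ := IsPGroup.iff_card.1 hA
    obtain ⟨j, -, hj⟩ := key N B (inv_iff.1 hB) fun b _ => hN ▸ pow_card_eq_one'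
    exact ⟨j, hj⟩
  have hii_iii : (∀ B : Subgroup A, (∀ x ∈ X, B.map x.toMonoidHom = B) → ∃ i : ℕ, ∀ a : A, a ∈ B ↔ a ^ p ^ i = 1) →
      ∀ B : Subgroup A, (∀ x ∈ X, B.map x.toMonoidHom = B) → (∀ b ∈ B, b ^ p = 1) → B = ⊥ ∨ ∀ a : A, a ∈ B ↔ a ^ p = 1 := by
    intro h2 B hB hb
    obtain ⟨i, hi⟩ := h2 B hB
    rcases Nat.eq_zero_or_pos i with rfl | h0
    · exact Or.inl (eq_bot_iff.2 fun a ha => Subgroup.mem_bot.2 (by simpa using (hi a).1 ha))
    · refine Or.inr fun a => ⟨hb a, fun ha => (hi a).2 ?_⟩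
      obtain ⟨m, hm⟩ := dvd_pow_self p h0.ne'
      rw [hm, pow_mul, ha, one_pow]
  have hiii_i : (∀ B : Subgroup A, (∀ x ∈ X, B.map x.toMonoidHom = B) → (∀ b ∈ B, b ^ p = 1) → B = ⊥ ∨ ∀ a : A, a ∈ B ↔ a ^ p = 1) →
      ¬ ∃ B C : Subgroup A, B ≠ ⊥ ∧ C ≠ ⊥ ∧ (∀ x ∈ X, B.map x.toMonoidHom = B) ∧ (∀ x ∈ X, C.map x.toMonoidHom = C) ∧ B ⊓ C = ⊥ ∧ B ⊔ C = ⊤ := by
    rintro h3 ⟨B, C, hB1, hC1, hB, hC, hd, -⟩
    have hsoc : ∀ D : Subgroup A, D ≠ ⊥ → ∃ d ∈ D, d ≠ 1 ∧ d ^ p = 1 := fun D hD => by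
      haveI : Nontrivial D := (Subgroup.nontrivial_iff_ne_bot D).2 hD
      obtain ⟨k, hk, hck⟩ := (hA.to_subgroup D).nontrivial_iff_card.1 inferInstance
      obtain ⟨d, hd'⟩ := exists_prime_orderOf_dvd_card' (G := D) p (hck ▸ dvd_pow_self p hk.ne')
      refine ⟨d, d.2, fun e => ?_, ?_⟩
      · rw [show d = 1 from Subtype.ext e, orderOf_one] at hd'
        exact (Fact.out : p.Prime).ne_one hd'.symm
      · rw [← hd', ← Subgroup.orderOf_coe, pow_orderOf_eq_one]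
    obtain ⟨b, hbB, hb1, hbp⟩ := hsoc B hB1
    obtain ⟨c, hcC, hc1, hcp⟩ := hsoc C hC1
    have hInv : Inv X (B ⊓ (powMonoidHom p : A →* A).ker) := fun x hx a ha =>
      ⟨inv_iff.1 hB x hx a ha.1, by
        show (x a) ^ p = 1
        rw [← map_pow, show a ^ p = 1 from ha.2, map_one]⟩
    rcases h3 _ (map_eq_of_inv hInv) (fun a ha => ha.2) with h | h
    · exact hb1 (Subgroup.mem_bot.1 (h ▸ (⟨hbB, hbp⟩ : b ∈ B ⊓ (powMonoidHom p : A →* A).ker)))
    · exact hc1 (Subgroup.mem_bot.1 (hd ▸ (⟨((h c).2 hcp).1, hcC⟩ : c ∈ B ⊓ C)))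
  have hi_iii : (¬ ∃ B C : Subgroup A, B ≠ ⊥ ∧ C ≠ ⊥ ∧ (∀ x ∈ X, B.map x.toMonoidHom = B) ∧ (∀ x ∈ X, C.map x.toMonoidHom = C) ∧ B ⊓ C = ⊥ ∧ B ⊔ C = ⊤) →
      ∀ B : Subgroup A, (∀ x ∈ X, B.map x.toMonoidHom = B) → (∀ b ∈ B, b ^ p = 1) → B = ⊥ ∨ ∀ a : A, a ∈ B ↔ a ^ p = 1 := by
    intro h1 B hB hb
    by_contra hcon
    push Not at hcon
    obtain ⟨hB1, a, ha⟩ := hcon
    rcases ha with ⟨ha1, ha2⟩ | ⟨ha1, ha2⟩
    · exact ha2 (hb a ha1)
    obtain ⟨P, Q, hP, hQ, hPi, hQi, hd, hs⟩ := exists_decomp hA X hX (inv_iff.1 hB) hb hB1 ⟨a, ha2, ha1⟩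
    exact h1 ⟨P, Q, hP, hQ, map_eq_of_inv hPi, map_eq_of_inv hQi, hd, hs⟩
  exact ⟨⟨fun h => hiii_ii (hi_iii h), fun h => hiii_i (hii_iii h)⟩, ⟨hii_iii, hiii_ii⟩⟩

end Cfsg.Agent.S3775
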