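import Cfsg.Statements.S3780
import Cfsg.Agent.Solv.FittingBasic
import Mathlib

set_option autoImplicit false
open Cfsg

namespace Cfsg.Agent.S3780


universe u

theorem exists_gens {V : Type*} [Group V] [Finite V] {p : ℕ} [hp : Fact p.Prime] (hV : IsPGroup p V) :
    ∀ (m : ℕ) (H : Subgroup V), H.index = m → ∃ S : Finset V,
      Subgroup.closure (S : Set V) ⊔ H = ⊤ ∧ p ^ S.card ≤ m := by
  classical
  intro m
  induction m using Nat.strong_induction_on with
  | _ m ih =>
  intro H hm
  by_cases hH : H = ⊤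
  · refine ⟨∅, by rw [hH, sup_top_eq], ?_⟩
    rw [← hm, hH, Subgroup.index_top]; simp
  obtain ⟨x, -, hx⟩ := SetLike.exists_of_lt (lt_top_iff_ne_top.2 hH)
  set H' := H ⊔ Subgroup.zpowers x
  have hd : H.relIndex H' * H'.index = H.index := Subgroup.relIndex_mul_index le_sup_left
  have hne : H.relIndex H' ≠ 1 := fun e =>
    hx (Subgroup.relIndex_eq_one.1 e (Subgroup.mem_sup_right (Subgroup.mem_zpowers x)))
  obtain ⟨k, hk⟩ := hV.index H
  obtain ⟨j, -, hj⟩ := (Nat.dvd_prime_pow hp.out).1
    (show H.relIndex H' ∣ p ^ k from hk ▸ Dvd.intro _ hd)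
  have hpj : p ≤ H.relIndex H' := by
    rw [hj]; exact Nat.le_self_pow (fun e => hne (by rw [hj, e, pow_zero])) p
  have hlt : H'.index < m := by
    rw [← hm, ← hd]
    have h1 := Nat.pos_of_ne_zero (Subgroup.index_ne_zero_of_finite (H := H'))
    have h2 := hp.out.two_le
    have h3 : 2 * H'.index ≤ H.relIndex H' * H'.index := Nat.mul_le_mul_right _ (h2.trans hpj)
    omega
  obtain ⟨S, hS, hc⟩ := ih _ hlt H' rfl
  refine ⟨insert x S, ?_, ?_⟩
  · rw [← top_le_iff, ← hS]
    refine sup_le ((Subgroup.closure_mono (by simp)).trans le_sup_left)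
      (sup_le le_sup_right (Subgroup.zpowers_le.2 ?_))
    exact Subgroup.mem_sup_left (Subgroup.subset_closure (by simp))
  · calc p ^ (insert x S).card ≤ p ^ (S.card + 1) :=
          Nat.pow_le_pow_right hp.out.pos (Finset.card_insert_le x S)
      _ ≤ m := by
        rw [pow_succ, ← hm, ← hd, mul_comm]
        exact Nat.mul_le_mul hpj hc

def filt {V : Type u} [CommGroup V] (δ : V →* V) (p : ℕ) : ℕ → Subgroup V
  | 0 => ⊥
  | i + 1 => (filt δ p i).comap δ ⊓ (powMonoidHom p : V →* V).ker

theorem omega_bound {V : Type u} [CommGroup V] [Finite V] {p : ℕ} [hp : Fact p.Prime] (α : MulAut V)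
    (hα : α ^ p = 1) (n : ℕ) (hfix : Nat.card {v : V // α v = v} = p ^ n) :
    Nat.card (powMonoidHom p : V →* V).ker ≤ p ^ (n * p) := by
  let A : AddMonoid.End (Additive V) := MonoidHom.toAdditive α.toMonoidHom
  set D : AddMonoid.End (Additive V) := A - 1 with hD
  have hA : ∀ (i : ℕ) (v : V), (A ^ i) (Additive.ofMul v) = Additive.ofMul ((α ^ i) v) := by
    intro i
    induction i with
    | zero => intro v; rfl
    | succ i ih => intro v; rw [pow_succ, pow_succ, AddMonoid.End.coe_mul, Function.comp_apply]; exact ih (α v)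
  have hA1 : A ^ p = 1 := by
    refine AddMonoidHom.ext fun v => ?_
    show (A ^ p) (Additive.ofMul v.toMul) = v
    rw [hA, hα]; rfl
  obtain ⟨R, hR⟩ : ∃ R : AddMonoid.End (Additive V), D ^ p = (p : AddMonoid.End (Additive V)) * R := by
    obtain ⟨R, hR⟩ := Commute.exists_add_pow_prime_eq (R := AddMonoid.End (Additive V)) hp.out
      (Commute.one_right D)
    refine ⟨-(D * 1 * R), ?_⟩
    rw [show D + 1 = A by rw [hD, sub_add_cancel], hA1, one_pow] at hR
    refine Eq.trans ?_ (mul_neg (p : AddMonoid.End (Additive V)) (D * 1 * R)).symm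
    refine eq_neg_iff_add_eq_zero.2 ?_
    have h2 : (1 : AddMonoid.End (Additive V)) + 0 = D ^ p + 1 + (p : AddMonoid.End (Additive V)) * (D * 1 * R) := by
      rw [add_zero]; simpa [mul_assoc] using hR
    rw [add_comm (D ^ p) 1, add_assoc] at h2
    exact (add_left_cancel h2).symm
  let δ : V →* V := AddMonoidHom.toMultiplicative D
  have hδ : ∀ v : V, δ v = α v / v := fun v => rfl
  set K : ℕ → Subgroup V := filt δ p with hKdef
  have hK : ∀ i, Nat.card ↥(K i) ≤ p ^ (n * i) := by
    intro i
    induction i with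
    | zero => show Nat.card (⊥ : Subgroup V) ≤ _; simp
    | succ i ih =>
      let g : ↥(K (i + 1)) →* ↥(K i) := (δ.comp (K (i + 1)).subtype).codRestrict (K i) fun x => x.2.1
      have h1 := g.ker.card_mul_index
      rw [Subgroup.index_ker g] at h1
      rw [← h1, mul_add, mul_one, pow_add, mul_comm (p ^ (n * i))]
      refine Nat.mul_le_mul ?_ ((Nat.card_le_card_of_injective _ g.range.subtype_injective).trans ih)
      rw [← hfix]
      refine Nat.card_le_card_of_injective (fun x => (⟨((x : ↥(K (i + 1))) : V), ?_⟩ : {v : V // α v = v}))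
        fun x y h => Subtype.ext (Subtype.ext (congrArg (fun t : {v : V // α v = v} => (t : V)) h))
      have : δ ((x : ↥(K (i + 1))) : V) = 1 := congrArg Subtype.val x.2
      rwa [hδ, div_eq_one] at this
  refine le_trans (@Subgroup.card_le_of_le V _ _ (K p) (inferInstanceAs (Finite ↥(K p))) ?_) (hK p)
  have key : ∀ i (v : V), v ^ p = 1 → (D ^ i) (Additive.ofMul v) = 0 → v ∈ K i := by
    intro i
    induction i with
    | zero => intro v _ hv; exact Subgroup.mem_bot.2 hv
    | succ i ih =>
      intro v hvp hv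
      refine Subgroup.mem_inf.2 ⟨ih (δ v) (by rw [← map_pow, hvp, map_one]) ?_, hvp⟩
      rw [pow_succ] at hv
      exact hv
  intro v hv
  have hv' : v ^ p = 1 := hv
  refine key p v hv' ?_
  rw [hR, (Nat.cast_commute p R).eq, AddMonoid.End.coe_mul, Function.comp_apply,
    AddMonoid.End.natCast_apply]
  show R (Additive.ofMul (v ^ p)) = 0
  rw [hv']; exact map_zero R


/-- Let V be a finite abelian p-group and α an automorphism of V of order p whose fixed-point subgroup has order p^n. Then V can be generated by pn elements: some subset of V with at most pn elements generates V. -/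
theorem result {V : Type*} [CommGroup V] [Finite V] {p : ℕ} [Fact p.Prime] (hV : IsPGroup p V) (α : MulAut V) (hα : orderOf α = p) (n : ℕ) (hfix : Nat.card {v : V // α v = v} = p ^ n) : ∃ S : Finset V, S.card ≤ p * n ∧ Subgroup.closure (S : Set V) = ⊤ := by
  classical
  have h1 : α ^ p = 1 := hα ▸ pow_orderOf_eq_one α
  set f : V →* V := powMonoidHom p
  obtain ⟨S, hS, hc⟩ := exists_gens hV _ f.range rfl
  refine ⟨S, ?_, ?_⟩
  · refine (Nat.pow_le_pow_iff_right (Fact.out : p.Prime).one_lt).1 (hc.trans ?_)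
    rw [mul_comm p n]
    refine le_trans (le_of_eq ?_) (omega_bound α h1 n hfix)
    have h2 := f.range.card_mul_index
    have h3 := f.ker.card_mul_index
    rw [Subgroup.index_ker, mul_comm] at h3
    exact Nat.eq_of_mul_eq_mul_left Nat.card_pos (h2.trans h3.symm)
  · refine frattini_nongenerating (top_le_iff.1 (hS ▸ sup_le_sup le_rfl ?_))
    rintro _ ⟨v, rfl⟩
    exact CfsgLib.Solv.pow_mem_frattini hV v

end Cfsg.Agent.S3780
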