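import Cfsg.Statements.S3784
import Cfsg.Agent.Solv.Basic

set_option autoImplicit false
open Cfsg

namespace Cfsg.Agent.S3784

/-- Let p, q be primes and a, b positive integers with p^a = q^b + 1. Then either p = 2, b = 1, a is prime and q = 2^a − 1; or q = 2, a = 1, b is a power of 2 and p = 2^b + 1; or p^a = 9 and q^b = 8. -/
theorem result (p q a b : ℕ) (hp : p.Prime) (hq : q.Prime) (ha : 1 ≤ a) (hb : 1 ≤ b) (h : p ^ a = q ^ b + 1) : (p = 2 ∧ b = 1 ∧ a.Prime ∧ q + 1 = 2 ^ a) ∨ (q = 2 ∧ a = 1 ∧ (∃ m : ℕ, b = 2 ^ m) ∧ p = 2 ^ b + 1) ∨ (p ^ a = 9 ∧ q ^ b = 8) := by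
  classical
  have hsum : ∀ (x : ℕ) (n : ℕ), 1 < x → Odd x → Odd n → ∀ e, x ^ n - 1 = 2 ^ e → n = 1 := by
    intro x n hx hxo hn e he
    have hid : (x - 1) * ∑ i ∈ Finset.range n, x ^ i = x ^ n - 1 := by
      zify [Nat.one_le_pow n x (by omega), (by omega : 1 ≤ x)]
      rw [mul_comm]
      exact geom_sum_mul _ _
    have hodd : Odd (∑ i ∈ Finset.range n, x ^ i) := by
      rw [Finset.odd_sum_iff_odd_card_odd]
      have : (Finset.filter (fun i => Odd (x ^ i)) (Finset.range n)) = Finset.range n :=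
        Finset.filter_true_of_mem fun i _ => hxo.pow
      rw [this, Finset.card_range]
      exact hn
    obtain ⟨c, -, hc⟩ := (Nat.dvd_prime_pow Nat.prime_two).1 (he ▸ ⟨x - 1, by rw [← hid, mul_comm]⟩ : (∑ i ∈ Finset.range n, x ^ i) ∣ 2 ^ e)
    have h1 : ∑ i ∈ Finset.range n, x ^ i = 1 := by
      rcases Nat.eq_zero_or_pos c with rfl | hc0
      · simpa using hc
      · rw [hc] at hodd
        exact absurd hodd (Nat.not_odd_iff_even.2 (even_two.pow_of_ne_zero hc0.ne'))
    rw [h1, mul_one] at hid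
    have hpos := Nat.one_le_pow n x (by omega)
    have h2 : x ^ n = x ^ 1 := by rw [pow_one]; omega
    exact Nat.pow_right_injective hx h2
  have hdiv : ∀ (x : ℕ) (n : ℕ), 1 < x → Odd x → Odd n → ∀ e, x ^ n + 1 = 2 ^ e → n = 1 := by
    intro x n hx hxo hn e he
    have hid : (∑ i ∈ Finset.range n, (-(x : ℤ)) ^ i) * (-(x : ℤ) - 1) = (-(x : ℤ)) ^ n - 1 := geom_sum_mul _ _
    rw [hn.neg_pow] at hid
    have hodd : Odd (∑ i ∈ Finset.range n, (-(x : ℤ)) ^ i) := by
      have key : ∀ m : ℕ, Odd (∑ i ∈ Finset.range m, (-(x : ℤ)) ^ i) ↔ Odd m := by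
        intro m
        induction m with
        | zero => simp
        | succ m ih =>
          rw [Finset.sum_range_succ, Int.odd_add, ih, Nat.odd_add_one]
          have : ¬ Even ((-(x : ℤ)) ^ m) := Int.not_even_iff_odd.2 ((Int.odd_coe_nat x).2 hxo).neg.pow
          tauto
      exact (key n).2 hn
    set S := ∑ i ∈ Finset.range n, (-(x : ℤ)) ^ i with hS
    have hmul : S * ((x : ℤ) + 1) = (2 : ℤ) ^ e := by
      have : ((x : ℤ) ^ n + 1) = (2 : ℤ) ^ e := by exact_mod_cast he
      linarith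
    have habs : S.natAbs * (x + 1) = 2 ^ e := by
      have := congrArg Int.natAbs hmul
      rw [show (x : ℤ) + 1 = ((x + 1 : ℕ) : ℤ) by push_cast; ring, Int.natAbs_mul, Int.natAbs_pow, Int.natAbs_natCast] at this
      simpa using this
    obtain ⟨c, -, hc⟩ := (Nat.dvd_prime_pow Nat.prime_two).1 (⟨x + 1, habs.symm⟩ : S.natAbs ∣ 2 ^ e)
    have h1 : S.natAbs = 1 := by
      rcases Nat.eq_zero_or_pos c with rfl | hc0
      · simpa using hc
      · have h := Int.natAbs_odd.2 hodd
        rw [hc] at h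
        exact absurd h (Nat.not_odd_iff_even.2 (even_two.pow_of_ne_zero hc0.ne'))
    rw [h1, one_mul, ← he] at habs
    have h2 : x ^ n = x ^ 1 := by rw [pow_one]; omega
    exact Nat.pow_right_injective hx h2
  have hq1 : 1 < q ^ b := Nat.one_lt_pow (by omega) hq.one_lt
  rcases hp.eq_two_or_odd' with rfl | hpo
  · have hqo : Odd q := hq.eq_two_or_odd'.resolve_left (by
      rintro rfl
      have h1 : 2 ∣ 2 ^ a := dvd_pow_self 2 (by omega)
      have h2 : 2 ∣ 2 ^ b := dvd_pow_self 2 (by omega)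
      omega)
    have hbo : Odd b := by
      by_contra hbe
      obtain ⟨c, rfl⟩ := Nat.not_odd_iff_even.1 hbe
      have h4 : (q ^ (c + c) + 1) % 4 = 2 := by
        rw [← two_mul, mul_comm, pow_mul, Nat.add_mod, Nat.pow_mod]
        have : q ^ c % 4 = 1 ∨ q ^ c % 4 = 3 := by
          have := Nat.odd_iff.1 (hqo.pow (n := c))
          omega
        rcases this with e | e <;> rw [e] <;> norm_num
      have ha1 : a = 1 := by
        by_contra ha1
        have h4d : 4 ∣ 2 ^ a := pow_dvd_pow 2 (show 2 ≤ a by omega)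
        omega
      subst ha1
      omega
    have hb1 := hdiv q b hq.one_lt hqo hbo a h.symm
    subst hb1
    rw [pow_one] at h
    refine Or.inl ⟨rfl, rfl, ?_, h.symm⟩
    have ha1 : a ≠ 1 := by rintro rfl; have := hq.two_le; omega
    exact (Nat.prime_of_pow_sub_one_prime ha1 (by rw [h, Nat.add_sub_cancel]; exact hq)).2
  · have hq2 : q = 2 := by
      rcases hq.eq_two_or_odd' with h2 | h2
      · exact h2
      · exact absurd (h ▸ hpo.pow) (Nat.not_odd_iff_even.2 (h2.pow.add_odd odd_one))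
    subst hq2
    rcases Nat.even_or_odd a with ⟨c, rfl⟩ | hao
    · refine Or.inr (Or.inr ?_)
      have hc1 : 1 ≤ c := by omega
      set y := p ^ c with hy
      have hy3 : 3 ≤ y := by
        have : p ^ 1 ≤ p ^ c := Nat.pow_le_pow_right hp.pos hc1
        have hp3 : 3 ≤ p := by rcases hpo with ⟨k, hk⟩; have := hp.two_le; omega
        simp only [pow_one] at this; omega
      have hfac : (y - 1) * (y + 1) = 2 ^ b := by
        have e : (y - 1) * (y + 1) + 1 = y * y := by
          obtain ⟨z, hz⟩ : ∃ z, y = z + 1 := ⟨y - 1, by omega⟩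
          rw [hz, Nat.add_sub_cancel]; ring
        have e2 : y * y = p ^ (c + c) := by rw [hy, pow_add]
        omega
      obtain ⟨i, -, hi⟩ := (Nat.dvd_prime_pow Nat.prime_two).1 (⟨y + 1, hfac.symm⟩ : y - 1 ∣ 2 ^ b)
      obtain ⟨j, -, hj⟩ := (Nat.dvd_prime_pow Nat.prime_two).1 (⟨y - 1, by rw [← hfac, mul_comm]⟩ : y + 1 ∣ 2 ^ b)
      have hij : i = 1 := by
        rcases Nat.lt_or_ge i 2 with hlt | hge
        · interval_cases i
          · simp at hi; omega
          · rfl
        · have hd1 : 4 ∣ 2 ^ i := pow_dvd_pow 2 hge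
          have hd2 : 4 ∣ 2 ^ j := by
            refine (pow_dvd_pow 2 (?_ : 2 ≤ j) : 2 ^ 2 ∣ 2 ^ j)
            by_contra hlt
            interval_cases j <;> simp at hj <;> omega
          omega
      subst hij
      have : y = 3 := by simp at hi; omega
      have hb8 : 2 ^ b = 8 := by rw [← hfac, this]
      exact ⟨by omega, hb8⟩
    · have ha1 : a = 1 := hsum p a hp.one_lt hpo hao b (by omega)
      subst ha1
      rw [pow_one] at h
      refine Or.inr (Or.inl ⟨rfl, rfl, ?_, h⟩)
      exact Nat.pow_of_pow_add_prime (by norm_num) (by omega) (h ▸ hp)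

end Cfsg.Agent.S3784
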