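-- Statement S3785
import Cfsg.Statements.S3785
import Cfsg.Agent.Solv.FittingBasic
import Cfsg.Agent.Solv.PGroups
import Cfsg.Agent.Solv.SylowFactor
import Cfsg.Agent.Solv.Engel

set_option autoImplicit false
open Cfsg
open scoped commutatorElement Pointwise
set_option linter.style.haveILetI false
set_option linter.deprecated false

namespace Cfsg.Agent.S3785

/-- Let G be a finite solvable group whose Fitting subgroup F(G) has odd order. If an element g of G commutes with every element of prime order of F(G), then g ∈ F(G). -/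
theorem result {G : Type*} [Group G] [Finite G] (hG : Group.IsSolvable G) (hodd : Odd (Nat.card (Cfsg.fittingSubgroup G))) (g : G) (hg : ∀ x ∈ Cfsg.fittingSubgroup G, (orderOf x).Prime → g * x = x * g) : g ∈ Cfsg.fittingSubgroup G := by
  classical
  haveI := hG
  set F := Cfsg.fittingSubgroup G with hF
  haveI hFn : F.Normal := CfsgLib.Solv.fittingSubgroup_normal (G := G)
  -- `K` centralises all elements of prime order of `F`
  let K : Subgroup G :=
    { carrier := {k | ∀ x ∈ F, (orderOf x).Prime → k * x = x * k}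
      one_mem' := fun x _ _ => by simp
      mul_mem' := fun {a b} ha hb x h1 h2 => Commute.mul_left (ha x h1 h2) (hb x h1 h2)
      inv_mem' := fun {a} ha x h1 h2 => Commute.inv_left (ha x h1 h2) }
  haveI hKn : K.Normal := ⟨fun k hk c x h1 h2 => by
    have h3 := hk (c⁻¹ * x * c) (by simpa using hFn.conj_mem x h1 c⁻¹) (by
      rwa [show orderOf (c⁻¹ * x * c) = orderOf x by simpa using (MulEquiv.orderOf_eq (MulAut.conj c⁻¹) x)])
    have h4 := congrArg (fun w => c * w * c⁻¹) h3
    simpa [mul_assoc] using h4⟩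
  -- an element of `K` of order prime to `p` centralises `O_p`
  have hact : ∀ (p : ℕ), p.Prime → ∀ k ∈ K, (orderOf k).Coprime p → ∀ x ∈ Cfsg.pCore p G, k * x = x * k := by
    intro p hp k hk hco x hx
    haveI : Fact p.Prime := ⟨hp⟩
    haveI hPn : (Cfsg.pCore p G).Normal := CfsgLib.Solv.pCore_normal G p
    have hP := CfsgLib.Solv.pCore_isPGroup G p
    by_cases hb : Cfsg.pCore p G = ⊥
    · rw [hb, Subgroup.mem_bot] at hx
      subst hx; simp
    have hp2 : p ≠ 2 := by
      intro e
      subst e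
      obtain ⟨n, hn⟩ := IsPGroup.iff_card.1 hP
      have hn0 : n ≠ 0 := fun e => hb (Subgroup.eq_bot_of_card_eq _ (by rw [hn, e, pow_zero]))
      have hd : 2 ∣ Nat.card F := ((dvd_pow_self 2 hn0).trans hn.symm.dvd).trans
        (Subgroup.card_dvd_of_le CfsgLib.Solv.pCore_le_fittingSubgroup)
      exact absurd hodd (Nat.not_odd_iff_even.2 (even_iff_two_dvd.2 hd))
    let φ : G →* MulAut (Cfsg.pCore p G) := MulAut.conjNormal
    have h1 : φ k = 1 := CfsgLib.Solv.aut_eq_one_of_fix_omega hp2 hP
      (hco.coprime_dvd_left (orderOf_map_dvd φ k)) fun y hy => by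
        refine Subtype.ext ?_
        rw [MulAut.conjNormal_apply]
        by_cases hy1 : y = 1
        · subst hy1; simp
        have ho : orderOf (y : G) = p := by
          rw [Subgroup.orderOf_coe]; exact orderOf_eq_prime hy hy1
        rw [hk y (CfsgLib.Solv.pCore_le_fittingSubgroup y.2) (by rw [ho]; exact hp), mul_inv_cancel_right]
    have h2 := congrArg Subtype.val (DFunLike.congr_fun h1 ⟨x, hx⟩)
    rw [MulAut.conjNormal_apply, MulAut.one_apply] at h2
    exact mul_inv_eq_iff_eq_mul.1 h2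
  suffices hKF : K ≤ F from hKF hg
  refine CfsgLib.Solv.le_of_forall_prime_power fun q hq _ y hy ⟨b, hb⟩ => ?_
  haveI : Fact q.Prime := ⟨hq⟩
  -- `L` centralises all `O_p` with `p ≠ q`
  let L : Subgroup G :=
    { carrier := {k | k ∈ K ∧ ∀ p : ℕ, p.Prime → p ≠ q → ∀ x ∈ Cfsg.pCore p G, k * x = x * k}
      one_mem' := ⟨one_mem _, fun p _ _ x _ => by simp⟩
      mul_mem' := fun {a c} ha hc => ⟨mul_mem ha.1 hc.1, fun p h1 h2 x hx => Commute.mul_left (ha.2 p h1 h2 x hx) (hc.2 p h1 h2 x hx)⟩
      inv_mem' := fun {a} ha => ⟨inv_mem ha.1, fun p h1 h2 x hx => Commute.inv_left (ha.2 p h1 h2 x hx)⟩ }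
  haveI hLn : L.Normal := ⟨fun k hk c => ⟨hKn.conj_mem k hk.1 c, fun p h1 h2 x hx => by
    have h3 := hk.2 p h1 h2 (c⁻¹ * x * c) (by simpa using (CfsgLib.Solv.pCore_normal G p).conj_mem x hx c⁻¹)
    have h4 := congrArg (fun w => c * w * c⁻¹) h3
    simpa [mul_assoc] using h4⟩⟩
  have hyL : y ∈ L := ⟨hy, fun p hp hpq x hx => hact p hp y hy
    (by rw [hb]; exact ((Nat.coprime_primes hq hp).2 (Ne.symm hpq)).pow_left b) x hx⟩
  suffices hLnil : Group.IsNilpotent L from CfsgLib.Solv.le_fittingSubgroup hLnil hyL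
  -- high `q`-powers are central in `L`
  haveI : Group.IsNilpotent (L ⧸ Subgroup.center L) := by
    refine IsPGroup.isNilpotent (p := q) fun z => ?_
    obtain ⟨⟨z, hz⟩, rfl⟩ := QuotientGroup.mk_surjective z
    obtain ⟨a, r, hqr, hor⟩ := Nat.exists_eq_pow_mul_and_not_dvd (orderOf_pos z).ne' q hq.ne_one
    refine ⟨a, ?_⟩
    rw [← QuotientGroup.mk_pow, QuotientGroup.eq_one_iff]
    have hw : z ^ q ^ a ∈ L := pow_mem hz _
    have hor' : orderOf (z ^ q ^ a) ∣ r := orderOf_dvd_of_pow_eq_one (by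
      rw [← pow_mul, ← hor, pow_orderOf_eq_one])
    have hwq : (orderOf (z ^ q ^ a)).Coprime q :=
      (((hq.coprime_iff_not_dvd).2 hqr).symm).coprime_dvd_left hor'
    have hwF : z ^ q ^ a ∈ F := by
      refine CfsgLib.Solv.centralizer_fittingSubgroup_le (Subgroup.mem_centralizer_iff.2 fun x hx => ?_)
      have hle : (Cfsg.fittingSubgroup G : Subgroup G) ≤ Subgroup.centralizer {z ^ q ^ a} := by
        rw [CfsgLib.Solv.fittingSubgroup_eq_iSup_pCore]
        refine iSup_le fun p => ?_
        intro x hx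
        rw [Subgroup.mem_centralizer_singleton_iff]
        by_cases hpq : (p : ℕ) = q
        · exact (hact p p.2 _ hw.1 (hpq ▸ hwq) x hx).symm
        · exact (hw.2 p p.2 hpq x hx).symm
      exact Subgroup.mem_centralizer_singleton_iff.1 (hle hx)
    rw [Subgroup.mem_center_iff]
    rintro ⟨c, hc⟩
    refine Subtype.ext ?_
    show c * z ^ q ^ a = z ^ q ^ a * c
    have hle : Subgroup.zpowers (z ^ q ^ a) ≤ Subgroup.centralizer ({c} : Set G) := by
      refine CfsgLib.Solv.le_of_forall_prime_power fun r' hr' hrd u hu ⟨n, hn⟩ => ?_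
      haveI : Fact r'.Prime := ⟨hr'⟩
      rw [Subgroup.mem_centralizer_singleton_iff]
      have hrq : r' ≠ q := fun e => by
        subst e
        rw [Nat.card_zpowers] at hrd
        exact hq.ne_one (Nat.eq_one_of_dvd_coprimes hwq hrd dvd_rfl)
      have huF : u ∈ F := (Subgroup.zpowers_le.2 hwF) hu
      have hup : u ∈ Cfsg.pCore r' G := by
        have h1 := CfsgLib.Solv.piNat_subnormal_le_piCore (π := {r'}) (CfsgLib.Solv.isSubnormal_of_mem_fitting huF)
          (CfsgLib.Solv.PiNat.of_isPGroup (IsPGroup.of_card (n := n) (by rw [Nat.card_zpowers, hn])) rfl)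
        refine CfsgLib.Solv.le_pCore (N := Cfsg.piCore {r'} G) ?_ (h1 (Subgroup.mem_zpowers u))
        refine IsPGroup.of_card (n := (Nat.card (Cfsg.piCore {r'} G)).primeFactorsList.length) ?_
        exact Nat.eq_prime_pow_of_unique_prime_dvd Nat.card_pos.ne'
          fun h2 h3 => CfsgLib.Solv.piNat_card_piCore (π := {r'}) (G := G) _ h2 h3
      exact (hc.2 r' hr' hrq u hup).symm
    exact (Subgroup.mem_centralizer_singleton_iff.1 (hle (Subgroup.mem_zpowers _))).symm
  exact Subgroup.isNilpotent_of_ker_le_center (QuotientGroup.mk' (Subgroup.center L)) (by rw [QuotientGroup.ker_mk'])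

end Cfsg.Agent.S3785
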