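import Cfsg.Statements.S3788
import Cfsg.Agent.Perm.HallHigman
import Cfsg.Agent.Inv.WeakClosedCentral
import Cfsg.Agent.Solv.FittingBasic
import Cfsg.Agent.Fus.CoreBasic
import Cfsg.Agent.Fus.ThompsonFactor
import Cfsg.Agent.Solv.CoprimeAction
-- import your own Cfsg.Agent.* helpers here

set_option autoImplicit false
set_option linter.all false
open Cfsg

namespace Cfsg.Agent.S3788

open scoped commutatorElement


theorem centralizer_pPrimeCore_le {X : Type*} [Group X] [Finite X] {p : ℕ} [hpf : Fact p.Prime]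
    (hX : Cfsg.IsPSolvable p X) (hO : Cfsg.pCore p X = ⊥) :
    Subgroup.centralizer (Cfsg.pPrimeCore p X : Set X) ≤ Cfsg.pPrimeCore p X := by
  classical
  have hp := hpf.out
  set R := Cfsg.pPrimeCore p X
  haveI hR : R.Normal := CfsgLib.Solv.pPrimeCore_normal X p
  have hRc : (Nat.card R).Coprime p := CfsgLib.Solv.pPrimeCore_coprime X p
  obtain ⟨n, H, h0, hlast, hmono, hHn, hstep⟩ := hX
  set C := Subgroup.centralizer (R : Set X)
  haveI hCn : C.Normal := Subgroup.normal_centralizer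
  suffices ∀ i : Fin (n + 1), C ⊓ H i ≤ R by
    have := this (Fin.last n)
    rwa [hlast, inf_top_eq] at this
  intro i
  induction i using Fin.induction with
  | zero => rw [h0, inf_bot_eq]; exact bot_le
  | succ i ih =>
    haveI := hHn i.castSucc
    haveI := hHn i.succ
    set D := C ⊓ H i.succ with hD
    set Z := C ⊓ H i.castSucc with hZ
    have hle : H i.castSucc ≤ H i.succ := hmono i.castSucc_le_succ
    have hZD : Z ≤ D := inf_le_inf_left _ hle
    have hdvd : Z.relIndex D ∣ (H i.castSucc).relIndex (H i.succ) := by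
      have e : Z.relIndex D = (H i.castSucc).relIndex D := by
        rw [← Subgroup.inf_relIndex_right (H i.castSucc) D, hD, hZ, ← inf_assoc, inf_comm (H i.castSucc) C, inf_assoc,
          inf_eq_left.2 hle]
      rw [e]
      rw [← Subgroup.relIndex_subgroupOf (inf_le_right : D ≤ H i.succ)]
      exact Subgroup.relIndex_dvd_index_of_normal _ _
    have hZc : (Nat.card Z).Coprime p := hRc.coprime_dvd_left (Subgroup.card_dvd_of_le ih)
    have hcard := CfsgLib.Solv.relIndex_mul_card hZD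
    suffices (Nat.card D).Coprime p from CfsgLib.Fus.le_pPrimeCore inferInstance this
    rcases hstep i with ⟨m, hm⟩ | hco
    · obtain ⟨b, -, hb⟩ := (Nat.dvd_prime_pow hp).1 (hm ▸ hdvd)
      obtain ⟨S⟩ : Nonempty (Sylow p D) := inferInstance
      have hsup : Z.subgroupOf D ⊔ (S : Subgroup D) = ⊤ := by
        apply Subgroup.eq_top_of_card_eq
        refine Nat.dvd_antisymm (Subgroup.card_subgroup_dvd_card _) ?_
        obtain ⟨s, hs⟩ := IsPGroup.iff_card.1 S.2
        have h1 : Nat.card Z ∣ Nat.card ↥(Z.subgroupOf D ⊔ (S : Subgroup D)) := by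
          rw [← Nat.card_congr (Subgroup.subgroupOfEquivOfLe hZD).toEquiv]
          exact Subgroup.card_dvd_of_le le_sup_left
        have h2 : p ^ b ∣ Nat.card (S : Subgroup D) := S.pow_dvd_card_of_pow_dvd_card ⟨Nat.card Z, by rw [← hcard, hb]; ring⟩
        rw [← hcard, hb]
        exact Nat.Coprime.mul_dvd_of_dvd_of_dvd (hZc.pow_right b) h1
          (h2.trans (Subgroup.card_dvd_of_le le_sup_right))
      haveI hSn : (S : Subgroup D).Normal := by
        rw [← Subgroup.normalizer_eq_top_iff, eq_top_iff, ← hsup]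
        refine sup_le (fun z hz => ?_) Subgroup.le_normalizer
        rw [Subgroup.mem_normalizer_iff]
        intro d
        have hzd : z * d = d * z := Subtype.ext (Subgroup.mem_centralizer_iff.1 d.2.1 (z : X) (ih hz))
        rw [hzd, mul_inv_cancel_right]
      haveI : (S : Subgroup D).Characteristic := S.characteristic_of_normal hSn
      haveI : ((S : Subgroup D).map D.subtype).Normal := ConjAct.normal_of_characteristic_of_normal
      have hS : (S : Subgroup D).map D.subtype ≤ ⊥ := hO ▸ CfsgLib.Solv.le_pCore (S.2.map _)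
      rw [le_bot_iff, Subgroup.map_eq_bot_iff_of_injective _ D.subtype_injective] at hS
      refine (hp.coprime_iff_not_dvd.2 fun hdiv => ?_).symm
      exact hp.one_lt.ne' (Nat.dvd_one.1 (by
        have := S.dvd_card_of_dvd_card hdiv
        rwa [hS, Subgroup.card_bot] at this))
    · rw [← hcard]
      exact Nat.Coprime.mul_left hZc (hco.coprime_dvd_left hdvd)

theorem stab {G : Type*} [Group G] {t v e : G} {n p : ℕ} (he : e ^ p = 1) (hn : n.Coprime p)
    (ht : t * v * t⁻¹ = v * e) (hte : t * e * t⁻¹ = e) (htn : t ^ n * v * (t ^ n)⁻¹ = v) : e = 1 := by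
  have h : ∀ k : ℕ, t ^ k * v * (t ^ k)⁻¹ = v * e ^ k := by
    intro k
    induction k with
    | zero => simp
    | succ k ih =>
      calc t ^ (k + 1) * v * (t ^ (k + 1))⁻¹ = t * (t ^ k * v * (t ^ k)⁻¹) * t⁻¹ := by rw [pow_succ']; group
        _ = (t * v * t⁻¹) * (t * e * t⁻¹) ^ k := by rw [ih, conj_pow]; group
        _ = v * e ^ (k + 1) := by rw [ht, hte, mul_assoc, ← pow_succ']
  have h1 : e ^ n = 1 := by
    have := h n
    rw [htn] at this
    simpa using this
  have h2 := pow_gcd_eq_one.2 ⟨h1, he⟩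
  rwa [hn.gcd_eq_one, pow_one] at h2

theorem core {G : Type*} [Group G] [Finite G] {p : ℕ} [hpf : Fact p.Prime] {V W : Subgroup G} [V.Normal] [W.Normal]
    (hVW : V ≤ W) (hco : (V.relIndex W).Coprime p) (hab : ∀ u ∈ V, ∀ v ∈ V, u * v = v * u)
    (hexp : ∀ v ∈ V, v ^ p = 1) (hC : ∀ g, (∀ v ∈ V, g * v = v * g) → g ∈ V)
    (hWc : ∀ g, (∀ w ∈ W, g * w * g⁻¹ * w⁻¹ ∈ V) → g ∈ W)
    (h : p ≠ 2 ∨ ¬ Cfsg.Involves (Equiv.Perm (Fin 4)) G)
    (a : G) (hap : a ^ p ∈ V) (haV : a ∉ V)
    (hcy : ∀ v ∈ V, a * v * a⁻¹ * v⁻¹ ∈ Subgroup.zpowers (a ^ p)) : False := by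
  classical
  have hp := hpf.out
  have hVn : V.Normal := inferInstance
  have hWn : W.Normal := inferInstance
  set c := a ^ p with hc
  set n := V.relIndex W with hn
  have hpow : ∀ w ∈ W, w ^ n ∈ V := fun w hw => by
    have := Subgroup.pow_index_mem (V.subgroupOf W) ⟨w, hw⟩
    exact this
  have hac : ∀ i : ℤ, a * c ^ i * a⁻¹ = c ^ i := fun i => by
    rw [mul_inv_eq_iff_eq_mul]
    exact ((Commute.refl a).pow_right p).zpow_right i
  have hci : ∀ i : ℤ, c ^ i ∈ V := fun i => V.zpow_mem hap i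
  have hA : ∀ v ∈ V, ∃ i : ℤ, a * v * a⁻¹ = v * c ^ i := fun v hv => by
    obtain ⟨i, hi⟩ := Subgroup.mem_zpowers_iff.1 (hcy v hv)
    exact ⟨i, by rw [hab v hv _ (hci i), hi, inv_mul_cancel_right]⟩
  have hA' : ∀ v ∈ V, ∃ i : ℤ, a⁻¹ * v * a = v * c ^ i := fun v hv => by
    obtain ⟨i, hi⟩ := hA v hv
    refine ⟨-i, ?_⟩
    calc a⁻¹ * v * a = a⁻¹ * (v * c ^ i) * a * (a⁻¹ * c ^ (-i) * a) := by group
      _ = a⁻¹ * (a * v * a⁻¹) * a * c ^ (-i) := by
          rw [hi]; congr 1
          calc a⁻¹ * c ^ (-i) * a = a⁻¹ * (a * c ^ (-i) * a⁻¹) * a := by rw [hac]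
            _ = c ^ (-i) := by group
      _ = v * c ^ (-i) := by group
  -- `a` does not act trivially on `W / V`
  have haW : a ∉ W := fun haW => haV (by
    have h1 : (QuotientGroup.mk' V a) ^ n = 1 := by rw [← map_pow]; exact (QuotientGroup.eq_one_iff _).2 (hpow a haW)
    have h2 : (QuotientGroup.mk' V a) ^ p = 1 := by rw [← map_pow]; exact (QuotientGroup.eq_one_iff _).2 hap
    have h3 := pow_gcd_eq_one.2 ⟨h1, h2⟩
    rw [hco.gcd_eq_one, pow_one] at h3
    exact (QuotientGroup.eq_one_iff _).1 h3)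
  obtain ⟨w, hw, htV⟩ : ∃ w ∈ W, a * w * a⁻¹ * w⁻¹ ∉ V := by
    by_contra hh
    push Not at hh
    exact haW (hWc a hh)
  set t := a * w * a⁻¹ * w⁻¹ with ht
  have htW : t ∈ W := W.mul_mem (hWn.conj_mem w hw a) (W.inv_mem hw)
  rcases eq_or_ne p 2 with hp2 | hp2
  · subst hp2
    have hS4 := h.resolve_left (fun hh => hh rfl)
    have hodd : Odd n := Nat.coprime_two_right.1 hco
    set c' := w * c * w⁻¹ with hc'
    have hcV' : c' ∈ V := hVn.conj_mem c hap w
    have hc2 : c ^ 2 = 1 := hexp c hap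
    have zc : ∀ i : ℤ, c ^ i = 1 ∨ c ^ i = c := fun i => by
      rcases Int.even_or_odd' i with ⟨j, rfl | rfl⟩
      · left; rw [zpow_mul, zpow_two, ← pow_two, hc2, one_zpow]
      · right; rw [zpow_add, zpow_mul, zpow_two, ← pow_two, hc2, one_zpow, one_mul, zpow_one]
    let L : G → Prop := fun x => ∃ i j : ℕ, x = c ^ i * c' ^ j
    have hcomm : Commute c c' := hab c hap c' hcV'
    have hLV : ∀ x, L x → x ∈ V := by
      rintro x ⟨i, j, rfl⟩
      exact V.mul_mem (V.pow_mem hap i) (V.pow_mem hcV' j)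
    have hLm : ∀ x y, L x → L y → L (x * y) := by
      rintro x y ⟨i, j, rfl⟩ ⟨k, l, rfl⟩
      exact ⟨i + k, j + l, by rw [pow_add, pow_add, (hcomm.symm.pow_pow j k).mul_mul_mul_comm]⟩
    have hLc : ∀ i : ℤ, L (c ^ i) := fun i => by
      rcases zc i with e | e
      · exact ⟨0, 0, by simp [e]⟩
      · exact ⟨1, 0, by simp [e]⟩
    have hLc' : ∀ i : ℤ, L (w * c ^ i * w⁻¹) := fun i => by
      rcases zc i with e | e <;> rw [e]
      · exact ⟨0, 0, by simp⟩
      · exact ⟨0, 1, by simp [hc']⟩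
    have hL4 : ∀ x, L x → x = 1 ∨ x = c ∨ x = c' ∨ x = c * c' := by
      rintro x ⟨i, j, rfl⟩
      rw [pow_eq_pow_mod i hc2, pow_eq_pow_mod j (hexp c' hcV')]
      rcases Nat.mod_two_eq_zero_or_one i with e | e <;> rcases Nat.mod_two_eq_zero_or_one j with e' | e' <;> simp [e, e']
    -- `t` moves each element of `V` inside `L`
    have hT : ∀ v ∈ V, ∃ l, L l ∧ t * v * t⁻¹ = v * l := by
      intro v hv
      have hv1 : w⁻¹ * v * w ∈ V := by simpa using hVn.conj_mem v hv w⁻¹
      obtain ⟨i, hi⟩ := hA' _ hv1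
      set u := v * (w * c ^ i * w⁻¹) with hu
      have hu' : u ∈ V := V.mul_mem hv (hVn.conj_mem _ (hci i) w)
      obtain ⟨j, hj⟩ := hA u hu'
      refine ⟨_, hLm _ _ (hLc' i) (hLc j), ?_⟩
      calc t * v * t⁻¹ = a * (w * (a⁻¹ * (w⁻¹ * v * w) * a) * w⁻¹) * a⁻¹ := by rw [ht]; group
        _ = a * u * a⁻¹ := by rw [hi, hu]; group
        _ = _ := by rw [hj, hu, mul_assoc]
    have hTL : ∀ x, L x → L (t * x * t⁻¹) := fun x hx => by
      obtain ⟨l, hl, e⟩ := hT x (hLV x hx)
      rw [e]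
      exact hLm _ _ hx hl
    have hTi : ∀ (k : ℕ) x, L x → L (t ^ k * x * (t ^ k)⁻¹) := by
      intro k
      induction k with
      | zero => intro x hx; simpa using hx
      | succ k ih =>
        intro x hx
        rw [show t ^ (k + 1) * x * (t ^ (k + 1))⁻¹ = t * (t ^ k * x * (t ^ k)⁻¹) * t⁻¹ by rw [pow_succ']; group]
        exact hTL _ (ih x hx)
    have h3fix : ∀ l, L l → t ^ 3 * l * (t ^ 3)⁻¹ = l := by
      intro l hl
      by_cases hl1 : l = 1
      · simp [hl1]
      have hmaps : ∀ k ∈ Finset.range 4, t ^ k * l * (t ^ k)⁻¹ ∈ ({c, c', c * c'} : Finset G) := fun k _ => by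
        rcases hL4 _ (hTi k l hl) with e | e | e | e
        · exact absurd (conj_eq_one_iff.1 e) hl1
        all_goals simp [e]
      obtain ⟨i, hi, j, hj, hij, e⟩ := Finset.exists_ne_map_eq_of_card_lt_of_maps_to
        (lt_of_le_of_lt Finset.card_le_three (by simp)) hmaps
      rw [Finset.mem_range] at hi hj
      wlog hlt : i < j generalizing i j
      · exact this j hj i hi hij.symm e.symm (by omega)
      obtain ⟨d, rfl⟩ := Nat.exists_eq_add_of_lt hlt
      rw [show i + d + 1 = i + (d + 1) by omega, pow_add] at e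
      have hd : Commute (t ^ (d + 1)) l := by
        have e' : l = t ^ (d + 1) * l * (t ^ (d + 1))⁻¹ := by
          have := congrArg (fun x => (t ^ i)⁻¹ * x * t ^ i) e
          simpa [mul_assoc] using this
        exact (mul_inv_eq_iff_eq_mul.1 e'.symm)
      have hd3 : Commute (t ^ 3) l := by
        have : d = 0 ∨ d = 1 ∨ d = 2 := by omega
        rcases this with rfl | rfl | rfl
        · rw [zero_add, pow_one] at hd; exact hd.pow_left 3
        · obtain ⟨m, hm⟩ := hodd
          have h1 : Commute (t ^ n) l := hab _ (hpow t htW) l (hLV l hl)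
          have h2 : Commute t l := by
            have e2 : t = (t ^ 2) ^ (-(m : ℤ)) * t ^ n := by
              rw [hm, pow_succ (t) (2 * m), pow_mul, ← mul_assoc, zpow_neg, zpow_natCast, inv_mul_cancel, one_mul]
            rw [e2]; exact (hd.zpow_left _).mul_left h1
          exact h2.pow_left 3
        · exact hd
      exact mul_inv_eq_iff_eq_mul.2 hd3
    have h3V : t ^ 3 ∈ V := hC _ fun v hv => by
      obtain ⟨l, hl, e⟩ := hT v hv
      have e3 : t ^ 3 * v * (t ^ 3)⁻¹ = v * (l * (t * l * t⁻¹) * (t ^ 2 * l * (t ^ 2)⁻¹)) := by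
        calc t ^ 3 * v * (t ^ 3)⁻¹ = t * (t * (t * v * t⁻¹) * t⁻¹) * t⁻¹ := by simp only [pow_succ, pow_zero, one_mul]; group
          _ = (t * (t * v * t⁻¹) * t⁻¹) * (t ^ 2 * l * (t ^ 2)⁻¹) := by
            conv_lhs => rw [e]
            simp only [pow_succ, pow_zero, one_mul]; group
          _ = (t * v * t⁻¹) * (t * l * t⁻¹) * (t ^ 2 * l * (t ^ 2)⁻¹) := by
            conv_lhs => rw [e]
            group
          _ = _ := by rw [e]; group
      have hN : L (l * (t * l * t⁻¹) * (t ^ 2 * l * (t ^ 2)⁻¹)) := hLm _ _ (hLm _ _ hl (hTL l hl)) (hTi 2 l hl)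
      have h1 := stab (p := 2) (n := n) (hexp _ (hLV _ hN)) hco e3 (h3fix _ hN)
        (mul_inv_eq_iff_eq_mul.2 (hab _ (hpow _ (W.pow_mem htW 3)) v hv))
      rw [h1, mul_one] at e3
      exact mul_inv_eq_iff_eq_mul.1 e3
    let θ : G →* MulAut V := MulAut.conjNormal
    have hker : ∀ g ∈ V, θ g = 1 := fun g hg => MulEquiv.ext fun v => Subtype.ext (by
      show g * (v : G) * g⁻¹ = v
      exact mul_inv_eq_iff_eq_mul.2 (hab g hg v v.2))
    have ha2 : θ a * θ a = 1 := by rw [← map_mul, ← pow_two]; exact hker _ hap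
    refine CfsgLib.Inv.WC.no_inverted_three' hS4 hab hexp θ (fun g v => rfl) (θ t) ⟨t, rfl⟩ (θ a) ⟨a, rfl⟩
      (by rw [← map_pow]; exact hker _ h3V) (fun e => htV (hC t fun v hv => ?_)) (by rw [pow_two]; exact ha2) ?_
    · have := congrArg (fun α : MulAut V => ((α ⟨v, hv⟩ : V) : G)) e
      exact mul_inv_eq_iff_eq_mul.1 this
    · have hai : (θ a)⁻¹ = θ a := inv_eq_of_mul_eq_one_right ha2
      rw [ht, map_mul, map_mul, map_mul, map_inv, map_inv, hai]
      simp only [mul_inv_rev, inv_inv, hai, ← mul_assoc, ha2, one_mul]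
  · -- `p` odd: `c` is centralized by `W`
    have hpodd : 2 < p := lt_of_le_of_ne hp.two_le (Ne.symm hp2)
    obtain ⟨Q', hQ'⟩ := Subgroup.exists_right_complement'_of_coprime (N := V.subgroupOf W) (by
      rw [Nat.card_congr (Subgroup.subgroupOfEquivOfLe hVW).toEquiv]
      obtain ⟨k, hk⟩ := IsPGroup.iff_card.1 (show IsPGroup p V from fun v => ⟨1, Subtype.ext (by simpa using hexp v v.2)⟩)
      rw [hk]
      exact (hco.pow_right k).symm)
    set Q := Q'.map W.subtype with hQ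
    have hQW : Q ≤ W := Subgroup.map_subtype_le _
    have hinf : ∀ x ∈ Q, x ∈ V → x = 1 := by
      rintro _ ⟨q, hq, rfl⟩ hqV
      have := hQ'.disjoint.le_bot ⟨show q ∈ V.subgroupOf W from hqV, hq⟩
      rw [Subgroup.mem_bot] at this
      rw [this]; rfl
    have hsup : V ⊔ Q = W := by
      have := congrArg (Subgroup.map W.subtype) hQ'.sup_eq_top
      rw [Subgroup.map_sup, ← MonoidHom.range_eq_map, Subgroup.range_subtype, Subgroup.subgroupOf_map_subtype, inf_eq_left.2 hVW] at this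
      exact this
    have hQc : (Nat.card Q).Coprime (Nat.card V) := by
      rw [hQ, Nat.card_congr (Q'.equivMapOfInjective _ W.subtype_injective).toEquiv.symm, ← hQ'.symm.index_eq_card]
      obtain ⟨k, hk⟩ := IsPGroup.iff_card.1 (show IsPGroup p V from fun v => ⟨1, Subtype.ext (by simpa using hexp v v.2)⟩)
      rw [hk]
      exact hco.pow_right k
    have hconjW : (Q.map (MulAut.conj a).toMonoidHom) ⊔ V = Q ⊔ V := by
      have e1 : (Q ⊔ V).map (MulAut.conj a).toMonoidHom = Q ⊔ V := by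
        rw [sup_comm, hsup]; exact Subgroup.Normal.map_conj_eq W a
      have e2 : V.map (MulAut.conj a).toMonoidHom = V := Subgroup.Normal.map_conj_eq V a
      rw [Subgroup.map_sup, e2] at e1
      exact e1
    haveI : Group.IsSolvable V := Group.isSolvable_of_comm fun x y => Subtype.ext (hab x x.2 y y.2)
    obtain ⟨k, hk, hle⟩ := CfsgLib.Solv.exists_conj_le_of_covering (A := Q) (K := V)
      (S := Q.map (MulAut.conj a).toMonoidHom) (by rw [Subgroup.normalizer_eq_top_iff.2 hVn]; exact le_top)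
      hQc (Or.inr inferInstance) (hconjW ▸ le_sup_left) (hconjW.symm ▸ le_sup_left)
    set b := a⁻¹ with hb
    have hz : ∀ q ∈ Q, (b * k) * q * (b * k)⁻¹ ∈ Q := fun q hq => by
      obtain ⟨s, hs, e⟩ := hle (Subgroup.smul_mem_pointwise_smul q (MulAut.conj k) Q hq)
      rw [MulAut.smul_def, MulAut.conj_apply, MulEquiv.coe_toMonoidHom, MulAut.conj_apply] at e
      rw [show b * k * q * (b * k)⁻¹ = b * (k * q * k⁻¹) * b⁻¹ by group, ← e, hb,
        show a⁻¹ * (a * s * a⁻¹) * a⁻¹⁻¹ = s by group]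
      exact hs
    have hzn : ∀ (m : ℕ), ∀ q ∈ Q, (b * k) ^ m * q * ((b * k) ^ m)⁻¹ ∈ Q := by
      intro m
      induction m with
      | zero => intro q hq; simpa using hq
      | succ m ih =>
        intro q hq
        rw [show (b * k) ^ (m + 1) * q * ((b * k) ^ (m + 1))⁻¹ = (b * k) * ((b * k) ^ m * q * ((b * k) ^ m)⁻¹) * (b * k)⁻¹ by
          generalize b * k = z; rw [pow_succ']; group]
        exact hz _ (ih q hq)
    obtain ⟨j, hj⟩ := hA k hk
    set e := c ^ j with he
    have hkb : k * b = b * (k * e) := by rw [← hj, hb]; group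
    have hek : Commute k e := hab k hk e (hci j)
    have heb : Commute b e := by
      rw [hb]; exact (((Commute.refl a).pow_right p).zpow_right j).inv_left
    have hkm : ∀ m : ℕ, k ^ m * b = b * (k ^ m * e ^ m) := fun m => by
      have : k = b * (k * e) * b⁻¹ := by rw [← hkb, mul_inv_cancel_right]
      rw [← hek.mul_pow]
      calc k ^ m * b = (b * (k * e) * b⁻¹) ^ m * b := by rw [← this]
        _ = b * (k * e) ^ m := by rw [conj_pow, inv_mul_cancel_right]
    have hformula : ∀ m : ℕ, (b * k) ^ m = b ^ m * k ^ m * e ^ (m.choose 2) := by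
      intro m
      induction m with
      | zero => simp
      | succ m ih =>
        rw [pow_succ (b * k), ih, Nat.choose_succ_succ, Nat.choose_one_right, pow_add, pow_succ b, pow_succ k]
        have h1 : Commute (e ^ (m.choose 2)) (b * k) := (heb.symm.mul_right hek.symm).pow_left _
        calc b ^ m * k ^ m * e ^ m.choose 2 * (b * k) = b ^ m * (k ^ m * b) * k * e ^ m.choose 2 := by
              rw [mul_assoc _ (e ^ _), h1.eq]; group
          _ = b ^ m * b * (k ^ m * e ^ m) * k * e ^ m.choose 2 := by rw [hkm]; group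
          _ = b ^ m * b * k ^ m * (e ^ m * k) * e ^ m.choose 2 := by group
          _ = _ := by rw [(hek.symm.pow_left m).eq]; group
    have hzp : (b * k) ^ p = c⁻¹ := by
      obtain ⟨r, hr⟩ := hp.dvd_choose_self (by norm_num : (2 : ℕ) ≠ 0) hpodd
      rw [hformula, hexp k hk, hr, pow_mul, hexp e (hci j), one_pow, mul_one, mul_one, hb, inv_pow]
    have hcQ : ∀ q ∈ Q, c * q = q * c := fun q hq => by
      have h1 := hzn p q hq
      rw [hzp, inv_inv] at h1
      have h2 : c⁻¹ * q * c * q⁻¹ ∈ V := by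
        rw [mul_assoc, mul_assoc]
        exact V.mul_mem (V.inv_mem hap) (by rw [← mul_assoc]; exact hVn.conj_mem c hap q)
      have h3 := hinf _ (Q.mul_mem h1 (Q.inv_mem hq)) h2
      rw [mul_inv_eq_one, mul_assoc, inv_mul_eq_iff_eq_mul] at h3
      exact h3.symm
    have hcW : ∀ x ∈ W, c * x = x * c := fun x hx => by
      rw [← hsup] at hx
      obtain ⟨v, hv, q, hq, rfl⟩ := Subgroup.mem_sup_of_normal_left.1 hx
      rw [← mul_assoc, hab c hap v hv, mul_assoc, hcQ q hq, mul_assoc]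
    clear_value b
    subst hb
    refine htV (hC t fun v hv => ?_)
    have hwci : ∀ i : ℤ, w * c ^ i * w⁻¹ = c ^ i := fun i => by
      rw [mul_inv_eq_iff_eq_mul]
      exact Commute.zpow_right (hcW w hw).symm i
    have hv1 : w⁻¹ * v * w ∈ V := by simpa using hVn.conj_mem v hv w⁻¹
    obtain ⟨i, hi⟩ := hA' _ hv1
    obtain ⟨j', hj'⟩ := hA v hv
    have e1 : t * v * t⁻¹ = v * (c ^ j' * c ^ i) := by
      calc t * v * t⁻¹ = a * (w * (a⁻¹ * (w⁻¹ * v * w) * a) * w⁻¹) * a⁻¹ := by rw [ht]; group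
        _ = a * (v * (w * c ^ i * w⁻¹)) * a⁻¹ := by rw [hi]; group
        _ = (a * v * a⁻¹) * (a * c ^ i * a⁻¹) := by rw [hwci]; simp [mul_assoc]
        _ = _ := by rw [hac, hj', mul_assoc]
    rw [← zpow_add] at e1
    have hte : t * c ^ (j' + i) * t⁻¹ = c ^ (j' + i) := by
      rw [mul_inv_eq_iff_eq_mul]
      exact Commute.zpow_right (hcW t htW).symm _
    have h1 := stab (p := p) (n := n) (hexp _ (hci _)) hco e1 hte
      (mul_inv_eq_iff_eq_mul.2 (hab _ (hpow _ htW) v hv))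
    rw [h1, mul_one] at e1
    exact mul_inv_eq_iff_eq_mul.1 e1

/-- Let G be a finite p-soluble group, P a Sylow p-subgroup of G and A a cyclic normal subgroup of P. If p is odd, or if no section of G is isomorphic to the symmetric group of degree 4, then A ≤ O_{p',p}(G). -/
theorem result {G : Type*} [Group G] [Finite G] {p : ℕ} [Fact p.Prime] (hG : Cfsg.IsPSolvable p G) (P : Sylow p G) (A : Subgroup G) (hAP : A ≤ (P : Subgroup G)) (hAn : (P : Subgroup G) ≤ Subgroup.normalizer (A : Set G)) (hA : IsCyclic A) (h : p ≠ 2 ∨ ¬ Cfsg.Involves (Equiv.Perm (Fin 4)) G) : A ≤ Cfsg.pPrimePCore p G := by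
  classical
  have hp : p.Prime := Fact.out
  set N := Cfsg.pPrimeCore p G
  haveI : N.Normal := CfsgLib.Solv.pPrimeCore_normal G p
  set G1 := G ⧸ N
  have hO1 : Cfsg.pPrimeCore p G1 = ⊥ := CfsgLib.Fus.pPrimeCore_quotient_eq_bot p
  have hG1 : Cfsg.IsPSolvable p G1 := CfsgLib.Perm.isPSolvable_quotient hG N
  set U := Cfsg.pCore p G1 with hU
  haveI : U.Normal := CfsgLib.Solv.pCore_normal G1 p
  have hUp : IsPGroup p U := CfsgLib.Solv.pCore_isPGroup G1 p
  set F := (frattini ↥U).map U.subtype with hF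
  haveI : F.Normal := ConjAct.normal_of_characteristic_of_normal
  have hFU : F ≤ U := Subgroup.map_subtype_le _
  set G2 := G1 ⧸ F
  set π := QuotientGroup.mk' F
  have hπ : Function.Surjective π := QuotientGroup.mk'_surjective F
  set f : G →* G2 := π.comp (QuotientGroup.mk' N) with hf
  have hfs : Function.Surjective f := hπ.comp (QuotientGroup.mk'_surjective N)
  set V := U.map π with hV
  haveI : V.Normal := Subgroup.Normal.map inferInstance π hπ
  haveI := CfsgLib.Solv.pPrimeCore_normal (G2 ⧸ V) p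
  set R := Cfsg.pPrimeCore p (G2 ⧸ V)
  set W := R.comap (QuotientGroup.mk' V) with hW
  intro x hxA
  by_contra hx
  have hab : ∀ u ∈ V, ∀ v ∈ V, u * v = v * u := by
    rintro _ ⟨u, hu, rfl⟩ _ ⟨v, hv, rfl⟩
    rw [← map_mul, ← map_mul]
    refine QuotientGroup.eq.2 ⟨(⟨u, hu⟩ * ⟨v, hv⟩)⁻¹ * (⟨v, hv⟩ * ⟨u, hu⟩), ?_, rfl⟩
    refine CfsgLib.Solv.commutator_le_frattini hUp ?_
    have e : ((⟨u, hu⟩ : U) * ⟨v, hv⟩)⁻¹ * (⟨v, hv⟩ * ⟨u, hu⟩) = ⁅(⟨v, hv⟩ : U)⁻¹, (⟨u, hu⟩ : U)⁻¹⁆ := by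
      rw [commutatorElement_def]; group
    rw [e]
    exact Subgroup.commutator_mem_commutator (Subgroup.mem_top _) (Subgroup.mem_top _)
  have hexp : ∀ v ∈ V, v ^ p = 1 := by
    rintro _ ⟨u, hu, rfl⟩
    rw [← map_pow]
    exact (QuotientGroup.eq_one_iff _).2 ⟨⟨u, hu⟩ ^ p, CfsgLib.Solv.pow_mem_frattini hUp _, rfl⟩
  have hC : ∀ g, (∀ v ∈ V, g * v = v * g) → g ∈ V := fun g hg => by
    obtain ⟨g, rfl⟩ := hπ g
    refine Subgroup.mem_map_of_mem π (CfsgLib.Perm.mem_pCore_of_trivial_on_frattini hG1 hO1 fun y hy => ?_)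
    refine (QuotientGroup.eq_one_iff (N := F) _).1 ?_
    show π ⁅g, y⁆ = 1
    rw [commutatorElement_def, map_mul, map_mul, map_mul, map_inv, map_inv, hg _ (Subgroup.mem_map_of_mem π hy),
      mul_inv_cancel_right, mul_inv_cancel]
  have hG3 : Cfsg.IsPSolvable p (G2 ⧸ V) :=
    CfsgLib.Perm.isPSolvable_quotient (CfsgLib.Perm.isPSolvable_quotient hG1 F) V
  have hO3 : Cfsg.pCore p (G2 ⧸ V) = ⊥ := by
    haveI := CfsgLib.Solv.pCore_normal (G2 ⧸ V) p
    set M := (Cfsg.pCore p (G2 ⧸ V)).comap ((QuotientGroup.mk' V).comp π)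
    have hMp : IsPGroup p M := (CfsgLib.Solv.pCore_isPGroup (G2 ⧸ V) p).comap_of_ker_isPGroup _ (by
      rw [← MonoidHom.comap_ker, QuotientGroup.ker_mk', hV, Subgroup.comap_map_eq, QuotientGroup.ker_mk', sup_eq_left.2 hFU]
      exact hUp)
    have hMU : M ≤ U := CfsgLib.Solv.le_pCore hMp
    rw [eq_bot_iff]
    intro y hy
    obtain ⟨g, rfl⟩ := ((QuotientGroup.mk'_surjective V).comp hπ) y
    exact Subgroup.mem_bot.2 ((QuotientGroup.eq_one_iff _).2 (Subgroup.mem_map_of_mem π (hMU hy)))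
  have hVW : V ≤ W := QuotientGroup.le_comap_mk' V _
  have hco : (V.relIndex W).Coprime p := by
    have e : V.relIndex W = Nat.card R := by
      have h4 : (⊥ : Subgroup (G2 ⧸ V)).comap (QuotientGroup.mk' V) = V := by
        rw [MonoidHom.comap_bot, QuotientGroup.ker_mk']
      have h5 := Subgroup.relIndex_comap (⊥ : Subgroup (G2 ⧸ V)) (QuotientGroup.mk' V) W
      rw [h4, Subgroup.map_comap_eq_self_of_surjective (QuotientGroup.mk'_surjective V), Subgroup.relIndex_bot_left] at h5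
      exact h5
    rw [e]
    exact CfsgLib.Solv.pPrimeCore_coprime _ p
  have hWc : ∀ g, (∀ w ∈ W, g * w * g⁻¹ * w⁻¹ ∈ V) → g ∈ W := fun g hg => by
    refine centralizer_pPrimeCore_le hG3 hO3 (Subgroup.mem_centralizer_iff.2 fun y hy => ?_)
    obtain ⟨w, rfl⟩ := QuotientGroup.mk'_surjective V y
    have := (QuotientGroup.eq_one_iff _).2 (hg w hy)
    rw [show ((g * w * g⁻¹ * w⁻¹ : G2) : G2 ⧸ V) = QuotientGroup.mk' V (g * w * g⁻¹ * w⁻¹) from rfl,
      map_mul, map_mul, map_mul, map_inv, map_inv, mul_inv_eq_one, mul_inv_eq_iff_eq_mul] at this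
    exact this.symm
  have h2 : p ≠ 2 ∨ ¬ Cfsg.Involves (Equiv.Perm (Fin 4)) G2 :=
    h.imp_right fun hh hh' => hh (CfsgLib.Fus.involves_comap hfs hh')
  -- the image of `A`
  obtain ⟨⟨a0, ha0⟩, hgen⟩ := hA.exists_generator
  have ha0P : a0 ∈ (P : Subgroup G) := hAP ha0
  have ha0V : f a0 ∉ V := fun hh => hx (by
    obtain ⟨i, hi⟩ := Subgroup.mem_zpowers_iff.1 (hgen ⟨x, hxA⟩)
    have hxe : x = a0 ^ i := by simpa using congrArg (fun s : A => (s : G)) hi.symm
    rw [hxe]
    refine Subgroup.zpow_mem _ ?_ i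
    obtain ⟨u, hu, e⟩ := hh
    have := hFU (QuotientGroup.eq.1 e)
    exact (Subgroup.mul_mem_cancel_left _ (U.inv_mem hu)).1 this)
  have hA2 : ∀ y : G2, y ∈ A.map f → ∃ i : ℤ, y = f a0 ^ i := by
    rintro _ ⟨s, hs, rfl⟩
    obtain ⟨i, hi⟩ := Subgroup.mem_zpowers_iff.1 (hgen ⟨s, hs⟩)
    exact ⟨i, by rw [← map_zpow, show s = a0 ^ i by simpa using congrArg (fun s : A => (s : G)) hi.symm]⟩
  have hordp : ∃ k, orderOf (QuotientGroup.mk' V (f a0)) = p ^ k := by
    obtain ⟨k, hk⟩ := IsPGroup.iff_orderOf.1 P.2 ⟨a0, ha0P⟩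
    rw [Subgroup.orderOf_mk] at hk
    obtain ⟨m, -, hm⟩ := (Nat.dvd_prime_pow hp).1 (hk ▸ (orderOf_map_dvd ((QuotientGroup.mk' V).comp f) a0))
    exact ⟨m, hm⟩
  obtain ⟨k, hk⟩ := hordp
  obtain ⟨k, rfl⟩ : ∃ m, k = m + 1 := Nat.exists_eq_succ_of_ne_zero (by
    rintro rfl
    rw [pow_zero, orderOf_eq_one_iff] at hk
    exact ha0V ((QuotientGroup.eq_one_iff _).1 hk))
  set a := f a0 ^ p ^ k with ha
  have hap : a ^ p ∈ V := by
    rw [ha, ← pow_mul, ← pow_succ, ← QuotientGroup.eq_one_iff]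
    show QuotientGroup.mk' V _ = 1
    rw [map_pow, ← hk, pow_orderOf_eq_one]
  have haV : a ∉ V := fun hh => by
    have := orderOf_dvd_of_pow_eq_one (x := QuotientGroup.mk' V (f a0)) (n := p ^ k) (by
      rw [← map_pow]; exact (QuotientGroup.eq_one_iff _).2 hh)
    rw [hk, Nat.pow_dvd_pow_iff_le_right hp.one_lt] at this
    omega
  have haA : a ∈ A.map f := Subgroup.pow_mem _ (Subgroup.mem_map_of_mem f ha0) _
  have hVn : V ≤ Subgroup.normalizer (A.map f : Set G2) := by
    have hP2 : (P : Subgroup G).map f ≤ Subgroup.normalizer (A.map f : Set G2) :=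
      (Subgroup.map_mono hAn).trans (Subgroup.le_normalizer_map f)
    refine le_trans ?_ hP2
    have hVp : IsPGroup p V := hUp.map π
    have h3 : IsPGroup p ↥((P.mapSurjective hfs : Subgroup G2) ⊔ V) := (P.mapSurjective hfs).2.to_sup_of_normal_right hVp
    have h4 := (P.mapSurjective hfs).3 h3 le_sup_left
    exact (le_sup_right.trans h4.le).trans le_rfl
  refine core hVW hco hab hexp hC hWc h2 a hap haV fun v hv => ?_
  have h1 : a * v * a⁻¹ * v⁻¹ ∈ V := V.mul_mem ((inferInstance : V.Normal).conj_mem v hv a) (V.inv_mem hv)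
  have h3 : a * v * a⁻¹ * v⁻¹ ∈ A.map f := by
    rw [mul_assoc, mul_assoc, ← mul_assoc v]
    exact Subgroup.mul_mem _ haA ((Subgroup.mem_normalizer_iff.1 (hVn hv) _).1 (Subgroup.inv_mem _ haA))
  obtain ⟨i, hi⟩ := hA2 _ h3
  have h5 : ((p ^ (k + 1) : ℕ) : ℤ) ∣ i := by
    rw [← hk, orderOf_dvd_iff_zpow_eq_one, ← map_zpow, ← hi]
    exact (QuotientGroup.eq_one_iff _).2 h1
  obtain ⟨l, rfl⟩ := h5
  rw [hi, zpow_mul, zpow_natCast, pow_succ, pow_mul, ← ha]
  exact Subgroup.zpow_mem_zpowers _ l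

end Cfsg.Agent.S3788
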