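import Cfsg.Statements.S3790
import Cfsg.Agent.Solv.UpperSeries
import Cfsg.Agent.Solv.PSolvableOfSolvable
import Mathlib.GroupTheory.Solvable

set_option autoImplicit false
open Cfsg

namespace Cfsg.Agent.S3790

universe u

open CfsgLib.Solv in
theorem aux {p : ℕ} [Fact p.Prime] {r : ℕ} (q : Fin r → ℕ) (hq : ∀ i, (q i).Prime ∧ q i ≠ p) :
    ∀ (s : ℕ) (G : Type u) [Group G] [Finite G] (l : Fin r → ℕ), Finset.univ.sum l = s →
    (∀ t : ℕ, t.Prime → t ∣ Nat.card G → t ≠ p → ∃ i, q i = t) →
    (∀ i, Cfsg.PLengthLE (q i) (l i) G) → Cfsg.PLengthLE p (Finset.univ.prod fun i => 1 + l i) G := by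
  intro s
  induction s using Nat.strong_induction_on with
  | _ s ih =>
    intro G _ _ l hs hcover hl
    set P := Finset.univ.prod fun i => 1 + l i
    have hP : 1 ≤ P := Finset.one_le_prod' fun i _ => by omega
    haveI := CfsgLib.Solv.pPrimeCore_normal G p
    refine Upper.plen_of_quotient_coprime (Cfsg.pPrimeCore p G) (pPrimeCore_coprime G p) ?_
    set π := QuotientGroup.mk' (Cfsg.pPrimeCore p G)
    have hπ : Function.Surjective π := QuotientGroup.mk'_surjective _
    haveI := CfsgLib.Solv.pCore_normal (G ⧸ Cfsg.pPrimeCore p G) p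
    obtain ⟨m, hm⟩ : ∃ m, P = m + 1 := ⟨P - 1, by omega⟩
    rw [hm]
    refine Upper.plen_lift pPrimeCore_quotient_self ?_
    set f := (QuotientGroup.mk' (Cfsg.pCore p (G ⧸ Cfsg.pPrimeCore p G))).comp π
    have hf : Function.Surjective f := (QuotientGroup.mk'_surjective _).comp hπ
    set X := (G ⧸ Cfsg.pPrimeCore p G) ⧸ Cfsg.pCore p (G ⧸ Cfsg.pPrimeCore p G)
    have hbot : (⨅ i, Cfsg.pPrimeCore (q i) X) = ⊥ :=
      Upper.iInf_pPrimeCore_eq_bot q (fun i => (hq i).1) p
        (fun t ht htd htp => hcover t ht (htd.trans (Subgroup.card_dvd_of_surjective f hf)) htp)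
        pCore_quotient_self
    refine Upper.plen_subdirect (fun i => Cfsg.pPrimeCore (q i) X) (fun i => CfsgLib.Solv.pPrimeCore_normal X (q i)) hbot
      fun i => ?_
    haveI := CfsgLib.Solv.pPrimeCore_normal X (q i)
    haveI := Fact.mk (hq i).1
    set φ := (QuotientGroup.mk' (Cfsg.pPrimeCore (q i) X)).comp f
    have hφ : Function.Surjective φ := (QuotientGroup.mk'_surjective _).comp hf
    have hbq : Cfsg.pPrimeCore (q i) (X ⧸ Cfsg.pPrimeCore (q i) X) = ⊥ := pPrimeCore_quotient_self
    have hlQ : Cfsg.PLengthLE (q i) (l i) (X ⧸ Cfsg.pPrimeCore (q i) X) := Upper.plen_map hφ (hl i)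
    set R := Cfsg.pCore (q i) (X ⧸ Cfsg.pPrimeCore (q i) X)
    haveI : R.Normal := CfsgLib.Solv.pCore_normal _ _
    by_cases hl0 : l i = 0
    · rw [hl0, Upper.plen_zero_iff, ← (hq i).1.coprime_iff_not_dvd, Nat.coprime_comm] at hlQ
      have htop : Cfsg.pPrimeCore (q i) (X ⧸ Cfsg.pPrimeCore (q i) X) = ⊤ :=
        eq_top_iff.2 (le_pPrimeCore (N := ⊤) (by rwa [Subgroup.card_top]))
      rw [hbq] at htop
      exact top_unique fun x hx => by
        have : x ∈ (⊥ : Subgroup (X ⧸ Cfsg.pPrimeCore (q i) X)) := htop.symm ▸ hx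
        rw [Subgroup.mem_bot.1 this]; exact one_mem _
    have hRc : (Nat.card R).Coprime p := by
      obtain ⟨k, hk⟩ := (pCore_isPGroup (X ⧸ Cfsg.pPrimeCore (q i) X) (q i)).exists_card_eq
      rw [hk]
      exact ((Nat.coprime_primes (hq i).1 Fact.out).2 (hq i).2).pow_left k
    refine Upper.plen_of_quotient_coprime R hRc ?_
    set l' := Function.update l i (l i - 1)
    have hlt : Finset.univ.sum l' < s := by
      rw [← hs]
      refine Finset.sum_lt_sum (fun j _ => ?_) ⟨i, Finset.mem_univ i, ?_⟩
      · by_cases hj : j = i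
        · subst hj; simp [l']
        · simp [l', hj]
      · simp [l']; omega
    set ψ := (QuotientGroup.mk' R).comp φ
    have hψ : Function.Surjective ψ := (QuotientGroup.mk'_surjective R).comp hφ
    have hind := ih _ hlt ((X ⧸ Cfsg.pPrimeCore (q i) X) ⧸ R) l' rfl
      (fun t ht htd => hcover t ht (htd.trans (Subgroup.card_dvd_of_surjective ψ hψ)))
      (fun j => by
        by_cases hj : j = i
        · subst hj
          simp only [l', Function.update_self]
          exact Upper.plen_drop hbq (by rwa [Nat.sub_add_cancel (Nat.one_le_iff_ne_zero.2 hl0)])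
        · simp only [l', Function.update_of_ne hj]
          haveI := Fact.mk (hq j).1
          exact Upper.plen_map hψ (hl j))
    refine Upper.plen_mono ?_ hind
    have hlt' : (Finset.univ.prod fun j => 1 + l' j) < P := by
      refine Finset.prod_lt_prod (fun j _ => by omega) (fun j _ => ?_) ⟨i, Finset.mem_univ i, ?_⟩
      · by_cases hj : j = i
        · subst hj; simp [l']
        · simp [l', hj]
      · simp [l']; omega
    omega


/-- Let G be a finite solvable group and p a prime. Suppose p₁, …, p_r are distinct primes, all different from p, that include every prime dividing the order of G other than p, and that G has p_i-length at most l_i for each i. Then G has p-length at most the product of the numbers 1 + l_i. -/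
theorem result {G : Type*} [Group G] [Finite G] (hG : Group.IsSolvable G) (p : ℕ) [Fact p.Prime] (r : ℕ) (q : Fin r → ℕ) (hq : ∀ i, (q i).Prime ∧ q i ≠ p) (hinj : Function.Injective q) (hcover : ∀ s : ℕ, s.Prime → s ∣ Nat.card G → s ≠ p → ∃ i, q i = s) (l : Fin r → ℕ) (hl : ∀ i, Cfsg.PLengthLE (q i) (l i) G) : Cfsg.PLengthLE p (Finset.univ.prod fun i => 1 + l i) G := by
  exact aux q hq _ G l rfl hcover hl

end Cfsg.Agent.S3790
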