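import Cfsg.Statements.S3791
import Cfsg.Agent.Solv.UpperSeries
import Cfsg.Agent.Solv.PSolvableOfSolvable
import Mathlib.GroupTheory.Solvable

set_option autoImplicit false
open Cfsg

namespace Cfsg.Agent.S3791

universe u

theorem derived_add_le {Q : Type u} [Group Q] {R : Subgroup Q} {a : ℕ} (h : derivedSeries Q a ≤ R) (b : ℕ) :
    derivedSeries Q (a + b) ≤ (derivedSeries ↥R b).map R.subtype := by
  induction b with
  | zero => rw [Nat.add_zero, derivedSeries_zero, ← MonoidHom.range_eq_map, Subgroup.range_subtype]; exact h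
  | succ b ih =>
    rw [← Nat.add_assoc, derivedSeries_succ, derivedSeries_succ, Subgroup.map_commutator]
    exact Subgroup.commutator_mono ih ih

open CfsgLib.Solv in
theorem aux {r : ℕ} (q : Fin r → ℕ) (hq : ∀ i, (q i).Prime) (d : Fin r → ℕ) :
    ∀ (s : ℕ) (G : Type u) [Group G] [Finite G] (l : Fin r → ℕ), Finset.univ.sum l = s →
    (∀ t : ℕ, t.Prime → t ∣ Nat.card G → ∃ i, q i = t) →
    (∀ i, ∀ S : Sylow (q i) G, derivedSeries ↥(S : Subgroup G) (d i) = ⊥) →
    (∀ i, Cfsg.PLengthLE (q i) (l i) G) → derivedSeries G (Finset.univ.sum fun i => d i * l i) = ⊥ := by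
  intro s
  induction s using Nat.strong_induction_on with
  | _ s ih =>
    intro G _ _ l hs hcover hd hl
    set N := Finset.univ.sum fun i => d i * l i
    rcases subsingleton_or_nontrivial G with hG | hG
    · exact (Subgroup.eq_bot_iff_forall _).2 fun x _ => Subsingleton.elim _ _
    have hO : ∀ p : ℕ, (∀ i, q i ≠ p) → p.Prime → Cfsg.pCore p G = ⊥ := by
      intro p hne hp
      haveI := Fact.mk hp
      obtain ⟨k, hk⟩ := (pCore_isPGroup G p).exists_card_eq
      rcases k with _ | k
      · exact Subgroup.card_eq_one.1 (hk.trans (pow_zero p))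
      · obtain ⟨i, hi⟩ := hcover p hp ((dvd_pow_self p (Nat.succ_ne_zero k)).trans (hk ▸ Subgroup.card_subgroup_dvd_card _))
        exact absurd hi (hne i)
    have hbot : (⨅ i, Cfsg.pPrimeCore (q i) G) = ⊥ := by
      refine Upper.iInf_pPrimeCore_eq_bot q hq 1 (fun t ht htd _ => hcover t ht htd) ?_
      refine (Subgroup.eq_bot_iff_forall _).2 fun x hx => ?_
      obtain ⟨k, hk⟩ := pCore_isPGroup G 1 ⟨x, hx⟩
      simpa using congrArg Subtype.val hk
    rw [← le_bot_iff, ← hbot]
    refine le_iInf fun i => ?_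
    haveI := Fact.mk (hq i)
    haveI := CfsgLib.Solv.pPrimeCore_normal G (q i)
    set π := QuotientGroup.mk' (Cfsg.pPrimeCore (q i) G)
    have hπ : Function.Surjective π := QuotientGroup.mk'_surjective _
    suffices hQ : derivedSeries (G ⧸ Cfsg.pPrimeCore (q i) G) N = ⊥ by
      intro x hx
      refine (QuotientGroup.eq_one_iff x).1 (Subgroup.mem_bot.1 (hQ ▸ ?_))
      exact map_derivedSeries_le_derivedSeries π N ⟨x, hx, rfl⟩
    have hbq : Cfsg.pPrimeCore (q i) (G ⧸ Cfsg.pPrimeCore (q i) G) = ⊥ := pPrimeCore_quotient_self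
    have hlQ : Cfsg.PLengthLE (q i) (l i) (G ⧸ Cfsg.pPrimeCore (q i) G) := Upper.plen_map hπ (hl i)
    by_cases hl0 : l i = 0
    · rw [hl0, Upper.plen_zero_iff, ← (hq i).coprime_iff_not_dvd, Nat.coprime_comm] at hlQ
      have htop : Cfsg.pPrimeCore (q i) (G ⧸ Cfsg.pPrimeCore (q i) G) = ⊤ :=
        eq_top_iff.2 (le_pPrimeCore (N := ⊤) (by rwa [Subgroup.card_top]))
      rw [hbq] at htop
      exact le_bot_iff.1 (le_top.trans htop.ge)
    set R := Cfsg.pCore (q i) (G ⧸ Cfsg.pPrimeCore (q i) G)
    haveI : R.Normal := CfsgLib.Solv.pCore_normal _ _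
    set l' := Function.update l i (l i - 1)
    have hlt : Finset.univ.sum l' < s := by
      rw [← hs]
      refine Finset.sum_lt_sum (fun j _ => ?_) ⟨i, Finset.mem_univ i, ?_⟩
      · by_cases hj : j = i
        · subst hj; simp [l']
        · simp [l', hj]
      · simp [l']; omega
    set ψ := (QuotientGroup.mk' R).comp π
    have hψ : Function.Surjective ψ := (QuotientGroup.mk'_surjective R).comp hπ
    have hsyl : ∀ (Q : Type u) [Group Q] [Finite Q] (f : G →* Q), Function.Surjective f →
        ∀ j, ∀ S : Sylow (q j) Q, derivedSeries ↥(S : Subgroup Q) (d j) = ⊥ := by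
      intro Q _ _ f hf j S
      haveI := Fact.mk (hq j)
      obtain ⟨S0, hS0⟩ : ∃ S0 : Sylow (q j) G, S0.mapSurjective hf = S := Sylow.mapSurjective_surjective hf _ S
      subst hS0
      rw [← le_bot_iff]
      refine le_trans (derivedSeries_le_map_derivedSeries (f.subgroupMap_surjective (S0 : Subgroup G)) (d j)) ?_
      rw [hd j S0, Subgroup.map_bot]; exact le_rfl
    have hind := ih _ hlt ((G ⧸ Cfsg.pPrimeCore (q i) G) ⧸ R) l' rfl
      (fun t ht htd => hcover t ht (htd.trans (Subgroup.card_dvd_of_surjective ψ hψ)))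
      (hsyl _ ψ hψ) (fun j => by
        by_cases hj : j = i
        · subst hj
          simp only [l', Function.update_self]
          exact Upper.plen_drop hbq (by rwa [Nat.sub_add_cancel (Nat.one_le_iff_ne_zero.2 hl0)])
        · simp only [l', Function.update_of_ne hj]
          haveI := Fact.mk (hq j)
          exact Upper.plen_map hψ (hl j))
    set M := Finset.univ.sum fun j => d j * l' j
    have hNM : N = M + d i := by
      simp only [N, M]
      rw [← Finset.add_sum_erase _ _ (Finset.mem_univ i),
        ← Finset.add_sum_erase (Finset.univ) (fun j => d j * l' j) (Finset.mem_univ i)]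
      have h1 : ∀ j ∈ Finset.univ.erase i, d j * l' j = d j * l j := fun j hj => by
        simp [l', Finset.ne_of_mem_erase hj]
      rw [Finset.sum_congr rfl h1]
      simp only [l', Function.update_self]
      have : d i * (l i - 1) + d i = d i * l i := by
        rw [← Nat.mul_succ]; congr 1; omega
      omega
    have hR : derivedSeries (G ⧸ Cfsg.pPrimeCore (q i) G) M ≤ R := fun x hx => by
      refine (QuotientGroup.eq_one_iff x).1 (Subgroup.mem_bot.1 (hind ▸ ?_))
      exact map_derivedSeries_le_derivedSeries (QuotientGroup.mk' R) M ⟨x, hx, rfl⟩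
    obtain ⟨S⟩ := (inferInstance : Nonempty (Sylow (q i) (G ⧸ Cfsg.pPrimeCore (q i) G)))
    have hRS : derivedSeries ↥R (d i) = ⊥ := by
      have h1 := map_derivedSeries_le_derivedSeries (Subgroup.inclusion (pCore_le_sylow S)) (d i)
      rw [hsyl _ π hπ i S, le_bot_iff, Subgroup.map_eq_bot_iff_of_injective _ (Subgroup.inclusion_injective _)] at h1
      exact h1
    rw [hNM, ← le_bot_iff]
    refine (derived_add_le hR (d i)).trans ?_
    rw [hRS, Subgroup.map_bot]


/-- The Hall–Higman bound on derived length: let G be a finite solvable group, let p₁, …, p_r be distinct primes that include every prime dividing the order of G, and suppose that for each i the Sylow p_i-subgroups of G have derived length at most d_i and G has p_i-length at most l_i. Then G has derived length at most Σ d_i l_i. -/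
theorem result {G : Type*} [Group G] [Finite G] (hG : Group.IsSolvable G) (r : ℕ) (q : Fin r → ℕ) (hq : ∀ i, (q i).Prime) (hinj : Function.Injective q) (hcover : ∀ s : ℕ, s.Prime → s ∣ Nat.card G → ∃ i, q i = s) (d l : Fin r → ℕ) (hd : ∀ i, ∀ P : Subgroup G, (haveI := Fact.mk (hq i); ∃ S : Sylow (q i) G, (S : Subgroup G) = P) → derivedSeries ↥P (d i) = ⊥) (hl : ∀ i, Cfsg.PLengthLE (q i) (l i) G) : derivedSeries G (Finset.univ.sum fun i => d i * l i) = ⊥ := by
  refine aux q hq d _ G l rfl hcover (fun i S => ?_) hl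
  exact hd i _ ⟨S, rfl⟩

end Cfsg.Agent.S3791
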