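import Cfsg.Statements.S3797
import Cfsg.Agent.Solv.InvolutionTransitive

set_option autoImplicit false
open Cfsg

namespace Cfsg.Agent.S3797

open CfsgLib.Solv

theorem homocyclic {A : Type*} [CommGroup A] [Finite A] (hA : IsPGroup 2 A)
    (h : ∀ x y : A, x ≠ 1 → x ^ 2 = 1 → y ≠ 1 → y ^ 2 = 1 → ∃ a : MulAut A, a x = y) :
    ∃ m r : ℕ, Nonempty (A ≃* (Fin r → Multiplicative (ZMod (2 ^ m)))) := by
  classical
  obtain ⟨ι, _, n, hn, ⟨e⟩⟩ := CommGroup.equiv_prod_multiplicative_zmod_of_finite A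
  haveI : Fact (Nat.Prime 2) := ⟨Nat.prime_two⟩
  have hk : ∀ i, ∃ k, n i = 2 ^ (k + 1) := by
    intro i
    haveI : NeZero (n i) := ⟨(zero_lt_one.trans (hn i)).ne'⟩
    have hp := (hA.of_equiv e).of_surjective (Pi.evalMonoidHom (fun i => Multiplicative (ZMod (n i))) i)
      (Function.surjective_eval i)
    obtain ⟨j, hj⟩ := IsPGroup.iff_card.1 hp
    rw [show Nat.card (Multiplicative (ZMod (n i))) = n i from Nat.card_zmod (n i)] at hj
    obtain ⟨k, rfl⟩ : ∃ k, j = k + 1 := ⟨j - 1, by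
      rcases j with _ | j
      · have := hn i; simp at hj; omega
      · rfl⟩
    exact ⟨k, hj⟩
  choose k hk using hk
  have hone : ∀ i, ((2 ^ k i : ℕ) : ZMod (n i)) ≠ 0 := by
    intro i h0
    rw [ZMod.natCast_eq_zero_iff, hk, Nat.pow_dvd_pow_iff_le_right (by norm_num)] at h0
    omega
  have htwo : ∀ i, ((2 ^ k i : ℕ) : ZMod (n i)) + ((2 ^ k i : ℕ) : ZMod (n i)) = 0 := by
    intro i
    rw [← Nat.cast_add, ZMod.natCast_eq_zero_iff, hk, pow_succ, Nat.mul_two]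
  let inv : ι → ((i : ι) → Multiplicative (ZMod (n i))) := fun i =>
    Pi.mulSingle i (Multiplicative.ofAdd ((2 ^ k i : ℕ) : ZMod (n i)))
  have hinv : ∀ i, inv i ≠ 1 ∧ inv i ^ 2 = 1 := by
    intro i
    refine ⟨fun h0 => hone i ?_, funext fun j => ?_⟩
    · have := congrFun h0 i
      simp only [inv, Pi.mulSingle_eq_same, Pi.one_apply] at this
      exact congrArg Multiplicative.toAdd this
    · simp only [inv, Pi.pow_apply, Pi.one_apply]
      by_cases e' : j = i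
      · subst e'
        rw [Pi.mulSingle_eq_same, pow_two, ← ofAdd_add, htwo, ofAdd_zero]
      · rw [Pi.mulSingle_eq_of_ne e', one_pow]
  have hle : ∀ i j, k j ≤ k i := by
    intro i j
    by_contra hlt
    push Not at hlt
    obtain ⟨a, ha⟩ := h (e.symm (inv j)) (e.symm (inv i))
      (by simpa using (hinv j).1) (by rw [← map_pow, (hinv j).2, map_one])
      (by simpa using (hinv i).1) (by rw [← map_pow, (hinv i).2, map_one])
    have hw : inv j = (Pi.mulSingle j (Multiplicative.ofAdd (1 : ZMod (n j)))) ^ 2 ^ k j := by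
      funext l
      simp only [inv, Pi.pow_apply]
      by_cases e' : l = j
      · subst e'
        rw [Pi.mulSingle_eq_same, Pi.mulSingle_eq_same, ← ofAdd_nsmul, nsmul_eq_mul, mul_one]
      · rw [Pi.mulSingle_eq_of_ne e', Pi.mulSingle_eq_of_ne e', one_pow]
    rw [hw, map_pow, map_pow] at ha
    have h2 := congrFun (congrArg e ha) i
    rw [map_pow, MulEquiv.apply_symm_apply, Pi.pow_apply] at h2
    simp only [inv, Pi.mulSingle_eq_same] at h2
    refine hone i ?_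
    have h3 := congrArg Multiplicative.toAdd h2.symm
    rw [toAdd_pow, toAdd_ofAdd] at h3
    rw [h3, nsmul_eq_mul]
    have h0 : ((2 ^ k j : ℕ) : ZMod (n i)) = 0 := by
      rw [ZMod.natCast_eq_zero_iff, hk]
      exact pow_dvd_pow 2 hlt
    rw [h0, zero_mul]
  obtain ⟨m, hm⟩ : ∃ m, ∀ i, n i = 2 ^ m := by
    rcases isEmpty_or_nonempty ι with hι | ⟨⟨i₀⟩⟩
    · exact ⟨0, fun i => hι.elim i⟩
    · exact ⟨k i₀ + 1, fun i => by rw [hk i, le_antisymm (hle i₀ i) (hle i i₀)]⟩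
  refine ⟨m, Fintype.card ι, ⟨e.trans ?_⟩⟩
  exact (MulEquiv.piCongrRight fun i => AddEquiv.toMultiplicative (ZMod.ringEquivCongr (hm i)).toAddEquiv).trans
    { (Fintype.equivFin ι).arrowCongr (Equiv.refl _) with map_mul' := fun _ _ => rfl }

/-- Let G be a finite solvable group of even order whose Sylow 2-subgroups contain more than one involution, and suppose all involutions of G are conjugate. Then G has 2-length at most 1, and a Sylow 2-subgroup S of G is either homocyclic (a direct product of cyclic groups of one common order) or a non-abelian 2-group with more than one involution admitting a solvable group of automorphisms transitive on its involutions. -/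
theorem result {G : Type*} [Group G] [Finite G] (hG : Group.IsSolvable G) (heven : Even (Nat.card G)) (S : Sylow 2 G) (htwo : ∃ x y : G, x ∈ (S : Subgroup G) ∧ y ∈ (S : Subgroup G) ∧ x ≠ y ∧ x ≠ 1 ∧ x ^ 2 = 1 ∧ y ≠ 1 ∧ y ^ 2 = 1) (hconj : ∀ x y : G, x ≠ 1 → x ^ 2 = 1 → y ≠ 1 → y ^ 2 = 1 → IsConj x y) : Cfsg.PLengthLE 2 1 G ∧ ((∃ m r : ℕ, Nonempty (↥(S : Subgroup G) ≃* (Fin r → Multiplicative (ZMod (2 ^ m))))) ∨ (¬ IsMulCommutative (S : Subgroup G) ∧ ∃ Y : Subgroup (MulAut ↥(S : Subgroup G)), Group.IsSolvable Y ∧ ∀ x y : ↥(S : Subgroup G), x ≠ 1 → x ^ 2 = 1 → y ≠ 1 → y ^ 2 = 1 → ∃ a ∈ Y, a x = y)) := by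
  haveI : Fact (Nat.Prime 2) := ⟨Nat.prime_two⟩
  haveI := hG
  haveI hMn : (Cfsg.pPrimeCore 2 G).Normal := CfsgLib.Solv.pPrimeCore_normal G 2
  set M := Cfsg.pPrimeCore 2 G
  set q := QuotientGroup.mk' M
  have hlift : ∀ z : G ⧸ M, z ≠ 1 → z ^ 2 = 1 → ∃ x : G, x ≠ 1 ∧ x ^ 2 = 1 ∧ (x : G ⧸ M) = z := by
    intro z hz1 hz2
    have hz : orderOf z = 2 := orderOf_eq_prime hz2 hz1
    obtain ⟨x, hx, hxz⟩ := PLen.exists_lift (CfsgLib.Solv.pPrimeCore_coprime G 2) hz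
    obtain ⟨hx2, hx1⟩ := orderOf_eq_prime_iff.1 hx
    refine ⟨x, hx1, hx2, ?_⟩
    obtain ⟨n, hn⟩ := Subgroup.mem_zpowers_iff.1 (hxz.ge (Subgroup.mem_zpowers z))
    rcases Int.even_or_odd n with ⟨j, rfl⟩ | ⟨j, rfl⟩
    · refine absurd hn.symm ?_
      rw [← two_mul, zpow_mul, zpow_ofNat, ← QuotientGroup.mk_pow, hx2, QuotientGroup.mk_one, one_zpow]
      exact hz1
    · rw [← hn, zpow_add, zpow_mul, zpow_ofNat, ← QuotientGroup.mk_pow, hx2, QuotientGroup.mk_one, one_zpow,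
        one_mul, zpow_one]
  have hconj' : ∀ x y : G ⧸ M, x ≠ 1 → x ^ 2 = 1 → y ≠ 1 → y ^ 2 = 1 → IsConj x y := by
    intro x y hx1 hx2 hy1 hy2
    obtain ⟨a, ha1, ha2, rfl⟩ := hlift x hx1 hx2
    obtain ⟨b, hb1, hb2, rfl⟩ := hlift y hy1 hy2
    obtain ⟨c, hc⟩ := isConj_iff.1 (hconj a b ha1 ha2 hb1 hb2)
    exact isConj_iff.2 ⟨(c : G ⧸ M), by rw [← hc]; rfl⟩
  have hinjS : ∀ x : ↥(S : Subgroup G), (x : G) ∈ M → x = 1 := by
    intro x hx
    obtain ⟨j, hj⟩ := S.2 x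
    refine Subtype.ext (orderOf_eq_one_iff.1 ?_)
    exact Nat.eq_one_of_dvd_coprimes ((CfsgLib.Solv.pPrimeCore_coprime G 2).pow_right j)
      (Subgroup.orderOf_dvd_natCard M hx) (orderOf_dvd_of_pow_eq_one (congrArg Subtype.val hj))
  obtain ⟨x₀, y₀, hx₀, hy₀, hne, hx1, hx2, hy1, hy2⟩ := htwo
  have htwo' : ∃ x y : G ⧸ M, x ≠ y ∧ x ≠ 1 ∧ x ^ 2 = 1 ∧ y ≠ 1 ∧ y ^ 2 = 1 := by
    refine ⟨(x₀ : G ⧸ M), (y₀ : G ⧸ M), fun h => ?_, fun h => ?_, ?_, fun h => ?_, ?_⟩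
    · exact hne (inv_mul_eq_one.1 (congrArg Subtype.val (hinjS ⟨_, mul_mem (inv_mem hx₀) hy₀⟩ (QuotientGroup.eq.1 h))))
    · exact hx1 (congrArg Subtype.val (hinjS ⟨_, hx₀⟩ ((QuotientGroup.eq_one_iff _).1 h)))
    · rw [← QuotientGroup.mk_pow, hx2, QuotientGroup.mk_one]
    · exact hy1 (congrArg Subtype.val (hinjS ⟨_, hy₀⟩ ((QuotientGroup.eq_one_iff _).1 h)))
    · rw [← QuotientGroup.mk_pow, hy2, QuotientGroup.mk_one]
  have heven' : 2 ∣ Nat.card (G ⧸ M) := by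
    obtain ⟨x, -, -, hx1, hx2, -, -⟩ := htwo'
    exact (orderOf_eq_prime hx2 hx1) ▸ orderOf_dvd_natCard x
  have hidx : ¬ 2 ∣ (Cfsg.pCore 2 (G ⧸ M)).index :=
    InvConj.two_not_dvd_index CfsgLib.Solv.pPrimeCore_quotient_self heven' hconj' htwo'
  refine ⟨PLen.pLengthLE_one_of_index hidx, ?_⟩
  haveI hUn : (Cfsg.pCore 2 (G ⧸ M)).Normal := CfsgLib.Solv.pCore_normal (G ⧸ M) 2
  set U := Cfsg.pCore 2 (G ⧸ M)
  have hSU : (S : Subgroup G).map q = U := by
    let S' := S.mapSurjective (f := q) (QuotientGroup.mk'_surjective M)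
    have hUS : U ≤ (S' : Subgroup (G ⧸ M)) := CfsgLib.Solv.pCore_le_sylow S'
    refine le_antisymm ?_ hUS
    have h1 := U.relIndex_dvd_index_of_normal (S' : Subgroup (G ⧸ M))
    obtain ⟨j, hj⟩ := IsPGroup.iff_card.1 S'.2
    have h2 := U.relIndex_dvd_card (S' : Subgroup (G ⧸ M))
    have : U.relIndex (S' : Subgroup (G ⧸ M)) = 1 :=
      Nat.eq_one_of_dvd_coprimes ((Nat.prime_two.coprime_iff_not_dvd.2 hidx).symm.pow_right j) h1 (hj ▸ h2)
    exact Subgroup.relIndex_eq_one.1 this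
  let f : ↥(S : Subgroup G) →* U :=
    (q.comp (S : Subgroup G).subtype).codRestrict U fun x => hSU.le ⟨x, x.2, rfl⟩
  have hf : Function.Bijective f := by
    refine ⟨?_, fun u => ?_⟩
    · rw [← MonoidHom.ker_eq_bot_iff, eq_bot_iff]
      intro x hx
      exact Subgroup.mem_bot.2 (hinjS x ((QuotientGroup.eq_one_iff _).1 (congrArg Subtype.val hx)))
    · obtain ⟨x, hx, e⟩ := hSU.ge u.2
      exact ⟨⟨x, hx⟩, Subtype.ext e⟩
  let e : ↥(S : Subgroup G) ≃* U := MulEquiv.ofBijective f hf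
  let ρ : G ⧸ M →* MulAut ↥(S : Subgroup G) :=
    (MulAut.congr e.symm).toMonoidHom.comp MulAut.conjNormal
  have htr : ∀ x y : ↥(S : Subgroup G), x ≠ 1 → x ^ 2 = 1 → y ≠ 1 → y ^ 2 = 1 → ∃ a ∈ ρ.range, a x = y := by
    intro x y hx1 hx2 hy1 hy2
    obtain ⟨c, hc⟩ := isConj_iff.1 (hconj' (e x : U) (e y : U)
      (fun h => hx1 (e.injective (Subtype.ext (h.trans (by simp)))))
      (by rw [← Subgroup.coe_pow, ← map_pow, hx2, map_one, Subgroup.coe_one])
      (fun h => hy1 (e.injective (Subtype.ext (h.trans (by simp)))))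
      (by rw [← Subgroup.coe_pow, ← map_pow, hy2, map_one, Subgroup.coe_one]))
    refine ⟨ρ c, ⟨c, rfl⟩, e.injective ?_⟩
    show e (e.symm (MulAut.conjNormal c (e x))) = e y
    rw [MulEquiv.apply_symm_apply]
    exact Subtype.ext hc
  by_cases hab : IsMulCommutative (S : Subgroup G)
  · left
    haveI := hab
    open scoped IsMulCommutative in
    exact homocyclic (A := ↥(S : Subgroup G)) S.2 fun x y h1 h2 h3 h4 =>
      let ⟨a, _, ha⟩ := htr x y h1 h2 h3 h4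
      ⟨a, ha⟩
  · exact Or.inr ⟨hab, ρ.range, Group.isSolvable_of_surjective ρ.rangeRestrict_surjective, htr⟩

end Cfsg.Agent.S3797
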