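import Cfsg.Statements.S3799
import Cfsg.Agent.Solv.FittingBasic

set_option autoImplicit false
open Cfsg

namespace Cfsg.Agent.S3799


open Matrix

@[ext] structure Heis (n p : ℕ) where
  a : Fin n → ZMod p
  b : Fin n → ZMod p
  c : ZMod p

namespace Heis

variable {n p : ℕ}

instance : One (Heis n p) := ⟨⟨0, 0, 0⟩⟩
instance : Mul (Heis n p) := ⟨fun x y => ⟨x.a + y.a, x.b + y.b, x.c + y.c + x.a ⬝ᵥ y.b⟩⟩
instance : Inv (Heis n p) := ⟨fun x => ⟨-x.a, -x.b, -x.c + x.a ⬝ᵥ x.b⟩⟩

@[simp] theorem one_a : (1 : Heis n p).a = 0 := rfl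
@[simp] theorem one_b : (1 : Heis n p).b = 0 := rfl
@[simp] theorem one_c : (1 : Heis n p).c = 0 := rfl
@[simp] theorem mul_a (x y : Heis n p) : (x * y).a = x.a + y.a := rfl
@[simp] theorem mul_b (x y : Heis n p) : (x * y).b = x.b + y.b := rfl
@[simp] theorem mul_c (x y : Heis n p) : (x * y).c = x.c + y.c + x.a ⬝ᵥ y.b := rfl
@[simp] theorem inv_a (x : Heis n p) : x⁻¹.a = -x.a := rfl
@[simp] theorem inv_b (x : Heis n p) : x⁻¹.b = -x.b := rfl
@[simp] theorem inv_c (x : Heis n p) : x⁻¹.c = -x.c + x.a ⬝ᵥ x.b := rfl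

instance : Group (Heis n p) where
  mul_assoc x y z := by
    ext <;> simp [add_dotProduct, dotProduct_add] <;> ring
  one_mul x := by ext <;> simp
  mul_one x := by ext <;> simp
  inv_mul_cancel x := by ext <;> simp

def equivTriple : Heis n p ≃ (Fin n → ZMod p) × (Fin n → ZMod p) × ZMod p where
  toFun x := (x.a, x.b, x.c)
  invFun t := ⟨t.1, t.2.1, t.2.2⟩

theorem pow_eq (x : Heis n p) (k : ℕ) :
    x ^ k = ⟨k • x.a, k • x.b, k • x.c + (k.choose 2) • (x.a ⬝ᵥ x.b)⟩ := by
  induction k with
  | zero => ext <;> simp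
  | succ k ih =>
    rw [pow_succ, ih]
    ext <;> simp [add_smul, Nat.choose_succ_succ, smul_dotProduct, -nsmul_eq_mul] <;> abel

def top (i : Fin n → ZMod p) (c : ZMod p) : Fin (n + 2) → ZMod p := Fin.cons 0 (Fin.snoc i c)

theorem top_dot (a b : Fin n → ZMod p) (c : ZMod p) : top a c ⬝ᵥ top b 0 = a ⬝ᵥ b := by
  simp [top, dotProduct, Fin.sum_univ_succ (n := n + 1), Fin.sum_univ_castSucc (n := n)]

def e0 : Fin (n + 2) → ZMod p := Pi.single 0 1
def eL : Fin (n + 2) → ZMod p := Pi.single (Fin.last (n + 1)) 1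

def off (x : Heis n p) : Matrix (Fin (n + 2)) (Fin (n + 2)) (ZMod p) :=
  vecMulVec e0 (top x.a x.c) + vecMulVec (top x.b 0) eL

theorem top_add (a a' : Fin n → ZMod p) (c c' : ZMod p) :
    top (a + a') (c + c') = top a c + top a' c' := by
  funext i
  induction i using Fin.cases with
  | zero => simp [top]
  | succ i => induction i using Fin.lastCases <;> simp [top]

theorem off_mul_off (x y : Heis n p) :
    off x * off y = vecMulVec e0 ((x.a ⬝ᵥ y.b) • eL) := by
  have h1 : top x.a x.c ⬝ᵥ (e0 : Fin (n + 2) → ZMod p) = 0 := by simp [e0, top]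
  have h2 : (eL : Fin (n + 2) → ZMod p) ⬝ᵥ e0 = 0 := by
    simp [e0, eL]
  have h3 : (eL : Fin (n + 2) → ZMod p) ⬝ᵥ top y.b 0 = 0 := by
    simp [eL, top, ← Fin.succ_last]
  simp [off, add_mul, mul_add, vecMulVec_mul_vecMulVec, h1, h2, h3, top_dot]

theorem off_mul (x y : Heis n p) : off (x * y) = off x + off y + off x * off y := by
  rw [off_mul_off]
  have hc : top (0 : Fin n → ZMod p) (x.a ⬝ᵥ y.b) = (x.a ⬝ᵥ y.b) • eL := by
    funext i
    induction i using Fin.cases with
    | zero => simp [top, eL]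
    | succ i => induction i using Fin.lastCases <;> simp [top, eL, ← Fin.succ_last]
  have hb : top (x.b + y.b) (0 : ZMod p) = top x.b 0 + top y.b 0 := by
    simpa using top_add x.b y.b 0 0
  have ha : top (x.a + y.a) (x.c + y.c + x.a ⬝ᵥ y.b) =
      top x.a x.c + top y.a y.c + top 0 (x.a ⬝ᵥ y.b) := by
    rw [← top_add, ← top_add, add_zero]
  simp only [off, mul_a, mul_b, mul_c, ha, hb, ← hc, vecMulVec_add, add_vecMulVec]
  abel

def toMat : Heis n p →* Matrix (Fin (n + 2)) (Fin (n + 2)) (ZMod p) where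
  toFun x := 1 + off x
  map_one' := by
    have : top (0 : Fin n → ZMod p) (0 : ZMod p) = 0 := by
      funext i
      induction i using Fin.cases with
      | zero => simp [top]
      | succ i => induction i using Fin.lastCases <;> simp [top]
    simp [off, this]
  map_mul' x y := by
    rw [off_mul, mul_add, add_mul, add_mul, one_mul, one_mul, mul_one]
    abel

theorem toMat_injective : Function.Injective (toMat (n := n) (p := p)) := by
  intro x y h
  have h' : off x = off y := by simpa [toMat] using h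
  ext i
  · simpa [off, top, e0, eL, vecMulVec_apply, ← Fin.succ_last] using congrFun₂ h' 0 i.castSucc.succ
  · simpa [off, top, e0, eL, vecMulVec_apply, ← Fin.succ_last, Fin.succ_ne_zero] using
      congrFun₂ h' i.castSucc.succ (Fin.last (n + 1))
  · simpa [off, top, e0, eL, vecMulVec_apply, ← Fin.succ_last] using congrFun₂ h' 0 (Fin.last (n + 1))

theorem comm_eq (x y : Heis n p) :
    x * y * x⁻¹ * y⁻¹ = ⟨0, 0, x.a ⬝ᵥ y.b - y.a ⬝ᵥ x.b⟩ := by
  ext <;> simp [add_dotProduct, dotProduct_add] <;> ring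

theorem mem_center_iff (x : Heis n p) : x ∈ Subgroup.center (Heis n p) ↔ x.a = 0 ∧ x.b = 0 := by
  rw [Subgroup.mem_center_iff]
  constructor
  · intro h
    constructor <;> funext i
    · have := congrArg Heis.c (h ⟨0, Pi.single i 1, 0⟩)
      simp at this
      exact this.symm ▸ rfl
    · have := congrArg Heis.c (h ⟨Pi.single i 1, 0, 0⟩)
      simp at this
      exact this.symm ▸ rfl
  · rintro ⟨ha, hb⟩ g
    ext <;> simp [ha, hb] <;> ring

end Heis


/-- For every odd prime p and every n ≥ 1 there is an extraspecial p-group of order p^(1+2n) and exponent p; concretely, the general linear group of degree n + 2 over the field with p elements contains such a subgroup. -/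
theorem result (p : ℕ) [Fact p.Prime] (hp : p ≠ 2) (n : ℕ) (hn : 1 ≤ n) : ∃ E : Subgroup (Matrix.GeneralLinearGroup (Fin (n + 2)) (ZMod p)), Cfsg.IsExtraspecial p ↥E ∧ Nat.card E = p ^ (1 + 2 * n) ∧ ∀ x ∈ E, x ^ p = 1 := by
  classical
  have hp' : p.Prime := Fact.out
  set f : Heis n p →* Matrix.GeneralLinearGroup (Fin (n + 2)) (ZMod p) :=
    (Heis.toMat (n := n) (p := p)).toHomUnits with hf
  have hinj : Function.Injective f := fun x y h => by
    apply Heis.toMat_injective
    simpa [hf, MonoidHom.coe_toHomUnits] using congrArg Units.val h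
  let e := f.ofInjective hinj
  haveI : Finite (Heis n p) := Finite.of_equiv _ Heis.equivTriple.symm
  have hcardT : Nat.card (Heis n p) = p ^ (1 + 2 * n) := by
    rw [Nat.card_congr Heis.equivTriple]
    simp [Nat.card_prod, Nat.card_fun, Nat.card_zmod]
    ring
  have hexp : ∀ x : Heis n p, x ^ p = 1 := fun x => by
    rw [Heis.pow_eq]
    have h2 : ((p.choose 2 : ℕ) : ZMod p) = 0 := by
      rw [ZMod.natCast_eq_zero_iff]
      exact hp'.dvd_choose_self (by norm_num) (lt_of_le_of_ne hp'.two_le (Ne.symm hp))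
    ext <;> simp [h2]
  have hcardE : Nat.card f.range = p ^ (1 + 2 * n) := by rw [← hcardT, Nat.card_congr e.toEquiv]
  have hexpE : ∀ x ∈ f.range, x ^ p = 1 := by
    rintro _ ⟨x, rfl⟩
    rw [← map_pow, hexp, map_one]
  have hP : IsPGroup p f.range := IsPGroup.of_card hcardE
  have hcenter : (Subgroup.center (Heis n p)).map (e : Heis n p →* f.range) =
      Subgroup.center f.range := by
    ext y
    obtain ⟨x, rfl⟩ := e.surjective y
    simp only [Subgroup.mem_center_iff]
    constructor
    · rintro ⟨x', hx', hxx⟩ z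
      obtain ⟨w, rfl⟩ := e.surjective z
      have := Subgroup.mem_center_iff.1 hx' w
      simp only [MonoidHom.coe_coe] at hxx
      rw [← hxx, ← map_mul, ← map_mul, this]
    · intro h
      refine ⟨x, Subgroup.mem_center_iff.2 fun w => e.injective ?_, rfl⟩
      rw [map_mul, map_mul, h]
  have hZ : Subgroup.center (Heis n p) = commutator (Heis n p) := by
    apply le_antisymm
    · intro x hx
      obtain ⟨ha, hb⟩ := (Heis.mem_center_iff x).1 hx
      rw [commutator_def]
      convert Subgroup.commutator_mem_commutator (Subgroup.mem_top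
        (⟨Pi.single ⟨0, hn⟩ x.c, 0, 0⟩ : Heis n p))
        (Subgroup.mem_top (⟨0, Pi.single ⟨0, hn⟩ 1, 0⟩ : Heis n p)) using 1
      rw [commutatorElement_def, Heis.comm_eq]
      ext <;> simp [ha, hb]
    · rw [commutator_def, Subgroup.commutator_le]
      intro x _ y _
      rw [commutatorElement_def, Heis.comm_eq, Heis.mem_center_iff]
      exact ⟨rfl, rfl⟩
  have hcomm : commutator f.range = Subgroup.center f.range := by
    rw [← hcenter, hZ, commutator_def, commutator_def, Subgroup.map_commutator]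
    simp [Subgroup.map_top_of_surjective _ e.surjective]
  refine ⟨f.range, ⟨⟨hP, le_antisymm ?_ ?_, hcomm⟩, ?_⟩, hcardE, hexpE⟩
  · refine CfsgLib.Solv.frattini_le_of_elementary (p := p) _ hcomm.le fun x => ?_
    rw [show x ^ p = 1 from Subtype.ext (hexpE x x.2)]
    exact one_mem _
  · exact hcomm ▸ CfsgLib.Solv.commutator_le_frattini hP
  · rw [← hcenter, Subgroup.card_map_of_injective (f := (e : Heis n p →* f.range)) e.injective]
    let eq : Subgroup.center (Heis n p) ≃ ZMod p :=
      { toFun := fun x => x.1.c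
        invFun := fun c => ⟨⟨0, 0, c⟩, (Heis.mem_center_iff _).2 ⟨rfl, rfl⟩⟩
        left_inv := fun x => by
          obtain ⟨ha, hb⟩ := (Heis.mem_center_iff _).1 x.2
          ext : 1
          ext <;> simp [ha, hb]
        right_inv := fun c => rfl }
    rw [Nat.card_congr eq, Nat.card_zmod]

end Cfsg.Agent.S3799
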