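-- Statement S3800
import Cfsg.Statements.S3800
import Cfsg.Agent.Solv.ThompsonPre

set_option autoImplicit false
open Cfsg
open scoped commutatorElement Pointwise
set_option linter.style.haveILetI false
set_option linter.deprecated false

namespace Cfsg.Agent.S3800

/-- Let G be a finite group, N a normal subgroup of G whose order is prime to p, and P a p-subgroup of G. Then in G/N the normalizer of the image of P is the image of N_G(P), and the centralizer of the image of P is the image of C_G(P). -/
theorem result {G : Type*} [Group G] [Finite G] {p : ℕ} [Fact p.Prime] (N : Subgroup G) [N.Normal] (hN : (Nat.card N).Coprime p) (P : Subgroup G) (hP : IsPGroup p P) : Subgroup.normalizer ((P.map (QuotientGroup.mk' N)) : Set (G ⧸ N)) = (Subgroup.normalizer (P : Set G)).map (QuotientGroup.mk' N) ∧ Subgroup.centralizer ((P.map (QuotientGroup.mk' N)) : Set (G ⧸ N)) = (Subgroup.centralizer (P : Set G)).map (QuotientGroup.mk' N) := by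
    obtain ⟨k, hk⟩ := hP.exists_card_eq
    have hcop : (Nat.card P).Coprime (Nat.card N) := by rw [hk]; exact (hN.symm.pow_left k)
    have hs : Group.IsSolvable P := by haveI := hP.isNilpotent; infer_instance
    refine ⟨le_antisymm (CfsgLib.Solv.normalizer_map_mk'_le hcop hs) (Subgroup.le_normalizer_map _),
      le_antisymm (CfsgLib.Solv.centralizer_map_mk'_le hcop hs) ?_⟩
    rintro _ ⟨g, hg, rfl⟩
    refine Subgroup.mem_centralizer_iff.2 ?_
    rintro _ ⟨x, hx, rfl⟩
    rw [← map_mul, ← map_mul, Subgroup.mem_centralizer_iff.1 hg x hx]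

end Cfsg.Agent.S3800
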