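import Cfsg.Statements.S3804


set_option autoImplicit false
open Cfsg

namespace Cfsg.Agent.S3804

theorem card_mul_le {X : Type*} [Group X] [Finite X] (A B J : Subgroup X) (hA : A ≤ J) (hB : B ≤ J) :
    Nat.card A * Nat.card B ≤ Nat.card J * Nat.card ↥(A ⊓ B) ∧
      (Nat.card A * Nat.card B = Nat.card J * Nat.card ↥(A ⊓ B) → ∀ j ∈ J, ∃ a ∈ A, ∃ b ∈ B, j = a * b) := by
  classical
  let r : X → X := fun j => if h : ∃ a ∈ A, a⁻¹ * j ∈ B then h.choose else 1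
  have hr : ∀ a ∈ A, ∀ b ∈ B, r (a * b) ∈ A ∧ (r (a * b))⁻¹ * (a * b) ∈ B := by
    intro a ha b hb
    have h : ∃ a' ∈ A, a'⁻¹ * (a * b) ∈ B := ⟨a, ha, by simpa using hb⟩
    simp only [r, dif_pos h]
    exact h.choose_spec
  let F : ↥A × ↥B → ↥J × ↥(A ⊓ B) := fun z => (⟨(z.1 : X) * z.2, J.mul_mem (hA z.1.2) (hB z.2.2)⟩,
    ⟨(r ((z.1 : X) * z.2))⁻¹ * z.1, Subgroup.mem_inf.2 ⟨A.mul_mem (inv_mem (hr _ z.1.2 _ z.2.2).1) z.1.2, by
      have h := B.mul_mem (hr _ z.1.2 _ z.2.2).2 (inv_mem z.2.2)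
      simpa [mul_assoc] using h⟩⟩)
  have hF : Function.Injective F := by
    rintro ⟨a, b⟩ ⟨a', b'⟩ h
    have h1 : (a : X) * b = (a' : X) * b' := congrArg (fun t => (t.1 : X)) h
    have h2 : (r ((a : X) * b))⁻¹ * a = (r ((a' : X) * b'))⁻¹ * a' := congrArg (fun t => (t.2 : X)) h
    rw [h1, mul_right_inj] at h2
    rw [h2, mul_right_inj] at h1
    exact Prod.ext (Subtype.ext h2) (Subtype.ext h1)
  rw [← Nat.card_prod, ← Nat.card_prod]
  refine ⟨Nat.card_le_card_of_injective F hF, fun h j hj => ?_⟩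
  obtain ⟨z, hz⟩ := (hF.bijective_of_nat_card_le h.ge).2 (⟨j, hj⟩, 1)
  exact ⟨z.1, z.1.2, z.2, z.2.2, (congrArg (fun t => (t.1 : X)) hz).symm⟩


/-- Let G and H be subgroups of a finite group with G normalizing H, fix a real number α > 0, and for a subgroup A of G put m(A) = |A|^α · |C_H(A)|. Let A and B be nontrivial subgroups of G at which m attains its maximum over all nontrivial subgroups of G, and assume that A ∩ B ≠ 1 or that this maximum is at least |H|. Then AB = BA is a subgroup at which m is again maximal, C_H(A ∩ B) = C_H(A) C_H(B), and if A ∩ B ≠ 1 then m is maximal at A ∩ B as well. -/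
theorem result {X : Type*} [Group X] [Finite X] (G H : Subgroup X) (hGH : G ≤ Subgroup.normalizer (H : Set X)) (α : ℝ) (hα : 0 < α)
    (A B : Subgroup X) (hA : A ≤ G) (hB : B ≤ G) (hA1 : A ≠ ⊥) (hB1 : B ≠ ⊥)
    (hAmax : ∀ A' : Subgroup X, A' ≤ G → A' ≠ ⊥ → (fun A : Subgroup X => ((Nat.card A : ℝ) ^ α) * (Nat.card ↥(H ⊓ Subgroup.centralizer (A : Set X)) : ℝ)) A' ≤ (fun A : Subgroup X => ((Nat.card A : ℝ) ^ α) * (Nat.card ↥(H ⊓ Subgroup.centralizer (A : Set X)) : ℝ)) A)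
    (hBmax : ∀ A' : Subgroup X, A' ≤ G → A' ≠ ⊥ → (fun A : Subgroup X => ((Nat.card A : ℝ) ^ α) * (Nat.card ↥(H ⊓ Subgroup.centralizer (A : Set X)) : ℝ)) A' ≤ (fun A : Subgroup X => ((Nat.card A : ℝ) ^ α) * (Nat.card ↥(H ⊓ Subgroup.centralizer (A : Set X)) : ℝ)) B)
    (hcase : A ⊓ B ≠ ⊥ ∨ (Nat.card H : ℝ) ≤ (fun A : Subgroup X => ((Nat.card A : ℝ) ^ α) * (Nat.card ↥(H ⊓ Subgroup.centralizer (A : Set X)) : ℝ)) A) :
    (∀ a ∈ A, ∀ b ∈ B, ∃ b' ∈ B, ∃ a' ∈ A, a * b = b' * a') ∧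
    (∀ A' : Subgroup X, A' ≤ G → A' ≠ ⊥ → (fun A : Subgroup X => ((Nat.card A : ℝ) ^ α) * (Nat.card ↥(H ⊓ Subgroup.centralizer (A : Set X)) : ℝ)) A' ≤ (fun A : Subgroup X => ((Nat.card A : ℝ) ^ α) * (Nat.card ↥(H ⊓ Subgroup.centralizer (A : Set X)) : ℝ)) (A ⊔ B)) ∧
    (∀ h ∈ H ⊓ Subgroup.centralizer ((A ⊓ B : Subgroup X) : Set X), ∃ u ∈ H ⊓ Subgroup.centralizer (A : Set X), ∃ v ∈ H ⊓ Subgroup.centralizer (B : Set X), h = u * v) ∧
    (A ⊓ B ≠ ⊥ → ∀ A' : Subgroup X, A' ≤ G → A' ≠ ⊥ → (fun A : Subgroup X => ((Nat.card A : ℝ) ^ α) * (Nat.card ↥(H ⊓ Subgroup.centralizer (A : Set X)) : ℝ)) A' ≤ (fun A : Subgroup X => ((Nat.card A : ℝ) ^ α) * (Nat.card ↥(H ⊓ Subgroup.centralizer (A : Set X)) : ℝ)) (A ⊓ B)) := by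
  classical
  simp only at hAmax hBmax hcase ⊢
  set f : Subgroup X → ℝ := fun K => ((Nat.card K : ℝ) ^ α) * (Nat.card ↥(H ⊓ Subgroup.centralizer (K : Set X)) : ℝ) with hf
  set C : Subgroup X → Subgroup X := fun K => H ⊓ Subgroup.centralizer (K : Set X) with hC
  have hanti : ∀ K L : Subgroup X, K ≤ L → C L ≤ C K := fun K L h =>
    inf_le_inf_left H (Subgroup.centralizer_le h)
  have hCJ : C A ⊓ C B = C (A ⊔ B) := by
    refine le_antisymm (le_inf (inf_le_left.trans inf_le_left) fun x hx => ?_) (le_inf (hanti _ _ le_sup_left) (hanti _ _ le_sup_right))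
    have : A ⊔ B ≤ Subgroup.centralizer ({x} : Set X) := by
      refine sup_le (fun a ha => ?_) (fun b hb => ?_)
      · exact Subgroup.mem_centralizer_singleton_iff.2 (Subgroup.mem_centralizer_iff.1 hx.1.2 a ha)
      · exact Subgroup.mem_centralizer_singleton_iff.2 (Subgroup.mem_centralizer_iff.1 hx.2.2 b hb)
    exact Subgroup.mem_centralizer_iff.2 fun y hy => Subgroup.mem_centralizer_singleton_iff.1 (this hy)
  obtain ⟨hle1, heq1⟩ := card_mul_le A B (A ⊔ B) le_sup_left le_sup_right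
  obtain ⟨hle2, heq2⟩ := card_mul_le (C A) (C B) (C (A ⊓ B)) (hanti _ _ inf_le_left) (hanti _ _ inf_le_right)
  rw [hCJ] at hle2 heq2
  have hJ1 : A ⊔ B ≠ ⊥ := fun h => hA1 (le_bot_iff.1 (h ▸ le_sup_left))
  have hJ : f (A ⊔ B) ≤ f A := hAmax _ (sup_le hA hB) hJ1
  have hAB : f A = f B := le_antisymm (hBmax A hA hA1) (hAmax B hB hB1)
  have hD : f (A ⊓ B) ≤ f A := by
    by_cases hd : A ⊓ B = ⊥
    · rcases hcase with h | h
      · exact absurd hd h
      · refine le_trans ?_ h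
        have h1 : Nat.card ↥(A ⊓ B) = 1 := by rw [hd, Subgroup.card_bot]
        simp only [hf, h1, Nat.cast_one, Real.one_rpow, one_mul, Nat.cast_le]
        exact Subgroup.card_le_of_le inf_le_left
    · exact hAmax _ (inf_le_left.trans hA) hd
  have hpos : ∀ K : Subgroup X, 0 < (Nat.card K : ℝ) := fun K => Nat.cast_pos.2 Nat.card_pos
  have hfpos : ∀ K, 0 < f K := fun K => mul_pos (Real.rpow_pos_of_pos (hpos K) α) (hpos _)
  set a := (Nat.card A : ℝ) * Nat.card B with ha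
  set b := (Nat.card ↥(A ⊔ B) : ℝ) * Nat.card ↥(A ⊓ B) with hb
  set c := (Nat.card ↥(C A) : ℝ) * Nat.card ↥(C B) with hc
  set d := (Nat.card ↥(C (A ⊓ B)) : ℝ) * Nat.card ↥(C (A ⊔ B)) with hd
  have hab : a ≤ b := by rw [ha, hb]; exact_mod_cast hle1
  have hcd : c ≤ d := by rw [hc, hd]; exact_mod_cast hle2
  have e1 : f A * f B = a ^ α * c := by
    rw [ha, hc, Real.mul_rpow (hpos _).le (hpos _).le]; simp only [hf, hC]; ring
  have e2 : f (A ⊔ B) * f (A ⊓ B) = b ^ α * d := by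
    rw [hb, hd, Real.mul_rpow (hpos _).le (hpos _).le]; simp only [hf, hC]; ring
  have hle : b ^ α * d ≤ a ^ α * c := by
    rw [← e1, ← e2, ← hAB]
    exact mul_le_mul hJ hD (hfpos _).le (hfpos A).le
  have hapos : 0 < a := mul_pos (hpos _) (hpos _)
  have hcpos : 0 < c := mul_pos (hpos _) (hpos _)
  have h1 : a = b := by
    by_contra hne
    have := Real.rpow_lt_rpow hapos.le (lt_of_le_of_ne hab hne) hα
    have := mul_lt_mul_of_pos_right this hcpos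
    have := mul_le_mul_of_nonneg_left hcd (Real.rpow_nonneg (hapos.le.trans hab) α)
    linarith
  have h2 : c = d := by
    by_contra hne
    have := mul_lt_mul_of_pos_left (lt_of_le_of_ne hcd hne) (Real.rpow_pos_of_pos hapos α)
    rw [← h1] at hle
    linarith
  have hn1 : Nat.card A * Nat.card B = Nat.card ↥(A ⊔ B) * Nat.card ↥(A ⊓ B) := by
    rw [ha, hb] at h1; exact_mod_cast h1
  have hn2 : Nat.card ↥(C A) * Nat.card ↥(C B) = Nat.card ↥(C (A ⊓ B)) * Nat.card ↥(C (A ⊔ B)) := by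
    rw [hc, hd] at h2; exact_mod_cast h2
  have hprod : f A * f A = f (A ⊔ B) * f (A ⊓ B) := by rw [e2, ← h1, ← h2, ← e1, hAB]
  refine ⟨fun x hx y hy => ?_, fun A' hA' hA'1 => ?_, fun h hh => heq2 hn2 h hh, fun _ A' hA' hA'1 => ?_⟩
  · obtain ⟨u, hu, v, hv, huv⟩ := heq1 hn1 _ (inv_mem (Subgroup.mul_mem _ (Subgroup.mem_sup_left hx) (Subgroup.mem_sup_right hy)))
    exact ⟨v⁻¹, inv_mem hv, u⁻¹, inv_mem hu, by rw [← mul_inv_rev, ← huv, inv_inv]⟩
  · refine (hAmax A' hA' hA'1).trans ?_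
    show f A ≤ f (A ⊔ B)
    have := mul_le_mul_of_nonneg_left hD (hfpos (A ⊔ B)).le
    nlinarith [hfpos A]
  · refine (hAmax A' hA' hA'1).trans ?_
    show f A ≤ f (A ⊓ B)
    have := mul_le_mul_of_nonneg_right hJ (hfpos (A ⊓ B)).le
    nlinarith [hfpos A]

end Cfsg.Agent.S3804
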