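import Cfsg.Statements.S3808
import Cfsg.Agent.Solv.Basic

set_option autoImplicit false
open Cfsg

namespace Cfsg.Agent.S3808

/-- Let S be a finite p-group with an extraspecial subgroup Q of index p. Then either Z(S) = Z(Q), or S = Q·Z(S) and Z(S) has order p². -/
theorem result {S : Type*} [Group S] [Finite S] (p : ℕ) [Fact p.Prime] (hS : IsPGroup p S) (Q : Subgroup S) (hQ : Cfsg.IsExtraspecial p ↥Q) (hQi : Q.index = p) :
    Subgroup.center S = (Subgroup.center ↥Q).map Q.subtype ∨
      (Q ⊔ Subgroup.center S = ⊤ ∧ Nat.card (Subgroup.center S) = p ^ 2) := by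
  classical
  have hQc := hQ.2
  haveI : Nontrivial S := by
    by_contra h
    rw [not_nontrivial_iff_subsingleton] at h
    have : Nat.card (Subgroup.center ↥Q) = 1 := Nat.card_of_subsingleton 1
    rw [hQc] at this
    exact (Fact.out : p.Prime).ne_one this
  set Z := Subgroup.center S
  set ZQ := (Subgroup.center ↥Q).map Q.subtype with hZQ
  have hZQc : Nat.card ZQ = p := by rw [hZQ, Subgroup.card_map_of_injective Q.subtype_injective, hQc]
  by_cases hle : Z ≤ Q
  · left
    have h1 : Z ≤ ZQ := fun z hz => ⟨⟨z, hle hz⟩, Subgroup.mem_center_iff.2 fun q =>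
      Subtype.ext (Subgroup.mem_center_iff.1 hz q), rfl⟩
    haveI := hS.center_nontrivial
    refine Subgroup.eq_of_le_of_card_ge h1 ?_
    rw [hZQc]
    have h2 : Nat.card Z ∣ p := hZQc ▸ Subgroup.card_dvd_of_le h1
    rcases (Nat.dvd_prime Fact.out).1 h2 with h | h
    · exact absurd h (Finite.one_lt_card (α := Z)).ne'
    · exact h.ge
  · right
    have htop : Q ⊔ Z = ⊤ := by
      have h1 : Q < Q ⊔ Z := left_lt_sup.2 hle
      have h2 := Subgroup.relIndex_mul_index h1.le
      rw [hQi] at h2
      rcases (Nat.dvd_prime Fact.out).1 ⟨_, ((mul_comm _ _).trans h2).symm⟩ with h | h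
      · exact Subgroup.index_eq_one.1 h
      · rw [h] at h2
        have h3 : Q.relIndex (Q ⊔ Z) = 1 := (Nat.mul_eq_right (Fact.out : p.Prime).ne_zero).1 h2
        exact absurd (Subgroup.relIndex_eq_one.1 h3) (not_le_of_gt h1)
    refine ⟨htop, ?_⟩
    have hinf : Q ⊓ Z = ZQ := by
      ext z
      constructor
      · rintro ⟨h1, h2⟩
        exact ⟨⟨z, h1⟩, Subgroup.mem_center_iff.2 fun q => Subtype.ext (Subgroup.mem_center_iff.1 h2 q), rfl⟩
      · rintro ⟨z, hz, rfl⟩
        refine ⟨z.2, Subgroup.mem_center_iff.2 fun g => ?_⟩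
        have hle' : (⊤ : Subgroup S) ≤ Subgroup.centralizer ({(z : S)} : Set S) := by
          rw [← htop, sup_le_iff]
          exact ⟨fun q hq => Subgroup.mem_centralizer_singleton_iff.2 (congrArg Subtype.val (Subgroup.mem_center_iff.1 hz ⟨q, hq⟩)),
            fun c hc => Subgroup.mem_centralizer_singleton_iff.2 (Subgroup.mem_center_iff.1 hc (z : S)).symm⟩
        exact Subgroup.mem_centralizer_singleton_iff.1 (hle' (Subgroup.mem_top g))
    have h := CfsgLib.Solv.card_sup_mul_card_inf Q Z
    rw [htop, hinf, hZQc, Subgroup.card_top] at h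
    have h2 := Subgroup.card_mul_index Q
    rw [hQi] at h2
    rw [← h2, mul_assoc] at h
    rw [pow_two]
    exact (Nat.eq_of_mul_eq_mul_left Nat.card_pos h).symm

end Cfsg.Agent.S3808
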