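import Cfsg.Statements.S3809
import Cfsg.Agent.S0095

set_option autoImplicit false
open Cfsg

namespace Cfsg.Agent.S3809

theorem pow_mem_center {Q : Type*} [Group Q] [Finite Q] {p : ℕ} (hQ : Cfsg.IsExtraspecial p Q) (y : Q) :
    y ^ p ∈ Subgroup.center Q := by
  rw [Subgroup.mem_center_iff]
  intro g
  have hc : y * g * y⁻¹ * g⁻¹ ∈ Subgroup.center Q := by
    rw [← hQ.1.2.2]
    exact Subgroup.commutator_mem_commutator (Subgroup.mem_top y) (Subgroup.mem_top g)
  set c := y * g * y⁻¹ * g⁻¹ with hcdef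
  have hcp : c ^ p = 1 := by
    have h := pow_card_eq_one' (x := (⟨c, hc⟩ : Subgroup.center Q))
    rw [hQ.2] at h
    exact congrArg Subtype.val h
  have hk : ∀ k : ℕ, y ^ k * g * (y ^ k)⁻¹ = c ^ k * g := by
    intro k
    induction k with
    | zero => simp
    | succ k ih =>
      have e1 : y * g * y⁻¹ = c * g := by rw [hcdef]; group
      have e2 : y * c = c * y := Subgroup.mem_center_iff.1 hc y
      calc y ^ (k + 1) * g * (y ^ (k + 1))⁻¹ = y * (y ^ k * g * (y ^ k)⁻¹) * y⁻¹ := by rw [pow_succ']; group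
        _ = y * (c ^ k * g) * y⁻¹ := by rw [ih]
        _ = c ^ k * (y * g * y⁻¹) := by
          simp only [← mul_assoc, (Commute.pow_right (show Commute y c from e2) k).eq]
        _ = _ := by rw [e1, pow_succ, mul_assoc (c ^ k)]
  have h := hk p
  rw [hcp, one_mul, mul_inv_eq_iff_eq_mul] at h
  exact h.symm


/-- Let S be a finite p-group with an extraspecial subgroup of index p. Then S has order p^(2+2n) for some n ≥ 1, derived length at most 3, and exponent dividing p³. -/
theorem result {S : Type*} [Group S] [Finite S] (p : ℕ) [Fact p.Prime] (hS : IsPGroup p S) (Q : Subgroup S) (hQ : Cfsg.IsExtraspecial p ↥Q) (hQi : Q.index = p) :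
    (∃ n : ℕ, 1 ≤ n ∧ Nat.card S = p ^ (2 + 2 * n)) ∧ derivedSeries S 3 = ⊥ ∧ ∀ x : S, x ^ (p ^ 3) = 1 := by
  classical
  have hp : p.Prime := Fact.out
  have hQn : Q.Normal := Subgroup.normal_of_index_eq_minFac_card (by
    obtain ⟨k, hk⟩ := hS.exists_card_eq
    rw [hQi, hk]
    rcases Nat.eq_zero_or_pos k with rfl | hk0
    · have := Subgroup.index_dvd_card Q
      rw [hQi, hk, pow_zero] at this
      exact absurd this hp.not_dvd_one
    · rw [Nat.pow_minFac hk0.ne', hp.minFac_eq])
  haveI := hQn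
  refine ⟨?_, ?_, fun x => ?_⟩
  · obtain ⟨n, hn1, hn⟩ := Cfsg.Agent.S0095.result hQ
    refine ⟨n, hn1, ?_⟩
    rw [← Subgroup.card_mul_index Q, hn, hQi, ← pow_succ]
    congr 1; ring
  · haveI : IsCyclic (S ⧸ Q) := isCyclic_of_prime_card (show Nat.card (S ⧸ Q) = p from hQi)
    have h1 : derivedSeries S 1 ≤ Q := by
      rw [derivedSeries_one]
      exact Subgroup.Normal.quotient_commutative_iff_commutator_le.1 IsCyclic.commutative
    have h2 : derivedSeries S 2 ≤ (Subgroup.center ↥Q).map Q.subtype := by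
      rw [← hQ.1.2.2, map_commutator_eq, Subgroup.range_subtype, derivedSeries_succ]
      exact Subgroup.commutator_mono h1 h1
    rw [derivedSeries_succ, eq_bot_iff]
    refine (Subgroup.commutator_mono h2 h2).trans ?_
    rw [Subgroup.commutator_le]
    rintro _ ⟨a, ha, rfl⟩ _ ⟨b, hb, rfl⟩
    rw [Subgroup.mem_bot, commutatorElement_eq_one_iff_commute]
    exact congrArg Subtype.val (Subgroup.mem_center_iff.1 ha b).symm
  · have hxp : x ^ p ∈ Q := by
      have := Subgroup.pow_index_mem (H := Q) x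
      rwa [hQi] at this
    have h2 : (⟨x ^ p, hxp⟩ : Q) ^ p ∈ Subgroup.center ↥Q := pow_mem_center hQ _
    have h3 := pow_card_eq_one' (x := (⟨_, h2⟩ : Subgroup.center ↥Q))
    rw [hQ.2] at h3
    have h4 : (((⟨x ^ p, hxp⟩ : Q) ^ p) ^ p : Q) = 1 := congrArg Subtype.val h3
    have h5 : ((x ^ p) ^ p) ^ p = 1 := congrArg Subtype.val h4
    rw [← h5, ← pow_mul, ← pow_mul]
    congr 1; ring

end Cfsg.Agent.S3809
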