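import Cfsg.Statements.S3810
import Cfsg.Agent.S3807
import Cfsg.Agent.S0095
import Cfsg.Agent.Solv.NormalSquare

set_option autoImplicit false
open Cfsg

namespace Cfsg.Agent.S3810

/-- Let S be a finite p-group with an extraspecial subgroup of index p. Then S has an abelian subgroup of index p if and only if S has order p⁴. -/
theorem result {S : Type*} [Group S] [Finite S] (p : ℕ) [Fact p.Prime] (hS : IsPGroup p S) (Q : Subgroup S) (hQ : Cfsg.IsExtraspecial p ↥Q) (hQi : Q.index = p) :
    (∃ A : Subgroup S, IsMulCommutative ↥A ∧ A.index = p) ↔ Nat.card S = p ^ 4 := by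
  classical
  have hp : p.Prime := Fact.out
  obtain ⟨n, hn1, hn⟩ := Cfsg.Agent.S0095.result hQ
  have hS4 : Nat.card S = Nat.card Q * p := by rw [← hQi, Subgroup.card_mul_index]
  have hnorm : ∀ B : Subgroup S, B.index = p → B.Normal := fun B hB => by
    refine Subgroup.normal_of_index_eq_minFac_card ?_
    obtain ⟨k, hk⟩ := hS.exists_card_eq
    rw [hB, hk]
    rcases Nat.eq_zero_or_pos k with rfl | hk0
    · have := Subgroup.index_dvd_card B
      rw [hB, hk, pow_zero] at this
      exact absurd this hp.not_dvd_one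
    · rw [Nat.pow_minFac hk0.ne', hp.minFac_eq]
  have hQna : ¬ IsMulCommutative ↥Q := fun h => by
    have htop : Subgroup.center ↥Q = ⊤ :=
      (Subgroup.eq_top_iff' _).2 fun x => Subgroup.mem_center_iff.2 fun y => h.is_comm.comm y x
    have := hQ.2
    rw [htop, Subgroup.card_top, hn] at this
    exact absurd this (lt_self_pow₀ hp.one_lt (by omega)).ne'
  constructor
  · rintro ⟨A, hA, hAi⟩
    haveI := hnorm A hAi
    have hd : (A.subgroupOf Q).index ∣ p := by
      rw [← hAi]; exact Subgroup.relIndex_dvd_index_of_normal A Q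
    have hAQ : IsMulCommutative ↥(A.subgroupOf Q) := ⟨⟨fun a b => Subtype.ext (Subtype.ext
      (show (a.1.1 : S) * b.1.1 = b.1.1 * a.1.1 from congrArg Subtype.val (hA.is_comm.comm (⟨a.1.1, a.2⟩ : A) ⟨b.1.1, b.2⟩))) ⟩⟩
    rcases (Nat.dvd_prime hp).1 hd with h | h
    · exfalso
      apply hQna
      rw [Subgroup.index_eq_one, Subgroup.subgroupOf_eq_top] at h
      exact ⟨⟨fun a b => Subtype.ext (show (a.1 : S) * b.1 = b.1 * a.1 from congrArg Subtype.val (hA.is_comm.comm (⟨a.1, h a.2⟩ : A) ⟨b.1, h b.2⟩))⟩⟩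
    · have h1 := (Cfsg.Agent.S3807.result p (hS.to_subgroup Q) hQna _ hAQ h).1
      rw [show commutator ↥Q = Subgroup.center ↥Q from hQ.1.2.2, hQ.2] at h1
      have h2 := Subgroup.card_mul_index (Subgroup.center ↥Q)
      rw [hQ.2, h1] at h2
      rw [hS4, ← h2]; ring
  · intro hS4'
    rw [hS4] at hS4'
    have hQ3 : Nat.card Q = p ^ 3 := Nat.eq_of_mul_eq_mul_right hp.pos (hS4'.trans (by ring))
    haveI := hnorm Q hQi
    obtain ⟨E, hEn, hEQ, hE⟩ := CfsgLib.Solv.exists_normal_le_card hS (N := Q) (k := 2)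
      (hQ3 ▸ Nat.pow_le_pow_right hp.pos (by norm_num))
    haveI := hEn
    set C := Subgroup.centralizer (E : Set S) with hC
    have hCi : C.index = p := by
      rcases (Nat.dvd_prime hp).1 (CfsgLib.Solv.index_centralizer_normal_sq hS E hE) with h | h
      · exfalso
        rw [Subgroup.index_eq_one] at h
        have hle : E.subgroupOf Q ≤ Subgroup.center ↥Q := fun x hx => Subgroup.mem_center_iff.2 fun y =>
          Subtype.ext (Subgroup.mem_centralizer_iff.1 (show (y : S) ∈ C by rw [hC, h]; exact Subgroup.mem_top _) x hx).symm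
        have h1 := Subgroup.card_le_of_le hle
        rw [CfsgLib.Solv.card_subgroupOf hEQ, hE, hQ.2] at h1
        nlinarith [hp.two_le]
      · exact h
    refine ⟨C, ?_, hCi⟩
    have hEC : E ≤ C := fun x hx => Subgroup.mem_centralizer_iff.2 fun y hy =>
      congrArg Subtype.val ((CfsgLib.Solv.isMulCommutative_of_card_sq hE).is_comm.comm (⟨y, hy⟩ : E) ⟨x, hx⟩)
    have hCc : Nat.card C = p ^ 3 := by
      have h := Subgroup.card_mul_index C
      rw [hCi, hS4, hQ3] at h
      exact Nat.eq_of_mul_eq_mul_right hp.pos h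
    have hq : Nat.card (↥C ⧸ E.subgroupOf C) = p := by
      have h1 := Subgroup.card_mul_index (E.subgroupOf C)
      rw [CfsgLib.Solv.card_subgroupOf hEC, hE, hCc] at h1
      exact Nat.eq_of_mul_eq_mul_left (pow_pos hp.pos 2) (h1.trans (by ring))
    haveI : IsCyclic (↥C ⧸ E.subgroupOf C) := isCyclic_of_prime_card hq
    refine ⟨⟨commutative_of_cyclic_center_quotient (QuotientGroup.mk' (E.subgroupOf C)) ?_⟩⟩
    rw [QuotientGroup.ker_mk']
    exact fun x hx => Subgroup.mem_center_iff.2 fun y => Subtype.ext (Subgroup.mem_centralizer_iff.1 y.2 x hx).symm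

end Cfsg.Agent.S3810
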