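import Cfsg.Statements.S3815
import Cfsg.Agent.Solv.Basic

set_option autoImplicit false
open Cfsg

namespace Cfsg.Agent.S3815

/-- Let G be a finite group, p a prime and d ∈ G an element of order prime to p. If dg has order prime to p for every element g ∈ G of order prime to p, then d ∈ O_{p'}(G). -/
theorem result {G : Type*} [Group G] [Finite G] {p : ℕ} [Fact p.Prime]
    (d : G) (hd : (orderOf d).Coprime p)
    (h : ∀ g : G, (orderOf g).Coprime p → (orderOf (d * g)).Coprime p) :
    d ∈ Cfsg.pPrimeCore p G := by
  classical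
  have hp : p.Prime := Fact.out
  let D : Subgroup G :=
    { carrier := {x | (orderOf x).Coprime p ∧ ∀ g : G, (orderOf g).Coprime p → (orderOf (x * g)).Coprime p}
      one_mem' := ⟨by simp, fun g hg => by simpa using hg⟩
      mul_mem' := fun {x y} hx hy => ⟨hx.2 y hy.1, fun g hg => by rw [mul_assoc]; exact hx.2 _ (hy.2 g hg)⟩
      inv_mem' := fun {x} hx => by
        have hpow : ∀ n : ℕ, (orderOf (x ^ n)).Coprime p ∧ ∀ g : G, (orderOf g).Coprime p → (orderOf (x ^ n * g)).Coprime p := by
          intro n
          induction n with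
          | zero => exact ⟨by simp, fun g hg => by simpa using hg⟩
          | succ n ih =>
            refine ⟨by rw [pow_succ]; exact ih.2 x hx.1, fun g hg => ?_⟩
            rw [pow_succ, mul_assoc]
            exact ih.2 _ (hx.2 g hg)
        have : x⁻¹ = x ^ (orderOf x - 1) := by
          apply inv_eq_of_mul_eq_one_right
          rw [← pow_succ', Nat.sub_add_cancel (orderOf_pos x), pow_orderOf_eq_one]
        show (orderOf x⁻¹).Coprime p ∧ _
        rw [this]
        exact hpow _ }
  haveI : D.Normal := ⟨fun x hx c => by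
    have key : ∀ a : G, orderOf (c * a * c⁻¹) = orderOf a := fun a =>
      MulEquiv.orderOf_eq (MulAut.conj c) a
    refine ⟨by rw [key]; exact hx.1, fun g hg => ?_⟩
    have e : c * x * c⁻¹ * g = c * (x * (c⁻¹ * g * c)) * c⁻¹ := by group
    rw [e, key]
    refine hx.2 _ ?_
    have e2 : orderOf (c⁻¹ * g * c) = orderOf g := by
      have := MulEquiv.orderOf_eq (MulAut.conj c⁻¹) g
      simpa using this
    rwa [e2]⟩
  have hcard : (Nat.card D).Coprime p := by
    refine ((Nat.Prime.coprime_iff_not_dvd hp).2 fun hdvd => ?_).symm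
    obtain ⟨z, hz⟩ := exists_prime_orderOf_dvd_card' p hdvd
    have := z.2.1
    rw [Subgroup.orderOf_coe, hz] at this
    exact hp.ne_one ((Nat.coprime_self p).1 this)
  exact CfsgLib.Solv.le_pPrimeCore hcard (show d ∈ D from ⟨hd, h⟩)

end Cfsg.Agent.S3815
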