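import Cfsg.Statements.S3819
import Cfsg.Agent.Solv.TransvectionFF
import Cfsg.Agent.Solv.FittingBasic

set_option autoImplicit false
open Cfsg

namespace Cfsg.Agent.S3819

open scoped commutatorElement Pointwise

theorem core {X : Type*} [Group X] [Finite X] {q : ℕ} [hq : Fact q.Prime] (H P : Subgroup X)
    (hPH : P ≤ Subgroup.normalizer (H : Set X)) (hcop : (Nat.card P).Coprime (Nat.card H))
    (hPs : Group.IsSolvable P) (hsol : Group.IsSolvable (⁅H, P⁆ : Subgroup X))
    (hO : ∀ L : Subgroup X, L ≤ H → H ≤ Subgroup.normalizer (L : Set X) →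
      (Nat.card L).Coprime q → L = ⊥)
    {z : X} (hzH : z ∈ H) (hz : ∃ k, orderOf z = q ^ k) (D : Subgroup X) (hDH : D ≤ H)
    (hDq : (Nat.card D).Coprime q) (hDz : D ≤ Subgroup.centralizer ({z} : Set X))
    (hPD : P ≤ Subgroup.normalizer (D : Set X))
    (hCR : ∀ r ∈ H, r * z = z * r → r ∈ Subgroup.normalizer (D : Set X))
    (F : Subgroup X) (hFH : F ≤ H) (hFq : (Nat.card F).Coprime q)
    (hFn : H ⊓ Subgroup.centralizer (P : Set X) ≤ Subgroup.normalizer (F : Set X)) :
    ⁅D, P⁆ = ⊥ ∧ D ⊓ F = ⊥ := by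
  set K := ⁅H, P⁆ with hK
  have hKH : K ≤ H := CfsgLib.Solv.commutator_le_of_le_normalizer hPH
  have hHK : H ≤ Subgroup.normalizer (K : Set X) := CfsgLib.Solv.left_le_normalizer_commutator H P
  have hchar : ∀ S : Subgroup K, S.Characteristic →
      H ≤ Subgroup.normalizer ((S.map K.subtype : Subgroup X) : Set X) := by
    intro S hS
    haveI := hS
    refine CfsgLib.Solv.le_normalizer_iff_forall_conj_mem.2 fun h hh s hs => ?_
    obtain ⟨s', hs', rfl⟩ := Subgroup.mem_map.1 hs
    have hh' := hHK hh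
    let φ : MulAut K := K.normalizerMonoidHom ⟨h, hh'⟩
    exact Subgroup.mem_map.2 ⟨φ s', (Subgroup.characteristic_iff_map_eq.1 hS φ).le
      (Subgroup.mem_map_of_mem _ hs'), rfl⟩
  set R := (Cfsg.pCore q K).map K.subtype with hR
  have hRK : R ≤ K := Subgroup.map_subtype_le _
  have hRp : IsPGroup q R := (CfsgLib.Solv.pCore_isPGroup K q).map K.subtype
  have hHR : H ≤ Subgroup.normalizer (R : Set X) := hchar _ CfsgLib.Solv.pCore_characteristic
  have hOK : Cfsg.pPrimeCore q K = ⊥ := by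
    have h := hO ((Cfsg.pPrimeCore q K).map K.subtype) ((Subgroup.map_subtype_le _).trans hKH)
      (hchar _ CfsgLib.Solv.pPrimeCore_characteristic)
      (by rw [Subgroup.card_map_of_injective K.subtype_injective]; exact CfsgLib.Solv.pPrimeCore_coprime K q)
    rwa [Subgroup.map_eq_bot_iff_of_injective _ K.subtype_injective] at h
  haveI := hsol
  have hcent : K ⊓ Subgroup.centralizer (R : Set X) ≤ R := by
    intro x hx
    obtain ⟨hxK, hxC⟩ := Subgroup.mem_inf.1 hx
    refine Subgroup.mem_map.2 ⟨⟨x, hxK⟩, CfsgLib.Solv.centralizer_pCore_le hOK ?_, rfl⟩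
    exact Subgroup.mem_centralizer_iff.2 fun s hs =>
      Subtype.ext (Subgroup.mem_centralizer_iff.1 hxC _ (Subgroup.mem_map.2 ⟨s, hs, rfl⟩))
  have hRD : R ⊓ D = ⊥ := by
    obtain ⟨k, hk⟩ := hRp.exists_card_eq
    exact CfsgLib.Solv.inf_eq_bot_of_coprime_card (by rw [hk]; exact (hDq.pow_right k).symm)
  have hDR : D ≤ Subgroup.centralizer (R : Set X) := by
    obtain ⟨k, hk⟩ := hz
    refine CfsgLib.Solv.thompson_pq (P := Subgroup.zpowers z) (Q := D)
      (IsPGroup.of_card (n := k) (by rw [Nat.card_zpowers, hk])) hDq ?_ R hRp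
      (Subgroup.zpowers_le.2 (hHR hzH)) (hDH.trans hHR) ?_
    · exact Subgroup.zpowers_le.2 (Subgroup.mem_centralizer_iff.2 fun d hd =>
        Subgroup.mem_centralizer_singleton_iff.1 (hDz hd))
    · intro r hr
      obtain ⟨hrR, hrz⟩ := Subgroup.mem_inf.1 hr
      refine Subgroup.mem_centralizer_iff.2 fun d hd => ?_
      have hrn := hCR r (hKH (hRK hrR)) (Subgroup.mem_centralizer_iff.1 hrz z (Subgroup.mem_zpowers z)).symm
      have h1 : ⁅d, r⁆ ∈ R ⊓ D := Subgroup.mem_inf.2 ⟨by
        rw [commutatorElement_def]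
        exact mul_mem ((Subgroup.mem_normalizer_iff.1 (hHR (hDH hd)) r).1 hrR) (inv_mem hrR), by
        rw [show ⁅d, r⁆ = d * (r * d⁻¹ * r⁻¹) by simp [commutatorElement_def, mul_assoc]]
        exact mul_mem hd ((Subgroup.mem_normalizer_iff.1 hrn _).1 (inv_mem hd))⟩
      rw [hRD, Subgroup.mem_bot] at h1
      exact commutatorElement_eq_one_iff_mul_comm.1 h1
  have hDP : ⁅D, P⁆ = ⊥ := by
    refine le_bot_iff.1 (le_trans (le_inf ?_ (CfsgLib.Solv.commutator_le_of_le_normalizer hPD)) hRD.le)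
    exact le_trans (le_inf (Subgroup.commutator_mono hDH le_rfl)
      ((CfsgLib.Solv.commutator_le_of_le_normalizer hPD).trans hDR)) hcent
  have hDK : D ≤ Subgroup.centralizer (K : Set X) := by
    intro d hd
    refine Subgroup.mem_centralizer_iff.2 fun k hk => ?_
    have hkn : k ∈ Subgroup.normalizer (Subgroup.centralizer (R : Set X) : Set X) :=
      CfsgLib.Solv.FFP.normalizer_le_normalizer_cent R (hHR (hKH hk))
    have hr : ⁅d, k⁆ ∈ R := hcent (Subgroup.mem_inf.2 ⟨by
      rw [commutatorElement_def]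
      exact mul_mem ((Subgroup.mem_normalizer_iff.1 (hHK (hDH hd)) k).1 hk) (inv_mem hk), by
      rw [show ⁅d, k⁆ = d * (k * d⁻¹ * k⁻¹) by simp [commutatorElement_def, mul_assoc]]
      exact mul_mem (hDR hd) ((Subgroup.mem_normalizer_iff.1 hkn _).1 (inv_mem (hDR hd)))⟩)
    set r := ⁅d, k⁆ with hrdef
    have hdr : Commute d r := (Subgroup.mem_centralizer_iff.1 (hDR hd) r hr).symm
    have hdk : d * k * d⁻¹ = r * k := by rw [hrdef, commutatorElement_def]; group
    have hpow : ∀ n : ℕ, d ^ n * k * (d ^ n)⁻¹ = r ^ n * k := by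
      intro n
      induction n with
      | zero => simp
      | succ n ih =>
        calc d ^ (n + 1) * k * (d ^ (n + 1))⁻¹ = d * (d ^ n * k * (d ^ n)⁻¹) * d⁻¹ := by rw [pow_succ']; group
          _ = (d * r ^ n) * k * d⁻¹ := by rw [ih]; group
          _ = r ^ n * (d * k * d⁻¹) := by rw [(hdr.pow_right n).eq]; group
          _ = r ^ (n + 1) * k := by rw [hdk, pow_succ]; group
    have h1 := hpow (orderOf d)
    rw [pow_orderOf_eq_one, one_mul, inv_one, mul_one] at h1
    have h2 : r ^ orderOf d = 1 := right_eq_mul.1 h1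
    obtain ⟨m, hm⟩ := hRp ⟨r, hr⟩
    have h3 : r ^ q ^ m = 1 := by simpa using congrArg Subtype.val hm
    have h4 : (orderOf d).Coprime (q ^ m) :=
      (Nat.Coprime.coprime_dvd_left (Subgroup.orderOf_dvd_natCard D hd) hDq).pow_right m
    have h5 := pow_gcd_eq_one.2 ⟨h2, h3⟩
    rw [h4, pow_one] at h5
    calc k * d = r * k * d := by rw [h5, one_mul]
      _ = d * k * d⁻¹ * d := by rw [hdk]
      _ = d * k := by group
  refine ⟨hDP, le_bot_iff.1 ?_⟩
  set L := F ⊓ Subgroup.centralizer (K : Set X) with hL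
  have hKL : K ≤ Subgroup.normalizer (L : Set X) :=
    le_trans (Subgroup.le_centralizer_iff.1 (inf_le_right : L ≤ _)) (Subgroup.centralizer_le_normalizer _)
  have hCL : H ⊓ Subgroup.centralizer (P : Set X) ≤ Subgroup.normalizer (L : Set X) :=
    CfsgLib.Solv.le_normalizer_inf_of_le hFn (inf_le_left.trans (hHK.trans
      (CfsgLib.Solv.FFP.normalizer_le_normalizer_cent _)))
  have hHL : H ≤ Subgroup.normalizer (L : Set X) := by
    intro h hh
    obtain ⟨x, hx, c, hc, rfl⟩ := CfsgLib.Solv.commutator_sup_inf_centralizer hPH hcop (Or.inl hPs) h hh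
    exact mul_mem (hKL hx) (hCL hc)
  have hbot := hO L (inf_le_left.trans hFH) hHL
    (Nat.Coprime.coprime_dvd_left (Subgroup.card_dvd_of_le inf_le_left) hFq)
  rw [← hbot]
  exact le_inf inf_le_right (inf_le_left.trans hDK)

/-- Let G be a finite group with Sylow p-subgroup P and H = O_{p'}(G), and suppose G = PH and the commutator subgroup [H, P] is solvable. Let q be a prime and z an element of q-power order of C_H(P). Then (O_{q'}(C_H(z)) ∩ O_{q'}(C_H(P))) · [O_{q'}(C_H(z)), P] ≤ O_{q'}(H). -/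
theorem result {G : Type*} [Group G] [Finite G] {p : ℕ} [Fact p.Prime]
    (P : Sylow p G) (hPH : Cfsg.pPrimeCore p G ⊔ (P : Subgroup G) = ⊤)
    (hsol : Group.IsSolvable ↥⁅Cfsg.pPrimeCore p G, (P : Subgroup G)⁆)
    {q : ℕ} [Fact q.Prime] (z : G) (hzH : z ∈ Cfsg.pPrimeCore p G) (hzP : z ∈ Subgroup.centralizer ((P : Subgroup G) : Set G))
    (hz : ∃ k : ℕ, orderOf z = q ^ k) :
    ((Cfsg.pPrimeCore q ↥(Cfsg.pPrimeCore p G ⊓ Subgroup.centralizer ({z} : Set G))).map
        (Cfsg.pPrimeCore p G ⊓ Subgroup.centralizer ({z} : Set G)).subtype ⊓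
      (Cfsg.pPrimeCore q ↥(Cfsg.pPrimeCore p G ⊓ Subgroup.centralizer ((P : Subgroup G) : Set G))).map
        (Cfsg.pPrimeCore p G ⊓ Subgroup.centralizer ((P : Subgroup G) : Set G)).subtype) ⊔
    ⁅(Cfsg.pPrimeCore q ↥(Cfsg.pPrimeCore p G ⊓ Subgroup.centralizer ({z} : Set G))).map
        (Cfsg.pPrimeCore p G ⊓ Subgroup.centralizer ({z} : Set G)).subtype, (P : Subgroup G)⁆ ≤
    (Cfsg.pPrimeCore q ↥(Cfsg.pPrimeCore p G)).map (Cfsg.pPrimeCore p G).subtype := by
  classical
  set H := Cfsg.pPrimeCore p G with hH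
  haveI hHn : H.Normal := CfsgLib.Solv.pPrimeCore_normal G p
  haveI : (Cfsg.pPrimeCore q ↥H).Characteristic := CfsgLib.Solv.pPrimeCore_characteristic
  set N := (Cfsg.pPrimeCore q ↥H).map H.subtype with hN
  haveI hNn : N.Normal := CfsgLib.Solv.normal_map_subtype_of_characteristic _
  have hNH : N ≤ H := Subgroup.map_subtype_le _
  have hNq : (Nat.card N).Coprime q := by
    rw [hN, Subgroup.card_map_of_injective H.subtype_injective]
    exact CfsgLib.Solv.pPrimeCore_coprime ↥H q
  let π := QuotientGroup.mk' N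
  set Cz := H ⊓ Subgroup.centralizer ({z} : Set G) with hCz
  set CP := H ⊓ Subgroup.centralizer ((P : Subgroup G) : Set G) with hCP
  set D := (Cfsg.pPrimeCore q ↥Cz).map Cz.subtype with hD
  set F := (Cfsg.pPrimeCore q ↥CP).map CP.subtype with hF
  have hcore : ∀ S : Subgroup G, Subgroup.normalizer (S : Set G) ≤
      Subgroup.normalizer (((Cfsg.pPrimeCore q ↥S).map S.subtype : Subgroup G) : Set G) := by
    intro S
    refine CfsgLib.Solv.le_normalizer_iff_forall_conj_mem.2 fun h hh s hs => ?_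
    obtain ⟨s', hs', rfl⟩ := Subgroup.mem_map.1 hs
    exact Subgroup.mem_map.2 ⟨S.normalizerMonoidHom ⟨h, hh⟩ s',
      (Subgroup.characteristic_iff_map_eq.1 CfsgLib.Solv.pPrimeCore_characteristic
        (S.normalizerMonoidHom ⟨h, hh⟩)).le (Subgroup.mem_map_of_mem _ hs'), rfl⟩
  have hDH : D ≤ H := (Subgroup.map_subtype_le _).trans inf_le_left
  have hFH : F ≤ H := (Subgroup.map_subtype_le _).trans inf_le_left
  have hmapn : ∀ {A B : Subgroup G}, A ≤ Subgroup.normalizer (B : Set G) →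
      A.map π ≤ Subgroup.normalizer ((B.map π : Subgroup (G ⧸ N)) : Set (G ⧸ N)) := by
    intro A B h
    refine CfsgLib.Solv.le_normalizer_iff_forall_conj_mem.2 ?_
    rintro _ ⟨a, ha, rfl⟩ _ ⟨b, hb, rfl⟩
    exact ⟨a * b * a⁻¹, CfsgLib.Solv.le_normalizer_iff_forall_conj_mem.1 h a ha b hb, by simp⟩
  have hP : (P : Subgroup G) ≤ Subgroup.normalizer (H : Set G) := Subgroup.normalizer_eq_top (H := H) ▸ le_top
  have hPz : (P : Subgroup G) ≤ Subgroup.normalizer (Cz : Set G) := by
    refine CfsgLib.Solv.le_normalizer_inf_of_le hP ?_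
    refine le_trans (fun x hx => ?_) Subgroup.le_normalizer
    exact Subgroup.mem_centralizer_singleton_iff.2 (Subgroup.mem_centralizer_iff.1 hzP x hx)
  obtain ⟨k, hk⟩ := hz
  have hzk : (π z) ^ q ^ k = 1 := by rw [← map_pow, ← hk, pow_orderOf_eq_one, map_one]
  haveI := hsol
  have hcopP : (Nat.card (P : Subgroup G)).Coprime (Nat.card H) := by
    obtain ⟨n, hn⟩ := P.2.exists_card_eq
    rw [hn]
    exact ((CfsgLib.Solv.pPrimeCore_coprime G p).pow_right n).symm
  haveI : Group.IsNilpotent (P : Subgroup G) := P.2.isNilpotent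
  have key := core (H.map π) ((P : Subgroup G).map π) (hmapn hP)
    ((hcopP.coprime_dvd_left (Subgroup.card_map_dvd _ _)).coprime_dvd_right (Subgroup.card_map_dvd _ _))
    (Group.isSolvable_of_surjective (f := π.subgroupMap (P : Subgroup G)) (π.subgroupMap_surjective _))
    (by
      rw [← Subgroup.map_commutator]
      exact Group.isSolvable_of_surjective (f := π.subgroupMap ⁅H, (P : Subgroup G)⁆) (π.subgroupMap_surjective _))
    (fun L hL hLn hLq => ?_) (Subgroup.mem_map_of_mem π hzH)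
    (by
      obtain ⟨j, -, hj⟩ := (Nat.dvd_prime_pow (Fact.out : q.Prime)).1 (orderOf_dvd_of_pow_eq_one hzk)
      exact ⟨j, hj⟩)
    (D.map π) (Subgroup.map_mono hDH)
    (Nat.Coprime.coprime_dvd_left (Subgroup.card_map_dvd _ _) (by
      rw [hD, Subgroup.card_map_of_injective Cz.subtype_injective]
      exact CfsgLib.Solv.pPrimeCore_coprime ↥Cz q))
    (by
      rintro _ ⟨d, hd, rfl⟩
      rw [Subgroup.mem_centralizer_singleton_iff, ← map_mul, ← map_mul,
        Subgroup.mem_centralizer_singleton_iff.1 ((Subgroup.map_subtype_le _ hd).2)])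
    (hmapn (hPz.trans (hcore Cz))) ?_ (F.map π) (Subgroup.map_mono hFH)
    (Nat.Coprime.coprime_dvd_left (Subgroup.card_map_dvd _ _) (by
      rw [hF, Subgroup.card_map_of_injective CP.subtype_injective]
      exact CfsgLib.Solv.pPrimeCore_coprime ↥CP q)) ?_
  · obtain ⟨h1, h2⟩ := key
    refine sup_le (fun x hx => ?_) (Subgroup.commutator_le.2 fun d hd x hx => ?_)
    · obtain ⟨hx1, hx2⟩ := Subgroup.mem_inf.1 hx
      have : π x ∈ D.map π ⊓ F.map π :=
        Subgroup.mem_inf.2 ⟨Subgroup.mem_map_of_mem π hx1, Subgroup.mem_map_of_mem π hx2⟩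
      rw [h2, Subgroup.mem_bot] at this
      exact (QuotientGroup.eq_one_iff x).1 this
    · have : π ⁅d, x⁆ ∈ ⁅D.map π, (P : Subgroup G).map π⁆ := by
        rw [map_commutatorElement]
        exact Subgroup.commutator_mem_commutator (Subgroup.mem_map_of_mem π hd) (Subgroup.mem_map_of_mem π hx)
      rw [h1, Subgroup.mem_bot] at this
      exact (QuotientGroup.eq_one_iff _).1 this
  · -- the core of the quotient
    set L' := L.comap π ⊓ H with hL'
    have hL'n : H ≤ Subgroup.normalizer (L' : Set G) := by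
      refine CfsgLib.Solv.le_normalizer_inf_of_le (fun h hh => ?_) Subgroup.le_normalizer
      refine Subgroup.mem_normalizer_iff.2 fun n => ?_
      show π n ∈ L ↔ π (h * n * h⁻¹) ∈ L
      rw [map_mul, map_mul, map_inv]
      exact Subgroup.mem_normalizer_iff.1 (hLn (Subgroup.mem_map_of_mem π hh)) (π n)
    have hcard : Nat.card L' ∣ Nat.card L * Nat.card N := by
      let g := π.comp L'.subtype
      rw [← g.ker.card_mul_index, Subgroup.index_ker, mul_comm]
      refine mul_dvd_mul ?_ ?_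
      · exact Subgroup.card_dvd_of_le (by rintro _ ⟨x, rfl⟩; exact x.2.1)
      · exact Subgroup.card_dvd_of_injective
          (f := (L'.subtype.comp g.ker.subtype).codRestrict N fun x => (QuotientGroup.eq_one_iff _).1 x.2)
          (fun a b e => Subtype.ext (Subtype.ext (by have := congrArg Subtype.val e; exact this)))
    have hL'N : L' ≤ N := by
      haveI : (L'.subgroupOf H).Normal :=
        (Subgroup.normal_subgroupOf_iff_le_normalizer inf_le_right).2 hL'n
      have h : L'.subgroupOf H ≤ Cfsg.pPrimeCore q ↥H := CfsgLib.Solv.le_pPrimeCore (by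
        rw [Nat.card_congr (Subgroup.subgroupOfEquivOfLe (inf_le_right : L' ≤ H)).toEquiv]
        exact Nat.Coprime.coprime_dvd_left hcard (hLq.mul_left hNq))
      intro x hx
      exact Subgroup.mem_map.2 ⟨⟨x, hx.2⟩, h (Subgroup.mem_subgroupOf.2 hx), rfl⟩
    refine le_bot_iff.1 fun y hy => ?_
    obtain ⟨x, hx, rfl⟩ := hL hy
    exact (QuotientGroup.eq_one_iff x).2 (hL'N ⟨hy, hx⟩)
  · rintro _ ⟨r, hr, rfl⟩ hcomm
    rw [← map_mul, ← map_mul] at hcomm
    have hrN : ∀ w ∈ Subgroup.zpowers z, π (r * w * r⁻¹) = π w := by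
      intro w hw
      obtain ⟨i, rfl⟩ := Subgroup.mem_zpowers_iff.1 hw
      have h1 : Commute (π r) (π z) := by rw [commute_iff_eq, ← map_mul, ← map_mul]; exact hcomm
      rw [map_mul, map_mul, map_inv, map_zpow, (h1.zpow_right i).eq, mul_inv_cancel_right]
    set Z := Subgroup.zpowers z with hZ
    have hZc : (Nat.card Z).Coprime (Nat.card N) := by
      rw [hZ, Nat.card_zpowers, hk]; exact (hNq.pow_right k).symm
    have hZn : Z ≤ Subgroup.normalizer (N : Set G) := Subgroup.normalizer_eq_top (H := N) ▸ le_top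
    set Y := Z.map (MulAut.conj r).toMonoidHom with hY
    have hmem : ∀ a b : G, π a = π b → a ∈ Z ⊔ N → b ∈ Z ⊔ N := by
      intro a b e ha
      have h1 : a⁻¹ * b ∈ N := (QuotientGroup.eq_one_iff _).1 (by
        show π (a⁻¹ * b) = 1
        rw [map_mul, map_inv, e, inv_mul_cancel])
      rw [show b = a * (a⁻¹ * b) by group]
      exact mul_mem ha (Subgroup.mem_sup_right h1)
    have hXY : Z ⊔ N = Y ⊔ N := by
      refine le_antisymm (sup_le (fun w hw => ?_) le_sup_right) (sup_le ?_ le_sup_right)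
      · have h1 : r * w * r⁻¹ ∈ Y ⊔ N := Subgroup.mem_sup_left (Subgroup.mem_map.2 ⟨w, hw, rfl⟩)
        have h2 : (r * w * r⁻¹)⁻¹ * w ∈ N := (QuotientGroup.eq_one_iff _).1 (by
          show π ((r * w * r⁻¹)⁻¹ * w) = 1
          rw [map_mul, map_inv, hrN w hw, inv_mul_cancel])
        rw [show w = (r * w * r⁻¹) * ((r * w * r⁻¹)⁻¹ * w) by group]
        exact mul_mem h1 (Subgroup.mem_sup_right h2)
      · rintro _ ⟨w, hw, rfl⟩
        exact hmem w _ (hrN w hw).symm (Subgroup.mem_sup_left hw)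
    obtain ⟨g, hg, hgY⟩ := CfsgLib.Solv.conj_complement_in_sup' hZn
      (Subgroup.normalizer_eq_top (H := N) ▸ le_top) hXY hZc
      (by rw [hY, Subgroup.card_map_of_injective (MulAut.conj r).injective]; exact hZc)
      (Or.inr inferInstance)
    obtain ⟨n, hn, w, hw, rfl⟩ := CfsgLib.Solv.exists_mul_of_mem_sup hZn hg
    rw [CfsgLib.Solv.conj_smul_eq_map] at hgY
    set c := (n * w)⁻¹ * r with hc
    have hcZ : c * z * c⁻¹ ∈ Z := by
      have h1 : r * z * r⁻¹ ∈ Y := Subgroup.mem_map.2 ⟨z, Subgroup.mem_zpowers z, rfl⟩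
      rw [← hgY] at h1
      obtain ⟨u, hu, e⟩ := Subgroup.mem_map.1 h1
      have e' : (n * w) * u * (n * w)⁻¹ = r * z * r⁻¹ := e
      rw [show c * z * c⁻¹ = (n * w)⁻¹ * (r * z * r⁻¹) * (n * w) by rw [hc]; group, ← e']
      rwa [show (n * w)⁻¹ * ((n * w) * u * (n * w)⁻¹) * (n * w) = u by group]
    have hπn : π n = 1 := (QuotientGroup.eq_one_iff n).2 hn
    have hπ : π (c * z * c⁻¹) = π z := by
      have h1 : Commute (π w) (π z) := by
        obtain ⟨i, rfl⟩ := Subgroup.mem_zpowers_iff.1 hw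
        rw [map_zpow]; exact (Commute.refl _).zpow_left i
      have h2 : Commute (π c) (π z) := by
        rw [show π c = (π w)⁻¹ * π r by rw [hc, map_mul, map_inv, map_mul, hπn, one_mul]]
        exact h1.inv_left.mul_left (by rw [commute_iff_eq, ← map_mul, ← map_mul]; exact hcomm)
      rw [map_mul, map_mul, map_inv, h2.eq, mul_inv_cancel_right]
    have hfix : c * z * c⁻¹ = z := by
      have h1 : (c * z * c⁻¹)⁻¹ * z ∈ Z ⊓ N := Subgroup.mem_inf.2
        ⟨mul_mem (inv_mem hcZ) (Subgroup.mem_zpowers z), (QuotientGroup.eq_one_iff _).1 (by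
          show π ((c * z * c⁻¹)⁻¹ * z) = 1
          rw [map_mul, map_inv, hπ, inv_mul_cancel])⟩
      rw [CfsgLib.Solv.inf_eq_bot_of_coprime_card hZc, Subgroup.mem_bot, inv_mul_eq_one] at h1
      exact h1
    have hcC : c ∈ Cz := Subgroup.mem_inf.2 ⟨mul_mem (inv_mem (mul_mem (hNH hn)
        (Subgroup.zpowers_le.2 hzH hw))) hr, Subgroup.mem_centralizer_singleton_iff.2
        (mul_inv_eq_iff_eq_mul.1 hfix)⟩
    have hwC : w ∈ Cz := by
      obtain ⟨i, rfl⟩ := Subgroup.mem_zpowers_iff.1 hw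
      exact Subgroup.mem_inf.2 ⟨zpow_mem hzH i, Subgroup.mem_centralizer_singleton_iff.2
        ((Commute.refl z).zpow_left i).eq⟩
    have hπr : π r = π (w * c) := by
      rw [hc, map_mul, map_mul, map_inv, map_mul, hπn, one_mul, mul_inv_cancel_left]
    rw [hπr]
    exact (hmapn ((Subgroup.le_normalizer : Cz ≤ _).trans (hcore Cz)))
      (Subgroup.mem_map_of_mem π (mul_mem hwC hcC))
  · -- elements centralising `P` modulo `N` lift
    intro x hx
    obtain ⟨hxH, hxP⟩ := Subgroup.mem_inf.1 hx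
    obtain ⟨h, hh, rfl⟩ := Subgroup.mem_map.1 hxH
    have hdisj : (P : Subgroup G) ⊓ H = ⊥ := CfsgLib.Solv.inf_eq_bot_of_coprime_card hcopP
    obtain ⟨d, hd, hdC⟩ := CfsgLib.Solv.exists_centralizing_in_coset hP hdisj hNH
      (Subgroup.normalizer_eq_top (H := N) ▸ le_top)
      (hcopP.coprime_dvd_right (Subgroup.card_dvd_of_le hNH)) (Or.inl inferInstance) hh
      (fun a ha => (QuotientGroup.eq_one_iff _).1 (by
        show π (h⁻¹ * a * h * a⁻¹) = 1
        rw [map_mul, map_mul, map_mul, map_inv, map_inv]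
        rw [mul_assoc (π h)⁻¹, Subgroup.mem_centralizer_iff.1 hxP _ (Subgroup.mem_map_of_mem π ha)]
        group))
    have hπh : π h = π (h * d) := by
      rw [map_mul, show π d = 1 from (QuotientGroup.eq_one_iff d).2 hd, mul_one]
    rw [hπh]
    exact (hmapn ((Subgroup.le_normalizer : CP ≤ _).trans (hcore CP)))
      (Subgroup.mem_map_of_mem π (Subgroup.mem_inf.2 ⟨mul_mem hh (hNH hd), hdC⟩))

end Cfsg.Agent.S3819
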