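import Cfsg.Statements.S3820
import Cfsg.Agent.Solv.Basic

set_option autoImplicit false
open Cfsg

namespace Cfsg.Agent.S3820

/-- Call a subgroup H of G pronormal if H and gHg⁻¹ are conjugate inside ⟨H, gHg⁻¹⟩ for every g ∈ G. Let S ≤ H ≤ G be subgroups of a finite group with S pronormal in G (for instance S a Sylow subgroup). Then H is pronormal in G if and only if H and gHg⁻¹ are conjugate inside ⟨H, gHg⁻¹⟩ for every g ∈ N_G(S). In particular H is pronormal whenever N_G(S) ≤ H. -/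
theorem result {G : Type*} [Group G] [Finite G] (S H : Subgroup G) (hSH : S ≤ H)
    (hS : Cfsg.IsPronormal S) :
    Cfsg.IsPronormal H ↔
      ∀ g ∈ Subgroup.normalizer (S : Set G), ∃ w ∈ H ⊔ H.map (MulAut.conj g).toMonoidHom,
        H.map (MulAut.conj g).toMonoidHom = H.map (MulAut.conj w).toMonoidHom := by
  classical
  have hmm : ∀ (K : Subgroup G) (a b : G), (K.map (MulAut.conj a).toMonoidHom).map (MulAut.conj b).toMonoidHom = K.map (MulAut.conj (b * a)).toMonoidHom := by
    intro K a b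
    rw [Subgroup.map_map, map_mul]
    rfl
  refine ⟨fun hH g _ => hH g, fun h g => ?_⟩
  obtain ⟨w, hw, he⟩ := hS g
  have hn : w⁻¹ * g ∈ Subgroup.normalizer (S : Set G) := by
    have e : S.map (MulAut.conj (w⁻¹ * g)).toMonoidHom = S := by
      rw [← hmm, he, hmm, inv_mul_cancel, map_one]; exact Subgroup.map_id S
    refine Subgroup.mem_normalizer_iff.2 fun k => ?_
    constructor
    · intro hk; rw [← e]; exact ⟨k, hk, rfl⟩
    · intro hk; rw [← e] at hk
      obtain ⟨k', hk', e'⟩ := hk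
      exact (MulAut.conj _).injective e' ▸ hk'
  have hwJ : w ∈ H ⊔ H.map (MulAut.conj g).toMonoidHom := sup_le_sup hSH (Subgroup.map_mono hSH) hw
  obtain ⟨u, hu, hue⟩ := h _ hn
  have hle : H ⊔ H.map (MulAut.conj (w⁻¹ * g)).toMonoidHom ≤ H ⊔ H.map (MulAut.conj g).toMonoidHom := by
    refine sup_le le_sup_left ?_
    rintro _ ⟨k, hk, rfl⟩
    have e : (MulAut.conj (w⁻¹ * g)).toMonoidHom k = w⁻¹ * (g * k * g⁻¹) * w := by
      show w⁻¹ * g * k * (w⁻¹ * g)⁻¹ = _
      group
    rw [e]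
    exact mul_mem (mul_mem (inv_mem hwJ) (Subgroup.mem_sup_right ⟨k, hk, rfl⟩)) hwJ
  refine ⟨w * u, mul_mem hwJ (hle hu), ?_⟩
  rw [← hmm H u w, ← hue, hmm, mul_inv_cancel_left]

end Cfsg.Agent.S3820
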