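import Cfsg.Statements.S3821
import Cfsg.Agent.Solv.Basic

set_option autoImplicit false
open Cfsg

namespace Cfsg.Agent.S3821

/-- Let A be a normal subgroup of the finite group G and H a subgroup of A. Then H is pronormal in G (H and gHg⁻¹ conjugate inside ⟨H, gHg⁻¹⟩ for every g ∈ G) if and only if H is pronormal in A and G = A · N_G(H). -/
theorem result {G : Type*} [Group G] [Finite G] (A H : Subgroup G) [A.Normal] (hHA : H ≤ A) :
    Cfsg.IsPronormal H ↔ (Cfsg.IsPronormal (H.subgroupOf A) ∧ A ⊔ Subgroup.normalizer (H : Set G) = ⊤) := by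
  classical
  have hnorm : ∀ {g : G}, H.map (MulAut.conj g).toMonoidHom = H → g ∈ Subgroup.normalizer (H : Set G) := by
    intro g h
    refine Subgroup.mem_normalizer_iff.2 fun k => ?_
    constructor
    · intro hk; rw [← h]; exact ⟨k, hk, rfl⟩
    · intro hk; rw [← h] at hk
      obtain ⟨k', hk', e⟩ := hk
      exact (MulAut.conj g).injective e ▸ hk'
  have hnorm' : ∀ {g : G}, g ∈ Subgroup.normalizer (H : Set G) → H.map (MulAut.conj g).toMonoidHom = H := by
    intro g hg
    ext k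
    constructor
    · rintro ⟨k', hk', rfl⟩; exact (Subgroup.mem_normalizer_iff.1 hg k').1 hk'
    · intro hk
      exact ⟨g⁻¹ * k * g, (Subgroup.mem_normalizer_iff''.1 hg k).1 hk, show g * (g⁻¹ * k * g) * g⁻¹ = k by group⟩
  have hmm : ∀ a b : G, (H.map (MulAut.conj a).toMonoidHom).map (MulAut.conj b).toMonoidHom = H.map (MulAut.conj (b * a)).toMonoidHom := by
    intro a b
    rw [Subgroup.map_map, map_mul]
    rfl
  have hmap : ∀ a : A, ((H.subgroupOf A).map (MulAut.conj a).toMonoidHom).map A.subtype = H.map (MulAut.conj (a : G)).toMonoidHom := by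
    intro a
    rw [Subgroup.map_map]
    have e : A.subtype.comp (MulAut.conj a).toMonoidHom = (MulAut.conj (a : G)).toMonoidHom.comp A.subtype := by
      ext k; rfl
    rw [e, ← Subgroup.map_map, Subgroup.subgroupOf_map_subtype, inf_eq_left.2 hHA]
  have hjoin : ∀ a : A, (H.subgroupOf A ⊔ (H.subgroupOf A).map (MulAut.conj a).toMonoidHom).map A.subtype =
      H ⊔ H.map (MulAut.conj (a : G)).toMonoidHom := by
    intro a
    rw [Subgroup.map_sup, hmap, Subgroup.subgroupOf_map_subtype, inf_eq_left.2 hHA]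
  have hle : ∀ g : G, H ⊔ H.map (MulAut.conj g).toMonoidHom ≤ A := fun g => sup_le hHA (by
    rintro _ ⟨k, hk, rfl⟩
    exact Subgroup.Normal.conj_mem ‹A.Normal› k (hHA hk) g)
  constructor
  · intro hp
    refine ⟨fun a => ?_, eq_top_iff.2 fun g _ => ?_⟩
    · obtain ⟨x, hx, he⟩ := hp (a : G)
      rw [← hjoin] at hx
      obtain ⟨y, hy, rfl⟩ := hx
      refine ⟨y, hy, Subgroup.map_injective A.subtype_injective ?_⟩
      rw [hmap, hmap]; exact he
    · obtain ⟨x, hx, he⟩ := hp g
      rw [← mul_inv_cancel_left x g]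
      refine Subgroup.mul_mem_sup (hle g hx) (hnorm ?_)
      rw [← hmm g x⁻¹, he, hmm, inv_mul_cancel, map_one]
      exact Subgroup.map_id H
  · rintro ⟨hp, htop⟩ g
    obtain ⟨a, ha, n, hn, rfl⟩ := Subgroup.mem_sup_of_normal_left.1 (htop ▸ Subgroup.mem_top g : g ∈ A ⊔ Subgroup.normalizer (H : Set G))
    have e : H.map (MulAut.conj (a * n)).toMonoidHom = H.map (MulAut.conj a).toMonoidHom := by
      rw [← hmm, hnorm' hn]
    rw [e]
    obtain ⟨y, hy, he⟩ := hp ⟨a, ha⟩
    refine ⟨(y : G), ?_, ?_⟩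
    · rw [← hjoin ⟨a, ha⟩]; exact ⟨y, hy, rfl⟩
    · rw [← hmap ⟨a, ha⟩, ← hmap y, he]

end Cfsg.Agent.S3821
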