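-- Statement S3824
import Cfsg.Statements.S3824
import Cfsg.Agent.Perm.Kazarin

set_option autoImplicit false
open Cfsg
open scoped commutatorElement Pointwise
set_option linter.style.haveILetI false
set_option linter.deprecated false

namespace Cfsg.Agent.S3824

/-- Every finite group having an abelian subgroup whose index is a power of 2 is solvable. -/
theorem result {G : Type*} [Group G] [Finite G]
    (A : Subgroup G) (hA : IsMulCommutative A) (hidx : ∃ k : ℕ, A.index = 2 ^ k) : Group.IsSolvable G := by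
  obtain ⟨k, hk⟩ := hidx
  haveI := hA
  haveI : Fact (Nat.Prime 2) := ⟨Nat.prime_two⟩
  haveI hn := (CfsgLib.Perm.Kazarin.rad_spec (G := G)).1
  haveI hs := (CfsgLib.Perm.Kazarin.rad_spec (G := G)).2
  have hAr : A ≤ CfsgLib.Perm.Kazarin.rad G := by
    intro a ha
    have hle : A ≤ Subgroup.centralizer ({a} : Set G) := fun x hx =>
      Subgroup.mem_centralizer_singleton_iff.2
        (Subtype.ext_iff.1 (IsMulCommutative.is_comm.comm (⟨x, hx⟩ : A) ⟨a, ha⟩))
    obtain ⟨j, -, hj⟩ := (Nat.dvd_prime_pow Nat.prime_two).1 (hk ▸ Subgroup.index_dvd_of_le hle)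
    exact CfsgLib.Perm.Kazarin.mem_rad_aux Nat.prime_two _ G rfl a j hj
  obtain ⟨j, -, hj⟩ := (Nat.dvd_prime_pow Nat.prime_two).1 (hk ▸ Subgroup.index_dvd_of_le hAr)
  haveI : Group.IsNilpotent (G ⧸ CfsgLib.Perm.Kazarin.rad G) :=
    (IsPGroup.of_card (p := 2) (n := j) (by rw [← Subgroup.index_eq_card]; exact hj)).isNilpotent
  exact Group.isSolvable_of_ker_le_range (CfsgLib.Perm.Kazarin.rad G).subtype
    (QuotientGroup.mk' (CfsgLib.Perm.Kazarin.rad G)) (by rw [QuotientGroup.ker_mk', Subgroup.range_subtype])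

end Cfsg.Agent.S3824
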