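import Cfsg.Statements.S3825
import Cfsg.Agent.Solv.Basic

set_option autoImplicit false
open Cfsg
open scoped commutatorElement

namespace Cfsg.Agent.S3825

/-- Let U be a subgroup of a finite group H and w an involution of H normalizing U and commuting with exactly two elements of U, the identity and y. If V is a non-cyclic elementary abelian 2-subgroup of U containing y which is normal in U and invariant under w, then V is a Sylow 2-subgroup of U, V has order 4, and U/V is abelian. -/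
theorem result {H : Type*} [Group H] [Finite H] (U : Subgroup H) (w : H) (hw : orderOf w = 2)
    (hwU : w ∈ Subgroup.normalizer (U : Set H)) (y : H) (hy : y ≠ 1) (hyU : y ∈ U)
    (hfix : ∀ u ∈ U, w * u * w⁻¹ = u ↔ (u = 1 ∨ u = y))
    (V : Subgroup H) (hVU : V ≤ U) (hVn : (V.subgroupOf U).Normal) (hVw : ∀ v ∈ V, w * v * w⁻¹ ∈ V)
    (hVe : Cfsg.IsElementaryAbelian 2 V) (hVc : ¬ IsCyclic ↥V) (hyV : y ∈ V) :
    ¬ 2 ∣ V.relIndex U ∧ Nat.card ↥V = 4 ∧ ⁅U, U⁆ ≤ V := by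
  classical
  have hww : w * w = 1 := by rw [← pow_two, ← hw, pow_orderOf_eq_one]
  have hwi : w⁻¹ = w := inv_eq_of_mul_eq_one_right hww
  have hw2 : ∀ x, w * (w * x * w⁻¹) * w⁻¹ = x := fun x => by
    calc w * (w * x * w⁻¹) * w⁻¹ = (w * w) * x * (w * w)⁻¹ := by group
      _ = x := by rw [hww]; group
  have hVinv : ∀ v ∈ V, v⁻¹ = v := fun v hv => inv_eq_of_mul_eq_one_right (by rw [← pow_two]; exact hVe.2 v hv)
  have hVc' : ∀ a ∈ V, ∀ b ∈ V, a * b = b * a := fun a ha b hb => congrArg Subtype.val (hVe.1.is_comm.comm ⟨a, ha⟩ ⟨b, hb⟩)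
  -- the elements of `U` moved by `w` inside `V`
  let W := {u : U // (u : H)⁻¹ * (w * u * w⁻¹) ∈ V}
  have hW4 : Nat.card W ≤ 4 := by
    have himg : ∀ u : W, (u.1 : H)⁻¹ * (w * u.1 * w⁻¹) = 1 ∨ (u.1 : H)⁻¹ * (w * u.1 * w⁻¹) = y := by
      intro u
      refine (hfix _ (hVU u.2)).1 ?_
      have h := hVinv _ u.2
      calc w * ((u.1 : H)⁻¹ * (w * u.1 * w⁻¹)) * w⁻¹ = (w * u.1 * w⁻¹)⁻¹ * (w * (w * u.1 * w⁻¹) * w⁻¹) := by group
        _ = ((u.1 : H)⁻¹ * (w * u.1 * w⁻¹))⁻¹ := by rw [hw2]; group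
        _ = _ := h
    let S : Set H := {1, y}
    have hS : Nat.card S = 2 := by
      rw [Nat.card_coe_set_eq, Set.ncard_pair (Ne.symm hy)]
    let r : H → H := fun t => if h : ∃ u : W, (u.1 : H)⁻¹ * (w * u.1 * w⁻¹) = t then (h.choose.1 : H) else 1
    have hr : ∀ u : W, (u.1 : H) * (r ((u.1 : H)⁻¹ * (w * u.1 * w⁻¹)))⁻¹ ∈ S := by
      intro u
      set t := (u.1 : H)⁻¹ * (w * u.1 * w⁻¹) with ht
      have hex : ∃ u' : W, (u'.1 : H)⁻¹ * (w * u'.1 * w⁻¹) = t := ⟨u, rfl⟩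
      simp only [r, dif_pos hex]
      have hc := hex.choose_spec
      set u' := hex.choose
      refine (hfix _ (mul_mem u.1.2 (inv_mem u'.1.2))).1 ?_
      have e1 : w * (u.1 : H) * w⁻¹ = u.1 * t := by rw [ht]; group
      have e2 : w * (u'.1 : H) * w⁻¹ = u'.1 * t := by rw [← hc]; group
      calc w * ((u.1 : H) * (u'.1 : H)⁻¹) * w⁻¹ = (w * u.1 * w⁻¹) * (w * u'.1 * w⁻¹)⁻¹ := by group
        _ = _ := by rw [e1, e2]; group
    let F : W → ↥S × ↥S := fun u => (⟨_, himg u⟩, ⟨_, hr u⟩)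
    have hF : Function.Injective F := by
      intro u u' h
      have h1 : (u.1 : H)⁻¹ * (w * u.1 * w⁻¹) = (u'.1 : H)⁻¹ * (w * u'.1 * w⁻¹) := congrArg (fun z => (z.1 : H)) h
      have h2 : (u.1 : H) * (r ((u.1 : H)⁻¹ * (w * u.1 * w⁻¹)))⁻¹ = (u'.1 : H) * (r ((u'.1 : H)⁻¹ * (w * u'.1 * w⁻¹)))⁻¹ :=
        congrArg (fun z => (z.2 : H)) h
      rw [h1] at h2
      exact Subtype.ext (Subtype.ext (mul_right_cancel h2))
    haveI : Finite ↥S := Nat.finite_of_card_ne_zero (by omega)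
    refine (Nat.card_le_card_of_injective F hF).trans ?_
    rw [Nat.card_prod, hS]
  let ι : V → W := fun v => ⟨⟨v, hVU v.2⟩, mul_mem (inv_mem v.2) (hVw v v.2)⟩
  have hι : Function.Injective ι := fun a b h => Subtype.ext (congrArg (fun z : W => (z.1 : H)) h)
  have hV4 : Nat.card V = 4 := by
    have h1 : Nat.card V ≤ 4 := (Nat.card_le_card_of_injective ι hι).trans hW4
    have hp2 : IsPGroup 2 V := fun v => ⟨1, Subtype.ext (by rw [pow_one]; exact hVe.2 v v.2)⟩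
    obtain ⟨k, hk⟩ := hp2.exists_card_eq
    rw [hk] at h1 ⊢
    rcases (show k = 0 ∨ k = 1 ∨ 2 ≤ k by omega) with rfl | rfl | hk2
    · exact absurd (by haveI : Subsingleton V := (Nat.card_eq_one_iff_unique.1 (by simpa using hk)).1; infer_instance : IsCyclic V) hVc
    · exact absurd (isCyclic_of_prime_card (p := 2) (by simpa using hk)) hVc
    · exact le_antisymm h1 (Nat.pow_le_pow_right two_pos hk2)
  have hWV : ∀ u ∈ U, u⁻¹ * (w * u * w⁻¹) ∈ V → u ∈ V := by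
    intro u hu h
    obtain ⟨v, hv⟩ := (hι.bijective_of_nat_card_le (hW4.trans hV4.ge)).2 ⟨⟨u, hu⟩, h⟩
    rw [show u = (v : H) from (congrArg (fun z : W => (z.1 : H)) hv).symm]
    exact v.2
  have hwU' : ∀ u ∈ U, w * u * w⁻¹ ∈ U := fun u hu => (Subgroup.mem_normalizer_iff.1 hwU u).1 hu
  haveI := hVn
  let φ : ↥U →* ↥U :=
    { toFun := fun u => ⟨w * u * w⁻¹, hwU' u u.2⟩
      map_one' := Subtype.ext (show w * 1 * w⁻¹ = (1 : H) by group)
      map_mul' := fun a b => Subtype.ext (show w * ((a : H) * b) * w⁻¹ = (w * a * w⁻¹) * (w * b * w⁻¹) by group) }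
  let N := V.subgroupOf U
  let ψ : ↥U ⧸ N →* ↥U ⧸ N := QuotientGroup.map N N φ (fun v hv => hVw _ hv)
  have hinvol : Function.Involutive ψ := fun q => by
    obtain ⟨u, rfl⟩ := QuotientGroup.mk'_surjective N q
    exact congrArg (QuotientGroup.mk' N) (Subtype.ext (hw2 u))
  have hfpf : MonoidHom.FixedPointFree ψ := fun q hq => by
    obtain ⟨u, rfl⟩ := QuotientGroup.mk'_surjective N q
    have h : (φ u)⁻¹ * u ∈ N := QuotientGroup.eq.1 hq
    refine (QuotientGroup.eq_one_iff u).2 (hWV u u.2 ?_)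
    have h2 := inv_mem (show (w * u * w⁻¹ : H)⁻¹ * u ∈ V from h)
    rwa [mul_inv_rev, inv_inv] at h2
  refine ⟨?_, hV4, ?_⟩
  · intro h
    exact Nat.not_even_iff_odd.2 (hfpf.odd_card_of_involutive hinvol) (even_iff_two_dvd.2 h)
  · rw [Subgroup.commutator_le]
    intro a ha b hb
    have hab := hfpf.commute_all_of_involutive hinvol (QuotientGroup.mk' N ⟨a, ha⟩) (QuotientGroup.mk' N ⟨b, hb⟩)
    have h : ⁅(⟨a, ha⟩ : U), ⟨b, hb⟩⁆ ∈ N := by
      rw [← QuotientGroup.eq_one_iff]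
      show QuotientGroup.mk' N _ = 1
      rw [map_commutatorElement]
      exact commutatorElement_eq_one_iff_commute.2 hab
    exact h

end Cfsg.Agent.S3825
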