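import Cfsg.Statements.S3835
import Cfsg.Agent.S2762
import Mathlib
-- import your own Cfsg.Agent.* helpers here

set_option autoImplicit false
open Cfsg

namespace Cfsg.Agent.S3835

open Matrix
variable {p : ℕ} [Fact p.Prime]

local notation "F" => ZMod p

/-- lower unipotent element -/
def lo (c : ZMod p) : Matrix.SpecialLinearGroup (Fin 3) (ZMod p) :=
  ⟨!![1, 0, 0; c, 1, 0; 0, 0, 1], by simp [det_fin_three]⟩

/-- upper unipotent element -/
def up (a b c : ZMod p) : Matrix.SpecialLinearGroup (Fin 3) (ZMod p) :=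
  ⟨!![1, a, b; 0, 1, c; 0, 0, 1], by simp [det_fin_three]⟩

theorem coe_up (a b c : ZMod p) : (up a b c : Matrix (Fin 3) (Fin 3) (ZMod p)) = !![1, a, b; 0, 1, c; 0, 0, 1] := rfl

theorem coe_lo (c : ZMod p) : (lo c : Matrix (Fin 3) (Fin 3) (ZMod p)) = !![1, 0, 0; c, 1, 0; 0, 0, 1] := rfl

theorem mem_qd {M : Matrix.SpecialLinearGroup (Fin 3) (ZMod p)} :
    M ∈ Cfsg.qd p ↔ (M : Matrix (Fin 3) (Fin 3) (ZMod p)) 2 0 = 0 ∧
      (M : Matrix (Fin 3) (Fin 3) (ZMod p)) 2 1 = 0 ∧ (M : Matrix (Fin 3) (Fin 3) (ZMod p)) 2 2 = 1 :=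
  Cfsg.Agent.S2762.mem_qd M

theorem pow_prime_eq_one (hp : p ≠ 2) {M : Matrix.SpecialLinearGroup (Fin 3) (ZMod p)}
    (h : ((M : Matrix (Fin 3) (Fin 3) (ZMod p)) - 1) ^ 3 = 0) : M ^ p = 1 := by
  refine Subtype.ext ?_
  rw [Matrix.SpecialLinearGroup.coe_pow, Matrix.SpecialLinearGroup.coe_one]
  haveI : CharP (Matrix (Fin 3) (Fin 3) (ZMod p)) p := Matrix.charP p
  have h1 := add_pow_char_of_commute p (x := (1 : Matrix (Fin 3) (Fin 3) (ZMod p)))
    (y := (M : Matrix (Fin 3) (Fin 3) (ZMod p)) - 1) (Commute.one_left _)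
  rw [add_sub_cancel, one_pow] at h1
  have h3 : 3 ≤ p := by have := (Fact.out : p.Prime).two_le; omega
  rw [pow_eq_zero_of_le h3 h, add_zero] at h1
  exact h1

theorem up_pow (hp : p ≠ 2) (a b c : ZMod p) : up a b c ^ p = 1 := by
  refine pow_prime_eq_one hp ?_
  ext i j
  fin_cases i <;> fin_cases j <;>
    simp [coe_up, pow_succ, Matrix.mul_apply, Fin.sum_univ_three, Matrix.one_apply]

theorem lo_pow (hp : p ≠ 2) (c : ZMod p) : lo c ^ p = 1 := by
  refine pow_prime_eq_one hp ?_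
  ext i j
  fin_cases i <;> fin_cases j <;>
    simp [coe_lo, pow_succ, Matrix.mul_apply, Fin.sum_univ_three, Matrix.one_apply]

/-- the upper unitriangular group -/
def U : Subgroup (Matrix.SpecialLinearGroup (Fin 3) (ZMod p)) where
  carrier := {M | ∃ a b c, M = up a b c}
  one_mem' := ⟨0, 0, 0, Subtype.ext (by ext i j; fin_cases i <;> fin_cases j <;> simp [coe_up])⟩
  mul_mem' := by
    rintro _ _ ⟨a, b, c, rfl⟩ ⟨a', b', c', rfl⟩
    exact ⟨a + a', b' + a * c' + b, c + c', Subtype.ext (by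
      rw [Matrix.SpecialLinearGroup.coe_mul]
      ext i j
      fin_cases i <;> fin_cases j <;> simp [coe_up, Matrix.SpecialLinearGroup.coe_mul, Matrix.mul_apply, Fin.sum_univ_three] <;> ring)⟩
  inv_mem' := by
    rintro _ ⟨a, b, c, rfl⟩
    refine ⟨-a, a * c - b, -c, inv_eq_of_mul_eq_one_right (Subtype.ext (by
      rw [Matrix.SpecialLinearGroup.coe_mul, Matrix.SpecialLinearGroup.coe_one]
      ext i j
      fin_cases i <;> fin_cases j <;> simp [coe_up, Matrix.SpecialLinearGroup.coe_mul, Matrix.mul_apply, Fin.sum_univ_three] <;> ring))⟩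

theorem isPGroup_U (hp : p ≠ 2) : IsPGroup p (U : Subgroup (Matrix.SpecialLinearGroup (Fin 3) (ZMod p))) := by
  rintro ⟨_, a, b, c, rfl⟩
  exact ⟨1, Subtype.ext (by simpa using up_pow hp a b c)⟩

/-- A small symmetric group has abelian `p`-subgroups. -/
theorem comm_of_lt {n : ℕ} (hn : n < p ^ 2) (Q : Subgroup (Equiv.Perm (Fin n))) (hQ : IsPGroup p Q)
    (x y : Equiv.Perm (Fin n)) (hx : x ∈ Q) (hy : y ∈ Q) : x * y = y * x := by
  have hp : p.Prime := Fact.out
  have key : ∀ ω : Fin n, (⟨x, hx⟩ * ⟨y, hy⟩ : Q) • ω = (⟨y, hy⟩ * ⟨x, hx⟩ : Q) • ω := by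
    intro ω
    obtain ⟨k, hk⟩ := hQ.index (MulAction.stabilizer Q ω)
    have hk1 : k ≤ 1 := by
      by_contra h
      have h1 : (MulAction.stabilizer Q ω).index ≤ n := by
        rw [MulAction.index_stabilizer]
        exact le_trans (Set.ncard_le_card _) (by simp)
      rw [hk] at h1
      have : p ^ 2 ≤ p ^ k := Nat.pow_le_pow_right hp.pos (by omega)
      omega
    haveI hN : (MulAction.stabilizer Q ω).Normal := by
      interval_cases k
      · rw [pow_zero, Subgroup.index_eq_one] at hk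
        rw [hk]; infer_instance
      · rw [pow_one] at hk
        have hdp : p ∣ Nat.card Q := hk ▸ Subgroup.index_dvd_card _
        refine Subgroup.normal_of_index_eq_minFac_card ?_
        obtain ⟨e, he⟩ := IsPGroup.iff_card.1 hQ
        have he0 : e ≠ 0 := by rintro rfl; rw [pow_zero] at he; rw [he] at hdp; exact hp.not_dvd_one hdp
        rw [hk, he, Nat.pow_minFac he0, hp.minFac_eq]
    haveI : IsCyclic (Q ⧸ MulAction.stabilizer Q ω) := by
      interval_cases k
      · haveI : Subsingleton (Q ⧸ MulAction.stabilizer Q ω) := by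
          refine (Nat.card_eq_one_iff_unique.1 ?_).1
          rw [← Subgroup.index_eq_card, hk, pow_zero]
        exact isCyclic_of_subsingleton
      · exact isCyclic_of_prime_card (p := p) (by rw [← Subgroup.index_eq_card, hk, pow_one])
    have h1 : (QuotientGroup.mk (⟨x, hx⟩ * ⟨y, hy⟩) : Q ⧸ MulAction.stabilizer Q ω) =
        QuotientGroup.mk (⟨y, hy⟩ * ⟨x, hx⟩) := by
      rw [QuotientGroup.mk_mul, QuotientGroup.mk_mul]
      exact IsCyclic.commutative.is_comm.comm _ _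
    rw [QuotientGroup.eq, MulAction.mem_stabilizer_iff, mul_smul, inv_smul_eq_iff] at h1
    exact h1.symm
  exact Equiv.ext key

theorem involves_of_embedding {H : Type*} [Group H] {G : Type*} [Group G] (S : Subgroup G)
    (e : S ≃* H) : Cfsg.Involves H G := by
  haveI : ((⊥ : Subgroup G).subgroupOf S).Normal := Subgroup.normal_subgroupOf
  exact ⟨S, ⊥, inferInstance,
    ⟨(QuotientGroup.quotientMulEquivOfEq (Subgroup.bot_subgroupOf S)).trans (QuotientGroup.quotientBot.trans e)⟩⟩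

theorem not_involves (hp : p ≠ 2) {n : ℕ} (hn : n < p ^ 2) :
    ¬ Cfsg.Involves ↥(Cfsg.qd p) ↥(alternatingGroup (Fin n)) := by
  rintro ⟨K, R, hR, ⟨e⟩⟩
  haveI := hR
  let f : K →* Cfsg.qd p := e.toMonoidHom.comp (QuotientGroup.mk' (R.subgroupOf K))
  have hf : Function.Surjective f := e.surjective.comp (QuotientGroup.mk'_surjective _)
  obtain ⟨Q⟩ := (inferInstance : Nonempty (Sylow p K))
  haveI : Finite (Cfsg.qd p) := inferInstance
  have hUq : U ≤ Cfsg.qd p := by
    rintro _ ⟨a, b, c, rfl⟩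
    exact mem_qd.2 (by simp [coe_up])
  obtain ⟨T, hT⟩ := ((isPGroup_U hp).comap_of_injective (Cfsg.qd p).subtype
    (Cfsg.qd p).subtype_injective).exists_le_sylow
  obtain ⟨g, hg⟩ := MulAction.exists_smul_eq (Cfsg.qd p) (Q.mapSurjective hf) T
  let ι : K →* Equiv.Perm (Fin n) := (alternatingGroup (Fin n)).subtype.comp K.subtype
  have hι : Function.Injective ι := Subtype.val_injective.comp Subtype.val_injective
  have hQc : ∀ u ∈ (Q : Subgroup K), ∀ v ∈ (Q : Subgroup K), u * v = v * u := by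
    intro u hu v hv
    refine hι ?_
    rw [map_mul, map_mul]
    exact comm_of_lt hn _ (Q.2.map ι) _ _ ⟨u, hu, rfl⟩ ⟨v, hv, rfl⟩
  have hTc : ∀ u ∈ (T : Subgroup (Cfsg.qd p)), ∀ v ∈ (T : Subgroup (Cfsg.qd p)), u * v = v * u := by
    intro u hu v hv
    rw [← hg, Sylow.coe_subgroup_smul] at hu hv
    obtain ⟨u', hu', rfl⟩ := hu
    obtain ⟨v', hv', rfl⟩ := hv
    obtain ⟨a, ha, rfl⟩ := hu'
    obtain ⟨b, hb, rfl⟩ := hv'
    exact ((show Commute (f a) (f b) from by
      show f a * f b = f b * f a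
      rw [← map_mul, ← map_mul, hQc a ha b hb]).map (MulAut.conj g).toMonoidHom).eq
  have h1 := hTc ⟨up 1 0 0, hUq ⟨1, 0, 0, rfl⟩⟩ (hT ⟨1, 0, 0, rfl⟩)
    ⟨up 0 0 1, hUq ⟨0, 0, 1, rfl⟩⟩ (hT ⟨0, 0, 1, rfl⟩)
  have h2 := congrArg (fun M : Cfsg.qd p =>
    ((M : Matrix.SpecialLinearGroup (Fin 3) (ZMod p)) : Matrix (Fin 3) (Fin 3) (ZMod p)) 0 2) h1
  simp [coe_up, Matrix.SpecialLinearGroup.coe_mul, Matrix.mul_apply, Fin.sum_univ_three] at h2

theorem qd_le_closure : Cfsg.qd p ≤ Subgroup.closure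
    ({M | ∃ a b c, M = up a b c} ∪ {M | ∃ c : ZMod p, M = lo c}) := by
  intro M hM
  obtain ⟨h0, h1, h2⟩ := mem_qd.1 hM
  set W := Subgroup.closure ({M | ∃ a b c, M = up a b c} ∪ {M | ∃ c : ZMod p, M = lo c}) with hW
  have hu : ∀ a b c, (up a b c : Matrix.SpecialLinearGroup (Fin 3) (ZMod p)) ∈ W := fun a b c =>
    Subgroup.subset_closure (Or.inl ⟨a, b, c, rfl⟩)
  have hl : ∀ c, (lo c : Matrix.SpecialLinearGroup (Fin 3) (ZMod p)) ∈ W := fun c =>
    Subgroup.subset_closure (Or.inr ⟨c, rfl⟩)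
  have main : ∀ X : Matrix.SpecialLinearGroup (Fin 3) (ZMod p),
      (X : Matrix (Fin 3) (Fin 3) (ZMod p)) 2 0 = 0 → (X : Matrix (Fin 3) (Fin 3) (ZMod p)) 2 1 = 0 →
      (X : Matrix (Fin 3) (Fin 3) (ZMod p)) 2 2 = 1 → (X : Matrix (Fin 3) (Fin 3) (ZMod p)) 1 0 ≠ 0 → X ∈ W := by
    intro X h0 h1 h2 hc
    have hdet := X.2
    rw [det_fin_three, h0, h1, h2] at hdet
    set a := (X : Matrix (Fin 3) (Fin 3) (ZMod p)) 0 0 with ha
    set b := (X : Matrix (Fin 3) (Fin 3) (ZMod p)) 0 1 with hb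
    set c := (X : Matrix (Fin 3) (Fin 3) (ZMod p)) 1 0 with hc'
    set d := (X : Matrix (Fin 3) (Fin 3) (ZMod p)) 1 1 with hd'
    have : X = up 0 ((X : Matrix (Fin 3) (Fin 3) (ZMod p)) 0 2) ((X : Matrix (Fin 3) (Fin 3) (ZMod p)) 1 2)
        * up ((a - 1) / c) 0 0 * lo c * up ((d - 1) / c) 0 0 := by
      refine Subtype.ext ?_
      ext i j
      fin_cases i <;> fin_cases j <;>
        simp [coe_up, coe_lo, Matrix.SpecialLinearGroup.coe_mul, Matrix.mul_apply, Fin.sum_univ_three, ← ha, ← hb, ← hc', ← hd', h0, h1, h2] <;>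
        field_simp
      all_goals first | ring1 | linear_combination hdet | linear_combination -hdet
    rw [this]
    exact mul_mem (mul_mem (mul_mem (hu _ _ _) (hu _ _ _)) (hl _)) (hu _ _ _)
  by_cases hc : (M : Matrix (Fin 3) (Fin 3) (ZMod p)) 1 0 = 0
  · have ha : (M : Matrix (Fin 3) (Fin 3) (ZMod p)) 0 0 ≠ 0 := by
      intro ha
      have hdet := M.2
      rw [det_fin_three, h0, h1, h2, hc, ha] at hdet
      simp at hdet
    have : lo 1 * M ∈ W := by
      refine main _ ?_ ?_ ?_ ?_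
      all_goals simp [coe_lo, Matrix.SpecialLinearGroup.coe_mul, Matrix.mul_apply, Fin.sum_univ_three, h0, h1, h2, hc, ha]
    exact (mul_mem_cancel_left (hl 1)).1 this
  · exact main M h0 h1 h2 hc

theorem exists_embedding (hp : p ≠ 2) {n : ℕ} (hn : p ^ 2 ≤ n) :
    ∃ H : Subgroup (alternatingGroup (Fin n)), Nonempty (↥H ≃* ↥(Cfsg.qd p)) := by
  classical
  have hv : ∀ (M : Cfsg.qd p) (v : Fin 2 → ZMod p),
      ((M : Matrix.SpecialLinearGroup (Fin 3) (ZMod p)) : Matrix (Fin 3) (Fin 3) (ZMod p)).mulVec ![v 0, v 1, 1] 2 = 1 := by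
    intro M v
    obtain ⟨h0, h1, h2⟩ := mem_qd.1 M.2
    simp [Matrix.mulVec, dotProduct, Fin.sum_univ_three, h0, h1, h2]
  let act : Cfsg.qd p → (Fin 2 → ZMod p) → (Fin 2 → ZMod p) := fun M v =>
    ![((M : Matrix.SpecialLinearGroup (Fin 3) (ZMod p)) : Matrix (Fin 3) (Fin 3) (ZMod p)).mulVec ![v 0, v 1, 1] 0,
      ((M : Matrix.SpecialLinearGroup (Fin 3) (ZMod p)) : Matrix (Fin 3) (Fin 3) (ZMod p)).mulVec ![v 0, v 1, 1] 1]
  have hact : ∀ M v, ![act M v 0, act M v 1, 1] =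
      ((M : Matrix.SpecialLinearGroup (Fin 3) (ZMod p)) : Matrix (Fin 3) (Fin 3) (ZMod p)).mulVec ![v 0, v 1, 1] := by
    intro M v
    ext i
    fin_cases i
    · rfl
    · rfl
    · exact (hv M v).symm
  letI : MulAction (Cfsg.qd p) (Fin 2 → ZMod p) :=
    { smul := act
      one_smul := fun v => by
        show act 1 v = v
        ext i; fin_cases i <;> simp [act]
      mul_smul := fun M N v => by
        show act (M * N) v = act M (act N v)
        have h1 := hact N v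
        show ![_, _] = ![_, _]
        simp only [h1, Subgroup.coe_mul, Matrix.SpecialLinearGroup.coe_mul, Matrix.mulVec_mulVec] }
  let f : Cfsg.qd p →* Equiv.Perm (Fin 2 → ZMod p) := MulAction.toPermHom _ _
  have hf : Function.Injective f := by
    intro M N h
    have hMN : ∀ v, act M v = act N v := fun v => DFunLike.congr_fun h v
    have h3 : ∀ v : Fin 2 → ZMod p,
        ((M : Matrix.SpecialLinearGroup (Fin 3) (ZMod p)) : Matrix (Fin 3) (Fin 3) (ZMod p)).mulVec ![v 0, v 1, 1] =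
        ((N : Matrix.SpecialLinearGroup (Fin 3) (ZMod p)) : Matrix (Fin 3) (Fin 3) (ZMod p)).mulVec ![v 0, v 1, 1] := by
      intro v; rw [← hact, ← hact, hMN]
    refine Subtype.ext (Subtype.ext ?_)
    ext i j
    have e0 := congrFun (h3 ![0, 0]) i
    have e1 := congrFun (h3 ![1, 0]) i
    have e2 := congrFun (h3 ![0, 1]) i
    simp [Matrix.mulVec, dotProduct, Fin.sum_univ_three] at e0 e1 e2
    fin_cases j
    · simpa [e0] using e1
    · simpa [e0] using e2
    · exact e0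
  have hcard : Fintype.card (Fin 2 → ZMod p) ≤ Fintype.card (Fin n) := by simpa using hn
  obtain ⟨emb⟩ := Function.Embedding.nonempty_of_card_le hcard
  let g : Cfsg.qd p →* Equiv.Perm (Fin n) := (Equiv.Perm.viaEmbeddingHom emb).comp f
  have hg : Function.Injective g := (Equiv.Perm.viaEmbeddingHom_injective emb).comp hf
  have hsign : ∀ M, g M ∈ alternatingGroup (Fin n) := by
    let s : Cfsg.qd p →* ℤˣ := Equiv.Perm.sign.comp g
    have hker : Cfsg.qd p ≤ s.ker.map (Cfsg.qd p).subtype := by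
      refine le_trans qd_le_closure ((Subgroup.closure_le _).2 ?_)
      intro X hX
      have hXq : X ∈ Cfsg.qd p ∧ X ^ p = 1 := by
        rcases hX with ⟨a, b, c, rfl⟩ | ⟨c, rfl⟩
        · exact ⟨mem_qd.2 (by simp [coe_up]), up_pow hp a b c⟩
        · exact ⟨mem_qd.2 (by simp [coe_lo]), lo_pow hp c⟩
      refine ⟨⟨X, hXq.1⟩, ?_, rfl⟩
      show s ⟨X, hXq.1⟩ = 1
      have h4 : s ⟨X, hXq.1⟩ ^ p = 1 := by
        rw [← map_pow]
        have : (⟨X, hXq.1⟩ : Cfsg.qd p) ^ p = 1 := Subtype.ext hXq.2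
        rw [this, map_one]
      rcases Int.units_eq_one_or (s ⟨X, hXq.1⟩) with h5 | h5
      · exact h5
      · rw [h5, ((Fact.out : p.Prime).odd_of_ne_two hp).neg_one_pow] at h4
        exact absurd h4 (by decide)
    intro M
    obtain ⟨N, hN, hNM⟩ := hker M.2
    rw [Equiv.Perm.mem_alternatingGroup, ← (Subtype.ext hNM : N = M)]
    exact hN
  refine ⟨(g.codRestrict (alternatingGroup (Fin n)) hsign).range, ⟨(MonoidHom.ofInjective ?_).symm⟩⟩
  exact fun a b h => hg (congrArg Subtype.val h)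

end Cfsg.Agent.S3835

namespace Cfsg.Agent.S3835

/-- Let p be an odd prime and n a natural number. The alternating group of degree n has a subgroup isomorphic to Qd(p) (the natural semidirect product of an elementary abelian group of order p² by SL₂(p)) if and only if n ≥ p²; and if n < p² then Qd(p) is not even involved in it. -/
theorem result {p : ℕ} [Fact p.Prime] (hp : p ≠ 2) (n : ℕ) : ((∃ H : Subgroup (alternatingGroup (Fin n)), Nonempty (↥H ≃* ↥(Cfsg.qd p))) ↔ p ^ 2 ≤ n) ∧ (n < p ^ 2 → ¬ Cfsg.Involves ↥(Cfsg.qd p) ↥(alternatingGroup (Fin n))) := by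
  refine ⟨⟨fun ⟨H, ⟨e⟩⟩ => ?_, exists_embedding hp⟩, not_involves hp⟩
  by_contra hlt
  exact not_involves hp (not_le.1 hlt) (involves_of_embedding H e)

end Cfsg.Agent.S3835
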