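import Cfsg.Statements.S3836
import Cfsg.Agent.Fus.CoreBasic
import Mathlib.GroupTheory.Commutator.Basic
-- import your own Cfsg.Agent.* helpers here

set_option autoImplicit false
open Cfsg

namespace Cfsg.Agent.S3836

/-- Let G be a finite group that is p-stable in the normalizer form: for every p-subgroup Q and every x ∈ N_G(Q) with [Q, x, x] = 1, the image of x in N_G(Q)/C_G(Q) lies in O_p(N_G(Q)/C_G(Q)). Then every subgroup of G is p-stable in the same sense. -/
theorem result {G : Type*} [Group G] [Finite G] {p : ℕ} [Fact p.Prime] (hst : Cfsg.IsNormalizerPStable p G) (H : Subgroup G) : Cfsg.IsNormalizerPStable p ↥H := by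
  intro P hP g hg hcomm
  set P' := P.map H.subtype with hP'
  have hgN : (g : G) ∈ Subgroup.normalizer (P' : Set G) := Subgroup.le_normalizer_map H.subtype ⟨g, hg, rfl⟩
  have hz : Subgroup.zpowers (g : G) = (Subgroup.zpowers g).map H.subtype := (MonoidHom.map_zpowers H.subtype g).symm
  have hmain := hst P' (hP.map H.subtype) (g : G) hgN (by
    rw [hz, hP', ← Subgroup.map_commutator, ← Subgroup.map_commutator, hcomm, Subgroup.map_bot])
  set NH := Subgroup.normalizer (P : Set ↥H)
  set NG := Subgroup.normalizer (P' : Set G)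
  let i : ↥NH →* ↥NG := (H.subtype.comp NH.subtype).codRestrict NG
    (fun x => Subgroup.le_normalizer_map H.subtype ⟨x.1, x.2, rfl⟩)
  have hcent : (Subgroup.centralizer (P' : Set G)).subgroupOf NG ≥
      ((Subgroup.centralizer (P : Set ↥H)).subgroupOf NH).map i := by
    rintro _ ⟨x, hx, rfl⟩
    rintro _ ⟨y, hy, rfl⟩
    exact congrArg Subtype.val (hx y hy)
  let f : ↥NH ⧸ (Subgroup.centralizer (P : Set ↥H)).subgroupOf NH →*
      ↥NG ⧸ (Subgroup.centralizer (P' : Set G)).subgroupOf NG :=
    QuotientGroup.map _ _ i (fun x hx => hcent ⟨x, hx, rfl⟩)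
  have hf : Function.Injective f := by
    rw [← MonoidHom.ker_eq_bot_iff, Subgroup.eq_bot_iff_forall]
    intro q hq
    obtain ⟨x, rfl⟩ := QuotientGroup.mk_surjective q
    rw [MonoidHom.mem_ker] at hq
    change (QuotientGroup.mk (i x) : ↥NG ⧸ (Subgroup.centralizer (P' : Set G)).subgroupOf NG) = 1 at hq
    rw [QuotientGroup.eq_one_iff] at hq
    rw [QuotientGroup.eq_one_iff]
    intro y hy
    exact Subtype.ext (hq (y : G) ⟨y, hy, rfl⟩)
  haveI := CfsgLib.Fus.normal_pCore (G := ↥NG ⧸ (Subgroup.centralizer (P' : Set G)).subgroupOf NG) p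
  refine CfsgLib.Fus.le_pCore (Subgroup.Normal.comap inferInstance f) (CfsgLib.Fus.isPGroup_pCore.comap_of_injective f hf) ?_
  exact hmain

end Cfsg.Agent.S3836
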