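-- Statement S3838
import Cfsg.Statements.S3838
import Cfsg.Agent.Solv.Tate
import Cfsg.Agent.Solv.TransferTools

set_option autoImplicit false
open Cfsg
open scoped commutatorElement Pointwise
set_option linter.style.haveILetI false
set_option linter.deprecated false

namespace Cfsg.Agent.S3838

/-- Let G be a finite group with Sylow p-subgroup P such that N_G(P) has a normal p-complement. Then N_G(Q) has a normal p-complement for every subgroup Q with [P, P] ≤ Q ≤ Φ(P). -/
theorem result {G : Type*} [Group G] [Finite G] {p : ℕ} [Fact p.Prime] (P : Sylow p G) (hN : Cfsg.HasNormalPComplement p ↥(Subgroup.normalizer ((P : Subgroup G) : Set G))) (Q : Subgroup G) (h1 : (commutator ↥(P : Subgroup G)).map (P : Subgroup G).subtype ≤ Q) (h2 : Q ≤ (frattini ↥(P : Subgroup G)).map (P : Subgroup G).subtype) : Cfsg.HasNormalPComplement p ↥(Subgroup.normalizer (Q : Set G)) := by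
  set N := Subgroup.normalizer (Q : Set G) with hNd
  set NP := Subgroup.normalizer ((P : Subgroup G) : Set G) with hNPd
  have hQP : Q ≤ (P : Subgroup G) := h2.trans (Subgroup.map_subtype_le _)
  have hPN : (P : Subgroup G) ≤ N := by
    intro x hx
    refine CfsgLib.Solv.mem_normalizer_of_conj_smul_eq ?_
    have key : ∀ y ∈ (P : Subgroup G), ∀ z ∈ Q, y * z * y⁻¹ ∈ Q := fun y hy z hz => by
      have h3 : y * z * y⁻¹ * z⁻¹ ∈ Q := h1 ⟨⟨y, hy⟩ * ⟨z, hQP hz⟩ * ⟨y, hy⟩⁻¹ * ⟨z, hQP hz⟩⁻¹,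
        Subgroup.commutator_mem_commutator (Subgroup.mem_top _) (Subgroup.mem_top _), rfl⟩
      simpa using mul_mem h3 hz
    ext z
    rw [CfsgLib.Solv.mem_conj_smul_iff]
    constructor
    · intro hz
      simpa [mul_assoc] using key x hx _ hz
    · intro hz
      simpa [mul_assoc] using key x⁻¹ (inv_mem hx) z hz
  haveI hQn : (Q.subgroupOf N).Normal :=
    (Subgroup.normal_subgroupOf_iff_le_normalizer Subgroup.le_normalizer).2 le_rfl
  set P' : Sylow p N := P.subtype hPN with hP'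
  set f := QuotientGroup.mk' (Q.subgroupOf N) with hf
  have hfs : Function.Surjective f := QuotientGroup.mk'_surjective _
  set Pb : Sylow p (N ⧸ Q.subgroupOf N) := P'.mapSurjective hfs with hPbd
  have hPb : (Pb : Subgroup (N ⧸ Q.subgroupOf N)) = (P' : Subgroup N).map f := rfl
  have hkerle : f.ker ≤ (P' : Subgroup N) := by
    rw [hf, QuotientGroup.ker_mk', hP', Sylow.coe_subtype]
    exact Subgroup.comap_mono hQP
  have hcomm : ∀ x y : (P : Subgroup G), f ⟨x, hPN x.2⟩ * f ⟨y, hPN y.2⟩ = f ⟨y, hPN y.2⟩ * f ⟨x, hPN x.2⟩ := by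
    intro x y
    rw [hf, ← map_mul, ← map_mul, QuotientGroup.mk'_eq_mk']
    refine ⟨⟨(y : G)⁻¹ * (x : G)⁻¹ * y * x, mul_mem (mul_mem (mul_mem (inv_mem (hPN y.2)) (inv_mem (hPN x.2))) (hPN y.2)) (hPN x.2)⟩, h1 ⟨y⁻¹ * x⁻¹ * y * x, ?_, rfl⟩, ?_⟩
    · rw [commutator_def]
      simpa [commutatorElement_def] using Subgroup.commutator_mem_commutator (g₁ := y⁻¹) (g₂ := x⁻¹) (Subgroup.mem_top _) (Subgroup.mem_top _)
    · ext; simp [mul_assoc]
  have hQuot : Cfsg.HasNormalPComplement p (N ⧸ Q.subgroupOf N) := by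
    refine CfsgLib.Solv.hnpc_of_normalizer_le_centralizer Pb ?_
    rw [hPb]
    intro z hz
    obtain ⟨n, rfl⟩ := hfs z
    have hn : n ∈ Subgroup.normalizer ((P' : Subgroup N) : Set N) := by
      rw [← Subgroup.comap_map_eq_self hkerle, ← Subgroup.comap_normalizer_eq_of_surjective _ hfs]
      exact hz
    have hnG : (n : G) ∈ NP := by
      rw [Subgroup.mem_normalizer_iff]
      intro y
      constructor
      · intro hy
        have := (Subgroup.mem_normalizer_iff.1 hn ⟨y, hPN hy⟩).1 (by rw [hP', Sylow.coe_subtype]; exact hy)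
        rw [hP', Sylow.coe_subtype] at this
        exact this
      · intro hy
        have hyN : y ∈ N := by simpa [mul_assoc] using mul_mem (mul_mem (inv_mem n.2) (hPN hy)) n.2
        have := (Subgroup.mem_normalizer_iff.1 hn ⟨y, hyN⟩).2 (by rw [hP', Sylow.coe_subtype]; exact hy)
        rw [hP', Sylow.coe_subtype] at this
        exact this
    have hPNP : (P : Subgroup G) ≤ NP := Subgroup.le_normalizer
    haveI := CfsgLib.Inv.pResidual_normal p NP
    obtain ⟨s, hs, k, hk, e⟩ := Subgroup.mem_sup_of_normal_right.1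
      ((CfsgLib.Solv.sylow_sup_pResidual (P.subtype hPNP)).ge (Subgroup.mem_top (⟨n, hnG⟩ : NP)))
    rw [Sylow.coe_subtype, Subgroup.mem_subgroupOf] at hs
    rw [Subgroup.mem_centralizer_iff]
    rintro _ ⟨y, hy, rfl⟩
    rw [hP', Sylow.coe_subtype, SetLike.mem_coe, Subgroup.mem_subgroupOf] at hy
    have hkc : k ∈ Subgroup.centralizer (((P : Subgroup G).subgroupOf NP : Subgroup NP) : Set NP) := by
      refine CfsgLib.Solv.mem_centralizer_of_hnpc hN ?_ ?_ ((CfsgLib.Solv.hnpc_mem_iff hN).1 hk)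
      · exact IsPGroup.comap_of_injective P.2 _ NP.subtype_injective
      · rw [← Subgroup.subgroupOf_normalizer_eq hPNP, Subgroup.mem_subgroupOf]; exact k.2
    have hky : (y : G) * (k : G) = (k : G) * (y : G) :=
      Subtype.ext_iff.1 (Subgroup.mem_centralizer_iff.1 hkc ⟨y, hPNP hy⟩ hy)
    have he : n = (⟨(s : G), hPN hs⟩ : N) * (⟨(k : G), by
        have := mul_mem (inv_mem (hPN hs)) n.2
        rwa [show (n : G) = (s : G) * k from (Subtype.ext_iff.1 e).symm, inv_mul_cancel_left] at this⟩ : N) :=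
      Subtype.ext (Subtype.ext_iff.1 e).symm
    rw [he, map_mul, ← mul_assoc]
    have h3 : f y * f ⟨(s : G), hPN hs⟩ = f ⟨(s : G), hPN hs⟩ * f y := hcomm ⟨y, hy⟩ ⟨s, hs⟩
    rw [h3, mul_assoc, mul_assoc, ← map_mul, ← map_mul f _ y]
    exact congrArg (fun w => f ⟨(s : G), hPN hs⟩ * f w) (Subtype.ext hky)
  haveI hRn := CfsgLib.Inv.pResidual_normal p (N ⧸ Q.subgroupOf N)
  refine CfsgLib.Solv.tate P' ((Cfsg.pResidual p (N ⧸ Q.subgroupOf N)).comap f) (hRn.comap f) ?_ ?_
  · have h3 := CfsgLib.Solv.sylow_sup_pResidual Pb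
    rw [hPb] at h3
    rw [eq_top_iff]
    intro x _
    have : f x ∈ ((P' : Subgroup N) ⊔ (Cfsg.pResidual p (N ⧸ Q.subgroupOf N)).comap f).map f := by
      rw [Subgroup.map_sup, Subgroup.map_comap_eq_self_of_surjective hfs, h3]; trivial
    rwa [← Subgroup.mem_comap, Subgroup.comap_map_eq_self (hkerle.trans le_sup_left)] at this
  · intro x hx
    obtain ⟨hxP, hxK⟩ := Subgroup.mem_inf.1 hx
    have h4 : f x ∈ (Pb : Subgroup (N ⧸ Q.subgroupOf N)) ⊓ Cfsg.pResidual p (N ⧸ Q.subgroupOf N) :=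
      Subgroup.mem_inf.2 ⟨hPb ▸ Subgroup.mem_map_of_mem _ hxP, hxK⟩
    rw [(CfsgLib.Solv.hnpc_iff_inf Pb).1 hQuot, Subgroup.mem_bot, hf, QuotientGroup.mk'_apply,
      QuotientGroup.eq_one_iff, Subgroup.mem_subgroupOf] at h4
    obtain ⟨w, hw, hwx⟩ := h2 h4
    have hsurj : Function.Surjective (Subgroup.subgroupOfEquivOfLe hPN).symm.toMonoidHom :=
      (Subgroup.subgroupOfEquivOfLe hPN).symm.surjective
    refine ⟨(Subgroup.subgroupOfEquivOfLe hPN).symm w,
      frattini_le_comap_frattini_of_surjective hsurj hw, ?_⟩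
    exact Subtype.ext hwx

end Cfsg.Agent.S3838
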