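import Cfsg.Statements.S3839
import Cfsg.Agent.Solv.PComplement
import Cfsg.Agent.Inv.CharP2
import Cfsg.Agent.Inv.DihedralFusion
import Mathlib

set_option autoImplicit false
open Cfsg

namespace Cfsg.Agent.S3839

universe u

open scoped Pointwise

open CfsgLib.Solv

variable {p : ℕ} [hp : Fact p.Prime]

theorem center_meets {P : Type*} [Group P] [Finite P] (hP : IsPGroup p P) (N : Subgroup P) [N.Normal]
    (hN : N ≠ ⊥) : ∃ z ∈ N, z ≠ 1 ∧ z ∈ Subgroup.center P := by
  letI : MulAction P N := MulAction.compHom N (MulAut.conjNormal : P →* MulAut N)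
  haveI : Nontrivial N := (Subgroup.nontrivial_iff_ne_bot N).2 hN
  obtain ⟨k, hk0, hk⟩ := (hP.to_subgroup N).nontrivial_iff_card.1 inferInstance
  obtain ⟨z, hz, hz1⟩ := hP.exists_fixed_point_of_prime_dvd_card_of_fixed_point N (hk ▸ dvd_pow_self p hk0.ne')
    (a := (1 : N)) (fun g => map_one (MulAut.conjNormal g))
  refine ⟨z, z.2, fun e => hz1 (Subtype.ext e.symm), Subgroup.mem_center_iff.2 fun g => ?_⟩
  have h := congrArg Subtype.val (hz g)
  change g * (z : P) * g⁻¹ = z at h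
  exact mul_inv_eq_iff_eq_mul.1 h

variable {G : Type u} [Group G] [Finite G]

theorem cen_of_sub {H Q : Subgroup G} (h : Cfsg.HasNormalPComplement p H) (hQ : IsPGroup p Q) (hQH : Q ≤ H)
    {g : G} (hg : g ∈ H) (hn : g ∈ Subgroup.normalizer (Q : Set G)) (hc : (orderOf g).Coprime p) :
    g ∈ Subgroup.centralizer (Q : Set G) := by
  have h1 := mem_centralizer_of_hnpc h (Q := Q.subgroupOf H) hQ.comap_subtype (g := ⟨g, hg⟩)
    (Subgroup.mem_normalizer_iff.2 fun x => by
      simp only [Subgroup.mem_subgroupOf, Subgroup.coe_mul, Subgroup.coe_inv]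
      exact Subgroup.mem_normalizer_iff.1 hn x) (by rwa [Subgroup.orderOf_mk])
  rw [Subgroup.mem_centralizer_iff]
  exact fun q hq => congrArg Subtype.val (Subgroup.mem_centralizer_iff.1 h1 ⟨q, hQH hq⟩ hq)

def Hyp (p : ℕ) {G : Type u} [Group G] (D : Subgroup G) : Prop :=
  ∀ U : Subgroup G, U ≤ D → D ⊓ Subgroup.centralizer (U : Set G) ≤ U →
    Cfsg.HasNormalPComplement p ↥(Subgroup.normalizer (U : Set G))

def Good (p : ℕ) (n : ℕ) : Prop :=
  ∀ (X : Type u) [Group X] [Finite X], Nat.card X < n → ∀ (S : Sylow p X) (D : Subgroup X),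
    Cfsg.IsStronglyClosed D (S : Subgroup X) → Hyp p D → Cfsg.HasNormalPComplement p X

theorem sub (ih : Good.{u} p (Nat.card G)) (S : Sylow p G) (D : Subgroup G)
    (hD : Cfsg.IsStronglyClosed D (S : Subgroup G)) (hh : Hyp p D)
    (H U : Subgroup G) (hH : H ≠ ⊤) (hU : U ≤ D) (hHU : H ≤ Subgroup.normalizer (U : Set G))
    (hCU : Subgroup.centralizer (U : Set G) ≤ H) : Cfsg.HasNormalPComplement p H := by
  obtain ⟨T⟩ : Nonempty (Sylow p H) := inferInstance
  set TG := (T : Subgroup H).map H.subtype with hTG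
  have hUp : IsPGroup p U := S.2.to_le (hU.trans hD.1)
  have hR : IsPGroup p (U ⊔ TG : Subgroup G) :=
    IsPGroup.to_sup_of_normal_left' hUp (T.2.map _) ((Subgroup.map_subtype_le _).trans hHU)
  obtain ⟨S', hS'⟩ := hR.exists_le_sylow
  obtain ⟨a, ha⟩ := MulAction.exists_smul_eq G S' S
  have hSa : MulAut.conj a • (S' : Subgroup G) = S := by rw [← Sylow.coe_subgroup_smul, ha]
  set H' := MulAut.conj a • H with hH'
  set U' := MulAut.conj a • U with hU'
  have hmono : ∀ {A B : Subgroup G}, A ≤ B → MulAut.conj a • A ≤ MulAut.conj a • B := fun {A B} h x hx =>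
    mem_conj_smul_iff.2 (h (mem_conj_smul_iff.1 hx))
  have hU'D : U' ≤ D := fun x hx => by
    have hx' := mem_conj_smul_iff.1 hx
    have hS : x ∈ (S : Subgroup G) := hSa ▸ hmono (le_sup_left.trans hS') hx
    have := hD.2 _ (hU hx') a
    rw [show a * (a⁻¹ * x * a) * a⁻¹ = x by group] at this
    exact this hS
  have hcen : ∀ x, (∀ u ∈ U', u * x = x * u) → x ∈ H' := fun x hx => by
    refine mem_conj_smul_iff.2 (hCU (Subgroup.mem_centralizer_iff.2 fun u hu => ?_))
    have := hx (a * u * a⁻¹) (mem_conj_smul_iff.2 (by simpa [mul_assoc] using hu))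
    calc u * (a⁻¹ * x * a) = a⁻¹ * (a * u * a⁻¹ * x) * a := by group
      _ = a⁻¹ * (x * (a * u * a⁻¹)) * a := by rw [this]
      _ = a⁻¹ * x * a * u := by group
  have hnor : H' ≤ Subgroup.normalizer (U' : Set G) := fun x hx => Subgroup.mem_normalizer_iff.2 fun u => by
    rw [hU', mem_conj_smul_iff, mem_conj_smul_iff, Subgroup.mem_normalizer_iff.1 (hHU (mem_conj_smul_iff.1 hx))]
    group
  let e : H ≃* H' := Subgroup.equivSMul (MulAut.conj a) H
  refine hnpc_mulEquiv e.symm ?_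
  obtain ⟨X, hX⟩ := ((S.2.comap_subtype : IsPGroup p ((S : Subgroup G).subgroupOf H'))).exists_le_sylow
  have hXe : (X : Subgroup H') = (S : Subgroup G).subgroupOf H' := by
    refine (Subgroup.eq_of_le_of_card_ge hX ?_).symm
    have h1 : Nat.card (X : Subgroup H') = Nat.card T := by
      rw [X.card_eq_multiplicity, T.card_eq_multiplicity, Nat.card_congr e.toEquiv]
    have h2 : MulAut.conj a • TG ≤ (S : Subgroup G) ⊓ H' :=
      le_inf (hSa ▸ hmono (le_sup_right.trans hS')) (hmono (Subgroup.map_subtype_le _))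
    show Nat.card _ ≤ Nat.card ↥((S : Subgroup G).subgroupOf H')
    rw [h1, ← card_map_subtype H T, ← hTG, ← card_conj_smul a TG, ← Subgroup.inf_subgroupOf_right,
      card_subgroupOf inf_le_right]
    exact Subgroup.card_le_of_le h2
  refine ih H' ?_ X (D.subgroupOf H') ⟨fun x hx => by rw [hXe]; exact hD.1 hx, fun x hx g hg => ?_⟩ ?_
  · rw [hH', card_conj_smul]; exact card_lt_of_ne_top hH
  · rw [hXe] at hg
    exact hD.2 (x : G) hx (g : G) hg
  intro V hV hVc
  set W := V.map H'.subtype ⊔ U' with hW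
  have hWD : W ≤ D := sup_le (Subgroup.map_le_iff_le_comap.2 hV) hU'D
  have hWc : D ⊓ Subgroup.centralizer (W : Set G) ≤ W := by
    rintro x ⟨hxD, hxc⟩
    have hc := Subgroup.mem_centralizer_iff.1 hxc
    have hxH : x ∈ H' := hcen x fun u hu => hc u (le_sup_right (a := V.map H'.subtype) hu)
    exact le_sup_left (b := U') (Subgroup.mem_map.2 ⟨⟨x, hxH⟩, hVc ⟨hxD, Subgroup.mem_centralizer_iff.2 fun v hv =>
      Subtype.ext (hc (v : G) (le_sup_left (b := U') (Subgroup.mem_map_of_mem _ hv)))⟩, rfl⟩)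
  have hle : (Subgroup.normalizer (V : Set H')).map H'.subtype ≤ Subgroup.normalizer (W : Set G) := by
    rintro _ ⟨x, hx, rfl⟩
    refine mem_normalizer_of_conj_smul_eq ?_
    rw [hW, Subgroup.smul_sup, conj_smul_eq_self_of_mem_normalizer (g := H'.subtype x) (hnor x.2)]
    congr 1
    exact conj_smul_eq_self_of_mem_normalizer (Subgroup.le_normalizer_map H'.subtype (Subgroup.mem_map_of_mem _ hx))
  have h3 := hnpc_subgroup (hh W hWD hWc) (((Subgroup.normalizer (V : Set H')).map H'.subtype).subgroupOf _)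
  exact hnpc_mulEquiv ((Subgroup.subgroupOfEquivOfLe hle).trans
    (Subgroup.equivMapOfInjective _ _ H'.subtype_injective).symm) h3

theorem central_case (ih : Good.{u} p (Nat.card G)) (S : Sylow p G) (D : Subgroup G)
    (hD : Cfsg.IsStronglyClosed D (S : Subgroup G)) (hh : Hyp p D) (U : Subgroup G) (hU : U ≤ D) (hU1 : U ≠ ⊥)
    (hUc : ∀ u ∈ U, ∀ g : G, u * g = g * u) : Cfsg.HasNormalPComplement p G := by
  haveI : U.Normal := ⟨fun u hu g => by rw [← hUc u hu, mul_inv_cancel_right]; exact hu⟩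
  set π := QuotientGroup.mk' U
  have hπ : Function.Surjective π := QuotientGroup.mk'_surjective U
  have hker : ∀ {a b : G}, π a = π b → ∃ u ∈ U, a = b * u := fun {a b} h =>
    ⟨b⁻¹ * a, QuotientGroup.eq.1 (h.symm : (b : G ⧸ U) = a), by group⟩
  have hqu : Cfsg.HasNormalPComplement p (G ⧸ U) := by
    refine ih (G ⧸ U) (card_quotient_lt hU1) (S.mapSurjective hπ) (D.map π)
      ⟨Subgroup.map_mono hD.1, ?_⟩ ?_
    · rintro _ ⟨x, hx, rfl⟩ gb hgb
      obtain ⟨g, rfl⟩ := hπ gb
      obtain ⟨s, hs, he⟩ := Subgroup.mem_map.1 hgb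
      rw [← map_inv, ← map_mul, ← map_mul] at he ⊢
      obtain ⟨u, hu, e⟩ := hker he.symm
      refine Subgroup.mem_map_of_mem _ (hD.2 x hx g ?_)
      rw [e]; exact mul_mem hs (hD.1 (hU hu))
    intro V hV hVc
    have h1 : V.comap π ≤ D := fun v hv => by
      obtain ⟨d, hd, he⟩ := hV hv
      obtain ⟨u, hu, rfl⟩ := hker he.symm
      exact mul_mem hd (hU hu)
    have h2 : D ⊓ Subgroup.centralizer ((V.comap π : Subgroup G) : Set G) ≤ V.comap π := by
      rintro x ⟨hx, hxc⟩
      refine hVc ⟨Subgroup.mem_map_of_mem _ hx, Subgroup.mem_centralizer_iff.2 fun v hv => ?_⟩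
      obtain ⟨v, rfl⟩ := hπ v
      rw [← map_mul, Subgroup.mem_centralizer_iff.1 hxc v hv, map_mul]
    let f : ↥(Subgroup.normalizer ((V.comap π : Subgroup G) : Set G)) →* ↥(Subgroup.normalizer (V : Set (G ⧸ U))) :=
      (π.comp (Subgroup.subtype _)).codRestrict _ fun g => Subgroup.mem_normalizer_iff.2 fun v => by
        obtain ⟨v, rfl⟩ := hπ v
        have := Subgroup.mem_normalizer_iff.1 g.2 v
        simpa only [Subgroup.mem_comap, map_mul, map_inv, MonoidHom.comp_apply, Subgroup.coe_subtype] using this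
    refine hnpc_of_surjective (f := f) ?_ (hh _ h1 h2)
    rintro ⟨y, hy⟩
    obtain ⟨g, rfl⟩ := hπ y
    refine ⟨⟨g, Subgroup.mem_normalizer_iff.2 fun v => ?_⟩, Subtype.ext rfl⟩
    simpa only [Subgroup.mem_comap, map_mul, map_inv] using Subgroup.mem_normalizer_iff.1 hy (π v)
  refine hnpc_iff_frobCond.2 fun Q hQ g hg hc => Subgroup.mem_centralizer_iff.2 fun q hq => ?_
  have h4 := Subgroup.mem_centralizer_iff.1 (hnpc_iff_frobCond.1 hqu (Q.map π) (hQ.map π) (π g)
    (Subgroup.le_normalizer_map π (Subgroup.mem_map_of_mem _ hg))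
    (Nat.Coprime.coprime_dvd_left (orderOf_map_dvd π g) hc)) _ (Subgroup.mem_map_of_mem π hq)
  obtain ⟨u, hu, e⟩ := hker (show π (g * q * g⁻¹) = π q by rw [map_mul, map_mul, map_inv, ← h4, mul_inv_cancel_right])
  have hi : ∀ k : ℕ, g ^ k * q * (g ^ k)⁻¹ = q * u ^ k := by
    intro k
    induction k with
    | zero => simp
    | succ k ihk =>
      calc g ^ (k + 1) * q * (g ^ (k + 1))⁻¹ = g * (g ^ k * q * (g ^ k)⁻¹) * g⁻¹ := by rw [pow_succ']; group
        _ = (g * q * g⁻¹) * (g * u ^ k * g⁻¹) := by rw [ihk]; group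
        _ = q * u * u ^ k := by rw [e, ← hUc _ (pow_mem hu k) g, mul_inv_cancel_right]
        _ = _ := by rw [pow_succ', mul_assoc]
  have h5 := hi (orderOf g)
  rw [pow_orderOf_eq_one, one_mul, inv_one, mul_one, left_eq_mul] at h5
  obtain ⟨k, hk⟩ := IsPGroup.iff_orderOf.1 (S.2.to_le (hU.trans hD.1)) ⟨u, hu⟩
  rw [Subgroup.orderOf_mk] at hk
  have h6 : orderOf u = 1 := Nat.eq_one_of_dvd_coprimes (hc.pow_right k) (orderOf_dvd_of_pow_eq_one h5) hk.dvd
  rw [orderOf_eq_one_iff.1 h6, mul_one] at e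
  exact (mul_inv_eq_iff_eq_mul.1 e).symm

theorem step (ih : Good.{u} p (Nat.card G)) (S : Sylow p G) (D : Subgroup G)
    (hD : Cfsg.IsStronglyClosed D (S : Subgroup G)) (hh : Hyp p D) : Cfsg.HasNormalPComplement p G := by
  by_cases htriv : D = ⊥
  · have h := hh ⊥ bot_le (by rw [htriv]; exact inf_le_left)
    rw [Subgroup.normalizer_eq_top] at h
    exact hnpc_mulEquiv Subgroup.topEquiv h
  have hloc : ∀ U ≤ D, Subgroup.normalizer (U : Set G) ≠ ⊤ →
      Cfsg.HasNormalPComplement p ↥(Subgroup.normalizer (U : Set G)) := fun U hU hne =>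
    sub ih S D hD hh _ U hne hU le_rfl (Subgroup.centralizer_le_normalizer _)
  by_cases hcase : ∃ U0 : Subgroup G, U0 ≠ ⊥ ∧ U0.Normal ∧ U0 ≤ D
  · obtain ⟨U0, h0, h0n, h0D⟩ := hcase
    haveI := h0n
    haveI := pCore_normal (p := p) (G := G)
    set U := Cfsg.pCore p G ⊓ D with hUdef
    haveI hUn : U.Normal := ⟨fun x hx g => by
      have h1 := Subgroup.Normal.conj_mem ‹(Cfsg.pCore p G).Normal› x hx.1 g
      exact ⟨h1, hD.2 x hx.2 g (pCore_le_sylow S h1)⟩⟩
    have hU0 : ∀ N : Subgroup G, N.Normal → N ≤ D → N ≤ U := fun N hN hND =>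
      le_inf (@le_pCore G _ p N hN (S.2.to_le (hND.trans hD.1))) hND
    have hU1 : U ≠ ⊥ := fun e => h0 (eq_bot_iff.2 (e ▸ hU0 U0 h0n h0D))
    by_cases hcU : D ⊓ Subgroup.centralizer (U : Set G) ≤ U
    · have h := hh U inf_le_right hcU
      rw [Subgroup.normalizer_eq_top] at h
      exact hnpc_mulEquiv Subgroup.topEquiv h
    set C := Subgroup.centralizer (U : Set G) with hC
    haveI hCn : C.Normal := Subgroup.normal_centralizer
    by_cases hCt : C = ⊤
    · refine central_case ih S D hD hh U inf_le_right hU1 fun u hu g => ?_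
      have : g ∈ C := hCt ▸ Subgroup.mem_top g
      exact Subgroup.mem_centralizer_iff.1 this u hu
    set V0 := U ⊔ (D ⊓ C) with hV0
    have hV0D : V0 ≤ D := sup_le inf_le_right inf_le_left
    have hN0 : Cfsg.HasNormalPComplement p ↥(Subgroup.normalizer (V0 : Set G)) := by
      refine hloc V0 hV0D fun e => hcU ?_
      haveI : V0.Normal := Subgroup.normalizer_eq_top_iff.1 e
      exact le_sup_right.trans (hU0 V0 inferInstance hV0D)
    have hCnpc : Cfsg.HasNormalPComplement p C :=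
      sub ih S D hD hh C U hCt inf_le_right (Subgroup.centralizer_le_normalizer _) le_rfl
    obtain ⟨SC, hSC⟩ := CfsgLib.Inv.sylow_inf_normal S C
    have hfr := Sylow.normalizer_sup_eq_top SC
    rw [hSC] at hfr
    have hn1 : Subgroup.normalizer (((S : Subgroup G) ⊓ C : Subgroup G) : Set G) ≤
        Subgroup.normalizer (V0 : Set G) := by
      refine le_normalizer_iff_forall_conj_mem.2 fun n hn x hx => ?_
      have hM : V0 ≤ Subgroup.comap (MulAut.conj n).toMonoidHom V0 := by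
        refine sup_le (fun u hu => le_sup_left (b := D ⊓ C) (hUn.conj_mem u hu n))
          (fun d hd => le_sup_right (a := U) ⟨hD.2 d hd.1 n ?_, hCn.conj_mem d hd.2 n⟩)
        exact ((Subgroup.mem_normalizer_iff.1 hn d).1 ⟨hD.1 hd.1, hd.2⟩).1
      exact hM hx
    set K := (Cfsg.pResidual p C).map C.subtype with hK
    haveI : (Cfsg.pResidual p C).Normal := CfsgLib.Inv.pResidual_normal p C
    haveI hKn : K.Normal := ⟨fun x hx g => by
      obtain ⟨y, hy, rfl⟩ := hx
      refine ⟨⟨g * (y : G) * g⁻¹, hCn.conj_mem _ y.2 g⟩, (hnpc_mem_iff hCnpc).2 ?_, rfl⟩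
      rw [Subgroup.orderOf_mk, show orderOf (g * (y : G) * g⁻¹) = orderOf (y : G) from
        MulEquiv.orderOf_eq (MulAut.conj g) (y : G), Subgroup.orderOf_coe]
      exact (hnpc_mem_iff hCnpc).1 hy⟩
    set N0 := Subgroup.normalizer (V0 : Set G)
    have hCle : C ≤ N0 ⊔ K := by
      intro c hc
      obtain ⟨⟨k, s⟩, hks⟩ := (isComplement'_pResidual hCnpc SC).2 ⟨c, hc⟩
      have hks' : ((k : C) : G) * ((s : C) : G) = c := congrArg Subtype.val hks
      rw [← hks']
      refine mul_mem (le_sup_right (a := N0) (Subgroup.mem_map_of_mem C.subtype k.2))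
        (le_sup_left (b := K) (hn1 (Subgroup.le_normalizer ?_)))
      rw [← hSC]; exact Subgroup.mem_map_of_mem C.subtype s.2
    have htop : N0 ⊔ K = ⊤ := eq_top_iff.2 (hfr ▸ sup_le (hn1.trans le_sup_left) hCle)
    let f : ↥N0 →* G ⧸ K := (QuotientGroup.mk' K).comp N0.subtype
    have hf : Function.Surjective f := by
      intro y
      obtain ⟨g, rfl⟩ := QuotientGroup.mk'_surjective K y
      have hg : g ∈ ((N0 ⊔ K : Subgroup G) : Set G) := by rw [htop]; trivial
      rw [Subgroup.mul_normal] at hg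
      obtain ⟨m, hm, k, hk, rfl⟩ := hg
      exact ⟨⟨m, hm⟩, (QuotientGroup.mk_mul_of_mem m hk).symm⟩
    have hGK := hnpc_iff.1 (hnpc_of_surjective hf hN0)
    rw [← map_pResidual_of_surjective (QuotientGroup.mk'_surjective K)] at hGK
    refine hnpc_iff.2 fun hd => ?_
    obtain ⟨y, hy⟩ := exists_prime_orderOf_dvd_card' p hd
    rw [← Subgroup.orderOf_coe] at hy
    have hyK : (y : G) ∈ K := by
      by_contra hne
      refine hGK ?_
      have h1 : orderOf (QuotientGroup.mk' K (y : G)) ∣ p := (orderOf_map_dvd _ _).trans hy.dvd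
      rcases (Nat.dvd_prime hp.out).1 h1 with e | e
      · exact absurd ((QuotientGroup.eq_one_iff _).1 (orderOf_eq_one_iff.1 e)) hne
      · exact e.symm.dvd.trans (Subgroup.orderOf_dvd_natCard _ (Subgroup.mem_map_of_mem _ y.2))
    obtain ⟨z, hz, hzy⟩ := hyK
    have h2 := (hnpc_mem_iff hCnpc).1 hz
    rw [← Subgroup.orderOf_coe, show ((z : C) : G) = (y : G) from hzy, hy] at h2
    exact hp.out.ne_one ((Nat.coprime_self p).1 h2)
  -- every nontrivial subgroup of `D` has proper normalizer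
  have hloc' : ∀ U ≤ D, U ≠ ⊥ → Cfsg.HasNormalPComplement p ↥(Subgroup.normalizer (U : Set G)) :=
    fun U hU h1 => hloc U hU fun e => hcase ⟨U, h1, Subgroup.normalizer_eq_top_iff.1 e, hU⟩
  refine hnpc_iff_frobCond.2 fun Q hQ g hg hc => ?_
  set M := Subgroup.normalizer (Q : Set G) with hM
  obtain ⟨TM⟩ : Nonempty (Sylow p M) := inferInstance
  have hR : IsPGroup p (Q ⊔ (TM : Subgroup M).map M.subtype : Subgroup G) :=
    IsPGroup.to_sup_of_normal_left' hQ (TM.2.map _) (Subgroup.map_subtype_le _)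
  obtain ⟨S', hS'⟩ := hR.exists_le_sylow
  obtain ⟨a, ha⟩ := MulAction.exists_smul_eq G S' S
  -- move the Sylow subgroup and `D` to `S'`
  set D' := MulAut.conj a⁻¹ • D with hD'def
  have hmemD : ∀ x, x ∈ D' ↔ a * x * a⁻¹ ∈ D := fun x => by
    rw [hD'def, mem_conj_smul_iff, inv_inv]
  have hmemS : ∀ x, x ∈ (S' : Subgroup G) ↔ a * x * a⁻¹ ∈ (S : Subgroup G) := fun x => by
    rw [← ha, Sylow.coe_subgroup_smul, mem_conj_smul_iff]; group
  have hD' : Cfsg.IsStronglyClosed D' (S' : Subgroup G) :=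
    ⟨fun x hx => (hmemS x).2 (hD.1 ((hmemD x).1 hx)), fun x hx h hh' => by
      rw [hmemD]
      have := hD.2 _ ((hmemD x).1 hx) (a * h * a⁻¹)
      rw [show a * h * a⁻¹ * (a * x * a⁻¹) * (a * h * a⁻¹)⁻¹ = a * (h * x * h⁻¹) * a⁻¹ by group] at this
      exact this ((hmemS _).1 hh')⟩
  have hloc2 : ∀ U ≤ D', U ≠ ⊥ → Cfsg.HasNormalPComplement p ↥(Subgroup.normalizer (U : Set G)) := by
    intro U hU h1
    have hUa : MulAut.conj a • U ≤ D := fun x hx => by
      have := (hmemD _).1 (hU (mem_conj_smul_iff.1 hx))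
      rwa [show a * (a⁻¹ * x * a) * a⁻¹ = x by group] at this
    have hne : MulAut.conj a • U ≠ ⊥ := fun e => h1 (by
      rw [← Subgroup.card_eq_one, ← card_conj_smul a U, e, Subgroup.card_bot])
    have h := hloc' _ hUa hne
    rw [conj_smul_eq_map, ← Subgroup.map_equiv_normalizer_eq] at h
    exact hnpc_mulEquiv ((MulAut.conj a).subgroupMap (Subgroup.normalizer (U : Set G))).symm h
  have hQS : Q ≤ (S' : Subgroup G) := le_sup_left.trans hS'
  by_cases hDQ : D' ⊓ Q = ⊥
  swap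
  · have hmem : ∀ x ∈ M, x ∈ Subgroup.normalizer ((D' ⊓ Q : Subgroup G) : Set G) := fun x hx => by
      have hle : M ≤ Subgroup.normalizer ((D' ⊓ Q : Subgroup G) : Set G) :=
        le_normalizer_iff_forall_conj_mem.2 fun m hm y hy =>
          have h1 := (Subgroup.mem_normalizer_iff.1 hm y).1 hy.2
          ⟨hD'.2 y hy.1 m (hQS h1), h1⟩
      exact hle hx
    exact cen_of_sub (hloc2 _ inf_le_left hDQ) hQ (fun q hq => hmem q (Subgroup.le_normalizer hq)) (hmem g hg) hg hc
  set C := Subgroup.centralizer (Q : Set G) with hC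
  have hDC : D' ⊓ C ≠ ⊥ := by
    haveI : (D'.subgroupOf (S' : Subgroup G)).Normal := ⟨fun x hx s =>
      hD'.2 (x : G) hx (s : G) (mul_mem (mul_mem s.2 x.2) (inv_mem s.2))⟩
    have hne : D'.subgroupOf (S' : Subgroup G) ≠ ⊥ := fun e => htriv (by
      rw [← Subgroup.card_eq_one, ← card_conj_smul a⁻¹ D, ← hD'def, ← card_subgroupOf hD'.1, e, Subgroup.card_bot])
    obtain ⟨z, hz, hz1, hzc⟩ := center_meets S'.2 _ hne
    intro e
    have h : (z : G) ∈ D' ⊓ C := ⟨hz, Subgroup.mem_centralizer_iff.2 fun q hq =>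
      congrArg Subtype.val (Subgroup.mem_center_iff.1 hzc ⟨q, hQS hq⟩)⟩
    rw [e, Subgroup.mem_bot] at h
    exact hz1 (Subtype.ext h)
  obtain ⟨SM, hSM⟩ : ∃ SM : Sylow p M, (SM : Subgroup M) = (S' : Subgroup G).subgroupOf M :=
    ⟨TM, (TM.3 S'.2.comap_subtype fun x hx => hS' (le_sup_right (a := Q) (Subgroup.mem_map_of_mem M.subtype hx))).symm⟩
  haveI hCn : (C.subgroupOf M).Normal := CfsgLib.Inv.centralizer_normal_in_normalizer Q
  obtain ⟨SC, hSC⟩ := CfsgLib.Inv.sylow_inf_normal SM (C.subgroupOf M)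
  have hfr := Sylow.normalizer_sup_eq_top SC
  rw [hSC] at hfr
  have hg' : (⟨g, hg⟩ : M) ∈ ((Subgroup.normalizer ((((SM : Subgroup M) ⊓ C.subgroupOf M) : Subgroup M) : Set M) ⊔
      C.subgroupOf M : Subgroup M) : Set M) := by rw [hfr]; trivial
  rw [Subgroup.mul_normal] at hg'
  obtain ⟨n, hn, c, hcC, hgn⟩ := hg'
  have hgn' : (n : G) * (c : G) = g := congrArg Subtype.val hgn
  have hcC' : (c : G) ∈ C := hcC
  have hMN : ∀ x : M, x ∈ Subgroup.normalizer ((((SM : Subgroup M) ⊓ C.subgroupOf M) : Subgroup M) : Set M) →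
      (x : G) ∈ Subgroup.normalizer ((D' ⊓ C : Subgroup G) : Set G) := by
    intro x hx
    have key : (Subgroup.normalizer ((((SM : Subgroup M) ⊓ C.subgroupOf M) : Subgroup M) : Set M)).map M.subtype ≤
        Subgroup.normalizer ((D' ⊓ C : Subgroup G) : Set G) := by
      refine le_normalizer_iff_forall_conj_mem.2 ?_
      rintro _ ⟨m, hm, rfl⟩ d hd
      have hdM : d ∈ M := Subgroup.centralizer_le_normalizer _ hd.2
      have h := (Subgroup.mem_normalizer_iff.1 hm ⟨d, hdM⟩).1 ⟨by rw [hSM]; exact hD'.1 hd.1, hd.2⟩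
      rw [Subgroup.mem_inf, hSM] at h
      exact ⟨hD'.2 d hd.1 (m : G) h.1, h.2⟩
    exact key ⟨x, hx, rfl⟩
  obtain ⟨j, b, hb, hjb⟩ : ∃ j b, ¬ p ∣ b ∧ orderOf (n : G) = p ^ j * b :=
    ⟨_, _, Nat.not_dvd_ordCompl hp.out (orderOf_pos (n : G)).ne', (Nat.ordProj_mul_ordCompl_eq_self _ p).symm⟩
  set n' := (n : G) ^ p ^ j with hn'
  have hn'o : (orderOf n').Coprime p := by
    rw [hn', orderOf_pow' _ (pow_ne_zero _ hp.out.ne_zero), hjb, Nat.gcd_eq_right (dvd_mul_right _ _),
      Nat.mul_div_cancel_left _ (pow_pos hp.out.pos _)]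
    exact (hp.out.coprime_iff_not_dvd.2 hb).symm
  have hQN : Q ≤ Subgroup.normalizer ((D' ⊓ C : Subgroup G) : Set G) :=
    le_normalizer_iff_forall_conj_mem.2 fun q hq d hd => by
      rw [Subgroup.mem_centralizer_iff.1 hd.2 q hq, mul_inv_cancel_right]; exact hd
  have hcen := cen_of_sub (hloc2 _ inf_le_left hDC) hQ hQN (pow_mem (hMN n hn) _) (pow_mem n.2 _) hn'o
  have hact : ∀ (i : ℕ) (q : G), q ∈ Q → g ^ i * q * (g ^ i)⁻¹ = (n : G) ^ i * q * ((n : G) ^ i)⁻¹ := by
    intro i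
    induction i with
    | zero => simp
    | succ i ihi =>
      intro q hq
      have h1 : g ^ i * q * (g ^ i)⁻¹ ∈ Q := (Subgroup.mem_normalizer_iff.1 (pow_mem hg i) q).1 hq
      set w := g ^ i * q * (g ^ i)⁻¹ with hw
      calc g ^ (i + 1) * q * (g ^ (i + 1))⁻¹ = g * w * g⁻¹ := by rw [hw, pow_succ']; group
        _ = (n : G) * ((c : G) * w * (c : G)⁻¹) * (n : G)⁻¹ := by rw [← hgn']; group
        _ = (n : G) * w * (n : G)⁻¹ := by
          rw [← Subgroup.mem_centralizer_iff.1 hcC' w h1, mul_inv_cancel_right]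
        _ = _ := by rw [hw, ihi q hq, pow_succ']; group
  have hpow : g ^ p ^ j ∈ C := Subgroup.mem_centralizer_iff.2 fun q hq => by
    have h1 := hact (p ^ j) q hq
    rw [← hn', ← Subgroup.mem_centralizer_iff.1 hcen q hq, mul_inv_cancel_right] at h1
    exact (mul_inv_eq_iff_eq_mul.1 h1).symm
  obtain ⟨m, hm⟩ := exists_pow_eq_self_of_coprime (hc.symm.pow_left j)
  rw [← hm]; exact pow_mem hpow m

theorem all_good : ∀ n, Good.{u} p n
  | 0 => fun X _ _ h => absurd h (Nat.not_lt_zero _)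
  | n + 1 => fun X _ _ h S D hD hh => step (fun Y _ _ hY => all_good n Y (by omega)) S D hD hh


/-- A Frobenius normal p-complement criterion relative to a strongly closed subgroup. Let G be a finite group, S a Sylow p-subgroup and D a subgroup of S strongly closed in S with respect to G. Then G has a normal p-complement if and only if N_G(U) has a normal p-complement for every subgroup U of D with C_D(U) ≤ U. -/
theorem result {G : Type*} [Group G] [Finite G] {p : ℕ} [Fact p.Prime] (S : Sylow p G) (D : Subgroup G) (hD : Cfsg.IsStronglyClosed D (S : Subgroup G)) : Cfsg.HasNormalPComplement p G ↔ ∀ U : Subgroup G, U ≤ D → D ⊓ Subgroup.centralizer (U : Set G) ≤ U → Cfsg.HasNormalPComplement p ↥(Subgroup.normalizer (U : Set G)) := by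
  refine ⟨fun h U _ _ => CfsgLib.Solv.hnpc_subgroup h _, fun h => ?_⟩
  exact all_good (Nat.card G + 1) G (Nat.lt_succ_self _) S D hD h

end Cfsg.Agent.S3839
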