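import Cfsg.Statements.S3857
import Cfsg.Agent.OddLocal.CNSolvable
import Cfsg.Agent.Solv.FrobeniusFpf
import Cfsg.Agent.Solv.FrobeniusNilp
import Cfsg.Agent.Solv.MinimalNormal
import Cfsg.Agent.Solv.Hall
import Cfsg.Agent.Solv.UniqueSub
import Mathlib

set_option autoImplicit false
open Cfsg

namespace Cfsg.Agent.S3857

universe u

open CfsgLib.Solv

variable {G : Type u} [Group G] [Finite G] {A : Set ℕ}

def NC (A : Set ℕ) (G : Type u) [Group G] : Prop :=
  ∀ a b : ℕ, a.Prime → b.Prime → a ∈ A → b ∉ A → ∀ g : G, orderOf g ≠ a * b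

omit [Finite G] in
theorem NC.compl (h : NC A G) : NC Aᶜ G := fun a b ha hb haA hbA g e =>
  h b a hb ha (not_not.1 hbA) haA g (by rw [e, mul_comm])

omit [Finite G] in
theorem NC.commute (h : NC A G) {x y : G} {a b : ℕ} (ha : a.Prime) (hb : b.Prime) (haA : a ∈ A)
    (hbA : b ∉ A) (hx : orderOf x = a) (hy : orderOf y = b) : ¬ Commute x y := fun hc =>
  h a b ha hb haA hbA (x * y) (by
    rw [hc.orderOf_mul_eq_mul_orderOf_of_coprime, hx, hy]
    rw [hx, hy]; exact (Nat.coprime_primes ha hb).2 fun e => hbA (e ▸ haA))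

theorem NC.quot (h : NC A G) {Q : Type u} [Group Q] (f : G →* Q) (hf : Function.Surjective f) : NC A Q := by
  intro a b ha hb haA hbA y e
  obtain ⟨g, rfl⟩ := hf y
  have hd : a * b ∣ orderOf g := e ▸ orderOf_map_dvd f g
  exact h a b ha hb haA hbA (g ^ (orderOf g / (a * b))) (orderOf_pow_orderOf_div (orderOf_pos g).ne' hd)

theorem NC.fpf (h : NC A G) {V E : Subgroup G} (hV : PiNat A (Nat.card V)) (hE : PiNat Aᶜ (Nat.card E)) :
    ∀ e ∈ E, e ≠ 1 → V ⊓ Subgroup.centralizer {e} = ⊥ := by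
  intro e he he1
  rw [eq_bot_iff]
  rintro v ⟨hv, hc⟩
  rw [Subgroup.mem_bot]
  by_contra hv1
  obtain ⟨a, ha, had⟩ := Nat.exists_prime_and_dvd (mt orderOf_eq_one_iff.1 hv1)
  obtain ⟨b, hb, hbd⟩ := Nat.exists_prime_and_dvd (mt orderOf_eq_one_iff.1 he1)
  exact h.commute ha hb (hV a ha (had.trans (Subgroup.orderOf_dvd_natCard _ hv)))
    (hE b hb (hbd.trans (Subgroup.orderOf_dvd_natCard _ he)))
    (orderOf_pow_orderOf_div (orderOf_pos v).ne' had) (orderOf_pow_orderOf_div (orderOf_pos e).ne' hbd)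
    ((show Commute v e from Subgroup.mem_centralizer_singleton_iff.1 hc).pow_pow _ _)

/-- A normal Hall subgroup gives a Frobenius group. -/
theorem frobenius_of_hall [Group.IsSolvable G] (h : NC A G) {H : Subgroup G} [H.Normal] (hH1 : H ≠ ⊥) (hHt : H ≠ ⊤)
    (hH : PiNat A (Nat.card H)) (hHi : PiNat Aᶜ H.index) :
    ∃ C : Subgroup G, Cfsg.IsFrobeniusComplement C ∧ Cfsg.frobeniusKernel C = (H : Set G) := by
  obtain ⟨C, hC, hCi⟩ := exists_hall (PiSolvable.of_isSolvable (π := Aᶜ) (G := G))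
  rw [compl_compl] at hCi
  have hd1 : Nat.card C ∣ H.index :=
    ((hH.coprime hC).symm).dvd_of_dvd_mul_left (H.card_mul_index.symm ▸ C.card_subgroup_dvd_card)
  have hd2 : H.index ∣ Nat.card C :=
    ((hCi.coprime hHi).symm).dvd_of_dvd_mul_right (C.card_mul_index.symm ▸ H.index_dvd_card)
  have he : Nat.card C = H.index := Nat.dvd_antisymm hd1 hd2
  have hC1 : C ≠ ⊥ := fun e => hHt (Subgroup.index_eq_one.1 (by rw [← he, e, Subgroup.card_bot]))
  have hcomp : Subgroup.IsComplement' H C :=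
    Subgroup.isComplement'_of_coprime (by rw [he, H.card_mul_index]) (hH.coprime hC)
  exact ⟨C, frobenius_of_fpf hcomp hH1 hC1 (h.fpf hH hC)⟩

theorem quotient_cyclic_case {Q : Type u} [Group Q] [Finite Q] [Group.IsSolvable Q] (h : NC A Q) {K : Subgroup Q}
    [K.Normal] (hK1 : K ≠ ⊥) (hK : PiNat Aᶜ (Nat.card K))
    (hKmax : ∀ N : Subgroup Q, N.Normal → PiNat Aᶜ (Nat.card N) → N ≤ K)
    {r : ℕ} (hr : r.Prime) (hrA : r ∈ A) (hrd : r ∣ Nat.card Q)
    (huniq : ∀ s : ℕ, s.Prime → ∀ R : Subgroup K, IsPGroup s R → ∀ x y : R, orderOf x = s → orderOf y = s →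
      y ∈ Subgroup.zpowers x) :
    PiNat A K.index := by
  haveI := Fact.mk hr
  obtain ⟨a, ha⟩ := exists_prime_orderOf_dvd_card' r hrd
  have haE : PiNat A (Nat.card (Subgroup.zpowers a)) := fun s hs hd => by
    rw [Nat.card_zpowers, ha, Nat.prime_dvd_prime_iff_eq hs hr] at hd
    rwa [hd]
  haveI hKnil : Group.IsNilpotent K := isNilpotent_of_fpf_element (h := a) (p := r)
    (by rw [← ha, pow_orderOf_eq_one])
    (h.compl.fpf hK (by rwa [compl_compl]) a (Subgroup.mem_zpowers a)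
      fun e => hr.ne_one (by rw [← ha, e, orderOf_one]))
  have hK2 : ¬ 2 ∣ Nat.card K := by
    intro h2
    haveI : Fact (Nat.Prime 2) := ⟨Nat.prime_two⟩
    obtain ⟨T⟩ : Nonempty (Sylow 2 K) := inferInstance
    haveI hTn : (T : Subgroup K).Normal :=
      Sylow.normal_of_normalizerCondition Group.normalizerCondition_of_isNilpotent T
    obtain ⟨z, hz⟩ := exists_prime_orderOf_dvd_card' (G := K) 2 h2
    have hmem : ∀ w : K, orderOf w = 2 → w ∈ (T : Subgroup K) := fun w hw => by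
      obtain ⟨T', hT'⟩ := (IsPGroup.of_card (n := 1) (by rw [Nat.card_zpowers, hw, pow_one]) :
        IsPGroup 2 (Subgroup.zpowers w)).exists_le_sylow
      haveI := Sylow.unique_of_normal T hTn
      rw [Subsingleton.elim T T']
      exact hT' (Subgroup.mem_zpowers w)
    refine h.commute hr Nat.prime_two hrA (hK 2 Nat.prime_two h2) ha
      (show orderOf (z : Q) = 2 by rw [Subgroup.orderOf_coe, hz]) ?_
    have hconj : orderOf (⟨a * (z : Q) * a⁻¹, ‹K.Normal›.conj_mem _ z.2 a⟩ : K) = 2 := by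
      rw [Subgroup.orderOf_mk, show orderOf (a * (z : Q) * a⁻¹) = orderOf (z : Q) from
        MulEquiv.orderOf_eq (MulAut.conj a) _, Subgroup.orderOf_coe, hz]
    obtain ⟨i, hi⟩ := Subgroup.mem_zpowers_iff.1 (huniq 2 Nat.prime_two _ T.2 ⟨z, hmem z hz⟩ ⟨_, hmem _ hconj⟩
      ((Subgroup.orderOf_coe _).symm.trans hz) ((Subgroup.orderOf_coe _).symm.trans hconj))
    have hi' : (z : Q) ^ i = a * (z : Q) * a⁻¹ := by
      have := congrArg (fun t : (T : Subgroup K) => ((t : K) : Q)) hi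
      simpa using this
    have hz2 : (z : Q) ^ (2 : ℤ) = 1 := by
      rw [zpow_two, ← pow_two, ← hz, ← Subgroup.orderOf_coe, pow_orderOf_eq_one]
    rcases Int.even_or_odd i with ⟨j, rfl⟩ | ⟨j, rfl⟩
    · exfalso
      rw [← two_mul, zpow_mul, hz2, one_zpow, eq_comm, conj_eq_one_iff] at hi'
      rw [← Subgroup.orderOf_coe, hi', orderOf_one] at hz
      norm_num at hz
    · rw [zpow_add, zpow_mul, hz2, one_zpow, one_mul, zpow_one] at hi'
      exact mul_inv_eq_iff_eq_mul.1 hi'.symm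
  haveI hZ : IsZGroup K := ⟨fun s hs P => by
    haveI := Fact.mk hs
    rcases pgroup_unique_sub P.2 (huniq s hs _ P.2) with hc | ⟨h2, n, ⟨e⟩⟩
    · exact hc
    · exfalso
      subst h2
      refine hK2 (dvd_trans ?_ (Subgroup.card_subgroup_dvd_card (P : Subgroup K)))
      haveI : NeZero (2 ^ (n + 1)) := ⟨by positivity⟩
      rw [Nat.card_congr e.toEquiv, Nat.card_eq_fintype_card, QuaternionGroup.card]
      exact dvd_mul_of_dvd_left (by norm_num) _⟩
  haveI hcyc : IsCyclic K := inferInstance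
  set C := Subgroup.centralizer (K : Set Q) with hC
  haveI hCn : C.Normal := Subgroup.normal_centralizer
  obtain ⟨u, s, hs, hu⟩ : ∃ (u : K) (s : ℕ), s.Prime ∧ orderOf u = s := by
    have : Nat.card K ≠ 1 := fun e => hK1 (Subgroup.card_eq_one.1 e)
    obtain ⟨s, hs, hsd⟩ := Nat.exists_prime_and_dvd this
    haveI := Fact.mk hs
    obtain ⟨u, hu⟩ := exists_prime_orderOf_dvd_card' s hsd
    exact ⟨u, s, hs, hu⟩
  have hsA : s ∉ A := hK s hs (hu ▸ orderOf_dvd_natCard u)
  have hCK : C ≤ K := by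
    refine hKmax C hCn fun t ht htd => ?_
    by_contra htA
    haveI := Fact.mk ht
    obtain ⟨c, hc⟩ := exists_prime_orderOf_dvd_card' (G := C) t htd
    exact h.commute ht hs (not_not.1 htA) hsA ((Subgroup.orderOf_coe _).trans hc)
      ((Subgroup.orderOf_coe _).trans hu) (Subgroup.mem_centralizer_iff.1 c.2 u u.2).symm
  intro t ht htd
  by_contra htA
  -- the quotient by `K` is abelian
  haveI := Fact.mk ht
  have hab : ∀ x y : Q, ((x * y * x⁻¹ * y⁻¹ : Q)) ∈ K := fun x y => hCK (by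
    have hker : x * y * x⁻¹ * y⁻¹ ∈ (MulAut.conjNormal : Q →* MulAut K).ker := by
      rw [MonoidHom.mem_ker, map_mul, map_mul, map_mul, map_inv, map_inv]
      have hcomm : ∀ f g : MulAut K, f * g = g * f := fun f g =>
        (IsCyclic.mulAutMulEquiv K).injective (by rw [map_mul, map_mul, mul_comm])
      rw [hcomm (MulAut.conjNormal x) (MulAut.conjNormal y), mul_inv_cancel_right, mul_inv_cancel]
    rw [hC, Subgroup.mem_centralizer_iff]
    intro k hk
    have := congrArg (fun t : MulAut K => ((t ⟨k, hk⟩ : K) : Q)) (MonoidHom.mem_ker.1 hker)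
    simp only [MulAut.conjNormal_apply, MulAut.one_apply] at this
    exact (mul_inv_eq_iff_eq_mul.1 this).symm)
  set π := QuotientGroup.mk' K
  obtain ⟨b, hb⟩ := exists_prime_orderOf_dvd_card' (G := Q ⧸ K) t htd
  have ha' : orderOf (π a) = r := by
    rcases (Nat.dvd_prime hr).1 (ha ▸ orderOf_map_dvd π a) with e | e
    · exfalso
      have haK : a ∈ K := (QuotientGroup.eq_one_iff a).1 (orderOf_eq_one_iff.1 e)
      exact hK r hr (ha ▸ Subgroup.orderOf_dvd_natCard _ haK) hrA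
    · exact e
  obtain ⟨b, rfl⟩ := QuotientGroup.mk'_surjective K b
  refine (h.quot π (QuotientGroup.mk'_surjective K)).commute hr ht hrA htA ha' hb ?_
  show π a * π b = π b * π a
  have h1 : π (a * b * a⁻¹ * b⁻¹) = 1 := (QuotientGroup.eq_one_iff _).2 (hab a b)
  rw [map_mul, map_mul, map_mul, map_inv, map_inv, mul_inv_eq_one, mul_inv_eq_iff_eq_mul] at h1
  exact h1

theorem main [Group.IsSolvable G] (h : NC A G) {p : ℕ} (hp : p.Prime) (hpA : p ∈ A) {N : Subgroup G} [N.Normal]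
    (hN1 : N ≠ ⊥) (hNp : IsPGroup p N) (hNc : IsMulCommutative N) (hB : ∃ b, b.Prime ∧ b ∉ A ∧ b ∣ Nat.card G) :
    (∃ C : Subgroup G, Cfsg.IsFrobeniusComplement C) ∨
    (∃ (H K : Subgroup G) (_ : H.Normal), K.Normal ∧ H < K ∧
      (∃ C : Subgroup ↥K, Cfsg.IsFrobeniusComplement C ∧ Cfsg.frobeniusKernel C = (H.subgroupOf K : Set ↥K)) ∧
      (∃ C : Subgroup (G ⧸ H), Cfsg.IsFrobeniusComplement C ∧ Cfsg.frobeniusKernel C = (K.map (QuotientGroup.mk' H) : Set (G ⧸ H)))) := by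
  haveI := Fact.mk hp
  obtain ⟨b, hb, hbA, hbd⟩ := hB
  set H := Cfsg.piCore A G with hH
  have hHA : PiNat A (Nat.card H) := piNat_card_piCore A
  have hH1 : H ≠ ⊥ := fun e => hN1 (eq_bot_iff.2 (e ▸ le_piCore (fun q hq hqd => by
    obtain ⟨k, hk⟩ := IsPGroup.iff_card.1 hNp
    rw [hk] at hqd
    rwa [(Nat.prime_dvd_prime_iff_eq hq hp).1 (hq.dvd_of_dvd_pow hqd)])))
  have hHt : H ≠ ⊤ := fun e => hbA (hHA b hb (by rwa [e, Subgroup.card_top]))
  by_cases hall : PiNat Aᶜ H.index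
  · obtain ⟨C, hC, -⟩ := frobenius_of_hall h hH1 hHt hHA hall
    exact Or.inl ⟨C, hC⟩
  obtain ⟨r, hr, hrd, hrA⟩ : ∃ r, r.Prime ∧ r ∣ H.index ∧ r ∈ A := by
    simp only [PiNat, not_forall] at hall
    obtain ⟨r, hr, hrd, hrA⟩ := hall
    exact ⟨r, hr, hrd, not_not.1 hrA⟩
  set π := QuotientGroup.mk' H with hπ
  have hπs : Function.Surjective π := QuotientGroup.mk'_surjective H
  have hQ : NC A (G ⧸ H) := h.quot π hπs
  haveI : Nontrivial (G ⧸ H) := QuotientGroup.nontrivial_iff.2 hHt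
  set Kb := Cfsg.piCore Aᶜ (G ⧸ H) with hKb
  set K := Kb.comap π with hK
  have hcardK : ∀ M : Subgroup (G ⧸ H), Nat.card (M.comap π) = Nat.card H * Nat.card M := fun M => by
    have h1 := (M.comap π).card_mul_index
    rw [Subgroup.index_comap_of_surjective _ hπs] at h1
    refine Nat.eq_of_mul_eq_mul_right (Nat.pos_of_ne_zero (M.index_ne_zero_of_finite)) ?_
    rw [h1, mul_assoc, M.card_mul_index, ← Subgroup.index_eq_card, H.card_mul_index]
  have hKbB : PiNat Aᶜ (Nat.card Kb) := piNat_card_piCore Aᶜ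
  have hKb1 : Kb ≠ ⊥ := by
    obtain ⟨M, q, hq, hM, -, -, hMq⟩ := exists_minimal_normal_pGroup (G := G ⧸ H)
    haveI := hM.1
    haveI := Fact.mk hq
    obtain ⟨k, hk⟩ := IsPGroup.iff_card.1 hMq
    by_cases hqA : q ∈ A
    · exfalso
      refine hM.2.1 (eq_bot_iff.2 fun x hx => ?_)
      obtain ⟨g, rfl⟩ := hπs x
      have hle : M.comap π ≤ H := by
        refine @le_piCore G _ A (M.comap π) (hM.1.comap _) ?_
        rw [hcardK, hk]
        exact hHA.mul fun s hs hd => by rwa [(Nat.prime_dvd_prime_iff_eq hs hq).1 (hs.dvd_of_dvd_pow hd)]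
      exact Subgroup.mem_bot.2 ((QuotientGroup.eq_one_iff g).2 (hle hx))
    · intro e
      exact hM.2.1 (eq_bot_iff.2 (e ▸ le_piCore (fun s hs hd => by
        rw [hk] at hd
        rw [(Nat.prime_dvd_prime_iff_eq hs hq).1 (hs.dvd_of_dvd_pow hd)]; exact hqA)))
  haveI hKbn : Kb.Normal := Cfsg.piCore_normal _ _
  haveI hKn : K.Normal := hKbn.comap _
  have hHK : H ≤ K := fun x hx => by
    rw [hK, Subgroup.mem_comap, show π x = 1 from (QuotientGroup.eq_one_iff x).2 hx]; exact one_mem _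
  have hHK' : H < K := lt_of_le_of_ne hHK fun e => hKb1 (Subgroup.card_eq_one.1 (by
    have := hcardK Kb
    rw [← hK, ← e] at this
    exact (Nat.eq_of_mul_eq_mul_left Nat.card_pos ((mul_one _).trans this)).symm))
  -- the lower Frobenius group
  have hNCK : NC A K := fun x y hx hy hxA hyA g e => h x y hx hy hxA hyA g (by rw [Subgroup.orderOf_coe, e])
  have hcardH : Nat.card (H.subgroupOf K) = Nat.card H := card_subgroupOf hHK
  have hidxH : (H.subgroupOf K).index = Nat.card Kb := by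
    have h1 := (H.subgroupOf K).card_mul_index
    rw [hcardH, hK, hcardK Kb] at h1
    exact Nat.eq_of_mul_eq_mul_left Nat.card_pos h1
  obtain ⟨C, hC, hCker⟩ := frobenius_of_hall (A := A) hNCK (H := H.subgroupOf K)
    (fun e => hH1 (Subgroup.card_eq_one.1 (by rw [← hcardH, e, Subgroup.card_bot])))
    (fun e => hKb1 (Subgroup.card_eq_one.1 (by rw [← hidxH, e, Subgroup.index_top])))
    (by rw [hcardH]; exact hHA) (by rw [hidxH]; exact hKbB)
  -- the complement is isomorphic to the upper kernel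
  have hdis : C ⊓ H.subgroupOf K = ⊥ := by
    rw [eq_bot_iff]
    rintro x ⟨hxC, hxH⟩
    have hxH' : x ∈ Cfsg.frobeniusKernel C := hCker ▸ hxH
    rcases hxH' with e | e
    · exact Subgroup.mem_bot.2 e
    · exact absurd (by simpa using hxC) (e 1)
  let f : ↥C →* ↥Kb := (π.comp ((Subgroup.subtype K).comp C.subtype)).codRestrict Kb fun c => c.1.2
  have hfinj : Function.Injective f := (injective_iff_map_eq_one f).2 fun c hc => by
    have h2 : (c : K) ∈ C ⊓ H.subgroupOf K :=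
      ⟨c.2, (QuotientGroup.eq_one_iff (((c : ↥K)) : G)).1 (congrArg Subtype.val hc :)⟩
    rw [hdis, Subgroup.mem_bot] at h2
    exact Subtype.ext h2
  have hfbij : Function.Bijective f := by
    obtain ⟨Kk, hKk, -, hcc⟩ := frobenius_theorem hC
    have hKe : Kk = H.subgroupOf K := SetLike.coe_injective (hKk.trans hCker)
    refine (Nat.bijective_iff_injective_and_card f).2 ⟨hfinj, ?_⟩
    rw [← hidxH, ← hKe]
    exact (Subgroup.IsComplement'.symm hcc).index_eq_card.symm
  let ef : ↥C ≃* ↥Kb := MulEquiv.ofBijective f hfbij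
  have hCB : PiNat Aᶜ (Nat.card C) := by rwa [Nat.card_congr ef.toEquiv]
  set CG := C.map K.subtype with hCG
  have hNA : PiNat A (Nat.card N) := fun q hq hqd => by
    obtain ⟨k, hk⟩ := IsPGroup.iff_card.1 hNp
    rw [hk] at hqd
    rwa [(Nat.prime_dvd_prime_iff_eq hq hp).1 (hq.dvd_of_dvd_pow hqd)]
  haveI := hNc
  have huniq : ∀ s : ℕ, s.Prime → ∀ R : Subgroup Kb, IsPGroup s R → ∀ x y : R, orderOf x = s → orderOf y = s →
      y ∈ Subgroup.zpowers x := by
    intro s hs R hR x y hx hy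
    haveI := Fact.mk hs
    let g : ↥Kb →* G := K.subtype.comp (C.subtype.comp ef.symm.toMonoidHom)
    have hg : Function.Injective g := fun u v huv =>
      ef.symm.injective (Subtype.ext (Subtype.ext huv))
    have e := R.equivMapOfInjective g hg
    have hle : R.map g ≤ CG := by
      rintro _ ⟨v, -, rfl⟩
      exact Subgroup.mem_map_of_mem _ (ef.symm v).2
    have hnor : CG ≤ Subgroup.normalizer (N : Set G) := by rw [Subgroup.normalizer_eq_top]; exact le_top
    obtain ⟨i, hi⟩ := Subgroup.mem_zpowers_iff.1 (CfsgLib.OddLocal.CN.unique_in_pgroup (r := s) hN1 hnor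
      (h.fpf hNA (by rw [hCG, card_map_subtype]; exact hCB)) hle (hR.map g) (e x) (e y)
      (by rw [MulEquiv.orderOf_eq, hx]) (by rw [MulEquiv.orderOf_eq, hy]))
    exact ⟨i, e.injective ((map_zpow e x i).trans hi)⟩
  have hKidx : PiNat A Kb.index := quotient_cyclic_case hQ hKb1 hKbB
    (fun M hM hMB => @le_piCore (G ⧸ H) _ Aᶜ M hM hMB) hr hrA hrd huniq
  obtain ⟨C2, hC2, hC2k⟩ := frobenius_of_hall hQ.compl (H := Kb) hKb1
    (fun e => hKbB r hr (by rw [e, Subgroup.card_top]; exact hrd) hrA)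
    hKbB (by rwa [compl_compl])
  refine Or.inr ⟨H, K, Cfsg.piCore_normal _ _, hKn, hHK', ⟨C, hC, hCker⟩, C2, hC2, ?_⟩
  rw [hC2k, hK, Subgroup.map_comap_eq_self_of_surjective hπs]


/-- A finite solvable group whose prime graph (prime divisors of the order, two distinct primes joined when there is an element of order their product) is disconnected is a Frobenius group or a 2-Frobenius group (it has normal subgroups H < K with K a Frobenius group with kernel H and G/H a Frobenius group with kernel K/H). -/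
theorem result {G : Type*} [Group G] [Finite G] (hsol : Group.IsSolvable G)
    (hdisc : (∃ A : Set ℕ, (∃ a ∈ A, a.Prime ∧ a ∣ Nat.card G) ∧ (∃ b ∉ A, b.Prime ∧ b ∣ Nat.card G) ∧
      ∀ a ∈ A, ∀ b ∉ A, a.Prime → b.Prime → a ∣ Nat.card G → b ∣ Nat.card G → ¬ ∃ g : G, orderOf g = a * b)) :
    (∃ C : Subgroup G, Cfsg.IsFrobeniusComplement C) ∨
    (∃ (H K : Subgroup G) (_ : H.Normal), K.Normal ∧ H < K ∧
      (∃ C : Subgroup ↥K, Cfsg.IsFrobeniusComplement C ∧ Cfsg.frobeniusKernel C = (H.subgroupOf K : Set ↥K)) ∧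
      (∃ C : Subgroup (G ⧸ H), Cfsg.IsFrobeniusComplement C ∧ Cfsg.frobeniusKernel C = (K.map (QuotientGroup.mk' H) : Set (G ⧸ H)))) := by
  haveI := hsol
  obtain ⟨A, ⟨a, haA, ha, had⟩, ⟨b, hbA, hb, hbd⟩, hA⟩ := hdisc
  have hnc : NC A G := fun x y hx hy hxA hyA g e => hA x hxA y hyA hx hy
    ((dvd_mul_right x y).trans (e ▸ orderOf_dvd_natCard g)) ((dvd_mul_left y x).trans (e ▸ orderOf_dvd_natCard g)) ⟨g, e⟩
  haveI : Nontrivial G := Finite.one_lt_card_iff_nontrivial.1 (lt_of_lt_of_le ha.one_lt (Nat.le_of_dvd Nat.card_pos had))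
  obtain ⟨N, p, hp, hN, hNc, -, hNp⟩ := CfsgLib.Solv.exists_minimal_normal_pGroup (G := G)
  haveI := hN.1
  by_cases hpA : p ∈ A
  · exact main hnc hp hpA hN.2.1 hNp hNc ⟨b, hb, hbA, hbd⟩
  · exact main (A := Aᶜ) hnc.compl hp hpA hN.2.1 hNp hNc ⟨a, ha, fun h => h haA, had⟩

end Cfsg.Agent.S3857
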