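import Cfsg.Statements.S3858
import Cfsg.Agent.Inv.CharP2

set_option autoImplicit false
open Cfsg

namespace Cfsg.Agent.S3858

theorem normalizer_ne_top {G : Type*} [Group G] [Finite G] (T : Subgroup G) [T.Normal] (hT : IsSimpleGroup T) (hna : ¬ IsMulCommutative T)
    {r : ℕ} [Fact r.Prime] (R : Sylow r G) (hR0 : (R : Subgroup G) ⊓ T ≠ ⊥) :
    Subgroup.normalizer (((R : Subgroup G) ⊓ T : Subgroup G) : Set G) ≠ ⊤ := by
  intro htop
  haveI := hT
  haveI : ((R : Subgroup G) ⊓ T).Normal := Subgroup.normalizer_eq_top_iff.1 htop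
  rcases hT.eq_bot_or_eq_top_of_normal (((R : Subgroup G) ⊓ T).subgroupOf T) inferInstance with h | h
  · apply hR0
    rw [eq_bot_iff]
    intro x hx
    have hm : (⟨x, hx.2⟩ : T) ∈ ((R : Subgroup G) ⊓ T).subgroupOf T := hx
    rw [h, Subgroup.mem_bot] at hm
    exact congrArg Subtype.val hm
  · rw [Subgroup.subgroupOf_eq_top] at h
    haveI : Nontrivial T := hT.toNontrivial
    have hc : Subgroup.center T ≠ ⊥ :=
      (Subgroup.nontrivial_iff_ne_bot _).1 (IsPGroup.to_le R.2 (h.trans inf_le_left)).center_nontrivial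
    rcases hT.eq_bot_or_eq_top_of_normal (Subgroup.center T) inferInstance with e | e
    · exact hc e
    · exact hna ⟨⟨fun a b => Subgroup.mem_center_iff.1 (e.symm ▸ Subgroup.mem_top b : b ∈ Subgroup.center T) a⟩⟩

theorem normalizer_le {G : Type*} [Group G] (T : Subgroup G) [T.Normal] (R : Subgroup G) :
    Subgroup.normalizer (R : Set G) ≤ Subgroup.normalizer ((R ⊓ T : Subgroup G) : Set G) := by
  intro g hg
  refine Subgroup.mem_normalizer_iff.2 fun x => and_congr ((Subgroup.mem_normalizer_iff.1 hg) x) ?_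
  exact ⟨fun h => Subgroup.Normal.conj_mem ‹T.Normal› x h g, fun h => by
    simpa [mul_assoc] using Subgroup.Normal.conj_mem ‹T.Normal› _ h g⁻¹⟩


/-- Let G be a finite group with a normal non-abelian simple subgroup T whose centralizer is trivial (G almost simple with socle T), r a prime and R a Sylow r-subgroup of G meeting T nontrivially. Then R lies in exactly one maximal subgroup of G if and only if G has exactly one conjugacy class of maximal subgroups whose index is prime to r. -/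
theorem result {G : Type*} [Group G] [Finite G] (T : Subgroup G) [T.Normal] (hT : IsSimpleGroup T) (hna : ¬ IsMulCommutative T)
    (hC : Subgroup.centralizer (T : Set G) = ⊥) {r : ℕ} [Fact r.Prime] (R : Sylow r G) (hR0 : (R : Subgroup G) ⊓ T ≠ ⊥) :
    (∃! M : Subgroup G, IsCoatom M ∧ (R : Subgroup G) ≤ M) ↔
      ((∃ M : Subgroup G, IsCoatom M ∧ ¬ r ∣ M.index) ∧
        ∀ M₁ M₂ : Subgroup G, IsCoatom M₁ → ¬ r ∣ M₁.index → IsCoatom M₂ → ¬ r ∣ M₂.index → ∃ g : G, M₂ = M₁.map (MulAut.conj g).toMonoidHom) := by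
  classical
  have hindex : ∀ M : Subgroup G, ¬ r ∣ M.index → ∃ g : G, (R : Subgroup G) ≤ M.map (MulAut.conj g).toMonoidHom := by
    intro M hM
    obtain ⟨P⟩ : Nonempty (Sylow r M) := inferInstance
    obtain ⟨Q, hQ⟩ := (P.2.map M.subtype).exists_le_sylow
    have hQM : (Q : Subgroup G) ≤ M := by
      have hc : Nat.card (Q : Subgroup G) ≤ Nat.card ((P : Subgroup M).map M.subtype) := by
        rw [Subgroup.card_map_of_injective M.subtype_injective, Q.card_eq_multiplicity, P.card_eq_multiplicity,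
          ← Subgroup.card_mul_index M, Nat.factorization_mul Nat.card_pos.ne' Subgroup.index_ne_zero_of_finite,
          Finsupp.add_apply, Nat.factorization_eq_zero_of_not_dvd hM, add_zero]
      rw [← Subgroup.eq_of_le_of_card_ge hQ hc]
      exact Subgroup.map_subtype_le _
    obtain ⟨g, hg⟩ := MulAction.exists_smul_eq G Q R
    exact ⟨g, by rw [← hg]; exact Subgroup.map_mono hQM⟩
  have hco : ∀ (M : Subgroup G) (g : G), IsCoatom M → IsCoatom (M.map (MulAut.conj g).toMonoidHom) := fun M g h =>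
    ((MulAut.conj g).mapSubgroup.isCoatom_iff M).2 h
  have hni : ∀ M : Subgroup G, (R : Subgroup G) ≤ M → ¬ r ∣ M.index := fun M h hd =>
    R.not_dvd_index (hd.trans (Subgroup.index_dvd_of_le h))
  have hback : ∀ (M : Subgroup G) (a b : G), (M.map (MulAut.conj a).toMonoidHom).map (MulAut.conj b).toMonoidHom = M.map (MulAut.conj (b * a)).toMonoidHom := by
    intro M a b; rw [Subgroup.map_map, map_mul]; rfl
  constructor
  · rintro ⟨M, ⟨hM, hRM⟩, hu⟩
    refine ⟨⟨M, hM, hni M hRM⟩, fun M₁ M₂ h1 h1' h2 h2' => ?_⟩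
    obtain ⟨a, ha⟩ := hindex M₁ h1'
    obtain ⟨b, hb⟩ := hindex M₂ h2'
    refine ⟨b⁻¹ * a, ?_⟩
    have e := (hu _ ⟨hco M₁ a h1, ha⟩).trans (hu _ ⟨hco M₂ b h2, hb⟩).symm
    rw [← hback, e, hback, inv_mul_cancel, map_one]
    exact (Subgroup.map_id M₂).symm
  · rintro ⟨⟨M, hM, hMi⟩, huniq⟩
    have hRN : (R : Subgroup G) ≤ Subgroup.normalizer (((R : Subgroup G) ⊓ T : Subgroup G) : Set G) :=
      Subgroup.le_normalizer.trans (normalizer_le T _)
    obtain ⟨M₀, hM₀, hle⟩ := (eq_top_or_exists_le_coatom _).resolve_left (normalizer_ne_top T hT hna R hR0)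
    refine ⟨M₀, ⟨hM₀, hRN.trans hle⟩, fun M₁ ⟨h1, hR1⟩ => ?_⟩
    obtain ⟨g, hg⟩ := huniq M₀ M₁ hM₀ (hni _ (hRN.trans hle)) h1 (hni _ hR1)
    have hle1 : ((g • R : Sylow r G) : Subgroup G) ≤ M₁ := by
      rw [hg]
      exact Subgroup.map_mono (hRN.trans hle)
    obtain ⟨m, hm⟩ := MulAction.exists_smul_eq ↥M₁ (R.subtype hR1) ((g • R).subtype hle1)
    rw [Sylow.smul_subtype] at hm
    have h2 : (m : G) • R = g • R := Sylow.subtype_injective hm
    have h3 : g⁻¹ * (m : G) ∈ M₀ := hle (normalizer_le T _ (Sylow.smul_eq_iff_mem_normalizer.1 (by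
      rw [mul_smul, h2, inv_smul_smul])))
    rw [hg] at hR1 ⊢
    have hm1 : (m : G) ∈ M₀.map (MulAut.conj g).toMonoidHom := hg ▸ m.2
    obtain ⟨x, hx, hxm⟩ := hm1
    have hxm' : g * x * g⁻¹ = (m : G) := hxm
    have hgM : g ∈ M₀ := by
      rw [← hxm', show g⁻¹ * (g * x * g⁻¹) = x * g⁻¹ by group] at h3
      simpa using mul_mem (inv_mem h3) hx
    ext y
    constructor
    · rintro ⟨z, hz, rfl⟩
      exact mul_mem (mul_mem hgM hz) (inv_mem hgM)
    · intro hy
      exact ⟨g⁻¹ * y * g, mul_mem (mul_mem (inv_mem hgM) hy) hgM, show g * (g⁻¹ * y * g) * g⁻¹ = y by group⟩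

end Cfsg.Agent.S3858
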