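import Cfsg.Statements.S3859
import Cfsg.Agent.Inv.CharP2

set_option autoImplicit false
open Cfsg

namespace Cfsg.Agent.S3859

theorem normalizer_ne_top {G : Type*} [Group G] [Finite G] (T : Subgroup G) [T.Normal] (hT : IsSimpleGroup T) (hna : ¬ IsMulCommutative T)
    {r : ℕ} [Fact r.Prime] (R : Sylow r G) (hR0 : (R : Subgroup G) ⊓ T ≠ ⊥) :
    Subgroup.normalizer (((R : Subgroup G) ⊓ T : Subgroup G) : Set G) ≠ ⊤ := by
  intro htop
  haveI := hT
  haveI : ((R : Subgroup G) ⊓ T).Normal := Subgroup.normalizer_eq_top_iff.1 htop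
  rcases hT.eq_bot_or_eq_top_of_normal (((R : Subgroup G) ⊓ T).subgroupOf T) inferInstance with h | h
  · apply hR0
    rw [eq_bot_iff]
    intro x hx
    have hm : (⟨x, hx.2⟩ : T) ∈ ((R : Subgroup G) ⊓ T).subgroupOf T := hx
    rw [h, Subgroup.mem_bot] at hm
    exact congrArg Subtype.val hm
  · rw [Subgroup.subgroupOf_eq_top] at h
    haveI : Nontrivial T := hT.toNontrivial
    have hc : Subgroup.center T ≠ ⊥ :=
      (Subgroup.nontrivial_iff_ne_bot _).1 (IsPGroup.to_le R.2 (h.trans inf_le_left)).center_nontrivial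
    rcases hT.eq_bot_or_eq_top_of_normal (Subgroup.center T) inferInstance with e | e
    · exact hc e
    · exact hna ⟨⟨fun a b => Subgroup.mem_center_iff.1 (e.symm ▸ Subgroup.mem_top b : b ∈ Subgroup.center T) a⟩⟩

theorem normalizer_le {G : Type*} [Group G] (T : Subgroup G) [T.Normal] (R : Subgroup G) :
    Subgroup.normalizer (R : Set G) ≤ Subgroup.normalizer ((R ⊓ T : Subgroup G) : Set G) := by
  intro g hg
  refine Subgroup.mem_normalizer_iff.2 fun x => and_congr ((Subgroup.mem_normalizer_iff.1 hg) x) ?_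
  exact ⟨fun h => Subgroup.Normal.conj_mem ‹T.Normal› x h g, fun h => by
    simpa [mul_assoc] using Subgroup.Normal.conj_mem ‹T.Normal› _ h g⁻¹⟩


/-- Let G be a finite group with a normal non-abelian simple subgroup T whose centralizer is trivial (G almost simple with socle T), r a prime and R a Sylow r-subgroup of G meeting T nontrivially. If R lies in exactly one maximal subgroup of G, then G/T is an r-group. -/
theorem result {G : Type*} [Group G] [Finite G] (T : Subgroup G) [T.Normal] (hT : IsSimpleGroup T) (hna : ¬ IsMulCommutative T)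
    (hC : Subgroup.centralizer (T : Set G) = ⊥) {r : ℕ} [Fact r.Prime] (R : Sylow r G) (hR0 : (R : Subgroup G) ⊓ T ≠ ⊥)
    (huniq : ∃! M : Subgroup G, IsCoatom M ∧ (R : Subgroup G) ≤ M) : IsPGroup r (G ⧸ T) := by
  classical
  obtain ⟨M, ⟨hM, hRM⟩, hMu⟩ := huniq
  obtain ⟨P, hP⟩ := CfsgLib.Inv.sylow_inf_normal R T
  have hfr : Subgroup.normalizer (((R : Subgroup G) ⊓ T : Subgroup G) : Set G) ⊔ T = ⊤ := by
    rw [← hP]; exact Sylow.normalizer_sup_eq_top P
  set N := Subgroup.normalizer (((R : Subgroup G) ⊓ T : Subgroup G) : Set G) with hN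
  have hRN : (R : Subgroup G) ≤ N := Subgroup.le_normalizer.trans (normalizer_le T _)
  have hNM : N ≤ M := by
    obtain ⟨M', hM', hle⟩ := (eq_top_or_exists_le_coatom N).resolve_left (normalizer_ne_top T hT hna R hR0)
    rw [← hMu M' ⟨hM', hRN.trans hle⟩]; exact hle
  have htop : (R : Subgroup G) ⊔ T = ⊤ := by
    refine (eq_top_or_exists_le_coatom _).resolve_right ?_
    rintro ⟨M', hM', hle⟩
    have : M' = M := hMu M' ⟨hM', le_sup_left.trans hle⟩
    subst this
    exact hM.1 (eq_top_iff.2 (hfr ▸ sup_le hNM (le_sup_right.trans hle)))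
  have hsurj : Function.Surjective ((QuotientGroup.mk' T).comp (R : Subgroup G).subtype) := by
    intro q
    obtain ⟨g, rfl⟩ := QuotientGroup.mk'_surjective T q
    obtain ⟨a, ha, b, hb, rfl⟩ := Subgroup.mem_sup_of_normal_right.1 (htop.symm ▸ Subgroup.mem_top g : g ∈ (R : Subgroup G) ⊔ T)
    exact ⟨⟨a, ha⟩, by rw [MonoidHom.comp_apply, map_mul, show QuotientGroup.mk' T b = 1 from (QuotientGroup.eq_one_iff b).2 hb, mul_one]; rfl⟩
  exact R.2.of_surjective _ hsurj

end Cfsg.Agent.S3859
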