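import Cfsg.Statements.S3861
import Cfsg.Agent.Inv.BaerSuzuki
import Cfsg.Agent.Inv.Dihedral
import Cfsg.Agent.Solv.CoprimeAction

set_option autoImplicit false
open Cfsg
open scoped Pointwise

namespace Cfsg.Agent.S3861

theorem odd_of_no_real {Q : Type*} [Group Q] [Finite Q] (hO : Cfsg.pCore 2 Q = ⊥)
    (h : ∀ x : Q, x ≠ 1 → Odd (orderOf x) → ¬ IsConj x x⁻¹) : ¬ 2 ∣ Nat.card Q := by
  intro hd
  haveI : Fact (Nat.Prime 2) := ⟨Nat.prime_two⟩
  obtain ⟨t, ht⟩ := exists_prime_orderOf_dvd_card' 2 hd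
  set Ω : Set (Subgroup Q) := Set.range fun g : Q => Subgroup.zpowers (g * t * g⁻¹) with hΩ
  have hconj : ∀ Y ∈ Ω, ∀ g : Q, Y.map (MulAut.conj g).toMonoidHom ∈ Ω := by
    rintro _ ⟨a, rfl⟩ g
    refine ⟨g * a, ?_⟩
    show Subgroup.zpowers _ = (Subgroup.zpowers _).map _
    rw [MonoidHom.map_zpowers]
    congr 1
    show g * a * t * (g * a)⁻¹ = g * (a * t * a⁻¹) * g⁻¹
    group
  have hpair : ∀ x y : Q, orderOf x = 2 → orderOf y = 2 → IsPGroup 2 ↥(Subgroup.zpowers x ⊔ Subgroup.zpowers y) := by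
    intro x y hx hy
    obtain ⟨k, m, hm, hkm⟩ := Nat.exists_eq_two_pow_mul_odd (orderOf_pos (x * y)).ne'
    have ha : (x * y) ^ (2 ^ k) = 1 := by
      by_contra hne
      refine h _ hne ?_ (isConj_iff.2 ⟨x, ?_⟩)
      · refine Odd.of_dvd_nat hm (orderOf_dvd_of_pow_eq_one ?_)
        rw [← pow_mul, ← hkm, pow_orderOf_eq_one]
      · have h1 := CfsgLib.Inv.pair_flip hx hy ((2 ^ k : ℕ) : ℤ)
        rw [zpow_natCast] at h1
        calc x * (x * y) ^ (2 ^ k) * x⁻¹ = x * ((x * y) ^ (2 ^ k) * x) := by rw [CfsgLib.Inv.invol_inv hx]; group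
          _ = x * (x * (x * y) ^ (-((2 ^ k : ℕ) : ℤ))) := by rw [h1]
          _ = _ := by rw [← mul_assoc, CfsgLib.Inv.invol_mul_self hx, one_mul, zpow_neg, zpow_natCast]
    have hcl : Subgroup.zpowers x ⊔ Subgroup.zpowers y ≤ Subgroup.closure ({x, y} : Set Q) :=
      sup_le (Subgroup.zpowers_le.2 (Subgroup.subset_closure (by simp))) (Subgroup.zpowers_le.2 (Subgroup.subset_closure (by simp)))
    rintro ⟨d, hd⟩
    rcases (CfsgLib.Inv.mem_pair_iff hx hy).1 (hcl hd) with ⟨i, rfl⟩ | ⟨i, rfl⟩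
    · refine ⟨k, Subtype.ext ?_⟩
      show ((x * y) ^ i) ^ (2 ^ k) = 1
      rw [← zpow_natCast, zpow_comm, zpow_natCast, ha, one_zpow]
    · refine ⟨1, Subtype.ext ?_⟩
      show (x * (x * y) ^ i) ^ (2 ^ 1) = 1
      rw [pow_one, pow_two, CfsgLib.Inv.refl_mul_refl hx hy, sub_self, zpow_zero]
  have hp := CfsgLib.Inv.baer_suzuki (p := 2) Ω hconj (by
    rintro _ ⟨a, rfl⟩ _ ⟨b, rfl⟩
    exact hpair _ _ (CfsgLib.Inv.invol_conj ht a) (CfsgLib.Inv.invol_conj ht b))
  haveI : (sSup Ω).Normal := by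
    refine ⟨fun n hn g => ?_⟩
    have hle : (sSup Ω).map (MulAut.conj g).toMonoidHom ≤ sSup Ω := by
      rw [Subgroup.map_le_iff_le_comap]
      refine sSup_le fun Y hY => ?_
      rw [← Subgroup.map_le_iff_le_comap]
      exact le_sSup (hconj Y hY g)
    exact hle ⟨n, hn, rfl⟩
  have h1 : t ∈ sSup Ω := (le_sSup (show Subgroup.zpowers ((1 : Q) * t * 1⁻¹) ∈ Ω from ⟨1, rfl⟩)) (by simp)
  have h2 := CfsgLib.Solv.le_pCore hp h1
  rw [hO, Subgroup.mem_bot] at h2
  exact CfsgLib.Inv.invol_ne_one ht h2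


/-- A finite group G has no non-identity element of odd order that is conjugate to its inverse if and only if the Sylow 2-subgroups of G are normal. -/
theorem result {G : Type*} [Group G] [Finite G] (P : Sylow 2 G) : (∀ x : G, x ≠ 1 → Odd (orderOf x) → ¬ IsConj x x⁻¹) ↔ (P : Subgroup G).Normal := by
  classical
  haveI : Fact (Nat.Prime 2) := ⟨Nat.prime_two⟩
  constructor
  · intro h
    haveI hNn := CfsgLib.Solv.pCore_normal G 2
    set N := Cfsg.pCore 2 G with hN
    have hN2 : IsPGroup 2 N := CfsgLib.Solv.pCore_isPGroup G 2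
    obtain ⟨m, hm⟩ := hN2.exists_card_eq
    have hQ : ¬ 2 ∣ Nat.card (G ⧸ N) := by
      refine odd_of_no_real CfsgLib.Solv.pCore_quotient_self fun xq hxq hodd hreal => ?_
      obtain ⟨y, rfl⟩ := QuotientGroup.mk'_surjective N xq
      obtain ⟨gq, hgq⟩ := isConj_iff.1 hreal
      obtain ⟨g, rfl⟩ := QuotientGroup.mk'_surjective N gq
      -- an odd order preimage
      obtain ⟨k, o, ho, hko⟩ := Nat.exists_eq_two_pow_mul_odd (orderOf_pos y).ne'
      obtain ⟨b, hb⟩ := exists_pow_eq_self_of_coprime (x := QuotientGroup.mk' N y) (n := 2 ^ k)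
        (Nat.Coprime.pow_left k (Nat.coprime_two_left.2 hodd))
      set x := (y ^ (2 ^ k)) ^ b with hx
      have hxq' : QuotientGroup.mk' N x = QuotientGroup.mk' N y := by rw [hx, map_pow, map_pow]; exact hb
      have hxo : Odd (orderOf x) := by
        refine Odd.of_dvd_nat ho (orderOf_dvd_of_pow_eq_one ?_)
        rw [hx, ← pow_mul, ← pow_mul, show 2 ^ k * (b * o) = orderOf y * b by rw [hko]; ring, pow_mul, pow_orderOf_eq_one, one_pow]
      rw [← hxq'] at hgq hxq
      set X := Subgroup.zpowers x with hX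
      set Y := Subgroup.zpowers (g * x * g⁻¹) with hY
      have hmem : g * x * g⁻¹ * x ∈ N := by
        rw [← QuotientGroup.eq_one_iff]
        show QuotientGroup.mk' N _ = 1
        rw [map_mul, map_mul, map_mul, map_inv, hgq, inv_mul_cancel]
      have hXY : X ⊔ N = Y ⊔ N := by
        refine le_antisymm (sup_le ?_ le_sup_right) (sup_le ?_ le_sup_right)
        · rw [hX, Subgroup.zpowers_le, show x = (g * x * g⁻¹)⁻¹ * (g * x * g⁻¹ * x) by group]
          exact mul_mem (inv_mem (Subgroup.mem_sup_left (Subgroup.mem_zpowers _))) (Subgroup.mem_sup_right hmem)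
        · rw [hY, Subgroup.zpowers_le, show g * x * g⁻¹ = (g * x * g⁻¹ * x) * x⁻¹ by group]
          exact mul_mem (Subgroup.mem_sup_right hmem) (inv_mem (Subgroup.mem_sup_left (Subgroup.mem_zpowers _)))
      have hnorm : ∀ H : Subgroup G, H ≤ Subgroup.normalizer (N : Set G) := fun H => by
        rw [Subgroup.normalizer_eq_top_iff.2 hNn]; exact le_top
      have hcx : (Nat.card X).Coprime (Nat.card N) := by
        rw [hX, Nat.card_zpowers, hm]; exact (Nat.coprime_two_right.2 hxo).pow_right m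
      have hcy : (Nat.card Y).Coprime (Nat.card N) := by
        rw [hY, Nat.card_zpowers,
          show orderOf (g * x * g⁻¹) = orderOf x from orderOf_injective (MulAut.conj g).toMonoidHom (MulAut.conj g).injective x, hm]
        exact (Nat.coprime_two_right.2 hxo).pow_right m
      obtain ⟨c, hc, hcXY⟩ := CfsgLib.Solv.conj_complement_in_sup' (hnorm X) (hnorm Y) hXY hcx hcy (.inr inferInstance)
      -- adjust the conjugator
      have hz : c⁻¹ * (g * x * g⁻¹) * c ∈ X := by
        have h1 : g * x * g⁻¹ ∈ MulAut.conj c • X := by rw [hcXY]; exact Subgroup.mem_zpowers _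
        exact CfsgLib.Solv.mem_conj_smul_iff.1 h1
      have hcq : Commute (QuotientGroup.mk' N c) (QuotientGroup.mk' N x) := by
        have hle : X ⊔ N ≤ (Subgroup.centralizer ({QuotientGroup.mk' N x} : Set (G ⧸ N))).comap (QuotientGroup.mk' N) := by
          refine sup_le (Subgroup.zpowers_le.2 (Subgroup.mem_centralizer_singleton_iff.2 rfl)) fun n hn => ?_
          rw [Subgroup.mem_comap, show QuotientGroup.mk' N n = 1 from (QuotientGroup.eq_one_iff n).2 hn]
          exact one_mem _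
        exact (Subgroup.mem_centralizer_singleton_iff.1 (hle hc))
      have hval : c⁻¹ * (g * x * g⁻¹) * c * x ∈ N := by
        rw [← QuotientGroup.eq_one_iff]
        show QuotientGroup.mk' N _ = 1
        rw [map_mul, map_mul, map_mul, map_mul, map_mul, map_inv, map_inv, hgq,
          mul_assoc _ (QuotientGroup.mk' N x)⁻¹, hcq.symm.inv_left.eq, ← mul_assoc, inv_mul_cancel, one_mul, inv_mul_cancel]
      have h1 : c⁻¹ * (g * x * g⁻¹) * c * x = 1 := by
        have hm' : c⁻¹ * (g * x * g⁻¹) * c * x ∈ X ⊓ N := ⟨mul_mem hz (Subgroup.mem_zpowers x), hval⟩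
        rwa [Subgroup.inf_eq_bot_of_coprime hcx, Subgroup.mem_bot] at hm'
      refine h x (fun e => hxq (by rw [e, map_one])) hxo (isConj_iff.2 ⟨c⁻¹ * g, ?_⟩)
      rw [← eq_inv_iff_mul_eq_one.2 h1] at *
      group
    have hidx : ¬ 2 ∣ N.index := hQ
    have hle : (P : Subgroup G) ≤ N := fun z hz => by
      by_contra hzN
      obtain ⟨j, hj⟩ := P.2 ⟨z, hz⟩
      have hj' : z ^ (2 ^ j) = 1 := congrArg Subtype.val hj
      have hq : orderOf (QuotientGroup.mk' N z) ∣ 2 ^ j := orderOf_dvd_of_pow_eq_one (by rw [← map_pow, hj', map_one])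
      obtain ⟨i, -, hi⟩ := (Nat.dvd_prime_pow Nat.prime_two).1 hq
      rcases Nat.eq_zero_or_pos i with rfl | hi0
      · exact hzN ((QuotientGroup.eq_one_iff z).1 (orderOf_eq_one_iff.1 (by simpa using hi)))
      · exact hQ ((dvd_pow_self 2 hi0.ne').trans (hi ▸ orderOf_dvd_natCard _))
    rw [le_antisymm hle (CfsgLib.Solv.pCore_le_sylow P)]
    exact hNn
  · intro hP x hx hodd hreal
    haveI := hP
    obtain ⟨g, hg⟩ := isConj_iff.1 hreal
    have hQodd : Odd (Nat.card (G ⧸ (P : Subgroup G))) := by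
      rw [← Nat.not_even_iff_odd, even_iff_two_dvd, ← Subgroup.index_eq_card]
      exact P.not_dvd_index
    set q := QuotientGroup.mk' (P : Subgroup G) x with hq
    set c := QuotientGroup.mk' (P : Subgroup G) g with hc
    have hcq : c * q * c⁻¹ = q⁻¹ := by rw [hc, hq, ← map_inv, ← map_mul, ← map_mul, hg, map_inv]
    have h2 : Commute (c ^ 2) q := by
      show c ^ 2 * q = q * c ^ 2
      have e : c * q⁻¹ * c⁻¹ = q := by rw [← inv_inj, ← conj_inv, inv_inv, hcq]
      calc c ^ 2 * q = c * (c * q * c⁻¹) * c := by rw [pow_two]; group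
        _ = c * q⁻¹ * c⁻¹ * c ^ 2 := by rw [hcq, pow_two]; group
        _ = q * c ^ 2 := by rw [e]
    obtain ⟨m, hm⟩ := Odd.of_dvd_nat hQodd (orderOf_dvd_natCard c)
    have hcc : Commute c q := by
      have h' : Commute ((c ^ 2) ^ (m + 1)) q := h2.pow_left _
      rwa [← pow_mul, show 2 * (m + 1) = orderOf c + 1 by omega, pow_succ, pow_orderOf_eq_one, one_mul] at h'
    rw [hcc.eq, mul_inv_cancel_right] at hcq
    have hq2 : q ^ 2 = 1 := by rw [pow_two]; exact mul_eq_one_iff_eq_inv.2 hcq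
    have hq1 : q = 1 := orderOf_eq_one_iff.1 (Nat.eq_one_of_dvd_coprimes (Nat.coprime_two_left.2 hQodd)
      (orderOf_dvd_of_pow_eq_one hq2) (orderOf_dvd_natCard q))
    obtain ⟨j, hj⟩ := P.2 ⟨x, (QuotientGroup.eq_one_iff x).1 hq1⟩
    exact hx (orderOf_eq_one_iff.1 (Nat.eq_one_of_dvd_coprimes ((Nat.coprime_two_left.2 hodd).pow_left j)
      (orderOf_dvd_of_pow_eq_one (congrArg Subtype.val hj)) dvd_rfl))

end Cfsg.Agent.S3861
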