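import Cfsg.Statements.S3862
import Cfsg.Agent.S3736
import Cfsg.Agent.Solv.PComplement

set_option autoImplicit false
open Cfsg
open scoped commutatorElement

namespace Cfsg.Agent.S3862

/-- If every 2-element of the finite group G that is conjugate to its inverse lies in the centre of G, then G has a normal 2-complement. -/
theorem result {G : Type*} [Group G] [Finite G] (h : ∀ x : G, (∃ j : ℕ, orderOf x = 2 ^ j) → IsConj x x⁻¹ → x ∈ Subgroup.center G) : Cfsg.HasNormalPComplement 2 G := by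
  classical
  haveI : Fact (Nat.Prime 2) := ⟨Nat.prime_two⟩
  rw [CfsgLib.Solv.hnpc_iff_frobCond]
  intro Q hQ x hx hxo
  by_contra hne
  set A := Subgroup.zpowers x with hA
  have hAp : (Nat.card A).Coprime 2 := by rw [hA, Nat.card_zpowers]; exact hxo
  obtain ⟨U, -, hU⟩ := Finite.exists_le_minimal
    (p := fun U : Subgroup G => IsPGroup 2 U ∧ A ≤ Subgroup.normalizer (U : Set G) ∧ ⁅U, A⁆ ≠ ⊥) (a := Q)
    ⟨hQ, Subgroup.zpowers_le.2 hx, fun e => hne (Subgroup.mem_centralizer_iff.2 fun q hq =>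
      (Subgroup.mem_centralizer_iff.1 (Subgroup.commutator_eq_bot_iff_le_centralizer.1 e hq) x (Subgroup.mem_zpowers x)).symm)⟩
  obtain ⟨hU2, hUA, hUne⟩ := hU.1
  have hminU : ∀ V : Subgroup G, V < U → A ≤ Subgroup.normalizer (V : Set G) → ⁅V, A⁆ = ⊥ := fun V hV hVA => by
    by_contra hn
    exact hV.not_ge (hU.2 ⟨hU2.to_le hV.le, hVA, hn⟩ hV.le)
  obtain ⟨-, hdi, -, -⟩ := Cfsg.Agent.S3736.result A A U hU2 hUA le_rfl Subgroup.le_normalizer hAp hUne hminU
  -- a noncentralized element of `U` is real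
  obtain ⟨u, hu, huA⟩ : ∃ u ∈ U, u ∉ Subgroup.centralizer (A : Set G) := by
    by_contra hn
    push Not at hn
    exact hUne (Subgroup.commutator_eq_bot_iff_le_centralizer.2 hn)
  have hreal : IsConj u u⁻¹ := by
    rcases hdi with he | hs
    · have h2 : u ^ 2 = 1 := he.2 u hu
      rw [inv_eq_of_mul_eq_one_right (by rw [← pow_two]; exact h2)]
    · obtain ⟨-, hf, hc⟩ := hs
      set Z := Subgroup.center ↥U with hZ
      have hcent : ∀ a b : ↥U, ⁅a, b⁆ ∈ Z := fun a b =>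
        hc ▸ Subgroup.commutator_mem_commutator (Subgroup.mem_top a) (Subgroup.mem_top b)
      have hsymm : ∀ a b c : ↥U, ⁅a * b, c⁆ = ⁅a, c⁆ * ⁅b, c⁆ ∧ ⁅c, a * b⁆ = ⁅c, a⁆ * ⁅c, b⁆ := fun a b c => by
        constructor
        · calc ⁅a * b, c⁆ = a * ⁅b, c⁆ * a⁻¹ * ⁅a, c⁆ := by simp [commutatorElement_def, mul_assoc]
            _ = ⁅b, c⁆ * ⁅a, c⁆ := by rw [Subgroup.mem_center_iff.1 (hcent b c) a, mul_inv_cancel_right]
            _ = _ := Subgroup.mem_center_iff.1 (hcent a c) _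
        · calc ⁅c, a * b⁆ = ⁅c, a⁆ * (a * ⁅c, b⁆) * a⁻¹ := by simp [commutatorElement_def, mul_assoc]
            _ = _ := by rw [Subgroup.mem_center_iff.1 (hcent c b) a]; group
      let K : Subgroup ↥U :=
        { carrier := Set.range fun v => ⁅(⟨u, hu⟩ : ↥U), v⁆
          one_mem' := ⟨1, commutatorElement_one_right _⟩
          mul_mem' := by rintro _ _ ⟨v, rfl⟩ ⟨w, rfl⟩; exact ⟨v * w, (hsymm v w _).2⟩
          inv_mem' := by
            rintro _ ⟨v, rfl⟩
            refine ⟨v⁻¹, eq_inv_of_mul_eq_one_left ?_⟩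
            rw [← (hsymm v⁻¹ v _).2, inv_mul_cancel, commutatorElement_one_right] }
      let R : Subgroup ↥U :=
        { carrier := {w | ∀ v, ⁅w, v⁆ ∈ K}
          one_mem' := fun v => by rw [commutatorElement_one_left]; exact one_mem _
          mul_mem' := fun {a b} ha hb v => by rw [(hsymm a b v).1]; exact mul_mem (ha v) (hb v)
          inv_mem' := fun {a} ha v => by
            have h1 : ⁅a⁻¹, v⁆ = ⁅a, v⁆⁻¹ := eq_inv_of_mul_eq_one_left (by
              rw [← (hsymm a⁻¹ a v).1, inv_mul_cancel, commutatorElement_one_left])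
            rw [h1]; exact inv_mem (ha v) }
      have hAU : ∀ a ∈ A, ∀ y ∈ U, a * y * a⁻¹ ∈ U := fun a ha y hy => (Subgroup.mem_normalizer_iff.1 (hUA ha) y).1 hy
      have hZlt : Z.map U.subtype < U := lt_of_le_of_ne (Subgroup.map_subtype_le _) fun e => by
        have hZt : Z = ⊤ := Subgroup.map_injective U.subtype_injective (by rw [e, ← MonoidHom.range_eq_map, Subgroup.range_subtype])
        haveI : Nontrivial ↥U := (Subgroup.nontrivial_iff_ne_bot U).2 fun h => hUne (by rw [h]; exact Subgroup.commutator_bot_left A)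
        haveI := hU2.isNilpotent
        exact (IsSolvable.commutator_lt_top_of_nontrivial ↥U).ne (hc.trans hZt)
      have hZA : ∀ z ∈ Z, ∀ a ∈ A, a * (z : G) * a⁻¹ = z := by
        intro z hz a ha
        have hinv : A ≤ Subgroup.normalizer ((Z.map U.subtype : Subgroup G) : Set G) := by
          rw [CfsgLib.Solv.le_normalizer_iff_forall_conj_mem]
          rintro b hb _ ⟨w, hw, rfl⟩
          refine ⟨⟨b * (w : G) * b⁻¹, hAU b hb w w.2⟩, Subgroup.mem_center_iff.2 fun y => Subtype.ext ?_, rfl⟩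
          have h' := congrArg Subtype.val (Subgroup.mem_center_iff.1 hw ⟨b⁻¹ * y * b, (Subgroup.mem_normalizer_iff''.1 (hUA hb) y).1 y.2⟩)
          show (y : G) * (b * w * b⁻¹) = b * w * b⁻¹ * y
          calc (y : G) * (b * w * b⁻¹) = b * ((b⁻¹ * y * b) * w) * b⁻¹ := by group
            _ = b * (w * (b⁻¹ * y * b)) * b⁻¹ := congrArg (fun t => b * t * b⁻¹) h'
            _ = _ := by group
        have h := Subgroup.mem_centralizer_iff.1 (Subgroup.commutator_eq_bot_iff_le_centralizer.1 (hminU _ hZlt hinv) ⟨z, hz, rfl⟩) a ha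
        exact mul_inv_eq_iff_eq_mul.2 h
      have hRinv : A ≤ Subgroup.normalizer ((R.map U.subtype : Subgroup G) : Set G) := by
        rw [CfsgLib.Solv.le_normalizer_iff_forall_conj_mem]
        rintro b hb _ ⟨w, hw, rfl⟩
        refine ⟨⟨b * (w : G) * b⁻¹, hAU b hb w w.2⟩, fun v => ?_, rfl⟩
        have h1 : ⁅(⟨b * (w : G) * b⁻¹, hAU b hb w w.2⟩ : ↥U), v⁆ =
            ⁅w, (⟨b⁻¹ * v * b, (Subgroup.mem_normalizer_iff''.1 (hUA hb) v).1 v.2⟩ : ↥U)⁆ := by
          refine Subtype.ext ?_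
          rw [← hZA ⁅w, (⟨b⁻¹ * v * b, (Subgroup.mem_normalizer_iff''.1 (hUA hb) v).1 v.2⟩ : ↥U)⁆ (hcent _ _) b hb]
          show (b * w * b⁻¹) * v * (b * w * b⁻¹)⁻¹ * (v : G)⁻¹ = b * ((w : G) * (b⁻¹ * v * b) * (w : G)⁻¹ * (b⁻¹ * v * b)⁻¹) * b⁻¹
          group
        rw [h1]; exact hw _
      have huR : (⟨u, hu⟩ : ↥U) ∈ R := fun v => ⟨v, rfl⟩
      have hRt : R = ⊤ := by
        by_contra hn
        have hlt : R.map U.subtype < U := lt_of_le_of_ne (Subgroup.map_subtype_le _) fun e => hn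
          (Subgroup.map_injective U.subtype_injective (by rw [e, ← MonoidHom.range_eq_map, Subgroup.range_subtype]))
        exact huA (Subgroup.commutator_eq_bot_iff_le_centralizer.1 (hminU _ hlt hRinv) ⟨⟨u, hu⟩, huR, rfl⟩)
      have hle : commutator ↥U ≤ K := by
        rw [commutator_def, Subgroup.commutator_le]
        intro a _ b _
        exact (hRt ▸ Subgroup.mem_top a : a ∈ R) b
      have hu2 : (⟨u, hu⟩ : ↥U) ^ 2 ∈ K := hle (hc.symm ▸ hf ▸ CfsgLib.Solv.pow_mem_frattini hU2 _)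
      obtain ⟨v, hv⟩ := hu2
      have hv' : u * (v : G) * u⁻¹ * (v : G)⁻¹ = u ^ 2 := congrArg Subtype.val hv
      rw [pow_two] at hv'
      rw [isConj_iff]
      refine ⟨v, ?_⟩
      have h3 : (v : G) * u⁻¹ * (v : G)⁻¹ = u := by
        refine mul_left_cancel (a := u) ?_
        rw [← hv']; group
      calc (v : G) * u * (v : G)⁻¹ = ((v : G) * u⁻¹ * (v : G)⁻¹)⁻¹ := by group
        _ = u⁻¹ := by rw [h3]
  have hcen := h u (by obtain ⟨j, hj⟩ := IsPGroup.iff_orderOf.1 hU2 ⟨u, hu⟩; exact ⟨j, by rw [← hj, Subgroup.orderOf_mk]⟩) hreal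
  exact huA (Subgroup.center_le_centralizer _ hcen)

end Cfsg.Agent.S3862
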