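import Cfsg.Statements.S3863
import Cfsg.Agent.Solv.Basic

set_option autoImplicit false
open Cfsg

namespace Cfsg.Agent.S3863

/-- Let x be an element of the finite group G that is conjugate to its inverse. Then some 2-element conjugates x to its inverse; if the conjugacy class of x has odd size then x ^ 2 = 1; and x lies in, and is conjugate to its inverse inside, every normal subgroup of odd index. -/
theorem result {G : Type*} [Group G] [Finite G] (x : G) (hx : IsConj x x⁻¹) : (∃ t : G, (∃ j : ℕ, orderOf t = 2 ^ j) ∧ t * x * t⁻¹ = x⁻¹) ∧ (Odd (Subgroup.centralizer ({x} : Set G)).index → x ^ 2 = 1) ∧ ∀ (N : Subgroup G) [N.Normal], Odd N.index → ∃ hxN : x ∈ N, IsConj (⟨x, hxN⟩ : N) (⟨x, hxN⟩ : N)⁻¹ := by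
  classical
  obtain ⟨g, hg⟩ := isConj_iff.1 hx
  have hsq : g * (g * x * g⁻¹) * g⁻¹ = x := by
    rw [hg, ← conj_inv, hg, inv_inv]
  obtain ⟨a, m, hm, hord⟩ := Nat.exists_eq_pow_mul_and_not_dvd (orderOf_pos g).ne' 2 (by norm_num)
  have hodd : Odd m := Nat.odd_iff.2 (by omega)
  obtain ⟨k, hk⟩ := hodd
  have hpow : ∀ j : ℕ, g ^ (2 * j) * x * (g ^ (2 * j))⁻¹ = x := by
    intro j
    induction j with
    | zero => simp
    | succ j ih =>
      calc g ^ (2 * (j + 1)) * x * (g ^ (2 * (j + 1)))⁻¹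
          = g ^ (2 * j) * (g * (g * x * g⁻¹) * g⁻¹) * (g ^ (2 * j))⁻¹ := by
            rw [show 2 * (j + 1) = 2 * j + 1 + 1 by ring, pow_succ, pow_succ]; group
        _ = _ := by rw [hsq, ih]
  have ht : g ^ m * x * (g ^ m)⁻¹ = x⁻¹ := by
    rw [hk, pow_succ']
    calc g * g ^ (2 * k) * x * (g * g ^ (2 * k))⁻¹ = g * (g ^ (2 * k) * x * (g ^ (2 * k))⁻¹) * g⁻¹ := by group
      _ = _ := by rw [hpow, hg]
  have htord : orderOf (g ^ m) = 2 ^ a := by
    have hm0 : m ≠ 0 := by omega
    rw [orderOf_pow_of_dvd hm0 ⟨2 ^ a, by rw [hord, mul_comm]⟩, hord, Nat.mul_div_cancel _ (Nat.pos_of_ne_zero hm0)]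
  refine ⟨⟨g ^ m, ⟨a, htord⟩, ht⟩, fun hcls => ?_, fun N hN hNo => ?_⟩
  · haveI : Fact (Nat.Prime 2) := ⟨Nat.prime_two⟩
    let C := {y : G // IsConj x y}
    haveI := Fintype.ofFinite C
    have hcard : Fintype.card C = (Subgroup.centralizer ({x} : Set G)).index := by
      rw [← Nat.card_eq_fintype_card]
      let Z := Subgroup.centralizer ({x} : Set G)
      let F : G ⧸ Z → C := fun q => Quotient.liftOn' q (fun c => ⟨c * x * c⁻¹, isConj_iff.2 ⟨c, rfl⟩⟩) (by
        intro c d hcd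
        rw [QuotientGroup.leftRel_apply, Subgroup.mem_centralizer_singleton_iff] at hcd
        refine Subtype.ext ?_
        show c * x * c⁻¹ = d * x * d⁻¹
        calc c * x * c⁻¹ = c * (x * (c⁻¹ * d)) * d⁻¹ := by group
          _ = c * (c⁻¹ * d * x) * d⁻¹ := by rw [hcd]
          _ = _ := by group)
      symm
      refine Nat.card_eq_of_bijective F ⟨?_, ?_⟩
      · intro q r
        induction q using QuotientGroup.induction_on with
        | H c =>
          induction r using QuotientGroup.induction_on with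
          | H d =>
            intro hcd
            have h : c * x * c⁻¹ = d * x * d⁻¹ := congrArg Subtype.val hcd
            rw [QuotientGroup.eq, Subgroup.mem_centralizer_singleton_iff]
            calc c⁻¹ * d * x = c⁻¹ * (d * x * d⁻¹) * d := by group
              _ = c⁻¹ * (c * x * c⁻¹) * d := by rw [h]
              _ = _ := by group
      · rintro ⟨y, hy⟩
        obtain ⟨c, hc⟩ := isConj_iff.1 hy
        exact ⟨QuotientGroup.mk c, Subtype.ext hc⟩
    let σ : Equiv.Perm C :=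
      { toFun := fun y => ⟨(y : G)⁻¹, by
          obtain ⟨c, hc⟩ := isConj_iff.1 y.2
          exact hx.trans (isConj_iff.2 ⟨c, by rw [← conj_inv, hc]⟩)⟩
        invFun := fun y => ⟨(y : G)⁻¹, by
          obtain ⟨c, hc⟩ := isConj_iff.1 y.2
          exact hx.trans (isConj_iff.2 ⟨c, by rw [← conj_inv, hc]⟩)⟩
        left_inv := fun y => Subtype.ext (inv_inv _)
        right_inv := fun y => Subtype.ext (inv_inv _) }
    have hσ : σ ^ 2 ^ 1 = 1 := by
      refine Equiv.ext fun y => Subtype.ext ?_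
      show ((y : G)⁻¹)⁻¹ = y
      exact inv_inv _
    obtain ⟨y, hy⟩ := Equiv.Perm.exists_fixed_point_of_prime (p := 2) (n := 1) (by
      rw [hcard]; exact fun h => (Nat.not_even_iff_odd.2 hcls) (even_iff_two_dvd.2 h)) hσ
    have hy' : (y : G)⁻¹ = y := congrArg Subtype.val hy
    obtain ⟨c, hc⟩ := isConj_iff.1 y.2
    have h2 : (y : G) ^ 2 = 1 := by rw [pow_two]; nth_rw 1 [← hy']; exact inv_mul_cancel _
    rw [← hc, conj_pow] at h2
    exact conj_eq_one_iff.1 h2
  · have h2pow : ∀ {t : G} {b : ℕ}, t ^ 2 ^ b = 1 → t ∈ N := by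
      intro t b htb
      rw [← QuotientGroup.eq_one_iff]
      have h1 : orderOf (t : G ⧸ N) ∣ 2 ^ b := orderOf_dvd_of_pow_eq_one (by
        rw [← QuotientGroup.mk_pow, htb]; rfl)
      have h2 : orderOf (t : G ⧸ N) ∣ N.index := orderOf_dvd_natCard _
      exact orderOf_eq_one_iff.1 (Nat.eq_one_of_dvd_coprimes
        (Nat.Coprime.pow_left b (Nat.coprime_two_left.2 hNo)) h1 h2)
    have htN : g ^ m ∈ N := h2pow (b := a) (by rw [← htord, pow_orderOf_eq_one])
    have hxN : x ∈ N := by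
      have h1 : g ^ m * x * (g ^ m)⁻¹ * x⁻¹ ∈ N := by
        rw [mul_assoc, mul_assoc]
        exact mul_mem htN (by rw [← mul_assoc]; exact hN.conj_mem _ (inv_mem htN) x)
      rw [ht] at h1
      rw [← QuotientGroup.eq_one_iff]
      have h3 : orderOf (x : G ⧸ N) ∣ 2 := by
        refine orderOf_dvd_of_pow_eq_one ?_
        rw [← QuotientGroup.mk_pow, QuotientGroup.eq_one_iff, ← inv_mem_iff, pow_two, mul_inv_rev]
        exact h1
      exact orderOf_eq_one_iff.1 (Nat.eq_one_of_dvd_coprimes (Nat.coprime_two_left.2 hNo) h3 (orderOf_dvd_natCard _))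
    exact ⟨hxN, isConj_iff.2 ⟨⟨g ^ m, htN⟩, Subtype.ext ht⟩⟩

end Cfsg.Agent.S3863
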