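import Cfsg.Statements.S3864
import Cfsg.Agent.Inv.DihedralFusion
import Mathlib

set_option autoImplicit false
open Cfsg

namespace Cfsg.Agent.S3864

open CfsgLib.Inv

theorem card_classes {G : Type*} [Group G] (l : List G) (hl : ∀ a ∈ l, orderOf a = 2)
    (hnd : l.Pairwise fun a b => ¬ IsConj a b) (h : ∀ t : G, orderOf t = 2 → ∃ a ∈ l, IsConj t a) :
    Nat.card {C : ConjClasses G // ∃ g : G, ConjClasses.mk g = C ∧ orderOf g = 2} = l.length := by
  classical
  have hnd' : (l.map ConjClasses.mk).Nodup := List.pairwise_map.2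
    (hnd.imp fun hab e => hab (ConjClasses.mk_eq_mk_iff_isConj.1 e))
  rw [← List.length_map (f := ConjClasses.mk), ← List.toFinset_card_of_nodup hnd',
    ← Nat.card_eq_finsetCard]
  refine Nat.card_congr (Equiv.subtypeEquivRight fun C => ?_)
  simp only [List.mem_toFinset, List.mem_map]
  constructor
  · rintro ⟨g, rfl, hg⟩
    obtain ⟨a, ha, hga⟩ := h g hg
    exact ⟨a, ha, (ConjClasses.mk_eq_mk_iff_isConj.2 hga).symm⟩
  · rintro ⟨a, ha, rfl⟩
    exact ⟨a, rfl, hl a ha⟩

theorem index_four_aux {S Q : Type*} [Group S] [Finite S] [Group Q] [Finite Q] {d : ℕ} (hd : 1 ≤ d)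
    (D : DData S d) (f : S →* Q) (hf : Function.Surjective f) (h4 : Nat.card Q = 4) :
    ∀ i : ℤ, f D.z = 1 ∧ f (D.x ^ i * D.y) ≠ 1 := by
  have hc : ∀ a b : Q, a * b = b * a := fun a b =>
    (IsPGroup.commGroupOfCardEqPrimeSq (p := 2) (by rw [h4]; norm_num)).mul_comm a b
  have hx : f D.x * f D.x = 1 := by
    have h := congrArg f D.rel
    rw [map_mul, map_mul, map_inv, map_inv, hc (f D.y), mul_inv_cancel_right] at h
    nth_rewrite 1 [h]
    exact inv_mul_cancel _
  have hz : f D.z = 1 := by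
    rw [DData.z, map_zpow, show ((2 : ℤ) ^ d) = 2 * 2 ^ (d - 1) by
      rw [← pow_succ', Nat.sub_add_cancel hd], zpow_mul, zpow_two, hx, one_zpow]
  intro i
  refine ⟨hz, fun hi => ?_⟩
  have hle : (⊤ : Subgroup Q) ≤ Subgroup.zpowers (f D.x) := fun q _ => by
    obtain ⟨s, rfl⟩ := hf q
    rcases D.cases s with ⟨j, rfl⟩ | ⟨j, rfl⟩
    · rw [map_zpow]; exact Subgroup.zpow_mem_zpowers _ _
    · rw [show D.x ^ j * D.y = D.x ^ (j - i) * (D.x ^ i * D.y) by rw [← mul_assoc, ← zpow_add, sub_add_cancel],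
        map_mul, hi, mul_one, map_zpow]
      exact Subgroup.zpow_mem_zpowers _ _
  have := Subgroup.card_le_of_le hle
  rw [Subgroup.card_top, h4, Nat.card_zpowers] at this
  have := Nat.le_of_dvd (by norm_num) (orderOf_dvd_of_pow_eq_one (show f D.x ^ 2 = 1 by rw [pow_two, hx]))
  omega

theorem not_index_four {G : Type*} [Group G] [Finite G] (P : Sylow 2 G) {d : ℕ}
    (D : DData (P : Subgroup G) d) (hd : 1 ≤ d) (N : Subgroup G) (hN : N.Normal) (h4 : N.index = 4) {i : ℤ}
    (h : IsConj ((D.x ^ i * D.y : (P : Subgroup G)) : G) ((D.z : (P : Subgroup G)) : G)) : False := by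
  haveI : Fact (Nat.Prime 2) := ⟨Nat.prime_two⟩
  let f : (P : Subgroup G) →* G ⧸ N := (QuotientGroup.mk' N).comp (P : Subgroup G).subtype
  have hQ : Nat.card (G ⧸ N) = 4 := h4
  have hf : Function.Surjective f := by
    rw [← MonoidHom.range_eq_top]
    have hr : f.range = (P : Subgroup G).map (QuotientGroup.mk' N) := by
      rw [MonoidHom.range_comp, Subgroup.range_subtype]
    rw [hr, ← Subgroup.index_eq_one]
    have h1 : ((P : Subgroup G).map (QuotientGroup.mk' N)).index ∣ (P : Subgroup G).index :=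
      Subgroup.index_map_dvd _ (QuotientGroup.mk'_surjective N)
    have h2 := Subgroup.index_dvd_card ((P : Subgroup G).map (QuotientGroup.mk' N))
    rw [hQ] at h2
    have h3 := P.not_dvd_index
    obtain ⟨k, -, hk⟩ := (Nat.dvd_prime_pow Nat.prime_two (m := 2)).1 (by simpa using h2)
    rcases Nat.eq_zero_or_pos k with rfl | hk0
    · simpa using hk
    · exact absurd ((dvd_pow_self 2 hk0.ne').trans (hk ▸ h1)) h3
  obtain ⟨hz, hi⟩ := index_four_aux hd D f hf hQ i
  obtain ⟨g, hg⟩ := isConj_iff.1 h.symm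
  refine hi ((QuotientGroup.eq_one_iff _).2 ?_)
  rw [Subgroup.subtype_apply, ← hg]
  exact hN.conj_mem _ ((QuotientGroup.eq_one_iff _).1 hz) g


/-- Let G be a finite group whose Sylow 2-subgroups are dihedral of order 2 ^ n with n ≥ 3, and count the conjugacy classes of involutions of G. Then exactly one of the following holds: there is one class of involutions and no normal subgroup of index 2; there are two classes of involutions, a normal subgroup of index 2 and none of index 4; there are three classes of involutions and G has a normal 2-complement. -/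
theorem result {G : Type*} [Group G] [Finite G] (P : Sylow 2 G) (n : ℕ) (hn : 3 ≤ n) (hdih : Nonempty (↥(P : Subgroup G) ≃* DihedralGroup (2 ^ (n - 1)))) : (Nat.card {C : ConjClasses G // ∃ g : G, ConjClasses.mk g = C ∧ orderOf g = 2} = 1 ∧ ∀ N : Subgroup G, N.Normal → N.index ≠ 2) ∨ (Nat.card {C : ConjClasses G // ∃ g : G, ConjClasses.mk g = C ∧ orderOf g = 2} = 2 ∧ (∃ N : Subgroup G, N.Normal ∧ N.index = 2) ∧ ∀ N : Subgroup G, N.Normal → N.index ≠ 4) ∨ (Nat.card {C : ConjClasses G // ∃ g : G, ConjClasses.mk g = C ∧ orderOf g = 2} = 3 ∧ Cfsg.HasNormalPComplement 2 G) := by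
  haveI : Fact (Nat.Prime 2) := ⟨Nat.prime_two⟩
  obtain ⟨e0⟩ := hdih
  obtain ⟨d, hd0, ⟨D⟩⟩ := DData.of_equiv (m := 2 ^ (n - 1)) (Nat.le_self_pow (by omega) 2) P.2 e0
  have hd : 1 ≤ d := by have := Nat.pow_right_injective le_rfl hd0; omega
  set z : G := ((D.z : (P : Subgroup G)) : G) with hz
  set o : ℤ → G := fun i => ((D.x ^ i * D.y : (P : Subgroup G)) : G) with ho
  have hzo : orderOf z = 2 := by
    rw [hz, Subgroup.orderOf_coe]; exact orderOf_eq_prime (by rw [pow_two]; exact D.z_mul_self) D.z_ne_one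
  have hoo : ∀ i, orderOf (o i) = 2 := fun i => (Subgroup.orderOf_coe _).trans (D.out_order i)
  have hpar : ∀ i j : ℤ, Even (i - j) → IsConj (o i) (o j) := fun i j ⟨r, hr⟩ =>
    isConj_iff.2 ⟨((D.x ^ (-r) : (P : Subgroup G)) : G), by
      have h := congrArg Subtype.val (D.conj_out_pow i (-r))
      rw [show i + 2 * -r = j by omega] at h
      exact h⟩
  have hevery : ∀ t : G, orderOf t = 2 → IsConj t z ∨ IsConj t (o 0) ∨ IsConj t (o 1) := fun t ht => by
    rcases invol_conj_into P D ht with h | ⟨i, h⟩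
    · exact Or.inl h
    · rcases Int.even_or_odd i with hi | hi
      · exact Or.inr (Or.inl (h.trans (hpar i 0 (by simpa using hi))))
      · exact Or.inr (Or.inr (h.trans (hpar i 1 (hi.sub_odd odd_one))))
  have hone : IsConj (o 0) z → IsConj (o 1) z → ∀ a b : G, orderOf a = 2 → orderOf b = 2 → IsConj a b := by
    intro h0 h1
    have k : ∀ t : G, orderOf t = 2 → IsConj t z := fun t ht =>
      (hevery t ht).elim id (fun h => h.elim (·.trans h0) (·.trans h1))
    exact fun a b ha hb => (k a ha).trans (k b hb).symm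
  by_cases h0 : IsConj (o 0) z
  · by_cases h1 : IsConj (o 1) z
    · refine Or.inl ⟨card_classes [z] (by simpa using hzo) (List.pairwise_singleton _ _) fun t ht =>
        ⟨z, List.mem_singleton_self z, hone h0 h1 t z ht hzo⟩, fun N _ => (fusion_simple_of_one_class P D (hone h0 h1)).1 N⟩
    · refine Or.inr (Or.inl ⟨card_classes [z, o 1] (by simp [hzo, hoo]) (by simpa using fun h : IsConj z (o 1) => h1 h.symm) fun t ht => ?_, ?_, ?_⟩)
      · rcases hevery t ht with h | h | h
        · exact ⟨z, by simp, h⟩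
        · exact ⟨z, by simp, h.trans h0⟩
        · exact ⟨o 1, by simp, h⟩
      · by_contra hcon
        exact h1 (one_class_of_fusion_simple P D (fun H hH => hcon ⟨H, Subgroup.normal_of_index_eq_two hH, hH⟩) _ _ (hoo 1) hzo)
      · exact fun N hN h4 => not_index_four P D hd N hN h4 h0
  · by_cases h1 : IsConj (o 1) z
    · refine Or.inr (Or.inl ⟨card_classes [z, o 0] (by simp [hzo, hoo]) (by simpa using fun h : IsConj z (o 0) => h0 h.symm) fun t ht => ?_, ?_, ?_⟩)
      · rcases hevery t ht with h | h | h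
        · exact ⟨z, by simp, h⟩
        · exact ⟨o 0, by simp, h⟩
        · exact ⟨z, by simp, h.trans h1⟩
      · by_contra hcon
        exact h0 (one_class_of_fusion_simple P D (fun H hH => hcon ⟨H, Subgroup.normal_of_index_eq_two hH, hH⟩) _ _ (hoo 0) hzo)
      · exact fun N hN h4 => not_index_four P D hd N hN h4 h1
    · have hnpc : Cfsg.HasNormalPComplement 2 G :=
        CfsgLib.Solv.hnpc_iff_frobCond.2 (frobCond_of_not_fused P D fun U hU hK hF => by
          obtain ⟨i, rfl⟩ := klein_le_eq P D hK hU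
          have h := isConj_z_of_fused P D hF
          rcases Int.even_or_odd i with hi | hi
          · exact h0 ((hpar i 0 (by simpa using hi)).symm.trans h)
          · exact h1 ((hpar i 1 (hi.sub_odd odd_one)).symm.trans h))
      refine Or.inr (Or.inr ⟨card_classes [z, o 0, o 1] (by simp [hzo, hoo]) ?_ fun t ht => ?_, hnpc⟩)
      · simp only [List.pairwise_cons, List.mem_cons, List.not_mem_nil, or_false, forall_eq_or_imp, forall_eq,
          List.Pairwise.nil, IsEmpty.forall_iff, implies_true, and_true]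
        refine ⟨⟨fun h => h0 h.symm, fun h => h1 h.symm⟩, fun h => ?_⟩
        obtain ⟨g, hg⟩ := isConj_iff.1 h
        haveI := pResidual_normal 2 G
        obtain ⟨⟨k, s⟩, hks : (k : G) * (s : G) = g⟩ := (CfsgLib.Solv.isComplement'_pResidual hnpc P).2 g
        set u : G := ((s * (D.x ^ (0 : ℤ) * D.y) * s⁻¹ : (P : Subgroup G)) : G) with hu
        have hmem : o 1 * u⁻¹ ∈ Cfsg.pResidual 2 G := by
          rw [← hg, ← hks, show (k : G) * s * o 0 * ((k : G) * s)⁻¹ * u⁻¹ = k * (u * (k : G)⁻¹ * u⁻¹) by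
            rw [show u = (s : G) * o 0 * (s : G)⁻¹ from rfl]; group]
          exact mul_mem k.2 (Subgroup.Normal.conj_mem inferInstance _ (inv_mem k.2) u)
        have hbot : o 1 * u⁻¹ ∈ (P : Subgroup G) ⊓ Cfsg.pResidual 2 G :=
          ⟨mul_mem (SetLike.coe_mem _) ((P : Subgroup G).inv_mem (SetLike.coe_mem _)), hmem⟩
        rw [(CfsgLib.Solv.hnpc_iff_inf P).1 hnpc, Subgroup.mem_bot, mul_inv_eq_one] at hbot
        have he : D.x ^ (1 : ℤ) * D.y = s * (D.x ^ (0 : ℤ) * D.y) * s⁻¹ := Subtype.ext hbot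
        have h2 : (2 : ℤ) ∣ 2 ^ (d + 1) := dvd_pow_self 2 (by omega)
        rcases D.cases s with ⟨j, rfl⟩ | ⟨j, rfl⟩
        · rw [D.conj_out_pow, D.out_eq_out] at he
          have := h2.trans he; omega
        · rw [D.conj_out_out, D.out_eq_out] at he
          have := h2.trans he; omega
      · rcases hevery t ht with h | h | h
        · exact ⟨z, by simp, h⟩
        · exact ⟨o 0, by simp, h⟩
        · exact ⟨o 1, by simp, h⟩

end Cfsg.Agent.S3864
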