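import Cfsg.Statements.S3866
import Cfsg.Agent.Solv.Basic

set_option autoImplicit false
open Cfsg
open scoped commutatorElement

namespace Cfsg.Agent.S3866

/-- Let A be a commutative normal subgroup of the finite group G with G generated by A and an element x. Then a ↦ x a x⁻¹ a⁻¹ is a surjective homomorphism from A onto the commutator subgroup of G whose kernel is the centralizer of x in A; in particular the commutator subgroup has order equal to the index in A of that centralizer. -/
theorem result {G : Type*} [Group G] [Finite G] (A : Subgroup G) [A.Normal] (hA : IsMulCommutative A) (x : G) (hgen : A ⊔ Subgroup.zpowers x = ⊤) : (∀ a ∈ A, x * a * x⁻¹ * a⁻¹ ∈ commutator G) ∧ (∀ c ∈ commutator G, ∃ a ∈ A, x * a * x⁻¹ * a⁻¹ = c) ∧ (∀ a ∈ A, ∀ b ∈ A, x * (a * b) * x⁻¹ * (a * b)⁻¹ = (x * a * x⁻¹ * a⁻¹) * (x * b * x⁻¹ * b⁻¹)) ∧ Nat.card (commutator G) * Nat.card ↥(A ⊓ Subgroup.centralizer ({x} : Set G)) = Nat.card A := by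
  classical
  have hcomm : ∀ a ∈ A, ∀ b ∈ A, a * b = b * a := fun a ha b hb =>
    congrArg Subtype.val (hA.is_comm.comm ⟨a, ha⟩ ⟨b, hb⟩)
  have hconj : ∀ a ∈ A, x * a * x⁻¹ ∈ A := fun a ha => Subgroup.Normal.conj_mem ‹A.Normal› a ha x
  let f : A →* G :=
    { toFun := fun a => x * a * x⁻¹ * (a : G)⁻¹
      map_one' := by simp
      map_mul' := fun a b => by
        have h := hcomm (a : G)⁻¹ (inv_mem a.2) (x * b * x⁻¹ * (b : G)⁻¹) (mul_mem (hconj b b.2) (inv_mem b.2))
        calc x * ((a : G) * b) * x⁻¹ * ((a : G) * b)⁻¹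
            = x * a * x⁻¹ * ((x * b * x⁻¹ * (b : G)⁻¹) * (a : G)⁻¹) := by group
          _ = x * a * x⁻¹ * ((a : G)⁻¹ * (x * b * x⁻¹ * (b : G)⁻¹)) := by rw [h]
          _ = _ := by group }
  have hfA : f.range ≤ A := by rintro _ ⟨a, rfl⟩; exact mul_mem (hconj a a.2) (inv_mem a.2)
  have hinv : ∀ w ∈ f.range, x * w * x⁻¹ ∈ f.range := by
    rintro _ ⟨a, rfl⟩
    refine ⟨⟨x * a * x⁻¹, hconj a a.2⟩, ?_⟩
    show x * (x * a * x⁻¹) * x⁻¹ * (x * a * x⁻¹)⁻¹ = x * (x * a * x⁻¹ * (a : G)⁻¹) * x⁻¹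
    group
  haveI hn : f.range.Normal := by
    rw [← Subgroup.normalizer_eq_top_iff, eq_top_iff, ← hgen, sup_le_iff]
    refine ⟨fun a ha => Subgroup.mem_normalizer_iff.2 fun w => ?_, ?_⟩
    · constructor
      · intro hw; rw [hcomm a ha w (hfA hw), mul_inv_cancel_right]; exact hw
      · intro hw
        have hwA : w ∈ A := by
          have e : a⁻¹ * (a * w * a⁻¹) * a = w := by group
          rw [← e]; exact mul_mem (mul_mem (inv_mem ha) (hfA hw)) ha
        rwa [hcomm a ha w hwA, mul_inv_cancel_right] at hw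
    · rw [Subgroup.zpowers_le]
      have hle : (f.range).map (MulAut.conj x).toMonoidHom ≤ f.range := by
        rintro _ ⟨w, hw, rfl⟩; exact hinv w hw
      have heq : (f.range).map (MulAut.conj x).toMonoidHom = f.range :=
        Subgroup.eq_of_le_of_card_ge hle (Subgroup.card_map_of_injective (MulAut.conj x).injective).ge
      refine Subgroup.mem_normalizer_iff.2 fun w => ⟨hinv w, fun hw => ?_⟩
      have hw' : (MulAut.conj x) w ∈ (f.range).map (MulAut.conj x).toMonoidHom := by rw [heq]; exact hw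
      obtain ⟨v, hv, hvw⟩ := hw'
      exact (MulAut.conj x).injective hvw ▸ hv
  have hmem : ∀ a ∈ A, x * a * x⁻¹ * a⁻¹ ∈ commutator G := fun a _ => by
    rw [commutator_def, ← commutatorElement_def]
    exact Subgroup.commutator_mem_commutator (Subgroup.mem_top x) (Subgroup.mem_top a)
  have hle : commutator G ≤ f.range := by
    have hdec : ∀ g : G, ∃ a ∈ A, ∃ i : ℤ, g = a * x ^ i := fun g => by
      obtain ⟨a, ha, w, ⟨i, rfl⟩, rfl⟩ := Subgroup.mem_sup_of_normal_left.1 (hgen.symm ▸ Subgroup.mem_top g : g ∈ A ⊔ Subgroup.zpowers x)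
      exact ⟨a, ha, i, rfl⟩
    let π := QuotientGroup.mk' f.range
    have hax : ∀ a ∈ A, Commute (π x) (π a) := fun a ha => commutatorElement_eq_one_iff_commute.1 (by
      rw [← map_commutatorElement, commutatorElement_def]
      exact (QuotientGroup.eq_one_iff _).2 ⟨⟨a, ha⟩, rfl⟩)
    rw [commutator_def, Subgroup.commutator_le]
    intro g _ k _
    obtain ⟨a, ha, i, rfl⟩ := hdec g
    obtain ⟨b, hb, j, rfl⟩ := hdec k
    rw [← QuotientGroup.eq_one_iff]
    show π _ = 1
    rw [map_commutatorElement, commutatorElement_eq_one_iff_commute, map_mul, map_mul, map_zpow, map_zpow]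
    have hab : Commute (π a) (π b) := (show Commute a b from hcomm a ha b hb).map π
    exact (hab.mul_right ((hax a ha).symm.zpow_right j)).mul_left
      (((hax b hb).zpow_left i).mul_right ((Commute.refl _).zpow_zpow i j))
  have hrange : f.range = commutator G := le_antisymm (by rintro _ ⟨a, rfl⟩; exact hmem a a.2) hle
  refine ⟨hmem, fun c hc => ?_, fun a ha b hb => map_mul f ⟨a, ha⟩ ⟨b, hb⟩, ?_⟩
  · obtain ⟨a, rfl⟩ := hle hc
    exact ⟨a, a.2, rfl⟩
  · have hk : f.ker = (A ⊓ Subgroup.centralizer ({x} : Set G)).subgroupOf A := by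
      ext a
      simp only [Subgroup.mem_subgroupOf, Subgroup.mem_inf, SetLike.coe_mem, true_and,
        Subgroup.mem_centralizer_singleton_iff, MonoidHom.mem_ker]
      show x * a * x⁻¹ * (a : G)⁻¹ = 1 ↔ _
      rw [mul_inv_eq_one, mul_inv_eq_iff_eq_mul]
      exact eq_comm
    rw [← hrange, ← Nat.card_congr (Subgroup.subgroupOfEquivOfLe (inf_le_left (b := Subgroup.centralizer ({x} : Set G)))).toEquiv,
      ← hk, ← Nat.card_congr (QuotientGroup.quotientKerEquivRange f).toEquiv]
    exact (Subgroup.card_eq_card_quotient_mul_card_subgroup f.ker).symm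

end Cfsg.Agent.S3866
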