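import Cfsg.Statements.S3867
import Cfsg.Agent.Solv.Basic

set_option autoImplicit false
open Cfsg

namespace Cfsg.Agent.S3867

theorem index_normalizer_quot {G : Type*} [Group G] [Finite G] {p : ℕ} [Fact p.Prime] (P : Sylow p G) (X : Subgroup G) [X.Normal] :
    Nat.card (Sylow p (G ⧸ X)) = (Subgroup.normalizer ((P : Subgroup G) : Set G) ⊔ X).index := by
  let P' : Sylow p (G ⧸ X) := P.mapSurjective (QuotientGroup.mk'_surjective X)
  rw [Sylow.card_eq_index_normalizer P']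
  have hc : (Subgroup.normalizer ((P' : Subgroup (G ⧸ X)) : Set (G ⧸ X))).comap (QuotientGroup.mk' X) =
      Subgroup.normalizer ((P : Subgroup G) : Set G) ⊔ X := by
    refine le_antisymm (fun g hg => ?_) ?_
    · have hg' : (QuotientGroup.mk' X g) • P' = P' := Sylow.smul_eq_iff_mem_normalizer.2 hg
      have hle : ((g • P : Sylow p G) : Subgroup G) ≤ (P : Subgroup G) ⊔ X := by
        rintro _ ⟨x, hx, rfl⟩
        have h1 : g * x * g⁻¹ ∈ ((P' : Sylow p (G ⧸ X)) : Subgroup (G ⧸ X)).comap (QuotientGroup.mk' X) := by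
          rw [Subgroup.mem_comap, ← hg', map_mul, map_mul, map_inv]
          exact ⟨QuotientGroup.mk' X x, ⟨x, hx, rfl⟩, rfl⟩
        rw [Sylow.coe_mapSurjective, Subgroup.comap_map_eq, QuotientGroup.ker_mk'] at h1
        exact h1
      have hP : (P : Subgroup G) ≤ (P : Subgroup G) ⊔ X := le_sup_left
      obtain ⟨k, hk⟩ := MulAction.exists_smul_eq ↥((P : Subgroup G) ⊔ X) (P.subtype hP) ((g • P).subtype hle)
      rw [Sylow.smul_subtype] at hk
      have h2 : (k : G) • P = g • P := Sylow.subtype_injective hk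
      have h3 : g⁻¹ * k ∈ Subgroup.normalizer ((P : Subgroup G) : Set G) :=
        Sylow.smul_eq_iff_mem_normalizer.1 (by rw [mul_smul, h2, inv_smul_smul])
      have h4 : (k : G) ∈ Subgroup.normalizer ((P : Subgroup G) : Set G) ⊔ X :=
        sup_le_sup_right Subgroup.le_normalizer X k.2
      have h5 := mul_mem h4 (inv_mem (Subgroup.mem_sup_left (T := X) h3))
      simpa using h5
    · refine sup_le ?_ ?_
      · rw [← Subgroup.map_le_iff_le_comap]
        exact Subgroup.le_normalizer_map _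
      · intro x hx
        rw [Subgroup.mem_comap, show QuotientGroup.mk' X x = 1 from (QuotientGroup.eq_one_iff x).2 hx]
        exact one_mem _
  rw [← hc, Subgroup.index_comap_of_surjective _ (QuotientGroup.mk'_surjective X)]
  rfl


/-- Let M and N be nontrivial normal subgroups of the finite group G with M ⊓ N trivial, and let p be a prime. Writing n(X) for the number of Sylow p-subgroups of a group X, one has n(G) · n(G/MN) = n(G/M) · n(G/N). -/
theorem result {G : Type*} [Group G] [Finite G] (p : ℕ) [Fact p.Prime] (M N : Subgroup G) [M.Normal] [N.Normal] (hM : M ≠ ⊥) (hN : N ≠ ⊥) (hMN : M ⊓ N = ⊥) : Nat.card (Sylow p G) * Nat.card (Sylow p (G ⧸ (M ⊔ N))) = Nat.card (Sylow p (G ⧸ M)) * Nat.card (Sylow p (G ⧸ N)) := by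
  classical
  obtain ⟨P⟩ : Nonempty (Sylow p G) := inferInstance
  rw [Sylow.card_eq_index_normalizer P, index_normalizer_quot P, index_normalizer_quot P, index_normalizer_quot P]
  set L := Subgroup.normalizer ((P : Subgroup G) : Set G) with hL
  have hcomm : ∀ m ∈ M, ∀ n ∈ N, m * n = n * m := fun m hm n hn =>
    (Subgroup.commute_of_normal_of_disjoint M N inferInstance inferInstance (disjoint_iff.2 hMN) m n hm hn).eq
  have hprod : ∀ H : Subgroup G, Nat.card (↥(H ⊓ M) × ↥(H ⊓ N)) ≤ Nat.card ↥(H ⊓ (M ⊔ N)) ∧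
      ((∀ m ∈ M, ∀ n ∈ N, m * n ∈ H → m ∈ H) ↔ Nat.card (↥(H ⊓ M) × ↥(H ⊓ N)) = Nat.card ↥(H ⊓ (M ⊔ N))) := by
    intro H
    let f : ↥(H ⊓ M) × ↥(H ⊓ N) → ↥(H ⊓ (M ⊔ N)) := fun z => ⟨(z.1 : G) * z.2,
      H.mul_mem z.1.2.1 z.2.2.1, (M ⊔ N).mul_mem (Subgroup.mem_sup_left z.1.2.2) (Subgroup.mem_sup_right z.2.2.2)⟩
    have huniq : ∀ m ∈ M, ∀ n ∈ N, ∀ a ∈ M, ∀ b ∈ N, m * n = a * b → m = a ∧ n = b := by
      intro m hm n hn a ha b hb h
      have h1 : a⁻¹ * m = b * n⁻¹ := by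
        rw [inv_mul_eq_iff_eq_mul, ← mul_assoc, ← h, mul_inv_cancel_right]
      have h2 : a⁻¹ * m = 1 := (Subgroup.eq_bot_iff_forall _).1 hMN _
        (Subgroup.mem_inf.2 ⟨mul_mem (inv_mem ha) hm, h1 ▸ mul_mem hb (inv_mem hn)⟩)
      have h3 : m = a := (inv_mul_eq_one.1 h2).symm
      subst h3
      exact ⟨rfl, mul_left_cancel h⟩
    have hinj : Function.Injective f := fun z w h => by
      have h' := huniq _ z.1.2.2 _ z.2.2.2 _ w.1.2.2 _ w.2.2.2 (congrArg Subtype.val h)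
      exact Prod.ext (Subtype.ext h'.1) (Subtype.ext h'.2)
    refine ⟨Nat.card_le_card_of_injective f hinj, fun h => Nat.card_eq_of_bijective f ⟨hinj, ?_⟩, fun h m hm n hn hmn => ?_⟩
    · rintro ⟨g, hgH, hg⟩
      obtain ⟨m, hm, n, hn, rfl⟩ := Subgroup.mem_sup_of_normal_left.1 hg
      have hmH := h m hm n hn hgH
      exact ⟨(⟨m, hmH, hm⟩, ⟨n, by simpa using mul_mem (inv_mem hmH) hgH, hn⟩), rfl⟩
    · obtain ⟨z, hz⟩ := (hinj.bijective_of_nat_card_le h.ge).2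
        ⟨m * n, hmn, mul_mem (Subgroup.mem_sup_left hm) (Subgroup.mem_sup_right hn)⟩
      rw [← (huniq _ z.1.2.2 _ z.2.2.2 _ hm _ hn (congrArg Subtype.val hz)).1]
      exact z.1.2.1
  have hrel : ∀ (X : Subgroup G) [X.Normal], ¬ p ∣ ((P : Subgroup G) ⊓ X).relIndex X := by
    intro X _ h
    have h1 : ((P : Subgroup G) ⊓ X).relIndex X = (P : Subgroup G).relIndex ((P : Subgroup G) ⊔ X) := by
      have e0 := CfsgLib.Solv.card_sup_mul_card_inf (P : Subgroup G) X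
      rw [← CfsgLib.Solv.relIndex_mul_card (inf_le_right : (P : Subgroup G) ⊓ X ≤ X),
        ← CfsgLib.Solv.relIndex_mul_card (le_sup_left : (P : Subgroup G) ≤ (P : Subgroup G) ⊔ X)] at e0
      refine Nat.eq_of_mul_eq_mul_left (Nat.mul_pos (Nat.card_pos (α := (P : Subgroup G))) (Nat.card_pos (α := ↥((P : Subgroup G) ⊓ X)))) ?_
      linarith [e0]
    rw [h1] at h
    exact P.not_dvd_index (h.trans (Subgroup.relIndex_dvd_index_of_le le_sup_left))
  have hMN' : Nat.card ↥(M ⊔ N) = Nat.card M * Nat.card N := by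
    have h := CfsgLib.Solv.card_sup_mul_card_inf M N
    rwa [hMN, Subgroup.card_bot, mul_one] at h
  have hsplit : ∀ m ∈ M, ∀ n ∈ N, m * n ∈ (P : Subgroup G) → m ∈ (P : Subgroup G) := by
    refine (hprod _).2.2 (le_antisymm (hprod _).1 (Nat.le_of_dvd Nat.card_pos ?_))
    rw [Nat.card_prod]
    obtain ⟨j, hj⟩ := (IsPGroup.to_le P.2 (inf_le_left : (P : Subgroup G) ⊓ (M ⊔ N) ≤ P)).exists_card_eq
    have h1 := CfsgLib.Solv.relIndex_mul_card (inf_le_right : (P : Subgroup G) ⊓ (M ⊔ N) ≤ M ⊔ N)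
    rw [hMN', ← CfsgLib.Solv.relIndex_mul_card (inf_le_right : (P : Subgroup G) ⊓ M ≤ M),
      ← CfsgLib.Solv.relIndex_mul_card (inf_le_right : (P : Subgroup G) ⊓ N ≤ N)] at h1
    have hc : Nat.Coprime (Nat.card ↥((P : Subgroup G) ⊓ (M ⊔ N)))
        (((P : Subgroup G) ⊓ M).relIndex M * ((P : Subgroup G) ⊓ N).relIndex N) := by
      rw [hj]
      exact Nat.Coprime.pow_left j (((Nat.Prime.coprime_iff_not_dvd Fact.out).2 (hrel M)).mul_right
        ((Nat.Prime.coprime_iff_not_dvd Fact.out).2 (hrel N)))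
    exact hc.dvd_of_dvd_mul_left ⟨((P : Subgroup G) ⊓ (M ⊔ N)).relIndex (M ⊔ N), by rw [h1]; ring⟩
  have hkey : ∀ m ∈ M, ∀ n ∈ N, m * n ∈ L → m ∈ L := by
    intro m hm n hn hg1
    have hfwd : ∀ x ∈ (P : Subgroup G), m * x * m⁻¹ ∈ (P : Subgroup G) := by
      intro x hx
      have h1 : m * n * x * (m * n)⁻¹ * x⁻¹ ∈ (P : Subgroup G) :=
        mul_mem ((Subgroup.mem_normalizer_iff.1 hg1 x).1 hx) (inv_mem hx)
      have hν : n * (x * n⁻¹ * x⁻¹) ∈ N := mul_mem hn (Subgroup.Normal.conj_mem ‹N.Normal› _ (inv_mem hn) x)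
      have hμ : m * (x * m⁻¹ * x⁻¹) ∈ M := mul_mem hm (Subgroup.Normal.conj_mem ‹M.Normal› _ (inv_mem hm) x)
      have e : m * n * x * (m * n)⁻¹ * x⁻¹ = m * (n * (x * n⁻¹ * x⁻¹)) * (x * m⁻¹ * x⁻¹) := by group
      rw [e, hcomm m hm _ hν, mul_assoc, ← hcomm _ hμ _ hν] at h1
      have h2 := mul_mem (hsplit _ hμ _ hν h1) hx
      simpa [mul_assoc] using h2
    refine Subgroup.mem_normalizer_iff.2 fun x => ⟨hfwd x, fun hx => ?_⟩
    have hmem : x ∈ (P : Subgroup G).map (MulAut.conj m⁻¹).toMonoidHom := ⟨_, hx, by simp [mul_assoc]⟩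
    have heq : (P : Subgroup G).map (MulAut.conj m).toMonoidHom = (P : Subgroup G) :=
      Subgroup.eq_of_le_of_card_ge (by rintro _ ⟨y, hy, rfl⟩; exact hfwd y hy)
        (Subgroup.card_map_of_injective (MulAut.conj m).injective).ge
    rw [← heq, Subgroup.map_map] at hmem
    obtain ⟨y, hy, hyx⟩ := hmem
    rw [show x = y from hyx.symm.trans (by simp [mul_assoc])]
    exact hy
  have h5 : Nat.card ↥(L ⊓ (M ⊔ N)) = Nat.card ↥(L ⊓ M) * Nat.card ↥(L ⊓ N) := by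
    rw [← Nat.card_prod, (hprod L).2.1 hkey]
  have e1 := CfsgLib.Solv.card_sup_mul_card_inf L (M ⊔ N)
  have e2 := CfsgLib.Solv.card_sup_mul_card_inf L M
  have e3 := CfsgLib.Solv.card_sup_mul_card_inf L N
  rw [h5, hMN'] at e1
  refine Nat.eq_of_mul_eq_mul_left (n := Nat.card L) Nat.card_pos ?_
  have i0 := Subgroup.card_mul_index L
  have i1 := Subgroup.card_mul_index (L ⊔ (M ⊔ N))
  have i2 := Subgroup.card_mul_index (L ⊔ M)
  have i3 := Subgroup.card_mul_index (L ⊔ N)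
  refine Nat.eq_of_mul_eq_mul_left (n := Nat.card L * Nat.card M * Nat.card N) (Nat.mul_pos (Nat.mul_pos Nat.card_pos Nat.card_pos) Nat.card_pos) ?_
  calc Nat.card L * Nat.card M * Nat.card N * (Nat.card L * (L.index * (L ⊔ (M ⊔ N)).index))
      = (Nat.card L * (Nat.card M * Nat.card N)) * ((Nat.card L * L.index) * (L ⊔ (M ⊔ N)).index) := by ring
    _ = (Nat.card ↥(L ⊓ M) * Nat.card ↥(L ⊓ N)) * ((Nat.card ↥(L ⊔ (M ⊔ N)) * (L ⊔ (M ⊔ N)).index) * Nat.card G) := by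
        rw [← e1, i0]; ring
    _ = (Nat.card ↥(L ⊓ M) * Nat.card ↥(L ⊓ N)) * ((Nat.card ↥(L ⊔ M) * (L ⊔ M).index) * (Nat.card ↥(L ⊔ N) * (L ⊔ N).index)) := by
        rw [i1, i2, i3]
    _ = (Nat.card ↥(L ⊔ M) * Nat.card ↥(L ⊓ M)) * (Nat.card ↥(L ⊔ N) * Nat.card ↥(L ⊓ N)) * ((L ⊔ M).index * (L ⊔ N).index) := by ring
    _ = _ := by rw [e2, e3]; ring

end Cfsg.Agent.S3867
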