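import Cfsg.Statements.S3869
import Cfsg.Agent.Solv.MinNonClosed

set_option autoImplicit false
open Cfsg

namespace Cfsg.Agent.S3869

/-- Let p and q be distinct primes and G a finite non-abelian group with a normal elementary abelian q-subgroup A that is a minimal normal subgroup of G and has index p. Then A has order q^e with e the multiplicative order of q modulo p, and G is minimal non-p-closed: its Sylow p-subgroups are not normal, while in every proper subgroup and in every proper quotient of G the Sylow p-subgroups are normal. -/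
theorem result {G : Type*} [Group G] [Finite G] {p q : ℕ} [Fact p.Prime] (hq : q.Prime) (hpq : q ≠ p)
    (hna : ¬ IsMulCommutative G) (A : Subgroup G) [A.Normal] (hA : Cfsg.IsElementaryAbelian q A) (hidx : A.index = p)
    (hmin : ∀ B : Subgroup G, B.Normal → B ≤ A → B = ⊥ ∨ B = A) :
    Nat.card ↥A = q ^ orderOf (q : ZMod p) ∧ ¬ Cfsg.IsPClosed p G ∧ (∀ H : Subgroup G, H ≠ ⊤ → Cfsg.IsPClosed p ↥H) ∧
      ∀ (N : Subgroup G) [N.Normal], N ≠ ⊥ → Cfsg.IsPClosed p (G ⧸ N) := by
  classical
  have hp : p.Prime := Fact.out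
  haveI := Fact.mk hq
  have hAc : ∀ a ∈ A, ∀ b ∈ A, a * b = b * a := fun a ha b hb =>
    congrArg Subtype.val (hA.1.is_comm.comm ⟨a, ha⟩ ⟨b, hb⟩)
  have hA1 : A ≠ ⊥ := by
    rintro rfl
    rw [Subgroup.index_bot] at hidx
    haveI := isCyclic_of_prime_card hidx
    exact hna ⟨⟨fun a b => IsCyclic.commutative.is_comm.comm a b⟩⟩
  have hAq : IsPGroup q A := fun a => ⟨1, Subtype.ext (by rw [pow_one]; exact hA.2 a a.2)⟩
  obtain ⟨m, hm⟩ := hAq.exists_card_eq
  have hpA : ¬ p ∣ Nat.card A := fun h => hpq ((Nat.prime_dvd_prime_iff_eq hp hq).1 (hp.dvd_of_dvd_pow (hm ▸ h))).symm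
  have hG : Nat.card G = Nat.card A * p := by rw [← hidx, Subgroup.card_mul_index]
  have hsyl : ∀ P : Sylow p G, Nat.card (P : Subgroup G) = p := fun P => by
    rw [P.card_eq_multiplicity, hG, Nat.factorization_mul Nat.card_pos.ne' hp.ne_zero, Finsupp.add_apply,
      Nat.factorization_eq_zero_of_not_dvd hpA, zero_add, hp.factorization_self, pow_one]
  have hsup : ∀ P : Sylow p G, A ⊔ (P : Subgroup G) = ⊤ := fun P => by
    have h1 : (A ⊔ (P : Subgroup G)).index ∣ p := (Subgroup.index_dvd_of_le le_sup_left).trans (dvd_of_eq hidx)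
    rcases (Nat.dvd_prime hp).1 h1 with h | h
    · exact Subgroup.index_eq_one.1 h
    · have h3 : (A ⊔ (P : Subgroup G)).index ∣ (P : Subgroup G).index := Subgroup.index_dvd_of_le le_sup_right
      rw [h] at h3
      exact absurd h3 P.not_dvd_index
  have hdisj : ∀ P : Sylow p G, A ⊓ (P : Subgroup G) = ⊥ := fun P => by
    refine Subgroup.inf_eq_bot_of_coprime ?_
    rw [hsyl P]
    exact ((Nat.Prime.coprime_iff_not_dvd hp).2 hpA).symm
  have hnotc : ¬ Cfsg.IsPClosed p G := fun hcl => by
    obtain ⟨P⟩ : Nonempty (Sylow p G) := inferInstance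
    haveI := hcl P
    haveI := isCyclic_of_prime_card (hsyl P)
    apply hna
    have hcc : ∀ a ∈ A, ∀ b ∈ (P : Subgroup G), a * b = b * a := fun a ha b hb =>
      (Subgroup.commute_of_normal_of_disjoint A (P : Subgroup G) inferInstance inferInstance
        (disjoint_iff.2 (hdisj P)) a b ha hb).eq
    refine ⟨⟨fun x y => ?_⟩⟩
    obtain ⟨a, ha, b, hb, rfl⟩ := Subgroup.mem_sup_of_normal_left.1 (hsup P ▸ Subgroup.mem_top x : x ∈ A ⊔ (P : Subgroup G))
    obtain ⟨c, hc, d, hd, rfl⟩ := Subgroup.mem_sup_of_normal_left.1 (hsup P ▸ Subgroup.mem_top y : y ∈ A ⊔ (P : Subgroup G))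
    have hbd : b * d = d * b := congrArg Subtype.val (IsCyclic.commutative.is_comm.comm (⟨b, hb⟩ : (P : Subgroup G)) ⟨d, hd⟩)
    exact ((show Commute a c from hAc a ha c hc).mul_right (hcc a ha d hd)).mul_left
      (((show Commute c b from hcc c hc b hb).symm).mul_right hbd)
  refine ⟨?_, hnotc, fun H hH P => ?_, fun N hN hN1 P => ?_⟩
  · obtain ⟨P⟩ : Nonempty (Sylow p G) := inferInstance
    haveI := isCyclic_of_prime_card (hsyl P)
    obtain ⟨⟨x, hxP⟩, hx⟩ := IsCyclic.exists_generator (α := (P : Subgroup G))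
    have hxp : x ^ p = 1 := by
      have h := pow_card_eq_one' (x := (⟨x, hxP⟩ : (P : Subgroup G)))
      rw [hsyl P] at h
      exact congrArg Subtype.val h
    have hconjx : ∀ a ∈ A, x * a * x⁻¹ ∈ A := fun a ha => Subgroup.Normal.conj_mem ‹A.Normal› a ha x
    have hinv : ∀ B : Subgroup G, B ≤ A → (∀ b ∈ B, x * b * x⁻¹ ∈ B) → B.Normal := by
      intro B hBA hB
      rw [← Subgroup.normalizer_eq_top_iff, eq_top_iff, ← hsup P, sup_le_iff]
      refine ⟨fun a ha => Subgroup.mem_normalizer_iff.2 fun b => ⟨fun hb => ?_, fun hb => ?_⟩, fun y hy => ?_⟩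
      · rw [hAc a ha b (hBA hb), mul_inv_cancel_right]; exact hb
      · have hbA : b ∈ A := by
          have e : a⁻¹ * (a * b * a⁻¹) * a = b := by group
          rw [← e]; exact mul_mem (mul_mem (inv_mem ha) (hBA hb)) ha
        rwa [hAc a ha b hbA, mul_inv_cancel_right] at hb
      · obtain ⟨i, hi⟩ := Subgroup.mem_zpowers_iff.1 (hx ⟨y, hy⟩)
        have : y = x ^ i := (congrArg Subtype.val hi).symm
        rw [this]
        refine zpow_mem (Subgroup.mem_normalizer_iff.2 fun b => ⟨hB b, fun hb => ?_⟩) i
        have hpow : ∀ k : ℕ, ∀ c ∈ B, x ^ k * c * (x ^ k)⁻¹ ∈ B := by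
          intro k
          induction k with
          | zero => intro c hc; simpa using hc
          | succ k ih =>
            intro c hc
            have := hB _ (ih c hc)
            have e : x ^ (k + 1) * c * (x ^ (k + 1))⁻¹ = x * (x ^ k * c * (x ^ k)⁻¹) * x⁻¹ := by rw [pow_succ']; group
            rwa [e]
        have := hpow (p - 1) _ hb
        have e : x ^ (p - 1) * (x * b * x⁻¹) * (x ^ (p - 1))⁻¹ = x ^ p * b * (x ^ p)⁻¹ := by
          conv_rhs => rw [show p = p - 1 + 1 by have := hp.pos; omega, pow_succ]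
          group
        rw [e, hxp, one_mul, inv_one, mul_one] at this
        exact this
    let T : AddMonoid.End (Additive A) :=
      { toFun := fun a => Additive.ofMul ⟨x * (Additive.toMul a : A) * x⁻¹, hconjx _ (Additive.toMul a).2⟩
        map_zero' := congrArg Additive.ofMul (Subtype.ext (by simp))
        map_add' := fun a b => congrArg Additive.ofMul (Subtype.ext (by simp [mul_assoc])) }
    have hTk : ∀ (k : ℕ) (a : Additive A), (((T ^ k) a).toMul : G) = x ^ k * (a.toMul : G) * (x ^ k)⁻¹ := by
      intro k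
      induction k with
      | zero => intro a; simp
      | succ k ih =>
        intro a
        rw [pow_succ']
        show x * (((T ^ k) a).toMul : G) * x⁻¹ = _
        rw [ih, pow_succ']; group
    letI : CommGroup A := { (inferInstance : Group A) with mul_comm := hA.1.is_comm.comm }
    haveI : Nontrivial A := A.nontrivial_iff_ne_bot.2 hA1
    set e := orderOf (q : ZMod p) with he
    have hunit : (q : ZMod p) ≠ 0 := fun h => hpq ((Nat.prime_dvd_prime_iff_eq hp hq).1 ((ZMod.natCast_eq_zero_iff q p).1 h)).symm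
    have hqe : q ^ e ≡ 1 [MOD p] := by
      rw [← ZMod.natCast_eq_natCast_iff, Nat.cast_pow, Nat.cast_one, he, pow_orderOf_eq_one]
    have hepos : 0 < e := by
      rw [he, orderOf_pos_iff]
      exact isOfFinOrder_iff_pow_eq_one.2 ⟨p - 1, by have := hp.two_le; omega, ZMod.pow_card_sub_one_eq_one hunit⟩
    have hsimple : ∀ W : AddSubgroup (Additive A), (∀ w ∈ W, T w ∈ W) → W = ⊥ ∨ W = ⊤ := by
      intro W hW
      let B : Subgroup G := (AddSubgroup.toSubgroup' W).map A.subtype
      have hBn : B.Normal := hinv B (Subgroup.map_subtype_le _) (by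
        rintro _ ⟨b, hb, rfl⟩
        exact ⟨Additive.toMul (T (Additive.ofMul b)), hW _ hb, rfl⟩)
      rcases hmin B hBn (Subgroup.map_subtype_le _) with h | h
      · left
        rw [AddSubgroup.eq_bot_iff_forall]
        intro w hw
        have hm : ((Additive.toMul w : A) : G) ∈ B := ⟨_, hw, rfl⟩
        rw [h, Subgroup.mem_bot] at hm
        exact Additive.toMul.injective (Subtype.ext hm)
      · right
        refine eq_top_iff.2 fun w _ => ?_
        obtain ⟨b, hb, hbw⟩ : ((Additive.toMul w : A) : G) ∈ B := by rw [h]; exact (Additive.toMul w).2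
        have e : b = Additive.toMul w := Subtype.ext hbw
        subst e
        exact hb
    have hle := CfsgLib.Solv.card_le_of_simple (p := p) (q := q) T
      (DFunLike.ext _ _ fun a => Additive.toMul.injective (Subtype.ext ((hTk p a).trans (by
        rw [hxp]; simp))))
      (fun v => Additive.toMul.injective (Subtype.ext (hA.2 _ v.toMul.2))) e hepos hqe hsimple
    have hle' : Nat.card A ≤ q ^ e := hle
    -- conjugation by `x` fixes only the identity, so `p ∣ q ^ m - 1`
    have hfix : ∀ a ∈ A, x * a * x⁻¹ = a → a = 1 := by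
      intro a ha hax
      let B : Subgroup G := A ⊓ Subgroup.centralizer ({x} : Set G)
      have hBn : B.Normal := hinv B inf_le_left (fun b hb => by
        have h := Subgroup.mem_centralizer_singleton_iff.1 hb.2
        rw [← h, mul_inv_cancel_right]; exact hb)
      rcases hmin B hBn inf_le_left with h | h
      · exact (Subgroup.eq_bot_iff_forall _).1 h a ⟨ha, Subgroup.mem_centralizer_singleton_iff.2 (mul_inv_eq_iff_eq_mul.1 hax).symm⟩
      · exfalso
        apply hnotc
        intro Q
        have hA' : A ≤ Subgroup.centralizer ((P : Subgroup G) : Set G) := fun b hb => by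
          refine Subgroup.mem_centralizer_iff.2 fun y hy => ?_
          obtain ⟨i, hi⟩ := Subgroup.mem_zpowers_iff.1 (hx ⟨y, hy⟩)
          have : y = x ^ i := (congrArg Subtype.val hi).symm
          rw [this]
          have hb' : b ∈ B := h.symm ▸ hb
          exact ((show Commute b x from Subgroup.mem_centralizer_singleton_iff.1 hb'.2).zpow_right i).eq.symm
        haveI hPn : (P : Subgroup G).Normal := by
          rw [← Subgroup.normalizer_eq_top_iff, eq_top_iff, ← hsup P, sup_le_iff]
          exact ⟨hA'.trans (Subgroup.centralizer_le_normalizer _), Subgroup.le_normalizer⟩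
        haveI := Sylow.unique_of_normal P hPn
        rw [Subsingleton.elim Q P]; exact hPn
    have hdvd : p ∣ q ^ m - 1 := by
      haveI := Fintype.ofFinite A
      let σ : Equiv.Perm A :=
        { toFun := fun a => ⟨x * a * x⁻¹, hconjx a a.2⟩
          invFun := fun a => ⟨x⁻¹ * a * x, by simpa using Subgroup.Normal.conj_mem ‹A.Normal› a a.2 x⁻¹⟩
          left_inv := fun a => Subtype.ext (show x⁻¹ * (x * a * x⁻¹) * x = (a : G) by group)
          right_inv := fun a => Subtype.ext (show x * (x⁻¹ * a * x) * x⁻¹ = (a : G) by group) }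
      by_contra hnd
      let σ' : Equiv.Perm {a : A // a ≠ 1} := σ.subtypePerm (fun a => by
        have h1 : σ 1 = 1 := Subtype.ext (show x * ((1 : A) : G) * x⁻¹ = 1 by simp)
        exact ⟨fun h e => h (by rw [e, h1]), fun h e => h (σ.injective (e.trans h1.symm))⟩)
      have hσk : ∀ (k : ℕ) (a : A), ((σ ^ k) a : G) = x ^ k * a * (x ^ k)⁻¹ := by
        intro k
        induction k with
        | zero => intro a; simp
        | succ k ih =>
          intro a
          rw [pow_succ']
          show x * ((σ ^ k) a : G) * x⁻¹ = _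
          rw [ih, pow_succ']; group
      obtain ⟨z, hz⟩ := Equiv.Perm.exists_fixed_point_of_prime (p := p) (n := 1) (α := {a : A // a ≠ 1}) (by
        rw [Fintype.card_subtype_compl, Fintype.card_subtype_eq, ← Nat.card_eq_fintype_card, hm]
        exact hnd) (σ := σ') (by
        refine Equiv.ext fun a => Subtype.ext (Subtype.ext ?_)
        rw [pow_one, Equiv.Perm.subtypePerm_pow]
        show ((σ ^ p) a.1 : G) = a.1
        rw [hσk, hxp]; simp)
      exact z.2 (Subtype.ext (hfix _ z.1.2 (congrArg (fun t : {a : A // a ≠ 1} => (t.1 : G)) hz)))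
    have hem : e ∣ m := by
      rw [he, orderOf_dvd_iff_pow_eq_one, ← Nat.cast_pow, ← Nat.cast_one, ZMod.natCast_eq_natCast_iff]
      exact ((Nat.modEq_iff_dvd' (Nat.one_le_pow _ _ hq.pos)).2 hdvd).symm
    have hm0 : m ≠ 0 := by
      rintro rfl
      rw [pow_zero] at hm
      exact hA1 (Subgroup.card_eq_one.1 hm)
    rw [hm] at hle' ⊢
    have h1 := Nat.le_of_dvd (Nat.pos_of_ne_zero hm0) hem
    have h2 := (Nat.pow_le_pow_iff_right hq.one_lt).1 hle'
    rw [show m = e by omega]
  · by_cases hdvd : p ∣ Nat.card H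
    swap
    · have : (P : Subgroup H) = ⊥ := by
        rw [← Subgroup.card_eq_one, P.card_eq_multiplicity, Nat.factorization_eq_zero_of_not_dvd hdvd, pow_zero]
      rw [this]; infer_instance
    obtain ⟨R, hR⟩ := (P.2.map H.subtype).exists_le_sylow
    have hPc : Nat.card (P : Subgroup H) = p := by
      have h1 : Nat.card ((P : Subgroup H).map H.subtype) ≤ p := (Subgroup.card_le_of_le hR).trans_eq (hsyl R)
      rw [Subgroup.card_map_of_injective H.subtype_injective] at h1
      have h2 : p ∣ Nat.card (P : Subgroup H) := P.dvd_card_of_dvd_card hdvd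
      exact le_antisymm h1 (Nat.le_of_dvd Nat.card_pos h2)
    have hReq : (P : Subgroup H).map H.subtype = (R : Subgroup G) := Subgroup.eq_of_le_of_card_ge hR (by
      rw [Subgroup.card_map_of_injective H.subtype_injective, hPc, hsyl R])
    have hRH : (R : Subgroup G) ≤ H := hReq ▸ Subgroup.map_subtype_le _
    have hHA : (H ⊓ A).Normal := by
      rw [← Subgroup.normalizer_eq_top_iff, eq_top_iff, ← hsup R, sup_le_iff]
      refine ⟨fun a ha => Subgroup.mem_normalizer_iff.2 fun b => ⟨fun hb => ?_, fun hb => ?_⟩,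
        fun r hr => Subgroup.mem_normalizer_iff.2 fun b => ?_⟩
      · rw [hAc a ha b hb.2, mul_inv_cancel_right]; exact hb
      · have hbA : b ∈ A := by
          have e : a⁻¹ * (a * b * a⁻¹) * a = b := by group
          rw [← e]; exact mul_mem (mul_mem (inv_mem ha) hb.2) ha
        rwa [hAc a ha b hbA, mul_inv_cancel_right] at hb
      · constructor
        · intro hb
          exact Subgroup.mem_inf.2 ⟨mul_mem (mul_mem (hRH hr) hb.1) (inv_mem (hRH hr)), Subgroup.Normal.conj_mem ‹A.Normal› b hb.2 r⟩
        · intro hb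
          have e : r⁻¹ * (r * b * r⁻¹) * r = b := by group
          rw [← e]
          exact Subgroup.mem_inf.2 ⟨mul_mem (mul_mem (inv_mem (hRH hr)) hb.1) (hRH hr),
            by simpa using Subgroup.Normal.conj_mem ‹A.Normal› _ hb.2 r⁻¹⟩
    rcases hmin _ hHA inf_le_right with h | h
    · have hle : H ≤ (R : Subgroup G) := fun y hy => by
        obtain ⟨a, ha, b, hb, rfl⟩ := Subgroup.mem_sup_of_normal_left.1 (hsup R ▸ Subgroup.mem_top y : y ∈ A ⊔ (R : Subgroup G))
        have : a = 1 := (Subgroup.eq_bot_iff_forall _).1 h a ⟨by simpa using mul_mem hy (inv_mem (hRH hb)), ha⟩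
        rw [this, one_mul]; exact hb
      have : (P : Subgroup H) = ⊤ := Subgroup.eq_top_of_le_card _ (by
        rw [hPc, ← hsyl R]; exact Subgroup.card_le_of_le hle)
      rw [this]; infer_instance
    · exact absurd (eq_top_iff.2 (hsup R ▸ sup_le (h.symm.le.trans inf_le_left) hRH)) hH
  · haveI := hN
    by_cases hAN : A ≤ N
    · have : (N.index) ∣ p := (Subgroup.index_dvd_of_le hAN).trans (dvd_of_eq hidx)
      obtain ⟨j, -, hj⟩ := (Nat.dvd_prime_pow hp).1 (show N.index ∣ p ^ 1 by rwa [pow_one])
      have htop : (P : Subgroup (G ⧸ N)) = ⊤ := (P.3 ((IsPGroup.of_card (G := G ⧸ N) hj).to_subgroup ⊤) le_top).symm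
      rw [htop]; infer_instance
    · exfalso
      have hd : N ⊓ A = ⊥ := (hmin _ inferInstance inf_le_right).resolve_right fun h => hAN (h.symm.le.trans inf_le_left)
      have h := CfsgLib.Solv.card_sup_mul_card_inf N A
      rw [hd, Subgroup.card_bot, mul_one] at h
      have h2 : Nat.card N * Nat.card A ∣ Nat.card A * p := h ▸ hG ▸ Subgroup.card_subgroup_dvd_card (N ⊔ A)
      rw [mul_comm (Nat.card A) p] at h2
      have hNc : Nat.card N = p := ((Nat.dvd_prime hp).1 (Nat.dvd_of_mul_dvd_mul_right Nat.card_pos h2)).resolve_left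
        (fun h1 => hN1 (Subgroup.card_eq_one.1 h1))
      obtain ⟨R, hR⟩ := (IsPGroup.of_card (n := 1) (by rw [hNc, pow_one]) : IsPGroup p N).exists_le_sylow
      have hReq := Subgroup.eq_of_le_of_card_ge hR (by rw [hNc, hsyl R])
      haveI hRn : (R : Subgroup G).Normal := hReq ▸ hN
      haveI := Sylow.unique_of_normal R hRn
      exact hnotc fun Q => by rw [Subsingleton.elim Q R]; exact hRn

end Cfsg.Agent.S3869
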