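import Cfsg.Statements.S3868
import Cfsg.Agent.S3869

set_option autoImplicit false
open Cfsg
open scoped Pointwise

namespace Cfsg.Agent.S3868

/-- Structure of the non-simple minimal non-p-closed groups. Call a finite group p-closed when its Sylow p-subgroups are normal, and minimal non-p-closed when it is not p-closed but every proper subgroup and every proper quotient is. If such a group G is not simple, then there is a prime q ≠ p such that G has order p · q^e, where e is the multiplicative order of q modulo p, and G has a normal subgroup A of order q^e that is elementary abelian and is a minimal normal subgroup of G (so G is the semidirect product of A by a group of order p acting irreducibly). -/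
theorem result {G : Type*} [Group G] [Finite G] {p : ℕ} [Fact p.Prime]
    (hnc : ¬ Cfsg.IsPClosed p G) (hsub : ∀ H : Subgroup G, H ≠ ⊤ → Cfsg.IsPClosed p ↥H)
    (hquo : ∀ (N : Subgroup G) [N.Normal], N ≠ ⊥ → Cfsg.IsPClosed p (G ⧸ N)) (hns : ¬ IsSimpleGroup G) :
    ∃ q : ℕ, q.Prime ∧ q ≠ p ∧ Nat.card G = p * q ^ orderOf (q : ZMod p) ∧
      ∃ A : Subgroup G, A.Normal ∧ Nat.card ↥A = q ^ orderOf (q : ZMod p) ∧ Cfsg.IsElementaryAbelian q A ∧
        ∀ B : Subgroup G, B.Normal → B ≤ A → B = ⊥ ∨ B = A := by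
  classical
  have hp : p.Prime := Fact.out
  haveI : Nontrivial G := by
    by_contra h
    rw [not_nontrivial_iff_subsingleton] at h
    exact hnc fun P => by rw [Subsingleton.elim (P : Subgroup G) ⊥]; infer_instance
  have hchar : ∀ (H : Subgroup G) (_ : H.Normal) (P : Sylow p G), (P : Subgroup G) ≤ H →
      Cfsg.IsPClosed p ↥H → (P : Subgroup G).Normal := by
    intro H _ P hPH hcl
    let PH : Sylow p H := P.subtype hPH
    haveI hn := hcl PH
    haveI : (PH : Subgroup H).Characteristic := PH.characteristic_of_normal hn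
    have := CfsgLib.Solv.normal_map_subtype_of_characteristic (N := H) (PH : Subgroup H)
    rwa [Sylow.coe_subtype, Subgroup.subgroupOf_map_subtype, inf_eq_left.2 hPH] at this
  obtain ⟨M, hM, hM1, hMt⟩ : ∃ M : Subgroup G, M.Normal ∧ M ≠ ⊥ ∧ M ≠ ⊤ := by
    by_contra hno
    push Not at hno
    exact hns ⟨fun H hH => (em (H = ⊥)).imp id (hno H hH)⟩
  obtain ⟨A, hAM, hA⟩ := Finite.exists_le_minimal (p := fun B : Subgroup G => B.Normal ∧ B ≠ ⊥) (a := M) ⟨hM, hM1⟩
  obtain ⟨⟨hAn, hA1⟩, hAmin⟩ := hA
  haveI := hAn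
  have hAt : A ≠ ⊤ := fun h => hMt (eq_top_iff.2 (h ▸ hAM))
  have hmin : ∀ B : Subgroup G, B.Normal → B ≤ A → B = ⊥ ∨ B = A := fun B hB hBA =>
    (em (B = ⊥)).imp id fun h => le_antisymm hBA (hAmin ⟨hB, h⟩ hBA)
  -- a normal `p`-subgroup is impossible
  have hnoR : ∀ R : Subgroup G, R.Normal → IsPGroup p R → R = ⊥ := by
    intro R hR hRp
    by_contra hR1
    haveI := hR
    apply hnc
    intro P
    have hRP : R ≤ (P : Subgroup G) := (CfsgLib.Solv.le_pCore hRp).trans (CfsgLib.Solv.pCore_le_sylow P)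
    let P' : Sylow p (G ⧸ R) := P.mapSurjective (QuotientGroup.mk'_surjective R)
    haveI hn := hquo R hR1 P'
    have e : (P : Subgroup G) = (P' : Subgroup (G ⧸ R)).comap (QuotientGroup.mk' R) := by
      rw [Sylow.coe_mapSurjective, Subgroup.comap_map_eq, QuotientGroup.ker_mk', sup_eq_left.2 hRP]
    rw [e]; infer_instance
  have hpA : ¬ p ∣ Nat.card A := by
    intro hd
    obtain ⟨PA⟩ : Nonempty (Sylow p A) := inferInstance
    haveI hn := hsub A hAt PA
    haveI : (PA : Subgroup A).Characteristic := PA.characteristic_of_normal hn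
    have hR := CfsgLib.Solv.normal_map_subtype_of_characteristic (N := A) (PA : Subgroup A)
    have := hnoR _ hR (PA.2.map _)
    rw [Subgroup.map_eq_bot_iff_of_injective _ A.subtype_injective] at this
    have hd' := PA.dvd_card_of_dvd_card hd
    rw [this, Subgroup.card_bot] at hd'
    exact hp.not_dvd_one hd'
  obtain ⟨P⟩ : Nonempty (Sylow p G) := inferInstance
  have hPn : ¬ (P : Subgroup G).Normal := fun h => hnc fun Q => by
    haveI := Sylow.unique_of_normal P h
    rw [Subsingleton.elim Q P]; exact h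
  have hnormsup : (A ⊔ (P : Subgroup G)).Normal := by
    let P' : Sylow p (G ⧸ A) := P.mapSurjective (QuotientGroup.mk'_surjective A)
    haveI hn := hquo A hA1 P'
    have e : A ⊔ (P : Subgroup G) = (P' : Subgroup (G ⧸ A)).comap (QuotientGroup.mk' A) := by
      rw [Sylow.coe_mapSurjective, Subgroup.comap_map_eq, QuotientGroup.ker_mk', sup_comm]
    rw [e]; infer_instance
  have htop : A ⊔ (P : Subgroup G) = ⊤ := by
    by_contra h
    exact hPn (hchar _ hnormsup P le_sup_right (hsub _ h))
  have hco : ∀ H : Subgroup G, IsPGroup p H → H ⊓ A = ⊥ := by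
    intro H hH
    obtain ⟨k, hk⟩ := hH.exists_card_eq
    refine Subgroup.inf_eq_bot_of_coprime ?_
    rw [hk]
    exact Nat.Coprime.pow_left k ((Nat.Prime.coprime_iff_not_dvd hp).2 hpA)
  have hPc : Nat.card (P : Subgroup G) = p := by
    obtain ⟨k, hk⟩ := P.2.exists_card_eq
    have hk0 : k ≠ 0 := by
      rintro rfl
      rw [pow_zero] at hk
      exact hPn (by rw [Subgroup.card_eq_one.1 hk]; infer_instance)
    by_contra hne
    have hk2 : 2 ≤ k := by
      by_contra hk2
      exact hne (by rw [hk, show k = 1 by omega, pow_one])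
    obtain ⟨K, hK⟩ := Sylow.exists_subgroup_card_pow_prime p (G := (P : Subgroup G)) (n := k - 1) (hk ▸ pow_dvd_pow p (Nat.sub_le k 1))
    have hKi : K.index = p := by
      have h := Subgroup.card_mul_index K
      rw [hK, hk] at h
      refine Nat.eq_of_mul_eq_mul_left (pow_pos hp.pos (k - 1)) (h.trans ?_)
      rw [← pow_succ, Nat.sub_add_cancel (by omega)]
    haveI hKn : K.Normal := Subgroup.normal_of_index_eq_minFac_card (by
      rw [hKi, hk, Nat.pow_minFac hk0, hp.minFac_eq])
    set K' := K.map (P : Subgroup G).subtype with hK'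
    have hKp : IsPGroup p K' := (P.2.to_subgroup K).map _
    have hK'P : K' ≤ (P : Subgroup G) := Subgroup.map_subtype_le _
    have hAK : A ⊔ K' ≠ ⊤ := fun h => by
      have h1 := CfsgLib.Solv.card_sup_mul_card_inf K' A
      have h2 := CfsgLib.Solv.card_sup_mul_card_inf (P : Subgroup G) A
      rw [hco K' hKp, Subgroup.card_bot, mul_one, sup_comm, h] at h1
      rw [hco _ P.2, Subgroup.card_bot, mul_one, sup_comm, htop] at h2
      rw [h1] at h2
      have h3 := Nat.eq_of_mul_eq_mul_right Nat.card_pos h2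
      rw [hK', Subgroup.card_map_of_injective (P : Subgroup G).subtype_injective, hK, hk] at h3
      exact absurd h3 (Nat.pow_lt_pow_right hp.one_lt (by omega)).ne
    obtain ⟨S, hS⟩ := (hKp.comap_of_injective (A ⊔ K').subtype (A ⊔ K').subtype_injective).exists_le_sylow
    haveI := hsub _ hAK S
    set S' := (S : Subgroup ↥(A ⊔ K')).map (A ⊔ K').subtype with hS'
    have hKS : K' ≤ S' := fun z hz => ⟨⟨z, Subgroup.mem_sup_right hz⟩, hS hz, rfl⟩
    have hSK : S' = K' := by
      refine (Subgroup.eq_of_le_of_card_ge hKS ?_).symm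
      have h1 := CfsgLib.Solv.card_sup_mul_card_inf K' A
      rw [hco K' hKp, Subgroup.card_bot, mul_one, sup_comm] at h1
      obtain ⟨j, hj⟩ := (S.2.map (A ⊔ K').subtype : IsPGroup p S').exists_card_eq
      have h2 : Nat.card S' ∣ Nat.card K' * Nat.card A := h1 ▸ Subgroup.card_dvd_of_le (Subgroup.map_subtype_le _)
      rw [hj] at h2 ⊢
      exact Nat.le_of_dvd Nat.card_pos ((Nat.Coprime.pow_left j ((Nat.Prime.coprime_iff_not_dvd hp).2 hpA)).dvd_of_dvd_mul_right h2)
    have hAn' : A ≤ Subgroup.normalizer (K' : Set G) := by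
      rw [← hSK]
      have h1 := Subgroup.le_normalizer_map (A ⊔ K').subtype (H := (S : Subgroup ↥(A ⊔ K')))
      rw [Subgroup.normalizer_eq_top_iff.2 ‹_›, ← MonoidHom.range_eq_map, Subgroup.range_subtype] at h1
      exact (le_sup_left : A ≤ A ⊔ K').trans h1
    have hPn' : (P : Subgroup G) ≤ Subgroup.normalizer (K' : Set G) := by
      refine le_trans ?_ (Subgroup.le_normalizer_map (P : Subgroup G).subtype)
      rw [Subgroup.normalizer_eq_top_iff.2 hKn, ← MonoidHom.range_eq_map, Subgroup.range_subtype]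
    have hK'n : K'.Normal := by
      rw [← Subgroup.normalizer_eq_top_iff, eq_top_iff, ← htop, sup_le_iff]
      exact ⟨hAn', hPn'⟩
    have hb := hnoR K' hK'n hKp
    have hc : Nat.card K' = p ^ (k - 1) := by
      rw [hK', Subgroup.card_map_of_injective (P : Subgroup G).subtype_injective, hK]
    rw [hb, Subgroup.card_bot] at hc
    exact absurd hc.symm (Nat.one_lt_pow (by omega) hp.one_lt).ne'
  have hG : Nat.card G = Nat.card A * p := by
    have h := CfsgLib.Solv.card_sup_mul_card_inf (P : Subgroup G) A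
    rw [hco _ P.2, Subgroup.card_bot, mul_one, sup_comm, htop, Subgroup.card_top, hPc, mul_comm] at h
    exact h
  -- some prime `q` has a Sylow subgroup of `A` not centralized by `P`, and it must be `A`
  obtain ⟨q, hq, hqA⟩ := Nat.exists_prime_and_dvd (show Nat.card A ≠ 1 from fun h => hA1 (Subgroup.card_eq_one.1 h))
  have hinvQ : ∀ r : ℕ, r.Prime → ∃ Q : Subgroup G, Q ≤ A ∧ IsPGroup r Q ∧ ¬ r ∣ Q.relIndex A ∧
      (P : Subgroup G) ≤ Subgroup.normalizer (Q : Set G) := by
    intro r hr
    haveI := Fact.mk hr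
    letI : MulAction (P : Subgroup G) (Sylow r A) :=
      MulAction.compHom _ ((MulAut.conjNormal (H := A)).comp (P : Subgroup G).subtype)
    have hnd : ¬ p ∣ Nat.card (Sylow r A) := fun h => hpA (by
      obtain ⟨Q₀⟩ : Nonempty (Sylow r A) := inferInstance
      exact h.trans (Q₀.card_dvd_index.trans (Subgroup.index_dvd_card _)))
    obtain ⟨Q, hQ⟩ := P.2.nonempty_fixed_point_of_prime_not_dvd_card (Sylow r A) hnd
    refine ⟨(Q : Subgroup A).map A.subtype, Subgroup.map_subtype_le _, Q.2.map _, ?_, ?_⟩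
    · show ¬ r ∣ (((Q : Subgroup A).map A.subtype).subgroupOf A).index
      rw [Subgroup.subgroupOf, Subgroup.comap_map_eq_self_of_injective A.subtype_injective]
      exact Q.not_dvd_index
    · have hmem : ∀ y ∈ (P : Subgroup G), ∀ z ∈ (Q : Subgroup A).map A.subtype, y * z * y⁻¹ ∈ (Q : Subgroup A).map A.subtype := by
        rintro y hy _ ⟨z, hz, rfl⟩
        have h : (⟨y, hy⟩ : (P : Subgroup G)) • Q = Q := hQ ⟨y, hy⟩
        have hz' : (MulAut.conjNormal (H := A) y) z ∈ (((⟨y, hy⟩ : (P : Subgroup G)) • Q : Sylow r A) : Subgroup A) :=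
          Subgroup.smul_mem_pointwise_smul (a := MulAut.conjNormal (H := A) y) z (Q : Subgroup A) hz
        rw [h] at hz'
        exact ⟨_, hz', MulAut.conjNormal_apply y z⟩
      intro y hy
      refine Subgroup.mem_normalizer_iff.2 fun z => ⟨hmem y hy z, fun hz => ?_⟩
      have := hmem y⁻¹ (inv_mem hy) _ hz
      simpa [mul_assoc] using this
  obtain ⟨r, hr, Q, hQA, hQr, hQi, hQP, hQc⟩ : ∃ r : ℕ, r.Prime ∧ ∃ Q : Subgroup G, Q ≤ A ∧ IsPGroup r Q ∧
      ¬ r ∣ Q.relIndex A ∧ (P : Subgroup G) ≤ Subgroup.normalizer (Q : Set G) ∧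
      ¬ Q ≤ Subgroup.centralizer ((P : Subgroup G) : Set G) := by
    by_contra hno
    push Not at hno
    apply hPn
    have hAC : A ≤ Subgroup.centralizer ((P : Subgroup G) : Set G) := by
      rw [← Subgroup.subgroupOf_eq_top, ← Subgroup.index_eq_one]
      by_contra hne
      obtain ⟨r, hr, hrd⟩ := Nat.exists_prime_and_dvd hne
      obtain ⟨Q, hQA, hQr, hQi, hQP⟩ := hinvQ r hr
      have hle : Q.subgroupOf A ≤ (Subgroup.centralizer ((P : Subgroup G) : Set G)).subgroupOf A :=
        Subgroup.comap_mono (hno r hr Q hQA hQr hQi hQP)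
      exact hQi (hrd.trans (Subgroup.index_dvd_of_le hle))
    rw [← Subgroup.normalizer_eq_top_iff, eq_top_iff, ← htop, sup_le_iff]
    exact ⟨hAC.trans (Subgroup.centralizer_le_normalizer _), Subgroup.le_normalizer⟩
  have hQA' : Q = A := by
    by_contra hne
    set H := (P : Subgroup G) ⊔ Q with hH
    have hHA : H ⊓ A ≤ Q := by
      intro y hy
      have hm : y ∈ ((H : Subgroup G) : Set G) := hy.1
      rw [hH, Subgroup.coe_mul_of_left_le_normalizer_right (P : Subgroup G) Q hQP] at hm
      obtain ⟨a, ha, b, hb, rfl⟩ := hm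
      have hy2 : a * b ∈ A := hy.2
      have ha' : a = 1 := (Subgroup.eq_bot_iff_forall _).1 (hco _ P.2) a
        ⟨ha, by simpa using mul_mem hy2 (inv_mem (hQA hb))⟩
      show a * b ∈ Q
      rw [ha', one_mul]; exact hb
    have hHt : H ≠ ⊤ := fun h => hne (le_antisymm hQA (by simpa [h] using hHA))
    apply hQc
    let PH : Sylow p H := P.subtype le_sup_left
    haveI hn := hsub H hHt PH
    have hnorm : Q ≤ Subgroup.normalizer ((P : Subgroup G) : Set G) := by
      have h1 := Subgroup.le_normalizer_map H.subtype (H := (PH : Subgroup H))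
      rw [Subgroup.normalizer_eq_top_iff.2 hn, ← MonoidHom.range_eq_map, Subgroup.range_subtype, Sylow.coe_subtype,
        Subgroup.subgroupOf_map_subtype, inf_eq_left.2 (le_sup_left : (P : Subgroup G) ≤ H)] at h1
      exact le_sup_right.trans h1
    intro z hz
    refine Subgroup.mem_centralizer_iff.2 fun y hy => ?_
    have h1 : y * z * y⁻¹ * z⁻¹ ∈ (P : Subgroup G) := by
      rw [show y * z * y⁻¹ * z⁻¹ = y * (z * y⁻¹ * z⁻¹) by group]
      exact mul_mem hy ((Subgroup.mem_normalizer_iff.1 (hnorm hz) _).1 (inv_mem hy))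
    have h2 : y * z * y⁻¹ * z⁻¹ ∈ A := mul_mem (hAn.conj_mem z (hQA hz) y) (inv_mem (hQA hz))
    have h3 : y * z * y⁻¹ * z⁻¹ = 1 := (Subgroup.eq_bot_iff_forall _).1 (hco _ P.2) _ ⟨h1, h2⟩
    rw [mul_inv_eq_one, mul_inv_eq_iff_eq_mul] at h3
    exact h3
  subst hQA'
  haveI := Fact.mk hr
  have hQab : IsMulCommutative Q := by
    haveI : Nontrivial Q := Q.nontrivial_iff_ne_bot.2 hA1
    haveI := hQr.center_nontrivial
    haveI := CfsgLib.Solv.normal_map_subtype_of_characteristic (N := Q) (Subgroup.center Q)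
    rcases hmin _ inferInstance (Subgroup.map_subtype_le (Subgroup.center Q)) with h | h
    · rw [Subgroup.map_eq_bot_iff_of_injective _ Q.subtype_injective] at h
      exact absurd h ((Subgroup.center Q).nontrivial_iff_ne_bot.1 inferInstance)
    · refine ⟨⟨fun a b => ?_⟩⟩
      obtain ⟨c, hc, hcb⟩ : (b : G) ∈ (Subgroup.center Q).map Q.subtype := h.symm ▸ b.2
      have : c = b := Subtype.ext hcb
      subst this
      exact Subgroup.mem_center_iff.1 hc a
  have hQe : Cfsg.IsElementaryAbelian r Q := by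
    refine ⟨hQab, ?_⟩
    let f : Q →* G :=
      { toFun := fun a => (a : G) ^ r
        map_one' := by simp
        map_mul' := fun a b => by
          show ((a : G) * b) ^ r = _
          exact (show Commute (a : G) b from congrArg Subtype.val (hQab.is_comm.comm a b)).mul_pow r }
    have hn : (f.ker.map Q.subtype).Normal := ⟨by
      rintro _ ⟨a, ha, rfl⟩ g
      refine ⟨⟨g * a * g⁻¹, hAn.conj_mem a a.2 g⟩, ?_, rfl⟩
      show (g * (a : G) * g⁻¹) ^ r = 1
      rw [conj_pow, show (a : G) ^ r = 1 from ha, mul_one, mul_inv_cancel]⟩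
    rcases hmin _ hn (Subgroup.map_subtype_le _) with h | h
    · exfalso
      obtain ⟨j, hj⟩ := hQr.exists_card_eq
      have hj0 : j ≠ 0 := by rintro rfl; exact hA1 (Subgroup.card_eq_one.1 (by simpa using hj))
      obtain ⟨z, hz⟩ := exists_prime_orderOf_dvd_card' r (G := Q) (hj ▸ dvd_pow_self r hj0)
      have hzm : (z : G) ∈ f.ker.map Q.subtype := ⟨z, by
        show (z : G) ^ r = 1
        rw [← hz, ← Subgroup.orderOf_coe, pow_orderOf_eq_one], rfl⟩
      rw [h, Subgroup.mem_bot] at hzm
      rw [← Subgroup.orderOf_coe, hzm, orderOf_one] at hz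
      exact hr.ne_one hz.symm
    · intro a ha
      obtain ⟨c, hc, hca⟩ : a ∈ f.ker.map Q.subtype := h.symm ▸ ha
      rw [← hca]; exact hc
  have hrp : r ≠ p := by
    rintro rfl
    exact hA1 (hnoR Q hAn hQr)
  have hidx : Q.index = p := by
    have h := Subgroup.card_mul_index Q
    rw [hG] at h
    exact Nat.eq_of_mul_eq_mul_left Nat.card_pos h
  have hna : ¬ IsMulCommutative G := fun hab => hPn
    ⟨fun n hn g => by rwa [hab.is_comm.comm g n, mul_inv_cancel_right]⟩
  have hres := (Cfsg.Agent.S3869.result hr hrp hna Q hQe hidx hmin).1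
  exact ⟨r, hr, hrp, by rw [hG, hres, mul_comm], Q, hAn, hres, hQe, hmin⟩

end Cfsg.Agent.S3868
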