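import Cfsg.Statements.S3870
import Cfsg.Agent.Solv.Basic

set_option autoImplicit false
open Cfsg
open scoped Pointwise

namespace Cfsg.Agent.S3870

/-- Let G be a finite simple group whose Sylow p-subgroups are not normal but such that every proper subgroup of G has a normal Sylow p-subgroup. Then any two distinct Sylow p-subgroups of G intersect trivially, and for every Sylow p-subgroup P the normalizer of every non-identity subgroup of P lies in the normalizer of P. -/
theorem result {G : Type*} [Group G] [Finite G] [IsSimpleGroup G] {p : ℕ} [Fact p.Prime]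
    (hnc : ¬ Cfsg.IsPClosed p G) (hsub : ∀ H : Subgroup G, H ≠ ⊤ → Cfsg.IsPClosed p ↥H) :
    (∀ P Q : Sylow p G, P ≠ Q → (P : Subgroup G) ⊓ (Q : Subgroup G) = ⊥) ∧
      ∀ (P : Sylow p G) (R : Subgroup G), R ≤ P → R ≠ ⊥ →
        Subgroup.normalizer (R : Set G) ≤ Subgroup.normalizer ((P : Subgroup G) : Set G) := by
  classical
  haveI := Fintype.ofFinite G
  have hproper : ∀ D : Subgroup G, IsPGroup p D → D ≠ ⊥ → Subgroup.normalizer (D : Set G) ≠ ⊤ := by
    intro D hD h1 h
    haveI : D.Normal := Subgroup.normalizer_eq_top_iff.1 h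
    rcases IsSimpleGroup.eq_bot_or_eq_top_of_normal D inferInstance with h2 | h2
    · exact h1 h2
    · refine hnc fun P => ?_
      have : (P : Subgroup G) = ⊤ := (P.3 (h2 ▸ hD : IsPGroup p (⊤ : Subgroup G)) le_top).symm
      rw [this]; infer_instance
  have hTI : ∀ P Q : Sylow p G, P ≠ Q → (P : Subgroup G) ⊓ (Q : Subgroup G) = ⊥ := by
    by_contra hno
    push Not at hno
    obtain ⟨P₁, Q₁, hne₁, hD₁⟩ := hno
    let S : Finset (Sylow p G × Sylow p G) := Finset.univ.filter fun t => t.1 ≠ t.2 ∧ (t.1 : Subgroup G) ⊓ (t.2 : Subgroup G) ≠ ⊥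
    obtain ⟨⟨P, Q⟩, hmem, hmax⟩ := S.exists_max_image (fun t => Nat.card ↥((t.1 : Subgroup G) ⊓ (t.2 : Subgroup G))) ⟨(P₁, Q₁), Finset.mem_filter.2 ⟨Finset.mem_univ _, hne₁, hD₁⟩⟩
    obtain ⟨-, hne, hD⟩ := Finset.mem_filter.1 hmem
    set D := (P : Subgroup G) ⊓ (Q : Subgroup G) with hDdef
    have hDp : IsPGroup p D := P.2.to_le inf_le_left
    have hpc := hsub _ (hproper D hDp hD)
    set N := Subgroup.normalizer (D : Set G) with hN
    obtain ⟨S₀⟩ : Nonempty (Sylow p N) := inferInstance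
    haveI := hpc S₀
    haveI := Sylow.unique_of_normal S₀ (hpc S₀)
    obtain ⟨T, hT⟩ := (S₀.2.map N.subtype).exists_le_sylow
    have hbig : ∀ R : Sylow p G, D ≤ (R : Subgroup G) → D ≠ (R : Subgroup G) → D < (T : Subgroup G) ⊓ (R : Subgroup G) := by
      intro R hDR hDne
      have hnc' : NormalizerCondition (R : Subgroup G) := normalizerCondition_of_isNilpotent (h := R.2.isNilpotent)
      have hlt : D.subgroupOf (R : Subgroup G) < ⊤ := lt_top_iff_ne_top.2 fun h => hDne (le_antisymm hDR (Subgroup.subgroupOf_eq_top.1 h))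
      obtain ⟨r, hr, hr'⟩ := SetLike.exists_of_lt (hnc' _ hlt)
      have hrN : (r : G) ∈ N := by
        refine Subgroup.mem_normalizer_iff.2 fun d => ?_
        constructor
        · intro hd
          exact Subgroup.mem_subgroupOf.1 ((Subgroup.mem_normalizer_iff.1 hr ⟨d, hDR hd⟩).1 hd)
        · intro hd
          have hdR : d ∈ (R : Subgroup G) := by
            have := mul_mem (mul_mem (inv_mem r.2) (hDR hd)) r.2
            simpa [mul_assoc] using this
          exact Subgroup.mem_subgroupOf.1 ((Subgroup.mem_normalizer_iff.1 hr ⟨d, hdR⟩).2 hd)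
      have hK : ∀ k ∈ (R : Subgroup G) ⊓ N, k ∈ (T : Subgroup G) := by
        intro k hk
        obtain ⟨U, hU⟩ := ((R.2.to_le inf_le_left : IsPGroup p ((R : Subgroup G) ⊓ N : Subgroup G)).comap_of_injective N.subtype N.subtype_injective).exists_le_sylow
        rw [Subsingleton.elim U S₀] at hU
        exact hT ⟨⟨k, hk.2⟩, hU hk, rfl⟩
      have hle : D ≤ (T : Subgroup G) ⊓ (R : Subgroup G) := fun d hd =>
        ⟨hK d ⟨hDR hd, Subgroup.le_normalizer hd⟩, hDR hd⟩
      exact lt_of_le_of_ne hle fun h => hr' (Subgroup.mem_subgroupOf.2 (h ▸ ⟨hK _ ⟨r.2, hrN⟩, r.2⟩ : (r : G) ∈ D))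
    have heq : ∀ R : Sylow p G, D ≤ (R : Subgroup G) → D ≠ (R : Subgroup G) → T = R := by
      intro R hDR hDne
      by_contra hTR
      have h := hbig R hDR hDne
      have h2 := hmax (T, R) (Finset.mem_filter.2 ⟨Finset.mem_univ _, hTR, fun h' => by
        rw [h'] at h; exact hD (le_bot_iff.1 h.le)⟩)
      exact absurd h2 (not_le.2 (Set.Finite.card_lt_card (Set.toFinite _) (SetLike.coe_ssubset_coe.2 h)))
    have hP : D ≠ (P : Subgroup G) := fun h => hne (Sylow.ext (Q.3 Q.2 le_rfl ▸ (P.3 Q.2 (h ▸ inf_le_right)).symm))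
    have hQ : D ≠ (Q : Subgroup G) := fun h => hne (Sylow.ext (Q.3 P.2 (h ▸ inf_le_left)))
    exact hne ((heq P inf_le_left hP).symm.trans (heq Q inf_le_right hQ))
  refine ⟨hTI, fun P R hRP hR g hg => ?_⟩
  refine Sylow.smul_eq_iff_mem_normalizer.1 ?_
  by_contra hne
  refine hR (le_bot_iff.1 (le_trans (le_inf ?_ hRP) (hTI _ _ hne).le))
  intro r hr
  rw [Sylow.coe_subgroup_smul, CfsgLib.Solv.mem_conj_smul_iff]
  exact hRP ((Subgroup.mem_normalizer_iff''.1 hg r).1 hr)

end Cfsg.Agent.S3870
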