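import Cfsg.Statements.S3872
import Cfsg.Agent.S4209
import Cfsg.Agent.Perm.RegularP
import Cfsg.Agent.S0662
-- import your own Cfsg.Agent.* helpers here

set_option autoImplicit false
open Cfsg

namespace Cfsg.Agent.S3872

/-- Say that a finite group is p-exponent closed when its elements of order dividing p form a subgroup. Let G be a finite p-group that is not p-exponent closed, but all of whose proper subgroups and proper quotients are. Then G is generated by two elements, has nilpotency class at least p, has exponent p², has cyclic center, and has order at least p^(p+1). -/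
theorem result {G : Type*} [Group G] [Finite G] {p : ℕ} [Fact p.Prime] (hG : IsPGroup p G)
    (hnc : ¬ (∃ H : Subgroup G, (H : Set G) = {g : G | g ^ p = 1})) (hsub : ∀ K : Subgroup G, K ≠ ⊤ → (∃ H : Subgroup ↥K, (H : Set ↥K) = {g : ↥K | g ^ p = 1}))
    (hquo : ∀ (N : Subgroup G) [N.Normal], N ≠ ⊥ → (∃ H : Subgroup (G ⧸ N), (H : Set (G ⧸ N)) = {g : (G ⧸ N) | g ^ p = 1})) :
    (∃ x y : G, Subgroup.closure ({x, y} : Set G) = ⊤) ∧ (⊤ : Subgroup G).lowerCentralSeries (p - 1) ≠ ⊥ ∧
      Monoid.exponent G = p ^ 2 ∧ IsCyclic ↥(Subgroup.center G) ∧ p ^ (p + 1) ≤ Nat.card G := by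
  classical
  have hp : p.Prime := Fact.out
  haveI := hG.isNilpotent
  -- a failing pair
  obtain ⟨x, y, hx, hy, hxy⟩ : ∃ x y : G, x ^ p = 1 ∧ y ^ p = 1 ∧ (x * y) ^ p ≠ 1 := by
    by_contra hcon
    push Not at hcon
    exact hnc ⟨{ carrier := {g : G | g ^ p = 1}
                 one_mem' := one_pow _
                 mul_mem' := fun {a b} ha hb => hcon a b ha hb
                 inv_mem' := fun {a} (ha : a ^ p = 1) => show a⁻¹ ^ p = 1 by rw [inv_pow, ha, inv_one] }, rfl⟩
  have hgen : Subgroup.closure ({x, y} : Set G) = ⊤ := by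
    by_contra hK
    obtain ⟨H, hH⟩ := hsub _ hK
    have h1 : (⟨x, Subgroup.subset_closure (by simp)⟩ : Subgroup.closure ({x, y} : Set G)) ∈ H := by
      rw [← SetLike.mem_coe, hH]; exact Subtype.ext (by simpa using hx)
    have h2 : (⟨y, Subgroup.subset_closure (by simp)⟩ : Subgroup.closure ({x, y} : Set G)) ∈ H := by
      rw [← SetLike.mem_coe, hH]; exact Subtype.ext (by simpa using hy)
    have h3 := mul_mem h1 h2
    rw [← SetLike.mem_coe, hH] at h3
    exact hxy (by simpa using congrArg Subtype.val h3)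
  have hlcs : (⊤ : Subgroup G).lowerCentralSeries (p - 1) ≠ ⊥ := fun h => hxy (by
    have := CfsgLib.Perm.RegularP.mul_pow_eq_one (Cfsg.Agent.S4209.result hG h) 1 (a := x) (b := y)
      (by rwa [pow_one]) (by rwa [pow_one])
    rwa [pow_one] at this)
  -- powers lie in every nontrivial normal subgroup
  have hpow : ∀ (N : Subgroup G) [N.Normal], N ≠ ⊥ → ∀ g : G, g ^ p ∈ N := by
    intro N _ hN g
    obtain ⟨H, hH⟩ := hquo N hN
    set f := QuotientGroup.mk' N
    have hall : ∀ g : G, f g ∈ H := by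
      intro g
      have hle : Subgroup.closure ({x, y} : Set G) ≤ H.comap f := (Subgroup.closure_le _).2 (by
        rintro w (rfl | rfl)
        · show f w ∈ (H : Set (G ⧸ N))
          rw [hH]; show f w ^ p = 1; rw [← map_pow, hx, map_one]
        · show f w ∈ (H : Set (G ⧸ N))
          rw [hH]; show f w ^ p = 1; rw [← map_pow, hy, map_one])
      exact hle (hgen ▸ Subgroup.mem_top g)
    have h : f g ∈ (H : Set (G ⧸ N)) := hall g
    rw [hH] at h
    exact (QuotientGroup.eq_one_iff _).1 ((map_pow f g p).trans h)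
  haveI : Nontrivial G := ⟨x * y, 1, fun h => hxy (by rw [h, one_pow])⟩
  haveI := hG.center_nontrivial
  have hsmall : ∀ z ∈ Subgroup.center G, orderOf z = p → ∀ g : G, g ^ p ∈ Subgroup.zpowers z := by
    intro z hz hzo
    haveI : (Subgroup.zpowers z).Normal := ⟨fun w hw g => by
      have hwc : w ∈ Subgroup.center G := (Subgroup.zpowers_le.2 hz) hw
      rwa [Subgroup.mem_center_iff.1 hwc g, mul_inv_cancel_right]⟩
    refine hpow _ fun h => ?_
    rw [Subgroup.zpowers_eq_bot] at h
    rw [h, orderOf_one] at hzo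
    exact hp.one_lt.ne hzo
  obtain ⟨z, hzo⟩ : ∃ z : Subgroup.center G, orderOf z = p := by
    refine exists_prime_orderOf_dvd_card' p ?_
    obtain ⟨k, hk⟩ := IsPGroup.iff_card.1 (hG.to_subgroup (Subgroup.center G))
    rcases Nat.eq_zero_or_pos k with rfl | hk0
    · exact absurd (by simpa using hk) (Finite.one_lt_card (α := Subgroup.center G)).ne'
    · exact hk ▸ dvd_pow_self p hk0.ne'
  have hzG : orderOf (z : G) = p := by rw [Subgroup.orderOf_coe, hzo]
  have hexp2 : ∀ g : G, g ^ p ^ 2 = 1 := fun g => by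
    obtain ⟨i, hi⟩ := Subgroup.mem_zpowers_iff.1 (hsmall z z.2 hzG g)
    have hz1 : (z : G) ^ (p : ℕ) = 1 := hzG ▸ pow_orderOf_eq_one _
    rw [pow_two, pow_mul, ← hi, ← zpow_natCast, ← zpow_mul, mul_comm, zpow_mul, zpow_natCast, hz1, one_zpow]
  refine ⟨⟨x, y, hgen⟩, hlcs, ?_, ?_, ?_⟩
  · obtain ⟨j, hj2, hj⟩ := (Nat.dvd_prime_pow hp).1 (Monoid.exponent_dvd_of_forall_pow_eq_one hexp2)
    rcases (show j ≤ 1 ∨ j = 2 by omega) with h1 | rfl
    · exfalso
      refine hxy ?_
      rw [← Monoid.exponent_dvd_iff_forall_pow_eq_one.1 (hj.dvd.trans (pow_dvd_pow p h1)) (x * y), pow_one]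
    · exact hj
  · haveI : IsMulCommutative (Subgroup.center G) := inferInstance
    letI : CommGroup (Subgroup.center G) := { (inferInstance : Group (Subgroup.center G)) with
      mul_comm := fun a b => IsMulCommutative.is_comm.comm a b }
    have hexpZ : ∀ w : Subgroup.center G, w ^ p = 1 → w ∈ Subgroup.zpowers z := by
      intro w hw
      by_cases hw1 : w = 1
      · rw [hw1]; exact one_mem _
      have hwo : orderOf (w : G) = p := by rw [Subgroup.orderOf_coe]; exact orderOf_eq_prime hw hw1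
      have h1 := hsmall z z.2 hzG (x * y)
      have h2 := hsmall w w.2 hwo (x * y)
      obtain ⟨i, hi⟩ := Subgroup.mem_zpowers_iff.1 h2
      obtain ⟨l, hl⟩ := Subgroup.mem_zpowers_iff.1 h1
      have hi0 : ¬ ((p : ℤ) ∣ i) := fun ⟨c, hc⟩ => hxy (by
        rw [← hi, hc, zpow_mul, zpow_natCast, ← hwo, pow_orderOf_eq_one, one_zpow])
      obtain ⟨a, b, hab⟩ := (Nat.prime_iff_prime_int.1 hp).coprime_iff_not_dvd.2 hi0
      refine Subgroup.mem_zpowers_iff.2 ⟨l * b, Subtype.ext ?_⟩
      have hwp : (w : G) ^ (p : ℤ) = 1 := by rw [zpow_natCast, ← hwo, pow_orderOf_eq_one]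
      rw [Subgroup.coe_zpow, zpow_mul, hl, ← hi, ← zpow_mul]
      calc (w : G) ^ (i * b) = (w : G) ^ ((p : ℤ) * a) * (w : G) ^ (i * b) := by rw [zpow_mul (w : G) (p : ℤ) a, hwp, one_zpow, one_mul]
        _ = (w : G) ^ (1 : ℤ) := by rw [← zpow_add]; congr 1; linarith [hab]
        _ = (w : G) := zpow_one _
    by_cases hall : ∀ w : Subgroup.center G, w ^ p = 1
    · exact ⟨⟨z, fun w => hexpZ w (hall w)⟩⟩
    push Not at hall
    obtain ⟨v, hv⟩ := hall
    refine ⟨⟨v, fun w => ?_⟩⟩
    have hvp : v ^ p ∈ Subgroup.zpowers z := by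
      refine hexpZ _ (Subtype.ext ?_)
      rw [← pow_mul, Subgroup.coe_pow, Subgroup.coe_one, ← pow_two, hexp2]
    have hwp : w ^ p ∈ Subgroup.zpowers z := by
      refine hexpZ _ (Subtype.ext ?_)
      rw [← pow_mul, Subgroup.coe_pow, Subgroup.coe_one, ← pow_two, hexp2]
    have hzv : Subgroup.zpowers z ≤ Subgroup.zpowers v := by
      have heq : Subgroup.zpowers (v ^ p) = Subgroup.zpowers z := by
        refine Subgroup.eq_of_le_of_card_ge (Subgroup.zpowers_le.2 hvp) ?_
        rw [Nat.card_zpowers, Nat.card_zpowers, hzo]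
        obtain ⟨j, -, hj⟩ := (Nat.dvd_prime_pow hp).1 (show orderOf (v ^ p) ∣ p ^ 1 by
          rw [pow_one]; exact (orderOf_dvd_of_mem_zpowers hvp).trans hzo.dvd)
        rcases Nat.eq_zero_or_pos j with rfl | hj0
        · exact absurd (orderOf_eq_one_iff.1 (by simpa using hj)) hv
        · rw [hj]; exact Nat.le_self_pow hj0.ne' p
      rw [← heq]
      exact Subgroup.zpowers_le.2 (Subgroup.pow_mem _ (Subgroup.mem_zpowers v) p)
    have hwv : w ^ p ∈ Subgroup.zpowers (v ^ p) := by
      have heq : Subgroup.zpowers (v ^ p) = Subgroup.zpowers z := by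
        refine Subgroup.eq_of_le_of_card_ge (Subgroup.zpowers_le.2 hvp) ?_
        rw [Nat.card_zpowers, Nat.card_zpowers, hzo]
        obtain ⟨j, -, hj⟩ := (Nat.dvd_prime_pow hp).1 (show orderOf (v ^ p) ∣ p ^ 1 by
          rw [pow_one]; exact (orderOf_dvd_of_mem_zpowers hvp).trans hzo.dvd)
        rcases Nat.eq_zero_or_pos j with rfl | hj0
        · exact absurd (orderOf_eq_one_iff.1 (by simpa using hj)) hv
        · rw [hj]; exact Nat.le_self_pow hj0.ne' p
      rwa [heq]
    obtain ⟨i, hi⟩ := Subgroup.mem_zpowers_iff.1 hwv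
    have h1 : (w * (v ^ i)⁻¹) ^ p = 1 := by
      rw [mul_pow, inv_pow, ← hi, ← zpow_natCast v, ← zpow_natCast (v ^ i), ← zpow_mul, ← zpow_mul, mul_comm i, mul_inv_cancel]
    have h2 := hzv (hexpZ _ h1)
    have := mul_mem h2 (Subgroup.zpow_mem _ (Subgroup.mem_zpowers v) i)
    rwa [inv_mul_cancel_right] at this
  · have h := Cfsg.Agent.S0662.card_lcs_dvd hG (p - 2) (by rwa [show p - 2 + 1 = p - 1 by have := hp.two_le; omega])
    rw [show p - 2 + 2 = p by have := hp.two_le; omega] at h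
    have h2 : p ≤ Nat.card ↥((⊤ : Subgroup G).lowerCentralSeries (p - 2 + 1)) := by
      rw [show p - 2 + 1 = p - 1 by have := hp.two_le; omega]
      obtain ⟨j, hj⟩ := IsPGroup.iff_card.1 (hG.to_subgroup ((⊤ : Subgroup G).lowerCentralSeries (p - 1)))
      rw [hj]
      exact Nat.le_self_pow (fun h0 => hlcs (Subgroup.eq_bot_of_card_eq _ (by rw [hj, h0, pow_zero]))) p
    rw [pow_succ']
    exact (Nat.mul_le_mul_right _ h2).trans (Nat.le_of_dvd Nat.card_pos h)

end Cfsg.Agent.S3872
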