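import Cfsg.Statements.S3873
import Cfsg.Agent.Solv.MinimalNormal
import Cfsg.Agent.Solv.CoprimeSylow

set_option autoImplicit false
open Cfsg

namespace Cfsg.Agent.S3873


open scoped Pointwise

variable {G : Type*} [Group G] [Finite G]

/-- An irreducible action of an element of order dividing `p` on an elementary abelian `q`-group. -/
theorem card_le_of_irreducible {A : Type*} [AddCommGroup A] [Finite A] [Nontrivial A] {p q e : ℕ}
    (hq : q.Prime) (φ : AddMonoid.End A) (hφ : φ ^ p = 1) (hA : ∀ a : A, q • a = 0)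
    (he0 : 0 < e) (he : (q ^ e) % p = 1 % p)
    (hirr : ∀ S : AddSubgroup A, (∀ a ∈ S, φ a ∈ S) → S = ⊥ ∨ S = ⊤) : Nat.card A ≤ q ^ e := by
  classical
  haveI := Fact.mk hq
  set R := Subring.closure ({φ} : Set (AddMonoid.End A)) with hR
  have hcφ : ∀ r ∈ R, φ * r = r * φ := by
    intro r hr
    have hle : R ≤ Subring.centralizer {φ} := Subring.closure_le.2 (by
      intro s hs
      rw [Set.mem_singleton_iff.1 hs]
      exact Subring.mem_centralizer_iff.2 (by simp))
    exact Subring.mem_centralizer_iff.1 (hle hr) φ rfl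
  have hcomm : ∀ r ∈ R, ∀ s ∈ R, r * s = s * r := by
    intro r hr s hs
    have hle : R ≤ Subring.centralizer (R : Set (AddMonoid.End A)) := Subring.closure_le.2 (by
      intro t ht
      rw [Set.mem_singleton_iff.1 ht]
      exact Subring.mem_centralizer_iff.2 fun u hu => (hcφ u hu).symm)
    exact Subring.mem_centralizer_iff.1 (hle hs) r hr
  letI : CommRing R := { R.toRing with mul_comm := fun a b => Subtype.ext (hcomm a a.2 b b.2) }
  obtain ⟨v, hv⟩ := exists_ne (0 : A)
  haveI : Nontrivial R := ⟨⟨1, 0, fun h => hv (by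
    simpa using congrArg (fun r : R => (r : AddMonoid.End A) v) h)⟩⟩
  have hker : ∀ r ∈ R, r ≠ 0 → ∀ a : A, r a = 0 → a = 0 := by
    intro r hr hr0 a ha
    rcases hirr (AddMonoidHom.ker (r : A →+ A)) (fun b hb => by
      show r (φ b) = 0
      change r b = 0 at hb
      have := DFunLike.congr_fun (hcφ r hr) b
      simp only [AddMonoid.End.coe_mul, Function.comp_apply] at this
      rw [← this, hb, map_zero]) with h | h
    · exact (AddSubgroup.mem_bot (G := A)).1 (h ▸ AddMonoidHom.mem_ker.2 ha)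
    · exact absurd (AddMonoidHom.ext fun b => AddMonoidHom.mem_ker.1 (h.ge (AddSubgroup.mem_top b))) hr0
  haveI : NoZeroDivisors R := ⟨fun {a b} hab => by
    by_contra h
    push Not at h
    refine h.2 (Subtype.ext (AddMonoidHom.ext fun c => ?_))
    exact hker a a.2 (fun h0 => h.1 (Subtype.ext h0)) _
      (DFunLike.congr_fun (congrArg Subtype.val hab) c)⟩
  haveI : IsDomain R := NoZeroDivisors.to_isDomain R
  haveI : Finite (AddMonoid.End A) :=
    Finite.of_injective (fun f : AddMonoid.End A => (f : A → A)) DFunLike.coe_injective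
  haveI : CharP R q := (CharP.charP_iff_prime_eq_zero hq).2 (Subtype.ext (AddMonoidHom.ext fun a => by
    show ((q : ℕ) : AddMonoid.End A) a = 0
    rw [AddMonoid.End.natCast_apply, hA]))
  have hfix : ∀ r : R, r ^ q ^ e = r := by
    let E : Subring R := (iterateFrobenius R q e).eqLocus (RingHom.id R)
    have hφR : φ ∈ R := Subring.subset_closure rfl
    have hgen : (⟨φ, hφR⟩ : R) ∈ E := by
      show (iterateFrobenius R q e) _ = _
      rw [iterateFrobenius_def]
      apply Subtype.ext
      rw [SubmonoidClass.coe_pow]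
      show φ ^ q ^ e = φ
      rw [← pow_mod_orderOf, Nat.ModEq.of_dvd (orderOf_dvd_of_pow_eq_one hφ) he]
      rw [pow_mod_orderOf, pow_one]
    intro r
    have hr : r ∈ E := by
      obtain ⟨r, hr⟩ := r
      induction hr using Subring.closure_induction with
      | mem x hx => rcases hx with rfl; exact hgen
      | zero => exact E.zero_mem
      | one => exact E.one_mem
      | add x y _ _ hx hy => exact E.add_mem hx hy
      | neg x _ hx => exact E.neg_mem hx
      | mul x y _ _ hx hy => exact E.mul_mem hx hy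
    have := show iterateFrobenius R q e r = r from hr
    rwa [iterateFrobenius_def] at this
  have hR' : Nat.card R ≤ q ^ e := by
    haveI : Fintype R := Fintype.ofFinite R
    rw [Nat.card_eq_fintype_card, ← Finset.card_univ]
    letI : Field R := Fintype.fieldOfDomain R
    have hpos : 0 < e := he0
    have hdeg := FiniteField.X_pow_card_sub_X_natDegree_eq R (Nat.one_lt_pow hpos.ne' hq.one_lt)
    refine (Finset.card_le_card fun r _ => ?_).trans
      ((Multiset.toFinset_card_le _).trans ((Polynomial.card_roots' _).trans hdeg.le))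
    rw [Multiset.mem_toFinset, Polynomial.mem_roots
      (FiniteField.X_pow_card_sub_X_ne_zero R (Nat.one_lt_pow hpos.ne' hq.one_lt))]
    simp [hfix r]
  let S : AddSubgroup A :=
    (((AddMonoidHom.eval : A →+ (A →+ A) →+ A) v).comp R.subtype.toAddMonoidHom).range
  have hS : S = ⊤ := by
    rcases hirr S (by
      rintro _ ⟨r, rfl⟩
      exact ⟨⟨φ, Subring.subset_closure rfl⟩ * r, rfl⟩) with h | h
    · exact absurd ((AddSubgroup.mem_bot (G := A)).1 (h ▸ (⟨1, rfl⟩ : v ∈ S))) hv
    · exact h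
  refine le_trans (Nat.card_le_card_of_surjective
    (fun r : R => (r : AddMonoid.End A) v) fun a => ?_) hR'
  obtain ⟨r, hr⟩ := hS.ge (AddSubgroup.mem_top a)
  exact ⟨r, hr⟩


/-- Say that a finite group is p-exponent closed when its elements of order dividing p form a subgroup. Let G be a finite group that is not p-exponent closed, but all of whose proper subgroups and proper quotients are, and suppose G is neither simple nor a p-group. Then there is a prime q ≠ p such that G has order p · q^e, where e is the multiplicative order of q modulo p, and G has a normal elementary abelian subgroup of order q^e that is a minimal normal subgroup of G. -/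
theorem result {G : Type*} [Group G] [Finite G] {p : ℕ} [Fact p.Prime]
    (hnc : ¬ (∃ H : Subgroup G, (H : Set G) = {g : G | g ^ p = 1})) (hsub : ∀ K : Subgroup G, K ≠ ⊤ → (∃ H : Subgroup ↥K, (H : Set ↥K) = {g : ↥K | g ^ p = 1}))
    (hquo : ∀ (N : Subgroup G) [N.Normal], N ≠ ⊥ → (∃ H : Subgroup (G ⧸ N), (H : Set (G ⧸ N)) = {g : (G ⧸ N) | g ^ p = 1}))
    (hns : ¬ IsSimpleGroup G) (hnp : ¬ IsPGroup p G) :
    ∃ q : ℕ, q.Prime ∧ q ≠ p ∧ Nat.card G = p * q ^ orderOf (q : ZMod p) ∧
      ∃ A : Subgroup G, A.Normal ∧ Nat.card ↥A = q ^ orderOf (q : ZMod p) ∧ Cfsg.IsElementaryAbelian q A ∧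
        ∀ B : Subgroup G, B.Normal → B ≤ A → B = ⊥ ∨ B = A := by
  classical
  have hp : p.Prime := Fact.out
  haveI : Nontrivial G := by
    by_contra h
    rw [not_nontrivial_iff_subsingleton] at h
    exact hnp fun g => ⟨0, Subsingleton.elim _ _⟩
  have hgen : Subgroup.closure {g : G | g ^ p = 1} = ⊤ := by
    by_contra h
    obtain ⟨H, hH⟩ := hsub _ h
    refine hnc ⟨H.map (Subgroup.subtype _), Set.ext fun g => ⟨?_, fun hg => ?_⟩⟩
    · rintro ⟨y, hy, rfl⟩
      exact congrArg Subtype.val ((Set.ext_iff.1 hH y).1 hy)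
    · exact ⟨⟨g, Subgroup.subset_closure hg⟩, (Set.ext_iff.1 hH _).2 (Subtype.ext hg), rfl⟩
  have hΩ : ∀ K : Subgroup G, K ≠ ⊤ → ∃ E : Subgroup G, ∀ g : G, g ∈ E ↔ g ∈ K ∧ g ^ p = 1 := by
    intro K hK
    obtain ⟨H, hH⟩ := hsub K hK
    refine ⟨H.map K.subtype, fun g => ⟨?_, fun hg => ⟨⟨g, hg.1⟩, (Set.ext_iff.1 hH _).2 (Subtype.ext hg.2), rfl⟩⟩⟩
    rintro ⟨y, hy, rfl⟩
    exact ⟨y.2, congrArg Subtype.val ((Set.ext_iff.1 hH y).1 hy)⟩
  obtain ⟨N0, hN0, hN0b, hN0t⟩ : ∃ N0 : Subgroup G, N0.Normal ∧ N0 ≠ ⊥ ∧ N0 ≠ ⊤ := by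
    by_contra h
    push Not at h
    exact hns ⟨fun H hH => (em (H = ⊥)).imp id (fun hne => h H hH hne)⟩
  haveI := hN0
  obtain ⟨N, hN, hNle⟩ := CfsgLib.Solv.exists_isMinimalNormal_le N0 hN0b
  haveI hNn := hN.1
  have hNt : N ≠ ⊤ := fun h => hN0t (top_le_iff.1 (h ▸ hNle))
  have hquot : IsPGroup p (G ⧸ N) := by
    obtain ⟨H, hH⟩ := hquo N hN.2.1
    intro g
    obtain ⟨g, rfl⟩ := QuotientGroup.mk'_surjective N g
    refine ⟨1, ?_⟩
    rw [pow_one]
    have hle : Subgroup.closure {g : G | g ^ p = 1} ≤ H.comap (QuotientGroup.mk' N) :=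
      (Subgroup.closure_le _).2 fun x (hx : x ^ p = 1) => (Set.ext_iff.1 hH _).2 (by
        show (QuotientGroup.mk' N x) ^ p = 1
        rw [← map_pow, hx, map_one])
    exact (Set.ext_iff.1 hH _).1 (hle (hgen.ge (Subgroup.mem_top g)))
  have hNp : ¬ p ∣ Nat.card N := by
    intro hd
    obtain ⟨E, hE⟩ := hΩ N hNt
    haveI hEn : E.Normal := ⟨fun e he g => (hE _).2 ⟨hNn.conj_mem e ((hE e).1 he).1 g, by
      rw [conj_pow, ((hE e).1 he).2, mul_one, mul_inv_cancel]⟩⟩
    obtain ⟨z, hz⟩ := exists_prime_orderOf_dvd_card' p hd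
    rcases hN.2.2 E hEn (fun e he => ((hE e).1 he).1) with h | h
    · have hzE : (z : G) ∈ E := (hE _).2 ⟨z.2, by
        rw [← hz, Subgroup.orderOf_coe z |>.symm, pow_orderOf_eq_one]⟩
      rw [h, Subgroup.mem_bot] at hzE
      rw [← Subgroup.orderOf_coe, hzE, orderOf_one] at hz
      exact hp.one_lt.ne hz
    · have hNP : IsPGroup p N := fun n => ⟨1, by
        rw [pow_one]; exact Subtype.ext ((hE n).1 (h.ge n.2)).2⟩
      refine hnp (show IsPGroup p G from ?_)
      exact (fun g => by
        obtain ⟨a, ha⟩ := hquot (QuotientGroup.mk g)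
        rw [← QuotientGroup.mk_pow, QuotientGroup.eq_one_iff] at ha
        obtain ⟨b, hb⟩ := hNP ⟨_, ha⟩
        exact ⟨a + b, by rw [pow_add, pow_mul]; exact congrArg Subtype.val hb⟩ : IsPGroup p G)
  have hNfree : ∀ g ∈ N, g ^ p = 1 → g = 1 := by
    intro g hg hgp
    by_contra hg1
    refine hNp ?_
    rw [← orderOf_eq_prime hgp hg1, ← Subgroup.orderOf_mk g hg]
    exact orderOf_dvd_natCard _
  have hkey : ∀ (Q : Subgroup G) (x : G), Q ≤ N → x ^ p = 1 →
      x ∈ Subgroup.normalizer (Q : Set G) → Q ⊔ Subgroup.zpowers x ≠ ⊤ →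
      ∀ a ∈ Q, a * x = x * a := by
    intro Q x hQ hx hxn hK a ha
    obtain ⟨E, hE⟩ := hΩ _ hK
    have haK : a ∈ Q ⊔ Subgroup.zpowers x := Subgroup.mem_sup_left ha
    have hxK : x ∈ Q ⊔ Subgroup.zpowers x := Subgroup.mem_sup_right (Subgroup.mem_zpowers x)
    have h1 : a * x * a⁻¹ ∈ E := (hE _).2 ⟨mul_mem (mul_mem haK hxK) (inv_mem haK), by
      rw [conj_pow, hx, mul_one, mul_inv_cancel]⟩
    have h2 := (hE _).1 (mul_mem h1 (inv_mem ((hE x).2 ⟨hxK, hx⟩)))
    have h3 : a * x * a⁻¹ * x⁻¹ ∈ N := by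
      rw [show a * x * a⁻¹ * x⁻¹ = a * (x * a⁻¹ * x⁻¹) by group]
      exact mul_mem (hQ ha) (hQ ((Subgroup.mem_normalizer_iff.1 hxn _).1 (inv_mem ha)))
    have h4 := mul_inv_eq_one.1 (hNfree _ h3 h2.2)
    rwa [mul_inv_eq_iff_eq_mul] at h4
  obtain ⟨x, hx, hxtop⟩ : ∃ x : G, x ^ p = 1 ∧ N ⊔ Subgroup.zpowers x = ⊤ := by
    by_contra h
    push Not at h
    have hcent : ∀ n ∈ N, ∀ g : G, n * g = g * n := by
      intro n hn g
      have hle : Subgroup.closure {g : G | g ^ p = 1} ≤ Subgroup.centralizer {n} :=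
        (Subgroup.closure_le _).2 fun x (hx : x ^ p = 1) => Subgroup.mem_centralizer_singleton_iff.2
          (hkey N x le_rfl hx (by rw [Subgroup.normalizer_eq_top]; trivial) (h x hx) n hn).symm
      exact (Subgroup.mem_centralizer_singleton_iff.1 (hle (hgen.ge (Subgroup.mem_top g)))).symm
    obtain ⟨P⟩ : Nonempty (Sylow p G) := inferInstance
    have hPn : (P : Subgroup G).Normal := by
      rw [← Subgroup.normalizer_eq_top_iff, eq_top_iff]
      have hNle' : N ≤ Subgroup.normalizer ((P : Subgroup G) : Set G) := fun n hn =>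
        Subgroup.centralizer_le_normalizer _ (Subgroup.mem_centralizer_iff.2 fun g _ => (hcent n hn g).symm)
      have hidx : (Subgroup.normalizer ((P : Subgroup G) : Set G)).index = 1 := by
        obtain ⟨j, hj⟩ := IsPGroup.iff_card.1 hquot
        have h1 := Subgroup.index_dvd_of_le hNle'
        rw [Subgroup.index_eq_card N, hj] at h1
        obtain ⟨i, -, hi⟩ := (Nat.dvd_prime_pow hp).1 h1
        rcases i with _ | i
        · rw [hi, pow_zero]
        · exfalso
          refine P.not_dvd_index (dvd_trans ?_ (Subgroup.index_dvd_of_le Subgroup.le_normalizer))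
          rw [hi]
          exact dvd_pow_self p (by omega)
      rw [Subgroup.index_eq_one.1 hidx]
    haveI := hPn
    refine hnp fun g => ?_
    have hle : Subgroup.closure {g : G | g ^ p = 1} ≤ P := (Subgroup.closure_le _).2
      fun x (hx : x ^ p = 1) => by
        have hz : IsPGroup p (Subgroup.zpowers x) := fun y => ⟨1, by
          obtain ⟨_, k, rfl⟩ := y
          apply Subtype.ext
          show (x ^ k) ^ p ^ 1 = 1
          rw [pow_one, ← zpow_natCast, zpow_comm, zpow_natCast, hx, one_zpow]⟩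
        have hsup := P.isPGroup'.to_sup_of_normal_left hz
        exact P.3 hsup le_sup_left ▸ Subgroup.mem_sup_right (Subgroup.mem_zpowers x)
    obtain ⟨k, hk⟩ := P.isPGroup' ⟨g, hle (hgen.ge (Subgroup.mem_top g))⟩
    exact ⟨k, congrArg Subtype.val hk⟩
  have hxN : x ∉ N := fun h => hNt (by
    rw [← hxtop]
    exact (sup_eq_left.2 (Subgroup.zpowers_le.2 h)).symm)
  have hxo : orderOf x = p := orderOf_eq_prime hx fun h => hxN (h ▸ one_mem _)
  have hdisj : ∀ k : ℤ, x ^ k ∈ N → x ^ k = 1 := fun k hk => hNfree _ hk (by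
    rw [← zpow_natCast, zpow_comm, zpow_natCast, hx, one_zpow])
  have hnorm : ∀ Q : Subgroup G, x ∈ Subgroup.normalizer (Q : Set G) →
      Subgroup.zpowers x ≤ Subgroup.normalizer (Q : Set G) := fun Q h => Subgroup.zpowers_le.2 h
  have hmod : ∀ Q : Subgroup G, Q ≤ N → x ∈ Subgroup.normalizer (Q : Set G) →
      Q ⊔ Subgroup.zpowers x = ⊤ → Q = N := by
    intro Q hQ hxn htop
    refine le_antisymm hQ fun n hn => ?_
    obtain ⟨a, ha, b, ⟨k, rfl⟩, rfl⟩ := (show n ∈ ((Q : Set G) * (Subgroup.zpowers x : Set G)) by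
      rw [← Subgroup.coe_mul_of_right_le_normalizer_left _ _ (hnorm Q hxn), htop]; trivial)
    simp only [SetLike.mem_coe] at hn ha ⊢
    have := (N.mul_mem_cancel_left (hQ ha)).1 hn
    show a * x ^ k ∈ Q
    rw [hdisj k this, mul_one]
    exact ha
  have hncent : ¬ ∀ n ∈ N, n * x = x * n := by
    intro hc
    have hzc : ∀ g : G, ∀ y ∈ Subgroup.zpowers x, g * y * g⁻¹ ∈ Subgroup.zpowers x := by
      intro g y hy
      have hle : ⊤ ≤ Subgroup.centralizer ({x} : Set G) := by
        rw [← hxtop]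
        exact sup_le (fun n hn => Subgroup.mem_centralizer_singleton_iff.2 (hc n hn))
          (Subgroup.zpowers_le.2 (Subgroup.mem_centralizer_singleton_iff.2 rfl))
      obtain ⟨k, rfl⟩ := hy
      have hg : Commute g x := Subgroup.mem_centralizer_singleton_iff.1 (hle (Subgroup.mem_top g))
      show g * x ^ k * g⁻¹ ∈ _
      rw [(hg.zpow_right k).eq, mul_inv_cancel_right]
      exact zpow_mem (Subgroup.mem_zpowers x) k
    haveI : (Subgroup.zpowers x).Normal := ⟨fun y hy g => hzc g y hy⟩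
    have hle : Subgroup.closure {g : G | g ^ p = 1} ≤ Subgroup.zpowers x := by
      refine (Subgroup.closure_le _).2 fun g (hg : g ^ p = 1) => ?_
      obtain ⟨n, hn, b, hb, rfl⟩ := Subgroup.mem_sup_of_normal_right.1 (hxtop.ge (Subgroup.mem_top g))
      obtain ⟨k, rfl⟩ := hb
      have hnc' : Commute n (x ^ k) := (show Commute n x from hc n hn).zpow_right k
      have hn1 : n = 1 := hNfree n hn (by
        have h2 : (x ^ k) ^ p = 1 := by rw [← zpow_natCast, zpow_comm, zpow_natCast, hx, one_zpow]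
        rwa [hnc'.mul_pow, h2, mul_one] at hg)
      show n * x ^ k ∈ _
      rw [hn1, one_mul]
      exact zpow_mem (Subgroup.mem_zpowers x) k
    refine hnp fun g => ⟨1, ?_⟩
    obtain ⟨k, rfl⟩ := hle (hgen.ge (Subgroup.mem_top g))
    rw [pow_one, ← zpow_natCast, zpow_comm, zpow_natCast, hx, one_zpow]
  obtain ⟨q, hq, hNq⟩ : ∃ q : ℕ, q.Prime ∧ IsPGroup q N := by
    by_contra h
    push Not at h
    refine hncent fun n hn => ?_
    suffices hC : N ≤ Subgroup.centralizer {x} from
      Subgroup.mem_centralizer_singleton_iff.1 (hC hn)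
    set C := (Subgroup.centralizer ({x} : Set G)).subgroupOf N with hC
    suffices C = ⊤ from Subgroup.subgroupOf_eq_top.1 this
    refine Subgroup.index_eq_one.1 (Nat.eq_one_iff_not_exists_prime_dvd.2 fun r hr hrd => ?_)
    haveI := Fact.mk hr
    have hxc : (Nat.card (Subgroup.zpowers x)).Coprime (Nat.card N) := by
      rw [Nat.card_zpowers, hxo]
      exact hp.coprime_iff_not_dvd.2 hNp
    have hzN : Subgroup.zpowers x ≤ Subgroup.normalizer (N : Set G) := by
      rw [Subgroup.normalizer_eq_top]; exact le_top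
    haveI : IsMulCommutative (Subgroup.zpowers x) := inferInstance
    obtain ⟨Q, hQ⟩ := CfsgLib.Solv.exists_invariant_sylow (p := r) hzN hxc
      (Or.inl (Group.isSolvable_of_comm fun a b => mul_comm' a b))
    have hxQ := hQ (Subgroup.mem_zpowers x)
    set Q' := (Q : Subgroup N).map N.subtype
    have hne : Q' ⊔ Subgroup.zpowers x ≠ ⊤ := fun ht => h r hr (by
      rw [← hmod Q' (Subgroup.map_subtype_le _) hxQ ht]
      exact Q.isPGroup'.map _)
    have hQC : (Q : Subgroup N) ≤ C := fun a ha => Subgroup.mem_centralizer_singleton_iff.2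
      (hkey Q' x (Subgroup.map_subtype_le _) hx hxQ hne _ ⟨a, ha, rfl⟩)
    exact Q.not_dvd_index (hrd.trans (Subgroup.index_dvd_of_le hQC))
  haveI := Fact.mk hq
  haveI := hNq.isNilpotent
  obtain ⟨q', hq', hexp, hq'N⟩ := CfsgLib.Solv.exists_prime_exponent_of_minimal_solvable hN inferInstance
  have hNc := CfsgLib.Solv.isMulCommutative_of_minimal_solvable hN inferInstance
  obtain ⟨n1, hn1, hn11⟩ := N.bot_or_exists_ne_one.resolve_left hN.2.1
  have hqq : q' = q := by
    obtain ⟨a, ha⟩ := hNq ⟨n1, hn1⟩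
    have h1 : orderOf n1 ∣ q ^ a := orderOf_dvd_of_pow_eq_one (congrArg Subtype.val ha)
    haveI := Fact.mk hq'
    rw [orderOf_eq_prime (hexp n1 hn1) hn11] at h1
    exact (Nat.prime_dvd_prime_iff_eq hq' hq).1 (hq'.dvd_of_dvd_pow h1)
  subst hqq
  obtain ⟨d, hd⟩ := IsPGroup.iff_card.1 hNq
  have hd0 : d ≠ 0 := fun h => hN.2.1 (Subgroup.card_eq_one.1 (by rw [hd, h, pow_zero]))
  have hqp : q' ≠ p := fun h => hNp (by rw [hd, h]; exact dvd_pow_self p hd0)
  haveI : IsMulCommutative N := hNc
  have hxN' : ∀ n ∈ N, x * n * x⁻¹ ∈ N := fun n hn => hNn.conj_mem n hn x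
  have hinv : ∀ S : Subgroup G, S ≤ N → (∀ n ∈ S, x * n * x⁻¹ ∈ S) → S = ⊥ ∨ S = N := by
    intro S hS hSx
    refine hN.2.2 S ?_ hS
    have hxS : x ∈ Subgroup.normalizer (S : Set G) :=
      Subgroup.mem_normalizer_iff.2 fun n => ⟨hSx n, fun hh => by
        have hle : S.map (MulAut.conj x).toMonoidHom ≤ S := Subgroup.map_le_iff_le_comap.2 hSx
        have he := Subgroup.eq_of_le_of_card_ge hle
          (le_of_eq (Subgroup.card_map_of_injective (MulAut.conj x).injective).symm)
        rw [← he] at hh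
        obtain ⟨y, hy, hyx⟩ := hh
        exact (MulAut.conj x).injective (hyx : MulAut.conj x y = MulAut.conj x n) ▸ hy⟩
    rw [← Subgroup.normalizer_eq_top_iff, eq_top_iff, ← hxtop]
    refine sup_le (fun n hn => Subgroup.centralizer_le_normalizer _
      (Subgroup.mem_centralizer_iff.2 fun s hs => ?_)) (hnorm S hxS)
    exact congrArg Subtype.val (IsMulCommutative.is_comm.comm (⟨s, hS hs⟩ : N) ⟨n, hn⟩)
  -- the conjugation action as an additive endomorphism
  let φ : AddMonoid.End (Additive N) := MonoidHom.toAdditive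
    ((MulAut.conjNormal x : MulAut N).toMonoidHom)
  letI : CommGroup N := { N.toGroup with mul_comm := fun a b => IsMulCommutative.is_comm.comm a b }
  haveI : Nontrivial (Additive N) := ⟨⟨Additive.ofMul ⟨n1, hn1⟩, 0, fun h => hn11
    (congrArg Subtype.val (Additive.ofMul.injective h))⟩⟩
  have hφk : ∀ (k : ℕ) (a : N), (φ ^ k) (Additive.ofMul a) =
      Additive.ofMul (MulAut.conjNormal (x ^ k) a) := by
    intro k
    induction k with
    | zero => intro a; simp
    | succ k ih =>
      intro a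
      rw [pow_succ, pow_succ, map_mul, MulAut.mul_apply, ← ih]
      rfl
  have hφp : φ ^ p = 1 := by
    refine AddMonoidHom.ext fun a => ?_
    obtain ⟨a, rfl⟩ := Additive.ofMul.surjective a
    show (φ ^ p) (Additive.ofMul a) = _
    refine (hφk p a).trans ?_
    rw [hx, map_one]
    rfl
  have hirr : ∀ S : AddSubgroup (Additive N), (∀ a ∈ S, φ a ∈ S) → S = ⊥ ∨ S = ⊤ := by
    intro S hS
    let T : Subgroup N := AddSubgroup.toSubgroup' S
    rcases hinv (T.map N.subtype) (Subgroup.map_subtype_le _) (by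
      rintro _ ⟨a, ha, rfl⟩
      exact ⟨_, hS _ ha, MulAut.conjNormal_apply x a⟩) with h | h
    · refine Or.inl ((AddSubgroup.eq_bot_iff_forall _).2 fun a ha => ?_)
      have h1 : ((Additive.toMul a : N) : G) ∈ T.map N.subtype := ⟨_, ha, rfl⟩
      rw [h, Subgroup.mem_bot] at h1
      exact Additive.toMul.injective (Subtype.ext h1)
    · refine Or.inr (eq_top_iff.2 fun a _ => ?_)
      obtain ⟨b, hb, hba⟩ := h.ge (Additive.toMul a).2
      have hab : b = Additive.toMul a := Subtype.ext hba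
      subst hab
      exact hb
  set e := orderOf (q' : ZMod p) with he
  have hq0 : ((q' : ℕ) : ZMod p) ≠ 0 := fun h => hqp
    ((Nat.prime_dvd_prime_iff_eq hp hq').1 ((ZMod.natCast_eq_zero_iff q' p).1 h)).symm
  have hmod1 : q' ^ e % p = 1 % p := by
    have : ((q' ^ e : ℕ) : ZMod p) = ((1 : ℕ) : ZMod p) := by
      rw [Nat.cast_pow, he, pow_orderOf_eq_one, Nat.cast_one]
    exact (ZMod.natCast_eq_natCast_iff' _ _ _).1 this
  have hle : Nat.card N ≤ q' ^ e := by
    rw [← Nat.card_congr (Additive.ofMul : N ≃ Additive N).symm]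
    have he0 : 0 < e := by
      haveI := Fact.mk hp
      rw [he, ← Units.val_mk0 hq0, orderOf_units]
      exact orderOf_pos _
    refine card_le_of_irreducible hq' φ hφp (fun a => ?_) he0 hmod1 hirr
    obtain ⟨a, rfl⟩ := Additive.ofMul.surjective a
    exact Additive.toMul.injective (Subtype.ext (hexp a a.2))
  have hdvd : e ∣ d := by
    letI : MulAction (Subgroup.zpowers x) N :=
      MulAction.compHom N ((MulAut.conjNormal : G →* MulAut N).comp (Subgroup.zpowers x).subtype)
    have hzp : IsPGroup p (Subgroup.zpowers x) :=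
      IsPGroup.of_card (n := 1) (by rw [Nat.card_zpowers, hxo, pow_one])
    have hmodeq := hzp.card_modEq_card_fixedPoints N
    have h1 : Nat.card (MulAction.fixedPoints (Subgroup.zpowers x) N) = 1 := by
      rw [Nat.card_eq_one_iff_unique]
      refine ⟨⟨fun a b => ?_⟩, ⟨⟨1, fun m => map_one (MulAut.conjNormal (m : G) : MulAut N)⟩⟩⟩
      suffices hall : ∀ c : MulAction.fixedPoints (Subgroup.zpowers x) N, (c : N) = 1 from
        Subtype.ext ((hall a).trans (hall b).symm)
      intro c
      have hc := c.2 ⟨x, Subgroup.mem_zpowers x⟩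
      have hc' : x * ((c : N) : G) * x⁻¹ = ((c : N) : G) :=
        (MulAut.conjNormal_apply x (c : N)).symm.trans (congrArg Subtype.val hc)
      rcases hinv (Subgroup.zpowers ((c : N) : G)) (Subgroup.zpowers_le.2 (c : N).2) (by
        rintro _ ⟨k, rfl⟩
        rw [← conj_zpow, hc']
        exact zpow_mem (Subgroup.mem_zpowers _) k) with h | h
      · exact Subtype.ext (Subgroup.zpowers_eq_bot.1 h)
      · exfalso
        refine hncent fun n hn => ?_
        obtain ⟨k, rfl⟩ := h.ge hn
        have hcc : Commute x ((c : N) : G) := mul_inv_eq_iff_eq_mul.1 hc'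
        exact (hcc.zpow_right k).eq.symm
    rw [h1, hd] at hmodeq
    have : ((q' ^ d : ℕ) : ZMod p) = ((1 : ℕ) : ZMod p) := (ZMod.natCast_eq_natCast_iff _ _ _).2 hmodeq
    rw [Nat.cast_pow, Nat.cast_one] at this
    exact orderOf_dvd_of_pow_eq_one this
  have hde : d = e := le_antisymm
    ((Nat.pow_le_pow_iff_right hq'.one_lt).1 (hd ▸ hle)) (Nat.le_of_dvd (Nat.pos_of_ne_zero hd0) hdvd)
  subst hde
  refine ⟨q', hq', hqp, ?_, N, hNn, hd, ⟨hNc, hexp⟩, hN.2.2⟩
  have hdis : Disjoint N (Subgroup.zpowers x) := by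
    rw [Subgroup.disjoint_def]
    rintro g hg ⟨k, rfl⟩
    exact hdisj k hg
  have hcomp : N.IsComplement' (Subgroup.zpowers x) :=
    Subgroup.isComplement'_of_disjoint_and_mul_eq_univ hdis (by
      rw [← Subgroup.normal_mul, hxtop]; rfl)
  rw [← hcomp.card_mul, Nat.card_zpowers, hxo, hd, mul_comm]

end Cfsg.Agent.S3873
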