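import Cfsg.Statements.S3878
import Cfsg.Agent.Perm.Jordan

set_option autoImplicit false
open Cfsg

namespace Cfsg.Agent.S3878

section Helpers

open Equiv MulAction
open scoped Pointwise

/-- in a group with a Hall π-subgroup every p-subgroup, p ∈ π, is conjugate into it -/
theorem conj_into_hall {G : Type} [Group G] [Finite G] {π : Set ℕ} {H : Subgroup G} (hH : IsPiHall π H)
    {p : ℕ} (hp : p.Prime) (hpπ : p ∈ π) {K : Subgroup G} (hK : IsPGroup p K) :
    ∃ g : G, ∀ k ∈ K, g * k * g⁻¹ ∈ H := by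
  haveI := Fact.mk hp
  let P : Sylow p H := default
  have hP : IsPGroup p ((P : Subgroup H).map H.subtype) := P.isPGroup'.map _
  have hi : ¬ p ∣ ((P : Subgroup H).map H.subtype).index := by
    rw [Subgroup.index_map_subtype]
    exact fun h => (hp.dvd_mul.mp h).elim P.not_dvd_index (hH.2 p hp hpπ)
  let R : Sylow p G := hP.toSylow hi
  obtain ⟨Q, hQ⟩ := hK.exists_le_sylow
  obtain ⟨g, hg⟩ := MulAction.exists_smul_eq G Q R
  refine ⟨g, fun k hk => ?_⟩
  have h2 : MulAut.conj g • k ∈ MulAut.conj g • (Q : Subgroup G) :=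
    Subgroup.smul_mem_pointwise_smul _ _ _ (hQ hk)
  have h3 : MulAut.conj g • (Q : Subgroup G) = (R : Subgroup G) := by rw [← hg]; rfl
  rw [h3] at h2
  have h4 : g * k * g⁻¹ ∈ (P : Subgroup H).map H.subtype := h2
  exact Subgroup.map_subtype_le _ h4

/-- shift of the rows -/
def shiftHom (m q : ℕ) : Multiplicative (Fin m → ZMod q) →* Perm ((Fin m × ZMod q) ⊕ Unit) where
  toFun v :=
    { toFun := Sum.map (fun x => (x.1, x.2 + v.toAdd x.1)) id
      invFun := Sum.map (fun x => (x.1, x.2 - v.toAdd x.1)) id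
      left_inv := by rintro (⟨i, s⟩ | u) <;> simp
      right_inv := by rintro (⟨i, s⟩ | u) <;> simp }
  map_one' := by ext (⟨i, s⟩ | u) <;> simp
  map_mul' v w := by
    ext (⟨i, s⟩ | u) <;>
      simp [Sum.map, add_assoc, add_comm (v.toAdd _) (w.toAdd _)]

theorem shiftHom_inl (m q : ℕ) (v : Fin m → ZMod q) (i : Fin m) (s : ZMod q) :
    shiftHom m q (Multiplicative.ofAdd v) (Sum.inl (i, s)) = Sum.inl (i, s + v i) := rfl

theorem shiftHom_inr (m q : ℕ) (v : Fin m → ZMod q) (u : Unit) :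
    shiftHom m q (Multiplicative.ofAdd v) (Sum.inr u) = Sum.inr u := rfl

theorem no_hall {p q r : ℕ} (hp : p.Prime) (hq : q.Prime) (hr : r.Prime) (hpq : p ≠ q) {π : Set ℕ}
    (hpπ : p ∈ π) (hqπ : q ∈ π) (hrπ : r ∉ π) :
    ∃ (α : Type) (_ : Fintype α), ¬ IsEPiGroup π (Perm α) := by
  haveI := Fact.mk hp
  haveI := Fact.mk hq
  -- choose the degree
  set k := 2 * r + q + 5 with hk
  have hcong : (p ^ Nat.totient q) ^ k % q = 1 := by
    have h := (Nat.ModEq.pow_totient ((Nat.coprime_primes hp hq).mpr hpq)).pow k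
    rw [one_pow] at h
    rw [h]
    exact Nat.mod_eq_of_lt hq.one_lt
  set a := Nat.totient q * k with ha
  rw [← pow_mul, ← ha] at hcong
  have hbig : k < p ^ a := by
    have h1 : k ≤ a := by
      rw [ha]; exact Nat.le_mul_of_pos_left _ (Nat.totient_pos.mpr hq.pos)
    exact lt_of_le_of_lt h1 (Nat.lt_pow_self hp.one_lt)
  set m := p ^ a / q with hm
  have hcard : m * q + 1 = p ^ a := by
    have := Nat.div_add_mod (p ^ a) q
    rw [hcong] at this
    rw [hm, mul_comm]; exact this
  set α := (Fin m × ZMod q) ⊕ Unit with hα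
  have hcα : Fintype.card α = p ^ a := by
    simp [hα, hcard]
  refine ⟨α, inferInstance, ?_⟩
  rintro ⟨H, hH⟩
  -- a regular cycle
  haveI : NeZero (p ^ a) := ⟨pow_ne_zero _ hp.ne_zero⟩
  let e : α ≃ ZMod (p ^ a) := Fintype.equivOfCardEq (by rw [hcα, ZMod.card])
  let c : Perm α := e.trans ((Equiv.addRight (1 : ZMod (p ^ a))).trans e.symm)
  have hcpow : ∀ (j : ℕ) (x : α), (c ^ j) x = e.symm (e x + j) := by
    intro j
    induction j with
    | zero => simp
    | succ j ih =>
      intro x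
      rw [pow_succ', Perm.mul_apply, ih]
      simp [c, add_assoc]
  have hc1 : c ^ (p ^ a) = 1 := by
    ext x; rw [hcpow]; simp
  have hcgrp : IsPGroup p (Subgroup.zpowers c) := by
    obtain ⟨i, -, hi⟩ := (Nat.dvd_prime_pow hp).mp (orderOf_dvd_of_pow_eq_one hc1)
    exact IsPGroup.of_card (n := i) (by rw [Nat.card_zpowers, hi])
  have hEgrp : IsPGroup q (shiftHom m q).range := by
    refine IsPGroup.of_surjective ?_ (shiftHom m q).rangeRestrict (shiftHom m q).rangeRestrict_surjective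
    exact IsPGroup.of_card (n := m) (by simp [Nat.card_eq_fintype_card])
  obtain ⟨g₁, hg₁⟩ := conj_into_hall hH hp hpπ hcgrp
  obtain ⟨g₂, hg₂⟩ := conj_into_hall hH hq hqπ hEgrp
  set H₁ := H.comap (MulAut.conj g₂).toMonoidHom with hH₁
  have hE : ∀ v, shiftHom m q v ∈ H₁ := fun v => hg₂ _ ⟨v, rfl⟩
  have hcard₁ : Nat.card H₁ = Nat.card H :=
    Nat.card_congr ((MulAut.conj g₂).toEquiv.subtypeEquiv fun x => Iff.rfl)
  set h := g₂⁻¹ * g₁ with hh
  have hd : ∀ j : ℕ, h * c ^ j * h⁻¹ ∈ H₁ := by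
    intro j
    show g₂ * (h * c ^ j * h⁻¹) * g₂⁻¹ ∈ H
    have := hg₁ (c ^ j) (Subgroup.npow_mem_zpowers c j)
    simpa [hh, mul_assoc] using this
  haveI : MulAction.IsPretransitive H₁ α := by
    constructor
    intro x y
    refine ⟨⟨_, hd (e (h⁻¹ y) - e (h⁻¹ x)).val⟩, ?_⟩
    show (h * c ^ _ * h⁻¹) x = y
    rw [Perm.mul_apply, Perm.mul_apply, hcpow, ZMod.natCast_zmod_val, add_sub_cancel,
      Equiv.symm_apply_apply]
    simp
  -- primitivity
  haveI hprim : MulAction.IsPreprimitive H₁ α := by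
    refine ⟨fun {B} hB => ?_⟩
    by_contra hcon
    simp only [MulAction.IsTrivialBlock, not_or] at hcon
    obtain ⟨hns, hne⟩ := hcon
    obtain ⟨y, hy⟩ := (Set.ne_univ_iff_exists_notMem B).mp hne
    obtain ⟨u, hu⟩ := MulAction.exists_smul_eq H₁ y (Sum.inr () : α)
    have hB' := hB.translate u
    set B' := u • B with hB'def
    have hf : (Sum.inr () : α) ∉ B' := by
      rw [← hu, hB'def, Set.smul_mem_smul_set_iff]; exact hy
    have hnt : B'.Nontrivial := by
      obtain ⟨x, hx, z, hz, hxz⟩ := Set.not_subsingleton_iff.mp hns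
      exact ⟨u • x, Set.smul_mem_smul_set hx, u • z, Set.smul_mem_smul_set hz,
        fun h => hxz (MulAction.injective u h)⟩
    -- each row meeting B' lies in B'
    have hrow : ∀ i s t, (Sum.inl (i, s) : α) ∈ B' → (Sum.inl (i, t) : α) ∈ B' := by
      intro i s t hs
      let d : ZMod q → H₁ := fun w => ⟨_, hE (Multiplicative.ofAdd (Pi.single i w))⟩
      have hd1 : ∀ w z : ZMod q, d w • (Sum.inl (i, z) : α) = Sum.inl (i, z + w) := fun w z => by
        show shiftHom m q _ _ = _
        rw [shiftHom_inl, Pi.single_eq_same]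
      have hmeet : ∀ w, ∀ x ∈ B', d w • x ∈ B' → d w • B' = B' := by
        intro w x hx hwx
        rcases hB'.smul_eq_or_disjoint (d w) with h | h
        · exact h
        · exact absurd hwx (fun h2 => Set.disjoint_left.mp h (Set.smul_mem_smul_set hx) h2)
      obtain ⟨w, hw0, hw⟩ : ∃ w : ZMod q, w ≠ 0 ∧ d w • B' = B' := by
        obtain ⟨z, hz, hzne⟩ := hnt.exists_ne (Sum.inl (i, s) : α)
        rcases z with ⟨j, z⟩ | ⟨⟩
        · by_cases hji : j = i
          · subst hji
            refine ⟨z - s, sub_ne_zero.mpr fun h => hzne (by rw [h]), hmeet _ _ hs ?_⟩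
            rw [hd1, add_sub_cancel]; exact hz
          · refine ⟨1, one_ne_zero, hmeet 1 _ hz ?_⟩
            show shiftHom m q _ _ ∈ B'
            rw [shiftHom_inl, Pi.single_eq_of_ne hji, add_zero]; exact hz
        · exact absurd hz hf
      have hmul : ∀ j : ℕ, (Sum.inl (i, s + j * w) : α) ∈ B' := by
        intro j
        induction j with
        | zero => simpa using hs
        | succ j ih =>
          have := Set.smul_mem_smul_set (a := d w) ih
          rw [hw, hd1] at this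
          rw [show s + ((j + 1 : ℕ) : ZMod q) * w = s + j * w + w by push_cast; ring]
          exact this
      have := hmul ((t - s) / w).val
      rwa [ZMod.natCast_zmod_val, div_mul_cancel₀ _ hw0, add_sub_cancel] at this
    let I : Set (Fin m) := {i | (Sum.inl (i, 0) : α) ∈ B'}
    have hBI : B' = Sum.inl '' (I ×ˢ (Set.univ : Set (ZMod q))) := by
      ext x
      rcases x with ⟨i, s⟩ | ⟨⟩
      · constructor
        · exact fun hx => ⟨(i, s), ⟨hrow i s 0 hx, Set.mem_univ _⟩, rfl⟩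
        · rintro ⟨⟨j, t⟩, ⟨hj, -⟩, h⟩
          rw [Sum.inl.injEq, Prod.mk.injEq] at h
          obtain ⟨rfl, rfl⟩ := h
          exact hrow j 0 t hj
      · simp [hf]
    have hdvd := hB'.ncard_dvd_card hnt.nonempty
    rw [hBI, Set.ncard_image_of_injective _ Sum.inl_injective, Set.ncard_prod, Set.ncard_univ,
      Nat.card_zmod, Nat.card_eq_fintype_card, hcα] at hdvd
    have : q ∣ p ^ a := (dvd_mul_left q _).trans hdvd
    exact hpq.symm ((Nat.prime_dvd_prime_iff_eq hq hp).mp (hq.dvd_of_dvd_pow this))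
  -- a cycle of length q
  have hm0 : 0 < m := by
    rcases Nat.eq_zero_or_pos m with h | h
    · rw [h] at hcard; omega
    · exact h
  let i₀ : Fin m := ⟨0, hm0⟩
  let g := shiftHom m q (Multiplicative.ofAdd (Pi.single i₀ 1))
  have hg : ∀ z : ZMod q, g (Sum.inl (i₀, z)) = Sum.inl (i₀, z + 1) := fun z => by
    show shiftHom m q _ _ = _
    rw [shiftHom_inl, Pi.single_eq_same]
  have hmoved : ∀ x, g x ≠ x ↔ ∃ z, x = Sum.inl (i₀, z) := by
    rintro (⟨j, z⟩ | u)
    · by_cases hj : j = i₀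
      · subst hj; simp [hg]
      · simp only [g, shiftHom_inl, Pi.single_eq_of_ne hj, add_zero, ne_eq, not_true, false_iff]
        rintro ⟨z', h⟩
        exact hj (by simpa using (Prod.mk.inj (Sum.inl_injective h)).1)
    · simp [g, shiftHom_inr]
  have hgn : ∀ (j : ℕ) (z : ZMod q), (g ^ j) (Sum.inl (i₀, z)) = Sum.inl (i₀, z + j) := by
    intro j
    induction j with
    | zero => simp
    | succ j ih => intro z; rw [pow_succ', Perm.mul_apply, ih, hg]; simp [add_assoc]
  have hcyc : g.IsCycle := by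
    refine ⟨Sum.inl (i₀, 0), (hmoved _).mpr ⟨0, rfl⟩, fun y hy => ?_⟩
    obtain ⟨z, rfl⟩ := (hmoved y).mp hy
    exact ⟨(z.val : ℤ), by rw [zpow_natCast, hgn]; simp⟩
  have hsupp : g.support.card = q := by
    rw [show g.support = Finset.univ.image (fun z : ZMod q => (Sum.inl (i₀, z) : α)) from ?_,
      Finset.card_image_of_injective _ (fun a b h => by simpa using h), Finset.card_univ, ZMod.card]
    ext x
    simp [Perm.mem_support, hmoved, eq_comm]
  have halt := CfsgLib.Perm.Jordan.alternatingGroup_le_of_prime_cycle H₁ hprim hq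
    (by rw [hcα]; omega) hcyc hsupp (hE _)
  have hr2 : r ∣ Nat.card (alternatingGroup α) := by
    haveI : Nontrivial α := Fintype.one_lt_card_iff_nontrivial.mp (by rw [hcα]; omega)
    have h2 := two_mul_nat_card_alternatingGroup (α := α)
    rw [Nat.card_perm, Nat.card_eq_fintype_card (α := α), hcα] at h2
    by_cases hr' : r = 2
    · subst hr'
      have h4 : 4 ∣ (p ^ a).factorial :=
        (show (4 : ℕ) ∣ Nat.factorial 4 from by decide).trans (Nat.factorial_dvd_factorial (by omega))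
      omega
    · have h3 : r ∣ (p ^ a).factorial := Nat.dvd_factorial hr.pos (by omega)
      rw [← h2] at h3
      rcases hr.dvd_mul.mp h3 with h | h
      · exact absurd ((Nat.prime_dvd_prime_iff_eq hr Nat.prime_two).mp h) hr'
      · exact h
  exact hrπ (hH.1 r hr (hr2.trans (hcard₁ ▸ Subgroup.card_dvd_of_le halt)))

theorem piSub_of_single {G : Type} [Group G] [Finite G] {p : ℕ} {π : Set ℕ}
    (hπ : ∀ l : ℕ, l.Prime → l ∈ π → l = p) {K : Subgroup G} (hK : IsPiSubgroup π K) : IsPGroup p K :=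
  IsPGroup.of_card (Nat.eq_prime_pow_of_unique_prime_dvd Nat.card_pos.ne'
    fun {d} hd hdK => hπ d hd (hK d hd hdK))

theorem dpi_of_trivial {π : Set ℕ}
    (h : (∀ p q : ℕ, p.Prime → q.Prime → p ∈ π → q ∈ π → p = q) ∨ ∀ p : ℕ, p.Prime → p ∈ π)
    (G : Type) [Group G] [Finite G] : IsDPiGroup π G := by
  intro H K hH hK
  rcases h with h | h
  · by_cases he : ∃ p : ℕ, p.Prime ∧ p ∈ π
    · obtain ⟨p, hp, hpπ⟩ := he
      haveI := Fact.mk hp
      have key : ∀ L : Subgroup G, Maximal (IsPiSubgroup π) L → ∃ P : Sylow p G, (P : Subgroup G) = L := by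
        intro L hL
        obtain ⟨P, hP⟩ := (piSub_of_single (fun l hl hlπ => h l p hl hp hlπ hpπ) hL.prop).exists_le_sylow
        refine ⟨P, (hL.eq_of_le ?_ hP).symm⟩
        intro l hl hlP
        obtain ⟨n, hn⟩ := P.isPGroup'.exists_card_eq
        rw [hn] at hlP
        rwa [(Nat.prime_dvd_prime_iff_eq hl hp).mp (hl.dvd_of_dvd_pow hlP)]
      obtain ⟨P, rfl⟩ := key H hH
      obtain ⟨Q, rfl⟩ := key K hK
      obtain ⟨g, rfl⟩ := MulAction.exists_smul_eq G P Q
      exact ⟨g, rfl⟩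
    · have key : ∀ L : Subgroup G, IsPiSubgroup π L → L = ⊥ := fun L hL => by
        by_contra hne
        have h1 : Nat.card L ≠ 1 := fun h => hne (Subgroup.card_eq_one.mp h)
        obtain ⟨l, hl, hlL⟩ := Nat.exists_prime_and_dvd h1
        exact he ⟨l, hl, hL l hl hlL⟩
      exact ⟨1, by rw [key H hH.prop, key K hK.prop, Subgroup.map_bot]⟩
  · have key : ∀ L : Subgroup G, Maximal (IsPiSubgroup π) L → L = ⊤ := fun L hL =>
      hL.eq_of_le (fun l hl _ => h l hl) le_top
    exact ⟨1, by rw [key H hH, key K hK, Subgroup.map_top_of_surjective _ (MulAut.conj 1).surjective]⟩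

theorem epi_of_dpi {π : Set ℕ} (G : Type) [Group G] [Finite G] (hD : IsDPiGroup π G) :
    IsEPiGroup π G := by
  have hbot : IsPiSubgroup π (⊥ : Subgroup G) := fun l hl h => by
    rw [Subgroup.card_bot, Nat.dvd_one] at h
    exact absurd h hl.ne_one
  obtain ⟨H, -, hH⟩ := Finite.exists_le_maximal hbot
  refine ⟨H, hH.prop, fun p hp hpπ hdvd => ?_⟩
  haveI := Fact.mk hp
  let P : Sylow p G := default
  have hP : IsPiSubgroup π (P : Subgroup G) := fun l hl hlP => by
    obtain ⟨n, hn⟩ := P.isPGroup'.exists_card_eq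
    rw [hn] at hlP
    rwa [(Nat.prime_dvd_prime_iff_eq hl hp).mp (hl.dvd_of_dvd_pow hlP)]
  obtain ⟨K, hPK, hK⟩ := Finite.exists_le_maximal hP
  obtain ⟨g, rfl⟩ := hD H K hH hK
  have hi : (H.map (MulAut.conj g).toMonoidHom).index = H.index :=
    Subgroup.index_map_equiv (H := H) (MulAut.conj g)
  exact P.not_dvd_index ((hi ▸ hdvd).trans (Subgroup.index_dvd_of_le hPK))

theorem trivial_of_epi {π : Set ℕ} (hE : ∀ (G : Type) [Group G] [Finite G], IsEPiGroup π G) :
    (∀ p q : ℕ, p.Prime → q.Prime → p ∈ π → q ∈ π → p = q) ∨ ∀ p : ℕ, p.Prime → p ∈ π := by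
  by_contra hcon
  simp only [not_or, not_forall] at hcon
  obtain ⟨⟨p, q, hp, hq, hpπ, hqπ, hpq⟩, r, hr, hrπ⟩ := hcon
  obtain ⟨α, hα, hno⟩ := no_hall hp hq hr hpq hpπ hqπ hrπ
  exact hno (hE (Perm α))

end Helpers

/-- For a set of primes π the following are equivalent: every finite group has a Hall π-subgroup; in every finite group the maximal π-subgroups are pairwise conjugate; π contains at most one prime or contains every prime. -/
theorem result (π : Set ℕ) :
    ((∀ (G : Type) [Group G] [Finite G], Cfsg.IsEPiGroup π G) ↔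
      ((∀ p q : ℕ, p.Prime → q.Prime → p ∈ π → q ∈ π → p = q) ∨ ∀ p : ℕ, p.Prime → p ∈ π)) ∧
    ((∀ (G : Type) [Group G] [Finite G], Cfsg.IsDPiGroup π G) ↔
      ((∀ p q : ℕ, p.Prime → q.Prime → p ∈ π → q ∈ π → p = q) ∨ ∀ p : ℕ, p.Prime → p ∈ π)) := by
  exact ⟨⟨trivial_of_epi, fun h G _ _ => epi_of_dpi G (dpi_of_trivial h G)⟩,
    ⟨fun h => trivial_of_epi fun G _ _ => epi_of_dpi G (h G), fun h G _ _ => dpi_of_trivial h G⟩⟩

end Cfsg.Agent.S3878
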