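import Cfsg.Statements.S3879
import Cfsg.Agent.Solv.Metacyclic
import Mathlib
-- import your own Cfsg.Agent.* helpers here

set_option autoImplicit false
open Cfsg

namespace Cfsg.Agent.S3879

open CfsgLib.Solv.Metacyclic

end Cfsg.Agent.S3879

namespace Cfsg.Agent.S3879

/-- Let p be an odd prime and G a finite metacyclic p-group (G has a cyclic normal subgroup with cyclic quotient). Then the index of the center of G is the square of the order of the derived subgroup: |G : Z(G)| = |G'|². -/
theorem result {G : Type*} [Group G] [Finite G] {p : ℕ} [Fact p.Prime] (hp : p ≠ 2) (hG : IsPGroup p G) (hmc : Cfsg.IsMetacyclic G) : (Subgroup.center G).index = Nat.card ↥(commutator G) ^ 2 := by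
  obtain ⟨N, hN, hcN, hcQ⟩ := hmc
  haveI := hN; haveI := hcN; haveI := hcQ
  obtain ⟨D⟩ := CfsgLib.Solv.Metacyclic.exists_data hp hG (N := N)
  have hpp : p.Prime := Fact.out
  have h := Subgroup.card_mul_index (Subgroup.center G)
  rw [D.card_commutator, ← pow_mul]
  apply Nat.eq_of_mul_eq_mul_left (Nat.card_pos (α := Subgroup.center G))
  rw [h, D.card_params D.params_center, D.card_eq, ← pow_add, ← pow_add]
  congr 1
  have := D.n_le_alpha; have := D.beta_ge
  omega

end Cfsg.Agent.S3879
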