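import Cfsg.Statements.S3880
import Cfsg.Agent.Solv.Metacyclic
import Mathlib
-- import your own Cfsg.Agent.* helpers here

set_option autoImplicit false
open Cfsg

namespace Cfsg.Agent.S3880

open CfsgLib.Solv.Metacyclic

theorem card_eq_iff {G : Type*} [Group G] [Finite G] {p : ℕ} [Fact p.Prime] (D : Data G p) {L : Subgroup G} {u v : ℕ}
    (h : D.Params L u v) : (Nat.card L ≤ (commutator G).index ↔ D.n ≤ u + v) ∧
      (Nat.card L = (commutator G).index ↔ D.n = u + v) := by
  have hpp : p.Prime := Fact.out
  rw [D.card_params h, D.index_commutator, ← pow_add, Nat.pow_le_pow_iff_right hpp.one_lt,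
    (Nat.pow_right_injective hpp.two_le).eq_iff]
  have := h.hu; have := h.hv; have := D.n_le_alpha
  omega

end Cfsg.Agent.S3880

namespace Cfsg.Agent.S3880

/-- Let p be an odd prime and G a finite metacyclic p-group (G has a cyclic normal subgroup with cyclic quotient). Then a subgroup L of G is abelian if and only if |L| ≤ |G : G'|, and L is a maximal abelian subgroup of G if and only if |L| = |G : G'|. -/
theorem result {G : Type*} [Group G] [Finite G] {p : ℕ} [Fact p.Prime] (hp : p ≠ 2) (hG : IsPGroup p G) (hmc : Cfsg.IsMetacyclic G) (L : Subgroup G) :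
    (IsMulCommutative ↥L ↔ Nat.card ↥L ≤ (commutator G).index) ∧
      (Maximal (fun K : Subgroup G => IsMulCommutative ↥K) L ↔ Nat.card ↥L = (commutator G).index) := by
  obtain ⟨N, hN, hcN, hcQ⟩ := hmc
  haveI := hN; haveI := hcN; haveI := hcQ
  obtain ⟨D⟩ := CfsgLib.Solv.Metacyclic.exists_data hp hG (N := N)
  obtain ⟨u, v, h⟩ := D.exists_params L
  obtain ⟨hle, heq⟩ := Cfsg.Agent.S3880.card_eq_iff D h
  refine ⟨(D.commutative_iff h).trans hle.symm, ⟨fun hmax => ?_, fun he => ?_⟩⟩
  · -- a maximal abelian subgroup is its own centralizer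
    have hab : D.n ≤ u + v := (D.commutative_iff h).1 hmax.1
    have hCL : Subgroup.centralizer (L : Set G) ≤ L := by
      intro x hx
      have hle : L ≤ L ⊔ Subgroup.zpowers x := le_sup_left
      have hcm : IsMulCommutative ↥(L ⊔ Subgroup.zpowers x) := by
        rw [← Subgroup.le_centralizer_iff_isMulCommutative]
        have hL : L ≤ Subgroup.centralizer (L : Set G) := (Subgroup.le_centralizer_iff_isMulCommutative).2 hmax.1
        refine sup_le ?_ ?_ <;> rw [Subgroup.le_centralizer_iff] <;> refine sup_le ?_ ?_
        · exact hL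
        · exact Subgroup.zpowers_le.2 hx
        · exact Subgroup.le_centralizer_iff.1 (Subgroup.zpowers_le.2 hx)
        · exact Subgroup.zpowers_le.2 (Subgroup.mem_centralizer_iff.2 fun g hg => by
            obtain ⟨k, rfl⟩ := Subgroup.mem_zpowers_iff.1 hg
            exact ((Commute.refl x).zpow_left k).eq)
      exact hmax.2 hcm hle (Subgroup.mem_sup_right (Subgroup.mem_zpowers x))
    have hZ : Subgroup.center G ≤ L := (Subgroup.center_le_centralizer _).trans hCL
    have hLC : L = Subgroup.centralizer (L : Set G) :=
      le_antisymm ((Subgroup.le_centralizer_iff_isMulCommutative).2 hmax.1) hCL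
    have hpar := D.params_centralizer h hZ
    rw [← hLC] at hpar
    obtain ⟨h1, h2⟩ := D.params_unique h hpar
    rw [heq]
    have := D.le_of_center_le h hZ
    omega
  · rw [heq] at he
    have hC : Subgroup.centralizer (L : Set G) ≤ L := D.centralizer_le h he.ge
    refine ⟨(D.commutative_iff h).2 he.le, fun K hK hLK => ?_⟩
    exact ((Subgroup.le_centralizer_iff_isMulCommutative).2 hK).trans
      ((Subgroup.centralizer_le (SetLike.coe_subset_coe.2 hLK)).trans hC)

end Cfsg.Agent.S3880
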