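import Cfsg.Statements.S3881
import Cfsg.Agent.Solv.Metacyclic
import Mathlib
-- import your own Cfsg.Agent.* helpers here

set_option autoImplicit false
open Cfsg

namespace Cfsg.Agent.S3881

open CfsgLib.Solv.Metacyclic

end Cfsg.Agent.S3881

namespace Cfsg.Agent.S3881

/-- Let p be an odd prime and G a finite metacyclic p-group (G has a cyclic normal subgroup with cyclic quotient). Suppose G is non-abelian with |G'| = p^n. Then for 1 ≤ i ≤ n the number of elements of G whose conjugacy class has exactly p^i elements is |Z(G)| · (p^(2i) − p^(2i−2)). -/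
theorem result {G : Type*} [Group G] [Finite G] {p : ℕ} [Fact p.Prime] (hp : p ≠ 2) (hG : IsPGroup p G) (hmc : Cfsg.IsMetacyclic G) (n : ℕ) (hn : n ≠ 0) (hGn : Nat.card ↥(commutator G) = p ^ n) (i : ℕ) (hi : 1 ≤ i) (hin : i ≤ n) :
    Nat.card {g : G // (Subgroup.centralizer ({g} : Set G)).index = p ^ i} =
      Nat.card ↥(Subgroup.center G) * (p ^ (2 * i) - p ^ (2 * i - 2)) := by
  obtain ⟨N, hN, hcN, hcQ⟩ := hmc
  haveI := hN; haveI := hcN; haveI := hcQ
  obtain ⟨D⟩ := CfsgLib.Solv.Metacyclic.exists_data hp hG (N := N)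
  have hpp : p.Prime := Fact.out
  have hDn : D.n = n := Nat.pow_right_injective hpp.two_le (D.card_commutator.symm.trans hGn)
  subst hDn
  have hset : {g : G | (Subgroup.centralizer ({g} : Set G)).index = p ^ i}
      = (D.H (D.n - i) : Set G) \ (D.H (D.n - (i - 1)) : Set G) := by
    ext g
    simp only [Set.mem_setOf_eq, Set.mem_diff, SetLike.mem_coe, ← D.index_le_iff hin g,
      ← D.index_le_iff (show i - 1 ≤ D.n by omega) g]
    obtain ⟨e, he⟩ := hG.index (Subgroup.centralizer ({g} : Set G))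
    rw [he, (Nat.pow_right_injective hpp.two_le).eq_iff, Nat.pow_le_pow_iff_right hpp.one_lt,
      Nat.pow_le_pow_iff_right hpp.one_lt]
    omega
  have hsub : (D.H (D.n - (i - 1)) : Set G) ⊆ (D.H (D.n - i) : Set G) := by
    intro g hg
    rw [SetLike.mem_coe, ← D.index_le_iff (show i - 1 ≤ D.n by omega)] at hg
    rw [SetLike.mem_coe, ← D.index_le_iff hin]
    exact hg.trans (Nat.pow_le_pow_right hpp.pos (Nat.sub_le _ _))
  show Nat.card ↥{g : G | (Subgroup.centralizer ({g} : Set G)).index = p ^ i} = _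
  rw [Nat.card_coe_set_eq, hset, Set.ncard_sdiff hsub, ← Nat.card_coe_set_eq, ← Nat.card_coe_set_eq]
  show Nat.card (D.H (D.n - i)) - Nat.card (D.H (D.n - (i - 1))) = _
  rw [D.card_params (D.params_H (Nat.sub_le _ _)), D.card_params (D.params_H (Nat.sub_le _ _)),
    D.card_params D.params_center, Nat.mul_sub, ← pow_add, ← pow_add, ← pow_add, ← pow_add, ← pow_add]
  have := D.n_le_alpha; have := D.beta_ge
  congr 2 <;> omega

end Cfsg.Agent.S3881
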