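import Cfsg.Statements.S3883
import Cfsg.Agent.Solv.Metacyclic
import Mathlib
-- import your own Cfsg.Agent.* helpers here

set_option autoImplicit false
open Cfsg

namespace Cfsg.Agent.S3883

open CfsgLib.Solv.Metacyclic

end Cfsg.Agent.S3883

namespace Cfsg.Agent.S3883

/-- Let p be an odd prime and G a finite metacyclic p-group (G has a cyclic normal subgroup with cyclic quotient). Suppose G is non-abelian. Then an element g of G lies outside the Frattini subgroup if and only if its centralizer C_G(g) is abelian. -/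
theorem result {G : Type*} [Group G] [Finite G] {p : ℕ} [Fact p.Prime] (hp : p ≠ 2) (hG : IsPGroup p G) (hmc : Cfsg.IsMetacyclic G) (hna : ¬ IsMulCommutative G) (g : G) :
    g ∉ frattini G ↔ IsMulCommutative ↥(Subgroup.centralizer ({g} : Set G)) := by
  obtain ⟨N, hN, hcN, hcQ⟩ := hmc
  haveI := hN; haveI := hcN; haveI := hcQ
  obtain ⟨D⟩ := CfsgLib.Solv.Metacyclic.exists_data hp hG (N := N)
  have hpp : p.Prime := Fact.out
  have hn1 : 1 ≤ D.n := by
    by_contra h0
    apply hna
    have h := (D.commutative_iff D.params_top).2 (by omega)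
    exact ⟨⟨fun x y => congrArg Subtype.val (h.is_comm.comm (⟨x, Subgroup.mem_top x⟩ : (⊤ : Subgroup G)) ⟨y, Subgroup.mem_top y⟩)⟩⟩
  haveI := hG.isNilpotent
  have hPhi : frattini G = D.H 1 := by
    apply le_antisymm
    · intro x hx
      obtain ⟨i, j, rfl⟩ := D.nf x
      rw [D.mem_H_iff hn1, pow_one]
      have hno : ∀ y : G, Subgroup.zpowers y ≠ ⊤ := by
        intro y hy
        apply hna
        refine ⟨⟨fun g k => ?_⟩⟩
        obtain ⟨m, rfl⟩ := Subgroup.mem_zpowers_iff.1 (hy ▸ Subgroup.mem_top g : g ∈ Subgroup.zpowers y)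
        obtain ⟨l, rfl⟩ := Subgroup.mem_zpowers_iff.1 (hy ▸ Subgroup.mem_top k : k ∈ Subgroup.zpowers y)
        exact (((Commute.refl y).zpow_zpow m l)).eq
      have hgen : ∀ K : Subgroup G, D.a ∈ K → D.b ∈ K → K = ⊤ := fun K h1 h2 => by
        rw [eq_top_iff]
        intro g _
        obtain ⟨k, l, rfl⟩ := D.nf g
        exact K.mul_mem (K.pow_mem h1 k) (K.pow_mem h2 l)
      have hroot : ∀ (y : G) (k : ℕ) (K : Subgroup G), ¬ p ∣ k → y ^ k ∈ K → y ∈ K := by
        intro y k K hk hy
        obtain ⟨e, he⟩ := IsPGroup.iff_orderOf.1 hG y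
        obtain ⟨m, hm⟩ := exists_pow_eq_self_of_coprime
          (show k.Coprime (orderOf y) by rw [he]; exact ((hpp.coprime_iff_not_dvd.2 hk).symm).pow_right e)
        rw [← hm]
        exact K.pow_mem hy m
      have hj : p ∣ j := by
        by_contra hj
        apply hno D.a
        refine frattini_nongenerating (hgen _ (Subgroup.mem_sup_left (Subgroup.mem_zpowers _)) (hroot _ j _ hj ?_))
        have := Subgroup.mul_mem _ (Subgroup.inv_mem _ (Subgroup.pow_mem _ (Subgroup.mem_sup_left
          (T := frattini G) (Subgroup.mem_zpowers D.a)) i)) (Subgroup.mem_sup_right (S := Subgroup.zpowers D.a) hx)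
        rwa [inv_mul_cancel_left] at this
      refine ⟨?_, hj⟩
      by_contra hi
      apply hno D.b
      refine frattini_nongenerating (hgen _ (hroot _ i _ hi ?_) (Subgroup.mem_sup_left (Subgroup.mem_zpowers _)))
      have := Subgroup.mul_mem _ (Subgroup.mem_sup_right (S := Subgroup.zpowers D.b) hx) (Subgroup.inv_mem _
        (Subgroup.pow_mem _ (Subgroup.mem_sup_left (T := frattini G) (Subgroup.mem_zpowers D.b)) j))
      rwa [mul_inv_cancel_right] at this
    · have hpow : ∀ y : G, y ^ p ∈ frattini G := by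
        intro y
        rw [frattini, Order.radical]
        simp only [Subgroup.mem_iInf]
        intro M hM
        have hMn : M.Normal := Subgroup.NormalizerCondition.normal_of_coatom M normalizerCondition_of_isNilpotent hM
        by_contra hy
        haveI := hMn
        have htop : M ⊔ Subgroup.zpowers (y ^ p) = ⊤ := hM.2 _ (lt_of_le_of_ne le_sup_left
          fun e => hy (e ▸ Subgroup.mem_sup_right (Subgroup.mem_zpowers _)))
        obtain ⟨u, hu, z, hz, hyz⟩ := Subgroup.mem_sup_of_normal_left.1 (htop ▸ Subgroup.mem_top y : y ∈ _)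
        obtain ⟨k, rfl⟩ := Subgroup.mem_zpowers_iff.1 hz
        have hq : (y : G ⧸ M) = ((y : G ⧸ M) ^ p) ^ k := by
          conv_lhs => rw [← hyz]
          rw [QuotientGroup.mk_mul, (QuotientGroup.eq_one_iff u).2 hu, one_mul, QuotientGroup.mk_zpow,
            QuotientGroup.mk_pow]
        obtain ⟨e, he⟩ := IsPGroup.iff_orderOf.1 (hG.to_quotient M) (y : G ⧸ M)
        rw [← zpow_natCast, ← zpow_mul] at hq
        have h1 : (y : G ⧸ M) ^ ((1 : ℤ) - p * k) = 1 := by
          rw [zpow_sub, zpow_one, ← hq, mul_inv_cancel]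
        rw [← orderOf_dvd_iff_zpow_eq_one, he] at h1
        rcases Nat.eq_zero_or_pos e with rfl | he0
        · rw [pow_zero, orderOf_eq_one_iff, QuotientGroup.eq_one_iff] at he
          exact hy (M.pow_mem he p)
        · have h2 : (p : ℤ) ∣ 1 - p * k := (dvd_trans (by exact_mod_cast dvd_pow_self p he0.ne') h1)
          exact hpp.not_dvd_one (Int.natCast_dvd_natCast.1 (by
            have h3 := dvd_add h2 (dvd_mul_right (p : ℤ) k)
            rwa [sub_add_cancel] at h3))
      refine sup_le ?_ ?_ <;> rw [Subgroup.zpowers_le, pow_one] <;> exact hpow _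
  set L := Subgroup.zpowers g ⊔ Subgroup.center G with hL
  have hZ : Subgroup.center G ≤ L := le_sup_right
  obtain ⟨u, v, h⟩ := D.exists_params L
  obtain ⟨hu, hv⟩ := D.le_of_center_le h hZ
  have hLab : D.n ≤ u + v := by
    rw [← D.commutative_iff h, ← Subgroup.le_centralizer_iff_isMulCommutative, CfsgLib.Solv.Metacyclic.Data.centralizer_sup_center]
    refine sup_le (Subgroup.zpowers_le.2 ?_) (Subgroup.center_le_centralizer _)
    rw [Subgroup.mem_centralizer_iff]
    intro y hy
    obtain ⟨k, rfl⟩ := Subgroup.mem_zpowers_iff.1 hy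
    exact ((Commute.refl g).zpow_left k).eq
  have hCeq : Subgroup.centralizer (L : Set G) = Subgroup.centralizer ({g} : Set G) := by
    rw [hL, CfsgLib.Solv.Metacyclic.Data.centralizer_sup_center, Subgroup.zpowers_eq_closure, Subgroup.centralizer_closure]
  have hC := D.params_centralizer h hZ
  rw [hCeq] at hC
  rw [D.commutative_iff hC, hPhi]
  have hcard := D.index_centralizer g
  rw [← hL, D.card_params h, D.card_params D.params_center] at hcard
  obtain ⟨e, he⟩ := hG.index (Subgroup.centralizer ({g} : Set G))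
  rw [he, ← pow_add, ← pow_add, ← pow_add, (Nat.pow_right_injective hpp.two_le).eq_iff] at hcard
  have hiff := D.index_le_iff (show D.n - 1 ≤ D.n by omega) g
  rw [show D.n - (D.n - 1) = 1 by omega, he, Nat.pow_le_pow_iff_right hpp.one_lt] at hiff
  rw [← hiff]
  have := D.n_le_alpha; have := D.beta_ge; have := h.hu; have := h.hv
  omega

end Cfsg.Agent.S3883
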