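import Cfsg.Statements.S3884
import Cfsg.Agent.Solv.Metacyclic
import Mathlib
-- import your own Cfsg.Agent.* helpers here

set_option autoImplicit false
open Cfsg

namespace Cfsg.Agent.S3884

open CfsgLib.Solv.Metacyclic

theorem pow_lin {G : Type*} [Group G] {p : ℕ} (D : Data G p) (l q : ℕ) :
    ∃ σ : ℕ, ∀ k : ℕ, (D.a ^ k * D.b ^ l) ^ q = D.a ^ (k * σ) * D.b ^ (l * q) := by
  induction q with
  | zero => exact ⟨0, fun k => by simp⟩
  | succ q ih =>
    obtain ⟨σ, hσ⟩ := ih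
    exact ⟨σ + D.r ^ (l * q), fun k => by rw [pow_succ, hσ, D.mul_nf, ← mul_add k, Nat.mul_succ]⟩

theorem exists_kill {G : Type*} [Group G] [Finite G] {p : ℕ} [Fact p.Prime] (D : Data G p) (δ c l : ℕ) :
    ∃ k : ℕ, (∀ x : G, x = D.a ^ k * D.b ^ l → x ^ p ^ δ = (D.a ^ (p ^ δ * c))⁻¹ * D.b ^ (l * p ^ δ)) ∧
      (p ∣ k → p ∣ c ∨ D.α = 0) := by
  have hpp : p.Prime := Fact.out
  obtain ⟨σ, hσ⟩ := pow_lin D l (p ^ δ)
  obtain ⟨S, hS, hSd⟩ := D.pow_nf 1 l (p ^ δ)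
  obtain ⟨w, hw⟩ := (hSd δ).2 dvd_rfl
  have hwp : ¬ p ∣ w := fun hh => by
    have := (Nat.pow_dvd_pow_iff_le_right hpp.one_lt).1
      ((hSd (δ + 1)).1 (by rw [hw, pow_succ]; exact mul_dvd_mul_left _ hh))
    omega
  have hσS : D.a ^ σ = D.a ^ S := by
    have := (hσ 1).symm.trans hS
    rwa [one_mul, one_mul, mul_left_inj] at this
  have hcop : Nat.Coprime w (p ^ (D.α + 1)) := (hpp.coprime_iff_not_dvd.2 hwp).symm.pow_right _
  set P := p ^ (D.α + 1) with hP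
  have htot := Nat.ModEq.pow_totient hcop
  have hP1 : 1 ≤ P := Nat.one_le_pow _ _ hpp.pos
  have ht1 : 1 ≤ Nat.totient P := Nat.totient_pos.2 hP1
  refine ⟨c * (P - 1) * w ^ (Nat.totient P - 1), ?_, fun hk => ?_⟩
  · rintro x rfl
    rw [hσ, mul_comm _ σ, pow_mul, hσS, ← pow_mul, mul_left_inj, eq_inv_iff_mul_eq_one, ← pow_add,
      ← orderOf_dvd_iff_pow_eq_one, D.ordA]
    refine (pow_dvd_pow p (Nat.le_succ D.α)).trans ?_
    rw [hw, show p ^ δ * w * (c * (P - 1) * w ^ (Nat.totient P - 1)) + p ^ δ * c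
      = p ^ δ * c * ((P - 1) * w ^ (Nat.totient P - 1 + 1) + 1) by ring, Nat.sub_add_cancel ht1]
    refine dvd_mul_of_dvd_right ?_ _
    rw [← Nat.modEq_zero_iff_dvd]
    refine ((htot.mul_left (P - 1)).add_right 1).trans ?_
    rw [mul_one, Nat.sub_add_cancel hP1, Nat.modEq_zero_iff_dvd]
  · rcases hpp.dvd_mul.1 hk with h | h
    · rcases hpp.dvd_mul.1 h with h | h
      · exact Or.inl h
      · exfalso
        have h2 := Nat.dvd_sub (dvd_pow_self p (Nat.succ_ne_zero D.α) : p ∣ P) h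
        rw [Nat.sub_sub_self hP1] at h2
        exact hpp.not_dvd_one h2
    · exact absurd (hpp.dvd_of_dvd_pow h) hwp

theorem disjoint_zpowers {G : Type*} [Group G] [Finite G] (x : G) (B : Subgroup G) (N : ℕ)
    (h1 : x ^ N = 1) (h2 : ∀ y : ℕ, x ^ y ∈ B → N ∣ y) :
    Subgroup.zpowers x ⊓ B = ⊥ ∧ Nat.card (Subgroup.zpowers x) = N := by
  constructor
  · rw [eq_bot_iff]
    rintro z ⟨hz, hzB⟩
    obtain ⟨y, rfl⟩ := exists_nat_pow.1 hz
    obtain ⟨m, rfl⟩ := h2 y hzB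
    rw [Subgroup.mem_bot, pow_mul, h1, one_pow]
  · rw [Nat.card_zpowers]
    refine Nat.dvd_antisymm (orderOf_dvd_of_pow_eq_one h1) (h2 _ ?_)
    rw [pow_orderOf_eq_one]
    exact B.one_mem

end Cfsg.Agent.S3884

namespace Cfsg.Agent.S3884

/-- Let p be an odd prime and G a finite metacyclic p-group (G has a cyclic normal subgroup with cyclic quotient). Then G is the product of two cyclic subgroups with trivial intersection: there are cyclic subgroups A and B with A ∩ B = 1 and |A| · |B| = |G|. -/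
theorem result {G : Type*} [Group G] [Finite G] {p : ℕ} [Fact p.Prime] (hp : p ≠ 2) (hG : IsPGroup p G) (hmc : Cfsg.IsMetacyclic G) : ∃ A B : Subgroup G, IsCyclic ↥A ∧ IsCyclic ↥B ∧ A ⊓ B = ⊥ ∧ Nat.card ↥A * Nat.card ↥B = Nat.card G := by
  obtain ⟨N, hN, hcN, hcQ⟩ := hmc
  haveI := hN; haveI := hcN; haveI := hcQ
  obtain ⟨D⟩ := CfsgLib.Solv.Metacyclic.exists_data hp hG (N := N)
  classical
  have hpp : p.Prime := Fact.out
  obtain ⟨e, he⟩ := (D.mem_zpowers_iff _).1 ((D.bmem _).2 dvd_rfl)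
  obtain ⟨ε, hεa, hmem⟩ := CfsgLib.Solv.Metacyclic.exists_level D.a D.ordA (Subgroup.zpowers (D.b ^ p ^ D.β))
  have heε : p ^ ε ∣ e := (hmem e).1 (he ▸ Subgroup.mem_zpowers _)
  have hinter : ∀ x : ℕ, D.a ^ x ∈ Subgroup.zpowers D.b ↔ p ^ ε ∣ x := by
    intro x
    rw [← hmem]
    refine ⟨fun hx => ?_, fun hx => (Subgroup.zpowers_le.2 (Subgroup.pow_mem _ (Subgroup.mem_zpowers _) _)) hx⟩
    obtain ⟨k, hk⟩ := CfsgLib.Solv.Metacyclic.exists_nat_pow.1 hx
    obtain ⟨m, rfl⟩ := (D.bmem k).1 (hk ▸ Subgroup.pow_mem _ (Subgroup.mem_zpowers _) x)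
    rw [← hk, pow_mul]
    exact Subgroup.pow_mem _ (Subgroup.mem_zpowers _) m
  have hcA : Nat.card (Subgroup.zpowers D.a) = p ^ D.α := by rw [Nat.card_zpowers, D.ordA]
  have hcycA : IsCyclic (Subgroup.zpowers D.a) := inferInstance
  rcases eq_or_lt_of_le hεa with hε | hε
  · -- the two generators meet trivially
    subst hε
    have hb1 : D.b ^ p ^ D.β = 1 := by
      rw [← he, ← orderOf_dvd_iff_pow_eq_one, D.ordA]; exact heε
    obtain ⟨h1, h2⟩ := Cfsg.Agent.S3884.disjoint_zpowers D.b (Subgroup.zpowers D.a) _ hb1 fun y hy => (D.bmem y).1 hy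
    exact ⟨Subgroup.zpowers D.a, Subgroup.zpowers D.b, inferInstance, inferInstance, by rwa [inf_comm],
      by rw [hcA, h2, D.card_eq, pow_add]⟩
  rcases le_or_gt D.β ε with hβ | hβ
  · -- a complement to the normal cyclic subgroup
    obtain ⟨c, hc⟩ : p ^ D.β ∣ e := (pow_dvd_pow p hβ).trans heε
    obtain ⟨k, hk, -⟩ := Cfsg.Agent.S3884.exists_kill D D.β c 1
    set x := D.a ^ k * D.b ^ 1 with hx
    have hx1 : x ^ p ^ D.β = 1 := by rw [hk x rfl, one_mul, ← hc, ← he, inv_mul_cancel]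
    obtain ⟨h1, h2⟩ := Cfsg.Agent.S3884.disjoint_zpowers x (Subgroup.zpowers D.a) _ hx1 fun y hy => by
      obtain ⟨σ, hσ⟩ := Cfsg.Agent.S3884.pow_lin D 1 y
      rw [hx, hσ, one_mul, Subgroup.mul_mem_cancel_left _ (Subgroup.pow_mem _ (Subgroup.mem_zpowers _) _)] at hy
      exact (D.bmem y).1 hy
    exact ⟨Subgroup.zpowers D.a, Subgroup.zpowers x, inferInstance, inferInstance, by rwa [inf_comm],
      by rw [hcA, h2, D.card_eq, pow_add]⟩
  · obtain ⟨c, hc⟩ := heε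
    have hcp : ¬ p ∣ c := by
      rintro ⟨c', rfl⟩
      obtain ⟨m, hm⟩ := CfsgLib.Solv.Metacyclic.exists_nat_pow.1 ((hmem _).2 dvd_rfl)
      rw [← he, hc, ← pow_mul] at hm
      have h3 := pow_eq_pow_iff_modEq.1 hm
      rw [D.ordA] at h3
      have h4 := h3.of_dvd (pow_dvd_pow p (show ε + 1 ≤ D.α by omega))
      have h5 : p ^ (ε + 1) ∣ p ^ ε * (p * c') * m := by rw [pow_succ]; exact ⟨c' * m, by ring⟩
      rw [Nat.ModEq, Nat.mod_eq_zero_of_dvd h5] at h4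
      have h6 : p ^ (ε + 1) ∣ p ^ ε := Nat.dvd_of_mod_eq_zero h4.symm
      have := (Nat.pow_dvd_pow_iff_le_right hpp.one_lt).1 h6
      omega
    obtain ⟨k, hk, hkp⟩ := Cfsg.Agent.S3884.exists_kill D ε c (p ^ (D.β - ε))
    have hk' : ¬ p ∣ k := fun h => (hkp h).elim hcp (by omega)
    set x := D.a ^ k * D.b ^ p ^ (D.β - ε) with hx
    have hl : p ^ (D.β - ε) * p ^ ε = p ^ D.β := by rw [← pow_add, Nat.sub_add_cancel hβ.le]
    have hx1 : x ^ p ^ ε = 1 := by rw [hk x rfl, hl, ← hc, ← he, inv_mul_cancel]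
    obtain ⟨h1, h2⟩ := Cfsg.Agent.S3884.disjoint_zpowers x (Subgroup.zpowers D.b) _ hx1 fun y hy => by
      obtain ⟨S, hS, hSd⟩ := D.pow_nf k (p ^ (D.β - ε)) y
      rw [hx, hS, Subgroup.mul_mem_cancel_right _ (Subgroup.pow_mem _ (Subgroup.mem_zpowers _) _), hinter,
        ((hpp.coprime_iff_not_dvd.2 hk').pow_left ε).dvd_mul_left, hSd] at hy
      exact hy
    have hob : orderOf D.b = p ^ (D.β + (D.α - ε)) := by
      have hkey : ∀ y, D.b ^ (p ^ D.β * y) = 1 ↔ p ^ (D.α - ε) ∣ y := by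
        intro y
        rw [pow_mul, ← he, ← pow_mul, ← orderOf_dvd_iff_pow_eq_one, D.ordA, hc, mul_assoc]
        conv_lhs => rw [← Nat.add_sub_cancel' hε.le, pow_add,
          Nat.mul_dvd_mul_iff_left (Nat.pos_of_ne_zero (pow_ne_zero _ hpp.ne_zero))]
        exact ((hpp.coprime_iff_not_dvd.2 hcp).pow_left _).dvd_mul_left
      refine Nat.dvd_antisymm ?_ ?_
      · rw [orderOf_dvd_iff_pow_eq_one, pow_add p, hkey]
      · obtain ⟨m, hm⟩ : p ^ D.β ∣ orderOf D.b :=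
          (D.bmem _).1 (by rw [pow_orderOf_eq_one]; exact Subgroup.one_mem _)
        rw [hm, pow_add]
        exact mul_dvd_mul_left _ ((hkey m).1 (by rw [← hm, pow_orderOf_eq_one]))
    refine ⟨Subgroup.zpowers x, Subgroup.zpowers D.b, inferInstance, inferInstance, h1, ?_⟩
    rw [h2, Nat.card_zpowers, hob, D.card_eq, ← pow_add]
    congr 1
    omega

end Cfsg.Agent.S3884
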