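import Cfsg.Statements.S3885
import Cfsg.Agent.Solv.Metacyclic
import Mathlib
-- import your own Cfsg.Agent.* helpers here

set_option autoImplicit false
open Cfsg

namespace Cfsg.Agent.S3885

open CfsgLib.Solv.Metacyclic

end Cfsg.Agent.S3885

namespace Cfsg.Agent.S3885

/-- Let p be an odd prime and G a finite metacyclic p-group (G has a cyclic normal subgroup with cyclic quotient). Then every abelian subgroup K of G containing the center of G is the center of its own centralizer: K = Z(C_G(K)). -/
theorem result {G : Type*} [Group G] [Finite G] {p : ℕ} [Fact p.Prime] (hp : p ≠ 2) (hG : IsPGroup p G) (hmc : Cfsg.IsMetacyclic G) (K : Subgroup G) (hK : IsMulCommutative ↥K) (hZ : Subgroup.center G ≤ K) :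
    K = Subgroup.centralizer (K : Set G) ⊓ Subgroup.centralizer (Subgroup.centralizer (K : Set G) : Set G) := by
  obtain ⟨N, hN, hcN, hcQ⟩ := hmc
  haveI := hN; haveI := hcN; haveI := hcQ
  obtain ⟨D⟩ := CfsgLib.Solv.Metacyclic.exists_data hp hG (N := N)
  have hKC : K ≤ Subgroup.centralizer (K : Set G) := (Subgroup.le_centralizer_iff_isMulCommutative).2 hK
  set C := Subgroup.centralizer (K : Set G) with hC
  have hKCC : K ≤ Subgroup.centralizer (C : Set G) := Subgroup.le_centralizer_iff.1 le_rfl
  have h1 := D.card_mul_centralizer hZ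
  have h2 := D.card_mul_centralizer (L := C) (Subgroup.center_le_centralizer _)
  rw [← hC] at h1
  have hcard : Nat.card (Subgroup.centralizer (C : Set G)) ≤ Nat.card K := by
    refine le_of_eq (Nat.eq_of_mul_eq_mul_left (Nat.card_pos (α := C)) ?_)
    rw [h2, ← h1, mul_comm]
  have he : Subgroup.centralizer (C : Set G) = K := (Subgroup.eq_of_le_of_card_ge hKCC hcard).symm
  rw [he, inf_eq_right.2 hKC]

end Cfsg.Agent.S3885
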