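import Cfsg.Statements.S3886
import Cfsg.Agent.Solv.Metacyclic
import Mathlib
-- import your own Cfsg.Agent.* helpers here

set_option autoImplicit false
open Cfsg

namespace Cfsg.Agent.S3886

open CfsgLib.Solv.Metacyclic

theorem card_centre {G : Type*} [Group G] (R : Subgroup G) :
    Nat.card ↥(Subgroup.center ↥R) = Nat.card ↥(R ⊓ Subgroup.centralizer (R : Set G)) :=
  Nat.card_congr
    { toFun := fun x => ⟨x.1.1, x.1.2, Subgroup.mem_centralizer_iff.2 fun g hg =>
        congrArg Subtype.val (Subgroup.mem_center_iff.1 x.2 ⟨g, hg⟩)⟩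
      invFun := fun x => ⟨⟨x.1, x.2.1⟩, Subgroup.mem_center_iff.2 fun g =>
        Subtype.ext (Subgroup.mem_centralizer_iff.1 x.2.2 g.1 g.2)⟩
      left_inv := fun x => rfl
      right_inv := fun x => rfl }

theorem bound {G : Type*} [Group G] [Finite G] {p : ℕ} [Fact p.Prime] (D : Data G p) (R : Subgroup G) :
    Nat.card R * Nat.card (Subgroup.centralizer (R : Set G)) ≤ Nat.card G * Nat.card (Subgroup.center G) ∧
    (Nat.card R * Nat.card (Subgroup.centralizer (R : Set G)) = Nat.card G * Nat.card (Subgroup.center G) ↔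
      Subgroup.center G ≤ R) := by
  have h := D.card_mul_centralizer (L := R ⊔ Subgroup.center G) le_sup_right
  rw [CfsgLib.Solv.Metacyclic.Data.centralizer_sup_center] at h
  have hle : Nat.card R ≤ Nat.card (R ⊔ Subgroup.center G : Subgroup G) := Subgroup.card_le_of_le le_sup_left
  refine ⟨h ▸ Nat.mul_le_mul_right _ hle, fun he => ?_, fun hZ => D.card_mul_centralizer hZ⟩
  have he' : R = R ⊔ Subgroup.center G := Subgroup.eq_of_le_of_card_ge le_sup_left
    (Nat.eq_of_mul_eq_mul_right Nat.card_pos (h.trans he.symm)).le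
  exact he' ▸ le_sup_right

end Cfsg.Agent.S3886

namespace Cfsg.Agent.S3886

/-- Let p be an odd prime and G a finite metacyclic p-group (G has a cyclic normal subgroup with cyclic quotient). Then the largest value of |R| · |Z(R)| over subgroups R of G is |G : G'|², and the subgroups attaining it (the centrally large subgroups) are exactly the non-abelian subgroups together with the maximal abelian subgroups of G. -/
theorem result {G : Type*} [Group G] [Finite G] {p : ℕ} [Fact p.Prime] (hp : p ≠ 2) (hG : IsPGroup p G) (hmc : Cfsg.IsMetacyclic G) : Cfsg.maxCentralProduct G = (commutator G).index ^ 2 ∧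
    ∀ R : Subgroup G, Cfsg.IsCentrallyLarge R ↔ (¬ IsMulCommutative ↥R ∨ Maximal (fun K : Subgroup G => IsMulCommutative ↥K) R) := by
  obtain ⟨N, hN, hcN, hcQ⟩ := hmc
  haveI := hN; haveI := hcN; haveI := hcQ
  obtain ⟨D⟩ := CfsgLib.Solv.Metacyclic.exists_data hp hG (N := N)
  have hpp : p.Prime := Fact.out
  set T := Nat.card G * Nat.card (Subgroup.center G) with hT
  have hT' : T = (commutator G).index ^ 2 := by
    rw [hT, D.index_commutator, D.card_eq, D.card_params D.params_center, ← pow_add, ← pow_add, ← pow_mul]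
    congr 1
    have := D.n_le_alpha; have := D.beta_ge
    omega
  have hle : ∀ R : Subgroup G, Nat.card R * Nat.card (Subgroup.center R) ≤ T ∧
      (Nat.card R * Nat.card (Subgroup.center R) = T ↔ Subgroup.centralizer (R : Set G) ≤ R) := by
    intro R
    obtain ⟨hb, hiff⟩ := bound D R
    rw [card_centre]
    have h1 : Nat.card ↥(R ⊓ Subgroup.centralizer (R : Set G)) ≤ Nat.card (Subgroup.centralizer (R : Set G)) :=
      Subgroup.card_le_of_le inf_le_right
    refine ⟨(Nat.mul_le_mul_left _ h1).trans hb, fun he => ?_, fun hC => ?_⟩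
    · have h2 : Nat.card ↥(R ⊓ Subgroup.centralizer (R : Set G)) = Nat.card (Subgroup.centralizer (R : Set G)) :=
        le_antisymm h1 (Nat.le_of_mul_le_mul_left (le_of_le_of_eq hb he.symm) Nat.card_pos)
      rw [← inf_eq_right]
      exact Subgroup.eq_of_le_of_card_ge inf_le_right h2.ge
    · rw [inf_eq_right.2 hC]
      exact hiff.2 ((Subgroup.center_le_centralizer _).trans hC)
  have hmax : Cfsg.maxCentralProduct G = T := by
    apply le_antisymm
    · refine csSup_le ⟨_, ⊤, rfl⟩ ?_
      rintro k ⟨R, rfl⟩
      exact (hle R).1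
    · refine le_csSup ⟨T, ?_⟩ ⟨⊤, (hle ⊤).2.2 le_top⟩
      rintro k ⟨R, rfl⟩
      exact (hle R).1
  refine ⟨hmax.trans hT', fun R => ?_⟩
  unfold Cfsg.IsCentrallyLarge
  rw [hmax, (hle R).2]
  obtain ⟨u, v, h⟩ := D.exists_params R
  constructor
  · intro hC
    by_cases hab : IsMulCommutative R
    · exact Or.inr ⟨hab, fun K hK hRK => ((Subgroup.le_centralizer_iff_isMulCommutative).2 hK).trans
        ((Subgroup.centralizer_le (SetLike.coe_subset_coe.2 hRK)).trans hC)⟩
    · exact Or.inl hab
  · rintro (hab | hmx)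
    · rw [D.commutative_iff h, not_le] at hab
      exact D.centralizer_le h hab.le
    · intro x hx
      have hcm : IsMulCommutative ↥(R ⊔ Subgroup.zpowers x) := by
        rw [← Subgroup.le_centralizer_iff_isMulCommutative]
        have hL : R ≤ Subgroup.centralizer (R : Set G) := (Subgroup.le_centralizer_iff_isMulCommutative).2 hmx.1
        refine sup_le ?_ ?_ <;> rw [Subgroup.le_centralizer_iff] <;> refine sup_le ?_ ?_
        · exact hL
        · exact Subgroup.zpowers_le.2 hx
        · exact Subgroup.le_centralizer_iff.1 (Subgroup.zpowers_le.2 hx)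
        · exact Subgroup.zpowers_le.2 (Subgroup.mem_centralizer_iff.2 fun g hg => by
            obtain ⟨k, rfl⟩ := Subgroup.mem_zpowers_iff.1 hg
            exact ((Commute.refl x).zpow_left k).eq)
      exact hmx.2 hcm le_sup_left (Subgroup.mem_sup_right (Subgroup.mem_zpowers x))

end Cfsg.Agent.S3886
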