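import Cfsg.Statements.S3887
import Cfsg.Agent.Solv.Metacyclic
import Mathlib
-- import your own Cfsg.Agent.* helpers here

set_option autoImplicit false
open Cfsg

namespace Cfsg.Agent.S3887

open CfsgLib.Solv.Metacyclic

theorem card_centre {G : Type*} [Group G] (R : Subgroup G) :
    Nat.card ↥(Subgroup.center ↥R) = Nat.card ↥(R ⊓ Subgroup.centralizer (R : Set G)) :=
  Nat.card_congr
    { toFun := fun x => ⟨x.1.1, x.1.2, Subgroup.mem_centralizer_iff.2 fun g hg =>
        congrArg Subtype.val (Subgroup.mem_center_iff.1 x.2 ⟨g, hg⟩)⟩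
      invFun := fun x => ⟨⟨x.1, x.2.1⟩, Subgroup.mem_center_iff.2 fun g =>
        Subtype.ext (Subgroup.mem_centralizer_iff.1 x.2.2 g.1 g.2)⟩
      left_inv := fun x => rfl
      right_inv := fun x => rfl }

theorem bound {G : Type*} [Group G] [Finite G] {p : ℕ} [Fact p.Prime] (D : Data G p) (R : Subgroup G) :
    Nat.card R * Nat.card (Subgroup.centralizer (R : Set G)) ≤ Nat.card G * Nat.card (Subgroup.center G) ∧
    (Nat.card R * Nat.card (Subgroup.centralizer (R : Set G)) = Nat.card G * Nat.card (Subgroup.center G) ↔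
      Subgroup.center G ≤ R) := by
  have h := D.card_mul_centralizer (L := R ⊔ Subgroup.center G) le_sup_right
  rw [CfsgLib.Solv.Metacyclic.Data.centralizer_sup_center] at h
  have hle : Nat.card R ≤ Nat.card (R ⊔ Subgroup.center G : Subgroup G) := Subgroup.card_le_of_le le_sup_left
  refine ⟨h ▸ Nat.mul_le_mul_right _ hle, fun he => ?_, fun hZ => D.card_mul_centralizer hZ⟩
  have he' : R = R ⊔ Subgroup.center G := Subgroup.eq_of_le_of_card_ge le_sup_left
    (Nat.eq_of_mul_eq_mul_right Nat.card_pos (h.trans he.symm)).le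
  exact he' ▸ le_sup_right

end Cfsg.Agent.S3887

namespace Cfsg.Agent.S3887

/-- Let p be an odd prime and G a finite metacyclic p-group (G has a cyclic normal subgroup with cyclic quotient). Then a subgroup R of G maximizes |R| · |C_G(R)| over all subgroups of G if and only if R contains the center of G. -/
theorem result {G : Type*} [Group G] [Finite G] {p : ℕ} [Fact p.Prime] (hp : p ≠ 2) (hG : IsPGroup p G) (hmc : Cfsg.IsMetacyclic G) (R : Subgroup G) : Cfsg.IsCentralizerLarge R ↔ Subgroup.center G ≤ R := by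
  obtain ⟨N, hN, hcN, hcQ⟩ := hmc
  haveI := hN; haveI := hcN; haveI := hcQ
  obtain ⟨D⟩ := CfsgLib.Solv.Metacyclic.exists_data hp hG (N := N)
  have hmax : Cfsg.maxCentralizerProduct G = Nat.card G * Nat.card (Subgroup.center G) := by
    apply le_antisymm
    · refine csSup_le ⟨_, ⊤, rfl⟩ ?_
      rintro k ⟨S, rfl⟩
      exact (bound D S).1
    · refine le_csSup ⟨Nat.card G * Nat.card (Subgroup.center G), ?_⟩ ⟨⊤, (bound D ⊤).2.2 le_top⟩
      rintro k ⟨S, rfl⟩
      exact (bound D S).1
  unfold Cfsg.IsCentralizerLarge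
  rw [hmax]
  exact (bound D R).2

end Cfsg.Agent.S3887
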