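import Cfsg.Statements.S3888
import Cfsg.Agent.S1895
import Cfsg.Agent.OddLocal.RankTwoAut
import Cfsg.Agent.Solv.RankTwoNormal
import Cfsg.Agent.Solv.ClassTwo
import Cfsg.Agent.Solv.SmallTransfer
import Cfsg.Agent.Perm.BlackburnRankTwo
import Mathlib.Tactic
-- import your own Cfsg.Agent.* helpers here

set_option autoImplicit false
open Cfsg

namespace Cfsg.Agent.S3888

open scoped commutatorElement

variable {p : ℕ} [hp : Fact p.Prime]

theorem conj_iter {G : Type*} [Group G] {x g h k l : G} (hx : x ^ p = 1) (h1 : x * g * x⁻¹ = h * g)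
    (h2 : x * h * x⁻¹ = k * h) (h3 : x * k * x⁻¹ = l * k) (h4 : x * l * x⁻¹ = l) (c1 : Commute k h) (c2 : Commute l k)
    (hp2 : p ≠ 2) (hk : k ^ p = 1) (hl : l ^ p = 1) (hl' : 3 < p ∨ l = 1) : h ^ p = 1 := by
  have key : ∀ j : ℕ, x ^ j * g * (x ^ j)⁻¹ = l ^ j.choose 3 * (k ^ j.choose 2 * (h ^ j * g)) := by
    intro j
    induction j with
    | zero => simp
    | succ j ih =>
      have e : x ^ (j + 1) * g * (x ^ (j + 1))⁻¹ = MulAut.conj x (x ^ j * g * (x ^ j)⁻¹) := by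
        rw [MulAut.conj_apply, pow_succ']; group
      rw [e, ih, map_mul, map_mul, map_mul, map_pow, map_pow, map_pow, MulAut.conj_apply, MulAut.conj_apply,
        MulAut.conj_apply, MulAut.conj_apply, h1, h2, h3, h4, c1.mul_pow, c2.mul_pow,
        show (j + 1).choose 3 = j.choose 3 + j.choose 2 by rw [Nat.choose_succ_succ' j 2, add_comm],
        show (j + 1).choose 2 = j.choose 2 + j by rw [Nat.choose_succ_succ' j 1, Nat.choose_one_right, add_comm],
        pow_add, pow_add, pow_succ h j]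
      simp only [mul_assoc]
  have := key p
  obtain ⟨v, hv⟩ := hp.out.dvd_choose_self (k := 2) (by norm_num) (by have := hp.out.two_le; omega)
  have hlc : l ^ p.choose 3 = 1 := by
    rcases hl' with h3 | h3
    · obtain ⟨u, hu⟩ := hp.out.dvd_choose_self (k := 3) (by norm_num) h3
      rw [hu, pow_mul, hl, one_pow]
    · rw [h3, one_pow]
  rw [hx, inv_one, one_mul, mul_one, hlc, hv, pow_mul, hk, one_pow, one_mul, one_mul] at this
  exact mul_right_cancel (this.symm.trans (one_mul g).symm)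

theorem comm_zpow {G : Type*} [Group G] {x u : G} (hc : Commute x ⁅x, u⁆) (i : ℤ) : ⁅x ^ i, u⁆ = ⁅x, u⁆ ^ i := by
  have h : u * x * u⁻¹ = ⁅x, u⁆⁻¹ * x := by rw [commutatorElement_def]; group
  have h2 : u * x ^ i * u⁻¹ = (⁅x, u⁆ ^ i)⁻¹ * x ^ i := by
    rw [← conj_zpow, h, hc.symm.inv_left.mul_zpow, inv_zpow]
  rw [show ⁅x ^ i, u⁆ = x ^ i * (u * x ^ i * u⁻¹)⁻¹ by rw [commutatorElement_def]; group, h2, mul_inv_rev, inv_inv,
    mul_inv_cancel_left]

theorem cyclic_of_roots (hp2 : p ≠ 2) {H : Type*} [Group H] [Finite H] (hH : IsPGroup p H)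
    (h : Nat.card {x : H // x ^ p = 1} ≤ p) : IsCyclic H := by
  by_contra hc
  obtain ⟨A, -, hA, hAc⟩ := CfsgLib.Solv.exists_normal_rank_two _ H p hp2 rfl hH hc
  have : Nat.card A ≤ Nat.card {x : H // x ^ p = 1} :=
    Nat.card_le_card_of_injective (fun a : A => (⟨a, hA.2 a a.2⟩ : {x : H // x ^ p = 1}))
      (fun a b e => Subtype.ext (congrArg (fun z : {x : H // x ^ p = 1} => (z : H)) e))
  have h2 := hAc ▸ this.trans h
  have := (Nat.pow_le_pow_iff_right hp.out.one_lt).1 (show p ^ 2 ≤ p ^ 1 by rwa [pow_one])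
  omega

theorem root_of_pow_eq (hp2 : p ≠ 2) : ∀ (n : ℕ) (D : Type*) [Group D] [Finite D], Nat.card D = n → IsPGroup p D →
    (∀ x : D, x ^ p = 1 → x ∈ Subgroup.center D) → ∀ x y : D, x ^ p = y ^ p → (x⁻¹ * y) ^ p = 1 := by
  intro n
  induction n using Nat.strong_induction_on with
  | _ n ih =>
    intro D _ _ hn hD hc x y hxy
    haveI : Group.IsNilpotent D := hD.isNilpotent
    by_cases hM : Subgroup.normalClosure ({x} : Set D) = ⊤
    · have hz : Subgroup.zpowers x ⊔ frattini D = ⊤ := by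
        by_contra hne
        obtain ⟨M, hM1, hM2⟩ := (eq_top_or_exists_le_coatom (Subgroup.zpowers x ⊔ frattini D)).resolve_left hne
        haveI : M.Normal := Subgroup.NormalizerCondition.normal_of_coatom M
          Group.normalizerCondition_of_isNilpotent hM1
        refine hM1.1 (top_le_iff.1 (hM ▸ Subgroup.normalClosure_le_normal ?_))
        exact Set.singleton_subset_iff.2 (hM2 (Subgroup.mem_sup_left (Subgroup.mem_zpowers x)))
      obtain ⟨i, rfl⟩ := Subgroup.mem_zpowers_iff.1 (frattini_nongenerating hz ▸ Subgroup.mem_top y : y ∈ Subgroup.zpowers x)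
      rw [((Commute.refl x).inv_left.zpow_right i).mul_pow, inv_pow, ← hxy, inv_mul_cancel]
    · have hlt : Nat.card (Subgroup.normalClosure ({x} : Set D)) < n := hn ▸
        lt_of_le_of_ne (Subgroup.card_le_card_group _) (fun e => hM (Subgroup.eq_top_of_card_eq _ e))
      have hxM : x ∈ Subgroup.normalClosure ({x} : Set D) := Subgroup.subset_normalClosure rfl
      have hwM : y⁻¹ * x * y⁻¹⁻¹ ∈ Subgroup.normalClosure ({x} : Set D) :=
        Subgroup.Normal.conj_mem inferInstance _ hxM y⁻¹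
      have hw : x ^ p = (y⁻¹ * x * y⁻¹⁻¹) ^ p := by
        rw [conj_pow, inv_inv, hxy, mul_assoc, ← (Commute.pow_self y p).symm.eq, inv_mul_cancel_left]
      have hM' := ih _ hlt (Subgroup.normalClosure ({x} : Set D)) rfl (hD.to_subgroup _)
        (fun z hz => Subgroup.mem_center_iff.2 fun u => Subtype.ext
          (Subgroup.mem_center_iff.1 (hc z (by rw [← Subgroup.coe_pow, hz]; rfl)) u))
        ⟨x, hxM⟩ ⟨_, hwM⟩ (Subtype.ext (by push_cast; exact hw))
      have hk : (x⁻¹ * (y⁻¹ * x * y⁻¹⁻¹)) ^ p = 1 := by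
        have := congrArg Subtype.val hM'
        simpa using this
      have hcen := Subgroup.mem_center_iff.1 (hc _ hk)
      have e : ⁅y, x⁻¹⁆ = x⁻¹ * (y⁻¹ * x * y⁻¹⁻¹) := by
        rw [show ⁅y, x⁻¹⁆ = y * (x⁻¹ * (y⁻¹ * x * y⁻¹⁻¹)) * y⁻¹ by rw [commutatorElement_def]; group, hcen y,
          mul_inv_cancel_right]
      rw [CfsgLib.Solv.mul_pow_prime hp2 (e ▸ (hcen x⁻¹).symm) (e ▸ (hcen y).symm) (e ▸ hk), inv_pow, hxy, inv_mul_cancel]

theorem card_le_powers (hp2 : p ≠ 2) {D : Type*} [Group D] [Finite D] (hD : IsPGroup p D)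
    (hc : ∀ x : D, x ^ p = 1 → x ∈ Subgroup.center D) :
    Nat.card D ≤ Nat.card {x : D // x ^ p = 1} * Nat.card (Cfsg.powerClosure p 1 (⊤ : Subgroup D)) := by
  classical
  let e : D → Cfsg.powerClosure p 1 (⊤ : Subgroup D) := fun x => ⟨x ^ p ^ 1, Subgroup.subset_closure ⟨x, trivial, rfl⟩⟩
  let r := Function.invFun e
  have hr : ∀ x, e (r (e x)) = e x := fun x => Function.invFun_eq ⟨x, rfl⟩
  rw [← Nat.card_prod]
  refine Nat.card_le_card_of_injective (fun x => (⟨(r (e x))⁻¹ * x, root_of_pow_eq hp2 _ D rfl hD hc _ _ ?_⟩, e x)) ?_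
  · have := congrArg Subtype.val (hr x)
    simpa only [e, pow_one] using this
  · intro x y h
    simp only [Prod.mk.injEq, Subtype.mk.injEq] at h
    obtain ⟨h1, h2⟩ := h
    rw [congrArg r h2] at h1
    exact mul_left_cancel h1

theorem metacyclic_of_roots (hp2 : p ≠ 2) {D : Type*} [Group D] [Finite D] (hD : IsPGroup p D)
    (hc : ∀ x : D, x ^ p = 1 → x ∈ Subgroup.center D) (h2 : Nat.card {x : D // x ^ p = 1} ≤ p ^ 2) :
    Cfsg.IsMetacyclic D :=
  CfsgLib.Perm.BlackburnRankTwo.metacyclic_of_powers hp2 _ D rfl hD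
    ((card_le_powers hp2 hD hc).trans (Nat.mul_le_mul_right _ h2))

theorem shape (hp2 : p ≠ 2) {R : Type*} [Group R] [Finite R] (n : ℕ) (hn : Nat.card R = p ^ n) (hR : IsPGroup p R)
    (hr : Cfsg.PRankLE p 2 R) :
    Cfsg.IsMetacyclic R ∨ (3 ≤ n ∧ ∃ x y z : R, Subgroup.closure ({x, y, z} : Set R) = ⊤ ∧ x ^ p = 1 ∧ y ^ p = 1 ∧
      z ^ p ^ (n - 2) = 1 ∧ x * z = z * x ∧ y * z = z * y ∧ x⁻¹ * y * x = y * z ^ p ^ (n - 3)) ∨
    (4 ≤ n ∧ ∃ (s : ℕ) (x y z : R), (s = 1 ∨ ¬ IsSquare (s : ZMod p)) ∧ Subgroup.closure ({x, y, z} : Set R) = ⊤ ∧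
      x ^ p = 1 ∧ y ^ p = 1 ∧ z ^ p ^ (n - 2) = 1 ∧ y * z = z * y ∧ x⁻¹ * y * x = y * z ^ (s * p ^ (n - 3)) ∧
      x⁻¹ * z * x = y * z) ∨ (p = 3 ∧ 2 ≤ n ∧ (⊤ : Subgroup R).lowerCentralSeries (n - 2) ≠ ⊥) := by
  classical
  have hinv : ∀ (e : MulAut R) (x : R), (∀ g, ⁅x, g⁆ ∈ Subgroup.center R) → ∀ g, ⁅e x, g⁆ ∈ Subgroup.center R := by
    intro e x hx g
    obtain ⟨g, rfl⟩ := e.surjective g
    rw [← map_commutatorElement]
    refine Subgroup.mem_center_iff.2 fun u => ?_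
    obtain ⟨u, rfl⟩ := e.surjective u
    rw [← map_mul, ← map_mul, Subgroup.mem_center_iff.1 (hx g) u]
  let Z2 : Subgroup R :=
    { carrier := {x | ∀ g, ⁅x, g⁆ ∈ Subgroup.center R}
      one_mem' := fun g => by rw [commutatorElement_one_left]; exact one_mem _
      mul_mem' := fun {x y} hx hy g => by
        have e : ⁅x * y, g⁆ = x * ⁅y, g⁆ * x⁻¹ * ⁅x, g⁆ := by simp [commutatorElement_def]; group
        rw [e, Subgroup.mem_center_iff.1 (hy g) x, mul_inv_cancel_right]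
        exact mul_mem (hy g) (hx g)
      inv_mem' := fun {x} hx g => by
        have e : ⁅x⁻¹, g⁆ = x⁻¹ * (⁅x, g⁆⁻¹ * x) := by simp [commutatorElement_def]; group
        rw [e, ← Subgroup.mem_center_iff.1 (inv_mem (hx g)) x, inv_mul_cancel_left]
        exact inv_mem (hx g) }
  let E : Subgroup R :=
    { carrier := {x | x ∈ Z2 ∧ x ^ p = 1}
      one_mem' := ⟨one_mem _, one_pow p⟩
      mul_mem' := fun {x y} hx hy => ⟨mul_mem hx.1 hy.1, by
        have hz := Subgroup.mem_center_iff.1 (hy.1 x)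
        rw [CfsgLib.Solv.mul_pow_prime hp2 (hz x).symm (hz y).symm
          (by rw [← CfsgLib.Solv.pow_commutator_left (hz y).symm, hy.2, commutatorElement_one_left]), hx.2, hy.2, one_mul]⟩
      inv_mem' := fun {x} hx => ⟨inv_mem hx.1, by rw [inv_pow, hx.2, inv_one]⟩ }
  haveI hEc : E.Characteristic := Subgroup.characteristic_iff_map_le.2 fun e => by
    rintro _ ⟨x, hx, rfl⟩
    exact ⟨hinv e x hx.1, show e x ^ p = 1 by rw [← map_pow, hx.2, map_one]⟩
  let D : Subgroup R := Subgroup.centralizer (E : Set R)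
  haveI hDc : D.Characteristic := inferInstance
  have hin : ∀ x ∈ D, x ^ p = 1 → x ∈ E := by
    intro x hx hxp
    by_cases hcyc : IsCyclic R
    · refine ⟨fun g => ?_, hxp⟩
      rw [commutatorElement_eq_one_iff_mul_comm.2 ((IsCyclic.commGroup (α := R)).mul_comm x g)]
      exact one_mem _
    obtain ⟨A, hAn, hAe, hAc⟩ := CfsgLib.Solv.exists_normal_rank_two _ R p hp2 rfl hR hcyc
    haveI := hAn
    have hAE : A ≤ E := fun a ha => ⟨fun g => CfsgLib.Solv.commutator_mem_center_of_card_sq hR hAc ha g, hAe.2 a ha⟩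
    have hT : IsMulCommutative (Subgroup.closure ((A : Set R) ∪ {x})) := by
      refine Subgroup.isMulCommutative_closure ?_
      rintro u (hu | rfl) v (hv | rfl)
      · exact congrArg Subtype.val (hAe.1.is_comm.comm ⟨u, hu⟩ ⟨v, hv⟩)
      · exact Subgroup.mem_centralizer_iff.1 hx u (hAE hu)
      · exact (Subgroup.mem_centralizer_iff.1 hx v (hAE hv)).symm
      · rfl
    have hTp : ∀ t ∈ Subgroup.closure ((A : Set R) ∪ {x}), t ^ p = 1 := by
      intro t ht
      induction ht using Subgroup.closure_induction with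
      | mem u hu => rcases hu with hu | rfl; exacts [hAe.2 u hu, hxp]
      | one => exact one_pow p
      | mul u v hu hv h1 h2 =>
        rw [(show Commute u v from congrArg Subtype.val (hT.is_comm.comm ⟨u, hu⟩ ⟨v, hv⟩)).mul_pow, h1, h2, one_mul]
      | inv u _ h1 => rw [inv_pow, h1, inv_one]
    have e := Subgroup.eq_of_le_of_card_ge (fun a ha => Subgroup.subset_closure (Or.inl ha)) (hAc ▸ hr _ hT hTp)
    exact hAE (e ▸ Subgroup.subset_closure (Or.inr rfl))
  let Z0 : Subgroup R := Subgroup.center R ⊓ E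
  have hmem : ∀ a ∈ E, ∀ g : R, ⁅a, g⁆ ∈ Z0 := fun a ha g =>
    ⟨ha.1 g, by
      rw [commutatorElement_def, show a * g * a⁻¹ * g⁻¹ = a * (g * a⁻¹ * g⁻¹) by group]
      exact mul_mem ha (Subgroup.Normal.conj_mem inferInstance _ (inv_mem ha) g)⟩
  have hZ0D : Z0 ≤ D := fun z hz => Subgroup.mem_centralizer_iff.2 fun u _ => Subgroup.mem_center_iff.1 hz.1 u
  let κ : E → (R →* Z0) := fun a => MonoidHom.mk' (fun g => ⟨⁅(a : R), g⁆, hmem a a.2 g⟩) (fun g h => Subtype.ext (by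
    show ⁅(a : R), g * h⁆ = ⁅(a : R), g⁆ * ⁅(a : R), h⁆
    rw [show ⁅(a : R), g * h⁆ = ⁅(a : R), g⁆ * (g * ⁅(a : R), h⁆ * g⁻¹) by simp [commutatorElement_def]; group,
      Subgroup.mem_center_iff.1 (hmem a a.2 h).1 g, mul_inv_cancel_right]))
  have hκ : ∀ (a : E) (g : R), κ a g = 1 ↔ (a : R) * g = g * a := fun a g => by
    rw [← commutatorElement_eq_one_iff_mul_comm, Subtype.ext_iff]; rfl
  have hneZ : E ≠ ⊥ → Z0 ≠ ⊥ := fun h => by
    have := CfsgLib.Perm.inf_center_ne_bot hR E h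
    rwa [inf_comm] at this
  have hZ0p : ∀ m, Nat.card Z0 ≤ p ^ m → Z0 ≠ ⊥ → ∃ i, 1 ≤ i ∧ i ≤ m ∧ Nat.card Z0 = p ^ i := fun m hm hne => by
    obtain ⟨i, hi⟩ := IsPGroup.iff_card.1 (hR.to_subgroup Z0)
    refine ⟨i, Nat.one_le_iff_ne_zero.2 fun e => hne (Subgroup.card_eq_one.1 (by rw [hi, e, pow_zero])), ?_, hi⟩
    exact (Nat.pow_le_pow_iff_right hp.out.one_lt).1 (hi ▸ hm)
  by_cases hab : ∀ x y : E, x * y = y * x
  swap
  · right; left
    obtain ⟨hz, hq⟩ := CfsgLib.OddLocal.small_center (p := p) (E := E) (fun x => Subtype.ext x.2.2)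
      (fun x y => Subgroup.mem_center_iff.2 fun w => Subtype.ext (Subgroup.mem_center_iff.1 (x.2.1 y) w))
      (fun A hA hAp => by
        have hc : IsMulCommutative (A.map E.subtype) := ⟨⟨by
          rintro ⟨_, a, ha, rfl⟩ ⟨_, b, hb, rfl⟩
          exact Subtype.ext (congrArg (fun z : A => ((z : E) : R)) (hA.is_comm.comm ⟨a, ha⟩ ⟨b, hb⟩))⟩⟩
        have := hr (A.map E.subtype) hc (by
          rintro _ ⟨a, ha, rfl⟩
          rw [← map_pow, hAp a ha, map_one])
        rwa [Subgroup.card_map_of_injective E.subtype_injective] at this) hab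
    have hEp : IsPGroup p E := hR.to_subgroup E
    have hZ0le : Nat.card Z0 ≤ p ^ 1 := by
      refine le_trans ?_ (le_of_eq (show Nat.card ((Subgroup.center E).map E.subtype) = p ^ 1 by
        rw [Subgroup.card_map_of_injective E.subtype_injective, hz, pow_one]))
      exact Subgroup.card_le_of_le fun x hx => ⟨⟨x, hx.2⟩, Subgroup.mem_center_iff.2 fun w =>
        Subtype.ext (Subgroup.mem_center_iff.1 hx.1 w), rfl⟩
    have hEne : E ≠ ⊥ := fun e => hab fun x y => Subtype.ext (by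
      rw [Subgroup.coe_mul, Subgroup.coe_mul, show (x : R) = 1 from Subgroup.mem_bot.1 (e ▸ x.2), one_mul, mul_one])
    obtain ⟨i, hi1, hi2, hi⟩ := hZ0p 1 hZ0le (hneZ hEne)
    obtain rfl : i = 1 := by omega
    rw [pow_one] at hi
    have hZ0 : Z0 = (Subgroup.center E).map E.subtype := by
      refine Subgroup.eq_of_le_of_card_ge (fun x hx => ⟨⟨x, hx.2⟩, Subgroup.mem_center_iff.2 fun w =>
        Subtype.ext (Subgroup.mem_center_iff.1 hx.1 w), rfl⟩) ?_
      rw [Subgroup.card_map_of_injective E.subtype_injective, hz, hi]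
    have hED : E ⊓ D = Z0 := by
      refine le_antisymm (fun x hx => ?_) (le_inf inf_le_right hZ0D)
      rw [hZ0]
      exact ⟨⟨x, hx.1⟩, Subgroup.mem_center_iff.2 fun w => Subtype.ext (Subgroup.mem_centralizer_iff.1 hx.2 w w.2), rfl⟩
    push Not at hab
    obtain ⟨a, b, hab⟩ := hab
    have hEle : Nat.card E ≤ p ^ 3 := by
      rw [Subgroup.card_eq_card_quotient_mul_card_subgroup (Subgroup.center E), hz]
      exact (Nat.mul_le_mul_right p hq).trans (le_of_eq (by ring))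
    have hS : ∀ a b : E, a * b ≠ b * a → ∀ S : Subgroup E, Subgroup.center E ≤ S → a ∈ S → b ∈ S → S = ⊤ ∧ Nat.card E = p ^ 3 := by
      intro a b hab S hcS haS hbS
      have h1 : Subgroup.center E < Subgroup.center E ⊔ Subgroup.zpowers a := lt_of_le_of_ne le_sup_left fun e =>
        hab (Subgroup.mem_center_iff.1 (e ▸ Subgroup.mem_sup_right (Subgroup.mem_zpowers a) : a ∈ Subgroup.center E) b).symm
      have h2 : Subgroup.center E ⊔ Subgroup.zpowers a < S := by
        refine lt_of_le_of_ne (sup_le hcS (Subgroup.zpowers_le.2 haS)) fun e => hab ?_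
        obtain ⟨z, hz', w, hw, rfl⟩ := Subgroup.mem_sup_of_normal_left.1 (e.symm ▸ hbS : b ∈ Subgroup.center E ⊔ Subgroup.zpowers a)
        obtain ⟨i, rfl⟩ := Subgroup.mem_zpowers_iff.1 hw
        exact ((show Commute a z from Subgroup.mem_center_iff.1 hz' a).mul_right (Commute.self_zpow a i)).eq
      obtain ⟨i, hi⟩ := IsPGroup.iff_card.1 (hEp.to_subgroup (Subgroup.center E ⊔ Subgroup.zpowers a))
      obtain ⟨j, hj⟩ := IsPGroup.iff_card.1 (hEp.to_subgroup S)
      have c1 : Nat.card (Subgroup.center E) < Nat.card ↥(Subgroup.center E ⊔ Subgroup.zpowers a) :=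
        lt_of_le_of_ne (Subgroup.card_le_of_le h1.le) fun e => h1.ne (Subgroup.eq_of_le_of_card_ge h1.le e.ge)
      have c2 : Nat.card ↥(Subgroup.center E ⊔ Subgroup.zpowers a) < Nat.card S :=
        lt_of_le_of_ne (Subgroup.card_le_of_le h2.le) fun e => h2.ne (Subgroup.eq_of_le_of_card_ge h2.le e.ge)
      rw [hi, hj] at c2
      rw [hz, hi] at c1
      have := (Nat.pow_lt_pow_iff_right hp.out.one_lt).1 c2
      have : 1 < i := (Nat.pow_lt_pow_iff_right hp.out.one_lt).1 (by rw [pow_one]; exact c1)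
      have h3 : p ^ 3 ≤ Nat.card S := hj ▸ Nat.pow_le_pow_right hp.out.pos (by omega)
      exact ⟨Subgroup.eq_top_of_le_card S (hEle.trans h3), le_antisymm hEle (h3.trans (Subgroup.card_le_card_group S))⟩
    have hE3 := (hS a b hab ⊤ le_top trivial trivial).2
    have hker : ((κ a).prod (κ b)).ker = D := by
      refine le_antisymm (fun g hg => Subgroup.mem_centralizer_iff.2 fun u hu => ?_) fun g hg => ?_
      · rw [MonoidHom.mem_ker, MonoidHom.prod_apply, Prod.mk_eq_one, hκ, hκ] at hg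
        have hS' := (hS a b hab ((Subgroup.centralizer ({g} : Set R)).subgroupOf E) (fun z hz' => by
          have hzc : (z : R) ∈ Z0 := hZ0 ▸ Subgroup.mem_map_of_mem E.subtype hz'
          exact Subgroup.mem_subgroupOf.2 (Subgroup.mem_centralizer_singleton_iff.2 (Subgroup.mem_center_iff.1 hzc.1 g).symm))
          (Subgroup.mem_subgroupOf.2 (Subgroup.mem_centralizer_singleton_iff.2 hg.1))
          (Subgroup.mem_subgroupOf.2 (Subgroup.mem_centralizer_singleton_iff.2 hg.2))).1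
        exact Subgroup.mem_centralizer_singleton_iff.1 (Subgroup.mem_subgroupOf.1 (hS'.symm ▸ Subgroup.mem_top (⟨u, hu⟩ : E)))
      · rw [MonoidHom.mem_ker, MonoidHom.prod_apply, Prod.mk_eq_one, hκ, hκ]
        exact ⟨Subgroup.mem_centralizer_iff.1 hg a a.2, Subgroup.mem_centralizer_iff.1 hg b b.2⟩
    have hidx : D.index ≤ p ^ 2 := by
      rw [← hker, Subgroup.index_ker, sq]
      refine (Subgroup.card_le_card_group _).trans (le_of_eq ?_)
      rw [Nat.card_prod, hi]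
    have hrel : D.relIndex E = p ^ 2 := by
      have h := Subgroup.relIndex_mul_relIndex ⊥ (E ⊓ D) E bot_le inf_le_left
      rw [Subgroup.relIndex_bot_left, Subgroup.relIndex_bot_left, Subgroup.inf_relIndex_left, hE3, hED, hi,
        show p ^ 3 = p * p ^ 2 by ring] at h
      exact Nat.eq_of_mul_eq_mul_left hp.out.pos h
    have hidx2 : D.index = p ^ 2 := by
      refine le_antisymm hidx ?_
      have h := Subgroup.relIndex_mul_index (le_sup_right : D ≤ E ⊔ D)
      rw [Subgroup.relIndex_sup_right, hrel] at h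
      rw [← h]
      exact Nat.le_mul_of_pos_right _ (Nat.pos_of_ne_zero Subgroup.index_ne_zero_of_finite)
    have hsup : E ⊔ D = ⊤ := by
      have h := Subgroup.relIndex_mul_index (le_sup_right : D ≤ E ⊔ D)
      rw [Subgroup.relIndex_sup_right, hrel, hidx2] at h
      exact Subgroup.index_eq_one.1 (Nat.eq_of_mul_eq_mul_left (pow_pos hp.out.pos 2) (h.trans (mul_one _).symm))
    haveI hcyc : IsCyclic D := cyclic_of_roots hp2 (hR.to_subgroup D) (le_of_le_of_eq
      (Nat.card_le_card_of_injective (fun x : {x : D // x ^ p = 1} => (⟨x.1.1, hED.le ⟨hin _ x.1.2 (by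
        rw [← Subgroup.coe_pow, x.2]; rfl), x.1.2⟩⟩ : Z0))
        (fun x y e => Subtype.ext (Subtype.ext (congrArg (fun z : Z0 => (z : R)) e)))) hi)
    obtain ⟨m, hm⟩ := IsPGroup.iff_card.1 (hR.to_subgroup D)
    have hnm : n = m + 2 := by
      have h := Subgroup.card_mul_index D
      rw [hm, hidx2, hn, ← pow_add] at h
      exact (Nat.pow_right_injective hp.out.two_le h).symm
    obtain ⟨z, hz'⟩ := hcyc.exists_generator
    have hzo : orderOf (z : R) = p ^ m := by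
      rw [Subgroup.orderOf_coe, orderOf_eq_card_of_forall_mem_zpowers hz', hm]
    obtain ⟨m, rfl⟩ : ∃ t, m = t + 1 := Nat.exists_eq_succ_of_ne_zero fun e => by
      have := Subgroup.card_le_of_le hZ0D
      rw [hi, hm, e, pow_zero] at this
      exact absurd this hp.out.one_lt.not_ge
    obtain rfl : n = m + 3 := by omega
    set w : R := (z : R) ^ p ^ m with hw
    have hwp : w ^ p = 1 := by rw [hw, ← pow_mul, ← pow_succ, ← hzo, pow_orderOf_eq_one]
    have hw1 : w ≠ 1 := fun e => by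
      have := Nat.le_of_dvd (pow_pos hp.out.pos m) (hzo ▸ orderOf_dvd_of_pow_eq_one e)
      have := (Nat.pow_le_pow_iff_right hp.out.one_lt).1 this
      omega
    have hwD : w ∈ D := pow_mem z.2 _
    have hwZ : w ∈ Z0 := hED.le ⟨hin w hwD hwp, hwD⟩
    set c : R := (b : R)⁻¹ * ((a : R)⁻¹ * b * a) with hc
    have hcZ : c ∈ Z0 := by
      rw [hc, show (b : R)⁻¹ * ((a : R)⁻¹ * b * a) = ⁅(b : R)⁻¹, (a : R)⁻¹⁆ by rw [commutatorElement_def]; group]
      exact hmem _ (inv_mem b.2) _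
    have hc1 : c ≠ 1 := fun e => hab (Subtype.ext (by
      have h' : (b : R) = (a : R)⁻¹ * b * a := inv_mul_eq_one.1 e
      push_cast
      conv_lhs => rw [h']
      group))
    obtain ⟨i, hi'⟩ := Subgroup.mem_zpowers_iff.1 (mem_zpowers_of_prime_card (G := Z0) (p := p) hi
      (g := ⟨c, hcZ⟩) (g' := ⟨w, hwZ⟩) (fun e => hc1 (congrArg Subtype.val e)))
    have hiw : c ^ i = w := congrArg Subtype.val hi'
    have hrel2 : (a : R)⁻¹ * (b : R) ^ i * a = (b : R) ^ i * w := by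
      have e1 : ((a : R)⁻¹ * b * (a : R)⁻¹⁻¹) = b * c := by rw [hc]; group
      have e2 := conj_zpow (i := i) (a := (a : R)⁻¹) (b := (b : R))
      rw [e1, inv_inv, (show Commute (b : R) c from Subgroup.mem_center_iff.1 hcZ.1 b).mul_zpow, hiw] at e2
      exact e2.symm
    refine ⟨by omega, a, (b : R) ^ i, z, ?_, a.2.2, (zpow_mem b.2 i).2, ?_, Subgroup.mem_centralizer_iff.1 z.2 a a.2,
      Subgroup.mem_centralizer_iff.1 z.2 _ (zpow_mem b.2 i), ?_⟩
    · set T := Subgroup.closure ({(a : R), (b : R) ^ i, (z : R)} : Set R) with hT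
      have hDT : D ≤ T := fun u hu => by
        obtain ⟨j, hj⟩ := Subgroup.mem_zpowers_iff.1 (hz' ⟨u, hu⟩)
        have : (z : R) ^ j = u := congrArg Subtype.val hj
        exact this ▸ zpow_mem (Subgroup.subset_closure (by simp)) j
      have hne : a * b ^ i ≠ b ^ i * a := fun e => hw1 (by
        have e' : (a : R) * (b : R) ^ i = (b : R) ^ i * a := by
          simpa using congrArg (fun u : E => (u : R)) e
        rw [mul_assoc, ← e', inv_mul_cancel_left] at hrel2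
        exact mul_eq_left.1 hrel2.symm)
      have htop := (hS a (b ^ i) hne (T.subgroupOf E) (fun u hu => Subgroup.mem_subgroupOf.2 (hDT (hZ0D
        (hZ0 ▸ Subgroup.mem_map_of_mem E.subtype hu)))) (Subgroup.mem_subgroupOf.2 (Subgroup.subset_closure (by simp)))
        (Subgroup.mem_subgroupOf.2 (Subgroup.subset_closure (by simp)))).1
      exact top_unique (hsup ▸ sup_le (fun u hu => Subgroup.mem_subgroupOf.1 (htop.symm ▸ Subgroup.mem_top (⟨u, hu⟩ : E))) hDT)
    · rw [show m + 3 - 2 = m + 1 by omega, ← hzo, pow_orderOf_eq_one]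
    · rw [show m + 3 - 3 = m by omega]; exact hrel2
  have hED : E ≤ D := fun x hx => Subgroup.mem_centralizer_iff.2 fun u hu =>
    congrArg Subtype.val (hab ⟨u, hu⟩ ⟨x, hx⟩)
  have hE2 : Nat.card E ≤ p ^ 2 := hr E ⟨⟨hab⟩⟩ fun a ha => ha.2
  have hroot : ∀ u : D, u ^ p = 1 → u ∈ Subgroup.center D := fun u hu => Subgroup.mem_center_iff.2 fun v => Subtype.ext
    (Subgroup.mem_centralizer_iff.1 v.2 u (hin u u.2 (by rw [← Subgroup.coe_pow, hu]; rfl))).symm
  have hD' : IsPGroup p D := hR.to_subgroup D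
  have hDroots : Nat.card {x : D // x ^ p = 1} ≤ p ^ 2 := le_trans
    (Nat.card_le_card_of_injective (fun x : {x : D // x ^ p = 1} => (⟨x.1.1, hin _ x.1.2 (by
      rw [← Subgroup.coe_pow, x.2]; rfl)⟩ : E)) (fun x y e => Subtype.ext (Subtype.ext (congrArg (fun z : E => (z : R)) e)))) hE2
  by_cases hcen0 : E ≤ Subgroup.center R
  · left
    have hall : ∀ u : R, u ∈ D := fun u => Subgroup.mem_centralizer_iff.2 fun v hv =>
      (Subgroup.mem_center_iff.1 (hcen0 hv) u).symm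
    refine metacyclic_of_roots hp2 hR (fun u hu => hcen0 (hin u (hall u) hu)) (le_trans ?_ hE2)
    exact Nat.card_le_card_of_injective (fun x : {x : R // x ^ p = 1} => (⟨x.1, hin _ (hall _) x.2⟩ : E))
      (fun x y e => Subtype.ext (congrArg (fun z : E => (z : R)) e))
  obtain ⟨a, ha, haZ⟩ := SetLike.not_le_iff_exists.1 hcen0
  have hltZ : Nat.card Z0 < Nat.card E := lt_of_le_of_ne (Subgroup.card_le_of_le inf_le_right) fun e =>
    haZ ((Subgroup.eq_of_le_of_card_ge (inf_le_right : Z0 ≤ E) e.ge).ge ha).1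
  obtain ⟨i, hi1, -, hi⟩ := hZ0p 2 (hltZ.le.trans hE2) (hneZ fun e => haZ (by
    rw [show a = 1 from Subgroup.mem_bot.1 (e ▸ ha)]; exact one_mem _))
  obtain rfl : i = 1 := by
    have := hi ▸ lt_of_lt_of_le hltZ hE2
    have := (Nat.pow_lt_pow_iff_right hp.out.one_lt).1 this
    omega
  rw [pow_one] at hi
  have hgenE : ∀ S : Subgroup R, Z0 ≤ S → ∀ e ∈ E, e ∉ Subgroup.center R → e ∈ S → E ≤ S := by
    intro S hS e he heZ heS
    have hlt : Nat.card Z0 < Nat.card ↥(E ⊓ S) := lt_of_le_of_ne (Subgroup.card_le_of_le (le_inf inf_le_right hS)) fun h =>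
      heZ ((Subgroup.eq_of_le_of_card_ge (le_inf inf_le_right hS) h.ge).ge ⟨he, heS⟩).1
    obtain ⟨j, hj⟩ := IsPGroup.iff_card.1 (hR.to_subgroup (E ⊓ S))
    rw [hi, hj] at hlt
    have hj2 : 2 ≤ j := (Nat.pow_lt_pow_iff_right hp.out.one_lt).1 (show p ^ 1 < p ^ j by rwa [pow_one])
    exact inf_eq_left.1 (Subgroup.eq_of_le_of_card_ge inf_le_left (hE2.trans (hj ▸ Nat.pow_le_pow_right hp.out.pos hj2)))
  have hidx : D.index = p := by
    have hker : (κ ⟨a, ha⟩).ker = D := by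
      refine le_antisymm (fun g hg => Subgroup.mem_centralizer_iff.2 fun u hu => ?_) fun g hg => ?_
      · rw [MonoidHom.mem_ker, hκ] at hg
        exact Subgroup.mem_centralizer_singleton_iff.1 (hgenE (Subgroup.centralizer ({g} : Set R)) (fun z hz =>
          Subgroup.mem_centralizer_singleton_iff.2 (Subgroup.mem_center_iff.1 hz.1 g).symm) a ha haZ
          (Subgroup.mem_centralizer_singleton_iff.2 hg) hu)
      · rw [MonoidHom.mem_ker, hκ]; exact Subgroup.mem_centralizer_iff.1 hg a ha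
    have hd : D.index ∣ p := by
      rw [← hker, Subgroup.index_ker, ← hi]; exact Subgroup.card_subgroup_dvd_card _
    exact ((Nat.dvd_prime hp.out).1 hd).resolve_left fun e => hcen0 fun u hu => Subgroup.mem_center_iff.2 fun g =>
      (Subgroup.mem_centralizer_iff.1 (Subgroup.index_eq_one.1 e ▸ Subgroup.mem_top g : g ∈ D) u hu).symm
  have hdecG : ∀ x : R, x ∉ D → ∀ g : R, ∃ i : ℤ, g * (x ^ i)⁻¹ ∈ D := by
    intro x hxD g
    haveI : D.Normal := inferInstance
    have h1 : ((x : R) : R ⧸ D) ≠ 1 := fun h => hxD ((QuotientGroup.eq_one_iff x).1 h)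
    obtain ⟨i, hi'⟩ := Subgroup.mem_zpowers_iff.1 (mem_zpowers_of_prime_card (p := p)
      (by rw [← Subgroup.index_eq_card, hidx]) h1 (g' := (g : R ⧸ D)))
    refine ⟨i, (QuotientGroup.eq_one_iff _).1 ?_⟩
    rw [QuotientGroup.mk_mul, QuotientGroup.mk_inv, QuotientGroup.mk_zpow, hi', mul_inv_cancel]
  have hmax : ∀ y : R, y ∉ D → y ^ p ∈ Z0 → (∀ c ∈ D, Commute y c → c ∈ Z0) →
      2 ≤ n ∧ (⊤ : Subgroup R).lowerCentralSeries (n - 2) ≠ ⊥ := by
    intro y hyD hyp hC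
    haveI := hR.isNilpotent
    set A := Z0 ⊔ Subgroup.zpowers y with hA
    have hAc : A ≤ Subgroup.centralizer ({y} : Set R) := sup_le (fun z hz =>
      Subgroup.mem_centralizer_singleton_iff.2 (Subgroup.mem_center_iff.1 hz.1 y).symm)
      (Subgroup.zpowers_le.2 (Subgroup.mem_centralizer_singleton_iff.2 rfl))
    have hAD : A ⊓ D = Z0 := by
      refine le_antisymm (fun u hu => hC u hu.2 (Subgroup.mem_centralizer_singleton_iff.1 (hAc hu.1)).symm) (le_inf le_sup_left hZ0D)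
    have hrelA : D.relIndex A = p := by
      have h1 : D.relIndex A ∣ D.index := Subgroup.relIndex_dvd_index_of_normal D A
      rw [hidx] at h1
      exact ((Nat.dvd_prime hp.out).1 h1).resolve_left fun e =>
        hyD (Subgroup.relIndex_eq_one.1 e (Subgroup.mem_sup_right (Subgroup.mem_zpowers y)))
    have hAcard : Nat.card A = p ^ 2 := by
      have h := Subgroup.relIndex_mul_relIndex ⊥ (A ⊓ D) A bot_le inf_le_left
      rw [Subgroup.relIndex_bot_left, Subgroup.relIndex_bot_left, Subgroup.inf_relIndex_left, hAD, hrelA, hi] at h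
      rw [← h, sq]
    have hcent : Subgroup.centralizer (A : Set R) = A := by
      refine le_antisymm (fun g hg => ?_) ?_
      · have hgy : Commute y g := Subgroup.mem_centralizer_iff.1 hg y (Subgroup.mem_sup_right (Subgroup.mem_zpowers y))
        obtain ⟨i, hi'⟩ := hdecG y hyD g
        rw [show g = g * (y ^ i)⁻¹ * y ^ i by group]
        exact mul_mem (Subgroup.mem_sup_left (hC _ hi' (hgy.mul_right ((Commute.self_zpow y i).inv_right))))
          (zpow_mem (Subgroup.mem_sup_right (Subgroup.mem_zpowers y)) i)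
      · haveI : IsMulCommutative A := IsPGroup.isMulCommutative_of_card_eq_prime_sq hAcard
        exact Subgroup.le_centralizer A
    have hn2 : 2 ≤ n := by
      have h := Subgroup.card_le_card_group A
      rw [hAcard, hn] at h
      exact (Nat.pow_le_pow_iff_right hp.out.one_lt).1 h
    refine ⟨hn2, fun h => ?_⟩
    have h1 := CfsgLib.Solv.nilpotencyClass_of_centralizer_sq n R hn A hAcard hcent
    have h2 := Subgroup.lowerCentralSeries_eq_bot_iff_nilpotencyClass_le.1 h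
    omega
  have hCgood : ∀ y : R, ¬ (∀ c ∈ D, Commute y c → c ∈ Z0) → (∃ c ∈ D, Commute y c ∧ c ^ p ∈ Z0 ∧ c ^ p ≠ 1) ∨ ∃ e ∈ E, e ∉ Subgroup.center R ∧ Commute y e := by
    intro y hC
    push Not at hC
    obtain ⟨c, hcD, hyc, hcZ⟩ := hC
    obtain ⟨j, hj⟩ := IsPGroup.iff_orderOf.1 hR c
    rcases j with _ | _ | j
    · exact absurd (by rw [show c = 1 from orderOf_eq_one_iff.1 (by rw [hj, pow_zero])]; exact one_mem _ : c ∈ Z0) hcZ
    · have hcE := hin c hcD (by rw [← pow_one p, ← hj, pow_orderOf_eq_one])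
      exact Or.inr ⟨c, hcE, fun h => hcZ ⟨h, hcE⟩, hyc⟩
    · have h1 : ((c ^ p ^ j) ^ p) ^ p = 1 := by
        rw [← pow_mul, ← pow_mul, show p ^ j * (p * p) = p ^ (j + 1 + 1) by ring, ← hj, pow_orderOf_eq_one]
      have h2 : (c ^ p ^ j) ^ p ≠ 1 := fun e => by
        rw [← pow_mul, ← pow_succ] at e
        have := Nat.le_of_dvd (pow_pos hp.out.pos _) (hj ▸ orderOf_dvd_of_pow_eq_one e)
        have := (Nat.pow_le_pow_iff_right hp.out.one_lt).1 this
        omega
      have hcE := hin _ (pow_mem (pow_mem hcD _) _) h1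
      by_cases hcc : (c ^ p ^ j) ^ p ∈ Subgroup.center R
      · exact Or.inl ⟨c ^ p ^ j, pow_mem hcD _, hyc.pow_right _, ⟨hcc, hcE⟩, h2⟩
      · exact Or.inr ⟨_, hcE, hcc, (hyc.pow_right _).pow_right _⟩
  have hxe : ∀ x : R, x ∉ D → ∀ e ∈ E, e ∉ Subgroup.center R → ⁅x, e⁆ ≠ 1 := by
    intro x hxD e he heZ h
    refine hxD (Subgroup.mem_centralizer_iff.2 fun u hu => ?_)
    refine Subgroup.mem_centralizer_singleton_iff.1 (hgenE (Subgroup.centralizer ({x} : Set R)) (fun z hz =>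
      Subgroup.mem_centralizer_singleton_iff.2 (Subgroup.mem_center_iff.1 hz.1 x).symm) e he heZ ?_ hu)
    exact Subgroup.mem_centralizer_singleton_iff.2 (commutatorElement_eq_one_iff_mul_comm.1 h).symm
  have hC' : ∀ y : R, y ∉ D → ¬ (∀ c ∈ D, Commute y c → c ∈ Z0) → ∃ c ∈ D, Commute y c ∧ c ^ p ∈ Z0 ∧ c ^ p ≠ 1 := by
    intro y hyD hC
    rcases hCgood y hC with h | ⟨e, he, heZ, hye⟩
    · exact h
    · exact absurd (commutatorElement_eq_one_iff_mul_comm.2 hye.eq) (hxe y hyD e he heZ)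
  have hxE' : ∀ (x : R), ∀ e ∈ E, ⁅x, e⁆ ∈ Z0 := fun x e he => by
    rw [← commutatorElement_inv]; exact inv_mem (hmem e he x)
  by_cases hroots : ∀ x : R, x ^ p = 1 → x ∈ D
  · have hO : Nat.card (Cfsg.omegaOne p (⊤ : Subgroup R)) ≤ p ^ 2 := le_trans (Subgroup.card_le_of_le
      ((Subgroup.closure_le _).2 fun x hx => hin x (hroots x hx.2) hx.2)) hE2
    by_cases hp3 : 3 < p
    · exact Or.inl (CfsgLib.Perm.BlackburnRankTwo.main hp3 _ R rfl hR hO)
    obtain rfl : p = 3 := by have := hp.out.two_le; omega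
    have hDm := metacyclic_of_roots hp2 hD' hroot hDroots
    have hDreg := CfsgLib.Perm.BlackburnRankTwo.regular_of_metacyclic hp2 hD' hDm
    obtain ⟨x, hxD⟩ : ∃ x, x ∉ D := by
      by_contra h
      push Not at h
      exact hp.out.one_lt.ne' (by rw [← hidx, (Subgroup.eq_top_iff' D).2 h, Subgroup.index_top])
    set U := Cfsg.powerClosure 3 1 (⊤ : Subgroup R) with hU
    set V := (Cfsg.powerClosure 3 1 (⊤ : Subgroup D)).map D.subtype with hV
    have hVU : V ≤ U := by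
      rw [hV, Subgroup.map_le_iff_le_comap]
      refine (Subgroup.closure_le _).2 ?_
      rintro _ ⟨y, -, rfl⟩
      exact Subgroup.subset_closure ⟨(y : R), trivial, by simp⟩
    by_cases hxV : x ^ 3 ∈ V
    · right; right; right
      obtain ⟨u, hu, hue⟩ := hxV
      obtain ⟨d, -, hd⟩ := (CfsgLib.Perm.RegularP.powerClosure_eq (CfsgLib.Perm.RegularP.Reg.of_regular hDreg 1) ⊤).1 hu
      have hde : ((d : D) : R) ^ 3 = x ^ 3 := by
        rw [← hue, hd]; simp
      set g : R := (d : R)⁻¹ with hg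
      have hgD : g ∈ D := inv_mem d.2
      have hg3 : g ^ 3 = (x ^ 3)⁻¹ := by rw [hg, inv_pow, hde]
      have hh : ⁅x, g⁆ ^ 3 = 1 := by
        have hcj : x * g * x⁻¹ ∈ D := Subgroup.Normal.conj_mem inferInstance _ hgD x
        have h := congrArg Subtype.val (root_of_pow_eq hp2 _ D rfl hD' hroot ⟨g, hgD⟩ ⟨_, hcj⟩ (Subtype.ext (by
          push_cast
          rw [conj_pow, hg3]; group)))
        have h' : (g⁻¹ * (x * g * x⁻¹)) ^ 3 = 1 := by simpa using h
        rw [show ⁅x, g⁆ = g * (g⁻¹ * (x * g * x⁻¹)) * g⁻¹ by rw [commutatorElement_def]; group, conj_pow, h', mul_one,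
          mul_inv_cancel]
      have hhD : ⁅x, g⁆ ∈ D := by
        rw [commutatorElement_def]; exact mul_mem (Subgroup.Normal.conj_mem inferInstance _ hgD x) (inv_mem hgD)
      have hhE := hin _ hhD hh
      have hk := hxE' x _ hhE
      set h := ⁅x, g⁆ with hhdef
      set k := ⁅x, h⁆ with hkdef
      have hyk : (g * x) ^ 3 = k := by
        have c1 : h * g = g * h := (Subgroup.mem_centralizer_iff.1 hgD h hhE)
        have c2 : ∀ u, u * k = k * u := fun u => Subgroup.mem_center_iff.1 hk.1 u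
        have e1 : x * g * x⁻¹ = h * g := by rw [hhdef, commutatorElement_def]; group
        have e2 : x * h * x⁻¹ = k * h := by rw [hkdef, commutatorElement_def]; group
        have e3 : (g * x) ^ 3 = g * (h * g) * (x * (h * g) * x⁻¹) * x ^ 3 := by
          rw [← e1]; simp only [pow_succ, pow_zero, one_mul]; group
        have e4 : x * (h * g) * x⁻¹ = k * h * (h * g) := by
          calc x * (h * g) * x⁻¹ = (x * h * x⁻¹) * (x * g * x⁻¹) := by group
            _ = k * h * (h * g) := by rw [e1, e2]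
        rw [e3, e4, show g * (h * g) * (k * h * (h * g)) = k * (h ^ 3 * g ^ 3) from ?_, hh, one_mul, hg3, inv_mul_cancel_right]
        have cgh : Commute g h := c1.symm
        have ckh : ∀ u, Commute k u := fun u => (c2 u).symm
        calc g * (h * g) * (k * h * (h * g)) = k * (g * (h * g) * (h * (h * g))) := by
              rw [mul_assoc k h, ← mul_assoc _ k, c2, mul_assoc k]
          _ = k * (h ^ 3 * g ^ 3) := by
              congr 1
              rw [← mul_assoc g h g, cgh.eq]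
              simp only [pow_succ, pow_zero, one_mul, mul_assoc]
              rw [← mul_assoc g h, cgh.eq, mul_assoc, ← mul_assoc g h, cgh.eq, mul_assoc, ← mul_assoc g h, cgh.eq, mul_assoc,
                ← mul_assoc g h, cgh.eq, mul_assoc]
      have hyD : g * x ∉ D := fun h' => hxD ((Subgroup.mul_mem_cancel_left D hgD).1 h')
      refine ⟨rfl, hmax (g * x) hyD (hyk ▸ hk) (by_contra fun hC => ?_)⟩
      obtain ⟨c, hcD, hyc, hcZ, hc1⟩ := hC' _ hyD hC
      obtain ⟨j, hj⟩ := Subgroup.mem_zpowers_iff.1 (mem_zpowers_of_prime_card (G := Z0) (p := 3) hi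
        (g := ⟨c ^ 3, hcZ⟩) (g' := ⟨k, hk⟩) (fun e => hc1 (congrArg Subtype.val e)))
      have hj' : (c ^ 3) ^ j = k := congrArg Subtype.val hj
      have hcj : (c ^ j) ^ 3 = k := by rw [← hj', ← zpow_natCast, ← zpow_natCast, zpow_comm]
      have hroot' : (g * x * (c ^ j)⁻¹) ^ 3 = 1 := by
        rw [((hyc.zpow_right j).inv_right).mul_pow, hyk, inv_pow, hcj, mul_inv_cancel]
      exact hyD ((Subgroup.mul_mem_cancel_right D (inv_mem (zpow_mem hcD j))).1 (hroots _ hroot'))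
    · left
      refine CfsgLib.Perm.BlackburnRankTwo.metacyclic_of_powers hp2 _ R rfl hR ?_
      have hlt : V < U := lt_of_le_of_ne hVU fun e => hxV (e ▸ Subgroup.subset_closure ⟨x, trivial, by rw [pow_one]⟩)
      have hdv : Nat.card V ∣ Nat.card U := Subgroup.card_dvd_of_le hVU
      have hlt' : Nat.card V < Nat.card U := lt_of_le_of_ne (Subgroup.card_le_of_le hVU) fun e =>
        hlt.ne (Subgroup.eq_of_le_of_card_ge hVU e.ge)
      obtain ⟨t, ht⟩ := IsPGroup.iff_card.1 (hR.to_subgroup V)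
      obtain ⟨t', ht'⟩ := IsPGroup.iff_card.1 (hR.to_subgroup U)
      rw [ht, ht'] at hlt'
      have ht2 : t + 1 ≤ t' := (Nat.pow_lt_pow_iff_right hp.out.one_lt).1 hlt'
      have hDc := (card_le_powers hp2 hD' hroot).trans (Nat.mul_le_mul_right _ hDroots)
      rw [← CfsgLib.Perm.BlackburnRankTwo.card_map_subtype' D (Cfsg.powerClosure 3 1 (⊤ : Subgroup D)), ← hV, ht] at hDc
      rw [← Subgroup.card_mul_index D, hidx, ht']
      refine (Nat.mul_le_mul_right _ hDc).trans ?_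
      rw [mul_assoc, ← pow_succ]
      exact Nat.mul_le_mul_left _ (Nat.pow_le_pow_right hp.out.pos ht2)
  push Not at hroots
  obtain ⟨x, hxp, hxD⟩ := hroots
  by_cases hC0 : p = 3 ∧ ∀ c ∈ D, Commute x c → c ∈ Z0
  · right; right; right
    exact ⟨hC0.1, hmax x hxD (by rw [hxp]; exact one_mem _) hC0.2⟩
  right; right; left
  have hfix : ∀ u ∈ D, u ^ p ∈ Z0 → 3 < p ∨ ⁅x, u⁆ ∈ Z0 := by
    intro u hu hup
    by_cases h3 : 3 < p
    · exact Or.inl h3
    have hp3 : p = 3 := by have := hp.out.two_le; omega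
    obtain ⟨c, hcD, hxc, hcZ, hc1⟩ := hC' x hxD fun h => hC0 ⟨hp3, h⟩
    obtain ⟨j, hj⟩ := Subgroup.mem_zpowers_iff.1 (mem_zpowers_of_prime_card (G := Z0) (p := p) hi
      (g := ⟨c ^ p, hcZ⟩) (g' := ⟨u ^ p, hup⟩) (fun e => hc1 (congrArg Subtype.val e)))
    have hj' : (c ^ p) ^ j = u ^ p := congrArg Subtype.val hj
    have he := congrArg Subtype.val (root_of_pow_eq hp2 _ D rfl hD' hroot ⟨c ^ j, zpow_mem hcD j⟩ ⟨u, hu⟩ (Subtype.ext (by
      push_cast
      rw [← hj', ← zpow_natCast, ← zpow_natCast, zpow_comm])))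
    have he' : ((c ^ j)⁻¹ * u) ^ p = 1 := by simpa using he
    have heE := hin _ (mul_mem (inv_mem (zpow_mem hcD j)) hu) he'
    have hz := hxE' x _ heE
    refine Or.inr ?_
    rw [show u = c ^ j * ((c ^ j)⁻¹ * u) by group,
      show ⁅x, c ^ j * ((c ^ j)⁻¹ * u)⁆ = ⁅x, c ^ j⁆ * (c ^ j * ⁅x, (c ^ j)⁻¹ * u⁆ * (c ^ j)⁻¹) by
        simp only [commutatorElement_def]; group,
      commutatorElement_eq_one_iff_mul_comm.2 (hxc.zpow_right j).eq, one_mul, Subgroup.mem_center_iff.1 hz.1 (c ^ j),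
      mul_inv_cancel_right]
    exact hz
  have hl' : ∀ u ∈ D, u ^ p ∈ Z0 → 3 < p ∨ ⁅x, ⁅x, u⁆⁆ = 1 := fun u hu hup => (hfix u hu hup).imp id fun h =>
    commutatorElement_eq_one_iff_mul_comm.2 (Subgroup.mem_center_iff.1 h.1 x)
  have hxe := hxe x hxD
  have hxE := hxE' x
  have hdec := hdecG x hxD
  have hcomD : ∀ u ∈ D, ⁅x, u⁆ ∈ D := fun u hu => by
    rw [commutatorElement_def]
    exact mul_mem (Subgroup.Normal.conj_mem inferInstance _ hu x) (inv_mem hu)
  have hcen : ∀ u v : R, u ∈ D → v ∈ E → Commute v u := fun u v hu hv => Subgroup.mem_centralizer_iff.1 hu v hv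
  -- the `p`-th power of an element of order `p ^ 2` in `D` is central
  have hpi : ∀ g ∈ D, g ^ (p * p) = 1 → g ^ p ∈ Z0 := by
    intro g hg hgp
    have heE : g ^ p ∈ E := hin _ (pow_mem hg p) (by rw [← pow_mul]; exact hgp)
    by_contra hne
    have hne' : g ^ p ∉ Subgroup.center R := fun h => hne ⟨h, heE⟩
    refine hxe _ heE hne' ?_
    have hm : ∀ u v : R, u ∈ D → v ∈ D → u ^ (p * p) = 1 → (v * u) ^ p = v ^ p * u ^ p := by
      intro u v hu hv hup
      have hk : ⁅u, v⁆ ^ p = 1 := by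
        have := congrArg Subtype.val (Cfsg.Agent.S1895.sq_comm hp2 _ D rfl hD' hroot ⟨u, hu⟩ ⟨v, hv⟩ (Subtype.ext (by push_cast; exact hup)))
        simpa [commutatorElement_def] using this
      have hkD : ⁅u, v⁆ ∈ D := by
        rw [commutatorElement_def]; exact mul_mem (mul_mem (mul_mem hu hv) (inv_mem hu)) (inv_mem hv)
      have hkE := hin _ hkD hk
      exact CfsgLib.Solv.mul_pow_prime hp2 (hcen v _ hv hkE) (hcen u _ hu hkE) hk
    have hh := hcomD g hg
    have hhp : ⁅x, g⁆ ^ p = ⁅x, g ^ p⁆ := by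
      have h1 := hm g ⁅x, g⁆ hg hh hgp
      rw [show ⁅x, g⁆ * g = x * g * x⁻¹ by rw [commutatorElement_def]; group, conj_pow] at h1
      rw [commutatorElement_def x (g ^ p), h1, mul_inv_cancel_right]
    have hh2 : ⁅x, g⁆ ^ (p * p) = 1 := by rw [pow_mul, hhp, (hxE _ heE).2.2]
    have hkp : ⁅x, ⁅x, g⁆⁆ ^ p = 1 := by
      have h1 := hm ⁅x, g⁆ ⁅x, ⁅x, g⁆⁆ hh (hcomD _ hh) hh2
      rw [show ⁅x, ⁅x, g⁆⁆ * ⁅x, g⁆ = x * ⁅x, g⁆ * x⁻¹ by rw [commutatorElement_def x ⁅x, g⁆]; group, conj_pow, hhp,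
        Subgroup.mem_center_iff.1 (hxE _ heE).1 x, mul_inv_cancel_right] at h1
      exact mul_eq_right.1 h1.symm
    have hkE := hin _ (hcomD _ hh) hkp
    rw [← hhp]
    exact conj_iter (g := g) (h := ⁅x, g⁆) (k := ⁅x, ⁅x, g⁆⁆) (l := ⁅x, ⁅x, ⁅x, g⁆⁆⁆) hxp
      (by rw [commutatorElement_def x g]; group) (by rw [commutatorElement_def x ⁅x, g⁆]; group)
      (by rw [commutatorElement_def x ⁅x, ⁅x, g⁆⁆]; group)
      (by rw [Subgroup.mem_center_iff.1 (hxE _ hkE).1 x, mul_inv_cancel_right])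
      (hcen _ _ hh hkE) (Subgroup.mem_center_iff.1 (hxE _ hkE).1 _).symm hp2 hkp (hxE _ hkE).2.2 (hl' _ hh (hhp ▸ hxE _ heE))
  haveI hEn : (E.subgroupOf D).Normal := ⟨fun u hu g => by
    rw [Subgroup.mem_subgroupOf] at hu ⊢
    push_cast
    rw [← (hcen g u g.2 hu).eq, mul_inv_cancel_right]; exact hu⟩
  have hQc : IsCyclic (D ⧸ E.subgroupOf D) := by
    refine cyclic_of_roots hp2 (hD'.to_quotient _) (le_of_le_of_eq ?_ hi)
    have hsq : ∀ z : {z : D ⧸ E.subgroupOf D // z ^ p = 1}, z.1.out ^ (p * p) = 1 := fun z => by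
      have h1 : z.1.out ^ p ∈ E.subgroupOf D := (QuotientGroup.eq_one_iff _).1 (by
        rw [QuotientGroup.mk_pow, QuotientGroup.out_eq', z.2])
      rw [pow_mul]
      exact Subtype.ext (by push_cast; exact h1.2)
    refine Nat.card_le_card_of_injective (fun z => (⟨((z.1.out : D) : R) ^ p,
      hpi _ z.1.out.2 (by rw [← Subgroup.coe_pow, hsq z]; rfl)⟩ : Z0)) ?_
    intro z w h
    have h' : z.1.out ^ p = w.1.out ^ p := Subtype.ext (by push_cast; exact congrArg (fun u : Z0 => (u : R)) h)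
    refine Subtype.ext ?_
    rw [← QuotientGroup.out_eq' z.1, ← QuotientGroup.out_eq' w.1, QuotientGroup.eq]
    have hk : ⁅w.1.out, z.1.out⁻¹⁆ ^ p = 1 := Cfsg.Agent.S1895.sq_comm hp2 _ D rfl hD' hroot _ _ (hsq w)
    have : (z.1.out⁻¹ * w.1.out) ^ p = 1 := by
      rw [CfsgLib.Solv.mul_pow_prime hp2 (Subgroup.mem_center_iff.1 (hroot _ hk) _).symm
        (Subgroup.mem_center_iff.1 (hroot _ hk) _).symm hk, inv_pow, h', inv_mul_cancel]
    exact Subgroup.mem_subgroupOf.2 (hin _ (z.1.out⁻¹ * w.1.out).2 (by rw [← Subgroup.coe_pow, this]; rfl))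
  haveI := hQc
  have hDab : ∀ u v : R, u ∈ D → v ∈ D → Commute u v := fun u v hu hv =>
    congrArg Subtype.val (((QuotientGroup.mk' (E.subgroupOf D)).isMulCommutative_of_isCyclic_of_ker_le_center (by
      rw [QuotientGroup.ker_mk']
      intro w hw
      exact Subgroup.mem_center_iff.2 fun s => Subtype.ext (hcen s w s.2 (Subgroup.mem_subgroupOf.1 hw)).eq.symm)).is_comm.comm ⟨u, hu⟩ ⟨v, hv⟩)
  have hmul : ∀ u v : R, u ∈ D → v ∈ D → ⁅x, u * v⁆ = ⁅x, u⁆ * ⁅x, v⁆ := by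
    intro u v hu hv
    rw [show ⁅x, u * v⁆ = ⁅x, u⁆ * (u * ⁅x, v⁆ * u⁻¹) by simp [commutatorElement_def]; group,
      (hDab u _ hu (hcomD v hv)).eq, mul_inv_cancel_right]
  let F : D →* R := MonoidHom.mk' (fun u => ⁅x, (u : R)⁆) (fun u v => hmul u v u.2 v.2)
  have hpowF : ∀ u ∈ D, ∀ n : ℕ, ⁅x, u ^ n⁆ = ⁅x, u⁆ ^ n := fun u hu n => map_pow F ⟨u, hu⟩ n
  have hzpF : ∀ u ∈ D, ∀ n : ℤ, ⁅x, u ^ n⁆ = ⁅x, u⁆ ^ n := fun u hu n => map_zpow F ⟨u, hu⟩ n
  have himg : ∀ n : ℕ, ∀ u ∈ D, u ^ p ^ n = 1 → ⁅x, u⁆ ∈ E := by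
    intro n
    induction n with
    | zero =>
      intro u hu h
      rw [pow_zero, pow_one] at h
      rw [h, commutatorElement_one_right]; exact one_mem _
    | succ n ih =>
      intro u hu h
      have h1 : ⁅x, u⁆ ^ p ∈ E := hpowF u hu p ▸ ih _ (pow_mem hu p) (by rw [← pow_mul, ← pow_succ']; exact h)
      have hh := hcomD u hu
      have hh2 : ⁅x, u⁆ ^ (p * p) = 1 := by rw [pow_mul]; exact h1.2
      have hkp : ⁅x, ⁅x, u⁆⁆ ^ p = 1 := by
        rw [← hpowF _ hh, commutatorElement_eq_one_iff_mul_comm]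
        exact Subgroup.mem_center_iff.1 (hpi _ hh hh2).1 x
      have hkE := hin _ (hcomD _ hh) hkp
      refine hin _ hh (conj_iter (g := u) (h := ⁅x, u⁆) (k := ⁅x, ⁅x, u⁆⁆) (l := ⁅x, ⁅x, ⁅x, u⁆⁆⁆) hxp
        (by rw [commutatorElement_def x u]; group) (by rw [commutatorElement_def x ⁅x, u⁆]; group)
        (by rw [commutatorElement_def x ⁅x, ⁅x, u⁆⁆]; group)
        (by rw [Subgroup.mem_center_iff.1 (hxE _ hkE).1 x, mul_inv_cancel_right])
        (hcen _ _ hh hkE) (Subgroup.mem_center_iff.1 (hxE _ hkE).1 _).symm hp2 hkp (hxE _ hkE).2.2 (hl' _ hh (hpi _ hh hh2)))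
  have himg' : ∀ u ∈ D, ⁅x, u⁆ ∈ E := fun u hu => by
    obtain ⟨n, hn⟩ := hR u
    exact himg n u hu hn
  obtain ⟨d, hd, hdy⟩ : ∃ d ∈ D, ⁅x, d⁆ ∉ Subgroup.center R := by
    by_contra h
    push Not at h
    refine hxD (hED ⟨fun g => ?_, hxp⟩)
    obtain ⟨j, hj⟩ := hdec g
    have hc := h _ hj
    rw [show g = g * (x ^ j)⁻¹ * x ^ j by group]
    rw [show ⁅x, g * (x ^ j)⁻¹ * x ^ j⁆ = ⁅x, g * (x ^ j)⁻¹⁆ * (g * (x ^ j)⁻¹ * ⁅x, x ^ j⁆ * (g * (x ^ j)⁻¹)⁻¹) by
        simp only [commutatorElement_def]; group,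
      commutatorElement_eq_one_iff_mul_comm.2 (Commute.self_zpow x j).eq, mul_one, mul_inv_cancel, mul_one]
    exact hc
  have hy := himg' d hd
  have hdp : d ^ p ∈ Subgroup.center R := by
    refine Subgroup.mem_center_iff.2 fun g => ?_
    obtain ⟨j, hj⟩ := hdec g
    have h1 : Commute x (d ^ p) := commutatorElement_eq_one_iff_mul_comm.1 (by rw [hpowF d hd]; exact hy.2)
    rw [show g = g * (x ^ j)⁻¹ * x ^ j by group]
    exact ((hDab _ _ hj (pow_mem hd p)).mul_left (h1.zpow_left j)).eq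
  set q : D →* D ⧸ E.subgroupOf D := QuotientGroup.mk' (E.subgroupOf D) with hq
  have hgen : ∀ u : D, q u ∈ Subgroup.zpowers (q ⟨d, hd⟩) := by
    obtain ⟨z, hz⟩ := hQc.exists_generator
    obtain ⟨z, rfl⟩ := QuotientGroup.mk'_surjective _ z
    obtain ⟨m, hm⟩ := Subgroup.mem_zpowers_iff.1 (hz (q ⟨d, hd⟩))
    have hnd : ¬ (p : ℤ) ∣ m := by
      rintro ⟨m', rfl⟩
      have he : (((z : D) : R) ^ ((p : ℤ) * m'))⁻¹ * d ∈ E := by
        have := QuotientGroup.eq.1 (show ((z ^ ((p : ℤ) * m') : D) : D ⧸ E.subgroupOf D) = ((⟨d, hd⟩ : D) : D ⧸ E.subgroupOf D) by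
          rw [QuotientGroup.mk_zpow]; exact hm)
        simpa [Subgroup.mem_subgroupOf] using this
      apply hdy
      have : d = ((z : D) : R) ^ ((p : ℤ) * m') * ((((z : D) : R) ^ ((p : ℤ) * m'))⁻¹ * d) := by group
      rw [this, hmul _ _ (zpow_mem z.2 _) (hED he), hzpF _ z.2, zpow_mul, zpow_natCast, (himg' _ z.2).2, one_zpow, one_mul]
      exact (hxE _ he).1
    intro u
    obtain ⟨e, he⟩ := IsPGroup.iff_orderOf.1 (hD'.to_quotient (E.subgroupOf D)) (q z)
    have hco : IsCoprime m (((p ^ e : ℕ) : ℤ)) := by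
      push_cast
      exact (((Nat.prime_iff_prime_int.1 hp.out).coprime_iff_not_dvd.2 hnd).symm).pow_right
    obtain ⟨s, t, hst⟩ := hco
    obtain ⟨j, hj⟩ := Subgroup.mem_zpowers_iff.1 (hz (q u))
    refine Subgroup.mem_zpowers_iff.2 ⟨s * j, ?_⟩
    rw [← hm, ← hj, ← zpow_mul, zpow_eq_zpow_iff_modEq, Int.modEq_iff_dvd]
    refine ⟨t * j, ?_⟩
    rw [he]
    linear_combination (norm := (push_cast; ring)) (-j) * hst
  obtain ⟨s, hs⟩ := IsPGroup.iff_orderOf.1 (hD'.to_quotient (E.subgroupOf D)) (q ⟨d, hd⟩)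
  obtain ⟨s, rfl⟩ : ∃ t, s = t + 1 := Nat.exists_eq_succ_of_ne_zero fun e => hdy (by
    rw [e, pow_zero, orderOf_eq_one_iff] at hs
    exact (hxE _ (Subgroup.mem_subgroupOf.1 ((QuotientGroup.eq_one_iff _).1 hs))).1)
  have hw' : d ^ p ^ (s + 1) ∈ Z0 := by
    refine ⟨?_, ?_⟩
    · rw [pow_succ', pow_mul]; exact pow_mem hdp _
    · have h1 : q (⟨d, hd⟩ ^ p ^ (s + 1)) = 1 := by rw [map_pow, ← hs, pow_orderOf_eq_one]
      simpa [Subgroup.mem_subgroupOf] using (QuotientGroup.eq_one_iff _).1 h1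
  have hw1 : d ^ p ^ (s + 1) ≠ 1 := by
    intro h
    have h1 : d ^ p ^ s ∈ E := hin _ (pow_mem hd _) (by rw [← pow_mul, ← pow_succ]; exact h)
    have h2 : q ⟨d, hd⟩ ^ p ^ s = 1 := by
      rw [← map_pow]; exact (QuotientGroup.eq_one_iff _).2 (Subgroup.mem_subgroupOf.2 (by push_cast; exact h1))
    have := Nat.le_of_dvd (pow_pos hp.out.pos s) (hs ▸ orderOf_dvd_of_pow_eq_one h2)
    have := (Nat.pow_le_pow_iff_right hp.out.one_lt).1 this
    omega
  haveI hZn : Z0.Normal := ⟨fun z hz g => by rw [Subgroup.mem_center_iff.1 hz.1 g, mul_inv_cancel_right]; exact hz⟩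
  set π := QuotientGroup.mk' Z0 with hπ
  have hwZ : ⁅x, ⁅x, d⁆⁆ ∈ Z0 := hxE _ hy
  have hwo : orderOf ⁅x, ⁅x, d⁆⁆ = p := orderOf_eq_prime hwZ.2.2 (hxe _ hy hdy)
  set P := d ^ p ^ (s + 1) with hP
  have hPo : orderOf P = p := orderOf_eq_prime hw'.2.2 hw1
  obtain ⟨m, hm⟩ := Subgroup.mem_zpowers_iff.1 (mem_zpowers_of_prime_card (G := Z0) (p := p) hi
    (g := ⟨P, hw'⟩) (g' := ⟨_, hwZ⟩) (fun e => hw1 (congrArg Subtype.val e)))
  have hm' : P ^ m = ⁅x, ⁅x, d⁆⁆ := congrArg Subtype.val hm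
  obtain ⟨m₀, hm₀⟩ : ∃ m₀ : ℕ, ⁅x, ⁅x, d⁆⁆ = P ^ m₀ := by
    refine ⟨(m % (p : ℤ)).toNat, ?_⟩
    rw [← hm', ← zpow_natCast, Int.toNat_of_nonneg (Int.emod_nonneg _ (by exact_mod_cast hp.out.ne_zero))]
    conv_rhs => rw [← hPo, zpow_mod_orderOf]
  have hm0 : (m₀ : ZMod p) ≠ 0 := fun e => hxe _ hy hdy (by
    rw [hm₀]
    obtain ⟨c, rfl⟩ := (ZMod.natCast_eq_zero_iff _ _).1 e
    rw [pow_mul, hw'.2.2, one_pow])
  obtain ⟨j, s', hj, hs', heq⟩ : ∃ j s' : ℕ, ¬ p ∣ j ∧ (s' = 1 ∨ ¬ IsSquare (s' : ZMod p)) ∧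
      ((m₀ * j * j : ℕ) : ZMod p) = (s' : ZMod p) := by
    by_cases hsq : IsSquare (m₀ : ZMod p)
    · obtain ⟨r, hr⟩ := hsq
      have hr0 : r ≠ 0 := fun e => hm0 (by rw [hr, e, mul_zero])
      refine ⟨(r⁻¹).val, 1, fun e => inv_ne_zero hr0 ?_, Or.inl rfl, ?_⟩
      · rw [← ZMod.natCast_zmod_val r⁻¹]; exact (ZMod.natCast_eq_zero_iff _ _).2 e
      · push_cast
        rw [ZMod.natCast_zmod_val, hr]
        field_simp
    · exact ⟨1, m₀, fun e => hp.out.one_lt.ne' (Nat.dvd_one.1 e), Or.inr hsq, by simp⟩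
  have hcomm : π ⁅x ^ (j : ℤ), d⁆ = π ⁅x, d⁆ ^ (j : ℤ) := by
    rw [map_commutatorElement, map_zpow, map_commutatorElement]
    refine comm_zpow ?_ _
    rw [← map_commutatorElement]
    refine commutatorElement_eq_one_iff_mul_comm.1 ?_
    rw [← map_commutatorElement]
    exact (QuotientGroup.eq_one_iff _).2 hwZ
  rw [zpow_natCast, zpow_natCast] at hcomm
  set y := ⁅x ^ j, d⁆ with hydef
  have hzy : (⁅x, d⁆ ^ j)⁻¹ * y ∈ Z0 := QuotientGroup.eq.1 (show π (⁅x, d⁆ ^ j) = π y by rw [map_pow]; exact hcomm.symm)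
  have hyE : y ∈ E := by
    rw [show y = ⁅x, d⁆ ^ j * ((⁅x, d⁆ ^ j)⁻¹ * y) by group]; exact mul_mem (pow_mem hy j) hzy.2
  have hxy : ⁅x, y⁆ = P ^ (m₀ * j) := by
    rw [show y = ⁅x, d⁆ ^ j * ((⁅x, d⁆ ^ j)⁻¹ * y) by group, hmul _ _ (pow_mem (hED hy) _) (hZ0D hzy), hpowF _ (hED hy),
      commutatorElement_eq_one_iff_mul_comm.2 (Subgroup.mem_center_iff.1 hzy.1 x), mul_one, hm₀, pow_mul]
  have hxjy : ⁅x ^ j, y⁆ = P ^ s' := by
    have hc : Commute x ⁅x, y⁆ := Subgroup.mem_center_iff.1 (hxE _ hyE).1 x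
    rw [← zpow_natCast, comm_zpow hc, zpow_natCast, hxy, ← pow_mul, pow_eq_pow_iff_modEq, hPo]
    exact (ZMod.natCast_eq_natCast_iff _ _ _).1 heq
  have hjy : y ∉ Subgroup.center R := fun h => hw1 (by
    have h1 : ⁅x, y⁆ = 1 := commutatorElement_eq_one_iff_mul_comm.2 (Subgroup.mem_center_iff.1 h x)
    rw [hxy] at h1
    have h2 : (p : ℕ) ∣ m₀ * j := hPo ▸ orderOf_dvd_of_pow_eq_one h1
    rcases (Nat.Prime.dvd_mul hp.out).1 h2 with h2 | h2
    · exact absurd ((ZMod.natCast_eq_zero_iff _ _).2 h2) hm0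
    · exact absurd h2 hj)
  have hE2' : Nat.card E = p ^ 2 := by
    obtain ⟨t, ht⟩ := IsPGroup.iff_card.1 (hR.to_subgroup E)
    rw [hi, ht] at hltZ
    have h2 : 2 ≤ t := (Nat.pow_lt_pow_iff_right hp.out.one_lt).1 (show p ^ 1 < p ^ t by rwa [pow_one])
    exact le_antisymm hE2 (ht ▸ Nat.pow_le_pow_right hp.out.pos h2)
  have hn4 : n = s + 4 := by
    have hQcard : Nat.card (D ⧸ E.subgroupOf D) = p ^ (s + 1) := by
      rw [← hs]
      refine (orderOf_eq_card_of_forall_mem_zpowers fun z => ?_).symm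
      obtain ⟨u, rfl⟩ := QuotientGroup.mk'_surjective _ z
      exact hgen u
    have hDcard : Nat.card D = p ^ (s + 3) := by
      rw [Subgroup.card_eq_card_quotient_mul_card_subgroup (E.subgroupOf D), hQcard,
        Nat.card_congr (Subgroup.subgroupOfEquivOfLe hED).toEquiv, hE2', ← pow_add]
    have h := Subgroup.card_mul_index D
    rw [hDcard, hidx, hn, ← pow_succ] at h
    exact (Nat.pow_right_injective hp.out.two_le h).symm
  refine ⟨by omega, s', (x ^ j)⁻¹, y, d, hs', ?_, ?_, hyE.2, ?_, (hcen d y hd hyE).eq, ?_, ?_⟩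
  · set T := Subgroup.closure ({(x ^ j)⁻¹, y, d} : Set R) with hT
    have hxjT : x ^ j ∈ T := inv_inv (x ^ j) ▸ inv_mem (Subgroup.subset_closure (by simp))
    have hxT : x ∈ T := by
      obtain ⟨u, hu⟩ := exists_pow_eq_self_of_coprime (x := x) (n := j)
        ((hp.out.coprime_iff_not_dvd.2 hj).symm.coprime_dvd_right (orderOf_dvd_of_pow_eq_one hxp))
      exact hu ▸ pow_mem hxjT u
    have hdT : d ∈ T := Subgroup.subset_closure (by simp)
    have hyT : y ∈ T := Subgroup.subset_closure (by simp)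
    have hZT : Z0 ≤ T := fun z hz => by
      obtain ⟨i, hi'⟩ := Subgroup.mem_zpowers_iff.1 (mem_zpowers_of_prime_card (G := Z0) (p := p) hi
        (g := ⟨P, hw'⟩) (g' := ⟨z, hz⟩) (fun e => hw1 (congrArg Subtype.val e)))
      have : P ^ i = z := congrArg Subtype.val hi'
      exact this ▸ zpow_mem (pow_mem hdT _) i
    have hET := hgenE T hZT y hyE hjy hyT
    refine top_unique fun u _ => ?_
    obtain ⟨i, hiD⟩ := hdec u
    obtain ⟨k, hk⟩ := Subgroup.mem_zpowers_iff.1 (hgen ⟨_, hiD⟩)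
    have he : (d ^ k)⁻¹ * (u * (x ^ i)⁻¹) ∈ E := by
      have := QuotientGroup.eq.1 (show (((⟨d, hd⟩ : D) ^ k : D) : D ⧸ E.subgroupOf D) = ((⟨_, hiD⟩ : D) : D ⧸ E.subgroupOf D) by
        rw [QuotientGroup.mk_zpow]; exact hk)
      simpa [Subgroup.mem_subgroupOf] using this
    rw [show u = d ^ k * ((d ^ k)⁻¹ * (u * (x ^ i)⁻¹)) * x ^ i by group]
    exact mul_mem (mul_mem (zpow_mem hdT k) (hET he)) (zpow_mem hxT i)
  · rw [inv_pow, ← pow_mul, mul_comm, pow_mul, hxp, one_pow, inv_one]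
  · rw [show n - 2 = s + 1 + 1 by omega, pow_succ, pow_mul, hw'.2.2]
  · rw [inv_inv, show n - 3 = s + 1 by omega, mul_comm s', pow_mul, ← hP, ← hxjy]
    have : x ^ j * y * (x ^ j)⁻¹ = ⁅x ^ j, y⁆ * y := by rw [commutatorElement_def]; group
    rw [this]
    exact (Subgroup.mem_center_iff.1 (hxE' (x ^ j) _ hyE).1 y).symm
  · rw [inv_inv, hydef, commutatorElement_def]; group

end Cfsg.Agent.S3888

namespace Cfsg.Agent.S3888

/-- The classification of the p-groups of rank at most two for odd p. Let p be an odd prime and G a group of order p^n with no elementary abelian subgroup of order p³. Then one of the following holds: G is metacyclic; n ≥ 3 and G is generated by elements x, y, z with x^p = y^p = z^(p^(n−2)) = 1, z commuting with x and y, and x⁻¹yx = y z^(p^(n−3)); n ≥ 4 and G is generated by elements x, y, z with x^p = y^p = z^(p^(n−2)) = 1, yz = zy, x⁻¹yx = y z^(s p^(n−3)) and x⁻¹zx = yz, where s = 1 or s is a quadratic non-residue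 modulo p; or p = 3 and G has maximal class (nilpotency class n − 1). -/
theorem result {G : Type*} [Group G] [Finite G] {p : ℕ} [Fact p.Prime] (hp : p ≠ 2) (n : ℕ) (hG : Nat.card G = p ^ n)
    (hrk : Cfsg.PRankLE p 2 G) :
    Cfsg.IsMetacyclic G ∨
    (3 ≤ n ∧ ∃ x y z : G, Subgroup.closure ({x, y, z} : Set G) = ⊤ ∧ x ^ p = 1 ∧ y ^ p = 1 ∧ z ^ p ^ (n - 2) = 1 ∧
        x * z = z * x ∧ y * z = z * y ∧ x⁻¹ * y * x = y * z ^ p ^ (n - 3)) ∨
    (4 ≤ n ∧ ∃ (s : ℕ) (x y z : G), (s = 1 ∨ ¬ IsSquare (s : ZMod p)) ∧ Subgroup.closure ({x, y, z} : Set G) = ⊤ ∧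
        x ^ p = 1 ∧ y ^ p = 1 ∧ z ^ p ^ (n - 2) = 1 ∧ y * z = z * y ∧ x⁻¹ * y * x = y * z ^ (s * p ^ (n - 3)) ∧
        x⁻¹ * z * x = y * z) ∨
    (p = 3 ∧ 2 ≤ n ∧ (⊤ : Subgroup G).lowerCentralSeries (n - 2) ≠ ⊥) := by
  haveI : Fact p.Prime := inferInstance
  exact shape hp n hG (IsPGroup.of_card hG) hrk

end Cfsg.Agent.S3888
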