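import Cfsg.Statements.S3889


set_option autoImplicit false
open Cfsg

namespace Cfsg.Agent.S3889

/-- A finite abelian group that is the union of a family of proper subgroups any two of which intersect trivially is elementary abelian: its exponent is a prime. -/
theorem result {G : Type*} [CommGroup G] [Finite G] (𝓑 : Set (Subgroup G)) (hprop : ∀ B ∈ 𝓑, B ≠ ⊤)
    (hcov : ∀ g : G, ∃ B ∈ 𝓑, g ∈ B) (hdisj : ∀ B ∈ 𝓑, ∀ C ∈ 𝓑, B ≠ C → B ⊓ C = ⊥) :
    (Monoid.exponent G).Prime := by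
  classical
  have hmem : ∀ {B C : Subgroup G} {g : G}, B ∈ 𝓑 → C ∈ 𝓑 → g ∈ B → g ∈ C → g ≠ 1 → B = C := by
    intro B C g hB hC h1 h2 hg
    by_contra hne
    exact hg ((Subgroup.eq_bot_iff_forall _).1 (hdisj B hB C hC hne) g ⟨h1, h2⟩)
  have key : ∀ (B C : Subgroup G) (g h : G), B ∈ 𝓑 → C ∈ 𝓑 → B ≠ C → g ∈ B → h ∈ C → g ≠ 1 → h ≠ 1 →
      orderOf g ∣ orderOf h := by
    intro B C g h hB hC hne hg hh hg1 hh1
    obtain ⟨D, hD, hgh⟩ := hcov (g * h)
    have hDB : D ≠ B := fun e => by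
      subst e
      exact hne (hmem hB hC ((Subgroup.mul_mem_cancel_left _ hg).1 hgh) hh hh1)
    apply orderOf_dvd_of_pow_eq_one
    by_contra hne1
    exact hDB (hmem hD hB (by
      have := pow_mem hgh (orderOf h)
      rwa [mul_pow, pow_orderOf_eq_one, mul_one] at this) (pow_mem hg _) hne1)
  obtain ⟨B₀, hB₀, -⟩ := hcov 1
  haveI : Nontrivial G := by
    by_contra hnt
    rw [not_nontrivial_iff_subsingleton] at hnt
    exact hprop B₀ hB₀ (eq_top_iff.2 fun g _ => by rw [Subsingleton.elim g 1]; exact one_mem _)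
  have hsame : ∀ g h : G, g ≠ 1 → h ≠ 1 → orderOf g = orderOf h := by
    intro g h hg hh
    obtain ⟨B, hB, hgB⟩ := hcov g
    obtain ⟨C, hC, hhC⟩ := hcov h
    by_cases hBC : B = C
    · subst hBC
      obtain ⟨k, hk⟩ : ∃ k : G, k ∉ B := by
        by_contra hno
        push Not at hno
        exact hprop B hB (eq_top_iff.2 fun k _ => hno k)
      obtain ⟨D, hD, hkD⟩ := hcov k
      have hne : B ≠ D := fun e => hk (e ▸ hkD)
      have hk1 : k ≠ 1 := fun e => hk (e ▸ one_mem B)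
      exact Nat.dvd_antisymm ((key B D g k hB hD hne hgB hkD hg hk1).trans (key D B k h hD hB hne.symm hkD hhC hk1 hh))
        ((key B D h k hB hD hne hhC hkD hh hk1).trans (key D B k g hD hB hne.symm hkD hgB hk1 hg))
    · exact Nat.dvd_antisymm (key B C g h hB hC hBC hgB hhC hg hh) (key C B h g hC hB (Ne.symm hBC) hhC hgB hh hg)
  obtain ⟨p, hp, hpd⟩ := Nat.exists_prime_and_dvd (show Nat.card G ≠ 1 from (Finite.one_lt_card (α := G)).ne')
  haveI : Fact p.Prime := ⟨hp⟩
  obtain ⟨y, hy⟩ := exists_prime_orderOf_dvd_card' p hpd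
  have hy1 : y ≠ 1 := fun e => hp.ne_one (by rw [← hy, e, orderOf_one])
  have : Monoid.exponent G = p := Nat.dvd_antisymm (Monoid.exponent_dvd_of_forall_pow_eq_one fun g => by
    by_cases hg : g = 1
    · rw [hg, one_pow]
    · rw [← hy, ← hsame g y hg hy1, pow_orderOf_eq_one]) (hy ▸ Monoid.order_dvd_exponent y)
  rw [this]; exact hp

end Cfsg.Agent.S3889
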