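import Cfsg.Statements.S3891
import Cfsg.Agent.Solv.NilpotentCover

set_option autoImplicit false
open Cfsg

namespace Cfsg.Agent.S3891

/-- A cover of a group is a finite set of proper subgroups whose union is the whole group; it is minimal when no cover has fewer members, and nilpotent when all its members are nilpotent. Let G be a finite group with trivial center admitting a nilpotent minimal cover, and let P be a non-normal Sylow p-subgroup of G that is cyclic, or abelian but not elementary abelian. Then the centralizer of P is nilpotent and the normalizer of P is the unique maximal subgroup of G containing the centralizer of P. -/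
theorem result {G : Type*} [Group G] [Finite G] (hZ : Subgroup.center G = ⊥) (𝓐 : Finset (Subgroup G))
    (h𝓐 : ((∀ A ∈ 𝓐, A ≠ ⊤) ∧ (∀ g : G, ∃ A ∈ 𝓐, g ∈ A)) ∧ (∀ 𝓑 : Finset (Subgroup G), (∀ A ∈ 𝓑, A ≠ ⊤) ∧ (∀ g : G, ∃ A ∈ 𝓑, g ∈ A) → 𝓐.card ≤ 𝓑.card) ∧ (∀ A ∈ 𝓐, Group.IsNilpotent ↥A)) {p : ℕ} [Fact p.Prime] (P : Sylow p G)
    (hP : IsCyclic ↥(P : Subgroup G) ∨ (IsMulCommutative ↥(P : Subgroup G) ∧ ¬ Cfsg.IsElementaryAbelian p (P : Subgroup G)))
    (hnn : ¬ (P : Subgroup G).Normal) :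
    Group.IsNilpotent ↥(Subgroup.centralizer ((P : Subgroup G) : Set G)) ∧
      IsCoatom (Subgroup.normalizer ((P : Subgroup G) : Set G)) ∧
      ∀ M : Subgroup G, IsCoatom M → Subgroup.centralizer ((P : Subgroup G) : Set G) ≤ M →
        M = Subgroup.normalizer ((P : Subgroup G) : Set G) := by
  have hA : CfsgLib.Solv.NilpotentCover.IsMinNilCover 𝓐 := ⟨h𝓐.1.1, h𝓐.1.2, h𝓐.2.1, h𝓐.2.2⟩
  haveI hab : IsMulCommutative (P : Subgroup G) := by
    rcases hP with hc | hc
    · haveI := hc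
      letI := IsCyclic.commGroup (α := (P : Subgroup G))
      exact ⟨⟨mul_comm⟩⟩
    · exact hc.1
  have hne : (P : Subgroup G) ≠ ⊥ := fun hb => hnn (hb ▸ inferInstance)
  have h : (∃ y ∈ (P : Subgroup G), y ^ p ≠ 1) ∨ Nat.card (P : Subgroup G) = p := by
    by_contra hh
    push Not at hh
    rcases hP with hc | hc
    · haveI := hc
      obtain ⟨g, hg⟩ := IsCyclic.exists_ofOrder_eq_natCard (α := (P : Subgroup G))
      have h1 : orderOf g ∣ p := orderOf_dvd_of_pow_eq_one (Subtype.ext (hh.1 g g.2))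
      rcases (Nat.dvd_prime Fact.out).1 h1 with h2 | h2
      · exact hne (Subgroup.card_eq_one.1 (hg.symm.trans h2))
      · exact hh.2 (hg.symm.trans h2)
    · exact hc.2 ⟨hc.1, hh.1⟩
  obtain ⟨A, hA1, hPA, -, hco, -, hC, hmax⟩ :=
    CfsgLib.Solv.NilpotentCover.main hA hZ P hnn h
  refine ⟨hC ▸ hA.nilpotent A hA1, hco, fun M hM hCM => ?_⟩
  rcases (hmax M hM.1 (hC ▸ hCM)).eq_or_lt with he | hlt
  · exact he
  · exact absurd (hM.2 _ hlt) hco.1

end Cfsg.Agent.S3891
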