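import Cfsg.Statements.S3892
import Cfsg.Agent.S3891
import Mathlib.NumberTheory.Bertrand
-- import your own Cfsg.Agent.* helpers here

set_option autoImplicit false
set_option maxRecDepth 20000
set_option maxHeartbeats 1000000
open Cfsg

namespace Cfsg.Agent.S3892

open Equiv

lemma not_sq_dvd_factorial {p : ℕ} (hp : p.Prime) : ∀ m, m < 2 * p → ¬ p ^ 2 ∣ m.factorial
  | 0, _ => by
      intro h
      have h1 : p ^ 2 = 1 := Nat.dvd_one.1 (by simpa using h)
      have := hp.two_le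
      nlinarith
  | m + 1, hm => by
      intro h
      rw [Nat.factorial_succ] at h
      by_cases hd : p ∣ m + 1
      · obtain ⟨j, hj⟩ := hd
        have : j = 1 := by
          rcases j with _ | _ | j
          · simp at hj
          · rfl
          · nlinarith [hp.two_le]
        subst this
        rw [mul_one] at hj
        rw [hj, sq] at h
        have h2 := Nat.dvd_of_mul_dvd_mul_left hp.pos h
        have := hp.dvd_factorial.1 h2
        omega
      · exact not_sq_dvd_factorial hp m (by omega) (((hp.coprime_iff_not_dvd.2 hd).pow_left 2).dvd_of_dvd_mul_left h)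

lemma crit {G : Type*} [Group G] [Finite G] (hZ : Subgroup.center G = ⊥) (𝓐 : Finset (Subgroup G))
    (h𝓐 : ((∀ A ∈ 𝓐, A ≠ ⊤) ∧ (∀ g : G, ∃ A ∈ 𝓐, g ∈ A)) ∧ (∀ 𝓑 : Finset (Subgroup G), (∀ A ∈ 𝓑, A ≠ ⊤) ∧ (∀ g : G, ∃ A ∈ 𝓑, g ∈ A) → 𝓐.card ≤ 𝓑.card) ∧ (∀ A ∈ 𝓐, Group.IsNilpotent ↥A))
    {p : ℕ} (hp : p.Prime) (c : G) (hc : orderOf c = p) (hpp : ¬ p ^ 2 ∣ Nat.card G)
    (M : Subgroup G) (hM : M ≠ ⊤) (hC : ∀ g, g * c = c * g → g ∈ M) (m : G) (hm : m ∈ M)
    (hmc : m * c * m⁻¹ ∉ Subgroup.zpowers c) : False := by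
  haveI := Fact.mk hp
  have hcard : Nat.card (Subgroup.zpowers c) = p ^ 1 := by rw [Nat.card_zpowers, hc, pow_one]
  obtain ⟨P, hP⟩ := (IsPGroup.of_card hcard).exists_le_sylow
  have hPeq : Subgroup.zpowers c = (P : Subgroup G) := by
    refine Subgroup.eq_of_le_of_card_ge hP ?_
    obtain ⟨k, hk⟩ := IsPGroup.iff_card.1 P.isPGroup'
    rw [hcard, hk]
    refine Nat.pow_le_pow_right hp.pos ?_
    by_contra h1
    exact hpp ((pow_dvd_pow p (show 2 ≤ k by omega)).trans (hk ▸ Subgroup.card_subgroup_dvd_card (P : Subgroup G)))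
  have hmN : m ∉ Subgroup.normalizer ((P : Subgroup G) : Set G) := by
    intro h
    rw [← hPeq, Subgroup.mem_normalizer_iff] at h
    exact hmc ((h c).1 (Subgroup.mem_zpowers c))
  have hnn : ¬ (P : Subgroup G).Normal := by
    intro h
    exact hmN (by rw [Subgroup.normalizer_eq_top]; trivial)
  have hcyc : IsCyclic ↥(P : Subgroup G) := hPeq ▸ Subgroup.isCyclic_zpowers c
  obtain ⟨-, -, huniq⟩ := Cfsg.Agent.S3891.result hZ 𝓐 h𝓐 P (Or.inl hcyc) hnn
  obtain hT | ⟨K, hK, hMK⟩ := eq_top_or_exists_le_coatom M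
  · exact hM hT
  · have hCK : Subgroup.centralizer ((P : Subgroup G) : Set G) ≤ K := fun g hg =>
      hMK (hC g (Subgroup.mem_centralizer_iff.1 hg c (hP (Subgroup.mem_zpowers c))).symm)
    exact hmN (huniq K hK hCK ▸ hMK hm)

lemma not_norm {α : Type*} {c t : Perm α} (hcyc : c.IsCycle) {x : α} (hx : c x ≠ x) (hfx : t x = x)
    (hfcx : t (c x) = c x) {a : α} (ha : c a ≠ a) (hta : t a ≠ a) : t * c * t⁻¹ ∉ Subgroup.zpowers c := by
  rintro ⟨k, hk⟩
  simp only at hk
  have hinv : t⁻¹ x = x := by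
    conv_lhs => rw [← hfx]
    exact t.symm_apply_apply x
  have hkx : (c ^ k) x = c x := by
    rw [hk]; simp only [Perm.mul_apply, hinv, hfcx]
  have hk1 : c ^ k = c := by
    ext y
    by_cases hy : c y = y
    · rw [hy, Perm.zpow_apply_eq_self_of_apply_eq_self hy]
    · obtain ⟨i, rfl⟩ := hcyc.exists_zpow_eq hx hy
      have h1 : (c ^ k) ((c ^ i) x) = (c ^ i) ((c ^ k) x) := by
        rw [← Perm.mul_apply, ← Perm.mul_apply, ← zpow_add, ← zpow_add, add_comm]
      have h2 : c ((c ^ i) x) = (c ^ i) (c x) := by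
        rw [← Perm.mul_apply, ← Perm.mul_apply, ← zpow_one_add, ← zpow_add_one, add_comm]
      rw [h1, h2, hkx]
  rw [hk1] at hk
  have hcomm : Commute t c := by
    show t * c = c * t
    calc t * c = t * c * t⁻¹ * t := by group
      _ = c * t := by rw [← hk]
  obtain ⟨i, rfl⟩ := hcyc.exists_zpow_eq hx ha
  apply hta
  rw [← Perm.mul_apply, (hcomm.zpow_right i).eq, Perm.mul_apply, hfx]

lemma center_perm {n : ℕ} (hn : 3 ≤ n) : Subgroup.center (Perm (Fin n)) = ⊥ := by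
  rw [eq_bot_iff]
  intro z hz
  rw [Subgroup.mem_bot]
  ext a
  rw [Perm.one_apply]
  by_contra h
  have hne : z a ≠ a := fun e => h (by rw [e])
  obtain ⟨b, hb⟩ : ∃ b : Fin n, b ∉ ({a, z a} : Finset (Fin n)) := by
    by_contra hh
    push Not at hh
    have : (Finset.univ : Finset (Fin n)).card ≤ ({a, z a} : Finset (Fin n)).card :=
      Finset.card_le_card fun y _ => hh y
    simp only [Finset.card_univ, Fintype.card_fin] at this
    have := Finset.card_le_two (a := a) (b := z a)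
    omega
  simp only [Finset.mem_insert, Finset.mem_singleton, not_or] at hb
  have := congrArg (fun f : Perm (Fin n) => f a) (Subgroup.mem_center_iff.1 hz (Equiv.swap a b))
  simp only [Perm.mul_apply, Equiv.swap_apply_left] at this
  rw [Equiv.swap_apply_of_ne_of_ne hne (fun e => hb.2 e.symm)] at this
  exact hb.1 (z.injective this).symm

lemma exists_prime_n {n : ℕ} (hn : 6 ≤ n) : ∃ p, p.Prime ∧ 5 ≤ p ∧ p < n ∧ n < 2 * p := by
  obtain ⟨p, hp, h1, h2⟩ := Nat.exists_prime_lt_and_le_two_mul (n / 2) (by omega)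
  have hodd : p % 2 = 1 := (Nat.Prime.eq_two_or_odd hp).resolve_left (by omega)
  have h4 : p ≠ 4 := by rintro rfl; norm_num at hp
  exact ⟨p, hp, by omega, by omega, by omega⟩

/-- A set stabiliser containing the centraliser of `c` and an element not normalising `⟨c⟩`. -/
lemma data {n p : ℕ} (hp : p.Prime) (h5 : 5 ≤ p) (hpn : p < n) (h2 : n < 2 * p) :
    ∃ (c : Perm (Fin n)) (M : Subgroup (Perm (Fin n))) (m s : Perm (Fin n)), orderOf c = p ∧
      c ∈ alternatingGroup (Fin n) ∧ (∀ g, g * c = c * g → g ∈ M) ∧ m ∈ M ∧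
      m ∈ alternatingGroup (Fin n) ∧ m * c * m⁻¹ ∉ Subgroup.zpowers c ∧
      s ∈ alternatingGroup (Fin n) ∧ s ∉ M := by
  haveI := Fact.mk hp
  obtain ⟨c, hc⟩ := exists_prime_orderOf_dvd_card' (G := Perm (Fin n)) p
    (by rw [Nat.card_perm, Nat.card_fin]; exact (hp.dvd_factorial).2 hpn.le)
  have hcyc : c.IsCycle := Perm.isCycle_of_prime_order' (by rw [hc]; exact hp)
    (by rw [hc, Fintype.card_fin]; exact h2)
  have hsupp : c.support.card = p := by rw [← hcyc.orderOf, hc]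
  have hceven : c ∈ alternatingGroup (Fin n) := by
    rw [Perm.mem_alternatingGroup]
    rcases Int.units_eq_one_or (Perm.sign c) with h | h
    · exact h
    · have h1 : (Perm.sign c) ^ p = 1 := by
        rw [← map_pow, ← hc, pow_orderOf_eq_one, map_one]
      rw [h, (hp.odd_of_ne_two (by omega)).neg_one_pow] at h1
      exact absurd h1 (by decide)
  let M : Subgroup (Perm (Fin n)) :=
    { carrier := {σ | ∀ x, σ x ∈ c.support ↔ x ∈ c.support}
      one_mem' := fun x => Iff.rfl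
      mul_mem' := fun {a b} ha hb x => (ha (b x)).trans (hb x)
      inv_mem' := fun {a} ha x => by
        have := ha (a⁻¹ x)
        rwa [← Perm.mul_apply, mul_inv_cancel, Perm.one_apply, Iff.comm] at this }
  obtain ⟨x, hx⟩ : c.support.Nonempty := Finset.card_pos.1 (by omega)
  have hcx : c x ∈ c.support := Perm.apply_mem_support.2 hx
  have hcard3 : 3 ≤ (c.support \ {x, c x}).card := by
    have h := Finset.le_card_sdiff ({x, c x} : Finset (Fin n)) c.support
    have := Finset.card_le_two (a := x) (b := c x)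
    omega
  obtain ⟨a, ha, b, hb, e, he, hab, hae, hbe⟩ :=
    Finset.two_lt_card.1 (show 2 < (c.support \ {x, c x}).card by omega)
  simp only [Finset.mem_sdiff, Finset.mem_insert, Finset.mem_singleton, not_or] at ha hb he
  obtain ⟨d, hd⟩ : ∃ d, d ∉ c.support := by
    by_contra hh
    push Not at hh
    have := Finset.card_le_card (s := (Finset.univ : Finset (Fin n))) (t := c.support) fun y _ => hh y
    simp only [Finset.card_univ, Fintype.card_fin] at this
    omega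
  have had : a ≠ d := fun h => hd (h ▸ ha.1)
  have hbd : b ≠ d := fun h => hd (h ▸ hb.1)
  have hev : ∀ u v w : Fin n, u ≠ v → u ≠ w →
      Equiv.swap u v * Equiv.swap u w ∈ alternatingGroup (Fin n) := fun u v w h1 h2 => by
    rw [Perm.mem_alternatingGroup, map_mul, Perm.sign_swap h1, Perm.sign_swap h2]; decide
  refine ⟨c, M, Equiv.swap a b * Equiv.swap a e, Equiv.swap a b * Equiv.swap a d, hc, hceven, ?_, ?_,
    hev a b e hab hae, ?_, hev a b d hab had, ?_⟩
  · intro g hg y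
    rw [Perm.mem_support, Perm.mem_support, ← Perm.mul_apply, ← hg, Perm.mul_apply]
    exact g.injective.ne_iff
  · have hsw : ∀ u v, u ∈ c.support → v ∈ c.support → Equiv.swap u v ∈ M := by
      intro u v hu hv y
      show Equiv.swap u v y ∈ c.support ↔ y ∈ c.support
      rw [Equiv.swap_apply_def]
      split_ifs with h1 h2
      · simp only [h1, hu, hv]
      · simp only [h2, hu, hv]
      · rfl
    exact M.mul_mem (hsw a b ha.1 hb.1) (hsw a e ha.1 he.1)
  · refine not_norm hcyc (Perm.mem_support.1 hx) ?_ ?_ (a := a) (Perm.mem_support.1 ha.1) ?_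
    · rw [Perm.mul_apply, Equiv.swap_apply_of_ne_of_ne (Ne.symm ha.2.1) (Ne.symm he.2.1),
        Equiv.swap_apply_of_ne_of_ne (Ne.symm ha.2.1) (Ne.symm hb.2.1)]
    · rw [Perm.mul_apply, Equiv.swap_apply_of_ne_of_ne (Ne.symm ha.2.2) (Ne.symm he.2.2),
        Equiv.swap_apply_of_ne_of_ne (Ne.symm ha.2.2) (Ne.symm hb.2.2)]
    · rw [Perm.mul_apply, Equiv.swap_apply_left, Equiv.swap_apply_of_ne_of_ne hae.symm hbe.symm]
      exact hae.symm
  · intro hs
    have := (hs a).2 ha.1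
    rw [Perm.mul_apply, Equiv.swap_apply_left, Equiv.swap_apply_of_ne_of_ne had.symm hbd.symm] at this
    exact hd this

lemma crit_alt {n p : ℕ} (hn : 4 ≤ n) (h2 : n < 2 * p) (𝓐 : Finset (Subgroup ↥(alternatingGroup (Fin n))))
    (h𝓐 : ((∀ A ∈ 𝓐, A ≠ ⊤) ∧ (∀ g : ↥(alternatingGroup (Fin n)), ∃ A ∈ 𝓐, g ∈ A)) ∧ (∀ 𝓑 : Finset (Subgroup ↥(alternatingGroup (Fin n))), (∀ A ∈ 𝓑, A ≠ ⊤) ∧ (∀ g : ↥(alternatingGroup (Fin n)), ∃ A ∈ 𝓑, g ∈ A) → 𝓐.card ≤ 𝓑.card) ∧ (∀ A ∈ 𝓐, Group.IsNilpotent ↥A))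
    (hp : p.Prime) (c m s : ↥(alternatingGroup (Fin n))) (hc : orderOf c = p)
    (M : Subgroup ↥(alternatingGroup (Fin n))) (hs : s ∉ M) (hC : ∀ g, g * c = c * g → g ∈ M)
    (hm : m ∈ M) (hmc : m * c * m⁻¹ ∉ Subgroup.zpowers c) : False := by
  refine crit (alternatingGroup.center_eq_bot (by rw [Nat.card_fin]; exact hn)) 𝓐 h𝓐 hp c hc (fun h => ?_) M
    (fun h => hs (h ▸ Subgroup.mem_top s)) hC m hm hmc
  have h3 := h.trans (Subgroup.card_subgroup_dvd_card (alternatingGroup (Fin n)))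
  rw [Nat.card_perm, Nat.card_fin] at h3
  exact not_sq_dvd_factorial hp n h2 h3

lemma crit_sym {n p : ℕ} (hn : 3 ≤ n) (h2 : n < 2 * p) (𝓐 : Finset (Subgroup (Perm (Fin n))))
    (h𝓐 : ((∀ A ∈ 𝓐, A ≠ ⊤) ∧ (∀ g : (Equiv.Perm (Fin n)), ∃ A ∈ 𝓐, g ∈ A)) ∧ (∀ 𝓑 : Finset (Subgroup (Equiv.Perm (Fin n))), (∀ A ∈ 𝓑, A ≠ ⊤) ∧ (∀ g : (Equiv.Perm (Fin n)), ∃ A ∈ 𝓑, g ∈ A) → 𝓐.card ≤ 𝓑.card) ∧ (∀ A ∈ 𝓐, Group.IsNilpotent ↥A))
    (hp : p.Prime) (c m s : Perm (Fin n)) (hc : orderOf c = p)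
    (M : Subgroup (Perm (Fin n))) (hs : s ∉ M) (hC : ∀ g, g * c = c * g → g ∈ M)
    (hm : m ∈ M) (hmc : m * c * m⁻¹ ∉ Subgroup.zpowers c) : False := by
  refine crit (center_perm hn) 𝓐 h𝓐 hp c hc (fun h => ?_) M (fun h => hs (h ▸ Subgroup.mem_top s)) hC m hm hmc
  rw [Nat.card_perm, Nat.card_fin] at h
  exact not_sq_dvd_factorial hp n h2 h

lemma not_zpowers_of_not_commute {G : Type*} [Group G] {c d : G} (h : d * c ≠ c * d) :
    d ∉ Subgroup.zpowers c := by
  rintro ⟨k, rfl⟩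
  exact h ((Commute.refl c).zpow_left k).eq

/-- A cover of a group is a finite set of proper subgroups whose union is the whole group; it is minimal when no cover has fewer members, and nilpotent when all its members are nilpotent. The alternating groups of degree at least 5 and the symmetric groups of degree at least 4 have no nilpotent minimal cover. -/
theorem result (n : ℕ) :
    (5 ≤ n → ¬ ∃ 𝓐 : Finset (Subgroup ↥(alternatingGroup (Fin n))), ((∀ A ∈ 𝓐, A ≠ ⊤) ∧ (∀ g : ↥(alternatingGroup (Fin n)), ∃ A ∈ 𝓐, g ∈ A)) ∧ (∀ 𝓑 : Finset (Subgroup ↥(alternatingGroup (Fin n))), (∀ A ∈ 𝓑, A ≠ ⊤) ∧ (∀ g : ↥(alternatingGroup (Fin n)), ∃ A ∈ 𝓑, g ∈ A) → 𝓐.card ≤ 𝓑.card) ∧ (∀ A ∈ 𝓐, Group.IsNilpotent ↥A)) ∧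
    (4 ≤ n → ¬ ∃ 𝓐 : Finset (Subgroup (Equiv.Perm (Fin n))), ((∀ A ∈ 𝓐, A ≠ ⊤) ∧ (∀ g : (Equiv.Perm (Fin n)), ∃ A ∈ 𝓐, g ∈ A)) ∧ (∀ 𝓑 : Finset (Subgroup (Equiv.Perm (Fin n))), (∀ A ∈ 𝓑, A ≠ ⊤) ∧ (∀ g : (Equiv.Perm (Fin n)), ∃ A ∈ 𝓑, g ∈ A) → 𝓐.card ≤ 𝓑.card) ∧ (∀ A ∈ 𝓐, Group.IsNilpotent ↥A)) := by
  constructor
  · rintro hn ⟨𝓐, h⟩
    rcases (show n = 5 ∨ 6 ≤ n by omega) with rfl | h6
    · let c : ↥(alternatingGroup (Fin 5)) := ⟨Equiv.swap 0 1 * Equiv.swap 1 2, Perm.mem_alternatingGroup.2 (by decide)⟩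
      let m : ↥(alternatingGroup (Fin 5)) := ⟨Equiv.swap 0 1 * Equiv.swap 2 4, Perm.mem_alternatingGroup.2 (by decide)⟩
      let s : ↥(alternatingGroup (Fin 5)) := ⟨Equiv.swap 0 1 * Equiv.swap 3 4, Perm.mem_alternatingGroup.2 (by decide)⟩
      have hc : orderOf c = 3 :=
        haveI : Fact (Nat.Prime 3) := ⟨by norm_num⟩
        orderOf_eq_prime (Subtype.ext (by decide)) (fun e => absurd (congrArg Subtype.val e) (by decide))
      refine crit_alt (by omega) (by omega) 𝓐 h (p := 3) (by norm_num) c m s hc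
        ((MulAction.stabilizer (Perm (Fin 5)) (3 : Fin 5)).subgroupOf (alternatingGroup (Fin 5))) ?_ ?_ ?_
        (not_zpowers_of_not_commute (fun e => absurd (congrArg Subtype.val e) (by decide)))
      · show ¬ ((s : Perm (Fin 5)) 3 = 3)
        decide
      · have key : ∀ g : Perm (Fin 5), Perm.sign g = 1 →
            g * (Equiv.swap 0 1 * Equiv.swap 1 2) = (Equiv.swap 0 1 * Equiv.swap 1 2) * g → g 3 = 3 := by
          decide
        exact fun g hg => key g g.2 (congrArg Subtype.val hg)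
      · show (m : Perm (Fin 5)) 3 = 3
        decide
    · obtain ⟨p, hp, h5, hpn, h2⟩ := exists_prime_n h6
      obtain ⟨c, M, m, s, hc, hcA, hC, hm, hmA, hmc, hsA, hs⟩ := data hp h5 hpn h2
      refine crit_alt (by omega) h2 𝓐 h hp ⟨c, hcA⟩ ⟨m, hmA⟩ ⟨s, hsA⟩
        ((Subgroup.orderOf_mk c hcA).trans hc) (M.subgroupOf (alternatingGroup (Fin n))) hs
        (fun g hg => hC g (congrArg Subtype.val hg)) hm ?_
      rintro ⟨k, hk⟩
      exact hmc ⟨k, congrArg Subtype.val hk⟩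
  · rintro hn ⟨𝓐, h⟩
    rcases (show n = 4 ∨ n = 5 ∨ 6 ≤ n by omega) with rfl | rfl | h6
    · have hc : orderOf (Equiv.swap (0 : Fin 4) 1 * Equiv.swap 1 2) = 3 :=
        haveI : Fact (Nat.Prime 3) := ⟨by norm_num⟩
        orderOf_eq_prime (by decide) (by decide)
      refine crit_sym (by omega) (by omega) 𝓐 h (p := 3) (by norm_num) _
        (Equiv.swap (0 : Fin 4) 1 * Equiv.swap 2 3) (Equiv.swap (0 : Fin 4) 1) hc (alternatingGroup (Fin 4))
        (fun h' => absurd (Perm.mem_alternatingGroup.1 h') (by decide)) ?_ (Perm.mem_alternatingGroup.2 (by decide)) (not_zpowers_of_not_commute (by decide))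
      intro g
      rw [Perm.mem_alternatingGroup]
      revert g
      decide
    · have hc : orderOf (finRotate 5) = 5 :=
        haveI : Fact (Nat.Prime 5) := ⟨by norm_num⟩
        orderOf_eq_prime (by decide) (by decide)
      refine crit_sym (by omega) (by omega) 𝓐 h (p := 5) (by norm_num) _
        (Equiv.swap (0 : Fin 5) 1 * Equiv.swap 0 2) (Equiv.swap (0 : Fin 5) 1) hc (alternatingGroup (Fin 5))
        (fun h' => absurd (Perm.mem_alternatingGroup.1 h') (by decide)) ?_ (Perm.mem_alternatingGroup.2 (by decide)) (not_zpowers_of_not_commute (by decide))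
      intro g
      rw [Perm.mem_alternatingGroup]
      revert g
      decide
    · obtain ⟨p, hp, h5, hpn, h2⟩ := exists_prime_n h6
      obtain ⟨c, M, m, s, hc, -, hC, hm, -, hmc, -, hs⟩ := data hp h5 hpn h2
      exact crit_sym (by omega) h2 𝓐 h hp c m s hc M hs hC hm hmc

end Cfsg.Agent.S3892
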