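import Cfsg.Statements.S3895
import Cfsg.Agent.Solv.PComplement
import Cfsg.Agent.Solv.ClassCount
import Cfsg.Agent.Base.ZStar.Holds
import Mathlib

set_option autoImplicit false
open Cfsg

namespace Cfsg.Agent.S3895

universe u

open CfsgLib.Solv

variable {G : Type u} [Group G] [Finite G]

theorem pi_inj {T : Subgroup G} (hT : IsPGroup 2 T) {a b : G} (ha : a ∈ T) (hb : b ∈ T)
    (h : (a : G ⧸ Cfsg.oddCore G) = b) : a = b := by
  have h1 : a⁻¹ * b ∈ Cfsg.oddCore G := QuotientGroup.eq.1 h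
  obtain ⟨k, hk⟩ := IsPGroup.iff_orderOf.1 hT ⟨_, mul_mem (inv_mem ha) hb⟩
  rw [Subgroup.orderOf_mk] at hk
  have h2 : orderOf (a⁻¹ * b) ∣ Nat.card (Cfsg.oddCore G) := Subgroup.orderOf_dvd_natCard _ h1
  have h3 : orderOf (a⁻¹ * b) = 1 := Nat.eq_one_of_dvd_coprimes
    ((Nat.coprime_two_left.2 CfsgLib.Base.ZStar.odd_card_oddCore).pow_left k) hk.dvd h2
  exact inv_mul_eq_one.1 (orderOf_eq_one_iff.1 h3)

/-- Elements of `P` with conjugate images modulo `O(G)` are conjugate. -/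
theorem isConj_of_quot (P : Sylow 2 G) {a b : G} (ha : a ∈ P) (hb : b ∈ P)
    [(Cfsg.oddCore G).Normal]
    (h : IsConj (QuotientGroup.mk' (Cfsg.oddCore G) a) (QuotientGroup.mk' (Cfsg.oddCore G) b)) :
    IsConj a b := by
  haveI : Fact (Nat.Prime 2) := ⟨Nat.prime_two⟩
  obtain ⟨gb, hgb⟩ := isConj_iff.1 h
  obtain ⟨g, rfl⟩ := QuotientGroup.mk'_surjective (Cfsg.oddCore G) gb
  rw [← map_inv, ← map_mul, ← map_mul] at hgb
  set w := g * a * g⁻¹ with hw
  set U := (P : Subgroup G) ⊔ Cfsg.oddCore G with hU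
  have hwU : w ∈ U := by
    have h1 : b⁻¹ * w ∈ Cfsg.oddCore G := QuotientGroup.eq.1 hgb.symm
    have := mul_mem (Subgroup.mem_sup_left (T := Cfsg.oddCore G) hb) (Subgroup.mem_sup_right h1)
    simpa using this
  have hwp : IsPGroup 2 (Subgroup.zpowers w) :=
    (P.isPGroup'.to_le (Subgroup.zpowers_le.2 ha)).map (MulAut.conj g).toMonoidHom |>.to_le
      (Subgroup.zpowers_le.2 ⟨a, Subgroup.mem_zpowers a, rfl⟩)
  obtain ⟨T, hT⟩ := (hwp.comap_subtype (K := U)).exists_le_sylow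
  obtain ⟨v, hv⟩ := MulAction.exists_smul_eq U T (P.subtype le_sup_left)
  have hvm : v * ⟨w, hwU⟩ * v⁻¹ ∈ P.subtype (le_sup_left : (P : Subgroup G) ≤ U) := by
    rw [← hv]
    exact Subgroup.mem_map_of_mem _ (hT (Subgroup.mem_zpowers _))
  have hvm' : (v : G) * w * (v : G)⁻¹ ∈ (P : Subgroup G) := hvm
  obtain ⟨s, hs, o, ho, hso⟩ := Subgroup.mem_sup_of_normal_right.1 v.2
  have he : ((v : G) * w * (v : G)⁻¹ : G) = s * b * s⁻¹ := by
    refine pi_inj P.isPGroup' hvm' (mul_mem (mul_mem hs hb) (inv_mem hs)) ?_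
    show QuotientGroup.mk' (Cfsg.oddCore G) _ = QuotientGroup.mk' (Cfsg.oddCore G) _
    have hπo : QuotientGroup.mk' (Cfsg.oddCore G) o = 1 := (QuotientGroup.eq_one_iff o).2 ho
    rw [← hso]
    simp only [map_mul, map_inv, hπo, mul_one]
    rw [hgb]
  refine isConj_iff.2 ⟨s⁻¹ * v * g, ?_⟩
  calc (s⁻¹ * v * g) * a * (s⁻¹ * v * g)⁻¹ = s⁻¹ * ((v : G) * w * (v : G)⁻¹) * s := by rw [hw]; group
    _ = b := by rw [he]; group

theorem two_mul_le (P : Sylow 2 G) (hn : ¬ Cfsg.HasNormalPComplement 2 G)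
    (F : ↥(P : Subgroup G) → ConjClasses G) (hF : ∀ x, F x = ConjClasses.mk (x : G)) :
    2 * Nat.card (Set.range F) ≤ Nat.card ↥(P : Subgroup G) := by
  classical
  haveI : Fact (Nat.Prime 2) := ⟨Nat.prime_two⟩
  haveI hO : (Cfsg.oddCore G).Normal := CfsgLib.Fus.normal_pPrimeCore 2
  set π := QuotientGroup.mk' (Cfsg.oddCore G) with hπ
  have hsurj : Function.Surjective π := QuotientGroup.mk'_surjective _
  set Z : Subgroup ↥(P : Subgroup G) :=
    (Subgroup.center (G ⧸ Cfsg.oddCore G)).comap (π.comp (P : Subgroup G).subtype) with hZ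
  have hsingle : ∀ x, x ∈ Z ↔ ∀ y, F y = F x → y = x := by
    intro x
    constructor
    · intro hx y hy
      rw [hF, hF, ConjClasses.mk_eq_mk_iff_isConj, isConj_iff] at hy
      obtain ⟨g, hg⟩ := hy
      refine Subtype.ext (pi_inj P.isPGroup' y.2 x.2 ?_)
      have h1 : π (g⁻¹ * (x : G) * g) = π x := by
        have hx' : π (x : G) ∈ Subgroup.center (G ⧸ Cfsg.oddCore G) := hx
        rw [map_mul, map_mul, map_inv, Subgroup.mem_center_iff.1 hx' (π g)⁻¹, mul_assoc, inv_mul_cancel, mul_one]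
      rw [← hg, show g⁻¹ * (g * (y : G) * g⁻¹) * g = y by group, hg] at h1
      exact h1
    · intro h
      refine CfsgLib.Base.ZStar.weaklyClosed_central CfsgLib.Base.ZStar.holds _ _ (P.mapSurjective hsurj)
        (π (x : G)) le_rfl (Subgroup.mem_map_of_mem π x.2) (CfsgLib.Fus.pPrimeCore_quotient_eq_bot 2) fun g hg => ?_
      obtain ⟨s, hs, hse⟩ := Subgroup.mem_map.1 hg
      have h1 : IsConj s (x : G) :=
        isConj_of_quot P hs x.2 (by rw [hse]; exact (isConj_iff.2 ⟨g, rfl⟩).symm)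
      have h2 := h ⟨s, hs⟩ (by rw [hF, hF]; exact ConjClasses.mk_eq_mk_iff_isConj.2 h1)
      rw [← hse]
      exact congrArg π (congrArg Subtype.val h2)
  -- an element fused to three cosets of `Z`
  obtain ⟨x, y, hy, d⟩ : ∃ (x : ↥(P : Subgroup G)) (y : Fin 3 → ↥(P : Subgroup G)),
      (∀ i, IsConj (x : G) (y i)) ∧ ∀ i j, (y i)⁻¹ * y j ∈ Z → i = j := by
    rw [hnpc_iff_frobCond, FrobCond] at hn
    push Not at hn
    obtain ⟨Q, hQ, g, hg, hgc, hgQ⟩ := hn
    rw [Subgroup.mem_centralizer_iff] at hgQ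
    push Not at hgQ
    obtain ⟨q, hq, hne⟩ := hgQ
    obtain ⟨R, hR⟩ := hQ.exists_le_sylow
    obtain ⟨a, ha⟩ := MulAction.exists_smul_eq G R P
    have hin : ∀ w ∈ Q, a * w * a⁻¹ ∈ (P : Subgroup G) := fun w hw => by
      rw [← ha, Sylow.coe_subgroup_smul, mem_conj_smul_iff]
      simpa [mul_assoc] using hR hw
    have hgi : ∀ i : ℕ, g ^ i * q * (g ^ i)⁻¹ ∈ Q := fun i => (Subgroup.mem_normalizer_iff.1 (pow_mem hg i) q).1 hq
    have hodd : Odd (orderOf g) := Nat.coprime_two_right.1 hgc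
    refine ⟨⟨_, hin q hq⟩, fun i => ⟨_, hin _ (hgi i)⟩, fun i => isConj_iff.2 ⟨a * g ^ (i : ℕ) * a⁻¹, ?_⟩, ?_⟩
    · show a * g ^ (i : ℕ) * a⁻¹ * (a * q * a⁻¹) * (a * g ^ (i : ℕ) * a⁻¹)⁻¹ = a * (g ^ (i : ℕ) * q * (g ^ (i : ℕ))⁻¹) * a⁻¹
      group
    -- a shift by `Z` is trivial
    have main : ∀ k : ℕ, k ≠ 0 → k < 3 → ∀ t : ↥(P : Subgroup G), t ∈ Z → ∀ i : ℕ,
        a * (g ^ (i + k) * q * (g ^ (i + k))⁻¹) * a⁻¹ = a * (g ^ i * q * (g ^ i)⁻¹) * a⁻¹ * t → False := by
      intro k hk hk3 t ht i he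
      set w := a * (g ^ i * q * (g ^ i)⁻¹) * a⁻¹ with hw
      set h := a * g ^ k * a⁻¹ with hh
      have hwh : h * w * h⁻¹ = w * t := by rw [← he, hw, hh, pow_add, (Commute.pow_pow_self g i k).eq]; group
      have ht' : π (t : G) ∈ Subgroup.center (G ⧸ Cfsg.oddCore G) := ht
      have hiter : ∀ m : ℕ, π (h ^ m * w * (h ^ m)⁻¹) = π w * π t ^ m := by
        intro m
        induction m with
        | zero => simp
        | succ m ihm =>
          rw [show h ^ (m + 1) * w * (h ^ (m + 1))⁻¹ = h * (h ^ m * w * (h ^ m)⁻¹) * h⁻¹ by rw [pow_succ']; group,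
            map_mul, map_mul, ihm, map_inv, show π h * (π w * π t ^ m) * (π h)⁻¹ = (π h * π w * (π h)⁻¹) * π t ^ m by
              rw [← mul_assoc, mul_assoc (π h * π w), ← Subgroup.mem_center_iff.1 (pow_mem ht' m) (π h)⁻¹]; group,
            ← map_inv, ← map_mul, ← map_mul, hwh, map_mul, pow_succ', mul_assoc]
      have hho : h ^ orderOf g = 1 := by
        rw [hh, conj_pow, ← pow_mul, mul_comm, pow_mul, pow_orderOf_eq_one, one_pow, mul_one, mul_inv_cancel]
      have h5 := hiter (orderOf g)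
      rw [hho, one_mul, inv_one, mul_one, left_eq_mul, ← map_pow] at h5
      have h6 : (t : G) ^ orderOf g = 1 :=
        pi_inj P.isPGroup' (pow_mem t.2 _) (one_mem _) (h5.trans (map_one π).symm)
      obtain ⟨e, hte⟩ := IsPGroup.iff_orderOf.1 P.isPGroup' t
      rw [← Subgroup.orderOf_coe] at hte
      have h7 : orderOf (t : G) = 1 := Nat.eq_one_of_dvd_coprimes ((Nat.coprime_two_left.2 hodd).pow_left e)
        hte.dvd (orderOf_dvd_of_pow_eq_one h6)
      rw [orderOf_eq_one_iff.1 h7, mul_one, hh, hw] at hwh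
      have h8 : g ^ k * q = q * g ^ k := by
        have h9 : g ^ i * (g ^ k * q * (g ^ k)⁻¹) * (g ^ i)⁻¹ = g ^ i * q * (g ^ i)⁻¹ := by
          apply mul_left_cancel (a := a); apply mul_right_cancel (b := a⁻¹)
          rw [← hwh]
          calc _ = a * g ^ (i + k) * q * (g ^ (i + k))⁻¹ * a⁻¹ := by rw [pow_add]; group
            _ = _ := by rw [pow_add, (Commute.pow_pow_self g i k).eq]; group
        exact mul_inv_eq_iff_eq_mul.1 (mul_left_cancel (mul_right_cancel h9))
      have hk2 : k.Coprime (orderOf g) := by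
        interval_cases k
        · exact absurd rfl hk
        · exact Nat.coprime_one_left _
        · exact Nat.coprime_two_left.2 hodd
      obtain ⟨m, hm⟩ := exists_pow_eq_self_of_coprime hk2
      refine hne ?_
      rw [← hm]
      exact ((show Commute (g ^ k) q from h8).pow_left m).symm.eq
    intro i j hij
    by_contra hne'
    rcases lt_or_gt_of_ne (Fin.val_ne_of_ne hne') with hlt | hlt
    · obtain ⟨k, hk⟩ := Nat.exists_eq_add_of_lt hlt
      refine main (k + 1) (Nat.succ_ne_zero _) (by omega) _ hij i ?_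
      rw [← add_assoc, ← hk]
      simp only [Subgroup.coe_mul, Subgroup.coe_inv, mul_inv_cancel_left]
    · obtain ⟨k, hk⟩ := Nat.exists_eq_add_of_lt hlt
      refine main (k + 1) (Nat.succ_ne_zero _) (by omega) _ (inv_mem hij) j ?_
      rw [← add_assoc, ← hk]
      simp only [Subgroup.coe_mul, Subgroup.coe_inv, mul_inv_rev, inv_inv]
      group
  -- counting
  haveI : Fintype ↥(P : Subgroup G) := Fintype.ofFinite _
  set K := Finset.univ.image F with hK
  have hcK : Nat.card (Set.range F) = K.card := by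
    rw [hK, ← Set.toFinset_range, Nat.card_eq_card_toFinset]
  let fib : ConjClasses G → ℕ := fun c => (Finset.univ.filter fun w => F w = c).card
  have hsum : Nat.card ↥(P : Subgroup G) = ∑ c ∈ K, fib c := by
    rw [Nat.card_eq_fintype_card, ← Finset.card_univ]
    exact Finset.card_eq_sum_card_image F Finset.univ
  have hpos : ∀ c ∈ K, 1 ≤ fib c := fun c hc => by
    obtain ⟨w, -, rfl⟩ := Finset.mem_image.1 hc
    exact Finset.card_pos.2 ⟨w, by simp⟩
  set K1 := K.filter fun c => fib c = 1 with hK1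
  set K3 := (Finset.univ.filter fun w => w ∈ Z).image fun z => F (x * z) with hK3
  set nZ := (Finset.univ.filter fun w => w ∈ Z).card with hnZ
  have hfy : ∀ i z, z ∈ Z → F (y i * z) = F (x * z) := by
    intro i z hz
    rw [hF, hF, ConjClasses.mk_eq_mk_iff_isConj]
    refine (isConj_of_quot P (SetLike.coe_mem _) (SetLike.coe_mem _) ?_)
    obtain ⟨g, hg⟩ := isConj_iff.1 (hy i)
    refine (isConj_iff.2 ⟨π g, ?_⟩).symm
    have hz' : π (z : G) ∈ Subgroup.center (G ⧸ Cfsg.oddCore G) := hz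
    rw [Subgroup.coe_mul, Subgroup.coe_mul, map_mul, map_mul, ← hg, map_mul, map_mul, map_inv]
    calc π g * (π (x : G) * π (z : G)) * (π g)⁻¹ = π g * π (x : G) * (π (z : G) * (π g)⁻¹) := by group
      _ = π g * π (x : G) * ((π g)⁻¹ * π (z : G)) := by rw [Subgroup.mem_center_iff.1 hz' (π g)⁻¹]
      _ = _ := by simp only [hπ]; group
  have h1 : K1.card ≤ nZ := by
    refine (Finset.card_le_card (t := (Finset.univ.filter fun w => w ∈ Z).image F) fun c hc => ?_).trans
      Finset.card_image_le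
    rw [hK1, Finset.mem_filter] at hc
    obtain ⟨w, -, rfl⟩ := Finset.mem_image.1 hc.1
    refine Finset.mem_image.2 ⟨w, Finset.mem_filter.2 ⟨Finset.mem_univ _, (hsingle w).2 fun v hv => ?_⟩, rfl⟩
    exact Finset.card_le_one.1 hc.2.le v (by simp [hv]) w (by simp)
  have h3 : ∀ c ∈ K3, c ∈ K ∧ 3 ≤ fib c := by
    intro c hc
    obtain ⟨z, hz, rfl⟩ := Finset.mem_image.1 hc
    rw [Finset.mem_filter] at hz
    refine ⟨Finset.mem_image_of_mem _ (Finset.mem_univ _), ?_⟩
    refine le_trans (by simp) (Finset.card_le_card_of_injOn (s := (Finset.univ : Finset (Fin 3))) (fun i => y i * z)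
      (fun i _ => by simp [hfy i z hz.2]) (fun i _ j _ e => d i j ?_))
    rw [mul_right_cancel e, inv_mul_cancel]; exact one_mem Z
  have h4 : 3 * nZ ≤ ∑ c ∈ K3, fib c := by
    rw [← Finset.card_biUnion fun a _ b _ hab => Finset.disjoint_left.2 fun w hw hw' =>
      hab ((Finset.mem_filter.1 hw).2.symm.trans (Finset.mem_filter.1 hw').2)]
    refine le_trans (by rw [Finset.card_product, Finset.card_univ, Fintype.card_fin]) (Finset.card_le_card_of_injOn
      (s := (Finset.univ : Finset (Fin 3)) ×ˢ (Finset.univ.filter fun w => w ∈ Z)) (fun iz => y iz.1 * iz.2) ?_ ?_)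
    · rintro ⟨i, z⟩ hiz
      simp only [Finset.coe_product, Set.mem_prod, Finset.mem_coe, Finset.mem_filter, Finset.mem_univ, true_and] at hiz
      simp only [Finset.coe_biUnion, Set.mem_iUnion, Finset.mem_coe, Finset.mem_filter, Finset.mem_univ, true_and]
      exact ⟨F (x * z), Finset.mem_image_of_mem _ (Finset.mem_filter.2 ⟨Finset.mem_univ _, hiz⟩), hfy i z hiz⟩
    · rintro ⟨i, z⟩ hiz ⟨j, z'⟩ hjz e
      simp only [Finset.coe_product, Set.mem_prod, Finset.mem_coe, Finset.mem_filter, Finset.mem_univ, true_and] at hiz hjz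
      have hij : i = j := d i j (by
        rw [show (y i)⁻¹ * y j = z * z'⁻¹ by
          rw [eq_mul_inv_iff_mul_eq, mul_assoc, inv_mul_eq_iff_eq_mul]; exact e.symm]
        exact mul_mem hiz (inv_mem hjz))
      subst hij
      exact Prod.ext rfl (mul_left_cancel e)
  have h5 : K3 ⊆ K := fun c hc => (h3 c hc).1
  have e1 : K1.card = ∑ c ∈ K \ K3, if fib c = 1 then 1 else 0 := by
    rw [← Finset.card_filter]
    congr 1
    ext c
    simp only [hK1, Finset.mem_filter, Finset.mem_sdiff]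
    exact ⟨fun hc => ⟨⟨hc.1, fun h => by have := (h3 c h).2; omega⟩, hc.2⟩, fun hc => ⟨hc.1.1, hc.2⟩⟩
  have e2 : 2 * (K \ K3).card ≤ ∑ c ∈ K \ K3, (fib c + if fib c = 1 then 1 else 0) := by
    rw [mul_comm, ← smul_eq_mul, ← Finset.sum_const]
    refine Finset.sum_le_sum fun c hc => ?_
    have := hpos c (Finset.mem_sdiff.1 hc).1
    split <;> omega
  rw [Finset.sum_add_distrib, ← e1] at e2
  have e3 : 3 * K3.card ≤ ∑ c ∈ K3, fib c := by
    rw [mul_comm, ← smul_eq_mul, ← Finset.sum_const]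
    exact Finset.sum_le_sum fun c hc => (h3 c hc).2
  have e4 := Finset.card_sdiff_add_card_eq_card h5
  rw [← Finset.sum_sdiff h5] at hsum
  rw [hcK, hsum]
  omega


/-- Let G be a finite group with Sylow 2-subgroup P, and write k₂(G) for the number of conjugacy classes of G consisting of 2-elements (elements of 2-power order, the identity included). Then k₂(G) > |P|/2 if and only if G has a normal 2-complement and P has more than |P|/2 conjugacy classes. -/
theorem result {G : Type*} [Group G] [Finite G] (P : Sylow 2 G) :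
    Nat.card ↥(P : Subgroup G) < 2 * Nat.card {c : ConjClasses G // ∀ x ∈ c.carrier, ∃ k : ℕ, orderOf x = 2 ^ k} ↔
      Cfsg.HasNormalPComplement 2 G ∧ Nat.card ↥(P : Subgroup G) < 2 * Nat.card (ConjClasses ↥(P : Subgroup G)) := by
  classical
  haveI : Fact (Nat.Prime 2) := ⟨Nat.prime_two⟩
  let F : ↥(P : Subgroup G) → ConjClasses G := fun x => ConjClasses.mk (x : G)
  have hset : {c : ConjClasses G | ∀ x ∈ c.carrier, ∃ k : ℕ, orderOf x = 2 ^ k} = Set.range F := by
    ext c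
    constructor
    · intro hc
      obtain ⟨g, rfl⟩ := ConjClasses.exists_rep c
      obtain ⟨a, ha⟩ := CfsgLib.Solv.exists_sylow_conj P (hc g (ConjClasses.mem_carrier_iff_mk_eq.2 rfl))
      exact ⟨⟨_, ha⟩, ConjClasses.mk_eq_mk_iff_isConj.2 (isConj_iff.2 ⟨a⁻¹, by group⟩)⟩
    · rintro ⟨x, rfl⟩ y hy
      obtain ⟨a, rfl⟩ := isConj_iff.1 (ConjClasses.mk_eq_mk_iff_isConj.1 (ConjClasses.mem_carrier_iff_mk_eq.1 hy)).symm
      rw [show orderOf (a * (x : G) * a⁻¹) = orderOf (x : G) from MulEquiv.orderOf_eq (MulAut.conj a) (x : G),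
        Subgroup.orderOf_coe]
      exact IsPGroup.iff_orderOf.1 P.2 x
  have hcard : Nat.card {c : ConjClasses G // ∀ x ∈ c.carrier, ∃ k : ℕ, orderOf x = 2 ^ k} = Nat.card (Set.range F) :=
    congrArg (fun s : Set (ConjClasses G) => Nat.card s) hset
  rw [hcard]
  let φ : ConjClasses ↥(P : Subgroup G) → Set.range F := fun c => ⟨ConjClasses.map (P : Subgroup G).subtype c, by
    obtain ⟨x, rfl⟩ := ConjClasses.exists_rep c
    exact ⟨x, rfl⟩⟩
  have hφ : Function.Surjective φ := fun ⟨_, x, hx⟩ => ⟨ConjClasses.mk x, Subtype.ext hx⟩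
  constructor
  · intro h
    refine ⟨by_contra fun hn => ?_, lt_of_lt_of_le h (Nat.mul_le_mul_left 2 (Nat.card_le_card_of_surjective φ hφ))⟩
    have := two_mul_le P hn F fun _ => rfl
    omega
  · rintro ⟨hn, hk⟩
    refine lt_of_lt_of_le hk (Nat.mul_le_mul_left 2 (Nat.card_le_card_of_injective φ ?_))
    intro a b hab
    obtain ⟨x, rfl⟩ := ConjClasses.exists_rep a
    obtain ⟨y, rfl⟩ := ConjClasses.exists_rep b
    obtain ⟨g, hg⟩ := isConj_iff.1 (ConjClasses.mk_eq_mk_iff_isConj.1 (congrArg Subtype.val hab :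
      ConjClasses.mk (x : G) = ConjClasses.mk (y : G)))
    obtain ⟨s, hs, he⟩ := CfsgLib.Solv.fusion_of_frobCond (CfsgLib.Solv.hnpc_iff_frobCond.1 hn) P x.2
      (g := g) (hg ▸ y.2)
    exact ConjClasses.mk_eq_mk_iff_isConj.2 (isConj_iff.2 ⟨⟨s, hs⟩, Subtype.ext (he.trans hg)⟩)

end Cfsg.Agent.S3895
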