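import Cfsg.Statements.S3898
import Cfsg.Agent.S3895
import Cfsg.Agent.Solv.ClassCount
import Mathlib.GroupTheory.SchurZassenhaus
-- import your own Cfsg.Agent.* helpers here

set_option autoImplicit false
open Cfsg

namespace Cfsg.Agent.S3898

open scoped commutatorElement Pointwise
set_option linter.style.haveILetI false
set_option linter.unusedVariables false
open CfsgLib.Solv

lemma odd_dvd {d m : ℕ} (h : d ∣ m) (hm : Odd m) : Odd d := hm.of_dvd_nat h

/-- In a group of odd order, classes of `p`-elements are at most half of the Sylow order unless there is a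
normal `p`-complement and an abelian Sylow subgroup. -/
lemma odd_hnpc {K : Type*} [Group K] [Finite K] (hodd : Odd (Nat.card K)) {p : ℕ} [hp : Fact p.Prime]
    (P : Sylow p K)
    (hk : Nat.card (P : Subgroup K) <
      2 * Nat.card {c : ConjClasses K // ∀ x ∈ c.carrier, ∃ k : ℕ, orderOf x = p ^ k}) :
    Cfsg.HasNormalPComplement p K ∧ IsMulCommutative (P : Subgroup K) := by
  classical
  set N := Subgroup.normalizer ((P : Subgroup K) : Set K) with hN
  set F : Subgroup K := (P : Subgroup K) ⊓ Subgroup.centralizer (N : Set K) with hF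
  by_cases hFP : F = (P : Subgroup K)
  · have hC : N ≤ Subgroup.centralizer ((P : Subgroup K) : Set K) := fun n hn => Subgroup.mem_centralizer_iff.2
      fun y hy => (Subgroup.mem_centralizer_iff.1 (Subgroup.mem_inf.1 (hFP.ge hy)).2 n hn).symm
    exact ⟨hnpc_of_normalizer_le_centralizer P hC, ⟨⟨fun a b => Subtype.ext
      (Subgroup.mem_centralizer_iff.1 (hC (Subgroup.le_normalizer a.2)) b b.2).symm⟩⟩⟩
  exfalso
  set R := {c : ConjClasses K // ∀ x ∈ c.carrier, ∃ k : ℕ, orderOf x = p ^ k}
  have hrep : ∀ c : R, ∃ x : (P : Subgroup K), ConjClasses.mk (x : K) = c.1 := by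
    rintro ⟨c, hc⟩
    obtain ⟨g, rfl⟩ := ConjClasses.exists_rep c
    obtain ⟨a, ha⟩ := exists_sylow_conj P (hc g (ConjClasses.mem_carrier_iff_mk_eq.2 rfl))
    exact ⟨⟨_, ha⟩, ConjClasses.mk_eq_mk_iff_isConj.2 (isConj_iff.2 ⟨a⁻¹, by group⟩)⟩
  choose rep hrep using hrep
  have hpel : ∀ x : (P : Subgroup K), ∀ y ∈ (ConjClasses.mk (x : K)).carrier,
      ∃ k : ℕ, orderOf y = p ^ k := by
    intro x y hy
    obtain ⟨a, rfl⟩ := isConj_iff.1 (ConjClasses.mk_eq_mk_iff_isConj.1 (ConjClasses.mem_carrier_iff_mk_eq.1 hy)).symm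
    have h1 : orderOf (a * (x : K) * a⁻¹) = orderOf (x : K) := MulEquiv.orderOf_eq (MulAut.conj a) (x : K)
    rw [h1, Subgroup.orderOf_coe]
    exact (IsPGroup.iff_orderOf.1 P.2) x
  let f : ↥(P : Subgroup K) → R := fun x => ⟨ConjClasses.mk (x : K), hpel x⟩
  -- the orbit of `rep c` under `N` lies in the fibre over `c`
  have horb : ∀ c : R, Nat.card (↥N ⧸ (Subgroup.centralizer ({(rep c : K)} : Set K)).subgroupOf N) ≤
      Nat.card {x // f x = c} := by
    intro c
    refine Nat.card_le_card_of_injective (fun q => ⟨⟨(q.out : K) * (rep c : K) * (q.out : K)⁻¹,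
      (Subgroup.mem_normalizer_iff.1 q.out.2 _).1 (rep c).2⟩, ?_⟩) ?_
    · refine Subtype.ext (Eq.trans ?_ (hrep c))
      exact ConjClasses.mk_eq_mk_iff_isConj.2 (isConj_iff.2 ⟨(q.out : K)⁻¹, by group⟩)
    · intro q q' e
      have e' : (q.out : K) * (rep c : K) * (q.out : K)⁻¹ = (q'.out : K) * (rep c : K) * (q'.out : K)⁻¹ :=
        congrArg (fun z => ((z.1 : ↥(P : Subgroup K)) : K)) e
      rw [← q.out_eq', ← q'.out_eq', QuotientGroup.eq, Subgroup.mem_subgroupOf,
        Subgroup.mem_centralizer_singleton_iff, Subgroup.coe_mul, Subgroup.coe_inv]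
      calc (q.out : K)⁻¹ * (q'.out : K) * (rep c : K)
          = (q.out : K)⁻¹ * ((q'.out : K) * (rep c : K) * (q'.out : K)⁻¹) * (q'.out : K) := by group
        _ = (rep c : K) * ((q.out : K)⁻¹ * (q'.out : K)) := by rw [← e']; group
  obtain ⟨kP, hkP⟩ := IsPGroup.iff_card.1 P.2
  obtain ⟨j, hj⟩ := IsPGroup.iff_card.1 (P.2.to_le (inf_le_left : F ≤ P))
  have hjk : j < kP := by
    have hlt := lt_of_le_of_ne (Subgroup.card_le_of_le (inf_le_left : F ≤ P))
      (fun e => hFP (Subgroup.eq_of_le_of_card_ge inf_le_left e.ge))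
    rw [hj, hkP] at hlt
    exact (Nat.pow_lt_pow_iff_right hp.out.one_lt).1 hlt
  have hp2 : p ≠ 2 := by
    rintro rfl
    have h2 : (2 : ℕ) ∣ Nat.card K :=
      ((dvd_pow_self 2 (show kP ≠ 0 by omega)).trans hkP.symm.dvd).trans
        (Subgroup.card_subgroup_dvd_card _)
    exact (Nat.not_even_iff_odd.2 hodd) (even_iff_two_dvd.2 h2)
  -- a lower bound `d` on the nontrivial orbits, with `|F|` small against it
  obtain ⟨d, hd1, hd, hbound⟩ : ∃ d, 1 ≤ d ∧ (∀ c : R, (rep c : K) ∉ F →
      d ≤ Nat.card {x // f x = c}) ∧ 2 * (Nat.card (P : Subgroup K) + (d - 1) * Nat.card F) ≤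
        d * Nat.card (P : Subgroup K) := by
    have hne1 : ∀ c : R, (rep c : K) ∉ F →
        ((Subgroup.centralizer ({(rep c : K)} : Set K)).subgroupOf N).index ≠ 1 := by
      intro c hc h1
      rw [Subgroup.index_eq_one, Subgroup.subgroupOf_eq_top] at h1
      exact hc (Subgroup.mem_inf.2 ⟨(rep c).2, Subgroup.mem_centralizer_iff.2 fun n hn =>
        Subgroup.mem_centralizer_singleton_iff.1 (h1 hn)⟩)
    have hoddi : ∀ c : R, Odd ((Subgroup.centralizer ({(rep c : K)} : Set K)).subgroupOf N).index :=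
      fun c => odd_dvd ((Subgroup.index_dvd_card _).trans (Subgroup.card_subgroup_dvd_card N)) hodd
    have hd3 : ∀ c : R, (rep c : K) ∉ F → 3 ≤ Nat.card {x // f x = c} := by
      intro c hc
      refine le_trans ?_ (horb c)
      show 3 ≤ ((Subgroup.centralizer ({(rep c : K)} : Set K)).subgroupOf N).index
      obtain ⟨e, he⟩ := hoddi c
      have := hne1 c hc
      omega
    have h3 : 3 ≤ p := by have := hp.out.two_le; omega
    by_cases hab : IsMulCommutative (P : Subgroup K)
    · by_cases hp3 : p = 3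
      · refine ⟨5, by norm_num, fun c hc => le_trans ?_ (horb c), ?_⟩
        · show 5 ≤ ((Subgroup.centralizer ({(rep c : K)} : Set K)).subgroupOf N).index
          obtain ⟨e, he⟩ := hoddi c
          have := hne1 c hc
          have hle : (P : Subgroup K) ≤ Subgroup.centralizer ({(rep c : K)} : Set K) := fun y hy =>
            Subgroup.mem_centralizer_singleton_iff.2
              (commute_of_isMulCommutative (A := (P : Subgroup K)) hy (rep c).2)
          have hdvd : ((Subgroup.centralizer ({(rep c : K)} : Set K)).subgroupOf N).index ∣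
              ((P : Subgroup K).subgroupOf N).index :=
            Subgroup.index_dvd_of_le (fun y hy => hle hy)
          have hnd : ¬ p ∣ ((P : Subgroup K).subgroupOf N).index := fun h =>
            Sylow.not_dvd_index P (h.trans (Subgroup.relIndex_dvd_index_of_le Subgroup.le_normalizer))
          have h33 : ((Subgroup.centralizer ({(rep c : K)} : Set K)).subgroupOf N).index ≠ 3 := fun h =>
            hnd (by rw [h.trans hp3.symm] at hdvd; exact hdvd)
          omega
        · rw [hkP, hj]
          have h4 : p ^ j * p ≤ p ^ kP := by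
            rw [← pow_succ]; exact Nat.pow_le_pow_right hp.out.pos hjk
          have h6 : p ^ j * 3 ≤ p ^ kP := le_trans (Nat.mul_le_mul_left _ (by omega)) h4
          omega
      · refine ⟨3, by norm_num, hd3, ?_⟩
        rw [hkP, hj]
        have h4 : p ^ j * p ≤ p ^ kP := by
          rw [← pow_succ]; exact Nat.pow_le_pow_right hp.out.pos hjk
        have h5 : 5 ≤ p := by
          have : p ≠ 4 := fun h => absurd (h ▸ hp.out) (by norm_num)
          omega
        have h6 : p ^ j * 5 ≤ p ^ kP := le_trans (Nat.mul_le_mul_left _ h5) h4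
        omega
    · refine ⟨3, by norm_num, hd3, ?_⟩
      have hFle : ∀ x ∈ F, ∀ y ∈ (P : Subgroup K), x * y = y * x := fun x hx y hy =>
        (Subgroup.mem_centralizer_iff.1 (Subgroup.mem_inf.1 hx).2 y (Subgroup.le_normalizer hy)).symm
      have h2j : j + 2 ≤ kP := by
        by_contra hcon
        have he : kP = j + 1 := by omega
        apply hab
        -- `P` is generated by the central subgroup `F` and one further element
        obtain ⟨x, hx, hxF⟩ : ∃ x ∈ (P : Subgroup K), x ∉ F := by
          by_contra hh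
          push Not at hh
          exact hFP (le_antisymm inf_le_left hh)
        set A := Subgroup.closure ((F : Set K) ∪ {x}) with hA
        haveI : IsMulCommutative A := Subgroup.isMulCommutative_closure (by
          rintro u (hu | hu) v (hv | hv)
          · exact hFle u hu v (Subgroup.mem_inf.1 hv).1
          · rw [Set.mem_singleton_iff.1 hv]; exact hFle u hu x hx
          · rw [Set.mem_singleton_iff.1 hu]; exact (hFle v hv x hx).symm
          · rw [Set.mem_singleton_iff.1 hu, Set.mem_singleton_iff.1 hv])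
        have hAP : A ≤ (P : Subgroup K) := by
          rw [hA, Subgroup.closure_le]
          rintro u (hu | hu)
          · exact (Subgroup.mem_inf.1 hu).1
          · rw [Set.mem_singleton_iff.1 hu]; exact hx
        have hFA : F ≤ A := fun u hu => Subgroup.subset_closure (Or.inl hu)
        obtain ⟨i, hi⟩ := IsPGroup.iff_card.1 (P.2.to_le hAP)
        have hji : j < i := by
          have hlt : Nat.card F < Nat.card A :=
            lt_of_le_of_ne (Subgroup.card_le_of_le hFA) fun e => hxF
              ((Subgroup.eq_of_le_of_card_ge hFA e.ge).ge (Subgroup.subset_closure (Or.inr rfl)))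
          rw [hj, hi] at hlt
          exact (Nat.pow_lt_pow_iff_right hp.out.one_lt).1 hlt
        have hAeq : A = (P : Subgroup K) := by
          refine Subgroup.eq_of_le_of_card_ge hAP ?_
          rw [hkP, hi]
          exact Nat.pow_le_pow_right hp.out.pos (by omega)
        rw [← hAeq]
        infer_instance
      rw [hkP, hj]
      have h4 : p ^ j * 9 ≤ p ^ kP := by
        refine le_trans (Nat.mul_le_mul_left _ (show 9 ≤ p ^ 2 by nlinarith)) ?_
        rw [← pow_add]; exact Nat.pow_le_pow_right hp.out.pos h2j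
      omega
  -- count
  haveI := Fintype.ofFinite R
  have hsum : Nat.card (P : Subgroup K) = ∑ c : R, Nat.card {x // f x = c} := by
    rw [← Nat.card_sigma, Nat.card_congr (Equiv.sigmaFiberEquiv f)]
  have hfix : (Finset.univ.filter fun c : R => (rep c : K) ∈ F).card ≤ Nat.card F := by
    rw [← Fintype.card_coe, ← Nat.card_eq_fintype_card]
    refine Nat.card_le_card_of_injective
      (fun c => (⟨(rep c.1 : K), (Finset.mem_filter.1 c.2).2⟩ : F)) fun c c' e => ?_
    refine Subtype.ext (Subtype.ext ?_)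
    have e' : (rep c.1 : K) = (rep c'.1 : K) := congrArg (fun z : F => (z : K)) e
    rw [← hrep c.1, ← hrep c'.1, e']
  have hone : ∀ c : R, 1 ≤ Nat.card {x // f x = c} := fun c =>
    haveI : Nonempty {x // f x = c} := ⟨⟨rep c, Subtype.ext (hrep c)⟩⟩
    Nat.card_pos
  have hle : ∀ c : R, d ≤ Nat.card {x // f x = c} + if (rep c : K) ∈ F then d - 1 else 0 := by
    intro c
    split_ifs with h
    · have := hone c; omega
    · have := hd c h; omega
  have hmain := Finset.sum_le_sum (s := (Finset.univ : Finset R)) fun c _ => hle c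
  rw [Finset.sum_add_distrib, ← hsum, ← Finset.sum_filter, Finset.sum_const, Finset.sum_const,
    smul_eq_mul, smul_eq_mul, Finset.card_univ, ← Nat.card_eq_fintype_card] at hmain
  have h1 : d * Nat.card R ≤ Nat.card (P : Subgroup K) + (d - 1) * Nat.card F := by
    rw [mul_comm]
    refine le_trans hmain (Nat.add_le_add_left ?_ _)
    rw [mul_comm]
    exact Nat.mul_le_mul_left _ hfix
  have h2 : d * Nat.card (P : Subgroup K) < d * (2 * Nat.card R) :=
    Nat.mul_lt_mul_of_pos_left hk (by omega)
  rw [mul_left_comm] at h2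
  omega

/-- Let π be a finite set of primes containing 2 and G a finite group. Write k_π(G) for the number of conjugacy classes of G consisting of π-elements (elements all of whose order's prime divisors lie in π) and |G|_π for the π-part of the order of G. If k_π(G) > |G|_π/2, then G has a normal π-complement (a normal subgroup of order prime to π whose index is a π-number) and an abelian Hall subgroup for the set of odd primes in π. -/
theorem result {G : Type*} [Group G] [Finite G] (π : Finset ℕ) (hπ : ∀ r ∈ π, r.Prime) (h2 : 2 ∈ π)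
    (hk : π.prod (fun r => r ^ (Nat.card G).factorization r) < 2 * Nat.card {c : ConjClasses G // ∀ x ∈ c.carrier, ∀ r : ℕ, r.Prime → r ∣ orderOf x → r ∈ π}) :
    (∃ N : Subgroup G, N.Normal ∧ (∀ r : ℕ, r.Prime → r ∣ Nat.card ↥N → r ∉ π) ∧ ∀ r : ℕ, r.Prime → r ∣ N.index → r ∈ π) ∧ ∃ H : Subgroup G, Cfsg.IsPiHall ((↑π : Set ℕ) \ {2}) H ∧ IsMulCommutative ↥H := by
  classical
  haveI : Fact (Nat.Prime 2) := ⟨Nat.prime_two⟩
  have hmany : ∀ r ∈ π, ∀ [Fact r.Prime], ∀ P : Sylow r G, Nat.card (P : Subgroup G) <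
      2 * Nat.card {c : ConjClasses G // ∀ x ∈ c.carrier, ∃ k : ℕ, orderOf x = r ^ k} := by
    intro r hr _ P
    set T := π.erase r with hT
    have hins : insert r T = π := Finset.insert_erase hr
    set B := T.prod (fun q => q ^ (Nat.card G).factorization q) with hB
    have hk' : Nat.card {c : ConjClasses G // ∀ x ∈ c.carrier, CfsgLib.Solv.SElt π x} ≤
        Nat.card {c : ConjClasses G // ∀ x ∈ c.carrier, ∃ k : ℕ, orderOf x = r ^ k} * B := by
      rw [← hins]
      refine CfsgLib.Solv.classes_insert_le (hπ r hr) (Finset.notMem_erase r π) B fun K => ?_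
      refine (CfsgLib.Solv.classes_le_piPart T (fun q hq => hπ q (Finset.mem_of_mem_erase hq)) K).trans
        (Finset.prod_le_prod (fun q _ => Nat.zero_le _) fun q hq => ?_)
      exact CfsgLib.Solv.pow_factorization_le_of_dvd Nat.card_pos.ne'
        (Subgroup.card_subgroup_dvd_card K) (hπ q (Finset.mem_of_mem_erase hq))
    have hprod : π.prod (fun q => q ^ (Nat.card G).factorization q) =
        Nat.card (P : Subgroup G) * B := by
      rw [← hins, Finset.prod_insert (Finset.notMem_erase r π), Sylow.card_eq_multiplicity P]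
    have h1 := lt_of_lt_of_le hk (Nat.mul_le_mul_left 2 hk')
    rw [hprod, ← mul_assoc] at h1
    exact Nat.lt_of_mul_lt_mul_right h1
  obtain ⟨P2⟩ := (inferInstance : Nonempty (Sylow 2 G))
  have hnpc2 := ((Cfsg.Agent.S3895.result P2).1 (hmany 2 h2 P2)).1
  haveI := CfsgLib.Inv.pResidual_normal 2 G
  set K := Cfsg.pResidual 2 G with hKdef
  have hKodd : Odd (Nat.card K) := by
    rw [← Nat.not_even_iff_odd, even_iff_two_dvd]; exact hnpc_iff.1 hnpc2
  have hloc : ∀ r ∈ π, r ≠ 2 → ∀ [Fact r.Prime], Cfsg.HasNormalPComplement r K ∧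
      ∀ P : Sylow r K, IsMulCommutative (P : Subgroup K) := by
    intro r hr hr2 _
    suffices h : ∀ P : Sylow r K, Cfsg.HasNormalPComplement r K ∧ IsMulCommutative (P : Subgroup K) from
      ⟨(h default).1, fun P => (h P).2⟩
    intro P
    refine odd_hnpc hKodd P ?_
    obtain ⟨R, hR⟩ := (P.2.map K.subtype).exists_le_sylow
    have hmem : ∀ x : G, (∃ k : ℕ, orderOf x = r ^ k) → x ∈ K := by
      rintro x ⟨k, hk⟩
      exact CfsgLib.Inv.mem_pResidual (hk ▸ ((Nat.coprime_primes (hπ r hr) Nat.prime_two).2 hr2).pow_left k)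
    refine lt_of_le_of_lt ?_ (lt_of_lt_of_le (hmany r hr R) (Nat.mul_le_mul_left 2 ?_))
    · rw [← Subgroup.card_map_of_injective K.subtype_injective]
      exact Subgroup.card_le_of_le hR
    · refine Nat.card_le_card_of_surjective (fun c => (⟨ConjClasses.map K.subtype c.1, ?_⟩ :
        {c : ConjClasses G // ∀ x ∈ c.carrier, ∃ k : ℕ, orderOf x = r ^ k})) ?_
      · obtain ⟨c, hc⟩ := c
        obtain ⟨g, rfl⟩ := ConjClasses.exists_rep c
        intro y hy
        obtain ⟨a, rfl⟩ := isConj_iff.1 (ConjClasses.mk_eq_mk_iff_isConj.1 (ConjClasses.mem_carrier_iff_mk_eq.1 hy)).symm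
        obtain ⟨k, hk⟩ := hc g (ConjClasses.mem_carrier_iff_mk_eq.2 rfl)
        refine ⟨k, ?_⟩
        rw [← hk, ← Subgroup.orderOf_coe]
        exact MulEquiv.orderOf_eq (MulAut.conj a) (g : G)
      · rintro ⟨c, hc⟩
        obtain ⟨g, rfl⟩ := ConjClasses.exists_rep c
        have hgo := hc g (ConjClasses.mem_carrier_iff_mk_eq.2 rfl)
        refine ⟨⟨ConjClasses.mk ⟨g, hmem g hgo⟩, fun y hy => ?_⟩, Subtype.ext rfl⟩
        obtain ⟨a, rfl⟩ := isConj_iff.1 (ConjClasses.mk_eq_mk_iff_isConj.1 (ConjClasses.mem_carrier_iff_mk_eq.1 hy)).symm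
        obtain ⟨k, hk⟩ := hgo
        refine ⟨k, ?_⟩
        have h1 : orderOf (a * (⟨g, hmem g ⟨k, hk⟩⟩ : K) * a⁻¹) = orderOf (⟨g, hmem g ⟨k, hk⟩⟩ : K) :=
          MulEquiv.orderOf_eq (MulAut.conj a) _
        rw [h1, Subgroup.orderOf_mk, hk]
  let N : Subgroup G := Subgroup.normalClosure {x : G | ∀ r ∈ π, (orderOf x).Coprime r}
  have hNK : N ≤ K := Subgroup.normalClosure_le_normal fun x hx => CfsgLib.Inv.mem_pResidual (hx 2 h2)
  have hNcard : ∀ r : ℕ, r.Prime → r ∣ Nat.card N → r ∉ π := by
    intro r hr hrd hrπ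
    haveI := Fact.mk hr
    have hrK : r ∣ Nat.card K := hrd.trans (Subgroup.card_dvd_of_le hNK)
    have hr2 : r ≠ 2 := by
      rintro rfl
      exact hnpc_iff.1 hnpc2 hrK
    set L := (Cfsg.pResidual r K).map K.subtype with hL
    haveI : L.Normal := by
      refine ⟨fun x hx g => ?_⟩
      obtain ⟨y, hy, rfl⟩ := hx
      exact ⟨MulAut.conjNormal g y, CfsgLib.Inv.pResidual_map_le r (MulAut.conjNormal g).toMonoidHom
        ⟨y, hy, rfl⟩, MulAut.conjNormal_apply g y⟩
    have hNL : N ≤ L := Subgroup.normalClosure_le_normal fun x hx =>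
      ⟨⟨x, hNK (Subgroup.subset_normalClosure hx)⟩, CfsgLib.Inv.mem_pResidual (by
        rw [Subgroup.orderOf_mk]; exact hx r hrπ), rfl⟩
    refine CfsgLib.Solv.hnpc_iff.1 (hloc r hrπ hr2).1 ?_
    have := hrd.trans (Subgroup.card_dvd_of_le hNL)
    rwa [hL, Subgroup.card_map_of_injective K.subtype_injective] at this
  have hNidx : ∀ r : ℕ, r.Prime → r ∣ N.index → r ∈ π := by
    intro r hr hrd
    haveI := Fact.mk hr
    by_contra hrπ
    obtain ⟨q, hq⟩ := exists_prime_orderOf_dvd_card' (G := G ⧸ N) r hrd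
    obtain ⟨y, rfl⟩ := QuotientGroup.mk_surjective q
    obtain ⟨e, m, hm, hye⟩ := Nat.exists_eq_pow_mul_and_not_dvd (orderOf_pos y).ne' r hr.ne_one
    have hyN : y ^ m ∈ N := by
      refine Subgroup.subset_normalClosure fun s hs => ?_
      have : orderOf (y ^ m) ∣ r ^ e := orderOf_dvd_of_pow_eq_one (by
        rw [← pow_mul, mul_comm, ← hye, pow_orderOf_eq_one])
      exact Nat.Coprime.coprime_dvd_left this
        (((Nat.coprime_primes hr (hπ s hs)).2 fun e => hrπ (e ▸ hs)).pow_left e)
    have h3 : r ∣ m := by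
      rw [← hq]
      exact orderOf_dvd_of_pow_eq_one (by rw [← QuotientGroup.mk_pow, (QuotientGroup.eq_one_iff _).2 hyN])
    exact hm h3
  refine ⟨⟨N, inferInstance, hNcard, hNidx⟩, ?_⟩
  let NK : Subgroup K := N.subgroupOf K
  have hNKcard : Nat.card NK = Nat.card N := Nat.card_congr (Subgroup.subgroupOfEquivOfLe hNK).toEquiv
  have hNKidx : ∀ r : ℕ, r.Prime → r ∣ NK.index → r ∈ π ∧ r ≠ 2 := by
    intro r hr hrd
    refine ⟨hNidx r hr (hrd.trans (Subgroup.relIndex_dvd_index_of_le hNK)), ?_⟩
    rintro rfl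
    exact hnpc_iff.1 hnpc2 (hrd.trans (Subgroup.index_dvd_card NK))
  have hco : (Nat.card NK).Coprime NK.index := Nat.coprime_of_dvd fun r hr h1 h2 =>
    hNcard r hr (hNKcard ▸ h1) (hNKidx r hr h2).1
  obtain ⟨H, hH⟩ := Subgroup.exists_right_complement'_of_coprime hco
  refine ⟨H.map K.subtype, ⟨fun r hr hrd => ?_, fun r hr hrπ hd => ?_⟩, ?_⟩
  · rw [Subgroup.card_map_of_injective K.subtype_injective] at hrd
    obtain ⟨h1, h2'⟩ := hNKidx r hr (by rwa [hH.symm.index_eq_card])
    exact ⟨Finset.mem_coe.2 h1, h2'⟩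
  · rw [Subgroup.index_map_subtype, hH.index_eq_card, hNKcard] at hd
    rcases hr.dvd_mul.1 hd with h | h
    · exact hNcard r hr h (Finset.mem_coe.1 hrπ.1)
    · haveI := Fact.mk hr
      obtain ⟨R⟩ := (inferInstance : Nonempty (Sylow r G))
      have hRK : (R : Subgroup G) ≤ K := fun x hx => by
        obtain ⟨k, hk⟩ := IsPGroup.iff_orderOf.1 R.2 ⟨x, hx⟩
        rw [Subgroup.orderOf_mk] at hk
        exact CfsgLib.Inv.mem_pResidual (hk ▸ ((Nat.coprime_primes hr Nat.prime_two).2 hrπ.2).pow_left k)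
      exact Sylow.not_dvd_index R (h.trans (Subgroup.index_dvd_of_le hRK))
  haveI : IsMulCommutative H := by
    refine ⟨⟨fun a b => ?_⟩⟩
    rw [← commutatorElement_eq_one_iff_mul_comm]
    have hb : commutator H = ⊥ := by
      refine Subgroup.eq_bot_of_card_eq _ ?_
      by_contra hne
      obtain ⟨r, hr, hrd⟩ := Nat.exists_prime_and_dvd hne
      haveI := Fact.mk hr
      have hr' : r ∈ π ∧ r ≠ 2 := hNKidx r hr (by
        rw [hH.symm.index_eq_card]; exact hrd.trans (Subgroup.card_subgroup_dvd_card _))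
      obtain ⟨hn, hab⟩ := hloc r hr'.1 hr'.2
      have hnH := CfsgLib.Solv.hnpc_subgroup hn H
      haveI := CfsgLib.Inv.pResidual_normal r H
      obtain ⟨P0⟩ := (inferInstance : Nonempty (Sylow r H))
      obtain ⟨R, hR⟩ := (P0.2.map H.subtype).exists_le_sylow
      have hle : commutator H ≤ Cfsg.pResidual r H := by
        rw [commutator_def, Subgroup.commutator_le]
        intro u _ v _
        have key : ∀ u : H, ∃ s ∈ (P0 : Subgroup H), (u : H ⧸ Cfsg.pResidual r H) = s := by
          intro u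
          have : u ∈ (((P0 : Subgroup H) : Set H) * (Cfsg.pResidual r H : Set H)) := by
            rw [← Subgroup.mul_normal, CfsgLib.Solv.sylow_sup_pResidual]; trivial
          obtain ⟨s, hs, c, hc, rfl⟩ := this
          exact ⟨s, hs, by rw [QuotientGroup.mk_mul, (QuotientGroup.eq_one_iff c).2 hc, mul_one]⟩
        obtain ⟨s, hs, e1⟩ := key u
        obtain ⟨t, ht, e2⟩ := key v
        rw [← QuotientGroup.eq_one_iff]
        show QuotientGroup.mk' _ ⁅u, v⁆ = 1
        rw [map_commutatorElement, QuotientGroup.mk'_apply, QuotientGroup.mk'_apply, e1, e2,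
          ← QuotientGroup.mk'_apply, ← QuotientGroup.mk'_apply, ← map_commutatorElement,
          commutatorElement_eq_one_iff_mul_comm.2, map_one]
        haveI := hab R
        exact Subtype.ext (CfsgLib.Solv.commute_of_isMulCommutative (A := (R : Subgroup K))
          (hR ⟨s, hs, rfl⟩) (hR ⟨t, ht, rfl⟩))
      exact CfsgLib.Solv.hnpc_iff.1 hnH (hrd.trans (Subgroup.card_dvd_of_le hle))
    exact Subgroup.mem_bot.1 (hb ▸ Subgroup.commutator_mem_commutator (Subgroup.mem_top a) (Subgroup.mem_top b))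
  infer_instance

end Cfsg.Agent.S3898
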