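-- Statement S3899
import Cfsg.Statements.S3899
import Cfsg.Agent.Solv.ClassCount
import Mathlib.GroupTheory.SchurZassenhaus

set_option autoImplicit false
open Cfsg
open scoped commutatorElement Pointwise
set_option linter.style.haveILetI false
set_option linter.deprecated false
set_option linter.unusedVariables false

namespace Cfsg.Agent.S3899

/-- Let π be a finite non-empty set of odd primes with smallest member p and G a finite group. Write k_π(G) for the number of conjugacy classes of G consisting of π-elements (elements all of whose order's prime divisors lie in π) and |G|_π for the π-part of the order of G. If k_π(G) > (p + 1)|G|_π/(2p), then G has a normal π-complement (a normal subgroup of order prime to π whose index is a π-number) and an abelian Hall π-subgroup. -/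
theorem result {G : Type*} [Group G] [Finite G] (π : Finset ℕ) (hπ : ∀ r ∈ π, r.Prime) (h2 : 2 ∉ π) (p : ℕ) (hp : p ∈ π)
    (hmin : ∀ r ∈ π, p ≤ r) (hk : (p + 1) * π.prod (fun r => r ^ (Nat.card G).factorization r) < 2 * p * Nat.card {c : ConjClasses G // ∀ x ∈ c.carrier, ∀ r : ℕ, r.Prime → r ∣ orderOf x → r ∈ π}) :
    (∃ N : Subgroup G, N.Normal ∧ (∀ r : ℕ, r.Prime → r ∣ Nat.card ↥N → r ∉ π) ∧ ∀ r : ℕ, r.Prime → r ∣ N.index → r ∈ π) ∧ ∃ H : Subgroup G, Cfsg.IsPiHall (↑π : Set ℕ) H ∧ IsMulCommutative ↥H := by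
  classical
  -- every prime of `π` gives a normal complement and an abelian Sylow subgroup
  have hloc : ∀ r ∈ π, ∀ [Fact r.Prime], Cfsg.HasNormalPComplement r G ∧
      ∀ P : Sylow r G, IsMulCommutative (P : Subgroup G) := by
    intro r hr _
    suffices h : ∀ P : Sylow r G, Cfsg.HasNormalPComplement r G ∧ IsMulCommutative (P : Subgroup G) from
      ⟨(h default).1, fun P => (h P).2⟩
    intro P
    refine CfsgLib.Solv.hnpc_of_many_classes P ?_
    set T := π.erase r with hT
    have hins : insert r T = π := Finset.insert_erase hr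
    set B := T.prod (fun q => q ^ (Nat.card G).factorization q) with hB
    have hk' : Nat.card {c : ConjClasses G // ∀ x ∈ c.carrier, CfsgLib.Solv.SElt π x} ≤
        Nat.card {c : ConjClasses G // ∀ x ∈ c.carrier, ∃ k : ℕ, orderOf x = r ^ k} * B := by
      rw [← hins]
      refine CfsgLib.Solv.classes_insert_le (hπ r hr) (Finset.notMem_erase r π) B fun K => ?_
      refine (CfsgLib.Solv.classes_le_piPart T (fun q hq => hπ q (Finset.mem_of_mem_erase hq)) K).trans
        (Finset.prod_le_prod (fun q _ => Nat.zero_le _) fun q hq => ?_)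
      exact CfsgLib.Solv.pow_factorization_le_of_dvd Nat.card_pos.ne'
        (Subgroup.card_subgroup_dvd_card K) (hπ q (Finset.mem_of_mem_erase hq))
    have hprod : π.prod (fun q => q ^ (Nat.card G).factorization q) =
        Nat.card (P : Subgroup G) * B := by
      rw [← hins, Finset.prod_insert (Finset.notMem_erase r π), Sylow.card_eq_multiplicity P]
    have h1 := lt_of_lt_of_le hk (Nat.mul_le_mul_left (2 * p) hk')
    rw [hprod, ← mul_assoc, ← mul_assoc] at h1
    have h2 := Nat.lt_of_mul_lt_mul_right h1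
    set k := Nat.card {c : ConjClasses G // ∀ x ∈ c.carrier, ∃ k : ℕ, orderOf x = r ^ k}
    set w := Nat.card (P : Subgroup G)
    have hpr := hmin r hr
    refine Nat.lt_of_mul_lt_mul_left (a := p) ?_
    calc p * ((r + 1) * w) ≤ r * ((p + 1) * w) := by nlinarith
      _ < r * (2 * p * k) := Nat.mul_lt_mul_of_pos_left h2 (hπ r hr).pos
      _ = p * (2 * r * k) := by ring
  let N : Subgroup G := Subgroup.normalClosure {x : G | ∀ r ∈ π, (orderOf x).Coprime r}
  have hNcard : ∀ r : ℕ, r.Prime → r ∣ Nat.card N → r ∉ π := by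
    intro r hr hrd hrπ
    haveI := Fact.mk hr
    haveI := CfsgLib.Inv.pResidual_normal r G
    refine CfsgLib.Solv.hnpc_iff.1 (hloc r hrπ).1 (hrd.trans (Subgroup.card_dvd_of_le ?_))
    exact Subgroup.normalClosure_le_normal fun x hx => CfsgLib.Inv.mem_pResidual (hx r hrπ)
  have hNidx : ∀ r : ℕ, r.Prime → r ∣ N.index → r ∈ π := by
    intro r hr hrd
    haveI := Fact.mk hr
    by_contra hrπ
    obtain ⟨q, hq⟩ := exists_prime_orderOf_dvd_card' (G := G ⧸ N) r hrd
    obtain ⟨y, rfl⟩ := QuotientGroup.mk_surjective q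
    obtain ⟨e, m, hm, hye⟩ := Nat.exists_eq_pow_mul_and_not_dvd (orderOf_pos y).ne' r hr.ne_one
    have hyN : y ^ m ∈ N := by
      refine Subgroup.subset_normalClosure fun s hs => ?_
      have : orderOf (y ^ m) ∣ r ^ e := orderOf_dvd_of_pow_eq_one (by
        rw [← pow_mul, mul_comm, ← hye, pow_orderOf_eq_one])
      exact Nat.Coprime.coprime_dvd_left this
        (((Nat.coprime_primes hr (hπ s hs)).2 fun e => hrπ (e ▸ hs)).pow_left e)
    have h3 : r ∣ m := by
      rw [← hq]
      exact orderOf_dvd_of_pow_eq_one (by rw [← QuotientGroup.mk_pow, (QuotientGroup.eq_one_iff _).2 hyN])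
    exact hm h3
  refine ⟨⟨N, inferInstance, hNcard, hNidx⟩, ?_⟩
  have hco : (Nat.card N).Coprime N.index := Nat.coprime_of_dvd fun r hr h1 h2 => hNcard r hr h1 (hNidx r hr h2)
  obtain ⟨H, hH⟩ := Subgroup.exists_right_complement'_of_coprime hco
  refine ⟨H, ⟨fun r hr hrd => ?_, fun r hr hrπ hd => ?_⟩, ?_⟩
  · exact Finset.mem_coe.2 (hNidx r hr (by rwa [hH.symm.index_eq_card]))
  · rw [hH.index_eq_card] at hd
    exact hNcard r hr hd (Finset.mem_coe.1 hrπ)
  -- the derived group of `H` has order prime to each prime of `|H|`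
  refine ⟨⟨fun a b => ?_⟩⟩
  rw [← commutatorElement_eq_one_iff_mul_comm]
  have hb : commutator H = ⊥ := by
    refine Subgroup.eq_bot_of_card_eq _ ?_
    by_contra hne
    obtain ⟨r, hr, hrd⟩ := Nat.exists_prime_and_dvd hne
    haveI := Fact.mk hr
    have hrπ : r ∈ π := hNidx r hr (by
      rw [hH.symm.index_eq_card]; exact hrd.trans (Subgroup.card_subgroup_dvd_card _))
    obtain ⟨hn, hab⟩ := hloc r hrπ
    have hnH := CfsgLib.Solv.hnpc_subgroup hn H
    haveI := CfsgLib.Inv.pResidual_normal r H
    obtain ⟨P0⟩ := (inferInstance : Nonempty (Sylow r H))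
    obtain ⟨R, hR⟩ := (P0.2.map H.subtype).exists_le_sylow
    have hle : commutator H ≤ Cfsg.pResidual r H := by
      rw [commutator_def, Subgroup.commutator_le]
      intro u _ v _
      have key : ∀ u : H, ∃ s ∈ (P0 : Subgroup H), (u : H ⧸ Cfsg.pResidual r H) = s := by
        intro u
        have : u ∈ (((P0 : Subgroup H) : Set H) * (Cfsg.pResidual r H : Set H)) := by
          rw [← Subgroup.mul_normal, CfsgLib.Solv.sylow_sup_pResidual]; trivial
        obtain ⟨s, hs, c, hc, rfl⟩ := this
        exact ⟨s, hs, by rw [QuotientGroup.mk_mul, (QuotientGroup.eq_one_iff c).2 hc, mul_one]⟩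
      obtain ⟨s, hs, e1⟩ := key u
      obtain ⟨t, ht, e2⟩ := key v
      rw [← QuotientGroup.eq_one_iff]
      show QuotientGroup.mk' _ ⁅u, v⁆ = 1
      rw [map_commutatorElement, QuotientGroup.mk'_apply, QuotientGroup.mk'_apply, e1, e2,
        ← QuotientGroup.mk'_apply, ← QuotientGroup.mk'_apply, ← map_commutatorElement,
        commutatorElement_eq_one_iff_mul_comm.2, map_one]
      haveI := hab R
      exact Subtype.ext (CfsgLib.Solv.commute_of_isMulCommutative (A := (R : Subgroup G))
        (hR ⟨s, hs, rfl⟩) (hR ⟨t, ht, rfl⟩))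
    exact CfsgLib.Solv.hnpc_iff.1 hnH (hrd.trans (Subgroup.card_dvd_of_le hle))
  exact Subgroup.mem_bot.1 (hb ▸ Subgroup.commutator_mem_commutator (Subgroup.mem_top a) (Subgroup.mem_top b))

end Cfsg.Agent.S3899
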