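import Cfsg.Statements.S3908
import Cfsg.Agent.Solv.UniqueSub
import Cfsg.Agent.Solv.CoprimeAction

set_option autoImplicit false
open Cfsg

namespace Cfsg.Agent.S3908

/-- Let G be a finite group in which any two abelian subgroups of the same order are conjugate. Then a Sylow 2-subgroup of G is cyclic, elementary abelian or generalized quaternion, and for an odd prime p a Sylow p-subgroup of G is cyclic or has exponent dividing p. -/
theorem result {G : Type*} [Group G] [Finite G] (hB : ∀ A B : Subgroup G, IsMulCommutative ↥A → IsMulCommutative ↥B → Nat.card ↥A = Nat.card ↥B → ∃ g : G, B = A.map (MulAut.conj g).toMonoidHom) :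
    (∀ P : Sylow 2 G, IsCyclic ↥(P : Subgroup G) ∨ Cfsg.IsElementaryAbelian 2 (P : Subgroup G) ∨ ∃ k : ℕ, Nonempty (↥(P : Subgroup G) ≃* QuaternionGroup (2 ^ k))) ∧
    ∀ (p : ℕ) [Fact p.Prime], p ≠ 2 → ∀ P : Sylow p G, IsCyclic ↥(P : Subgroup G) ∨ ∀ x ∈ (P : Subgroup G), x ^ p = 1 := by
  classical
  have key : ∀ (p : ℕ) [Fact p.Prime] (P : Sylow p G),
      (∀ x y : ↥(P : Subgroup G), orderOf x = p → orderOf y = p → y ∈ Subgroup.zpowers x) ∨
        ∀ g ∈ (P : Subgroup G), g ^ p = 1 := by
    intro p hp P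
    refine or_iff_not_imp_left.2 fun hnu g hg => ?_
    push Not at hnu
    obtain ⟨x, y, hx, hy, hxy⟩ := hnu
    have hPp := P.isPGroup'
    haveI : Nontrivial ↥(P : Subgroup G) := ⟨⟨x, 1, fun e => hp.out.ne_one (by rw [← hx, e, orderOf_one])⟩⟩
    haveI := hPp.center_nontrivial
    obtain ⟨⟨z, hzc⟩, hz1⟩ := exists_ne (1 : ↥(Subgroup.center ↥(P : Subgroup G)))
    obtain ⟨k, hk⟩ := (IsPGroup.iff_orderOf.1 hPp) z
    have hk0 : k ≠ 0 := by
      rintro rfl
      exact hz1 (Subtype.ext (orderOf_eq_one_iff.1 (by simpa using hk)))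
    set w := z ^ p ^ (k - 1) with hw
    have hwo : orderOf w = p := by
      rw [hw, orderOf_pow' z (pow_ne_zero _ hp.out.pos.ne'), hk, Nat.gcd_eq_right (pow_dvd_pow p (by omega)),
        Nat.pow_div (by omega) hp.out.pos, show k - (k - 1) = 1 by omega, pow_one]
    obtain ⟨v, hv, hvw⟩ : ∃ v, orderOf v = p ∧ v ∉ Subgroup.zpowers w := by
      by_cases h1 : x ∈ Subgroup.zpowers w
      · refine ⟨y, hy, fun h2 => hxy ?_⟩
        have he : Subgroup.zpowers x = Subgroup.zpowers w :=
          Subgroup.eq_of_le_of_card_ge (Subgroup.zpowers_le.2 h1) (by rw [Nat.card_zpowers, Nat.card_zpowers, hx, hwo])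
        rwa [he]
      · exact ⟨x, hx, h1⟩
    have hcw : ∀ u, Commute w u := fun u =>
      ((show Commute z u from (Subgroup.mem_center_iff.1 hzc u).symm)).pow_left _
    set A := Subgroup.zpowers (w : G) ⊔ Subgroup.zpowers (v : G) with hA
    have hcomm : ∀ a ∈ A, ∀ b ∈ A, Commute a b := by
      have h1 : A ≤ Subgroup.centralizer ({(w : G), (v : G)} : Set G) := by
        refine sup_le (Subgroup.zpowers_le.2 ?_) (Subgroup.zpowers_le.2 ?_)
        · intro u hu
          rcases hu with rfl | rfl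
          · rfl
          · exact (congrArg Subtype.val (hcw v).eq).symm
        · intro u hu
          rcases hu with rfl | rfl
          · exact congrArg Subtype.val (hcw v).eq
          · rfl
      intro a ha b hb
      have h2 : A ≤ Subgroup.centralizer ({a} : Set G) := by
        refine sup_le (Subgroup.zpowers_le.2 ?_) (Subgroup.zpowers_le.2 ?_) <;> rintro u rfl
        · exact (h1 ha _ (Set.mem_insert _ _)).symm
        · exact (h1 ha _ (Set.mem_insert_of_mem _ rfl)).symm
      exact h2 hb a rfl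
    have hexp : ∀ a ∈ A, a ^ p = 1 := by
      intro a ha
      rw [hA, Subgroup.sup_eq_closure] at ha
      have hle : Subgroup.closure ((Subgroup.zpowers (w : G) : Set G) ∪ (Subgroup.zpowers (v : G) : Set G)) ≤ A :=
        (Subgroup.sup_eq_closure _ _).ge
      induction ha using Subgroup.closure_induction with
      | mem u hu =>
        rcases hu with hu | hu <;> obtain ⟨i, rfl⟩ := hu
        · have : (w : G) ^ p = 1 := orderOf_dvd_iff_pow_eq_one.1 (by rw [Subgroup.orderOf_coe, hwo])
          show ((w : G) ^ i) ^ p = 1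
          rw [← zpow_natCast ((w : G) ^ i), ← zpow_mul, mul_comm, zpow_mul, zpow_natCast, this, one_zpow]
        · have : (v : G) ^ p = 1 := orderOf_dvd_iff_pow_eq_one.1 (by rw [Subgroup.orderOf_coe, hv])
          show ((v : G) ^ i) ^ p = 1
          rw [← zpow_natCast ((v : G) ^ i), ← zpow_mul, mul_comm, zpow_mul, zpow_natCast, this, one_zpow]
      | one => exact one_pow p
      | mul a b ha hb iha ihb => rw [(hcomm a (hle ha) b (hle hb)).mul_pow, iha, ihb, one_mul]
      | inv a _ iha => rw [inv_pow, iha, inv_one]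
    have hAm : IsMulCommutative ↥A := ⟨⟨fun a b => Subtype.ext (hcomm a a.2 b b.2).eq⟩⟩
    have hcard : Nat.card ↥A = p ^ 2 := by
      have hn : Subgroup.zpowers (w : G) ≤ Subgroup.normalizer ((Subgroup.zpowers (v : G) : Subgroup G) : Set G) :=
        (Subgroup.zpowers_le.2 (Subgroup.mem_centralizer_iff.2 fun u hu => (hcomm u (Subgroup.mem_sup_right hu) _
          (Subgroup.mem_sup_left (Subgroup.mem_zpowers (w : G)))).eq)).trans (Subgroup.centralizer_le_normalizer _)
      have hAP : A ≤ (P : Subgroup G) := sup_le (Subgroup.zpowers_le.2 w.2) (Subgroup.zpowers_le.2 v.2)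
      obtain ⟨j, hje⟩ := IsPGroup.iff_card.1 (hPp.to_le hAP)
      have h1 : Nat.card ↥A ≤ p * p := by
        let f : ↥(Subgroup.zpowers (v : G)) × ↥(Subgroup.zpowers (w : G)) → ↥A := fun q =>
          ⟨(q.1 : G) * q.2, A.mul_mem (Subgroup.mem_sup_right q.1.2) (Subgroup.mem_sup_left q.2.2)⟩
        refine (Nat.card_le_card_of_surjective f ?_).trans ?_
        · intro u
          obtain ⟨m, hm, x', hx', he⟩ := CfsgLib.Solv.exists_mul_of_mem_sup hn u.2
          exact ⟨(⟨m, hm⟩, ⟨x', hx'⟩), Subtype.ext he.symm⟩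
        · rw [Nat.card_prod, Nat.card_zpowers, Nat.card_zpowers, Subgroup.orderOf_coe, Subgroup.orderOf_coe, hwo, hv]
      have h2 : Subgroup.zpowers (w : G) < A := lt_of_le_of_ne le_sup_left fun e => hvw (by
        obtain ⟨i, hi⟩ := (e.ge (Subgroup.mem_sup_right (Subgroup.mem_zpowers (v : G))))
        exact ⟨i, Subtype.ext (by simpa using hi)⟩)
      have h3 : p < Nat.card ↥A := by
        refine lt_of_not_ge fun hge => h2.ne (Subgroup.eq_of_le_of_card_ge h2.le ?_)
        rwa [Nat.card_zpowers, Subgroup.orderOf_coe, hwo]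
      rw [hje] at h1 h3 ⊢
      have hj1 : 1 < j := by
        by_contra hj1
        have := Nat.pow_le_pow_right hp.out.pos (show j ≤ 1 by omega)
        rw [pow_one] at this
        omega
      have hj2 : j ≤ 2 := by
        by_contra hj2
        have := Nat.pow_lt_pow_right hp.out.one_lt (show 2 < j by omega)
        rw [pow_two] at this
        omega
      rw [show j = 2 by omega]
    by_contra hgp
    obtain ⟨m, hm⟩ := (IsPGroup.iff_orderOf.1 hPp) ⟨g, hg⟩
    rw [Subgroup.orderOf_mk] at hm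
    have hm2 : 2 ≤ m := by
      by_contra hm2
      refine hgp (orderOf_dvd_iff_pow_eq_one.1 (hm ▸ ?_))
      calc p ^ m ∣ p ^ 1 := pow_dvd_pow p (by omega)
        _ = p := pow_one p
    set h := g ^ p ^ (m - 2) with hh
    have hho : orderOf h = p ^ 2 := by
      rw [hh, orderOf_pow' g (pow_ne_zero _ hp.out.pos.ne'), hm, Nat.gcd_eq_right (pow_dvd_pow p (by omega)),
        Nat.pow_div (by omega) hp.out.pos, show m - (m - 2) = 2 by omega]
    obtain ⟨c, hc⟩ := hB A (Subgroup.zpowers h) hAm inferInstance (by rw [hcard, Nat.card_zpowers, hho])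
    obtain ⟨a, ha, hae⟩ := (hc ▸ Subgroup.mem_zpowers h : h ∈ A.map (MulAut.conj c).toMonoidHom)
    have hhp : h ^ p = 1 := by rw [← hae, ← map_pow, hexp a ha, map_one]
    have h4 := orderOf_dvd_of_pow_eq_one hhp
    rw [hho] at h4
    have := Nat.le_of_dvd hp.out.pos h4
    nlinarith [hp.out.two_le]
  refine ⟨fun P => ?_, fun p hp hp2 P => ?_⟩
  · haveI : Fact (Nat.Prime 2) := ⟨Nat.prime_two⟩
    rcases key 2 P with hu | he
    · rcases CfsgLib.Solv.pgroup_unique_sub P.isPGroup' hu with h | ⟨-, n, h⟩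
      · exact Or.inl h
      · exact Or.inr (Or.inr ⟨n + 1, h⟩)
    · refine Or.inr (Or.inl ⟨⟨⟨fun a b => Subtype.ext ?_⟩⟩, he⟩)
      have h2 : ∀ u ∈ (P : Subgroup G), u⁻¹ = u := fun u hu =>
        inv_eq_of_mul_eq_one_right (by rw [← pow_two]; exact he u hu)
      calc ((a : G) * b) = ((a : G) * b)⁻¹ := (h2 _ (mul_mem a.2 b.2)).symm
        _ = (b : G) * a := by rw [mul_inv_rev, h2 _ a.2, h2 _ b.2]
  · rcases key p P with hu | he
    · rcases CfsgLib.Solv.pgroup_unique_sub P.isPGroup' hu with h | ⟨h, -⟩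
      · exact Or.inl h
      · exact absurd h hp2
    · exact Or.inr he

end Cfsg.Agent.S3908
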