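import Cfsg.Statements.S3909
import Cfsg.Agent.Solv.Basic

set_option autoImplicit false
open Cfsg
open scoped Pointwise

namespace Cfsg.Agent.S3909

/-- Let G be a finite group in which any two abelian subgroups of the same order are conjugate. Let M be a normal subgroup of G. If M contains an element of the same order as a ∈ G, then a ∈ M; and if M is elementary abelian of order p^t with p prime and t ≥ 2, then M is the unique Sylow p-subgroup of G. -/
theorem result {G : Type*} [Group G] [Finite G] (hB : ∀ A B : Subgroup G, IsMulCommutative ↥A → IsMulCommutative ↥B → Nat.card ↥A = Nat.card ↥B → ∃ g : G, B = A.map (MulAut.conj g).toMonoidHom) (M : Subgroup G) [M.Normal] :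
    (∀ a : G, (∃ m ∈ M, orderOf m = orderOf a) → a ∈ M) ∧
    ∀ (p t : ℕ) [Fact p.Prime], 2 ≤ t → Nat.card ↥M = p ^ t → Cfsg.IsElementaryAbelian p M → ∀ P : Sylow p G, (P : Subgroup G) = M := by
  classical
  have hconjcard : ∀ a b : G, orderOf a = orderOf b → ∃ g : G, Subgroup.zpowers b = (Subgroup.zpowers a).map (MulAut.conj g).toMonoidHom :=
    fun a b h => hB _ _ inferInstance inferInstance (by rw [Nat.card_zpowers, Nat.card_zpowers, h])
  have key : ∀ a : G, (∃ m ∈ M, orderOf m = orderOf a) → a ∈ M := by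
    rintro a ⟨m, hm, ho⟩
    obtain ⟨g, hg⟩ := hconjcard m a ho
    have : a ∈ (Subgroup.zpowers m).map (MulAut.conj g).toMonoidHom := hg ▸ Subgroup.mem_zpowers a
    obtain ⟨z, ⟨i, rfl⟩, hz⟩ := this
    rw [← hz]
    exact Subgroup.Normal.conj_mem ‹M.Normal› _ (zpow_mem hm i) g
  refine ⟨key, fun p t hp ht hc hE P => ?_⟩
  have hMp : IsPGroup p M := IsPGroup.of_card hc
  obtain ⟨Q, hQ⟩ := hMp.exists_le_sylow
  suffices hQM : (Q : Subgroup G) = M by
    obtain ⟨g, hg⟩ := MulAction.exists_smul_eq G Q P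
    rw [← hg, Sylow.coe_subgroup_smul, hQM, CfsgLib.Solv.conj_smul_eq_map]
    refine le_antisymm ?_ fun m hm => ?_
    · rintro _ ⟨m, hm, rfl⟩; exact Subgroup.Normal.conj_mem ‹M.Normal› m hm g
    · exact ⟨g⁻¹ * m * g, by simpa using Subgroup.Normal.conj_mem ‹M.Normal› m hm g⁻¹, show g * (g⁻¹ * m * g) * g⁻¹ = m by group⟩
  by_contra hne
  have hlt : M.subgroupOf (Q : Subgroup G) ≠ ⊤ := fun h => hne (le_antisymm (Subgroup.subgroupOf_eq_top.1 h) hQ)
  haveI : (M.subgroupOf (Q : Subgroup G)).Normal := Subgroup.normal_subgroupOf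
  let T := (Q : Subgroup G) ⧸ M.subgroupOf (Q : Subgroup G)
  have hT : IsPGroup p T := Q.2.to_quotient _
  obtain ⟨n, hn⟩ := hT.exists_card_eq
  have hn0 : n ≠ 0 := by
    rintro rfl
    exact hlt (Subgroup.index_eq_one.1 (by rw [Subgroup.index]; simpa using hn))
  obtain ⟨y, hy⟩ := exists_prime_orderOf_dvd_card' p (G := T) (hn ▸ dvd_pow_self p hn0)
  obtain ⟨x, rfl⟩ := QuotientGroup.mk_surjective y
  have hxM : (x : G) ∉ M := fun h => hp.out.ne_one (by
    rw [← hy, (QuotientGroup.eq_one_iff x).2 (Subgroup.mem_subgroupOf.2 h), orderOf_one])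
  have hxp : (x : G) ^ p ∈ M := by
    have : (QuotientGroup.mk (x ^ p) : T) = 1 := by
      rw [QuotientGroup.mk_pow]; exact orderOf_dvd_iff_pow_eq_one.1 (dvd_of_eq hy)
    exact (Subgroup.mem_subgroupOf).1 ((QuotientGroup.eq_one_iff _).1 this)
  have hx2 : orderOf (x : G) = p ^ 2 := by
    refine orderOf_eq_prime_pow (fun h => ?_) ?_
    · rw [pow_one] at h
      obtain ⟨m, hm⟩ := exists_prime_orderOf_dvd_card' p (G := M) (hc ▸ dvd_pow_self p (by omega))
      rcases (Nat.dvd_prime hp.out).1 (orderOf_dvd_of_pow_eq_one h) with h1 | h1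
      · exact hxM (by rw [orderOf_eq_one_iff.1 h1]; exact one_mem M)
      · exact hxM (key x ⟨m, m.2, by rw [Subgroup.orderOf_coe, hm, h1]⟩)
    · rw [show p ^ (1 + 1) = p * p by ring, pow_mul]
      exact hE.2 _ hxp
  obtain ⟨S, hS, hSM⟩ := Sylow.exists_subgroup_card_pow_prime p (G := M) (n := 2) (hc ▸ pow_dvd_pow p ht) |>.imp (fun S hS => And.intro hS (Subgroup.map_subtype_le S))
  have hSab : IsMulCommutative (S.map M.subtype : Subgroup G) := ⟨⟨fun a b => by
    have hh := congrArg Subtype.val (hE.1.is_comm.comm ⟨(a : G), hSM a.2⟩ ⟨(b : G), hSM b.2⟩)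
    exact Subtype.ext hh⟩⟩
  obtain ⟨g, hg⟩ := hB (S.map M.subtype) (Subgroup.zpowers (x : G)) hSab inferInstance (by
    rw [Nat.card_zpowers, hx2, Subgroup.card_map_of_injective M.subtype_injective, hS])
  obtain ⟨z, hz, hzx⟩ : (x : G) ∈ (S.map M.subtype).map (MulAut.conj g).toMonoidHom := hg ▸ Subgroup.mem_zpowers _
  have : orderOf (x : G) ∣ p := orderOf_dvd_of_pow_eq_one (by rw [← hzx, ← map_pow, hE.2 z (hSM hz), map_one])
  rw [hx2] at this
  have := Nat.le_of_dvd hp.out.pos this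
  nlinarith [hp.out.two_le]

end Cfsg.Agent.S3909
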