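import Cfsg.Statements.S3910
import Cfsg.Agent.Solv.Basic

set_option autoImplicit false
open Cfsg

namespace Cfsg.Agent.S3910

/-- A finite nilpotent group in which any two abelian subgroups of the same order are conjugate is cyclic. -/
theorem result {G : Type*} [Group G] [Finite G] (hB : ∀ A B : Subgroup G, IsMulCommutative ↥A → IsMulCommutative ↥B → Nat.card ↥A = Nat.card ↥B → ∃ g : G, B = A.map (MulAut.conj g).toMonoidHom) (hnil : Group.IsNilpotent G) : IsCyclic G := by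
  classical
  haveI := hnil
  haveI := Fintype.ofFinite G
  suffices hz : IsZGroup G from inferInstance
  refine ⟨fun p hp P => ?_⟩
  haveI := Fact.mk hp
  obtain ⟨g₀, -, hgmax⟩ := (Finset.univ.filter fun g : G => g ∈ (P : Subgroup G)).exists_max_image orderOf
    ⟨1, by simp [one_mem]⟩ |>.imp fun g h => And.intro trivial h
  obtain ⟨hg₀m, hgmax⟩ : g₀ ∈ (P : Subgroup G) ∧ ∀ u ∈ (P : Subgroup G), orderOf u ≤ orderOf g₀ :=
    ⟨(Finset.mem_filter.1 hgmax.1).2, fun u hu => hgmax.2 u (Finset.mem_filter.2 ⟨Finset.mem_univ _, hu⟩)⟩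
  haveI hPn : (P : Subgroup G).Normal :=
    ((Group.isNilpotent_of_finite_tfae (G := G)).out 0 3 : Group.IsNilpotent G ↔ ∀ (q : ℕ) (_ : Fact q.Prime) (P : Sylow q G), (P : Subgroup G).Normal).1 hnil p inferInstance P
  have hord : ∀ u ∈ (P : Subgroup G), ∃ j, orderOf u = p ^ j := fun u hu => by
    obtain ⟨k, hk⟩ := P.2 ⟨u, hu⟩
    obtain ⟨j, -, hj⟩ := (Nat.dvd_prime_pow hp).1 (orderOf_dvd_of_pow_eq_one (congrArg Subtype.val hk : u ^ p ^ k = 1))
    exact ⟨j, hj⟩
  suffices hall : ∀ u ∈ (P : Subgroup G), u ∈ Subgroup.zpowers g₀ from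
    ⟨⟨⟨g₀, hg₀m⟩, fun u => by
      obtain ⟨i, hi⟩ := Subgroup.mem_zpowers_iff.1 (hall u u.2)
      exact ⟨i, Subtype.ext hi⟩⟩⟩
  by_contra hno
  push Not at hno
  obtain ⟨u₀, hu₀P, hu₀⟩ := hno
  obtain ⟨h, hh, hmin⟩ := (Finset.univ.filter fun u : G => u ∈ (P : Subgroup G) ∧ u ∉ Subgroup.zpowers g₀).exists_min_image orderOf
    ⟨u₀, by simp [hu₀P, hu₀]⟩
  obtain ⟨hhP, hhg⟩ := (Finset.mem_filter.1 hh).2
  have hmin' : ∀ u ∈ (P : Subgroup G), orderOf u < orderOf h → u ∈ Subgroup.zpowers g₀ := by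
    intro u hu hlt
    by_contra hug
    exact absurd (hmin u (Finset.mem_filter.2 ⟨Finset.mem_univ _, hu, hug⟩)) (not_le.2 hlt)
  obtain ⟨i, hi⟩ := hord h hhP
  obtain ⟨i', rfl⟩ : ∃ i', i = i' + 1 := Nat.exists_eq_succ_of_ne_zero (by
    rintro rfl
    rw [pow_zero, orderOf_eq_one_iff] at hi
    exact hhg (hi ▸ one_mem _))
  set a := h ^ p with hadef
  have haord : orderOf a = p ^ i' := by
    rw [hadef, orderOf_pow_of_dvd hp.ne_zero (hi ▸ dvd_pow_self p i'.succ_ne_zero), hi, pow_succ,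
      Nat.mul_div_cancel _ hp.pos]
  have haP : a ∈ (P : Subgroup G) := pow_mem hhP p
  have hlt : p ^ i' < orderOf h := hi ▸ Nat.pow_lt_pow_right hp.one_lt (Nat.lt_succ_self i')
  have hag : a ∈ Subgroup.zpowers g₀ := hmin' a haP (haord ▸ hlt)
  have huniq : ∀ b ∈ Subgroup.zpowers g₀, orderOf b = p ^ i' → Subgroup.zpowers b = Subgroup.zpowers a := by
    intro b hb hbo
    have key : ∀ c ∈ Subgroup.zpowers g₀, orderOf c = p ^ i' →
        Subgroup.zpowers c = Subgroup.zpowers (g₀ ^ (orderOf g₀ / p ^ i')) := by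
      intro c hc hco
      obtain ⟨k, rfl⟩ := Subgroup.mem_zpowers_iff.1 hc
      have hd : p ^ i' ∣ orderOf g₀ := by
        refine hco ▸ orderOf_dvd_of_pow_eq_one ?_
        rw [← zpow_natCast, ← zpow_mul, mul_comm, zpow_mul, zpow_natCast, pow_orderOf_eq_one, one_zpow]
      obtain ⟨e, he⟩ := hd
      have h1 : (orderOf g₀ : ℤ) ∣ k * (p ^ i' : ℕ) := by
        rw [orderOf_dvd_iff_zpow_eq_one, zpow_mul, zpow_natCast, ← hco, pow_orderOf_eq_one]
      rw [he, Nat.cast_mul, mul_comm k] at h1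
      obtain ⟨t, rfl⟩ := Int.dvd_of_mul_dvd_mul_left (Int.natCast_ne_zero.2 (pow_ne_zero _ hp.ne_zero)) h1
      have he' : orderOf g₀ / p ^ i' = e := by rw [he, Nat.mul_div_cancel_left _ (pow_pos hp.pos _)]
      rw [he']
      refine Subgroup.eq_of_le_of_card_ge (Subgroup.zpowers_le.2 ⟨t, ?_⟩) ?_
      · show (g₀ ^ e) ^ t = g₀ ^ ((e : ℤ) * t)
        rw [zpow_mul, zpow_natCast]
      · rw [Nat.card_zpowers, Nat.card_zpowers, hco, ← he', orderOf_pow_orderOf_div (orderOf_pos g₀).ne' ⟨e, he⟩]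
    rw [key b hb hbo, key a hag haord]
  set A := Subgroup.zpowers a with hA
  haveI hAn : A.Normal := by
    refine ⟨fun b hb c => ?_⟩
    obtain ⟨k, rfl⟩ := hb
    have hca : c * a * c⁻¹ ∈ Subgroup.zpowers g₀ := hmin' _ (hPn.conj_mem a haP c) (by
      rw [show orderOf (c * a * c⁻¹) = orderOf a from MulEquiv.orderOf_eq (MulAut.conj c) a, haord]; exact hlt)
    have he := huniq _ hca (by rw [show orderOf (c * a * c⁻¹) = orderOf a from MulEquiv.orderOf_eq (MulAut.conj c) a, haord])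
    show c * a ^ k * c⁻¹ ∈ A
    rw [← conj_zpow]
    exact zpow_mem (show c * a * c⁻¹ ∈ A by rw [← he]; exact Subgroup.mem_zpowers _) k
  have hacomm : ∀ u ∈ (P : Subgroup G), Commute u a := by
    intro u hu
    obtain ⟨j, hj⟩ := hord u hu
    by_cases hju : orderOf u < orderOf h
    · obtain ⟨k, hk⟩ := hmin' u hu hju
      obtain ⟨l, hl⟩ := hag
      rw [← hk, ← hl]
      exact (Commute.refl g₀).zpow_zpow k l
    · have hdvd : p ^ i' ∣ orderOf u := by
        rw [hj]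
        refine pow_dvd_pow p ?_
        by_contra hc
        exact hju (by rw [hj, hi]; exact Nat.pow_lt_pow_right hp.one_lt (by omega))
      set v := u ^ (orderOf u / p ^ i') with hv
      have hvo : orderOf v = p ^ i' := by
        rw [hv, orderOf_pow_orderOf_div (orderOf_pos u).ne' hdvd]
      have hvg : v ∈ Subgroup.zpowers g₀ := hmin' v (pow_mem hu _) (hvo ▸ hlt)
      have : a ∈ Subgroup.zpowers v := by rw [huniq v hvg hvo]; exact Subgroup.mem_zpowers a
      obtain ⟨k, hk⟩ := this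
      rw [← hk, hv]
      exact ((Commute.refl u).pow_right _).zpow_right k
  -- a normal abelian subgroup of order `p ^ (i' + 1)`
  let π := QuotientGroup.mk' A
  have hhA : h ∉ A := fun hm => hhg (Subgroup.zpowers_le.2 hag hm)
  let Pb := (P : Subgroup G).map π
  haveI : Pb.Normal := hPn.map π (QuotientGroup.mk'_surjective A)
  have hPb : IsPGroup p Pb := P.2.map π
  obtain ⟨z, hzP, hzc, hz1⟩ : ∃ z ∈ Pb, z ∈ Subgroup.center (G ⧸ A) ∧ z ≠ 1 := by
    have hne : Pb ≠ ⊥ := fun e => hhA ((QuotientGroup.eq_one_iff h).1 (Subgroup.mem_bot.1 (e ▸ ⟨h, hhP, rfl⟩)))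
    have h' : Pb ⊓ Subgroup.center (G ⧸ A) ≠ ⊥ := by
      intro e
      have key : ∀ n, ∀ x ∈ Pb, x ∈ Subgroup.upperCentralSeries (G ⧸ A) n → x = 1 := by
        intro n
        induction n with
        | zero => intro x _ hx; simpa using hx
        | succ n ih =>
          intro x hx hx'
          refine Subgroup.mem_bot.1 (e ▸ ⟨hx, Subgroup.mem_center_iff.2 fun y => ?_⟩)
          rw [Subgroup.mem_upperCentralSeries_succ_iff] at hx'
          have h1 := ih _ (mul_mem (mul_mem (mul_mem hx (Subgroup.one_mem Pb)) (‹Pb.Normal›.conj_mem _ (inv_mem hx) y)) (Subgroup.one_mem Pb))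
            (by simpa [commutatorElement_def, mul_assoc] using hx' y)
          rw [mul_one, mul_one] at h1
          calc y * x = x * (y * x⁻¹ * y⁻¹) * (y * x) := by rw [h1, one_mul]
            _ = _ := by group
      obtain ⟨n, hn⟩ := Group.IsNilpotent.nilpotent (G ⧸ A)
      exact hne ((Subgroup.eq_bot_iff_forall _).2 fun x hx => key n x hx (hn ▸ Subgroup.mem_top x))
    obtain ⟨⟨z, hz⟩, hz'⟩ := Subgroup.ne_bot_iff_exists_ne_one.1 h'
    exact ⟨z, hz.1, hz.2, fun e => hz' (Subtype.ext e)⟩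
  obtain ⟨l, hl⟩ := hPb ⟨z, hzP⟩
  obtain ⟨l', -, hl'⟩ := (Nat.dvd_prime_pow hp).1 (orderOf_dvd_of_pow_eq_one (congrArg Subtype.val hl : z ^ p ^ l = 1))
  obtain ⟨l'', rfl⟩ : ∃ l'', l' = l'' + 1 := Nat.exists_eq_succ_of_ne_zero (by
    rintro rfl
    rw [pow_zero, orderOf_eq_one_iff] at hl'
    exact hz1 hl')
  set w := z ^ p ^ l'' with hwdef
  have hwo : orderOf w = p := by
    rw [hwdef, orderOf_pow_of_dvd (pow_ne_zero _ hp.ne_zero) (hl' ▸ pow_dvd_pow p (Nat.le_succ _)), hl', pow_succ,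
      Nat.mul_div_cancel_left _ (pow_pos hp.pos _)]
  have hwc : w ∈ Subgroup.center (G ⧸ A) := pow_mem hzc _
  obtain ⟨x, hxP, hxw⟩ : w ∈ Pb := pow_mem hzP _
  let N : Subgroup G := (Subgroup.zpowers w).comap π
  haveI hNn : N.Normal := by
    haveI : (Subgroup.zpowers w).Normal := ⟨fun b hb c => by
      rw [Subgroup.mem_center_iff.1 (Subgroup.zpowers_le.2 hwc hb) c, mul_inv_cancel_right]; exact hb⟩
    exact Subgroup.Normal.comap ‹_› π
  have hNc : Nat.card N = p ^ (i' + 1) := by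
    have hidx := Subgroup.index_comap_of_surjective (Subgroup.zpowers w) (QuotientGroup.mk'_surjective A)
    have h1 := Subgroup.card_mul_index N
    have h2 := Subgroup.card_mul_index (Subgroup.zpowers w)
    have h3 := Subgroup.card_eq_card_quotient_mul_card_subgroup A
    rw [← h2, Nat.card_zpowers, hwo] at h3
    rw [h3, show N.index = _ from hidx, show Nat.card A = p ^ i' from (Nat.card_zpowers a).trans haord] at h1
    refine Nat.eq_of_mul_eq_mul_right (Nat.pos_of_ne_zero (Subgroup.index_ne_zero_of_finite (H := Subgroup.zpowers w))) (h1.trans ?_)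
    ring
  have hNgen : ∀ v ∈ N, ∃ k : ℤ, ∃ b ∈ A, v = x ^ k * b := by
    intro v hv
    obtain ⟨k, hk⟩ := Subgroup.mem_zpowers_iff.1 (hv : π v ∈ Subgroup.zpowers w)
    refine ⟨k, (x ^ k)⁻¹ * v, (QuotientGroup.eq_one_iff _).1 ?_, by group⟩
    show π _ = 1
    rw [map_mul, map_inv, map_zpow, hxw, hk, inv_mul_cancel]
  have hxA : ∀ b ∈ A, Commute x b := by
    rintro _ ⟨k, rfl⟩
    exact (hacomm x hxP).zpow_right k
  have hNab : IsMulCommutative N := ⟨⟨fun u v => Subtype.ext (by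
    obtain ⟨k, b, hb, hu⟩ := hNgen u u.2
    obtain ⟨k', b', hb', hv⟩ := hNgen v v.2
    show (u : G) * v = v * u
    rw [hu, hv]
    refine (Commute.mul_right ?_ ?_).mul_left (Commute.mul_right ?_ ?_)
    · exact (Commute.refl x).zpow_zpow k k'
    · exact (hxA b' hb').zpow_left k
    · exact ((hxA b hb).zpow_left k').symm
    · obtain ⟨s, rfl⟩ := hb
      obtain ⟨t, rfl⟩ := hb'
      exact (Commute.refl a).zpow_zpow s t)⟩⟩
  have hcyc_eq : ∀ b : G, orderOf b = p ^ (i' + 1) → Subgroup.zpowers b = N := by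
    intro b hb
    obtain ⟨c, hc⟩ := hB N (Subgroup.zpowers b) hNab inferInstance (by rw [hNc, Nat.card_zpowers, hb])
    rw [hc]
    exact le_antisymm (by rintro _ ⟨v, hv, rfl⟩; exact hNn.conj_mem v hv c)
      fun v hv => ⟨c⁻¹ * v * c, by simpa using hNn.conj_mem v hv c⁻¹, show c * (c⁻¹ * v * c) * c⁻¹ = v by group⟩
  have hdvd : p ^ (i' + 1) ∣ orderOf g₀ := by
    obtain ⟨j, hj⟩ := hord g₀ hg₀m
    rw [hj]
    refine pow_dvd_pow p ?_
    by_contra hc
    have := hgmax h hhP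
    rw [hj, hi] at this
    exact absurd this (not_le.2 (Nat.pow_lt_pow_right hp.one_lt (by omega)))
  have e1 := hcyc_eq _ (orderOf_pow_orderOf_div (orderOf_pos g₀).ne' hdvd)
  have e2 := hcyc_eq h hi
  exact hhg (Subgroup.zpowers_le.2 (pow_mem (Subgroup.mem_zpowers g₀) _) (e1.symm ▸ e2 ▸ Subgroup.mem_zpowers h))

end Cfsg.Agent.S3910
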