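import Cfsg.Statements.S3917
import Cfsg.Agent.Solv.Generation

set_option autoImplicit false
open Cfsg

namespace Cfsg.Agent.S3917

/-- Say that a group has self-centralizing non-cyclic subgroups when every non-cyclic subgroup H satisfies C_G(H) ≤ H. A finite abelian group with self-centralizing non-cyclic subgroups is cyclic or elementary abelian of order p² for a prime p. -/
theorem result {G : Type*} [CommGroup G] [Finite G] (hX : (∀ H : Subgroup G, ¬ IsCyclic ↥H → Subgroup.centralizer (H : Set G) ≤ H)) :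
    IsCyclic G ∨ ∃ p : ℕ, p.Prime ∧ Nat.card G = p ^ 2 ∧ Monoid.exponent G = p := by
  classical
  by_cases hcyc : IsCyclic G
  · exact Or.inl hcyc
  refine Or.inr ?_
  have htop : ∀ H : Subgroup G, ¬ IsCyclic ↥H → H = ⊤ := fun H hH => eq_top_iff.2 fun g _ =>
    hX H hH (Subgroup.mem_centralizer_iff.2 fun h _ => mul_comm h g)
  obtain ⟨p, hp, hbig⟩ : ∃ q : ℕ, q.Prime ∧ q < Nat.card (powMonoidHom q : G →* G).ker := by
    by_contra hno
    push Not at hno
    exact hcyc (CfsgLib.Solv.isCyclic_of_card_prime_roots_le hno)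
  haveI : Fact p.Prime := ⟨hp⟩
  have hexp : ∀ g : G, g ^ p = 1 := by
    have h1 : (powMonoidHom p : G →* G).ker = ⊤ := by
      refine htop _ fun hc => ?_
      obtain ⟨g, hg⟩ := hc.exists_generator
      have h := Nat.le_of_dvd hp.pos (orderOf_dvd_of_pow_eq_one (x := g) (n := p) (Subtype.ext g.2))
      rw [orderOf_eq_card_of_forall_mem_zpowers hg] at h
      omega
    intro g
    exact (h1.symm ▸ Subgroup.mem_top g : g ∈ (powMonoidHom p : G →* G).ker)
  have hP : IsPGroup p G := fun g => ⟨1, by rw [pow_one]; exact hexp g⟩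
  obtain ⟨n, hn⟩ := hP.exists_card_eq
  have h2 : p ^ 2 ∣ Nat.card G := by
    rw [hn]
    refine pow_dvd_pow p ?_
    by_contra hlt
    interval_cases n
    · haveI := (Nat.card_eq_one_iff_unique.1 (show Nat.card G = 1 by simpa using hn)).1
      exact hcyc inferInstance
    · exact hcyc (isCyclic_of_prime_card (by simpa using hn))
  obtain ⟨H, hH⟩ := Sylow.exists_subgroup_card_pow_prime p h2
  have hHtop : H = ⊤ := by
    refine htop H fun hc => ?_
    obtain ⟨g, hg⟩ := hc.exists_generator
    have h := Nat.le_of_dvd hp.pos (orderOf_dvd_of_pow_eq_one (x := g) (n := p) (Subtype.ext (hexp g)))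
    rw [orderOf_eq_card_of_forall_mem_zpowers hg, hH] at h
    nlinarith [hp.two_le]
  have hc2 : Nat.card G = p ^ 2 := by rw [← hH, hHtop, Subgroup.card_top]
  refine ⟨p, hp, hc2, ?_⟩
  haveI : Nontrivial G := Finite.one_lt_card_iff_nontrivial.1 (by rw [hc2]; exact Nat.one_lt_pow two_ne_zero hp.one_lt)
  rcases (Nat.dvd_prime hp).1 (Monoid.exponent_dvd_of_forall_pow_eq_one hexp) with h | h
  · obtain ⟨g, hg⟩ := exists_ne (1 : G)
    exact absurd (by simpa [h] using Monoid.pow_exponent_eq_one g) hg
  · exact h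

end Cfsg.Agent.S3917
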