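import Cfsg.Statements.S3918
import Cfsg.Agent.Solv.NormalSquare

set_option autoImplicit false
open Cfsg

namespace Cfsg.Agent.S3918

/-- Say that a group has self-centralizing non-cyclic subgroups when every non-cyclic subgroup H satisfies C_G(H) ≤ H. For an odd prime p, a finite non-abelian p-group has self-centralizing non-cyclic subgroups if and only if it has order p³. -/
theorem result {G : Type*} [Group G] [Finite G] {p : ℕ} [Fact p.Prime] (hp : p ≠ 2) (hG : IsPGroup p G) (hna : ¬ IsMulCommutative G) :
    (∀ H : Subgroup G, ¬ IsCyclic ↥H → Subgroup.centralizer (H : Set G) ≤ H) ↔ Nat.card G = p ^ 3 := by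
  classical
  have hpp : p.Prime := Fact.out
  obtain ⟨k, hk⟩ := hG.exists_card_eq
  have hk3 : 3 ≤ k := by
    by_contra h
    apply hna
    rcases (show k = 0 ∨ k = 1 ∨ k = 2 by omega) with rfl | rfl | rfl
    · haveI : Subsingleton G := (Nat.card_eq_one_iff_unique.1 (by simpa using hk)).1
      exact ⟨⟨fun a b => Subsingleton.elim _ _⟩⟩
    · haveI := isCyclic_of_prime_card (p := p) (by simpa using hk)
      exact IsCyclic.commutative
    · exact ⟨⟨fun a b => IsPGroup.commutative_of_card_eq_prime_sq hk a b⟩⟩
  constructor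
  · intro h
    have hnc : ¬ IsCyclic G := fun hc => hna (by haveI := hc; exact IsCyclic.commutative)
    obtain ⟨E, hEn, hEe, hE⟩ := CfsgLib.Solv.exists_normal_rank_two _ G p hp rfl hG hnc
    haveI := hEn
    have hEnc : ¬ IsCyclic ↥E := fun hc => by
      haveI := hc
      obtain ⟨g, hg⟩ := IsCyclic.exists_ofOrder_eq_natCard (α := E)
      have h1 : orderOf g ∣ p := orderOf_dvd_of_pow_eq_one (Subtype.ext (hEe.2 g g.2))
      rw [hg, hE] at h1
      have := Nat.le_of_dvd hpp.pos h1
      nlinarith [hpp.two_le]
    have hd := CfsgLib.Solv.index_centralizer_normal_sq hG E hE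
    have h1 := Subgroup.card_mul_index (Subgroup.centralizer (E : Set G))
    have h2 := Subgroup.card_le_of_le (h E hEnc)
    have h3 := Nat.le_of_dvd hpp.pos hd
    rw [hE] at h2
    have hle : p ^ k ≤ p ^ 3 := by rw [← hk, ← h1, pow_succ p 2]; exact Nat.mul_le_mul h2 h3
    rw [hk, show k = 3 by have := (Nat.pow_le_pow_iff_right hpp.one_lt).1 hle; omega]
  · intro hG3 H hH
    obtain ⟨j, hj⟩ := (hG.to_subgroup H).exists_card_eq
    have hj3 : j ≤ 3 := by
      have h := Subgroup.card_le_card_group H
      rw [hj, hG3] at h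
      exact (Nat.pow_le_pow_iff_right hpp.one_lt).1 h
    rcases (show j ≤ 1 ∨ j = 2 ∨ j = 3 by omega) with hj1 | rfl | rfl
    · exfalso
      apply hH
      rcases (show j = 0 ∨ j = 1 by omega) with rfl | rfl
      · haveI : Subsingleton H := (Nat.card_eq_one_iff_unique.1 (by simpa using hj)).1
        infer_instance
      · exact isCyclic_of_prime_card (p := p) (by simpa using hj)
    swap
    · rw [Subgroup.eq_top_of_card_eq H (hj.trans hG3.symm)]; exact le_top
    haveI hHn : H.Normal := Subgroup.normal_of_index_eq_minFac_card (by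
      have h := Subgroup.card_mul_index H
      rw [hj, hG3] at h
      rw [hG3, Nat.pow_minFac (by norm_num), hpp.minFac_eq]
      exact Nat.eq_of_mul_eq_mul_left (pow_pos hpp.pos 2) (h.trans (by ring)))
    have hHC : H ≤ Subgroup.centralizer (H : Set G) := fun x hx => Subgroup.mem_centralizer_iff.2 fun y hy =>
      congrArg Subtype.val ((CfsgLib.Solv.isMulCommutative_of_card_sq hj).is_comm.comm (⟨y, hy⟩ : H) ⟨x, hx⟩)
    by_contra hle
    apply hna
    have hlt : H < Subgroup.centralizer (H : Set G) := lt_of_le_not_ge hHC hle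
    have htop : Subgroup.centralizer (H : Set G) = ⊤ := by
      obtain ⟨i, hi⟩ := (hG.to_subgroup (Subgroup.centralizer (H : Set G))).exists_card_eq
      have hne : Nat.card H < p ^ i := hi ▸ lt_of_le_of_ne (Subgroup.card_le_of_le hHC) fun e => hlt.ne (Subgroup.eq_of_le_of_card_ge hHC e.ge)
      rw [hj] at hne
      have h2i := (Nat.pow_lt_pow_iff_right hpp.one_lt).1 hne
      have hi3 : i ≤ 3 := by
        have h := Subgroup.card_le_card_group (Subgroup.centralizer (H : Set G))
        rw [hi, hG3] at h
        exact (Nat.pow_le_pow_iff_right hpp.one_lt).1 h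
      exact Subgroup.eq_top_of_card_eq _ (by rw [hi, hG3, show i = 3 by omega])
    have hq : Nat.card (G ⧸ H) = p := by
      have h := Subgroup.card_mul_index H
      rw [hj, hG3] at h
      exact Nat.eq_of_mul_eq_mul_left (pow_pos hpp.pos 2) (h.trans (by ring))
    haveI : IsCyclic (G ⧸ H) := isCyclic_of_prime_card hq
    refine ⟨⟨commutative_of_cyclic_center_quotient (QuotientGroup.mk' H) ?_⟩⟩
    rw [QuotientGroup.ker_mk']
    exact fun x hx => Subgroup.mem_center_iff.2 fun y =>
      (Subgroup.mem_centralizer_iff.1 (show y ∈ Subgroup.centralizer (H : Set G) by rw [htop]; exact Subgroup.mem_top y) x hx).symm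

end Cfsg.Agent.S3918
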