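import Cfsg.Statements.S3920


set_option autoImplicit false
open Cfsg

namespace Cfsg.Agent.S3920

/-- Say that a group has self-centralizing non-cyclic subgroups when every non-cyclic subgroup H satisfies C_G(H) ≤ H. For n ≥ 3, the dihedral group of order 2n has self-centralizing non-cyclic subgroups if and only if n is odd or a power of 2. -/
theorem result (n : ℕ) (hn : 3 ≤ n) : (∀ H : Subgroup (DihedralGroup n), ¬ IsCyclic ↥H → Subgroup.centralizer (H : Set (DihedralGroup n)) ≤ H) ↔ (Odd n ∨ ∃ k : ℕ, n = 2 ^ k) := by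
  classical
  haveI : NeZero n := ⟨by omega⟩
  have hcases : ∀ a : ZMod n, a + a = 0 → a = 0 ∨ (Even n ∧ a = ((n / 2 : ℕ) : ZMod n)) := by
    intro a ha
    have h1 : n ∣ 2 * a.val := by
      rw [← ZMod.natCast_eq_zero_iff, Nat.cast_mul, ZMod.natCast_zmod_val]
      simpa [two_mul] using ha
    obtain ⟨c, hc⟩ := h1
    have h2 : 2 * a.val < 2 * n := by have := ZMod.val_lt a; omega
    have hc2 : c < 2 := by
      by_contra h
      have : n * 2 ≤ n * c := Nat.mul_le_mul_left n (by omega)
      omega
    interval_cases c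
    · left; exact (ZMod.val_eq_zero a).1 (by omega)
    · right
      refine ⟨⟨a.val, by omega⟩, ?_⟩
      rw [show n / 2 = a.val by omega, ZMod.natCast_zmod_val]
  constructor
  · intro h
    by_contra hc
    push Not at hc
    obtain ⟨hodd, hpow⟩ := hc
    rw [Nat.not_odd_iff_even] at hodd
    obtain ⟨a, m, hm, hn2⟩ := Nat.exists_eq_two_pow_mul_odd (show n ≠ 0 by omega)
    have ha : a ≠ 0 := by
      rintro rfl
      rw [pow_zero, one_mul] at hn2
      exact Nat.not_odd_iff_even.2 (hn2 ▸ hodd) hm
    have hm1 : m ≠ 1 := fun h1 => hpow a (by rw [hn2, h1, mul_one])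
    obtain ⟨d, hd⟩ : ∃ d, d = 2 ^ a := ⟨_, rfl⟩
    rw [← hd] at hn2
    have hdn : d ∣ n := ⟨m, hn2⟩
    let π := ZMod.castHom hdn (ZMod d)
    let H : Subgroup (DihedralGroup n) :=
      { carrier := {x | match x with | .r i => π i = 0 | .sr i => π i = 0}
        one_mem' := show π 0 = 0 from map_zero π
        mul_mem' := by
          rintro (i | i) (j | j) hi hj <;> simp only [Set.mem_setOf_eq] at hi hj
          · show π (i + j) = 0; rw [map_add, hi, hj, add_zero]
          · show π (j - i) = 0; rw [map_sub, hi, hj, sub_zero]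
          · show π (i + j) = 0; rw [map_add, hi, hj, add_zero]
          · show π (j - i) = 0; rw [map_sub, hi, hj, sub_zero]
        inv_mem' := by
          rintro (i | i) hi
          · show π (-i) = 0; rw [map_neg, show π i = 0 from hi, neg_zero]
          · exact hi }
    have hs : DihedralGroup.sr (0 : ZMod n) ∈ H := show π 0 = 0 from map_zero π
    have hr : DihedralGroup.r ((d : ℕ) : ZMod n) ∈ H := show π ((d : ℕ) : ZMod n) = 0 by
      rw [map_natCast, ZMod.natCast_self]
    have hnc : ¬ IsCyclic ↥H := fun hcyc => by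
      haveI := hcyc
      have hcomm := congrArg Subtype.val (IsCyclic.commutative.is_comm.comm (⟨_, hs⟩ : H) ⟨_, hr⟩)
      have h0 : ((d : ℕ) : ZMod n) + (d : ℕ) = 0 := by
        have h1 : DihedralGroup.sr ((0 : ZMod n) + ((d : ℕ) : ZMod n)) = DihedralGroup.sr (0 - ((d : ℕ) : ZMod n)) := hcomm
        injection h1 with h1
        rw [zero_add, zero_sub, eq_neg_iff_add_eq_zero] at h1
        exact h1
      rw [← Nat.cast_add, ZMod.natCast_eq_zero_iff, hn2, ← two_mul, mul_comm 2 d] at h0
      have h2 : m ∣ 2 := Nat.dvd_of_mul_dvd_mul_left (by rw [hd]; positivity) h0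
      rcases (Nat.dvd_prime Nat.prime_two).1 h2 with rfl | rfl
      · exact hm1 rfl
      · exact Nat.not_odd_iff_even.2 even_two hm
    set z : ZMod n := ((n / 2 : ℕ) : ZMod n) with hz
    have hzz : z + z = 0 := by
      rw [hz, ← Nat.cast_add, ZMod.natCast_eq_zero_iff]
      obtain ⟨c, hc⟩ := hodd
      exact dvd_of_eq (by omega)
    have hzC : DihedralGroup.r z ∈ Subgroup.centralizer (H : Set (DihedralGroup n)) := by
      refine Subgroup.mem_centralizer_iff.2 ?_
      rintro (i | i) -
      · show DihedralGroup.r (i + z) = DihedralGroup.r (z + i); rw [add_comm]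
      · show DihedralGroup.sr (i + z) = DihedralGroup.sr (i - z)
        rw [sub_eq_add_neg, show -z = z from (eq_neg_of_add_eq_zero_left hzz).symm]
    have hzH : π z = 0 := h H hnc hzC
    rw [hz, map_natCast, ZMod.natCast_eq_zero_iff] at hzH
    obtain ⟨b, rfl⟩ := Nat.exists_eq_succ_of_ne_zero ha
    obtain ⟨c, hc⟩ := hm
    have h3 : n / 2 = 2 ^ b * m := by rw [hn2, hd, pow_succ']; rw [mul_assoc, Nat.mul_div_cancel_left _ two_pos]
    rw [h3, hd, pow_succ] at hzH
    have h4 : 2 ∣ m := Nat.dvd_of_mul_dvd_mul_left (by positivity) hzH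
    omega
  · intro hn' H hH x hx
    rw [Subgroup.mem_centralizer_iff] at hx
    obtain ⟨j, hj⟩ : ∃ j, DihedralGroup.sr j ∈ H := by
      by_contra hno
      push Not at hno
      apply hH
      have hle : H ≤ Subgroup.zpowers (DihedralGroup.r 1) := by
        rintro (i | i) hi
        · exact Subgroup.mem_zpowers_iff.2 ⟨(i.val : ℤ), by rw [zpow_natCast, DihedralGroup.r_one_pow, ZMod.natCast_zmod_val]⟩
        · exact absurd hi (hno i)
      exact Subgroup.isCyclic_of_le hle
    obtain ⟨a, ha0, ha⟩ : ∃ a : ZMod n, a ≠ 0 ∧ DihedralGroup.r a ∈ H := by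
      by_contra hno
      push Not at hno
      apply hH
      have hle : H ≤ Subgroup.zpowers (DihedralGroup.sr j) := by
        rintro (i | i) hi
        · have : i = 0 := by by_contra h0; exact hno i h0 hi
          subst this
          exact one_mem _
        · have h1 : DihedralGroup.r (i - j) ∈ H := mul_mem hj hi
          have : i - j = 0 := by by_contra h0; exact hno _ h0 h1
          rw [sub_eq_zero] at this
          exact this ▸ Subgroup.mem_zpowers _
      exact Subgroup.isCyclic_of_le hle
    -- the rotation of order two, when it exists, lies in `H`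
    have hzH : ∀ z : ZMod n, z + z = 0 → DihedralGroup.r z ∈ H := by
      intro z hz
      rcases hcases z hz with rfl | ⟨hev, rfl⟩
      · exact one_mem H
      · rcases hn' with ho | ⟨k, rfl⟩
        · exact absurd hev (Nat.not_even_iff_odd.2 ho)
        obtain ⟨i, m, hm, ham⟩ := Nat.exists_eq_two_pow_mul_odd (show a.val ≠ 0 from fun h => ha0 ((ZMod.val_eq_zero a).1 h))
        have hik : i < k := by
          by_contra h
          have h1 : 2 ^ k ≤ 2 ^ i := Nat.pow_le_pow_right two_pos (by omega)
          have h2 := ZMod.val_lt a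
          have h3 : 2 ^ i ≤ a.val := by rw [ham]; exact Nat.le_mul_of_pos_right _ hm.pos
          omega
        have hpow := H.pow_mem ha (2 ^ (k - 1 - i))
        rw [DihedralGroup.r_pow] at hpow
        convert hpow using 2
        obtain ⟨c, rfl⟩ := hm
        obtain ⟨l, rfl⟩ : ∃ l, k = i + 1 + l := ⟨k - 1 - i, by omega⟩
        rw [← ZMod.natCast_zmod_val a, ham, ← Nat.cast_mul, ZMod.natCast_eq_natCast_iff, show i + 1 + l - 1 - i = l by omega,
          show 2 ^ (i + 1 + l) / 2 = 2 ^ (i + l) by rw [show i + 1 + l = (i + l) + 1 by omega, pow_succ]; omega]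
        exact (Nat.modEq_iff_dvd' (by
          rw [show 2 ^ i * (2 * c + 1) * 2 ^ l = 2 ^ (i + l) * (2 * c + 1) by ring]
          exact Nat.le_mul_of_pos_right _ (by omega))).2 ⟨c, by
          rw [show 2 ^ i * (2 * c + 1) * 2 ^ l = 2 ^ (i + l) * (2 * c + 1) by ring, show i + 1 + l = (i + l) + 1 by omega, pow_succ, Nat.mul_add, mul_one, Nat.add_sub_cancel]
          ring⟩
    rcases x with i | i
    · have h1 : DihedralGroup.sr (j + i) = DihedralGroup.sr (j - i) := hx _ hj
      injection h1 with h1
      refine hzH i ?_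
      linear_combination h1
    · have h2 : DihedralGroup.r (i - j) = DihedralGroup.r (j - i) := hx _ hj
      injection h2 with h2
      have h3 := mul_mem hj (hzH (i - j) (by linear_combination h2))
      rwa [DihedralGroup.sr_mul_r, add_sub_cancel] at h3

end Cfsg.Agent.S3920
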