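import Cfsg.Statements.S3927
import Cfsg.Agent.Solv.Flavell
import Mathlib.GroupTheory.SemidirectProduct

set_option autoImplicit false
open Cfsg

namespace Cfsg.Agent.S3927

universe u

open scoped Pointwise

theorem sp_right_inr {G : Type u} [Group G] {N : Type u} [Group N] (φ : N →* MulAut G) (x : SemidirectProduct G N φ) :
    SemidirectProduct.inl x.left * SemidirectProduct.inr x.right = x :=
  SemidirectProduct.inl_left_mul_inr_right x

theorem aux : ∀ (n : ℕ) (G : Type u) [Group G] [Finite G] (α : MulAut G), Nat.card G = n →
    Subgroup.closure (Set.range (fun c : G => c * (α c)⁻¹)) = ⊤ → ∀ k : ℕ,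
    Subgroup.closure (Set.range ((fun c : G => c * (α c)⁻¹)^[k])) = ⊤ := by
  intro n
  induction n using Nat.strong_induction_on with
  | _ n IH =>
    intro G _ _ α hn hG k
    rcases subsingleton_or_nontrivial G with hs | hs
    · exact top_unique fun x _ => Subsingleton.elim (1 : G) x ▸ one_mem _
    set f : G → G := fun c => c * (α c)⁻¹ with hf
    set K := Subgroup.closure (Set.range (f^[k])) with hK
    let φ : ↥(Subgroup.zpowers α) →* MulAut G := (Subgroup.zpowers α).subtype
    haveI : Finite ↥(Subgroup.zpowers α) := inferInstance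
    haveI : Finite (SemidirectProduct G ↥(Subgroup.zpowers α) φ) := Finite.of_equiv _ SemidirectProduct.equivProd.symm
    set a : ↥(Subgroup.zpowers α) := ⟨α, Subgroup.mem_zpowers α⟩
    let Γ := SemidirectProduct G ↥(Subgroup.zpowers α) φ
    set A : Subgroup Γ := Subgroup.zpowers (SemidirectProduct.inr a : Γ) with hA
    have hconj : ∀ c : G, (SemidirectProduct.inr a : Γ) * SemidirectProduct.inl c * (SemidirectProduct.inr a : Γ)⁻¹ =
        SemidirectProduct.inl (α c) := fun c => by
      rw [← map_inv, ← SemidirectProduct.inl_aut]; rfl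
    have hfe : ∀ c : G, (SemidirectProduct.inl c : Γ) * SemidirectProduct.inr a * (SemidirectProduct.inl c : Γ)⁻¹ =
        SemidirectProduct.inl (f c) * SemidirectProduct.inr a := fun c => by
      have h := hconj c⁻¹
      rw [map_inv, map_inv] at h
      rw [show f c = c * α c⁻¹ by rw [map_inv], map_mul, mul_assoc (SemidirectProduct.inl c : Γ), mul_assoc, map_inv,
        ← h]
      group
    have hinr : ∀ r : ↥(Subgroup.zpowers α), (SemidirectProduct.inr r : Γ) ∈ A := fun r => by
      obtain ⟨i, hi⟩ := Subgroup.mem_zpowers_iff.1 r.2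
      refine ⟨i, ?_⟩
      show (SemidirectProduct.inr a : Γ) ^ i = SemidirectProduct.inr r
      rw [← map_zpow]
      congr 1
      exact Subtype.ext (by rw [Subgroup.coe_zpow]; exact hi)
    -- subgroups of the semidirect product over invariant subgroups of `G`
    have hsub : ∀ C : Subgroup G, (∀ c ∈ C, α c ∈ C) → ∀ x : Γ,
        x ∈ (C.map (SemidirectProduct.inl : G →* Γ)) ⊔ A → x.left ∈ C := by
      intro C hC x hx
      have hCr : ∀ r : ↥(Subgroup.zpowers α), ∀ c ∈ C, φ r c ∈ C := by
        rintro ⟨r, hr⟩ c hc
        obtain ⟨i, rfl⟩ := (isOfFinOrder_of_finite α).mem_powers_iff_mem_zpowers.2 hr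
        show (α ^ i) c ∈ C
        clear hr
        induction i with
        | zero => exact hc
        | succ i ih => rw [pow_succ', MulAut.mul_apply]; exact hC _ ih
      let S : Subgroup Γ :=
        { carrier := {x | x.left ∈ C}
          one_mem' := one_mem C
          mul_mem' := fun {x y} hx hy => by
            show (x * y).left ∈ C
            rw [SemidirectProduct.mul_left]
            exact mul_mem hx (hCr _ _ hy)
          inv_mem' := fun {x} hx => by
            show x⁻¹.left ∈ C
            rw [SemidirectProduct.inv_left]
            exact hCr _ _ (inv_mem hx) }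
      refine (sup_le ?_ ?_ : (C.map (SemidirectProduct.inl : G →* Γ)) ⊔ A ≤ S) hx
      · rintro _ ⟨c, hc, rfl⟩
        show (SemidirectProduct.inl c : Γ).left ∈ C
        rw [SemidirectProduct.left_inl]; exact hc
      · rw [hA, Subgroup.zpowers_le]
        show (SemidirectProduct.inr a : Γ).left ∈ C
        rw [SemidirectProduct.left_inr]; exact one_mem C
    have hAn : Subgroup.normalClosure (A : Set Γ) = ⊤ := by
      set N := Subgroup.normalClosure (A : Set Γ)
      have h1 : (SemidirectProduct.inr a : Γ) ∈ N := Subgroup.subset_normalClosure (Subgroup.mem_zpowers _)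
      have h2 : Subgroup.closure (Set.range f) ≤ N.comap (SemidirectProduct.inl : G →* Γ) := by
        rw [Subgroup.closure_le]
        rintro _ ⟨c, rfl⟩
        have h3 := mul_mem (Subgroup.normalClosure_normal.conj_mem _ h1 (SemidirectProduct.inl c)) (inv_mem h1)
        rw [hfe, mul_inv_cancel_right] at h3
        exact h3
      rw [show Subgroup.closure (Set.range f) = ⊤ from hG] at h2
      refine top_unique fun x _ => ?_
      rw [← sp_right_inr φ x]
      exact mul_mem (h2 (Subgroup.mem_top _)) (Subgroup.subset_normalClosure (hinr _))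
    have hAt : A ≠ ⊤ := by
      intro e
      obtain ⟨g, hg⟩ := exists_ne (1 : G)
      have h1 : (SemidirectProduct.inl g : Γ) ∈ (⊥ : Subgroup G).map (SemidirectProduct.inl : G →* Γ) ⊔ A :=
        Subgroup.mem_sup_right (e ▸ Subgroup.mem_top _)
      have h2 := hsub ⊥ (fun c hc => by rw [Subgroup.mem_bot.1 hc, map_one]; exact one_mem _) _ h1
      rw [SemidirectProduct.left_inl, Subgroup.mem_bot] at h2
      exact hg h2
    have hfa : ∀ c, f (α c) = α (f c) := fun c => by simp [hf]
    have hKα : ∀ c ∈ K, α c ∈ K := by
      have : K ≤ K.comap α.toMonoidHom := by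
        rw [hK, Subgroup.closure_le]
        rintro _ ⟨c, rfl⟩
        refine Subgroup.subset_closure ⟨α c, ?_⟩
        exact (Function.Commute.iterate_left (show Function.Commute f α from hfa) k) c
      exact fun c hc => this hc
    rcases CfsgLib.Solv.Flavell.main _ A rfl hAn hAt with h | ⟨M, ⟨hM, hAM⟩, hu⟩
    · have hall : sSup (CfsgLib.Solv.Flavell.Mem A) ≤ K.map (SemidirectProduct.inl : G →* Γ) ⊔ A := by
        refine sSup_le fun H hH => ?_
        obtain ⟨hAH, hHt, hcl⟩ := hH
        set H0 : Subgroup G := H.comap (SemidirectProduct.inl : G →* Γ) with hH0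
        have hHa : (SemidirectProduct.inr a : Γ) ∈ H := hAH (Subgroup.mem_zpowers _)
        have hH0α : ∀ c ∈ H0, α c ∈ H0 := fun c hc => by
          show (SemidirectProduct.inl (α c) : Γ) ∈ H
          rw [← hconj]; exact mul_mem (mul_mem hHa hc) (inv_mem hHa)
        set C : Subgroup G := Subgroup.closure (f '' (H0 : Set G)) with hC
        have hCH : C ≤ H0 := by
          rw [hC, Subgroup.closure_le]
          rintro _ ⟨c, hc, rfl⟩
          exact mul_mem hc (inv_mem (hH0α c hc))
        have hCα : ∀ c ∈ C, α c ∈ C := by
          have : C ≤ C.comap α.toMonoidHom := by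
            rw [hC, Subgroup.closure_le]
            rintro _ ⟨c, hc, rfl⟩
            exact Subgroup.subset_closure ⟨α c, hH0α c hc, hfa c⟩
          exact fun c hc => this hc
        have hCn : ∀ x ∈ H0, ∀ c ∈ C, x * c * x⁻¹ ∈ C := by
          intro x hx c hc
          have : C ≤ C.comap (MulAut.conj x).toMonoidHom := by
            rw [hC, Subgroup.closure_le]
            rintro _ ⟨c, hc, rfl⟩
            rw [SetLike.mem_coe, Subgroup.mem_comap, MulEquiv.toMonoidHom_eq_coe, MonoidHom.coe_coe, MulAut.conj_apply]
            rw [show x * f c * x⁻¹ = f (x * c) * (f x)⁻¹ by simp [hf, mul_assoc]]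
            exact mul_mem (Subgroup.subset_closure ⟨_, mul_mem hx hc, rfl⟩)
              (inv_mem (Subgroup.subset_closure ⟨x, hx, rfl⟩))
          exact this hc
        set X : Subgroup Γ := C.map (SemidirectProduct.inl : G →* Γ) ⊔ A with hX
        have hXn : H ≤ Subgroup.normalizer (X : Set Γ) := by
          intro x hx
          have hxl : x.left ∈ H0 := by
            show (SemidirectProduct.inl x.left : Γ) ∈ H
            have h1 := mul_mem hx (inv_mem (hAH (hinr x.right)))
            rw [show (SemidirectProduct.inl x.left : Γ) = x * (SemidirectProduct.inr x.right : Γ)⁻¹ by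
              rw [eq_mul_inv_iff_mul_eq, sp_right_inr]]
            exact h1
          rw [← sp_right_inr φ x]
          refine mul_mem ?_ (Subgroup.le_normalizer (Subgroup.mem_sup_right (hinr _)))
          refine Subgroup.mem_normalizer_fintype fun z hz => ?_
          have hle : X ≤ X.comap (MulAut.conj (SemidirectProduct.inl x.left : Γ)).toMonoidHom := by
            rw [hX, sup_le_iff]
            refine ⟨?_, ?_⟩
            · rintro _ ⟨c, hc, rfl⟩
              rw [Subgroup.mem_comap, MulEquiv.toMonoidHom_eq_coe, MonoidHom.coe_coe, MulAut.conj_apply]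
              rw [← map_inv, ← map_mul, ← map_mul]
              exact Subgroup.mem_sup_left ⟨_, hCn _ hxl c hc, rfl⟩
            · rw [hA, Subgroup.zpowers_le]
              rw [Subgroup.mem_comap, MulEquiv.toMonoidHom_eq_coe, MonoidHom.coe_coe, MulAut.conj_apply]
              rw [hfe]
              exact mul_mem (Subgroup.mem_sup_left ⟨_, Subgroup.subset_closure ⟨_, hxl, rfl⟩, rfl⟩)
                (Subgroup.mem_sup_right (Subgroup.mem_zpowers _))
          exact hle hz
        have hXH : X ≤ H := sup_le (Subgroup.map_le_iff_le_comap.2 hCH) hAH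
        haveI : (X.subgroupOf H).Normal := (Subgroup.normal_subgroupOf_iff_le_normalizer hXH).2 hXn
        have hHX : H ≤ X := by
          have h1 : (⊤ : Subgroup ↥H) ≤ X.subgroupOf H := hcl.ge.trans
            (Subgroup.normalClosure_le_normal fun y hy => Subgroup.mem_sup_right (show (y : Γ) ∈ A from hy))
          exact Subgroup.subgroupOf_eq_top.1 (top_unique h1)
        have hH0C : H0 ≤ C := fun c hc => by
          have := hsub C hCα _ (hHX hc)
          rwa [SemidirectProduct.left_inl] at this
        have hH0t : H0 ≠ ⊤ := fun e => hHt (top_unique fun x _ => by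
          rw [← sp_right_inr φ x]
          exact mul_mem (show x.left ∈ H0 by rw [e]; trivial) (hAH (hinr _)))
        have hlt : Nat.card H0 < n := hn ▸ lt_of_le_of_ne (Subgroup.card_le_card_group H0)
          fun e => hH0t (Subgroup.eq_top_of_card_eq H0 e)
        have hmap : H0.map α.toMonoidHom = H0 := Subgroup.eq_of_le_of_card_ge
          (by rintro _ ⟨c, hc, rfl⟩; exact hH0α c hc) (Subgroup.card_map_of_injective α.injective).ge
        let β : MulAut H0 := (α.subgroupMap H0).trans (MulEquiv.subgroupCongr hmap)
        have hβ : ∀ c : H0, (β c : G) = α c := fun c => rfl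
        have hβf : ∀ (j : ℕ) (c : H0), (((fun c : H0 => c * (β c)⁻¹)^[j] c : H0) : G) = f^[j] c := by
          intro j
          induction j with
          | zero => intro c; rfl
          | succ j ih =>
            intro c
            rw [Function.iterate_succ', Function.comp_apply, Function.iterate_succ', Function.comp_apply,
              Subgroup.coe_mul, Subgroup.coe_inv, hβ, ih]
        have hind := IH _ hlt H0 β rfl (by
          refine top_unique fun c _ => ?_
          have h1 : C ≤ (Subgroup.closure (Set.range (fun c : H0 => c * (β c)⁻¹))).map H0.subtype := by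
            rw [hC, Subgroup.closure_le]
            rintro _ ⟨d, hd, rfl⟩
            exact ⟨_, Subgroup.subset_closure ⟨⟨d, hd⟩, rfl⟩, by
              show ((⟨d, hd⟩ : H0) : G) * ((β ⟨d, hd⟩ : H0) : G)⁻¹ = f d
              rw [hβ]⟩
          obtain ⟨e, he, hee⟩ := h1 (hH0C c.2)
          rwa [← Subtype.ext hee]) k
        have hH0K : H0 ≤ K := by
          intro c hc
          have h1 : (⟨c, hc⟩ : H0) ∈ Subgroup.closure (Set.range ((fun c : H0 => c * (β c)⁻¹)^[k])) :=
            hind ▸ Subgroup.mem_top _
          have h2 : Subgroup.closure (Set.range ((fun c : H0 => c * (β c)⁻¹)^[k])) ≤ K.comap H0.subtype := by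
            rw [Subgroup.closure_le]
            rintro _ ⟨d, rfl⟩
            exact Subgroup.subset_closure ⟨d, (hβf k d).symm⟩
          exact h2 h1
        exact hHX.trans (sup_le_sup_right (Subgroup.map_mono (hCH.trans hH0K)) _)
      refine top_unique fun c _ => ?_
      have := hsub K hKα (SemidirectProduct.inl c) (hall (h ▸ Subgroup.mem_top _))
      rwa [SemidirectProduct.left_inl] at this
    · by_contra hKt
      have hSK : K.map (SemidirectProduct.inl : G →* Γ) ⊔ A ≠ ⊤ := fun e => hKt (top_unique fun c _ => by
        have := hsub K hKα (SemidirectProduct.inl c) (e ▸ Subgroup.mem_top _)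
        rwa [SemidirectProduct.left_inl] at this)
      obtain ⟨M', hM', hle⟩ := (eq_top_or_exists_le_coatom _).resolve_left hSK
      have hMe := hu M' ⟨hM', le_sup_right.trans hle⟩
      subst hMe
      have hdesc : ∀ j ≤ k, ∀ c, (SemidirectProduct.inl (f^[k - j] c) : Γ) ∈ M' := by
        intro j
        induction j with
        | zero => exact fun _ c => hle (Subgroup.mem_sup_left ⟨_, Subgroup.subset_closure ⟨c, rfl⟩, rfl⟩)
        | succ j ih =>
          intro hj c
          set y := f^[k - (j + 1)] c
          have hy : (SemidirectProduct.inl (f y) : Γ) ∈ M' := by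
            have := ih (by omega) c
            rwa [show k - j = (k - (j + 1)) + 1 by omega, Function.iterate_succ', Function.comp_apply] at this
          set g : Γ := SemidirectProduct.inl y
          have hg : g * SemidirectProduct.inr a * g⁻¹ ∈ M' := by
            rw [hfe]; exact mul_mem hy (hAM (Subgroup.mem_zpowers _))
          have hAg : A ≤ MulAut.conj g⁻¹ • M' := by
            rw [hA, Subgroup.zpowers_le, CfsgLib.Solv.Flavell.mem_conj, inv_inv]
            exact hg
          have hco : IsCoatom (MulAut.conj g⁻¹ • M') := by
            refine ⟨CfsgLib.Solv.Flavell.conj_ne_top hM.1, fun b hb => ?_⟩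
            by_contra hbt
            have hb' : M' < MulAut.conj g • b := by
              refine lt_of_le_of_ne ?_ fun e => hb.ne ?_
              · rw [← CfsgLib.Solv.Flavell.conj_inv_conj g M']
                exact CfsgLib.Solv.Flavell.conj_le_conj.2 hb.le
              · rw [e, CfsgLib.Solv.Flavell.conj_conj, inv_mul_cancel, map_one, one_smul]
            exact CfsgLib.Solv.Flavell.conj_ne_top hbt (hM.2 _ hb')
          have heq := hu _ ⟨hco, hAg⟩
          have hgN : g ∈ Subgroup.normalizer (M' : Set Γ) := by
            refine inv_mem_iff.1 (CfsgLib.Solv.mem_normalizer_of_conj_smul_eq heq)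
          by_contra hgM
          have hlt : M' < Subgroup.normalizer (M' : Set Γ) := lt_of_le_of_ne Subgroup.le_normalizer fun e =>
            hgM (e.symm ▸ hgN)
          haveI : M'.Normal := Subgroup.normalizer_eq_top_iff.1 (hM.2 _ hlt)
          exact hM.1 (top_unique (hAn.ge.trans (Subgroup.normalClosure_le_normal hAM)))
      have hall : ∀ c, (SemidirectProduct.inl c : Γ) ∈ M' := fun c => by simpa using hdesc k le_rfl c
      exact hM.1 (top_unique fun x _ => by
        rw [← sp_right_inr φ x]; exact mul_mem (hall _) (hAM (hinr _)))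


/-- Let G be a finite group and α an automorphism of G with [G, α] = G, that is, the elements g·α(g)⁻¹ generate G. Then for every k ≥ 1 the iterated commutators [g, α, …, α] with k entries α — the values of the k-th iterate of the map c ↦ c·α(c)⁻¹ — also generate G. -/
theorem result {G : Type*} [Group G] [Finite G] (α : MulAut G) (hG : Subgroup.closure (Set.range (fun c : G => c * (α c)⁻¹)) = ⊤) (k : ℕ) (hk : 1 ≤ k) :
    Subgroup.closure (Set.range ((fun c : G => c * (α c)⁻¹)^[k])) = ⊤ := by
  exact aux _ G α rfl hG k

end Cfsg.Agent.S3927
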