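import Cfsg.Statements.S3941


set_option autoImplicit false
open Cfsg

namespace Cfsg.Agent.S3941

/-- Let n ≥ 5 and p an odd prime with p ≤ n, and suppose that every proper subgroup of the alternating group of degree n whose order is divisible by p has a normal Sylow p-subgroup. Then n = p. -/
theorem result (n p : ℕ) (hn : 5 ≤ n) [Fact p.Prime] (hp : p ≠ 2) (hpn : p ≤ n)
    (h : ∀ H : Subgroup ↥(alternatingGroup (Fin n)), H ≠ ⊤ → p ∣ Nat.card ↥H → Cfsg.IsPClosed p ↥H) : n = p := by
  have hp' : p.Prime := Fact.out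
  by_contra hne
  have hlt : p < n := lt_of_le_of_ne hpn (Ne.symm hne)
  have h3 : p = 3 ∨ 5 ≤ p := by
    by_contra hc
    push Not at hc
    have := hp'.two_le
    have h4 : p = 4 := by omega
    rw [h4] at hp'; exact absurd hp' (by norm_num)
  -- a copy of an alternating group of degree `m < n` with two Sylow `p`-subgroups
  have key : ∀ m : ℕ, m < n → 3 ≤ m → p ∣ Nat.card ↥(alternatingGroup (Fin m)) →
      Cfsg.IsPClosed p ↥(alternatingGroup (Fin m)) := by
    intro m hm hm3 hdvd
    let φ : Equiv.Perm (Fin m) →* Equiv.Perm (Fin n) := Equiv.Perm.viaEmbeddingHom (Fin.castLEEmb hm.le)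
    let ψ : ↥(alternatingGroup (Fin m)) →* ↥(alternatingGroup (Fin n)) :=
      (φ.comp (alternatingGroup (Fin m)).subtype).codRestrict _ (fun σ => by
        have hσ : Equiv.Perm.sign (σ : Equiv.Perm (Fin m)) = 1 := σ.2
        rw [Equiv.Perm.mem_alternatingGroup]
        show Equiv.Perm.sign ((σ : Equiv.Perm (Fin m)).viaEmbedding (Fin.castLEEmb hm.le)) = 1
        rw [Equiv.Perm.viaEmbedding, Equiv.Perm.sign_extendDomain]
        exact hσ)
    have hψ : Function.Injective ψ := fun a b hab =>
      Subtype.ext (Equiv.Perm.viaEmbeddingHom_injective _ (congrArg Subtype.val hab))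
    let e : ↥(alternatingGroup (Fin m)) ≃* ↥ψ.range := MonoidHom.ofInjective hψ
    have hne' : ψ.range ≠ ⊤ := fun htop => by
      have h1 : Nat.card ↥(alternatingGroup (Fin m)) = Nat.card ↥(alternatingGroup (Fin n)) := by
        rw [Nat.card_congr e.toEquiv, htop, Subgroup.card_top]
      haveI : Nontrivial (Fin m) := Fin.nontrivial_iff_two_le.2 (by omega)
      haveI : Nontrivial (Fin n) := Fin.nontrivial_iff_two_le.2 (by omega)
      have h2 := two_mul_card_alternatingGroup (α := Fin m)
      have h3 := two_mul_card_alternatingGroup (α := Fin n)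
      rw [← Nat.card_eq_fintype_card, ← Nat.card_eq_fintype_card, Nat.card_perm, Nat.card_fin] at h2 h3
      have h4 : m.factorial < n.factorial := (Nat.factorial_lt (by omega)).2 hm
      omega
    have hcl := h ψ.range hne' (by rwa [← Nat.card_congr e.toEquiv])
    intro P
    have := hcl (P.mapSurjective (f := e.toMonoidHom) e.surjective)
    have h2 : ((P : Subgroup ↥(alternatingGroup (Fin m))).map e.toMonoidHom).Normal := this
    haveI := h2.comap e.toMonoidHom
    rwa [Subgroup.comap_map_eq_self_of_injective (f := e.toMonoidHom) e.injective] at this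
  rcases h3 with rfl | h5
  · have hcl := key 4 (by omega) (by norm_num) (by
      have h2 := two_mul_card_alternatingGroup (α := Fin 4)
      rw [← Nat.card_eq_fintype_card, ← Nat.card_eq_fintype_card, Nat.card_perm, Nat.card_fin] at h2
      have : Nat.factorial 4 = 24 := rfl
      omega)
    let a : ↥(alternatingGroup (Fin 4)) := ⟨Equiv.swap 0 1 * Equiv.swap 1 2, Equiv.Perm.mem_alternatingGroup.2 (by decide)⟩
    let b : ↥(alternatingGroup (Fin 4)) := ⟨Equiv.swap 0 1 * Equiv.swap 1 3, Equiv.Perm.mem_alternatingGroup.2 (by decide)⟩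
    obtain ⟨P, hPa⟩ := (IsPGroup.of_card (p := 3) (n := 1) (by
      rw [Nat.card_zpowers, pow_one]; exact orderOf_eq_prime (by decide) (by decide)) :
        IsPGroup 3 (Subgroup.zpowers a)).exists_le_sylow
    obtain ⟨P', hPb⟩ := (IsPGroup.of_card (p := 3) (n := 1) (by
      rw [Nat.card_zpowers, pow_one]; exact orderOf_eq_prime (by decide) (by decide)) :
        IsPGroup 3 (Subgroup.zpowers b)).exists_le_sylow
    haveI := Sylow.unique_of_normal P (hcl P)
    rw [Subsingleton.elim P' P] at hPb
    obtain ⟨k, hk⟩ := P.2 ⟨a * b, mul_mem (hPa (Subgroup.mem_zpowers a)) (hPb (Subgroup.mem_zpowers b))⟩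
    have hk' : (a * b) ^ (3 ^ k) = 1 := congrArg Subtype.val hk
    have h2 : (a * b) ^ 2 = 1 := by decide
    have hg : (a * b) ^ Nat.gcd (3 ^ k) 2 = 1 := pow_gcd_eq_one.2 ⟨hk', h2⟩
    rw [show Nat.gcd (3 ^ k) 2 = 1 from Nat.Coprime.pow_left k (by norm_num), pow_one] at hg
    revert hg; decide
  · have hm : Nontrivial (Fin p) := Fin.nontrivial_iff_two_le.2 (by omega)
    have h2 := two_mul_card_alternatingGroup (α := Fin p)
    rw [← Nat.card_eq_fintype_card, ← Nat.card_eq_fintype_card, Nat.card_perm, Nat.card_fin] at h2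
    have hdvd : p ∣ Nat.card ↥(alternatingGroup (Fin p)) :=
      ((Nat.coprime_primes hp' Nat.prime_two).2 hp).dvd_of_dvd_mul_left (h2 ▸ Nat.dvd_factorial hp'.pos le_rfl)
    have hcl := key p hlt (by omega) hdvd
    haveI hs : IsSimpleGroup ↥(alternatingGroup (Fin p)) := alternatingGroup.isSimpleGroup (by simpa using h5)
    obtain ⟨P⟩ : Nonempty (Sylow p ↥(alternatingGroup (Fin p))) := inferInstance
    rcases hs.eq_bot_or_eq_top_of_normal _ (hcl P) with hb | ht
    · have := P.dvd_card_of_dvd_card hdvd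
      rw [hb, Subgroup.card_bot] at this
      exact hp'.not_dvd_one this
    · obtain ⟨j, hj⟩ := P.2.exists_card_eq
      rw [ht, Subgroup.card_top] at hj
      have h4 : 2 ∣ Nat.card ↥(alternatingGroup (Fin p)) := by
        have h6 : 2 * 2 ∣ p.factorial := Nat.dvd_factorial (by norm_num) (by omega : 2 * 2 ≤ p)
        rw [← h2] at h6
        exact Nat.dvd_of_mul_dvd_mul_left (by norm_num) h6
      rw [hj] at h4
      exact hp ((Nat.prime_dvd_prime_iff_eq Nat.prime_two hp').1 (Nat.prime_two.dvd_of_dvd_pow h4)).symm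

end Cfsg.Agent.S3941
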