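-- Statement S3946
import Cfsg.Statements.S3946
import Cfsg.Agent.Perm.Hughes

set_option autoImplicit false
open Cfsg
open scoped commutatorElement Pointwise
set_option linter.style.haveILetI false
set_option linter.deprecated false

namespace Cfsg.Agent.S3946

/-- Call an automorphism α of order n of a group G splitting when x · α(x) · α²(x) ⋯ α^(n−1)(x) = 1 for every x ∈ G. A finite group admitting a splitting automorphism of prime order is nilpotent (this contains the case of a fixed-point-free automorphism of prime order). -/
theorem result {G : Type*} [Group G] [Finite G] (α : MulAut G) (hp : (orderOf α).Prime)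
    (hsplit : ∀ x : G, (((List.range (orderOf α)).map (fun i : ℕ => (α ^ i) x)).prod = 1)) : Group.IsNilpotent G := by
  set p := orderOf α with hpd
  haveI : Fact p.Prime := ⟨hp⟩
  haveI : Finite (Subgroup.zpowers α) := inferInstance
  set φ : Subgroup.zpowers α →* MulAut G := (Subgroup.zpowers α).subtype with hφ
  haveI : Finite (G ⋊[φ] Subgroup.zpowers α) := Finite.of_equiv _ SemidirectProduct.equivProd.symm
  set σ : G ⋊[φ] Subgroup.zpowers α := SemidirectProduct.inr ⟨α, Subgroup.mem_zpowers α⟩ with hσ
  set H := (SemidirectProduct.inl : G →* G ⋊[φ] Subgroup.zpowers α).range with hH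
  haveI : H.Normal := by rw [hH, SemidirectProduct.range_inl_eq_ker_rightHom]; infer_instance
  have key : ∀ (x : G) (n : ℕ), (SemidirectProduct.inl x * σ) ^ n =
      SemidirectProduct.inl (((List.range n).map (fun i : ℕ => (α ^ i) x)).prod) * σ ^ n := by
    intro x n
    induction n with
    | zero => simp
    | succ n ih =>
      have h1 : σ ^ n * SemidirectProduct.inl x = SemidirectProduct.inl ((α ^ n) x) * σ ^ n := by
        ext <;> simp [hσ, hφ, ← map_pow]
      rw [pow_succ, ih, List.range_succ, List.map_append, List.prod_append, List.map_singleton,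
        List.prod_singleton, map_mul, pow_succ, mul_assoc, ← mul_assoc (σ ^ n), h1]
      group
  have hn := CfsgLib.Perm.Hughes.isNilpotent_of_splitting (p := p) H σ (by
    rintro _ ⟨x, rfl⟩
    rw [key, hsplit x, map_one, one_mul, hσ, ← map_pow,
      show (⟨α, Subgroup.mem_zpowers α⟩ : Subgroup.zpowers α) ^ p = 1 from Subtype.ext (by
        rw [SubmonoidClass.coe_pow, hpd]; exact pow_orderOf_eq_one α), map_one])
  exact Group.nilpotent_of_mulEquiv (MonoidHom.ofInjective (SemidirectProduct.inl_injective (φ := φ))).symm

end Cfsg.Agent.S3946
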