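import Cfsg.Statements.S3949


set_option autoImplicit false
open Cfsg

namespace Cfsg.Agent.S3949

/-- Let G be a finite group and α an automorphism of G of order 2 such that the elements g·α(g)⁻¹ generate G. Let j be a positive integer such that 2^j divides the order of no element inverted by α. Then the set of values of the j-th iterate of the map c ↦ c·α(c)⁻¹ is exactly the set of elements of odd order inverted by α. -/
theorem result {G : Type*} [Group G] [Finite G] (α : MulAut G) (hα : orderOf α = 2) (hG : Subgroup.closure (Set.range (fun c : G => c * (α c)⁻¹)) = ⊤)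
    (j : ℕ) (hj : ∀ g : G, α g = g⁻¹ → ¬ 2 ^ j ∣ orderOf g) :
    Set.range ((fun c : G => c * (α c)⁻¹)^[j]) = {g : G | Odd (orderOf g) ∧ α g = g⁻¹} := by
  set ψ : G → G := fun c => c * (α c)⁻¹ with hψ
  have hαα : ∀ c, α (α c) = c := fun c => by
    have h : α ^ 2 = 1 := hα ▸ pow_orderOf_eq_one α
    rw [pow_two] at h
    exact DFunLike.congr_fun h c
  have hinv : ∀ c, α (ψ c) = (ψ c)⁻¹ := fun c => by
    simp only [hψ, map_mul, map_inv, hαα, mul_inv_rev, inv_inv]
  have hsq : ∀ g, α g = g⁻¹ → ψ g = g ^ 2 := fun g hg => by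
    simp only [hψ, hg, inv_inv, pow_two]
  have hit : ∀ (k : ℕ) (g : G), α g = g⁻¹ → ψ^[k] g = g ^ (2 ^ k) := by
    intro k
    induction k with
    | zero => intro g _; simp
    | succ k ih =>
      intro g hg
      rw [Function.iterate_succ_apply, hsq g hg, ih (g ^ 2) (by rw [map_pow, hg, inv_pow]), ← pow_mul, ← pow_succ']
  obtain ⟨i, rfl⟩ : ∃ i, j = i + 1 := ⟨j - 1, by
    rcases Nat.eq_zero_or_pos j with rfl | h
    · exact absurd (one_dvd _) (pow_zero 2 ▸ hj 1 (by simp))
    · omega⟩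
  ext g
  constructor
  · rintro ⟨c, rfl⟩
    rw [Function.iterate_succ_apply, hit i (ψ c) (hinv c)]
    refine ⟨?_, by rw [map_pow, hinv, inv_pow]⟩
    obtain ⟨a, m, hm, ham⟩ := Nat.exists_eq_two_pow_mul_odd (orderOf_pos (ψ c)).ne'
    have hai : a ≤ i := by
      by_contra h
      refine hj (ψ c) (hinv c) ?_
      rw [ham]
      exact dvd_mul_of_dvd_left (pow_dvd_pow 2 (by omega)) m
    refine Odd.of_dvd_nat hm ?_
    rw [orderOf_dvd_iff_pow_eq_one, ← pow_mul, ← orderOf_dvd_iff_pow_eq_one, ham]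
    exact Nat.mul_dvd_mul_right (pow_dvd_pow 2 hai) m
  · rintro ⟨hodd, hg⟩
    obtain ⟨b, hb⟩ := exists_pow_eq_self_of_coprime (x := g) (n := 2 ^ (i + 1))
      (Nat.Coprime.pow_left _ (Nat.coprime_two_left.2 hodd))
    refine ⟨g ^ b, ?_⟩
    rw [hit _ (g ^ b) (by rw [map_pow, hg, inv_pow]), ← pow_mul, mul_comm, pow_mul]
    exact hb

end Cfsg.Agent.S3949
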