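import Cfsg.Statements.S3979
import Cfsg.Agent.Solv.Multiplier

set_option autoImplicit false
open Cfsg

namespace Cfsg.Agent.S3979

/-- A finite cyclic group has trivial Schur multiplier: every finite stem extension of it is an isomorphism, said through `HasCyclicSchurMultiplier G 1`. -/
theorem result {G : Type*} [Group G] [Finite G] [IsCyclic G] : Cfsg.HasCyclicSchurMultiplier G 1 := by
  rw [CfsgLib.Solv.Mult.hasCyclic_one_iff]
  refine CfsgLib.Solv.Mult.M_eq_bot_of_forall fun Γ _ _ σ hσ => eq_bot_iff.2 (hσ.2.2.trans ?_)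
  obtain ⟨g, hg⟩ := IsCyclic.exists_generator (α := G)
  obtain ⟨s, hs⟩ := hσ.1 g
  rw [commutator_def, Subgroup.commutator_le]
  have hdec : ∀ a : Γ, ∃ (i : ℤ), ∃ c ∈ Subgroup.center Γ, a = s ^ i * c := by
    intro a
    obtain ⟨i, hi⟩ := Subgroup.mem_zpowers_iff.1 (hg (σ a))
    refine ⟨i, (s ^ i)⁻¹ * a, hσ.2.1 ?_, by group⟩
    rw [MonoidHom.mem_ker, map_mul, map_inv, map_zpow, hs, hi, inv_mul_cancel]
  intro a _ b _
  obtain ⟨i, c, hc, rfl⟩ := hdec a
  obtain ⟨j, d, hd, rfl⟩ := hdec b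
  rw [Subgroup.mem_bot, commutatorElement_eq_one_iff_commute]
  have h1 : ∀ x : Γ, Commute x c := Subgroup.mem_center_iff.1 hc
  have h2 : ∀ x : Γ, Commute x d := Subgroup.mem_center_iff.1 hd
  exact ((Commute.zpow_zpow_self s i j).mul_right (h2 _)).mul_left (h1 _).symm

end Cfsg.Agent.S3979
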