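import Cfsg.Statements.S3950
import Cfsg.Agent.Solv.MultiplierExt
import Cfsg.Agent.Solv.Generation
import Cfsg.Agent.S3979

set_option autoImplicit false
open Cfsg

namespace Cfsg.Agent.S3950

/-- Two coordinates on an elementary abelian group of order bigger than `q`. -/
theorem exists_two_of_module {A : Type*} [CommGroup A] [Finite A] (q : ℕ) [Fact q.Prime]
    [Module (ZMod q) (Additive A)] (hcard : q < Nat.card A) :
    ∃ φ ψ : Additive A →+ ZMod q, ∃ x y, φ x ≠ 0 ∧ ψ y ≠ 0 ∧ φ y = 0 := by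
  classical
  have hfun : ∀ v : Additive A, v ≠ 0 → ∃ φ : Module.Dual (ZMod q) (Additive A), φ v ≠ 0 := fun v hv => by
    by_contra hno
    push Not at hno
    exact hv ((Module.forall_dual_apply_eq_zero_iff (ZMod q) v).1 hno)
  obtain ⟨v₀, hv₀⟩ : ∃ v : Additive A, v ≠ 0 := by
    haveI : Nontrivial A := Finite.one_lt_card_iff_nontrivial.1 ((Fact.out : q.Prime).one_lt.trans hcard)
    exact exists_ne (α := Additive A) 0
  obtain ⟨φ, hφ⟩ := hfun v₀ hv₀
  obtain ⟨v₁, hv₁, hφ₁⟩ : ∃ v : Additive A, v ≠ 0 ∧ φ v = 0 := by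
    by_contra hno
    push Not at hno
    have hinj : Function.Injective φ := by
      intro a b hab
      by_contra hne
      exact hno (a - b) (sub_ne_zero.2 hne) (by rw [map_sub, hab, sub_self])
    have h' := Nat.card_le_card_of_injective φ hinj
    rw [Nat.card_zmod] at h'
    exact absurd h' (not_le.2 (hcard : q < Nat.card (Additive A)))
  obtain ⟨ψ, hψ⟩ := hfun v₁ hv₁
  exact ⟨φ.toAddMonoidHom, ψ.toAddMonoidHom, v₀, v₁, hφ, hψ, hφ₁⟩

theorem exists_two {A : Type*} [CommGroup A] [Finite A] (q : ℕ) [Fact q.Prime] (hexp : ∀ a : A, a ^ q = 1)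
    (hcard : q < Nat.card A) :
    ∃ φ ψ : Additive A →+ ZMod q, ∃ x y, φ x ≠ 0 ∧ ψ y ≠ 0 ∧ φ y = 0 :=
  @exists_two_of_module A _ _ q _
    (AddCommGroup.zmodModule (fun x : Additive A => Additive.toMul.injective (hexp x.toMul))) hcard

/-- A finite abelian group has trivial Schur multiplier if and only if it is cyclic. -/
theorem result {G : Type*} [CommGroup G] [Finite G] : Cfsg.HasCyclicSchurMultiplier G 1 ↔ IsCyclic G := by
  refine ⟨fun h => ?_, fun h => Cfsg.Agent.S3979.result⟩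
  by_contra hcyc
  obtain ⟨q, hq, hbig⟩ : ∃ q : ℕ, q.Prime ∧ q < Nat.card (powMonoidHom q : G →* G).ker := by
    by_contra hno
    push_neg at hno
    exact hcyc (CfsgLib.Solv.isCyclic_of_card_prime_roots_le hno)
  haveI : Fact q.Prime := ⟨hq⟩
  let R : Subgroup G := (powMonoidHom q : G →* G).range
  let π : G →* G ⧸ R := QuotientGroup.mk' R
  have hcard : q < Nat.card (G ⧸ R) := by
    have h1 := Subgroup.card_eq_card_quotient_mul_card_subgroup R
    have h2 := Subgroup.card_eq_card_quotient_mul_card_subgroup (powMonoidHom q : G →* G).ker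
    rw [Nat.card_congr (QuotientGroup.quotientKerEquivRange (powMonoidHom q : G →* G)).toEquiv] at h2
    have h3 : 0 < Nat.card R := Nat.card_pos
    have : Nat.card (G ⧸ R) = Nat.card (powMonoidHom q : G →* G).ker :=
      Nat.eq_of_mul_eq_mul_right h3 (h1.symm.trans (h2.trans (mul_comm _ _)))
    omega
  obtain ⟨φ, ψ, v₀, v₁, hφ, hψ, hφ₁⟩ := exists_two q (A := G ⧸ R) (fun a => by
    obtain ⟨g, rfl⟩ := QuotientGroup.mk'_surjective R a
    rw [← map_pow]
    exact (QuotientGroup.eq_one_iff _).2 ⟨g, rfl⟩) hcard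
  let β : G → G → ZMod q := fun a b => φ (Additive.ofMul (π a)) * ψ (Additive.ofMul (π b))
  have hl : ∀ a b c, β (a * b) c = β a c + β b c := fun a b c => by simp [β, add_mul]
  have hr : ∀ a b c, β a (b * c) = β a b + β a c := fun a b c => by simp [β, mul_add]
  obtain ⟨x, hx⟩ := QuotientGroup.mk'_surjective R (Additive.toMul v₀)
  obtain ⟨y, hy⟩ := QuotientGroup.mk'_surjective R (Additive.toMul v₁)
  have hc : β x y - β y x ≠ 0 := by
    simp only [β, π, hx, hy, ofMul_toMul, hφ₁, zero_mul, sub_zero]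
    exact mul_ne_zero hφ hψ
  let σ := CfsgLib.Solv.Mult.Cext.proj β hl hr
  have hσ : Cfsg.IsStemExtension σ := by
    refine ⟨fun g => ⟨⟨g, 0⟩, rfl⟩, fun z hz => ?_, fun z hz => ?_⟩
    · rw [Subgroup.mem_center_iff]
      intro w
      have hz1 : z.g = 1 := hz
      refine CfsgLib.Solv.Mult.Cext.ext' (mul_comm _ _) ?_
      show w.t + z.t + β w.g z.g = z.t + w.t + β z.g w.g
      rw [hz1, CfsgLib.Solv.Mult.beta_one_left (hl := hl), CfsgLib.Solv.Mult.beta_one_right (hr := hr),
        add_comm w.t]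
    · have hz1 : z.g = 1 := hz
      have hmem := Subgroup.commutator_mem_commutator (Subgroup.mem_top (⟨x, 0⟩ : CfsgLib.Solv.Mult.Cext β hl hr))
        (Subgroup.mem_top (⟨y, 0⟩ : CfsgLib.Solv.Mult.Cext β hl hr))
      rw [← commutator_def, CfsgLib.Solv.Mult.Cext.commutator_eq x y (Commute.all x y)] at hmem
      have hpow : ∀ k : ℕ, (⟨1, k • (β x y - β y x)⟩ : CfsgLib.Solv.Mult.Cext β hl hr) ∈ commutator _ := fun k => by
        have e : (CfsgLib.Solv.Mult.Cext.emb β hl hr (Multiplicative.ofAdd (β x y - β y x))) ^ k ∈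
            commutator _ := pow_mem hmem k
        rw [← map_pow, ← ofAdd_nsmul] at e
        exact e
      have := hpow (z.t * (β x y - β y x)⁻¹).val
      rw [nsmul_eq_mul, ZMod.natCast_zmod_val, inv_mul_cancel_right₀ hc] at this
      exact (show z = ⟨1, z.t⟩ from CfsgLib.Solv.Mult.Cext.ext' hz1 rfl) ▸ this
  have hbot := CfsgLib.Solv.Mult.ker_eq_bot_of_M hσ (CfsgLib.Solv.Mult.hasCyclic_one_iff.1 h)
  have hmem : (⟨1, β x y - β y x⟩ : CfsgLib.Solv.Mult.Cext β hl hr) ∈ σ.ker := rfl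
  rw [hbot, Subgroup.mem_bot] at hmem
  exact hc (congrArg CfsgLib.Solv.Mult.Cext.t hmem)

end Cfsg.Agent.S3950
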