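import Cfsg.Statements.S3951
import Cfsg.Agent.Solv.MultiplierProduct
import Cfsg.Agent.S3979

set_option autoImplicit false
open Cfsg

namespace Cfsg.Agent.S3951

open scoped TensorProduct in
/-- The tensor product of two finite cyclic groups, one order dividing the other. -/
noncomputable def tensorEquiv (m n : ℕ) [NeZero m] [NeZero n] (hnm : n ∣ m) :
    ZMod m ⊗[ℤ] ZMod n ≃+ ZMod n :=
  let f : ZMod m →+ ZMod n →+ ZMod n :=
    (AddMonoidHom.mul (R := ZMod n)).comp (ZMod.castHom hnm (ZMod n)).toAddMonoidHom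
  let F : ZMod m ⊗[ℤ] ZMod n →+ ZMod n := TensorProduct.liftAddHom f (fun r a b => by
    rw [map_zsmul f, AddMonoidHom.smul_apply, map_zsmul (f a)])
  let g : ℤ →+ ZMod m ⊗[ℤ] ZMod n := zmultiplesHom _ ((1 : ZMod m) ⊗ₜ[ℤ] (1 : ZMod n))
  have hg : g (n : ℤ) = 0 := by
    show (n : ℤ) • ((1 : ZMod m) ⊗ₜ[ℤ] (1 : ZMod n)) = 0
    rw [← TensorProduct.tmul_smul, natCast_zsmul, nsmul_one, ZMod.natCast_self, TensorProduct.tmul_zero]
  let G : ZMod n →+ ZMod m ⊗[ℤ] ZMod n := ZMod.lift n ⟨g, hg⟩
  have hG : ∀ i : ℤ, G (i : ZMod n) = i • ((1 : ZMod m) ⊗ₜ[ℤ] (1 : ZMod n)) := fun i =>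
    ZMod.lift_coe n ⟨g, hg⟩ i
  have hF : ∀ a b, F (a ⊗ₜ[ℤ] b) = ZMod.castHom hnm (ZMod n) a * b := fun a b => rfl
  { toFun := F
    invFun := G
    left_inv := fun x => by
      induction x using TensorProduct.induction_on with
      | zero => simp
      | add a b ha hb => rw [map_add, map_add, ha, hb]
      | tmul a b =>
        obtain ⟨i, rfl⟩ := ZMod.intCast_surjective a
        obtain ⟨j, rfl⟩ := ZMod.intCast_surjective b
        rw [hF, map_intCast, ← Int.cast_mul, hG, mul_smul, ← TensorProduct.tmul_smul,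
          TensorProduct.smul_tmul', zsmul_one, zsmul_one]
    right_inv := fun x => by
      obtain ⟨i, rfl⟩ := ZMod.intCast_surjective x
      rw [hG, map_zsmul, hF, map_one, mul_one, zsmul_one]
    map_add' := map_add F }


/-- For positive integers `m` and `n` with `n` dividing `m`, the Schur multiplier of the abelian group `ZMod m × ZMod n` (written multiplicatively) is cyclic of order `n`. In particular the elementary abelian group of order `p ^ 2` has multiplier of order `p`. -/
theorem result (m n : ℕ) [NeZero m] [NeZero n] (hnm : n ∣ m) : Cfsg.HasCyclicSchurMultiplier (Multiplicative (ZMod m × ZMod n)) n := by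
  have h1 : Cfsg.HasCyclicSchurMultiplier (Multiplicative (ZMod m)) 1 := Cfsg.Agent.S3979.result
  have h2 : Cfsg.HasCyclicSchurMultiplier (Multiplicative (ZMod n)) 1 := Cfsg.Agent.S3979.result
  have h := CfsgLib.Solv.Mult.hasSchurMultiplier_of_mulEquiv
    (MulEquiv.prodMultiplicative (ZMod m) (ZMod n)).symm
    (CfsgLib.Solv.Mult.hasSchurMultiplier_prod _ _ h1 h2)
  obtain ⟨e⟩ := CfsgLib.Solv.Mult.equiv_M h
  refine CfsgLib.Solv.Mult.hasSchurMultiplier_of_equiv (MulEquiv.trans ?_ e)
  let a : Additive (Abelianization (Multiplicative (ZMod m))) ≃+ ZMod m :=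
    (MulEquiv.toAdditive (Abelianization.equivOfComm (H := Multiplicative (ZMod m))).symm).trans
      (AddEquiv.additiveMultiplicative _)
  let b : Additive (Abelianization (Multiplicative (ZMod n))) ≃+ ZMod n :=
    (MulEquiv.toAdditive (Abelianization.equivOfComm (H := Multiplicative (ZMod n))).symm).trans
      (AddEquiv.additiveMultiplicative _)
  let c : CfsgLib.Solv.Mult.Mixed (Multiplicative (ZMod m)) (Multiplicative (ZMod n)) ≃+ ZMod n :=
    (TensorProduct.congr a.toIntLinearEquiv b.toIntLinearEquiv).toAddEquiv.trans (tensorEquiv m n hnm)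
  exact
    { toFun := fun k => (1, 1, Multiplicative.ofAdd (c.symm (Multiplicative.toAdd k)))
      invFun := fun p => Multiplicative.ofAdd (c (Multiplicative.toAdd p.2.2))
      left_inv := fun k => by simp
      right_inv := fun p => by
        refine Prod.ext (Subsingleton.elim _ _) (Prod.ext (Subsingleton.elim _ _) ?_)
        simp
      map_mul' := fun k l => by simp }

end Cfsg.Agent.S3951
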