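import Cfsg.Statements.S3960
import Cfsg.Agent.Solv.MultiplierLift

set_option autoImplicit false
universe u
open Cfsg

namespace Cfsg.Agent.S3960

/-- A finite perfect group `Q` has a universal central extension: a finite perfect group `G` in the universe of `Q` and a surjective homomorphism `π : G →* Q` with central kernel such that for every group `X` in that universe and every surjective homomorphism `ξ : X →* Q` with central kernel there is exactly one homomorphism `η : G →* X` with `ξ ∘ η = π`. -/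
theorem result {Q : Type u} [Group Q] [Finite Q] (hQ : Group.IsPerfect Q) : ∃ (G : Type u) (_ : Group G) (_ : Finite G) (π : G →* Q), Group.IsPerfect G ∧ Function.Surjective π ∧ π.ker ≤ Subgroup.center G ∧ ∀ (X : Type u) [Group X] (ξ : X →* Q), Function.Surjective ξ → ξ.ker ≤ Subgroup.center X → ∃! η : G →* X, ξ.comp η = π := by
  open CfsgLib.Solv.Mult in
  obtain ⟨hsup, hperf⟩ := commutator_E_perfect (Q := Q) hQ.commutator_eq_top
  let G := ↥(commutator (CfsgLib.Solv.Mult.E Q))
  let π : G →* Q := (CfsgLib.Solv.Mult.eproj Q).comp (commutator (CfsgLib.Solv.Mult.E Q)).subtype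
  haveI hperf' : Group.IsPerfect G := (Subgroup.isPerfect_iff).2 hperf
  have hker : π.ker ≤ Subgroup.center G := fun x hx =>
    Subgroup.mem_center_iff.2 fun y => Subtype.ext
      (Subgroup.mem_center_iff.1 (CfsgLib.Solv.Mult.ker_le_center Q (show (x : CfsgLib.Solv.Mult.E Q) ∈ _ from hx)) y)
  have hsurj : Function.Surjective π := fun q => by
    obtain ⟨e, rfl⟩ := CfsgLib.Solv.Mult.eproj_surjective Q q
    obtain ⟨c, hc, k, hk, rfl⟩ := Subgroup.mem_sup_of_normal_left.1 (hsup (Subgroup.mem_top e))
    exact ⟨⟨c, hc⟩, by rw [map_mul, show CfsgLib.Solv.Mult.eproj Q k = 1 from hk, mul_one]; rfl⟩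
  haveI : Finite G := inferInstanceAs (Finite (commutator (CfsgLib.Solv.Mult.E Q)))
  refine ⟨G, inferInstance, inferInstance, π, hperf', hsurj, hker, ?_⟩
  intro X _ ξ hξ hξc
  obtain ⟨φ, hφ⟩ := CfsgLib.Solv.Mult.exists_lift ξ hξ hξc (MonoidHom.id Q)
  refine ⟨φ.comp (commutator (CfsgLib.Solv.Mult.E Q)).subtype, by show ξ.comp (φ.comp _) = π; rw [← MonoidHom.comp_assoc, hφ]; rfl,
    fun η hη => ?_⟩
  exact CfsgLib.Solv.Mult.eq_of_perfect hperf'.commutator_eq_top hξc (hη.trans (by rw [← MonoidHom.comp_assoc, hφ]; rfl))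

end Cfsg.Agent.S3960
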