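import Cfsg.Statements.S3961
import Cfsg.Agent.Solv.MultiplierLift

set_option autoImplicit false
universe u v
open Cfsg
open scoped commutatorElement

namespace Cfsg.Agent.S3961

/-- Let `π : G →* Q` be a surjective homomorphism with central kernel from a finite perfect group `G` (a perfect cover of `Q`). Then `π` is universal, in the sense that every surjective homomorphism `ξ : X →* Q` with central kernel from a group `X` in the universe of `G` admits a homomorphism `η : G →* X` with `ξ ∘ η = π`, if and only if `G` has trivial Schur multiplier. -/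
theorem result {G : Type u} {Q : Type v} [Group G] [Group Q] [Finite G] (hG : Group.IsPerfect G) (π : G →* Q) (hπ : Function.Surjective π) (hker : π.ker ≤ Subgroup.center G) : (∀ (X : Type u) [Group X] (ξ : X →* Q), Function.Surjective ξ → ξ.ker ≤ Subgroup.center X → ∃ η : G →* X, ξ.comp η = π) ↔ Cfsg.HasCyclicSchurMultiplier G 1 := by
  haveI : Finite Q := Finite.of_surjective π hπ
  have hGc := hG.commutator_eq_top
  rw [CfsgLib.Solv.Mult.hasCyclic_one_iff]
  constructor
  · intro huniv
    refine CfsgLib.Solv.Mult.M_eq_bot_of_forall fun Γ _ _ σ hσ => ?_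
    have hperf : commutator Γ = ⊤ := by
      refine eq_top_iff.2 fun g _ => ?_
      have hg : σ g ∈ (commutator Γ).map σ := by
        rw [commutator_def, Subgroup.map_commutator, Subgroup.map_top_of_surjective _ hσ.1, ← commutator_def, hGc]
        exact Subgroup.mem_top _
      obtain ⟨c, hc, e⟩ := hg
      have h2 : c⁻¹ * g ∈ σ.ker := by rw [MonoidHom.mem_ker, map_mul, map_inv, e, inv_mul_cancel]
      simpa using mul_mem hc (hσ.2.2 h2)
    have hξc : (π.comp σ).ker ≤ Subgroup.center Γ := by
      intro z hz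
      rw [← Subgroup.centralizer_univ, ← Subgroup.coe_top, ← hperf]
      have h1 : ∀ y : Γ, ⁅z, y⁆ ∈ σ.ker := fun y => by
        rw [MonoidHom.mem_ker, map_commutatorElement, commutatorElement_eq_one_iff_mul_comm]
        exact (Subgroup.mem_center_iff.1 (hker (show σ z ∈ π.ker from hz)) (σ y)).symm
      let f : Γ →* Γ :=
        { toFun := fun y => ⁅z, y⁆
          map_one' := commutatorElement_one_right z
          map_mul' := fun x y => by
            calc ⁅z, x * y⁆ = ⁅z, x⁆ * (x * ⁅z, y⁆ * x⁻¹) := by simp only [commutatorElement_def]; group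
              _ = _ := by rw [Subgroup.mem_center_iff.1 (hσ.2.1 (h1 y)) x, mul_inv_cancel_right] }
      have hf : commutator Γ ≤ f.ker := by
        rw [commutator_def, Subgroup.commutator_le]
        intro a _ b _
        rw [MonoidHom.mem_ker, map_commutatorElement, commutatorElement_eq_one_iff_mul_comm]
        exact Subgroup.mem_center_iff.1 (hσ.2.1 (h1 b)) _
      exact Subgroup.mem_centralizer_iff.2 fun y hy =>
        (commutatorElement_eq_one_iff_mul_comm.1 (show ⁅z, y⁆ = 1 from hf hy)).symm
    obtain ⟨η, hη⟩ := huniv Γ (π.comp σ) (hπ.comp hσ.1) hξc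
    have hid : σ.comp η = MonoidHom.id G :=
      CfsgLib.Solv.Mult.eq_of_perfect hGc hker (by rw [← MonoidHom.comp_assoc, hη, MonoidHom.comp_id])
    obtain ⟨hs, -⟩ := CfsgLib.Solv.Mult.surjective_of_stem hσ η (by rw [hid]; exact Function.surjective_id)
    refine eq_bot_iff.2 fun k hk => ?_
    obtain ⟨x, rfl⟩ := hs k
    have : x = 1 := by
      have := DFunLike.congr_fun hid x
      rw [MonoidHom.comp_apply, show σ (η x) = 1 from hk] at this
      exact this.symm
    rw [this, map_one]
    exact one_mem _
  · intro hM X _ ξ hξ hξc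
    obtain ⟨φ, hφ⟩ := CfsgLib.Solv.Mult.exists_lift (Q := G) ξ hξ hξc π
    obtain ⟨hsup, -⟩ := CfsgLib.Solv.Mult.commutator_E_perfect (Q := G) hGc
    let e0 : ↥(commutator (CfsgLib.Solv.Mult.E G)) →* G :=
      (CfsgLib.Solv.Mult.eproj G).comp (commutator (CfsgLib.Solv.Mult.E G)).subtype
    have hbij : Function.Bijective e0 := by
      refine ⟨?_, fun q => ?_⟩
      · rw [← MonoidHom.ker_eq_bot_iff, eq_bot_iff]
        intro x hx
        have h1 : (x : CfsgLib.Solv.Mult.E G) ∈ CfsgLib.Solv.Mult.M G := ⟨hx, x.2⟩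
        rw [hM, Subgroup.mem_bot] at h1
        exact Subgroup.mem_bot.2 (Subtype.ext h1)
      · obtain ⟨e, rfl⟩ := CfsgLib.Solv.Mult.eproj_surjective G q
        obtain ⟨c, hc, k, hk, rfl⟩ := Subgroup.mem_sup_of_normal_left.1 (hsup (Subgroup.mem_top e))
        exact ⟨⟨c, hc⟩, by rw [map_mul, show CfsgLib.Solv.Mult.eproj G k = 1 from hk, mul_one]; rfl⟩
    let e1 := MulEquiv.ofBijective e0 hbij
    refine ⟨(φ.comp (commutator (CfsgLib.Solv.Mult.E G)).subtype).comp e1.symm.toMonoidHom, MonoidHom.ext fun g => ?_⟩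
    obtain ⟨x, rfl⟩ := e1.surjective g
    simp only [MonoidHom.comp_apply, MulEquiv.coe_toMonoidHom, MulEquiv.symm_apply_apply]
    exact DFunLike.congr_fun hφ (x : CfsgLib.Solv.Mult.E G)

end Cfsg.Agent.S3961
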