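import Cfsg.Statements.S3963
import Cfsg.Agent.Solv.MultiplierDihedral

set_option autoImplicit false
open Cfsg
open scoped commutatorElement

namespace Cfsg.Agent.S3963

/-- For every `n ≥ 1` the dicyclic (generalized quaternion) group of order `4 n` has trivial Schur multiplier. -/
theorem result (n : ℕ) [NeZero n] : Cfsg.HasCyclicSchurMultiplier (QuaternionGroup n) 1 := by
  haveI : NeZero (2 * n) := ⟨Nat.mul_ne_zero two_ne_zero (NeZero.ne n)⟩
  rw [CfsgLib.Solv.Mult.hasCyclic_one_iff]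
  refine CfsgLib.Solv.Mult.M_eq_bot_of_forall fun Γ _ _ σ hσ => eq_bot_iff.2 fun z hz => ?_
  have hgen : Subgroup.closure {QuaternionGroup.a (1 : ZMod (2 * n)), QuaternionGroup.xa (0 : ZMod (2 * n))} = ⊤ := by
    refine eq_top_iff.2 fun g _ => ?_
    have hr : ∀ i : ZMod (2 * n), QuaternionGroup.a i ∈
        Subgroup.closure {QuaternionGroup.a (1 : ZMod (2 * n)), QuaternionGroup.xa (0 : ZMod (2 * n))} := fun i => by
      rw [← ZMod.natCast_zmod_val i, ← QuaternionGroup.a_one_pow]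
      exact pow_mem (Subgroup.subset_closure (Set.mem_insert _ _)) _
    rcases g with i | i
    · exact hr i
    · rw [show QuaternionGroup.xa i = QuaternionGroup.xa (0 : ZMod (2 * n)) * QuaternionGroup.a i by simp]
      exact mul_mem (Subgroup.subset_closure (Set.mem_insert_of_mem _ (Set.mem_singleton _))) (hr i)
  have hxy : QuaternionGroup.xa (0 : ZMod (2 * n)) * QuaternionGroup.a 1 * (QuaternionGroup.xa 0)⁻¹ =
      (QuaternionGroup.a 1)⁻¹ := by
    rw [mul_inv_eq_iff_eq_mul, eq_inv_mul_iff_mul_eq]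
    simp
  have hsq : (QuaternionGroup.xa (0 : ZMod (2 * n))) ^ 2 = (QuaternionGroup.a 1) ^ n := by
    rw [pow_two, QuaternionGroup.a_one_pow]; simp
  obtain ⟨c, hc, hle, hσc⟩ := CfsgLib.Solv.Mult.inverting_core σ hσ.1 hσ.2.1 hxy hgen n (Or.inr hsq)
  obtain ⟨j, rfl⟩ := Subgroup.mem_zpowers_iff.1 (hle (hσ.2.2 hz))
  rw [MonoidHom.mem_ker, map_zpow, hσc, inv_zpow, inv_eq_one, ← zpow_natCast, ← zpow_mul,
    ← orderOf_dvd_iff_zpow_eq_one, QuaternionGroup.orderOf_a_one] at hz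
  push_cast at hz
  obtain ⟨k, rfl⟩ := (mul_dvd_mul_iff_left (two_ne_zero (α := ℤ))).1 hz
  rw [Subgroup.mem_bot, zpow_mul, zpow_natCast, hc, one_zpow]

end Cfsg.Agent.S3963
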