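import Cfsg.Statements.S3964
import Cfsg.Agent.Solv.MultiplierDihedral

set_option autoImplicit false
open Cfsg
open scoped commutatorElement

namespace Cfsg.Agent.S3964

theorem gen_dihedral (n : ℕ) [NeZero n] :
    Subgroup.closure {DihedralGroup.r (1 : ZMod n), DihedralGroup.sr (0 : ZMod n)} = ⊤ := by
  refine eq_top_iff.2 fun g _ => ?_
  have hr : ∀ i : ZMod n, DihedralGroup.r i ∈ Subgroup.closure {DihedralGroup.r (1 : ZMod n), DihedralGroup.sr (0 : ZMod n)} := fun i => by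
    rw [← ZMod.natCast_zmod_val i, ← DihedralGroup.r_one_pow]
    exact pow_mem (Subgroup.subset_closure (Set.mem_insert _ _)) _
  rcases g with i | i
  · exact hr i
  · rw [show DihedralGroup.sr i = DihedralGroup.sr (0 : ZMod n) * DihedralGroup.r i by simp]
    exact mul_mem (Subgroup.subset_closure (Set.mem_insert_of_mem _ (Set.mem_singleton _))) (hr i)

/-- Kernel of a central extension with kernel inside the commutator subgroup. -/
theorem ker_gen (n : ℕ) [NeZero n] {Γ : Type*} [Group Γ] (σ : Γ →* DihedralGroup n)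
    (hσ : Cfsg.IsStemExtension σ) :
    ∃ c : Γ, c ^ n = 1 ∧ (∀ j : ℤ, σ (c ^ j) = 1 ↔ (n : ℤ) ∣ 2 * j) ∧ ∀ z ∈ σ.ker, ∃ j : ℤ, c ^ j = z := by
  obtain ⟨c, hc, hle, hσc⟩ := CfsgLib.Solv.Mult.inverting_core σ hσ.1 hσ.2.1
    (x := DihedralGroup.r (1 : ZMod n)) (y := DihedralGroup.sr (0 : ZMod n))
    (by rw [mul_inv_eq_iff_eq_mul]; simp) (gen_dihedral n) n (Or.inl (by simp))
  refine ⟨c, hc, fun j => ?_, fun z hz => Subgroup.mem_zpowers_iff.1 (hle (hσ.2.2 hz))⟩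
  rw [map_zpow, hσc, inv_zpow, inv_eq_one, ← zpow_natCast, ← zpow_mul, ← orderOf_dvd_iff_zpow_eq_one,
    DihedralGroup.orderOf_r_one]
  rfl


/-- For odd `n` the dihedral group of order `2 n` has trivial Schur multiplier. -/
theorem result (n : ℕ) (hn : Odd n) : Cfsg.HasCyclicSchurMultiplier (DihedralGroup n) 1 := by
  haveI : NeZero n := ⟨hn.pos.ne'⟩
  rw [CfsgLib.Solv.Mult.hasCyclic_one_iff]
  refine CfsgLib.Solv.Mult.M_eq_bot_of_forall fun Γ _ _ σ hσ => eq_bot_iff.2 fun z hz => ?_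
  obtain ⟨c, hc, hiff, hgen⟩ := ker_gen n σ hσ
  obtain ⟨j, rfl⟩ := hgen z hz
  have hco : IsCoprime (n : ℤ) 2 := by
    have : IsCoprime (n : ℤ) ((2 : ℕ) : ℤ) := Int.isCoprime_iff_gcd_eq_one.2 (hn.coprime_two_right)
    exact_mod_cast this
  obtain ⟨k, rfl⟩ := hco.dvd_of_dvd_mul_left ((hiff j).1 hz)
  rw [Subgroup.mem_bot, zpow_mul, zpow_natCast, hc, one_zpow]

end Cfsg.Agent.S3964
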