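import Cfsg.Statements.S3966
import Cfsg.Agent.Solv.MultiplierDihedral

set_option autoImplicit false
open Cfsg
open scoped commutatorElement

namespace Cfsg.Agent.S3966

/-- For even `n ≥ 2` the dicyclic group of order `4 n` is a stem extension of the dihedral group of order `2 n` with kernel of order `2`: there is a surjective homomorphism `QuaternionGroup n →* DihedralGroup n` whose kernel is central, lies in the commutator subgroup and has two elements. Together with the order of the multiplier this exhibits the dicyclic group as a Schur covering group of the dihedral group. -/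
theorem result (n : ℕ) [NeZero n] (hn : Even n) : ∃ σ : QuaternionGroup n →* DihedralGroup n, Cfsg.IsStemExtension σ ∧ Nat.card σ.ker = 2 := by
  classical
  haveI : NeZero (2 * n) := ⟨Nat.mul_ne_zero two_ne_zero (NeZero.ne n)⟩
  have hd : n ∣ 2 * n := dvd_mul_left n 2
  let f : ZMod (2 * n) →+* ZMod n := ZMod.castHom hd (ZMod n)
  let σ : QuaternionGroup n →* DihedralGroup n :=
    { toFun := fun g => match g with
        | QuaternionGroup.a i => DihedralGroup.r (f i)
        | QuaternionGroup.xa i => DihedralGroup.sr (f i)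
      map_one' := by
        show DihedralGroup.r (f 0) = DihedralGroup.r 0
        rw [map_zero]
      map_mul' := by
        rintro (i | i) (j | j) <;> simp }
  have hsurj : Function.Surjective σ := by
    rintro (i | i)
    · obtain ⟨j, rfl⟩ := ZMod.ringHom_surjective f i
      exact ⟨QuaternionGroup.a j, rfl⟩
    · obtain ⟨j, rfl⟩ := ZMod.ringHom_surjective f i
      exact ⟨QuaternionGroup.xa j, rfl⟩
  have hcard : Nat.card σ.ker = 2 := by
    have h := Subgroup.card_eq_card_quotient_mul_card_subgroup σ.ker
    rw [Nat.card_congr (QuotientGroup.quotientKerEquivOfSurjective σ hsurj).toEquiv, DihedralGroup.nat_card,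
      Nat.card_eq_fintype_card, QuaternionGroup.card] at h
    exact (Nat.eq_of_mul_eq_mul_left (Nat.mul_pos two_pos (NeZero.pos n)) (h.symm.trans (by ring)))
  let t : QuaternionGroup n := QuaternionGroup.a (n : ZMod (2 * n))
  have ht : t ∈ σ.ker := by
    show DihedralGroup.r (f n) = DihedralGroup.r 0
    rw [map_natCast, ZMod.natCast_self]
  have ht1 : t ≠ 1 := fun h => by
    have h1 : ((n : ZMod (2 * n))) = 0 := by
      have h0 : QuaternionGroup.a (n : ZMod (2 * n)) = QuaternionGroup.a 0 := h
      exact QuaternionGroup.a.inj h0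
    rw [ZMod.natCast_eq_zero_iff] at h1
    exact absurd (Nat.le_of_dvd (NeZero.pos n) h1) (by have := NeZero.pos n; omega)
  have hgen : σ.ker = Subgroup.zpowers t := by
    haveI : Fact (Nat.Prime 2) := ⟨Nat.prime_two⟩
    refine le_antisymm (fun z hz => ?_) (Subgroup.zpowers_le.2 ht)
    obtain ⟨k, hk⟩ := mem_zpowers_of_prime_card hcard
      (g := ⟨t, ht⟩) (g' := ⟨z, hz⟩) (fun h => ht1 (congrArg Subtype.val h))
    exact ⟨k, congrArg Subtype.val hk⟩
  obtain ⟨h, hh⟩ := even_iff_two_dvd.1 hn
  have h2 : ((2 : ZMod (2 * n)) * h) = n := by rw [hh]; push_cast; ring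
  have hnn : (n : ZMod (2 * n)) + n = 0 := by
    rw [← two_mul]
    exact_mod_cast ZMod.natCast_self (2 * n)
  refine ⟨σ, ⟨hsurj, ?_, ?_⟩, hcard⟩
  · rw [hgen, Subgroup.zpowers_le, Subgroup.mem_center_iff]
    rintro (i | i)
    · show QuaternionGroup.a _ = QuaternionGroup.a _
      rw [add_comm]
    · show QuaternionGroup.xa (i + (n : ZMod (2 * n))) = QuaternionGroup.xa (i - (n : ZMod (2 * n)))
      congr 1
      linear_combination hnn
  · rw [hgen, Subgroup.zpowers_le]
    have e : ⁅QuaternionGroup.a (h : ZMod (2 * n)), QuaternionGroup.xa 0⁆ = t := by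
      rw [commutatorElement_def, mul_inv_eq_iff_eq_mul, mul_inv_eq_iff_eq_mul]
      show QuaternionGroup.xa (0 - (h : ZMod (2 * n))) = QuaternionGroup.xa (0 - n + h)
      congr 1
      linear_combination -h2
    rw [← e]
    exact Subgroup.commutator_mem_commutator (Subgroup.mem_top _) (Subgroup.mem_top _)

end Cfsg.Agent.S3966
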