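import Cfsg.Statements.S3965
import Cfsg.Agent.Solv.MultiplierDihedral
import Cfsg.Agent.S3966

set_option autoImplicit false
open Cfsg
open scoped commutatorElement

namespace Cfsg.Agent.S3965

theorem gen_dihedral (n : ℕ) [NeZero n] :
    Subgroup.closure {DihedralGroup.r (1 : ZMod n), DihedralGroup.sr (0 : ZMod n)} = ⊤ := by
  refine eq_top_iff.2 fun g _ => ?_
  have hr : ∀ i : ZMod n, DihedralGroup.r i ∈ Subgroup.closure {DihedralGroup.r (1 : ZMod n), DihedralGroup.sr (0 : ZMod n)} := fun i => by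
    rw [← ZMod.natCast_zmod_val i, ← DihedralGroup.r_one_pow]
    exact pow_mem (Subgroup.subset_closure (Set.mem_insert _ _)) _
  rcases g with i | i
  · exact hr i
  · rw [show DihedralGroup.sr i = DihedralGroup.sr (0 : ZMod n) * DihedralGroup.r i by simp]
    exact mul_mem (Subgroup.subset_closure (Set.mem_insert_of_mem _ (Set.mem_singleton _))) (hr i)

/-- Kernel of a central extension with kernel inside the commutator subgroup. -/
theorem ker_gen (n : ℕ) [NeZero n] {Γ : Type*} [Group Γ] (σ : Γ →* DihedralGroup n)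
    (hσ : Cfsg.IsStemExtension σ) :
    ∃ c : Γ, c ^ n = 1 ∧ (∀ j : ℤ, σ (c ^ j) = 1 ↔ (n : ℤ) ∣ 2 * j) ∧ ∀ z ∈ σ.ker, ∃ j : ℤ, c ^ j = z := by
  obtain ⟨c, hc, hle, hσc⟩ := CfsgLib.Solv.Mult.inverting_core σ hσ.1 hσ.2.1
    (x := DihedralGroup.r (1 : ZMod n)) (y := DihedralGroup.sr (0 : ZMod n))
    (by rw [mul_inv_eq_iff_eq_mul]; simp) (gen_dihedral n) n (Or.inl (by simp))
  refine ⟨c, hc, fun j => ?_, fun z hz => Subgroup.mem_zpowers_iff.1 (hle (hσ.2.2 hz))⟩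
  rw [map_zpow, hσc, inv_zpow, inv_eq_one, ← zpow_natCast, ← zpow_mul, ← orderOf_dvd_iff_zpow_eq_one,
    DihedralGroup.orderOf_r_one]
  rfl


/-- For even `n ≥ 2` the dihedral group of order `2 n` has Schur multiplier cyclic of order `2`. -/
theorem result (n : ℕ) [NeZero n] (hn : Even n) : Cfsg.HasCyclicSchurMultiplier (DihedralGroup n) 2 := by
  haveI : Fact (Nat.Prime 2) := ⟨Nat.prime_two⟩
  obtain ⟨σ₀, hσ₀, hcard⟩ := Cfsg.Agent.S3966.result n hn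
  refine ⟨⟨QuaternionGroup n, inferInstance, inferInstance, σ₀, hσ₀,
    ⟨mulEquivOfPrimeCardEq hcard (show Nat.card (ZMod 2) = 2 from Nat.card_zmod 2)⟩⟩, fun Γ _ _ σ hσ => ?_⟩
  obtain ⟨c, hc, hiff, hgen⟩ := ker_gen n σ hσ
  obtain ⟨h, hh⟩ := even_iff_two_dvd.1 hn
  let w : σ.ker := ⟨c ^ (h : ℤ), (hiff h).2 ⟨1, by rw [hh]; push_cast; ring⟩⟩
  have hw : w ^ 2 = 1 := Subtype.ext (by
    show (c ^ (h : ℤ)) ^ 2 = 1
    rw [zpow_natCast, ← pow_mul, mul_comm, ← hh, hc])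
  let g : ℤ →+ Additive σ.ker := zmultiplesHom _ (Additive.ofMul w)
  have hg : g ((2 : ℕ) : ℤ) = 0 := by
    show ((2 : ℕ) : ℤ) • Additive.ofMul w = 0
    rw [natCast_zsmul, ← ofMul_pow, hw, ofMul_one]
  refine ⟨AddMonoidHom.toMultiplicativeLeft (ZMod.lift 2 ⟨g, hg⟩), fun z => ?_⟩
  obtain ⟨j, hj⟩ := hgen z.1 z.2
  have h1 := (hiff j).1 (by rw [hj]; exact z.2)
  rw [hh] at h1
  push_cast at h1
  obtain ⟨i, rfl⟩ := (mul_dvd_mul_iff_left (two_ne_zero (α := ℤ))).1 h1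
  refine ⟨Multiplicative.ofAdd (i : ZMod 2), ?_⟩
  show Additive.toMul (ZMod.lift 2 ⟨g, hg⟩ (i : ZMod 2)) = z
  rw [ZMod.lift_coe]
  refine Subtype.ext ?_
  show ((w ^ i : σ.ker) : Γ) = z
  rw [SubgroupClass.coe_zpow, ← hj, zpow_mul]

end Cfsg.Agent.S3965
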