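import Cfsg.Statements.S3968
import Cfsg.Agent.Char.Burnside
import Cfsg.Agent.Char.Central
import Mathlib.RingTheory.RootsOfUnity.Basic

set_option autoImplicit false
open Cfsg Module

namespace Cfsg.Agent.S3968

/-- Let `p` be a prime and `G` a finite group with a faithful irreducible complex character of degree `p` (so `G` is an irreducible linear group in `p` variables). If `p ^ 2` divides the order of `G`, then the centre of `G` is nontrivial. -/
theorem result {G : Type*} [Group G] [Finite G] (p : ℕ) (hp : p.Prime) (χ : Cfsg.IrrCharacter G) (hdeg : χ.1 1 = p) (hfaith : ∀ g : G, χ.1 g = χ.1 1 → g = 1) (hdiv : p ^ 2 ∣ Nat.card G) : Subgroup.center G ≠ ⊥ := by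
  classical
  haveI := Fintype.ofFinite G
  haveI := Fact.mk hp
  intro hZ
  have hχ := χ.2
  obtain ⟨n, ρ, hρ, hρχ⟩ := χ.2
  have hcd : charDegree χ.1 = p := CfsgLib.Char.charDegree_eq hdeg
  have hnp : n = p := by
    have h1 : ρ.character 1 = (n : ℂ) := by simp [Representation.character]
    rw [hρχ, hdeg] at h1
    exact_mod_cast h1.symm
  have hfr : Module.finrank ℂ (Fin n → ℂ) = p := by simp [hnp]
  have hinj : Function.Injective ρ := by
    refine (injective_iff_map_eq_one ρ).mpr fun g hg => hfaith g ?_
    rw [← hρχ]; simp [Representation.character, hg]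
  -- a non-trivial element with class size prime to p has value zero
  have hzero : ∀ g : G, g ≠ 1 → Nat.Coprime p (Subgroup.centralizer ({g} : Set G)).index →
      χ.1 g = 0 := by
    intro g hg hcop
    rcases CfsgLib.Char.burnside_zero_or_norm hχ g (by rwa [hcd]) with h | h
    · exact h
    · exfalso
      obtain ⟨w, hw⟩ := CfsgLib.Char.rep_scalar_of_norm ρ g
        (by rw [hρχ, h, hcd, hfr])
      have := CfsgLib.Char.central_of_scalar_faithful hinj hw
      rw [hZ, Subgroup.mem_bot] at this
      exact hg this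
  obtain ⟨P⟩ : Nonempty (Sylow p G) := inferInstance
  have hcopP : ∀ g : G, (↑P : Subgroup G) ≤ Subgroup.centralizer ({g} : Set G) →
      Nat.Coprime p (Subgroup.centralizer ({g} : Set G)).index := fun g hg =>
    (hp.coprime_iff_not_dvd).mpr fun h =>
      P.not_dvd_index (h.trans (Subgroup.index_dvd_of_le hg))
  have hp2 : p ^ 2 ∣ Nat.card P := P.pow_dvd_card_of_pow_dvd_card hdiv
  haveI : Nontrivial P := by
    rw [← Finite.one_lt_card_iff_nontrivial]
    exact lt_of_lt_of_le (Nat.one_lt_pow (by norm_num) hp.one_lt) (Nat.le_of_dvd Nat.card_pos hp2)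
  haveI := P.isPGroup'.center_nontrivial
  obtain ⟨z₀, hz₀⟩ := exists_prime_orderOf_dvd_card' (G := Subgroup.center P) p (by
    obtain ⟨k, hk0, hk⟩ := (P.isPGroup'.to_subgroup (Subgroup.center P)).nontrivial_iff_card.mp
      inferInstance
    rw [hk]; exact dvd_pow_self p hk0.ne')
  set z : G := ((z₀ : P) : G) with hz
  have hzord : orderOf z = p := by
    rw [hz, Subgroup.orderOf_coe, Subgroup.orderOf_coe, hz₀]
  have hzc : ∀ x ∈ (↑P : Subgroup G), x * z = z * x := fun x hx => by
    have := Subgroup.mem_center_iff.mp z₀.2 ⟨x, hx⟩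
    exact congrArg Subtype.val this
  have hzpow : ∀ k : ℕ, 0 < k → k < p → χ.1 (z ^ k) = 0 := by
    intro k hk0 hk
    refine hzero _ ?_ (hcopP _ fun x hx => ?_)
    · intro h
      have := orderOf_dvd_of_pow_eq_one h
      rw [hzord] at this
      exact absurd (Nat.le_of_dvd hk0 this) (not_le.mpr hk)
    · rw [Subgroup.mem_centralizer_singleton_iff]
      exact Commute.pow_right (hzc x hx) k
  obtain ⟨b, ζ, hζ, hb⟩ := CfsgLib.Char.exists_eigenbasis ρ z
  rw [hzord] at hζ
  -- the eigenvalues of z are distinct
  have hdist : ∀ i j, ζ i = ζ j → i = j := by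
    intro i j hij
    have hne : ζ i ≠ 0 := fun h => by
      have := hζ i; rw [h, zero_pow hp.pos.ne'] at this; exact zero_ne_one this
    have hgeo : ∀ l, ∑ k ∈ Finset.range p, (ζ l / ζ i) ^ k = if ζ l = ζ i then (p : ℂ) else 0 := by
      intro l
      split_ifs with h
      · simp [h, hne]
      · rw [geom_sum_eq (fun h1 => h (by rwa [div_eq_one_iff_eq hne] at h1)), div_pow, hζ, hζ]
        simp
    have hrow : ∀ k ∈ Finset.range p, ∑ l, (ζ l / ζ i) ^ k = if k = 0 then (p : ℂ) else 0 := by
      intro k hk
      simp only [div_pow, ← Finset.sum_div]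
      split_ifs with h
      · subst h; simp [hnp]
      · have h2 := hzpow k (Nat.pos_of_ne_zero h) (Finset.mem_range.mp hk)
        rw [← hρχ] at h2
        have h3 : ρ.character (z ^ k) = ∑ l, ζ l ^ k :=
          CfsgLib.Char.trace_of_eigen (fun l => CfsgLib.Char.eigen_pow hb k l)
        rw [h3] at h2
        simp [h2]
    have hswap := Finset.sum_comm (s := (Finset.univ : Finset (Fin (Module.finrank ℂ (Fin n → ℂ)))))
      (t := Finset.range p) (f := fun l k => (ζ l / ζ i) ^ k)
    rw [Finset.sum_congr rfl (fun l _ => hgeo l), Finset.sum_congr rfl hrow,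
      Finset.sum_ite_eq' (Finset.range p) 0 (fun _ => (p : ℂ))] at hswap
    rw [← Finset.sum_filter, Finset.sum_const, if_pos (Finset.mem_range.mpr hp.pos),
      nsmul_eq_mul] at hswap
    have h1 : (Finset.univ.filter fun l => ζ l = ζ i).card = 1 := by
      have hp0 : (p : ℂ) ≠ 0 := by exact_mod_cast hp.pos.ne'
      have := mul_right_cancel₀ hp0 (hswap.trans (one_mul (p : ℂ)).symm)
      exact_mod_cast this
    exact Finset.card_le_one.mp h1.le i (by simp) j (by simp [hij])
  -- P is diagonal in this basis
  have hdiag : ∀ x ∈ (↑P : Subgroup G), ∀ i, ρ x (b i) = (b.repr (ρ x (b i)) i) • b i := by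
    intro x hx i
    have hev : ρ z (ρ x (b i)) = ζ i • ρ x (b i) := by
      rw [← Module.End.mul_apply, ← map_mul, ← hzc x hx, map_mul, Module.End.mul_apply, hb,
        map_smul]
    set v := ρ x (b i) with hv
    have hco : ∀ l, b.repr (ρ z v) l = ζ l * b.repr v l := by
      intro l
      conv_lhs => rw [← b.sum_repr v]
      classical
      simp only [map_sum, map_smul, hb, Basis.repr_self, Finsupp.coe_finset_sum, Finset.sum_apply,
        Finsupp.smul_apply, smul_eq_mul, Finsupp.single_apply]
      simp [Finset.sum_ite_eq', mul_comm]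
    refine b.ext_elem fun l => ?_
    rcases eq_or_ne l i with rfl | hl
    · simp
    · have h1 := hco l
      rw [hev] at h1
      simp only [map_smul, Finsupp.smul_apply, smul_eq_mul] at h1
      have h2 : b.repr v l = 0 := by
        by_contra h0
        exact hl (hdist l i (mul_right_cancel₀ h0 h1).symm)
      simp [h2, hl.symm]
  have hab : ∀ x ∈ (↑P : Subgroup G), ∀ y ∈ (↑P : Subgroup G), x * y = y * x := by
    intro x hx y hy
    refine hinj (b.ext fun i => ?_)
    rw [map_mul, map_mul, Module.End.mul_apply, Module.End.mul_apply, hdiag y hy i, hdiag x hx i,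
      map_smul, map_smul, hdiag x hx i, hdiag y hy i, smul_smul, smul_smul]
    simp [mul_comm]
  let c : Fin (Module.finrank ℂ (Fin n → ℂ)) → ((P : Subgroup G) →* ℂ) := fun i =>
    { toFun := fun x => b.repr (ρ x.1 (b i)) i
      map_one' := by simp
      map_mul' := fun x y => by
        show b.repr (ρ (x.1 * y.1) (b i)) i = _
        rw [map_mul, Module.End.mul_apply, hdiag y.1 y.2 i, map_smul, map_smul,
          Finsupp.smul_apply, smul_eq_mul]
        simp [mul_comm] }
  have hsum : ∑ x : (P : Subgroup G), χ.1 x.1 = (p : ℂ) := by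
    rw [Finset.sum_eq_single (1 : (P : Subgroup G))]
    · simpa using hdeg
    · intro x _ hx
      refine hzero _ (by simpa using hx) (hcopP _ fun y hy => ?_)
      rw [Subgroup.mem_centralizer_singleton_iff]
      exact hab y hy x.1 x.2
    · simp
  have hval : ∀ x : (P : Subgroup G), χ.1 x.1 = ∑ i, c i x := fun x => by
    rw [← hρχ]; exact CfsgLib.Char.trace_of_eigen (fun i => hdiag x.1 x.2 i)
  rw [Finset.sum_congr rfl (fun x _ => hval x), Finset.sum_comm,
    Finset.sum_congr rfl (fun i _ => sum_hom_units (c i))] at hsum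
  have hsum' : (∑ i, (if c i = 1 then Fintype.card (P : Subgroup G) else 0 : ℕ) : ℂ) = p := by
    push_cast; convert hsum using 2 with i; simp
  have hd : Fintype.card (P : Subgroup G) ∣ p := by
    have h : ∑ i, (if c i = 1 then Fintype.card (P : Subgroup G) else 0 : ℕ) = p := by
      exact_mod_cast hsum'
    refine (?_ : _ ∣ _).trans h.dvd
    exact Finset.dvd_sum fun i _ => by split_ifs <;> simp
  rw [← Nat.card_eq_fintype_card] at hd
  have := Nat.le_of_dvd hp.pos (hp2.trans hd)
  nlinarith [hp.one_lt]

end Cfsg.Agent.S3968
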