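import Cfsg.Statements.S4208

import Cfsg.Agent.Perm.AutFrattini

set_option autoImplicit false
set_option linter.style.haveILetI false
open Cfsg

namespace Cfsg.Agent.S4208

/-- Let `P` be a group of order `p^n` whose Frattini subgroup has index `p^r`. Then the order of the automorphism group of `P` divides `p^(r(n-r)) · (p^r - 1)(p^r - p) ⋯ (p^r - p^(r-1))`. -/
theorem result {P : Type*} [Group P] [Finite P] {p n r : ℕ} [Fact p.Prime] (hP : Nat.card P = p ^ n) (hr : (frattini P).index = p ^ r) : Nat.card (MulAut P) ∣ p ^ (r * (n - r)) * ∏ i ∈ Finset.range r, (p ^ r - p ^ i) := by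
  have hPp : IsPGroup p P := IsPGroup.of_card hP
  obtain ⟨h1, h2⟩ := CfsgLib.Perm.AutFrattini.quot_elementary hPp
  have hc := CfsgLib.Perm.AutFrattini.card_indep h1 h2 hr r
  have h := CfsgLib.Perm.AutFrattini.card_dvd hP hr ⊤
    {f : Fin r → P ⧸ frattini P | Nat.card (Subgroup.closure (Set.range f)) = p ^ r} (fun s hs => hs)
    (fun α _ f hf => by
      haveI : (frattini P).Characteristic := inferInstance
      let e : P ⧸ frattini P ≃* P ⧸ frattini P := QuotientGroup.congr (frattini P) (frattini P) α
        (Subgroup.characteristic_iff_map_eq.1 inferInstance α)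
      show Nat.card (Subgroup.closure (Set.range fun i => (α (f i) : P ⧸ frattini P))) = p ^ r
      have e1 : (Set.range fun i => (α (f i) : P ⧸ frattini P)) =
          (e.toMonoidHom : P ⧸ frattini P → P ⧸ frattini P) '' Set.range fun i => (f i : P ⧸ frattini P) := by
        rw [← Set.range_comp]; rfl
      rw [e1, ← MonoidHom.map_closure, Subgroup.card_map_of_injective (f := e.toMonoidHom) e.injective]
      exact hf)
  rw [Subgroup.card_top, mul_comm] at h
  exact h.trans (dvd_of_eq (by rw [← hc]; rfl))

end Cfsg.Agent.S4208
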