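import Cfsg.Statements.S3971
import Cfsg.Agent.Solv.PComplement
import Cfsg.Agent.S4208

set_option autoImplicit false
open Cfsg
open scoped Pointwise

namespace Cfsg.Agent.S3971

/-- Let `G` be a finite group of order `2 ^ a * n` with `n` odd and not divisible by `3`, and suppose `G` has an element of order `2 ^ (a - 1)` (so a Sylow `2`-subgroup has a cyclic subgroup of index at most `2`). Then `G` has a normal subgroup of order `n`. -/
theorem result {G : Type*} [Group G] [Finite G] (a n : ℕ) (hG : Nat.card G = 2 ^ a * n) (hn : Odd n) (h3 : ¬ 3 ∣ n) (hx : ∃ x : G, orderOf x = 2 ^ (a - 1)) : ∃ N : Subgroup G, N.Normal ∧ Nat.card N = n := by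
  classical
  haveI : Fact (Nat.Prime 2) := ⟨Nat.prime_two⟩
  obtain ⟨x, hx⟩ := hx
  have hfrob : CfsgLib.Solv.FrobCond 2 G := by
    intro Q hQ g hg hgc
    obtain ⟨R, hR⟩ := hQ.exists_le_sylow
    have hRc : Nat.card (R : Subgroup G) = 2 ^ a := by
      rw [R.card_eq_multiplicity, hG, Nat.factorization_mul (pow_ne_zero _ two_ne_zero) hn.pos.ne', Finsupp.add_apply,
        Nat.prime_two.factorization_pow, Finsupp.single_eq_same,
        Nat.factorization_eq_zero_of_not_dvd (Nat.two_dvd_ne_zero.2 (Nat.odd_iff.1 hn)), add_zero]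
    obtain ⟨T, hT⟩ := (IsPGroup.of_card (G := Subgroup.zpowers x) (p := 2) (n := a - 1) (by rw [Nat.card_zpowers, hx])).exists_le_sylow
    obtain ⟨b, hb⟩ := MulAction.exists_smul_eq G T R
    have hxR : Subgroup.zpowers (b * x * b⁻¹) ≤ (R : Subgroup G) := by
      rw [Subgroup.zpowers_le, ← hb, Sylow.coe_subgroup_smul, CfsgLib.Solv.mem_conj_smul_iff]
      simpa [mul_assoc] using hT (Subgroup.mem_zpowers x)
    set C := (Subgroup.zpowers (b * x * b⁻¹)).subgroupOf Q
    have hCi : C.index ≤ 2 := by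
      show (Subgroup.zpowers (b * x * b⁻¹)).relIndex Q ≤ 2
      have hRi : (Subgroup.zpowers (b * x * b⁻¹)).relIndex (R : Subgroup G) ≤ 2 := by
        have h := Subgroup.card_mul_index ((Subgroup.zpowers (b * x * b⁻¹)).subgroupOf (R : Subgroup G))
        rw [CfsgLib.Solv.card_subgroupOf hxR, Nat.card_zpowers,
          show orderOf (b * x * b⁻¹) = orderOf x from MulEquiv.orderOf_eq (MulAut.conj b) x, hx, hRc] at h
        show ((Subgroup.zpowers (b * x * b⁻¹)).subgroupOf (R : Subgroup G)).index ≤ 2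
        rcases Nat.eq_zero_or_pos a with rfl | ha
        · rw [show (0 : ℕ) - 1 = 0 from rfl, pow_zero, one_mul] at h; omega
        · rw [show a = a - 1 + 1 by omega, pow_succ, Nat.add_sub_cancel] at h
          rw [Nat.eq_of_mul_eq_mul_left (pow_pos two_pos _) h]
      exact (Subgroup.relIndex_le_of_le_right hR (by
        show ((Subgroup.zpowers (b * x * b⁻¹)).subgroupOf (R : Subgroup G)).index ≠ 0
        exact Subgroup.index_ne_zero_of_finite)).trans hRi
    obtain ⟨hqc, hqe⟩ := CfsgLib.Perm.AutFrattini.quot_elementary hQ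
    have hCcyc : IsCyclic C := isCyclic_of_injective ((Q.subtype.comp C.subtype).codRestrict (Subgroup.zpowers (b * x * b⁻¹)) (fun c => c.2))
      (fun c d hcd => Subtype.ext (Subtype.ext (congrArg Subtype.val hcd :)))
    obtain ⟨j, hj⟩ := (hQ.to_quotient (frattini Q)).exists_card_eq
    have hidx : (frattini Q).index = 2 ^ j := hj
    have hj2 : j ≤ 2 := by
      let π := QuotientGroup.mk' (frattini Q)
      have hc1 : Nat.card (C.map π) ≤ 2 := by
        haveI : IsCyclic (C.map π) := isCyclic_of_surjective (π.subgroupMap C) (π.subgroupMap_surjective C)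
        obtain ⟨c, hc⟩ := IsCyclic.exists_generator (α := C.map π)
        rw [← orderOf_eq_card_of_forall_mem_zpowers hc]
        exact Nat.le_of_dvd two_pos (orderOf_dvd_of_pow_eq_one (Subtype.ext (hqe c)))
      have hc2 : (C.map π).index ≤ 2 :=
        (Nat.le_of_dvd (Nat.pos_of_ne_zero Subgroup.index_ne_zero_of_finite)
          (C.index_map_dvd (QuotientGroup.mk'_surjective _))).trans hCi
      have h := Subgroup.card_mul_index (C.map π)
      rw [hj] at h
      have h4 : 2 ^ j ≤ 2 ^ 2 := by
        rw [← h, pow_two]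
        exact Nat.mul_le_mul hc1 hc2
      exact (Nat.pow_le_pow_iff_right (by norm_num)).1 h4
    obtain ⟨k, hk⟩ := IsPGroup.iff_card.1 hQ
    have haut := Cfsg.Agent.S4208.result hk hidx
    let φ := Subgroup.normalizerMonoidHom Q
    have hord : orderOf (φ ⟨g, hg⟩) ∣ orderOf g := by
      have := orderOf_map_dvd φ ⟨g, hg⟩
      rwa [Subgroup.orderOf_mk] at this
    have hgn : orderOf g ∣ n := by
      have h1 := orderOf_dvd_natCard g
      rw [hG] at h1
      exact ((hgc.pow_right a).dvd_of_dvd_mul_left h1)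
    have h6 : orderOf (φ ⟨g, hg⟩) ∣ 2 ^ (j * (k - j)) * 2 * 3 := by
      refine ((orderOf_dvd_natCard _).trans haut).trans ?_
      rw [mul_assoc]
      refine mul_dvd_mul_left _ ?_
      interval_cases j <;> simp [Finset.prod_range_succ]
    have hco : Nat.Coprime n (2 ^ (j * (k - j)) * 2 * 3) := by
      have h2 : Nat.Coprime n 2 := Nat.coprime_two_right.2 hn
      exact Nat.Coprime.mul_right ((h2.pow_right _).mul_right h2) ((Nat.Prime.coprime_iff_not_dvd Nat.prime_three).2 h3).symm
    have hone : φ ⟨g, hg⟩ = 1 := orderOf_eq_one_iff.1 (Nat.eq_one_of_dvd_coprimes hco (hord.trans hgn) h6)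
    have : (⟨g, hg⟩ : Subgroup.normalizer (Q : Set G)) ∈ φ.ker := hone
    rw [Subgroup.normalizerMonoidHom_ker] at this
    exact this
  obtain ⟨P, N, hN, hc⟩ := CfsgLib.Solv.hnpc_iff_frobCond.2 hfrob
  refine ⟨N, hN, ?_⟩
  have h := hc.card_mul
  rw [P.card_eq_multiplicity, hG, Nat.factorization_mul (pow_ne_zero _ two_ne_zero) hn.pos.ne', Finsupp.add_apply,
    Nat.prime_two.factorization_pow, Finsupp.single_eq_same,
    Nat.factorization_eq_zero_of_not_dvd (Nat.two_dvd_ne_zero.2 (Nat.odd_iff.1 hn)), add_zero, mul_comm] at h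
  exact Nat.eq_of_mul_eq_mul_left (pow_pos two_pos a) h

end Cfsg.Agent.S3971
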