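-- Statement S3976
import Cfsg.Statements.S3976
import Cfsg.Agent.Solv.SubgroupCount

set_option autoImplicit false
open Cfsg
open scoped commutatorElement Pointwise
set_option linter.style.haveILetI false
set_option linter.deprecated false

namespace Cfsg.Agent.S3976

/-- Let `p` be a prime and `G` a group of order `p ^ m`. For every `s ≤ m` the number of normal subgroups of `G` of order `p ^ s` is congruent to `1` modulo `p`. -/
theorem result {G : Type*} [Group G] [Finite G] (p m s : ℕ) (hp : p.Prime) (hG : Nat.card G = p ^ m) (hs : s ≤ m) : Nat.card {H : Subgroup G // H.Normal ∧ Nat.card H = p ^ s} ≡ 1 [MOD p] := by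
  haveI : Fact p.Prime := ⟨hp⟩
  letI act : MulAction G {H : Subgroup G // Nat.card H = p ^ s} :=
    { smul := fun g H => ⟨MulAut.conj g • H.1, (CfsgLib.Solv.card_conj_smul g H.1).trans H.2⟩
      one_smul := fun H => Subtype.ext (by
        show MulAut.conj (1 : G) • H.1 = H.1
        rw [map_one, one_smul])
      mul_smul := fun a b H => Subtype.ext (by
        show MulAut.conj (a * b) • H.1 = MulAut.conj a • (MulAut.conj b • H.1)
        rw [map_mul, mul_smul]) }
  have h1 := CfsgLib.Solv.card_subgroups_modEq_one (G := G) hp (hG ▸ pow_dvd_pow p hs)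
  have h2 := (IsPGroup.of_card hG).card_modEq_card_fixedPoints (α := {H : Subgroup G // Nat.card H = p ^ s})
  refine Nat.ModEq.trans ?_ h1
  refine Nat.ModEq.trans ?_ h2.symm
  refine congrArg (· % p) (Nat.card_congr ?_)
  exact
    { toFun := fun H => ⟨⟨H.1, H.2.2⟩, fun g => Subtype.ext (by
        haveI := H.2.1
        exact Subgroup.Normal.conj_smul_eq_self g H.1)⟩
      invFun := fun H => ⟨H.1.1, CfsgLib.Solv.normal_of_forall_conj_smul_eq fun g =>
        congrArg Subtype.val (H.2 g), H.1.2⟩
      left_inv := fun H => rfl
      right_inv := fun H => rfl }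

end Cfsg.Agent.S3976
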