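-- Statement S3977
import Cfsg.Statements.S3977
import Cfsg.Agent.Solv.UniqueSub

set_option autoImplicit false
open Cfsg
open scoped commutatorElement Pointwise
set_option linter.style.haveILetI false
set_option linter.deprecated false

namespace Cfsg.Agent.S3977

/-- Let `p` be a prime and `G` a group of order `p ^ m` which has exactly one subgroup of order `p ^ s`, where `1 ≤ s < m`, and where `s ≥ 2` if `p = 2`. Then `G` is cyclic. (For `p = 2` and `s = 1` the generalized quaternion groups also occur; that case is the classical criterion for a unique involution.) -/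
theorem result {G : Type*} [Group G] [Finite G] (p m s : ℕ) (hp : p.Prime) (hG : Nat.card G = p ^ m) (hs : 1 ≤ s) (hsm : s < m) (h2 : p ≠ 2 ∨ 2 ≤ s) (huniq : ∀ H K : Subgroup G, Nat.card H = p ^ s → Nat.card K = p ^ s → H = K) : IsCyclic G := by
  haveI : Fact p.Prime := ⟨hp⟩
  have hpg : IsPGroup p G := IsPGroup.of_card hG
  obtain ⟨H, hH⟩ := Sylow.exists_subgroup_card_pow_prime (G := G) p (n := s) (hG ▸ pow_dvd_pow p hsm.le)
  -- every subgroup of order at most p ^ s lies in H
  have hsub : ∀ K : Subgroup G, Nat.card K ≤ p ^ s → K ≤ H := by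
    intro K hK
    obtain ⟨i, hi⟩ := IsPGroup.iff_card.1 (hpg.to_subgroup K)
    rw [hi] at hK
    obtain ⟨L, hL, hKL⟩ := Sylow.exists_subgroup_card_pow_prime_le p (n := i) (m := s) (hG ▸ pow_dvd_pow p hsm.le)
      K hi ((Nat.pow_le_pow_iff_right hp.one_lt).1 hK)
    exact (huniq L H hL hH) ▸ hKL
  have hHc : IsCyclic H := by
    obtain ⟨x, hx⟩ : ∃ x : G, p ^ s < orderOf x := by
      by_contra hc
      simp only [not_exists, not_lt] at hc
      have : H = ⊤ := top_unique fun x _ => hsub (Subgroup.zpowers x) (by rw [Nat.card_zpowers]; exact hc x)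
        (Subgroup.mem_zpowers x)
      rw [this, Subgroup.card_top, hG] at hH
      exact absurd (Nat.pow_right_injective hp.two_le hH) hsm.ne'
    obtain ⟨i, hi⟩ := IsPGroup.iff_orderOf.1 hpg x
    have hsi : s ≤ i := le_of_lt ((Nat.pow_lt_pow_iff_right hp.one_lt).1 (hi ▸ hx))
    have ho : orderOf (x ^ p ^ (i - s)) = p ^ s := by
      rw [orderOf_pow' x (Nat.pow_pos hp.pos).ne', hi, Nat.gcd_eq_right (pow_dvd_pow p (by omega)),
        Nat.pow_div (by omega) hp.pos, show i - (i - s) = s by omega]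
    have e : Subgroup.zpowers (x ^ p ^ (i - s)) = H :=
      huniq _ _ (by rw [Nat.card_zpowers, ho]) hH
    rw [← e]
    infer_instance
  have huniq1 : ∀ x y : G, orderOf x = p → orderOf y = p → y ∈ Subgroup.zpowers x := by
    intro x y hx hy
    have hps : p ≤ p ^ s := Nat.le_self_pow (by omega) p
    have hxH := hsub (Subgroup.zpowers x) (by rw [Nat.card_zpowers, hx]; exact hps) (Subgroup.mem_zpowers x)
    have hyH := hsub (Subgroup.zpowers y) (by rw [Nat.card_zpowers, hy]; exact hps) (Subgroup.mem_zpowers y)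
    have hy0 : (⟨y, hyH⟩ : H) ^ p = 1 := Subtype.ext (by simp [← hy, pow_orderOf_eq_one])
    classical
    haveI := Fintype.ofFinite H
    have hle := IsCyclic.card_pow_eq_one_le (α := H) hp.pos
    have hsub' : ((Finset.range p).image fun i => (⟨x, hxH⟩ : H) ^ i) ⊆ Finset.univ.filter fun a : H => a ^ p = 1 := by
      intro a ha
      obtain ⟨i, -, rfl⟩ := Finset.mem_image.1 ha
      refine Finset.mem_filter.2 ⟨Finset.mem_univ _, Subtype.ext ?_⟩
      simp only [SubmonoidClass.coe_pow, OneMemClass.coe_one]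
      rw [← pow_mul, mul_comm, pow_mul, ← hx, pow_orderOf_eq_one, one_pow]
    have hcard : ((Finset.range p).image fun i => (⟨x, hxH⟩ : H) ^ i).card = p := by
      rw [Finset.card_image_of_injOn, Finset.card_range]
      intro a ha b hb e
      refine pow_injOn_Iio_orderOf (x := x) ?_ ?_ (by simpa using congrArg Subtype.val e)
      · rw [hx]; simpa using ha
      · rw [hx]; simpa using hb
    have heq := Finset.eq_of_subset_of_card_le hsub' (hcard.symm ▸ hle)
    obtain ⟨i, -, hi⟩ := Finset.mem_image.1 (heq.ge (Finset.mem_filter.2 ⟨Finset.mem_univ _, hy0⟩))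
    exact ⟨i, by simpa using congrArg Subtype.val hi⟩
  rcases CfsgLib.Solv.pgroup_unique_sub hpg huniq1 with hc | ⟨hp2, k, ⟨e⟩⟩
  · exact hc
  exfalso
  subst hp2
  have hs2 : 2 ≤ s := h2.resolve_left (fun h => h rfl)
  have h4 : ∀ i, e.symm (QuaternionGroup.xa i) ∈ H := fun i => hsub (Subgroup.zpowers _) (by
    rw [Nat.card_zpowers, MulEquiv.orderOf_eq, QuaternionGroup.orderOf_xa]
    calc (4:ℕ) = 2 ^ 2 := by norm_num
      _ ≤ 2 ^ s := Nat.pow_le_pow_right (by norm_num) hs2) (Subgroup.mem_zpowers _)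
  have hc : (QuaternionGroup.xa 0 : QuaternionGroup (2 ^ (k + 1))) * QuaternionGroup.xa 1 =
      QuaternionGroup.xa 1 * QuaternionGroup.xa 0 := by
    apply e.symm.injective
    rw [map_mul, map_mul]
    exact Subtype.ext_iff.1 ((hHc.isMulCommutative).is_comm.comm ⟨_, h4 0⟩ ⟨_, h4 1⟩)
  simp only [QuaternionGroup.xa_mul_xa, QuaternionGroup.a.injEq] at hc
  have h2z : ((2 : ℕ) : ZMod (2 * 2 ^ (k + 1))) = 0 := by push_cast; linear_combination hc
  rw [ZMod.natCast_eq_zero_iff] at h2z
  have : 4 ≤ 2 * 2 ^ (k + 1) := by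
    have : 2 ≤ 2 ^ (k + 1) := Nat.le_self_pow (Nat.succ_ne_zero k) 2
    omega
  exact absurd (Nat.le_of_dvd (by norm_num) h2z) (by omega)

end Cfsg.Agent.S3977
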