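import Cfsg.Statements.S3978
import Cfsg.Agent.Solv.MultiplierLift

set_option autoImplicit false
open Cfsg

namespace Cfsg.Agent.S3978

/-- A finite group `Q` has trivial Schur multiplier if and only if, for every `n`, every homomorphism from `Q` to the projective general linear group (the quotient of `GL n ℂ` by its centre) lifts to a homomorphism into `GL n ℂ`. -/
theorem result {Q : Type*} [Group Q] [Finite Q] : Cfsg.HasCyclicSchurMultiplier Q 1 ↔ ∀ (n : ℕ) (γ : Q →* (GL (Fin n) ℂ ⧸ Subgroup.center (GL (Fin n) ℂ))), ∃ ρ : Q →* GL (Fin n) ℂ, (QuotientGroup.mk' (Subgroup.center (GL (Fin n) ℂ))).comp ρ = γ := by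
  rw [CfsgLib.Solv.Mult.hasCyclic_one_iff]
  have hid : Cfsg.IsStemExtension (MonoidHom.id Q) :=
    ⟨Function.surjective_id, fun x hx => by rw [show x = 1 from hx]; exact one_mem _,
      fun x hx => by rw [show x = 1 from hx]; exact one_mem _⟩
  constructor
  · intro hM n γ
    haveI : Subsingleton (MonoidHom.id Q).ker := ⟨fun a b => Subtype.ext (a.2.trans b.2.symm)⟩
    haveI : Subsingleton (CfsgLib.Solv.Mult.M Q) := by rw [hM]; infer_instance
    obtain ⟨ρ, hρ⟩ := CfsgLib.Solv.Mult.exists_lift_of_equiv (MonoidHom.id Q) hid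
      ⟨{ toFun := fun _ => 1, invFun := fun _ => 1, left_inv := fun _ => Subsingleton.elim _ _,
         right_inv := fun _ => Subsingleton.elim _ _, map_mul' := fun _ _ => by simp }⟩ n γ
    exact ⟨ρ, hρ⟩
  · intro h
    refine CfsgLib.Solv.Mult.M_eq_bot_of_forall fun Γ _ _ σ hσ => ?_
    obtain ⟨π, hπ⟩ := CfsgLib.Solv.Mult.surjective_of_lifts (MonoidHom.id Q) hid (fun n γ => h n γ) σ hσ
    refine eq_bot_iff.2 fun k hk => ?_
    obtain ⟨x, hx⟩ := hπ ⟨k, hk⟩
    rw [show x = 1 from Subtype.ext x.2, map_one] at hx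
    exact Subgroup.mem_bot.2 (congrArg Subtype.val hx.symm)

end Cfsg.Agent.S3978
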