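import Cfsg.Statements.S3980
import Cfsg.Agent.Solv.MultiplierProduct

set_option autoImplicit false
universe u v w
open Cfsg

namespace Cfsg.Agent.S3980

/-- Let `Q₁` and `Q₂` be finite groups whose commutator quotients have coprime orders, with Schur multipliers `A` and `B`. Then the Schur multiplier of `Q₁ × Q₂` is isomorphic to `A × B`. -/
theorem result {Q₁ : Type u} {Q₂ : Type v} [Group Q₁] [Group Q₂] [Finite Q₁] [Finite Q₂] {A B : Type w} [CommGroup A] [CommGroup B] (hA : Cfsg.HasSchurMultiplier Q₁ A) (hB : Cfsg.HasSchurMultiplier Q₂ B) (hcop : Nat.Coprime (Nat.card (Abelianization Q₁)) (Nat.card (Abelianization Q₂))) : Cfsg.HasSchurMultiplier (Q₁ × Q₂) (A × B) := by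
  haveI := CfsgLib.Solv.Mult.subsingleton_mixed Q₁ Q₂ hcop
  obtain ⟨e⟩ := CfsgLib.Solv.Mult.equiv_M (CfsgLib.Solv.Mult.hasSchurMultiplier_prod Q₁ Q₂ hA hB)
  let T := Multiplicative (CfsgLib.Solv.Mult.Mixed Q₁ Q₂)
  haveI : Subsingleton T := inferInstanceAs (Subsingleton (CfsgLib.Solv.Mult.Mixed Q₁ Q₂))
  let d : A × B ≃* A × B × T :=
    { toFun := fun p => (p.1, p.2, 1)
      invFun := fun p => (p.1, p.2.1)
      left_inv := fun _ => rfl
      right_inv := fun p => Prod.ext rfl (Prod.ext rfl (Subsingleton.elim _ _))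
      map_mul' := fun p q => Prod.ext rfl (Prod.ext rfl (Subsingleton.elim _ _)) }
  exact CfsgLib.Solv.Mult.hasSchurMultiplier_of_equiv (d.trans e)

end Cfsg.Agent.S3980
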