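import Cfsg.Statements.S3981
import Cfsg.Agent.Solv.Basic

set_option autoImplicit false
open Cfsg

namespace Cfsg.Agent.S3981

/-- Let p be an odd prime, Q a p-subgroup of the finite group G and y an involution normalizing Q. Then Q is maximal among the p-subgroups of G normalized by y if and only if the image of y in N_G(Q) ⧸ Q neither inverts nor centralizes any element of order p there; the latter is phrased inside N_G(Q): for every x in N_G(Q) outside Q with x ^ p ∈ Q, neither y x y⁻¹ x nor y x y⁻¹ x⁻¹ lies in Q. -/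
theorem result {G : Type*} [Group G] [Finite G] (p : ℕ) [Fact p.Prime] (hp2 : p ≠ 2) (Q : Subgroup G) (hQ : IsPGroup p ↥Q) (y : G) (hy : orderOf y = 2) (hyQ : y ∈ Subgroup.normalizer (Q : Set G)) : (∀ R : Subgroup G, IsPGroup p ↥R → Q ≤ R → y ∈ Subgroup.normalizer (R : Set G) → R = Q) ↔ ∀ x : G, x ∈ Subgroup.normalizer (Q : Set G) → x ∉ Q → x ^ p ∈ Q → (y * x * y⁻¹ * x ∉ Q ∧ y * x * y⁻¹ * x⁻¹ ∉ Q) := by
  classical
  have hyy : y * y = 1 := by rw [← pow_two, ← hy, pow_orderOf_eq_one]
  have hyi : y⁻¹ = y := inv_eq_of_mul_eq_one_right hyy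
  constructor
  · intro hmax x hxN hxQ hxp
    have hnot : ∀ c : G, (c = x ∨ c = x⁻¹) → y * x * y⁻¹ * c⁻¹ ∈ Q → False := by
      intro c hc hQc
      have hle : Subgroup.zpowers x ≤ Subgroup.normalizer (Q : Set G) := Subgroup.zpowers_le.2 hxN
      let R := Q ⊔ Subgroup.zpowers x
      have hRp : IsPGroup p R := by
        refine IsPGroup.to_sup_of_normal_left' hQ ?_ hle
        rintro ⟨z, i, rfl⟩
        obtain ⟨n, hn⟩ := hQ ⟨x ^ p, hxp⟩
        refine ⟨n + 1, Subtype.ext ?_⟩
        show (x ^ i) ^ p ^ (n + 1) = 1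
        rw [← zpow_natCast, ← zpow_mul, mul_comm, zpow_mul, zpow_natCast, pow_succ', pow_mul,
          show (x ^ p) ^ p ^ n = 1 from congrArg Subtype.val hn, one_zpow]
      have hcR : c ∈ R := by
        rcases hc with rfl | rfl
        · exact Subgroup.mem_sup_right (Subgroup.mem_zpowers _)
        · exact inv_mem (Subgroup.mem_sup_right (Subgroup.mem_zpowers _))
      have hyxR : y * x * y⁻¹ ∈ R := by
        rw [← inv_mul_cancel_right (y * x * y⁻¹) c]
        exact mul_mem (Subgroup.mem_sup_left hQc) hcR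
      have hsub : R ≤ R.comap (MulAut.conj y).toMonoidHom := by
        refine sup_le (fun q hq => Subgroup.mem_sup_left ((Subgroup.mem_normalizer_iff.1 hyQ q).1 hq)) ?_
        rw [Subgroup.zpowers_le]
        exact hyxR
      have hyR : y ∈ Subgroup.normalizer (R : Set G) := by
        refine Subgroup.mem_normalizer_iff.2 fun r => ⟨fun hr => hsub hr, fun hr => ?_⟩
        have h2 : y * (y * r * y⁻¹) * y⁻¹ ∈ R := hsub hr
        rw [hyi, ← mul_assoc y (y * r), ← mul_assoc y y, hyy, one_mul, mul_assoc, hyy, mul_one] at h2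
        exact h2
      have := hmax R hRp le_sup_left hyR
      exact hxQ (this ▸ Subgroup.mem_sup_right (Subgroup.mem_zpowers x))
    refine ⟨fun h => hnot x⁻¹ (Or.inr rfl) (by rwa [inv_inv]), fun h => hnot x (Or.inl rfl) h⟩
  · intro hcrit R hR hQR hyR
    by_contra hne
    let NQ : Subgroup R := Subgroup.normalizer ((Q.subgroupOf R : Subgroup R) : Set R)
    have hnc : NormalizerCondition R := normalizerCondition_of_isNilpotent (h := hR.isNilpotent)
    have hlt : Q.subgroupOf R < NQ := hnc _ (lt_top_iff_ne_top.2 fun h => hne (le_antisymm (Subgroup.subgroupOf_eq_top.1 h) hQR))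
    haveI : ((Q.subgroupOf R).subgroupOf NQ).Normal := Subgroup.normal_in_normalizer
    let V := NQ ⧸ (Q.subgroupOf R).subgroupOf NQ
    haveI : Nontrivial V := by
      rw [← Finite.one_lt_card_iff_nontrivial]
      show 1 < ((Q.subgroupOf R).subgroupOf NQ).index
      refine lt_of_le_of_ne (Nat.one_le_iff_ne_zero.2 Subgroup.index_ne_zero_of_finite) (Ne.symm fun h => ?_)
      exact not_le_of_gt hlt (Subgroup.subgroupOf_eq_top.1 (Subgroup.index_eq_one.1 h))
    have hVp : IsPGroup p V := (hR.to_subgroup NQ).to_quotient _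
    haveI := hVp.center_nontrivial
    obtain ⟨n, hn⟩ := (hVp.to_subgroup (Subgroup.center V)).exists_card_eq
    have hn0 : n ≠ 0 := by
      rintro rfl
      have := Finite.one_lt_card (α := Subgroup.center V)
      rw [hn, pow_zero] at this; omega
    obtain ⟨z, hz⟩ := exists_prime_orderOf_dvd_card' p (hn ▸ dvd_pow_self p hn0)
    have hmapQ : ∀ r : R, r ∈ NQ ↔ (r : G) ∈ Subgroup.normalizer (Q : Set G) := by
      intro r
      simp only [NQ]
      constructor
      · intro h
        refine Subgroup.mem_normalizer_iff.2 fun q => ⟨fun hq => ?_, fun hq => ?_⟩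
        · exact Subgroup.mem_subgroupOf.1 ((Subgroup.mem_normalizer_iff.1 h ⟨q, hQR hq⟩).1 hq)
        · have hqR : q ∈ R := by
            have := mul_mem (mul_mem (inv_mem r.2) (hQR hq)) r.2
            simpa [mul_assoc] using this
          exact Subgroup.mem_subgroupOf.1 ((Subgroup.mem_normalizer_iff.1 h ⟨q, hqR⟩).2 hq)
      · intro h
        exact Subgroup.mem_normalizer_iff.2 fun q => Subgroup.mem_normalizer_iff.1 h (q : G)
    obtain ⟨x₀, hx₀⟩ := QuotientGroup.mk_surjective (z : V)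
    have hxy : ∀ x : NQ, (⟨y * ((x : R) : G) * y⁻¹, (Subgroup.mem_normalizer_iff.1 hyR _).1 (x : R).2⟩ : R) ∈ NQ := by
      intro x
      rw [hmapQ]
      show y * ((x : R) : G) * y⁻¹ ∈ _
      exact mul_mem (mul_mem hyQ ((hmapQ x).1 x.2)) (inv_mem hyQ)
    set x : G := ((x₀ : R) : G) with hxdef
    let x₁ : NQ := ⟨_, hxy x₀⟩
    have hprod : ∀ w : NQ, ((w : R) : G) ∈ Q ↔ (QuotientGroup.mk w : V) = 1 := fun w => by
      rw [QuotientGroup.eq_one_iff, Subgroup.mem_subgroupOf, Subgroup.mem_subgroupOf]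
    have hzc : ∀ v : V, v * (z : V) = z * v := Subgroup.mem_center_iff.1 z.2
    have hz1 : (z : V) ≠ 1 := fun h => (Fact.out : p.Prime).ne_one (by
      rw [← hz, ← Subgroup.orderOf_coe, h, orderOf_one])
    have hxQ : x ∉ Q := fun h => hz1 (hx₀ ▸ (hprod x₀).1 h)
    have hxp : x ^ p ∈ Q := by
      have : (QuotientGroup.mk (x₀ ^ p) : V) = 1 := by
        rw [QuotientGroup.mk_pow, hx₀]
        exact congrArg Subtype.val (orderOf_dvd_iff_pow_eq_one.1 (dvd_of_eq hz))
      simpa using (hprod _).2 this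
    by_cases hw : y * x * y⁻¹ * x ∈ Q
    · exact (hcrit x ((hmapQ x₀).1 (x₀ : NQ).2) hxQ hxp).1 hw
    let w₀ : NQ := x₁ * x₀
    let w₁ : NQ := ⟨_, hxy w₀⟩
    set w : G := y * x * y⁻¹ * x with hwdef
    have hw₁ : y * w * y⁻¹ * w⁻¹ ∈ Q := by
      have e : (QuotientGroup.mk w₁ : V) = QuotientGroup.mk w₀ := by
        have e1 : w₁ = x₀ * x₁ := by
          refine Subtype.ext (Subtype.ext ?_)
          show y * (y * x * y⁻¹ * x) * y⁻¹ = x * (y * x * y⁻¹)
          rw [hyi]
          calc y * (y * x * y * x) * y = (y * y) * x * (y * x * y) := by group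
            _ = _ := by rw [hyy, one_mul]
        rw [e1, show w₀ = x₁ * x₀ from rfl, QuotientGroup.mk_mul, QuotientGroup.mk_mul, hx₀, hzc]
      exact (hprod (w₁ * w₀⁻¹)).2 (by rw [QuotientGroup.mk_mul, QuotientGroup.mk_inv, e, mul_inv_cancel])
    have hwp : w ^ p ∈ Q := by
      have hz1p : (QuotientGroup.mk x₁ : V) ^ p = 1 := by
        rw [← QuotientGroup.mk_pow, ← hprod]
        show ((y * x * y⁻¹) ^ p) ∈ Q
        rw [conj_pow]
        exact (Subgroup.mem_normalizer_iff.1 hyQ _).1 hxp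
      have : (QuotientGroup.mk (w₀ ^ p) : V) = 1 := by
        have hc' : Commute (QuotientGroup.mk x₁ : V) (z : V) := hzc _
        rw [QuotientGroup.mk_pow, show w₀ = x₁ * x₀ from rfl, QuotientGroup.mk_mul, hx₀, hc'.mul_pow, hz1p, one_mul]
        exact congrArg Subtype.val (orderOf_dvd_iff_pow_eq_one.1 (dvd_of_eq hz))
      have h' := (hprod _).2 this
      simp only [SubmonoidClass.coe_pow] at h'
      exact h'
    exact (hcrit w ((hmapQ w₀).1 w₀.2) hw hwp).2 hw₁

end Cfsg.Agent.S3981
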