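import Cfsg.Statements.S3982
import Cfsg.Agent.Solv.Basic

set_option autoImplicit false
open Cfsg
open scoped Pointwise

namespace Cfsg.Agent.S3982

/-- Let p be an odd prime and G a finite group of even order divisible by p in which the centralizer of every non-identity p-element has odd order. If some nontrivial p-subgroup of G has a normalizer of even order, then the normalizer of every Sylow p-subgroup of G has even order. -/
theorem result {G : Type*} [Group G] [Finite G] (p : ℕ) [Fact p.Prime] (hp2 : p ≠ 2) (hpG : p ∣ Nat.card G) (h2G : 2 ∣ Nat.card G) (hC : ∀ g : G, g ≠ 1 → (∃ k : ℕ, orderOf g = p ^ k) → Odd (Nat.card ↥(Subgroup.centralizer ({g} : Set G)))) (Q : Subgroup G) (hQ : IsPGroup p ↥Q) (hQ1 : Q ≠ ⊥) (hev : Even (Nat.card ↥(Subgroup.normalizer (Q : Set G)))) (P : Sylow p G) : Even (Nat.card ↥(Subgroup.normalizer ((P : Subgroup G) : Set G))) := by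
  classical
  have hp : p.Prime := Fact.out
  obtain ⟨y₀, hy₀⟩ := exists_prime_orderOf_dvd_card' 2 (G := Subgroup.normalizer (Q : Set G)) (even_iff_two_dvd.1 hev)
  set y : G := (y₀ : G) with hydef
  have hy : orderOf y = 2 := by rw [hydef, Subgroup.orderOf_coe, hy₀]
  have hyy : y * y = 1 := by rw [← pow_two, ← hy, pow_orderOf_eq_one]
  have hyi : y⁻¹ = y := inv_eq_of_mul_eq_one_right hyy
  haveI := Fintype.ofFinite (Subgroup G)
  let S : Finset (Subgroup G) := Finset.univ.filter fun R =>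
    IsPGroup p R ∧ Q ≤ R ∧ y ∈ Subgroup.normalizer (R : Set G)
  obtain ⟨R, hRmem, hmax⟩ := S.exists_max_image (fun R => Nat.card R)
    ⟨Q, Finset.mem_filter.2 ⟨Finset.mem_univ _, hQ, le_rfl, y₀.2⟩⟩
  obtain ⟨-, hRp, hQR, hyR⟩ := Finset.mem_filter.1 hRmem
  obtain ⟨T, hRT⟩ := hRp.exists_le_sylow
  suffices hTR : (T : Subgroup G) = R by
    obtain ⟨g, hg⟩ := MulAction.exists_smul_eq G T P
    have hmem : g * y * g⁻¹ ∈ Subgroup.normalizer ((P : Subgroup G) : Set G) := by
      refine Sylow.smul_eq_iff_mem_normalizer.1 ?_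
      rw [← hg, mul_smul, mul_smul, inv_smul_smul]
      congr 1
      exact Sylow.smul_eq_iff_mem_normalizer.2 (by have := hyR; rw [← hTR] at this; exact this)
    refine even_iff_two_dvd.2 ?_
    have h2 : orderOf (⟨_, hmem⟩ : Subgroup.normalizer ((P : Subgroup G) : Set G)) = 2 := by
      rw [Subgroup.orderOf_mk, ← hy]
      exact MulEquiv.orderOf_eq (MulAut.conj g) y
    exact h2 ▸ orderOf_dvd_natCard _
  by_contra hne
  have hR1 : R ≠ ⊥ := fun h => hQ1 (le_bot_iff.1 (h ▸ hQR))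
  have hnoC : ∀ r ∈ R, r ≠ 1 → y * r * y⁻¹ ≠ r := by
    intro r hr hr1 h
    obtain ⟨k, hk⟩ := hRp ⟨r, hr⟩
    obtain ⟨j, -, hj⟩ := (Nat.dvd_prime_pow hp).1 (orderOf_dvd_of_pow_eq_one (congrArg Subtype.val hk : r ^ p ^ k = 1))
    have hyC : y ∈ Subgroup.centralizer ({r} : Set G) :=
      Subgroup.mem_centralizer_singleton_iff.2 (mul_inv_eq_iff_eq_mul.1 h)
    have hd : orderOf (⟨y, hyC⟩ : Subgroup.centralizer ({r} : Set G)) = 2 := by rw [Subgroup.orderOf_mk, hy]
    exact Nat.not_even_iff_odd.2 (hC r hr1 ⟨j, hj⟩) (even_iff_two_dvd.2 (hd ▸ orderOf_dvd_natCard _))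
  have hinv : ∀ r ∈ R, y * r * y⁻¹ = r⁻¹ := by
    let φ : R →* R :=
      { toFun := fun r => ⟨y * r * y⁻¹, (Subgroup.mem_normalizer_iff.1 hyR r).1 r.2⟩
        map_one' := Subtype.ext (by simp)
        map_mul' := fun a b => Subtype.ext (by simp [mul_assoc]) }
    have hfix : MonoidHom.FixedPointFree φ := fun r hr => by
      by_contra h1
      exact hnoC r r.2 (fun e => h1 (Subtype.ext e)) (congrArg Subtype.val hr)
    have hinvol : Function.Involutive φ := fun r => Subtype.ext (by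
      show y * (y * r * y⁻¹) * y⁻¹ = r
      rw [hyi, ← mul_assoc y (y * r), ← mul_assoc y y, hyy, one_mul, mul_assoc, hyy, mul_one])
    intro r hr
    exact congrArg Subtype.val (congrFun (hfix.coe_eq_inv_of_involutive hinvol) ⟨r, hr⟩)
  have hnc : NormalizerCondition (T : Subgroup G) := normalizerCondition_of_isNilpotent (h := T.2.isNilpotent)
  obtain ⟨n₀, hn₀, hn₀'⟩ := SetLike.exists_of_lt (hnc _ (lt_top_iff_ne_top.2 fun h => hne (le_antisymm (Subgroup.subgroupOf_eq_top.1 h) hRT) : R.subgroupOf (T : Subgroup G) < ⊤))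
  set n : G := (n₀ : G) with hndef
  have hnR : n ∉ R := fun h => hn₀' (Subgroup.mem_subgroupOf.2 h)
  have hnN : n ∈ Subgroup.normalizer (R : Set G) := by
    refine Subgroup.mem_normalizer_iff.2 fun q => ⟨fun hq => ?_, fun hq => ?_⟩
    · exact Subgroup.mem_subgroupOf.1 ((Subgroup.mem_normalizer_iff.1 hn₀ ⟨q, hRT hq⟩).1 hq)
    · have hqT : q ∈ (T : Subgroup G) := by
        have := mul_mem (mul_mem (inv_mem n₀.2) (hRT hq)) n₀.2
        simpa [hndef, mul_assoc] using this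
      exact Subgroup.mem_subgroupOf.1 ((Subgroup.mem_normalizer_iff.1 hn₀ ⟨q, hqT⟩).2 hq)
  set C := Subgroup.centralizer (R : Set G) with hCdef
  have hRab : R ≤ C := fun r hr => Subgroup.mem_centralizer_iff.2 fun s hs => by
    have h := hinv _ (mul_mem hs hr)
    have h' : y * (s * r) * y⁻¹ = (y * s * y⁻¹) * (y * r * y⁻¹) := by group
    rw [h', hinv s hs, hinv r hr, ← mul_inv_rev, inv_inj] at h
    exact h.symm
  have hrel : y * n * y⁻¹ * n⁻¹ ∈ C := by
    refine Subgroup.mem_centralizer_iff.2 fun r hr => ?_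
    have h1 : n⁻¹ * r * n ∈ R := (Subgroup.mem_normalizer_iff''.1 hnN r).1 hr
    have h2 := hinv _ h1
    have hr' : (y * n * y⁻¹) * (n⁻¹ * r * n) * (y * n * y⁻¹)⁻¹ = r := by
      have : (n⁻¹ * r * n) = y * (n⁻¹ * r * n)⁻¹ * y⁻¹ := by rw [← conj_inv, h2, inv_inv]
      rw [this, show y * n * y⁻¹ * (y * (n⁻¹ * r * n)⁻¹ * y⁻¹) * (y * n * y⁻¹)⁻¹ = y * r⁻¹ * y⁻¹ by group,
        hinv _ (inv_mem hr), inv_inv]
    calc r * (y * n * y⁻¹ * n⁻¹) = ((y * n * y⁻¹) * (n⁻¹ * r * n) * (y * n * y⁻¹)⁻¹) * (y * n * y⁻¹ * n⁻¹) := by rw [hr']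
      _ = _ := by group
  have hCnorm : ∀ g ∈ Subgroup.normalizer (R : Set G), ∀ c ∈ C, g * c * g⁻¹ ∈ C := by
    intro g hg c hc
    refine Subgroup.mem_centralizer_iff.2 fun r hr => ?_
    have h := Subgroup.mem_centralizer_iff.1 hc _ ((Subgroup.mem_normalizer_iff''.1 hg r).1 hr)
    calc r * (g * c * g⁻¹) = g * ((g⁻¹ * r * g) * c) * g⁻¹ := by group
      _ = g * (c * (g⁻¹ * r * g)) * g⁻¹ := by rw [h]
      _ = _ := by group
  have hle : Subgroup.zpowers n ≤ Subgroup.normalizer (C : Set G) := by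
    rw [Subgroup.zpowers_le]
    refine Subgroup.mem_normalizer_iff.2 fun c => ⟨hCnorm n hnN c, fun hc => ?_⟩
    have := hCnorm n⁻¹ (inv_mem hnN) _ hc
    simpa [mul_assoc] using this
  set X := Subgroup.zpowers n ⊔ C with hX
  obtain ⟨r₁, hr₁, hr₁'⟩ := (Subgroup.ne_bot_iff_exists_ne_one.1 hR1 |> fun ⟨r, hr⟩ => ⟨(r : G), r.2, fun e => hr (Subtype.ext e)⟩ : ∃ r, r ∈ R ∧ r ≠ 1)
  have hCodd : Odd (Nat.card C) := by
    obtain ⟨k, hk⟩ := hRp ⟨r₁, hr₁⟩
    obtain ⟨j, -, hj⟩ := (Nat.dvd_prime_pow hp).1 (orderOf_dvd_of_pow_eq_one (congrArg Subtype.val hk : r₁ ^ p ^ k = 1))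
    exact (hC r₁ hr₁' ⟨j, hj⟩).of_dvd_nat (Subgroup.card_dvd_of_le (Subgroup.centralizer_le (Set.singleton_subset_iff.2 hr₁)))
  have hXodd : Odd (Nat.card X) := by
    obtain ⟨k, hk⟩ := T.2 n₀
    have hno : Odd (Nat.card (Subgroup.zpowers n)) := by
      rw [Nat.card_zpowers]
      obtain ⟨j, -, hj⟩ := (Nat.dvd_prime_pow hp).1 (orderOf_dvd_of_pow_eq_one (congrArg Subtype.val hk : n ^ p ^ k = 1))
      rw [hj]; exact (hp.eq_two_or_odd'.resolve_left hp2).pow
    let X' : Subgroup (Subgroup.normalizer (C : Set G)) := (Subgroup.zpowers n).subgroupOf _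
    let C' : Subgroup (Subgroup.normalizer (C : Set G)) := C.subgroupOf _
    haveI : C'.Normal := Subgroup.normal_in_normalizer
    have h := CfsgLib.Solv.card_sup_dvd_mul X' C'
    rw [← Subgroup.subgroupOf_sup hle Subgroup.le_normalizer, CfsgLib.Solv.card_subgroupOf (sup_le hle Subgroup.le_normalizer),
      CfsgLib.Solv.card_subgroupOf hle, CfsgLib.Solv.card_subgroupOf Subgroup.le_normalizer] at h
    exact (hno.mul hCodd).of_dvd_nat h
  have hconjX : ∀ z ∈ X, y * z * y⁻¹ ∈ X := by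
    have : X ≤ X.comap (MulAut.conj y).toMonoidHom := by
      refine sup_le ?_ fun c hc => Subgroup.mem_sup_right (hCnorm y hyR c hc)
      rw [Subgroup.zpowers_le]
      show y * n * y⁻¹ ∈ X
      rw [← inv_mul_cancel_right (y * n * y⁻¹) n]
      exact mul_mem (Subgroup.mem_sup_right hrel) (Subgroup.mem_sup_left (Subgroup.mem_zpowers n))
    exact fun z hz => this hz
  have hinv2 : ∀ g, y * (y * g * y⁻¹) * y⁻¹ = g := fun g => by
    rw [hyi, ← mul_assoc y (y * g), ← mul_assoc y y, hyy, one_mul, mul_assoc, hyy, mul_one]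
  let α : MulAut X :=
    { toFun := fun z => ⟨y * z * y⁻¹, hconjX z z.2⟩
      invFun := fun z => ⟨y * z * y⁻¹, hconjX z z.2⟩
      left_inv := fun z => Subtype.ext (hinv2 z)
      right_inv := fun z => Subtype.ext (hinv2 z)
      map_mul' := fun a b => Subtype.ext (by simp [mul_assoc]) }
  haveI : Fact (Nat.Prime 2) := ⟨Nat.prime_two⟩
  haveI := Fintype.ofFinite (Sylow p X)
  have hα : α * α = 1 := MulEquiv.ext fun z => Subtype.ext (hinv2 z)
  obtain ⟨W, hW⟩ := Equiv.Perm.exists_fixed_point_of_prime (p := 2) (n := 1) (α := Sylow p X) (by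
      rw [← Nat.card_eq_fintype_card]
      obtain ⟨W₀⟩ : Nonempty (Sylow p X) := inferInstance
      exact fun h => Nat.not_even_iff_odd.2 hXodd (even_iff_two_dvd.2 (h.trans (W₀.card_dvd_index.trans (Subgroup.index_dvd_card _)))))
    (σ := MulAction.toPerm α) (by
      refine Equiv.ext fun W => ?_
      show α • α • W = W
      rw [smul_smul, hα, one_smul])
  have hRX : R ≤ X := hRab.trans le_sup_right
  haveI hRn : (R.subgroupOf X).Normal :=
    Subgroup.normal_subgroupOf_of_le_normalizer (sup_le (Subgroup.zpowers_le.2 hnN) (Subgroup.centralizer_le_normalizer _))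
  haveI : (R.comap X.subtype).Normal := hRn
  have hRW : R.subgroupOf X ≤ (W : Subgroup X) :=
    (CfsgLib.Solv.le_pCore (hRp.comap_of_injective X.subtype X.subtype_injective)).trans (CfsgLib.Solv.pCore_le_sylow W)
  set R' := (W : Subgroup X).map X.subtype with hR'
  have hRR' : R ≤ R' := fun r hr => ⟨⟨r, hRX hr⟩, hRW hr, rfl⟩
  have hyR' : y ∈ Subgroup.normalizer (R' : Set G) := by
    have hmem : ∀ z ∈ R', y * z * y⁻¹ ∈ R' := by
      rintro _ ⟨z, hz, rfl⟩
      refine ⟨α z, ?_, rfl⟩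
      have h' : α • W = W := hW
      have : α z ∈ (α • W : Sylow p X).toSubgroup := ⟨z, hz, rfl⟩
      rwa [h'] at this
    refine Subgroup.mem_normalizer_iff.2 fun z => ⟨hmem z, fun hz => ?_⟩
    have := hmem _ hz
    rwa [hinv2] at this
  have hRp' : IsPGroup p R' := W.2.map _
  have hbig : Nat.card R' ≤ Nat.card R := hmax R' (Finset.mem_filter.2 ⟨Finset.mem_univ _, hRp', hQR.trans hRR', hyR'⟩)
  have heq : R = R' := Subgroup.eq_of_le_of_card_ge hRR' hbig
  have hK : IsPGroup p (R ⊔ Subgroup.zpowers n : Subgroup G) :=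
    T.2.to_le (sup_le hRT (Subgroup.zpowers_le.2 n₀.2))
  have hKX : R ⊔ Subgroup.zpowers n ≤ X := sup_le hRX le_sup_left
  obtain ⟨W', hW'⟩ := (hK.comap_of_injective X.subtype X.subtype_injective).exists_le_sylow
  have hcard : Nat.card W' = Nat.card R := by
    rw [heq, hR', Subgroup.card_map_of_injective X.subtype_injective, W.card_eq_multiplicity, W'.card_eq_multiplicity]
  have hle' : R ⊔ Subgroup.zpowers n ≤ (W' : Subgroup X).map X.subtype := fun z hz => ⟨⟨z, hKX hz⟩, hW' hz, rfl⟩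
  have h1 : R ≤ (W' : Subgroup X).map X.subtype := le_sup_left.trans hle'
  have h2 := Subgroup.eq_of_le_of_card_ge h1 (by rw [Subgroup.card_map_of_injective X.subtype_injective, hcard])
  exact hnR (h2 ▸ hle' (Subgroup.mem_sup_right (Subgroup.mem_zpowers n)))

end Cfsg.Agent.S3982
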