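-- Statement S3983
import Cfsg.Statements.S3983
import Cfsg.Agent.Solv.Basic

set_option autoImplicit false
open scoped Pointwise
open Cfsg
open scoped commutatorElement Pointwise
set_option linter.style.haveILetI false
set_option linter.deprecated false

namespace Cfsg.Agent.S3983

/-- Let P be a Sylow p-subgroup of the finite group G that meets each conjugate g P g⁻¹ with g outside N_G(P) trivially, and let U be a subgroup of G of order divisible by p. Then a Sylow p-subgroup Q of U has the same property inside U: Q meets each conjugate u Q u⁻¹ with u ∈ U outside N_U(Q) trivially. -/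
theorem result {G : Type*} [Group G] [Finite G] (p : ℕ) [Fact p.Prime] (P : Sylow p G) (hTI : ∀ g : G, g ∉ Subgroup.normalizer ((P : Subgroup G) : Set G) → (P : Subgroup G) ⊓ (MulAut.conj g • (P : Subgroup G)) = ⊥) (U : Subgroup G) (hU : p ∣ Nat.card ↥U) (Q : Sylow p ↥U) : ∀ u : ↥U, u ∉ Subgroup.normalizer ((Q : Subgroup ↥U) : Set ↥U) → (Q : Subgroup ↥U) ⊓ (MulAut.conj u • (Q : Subgroup ↥U)) = ⊥ := by
    intro u hu
    by_contra hne
    obtain ⟨g, hg⟩ := (Q.isPGroup'.map U.subtype).exists_le_sylow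
    obtain ⟨f, hf⟩ := MulAction.exists_smul_eq G P g
    rw [← hf, Sylow.coe_subgroup_smul] at hg
    obtain ⟨x, hx1, hx⟩ := Subgroup.ne_bot_iff_exists_ne_one.1 hne |> fun ⟨⟨x, hx⟩, hx1⟩ => (⟨x, fun e => hx1 (Subtype.ext e), hx⟩ : ∃ x, x ≠ 1 ∧ x ∈ (Q : Subgroup ↥U) ⊓ (MulAut.conj u • (Q : Subgroup ↥U)))
    have hQin : ∀ y : ↥U, y ∈ (Q : Subgroup ↥U) → f⁻¹ * (y : G) * f ∈ (P : Subgroup G) := fun y hy =>
      CfsgLib.Solv.mem_conj_smul_iff.1 (hg ⟨y, hy, rfl⟩)
    have hN : f⁻¹ * (u : G) * f ∈ Subgroup.normalizer ((P : Subgroup G) : Set G) := by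
      by_contra hN
      have h1 : f⁻¹ * (x : G) * f ∈ (P : Subgroup G) ⊓ (MulAut.conj (f⁻¹ * (u : G) * f) • (P : Subgroup G)) := by
        refine Subgroup.mem_inf.2 ⟨hQin x hx.1, CfsgLib.Solv.mem_conj_smul_iff.2 ?_⟩
        have h2 := hQin _ (CfsgLib.Solv.mem_conj_smul_iff.1 hx.2)
        convert h2 using 1
        simp only [Subgroup.coe_mul, InvMemClass.coe_inv]
        group
      rw [hTI _ hN, Subgroup.mem_bot] at h1
      have h3 : (x : G) = f * (f⁻¹ * (x : G) * f) * f⁻¹ := by group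
      rw [h1] at h3
      exact hx1 (Subtype.ext (by simpa using h3))
    have huN : (u : G) ∈ Subgroup.normalizer ((MulAut.conj f • (P : Subgroup G) : Subgroup G) : Set G) := by
      refine CfsgLib.Solv.mem_normalizer_of_conj_smul_eq ?_
      rw [← mul_smul, ← map_mul, show (u : G) * f = f * (f⁻¹ * u * f) by group, map_mul, mul_smul,
        CfsgLib.Solv.conj_smul_eq_self_of_mem_normalizer hN]
    have heq : (Q : Subgroup ↥U) = (MulAut.conj f • (P : Subgroup G)).subgroupOf U :=
      (Q.is_maximal' ((P.isPGroup'.map (MulAut.conj f).toMonoidHom).comap_of_injective U.subtype Subtype.val_injective) (fun y hy => hg ⟨y, hy, rfl⟩)).symm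
    refine hu (Subgroup.mem_normalizer_iff.2 fun y => ?_)
    show y ∈ (Q : Subgroup ↥U) ↔ u * y * u⁻¹ ∈ (Q : Subgroup ↥U)
    rw [heq]
    exact Subgroup.mem_normalizer_iff.1 huN (y : G)

end Cfsg.Agent.S3983
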