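-- Statement S3984
import Cfsg.Statements.S3984
import Cfsg.Agent.Solv.ThompsonPre

set_option autoImplicit false
open scoped Pointwise
open Cfsg
open scoped commutatorElement Pointwise
set_option linter.style.haveILetI false
set_option linter.deprecated false

namespace Cfsg.Agent.S3984

/-- Let P be a Sylow p-subgroup of the finite group G that meets each conjugate g P g⁻¹ with g outside N_G(P) trivially, and let N be a normal subgroup of G of order prime to p. Then every Sylow p-subgroup Q of G ⧸ N meets each conjugate x Q x⁻¹ with x outside its normalizer trivially. -/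
theorem result {G : Type*} [Group G] [Finite G] (p : ℕ) [Fact p.Prime] (P : Sylow p G) (hTI : ∀ g : G, g ∉ Subgroup.normalizer ((P : Subgroup G) : Set G) → (P : Subgroup G) ⊓ (MulAut.conj g • (P : Subgroup G)) = ⊥) (N : Subgroup G) [N.Normal] (hN : (Nat.card ↥N).Coprime p) (Q : Sylow p (G ⧸ N)) : ∀ x : G ⧸ N, x ∉ Subgroup.normalizer ((Q : Subgroup (G ⧸ N)) : Set (G ⧸ N)) → (Q : Subgroup (G ⧸ N)) ⊓ (MulAut.conj x • (Q : Subgroup (G ⧸ N))) = ⊥ := by
    intro x hx
    obtain ⟨Q0, hQ0⟩ : ∃ Q0 : Sylow p G, Q0.mapSurjective (QuotientGroup.mk'_surjective N) = Q :=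
      Sylow.mapSurjective_surjective _ p Q
    obtain ⟨f, hf⟩ := MulAction.exists_smul_eq G P Q0
    have hTI0 : ∀ g : G, g ∉ Subgroup.normalizer ((Q0 : Subgroup G) : Set G) →
        (Q0 : Subgroup G) ⊓ (MulAut.conj g • (Q0 : Subgroup G)) = ⊥ := by
      intro g hg
      have hg' : f⁻¹ * g * f ∉ Subgroup.normalizer ((P : Subgroup G) : Set G) := fun h => hg (by
        refine CfsgLib.Solv.mem_normalizer_of_conj_smul_eq ?_
        rw [← hf, Sylow.coe_subgroup_smul, ← mul_smul, ← map_mul,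
          show g * f = f * (f⁻¹ * g * f) by group, map_mul, mul_smul,
          CfsgLib.Solv.conj_smul_eq_self_of_mem_normalizer h])
      rw [← hf, Sylow.coe_subgroup_smul, ← mul_smul, ← map_mul,
        show g * f = f * (f⁻¹ * g * f) by group, map_mul, mul_smul, ← Subgroup.smul_inf, hTI _ hg',
        Subgroup.smul_bot]
    have hk : ∀ A : Subgroup G, IsPGroup p A → A ⊓ N = ⊥ := fun A hA =>
      CfsgLib.Solv.sylow_inf_eq_bot_of_not_dvd hA ((Fact.out : p.Prime).coprime_iff_not_dvd.1 hN.symm)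
    obtain ⟨g, rfl⟩ := QuotientGroup.mk'_surjective N x
    rw [eq_bot_iff]
    intro z hz
    subst hQ0
    obtain ⟨⟨a, ha, rfl⟩, hz2⟩ := hz
    replace hz2 : QuotientGroup.mk' N a ∈ MulAut.conj (QuotientGroup.mk' N g) • (Q0 : Subgroup G).map (QuotientGroup.mk' N) := hz2
    rw [CfsgLib.Solv.mem_conj_smul_iff] at hz2
    obtain ⟨b, hb, hbe⟩ := hz2
    have hab : a * (g * b * g⁻¹)⁻¹ ∈ N := by
      rw [← QuotientGroup.eq_one_iff]
      show QuotientGroup.mk' N (a * (g * b * g⁻¹)⁻¹) = 1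
      simp only [map_mul, map_inv]
      rw [hbe]; group
    set R : Sylow p G := g • Q0 with hR
    have hbR : g * b * g⁻¹ ∈ (R : Subgroup G) := by
      rw [hR, Sylow.coe_subgroup_smul]
      exact Subgroup.smul_mem_pointwise_smul b (MulAut.conj g) _ hb
    set H := (R : Subgroup G) ⊔ N with hH
    have haS : a ∈ H := by
      rw [show a = (a * (g * b * g⁻¹)⁻¹) * (g * b * g⁻¹) by group]
      exact mul_mem (Subgroup.mem_sup_right hab) (Subgroup.mem_sup_left hbR)
    have haH : IsPGroup p ((Subgroup.zpowers a).subgroupOf H) :=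
      (Q0.isPGroup'.to_le (Subgroup.zpowers_le.2 ha)).comap_of_injective H.subtype Subtype.val_injective
    obtain ⟨T, hT⟩ := haH.exists_le_sylow
    obtain ⟨h, hh⟩ := MulAction.exists_smul_eq H (R.subtype (le_sup_left : (R : Subgroup G) ≤ H)) T
    obtain ⟨n, hn, r, hr, hnr⟩ := Subgroup.mem_sup_of_normal_left.1 (show (h : G) ∈ N ⊔ (R : Subgroup G) by
      rw [sup_comm]; exact h.2)
    have haR : (n * g)⁻¹ * a * (n * g) ∈ (Q0 : Subgroup G) := by
      have h1 : (⟨a, haS⟩ : H) ∈ (T : Subgroup H) := hT (Subgroup.mem_zpowers a)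
      rw [← hh, Sylow.coe_subgroup_smul, CfsgLib.Solv.mem_conj_smul_iff] at h1
      have h2 : (h : G)⁻¹ * a * h ∈ (R : Subgroup G) := h1
      have h3 : n⁻¹ * a * n ∈ (R : Subgroup G) := by
        rw [show n⁻¹ * a * n = r * ((h : G)⁻¹ * a * h) * r⁻¹ by rw [← hnr]; group]
        exact mul_mem (mul_mem hr h2) (inv_mem hr)
      rw [hR, Sylow.coe_subgroup_smul, CfsgLib.Solv.mem_conj_smul_iff] at h3
      rw [show (n * g)⁻¹ * a * (n * g) = g⁻¹ * (n⁻¹ * a * n) * g by group]
      exact h3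
    have hm : a ∈ (Q0 : Subgroup G) ⊓ (MulAut.conj (n * g) • (Q0 : Subgroup G)) :=
      Subgroup.mem_inf.2 ⟨ha, CfsgLib.Solv.mem_conj_smul_iff.2 haR⟩
    rw [hTI0 _ (fun hN' => hx ?_), Subgroup.mem_bot] at hm
    · rw [hm, map_one]; exact one_mem _
    · rw [Sylow.coe_mapSurjective]
      refine Subgroup.le_normalizer_map (QuotientGroup.mk' N) ⟨n * g, hN', ?_⟩
      rw [map_mul, QuotientGroup.mk'_apply N n, (QuotientGroup.eq_one_iff n).2 hn, one_mul]

end Cfsg.Agent.S3984
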