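import Cfsg.Statements.S3985
import Cfsg.Agent.Solv.Basic

set_option autoImplicit false
open scoped Pointwise
open Cfsg
open scoped Pointwise

namespace Cfsg.Agent.S3985

/-- Let P be a cyclic Sylow p-subgroup of the finite group G. Then P meets each conjugate g P g⁻¹ with g outside N_G(P) trivially if and only if P is weakly self-centralizing: C_G(x) = C_G(P) for every non-identity x ∈ P. -/
theorem result {G : Type*} [Group G] [Finite G] (p : ℕ) [Fact p.Prime] (P : Sylow p G) (hcyc : IsCyclic ↥(P : Subgroup G)) : (∀ g : G, g ∉ Subgroup.normalizer ((P : Subgroup G) : Set G) → (P : Subgroup G) ⊓ (MulAut.conj g • (P : Subgroup G)) = ⊥) ↔ ∀ x : G, x ∈ (P : Subgroup G) → x ≠ 1 → Subgroup.centralizer ({x} : Set G) = Subgroup.centralizer ((P : Subgroup G) : Set G) := by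
  classical
  have hp : p.Prime := Fact.out
  set N := Subgroup.normalizer ((P : Subgroup G) : Set G) with hN
  obtain ⟨a₀, ha₀⟩ := hcyc.exists_generator
  set a : G := (a₀ : G) with hadef
  have haP : ∀ x ∈ (P : Subgroup G), ∃ i : ℤ, a ^ i = x := fun x hx => by
    obtain ⟨i, hi⟩ := ha₀ ⟨x, hx⟩
    exact ⟨i, congrArg Subtype.val hi⟩
  have hcomm : ∀ x ∈ (P : Subgroup G), ∀ y ∈ (P : Subgroup G), x * y = y * x := fun x hx y hy => by
    obtain ⟨i, rfl⟩ := haP x hx
    obtain ⟨j, rfl⟩ := haP y hy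
    exact (Commute.refl a).zpow_zpow i j
  constructor
  · intro hTI x hx hx1
    refine le_antisymm (fun g hg => ?_) (Subgroup.centralizer_le (Set.singleton_subset_iff.2 hx))
    have hgx : g * x * g⁻¹ = x := by rw [Subgroup.mem_centralizer_singleton_iff.1 hg, mul_inv_cancel_right]
    have hgN : g ∈ N := by
      by_contra h
      refine hx1 ((Subgroup.eq_bot_iff_forall _).1 (hTI g h) x ⟨hx, CfsgLib.Solv.mem_conj_smul_iff.2 ?_⟩)
      have : g⁻¹ * x * g = x := by
        conv_lhs => rw [← hgx]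
        group
      rwa [this]
    obtain ⟨k, m, hm, hord⟩ := Nat.exists_eq_pow_mul_and_not_dvd (orderOf_pos g).ne' p hp.ne_one
    have hpPN : ∀ h : G, h ∈ N → h ^ p ^ k = 1 → h ∈ (P : Subgroup G) := by
      intro h hh hpow
      haveI : ((P : Subgroup G).subgroupOf N).Normal := Subgroup.normal_subgroupOf_of_le_normalizer le_rfl
      let PN : Sylow p N := P.subtype Subgroup.le_normalizer
      haveI : (PN : Subgroup N).Normal := by
        rw [Sylow.coe_subtype]; infer_instance
      haveI := Sylow.unique_of_normal PN ‹_›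
      have hz : IsPGroup p (Subgroup.zpowers (⟨h, hh⟩ : N)) := by
        obtain ⟨j, -, hj⟩ := (Nat.dvd_prime_pow hp).1 (orderOf_dvd_of_pow_eq_one (Subtype.ext hpow : (⟨h, hh⟩ : N) ^ p ^ k = 1))
        exact IsPGroup.of_card (n := j) (by rw [Nat.card_zpowers, hj])
      obtain ⟨Q, hQ⟩ := hz.exists_le_sylow
      rw [Subsingleton.elim Q PN] at hQ
      exact hQ (Subgroup.mem_zpowers (⟨h, hh⟩ : N))
    have h1 : g ^ m ∈ Subgroup.centralizer ((P : Subgroup G) : Set G) := by
      have : g ^ m ∈ (P : Subgroup G) := hpPN _ (pow_mem hgN m) (by rw [← pow_mul, mul_comm, ← hord, pow_orderOf_eq_one])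
      exact Subgroup.mem_centralizer_iff.2 fun y hy => hcomm y hy _ this
    have h2 : g ^ p ^ k ∈ Subgroup.centralizer ((P : Subgroup G) : Set G) := by
      set u := g ^ p ^ k with hu
      have hum : u ^ m = 1 := by rw [hu, ← pow_mul, ← hord, pow_orderOf_eq_one]
      have hua : u * a * u⁻¹ ∈ (P : Subgroup G) := (Subgroup.mem_normalizer_iff.1 (pow_mem hgN _) a).1 a₀.2
      obtain ⟨s, hs⟩ := haP _ hua
      have hpow : ∀ j : ℕ, u ^ j * a * (u ^ j)⁻¹ = a ^ (s ^ j) := by
        intro j
        induction j with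
        | zero => simp
        | succ j ih =>
          calc u ^ (j + 1) * a * (u ^ (j + 1))⁻¹ = u * (u ^ j * a * (u ^ j)⁻¹) * u⁻¹ := by rw [pow_succ']; group
            _ = a ^ (s ^ (j + 1)) := by rw [ih, ← conj_zpow, ← hs, ← zpow_mul, pow_succ']
      obtain ⟨i, hi⟩ := haP x hx
      have hux : u * x * u⁻¹ = x := by
        have : u ∈ Subgroup.centralizer ({x} : Set G) := pow_mem hg _
        rw [Subgroup.mem_centralizer_singleton_iff.1 this, mul_inv_cancel_right]
      have hord2 : ∃ n, orderOf a = p ^ n := by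
        obtain ⟨n, hn⟩ := P.2 a₀
        obtain ⟨n', -, hn'⟩ := (Nat.dvd_prime_pow hp).1 (orderOf_dvd_of_pow_eq_one (congrArg Subtype.val hn : a ^ p ^ n = 1))
        exact ⟨n', hn'⟩
      obtain ⟨n, hn⟩ := hord2
      have hps : (p : ℤ) ∣ s - 1 := by
        by_contra hnd
        apply hx1
        have hco : IsCoprime (s - 1) ((p : ℤ) ^ n) := ((Nat.prime_iff_prime_int.1 hp).coprime_iff_not_dvd.2 hnd).symm.pow_right
        have h0 : ((p : ℤ) ^ n) ∣ i * (s - 1) := by
          have e : a ^ (i * (s - 1)) = 1 := by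
            rw [mul_sub, mul_one, zpow_sub, mul_comm i s, zpow_mul, hs, conj_zpow, hi, hux, mul_inv_cancel]
          have := orderOf_dvd_iff_zpow_eq_one.2 e
          rw [hn] at this
          exact_mod_cast this
        obtain ⟨c, hc⟩ := hco.symm.dvd_of_dvd_mul_right h0
        rw [← hi, hc, zpow_mul, ← Nat.cast_pow, zpow_natCast, ← hn, pow_orderOf_eq_one, one_zpow]
      have h3 : a ^ (s ^ (p ^ n)) = a := by
        have hd : ((p : ℤ) ^ (n + 1)) ∣ s ^ (p ^ n) - 1 ^ (p ^ n) := dvd_sub_pow_of_dvd_sub hps n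
        rw [one_pow] at hd
        obtain ⟨c, hc⟩ := (pow_dvd_pow (p : ℤ) (Nat.le_succ n)).trans hd
        rw [show s ^ (p ^ n) = 1 + (p : ℤ) ^ n * c by linarith, zpow_add, zpow_one, zpow_mul, ← Nat.cast_pow,
          zpow_natCast, ← hn, pow_orderOf_eq_one, one_zpow, mul_one]
      have h4 : Commute (u ^ p ^ n) a := by
        have := hpow (p ^ n)
        rw [h3] at this
        exact mul_inv_eq_iff_eq_mul.1 this
      have hcop : Nat.Coprime (p ^ n) (orderOf u) :=
        Nat.Coprime.pow_left n ((Nat.Prime.coprime_iff_not_dvd hp).2 fun h => hm (h.trans (orderOf_dvd_of_pow_eq_one hum)))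
      obtain ⟨l, hl⟩ := exists_pow_eq_self_of_coprime hcop
      have h5 : Commute u a := by
        have := h4.pow_left l
        rwa [hl] at this
      exact Subgroup.mem_centralizer_iff.2 fun y hy => by
        obtain ⟨j, rfl⟩ := haP y hy
        exact (h5.zpow_right j).eq.symm
    have hco : Nat.Coprime (p ^ k) m := Nat.Coprime.pow_left k ((Nat.Prime.coprime_iff_not_dvd hp).2 hm)
    have hab : ((p ^ k : ℕ) : ℤ) * Nat.gcdA (p ^ k) m + (m : ℤ) * Nat.gcdB (p ^ k) m = 1 := by
      rw [← Nat.gcd_eq_gcd_ab, hco.gcd_eq_one]; rfl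
    rw [← zpow_one g, ← hab, zpow_add, zpow_mul, zpow_mul, zpow_natCast, zpow_natCast]
    exact mul_mem (zpow_mem h2 _) (zpow_mem h1 _)
  · intro h g hg
    rw [Subgroup.eq_bot_iff_forall]
    rintro x ⟨hx, hx'⟩
    by_contra hx1
    replace hx' := CfsgLib.Solv.mem_conj_smul_iff.1 hx'
    apply hg
    have hC := h x hx hx1
    have hC' := h _ hx' (fun e => hx1 (by rw [show x = g * (g⁻¹ * x * g) * g⁻¹ by group, e]; group))
    have hstab : ∀ y : G, y ∈ (P : Subgroup G) → g * y * g⁻¹ ∈ Subgroup.centralizer ((P : Subgroup G) : Set G) := by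
      intro y hy
      rw [← hC, Subgroup.mem_centralizer_singleton_iff]
      have := hcomm y hy _ hx'
      calc g * y * g⁻¹ * x = g * (y * (g⁻¹ * x * g)) * g⁻¹ := by group
        _ = g * ((g⁻¹ * x * g) * y) * g⁻¹ := by rw [this]
        _ = _ := by group
    refine Subgroup.mem_normalizer_iff.2 ?_
    have hmapP : (P : Subgroup G).map (MulAut.conj g).toMonoidHom ≤ (P : Subgroup G) := by
      have hsup : IsPGroup p ((P : Subgroup G) ⊔ (P : Subgroup G).map (MulAut.conj g).toMonoidHom : Subgroup G) := by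
        refine IsPGroup.to_sup_of_normal_left' P.2 (P.2.map _) ?_
        rintro _ ⟨y, hy, rfl⟩
        exact Subgroup.centralizer_le_normalizer _ (hstab y hy)
      exact le_sup_right.trans (P.3 hsup le_sup_left).le
    have heq := Subgroup.eq_of_le_of_card_ge hmapP (Subgroup.card_map_of_injective (MulAut.conj g).injective).ge
    intro y
    constructor
    · intro hy; exact hmapP ⟨y, hy, rfl⟩
    · intro hy
      rw [← heq] at hy
      obtain ⟨z, hz, e⟩ := hy
      exact (MulAut.conj g).injective e ▸ hz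

end Cfsg.Agent.S3985
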