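-- Statement S3987
import Cfsg.Statements.S3987
import Cfsg.Agent.Solv.SylowFactor

set_option autoImplicit false
open Cfsg
open scoped commutatorElement Pointwise
set_option linter.style.haveILetI false
set_option linter.deprecated false

namespace Cfsg.Agent.S3987

/-- Let p be a prime and G a finite group. Then some Sylow p-subgroup of G is a direct factor of G (normal with a normal complement) if and only if for every element x of p-power order and every element y whose order is a power of a prime other than p, the conjugacy class of x y has as many elements as the product of the sizes of the classes of x and of y. -/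
theorem result {G : Type*} [Group G] [Finite G] (p : ℕ) [Fact p.Prime] : (∃ (P : Sylow p G) (K : Subgroup G), (P : Subgroup G).Normal ∧ K.Normal ∧ (P : Subgroup G) ⊓ K = ⊥ ∧ (P : Subgroup G) ⊔ K = ⊤) ↔ ∀ x y : G, (∃ a : ℕ, orderOf x = p ^ a) → (∃ q b : ℕ, q.Prime ∧ q ≠ p ∧ orderOf y = q ^ b) → (Subgroup.centralizer ({x * y} : Set G)).index = (Subgroup.centralizer ({x} : Set G)).index * (Subgroup.centralizer ({y} : Set G)).index := by
    have hinf : ∀ x y : G, Subgroup.centralizer ({x} : Set G) ⊓ Subgroup.centralizer {y} ≤
        Subgroup.centralizer ({x * y} : Set G) := by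
      intro x y c hc
      rw [Subgroup.mem_inf, Subgroup.mem_centralizer_singleton_iff, Subgroup.mem_centralizer_singleton_iff] at hc
      exact Subgroup.mem_centralizer_singleton_iff.2 ((show Commute c x from hc.1).mul_right hc.2).eq
    constructor
    · rintro ⟨P, K, hP, hK, hd, hs⟩ x y hx hy
      obtain ⟨h1, h2⟩ := CfsgLib.Solv.mem_of_sylow_factor hP hK hd hs
      have hcomm : ∀ a ∈ (P : Subgroup G), ∀ b ∈ K, Commute a b := fun a ha b hb =>
        Subgroup.commute_of_normal_of_disjoint _ _ hP hK (disjoint_iff.2 hd) a b ha hb
      have hxy := hcomm x (h1 x hx) y (h2 y hy)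
      have hcop : (orderOf x).Coprime (orderOf y) := by
        obtain ⟨a, ha⟩ := hx
        obtain ⟨q, b, hq, hqp, hb⟩ := hy
        rw [ha, hb]
        exact Nat.Coprime.pow _ _ ((Nat.coprime_primes Fact.out hq).2 (Ne.symm hqp))
      have hpow : ∀ u v : G, Commute u v → (orderOf u).Coprime (orderOf v) →
          u ∈ Subgroup.zpowers (u * v) := by
        intro u v huv hc
        obtain ⟨m, hm1, hm0⟩ := Nat.chineseRemainder hc 1 0
        refine Subgroup.mem_zpowers_iff.2 ⟨m, ?_⟩
        rw [zpow_natCast, huv.mul_pow, pow_eq_pow_iff_modEq.2 hm1, pow_one]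
        rw [pow_eq_pow_iff_modEq.2 hm0, pow_zero, mul_one]
      have heq : Subgroup.centralizer ({x * y} : Set G) =
          Subgroup.centralizer ({x} : Set G) ⊓ Subgroup.centralizer {y} := by
        refine le_antisymm (fun c hc => ?_) (hinf x y)
        rw [Subgroup.mem_centralizer_singleton_iff] at hc
        obtain ⟨i, hi⟩ := Subgroup.mem_zpowers_iff.1 (hpow x y hxy hcop)
        obtain ⟨j, hj⟩ := Subgroup.mem_zpowers_iff.1 (hpow y x hxy.symm hcop.symm)
        rw [← hxy.eq] at hj
        have hx' : Commute c x := hi ▸ (show Commute c (x * y) from hc).zpow_right i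
        have hy' : Commute c y := hj ▸ (show Commute c (x * y) from hc).zpow_right j
        exact ⟨Subgroup.mem_centralizer_singleton_iff.2 hx'.eq, Subgroup.mem_centralizer_singleton_iff.2 hy'.eq⟩
      have hKx : K ≤ Subgroup.centralizer ({x} : Set G) := fun b hb =>
        Subgroup.mem_centralizer_singleton_iff.2 (hcomm x (h1 x hx) b hb).symm.eq
      have hPy : (P : Subgroup G) ≤ Subgroup.centralizer ({y} : Set G) := fun a ha =>
        Subgroup.mem_centralizer_singleton_iff.2 (hcomm a ha y (h2 y hy)).eq
      have hcopi : (Subgroup.centralizer ({x} : Set G)).index.Coprime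
          (Subgroup.centralizer ({y} : Set G)).index := by
        have hc : Subgroup.IsComplement' (P : Subgroup G) K := by
          haveI := hP
          exact Subgroup.isComplement'_of_disjoint_and_mul_eq_univ (disjoint_iff.2 hd) (by
            rw [← Subgroup.normal_mul, hs, Subgroup.coe_top])
        refine (P.card_coprime_index.coprime_dvd_left ?_).coprime_dvd_right ?_
        · exact (Subgroup.index_dvd_of_le hKx).trans hc.index_eq_card.dvd
        · exact Subgroup.index_dvd_of_le hPy
      rw [heq]
      refine le_antisymm Subgroup.index_inf_le (Nat.le_of_dvd (Nat.pos_of_ne_zero Subgroup.index_ne_zero_of_finite) ?_)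
      exact hcopi.mul_dvd_of_dvd_of_dvd (Subgroup.index_dvd_of_le inf_le_left) (Subgroup.index_dvd_of_le inf_le_right)
    · intro h
      refine CfsgLib.Solv.sylow_factor_of_commute fun x y hx hy => ?_
      have heq : Subgroup.centralizer ({x} : Set G) ⊓ Subgroup.centralizer {y} =
          Subgroup.centralizer ({x * y} : Set G) := by
        refine Subgroup.eq_of_le_of_card_ge (hinf x y) ?_
        have h1 : (Subgroup.centralizer ({x} : Set G) ⊓ Subgroup.centralizer {y}).index ≤
            (Subgroup.centralizer ({x * y} : Set G)).index := (h x y hx hy) ▸ Subgroup.index_inf_le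
        by_contra hlt
        push Not at hlt
        have e1 := (Subgroup.centralizer ({x} : Set G) ⊓ Subgroup.centralizer {y}).card_mul_index
        have e2 := (Subgroup.centralizer ({x * y} : Set G)).card_mul_index
        have := Nat.mul_lt_mul_of_lt_of_le hlt h1 (Nat.pos_of_ne_zero Subgroup.index_ne_zero_of_finite)
        omega
      have hm : x * y ∈ Subgroup.centralizer ({x} : Set G) ⊓ Subgroup.centralizer {y} :=
        heq ▸ Subgroup.mem_centralizer_singleton_iff.2 rfl
      have := Subgroup.mem_centralizer_singleton_iff.1 hm.1
      rw [mul_assoc] at this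
      exact (mul_left_cancel this).symm

end Cfsg.Agent.S3987
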