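import Cfsg.Statements.S3992
import Cfsg.Agent.OddLocal.CNSolvable
import Cfsg.Agent.Perm.AutComplement
import Cfsg.Agent.Solv.MinimalNormal
import Cfsg.Agent.Solv.Hall
import Mathlib

set_option autoImplicit false
open Cfsg

namespace Cfsg.Agent.S3992

universe u

variable {G : Type u} [Group G] [Finite G]

open CfsgLib.Solv

theorem not_mixed (hpp : ∀ g : G, g ≠ 1 → IsPrimePow (orderOf g)) {a b : G} {r s : ℕ} (hr : r.Prime)
    (hs : s.Prime) (hrs : r ≠ s) (ha : orderOf a = r) (hb : orderOf b = s) : ¬ Commute a b := by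
  intro hc
  have ho := hc.orderOf_mul_eq_mul_orderOf_of_coprime (by rw [ha, hb]; exact (Nat.coprime_primes hr hs).2 hrs)
  rw [ha, hb] at ho
  have hne : a * b ≠ 1 := fun e => by
    rw [e, orderOf_one] at ho
    exact hr.ne_one (Nat.eq_one_of_mul_eq_one_right ho.symm)
  obtain ⟨t, k, ht, -, he⟩ := (isPrimePow_nat_iff _).1 (hpp _ hne)
  rw [ho] at he
  exact hrs (((Nat.prime_dvd_prime_iff_eq hr ht).1 (hr.dvd_of_dvd_pow (he ▸ dvd_mul_right r s))).trans
    ((Nat.prime_dvd_prime_iff_eq hs ht).1 (hs.dvd_of_dvd_pow (he ▸ dvd_mul_left s r))).symm)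

theorem exists_prime_pow_mem {H : Subgroup G} {x : G} (hx : x ∈ H) (hx1 : x ≠ 1) :
    ∃ r, r.Prime ∧ r ∣ orderOf x ∧ orderOf (x ^ (orderOf x / r)) = r := by
  obtain ⟨r, hr, hrd⟩ := Nat.exists_prime_and_dvd (mt orderOf_eq_one_iff.1 hx1)
  exact ⟨r, hr, hrd, orderOf_pow_orderOf_div (orderOf_pos x).ne' hrd⟩

/-- a `q`-subgroup without mixed orders is fixed point free on a `p`-group -/
theorem fpf_of_pp (hpp : ∀ g : G, g ≠ 1 → IsPrimePow (orderOf g)) {p : ℕ} [hp : Fact p.Prime]
    {N E : Subgroup G} (hN : IsPGroup p N) (hE : (Nat.card E).Coprime p) :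
    ∀ e ∈ E, e ≠ 1 → N ⊓ Subgroup.centralizer {e} = ⊥ := by
  intro e he he1
  rw [eq_bot_iff]
  rintro n ⟨hn, hc⟩
  rw [Subgroup.mem_bot]
  by_contra hn1
  obtain ⟨r, hr, hrd, hro⟩ := exists_prime_pow_mem he he1
  obtain ⟨s, hs, hsd, hso⟩ := exists_prime_pow_mem hn hn1
  obtain ⟨k, hk⟩ := IsPGroup.iff_orderOf.1 hN ⟨n, hn⟩
  rw [Subgroup.orderOf_mk] at hk
  have hsp : s = p := (Nat.prime_dvd_prime_iff_eq hs hp.out).1 (hs.dvd_of_dvd_pow (hk ▸ hsd))
  refine not_mixed hpp hr hs ?_ hro hso ?_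
  · rintro rfl
    subst hsp
    exact hp.out.not_dvd_one ((hE.gcd_eq_one ▸ Nat.dvd_gcd (hrd.trans (Subgroup.orderOf_dvd_natCard _ he)) dvd_rfl))
  · exact ((show Commute n e from Subgroup.mem_centralizer_singleton_iff.1 hc).symm.pow_pow _ _)

theorem isSolvable_normalizer_of_fpf (hpp : ∀ g : G, g ≠ 1 → IsPrimePow (orderOf g)) {p q : ℕ} [hp : Fact p.Prime]
    [hq : Fact q.Prime] (hpq : q ≠ p) {N Q : Subgroup G} [N.Normal] (hN : IsPGroup p N) (hNc : IsMulCommutative N)
    (hN1 : N ≠ ⊥) (hQ : IsPGroup q Q) (hQ1 : Q ≠ ⊥) : Group.IsSolvable (Subgroup.normalizer (Q : Set G)) := by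
  haveI := hNc
  have hcop : (Nat.card Q).Coprime p := by
    obtain ⟨k, hk⟩ := IsPGroup.iff_card.1 hQ
    rw [hk]; exact ((Nat.coprime_primes hq.out hp.out).2 hpq).pow_left k
  have hnor : Q ≤ Subgroup.normalizer (N : Set G) := by rw [Subgroup.normalizer_eq_top]; exact le_top
  have hstr := pgroup_unique_sub hQ (CfsgLib.OddLocal.CN.unique_in_pgroup hN1 hnor (fpf_of_pp hpp hN hcop) le_rfl hQ)
  haveI hAut : Group.IsSolvable (MulAut Q) := by
    rcases hstr with hc | ⟨-, n, ⟨e⟩⟩
    · haveI := hc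
      exact Group.isSolvable_of_isSolvable_injective
        (f := (IsCyclic.mulAutMulEquiv Q).toMonoidHom) (MulEquiv.injective _)
    · haveI := CfsgLib.Perm.Fpf.isSolvable_aut_quaternion n
      exact Group.isSolvable_of_isSolvable_injective (f := (MulAut.congr e).toMonoidHom) (MulEquiv.injective _)
  let φ := Q.normalizerMonoidHom
  haveI hker : Group.IsSolvable φ.ker := by
    have hkp : IsPGroup q φ.ker := by
      refine CfsgLib.Perm.Fpf.isPGroup_of_prime_trivial fun y d hd hdq hy => ?_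
      haveI : Nontrivial Q := (Subgroup.nontrivial_iff_ne_bot Q).2 hQ1
      obtain ⟨k, hk0, hk⟩ := hQ.nontrivial_iff_card.1 inferInstance
      obtain ⟨u, hu⟩ := exists_prime_orderOf_dvd_card' (G := Q) q (hk ▸ dvd_pow_self q hk0.ne')
      rw [← Subgroup.orderOf_coe] at hu
      rw [← Subgroup.orderOf_coe, ← Subgroup.orderOf_coe] at hy
      refine not_mixed hpp hd hq.out hdq hy hu ?_
      have h1 : ((y : Subgroup.normalizer (Q : Set G)) : G) ∈ Subgroup.centralizer (Q : Set G) := by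
        exact ((SetLike.ext_iff.1 (Subgroup.normalizerMonoidHom_ker (H := Q)) y.1).1 y.2 :)
      exact (Subgroup.mem_centralizer_iff.1 h1 u u.2).symm
    haveI := hkp.isNilpotent
    infer_instance
  exact Group.isSolvable_of_ker_le_range φ.ker.subtype φ (by rw [Subgroup.range_subtype])

theorem two_primes (hpp : ∀ g : G, g ≠ 1 → IsPrimePow (orderOf g)) (H : Subgroup G) [hH : Group.IsSolvable H] :
    (Nat.card H).primeFactors.card ≤ 2 := by
  by_contra hc
  have hne : Nontrivial H := Finite.one_lt_card_iff_nontrivial.1 (by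
    by_contra h1
    rw [show Nat.card H = 1 by have := Nat.card_pos (α := H); omega] at hc
    simp at hc)
  obtain ⟨N, p, hp, hNm, hNc, -, hNp⟩ := exists_minimal_normal_pGroup (G := H)
  haveI := Fact.mk hp
  haveI := hNm.1
  haveI := hNc
  set π : Set ℕ := {r | r ≠ p} with hπ
  obtain ⟨E, hE, hEi⟩ := exists_hall (PiSolvable.of_isSolvable (π := π) (G := H))
  have hppH : ∀ g : H, g ≠ 1 → IsPrimePow (orderOf g) := fun g hg => by
    rw [← Subgroup.orderOf_coe]; exact hpp _ fun e => hg (Subtype.ext e)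
  have hcop : (Nat.card E).Coprime p :=
    Nat.Coprime.symm (hp.coprime_iff_not_dvd.2 fun hd => hE p hp hd rfl)
  have hfpf := fpf_of_pp hppH hNp hcop
  have hnor : E ≤ Subgroup.normalizer (N : Set H) := by rw [Subgroup.normalizer_eq_top]; exact le_top
  have hdvd : ∀ r, r.Prime → r ≠ p → r ∣ Nat.card H → r ∣ Nat.card E := fun r hr hrp hd => by
    rw [← E.card_mul_index] at hd
    exact ((Nat.Prime.dvd_mul hr).1 hd).resolve_right fun h => hEi r hr h hrp
  -- two further primes
  obtain ⟨q, r, hq, hr, hqr, hqd, hrd⟩ : ∃ q r, q.Prime ∧ r.Prime ∧ q ≠ r ∧ q ∣ Nat.card E ∧ r ∣ Nat.card E := by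
    have h2 : 1 < ((Nat.card H).primeFactors.erase p).card := by
      have := Finset.pred_card_le_card_erase (a := p) (s := (Nat.card H).primeFactors)
      omega
    obtain ⟨q, hq, r, hr, hqr⟩ := Finset.one_lt_card.1 h2
    simp only [Finset.mem_erase, Nat.mem_primeFactors] at hq hr
    exact ⟨q, r, hq.2.1, hr.2.1, hqr, hdvd q hq.2.1 hq.1 hq.2.2.1, hdvd r hr.2.1 hr.1 hr.2.2.1⟩
  haveI : Nontrivial E := Finite.one_lt_card_iff_nontrivial.1 (lt_of_lt_of_le hq.one_lt (Nat.le_of_dvd Nat.card_pos hqd))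
  obtain ⟨M, s, hs, hMm, hMc, -, hMp⟩ := exists_minimal_normal_pGroup (G := E)
  haveI := Fact.mk hs
  haveI : Nontrivial M := (Subgroup.nontrivial_iff_ne_bot M).2 hMm.2.1
  obtain ⟨k, hk0, hk⟩ := hMp.nontrivial_iff_card.1 inferInstance
  obtain ⟨u, hu⟩ := exists_prime_orderOf_dvd_card' (G := M) s (hk ▸ dvd_pow_self s hk0.ne')
  obtain ⟨t, ht, hts, htd⟩ : ∃ t, t.Prime ∧ t ≠ s ∧ t ∣ Nat.card E := by
    by_cases hqs : q = s
    · exact ⟨r, hr, fun e => hqr (hqs.trans e.symm), hrd⟩
    · exact ⟨q, hq, hqs, hqd⟩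
  haveI := Fact.mk ht
  obtain ⟨x, hx⟩ := exists_prime_orderOf_dvd_card' (G := E) t htd
  rw [← Subgroup.orderOf_coe] at hx
  rw [← Subgroup.orderOf_coe, ← Subgroup.orderOf_coe] at hu
  set MH := M.map E.subtype with hMH
  have hn : (x : H) * ((u : E) : H) * (x : H)⁻¹ ∈ Subgroup.zpowers ((u : E) : H) := by
    have hmem : (x : H) * ((u : E) : H) * (x : H)⁻¹ ∈ MH :=
      ⟨x * (u : E) * x⁻¹, hMm.1.conj_mem _ u.2 x, rfl⟩
    have h1 := CfsgLib.OddLocal.CN.unique_in_pgroup hNm.2.1 hnor hfpf (R := MH) (Subgroup.map_subtype_le _) (hMp.map E.subtype)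
      ⟨((u : E) : H), ⟨u, u.2, rfl⟩⟩ ⟨_, hmem⟩ ((Subgroup.orderOf_coe _).symm.trans hu)
      ((Subgroup.orderOf_coe _).symm.trans (by rw [show orderOf ((x : H) * ((u : E) : H) * (x : H)⁻¹) = orderOf ((u : E) : H) from
        MulEquiv.orderOf_eq (MulAut.conj (x : H)) _, hu]))
    obtain ⟨i, hi⟩ := Subgroup.mem_zpowers_iff.1 h1
    exact ⟨i, (Subgroup.coe_zpow _ _ i).symm.trans (congrArg Subtype.val hi)⟩
  exact not_mixed hppH ht hs hts hx hu
    (CfsgLib.OddLocal.CN.prime_commute hNm.2.1 hnor hfpf x.2 (u : E).2 ht hs hx hu hn).1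


/-- Let G be a finite non-solvable group in which every element has prime-power order, and let R be its largest solvable normal subgroup. Then R is a p-group for some prime p; G/R has a non-abelian simple normal subgroup contained in every nontrivial normal subgroup of G/R (its unique minimal normal subgroup); and the order of every solvable subgroup of G has at most two prime divisors. -/
theorem result {G : Type*} [Group G] [Finite G] (hns : ¬ Group.IsSolvable G) (hpp : ∀ g : G, g ≠ 1 → IsPrimePow (orderOf g))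
    (R : Subgroup G) [R.Normal] (hRs : Group.IsSolvable ↥R) (hRmax : ∀ N : Subgroup G, N.Normal → Group.IsSolvable ↥N → N ≤ R) :
    (∃ p : ℕ, p.Prime ∧ IsPGroup p ↥R) ∧
      (∃ M : Subgroup (G ⧸ R), M.Normal ∧ IsSimpleGroup ↥M ∧ ¬ IsMulCommutative ↥M ∧
        ∀ N : Subgroup (G ⧸ R), N.Normal → N ≠ ⊥ → M ≤ N) ∧
      ∀ H : Subgroup G, Group.IsSolvable ↥H → (Nat.card ↥H).primeFactors.card ≤ 2 := by
  haveI := hRs
  have hRG : ¬ Group.IsSolvable (G ⧸ R) := fun h => hns (Group.isSolvable_of_ker_le_range R.subtype (QuotientGroup.mk' R)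
    (by rw [QuotientGroup.ker_mk', Subgroup.range_subtype]))
  refine ⟨?_, ?_, fun H hH => @two_primes G _ _ hpp H hH⟩
  · -- the radical is a p-group
    by_cases hR : R = ⊥
    · refine ⟨2, Nat.prime_two, IsPGroup.of_card (n := 0) ?_⟩
      rw [hR, Subgroup.card_bot, pow_zero]
    obtain ⟨N, hNm, hNR⟩ := CfsgLib.Solv.exists_isMinimalNormal_le R hR
    haveI := hNm.1
    haveI hNs : Group.IsSolvable N := CfsgLib.Solv.isSolvable_of_le hNR
    obtain ⟨p, hp, -, hNp⟩ := CfsgLib.Solv.exists_prime_exponent_of_minimal_solvable hNm hNs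
    haveI := Fact.mk hp
    refine ⟨p, hp, CfsgLib.Perm.Fpf.isPGroup_of_prime_trivial fun y q hq hqp hy => hRG ?_⟩
    haveI := Fact.mk hq
    obtain ⟨Q⟩ : Nonempty (Sylow q R) := inferInstance
    have hQ1 : (Q : Subgroup R).map R.subtype ≠ ⊥ := fun h => by
      rw [Subgroup.map_eq_bot_iff_of_injective _ R.subtype_injective] at h
      exact Q.ne_bot_of_dvd_card (hy ▸ orderOf_dvd_natCard y) h
    haveI := isSolvable_normalizer_of_fpf hpp hqp hNp
      (CfsgLib.Solv.isMulCommutative_of_minimal_solvable hNm hNs) hNm.2.1 (Q.2.map R.subtype) hQ1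
    have hfr := Sylow.normalizer_sup_eq_top Q
    refine Group.isSolvable_of_surjective
      (f := (QuotientGroup.mk' R).comp (Subgroup.normalizer (((Q : Subgroup R).map R.subtype : Subgroup G) : Set G)).subtype) ?_
    intro y
    obtain ⟨g, rfl⟩ := QuotientGroup.mk'_surjective R y
    have hg : g ∈ ((Subgroup.normalizer (((Q : Subgroup R).map R.subtype : Subgroup G) : Set G) ⊔ R : Subgroup G) : Set G) := by
      rw [hfr]; trivial
    rw [Subgroup.mul_normal] at hg
    obtain ⟨m, hm, k, hk, rfl⟩ := hg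
    exact ⟨⟨m, hm⟩, (QuotientGroup.mk_mul_of_mem m hk).symm⟩
  -- the quotient
  haveI : Nontrivial (G ⧸ R) := not_subsingleton_iff_nontrivial.1 fun h => hRG inferInstance
  have hppq : ∀ g : G ⧸ R, g ≠ 1 → IsPrimePow (orderOf g) := by
    intro g hg
    obtain ⟨g, rfl⟩ := QuotientGroup.mk'_surjective R g
    have hd := orderOf_map_dvd (QuotientGroup.mk' R) g
    exact (hpp g fun e => hg (by rw [e, map_one])).dvd hd (mt orderOf_eq_one_iff.1 hg)
  have hsol : ∀ K : Subgroup (G ⧸ R), K.Normal → Group.IsSolvable K → K = ⊥ := by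
    intro K hK hKs
    have h1 : K.comap (QuotientGroup.mk' R) ≤ R := by
      refine hRmax _ (hK.comap _) ?_
      have hle : R ≤ K.comap (QuotientGroup.mk' R) := fun x hx => by
        rw [Subgroup.mem_comap, show QuotientGroup.mk' R x = 1 from (QuotientGroup.eq_one_iff x).2 hx]; exact one_mem K
      haveI := hKs
      refine Group.isSolvable_of_ker_le_range (Subgroup.inclusion hle)
        (((QuotientGroup.mk' R).comp (K.comap (QuotientGroup.mk' R)).subtype).codRestrict K fun x => x.2) ?_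
      intro x hx
      exact ⟨⟨x, (QuotientGroup.eq_one_iff _).1 (congrArg Subtype.val hx)⟩, rfl⟩
    rw [eq_bot_iff]
    intro x hx
    obtain ⟨g, rfl⟩ := QuotientGroup.mk'_surjective R x
    exact Subgroup.mem_bot.2 ((QuotientGroup.eq_one_iff g).2 (h1 hx))
  have hnotcomm : ∀ A B : Subgroup (G ⧸ R), ¬ Group.IsSolvable A → ¬ Group.IsSolvable B →
      (∀ a ∈ A, ∀ b ∈ B, a * b = b * a) → False := by
    intro A B hA hB hc
    have hex : ∀ {C : Subgroup (G ⧸ R)}, ¬ Group.IsSolvable C → ∀ r : ℕ, ∃ c ∈ C, ∃ s, s.Prime ∧ s ≠ r ∧ orderOf c = s := by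
      intro C hC r
      by_contra hcon
      push Not at hcon
      by_cases hr : r.Prime
      · haveI := Fact.mk hr
        exact hC (CfsgLib.Perm.Fpf.isSolvable_of_pGroup (CfsgLib.Perm.Fpf.isPGroup_of_prime_trivial
          fun y d hd hdr hy => hcon (y : G ⧸ R) y.2 d hd hdr (by rw [Subgroup.orderOf_coe, hy])))
      · by_cases h1 : Nat.card C = 1
        · haveI := (Nat.card_eq_one_iff_unique.1 h1).1
          exact hC inferInstance
        obtain ⟨s, hs, hsd⟩ := Nat.exists_prime_and_dvd h1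
        haveI := Fact.mk hs
        obtain ⟨c, hc⟩ := exists_prime_orderOf_dvd_card' (G := C) s hsd
        exact hcon (c : G ⧸ R) c.2 s hs (fun e => hr (e ▸ hs)) (by rw [Subgroup.orderOf_coe, hc])
    obtain ⟨a, ha, r, hr, -, hao⟩ := hex hA 0
    obtain ⟨b, hb, s, hs, hsr, hbo⟩ := hex hB r
    exact not_mixed hppq hr hs (Ne.symm hsr) hao hbo (hc a ha b hb)
  have hcommute : ∀ {X : Type _} [Group X] (A B : Subgroup X), A.Normal → B.Normal → A ⊓ B = ⊥ →
      ∀ a ∈ A, ∀ b ∈ B, a * b = b * a := by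
    intro X _ A B hA hB hd a ha b hb
    exact Subgroup.commute_of_normal_of_disjoint A B hA hB (disjoint_iff.2 hd) a b ha hb
  obtain ⟨M, hM⟩ := CfsgLib.Solv.exists_isMinimalNormal (G := G ⧸ R)
  haveI := hM.1
  have hMns : ¬ Group.IsSolvable M := fun h => hM.2.1 (hsol M hM.1 h)
  haveI : Nontrivial M := (Subgroup.nontrivial_iff_ne_bot M).2 hM.2.1
  refine ⟨M, hM.1, ?_, fun hc => hMns (Group.isSolvable_of_comm fun a b => hc.is_comm.comm a b), fun N hN hN1 => ?_⟩
  · refine { eq_bot_or_eq_top_of_normal := fun K hK => ?_ }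
    by_contra hcon
    push Not at hcon
    obtain ⟨T, hT, hTK⟩ := CfsgLib.Solv.exists_isMinimalNormal_le K hcon.1
    set T' := T.map M.subtype with hT'
    have hTne : T ≠ ⊤ := fun e => hcon.2 (top_le_iff.1 (e ▸ hTK))
    -- `T` is not solvable
    have hTns : ¬ Group.IsSolvable T := by
      intro hTs
      obtain ⟨p, hp, -, hTp⟩ := CfsgLib.Solv.exists_prime_exponent_of_minimal_solvable hT hTs
      haveI := Fact.mk hp
      haveI := hT.1
      haveI := CfsgLib.Solv.pCore_characteristic (p := p) (G := M)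
      have hn := CfsgLib.Solv.normal_map_subtype_of_characteristic (N := M) (Cfsg.pCore p M)
      rcases hM.2.2 _ hn (Subgroup.map_subtype_le _) with h | h
      · rw [Subgroup.map_eq_bot_iff_of_injective _ M.subtype_injective] at h
        exact hT.2.1 (eq_bot_iff.2 (h ▸ CfsgLib.Solv.le_pCore hTp))
      · exact hMns (CfsgLib.Perm.Fpf.isSolvable_of_pGroup (p := p)
          (h ▸ (CfsgLib.Solv.pCore_isPGroup (p := p) (G := M)).map M.subtype))
    -- some conjugate differs
    obtain ⟨g, hg⟩ : ∃ g : G ⧸ R, T'.map (MulAut.conj g).toMonoidHom ≠ T' := by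
      by_contra hall
      push Not at hall
      have hn : T'.Normal := ⟨fun t ht g => by
        have h := Subgroup.mem_map_of_mem (MulAut.conj g).toMonoidHom ht
        rw [hall g] at h; exact h⟩
      rcases hM.2.2 T' hn (Subgroup.map_subtype_le _) with h | h
      · exact hT.2.1 ((Subgroup.map_eq_bot_iff_of_injective _ M.subtype_injective).1 h)
      · refine hTne (Subgroup.map_injective M.subtype_injective ?_)
        rw [← MonoidHom.range_eq_map, Subgroup.range_subtype, ← hT', h]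
    let cg : MulAut M := MulAut.conjNormal g
    set T2 := T.map cg.toMonoidHom with hT2
    have hT2n : T2.Normal := hT.1.map _ cg.surjective
    have hne : T ≠ T2 := by
      intro e
      refine hg ?_
      have hcomp : (MulAut.conj g).toMonoidHom.comp M.subtype = M.subtype.comp cg.toMonoidHom := by
        ext x; rfl
      rw [hT', Subgroup.map_map, hcomp, ← Subgroup.map_map, ← hT2, ← e]
    have hinf : T ⊓ T2 = ⊥ := by
      haveI := hT.1
      haveI := hT2n
      refine (hT.2.2 (T ⊓ T2) inferInstance inf_le_left).resolve_right fun h => hne ?_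
      refine Subgroup.eq_of_le_of_card_ge (inf_eq_left.1 h) ?_
      exact (Nat.card_congr (T.equivMapOfInjective cg.toMonoidHom cg.injective).toEquiv).symm.le
    refine hnotcomm T' (T2.map M.subtype) (fun h => hTns ?_) (fun h => hTns ?_) ?_
    · haveI := h
      exact CfsgLib.Solv.isSolvable_of_mulEquiv (T.equivMapOfInjective _ M.subtype_injective).symm
    · haveI := h
      exact CfsgLib.Solv.isSolvable_of_mulEquiv
        ((T.equivMapOfInjective _ cg.injective).trans (T2.equivMapOfInjective _ M.subtype_injective)).symm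
    · rintro _ ⟨a, ha, rfl⟩ _ ⟨b, hb, rfl⟩
      exact congrArg M.subtype (hcommute T T2 hT.1 hT2n hinf a ha b hb)
  · haveI := hN
    refine (hM.eq_or_inf_eq_bot N).resolve_right fun hd => ?_
    exact hnotcomm M N hMns (fun h => hN1 (hsol N hN h)) (hcommute M N hM.1 hN hd)

end Cfsg.Agent.S3992
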