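-- Statement S3994
import Cfsg.Statements.S3994
import Cfsg.Agent.Solv.FrobeniusCount

set_option autoImplicit false
open Cfsg
open scoped commutatorElement Pointwise
set_option linter.style.haveILetI false
set_option linter.deprecated false

namespace Cfsg.Agent.S3994

/-- Let G be a finite group and n a positive integer. The number of elements of G whose order is divisible by n is either 0 or divisible by the largest divisor of the order of G that is coprime to n. -/
theorem result {G : Type*} [Group G] [Finite G] (n : ℕ) (hn : 0 < n) :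
    Nat.card {g : G // n ∣ orderOf g} = 0 ∨
      (Nat.card G / Nat.gcd (Nat.card G) (n ^ Nat.card G)) ∣ Nat.card {g : G // n ∣ orderOf g} := by
  classical
  cases nonempty_fintype G
  right
  set N := Nat.card G with hN
  set N1 := Nat.gcd N (n ^ N) with hN1
  set N2 := N / N1 with hN2
  have hN0 : 0 < N := Nat.card_pos
  have hN10 : 0 < N1 := Nat.gcd_pos_of_pos_left _ hN0
  have hmul : N1 * N2 = N := Nat.mul_div_cancel' (Nat.gcd_dvd_left _ _)
  have hN20 : N2 ≠ 0 := fun e => by rw [e, mul_zero] at hmul; omega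
  have hnco : n.Coprime N2 := by
    refine Nat.coprime_of_dvd' fun q hq hqn hq2 => ?_
    exfalso
    have h1 : q ^ (N1.factorization q + 1) ∣ N := by
      rw [← hmul, pow_succ]
      exact mul_dvd_mul (Nat.ordProj_dvd N1 q) hq2
    have h2 : N1.factorization q + 1 ≤ N :=
      le_trans (Nat.lt_pow_self hq.one_lt).le (Nat.le_of_dvd hN0 h1)
    have h3 : q ^ (N1.factorization q + 1) ∣ n ^ N :=
      (pow_dvd_pow q h2).trans (pow_dvd_pow_of_dvd hqn N)
    exact absurd ((hq.pow_dvd_iff_le_factorization hN10.ne').1 (Nat.dvd_gcd h1 h3)) (by omega)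
  have hco : N1.Coprime N2 := (hnco.pow_left N).coprime_dvd_left (Nat.gcd_dvd_right _ _)
  rw [CfsgLib.Solv.card_decomp hco (fun g => by rw [hmul, hN]; exact pow_card_eq_one') (fun g => n ∣ orderOf g)
    (fun a => a ^ N1 = 1 ∧ n ∣ orderOf a) (fun b => b ^ N2 = 1) (fun a h => h.1) (fun b h => h) ?_]
  · refine CfsgLib.Solv.dvd_sum_of_conj_invariant _ _ (fun g a => ?_) fun a => ?_
    · refine Nat.card_congr ((MulAut.conj g⁻¹).toEquiv.subtypeEquiv fun b => ?_)
      have h1 : orderOf (g * a * g⁻¹) = orderOf a := (MulEquiv.orderOf_eq (MulAut.conj g) a)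
      simp only [h1, MulEquiv.toEquiv_eq_coe, MulEquiv.coe_toEquiv, ← map_pow, MulEquiv.map_eq_one_iff, conj_pow, mul_inv_eq_one, mul_eq_left]
      refine and_congr_right fun _ => and_congr_right fun _ => ?_
      constructor
      · intro h
        have := congrArg (MulAut.conj g⁻¹) h
        simpa [mul_assoc] using this
      · intro h
        have := congrArg (MulAut.conj g) h
        simpa [mul_assoc] using this
    · by_cases hA : a ^ N1 = 1 ∧ n ∣ orderOf a
      swap
      · haveI : IsEmpty {b : G // (a ^ N1 = 1 ∧ n ∣ orderOf a) ∧ b ^ N2 = 1 ∧ a * b = b * a} :=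
          ⟨fun b => hA b.2.1⟩
        rw [Nat.card_of_isEmpty, mul_zero]; exact dvd_zero _
      have e : Nat.card {b : G // (a ^ N1 = 1 ∧ n ∣ orderOf a) ∧ b ^ N2 = 1 ∧ a * b = b * a} =
          Nat.card {b : Subgroup.centralizer ({a} : Set G) // b ^ N2 = 1} :=
        Nat.card_congr
          { toFun := fun b => ⟨⟨b.1, Subgroup.mem_centralizer_singleton_iff.2 b.2.2.2.symm⟩,
              Subtype.ext (by simpa using b.2.2.1)⟩
            invFun := fun b => ⟨b.1.1, hA, by simpa using congrArg Subtype.val b.2,
              (Subgroup.mem_centralizer_singleton_iff.1 b.1.2).symm⟩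
            left_inv := fun b => rfl
            right_inv := fun b => rfl }
      rw [e]
      refine dvd_trans ?_ (Nat.mul_dvd_mul_left _ (CfsgLib.Solv.frobenius_count N2))
      rw [← Nat.gcd_mul_left]
      refine Nat.dvd_gcd (dvd_mul_left _ _) ?_
      rw [mul_comm, Subgroup.card_mul_index, ← hN]
      exact Dvd.intro_left _ hmul
  · intro a b ha hb hc
    have hoa := orderOf_dvd_of_pow_eq_one ha
    have hob := orderOf_dvd_of_pow_eq_one hb
    rw [Commute.orderOf_mul_eq_mul_orderOf_of_coprime hc ((hco.coprime_dvd_left hoa).coprime_dvd_right hob)]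
    exact ⟨fun h => ⟨⟨ha, (hnco.coprime_dvd_right hob).dvd_of_dvd_mul_right h⟩, hb⟩,
      fun h => dvd_mul_of_dvd_left h.1.2 _⟩

end Cfsg.Agent.S3994
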