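import Cfsg.Statements.S3995
import Cfsg.Agent.Solv.UniqueSub
import Mathlib

set_option autoImplicit false
open Cfsg

namespace Cfsg.Agent.S3995


variable {G : Type*} [Group G] [Finite G]

/-- a bare finite type to carry a transported group -/
def Carrier (m : ℕ) : Type := Fin m

instance (m : ℕ) : Finite (Carrier m) := inferInstanceAs (Finite (Fin m))

noncomputable def cnt (G : Type*) [Group G] (m : ℕ) : ℕ := Nat.card {g : G // orderOf g = m}

theorem totient_dvd_cnt (m : ℕ) : m.totient ∣ cnt G m := by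
  classical
  have : Fintype G := Fintype.ofFinite G
  rw [cnt, Nat.card_eq_fintype_card, Fintype.card_subtype,
    Finset.card_eq_sum_card_image (fun g : G => Subgroup.zpowers g)]
  refine Finset.dvd_sum fun H hH => ?_
  obtain ⟨g, hg, rfl⟩ := Finset.mem_image.1 hH
  rw [Finset.mem_filter] at hg
  refine dvd_of_eq ?_
  have h1 := IsCyclic.card_orderOf_eq_totient (α := Subgroup.zpowers g) (d := m)
    (by rw [Fintype.card_zpowers, hg.2])
  rw [← h1]
  refine Finset.card_bij (fun y _ => (y : G)) (fun y hy => ?_) (fun a _ b _ h => Subtype.ext h)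
    (fun b hb => ?_)
  · rw [Finset.mem_filter] at hy
    simp only [Finset.mem_filter, Finset.mem_univ, true_and]
    have hord : orderOf (y : G) = m := (Subgroup.orderOf_coe y).trans hy.2
    refine ⟨hord, Subgroup.eq_of_le_of_card_ge (Subgroup.zpowers_le.2 y.2) ?_⟩
    rw [Nat.card_zpowers, Nat.card_zpowers, hord, hg.2]
  · simp only [Finset.mem_filter, Finset.mem_univ, true_and] at hb
    refine ⟨⟨b, hb.2 ▸ Subgroup.mem_zpowers b⟩, ?_, rfl⟩
    rw [Finset.mem_filter]
    exact ⟨Finset.mem_univ _, (Subgroup.orderOf_mk _ _).trans hb.1⟩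

theorem two_le_cnt {x : G} (h : 2 < orderOf x) : 2 ≤ cnt G (orderOf x) := by
  have hne : x⁻¹ ≠ x := fun e => by
    have : x ^ 2 = 1 := by
      rw [pow_two]
      nth_rewrite 1 [← e]
      exact inv_mul_cancel x
    have := Nat.le_of_dvd (by norm_num) (orderOf_dvd_of_pow_eq_one this)
    omega
  haveI : Nontrivial {g : G // orderOf g = orderOf x} :=
    ⟨⟨x, rfl⟩, ⟨x⁻¹, orderOf_inv x⟩, fun e => hne (congrArg Subtype.val e).symm⟩
  exact Finite.one_lt_card_iff_nontrivial.2 this

open CfsgLib.Solv in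
theorem modEq_fixed {p : ℕ} [hp : Fact p.Prime] {g : G} (hg : orderOf g = p) (m : ℕ) :
    cnt G m ≡ Nat.card {x : G // orderOf x = m ∧ Commute g x} [MOD p] := by
  letI : MulAction ↥(Subgroup.zpowers g) {x : G // orderOf x = m} :=
    { smul := fun c x => ⟨(c : G) * x * (c : G)⁻¹, by
        have := orderOf_injective (MulAut.conj (c : G)).toMonoidHom (MulAut.conj _).injective (x : G)
        exact this.trans x.2⟩
      one_smul := fun x => Subtype.ext (show ((1 : G) * x * (1 : G)⁻¹) = x by simp)
      mul_smul := fun c d x => Subtype.ext (show ((c : G) * d) * x * ((c : G) * d)⁻¹ =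
        (c : G) * ((d : G) * x * (d : G)⁻¹) * (c : G)⁻¹ by group) }
  have hP : IsPGroup p ↥(Subgroup.zpowers g) := IsPGroup.of_card (n := 1) (by
    rw [Nat.card_zpowers, hg, pow_one])
  have h1 := hP.card_modEq_card_fixedPoints {x : G // orderOf x = m}
  refine h1.trans ?_
  refine Eq.subst (motive := fun t => _ ≡ t [MOD p]) ?_ (Nat.ModEq.refl _)
  refine Nat.card_congr
    { toFun := fun x => ⟨(x : {x : G // orderOf x = m}), (x : {x : G // orderOf x = m}).2, ?_⟩
      invFun := fun x => ⟨⟨x, x.2.1⟩, fun c => ?_⟩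
      left_inv := fun _ => rfl
      right_inv := fun _ => rfl }
  · have h2 := congrArg Subtype.val (x.2 ⟨g, Subgroup.mem_zpowers g⟩)
    exact (mul_inv_eq_iff_eq_mul.1 (h2 : g * (x : G) * g⁻¹ = x))
  · obtain ⟨i, hi⟩ := Subgroup.mem_zpowers_iff.1 c.2
    refine Subtype.ext ?_
    show (c : G) * (x : G) * (c : G)⁻¹ = x
    rw [← hi, ((x.2.2 : Commute g (x : G)).zpow_left i).eq, mul_inv_cancel_right]

theorem cnt_mod_self {p : ℕ} [hp : Fact p.Prime] {g : G} (hg : orderOf g = p) :
    p ∣ cnt G p + 1 := by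
  set C := Subgroup.centralizer ({g} : Set G)
  have hmem : ∀ x, x ∈ C ↔ Commute g x := fun x =>
    ⟨fun h => (Subgroup.mem_centralizer_singleton_iff.1 h).symm,
      fun h => Subgroup.mem_centralizer_singleton_iff.2 h.symm⟩
  letI : MulAction ↥(Subgroup.zpowers g) {x : G // x ^ p = 1 ∧ Commute g x} :=
    { smul := fun c x => ⟨(c : G) * x, by
        obtain ⟨i, hi⟩ := Subgroup.mem_zpowers_iff.1 c.2
        have hc : Commute (c : G) (x : G) := hi ▸ (x.2.2.zpow_left i)
        refine ⟨?_, ?_⟩
        · rw [hc.mul_pow, x.2.1, mul_one, ← hi, ← zpow_natCast, ← zpow_mul, mul_comm, zpow_mul,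
            zpow_natCast, ← hg, pow_orderOf_eq_one, one_zpow]
        · exact (hi ▸ (Commute.refl g).zpow_right i : Commute g (c : G)).mul_right x.2.2⟩
      one_smul := fun x => Subtype.ext (one_mul _)
      mul_smul := fun c d x => Subtype.ext (mul_assoc _ _ _) }
  have hP : IsPGroup p ↥(Subgroup.zpowers g) := IsPGroup.of_card (n := 1) (by
    rw [Nat.card_zpowers, hg, pow_one])
  have h1 := hP.card_modEq_card_fixedPoints {x : G // x ^ p = 1 ∧ Commute g x}
  haveI : IsEmpty (MulAction.fixedPoints ↥(Subgroup.zpowers g) {x : G // x ^ p = 1 ∧ Commute g x}) :=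
    ⟨fun x => by
      have h2 := congrArg Subtype.val (x.2 ⟨g, Subgroup.mem_zpowers g⟩)
      have h3 : g = 1 := mul_eq_right.1
        (h2 : g * ((x : {x : G // x ^ p = 1 ∧ Commute g x}) : G) = _)
      exact hp.out.ne_one (by rw [← hg, h3, orderOf_one])⟩
  rw [Nat.card_of_isEmpty (α := MulAction.fixedPoints ↥(Subgroup.zpowers g) {x : G // x ^ p = 1 ∧ Commute g x})] at h1
  have h4 : Nat.card {x : G // x ^ p = 1 ∧ Commute g x} =
      Nat.card {x : G // orderOf x = p ∧ Commute g x} + 1 := by
    classical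
    rw [← Finite.card_option]
    refine Nat.card_congr
      { toFun := fun x => if h : (x : G) = 1 then none else some ⟨x, orderOf_eq_prime x.2.1 h, x.2.2⟩
        invFun := fun o => o.elim ⟨1, one_pow p, Commute.one_right g⟩
          fun y => ⟨y, orderOf_dvd_iff_pow_eq_one.1 y.2.1.dvd, y.2.2⟩
        left_inv := fun x => ?_
        right_inv := fun o => ?_ }
    · by_cases h : (x : G) = 1
      · simp only [dif_pos h]; exact Subtype.ext h.symm
      · simp only [dif_neg h]; rfl
    · cases o with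
      | none => simp
      | some y =>
        have : (y : G) ≠ 1 := fun e => hp.out.ne_one (by rw [← y.2.1, e, orderOf_one])
        simp [this]
  rw [h4] at h1
  exact Nat.modEq_zero_iff_dvd.1 (((modEq_fixed hg p).add_right 1).trans h1)

theorem mul_le_cnt {p k c : ℕ} (hco : p.Coprime k)
    (hc : ∀ g : G, orderOf g = p → c ≤ Nat.card {x : G // orderOf x = k ∧ Commute g x}) :
    c * cnt G p ≤ cnt G (p * k) := by
  classical
  let f : (Σ g : {g : G // orderOf g = p}, {x : G // orderOf x = k ∧ Commute (g : G) x}) →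
      {y : G // orderOf y = p * k} := fun s => ⟨(s.1 : G) * s.2, by
    rw [(s.2.2.2 : Commute (s.1 : G) (s.2 : G)).orderOf_mul_eq_mul_orderOf_of_coprime
      (by rw [s.1.2, s.2.2.1]; exact hco), s.1.2, s.2.2.1]⟩
  have hf : Function.Injective f := by
    rintro ⟨g, x⟩ ⟨g', x'⟩ h
    have he : (g : G) * x = (g' : G) * x' := congrArg Subtype.val h
    obtain ⟨u, v, huv⟩ : IsCoprime (p : ℤ) (k : ℤ) := Nat.isCoprime_iff_coprime.2 hco
    have key : ∀ (a b : G), orderOf a = p → orderOf b = k → Commute a b → (a * b) ^ (v * k) = a := by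
      intro a b ha hb hab
      have hap : a ^ (p : ℤ) = 1 := by rw [zpow_natCast, ← ha, pow_orderOf_eq_one]
      have hbk : b ^ (k : ℤ) = 1 := by rw [zpow_natCast, ← hb, pow_orderOf_eq_one]
      rw [hab.mul_zpow, mul_comm v, zpow_mul b, hbk, one_zpow, mul_one,
        show (k : ℤ) * v = 1 - p * u by linarith, zpow_sub, zpow_one, zpow_mul, hap, one_zpow,
        inv_one, mul_one]
    have hg : (g : G) = (g' : G) := by
      rw [← key _ _ g.2 x.2.1 x.2.2, ← key _ _ g'.2 x'.2.1 x'.2.2, he]
    obtain rfl : g = g' := Subtype.ext hg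
    obtain rfl : x = x' := Subtype.ext (mul_left_cancel he)
    rfl
  have : Fintype {g : G // orderOf g = p} := Fintype.ofFinite _
  refine le_trans ?_ (Nat.card_le_card_of_injective f hf)
  rw [Nat.card_sigma]
  calc c * cnt G p = ∑ _g : {g : G // orderOf g = p}, c := by
        rw [Finset.sum_const, Finset.card_univ, smul_eq_mul, mul_comm, cnt, Nat.card_eq_fintype_card]
    _ ≤ _ := Finset.sum_le_sum fun g _ => hc g g.2


/-- Let G be a finite group such that the numbers of elements of each order that occurs in G (the numbers #{g : o(g) = m}, m ranging over the element orders of G) take exactly two values, 1 and some n ≠ 1. Then either G is a p-group of exponent p and order at least 3 for some prime p, or G is the quaternion group of order 8, or G is cyclic of order 4, or G ≅ Z₂ × P for a p-group P of exponent p with p an odd prime. -/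
theorem result {G : Type*} [Group G] [Finite G] (n : ℕ) (hn : n ≠ 1) (h : ((fun m : ℕ => Nat.card {g : G // orderOf g = m}) '' Set.range (orderOf : G → ℕ)) = {1, n}) :
    (∃ p : ℕ, p.Prime ∧ IsPGroup p G ∧ 3 ≤ Nat.card G ∧ Monoid.exponent G = p) ∨
      Nonempty (G ≃* QuaternionGroup 2) ∨ (IsCyclic G ∧ Nat.card G = 4) ∨
      (∃ (p : ℕ) (P : Type) (_ : Group P) (_ : Finite P), p.Prime ∧ p ≠ 2 ∧ IsPGroup p P ∧ Monoid.exponent P = p ∧
        Nonempty (G ≃* Multiplicative (ZMod 2) × P)) := by
  classical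
  have hval : ∀ x : G, cnt G (orderOf x) = 1 ∨ cnt G (orderOf x) = n := fun x => by
    have : cnt G (orderOf x) ∈ ({1, n} : Set ℕ) := h ▸ ⟨_, ⟨x, rfl⟩, rfl⟩
    exact this
  have hbig : ∀ x : G, 2 < orderOf x → cnt G (orderOf x) = n := fun x hx =>
    (hval x).resolve_left fun e => by have := two_le_cnt hx; omega
  obtain ⟨x0, hx0⟩ : ∃ x : G, cnt G (orderOf x) = n := by
    obtain ⟨_, ⟨x, rfl⟩, hx⟩ := (h ▸ Set.mem_insert_of_mem 1 rfl :
      n ∈ (fun m : ℕ => Nat.card {g : G // orderOf g = m}) '' Set.range (orderOf : G → ℕ))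
    exact ⟨x, hx⟩
  have hn0 : n ≠ 0 := by
    rw [← hx0, cnt]
    haveI : Nonempty {g : G // orderOf g = orderOf x0} := ⟨⟨x0, rfl⟩⟩
    exact Nat.card_pos.ne'
  have hG3 : 3 ≤ Nat.card G := by
    have h1 : n < Nat.card G := by
      rw [← hx0, cnt]
      refine lt_of_le_of_ne (Nat.card_le_card_of_injective _ Subtype.val_injective) fun e => ?_
      have := ((Nat.bijective_iff_injective_and_card (Subtype.val : {g : G // orderOf g = orderOf x0} → G)).2
        ⟨Subtype.val_injective, e⟩).2 1
      obtain ⟨⟨y, hy⟩, rfl⟩ := this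
      rw [orderOf_one] at hy
      refine hn (hx0.symm.trans ?_)
      rw [← hy, cnt, Nat.card_eq_one_iff_unique]
      exact ⟨⟨fun a b => Subtype.ext (by rw [orderOf_eq_one_iff.1 a.2, orderOf_eq_one_iff.1 b.2])⟩,
        ⟨⟨1, orderOf_one⟩⟩⟩
    omega
  -- no two coprime orders with `n` elements, the first an odd prime
  have key : ∀ (p k : ℕ) [Fact p.Prime] (g : G), orderOf g = p → p ≠ 2 → (∃ y : G, orderOf y = k) →
      p.Coprime k → k ≠ 1 → cnt G k = n → False := by
    intro p k _ g hg hp2 hk hco hk1 hcnt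
    have hp := (Fact.out : p.Prime)
    have hp3 : 2 < p := lt_of_le_of_ne hp.two_le (Ne.symm hp2)
    have hpn : cnt G p = n := by have := hbig g (by omega); rwa [hg] at this
    have hd : p ∣ n + 1 := by have := cnt_mod_self hg; rwa [hpn] at this
    have hc : ∀ g' : G, orderOf g' = p → 2 ≤ Nat.card {x : G // orderOf x = k ∧ Commute g' x} := by
      intro g' hg'
      have h1 := (modEq_fixed hg' k).add_right 1
      rw [hcnt] at h1
      have h2 := Nat.modEq_zero_iff_dvd.1 (h1.symm.trans (Nat.modEq_zero_iff_dvd.2 hd))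
      have := Nat.le_of_dvd (by omega) h2
      omega
    have h3 := mul_le_cnt (G := G) hco hc
    rw [hpn] at h3
    have hne : Nonempty {y : G // orderOf y = p * k} := by
      by_contra hcon
      haveI := not_nonempty_iff.1 hcon
      rw [cnt, Nat.card_of_isEmpty] at h3
      omega
    obtain ⟨⟨y, hy⟩⟩ := hne
    have : cnt G (p * k) = n := by
      rw [← hy]; refine hbig y ?_
      rw [hy]
      have : 1 ≤ k := Nat.pos_of_ne_zero fun e => by
        obtain ⟨y', hy'⟩ := hk; rw [e] at hy'; exact (orderOf_pos y').ne' hy'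
      calc 2 < p := hp3
        _ ≤ p * k := Nat.le_mul_of_pos_right p this
    omega
  by_cases hodd : ∃ p : ℕ, p.Prime ∧ p ≠ 2 ∧ p ∣ Nat.card G
  · obtain ⟨p, hp, hp2, hpd⟩ := hodd
    haveI := Fact.mk hp
    obtain ⟨g, hg⟩ := exists_prime_orderOf_dvd_card' p hpd
    have hp3 : 2 < p := lt_of_le_of_ne hp.two_le (Ne.symm hp2)
    have hpn : cnt G p = n := by have := hbig g (by omega); rwa [hg] at this
    have hd : p ∣ n + 1 := by have := cnt_mod_self hg; rwa [hpn] at this
    -- coprime orders are at most two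
    have hsmall : ∀ y : G, p.Coprime (orderOf y) → y ^ 2 = 1 := by
      intro y hy
      rcases lt_or_ge 2 (orderOf y) with h2 | h2
      · exact (key p _ g hg hp2 ⟨y, rfl⟩ hy (by omega) (hbig y h2)).elim
      · refine orderOf_dvd_iff_pow_eq_one.1 ?_
        have := orderOf_pos y
        interval_cases (orderOf y) <;> norm_num
    have hnosq : ∀ y : G, orderOf y ≠ p ^ 2 := by
      intro y hy
      have h1 : cnt G (p ^ 2) = n := by
        rw [← hy]; refine hbig y ?_
        rw [hy]; nlinarith
      have h2 : p ∣ n := by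
        rw [← h1]
        refine dvd_trans ?_ (totient_dvd_cnt (p ^ 2))
        rw [Nat.totient_prime_pow hp (by norm_num), show 2 - 1 = 1 from rfl, pow_one]
        exact dvd_mul_right p _
      exact hp.one_lt.ne' (Nat.dvd_one.1 ((Nat.dvd_add_right h2).1 hd))
    have hexp : ∀ y : G, y ^ (2 * p) = 1 := by
      intro y
      obtain ⟨a, b, hb, hab⟩ : ∃ a b, ¬ p ∣ b ∧ orderOf y = p ^ a * b :=
        ⟨_, _, Nat.not_dvd_ordCompl hp (orderOf_pos y).ne', (Nat.ordProj_mul_ordCompl_eq_self _ p).symm⟩
      have hb2 : b ∣ 2 := by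
        have h1 : orderOf (y ^ p ^ a) = b := by
          rw [orderOf_pow' _ (pow_ne_zero _ hp.ne_zero), hab, Nat.gcd_eq_right (dvd_mul_right _ _),
            Nat.mul_div_cancel_left _ (pow_pos hp.pos _)]
        rw [← h1]
        exact orderOf_dvd_of_pow_eq_one (hsmall _ (h1 ▸ hp.coprime_iff_not_dvd.2 hb))
      have ha : a ≤ 1 := by
        by_contra ha
        refine hnosq (y ^ (b * p ^ (a - 2))) ?_
        have hb0 : b ≠ 0 := fun e => hb (e ▸ dvd_zero p)
        have he : orderOf y = p ^ 2 * (b * p ^ (a - 2)) := by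
          rw [hab, show a = 2 + (a - 2) by omega, pow_add]; ring_nf; simp
        rw [orderOf_pow' _ (mul_ne_zero hb0 (pow_ne_zero _ hp.ne_zero)), he,
          Nat.gcd_eq_right (dvd_mul_left _ _),
          Nat.mul_div_cancel _ (Nat.pos_of_ne_zero (mul_ne_zero hb0 (pow_ne_zero _ hp.ne_zero)))]
      refine orderOf_dvd_iff_pow_eq_one.1 ?_
      rw [hab, mul_comm 2 p]
      exact Nat.mul_dvd_mul ((pow_dvd_pow p ha).trans (pow_one p).dvd) hb2
    by_cases heven : 2 ∣ Nat.card G
    swap
    · have hp1 : ∀ y : G, y ^ p = 1 := fun y => by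
        refine orderOf_dvd_iff_pow_eq_one.1 (Nat.Coprime.dvd_of_dvd_mul_left ?_
          (orderOf_dvd_of_pow_eq_one (hexp y)))
        exact ((Nat.prime_two.coprime_iff_not_dvd.2 fun h2 => heven (h2.trans (orderOf_dvd_natCard y)))).symm
      refine Or.inl ⟨p, hp, fun y => ⟨1, ?_⟩, hG3, ?_⟩
      · rw [pow_one]; exact hp1 y
      · refine (hp.eq_one_or_self_of_dvd _ (Monoid.exponent_dvd_of_forall_pow_eq_one hp1)).resolve_left
          fun e => ?_
        have := Monoid.order_dvd_exponent g
        rw [e, hg, Nat.dvd_one] at this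
        exact hp.ne_one this
    -- a unique involution
    haveI : Fact (Nat.Prime 2) := ⟨Nat.prime_two⟩
    obtain ⟨z, hz⟩ := exists_prime_orderOf_dvd_card' 2 heven
    have hz1 : cnt G 2 = 1 := by
      have := hval z
      rw [hz] at this
      exact this.resolve_right fun e => key p 2 g hg hp2 ⟨z, hz⟩
        ((Nat.coprime_primes hp Nat.prime_two).2 hp2) (by norm_num) e
    have huniq : ∀ y : G, orderOf y = 2 → y = z := fun y hy => by
      rw [cnt, Nat.card_eq_one_iff_unique] at hz1
      exact congrArg Subtype.val (hz1.1.allEq ⟨y, hy⟩ ⟨z, hz⟩)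
    obtain ⟨T⟩ : Nonempty (Sylow 2 G) := inferInstance
    have hT : Nat.card T = 2 := by
      have hTle : (T : Subgroup G) ≤ Subgroup.zpowers z := by
        intro y hy
        obtain ⟨k, hk⟩ := IsPGroup.iff_orderOf.1 T.2 ⟨y, hy⟩
        rw [Subgroup.orderOf_mk] at hk
        have h2 := orderOf_dvd_of_pow_eq_one (hsmall y (hk ▸ ((Nat.coprime_primes hp Nat.prime_two).2 hp2).pow_right k))
        rcases (Nat.dvd_prime Nat.prime_two).1 h2 with e | e
        · rw [orderOf_eq_one_iff.1 e]; exact one_mem _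
        · rw [huniq y e]; exact Subgroup.mem_zpowers z
      have h1 := Subgroup.card_dvd_of_le hTle
      rw [Nat.card_zpowers, hz] at h1
      refine ((Nat.dvd_prime Nat.prime_two).1 h1).resolve_left fun e => ?_
      exact T.ne_bot_of_dvd_card heven (Subgroup.card_eq_one.1 e)
    obtain ⟨P⟩ : Nonempty (Sylow p G) := inferInstance
    have hPp : ∀ y ∈ (P : Subgroup G), y ^ p = 1 := by
      intro y hy
      obtain ⟨k, hk⟩ := IsPGroup.iff_orderOf.1 P.2 ⟨y, hy⟩
      rw [Subgroup.orderOf_mk] at hk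
      refine orderOf_dvd_iff_pow_eq_one.1 (Nat.Coprime.dvd_of_dvd_mul_left ?_
        (orderOf_dvd_of_pow_eq_one (hexp y)))
      rw [hk]; exact ((Nat.coprime_primes hp Nat.prime_two).2 hp2).pow_left k
    have hidx : (P : Subgroup G).index = 2 := by
      have h2 := (P : Subgroup G).card_mul_index
      refine Nat.eq_of_mul_eq_mul_left Nat.card_pos (h2.trans ?_)
      rw [← (T : Subgroup G).card_mul_index, hT, mul_comm]
      refine (mul_left_inj' two_ne_zero).2 ?_
      obtain ⟨a, ha⟩ : ∃ a, (T : Subgroup G).index = p ^ a := by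
        refine ⟨_, Nat.eq_prime_pow_of_unique_prime_dvd Subgroup.index_ne_zero_of_finite fun {d} hd hdd => ?_⟩
        by_contra hne
        haveI := Fact.mk hd
        obtain ⟨y, hy⟩ := exists_prime_orderOf_dvd_card' d
          (hdd.trans (Subgroup.index_dvd_card (T : Subgroup G)))
        have h3 := orderOf_dvd_of_pow_eq_one (hsmall y (hy ▸ (Nat.coprime_primes hp hd).2 (Ne.symm hne)))
        rw [hy, Nat.prime_dvd_prime_iff_eq hd Nat.prime_two] at h3
        exact T.not_dvd_index (h3 ▸ hdd)
      rw [ha, P.card_eq_multiplicity]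
      congr 1
      have := congrArg (fun t => t.factorization p) ((T : Subgroup G).card_mul_index)
      rw [Nat.factorization_mul Nat.card_pos.ne' Subgroup.index_ne_zero_of_finite, Finsupp.add_apply,
        hT, ha, hp.factorization_pow, Finsupp.single_eq_same,
        Nat.factorization_eq_zero_of_not_dvd
          (fun h4 => hp2 ((Nat.prime_dvd_prime_iff_eq hp Nat.prime_two).1 h4)), zero_add] at this
      exact this
    have hPn : (P : Subgroup G).Normal := Subgroup.normal_of_index_eq_two hidx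
    have hzc : ∀ y, z * y = y * z := fun y => by
      have := huniq (y * z * y⁻¹)
        ((orderOf_injective (MulAut.conj y).toMonoidHom (MulAut.conj y).injective z).trans hz)
      calc z * y = (y * z * y⁻¹) * y := by rw [this]
        _ = y * z := by group
    let φ : ↥(Subgroup.zpowers z) × ↥(P : Subgroup G) →* G :=
      MonoidHom.noncommCoprod (Subgroup.zpowers z).subtype (P : Subgroup G).subtype fun a b => by
        obtain ⟨i, hi⟩ := Subgroup.mem_zpowers_iff.1 a.2
        show Commute (a : G) (b : G)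
        rw [← hi]
        exact (show Commute z (b : G) from hzc b).zpow_left i
    have hφ : Function.Bijective φ := by
      refine (Nat.bijective_iff_injective_and_card φ).2 ⟨?_, ?_⟩
      · rw [← MonoidHom.ker_eq_bot_iff, eq_bot_iff]
        rintro ⟨a, b⟩ hab
        have hab' : (a : G) * b = 1 := hab
        have h2 : (a : G) ∈ Subgroup.zpowers z ⊓ (P : Subgroup G) :=
          ⟨a.2, by rw [eq_inv_of_mul_eq_one_left hab']; exact (P : Subgroup G).inv_mem b.2⟩
        rw [Subgroup.inf_eq_bot_of_coprime, Subgroup.mem_bot] at h2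
        · rw [h2, one_mul] at hab'
          exact Subgroup.mem_bot.2 (Prod.ext (Subtype.ext h2) (Subtype.ext hab'))
        · rw [Nat.card_zpowers, hz]
          obtain ⟨k, hk⟩ := IsPGroup.iff_card.1 P.2
          rw [hk]; exact ((Nat.coprime_primes Nat.prime_two hp).2 (Ne.symm hp2)).pow_right k
      · rw [Nat.card_prod, Nat.card_zpowers, hz, ← hidx, mul_comm, Subgroup.card_mul_index]
    obtain ⟨m, ⟨e1⟩⟩ := Finite.exists_equiv_fin ↥(P : Subgroup G)
    have e0 : ↥(P : Subgroup G) ≃ Carrier m := e1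
    letI : Group (Carrier m) := e0.symm.group
    let eP : Carrier m ≃* ↥(P : Subgroup G) := Equiv.mulEquiv e0.symm
    refine Or.inr (Or.inr (Or.inr ⟨p, Carrier m, inferInstance, inferInstance, hp, hp2,
      P.2.of_equiv eP.symm, ?_, ?_⟩))
    · rw [Monoid.exponent_eq_of_mulEquiv eP]
      refine (hp.eq_one_or_self_of_dvd _ (Monoid.exponent_dvd_of_forall_pow_eq_one
        fun y => Subtype.ext (by simpa using hPp y y.2))).resolve_left fun e => ?_
      have hne : (P : Subgroup G) ≠ ⊥ := P.ne_bot_of_dvd_card hpd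
      refine hne (eq_bot_iff.2 fun y hy => ?_)
      have h2 := Monoid.pow_exponent_eq_one (⟨y, hy⟩ : ↥(P : Subgroup G))
      rw [e, pow_one] at h2
      exact Subgroup.mem_bot.2 (congrArg Subtype.val h2)
    · haveI : IsCyclic (Multiplicative (ZMod 2)) := inferInstance
      have e2 : ↥(Subgroup.zpowers z) ≃* Multiplicative (ZMod 2) :=
        mulEquivOfCyclicCardEq (by rw [Nat.card_zpowers, hz]; simp)
      exact ⟨(MulEquiv.ofBijective φ hφ).symm.trans (MulEquiv.prodCongr e2 eP.symm)⟩
  -- two-groups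
  haveI : Fact (Nat.Prime 2) := ⟨Nat.prime_two⟩
  have hP2 : IsPGroup 2 G := IsPGroup.of_card (n := (Nat.card G).primeFactorsList.length)
    (Nat.eq_prime_pow_of_unique_prime_dvd Nat.card_pos.ne' fun {d} hd hdd => by
      by_contra hne; exact hodd ⟨d, hd, hne, hdd⟩)
  obtain ⟨z, hz⟩ := exists_prime_orderOf_dvd_card' 2 (by
    obtain ⟨k, hk⟩ := IsPGroup.iff_card.1 hP2
    rw [hk]; refine dvd_pow_self 2 fun e => ?_
    rw [hk, e] at hG3; norm_num at hG3)
  have hno8 : ∀ (y : G) (j : ℕ), orderOf y = 2 ^ j → 2 ≤ j → cnt G 2 = n → False := by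
    intro y j hy hj hcn
    have h2n : 2 ∣ n + 1 := by have := cnt_mod_self hz; rwa [hcn] at this
    have h4 : ∃ w : G, orderOf w = 4 := by
      refine ⟨y ^ (2 ^ (j - 2)), ?_⟩
      rw [orderOf_pow' _ (pow_ne_zero _ two_ne_zero), hy,
        Nat.gcd_eq_right (pow_dvd_pow 2 (by omega)), Nat.pow_div (by omega) two_pos,
        show j - (j - 2) = 2 by omega]; norm_num
    obtain ⟨w, hw⟩ := h4
    have h5 : 2 ∣ n := by
      have h6 := totient_dvd_cnt (G := G) 4
      have h7 : cnt G 4 = n := by rw [← hw]; exact hbig w (by omega)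
      rw [h7, show Nat.totient 4 = 2 by decide] at h6
      exact h6
    omega
  rcases (hz ▸ hval z : cnt G 2 = 1 ∨ cnt G 2 = n) with hz1 | hzn
  swap
  · have hexp : ∀ y : G, y ^ 2 = 1 := by
      intro y
      obtain ⟨j, hj⟩ := IsPGroup.iff_orderOf.1 hP2 y
      refine orderOf_dvd_iff_pow_eq_one.1 ?_
      rw [hj]
      refine (pow_dvd_pow 2 (?_ : j ≤ 1)).trans (pow_one 2).dvd
      by_contra h2
      exact hno8 y j hj (by omega) hzn
    refine Or.inl ⟨2, Nat.prime_two, hP2, hG3, ?_⟩
    refine ((Nat.dvd_prime Nat.prime_two).1 (Monoid.exponent_dvd_of_forall_pow_eq_one hexp)).resolve_left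
      fun e => ?_
    have := Monoid.order_dvd_exponent z
    rw [e, hz] at this
    norm_num at this
  have huniq : ∀ x y : G, orderOf x = 2 → orderOf y = 2 → y ∈ Subgroup.zpowers x := fun x y hx hy => by
    rw [cnt, Nat.card_eq_one_iff_unique] at hz1
    rw [show y = x from congrArg Subtype.val (hz1.1.allEq ⟨y, hy⟩ ⟨x, hx⟩)]
    exact Subgroup.mem_zpowers x
  rcases CfsgLib.Solv.pgroup_unique_sub hP2 huniq with hc | ⟨-, k, ⟨e⟩⟩
  · refine Or.inr (Or.inr (Or.inl ⟨hc, ?_⟩))
    haveI := hc
    have : Fintype G := Fintype.ofFinite G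
    have hcy : ∀ d, d ∣ Nat.card G → cnt G d = d.totient := fun d hd => by
      rw [cnt, Nat.card_eq_fintype_card, Fintype.card_subtype]
      exact IsCyclic.card_orderOf_eq_totient (by rwa [← Nat.card_eq_fintype_card])
    obtain ⟨j, hj⟩ := IsPGroup.iff_card.1 hP2
    have hj2 : 2 ≤ j := by
      by_contra hc2
      rw [hj] at hG3
      interval_cases j <;> norm_num at hG3
    rw [hj]
    by_contra hne
    have hj3 : 3 ≤ j := by
      rcases Nat.eq_or_lt_of_le hj2 with e | e
      · exact absurd (by rw [← e]; norm_num) hne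
      · exact e
    obtain ⟨y, hy⟩ := IsCyclic.exists_ofOrder_eq_natCard (α := G)
    have hel : ∀ i, i ≤ j → ∃ w : G, orderOf w = 2 ^ i := fun i hi => ⟨y ^ (2 ^ (j - i)), by
      rw [orderOf_pow' _ (pow_ne_zero _ two_ne_zero), hy, hj, Nat.gcd_eq_right (pow_dvd_pow 2 (by omega)),
        Nat.pow_div (by omega) two_pos, show j - (j - i) = i by omega]⟩
    obtain ⟨w4, hw4⟩ := hel 2 (by omega)
    obtain ⟨w8, hw8⟩ := hel 3 hj3
    have e4 := hbig w4 (by rw [hw4]; norm_num)
    have e8 := hbig w8 (by rw [hw8]; norm_num)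
    rw [hw4, hcy _ (hj ▸ pow_dvd_pow 2 hj2)] at e4
    rw [hw8, hcy _ (hj ▸ pow_dvd_pow 2 hj3)] at e8
    have : Nat.totient (2 ^ 2) = Nat.totient (2 ^ 3) := e4.trans e8.symm
    revert this; decide
  · refine Or.inr (Or.inl ?_)
    rcases Nat.eq_zero_or_pos k with rfl | hk
    · exact ⟨e⟩
    exfalso
    set M := 2 ^ (k + 1) with hM
    have hM4 : 4 ≤ M := le_trans (by norm_num) (Nat.pow_le_pow_right two_pos (by omega : 2 ≤ k + 1))
    haveI : NeZero M := ⟨by omega⟩
    have hca : orderOf (QuaternionGroup.a (n := M) 1) = 2 * M := QuaternionGroup.orderOf_a_one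
    have h8 : ∃ w : G, orderOf w = 8 := by
      refine ⟨e.symm (QuaternionGroup.a 1 ^ (2 ^ (k - 1))), ?_⟩
      rw [MulEquiv.orderOf_eq, orderOf_pow' _ (pow_ne_zero _ two_ne_zero), hca, hM, ← pow_succ',
        Nat.gcd_eq_right (pow_dvd_pow 2 (by omega)), Nat.pow_div (by omega) two_pos,
        show k + 1 + 1 - (k - 1) = 3 by omega]; norm_num
    obtain ⟨w8, hw8⟩ := h8
    have e8 : cnt G 8 = n := hw8 ▸ hbig w8 (by omega)
    have e4 : cnt G 4 = n := by
      have ho : orderOf (e.symm (QuaternionGroup.xa (n := M) 0)) = 4 := by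
        rw [MulEquiv.orderOf_eq]; exact QuaternionGroup.orderOf_xa 0
      exact ho ▸ hbig _ (by omega)
    have hlow : 2 * M ≤ cnt G 4 := by
      refine le_trans (le_of_eq (Nat.card_zmod (2 * M)).symm) (Nat.card_le_card_of_injective
        (fun i : ZMod (2 * M) => (⟨e.symm (QuaternionGroup.xa i), by
          rw [MulEquiv.orderOf_eq]; exact QuaternionGroup.orderOf_xa i⟩ : {g : G // orderOf g = 4}))
        fun i i' h => QuaternionGroup.xa.inj (e.symm.injective (congrArg Subtype.val h)))
    have hup : cnt G 8 ≤ 4 := by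
      have : Fintype ↥(Subgroup.zpowers (QuaternionGroup.a (n := M) 1)) := Fintype.ofFinite _
      have hmem : ∀ w : G, orderOf w = 8 → e w ∈ Subgroup.zpowers (QuaternionGroup.a (n := M) 1) := by
        intro w hw
        rcases he : e w with i | i
        · refine Subgroup.mem_zpowers_iff.2 ⟨(i.val : ℤ), ?_⟩
          rw [zpow_natCast, QuaternionGroup.a_one_pow, ZMod.natCast_zmod_val]
        · exfalso
          have := MulEquiv.orderOf_eq e w
          rw [he, QuaternionGroup.orderOf_xa, hw] at this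
          norm_num at this
      have h4 : 8 ∣ Fintype.card ↥(Subgroup.zpowers (QuaternionGroup.a (n := M) 1)) := by
        rw [← Nat.card_eq_fintype_card, Nat.card_zpowers, hca, hM, ← pow_succ']
        exact pow_dvd_pow 2 (show 3 ≤ k + 1 + 1 by omega)
      have h5 := IsCyclic.card_orderOf_eq_totient h4
      rw [show Nat.totient 8 = 4 by decide, ← Fintype.card_subtype, ← Nat.card_eq_fintype_card] at h5
      rw [← h5]
      refine Nat.card_le_card_of_injective (fun w => ⟨⟨e w, hmem w w.2⟩, ?_⟩) fun a b h => ?_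
      · rw [Subgroup.orderOf_mk, MulEquiv.orderOf_eq]; exact w.2
      · exact Subtype.ext (e.injective (congrArg (fun t => ((t : {x : ↥(Subgroup.zpowers
          (QuaternionGroup.a (n := M) 1)) // orderOf x = 8}).1 : QuaternionGroup M)) h))
    omega

end Cfsg.Agent.S3995
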