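import Cfsg.Statements.S3997


set_option autoImplicit false
open Cfsg

namespace Cfsg.Agent.S3997

/-- Let G and H be finite groups with the same order type: for every m they have the same number of elements of order m. If G is nilpotent then so is H. -/
theorem result {G H : Type*} [Group G] [Finite G] [Group H] [Finite H] (hT : (∀ m : ℕ, Nat.card {g : G // orderOf g = m} = Nat.card {h : H // orderOf h = m})) (hG : Group.IsNilpotent G) :
    Group.IsNilpotent H := by
  classical
  choose f hf using fun m => (⟨Finite.card_eq.1 (hT m), trivial⟩ : Nonempty _ ∧ True)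
  let e : G ≃ H := (Equiv.sigmaFiberEquiv (fun g : G => orderOf g)).symm.trans
    ((Equiv.sigmaCongrRight fun m => (f m).some).trans (Equiv.sigmaFiberEquiv (fun h : H => orderOf h)))
  have he : ∀ g, orderOf (e g) = orderOf g := fun g => ((f (orderOf g)).some ⟨g, rfl⟩).2
  have hcard : Nat.card G = Nat.card H := Nat.card_congr e
  have hiff : Group.IsNilpotent H ↔ ∀ (p : ℕ) (_ : Fact p.Prime) (P : Sylow p H), (P : Subgroup H).Normal :=
    (Group.isNilpotent_of_finite_tfae (G := H)).out 0 3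
  rw [hiff]
  intro p hp P
  have hiffG : Group.IsNilpotent G ↔ ∀ (p : ℕ) (_ : Fact p.Prime) (P : Sylow p G), (P : Subgroup G).Normal :=
    (Group.isNilpotent_of_finite_tfae (G := G)).out 0 3
  have hsylG := hiffG.1 hG
  obtain ⟨P₀⟩ : Nonempty (Sylow p G) := inferInstance
  haveI : (P₀ : Subgroup G).Normal := hsylG p hp P₀
  have hsetG : ∀ g : G, g ∈ (P₀ : Subgroup G) ↔ ∃ k, orderOf g = p ^ k := by
    intro g
    constructor
    · intro hg
      obtain ⟨k, hk⟩ := P₀.2 ⟨g, hg⟩
      obtain ⟨j, -, hj⟩ := (Nat.dvd_prime_pow hp.out).1 (orderOf_dvd_of_pow_eq_one (congrArg Subtype.val hk : g ^ p ^ k = 1))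
      exact ⟨j, hj⟩
    · rintro ⟨k, hk⟩
      haveI := Sylow.unique_of_normal P₀ ‹_›
      have hpg : IsPGroup p (Subgroup.zpowers g) := IsPGroup.of_card (n := k) (by rw [Nat.card_zpowers, hk])
      obtain ⟨Q, hQ⟩ := hpg.exists_le_sylow
      rw [Subsingleton.elim P₀ Q]
      exact hQ (Subgroup.mem_zpowers g)
  let T := {h : H // ∃ k, orderOf h = p ^ k}
  have hcT : Nat.card T = Nat.card ↥(P : Subgroup H) := by
    have h1 : Nat.card T = Nat.card ↥(P₀ : Subgroup G) :=
      (Nat.card_congr (Equiv.subtypeEquiv e fun g => by rw [hsetG g, he])).symm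
    rw [h1, P₀.card_eq_multiplicity, P.card_eq_multiplicity, hcard]
  let ι : ↥(P : Subgroup H) → T := fun h => ⟨h.1, by
    obtain ⟨k, hk⟩ := P.2 h
    obtain ⟨j, -, hj⟩ := (Nat.dvd_prime_pow hp.out).1 (orderOf_dvd_of_pow_eq_one (congrArg Subtype.val hk : (h : H) ^ p ^ k = 1))
    exact ⟨j, hj⟩⟩
  have hι : Function.Bijective ι := (Nat.bijective_iff_injective_and_card ι).2
    ⟨fun a b h => Subtype.ext (congrArg (fun t : T => t.1) h), hcT.symm⟩
  refine ⟨fun n hn c => ?_⟩
  obtain ⟨k, hk⟩ := (ι ⟨n, hn⟩).2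
  obtain ⟨y, hy⟩ := hι.2 ⟨c * n * c⁻¹, k, by rw [← hk]; exact MulEquiv.orderOf_eq (MulAut.conj c) n⟩
  have hy' : (y : H) = c * n * c⁻¹ := congrArg (fun t : T => t.1) hy
  exact hy' ▸ y.2

end Cfsg.Agent.S3997
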