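import Cfsg.Statements.S3998
import Mathlib

set_option autoImplicit false
open Cfsg

namespace Cfsg.Agent.S3998

universe u

/-- For each `k` the elements killed by the `(≥ k)`-part of the order are exactly as many as it. -/
def Tower (G : Type*) [Group G] : Prop :=
  ∀ k : ℕ, ∃ n d : ℕ, Nat.card G = n * d ∧ (∀ p : ℕ, p.Prime → p ∣ n → k ≤ p) ∧
    (∀ p : ℕ, p.Prime → p ∣ d → p < k) ∧ Nat.card {x : G // x ^ n = 1} = n

theorem coprime_of_split {n d k : ℕ} (hn : ∀ p : ℕ, p.Prime → p ∣ n → k ≤ p)
    (hd : ∀ p : ℕ, p.Prime → p ∣ d → p < k) : Nat.Coprime n d :=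
  Nat.coprime_of_dvd fun p hp hpn hpd => absurd (hd p hp hpd) (not_lt.2 (hn p hp hpn))

/-- Supersolvability in recursive form. -/
theorem exists_normal_split : ∀ (c : ℕ) (G : Type u) [Group G] [Finite G], Nat.card G = c →
    Cfsg.IsSupersolvable G → ∀ k : ℕ, ∃ N : Subgroup G, N.Normal ∧
      (∀ p : ℕ, p.Prime → p ∣ Nat.card N → k ≤ p) ∧ (∀ p : ℕ, p.Prime → p ∣ N.index → p < k) := by
  intro c
  induction c using Nat.strong_induction_on with
  | _ c ih =>
    intro G _ _ hc hG k
    obtain ⟨n, H, h0, hl, hn, hs⟩ := hG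
    -- find a nontrivial cyclic normal subgroup
    by_cases htriv : ∀ i : Fin (n + 1), H i = ⊥
    · refine ⟨⊥, inferInstance, fun p hp h => ?_, fun p hp h => ?_⟩
      · rw [Subgroup.card_bot] at h; exact absurd (Nat.dvd_one.1 h) hp.ne_one
      · rw [Subgroup.index_bot] at h
        have : Nat.card G = 1 := by
          rw [← Subgroup.card_top (G := G), ← hl, htriv, Subgroup.card_bot]
        rw [this] at h; exact absurd (Nat.dvd_one.1 h) hp.ne_one
    push Not at htriv
    have : ∃ C : Subgroup G, C.Normal ∧ IsCyclic C ∧ C ≠ ⊥ := by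
      by_contra hno
      obtain ⟨i, hi⟩ := htriv
      apply hi
      induction i using Fin.induction with
      | zero => exact h0
      | succ i ihi =>
        have hb : H i.castSucc = ⊥ := by
          by_contra hne
          exact hne (ihi hne)
        obtain ⟨g, hg⟩ := hs i
        by_contra hne
        refine hno ⟨H i.succ, hn _, ?_, hne⟩
        rw [hg, hb, bot_sup_eq]
        infer_instance
    obtain ⟨C, hCn, hCc, hCne⟩ := this
    have hC1 : Nat.card C ≠ 1 := fun h => hCne (Subgroup.eq_bot_of_card_eq C h)
    obtain ⟨r, hr, hrd⟩ := Nat.exists_prime_and_dvd hC1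
    obtain ⟨a, ha⟩ := exists_prime_orderOf_dvd_card' (G := C) r (hp := ⟨hr⟩) hrd
    set A : Subgroup G := Subgroup.zpowers (a : G) with hA
    have haC : (a : G) ∈ C := a.2
    have hao : orderOf (a : G) = r := by rw [Subgroup.orderOf_coe]; exact ha
    have hAcard : Nat.card A = r := by rw [hA, Nat.card_zpowers, hao]
    have hAn : A.Normal := by
      refine ⟨fun x hx g => ?_⟩
      have hxC : g * x * g⁻¹ ∈ C := hCn.conj_mem x
        ((Subgroup.zpowers_le.2 haC) hx) g
      have hpow : (g * x * g⁻¹) ^ r = 1 := by
        have : x ^ r = 1 := by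
          rw [← hao]
          obtain ⟨j, rfl⟩ := hx
          rw [← zpow_natCast, ← zpow_mul, mul_comm, zpow_mul, zpow_natCast, pow_orderOf_eq_one,
            one_zpow]
        rw [conj_pow, this, mul_one, mul_inv_cancel]
      -- in the cyclic group `C` the subgroup of order `r` is unique
      classical
      have := Fintype.ofFinite C
      have hle : ((Subgroup.zpowers a : Subgroup C) : Set C) ⊆ {y : C | y ^ r = 1} := by
        rintro y ⟨j, rfl⟩
        show (a ^ j) ^ r = 1
        rw [← zpow_natCast, ← zpow_mul, mul_comm, zpow_mul, zpow_natCast, ← ha,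
          pow_orderOf_eq_one, one_zpow]
      have hcard : ({y : C | y ^ r = 1}).ncard ≤ ((Subgroup.zpowers a : Subgroup C) : Set C).ncard := by
        rw [← Nat.card_coe_set_eq ((Subgroup.zpowers a : Subgroup C) : Set C)]
        change _ ≤ Nat.card (Subgroup.zpowers a)
        rw [Nat.card_zpowers, ha, Set.ncard_eq_toFinset_card', Set.toFinset_ofPred]
        exact IsCyclic.card_pow_eq_one_le hr.pos
      have heq := Set.eq_of_subset_of_ncard_le hle hcard
      have hm : (⟨g * x * g⁻¹, hxC⟩ : C) ∈ Subgroup.zpowers a := by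
        rw [← SetLike.mem_coe, heq]
        exact Subtype.ext hpow
      obtain ⟨j, hj⟩ := hm
      exact ⟨j, congrArg Subtype.val hj⟩
    have hlt : Nat.card (G ⧸ A) < c := by
      rw [← hc, Subgroup.card_eq_card_quotient_mul_card_subgroup A, hAcard]
      exact lt_mul_of_one_lt_right Nat.card_pos hr.one_lt
    have hQ : Cfsg.IsSupersolvable (G ⧸ A) := by
      refine ⟨n, fun i => (H i).map (QuotientGroup.mk' A), by simp [h0], ?_,
        fun i => (hn i).map _ (QuotientGroup.mk'_surjective A), fun i => ?_⟩
      · dsimp only; rw [hl, Subgroup.map_top_of_surjective _ (QuotientGroup.mk'_surjective A)]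
      · obtain ⟨g, hg⟩ := hs i
        exact ⟨QuotientGroup.mk' A g, by dsimp only; rw [hg, Subgroup.map_sup, MonoidHom.map_zpowers]⟩
    obtain ⟨Nb, hNbn, hNb1, hNb2⟩ := ih _ hlt (G ⧸ A) rfl hQ k
    set M : Subgroup G := Nb.comap (QuotientGroup.mk' A) with hM
    have hMn : M.Normal := hNbn.comap _
    have hMidx : M.index = Nb.index :=
      Subgroup.index_comap_of_surjective _ (QuotientGroup.mk'_surjective A)
    have hMcard : Nat.card M = Nat.card Nb * r := by
      have h1 := Subgroup.card_mul_index M
      have h2 := Subgroup.card_mul_index Nb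
      have h3 := Subgroup.card_eq_card_quotient_mul_card_subgroup A
      rw [hMidx, h3, hAcard, ← h2] at h1
      have h4 : 0 < Nb.index := Nat.pos_of_ne_zero Subgroup.FiniteIndex.index_ne_zero
      apply Nat.eq_of_mul_eq_mul_right h4
      rw [h1]; ring
    by_cases hrk : k ≤ r
    · refine ⟨M, hMn, fun p hp h => ?_, fun p hp h => hNb2 p hp (hMidx ▸ h)⟩
      rw [hMcard] at h
      rcases hp.dvd_mul.1 h with h | h
      · exact hNb1 p hp h
      · rwa [(Nat.prime_dvd_prime_iff_eq hp hr).1 h]
    · push Not at hrk
      have hAM : A ≤ M := by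
        intro x hx
        rw [hM, Subgroup.mem_comap, QuotientGroup.mk'_apply, (QuotientGroup.eq_one_iff x).2 hx]
        exact one_mem _
      set A' : Subgroup M := A.subgroupOf M
      have hA'card : Nat.card A' = r := by
        rw [Nat.card_congr (Subgroup.subgroupOfEquivOfLe hAM).toEquiv, hAcard]
      have hA'idx : A'.index = Nat.card Nb := by
        have h1 := Subgroup.card_mul_index A'
        rw [hA'card, hMcard, mul_comm (Nat.card Nb)] at h1
        exact Nat.eq_of_mul_eq_mul_left hr.pos h1
      have hcop : (Nat.card A').Coprime A'.index := by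
        rw [hA'card, hA'idx, hr.coprime_iff_not_dvd]
        exact fun h => absurd (hNb1 r hr h) (not_le.2 hrk)
      obtain ⟨K, hK⟩ := Subgroup.exists_right_complement'_of_coprime hcop
      have hKcard : Nat.card K = Nat.card Nb := by
        have h1 := hK.card_mul
        rw [hA'card, hMcard, mul_comm (Nat.card Nb)] at h1
        exact Nat.eq_of_mul_eq_mul_left hr.pos h1
      -- `A'` is central in `M`
      have hcent : A' ≤ Subgroup.center M := by
        have : Fact r.Prime := ⟨hr⟩
        have : IsCyclic A' := isCyclic_of_prime_card hA'card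
        let φ : M →* MulAut A' := MulAut.conjNormal
        have hker : A' ≤ φ.ker := by
          intro x hx
          rw [MonoidHom.mem_ker]
          ext ⟨y, hy⟩ : 2
          have hc : (x : M) * y = y * x := by
            letI := IsCyclic.commGroup (α := A')
            exact congrArg Subtype.val (mul_comm (⟨x, hx⟩ : A') ⟨y, hy⟩)
          simp [φ, hc]
        have hdvd : Nat.card φ.range ∣ A'.index := by
          rw [← Subgroup.index_ker]
          exact Subgroup.index_dvd_of_le hker
        have hdvd2 : Nat.card φ.range ∣ r - 1 := by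
          have h2 : Nat.card (MulAut A') = r - 1 := by
            rw [IsCyclic.card_mulAut, hA'card, Nat.totient_prime hr]
          exact h2 ▸ Subgroup.card_subgroup_dvd_card φ.range
        have hone : Nat.card φ.range = 1 := by
          by_contra h
          obtain ⟨p, hp, hpd⟩ := Nat.exists_prime_and_dvd h
          have hp1 := hNb1 p hp (hA'idx ▸ hpd.trans hdvd)
          have hp2 := Nat.le_of_dvd (Nat.sub_pos_of_lt hr.one_lt) (hpd.trans hdvd2)
          omega
        intro x hx
        rw [Subgroup.mem_center_iff]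
        intro g
        have hg : φ g = 1 := by
          have h' : φ.range = ⊥ := Subgroup.eq_bot_of_card_eq _ hone
          have : φ g ∈ φ.range := ⟨g, rfl⟩
          rwa [h', Subgroup.mem_bot] at this
        have := congrArg (fun e : MulAut A' => ((e ⟨x, hx⟩ : A') : M)) hg
        simp [φ] at this
        exact mul_inv_eq_iff_eq_mul.1 this
      -- `K` is the set of elements of `M` killed by its order
      have hmem : ∀ z : M, z ∈ K ↔ z ^ Nat.card K = 1 := by
        intro z
        constructor
        · intro hz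
          exact congrArg Subtype.val (pow_card_eq_one' (x := (⟨z, hz⟩ : K)))
        · intro hz
          obtain ⟨⟨⟨x, hx⟩, ⟨y, hy⟩⟩, hxy⟩ := hK.2 z
          simp only at hxy
          have hcom : Commute x y := (Subgroup.mem_center_iff.1 (hcent hx) y).symm
          rw [← hxy, hcom.mul_pow, show y ^ Nat.card K = 1 from
            congrArg Subtype.val (pow_card_eq_one' (x := (⟨y, hy⟩ : K))), mul_one] at hz
          have hx1 : x ^ Nat.card A' = 1 :=
            congrArg Subtype.val (pow_card_eq_one' (x := (⟨x, hx⟩ : A')))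
          have hcop' : (Nat.card K).Coprime (Nat.card A') := by
            rw [hKcard, ← hA'idx]; exact hcop.symm
          have h9 : x ^ Nat.gcd (Nat.card K) (Nat.card A') = 1 := pow_gcd_eq_one.2 ⟨hz, hx1⟩
          rw [Nat.Coprime.gcd_eq_one hcop', pow_one] at h9
          rw [← hxy, h9, one_mul]; exact hy
      refine ⟨K.map M.subtype, ⟨?_⟩, ?_, ?_⟩
      · rintro _ ⟨z, hz, rfl⟩ g
        refine ⟨⟨g * (z : G) * g⁻¹, hMn.conj_mem _ z.2 g⟩, ?_, rfl⟩
        rw [SetLike.mem_coe, hmem]
        ext
        simp only [SubmonoidClass.coe_pow, conj_pow]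
        rw [← SubmonoidClass.coe_pow, (hmem z).1 hz]
        simp
      · intro p hp h
        rw [Subgroup.card_map_of_injective M.subtype_injective, hKcard] at h
        exact hNb1 p hp h
      · intro p hp h
        rw [Subgroup.index_map_subtype] at h
        rcases hp.dvd_mul.1 h with h | h
        · have h1 := Subgroup.card_mul_index K
          rw [hKcard, hMcard] at h1
          have h2 : K.index = r := Nat.eq_of_mul_eq_mul_left Nat.card_pos h1
          rw [h2] at h
          rwa [(Nat.prime_dvd_prime_iff_eq hp hr).1 h]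
        · exact hNb2 p hp (hMidx ▸ h)

theorem tower_of_supersolvable {G : Type u} [Group G] [Finite G] (hG : Cfsg.IsSupersolvable G) :
    Tower G := by
  intro k
  obtain ⟨N, hN, h1, h2⟩ := exists_normal_split _ G rfl hG k
  refine ⟨Nat.card N, N.index, (Subgroup.card_mul_index N).symm, h1, h2,
    Nat.card_congr (Equiv.subtypeEquivRight fun x => ?_)⟩
  constructor
  · intro hx
    have hq : (QuotientGroup.mk x : G ⧸ N) ^ Nat.card N = 1 := by
      rw [← QuotientGroup.mk_pow, hx, QuotientGroup.mk_one]
    have hq' : (QuotientGroup.mk x : G ⧸ N) ^ N.index = 1 := by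
      rw [Subgroup.index_eq_card]; exact pow_card_eq_one'
    have h9 := pow_gcd_eq_one.2 ⟨hq, hq'⟩
    rw [Nat.Coprime.gcd_eq_one (coprime_of_split h1 h2), pow_one] at h9
    exact (QuotientGroup.eq_one_iff x).1 h9
  · intro hx
    exact congrArg Subtype.val (pow_card_eq_one' (x := (⟨x, hx⟩ : N)))

theorem solvable_of_tower : ∀ (c : ℕ) (H : Type u) [Group H] [Finite H], Nat.card H = c →
    Tower H → Group.IsSolvable H := by
  intro c
  induction c using Nat.strong_induction_on with
  | _ c ih =>
    intro H _ _ hc hT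
    by_cases h1 : Nat.card H = 1
    · have : Subsingleton H := (Nat.card_eq_one_iff_unique.1 h1).1
      infer_instance
    have hne : (Nat.card H).primeFactors.Nonempty := Nat.nonempty_primeFactors.2 (by
      have := Nat.card_pos (α := H); omega)
    set q := (Nat.card H).primeFactors.max' hne
    obtain ⟨hq, hqd, _⟩ := Nat.mem_primeFactors.1 ((Nat.card H).primeFactors.max'_mem hne)
    have : Fact q.Prime := ⟨hq⟩
    have hmax : ∀ p : ℕ, p.Prime → p ∣ Nat.card H → p ≤ q := fun p hp h =>
      Finset.le_max' _ p (Nat.mem_primeFactors.2 ⟨hp, h, Nat.card_pos.ne'⟩)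
    obtain ⟨n, d, hnd, hn, hd, hcount⟩ := hT q
    obtain ⟨P⟩ : Nonempty (Sylow q H) := inferInstance
    obtain ⟨a, ha⟩ := IsPGroup.iff_card.1 P.isPGroup'
    -- the `q`-part
    have hnq : n = Nat.card (P : Subgroup H) := by
      have hnd' : (P : Subgroup H).index * Nat.card (P : Subgroup H) = n * d := by
        rw [Subgroup.index_mul_card, hnd]
      have h5 : ¬ q ∣ (P : Subgroup H).index := P.not_dvd_index
      have hd' : Nat.Coprime (Nat.card (P : Subgroup H)) d := by
        rw [ha]
        exact Nat.Coprime.pow_left _ (hq.coprime_iff_not_dvd.2 fun h => lt_irrefl _ (hd q hq h))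
      have hn' : Nat.Coprime n (P : Subgroup H).index := by
        refine Nat.coprime_of_dvd fun p hp hpn hpi => ?_
        have := hn p hp hpn
        have := hmax p hp (hpi.trans (Subgroup.index_dvd_card _))
        exact h5 ((le_antisymm ‹p ≤ q› ‹q ≤ p›) ▸ hpi)
      exact Nat.dvd_antisymm (hn'.dvd_of_dvd_mul_left (hnd' ▸ Dvd.intro d rfl))
        (hd'.dvd_of_dvd_mul_right (hnd' ▸ Dvd.intro_left _ rfl))
    have hset : ∀ x : H, x ∈ (P : Subgroup H) ↔ x ^ n = 1 := by
      have hle : (P : Set H) ⊆ {x | x ^ n = 1} := fun x hx => by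
        show x ^ n = 1
        rw [hnq]
        exact congrArg Subtype.val (pow_card_eq_one' (x := (⟨x, hx⟩ : (P : Subgroup H))))
      have heq : (P : Set H) = {x | x ^ n = 1} := by
        refine Set.eq_of_subset_of_ncard_le hle ?_ (Set.toFinite _)
        rw [← Nat.card_coe_set_eq, ← Nat.card_coe_set_eq]
        exact (hcount.trans hnq).le
      intro x
      exact iff_of_eq (congrArg (x ∈ ·) heq)
    have hPn : (P : Subgroup H).Normal := ⟨fun x hx g => (hset _).2 (by
      rw [conj_pow, (hset x).1 hx, mul_one, mul_inv_cancel])⟩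
    set Q := (P : Subgroup H)
    have hQgt : 1 < Nat.card Q := by
      rw [ha]
      refine Nat.one_lt_pow ?_ hq.one_lt
      rintro rfl
      have h5 := P.not_dvd_index
      have h6 := Q.index_mul_card
      rw [ha, pow_zero, mul_one] at h6
      exact h5 (h6.symm ▸ hqd)
    have hcardQ : Nat.card H = Nat.card (H ⧸ Q) * Nat.card Q :=
      Subgroup.card_eq_card_quotient_mul_card_subgroup Q
    have hlt : Nat.card (H ⧸ Q) < c := by
      rw [← hc, hcardQ]; exact lt_mul_of_one_lt_right Nat.card_pos hQgt
    have hdq : ∀ p : ℕ, p.Prime → p ∣ Nat.card (H ⧸ Q) → p ∣ Nat.card H :=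
      fun p _ h => h.trans (hcardQ ▸ Dvd.intro _ rfl)
    have hTQ : Tower (H ⧸ Q) := by
      intro k
      by_cases hkq : q < k
      · refine ⟨1, Nat.card (H ⧸ Q), (one_mul _).symm,
          fun p hp h => absurd (Nat.dvd_one.1 h) hp.ne_one,
          fun p hp h => lt_of_le_of_lt (hmax p hp (hdq p hp h)) hkq, ?_⟩
        simp only [pow_one]
        exact Nat.card_unique
      push Not at hkq
      obtain ⟨n', d', hnd', hn', hd', hcount'⟩ := hT k
      have hcopd : Nat.Coprime (Nat.card Q) d' := by
        rw [ha]
        exact Nat.Coprime.pow_left _ (hq.coprime_iff_not_dvd.2 fun h =>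
          absurd (hd' q hq h) (not_lt.2 hkq))
      have hQn : Nat.card Q ∣ n' :=
        hcopd.dvd_of_dvd_mul_right (hnd' ▸ hcardQ ▸ Dvd.intro_left _ rfl)
      obtain ⟨m, rfl⟩ := hQn
      refine ⟨m, d', ?_, fun p hp h => hn' p hp (h.mul_left _), hd', ?_⟩
      · apply Nat.eq_of_mul_eq_mul_left (Nat.card_pos (α := Q))
        rw [mul_comm (Nat.card Q) (Nat.card (H ⧸ Q)), ← hcardQ, hnd', mul_assoc]
      · let e := Subgroup.groupEquivQuotientProdSubgroup (s := Q)
        have hiff : ∀ x : H, x ^ (Nat.card Q * m) = 1 ↔ (QuotientGroup.mk x : H ⧸ Q) ^ m = 1 := by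
          intro x
          rw [← QuotientGroup.mk_pow, QuotientGroup.eq_one_iff, hset, ← pow_mul, hnq, mul_comm]
        have : Nat.card {x : H // x ^ (Nat.card Q * m) = 1} =
            Nat.card {y : H ⧸ Q // y ^ m = 1} * Nat.card Q := by
          rw [← Nat.card_prod]
          exact Nat.card_congr ((Equiv.subtypeEquiv e (fun x => by
            rw [hiff]; rfl) : {x : H // x ^ (Nat.card Q * m) = 1} ≃
              {z : (H ⧸ Q) × Q // z.1 ^ m = 1}).trans
            { toFun := fun z => (⟨z.1.1, z.2⟩, z.1.2)
              invFun := fun z => ⟨(z.1.1, z.2), z.1.2⟩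
              left_inv := fun z => rfl
              right_inv := fun z => rfl })
        rw [hcount', mul_comm] at this
        exact (Nat.eq_of_mul_eq_mul_right Nat.card_pos this).symm
    have hQs : Group.IsSolvable Q := by
      have := IsPGroup.isNilpotent P.isPGroup'
      infer_instance
    have hHQ := ih _ hlt (H ⧸ Q) rfl hTQ
    exact Group.isSolvable_of_ker_le_range (Q.subtype) (QuotientGroup.mk' Q) (by simp)

/-- Let G and H be finite groups with the same order type (for every m the same number of elements of order m). If G is supersolvable then H is solvable. -/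
theorem result {G H : Type*} [Group G] [Finite G] [Group H] [Finite H] (hT : (∀ m : ℕ, Nat.card {g : G // orderOf g = m} = Nat.card {h : H // orderOf h = m})) (hG : Cfsg.IsSupersolvable G) :
    Group.IsSolvable H := by
  obtain ⟨e, he⟩ : ∃ e : G ≃ H, ∀ g, orderOf (e g) = orderOf g := by
    have hf : ∀ m : ℕ, Nonempty ({g : G // orderOf g = m} ≃ {h : H // orderOf h = m}) := fun m =>
      ⟨Finite.equivFinOfCardEq (hT m) |>.trans (Finite.equivFinOfCardEq rfl).symm⟩
    let e := fun m => (hf m).some
    exact ⟨Equiv.ofFiberEquiv e, fun g => Equiv.ofFiberEquiv_map e g⟩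
  have hG' := tower_of_supersolvable hG
  refine solvable_of_tower _ H rfl fun k => ?_
  obtain ⟨n, d, h1, h2, h3, h4⟩ := hG' k
  refine ⟨n, d, (Nat.card_congr e).symm.trans h1, h2, h3, ?_⟩
  refine Eq.trans ?_ h4
  exact (Nat.card_congr (e.subtypeEquiv fun g => by
    rw [← orderOf_dvd_iff_pow_eq_one, ← orderOf_dvd_iff_pow_eq_one, he])).symm

end Cfsg.Agent.S3998
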