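import Mathlib
-- Template for statement S4001 (row 4001; see /opt/grader/pristine/manifest.json for weights).
-- Copy to Cfsg/Agent/S4001.lean and replace the sorry. The statement below is byte-identical to the frozen
-- statement Cfsg.CfsgFrozen.S4001 (Cfsg/Statements/S4001.lean; the theorem Cfsg.fg5_two_frobenius_structure);
-- the grader kernel-checks Cfsg.Agent.S4001.result against that frozen type. Keep the theorem IN THIS FILE
-- (a `result` declared elsewhere and merely imported here is not credited); helpers may live anywhere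
-- under Cfsg/Agent/.
import Cfsg.Statements.S4001
import Cfsg.Agent.S0666
import Cfsg.Agent.Solv.FrobeniusNilp
import Cfsg.Agent.Solv.FrobeniusFpf
import Cfsg.Agent.Solv.FrobeniusAction
import Cfsg.Agent.Solv.FrobeniusOT
import Cfsg.Agent.Solv.FixedPointFree
import Cfsg.Agent.Solv.RankTwoNormal
-- import your own Cfsg.Agent.* helpers here

set_option autoImplicit false
open Cfsg

namespace Cfsg.Agent.S4001

open scoped Pointwise
open CfsgLib.Solv

theorem isCyclic_fpf_sylow {G : Type*} [Group G] [Finite G] {V A : Subgroup G} (hV : V ≠ ⊥)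
    (hAV : A ≤ Subgroup.normalizer (V : Set G))
    (hfpf : ∀ a ∈ A, a ≠ 1 → V ⊓ Subgroup.centralizer {a} = ⊥)
    {p : ℕ} [hp : Fact p.Prime] (hp2 : p ≠ 2) (P : Sylow p A) : IsCyclic (P : Subgroup A) := by
  by_contra hnc
  obtain ⟨B, -, -, hBe, hBc⟩ := exists_normal_rank_two_le hp2 P.isPGroup' (⊤ : Subgroup (P : Subgroup A))
    (fun h => hnc (Subgroup.topEquiv.isCyclic.1 h))
  let ι : (P : Subgroup A) →* G := A.subtype.comp (P : Subgroup A).subtype
  have hι : Function.Injective ι := Subtype.val_injective.comp Subtype.val_injective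
  let e := B.equivMapOfInjective ι hι
  haveI : IsMulCommutative (B.map ι) := ⟨⟨fun a b => e.symm.injective (by
    rw [map_mul, map_mul]; exact hBe.1.is_comm.comm _ _)⟩⟩
  have hle : B.map ι ≤ A := by rintro _ ⟨b, -, rfl⟩; exact b.1.2
  haveI := isCyclic_of_fpf_abelian hV (hle.trans hAV) (fun a ha => hfpf a (hle ha))
  haveI : IsCyclic B := e.isCyclic.2 inferInstance
  obtain ⟨g, hg⟩ := IsCyclic.exists_generator (α := B)
  have h1 : orderOf g ∣ p := orderOf_dvd_of_pow_eq_one (Subtype.ext (hBe.2 g g.2))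
  rw [orderOf_eq_card_of_forall_mem_zpowers hg, hBc] at h1
  have := Nat.le_of_dvd hp.out.pos h1
  nlinarith [hp.out.two_le]

theorem exists_order_dvd {A : Type*} [Group A] [Finite A] [IsCyclic A] {n : ℕ} (hn : n ∣ Nat.card A) :
    ∃ a : A, orderOf a = n := by
  obtain ⟨z, hz⟩ := IsCyclic.exists_generator (α := A)
  have h1 := orderOf_eq_card_of_forall_mem_zpowers hz
  exact ⟨z ^ (orderOf z / n), orderOf_pow_orderOf_div (by rw [h1]; exact Nat.card_pos.ne') (h1 ▸ hn)⟩

/-- Let G be a 2-Frobenius group: it has normal subgroups H < K with K a Frobenius group with kernel H and G/H a Frobenius group with kernel K/H. Then G is solvable; K/H has odd order coprime to the order of H and to the order of G/K (it is the image of an odd-order Hall subgroup); G/K is cyclic; and the prime graph of G has exactly two connected components, both complete: for distinct primes p, q dividing the order of G, G has an element of order pq exactly when p and q either both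 divide the order of K/H or both do not. -/
theorem result {G : Type*} [Group G] [Finite G] (H K : Subgroup G) [H.Normal] [K.Normal] (hlt : H < K)
    (hK : ∃ C : Subgroup ↥K, Cfsg.IsFrobeniusComplement C ∧ Cfsg.frobeniusKernel C = (H.subgroupOf K : Set ↥K))
    (hGH : ∃ C : Subgroup (G ⧸ H), Cfsg.IsFrobeniusComplement C ∧ Cfsg.frobeniusKernel C = (K.map (QuotientGroup.mk' H) : Set (G ⧸ H))) :
    Group.IsSolvable G ∧ Odd (Nat.card (↥K ⧸ H.subgroupOf K)) ∧
      Nat.Coprime (Nat.card (↥K ⧸ H.subgroupOf K)) (Nat.card ↥H * Nat.card (G ⧸ K)) ∧ IsCyclic (G ⧸ K) ∧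
      ∀ p q : ℕ, p.Prime → q.Prime → p ≠ q → p ∣ Nat.card G → q ∣ Nat.card G →
        ((∃ g : G, orderOf g = p * q) ↔ (p ∣ Nat.card (↥K ⧸ H.subgroupOf K) ↔ q ∣ Nat.card (↥K ⧸ H.subgroupOf K))) := by
  classical
  obtain ⟨C, hC, hCk⟩ := hK
  obtain ⟨D, hD, hDk⟩ := hGH
  obtain ⟨N1, hN1, hN1n, hN1c⟩ := frobenius_theorem hC
  obtain rfl : N1 = H.subgroupOf K := SetLike.coe_injective (hN1.trans hCk)
  let ρ := QuotientGroup.mk' H
  have hρ : Function.Surjective ρ := QuotientGroup.mk'_surjective H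
  have hρ1 : ∀ g : G, ρ g = 1 ↔ g ∈ H := fun g => QuotientGroup.eq_one_iff g
  set Kb := K.map ρ with hKb
  obtain ⟨N2, hN2, hN2n, hN2c⟩ := frobenius_theorem hD
  obtain rfl : N2 = Kb := SetLike.coe_injective (hN2.trans hDk)
  -- cardinalities
  have hHk : Nat.card (H.subgroupOf K) = Nat.card H := Nat.card_congr (Subgroup.subgroupOfEquivOfLe hlt.le).toEquiv
  have hCi : C.index = Nat.card H := hN1c.index_eq_card.trans hHk
  have hcop1 : (Nat.card C).Coprime (Nat.card H) := hCi ▸ frobenius_coprime hC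
  have hKH : Nat.card (↥K ⧸ H.subgroupOf K) = Nat.card C := by
    rw [← Subgroup.index_eq_card]; exact hN1c.symm.index_eq_card
  have hHne : H ≠ ⊥ := by
    intro h
    refine hC.2.1 (Subgroup.eq_top_of_card_eq _ ?_)
    rw [← hN1c.card_mul, hHk, h, Subgroup.card_bot, one_mul]
  haveI hHnil : Group.IsNilpotent H := by
    haveI := frobenius_isNilpotent hC hN1c.disjoint.eq_bot
    exact Group.nilpotent_of_mulEquiv (Subgroup.subgroupOfEquivOfLe hlt.le)
  set C' := C.map K.subtype with hC'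
  have hC'c : Nat.card C' = Nat.card C := (Nat.card_congr (C.equivMapOfInjective K.subtype Subtype.val_injective).toEquiv).symm
  have hC'K : C' ≤ K := Subgroup.map_subtype_le C
  have hC'H : ∀ c ∈ C', c ∈ H → c = 1 := by
    rintro _ ⟨c, hc, rfl⟩ hcH
    have h1 : c ∈ H.subgroupOf K ⊓ C := ⟨hcH, hc⟩
    rw [hN1c.disjoint.eq_bot, Subgroup.mem_bot] at h1
    rw [h1]; rfl
  have hfpf : ∀ c ∈ C', c ≠ 1 → H ⊓ Subgroup.centralizer {c} = ⊥ := by
    rintro _ ⟨c, hc, rfl⟩ hc1
    rw [eq_bot_iff]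
    rintro h ⟨hh, hhc⟩
    have h1 : (⟨h, hlt.le hh⟩ : K) ∈ H.subgroupOf K ⊓ Subgroup.centralizer {c} :=
      ⟨hh, Subgroup.mem_centralizer_singleton_iff.2 (Subtype.ext (Subgroup.mem_centralizer_singleton_iff.1 hhc))⟩
    rw [fpf_of_frobenius hC hN1c.disjoint.eq_bot hc (fun e => hc1 (by rw [e]; rfl)), Subgroup.mem_bot] at h1
    exact Subgroup.mem_bot.2 (congrArg Subtype.val h1)
  have hHnorm : ∀ S : Subgroup G, S ≤ Subgroup.normalizer (H : Set G) := fun S => by
    rw [Subgroup.normalizer_eq_top]; exact le_top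
  have hKdec : ∀ k ∈ K, ∃ h ∈ H, ∃ c ∈ C', k = h * c := by
    intro k hk
    obtain ⟨⟨⟨h, hh⟩, ⟨c, hc⟩⟩, hhc⟩ := hN1c.surjective ⟨k, hk⟩
    exact ⟨h, hh, c, ⟨c, hc, rfl⟩, (congrArg Subtype.val hhc).symm⟩
  -- the normalizer of the complement
  set Nn := Subgroup.normalizer (C' : Set G) with hNn
  have hC'N : C' ≤ Nn := Subgroup.le_normalizer
  have hNH : ∀ n ∈ Nn, n ∈ H → n = 1 := by
    intro n hn hnH
    have h1 : (⟨n, hlt.le hnH⟩ : K) ∈ Subgroup.normalizer (C : Set K) := by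
      refine Subgroup.mem_normalizer_fintype fun c hc => ?_
      obtain ⟨c₂, hc₂, heq⟩ := (Subgroup.mem_normalizer_iff.1 hn (c : G)).1 ⟨c, hc, rfl⟩
      obtain rfl : c₂ = ⟨n, hlt.le hnH⟩ * c * (⟨n, hlt.le hnH⟩ : K)⁻¹ := Subtype.ext heq
      exact hc₂
    rw [frobenius_normalizer_eq hC] at h1
    exact hC'H n ⟨_, h1, rfl⟩ hnH
  have hgen : ∀ g : G, ∃ h ∈ H, ∃ n ∈ Nn, g = h * n := by
    intro g
    let φ : MulAut K := MulAut.conjNormal g
    have hC2 := frobenius_of_mulEquiv φ hC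
    obtain ⟨k, hk⟩ := frobenius_le_conj_of_card_le hC hC2
      (by rw [Nat.card_congr (C.equivMapOfInjective φ.toMonoidHom φ.injective).toEquiv])
    have hn : (k : G) * g ∈ Nn := by
      refine Subgroup.mem_normalizer_fintype ?_
      rintro _ ⟨c, hc, rfl⟩
      refine ⟨k * φ c * k⁻¹, hk (Subgroup.smul_mem_pointwise_smul (φ c) (MulAut.conj k) _ ⟨c, hc, rfl⟩), ?_⟩
      show (k : G) * (g * (c : G) * g⁻¹) * (k : G)⁻¹ = (k : G) * g * (c : G) * ((k : G) * g)⁻¹
      group
    obtain ⟨h, hh, c, hc, hkeq⟩ := hKdec ((k : G)⁻¹) (K.inv_mem k.2)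
    exact ⟨h, hh, c * ((k : G) * g), Nn.mul_mem (hC'N hc) hn, by rw [← mul_assoc, ← hkeq, inv_mul_cancel_left]⟩
  let e : Nn ≃* G ⧸ H := MulEquiv.ofBijective (ρ.comp Nn.subtype) ⟨by
    rw [injective_iff_map_eq_one]
    exact fun n hn => Subtype.ext (hNH n n.2 ((hρ1 n).1 hn)), fun q => by
    obtain ⟨g, rfl⟩ := hρ q
    obtain ⟨h, hh, n, hn, rfl⟩ := hgen g
    exact ⟨⟨n, hn⟩, show ρ n = ρ (h * n) by rw [map_mul, (hρ1 h).2 hh, one_mul]⟩⟩
  have he : ∀ n : Nn, e n = ρ n := fun n => rfl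
  let fC : C' ≃* Kb := MulEquiv.ofBijective
    ((ρ.comp C'.subtype).codRestrict Kb fun c => ⟨c, hC'K c.2, rfl⟩) ⟨by
      rw [injective_iff_map_eq_one]
      exact fun c hc => Subtype.ext (hC'H c c.2 ((hρ1 c).1 (congrArg Subtype.val hc))), by
      rintro ⟨_, k, hk, rfl⟩
      obtain ⟨h, hh, c, hc, rfl⟩ := hKdec k hk
      exact ⟨⟨c, hc⟩, Subtype.ext (show ρ c = ρ (h * c) by rw [map_mul, (hρ1 h).2 hh, one_mul])⟩⟩
  have hKbc : Nat.card Kb = Nat.card C := (Nat.card_congr fC.toEquiv).symm.trans hC'c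
  have hDi : D.index = Nat.card C := hN2c.index_eq_card.trans hKbc
  have hKbi : Kb.index = Nat.card D := hN2c.symm.index_eq_card
  have hcop2 : (Nat.card D).Coprime (Nat.card C) := hDi ▸ frobenius_coprime hD
  have hGK : Nat.card (G ⧸ K) = Nat.card D := by
    rw [← Subgroup.index_eq_card, ← hKbi, hKb, Subgroup.index_map_eq K hρ (by rw [QuotientGroup.ker_mk']; exact hlt.le)]
  have hfpf2 : ∀ d ∈ D, d ≠ 1 → Kb ⊓ Subgroup.centralizer {d} = ⊥ :=
    fun d hd hd1 => fpf_of_frobenius hD hN2c.disjoint.eq_bot hd hd1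
  haveI : Group.IsNilpotent Kb := frobenius_isNilpotent hD hN2c.disjoint.eq_bot
  haveI : Group.IsNilpotent C' := Group.nilpotent_of_mulEquiv fC.symm
  -- odd order
  have hodd : ¬ 2 ∣ Nat.card C' := by
    intro h2
    obtain ⟨s, hs⟩ := exists_prime_orderOf_dvd_card' (G := C') 2 h2
    have hinv : ∀ t : C', orderOf t = 2 → ∀ h ∈ H, (t : G) * h * (t : G)⁻¹ = h⁻¹ := by
      intro t ht h hh
      have ht' : orderOf (t : G) = 2 := by rw [Subgroup.orderOf_coe, ht]
      refine conj_eq_inv_of_fpf_involution ?_ (hHnorm C' t.2) (hfpf _ t.2 ?_) hh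
      · rw [← pow_two, ← ht', pow_orderOf_eq_one]
      · intro e; rw [e, orderOf_one] at ht'; omega
    have huniq : ∀ t : C', orderOf t = 2 → (t : G) = s := by
      intro t ht
      obtain ⟨h, hh, hh1⟩ : ∃ h ∈ H, h ≠ 1 := by
        by_contra hcon
        push Not at hcon
        exact hHne ((Subgroup.eq_bot_iff_forall _).2 hcon)
      by_contra hne
      refine hh1 ?_
      have h1 : (h : G) ∈ H ⊓ Subgroup.centralizer {(s : G)⁻¹ * t} := by
        refine ⟨hh, Subgroup.mem_centralizer_singleton_iff.2 ?_⟩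
        have e1 := hinv t ht h hh
        have e2 := hinv s hs h hh
        rw [← e2] at e1
        calc (h : G) * ((s : G)⁻¹ * t) = (s : G)⁻¹ * ((s : G) * h * (s : G)⁻¹) * t := by group
          _ = (s : G)⁻¹ * ((t : G) * h * (t : G)⁻¹) * t := by rw [e1]
          _ = _ := by group
      rw [hfpf _ (C'.mul_mem (C'.inv_mem s.2) t.2) (fun e => hne (inv_mul_eq_one.1 e).symm), Subgroup.mem_bot] at h1
      exact h1
    obtain ⟨d, hd, hd1⟩ : ∃ d ∈ D, d ≠ 1 := by
      by_contra hcon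
      push Not at hcon
      exact hD.1 ((Subgroup.eq_bot_iff_forall D).2 hcon)
    obtain ⟨n, rfl⟩ := e.surjective d
    have h1 : (n : G) * s * (n : G)⁻¹ = s := huniq ⟨_, (Subgroup.mem_normalizer_iff.1 n.2 (s : G)).1 s.2⟩ (by
      rw [← Subgroup.orderOf_coe]
      show orderOf (MulAut.conj (n : G) (s : G)) = 2
      rw [MulEquiv.orderOf_eq, Subgroup.orderOf_coe, hs])
    have h2 : ρ s ∈ Kb ⊓ Subgroup.centralizer {e n} := ⟨⟨s, hC'K s.2, rfl⟩, by
      refine Subgroup.mem_centralizer_singleton_iff.2 ?_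
      rw [he, ← map_mul, ← map_mul, mul_inv_eq_iff_eq_mul.1 h1]⟩
    rw [hfpf2 _ hd hd1, Subgroup.mem_bot] at h2
    rw [Subtype.ext (hC'H s s.2 ((hρ1 s).1 h2)) (a2 := (1 : C')), orderOf_one] at hs
    omega
  haveI : IsZGroup C' := ⟨fun p hp P => by
    haveI := Fact.mk hp
    by_cases hp2 : p = 2
    · subst hp2
      obtain ⟨k, hk⟩ := IsPGroup.iff_card.1 P.isPGroup'
      rcases k with _ | k
      · haveI : Subsingleton (P : Subgroup C') := (Nat.card_eq_one_iff_unique.1 (by rw [hk, pow_zero])).1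
        infer_instance
      · exact absurd (((dvd_pow_self 2 k.succ_ne_zero).trans hk.symm.dvd).trans (Subgroup.card_subgroup_dvd_card _)) hodd
    · exact isCyclic_fpf_sylow hHne (hHnorm C') hfpf hp2 P⟩
  haveI hC'cyc : IsCyclic C' := inferInstance
  haveI : IsCyclic Kb := fC.isCyclic.1 hC'cyc
  haveI hDab : IsMulCommutative D := by
    obtain ⟨⟨z, hz⟩, hzg⟩ := IsCyclic.exists_generator (α := Kb)
    have hz1 : z ≠ 1 := fun h => by
      have h1 : Nat.card Kb = 1 := by
        rw [← orderOf_eq_card_of_forall_mem_zpowers hzg, ← Subgroup.orderOf_coe]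
        show orderOf z = 1
        rw [h, orderOf_one]
      exact hC.1 (Subgroup.card_eq_one.1 (hKbc ▸ h1))
    have hact : ∀ d : G ⧸ H, ∃ i : ℤ, d * z * d⁻¹ = z ^ i := fun d => by
      obtain ⟨i, hi⟩ := Subgroup.mem_zpowers_iff.1 (hzg ⟨d * z * d⁻¹, hN2n.conj_mem z hz d⟩)
      exact ⟨i, (congrArg Subtype.val hi).symm⟩
    refine ⟨⟨fun a b => Subtype.ext ?_⟩⟩
    show (a : G ⧸ H) * b = b * a
    by_contra hne
    obtain ⟨i, hi⟩ := hact a
    obtain ⟨j, hj⟩ := hact b
    have h1 : (a : G ⧸ H) * (b * z * (b : G ⧸ H)⁻¹) * (a : G ⧸ H)⁻¹ = b * (a * z * (a : G ⧸ H)⁻¹) * (b : G ⧸ H)⁻¹ := by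
      rw [hi, hj, ← MulAut.conj_apply, map_zpow, MulAut.conj_apply, hi, ← MulAut.conj_apply (b : G ⧸ H),
        map_zpow, MulAut.conj_apply, hj, ← zpow_mul, ← zpow_mul, mul_comm]
    have h2 : z ∈ Kb ⊓ Subgroup.centralizer {((b : G ⧸ H) * a)⁻¹ * (a * b)} := by
      refine ⟨hz, Subgroup.mem_centralizer_singleton_iff.2 ?_⟩
      calc z * (((b : G ⧸ H) * a)⁻¹ * (a * b))
          = ((b : G ⧸ H) * a)⁻¹ * ((b * (a * z * (a : G ⧸ H)⁻¹) * (b : G ⧸ H)⁻¹)) * (a * b) := by group
        _ = ((b : G ⧸ H) * a)⁻¹ * ((a : G ⧸ H) * (b * z * (b : G ⧸ H)⁻¹) * (a : G ⧸ H)⁻¹) * (a * b) := by rw [h1]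
        _ = _ := by group
    rw [hfpf2 _ (D.mul_mem (D.inv_mem (D.mul_mem b.2 a.2)) (D.mul_mem a.2 b.2))
      (fun e => hne (inv_mul_eq_one.1 e).symm), Subgroup.mem_bot] at h2
    exact hz1 h2
  have hKbne : Kb ≠ ⊥ := fun h => hC.1 (Subgroup.card_eq_one.1 (by rw [← hKbc, h, Subgroup.card_bot]))
  haveI hDcyc : IsCyclic D := isCyclic_of_fpf_abelian hKbne (by
    haveI := hN2n; rw [Subgroup.normalizer_eq_top]; exact le_top) hfpf2
  -- maps from the top complement
  have hDsurj : ∀ q : G ⧸ H, ∃ x ∈ Kb, ∃ d ∈ D, q = x * d := fun q => by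
    obtain ⟨⟨⟨x, hx⟩, ⟨d, hd⟩⟩, hxd⟩ := hN2c.surjective q
    exact ⟨x, hx, d, hd, hxd.symm⟩
  let ψ : D →* G ⧸ K := (QuotientGroup.map H K (MonoidHom.id G) hlt.le).comp D.subtype
  have hψ : Function.Surjective ψ := fun q => by
    obtain ⟨g, rfl⟩ := QuotientGroup.mk'_surjective K q
    obtain ⟨_, ⟨k, hk, rfl⟩, d, hd, hg⟩ := hDsurj (ρ g)
    refine ⟨⟨d, hd⟩, ?_⟩
    have h1 := congrArg (QuotientGroup.map H K (MonoidHom.id G) hlt.le) hg
    rw [map_mul, show (QuotientGroup.map H K (MonoidHom.id G) hlt.le) (ρ k) = 1 from (QuotientGroup.eq_one_iff k).2 hk,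
      one_mul] at h1
    exact h1.symm
  haveI hGKcyc : IsCyclic (G ⧸ K) := isCyclic_of_surjective ψ hψ
  refine ⟨?_, ?_, ?_, hGKcyc, ?_⟩
  · refine (Group.isSolvable_iff_subgroup_quotient K).2 ⟨?_, ?_⟩
    · refine (Group.isSolvable_iff_subgroup_quotient (H.subgroupOf K)).2 ⟨?_, ?_⟩
      · haveI : Group.IsSolvable H := inferInstance
        exact Group.isSolvable_of_isSolvable_injective (f := (Subgroup.subgroupOfEquivOfLe hlt.le).toMonoidHom) (MulEquiv.injective _)
      · let g : C →* ↥K ⧸ H.subgroupOf K := (QuotientGroup.mk' (H.subgroupOf K)).comp C.subtype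
        have hg : Function.Surjective g := fun q => by
          obtain ⟨k, rfl⟩ := QuotientGroup.mk'_surjective _ q
          obtain ⟨⟨⟨h, hh⟩, c⟩, rfl⟩ := hN1c.surjective k
          refine ⟨c, ?_⟩
          show QuotientGroup.mk' _ (c : K) = QuotientGroup.mk' _ (h * (c : K))
          rw [map_mul, show QuotientGroup.mk' (H.subgroupOf K) h = 1 from (QuotientGroup.eq_one_iff h).2 hh, one_mul]
        haveI : IsCyclic C := (C.equivMapOfInjective K.subtype Subtype.val_injective).isCyclic.2 hC'cyc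
        haveI : Group.IsSolvable C := inferInstance
        exact Group.isSolvable_of_surjective hg
    · infer_instance
  · rw [hKH, ← hC'c, ← Nat.not_even_iff_odd, even_iff_two_dvd]; exact hodd
  · rw [hKH, hGK]; exact hcop1.mul_right hcop2.symm
  intro p q hp hq hpq hpG hqG
  haveI := Fact.mk hp
  haveI := Fact.mk hq
  rw [hKH]
  have hcardG : Nat.card G = Nat.card H * (Nat.card C * Nat.card D) := by
    rw [← Subgroup.card_mul_index H, Subgroup.index_eq_card, ← hN2c.card_mul, hKbc]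
  -- mixed pairs do not occur
  have hmixed : ∀ (p q : ℕ) [Fact p.Prime] [Fact q.Prime], p ∣ Nat.card C → ¬ q ∣ Nat.card C →
      ∀ g : G, orderOf g ≠ p * q := by
    intro p q hp' hq' hpc hqc g hg
    have hpne : p ≠ q := fun h => hqc (h ▸ hpc)
    have hpH : ¬ p ∣ Nat.card H := fun h => hp'.out.one_lt.ne' (Nat.eq_one_of_dvd_coprimes hcop1 hpc h)
    have hpD : ¬ p ∣ Nat.card D := fun h => hp'.out.one_lt.ne' (Nat.eq_one_of_dvd_coprimes hcop2 h hpc)
    have hgq : orderOf (g ^ q) = p := by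
      rw [orderOf_pow' g hq'.out.ne_zero, hg, Nat.gcd_mul_left_left, Nat.mul_div_cancel _ hq'.out.pos]
    have hgp : orderOf (g ^ p) = q := by
      rw [orderOf_pow' g hp'.out.ne_zero, hg, Nat.gcd_mul_right_left, Nat.mul_div_cancel_left _ hp'.out.pos]
    have hdvd : orderOf (ρ g) ∣ p * q := hg ▸ orderOf_map_dvd ρ g
    have hqK : g ^ q ∈ K := by
      have h1 : orderOf (QuotientGroup.mk' K (g ^ q)) ∣ p := hgq ▸ orderOf_map_dvd _ _
      rcases (Nat.dvd_prime hp'.out).1 h1 with h | h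
      · exact (QuotientGroup.eq_one_iff _).1 (orderOf_eq_one_iff.1 h)
      · exact absurd (h ▸ hGK ▸ orderOf_dvd_natCard _) hpD
    have hnot : ¬ orderOf (ρ g) = p * q :=
      frobenius_no_mixed hD hDk.symm hN2c (by rw [hKbi, hKbc]; exact hcop2.symm) (hKbc.symm ▸ hpc) (hKbc.symm ▸ hqc) (ρ g)
    have hpH' : g ^ p ∈ H := by
      refine (hρ1 _).1 ?_
      rw [map_pow]
      rcases (Nat.dvd_mul.1 hdvd) with ⟨a, b, ha, hb, hab⟩
      rcases (Nat.dvd_prime hq'.out).1 hb with rfl | rfl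
      · rw [mul_one] at hab
        exact orderOf_dvd_iff_pow_eq_one.1 (hab ▸ ha)
      · rcases (Nat.dvd_prime hp'.out).1 ha with rfl | rfl
        · rw [one_mul] at hab
          exfalso
          have h1 : ρ (g ^ b) = 1 := by rw [map_pow, hab]; exact pow_orderOf_eq_one _
          exact hpH (hgq ▸ (Subgroup.orderOf_coe (⟨g ^ b, (hρ1 _).1 h1⟩ : H)).symm ▸ orderOf_dvd_natCard _)
        · exact absurd hab.symm hnot
    have hgK : g ∈ K := by
      obtain ⟨u, v, huv⟩ := (Nat.Coprime.isCoprime ((Nat.coprime_primes hp'.out hq'.out).2 hpne))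
      have h1 : g = (g ^ p) ^ u * (g ^ q) ^ v := by
        rw [← zpow_natCast g p, ← zpow_natCast g q, ← zpow_mul, ← zpow_mul, ← zpow_add, mul_comm (p : ℤ),
          mul_comm (q : ℤ), huv, zpow_one]
      rw [h1]
      exact K.mul_mem (K.zpow_mem (hlt.le hpH') _) (K.zpow_mem hqK _)
    refine frobenius_no_mixed hC hN1 hN1c (by rw [hN1c.symm.index_eq_card, hHk]; exact hcop1.symm) (p := q) (q := p)
      ?_ (by rw [hHk]; exact hpH) ⟨g, hgK⟩ (by rw [Subgroup.orderOf_mk, hg, mul_comm])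
    rw [hHk, ← hgp, ← Subgroup.orderOf_mk (H := H) (g ^ p) hpH']
    exact orderOf_dvd_natCard _
  constructor
  · rintro ⟨g, hg⟩
    constructor
    · intro h; by_contra h'
      exact hmixed p q h h' g hg
    · intro h; by_contra h'
      exact hmixed q p h h' g (by rw [hg, mul_comm])
  intro hiff
  by_cases hpc : p ∣ Nat.card C
  · obtain ⟨a, ha⟩ := exists_order_dvd (A := C') (n := p * q)
      (hC'c.symm ▸ ((Nat.coprime_primes hp hq).2 hpq).mul_dvd_of_dvd_of_dvd hpc (hiff.1 hpc))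
    exact ⟨a, by rw [Subgroup.orderOf_coe, ha]⟩
  have hqc : ¬ q ∣ Nat.card C := fun h => hpc (hiff.2 h)
  have hHD : ∀ r : ℕ, r.Prime → r ∣ Nat.card G → ¬ r ∣ Nat.card C → r ∣ Nat.card H ∨ r ∣ Nat.card D := by
    intro r hr h hrc
    rw [hcardG] at h
    exact (hr.dvd_mul.1 h).imp_right fun h => (hr.dvd_mul.1 h).resolve_left hrc
  -- one prime in the top, one in the bottom
  have hcase : ∀ (p q : ℕ) [Fact p.Prime] [Fact q.Prime], p ≠ q → p ∣ Nat.card D → q ∣ Nat.card H →
      ∃ g : G, orderOf g = p * q := by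
    intro p q hp' hq' hne hpD hqH
    obtain ⟨⟨d, hd⟩, hdo⟩ := exists_prime_orderOf_dvd_card' (G := D) p hpD
    rw [Subgroup.orderOf_mk] at hdo
    obtain ⟨n, rfl⟩ := e.surjective d
    have hno : orderOf (n : G) = p := by rw [Subgroup.orderOf_coe, ← hdo, MulEquiv.orderOf_eq]
    set F := C' ⊔ Subgroup.zpowers (n : G) with hF
    have hFN : F ≤ Nn := sup_le hC'N (Subgroup.zpowers_le.2 n.2)
    haveI : (C'.subgroupOf F).Normal := Subgroup.normal_subgroupOf_iff_le_normalizer le_sup_left |>.2 hFN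
    have hdis : ∀ x ∈ C', x ∈ Subgroup.zpowers (n : G) → x = 1 := by
      intro x hx hxn
      obtain ⟨i, rfl⟩ := Subgroup.mem_zpowers_iff.1 hxn
      have h1 : (e n) ^ i ∈ Kb ⊓ D := ⟨by
        rw [he, ← map_zpow]; exact ⟨_, hC'K hx, rfl⟩, D.zpow_mem hd i⟩
      rw [hN2c.disjoint.eq_bot, Subgroup.mem_bot, he, ← map_zpow, hρ1] at h1
      exact hC'H _ hx h1
    have hcompl : Subgroup.IsComplement' (C'.subgroupOf F) ((Subgroup.zpowers (n : G)).subgroupOf F) := by
      refine Subgroup.isComplement'_of_disjoint_and_mul_eq_univ ?_ ?_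
      · rw [disjoint_iff, eq_bot_iff]
        rintro x ⟨hx1, hx2⟩
        exact Subtype.ext (hdis _ hx1 hx2)
      · rw [← Subgroup.normal_mul, ← Subgroup.subgroupOf_sup le_sup_left le_sup_right, Subgroup.subgroupOf_self,
          Subgroup.coe_top]
    have hFr := (frobenius_of_fpf hcompl (fun h => by
        have h1 : C' = ⊥ := by
          rw [eq_bot_iff]; intro x hx
          have h2 : (⟨x, le_sup_left (b := Subgroup.zpowers (n : G)) hx⟩ : F) ∈ C'.subgroupOf F := hx
          rw [h, Subgroup.mem_bot] at h2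
          exact congrArg Subtype.val h2
        exact hC.1 (Subgroup.card_eq_one.1 (by rw [← hC'c, h1, Subgroup.card_bot])))
      (fun h => by
        have h2 : (⟨(n : G), le_sup_right (a := C') (Subgroup.mem_zpowers _)⟩ : F) ∈ (Subgroup.zpowers (n : G)).subgroupOf F :=
          Subgroup.mem_zpowers _
        rw [h, Subgroup.mem_bot] at h2
        rw [show (n : G) = 1 from congrArg Subtype.val h2, orderOf_one] at hno
        exact hp'.out.one_lt.ne hno) ?_)
    rotate_left
    · intro x hx hx1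
      rw [eq_bot_iff]
      rintro c ⟨hc, hcx⟩
      obtain ⟨i, hi⟩ := Subgroup.mem_zpowers_iff.1 hx
      have h1 : ρ (c : G) ∈ Kb ⊓ Subgroup.centralizer {(e n) ^ i} := ⟨⟨_, hC'K hc, rfl⟩, by
        refine Subgroup.mem_centralizer_singleton_iff.2 ?_
        rw [he, ← map_zpow, hi, ← map_mul, ← map_mul]
        exact congrArg ρ (congrArg Subtype.val (Subgroup.mem_centralizer_singleton_iff.1 hcx))⟩
      rw [hfpf2 _ (D.zpow_mem hd i) (fun hh => hx1 (Subtype.ext ?_)), Subgroup.mem_bot] at h1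
      · exact Subgroup.mem_bot.2 (Subtype.ext (hC'H _ hc ((hρ1 _).1 h1)))
      · show F.subtype x = 1
        rw [← hi, ← Subgroup.coe_zpow, show n ^ i = 1 from e.injective (by rw [map_zpow, hh, map_one])]
        rfl
    obtain ⟨Qs⟩ : Nonempty (Sylow q H) := inferInstance
    haveI : (Qs : Subgroup H).Characteristic := Qs.characteristic_of_normal inferInstance
    set Q' := (Qs : Subgroup H).map H.subtype with hQ'
    haveI hQ'n : Q'.Normal := ConjAct.normal_of_characteristic_of_normal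
    set V := (Subgroup.center Q').map Q'.subtype with hV
    haveI hVn : V.Normal := ConjAct.normal_of_characteristic_of_normal
    have hQp : IsPGroup q Q' := Qs.isPGroup'.map _
    have hVH : V ≤ H := (Subgroup.map_subtype_le _).trans (Subgroup.map_subtype_le _)
    have hVq : IsPGroup q V := (hQp.to_subgroup _).map _
    haveI : Nontrivial Q' := by
      rw [Subgroup.nontrivial_iff_ne_bot, hQ']
      intro h
      rw [Subgroup.map_eq_bot_iff_of_injective _ Subtype.val_injective] at h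
      exact Qs.ne_bot_of_dvd_card hqH h
    have hVne : V ≠ ⊥ := by
      rw [hV, Ne, Subgroup.map_eq_bot_iff_of_injective _ Subtype.val_injective, ← Ne,
        ← Subgroup.nontrivial_iff_ne_bot]
      exact hQp.center_nontrivial
    have hVab : IsMulCommutative V := by
      refine ⟨⟨?_⟩⟩
      rintro ⟨_, a, ha, rfl⟩ ⟨_, b, hb, rfl⟩
      exact Subtype.ext (congrArg Subtype.val (Subgroup.mem_center_iff.1 hb a) : _)
    obtain ⟨c, hcC, hc1⟩ : ∃ c ∈ C', c ≠ 1 := by
      by_contra hcon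
      push Not at hcon
      exact hC.1 (Subgroup.card_eq_one.1 (by rw [← hC'c, (Subgroup.eq_bot_iff_forall _).2 hcon, Subgroup.card_bot]))
    have hne' : V ⊓ Subgroup.centralizer (((((Subgroup.zpowers (n : G)).subgroupOf F).map F.subtype : Subgroup G)) : Set G) ≠ ⊥ := by
      refine Cfsg.Agent.S0666.result V F hVab hVne (by rw [Subgroup.normalizer_eq_top]; exact le_top) _ hFr.1 ?_ ?_
      · rw [hFr.2]
        show (Nat.card V).Coprime (Nat.card (C'.subgroupOf F))
        rw [Nat.card_congr (Subgroup.subgroupOfEquivOfLe le_sup_left).toEquiv, hC'c]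
        exact (hcop1.coprime_dvd_right (Subgroup.card_dvd_of_le hVH)).symm
      · rw [hFr.2, eq_bot_iff]
        rintro v ⟨hv, hvc⟩
        have h1 : v ∈ H ⊓ Subgroup.centralizer {c} := ⟨hVH hv, Subgroup.mem_centralizer_singleton_iff.2
          (Subgroup.mem_centralizer_iff.1 hvc c ⟨⟨c, le_sup_left (b := Subgroup.zpowers (n : G)) hcC⟩, hcC, rfl⟩).symm⟩
        rwa [hfpf c hcC hc1] at h1
    obtain ⟨⟨v, hv, hvc⟩, hv1⟩ := Subgroup.ne_bot_iff_exists_ne_one.1 hne'
    have hnv : (n : G) * v = v * n := Subgroup.mem_centralizer_iff.1 hvc n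
      ⟨⟨(n : G), le_sup_right (a := C') (Subgroup.mem_zpowers _)⟩, Subgroup.mem_zpowers (n : G), rfl⟩
    obtain ⟨k, hk⟩ := IsPGroup.iff_orderOf.1 hVq ⟨v, hv⟩
    rw [Subgroup.orderOf_mk] at hk
    rcases k with _ | k
    · exact absurd (Subtype.ext (orderOf_eq_one_iff.1 (by rw [hk, pow_zero]))) hv1
    have hw : orderOf (v ^ q ^ k) = q := by
      rw [orderOf_pow' v (pow_ne_zero k hq'.out.ne_zero), hk, Nat.gcd_eq_right (pow_dvd_pow q k.le_succ), pow_succ',
        Nat.mul_div_cancel _ (pow_pos hq'.out.pos k)]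
    refine ⟨(n : G) * v ^ q ^ k, ?_⟩
    rw [(Commute.pow_right hnv _).orderOf_mul_eq_mul_orderOf_of_coprime (by
      rw [hno, hw]; exact (Nat.coprime_primes hp'.out hq'.out).2 hne), hno, hw]
  rcases hHD p hp hpG hpc with hpH | hpD
  · rcases hHD q hq hqG hqc with hqH | hqD
    · obtain ⟨P⟩ : Nonempty (Sylow p H) := inferInstance
      obtain ⟨Q⟩ : Nonempty (Sylow q H) := inferInstance
      obtain ⟨x, hx⟩ := exists_prime_orderOf_dvd_card' (G := (P : Subgroup H)) p (P.dvd_card_of_dvd_card hpH)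
      obtain ⟨y, hy⟩ := exists_prime_orderOf_dvd_card' (G := (Q : Subgroup H)) q (Q.dvd_card_of_dvd_card hqH)
      have hdis : Disjoint (P : Subgroup H) (Q : Subgroup H) := IsPGroup.disjoint_of_ne p q hpq _ _ P.isPGroup' Q.isPGroup'
      have hc : Commute (x : H) (y : H) := Subgroup.commute_of_normal_of_disjoint _ _ inferInstance inferInstance hdis _ _ x.2 y.2
      refine ⟨((x : H) * (y : H) : H), ?_⟩
      rw [Subgroup.orderOf_coe, hc.orderOf_mul_eq_mul_orderOf_of_coprime (by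
        rw [Subgroup.orderOf_coe, Subgroup.orderOf_coe, hx, hy]; exact (Nat.coprime_primes hp hq).2 hpq),
        Subgroup.orderOf_coe, Subgroup.orderOf_coe, hx, hy]
    · obtain ⟨g, hg⟩ := hcase q p hpq.symm hqD hpH
      exact ⟨g, by rw [hg, mul_comm]⟩
  · rcases hHD q hq hqG hqc with hqH | hqD
    · exact hcase p q hpq hpD hqH
    · obtain ⟨a, ha⟩ := exists_order_dvd (A := D) (n := p * q)
        (((Nat.coprime_primes hp hq).2 hpq).mul_dvd_of_dvd_of_dvd hpD hqD)
      obtain ⟨n, hn⟩ := e.surjective a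
      exact ⟨n, by rw [Subgroup.orderOf_coe, ← MulEquiv.orderOf_eq e, hn, Subgroup.orderOf_coe, ha]⟩

end Cfsg.Agent.S4001
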