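import Cfsg.Statements.S4002

import Mathlib
import Cfsg.Agent.Solv.WardAverage
import Cfsg.Agent.Solv.Generation
import Cfsg.Agent.Solv.Hall
import Cfsg.Agent.Solv.MinimalNormal

set_option autoImplicit false
set_option linter.style.haveILetI false
open Cfsg

namespace Cfsg.Agent.S4002

/-- Lucido's three primes lemma. -/
theorem not_three_primes {H : Type*} [Group H] [Finite H] [Group.IsSolvable H]
    (hp3 : 3 ≤ (Nat.card H).primeFactors.card)
    (hno : ∀ a b : ℕ, a.Prime → b.Prime → a ≠ b → ∀ x : H, orderOf x ≠ a * b) : False := by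
  classical
  haveI : Nontrivial H := by
    rcases subsingleton_or_nontrivial H with h | h
    · have : Nat.card H = 1 := Nat.card_unique
      rw [this] at hp3; simp at hp3
    · exact h
  obtain ⟨V, t, ht, hVmin, hVc, hVexp, hVp⟩ := CfsgLib.Solv.exists_minimal_normal_pGroup (G := H)
  haveI := hVmin.1
  haveI : Fact t.Prime := ⟨ht⟩
  have hcl : ∀ a b : ℕ, a.Prime → b.Prime → a ≠ b → ∀ x y : H, x ^ a = 1 → y ^ b = 1 → x * y = y * x →
      x = 1 ∨ y = 1 := by
    intro a b ha hb hab x y hx hy hxy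
    by_contra hcon
    push Not at hcon
    haveI : Fact a.Prime := ⟨ha⟩
    haveI : Fact b.Prime := ⟨hb⟩
    have h1 := orderOf_eq_prime hx hcon.1
    have h2 := orderOf_eq_prime hy hcon.2
    refine hno a b ha hb hab (x * y) ?_
    rw [Commute.orderOf_mul_eq_mul_orderOf_of_coprime hxy (by rw [h1, h2]; exact (Nat.coprime_primes ha hb).mpr hab), h1, h2]
  have h2 : 2 ≤ ((Nat.card H).primeFactors.erase t).card := by
    have := Finset.pred_card_le_card_erase (a := t) (s := (Nat.card H).primeFactors)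
    omega
  obtain ⟨s₀, hs₀, u₀, hu₀, hne⟩ := Finset.one_lt_card.mp (by omega : 1 < ((Nat.card H).primeFactors.erase t).card)
  obtain ⟨hs₀t, hs₀m⟩ := Finset.mem_erase.mp hs₀
  obtain ⟨hu₀t, hu₀m⟩ := Finset.mem_erase.mp hu₀
  have hs₀p := Nat.prime_of_mem_primeFactors hs₀m
  have hu₀p := Nat.prime_of_mem_primeFactors hu₀m
  obtain ⟨K, hK, hKi⟩ := CfsgLib.Solv.exists_hall (CfsgLib.Solv.PiSolvable.of_isSolvable (G := H) ({s₀, u₀} : Set ℕ))
  have hdivK : ∀ w ∈ ({s₀, u₀} : Set ℕ), w.Prime → w ∣ Nat.card H → w ∣ Nat.card K := by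
    intro w hw hwp hwd
    rw [← K.card_mul_index] at hwd
    exact (hwp.dvd_mul.mp hwd).resolve_right fun h => hKi w hwp h hw
  haveI : Nontrivial K := by
    rw [← Finite.one_lt_card_iff_nontrivial]
    exact lt_of_lt_of_le hs₀p.one_lt (Nat.le_of_dvd Nat.card_pos
      (hdivK s₀ (by simp) hs₀p (Nat.dvd_of_mem_primeFactors hs₀m)))
  obtain ⟨W₀, s, hs, hWmin, hWc, hWexp, hWp⟩ := CfsgLib.Solv.exists_minimal_normal_pGroup (G := K)
  haveI := hWmin.1
  haveI : Fact s.Prime := ⟨hs⟩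
  have hsK : s ∈ ({s₀, u₀} : Set ℕ) := by
    obtain ⟨j, hj⟩ := IsPGroup.iff_card.mp hWp
    have hj0 : j ≠ 0 := fun h => hWmin.2.1 (Subgroup.card_eq_one.mp (by rw [hj, h, pow_zero]))
    exact hK s hs ((dvd_pow_self s hj0).trans (hj ▸ W₀.card_subgroup_dvd_card))
  obtain ⟨u, hu, hus, hut, huK⟩ : ∃ u : ℕ, u.Prime ∧ u ≠ s ∧ u ≠ t ∧ u ∣ Nat.card K := by
    rcases Set.mem_insert_iff.mp hsK with h | h
    · exact ⟨u₀, hu₀p, h ▸ hne.symm, hu₀t, hdivK u₀ (by simp) hu₀p (Nat.dvd_of_mem_primeFactors hu₀m)⟩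
    · rw [Set.mem_singleton_iff] at h
      exact ⟨s₀, hs₀p, h ▸ hne, hs₀t, hdivK s₀ (by simp) hs₀p (Nat.dvd_of_mem_primeFactors hs₀m)⟩
  have hst : s ≠ t := by
    rcases Set.mem_insert_iff.mp hsK with h | h
    · exact h ▸ hs₀t
    · exact (Set.mem_singleton_iff.mp h) ▸ hu₀t
  haveI : Fact u.Prime := ⟨hu⟩
  obtain ⟨y₀, hy₀⟩ := exists_prime_orderOf_dvd_card' u huK
  set y : H := (y₀ : H) with hy
  set W : Subgroup H := W₀.map K.subtype with hW
  have hWy : y ∈ Subgroup.normalizer (W : Set H) := by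
    refine Subgroup.mem_normalizer_fintype ?_
    rintro _ ⟨w, hw, rfl⟩
    exact ⟨y₀ * w * y₀⁻¹, hWmin.1.conj_mem w hw y₀, rfl⟩
  have hWs : ∀ w ∈ W, w ^ s = 1 := by
    rintro _ ⟨w, hw, rfl⟩
    rw [← map_pow, hWexp w hw, map_one]
  have hyu : y ^ u = 1 := by
    rw [hy, ← Subgroup.coe_pow, ← hy₀, pow_orderOf_eq_one, Subgroup.coe_one]
  have hy1 : y ≠ 1 := by
    intro h
    have h' : y₀ = 1 := Subtype.ext h
    rw [h', orderOf_one] at hy₀
    exact hu.one_lt.ne hy₀
  have hWne : W ≠ ⊥ := fun h => hWmin.2.1 ((Subgroup.map_eq_bot_iff_of_injective _ K.subtype_injective).mp h)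
  have hcopWV : (Nat.card W).Coprime (Nat.card V) :=
    IsPGroup.coprime_card_of_ne s t hst _ _ (hWp.map _) hVp
  have hnV : ∀ L : Subgroup H, L ≤ Subgroup.normalizer (V : Set H) := fun L => by
    rw [Subgroup.normalizer_eq_top_iff.mpr inferInstance]; exact le_top
  have hWV : ∀ w ∈ W, ∀ v ∈ V, w * v = v * w → w = 1 ∨ v = 1 := fun w hw v hv h =>
    hcl s t hs ht hst w v (hWs w hw) (hVexp v hv) h
  -- `W` has order `s`
  haveI : IsMulCommutative W := ⟨⟨fun a b => by
    obtain ⟨a', ha', hae⟩ := a.2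
    obtain ⟨b', hb', hbe⟩ := b.2
    refine Subtype.ext ?_
    show (a : H) * b = b * a
    rw [← hae, ← hbe, ← map_mul, ← map_mul]
    exact congrArg _ (congrArg Subtype.val (hWc.is_comm.comm ⟨a', ha'⟩ ⟨b', hb'⟩))⟩⟩
  obtain ⟨a, ha, hWa⟩ : ∃ a ∈ W, W = Subgroup.zpowers a := by
    by_contra hcon
    push Not at hcon
    refine hVmin.2.1 (eq_bot_iff.mpr (CfsgLib.Solv.le_of_cocyclic_centralizers (A := W) (K := V) (W := ⊥)
      (hnV W) hcopWV ?_))
    rintro B hB ⟨a, ha, hBa⟩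
    have hBne : B ≠ ⊥ := fun h => hcon a ha (by rw [h, bot_sup_eq] at hBa; exact hBa.symm)
    obtain ⟨b, hb, hb1⟩ := B.bot_or_exists_ne_one.resolve_left hBne
    rintro v ⟨hv, hvc⟩
    rw [Subgroup.mem_bot]
    exact (hWV b (hB hb) v hv (Subgroup.mem_centralizer_iff.mp hvc b hb)).resolve_left hb1
  refine hVmin.2.1 (eq_bot_iff.mpr (CfsgLib.Solv.le_of_fpf_average (p := u) (K := W) (V := V) (M := ⊥) (W := ⊥)
    (c := y) (hnV W) (by rw [Subgroup.normalizer_eq_top_iff.mpr inferInstance]; exact Subgroup.mem_top y)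
    (by rw [Subgroup.normalizer_eq_top_iff.mpr inferInstance]; exact le_top)
    (by rw [Subgroup.normalizer_eq_top_iff.mpr inferInstance]; exact Subgroup.mem_top y) hWy hyu ?_ bot_le
    (by rw [Subgroup.normalizer_eq_top_iff.mpr inferInstance]; exact le_top) ?_ hcopWV ?_ ?_ le_rfl ?_))
  · intro k hk h
    exact (hcl s u hs hu hus.symm k y (hWs k hk) hyu h.symm).resolve_right hy1
  · intro v hv w hw
    rw [Subgroup.mem_bot, commutatorElement_eq_one_iff_mul_comm]
    exact congrArg Subtype.val (hVc.is_comm.comm ⟨v, hv⟩ ⟨w, hw⟩)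
  · obtain ⟨j, hj⟩ := IsPGroup.iff_card.mp hVp
    rw [hj]
    exact Nat.Coprime.pow_right _ ((Nat.coprime_primes hu ht).mpr hut)
  · intro v hv h
    obtain ⟨b, hb, hb1⟩ := W.bot_or_exists_ne_one.resolve_left hWne
    have hb' := h b hb
    rw [Subgroup.mem_bot, mul_inv_eq_one, mul_inv_eq_iff_eq_mul] at hb'
    rw [Subgroup.mem_bot]
    exact (hWV b hb v hv hb').resolve_left hb1
  · intro k _ v hv h
    have := (hcl u t hu ht hut y v hyu (hVexp v hv) h).resolve_left hy1
    simp [this]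

theorem exists_primes (n : ℕ) (hn : 7 ≤ n) :
    ∃ p q r : ℕ, p.Prime ∧ q.Prime ∧ r.Prime ∧ p < q ∧ q < r ∧ r ≤ n ∧ n < p * q := by
  by_cases h1 : n < 15
  · exact ⟨3, 5, 7, Nat.prime_three, Nat.prime_five, by norm_num, by omega, by omega, hn, by omega⟩
  by_cases h2 : n < 35
  · exact ⟨5, 7, 11, Nat.prime_five, by norm_num, by norm_num, by omega, by omega, by omega, by omega⟩
  obtain ⟨r, hr, hr1, hr2⟩ := Nat.exists_prime_lt_and_le_two_mul (n / 2) (by omega)
  obtain ⟨q, hq, hq1, hq2⟩ := Nat.exists_prime_lt_and_le_two_mul (n / 4) (by omega)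
  obtain ⟨p, hp, hp1, hp2⟩ := Nat.exists_prime_lt_and_le_two_mul (n / 8) (by omega)
  refine ⟨p, q, r, hp, hq, hr, by omega, by omega, by omega, ?_⟩
  calc n < (n / 8 + 1) * (n / 4 + 1) := by
        have h8 : n ≤ 8 * (n / 8) + 7 := by omega
        have h4 : n ≤ 4 * (n / 4) + 3 := by omega
        nlinarith
    _ ≤ p * q := Nat.mul_le_mul hp1 hq1

/-- If the set of element orders of a finite group G is {1, 2, …, n} with n ≥ 7, then G is not solvable. -/
theorem result {G : Type*} [Group G] [Finite G] (n : ℕ) (hn : 7 ≤ n) (h : Set.range (orderOf : G → ℕ) = {k : ℕ | 1 ≤ k ∧ k ≤ n}) : ¬ Group.IsSolvable G := by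
  classical
  intro hsol
  obtain ⟨p, q, r, hp, hq, hr, hpq, hqr, hrn, hbig⟩ := exists_primes n hn
  haveI := hsol
  obtain ⟨H, hH, hHi⟩ := CfsgLib.Solv.exists_hall (CfsgLib.Solv.PiSolvable.of_isSolvable (G := G) ({p, q, r} : Set ℕ))
  have hdvd : ∀ w ∈ ({p, q, r} : Set ℕ), w.Prime → w ≤ n → w ∈ (Nat.card H).primeFactors := by
    intro w hw hwp hwn
    have hmem : w ∈ Set.range (orderOf : G → ℕ) := by rw [h]; exact ⟨hwp.one_le, hwn⟩
    obtain ⟨g, hg⟩ := hmem
    have hd : w ∣ Nat.card H * H.index := by rw [H.card_mul_index, ← hg]; exact orderOf_dvd_natCard g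
    exact Nat.mem_primeFactors.mpr ⟨hwp, (hwp.dvd_mul.mp hd).resolve_right fun e => hHi w hwp e hw,
      Nat.card_pos.ne'⟩
  refine not_three_primes (H := H) ?_ ?_
  · refine le_trans (le_of_eq ?_) (Finset.card_le_card (s := {p, q, r}) ?_)
    · rw [Finset.card_insert_of_notMem, Finset.card_pair hqr.ne]
      simp only [Finset.mem_insert, Finset.mem_singleton]; omega
    · intro w hw
      simp only [Finset.mem_insert, Finset.mem_singleton] at hw
      rcases hw with e | e | e <;> subst e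
      · exact hdvd _ (by simp) hp (by omega)
      · exact hdvd _ (by simp) hq (by omega)
      · exact hdvd _ (by simp) hr hrn
  · intro a b ha hb hab x hx
    have hle : a * b ≤ n := by
      have hmem : orderOf (x : G) ∈ Set.range (orderOf : G → ℕ) := ⟨_, rfl⟩
      rw [h, Subgroup.orderOf_coe, hx] at hmem
      exact hmem.2
    have hd : a * b ∣ Nat.card H := hx ▸ orderOf_dvd_natCard x
    have haπ := hH a ha (dvd_of_mul_right_dvd hd)
    have hbπ := hH b hb (dvd_of_mul_left_dvd hd)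
    simp only [Set.mem_insert_iff, Set.mem_singleton_iff] at haπ hbπ
    have h1 : p * q ≤ p * r := Nat.mul_le_mul_left p hqr.le
    have h2 : p * r ≤ q * r := Nat.mul_le_mul_right r hpq.le
    rcases haπ with e | e | e <;> rcases hbπ with e' | e' | e' <;> subst e <;> subst e' <;>
      first | exact hab rfl | (rw [Nat.mul_comm] at hle; omega) | omega

end Cfsg.Agent.S4002
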