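import Mathlib
-- Template for statement S4003 (row 4003; see /opt/grader/pristine/manifest.json for weights).
-- Copy to Cfsg/Agent/S4003.lean and replace the sorry. The statement below is byte-identical to the frozen
-- statement Cfsg.CfsgFrozen.S4003 (Cfsg/Statements/S4003.lean; the theorem Cfsg.fg5_card_elements_of_order_with_noncyclic_sylow);
-- the grader kernel-checks Cfsg.Agent.S4003.result against that frozen type. Keep the theorem IN THIS FILE
-- (a `result` declared elsewhere and merely imported here is not credited); helpers may live anywhere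
-- under Cfsg/Agent/.
import Cfsg.Statements.S4003
import Cfsg.Agent.Perm.MinClass
import Cfsg.Agent.Solv.RankTwoNormal


set_option autoImplicit false
open Cfsg

namespace Cfsg.Agent.S4003

/-- A set of elements closed under changing the generator of the cyclic subgroup. -/
theorem dvd_card_of_closed {G : Type*} [Group G] [Finite G] (d : ℕ) (S : Set G)
    (hS : ∀ x ∈ S, ∀ y, Subgroup.zpowers y = Subgroup.zpowers x → y ∈ S)
    (hd : ∀ x ∈ S, d ∣ (orderOf x).totient) : d ∣ Nat.card S := by
  classical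
  haveI := Fintype.ofFinite G
  haveI := Fintype.ofFinite (Subgroup G)
  rw [Nat.card_coe_set_eq, Set.ncard_eq_toFinset_card' S,
    Finset.card_eq_sum_card_fiberwise (f := fun x => Subgroup.zpowers x) (t := Finset.univ)
      (fun x _ => Finset.mem_univ _)]
  refine Finset.dvd_sum fun C _ => ?_
  by_cases hC : ∃ x ∈ S, Subgroup.zpowers x = C
  · obtain ⟨x, hx, rfl⟩ := hC
    have e : (S.toFinset.filter fun y => Subgroup.zpowers y = Subgroup.zpowers x).card =
        Fintype.card {y : Subgroup.zpowers x // orderOf y = orderOf x} := by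
      rw [← Fintype.card_coe]
      refine Fintype.card_congr
        { toFun := fun y => ⟨⟨y.1, (Finset.mem_filter.1 y.2).2.le (Subgroup.mem_zpowers (y : G))⟩, by
            rw [Subgroup.orderOf_mk, ← Nat.card_zpowers, (Finset.mem_filter.1 y.2).2, Nat.card_zpowers]⟩
          invFun := fun y => ⟨y.1.1, ?_⟩
          left_inv := fun y => rfl
          right_inv := fun y => rfl }
      have h1 : Subgroup.zpowers (y.1 : G) = Subgroup.zpowers x :=
        Subgroup.eq_of_le_of_card_ge (Subgroup.zpowers_le.2 y.1.2)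
          (by rw [Nat.card_zpowers, Nat.card_zpowers, Subgroup.orderOf_coe, y.2])
      exact Finset.mem_filter.2 ⟨Set.mem_toFinset.2 (hS x hx _ h1), h1⟩
    rw [e, Fintype.card_subtype, IsCyclic.card_orderOf_eq_totient]
    · exact hd x hx
    · rw [← Nat.card_eq_fintype_card, Nat.card_zpowers]
  · rw [Finset.card_eq_zero.2 (Finset.filter_eq_empty_iff.2 fun y hy h =>
      hC ⟨y, Set.mem_toFinset.1 hy, h⟩)]
    exact dvd_zero d

variable {p : ℕ} [hp : Fact p.Prime]

theorem pow_dvd_totient {j t : ℕ} (h : p ^ (j + 1) ∣ t) : p ^ j ∣ t.totient := by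
  refine dvd_trans ?_ (Nat.totient_dvd_of_dvd h)
  rw [Nat.totient_prime_pow_succ hp.out]
  exact dvd_mul_right _ _

/-- The count in a non-cyclic `p`-group, `p` odd. -/
theorem pgroup_count {P : Type*} [Group P] [Finite P] (hP : IsPGroup p P) (hodd : p ≠ 2)
    (hnc : ¬ IsCyclic P) {s : ℕ} (hs : 1 < s) : p ^ s ∣ Nat.card {x : P // orderOf x = p ^ s} := by
  classical
  obtain ⟨E, -, hEn, hEe, hEc⟩ := CfsgLib.Solv.exists_normal_rank_two_le hodd hP (⊤ : Subgroup P)
    (fun h => hnc (Subgroup.topEquiv.isCyclic.1 h))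
  haveI := hEn
  have hcentral : ∀ x : P, ∀ e ∈ E, x⁻¹ * e⁻¹ * x * e ∈ E ⊓ Subgroup.center P := by
    set Z1 := E ⊓ Subgroup.center P with hZ1
    haveI : Z1.Normal := inferInstance
    intro x e he
    by_cases hEZ : E ≤ Subgroup.center P
    · have h1 : x * e = e * x := (Subgroup.mem_center_iff.1 (hEZ he) x)
      have h2 : x⁻¹ * e⁻¹ * x * e = 1 := by rw [mul_assoc _ x e, h1]; group
      rw [h2]; exact one_mem _
    have hE1 : E ≠ ⊥ := fun h => hEZ (h ▸ bot_le)
    have hZne : Z1 ≠ ⊥ := CfsgLib.Perm.inf_center_ne_bot hP E hE1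
    let π := QuotientGroup.mk' Z1
    have hker : π.ker = Z1 := QuotientGroup.ker_mk' Z1
    have hEbar : (E.map π).Normal := hEn.map π (QuotientGroup.mk'_surjective Z1)
    have hcard : Nat.card (E.map π) ∣ p := by
      have h1 : π.ker.relIndex E = Nat.card (E.map π) := Subgroup.relIndex_ker E π
      rw [hker] at h1
      have h2 : Nat.card Z1 * Z1.relIndex E = p ^ 2 := by
        rw [← hEc, ← Subgroup.relIndex_bot_left, ← Subgroup.relIndex_bot_left]
        exact Subgroup.relIndex_mul_relIndex _ _ _ bot_le inf_le_left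
      obtain ⟨i, hi⟩ := IsPGroup.iff_card.1 (hP.to_subgroup Z1)
      have hi1 : i ≠ 0 := fun h0 => hZne (Subgroup.card_eq_one.1 (by rw [hi, h0, pow_zero]))
      rw [← h1]
      have h3 : p * Z1.relIndex E ∣ p * p := by
        rw [← sq, ← h2, hi]
        exact mul_dvd_mul_right (dvd_pow_self p hi1) _
      exact Nat.dvd_of_mul_dvd_mul_left hp.out.pos h3
    have hle : E.map π ≤ Subgroup.center (P ⧸ Z1) := by
      by_cases hb : E.map π = ⊥
      · rw [hb]; exact bot_le
      have h1 := CfsgLib.Perm.inf_center_ne_bot (hP.to_quotient Z1) (E.map π) hb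
      have h2 : E.map π ⊓ Subgroup.center (P ⧸ Z1) = E.map π :=
        Subgroup.eq_of_le_of_card_ge inf_le_left (((Nat.dvd_prime hp.out).1 hcard).elim
          (fun h => (h.trans_le Nat.card_pos))
          (fun h => ((Nat.dvd_prime hp.out).1 ((Subgroup.card_dvd_of_le inf_le_left).trans hcard)).elim
            (fun h' => absurd (Subgroup.card_eq_one.1 h') h1) (fun h' => (h.trans h'.symm).le)))
      exact h2 ▸ inf_le_right
    have h3 : π e * π x = π x * π e := (Subgroup.mem_center_iff.1 (hle ⟨e, he, rfl⟩) (π x)).symm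
    rw [← hker, MonoidHom.mem_ker]
    simp only [map_mul, map_inv]
    rw [mul_assoc _ (π x) (π e), ← h3]; group
  have hpow : ∀ x : P, ∀ e ∈ E, (x * e) ^ p = x ^ p := by
    intro x e he
    set b := x⁻¹ * e⁻¹ * x * e
    have hbE := hcentral x e he
    have hb : ∀ y, y * b = b * y := Subgroup.mem_center_iff.1 hbE.2
    have hbp : b ^ p = 1 := hEe.2 b hbE.1
    have hex : e * x = x * e * b⁻¹ := by simp only [b]; group
    have key : ∀ k : ℕ, (x * e) ^ k = x ^ k * e ^ k * b⁻¹ ^ k.choose 2 ∧ e ^ k * x = x * e ^ k * b⁻¹ ^ k := by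
      have hb' : ∀ y : P, Commute b⁻¹ y := fun y => (show Commute b y from (hb y).symm).inv_left
      intro k
      induction k with
      | zero => simp
      | succ k ih =>
        obtain ⟨ih1, ih2⟩ := ih
        refine ⟨?_, ?_⟩
        · rw [pow_succ, ih1, Nat.choose_succ_succ', Nat.choose_one_right, pow_succ x k, pow_succ e k]
          have c1 : b⁻¹ ^ k.choose 2 * (x * e) = x * e * b⁻¹ ^ k.choose 2 := ((hb' (x * e)).pow_left _).eq
          calc x ^ k * e ^ k * b⁻¹ ^ k.choose 2 * (x * e)
              = x ^ k * e ^ k * (x * e * b⁻¹ ^ k.choose 2) := by rw [mul_assoc, c1]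
            _ = x ^ k * (e ^ k * x) * e * b⁻¹ ^ k.choose 2 := by group
            _ = x ^ k * (x * e ^ k * b⁻¹ ^ k) * e * b⁻¹ ^ k.choose 2 := by rw [ih2]
            _ = x ^ k * x * e ^ k * (b⁻¹ ^ k * e) * b⁻¹ ^ k.choose 2 := by group
            _ = x ^ k * x * e ^ k * (e * b⁻¹ ^ k) * b⁻¹ ^ k.choose 2 := by rw [((hb' e).pow_left k).eq]
            _ = x ^ k * x * (e ^ k * e) * b⁻¹ ^ (k + k.choose 2) := by rw [pow_add]; group
        · calc e ^ (k + 1) * x = e ^ k * (e * x) := by rw [pow_succ]; group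
            _ = e ^ k * x * e * b⁻¹ := by rw [hex]; group
            _ = x * e ^ k * (b⁻¹ ^ k * e) * b⁻¹ := by rw [ih2]; group
            _ = x * e ^ k * (e * b⁻¹ ^ k) * b⁻¹ := by rw [((hb' e).pow_left k).eq]
            _ = x * e ^ (k + 1) * b⁻¹ ^ (k + 1) := by rw [pow_succ, pow_succ]; group
    obtain ⟨c, hc⟩ := hp.out.dvd_choose_self (k := 2) two_ne_zero (lt_of_le_of_ne hp.out.two_le hodd.symm)
    rw [(key p).1, hEe.2 e he, hc, pow_mul, inv_pow, hbp]
    simp
  set S : Set P := {x | orderOf x = p ^ s}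
  have hiff : ∀ x : P, orderOf x = p ^ s ↔ x ^ p ^ s = 1 ∧ x ^ p ^ (s - 1) ≠ 1 := by
    intro x
    constructor
    · intro h
      refine ⟨h ▸ pow_orderOf_eq_one x, fun h1 => ?_⟩
      have := orderOf_dvd_of_pow_eq_one h1
      rw [h, Nat.pow_dvd_pow_iff_le_right hp.out.one_lt] at this
      omega
    · rintro ⟨h1, h2⟩
      obtain ⟨i, hi, hxi⟩ := (Nat.dvd_prime_pow hp.out).1 (orderOf_dvd_of_pow_eq_one h1)
      rcases hi.lt_or_eq with h | h
      · exact absurd (orderOf_dvd_iff_pow_eq_one.1 (hxi ▸ pow_dvd_pow p (by omega : i ≤ s - 1))) h2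
      · exact h ▸ hxi
  have hSE : ∀ x ∈ S, ∀ e ∈ E, x * e ∈ S := by
    intro x hx e he
    obtain ⟨t, rfl⟩ : ∃ t, s = t + 2 := ⟨s - 2, by omega⟩
    obtain ⟨h1, h2⟩ := (hiff x).1 hx
    have hr : ∀ j : ℕ, (x * e) ^ p ^ (j + 1) = x ^ p ^ (j + 1) := fun j => by
      rw [pow_succ', pow_mul, hpow x e he, ← pow_mul]
    refine (hiff _).2 ⟨by rw [hr]; exact h1, ?_⟩
    rw [show t + 2 - 1 = t + 1 from rfl, hr]
    exact h2
  -- the image in `P ⧸ E`
  haveI := Fintype.ofFinite P
  haveI := Fintype.ofFinite (P ⧸ E)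
  set I : Set (P ⧸ E) := (QuotientGroup.mk' E) '' S
  have hcardS : Nat.card S = p ^ 2 * Nat.card I := by
    have e : S ≃ I × E :=
      { toFun := fun x => (⟨QuotientGroup.mk' E x.1, x.1, x.2, rfl⟩,
          ⟨((QuotientGroup.mk' E x.1).out)⁻¹ * x.1, QuotientGroup.eq.1 (Quotient.out_eq _)⟩)
        invFun := fun y => ⟨(y.1 : P ⧸ E).out * y.2, by
          obtain ⟨z, hz, hze⟩ := y.1.2
          have h1 : z⁻¹ * (y.1 : P ⧸ E).out ∈ E :=
            QuotientGroup.eq.1 (hze.trans (Quotient.out_eq _).symm)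
          have := hSE z hz _ (E.mul_mem h1 y.2.2)
          rwa [← mul_assoc, mul_inv_cancel_left] at this⟩
        left_inv := fun x => Subtype.ext (by simp)
        right_inv := fun y => by
          have h1 : QuotientGroup.mk' E ((y.1 : P ⧸ E).out * y.2) = (y.1 : P ⧸ E) := by
            rw [map_mul, show QuotientGroup.mk' E (y.2 : P) = 1 from (QuotientGroup.eq_one_iff (y.2 : P)).2 y.2.2, mul_one]
            exact Quotient.out_eq _
          refine Prod.ext (Subtype.ext h1) (Subtype.ext ?_)
          show ((QuotientGroup.mk' E ((y.1 : P ⧸ E).out * y.2)).out)⁻¹ * ((y.1 : P ⧸ E).out * y.2) = y.2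
          rw [h1, inv_mul_cancel_left] }
    rw [Nat.card_congr e, Nat.card_prod, hEc, mul_comm]
  have hI : p ^ (s - 2) ∣ Nat.card I := by
    refine dvd_card_of_closed _ I ?_ ?_
    · rintro _ ⟨x, hx, rfl⟩ y hy
      obtain ⟨k, rfl⟩ := mem_powers_iff_mem_zpowers.2 (hy ▸ Subgroup.mem_zpowers y :
        y ∈ Subgroup.zpowers (QuotientGroup.mk' E x))
      obtain ⟨l, hl⟩ := mem_powers_iff_mem_zpowers.2 (hy.symm ▸ Subgroup.mem_zpowers _ :
        QuotientGroup.mk' E x ∈ Subgroup.zpowers ((QuotientGroup.mk' E x) ^ k))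
      have hk : ¬ p ∣ k := by
        rintro ⟨c, rfl⟩
        change (QuotientGroup.mk' E x ^ (p * c)) ^ l = QuotientGroup.mk' E x at hl
        rw [← pow_mul, ← map_pow] at hl
        have h1 : x⁻¹ * x ^ (p * c * l) ∈ E := QuotientGroup.eq.1 hl.symm
        have h2 : orderOf (x * (x⁻¹ * x ^ (p * c * l))) = p ^ s := hSE x hx _ h1
        rw [mul_inv_cancel_left, orderOf_pow' _ (fun h => ?_)] at h2
        · have h3 : p ∣ (orderOf x).gcd (p * c * l) :=
            Nat.dvd_gcd (by rw [show orderOf x = p ^ s from hx]; exact dvd_pow_self p (by omega))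
              (Dvd.intro _ (mul_assoc _ _ _).symm)
          rw [show orderOf x = p ^ s from hx] at h2 h3
          rw [Nat.div_eq_self] at h2
          rcases h2 with h2 | h2
          · exact pow_ne_zero s hp.out.pos.ne' h2
          · rw [h2] at h3; exact hp.out.not_dvd_one h3
        · have h5 : x⁻¹ ∈ E := by simpa [h] using h1
          have h6 : orderOf (1 : P) = p ^ s := by
            have := hSE x hx _ h5
            rwa [mul_inv_cancel] at this
          rw [orderOf_one] at h6
          exact absurd h6.symm (Nat.one_lt_pow (by omega) hp.out.one_lt).ne'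
      refine ⟨x ^ k, ?_, map_pow _ x k⟩
      show orderOf (x ^ k) = p ^ s
      rw [Nat.Coprime.orderOf_pow, hx]
      rw [show orderOf x = p ^ s from hx]
      exact ((hp.out.coprime_iff_not_dvd.2 hk).pow_left s)
    · rintro _ ⟨x, hx, rfl⟩
      refine pow_dvd_totient ?_
      set t := orderOf (QuotientGroup.mk' E x)
      have h1 : x ^ t ∈ E := by
        rw [← QuotientGroup.eq_one_iff, QuotientGroup.mk_pow]; exact pow_orderOf_eq_one _
      have h2 : p ^ s ∣ t * p := by
        rw [← show orderOf x = p ^ s from hx]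
        exact orderOf_dvd_of_pow_eq_one (by rw [pow_mul]; exact hEe.2 _ h1)
      rw [show s = (s - 2 + 1) + 1 by omega, pow_succ] at h2
      exact Nat.dvd_of_mul_dvd_mul_right hp.out.pos h2
  show p ^ s ∣ Nat.card S
  rw [hcardS, show p ^ s = p ^ 2 * p ^ (s - 2) by rw [← pow_add]; congr 1; omega]
  exact Nat.mul_dvd_mul_left _ hI

/-- The count of cyclic subgroups. -/
theorem card_eq_totient_mul (G : Type*) [Group G] [Finite G] (n : ℕ) :
    Nat.card {x : G // orderOf x = n} =
      n.totient * Nat.card {C : Subgroup G // IsCyclic C ∧ Nat.card C = n} := by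
  classical
  haveI := Fintype.ofFinite G
  haveI := Fintype.ofFinite (Subgroup G)
  rw [Nat.card_eq_fintype_card, Fintype.card_subtype, Nat.card_eq_fintype_card, Fintype.card_subtype,
    Finset.card_eq_sum_card_fiberwise (f := fun x => Subgroup.zpowers x)
      (t := Finset.univ.filter fun C : Subgroup G => IsCyclic C ∧ Nat.card C = n)]
  · rw [mul_comm]
    refine Finset.sum_const_nat fun C hC => ?_
    obtain ⟨-, hc, hn⟩ := Finset.mem_filter.1 hC
    haveI := hc
    rw [← IsCyclic.card_orderOf_eq_totient (α := C) (d := n) (by rw [← Nat.card_eq_fintype_card, hn])]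
    refine Finset.card_bij' (fun x hx => ⟨x, ?_⟩) (fun y _ => (y : G)) ?_ ?_ ?_ ?_
    · exact (Finset.mem_filter.1 hx).2 ▸ Subgroup.mem_zpowers x
    · intro x hx
      simpa [Subgroup.orderOf_mk] using (Finset.mem_filter.1 (Finset.mem_filter.1 hx).1).2
    · intro y hy
      have h1 : orderOf (y : G) = n := by rw [Subgroup.orderOf_coe]; simpa using hy
      refine Finset.mem_filter.2 ⟨Finset.mem_filter.2 ⟨Finset.mem_univ _, h1⟩, ?_⟩
      exact Subgroup.eq_of_le_of_card_ge (Subgroup.zpowers_le.2 y.2) (by rw [hn, Nat.card_zpowers, h1])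
    · intros; rfl
    · intros; rfl
  · intro x hx
    refine Finset.mem_filter.2 ⟨Finset.mem_univ _, inferInstance, ?_⟩
    rw [Nat.card_zpowers]; exact (Finset.mem_filter.1 hx).2

/-- The count in a group with a non-cyclic Sylow subgroup. -/
theorem group_count {K : Type*} [Group K] [Finite K] (hodd : p ≠ 2) {s : ℕ} (hs : 1 < s)
    (P : Sylow p K) (hnc : ¬ IsCyclic (P : Subgroup K)) :
    p ^ s ∣ Nat.card {x : K // orderOf x = p ^ s} := by
  classical
  obtain ⟨t, rfl⟩ : ∃ t, s = t + 1 := ⟨s - 1, by omega⟩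
  rw [card_eq_totient_mul, Nat.totient_prime_pow_succ hp.out, mul_assoc, pow_succ]
  refine Nat.mul_dvd_mul_left _ (Dvd.dvd.mul_left ?_ _)
  letI : MulAction (P : Subgroup K) {C : Subgroup K // IsCyclic C ∧ Nat.card C = p ^ (t + 1)} :=
    { smul := fun g C => ⟨C.1.map (MulAut.conj (g : K)).toMonoidHom, by
        haveI := C.2.1
        exact ⟨((C.1.equivMapOfInjective _ (MulAut.conj (g : K)).injective).isCyclic).1 C.2.1,
          (Nat.card_congr (C.1.equivMapOfInjective _ (MulAut.conj (g : K)).injective).toEquiv).symm.trans C.2.2⟩⟩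
      one_smul := fun C => Subtype.ext (by
        show C.1.map (MulAut.conj ((1 : (P : Subgroup K)) : K)).toMonoidHom = C.1
        ext x; simp)
      mul_smul := fun a b C => Subtype.ext (by
        show C.1.map (MulAut.conj ((a * b : (P : Subgroup K)) : K)).toMonoidHom = (C.1.map _).map _
        rw [Subgroup.map_map]; congr 1; ext x; simp [mul_assoc]) }
  have hmod := P.isPGroup'.card_modEq_card_fixedPoints
    {C : Subgroup K // IsCyclic C ∧ Nat.card C = p ^ (t + 1)}
  have hP2 : p ^ (t + 1) ∣ Nat.card {x : (P : Subgroup K) // orderOf x = p ^ (t + 1)} :=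
    pgroup_count P.isPGroup' hodd hnc hs
  rw [card_eq_totient_mul, Nat.totient_prime_pow_succ hp.out, mul_assoc, pow_succ] at hP2
  have hP3 : p ∣ Nat.card {C : Subgroup (P : Subgroup K) // IsCyclic C ∧ Nat.card C = p ^ (t + 1)} :=
    (Nat.Coprime.dvd_of_dvd_mul_left
      ((Nat.coprime_self_sub_right hp.out.one_le).2 (Nat.coprime_one_right p))
      (Nat.dvd_of_mul_dvd_mul_left (pow_pos hp.out.pos t) hP2))
  -- the action inside `P`
  letI : MulAction (P : Subgroup K) {C : Subgroup (P : Subgroup K) // IsCyclic C ∧ Nat.card C = p ^ (t + 1)} :=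
    { smul := fun g C => ⟨C.1.map (MulAut.conj g).toMonoidHom,
        ((C.1.equivMapOfInjective _ (MulAut.conj g).injective).isCyclic).1 C.2.1,
        (Nat.card_congr (C.1.equivMapOfInjective _ (MulAut.conj g).injective).toEquiv).symm.trans C.2.2⟩
      one_smul := fun C => Subtype.ext (by
        show C.1.map (MulAut.conj (1 : (P : Subgroup K))).toMonoidHom = C.1
        ext x; simp)
      mul_smul := fun a b C => Subtype.ext (by
        show C.1.map (MulAut.conj (a * b)).toMonoidHom = (C.1.map _).map _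
        rw [Subgroup.map_map]; congr 1; ext x; simp [mul_assoc]) }
  have hmod2 := P.isPGroup'.card_modEq_card_fixedPoints
    {C : Subgroup (P : Subgroup K) // IsCyclic C ∧ Nat.card C = p ^ (t + 1)}
  have hfix : ∀ C : {C : Subgroup K // IsCyclic C ∧ Nat.card C = p ^ (t + 1)},
      C ∈ MulAction.fixedPoints (P : Subgroup K) _ → C.1 ≤ (P : Subgroup K) := by
    intro C hC
    have hnorm : (P : Subgroup K) ≤ Subgroup.normalizer (C.1 : Set K) := fun g hg => by
      have h1 : C.1.map (MulAut.conj g).toMonoidHom = C.1 := congrArg Subtype.val (hC ⟨g, hg⟩)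
      refine Subgroup.mem_normalizer_iff.2 fun x => ?_
      conv_rhs => rw [← h1]
      exact (Subgroup.mem_map_iff_mem (MulAut.conj g).injective).symm
    have h2 : IsPGroup p ↥((P : Subgroup K) ⊔ C.1) :=
      P.isPGroup'.to_sup_of_normal_right' (IsPGroup.of_card C.2.2) hnorm
    have h3 := P.is_maximal' h2 le_sup_left
    exact h3 ▸ le_sup_right
  have hcong : Nat.card (MulAction.fixedPoints (P : Subgroup K) {C : Subgroup K // IsCyclic C ∧ Nat.card C = p ^ (t + 1)}) =
      Nat.card (MulAction.fixedPoints (P : Subgroup K) {C : Subgroup (P : Subgroup K) // IsCyclic C ∧ Nat.card C = p ^ (t + 1)}) := by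
    refine Nat.card_congr
      { toFun := fun C => ⟨⟨C.1.1.subgroupOf P,
          (Subgroup.subgroupOfEquivOfLe (hfix C.1 C.2)).isCyclic.2 C.1.2.1,
          (Nat.card_congr (Subgroup.subgroupOfEquivOfLe (hfix C.1 C.2)).toEquiv).trans C.1.2.2⟩, ?_⟩
        invFun := fun C => ⟨⟨C.1.1.map (P : Subgroup K).subtype,
          ((C.1.1.equivMapOfInjective _ (P : Subgroup K).subtype_injective).isCyclic).1 C.1.2.1,
          (Subgroup.card_subtype _ _).trans C.1.2.2⟩, ?_⟩
        left_inv := fun C => Subtype.ext (Subtype.ext (by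
          show (C.1.1.subgroupOf P).map (P : Subgroup K).subtype = C.1.1
          rw [Subgroup.subgroupOf_map_subtype, inf_eq_left.2 (hfix C.1 C.2)]))
        right_inv := fun C => Subtype.ext (Subtype.ext
          (Subgroup.comap_map_eq_self_of_injective (P : Subgroup K).subtype_injective _)) }
    · intro g
      refine Subtype.ext ?_
      show (C.1.1.subgroupOf P).map (MulAut.conj g).toMonoidHom = _
      refine Subgroup.map_injective (P : Subgroup K).subtype_injective ?_
      have h1 : C.1.1.map (MulAut.conj (g : K)).toMonoidHom = C.1.1 := congrArg Subtype.val (C.2 g)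
      have h2 : (C.1.1.subgroupOf (P : Subgroup K)).map (P : Subgroup K).subtype = C.1.1 := by
        rw [Subgroup.subgroupOf_map_subtype, inf_eq_left.2 (hfix C.1 C.2)]
      show _ = (C.1.1.subgroupOf (P : Subgroup K)).map (P : Subgroup K).subtype
      rw [Subgroup.map_map, h2]
      calc _ = ((C.1.1.subgroupOf (P : Subgroup K)).map (P : Subgroup K).subtype).map (MulAut.conj (g : K)).toMonoidHom := by
            rw [Subgroup.map_map]; congr 1
        _ = C.1.1 := by rw [h2, h1]
    · intro g
      refine Subtype.ext ?_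
      show (C.1.1.map (P : Subgroup K).subtype).map (MulAut.conj (g : K)).toMonoidHom = C.1.1.map (P : Subgroup K).subtype
      have h1 : C.1.1.map (MulAut.conj g).toMonoidHom = C.1.1 := congrArg Subtype.val (C.2 g)
      conv_rhs => rw [← h1]
      rw [Subgroup.map_map, Subgroup.map_map]; congr 1
  rw [hcong] at hmod
  exact (Nat.ModEq.dvd_iff (hmod.trans hmod2.symm) dvd_rfl).2 hP3


/-- Let G be a finite group, p an odd prime dividing the order of G whose Sylow p-subgroups are not cyclic, and n = p^s·m with s > 1 and m coprime to p. Then the number of elements of G of order n is a multiple of p^s. -/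
theorem result {G : Type*} [Group G] [Finite G] (p : ℕ) [Fact p.Prime] (hodd : p ≠ 2) (hpG : p ∣ Nat.card G)
    (P : Sylow p G) (hP : ¬ IsCyclic ↥(P : Subgroup G)) (s m : ℕ) (hs : 1 < s) (hm : Nat.Coprime p m) :
    p ^ s ∣ Nat.card {g : G // orderOf g = p ^ s * m} := by
  classical
  have hp' : p.Prime := Fact.out
  by_cases hm0 : m = 0
  · subst hm0
    exact absurd hm (by simpa using hp'.one_lt.ne')
  have hcop : (p ^ s).Coprime m := hm.pow_left s
  -- split into commuting parts
  let Y := {y : G // orderOf y = m}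
  let f : Y → ℕ := fun y => Nat.card {z : G // z ∈ Subgroup.centralizer ({y.1} : Set G) ∧ orderOf z = p ^ s}
  have e : {g : G // orderOf g = p ^ s * m} ≃ Σ y : Y, {z : G // z ∈ Subgroup.centralizer ({y.1} : Set G) ∧ orderOf z = p ^ s} := by
    have key : ∃ a b : ℕ, ∀ g : G, orderOf g = p ^ s * m → g ^ a * g ^ b = g ∧
        orderOf (g ^ a) = m ∧ orderOf (g ^ b) = p ^ s ∧ ∀ y z : G, Commute y z → orderOf y = m →
        orderOf z = p ^ s → y * z = g → g ^ a = y ∧ g ^ b = z := by
      obtain ⟨a, ha1, ha2⟩ := Nat.chineseRemainder hcop 0 1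
      obtain ⟨b, hb1, hb2⟩ := Nat.chineseRemainder hcop 1 0
      refine ⟨a, b, fun g hg => ?_⟩
      have hab : g ^ a * g ^ b = g := by
        rw [← pow_add]
        conv_rhs => rw [← pow_one g]
        rw [pow_eq_pow_iff_modEq, hg]
        exact (Nat.modEq_and_modEq_iff_modEq_mul hcop).1 ⟨by simpa using ha1.add hb1, by simpa using ha2.add hb2⟩
      have huniq : ∀ y z : G, Commute y z → orderOf y = m → orderOf z = p ^ s → y * z = g →
          g ^ a = y ∧ g ^ b = z := by
        intro y z hc hy hz hyz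
        rw [← hyz, hc.mul_pow, hc.mul_pow]
        constructor
        · have h1 : z ^ a = 1 := orderOf_dvd_iff_pow_eq_one.1 (hz ▸ Nat.modEq_zero_iff_dvd.1 ha1)
          have h2 : y ^ a = y := by
            conv_rhs => rw [← pow_one y]
            rw [pow_eq_pow_iff_modEq, hy]; exact ha2
          rw [h1, h2, mul_one]
        · have h1 : y ^ b = 1 := orderOf_dvd_iff_pow_eq_one.1 (hy ▸ Nat.modEq_zero_iff_dvd.1 hb2)
          have h2 : z ^ b = z := by
            conv_rhs => rw [← pow_one z]
            rw [pow_eq_pow_iff_modEq, hz]; exact hb1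
          rw [h1, h2, one_mul]
      have hps0 : p ^ s ≠ 0 := pow_ne_zero s hp'.pos.ne'
      refine ⟨hab, ?_, ?_, huniq⟩
      · rw [orderOf_pow, hg]
        have hag : (p ^ s * m).gcd a = p ^ s := by
          rw [hcop.mul_gcd, Nat.gcd_eq_left (Nat.modEq_zero_iff_dvd.1 ha1)]
          rw [show m.gcd a = 1 by rw [Nat.gcd_comm, ha2.gcd_eq, Nat.gcd_one_left], mul_one]
        rw [hag, Nat.mul_div_cancel_left _ (Nat.pos_of_ne_zero hps0)]
      · rw [orderOf_pow, hg]
        have hbg : (p ^ s * m).gcd b = m := by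
          rw [hcop.mul_gcd, Nat.gcd_eq_left (Nat.modEq_zero_iff_dvd.1 hb2)]
          rw [show (p ^ s).gcd b = 1 by rw [Nat.gcd_comm, hb1.gcd_eq, Nat.gcd_one_left], one_mul]
        rw [hbg, Nat.mul_div_cancel _ (Nat.pos_of_ne_zero hm0)]
    choose a b key using key
    refine
      { toFun := fun g => ⟨⟨g.1 ^ a, (key g.1 g.2).2.1⟩, ⟨g.1 ^ b, Subgroup.mem_centralizer_singleton_iff.2
            (Commute.pow_pow_self g.1 b a).eq, (key g.1 g.2).2.2.1⟩⟩
        invFun := fun yz => ⟨yz.1.1 * yz.2.1, ?_⟩
        left_inv := fun g => Subtype.ext (key g.1 g.2).1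
        right_inv := ?_ }
    · have hc : Commute yz.1.1 yz.2.1 := (Subgroup.mem_centralizer_singleton_iff.1 yz.2.2.1).symm
      rw [hc.orderOf_mul_eq_mul_orderOf_of_coprime (by rw [yz.1.2, yz.2.2.2]; exact hcop.symm), yz.1.2, yz.2.2.2, mul_comm]
    · rintro ⟨⟨y, hy⟩, z, hzc, hz⟩
      have hc : Commute y z := (Subgroup.mem_centralizer_singleton_iff.1 hzc).symm
      have ho : orderOf (y * z) = p ^ s * m := by
        rw [hc.orderOf_mul_eq_mul_orderOf_of_coprime (by rw [hy, hz]; exact hcop.symm), hy, hz, mul_comm]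
      obtain ⟨h1, h2⟩ := (key (y * z) ho).2.2.2 y z hc hy hz rfl
      exact Sigma.subtype_ext (Subtype.ext h1) h2
  rw [Nat.card_congr e]
  haveI := Fintype.ofFinite G
  rw [Nat.card_sigma]
  -- conjugation action on the elements of order `m`
  letI : MulAction (ConjAct G) Y :=
    { smul := fun g y => ⟨g • y.1, by
        rw [ConjAct.smul_def]
        exact (orderOf_injective (MulAut.conj (ConjAct.ofConjAct g)).toMonoidHom (MulAut.conj _).injective y.1).trans y.2⟩
      one_smul := fun y => Subtype.ext (one_smul _ y.1)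
      mul_smul := fun a b y => Subtype.ext (mul_smul a b y.1) }
  have hinv : ∀ (g : ConjAct G) (y : Y), f (g • y) = f y := by
    intro g y
    let c := MulAut.conj (ConjAct.ofConjAct g)
    refine (Nat.card_congr (Equiv.subtypeEquiv c.toEquiv fun z => ?_)).symm
    rw [show (g • y).1 = c y.1 from ConjAct.smul_def g y.1, Subgroup.mem_centralizer_singleton_iff,
      Subgroup.mem_centralizer_singleton_iff]
    show z * y.1 = y.1 * z ∧ orderOf z = p ^ s ↔ c z * c y.1 = c y.1 * c z ∧ orderOf (c z) = p ^ s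
    rw [← map_mul, ← map_mul, c.injective.eq_iff, show orderOf (c z) = orderOf z from orderOf_injective c.toMonoidHom c.injective z]
  haveI := Fintype.ofFinite (Quotient (MulAction.orbitRel (ConjAct G) Y))
  show p ^ s ∣ ∑ y : Y, f y
  rw [← Equiv.sum_comp (MulAction.selfEquivSigmaOrbits (ConjAct G) Y).symm f, Fintype.sum_sigma]
  refine Finset.dvd_sum fun ω _ => ?_
  set y : Y := ω.out
  have hconst : ∀ x : MulAction.orbit (ConjAct G) y,
      f ((MulAction.selfEquivSigmaOrbits (ConjAct G) Y).symm ⟨ω, x⟩) = f y := by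
    intro x
    obtain ⟨g, hg⟩ := x.2
    show f x.1 = f y
    rw [← hg]; exact hinv g y
  rw [Finset.sum_congr rfl fun x _ => hconst x, Finset.sum_const, smul_eq_mul, Finset.card_univ,
    ← Nat.card_eq_fintype_card]
  -- the two cases
  set C := Subgroup.centralizer ({y.1} : Set G)
  have hfy : f y = Nat.card {z : C // orderOf z = p ^ s} := Nat.card_congr
    { toFun := fun z => ⟨⟨z.1, z.2.1⟩, (Subgroup.orderOf_mk z.1 z.2.1).trans z.2.2⟩
      invFun := fun z => ⟨z.1.1, z.1.2, (Subgroup.orderOf_coe z.1).trans z.2⟩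
      left_inv := fun z => rfl
      right_inv := fun z => rfl }
  rw [hfy]
  obtain ⟨Q⟩ : Nonempty (Sylow p C) := inferInstance
  by_cases hQ : IsCyclic (Q : Subgroup C)
  · have h1 : p ∣ Nat.card (MulAction.orbit (ConjAct G) y) := by
      have hst : Nat.card (MulAction.stabilizer (ConjAct G) y) = Nat.card C := by
        refine Nat.card_congr
          { toFun := fun g => ⟨ConjAct.ofConjAct g.1, Subgroup.mem_centralizer_singleton_iff.2 (by
              have h := congrArg Subtype.val g.2
              change g.1 • y.1 = y.1 at h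
              rw [ConjAct.smul_def] at h
              exact mul_inv_eq_iff_eq_mul.1 h)⟩
            invFun := fun c => ⟨ConjAct.toConjAct c.1, Subtype.ext (by
              show ConjAct.toConjAct c.1 • y.1 = y.1
              rw [ConjAct.toConjAct_smul]
              exact mul_inv_eq_iff_eq_mul.2 (Subgroup.mem_centralizer_singleton_iff.1 c.2))⟩
            left_inv := fun g => rfl
            right_inv := fun c => rfl }
      have hprod : Nat.card (MulAction.orbit (ConjAct G) y) * Nat.card C = Nat.card G := by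
        rw [← hst, ← Nat.card_prod]
        exact (Nat.card_congr (MulAction.orbitProdStabilizerEquivGroup (ConjAct G) y)).trans
          (Nat.card_congr ConjAct.ofConjAct.toEquiv)
      by_contra hnd
      have hdiv : Nat.card (P : Subgroup G) ∣ Nat.card C := by
        obtain ⟨k, hk⟩ := IsPGroup.iff_card.1 P.isPGroup'
        rw [hk]
        exact ((hp'.coprime_iff_not_dvd.2 hnd).pow_left k).dvd_of_dvd_mul_left
          (hk ▸ hprod ▸ Subgroup.card_subgroup_dvd_card _)
      let R : Subgroup G := (Q : Subgroup C).map C.subtype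
      obtain ⟨P', hP'⟩ := (Q.isPGroup'.map C.subtype).exists_le_sylow
      have heq : R = (P' : Subgroup G) := by
        refine Subgroup.eq_of_le_of_card_ge hP' ?_
        rw [Subgroup.card_subtype, Q.card_eq_multiplicity, P'.card_eq_multiplicity]
        refine Nat.pow_le_pow_right hp'.pos ((hp'.pow_dvd_iff_le_factorization Nat.card_pos.ne').1 ?_)
        rw [← P.card_eq_multiplicity]; exact hdiv
      have hR : IsCyclic R := ((Q : Subgroup C).equivMapOfInjective _ C.subtype_injective).isCyclic.1 hQ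
      rw [heq] at hR
      exact hP ((P'.equiv P).isCyclic.1 hR)
    obtain ⟨t, rfl⟩ : ∃ t, s = t + 1 := ⟨s - 1, by omega⟩
    show p ^ (t + 1) ∣ _ * Nat.card {z : C // orderOf z = p ^ (t + 1)}
    rw [card_eq_totient_mul, Nat.totient_prime_pow_succ hp', pow_succ', mul_assoc]
    exact mul_dvd_mul h1 (dvd_mul_right _ _)
  · exact Dvd.dvd.mul_left (group_count hodd hs Q hQ) _

end Cfsg.Agent.S4003
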