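import Cfsg.Statements.S4005

import Cfsg.Agent.Char.Burnside
import Cfsg.Agent.Solv.MinimalNormal
import Cfsg.Agent.Solv.FixedPointFree
import Cfsg.Agent.Inv.CyclicSylow

set_option autoImplicit false
set_option linter.style.haveILetI false
open Cfsg

namespace Cfsg.Agent.S4005

/-- A finite group whose set of element orders is exactly {1, 2, 3} has either a normal elementary abelian 3-subgroup of index 2 or a normal elementary abelian 2-subgroup of index 3. -/
theorem result {G : Type*} [Group G] [Finite G] (h : Set.range (orderOf : G → ℕ) = {k : ℕ | 1 ≤ k ∧ k ≤ 3}) :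
    (∃ N : Subgroup G, N.Normal ∧ Cfsg.IsElementaryAbelian 3 N ∧ N.index = 2) ∨
      (∃ N : Subgroup G, N.Normal ∧ Cfsg.IsElementaryAbelian 2 N ∧ N.index = 3) := by
  classical
  have hord : ∀ x : G, orderOf x = 1 ∨ orderOf x = 2 ∨ orderOf x = 3 := by
    intro x
    have h1 : orderOf x ∈ Set.range (orderOf : G → ℕ) := ⟨x, rfl⟩
    rw [h] at h1
    obtain ⟨h2, h3⟩ := h1
    omega
  have h23 : ∀ (r : ℕ), r ∈ ({2, 3} : Finset ℕ) → ∃ x : G, orderOf x = r := by
    intro r hr
    have h1 : r ∈ Set.range (orderOf : G → ℕ) := by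
      rw [h]; simp only [Finset.mem_insert, Finset.mem_singleton] at hr
      show 1 ≤ r ∧ r ≤ 3
      omega
    exact h1
  have hcomm : ∀ x y : G, Commute x y → orderOf x = 2 → orderOf y ≠ 3 := by
    intro x y hc hx hy
    have := hc.orderOf_mul_eq_mul_orderOf_of_coprime (by rw [hx, hy]; decide)
    rw [hx, hy] at this
    rcases hord (x * y) with e | e | e <;> omega
  have hprime : ∀ r : ℕ, r.Prime → r ∣ Nat.card G → r = 2 ∨ r = 3 := by
    intro r hr hd
    haveI := Fact.mk hr
    obtain ⟨x, hx⟩ := exists_prime_orderOf_dvd_card' r hd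
    have := hr.one_lt
    rcases hord x with e | e | e <;> omega
  haveI := Fact.mk Nat.prime_two
  haveI := Fact.mk Nat.prime_three
  haveI : Nontrivial G := by
    obtain ⟨x, hx⟩ := h23 2 (by simp)
    refine ⟨⟨x, 1, fun e => ?_⟩⟩
    rw [e, orderOf_one] at hx
    omega
  obtain ⟨a, m, hm, hcard⟩ := Nat.exists_eq_pow_mul_and_not_dvd (Nat.card_pos (α := G)).ne' 2 (by norm_num)
  have hm3 : m = 3 ^ m.primeFactorsList.length := by
    refine Nat.eq_prime_pow_of_unique_prime_dvd (fun h0 => hm (h0 ▸ dvd_zero 2)) fun {r} hr hd => ?_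
    rcases hprime r hr (hcard ▸ hd.trans (dvd_mul_left m _)) with e | e
    · exact absurd (e ▸ hd) hm
    · exact e
  haveI : Group.IsSolvable G := CfsgLib.Char.solvable_of_card_two_primes 2 3 a _ Nat.prime_two
    Nat.prime_three (hm3 ▸ hcard)
  obtain ⟨V, r, hr, hVmin, hVab, hVexp, hVp⟩ := CfsgLib.Solv.exists_minimal_normal_pGroup (G := G)
  haveI := hVmin.1
  have hV1 : V ≠ ⊥ := hVmin.2.1
  obtain ⟨v, hv, hv1⟩ := SetLike.exists_of_lt (bot_lt_iff_ne_bot.2 hV1)
  rw [Subgroup.mem_bot] at hv1
  have hvord : orderOf v = r := by haveI := Fact.mk hr; exact orderOf_eq_prime (hVexp v hv) hv1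
  have hr23 : r = 2 ∨ r = 3 := hprime r hr (hvord ▸ orderOf_dvd_natCard v)
  have hexp2 : ∀ (P : Sylow 2 G), ∀ x ∈ (P : Subgroup G), x ^ 2 = 1 := by
    intro P x hx
    obtain ⟨k, hk⟩ := IsPGroup.iff_orderOf.1 P.2 ⟨x, hx⟩
    rw [← Subgroup.orderOf_coe] at hk
    change orderOf x = 2 ^ k at hk
    rcases hord x with e | e | e
    · rw [orderOf_eq_one_iff.1 e, one_pow]
    · rw [← e, pow_orderOf_eq_one]
    · exfalso
      rcases Nat.eq_zero_or_pos k with rfl | h0
      · omega
      · have h2 : 2 ∣ orderOf x := hk ▸ dvd_pow_self 2 h0.ne'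
        omega
  have hab2 : ∀ (P : Sylow 2 G), IsMulCommutative (P : Subgroup G) := fun P => ⟨⟨fun x y => Subtype.ext (by
    have e1 := hexp2 P _ x.2
    have e2 := hexp2 P _ y.2
    have e3 := hexp2 P _ (x * y).2
    simp only [Subgroup.coe_mul, sq] at e1 e2 e3 ⊢
    calc (x : G) * y = (x : G) * y * ((y : G) * x * ((y : G) * x)) := by
          have e4 := hexp2 P _ (y * x).2
          simp only [Subgroup.coe_mul, sq] at e4
          rw [e4, mul_one]
      _ = (x : G) * ((y : G) * y) * x * ((y : G) * x) := by group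
      _ = _ := by rw [e2, mul_one, e1, one_mul])⟩⟩
  obtain ⟨P⟩ : Nonempty (Sylow 2 G) := inferInstance
  rcases hr23 with rfl | rfl
  · -- minimal normal 2-subgroup
    right
    set N := Subgroup.centralizer (V : Set G)
    haveI : N.Normal := inferInstance
    have hN2 : ∀ x ∈ N, x ^ 2 = 1 := by
      intro x hx
      rcases hord x with e | e | e
      · rw [orderOf_eq_one_iff.1 e, one_pow]
      · rw [← e, pow_orderOf_eq_one]
      · exact absurd e (hcomm v x (Subgroup.mem_centralizer_iff.1 hx v hv) hvord)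
    have hPN : (P : Subgroup G) ≤ N := by
      haveI := hab2 P
      intro x hx
      refine Subgroup.mem_centralizer_iff.2 fun w hw => ?_
      have hwP : w ∈ (P : Subgroup G) := by
        have := P.3 (hVp.to_sup_of_normal_left P.2) le_sup_right
        exact this ▸ Subgroup.mem_sup_left hw
      exact congrArg Subtype.val (this.is_comm.comm (⟨w, hwP⟩ : (P : Subgroup G)) ⟨x, hx⟩)
    have hNp : IsPGroup 2 N := fun x => ⟨1, Subtype.ext (by simpa using hN2 _ x.2)⟩
    have hNP : N = P := P.3 hNp hPN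
    refine ⟨N, inferInstance, ⟨hNP ▸ hab2 P, hN2⟩, ?_⟩
    obtain ⟨Q⟩ : Nonempty (Sylow 3 G) := inferInstance
    have hQ3 : ∀ x ∈ (Q : Subgroup G), x ≠ 1 → orderOf x = 3 := by
      intro x hx hx1
      obtain ⟨k, hk⟩ := IsPGroup.iff_orderOf.1 Q.2 ⟨x, hx⟩
      rw [← Subgroup.orderOf_coe] at hk
      change orderOf x = 3 ^ k at hk
      have h0 : k ≠ 0 := fun e => hx1 (orderOf_eq_one_iff.1 (by rw [hk, e, pow_zero]))
      have h2 : 3 ∣ orderOf x := hk ▸ dvd_pow_self 3 h0
      rcases hord x with e | e | e <;> omega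
    have hQ1 : ((Q : Subgroup G)) ≠ ⊥ := by
      intro e
      obtain ⟨x, hx⟩ := h23 3 (by simp)
      have h3 : 3 ∣ Nat.card G := hx ▸ orderOf_dvd_natCard x
      exact Q.ne_bot_of_dvd_card h3 e
    haveI : Nontrivial (Q : Subgroup G) := (Subgroup.nontrivial_iff_ne_bot _).2 hQ1
    haveI := Q.2.center_nontrivial
    obtain ⟨⟨z, hzc⟩, hz1⟩ := exists_ne (1 : Subgroup.center (Q : Subgroup G))
    have hz0 : (z : G) ≠ 1 := fun e => hz1 (Subtype.ext (Subtype.ext e))
    have hQz : (Q : Subgroup G) = Subgroup.zpowers (z : G) := by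
      refine le_antisymm (fun x hx => ?_) (Subgroup.zpowers_le.2 z.2)
      have hxz : x * z = z * x := congrArg Subtype.val (Subgroup.mem_center_iff.1 hzc ⟨x, hx⟩)
      set A := Subgroup.closure ({x, (z : G)} : Set G)
      haveI : IsMulCommutative A := Subgroup.isMulCommutative_closure (by
        rintro a (rfl | rfl) b (rfl | rfl)
        · rfl
        · exact hxz
        · exact hxz.symm
        · rfl)
      have hAQ : A ≤ (Q : Subgroup G) := by
        rw [Subgroup.closure_le]
        rintro a (rfl | rfl)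
        · exact hx
        · exact z.2
      have hAc : IsCyclic A := CfsgLib.Solv.isCyclic_of_fpf_abelian hV1
        (fun a _ => by rw [Subgroup.normalizer_eq_top_iff.2 inferInstance]; trivial) (fun a ha ha1 => by
          rw [eq_bot_iff]
          intro w hw
          obtain ⟨hwV, hwc⟩ := Subgroup.mem_inf.1 hw
          rw [Subgroup.mem_bot]
          by_contra hw1
          exact hcomm w a (Subgroup.mem_centralizer_singleton_iff.1 hwc)
            (orderOf_eq_prime (hVexp w hwV) hw1) (hQ3 a (hAQ ha) ha1))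
      obtain ⟨⟨c, hc⟩, hgen⟩ := IsCyclic.exists_generator (α := A)
      have hgen' : ∀ y ∈ A, y ∈ Subgroup.zpowers c := fun y hy => by
        obtain ⟨i, hi⟩ := Subgroup.mem_zpowers_iff.1 (hgen ⟨y, hy⟩)
        exact ⟨i, congrArg Subtype.val hi⟩
      have hzA : (z : G) ∈ A := Subgroup.subset_closure (by simp)
      have hzc' := hgen' _ hzA
      have hc1 : c ≠ 1 := fun e => hz0 (by
        rw [e, Subgroup.zpowers_one_eq_bot, Subgroup.mem_bot] at hzc'; exact hzc')
      have heq : Subgroup.zpowers (z : G) = Subgroup.zpowers c := by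
        refine Subgroup.eq_of_le_of_card_ge (Subgroup.zpowers_le.2 hzc') ?_
        rw [Nat.card_zpowers, Nat.card_zpowers, hQ3 _ z.2 hz0, hQ3 c (hAQ hc) hc1]
      rw [heq]
      exact hgen' x (Subgroup.subset_closure (by simp))
    have hQcard : Nat.card (Q : Subgroup G) = 3 := by
      rw [hQz, Nat.card_zpowers]; exact hQ3 _ z.2 hz0
    obtain ⟨i, hi⟩ := IsPGroup.iff_card.1 hNp
    have hidx : ¬ 2 ∣ N.index := by rw [hNP]; exact P.not_dvd_index
    have hi3 : N.index = 3 ^ N.index.primeFactorsList.length := by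
      refine Nat.eq_prime_pow_of_unique_prime_dvd Subgroup.index_ne_zero_of_finite fun {r} hr hd => ?_
      rcases hprime r hr (hd.trans N.index_dvd_card) with e | e
      · exact absurd (e ▸ hd) hidx
      · exact e
    rw [Q.card_eq_multiplicity, ← N.card_mul_index, hi, hi3,
      Nat.factorization_mul (pow_ne_zero _ (by norm_num)) (pow_ne_zero _ (by norm_num)),
      Nat.Prime.factorization_pow Nat.prime_two, Nat.Prime.factorization_pow Nat.prime_three] at hQcard
    simp only [Finsupp.coe_add, Pi.add_apply, Finsupp.single_apply] at hQcard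
    rw [hi3]
    simpa using hQcard
  · -- minimal normal 3-subgroup
    left
    have hPc : IsCyclic (P : Subgroup G) := by
      haveI := hab2 P
      refine CfsgLib.Solv.isCyclic_of_fpf_abelian hV1
        (fun a _ => by rw [Subgroup.normalizer_eq_top_iff.2 inferInstance]; trivial) (fun a ha ha1 => ?_)
      rw [eq_bot_iff]
      intro w hw
      obtain ⟨hwV, hwc⟩ := Subgroup.mem_inf.1 hw
      rw [Subgroup.mem_bot]
      by_contra hw1
      exact hcomm a w (Subgroup.mem_centralizer_singleton_iff.1 hwc).symm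
        (orderOf_eq_prime (hexp2 P a ha) ha1) (orderOf_eq_prime (hVexp w hwV) hw1)
    obtain ⟨x, hx⟩ := h23 2 (by simp)
    have h2 : 2 ∣ Nat.card G := hx ▸ orderOf_dvd_natCard x
    obtain ⟨H, hH⟩ := CfsgLib.Inv.exists_index_two_of_cyclic_sylow (even_iff_two_dvd.2 h2) P hPc
    have hPcard : Nat.card (P : Subgroup G) = 2 := by
      obtain ⟨g, hg⟩ := IsCyclic.exists_generator (α := (P : Subgroup G))
      have e1 : orderOf g = Nat.card (P : Subgroup G) := orderOf_eq_card_of_forall_mem_zpowers hg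
      have e2 : orderOf g ∣ 2 := orderOf_dvd_of_pow_eq_one (Subtype.ext (by simpa using hexp2 P g g.2))
      rcases (Nat.dvd_prime Nat.prime_two).1 (e1 ▸ e2) with e | e
      · exact absurd (Subgroup.card_eq_one.1 e) (P.ne_bot_of_dvd_card h2)
      · exact e
    have hHodd : ¬ 2 ∣ Nat.card H := by
      intro hd
      have h4 : 2 ^ 2 ∣ Nat.card G := by
        rw [← H.card_mul_index, hH, sq]; exact Nat.mul_dvd_mul_right hd 2
      have h5 := P.card_eq_multiplicity
      rw [hPcard] at h5
      have h6 := (Nat.prime_two.pow_dvd_iff_le_factorization Nat.card_pos.ne').1 h4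
      have h7 : (Nat.card G).factorization 2 = 1 :=
        (Nat.pow_right_injective le_rfl (by simpa using h5.symm))
      omega
    haveI : H.Normal := Subgroup.normal_of_index_eq_two hH
    have hHexp : ∀ y ∈ H, y ^ 3 = 1 := by
      intro y hy
      rcases hord y with e | e | e
      · rw [orderOf_eq_one_iff.1 e, one_pow]
      · exact absurd (e ▸ Subgroup.orderOf_dvd_natCard H hy) hHodd
      · rw [← e, pow_orderOf_eq_one]
    have hout : ∀ y : G, y ∉ H → y ^ 2 = 1 := by
      intro y hy
      rcases hord y with e | e | e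
      · rw [orderOf_eq_one_iff.1 e, one_pow]
      · rw [← e, pow_orderOf_eq_one]
      · exfalso
        apply hy
        have h1 : y ^ 2 ∈ H := Subgroup.sq_mem_of_index_two hH y
        have h2 := mul_mem h1 h1
        rwa [← pow_add, show 2 + 2 = 3 + 1 from rfl, pow_succ, ← e, pow_orderOf_eq_one, one_mul] at h2
    have hxH : x ∉ H := fun hm => hHodd (hx ▸ Subgroup.orderOf_dvd_natCard H hm)
    have hinv : ∀ y ∈ H, x * y * x⁻¹ = y⁻¹ := by
      intro y hy
      have hxy : x * y ∉ H := fun hm => hxH (by simpa using mul_mem hm (inv_mem hy))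
      have e1 := hout _ hxy
      have e2 : x⁻¹ = x := inv_eq_of_mul_eq_one_right (by rw [← sq, ← hx, pow_orderOf_eq_one])
      rw [sq] at e1
      rw [e2]
      exact eq_inv_of_mul_eq_one_left (by rw [← e1]; group)
    refine ⟨H, inferInstance, ⟨⟨⟨fun y z => Subtype.ext ?_⟩⟩, hHexp⟩, hH⟩
    have e := hinv _ (mul_mem y.2 z.2)
    have e2 : x * ((y : G) * z) * x⁻¹ = (x * y * x⁻¹) * (x * z * x⁻¹) := by group
    rw [e2, hinv _ y.2, hinv _ z.2] at e
    exact inv_injective (by simpa [mul_inv_rev] using e.symm)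

end Cfsg.Agent.S4005
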