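import Mathlib
-- Template for statement S4006 (row 4006; see /opt/grader/pristine/manifest.json for weights).
-- Copy to Cfsg/Agent/S4006.lean and replace the sorry. The statement below is byte-identical to the frozen
-- statement Cfsg.CfsgFrozen.S4006 (Cfsg/Statements/S4006.lean; the theorem Cfsg.fg5_element_orders_one_to_four_structure);
-- the grader kernel-checks Cfsg.Agent.S4006.result against that frozen type. Keep the theorem IN THIS FILE
-- (a `result` declared elsewhere and merely imported here is not credited); helpers may live anywhere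
-- under Cfsg/Agent/.
import Cfsg.Statements.S4006
import Cfsg.Agent.Perm.OrdersFour
import Cfsg.Agent.Char.Burnside
import Cfsg.Agent.Solv.UniqueSub
-- import your own Cfsg.Agent.* helpers here

set_option autoImplicit false
open Cfsg
set_option linter.style.haveILetI false

namespace Cfsg.Agent.S4006

variable {G : Type*} [Group G] [Finite G]

theorem no_commute (hle : ∀ g : G, orderOf g ≤ 4) {a b : G} (h : Commute a b) (ha : orderOf a = 3)
    (hb : orderOf b = 2 ∨ orderOf b = 4) : False := by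
  have h1 := h.orderOf_mul_eq_mul_orderOf_of_coprime (by rcases hb with e | e <;> rw [ha, e] <;> norm_num)
  have h2 := hle (a * b)
  rw [h1, ha] at h2
  omega

theorem abelian_pgroup_normal (hle : ∀ g : G, orderOf g ≤ 4) (hsol : Group.IsSolvable G) [Nontrivial G] :
    ∃ A : Subgroup G, A.Normal ∧ A ≠ ⊥ ∧ (∀ a ∈ A, ∀ b ∈ A, Commute a b) ∧
      ((∀ a ∈ A, a ^ 4 = 1) ∨ ∀ a ∈ A, a ^ 3 = 1) := by
  have hex : ∃ n, derivedSeries G n = ⊥ := hsol.solvable
  classical
  have hk : Nat.find hex ≠ 0 := fun h0 => by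
    have := Nat.find_spec hex
    rw [h0, derivedSeries_zero] at this
    exact top_ne_bot this
  obtain ⟨k, hk'⟩ := Nat.exists_eq_succ_of_ne_zero hk
  have hne : derivedSeries G k ≠ ⊥ := Nat.find_min hex (by omega)
  have hsucc : derivedSeries G (k + 1) = ⊥ := by
    have := Nat.find_spec hex
    rwa [hk'] at this
  have hcomm : ∀ a ∈ derivedSeries G k, ∀ b ∈ derivedSeries G k, Commute a b := fun a ha b hb => by
    have h1 := Subgroup.commutator_mem_commutator ha hb
    rw [← derivedSeries_succ, hsucc, Subgroup.mem_bot] at h1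
    exact commutatorElement_eq_one_iff_commute.1 h1
  refine ⟨_, inferInstance, hne, hcomm, ?_⟩
  by_cases h3 : ∃ a ∈ derivedSeries G k, orderOf a = 3
  · obtain ⟨a, ha, hao⟩ := h3
    refine Or.inr fun b hb => ?_
    have h1 := hle b
    have h0 := orderOf_pos b
    refine orderOf_dvd_iff_pow_eq_one.1 ?_
    generalize hn : orderOf b = n at h0 h1
    interval_cases n
    · norm_num
    · exact (no_commute hle (hcomm a ha b hb) hao (Or.inl hn)).elim
    · norm_num
    · exact (no_commute hle (hcomm a ha b hb) hao (Or.inr hn)).elim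
  · push Not at h3
    refine Or.inl fun b hb => ?_
    have h1 := hle b
    have h0 := orderOf_pos b
    refine orderOf_dvd_iff_pow_eq_one.1 ?_
    generalize hn : orderOf b = n at h0 h1
    interval_cases n
    · norm_num
    · norm_num
    · exact (h3 b hb hn).elim
    · norm_num

/-- The largest normal subgroup with a given exponent condition. -/
theorem exists_max (p : ℕ) [Fact p.Prime] (A : Subgroup G) [A.Normal] (hA : IsPGroup p A) :
    ∃ N : Subgroup G, N.Normal ∧ IsPGroup p N ∧ A ≤ N ∧ ∀ M : Subgroup G, M.Normal → IsPGroup p M → M ≤ N := by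
  obtain ⟨P⟩ : Nonempty (Sylow p G) := inferInstance
  refine ⟨(P : Subgroup G).normalCore, Subgroup.normalCore_normal _, P.isPGroup'.to_le (Subgroup.normalCore_le _), ?_, ?_⟩
  · exact Subgroup.normal_le_normalCore.2 (hA.le_sylow_of_normal P)
  · intro M hM hMp
    exact Subgroup.normal_le_normalCore.2 (hMp.le_sylow_of_normal P)

/-- A group of order six that is not cyclic. -/
theorem iso_perm_three {H : Type*} [Group H] [Finite H] (hc : Nat.card H = 6) {u : H} (hu : orderOf u = 2)
    {v : H} (huv : u * v ≠ v * u) : Nonempty (H ≃* Equiv.Perm (Fin 3)) := by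
  classical
  set K := Subgroup.zpowers u
  have hKi : K.index = 3 := by
    have h1 := K.card_mul_index
    rw [Nat.card_zpowers, hu, hc] at h1
    omega
  haveI := Fintype.ofFinite (H ⧸ K)
  have hq : Fintype.card (H ⧸ K) = 3 := by rw [← Nat.card_eq_fintype_card]; exact hKi
  let f : H →* Equiv.Perm (H ⧸ K) := MulAction.toPermHom H (H ⧸ K)
  have hinj : Function.Injective f := by
    rw [← MonoidHom.ker_eq_bot_iff, ← Subgroup.normalCore_eq_ker, Subgroup.eq_bot_iff_forall]
    intro x hx
    have hxK := K.normalCore_le hx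
    obtain ⟨i, rfl⟩ := Subgroup.mem_zpowers_iff.1 hxK
    rw [← zpow_mod_orderOf, hu] at hx ⊢
    rcases Int.emod_two_eq i with e | e
    · simp [e]
    · exfalso
      simp only [Nat.cast_ofNat, e, zpow_one] at hx
      have h1 := K.normalCore_le ((Subgroup.normalCore_normal K).conj_mem u hx v)
      obtain ⟨j, hj⟩ := Subgroup.mem_zpowers_iff.1 h1
      rw [← zpow_mod_orderOf, hu] at hj
      rcases Int.emod_two_eq j with e | e <;> simp only [Nat.cast_ofNat, e, zpow_zero, zpow_one] at hj
      · have : u = 1 := conj_eq_one_iff.1 hj.symm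
        rw [this, orderOf_one] at hu
        omega
      · exact huv (eq_mul_inv_iff_mul_eq.1 hj)
  have hb : Function.Bijective f := by
    refine (Nat.bijective_iff_injective_and_card f).2 ⟨hinj, ?_⟩
    rw [hc, Nat.card_perm, Nat.card_eq_fintype_card, hq]; rfl
  exact ⟨(MulEquiv.ofBijective f hb).trans (Fintype.equivFinOfCardEq hq).permCongrHom⟩


set_option maxHeartbeats 2000000 in
/-- A finite group whose set of element orders is exactly {1, 2, 3, 4} has a normal subgroup N such that either N is a 2-group of exponent 4 and nilpotency class at most 2 with G/N of order 3, or N is an elementary abelian 2-group with G/N isomorphic to the symmetric group of degree 3, or N is an elementary abelian 3-group with G/N cyclic of order 4 or quaternion of order 8. -/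
theorem result {G : Type*} [Group G] [Finite G] (h : Set.range (orderOf : G → ℕ) = {k : ℕ | 1 ≤ k ∧ k ≤ 4}) :
    ∃ (N : Subgroup G) (_ : N.Normal),
      (IsPGroup 2 ↥N ∧ Monoid.exponent ↥N = 4 ∧ Group.nilpotencyClass ↥N ≤ 2 ∧ N.index = 3) ∨
      (Cfsg.IsElementaryAbelian 2 N ∧ Nonempty (G ⧸ N ≃* Equiv.Perm (Fin 3))) ∨
      (Cfsg.IsElementaryAbelian 3 N ∧ ((IsCyclic (G ⧸ N) ∧ N.index = 4) ∨ Nonempty (G ⧸ N ≃* QuaternionGroup 2))) := by
  classical
  have hmem : ∀ g : G, 1 ≤ orderOf g ∧ orderOf g ≤ 4 := fun g => by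
    have : orderOf g ∈ {k : ℕ | 1 ≤ k ∧ k ≤ 4} := h ▸ ⟨g, rfl⟩
    exact this
  have hex : ∀ k, 1 ≤ k → k ≤ 4 → ∃ g : G, orderOf g = k := fun k h1 h2 => by
    have : k ∈ Set.range (orderOf : G → ℕ) := h ▸ ⟨h1, h2⟩
    exact this
  have hle : ∀ g : G, orderOf g ≤ 4 := fun g => (hmem g).2
  have hcases : ∀ g : G, g = 1 ∨ orderOf g = 2 ∨ orderOf g = 3 ∨ orderOf g = 4 := fun g => by
    have := hmem g
    by_cases h1 : g = 1
    · exact Or.inl h1
    · have : orderOf g ≠ 1 := fun e => h1 (orderOf_eq_one_iff.1 e)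
      omega
  have hp4 : ∀ {g : G}, (∃ k, orderOf g = 2 ^ k) → g ^ 4 = 1 := by
    rintro g ⟨k, hk⟩
    refine orderOf_dvd_iff_pow_eq_one.1 ?_
    have := hle g
    rw [hk] at this ⊢
    rcases k with _ | _ | _ | k
    · norm_num
    · norm_num
    · norm_num
    · rw [pow_add] at this; have := Nat.one_le_two_pow (n := k); omega
  have hp3 : ∀ {g : G}, (∃ k, orderOf g = 3 ^ k) → g ^ 3 = 1 := by
    rintro g ⟨k, hk⟩
    refine orderOf_dvd_iff_pow_eq_one.1 ?_
    have := hle g
    rw [hk] at this ⊢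
    rcases k with _ | _ | k
    · norm_num
    · norm_num
    · rw [pow_add] at this; have := Nat.one_le_pow k 3 (by norm_num); omega
  obtain ⟨s₀, hs₀⟩ := hex 3 (by norm_num) (by norm_num)
  obtain ⟨f₄, hf₄⟩ := hex 4 (by norm_num) le_rfl
  haveI : Nontrivial G := ⟨s₀, 1, fun e => by rw [e, orderOf_one] at hs₀; omega⟩
  have hprimes : ∀ r : ℕ, r.Prime → r ∣ Nat.card G → r = 2 ∨ r = 3 := by
    intro r hr hd
    haveI : Fact r.Prime := ⟨hr⟩
    obtain ⟨g, hg⟩ := exists_prime_orderOf_dvd_card' r hd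
    have := hle g
    have := hr.two_le
    have : r ≠ 4 := fun e => by subst e; norm_num at hr
    omega
  have hsol : Group.IsSolvable G := by
    obtain ⟨a, m, hm, hcard⟩ := Nat.exists_eq_pow_mul_and_not_dvd (Nat.card_pos (α := G)).ne' 2 (by norm_num)
    obtain ⟨b, hb⟩ : ∃ b, m = 3 ^ b := by
      refine ⟨_, Nat.eq_prime_pow_of_unique_prime_dvd (n := m) (fun e => by subst e; simp at hm) fun {d} hd hdm => ?_⟩
      rcases hprimes d hd (hcard ▸ hdm.trans (dvd_mul_left _ _)) with e | e
      · exact absurd (e ▸ hdm) hm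
      · exact e
    exact CfsgLib.Char.solvable_of_card_two_primes 2 3 a b Nat.prime_two Nat.prime_three (by rw [hcard, hb])
  haveI := Fact.mk Nat.prime_two
  haveI := Fact.mk Nat.prime_three
  -- elements and exponents in quotients
  have hquot : ∀ (N : Subgroup G) [N.Normal] (v : G ⧸ N), orderOf v ≤ 4 := by
    intro N _ v
    obtain ⟨g, rfl⟩ := QuotientGroup.mk_surjective v
    exact (Nat.le_of_dvd (orderOf_pos g) (orderOf_map_dvd (QuotientGroup.mk' N) g)).trans (hle g)
  obtain ⟨A, hAn, hA1, hAc, hA⟩ := abelian_pgroup_normal hle hsol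
  rcases hA with hA | hA
  swap
  · -- a normal three-subgroup
    obtain ⟨Q, hQn, hQp, hAQ, hQmax⟩ := exists_max 3 A (fun a => ⟨1, Subtype.ext (by simpa using hA a a.2)⟩)
    have hQ3 : ∀ q ∈ Q, q ^ 3 = 1 := fun q hq => hp3 (by
      obtain ⟨k, hk⟩ := IsPGroup.iff_orderOf.1 hQp ⟨q, hq⟩; exact ⟨k, by rwa [Subgroup.orderOf_mk] at hk⟩)
    obtain ⟨q₀, hq₀, hq₀1⟩ := (Subgroup.bot_or_exists_ne_one Q).resolve_left fun e => hA1 (le_bot_iff.1 (e ▸ hAQ))
    have hq₀o : orderOf q₀ = 3 := orderOf_eq_prime (hQ3 q₀ hq₀) hq₀1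
    have hfree : ∀ t : G, orderOf t = 2 → ∀ q ∈ Q, Commute t q → q = 1 := fun t ht q hq hc =>
      by_contra fun hq1 => no_commute hle hc.symm (orderOf_eq_prime (hQ3 q hq) hq1) (Or.inl ht)
    have hinv : ∀ t : G, orderOf t = 2 → ∀ q ∈ Q, t * q * t⁻¹ = q⁻¹ := by
      intro t ht
      have htt : t * t = 1 := by rw [← pow_two, ← ht, pow_orderOf_eq_one]
      let f : Q → Q := fun q => ⟨(q : G)⁻¹ * (t * q * t⁻¹), Q.mul_mem (Q.inv_mem q.2) (hQn.conj_mem q q.2 t)⟩
      have hf : Function.Injective f := by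
        intro a b e
        have e' : (a : G)⁻¹ * (t * a * t⁻¹) = (b : G)⁻¹ * (t * b * t⁻¹) := congrArg Subtype.val e
        have h1 : Commute t ((b : G) * (a : G)⁻¹) := by
          show t * ((b : G) * (a : G)⁻¹) = ((b : G) * (a : G)⁻¹) * t
          calc t * ((b : G) * (a : G)⁻¹) = ((b : G) * ((b : G)⁻¹ * (t * b * t⁻¹))) * (t * (a : G)⁻¹) := by group
            _ = ((b : G) * ((a : G)⁻¹ * (t * a * t⁻¹))) * (t * (a : G)⁻¹) := by rw [e']
            _ = _ := by group
        exact Subtype.ext (mul_inv_eq_one.1 (hfree t ht _ (Q.mul_mem b.2 (Q.inv_mem a.2)) h1)).symm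
      intro q hq
      obtain ⟨a, ha⟩ := (Finite.injective_iff_surjective.1 hf) ⟨q, hq⟩
      have e : (a : G)⁻¹ * (t * a * t⁻¹) = q := congrArg Subtype.val ha
      rw [← e, show t⁻¹ = t from inv_eq_of_mul_eq_one_right htt]
      calc t * ((a : G)⁻¹ * (t * a * t)) * t = (t * (a : G)⁻¹ * t) * a * (t * t) := by group
        _ = _ := by rw [htt, mul_one, mul_inv_rev, inv_inv, mul_inv_rev, mul_inv_rev, inv_eq_of_mul_eq_one_right htt]; group
    have hQab : ∀ a ∈ Q, ∀ b ∈ Q, Commute a b := by
      obtain ⟨t, ht⟩ := hex 2 (by norm_num) (by norm_num)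
      intro a ha b hb
      have h1 := hinv t ht (a * b) (Q.mul_mem ha hb)
      rw [mul_inv_rev, ← hinv t ht a ha, ← hinv t ht b hb] at h1
      show a * b = b * a
      calc a * b = t⁻¹ * (t * (a * b) * t⁻¹) * t := by group
        _ = _ := by rw [h1]; group
    have hCQ : Subgroup.centralizer (Q : Set G) ≤ Q := by
      haveI : (Subgroup.centralizer (Q : Set G)).Normal := inferInstance
      refine hQmax _ inferInstance (IsPGroup.iff_orderOf.2 fun x => ?_)
      have hx : Commute q₀ (x : G) := Subgroup.mem_centralizer_iff.1 x.2 q₀ hq₀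
      rw [← Subgroup.orderOf_coe]
      rcases hcases x with e | e | e | e
      · exact ⟨0, by rw [e, orderOf_one, pow_zero]⟩
      · exact (no_commute hle hx hq₀o (Or.inl e)).elim
      · exact ⟨1, by rw [e, pow_one]⟩
      · exact (no_commute hle hx hq₀o (Or.inr e)).elim
    obtain ⟨t, ht⟩ := hex 2 (by norm_num) (by norm_num)
    set π := QuotientGroup.mk' Q
    have huniq : ∀ s : G, orderOf s = 2 → π s = π t := fun s hs => by
      refine QuotientGroup.eq.2 (hCQ (Subgroup.mem_centralizer_iff.2 fun q hq => ?_))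
      have h1 := hinv s hs q hq
      have h2 := hinv t ht q hq
      calc q * (s⁻¹ * t) = s⁻¹ * (s * q * s⁻¹) * t := by group
        _ = s⁻¹ * (t * q * t⁻¹) * t := by rw [h1, h2]
        _ = _ := by group
    have hnotQ : ∀ g : G, orderOf g = 2 ∨ orderOf g = 4 → g ∉ Q := fun g hg hgQ => by
      have := orderOf_dvd_of_pow_eq_one (hQ3 g hgQ)
      rcases hg with e | e <;> rw [e] at this <;> norm_num at this
    have htne : π t ≠ 1 := fun e => hnotQ t (Or.inl ht) ((QuotientGroup.eq_one_iff t).1 e)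
    have hto : orderOf (π t) = 2 := orderOf_eq_prime (by rw [← map_pow, ← ht, pow_orderOf_eq_one, map_one]) htne
    have hcent : ∀ v : G ⧸ Q, Commute v (π t) := by
      intro v
      obtain ⟨g, rfl⟩ := QuotientGroup.mk_surjective v
      have h1 := huniq (g * t * g⁻¹) (((MulAut.conj g).orderOf_eq t).trans ht)
      rw [map_mul, map_mul, map_inv] at h1
      exact mul_inv_eq_iff_eq_mul.1 h1
    have hTp : IsPGroup 2 (G ⧸ Q) := IsPGroup.iff_orderOf.2 fun v => by
      have h0 := orderOf_pos v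
      have h1 := hquot Q v
      generalize hn : orderOf v = n at h0 h1
      interval_cases n
      · exact ⟨0, rfl⟩
      · exact ⟨1, rfl⟩
      · exact (no_commute (hquot Q) (hcent v) hn (Or.inl hto)).elim
      · exact ⟨2, rfl⟩
    have hinvol : ∀ v : G ⧸ Q, orderOf v = 2 → v = π t := by
      intro v hv
      obtain ⟨g, rfl⟩ := QuotientGroup.mk_surjective v
      have hd : 2 ∣ orderOf g := hv ▸ orderOf_map_dvd π g
      rcases hcases g with e | e | e | e
      · rw [e, orderOf_one] at hd; norm_num at hd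
      · exact huniq g e
      · rw [e] at hd; norm_num at hd
      · exfalso
        refine hnotQ (g ^ 2) (Or.inl ?_) ((QuotientGroup.eq_one_iff _).1 ?_)
        · rw [orderOf_pow' g (by norm_num), e]; norm_num
        · show π (g ^ 2) = 1
          rw [map_pow, ← hv]; exact pow_orderOf_eq_one _
    have hπf : orderOf (π f₄) = 4 := by
      rcases (Nat.dvd_prime_pow Nat.prime_two (m := 2)).1 (show orderOf (π f₄) ∣ 2 ^ 2 by rw [show (2 : ℕ) ^ 2 = 4 from rfl, ← hf₄]; exact orderOf_map_dvd π f₄) with ⟨i, hi, e⟩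
      interval_cases i
      · have e' : π f₄ = 1 := by simpa using e
        exact absurd ((QuotientGroup.eq_one_iff f₄).1 e') (hnotQ f₄ (Or.inr hf₄))
      · exfalso
        refine hnotQ (f₄ ^ 2) (Or.inl ?_) ((QuotientGroup.eq_one_iff _).1 ?_)
        · rw [orderOf_pow' f₄ (by norm_num), hf₄]; norm_num
        · show π (f₄ ^ 2) = 1
          rw [map_pow, show (2 : ℕ) = orderOf (π f₄) by rw [e]; norm_num]; exact pow_orderOf_eq_one _
      · exact e
    refine ⟨Q, hQn, Or.inr (Or.inr ⟨⟨⟨⟨fun a b => Subtype.ext (hQab a a.2 b b.2)⟩⟩, hQ3⟩, ?_⟩)⟩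
    rcases CfsgLib.Solv.pgroup_unique_sub hTp (fun x y hx hy => by
      rw [hinvol y hy, ← hinvol x hx]; exact Subgroup.mem_zpowers x) with hc | ⟨-, n, ⟨e⟩⟩
    · obtain ⟨v, hv⟩ := hc.exists_generator
      have h1 : Nat.card (G ⧸ Q) = orderOf v := (orderOf_eq_card_of_forall_mem_zpowers hv).symm
      have h2 := hquot Q v
      have h3 : 4 ∣ Nat.card (G ⧸ Q) := hπf ▸ orderOf_dvd_natCard _
      have h4 := Nat.le_of_dvd Nat.card_pos h3
      exact Or.inl ⟨hc, by rw [Subgroup.index]; omega⟩
    · have h1 := hquot Q (e.symm (QuaternionGroup.a 1))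
      rw [MulEquiv.orderOf_eq, QuaternionGroup.orderOf_a_one] at h1
      rcases n with _ | n
      · exact Or.inr ⟨e⟩
      · rw [pow_add] at h1; have := Nat.one_le_two_pow (n := n); omega
  -- a normal two-subgroup
  obtain ⟨N, hNn, hNp, hAN, hNmax⟩ := exists_max 2 A (IsPGroup.iff_orderOf.2 fun a => by
    rw [← Subgroup.orderOf_coe]
    obtain ⟨i, -, hi⟩ := (Nat.dvd_prime_pow Nat.prime_two (m := 2)).1 (orderOf_dvd_of_pow_eq_one (hA a a.2))
    exact ⟨i, hi⟩)
  haveI := hNn
  have hN4 : ∀ n ∈ N, n ^ 4 = 1 := fun n hn => hp4 (by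
    obtain ⟨k, hk⟩ := IsPGroup.iff_orderOf.1 hNp ⟨n, hn⟩; exact ⟨k, by rwa [Subgroup.orderOf_mk] at hk⟩)
  have hNfix : ∀ y : G, orderOf y = 3 → ∀ n ∈ N, Commute y n → n = 1 := fun y hy n hn hc => by
    have h4 := orderOf_dvd_of_pow_eq_one (hN4 n hn)
    rcases hcases n with e | e | e | e
    · exact e
    · exact (no_commute hle hc hy (Or.inl e)).elim
    · rw [e] at h4; norm_num at h4
    · exact (no_commute hle hc hy (Or.inr e)).elim
  set π := QuotientGroup.mk' N
  have hord3 : ∀ y : G, orderOf y = 3 → orderOf (π y) = 3 := fun y hy => by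
    refine orderOf_eq_prime (by rw [← map_pow, ← hy, pow_orderOf_eq_one, map_one]) fun e => ?_
    have h4 := orderOf_dvd_of_pow_eq_one (hN4 y ((QuotientGroup.eq_one_iff y).1 e))
    rw [hy] at h4; norm_num at h4
  have hcoset : ∀ y : G, orderOf y = 3 → ∀ n ∈ N, orderOf (n * y) = 3 := fun y hy n hn => by
    have h1 : 3 ∣ orderOf (n * y) := by
      have := orderOf_map_dvd π (n * y)
      rwa [map_mul, show π n = 1 from (QuotientGroup.eq_one_iff n).2 hn, one_mul, hord3 y hy] at this
    rcases hcases (n * y) with e | e | e | e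
    · rw [e, orderOf_one] at h1; norm_num at h1
    · rw [e] at h1; norm_num at h1
    · exact e
    · rw [e] at h1; norm_num at h1
  have hnorm : ∀ y : G, orderOf y = 3 → ∀ n ∈ N, n * (y * n * y⁻¹) * (y * (y * n * y⁻¹) * y⁻¹) = 1 := by
    intro y hy n hn
    have h1 : (n * y) ^ 3 = 1 := by rw [← hcoset y hy n hn]; exact pow_orderOf_eq_one _
    have h3 : y ^ 3 = 1 := by rw [← hy]; exact pow_orderOf_eq_one _
    rw [pow_three] at h1 h3
    calc n * (y * n * y⁻¹) * (y * (y * n * y⁻¹) * y⁻¹) = (n * y) * ((n * y) * (n * y)) * (y * (y * y))⁻¹ := by group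
      _ = 1 := by rw [h1, h3, inv_one, mul_one]
  have hcommute : ∀ y : G, orderOf y = 3 → ∀ n ∈ N, Commute n (y * n * y⁻¹) := by
    intro y hy n hn
    have h1 := hnorm y hy n hn
    have h2 := hnorm y⁻¹ (by rw [orderOf_inv, hy]) n hn
    have h3 : y ^ 3 = 1 := by rw [← hy]; exact pow_orderOf_eq_one _
    have hyi : y⁻¹ = y * y := inv_eq_of_mul_eq_one_right (by rw [← mul_assoc, ← pow_three']; exact h3)
    set b := y * n * y⁻¹
    set c := y * b * y⁻¹
    have e1 : y⁻¹ * n * y⁻¹⁻¹ = c := by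
      rw [inv_inv]
      calc y⁻¹ * n * y = y⁻¹ * n * (y⁻¹)⁻¹ := by rw [inv_inv]
        _ = (y * y) * n * (y * y)⁻¹ := by rw [hyi]
        _ = _ := by simp only [c, b]; group
    have e2 : y⁻¹ * (y⁻¹ * n * y⁻¹⁻¹) * y⁻¹⁻¹ = b := by
      rw [e1]; simp only [c]; group
    rw [e2, e1] at h2
    have e3 : c = (n * b)⁻¹ := eq_inv_of_mul_eq_one_right h1
    rw [e3] at h2
    show n * b = b * n
    have h4 : n * b⁻¹ * n⁻¹ = b⁻¹ := eq_inv_of_mul_eq_one_left (by rw [← h2]; group)
    calc n * b = (n * b⁻¹ * n⁻¹)⁻¹ * n := by group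
      _ = _ := by rw [h4, inv_inv]
  have hclass : ∀ a b c : N, Commute (a * b * a⁻¹ * b⁻¹) c := by
    refine CfsgLib.Perm.OrdersFour.engel_class_two (M := N) ?_ ?_
    · intro x g
      have key : ∀ m ∈ N, ∀ g ∈ N, Commute m (g * (s₀ * m * s₀⁻¹) * g⁻¹) ∧
          Commute m (g * (s₀⁻¹ * m * s₀) * g⁻¹) := by
        intro m hm g hg
        constructor
        · have := hcommute (g * s₀) (hcoset s₀ hs₀ g hg) m hm
          rwa [show g * s₀ * m * (g * s₀)⁻¹ = g * (s₀ * m * s₀⁻¹) * g⁻¹ by group] at this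
        · have := hcommute (g * s₀⁻¹) (hcoset s₀⁻¹ (by rw [orderOf_inv, hs₀]) g hg) m hm
          rwa [show g * s₀⁻¹ * m * (g * s₀⁻¹)⁻¹ = g * (s₀⁻¹ * m * s₀) * g⁻¹ by group] at this
      obtain ⟨k1, k2⟩ := key x x.2 g g.2
      have h1 := hnorm s₀ hs₀ x x.2
      set b := s₀ * (x : G) * s₀⁻¹
      have h3 : s₀ ^ 3 = 1 := by rw [← hs₀]; exact pow_orderOf_eq_one _
      have hyi : s₀⁻¹ = s₀ * s₀ := inv_eq_of_mul_eq_one_right (by rw [← mul_assoc, ← pow_three']; exact h3)
      have e1 : s₀⁻¹ * (x : G) * s₀ = s₀ * b * s₀⁻¹ := by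
        calc s₀⁻¹ * (x : G) * s₀ = s₀⁻¹ * (x : G) * (s₀⁻¹)⁻¹ := by rw [inv_inv]
          _ = (s₀ * s₀) * (x : G) * (s₀ * s₀)⁻¹ := by rw [hyi]
          _ = _ := by simp only [b]; group
      rw [e1] at k2
      set c := s₀ * b * s₀⁻¹
      have e3 : (x : G) = (b * c)⁻¹ := eq_inv_of_mul_eq_one_left (by rw [← mul_assoc]; exact h1)
      refine Subtype.ext ?_
      show (x : G) * ((g : G) * x * (g : G)⁻¹) = ((g : G) * x * (g : G)⁻¹) * x
      have e4 : (g : G) * x * (g : G)⁻¹ = ((g : G) * b * (g : G)⁻¹ * ((g : G) * c * (g : G)⁻¹))⁻¹ := by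
        nth_rewrite 1 [e3]; group
      rw [e4]
      exact ((k1.mul_right k2).inv_right).eq
    · intro x hx
      refine Subtype.ext ?_
      have h4 := hN4 x x.2
      have h3 : (x : G) ^ 3 = 1 := congrArg Subtype.val hx
      rwa [pow_succ, h3, one_mul] at h4
  -- the quotient
  haveI : Nontrivial (G ⧸ N) := by
    refine ⟨π s₀, 1, fun e => ?_⟩
    have := hord3 s₀ hs₀
    rw [e, orderOf_one] at this; norm_num at this
  haveI := hsol
  obtain ⟨K, hKn, hK1, hKc, hK⟩ := abelian_pgroup_normal (hquot N) inferInstance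
  replace hK : ∀ a ∈ K, a ^ 3 = 1 := hK.resolve_left fun hK4 => by
    refine hK1 (le_bot_iff.1 ?_)
    have hKp : IsPGroup 2 K := IsPGroup.iff_orderOf.2 fun a => by
      rw [← Subgroup.orderOf_coe]
      obtain ⟨i, -, hi⟩ := (Nat.dvd_prime_pow Nat.prime_two (m := 2)).1 (orderOf_dvd_of_pow_eq_one (hK4 a a.2))
      exact ⟨i, hi⟩
    have := hNmax (K.comap π) inferInstance (hKp.comap_of_ker_isPGroup π (by rwa [QuotientGroup.ker_mk']))
    intro v hv
    obtain ⟨g, rfl⟩ := QuotientGroup.mk_surjective v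
    exact Subgroup.mem_bot.2 ((QuotientGroup.eq_one_iff g).2 (this hv))
  -- Sylow three-subgroups have order three
  obtain ⟨n₀, hn₀, hn₀1⟩ := (Subgroup.bot_or_exists_ne_one A).resolve_left hA1
  have hone : ∀ a b : G, orderOf a = 3 → orderOf b = 3 → Commute a b → b ∈ Subgroup.zpowers a := by
    intro a b ha hb hab
    by_contra hb'
    have ha3 : a ^ 3 = 1 := by rw [← ha]; exact pow_orderOf_eq_one _
    have hb3 : b ^ 3 = 1 := by rw [← hb]; exact pow_orderOf_eq_one _
    have o3 : ∀ k : ℕ, orderOf (a ^ k * b) = 3 := fun k => orderOf_eq_prime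
      (by rw [(hab.pow_left k).mul_pow, ← pow_mul, mul_comm k, pow_mul, ha3, hb3, one_pow, mul_one])
      (fun e => hb' (eq_inv_of_mul_eq_one_right e ▸ Subgroup.inv_mem _ (Subgroup.npow_mem_zpowers a k)))
    -- the action on the commutative normal subgroup
    letI : CommGroup A := { (inferInstance : Group A) with mul_comm := fun u v => Subtype.ext (hAc u u.2 v v.2) }
    haveI := hAn
    let c : G → A → A := fun g v => ⟨g * v * g⁻¹, hAn.conj_mem v v.2 g⟩
    have N3 : ∀ y : G, orderOf y = 3 → ∀ v : A, v * c y v * c (y * y) v = 1 := fun y hy v => Subtype.ext (by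
      show (v : G) * (y * v * y⁻¹) * (y * y * v * (y * y)⁻¹) = 1
      rw [← hnorm y hy v (hAN v.2)]; group)
    have cmul : ∀ g g' v, c (g * g') v = c g (c g' v) := fun g g' v => Subtype.ext (by simp [c, mul_assoc])
    set v : A := ⟨n₀, hn₀⟩
    have hab2 : Commute (a * b) (a * b) := Commute.refl _
    have e0 := N3 b hb v
    have e1 := N3 (a * b) (by simpa using o3 1) v
    have e2 := N3 (a * a * b) (by simpa [pow_two] using o3 2) v
    have ea := N3 a ha (c b v)
    have ea2 := N3 a ha (c (b * b) v)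
    rw [← cmul, ← cmul] at ea ea2
    have r1 : a * b * (a * b) = a * a * (b * b) := hab2 ▸ by rw [mul_assoc a b, ← mul_assoc b a, ← hab.eq]; group
    have r2 : a * a * b * (a * a * b) = a * (b * b) := by
      calc a * a * b * (a * a * b) = (a * a * b) * (a * a) * b := by group
        _ = a * a * (a * a) * b * b := by rw [mul_assoc (a * a) b, ((hab.symm.mul_right hab.symm)).eq]; group
        _ = (a * a * a) * (a * (b * b)) := by group
        _ = _ := by rw [← pow_three', ha3, one_mul]
    rw [r1] at e1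
    rw [r2] at e2
    have key : v ^ 3 = 1 := by
      have hh : (v * c b v * c (b * b) v) * (v * c (a * b) v * c (a * a * (b * b)) v) *
          (v * c (a * a * b) v * c (a * (b * b)) v) =
          v ^ 3 * (c b v * c (a * b) v * c (a * a * b) v) * (c (b * b) v * c (a * (b * b)) v * c (a * a * (b * b)) v) := by
        generalize c b v = x₁; generalize c (b * b) v = x₂; generalize c (a * b) v = x₃
        generalize c (a * a * (b * b)) v = x₄; generalize c (a * a * b) v = x₅; generalize c (a * (b * b)) v = x₆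
        simp only [pow_succ, pow_zero, one_mul]; ac_rfl
      rw [e0, e1, e2, ea, ea2] at hh
      simpa using hh.symm
    have h3 : n₀ ^ 3 = 1 := congrArg Subtype.val key
    have h4 := hN4 n₀ (hAN hn₀)
    rw [pow_succ, h3, one_mul] at h4
    exact hn₀1 h4
  obtain ⟨P, hP⟩ := (IsPGroup.of_card (n := 1) (by rw [Nat.card_zpowers, hs₀, pow_one]) :
    IsPGroup 3 (Subgroup.zpowers s₀)).exists_le_sylow
  have hP3 : Nat.card (P : Subgroup G) = 3 := by
    haveI : Nontrivial (P : Subgroup G) := ⟨⟨s₀, hP (Subgroup.mem_zpowers _)⟩, 1, fun e => by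
      have h' : s₀ = 1 := congrArg Subtype.val e
      rw [h', orderOf_one] at hs₀; omega⟩
    haveI := P.isPGroup'.center_nontrivial
    obtain ⟨⟨⟨z, hzP⟩, hzc⟩, hz1⟩ := exists_ne (1 : Subgroup.center (P : Subgroup G))
    have hpow : ∀ x ∈ (P : Subgroup G), x ≠ 1 → orderOf x = 3 := fun x hx hx1 => orderOf_eq_prime (hp3 (by
      obtain ⟨k, hk⟩ := IsPGroup.iff_orderOf.1 P.isPGroup' ⟨x, hx⟩; exact ⟨k, by rwa [Subgroup.orderOf_mk] at hk⟩)) hx1
    have hzo : orderOf z = 3 := hpow z hzP fun e => hz1 (Subtype.ext (Subtype.ext e))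
    have hle' : (P : Subgroup G) ≤ Subgroup.zpowers z := fun x hx => by
      by_cases hx1 : x = 1
      · exact hx1 ▸ one_mem _
      · exact hone z x hzo (hpow x hx hx1) (congrArg Subtype.val (Subgroup.mem_center_iff.1 hzc ⟨x, hx⟩)).symm
    rw [le_antisymm hle' (Subgroup.zpowers_le.2 hzP), Nat.card_zpowers, hzo]
  have hfac : (Nat.card G).factorization 3 = 1 := by
    have := P.card_eq_multiplicity
    rw [hP3] at this
    exact Nat.pow_right_injective (le_refl 2 |>.trans (by norm_num)) (this.symm.trans (pow_one 3).symm)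
  have hfacN : (Nat.card (G ⧸ N)).factorization 3 ≤ 1 := hfac ▸
    (Nat.factorization_le_iff_dvd Nat.card_pos.ne' Nat.card_pos.ne').2 (Subgroup.card_quotient_dvd_card N) 3
  have hsmall : ∀ M : Subgroup (G ⧸ N), (∀ v ∈ M, v ^ 3 = 1) → M ≠ ⊥ → Nat.card M = 3 := by
    intro M hM hM1
    have hMp : IsPGroup 3 M := fun v => ⟨1, Subtype.ext (by simpa using hM v v.2)⟩
    obtain ⟨k, hk⟩ := IsPGroup.iff_card.1 hMp
    have h1 := M.card_subgroup_dvd_card
    rw [hk, Nat.prime_three.pow_dvd_iff_le_factorization Nat.card_pos.ne'] at h1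
    rcases k with _ | _ | k
    · exact absurd (Subgroup.card_eq_one.1 (by simpa using hk)) hM1
    · simpa using hk
    · omega
  have hKcard := hsmall K hK hK1
  obtain ⟨k, hkK, hk1⟩ := (Subgroup.bot_or_exists_ne_one K).resolve_left hK1
  have hko : orderOf k = 3 := orderOf_eq_prime (hK k hkK) hk1
  have hKz : K = Subgroup.zpowers k := (Subgroup.eq_of_le_of_card_ge (Subgroup.zpowers_le.2 hkK)
    (by rw [hKcard, Nat.card_zpowers, hko])).symm
  have hconjk : ∀ v : G ⧸ N, v * k * v⁻¹ = k ∨ v * k * v⁻¹ = k⁻¹ := by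
    intro v
    have h1 : v * k * v⁻¹ ∈ Subgroup.zpowers k := hKz ▸ hKn.conj_mem k hkK v
    obtain ⟨i, hi⟩ := Subgroup.mem_zpowers_iff.1 h1
    rw [← hi, ← zpow_mod_orderOf, hko]
    have h2 : i % 3 = 0 ∨ i % 3 = 1 ∨ i % 3 = 2 := by omega
    rcases h2 with e | e | e <;> simp only [Nat.cast_ofNat, e]
    · exfalso
      rw [← zpow_mod_orderOf, hko] at hi
      simp only [Nat.cast_ofNat, e, zpow_zero] at hi
      exact hk1 (conj_eq_one_iff.1 hi.symm)
    · exact Or.inl (zpow_one k)
    · right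
      refine (inv_eq_of_mul_eq_one_right ?_).symm
      have h3 : k ^ 3 = 1 := hK k hkK
      rw [← h3, show ((2 : ℤ)) = ((2 : ℕ) : ℤ) from rfl, zpow_natCast]; group
  have hcentk : ∀ v : G ⧸ N, v * k * v⁻¹ = k → v ∈ K := by
    intro v hv
    set C := Subgroup.centralizer (K : Set (G ⧸ N))
    have hvC : ∀ w : G ⧸ N, w ∈ C → w ^ 3 = 1 := fun w hw => by
      have hc : Commute k w := Subgroup.mem_centralizer_iff.1 hw k hkK
      have h0 := orderOf_pos w
      have h1 := hquot N w
      refine orderOf_dvd_iff_pow_eq_one.1 ?_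
      generalize hn : orderOf w = n at h0 h1
      interval_cases n
      · norm_num
      · exact (no_commute (hquot N) hc hko (Or.inl hn)).elim
      · norm_num
      · exact (no_commute (hquot N) hc hko (Or.inr hn)).elim
    have hKC : K ≤ C := fun w hw => Subgroup.mem_centralizer_iff.2 fun u hu => hKc u hu w hw
    have hCK : K = C := Subgroup.eq_of_le_of_card_ge hKC (by
      rw [hKcard, hsmall C hvC fun e => hK1 (le_bot_iff.1 (e ▸ hKC))])
    rw [hCK]
    refine Subgroup.mem_centralizer_iff.2 fun u hu => ?_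
    rw [SetLike.mem_coe, hKz] at hu
    obtain ⟨i, rfl⟩ := Subgroup.mem_zpowers_iff.1 hu
    exact ((show Commute v k from mul_inv_eq_iff_eq_mul.1 hv).zpow_right i).symm.eq
  have hidx : K.index = 1 ∨ K.index = 2 := by
    by_cases hall : ∀ v : G ⧸ N, v * k * v⁻¹ = k
    · left; exact Subgroup.index_eq_one.2 (eq_top_iff.2 fun v _ => hcentk v (hall v))
    · push Not at hall
      obtain ⟨w, hw⟩ := hall
      right
      refine Subgroup.index_eq_two_iff.2 ⟨w⁻¹, fun b => ?_⟩
      by_cases hb : b ∈ K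
      · refine Or.inr ⟨hb, fun hbw => hw ?_⟩
        have : w ∈ K := by simpa using K.mul_mem (K.inv_mem hbw) hb
        rw [(hKc w this k hkK).eq, mul_inv_cancel_right]
      · refine Or.inl ⟨hcentk _ ?_, hb⟩
        have h1 := (hconjk b).resolve_left fun e => hb (hcentk b e)
        have h2 := (hconjk w).resolve_left hw
        have h3 : w⁻¹ * k * w = k⁻¹ := by
          calc w⁻¹ * k * w = (w⁻¹ * (w * k * w⁻¹) * w)⁻¹ := by rw [h2]; group
            _ = _ := by group
        calc b * w⁻¹ * k * (b * w⁻¹)⁻¹ = b * (w⁻¹ * k * w) * b⁻¹ := by group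
          _ = (b * k * b⁻¹)⁻¹ := by rw [h3]; group
          _ = k := by rw [h1, inv_inv]
  have hcardq : Nat.card (G ⧸ N) = 3 * K.index := by rw [← hKcard]; exact (K.card_mul_index).symm
  rcases hidx with h1 | h1
  · -- index three
    refine ⟨N, hNn, Or.inl ⟨hNp, ?_, ?_, by rw [Subgroup.index, hcardq, h1]⟩⟩
    · have hf : f₄ ∈ N := by
        refine (QuotientGroup.eq_one_iff f₄).1 (orderOf_eq_one_iff.1 ?_)
        have a1 := orderOf_map_dvd π f₄
        have a2 : orderOf (π f₄) ∣ Nat.card (G ⧸ N) := orderOf_dvd_natCard _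
        rw [hf₄] at a1
        rw [hcardq, h1, mul_one] at a2
        have a3 := Nat.dvd_gcd a1 a2
        norm_num at a3
        exact orderOf_eq_one_iff.2 a3
      refine Nat.dvd_antisymm (Monoid.exponent_dvd_of_forall_pow_eq_one fun n => Subtype.ext (hN4 n n.2)) ?_
      have := Monoid.order_dvd_exponent (⟨f₄, hf⟩ : N)
      rwa [Subgroup.orderOf_mk, hf₄] at this
    · haveI : Group.IsNilpotent N := hNp.isNilpotent
      rw [← Subgroup.upperCentralSeries_eq_top_iff_nilpotencyClass_le, eq_top_iff]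
      intro x _
      rw [show (2 : ℕ) = 1 + 1 from rfl, Subgroup.mem_upperCentralSeries_succ_iff]
      intro y
      rw [Subgroup.upperCentralSeries_one]
      refine Subgroup.mem_center_iff.2 fun c => ?_
      exact (hclass x y c).eq.symm
  · -- index six
    obtain ⟨s, hs⟩ : ∃ s : G, orderOf s = 3 ∧ π s = k := by
      obtain ⟨g, hg⟩ := QuotientGroup.mk'_surjective N k
      refine ⟨g, ?_, hg⟩
      have h2 : 3 ∣ orderOf g := hko ▸ hg ▸ orderOf_map_dvd π g
      rcases hcases g with e | e | e | e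
      · rw [e, orderOf_one] at h2; norm_num at h2
      · rw [e] at h2; norm_num at h2
      · exact e
      · rw [e] at h2; norm_num at h2
    obtain ⟨hs, hsk⟩ := hs
    set M := K.comap π
    have hsM : Subgroup.zpowers s ≤ M := Subgroup.zpowers_le.2 (by show π s ∈ K; rw [hsk]; exact hkK)
    obtain ⟨S, hS⟩ := (IsPGroup.of_card (n := 1) (by
      rw [Nat.card_congr (Subgroup.subgroupOfEquivOfLe hsM).toEquiv, Nat.card_zpowers, hs, pow_one]) :
      IsPGroup 3 ((Subgroup.zpowers s).subgroupOf M)).exists_le_sylow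
    have hSe : (S : Subgroup M) = (Subgroup.zpowers s).subgroupOf M := by
      refine (Subgroup.eq_of_le_of_card_ge hS ?_).symm
      rw [Nat.card_congr (Subgroup.subgroupOfEquivOfLe hsM).toEquiv, Nat.card_zpowers, hs, S.card_eq_multiplicity]
      have h2 : (Nat.card M).factorization 3 ≤ 1 := hfac ▸
        (Nat.factorization_le_iff_dvd Nat.card_pos.ne' Nat.card_pos.ne').2 M.card_subgroup_dvd_card 3
      calc 3 ^ (Nat.card M).factorization 3 ≤ 3 ^ 1 := Nat.pow_le_pow_right (by norm_num) h2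
        _ = 3 := pow_one 3
    have hfr := Sylow.normalizer_sup_eq_top S
    rw [hSe, Subgroup.map_subgroupOf_eq_of_le hsM] at hfr
    obtain ⟨u, hu, huM⟩ : ∃ u ∈ Subgroup.normalizer (Subgroup.zpowers s : Set G), u ∉ M := by
      by_contra hcon
      push Not at hcon
      have : M = ⊤ := eq_top_iff.2 (hfr ▸ sup_le hcon le_rfl)
      have h2 : K = ⊤ := Subgroup.comap_injective (QuotientGroup.mk'_surjective N) (this.trans (Subgroup.comap_top _).symm)
      rw [h2, Subgroup.index_top] at h1
      norm_num at h1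
    have hπu : π u ^ 2 = 1 := by
      have h2 := hquot N (π u)
      have hsq : π u ^ 2 ∈ K := Subgroup.sq_mem_of_index_two h1 _
      have h3 : (π u) ^ 6 = 1 := by
        rw [show (6 : ℕ) = 2 * 3 from rfl, pow_mul]; exact hK _ hsq
      have h4 : orderOf (π u) ∣ 6 := orderOf_dvd_of_pow_eq_one h3
      refine orderOf_dvd_iff_pow_eq_one.1 ?_
      have h5 : orderOf (π u) ≠ 3 := fun e => huM (by
        show π u ∈ K
        have hh : π u = (π u ^ 2)⁻¹ := eq_inv_of_mul_eq_one_right (by
          rw [← pow_succ, show 2 + 1 = orderOf (π u) from e.symm]; exact pow_orderOf_eq_one _)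
        rw [hh]; exact K.inv_mem hsq)
      generalize orderOf (π u) = o at h2 h4 h5
      interval_cases o <;> first | (norm_num; done) | (exfalso; revert h4 h5; norm_num)
    have hu2N : u ^ 2 ∈ N := (QuotientGroup.eq_one_iff _).1 (by show π (u ^ 2) = 1; rw [map_pow, hπu])
    have hus : u * s * u⁻¹ = s ∨ u * s * u⁻¹ = s⁻¹ := by
      have h2 : u * s * u⁻¹ ∈ Subgroup.zpowers s := (Subgroup.mem_normalizer_iff.1 hu s).1 (Subgroup.mem_zpowers s)
      obtain ⟨i, hi⟩ := Subgroup.mem_zpowers_iff.1 h2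
      rw [← hi, ← zpow_mod_orderOf, hs]
      have h3 : i % 3 = 0 ∨ i % 3 = 1 ∨ i % 3 = 2 := by omega
      rcases h3 with e | e | e <;> simp only [Nat.cast_ofNat, e]
      · exfalso
        rw [← zpow_mod_orderOf, hs] at hi
        simp only [Nat.cast_ofNat, e, zpow_zero] at hi
        rw [conj_eq_one_iff.1 hi.symm, orderOf_one] at hs
        norm_num at hs
      · exact Or.inl (zpow_one s)
      · right
        refine (inv_eq_of_mul_eq_one_right ?_).symm
        have h4 : s ^ 3 = 1 := by rw [← hs]; exact pow_orderOf_eq_one _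
        rw [← h4, show ((2 : ℤ)) = ((2 : ℕ) : ℤ) from rfl, zpow_natCast]; group
    have hu2 : u ^ 2 = 1 := by
      refine hNfix s hs _ hu2N ?_
      have e2 : u ^ 2 * s * (u ^ 2)⁻¹ = s := by
        calc u ^ 2 * s * (u ^ 2)⁻¹ = u * (u * s * u⁻¹) * u⁻¹ := by rw [pow_two]; group
          _ = s := by
            rcases hus with e | e
            · rw [e, e]
            · rw [e, show u * s⁻¹ * u⁻¹ = (u * s * u⁻¹)⁻¹ by group, e, inv_inv]
      exact (mul_inv_eq_iff_eq_mul.1 e2).symm
    have huo : orderOf u = 2 := orderOf_eq_prime hu2 fun e => huM (e ▸ one_mem _)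
    replace hus : u * s * u⁻¹ = s⁻¹ := hus.resolve_left fun e =>
      no_commute hle (show Commute s u from (mul_inv_eq_iff_eq_mul.1 e).symm) hs (Or.inl huo)
    have hNel : ∀ a b : N, Commute a b ∧ a ^ 2 = 1 := by
      have huu : u * u = 1 := by rw [← pow_two]; exact hu2
      refine CfsgLib.Perm.OrdersFour.s3_action (MulAut.conjNormal s) (MulAut.conjNormal u) ?_ ?_ ?_ ?_
        (fun n => Subtype.ext (hN4 n n.2)) hclass
      · intro n
        apply Subtype.ext
        simp only [MulAut.conjNormal_apply]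
        calc u * (u * n * u⁻¹) * u⁻¹ = (u * u) * n * (u * u)⁻¹ := by group
          _ = n := by rw [huu]; group
      · intro n
        apply Subtype.ext
        simp only [MulAut.conjNormal_apply]
        have h4 : s⁻¹ = s * s := inv_eq_of_mul_eq_one_right (by rw [← mul_assoc, ← pow_three', ← hs]; exact pow_orderOf_eq_one _)
        calc u * (s * n * s⁻¹) * u⁻¹ = (u * s * u⁻¹) * (u * n * u⁻¹) * (u * s * u⁻¹)⁻¹ := by group
          _ = (s * s) * (u * n * u⁻¹) * (s * s)⁻¹ := by rw [hus, h4]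
          _ = _ := by group
      · intro n
        apply Subtype.ext
        simp only [MulAut.conjNormal_apply, Subgroup.coe_mul, Subgroup.coe_one]
        exact hnorm s hs n n.2
      · intro n
        apply Subtype.ext
        simp only [MulAut.conjNormal_apply, Subgroup.coe_mul, SubgroupClass.coe_pow, Subgroup.coe_one]
        have huinv : u⁻¹ = u := inv_eq_of_mul_eq_one_right huu
        rw [huinv]
        have h4 : ((n : G) * u) ^ 4 = 1 := by
          rcases hcases ((n : G) * u) with e | e | e | e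
          · rw [e, one_pow]
          · exact orderOf_dvd_iff_pow_eq_one.1 (by rw [e]; norm_num)
          · exfalso
            have h5 : orderOf (π u) ∣ 3 := by
              have := orderOf_map_dvd π ((n : G) * u)
              rwa [map_mul, show π (n : G) = 1 from (QuotientGroup.eq_one_iff _).2 n.2, one_mul, e] at this
            have h6 : orderOf (π u) ∣ 2 := orderOf_dvd_of_pow_eq_one hπu
            have h7 := Nat.dvd_gcd h5 h6
            norm_num at h7
            exact huM (show π u ∈ K by rw [h7]; exact K.one_mem)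
          · exact orderOf_dvd_iff_pow_eq_one.1 (by rw [e])
        rw [← h4]; simp only [pow_succ, pow_zero, one_mul, mul_assoc]
    refine ⟨N, hNn, Or.inr (Or.inl ⟨⟨⟨⟨fun a b => (hNel a b).1⟩⟩,
      fun a ha => congrArg Subtype.val (hNel ⟨a, ha⟩ 1).2⟩, ?_⟩)⟩
    have hπuo : orderOf (π u) = 2 := orderOf_eq_prime hπu fun e => huM (show π u ∈ K by rw [e]; exact K.one_mem)
    refine iso_perm_three (by rw [hcardq, h1]) hπuo (v := k) fun e => ?_
    exact huM (show π u ∈ K from hcentk _ (by rw [e, mul_inv_cancel_right]))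

end Cfsg.Agent.S4006
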