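import Mathlib
-- Template for statement S4010 (row 4010; see /opt/grader/pristine/manifest.json for weights).
-- Copy to Cfsg/Agent/S4010.lean and replace the sorry. The statement below is byte-identical to the frozen
-- statement Cfsg.CfsgFrozen.S4010 (Cfsg/Statements/S4010.lean; the theorem Cfsg.fg9_linear_p_group_derived_length_le_log_two_degree_succ);
-- the grader kernel-checks Cfsg.Agent.S4010.result against that frozen type. Keep the theorem IN THIS FILE
-- (a `result` declared elsewhere and merely imported here is not credited); helpers may live anywhere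
-- under Cfsg/Agent/.
import Cfsg.Statements.S4010
import Cfsg.Agent.Perm.DerivedLinear


set_option autoImplicit false
open Cfsg

namespace Cfsg.Agent.S4010
open Module


/-- Let F be a field, n ≥ 1, and P a finite p-group (p a prime) admitting an injective homomorphism into the general linear group of degree n over F. Then the derived length of P is at most ⌊log₂ n⌋ + 1: that term of the derived series of P is trivial. -/
theorem result {P : Type*} [Group P] [Finite P] (p : ℕ) [Fact p.Prime] (hP : IsPGroup p P) (F : Type*) [Field F] (n : ℕ) (hn : 1 ≤ n) (ρ : P →* Matrix.GeneralLinearGroup (Fin n) F) (hρ : Function.Injective ρ) : derivedSeries P (Nat.log 2 n + 1) = ⊥ := by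
  set k := Nat.log 2 n + 1
  have hlt : n < 2 ^ k := Nat.lt_pow_succ_log_self one_lt_two n
  refine eq_bot_iff.2 fun g hg => Subgroup.mem_bot.2 (hρ ?_)
  rw [map_one]
  by_cases hp : (p : F) = 0
  · haveI : CharP F p := (CharP.charP_iff_prime_eq_zero (Fact.out : p.Prime)).2 hp
    let τ : Representation F P (Fin n → F) :=
      { toFun := fun g => Matrix.toLin' ((ρ g : GL (Fin n) F) : Matrix (Fin n) (Fin n) F)
        map_one' := by rw [map_one, Units.val_one, Matrix.toLin'_one]; rfl
        map_mul' := fun a b => by rw [map_mul, Units.val_mul, Matrix.toLin'_mul]; rfl }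
    have h := CfsgLib.Perm.DerivedLinear.derived_trivial_char hP k (Fin n → F) τ
      (by rw [finrank_fin_fun]; exact hlt.le) hg
    have h1 : Matrix.toLin' ((ρ g : GL (Fin n) F) : Matrix (Fin n) (Fin n) F) =
        Matrix.toLin' 1 := by rw [Matrix.toLin'_one]; exact MonoidHom.mem_ker.1 h
    exact Units.ext (Matrix.toLin'.injective h1)
  · let K := AlgebraicClosure F
    let φ := algebraMap F K
    have hK : (p : K) ≠ 0 := fun h => hp (φ.injective (by rw [map_natCast, h, map_zero]))
    let τ : Representation K P (Fin n → K) :=
      { toFun := fun g => Matrix.toLin' (((ρ g : GL (Fin n) F) : Matrix (Fin n) (Fin n) F).map φ)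
        map_one' := by rw [map_one, Units.val_one, Matrix.map_one _ φ.map_zero φ.map_one, Matrix.toLin'_one]; rfl
        map_mul' := fun a b => by rw [map_mul, Units.val_mul, Matrix.map_mul, Matrix.toLin'_mul]; rfl }
    have h := CfsgLib.Perm.DerivedLinear.derived_trivial hK hP τ (k := k)
      (by rw [finrank_fin_fun]; exact hlt) hg
    have h1 : Matrix.toLin' (((ρ g : GL (Fin n) F) : Matrix (Fin n) (Fin n) F).map φ) =
        Matrix.toLin' ((1 : Matrix (Fin n) (Fin n) F).map φ) := by
      rw [Matrix.map_one _ φ.map_zero φ.map_one, Matrix.toLin'_one]; exact MonoidHom.mem_ker.1 h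
    exact Units.ext (Matrix.map_injective φ.injective (Matrix.toLin'.injective h1))

end Cfsg.Agent.S4010
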