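import Cfsg.Statements.S4013
import Cfsg.Agent.Solv.Basic

set_option autoImplicit false
set_option linter.style.haveILetI false
open Cfsg

namespace Cfsg.Agent.S4013

/-- Let G be a finite p-group (p prime) and N < M normal subgroups of G such that for some g ∈ M ∖ N the conjugacy class of g is exactly M ∖ N. Then p = 2 and N has index 2 in M. -/
theorem result {G : Type*} [Group G] [Finite G] (p : ℕ) [Fact p.Prime] (hG : IsPGroup p G) (N M : Subgroup G) [N.Normal] [M.Normal] (hNM : N < M) (g : G) (hgM : g ∈ M) (hgN : g ∉ N) (hcl : {h : G | IsConj g h} = (M : Set G) \ (N : Set G)) : p = 2 ∧ N.relIndex M = 2 := by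
  classical
  have hp : p.Prime := Fact.out
  have hc : Nat.card {h : G | IsConj g h} * Nat.card (Subgroup.centralizer ({g} : Set G)) = Nat.card G := by
    haveI := Fintype.ofFinite G
    have hk : Nat.card (ConjClasses.mk g).carrier * Nat.card (Subgroup.centralizer ({g} : Set G)) = Nat.card G := by
      rw [Subgroup.nat_card_centralizer_nat_card_stabilizer, Nat.card_eq_fintype_card,
        ConjClasses.card_carrier, ← Nat.card_eq_fintype_card]
      rw [← Nat.card_eq_fintype_card]
      exact Nat.div_mul_cancel (by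
        have := (MulAction.stabilizer (ConjAct G) g).card_subgroup_dvd_card
        rwa [Nat.card_congr (ConjAct.ofConjAct).toEquiv] at this)
    have ho' : (ConjClasses.mk g).carrier = {h : G | IsConj g h} := by
      ext y
      rw [ConjClasses.mem_carrier_iff_mk_eq, ConjClasses.mk_eq_mk_iff_isConj]
      exact isConj_comm
    rwa [ho'] at hk
  obtain ⟨n, hn⟩ := IsPGroup.iff_card.1 hG
  obtain ⟨a, ha, hcl'⟩ := (Nat.dvd_prime_pow hp).1 (hn ▸ Dvd.intro _ hc)
  have hrel := CfsgLib.Solv.relIndex_mul_card hNM.le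
  have hdiff : Nat.card {h : G | IsConj g h} + Nat.card N = Nat.card M := by
    rw [hcl, Nat.card_coe_set_eq, Set.ncard_sdiff hNM.le]
    exact Nat.sub_add_cancel (Set.ncard_le_ncard hNM.le)
  obtain ⟨b, hb, hN'⟩ := (Nat.dvd_prime_pow hp).1 (hn ▸ N.card_subgroup_dvd_card)
  obtain ⟨c, hc', hrel'⟩ := (Nat.dvd_prime_pow hp).1
    (hn ▸ (Dvd.intro_left _ hrel).trans M.card_subgroup_dvd_card)
  rw [hcl', hN', ← hrel, hN', hrel'] at hdiff
  rw [hrel']
  have hp2 := hp.two_le
  rcases Nat.lt_or_ge a b with hab | hab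
  · exfalso
    rcases Nat.eq_zero_or_pos c with rfl | hc0
    · have : 0 < p ^ a := pow_pos (by omega) a
      simp at hdiff
      omega
    · have h1 : p ^ a < p ^ b := Nat.pow_lt_pow_right hp.one_lt hab
      have h2 : p ≤ p ^ c := Nat.le_self_pow (by omega) p
      have h3 : p ^ b * 2 ≤ p ^ b * p ^ c := Nat.mul_le_mul_left _ (by omega)
      omega
  · obtain ⟨j, rfl⟩ := Nat.exists_eq_add_of_le hab
    rw [pow_add] at hdiff
    have h1 : p ^ j + 1 = p ^ c := by
      have hpb : 0 < p ^ b := pow_pos (by omega) b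
      refine Nat.eq_of_mul_eq_mul_left hpb ?_
      rw [mul_add, mul_one]; exact hdiff
    rcases Nat.eq_zero_or_pos j with rfl | hj
    · simp at h1
      have hc1 : c ≠ 0 := by rintro rfl; simp at h1
      have : p ≤ p ^ c := Nat.le_self_pow hc1 p
      exact ⟨by omega, h1.symm⟩
    · exfalso
      have hd1 : p ∣ p ^ j := dvd_pow_self p (by omega)
      have hc1 : c ≠ 0 := by rintro rfl; simp at h1; omega
      have hd2 : p ∣ p ^ j + 1 := h1 ▸ dvd_pow_self p hc1
      exact hp.not_dvd_one ((Nat.dvd_add_right hd1).1 hd2)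

end Cfsg.Agent.S4013
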