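import Mathlib
-- Template for statement S4014 (row 4014; see /opt/grader/pristine/manifest.json for weights).
-- Copy to Cfsg/Agent/S4014.lean and replace the sorry. The statement below is byte-identical to the frozen
-- statement Cfsg.CfsgFrozen.S4014 (Cfsg/Statements/S4014.lean; the theorem Cfsg.kf9_symmetric_group_sylow_derived_length);
-- the grader kernel-checks Cfsg.Agent.S4014.result against that frozen type. Keep the theorem IN THIS FILE
-- (a `result` declared elsewhere and merely imported here is not credited); helpers may live anywhere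
-- under Cfsg/Agent/.
import Cfsg.Statements.S4014
import Cfsg.Agent.Solv.FittingBasic


set_option autoImplicit false
open Cfsg
open scoped commutatorElement

namespace Cfsg.Agent.S4014

theorem derivedSeries_mono {G : Type*} [Group G] (N : Subgroup G) (h : commutator G ≤ N) :
    ∀ k, derivedSeries G (k + 1) ≤ (derivedSeries N k).map N.subtype
  | 0 => by
    rw [derivedSeries_one, derivedSeries_zero, ← MonoidHom.range_eq_map, Subgroup.range_subtype]
    exact h
  | k + 1 => by
    rw [derivedSeries_succ G (k + 1), derivedSeries_succ N k, Subgroup.map_commutator]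
    exact Subgroup.commutator_mono (derivedSeries_mono N h k) (derivedSeries_mono N h k)

/-- In a finite `p`-group the `k`-th derived subgroup fixes the points with orbit shorter than `p^(k+1)`. -/
theorem fixes {p : ℕ} [hp : Fact p.Prime] : ∀ (k : ℕ) (G : Type*) [Group G] [Finite G],
    IsPGroup p G → ∀ (H : Subgroup G), H.index < p ^ (k + 1) → derivedSeries G k ≤ H
  | 0, G, _, _, hG, H, hH => by
    obtain ⟨j, hj⟩ := hG.index H
    rw [zero_add] at hH
    rw [hj, Nat.pow_lt_pow_iff_right hp.out.one_lt] at hH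
    obtain rfl : j = 0 := by omega
    rw [Subgroup.index_eq_one.1 (hj.trans (pow_zero p))]
    exact le_top
  | k + 1, G, _, _, hG, H, hH => by
    rcases eq_top_or_exists_le_coatom H with rfl | ⟨M, hM, hHM⟩
    · exact le_top
    obtain ⟨hn, hi⟩ := CfsgLib.Solv.isCoatom_normal_and_card_quotient hG hM
    have hcom : commutator G ≤ M :=
      (CfsgLib.Solv.commutator_le_frattini hG).trans (frattini_le_coatom hM)
    refine (derivedSeries_mono M hcom k).trans (Subgroup.map_le_iff_le_comap.2 ?_)
    refine fixes k M (hG.to_subgroup M) (H.subgroupOf M) ?_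
    have h1 : H.relIndex M * M.index = H.index := Subgroup.relIndex_mul_index hHM
    rw [hi, ← Subgroup.relIndex] at *
    rw [← h1, pow_succ p (k + 1)] at hH
    exact Nat.lt_of_mul_lt_mul_right hH

theorem derivedSeries_wreath {D Q : Type*} [Group D] [CommGroup Q] [Nontrivial Q] (i : ℕ) (d : D)
    (hd : d ∈ derivedSeries D i) :
    ∃ w ∈ derivedSeries (D ≀ᵣ Q) (i + 1), w.right = 1 ∧ w.left 1 = d := by
  classical
  induction i generalizing d with
  | zero =>
    obtain ⟨q, hq⟩ := exists_ne (1 : Q)
    refine ⟨⁅(⟨Pi.mulSingle 1 d, 1⟩ : D ≀ᵣ Q), RegularWreathProduct.inl q⁆, ?_, ?_, ?_⟩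
    · rw [derivedSeries_one, commutator_def]
      exact Subgroup.commutator_mem_commutator (Subgroup.mem_top _) (Subgroup.mem_top _)
    · simp [commutatorElement_def]
    · simp [commutatorElement_def, Pi.mulSingle_apply, hq]
  | succ i ih =>
    let K : Subgroup (D ≀ᵣ Q) := (RegularWreathProduct.rightHom : D ≀ᵣ Q →* Q).ker
    let π : K →* D :=
      { toFun := fun w => (w : D ≀ᵣ Q).left 1
        map_one' := rfl
        map_mul' := fun a b => by
          have ha : (a : D ≀ᵣ Q).right = 1 := a.2
          simp [ha] }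
    let S := ((derivedSeries (D ≀ᵣ Q) (i + 1)).subgroupOf K)
    have h1 : derivedSeries D i ≤ S.map π := fun d hd => by
      obtain ⟨w, hw, hr, hl⟩ := ih d hd
      exact ⟨⟨w, hr⟩, hw, hl⟩
    rw [derivedSeries_succ] at hd
    have h2 := Subgroup.commutator_mono h1 h1 hd
    rw [← Subgroup.map_commutator] at h2
    obtain ⟨w, hw, rfl⟩ := h2
    refine ⟨w, ?_, w.2, rfl⟩
    rw [derivedSeries_succ]
    have h3 : (⁅S, S⁆).map K.subtype ≤ ⁅derivedSeries (D ≀ᵣ Q) (i + 1), derivedSeries (D ≀ᵣ Q) (i + 1)⁆ := by
      rw [Subgroup.map_commutator]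
      exact Subgroup.commutator_mono (Subgroup.map_comap_le _ _) (Subgroup.map_comap_le _ _)
    exact h3 ⟨w, hw, rfl⟩

theorem iterated_ne_bot (C : Type) [CommGroup C] [Nontrivial C] :
    ∀ k, derivedSeries (IteratedWreathProduct C (k + 1)) k ≠ ⊥
  | 0 => by
    intro h
    obtain ⟨q, hq⟩ := exists_ne (1 : C)
    have h1 : (⟨1, q⟩ : IteratedWreathProduct C 1) ∈ (⊥ : Subgroup (IteratedWreathProduct C 1)) := by
      rw [← h, derivedSeries_zero]; trivial
    exact hq (congrArg RegularWreathProduct.right (Subgroup.mem_bot.1 h1))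
  | k + 1 => by
    intro h
    obtain ⟨d, hd, hd1⟩ := (Subgroup.bot_or_exists_ne_one _).resolve_left (iterated_ne_bot C k)
    obtain ⟨w, hw, -, hl⟩ := derivedSeries_wreath (D := IteratedWreathProduct C (k + 1)) (Q := C) k d hd
    have h1 : w ∈ (⊥ : Subgroup (IteratedWreathProduct C (k + 2))) := by rw [← h]; exact hw
    exact hd1 (by rw [← hl, Subgroup.mem_bot.1 h1]; rfl)

/-- Let p be a prime, n ≥ 1, and P a Sylow p-subgroup of the symmetric group on n letters. Then the derived length of P is exactly k = ⌊log_p n⌋ (the largest k with p^k ≤ n): the k-th derived subgroup of P is trivial and, when k ≥ 1, the (k−1)-st is not. -/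
theorem result (p : ℕ) [Fact p.Prime] (n : ℕ) (hn : 1 ≤ n) (P : Sylow p (Equiv.Perm (Fin n))) : derivedSeries ↥(P : Subgroup (Equiv.Perm (Fin n))) (Nat.log p n) = ⊥ ∧ (1 ≤ Nat.log p n → derivedSeries ↥(P : Subgroup (Equiv.Perm (Fin n))) (Nat.log p n - 1) ≠ ⊥) := by
  have hp : p.Prime := Fact.out
  set k := Nat.log p n
  constructor
  · rw [Subgroup.eq_bot_iff_forall]
    intro g hg
    refine Subtype.ext (Equiv.ext fun a => ?_)
    have hi : (MulAction.stabilizer ↥(P : Subgroup (Equiv.Perm (Fin n))) a).index < p ^ (k + 1) := by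
      refine lt_of_le_of_lt ?_ (Nat.lt_pow_succ_log_self hp.one_lt n)
      rw [MulAction.index_stabilizer]
      simpa using Set.ncard_le_card (MulAction.orbit ↥(P : Subgroup (Equiv.Perm (Fin n))) a)
    exact MulAction.mem_stabilizer_iff.1 (fixes k _ P.isPGroup' _ hi hg)
  · intro hk h
    let C := Multiplicative (ZMod p)
    have hC : Nat.card C = p := by simp [C]
    let ι : Fin (p ^ k) ↪ Fin n := Fin.castLEEmb (Nat.pow_log_le_self p (by omega))
    let R : Sylow p (Equiv.Perm (Fin (p ^ k))) := Classical.arbitrary _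
    let e := Sylow.mulEquivIteratedWreathProduct p k (Fin (p ^ k)) (by simp) C hC R
    let f : IteratedWreathProduct C k →* Equiv.Perm (Fin n) :=
      ((Equiv.Perm.viaEmbeddingHom ι).comp (R : Subgroup _).subtype).comp e.symm.toMonoidHom
    have hf : Function.Injective f :=
      (Equiv.Perm.viaEmbeddingHom_injective ι).comp (Subtype.val_injective.comp e.symm.injective)
    obtain ⟨P', hP'⟩ := (R.isPGroup'.of_surjective e.toMonoidHom e.surjective).of_surjective
      f.rangeRestrict f.rangeRestrict_surjective |>.exists_le_sylow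
    let g : IteratedWreathProduct C k →* ↥(P : Subgroup (Equiv.Perm (Fin n))) :=
      (P'.equiv P).toMonoidHom.comp (f.codRestrict (P' : Subgroup _) fun x => hP' ⟨x, rfl⟩)
    have hg : Function.Injective g :=
      (P'.equiv P).injective.comp fun x y hxy => hf (congrArg Subtype.val hxy)
    have hle := map_derivedSeries_le_derivedSeries g (k - 1)
    rw [h, le_bot_iff, Subgroup.map_eq_bot_iff_of_injective _ hg] at hle
    have : Nontrivial C := Finite.one_lt_card_iff_nontrivial.1 (by rw [hC]; exact hp.one_lt)
    obtain ⟨m, hm⟩ : ∃ m, k = m + 1 := ⟨k - 1, by omega⟩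
    rw [hm, Nat.add_sub_cancel] at hle
    exact iterated_ne_bot C m hle

end Cfsg.Agent.S4014
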