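import Cfsg.Statements.S4022

import Cfsg.Agent.Solv.Hall
import Cfsg.Agent.Solv.MinimalNormal

set_option autoImplicit false
set_option linter.style.haveILetI false
open Cfsg

namespace Cfsg.Agent.S4022

open scoped Pointwise
open CfsgLib.Solv

/-- All Sylow `p`-subgroups are cyclic. -/
def S4022Cyc (p : ℕ) (G : Type*) [Group G] : Prop := ∀ P : Sylow p G, IsCyclic P

theorem s4022_cyc_sub {G : Type*} [Group G] [Finite G] {p : ℕ} [Fact p.Prime] (h : S4022Cyc p G)
    (S : Subgroup G) : S4022Cyc p S := by
  intro P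
  obtain ⟨Q, hQ⟩ := (P.2.map S.subtype).exists_le_sylow
  haveI := h Q
  exact isCyclic_of_injective (MonoidHom.mk' (fun x : P =>
    (⟨((x : S) : G), hQ ⟨x, x.2, rfl⟩⟩ : Q)) fun _ _ => rfl)
    fun x y hxy => Subtype.ext (Subtype.ext (congrArg (fun z : Q => (z : G)) hxy))

theorem s4022_cyc_quot {G : Type*} [Group G] [Finite G] {p : ℕ} [Fact p.Prime] (h : S4022Cyc p G)
    (N : Subgroup G) [N.Normal] : S4022Cyc p (G ⧸ N) := by
  intro P
  obtain ⟨Q, hQ⟩ := Sylow.mapSurjective_surjective (QuotientGroup.mk'_surjective N) p P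
  haveI := h Q
  subst hQ
  exact isCyclic_of_surjective _ ((QuotientGroup.mk' N).subgroupMap_surjective (Q : Subgroup G))

/-- A normal subgroup of prime exponent and prime power order lies in every subgroup of order
divisible by the prime, when the Sylow subgroups are cyclic. -/
theorem s4022_le_of_cyclic {G : Type*} [Group G] [Finite G] {p : ℕ} [Fact p.Prime] (h : S4022Cyc p G)
    (N : Subgroup G) [N.Normal] (hN : IsPGroup p N) (hNe : ∀ x ∈ N, x ^ p = 1) (hN1 : N ≠ ⊥)
    (H : Subgroup G) (hH : p ∣ Nat.card H) : N ≤ H := by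
  obtain ⟨x, hx⟩ := exists_prime_orderOf_dvd_card' p hH
  rw [← Subgroup.orderOf_coe] at hx
  have hxp : IsPGroup p (Subgroup.zpowers (x : G)) :=
    IsPGroup.of_card (n := 1) (by rw [Nat.card_zpowers, hx, pow_one])
  have hsup : IsPGroup p ↥(Subgroup.zpowers (x : G) ⊔ N) := hxp.to_sup_of_normal_right hN
  obtain ⟨Q, hQ⟩ := hsup.exists_le_sylow
  haveI := h Q
  have hcard : Nat.card N ≤ p := by
    haveI : IsCyclic N := isCyclic_of_injective (Subgroup.inclusion (le_sup_right.trans hQ))
      (Subgroup.inclusion_injective _)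
    obtain ⟨a, ha⟩ := IsCyclic.exists_generator (α := N)
    rw [← orderOf_eq_card_of_forall_mem_zpowers ha, ← Subgroup.orderOf_coe]
    exact Nat.le_of_dvd (Fact.out : p.Prime).pos (orderOf_dvd_of_pow_eq_one (hNe a a.2))
  have hpN : Nat.card N = p := by
    obtain ⟨k, hk⟩ := IsPGroup.iff_card.1 hN
    refine le_antisymm hcard ?_
    rcases Nat.eq_zero_or_pos k with rfl | hk0
    · exact absurd (Subgroup.card_eq_one.1 (by simpa using hk)) hN1
    · rw [hk]
      exact (pow_one p).symm.le.trans (Nat.pow_le_pow_right (Fact.out : p.Prime).pos hk0)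
  -- subgroups of a cyclic group are determined by their orders
  have key : (Subgroup.zpowers (x : G)).subgroupOf Q = N.subgroupOf Q := by
    letI : CommGroup Q := (h Q).commGroup
    have hker : ∀ C : Subgroup G, C ≤ (Q : Subgroup G) → Nat.card C = p →
        C.subgroupOf Q = (powMonoidHom p : Q →* Q).ker := by
      intro C hC hc
      refine Subgroup.eq_of_le_of_card_ge (fun z hz => ?_) (le_of_eq_of_le
        (IsCyclic.card_powMonoidHom_ker (G := Q) p) ?_)
      · refine MonoidHom.mem_ker.2 (Subtype.ext ?_)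
        rw [powMonoidHom_apply, SubmonoidClass.coe_pow]
        have := pow_card_eq_one' (x := (⟨z.1, hz⟩ : C))
        rw [hc] at this
        exact congrArg Subtype.val this
      · rw [Nat.card_congr (Subgroup.subgroupOfEquivOfLe hC).toEquiv, hc]
        exact Nat.le_of_dvd (Fact.out : p.Prime).pos (Nat.gcd_dvd_right _ _)
    rw [hker _ (le_sup_left.trans hQ) (by rw [Nat.card_zpowers, hx]),
      hker _ (le_sup_right.trans hQ) hpN]
  intro y hy
  have h1 : (⟨y, le_sup_right.trans hQ hy⟩ : Q) ∈ (Subgroup.zpowers (x : G)).subgroupOf Q := by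
    rw [key]; exact hy
  exact Subgroup.zpowers_le.2 x.2 h1

/-- conjugacy of images lifts when both subgroups contain the kernel -/
theorem s4022_lift {G : Type*} [Group G] (N : Subgroup G) [N.Normal] {H K : Subgroup G}
    (hH : N ≤ H) (hK : N ≤ K) {g : G}
    (h : (H.map (QuotientGroup.mk' N)).map (MulAut.conj (QuotientGroup.mk' N g)).toMonoidHom =
      K.map (QuotientGroup.mk' N)) : MulAut.conj g • H = K := by
  have h1 : (MulAut.conj g • H).map (QuotientGroup.mk' N) = K.map (QuotientGroup.mk' N) := by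
    rw [← h, conj_smul_eq_map, Subgroup.map_map, Subgroup.map_map]
    congr 1
  have hN : N ≤ MulAut.conj g • H := fun y hy => by
    rw [mem_conj_smul_iff]
    refine hH ?_
    simpa using (inferInstance : N.Normal).conj_mem y hy g⁻¹
  have h2 := congrArg (Subgroup.comap (QuotientGroup.mk' N)) h1
  rwa [Subgroup.comap_map_eq, Subgroup.comap_map_eq, QuotientGroup.ker_mk', sup_eq_left.2 hN,
    sup_eq_left.2 hK] at h2

/-- conjugacy of coprime subgroups with conjugate images -/
theorem s4022_lift_coprime {G : Type*} [Group G] [Finite G] (N : Subgroup G) [N.Normal]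
    (hs : Group.IsSolvable N) {H K : Subgroup G} (hH : (Nat.card H).Coprime (Nat.card N))
    (hK : (Nat.card K).Coprime (Nat.card N)) {g : G}
    (h : (H.map (QuotientGroup.mk' N)).map (MulAut.conj (QuotientGroup.mk' N g)).toMonoidHom =
      K.map (QuotientGroup.mk' N)) : ∃ g : G, MulAut.conj g • H = K := by
  have h1 : (MulAut.conj g • H).map (QuotientGroup.mk' N) = K.map (QuotientGroup.mk' N) := by
    rw [← h, conj_smul_eq_map, Subgroup.map_map, Subgroup.map_map]
    congr 1
  have h2 := congrArg (Subgroup.comap (QuotientGroup.mk' N)) h1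
  rw [Subgroup.comap_map_eq, Subgroup.comap_map_eq, QuotientGroup.ker_mk'] at h2
  obtain ⟨d, -, hd⟩ := conj_complement_in_sup h2 (by rwa [card_conj_smul]) hK (Or.inl hs)
  exact ⟨d * g, by rw [map_mul, mul_smul, hd]⟩

/-- In a solvable group, subgroups of the same order whose primes have cyclic Sylow subgroups are conjugate. -/
theorem s4022_cyclic : ∀ (n : ℕ) (G : Type*) [Group G] [Finite G] [Group.IsSolvable G], Nat.card G = n →
    ∀ H K : Subgroup G, Nat.card H = Nat.card K →
    (∀ p : ℕ, p.Prime → p ∣ Nat.card H → S4022Cyc p G) → ∃ g : G, MulAut.conj g • H = K := by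
  intro n
  induction n using Nat.strong_induction_on with
  | _ n ih =>
    intro G _ _ _ hn H K hc hcyc
    rcases subsingleton_or_nontrivial G with hG | hG
    · exact ⟨1, by rw [Subsingleton.elim (MulAut.conj (1 : G) • H) K]⟩
    obtain ⟨N, l, hl, hN, -, hNe, hNp⟩ := exists_minimal_normal_pGroup (G := G)
    haveI := hN.1
    haveI := Fact.mk hl
    set q := QuotientGroup.mk' N
    have hcq : ∀ p : ℕ, p.Prime → p ∣ Nat.card H → S4022Cyc p (G ⧸ N) := fun p hp hd =>
      haveI := Fact.mk hp; s4022_cyc_quot (hcyc p hp hd) N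
    have hih : Nat.card (H.map q) = Nat.card (K.map q) →
        ∃ g, (H.map q).map (MulAut.conj (q g)).toMonoidHom = K.map q := fun he => by
      obtain ⟨g, hg⟩ := ih (Nat.card (G ⧸ N)) (hn ▸ card_quotient_lt hN.2.1) (G ⧸ N) rfl (H.map q) (K.map q) he
        fun p hp hd => hcq p hp (hd.trans (H.card_map_dvd q))
      obtain ⟨g, rfl⟩ := QuotientGroup.mk'_surjective N g
      exact ⟨g, hg⟩
    have h1 := card_map_mk' N H
    have h2 := card_map_mk' N K
    by_cases hlH : l ∣ Nat.card H
    · have hNH := s4022_le_of_cyclic (hcyc l hl hlH) N hNp hNe hN.2.1 H hlH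
      have hNK := s4022_le_of_cyclic (hcyc l hl hlH) N hNp hNe hN.2.1 K (hc ▸ hlH)
      rw [inf_eq_right.2 hNH] at h1
      rw [inf_eq_right.2 hNK] at h2
      obtain ⟨g, hg⟩ := hih (Nat.eq_of_mul_eq_mul_right Nat.card_pos (h1.trans (hc.trans h2.symm)))
      exact ⟨g, s4022_lift N hNH hNK hg⟩
    · obtain ⟨k, hk⟩ := IsPGroup.iff_card.1 hNp
      have hcH : (Nat.card H).Coprime (Nat.card N) := by
        rw [hk]; exact ((hl.coprime_iff_not_dvd.2 hlH).pow_left k).symm
      rw [Subgroup.inf_eq_bot_of_coprime hcH, Subgroup.card_bot, mul_one] at h1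
      rw [Subgroup.inf_eq_bot_of_coprime (hc ▸ hcH), Subgroup.card_bot, mul_one] at h2
      obtain ⟨g, hg⟩ := hih (h1.trans (hc.trans h2.symm))
      exact s4022_lift_coprime N inferInstance hcH (hc ▸ hcH) hg

/-- `p`-subgroups of equal order are conjugate. -/
def S4022D (G : Type*) [Group G] : Prop := ∀ p : ℕ, p.Prime → ∀ H K : Subgroup G, IsPGroup p H → IsPGroup p K →
    Nat.card H = Nat.card K → ∃ g : G, K = H.map (MulAut.conj g).toMonoidHom

theorem s4022_D_quot {G : Type*} [Group G] [Finite G] (h : S4022D G) (N : Subgroup G) [N.Normal] :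
    S4022D (G ⧸ N) := by
  intro p hp H K hH hK hc
  haveI := Fact.mk hp
  set q := QuotientGroup.mk' N
  have hlift : ∀ A : Subgroup (G ⧸ N), IsPGroup p A → ∃ S : Subgroup G, IsPGroup p S ∧ S.map q = A ∧
      Nat.card S = p ^ (Nat.card A * Nat.card N).factorization p := by
    intro A hA
    set L := A.comap q
    obtain ⟨S⟩ : Nonempty (Sylow p L) := inferInstance
    have hLc : Nat.card L = Nat.card A * Nat.card N := by
      have h1 := card_map_mk' N L
      rw [Subgroup.map_comap_eq_self_of_surjective (QuotientGroup.mk'_surjective N)] at h1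
      rw [inf_eq_right.2 (fun y hy => show q y ∈ A by
        rw [show q y = 1 from (QuotientGroup.eq_one_iff y).2 hy]; exact A.one_mem)] at h1
      exact h1.symm
    refine ⟨(S : Subgroup L).map L.subtype, S.2.map _, ?_, ?_⟩
    · let f : L →* A := q.subgroupComap A
      have hf : Function.Surjective f :=
        MonoidHom.subgroupComap_surjective_of_surjective _ _ (QuotientGroup.mk'_surjective N)
      let S' := S.mapSurjective hf
      have htop : (S' : Subgroup A) = ⊤ := by
        obtain ⟨a, ha⟩ := IsPGroup.iff_card.1 hA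
        refine Subgroup.eq_top_of_card_eq _ ?_
        rw [S'.card_eq_multiplicity, ha, Nat.Prime.factorization_pow hp, Finsupp.single_eq_same]
      ext y
      constructor
      · rintro ⟨_, ⟨s, hs, rfl⟩, rfl⟩
        exact s.2
      · intro hy
        have h1 : (⟨y, hy⟩ : A) ∈ (S' : Subgroup A) := by rw [htop]; trivial
        obtain ⟨s, hs, hsy⟩ := h1
        exact ⟨_, ⟨s, hs, rfl⟩, congrArg Subtype.val hsy⟩
    · rw [Subgroup.card_map_of_injective L.subtype_injective, S.card_eq_multiplicity, hLc]
  obtain ⟨S, hS, hSm, hSc⟩ := hlift H hH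
  obtain ⟨T, hT, hTm, hTc⟩ := hlift K hK
  obtain ⟨g, hg⟩ := h p hp S T hS hT (by rw [hSc, hTc, hc])
  refine ⟨q g, ?_⟩
  rw [← hTm, ← hSm, hg, Subgroup.map_map, Subgroup.map_map]
  congr 1

theorem s4022_main : ∀ (n : ℕ) (G : Type*) [Group G] [Finite G] [Group.IsSolvable G], Nat.card G = n →
    S4022D G → ∀ r : ℕ, (∀ p : ℕ, p.Prime → p ≠ r → S4022Cyc p G) →
    ∀ H K : Subgroup G, Nat.card H = Nat.card K → ∃ g : G, MulAut.conj g • H = K := by
  intro n
  induction n using Nat.strong_induction_on with
  | _ n ih =>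
    intro G _ _ _ hn hD r hcyc H K hc
    rcases subsingleton_or_nontrivial G with hG | hG
    · exact ⟨1, by rw [Subsingleton.elim (MulAut.conj (1 : G) • H) K]⟩
    obtain ⟨N, l, hl, hN, -, hNe, hNp⟩ := exists_minimal_normal_pGroup (G := G)
    haveI := hN.1
    haveI := Fact.mk hl
    set q := QuotientGroup.mk' N
    have hih : Nat.card (H.map q) = Nat.card (K.map q) →
        ∃ g, (H.map q).map (MulAut.conj (q g)).toMonoidHom = K.map q := fun he => by
      obtain ⟨g, hg⟩ := ih (Nat.card (G ⧸ N)) (hn ▸ card_quotient_lt hN.2.1) (G ⧸ N) rfl (s4022_D_quot hD N) r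
        (fun p hp hne => haveI := Fact.mk hp; s4022_cyc_quot (hcyc p hp hne) N) (H.map q) (K.map q) he
      obtain ⟨g, rfl⟩ := QuotientGroup.mk'_surjective N g
      exact ⟨g, hg⟩
    have h1 := card_map_mk' N H
    have h2 := card_map_mk' N K
    obtain ⟨k, hk⟩ := IsPGroup.iff_card.1 hNp
    have hquot : N ≤ H → N ≤ K → ∃ g : G, MulAut.conj g • H = K := fun hNH hNK => by
      rw [inf_eq_right.2 hNH] at h1
      rw [inf_eq_right.2 hNK] at h2
      obtain ⟨g, hg⟩ := hih (Nat.eq_of_mul_eq_mul_right Nat.card_pos (h1.trans (hc.trans h2.symm)))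
      exact ⟨g, s4022_lift N hNH hNK hg⟩
    by_cases hlH : l ∣ Nat.card H
    swap
    · have hcH : (Nat.card H).Coprime (Nat.card N) := by
        rw [hk]; exact ((hl.coprime_iff_not_dvd.2 hlH).pow_left k).symm
      rw [Subgroup.inf_eq_bot_of_coprime hcH, Subgroup.card_bot, mul_one] at h1
      rw [Subgroup.inf_eq_bot_of_coprime (hc ▸ hcH), Subgroup.card_bot, mul_one] at h2
      obtain ⟨g, hg⟩ := hih (h1.trans (hc.trans h2.symm))
      exact s4022_lift_coprime N inferInstance hcH (hc ▸ hcH) hg
    by_cases hlr : l = r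
    swap
    · exact hquot (s4022_le_of_cyclic (hcyc l hl hlr) N hNp hNe hN.2.1 H hlH)
        (s4022_le_of_cyclic (hcyc l hl hlr) N hNp hNe hN.2.1 K (hc ▸ hlH))
    -- the exceptional prime
    have hconjN : ∀ A : Subgroup G, IsPGroup l A → Nat.card A ≤ Nat.card N → A ≤ N := by
      intro A hA hle
      obtain ⟨b, hb⟩ := IsPGroup.iff_card.1 hA
      rw [hb, hk] at hle
      obtain ⟨B, hB⟩ := Sylow.exists_subgroup_card_pow_prime (G := N) l (n := b)
        (by rw [hk]; exact pow_dvd_pow l ((Nat.pow_le_pow_iff_right hl.one_lt).1 hle))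
      obtain ⟨g, hg⟩ := hD l hl (B.map N.subtype) A ((IsPGroup.of_card hB).map _) hA
        (by rw [Subgroup.card_map_of_injective N.subtype_injective, hB, hb])
      rw [hg]
      rintro _ ⟨y, ⟨z, hz, rfl⟩, rfl⟩
      exact hN.1.conj_mem _ z.2 g
    by_cases hbig : l ^ k ∣ Nat.card H
    · have key : ∀ A : Subgroup G, l ^ k ∣ Nat.card A → N ≤ A := fun A hA => by
        obtain ⟨B, hB⟩ := Sylow.exists_subgroup_card_pow_prime (G := A) l hA
        have hBc : Nat.card (B.map A.subtype) = Nat.card N := by
          rw [Subgroup.card_map_of_injective A.subtype_injective, hB, hk]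
        have := Subgroup.eq_of_le_of_card_ge (hconjN _ ((IsPGroup.of_card hB).map _) hBc.le) hBc.ge
        rw [← this]
        exact Subgroup.map_subtype_le _
      exact hquot (key H hbig) (key K (hc ▸ hbig))
    -- Sylow `l`-subgroups of `H`, `K` are their intersections with `N`
    have hpart : ∀ A : Subgroup G, Nat.card A = Nat.card H →
        Nat.card ↥(A ⊓ N) = l ^ (Nat.card H).factorization l := by
      intro A hA
      obtain ⟨S⟩ : Nonempty (Sylow l A) := inferInstance
      have hSc : Nat.card ((S : Subgroup A).map A.subtype) = l ^ (Nat.card H).factorization l := by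
        rw [Subgroup.card_map_of_injective A.subtype_injective, S.card_eq_multiplicity, hA]
      have hlt : (Nat.card H).factorization l < k := by
        by_contra hge
        exact hbig ((pow_dvd_pow l (Nat.le_of_not_lt hge)).trans (Nat.ordProj_dvd _ _))
      have hSN : (S : Subgroup A).map A.subtype ≤ N := hconjN _ (S.2.map _)
        (by rw [hSc, hk]; exact Nat.pow_le_pow_right hl.pos hlt.le)
      obtain ⟨a, ha⟩ := IsPGroup.iff_card.1 (hNp.to_le (inf_le_right : A ⊓ N ≤ N))
      have hd1 := Subgroup.card_dvd_of_le (le_inf (Subgroup.map_subtype_le _) hSN : (S : Subgroup A).map A.subtype ≤ A ⊓ N)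
      have hd2 := Subgroup.card_dvd_of_le (inf_le_left : A ⊓ N ≤ A)
      rw [hSc, ha] at hd1
      rw [ha, hA] at hd2
      rw [ha]
      exact congrArg _ (le_antisymm ((hl.pow_dvd_iff_le_factorization Nat.card_pos.ne').1 hd2)
        ((Nat.pow_dvd_pow_iff_le_right hl.one_lt).1 hd1))
    obtain ⟨g, hg⟩ := hD l hl (H ⊓ N) (K ⊓ N) (hNp.to_le inf_le_right) (hNp.to_le inf_le_right)
      (by rw [hpart H rfl, hpart K hc.symm])
    set H' := MulAut.conj g • H
    have hH'c : Nat.card H' = Nat.card H := card_conj_smul g H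
    set R := K ⊓ N
    have hRH : R ≤ H' := by
      rw [hg]
      rintro _ ⟨y, hy, rfl⟩
      exact ⟨y, hy.1, rfl⟩
    have hnorm : ∀ A : Subgroup G, R = A ⊓ N → A ≤ Subgroup.normalizer (R : Set G) := by
      intro A hA
      rw [le_normalizer_iff_forall_conj_mem, hA]
      exact fun a ha y hy => ⟨A.mul_mem (A.mul_mem ha hy.1) (A.inv_mem ha), hN.1.conj_mem y hy.2 a⟩
    have hRH' : R = H' ⊓ N := Subgroup.eq_of_le_of_card_ge (le_inf hRH inf_le_right)
      (by rw [hpart H' hH'c, hpart K hc.symm])
    set S := Subgroup.normalizer (R : Set G)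
    have hcompl : ∀ A : Subgroup G, R = A ⊓ N → Nat.card A = Nat.card H →
        ∃ C : Subgroup S, ¬ l ∣ Nat.card C ∧ C.map S.subtype ⊔ R = A ∧
          Nat.card C * Nat.card R = Nat.card H := by
      intro A hA hAc
      have hRA : R ≤ A := hA.le.trans inf_le_left
      haveI : (R.subgroupOf A).Normal := (Subgroup.normal_subgroupOf_iff_le_normalizer hRA).2 (hnorm A hA)
      have hRc : Nat.card (R.subgroupOf A) = l ^ (Nat.card H).factorization l := by
        rw [Nat.card_congr (Subgroup.subgroupOfEquivOfLe hRA).toEquiv, hA, hpart A hAc]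
      have hidx : (R.subgroupOf A).index = Nat.card H / l ^ (Nat.card H).factorization l := by
        have h := (R.subgroupOf A).card_mul_index
        rw [hRc, hAc] at h
        exact (Nat.div_eq_of_eq_mul_right (pow_pos hl.pos _) h.symm).symm
      have hnd : ¬ l ∣ (R.subgroupOf A).index := hidx ▸ Nat.not_dvd_ordCompl hl Nat.card_pos.ne'
      obtain ⟨C, hC⟩ := Subgroup.exists_right_complement'_of_coprime (N := R.subgroupOf A)
        (by rw [hRc]; exact (hl.coprime_iff_not_dvd.2 hnd).pow_left _)
      have hCc : Nat.card C = (R.subgroupOf A).index := by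
        have h1 := hC.card_mul_card
        rw [← (R.subgroupOf A).card_mul_index] at h1
        exact Nat.eq_of_mul_eq_mul_left Nat.card_pos h1
      have hCS : C.map A.subtype ≤ S := (Subgroup.map_subtype_le _).trans (hnorm A hA)
      refine ⟨(C.map A.subtype).subgroupOf S, ?_, ?_, ?_⟩
      · rw [Nat.card_congr (Subgroup.subgroupOfEquivOfLe hCS).toEquiv,
          Subgroup.card_map_of_injective A.subtype_injective, hCc]
        exact hnd
      · rw [Subgroup.map_subgroupOf_eq_of_le hCS]
        have h3 := congrArg (Subgroup.map A.subtype) hC.sup_eq_top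
        rw [Subgroup.map_sup, Subgroup.map_subgroupOf_eq_of_le hRA, ← MonoidHom.range_eq_map,
          Subgroup.range_subtype, sup_comm] at h3
        exact h3
      · rw [Nat.card_congr (Subgroup.subgroupOfEquivOfLe hCS).toEquiv,
          Subgroup.card_map_of_injective A.subtype_injective, hCc, mul_comm,
          ← Nat.card_congr (Subgroup.subgroupOfEquivOfLe hRA).toEquiv, Subgroup.card_mul_index, hAc]
    obtain ⟨C, hCl, hCsup, hCc⟩ := hcompl H' hRH' hH'c
    obtain ⟨C₂, -, hC₂sup, hC₂c⟩ := hcompl K rfl hc.symm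
    obtain ⟨s, hs⟩ := s4022_cyclic _ S rfl C C₂
      (Nat.eq_of_mul_eq_mul_right Nat.card_pos (hCc.trans hC₂c.symm))
      (fun p hp hd => haveI := Fact.mk hp
        s4022_cyc_sub (hcyc p hp fun e => hCl (hlr.symm ▸ e ▸ hd)) S)
    refine ⟨(s : G) * g, ?_⟩
    have hsR : MulAut.conj (s : G) • R = R := by
      ext y
      rw [mem_conj_smul_iff]
      exact ((Subgroup.mem_normalizer_iff'.1 s.2) _).trans (by group)
    rw [map_mul, mul_smul, show MulAut.conj g • H = H' from rfl, ← hCsup, conj_smul_eq_map, Subgroup.map_sup,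
      ← conj_smul_eq_map (s : G) R, hsR, Subgroup.map_map, ← hC₂sup]
    congr 1
    rw [← hs, conj_smul_eq_map, Subgroup.map_map]
    congr 1

/-- Let G be a finite solvable group in which, for every prime p, any two p-subgroups of the same order are conjugate, and suppose the Sylow p-subgroups of G are cyclic for all primes p with at most one exception. Then any two subgroups of G of the same order are conjugate. -/
theorem result {G : Type*} [Group G] [Finite G]
    [Group.IsSolvable G] (hD : ∀ p : ℕ, p.Prime → ∀ H K : Subgroup G, IsPGroup p H → IsPGroup p K → Nat.card H = Nat.card K →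
      ∃ g : G, K = H.map (MulAut.conj g).toMonoidHom)
    (r : ℕ) (hcyc : ∀ p : ℕ, p.Prime → p ≠ r → ∀ P : Sylow p G, IsCyclic P) :
    ∀ H K : Subgroup G, Nat.card H = Nat.card K → ∃ g : G, K = H.map (MulAut.conj g).toMonoidHom := by
  intro H K hc
  obtain ⟨g, hg⟩ := s4022_main _ G rfl hD r hcyc H K hc
  exact ⟨g, hg.symm⟩

end Cfsg.Agent.S4022
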