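import Cfsg.Statements.S4023

import Mathlib
import Cfsg.Agent.Solv.UniqueSub
import Cfsg.Agent.Solv.Basic

set_option autoImplicit false
set_option linter.style.haveILetI false
open Cfsg

namespace Cfsg.Agent.S4023
open scoped commutatorElement

theorem normal_of_central {Q : Type*} [Group Q] {H : Subgroup Q} (h : H ≤ Subgroup.center Q) : H.Normal :=
  ⟨fun x hx g => by rw [Subgroup.mem_center_iff.1 (h hx) g, mul_inv_cancel_right]; exact hx⟩

theorem card_eq_pow_three {Q : Type*} [Group Q] [Finite Q] {p : ℕ} [Fact p.Prime] (hQ : IsPGroup p Q)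
    (hexp : ∀ x : Q, x ^ p = 1) {x y : Q} (hxy : x * y ≠ y * x) (hc : ⁅x, y⁆ ∈ Subgroup.center Q) :
    ∃ H : Subgroup Q, Nat.card H = p ^ 3 ∧ ¬ IsMulCommutative H := by
  set H := Subgroup.zpowers x ⊔ Subgroup.zpowers y
  have hxH : x ∈ H := Subgroup.mem_sup_left (Subgroup.mem_zpowers x)
  have hyH : y ∈ H := Subgroup.mem_sup_right (Subgroup.mem_zpowers y)
  have hna : ¬ IsMulCommutative H := fun h => hxy (congrArg Subtype.val (mul_comm' (⟨x, hxH⟩ : H) ⟨y, hyH⟩))
  refine ⟨H, ?_, hna⟩
  set Z := Subgroup.zpowers ⁅x, y⁆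
  haveI : Z.Normal := normal_of_central ((Subgroup.zpowers_le).2 hc)
  have hord : ∀ w : Q, Nat.card (Subgroup.zpowers w) ≤ p := fun w => by
    rw [Nat.card_zpowers]; exact Nat.le_of_dvd (Fact.out : p.Prime).pos (orderOf_dvd_of_pow_eq_one (hexp w))
  have hle : Nat.card H ≤ p ^ 3 := by
    set f := QuotientGroup.mk' Z
    have hcomm : Commute (f x) (f y) := by
      show f x * f y = f y * f x
      rw [← commutatorElement_eq_one_iff_mul_comm, ← map_commutatorElement]
      exact (QuotientGroup.eq_one_iff _).2 (Subgroup.mem_zpowers _)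
    have h1 : Nat.card (H.map f) ≤ p * p := by
      rw [Subgroup.map_sup, MonoidHom.map_zpowers, MonoidHom.map_zpowers]
      let g : Subgroup.zpowers (f x) × Subgroup.zpowers (f y) →* Q ⧸ Z :=
        MonoidHom.noncommCoprod (Subgroup.subtype _) (Subgroup.subtype _) (by
          rintro ⟨_, i, rfl⟩ ⟨_, j, rfl⟩
          exact (hcomm.zpow_zpow i j))
      have hsup : Subgroup.zpowers (f x) ⊔ Subgroup.zpowers (f y) = g.range := by
        rw [MonoidHom.noncommCoprod_range, Subgroup.range_subtype, Subgroup.range_subtype]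
      rw [hsup]
      refine (Nat.card_le_card_of_surjective g.rangeRestrict g.rangeRestrict_surjective).trans ?_
      rw [Nat.card_prod]
      refine Nat.mul_le_mul ?_ ?_
      · rw [← MonoidHom.map_zpowers]
        exact (Nat.le_of_dvd Nat.card_pos (Subgroup.card_map_dvd _ f)).trans (hord x)
      · rw [← MonoidHom.map_zpowers]
        exact (Nat.le_of_dvd Nat.card_pos (Subgroup.card_map_dvd _ f)).trans (hord y)
    calc Nat.card H = Nat.card (H.map f) * Nat.card (H ⊓ Z : Subgroup Q) := (CfsgLib.Solv.card_map_mk' Z H).symm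
      _ ≤ (p * p) * p := Nat.mul_le_mul h1 ((Nat.le_of_dvd Nat.card_pos (Subgroup.card_dvd_of_le inf_le_right)).trans (hord _))
      _ = p ^ 3 := by ring
  obtain ⟨n, hn⟩ := IsPGroup.iff_card.1 (hQ.to_subgroup H)
  rw [hn] at hle ⊢
  have h3 : n ≤ 3 := (Nat.pow_le_pow_iff_right (Fact.out : p.Prime).one_lt).1 hle
  have : 3 ≤ n := by
    by_contra hcon
    apply hna
    interval_cases n
    · haveI : Subsingleton H := (Nat.card_eq_one_iff_unique.1 (by simpa using hn)).1
      exact IsMulCommutative.mk ⟨fun a b => Subsingleton.elim _ _⟩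
    · haveI : IsCyclic H := isCyclic_of_prime_card (p := p) (by simpa using hn)
      exact IsMulCommutative.mk ⟨fun a b => (IsCyclic.commGroup (α := H)).mul_comm a b⟩
    · exact IsPGroup.isMulCommutative_of_card_eq_prime_sq hn
  rw [le_antisymm h3 this]

theorem exists_pair_subgroups {Q : Type*} [Group Q] [Finite Q] {p : ℕ} [Fact p.Prime] (hQ : IsPGroup p Q)
    (hexp : ∀ x : Q, x ^ p = 1) (hna : ¬ IsMulCommutative Q) {n : ℕ} (hn : Nat.card Q = p ^ n) (h4 : 4 ≤ n) :
    ∃ H A : Subgroup Q, Nat.card H = p ^ 3 ∧ ¬ IsMulCommutative H ∧ Nat.card A = p ^ 3 ∧ IsMulCommutative A := by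
  haveI : Group.IsNilpotent Q := hQ.isNilpotent
  have hp1 := (Fact.out : p.Prime).one_lt
  set Z := Subgroup.center Q
  have hZt : ∃ g : Q, g ∉ Z := by
    by_contra hcon
    push Not at hcon
    exact hna (IsMulCommutative.mk ⟨fun a b => (Subgroup.mem_center_iff.1 (hcon b) a)⟩)
  obtain ⟨g₀, hg₀⟩ := hZt
  haveI : Nontrivial (Q ⧸ Z) := ⟨⟨(g₀ : Q ⧸ Z), 1, fun e => hg₀ ((QuotientGroup.eq_one_iff g₀).1 e)⟩⟩
  haveI := (hQ.to_quotient Z).center_nontrivial
  obtain ⟨⟨q, hq⟩, hq1⟩ := exists_ne (1 : Subgroup.center (Q ⧸ Z))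
  obtain ⟨a, rfl⟩ := QuotientGroup.mk_surjective q
  have haZ : a ∉ Z := fun h => hq1 (Subtype.ext ((QuotientGroup.eq_one_iff a).2 h))
  obtain ⟨b, hab⟩ : ∃ b, a * b ≠ b * a := by
    by_contra hcon
    push Not at hcon
    exact haZ (Subgroup.mem_center_iff.2 fun g => (hcon g).symm)
  have hc : ∀ g, ⁅a, g⁆ ∈ Z := fun g => by
    rw [← QuotientGroup.eq_one_iff]
    show QuotientGroup.mk' Z ⁅a, g⁆ = 1
    rw [map_commutatorElement, commutatorElement_eq_one_iff_mul_comm]
    exact (Subgroup.mem_center_iff.1 hq _).symm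
  obtain ⟨H, hH, hHna⟩ := card_eq_pow_three hQ hexp hab (hc b)
  suffices h : ∃ A : Subgroup Q, IsMulCommutative A ∧ p ^ 3 ≤ Nat.card A by
    obtain ⟨A, hA, hA3⟩ := h
    obtain ⟨m, hm⟩ := IsPGroup.iff_card.1 (hQ.to_subgroup A)
    obtain ⟨K, hK⟩ := Sylow.exists_subgroup_card_pow_prime (G := A) p (n := 3)
      (hm ▸ pow_dvd_pow p ((Nat.pow_le_pow_iff_right hp1).1 (hm ▸ hA3)))
    refine ⟨H, K.map A.subtype, hH, hHna, ?_, ?_⟩
    · rw [Subgroup.card_map_of_injective A.subtype_injective, hK]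
    · refine IsMulCommutative.mk ⟨?_⟩
      rintro ⟨_, k, _, rfl⟩ ⟨_, l, _, rfl⟩
      exact Subtype.ext (show (k : Q) * (l : Q) = (l : Q) * (k : Q) from congrArg Subtype.val (mul_comm' k l))
  obtain ⟨z, hz⟩ := IsPGroup.iff_card.1 (hQ.to_subgroup Z)
  haveI : Nontrivial Q := ⟨⟨g₀, 1, fun e => hg₀ (e ▸ Z.one_mem)⟩⟩
  haveI := hQ.center_nontrivial
  have hz0 : z ≠ 0 := by
    rintro rfl
    exact absurd (Finite.one_lt_card (α := Z)) (by rw [hz]; simp)
  -- an abelian subgroup strictly containing `E` of order at least `p ^ 2`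
  suffices h : ∃ E : Subgroup Q, p ^ 2 ≤ Nat.card E ∧ (∀ e ∈ E, ∀ e' ∈ E, e * e' = e' * e) ∧
      ∃ g, g ∉ E ∧ ∀ e ∈ E, e * g = g * e by
    obtain ⟨E, hE2, hEc, g, hgE, hgc⟩ := h
    refine ⟨Subgroup.closure ((E : Set Q) ∪ {g}), Subgroup.isMulCommutative_closure ?_, ?_⟩
    · rintro x (hx | rfl) y (hy | rfl)
      · exact hEc x hx y hy
      · exact hgc x hx
      · exact (hgc y hy).symm
      · rfl
    · have hlt : E < Subgroup.closure ((E : Set Q) ∪ {g}) := lt_of_le_of_ne
        (fun x hx => Subgroup.subset_closure (Or.inl hx))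
        (fun e => hgE (e ▸ Subgroup.subset_closure (Or.inr rfl)))
      obtain ⟨i, hi⟩ := IsPGroup.iff_card.1 (hQ.to_subgroup E)
      obtain ⟨j, hj⟩ := IsPGroup.iff_card.1 (hQ.to_subgroup (Subgroup.closure ((E : Set Q) ∪ {g})))
      rw [hj]
      refine Nat.pow_le_pow_right (by omega) ?_
      rw [hi, Nat.pow_le_pow_iff_right hp1] at hE2
      by_contra hcon
      exact hlt.ne (Subgroup.eq_of_le_of_card_ge hlt.le (by rw [hi, hj]; exact Nat.pow_le_pow_right (by omega) (by omega)))
  by_cases hz2 : 2 ≤ z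
  · exact ⟨Z, hz ▸ Nat.pow_le_pow_right (by omega) hz2,
      fun e he e' _ => (Subgroup.mem_center_iff.1 he e').symm, a, haZ, fun e he => (Subgroup.mem_center_iff.1 he a).symm⟩
  · have hz1 : Nat.card Z = p := by rw [hz, show z = 1 by omega, pow_one]
    let φ : Q →* Z :=
      { toFun := fun g => ⟨⁅a, g⁆, hc g⟩
        map_one' := Subtype.ext (by simp)
        map_mul' := fun g h => Subtype.ext (by
          show ⁅a, g * h⁆ = ⁅a, g⁆ * ⁅a, h⁆
          have e : ⁅a, g * h⁆ = ⁅a, g⁆ * (g * ⁅a, h⁆ * g⁻¹) := by simp [commutatorElement_def, mul_assoc]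
          rw [e, Subgroup.mem_center_iff.1 (hc h) g, mul_inv_cancel_right]) }
    have hker : p ^ 3 ≤ Nat.card φ.ker := by
      have h1 := Subgroup.card_mul_index φ.ker
      have h2 : φ.ker.index ≤ p := by
        rw [Subgroup.index_ker]
        exact hz1 ▸ Subgroup.card_le_card_group _
      have h3 : p ^ 4 ≤ Nat.card φ.ker * φ.ker.index := by rw [h1, hn]; exact Nat.pow_le_pow_right (by omega) h4
      nlinarith [Nat.mul_le_mul_left (Nat.card φ.ker) h2, (pow_succ p 3)]
    set E := Z ⊔ Subgroup.zpowers a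
    have hEle : E ≤ φ.ker := sup_le (fun x hx => Subtype.ext (by
        show ⁅a, x⁆ = 1
        rw [commutatorElement_eq_one_iff_mul_comm]; exact Subgroup.mem_center_iff.1 hx a))
      (Subgroup.zpowers_le.2 (Subtype.ext (by show ⁅a, a⁆ = 1; simp)))
    have hEc : ∀ e ∈ E, ∀ g ∈ φ.ker, e * g = g * e := by
      intro e he g hg
      have : e ∈ Subgroup.centralizer (φ.ker : Set Q) := by
        refine (sup_le ?_ ?_ : E ≤ Subgroup.centralizer (φ.ker : Set Q)) he
        · exact Subgroup.center_le_centralizer _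
        · refine Subgroup.zpowers_le.2 (Subgroup.mem_centralizer_iff.2 fun k hk => ?_)
          exact (commutatorElement_eq_one_iff_mul_comm.1 (congrArg Subtype.val (MonoidHom.mem_ker.1 hk))).symm
      exact (Subgroup.mem_centralizer_iff.1 this g hg).symm
    have hEcard : Nat.card E ≤ p ^ 2 := by
      haveI : Z.Normal := inferInstance
      have := CfsgLib.Solv.card_sup_dvd_mul (Subgroup.zpowers a) Z
      rw [sup_comm] at this
      refine (Nat.le_of_dvd (Nat.mul_pos Nat.card_pos Nat.card_pos) this).trans ?_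
      rw [hz1, Nat.card_zpowers, pow_two]
      exact Nat.mul_le_mul_right _ (Nat.le_of_dvd (by omega) (orderOf_dvd_of_pow_eq_one (hexp a)))
    have hE2 : p ^ 2 ≤ Nat.card E := by
      obtain ⟨i, hi⟩ := IsPGroup.iff_card.1 (hQ.to_subgroup E)
      rw [hi]
      refine Nat.pow_le_pow_right (by omega) ?_
      by_contra hcon
      have hle : Nat.card E ≤ Nat.card Z := by
        rw [hi, hz]; exact Nat.pow_le_pow_right (by omega) (by omega)
      have hZE : Z = E := Subgroup.eq_of_le_of_card_ge le_sup_left hle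
      exact haZ (hZE ▸ Subgroup.mem_sup_right (Subgroup.mem_zpowers a))
    have hlt : E < φ.ker := lt_of_le_of_ne hEle fun e => by
      have hk := hker.trans (e ▸ hEcard)
      exact absurd ((Nat.pow_le_pow_iff_right hp1).1 hk) (by omega)
    obtain ⟨g, hgk, hgE⟩ := SetLike.exists_of_lt hlt
    exact ⟨E, hE2, fun e he e' he' => hEc e he e' (hEle he'), g, hgE, fun e he => hEc e he g hgk⟩

theorem exists_quaternion_pair (k : ℕ) [NeZero k] : ∃ H C : Subgroup (QuaternionGroup (4 * k)),
    Nat.card H = 8 ∧ ¬ IsMulCommutative H ∧ Nat.card C = 8 ∧ IsMulCommutative C := by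
  haveI : NeZero (2 * (4 * k)) := ⟨by have := NeZero.ne k; omega⟩
  have hk := NeZero.pos k
  set T : AddSubgroup (ZMod (2 * (4 * k))) := AddSubgroup.zmultiples ((2 * k : ℕ) : ZMod (2 * (4 * k)))
  have hm : ((4 * k : ℕ) : ZMod (2 * (4 * k))) ∈ T := ⟨2, by simp; ring⟩
  let H : Subgroup (QuaternionGroup (4 * k)) :=
    { carrier := {q | match q with | .a i => i ∈ T | .xa i => i ∈ T}
      one_mem' := T.zero_mem
      mul_mem' := by
        rintro (i | i) (j | j) hi hj
        · exact T.add_mem hi hj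
        · exact T.sub_mem hj hi
        · exact T.add_mem hi hj
        · exact T.sub_mem (T.add_mem hm hj) hi
      inv_mem' := by
        rintro (i | i) hi
        · exact T.neg_mem hi
        · exact T.add_mem hm hi }
  let e : H ≃ T ⊕ T :=
    { toFun := fun q => match q with | ⟨.a i, h⟩ => .inl ⟨i, h⟩ | ⟨.xa i, h⟩ => .inr ⟨i, h⟩
      invFun := fun s => match s with | .inl i => ⟨.a i.1, i.2⟩ | .inr i => ⟨.xa i.1, i.2⟩
      left_inv := by rintro ⟨i | i, h⟩ <;> rfl
      right_inv := by rintro (i | i) <;> rfl }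
  have hT : Nat.card T = 4 := by
    rw [Nat.card_zmultiples, ZMod.addOrderOf_coe _ (by omega), Nat.gcd_eq_right (by exact ⟨4, by ring⟩),
      show 2 * (4 * k) = 4 * (2 * k) by ring, Nat.mul_div_cancel _ (by omega)]
  refine ⟨H, Subgroup.zpowers ((QuaternionGroup.a 1) ^ k), ?_, fun hc => ?_, ?_, IsMulCommutative.mk ⟨fun x y => Subtype.ext ?_⟩⟩
  · rw [Nat.card_congr e, Nat.card_sum, hT]
  · have h1 := congrArg Subtype.val (mul_comm'
      (⟨QuaternionGroup.a ((2 * k : ℕ) : ZMod (2 * (4 * k))), AddSubgroup.mem_zmultiples _⟩ : H)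
      (⟨QuaternionGroup.xa 0, T.zero_mem⟩ : H))
    simp only [Subgroup.coe_mul, QuaternionGroup.a_mul_xa, QuaternionGroup.xa_mul_a, zero_sub, zero_add] at h1
    injection h1 with h2
    rw [neg_eq_iff_add_eq_zero, ← Nat.cast_add, ZMod.natCast_eq_zero_iff] at h2
    exact absurd (Nat.le_of_dvd (by omega) h2) (by omega)
  · rw [Nat.card_zpowers, orderOf_pow, QuaternionGroup.orderOf_a_one, Nat.gcd_eq_right ⟨8, by ring⟩,
      show 2 * (4 * k) = 8 * k by ring, Nat.mul_div_cancel _ hk]
  · obtain ⟨i, hi⟩ := x.2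
    obtain ⟨j, hj⟩ := y.2
    simp only [Subgroup.coe_mul, ← hi, ← hj]
    exact (Commute.refl _).zpow_zpow i j

/-- Let p be a prime and G a finite group in which any two p-subgroups of the same order are conjugate, with Sylow p-subgroup P. Then P is cyclic, or elementary abelian, or p = 2 and P is a quaternion group of order 8, or p is odd and P is non-abelian of order p³ and exponent p. -/
theorem result {G : Type*} [Group G] [Finite G]
    {p : ℕ} [Fact p.Prime] (hC : ∀ H K : Subgroup G, IsPGroup p H → IsPGroup p K → Nat.card H = Nat.card K →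
      ∃ g : G, K = H.map (MulAut.conj g).toMonoidHom) (P : Sylow p G) :
    IsCyclic P ∨ Cfsg.IsElementaryAbelian p (P : Subgroup G) ∨
      (p = 2 ∧ Nonempty ((P : Subgroup G) ≃* QuaternionGroup 2)) ∨
      (p ≠ 2 ∧ ¬ IsMulCommutative P ∧ Nat.card P = p ^ 3 ∧ Monoid.exponent P = p) := by
  classical
  have hp1 := (Fact.out : p.Prime).one_lt
  set K := (P : Subgroup G)
  have hK : IsPGroup p K := P.2
  have same : ∀ H H' : Subgroup K, Nat.card H = Nat.card H' → IsMulCommutative H → IsMulCommutative H' := by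
    intro H H' hc hH
    obtain ⟨g, hg⟩ := hC (H.map K.subtype) (H'.map K.subtype) ((hK.to_subgroup H).map _) ((hK.to_subgroup H').map _)
      (by rw [Subgroup.card_map_of_injective K.subtype_injective, Subgroup.card_map_of_injective K.subtype_injective, hc])
    have key : ∀ w : H', ∃ h : H, g * ((h : K) : G) * g⁻¹ = ((w : K) : G) := by
      intro w
      have : ((w : K) : G) ∈ H'.map K.subtype := ⟨w, w.2, rfl⟩
      rw [hg] at this
      obtain ⟨_, ⟨h, hh, rfl⟩, he⟩ := this
      exact ⟨⟨h, hh⟩, he⟩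
    refine IsMulCommutative.mk ⟨fun x y => Subtype.ext (Subtype.ext ?_)⟩
    obtain ⟨u, hu⟩ := key x
    obtain ⟨v, hv⟩ := key y
    show ((x : K) : G) * ((y : K) : G) = ((y : K) : G) * ((x : K) : G)
    have huv : ((u : K) : G) * ((v : K) : G) = ((v : K) : G) * ((u : K) : G) :=
      congrArg (fun t : H => ((t : K) : G)) (mul_comm' u v)
    rw [← hu, ← hv, conj_mul, conj_mul, huv]
  by_cases hexp : ∀ x : K, x ^ p = 1
  · by_cases hab : IsMulCommutative K
    · exact Or.inr (Or.inl ⟨hab, fun a ha => congrArg Subtype.val (hexp ⟨a, ha⟩)⟩)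
    refine Or.inr (Or.inr (Or.inr ⟨?_, hab, ?_, ?_⟩))
    · rintro rfl
      refine hab (IsMulCommutative.mk ⟨fun x y => ?_⟩)
      have hi : ∀ z : K, z⁻¹ = z := fun z => inv_eq_iff_mul_eq_one.2 (by rw [← pow_two]; exact hexp z)
      calc x * y = (x * y)⁻¹ := (hi _).symm
        _ = y * x := by rw [mul_inv_rev, hi, hi]
    · obtain ⟨n, hn⟩ := IsPGroup.iff_card.1 hK
      have h3 : 3 ≤ n := by
        by_contra hcon
        apply hab
        interval_cases n
        · haveI : Subsingleton K := (Nat.card_eq_one_iff_unique.1 (by simpa using hn)).1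
          exact IsMulCommutative.mk ⟨fun a b => Subsingleton.elim _ _⟩
        · haveI : IsCyclic K := isCyclic_of_prime_card (p := p) (by simpa using hn)
          exact IsMulCommutative.mk ⟨fun a b => (IsCyclic.commGroup (α := K)).mul_comm a b⟩
        · exact IsPGroup.isMulCommutative_of_card_eq_prime_sq hn
      have h4 : n ≤ 3 := by
        by_contra hcon
        obtain ⟨H, A, hH, hHna, hA, hAc⟩ := exists_pair_subgroups hK hexp hab hn (by omega)
        exact hHna (same A H (hA.trans hH.symm) hAc)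
      show Nat.card K = p ^ 3
      rw [hn, show n = 3 by omega]
    · haveI : Nontrivial K := by
        by_contra hcon
        haveI := not_nontrivial_iff_subsingleton.1 hcon
        exact hab (IsMulCommutative.mk ⟨fun a b => Subsingleton.elim _ _⟩)
      show Monoid.exponent K = p
      exact (Monoid.exponent_eq_prime_iff Fact.out).2 fun g hg => orderOf_eq_prime (hexp g) hg
  · push Not at hexp
    obtain ⟨x, hx⟩ := hexp
    obtain ⟨k, hk⟩ := IsPGroup.iff_orderOf.1 hK x
    have hk2 : 2 ≤ k := by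
      by_contra hcon
      refine hx (orderOf_dvd_iff_pow_eq_one.1 ?_)
      rw [hk]
      exact (pow_dvd_pow p (by omega : k ≤ 1)).trans (by rw [pow_one])
    have hy : orderOf (x ^ p ^ (k - 2)) = p ^ 2 := by
      rw [orderOf_pow, hk, Nat.gcd_eq_right (pow_dvd_pow p (by omega)), Nat.pow_div (by omega) (by omega)]
      congr 1; omega
    set y := x ^ p ^ (k - 2)
    have hnoE : ∀ E : Subgroup K, Nat.card E = p ^ 2 → ∃ e ∈ E, e ^ p ≠ 1 := by
      intro E hE
      obtain ⟨g, hg⟩ := hC ((Subgroup.zpowers y).map K.subtype) (E.map K.subtype) ((hK.to_subgroup _).map _) ((hK.to_subgroup _).map _)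
        (by rw [Subgroup.card_map_of_injective K.subtype_injective, Subgroup.card_map_of_injective K.subtype_injective, hE, Nat.card_zpowers, hy])
      have hmem : g * (y : G) * g⁻¹ ∈ E.map K.subtype := hg ▸ ⟨(y : G), ⟨y, Subgroup.mem_zpowers y, rfl⟩, rfl⟩
      obtain ⟨e, he, hee⟩ := hmem
      refine ⟨e, he, fun h => ?_⟩
      have h2 : (g * (y : G) * g⁻¹) ^ p = 1 := by
        rw [← hee]; exact congrArg Subtype.val h
      rw [conj_pow, mul_inv_eq_one, mul_eq_left] at h2
      have h3 := orderOf_dvd_of_pow_eq_one (Subtype.ext h2 : y ^ p = 1)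
      rw [hy] at h3
      exact absurd (Nat.le_of_dvd (by omega) h3) (by nlinarith)
    haveI : Nontrivial K := ⟨⟨x, 1, fun e => hx (by rw [e, one_pow])⟩⟩
    haveI := hK.center_nontrivial
    obtain ⟨c, hc0, hc⟩ := (hK.to_subgroup (Subgroup.center K)).nontrivial_iff_card.1 inferInstance
    obtain ⟨⟨z, hz⟩, hzo⟩ := exists_prime_orderOf_dvd_card' (G := Subgroup.center K) p (hc ▸ dvd_pow_self p hc0.ne')
    rw [Subgroup.orderOf_mk] at hzo
    haveI : (Subgroup.zpowers z).Normal := normal_of_central (Subgroup.zpowers_le.2 hz)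
    have hzu : ∀ u : K, orderOf u = p → u ∈ Subgroup.zpowers z := by
      intro u hu
      by_contra hcon
      set E := Subgroup.zpowers u ⊔ Subgroup.zpowers z
      have hd : Nat.card E ∣ p * p := by
        have := CfsgLib.Solv.card_sup_dvd_mul (Subgroup.zpowers u) (Subgroup.zpowers z)
        rwa [Nat.card_zpowers, Nat.card_zpowers, hu, hzo] at this
      rw [← pow_two] at hd
      obtain ⟨i, hi2, hi⟩ := (Nat.dvd_prime_pow Fact.out).1 hd
      have hi' : i = 2 := by
        by_contra hne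
        have hle : Nat.card E ≤ Nat.card (Subgroup.zpowers z) := by
          rw [hi, Nat.card_zpowers, hzo]
          exact (Nat.pow_le_pow_right (by omega) (by omega : i ≤ 1)).trans (pow_one p).le
        have := Subgroup.eq_of_le_of_card_ge (le_sup_right : Subgroup.zpowers z ≤ E) hle
        exact hcon (this ▸ Subgroup.mem_sup_left (Subgroup.mem_zpowers u))
      obtain ⟨e, he, hep⟩ := hnoE E (hi' ▸ hi)
      obtain ⟨v, hv, w, hw, rfl⟩ := Subgroup.mem_sup_of_normal_right.1 he
      obtain ⟨a, rfl⟩ := hv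
      obtain ⟨b, rfl⟩ := hw
      have huz : Commute u z := Subgroup.mem_center_iff.1 hz u
      refine hep ?_
      simp only [(huz.zpow_zpow a b).mul_pow, ← zpow_natCast, ← zpow_mul, mul_comm a, mul_comm b]
      rw [zpow_mul, zpow_mul, zpow_natCast, zpow_natCast, ← hu, pow_orderOf_eq_one, hu, ← hzo, pow_orderOf_eq_one]
      simp
    have huniq : ∀ a b : K, orderOf a = p → orderOf b = p → b ∈ Subgroup.zpowers a := by
      intro a b ha hb
      have hA := hzu a ha
      have hB := hzu b hb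
      have : Subgroup.zpowers a = Subgroup.zpowers z :=
        Subgroup.eq_of_le_of_card_ge (Subgroup.zpowers_le.2 hA) (by rw [Nat.card_zpowers, Nat.card_zpowers, ha, hzo])
      rw [this]; exact hB
    rcases CfsgLib.Solv.pgroup_unique_sub hK huniq with h | ⟨hp2, m, ⟨e⟩⟩
    · exact Or.inl h
    · refine Or.inr (Or.inr (Or.inl ⟨hp2, ?_⟩))
      rcases m with _ | m
      · exact ⟨e⟩
      · exfalso
        have hm4 : (2 : ℕ) ^ (m + 1 + 1) = 4 * 2 ^ m := by ring
        rw [hm4] at e
        obtain ⟨H, C, hH, hHna, hCc, hCcomm⟩ := exists_quaternion_pair (2 ^ m)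
        have h1 : IsMulCommutative (C.map e.symm.toMonoidHom) := by
          refine IsMulCommutative.mk ⟨?_⟩
          rintro ⟨_, u, hu, rfl⟩ ⟨_, v, hv, rfl⟩
          refine Subtype.ext ?_
          show e.symm u * e.symm v = e.symm v * e.symm u
          rw [← map_mul, ← map_mul]
          exact congrArg e.symm (congrArg Subtype.val (mul_comm' (⟨u, hu⟩ : C) ⟨v, hv⟩))
        have h2 := same (C.map e.symm.toMonoidHom) (H.map e.symm.toMonoidHom)
          (by rw [Subgroup.card_map_of_injective (f := e.symm.toMonoidHom) e.symm.injective,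
            Subgroup.card_map_of_injective (f := e.symm.toMonoidHom) e.symm.injective, hH, hCc]) h1
        refine hHna (IsMulCommutative.mk ⟨fun u v => Subtype.ext (e.symm.injective ?_)⟩)
        rw [Subgroup.coe_mul, Subgroup.coe_mul, map_mul, map_mul]
        exact congrArg Subtype.val (mul_comm' (⟨e.symm u, ⟨u, u.2, rfl⟩⟩ : H.map e.symm.toMonoidHom) ⟨e.symm v, ⟨v, v.2, rfl⟩⟩)

end Cfsg.Agent.S4023
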