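import Mathlib
-- Template for statement S4024 (row 4024; see /opt/grader/pristine/manifest.json for weights).
-- Copy to Cfsg/Agent/S4024.lean and replace the sorry. The statement below is byte-identical to the frozen
-- statement Cfsg.CfsgFrozen.S4024 (Cfsg/Statements/S4024.lean; the theorem Cfsg.fg5_equal_order_p_subgroups_conjugate_normal_p_solvable_subgroup);
-- the grader kernel-checks Cfsg.Agent.S4024.result against that frozen type. Keep the theorem IN THIS FILE
-- (a `result` declared elsewhere and merely imported here is not credited); helpers may live anywhere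
-- under Cfsg/Agent/.
import Cfsg.Statements.S4024
import Cfsg.Agent.Solv.PLengthOne
import Cfsg.Agent.Solv.MinimalNormal
import Cfsg.Agent.Fus.SolvableRealized
import Cfsg.Agent.Fus.PGroupAux
import Cfsg.Agent.OddLocal.TypeP


set_option autoImplicit false
open Cfsg

namespace Cfsg.Agent.S4024

/-- An odd `p`-group with a unique subgroup of some intermediate order is cyclic. -/
theorem cyclic_of_unique {P : Type*} [Group P] [Finite P] {p : ℕ} [hp : Fact p.Prime] (hodd : p ≠ 2)
    (hP : IsPGroup p P) {X0 : Subgroup P} (h1 : X0 ≠ ⊥) (h2 : X0 ≠ ⊤)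
    (huniq : ∀ X : Subgroup P, Nat.card X = Nat.card X0 → X = X0) : IsCyclic P := by
  obtain ⟨n, hn⟩ := IsPGroup.iff_card.1 hP
  obtain ⟨a, ha⟩ := IsPGroup.iff_card.1 (hP.to_subgroup X0)
  have ha1 : a ≠ 0 := fun h => h1 (Subgroup.card_eq_one.1 (by rw [ha, h, pow_zero]))
  have han : a < n := by
    by_contra h
    exact h2 (Subgroup.eq_top_of_card_eq _ (le_antisymm (Subgroup.card_le_card_group X0)
      (by rw [hn, ha]; exact Nat.pow_le_pow_right hp.out.pos (by omega))))
  obtain ⟨B, hBc, hXB⟩ := Sylow.exists_subgroup_card_pow_prime_le p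
    (G := P) (n := a) (m := a + 1) (hn ▸ pow_dvd_pow p (by omega)) X0 ha (by omega)
  haveI : IsCyclic B := by
    obtain ⟨b, hb, hbX⟩ : ∃ b ∈ B, b ∉ X0 := by
      by_contra hcon
      push Not at hcon
      have := Subgroup.card_dvd_of_le (show B ≤ X0 from hcon)
      rw [ha, hBc, Nat.pow_dvd_pow_iff_le_right hp.out.one_lt] at this
      omega
    obtain ⟨j, hj⟩ := IsPGroup.iff_card.1 (hP.to_subgroup (Subgroup.zpowers b))
    by_contra hnc
    have hlt : j ≤ a := by
      by_contra hlt
      refine hnc ?_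
      have : Subgroup.zpowers b = B := Subgroup.eq_of_le_of_card_ge (Subgroup.zpowers_le.2 hb)
        (by rw [hj, hBc]; exact Nat.pow_le_pow_right hp.out.pos (by omega))
      rw [← this]; infer_instance
    obtain ⟨Y, hYc, hbY⟩ := Sylow.exists_subgroup_card_pow_prime_le p (G := P) (n := j) (m := a)
      (hn ▸ pow_dvd_pow p han.le) (Subgroup.zpowers b) hj hlt
    exact hbX (huniq Y (by rw [hYc, ha]) ▸ hbY (Subgroup.mem_zpowers b))
  haveI : IsCyclic X0 := isCyclic_of_injective (Subgroup.inclusion hXB) (Subgroup.inclusion_injective hXB)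
  have hmem : ∀ x : P, x ^ p = 1 → x ∈ X0 := by
    intro x hx
    by_cases hx1 : x = 1
    · rw [hx1]; exact one_mem _
    obtain ⟨Y, hYc, hxY⟩ := Sylow.exists_subgroup_card_pow_prime_le p (G := P) (n := 1) (m := a)
      (hn ▸ pow_dvd_pow p han.le) (Subgroup.zpowers x)
      (by rw [Nat.card_zpowers, pow_one]; exact orderOf_eq_prime hx hx1) (by omega)
    exact huniq Y (by rw [hYc, ha]) ▸ hxY (Subgroup.mem_zpowers x)
  refine CfsgLib.Fus.isCyclic_of_roots (lt_of_le_of_ne hp.out.two_le hodd.symm) hP fun x y hx hy hx1 => ?_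
  let x' : X0 := ⟨x, hmem x hx⟩
  let y' : X0 := ⟨y, hmem y hy⟩
  have hox : orderOf x = p := orderOf_eq_prime hx hx1
  have hz : Subgroup.zpowers y ≤ Subgroup.zpowers x := by
    by_cases hy1 : y = 1
    · rw [hy1, Subgroup.zpowers_one_eq_bot]; exact bot_le
    have h1 : Subgroup.zpowers y' = Subgroup.zpowers x' := by
      refine CfsgLib.OddLocal.eq_of_card_eq_of_cyclic (W := ⊤) (Subgroup.topEquiv.isCyclic.2 inferInstance) le_top le_top ?_
      rw [Nat.card_zpowers, Nat.card_zpowers, Subgroup.orderOf_mk, Subgroup.orderOf_mk, hox,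
        orderOf_eq_prime hy hy1]
    have h2 := congrArg (Subgroup.map X0.subtype) h1
    rw [MonoidHom.map_zpowers, MonoidHom.map_zpowers] at h2
    exact h2.le
  exact hz (Subgroup.mem_zpowers y)


/-- Let p be an odd prime and G a finite group in which any two p-subgroups of the same order are conjugate, with Sylow p-subgroup P. If H is a normal p-solvable subgroup of G whose order is divisible by p, then P is abelian, and either P ≤ H or P is cyclic. -/
theorem result {G : Type*} [Group G] [Finite G]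
    {p : ℕ} [Fact p.Prime] (hp : p ≠ 2) (hC : ∀ H K : Subgroup G, IsPGroup p H → IsPGroup p K → Nat.card H = Nat.card K →
      ∃ g : G, K = H.map (MulAut.conj g).toMonoidHom) (P : Sylow p G)
    (H : Subgroup G) [H.Normal] (hsolv : Cfsg.IsPSolvable p H) (hdiv : p ∣ Nat.card H) :
    IsMulCommutative P ∧ ((P : Subgroup G) ≤ H ∨ IsCyclic P) := by
  classical
  have hp' : p.Prime := Fact.out
  by_cases hPH : (P : Subgroup G) ≤ H
  swap
  · suffices hc : IsCyclic P by
      exact ⟨inferInstance, Or.inr hc⟩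
    let Q0 : Subgroup (P : Subgroup G) := H.subgroupOf (P : Subgroup G)
    have hQ1 : Q0 ≠ ⊥ := by
      obtain ⟨x, hx⟩ := exists_prime_orderOf_dvd_card' (G := H) p hdiv
      have hxo : orderOf (x : G) = p := by rw [Subgroup.orderOf_coe, hx]
      have hz : IsPGroup p (Subgroup.zpowers (x : G)) :=
        IsPGroup.of_card (n := 1) (by rw [Nat.card_zpowers, hxo, pow_one])
      obtain ⟨S, hS⟩ := hz.exists_le_sylow
      obtain ⟨g, hg⟩ := MulAction.exists_smul_eq G S P
      intro hbot
      have h1 : g * (x : G) * g⁻¹ ∈ (P : Subgroup G) := by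
        rw [← hg]
        exact Subgroup.smul_mem_pointwise_smul (x : G) (MulAut.conj g) _ (hS (Subgroup.mem_zpowers _))
      have h2 : (⟨_, h1⟩ : (P : Subgroup G)) ∈ Q0 := ‹H.Normal›.conj_mem _ x.2 g
      rw [hbot, Subgroup.mem_bot] at h2
      have h3 : (x : G) = 1 := conj_eq_one_iff.1 (congrArg Subtype.val h2)
      rw [h3, orderOf_one] at hxo
      exact hp'.one_lt.ne hxo
    refine cyclic_of_unique hp P.isPGroup' hQ1 (fun h => hPH (Subgroup.subgroupOf_eq_top.1 h)) fun X hX => ?_
    obtain ⟨g, hg⟩ := hC (Q0.map (P : Subgroup G).subtype) (X.map (P : Subgroup G).subtype)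
      ((P.isPGroup'.to_subgroup Q0).map _) ((P.isPGroup'.to_subgroup X).map _)
      (by rw [Subgroup.card_subtype, Subgroup.card_subtype, hX])
    refine Subgroup.eq_of_le_of_card_ge (fun x hx => ?_) hX.ge
    have h1 : (x : G) ∈ (Q0.map (P : Subgroup G).subtype).map (MulAut.conj g).toMonoidHom := hg ▸ ⟨x, hx, rfl⟩
    obtain ⟨_, ⟨y, hy, rfl⟩, hyx⟩ := h1
    show (x : G) ∈ H
    rw [← hyx]
    exact ‹H.Normal›.conj_mem _ hy g
  refine ⟨?_, Or.inl hPH⟩
  -- a chief factor of order divisible by `p`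
  obtain ⟨M, hM⟩ := (Set.toFinite {X : Subgroup G | X.Normal ∧ X ≤ H ∧ p ∣ Nat.card X}).exists_minimal
    ⟨H, inferInstance, le_rfl, hdiv⟩
  obtain ⟨hMn, hMH, hMp⟩ := hM.1
  obtain ⟨N, hN⟩ := (Set.toFinite {X : Subgroup G | X.Normal ∧ X < M}).exists_maximal
    ⟨⊥, inferInstance, bot_lt_iff_ne_bot.2 fun h => by
      rw [h, Subgroup.card_bot] at hMp; exact hp'.not_dvd_one hMp⟩
  obtain ⟨hNn, hNM⟩ := hN.1
  haveI := hMn
  haveI := hNn
  have hNp : ¬ p ∣ Nat.card N := fun h =>
    absurd (hM.2 ⟨hNn, hNM.le.trans hMH, h⟩ hNM.le) (not_le_of_gt hNM)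
  let π := QuotientGroup.mk' N
  have hπ : Function.Surjective π := QuotientGroup.mk'_surjective N
  have hker : π.ker = N := QuotientGroup.ker_mk' N
  let Mb : Subgroup (G ⧸ N) := M.map π
  have hMc : Mb.comap π = M := by rw [Subgroup.comap_map_eq, hker, sup_eq_left.2 hNM.le]
  haveI hMbn : Mb.Normal := hMn.map π hπ
  have hmin : CfsgLib.Solv.IsMinimalNormal Mb := by
    refine ⟨hMbn, fun h => ?_, fun X hXn hX => ?_⟩
    · rw [h, MonoidHom.comap_bot, hker] at hMc
      exact hNM.ne hMc
    · by_cases hXM : X.comap π = M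
      · exact Or.inr (by rw [← Subgroup.map_comap_eq_self_of_surjective hπ X, hXM])
      · left
        have h1 : X.comap π < M := lt_of_le_of_ne (hMc ▸ Subgroup.comap_mono hX) hXM
        have h2 : X.comap π ≤ N := hN.2 ⟨hXn.comap π, h1⟩ (hker.ge.trans (Subgroup.ker_le_comap π X))
        rw [eq_bot_iff, ← Subgroup.map_comap_eq_self_of_surjective hπ X, Subgroup.map_le_iff_le_comap,
          MonoidHom.comap_bot, hker]
        exact h2
  have hcardM : Nat.card N * Nat.card Mb = Nat.card M := by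
    have h1 : π.ker.relIndex M = Nat.card Mb := Subgroup.relIndex_ker M π
    rw [hker] at h1
    rw [← h1, ← Subgroup.relIndex_bot_left, ← Subgroup.relIndex_bot_left]
    exact Subgroup.relIndex_mul_relIndex _ _ _ bot_le hNM.le
  have hMbp : IsPGroup p Mb := by
    have hMsolv : Cfsg.IsPSolvable p Mb := by
      have h1 : Cfsg.IsPSolvable p (M.subgroupOf H) := CfsgLib.Fus.SolvReal.isPSolvable_subgroup hsolv _
      let f : (M.subgroupOf H) →* Mb :=
        (π.subgroupMap M).comp (Subgroup.subgroupOfEquivOfLe hMH).toMonoidHom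
      exact CfsgLib.Fus.SolvReal.isPSolvable_of_surjective (f := f)
        ((π.subgroupMap_surjective M).comp (Subgroup.subgroupOfEquivOfLe hMH).surjective) h1
    haveI : Nontrivial Mb := (Subgroup.nontrivial_iff_ne_bot _).2 hmin.2.1
    by_cases hc : Cfsg.pCore p Mb = ⊥
    · exfalso
      haveI := CfsgLib.Solv.pPrimeCore_characteristic (p := p) (G := Mb)
      rcases hmin.2.2 ((Cfsg.pPrimeCore p Mb).map Mb.subtype) inferInstance (Subgroup.map_subtype_le _) with h | h
      · exact CfsgLib.Solv.PLen.pPrimeCore_ne_bot_of_pCore_eq_bot hMsolv hc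
          ((Subgroup.map_eq_bot_iff_of_injective _ Mb.subtype_injective).1 h)
      · have h1 := CfsgLib.Solv.pPrimeCore_coprime (p := p) (G := Mb)
        rw [← Subgroup.card_subtype Mb (Cfsg.pPrimeCore p Mb), h, Nat.coprime_comm,
          hp'.coprime_iff_not_dvd] at h1
        rcases hp'.dvd_mul.1 (hcardM.symm ▸ hMp) with h2 | h2
        · exact hNp h2
        · exact h1 h2
    · haveI := CfsgLib.Solv.pCore_characteristic (p := p) (G := Mb)
      rcases hmin.2.2 ((Cfsg.pCore p Mb).map Mb.subtype) inferInstance (Subgroup.map_subtype_le _) with h | h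
      · exact absurd ((Subgroup.map_eq_bot_iff_of_injective _ Mb.subtype_injective).1 h) hc
      · exact h ▸ ((CfsgLib.Solv.pCore_isPGroup (p := p) (G := Mb)).map _)
  haveI : Group.IsNilpotent Mb := hMbp.isNilpotent
  haveI hMbc : IsMulCommutative Mb := CfsgLib.Solv.isMulCommutative_of_minimal_solvable hmin inferInstance
  -- the map is injective on `P`
  let f : (P : Subgroup G) →* G ⧸ N := π.comp (P : Subgroup G).subtype
  have hf : Function.Injective f := by
    rw [← MonoidHom.ker_eq_bot_iff, Subgroup.eq_bot_iff_forall]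
    intro x hx
    have hxN : (x : G) ∈ N := hker ▸ hx
    obtain ⟨j, hj⟩ := IsPGroup.iff_orderOf.1 P.isPGroup' x
    have h1 : orderOf (x : G) ∣ Nat.card N := Subgroup.orderOf_dvd_natCard _ hxN
    rw [Subgroup.orderOf_coe, hj] at h1
    rcases Nat.eq_zero_or_pos j with h0 | h0
    · exact orderOf_eq_one_iff.1 (by rw [hj, h0, pow_zero])
    · exact absurd ((dvd_pow_self p h0.ne').trans h1) hNp
  have hMP : Mb ≤ f.range := by
    rw [show f.range = (P : Subgroup G).map π by rw [MonoidHom.range_comp, Subgroup.range_subtype]]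
    obtain ⟨S, hS⟩ := hMbp.exists_le_sylow
    obtain ⟨g, hg⟩ := MulAction.exists_smul_eq (G ⧸ N) S (P.mapSurjective hπ)
    intro y hy
    have h1 : g⁻¹ * y * g ∈ Mb := by simpa using hMbn.conj_mem y hy g⁻¹
    have h2 : MulAut.conj g • (g⁻¹ * y * g) ∈ ((g • S : Sylow p (G ⧸ N)) : Subgroup (G ⧸ N)) :=
      Subgroup.smul_mem_pointwise_smul _ _ (S : Subgroup (G ⧸ N)) (hS h1)
    rw [hg] at h2
    simpa [MulAut.smul_def, mul_assoc] using h2
  let X0 : Subgroup (P : Subgroup G) := Mb.comap f
  have hX0 : X0.map f = Mb := Subgroup.map_comap_eq_self hMP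
  by_cases htop : X0 = ⊤
  · refine ⟨⟨fun x y => hf ?_⟩⟩
    have hx : f x ∈ Mb := show x ∈ X0 by rw [htop]; trivial
    have hy : f y ∈ Mb := show y ∈ X0 by rw [htop]; trivial
    rw [map_mul, map_mul]
    exact congrArg Subtype.val (mul_comm' (⟨f x, hx⟩ : Mb) ⟨f y, hy⟩)
  have hcyc : IsCyclic P := by
    refine cyclic_of_unique hp P.isPGroup' (fun h => hmin.2.1 (by rw [← hX0, h, Subgroup.map_bot])) htop fun X hX => ?_
    obtain ⟨g, hg⟩ := hC (X0.map (P : Subgroup G).subtype) (X.map (P : Subgroup G).subtype)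
      ((P.isPGroup'.to_subgroup X0).map _) ((P.isPGroup'.to_subgroup X).map _)
      (by rw [Subgroup.card_subtype, Subgroup.card_subtype, hX])
    refine Subgroup.eq_of_le_of_card_ge (fun x hx => ?_) hX.ge
    have h1 : (x : G) ∈ (X0.map (P : Subgroup G).subtype).map (MulAut.conj g).toMonoidHom := hg ▸ ⟨x, hx, rfl⟩
    obtain ⟨_, ⟨y, hy, rfl⟩, hyx⟩ := h1
    show π (x : G) ∈ Mb
    rw [← hyx]
    have h2 : π (y : G) ∈ Mb := hy
    simpa using hMbn.conj_mem _ h2 (π g)
  infer_instance

end Cfsg.Agent.S4024
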