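import Cfsg.Statements.S4028


set_option autoImplicit false
set_option linter.style.haveILetI false
open Cfsg

namespace Cfsg.Agent.S4028

/-- Let G be a finite group with Sylow 2-subgroup P. Then N_G(⟨x⟩) = C_G(x) holds for every 2-element x of G if and only if N_P(⟨y⟩) = C_P(y) holds for every y ∈ P (computed inside P). -/
theorem result {G : Type*} [Group G] [Finite G] (P : Sylow 2 G) :
    (∀ x : G, (∀ r : ℕ, r.Prime → r ∣ orderOf x → r = 2) →
      Subgroup.normalizer ((Subgroup.zpowers x : Subgroup G) : Set G) ≤ Subgroup.centralizer {x}) ↔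
    (∀ y : ↥(P : Subgroup G), Subgroup.normalizer ((Subgroup.zpowers y : Subgroup ↥(P : Subgroup G)) : Set ↥(P : Subgroup G)) ≤
        Subgroup.centralizer {y}) := by
  classical
  haveI : Fact (Nat.Prime 2) := ⟨Nat.prime_two⟩
  constructor
  · intro h y g hg
    rw [Subgroup.mem_centralizer_singleton_iff]
    refine Subtype.ext (Subgroup.mem_centralizer_singleton_iff.1 (h y ?_ (?_ : (g : G) ∈ Subgroup.normalizer ((Subgroup.zpowers (y : G) : Subgroup G) : Set G))))
    · intro r hr hd
      obtain ⟨n, hn⟩ := IsPGroup.iff_card.1 P.2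
      exact (Nat.prime_dvd_prime_iff_eq hr Nat.prime_two).1 (hr.dvd_of_dvd_pow (hd.trans (hn ▸ Subgroup.orderOf_dvd_natCard _ y.2)))
    · rw [Subgroup.mem_normalizer_iff_map_conj_eq] at hg ⊢
      rw [MonoidHom.map_zpowers] at hg ⊢
      have := congrArg (Subgroup.map (P : Subgroup G).subtype) hg
      rw [MonoidHom.map_zpowers, MonoidHom.map_zpowers] at this
      exact this
  · intro h x hx g hg
    set W := Subgroup.normalizer ((Subgroup.zpowers x : Subgroup G) : Set G)
    set C := (Subgroup.centralizer ((Subgroup.zpowers x : Subgroup G) : Set G)).subgroupOf W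
    obtain ⟨a, ha⟩ : ∃ a, orderOf x = 2 ^ a := ⟨_, Nat.eq_prime_pow_of_unique_prime_dvd (orderOf_pos x).ne' fun hr hd => hx _ hr hd⟩
    have hidx : ∃ b, C.index = 2 ^ b := by
      have h1 : C.index ∣ Nat.card (MulAut (Subgroup.zpowers x)) := by
        rw [show C = (Subgroup.zpowers x).normalizerMonoidHom.ker from (Subgroup.normalizerMonoidHom_ker _).symm,
          Subgroup.index_ker]
        exact Subgroup.card_subgroup_dvd_card _
      rw [IsCyclic.card_mulAut, Nat.card_zpowers, ha] at h1
      rcases Nat.eq_zero_or_pos a with rfl | hpos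
      · rw [pow_zero, Nat.totient_one, Nat.dvd_one] at h1
        exact ⟨0, by simpa using h1⟩
      · rw [Nat.totient_prime_pow Nat.prime_two hpos, show (2 : ℕ) - 1 = 1 from rfl, mul_one] at h1
        obtain ⟨b, -, hb⟩ := (Nat.dvd_prime_pow Nat.prime_two).1 h1
        exact ⟨b, hb⟩
    haveI : C.Normal := by
      rw [show C = (Subgroup.zpowers x).normalizerMonoidHom.ker from (Subgroup.normalizerMonoidHom_ker _).symm]
      infer_instance
    obtain ⟨S⟩ : Nonempty (Sylow 2 W) := inferInstance
    have htop : (S : Subgroup W) ⊔ C = ⊤ := by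
      obtain ⟨b, hb⟩ := hidx
      have h1 : ((S : Subgroup W) ⊔ C).index ∣ (S : Subgroup W).index := Subgroup.index_dvd_of_le le_sup_left
      have h2 : ((S : Subgroup W) ⊔ C).index ∣ 2 ^ b := hb ▸ Subgroup.index_dvd_of_le le_sup_right
      exact Subgroup.index_eq_one.1 (Nat.Coprime.eq_one_of_dvd
        (((Nat.prime_two.coprime_iff_not_dvd).2 S.not_dvd_index).symm.coprime_dvd_left h1 |>.pow_right b) h2)
    haveI : ((Subgroup.zpowers x).comap W.subtype).Normal := Subgroup.normal_in_normalizer
    have hxS : (⟨x, Subgroup.le_normalizer (Subgroup.mem_zpowers x)⟩ : W) ∈ (S : Subgroup W) :=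
      ((IsPGroup.of_card (n := a) (by rw [Nat.card_zpowers, ha]) : IsPGroup 2 ↥(Subgroup.zpowers x)).comap_of_injective W.subtype W.subtype_injective).le_sylow_of_normal S (Subgroup.mem_zpowers x)
    obtain ⟨R, hR⟩ := (S.2.map W.subtype).exists_le_sylow
    obtain ⟨c, hc⟩ := MulAction.exists_smul_eq G R P
    have hin : ∀ z ∈ (R : Subgroup G), c * z * c⁻¹ ∈ (P : Subgroup G) := fun z hz => by
      rw [← hc, Sylow.coe_subgroup_smul]; exact ⟨z, hz, rfl⟩
    suffices (⟨g, hg⟩ : W) ∈ (Subgroup.centralizer ({x} : Set G)).subgroupOf W from this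
    have hle : (S : Subgroup W) ⊔ C ≤ (Subgroup.centralizer ({x} : Set G)).subgroupOf W := by
      refine sup_le (fun s hs => ?_) fun s hs => ?_
      · have hsP := hin _ (hR ⟨s, hs, rfl⟩)
        have hxP := hin _ (hR ⟨_, hxS, rfl⟩)
        have hn : (⟨_, hsP⟩ : ↥(P : Subgroup G)) ∈ Subgroup.normalizer
            ((Subgroup.zpowers (⟨_, hxP⟩ : ↥(P : Subgroup G)) : Subgroup ↥(P : Subgroup G)) : Set ↥(P : Subgroup G)) := by
          rw [Subgroup.mem_normalizer_iff_map_conj_eq]
          refine Subgroup.map_injective (P : Subgroup G).subtype_injective ?_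
          rw [MonoidHom.map_zpowers, MonoidHom.map_zpowers, MonoidHom.map_zpowers]
          have h1 := congrArg (Subgroup.map (MulAut.conj c).toMonoidHom) (Subgroup.mem_normalizer_iff_map_conj_eq.1 s.2)
          rw [MonoidHom.map_zpowers, MonoidHom.map_zpowers, MonoidHom.map_zpowers] at h1
          show Subgroup.zpowers (c * (s : G) * c⁻¹ * (c * x * c⁻¹) * (c * (s : G) * c⁻¹)⁻¹) = Subgroup.zpowers (c * x * c⁻¹)
          rw [show c * (s : G) * c⁻¹ * (c * x * c⁻¹) * (c * (s : G) * c⁻¹)⁻¹ = c * ((s : G) * x * (s : G)⁻¹) * c⁻¹ by group]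
          exact h1
        have h2 : (c * (s : G) * c⁻¹) * (c * x * c⁻¹) = (c * x * c⁻¹) * (c * (s : G) * c⁻¹) :=
          congrArg Subtype.val (Subgroup.mem_centralizer_singleton_iff.1 (h _ hn))
        refine Subgroup.mem_centralizer_singleton_iff.2 ?_
        have h3 := congrArg (fun t => c⁻¹ * t * c) h2
        simpa [mul_assoc] using h3
      · exact Subgroup.mem_centralizer_singleton_iff.2 (Subgroup.mem_centralizer_iff.1 hs x (Subgroup.mem_zpowers x)).symm
    exact hle (htop ▸ Subgroup.mem_top _)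

end Cfsg.Agent.S4028
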