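import Cfsg.Statements.S4029

import Cfsg.Agent.Char.PermLemma
import Cfsg.Agent.Solv.FittingBasic

set_option autoImplicit false
set_option linter.style.haveILetI false
open Cfsg

namespace Cfsg.Agent.S4029

/-- Let P be a finite 2-group in which N_P(⟨y⟩) = C_P(y) for every y ∈ P. If s is the number of conjugacy classes of involutions of P, then #(P/Φ(P)) ≤ s + 1; in particular the subgroup generated by the involutions of P has order at least #(P/Φ(P)). -/
theorem result {P : Type*} [Group P] [Finite P] (hP : IsPGroup 2 P)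
    (hirr : ∀ y : P, Subgroup.normalizer ((Subgroup.zpowers y : Subgroup P) : Set P) ≤ Subgroup.centralizer {y}) :
    Nat.card (P ⧸ frattini P) ≤ Nat.card {c : ConjClasses P // ∃ y : P, ConjClasses.mk y = c ∧ orderOf y = 2} + 1 ∧
    Nat.card (P ⧸ frattini P) ≤ Nat.card (Subgroup.closure {y : P | orderOf y = 2}) := by
  classical
  haveI : Fintype P := Fintype.ofFinite _
  haveI : Fact (Nat.Prime 2) := ⟨Nat.prime_two⟩
  -- real classes
  have hreal : ∀ y : P, IsConj y y⁻¹ → y ^ 2 = 1 := by
    intro y hy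
    obtain ⟨g, hg⟩ := isConj_iff.1 hy
    have hn : g ∈ Subgroup.normalizer ((Subgroup.zpowers y : Subgroup P) : Set P) := by
      rw [Subgroup.mem_normalizer_iff_map_conj_eq, MonoidHom.map_zpowers]
      show Subgroup.zpowers (g * y * g⁻¹) = _
      rw [hg, Subgroup.zpowers_inv]
    have hc := Subgroup.mem_centralizer_iff.1 (hirr y hn) y rfl
    rw [← hc, mul_inv_cancel_right] at hg
    rw [sq]
    nth_rw 1 [hg]
    exact inv_mul_cancel y
  set S := {c : ConjClasses P // ∃ y : P, ConjClasses.mk y = c ∧ orderOf y = 2}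
  have hcount : Nat.card {K : ConjClasses P // ∀ g, ConjClasses.mk g = K → ConjClasses.mk g⁻¹ = K} ≤ Nat.card S + 1 := by
    rw [← Finite.card_option]
    refine Nat.card_le_card_of_injective (fun K => if h : ∃ y : P, ConjClasses.mk y = K.1 ∧ orderOf y = 2 then some ⟨K.1, h⟩ else none) ?_
    have hone : ∀ K : {K : ConjClasses P // ∀ g, ConjClasses.mk g = K → ConjClasses.mk g⁻¹ = K},
        (¬ ∃ y : P, ConjClasses.mk y = K.1 ∧ orderOf y = 2) → K.1 = ConjClasses.mk 1 := by
      intro K hK
      obtain ⟨y, hy⟩ := ConjClasses.exists_rep K.1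
      have h2 := hreal y (ConjClasses.mk_eq_mk_iff_isConj.1 (hy.trans (K.2 y hy).symm))
      by_cases hy1 : y = 1
      · rw [← hy, hy1]
      · exact absurd ⟨y, hy, orderOf_eq_prime h2 hy1⟩ hK
    intro K L hKL
    by_cases hK : ∃ y : P, ConjClasses.mk y = K.1 ∧ orderOf y = 2
    · by_cases hL : ∃ y : P, ConjClasses.mk y = L.1 ∧ orderOf y = 2
      · simp only [dif_pos hK, dif_pos hL, Option.some_inj] at hKL
        exact Subtype.ext (congrArg (fun z : S => z.1) hKL)
      · simp [dif_pos hK, dif_neg hL] at hKL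
    · by_cases hL : ∃ y : P, ConjClasses.mk y = L.1 ∧ orderOf y = 2
      · simp [dif_neg hK, dif_pos hL] at hKL
      · exact Subtype.ext ((hone K hK).trans (hone L hL).symm)
  -- real linear characters
  have hsq : ∀ v : P ⧸ frattini P, v ^ 2 = 1 := fun v => by
    obtain ⟨x, rfl⟩ := QuotientGroup.mk_surjective v
    rw [← QuotientGroup.mk_pow, QuotientGroup.eq_one_iff]
    exact CfsgLib.Solv.pow_mem_frattini hP x
  letI : CommGroup (P ⧸ frattini P) := { (inferInstance : Group (P ⧸ frattini P)) with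
    mul_comm := fun a b => by
      have hi : ∀ v : P ⧸ frattini P, v⁻¹ = v := fun v => inv_eq_of_mul_eq_one_right (by rw [← sq, hsq])
      rw [← hi (a * b), mul_inv_rev, hi, hi] }
  have hlin : Nat.card (P ⧸ frattini P) ≤ Nat.card {χ : Cfsg.IrrCharacter P // (χ : P → ℂ) ∘ (fun g => g⁻¹) = (χ : P → ℂ)} := by
    rw [← CommGroup.card_monoidHom_of_hasEnoughRootsOfUnity (P ⧸ frattini P) ℂ]
    refine Nat.card_le_card_of_injective (fun μ => ⟨⟨_, CfsgLib.Char.isIrr_linear (μ.comp (QuotientGroup.mk' (frattini P)))⟩, ?_⟩) ?_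
    · funext g
      show ((μ (QuotientGroup.mk' (frattini P) g⁻¹) : ℂˣ) : ℂ) = (μ (QuotientGroup.mk' (frattini P) g) : ℂˣ)
      rw [map_inv, show (QuotientGroup.mk' (frattini P) g)⁻¹ = QuotientGroup.mk' (frattini P) g from
        inv_eq_of_mul_eq_one_right (by rw [← sq]; exact hsq _)]
    · intro μ ν h
      refine MonoidHom.ext fun v => ?_
      obtain ⟨x, rfl⟩ := QuotientGroup.mk_surjective v
      exact Units.ext (congrFun (congrArg (fun z => ((z.1 : Cfsg.IrrCharacter P) : P → ℂ)) h) x)
  have h1 := CfsgLib.Char.card_fixed_irr_eq_classes (fun g : P => g⁻¹) CfsgLib.Char.irr_comp_inv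
  have hmain : Nat.card (P ⧸ frattini P) ≤ Nat.card S + 1 := hlin.trans (h1.le.trans hcount)
  refine ⟨hmain, hmain.trans ?_⟩
  rw [← Finite.card_option]
  let T := Subgroup.closure {y : P | orderOf y = 2}
  refine Nat.card_le_card_of_injective (fun o : Option S => o.elim (1 : T) fun c => ⟨c.2.choose, Subgroup.subset_closure c.2.choose_spec.2⟩) ?_
  have hne : ∀ c : S, c.2.choose ≠ 1 := fun c h => by
    have := c.2.choose_spec.2
    rw [h, orderOf_one] at this
    exact absurd this (by norm_num)
  intro o o' h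
  rcases o with _ | c <;> rcases o' with _ | c'
  · rfl
  · exact absurd (congrArg Subtype.val h).symm (hne c')
  · exact absurd (congrArg Subtype.val h) (hne c)
  · have h2 : c.2.choose = c'.2.choose := congrArg Subtype.val h
    refine congrArg some (Subtype.ext ?_)
    rw [← c.2.choose_spec.1, h2, c'.2.choose_spec.1]

end Cfsg.Agent.S4029
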