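import Cfsg.Statements.S4032

import Cfsg.Agent.Solv.CoprimeAction

set_option autoImplicit false
set_option linter.style.haveILetI false
open Cfsg

namespace Cfsg.Agent.S4032

open scoped Pointwise

/-- Let π be a set of primes and G a finite group in which N_G(⟨x⟩) = C_G(x) for every π-element x. If N is a normal subgroup of G whose order is divisible by no prime of π, then G/N has the same property: N_{G/N}(⟨y⟩) = C_{G/N}(y) for every π-element y of G/N. -/
theorem result {G : Type*} [Group G] [Finite G] (π : Set ℕ)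
    (hirr : ∀ x : G, (∀ r : ℕ, r.Prime → r ∣ orderOf x → r ∈ π) →
      Subgroup.normalizer ((Subgroup.zpowers x : Subgroup G) : Set G) ≤ Subgroup.centralizer {x})
    (N : Subgroup G) [N.Normal] (hN : ∀ r : ℕ, r.Prime → r ∣ Nat.card N → r ∉ π) :
    ∀ y : G ⧸ N, (∀ r : ℕ, r.Prime → r ∣ orderOf y → r ∈ π) →
      Subgroup.normalizer ((Subgroup.zpowers y : Subgroup (G ⧸ N)) : Set (G ⧸ N)) ≤ Subgroup.centralizer {y} := by
  classical
  intro y hy g hg
  obtain ⟨x₀, rfl⟩ := QuotientGroup.mk'_surjective N y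
  obtain ⟨g, rfl⟩ := QuotientGroup.mk'_surjective N g
  set y := QuotientGroup.mk' N x₀ with hydef
  set m := Nat.card N
  have hcop : Nat.Coprime m (orderOf y) := by
    by_contra h
    obtain ⟨r, hr, h1, h2⟩ := Nat.Prime.not_coprime_iff_dvd.1 h
    exact hN r hr h1 (hy r hr h2)
  obtain ⟨b, hb⟩ : ∃ b : ℕ, y ^ (m * b) = y := by
    rcases Nat.lt_or_ge 1 (orderOf y) with h1 | h1
    · obtain ⟨b, -, hb⟩ := Nat.exists_mul_mod_eq_one_of_coprime (k := orderOf y) (n := m) hcop h1
      exact ⟨b, by rw [← pow_mod_orderOf, hb, pow_one]⟩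
    · have h2 : y = 1 := orderOf_eq_one_iff.1 (le_antisymm h1 (orderOf_pos y))
      exact ⟨0, by rw [h2, one_pow]⟩
  set x := x₀ ^ (m * b)
  have hxy : QuotientGroup.mk' N x = y := by rw [map_pow]; exact hb
  have hxd : orderOf x ∣ orderOf y := by
    refine orderOf_dvd_of_pow_eq_one ?_
    have h1 : x₀ ^ orderOf y ∈ N := (QuotientGroup.eq_one_iff _).1 (by
      show QuotientGroup.mk' N (x₀ ^ orderOf y) = 1
      rw [map_pow, pow_orderOf_eq_one])
    show (x₀ ^ (m * b)) ^ orderOf y = 1
    rw [← pow_mul, show m * b * orderOf y = orderOf y * (m * b) by ring, pow_mul, pow_mul]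
    have : (x₀ ^ orderOf y) ^ m = 1 := orderOf_dvd_iff_pow_eq_one.1 (Subgroup.orderOf_dvd_natCard N h1)
    rw [this, one_pow]
  have hxπ : ∀ r : ℕ, r.Prime → r ∣ orderOf x → r ∈ π := fun r hr hd => hy r hr (hd.trans hxd)
  set X := Subgroup.zpowers x
  have hXN : X ≤ Subgroup.normalizer (N : Set G) := by
    rw [Subgroup.normalizer_eq_top_iff.2 inferInstance]; exact le_top
  set Y := MulAut.conj g • X
  have hYN : Y ≤ Subgroup.normalizer (N : Set G) := by
    rw [Subgroup.normalizer_eq_top_iff.2 inferInstance]; exact le_top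
  have hcX : (Nat.card X).Coprime m := by
    rw [Nat.card_zpowers]; exact (hcop.coprime_dvd_right hxd).symm
  have hsup : X ⊔ N = Y ⊔ N := by
    have h1 : ∀ A : Subgroup G, A ⊔ N = (A.map (QuotientGroup.mk' N)).comap (QuotientGroup.mk' N) := fun A => by
      rw [Subgroup.comap_map_eq, QuotientGroup.ker_mk']
    rw [h1, h1]
    congr 1
    show (Subgroup.zpowers x).map _ = (Subgroup.map (MulAut.conj g).toMonoidHom (Subgroup.zpowers x)).map _
    rw [MonoidHom.map_zpowers, MonoidHom.map_zpowers, MonoidHom.map_zpowers]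
    have h2 := Subgroup.mem_normalizer_iff_map_conj_eq.1 hg
    rw [MonoidHom.map_zpowers] at h2
    show Subgroup.zpowers (QuotientGroup.mk' N x) = Subgroup.zpowers (QuotientGroup.mk' N (g * x * g⁻¹))
    rw [map_mul, map_mul, map_inv, hxy]
    exact h2.symm
  obtain ⟨k, hk, hkX⟩ := CfsgLib.Solv.conj_complement_in_sup' hXN hYN hsup hcX
    (by show (Nat.card ↥(MulAut.conj g • X)).Coprime _; rw [CfsgLib.Solv.card_conj_smul]; exact hcX) (Or.inr inferInstance)
  have hn : k⁻¹ * g ∈ Subgroup.normalizer (X : Set G) := by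
    refine CfsgLib.Solv.mem_normalizer_of_conj_smul_eq ?_
    rw [map_mul, mul_smul, map_inv, inv_smul_eq_iff]
    exact hkX.symm
  have hc := Subgroup.mem_centralizer_singleton_iff.1 (hirr x hxπ hn)
  have h3 := congrArg (QuotientGroup.mk' N) hc
  simp only [map_mul, map_inv, hxy] at h3
  have hky : Commute (QuotientGroup.mk' N k) y := by
    have : QuotientGroup.mk' N k ∈ Subgroup.zpowers y := by
      have h4 : QuotientGroup.mk' N k ∈ (X ⊔ N).map (QuotientGroup.mk' N) := Subgroup.mem_map_of_mem _ hk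
      rw [Subgroup.map_sup, MonoidHom.map_zpowers, hxy, (Subgroup.map_eq_bot_iff N).2 (by rw [QuotientGroup.ker_mk']), sup_bot_eq] at h4
      exact h4
    obtain ⟨j, hj⟩ := this
    rw [← hj]; exact Commute.zpow_self y j
  rw [Subgroup.mem_centralizer_singleton_iff]
  calc QuotientGroup.mk' N g * y = QuotientGroup.mk' N k * ((QuotientGroup.mk' N k)⁻¹ * QuotientGroup.mk' N g * y) := by group
    _ = QuotientGroup.mk' N k * y * (QuotientGroup.mk' N k)⁻¹ * QuotientGroup.mk' N g := by rw [h3]; group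
    _ = y * QuotientGroup.mk' N g := by rw [hky.eq]; group

end Cfsg.Agent.S4032
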