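import Cfsg.Statements.S4034
import Cfsg.Agent.Perm.ClassSize
import Cfsg.Agent.Perm.Basic
import Cfsg.Agent.Solv.Hall
import Cfsg.Agent.Solv.FittingBasic
import Cfsg.Agent.Char.Burnside

set_option autoImplicit false
set_option linter.style.haveILetI false
open Cfsg

namespace Cfsg.Agent.S4034

--- pre
open CfsgLib.Perm CfsgLib.Solv

/-- Elements of order prime to `p` have conjugacy classes of `p`-power size. -/
def Pow (p : ℕ) (G : Type*) [Group G] : Prop :=
  ∀ x : G, (orderOf x).Coprime p → ∃ k : ℕ, (Subgroup.centralizer ({x} : Set G)).index = p ^ k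

theorem relIndex_dvd_index' {G : Type*} [Group G] [Finite G] (K A : Subgroup G) [A.Normal] :
    K.relIndex A ∣ K.index := by
  rw [← relIndex_sup_eq_of_normal K A]
  exact Dvd.intro _ (Subgroup.relIndex_mul_index (le_sup_left : K ≤ K ⊔ A))

theorem pow_normal {G : Type*} [Group G] [Finite G] {p : ℕ} (hp : p.Prime) (h : Pow p G)
    (N : Subgroup G) [N.Normal] : Pow p N := by
  intro x hx
  obtain ⟨k, hk⟩ := h x (by rwa [Subgroup.orderOf_coe])
  have he : Subgroup.centralizer ({x} : Set N) =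
      (Subgroup.centralizer ({(x : G)} : Set G)).subgroupOf N := by
    ext y
    simp [Subgroup.mem_subgroupOf, Subgroup.mem_centralizer_singleton_iff, Subtype.ext_iff]
  have h1 : (Subgroup.centralizer ({x} : Set N)).index ∣ p ^ k := by
    rw [he, ← hk]
    exact relIndex_dvd_index' _ N
  obtain ⟨j, -, hj⟩ := (Nat.dvd_prime_pow hp).1 h1
  exact ⟨j, hj⟩

theorem exists_lift {G : Type*} [Group G] [Finite G] {p : ℕ} (hp : p.Prime) (N : Subgroup G)
    [N.Normal] (y : G ⧸ N) (hy : (orderOf y).Coprime p) :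
    ∃ x : G, (x : G ⧸ N) = y ∧ (orderOf x).Coprime p := by
  obtain ⟨x, rfl⟩ := QuotientGroup.mk_surjective y
  obtain ⟨a, m, hm, ham⟩ := Nat.exists_eq_pow_mul_and_not_dvd (orderOf_pos x).ne' p hp.ne_one
  obtain ⟨j, hj⟩ := exists_pow_eq_self_of_coprime (n := p ^ a) (x := (x : G ⧸ N))
    (Nat.Coprime.pow_left a hy.symm)
  refine ⟨(x ^ p ^ a) ^ j, by simpa using hj, ?_⟩
  have h1 : orderOf ((x ^ p ^ a) ^ j) ∣ m := orderOf_dvd_of_pow_eq_one (by
    rw [← pow_mul, ← pow_mul, mul_comm j m, ← mul_assoc, pow_mul, ← ham, pow_orderOf_eq_one,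
      one_pow])
  exact Nat.Coprime.of_dvd_left h1 (hp.coprime_iff_not_dvd.2 hm).symm

theorem pow_quotient {G : Type*} [Group G] [Finite G] {p : ℕ} (hp : p.Prime) (h : Pow p G)
    (N : Subgroup G) [N.Normal] : Pow p (G ⧸ N) := by
  intro y hy
  obtain ⟨x, rfl, hx⟩ := exists_lift hp N y hy
  obtain ⟨k, hk⟩ := h x hx
  have h1 : (Subgroup.centralizer ({(x : G)} : Set G)).map (QuotientGroup.mk' N) ≤
      Subgroup.centralizer ({(x : G ⧸ N)} : Set (G ⧸ N)) := by
    rintro _ ⟨z, hz, rfl⟩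
    exact Subgroup.mem_centralizer_singleton_iff.2
      (congrArg (QuotientGroup.mk' N) (Subgroup.mem_centralizer_singleton_iff.1 hz))
  have h2 : (Subgroup.centralizer ({(x : G ⧸ N)} : Set (G ⧸ N))).index ∣ p ^ k :=
    (Subgroup.index_dvd_of_le h1).trans
      (hk ▸ Subgroup.index_map_dvd _ (QuotientGroup.mk'_surjective N))
  obtain ⟨j, -, hj⟩ := (Nat.dvd_prime_pow hp).1 h2
  exact ⟨j, hj⟩

universe u in
theorem solvable_of_pow {p : ℕ} (hp : p.Prime) : ∀ n : ℕ, ∀ (G : Type u) [Group G] [Finite G],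
    Nat.card G = n → Pow p G → Group.IsSolvable G := by
  intro n
  induction n using Nat.strong_induction_on with
  | _ n ih =>
    intro G _ _ hn h
    by_cases hG : ∀ N : Subgroup G, N.Normal → N = ⊥ ∨ N = ⊤
    · haveI : Fact p.Prime := ⟨hp⟩
      rcases subsingleton_or_nontrivial G with hs | hs
      · exact Group.isSolvable_of_comm fun x y => Subsingleton.elim _ _
      haveI : IsSimpleGroup G := { eq_bot_or_eq_top_of_normal := hG }
      by_cases hx : ∃ x : G, x ≠ 1 ∧ (orderOf x).Coprime p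
      · obtain ⟨x, hx1, hx2⟩ := hx
        obtain ⟨k, hk⟩ := h x hx2
        haveI : Fact (Nat.card G).Prime :=
          ⟨CfsgLib.Char.prime_card_of_class_prime_pow p k hp x hx1 hk⟩
        haveI := isCyclic_of_prime_card (α := G) (p := Nat.card G) rfl
        exact Group.isSolvable_of_comm fun x y => IsCyclic.commGroup.mul_comm x y
      · have hP : IsPGroup p G := by
          intro x
          obtain ⟨a, m, hm, ham⟩ :=
            Nat.exists_eq_pow_mul_and_not_dvd (orderOf_pos x).ne' p hp.ne_one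
          refine ⟨a, ?_⟩
          by_contra h1
          refine hx ⟨x ^ p ^ a, h1, Nat.Coprime.of_dvd_left ?_ (hp.coprime_iff_not_dvd.2 hm).symm⟩
          exact orderOf_dvd_of_pow_eq_one (by rw [← pow_mul, ← ham, pow_orderOf_eq_one])
        haveI := hP.isNilpotent
        infer_instance
    · push Not at hG
      obtain ⟨N, hN, h1, h2⟩ := hG
      haveI := ih _ (hn ▸ card_lt_of_ne_top h2) N rfl (pow_normal hp h N)
      haveI := ih _ (hn ▸ card_quotient_lt h1) (G ⧸ N) rfl (pow_quotient hp h N)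
      exact Group.isSolvable_of_ker_le_range N.subtype (QuotientGroup.mk' N) (by simp)

/-- If `O_p(G) = 1` the elements of order prime to `p` commute with each other. -/
theorem commute_of_pow {G : Type*} [Group G] [Finite G] [Group.IsSolvable G] {p : ℕ}
    [hp : Fact p.Prime] (h : Pow p G) (hO : Cfsg.pCore p G = ⊥) (x y : G)
    (hx : (orderOf x).Coprime p) (hy : (orderOf y).Coprime p) : x * y = y * x := by
  haveI := CfsgLib.Solv.pPrimeCore_normal G p
  have hc : ∀ x : G, (orderOf x).Coprime p →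
      Cfsg.pPrimeCore p G ≤ Subgroup.centralizer ({x} : Set G) := by
    intro x hx
    obtain ⟨k, hk⟩ := h x hx
    rw [← Subgroup.relIndex_eq_one]
    refine Nat.eq_one_of_dvd_coprimes ((pPrimeCore_coprime G p).symm.pow_left k) ?_
      (Subgroup.relIndex_dvd_card _ _)
    exact hk ▸ relIndex_dvd_index' _ _
  have hF : Cfsg.fittingSubgroup G ≤ Cfsg.pPrimeCore p G := by
    rw [fittingSubgroup_eq_iSup_pCore]
    refine iSup_le fun q => ?_
    by_cases hq : (q : ℕ) = p
    · rw [hq, hO]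
      exact bot_le
    · haveI := Fact.mk q.2
      haveI := CfsgLib.Solv.pCore_normal G (q : ℕ)
      refine le_pPrimeCore ?_
      obtain ⟨n, hn⟩ := IsPGroup.iff_card.1 (pCore_isPGroup G (q : ℕ))
      rw [hn]
      exact Nat.Coprime.pow_left n ((Nat.coprime_primes q.2 hp.out).2 hq)
  have hmem : x ∈ Cfsg.pPrimeCore p G := by
    refine hF (centralizer_fittingSubgroup_le (Subgroup.mem_centralizer_iff.2 fun f hf => ?_))
    exact Subgroup.mem_centralizer_singleton_iff.1 (hc x hx (hF hf))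
  exact Subgroup.mem_centralizer_singleton_iff.1 (hc y hy hmem)

/-- An element of order prime to `p` is conjugate into an abelian `p`-complement. -/
theorem conj_mem_complement {G : Type*} [Group G] [Finite G] {p k : ℕ} (hp : p.Prime)
    {H : Subgroup G} (hab : ∀ a ∈ H, ∀ b ∈ H, a * b = b * a) (hH : H.index = p ^ k) :
    ∀ n : ℕ, ∀ K : Subgroup G, H ≤ K → ∀ x ∈ K, orderOf x = n → n.Coprime p →
      ∃ c ∈ K, c * x * c⁻¹ ∈ H := by
  intro n
  induction n using Nat.strong_induction_on with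
  | _ n ih =>
    intro K hK x hxK hn hcop
    rcases eq_or_ne n 1 with h1 | h1
    · exact ⟨1, one_mem K, by simp [orderOf_eq_one_iff.1 (hn.trans h1)]⟩
    have hn0 : n ≠ 0 := hn ▸ (orderOf_pos x).ne'
    obtain ⟨q, hq, hqn⟩ := Nat.exists_prime_and_dvd h1
    haveI : Fact q.Prime := ⟨hq⟩
    have hqp : q ≠ p := fun e => hp.ne_one
      (Nat.dvd_one.1 (hcop ▸ Nat.dvd_gcd (e ▸ hqn) dvd_rfl))
    obtain ⟨a, m, hm, ham⟩ := Nat.exists_eq_pow_mul_and_not_dvd hn0 q hq.ne_one
    have ha : a ≠ 0 := by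
      rintro rfl
      rw [pow_zero, one_mul] at ham
      exact hm (ham ▸ hqn)
    have hmlt : m < n := by
      have hm0 : 0 < m := Nat.pos_of_ne_zero fun e => hn0 (by rw [ham, e, mul_zero])
      calc m = 1 * m := (one_mul m).symm
        _ < q ^ a * m := Nat.mul_lt_mul_of_pos_right (Nat.one_lt_pow ha hq.one_lt) hm0
        _ = n := ham.symm
    have hg : ((q ^ a).gcd m : ℤ) = 1 := by
      exact_mod_cast (hq.coprime_iff_not_dvd.2 hm).pow_left a
    rw [Nat.gcd_eq_gcd_ab] at hg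
    set y := x ^ ((m : ℤ) * Nat.gcdB (q ^ a) m) with hy
    set z := x ^ (((q ^ a : ℕ) : ℤ) * Nat.gcdA (q ^ a) m) with hz
    have hxyz : x = y * z := by
      rw [hy, hz, ← zpow_add, add_comm, hg, zpow_one]
    have hx1 : x ^ ((n : ℕ) : ℤ) = 1 := by rw [zpow_natCast, ← hn, pow_orderOf_eq_one]
    have hyo : y ^ q ^ a = 1 := by
      rw [hy, ← zpow_natCast, ← zpow_mul,
        show (m : ℤ) * Nat.gcdB (q ^ a) m * ((q ^ a : ℕ) : ℤ) = (n : ℤ) * Nat.gcdB (q ^ a) m by
          rw [ham]; push_cast; ring, zpow_mul, hx1, one_zpow]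
    have hzo : z ^ m = 1 := by
      rw [hz, ← zpow_natCast, ← zpow_mul,
        show ((q ^ a : ℕ) : ℤ) * Nat.gcdA (q ^ a) m * (m : ℤ) = (n : ℤ) * Nat.gcdA (q ^ a) m by
          rw [ham]; push_cast; ring, zpow_mul, hx1, one_zpow]
    have hyK : y ∈ K := K.zpow_mem hxK _
    have hzK : z ∈ K := K.zpow_mem hxK _
    -- move `y` into `H`
    have h2 : orderOf (⟨y, hyK⟩ : K) ∣ q ^ a := orderOf_dvd_of_pow_eq_one (Subtype.ext hyo)
    obtain ⟨b, -, hb⟩ := (Nat.dvd_prime_pow hq).1 h2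
    obtain ⟨Q₁, hQ₁⟩ := (IsPGroup.of_card (p := q) (n := b)
      (G := Subgroup.zpowers (⟨y, hyK⟩ : K)) (by rw [Nat.card_zpowers, hb])).exists_le_sylow
    have hidx : ¬ q ∣ (H.subgroupOf K).index := fun h2 =>
      hqp ((Nat.prime_dvd_prime_iff_eq hq hp).1 (hq.dvd_of_dvd_pow
        (hH ▸ h2.trans (Subgroup.relIndex_dvd_index_of_le hK))))
    obtain ⟨Q₀, -, hQ₀⟩ := exists_sylow_between hidx IsPGroup.of_bot bot_le
    obtain ⟨c, hc⟩ := MulAction.exists_smul_eq K Q₁ Q₀
    have hcy : (c : G) * y * (c : G)⁻¹ ∈ H := by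
      have h2 : c * (⟨y, hyK⟩ : K) * c⁻¹ ∈ (Q₀ : Subgroup K) := by
        rw [← hc]
        exact ⟨⟨y, hyK⟩, hQ₁ (Subgroup.mem_zpowers _), rfl⟩
      exact hQ₀ h2
    set y' := (c : G) * y * (c : G)⁻¹ with hy'
    set z' := (c : G) * z * (c : G)⁻¹ with hz'
    have hcomm : z' * y' = y' * z' := by
      have : z * y = y * z := by rw [hy, hz, ← zpow_add, ← zpow_add, add_comm]
      rw [hy', hz']
      simp only [mul_assoc, inv_mul_cancel_left]
      rw [← mul_assoc z, this, mul_assoc]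
    have hK' : H ≤ K ⊓ Subgroup.centralizer ({y'} : Set G) := fun h hh =>
      ⟨hK hh, Subgroup.mem_centralizer_singleton_iff.2 (hab h hh y' hcy)⟩
    have hz'K : z' ∈ K ⊓ Subgroup.centralizer ({y'} : Set G) :=
      ⟨K.mul_mem (K.mul_mem c.2 hzK) (K.inv_mem c.2),
        Subgroup.mem_centralizer_singleton_iff.2 hcomm⟩
    have hz'o : orderOf z' ∣ m := orderOf_dvd_of_pow_eq_one (by
      rw [hz', conj_pow, hzo, mul_one, mul_inv_cancel])
    obtain ⟨d, hd, hdz⟩ := ih (orderOf z')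
      (lt_of_le_of_lt (Nat.le_of_dvd (Nat.pos_of_ne_zero fun e => hn0 (by
        rw [ham, e, mul_zero])) hz'o) hmlt) _ hK' z' hz'K rfl
      (Nat.Coprime.of_dvd_left (hz'o.trans (ham ▸ dvd_mul_left m _)) hcop)
    refine ⟨d * c, K.mul_mem hd.1 c.2, ?_⟩
    have hdy : d * y' * d⁻¹ = y' := by
      rw [Subgroup.mem_centralizer_singleton_iff.1 hd.2, mul_inv_cancel_right]
    have : d * (c : G) * x * (d * (c : G))⁻¹ = (d * y' * d⁻¹) * (d * z' * d⁻¹) := by
      rw [hxyz, hy', hz']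
      group
    rw [this, hdy]
    exact H.mul_mem hcy hdz

/-- Let G be a finite group and p a prime. Every conjugacy class of p-regular elements of G (elements of order prime to p) has p-power size if and only if G has an abelian p-complement, i.e. an abelian subgroup of order prime to p and p-power index. -/
theorem result {G : Type*} [Group G] [Finite G] {p : ℕ} (hp : p.Prime) :
    (∀ x : G, (orderOf x).Coprime p → ∃ k : ℕ, (ConjClasses.mk x).carrier.ncard = p ^ k) ↔
    (∃ H : Subgroup G, IsMulCommutative H ∧ ¬ p ∣ Nat.card H ∧ ∃ k : ℕ, H.index = p ^ k) := by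
  haveI : Fact p.Prime := ⟨hp⟩
  constructor
  · intro h
    have hP : Pow p G := fun x hx => by
      obtain ⟨k, hk⟩ := h x hx
      exact ⟨k, (ncard_carrier_eq_index x).symm.trans hk⟩
    haveI := solvable_of_pow hp _ G rfl hP
    obtain ⟨H, hH1, hH2⟩ := exists_hall (G := G) (PiSolvable.of_isSolvable ({p}ᶜ : Set ℕ))
    have hpH : ¬ p ∣ Nat.card H := fun h1 => hH1 p hp h1 rfl
    refine ⟨H, ⟨⟨fun a b => ?_⟩⟩, hpH, ?_⟩
    · haveI := CfsgLib.Solv.pCore_normal G p
      haveI := Group.isSolvable_of_surjective (f := QuotientGroup.mk' (Cfsg.pCore p G))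
        (QuotientGroup.mk'_surjective _)
      have hcop : ∀ a : H, (orderOf (a : G)).Coprime p := fun a => by
        rw [Subgroup.orderOf_coe]
        exact Nat.Coprime.of_dvd_left (orderOf_dvd_natCard a)
          (hp.coprime_iff_not_dvd.2 hpH).symm
      have h1 := commute_of_pow (pow_quotient hp hP (Cfsg.pCore p G)) pCore_quotient_self
        ((a : G) : G ⧸ Cfsg.pCore p G) ((b : G) : G ⧸ Cfsg.pCore p G)
        (Nat.Coprime.of_dvd_left (orderOf_map_dvd (QuotientGroup.mk' _) (a : G)) (hcop a))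
        (Nat.Coprime.of_dvd_left (orderOf_map_dvd (QuotientGroup.mk' _) (b : G)) (hcop b))
      have h2 : ((b : G) * a)⁻¹ * ((a : G) * b) ∈ Cfsg.pCore p G := by
        rw [← QuotientGroup.eq]
        simpa using h1.symm
      have h3 : ((b : G) * a)⁻¹ * ((a : G) * b) ∈ H :=
        H.mul_mem (H.inv_mem (H.mul_mem b.2 a.2)) (H.mul_mem a.2 b.2)
      have h4 : H ⊓ Cfsg.pCore p G = ⊥ := by
        refine Subgroup.inf_eq_bot_of_coprime ?_
        obtain ⟨j, hj⟩ := IsPGroup.iff_card.1 (pCore_isPGroup G p)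
        rw [hj]
        exact (hp.coprime_iff_not_dvd.2 hpH).symm.pow_right j
      have h5 := h4.le ⟨h3, h2⟩
      rw [Subgroup.mem_bot, inv_mul_eq_one] at h5
      exact Subtype.ext h5.symm
    · exact ⟨_, Nat.eq_prime_pow_of_unique_prime_dvd H.index_ne_zero_of_finite
        fun {q} hq hqd => by simpa using hH2 q hq hqd⟩
  · rintro ⟨H, hab, hpH, k, hk⟩ x hx
    have hab' : ∀ a ∈ H, ∀ b ∈ H, a * b = b * a := fun a ha b hb =>
      congrArg Subtype.val (hab.is_comm.comm ⟨a, ha⟩ ⟨b, hb⟩)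
    obtain ⟨c, -, hc⟩ := conj_mem_complement hp hab' hk _ ⊤ le_top x trivial rfl hx
    rw [show ConjClasses.mk x = ConjClasses.mk (c * x * c⁻¹) from
      ConjClasses.mk_eq_mk_iff_isConj.2 (isConj_iff.2 ⟨c, rfl⟩), ncard_carrier_eq_index]
    have h1 : (Subgroup.centralizer ({c * x * c⁻¹} : Set G)).index ∣ p ^ k :=
      hk ▸ Subgroup.index_dvd_of_le fun h hh =>
        Subgroup.mem_centralizer_singleton_iff.2 (hab' h hh _ hc)
    obtain ⟨j, -, hj⟩ := (Nat.dvd_prime_pow hp).1 h1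
    exact ⟨j, hj⟩

end Cfsg.Agent.S4034
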