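import Cfsg.Statements.S4036


set_option autoImplicit false
set_option linter.style.haveILetI false
open Cfsg

namespace Cfsg.Agent.S4036

/-- Let P be a finite abelian p-group and K a group of automorphisms of P (a subgroup of Aut P) whose order is divisible by p. If all non-identity elements of K have the same fixed-point subgroup on P, then K has no non-trivial normal subgroup of order prime to p. -/
theorem result {P : Type*} [CommGroup P] [Finite P] {p : ℕ}
    [Fact p.Prime] (hP : IsPGroup p P) (K : Subgroup (MulAut P)) (hK : p ∣ Nat.card K)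
    (hfix : ∀ x y : MulAut P, x ∈ K → y ∈ K → x ≠ 1 → y ≠ 1 → ∀ v : P, x v = v ↔ y v = v) :
    ∀ N : Subgroup ↥K, N.Normal → ¬ p ∣ Nat.card N → N = ⊥ := by
  intro N hN hNp
  have hfix0 := hfix
  haveI := hN
  haveI := Fintype.ofFinite ↥N
  obtain ⟨a, ha⟩ := exists_prime_orderOf_dvd_card' (G := K) p hK
  have ha1 : ((a : K) : MulAut P) ≠ 1 := by
    intro e
    have : a = 1 := Subtype.ext e
    rw [this, orderOf_one] at ha
    exact (Fact.out : p.Prime).one_lt.ne ha
  rw [eq_bot_iff]
  intro m hm
  by_contra hm1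
  have hm1' : ((m : K) : MulAut P) ≠ 1 := fun e => hm1 (Subgroup.mem_bot.2 (Subtype.ext e))
  let φ : P →* P :=
    { toFun := fun v => ∏ n : N, ((n : K) : MulAut P) v
      map_one' := by simp
      map_mul' := fun v w => by simp [Finset.prod_mul_distrib] }
  have hfix : ∀ v, ((m : K) : MulAut P) (φ v) = φ v := by
    intro v
    show ((m : K) : MulAut P) (∏ n : N, ((n : K) : MulAut P) v) = ∏ n : N, ((n : K) : MulAut P) v
    rw [map_prod]
    refine Fintype.prod_equiv (Equiv.mulLeft (⟨m, hm⟩ : N)) _ _ fun n => ?_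
    simp
  have hkera : ∀ v, v ∈ φ.ker → ((a : K) : MulAut P) v ∈ φ.ker := by
    intro v hv
    rw [MonoidHom.mem_ker] at hv ⊢
    have h1 := congrArg (fun w => ((a : K) : MulAut P) w) hv
    simp only [map_one] at h1
    rw [← h1]
    show _ = ((a : K) : MulAut P) (∏ n : N, ((n : K) : MulAut P) v)
    rw [map_prod]
    show ∏ n : N, ((n : K) : MulAut P) (((a : K) : MulAut P) v) = _
    refine Fintype.prod_equiv (MulAut.conjNormal (a⁻¹ : K) : MulAut N).toEquiv _ _ fun n => ?_
    simp [MulAut.conjNormal_apply, mul_assoc]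
  -- `φ` is not injective
  have hne : φ.ker ≠ ⊥ := by
    intro e
    have hs : Function.Surjective φ :=
      Finite.injective_iff_surjective.1 ((MonoidHom.ker_eq_bot_iff φ).1 e)
    refine hm1' (MulEquiv.ext fun v => ?_)
    obtain ⟨w, rfl⟩ := hs v
    rw [MulAut.one_apply, hfix]
  -- `a` fixes a non-trivial element of the kernel
  have hA : IsPGroup p (Subgroup.zpowers a) := IsPGroup.of_card (n := 1) (by rw [Nat.card_zpowers, ha, pow_one])
  let S : Type _ := φ.ker
  have hinv : ∀ b ∈ Subgroup.zpowers a, ∀ v, v ∈ φ.ker → ((b : K) : MulAut P) v ∈ φ.ker := by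
    intro b hb
    obtain ⟨j, rfl⟩ := (isOfFinOrder_of_finite a).mem_powers_iff_mem_zpowers.2 hb
    induction j with
    | zero => intro v hv; simpa using hv
    | succ j ih =>
      intro v hv
      have := ih (pow_mem (Subgroup.mem_zpowers a) j) _ (hkera v hv)
      simpa [pow_succ] using this
  letI : MulAction (Subgroup.zpowers a) φ.ker :=
    { smul := fun b v => ⟨((b : K) : MulAut P) v, hinv b b.2 v v.2⟩
      one_smul := fun v => Subtype.ext (by
        show (((1 : Subgroup.zpowers a) : K) : MulAut P) (v : P) = v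
        simp)
      mul_smul := fun b c v => Subtype.ext (by
        show (((b * c : Subgroup.zpowers a) : K) : MulAut P) (v : P) = _
        simp only [Subgroup.coe_mul, MulAut.mul_apply]
        rfl) }
  have hd : p ∣ Nat.card φ.ker := by
    obtain ⟨k, hk⟩ := IsPGroup.iff_card.1 (hP.to_subgroup φ.ker)
    rcases Nat.eq_zero_or_pos k with rfl | h0
    · rw [pow_zero, Subgroup.card_eq_one] at hk
      exact absurd hk hne
    · exact hk ▸ dvd_pow_self p h0.ne'
  obtain ⟨w, hw, hw1⟩ := hA.exists_fixed_point_of_prime_dvd_card_of_fixed_point φ.ker hd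
    (a := 1) (fun b => Subtype.ext (map_one _))
  have hwa : ((a : K) : MulAut P) w = w :=
    congrArg Subtype.val (hw ⟨a, Subgroup.mem_zpowers a⟩)
  have hwn : ∀ n : N, ((n : K) : MulAut P) w = w := by
    intro n
    by_cases hn : ((n : K) : MulAut P) = 1
    · rw [hn, MulAut.one_apply]
    · exact (hfix0 _ _ (a : K).2 (n : K).2 ha1 hn w).1 hwa
  have h1 : (w : P) ^ Nat.card N = 1 := by
    have := MonoidHom.mem_ker.1 w.2
    change ∏ n : N, ((n : K) : MulAut P) (w : P) = 1 at this
    simpa [hwn, Nat.card_eq_fintype_card] using this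
  obtain ⟨k, hk⟩ := hP (w : P)
  refine hw1 (Subtype.ext ?_)
  show (1 : P) = w
  have h2 : orderOf (w : P) = 1 := Nat.eq_one_of_dvd_coprimes
    ((((Fact.out : p.Prime).coprime_iff_not_dvd.2 hNp)).pow_left k)
    (orderOf_dvd_of_pow_eq_one hk) (orderOf_dvd_of_pow_eq_one h1)
  exact (orderOf_eq_one_iff.1 h2).symm

end Cfsg.Agent.S4036
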