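import Cfsg.Statements.S4039

import Cfsg.Agent.Solv.CoprimeSylow
import Cfsg.Agent.Solv.MinNonNilp
import Cfsg.Agent.Solv.PComplement
import Cfsg.Agent.Solv.SylowFactor

set_option autoImplicit false
set_option linter.style.haveILetI false
open Cfsg

namespace Cfsg.Agent.S4039

open scoped commutatorElement

/-- In a nilpotent subgroup elements of order prime to `p` centralize `p`-subgroups. -/
theorem centralizes {G : Type*} [Group G] [Finite G] {p : ℕ} (hp : p.Prime) {N Q X : Subgroup G}
    (hN : Group.IsNilpotent N) (hQ : IsPGroup p Q) (hQN : Q ≤ N) (hXN : X ≤ N) (hX : ¬ p ∣ Nat.card X) :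
    X ≤ Subgroup.centralizer (Q : Set G) := by
  refine CfsgLib.Solv.le_of_forall_prime_power fun q hq hqX y hy ⟨b, hb⟩ => ?_
  have hqp : q ≠ p := fun e => hX (e ▸ hqX)
  haveI : Fact q.Prime := ⟨hq⟩
  have hy' : IsPGroup q ↥(Subgroup.zpowers y) := IsPGroup.of_card (n := b) (by rw [Nat.card_zpowers, hb])
  have h := CfsgLib.Solv.commute_of_isNilpotent hN hq hp hqp
    (hy'.comap_of_injective N.subtype N.subtype_injective) (hQ.comap_of_injective N.subtype N.subtype_injective)
    (show (⟨y, hXN hy⟩ : N) ∈ (Subgroup.zpowers y).comap N.subtype from Subgroup.mem_zpowers y)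
  rw [Subgroup.mem_centralizer_iff]
  intro z hz
  exact congrArg Subtype.val (Subgroup.mem_centralizer_iff.1 h ⟨z, hQN hz⟩ hz)

/-- Commutators are central in a group of class at most two. -/
theorem class_two {M : Type*} [Group M] [Group.IsNilpotent M] (h : Group.nilpotencyClass M ≤ 2) (x y z : M) :
    z * ⁅x, y⁆ = ⁅x, y⁆ * z := by
  have h2 : (⊤ : Subgroup M).lowerCentralSeries 2 = ⊥ :=
    le_bot_iff.1 ((Subgroup.lowerCentralSeries_antitone (⊤) h).trans_eq Subgroup.lowerCentralSeries_nilpotencyClass)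
  have hxy : ⁅x, y⁆ ∈ (⊤ : Subgroup M).lowerCentralSeries 1 := by
    rw [Subgroup.lowerCentralSeries_succ, Subgroup.lowerCentralSeries_zero]
    exact Subgroup.commutator_mem_commutator (Subgroup.mem_top x) (Subgroup.mem_top y)
  have h3 : ⁅⁅x, y⁆, z⁆ ∈ (⊤ : Subgroup M).lowerCentralSeries 2 := by
    rw [Subgroup.lowerCentralSeries_succ]
    exact Subgroup.commutator_mem_commutator hxy (Subgroup.mem_top z)
  rw [h2, Subgroup.mem_bot, commutatorElement_eq_one_iff_mul_comm] at h3
  exact h3.symm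

/-- The key fusion argument. -/
theorem hnpc_key {G : Type*} [Group G] [Finite G] (p : ℕ) [Fact p.Prime] (M : Subgroup G) (hmax : IsCoatom M)
    (hnil : Group.IsNilpotent M) (hcl : Group.nilpotencyClass ↥M ≤ 2) (hcore : M.normalCore = ⊥) (hpM : p ∣ Nat.card M) :
    Cfsg.HasNormalPComplement p G := by
  classical
  have hp := (Fact.out : p.Prime)
  haveI := hnil
  obtain ⟨P₀⟩ : Nonempty (Sylow p M) := inferInstance
  haveI : (P₀ : Subgroup M).Normal := inferInstance
  set P₁ := (P₀ : Subgroup M).map M.subtype with hP₁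
  have hP₁M : P₁ ≤ M := Subgroup.map_subtype_le _
  have hP₁n : M ≤ Subgroup.normalizer (P₁ : Set G) := by
    intro m hm
    rw [Subgroup.mem_normalizer_iff_map_conj_eq]
    have := Subgroup.mem_normalizer_iff_map_conj_eq.1
      (show (⟨m, hm⟩ : M) ∈ Subgroup.normalizer ((P₀ : Subgroup M) : Set M) by
        rw [Subgroup.normalizer_eq_top_iff.2 inferInstance]; trivial)
    rw [hP₁, Subgroup.map_map]
    conv_rhs => rw [← this, Subgroup.map_map]
    rfl
  have hPne : P₁ ≠ ⊥ := by
    intro h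
    have := Sylow.ne_bot_of_dvd_card P₀ hpM
    exact this ((Subgroup.map_eq_bot_iff_of_injective _ M.subtype_injective).1 h)
  have hnn : ∀ E : Subgroup G, E ≤ M → E.Normal → E = ⊥ := fun E hEM hE => by
    haveI := hE
    exact le_bot_iff.1 (hcore ▸ (Subgroup.normal_le_normalCore.2 hEM))
  have hNP : Subgroup.normalizer (P₁ : Set G) = M := by
    rcases hmax.le_iff.1 hP₁n with h | h
    · exact absurd (hnn P₁ hP₁M (Subgroup.normalizer_eq_top_iff.1 h)) hPne
    · exact h
  obtain ⟨P, hP⟩ := CfsgLib.Solv.exists_sylow_eq_of_normalizer (p := p) (U := P₁) (P₀.2.map _) (fun R hR hle hRN => by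
    rw [hNP] at hRN
    refine le_antisymm ?_ hle
    have h1 : R.subgroupOf M = P₀ := P₀.3 (hR.comap_of_injective M.subtype M.subtype_injective) (fun x hx => hle ⟨x, hx, rfl⟩)
    intro x hx
    exact ⟨⟨x, hRN hx⟩, h1.le hx, rfl⟩)
  refine CfsgLib.Solv.hnpc_iff_frobCond.2 fun Q hQ g hg hco => ?_
  by_cases hQ1 : Q = ⊥
  · subst hQ1
    rw [Subgroup.mem_centralizer_iff]
    intro x hx
    rw [Subgroup.mem_bot.1 hx, one_mul, mul_one]
  set W := Subgroup.normalizer (Q : Set G) with hW
  set C := Subgroup.centralizer (Q : Set G) with hC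
  have hQW : Q ≤ W := Subgroup.le_normalizer
  -- a conjugate of `P` meeting `W` in a Sylow subgroup
  obtain ⟨R⟩ : Nonempty (Sylow p W) := inferInstance
  obtain ⟨S, hS⟩ := (R.2.map W.subtype).exists_le_sylow
  obtain ⟨c, hc⟩ := MulAction.exists_smul_eq G P S
  set M' := M.map (MulAut.conj c).toMonoidHom
  have hSe : (S : Subgroup G) = P₁.map (MulAut.conj c).toMonoidHom := by
    rw [← hc, Sylow.coe_subgroup_smul, hP]; rfl
  have hSM : (S : Subgroup G) ≤ M' := hSe ▸ Subgroup.map_mono hP₁M
  haveI : Group.IsNilpotent M' := Group.nilpotent_of_mulEquiv (M.equivMapOfInjective _ (MulAut.conj c).injective)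
  haveI : (Q.comap W.subtype).Normal := Subgroup.normal_in_normalizer
  have hQR : Q.comap W.subtype ≤ R := (hQ.comap_of_injective W.subtype W.subtype_injective).le_sylow_of_normal R
  have hQS : Q ≤ S := fun x hx => hS ⟨⟨x, hQW hx⟩, hQR hx, rfl⟩
  -- a Sylow subgroup of the centralizer
  haveI hCn : (C.subgroupOf W).Normal := by
    rw [hC, hW, ← Subgroup.normalizerMonoidHom_ker]; infer_instance
  have hZ : ∀ z ∈ (S : Subgroup G), (∀ s ∈ (S : Subgroup G), s * z = z * s) → ∃ h : z ∈ W, (⟨z, h⟩ : W) ∈ (R : Subgroup W) ⊓ C.subgroupOf W := by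
    intro z hzS hz
    have hzC : z ∈ C := Subgroup.mem_centralizer_iff.2 fun q hq => hz q (hQS hq)
    have hzW : z ∈ W := Subgroup.centralizer_le_normalizer _ hzC
    refine ⟨hzW, ?_, hzC⟩
    have h1 : IsPGroup p ↥(((S : Subgroup G)).subgroupOf W) := S.2.comap_of_injective W.subtype W.subtype_injective
    have h2 : (R : Subgroup W) ≤ ((S : Subgroup G)).subgroupOf W := fun x hx => hS ⟨x, hx, rfl⟩
    exact (R.3 h1 h2).le hzS
  set E := Q ⊔ ((R : Subgroup W) ⊓ C.subgroupOf W).map W.subtype with hE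
  have hES : E ≤ S := sup_le hQS ((Subgroup.map_mono inf_le_left).trans hS)
  have hEM : E ≤ M' := hES.trans hSM
  -- `E` is normalized by `M'`
  have hME : M' ≤ Subgroup.normalizer (E : Set G) := by
    intro m hm
    rw [Subgroup.mem_normalizer_iff_map_conj_eq]
    refine Subgroup.eq_of_le_of_card_ge ?_ (Subgroup.card_map_of_injective (MulAut.conj m).injective).ge
    rintro _ ⟨e, he, rfl⟩
    show m * e * m⁻¹ ∈ E
    have hSn : ∀ x ∈ M', ∀ s ∈ (S : Subgroup G), x * s * x⁻¹ ∈ (S : Subgroup G) := by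
      rintro _ ⟨x, hx, rfl⟩ s hs
      rw [hSe] at hs ⊢
      obtain ⟨t, ht, rfl⟩ := hs
      exact ⟨x * t * x⁻¹, (Subgroup.mem_normalizer_iff.1 (hP₁n hx) t).1 ht, by
        show c * (x * t * x⁻¹) * c⁻¹ = c * x * c⁻¹ * (c * t * c⁻¹) * (c * x * c⁻¹)⁻¹
        group⟩
    -- commutators lie in the centre of `M'`
    have hcomm : ∀ z ∈ M', z * ⁅m, e⁆ = ⁅m, e⁆ * z := by
      obtain ⟨m0, hm0, rfl⟩ := hm
      obtain ⟨e0, he0, rfl⟩ := hEM he
      rintro _ ⟨z0, hz0, rfl⟩
      have h1 : z0 * ⁅m0, e0⁆ = ⁅m0, e0⁆ * z0 := congrArg Subtype.val (class_two hcl ⟨m0, hm0⟩ ⟨e0, he0⟩ ⟨z0, hz0⟩)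
      have h2 := congrArg (MulAut.conj c).toMonoidHom h1
      rw [map_mul, map_mul, map_commutatorElement] at h2
      exact h2
    have hcS : ⁅m, e⁆ ∈ (S : Subgroup G) := by
      rw [commutatorElement_def]
      exact (S : Subgroup G).mul_mem (hSn m hm e (hES he)) ((S : Subgroup G).inv_mem (hES he))
    obtain ⟨hw, hmem⟩ := hZ _ hcS fun s hs => hcomm s (hSM hs)
    have : m * e * m⁻¹ = ⁅m, e⁆ * e := by rw [commutatorElement_def, inv_mul_cancel_right]
    rw [this]
    exact E.mul_mem (Subgroup.mem_sup_right ⟨_, hmem, rfl⟩) he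
  have hEne : E ≠ ⊥ := fun h => hQ1 (le_bot_iff.1 (h ▸ (le_sup_left : Q ≤ E)))
  have hcoM : IsCoatom M' := (OrderIso.isCoatom_iff (MulEquiv.mapSubgroup (MulAut.conj c)) M).2 hmax
  have hNE : Subgroup.normalizer (E : Set G) = M' := by
    rcases hcoM.le_iff.1 hME with h | h
    · exfalso
      haveI hEn : E.Normal := Subgroup.normalizer_eq_top_iff.1 h
      refine hEne (hnn E ?_ hEn)
      intro x hx
      obtain ⟨y, hy, e⟩ := hEM (hEn.conj_mem x hx c)
      have : y = x := (MulAut.conj c).injective e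
      exact this ▸ hy
    · exact h
  -- Frattini argument inside `W`
  have hp1 : IsPGroup p ((R : Subgroup W).subgroupOf (C.subgroupOf W)) := R.2.comap_of_injective _ (C.subgroupOf W).subtype_injective
  have hnd : ¬ p ∣ ((R : Subgroup W).subgroupOf (C.subgroupOf W)).index :=
    fun h => R.not_dvd_index (h.trans (CfsgLib.Solv.relIndex_normal_dvd_index _ _))
  have hfr := Sylow.normalizer_sup_eq_top (hp1.toSylow hnd)
  have hgW : (⟨g, hg⟩ : W) ∈ (⊤ : Subgroup W) := Subgroup.mem_top _
  rw [← hfr] at hgW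
  obtain ⟨h, hh, k, hk, e⟩ := Subgroup.mem_sup_of_normal_right.1 hgW
  have hhE : (h : G) ∈ Subgroup.normalizer (E : Set G) := by
    rw [Subgroup.mem_normalizer_iff_map_conj_eq, hE, Subgroup.map_sup]
    congr 1
    · exact Subgroup.mem_normalizer_iff_map_conj_eq.1 h.2
    · have hh' : Subgroup.map (MulAut.conj h).toMonoidHom ((R : Subgroup W) ⊓ C.subgroupOf W) = (R : Subgroup W) ⊓ C.subgroupOf W := by
        have h0 := Subgroup.mem_normalizer_iff_map_conj_eq.1 hh
        change Subgroup.map (MulAut.conj h).toMonoidHom (Subgroup.map (C.subgroupOf W).subtype ((R : Subgroup W).subgroupOf (C.subgroupOf W))) = Subgroup.map (C.subgroupOf W).subtype ((R : Subgroup W).subgroupOf (C.subgroupOf W)) at h0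
        rw [Subgroup.subgroupOf_map_subtype] at h0
        exact h0
      rw [Subgroup.map_map]
      conv_rhs => rw [← hh', Subgroup.map_map]
      rfl
  rw [hNE] at hhE
  -- the image of `g` is both a `p`-element and a `p'`-element
  let ψ : W →* MulAut Q := Q.normalizerMonoidHom
  have hker : ψ.ker = C.subgroupOf W := Subgroup.normalizerMonoidHom_ker Q
  obtain ⟨a, u, hu, eo⟩ : ∃ a u, ¬ p ∣ u ∧ orderOf (h : G) = p ^ a * u :=
    ⟨_, _, Nat.not_dvd_ordCompl hp (orderOf_pos _).ne', (Nat.ordProj_mul_ordCompl_eq_self _ p).symm⟩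
  have hcent : (h : G) ^ p ^ a ∈ C := centralizes hp (inferInstance : Group.IsNilpotent M') hQ (hQS.trans hSM)
    ((Subgroup.zpowers_le).2 (M'.pow_mem hhE _)) (by
      rw [Nat.card_zpowers, orderOf_pow' _ (pow_ne_zero _ hp.ne_zero), eo, Nat.gcd_eq_right (dvd_mul_right _ _),
        Nat.mul_div_cancel_left _ (pow_pos hp.pos _)]
      exact hu) (Subgroup.mem_zpowers _)
  have hψ : ψ ⟨g, hg⟩ = ψ h := by
    rw [← e, map_mul, show ψ k = 1 from MonoidHom.mem_ker.1 (hker ▸ hk), mul_one]
  have h1 : orderOf (ψ ⟨g, hg⟩) ∣ p ^ a := by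
    refine orderOf_dvd_of_pow_eq_one ?_
    rw [hψ, ← map_pow]
    exact MonoidHom.mem_ker.1 (hker ▸ hcent)
  have h2 : orderOf (ψ ⟨g, hg⟩) ∣ orderOf g := by
    have := orderOf_map_dvd ψ ⟨g, hg⟩
    rwa [Subgroup.orderOf_mk] at this
  have h3 : orderOf (ψ ⟨g, hg⟩) = 1 := Nat.Coprime.eq_one_of_dvd ((hco.coprime_dvd_left h2).pow_right a) h1
  have h4 : (⟨g, hg⟩ : W) ∈ C.subgroupOf W := hker ▸ MonoidHom.mem_ker.2 (orderOf_eq_one_iff.1 h3)
  exact h4

theorem solvable_of_core_bot {G : Type*} [Group G] [Finite G] (M : Subgroup G) (hmax : IsCoatom M)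
    (hnil : Group.IsNilpotent M) (hcl : Group.nilpotencyClass ↥M ≤ 2) (hcore : M.normalCore = ⊥) : Group.IsSolvable G := by
  classical
  haveI := hnil
  set K := ⨅ p ∈ (Nat.card M).primeFactors, Cfsg.pResidual p G with hK
  haveI hKn : K.Normal := by
    refine Subgroup.normal_iInf_normal fun p => Subgroup.normal_iInf_normal fun _ => CfsgLib.Inv.pResidual_normal p G
  have hh : ∀ p ∈ (Nat.card M).primeFactors, Cfsg.HasNormalPComplement p G := fun p hp => by
    haveI : Fact p.Prime := ⟨(Nat.mem_primeFactors.1 hp).1⟩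
    exact hnpc_key p M hmax hnil hcl hcore (Nat.mem_primeFactors.1 hp).2.1
  have hKp : ∀ p ∈ (Nat.card M).primeFactors, ¬ p ∣ Nat.card K := by
    intro p hp hd
    haveI : Fact p.Prime := ⟨(Nat.mem_primeFactors.1 hp).1⟩
    exact CfsgLib.Solv.hnpc_iff.1 (hh p hp) (hd.trans (Subgroup.card_dvd_of_le (iInf₂_le (f := fun q _ => Cfsg.pResidual q G) p hp)))
  have hcop : (Nat.card M).Coprime (Nat.card K) := Nat.coprime_of_dvd fun q hq h1 h2 =>
    hKp q (Nat.mem_primeFactors.2 ⟨hq, h1, Nat.card_pos.ne'⟩) h2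
  have hK1 : K ≠ ⊥ := by
    intro hbot
    refine hmax.1 (Subgroup.eq_top_of_card_eq M (Nat.dvd_antisymm (Subgroup.card_subgroup_dvd_card M) ?_))
    rw [Nat.dvd_iff_prime_pow_dvd_dvd]
    intro r k hr hrk
    rcases Nat.eq_zero_or_pos k with rfl | hk
    · simp
    haveI : Fact r.Prime := ⟨hr⟩
    by_cases hrM : r ∣ Nat.card M
    · obtain ⟨P⟩ : Nonempty (Sylow r M) := inferInstance
      haveI : (P : Subgroup M).Normal := inferInstance
      have hN : Subgroup.normalizer (((P : Subgroup M).map M.subtype : Subgroup G) : Set G) = M := by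
        have hle : M ≤ Subgroup.normalizer (((P : Subgroup M).map M.subtype : Subgroup G) : Set G) := by
          intro m hm
          rw [Subgroup.mem_normalizer_iff_map_conj_eq]
          have := Subgroup.mem_normalizer_iff_map_conj_eq.1
            (show (⟨m, hm⟩ : M) ∈ Subgroup.normalizer ((P : Subgroup M) : Set M) by
              rw [Subgroup.normalizer_eq_top_iff.2 inferInstance]; trivial)
          rw [Subgroup.map_map]
          conv_rhs => rw [← this, Subgroup.map_map]
          rfl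
        rcases hmax.le_iff.1 hle with h | h
        · exfalso
          haveI := Subgroup.normalizer_eq_top_iff.1 h
          have h2 : (P : Subgroup M).map M.subtype = ⊥ :=
            le_bot_iff.1 (hcore ▸ (Subgroup.normal_le_normalCore.2 (Subgroup.map_subtype_le _)))
          exact Sylow.ne_bot_of_dvd_card P hrM ((Subgroup.map_eq_bot_iff_of_injective _ M.subtype_injective).1 h2)
        · exact h
      obtain ⟨S, hS⟩ := CfsgLib.Solv.exists_sylow_eq_of_normalizer (p := r) (U := (P : Subgroup M).map M.subtype) (P.2.map _)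
        (fun R hR hle hRN => by
          rw [hN] at hRN
          refine le_antisymm ?_ hle
          have h1 : R.subgroupOf M = P := P.3 (hR.comap_of_injective M.subtype M.subtype_injective) (fun x hx => hle ⟨x, hx, rfl⟩)
          intro x hx
          exact ⟨⟨x, hRN hx⟩, h1.le hx, rfl⟩)
      refine dvd_trans ((pow_dvd_pow r ((hr.pow_dvd_iff_le_factorization Nat.card_pos.ne').1 hrk)).trans (S.card_eq_multiplicity ▸ dvd_rfl))
        (Subgroup.card_dvd_of_le (hS ▸ Subgroup.map_subtype_le _))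
    · exfalso
      obtain ⟨x, hx⟩ := exists_prime_orderOf_dvd_card' r ((dvd_pow_self r hk.ne').trans hrk)
      have hxK : x ∈ K := by
        simp only [hK, Subgroup.mem_iInf]
        intro p hp
        haveI : Fact p.Prime := ⟨(Nat.mem_primeFactors.1 hp).1⟩
        refine (CfsgLib.Solv.hnpc_mem_iff (hh p hp)).2 ?_
        rw [hx, Nat.coprime_primes hr (Fact.out : p.Prime)]
        exact fun e => hrM (e ▸ (Nat.mem_primeFactors.1 hp).2.1)
      rw [hbot, Subgroup.mem_bot] at hxK
      rw [hxK, orderOf_one] at hx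
      exact hr.ne_one hx.symm
  obtain ⟨r, hr, hrK⟩ := Nat.exists_prime_and_dvd (fun h => hK1 (Subgroup.card_eq_one.1 h))
  haveI : Fact r.Prime := ⟨hr⟩
  have hMK : M ≤ Subgroup.normalizer (K : Set G) := by
    rw [Subgroup.normalizer_eq_top_iff.2 hKn]; exact le_top
  obtain ⟨R, hR⟩ := CfsgLib.Solv.exists_invariant_sylow (p := r) hMK hcop (Or.inl inferInstance)
  set R' := (R : Subgroup K).map K.subtype
  have htop : M ⊔ R' = ⊤ := by
    refine hmax.2 _ (lt_of_le_of_ne le_sup_left fun e => ?_)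
    have h1 : R' ≤ M ⊓ K := le_inf (le_sup_right.trans e.symm.le) (Subgroup.map_subtype_le _)
    rw [CfsgLib.Solv.inf_eq_bot_of_coprime_card hcop, le_bot_iff] at h1
    exact Sylow.ne_bot_of_dvd_card R hrK ((Subgroup.map_eq_bot_iff_of_injective _ K.subtype_injective).1 h1)
  haveI hR'n : R'.Normal := Subgroup.normalizer_eq_top_iff.1 (eq_top_iff.2 (htop ▸ sup_le hR Subgroup.le_normalizer))
  haveI : Group.IsSolvable R' := by
    haveI := (R.2.map K.subtype : IsPGroup r R').isNilpotent
    infer_instance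
  haveI : Group.IsSolvable (G ⧸ R') := Group.isSolvable_of_surjective (f := (QuotientGroup.mk' R').comp M.subtype) (by
    intro y
    obtain ⟨x, rfl⟩ := QuotientGroup.mk'_surjective R' y
    obtain ⟨m, hm, z, hz, rfl⟩ := Subgroup.mem_sup_of_normal_right.1 (show x ∈ M ⊔ R' by rw [htop]; trivial)
    exact ⟨⟨m, hm⟩, by rw [map_mul, show QuotientGroup.mk' R' z = 1 from (QuotientGroup.eq_one_iff z).2 hz, mul_one]; rfl⟩)
  exact Group.isSolvable_of_ker_le_range R'.subtype (QuotientGroup.mk' R') (by rw [QuotientGroup.ker_mk', Subgroup.range_subtype])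

/-- A finite group possessing a maximal subgroup that is nilpotent of class at most 2 is solvable. -/
theorem result {G : Type*} [Group G] [Finite G]
    (M : Subgroup G) (hmax : IsCoatom M) (hnil : Group.IsNilpotent M) (hcl : Group.nilpotencyClass ↥M ≤ 2) :
    Group.IsSolvable G := by
  classical
  haveI := hnil
  set N := M.normalCore
  haveI : N.Normal := Subgroup.normalCore_normal M
  have hNM : N ≤ M := Subgroup.normalCore_le M
  set π := QuotientGroup.mk' N
  have hπ : Function.Surjective π := QuotientGroup.mk'_surjective N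
  have hcomap : (M.map π).comap π = M := by rw [Subgroup.comap_map_eq, QuotientGroup.ker_mk', sup_eq_left.2 hNM]
  have hmax' : IsCoatom (M.map π) := by
    refine ⟨fun e => hmax.1 ?_, fun L hL => ?_⟩
    · rw [← hcomap, e, Subgroup.comap_top]
    · have hlt : M < L.comap π := by
        rw [← hcomap]
        exact (Subgroup.comap_lt_comap_of_surjective hπ).2 hL
      have := congrArg (Subgroup.map π) (hmax.2 _ hlt)
      rwa [Subgroup.map_comap_eq_self_of_surjective hπ, ← MonoidHom.range_eq_map, MonoidHom.range_eq_top.2 hπ] at this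
  let f : M →* M.map π := π.subgroupMap M
  have hf : Function.Surjective f := π.subgroupMap_surjective M
  haveI : Group.IsNilpotent (M.map π) := Group.nilpotent_of_surjective f hf
  have hcore : (M.map π).normalCore = ⊥ := by
    haveI := Subgroup.normalCore_normal (M.map π)
    have h1 : (M.map π).normalCore.comap π ≤ N :=
      Subgroup.normal_le_normalCore.2 ((Subgroup.comap_mono (Subgroup.normalCore_le _)).trans hcomap.le)
    have h2 := Subgroup.map_mono (f := π) h1
    rw [Subgroup.map_comap_eq_self_of_surjective hπ, (Subgroup.map_eq_bot_iff N).2 (by rw [QuotientGroup.ker_mk'])] at h2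
    exact le_bot_iff.1 h2
  haveI : Group.IsSolvable (G ⧸ N) := solvable_of_core_bot (M.map π) hmax' inferInstance
    ((Group.nilpotencyClass_le_of_surjective f hf).trans hcl) hcore
  haveI : Group.IsNilpotent N := Group.nilpotent_of_mulEquiv (Subgroup.subgroupOfEquivOfLe hNM)
  exact Group.isSolvable_of_ker_le_range N.subtype π (by rw [QuotientGroup.ker_mk', Subgroup.range_subtype])

end Cfsg.Agent.S4039
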