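import Cfsg.Statements.S4040

import Mathlib
import Cfsg.Agent.Solv.Thompson
import Cfsg.Agent.Solv.TransferTools
import Cfsg.Agent.Solv.CoprimeSylow

set_option autoImplicit false
set_option linter.style.haveILetI false
open Cfsg

namespace Cfsg.Agent.S4040

open CfsgLib.Solv

universe w

theorem hnpc_of_nilpotent_le {G : Type w} [Group G] [Finite G] {p : ℕ} [Fact p.Prime] {M L : Subgroup G}
    (hnil : Group.IsNilpotent M) (h : L ≤ M) : Cfsg.HasNormalPComplement p L :=
  hnpc_of_le h (haveI := hnil; hnpc_of_isNilpotent)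

theorem solvable_aux : ∀ (n : ℕ) (G : Type w) [Group G] [Finite G] (M : Subgroup G), Nat.card G = n →
    IsCoatom M → Group.IsNilpotent M → Odd (Nat.card M) → Group.IsSolvable G := by
  intro n
  induction n using Nat.strong_induction_on with | _ n ih =>
  intro G _ _ M hn hmax hnil hodd
  classical
  haveI := hnil
  haveI hMs : Group.IsSolvable M := inferInstance
  by_cases hcore : ∃ N : Subgroup G, N.Normal ∧ N ≤ M ∧ N ≠ ⊥
  · obtain ⟨N, hNn, hNM, hNb⟩ := hcore
    haveI := hNn
    haveI : Group.IsNilpotent (N.subgroupOf M) := inferInstance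
    haveI : Group.IsNilpotent N := Group.nilpotent_of_mulEquiv (Subgroup.subgroupOfEquivOfLe hNM)
    have hcomap : (M.map (QuotientGroup.mk' N)).comap (QuotientGroup.mk' N) = M := by
      rw [Subgroup.comap_map_eq, QuotientGroup.ker_mk', sup_eq_left.2 hNM]
    have hmax' : IsCoatom (M.map (QuotientGroup.mk' N)) := by
      refine ⟨fun e => hmax.1 ?_, fun X hX => ?_⟩
      · rw [← hcomap, e, Subgroup.comap_top]
      · have h1 : M < X.comap (QuotientGroup.mk' N) := by
          rw [← hcomap]
          exact (Subgroup.comap_lt_comap_of_surjective (QuotientGroup.mk'_surjective N)).2 hX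
        rw [← Subgroup.map_comap_eq_self_of_surjective (QuotientGroup.mk'_surjective N) X, hmax.2 _ h1,
          Subgroup.map_top_of_surjective _ (QuotientGroup.mk'_surjective N)]
    haveI : Group.IsNilpotent (M.map (QuotientGroup.mk' N)) :=
      Group.nilpotent_of_surjective ((QuotientGroup.mk' N).subgroupMap M) (MonoidHom.subgroupMap_surjective _ _)
    have hlt : Nat.card (G ⧸ N) < n := by
      rw [← hn, Subgroup.card_eq_card_quotient_mul_card_subgroup N]
      exact lt_mul_of_one_lt_right Nat.card_pos (Subgroup.one_lt_card_iff_ne_bot _ |>.2 hNb)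
    haveI : Group.IsSolvable (G ⧸ N) := ih _ hlt (G ⧸ N) _ rfl hmax' inferInstance
      (hodd.of_dvd_nat (Subgroup.card_map_dvd _ _))
    exact Group.isSolvable_of_ker_le_range N.subtype (QuotientGroup.mk' N) (by rw [QuotientGroup.ker_mk', Subgroup.range_subtype])
  push Not at hcore
  by_cases hMb : M = ⊥
  · by_cases hnt : ∃ g : G, g ≠ 1
    · obtain ⟨g, hg⟩ := hnt
      have h1 : Subgroup.zpowers g = ⊤ := hmax.2 _ (hMb ▸ bot_lt_iff_ne_bot.2 (Subgroup.zpowers_ne_bot.2 hg))
      refine Group.isSolvable_of_comm fun a b => ?_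
      obtain ⟨i, rfl⟩ := Subgroup.mem_zpowers_iff.1 (h1 ▸ Subgroup.mem_top a)
      obtain ⟨j, rfl⟩ := Subgroup.mem_zpowers_iff.1 (h1 ▸ Subgroup.mem_top b)
      exact (Commute.refl g).zpow_zpow i j
    · push Not at hnt
      exact Group.isSolvable_of_comm fun a b => by rw [hnt a, hnt b]
  -- for every prime `q` of `M`: a normal `q`-complement in `G`, and `M` contains a Sylow `q`-subgroup
  have key : ∀ (q : ℕ) (_ : Fact q.Prime), q ∣ Nat.card M → Cfsg.HasNormalPComplement q G ∧ ¬ q ∣ M.index := by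
    intro q _ hq
    have hq2 : q ≠ 2 := by rintro rfl; exact (Nat.not_even_iff_odd.2 hodd) (even_iff_two_dvd.2 hq)
    obtain ⟨Q0⟩ : Nonempty (Sylow q M) := inferInstance
    haveI : (Q0 : Subgroup M).Normal := Sylow.normal_of_normalizerCondition Group.normalizerCondition_of_isNilpotent Q0
    set Q := (Q0 : Subgroup M).map M.subtype
    have hQM : Q ≤ M := Subgroup.map_subtype_le _
    have hQp : IsPGroup q Q := Q0.2.map _
    have hQb : Q ≠ ⊥ := by
      intro e
      have h1 : Nat.card Q = Nat.card Q0 := Subgroup.card_map_of_injective M.subtype_injective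
      rw [e, Subgroup.card_bot, Sylow.card_eq_multiplicity] at h1
      rcases Nat.pow_eq_one.1 h1.symm with h2 | h2
      · exact (Fact.out : q.Prime).ne_one h2
      · exact ((Fact.out : q.Prime).factorization_pos_of_dvd Nat.card_pos.ne' hq).ne' h2
    have hMQ : M ≤ Subgroup.normalizer (Q : Set G) :=
      le_normalizer_iff_forall_conj_mem.2 fun m hm x ⟨y, hy, hyx⟩ =>
        ⟨_, Subgroup.Normal.conj_mem (inferInstance : (Q0 : Subgroup M).Normal) y hy ⟨m, hm⟩, by subst hyx; rfl⟩
    have hnorm : ∀ X : Subgroup G, X ≠ ⊥ → X ≤ Q → Subgroup.normalizer (Q : Set G) ≤ Subgroup.normalizer (X : Set G) →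
        Subgroup.normalizer (X : Set G) = M := by
      intro X hX hXQ hN
      by_contra hne
      have h1 : M ≤ Subgroup.normalizer (X : Set G) := hMQ.trans hN
      have h2 := hmax.2 _ (lt_of_le_of_ne h1 (Ne.symm hne))
      exact hX (hcore X (Subgroup.normalizer_eq_top_iff.1 h2) (hXQ.trans hQM))
    have hNQ : Subgroup.normalizer (Q : Set G) = M := hnorm Q hQb le_rfl le_rfl
    obtain ⟨P, hP⟩ := exists_sylow_eq_of_normalizer hQp (fun R hR hQR hRN => by
      rw [hNQ] at hRN
      have h1 := Q0.3 (hR.comap_of_injective M.subtype M.subtype_injective) (fun x hx => hQR ⟨x, hx, rfl⟩)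
      refine le_antisymm (fun r hr => ?_) hQR
      have h2 : (⟨r, hRN hr⟩ : M) ∈ R.comap M.subtype := hr
      rw [h1] at h2
      exact ⟨_, h2, rfl⟩)
    refine ⟨thompson hq2 P ?_, ?_⟩
    · rw [hP]
      refine ThompsonHyp.of_normalizers (hnpc_of_nilpotent_le hnil ?_) (hnpc_of_nilpotent_le hnil ?_)
      · exact (hnorm _ (thompsonSubgroupOf_ne_bot hQp hQb) (thompsonSubgroupOf_le _)
          (normalizer_le_normalizer_thompsonSubgroupOf _)).le
      · exact (hnorm _ (zOf_ne_bot hQp hQb) (zOf_le _) (normalizer_le_normalizer_zOf _)).le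
    · intro hd
      exact P.not_dvd_index (hd.trans (Subgroup.index_dvd_of_le (hP ▸ hQM)))
  set S := (Nat.card M).primeFactors
  set N : Subgroup G := ⨅ q ∈ S, Cfsg.pResidual q G
  have hNn : N.Normal := Subgroup.normal_iInf_normal fun q => Subgroup.normal_iInf_normal fun _ => CfsgLib.Inv.pResidual_normal q G
  haveI := hNn
  have hNM : N ⊓ M = ⊥ := by
    rw [eq_bot_iff]
    intro x hx
    obtain ⟨hxN, hxM⟩ := Subgroup.mem_inf.1 hx
    rw [Subgroup.mem_bot, ← orderOf_eq_one_iff]
    by_contra hne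
    obtain ⟨q, hq, hqd⟩ := Nat.exists_prime_and_dvd hne
    haveI : Fact q.Prime := ⟨hq⟩
    have hqM : q ∣ Nat.card M := hqd.trans (Subgroup.orderOf_dvd_natCard _ hxM)
    have hqS : q ∈ S := Nat.mem_primeFactors.2 ⟨hq, hqM, Nat.card_pos.ne'⟩
    have hxq : x ∈ Cfsg.pResidual q G := Subgroup.mem_iInf.1 (Subgroup.mem_iInf.1 hxN q) hqS
    exact hq.not_dvd_one (((hnpc_mem_iff (key q inferInstance hqM).1).1 hxq) ▸ Nat.dvd_gcd hqd dvd_rfl)
  by_cases hN : N ≤ M
  · -- then `N = ⊥` and `G` is a subdirect product of `q`-groups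
    have hNb : N = ⊥ := by rw [← inf_eq_left.2 hN, hNM]
    have hall : ∀ q ∈ S, ∃ k, derivedSeries G k ≤ Cfsg.pResidual q G := by
      intro q hq
      haveI : Fact q.Prime := ⟨(Nat.mem_primeFactors.1 hq).1⟩
      haveI := CfsgLib.Inv.pResidual_normal q G
      haveI : Group.IsNilpotent (G ⧸ Cfsg.pResidual q G) := (CfsgLib.Inv.isPGroup_quot_pResidual (G := G) (p := q)).isNilpotent
      obtain ⟨k, hk⟩ := (inferInstance : Group.IsSolvable (G ⧸ Cfsg.pResidual q G)).solvable
      refine ⟨k, fun x hx => (QuotientGroup.eq_one_iff x).1 ?_⟩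
      have := map_derivedSeries_le_derivedSeries (QuotientGroup.mk' (Cfsg.pResidual q G)) k ⟨x, hx, rfl⟩
      rwa [hk, Subgroup.mem_bot] at this
    choose! f hf using hall
    refine ⟨⟨S.sup f, eq_bot_iff.2 ?_⟩⟩
    rw [← hNb]
    exact le_iInf₂ fun q hq => (derivedSeries_antitone G (Finset.le_sup hq)).trans (hf q hq)
  · have hsup : M ⊔ N = ⊤ := hmax.2 _ (lt_of_le_of_ne le_sup_left fun e => hN (le_sup_right.trans e.ge))
    have hcard : Nat.card M * Nat.card N = Nat.card G := by
      have := CfsgLib.Solv.card_sup_mul_card_inf M N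
      rw [hsup, Subgroup.card_top, inf_comm, hNM, Subgroup.card_bot, mul_one] at this
      exact this.symm
    have hidx : M.index = Nat.card N :=
      Nat.eq_of_mul_eq_mul_left (Nat.card_pos (α := M)) (by rw [Subgroup.card_mul_index, hcard])
    have hcop : (Nat.card M).Coprime (Nat.card N) := by
      rw [← hidx]
      exact Nat.coprime_of_dvd fun q hq h1 h2 => (key q ⟨hq⟩ h1).2 h2
    have hN1 : Nat.card N ≠ 1 := fun e => hN (by rw [Subgroup.card_eq_one.1 e]; exact bot_le)
    obtain ⟨r, hr, hrN⟩ := Nat.exists_prime_and_dvd hN1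
    haveI : Fact r.Prime := ⟨hr⟩
    obtain ⟨R0, hR⟩ := exists_invariant_sylow (p := r) (A := M) (K := N) (Subgroup.normalizer_eq_top N ▸ le_top) hcop (Or.inl hMs)
    set R := (R0 : Subgroup N).map N.subtype
    have hRN : R ≤ N := Subgroup.map_subtype_le _
    have hcopR : (Nat.card M).Coprime (Nat.card R) := hcop.of_dvd_right (Subgroup.card_dvd_of_le hRN)
    have hRM : M ⊔ R = ⊤ := by
      refine hmax.2 _ (lt_of_le_of_ne le_sup_left fun e => ?_)
      have hRb : R ≤ N ⊓ M := le_inf hRN (le_sup_right.trans e.ge)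
      rw [hNM, le_bot_iff] at hRb
      have h1 : Nat.card R = Nat.card R0 := Subgroup.card_map_of_injective N.subtype_injective
      rw [hRb, Subgroup.card_bot, Sylow.card_eq_multiplicity] at h1
      rcases Nat.pow_eq_one.1 h1.symm with h2 | h2
      · exact hr.ne_one h2
      · exact (hr.factorization_pos_of_dvd Nat.card_pos.ne' hrN).ne' h2
    have h1 := card_sup_of_le_normalizer hR hcopR
    rw [hRM, Subgroup.card_top, ← hcard] at h1
    have hRNeq : R = N := Subgroup.eq_of_le_of_card_ge hRN (Nat.eq_of_mul_eq_mul_left Nat.card_pos h1).le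
    haveI : Group.IsSolvable N := by
      have hp : IsPGroup r N := hRNeq ▸ R0.2.map _
      haveI := hp.isNilpotent
      infer_instance
    haveI : Group.IsSolvable (G ⧸ N) := by
      refine Group.isSolvable_of_surjective (f := (QuotientGroup.mk' N).comp M.subtype) fun x => ?_
      obtain ⟨g, rfl⟩ := QuotientGroup.mk'_surjective N x
      obtain ⟨m, hm, k, hk, rfl⟩ := Subgroup.mem_sup_of_normal_right.1 (hsup ▸ Subgroup.mem_top g : g ∈ M ⊔ N)
      refine ⟨⟨m, hm⟩, ?_⟩
      rw [map_mul, show QuotientGroup.mk' N k = 1 from (QuotientGroup.eq_one_iff k).2 hk, mul_one]; rfl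
    exact Group.isSolvable_of_ker_le_range N.subtype (QuotientGroup.mk' N) (by rw [QuotientGroup.ker_mk', Subgroup.range_subtype])

/-- A finite group possessing a maximal subgroup that is nilpotent of odd order is solvable. -/
theorem result {G : Type*} [Group G] [Finite G]
    (M : Subgroup G) (hmax : IsCoatom M) (hnil : Group.IsNilpotent M) (hodd : Odd (Nat.card M)) :
    Group.IsSolvable G := by
  exact solvable_aux _ G M rfl hmax hnil hodd

end Cfsg.Agent.S4040
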