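import Cfsg.Statements.S4043
import Cfsg.Agent.Perm.MinClass
import Cfsg.Agent.Perm.PComp
import Cfsg.Agent.Solv.Hall

set_option autoImplicit false
set_option linter.style.haveILetI false
open Cfsg

namespace Cfsg.Agent.S4043

--- pre
open scoped Pointwise

/-- A `p`-nilpotent complement contains a subgroup `O` of order prime to `p` normalised by it. -/
theorem odd_part {G : Type*} [Group G] [Finite G] {p : ℕ} [Fact p.Prime] (A : Subgroup G)
    (h : Cfsg.HasNormalPComplement p A) :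
    ∃ O : Subgroup G, O ≤ A ∧ A ≤ Subgroup.normalizer (O : Set G) ∧ (Nat.card O).Coprime p ∧
      ∃ m, O.relIndex A = p ^ m := by
  obtain ⟨N, hN, hNp, m, hm⟩ := CfsgLib.Perm.exists_of_hasNormalPComplement h
  refine ⟨N.map A.subtype, Subgroup.map_subtype_le _, ?_, ?_, m, ?_⟩
  · rw [CfsgLib.Solv.le_normalizer_iff_forall_conj_mem]
    rintro a ha _ ⟨y, hy, rfl⟩
    exact ⟨(⟨a, ha⟩ : A) * y * (⟨a, ha⟩ : A)⁻¹, hN.conj_mem y hy _, rfl⟩
  · rw [CfsgLib.Solv.card_map_subtype]
    exact ((Fact.out : p.Prime).coprime_iff_not_dvd.2 hNp).symm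
  · rw [Subgroup.relIndex, Subgroup.subgroupOf, Subgroup.comap_map_eq_self_of_injective A.subtype_injective, hm]

/-- Let G be a finite group that is the semidirect product of a normal p-subgroup N by a subgroup A, and also of N by a subgroup A₁, where p is a prime and A and A₁ both have normal p-complements. If C_N(A) = C_N(A₁) = 1, then A₁ is conjugate to A by an element of N. -/
theorem result {G : Type*} [Group G] [Finite G] {p : ℕ}
    [Fact p.Prime] (N : Subgroup G) [N.Normal] (hN : IsPGroup p N) (A A₁ : Subgroup G)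
    (hA : A.IsComplement' N) (hA₁ : A₁.IsComplement' N)
    (hAp : Cfsg.HasNormalPComplement p A) (hA₁p : Cfsg.HasNormalPComplement p A₁)
    (hC : ∀ n : G, n ∈ N → (∀ a : G, a ∈ A → a * n * a⁻¹ = n) → n = 1)
    (hC₁ : ∀ n : G, n ∈ N → (∀ a : G, a ∈ A₁ → a * n * a⁻¹ = n) → n = 1) :
    ∃ n : G, n ∈ N ∧ A₁ = A.map (MulAut.conj n).toMonoidHom := by
  classical
  have hp : p.Prime := Fact.out
  obtain ⟨O, hOA, hAO, hOp, m, hm⟩ := odd_part A hAp
  obtain ⟨O₁, hO₁A, hAO₁, hO₁p, m₁, hm₁⟩ := odd_part A₁ hA₁p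
  -- each odd part lies in the product of `N` with the other
  have key : ∀ (B U V : Subgroup G), B.IsComplement' N → U ≤ B →
      B ≤ Subgroup.normalizer (U : Set G) → (∃ k, U.relIndex B = p ^ k) → (Nat.card V).Coprime p →
      V ≤ U ⊔ N := by
    rintro B U V hB hUB hBU ⟨k, hk⟩ hV
    have hUN : (U ⊔ N).Normal := by
      rw [← Subgroup.normalizer_eq_top_iff, eq_top_iff, ← hB.sup_eq_top]
      refine sup_le ?_ (le_sup_right.trans Subgroup.le_normalizer)
      rw [CfsgLib.Solv.le_normalizer_iff_forall_conj_mem]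
      intro b hb x hx
      have hle : (U ⊔ N).map (MulAut.conj b).toMonoidHom ≤ U ⊔ N := by
        rw [Subgroup.map_sup]
        refine sup_le ?_ ?_
        · rintro _ ⟨u, hu, rfl⟩
          exact (le_sup_left : U ≤ U ⊔ N) (CfsgLib.Solv.le_normalizer_iff_forall_conj_mem.1 hBU b hb u hu)
        · rintro _ ⟨u, hu, rfl⟩
          exact (le_sup_right : N ≤ U ⊔ N) (Subgroup.Normal.conj_mem inferInstance u hu b)
      exact hle ⟨x, hx, rfl⟩
    have hidx : (U ⊔ N).index ∣ p ^ k := by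
      rw [← hk, ← Subgroup.relIndex_top_right (H := U ⊔ N),
        show (⊤ : Subgroup G) = (U ⊔ N) ⊔ B by
          rw [sup_comm, ← sup_assoc, sup_eq_left.2 hUB, hB.sup_eq_top],
        Subgroup.relIndex_sup_left]
      exact Subgroup.relIndex_dvd_of_le_left B le_sup_left
    intro v hv
    refine CfsgLib.Perm.mem_of_pow_mem_of_coprime (n := (U ⊔ N).index) ?_ (Subgroup.pow_index_mem _ v)
    refine Nat.Coprime.coprime_dvd_left (Subgroup.orderOf_dvd_natCard _ hv) ?_
    exact (hV.pow_right k).coprime_dvd_right hidx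
  have hsup : O ⊔ N = O₁ ⊔ N := le_antisymm
    (sup_le (key A₁ O₁ O hA₁ hO₁A hAO₁ ⟨_, hm₁⟩ hOp) le_sup_right)
    (sup_le (key A O O₁ hA hOA hAO ⟨_, hm⟩ hO₁p) le_sup_right)
  obtain ⟨k, hk⟩ := IsPGroup.iff_card.1 hN
  haveI := hN.isNilpotent
  obtain ⟨g, hg, hgO⟩ := CfsgLib.Solv.conj_complement_in_sup hsup (hk ▸ hOp.pow_right k)
    (hk ▸ hO₁p.pow_right k) (Or.inl inferInstance)
  obtain ⟨u, hu, z, hz, rfl⟩ := Subgroup.mem_sup_of_normal_right.1 hg
  set n := u * z * u⁻¹ with hn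
  have hnN : n ∈ N := Subgroup.Normal.conj_mem inferInstance z hz u
  have hnO : MulAut.conj n • O = O₁ := by
    have e : u * z = n * u := by rw [hn]; group
    rw [← hgO, e, map_mul MulAut.conj n u, mul_smul,
      CfsgLib.Solv.conj_smul_eq_self_of_mem_normalizer (Subgroup.le_normalizer hu)]
  -- the intersection of `N` with the normaliser of `O₁` is trivial
  set M := Subgroup.normalizer (O₁ : Set G) with hM
  set D := N ⊓ M with hD
  have hcomm : ∀ d ∈ D, ∀ o ∈ O₁, d * o = o * d := by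
    intro d hd o ho
    have h1 : d * o * d⁻¹ * o⁻¹ ∈ O₁ ⊓ N := by
      refine ⟨O₁.mul_mem ((Subgroup.mem_normalizer_iff.1 hd.2 o).1 ho) (O₁.inv_mem ho), ?_⟩
      rw [show d * o * d⁻¹ * o⁻¹ = d * (o * d⁻¹ * o⁻¹) by group]
      exact N.mul_mem hd.1 (Subgroup.Normal.conj_mem inferInstance _ (N.inv_mem hd.1) o)
    rw [Subgroup.inf_eq_bot_of_coprime (hk ▸ hO₁p.pow_right k), Subgroup.mem_bot,
      mul_inv_eq_one, mul_inv_eq_iff_eq_mul] at h1
    exact h1
  have hDbot : D = ⊥ := by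
    by_contra hne
    obtain ⟨P⟩ := (inferInstance : Nonempty (Sylow p A₁))
    set P₁ := (P : Subgroup A₁).map A₁.subtype with hP₁
    have hP₁A : P₁ ≤ A₁ := Subgroup.map_subtype_le _
    have hnorm : P₁ ≤ Subgroup.normalizer (D : Set G) := by
      rw [CfsgLib.Solv.le_normalizer_iff_forall_conj_mem]
      intro a ha d hd
      refine ⟨Subgroup.Normal.conj_mem inferInstance d hd.1 a, ?_⟩
      exact M.mul_mem (M.mul_mem (hAO₁ (hP₁A ha)) hd.2) (M.inv_mem (hAO₁ (hP₁A ha)))
    set S := D ⊔ P₁ with hS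
    have hSp : IsPGroup p S := by
      rw [hS, sup_comm]
      exact IsPGroup.to_sup_of_normal_right' (P.2.map _) (hN.to_le inf_le_left) hnorm
    haveI : (D.subgroupOf S).Normal :=
      Subgroup.normal_subgroupOf_of_le_normalizer (sup_le Subgroup.le_normalizer hnorm)
    have hDS : D.subgroupOf S ≠ ⊥ := by
      rw [Ne, Subgroup.subgroupOf_eq_bot]
      intro h
      exact hne (h.eq_bot_of_le le_sup_left)
    obtain ⟨⟨⟨b, hbS⟩, hbD, hbc⟩, hb1⟩ := Subgroup.ne_bot_iff_exists_ne_one.1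
      (CfsgLib.Perm.inf_center_ne_bot hSp _ hDS)
    have hbD' : b ∈ D := hbD
    have hb : b ≠ 1 := fun h => hb1 (Subtype.ext (Subtype.ext h))
    apply hb
    apply hC₁ b hbD'.1
    -- the centraliser of `b` in `A₁` is everything
    set Cb := A₁ ⊓ Subgroup.centralizer ({b} : Set G) with hCb
    have h1 : O₁ ≤ Cb := le_inf hO₁A fun o ho =>
      Subgroup.mem_centralizer_singleton_iff.2 (hcomm b hbD' o ho).symm
    have h2 : P₁ ≤ Cb := le_inf hP₁A fun a ha => Subgroup.mem_centralizer_singleton_iff.2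
      (congrArg Subtype.val (Subgroup.mem_center_iff.1 hbc ⟨a, (le_sup_right : P₁ ≤ S) ha⟩))
    have h3 : Cb.relIndex A₁ = 1 := by
      refine Nat.eq_one_of_dvd_coprimes (a := p ^ m₁) (b := P₁.relIndex A₁) ?_
        (hm₁ ▸ Subgroup.relIndex_dvd_of_le_left A₁ h1) (Subgroup.relIndex_dvd_of_le_left A₁ h2)
      refine (hp.coprime_iff_not_dvd.2 ?_).pow_left m₁
      rw [hP₁, Subgroup.relIndex, Subgroup.subgroupOf, Subgroup.comap_map_eq_self_of_injective A₁.subtype_injective]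
      exact P.not_dvd_index
    intro a ha
    have h4 := Subgroup.mem_centralizer_singleton_iff.1 (Subgroup.relIndex_eq_one.1 h3 ha).2
    rw [h4, mul_inv_cancel_right]
  have hMA : ∀ x ∈ M, x ∈ A₁ := by
    intro x hx
    obtain ⟨⟨⟨a, ha⟩, ⟨d, hd⟩⟩, rfl⟩ := hA₁.2 x
    have hdD : d ∈ D := ⟨hd, (M.mul_mem_cancel_left (hAO₁ ha)).1 hx⟩
    rw [hDbot, Subgroup.mem_bot] at hdD
    simpa [hdD] using ha
  refine ⟨n, hnN, (Subgroup.eq_of_le_of_card_ge ?_ ?_).symm⟩
  · rintro _ ⟨a, ha, rfl⟩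
    apply hMA
    rw [hM, ← hnO]
    refine CfsgLib.Solv.mem_normalizer_of_conj_smul_eq ?_
    show MulAut.conj (n * a * n⁻¹) • MulAut.conj n • O = MulAut.conj n • O
    rw [← mul_smul, ← map_mul, inv_mul_cancel_right, map_mul, mul_smul,
      CfsgLib.Solv.conj_smul_eq_self_of_mem_normalizer (hAO ha)]
  · rw [Subgroup.card_map_of_injective (MulAut.conj n).injective]
    have e1 := hA.card_mul
    have e2 := hA₁.card_mul
    exact (Nat.eq_of_mul_eq_mul_right Nat.card_pos (e1.trans e2.symm)).ge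

end Cfsg.Agent.S4043
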