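import Cfsg.Statements.S4049
import Cfsg.Agent.Perm.InvertOdd
import Cfsg.Agent.Perm.Basic

set_option autoImplicit false
set_option linter.style.haveILetI false
open Cfsg

namespace Cfsg.Agent.S4049

/-- Let G be a finite group such that N_G(H)/C_G(H) has odd order for every nontrivial subgroup H of odd order. Then the Sylow 2-subgroups of G are normal. -/
theorem result {G : Type*} [Group G] [Finite G]
    (hhom : ∀ H : Subgroup G, H ≠ ⊥ → ¬ 2 ∣ Nat.card ↥H →
        ¬ 2 ∣ (Subgroup.centralizer (H : Set G)).relIndex (Subgroup.normalizer (H : Set G))) (P : Sylow 2 G) :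
    (P : Subgroup G).Normal := by
  refine CfsgLib.Perm.sylow_two_normal (fun x t hx hk ht => ?_) P
  rcases eq_or_ne x 1 with rfl | hx1
  · simp
  have hne : Subgroup.zpowers x ≠ ⊥ := by rwa [Ne, Subgroup.zpowers_eq_bot]
  have hodd : ¬ 2 ∣ Nat.card ↥(Subgroup.zpowers x) := by
    rw [Nat.card_zpowers, ← even_iff_two_dvd]; exact Nat.not_even_iff_odd.2 hx
  have hrel := hhom _ hne hodd
  set N := Subgroup.normalizer ((Subgroup.zpowers x : Subgroup G) : Set G) with hN
  set C := Subgroup.centralizer ((Subgroup.zpowers x : Subgroup G) : Set G) with hC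
  haveI : (C.subgroupOf N).Normal := by
    rw [hC, hN, ← Subgroup.normalizerMonoidHom_ker]; infer_instance
  obtain ⟨k, hk⟩ := hk
  have h1 : t ^ C.relIndex N ∈ C := by
    have h2 := Subgroup.pow_index_mem (C.subgroupOf N) ⟨t, ht⟩
    exact Subgroup.mem_subgroupOf.1 h2
  have h3 : (orderOf t).Coprime (C.relIndex N) := by
    rw [hk]; exact (Nat.prime_two.coprime_iff_not_dvd.2 hrel).pow_left k
  have ht' : t ∈ C := CfsgLib.Perm.mem_of_pow_mem_of_coprime h3 h1
  rw [← Subgroup.mem_centralizer_iff.1 ht' x (Subgroup.mem_zpowers x), mul_inv_cancel_right]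

end Cfsg.Agent.S4049
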