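import Cfsg.Statements.S4050

import Cfsg.Agent.Perm.PiClosed

set_option autoImplicit false
set_option linter.style.haveILetI false
open Cfsg

namespace Cfsg.Agent.S4050

/-- Let π be a set of primes and G a finite group. The π-elements of G (elements whose order is divisible only by primes of π) form a subgroup if and only if G is π-separable (it has a chain of normal subgroups from 1 to G with each successive index divisible only by primes in π or only by primes outside π) and N_G(H)/C_G(H) is a π'-group for every nontrivial π'-subgroup H of G. -/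
theorem result {G : Type*} [Group G] [Finite G] (π : Set ℕ)
    (hπ : ∀ p ∈ π, p.Prime) :
    (∃ K : Subgroup G, ∀ x : G, x ∈ K ↔ ∀ p : ℕ, p.Prime → p ∣ orderOf x → p ∈ π) ↔
    ((∃ (n : ℕ) (H : Fin (n + 1) → Subgroup G), H 0 = ⊥ ∧ H (Fin.last n) = ⊤ ∧ Monotone H ∧ (∀ i, (H i).Normal) ∧
      ∀ i : Fin n, (∀ q : ℕ, q.Prime → q ∣ (H i.castSucc).relIndex (H i.succ) → q ∈ π) ∨
        (∀ q : ℕ, q.Prime → q ∣ (H i.castSucc).relIndex (H i.succ) → q ∉ π)) ∧
     (∀ H : Subgroup G, H ≠ ⊥ → (∀ p : ℕ, p.Prime → p ∣ Nat.card ↥H → p ∉ π) →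
        ∀ p : ℕ, p.Prime → p ∣ (Subgroup.centralizer (H : Set G)).relIndex (Subgroup.normalizer (H : Set G)) → p ∉ π)) := by
  classical
  constructor
  · rintro ⟨L, hL⟩
    haveI hLn : L.Normal := ⟨fun y hy g => (hL _).mpr (by
      have : orderOf (g * y * g⁻¹) = orderOf y := MulEquiv.orderOf_eq (MulAut.conj g) y
      rw [this]; exact (hL y).mp hy)⟩
    have hcard : ∀ q : ℕ, q.Prime → q ∣ Nat.card L → q ∈ π :=
      CfsgLib.Perm.PiClosed.piNat_card_of_elems fun x hx => (hL x).mp hx
    have hidx : ∀ q : ℕ, q.Prime → q ∣ L.index → q ∉ π :=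
      CfsgLib.Perm.PiClosed.piNat_index_of_elems fun x hx => (hL x).mpr hx
    refine ⟨⟨2, ![⊥, L, ⊤], rfl, rfl, ?_, ?_, ?_⟩, ?_⟩
    · rw [Fin.monotone_iff_le_succ]
      intro i
      fin_cases i <;> simp
    · intro i
      fin_cases i
      · exact (inferInstance : (⊥ : Subgroup G).Normal)
      · exact hLn
      · exact (inferInstance : (⊤ : Subgroup G).Normal)
    · intro i
      fin_cases i
      · left
        simpa [Subgroup.relIndex_bot_left] using hcard
      · right
        simpa [Subgroup.relIndex_top_right] using hidx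
    · intro H _ hH p hp hpd hpπ
      haveI := Fact.mk hp
      set N := Subgroup.normalizer (H : Set G) with hNdef
      set C := (Subgroup.centralizer (H : Set G)).subgroupOf N
      have hmemC : ∀ z : N, CfsgLib.Solv.PiNat π (orderOf z) → z ∈ C := by
        intro z hz
        rw [Subgroup.mem_subgroupOf, Subgroup.mem_centralizer_iff]
        intro h hh
        have hzL : (z : G) ∈ L := (hL _).mpr (by rwa [Subgroup.orderOf_coe])
        have h1 : (z : G) * h * (z : G)⁻¹ * h⁻¹ ∈ L := by
          rw [show (z : G) * h * (z : G)⁻¹ * h⁻¹ = (z : G) * (h * (z : G)⁻¹ * h⁻¹) by group]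
          exact L.mul_mem hzL (hLn.conj_mem _ (L.inv_mem hzL) h)
        have h2 : (z : G) * h * (z : G)⁻¹ * h⁻¹ ∈ H :=
          H.mul_mem ((Subgroup.mem_normalizer_iff.mp z.2 h).mp hh) (H.inv_mem hh)
        have h3 := CfsgLib.Perm.PiClosed.eq_one_of_piNat (π := π) ((hL _).mp h1)
          (CfsgLib.Solv.PiNat.of_dvd (π := πᶜ) hH (Subgroup.orderOf_dvd_natCard H h2))
        rw [mul_inv_eq_one, mul_inv_eq_iff_eq_mul] at h3
        exact h3.symm
      haveI : C.Normal := Subgroup.normal_subgroupOf_of_le_normalizer fun n hn => by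
        rw [Subgroup.mem_normalizer_iff]
        intro c
        have key : ∀ n ∈ N, ∀ c ∈ Subgroup.centralizer (H : Set G), n * c * n⁻¹ ∈ Subgroup.centralizer (H : Set G) := by
          intro n hn c hc
          rw [Subgroup.mem_centralizer_iff] at hc ⊢
          intro y hy
          have hy' : n⁻¹ * y * n ∈ H := (Subgroup.mem_normalizer_iff''.mp hn y).mp hy
          calc y * (n * c * n⁻¹) = n * ((n⁻¹ * y * n) * c) * n⁻¹ := by group
            _ = n * (c * (n⁻¹ * y * n)) * n⁻¹ := by rw [hc _ hy']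
            _ = n * c * n⁻¹ * y := by group
        refine ⟨key n hn c, fun hc => ?_⟩
        have := key n⁻¹ (N.inv_mem hn) _ hc
        simpa [mul_assoc] using this
      exact CfsgLib.Perm.PiClosed.piNat_index_of_elems hmemC p hp hpd hpπ
  · rintro ⟨⟨n, H, h0, hlast, hmono, hnorm, hstep⟩, hrel⟩
    have hhom := CfsgLib.Perm.PiClosed.hom_of_relIndex hrel
    suffices key : ∀ i, CfsgLib.Perm.PiClosed.Closed π (H i) by
      obtain ⟨L, hL⟩ := key (Fin.last n)
      have htop : ∀ x : G, x ∈ H (Fin.last n) := fun x => hlast ▸ Subgroup.mem_top x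
      refine ⟨L.map (H (Fin.last n)).subtype, fun x => ⟨?_, fun hx => ?_⟩⟩
      · rintro ⟨y, hy, rfl⟩
        simpa [CfsgLib.Solv.PiNat] using (hL y).mp hy
      · exact ⟨⟨x, htop x⟩, (hL _).mpr (by rwa [Subgroup.orderOf_mk]), rfl⟩
    intro i
    induction i using Fin.induction with
    | zero =>
      refine ⟨⊤, fun x => ⟨fun _ p hp hd => ?_, fun _ => Subgroup.mem_top x⟩⟩
      have hx : (x : G) = 1 := Subgroup.mem_bot.mp (h0 ▸ x.2)
      rw [← Subgroup.orderOf_coe, hx, orderOf_one] at hd
      exact absurd hd hp.not_dvd_one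
    | succ i ih =>
      have hle : H i.castSucc ≤ H i.succ := hmono (Fin.castSucc_le_succ i)
      haveI := hnorm i.castSucc
      haveI : ((H i.castSucc).subgroupOf (H i.succ)).Normal := Subgroup.Normal.subgroupOf inferInstance _
      refine CfsgLib.Perm.PiClosed.closed_of_extension (hhom.subgroup _) ((H i.castSucc).subgroupOf (H i.succ)) ?_ ?_
      · obtain ⟨L, hL⟩ := ih
        let e := Subgroup.subgroupOfEquivOfLe hle
        refine ⟨L.comap e.toMonoidHom, fun x => ?_⟩
        rw [Subgroup.mem_comap, hL, MulEquiv.toMonoidHom_eq_coe, MonoidHom.coe_coe, MulEquiv.orderOf_eq]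
      · rcases hstep i with hs | hs
        · exact ⟨⊤, fun x => ⟨fun _ => CfsgLib.Solv.PiNat.of_dvd (π := π) hs (orderOf_dvd_natCard x),
            fun _ => Subgroup.mem_top x⟩⟩
        · refine ⟨⊥, fun x => ⟨fun hx => ?_, fun hx => ?_⟩⟩
          · rw [Subgroup.mem_bot.mp hx, orderOf_one]
            exact CfsgLib.Solv.PiNat.one π
          · exact Subgroup.mem_bot.mpr (CfsgLib.Perm.PiClosed.eq_one_of_piNat (π := π) hx
              (CfsgLib.Solv.PiNat.of_dvd (π := πᶜ) hs (orderOf_dvd_natCard x)))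

end Cfsg.Agent.S4050
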