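import Cfsg.Statements.S4056

import Cfsg.Agent.Solv.PGroups

set_option autoImplicit false
set_option linter.style.haveILetI false
open Cfsg

namespace Cfsg.Agent.S4056
open scoped commutatorElement

/-- In a finite 2-group of nilpotency class at most 2 and exponent dividing 4, the Frattini subgroup lies in the centre and is elementary abelian. -/
theorem result {P : Type*} [Group P] [Finite P] (hP : IsPGroup 2 P)
    (hcl : Group.nilpotencyClass P ≤ 2) (hexp : Monoid.exponent P ∣ 4) :
    frattini P ≤ Subgroup.center P ∧ Cfsg.IsElementaryAbelian 2 (frattini P) := by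
  haveI : Group.IsNilpotent P := hP.isNilpotent
  have hcomm : ∀ x y : P, ⁅x, y⁆ ∈ Subgroup.center P := by
    intro x y
    have h1 : Subgroup.lowerCentralSeries (⊤ : Subgroup P) 2 = ⊥ :=
      Subgroup.lowerCentralSeries_eq_bot_iff_nilpotencyClass_le.2 hcl
    refine Subgroup.mem_center_iff.2 fun g => ?_
    have h2 : ⁅⁅x, y⁆, g⁆ ∈ Subgroup.lowerCentralSeries (⊤ : Subgroup P) 2 :=
      Subgroup.commutator_mem_commutator
        (Subgroup.commutator_mem_commutator (Subgroup.mem_top x) (Subgroup.mem_top y)) (Subgroup.mem_top g)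
    rw [h1, Subgroup.mem_bot, commutatorElement_eq_one_iff_mul_comm] at h2
    exact h2.symm
  have h4 : ∀ x : P, x ^ 4 = 1 := fun x => orderOf_dvd_iff_pow_eq_one.1
    ((Monoid.order_dvd_exponent x).trans hexp)
  have hd2 : ∀ x y : P, ⁅y, x⁆ ^ 2 = 1 := by
    intro x y
    set d := ⁅y, x⁆ with hd
    have hdc : ∀ g : P, Commute d g := fun g => (Subgroup.mem_center_iff.1 (hcomm y x) g).symm
    have e : y * x = d * x * y := by simp [hd, commutatorElement_def, mul_assoc]
    have e2 : (x * y) ^ 2 = d * (x ^ 2 * y ^ 2) := by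
      calc (x * y) ^ 2 = x * (y * x) * y := by simp [sq, mul_assoc]
        _ = x * d * x * y * y := by rw [e]; simp [mul_assoc]
        _ = d * x * x * y * y := by rw [(hdc x).symm.eq]
        _ = _ := by simp [sq, mul_assoc]
    have c3 : Commute (x ^ 2) (y ^ 2) := by
      rw [← commutatorElement_eq_one_iff_commute]
      have e3 : ⁅x ^ 2, y ^ 2⁆ = ⁅x, y⁆ ^ 4 := by
        rw [CfsgLib.Solv.pow_commutator_left (Subgroup.mem_center_iff.1 (hcomm x (y ^ 2)) x).symm,
          CfsgLib.Solv.pow_commutator_right (Subgroup.mem_center_iff.1 (hcomm x y) y).symm, ← pow_mul]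
      rw [e3, h4]
    have := h4 (x * y)
    rw [show (4 : ℕ) = 2 * 2 from rfl, pow_mul, e2, (hdc _).mul_pow, c3.mul_pow, ← pow_mul,
      ← pow_mul] at this
    simpa [h4] using this
  let A : Subgroup P :=
    { carrier := {x | x ∈ Subgroup.center P ∧ x ^ 2 = 1}
      one_mem' := ⟨one_mem _, one_pow _⟩
      mul_mem' := fun {a b} ha hb => ⟨mul_mem ha.1 hb.1, by
        rw [(show Commute a b from (Subgroup.mem_center_iff.1 hb.1 a)).mul_pow, ha.2, hb.2, one_mul]⟩
      inv_mem' := fun {a} ha => ⟨inv_mem ha.1, by rw [inv_pow, ha.2, inv_one]⟩ }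
  haveI : A.Normal := ⟨fun n hn g => by
    rw [Subgroup.mem_center_iff.1 hn.1 g, mul_inv_cancel_right]; exact hn⟩
  have hle : frattini P ≤ A := by
    refine CfsgLib.Solv.frattini_le_of_elementary (p := 2) A ?_ fun x => ?_
    · rw [commutator_def, Subgroup.commutator_le]
      exact fun a _ b _ => ⟨hcomm a b, hd2 b a⟩
    · refine ⟨Subgroup.mem_center_iff.2 fun y => ?_, by rw [← pow_mul]; exact h4 x⟩
      have := hd2 y x
      rw [← CfsgLib.Solv.pow_commutator_left (Subgroup.mem_center_iff.1 (hcomm x y) x).symm,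
        commutatorElement_eq_one_iff_mul_comm] at this
      exact this.symm
  exact ⟨fun x hx => (hle hx).1,
    ⟨⟨fun a b => Subtype.ext (Subgroup.mem_center_iff.1 (hle b.2).1 a)⟩⟩, fun a ha => (hle ha).2⟩

end Cfsg.Agent.S4056
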