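import Cfsg.Statements.S4058
import Cfsg.Agent.Char.Central
import Cfsg.Agent.Solv.FittingBasic
import Mathlib.GroupTheory.FiniteAbelian.Duality
import Mathlib.Analysis.Complex.Polynomial.Basic
import Mathlib.LinearAlgebra.Trace
import Mathlib.RingTheory.RootsOfUnity.AlgebraicallyClosed

set_option autoImplicit false
set_option linter.style.haveILetI false
open Cfsg

namespace Cfsg.Agent.S4058

--- pre
open CfsgLib.Char Matrix
open scoped ComplexConjugate commutatorElement

/-- Swapping the two tensor factors. -/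
abbrev sw (n : ℕ) : Fin n × Fin n ≃ Fin n × Fin n := Equiv.prodComm _ _

theorem trace_idempotent {ι : Type*} [Fintype ι] [DecidableEq ι] (E : Matrix ι ι ℂ)
    (hE : E * E = E) : ∃ m : ℕ, Matrix.trace E = (m : ℂ) := by
  have h1 : IsIdempotentElem (Matrix.toLin' E) := by
    show Matrix.toLin' E ∘ₗ Matrix.toLin' E = Matrix.toLin' E
    rw [← Matrix.toLin'_mul, hE]
  obtain ⟨p, hp⟩ := (LinearMap.isProj_iff_isIdempotentElem (Matrix.toLin' E)).2 h1
  exact ⟨Module.finrank ℂ p, by rw [← Matrix.trace_toLin'_eq, hp.trace]⟩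

universe u

/-- The Frobenius–Schur sum is an integer. -/
theorem fs_int {G : Type u} [Group G] [Fintype G] {χ : G → ℂ} (hχ : Cfsg.IsCharacter G χ) :
    ∃ c : ℤ, ∑ g : G, χ (g * g) = (Fintype.card G : ℂ) * c := by
  classical
  obtain ⟨n, ρ, rfl⟩ := hχ
  let A : G → Matrix (Fin n) (Fin n) ℂ := fun g => LinearMap.toMatrix' (ρ g)
  have hA : ∀ g h, A (g * h) = A g * A h := fun g h => by
    simp only [A, map_mul]
    exact LinearMap.toMatrix'_mul _ _
  let R : G → Matrix (Fin n × Fin n) (Fin n × Fin n) ℂ := fun g =>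
    Matrix.of fun a b => A g a.1 b.1 * A g a.2 b.2
  have hR : ∀ g h, R (g * h) = R g * R h := by
    intro g h
    ext a b
    simp only [R, hA, Matrix.of_apply, Matrix.mul_apply, Fintype.sum_prod_type, Finset.sum_mul,
      Finset.mul_sum]
    rw [Finset.sum_comm]
    exact Finset.sum_congr rfl fun i _ => Finset.sum_congr rfl fun j _ => by ring
  have hN : (Fintype.card G : ℂ) ≠ 0 := Nat.cast_ne_zero.2 Fintype.card_ne_zero
  set P : Matrix (Fin n × Fin n) (Fin n × Fin n) ℂ := (Fintype.card G : ℂ)⁻¹ • ∑ g, R g with hPdef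
  have hPP : P * P = P := by
    have h1 : ∀ g, R g * ∑ h, R h = ∑ h, R h := fun g => by
      rw [Finset.mul_sum]
      simp only [← hR]
      exact Fintype.sum_equiv (Equiv.mulLeft g) _ _ fun _ => rfl
    rw [hPdef, smul_mul_smul_comm, Finset.sum_mul, Finset.sum_congr rfl fun g _ => h1 g,
      Finset.sum_const, Finset.card_univ, ← Nat.cast_smul_eq_nsmul ℂ, smul_smul, mul_assoc,
      inv_mul_cancel₀ hN, mul_one]
  have hPsw : P.submatrix (sw n) (sw n) = P := by
    ext a b
    simp only [hPdef, Matrix.submatrix_apply, Matrix.smul_apply, Matrix.sum_apply]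
    refine congrArg _ (Finset.sum_congr rfl fun g _ => ?_)
    simp [R, mul_comm]
  set S : Matrix (Fin n × Fin n) (Fin n × Fin n) ℂ := P.submatrix (sw n) id with hSdef
  have hswsw : ∀ a, sw n (sw n a) = a := fun a => by simp [sw]
  have hS' : S = P.submatrix id (sw n) := by
    ext a b
    have := congrFun (congrFun hPsw (sw n a)) b
    simp only [Matrix.submatrix_apply, id_eq, hSdef] at this ⊢
    rw [hswsw] at this
    exact this.symm
  have hSP : S * P = S := by
    rw [hSdef]
    ext a b
    rw [Matrix.mul_apply]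
    have := congrFun (congrFun hPP (sw n a)) b
    rw [Matrix.mul_apply] at this
    simpa using this
  have hPS : P * S = S := by
    rw [hS']
    ext a b
    rw [Matrix.mul_apply]
    have := congrFun (congrFun hPP a) (sw n b)
    rw [Matrix.mul_apply] at this
    simpa using this
  have hSS : S * S = P := by
    ext a b
    rw [Matrix.mul_apply]
    have := congrFun (congrFun hPP (sw n a)) (sw n b)
    rw [Matrix.mul_apply] at this
    have h2 := congrFun (congrFun hPsw a) b
    simp only [Matrix.submatrix_apply] at h2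
    rw [← h2, ← this]
    conv_lhs => enter [2, c]; rw [show S a c = P (sw n a) c from rfl,
      show S c b = P c (sw n b) by rw [hS']; rfl]
  have hE : ((2 : ℂ)⁻¹ • (P + S)) * ((2 : ℂ)⁻¹ • (P + S)) = (2 : ℂ)⁻¹ • (P + S) := by
    rw [smul_mul_smul_comm, mul_add, add_mul, add_mul, hPP, hSP, hPS, hSS]
    module
  obtain ⟨m, hm⟩ := trace_idempotent _ hE
  obtain ⟨r, hr⟩ := trace_idempotent _ hPP
  refine ⟨2 * (m : ℤ) - r, ?_⟩
  rw [Matrix.trace_smul, Matrix.trace_add, hr, smul_eq_mul] at hm
  have hS2 : Matrix.trace S = (Fintype.card G : ℂ)⁻¹ * ∑ g, ρ.character (g * g) := by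
    simp only [hSdef, hPdef, Matrix.trace, Matrix.diag, Matrix.submatrix_apply, Matrix.smul_apply,
      Matrix.sum_apply, smul_eq_mul, id_eq, ← Finset.mul_sum]
    rw [Finset.sum_comm]
    refine congrArg _ (Finset.sum_congr rfl fun g _ => ?_)
    have h1 : ρ.character (g * g) = Matrix.trace (A g * A g) := by
      rw [← hA]
      exact LinearMap.trace_eq_matrix_trace ℂ (Pi.basisFun ℂ (Fin n)) (ρ (g * g))
    rw [h1, Matrix.trace, Fintype.sum_prod_type]
    simp only [Matrix.diag, Matrix.mul_apply, Matrix.of_apply, R, sw, Equiv.prodComm_apply, Prod.swap]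
    rw [Finset.sum_comm]
  have h3 : Matrix.trace S = 2 * (m : ℂ) - r := by linear_combination 2 * hm
  rw [hS2] at h3
  push_cast
  field_simp at h3
  linear_combination h3

/-- The number of linear characters trivial on a normal subgroup with abelian quotient. -/
theorem card_hom_quotient {G : Type u} [Group G] [Finite G] (N : Subgroup G) [N.Normal]
    (hab : ∀ a b : G ⧸ N, a * b = b * a) :
    Nat.card {μ : G →* ℂˣ // N ≤ μ.ker} = N.index := by
  letI : CommGroup (G ⧸ N) := { (inferInstance : Group (G ⧸ N)) with mul_comm := hab }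
  have e : {μ : G →* ℂˣ // N ≤ μ.ker} ≃ (G ⧸ N →* ℂˣ) :=
    { toFun := fun μ => QuotientGroup.lift N μ.1 μ.2
      invFun := fun ν => ⟨ν.comp (QuotientGroup.mk' N), fun x hx => by
        simp [MonoidHom.mem_ker, (QuotientGroup.eq_one_iff x).2 hx]⟩
      left_inv := fun μ => Subtype.ext (MonoidHom.ext fun x => rfl)
      right_inv := fun ν => MonoidHom.ext fun x => by
        induction x using QuotientGroup.induction_on
        rfl }
  rw [Nat.card_congr e, CommGroup.card_monoidHom_of_hasEnoughRootsOfUnity]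
  rfl

/-- A subgroup of linear characters fixing `χ` has order at most `χ(1) ^ 2`. -/
theorem card_stab_le {G : Type u} [Group G] [Fintype G] {χ : Cfsg.IrrCharacter G}
    (H : Subgroup (G →* ℂˣ)) (hH : ∀ μ ∈ H, ∀ g, (χ : G → ℂ) g * (μ g : ℂ) = (χ : G → ℂ) g) :
    Nat.card H ≤ Cfsg.charDegree (χ : G → ℂ) ^ 2 := by
  classical
  let K : Subgroup G := ⨅ μ : H, (μ : G →* ℂˣ).ker
  haveI : K.Normal := Subgroup.normal_iInf_normal fun μ => inferInstance
  have hab : ∀ a b : G ⧸ K, a * b = b * a := by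
    intro a b
    obtain ⟨a, rfl⟩ := QuotientGroup.mk_surjective a
    obtain ⟨b, rfl⟩ := QuotientGroup.mk_surjective b
    rw [← QuotientGroup.mk_mul, ← QuotientGroup.mk_mul, QuotientGroup.eq]
    simp only [K, Subgroup.mem_iInf, MonoidHom.mem_ker, map_mul, map_inv]
    intro μ
    rw [mul_comm ((μ : G →* ℂˣ) a), inv_mul_cancel]
  have h1 : Nat.card H ≤ K.index := by
    rw [← card_hom_quotient K hab]
    haveI : Finite {μ : G →* ℂˣ // K ≤ μ.ker} := Nat.finite_of_card_ne_zero (by
      rw [card_hom_quotient K hab]; exact Subgroup.index_ne_zero_of_finite)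
    exact Nat.card_le_card_of_injective (fun μ : H => (⟨μ.1, iInf_le _ μ⟩ :
      {μ : G →* ℂˣ // K ≤ μ.ker})) fun a b h => Subtype.ext (congrArg Subtype.val h :)
  have hsupp : ∀ g, g ∉ K → (χ : G → ℂ) g = 0 := by
    intro g hg
    simp only [K, Subgroup.mem_iInf, MonoidHom.mem_ker, not_forall] at hg
    obtain ⟨μ, hμ⟩ := hg
    by_contra h0
    refine hμ (Units.ext ?_)
    have h2 := hH μ.1 μ.2 g
    rw [mul_eq_left₀ h0] at h2
    exact h2
  have hsum := irr_inner_self χ.2
  rw [classInner_def, ← Finset.sum_filter_add_sum_filter_not _ (fun g => g ∈ K),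
    Finset.sum_eq_zero (s := Finset.univ.filter fun g => g ∉ K)
      (fun g hg => by rw [hsupp g (Finset.mem_filter.1 hg).2, zero_mul]), add_zero,
    inv_mul_eq_iff_eq_mul₀ (natCard_ne_zero G), mul_one] at hsum
  set d := Cfsg.charDegree (χ : G → ℂ)
  have h3 : (Nat.card G : ℝ) ≤ (Nat.card K : ℝ) * (d : ℝ) ^ 2 := by
    have h4 := congrArg (fun z : ℂ => ‖z‖) hsum
    simp only [Complex.norm_natCast] at h4
    rw [← h4]
    refine (norm_sum_le _ _).trans ((Finset.sum_le_sum (g := fun _ => (d : ℝ) ^ 2) fun g _ => ?_).trans ?_)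
    · rw [norm_mul, Complex.norm_conj, ← sq]
      exact pow_le_pow_left₀ (norm_nonneg _) (char_norm_le (isCharacter_of_isIrr χ.2) g) 2
    · rw [Finset.sum_const, nsmul_eq_mul, Nat.card_eq_fintype_card, ← Fintype.card_subtype]
  have h5 : Nat.card G ≤ Nat.card K * d ^ 2 := by exact_mod_cast h3
  rw [← K.card_mul_index] at h5
  exact h1.trans (Nat.le_of_mul_le_mul_left h5 Nat.card_pos)

/-- The linear characters of exponent two act on the irreducible characters. -/
noncomputable def act {G : Type u} [Group G] [Finite G] (L : Subgroup (G →* ℂˣ)) :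
    MulAction L (Cfsg.IrrCharacter G) where
  smul μ χ := ⟨fun g => (χ : G → ℂ) g * ((μ : G →* ℂˣ) g : ℂ), irr_mul_linear χ.2 μ.1⟩
  one_smul χ := Subtype.ext (funext fun g => by
    show (χ : G → ℂ) g * _ = _
    simp)
  mul_smul μ ν χ := Subtype.ext (funext fun g => by
    show (χ : G → ℂ) g * _ = (χ : G → ℂ) g * _ * _
    simp only [Subgroup.coe_mul, MonoidHom.mul_apply, Units.val_mul]
    ring)

theorem dvd_sum_of_orbits {L α : Type*} [Group L] [Fintype α] [MulAction L α] (F : α → ℤ)
    (M : ℤ) (hinv : ∀ (l : L) a, F (l • a) = F a)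
    (hdvd : ∀ a, M ∣ F a * (Nat.card (MulAction.orbit L a) : ℤ)) : M ∣ ∑ a, F a := by
  classical
  let π : α → MulAction.orbitRel.Quotient L α := fun a => Quotient.mk'' a
  rw [← Finset.sum_fiberwise_of_maps_to (s := Finset.univ) (t := Finset.univ.image π) (g := π)
    fun a ha => Finset.mem_image_of_mem π ha]
  refine Finset.dvd_sum fun o ho => ?_
  obtain ⟨a, -, rfl⟩ := Finset.mem_image.1 ho
  rw [Finset.sum_congr rfl (g := fun _ => F a) fun b hb => ?_, Finset.sum_const, nsmul_eq_mul,
    mul_comm]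
  · have hc : (Finset.univ.filter fun b => π b = π a).card = Nat.card (MulAction.orbit L a) := by
      rw [← Nat.card_eq_finsetCard]
      refine Nat.card_congr (Equiv.subtypeEquivRight fun b => ?_)
      simp only [Finset.mem_filter, Finset.mem_univ, true_and, π, Quotient.eq'']
      rfl
    rw [hc]
    exact hdvd a
  · obtain ⟨l, rfl⟩ : b ∈ MulAction.orbit L a := Quotient.eq''.1 (Finset.mem_filter.1 hb).2
    exact hinv l a

/-- Let G be a finite 2-group with #(G/Φ(G)) ≥ 2^(2k+1). Then the number of elements x of G with x² = 1 is divisible by 2^(k+1). -/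
theorem result {G : Type*} [Group G] [Finite G] (hG : IsPGroup 2 G) (k : ℕ)
    (hgen : 2 ^ (2 * k + 1) ≤ Nat.card (G ⧸ frattini G)) :
    2 ^ (k + 1) ∣ Nat.card {x : G // x ^ 2 = 1} := by
  classical
  haveI := Fintype.ofFinite G
  choose c hc using fun χ : Cfsg.IrrCharacter G => fs_int (isCharacter_of_isIrr χ.2)
  have hN : (Fintype.card G : ℂ) ≠ 0 := Nat.cast_ne_zero.2 Fintype.card_ne_zero
  -- the count
  have hcount : (Nat.card {x : G // x ^ 2 = 1} : ℤ) =
      ∑ χ : Cfsg.IrrCharacter G, c χ * (Cfsg.charDegree (χ : G → ℂ) : ℤ) := by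
    have h1 : ∀ g : G, ∑ χ : Cfsg.IrrCharacter G, (χ : G → ℂ) (g * g) *
        (Cfsg.charDegree (χ : G → ℂ) : ℂ) = if g ^ 2 = 1 then (Fintype.card G : ℂ) else 0 := by
      intro g
      have h := second_orth (g * g) 1
      simp only [irr_one_eq (Subtype.prop _), map_natCast] at h
      rw [h, pow_two]
      by_cases hg : g * g = 1
      · rw [if_pos hg, if_pos (by rw [hg]), hg, Nat.card_eq_fintype_card]
        have : Subgroup.centralizer ({1} : Set G) = ⊤ := by
          rw [eq_top_iff]; intro z _; simp [Subgroup.mem_centralizer_singleton_iff]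
        rw [← Nat.card_eq_fintype_card, this, Subgroup.card_top, Nat.card_eq_fintype_card]
      · rw [if_neg hg, if_neg fun h => hg (isConj_one_right.1 h.symm)]
    have h2 : (Fintype.card G : ℂ) * ((∑ χ : Cfsg.IrrCharacter G,
        c χ * (Cfsg.charDegree (χ : G → ℂ) : ℤ) : ℤ) : ℂ) =
        (Fintype.card G : ℂ) * (Nat.card {x : G // x ^ 2 = 1} : ℂ) := by
      push_cast
      rw [Finset.mul_sum]
      simp only [← mul_assoc, ← hc, Finset.sum_mul]
      rw [Finset.sum_comm]
      simp only [h1, Finset.sum_ite, Finset.sum_const_zero, add_zero, Finset.sum_const, nsmul_eq_mul]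
      rw [Nat.card_eq_fintype_card (α := {x : G // x ^ 2 = 1}), Fintype.card_subtype, mul_comm]
    exact_mod_cast (mul_left_cancel₀ hN h2).symm
  -- the quadratic linear characters
  let L : Subgroup (G →* ℂˣ) :=
    { carrier := {μ | frattini G ≤ μ.ker}
      one_mem' := fun x _ => rfl
      mul_mem' := fun {a b} ha hb x hx => by
        simp [MonoidHom.mem_ker, MonoidHom.mem_ker.1 (ha hx), MonoidHom.mem_ker.1 (hb hx)]
      inv_mem' := fun {a} ha x hx => by
        simp [MonoidHom.mem_ker, MonoidHom.mem_ker.1 (ha hx)] }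
  have hLcard : Nat.card L = Nat.card (G ⧸ frattini G) := by
    refine (card_hom_quotient (frattini G) fun a b => ?_).trans rfl
    obtain ⟨a, rfl⟩ := QuotientGroup.mk_surjective a
    obtain ⟨b, rfl⟩ := QuotientGroup.mk_surjective b
    rw [← QuotientGroup.mk_mul, ← QuotientGroup.mk_mul, QuotientGroup.eq]
    refine CfsgLib.Solv.commutator_le_frattini hG ?_
    rw [show (a * b)⁻¹ * (b * a) = ⁅b⁻¹, a⁻¹⁆ by rw [commutatorElement_def]; group]
    exact Subgroup.commutator_mem_commutator (Subgroup.mem_top _) (Subgroup.mem_top _)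
  haveI : Finite L := Nat.finite_of_card_ne_zero (hLcard.symm ▸ Nat.card_pos.ne')
  letI := act L
  obtain ⟨d, hd⟩ := IsPGroup.iff_card.1 hG
  obtain ⟨e, he1, he⟩ := (Nat.dvd_prime_pow Nat.prime_two).1
    (hd ▸ Subgroup.index_dvd_card (frattini G))
  have he2 : 2 * k + 1 ≤ e := (Nat.pow_le_pow_iff_right (le_refl 2)).1 (he ▸ hgen)
  have hmain : (2 : ℤ) ^ (k + 1) ∣
      ∑ χ : Cfsg.IrrCharacter G, c χ * (Cfsg.charDegree (χ : G → ℂ) : ℤ) := by
    have hdeg : ∀ (μ : L) (χ : Cfsg.IrrCharacter G),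
        Cfsg.charDegree ((μ • χ : Cfsg.IrrCharacter G) : G → ℂ) = Cfsg.charDegree (χ : G → ℂ) := by
      intro μ χ
      refine charDegree_eq ?_
      show (χ : G → ℂ) 1 * _ = _
      rw [map_one, Units.val_one, mul_one, irr_one_eq χ.2]
    have hinv : ∀ (μ : L) (χ : Cfsg.IrrCharacter G), c (μ • χ) = c χ := by
      intro μ χ
      have h1 : ∀ g : G, ((μ • χ : Cfsg.IrrCharacter G) : G → ℂ) (g * g) = (χ : G → ℂ) (g * g) := by
        intro g
        show (χ : G → ℂ) (g * g) * _ = _
        rw [MonoidHom.mem_ker.1 (μ.2 (by rw [← pow_two]; exact CfsgLib.Solv.pow_mem_frattini hG g)),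
          Units.val_one, mul_one]
      have h2 : (Fintype.card G : ℂ) * c (μ • χ) = (Fintype.card G : ℂ) * c χ := by
        rw [← hc, ← hc]
        exact Finset.sum_congr rfl fun g _ => h1 g
      exact_mod_cast mul_left_cancel₀ hN h2
    refine dvd_sum_of_orbits (L := L) _ _ (fun μ χ => by rw [hdeg, hinv]) fun χ => ?_
    obtain ⟨a, -, ha⟩ := (Nat.dvd_prime_pow Nat.prime_two).1 (hd ▸ degree_dvd_card χ.2)
    have horb : Nat.card (MulAction.orbit L χ) * Nat.card (MulAction.stabilizer L χ) = Nat.card L := by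
      rw [Nat.card_coe_set_eq, ← MulAction.index_stabilizer, Subgroup.index_mul_card]
    have hst : Nat.card (MulAction.stabilizer L χ) ≤ Cfsg.charDegree (χ : G → ℂ) ^ 2 := by
      refine le_of_eq_of_le ?_ (card_stab_le ((MulAction.stabilizer L χ).map L.subtype) ?_)
      · exact (Subgroup.card_map_of_injective L.subtype_injective).symm
      · rintro _ ⟨μ, hμ, rfl⟩ g
        exact congrFun (congrArg Subtype.val (MulAction.mem_stabilizer_iff.1 hμ)) g
    rw [hLcard, show Nat.card (G ⧸ frattini G) = 2 ^ e from he] at horb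
    obtain ⟨f, -, hf⟩ := (Nat.dvd_prime_pow Nat.prime_two).1 (Dvd.intro _ horb)
    rw [hf] at horb
    have hstc : Nat.card (MulAction.stabilizer L χ) = 2 ^ (e - f) := by
      have hfe : f ≤ e := (Nat.pow_dvd_pow_iff_le_right (le_refl 2)).1 (Dvd.intro _ horb)
      apply Nat.eq_of_mul_eq_mul_left (pow_pos two_pos f)
      rw [horb, ← pow_add, Nat.add_sub_cancel' hfe]
    rw [hstc, ha, ← pow_mul] at hst
    have hst' := (Nat.pow_le_pow_iff_right (le_refl 2)).1 hst
    rw [ha, hf, mul_assoc]
    refine Dvd.dvd.mul_left ?_ _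
    push_cast
    rw [← pow_add]
    exact pow_dvd_pow _ (by omega)
  rw [← hcount] at hmain
  exact_mod_cast hmain

end Cfsg.Agent.S4058
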