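import Cfsg.Statements.S4059


set_option autoImplicit false
set_option linter.style.haveILetI false
open Cfsg
open scoped commutatorElement

namespace Cfsg.Agent.S4059

theorem normal_closure_of_conj {G : Type*} [Group G] {S : Set G}
    (h : ∀ x ∈ S, ∀ g : G, g * x * g⁻¹ ∈ S) : (Subgroup.closure S).Normal :=
  ⟨fun n hn g => by
    induction hn using Subgroup.closure_induction with
    | mem x hx => exact Subgroup.subset_closure (h x hx g)
    | one => simpa using one_mem (Subgroup.closure S)
    | mul a b _ _ iha ihb =>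
      have e : g * (a * b) * g⁻¹ = g * a * g⁻¹ * (g * b * g⁻¹) := by group
      rw [e]; exact mul_mem iha ihb
    | inv a _ iha =>
      have e : g * a⁻¹ * g⁻¹ = (g * a * g⁻¹)⁻¹ := by group
      rw [e]; exact inv_mem iha⟩

/-- Let G be a finite group in which every element is conjugate to its inverse. Then: every non-identity element commuting with all elements of some Sylow 2-subgroup is an involution; the centre of G is an elementary abelian 2-group; the commutator quotient G/G' is an elementary abelian 2-group; and G is generated by its 2-elements. -/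
theorem result {G : Type*} [Group G] [Finite G] (hamb : ∀ x : G, IsConj x x⁻¹) :
    (∀ (S : Sylow 2 G) (x : G), x ∈ Subgroup.centralizer ((S : Subgroup G) : Set G) → x ≠ 1 → orderOf x = 2) ∧
    (∀ z : G, z ∈ Subgroup.center G → z ^ 2 = 1) ∧
    (∀ x : G, x ^ 2 ∈ commutator G) ∧
    Subgroup.closure {x : G | ∃ k : ℕ, orderOf x = 2 ^ k} = ⊤ := by
  have hinv : ∀ x : G, ∃ g : G, g * x * g⁻¹ = x⁻¹ := fun x => isConj_iff.1 (hamb x)
  refine ⟨?_, ?_, ?_, ?_⟩
  · intro S x hx hx1
    suffices hxx : x⁻¹ = x by
      refine orderOf_eq_prime ?_ hx1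
      rw [sq]; nth_rewrite 1 [← hxx]; exact inv_mul_cancel x
    obtain ⟨g, hg⟩ := hinv x
    by_contra hne
    set C := Subgroup.centralizer ({x} : Set G) with hC
    have hSC : (S : Subgroup G) ≤ C := fun s hs =>
      Subgroup.mem_centralizer_singleton_iff.2 (Subgroup.mem_centralizer_iff.1 hx s hs)
    let D : Subgroup G :=
      { carrier := {h | h * x * h⁻¹ = x ∨ h * x * h⁻¹ = x⁻¹}
        one_mem' := Or.inl (by simp)
        mul_mem' := by
          intro a b ha hb
          have e : a * b * x * (a * b)⁻¹ = a * (b * x * b⁻¹) * a⁻¹ := by group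
          have e2 : a * x⁻¹ * a⁻¹ = (a * x * a⁻¹)⁻¹ := by group
          simp only [Set.mem_setOf_eq] at ha hb ⊢
          rw [e]
          rcases hb with hb | hb <;> rw [hb]
          · exact ha
          · rw [e2]
            rcases ha with ha | ha <;> rw [ha]
            · exact Or.inr rfl
            · exact Or.inl (inv_inv x)
        inv_mem' := by
          intro a ha
          simp only [Set.mem_setOf_eq, inv_inv] at ha ⊢
          rcases ha with ha | ha
          · left; nth_rewrite 1 [← ha]; group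
          · right
            have e2 : x⁻¹ = (a * x * a⁻¹) := ha.symm
            apply inv_injective
            rw [inv_inv]
            calc (a⁻¹ * x * a)⁻¹ = a⁻¹ * x⁻¹ * a := by group
              _ = x := by rw [e2]; group }
    have hCD : C ≤ D := fun c hc => Or.inl (by
      rw [Subgroup.mem_centralizer_singleton_iff.1 hc, mul_inv_cancel_right])
    have hmemC : ∀ h, h ∈ C ↔ h * x * h⁻¹ = x := fun h => by
      rw [Subgroup.mem_centralizer_singleton_iff, mul_inv_eq_iff_eq_mul]
    have h2 : (C.subgroupOf D).index = 2 := by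
      rw [Subgroup.index_eq_two_iff]
      refine ⟨⟨g, Or.inr hg⟩, fun b => ?_⟩
      simp only [Subgroup.mem_subgroupOf, Subgroup.coe_mul, hmemC]
      have e : (b : G) * g * x * ((b : G) * g)⁻¹ = (b : G) * (g * x * g⁻¹) * (b : G)⁻¹ := by group
      have e2 : (b : G) * x⁻¹ * (b : G)⁻¹ = ((b : G) * x * (b : G)⁻¹)⁻¹ := by group
      rw [e, hg, e2]
      rcases b.2 with hb | hb
      · exact Or.inr ⟨hb, by rw [hb]; exact hne⟩
      · exact Or.inl ⟨by rw [hb, inv_inv], by rw [hb]; exact hne⟩
    have h3 : 2 ∣ C.index := by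
      have e : C.relIndex D = 2 := h2
      exact e ▸ Dvd.intro _ (Subgroup.relIndex_mul_index hCD)
    exact S.not_dvd_index (h3.trans (Subgroup.index_dvd_of_le hSC))
  · intro z hz
    obtain ⟨g, hg⟩ := hinv z
    rw [Subgroup.mem_center_iff.1 hz g, mul_inv_cancel_right] at hg
    rw [sq]; nth_rewrite 1 [hg]; exact inv_mul_cancel z
  · intro x
    obtain ⟨g, hg⟩ := hinv x
    have e : x ^ 2 = ⁅x, g⁆ := by
      have e1 : g * x⁻¹ * g⁻¹ = x := by
        have := congrArg (·⁻¹) hg
        simpa [mul_assoc] using this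
      rw [sq, commutatorElement_def]
      calc x * x = x * (g * x⁻¹ * g⁻¹) := by rw [e1]
        _ = _ := by group
    rw [e]
    exact Subgroup.commutator_mem_commutator (Subgroup.mem_top _) (Subgroup.mem_top _)
  · set K := Subgroup.closure {x : G | ∃ k : ℕ, orderOf x = 2 ^ k}
    haveI : K.Normal := normal_closure_of_conj fun x hx g => by
      obtain ⟨k, hk⟩ := hx
      exact ⟨k, by rw [← MulAut.conj_apply, MulEquiv.orderOf_eq, hk]⟩
    have hodd : ∀ q : G ⧸ K, Odd (orderOf q) := by
      intro q
      obtain ⟨g, rfl⟩ := QuotientGroup.mk_surjective q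
      obtain ⟨a, m, hm, he⟩ := Nat.exists_eq_pow_mul_and_not_dvd (orderOf_pos g).ne' 2 (by norm_num)
      have h1 : g ^ m ∈ K := by
        refine Subgroup.subset_closure ⟨a, ?_⟩
        rw [orderOf_pow g, he, Nat.gcd_mul_left_left, Nat.mul_div_cancel _ (by omega)]
      have h2 : orderOf (g : G ⧸ K) ∣ m :=
        orderOf_dvd_of_pow_eq_one (by rw [← QuotientGroup.mk_pow, QuotientGroup.eq_one_iff]; exact h1)
      exact (Nat.odd_iff.2 (by omega) : Odd m).of_dvd_nat h2
    rw [eq_top_iff]
    intro x _
    rw [← QuotientGroup.eq_one_iff (N := K)]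
    obtain ⟨g, hg⟩ := hinv x
    set q : G ⧸ K := (x : G ⧸ K)
    set r : G ⧸ K := (g : G ⧸ K)
    have h1 : r * q * r⁻¹ = q⁻¹ := by
      rw [← QuotientGroup.mk_inv, ← QuotientGroup.mk_inv, ← QuotientGroup.mk_mul,
        ← QuotientGroup.mk_mul, hg]
    have e2 : r * q⁻¹ * r⁻¹ = q := by
      have := congrArg (·⁻¹) h1
      simpa [mul_assoc] using this
    have h2 : Commute (r ^ 2) q := by
      show r ^ 2 * q = q * r ^ 2
      rw [← mul_inv_eq_iff_eq_mul, sq]
      calc r * r * q * (r * r)⁻¹ = r * (r * q * r⁻¹) * r⁻¹ := by group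
        _ = q := by rw [h1, e2]
    obtain ⟨m, hm⟩ := exists_pow_eq_self_of_coprime
      ((Nat.prime_two.coprime_iff_not_dvd.2 (Nat.not_even_iff_odd.2 (hodd r) |> fun h h' => h (even_iff_two_dvd.2 h'))))
    have h3 : Commute r q := hm ▸ h2.pow_left m
    have h4 : q = q⁻¹ := by rw [← h1, h3.eq, mul_inv_cancel_right]
    have h5 : orderOf q ∣ 2 :=
      orderOf_dvd_of_pow_eq_one (by rw [sq]; nth_rewrite 1 [h4]; exact inv_mul_cancel q)
    rcases (Nat.dvd_prime Nat.prime_two).1 h5 with h | h
    · exact orderOf_eq_one_iff.1 h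
    · exact absurd (hodd q) (by rw [h]; decide)

end Cfsg.Agent.S4059
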