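import Cfsg.Statements.S4060
import Cfsg.Agent.Solv.MinimalNormal
import Cfsg.Agent.Perm.Basic

set_option autoImplicit false
set_option linter.style.haveILetI false
open Cfsg

namespace Cfsg.Agent.S4060

/-- Let G be a finite solvable group with Sylow 2-subgroup S, and let x ≠ 1 be an element of odd order normalizing S. Then x is not conjugate to its inverse in G. -/
theorem result {G : Type*} [Group G] [Finite G] [Group.IsSolvable G]
    (S : Sylow 2 G) (x : G) (hx : x ≠ 1) (hodd : Odd (orderOf x))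
    (hnorm : x ∈ Subgroup.normalizer ((S : Subgroup G) : Set G)) : ¬ IsConj x x⁻¹ := by
  induction hn : Nat.card G using Nat.strong_induction_on generalizing G with
  | _ n ih =>
  intro hconj
  haveI : Fact (Nat.Prime 2) := ⟨Nat.prime_two⟩
  haveI : Nontrivial G := ⟨⟨x, 1, hx⟩⟩
  obtain ⟨M, hM⟩ := CfsgLib.Solv.exists_isMinimalNormal (G := G)
  haveI := hM.1
  have hxM : x ∈ M := by
    by_contra hxM
    have hlt : Nat.card (G ⧸ M) < n := hn ▸ CfsgLib.Solv.card_quotient_lt hM.2.1
    refine ih _ hlt (S.mapSurjective (QuotientGroup.mk'_surjective M)) (QuotientGroup.mk' M x)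
      (fun h => hxM ((QuotientGroup.eq_one_iff x).1 h)) (hodd.of_dvd_nat (orderOf_map_dvd _ x)) ?_ rfl ?_
    · rw [Sylow.coe_mapSurjective]
      exact Subgroup.le_normalizer_map _ (Subgroup.mem_map_of_mem _ hnorm)
    · have := (QuotientGroup.mk' M).map_isConj hconj
      rwa [map_inv] at this
  obtain ⟨r, hr, hexp, hMr⟩ := CfsgLib.Solv.exists_prime_exponent_of_minimal_solvable hM inferInstance
  have hcom : ∀ s ∈ (S : Subgroup G), x * s = s * x := by
    intro s hs
    have h1 : x * s * x⁻¹ * s⁻¹ ∈ (S : Subgroup G) :=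
      mul_mem ((Subgroup.mem_normalizer_iff.1 hnorm s).1 hs) (inv_mem hs)
    have h2 : x * s * x⁻¹ * s⁻¹ ∈ M := by
      rw [show x * s * x⁻¹ * s⁻¹ = x * (s * x⁻¹ * s⁻¹) by group]
      exact mul_mem hxM (Subgroup.Normal.conj_mem hM.1 _ (inv_mem hxM) s)
    obtain ⟨k, hk⟩ := S.2 ⟨_, h1⟩
    have hk' : (x * s * x⁻¹ * s⁻¹) ^ 2 ^ k = 1 := congrArg Subtype.val hk
    have hrx : orderOf x = r := haveI := Fact.mk hr; orderOf_eq_prime (hexp x hxM) hx
    have hr2 : r ≠ 2 := fun h => by rw [hrx, h] at hodd; exact absurd hodd (by decide)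
    have h3 : x * s * x⁻¹ * s⁻¹ = 1 := by
      rw [← orderOf_eq_one_iff]
      exact Nat.eq_one_of_dvd_coprimes (((Nat.coprime_primes Nat.prime_two hr).2 hr2.symm).pow_left k)
        (orderOf_dvd_of_pow_eq_one hk') (orderOf_dvd_of_pow_eq_one (hexp _ h2))
    rwa [mul_inv_eq_one, mul_inv_eq_iff_eq_mul] at h3
  set C := Subgroup.centralizer ({x} : Set G) with hC
  obtain ⟨g, hg⟩ := isConj_iff.1 hconj
  have hg' : g * g ∈ C := by
    rw [hC, Subgroup.mem_centralizer_singleton_iff]
    have h2 : g * g * x * (g * g)⁻¹ = x := by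
      calc g * g * x * (g * g)⁻¹ = g * (g * x * g⁻¹) * g⁻¹ := by group
        _ = g * x⁻¹ * g⁻¹ := by rw [hg]
        _ = (g * x * g⁻¹)⁻¹ := by group
        _ = x := by rw [hg, inv_inv]
    exact mul_inv_eq_iff_eq_mul.1 h2
  obtain ⟨a, m, hm, hd⟩ := Nat.exists_eq_two_pow_mul_odd (orderOf_pos g).ne'
  obtain ⟨j, rfl⟩ := hm
  set t := g ^ (2 * j + 1) with ht
  have ht1 : g * (g * g) ^ j = t := by rw [ht, pow_succ', pow_mul, sq]
  have htC : t ∉ C := by
    intro h
    rw [← ht1] at h
    have hgC : g ∈ C := (C.mul_mem_cancel_right (pow_mem hg' j)).1 h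
    rw [hC, Subgroup.mem_centralizer_singleton_iff] at hgC
    rw [hgC, mul_inv_cancel_right] at hg
    have h2 : orderOf x ∣ 2 := orderOf_dvd_of_pow_eq_one (by rw [sq]; exact mul_eq_one_iff_eq_inv.2 hg)
    rcases (Nat.dvd_prime Nat.prime_two).1 h2 with h4 | h4
    · exact hx (orderOf_eq_one_iff.1 h4)
    · rw [h4] at hodd; exact absurd hodd (by decide)
  have htp : t ^ 2 ^ a = 1 := by rw [ht, ← pow_mul, mul_comm, ← hd, pow_orderOf_eq_one]
  -- `C` contains a Sylow 2-subgroup
  have htN : Subgroup.zpowers t ≤ Subgroup.normalizer (C : Set G) := by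
    rw [Subgroup.zpowers_le]
    have htx : t * x * t⁻¹ = x⁻¹ := by
      have h5 : (g * g) ^ j * x = x * (g * g) ^ j :=
        Subgroup.mem_centralizer_singleton_iff.1 (pow_mem hg' j)
      rw [← ht1, mul_inv_rev]
      calc g * (g * g) ^ j * x * (((g * g) ^ j)⁻¹ * g⁻¹)
          = g * ((g * g) ^ j * x) * ((g * g) ^ j)⁻¹ * g⁻¹ := by group
        _ = _ := by rw [h5]; simpa [mul_assoc] using hg
    rw [Subgroup.mem_normalizer_iff]
    intro c
    rw [hC, Subgroup.mem_centralizer_singleton_iff, Subgroup.mem_centralizer_singleton_iff]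
    have hinv : ∀ u : G, u * x = x * u ↔ u * x⁻¹ = x⁻¹ * u := fun u =>
      Commute.inv_right_iff.symm
    rw [hinv (t * c * t⁻¹), ← htx]
    constructor
    · intro h
      calc t * c * t⁻¹ * (t * x * t⁻¹) = t * (c * x) * t⁻¹ := by group
        _ = t * (x * c) * t⁻¹ := by rw [h]
        _ = _ := by group
    · intro h
      have h' : t * (c * x) * t⁻¹ = t * (x * c) * t⁻¹ := by
        calc t * (c * x) * t⁻¹ = t * c * t⁻¹ * (t * x * t⁻¹) := by group
          _ = _ := h.trans (by group)
      exact mul_left_cancel (mul_right_cancel h')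
  set N := Subgroup.normalizer (C : Set G) with hN
  have hrel : C.relIndex (Subgroup.zpowers t) = 1 := by
    have h1 : C.relIndex (Subgroup.zpowers t) ∣ 2 ^ a := by
      refine (Subgroup.relIndex_dvd_card C (Subgroup.zpowers t)).trans ?_
      rw [Nat.card_zpowers]
      exact orderOf_dvd_of_pow_eq_one htp
    have h2 : C.relIndex (Subgroup.zpowers t) ∣ (S : Subgroup G).index := by
      haveI : (C.subgroupOf N).Normal := Subgroup.normal_in_normalizer
      rw [← Subgroup.relIndex_subgroupOf htN]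
      refine (Subgroup.relIndex_dvd_index_of_normal _ _).trans ?_
      refine (Subgroup.relIndex_dvd_index_of_le Subgroup.le_normalizer).trans ?_
      exact Subgroup.index_dvd_of_le (fun s hs => by
        rw [hC, Subgroup.mem_centralizer_singleton_iff]; exact (hcom s hs).symm)
    exact Nat.eq_one_of_dvd_coprimes
      ((Nat.prime_two.coprime_iff_not_dvd.2 S.not_dvd_index).pow_left a) h1 h2
  exact htC (Subgroup.relIndex_eq_one.1 hrel (Subgroup.mem_zpowers t))

end Cfsg.Agent.S4060
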