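import Mathlib
-- Template for statement S4061 (row 4061; see /opt/grader/pristine/manifest.json for weights).
-- Copy to Cfsg/Agent/S4061.lean and replace the sorry. The statement below is byte-identical to the frozen
-- statement Cfsg.CfsgFrozen.S4061 (Cfsg/Statements/S4061.lean; the theorem Cfsg.fg5_solvable_ambivalent_one_involution_class_sylow_two);
-- the grader kernel-checks Cfsg.Agent.S4061.result against that frozen type. Keep the theorem IN THIS FILE
-- (a `result` declared elsewhere and merely imported here is not credited); helpers may live anywhere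
-- under Cfsg/Agent/.
import Cfsg.Statements.S4061
import Cfsg.Agent.Solv.Basic
import Cfsg.Agent.Solv.UniqueSub
import Cfsg.Agent.Inv.DihedralSylow
-- import your own Cfsg.Agent.* helpers here

set_option autoImplicit false
open Cfsg
set_option linter.style.haveILetI false
set_option linter.unusedSectionVars false

namespace Cfsg.Agent.S4061

variable {G : Type*} [Group G] [Finite G]

theorem amb_quot (hamb : ∀ x : G, IsConj x x⁻¹) {H : Type*} [Group H] (f : G →* H) (hf : Function.Surjective f) :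
    ∀ y : H, IsConj y y⁻¹ := fun y => by
  obtain ⟨x, rfl⟩ := hf y
  have := f.map_isConj (hamb x)
  rwa [map_inv] at this

theorem exists_odd_part {r : ℕ} [Fact r.Prime] (g : G) : ∃ m : ℕ, ¬ r ∣ m ∧ ∃ k, orderOf (g ^ m) = r ^ k := by
  obtain ⟨k, m, hm, hkm⟩ := Nat.exists_eq_pow_mul_and_not_dvd (orderOf_pos g).ne' r (Fact.out : r.Prime).ne_one
  have hm0 : m ≠ 0 := fun e => hm (by rw [e]; exact dvd_zero r)
  refine ⟨m, hm, k, ?_⟩
  rw [orderOf_pow' _ hm0, hkm, Nat.gcd_eq_right (dvd_mul_left _ _), Nat.mul_div_cancel _ (Nat.pos_of_ne_zero hm0)]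

theorem conj_odd_pow {h b : G} (e : h * b * h⁻¹ = b⁻¹) {m : ℕ} (hm : Odd m) : h ^ m * b * (h ^ m)⁻¹ = b⁻¹ := by
  have e2 : h * h * b * (h * h)⁻¹ = b := by
    calc h * h * b * (h * h)⁻¹ = h * (h * b * h⁻¹) * h⁻¹ := by group
      _ = h * b⁻¹ * h⁻¹ := by rw [e]
      _ = (h * b * h⁻¹)⁻¹ := by group
      _ = b := by rw [e, inv_inv]
  have hc : Commute (h * h) b := mul_inv_eq_iff_eq_mul.1 e2
  obtain ⟨k, rfl⟩ := hm
  rw [pow_succ', pow_mul, pow_two]
  calc h * (h * h) ^ k * b * (h * (h * h) ^ k)⁻¹ = h * ((h * h) ^ k * b) * ((h * h) ^ k)⁻¹ * h⁻¹ := by group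
    _ = h * b * h⁻¹ := by rw [(hc.pow_left k).eq]; group
    _ = _ := e

/-- A solvable ambivalent group without odd core has at most one involution when they are all conjugate. -/
theorem unique_involution [Group.IsSolvable G] (hamb : ∀ x : G, IsConj x x⁻¹)
    (hO : Cfsg.pPrimeCore 2 G = ⊥) (hone : ∀ s t : G, orderOf s = 2 → orderOf t = 2 → IsConj s t) :
    ∀ s t : G, orderOf s = 2 → orderOf t = 2 → s = t := by
  classical
  haveI : Fact (Nat.Prime 2) := ⟨Nat.prime_two⟩
  intro s₁ t₁ hs₁ ht₁
  by_contra hne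
  haveI : Nontrivial G := ⟨s₁, t₁, hne⟩
  have hsol : Group.IsSolvable G := inferInstance
  -- last nontrivial derived subgroup
  have last : ∀ (H : Type _) [Group H] [Group.IsSolvable H] [Nontrivial H], ∃ A : Subgroup H,
      A.Normal ∧ A ≠ ⊥ ∧ ∀ a ∈ A, ∀ b ∈ A, Commute a b := by
    intro H _ hHs _
    have hex : ∃ n, derivedSeries H n = ⊥ := hHs.solvable
    have hk : Nat.find hex ≠ 0 := fun h0 => by
      have := Nat.find_spec hex
      rw [h0, derivedSeries_zero] at this
      exact top_ne_bot this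
    obtain ⟨k, hk'⟩ := Nat.exists_eq_succ_of_ne_zero hk
    refine ⟨derivedSeries H k, inferInstance, Nat.find_min hex (by omega), fun a ha b hb => ?_⟩
    have h1 := Subgroup.commutator_mem_commutator ha hb
    have h2 := Nat.find_spec hex
    rw [hk'] at h2
    rw [← derivedSeries_succ, h2, Subgroup.mem_bot] at h1
    exact commutatorElement_eq_one_iff_commute.1 h1
  obtain ⟨A, hAn, hA1, hAc⟩ := last G
  haveI := hAn
  -- the involutions of `A`
  let V : Subgroup G :=
    { carrier := {a | a ∈ A ∧ a * a = 1}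
      one_mem' := ⟨one_mem _, one_mul 1⟩
      mul_mem' := fun {x y} hx hy => ⟨mul_mem hx.1 hy.1, by
        rw [mul_assoc x y, ← mul_assoc y x, (hAc y hy.1 x hx.1).eq, mul_assoc x y y, hy.2, mul_one, hx.2]⟩
      inv_mem' := fun {x} hx => ⟨inv_mem hx.1, by rw [← mul_inv_rev, hx.2, inv_one]⟩ }
  haveI hVn : V.Normal := ⟨fun z hz g => ⟨hAn.conj_mem z hz.1 g, by
    calc g * z * g⁻¹ * (g * z * g⁻¹) = g * (z * z) * g⁻¹ := by group
      _ = 1 := by rw [hz.2, mul_one, mul_inv_cancel]⟩⟩
  have hA2 : 2 ∣ Nat.card A := by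
    by_contra hd
    exact hA1 (le_bot_iff.1 (hO ▸ CfsgLib.Solv.le_pPrimeCore (Nat.Coprime.symm (Nat.prime_two.coprime_iff_not_dvd.2 hd))))
  obtain ⟨⟨z, hzA⟩, hz⟩ := exists_prime_orderOf_dvd_card' 2 hA2
  rw [Subgroup.orderOf_mk] at hz
  have hzV : z ∈ V := ⟨hzA, by have := pow_orderOf_eq_one z; rwa [hz, pow_two] at this⟩
  have hinV : ∀ t : G, orderOf t = 2 → t ∈ V := fun t ht => by
    obtain ⟨g, hg⟩ := isConj_iff.1 (hone z t hz ht)
    exact hg ▸ hVn.conj_mem z hzV g
  have hVo : ∀ v ∈ V, v ≠ 1 → orderOf v = 2 := fun v hv h1 => orderOf_eq_prime (by rw [pow_two]; exact hv.2) h1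
  have hVc : ∀ a ∈ V, ∀ b ∈ V, Commute a b := fun a ha b hb => hAc a ha.1 b hb.1
  set C := Subgroup.centralizer (V : Set G)
  haveI hCn : C.Normal := inferInstance
  have hVC : V ≤ C := fun a ha => Subgroup.mem_centralizer_iff.2 fun b hb => hVc b hb a ha
  -- the next layer
  haveI : Nontrivial (G ⧸ C) := by
    refine QuotientGroup.nontrivial_iff.2 fun htop => hne ?_
    obtain ⟨g, hg⟩ := isConj_iff.1 (hone s₁ t₁ hs₁ ht₁)
    have : g ∈ C := htop ▸ Subgroup.mem_top g
    rw [← hg, ← Subgroup.mem_centralizer_iff.1 this s₁ (hinV s₁ hs₁), mul_inv_cancel_right]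
  obtain ⟨B, hBn, hB1, hBc⟩ := last (G ⧸ C)
  set B' := B.comap (QuotientGroup.mk' C)
  haveI hB'n : B'.Normal := hBn.comap _
  have hB'c : ∀ a ∈ B', ∀ b ∈ B', a⁻¹ * b⁻¹ * a * b ∈ C := fun a ha b hb => (QuotientGroup.eq_one_iff _).1 (by
    have hc := hBc _ ha _ hb
    show QuotientGroup.mk' C (a⁻¹ * b⁻¹ * a * b) = 1
    rw [map_mul, map_mul, map_mul, map_inv, map_inv, mul_assoc _ (QuotientGroup.mk' C a), hc.eq]
    group)
  let Stab : G → Subgroup G := fun v => B' ⊓ Subgroup.centralizer ({v} : Set G)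
  have hmemS : ∀ {g v : G}, g ∈ Stab v ↔ g ∈ B' ∧ Commute g v := fun {g v} => by
    simp only [Stab, Subgroup.mem_inf, Subgroup.mem_centralizer_singleton_iff]; rfl
  have hCB : C ≤ B' := fun c hc => by
    show QuotientGroup.mk' C c ∈ B
    rw [show QuotientGroup.mk' C c = 1 from (QuotientGroup.eq_one_iff c).2 hc]; exact one_mem _
  have hcard : ∀ v w : G, orderOf v = 2 → orderOf w = 2 → Nat.card (Stab v) = Nat.card (Stab w) := by
    intro v w hv hw
    obtain ⟨g, hg⟩ := isConj_iff.1 (hone v w hv hw)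
    refine Nat.card_congr ((MulAut.conj g).toEquiv.subtypeEquiv fun x => ?_)
    show x ∈ Stab v ↔ g * x * g⁻¹ ∈ Stab w
    rw [hmemS, hmemS, ← hg]
    refine and_congr ⟨fun h => hB'n.conj_mem x h g, fun h => ?_⟩ ⟨fun h => h.map (MulAut.conj g).toMonoidHom, fun h => ?_⟩
    · have := hB'n.conj_mem _ h g⁻¹
      simpa [mul_assoc] using this
    · have := h.map (MulAut.conj g⁻¹).toMonoidHom
      simpa [mul_assoc] using this
  have hle_eq : ∀ {v w : G}, orderOf v = 2 → orderOf w = 2 → Stab v ≤ Stab w → Stab v = Stab w :=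
    fun hv hw h => Subgroup.eq_of_le_of_card_ge h (hcard _ _ hv hw).ge
  -- a stabiliser acts on translates
  have hmove : ∀ a g v : G, orderOf v = 2 → a ∈ Stab v → g ∈ B' → Commute a (g * v * g⁻¹) := by
    intro a g v hv ha hg
    obtain ⟨haB, hav⟩ := hmemS.1 ha
    have h3 : Commute (g⁻¹ * a * g) v := by
      have hd := hB'c a haB g hg
      have hdv : Commute (a⁻¹ * g⁻¹ * a * g) v := (Subgroup.mem_centralizer_iff.1 hd v (hinV v hv)).symm
      have e2 : g⁻¹ * a * g = a * (a⁻¹ * g⁻¹ * a * g) := by group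
      rw [e2]; exact hav.mul_left hdv
    have := h3.map (MulAut.conj g).toMonoidHom
    simpa [mul_assoc] using this
  have hall : ∀ v w : G, orderOf v = 2 → orderOf w = 2 → Stab v = Stab w := by
    intro v w hv hw
    by_contra hvw
    have hne' : v ≠ w := fun e => hvw (e ▸ rfl)
    set u := v * w
    have huV : u ∈ V := mul_mem (hinV v hv) (hinV w hw)
    have hu : orderOf u = 2 := hVo u huV fun e => hne' (by
      have h5 := (hinV w hw).2
      calc v = v * (w * w) := by rw [h5, mul_one]
        _ = u * w := by simp only [u]; group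
        _ = w := by rw [e, one_mul])
    -- an element of the stabiliser of the product fixes both factors
    have hsub : Stab u ≤ Stab v ⊓ Stab w := by
      intro g hg
      obtain ⟨hgB, hgu⟩ := hmemS.1 hg
      have hgu' : g * v * g⁻¹ * (g * w * g⁻¹) = v * w := by
        calc g * v * g⁻¹ * (g * w * g⁻¹) = g * u * g⁻¹ := by simp only [u]; group
          _ = u := by rw [hgu.eq, mul_inv_cancel_right]
      set X := v * (g * v * g⁻¹) with hXdef
      have hgv : g * v * g⁻¹ ∈ V := hVn.conj_mem v (hinV v hv) g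
      have hgw : g * w * g⁻¹ ∈ V := hVn.conj_mem w (hinV w hw) g
      have hX2 : X = w * (g * w * g⁻¹) := by
        have a1 := (hVc _ hgv _ (hinV v hv)).eq
        calc X = g * v * g⁻¹ * v := by rw [hXdef, a1]
          _ = g * v * g⁻¹ * ((v * w) * w) := by rw [mul_assoc v w w, (hinV w hw).2, mul_one]
          _ = (g * v * g⁻¹ * (g * v * g⁻¹)) * (g * w * g⁻¹) * w := by rw [← hgu']; group
          _ = _ := by rw [hgv.2, one_mul]; exact (hVc _ hgw _ (hinV w hw)).eq
      by_cases hX : X = 1
      · have h1 : g * v * g⁻¹ = v := by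
          calc g * v * g⁻¹ = v * X := by rw [hXdef, ← mul_assoc, (hinV v hv).2, one_mul]
            _ = v := by rw [hX, mul_one]
        have h2 : g * w * g⁻¹ = w := by
          calc g * w * g⁻¹ = w * X := by rw [hX2, ← mul_assoc, (hinV w hw).2, one_mul]
            _ = w := by rw [hX, mul_one]
        exact ⟨hmemS.2 ⟨hgB, mul_inv_eq_iff_eq_mul.1 h1⟩, hmemS.2 ⟨hgB, mul_inv_eq_iff_eq_mul.1 h2⟩⟩
      · exfalso
        have hXo : orderOf X = 2 := hVo X (mul_mem (hinV v hv) hgv) hX
        have e1 : Stab v = Stab X := hle_eq hv hXo fun a ha => hmemS.2 ⟨(hmemS.1 ha).1,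
          (hmemS.1 ha).2.mul_right (hmove a g v hv ha hgB)⟩
        have e2 : Stab w = Stab X := hle_eq hw hXo fun a ha => hmemS.2 ⟨(hmemS.1 ha).1, by
          rw [hX2]; exact (hmemS.1 ha).2.mul_right (hmove a g w hw ha hgB)⟩
        exact hvw (e1.trans e2.symm)
    exact hvw ((hle_eq hu hv (hsub.trans inf_le_left)).symm.trans (hle_eq hu hw (hsub.trans inf_le_right)))
  have hfree : ∀ v : G, orderOf v = 2 → ∀ g ∈ B', Commute g v → g ∈ C := fun v hv g hg hgv =>
    Subgroup.mem_centralizer_iff.2 fun x hx => by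
      by_cases hx1 : x = 1
      · rw [hx1, one_mul, mul_one]
      · have h1 : g ∈ Stab x := hall v x hv (hVo x hx hx1) ▸ hmemS.2 ⟨hg, hgv⟩
        exact (hmemS.1 h1).2.eq.symm
  obtain ⟨q, hq, hq1⟩ := (Subgroup.bot_or_exists_ne_one B).resolve_left hB1
  obtain ⟨b₀, rfl⟩ := QuotientGroup.mk_surjective q
  have hb₀ : b₀ ∈ B' := hq
  have hb₀C : b₀ ∉ C := fun h => hq1 ((QuotientGroup.eq_one_iff _).2 h)
  -- some part of prime power order is outside `C`
  obtain ⟨r, hr, b, hbB, hbC, k, hk⟩ : ∃ r, r.Prime ∧ ∃ b ∈ B', b ∉ C ∧ ∃ k, orderOf b = r ^ k := by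
    by_contra hcon
    push Not at hcon
    apply hb₀C
    suffices H : ∀ n (g : G), orderOf g = n → g ∈ B' → g ∈ C from H _ b₀ rfl hb₀
    intro n
    induction n using Nat.recOnPrimeCoprime with
    | zero => intro g hg; exact absurd hg (orderOf_pos g).ne'
    | prime_pow p k hp => intro g hg hgB; exact by_contra fun hgC => hcon p hp g hgB hgC k hg
    | coprime a b ha hb hab iha ihb =>
      intro g hg hgB
      have o1 : orderOf (g ^ b) = a := by rw [orderOf_pow' g (by omega), hg, Nat.gcd_eq_right (dvd_mul_left _ _), Nat.mul_div_cancel _ (by omega)]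
      have o2 : orderOf (g ^ a) = b := by rw [orderOf_pow' g (by omega), hg, Nat.gcd_eq_right (dvd_mul_right _ _), Nat.mul_div_cancel_left _ (by omega)]
      have k1 := iha _ o1 (pow_mem hgB b)
      have k2 := ihb _ o2 (pow_mem hgB a)
      obtain ⟨u, v, huv⟩ := Int.isCoprime_iff_nat_coprime.2 (by simpa using hab : (a : ℤ).natAbs.Coprime (b : ℤ).natAbs)
      have : g = (g ^ a) ^ u * (g ^ b) ^ v := by
        rw [← zpow_natCast g a, ← zpow_natCast g b, ← zpow_mul, ← zpow_mul, ← zpow_add, mul_comm (a : ℤ), mul_comm (b : ℤ), huv, zpow_one]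
      rw [this]
      exact C.mul_mem (C.zpow_mem k2 _) (C.zpow_mem k1 _)
  haveI := Fact.mk hr
  by_cases hr2 : r = 2
  · subst hr2
    -- a two-element has a fixed involution
    set P := Subgroup.zpowers b
    have hP : IsPGroup 2 P := IsPGroup.of_card (n := k) (by rw [Nat.card_zpowers, hk])
    let X := {v : G // orderOf v = 2}
    letI : MulAction P X :=
      { smul := fun g v => ⟨(g : G) * v * (g : G)⁻¹, ((MulAut.conj (g : G)).orderOf_eq v.1).trans v.2⟩
        one_smul := fun v => Subtype.ext (show ((1 : P) : G) * v * ((1 : P) : G)⁻¹ = v by simp)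
        mul_smul := fun g h v => Subtype.ext (show ((g * h : P) : G) * v * ((g * h : P) : G)⁻¹ = g * (h * v * (h : G)⁻¹) * (g : G)⁻¹ by simp [mul_assoc]) }
    have hX : ¬ 2 ∣ Nat.card X := by
      have hVX : Nat.card V = Nat.card X + 1 := by
        let e : V ≃ Option X :=
          { toFun := fun v => if h : (v : G) = 1 then none else some ⟨v, hVo v v.2 h⟩
            invFun := fun o => match o with
              | none => 1
              | some x => ⟨x, hinV x x.2⟩
            left_inv := fun v => by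
              by_cases h : (v : G) = 1
              · simp [h, Subtype.ext_iff]
              · simp [h]
            right_inv := fun o => by
              rcases o with _ | x
              · simp
              · have : (x : G) ≠ 1 := fun e => by have := x.2; rw [e, orderOf_one] at this; omega
                simp [this] }
        rw [Nat.card_congr e, Finite.card_option]
      have hVp : IsPGroup 2 V := fun v => ⟨1, Subtype.ext (by simpa [pow_two] using v.2.2)⟩
      obtain ⟨j, hj⟩ := IsPGroup.iff_card.1 hVp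
      intro hd
      rw [hj] at hVX
      rcases j with _ | j
      · have := Nat.le_of_dvd (by
          haveI : Nonempty X := ⟨⟨s₁, hs₁⟩⟩
          exact Nat.card_pos) hd
        omega
      · rw [pow_succ] at hVX; omega
    obtain ⟨v, hv⟩ := hP.nonempty_fixed_point_of_prime_not_dvd_card X hX
    have h1 : b * (v : G) * b⁻¹ = v := congrArg Subtype.val (hv ⟨b, Subgroup.mem_zpowers b⟩)
    exact hbC (hfree v v.2 b hbB (mul_inv_eq_iff_eq_mul.1 h1))
  · obtain ⟨h, hh⟩ := isConj_iff.1 (hamb b)
    obtain ⟨m, hm, e, he⟩ := exists_odd_part (r := 2) h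
    have hh' := conj_odd_pow hh (Nat.odd_iff.2 (Nat.two_dvd_ne_zero.1 hm))
    set h' := h ^ m
    have hbodd : Odd (orderOf b) := by rw [hk]; exact (hr.odd_of_ne_two hr2).pow
    rcases e with _ | _ | e
    · -- no two-part: `b` is its own inverse
      have h9 : h' = 1 := orderOf_eq_one_iff.1 (by simpa using he)
      rw [h9, one_mul, inv_one, mul_one] at hh'
      have hb2 : b ^ 2 = 1 := by rw [pow_two]; nth_rewrite 1 [hh']; exact inv_mul_cancel b
      have h5 := Nat.dvd_one.1 ((Nat.coprime_two_left.2 hbodd) ▸ Nat.dvd_gcd (orderOf_dvd_of_pow_eq_one hb2) dvd_rfl)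
      rw [orderOf_eq_one_iff] at h5
      exact hbC (h5 ▸ one_mem C)
    · have h'C : h' ∈ C := hVC (hinV h' (by simpa using he))
      have h2 : b ^ 2 ∈ C := by
        have : b * h' * b⁻¹ * h'⁻¹ ∈ C := C.mul_mem (hCn.conj_mem h' h'C b) (C.inv_mem h'C)
        have e2 : b * h' * b⁻¹ * h'⁻¹ = b ^ 2 := by
          have : h' * b⁻¹ * h'⁻¹ = b := by
            calc h' * b⁻¹ * h'⁻¹ = (h' * b * h'⁻¹)⁻¹ := by group
              _ = b := by rw [hh', inv_inv]
          rw [mul_assoc b, mul_assoc b, this, pow_two]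
        rwa [e2] at this
      obtain ⟨l, hl⟩ := exists_pow_eq_self_of_coprime (x := b) (n := 2) (Nat.coprime_two_left.2 hbodd)
      exact hbC (hl ▸ pow_mem h2 l)
    · -- the involution in `⟨h'⟩` commutes with `b`
      have ho : orderOf (h' ^ 2 ^ (e + 1)) = 2 := by
        rw [orderOf_pow' _ (pow_ne_zero _ two_ne_zero), he, Nat.gcd_eq_right (pow_dvd_pow 2 (Nat.le_succ _)),
          Nat.pow_div (Nat.le_succ _) two_pos]
        simp
      have hc2 : Commute (h' * h') b := by
        refine mul_inv_eq_iff_eq_mul.1 ?_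
        calc h' * h' * b * (h' * h')⁻¹ = h' * (h' * b * h'⁻¹) * h'⁻¹ := by group
          _ = h' * b⁻¹ * h'⁻¹ := by rw [hh']
          _ = (h' * b * h'⁻¹)⁻¹ := by group
          _ = b := by rw [hh', inv_inv]
      have hc3 : Commute b (h' ^ 2 ^ (e + 1)) := by
        rw [pow_succ', pow_mul, pow_two]; exact (hc2.pow_left _).symm
      exact hbC (hfree _ ho b hbB hc3)


set_option maxHeartbeats 1000000 in
/-- Let G be a finite solvable group of even order in which every element is conjugate to its inverse and all involutions are conjugate. Then a Sylow 2-subgroup S of G has order 2 or is a generalized quaternion group (of order at least 8). Moreover, if S has order 2, then G is the semidirect product of its largest normal subgroup of odd order O(G) by S, O(G) equals the derived subgroup of G, and the involution of S inverts every element of O(G). -/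
theorem result {G : Type*} [Group G] [Finite G] [Group.IsSolvable G]
    (hamb : ∀ x : G, IsConj x x⁻¹) (heven : 2 ∣ Nat.card G) (hone : ∀ s t : G, orderOf s = 2 → orderOf t = 2 → IsConj s t) (S : Sylow 2 G) :
    (Nat.card S = 2 ∨ ∃ n : ℕ, Nonempty ((S : Subgroup G) ≃* QuaternionGroup (2 ^ (n + 1)))) ∧
    (Nat.card S = 2 → (S : Subgroup G).IsComplement' (Cfsg.oddCore G) ∧ Cfsg.oddCore G = commutator G ∧
        ∀ t : G, t ∈ S → t ≠ 1 → ∀ x : G, x ∈ Cfsg.oddCore G → t * x * t⁻¹ = x⁻¹) := by
  classical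
  haveI : Fact (Nat.Prime 2) := ⟨Nat.prime_two⟩
  set O := Cfsg.oddCore G
  haveI hOn : O.Normal := CfsgLib.Solv.pPrimeCore_normal G 2
  have hOodd : ∀ x ∈ O, Odd (orderOf x) := fun x hx => Nat.Coprime.odd_of_left
    (Nat.Coprime.coprime_dvd_left (Subgroup.orderOf_dvd_natCard O hx) (CfsgLib.Solv.pPrimeCore_coprime G 2)).symm
  set π := QuotientGroup.mk' O
  have hπs : Function.Surjective π := QuotientGroup.mk'_surjective O
  have hlift : ∀ v : G ⧸ O, orderOf v = 2 → ∃ g : G, orderOf g = 2 ∧ π g = v := by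
    intro v hv
    obtain ⟨g, rfl⟩ := hπs v
    obtain ⟨m, hm, k, hk⟩ := exists_odd_part (r := 2) g
    have hmo : Odd m := Nat.odd_iff.2 (Nat.two_dvd_ne_zero.1 hm)
    have hg' : π (g ^ m) = π g := by
      obtain ⟨j, rfl⟩ := hmo
      have h2 : π g ^ 2 = 1 := by rw [← hv]; exact pow_orderOf_eq_one _
      rw [map_pow, pow_succ, pow_mul, h2, one_pow, one_mul]
    refine ⟨g ^ m, orderOf_eq_prime ?_ (fun e => ?_), hg'⟩
    · have hmem : (g ^ m) ^ 2 ∈ O := (QuotientGroup.eq_one_iff _).1 (by
        show π ((g ^ m) ^ 2) = 1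
        rw [map_pow, hg', ← hv]; exact pow_orderOf_eq_one _)
      refine orderOf_eq_one_iff.1 ?_
      have h1 := hOodd _ hmem
      have h2 : orderOf ((g ^ m) ^ 2) ∣ 2 ^ k := hk ▸ orderOf_pow_dvd 2
      obtain ⟨j, -, hj⟩ := (Nat.dvd_prime_pow Nat.prime_two).1 h2
      rcases j with _ | j
      · simpa using hj
      · rw [hj] at h1; exact absurd (Nat.even_pow.2 ⟨even_two, j.succ_ne_zero⟩) (Nat.not_even_iff_odd.2 h1)
    · rw [← hg', e, map_one, orderOf_one] at hv; omega
  have huq : ∀ s t : G ⧸ O, orderOf s = 2 → orderOf t = 2 → s = t :=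
    unique_involution (amb_quot hamb π hπs) (CfsgLib.Solv.pPrimeCore_quotient_self) fun s t hs ht => by
      obtain ⟨a, ha, rfl⟩ := hlift s hs
      obtain ⟨b, hb, rfl⟩ := hlift t ht
      exact π.map_isConj (hone a b ha hb)
  have hS1 : ∀ x ∈ (S : Subgroup G), x ∈ O → x = 1 := fun x hx hxO => by
    obtain ⟨k, hk⟩ := IsPGroup.iff_orderOf.1 S.isPGroup' ⟨x, hx⟩
    rw [Subgroup.orderOf_mk] at hk
    rcases k with _ | k
    · exact orderOf_eq_one_iff.1 (by simpa using hk)
    · have h1 := hOodd x hxO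
      rw [hk] at h1
      exact absurd (Nat.even_pow.2 ⟨even_two, k.succ_ne_zero⟩) (Nat.not_even_iff_odd.2 h1)
  have himg : ∀ x : (S : Subgroup G), orderOf x = 2 → orderOf (π (x : G)) = 2 := fun x hx => by
    refine orderOf_eq_prime ?_ fun e => ?_
    · have h := congrArg Subtype.val (pow_orderOf_eq_one x)
      rw [hx] at h
      rw [← map_pow]
      simp only [SubgroupClass.coe_pow, OneMemClass.coe_one] at h
      rw [h, map_one]
    · have : x = 1 := Subtype.ext (hS1 x x.2 ((QuotientGroup.eq_one_iff _).1 e))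
      rw [this, orderOf_one] at hx; omega
  have hSu : ∀ x y : (S : Subgroup G), orderOf x = 2 → orderOf y = 2 → y ∈ Subgroup.zpowers x := fun x y hx hy => by
    have h1 : π (x : G) = π (y : G) := huq _ _ (himg x hx) (himg y hy)
    have h2 : (x : G)⁻¹ * y ∈ O := QuotientGroup.eq.1 h1
    have h3 : x = y := Subtype.ext (inv_mul_eq_one.1 (hS1 _ (mul_mem (inv_mem x.2) y.2) h2))
    exact h3 ▸ Subgroup.mem_zpowers x
  have hSnt : 2 ∣ Nat.card (S : Subgroup G) := S.dvd_card_of_dvd_card heven
  -- cyclic Sylow subgroups have order two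
  have hcycdata : IsCyclic (S : Subgroup G) → ∃ f : G →* (S : Subgroup G), Function.Surjective f ∧ Nat.card (S : Subgroup G) = 2 := by
    intro hc
    obtain ⟨⟨c, hcS⟩, hgen⟩ := hc.exists_generator
    have hcmem : ∀ y ∈ (S : Subgroup G), y ∈ Subgroup.zpowers c := fun y hy => by
      obtain ⟨i, hi⟩ := Subgroup.mem_zpowers_iff.1 (hgen ⟨y, hy⟩)
      exact ⟨i, congrArg Subtype.val hi⟩
    obtain ⟨k, hk⟩ := IsPGroup.iff_orderOf.1 S.isPGroup' ⟨c, hcS⟩
    rw [Subgroup.orderOf_mk] at hk
    have hNC : Subgroup.normalizer ((S : Subgroup G) : Set G) ≤ Subgroup.centralizer ((S : Subgroup G) : Set G) := by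
      intro n hn
      suffices hh : Commute n c from Subgroup.mem_centralizer_iff.2 fun y hy => by
        obtain ⟨i, rfl⟩ := Subgroup.mem_zpowers_iff.1 (hcmem y hy)
        exact (hh.zpow_right i).eq.symm
      obtain ⟨a, m, hm, ham⟩ := Nat.exists_eq_pow_mul_and_not_dvd (orderOf_pos n).ne' 2 (by norm_num)
      have hm0 : m ≠ 0 := fun e => hm (by rw [e]; exact dvd_zero 2)
      have hmo : Odd m := Nat.odd_iff.2 (Nat.two_dvd_ne_zero.1 hm)
      have hcp : Nat.Coprime (2 ^ a) m := Nat.Coprime.pow_left a (Nat.prime_two.coprime_iff_not_dvd.2 hm)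
      obtain ⟨u, v, huv⟩ := Int.isCoprime_iff_nat_coprime.2
        (by simpa using hcp : ((2 ^ a : ℕ) : ℤ).natAbs.Coprime (m : ℤ).natAbs)
      have e1 : n = (n ^ 2 ^ a) ^ u * (n ^ m) ^ v := by
        rw [← zpow_natCast, ← zpow_natCast n m, ← zpow_mul, ← zpow_mul, ← zpow_add, mul_comm _ u, mul_comm _ v, huv, zpow_one]
      have hodd : Odd (orderOf (n ^ 2 ^ a)) := by
        rw [orderOf_pow' _ (pow_ne_zero _ two_ne_zero), ham, Nat.gcd_eq_right (dvd_mul_right _ _), Nat.mul_div_cancel_left _ (by positivity)]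
        exact hmo
      have k1 : Commute (n ^ 2 ^ a) c := CfsgLib.Inv.commute_of_cyclic_two hodd k c hk
        (hcmem _ ((Subgroup.mem_normalizer_iff.1 (pow_mem hn _) c).1 hcS))
      have k2 : n ^ m ∈ (S : Subgroup G) := by
        set N := Subgroup.normalizer ((S : Subgroup G) : Set G)
        have hz : IsPGroup 2 (Subgroup.zpowers (⟨n ^ m, pow_mem hn m⟩ : N)) := IsPGroup.of_card (n := a) (by
          rw [Nat.card_zpowers, ← Subgroup.orderOf_coe, orderOf_pow' _ hm0, ham,
            Nat.gcd_eq_right (dvd_mul_left _ _), Nat.mul_div_cancel _ (Nat.pos_of_ne_zero hm0)])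
        haveI : ((S : Subgroup G).subgroupOf N).Normal := Subgroup.normal_in_normalizer
        obtain ⟨S', hS'⟩ := hz.exists_le_sylow
        let S'' : Sylow 2 N := S.subtype Subgroup.le_normalizer
        haveI := Sylow.unique_of_normal S'' this
        have h9 := hS' (Subgroup.mem_zpowers _)
        rw [Subsingleton.elim S' S''] at h9
        exact h9
      rw [e1]
      refine (k1.zpow_left u).mul_left (Commute.zpow_left ?_ v)
      obtain ⟨i, hi⟩ := Subgroup.mem_zpowers_iff.1 (hcmem _ k2)
      rw [← hi]; exact (Commute.refl c).zpow_left i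
    set f := MonoidHom.transferSylow S hNC
    have hpow : ∀ x : (S : Subgroup G), ((f x : (S : Subgroup G)) : G) = (x : G) ^ (S : Subgroup G).index := fun x =>
      congrArg Subtype.val (MonoidHom.transferSylow_eq_pow S hNC x x.2)
    have hinj : Function.Injective fun x : (S : Subgroup G) => f (x : G) := by
      intro x y e
      have e' := congrArg Subtype.val e
      simp only [hpow] at e'
      have hco : Nat.Coprime (Nat.card (S : Subgroup G)) (S : Subgroup G).index := S.card_coprime_index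
      exact (powCoprime hco).injective (Subtype.ext (by simpa using e'))
    have hsurj : Function.Surjective f := fun y => by
      obtain ⟨x, hx⟩ := (Finite.injective_iff_surjective.1 hinj) y
      exact ⟨x, hx⟩
    refine ⟨f, hsurj, ?_⟩
    have hinvol : ∀ y : (S : Subgroup G), y⁻¹ = y := fun y => by
      obtain ⟨g, hg⟩ := isConj_iff.1 (amb_quot hamb f hsurj y)
      letI := IsCyclic.commGroup (α := (S : Subgroup G))
      rw [mul_comm g, mul_inv_cancel_right] at hg
      exact hg.symm
    have hc2 : c ^ 2 = 1 := by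
      have := congrArg Subtype.val (hinvol ⟨c, hcS⟩)
      rw [pow_two]; nth_rewrite 1 [← show (c : G)⁻¹ = c from this]; exact inv_mul_cancel c
    have hle : Nat.card (S : Subgroup G) ≤ 2 := by
      have hz : (S : Subgroup G) ≤ Subgroup.zpowers c := hcmem
      refine (Subgroup.card_le_of_le hz).trans ?_
      rw [Nat.card_zpowers]; exact Nat.le_of_dvd two_pos (orderOf_dvd_of_pow_eq_one hc2)
    have := Nat.le_of_dvd Nat.card_pos hSnt
    omega
  refine ⟨?_, fun hS2 => ?_⟩
  · rcases CfsgLib.Solv.pgroup_unique_sub S.isPGroup' hSu with hc | ⟨-, n, hn⟩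
    · obtain ⟨f, -, h2⟩ := hcycdata hc; exact Or.inl h2
    · exact Or.inr ⟨n, hn⟩
  obtain ⟨f, hf, -⟩ := hcycdata (isCyclic_of_prime_card (p := 2) hS2)
  haveI : Fintype (S : Subgroup G) := Fintype.ofFinite _
  have hker : Nat.card f.ker * 2 = Nat.card G := by
    have h1 := f.ker.card_mul_index
    rwa [Subgroup.index_ker, f.range_eq_top.2 hf, Subgroup.card_top, hS2] at h1
  have hkodd : ¬ 2 ∣ Nat.card f.ker := fun hd => by
    have h1 : 2 ^ 2 ∣ Nat.card G := hker ▸ mul_dvd_mul hd dvd_rfl
    rw [Nat.prime_two.pow_dvd_iff_le_factorization Nat.card_pos.ne'] at h1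
    have h2 := S.card_eq_multiplicity
    rw [hS2] at h2
    have h3 : 2 ^ 2 ≤ 2 ^ (Nat.card G).factorization 2 := Nat.pow_le_pow_right two_pos h1
    omega
  have hkO : f.ker ≤ O := CfsgLib.Solv.le_pPrimeCore (Nat.Coprime.symm (Nat.prime_two.coprime_iff_not_dvd.2 hkodd))
  have hsq : ∀ g : G, g ∈ O ∨ ∃ s ∈ (S : Subgroup G), s ≠ 1 ∧ s * g ∈ O := by
    intro g
    by_cases h1 : f g = 1
    · exact Or.inl (hkO h1)
    · haveI : Nontrivial (S : Subgroup G) := Finite.one_lt_card_iff_nontrivial.1 (by rw [hS2]; norm_num)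
      obtain ⟨⟨w, hw⟩, hw1⟩ := exists_ne (1 : (S : Subgroup G))
      have hfw : f w ≠ 1 := fun e => hw1 (Subtype.ext (hS1 w hw (hkO e)))
      refine Or.inr ⟨w, hw, fun e => hw1 (Subtype.ext e), hkO ?_⟩
      show f (w * g) = 1
      rw [map_mul]
      have hall : ∀ a b : (S : Subgroup G), a ≠ 1 → b ≠ 1 → a * b = 1 := by
        intro a b ha hb
        have hh : a = b := by
          by_contra hab
          have h3 : ({1, a, b} : Finset (S : Subgroup G)).card = 3 := by
            rw [Finset.card_insert_of_notMem (by simp [Ne.symm ha, Ne.symm hb]), Finset.card_pair hab]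
          have := h3 ▸ Finset.card_le_univ ({1, a, b} : Finset (S : Subgroup G))
          rw [← Nat.card_eq_fintype_card, hS2] at this
          omega
        have h4 := pow_card_eq_one' (x := a)
        rw [hS2, pow_two] at h4
        rw [← hh, h4]
      exact hall _ _ hfw h1
  have hcompl : (S : Subgroup G).IsComplement' O := by
    refine Subgroup.isComplement'_of_disjoint_and_mul_eq_univ ?_ (Set.eq_univ_of_forall fun g => ?_)
    · rw [disjoint_iff_inf_le]; exact fun x hx => Subgroup.mem_bot.2 (hS1 x hx.1 hx.2)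
    · rcases hsq g with h | ⟨s, hs, -, hsg⟩
      · exact ⟨1, one_mem _, g, h, one_mul g⟩
      · exact ⟨s⁻¹, inv_mem hs, s * g, hsg, inv_mul_cancel_left s g⟩
  refine ⟨hcompl, le_antisymm (fun x hx => ?_) ?_, fun t ht ht1 x hx => ?_⟩
  · -- odd elements die in the abelian ambivalent quotient
    obtain ⟨g, hg⟩ := isConj_iff.1 (amb_quot hamb (QuotientGroup.mk' (commutator G)) (QuotientGroup.mk'_surjective _) x)
    set y := QuotientGroup.mk' (commutator G) x
    have hcom : g * y = y * g := by
      obtain ⟨g', rfl⟩ := QuotientGroup.mk'_surjective (commutator G) g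
      simp only [y, ← map_mul]
      exact QuotientGroup.eq.2 (by
        have := Subgroup.commutator_mem_commutator (Subgroup.mem_top x⁻¹) (Subgroup.mem_top g'⁻¹)
        rw [commutatorElement_def] at this
        show (g' * x)⁻¹ * (x * g') ∈ commutator G
        rw [commutator_def]
        simpa [mul_assoc] using this)
    change g * y * g⁻¹ = y⁻¹ at hg
    rw [hcom, mul_inv_cancel_right] at hg
    have h2 : y ^ 2 = 1 := by rw [pow_two]; nth_rewrite 1 [hg]; exact inv_mul_cancel y
    have h3 : orderOf y ∣ Nat.gcd 2 (orderOf x) := Nat.dvd_gcd (orderOf_dvd_of_pow_eq_one h2) (orderOf_map_dvd _ x)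
    rw [Nat.coprime_two_left.2 (hOodd x hx), Nat.dvd_one, orderOf_eq_one_iff] at h3
    exact (QuotientGroup.eq_one_iff x).1 h3
  · refine le_trans ?_ hkO
    rw [commutator_def, Subgroup.commutator_le]
    intro a _ b _
    rw [MonoidHom.mem_ker, map_commutatorElement, commutatorElement_eq_one_iff_commute]
    letI : IsCyclic (S : Subgroup G) := isCyclic_of_prime_card (p := 2) hS2
    letI := IsCyclic.commGroup (α := (S : Subgroup G))
    exact Commute.all _ _
  · -- fixed points of the involution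
    have hto : orderOf t = 2 := by
      have h1 := Subgroup.orderOf_dvd_natCard (S : Subgroup G) ht
      rw [hS2, Nat.dvd_prime Nat.prime_two] at h1
      exact h1.resolve_left fun e => ht1 (orderOf_eq_one_iff.1 e)
    have htt : t * t = 1 := by have := pow_orderOf_eq_one t; rwa [hto, pow_two] at this
    have htinv : t⁻¹ = t := inv_eq_of_mul_eq_one_right htt
    have hfix : ∀ u ∈ O, Commute t u → u = 1 := by
      intro u hu htu
      obtain ⟨h, hh⟩ := isConj_iff.1 (hamb (t * u))
      have hou := hOodd u hu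
      have key : ∀ i : ℕ, Odd i → (t * u) ^ i = t * u ^ i := fun i hi => by
        rw [htu.mul_pow]; obtain ⟨j, rfl⟩ := hi; rw [pow_succ, pow_mul, pow_two, htt, one_pow, one_mul]
      have h1 := congrArg (· ^ orderOf u) hh
      simp only [conj_pow, inv_pow, key _ hou, pow_orderOf_eq_one, mul_one, htinv] at h1
      have hht : Commute h t := mul_inv_eq_iff_eq_mul.1 h1
      rw [mul_inv_rev, htinv] at hh
      have h2 : h * u * h⁻¹ = u⁻¹ := by
        have e : h * (t * u) * h⁻¹ = t * (h * u * h⁻¹) := by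
          rw [← mul_assoc h t, hht.eq]; group
        rw [e, htu.inv_right.symm.eq] at hh
        exact mul_left_cancel hh
      -- an odd element inverting `u`
      obtain ⟨h', hh'O, hh'⟩ : ∃ h' ∈ O, h' * u * h'⁻¹ = u⁻¹ := by
        rcases hsq h with hO' | ⟨s, hs, hs1, hsh⟩
        · exact ⟨h, hO', h2⟩
        · have hst : s = t := by
            have := hSu ⟨s, hs⟩ ⟨t, ht⟩ (orderOf_eq_prime (Subtype.ext (by
              have h4 := congrArg Subtype.val (pow_card_eq_one' (x := (⟨s, hs⟩ : (S : Subgroup G))))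
              rwa [hS2] at h4)) (fun e => hs1 (congrArg Subtype.val e))) (by rw [Subgroup.orderOf_mk]; exact hto)
            obtain ⟨i, hi⟩ := Subgroup.mem_zpowers_iff.1 this
            have hi' : s ^ i = t := congrArg Subtype.val hi
            rcases Int.emod_two_eq i with e | e
            · exfalso
              rw [← zpow_mod_orderOf, show orderOf s = 2 by
                refine orderOf_eq_prime ?_ hs1
                have h4 := congrArg Subtype.val (pow_card_eq_one' (x := (⟨s, hs⟩ : (S : Subgroup G))))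
                rwa [hS2] at h4] at hi'
              simp [e] at hi'
              exact ht1 hi'.symm
            · rw [← zpow_mod_orderOf, show orderOf s = 2 by
                refine orderOf_eq_prime ?_ hs1
                have h4 := congrArg Subtype.val (pow_card_eq_one' (x := (⟨s, hs⟩ : (S : Subgroup G))))
                rwa [hS2] at h4] at hi'
              simpa [e] using hi'
          refine ⟨s * h, hsh, ?_⟩
          rw [hst]
          calc t * h * u * (t * h)⁻¹ = t * (h * u * h⁻¹) * t⁻¹ := by group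
            _ = u⁻¹ := by rw [h2, htu.inv_right.eq, mul_inv_cancel_right]
      have h5 := conj_odd_pow hh' (hOodd h' hh'O)
      rw [pow_orderOf_eq_one, one_mul, inv_one, mul_one] at h5
      have h6 : u ^ 2 = 1 := by rw [pow_two]; nth_rewrite 1 [h5]; exact inv_mul_cancel u
      have h7 : orderOf u ∣ Nat.gcd 2 (orderOf u) := Nat.dvd_gcd (orderOf_dvd_of_pow_eq_one h6) dvd_rfl
      rwa [Nat.coprime_two_left.2 hou, Nat.dvd_one, orderOf_eq_one_iff] at h7
    let φ : O → O := fun q => ⟨(q : G)⁻¹ * (t * q * t⁻¹), O.mul_mem (O.inv_mem q.2) (hOn.conj_mem q q.2 t)⟩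
    have hφ : Function.Injective φ := by
      intro a b e
      have e' : (a : G)⁻¹ * (t * a * t⁻¹) = (b : G)⁻¹ * (t * b * t⁻¹) := congrArg Subtype.val e
      have h1 : Commute t ((b : G) * (a : G)⁻¹) := by
        show t * ((b : G) * (a : G)⁻¹) = ((b : G) * (a : G)⁻¹) * t
        calc t * ((b : G) * (a : G)⁻¹) = ((b : G) * ((b : G)⁻¹ * (t * b * t⁻¹))) * (t * (a : G)⁻¹) := by group
          _ = ((b : G) * ((a : G)⁻¹ * (t * a * t⁻¹))) * (t * (a : G)⁻¹) := by rw [e']
          _ = _ := by group
      exact Subtype.ext (mul_inv_eq_one.1 (hfix _ (O.mul_mem b.2 (O.inv_mem a.2)) h1)).symm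
    obtain ⟨a, ha⟩ := (Finite.injective_iff_surjective.1 hφ) ⟨x, hx⟩
    have e : (a : G)⁻¹ * (t * a * t⁻¹) = x := congrArg Subtype.val ha
    rw [← e, htinv]
    calc t * ((a : G)⁻¹ * (t * a * t)) * t = (t * (a : G)⁻¹ * t) * a * (t * t) := by group
      _ = _ := by rw [htt, mul_one, mul_inv_rev, inv_inv, mul_inv_rev, mul_inv_rev, htinv]; group

end Cfsg.Agent.S4061
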