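import Cfsg.Statements.S4062

import Mathlib
import Cfsg.Agent.Solv.MinimalNormal

set_option autoImplicit false
set_option linter.style.haveILetI false
open Cfsg

namespace Cfsg.Agent.S4062

theorem s3_normal_top : ∀ τ : Equiv.Perm (Fin 3), τ * τ = 1 → τ ≠ 1 → ∀ σ : Equiv.Perm (Fin 3),
    ∃ g h : Equiv.Perm (Fin 3), σ = g * τ * g⁻¹ ∨ σ = g * τ * g⁻¹ * (h * τ * h⁻¹) := by decide +kernel

theorem s3_centralizer : ∀ τ σ : Equiv.Perm (Fin 3), τ ≠ 1 → σ * τ = τ * σ → σ = 1 ∨ σ = τ ∨ σ = τ * τ := by
  decide +kernel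

theorem s3_elt : ∀ n : ℕ, n = 2 ∨ n = 3 → ∃ τ : Equiv.Perm (Fin 3), τ ≠ 1 ∧ τ ^ n = 1 := by
  rintro n (rfl | rfl)
  · exact ⟨Equiv.swap 0 1, by decide, by decide⟩
  · exact ⟨Equiv.swap 0 1 * Equiv.swap 1 2, by decide, by decide⟩

/-- Equal orders conjugate passes to a quotient by a subgroup holding all elements of order `p`. -/
theorem quot {K : Type*} [Group K] [Finite K] (hK : ∀ x y : K, orderOf x = orderOf y → IsConj x y)
    {p : ℕ} (hp : p.Prime) {M : Subgroup K} [M.Normal] (hMp : ∀ x : K, x ∈ M ↔ x ^ p = 1) :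
    ∀ x y : K ⧸ M, orderOf x = orderOf y → IsConj x y := by
  intro X Y hXY
  set m := orderOf X with hm
  obtain ⟨a, rfl⟩ := QuotientGroup.mk_surjective X
  obtain ⟨b, rfl⟩ := QuotientGroup.mk_surjective Y
  have hord : ∀ c : K, orderOf (c : K ⧸ M) = m → orderOf c ∣ p * m := by
    intro c hc
    refine orderOf_dvd_of_pow_eq_one ?_
    rw [mul_comm, pow_mul]
    refine (hMp _).mp ?_
    rw [← QuotientGroup.eq_one_iff, QuotientGroup.mk_pow, ← hc, pow_orderOf_eq_one]
  by_cases hpm : p ∣ m
  · have hfull : ∀ c : K, orderOf (c : K ⧸ M) = m → orderOf c = p * m := by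
      intro c hc
      obtain ⟨u, hu⟩ : m ∣ orderOf c := hc ▸ orderOf_map_dvd (QuotientGroup.mk' M) c
      have hm0 : 0 < m := hm ▸ orderOf_pos _
      have hu' : u ∣ p := by
        have := hord c hc
        rw [hu, mul_comm p] at this
        exact Nat.dvd_of_mul_dvd_mul_left hm0 this
      rcases (Nat.dvd_prime hp).mp hu' with h1 | h1
      · exfalso
        rw [h1, mul_one] at hu
        obtain ⟨t, ht⟩ := hpm
        have hct : c ^ t ∈ M := (hMp _).mpr (by rw [← pow_mul, mul_comm, ← ht, ← hu, pow_orderOf_eq_one])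
        rw [← QuotientGroup.eq_one_iff, QuotientGroup.mk_pow, ← orderOf_dvd_iff_pow_eq_one, hc, ht] at hct
        have ht0 : 0 < t := Nat.pos_of_ne_zero fun h => hm0.ne' (by rw [ht, h, mul_zero])
        have h2 := Nat.le_of_dvd ht0 hct
        have := Nat.le_mul_of_pos_left t hp.pos
        have h3 : 2 * t ≤ p * t := Nat.mul_le_mul_right t hp.two_le
        omega
      · rw [hu, h1, mul_comm]
    exact (QuotientGroup.mk' M).map_isConj (hK a b (by rw [hfull a rfl, hfull b hXY.symm]))
  · obtain ⟨v, hv⟩ : ∃ v : ℕ, p * v ≡ 1 [MOD m] := by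
      rcases Nat.lt_or_ge 1 m with h1 | h1
      · obtain ⟨v, hv⟩ := Nat.exists_mul_mod_eq_one_of_coprime (hp.coprime_iff_not_dvd.mpr hpm) h1
        exact ⟨v, by rw [Nat.ModEq, hv.2, Nat.mod_eq_of_lt h1]⟩
      · have : m = 1 := by have := (hm ▸ orderOf_pos _ : 0 < m); omega
        exact ⟨1, by rw [this]; exact Nat.modEq_one⟩
    have hlift : ∀ c : K, orderOf (c : K ⧸ M) = m →
        orderOf ((c ^ p) ^ v) = m ∧ (((c ^ p) ^ v : K) : K ⧸ M) = c := by
      intro c hc
      have h2 : (((c ^ p) ^ v : K) : K ⧸ M) = c := by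
        rw [QuotientGroup.mk_pow, QuotientGroup.mk_pow, ← pow_mul]
        conv_rhs => rw [← pow_one (c : K ⧸ M)]
        exact pow_eq_pow_iff_modEq.mpr (hc.symm ▸ hv)
      refine ⟨Nat.dvd_antisymm ?_ ?_, h2⟩
      · refine orderOf_dvd_of_pow_eq_one ?_
        rw [← pow_mul, ← pow_mul, show p * (v * m) = p * m * v by ring, pow_mul,
          orderOf_dvd_iff_pow_eq_one.mp (hord c hc), one_pow]
      · have := orderOf_map_dvd (QuotientGroup.mk' M) ((c ^ p) ^ v)
        rwa [QuotientGroup.mk'_apply, h2, hc] at this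
    obtain ⟨ha1, ha2⟩ := hlift a rfl
    obtain ⟨hb1, hb2⟩ := hlift b hXY.symm
    have := (QuotientGroup.mk' M).map_isConj (hK _ _ (ha1.trans hb1.symm))
    rwa [QuotientGroup.mk'_apply, QuotientGroup.mk'_apply, ha2, hb2] at this

universe u
theorem main : ∀ (N : ℕ) (K : Type u) [Group K] [Finite K] [Group.IsSolvable K], Nat.card K = N →
    (∀ x y : K, orderOf x = orderOf y → IsConj x y) →
    Nat.card K = 1 ∨ Nat.card K = 2 ∨ Nonempty (K ≃* Equiv.Perm (Fin 3)) := by
  intro N
  induction N using Nat.strong_induction_on with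
  | _ N ih =>
  intro K _ _ _ hKN hK
  classical
  rcases subsingleton_or_nontrivial K with h1 | h1
  · exact Or.inl Nat.card_unique
  obtain ⟨M, p, hp, hMmin, hMc, hMexp, hMpg⟩ := CfsgLib.Solv.exists_minimal_normal_pGroup (G := K)
  haveI := hMmin.1
  haveI : Fact p.Prime := ⟨hp⟩
  obtain ⟨a, haM, ha1⟩ := M.bot_or_exists_ne_one.resolve_left hMmin.2.1
  have hoa : orderOf a = p := orderOf_eq_prime (hMexp a haM) ha1
  have hMp : ∀ x : K, x ∈ M ↔ x ^ p = 1 := by
    refine fun x => ⟨hMexp x, fun hx => ?_⟩
    by_cases hx1 : x = 1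
    · rw [hx1]; exact M.one_mem
    obtain ⟨g, hg⟩ := isConj_iff.mp (hK a x (by rw [hoa, orderOf_eq_prime hx hx1]))
    rw [← hg]; exact hMmin.1.conj_mem a haM g
  have hab : ∀ u ∈ M, ∀ w ∈ M, u * w = w * u := fun u hu w hw =>
    congrArg Subtype.val (hMc.is_comm.comm ⟨u, hu⟩ ⟨w, hw⟩)
  -- the conjugates of `a` are the non-identity elements of `M`
  have horb : ∀ b ∈ M, b ≠ 1 → (Subgroup.centralizer ({b} : Set K)).index + 1 = Nat.card M := by
    intro b hb hb1
    have hob : orderOf b = p := orderOf_eq_prime (hMexp b hb) hb1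
    have h2 : MulAction.orbit (ConjAct K) b = (M : Set K) \ {1} := by
      ext x
      rw [ConjAct.mem_orbit_conjAct, Set.mem_diff, Set.mem_singleton_iff]
      constructor
      · intro h
        obtain ⟨g, hg⟩ := isConj_iff.mp h.symm
        refine ⟨hg ▸ hMmin.1.conj_mem b hb g, fun h1 => hb1 ?_⟩
        rw [← hg, conj_eq_one_iff] at h1
        exact h1
      · rintro ⟨hx, hx1⟩
        exact (hK b x (by rw [hob, orderOf_eq_prime (hMexp x hx) hx1])).symm
    have h3 : Nat.card (MulAction.orbit (ConjAct K) b) = (Subgroup.centralizer ({b} : Set K)).index := by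
      rw [Nat.card_coe_set_eq, ← MulAction.index_stabilizer (ConjAct K) b, Subgroup.centralizer_eq_comap_stabilizer]
      exact (Subgroup.index_comap_of_surjective _ ConjAct.toConjAct.surjective).symm
    rw [← h3, Nat.card_coe_set_eq, h2, Set.ncard_diff (Set.singleton_subset_iff.mpr M.one_mem),
      Set.ncard_singleton, ← Nat.card_coe_set_eq]
    have : 0 < Nat.card M := Nat.card_pos
    show Nat.card M - 1 + 1 = Nat.card M
    omega
  have hMC : ∀ b ∈ M, M ≤ Subgroup.centralizer ({b} : Set K) := fun b hb u hu =>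
    Subgroup.mem_centralizer_singleton_iff.mpr (hab u hu b hb)
  have hdvd : Nat.card M - 1 ∣ M.index := by
    have := Subgroup.index_dvd_of_le (hMC a haM)
    rwa [show (Subgroup.centralizer ({a} : Set K)).index = Nat.card M - 1 by have := horb a haM ha1; omega] at this
  have hcard := M.card_eq_card_quotient_mul_card_subgroup
  have hM1 : 1 < Nat.card M := (Subgroup.one_lt_card_iff_ne_bot M).mpr hMmin.2.1
  obtain ⟨k, hk⟩ := IsPGroup.iff_card.mp hMpg
  have hlt : Nat.card (K ⧸ M) < N := by
    rw [← hKN, hcard]; exact lt_mul_of_one_lt_right Nat.card_pos hM1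
  -- a lift of an element of order `p` has order `p * p` and is not conjugate to all its powers
  have hlift : ∀ X : K ⧸ M, X ≠ 1 → X ^ p = 1 → Nat.card M = p →
      (∀ Z : K ⧸ M, Z * X = X * Z → ∃ i : ℕ, Z = X ^ i) → False := by
    intro X hX1 hXp hMcard hcent
    obtain ⟨y, rfl⟩ := QuotientGroup.mk_surjective X
    have hyM : y ∉ M := fun h => hX1 ((QuotientGroup.eq_one_iff _).mpr h)
    have hypM : y ^ p ∈ M := by rwa [← QuotientGroup.eq_one_iff, QuotientGroup.mk_pow]
    have hyp1 : y ^ p ≠ 1 := fun h => hyM ((hMp y).mpr h)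
    have hMz : Subgroup.zpowers (y ^ p) = M := Subgroup.eq_of_le_of_card_ge (Subgroup.zpowers_le.mpr hypM)
      (by rw [Nat.card_zpowers, orderOf_eq_prime (hMexp _ hypM) hyp1, hMcard])
    have hdv : orderOf y ∣ p ^ 2 := orderOf_dvd_of_pow_eq_one (by rw [pow_two, pow_mul, hMexp _ hypM])
    have hcop : (orderOf y).Coprime (1 + p) := Nat.Coprime.coprime_dvd_left hdv
      (Nat.Coprime.pow_left 2 (hp.coprime_iff_not_dvd.mpr fun h => by
        have := (Nat.dvd_add_left dvd_rfl).mp h
        exact hp.not_dvd_one this))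
    obtain ⟨g, hg⟩ := isConj_iff.mp (hK y (y ^ (1 + p)) (Nat.Coprime.orderOf_pow hcop).symm)
    have hgc : (g : K ⧸ M) * y = (y : K ⧸ M) * g := by
      have := congrArg (QuotientGroup.mk' M) hg
      rw [map_mul, map_mul, map_inv, map_pow, QuotientGroup.mk'_apply, QuotientGroup.mk'_apply, pow_add,
        pow_one, hXp, mul_one, mul_inv_eq_iff_eq_mul] at this
      exact this
    obtain ⟨i, hi⟩ := hcent _ hgc
    rw [← QuotientGroup.mk_pow, eq_comm, QuotientGroup.eq] at hi
    rw [← hMz] at hi
    obtain ⟨j, hj⟩ := Subgroup.mem_zpowers_iff.mp hi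
    have hgy : Commute g y := by
      rw [show g = y ^ i * (y ^ p) ^ j by rw [hj, mul_inv_cancel_left]]
      exact ((Commute.refl y).pow_left i).mul_left (((Commute.refl y).pow_left p).zpow_left j)
    rw [hgy.eq, mul_inv_cancel_right, pow_add, pow_one] at hg
    exact hyp1 (mul_eq_left.mp hg.symm)
  rcases ih _ hlt (K ⧸ M) rfl (quot hK hp hMp) with hq | hq | ⟨⟨e⟩⟩
  · -- `K = M` is abelian
    refine Or.inr (Or.inl ?_)
    have hidx : M.index = 1 := by rw [Subgroup.index, hq]
    rw [hidx, Nat.dvd_one] at hdvd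
    rw [hcard, hq, one_mul]; omega
  · have hidx : M.index = 2 := by rw [Subgroup.index, hq]
    rw [hidx] at hdvd
    have hM23 : Nat.card M = 2 ∨ Nat.card M = 3 := by
      have := Nat.le_of_dvd two_pos hdvd; omega
    rcases hM23 with hM2 | hM3
    · exfalso
      have hp2 : p = 2 := ((Nat.prime_dvd_prime_iff_eq hp Nat.prime_two).mp
        (hM2 ▸ hoa ▸ Subgroup.orderOf_dvd_natCard M haM))
      subst hp2
      haveI : Nontrivial (K ⧸ M) := Finite.one_lt_card_iff_nontrivial.mp (by rw [hq]; norm_num)
      obtain ⟨X, hX⟩ := exists_ne (1 : K ⧸ M)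
      refine hlift X hX (by rw [← hq]; exact pow_card_eq_one') hM2 fun Z _ => ?_
      by_cases hZ : Z = 1
      · exact ⟨0, by rw [hZ, pow_zero]⟩
      · refine ⟨1, ?_⟩
        rw [pow_one]
        obtain ⟨u, w, _, huniv⟩ := Nat.card_eq_two_iff.mp hq
        have hm : ∀ W : K ⧸ M, W = u ∨ W = w := fun W => by
          have := Set.mem_univ W; rw [← huniv] at this; simpa using this
        rcases hm Z with h | h <;> rcases hm X with h' | h' <;> rcases hm 1 with h'' | h'' <;>
          first | exact h.trans h'.symm | exact absurd (h.trans h''.symm) hZ | exact absurd (h'.trans h''.symm) hX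
    · right; right
      have hp3 : p = 3 := ((Nat.prime_dvd_prime_iff_eq hp Nat.prime_three).mp
        (hM3 ▸ hoa ▸ Subgroup.orderOf_dvd_natCard M haM))
      subst hp3
      have hK6 : Nat.card K = 6 := by rw [hcard, hq, hM3]
      haveI : Fact (Nat.Prime 2) := ⟨Nat.prime_two⟩
      obtain ⟨t, ht⟩ := exists_prime_orderOf_dvd_card' (G := K) 2 (by rw [hK6]; norm_num)
      have htidx : (Subgroup.zpowers t).index = 3 := by
        have := (Subgroup.zpowers t).card_mul_index
        rw [Nat.card_zpowers, ht, hK6] at this; omega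
      have hcore : (Subgroup.zpowers t).normalCore = ⊥ := by
        by_contra hne
        have heq : (Subgroup.zpowers t).normalCore = Subgroup.zpowers t := by
          refine Subgroup.eq_of_le_of_card_ge (Subgroup.normalCore_le _) ?_
          have := Subgroup.card_dvd_of_le (Subgroup.normalCore_le (Subgroup.zpowers t))
          rw [Nat.card_zpowers, ht] at this ⊢
          rcases (Nat.dvd_prime Nat.prime_two).mp this with h | h
          · exact absurd (Subgroup.card_eq_one.mp h) hne
          · omega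
        haveI : (Subgroup.zpowers t).Normal := heq ▸ Subgroup.normalCore_normal _
        have hdis : Disjoint M (Subgroup.zpowers t) := disjoint_iff.mpr (Subgroup.inf_eq_bot_of_coprime
          (by rw [hM3, Nat.card_zpowers, ht]; norm_num))
        have hta := Subgroup.commute_of_normal_of_disjoint _ _ (inferInstance : M.Normal)
          (inferInstance : (Subgroup.zpowers t).Normal) hdis a t haM (Subgroup.mem_zpowers t)
        have hca : Subgroup.centralizer ({a} : Set K) = ⊤ := by
          refine Subgroup.eq_top_of_card_eq _ (Nat.dvd_antisymm (Subgroup.card_subgroup_dvd_card _) ?_)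
          rw [hK6, show (6 : ℕ) = 2 * 3 from rfl]
          refine Nat.Coprime.mul_dvd_of_dvd_of_dvd (by norm_num) ?_ (hM3 ▸ Subgroup.card_dvd_of_le (hMC a haM))
          exact ht ▸ Subgroup.orderOf_dvd_natCard _ (Subgroup.mem_centralizer_singleton_iff.mpr hta.symm.eq)
        have := horb a haM ha1
        rw [hca, Subgroup.index_top, hM3] at this
        omega
      let φ := MulAction.toPermHom K (K ⧸ Subgroup.zpowers t)
      have hinj : Function.Injective φ := by
        rw [← MonoidHom.ker_eq_bot_iff, ← hcore, Subgroup.normalCore_eq_ker]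
      haveI := Fintype.ofFinite (K ⧸ Subgroup.zpowers t)
      have hc3 : Fintype.card (K ⧸ Subgroup.zpowers t) = 3 := by rw [← Nat.card_eq_fintype_card, ← Subgroup.index, htidx]
      let ε : Equiv.Perm (K ⧸ Subgroup.zpowers t) ≃* Equiv.Perm (Fin 3) :=
        (Fintype.equivFinOfCardEq hc3).permCongrHom
      refine ⟨MulEquiv.ofBijective (ε.toMonoidHom.comp φ) ?_⟩
      refine (Nat.bijective_iff_injective_and_card _).mpr ⟨ε.injective.comp hinj, ?_⟩
      rw [hK6, Nat.card_eq_fintype_card, Fintype.card_perm, Fintype.card_fin]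
      rfl
  · exfalso
    have hidx : M.index = 6 := by
      rw [Subgroup.index, Nat.card_congr e.toEquiv, Nat.card_eq_fintype_card, Fintype.card_perm, Fintype.card_fin]
      rfl
    rw [hidx] at hdvd
    have hMk : Nat.card M = 2 ∨ Nat.card M = 3 ∨ Nat.card M = 4 ∨ Nat.card M = 7 := by
      have := Nat.le_of_dvd (by norm_num) hdvd
      have hb : Nat.card M ≤ 7 := by omega
      interval_cases hc : Nat.card M <;> first | omega | norm_num at hdvd ⊢
    have hsmall : Nat.card M = 2 ∨ Nat.card M = 3 → False := by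
      intro hc
      have hcp : Nat.card M = p := by
        rcases hc with h | h
        · rw [h]; exact ((Nat.prime_dvd_prime_iff_eq hp Nat.prime_two).mp (h ▸ hoa ▸ Subgroup.orderOf_dvd_natCard M haM)).symm
        · rw [h]; exact ((Nat.prime_dvd_prime_iff_eq hp Nat.prime_three).mp (h ▸ hoa ▸ Subgroup.orderOf_dvd_natCard M haM)).symm
      obtain ⟨τ, hτ1, hτp⟩ := s3_elt p (hcp ▸ hc)
      refine hlift (e.symm τ) (fun h => hτ1 (by simpa using congrArg e h)) (by rw [← map_pow, hτp, map_one]) hcp fun Z hZ => ?_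
      have hZ' : e Z * τ = τ * e Z := by simpa using congrArg e hZ
      rcases s3_centralizer τ (e Z) hτ1 hZ' with h | h | h
      · exact ⟨0, e.injective (by simp [h])⟩
      · exact ⟨1, e.injective (by simp [h])⟩
      · exact ⟨2, e.injective (by simp [h, pow_two])⟩
    rcases hMk with h | h | h | h
    · exact hsmall (Or.inl h)
    · exact hsmall (Or.inr h)
    · -- four
      have hp2 : p = 2 := (Nat.prime_dvd_prime_iff_eq hp Nat.prime_two).mp
        (hp.dvd_of_dvd_pow (show p ∣ 2 ^ 2 from by
          rw [show (2 : ℕ) ^ 2 = 4 from rfl, ← h, ← hoa]; exact Subgroup.orderOf_dvd_natCard M haM))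
      subst hp2
      set τ : Equiv.Perm (Fin 3) := Equiv.swap 0 1 with hτ
      have hτ1 : τ ≠ 1 := by decide
      have hτ2 : τ * τ = 1 := by decide
      obtain ⟨y, hy⟩ := QuotientGroup.mk_surjective (e.symm τ)
      have hyM : y ∉ M := fun hm => hτ1 (by
        rw [← QuotientGroup.eq_one_iff, hy] at hm; simpa using congrArg e hm)
      have hy2M : y * y ∈ M := by
        rw [← QuotientGroup.eq_one_iff, QuotientGroup.mk_mul, hy, ← map_mul, hτ2, map_one]
      obtain ⟨w, hwM, hwy⟩ : ∃ w ∈ M, y * w * y⁻¹ ≠ w := by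
        by_contra hcon
        push Not at hcon
        set C := Subgroup.centralizer (M : Set K) with hC
        haveI : C.Normal := ⟨fun c hc g => by
          rw [hC, Subgroup.mem_centralizer_iff] at hc ⊢
          intro u hu
          have hu' : g⁻¹ * u * g ∈ M := by simpa using hMmin.1.conj_mem u hu g⁻¹
          calc u * (g * c * g⁻¹) = g * ((g⁻¹ * u * g) * c) * g⁻¹ := by group
            _ = g * (c * (g⁻¹ * u * g)) * g⁻¹ := by rw [hc _ hu']
            _ = g * c * g⁻¹ * u := by group⟩
        have hyC : y ∈ C := Subgroup.mem_centralizer_iff.mpr fun u hu => by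
          have := hcon u hu
          rw [mul_inv_eq_iff_eq_mul] at this
          exact this.symm
        have hall : ∀ g : K, g ∈ C := by
          intro g
          obtain ⟨u, w, huw⟩ := s3_normal_top τ hτ2 hτ1 (e g)
          obtain ⟨u', hu'⟩ := QuotientGroup.mk_surjective (e.symm u)
          obtain ⟨w', hw'⟩ := QuotientGroup.mk_surjective (e.symm w)
          have key : ∀ c ∈ C, (g : K ⧸ M) = c → g ∈ C := fun c hc hgc => by
            rw [eq_comm, QuotientGroup.eq] at hgc
            have hsub : M ≤ C := fun u hu => Subgroup.mem_centralizer_iff.mpr fun v hv => hab v hv u hu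
            simpa using C.mul_mem hc (hsub hgc)
          rcases huw with hh | hh
          · refine key _ ((inferInstance : C.Normal).conj_mem y hyC u') (e.injective ?_)
            simp [hu', hy, hh]
          · refine key _ (C.mul_mem ((inferInstance : C.Normal).conj_mem y hyC u')
              ((inferInstance : C.Normal).conj_mem y hyC w')) (e.injective ?_)
            simp [hu', hw', hy, hh]
        have := horb a haM ha1
        rw [show Subgroup.centralizer ({a} : Set K) = ⊤ from eq_top_iff.mpr fun g _ =>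
          Subgroup.mem_centralizer_singleton_iff.mpr (Subgroup.mem_centralizer_iff.mp (hall g) a haM).symm,
          Subgroup.index_top, h] at this
        omega
      set v := y * y with hv
      set w' := y * w * y⁻¹ with hw'
      have hw'M : w' ∈ M := hMmin.1.conj_mem w hwM y
      have hsq : ∀ u ∈ M, u * u = 1 := fun u hu => by rw [← pow_two]; exact hMexp u hu
      have hv1 : v ≠ 1 := fun h1 => hyM ((hMp y).mpr (by rw [pow_two]; exact h1))
      have hvy : y * v * y⁻¹ = v := by rw [hv]; group
      have hw1 : w ≠ 1 := fun h1 => hwy (by rw [hw', h1]; group)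
      have hvw : v ≠ w := fun h1 => hwy ((congrArg (fun u => y * u * y⁻¹) h1.symm).trans (hvy.trans h1))
      have hw'1 : w' ≠ 1 := fun h1 => hw1 (conj_eq_one_iff.mp h1)
      have hvw' : v ≠ w' := fun h1 => hvw (by rw [← hvy, hw'] at h1; simpa using h1)
      have hprod : w' * w = v := by
        by_contra hne
        haveI := Fintype.ofFinite M
        have h5 : Fintype.card M = 4 := by rw [← Nat.card_eq_fintype_card]; exact h
        have h6 : ({1, ⟨v, hy2M⟩, ⟨w, hwM⟩, ⟨w', hw'M⟩, ⟨w' * w, M.mul_mem hw'M hwM⟩} : Finset M).card ≤ 4 :=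
          h5 ▸ Finset.card_le_univ _
        have e0 : w' * w ≠ 1 := fun h1 => hwy ((mul_eq_one_iff_eq_inv.mp h1).trans (inv_eq_of_mul_eq_one_right (hsq w hwM)))
        have e1 : w' * w ≠ w := fun h1 => hw'1 (mul_eq_right.mp h1)
        have e2 : w' * w ≠ w' := fun h1 => hw1 (mul_eq_left.mp h1)
        rw [Finset.card_insert_of_notMem, Finset.card_insert_of_notMem, Finset.card_insert_of_notMem,
          Finset.card_insert_of_notMem, Finset.card_singleton] at h6
        · omega
        all_goals simp only [Finset.mem_insert, Finset.mem_singleton, Subtype.ext_iff, Subgroup.coe_one, not_or]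
        · exact fun h1 => e2 h1.symm
        · exact ⟨fun h1 => hwy h1.symm, fun h1 => e1 h1.symm⟩
        · exact ⟨hvw, hvw', fun h1 => hne h1.symm⟩
        · exact ⟨fun h1 => hv1 h1.symm, fun h1 => hw1 h1.symm, fun h1 => hw'1 h1.symm, fun h1 => e0 h1.symm⟩
      have hyw : (y * w) * (y * w) = 1 := by
        calc (y * w) * (y * w) = (y * w * y⁻¹) * v * w := by rw [hv]; group
          _ = v * (w' * w) := by rw [← hw', hab w' hw'M v hy2M, mul_assoc]
          _ = 1 := by rw [hprod]; exact hsq v hy2M
      have := (hMp (y * w)).mpr (by rw [pow_two]; exact hyw)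
      exact hyM ((Subgroup.mul_mem_cancel_right M hwM).mp this)
    · -- seven
      have hp7 : Nat.card M = p := by
        rw [h]
        exact ((Nat.prime_dvd_prime_iff_eq hp (by norm_num : Nat.Prime 7)).mp (h ▸ hoa ▸ Subgroup.orderOf_dvd_natCard M haM)).symm
      have hMa : Subgroup.zpowers a = M := Subgroup.eq_of_le_of_card_ge (Subgroup.zpowers_le.mpr haM)
        (by rw [Nat.card_zpowers, hoa, hp7])
      have hpow : ∀ g : K, ∃ i : ℤ, g * a * g⁻¹ = a ^ i := fun g => by
        obtain ⟨i, hi⟩ := Subgroup.mem_zpowers_iff.mp (hMa.symm ▸ hMmin.1.conj_mem a haM g :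
          g * a * g⁻¹ ∈ Subgroup.zpowers a)
        exact ⟨i, hi.symm⟩
      have hCM : Subgroup.centralizer ({a} : Set K) = M := by
        refine (Subgroup.eq_of_le_of_card_ge (hMC a haM) (le_of_eq ?_)).symm
        have h1 := (Subgroup.centralizer ({a} : Set K)).card_mul_index
        have h2 := M.card_mul_index
        have h3 := horb a haM ha1
        rw [show (Subgroup.centralizer ({a} : Set K)).index = 6 by omega] at h1
        rw [hidx] at h2
        omega
      have hcomm : ∀ g k : K, (g : K ⧸ M) * k = (k : K ⧸ M) * g := by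
        intro g k
        rw [← QuotientGroup.mk_mul, ← QuotientGroup.mk_mul, QuotientGroup.eq]
        rw [← hCM, Subgroup.mem_centralizer_singleton_iff]
        obtain ⟨i, hi⟩ := hpow g
        obtain ⟨j, hj⟩ := hpow k
        have h1 : (g * k) * a * (g * k)⁻¹ = a ^ (j * i) := by
          calc (g * k) * a * (g * k)⁻¹ = g * (k * a * k⁻¹) * g⁻¹ := by group
            _ = a ^ (j * i) := by rw [hj, ← conj_zpow, hi, ← zpow_mul, mul_comm]
        have h2 : (k * g) * a * (k * g)⁻¹ = a ^ (j * i) := by
          calc (k * g) * a * (k * g)⁻¹ = k * (g * a * g⁻¹) * k⁻¹ := by group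
            _ = a ^ (j * i) := by rw [hi, ← conj_zpow, hj, ← zpow_mul]
        calc (g * k)⁻¹ * (k * g) * a = (g * k)⁻¹ * ((k * g) * a * (k * g)⁻¹) * (k * g) := by group
          _ = (g * k)⁻¹ * ((g * k) * a * (g * k)⁻¹) * (k * g) := by rw [h1, h2]
          _ = a * ((g * k)⁻¹ * (k * g)) := by group
      have hbad : ∀ s t : Equiv.Perm (Fin 3), s * t = t * s := by
        intro s t
        obtain ⟨g, hg⟩ := QuotientGroup.mk_surjective (e.symm s)
        obtain ⟨k, hk'⟩ := QuotientGroup.mk_surjective (e.symm t)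
        have := congrArg e (hcomm g k)
        simpa [hg, hk'] using this
      exact absurd (hbad (Equiv.swap 0 1) (Equiv.swap 1 2)) (by decide)

/-- A finite solvable group in which any two elements of the same order are conjugate has order 1 or 2 or is isomorphic to the symmetric group of degree 3. -/
theorem result {G : Type*} [Group G] [Finite G] [Group.IsSolvable G]
    (h : ∀ x y : G, orderOf x = orderOf y → IsConj x y) :
    Nat.card G = 1 ∨ Nat.card G = 2 ∨ Nonempty (G ≃* Equiv.Perm (Fin 3)) :=
  main _ G rfl h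

end Cfsg.Agent.S4062
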