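import Cfsg.Statements.S4065

import Mathlib

set_option autoImplicit false
set_option linter.style.haveILetI false
open Cfsg

namespace Cfsg.Agent.S4065

theorem centralizer_comm {R : Type*} [Field R] {m a b : Matrix (Fin 2) (Fin 2) R}
    (hm : ¬ (m 0 1 = 0 ∧ m 1 0 = 0 ∧ m 0 0 = m 1 1)) (ha : a * m = m * a) (hb : b * m = m * b) :
    a * b = b * a := by
  have rel : ∀ c : Matrix (Fin 2) (Fin 2) R, c * m = m * c →
      c 0 1 * m 1 0 = c 1 0 * m 0 1 ∧ c 0 1 * (m 1 1 - m 0 0) = (c 1 1 - c 0 0) * m 0 1 ∧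
        c 1 0 * (m 1 1 - m 0 0) = (c 1 1 - c 0 0) * m 1 0 := by
    intro c hc
    have e00 := congrFun (congrFun hc 0) 0
    have e01 := congrFun (congrFun hc 0) 1
    have e10 := congrFun (congrFun hc 1) 0
    simp only [Matrix.mul_apply, Fin.sum_univ_two] at e00 e01 e10
    exact ⟨by linear_combination e00, by linear_combination e01, by linear_combination -e10⟩
  obtain ⟨a1, a2, a3⟩ := rel a ha
  obtain ⟨b1, b2, b3⟩ := rel b hb
  have key : a 0 1 * b 1 0 = b 0 1 * a 1 0 ∧ a 0 1 * (b 1 1 - b 0 0) = b 0 1 * (a 1 1 - a 0 0) ∧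
      a 1 0 * (b 1 1 - b 0 0) = b 1 0 * (a 1 1 - a 0 0) := by
    by_cases h1 : m 0 1 = 0
    · by_cases h2 : m 1 0 = 0
      · have h3 : m 1 1 - m 0 0 ≠ 0 := fun e => hm ⟨h1, h2, (sub_eq_zero.1 e).symm⟩
        refine ⟨mul_right_cancel₀ (pow_ne_zero 2 h3) ?_, mul_right_cancel₀ h3 ?_, mul_right_cancel₀ h3 ?_⟩
        · linear_combination (b 1 0 * (m 1 1 - m 0 0) * a2) + ((a 1 1 - a 0 0) * m 0 1 * b3) -
            (a 1 0 * (m 1 1 - m 0 0) * b2) - ((b 1 1 - b 0 0) * m 0 1 * a3)
        · linear_combination (b 1 1 - b 0 0) * a2 - (a 1 1 - a 0 0) * b2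
        · linear_combination (b 1 1 - b 0 0) * a3 - (a 1 1 - a 0 0) * b3
      · refine ⟨mul_right_cancel₀ h2 ?_, mul_right_cancel₀ (pow_ne_zero 2 h2) ?_, mul_right_cancel₀ h2 ?_⟩
        · linear_combination b 1 0 * a1 - a 1 0 * b1
        · linear_combination ((b 1 1 - b 0 0) * m 1 0 * a1) - (a 1 0 * m 0 1 * b3) - ((a 1 1 - a 0 0) * m 1 0 * b1) + (b 1 0 * m 0 1 * a3)
        · linear_combination (b 1 0) * a3 - (a 1 0) * b3
    · refine ⟨mul_right_cancel₀ h1 ?_, mul_right_cancel₀ h1 ?_, mul_right_cancel₀ (pow_ne_zero 2 h1) ?_⟩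
      · linear_combination -(a 0 1 * b1) + b 0 1 * a1
      · linear_combination -(a 0 1 * b2) + b 0 1 * a2
      · linear_combination -((b 1 1 - b 0 0) * m 0 1 * a1) - (a 0 1 * m 1 0 * b2) + ((a 1 1 - a 0 0) * m 0 1 * b1) + (b 0 1 * m 1 0 * a2)
  obtain ⟨k1, k2, k3⟩ := key
  ext i j
  fin_cases i <;> fin_cases j <;> simp [Matrix.mul_apply, Fin.sum_univ_two]
  · linear_combination k1
  · linear_combination k2
  · linear_combination -k3
  · linear_combination -k1

/-- Let F be a finite field with 2ⁿ elements, n ≥ 2. In PSL₂(F) the centralizer of every element meets each of its conjugates by elements outside its normalizer trivially. -/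
theorem result (n : ℕ) (hn : 2 ≤ n)
    (x : Matrix.ProjectiveSpecialLinearGroup (Fin 2) (GaloisField 2 n)) :
    Cfsg.IsTISubset (Subgroup.centralizer ({x} : Set (Matrix.ProjectiveSpecialLinearGroup (Fin 2) (GaloisField 2 n))) :
      Set (Matrix.ProjectiveSpecialLinearGroup (Fin 2) (GaloisField 2 n))) := by
  classical
  set F := GaloisField 2 n
  haveI : CharP F 2 := inferInstance
  set π : Matrix.SpecialLinearGroup (Fin 2) F →* Matrix.ProjectiveSpecialLinearGroup (Fin 2) F :=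
    QuotientGroup.mk' (Subgroup.center (Matrix.SpecialLinearGroup (Fin 2) F))
  have hscal : ∀ g : Matrix.SpecialLinearGroup (Fin 2) F, g.1 0 1 = 0 → g.1 1 0 = 0 → g.1 0 0 = g.1 1 1 → g = 1 := by
    intro g h1 h2 h3
    have hd := g.2
    rw [Matrix.det_fin_two, h1, h2, h3, mul_zero, sub_zero] at hd
    have h5 : g.1 1 1 = 1 := by
      have h6 : (g.1 1 1 - 1) ^ 2 = 0 := by
        rw [sub_pow_char, one_pow, pow_two, hd, sub_self]
      exact sub_eq_zero.1 (eq_zero_of_pow_eq_zero h6)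
    apply Subtype.ext
    ext i j
    fin_cases i <;> fin_cases j <;> simp [h1, h2, h3, h5]
  have hinj : Function.Injective π := by
    rw [← MonoidHom.ker_eq_bot_iff, QuotientGroup.ker_mk', eq_bot_iff]
    intro g hg
    rw [Subgroup.mem_bot]
    rw [Subgroup.mem_center_iff] at hg
    have e1 := congrArg Subtype.val (hg ⟨!![1, 1; 0, 1], by simp [Matrix.det_fin_two]⟩)
    have e2 := congrArg Subtype.val (hg ⟨!![1, 0; 1, 1], by simp [Matrix.det_fin_two]⟩)
    change (_ : Matrix (Fin 2) (Fin 2) F) * g.1 = g.1 * _ at e1 e2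
    have a1 := congrFun (congrFun e1 0) 0
    have a2 := congrFun (congrFun e1 0) 1
    have a3 := congrFun (congrFun e2 0) 0
    simp [Matrix.mul_apply, Fin.sum_univ_two] at a1 a2 a3
    exact hscal g a3 a1 (by linear_combination -a2)
  have hCA : ∀ y : Matrix.ProjectiveSpecialLinearGroup (Fin 2) F, y ≠ 1 → ∀ u v, Commute u y → Commute v y → Commute u v := by
    intro y hy u v hu hv
    obtain ⟨y, rfl⟩ := QuotientGroup.mk'_surjective _ y
    obtain ⟨u, rfl⟩ := QuotientGroup.mk'_surjective _ u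
    obtain ⟨v, rfl⟩ := QuotientGroup.mk'_surjective _ v
    show π u * π v = π v * π u
    rw [← map_mul, ← map_mul]
    congr 1
    have hu' : u * y = y * u := hinj (by rw [map_mul, map_mul]; exact hu)
    have hv' : v * y = y * v := hinj (by rw [map_mul, map_mul]; exact hv)
    exact Subtype.ext (centralizer_comm (m := y.1) (fun ⟨h1, h2, h3⟩ => hy (by rw [hscal y h1 h2 h3, map_one]))
      (congrArg Subtype.val hu') (congrArg Subtype.val hv'))
  intro g hg z hz hgz
  by_contra hz1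
  rw [SetLike.mem_coe, Subgroup.mem_centralizer_singleton_iff] at hz hgz
  by_cases hx : x = 1
  · exact hg (by subst hx; rw [Subgroup.mem_normalizer_iff]; intro h; simp [Subgroup.mem_centralizer_singleton_iff])
  have hgz1 : g * z * g⁻¹ ≠ 1 := fun e => hz1 (conj_eq_one_iff.1 e)
  have cz : ∀ w, Commute w x ↔ Commute w z := fun w =>
    ⟨fun h => hCA x hx w z h hz, fun h => hCA z hz1 w x h (Commute.symm hz)⟩
  have cgz : ∀ w, Commute w x ↔ Commute w (g * z * g⁻¹) := fun w =>
    ⟨fun h => hCA x hx w _ h hgz, fun h => hCA _ hgz1 w x h (Commute.symm hgz)⟩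
  refine hg (Subgroup.mem_normalizer_iff.2 fun w => ?_)
  simp only [Subgroup.mem_centralizer_singleton_iff]
  show Commute w x ↔ Commute (g * w * g⁻¹) x
  rw [cz w, cgz (g * w * g⁻¹), Commute.conj_iff]

end Cfsg.Agent.S4065
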