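import Cfsg.Statements.S4066


set_option autoImplicit false
set_option linter.style.haveILetI false
open Cfsg

namespace Cfsg.Agent.S4066

/-- Let G be a finite group in which the centralizer of every element meets each of its conjugates by elements outside its normalizer trivially. Then any two distinct Sylow p-subgroups of G, for any prime p, intersect trivially. -/
theorem result {G : Type*} [Group G] [Finite G] (hTI : ∀ x : G, Cfsg.IsTISubset (Subgroup.centralizer ({x} : Set G) : Set G))
    {p : ℕ} [Fact p.Prime] (P Q : Sylow p G) (hPQ : P ≠ Q) : (P : Subgroup G) ⊓ (Q : Subgroup G) = ⊥ := by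
  by_contra hne
  apply hPQ
  obtain ⟨d, hd, hd1⟩ := (Subgroup.ne_bot_iff_exists_ne_one.1 hne : ∃ d : ↥((P : Subgroup G) ⊓ Q), d ≠ 1) |>
    fun ⟨a, ha⟩ => (⟨a.1, a.2, fun e => ha (Subtype.ext e)⟩ : ∃ d : G, d ∈ (P : Subgroup G) ⊓ (Q : Subgroup G) ∧ d ≠ 1)
  obtain ⟨hdP, hdQ⟩ := Subgroup.mem_inf.1 hd
  haveI : Nontrivial (P : Subgroup G) := ⟨⟨⟨d, hdP⟩, 1, fun e => hd1 (congrArg Subtype.val e)⟩⟩
  haveI := P.2.center_nontrivial
  obtain ⟨⟨z, hzc⟩, hz1⟩ := exists_ne (1 : Subgroup.center (P : Subgroup G))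
  set C := Subgroup.centralizer ({(z : G)} : Set G) with hC
  have hPC : (P : Subgroup G) ≤ C := fun u hu => Subgroup.mem_centralizer_singleton_iff.2
    (congrArg Subtype.val (Subgroup.mem_center_iff.1 hzc ⟨u, hu⟩))
  set M := Subgroup.normalizer (C : Set G) with hM
  -- every `p`-element of `M` lies in `C`
  have hpel : ∀ (u : G) (k : ℕ), u ∈ M → u ^ p ^ k = 1 → u ∈ C := by
    intro u k hu huk
    have h1 : IsPGroup p (Subgroup.zpowers u) := by
      rintro ⟨v, i, rfl⟩
      refine ⟨k, Subtype.ext ?_⟩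
      simp only [SubmonoidClass.coe_pow, OneMemClass.coe_one]
      rw [← zpow_natCast, ← zpow_mul, mul_comm, zpow_mul, zpow_natCast, huk, one_zpow]
    set K := Subgroup.zpowers u
    haveI hCn : (C.subgroupOf M).Normal :=
      (Subgroup.normal_subgroupOf_iff_le_normalizer Subgroup.le_normalizer).2 le_rfl
    have hK : IsPGroup p ((K.subgroupOf M).map (QuotientGroup.mk' (C.subgroupOf M))) :=
      (h1.of_equiv (Subgroup.subgroupOfEquivOfLe (Subgroup.zpowers_le.2 hu)).symm).map _
    obtain ⟨j, hj⟩ := IsPGroup.iff_card.1 hK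
    have h2 : p ^ j ∣ C.relIndex M := hj ▸ Subgroup.card_subgroup_dvd_card _
    have h3 : ¬ p ∣ C.relIndex M := fun h => P.not_dvd_index
      ((h.trans (Dvd.intro _ (Subgroup.relIndex_mul_index Subgroup.le_normalizer))).trans
        (Subgroup.index_dvd_of_le hPC))
    rcases Nat.eq_zero_or_pos j with rfl | hj0
    · rw [pow_zero, Subgroup.card_eq_one] at hj
      have h4 := Subgroup.mem_map_of_mem (QuotientGroup.mk' (C.subgroupOf M))
        (show (⟨u, hu⟩ : M) ∈ K.subgroupOf M from Subgroup.mem_zpowers u)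
      rw [hj, Subgroup.mem_bot, QuotientGroup.mk'_apply, QuotientGroup.eq_one_iff] at h4
      exact h4
    · exact absurd ((dvd_pow_self p hj0.ne').trans h2) h3
  -- any Sylow subgroup meeting `C` non-trivially lies in it
  have hQC : (Q : Subgroup G) ≤ C := by
    by_contra hn
    set D := C.subgroupOf (Q : Subgroup G)
    have hD : D < ⊤ := lt_top_iff_ne_top.2 fun e => hn (Subgroup.subgroupOf_eq_top.1 e)
    haveI := Q.2.isNilpotent
    obtain ⟨u, huN, huD⟩ := SetLike.exists_of_lt (Group.normalizerCondition_of_isNilpotent D hD)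
    apply huD
    rw [Subgroup.mem_subgroupOf]
    obtain ⟨k, hk⟩ := Q.2 u
    refine hpel u k ?_ (by simpa using congrArg Subtype.val hk)
    by_contra hu
    have hdD : (⟨d, hdQ⟩ : (Q : Subgroup G)) ∈ D := hPC hdP
    have h1 : (u : G) * d * (u : G)⁻¹ ∈ C := (Subgroup.mem_normalizer_iff.1 huN _).1 hdD
    exact hd1 (hTI (z : G) (u : G) hu d (hPC hdP) h1)
  have hzQ : (z : G) ∈ (Q : Subgroup G) := by
    have hzp : IsPGroup p (Subgroup.zpowers (z : G)) :=
      P.2.to_le (Subgroup.zpowers_le.2 z.2)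
    have hle : Subgroup.zpowers (z : G) ≤ Subgroup.normalizer ((Q : Subgroup G) : Set G) := by
      rw [Subgroup.zpowers_le, Subgroup.mem_normalizer_iff]
      intro y
      constructor
      · intro hy
        rw [← Subgroup.mem_centralizer_singleton_iff.1 (hQC hy), mul_inv_cancel_right]
        exact hy
      · intro hy
        have h := Subgroup.mem_centralizer_singleton_iff.1 (hQC hy)
        have e : y = (z : G) * y * (z : G)⁻¹ := by
          calc y = (z : G)⁻¹ * ((z : G) * y * (z : G)⁻¹ * (z : G)) := by group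
            _ = (z : G)⁻¹ * ((z : G) * ((z : G) * y * (z : G)⁻¹)) := by rw [h]
            _ = _ := by group
        rw [e]; exact hy
    have := Q.3 (IsPGroup.to_sup_of_normal_right' hzp Q.2 hle) le_sup_right
    exact this ▸ Subgroup.mem_sup_left (Subgroup.mem_zpowers _)
  -- the normal closure in `C` of an element of `P` is an abelian `p`-group
  have hz0 : (z : G) ≠ 1 := fun e => hz1 (Subtype.ext (Subtype.ext e))
  have hnorm : ∀ x ∈ C, ∀ g ∈ C, g ∈ Subgroup.normalizer ((Subgroup.centralizer ({x} : Set G)) : Set G) := by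
    intro x hx g hg
    by_contra hgn
    have hzx : (z : G) ∈ Subgroup.centralizer ({x} : Set G) :=
      Subgroup.mem_centralizer_singleton_iff.2 (Subgroup.mem_centralizer_singleton_iff.1 hx).symm
    refine hz0 (hTI x g hgn (z : G) hzx ?_)
    rw [Subgroup.mem_centralizer_singleton_iff.1 hg, mul_inv_cancel_right]
    exact hzx
  have hPQ' : (P : Subgroup G) ≤ Q := by
    intro x hx
    set Y := {y : G | ∃ g ∈ C, g * x * g⁻¹ = y}
    have hYcomm : ∀ a ∈ Y, ∀ b ∈ Y, a * b = b * a := by
      rintro _ ⟨g, hg, rfl⟩ _ ⟨h, hh, rfl⟩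
      have hgh : g⁻¹ * h ∈ C := mul_mem (inv_mem hg) hh
      have h1 : (g⁻¹ * h) * x * (g⁻¹ * h)⁻¹ ∈ Subgroup.centralizer ({x} : Set G) :=
        (Subgroup.mem_normalizer_iff.1 (hnorm x (hPC hx) _ hgh) x).1
          (Subgroup.mem_centralizer_singleton_iff.2 rfl)
      have h2 := Subgroup.mem_centralizer_singleton_iff.1 h1
      calc g * x * g⁻¹ * (h * x * h⁻¹) = g * (x * ((g⁻¹ * h) * x * (g⁻¹ * h)⁻¹)) * g⁻¹ := by group
        _ = g * ((g⁻¹ * h) * x * (g⁻¹ * h)⁻¹ * x) * g⁻¹ := by rw [h2]
        _ = _ := by group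
    set A := Subgroup.closure Y
    haveI : IsMulCommutative A := Subgroup.isMulCommutative_closure hYcomm
    have hAp : IsPGroup p A := by
      obtain ⟨k, hk⟩ := P.2 ⟨x, hx⟩
      have hk' : x ^ p ^ k = 1 := congrArg Subtype.val hk
      intro a
      refine ⟨k, ?_⟩
      obtain ⟨a, ha⟩ := a
      refine Subtype.ext ?_
      show a ^ p ^ k = 1
      induction ha using Subgroup.closure_induction with
      | mem y hy => obtain ⟨g, -, rfl⟩ := hy; rw [conj_pow, hk']; simp
      | one => exact one_pow _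
      | mul a b ha hb iha ihb =>
        have hc : Commute a b := congrArg Subtype.val (this.is_comm.comm ⟨a, ha⟩ ⟨b, hb⟩)
        rw [hc.mul_pow, iha, ihb, one_mul]
      | inv a _ iha => rw [inv_pow, iha, inv_one]
    have hA : (Q : Subgroup G) ≤ Subgroup.normalizer (A : Set G) := by
      intro u hu
      have key : ∀ v ∈ C, ∀ a ∈ A, v * a * v⁻¹ ∈ A := by
        intro v hv a ha
        induction ha using Subgroup.closure_induction with
        | mem y hy =>
          obtain ⟨g, hg, rfl⟩ := hy
          exact Subgroup.subset_closure ⟨v * g, mul_mem hv hg, by group⟩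
        | one => simpa using one_mem A
        | mul a b _ _ iha ihb =>
          have : v * (a * b) * v⁻¹ = v * a * v⁻¹ * (v * b * v⁻¹) := by group
          rw [this]; exact mul_mem iha ihb
        | inv a _ iha =>
          have : v * a⁻¹ * v⁻¹ = (v * a * v⁻¹)⁻¹ := by group
          rw [this]; exact inv_mem iha
      refine Subgroup.mem_normalizer_iff.2 fun y => ⟨key u (hQC hu) y, fun hy => ?_⟩
      have := key u⁻¹ (inv_mem (hQC hu)) _ hy
      simpa [mul_assoc] using this
    have := Q.3 (IsPGroup.to_sup_of_normal_left' hAp Q.2 hA) le_sup_right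
    exact this ▸ Subgroup.mem_sup_left (Subgroup.subset_closure ⟨1, one_mem _, by group⟩)
  exact (Sylow.ext (P.3 Q.2 hPQ')).symm

end Cfsg.Agent.S4066
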