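import Cfsg.Statements.S4067
import Cfsg.Agent.Char.LinearTwist
import Cfsg.Agent.Char.Central
-- import your own Cfsg.Agent.* helpers here

set_option autoImplicit false
open Cfsg

namespace Cfsg.Agent.S4067

open scoped commutatorElement

universe u

/-- few classes when the derived group is large -/
theorem classes_le {G : Type u} [Group G] [Fintype G] {p : ℕ} (hp : p = (Nat.card G).minFac)
    (hbig : p + 1 ≤ Nat.card (commutator G)) : p * Nat.card (ConjClasses G) ≤ Nat.card G := by
  classical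
  rw [← CfsgLib.Char.card_irr_eq_card_conjClasses]
  letI : Fintype (Cfsg.IrrCharacter G) := CfsgLib.Char.fintypeIrrCharacter
  set L := Finset.univ.filter fun χ : Cfsg.IrrCharacter G => Cfsg.charDegree (χ : G → ℂ) = 1
  have hsum : ∑ χ : Cfsg.IrrCharacter G, Cfsg.charDegree (χ : G → ℂ) ^ 2 = Nat.card G := by
    have h := CfsgLib.Char.sum_degree_sq (G := G)
    rw [Finset.sum_congr rfl fun χ _ => by rw [CfsgLib.Char.irr_one_eq χ.2]] at h
    exact_mod_cast h
  have hL : L.card ≤ (commutator G).index := by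
    refine le_trans ?_ (CfsgLib.Char.card_hom_trivial_le (commutator G))
    haveI : Finite {L : G →* ℂˣ // ∀ i ∈ commutator G, L i = 1} :=
      Finite.of_injective (fun L => Abelianization.lift L.1) fun a b e =>
        Subtype.ext (Abelianization.lift.injective e)
    have hmk : ∀ χ : L, ∃ μ : G →* ℂˣ, ∀ g, ((χ : Cfsg.IrrCharacter G) : G → ℂ) g = μ g := by
      intro χ
      have h1 : ((χ : Cfsg.IrrCharacter G) : G → ℂ) 1 = 1 := by
        rw [CfsgLib.Char.irr_one_eq χ.1.2, (Finset.mem_filter.1 χ.2).2, Nat.cast_one]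
      obtain ⟨μ, hμ⟩ := CfsgLib.Char.exists_hom_of_degree_one (CfsgLib.Char.isCharacter_of_isIrr χ.1.2) h1
      exact ⟨μ, fun g => by rw [hμ]⟩
    choose μ hμ using hmk
    rw [← Fintype.card_coe, ← Nat.card_eq_fintype_card]
    refine Nat.card_le_card_of_injective (fun χ => ⟨μ χ, fun i hi =>
      Abelianization.commutator_subset_ker (μ χ) hi⟩) fun a b e => ?_
    refine Subtype.ext (Subtype.ext (funext fun g => ?_))
    rw [hμ a g, hμ b g, show μ a = μ b from congrArg Subtype.val e]
  have hk : p ^ 2 * Fintype.card (Cfsg.IrrCharacter G) ≤ Nat.card G + (p ^ 2 - 1) * L.card := by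
    have hpp : 1 ≤ p ^ 2 := Nat.one_le_pow _ _ (hp ▸ Nat.minFac_pos _)
    have hpt : ∀ χ : Cfsg.IrrCharacter G, p ^ 2 ≤ Cfsg.charDegree (χ : G → ℂ) ^ 2 +
        if Cfsg.charDegree (χ : G → ℂ) = 1 then p ^ 2 - 1 else 0 := by
      intro χ
      split_ifs with h
      · rw [h]; omega
      · have h0 := CfsgLib.Char.charDegree_pos χ.2
        have := Nat.pow_le_pow_left (hp ▸ Nat.minFac_le_of_dvd (by omega : 2 ≤ Cfsg.charDegree (χ : G → ℂ))
          (CfsgLib.Char.degree_dvd_card χ.2)) 2
        omega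
    have := Finset.sum_le_sum fun χ (_ : χ ∈ Finset.univ) => hpt χ
    rw [Finset.sum_add_distrib, hsum, Finset.sum_const, ← Finset.sum_filter, Finset.sum_const,
      smul_eq_mul, smul_eq_mul, Finset.card_univ, Nat.mul_comm, Nat.mul_comm L.card] at this
    exact this
  have hle : (p + 1) * L.card ≤ Nat.card G := by
    rw [← (commutator G).card_mul_index]
    exact Nat.mul_le_mul hbig hL
  rw [Nat.card_eq_fintype_card (α := Cfsg.IrrCharacter G)]
  have hp1 : 1 ≤ p := hp ▸ Nat.minFac_pos _
  obtain ⟨r, rfl⟩ : ∃ r, p = r + 1 := ⟨p - 1, by omega⟩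
  have e : (r + 1) ^ 2 - 1 = r * (r + 1 + 1) := Nat.sub_eq_of_eq_add (by ring)
  rw [e] at hk
  refine Nat.le_of_mul_le_mul_left ?_ (Nat.succ_pos r)
  nlinarith [Nat.mul_le_mul_left r hle]

/-- changing a coset representative by a centralising element gives an automorphism -/
theorem exists_auto {G : Type*} [Group G] [Finite G] {p : ℕ} (hp : p.Prime) (M : Subgroup G) [M.Normal]
    (hidx : M.index = p) {t y : G} (ht : t ∉ M) (hy : y ∈ M) (hc : ∀ m ∈ M, y * m = m * y)
    (hpow : (t * y) ^ p = t ^ p) :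
    ∃ σ : MulAut G, (∀ m ∈ M, σ m = m) ∧ σ t = t * y := by
  haveI : Fact p.Prime := ⟨hp⟩
  have hz : ∀ i : ℤ, (p : ℤ) ∣ i ↔ t ^ i ∈ M := by
    intro i
    have ho : orderOf (t : G ⧸ M) = p := by
      refine (Nat.dvd_prime hp).1 ?_ |>.resolve_left fun h1 => ht ((QuotientGroup.eq_one_iff t).1 (orderOf_eq_one_iff.1 h1))
      rw [← hidx, Subgroup.index_eq_card]
      exact orderOf_dvd_natCard _
    rw [← QuotientGroup.eq_one_iff, QuotientGroup.mk_zpow, ← orderOf_dvd_iff_zpow_eq_one, ho]
  have hcn : (MulAut.conjNormal (t * y) : MulAut M) = MulAut.conjNormal t := by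
    refine MulEquiv.ext fun m => Subtype.ext ?_
    rw [MulAut.conjNormal_apply, MulAut.conjNormal_apply, mul_inv_rev, ← mul_assoc]
    congr 1
    rw [mul_assoc t y, hc _ m.2, ← mul_assoc, mul_inv_cancel_right]
  have hconj : ∀ (i : ℤ) (m : G), m ∈ M → (t * y) ^ i * m * ((t * y) ^ i)⁻¹ = t ^ i * m * (t ^ i)⁻¹ := by
    intro i m hm
    have h : (MulAut.conjNormal ((t * y) ^ i) : MulAut M) = MulAut.conjNormal (t ^ i) := by
      rw [map_zpow, map_zpow, hcn]
    have h2 := congrArg Subtype.val (DFunLike.congr_fun h ⟨m, hm⟩)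
    rwa [MulAut.conjNormal_apply, MulAut.conjNormal_apply] at h2
  let φ : Multiplicative ℤ →* MulAut M := zpowersHom _ (MulAut.conjNormal t)
  have hφ : ∀ (i : Multiplicative ℤ) (m : M), ((φ i m : M) : G) = t ^ i.toAdd * m * (t ^ i.toAdd)⁻¹ := fun i m => by
    show (((MulAut.conjNormal t) ^ i.toAdd) m : G) = _
    rw [← map_zpow, MulAut.conjNormal_apply]
  let ψ₁ : M ⋊[φ] Multiplicative ℤ →* G := SemidirectProduct.lift M.subtype (zpowersHom G t) fun i => by
    refine MonoidHom.ext fun m => ?_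
    exact hφ i m
  let ψ₂ : M ⋊[φ] Multiplicative ℤ →* G := SemidirectProduct.lift M.subtype (zpowersHom G (t * y)) fun i => by
    refine MonoidHom.ext fun m => ?_
    exact (hφ i m).trans (hconj i.toAdd m m.2).symm
  have hgen : ∀ S : Subgroup G, M ≤ S → t ∈ S → S = ⊤ := fun S hMS htS => by
    rcases (Nat.dvd_prime hp).1 (hidx ▸ Subgroup.index_dvd_of_le hMS) with h | h
    · exact Subgroup.index_eq_one.1 h
    · exact absurd (le_antisymm hMS (le_of_eq ((Subgroup.eq_of_le_of_card_ge hMS (by
        have h1 := M.card_mul_index; have h2 := S.card_mul_index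
        rw [hidx] at h1; rw [h, ← h1] at h2
        exact (Nat.eq_of_mul_eq_mul_right hp.pos h2).le)).symm)) ▸ htS) ht
  have hs : ∀ (ψ : M ⋊[φ] Multiplicative ℤ →* G), (∀ m : M, ψ (SemidirectProduct.inl m) = m) →
      t ∈ ψ.range → Function.Surjective ψ := fun ψ h1 h2 =>
    MonoidHom.range_eq_top.1 (hgen _ (fun m hm => ⟨_, h1 ⟨m, hm⟩⟩) h2)
  have e1 : ∀ m : M, ψ₁ (SemidirectProduct.inl m) = m := fun m => SemidirectProduct.lift_inl _ _ _ _
  have e2 : ∀ m : M, ψ₂ (SemidirectProduct.inl m) = m := fun m => SemidirectProduct.lift_inl _ _ _ _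
  have f1 : ψ₁ (SemidirectProduct.inr (Multiplicative.ofAdd 1)) = t := by
    simp [ψ₁, zpowersHom_apply]
  have f2 : ψ₂ (SemidirectProduct.inr (Multiplicative.ofAdd 1)) = t * y := by
    simp [ψ₂, zpowersHom_apply]
  have hs1 : Function.Surjective ψ₁ := hs _ e1 ⟨_, f1⟩
  have hs2 : Function.Surjective ψ₂ := hs _ e2
    (by
      have ha : t * y ∈ ψ₂.range := ⟨_, f2⟩
      have hb : y ∈ ψ₂.range := ⟨_, e2 ⟨y, hy⟩⟩
      simpa using mul_mem ha (inv_mem hb))
  have hker : ψ₁.ker ≤ ψ₂.ker := by
    rintro ⟨m, i⟩ h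
    have h' : (m : G) * t ^ i.toAdd = 1 := h
    obtain ⟨k, hk⟩ := (hz i.toAdd).2 (by
      rw [← inv_eq_of_mul_eq_one_right h']; exact inv_mem m.2)
    show (m : G) * (t * y) ^ i.toAdd = 1
    rw [hk, zpow_mul, zpow_natCast, hpow, ← zpow_natCast, ← zpow_mul, ← hk]
    exact h'
  let f := ψ₁.liftOfSurjective hs1 ⟨ψ₂, hker⟩
  have hf : ∀ w, f (ψ₁ w) = ψ₂ w := fun w => MonoidHom.liftOfRightInverse_comp_apply _ _ _ _ w
  have hbij : Function.Bijective f := by
    refine Finite.injective_iff_bijective.1 (Finite.injective_iff_surjective.2 fun g => ?_)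
    obtain ⟨w, rfl⟩ := hs2 g
    exact ⟨ψ₁ w, hf w⟩
  refine ⟨MulEquiv.ofBijective f hbij, fun m hm => ?_, ?_⟩
  · show f m = m
    have := hf (SemidirectProduct.inl ⟨m, hm⟩)
    rwa [e1, e2] at this
  · show f t = t * y
    have := hf (SemidirectProduct.inr (Multiplicative.ofAdd 1))
    rwa [f1, f2] at this

/-- Let G be a finite non-abelian group and p the least prime dividing its order. Then the automorphism group of G has at most #G/p orbits on G. -/
theorem result {G : Type*} [Group G] [Finite G] (hna : ¬ IsMulCommutative G) :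
    Nat.card (MulAction.orbitRel.Quotient (MulAut G) G) ≤ Nat.card G / (Nat.card G).minFac := by
  classical
  letI := Fintype.ofFinite G
  set n := Nat.card G with hn
  set p := n.minFac with hpdef
  have hn1 : n ≠ 1 := fun h => hna ⟨⟨fun a b => by
    haveI := (Nat.card_eq_one_iff_unique.1 h).1
    exact Subsingleton.elim _ _⟩⟩
  have hp : p.Prime := Nat.minFac_prime hn1
  haveI : Fact p.Prime := ⟨hp⟩
  rw [Nat.le_div_iff_mul_le hp.pos]
  have hdiv : ∀ d, d ∣ n → d ≠ 1 → p ≤ d := fun d hd h1 => by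
    have h0 : d ≠ 0 := fun h => by
      rw [h, zero_dvd_iff] at hd
      exact Nat.card_pos.ne' hd
    exact Nat.minFac_le_of_dvd (by omega) hd
  set D := commutator G
  by_cases hbig : p + 1 ≤ Nat.card D
  · refine le_trans (Nat.mul_le_mul_right p (Nat.card_le_card_of_surjective
      (fun C : ConjClasses G => Quotient.liftOn C
        (fun x => (Quotient.mk'' x : MulAction.orbitRel.Quotient (MulAut G) G)) fun a b h => by
          obtain ⟨g, hg⟩ := isConj_iff.1 h
          exact Quotient.sound' ⟨(MulAut.conj g)⁻¹, by rw [← hg]; simp [MulAut.smul_def, mul_assoc]⟩)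
      (fun o => o.inductionOn' fun x => ⟨ConjClasses.mk x, rfl⟩))) ?_
    rw [mul_comm]
    exact classes_le rfl hbig
  have hDne : Nat.card D ≠ 1 := fun h => hna ⟨⟨fun a b => by
    have h2 : ⁅a, b⁆ ∈ D := Subgroup.commutator_mem_commutator (Subgroup.mem_top a) (Subgroup.mem_top b)
    rw [Subgroup.card_eq_one.1 h] at h2
    exact commutatorElement_eq_one_iff_mul_comm.1 (Subgroup.mem_bot.1 h2)⟩⟩
  have hDp : Nat.card D = p := le_antisymm (by omega) (hdiv _ D.card_subgroup_dvd_card hDne)
  haveI hDc : IsCyclic D := isCyclic_of_prime_card hDp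
  have hDZ : D ≤ Subgroup.center G := by
    intro c hc
    refine Subgroup.mem_center_iff.2 fun g => ?_
    have h1 : (MulAut.conjNormal g : MulAut D) = 1 := by
      rw [← orderOf_eq_one_iff]
      have a1 : orderOf (MulAut.conjNormal g : MulAut D) ∣ n :=
        (orderOf_map_dvd _ g).trans (orderOf_dvd_natCard g)
      have a2 : orderOf (MulAut.conjNormal g : MulAut D) ∣ p - 1 := by
        refine (orderOf_dvd_natCard _).trans ?_
        rw [IsCyclic.card_mulAut, hDp, Nat.totient_prime hp]
      by_contra hne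
      have h3 := hdiv _ a1 hne
      have h4 := h3.trans (Nat.le_of_dvd (by have := hp.two_le; omega) a2)
      have := hp.two_le
      omega
    have h2 := congrArg Subtype.val (DFunLike.congr_fun h1 ⟨c, hc⟩)
    rw [MulAut.conjNormal_apply, MulAut.one_apply] at h2
    exact mul_inv_eq_iff_eq_mul.1 h2
  have hcm : ∀ a b : G, ⁅a, b⁆ ∈ D := fun a b =>
    Subgroup.commutator_mem_commutator (Subgroup.mem_top a) (Subgroup.mem_top b)
  have hcZ : ∀ a b g : G, g * ⁅a, b⁆ = ⁅a, b⁆ * g := fun a b => Subgroup.mem_center_iff.1 (hDZ (hcm a b))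
  have hcp : ∀ a b : G, ⁅a, b⁆ ^ p = 1 := fun a b => by
    have h := pow_card_eq_one' (x := (⟨⁅a, b⁆, hcm a b⟩ : D))
    rw [hDp] at h
    exact congrArg Subtype.val h
  have hbil : ∀ a b g : G, ⁅a * b, g⁆ = ⁅a, g⁆ * ⁅b, g⁆ := fun a b g => by
    calc ⁅a * b, g⁆ = a * ⁅b, g⁆ * a⁻¹ * ⁅a, g⁆ := by simp only [commutatorElement_def]; group
      _ = ⁅a, g⁆ * ⁅b, g⁆ := by rw [hcZ b g a, mul_inv_cancel_right, hcZ a g]
  -- the map to the derived group given by a commutator
  let χ : G → (G →* D) := fun a =>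
    { toFun := fun g => ⟨⁅g, a⁆, hcm g a⟩
      map_one' := Subtype.ext (by simp [commutatorElement_def])
      map_mul' := fun g g' => Subtype.ext (hbil g g' a) }
  have hker : ∀ a g, g ∈ (χ a).ker ↔ g * a = a * g := fun a g => by
    rw [MonoidHom.mem_ker]
    exact (Subtype.ext_iff).trans commutatorElement_eq_one_iff_mul_comm
  have hsurj : ∀ a, a ∉ Subgroup.center G → Function.Surjective (χ a) := fun a ha => by
    rw [← MonoidHom.range_eq_top]
    haveI : Fact (Nat.card D).Prime := ⟨hDp ▸ hp⟩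
    refine ((χ a).range.eq_bot_or_eq_top_of_prime_card).resolve_left fun h => ha ?_
    refine Subgroup.mem_center_iff.2 fun g => (hker a g).1 ?_
    rw [MonoidHom.mem_ker, ← Subgroup.mem_bot, ← h]
    exact ⟨g, rfl⟩
  have hidx : ∀ a, a ∉ Subgroup.center G → (χ a).ker.index = p := fun a ha => by
    rw [Subgroup.index_ker, MonoidHom.range_eq_top.2 (hsurj a ha), Subgroup.card_top, hDp]
  have hpw : ∀ (a b : G) (m : ℕ), (a * b) ^ m = a ^ m * b ^ m * ⁅b, a⁆ ^ m.choose 2 := by
    intro a b m
    induction m with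
    | zero => simp
    | succ m ih =>
      have hba : b ^ m * a = a * b ^ m * ⁅b, a⁆ ^ m := by
        have h1 : ⁅b ^ m, a⁆ = ⁅b, a⁆ ^ m := by
          have := map_pow (χ a) b m
          exact congrArg Subtype.val this
        rw [← h1, hcZ (b ^ m) a (a * b ^ m), commutatorElement_def]
        group
      have hC : ∀ (k : ℕ) (g : G), ⁅b, a⁆ ^ k * g = g * ⁅b, a⁆ ^ k := fun k g =>
        ((show Commute g ⁅b, a⁆ from hcZ b a g).pow_right k).eq.symm
      rw [pow_succ, ih, Nat.choose_succ_succ, Nat.choose_one_right]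
      calc a ^ m * b ^ m * ⁅b, a⁆ ^ m.choose 2 * (a * b)
          = a ^ m * (b ^ m * a) * b * ⁅b, a⁆ ^ m.choose 2 := by
            rw [mul_assoc (a ^ m * b ^ m), hC]; simp only [mul_assoc]
        _ = a ^ (m + 1) * b ^ (m + 1) * (⁅b, a⁆ ^ m * ⁅b, a⁆ ^ m.choose 2) := by
            rw [hba, pow_succ, pow_succ]
            simp only [mul_assoc]
            rw [← mul_assoc (⁅b, a⁆ ^ m) b, hC m b]
            simp only [mul_assoc]
        _ = _ := by rw [← pow_add]
  -- orbits
  set Z := Subgroup.center G with hZdef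
  have hZidx : p * p * Nat.card Z ≤ n := by
    rw [hn, ← Z.card_mul_index, mul_comm]
    refine Nat.mul_le_mul_left _ ?_
    have hi1 : Z.index ≠ 1 := fun h => hna ⟨⟨fun a b =>
      (Subgroup.mem_center_iff.1 ((Subgroup.index_eq_one.1 h).symm ▸ Subgroup.mem_top b : b ∈ Z) a)⟩⟩
    have hnp : ¬ Z.index.Prime := fun h => by
      haveI : Fact Z.index.Prime := ⟨h⟩
      haveI : IsCyclic (G ⧸ Z) := isCyclic_of_prime_card (p := Z.index) Z.index_eq_card.symm
      refine hna ⟨⟨commutative_of_cyclic_center_quotient (QuotientGroup.mk' Z) ?_⟩⟩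
      rw [QuotientGroup.ker_mk']
    obtain ⟨q, hq, hq1, hq2⟩ : ∃ q, q ∣ Z.index ∧ q ≠ 1 ∧ q ≠ Z.index := by
      by_contra hc
      push Not at hc
      exact hnp (Nat.prime_def.2 ⟨by have := Z.index_ne_zero_of_finite; omega, fun m hm =>
        (eq_or_ne m 1).imp_right (hc m hm)⟩)
    obtain ⟨r, hr⟩ := hq
    rw [hr]
    refine Nat.mul_le_mul (hdiv q ((Dvd.intro r hr.symm).trans Z.index_dvd_card) hq1)
      (hdiv r ((Dvd.intro_left q hr.symm).trans Z.index_dvd_card) fun h => hq2 (by rw [hr, h, mul_one]))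
  set F : G → Finset G := fun x => Finset.univ.filter fun g => ∃ σ : MulAut G, σ x = g
  have hF1 : ∀ x, x ∉ Z → p ≤ (F x).card := by
    intro x hx
    have hinj : Function.Injective (fun c : D => (⟨(c : G) * x, Finset.mem_filter.2 ⟨Finset.mem_univ _, by
        obtain ⟨g, hg⟩ := hsurj x hx c
        refine ⟨MulAut.conj g, ?_⟩
        rw [← hg, MulAut.conj_apply]
        show g * x * g⁻¹ = ⁅g, x⁆ * x
        rw [commutatorElement_def, inv_mul_cancel_right]⟩⟩ : F x)) := fun c c' h =>
      Subtype.ext (mul_right_cancel (congrArg Subtype.val h))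
    have := Nat.card_le_card_of_injective _ hinj
    rwa [hDp, Nat.card_eq_fintype_card, Fintype.card_coe] at this
  have hroot : ∀ (w x : G) (c c' : D) (i j : ℕ), j < p → i < j →
      (c : G) * (x * w ^ i) = (c' : G) * (x * w ^ j) → w ∈ D := by
    intro w x c c' i j hj hij h
    have hd : w ^ (j - i) ∈ D := by
      have hc' : ∀ d : D, (d : G) * x = x * d := fun d => (Subgroup.mem_center_iff.1 (hDZ d.2) x).symm
      rw [← mul_assoc, ← mul_assoc, hc', hc', mul_assoc, mul_assoc] at h
      have h1 := mul_left_cancel h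
      rw [show j = (j - i) + i by omega, pow_add, ← mul_assoc] at h1
      have h2 := mul_right_cancel h1
      have h3 : w ^ (j - i) = (c' : G)⁻¹ * c := by rw [h2, inv_mul_cancel_left]
      rw [h3]; exact mul_mem (inv_mem c'.2) c.2
    have hco : (j - i).Coprime (orderOf w) := by
      refine Nat.coprime_of_dvd fun k hk h1 h2 => ?_
      have := hdiv k (h2.trans (orderOf_dvd_natCard w)) hk.ne_one
      have := Nat.le_of_dvd (by omega) h1
      omega
    obtain ⟨k, hk⟩ := exists_pow_eq_self_of_coprime hco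
    rw [← hk]; exact pow_mem hd k
  have hF2 : ∀ x w, x ∉ Z → w ∉ D → (∃ σ : MulAut G, σ w = w ∧ σ x = x * w ∧ ∀ c ∈ D, σ c = c) →
      p * p ≤ (F x).card := by
    rintro x w hx hw ⟨σ, hσw, hσx, hσD⟩
    have hpowD : ∀ (i : ℕ), ∀ c ∈ D, (σ ^ i) c = c := by
      intro i c hc
      induction i with
      | zero => simp
      | succ i ih => rw [pow_succ', MulAut.mul_apply, ih, hσD c hc]
    have hpow : ∀ i : ℕ, (σ ^ i) x = x * w ^ i := by
      intro i
      induction i with
      | zero => simp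
      | succ i ih => rw [pow_succ', MulAut.mul_apply, ih, map_mul, map_pow, hσw, hσx, mul_assoc, ← pow_succ']
    have hinj : Function.Injective (fun q : Fin p × D => (⟨(q.2 : G) * (x * w ^ (q.1 : ℕ)),
        Finset.mem_filter.2 ⟨Finset.mem_univ _, by
        obtain ⟨g, hg⟩ := hsurj x hx q.2
        refine ⟨σ ^ (q.1 : ℕ) * MulAut.conj g, ?_⟩
        have hgx : MulAut.conj g x = (q.2 : G) * x := by
          rw [← hg, MulAut.conj_apply]
          show g * x * g⁻¹ = ⁅g, x⁆ * x
          rw [commutatorElement_def, inv_mul_cancel_right]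
        have hσc : (σ ^ (q.1 : ℕ)) (q.2 : G) = q.2 := hpowD _ _ q.2.2
        rw [MulAut.mul_apply, hgx, map_mul, hσc, hpow]⟩⟩ : F x)) := by
      rintro ⟨i, c⟩ ⟨j, c'⟩ h
      have h' : (c : G) * (x * w ^ (i : ℕ)) = (c' : G) * (x * w ^ (j : ℕ)) := congrArg Subtype.val h
      rcases lt_trichotomy (i : ℕ) j with hij | hij | hij
      rotate_left
      · have e : i = j := Fin.ext hij
        subst e
        exact Prod.ext rfl (Subtype.ext (mul_right_cancel h'))
      all_goals
        exfalso
        apply hw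
        first
          | exact hroot w x c c' i j j.2 hij h'
          | exact hroot w x c' c j i i.2 hij h'.symm
    have := Nat.card_le_card_of_injective _ hinj
    rwa [Nat.card_prod, Nat.card_fin, hDp, Nat.card_eq_fintype_card, Fintype.card_coe] at this
  -- weights
  have hcount : ∀ wt : G → ℕ, (∀ x, p * p ≤ ∑ g ∈ F x, wt g) →
      p * p * Nat.card (MulAction.orbitRel.Quotient (MulAut G) G) ≤ ∑ g, wt g := by
    intro wt h
    letI := Fintype.ofFinite (MulAction.orbitRel.Quotient (MulAut G) G)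
    rw [← Finset.sum_fiberwise Finset.univ (fun g => (Quotient.mk'' g : MulAction.orbitRel.Quotient (MulAut G) G)) wt,
      Nat.card_eq_fintype_card, mul_comm, ← Finset.card_univ, ← smul_eq_mul]
    refine Finset.card_nsmul_le_sum _ _ _ fun o _ => ?_
    induction o using Quotient.inductionOn' with
    | h x =>
      refine (h x).trans (Finset.sum_le_sum_of_subset fun g hg => ?_)
      obtain ⟨σ, rfl⟩ := (Finset.mem_filter.1 hg).2
      exact Finset.mem_filter.2 ⟨Finset.mem_univ _, Quotient.sound' ⟨σ, rfl⟩⟩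
  have hZinv : ∀ x, x ∉ Z → ∀ g ∈ F x, g ∉ Z := by
    intro x hx g hg hgZ
    obtain ⟨σ, rfl⟩ := (Finset.mem_filter.1 hg).2
    refine hx (Subgroup.mem_center_iff.2 fun a => σ.injective ?_)
    rw [map_mul, map_mul]
    exact Subgroup.mem_center_iff.1 hgZ _
  have hself : ∀ x, x ∈ F x := fun x => Finset.mem_filter.2 ⟨Finset.mem_univ _, 1, rfl⟩
  have hfin : ∀ S : ℕ, p * p * Nat.card (MulAction.orbitRel.Quotient (MulAut G) G) ≤ S → S ≤ p * n →
      Nat.card (MulAction.orbitRel.Quotient (MulAut G) G) * p ≤ n := fun S h1 h2 => by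
    refine Nat.le_of_mul_le_mul_left (le_trans ?_ (h1.trans h2)) hp.pos
    exact le_of_eq (by ring)
  have hsumZ : ∀ k : ℕ, ∑ g : G, (if g ∈ Z then k else 0) = k * Nat.card Z := by
    intro k
    rw [← Finset.sum_filter, Finset.sum_const, smul_eq_mul, mul_comm, Nat.card_eq_fintype_card,
      Fintype.card_subtype]
  have hp2 := hp.two_le
  by_cases hA : ∃ e ∈ Z, e ^ p = 1 ∧ e ∉ D
  · obtain ⟨e, he, hep, heD⟩ := hA
    have hbigorb : ∀ x, x ∉ Z → p * p ≤ (F x).card := by
      intro x hx
      obtain ⟨a, ha⟩ : ∃ a, ¬ a * x = x * a := by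
        by_contra hc
        push Not at hc
        exact hx (Subgroup.mem_center_iff.2 hc)
      have haZ : a ∉ Z := fun h => ha (Subgroup.mem_center_iff.1 h x).symm
      have hem : e ∈ (χ a).ker := (hker a e).2 (Subgroup.mem_center_iff.1 he a).symm
      obtain ⟨σ, h1, h2⟩ := exists_auto hp (χ a).ker (hidx a haZ) (t := x) (y := e)
        (fun h => ha ((hker a x).1 h).symm) hem (fun m _ => (Subgroup.mem_center_iff.1 he m).symm)
        (by rw [(show Commute x e from Subgroup.mem_center_iff.1 he x).mul_pow, hep, mul_one])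
      exact hF2 x e hx heD ⟨σ, h1 e hem, h2, fun c hc => h1 c ((hker a c).2 (Subgroup.mem_center_iff.1 (hDZ hc) a).symm)⟩
    refine hfin _ (hcount (fun g => (if g ∈ Z then p * p else 0) + 1) fun x => ?_) ?_
    · rw [Finset.sum_add_distrib, Finset.sum_const, smul_eq_mul, mul_one]
      by_cases hx : x ∈ Z
      · refine le_trans ?_ (Nat.le_add_right _ _)
        refine le_trans ?_ (Finset.single_le_sum (fun _ _ => Nat.zero_le _) (hself x))
        rw [if_pos hx]
      · exact (hbigorb x hx).trans (Nat.le_add_left _ _)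
    · rw [Finset.sum_add_distrib, hsumZ, Finset.sum_const, smul_eq_mul, mul_one, Finset.card_univ,
        ← Nat.card_eq_fintype_card, ← hn]
      have := Nat.mul_le_mul_right n hp2
      linarith
  push Not at hA
  obtain ⟨y, hy, hty⟩ : ∃ y, y ∉ Z ∧ ∀ t, ¬ t * y = y * t → (t * y) ^ p = t ^ p := by
    by_cases hp2' : p = 2
    · let q : G → G := fun g => g ^ 2
      have hsqZ : ∀ g : G, g ^ p ∈ Z := fun g => Subgroup.mem_center_iff.2 fun a => by
        refine ((hker a (g ^ p)).1 ?_).symm
        rw [MonoidHom.mem_ker, map_pow]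
        exact Subtype.ext (show ⁅g, a⁆ ^ p = 1 from hcp g a)
      letI : CommGroup Z := { (inferInstance : Group Z) with
        mul_comm := fun a b => Subtype.ext (Subgroup.mem_center_iff.1 b.2 a) }
      let sq : Z →* Z := powMonoidHom 2
      set S := sq.range
      have hS : ∀ u v : Z, u ∉ S → v ∉ S → u * v ∈ S := by
        intro u v hu hv
        have hle : S.index ≤ 2 := by
          have h1 : Nat.card S * S.index = Nat.card S * Nat.card sq.ker := by
            rw [S.card_mul_index, ← sq.ker.card_mul_index, Subgroup.index_ker, mul_comm]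
          have h2 : Nat.card sq.ker ≤ 2 := by
            refine le_trans (Nat.card_le_card_of_injective (fun k : sq.ker => (⟨((k : Z) : G), hA _ (k : Z).2
              (by rw [hp2']; exact congrArg Subtype.val k.2)⟩ : D)) fun a b h =>
              Subtype.ext (Subtype.ext (congrArg Subtype.val h :)))
              (le_of_eq (hDp.trans hp2'))
          exact (Nat.eq_of_mul_eq_mul_left Nat.card_pos h1).trans_le h2
        rcases Nat.lt_or_ge S.index 2 with h | h
        · have := S.index_ne_zero_of_finite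
          rw [Subgroup.index_eq_one.1 (show S.index = 1 by omega)]
          exact Subgroup.mem_top _
        · exact (Subgroup.mul_mem_iff_of_index_two (by omega)).2 ⟨fun h' => absurd h' hu, fun h' => absurd h' hv⟩
      by_contra hc
      push Not at hc
      -- a noncentral element with square a commutator would do
      have hbad : ∀ g, g ∉ Z → ∀ (a b : G), ⁅a, b⁆ ≠ 1 → ∀ z : Z, g ^ 2 * (z : G) ^ 2 ≠ ⁅a, b⁆ := by
        intro g hg a b hab z he
        have hg' : g * (z : G) ∉ Z := fun h => hg ((Z.mul_mem_cancel_right z.2).1 h)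
        obtain ⟨t, ht, hne⟩ := hc _ hg'
        apply hne
        have hz2 : (g * (z : G)) ^ 2 = g ^ 2 * (z : G) ^ 2 :=
          (show Commute g z from Subgroup.mem_center_iff.1 z.2 g).mul_pow 2
        rw [hp2', hpw, hz2, he, show Nat.choose 2 2 = 1 from rfl, pow_one, mul_assoc]
        refine mul_eq_left.2 ?_
        have htwo : ∀ a b : G, ⁅a, b⁆ ≠ 1 → ∀ a' b' : G, ⁅a', b'⁆ ≠ 1 → ⁅a, b⁆ * ⁅a', b'⁆ = 1 := by
          intro a b h a' b' h'
          by_contra h3
          have h5 := Finset.card_le_univ (α := D) {1, ⟨⁅a, b⁆, hcm a b⟩, ⟨⁅a', b'⁆, hcm a' b'⟩}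
          rw [← Nat.card_eq_fintype_card, hDp, hp2', Finset.card_eq_three.2 ⟨_, _, _, fun e => h (congrArg Subtype.val e).symm,
            fun e => h' (congrArg Subtype.val e).symm, fun e => h3 (by
              have h6 : ⁅a, b⁆ = ⁅a', b'⁆ := congrArg Subtype.val e
              rw [← h6, ← pow_two, ← hp2', hcp]), rfl⟩] at h5
          omega
        exact htwo a b hab _ _ fun h => ht (commutatorElement_eq_one_iff_mul_comm.1 h).symm
      obtain ⟨a, b, hab⟩ : ∃ a b : G, ¬ a * b = b * a := by
        by_contra h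
        push Not at h
        exact hna ⟨⟨h⟩⟩
      have habc : ⁅b, a⁆ ≠ 1 := fun h => hab (commutatorElement_eq_one_iff_mul_comm.1 h).symm
      have haZ : a ∉ Z := fun h => hab (Subgroup.mem_center_iff.1 h b).symm
      have hbZ : b ∉ Z := fun h => hab (Subgroup.mem_center_iff.1 h a)
      have habZ : a * b ∉ Z := fun h => hab (by
        have := Subgroup.mem_center_iff.1 h a
        rw [mul_assoc] at this
        exact mul_left_cancel this)
      let c : Z := ⟨⁅b, a⁆, hDZ (hcm b a)⟩
      let u : Z := ⟨a ^ 2, hp2' ▸ hsqZ a⟩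
      let v : Z := ⟨b ^ 2, hp2' ▸ hsqZ b⟩
      let w : Z := ⟨(a * b) ^ 2, hp2' ▸ hsqZ (a * b)⟩
      have hw : w = u * v * c := Subtype.ext (by
        show (a * b) ^ 2 = a ^ 2 * b ^ 2 * ⁅b, a⁆
        rw [hpw, show Nat.choose 2 2 = 1 from rfl, pow_one])
      have hno : ∀ g (hg : g ∉ Z) (s : Z), (s : G) = g ^ 2 → s⁻¹ * c ∉ S := by
        rintro g hg s hs ⟨z, hz⟩
        refine hbad g hg b a habc z ?_
        rw [← hs]
        exact congrArg Subtype.val (show s * sq z = c by rw [hz, mul_inv_cancel_left])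
      have hu := hno a haZ u rfl
      have hv := hno b hbZ v rfl
      have hw' := hno _ habZ w rfl
      have huv := hS _ _ hu hv
      apply hw'
      have hcc : c * c = 1 := Subtype.ext (by
        show ⁅b, a⁆ * ⁅b, a⁆ = 1
        rw [← pow_two, ← hp2', hcp])
      rw [hw, show (u * v * c)⁻¹ * c = u⁻¹ * c * (v⁻¹ * c) by
        rw [mul_inv, mul_inv, inv_mul_cancel_right, mul_mul_mul_comm u⁻¹, hcc, mul_one]]
      exact huv
    · have hodd : p ∣ p.choose 2 := hp.dvd_choose_self (by norm_num) (by omega)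
      have hz : ∀ a b : G, ⁅b, a⁆ ^ p.choose 2 = 1 := fun a b => by
        obtain ⟨k, hk⟩ := hodd
        rw [hk, pow_mul, hcp, one_pow]
      have hmem : ∀ g : G, g ^ p ∈ Z := fun g => Subgroup.mem_center_iff.2 fun a => by
        refine ((hker a (g ^ p)).1 ?_).symm
        rw [MonoidHom.mem_ker, map_pow]
        exact Subtype.ext (show ⁅g, a⁆ ^ p = 1 from hcp g a)
      let pw : G →* Z :=
        { toFun := fun g => ⟨g ^ p, hmem g⟩
          map_one' := Subtype.ext (one_pow p)
          map_mul' := fun a b => Subtype.ext (by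
            show (a * b) ^ p = a ^ p * b ^ p
            rw [hpw, hz, mul_one]) }
      by_contra hc
      push Not at hc
      have hkle : pw.ker ≤ D := fun g hg => by
        have hgp : g ^ p = 1 := congrArg Subtype.val hg
        refine hA g ?_ hgp
        by_contra hgZ
        obtain ⟨t, -, hne⟩ := hc g hgZ
        exact hne (by rw [hpw, hz, hgp, mul_one, mul_one])
      have h1 := pw.ker.card_mul_index
      rw [Subgroup.index_ker, ← hn] at h1
      have h2 : n ≤ p * Nat.card Z := by
        rw [← h1]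
        exact Nat.mul_le_mul (hDp ▸ Subgroup.card_le_of_le hkle) (Subgroup.card_le_card_group _)
      have h3 := Nat.card_pos (α := Z)
      have h4 := Nat.mul_le_mul_right (p * Nat.card Z) hp2
      have : 0 < p * Nat.card Z := Nat.mul_pos hp.pos h3
      linarith
  have hyD : y ∉ D := fun h => hy (hDZ h)
  set M := (χ y).ker
  have hbigorb : ∀ x, x ∉ M → p * p ≤ (F x).card := by
    intro x hx
    have hxy : ¬ x * y = y * x := fun h => hx ((hker y x).2 h)
    have hxZ : x ∉ Z := fun h => hxy (Subgroup.mem_center_iff.1 h y).symm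
    obtain ⟨σ, h1, h2⟩ := exists_auto hp M (hidx y hy) (t := x) (y := y) hx ((hker y y).2 rfl)
      (fun m hm => ((hker y m).1 hm).symm) (hty x hxy)
    exact hF2 x y hxZ hyD ⟨σ, h1 y ((hker y y).2 rfl), h2, fun c hc => h1 c ((hker y c).2 (Subgroup.mem_center_iff.1 (hDZ hc) y).symm)⟩
  refine hfin _ (hcount (fun g => (if g ∈ Z then p * p - p else 0) + ((if g ∈ M then p - 1 else 0) + 1)) fun x => ?_) ?_
  · rw [Finset.sum_add_distrib]
    by_cases hx : x ∈ Z
    · rw [← Finset.sum_add_distrib]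
      refine le_trans ?_ (Finset.single_le_sum (fun _ _ => Nat.zero_le _) (hself x))
      rw [if_pos hx, if_pos ((hker y x).2 (Subgroup.mem_center_iff.1 hx y).symm)]
      have := Nat.le_mul_self p
      omega
    refine le_trans ?_ (Nat.le_add_left _ _)
    by_cases hxM : ∀ g ∈ F x, g ∈ M
    · calc p * p ≤ (F x).card * p := Nat.mul_le_mul_right p (hF1 x hx)
        _ = ∑ g ∈ F x, p := by rw [Finset.sum_const, smul_eq_mul]
        _ ≤ _ := Finset.sum_le_sum fun g hg => by rw [if_pos (hxM g hg)]; omega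
    · push Not at hxM
      obtain ⟨g, hg, hgM⟩ := hxM
      obtain ⟨τ, rfl⟩ := (Finset.mem_filter.1 hg).2
      refine (hbigorb _ hgM).trans ?_
      calc (F (τ x)).card ≤ (F x).card := Finset.card_le_card fun h hh => by
            obtain ⟨σ, rfl⟩ := (Finset.mem_filter.1 hh).2
            exact Finset.mem_filter.2 ⟨Finset.mem_univ _, σ * τ, rfl⟩
        _ ≤ _ := by rw [Finset.card_eq_sum_ones]; exact Finset.sum_le_sum fun g _ => Nat.le_add_left _ _
  · rw [Finset.sum_add_distrib, Finset.sum_add_distrib, hsumZ, Finset.sum_const, smul_eq_mul, mul_one,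
      Finset.card_univ, ← Nat.card_eq_fintype_card, ← hn, ← Finset.sum_filter, Finset.sum_const, smul_eq_mul,
      ← Fintype.card_subtype, ← Nat.card_eq_fintype_card]
    have hM : Nat.card M * p = n := by rw [hn, ← M.card_mul_index, hidx y hy]
    have hzp : p * Nat.card Z ≤ Nat.card M :=
      Nat.le_of_mul_le_mul_left (by rw [mul_comm p (Nat.card M), hM, ← mul_assoc]; exact hZidx) hp.pos
    show (p * p - p) * Nat.card Z + (Nat.card M * (p - 1) + n) ≤ p * n
    obtain ⟨r, hr⟩ : ∃ r, p = r + 1 := ⟨p - 1, by omega⟩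
    rw [hr, show (r + 1) * (r + 1) - (r + 1) = r * (r + 1) from Nat.sub_eq_of_eq_add (by ring),
      Nat.add_sub_cancel, ← hM, hr]
    rw [hr] at hzp
    have hr1 : r ≤ r * r := Nat.le_mul_self r
    have := Nat.mul_le_mul_left r hzp
    have := Nat.mul_le_mul_left (Nat.card M) hr1
    linarith

end Cfsg.Agent.S4067
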