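import Cfsg.Statements.S4068

import Cfsg.Agent.Perm.FourOrbitsFinal

set_option autoImplicit false
set_option linter.style.haveILetI false
open Cfsg

namespace Cfsg.Agent.S4068
open CfsgLib.Perm CfsgLib.Perm.FourOrbits

/-- A finite non-solvable group on which its automorphism group has exactly four orbits is isomorphic to the alternating group of degree 5. -/
theorem result {G : Type*} [Group G] [Finite G] (hns : ¬ Group.IsSolvable G)
    (h4 : Nat.card (MulAction.orbitRel.Quotient (MulAut G) G) = 4) : Nonempty (G ≃* alternatingGroup (Fin 5)) := by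
  classical
  letI := Fintype.ofFinite G
  let f : MulAction.orbitRel.Quotient (MulAut G) G → ℕ := Quotient.lift orderOf fun a b hab => by
    obtain ⟨φ, hφ⟩ := MulAction.orbitRel_apply.1 hab
    rw [← hφ]
    exact (MulEquiv.orderOf_eq φ b)
  have hf : ∀ g : G, f (Quotient.mk'' g) = orderOf g := fun g => rfl
  haveI : Finite (MulAction.orbitRel.Quotient (MulAut G) G) := inferInstance
  letI := Fintype.ofFinite (MulAction.orbitRel.Quotient (MulAut G) G)
  set s : Finset ℕ := Finset.univ.image (orderOf : G → ℕ) with hs
  have hsf : s = Finset.univ.image f := by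
    ext k
    simp only [hs, Finset.mem_image, Finset.mem_univ, true_and]
    exact ⟨fun ⟨g, hg⟩ => ⟨_, (hf g).trans hg⟩,
      fun ⟨x, hx⟩ => by induction x using Quotient.inductionOn' with | _ g => exact ⟨g, hx⟩⟩
  have hs4 : s.card ≤ 4 := by
    rw [hsf]
    refine Finset.card_image_le.trans ?_
    rw [Finset.card_univ, ← Nat.card_eq_fintype_card, h4]
  have hsub : insert 1 (Nat.card G).primeFactors ⊆ s := by
    intro k hk
    simp only [hs, Finset.mem_image, Finset.mem_univ, true_and]
    rcases Finset.mem_insert.1 hk with rfl | hk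
    · exact ⟨1, orderOf_one⟩
    · haveI := Fact.mk (Nat.prime_of_mem_primeFactors hk)
      exact exists_prime_orderOf_dvd_card' k (Nat.dvd_of_mem_primeFactors hk)
  have h1 : (1 : ℕ) ∉ (Nat.card G).primeFactors := fun h =>
    (Nat.prime_of_mem_primeFactors h).ne_one rfl
  have hcard : (Nat.card G).primeFactors.card = 3 := by
    have hle := (Finset.card_le_card hsub).trans hs4
    rw [Finset.card_insert_of_notMem h1] at hle
    by_contra hne
    apply hns
    have hmem : ∀ r, r.Prime → r ∣ Nat.card G → r ∈ (Nat.card G).primeFactors := fun r hr hd =>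
      Nat.mem_primeFactors.2 ⟨hr, hd, Nat.card_pos.ne'⟩
    rcases Nat.lt_or_ge (Nat.card G).primeFactors.card 2 with h2 | h2
    · rcases (Nat.card G).primeFactors.eq_empty_or_nonempty with e | ⟨a, ha⟩
      · exact solvable_of_two 2 2 Nat.prime_two Nat.prime_two fun r hr hd => by
          have := hmem r hr hd; rw [e] at this; simp at this
      · exact solvable_of_two a a (Nat.prime_of_mem_primeFactors ha)
          (Nat.prime_of_mem_primeFactors ha) fun r hr hd =>
            Or.inl (Finset.card_le_one.1 (by omega) _ (hmem r hr hd) _ ha)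
    · obtain ⟨a, b, -, hab⟩ := Finset.card_eq_two.1 (show (Nat.card G).primeFactors.card = 2 by omega)
      have ha : a.Prime := Nat.prime_of_mem_primeFactors (n := Nat.card G) (hab ▸ by simp)
      have hb : b.Prime := Nat.prime_of_mem_primeFactors (n := Nat.card G) (hab ▸ by simp)
      exact solvable_of_two a b ha hb fun r hr hd => by
        have := hmem r hr hd; rw [hab] at this; simpa using this
  have hseq : insert 1 (Nat.card G).primeFactors = s :=
    Finset.eq_of_subset_of_card_le hsub (by rw [Finset.card_insert_of_notMem h1, hcard]; exact hs4)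
  have hH : Hyp G := by
    refine ⟨fun g hg => ?_, fun x y hxy => ?_, hns⟩
    · have : orderOf g ∈ insert 1 (Nat.card G).primeFactors :=
        hseq ▸ Finset.mem_image_of_mem _ (Finset.mem_univ g)
      rcases Finset.mem_insert.1 this with e | e
      · exact absurd (orderOf_eq_one_iff.1 e) hg
      · exact Nat.prime_of_mem_primeFactors e
    · have hinj : Set.InjOn f (Finset.univ : Finset (MulAction.orbitRel.Quotient (MulAut G) G)) := by
        rw [← Finset.card_image_iff, ← hsf, ← hseq, Finset.card_insert_of_notMem h1, hcard,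
          Finset.card_univ, ← Nat.card_eq_fintype_card, h4]
      have := hinj (Finset.mem_coe.2 (Finset.mem_univ (Quotient.mk'' x)))
        (Finset.mem_coe.2 (Finset.mem_univ (Quotient.mk'' y))) hxy
      obtain ⟨φ, hφ⟩ := MulAction.orbitRel_apply.1 (Quotient.eq''.1 this.symm)
      exact ⟨φ, hφ⟩
  obtain ⟨a, b, c, hab, hac, hbc, habc⟩ := Finset.card_eq_three.1 hcard
  have hP : ∀ r ∈ ({a, b, c} : Finset ℕ), r.Prime ∧ r ∣ Nat.card G := fun r hr => by
    rw [← habc] at hr
    exact ⟨Nat.prime_of_mem_primeFactors hr, Nat.dvd_of_mem_primeFactors hr⟩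
  have hall : ∀ r, r.Prime → r ∣ Nat.card G → r = a ∨ r = b ∨ r = c := fun r hr hd => by
    have : r ∈ (Nat.card G).primeFactors := Nat.mem_primeFactors.2 ⟨hr, hd, Nat.card_pos.ne'⟩
    rw [habc] at this; simpa using this
  -- the order is even
  have h2 : 2 ∣ Nat.card G := by
    by_contra hodd
    have bound : ∀ r ∈ ({a, b, c} : Finset ℕ), 3 * num G r + 3 ≤ Nat.card G := by
      intro r hr
      haveI := Fact.mk (hP r hr).1
      have hr2 : r ≠ 2 := fun e => hodd (e ▸ (hP r hr).2)
      obtain ⟨P⟩ : Nonempty (Sylow r G) := inferInstance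
      obtain ⟨u, v, hu, hv, huv⟩ : ∃ u v : ℕ, u.Prime ∧ v.Prime ∧
          ∀ s, s.Prime → s ∣ Nat.card G → s = r ∨ s = u ∨ s = v := by
        simp only [Finset.mem_insert, Finset.mem_singleton] at hr
        rcases hr with rfl | rfl | rfl
        · exact ⟨b, c, (hP b (by simp)).1, (hP c (by simp)).1, hall⟩
        · exact ⟨a, c, (hP a (by simp)).1, (hP c (by simp)).1, fun s hs hd => by
            rcases hall s hs hd with e | e | e <;> simp [e]⟩
        · exact ⟨a, b, (hP a (by simp)).1, (hP b (by simp)).1, fun s hs hd => by
            rcases hall s hs hd with e | e | e <;> simp [e]⟩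
      have hpos : 0 < Nat.card G := Nat.card_pos
      rcases odd_cases hH hr2 hu hv huv P with ⟨t, ht, -⟩ | h9 | ⟨e, he, -, -, -, heq, hz, -⟩
      · exact absurd (ht ▸ orderOf_dvd_natCard t) hodd
      · by_cases h0 : num G r = 0
        · have := Nat.le_of_dvd hpos (hP r hr).2
          have := (hP r hr).1.two_le
          omega
        · omega
      · have hx : 3 * Nat.card (P : Subgroup G) ≤ Nat.card G := by
          obtain ⟨w, hw, hwr, hwd⟩ : ∃ w, w.Prime ∧ w ≠ r ∧ w ∣ Nat.card G := by
            by_cases e : a = r
            · exact ⟨b, (hP b (by simp)).1, fun e' => hab (e.trans e'.symm), (hP b (by simp)).2⟩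
            · exact ⟨a, (hP a (by simp)).1, e, (hP a (by simp)).2⟩
          have hw3 : 3 ≤ w := by
            have := hw.two_le
            rcases eq_or_ne w 2 with rfl | e
            · exact absurd hwd hodd
            · omega
          have hdvd : w ∣ (P : Subgroup G).index := by
            have := hwd
            rw [← (P : Subgroup G).card_mul_index] at this
            refine (hw.dvd_mul.1 this).resolve_left fun hd => hwr ?_
            obtain ⟨k, hk⟩ := IsPGroup.iff_card.1 P.2
            rw [hk] at hd
            exact (Nat.prime_dvd_prime_iff_eq hw (hP r hr).1).1 (hw.dvd_of_dvd_pow hd)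
          have hi : 0 < (P : Subgroup G).index := Nat.pos_of_ne_zero Subgroup.index_ne_zero_of_finite
          calc 3 * Nat.card (P : Subgroup G) ≤ (P : Subgroup G).index * Nat.card (P : Subgroup G) :=
                Nat.mul_le_mul_right _ (hw3.trans (Nat.le_of_dvd hi hdvd))
            _ = Nat.card G := Subgroup.index_mul_card _
        refine Nat.le_of_mul_le_mul_right ?_ (Nat.card_pos (α := (P : Subgroup G)))
        have h1' := Nat.mul_le_mul_left (Nat.card G) hz
        have h2' := Nat.mul_le_mul_left (num G r * Nat.card (P : Subgroup G)) he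
        nlinarith
    have hsum : Nat.card G = 1 + ∑ r ∈ ({a, b, c} : Finset ℕ), num G r :=
      card_eq_one_add hH _ (fun r hr => (hP r hr).1) fun g hg => by
        have := hall _ (hH.pr g hg) (orderOf_dvd_natCard g)
        simpa using this
    rw [Finset.sum_insert (by simp [hab, hac]), Finset.sum_insert (by simp [hbc]),
      Finset.sum_singleton] at hsum
    have := bound a (by simp)
    have := bound b (by simp)
    have := bound c (by simp)
    omega
  obtain ⟨p, q, S⟩ : ∃ p q, Setup G p q := by
    rcases hall 2 Nat.prime_two h2 with e | e | e <;> subst e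
    · exact ⟨b, c, hH, (hP b (by simp)).1, (hP c (by simp)).1, hab.symm, hac.symm, hbc,
        (hP b (by simp)).2, (hP c (by simp)).2, h2, hall⟩
    · exact ⟨a, c, hH, (hP a (by simp)).1, (hP c (by simp)).1, hab, hbc.symm, hac,
        (hP a (by simp)).2, (hP c (by simp)).2, h2, fun r hr hd => by
          rcases hall r hr hd with e | e | e <;> simp [e]⟩
    · exact ⟨a, b, hH, (hP a (by simp)).1, (hP b (by simp)).1, hac, hbc, hab,
        (hP a (by simp)).2, (hP b (by simp)).2, h2, fun r hr hd => by
          rcases hall r hr hd with e | e | e <;> simp [e]⟩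
  obtain ⟨h60, h44⟩ : Nat.card G = 60 ∧ num G 3 + num G 5 = 44 := by
    rcases S.some_inverted with hp | hq
    · exact S.card_sixty hp
    · exact S.symm.card_sixty hq
  haveI : Nontrivial G := Finite.one_lt_card_iff_nontrivial.1 (by omega)
  haveI : IsSimpleGroup G := ⟨fun N hN => by
    by_contra hcon
    push Not at hcon
    obtain ⟨hb, ht⟩ := hcon
    have hmul := N.index_mul_card
    rw [h60] at hmul
    have h3 : 3 ∣ Nat.card N ∧ 5 ∣ Nat.card N ∧ 2 ∣ Nat.card N ∨ False := by
      left
      have key : ∀ r u v : ℕ, r.Prime → u.Prime → v.Prime → (∀ k, k.Prime → k ∣ 60 → k = r ∨ k = u ∨ k = v) →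
          (¬ r ∣ N.index ∨ ¬ u ∣ N.index ∨ ¬ v ∣ N.index) → r ∣ Nat.card N := by
        intro r u v hr hu hv hk hidx
        by_contra hnd
        haveI := solvable_of_two u v hu hv (H := N) fun k hkp hkd =>
          (hk k hkp (h60 ▸ hkd.trans N.card_subgroup_dvd_card)).resolve_left fun e => hnd (e ▸ hkd)
        haveI : Group.IsSolvable (G ⧸ N) := by
          have hsub : ∀ k, k.Prime → k ∣ Nat.card (G ⧸ N) → k = r ∨ k = u ∨ k = v := fun k hkp hkd => by
            rw [← Subgroup.index_eq_card] at hkd
            exact hk k hkp (h60 ▸ hkd.trans N.index_dvd_card)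
          rcases hidx with e | e | e
          · exact solvable_of_two u v hu hv fun k hkp hkd => (hsub k hkp hkd).resolve_left
              fun e' => e (by rw [← Subgroup.index_eq_card] at hkd; exact e' ▸ hkd)
          · exact solvable_of_two r v hr hv fun k hkp hkd => by
              rcases hsub k hkp hkd with e' | e' | e'
              · exact Or.inl e'
              · exact absurd (by rw [← Subgroup.index_eq_card] at hkd; exact e' ▸ hkd) e
              · exact Or.inr e'
          · exact solvable_of_two r u hr hu fun k hkp hkd => by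
              rcases hsub k hkp hkd with e' | e' | e'
              · exact Or.inl e'
              · exact Or.inr e'
              · exact absurd (by rw [← Subgroup.index_eq_card] at hkd; exact e' ▸ hkd) e
        exact hns ((Group.isSolvable_iff_subgroup_quotient N).2 ⟨inferInstance, inferInstance⟩)
      have hNd : Nat.card N ∣ 60 := Dvd.intro_left _ hmul
      have hN1 : 1 < Nat.card N := N.one_lt_card_iff_ne_bot.2 hb
      have hidx : ¬ 3 ∣ N.index ∨ ¬ 5 ∣ N.index ∨ ¬ 2 ∣ N.index := by
        by_contra hcon
        push Not at hcon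
        obtain ⟨i3, i5, i2⟩ := hcon
        have : 30 ∣ N.index := by omega
        have := Nat.le_of_dvd (Nat.pos_of_ne_zero Subgroup.index_ne_zero_of_finite) this
        have : Nat.card N ≤ 2 := by nlinarith
        have h2N : Nat.card N = 2 := by omega
        haveI := Fact.mk Nat.prime_two
        exact hb (no_normal_two S.hyp S.pp S.qq S.only N (IsPGroup.of_card (n := 1) (by simpa using h2N)))
      have hk : ∀ k, k.Prime → k ∣ 60 → k = 3 ∨ k = 5 ∨ k = 2 := fun k hk hd => by
        have hm : k ∈ (60 : ℕ).primeFactors := Nat.mem_primeFactors.2 ⟨hk, hd, by norm_num⟩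
        have h' : k ∣ 2 * 2 * 3 * 5 := by norm_num; exact hd
        rcases hk.dvd_mul.1 h' with e | e
        · rcases hk.dvd_mul.1 e with e | e
          · rcases hk.dvd_mul.1 e with e | e <;>
              exact Or.inr (Or.inr ((Nat.prime_dvd_prime_iff_eq hk Nat.prime_two).1 e))
          · exact Or.inl ((Nat.prime_dvd_prime_iff_eq hk Nat.prime_three).1 e)
        · exact Or.inr (Or.inl ((Nat.prime_dvd_prime_iff_eq hk (by norm_num)).1 e))
      exact ⟨key 3 5 2 (by norm_num) (by norm_num) Nat.prime_two hk hidx,
        key 5 3 2 (by norm_num) (by norm_num) Nat.prime_two (fun k h1 h2 => by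
          rcases hk k h1 h2 with e | e | e <;> simp [e]) (by tauto),
        key 2 3 5 Nat.prime_two (by norm_num) (by norm_num) (fun k h1 h2 => by
          rcases hk k h1 h2 with e | e | e <;> simp [e]) (by tauto)⟩
    obtain ⟨h3, h5, h2N⟩ := h3.resolve_right id
    have hi2 : N.index ≤ 2 := by
      have : 30 ≤ Nat.card N := Nat.le_of_dvd Nat.card_pos (by omega)
      nlinarith
    have hi1 : N.index ≠ 1 := fun e => ht (Subgroup.index_eq_one.1 e)
    have hi : N.index = 2 := by
      have := Nat.pos_of_ne_zero (Subgroup.index_ne_zero_of_finite (H := N))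
      omega
    have hodd : ∀ g : G, Odd (orderOf g) → g ∈ N := by
      intro g hg
      obtain ⟨j, hj⟩ := exists_half hg
      rw [← hj]
      exact Subgroup.mul_self_mem_of_index_two hi _
    have : num G 3 + num G 5 + 1 ≤ Nat.card N := by
      let F : ({x : G // orderOf x = 3} ⊕ {x : G // orderOf x = 5}) ⊕ Unit → N :=
        Sum.elim (Sum.elim (fun x => ⟨x.1, hodd _ (by rw [x.2]; decide)⟩)
          (fun x => ⟨x.1, hodd _ (by rw [x.2]; decide)⟩)) (fun _ => 1)
      have hF : Function.Injective F := by
        intro x y hxy
        have e := congrArg (fun n : N => (n : G)) hxy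
        have eo := congrArg (fun n : N => orderOf (n : G)) hxy
        rcases x with (x | x) | x <;> rcases y with (y | y) | y <;>
          simp only [F, Sum.elim_inl, Sum.elim_inr, Subgroup.coe_one, orderOf_one] at e eo <;>
          first
            | exact congrArg (fun z => Sum.inl (Sum.inl z)) (Subtype.ext e)
            | exact congrArg (fun z => Sum.inl (Sum.inr z)) (Subtype.ext e)
            | rfl
            | (exfalso; (try have := x.2); (try have := y.2); omega)
      have := Nat.card_le_card_of_injective F hF
      rwa [Nat.card_sum, Nat.card_sum, Nat.card_unique (α := Unit)] at this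
    rw [hi] at hmul
    omega⟩
  exact CfsgLib.OrderSixty.iso_alt5 h60

end Cfsg.Agent.S4068
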