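import Mathlib
-- Template for statement S4071 (row 4071; see /opt/grader/pristine/manifest.json for weights).
-- Copy to Cfsg/Agent/S4071.lean and replace the sorry. The statement below is byte-identical to the frozen
-- statement Cfsg.CfsgFrozen.S4071 (Cfsg/Statements/S4071.lean; the theorem Cfsg.fg5_selfnormalizing_nonabelian_subgroups_solvable_nonnilpotent_structure);
-- the grader kernel-checks Cfsg.Agent.S4071.result against that frozen type. Keep the theorem IN THIS FILE
-- (a `result` declared elsewhere and merely imported here is not credited); helpers may live anywhere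
-- under Cfsg/Agent/.
import Cfsg.Statements.S4071
import Cfsg.Agent.Solv.Basic
import Cfsg.Agent.Solv.FittingBasic
-- import your own Cfsg.Agent.* helpers here

set_option autoImplicit false
open Cfsg

open scoped commutatorElement

namespace Cfsg.Agent.S4071

theorem nilpotent_of_comm {G : Type*} [Group G] (M : Subgroup G) (h : IsMulCommutative M) :
    Group.IsNilpotent M := by
  open scoped IsMulCommutative in
  exact (inferInstance : Group.IsNilpotent M)

theorem nilpotent_of_two_abelian {G : Type*} [Group G] [Finite G] (M N : Subgroup G) [M.Normal] [N.Normal]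
    (hM : IsMulCommutative M) (hN : IsMulCommutative N) (htop : M ⊔ N = ⊤) : Group.IsNilpotent G := by
  have h := CfsgLib.Solv.isNilpotent_sup_of_normal M N (nilpotent_of_comm M hM) (nilpotent_of_comm N hN)
  rw [htop] at h
  exact (Group.isNilpotent_congr Subgroup.topEquiv).1 h

/-- Let G be a finite solvable non-nilpotent group. Every non-abelian subgroup of G is self-normalizing if and only if G is a semidirect product ⟨x⟩ ⋉ A in which ⟨x⟩ is a p-group for some prime p, A is a normal abelian subgroup of order prime to p, x^p is central in G, and x acts fixed-point-freely on A (no non-identity element of A commutes with x). -/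
theorem result {G : Type*} [Group G] [Finite G]
    [Group.IsSolvable G] (hnn : ¬ Group.IsNilpotent G) :
    (∀ H : Subgroup G, ¬ IsMulCommutative H → Subgroup.normalizer (H : Set G) = H) ↔
    ∃ (x : G) (A : Subgroup G) (p : ℕ), p.Prime ∧ A.Normal ∧ IsMulCommutative A ∧ (∃ k : ℕ, orderOf x = p ^ k) ∧
      ¬ p ∣ Nat.card A ∧ (Subgroup.zpowers x).IsComplement' A ∧ x ^ p ∈ Subgroup.center G ∧
      ∀ a : G, a ∈ A → a ≠ 1 → x * a * x⁻¹ ≠ a := by
  classical
  constructor
  · intro hS
    have hnorm : ∀ X : Subgroup G, X.Normal → X ≠ ⊤ → IsMulCommutative X := fun X hX hXt => by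
      by_contra hc
      exact hXt ((hS X hc).symm.trans (Subgroup.normalizer_eq_top_iff.2 hX))
    haveI : Nontrivial G := by
      by_contra hn
      rw [not_nontrivial_iff_subsingleton] at hn
      exact hnn inferInstance
    obtain ⟨M, hM, hGM⟩ := (eq_top_or_exists_le_coatom (commutator G)).resolve_left
      (Group.IsSolvable.commutator_lt_top_of_nontrivial G).ne
    have hnormal : ∀ K : Subgroup G, commutator G ≤ K → K.Normal := fun K hK => ⟨fun m hm g => by
      have h1 : ⁅g, m⁆ ∈ K := hK (Subgroup.commutator_mem_commutator (Subgroup.mem_top g) (Subgroup.mem_top m))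
      simpa [commutatorElement_def] using K.mul_mem h1 hm⟩
    haveI := hnormal M hGM
    have hMab := hnorm M inferInstance hM.1
    -- two coatoms above the commutator subgroup coincide
    have huniq : ∀ K : Subgroup G, IsCoatom K → commutator G ≤ K → K = M := by
      intro K hK hGK
      haveI := hnormal K hGK
      by_contra hne
      refine hnn (nilpotent_of_two_abelian K M (hnorm K inferInstance hK.1) hMab ?_)
      exact hK.2 _ (lt_of_le_of_ne le_sup_left fun h => hne ((hM.le_iff.1 (le_sup_right.trans h.symm.le)).resolve_left hK.1))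
    let π := QuotientGroup.mk' M
    have hπ : Function.Surjective π := QuotientGroup.mk'_surjective M
    obtain ⟨p, hp, hpi⟩ := Nat.exists_prime_and_dvd (fun h => hM.1 (Subgroup.index_eq_one.1 h) : M.index ≠ 1)
    haveI := Fact.mk hp
    have hidx : M.index = p := by
      obtain ⟨q, hq⟩ := exists_prime_orderOf_dvd_card' (G := G ⧸ M) p (by rwa [← Subgroup.index_eq_card])
      have hKM : M ≤ (Subgroup.zpowers q).comap π :=
        (QuotientGroup.ker_mk' M).ge.trans (Subgroup.ker_le_comap π _)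
      have hKt : (Subgroup.zpowers q).comap π = ⊤ := by
        refine (hM.le_iff.1 hKM).resolve_right fun h => ?_
        obtain ⟨g, rfl⟩ := hπ q
        have h1 : g ∈ (Subgroup.zpowers (π g)).comap π := Subgroup.mem_zpowers (π g)
        rw [h] at h1
        rw [show π g = 1 from (QuotientGroup.eq_one_iff g).2 h1, orderOf_one] at hq
        exact hp.one_lt.ne hq
      have h2 : Subgroup.zpowers q = ⊤ := by
        rw [← Subgroup.map_comap_eq_self_of_surjective hπ (Subgroup.zpowers q), hKt, Subgroup.map_top_of_surjective π hπ]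
      rw [Subgroup.index_eq_card, ← Subgroup.card_top, ← h2, Nat.card_zpowers, hq]
    set v := (Nat.card M).factorization p
    set e := Nat.card M / p ^ v with he
    have hMe : p ^ v * e = Nat.card M := Nat.ordProj_mul_ordCompl_eq_self _ _
    let A : Subgroup G :=
      { carrier := {g | g ∈ M ∧ g ^ e = 1}
        one_mem' := ⟨M.one_mem, one_pow e⟩
        inv_mem' := fun {a} ha => ⟨M.inv_mem ha.1, by rw [inv_pow, ha.2, inv_one]⟩
        mul_mem' := fun {a b} ha hb => ⟨M.mul_mem ha.1 hb.1, by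
          have hc : Commute a b := congrArg Subtype.val (hMab.is_comm.comm ⟨a, ha.1⟩ ⟨b, hb.1⟩)
          rw [hc.mul_pow, ha.2, hb.2, mul_one]⟩ }
    have hAM : A ≤ M := fun a ha => ha.1
    haveI hAn : A.Normal := ⟨fun a ha g => ⟨(inferInstance : M.Normal).conj_mem a ha.1 g, by
      rw [conj_pow, ha.2, mul_one, mul_inv_cancel]⟩⟩
    have hAab : IsMulCommutative A := ⟨⟨fun a b => Subtype.ext
      (congrArg Subtype.val (hMab.is_comm.comm ⟨a, hAM a.2⟩ ⟨b, hAM b.2⟩) :)⟩⟩
    have hApow : ∀ g : G, g ^ (p ^ (v + 1)) ∈ A := fun g => by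
      have h1 : g ^ p ∈ M := hidx ▸ Subgroup.pow_index_mem M g
      refine ⟨by rw [pow_succ', pow_mul]; exact M.pow_mem h1 _, ?_⟩
      rw [pow_succ', pow_mul g p, ← pow_mul, hMe]
      exact congrArg Subtype.val (pow_card_eq_one' (x := (⟨g ^ p, h1⟩ : M)))
    have hAp : ¬ p ∣ Nat.card A := fun h => by
      obtain ⟨a, ha⟩ := exists_prime_orderOf_dvd_card' (G := A) p h
      have h1 : a ^ e = 1 := Subtype.ext a.2.2
      exact Nat.not_dvd_ordCompl hp Nat.card_pos.ne' (ha ▸ orderOf_dvd_of_pow_eq_one h1)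
    obtain ⟨g₀, hg₀⟩ : ∃ g, g ∉ M := by
      by_contra hcon
      push Not at hcon
      exact hM.1 (eq_top_iff.2 fun y _ => hcon y)
    have hn0 : orderOf g₀ ≠ 0 := (orderOf_pos g₀).ne'
    set m := orderOf g₀ / p ^ (orderOf g₀).factorization p with hm
    have hgm : p ^ (orderOf g₀).factorization p * m = orderOf g₀ := Nat.ordProj_mul_ordCompl_eq_self _ _
    set x := g₀ ^ m with hx
    have hxM : x ∉ M := fun h => by
      have h1 : (π g₀) ^ m = 1 := by rw [← map_pow]; exact (QuotientGroup.eq_one_iff _).2 h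
      have h2 : (π g₀) ^ p = 1 := by
        rw [← map_pow]; exact (QuotientGroup.eq_one_iff _).2 (hidx ▸ Subgroup.pow_index_mem M g₀)
      have h3 := pow_gcd_eq_one.2 ⟨h1, h2⟩
      rw [show m.gcd p = 1 from Nat.Coprime.symm ((hp.coprime_iff_not_dvd).2 (Nat.not_dvd_ordCompl hp hn0)),
        pow_one] at h3
      exact hg₀ ((QuotientGroup.eq_one_iff _).1 h3)
    obtain ⟨k, hk⟩ : ∃ k, orderOf x = p ^ k := by
      obtain ⟨k, -, hk⟩ := (Nat.dvd_prime_pow hp).1 (orderOf_dvd_of_pow_eq_one (x := x)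
        (n := p ^ (orderOf g₀).factorization p) (by rw [hx, ← pow_mul, mul_comm, hgm, pow_orderOf_eq_one]))
      exact ⟨k, hk⟩
    have hgenC : Subgroup.zpowers x ⊔ commutator G = ⊤ := by
      by_contra hne
      obtain ⟨K, hK, hle⟩ := (eq_top_or_exists_le_coatom _).resolve_left hne
      exact hxM (huniq K hK (le_sup_right.trans hle) ▸ hle (Subgroup.mem_sup_left (Subgroup.mem_zpowers x)))
    have hgenA : Subgroup.zpowers x ⊔ A = ⊤ := by
      let ρ := QuotientGroup.mk' A
      have hρ : Function.Surjective ρ := QuotientGroup.mk'_surjective A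
      have hQ : IsPGroup p (G ⧸ A) := fun q => ⟨v + 1, by
        obtain ⟨g, rfl⟩ := hρ q
        rw [← map_pow]; exact (QuotientGroup.eq_one_iff _).2 (hApow g)⟩
      have h1 : Subgroup.zpowers (ρ x) = ⊤ := by
        refine frattini_nongenerating (top_le_iff.1 ?_)
        have h2 := congrArg (Subgroup.map ρ) hgenC
        rw [Subgroup.map_sup, MonoidHom.map_zpowers, Subgroup.map_top_of_surjective ρ hρ] at h2
        rw [← h2]
        refine sup_le_sup_left ?_ _
        rw [commutator_def, Subgroup.map_commutator, Subgroup.map_top_of_surjective ρ hρ, ← commutator_def]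
        exact CfsgLib.Solv.commutator_le_frattini hQ
      have h2 := congrArg (Subgroup.comap ρ) h1
      rw [← MonoidHom.map_zpowers, Subgroup.comap_map_eq, QuotientGroup.ker_mk', Subgroup.comap_top] at h2
      exact h2
    have hdisj : Disjoint (Subgroup.zpowers x) A := by
      rw [disjoint_iff]
      refine Subgroup.inf_eq_bot_of_coprime ?_
      rw [Nat.card_zpowers, hk]
      exact (hp.coprime_iff_not_dvd.2 hAp).pow_left k
    have hcompl : (Subgroup.zpowers x).IsComplement' A := by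
      refine Subgroup.isComplement'_of_disjoint_and_mul_eq_univ hdisj ?_
      rw [← Subgroup.mul_normal, hgenA, Subgroup.coe_top]
    refine ⟨x, A, p, hp, hAn, hAab, ⟨k, hk⟩, hAp, hcompl, ?_, ?_⟩
    · refine Subgroup.mem_center_iff.2 fun g => ?_
      have hle : Subgroup.zpowers x ⊔ A ≤ Subgroup.centralizer ({x ^ p} : Set G) := by
        refine sup_le (Subgroup.zpowers_le.2 (Subgroup.mem_centralizer_singleton_iff.2 ?_)) (fun a ha => ?_)
        · exact ((Commute.refl x).pow_right p).eq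
        · refine Subgroup.mem_centralizer_singleton_iff.2 ?_
          exact congrArg Subtype.val (hMab.is_comm.comm ⟨a, ha.1⟩ ⟨x ^ p, hidx ▸ Subgroup.pow_index_mem M x⟩)
      exact Subgroup.mem_centralizer_singleton_iff.1 (hle (hgenA ▸ Subgroup.mem_top g))
    · -- fixed-point-free
      have hAc : ∀ a b : G, a ∈ A → b ∈ A → a * b = b * a := fun a b ha hb =>
        congrArg Subtype.val (hAab.is_comm.comm ⟨a, ha⟩ ⟨b, hb⟩)
      let φ : A →* G :=
        { toFun := fun a => x * (a : G) * x⁻¹ * (a : G)⁻¹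
          map_one' := by simp
          map_mul' := fun a b => by
            have h1 : x * (b : G) * x⁻¹ * (b : G)⁻¹ ∈ A := A.mul_mem (hAn.conj_mem _ b.2 x) (A.inv_mem b.2)
            have h2 := hAc _ _ h1 (A.inv_mem a.2)
            calc x * ((a * b : A) : G) * x⁻¹ * ((a * b : A) : G)⁻¹
                = x * (a : G) * x⁻¹ * ((x * (b : G) * x⁻¹ * (b : G)⁻¹) * (a : G)⁻¹) := by
                  push_cast; group
              _ = _ := by rw [h2]; group }
      have hRA : φ.range ≤ A := by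
        rintro _ ⟨a, rfl⟩
        exact A.mul_mem (hAn.conj_mem _ a.2 x) (A.inv_mem a.2)
      set T := Subgroup.zpowers x ⊔ φ.range with hT
      haveI hTn : T.Normal := by
        rw [← Subgroup.normalizer_eq_top_iff, eq_top_iff, ← hgenA]
        refine sup_le ((Subgroup.zpowers_le.2 (Subgroup.mem_sup_left (Subgroup.mem_zpowers x))).trans
          Subgroup.le_normalizer) (fun a ha => ?_)
        have hfix : ∀ b ∈ A, ∀ t ∈ T, b * t * b⁻¹ ∈ T := by
          intro b hb
          suffices T ≤ T.comap (MulAut.conj b).toMonoidHom from fun t ht => this ht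
          refine sup_le (Subgroup.zpowers_le.2 ?_) (fun r hr => ?_)
          · show b * x * b⁻¹ ∈ T
            have h1 : (φ ⟨b, hb⟩)⁻¹ ∈ φ.range := φ.range.inv_mem ⟨_, rfl⟩
            have h2 : b * x * b⁻¹ = (φ ⟨b, hb⟩)⁻¹ * x := by
              show _ = (x * b * x⁻¹ * b⁻¹)⁻¹ * x
              group
            rw [h2]
            exact T.mul_mem (Subgroup.mem_sup_right h1) (Subgroup.mem_sup_left (Subgroup.mem_zpowers x))
          · show b * r * b⁻¹ ∈ T
            rw [hAc b r hb (hRA hr), mul_inv_cancel_right]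
            exact Subgroup.mem_sup_right hr
        refine Subgroup.mem_normalizer_iff.2 fun t => ⟨hfix a ha t, fun h => ?_⟩
        have h1 := hfix a⁻¹ (A.inv_mem ha) _ h
        simpa [mul_assoc] using h1
      have hTtop : T = ⊤ := by
        by_contra hne
        refine hnn (nilpotent_of_two_abelian T M (hnorm T hTn hne) hMab ?_)
        exact hM.2 _ (lt_of_le_of_ne le_sup_right fun h => hxM (h ▸ Subgroup.mem_sup_left
          (Subgroup.mem_sup_left (Subgroup.mem_zpowers x))))
      have hR : A ≤ φ.range := by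
        intro a ha
        haveI : (φ.range).Normal := by
          rw [← Subgroup.normalizer_eq_top_iff, eq_top_iff, ← hgenA]
          refine sup_le (Subgroup.zpowers_le.2 ?_) (fun b hb => ?_)
          · refine Subgroup.mem_normalizer_fintype ?_
            rintro _ ⟨b, rfl⟩
            refine ⟨⟨x * (b : G) * x⁻¹, hAn.conj_mem _ b.2 x⟩, ?_⟩
            show x * (x * (b : G) * x⁻¹) * x⁻¹ * (x * (b : G) * x⁻¹)⁻¹ = x * (x * (b : G) * x⁻¹ * (b : G)⁻¹) * x⁻¹
            group
          · refine Subgroup.mem_normalizer_fintype fun r hr => ?_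
            rw [hAc b r hb (hRA hr), mul_inv_cancel_right]
            exact hr
        obtain ⟨y, hy, r, hr, hyr⟩ := Subgroup.mem_sup_of_normal_right.1 (hTtop ▸ Subgroup.mem_top a : a ∈ T)
        have h1 : y ∈ Subgroup.zpowers x ⊓ A := ⟨hy, by
          rw [show y = a * r⁻¹ by rw [← hyr, mul_inv_cancel_right]]
          exact A.mul_mem ha (A.inv_mem (hRA hr))⟩
        rw [hdisj.eq_bot, Subgroup.mem_bot] at h1
        rw [h1, one_mul] at hyr
        exact hyr ▸ hr
      intro a ha ha1 hfix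
      have hsurj : Function.Surjective (fun b : A => (⟨φ b, hRA ⟨b, rfl⟩⟩ : A)) := fun c => by
        obtain ⟨b, hb⟩ := hR c.2
        exact ⟨b, Subtype.ext hb⟩
      have hinj := Finite.injective_iff_surjective.2 hsurj
      refine ha1 (congrArg Subtype.val (@hinj ⟨a, ha⟩ 1 (Subtype.ext ?_)))
      show x * a * x⁻¹ * a⁻¹ = φ 1
      rw [hfix, mul_inv_cancel, map_one]
  · rintro ⟨x, A, p, hp, hAn, hAab, ⟨k, hk⟩, -, hcompl, hxp, hfpf⟩ H hH
    haveI := hAn
    have hAc : ∀ a b : G, a ∈ A → b ∈ A → a * b = b * a := fun a b ha hb =>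
      congrArg Subtype.val (hAab.is_comm.comm ⟨a, ha⟩ ⟨b, hb⟩)
    let ρ := QuotientGroup.mk' A
    have hρker : ∀ g, ρ g = 1 ↔ g ∈ A := fun g => QuotientGroup.eq_one_iff g
    have hdec : ∀ g : G, ∃ j : ℤ, ∃ a ∈ A, g = x ^ j * a := by
      intro g
      obtain ⟨⟨⟨y, hy⟩, ⟨a, ha⟩⟩, hya⟩ := hcompl.surjective g
      obtain ⟨j, hj⟩ := Subgroup.mem_zpowers_iff.1 hy
      exact ⟨j, a, ha, by rw [hj]; exact hya.symm⟩
    obtain ⟨h₀, hh₀, a₀, ha₀, h₀eq⟩ : ∃ h ∈ H, ∃ a ∈ A, h = x * a := by
      by_contra hcon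
      push Not at hcon
      refine hH ?_
      have hdvd : ∀ h ∈ H, ∀ (j : ℤ), ∀ a ∈ A, h = x ^ j * a → (p : ℤ) ∣ j := by
        intro h hh j a ha heq
        by_contra hnd
        have hco : IsCoprime j ((p : ℤ) ^ k) :=
          (((Nat.prime_iff_prime_int.1 hp).coprime_iff_not_dvd).2 hnd).symm.pow_right
        obtain ⟨u, w, huw⟩ := hco
        have hx1 : x = (x ^ j) ^ u := by
          calc x = x ^ (u * j + w * (p : ℤ) ^ k) := by rw [huw, zpow_one]
            _ = (x ^ j) ^ u := by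
              rw [zpow_add, mul_comm u j, zpow_mul, mul_comm w, zpow_mul, ← Nat.cast_pow, zpow_natCast x, ← hk,
                pow_orderOf_eq_one, one_zpow, mul_one]
        have h1 : ρ (h ^ u) = ρ x := by
          rw [map_zpow, heq, map_mul, (hρker a).2 ha, mul_one, ← map_zpow, ← hx1]
        have h2 : x⁻¹ * h ^ u ∈ A := by rw [← hρker, map_mul, map_inv, h1, inv_mul_cancel]
        exact hcon _ (H.zpow_mem hh u) _ h2 (by group)
      refine ⟨⟨fun g₁ g₂ => Subtype.ext ?_⟩⟩
      show (g₁ : G) * g₂ = g₂ * g₁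
      obtain ⟨j₁, a₁, ha₁, h₁⟩ := hdec g₁
      obtain ⟨j₂, a₂, ha₂, h₂⟩ := hdec g₂
      obtain ⟨i₁, rfl⟩ := hdvd g₁ g₁.2 j₁ a₁ ha₁ h₁
      obtain ⟨i₂, rfl⟩ := hdvd g₂ g₂.2 j₂ a₂ ha₂ h₂
      rw [zpow_mul, zpow_natCast] at h₁ h₂
      have hc : ∀ (i : ℤ) (g : G), g * (x ^ p) ^ i = (x ^ p) ^ i * g :=
        fun i => Subgroup.mem_center_iff.1 (Subgroup.zpow_mem _ hxp i)
      rw [h₁, h₂]
      calc (x ^ p) ^ i₁ * a₁ * ((x ^ p) ^ i₂ * a₂) = (x ^ p) ^ i₁ * (a₁ * (x ^ p) ^ i₂) * a₂ := by group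
        _ = (x ^ p) ^ i₁ * (x ^ p) ^ i₂ * (a₁ * a₂) := by rw [hc]; group
        _ = (x ^ p) ^ i₂ * ((x ^ p) ^ i₁ * a₂) * a₁ := by rw [hc i₂, hAc a₁ a₂ ha₁ ha₂]; group
        _ = _ := by rw [← hc i₁ a₂]; group
    refine le_antisymm (fun g hg => ?_) Subgroup.le_normalizer
    obtain ⟨j, a, ha, rfl⟩ := hdec g
    have hpow : ρ (h₀ ^ j) = ρ (x ^ j) := by
      rw [map_zpow, h₀eq, map_mul, (hρker a₀).2 ha₀, mul_one, ← map_zpow]
    set b := (h₀ ^ j)⁻¹ * (x ^ j * a) with hb
    have hbA : b ∈ A := by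
      rw [← hρker, hb, map_mul, map_inv, map_mul, hpow, (hρker a).2 ha, mul_one, inv_mul_cancel]
    have hbN : b ∈ Subgroup.normalizer (H : Set G) :=
      Subgroup.mul_mem _ (Subgroup.inv_mem _ (Subgroup.le_normalizer (H.zpow_mem hh₀ j))) hg
    have hψA : ∀ c ∈ A, h₀ * c * h₀⁻¹ * c⁻¹ ∈ A := fun c hc => A.mul_mem (hAn.conj_mem c hc h₀) (A.inv_mem hc)
    have hinj : ∀ c d, c ∈ A → d ∈ A → h₀ * c * h₀⁻¹ * c⁻¹ = h₀ * d * h₀⁻¹ * d⁻¹ → c = d := by
      intro c d hc hd hcd
      by_contra hne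
      refine hfpf (d⁻¹ * c) (A.mul_mem (A.inv_mem hd) hc) (fun h => hne (inv_mul_eq_one.1 h).symm) ?_
      have hy : h₀ * (d⁻¹ * c) * h₀⁻¹ = x * (d⁻¹ * c) * x⁻¹ := by
        rw [h₀eq]
        calc x * a₀ * (d⁻¹ * c) * (x * a₀)⁻¹ = x * (a₀ * (d⁻¹ * c)) * a₀⁻¹ * x⁻¹ := by group
          _ = _ := by rw [hAc a₀ _ ha₀ (A.mul_mem (A.inv_mem hd) hc)]; group
      rw [← hy]
      have h1 : h₀ * c * h₀⁻¹ = h₀ * d * h₀⁻¹ * d⁻¹ * c := eq_mul_of_mul_inv_eq hcd
      have h2 := hAc (h₀ * d * h₀⁻¹) (d⁻¹ * c) (hAn.conj_mem d hd h₀) (A.mul_mem (A.inv_mem hd) hc)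
      calc h₀ * (d⁻¹ * c) * h₀⁻¹ = (h₀ * d * h₀⁻¹)⁻¹ * (h₀ * c * h₀⁻¹) := by group
        _ = (h₀ * d * h₀⁻¹)⁻¹ * (h₀ * d * h₀⁻¹ * (d⁻¹ * c)) := by rw [h1]; group
        _ = _ := inv_mul_cancel_left _ _
    let B := H ⊓ A
    let ψ : B → B := fun c => ⟨h₀ * (c : G) * h₀⁻¹ * (c : G)⁻¹,
      H.mul_mem (H.mul_mem (H.mul_mem hh₀ c.2.1) (H.inv_mem hh₀)) (H.inv_mem c.2.1), hψA _ c.2.2⟩
    have hψs : Function.Surjective ψ := Finite.injective_iff_surjective.1 fun c d hcd =>
      Subtype.ext (hinj _ _ c.2.2 d.2.2 (congrArg Subtype.val hcd))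
    have hbB : h₀ * b * h₀⁻¹ * b⁻¹ ∈ B := ⟨by
      have h1 := (Subgroup.mem_normalizer_iff.1 hbN h₀⁻¹).1 (H.inv_mem hh₀)
      simpa [mul_assoc] using H.mul_mem hh₀ h1, hψA b hbA⟩
    obtain ⟨c, hc⟩ := hψs ⟨_, hbB⟩
    have hbc : b = (c : G) := (hinj _ _ c.2.2 hbA (congrArg Subtype.val hc)).symm
    have h1 : x ^ j * a = h₀ ^ j * b := by rw [hb]; group
    rw [h1, hbc]
    exact H.mul_mem (H.zpow_mem hh₀ j) c.2.1

end Cfsg.Agent.S4071
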