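import Mathlib
-- Template for statement S4072 (row 4072; see /opt/grader/pristine/manifest.json for weights).
-- Copy to Cfsg/Agent/S4072.lean and replace the sorry. The statement below is byte-identical to the frozen
-- statement Cfsg.CfsgFrozen.S4072 (Cfsg/Statements/S4072.lean; the theorem Cfsg.fg5_selfnormalizing_nonabelian_subgroups_solvable_or_simple);
-- the grader kernel-checks Cfsg.Agent.S4072.result against that frozen type. Keep the theorem IN THIS FILE
-- (a `result` declared elsewhere and merely imported here is not credited); helpers may live anywhere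
-- under Cfsg/Agent/.
import Cfsg.Statements.S4072
import Cfsg.Agent.Perm.SimplePSLTwo
import Cfsg.Agent.Solv.FittingBasic


set_option autoImplicit false
open Cfsg
open scoped commutatorElement

namespace Cfsg.Agent.S4072

/-- A finite group with all Sylow subgroups of prime order or trivial is solvable. -/
theorem solvable_of_squarefree {Q : Type*} [Group Q] [Finite Q]
    (h : ∀ p : ℕ, p.Prime → ¬ p ^ 2 ∣ Nat.card Q) : Group.IsSolvable Q := by
  haveI : IsZGroup Q := ⟨fun p hp P => by
    haveI := Fact.mk hp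
    obtain ⟨k, hk⟩ := IsPGroup.iff_card.1 P.isPGroup'
    have hk1 : k ≤ 1 := by
      by_contra hlt
      exact h p hp ((pow_dvd_pow p (by omega : 2 ≤ k)).trans (hk ▸ Subgroup.card_subgroup_dvd_card _))
    interval_cases k
    · haveI : Subsingleton (P : Subgroup Q) := (Nat.card_eq_one_iff_unique.1 (by rw [hk, pow_zero])).1
      infer_instance
    · exact isCyclic_of_prime_card (p := p) (by rw [hk, pow_one])⟩
  infer_instance

/-- A self-normalizing `p`-subgroup is a Sylow subgroup. -/
theorem no_self_normalizing {Q : Type*} [Group Q] [Finite Q] {p n : ℕ} [hp : Fact p.Prime]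
    {H : Subgroup Q} (hH : Nat.card H = p ^ n) (hd : p ^ (n + 1) ∣ Nat.card Q) :
    Subgroup.normalizer (H : Set Q) ≠ H := by
  intro h
  have h1 := Sylow.prime_pow_dvd_card_normalizer hd hH
  rw [h, hH, Nat.pow_dvd_pow_iff_le_right hp.out.one_lt] at h1
  omega


/-- A finite group in which every non-abelian subgroup is self-normalizing is solvable or simple. -/
theorem result {G : Type*} [Group G] [Finite G] (hS : ∀ H : Subgroup G, ¬ IsMulCommutative H → Subgroup.normalizer (H : Set G) = H) :
    Group.IsSolvable G ∨ IsSimpleGroup G := by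
  classical
  by_contra hcon
  push Not at hcon
  obtain ⟨hns, hnsimp⟩ := hcon
  have hGc : ¬ IsMulCommutative G := fun h => hns (Group.isSolvable_of_comm fun a b => h.is_comm.comm a b)
  have hnorm : ∀ X : Subgroup G, X.Normal → X ≠ ⊤ → IsMulCommutative X := fun X hX hXt => by
    by_contra hc
    exact hXt ((hS X hc).symm.trans (Subgroup.normalizer_eq_top_iff.2 hX))
  haveI : Nontrivial G := by
    by_contra hn
    rw [not_nontrivial_iff_subsingleton] at hn
    exact hns (Group.isSolvable_of_comm fun a b => Subsingleton.elim _ _)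
  obtain ⟨X0, hX0n, hX0b, hX0t⟩ : ∃ X : Subgroup G, X.Normal ∧ X ≠ ⊥ ∧ X ≠ ⊤ := by
    by_contra hcon
    push Not at hcon
    exact hnsimp ⟨fun H hH => or_iff_not_imp_left.2 (hcon H hH)⟩
  obtain ⟨M, hM⟩ := (Set.toFinite {X : Subgroup G | X.Normal ∧ X ≠ ⊤ ∧ X0 ≤ X}).exists_maximal
    ⟨X0, hX0n, hX0t, le_rfl⟩
  obtain ⟨hMn, hMt, hX0M⟩ := hM.1
  haveI := hMn
  haveI hMc := hnorm M hMn hMt
  let π := QuotientGroup.mk' M
  have hπ : Function.Surjective π := QuotientGroup.mk'_surjective M
  have hker : π.ker = M := QuotientGroup.ker_mk' M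
  haveI : Nontrivial (G ⧸ M) := QuotientGroup.nontrivial_iff.2 hMt
  haveI hsimp : IsSimpleGroup (G ⧸ M) := ⟨fun H hH => by
    rw [or_iff_not_imp_right]
    intro hHt
    have h1 : H.comap π ≠ ⊤ := fun h => hHt (by rw [← Subgroup.map_comap_eq_self_of_surjective hπ H, h, Subgroup.map_top_of_surjective _ hπ])
    have h2 : M ≤ H.comap π := hker.ge.trans (Subgroup.ker_le_comap π H)
    have h3 : H.comap π ≤ M := hM.2 ⟨hH.comap π, h1, hX0M.trans h2⟩ h2
    rw [eq_bot_iff, ← Subgroup.map_comap_eq_self_of_surjective hπ H, Subgroup.map_le_iff_le_comap,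
      MonoidHom.comap_bot, hker]
    exact h3⟩
  haveI hMs : Group.IsSolvable M := Group.isSolvable_of_comm fun a b => hMc.is_comm.comm a b
  have hQns : ¬ Group.IsSolvable (G ⧸ M) := fun h => by
    exact hns ((Group.isSolvable_iff_subgroup_quotient M).2 ⟨inferInstance, h⟩)
  have hperf : commutator G = ⊤ := by
    by_contra hne
    haveI hc := hnorm (commutator G) inferInstance hne
    haveI : Group.IsSolvable (commutator G) := Group.isSolvable_of_comm fun a b => hc.is_comm.comm a b
    haveI : Group.IsSolvable (G ⧸ commutator G) :=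
      Group.isSolvable_of_comm (G := Abelianization G) fun a b => mul_comm a b
    exact hns ((Group.isSolvable_iff_subgroup_quotient (commutator G)).2 ⟨inferInstance, inferInstance⟩)
  -- preimages of self-normalising-free subgroups
  have hpre : ∀ (p n : ℕ) [Fact p.Prime] (H : Subgroup (G ⧸ M)), Nat.card H = p ^ n →
      p ^ (n + 1) ∣ Nat.card (G ⧸ M) → IsMulCommutative (H.comap π) := by
    intro p n _ H hH hd
    by_contra hc
    refine no_self_normalizing hH hd ?_
    have h1 := congrArg (Subgroup.map π) (hS _ hc)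
    rw [Subgroup.map_comap_eq_self_of_surjective hπ, ← Subgroup.comap_normalizer_eq_of_surjective _ hπ,
      Subgroup.map_comap_eq_self_of_surjective hπ] at h1
    exact h1
  -- `M` is central
  have hMZ : M ≤ Subgroup.center G := by
    have hMC : M ≤ Subgroup.centralizer (M : Set G) := Subgroup.le_centralizer M
    by_cases hCt : Subgroup.centralizer (M : Set G) = ⊤
    · intro m hm
      refine Subgroup.mem_center_iff.2 fun g => ?_
      exact (Subgroup.mem_centralizer_iff.1 (hCt ▸ Subgroup.mem_top g) m hm).symm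
    exfalso
    have hCM : Subgroup.centralizer (M : Set G) ≤ M := hM.2 ⟨inferInstance, hCt, hX0M.trans hMC⟩ hMC
    refine hQns (solvable_of_squarefree fun p hp hd => ?_)
    haveI := Fact.mk hp
    obtain ⟨x, hx⟩ := exists_prime_orderOf_dvd_card' (G := G ⧸ M) p ((dvd_pow_self p two_ne_zero).trans hd)
    have hab := hpre p 1 (Subgroup.zpowers x) (by rw [Nat.card_zpowers, hx, pow_one]) hd
    obtain ⟨g, rfl⟩ := hπ x
    have hg : g ∈ Subgroup.centralizer (M : Set G) := Subgroup.mem_centralizer_iff.2 fun m hm => by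
      have hmK : m ∈ (Subgroup.zpowers (π g)).comap π :=
        hker.ge.trans (Subgroup.ker_le_comap π _) hm
      have hgK : g ∈ (Subgroup.zpowers (π g)).comap π := Subgroup.mem_zpowers _
      exact congrArg Subtype.val (hab.is_comm.comm ⟨m, hmK⟩ ⟨g, hgK⟩)
    have h1 : π g = 1 := (QuotientGroup.eq_one_iff g).2 (hCM hg)
    rw [h1, orderOf_one] at hx
    exact hp.one_lt.ne hx
  -- a prime dividing the order of `M`
  have hM1 : M ≠ ⊥ := fun h => hX0b (le_bot_iff.1 (h ▸ hX0M))
  obtain ⟨p, hp, hpM⟩ := Nat.exists_prime_and_dvd (fun h => hM1 (Subgroup.card_eq_one.1 h) : Nat.card M ≠ 1)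
  haveI := Fact.mk hp
  obtain ⟨P⟩ : Nonempty (Sylow p G) := inferInstance
  set D : Subgroup (P : Subgroup G) := M.subgroupOf (P : Subgroup G) with hDdef
  have hDcen : ∀ d ∈ D, ∀ y : (P : Subgroup G), y * d = d * y := fun d hd y =>
    Subtype.ext (Subgroup.mem_center_iff.1 (hMZ hd) y)
  have hD1 : D ≠ ⊥ := by
    obtain ⟨z, hz⟩ := exists_prime_orderOf_dvd_card' (G := M) p hpM
    have hzo : orderOf (z : G) = p := by rw [Subgroup.orderOf_coe, hz]
    obtain ⟨S, hS'⟩ := (IsPGroup.of_card (n := 1) (by rw [Nat.card_zpowers, hzo, pow_one]) :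
      IsPGroup p (Subgroup.zpowers (z : G))).exists_le_sylow
    obtain ⟨g, hg⟩ := MulAction.exists_smul_eq G S P
    have h1 : (z : G) ∈ (P : Subgroup G) := by
      have h2 : g * (z : G) * g⁻¹ ∈ (P : Subgroup G) := by
        rw [← hg]
        exact Subgroup.smul_mem_pointwise_smul (z : G) (MulAut.conj g) _ (hS' (Subgroup.mem_zpowers _))
      rwa [Subgroup.mem_center_iff.1 (hMZ z.2) g, mul_inv_cancel_right] at h2
    intro hb
    have h3 : (⟨z, h1⟩ : (P : Subgroup G)) ∈ D := z.2
    rw [hb, Subgroup.mem_bot] at h3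
    have h4 : (z : G) = 1 := congrArg Subtype.val h3
    rw [h4, orderOf_one] at hzo
    exact hp.one_lt.ne hzo
  have hDle : D ≤ commutator (P : Subgroup G) := by
    intro d hd
    have key : ∀ (k : ℕ) (g₀ : G), g₀⁻¹ * (d : G) ^ k * g₀ ∈ (P : Subgroup G) → g₀⁻¹ * (d : G) ^ k * g₀ = (d : G) ^ k := by
      intro k g₀ _
      have hc : g₀ * (d : G) ^ k = (d : G) ^ k * g₀ := Subgroup.mem_center_iff.1 (pow_mem (hMZ hd) k) g₀
      rw [mul_assoc, ← hc, inv_mul_cancel_left]
    have htr := MonoidHom.transfer_eq_pow (H := (P : Subgroup G)) (Abelianization.of : (P : Subgroup G) →* Abelianization (P : Subgroup G)) (d : G) key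
    have hone : MonoidHom.transfer (H := (P : Subgroup G)) (Abelianization.of : (P : Subgroup G) →* Abelianization (P : Subgroup G)) (d : G) = 1 := by
      refine MonoidHom.mem_ker.1 (Abelianization.commutator_subset_ker _ ?_)
      rw [hperf]; trivial
    rw [hone] at htr
    have h1 : d ^ (P : Subgroup G).index ∈ commutator (P : Subgroup G) := by
      rw [← Abelianization.ker_of]; exact MonoidHom.mem_ker.2 htr.symm
    obtain ⟨j, hj⟩ := IsPGroup.iff_orderOf.1 P.isPGroup' d
    have hco : (orderOf d).Coprime (P : Subgroup G).index := by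
      rw [hj]; exact (hp.coprime_iff_not_dvd.2 P.not_dvd_index).pow_left j
    obtain ⟨m, hm⟩ := exists_pow_eq_self_of_coprime hco.symm
    exact hm ▸ pow_mem h1 m
  -- the structure of the Sylow subgroup
  have hPnc : ¬ IsMulCommutative (P : Subgroup G) := fun h => by
    apply hD1
    rw [eq_bot_iff]
    refine hDle.trans ?_
    rw [commutator_def, Subgroup.commutator_le]
    intro a _ b _
    rw [Subgroup.mem_bot, commutatorElement_eq_one_iff_mul_comm]
    exact h.is_comm.comm a b
  let f := π.comp (P : Subgroup G).subtype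
  have hfker : f.ker = D := by
    ext y; simp [f, D, π, Subgroup.mem_subgroupOf]
  have hmaxab : ∀ A : Subgroup (P : Subgroup G), IsCoatom A → D ≤ A → IsMulCommutative A := by
    intro A hA hDA
    obtain ⟨k, hk⟩ := IsPGroup.iff_card.1 ((P.isPGroup'.to_subgroup A).map f)
    obtain ⟨-, hAi⟩ := CfsgLib.Solv.isCoatom_normal_and_card_quotient P.isPGroup' hA
    have hd : p ^ (k + 1) ∣ Nat.card (G ⧸ M) := by
      refine dvd_trans (dvd_of_eq ?_) (Subgroup.card_subgroup_dvd_card f.range)
      have h1 := (A.map f).card_mul_index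
      have h2 : ((A.map f).subgroupOf f.range).index = p := by
        have h3 : (A.map f).relIndex f.range = p := by
          rw [MonoidHom.range_eq_map, Subgroup.relIndex_map_map, hfker, sup_eq_left.2 hDA,
            sup_eq_left.2 le_top, Subgroup.relIndex_top_right, hAi]
        exact h3
      have h4 := ((A.map f).subgroupOf f.range).card_mul_index
      rw [h2, Nat.card_congr (Subgroup.subgroupOfEquivOfLe (Subgroup.map_le_range f A)).toEquiv, hk,
        ← pow_succ] at h4
      exact h4
    have hab := hpre p k (A.map f) hk hd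
    refine ⟨⟨fun a b => Subtype.ext (Subtype.ext ?_)⟩⟩
    exact (congrArg Subtype.val (hab.is_comm.comm ⟨((a : (P : Subgroup G)) : G), (⟨a, a.2, rfl⟩ : f a.1 ∈ A.map f)⟩ ⟨((b : (P : Subgroup G)) : G), (⟨b, b.2, rfl⟩ : f b.1 ∈ A.map f)⟩) :)
  have hDt : D ≠ ⊤ := fun h => hPnc ⟨⟨fun a b => (hDcen b (h ▸ Subgroup.mem_top b) a)⟩⟩
  obtain ⟨A, hA, hDA⟩ := (eq_top_or_exists_le_coatom D).resolve_left hDt
  obtain ⟨a, haA⟩ : ∃ a, a ∉ A := by
    by_contra hcon
    push Not at hcon
    exact hA.1 (eq_top_iff.2 fun y _ => hcon y)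
  have haD : D ⊔ Subgroup.zpowers a ≠ ⊤ := by
    intro h
    refine hPnc ⟨⟨fun x y => ?_⟩⟩
    have hz : ∀ w : (P : Subgroup G), w * a = a * w → ∀ v, w * v = v * w := by
      intro w hw v
      have hle : D ⊔ Subgroup.zpowers a ≤ Subgroup.centralizer ({w} : Set (P : Subgroup G)) := by
        refine sup_le (fun d hd => ?_) (Subgroup.zpowers_le.2 (Subgroup.mem_centralizer_singleton_iff.2 hw.symm))
        exact Subgroup.mem_centralizer_singleton_iff.2 (hDcen d hd w).symm
      exact (Subgroup.mem_centralizer_singleton_iff.1 (hle (h ▸ Subgroup.mem_top v))).symm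
    refine hz x ?_ y
    exact (hz a rfl x).symm
  obtain ⟨B, hB, hB'⟩ := (eq_top_or_exists_le_coatom _).resolve_left haD
  have haB : a ∈ B := hB' (Subgroup.mem_sup_right (Subgroup.mem_zpowers a))
  have hDB : D ≤ B := le_sup_left.trans hB'
  haveI hAab := hmaxab A hA hDA
  haveI hBab := hmaxab B hB hDB
  obtain ⟨hAn, hAi⟩ := CfsgLib.Solv.isCoatom_normal_and_card_quotient P.isPGroup' hA
  obtain ⟨hBn, hBi⟩ := CfsgLib.Solv.isCoatom_normal_and_card_quotient P.isPGroup' hB
  obtain ⟨b, hbA, hbB⟩ : ∃ b ∈ A, b ∉ B := by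
    by_contra hcon
    push Not at hcon
    have hle : A ≤ B := hcon
    rcases hle.eq_or_lt with he | hlt
    · exact haA (he.symm.le haB)
    · exact hB.1 (hA.2 B hlt)
  have hzcen : ∀ z ∈ A ⊓ B, ∀ y, y * z = z * y := by
    intro z hz y
    have hle : A ⊔ B ≤ Subgroup.centralizer ({z} : Set (P : Subgroup G)) := by
      refine sup_le (fun w hw => Subgroup.mem_centralizer_singleton_iff.2 ?_) (fun w hw => Subgroup.mem_centralizer_singleton_iff.2 ?_)
      · exact congrArg Subtype.val (hAab.is_comm.comm ⟨w, hw⟩ ⟨z, hz.1⟩)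
      · exact congrArg Subtype.val (hBab.is_comm.comm ⟨w, hw⟩ ⟨z, hz.2⟩)
    have htop : A ⊔ B = ⊤ := hA.2 _ (lt_of_le_of_ne le_sup_left fun h => haA (h.symm ▸ Subgroup.mem_sup_right haB))
    exact (Subgroup.mem_centralizer_singleton_iff.1 (hle (htop ▸ Subgroup.mem_top y)))
  set c := ⁅a, b⁆
  have hcmem : c ∈ A ⊓ B := by
    constructor
    · have h1 : a * b * a⁻¹ ∈ A := hAn.conj_mem b hbA a
      simpa [c, commutatorElement_def, mul_assoc] using A.mul_mem h1 (A.inv_mem hbA)
    · have h1 : b * a⁻¹ * b⁻¹ ∈ B := hBn.conj_mem _ (B.inv_mem haB) b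
      simpa [c, commutatorElement_def, mul_assoc] using B.mul_mem haB h1
  have hcp : c ^ p = 1 := by
    have hap : a ^ p ∈ A ⊓ B := ⟨by have := Subgroup.pow_index_mem A a; rwa [hAi] at this, B.pow_mem haB p⟩
    have key : ∀ n : ℕ, a ^ n * b = c ^ n * b * a ^ n := by
      intro n
      induction n with
      | zero => simp
      | succ n ih =>
        have h1 : a * b = c * b * a := by simp [c, commutatorElement_def, mul_assoc]
        calc a ^ (n + 1) * b = a * (a ^ n * b) := by rw [pow_succ']; group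
          _ = a * c ^ n * (b * a ^ n) := by rw [ih]; group
          _ = c ^ n * (a * b) * a ^ n := by rw [hzcen _ (pow_mem hcmem n) a]; group
          _ = c ^ (n + 1) * b * a ^ (n + 1) := by rw [h1, pow_succ c, pow_succ' a]; group
    have h2 := key p
    rw [← hzcen _ hap b, mul_assoc] at h2
    exact mul_eq_right.1 h2.symm
  have hcom : commutator (P : Subgroup G) ≤ Subgroup.zpowers c := by
    haveI : (Subgroup.zpowers c).Normal := ⟨fun z hz g => by
      have hzz : z ∈ A ⊓ B := (Subgroup.zpowers_le.2 hcmem) hz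
      rw [hzcen z hzz g, mul_inv_cancel_right]; exact hz⟩
    let Z := Subgroup.zpowers c
    let ρ := QuotientGroup.mk' Z
    -- generation
    have hgen : Subgroup.zpowers a ⊔ Subgroup.zpowers b ⊔ (A ⊓ B) = ⊤ := by
      have hA' : A ≤ Subgroup.zpowers b ⊔ (A ⊓ B) := by
        have hidx : (A ⊓ B).relIndex A = p := by
          rw [Subgroup.inf_relIndex_left]
          haveI := hBn
          have htop : A ⊔ B = ⊤ := hA.2 _ (lt_of_le_of_ne le_sup_left fun h => haA (h.symm ▸ Subgroup.mem_sup_right haB))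
          rw [← Subgroup.relIndex_sup_right A B, htop, Subgroup.relIndex_top_right, hBi]
        have h1 : (A ⊓ B) < Subgroup.zpowers b ⊔ (A ⊓ B) := lt_of_le_of_ne le_sup_right fun h =>
          hbB ((h ▸ Subgroup.mem_sup_left (Subgroup.mem_zpowers b) : b ∈ A ⊓ B)).2
        have h2 : Subgroup.zpowers b ⊔ (A ⊓ B) ≤ A := sup_le (Subgroup.zpowers_le.2 hbA) inf_le_left
        have h3 := Subgroup.relIndex_mul_relIndex _ _ _ h1.le h2
        rw [hidx] at h3
        rcases (Nat.dvd_prime hp).1 ⟨_, h3.symm⟩ with h4 | h4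
        · exact absurd (Subgroup.relIndex_eq_one.1 h4) (not_le_of_gt h1)
        · rw [h4] at h3
          exact Subgroup.relIndex_eq_one.1 (Nat.eq_of_mul_eq_mul_left hp.pos (h3.trans (mul_one p).symm))
      refine hA.2 _ (lt_of_le_of_ne (hA'.trans (sup_le_sup_right le_sup_right _)) fun h => haA ?_)
      rw [h]; exact Subgroup.mem_sup_left (Subgroup.mem_sup_left (Subgroup.mem_zpowers a))
    have hab' : ρ a * ρ b = ρ b * ρ a := by
      have h1 : ρ c = 1 := (QuotientGroup.eq_one_iff c).2 (Subgroup.mem_zpowers c)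
      rw [map_commutatorElement, commutatorElement_eq_one_iff_mul_comm] at h1
      exact h1
    have hcenq : ∀ v : (P : Subgroup G), v * a * v⁻¹ * a⁻¹ ∈ Z ∧ v * b * v⁻¹ * b⁻¹ ∈ Z := by
      have hstep : ∀ y, y = a ∨ y = b → Subgroup.zpowers a ⊔ Subgroup.zpowers b ⊔ (A ⊓ B) ≤
          (Subgroup.centralizer ({ρ y} : Set ((P : Subgroup G) ⧸ Z))).comap ρ := by
        intro y hy
        refine sup_le (sup_le (Subgroup.zpowers_le.2 ?_) (Subgroup.zpowers_le.2 ?_)) (fun z hz => ?_) <;>
          rw [Subgroup.mem_comap, Subgroup.mem_centralizer_singleton_iff]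
        · rcases hy with rfl | rfl
          · rfl
          · exact hab'
        · rcases hy with rfl | rfl
          · exact hab'.symm
          · rfl
        · rw [← map_mul, ← map_mul, hzcen z hz y]
      intro v
      constructor
      · have h1 := Subgroup.mem_centralizer_singleton_iff.1 (hstep a (Or.inl rfl) (hgen ▸ Subgroup.mem_top v))
        refine (QuotientGroup.eq_one_iff _).1 ?_
        show ρ (v * a * v⁻¹ * a⁻¹) = 1
        rw [map_mul, map_mul, map_mul, map_inv, map_inv, h1]; group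
      · have h1 := Subgroup.mem_centralizer_singleton_iff.1 (hstep b (Or.inr rfl) (hgen ▸ Subgroup.mem_top v))
        refine (QuotientGroup.eq_one_iff _).1 ?_
        show ρ (v * b * v⁻¹ * b⁻¹) = 1
        rw [map_mul, map_mul, map_mul, map_inv, map_inv, h1]; group
    rw [commutator_def, Subgroup.commutator_le]
    intro v _ w _
    have hle : Subgroup.zpowers a ⊔ Subgroup.zpowers b ⊔ (A ⊓ B) ≤
        (Subgroup.centralizer ({ρ v} : Set ((P : Subgroup G) ⧸ Z))).comap ρ := by
      refine sup_le (sup_le (Subgroup.zpowers_le.2 ?_) (Subgroup.zpowers_le.2 ?_)) (fun z hz => ?_) <;>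
        rw [Subgroup.mem_comap, Subgroup.mem_centralizer_singleton_iff]
      · have h1 : ρ (v * a * v⁻¹ * a⁻¹) = 1 := (QuotientGroup.eq_one_iff _).2 (hcenq v).1
        rw [show v * a * v⁻¹ * a⁻¹ = ⁅v, a⁆ by rw [commutatorElement_def], map_commutatorElement,
          commutatorElement_eq_one_iff_mul_comm] at h1
        exact h1.symm
      · have h1 : ρ (v * b * v⁻¹ * b⁻¹) = 1 := (QuotientGroup.eq_one_iff _).2 (hcenq v).2
        rw [show v * b * v⁻¹ * b⁻¹ = ⁅v, b⁆ by rw [commutatorElement_def], map_commutatorElement,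
          commutatorElement_eq_one_iff_mul_comm] at h1
        exact h1.symm
      · rw [← map_mul, ← map_mul, hzcen z hz v]
    have h1 := Subgroup.mem_centralizer_singleton_iff.1 (hle (hgen ▸ Subgroup.mem_top w))
    refine (QuotientGroup.eq_one_iff _).1 ?_
    show ρ ⁅v, w⁆ = 1
    rw [map_commutatorElement, commutatorElement_eq_one_iff_mul_comm]
    exact h1.symm
  have hcard : Subgroup.zpowers c = D := by
    refine (Subgroup.eq_of_le_of_card_ge (hDle.trans hcom) ?_).symm
    rw [Nat.card_zpowers]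
    obtain ⟨j, hj⟩ := IsPGroup.iff_card.1 (P.isPGroup'.to_subgroup D)
    have hj0 : j ≠ 0 := fun h => hD1 (Subgroup.card_eq_one.1 (by rw [hj, h, pow_zero]))
    calc orderOf c ≤ p := Nat.le_of_dvd hp.pos (orderOf_dvd_of_pow_eq_one hcp)
      _ ≤ Nat.card D := by rw [hj]; exact Nat.le_self_pow hj0 p
  -- the image is an abelian Sylow subgroup: Burnside
  let Q := P.mapSurjective hπ
  have hQab : IsMulCommutative (Q : Subgroup (G ⧸ M)) := ⟨⟨by
    rintro ⟨_, x, hx, rfl⟩ ⟨_, y, hy, rfl⟩
    refine Subtype.ext ?_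
    show π x * π y = π y * π x
    rw [← commutatorElement_eq_one_iff_mul_comm, ← map_commutatorElement]
    refine (QuotientGroup.eq_one_iff _).2 ?_
    have h1 : ⁅(⟨x, hx⟩ : (P : Subgroup G)), ⟨y, hy⟩⁆ ∈ D :=
      hcard ▸ hcom (Subgroup.commutator_mem_commutator (Subgroup.mem_top _) (Subgroup.mem_top _))
    exact h1⟩⟩
  have hQnorm : Subgroup.normalizer ((Q : Subgroup (G ⧸ M)) : Set (G ⧸ M)) = Q := by
    have hnc : ¬ IsMulCommutative ((Q : Subgroup (G ⧸ M)).comap π) := fun h => hPnc ⟨⟨fun x y =>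
      Subtype.ext (congrArg Subtype.val (h.is_comm.comm ⟨x, (⟨x, x.2, rfl⟩ : π x ∈ (Q : Subgroup (G ⧸ M)))⟩
        ⟨y, (⟨y, y.2, rfl⟩ : π y ∈ (Q : Subgroup (G ⧸ M)))⟩) :)⟩⟩
    have h1 := congrArg (Subgroup.map π) (hS _ hnc)
    rwa [Subgroup.map_comap_eq_self_of_surjective hπ, ← Subgroup.comap_normalizer_eq_of_surjective _ hπ,
      Subgroup.map_comap_eq_self_of_surjective hπ] at h1
  refine CfsgLib.Perm.SimpleTwo.not_burnside Q (fun h => ?_) (fun h => ?_) (by
    rw [hQnorm]; exact Subgroup.le_centralizer (Q : Subgroup (G ⧸ M)))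
  · have hq : (P : Subgroup G) ≤ M := by
      intro y hy
      have h1 : π y ∈ (Q : Subgroup (G ⧸ M)) := ⟨y, hy, rfl⟩
      rw [Subgroup.card_eq_one.1 h, Subgroup.mem_bot] at h1
      exact (QuotientGroup.eq_one_iff y).1 h1
    exact hPnc ⟨⟨fun x y => Subtype.ext (congrArg Subtype.val (hMc.is_comm.comm ⟨x, hq x.2⟩ ⟨y, hq y.2⟩) :)⟩⟩
  · obtain ⟨k, hk⟩ := IsPGroup.iff_card.1 Q.isPGroup'
    haveI : Group.IsNilpotent (G ⧸ M) := (IsPGroup.of_card (h.symm.trans hk) : IsPGroup p (G ⧸ M)).isNilpotent
    exact hQns inferInstance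

end Cfsg.Agent.S4072
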