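import Cfsg.Statements.S4074


set_option autoImplicit false
set_option linter.style.haveILetI false
open Cfsg

namespace Cfsg.Agent.S4074

/-- For n > 2, every non-abelian subgroup of the dihedral group of order 2n is self-normalizing if and only if n = 4 or n is odd. -/
theorem result (n : ℕ) (hn : 2 < n) :
    (∀ H : Subgroup (DihedralGroup n), ¬ IsMulCommutative H → Subgroup.normalizer (H : Set (DihedralGroup n)) = H) ↔
    (n = 4 ∨ Odd n) := by
  classical
  constructor
  · intro h
    by_contra hc
    push Not at hc
    obtain ⟨h4, hodd⟩ := hc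
    obtain ⟨m, hm⟩ := Nat.not_odd_iff_even.1 hodd
    have h2 : 2 ∣ n := ⟨m, by omega⟩
    let par : ZMod n →+* ZMod 2 := ZMod.castHom h2 (ZMod 2)
    let H : Subgroup (DihedralGroup n) :=
      { carrier := {x | match x with | DihedralGroup.r i => par i = 0 | DihedralGroup.sr i => par i = 0}
        one_mem' := map_zero par
        mul_mem' := by
          rintro (i | i) (j | j) hi hj <;> show par _ = 0 <;> simp_all
        inv_mem' := by
          rintro (i | i) hi
          · show par (-i) = 0
            simp_all
          · exact hi }
    have hH : ¬ IsMulCommutative H := by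
      intro hcm
      have ha : DihedralGroup.r (2 : ZMod n) ∈ H := show par 2 = 0 by rw [map_ofNat]; rfl
      have hb : DihedralGroup.sr (0 : ZMod n) ∈ H := map_zero par
      have := congrArg Subtype.val (hcm.is_comm.comm ⟨_, ha⟩ ⟨_, hb⟩)
      simp at this
      have h4' : ((4 : ℕ) : ZMod n) = 0 := by linear_combination -this
      rw [ZMod.natCast_eq_zero_iff] at h4'
      have := Nat.le_of_dvd (by norm_num) h4'
      interval_cases n <;> omega
    have hn1 : DihedralGroup.r (1 : ZMod n) ∈ Subgroup.normalizer (H : Set (DihedralGroup n)) := by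
      rw [Subgroup.mem_normalizer_iff]
      rintro (i | i)
      · show par i = 0 ↔ _
        rw [DihedralGroup.r_mul_r, DihedralGroup.inv_r, DihedralGroup.r_mul_r]
        show _ ↔ par (1 + i + -1) = 0
        rw [show (1 : ZMod n) + i + -1 = i by ring]
      · show par i = 0 ↔ _
        rw [DihedralGroup.r_mul_sr, DihedralGroup.inv_r, DihedralGroup.sr_mul_r]
        show _ ↔ par (i - 1 + -1) = 0
        rw [show par (i - 1 + -1) = par i - 2 by rw [map_add, map_sub, map_neg, map_one]; ring, show (2 : ZMod 2) = 0 from rfl, sub_zero]
    rw [h H hH] at hn1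
    have : par 1 = 0 := hn1
    rw [map_one] at this
    exact one_ne_zero this
  · intro hn' H hH
    refine le_antisymm (fun g hg => ?_) Subgroup.le_normalizer
    obtain ⟨i, hi⟩ : ∃ i, DihedralGroup.sr i ∈ H := by
      by_contra hno
      push Not at hno
      refine hH ⟨⟨fun a b => Subtype.ext ?_⟩⟩
      rcases a with ⟨a | a, ha⟩ <;> rcases b with ⟨b | b, hb⟩ <;> try (exact absurd ha (hno _)) <;> try (exact absurd hb (hno _))
      · show DihedralGroup.r a * DihedralGroup.r b = DihedralGroup.r b * DihedralGroup.r a
        rw [DihedralGroup.r_mul_r, DihedralGroup.r_mul_r, add_comm]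
      all_goals first | exact absurd ha (hno _) | exact absurd hb (hno _)
    rcases hn' with rfl | hodd
    · by_contra hgH
      refine hH ?_
      have hd : Nat.card H ∣ 8 := by
        have := Subgroup.card_subgroup_dvd_card H
        rwa [DihedralGroup.nat_card] at this
      have hne : Nat.card H ≠ 8 := fun e => hgH (by
        rw [Subgroup.eq_top_of_card_eq H (by rw [e, DihedralGroup.nat_card])]; trivial)
      haveI : Fact (Nat.Prime 2) := ⟨Nat.prime_two⟩
      obtain ⟨k, hk, he⟩ := (Nat.dvd_prime_pow Nat.prime_two).1 (show Nat.card H ∣ 2 ^ 3 from hd)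
      interval_cases k
      · haveI : Subsingleton H := (Nat.card_eq_one_iff_unique.1 (by simpa using he)).1
        exact ⟨⟨fun a b => Subsingleton.elim _ _⟩⟩
      · haveI : IsCyclic H := isCyclic_of_prime_card (p := 2) (by simpa using he)
        infer_instance
      · exact IsPGroup.isMulCommutative_of_card_eq_prime_sq (p := 2) (by simpa using he)
      · exact absurd (by simpa using he) hne
    · obtain ⟨t, ht⟩ := hodd
      have hrot : ∀ k : ZMod n, DihedralGroup.r k ∈ Subgroup.normalizer (H : Set (DihedralGroup n)) → DihedralGroup.r k ∈ H := by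
        intro k hk
        have h1 := (Subgroup.mem_normalizer_iff.1 hk _).1 hi
        rw [DihedralGroup.r_mul_sr, DihedralGroup.inv_r, DihedralGroup.sr_mul_r] at h1
        have h2 := H.mul_mem h1 hi
        rw [DihedralGroup.sr_mul_sr, show i - (i - k + -k) = 2 * k by ring] at h2
        have h3 := H.pow_mem h2 (t + 1)
        rw [DihedralGroup.r_pow] at h3
        have h0 : (2 * (t : ZMod n) + 1) = 0 := by
          have := ZMod.natCast_self n
          rw [ht] at this ⊢
          exact_mod_cast this
        rwa [show 2 * k * ((t + 1 : ℕ) : ZMod n) = k by push_cast; linear_combination k * h0] at h3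
      rcases g with k | k
      · exact hrot k hg
      · have h1 := Subgroup.mul_mem _ hg (Subgroup.le_normalizer hi)
        rw [DihedralGroup.sr_mul_sr] at h1
        have := H.mul_mem (hrot _ h1) hi
        rw [DihedralGroup.r_mul_sr, sub_sub_cancel] at this
        exact this

end Cfsg.Agent.S4074
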