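import Cfsg.Statements.S4075


set_option autoImplicit false
set_option linter.style.haveILetI false
open Cfsg

namespace Cfsg.Agent.S4075

/-- Let G be a finite nilpotent group. Every non-abelian subgroup of G is self-normalizing if and only if G is abelian or G is a minimal non-abelian p-group for some prime p (non-abelian of prime-power order with every proper subgroup abelian). -/
theorem result {G : Type*} [Group G] [Finite G]
    [Group.IsNilpotent G] :
    (∀ H : Subgroup G, ¬ IsMulCommutative H → Subgroup.normalizer (H : Set G) = H) ↔
    (IsMulCommutative G ∨ (IsPrimePow (Nat.card G) ∧ ¬ IsMulCommutative G ∧ ∀ H : Subgroup G, H ≠ ⊤ → IsMulCommutative H)) := by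
  have hnc : NormalizerCondition G := Group.normalizerCondition_of_isNilpotent
  constructor
  · intro h
    by_cases hab : IsMulCommutative G
    · exact Or.inl hab
    right
    have hall : ∀ H : Subgroup G, H ≠ ⊤ → IsMulCommutative H := by
      intro H hH
      by_contra hcon
      exact (hnc H (lt_top_iff_ne_top.2 hH)).ne (h H hcon).symm
    refine ⟨?_, hab, hall⟩
    have h1 : 1 < Nat.card G := by
      rw [Finite.one_lt_card_iff_nontrivial]
      by_contra hn
      rw [not_nontrivial_iff_subsingleton] at hn
      exact hab ⟨⟨fun a b => Subsingleton.elim _ _⟩⟩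
    by_contra hpp
    apply hab
    classical
    obtain ⟨e⟩ := ((Group.isNilpotent_of_finite_tfae (G := G)).out 0 4 rfl rfl).1 (inferInstance : Group.IsNilpotent G)
    refine ⟨⟨fun a b => ?_⟩⟩
    apply e.symm.injective
    rw [map_mul, map_mul]
    funext r P
    haveI := Fact.mk (Nat.prime_of_mem_primeFactors r.2)
    have hPc : IsMulCommutative (P : Subgroup G) := by
      refine hall _ fun htop => hpp ?_
      obtain ⟨n, hn⟩ := IsPGroup.iff_card.1 (P : Sylow r G).2
      haveI := Fact.mk (Nat.prime_of_mem_primeFactors r.2)
      rw [htop, Subgroup.card_top] at hn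
      refine ⟨r, n, Nat.prime_iff.1 (Nat.prime_of_mem_primeFactors r.2), ?_, hn.symm⟩
      rcases Nat.eq_zero_or_pos n with rfl | h0
      · rw [pow_zero] at hn; omega
      · exact h0
    exact hPc.is_comm.comm _ _
  · rintro (hab | ⟨-, -, hall⟩) H hH
    · exact absurd ⟨⟨fun a b => Subtype.ext (hab.is_comm.comm (a : G) b)⟩⟩ hH
    · have : H = ⊤ := by
        by_contra hne
        exact hH (hall H hne)
      rw [this, Subgroup.normalizer_eq_top_iff]
      infer_instance

end Cfsg.Agent.S4075
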