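import Cfsg.Statements.S4080

import Mathlib

set_option autoImplicit false
set_option linter.style.haveILetI false
open Cfsg

namespace Cfsg.Agent.S4080

theorem pow_one_add {R : Type*} [Ring R] {p : ℕ} [Fact p.Prime] (hp : 3 < p) (N A : R)
    (hp2 : ((p : R) * p) = 0) (h2 : N * N = (p : R) * A) : (1 + N) ^ p = 1 + (p : R) * N := by
  have hpp := (Fact.out : p.Prime)
  rw [add_comm, (Commute.one_right N).add_pow, Finset.sum_range_succ', Finset.sum_eq_single 0]
  · have h1 : N ^ (0 + 1) * (1 : R) ^ (p - (0 + 1)) * (p.choose (0 + 1) : R) = (p : R) * N := by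
      simp [(Nat.cast_commute p N).eq]
    simp only [one_pow, one_mul, mul_one, pow_zero, Nat.choose_zero_right, Nat.cast_one, mul_one] at h1 ⊢
    rw [h1, add_comm]
  · intro k hk hk0
    rw [one_pow, mul_one]
    rw [Finset.mem_range] at hk
    obtain ⟨j, rfl⟩ : ∃ j, k = j + 1 := ⟨k - 1, by omega⟩
    by_cases hlast : j + 1 + 1 = p
    · have h4 : N ^ (4 : ℕ) = 0 := by
        rw [show (4 : ℕ) = 2 + 2 from rfl, pow_add, pow_two, h2, mul_assoc, ← mul_assoc A, ← (Nat.cast_commute p A).eq, mul_assoc,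
          ← mul_assoc, hp2, zero_mul]
      rw [show j + 1 + 1 = 4 + (j - 2) by omega, pow_add, h4, zero_mul, zero_mul]
    · obtain ⟨c, hc⟩ := hpp.dvd_choose_self (show j + 1 + 1 ≠ 0 by omega) (show j + 1 + 1 < p by omega)
      rw [hc, show j + 1 + 1 = 2 + j by omega, pow_add, pow_two, h2, Nat.cast_mul]
      rw [show (p : R) * A * N ^ j * ((p : R) * c) = (p : R) * p * (A * N ^ j * c) by
        rw [mul_assoc (p : R) A, mul_assoc (p : R), mul_assoc (p : R) p, ← mul_assoc (A * N ^ j) (p : R), ← (Nat.cast_commute p (A * N ^ j)).eq, mul_assoc], hp2, zero_mul]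
  · intro h; exact absurd (Finset.mem_range.2 hpp.pos) h

theorem sq_eq_zero {K : Type*} [Field K] (M : Matrix (Fin 2) (Fin 2) K) {n : ℕ} (hn : M ^ n = 0) : M * M = 0 := by
  have hd : M.det = 0 := by
    have h := congrArg Matrix.det hn
    rw [Matrix.det_pow, Matrix.det_zero] at h
    exact eq_zero_of_pow_eq_zero h
  rw [Matrix.det_fin_two] at hd
  have hsq : M * M = M.trace • M := by
    ext i j
    fin_cases i <;> fin_cases j <;> simp [Matrix.mul_apply, Matrix.trace_fin_two, Fin.sum_univ_two] <;> first | linear_combination hd | linear_combination -hd | ring1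
  have hpow : ∀ k : ℕ, M ^ (k + 1) = M.trace ^ k • M := by
    intro k
    induction k with
    | zero => simp
    | succ k ih => rw [pow_succ, ih, smul_mul_assoc, hsq, smul_smul, ← pow_succ]
  have h := hpow n
  rw [pow_succ, hn, zero_mul] at h
  rcases smul_eq_zero.1 h.symm with h | h
  · rw [hsq, eq_zero_of_pow_eq_zero h, zero_smul]
  · rw [h, zero_mul]

/-- Let p > 3 be a prime and L the direct product of two cyclic groups of order p². Every automorphism of L of order p fixes every element of order p of L. -/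
theorem result {p : ℕ} [Fact p.Prime] (hp : 3 < p)
    (a : MulAut (Multiplicative (ZMod (p ^ 2) × ZMod (p ^ 2)))) (ha : orderOf a = p)
    (x : Multiplicative (ZMod (p ^ 2) × ZMod (p ^ 2))) (hx : orderOf x = p) : a x = x := by
  classical
  have hpp := (Fact.out : p.Prime)
  haveI : NeZero (p ^ 2) := ⟨pow_ne_zero _ hpp.ne_zero⟩
  let R := ZMod (p ^ 2)
  let α : (R × R) →ₗ[R] (R × R) := AddMonoidHom.toZModLinearMap (p ^ 2) (AddMonoidHom.mk' (fun v => Multiplicative.toAdd (a (Multiplicative.ofAdd v))) fun u v => by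
      rw [ofAdd_add, map_mul, toAdd_mul])
  have hα : ∀ v, α v = Multiplicative.toAdd (a (Multiplicative.ofAdd v)) := fun v => rfl
  have hpowα : ∀ (k : ℕ) v, (α ^ k) v = Multiplicative.toAdd ((a ^ k) (Multiplicative.ofAdd v)) := by
    intro k
    induction k with
    | zero => intro v; rfl
    | succ k ih => intro v; rw [pow_succ' α k, Module.End.mul_apply, ih, hα, pow_succ' a k, MulAut.mul_apply]; rfl
  have hap : α ^ p = 1 := by
    refine LinearMap.ext fun v => ?_
    rw [hpowα, orderOf_dvd_iff_pow_eq_one.1 (dvd_of_eq ha)]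
    rfl
  let B := (Module.Basis.finTwoProd R)
  let Φ := LinearMap.toMatrixAlgEquiv B
  let N := Φ (α - 1)
  have hN : (1 + N) ^ p = 1 := by
    show (1 + Φ (α - 1)) ^ p = 1
    rw [map_sub, map_one, add_sub_cancel, ← map_pow, hap, map_one]
  let red : R →+* ZMod p := ZMod.castHom (dvd_pow_self p two_ne_zero) (ZMod p)
  let M := red.mapMatrix N
  have hM : M ^ p = 0 := by
    have h1 : (1 + M) ^ p = 1 := by
      show (1 + red.mapMatrix N) ^ p = 1
      rw [← map_one red.mapMatrix, ← map_add, ← map_pow, hN]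
    rw [add_pow_char_of_commute _ (Commute.one_left M), one_pow, add_eq_left] at h1
    exact h1
  have hM2 := sq_eq_zero M hM
  -- divide `N * N` by `p`
  have hdiv : ∀ r : R, red r = 0 → ∃ s, r = (p : R) * s := by
    intro r hr
    obtain ⟨k, rfl⟩ := ZMod.natCast_zmod_surjective r
    rw [map_natCast, ZMod.natCast_eq_zero_iff] at hr
    obtain ⟨c, rfl⟩ := hr
    exact ⟨c, by push_cast; rfl⟩
  choose s hs using fun i j => hdiv ((N * N) i j) (by
    have := congrFun (congrFun hM2 i) j
    rw [show M * M = red.mapMatrix (N * N) from (map_mul _ _ _).symm] at this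
    exact this)
  have hp2 : ((p : Matrix (Fin 2) (Fin 2) R) * p) = 0 := by
    rw [← Nat.cast_mul, show ((p * p : ℕ) : Matrix (Fin 2) (Fin 2) R) = algebraMap R _ ((p * p : ℕ) : R) from (map_natCast _ _).symm,
      show ((p * p : ℕ) : R) = 0 by rw [← pow_two]; exact ZMod.natCast_self _, map_zero]
  have hNN : N * N = (p : Matrix (Fin 2) (Fin 2) R) * Matrix.of s := by
    ext i j
    rw [← nsmul_eq_mul, Matrix.smul_apply, nsmul_eq_mul]
    exact hs i j
  have key := pow_one_add hp N _ hp2 hNN
  rw [hN, left_eq_add] at key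
  have hT : ∀ v, p • (α v - v) = 0 := by
    intro v
    have h1 : p • (α - 1) = 0 := Φ.injective (by rw [map_nsmul, map_zero, nsmul_eq_mul]; exact key)
    exact congrArg (fun f : (R × R) →ₗ[R] (R × R) => f v) h1
  -- write `x` as a multiple of `p`
  have hx0 : p • Multiplicative.toAdd x = 0 := by
    rw [← toAdd_pow, orderOf_dvd_iff_pow_eq_one.1 (dvd_of_eq hx)]; rfl
  have hmul : ∀ r : R, p • r = 0 → ∃ s : R, r = p • s := by
    intro r hr
    obtain ⟨k, rfl⟩ := ZMod.natCast_zmod_surjective r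
    rw [nsmul_eq_mul, ← Nat.cast_mul, ZMod.natCast_eq_zero_iff, pow_two] at hr
    obtain ⟨c, rfl⟩ := (Nat.mul_dvd_mul_iff_left hpp.pos).1 hr
    exact ⟨c, by simp⟩
  obtain ⟨s1, hs1⟩ := hmul _ (congrArg Prod.fst hx0)
  obtain ⟨s2, hs2⟩ := hmul _ (congrArg Prod.snd hx0)
  have hxe : Multiplicative.toAdd x = p • ((s1, s2) : R × R) := Prod.ext hs1 hs2
  have h2 := hT (s1, s2)
  rw [nsmul_sub, ← map_nsmul, ← hxe, sub_eq_zero, hα, ofAdd_toAdd] at h2
  exact Multiplicative.toAdd.injective h2

end Cfsg.Agent.S4080
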