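import Cfsg.Statements.S4081
import Cfsg.Agent.Perm.ThreeOrbits

set_option autoImplicit false
set_option linter.style.haveILetI false
open Cfsg

namespace Cfsg.Agent.S4081

--- pre
open CfsgLib.Perm.ThreeOrbits
open scoped commutatorElement

theorem card_three_of {G : Type*} [Group G] [Finite G] {p q : ℕ} [Fact p.Prime] [Fact q.Prime]
    (hpq : p ≠ q) (a b : G) (ha : orderOf a = p) (hb : orderOf b = q)
    (hclass : ∀ g : G, g = 1 ∨ orderOf g = p ∨ orderOf g = q)
    (htr : ∀ a b : G, orderOf a = orderOf b → ∃ Φ : MulAut G, Φ a = b) :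
    Nat.card (MulAction.orbitRel.Quotient (MulAut G) G) = 3 := by
  classical
  have hp := (Fact.out : p.Prime)
  have hq := (Fact.out : q.Prime)
  let f : Fin 3 → MulAction.orbitRel.Quotient (MulAut G) G :=
    fun i => Quotient.mk'' (![1, a, b] i)
  have hinv : ∀ u v : G, (Quotient.mk'' u : MulAction.orbitRel.Quotient (MulAut G) G) =
      Quotient.mk'' v → orderOf u = orderOf v := by
    intro u v h
    obtain ⟨Φ, rfl⟩ : u ∈ MulAction.orbit (MulAut G) v := Quotient.eq''.1 h
    exact MulEquiv.orderOf_eq Φ v
  have hf : Function.Bijective f := by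
    refine ⟨fun i j h => ?_, fun o => ?_⟩
    · have h1 := hinv _ _ h
      fin_cases i <;> fin_cases j <;> simp_all <;>
        first
          | exact absurd h1 hp.ne_one | exact absurd h1.symm hp.ne_one
          | exact absurd h1 hq.ne_one | exact absurd h1.symm hq.ne_one
          | exact absurd h1 hpq | exact absurd h1.symm hpq
          | exact absurd rfl hp.ne_one | exact absurd rfl hq.ne_one
    · induction o using Quotient.inductionOn' with
      | h g =>
        rcases hclass g with h | h | h
        · exact ⟨0, by simp [f, h]⟩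
        · obtain ⟨Φ, hΦ⟩ := htr g a (h.trans ha.symm)
          exact ⟨1, Quotient.eq''.2 ⟨Φ, by simpa using hΦ⟩⟩
        · obtain ⟨Φ, hΦ⟩ := htr g b (h.trans hb.symm)
          exact ⟨2, Quotient.eq''.2 ⟨Φ, by simpa using hΦ⟩⟩
  rw [← Nat.card_eq_of_bijective f hf, Nat.card_fin]

/-- Let G be a finite group whose order is not a prime power. Then the automorphism group of G has exactly three orbits on G if and only if there are distinct primes p, q with #G = pⁿ·q (n ≥ 1) such that G has a normal elementary abelian Sylow p-subgroup P, p is a primitive root modulo q (the multiplicative order of p mod q is q − 1), and every element of order q of G acts on P without non-identity fixed points. -/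
theorem result {G : Type*} [Group G] [Finite G] (hnpp : ¬ IsPrimePow (Nat.card G)) (hnt : Nat.card G ≠ 1) :
    Nat.card (MulAction.orbitRel.Quotient (MulAut G) G) = 3 ↔
    ∃ (p q n : ℕ) (_ : Fact p.Prime) (_ : Fact q.Prime), p ≠ q ∧ 1 ≤ n ∧ Nat.card G = p ^ n * q ∧
      (∀ P : Sylow p G, (P : Subgroup G).Normal ∧ Cfsg.IsElementaryAbelian p (P : Subgroup G)) ∧
      orderOf (p : ZMod q) = q - 1 ∧
      ∀ x y : G, orderOf x = q → orderOf y = p → x * y * x⁻¹ ≠ y := by
  classical
  constructor
  · intro h3
    obtain ⟨p, hp, hpG⟩ := Nat.exists_prime_and_dvd hnt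
    obtain ⟨q, hq, hqG, hqp⟩ : ∃ q : ℕ, q.Prime ∧ q ∣ Nat.card G ∧ q ≠ p := by
      by_contra h
      push Not at h
      refine hnpp ⟨p, _, hp.prime, ?_, (Nat.eq_prime_pow_of_unique_prime_dvd Nat.card_pos.ne'
        fun {d} hd hdd => h d hd hdd).symm⟩
      rw [List.length_pos_iff]
      exact fun e => (Nat.primeFactorsList_eq_nil _).1 e |>.elim Nat.card_pos.ne' hnt
    haveI : Fact p.Prime := ⟨hp⟩
    haveI : Fact q.Prime := ⟨hq⟩
    obtain ⟨a, ha⟩ := exists_prime_orderOf_dvd_card' (G := G) p hpG
    obtain ⟨b, hb⟩ := exists_prime_orderOf_dvd_card' (G := G) q hqG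
    let π : G → MulAction.orbitRel.Quotient (MulAut G) G := fun g => Quotient.mk'' g
    have hinv : ∀ u v : G, π u = π v → orderOf u = orderOf v := by
      intro u v h
      obtain ⟨Φ, rfl⟩ : u ∈ MulAction.orbit (MulAut G) v := Quotient.eq''.1 h
      exact MulEquiv.orderOf_eq Φ v
    haveI : Fintype (MulAction.orbitRel.Quotient (MulAut G) G) := Fintype.ofFinite _
    have hset : ({π 1, π a, π b} : Finset (MulAction.orbitRel.Quotient (MulAut G) G)) = Finset.univ := by
      apply Finset.eq_univ_of_card
      rw [← Nat.card_eq_fintype_card, h3]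
      refine Finset.card_eq_three.2 ⟨_, _, _, fun h => ?_, fun h => ?_, fun h => ?_, rfl⟩
      · exact hp.ne_one (by rw [← ha, ← hinv _ _ h, orderOf_one])
      · exact hq.ne_one (by rw [← hb, ← hinv _ _ h, orderOf_one])
      · exact hqp (by rw [← ha, ← hb, hinv _ _ h])
    have hcase : ∀ g : G, π g = π 1 ∨ π g = π a ∨ π g = π b := fun g => by
      have := hset.ge (Finset.mem_univ (π g))
      simpa using this
    have hclass : ∀ g : G, g = 1 ∨ orderOf g = p ∨ orderOf g = q := by
      intro g
      rcases hcase g with h | h | h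
      · exact Or.inl (orderOf_eq_one_iff.1 ((hinv _ _ h).trans orderOf_one))
      · exact Or.inr (Or.inl ((hinv _ _ h).trans ha))
      · exact Or.inr (Or.inr ((hinv _ _ h).trans hb))
    have htr : ∀ u v : G, orderOf u = orderOf v → ∃ Φ : MulAut G, Φ u = v := by
      intro u v huv
      have : π v = π u := by
        rcases hcase u with hu | hu | hu <;> rcases hcase v with hv | hv | hv <;>
          have e1 := hinv _ _ hu <;> have e2 := hinv _ _ hv <;>
          first
            | exact hv.trans hu.symm
            | (exfalso; rw [huv, e2] at e1; simp only [orderOf_one, ha, hb] at e1; first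
                | exact hp.ne_one e1 | exact hp.ne_one e1.symm | exact hq.ne_one e1
                | exact hq.ne_one e1.symm | exact hqp e1 | exact hqp e1.symm)
      obtain ⟨Φ, hΦ⟩ : v ∈ MulAction.orbit (MulAut G) u := Quotient.eq''.1 this
      exact ⟨Φ, hΦ⟩
    have hsolv : Group.IsSolvable G := by
      refine CfsgLib.Char.solvable_of_card_two_primes p q ((Nat.card G).factorization p)
        ((Nat.card G).factorization q) hp hq ?_
      refine Nat.eq_of_factorization_eq Nat.card_pos.ne'
        (mul_ne_zero (pow_ne_zero _ hp.ne_zero) (pow_ne_zero _ hq.ne_zero)) fun r => ?_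
      rw [Nat.factorization_mul (pow_ne_zero _ hp.ne_zero) (pow_ne_zero _ hq.ne_zero),
        hp.factorization_pow, hq.factorization_pow, Finsupp.add_apply, Finsupp.single_apply,
        Finsupp.single_apply]
      by_cases hrp : p = r
      · subst hrp; simp [hqp]
      by_cases hrq : q = r
      · subst hrq; simp [hrp]
      rw [if_neg hrp, if_neg hrq, add_zero, Nat.factorization_eq_zero_iff]
      by_cases hr : r.Prime
      · refine Or.inr (Or.inl fun hd => ?_)
        haveI := Fact.mk hr
        obtain ⟨g, hg⟩ := exists_prime_orderOf_dvd_card' (G := G) r hd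
        rcases hclass g with h | h | h
        · exact hr.ne_one (by rw [← hg, h, orderOf_one])
        · exact hrp (h.symm.trans hg)
        · exact hrq (h.symm.trans hg)
      · exact Or.inl hr
    haveI := hsolv
    haveI : Nontrivial G := ⟨⟨a, 1, fun e => hp.ne_one (by rw [← ha, e, orderOf_one])⟩⟩
    have hne_top : commutator G ≠ ⊤ :=
      (Group.IsSolvable.commutator_lt_top_of_nontrivial G).ne
    have hchar : ∀ g ∈ commutator G, ∀ u : G, orderOf u = orderOf g → u ∈ commutator G := by
      intro g hg u hu
      obtain ⟨Φ, rfl⟩ := htr g u hu.symm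
      exact (Subgroup.characteristic_iff_map_eq.1 inferInstance Φ :
        (commutator G).map Φ.toMonoidHom = commutator G).le ⟨g, hg, rfl⟩
    obtain ⟨c, hc, hc1⟩ : ∃ c ∈ commutator G, c ≠ 1 := by
      by_contra h
      push Not at h
      have hcomm : ∀ u v : G, u * v = v * u := fun u v => by
        have := h ⁅u, v⁆ (Subgroup.commutator_mem_commutator (Subgroup.mem_top u) (Subgroup.mem_top v))
        exact commutatorElement_eq_one_iff_mul_comm.1 this
      have h1 := (Commute.orderOf_mul_eq_mul_orderOf_of_coprime (hcomm a b)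
        (by rw [ha, hb]; exact (Nat.coprime_primes hp hq).2 hqp.symm))
      rw [ha, hb] at h1
      rcases hclass (a * b) with h2 | h2 | h2
      · rw [h2, orderOf_one] at h1; exact hp.ne_one (Nat.eq_one_of_mul_eq_one_right h1.symm)
      · rw [h2] at h1; exact hq.ne_one ((Nat.mul_eq_left hp.ne_zero).1 h1.symm)
      · rw [h2] at h1; exact hp.ne_one ((Nat.mul_eq_right hq.ne_zero).1 h1.symm)
    have hnot : ¬ ((∀ g, orderOf g = p → g ∈ commutator G) ∧
        (∀ g, orderOf g = q → g ∈ commutator G)) := fun h => hne_top (by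
      rw [eq_top_iff]
      intro g _
      rcases hclass g with h' | h' | h'
      · rw [h']; exact one_mem _
      · exact h.1 g h'
      · exact h.2 g h')
    rcases (hclass c).resolve_left hc1 with hcp | hcq
    · have hab : ∀ g ∈ commutator G, g = 1 ∨ orderOf g = p := fun g hg =>
        (hclass g).imp_right fun h => h.resolve_right fun hgq =>
          hnot ⟨fun u hu => hchar c hc u (hu.trans hcp.symm), fun u hu => hchar g hg u (hu.trans hgq.symm)⟩
      obtain ⟨n, h1, h2, h3', h4, h5⟩ := structure_of_three_orbits hqp.symm hpG hqG hclass htr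
        (fun u hu => hchar c hc u (hu.trans hcp.symm)) hab
      exact ⟨p, q, n, ⟨hp⟩, ⟨hq⟩, hqp.symm, h1, h2, h3', h4, h5⟩
    · have hab : ∀ g ∈ commutator G, g = 1 ∨ orderOf g = q := fun g hg =>
        (hclass g).imp_right fun h => h.resolve_left fun hgp =>
          hnot ⟨fun u hu => hchar g hg u (hu.trans hgp.symm), fun u hu => hchar c hc u (hu.trans hcq.symm)⟩
      obtain ⟨n, h1, h2, h3', h4, h5⟩ := structure_of_three_orbits hqp hqG hpG
        (fun g => (hclass g).imp_right Or.symm) htr
        (fun u hu => hchar c hc u (hu.trans hcq.symm)) hab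
      exact ⟨q, p, n, ⟨hq⟩, ⟨hp⟩, hqp, h1, h2, h3', h4, h5⟩
  · rintro ⟨p, q, n, hp', hq', hpq, hn, hcard, hP, hord, hfpf⟩
    obtain ⟨a, ha⟩ := exists_prime_orderOf_dvd_card' (G := G) p
      (hcard ▸ dvd_mul_of_dvd_left (dvd_pow_self p (by omega)) q)
    obtain ⟨b, hb⟩ := exists_prime_orderOf_dvd_card' (G := G) q (hcard ▸ dvd_mul_left q _)
    obtain ⟨P⟩ := (inferInstance : Nonempty (Sylow p G))
    haveI := (hP P).1
    obtain ⟨hclass, htr⟩ := three_orbits_transitive hpq hcard P (hP P).2 hord hfpf
    exact card_three_of hpq a b ha hb hclass htr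

end Cfsg.Agent.S4081
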