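import Mathlib
-- Template for statement S4082 (row 4082; see /opt/grader/pristine/manifest.json for weights).
-- Copy to Cfsg/Agent/S4082.lean and replace the sorry. The statement below is byte-identical to the frozen
-- statement Cfsg.CfsgFrozen.S4082 (Cfsg/Statements/S4082.lean; the theorem Cfsg.fg5_groups_whose_p_by_cyclic_subgroups_are_cyclic_or_dihedral_odd);
-- the grader kernel-checks Cfsg.Agent.S4082.result against that frozen type. Keep the theorem IN THIS FILE
-- (a `result` declared elsewhere and merely imported here is not credited); helpers may live anywhere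
-- under Cfsg/Agent/.
import Cfsg.Statements.S4082
import Cfsg.Agent.Inv.Dihedral
-- import your own Cfsg.Agent.* helpers here

set_option autoImplicit false
open Cfsg
open scoped Pointwise
set_option linter.style.haveILetI false

namespace Cfsg.Agent.S4082

variable {G : Type*} [Group G] [Finite G] {p : ℕ}

theorem mem_zpowers_mul' {x y : G} (hxy : Commute x y) (hc : (orderOf x).Coprime (orderOf y)) :
    x ∈ Subgroup.zpowers (x * y) := by
  obtain ⟨m, hm⟩ := exists_pow_eq_self_of_coprime hc.symm
  have : (x * y) ^ orderOf y = x ^ orderOf y := by rw [hxy.mul_pow, pow_orderOf_eq_one, mul_one]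
  rw [← this, ← pow_mul] at hm
  have h := Subgroup.npow_mem_zpowers (x * y) (orderOf y * m)
  rwa [hm] at h

/-- A coprime operator fixing the order-`p` elements of a cyclic group fixes all. -/
theorem commute_of_omega (hp : p.Prime) {c : G} (hc : (orderOf c).Coprime p) : ∀ (e : ℕ) (s : G),
    orderOf s = p ^ (e + 1) → c * s * c⁻¹ ∈ Subgroup.zpowers s → Commute c (s ^ p ^ e) → Commute c s := by
  intro e
  induction e with
  | zero => intro s _ _ h; simpa using h
  | succ e ih =>
    intro s hs hmem hfix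
    obtain ⟨i, hi⟩ := Subgroup.mem_zpowers_iff.1 hmem
    have hsp : orderOf (s ^ p) = p ^ (e + 1) := by
      rw [orderOf_pow' _ hp.ne_zero, hs, pow_succ, Nat.gcd_eq_right (dvd_mul_left _ _), Nat.mul_div_cancel _ hp.pos]
    have hmem' : c * s ^ p * c⁻¹ ∈ Subgroup.zpowers (s ^ p) := ⟨i, by
      show (s ^ p) ^ i = c * s ^ p * c⁻¹
      rw [← conj_pow, ← hi, ← zpow_natCast, ← zpow_natCast, ← zpow_mul, ← zpow_mul, mul_comm]⟩
    have h1 : Commute c (s ^ p) := ih (s ^ p) hsp hmem' (by rwa [← pow_mul, ← pow_succ'])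
    set t := c * s * c⁻¹ * s⁻¹ with ht
    have htmem : t ∈ Subgroup.zpowers s := Subgroup.mul_mem _ hmem (Subgroup.inv_mem _ (Subgroup.mem_zpowers s))
    obtain ⟨j, hj⟩ := Subgroup.mem_zpowers_iff.1 htmem
    have htp : t ^ p = 1 := by
      have hst : Commute (c * s * c⁻¹) s⁻¹ := by
        rw [← hi]; exact ((Commute.refl s).zpow_left i).inv_right
      rw [ht, hst.mul_pow, conj_pow, h1.eq, mul_inv_cancel_right, inv_pow, mul_inv_cancel]
    -- `t` is fixed
    have hct : Commute c t := by
      by_cases ht1 : t = 1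
      · rw [ht1]; exact Commute.one_right c
      have hto : orderOf t = p := by haveI := Fact.mk hp; exact orderOf_eq_prime htp ht1
      have hd : (p : ℤ) ∣ j := by
        rw [← hj, ← zpow_natCast, ← zpow_mul, ← orderOf_dvd_iff_zpow_eq_one, hs] at htp
        push_cast at htp
        rw [pow_succ] at htp
        exact (dvd_pow_self (p : ℤ) (Nat.succ_ne_zero e)).trans ((mul_dvd_mul_iff_right (Int.natCast_ne_zero.2 hp.ne_zero)).1 htp)
      obtain ⟨l, rfl⟩ := hd
      rw [← hj, zpow_mul, zpow_natCast]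
      exact h1.zpow_right l
    have key : ∀ n : ℕ, c ^ n * s * (c ^ n)⁻¹ = t ^ n * s := by
      intro n
      induction n with
      | zero => simp
      | succ n ihn =>
        calc c ^ (n + 1) * s * (c ^ (n + 1))⁻¹ = c * (c ^ n * s * (c ^ n)⁻¹) * c⁻¹ := by rw [pow_succ']; group
          _ = c * t ^ n * s * c⁻¹ := by rw [ihn]; group
          _ = t ^ n * (c * s * c⁻¹) := by rw [(hct.pow_right n).eq]; group
          _ = _ := by rw [pow_succ, ht]; group
    have := key (orderOf c)
    rw [pow_orderOf_eq_one, one_mul, inv_one, mul_one] at this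
    have h2 : t ^ orderOf c = 1 := mul_eq_right.1 this.symm
    have h3 : orderOf t ∣ Nat.gcd (orderOf c) p :=
      Nat.dvd_gcd (orderOf_dvd_of_pow_eq_one h2) (orderOf_dvd_of_pow_eq_one htp)
    rw [hc, Nat.dvd_one, orderOf_eq_one_iff] at h3
    exact mul_inv_eq_iff_eq_mul.1 (mul_inv_eq_one.1 (ht.symm.trans h3))

theorem card_le_of_cyclic (hp : p.Prime) {P Q : Subgroup G} (hP : IsCyclic P) (hQP : Q ≤ P) {q : G}
    (hqP : q ∈ P) (hq : q ^ p = 1) (hQ : Nat.card Q = p) : q ∈ Q := by
  classical
  haveI := Fintype.ofFinite G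
  by_contra hn
  letI := IsCyclic.commGroup (α := P)
  have h1 := IsCyclic.card_pow_eq_one_le (α := P) hp.pos
  let f : Option Q → {a : P // a ^ p = 1} := fun o => match o with
    | none => ⟨⟨q, hqP⟩, Subtype.ext hq⟩
    | some a => ⟨⟨a, hQP a.2⟩, Subtype.ext (by
        have := pow_card_eq_one' (x := a)
        rw [hQ] at this
        have h' : ((a ^ p : Q) : G) = ((1 : Q) : G) := congrArg _ this
        simpa using h')⟩
  have hf : Function.Injective f := by
    rintro (_ | a) (_ | b) h <;> simp only [f, Subtype.mk.injEq] at h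
    · rfl
    · exact absurd (h ▸ b.2) hn
    · exact absurd (h ▸ a.2) hn
    · exact congrArg some (Subtype.ext h)
  have h2 := Nat.card_le_card_of_injective f hf
  rw [Finite.card_option, hQ] at h2
  rw [Nat.card_eq_fintype_card, Fintype.card_subtype] at h2
  omega


set_option maxHeartbeats 1000000 in
/-- Let p be an odd prime and G a finite group with Sylow p-subgroup P. Say that G has restricted p-by-cyclic subgroups when every subgroup H of G whose Sylow p-subgroup is normal in H with cyclic quotient is itself cyclic or dihedral of order 2pⁿ for some n. Then G has restricted p-by-cyclic subgroups if and only if P is cyclic and one of the following holds: (1) N_G(P) = C_G(P); or (2) N_G(P)/C_G(P) has order 2 and, for the subgroup Q of order p of P, the centralizer C_G(Q) is abelian and every element of N_G(Q) outside C_G(Q) is an involution inverting every element of C_G(Q). -/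
theorem result {G : Type*} [Group G] [Finite G] {p : ℕ}
    [Fact p.Prime] (hp : p ≠ 2) (P : Sylow p G) :
    (∀ H : Subgroup G, (∀ S : Sylow p ↥H, (S : Subgroup ↥H).Normal) →
        (∀ (S : Sylow p ↥H) [(S : Subgroup ↥H).Normal], IsCyclic (↥H ⧸ (S : Subgroup ↥H))) →
        IsCyclic H ∨ (∃ n : ℕ, Nonempty (H ≃* DihedralGroup (p ^ n)))) ↔
    (IsCyclic P ∧
      (Subgroup.normalizer ((P : Subgroup G) : Set G) = Subgroup.centralizer ((P : Subgroup G) : Set G) ∨
       ((Subgroup.centralizer ((P : Subgroup G) : Set G)).relIndex (Subgroup.normalizer ((P : Subgroup G) : Set G)) = 2 ∧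
        ∀ Q : Subgroup G, Q ≤ P → Nat.card Q = p →
          IsMulCommutative ↥(Subgroup.centralizer (Q : Set G)) ∧
          ∀ x : G, x ∈ Subgroup.normalizer (Q : Set G) → x ∉ Subgroup.centralizer (Q : Set G) →
            orderOf x = 2 ∧ ∀ c : G, c ∈ Subgroup.centralizer (Q : Set G) → x * c * x⁻¹ = c⁻¹))) := by
  classical
  have hpr : p.Prime := Fact.out
  have hodd : Odd p := hpr.odd_of_ne_two hp
  constructor
  · intro h
    have hcycP : IsCyclic P := by
      have hH : IsPGroup p (P : Subgroup G) := P.isPGroup'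
      have htop : ∀ S : Sylow p (P : Subgroup G), (S : Subgroup (P : Subgroup G)) = ⊤ := fun S =>
        (S.3 (IsPGroup.of_equiv hH Subgroup.topEquiv.symm) le_top).symm
      rcases h P (fun S => by rw [htop S]; infer_instance) (fun S hS => by
        haveI : Subsingleton (↥(P : Subgroup G) ⧸ (S : Subgroup (P : Subgroup G))) := by
          refine ⟨fun x y => ?_⟩
          obtain ⟨a, rfl⟩ := QuotientGroup.mk_surjective x
          obtain ⟨b, rfl⟩ := QuotientGroup.mk_surjective y
          exact QuotientGroup.eq.2 (by rw [htop S]; trivial)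
        infer_instance) with h1 | ⟨n, ⟨e⟩⟩
      · exact h1
      · exfalso
        obtain ⟨k, hk⟩ := IsPGroup.iff_orderOf.1 hH (e.symm (DihedralGroup.sr 0))
        rw [MulEquiv.orderOf_eq, DihedralGroup.orderOf_sr] at hk
        exact (Nat.not_even_iff_odd.2 (hodd.pow (n := k))) (hk ▸ even_two)
    refine ⟨hcycP, ?_⟩
    -- elements normalising a subgroup of order `p`
    have key : ∀ Q : Subgroup G, Nat.card Q = p → ∀ x ∈ Subgroup.normalizer (Q : Set G),
        x ∉ Subgroup.centralizer (Q : Set G) → orderOf x = 2 ∧ ∀ q ∈ Q, x * q * x⁻¹ = q⁻¹ := by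
      intro Q hQ x hxN hxC
      haveI : IsCyclic Q := isCyclic_of_prime_card hQ
      obtain ⟨⟨q, hqQ⟩, hgen⟩ := IsCyclic.exists_generator (α := Q)
      have hqmem : ∀ y ∈ Q, y ∈ Subgroup.zpowers q := fun y hy => by
        obtain ⟨i, hi⟩ := Subgroup.mem_zpowers_iff.1 (hgen ⟨y, hy⟩)
        exact ⟨i, congrArg Subtype.val hi⟩
      set H := Q ⊔ Subgroup.zpowers x
      have hQH : Q ≤ H := le_sup_left
      have hxH : x ∈ H := Subgroup.mem_sup_right (Subgroup.mem_zpowers x)
      haveI hQn : (Q.subgroupOf H).Normal := by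
        refine (Subgroup.normal_subgroupOf_iff_le_normalizer hQH).2 (sup_le Subgroup.le_normalizer ?_)
        exact Subgroup.zpowers_le.2 hxN
      have hgenH : ∀ y : H, ∃ i : ℤ, y * (⟨x, hxH⟩ : H) ^ i ∈ Q.subgroupOf H := by
        intro y
        have hy : (y : G) ∈ ((Q : Set G) * (Subgroup.zpowers x : Set G)) := by
          rw [← Subgroup.coe_mul_of_right_le_normalizer_left Q _ (Subgroup.zpowers_le.2 hxN)]
          exact y.2
        obtain ⟨a, ha, b, hb, hab⟩ := hy
        obtain ⟨i, rfl⟩ := Subgroup.mem_zpowers_iff.1 hb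
        refine ⟨-i, ?_⟩
        rw [Subgroup.mem_subgroupOf, Subgroup.coe_mul, SubgroupClass.coe_zpow, ← hab]
        simpa [mul_assoc] using ha
      have hSn : ∀ S : Sylow p H, Q.subgroupOf H ≤ (S : Subgroup H) := fun S =>
        (IsPGroup.of_card (n := 1) (by
          rw [Nat.card_congr (Subgroup.subgroupOfEquivOfLe hQH).toEquiv, hQ, pow_one]) :
          IsPGroup p (Q.subgroupOf H)).le_sylow_of_normal S
      have hmod : ∀ S : Sylow p H, (S : Subgroup H).Normal := by
        intro S
        refine ⟨fun n hn g => ?_⟩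
        haveI : IsCyclic (H ⧸ Q.subgroupOf H) := ⟨⟨((⟨x, hxH⟩ : H) : H ⧸ Q.subgroupOf H), fun w => by
          obtain ⟨y, rfl⟩ := QuotientGroup.mk_surjective w
          obtain ⟨i, hi⟩ := hgenH y
          refine ⟨-i, ?_⟩
          show ((⟨x, hxH⟩ : H) : H ⧸ Q.subgroupOf H) ^ (-i) = _
          rw [← QuotientGroup.mk_zpow, QuotientGroup.eq]
          have := (hQn.conj_mem _ hi ((⟨x, hxH⟩ : H) ^ i))
          simpa [zpow_neg, mul_assoc] using this⟩⟩
        letI := IsCyclic.commGroup (α := H ⧸ Q.subgroupOf H)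
        have hc : g * n * g⁻¹ * n⁻¹ ∈ Q.subgroupOf H := (QuotientGroup.eq_one_iff _).1 (by
          rw [QuotientGroup.mk_mul, QuotientGroup.mk_mul, QuotientGroup.mk_mul, QuotientGroup.mk_inv, QuotientGroup.mk_inv,
            mul_comm (g : H ⧸ Q.subgroupOf H), mul_inv_cancel_right, mul_inv_cancel])
        have := (S : Subgroup H).mul_mem (hSn S hc) hn
        rwa [inv_mul_cancel_right] at this
      rcases h H hmod (fun S hS => by
        refine ⟨⟨((⟨x, hxH⟩ : H) : H ⧸ (S : Subgroup H)), fun w => ?_⟩⟩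
        obtain ⟨y, rfl⟩ := QuotientGroup.mk_surjective w
        obtain ⟨i, hi⟩ := hgenH y
        refine ⟨-i, ?_⟩
        show ((⟨x, hxH⟩ : H) : H ⧸ (S : Subgroup H)) ^ (-i) = _
        rw [← QuotientGroup.mk_zpow, QuotientGroup.eq]
        have := hSn S (hQn.conj_mem _ hi ((⟨x, hxH⟩ : H) ^ i))
        simpa [zpow_neg, mul_assoc] using this) with h1 | ⟨n, ⟨e⟩⟩
      · exfalso
        letI := IsCyclic.commGroup (α := H)
        exact hxC (Subgroup.mem_centralizer_iff.2 fun q hq =>
          congrArg Subtype.val (mul_comm (⟨q, hQH hq⟩ : H) ⟨x, hxH⟩))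
      · rcases hq' : e ⟨q, hQH hqQ⟩ with i | i
        swap
        · exfalso
          have h2 := MulEquiv.orderOf_eq e (⟨q, hQH hqQ⟩ : H)
          rw [hq', DihedralGroup.orderOf_sr, Subgroup.orderOf_mk] at h2
          have h3 : orderOf q ∣ p := hQ ▸ Subgroup.orderOf_dvd_natCard Q hqQ
          rw [← h2] at h3
          exact hp ((Nat.prime_dvd_prime_iff_eq Nat.prime_two hpr).1 h3).symm
        rcases hx' : e ⟨x, hxH⟩ with j | j
        · exfalso
          refine hxC (Subgroup.mem_centralizer_iff.2 fun y hy => ?_)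
          obtain ⟨l, rfl⟩ := Subgroup.mem_zpowers_iff.1 (hqmem y hy)
          have : Commute (⟨q, hQH hqQ⟩ : H) ⟨x, hxH⟩ := e.injective (by
            rw [map_mul, map_mul, hq', hx', DihedralGroup.r_mul_r, DihedralGroup.r_mul_r, add_comm])
          exact ((this.map H.subtype).zpow_left l).eq
        · refine ⟨?_, fun y hy => ?_⟩
          · have h2 := MulEquiv.orderOf_eq e (⟨x, hxH⟩ : H)
            rw [hx', DihedralGroup.orderOf_sr, Subgroup.orderOf_mk] at h2
            exact h2.symm
          · obtain ⟨l, rfl⟩ := Subgroup.mem_zpowers_iff.1 (hqmem y hy)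
            have h3 : (⟨x, hxH⟩ : H) * ⟨q, hQH hqQ⟩ * (⟨x, hxH⟩ : H)⁻¹ = (⟨q, hQH hqQ⟩ : H)⁻¹ := e.injective (by
              rw [map_mul, map_mul, map_inv, map_inv, hq', hx']
              simp [DihedralGroup.inv_sr, DihedralGroup.inv_r, DihedralGroup.sr_mul_r, DihedralGroup.sr_mul_sr])
            have h4 : x * q * x⁻¹ = q⁻¹ := congrArg Subtype.val h3
            rw [← conj_zpow, h4, inv_zpow]
    by_cases hNC : Subgroup.normalizer ((P : Subgroup G) : Set G) = Subgroup.centralizer ((P : Subgroup G) : Set G)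
    · exact Or.inl hNC
    right
    have hPab : ∀ a ∈ (P : Subgroup G), ∀ b ∈ (P : Subgroup G), a * b = b * a := fun a ha b hb => by
      letI := IsCyclic.commGroup (α := (P : Subgroup G))
      exact congrArg Subtype.val (mul_comm (⟨a, ha⟩ : (P : Subgroup G)) ⟨b, hb⟩)
    set C := Subgroup.centralizer ((P : Subgroup G) : Set G)
    set N := Subgroup.normalizer ((P : Subgroup G) : Set G)
    have hPne : (P : Subgroup G) ≠ ⊥ := fun e => hNC (by
      simp only [N, C, e]
      ext g
      constructor
      · intro _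
        refine Subgroup.mem_centralizer_iff.2 fun b hb => ?_
        rw [Subgroup.mem_bot.1 hb, one_mul, mul_one]
      · intro _
        refine Subgroup.mem_normalizer_fintype fun b hb => ?_
        rw [Subgroup.mem_bot.1 hb, mul_one, mul_inv_cancel]
        exact Subgroup.one_mem ⊥)
    haveI : Nontrivial (P : Subgroup G) := (Subgroup.nontrivial_iff_ne_bot _).2 hPne
    obtain ⟨⟨s, hs⟩, hgen⟩ := hcycP.exists_generator
    have hsmem : ∀ y ∈ (P : Subgroup G), y ∈ Subgroup.zpowers s := fun y hy => by
      obtain ⟨i, hi⟩ := Subgroup.mem_zpowers_iff.1 (hgen ⟨y, hy⟩)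
      exact ⟨i, congrArg Subtype.val hi⟩
    obtain ⟨k, hk⟩ := IsPGroup.iff_orderOf.1 P.isPGroup' ⟨s, hs⟩
    rw [Subgroup.orderOf_mk] at hk
    obtain ⟨e, rfl⟩ : ∃ e, k = e + 1 := ⟨k - 1, by
      rcases k with _ | k
      · exfalso
        refine hPne ((Subgroup.eq_bot_iff_forall _).2 fun y hy => ?_)
        obtain ⟨i, rfl⟩ := Subgroup.mem_zpowers_iff.1 (hsmem y hy)
        have h1 : s = 1 := orderOf_eq_one_iff.1 (by simpa using hk)
        rw [h1, one_zpow]
      · omega⟩
    set q₀ := s ^ p ^ e
    have hq₀ : orderOf q₀ = p := by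
      rw [orderOf_pow' _ (pow_ne_zero _ hpr.ne_zero), hk, Nat.gcd_eq_right (pow_dvd_pow p e.le_succ),
        Nat.pow_div e.le_succ hpr.pos]
      simp
    have hnotD : ∀ y ∈ N, y ∉ C → ∀ Q : Subgroup G, Q ≤ P → Nat.card Q = p →
        y ∈ Subgroup.normalizer (Q : Set G) ∧ y ∉ Subgroup.centralizer (Q : Set G) := by
      intro y hy hyC Q hQP hQ
      have hqQ : q₀ ∈ Q := card_le_of_cyclic hpr hcycP hQP (pow_mem hs _) (by rw [← hq₀]; exact pow_orderOf_eq_one _) hQ
      constructor
      · refine Subgroup.mem_normalizer_fintype ?_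
        intro a ha
        refine card_le_of_cyclic hpr hcycP hQP ((Subgroup.mem_normalizer_iff.1 hy a).1 (hQP ha)) ?_ hQ
        rw [conj_pow, show a ^ p = 1 from hQ ▸ congrArg Subtype.val (pow_card_eq_one' (x := (⟨a, ha⟩ : Q))),
          mul_one, mul_inv_cancel]
      · intro hyQ
        apply hyC
        -- the p'-part of `y` fixes the generator; the p-part lies in `P`
        obtain ⟨a, m, hm, ham⟩ := Nat.exists_eq_pow_mul_and_not_dvd (orderOf_pos y).ne' p hpr.ne_one
        have hcp : Nat.Coprime (p ^ a) m := Nat.Coprime.pow_left a (hpr.coprime_iff_not_dvd.2 hm)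
        obtain ⟨u, v, huv⟩ := Int.isCoprime_iff_nat_coprime.2
          (by simpa using hcp : ((p ^ a : ℕ) : ℤ).natAbs.Coprime (m : ℤ).natAbs)
        have e1 : y = (y ^ p ^ a) ^ u * (y ^ m) ^ v := by
          rw [← zpow_natCast, ← zpow_natCast y m, ← zpow_mul, ← zpow_mul, ← zpow_add, mul_comm _ u, mul_comm _ v, huv, zpow_one]
        have hcomm : Commute (y ^ p ^ a) s := by
          refine commute_of_omega hpr ?_ e s hk ?_ ?_
          · rw [orderOf_pow' _ (pow_ne_zero _ hpr.ne_zero), ham, Nat.gcd_eq_right (dvd_mul_right _ _),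
              Nat.mul_div_cancel_left _ (pow_pos hpr.pos _)]
            exact (hpr.coprime_iff_not_dvd.2 hm).symm
          · exact hsmem _ ((Subgroup.mem_normalizer_iff.1 (pow_mem hy _) s).1 hs)
          · exact (show Commute q₀ y from Subgroup.mem_centralizer_iff.1 hyQ q₀ hqQ).symm.pow_left _
        have hpart : y ^ m ∈ (P : Subgroup G) := by
          have hz : IsPGroup p (Subgroup.zpowers (⟨y ^ m, pow_mem hy m⟩ : N)) := IsPGroup.of_card (n := a) (by
            rw [Nat.card_zpowers, ← Subgroup.orderOf_coe, orderOf_pow' _ (fun e => hm (by rw [e]; exact dvd_zero p)), ham,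
              Nat.gcd_eq_right (dvd_mul_left _ _),
              Nat.mul_div_cancel _ (Nat.pos_of_ne_zero fun e => hm (by rw [e]; exact dvd_zero p))])
          haveI : ((P : Subgroup G).subgroupOf N).Normal := Subgroup.normal_in_normalizer
          obtain ⟨S', hS'⟩ := hz.exists_le_sylow
          let P'' : Sylow p N := P.subtype Subgroup.le_normalizer
          haveI := Sylow.unique_of_normal P'' this
          have h9 := hS' (Subgroup.mem_zpowers _)
          rw [Subsingleton.elim S' P''] at h9
          exact h9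
        rw [e1]
        refine Subgroup.mul_mem _ (Subgroup.zpow_mem _ (Subgroup.mem_centralizer_iff.2 fun b hb => ?_) _)
          (Subgroup.zpow_mem _ (Subgroup.mem_centralizer_iff.2 fun b hb => hPab b hb _ hpart) _)
        obtain ⟨i, rfl⟩ := Subgroup.mem_zpowers_iff.1 (hsmem b hb)
        exact (hcomm.zpow_right i).symm.eq
    refine ⟨?_, ?_⟩
    · have hCN : C ≤ N := fun c hc => by
        refine Subgroup.mem_normalizer_fintype ?_
        intro a ha
        rwa [← Subgroup.mem_centralizer_iff.1 hc a ha, mul_inv_cancel_right]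
      obtain ⟨w, hwN, hwC⟩ : ∃ w ∈ N, w ∉ C := by
        by_contra hcon
        push Not at hcon
        exact hNC (le_antisymm hcon hCN)
      rw [Subgroup.relIndex]
      refine Subgroup.index_eq_two_iff.2 ⟨⟨w, hwN⟩⁻¹, fun b => ?_⟩
      set Q₀ := Subgroup.zpowers q₀
      have hQ₀ : Nat.card Q₀ = p := by rw [Nat.card_zpowers, hq₀]
      have hinv : ∀ y ∈ N, y ∉ C → y * q₀ * y⁻¹ = q₀⁻¹ := fun y hy hyC => by
        obtain ⟨h1, h2⟩ := hnotD y hy hyC Q₀ (Subgroup.zpowers_le.2 (pow_mem hs _)) hQ₀
        exact (key Q₀ hQ₀ y h1 h2).2 q₀ (Subgroup.mem_zpowers q₀)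
      by_cases hb : (b : G) ∈ C
      · refine Or.inr ⟨hb, fun hbw => hwC ?_⟩
        have := C.mul_mem (C.inv_mem (Subgroup.mem_subgroupOf.1 hbw)) hb
        simpa using this
      · refine Or.inl ⟨Subgroup.mem_subgroupOf.2 ?_, fun h => hb (Subgroup.mem_subgroupOf.1 h)⟩
        show (b : G) * w⁻¹ ∈ C
        by_contra hbw
        have h1 := hinv _ (N.mul_mem b.2 (N.inv_mem hwN)) hbw
        have h2 := hinv b b.2 hb
        have h3 := hinv w hwN hwC
        have h4 : w⁻¹ * q₀ * w = q₀⁻¹ := by
          calc w⁻¹ * q₀ * w = (w⁻¹ * (w * q₀ * w⁻¹) * w)⁻¹ := by rw [h3]; group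
            _ = _ := by group
        have h5 : (b : G) * w⁻¹ * q₀ * ((b : G) * w⁻¹)⁻¹ = q₀ := by
          calc (b : G) * w⁻¹ * q₀ * ((b : G) * w⁻¹)⁻¹ = (b : G) * (w⁻¹ * q₀ * w) * (b : G)⁻¹ := by group
            _ = ((b : G) * q₀ * (b : G)⁻¹)⁻¹ := by rw [h4]; group
            _ = q₀ := by rw [h2, inv_inv]
        rw [h5] at h1
        have h6 : q₀ ^ 2 = 1 := by rw [pow_two]; nth_rewrite 1 [h1]; exact inv_mul_cancel _
        have h7 := Nat.le_of_dvd two_pos (orderOf_dvd_of_pow_eq_one h6)
        rw [hq₀] at h7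
        have := hpr.two_le
        omega
    · intro Q hQP hQ
      obtain ⟨w, hwN, hwC⟩ : ∃ w ∈ N, w ∉ C := by
        by_contra hcon
        push Not at hcon
        refine hNC (le_antisymm hcon fun c hc => ?_)
        refine Subgroup.mem_normalizer_fintype ?_
        intro a ha
        rwa [← Subgroup.mem_centralizer_iff.1 hc a ha, mul_inv_cancel_right]
      obtain ⟨hwM, hwD⟩ := hnotD w hwN hwC Q hQP hQ
      have hinv : ∀ x ∈ Subgroup.normalizer (Q : Set G), x ∉ Subgroup.centralizer (Q : Set G) →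
          ∀ c ∈ Subgroup.centralizer (Q : Set G), x * c * x⁻¹ = c⁻¹ := by
        intro x hx hxD c hc
        have h1 := (key Q hQ x hx hxD).1
        have hcM : c ∈ Subgroup.normalizer (Q : Set G) := by
          refine Subgroup.mem_normalizer_fintype ?_
          intro a ha
          rwa [← Subgroup.mem_centralizer_iff.1 hc a ha, mul_inv_cancel_right]
        have h2 := (key Q hQ (x * c) (mul_mem hx hcM) fun hh => hxD (by
          simpa using mul_mem hh (inv_mem hc))).1
        have e1 : x * x = 1 := by rw [← pow_two, ← h1]; exact pow_orderOf_eq_one _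
        have e2 : x * c * (x * c) = 1 := by rw [← pow_two, ← h2]; exact pow_orderOf_eq_one _
        rw [show x⁻¹ = x from inv_eq_of_mul_eq_one_right e1]
        exact eq_inv_of_mul_eq_one_left (by rw [← e2]; group)
      refine ⟨⟨⟨fun a b => Subtype.ext ?_⟩⟩, fun x hx hxD => ⟨(key Q hQ x hx hxD).1, hinv x hx hxD⟩⟩
      have h1 := hinv w hwM hwD _ (mul_mem a.2 b.2)
      have h2 := hinv w hwM hwD _ a.2
      have h3 := hinv w hwM hwD _ b.2
      rw [mul_inv_rev, ← h2, ← h3] at h1
      show (a : G) * b = b * a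
      calc (a : G) * b = w⁻¹ * (w * ((a : G) * b) * w⁻¹) * w := by group
        _ = _ := by rw [h1]; group
  · rintro ⟨hcycP, hor⟩ H hSn hScyc
    obtain ⟨S⟩ : Nonempty (Sylow p H) := inferInstance
    haveI := hSn S
    obtain ⟨P₁, hP₁⟩ := (S.isPGroup'.map H.subtype).exists_le_sylow
    obtain ⟨g, hg⟩ := MulAction.exists_smul_eq G P₁ P
    have hconjP : ∀ s ∈ (S : Subgroup H), g * (s : G) * g⁻¹ ∈ (P : Subgroup G) := fun s hs => by
      rw [← hg]
      exact Subgroup.smul_mem_pointwise_smul _ (MulAut.conj g) _ (hP₁ ⟨s, hs, rfl⟩)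
    haveI hScyclic : IsCyclic (S : Subgroup H) := by
      haveI := hcycP
      refine isCyclic_of_injective ({ toFun := fun s => ⟨g * ((s : H) : G) * g⁻¹, hconjP s s.2⟩
                                      map_one' := by ext; simp
                                      map_mul' := fun a b => by ext; simp [mul_assoc] } : (S : Subgroup H) →* (P : Subgroup G))
        (fun a b e => Subtype.ext (Subtype.ext (mul_left_cancel (mul_right_cancel (congrArg Subtype.val e)))))
    haveI := hScyc S
    obtain ⟨w, hw⟩ := IsCyclic.exists_generator (α := H ⧸ (S : Subgroup H))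
    obtain ⟨w', rfl⟩ := QuotientGroup.mk_surjective w
    obtain ⟨a, m, hm, hwm⟩ := Nat.exists_eq_pow_mul_and_not_dvd (orderOf_pos w').ne' p hpr.ne_one
    set c := w' ^ p ^ a with hcdef
    have hco : (orderOf c).Coprime p := by
      rw [hcdef, orderOf_pow' _ (pow_ne_zero _ hpr.ne_zero), hwm, Nat.gcd_eq_right (dvd_mul_right _ _),
        Nat.mul_div_cancel_left _ (pow_pos hpr.pos _)]
      exact (hpr.coprime_iff_not_dvd.2 hm).symm
    have hgenH : ∀ x : H, ∃ s ∈ (S : Subgroup H), ∃ i : ℤ, x = s * c ^ i := by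
      intro x
      have hcop : Nat.Coprime (p ^ a) (orderOf (w' : H ⧸ (S : Subgroup H))) :=
        Nat.Coprime.pow_left a (hpr.coprime_iff_not_dvd.2 fun hd => S.not_dvd_index (hd.trans (orderOf_dvd_natCard _)))
      obtain ⟨k, hk⟩ := exists_pow_eq_self_of_coprime hcop
      obtain ⟨i, hi⟩ := Subgroup.mem_zpowers_iff.1 (hw x)
      rw [← hk, ← zpow_natCast _ k, ← zpow_mul] at hi
      refine ⟨x * (c ^ ((k : ℤ) * i))⁻¹, ?_, (k : ℤ) * i, by group⟩
      rw [← QuotientGroup.eq_one_iff, QuotientGroup.mk_mul, QuotientGroup.mk_inv, QuotientGroup.mk_zpow, hcdef,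
        QuotientGroup.mk_pow, hi, mul_inv_cancel]
    obtain ⟨⟨s₀, hs₀⟩, hgen⟩ := IsCyclic.exists_generator (α := (S : Subgroup H))
    have hsmem : ∀ y ∈ (S : Subgroup H), y ∈ Subgroup.zpowers s₀ := fun y hy => by
      obtain ⟨i, hi⟩ := Subgroup.mem_zpowers_iff.1 (hgen ⟨y, hy⟩)
      exact ⟨i, congrArg Subtype.val hi⟩
    obtain ⟨k, hk⟩ := IsPGroup.iff_orderOf.1 S.isPGroup' ⟨s₀, hs₀⟩
    rw [Subgroup.orderOf_mk] at hk
    have hcyc : Commute c s₀ → IsCyclic H := by
      intro hcomm
      refine ⟨⟨s₀ * c, fun x => ?_⟩⟩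
      obtain ⟨s, hs, i, rfl⟩ := hgenH x
      have hcp : (orderOf s₀).Coprime (orderOf c) := by rw [hk]; exact Nat.Coprime.pow_left k hco.symm
      show s * c ^ i ∈ Subgroup.zpowers (s₀ * c)
      refine Subgroup.mul_mem _ ?_ (Subgroup.zpow_mem _ ?_ i)
      · obtain ⟨j, rfl⟩ := Subgroup.mem_zpowers_iff.1 (hsmem s hs)
        exact Subgroup.zpow_mem _ (mem_zpowers_mul' hcomm.symm hcp) j
      · rw [hcomm.symm.eq]; exact mem_zpowers_mul' hcomm hcp.symm
    rcases k with _ | e
    · refine Or.inl (hcyc ?_)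
      have h1 : s₀ = 1 := orderOf_eq_one_iff.1 (by simpa using hk)
      rw [h1]; exact Commute.one_right c
    set q := g * ((s₀ ^ p ^ e : H) : G) * g⁻¹ with hq
    have hqP : q ∈ (P : Subgroup G) := hconjP _ (pow_mem hs₀ _)
    have hqo : orderOf q = p := by
      refine ((MulAut.conj g).orderOf_eq _).trans ?_
      rw [Subgroup.orderOf_coe, orderOf_pow' _ (pow_ne_zero _ hpr.ne_zero), hk,
        Nat.gcd_eq_right (pow_dvd_pow p e.le_succ), Nat.pow_div e.le_succ hpr.pos]
      simp
    set Q := Subgroup.zpowers q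
    have hQP : Q ≤ (P : Subgroup G) := Subgroup.zpowers_le.2 hqP
    have hQ : Nat.card Q = p := by rw [Nat.card_zpowers, hqo]
    set c' := g * (c : G) * g⁻¹
    have hmemS : c * s₀ * c⁻¹ ∈ Subgroup.zpowers s₀ := hsmem _ ((hSn S).conj_mem s₀ hs₀ c)
    by_cases hcD : c' ∈ Subgroup.centralizer (Q : Set G)
    · refine Or.inl (hcyc (commute_of_omega hpr hco e s₀ hk hmemS (Subtype.ext ?_)))
      have h1 : q * c' = c' * q := Subgroup.mem_centralizer_iff.1 hcD q (Subgroup.mem_zpowers q)
      have h2 : g * (((s₀ ^ p ^ e : H) : G) * (c : G)) * g⁻¹ = g * ((c : G) * ((s₀ ^ p ^ e : H) : G)) * g⁻¹ := by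
        calc g * (((s₀ ^ p ^ e : H) : G) * (c : G)) * g⁻¹ = q * c' := by simp only [q, c']; group
          _ = c' * q := h1
          _ = _ := by simp only [q, c']; group
      exact (mul_left_cancel (mul_right_cancel h2)).symm
    · -- the inverting case
      have hcM : c' ∈ Subgroup.normalizer (Q : Set G) := by
        refine Subgroup.mem_normalizer_fintype ?_
        intro y hy
        obtain ⟨i, rfl⟩ := Subgroup.mem_zpowers_iff.1 hy
        have h1 : c * (s₀ ^ p ^ e) * c⁻¹ ∈ Subgroup.zpowers (s₀ ^ p ^ e) := by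
          obtain ⟨j, hj⟩ := Subgroup.mem_zpowers_iff.1 hmemS
          refine ⟨j, ?_⟩
          show (s₀ ^ p ^ e) ^ j = _
          rw [← conj_pow, ← hj, ← zpow_natCast, ← zpow_natCast, ← zpow_mul, ← zpow_mul, mul_comm]
        obtain ⟨j, hj⟩ := Subgroup.mem_zpowers_iff.1 h1
        have h2 : c' * q * c'⁻¹ = q ^ j := by
          have := congrArg (fun t : H => g * (t : G) * g⁻¹) hj
          simp only [SubgroupClass.coe_zpow, Subgroup.coe_mul, Subgroup.coe_inv, SubgroupClass.coe_pow] at this
          simp only [q, c', conj_zpow, SubgroupClass.coe_pow]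
          rw [this]; group
        rw [← conj_zpow, h2]
        exact Subgroup.zpow_mem _ (Subgroup.zpow_mem _ (Subgroup.mem_zpowers q) j) i
      rcases hor with hNC | ⟨-, hQall⟩
      · exfalso
        -- Frattini argument
        set M := Subgroup.normalizer (Q : Set G)
        set D := Subgroup.centralizer (Q : Set G)
        have hDM : D ≤ M := fun d hd => by
          refine Subgroup.mem_normalizer_fintype ?_
          intro a ha
          rwa [← Subgroup.mem_centralizer_iff.1 hd a ha, mul_inv_cancel_right]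
        haveI hDn : (D.subgroupOf M).Normal := by
          refine ⟨fun d hd x => ?_⟩
          rw [Subgroup.mem_subgroupOf] at hd ⊢
          refine Subgroup.mem_centralizer_iff.2 fun y hy => ?_
          have h1 : (x : G)⁻¹ * y * x ∈ Q := by simpa using (Subgroup.mem_normalizer_iff.1 (inv_mem x.2) y).1 hy
          have h2 := Subgroup.mem_centralizer_iff.1 hd _ h1
          show y * ((x : G) * d * (x : G)⁻¹) = (x : G) * d * (x : G)⁻¹ * y
          calc y * ((x : G) * d * (x : G)⁻¹) = (x : G) * (((x : G)⁻¹ * y * x) * d) * (x : G)⁻¹ := by group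
            _ = _ := by rw [h2]; group
        have hPD : (P : Subgroup G) ≤ D := fun y hy => Subgroup.mem_centralizer_iff.2 fun b hb => by
          letI := IsCyclic.commGroup (α := (P : Subgroup G))
          exact congrArg Subtype.val (mul_comm (⟨b, hQP hb⟩ : (P : Subgroup G)) ⟨y, hy⟩)
        let P' : Sylow p (D.subgroupOf M) := (P.subtype (hPD.trans hDM)).subtype (fun y hy => hPD hy)
        have hfr := Sylow.normalizer_sup_eq_top P'
        have hP'map : ((P' : Subgroup (D.subgroupOf M)).map (D.subgroupOf M).subtype) = (P : Subgroup G).subgroupOf M :=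
          Subgroup.map_subgroupOf_eq_of_le (fun y hy => hPD hy)
        rw [hP'map] at hfr
        apply hcD
        have : (⟨c', hcM⟩ : M) ∈ (Subgroup.normalizer ((P : Subgroup G).subgroupOf M : Set M) ⊔ D.subgroupOf M : Subgroup M) := by
          rw [hfr]; trivial
        rw [Subgroup.mem_sup_of_normal_right] at this
        obtain ⟨u, hu, d, hd, hud⟩ := this
        have huN : (u : G) ∈ Subgroup.normalizer ((P : Subgroup G) : Set G) := by
          refine Subgroup.mem_normalizer_fintype ?_
          intro y hy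
          exact (Subgroup.mem_normalizer_iff.1 hu ⟨y, hDM (hPD hy)⟩).1 hy
        rw [hNC] at huN
        have huD : (u : G) ∈ D := Subgroup.mem_centralizer_iff.2 fun b hb => Subgroup.mem_centralizer_iff.1 huN b (hQP hb)
        have := D.mul_mem huD hd
        rwa [← show ((u * d : M) : G) = c' from congrArg Subtype.val hud]
      · obtain ⟨-, hinv⟩ := hQall Q hQP hQ
        obtain ⟨hc2, hinv'⟩ := hinv c' hcM hcD
        have hc2' : orderOf c = 2 := by
          rw [← hc2, ← Subgroup.orderOf_coe c]; exact ((MulAut.conj g).orderOf_eq _).symm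
        have hs₀D : g * (s₀ : G) * g⁻¹ ∈ Subgroup.centralizer (Q : Set G) :=
          Subgroup.mem_centralizer_iff.2 fun b hb => by
            letI := IsCyclic.commGroup (α := (P : Subgroup G))
            exact congrArg Subtype.val (mul_comm (⟨b, hQP hb⟩ : (P : Subgroup G)) ⟨_, hconjP s₀ hs₀⟩)
        have hrel : c * s₀ * c⁻¹ = s₀⁻¹ := by
          refine Subtype.ext ?_
          have h1 := hinv' _ hs₀D
          have h2 : g * ((c : G) * s₀ * (c : G)⁻¹) * g⁻¹ = g * (s₀ : G)⁻¹ * g⁻¹ := by
            calc g * ((c : G) * s₀ * (c : G)⁻¹) * g⁻¹ = c' * (g * (s₀ : G) * g⁻¹) * c'⁻¹ := by simp only [c']; group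
              _ = _ := by rw [h1]; group
          simpa using mul_left_cancel (mul_right_cancel h2)
        have hcc : c * c = 1 := by rw [← pow_two, ← hc2']; exact pow_orderOf_eq_one c
        have hsc : orderOf (s₀ * c) = 2 := by
          refine orderOf_eq_prime ?_ fun e1 => ?_
          · rw [pow_two]
            calc s₀ * c * (s₀ * c) = s₀ * (c * s₀ * c⁻¹) * (c * c) := by group
              _ = 1 := by rw [hrel, hcc]; group
          · have h9 : c = s₀⁻¹ := eq_inv_of_mul_eq_one_right e1
            have := hc2'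
            rw [h9, orderOf_inv, hk] at this
            exact Nat.not_even_iff_odd.2 (hodd.pow (n := e + 1)) (this ▸ even_two)
        obtain ⟨eD⟩ := CfsgLib.Inv.dihedral_equiv hc2' hsc
        have hcs : orderOf (c * (s₀ * c)) = p ^ (e + 1) := by
          rw [← mul_assoc, show c * s₀ * c = s₀⁻¹ by rw [← hrel, show c⁻¹ = c from inv_eq_of_mul_eq_one_right hcc],
            orderOf_inv, hk]
        have htop : Subgroup.closure ({c, s₀ * c} : Set H) = ⊤ := eq_top_iff.2 fun x _ => by
          obtain ⟨s, hs, i, rfl⟩ := hgenH x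
          have hcm : c ∈ Subgroup.closure ({c, s₀ * c} : Set H) := Subgroup.subset_closure (by simp)
          have hsm : s₀ ∈ Subgroup.closure ({c, s₀ * c} : Set H) := by
            have := Subgroup.mul_mem _ (Subgroup.subset_closure (show s₀ * c ∈ ({c, s₀ * c} : Set H) by simp)) (Subgroup.inv_mem _ hcm)
            rwa [mul_inv_cancel_right] at this
          obtain ⟨j, rfl⟩ := Subgroup.mem_zpowers_iff.1 (hsmem s hs)
          exact Subgroup.mul_mem _ (Subgroup.zpow_mem _ hsm j) (Subgroup.zpow_mem _ hcm i)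
        rw [hcs] at eD
        exact Or.inr ⟨e + 1, ⟨(Subgroup.topEquiv.symm.trans (MulEquiv.subgroupCongr htop.symm)).trans eD⟩⟩

end Cfsg.Agent.S4082
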