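import Mathlib
-- Template for statement S4083 (row 4083; see /opt/grader/pristine/manifest.json for weights).
-- Copy to Cfsg/Agent/S4083.lean and replace the sorry. The statement below is byte-identical to the frozen
-- statement Cfsg.CfsgFrozen.S4083 (Cfsg/Statements/S4083.lean; the theorem Cfsg.fg5_groups_whose_two_by_cyclic_subgroups_are_cyclic_dihedral_or_alt_four);
-- the grader kernel-checks Cfsg.Agent.S4083.result against that frozen type. Keep the theorem IN THIS FILE
-- (a `result` declared elsewhere and merely imported here is not credited); helpers may live anywhere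
-- under Cfsg/Agent/.
import Cfsg.Statements.S4083
import Cfsg.Agent.Inv.DihedralSylow
import Cfsg.Agent.Fus.SmallTwo
-- import your own Cfsg.Agent.* helpers here

set_option autoImplicit false
open Cfsg
set_option linter.style.haveILetI false

namespace Cfsg.Agent.S4083

open CfsgLib.Inv
open scoped Pointwise

variable {G : Type*} [Group G] [Finite G]

/-- Subgroups of a dihedral two-group are cyclic or dihedral. -/
theorem dihedral_cases {S : Type*} [Group S] [Finite S] {d : ℕ} (D : DData S d) (Q : Subgroup S) :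
    IsCyclic Q ∨ ∃ m : ℕ, 1 ≤ m ∧ Nonempty (Q ≃* DihedralGroup (2 ^ m)) := by
  rcases D.sub_cases Q with h | ⟨i, k, hk, rfl⟩
  · exact Or.inl (isCyclic_of_injective (Subgroup.inclusion h) (Subgroup.inclusion_injective h))
  · rcases Nat.lt_or_ge k (d + 1) with hk' | hk'
    · right
      refine ⟨d + 1 - k, by omega, ?_⟩
      set a := D.x ^ i * D.y
      set b := D.x ^ (i + (2 : ℤ) ^ k) * D.y
      have hab : orderOf (a * b) = 2 ^ (d + 1 - k) := by
        rw [D.out_mul_out, show i - (i + (2 : ℤ) ^ k) = -((2 ^ k : ℕ) : ℤ) by push_cast; ring, zpow_neg, orderOf_inv,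
          zpow_natCast, ← Nat.card_zpowers, D.card_zpowers_pow hk]
      obtain ⟨e⟩ := dihedral_equiv (D.out_order i) (D.out_order (i + (2 : ℤ) ^ k))
      have hcl : Subgroup.closure ({a, b} : Set S) = D.sub i k := by
        refine Subgroup.eq_of_le_of_card_ge ?_ ?_
        · rw [Subgroup.closure_le]
          rintro g (rfl | rfl)
          · exact (D.out_mem_sub' hk).2 (by simp)
          · exact (D.out_mem_sub' hk).2 (by simp)
        · rw [D.card_sub hk, Nat.card_congr e.toEquiv, DihedralGroup.nat_card, hab, ← pow_succ',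
            show d + 1 - k + 1 = d + 2 - k by omega]
      rw [← hcl, ← hab]; exact ⟨e⟩
    · left
      have hkk : k = d + 1 := le_antisymm hk hk'
      haveI : Fact (Nat.Prime 2) := ⟨Nat.prime_two⟩
      exact isCyclic_of_prime_card (p := 2) (by rw [D.card_sub hk, hkk, show d + 2 - (d + 1) = 1 by omega, pow_one])

theorem ddata_of_iso {S : Type*} [Group S] [Finite S] {n : ℕ} (hn : 1 ≤ n) (e : S ≃* DihedralGroup (2 ^ n)) :
    ∃ d, n = d + 1 ∧ Nonempty (DData S d) := by
  obtain ⟨d, hd, hD⟩ := DData.of_equiv (Nat.one_lt_two_pow (by omega)) (IsPGroup.of_card (p := 2) (n := n + 1) (by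
    rw [Nat.card_congr e.toEquiv, DihedralGroup.nat_card, pow_succ'])) e
  exact ⟨d, Nat.pow_right_injective le_rfl hd, hD⟩

theorem not_cyclic_of_four {H : Type*} [Group H] (K : Subgroup H) (hK : Nat.card K = 4) (h2 : ∀ k ∈ K, k ^ 2 = 1) :
    ¬ IsCyclic H := by
  intro h
  obtain ⟨g, hg⟩ := (isCyclic_of_injective K.subtype K.subtype_injective : IsCyclic K).exists_generator
  have h1 := orderOf_eq_card_of_forall_mem_zpowers hg
  have h3 : g ^ 2 = 1 := Subtype.ext (h2 g g.2)
  have h4 := Nat.le_of_dvd two_pos (orderOf_dvd_of_pow_eq_one h3)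
  omega

theorem two_pow_of_dihedral {H : Type*} [Group H] {n : ℕ} (e : H ≃* DihedralGroup (2 ^ n)) (x : H) :
    ∃ k, orderOf x = 2 ^ k := by
  obtain ⟨k, -, hk⟩ := (Nat.dvd_prime_pow Nat.prime_two (m := n + 1)).1
    (show orderOf x ∣ 2 ^ (n + 1) by
      rw [pow_succ', ← DihedralGroup.nat_card (n := 2 ^ n), ← Nat.card_congr e.toEquiv]; exact orderOf_dvd_natCard x)
  exact ⟨k, hk⟩

theorem a4_facts : (∃ a b : alternatingGroup (Fin 4), a * b ≠ b * a) ∧
    ∃ a : alternatingGroup (Fin 4), a ≠ 1 ∧ a ^ 3 = 1 := by decide +kernel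


set_option maxHeartbeats 1000000 in
/-- Let G be a finite group with Sylow 2-subgroup P. Every subgroup H of G whose Sylow 2-subgroup is normal in H with cyclic quotient is cyclic, dihedral of 2-power order, or isomorphic to the alternating group of degree 4, if and only if either P is cyclic, or P is dihedral (of order at least 4) and every elementary abelian subgroup K of order 4 of P satisfies C_G(K) = K. -/
theorem result {G : Type*} [Group G] [Finite G] (P : Sylow 2 G) :
    (∀ H : Subgroup G, (∀ S : Sylow 2 ↥H, (S : Subgroup ↥H).Normal) →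
        (∀ (S : Sylow 2 ↥H) [(S : Subgroup ↥H).Normal], IsCyclic (↥H ⧸ (S : Subgroup ↥H))) →
        IsCyclic H ∨ (∃ n : ℕ, Nonempty (H ≃* DihedralGroup (2 ^ n))) ∨ Nonempty (H ≃* alternatingGroup (Fin 4))) ↔
    (IsCyclic P ∨
      ((∃ n : ℕ, 1 ≤ n ∧ Nonempty ((P : Subgroup G) ≃* DihedralGroup (2 ^ n))) ∧
        ∀ K : Subgroup G, K ≤ P → Nat.card K = 4 → (∀ k ∈ K, k ^ 2 = 1) → Subgroup.centralizer (K : Set G) = K)) := by
  classical
  haveI : Fact (Nat.Prime 2) := ⟨Nat.prime_two⟩
  constructor
  · intro h
    have hP2 : ∀ H : Subgroup G, IsPGroup 2 H → IsCyclic H ∨ ∃ n : ℕ, 1 ≤ n ∧ Nonempty (H ≃* DihedralGroup (2 ^ n)) := by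
      intro H hH
      have htop : ∀ S : Sylow 2 ↥H, (S : Subgroup H) = ⊤ := fun S =>
        (S.3 (IsPGroup.of_equiv hH Subgroup.topEquiv.symm) le_top).symm
      rcases h H (fun S => by rw [htop S]; infer_instance) (fun S hS => by
        haveI : Subsingleton (↥H ⧸ (S : Subgroup H)) := by
          refine ⟨fun x y => ?_⟩
          obtain ⟨a, rfl⟩ := QuotientGroup.mk_surjective x
          obtain ⟨b, rfl⟩ := QuotientGroup.mk_surjective y
          exact QuotientGroup.eq.2 (by rw [htop S]; trivial)
        infer_instance) with h1 | ⟨n, ⟨e⟩⟩ | ⟨⟨e⟩⟩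
      · exact Or.inl h1
      · rcases n with _ | n
        · exact Or.inl (isCyclic_of_prime_card (p := 2) (by rw [Nat.card_congr e.toEquiv, DihedralGroup.nat_card]; norm_num))
        · exact Or.inr ⟨n + 1, by omega, ⟨e⟩⟩
      · exfalso
        obtain ⟨a, ha1, ha⟩ := a4_facts.2
        obtain ⟨k, hk⟩ := IsPGroup.iff_orderOf.1 hH (e.symm a)
        rw [MulEquiv.orderOf_eq, orderOf_eq_prime ha ha1] at hk
        rcases k with _ | k
        · norm_num at hk
        · rw [pow_succ] at hk; omega
    rcases hP2 P P.isPGroup' with hc | hd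
    · exact Or.inl hc
    refine Or.inr ⟨hd, fun K hKP hK4 hK2 => ?_⟩
    have hKab : ∀ a ∈ K, ∀ b ∈ K, a * b = b * a := by
      have : ∀ a ∈ K, a⁻¹ = a := fun a ha => inv_eq_of_mul_eq_one_right (by rw [← pow_two]; exact hK2 a ha)
      intro a ha b hb
      rw [← this _ (K.mul_mem ha hb), mul_inv_rev, this a ha, this b hb]
    have hle : K ≤ Subgroup.centralizer (K : Set G) := fun a ha =>
      Subgroup.mem_centralizer_iff.2 fun b hb => hKab b hb a ha
    refine le_antisymm (fun c hc => ?_) hle
    set L := K ⊔ Subgroup.zpowers c with hL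
    have hLab : IsMulCommutative L := by
      have : L = Subgroup.closure ((K : Set G) ∪ {c}) := by
        rw [Subgroup.closure_union, Subgroup.closure_eq, ← Subgroup.zpowers_eq_closure]
      rw [this]
      refine Subgroup.isMulCommutative_closure ?_
      rintro a (ha | rfl) b (hb | rfl)
      · exact hKab a ha b hb
      · exact Subgroup.mem_centralizer_iff.1 hc a ha
      · exact (Subgroup.mem_centralizer_iff.1 hc b hb).symm
      · rfl
    letI : CommGroup L := { (inferInstance : Group L) with mul_comm := fun a b => hLab.is_comm.comm a b }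
    set K' := K.subgroupOf L
    have hK'4 : Nat.card K' = 4 := (Nat.card_congr (Subgroup.subgroupOfEquivOfLe le_sup_left).toEquiv).trans hK4
    have hnc : ¬ IsCyclic L := not_cyclic_of_four K' hK'4 fun k hk => Subtype.ext (hK2 k hk)
    rcases h L (fun S => inferInstance) (fun S hS => by
      -- the quotient by a Sylow subgroup containing `K` is generated by `c`
      refine ⟨⟨((⟨c, Subgroup.mem_sup_right (Subgroup.mem_zpowers c)⟩ : L) : L ⧸ (S : Subgroup L)), fun x => ?_⟩⟩
      obtain ⟨⟨x, hx⟩, rfl⟩ := QuotientGroup.mk_surjective x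
      obtain ⟨a, ha, b, hb, hab⟩ : ∃ a ∈ K, ∃ b ∈ Subgroup.zpowers c, a * b = x := by
        have hx' : x ∈ (K : Set G) * (Subgroup.zpowers c : Set G) := by
          rw [← Subgroup.coe_mul_of_left_le_normalizer_right K (Subgroup.zpowers c) (fun a ha => by
            rw [Subgroup.mem_normalizer_iff]
            intro y
            have hcomm : ∀ y ∈ Subgroup.zpowers c, a * y = y * a := fun y hy => by
              obtain ⟨i, rfl⟩ := Subgroup.mem_zpowers_iff.1 hy
              exact (Commute.zpow_right (Subgroup.mem_centralizer_iff.1 hc a ha) i).eq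
            constructor
            · intro hy; rw [hcomm y hy, mul_inv_cancel_right]; exact hy
            · intro hy
              have h5 := hcomm _ hy
              have : a * y * a⁻¹ = y := by
                have h6 : a * (a * y * a⁻¹) = a * y := by rw [h5]; group
                exact mul_left_cancel h6
              rwa [this] at hy)]
          exact hx
        exact hx'
      obtain ⟨i, rfl⟩ := Subgroup.mem_zpowers_iff.1 hb
      refine Subgroup.mem_zpowers_iff.2 ⟨i, ?_⟩
      rw [← QuotientGroup.mk_zpow]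
      refine QuotientGroup.eq.2 ?_
      have hK'S : K' ≤ (S : Subgroup L) := by
        have hp : IsPGroup 2 K' := IsPGroup.of_card (n := 2) (by rw [hK'4]; norm_num)
        obtain ⟨S', hS'⟩ := hp.exists_le_sylow
        haveI := Sylow.unique_of_normal S hS
        rwa [Subsingleton.elim S' S] at hS'
      refine hK'S ?_
      show ((c ^ i)⁻¹ * x : G) ∈ K
      rw [← hab, show (c ^ i)⁻¹ * (a * c ^ i) = a from by
        rw [(Commute.zpow_right (Subgroup.mem_centralizer_iff.1 hc a ha) i).eq, inv_mul_cancel_left]]
      exact ha) with h1 | ⟨n, ⟨e⟩⟩ | ⟨⟨e⟩⟩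
    · exact absurd h1 hnc
    · have hsmall : n ≤ 1 := by
        by_contra hn
        push Not at hn
        have hcomm : ∀ a b : DihedralGroup (2 ^ n), a * b = b * a := fun a b => by
          apply e.symm.injective; rw [map_mul, map_mul, mul_comm]
        have := hcomm (.r 1) (.sr 0)
        simp only [DihedralGroup.r_mul_sr, DihedralGroup.sr_mul_r, DihedralGroup.sr.injEq] at this
        have h2 : ((2 : ℕ) : ZMod (2 ^ n)) = 0 := by push_cast; linear_combination -this
        rw [ZMod.natCast_eq_zero_iff] at h2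
        have := Nat.le_of_dvd two_pos h2
        have : 2 ^ 2 ≤ 2 ^ n := Nat.pow_le_pow_right two_pos hn
        omega
      have hLc : Nat.card L ≤ 4 := by
        rw [Nat.card_congr e.toEquiv, DihedralGroup.nat_card]
        have : 2 ^ n ≤ 2 ^ 1 := Nat.pow_le_pow_right two_pos hsmall
        omega
      have : K = L := Subgroup.eq_of_le_of_card_ge le_sup_left (by rw [hK4]; exact hLc)
      rw [this]; exact Subgroup.mem_sup_right (Subgroup.mem_zpowers c)
    · exfalso
      obtain ⟨a, b, hab⟩ := a4_facts.1
      exact hab (e.symm.injective (by rw [map_mul, map_mul, mul_comm]))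
  · intro hcond H hSn hScyc
    obtain ⟨S⟩ : Nonempty (Sylow 2 H) := inferInstance
    haveI := hSn S
    set S' := (S : Subgroup H).map H.subtype with hS'
    obtain ⟨P₁, hP₁⟩ := (S.isPGroup'.map H.subtype).exists_le_sylow
    obtain ⟨g, hg⟩ := MulAction.exists_smul_eq G P₁ P
    -- transport into `P`
    let ψ : (S : Subgroup H) →* (P : Subgroup G) :=
      { toFun := fun s => ⟨g * ((s : H) : G) * g⁻¹, by
          rw [← hg]
          exact Subgroup.smul_mem_pointwise_smul _ (MulAut.conj g) _ (hP₁ ⟨s, s.2, rfl⟩)⟩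
        map_one' := by ext; simp
        map_mul' := fun a b => by ext; simp [mul_assoc] }
    have hψ : Function.Injective ψ := fun a b e => by
      have := congrArg Subtype.val e
      exact Subtype.ext (Subtype.ext (mul_left_cancel (mul_right_cancel this)))
    -- an odd generator of the quotient
    haveI := hScyc S
    obtain ⟨w, hw⟩ := IsCyclic.exists_generator (α := H ⧸ (S : Subgroup H))
    obtain ⟨w', rfl⟩ := QuotientGroup.mk_surjective w
    obtain ⟨e, m, hm, hwm⟩ := Nat.exists_eq_two_pow_mul_odd (orderOf_pos w').ne'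
    set c := w' ^ 2 ^ e with hcdef
    have hco : Odd (orderOf c) := by
      rw [hcdef, orderOf_pow' _ (by positivity), hwm, Nat.gcd_eq_right (dvd_mul_right _ _), Nat.mul_div_cancel_left _ (by positivity)]
      exact hm
    have hodd : ¬ 2 ∣ (S : Subgroup H).index := S.not_dvd_index
    have hgenH : ∀ x : H, ∃ s ∈ (S : Subgroup H), ∃ i : ℤ, x = s * c ^ i := by
      intro x
      have hcop : Nat.Coprime (2 ^ e) (orderOf (w' : H ⧸ (S : Subgroup H))) :=
        Nat.Coprime.pow_left e (Nat.prime_two.coprime_iff_not_dvd.2 fun hd =>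
          hodd (hd.trans (orderOf_dvd_natCard _)))
      obtain ⟨k, hk⟩ := exists_pow_eq_self_of_coprime hcop
      obtain ⟨i, hi⟩ := Subgroup.mem_zpowers_iff.1 (hw x)
      rw [← hk, ← zpow_natCast _ k, ← zpow_mul] at hi
      refine ⟨x * (c ^ ((k : ℤ) * i))⁻¹, ?_, (k : ℤ) * i, by group⟩
      rw [← QuotientGroup.eq_one_iff, QuotientGroup.mk_mul, QuotientGroup.mk_inv, QuotientGroup.mk_zpow, hcdef,
        QuotientGroup.mk_pow, hi, mul_inv_cancel]
    have hS_of_c : c = 1 → (S : Subgroup H) = ⊤ := fun hc1 => eq_top_iff.2 fun x _ => by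
      obtain ⟨s, hs, i, rfl⟩ := hgenH x
      simpa [hc1] using hs
    have hSp := S.isPGroup'
    -- the cyclic case
    have hcyc : IsCyclic (S : Subgroup H) → IsCyclic H := by
      intro hSc
      obtain ⟨⟨s₀, hs₀⟩, hgen⟩ := hSc.exists_generator
      obtain ⟨k, hk⟩ := IsPGroup.iff_orderOf.1 hSp ⟨s₀, hs₀⟩
      rw [Subgroup.orderOf_mk] at hk
      have hmem : c * s₀ * c⁻¹ ∈ Subgroup.zpowers s₀ := by
        obtain ⟨i, hi⟩ := Subgroup.mem_zpowers_iff.1 (hgen ⟨_, (hSn S).conj_mem s₀ hs₀ c⟩)
        exact ⟨i, congrArg Subtype.val hi⟩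
      have hcomm := CfsgLib.Inv.commute_of_cyclic_two hco k s₀ hk hmem
      refine ⟨⟨s₀ * c, fun x => ?_⟩⟩
      obtain ⟨s, hs, i, rfl⟩ := hgenH x
      have hcp : (orderOf s₀).Coprime (orderOf c) := by
        rw [hk]; exact Nat.Coprime.pow_left k (Nat.coprime_two_left.2 hco)
      have hmul : ∀ {a b : H}, Commute a b → (orderOf a).Coprime (orderOf b) → a ∈ Subgroup.zpowers (a * b) := by
        intro a b hab hc
        obtain ⟨m', hm'⟩ := exists_pow_eq_self_of_coprime hc.symm
        have : (a * b) ^ orderOf b = a ^ orderOf b := by rw [hab.mul_pow, pow_orderOf_eq_one, mul_one]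
        rw [← this, ← pow_mul] at hm'
        have h' := Subgroup.npow_mem_zpowers (a * b) (orderOf b * m')
        rwa [hm'] at h'
      show s * c ^ i ∈ Subgroup.zpowers (s₀ * c)
      refine Subgroup.mul_mem _ ?_ (Subgroup.zpow_mem _ ?_ i)
      · obtain ⟨j, hj⟩ := Subgroup.mem_zpowers_iff.1 (hgen ⟨s, hs⟩)
        rw [show s = s₀ ^ j from (congrArg Subtype.val hj).symm]
        exact Subgroup.zpow_mem _ (hmul hcomm.symm hcp) j
      · rw [hcomm.symm.eq]; exact hmul hcomm hcp.symm
    rcases hcond with hPc | ⟨⟨n, hn, ⟨eP⟩⟩, hK⟩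
    · exact Or.inl (hcyc (isCyclic_of_injective ψ hψ))
    obtain ⟨d, -, ⟨D⟩⟩ := ddata_of_iso hn eP
    rcases dihedral_cases D ψ.range with h1 | ⟨m', hm', ⟨e1⟩⟩
    · exact Or.inl (hcyc (isCyclic_of_injective ψ.rangeRestrict (fun a b e => hψ (congrArg Subtype.val e))))
    let eS : (S : Subgroup H) ≃* DihedralGroup (2 ^ m') := (MonoidHom.ofInjective hψ).trans e1
    obtain ⟨d', rfl, ⟨D'⟩⟩ := ddata_of_iso hm' eS
    -- the self-centralising four-group
    set K₀ := D'.sub 0 d' with hK₀
    have hK₀4 : Nat.card K₀ = 4 := by rw [D'.card_sub (Nat.le_succ d'), show d' + 2 - d' = 2 by omega]; norm_num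
    have hK₀2 : ∀ k ∈ K₀, k ^ 2 = 1 := by
      have := D'.four_isKlein 0
      intro k hk
      have h2 := IsKleinFour.mul_self (⟨k, hk⟩ : K₀)
      rw [pow_two]; exact congrArg Subtype.val h2
    have hsel : ∀ x : H, (∀ k ∈ K₀, Commute x (k : H)) → x ∈ (S : Subgroup H) := by
      intro x hx
      set K := (K₀.map ψ).map (P : Subgroup G).subtype
      have hK4 : Nat.card K = 4 := by
        rw [Subgroup.card_map_of_injective (Subgroup.subtype_injective _), Subgroup.card_map_of_injective hψ, hK₀4]
      have hCK := hK K (Subgroup.map_subtype_le _) hK4 (by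
        rintro _ ⟨_, ⟨k, hk, rfl⟩, rfl⟩
        rw [← map_pow, ← map_pow, hK₀2 k hk, map_one, map_one])
      have hxK : g * (x : G) * g⁻¹ ∈ K := by
        rw [← hCK]
        refine Subgroup.mem_centralizer_iff.2 ?_
        rintro _ ⟨_, ⟨k, hk, rfl⟩, rfl⟩
        have this : (x : G) * ((k : H) : G) = ((k : H) : G) * x := congrArg Subtype.val (hx k hk).eq
        show g * ((k : H) : G) * g⁻¹ * (g * x * g⁻¹) = g * x * g⁻¹ * (g * ((k : H) : G) * g⁻¹)
        calc g * ((k : H) : G) * g⁻¹ * (g * x * g⁻¹) = g * (((k : H) : G) * x) * g⁻¹ := by group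
          _ = _ := by rw [← this]; group
      obtain ⟨_, ⟨k, -, rfl⟩, hk⟩ := hxK
      have : ((k : H) : G) = (x : G) := mul_left_cancel (mul_right_cancel hk)
      rw [← Subtype.ext this]; exact k.2
    have hcS : c ∈ (S : Subgroup H) → c = 1 := fun hc => by
      obtain ⟨k, hk⟩ := IsPGroup.iff_orderOf.1 hSp ⟨c, hc⟩
      rw [Subgroup.orderOf_mk] at hk
      rcases k with _ | k
      · exact orderOf_eq_one_iff.1 (by simpa using hk)
      · rw [hk] at hco
        exact absurd (Nat.even_pow.2 ⟨even_two, k.succ_ne_zero⟩) (Nat.not_even_iff_odd.2 hco)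
    by_cases hc1 : c = 1
    · refine Or.inr (Or.inl ⟨d' + 1, ⟨?_⟩⟩)
      exact (Subgroup.topEquiv.symm.trans (MulEquiv.subgroupCongr (hS_of_c hc1).symm)).trans eS
    rcases Nat.eq_zero_or_pos d' with rfl | hd'
    · -- a four-group
      right; right
      have hS4 : Nat.card (S : Subgroup H) = 4 := D'.card_eq
      have hK₀top : K₀ = ⊤ := Subgroup.eq_top_of_card_eq _ (by rw [hK₀4, hS4])
      have hsel' : ∀ x : H, (∀ k : (S : Subgroup H), Commute x (k : H)) → x ∈ (S : Subgroup H) := fun x hx =>
        hsel x fun k _ => hx k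
      -- the action on three involutions
      let X := {k : (S : Subgroup H) // k ≠ 1}
      haveI : Fintype X := Fintype.ofFinite X
      have hX : Fintype.card X = 3 := by
        rw [← Nat.card_eq_fintype_card]
        haveI := Fintype.ofFinite (S : Subgroup H)
        rw [Nat.card_eq_fintype_card, Fintype.card_subtype_compl, Fintype.card_subtype_eq, ← Nat.card_eq_fintype_card, hS4]
      let τ : H →* Equiv.Perm X :=
        { toFun := fun x =>
            { toFun := fun k => ⟨MulAut.conjNormal x k.1, fun e => k.2 ((MulAut.conjNormal x).map_eq_one_iff.1 e)⟩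
              invFun := fun k => ⟨(MulAut.conjNormal x).symm k.1, fun e => k.2 ((MulAut.conjNormal x).symm.map_eq_one_iff.1 e)⟩
              left_inv := fun k => Subtype.ext (by simp)
              right_inv := fun k => Subtype.ext (by simp) }
          map_one' := by ext k; simp
          map_mul' := fun x y => by ext k; simp [mul_assoc] }
      have hker : ∀ x : H, τ x = 1 → x ∈ (S : Subgroup H) := fun x hx => hsel' x fun k => by
        by_cases hk : k = 1
        · subst hk; simp
        · have := congrArg (fun f : Equiv.Perm X => ((f ⟨k, hk⟩).1 : H)) hx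
          exact mul_inv_eq_iff_eq_mul.1 (show x * (k : H) * x⁻¹ = (k : H) by simpa [τ] using this)
      have hc3 : orderOf c = 3 := by
        have h6 : τ c ^ 6 = 1 := by
          have := pow_card_eq_one' (x := τ c)
          rwa [Nat.card_perm, Nat.card_eq_fintype_card, hX] at this
        rw [← map_pow] at h6
        have h7 := hker _ h6
        have h8 : c ^ 6 = 1 := by
          obtain ⟨k, hk⟩ := IsPGroup.iff_orderOf.1 hSp ⟨_, h7⟩
          rw [Subgroup.orderOf_mk] at hk
          refine orderOf_eq_one_iff.1 ?_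
          have h9 : orderOf (c ^ 6) ∣ orderOf c := orderOf_pow_dvd 6
          rw [hk] at h9 ⊢
          rcases k with _ | k
          · rfl
          · exact absurd (Odd.of_dvd_nat hco ((dvd_pow_self 2 k.succ_ne_zero).trans h9)) (by decide)
        have h9 := orderOf_dvd_of_pow_eq_one h8
        have h10 : orderOf c ≠ 1 := fun e => hc1 (orderOf_eq_one_iff.1 e)
        have h11 := Nat.le_of_dvd (by norm_num) h9
        obtain ⟨t, ht⟩ := hco
        interval_cases hh : orderOf c <;> omega
      set Cc := Subgroup.zpowers c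
      have hCc : Nat.card Cc = 3 := by rw [Nat.card_zpowers, hc3]
      have hcompl : Subgroup.IsComplement' (S : Subgroup H) Cc := by
        refine Subgroup.isComplement'_of_disjoint_and_mul_eq_univ ?_ (Set.eq_univ_of_forall fun x => ?_)
        · rw [disjoint_iff]
          exact Subgroup.inf_eq_bot_of_coprime (by rw [hS4, hCc]; norm_num)
        · obtain ⟨s, hs, i, rfl⟩ := hgenH x
          exact ⟨s, hs, c ^ i, Subgroup.zpow_mem_zpowers c i, rfl⟩
      have hH : Nat.card H = 12 := by rw [← hcompl.card_mul, hS4, hCc]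
      have hidx : Cc.index = 4 := by
        have := Cc.card_mul_index; rw [hCc, hH] at this; omega
      haveI : Fintype (H ⧸ Cc) := Fintype.ofFinite _
      have hq : Fintype.card (H ⧸ Cc) = 4 := by rw [← Nat.card_eq_fintype_card]; exact hidx
      let f : H →* Equiv.Perm (Fin 4) :=
        (Fintype.equivFinOfCardEq hq).permCongrHom.toMonoidHom.comp (MulAction.toPermHom H (H ⧸ Cc))
      have hf : Function.Injective f := by
        suffices hinner : Function.Injective (MulAction.toPermHom H (H ⧸ Cc)) from
          fun a b e => hinner ((Fintype.equivFinOfCardEq hq).permCongrHom.injective e)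
        rw [← MonoidHom.ker_eq_bot_iff, ← Subgroup.normalCore_eq_ker, Subgroup.eq_bot_iff_forall]
        intro x hx
        refine Subgroup.mem_bot.1 ((disjoint_iff.1 hcompl.disjoint) ▸ Subgroup.mem_inf.2 ⟨?_, Cc.normalCore_le hx⟩)
        refine hsel' x fun k => ?_
        haveI := Cc.normalCore_normal
        exact Subgroup.commute_of_normal_of_disjoint _ (S : Subgroup H) inferInstance inferInstance
          (disjoint_iff.2 (eq_bot_iff.2 fun y hy => (disjoint_iff.1 hcompl.disjoint) ▸
            Subgroup.mem_inf.2 ⟨hy.2, Cc.normalCore_le hy.1⟩)) x k hx k.2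
      have hA : f.range = alternatingGroup (Fin 4) := by
        refine Equiv.Perm.eq_alternatingGroup_of_index_eq_two ?_
        have h1 := f.range.card_mul_index
        rw [Nat.card_congr (MonoidHom.ofInjective hf).symm.toEquiv, hH, Nat.card_perm, Nat.card_fin] at h1
        norm_num [Nat.factorial] at h1
        omega
      exact ⟨(MonoidHom.ofInjective hf).trans (MulEquiv.subgroupCongr hA)⟩
    · exfalso
      -- the central involution is fixed, so the odd element centralises
      set z := D'.z
      have hzc : ∀ x : H, Commute x (z : H) := by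
        intro x
        have hz2 : orderOf z = 2 := orderOf_eq_prime (by rw [pow_two]; exact D'.z_mul_self) D'.z_ne_one
        set z' := MulAut.conjNormal x z
        have hz' : orderOf z' = 2 := ((MulAut.conjNormal x).orderOf_eq z).trans hz2
        rcases D'.invol_cases hz' with e | ⟨i, e⟩
        · have := congrArg Subtype.val e
          rw [MulAut.conjNormal_apply] at this
          exact mul_inv_eq_iff_eq_mul.1 this
        · exfalso
          have hcen : ∀ y : (S : Subgroup H), Commute y z' := fun y => by
            have h5 := ((D'.z_commute ((MulAut.conjNormal x).symm y)).map (MulAut.conjNormal x).toMonoidHom)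
            simpa [z'] using h5
          have hall : D'.sub i d' = ⊤ := eq_top_iff.2 fun y _ => D'.centralizer_out (e ▸ hcen y)
          have h5 := congrArg (fun T : Subgroup (S : Subgroup H) => Nat.card T) hall
          simp only [D'.card_sub (Nat.le_succ d'), Subgroup.card_top, D'.card_eq] at h5
          have := Nat.pow_right_injective le_rfl h5
          omega
      set U := S'
      have hinj : Function.Injective (eS.toMonoidHom.comp
          ((S : Subgroup H).equivMapOfInjective H.subtype H.subtype_injective).symm.toMonoidHom) :=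
        eS.injective.comp (MulEquiv.injective _)
      have hz2 : orderOf z = 2 := orderOf_eq_prime (by rw [pow_two]; exact D'.z_mul_self) D'.z_ne_one
      have hcen := CfsgLib.Fus.SmallTwo.centralizes (U := S') (S.isPGroup'.map H.subtype) _ hinj
        (t := ((z : H) : G)) (g := (c : G)) ⟨z, z.2, rfl⟩ (by rw [Subgroup.orderOf_coe, Subgroup.orderOf_coe]; exact hz2)
        (by
          rw [Subgroup.mem_normalizer_iff]
          intro y
          constructor
          · rintro ⟨y, hy, rfl⟩; exact ⟨c * y * c⁻¹, (hSn S).conj_mem y hy c, rfl⟩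
          · rintro ⟨y', hy', e⟩
            refine ⟨c⁻¹ * y' * c, by have h5 := (hSn S).conj_mem y' hy' c⁻¹; rwa [inv_inv] at h5, ?_⟩
            show (c : G)⁻¹ * (y' : G) * c = y
            rw [show (y' : G) = c * y * (c : G)⁻¹ from e]; group)
        ((hzc c).map H.subtype) (by rw [Subgroup.orderOf_coe]; exact hco)
      exact hc1 (hcS (hsel c fun k _ => Subtype.ext (hcen _ ⟨k, k.2, rfl⟩).eq))

end Cfsg.Agent.S4083
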