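import Cfsg.Statements.S4084
import Mathlib.GroupTheory.Perm.Cycle.Type


set_option autoImplicit false
set_option linter.style.haveILetI false
open Cfsg

namespace Cfsg.Agent.S4084

theorem key {A B : Type*} [Group A] [Finite A] [Group B] [Finite B] {p q : ℕ} (hp : p.Prime)
    (hq : q.Prime) (hpq : p ≠ q) (f : A ≃ B) (hf : ∀ x y : A, Commute x y ↔ Commute (f x) (f y)) :
    (∃ g : A, orderOf g = p * q) → ∃ h : B, orderOf h = p * q := by
  intro ⟨g, hg⟩
  let ZA : Subgroup A := Subgroup.centralizer ({g} : Set A) ⊓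
    Subgroup.centralizer ((Subgroup.centralizer ({g} : Set A) : Subgroup A) : Set A)
  let ZB : Subgroup B := Subgroup.centralizer ({f g} : Set B) ⊓
    Subgroup.centralizer ((Subgroup.centralizer ({f g} : Set B) : Subgroup B) : Set B)
  have hmem : ∀ x : A, x ∈ ZA ↔ f x ∈ ZB := by
    intro x
    simp only [ZA, ZB, Subgroup.mem_inf, Subgroup.mem_centralizer_singleton_iff]
    rw [Subgroup.mem_centralizer_iff, Subgroup.mem_centralizer_iff]
    simp only [SetLike.mem_coe, Subgroup.mem_centralizer_singleton_iff]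
    refine and_congr (hf x g) ⟨fun h y hy => ?_, fun h y hy => ?_⟩
    · obtain ⟨y, rfl⟩ := f.surjective y
      exact (hf y x).1 (h y ((hf y g).2 hy))
    · exact (hf y x).2 (h (f y) ((hf y g).1 hy))
  have hcard : Nat.card ZA = Nat.card ZB := Nat.card_congr (f.subtypeEquiv hmem)
  have hgZ : g ∈ ZA := Subgroup.mem_inf.2 ⟨Subgroup.mem_centralizer_singleton_iff.2 rfl,
    Subgroup.mem_centralizer_iff.2 fun y hy => Subgroup.mem_centralizer_singleton_iff.1 hy⟩
  have hd : p * q ∣ Nat.card ZB := hcard ▸ hg ▸ Subgroup.orderOf_dvd_natCard _ hgZ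
  haveI := Fact.mk hp
  haveI := Fact.mk hq
  obtain ⟨a, ha⟩ := exists_prime_orderOf_dvd_card' (G := ZB) p ((dvd_mul_right p q).trans hd)
  obtain ⟨b, hb⟩ := exists_prime_orderOf_dvd_card' (G := ZB) q ((dvd_mul_left q p).trans hd)
  have hc : Commute (a : B) b :=
    (Subgroup.mem_centralizer_iff.1 (Subgroup.mem_inf.1 b.2).2 (a : B) (Subgroup.mem_inf.1 a.2).1)
  refine ⟨(a : B) * b, ?_⟩
  rw [hc.orderOf_mul_eq_mul_orderOf_of_coprime, Subgroup.orderOf_coe, Subgroup.orderOf_coe, ha, hb]
  rw [Subgroup.orderOf_coe, Subgroup.orderOf_coe, ha, hb]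
  exact (Nat.coprime_primes hp hq).2 hpq

/-- Let G and H be finite groups whose commuting graphs are isomorphic: there is a bijection e : G → H with x, y commuting exactly when e(x), e(y) commute. Then G and H have the same prime graph: for distinct primes p, q, G has an element of order pq if and only if H does (and #G = #H, so the prime divisors agree). -/
theorem result {G H : Type*} [Group G] [Finite G] [Group H] [Finite H] (e : G ≃ H)
    (he : ∀ x y : G, Commute x y ↔ Commute (e x) (e y))
    {p q : ℕ} (hp : p.Prime) (hq : q.Prime) (hpq : p ≠ q) :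
    (∃ g : G, orderOf g = p * q) ↔ (∃ h : H, orderOf h = p * q) := by
  constructor
  · exact key hp hq hpq e he
  · exact key hp hq hpq e.symm fun x y => by simpa using (he (e.symm x) (e.symm y)).symm

end Cfsg.Agent.S4084
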