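import Cfsg.Statements.S4086
import Mathlib.Data.Nat.Factorization.PrimePow


set_option autoImplicit false
set_option linter.style.haveILetI false
open Cfsg

namespace Cfsg.Agent.S4086

/-- For a finite group G the following are equivalent: every non-identity element has prime-power order; whenever two elements generate a cyclic subgroup, one of them is a power of the other (the enhanced power graph of G coincides with its power graph). -/
theorem result {G : Type*} [Group G] [Finite G] :
    (∀ g : G, g ≠ 1 → IsPrimePow (orderOf g)) ↔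
    (∀ x y : G, IsCyclic ↥(Subgroup.closure ({x, y} : Set G)) → (x ∈ Subgroup.zpowers y ∨ y ∈ Subgroup.zpowers x)) := by
  constructor
  · intro h x y hc
    haveI := hc
    have hx : x ∈ Subgroup.closure ({x, y} : Set G) := Subgroup.subset_closure (by simp)
    have hy : y ∈ Subgroup.closure ({x, y} : Set G) := Subgroup.subset_closure (by simp)
    obtain ⟨⟨g, hgc⟩, hg⟩ := IsCyclic.exists_generator (α := ↥(Subgroup.closure ({x, y} : Set G)))
    have hgen : ∀ z ∈ Subgroup.closure ({x, y} : Set G), z ∈ Subgroup.zpowers g := fun z hz => by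
      obtain ⟨i, hi⟩ := Subgroup.mem_zpowers_iff.1 (hg ⟨z, hz⟩)
      exact ⟨i, congrArg Subtype.val hi⟩
    by_cases hg1 : g = 1
    · left
      have := hgen x hx
      rw [hg1, Subgroup.zpowers_one_eq_bot, Subgroup.mem_bot] at this
      rw [this]; exact one_mem _
    obtain ⟨r, n, hr, hn, hord⟩ := h g hg1
    have hsub : ∀ z, z ∈ Subgroup.zpowers g → ∃ i ≤ n, Subgroup.zpowers z = Subgroup.zpowers (g ^ r ^ i) := by
      intro z hz
      obtain ⟨j, rfl⟩ := (isOfFinOrder_of_finite g).mem_powers_iff_mem_zpowers.2 hz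
      obtain ⟨i, hi, he⟩ := (Nat.dvd_prime_pow (Nat.prime_iff.2 hr)).1
        (hord.symm ▸ (Nat.gcd_dvd_left (orderOf g) j) : Nat.gcd (orderOf g) j ∣ r ^ n)
      refine ⟨i, hi, ?_⟩
      rw [← he]
      refine le_antisymm ?_ ?_
      · rw [Subgroup.zpowers_le]
        obtain ⟨c, hc⟩ := Nat.gcd_dvd_right (orderOf g) j
        exact ⟨c, by simp only [zpow_natCast]; rw [← pow_mul, ← hc]⟩
      · rw [Subgroup.zpowers_le]
        refine ⟨Nat.gcdB (orderOf g) j, ?_⟩
        simp only
        rw [← zpow_natCast g (Nat.gcd (orderOf g) j), Nat.gcd_eq_gcd_ab, zpow_add, zpow_mul,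
          zpow_natCast, pow_orderOf_eq_one, one_zpow, one_mul, ← zpow_natCast, ← zpow_mul]
    obtain ⟨i, -, hi⟩ := hsub x (hgen x hx)
    obtain ⟨j, -, hj⟩ := hsub y (hgen y hy)
    rcases le_total i j with hij | hij
    · right
      have h1 : Subgroup.zpowers y ≤ Subgroup.zpowers x := by
        rw [hi, hj, Subgroup.zpowers_le]
        exact ⟨(r ^ (j - i) : ℕ), by simp only [zpow_natCast]; rw [← pow_mul, ← pow_add, Nat.add_sub_cancel' hij]⟩
      exact h1 (Subgroup.mem_zpowers y)
    · left
      have h1 : Subgroup.zpowers x ≤ Subgroup.zpowers y := by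
        rw [hi, hj, Subgroup.zpowers_le]
        exact ⟨(r ^ (i - j) : ℕ), by simp only [zpow_natCast]; rw [← pow_mul, ← pow_add, Nat.add_sub_cancel' hij]⟩
      exact h1 (Subgroup.mem_zpowers x)
  · intro h g hg
    have hne : orderOf g ≠ 1 := fun e => hg (orderOf_eq_one_iff.1 e)
    rw [isPrimePow_iff_unique_prime_dvd]
    obtain ⟨p, hp, hpd⟩ := Nat.exists_prime_and_dvd hne
    refine ⟨p, ⟨hp, hpd⟩, fun q hq => ?_⟩
    obtain ⟨hq, hqd⟩ := hq
    set x := g ^ (orderOf g / p) with hx
    set y := g ^ (orderOf g / q) with hy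
    have hox : orderOf x = p := orderOf_pow_orderOf_div (orderOf_pos g).ne' hpd
    have hoy : orderOf y = q := orderOf_pow_orderOf_div (orderOf_pos g).ne' hqd
    have hc : IsCyclic ↥(Subgroup.closure ({x, y} : Set G)) :=
      Subgroup.isCyclic_of_le (H' := Subgroup.zpowers g) (by
        rw [Subgroup.closure_le]
        rintro z (rfl | rfl)
        · exact pow_mem (Subgroup.mem_zpowers g) _
        · exact pow_mem (Subgroup.mem_zpowers g) _)
    rcases h x y hc with h1 | h1
    · have := orderOf_dvd_of_mem_zpowers h1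
      rw [hox, hoy] at this
      exact ((Nat.prime_dvd_prime_iff_eq hp hq).1 this).symm
    · have := orderOf_dvd_of_mem_zpowers h1
      rw [hox, hoy] at this
      exact (Nat.prime_dvd_prime_iff_eq hq hp).1 this

end Cfsg.Agent.S4086
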