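import Cfsg.Statements.S4089

import Mathlib
import Cfsg.Agent.Solv.Basic
import Cfsg.Agent.Inv.CharP2

set_option autoImplicit false
set_option linter.style.haveILetI false
open Cfsg

namespace Cfsg.Agent.S4089

theorem subnormal_iff {G : Type*} [Group G] [Finite G] {p : ℕ} [Fact p.Prime] (H : Subgroup G) (hH : IsPGroup p H) (g : G) :
    (H.subgroupOf (H ⊔ Subgroup.zpowers g)).IsSubnormal ↔
      ∃ R : Subgroup G, H ≤ R ∧ IsPGroup p R ∧ g ∈ Subgroup.normalizer (R : Set G) := by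
  set K := H ⊔ Subgroup.zpowers g with hK
  constructor
  · intro h
    have hHK : IsPGroup p (H.subgroupOf K) := hH.of_equiv (Subgroup.subgroupOfEquivOfLe le_sup_left).symm
    have hle := CfsgLib.Inv.subnormal_pgroup_le_pCore h hHK
    haveI : (Cfsg.pCore p K).Normal := CfsgLib.Solv.pCore_normal _ p
    refine ⟨(Cfsg.pCore p K).map K.subtype, fun x hx => ⟨⟨x, Subgroup.mem_sup_left hx⟩, hle hx, rfl⟩,
      (CfsgLib.Solv.pCore_isPGroup (p := p) (G := K)).map _, ?_⟩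
    refine Subgroup.mem_normalizer_fintype ?_
    rintro _ ⟨y, hy, rfl⟩
    exact ⟨⟨g, Subgroup.mem_sup_right (Subgroup.mem_zpowers g)⟩ * y *
      ⟨g, Subgroup.mem_sup_right (Subgroup.mem_zpowers g)⟩⁻¹, (inferInstance : (Cfsg.pCore p K).Normal).conj_mem y hy _, rfl⟩
  · rintro ⟨R, hHR, hR, hg⟩
    have hKN : K ≤ Subgroup.normalizer (R : Set G) :=
      sup_le (hHR.trans Subgroup.le_normalizer) (Subgroup.zpowers_le.mpr hg)
    haveI : (R.subgroupOf K).Normal := Subgroup.normal_subgroupOf_of_le_normalizer hKN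
    have hRK : IsPGroup p (R.subgroupOf K) := hR.comap_subtype
    haveI := hRK.isNilpotent
    exact Subgroup.IsSubnormal.trans (K := R.subgroupOf K) (fun x hx => hHR hx)
      (CfsgLib.Inv.subnormal_of_nilpotent _) (Subgroup.Normal.isSubnormal inferInstance)

theorem exists_maximal_core {G : Type*} [Group G] [Finite G] {p : ℕ} [Fact p.Prime] {H R₀ : Subgroup G} (hHR : H ≤ R₀)
    (hR₀ : IsPGroup p R₀) {g : G} (hg : g ∈ Subgroup.normalizer (R₀ : Set G)) :
    ∃ R : Subgroup G, H ≤ R ∧ g ∈ Subgroup.normalizer (R : Set G) ∧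
      (Cfsg.pCore p (Subgroup.normalizer (R : Set G))).map (Subgroup.normalizer (R : Set G)).subtype = R := by
  obtain ⟨R, hR⟩ := (Set.toFinite {R : Subgroup G | H ≤ R ∧ IsPGroup p R ∧ g ∈ Subgroup.normalizer (R : Set G)}).exists_maximal
    ⟨R₀, hHR, hR₀, hg⟩
  obtain ⟨h1, h2, h3⟩ := hR.1
  set N := Subgroup.normalizer (R : Set G)
  haveI : (Cfsg.pCore p N).Normal := CfsgLib.Solv.pCore_normal _ p
  haveI : (R.subgroupOf N).Normal := Subgroup.normal_subgroupOf_of_le_normalizer le_rfl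
  have hle : R ≤ (Cfsg.pCore p N).map N.subtype := fun x hx =>
    ⟨⟨x, Subgroup.le_normalizer hx⟩, CfsgLib.Solv.le_pCore (N := R.subgroupOf N) h2.comap_subtype hx, rfl⟩
  refine ⟨R, h1, h3, le_antisymm (hR.2 ⟨h1.trans hle, (CfsgLib.Solv.pCore_isPGroup (p := p) (G := N)).map _, ?_⟩ hle) hle⟩
  refine Subgroup.mem_normalizer_fintype ?_
  rintro _ ⟨y, hy, rfl⟩
  exact ⟨⟨g, h3⟩ * y * ⟨g, h3⟩⁻¹, (inferInstance : (Cfsg.pCore p N).Normal).conj_mem y hy _, rfl⟩

/-- Let G be a finite group, p a prime and H a p-subgroup of G. Then the set of elements g of G such that H is subnormal in the subgroup generated by H and g is the union of the normalizers N_G(R) over the subgroups R of G containing H with R = O_p(N_G(R)); and this set does not change when H is replaced by the intersection of all Sylow p-subgroups of G containing H. -/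
theorem result {G : Type*} [Group G] [Finite G] (p : ℕ) [Fact p.Prime]
    (H : Subgroup G) (hH : IsPGroup p H) :
    {g : G | ((H).subgroupOf (H ⊔ Subgroup.zpowers g)).IsSubnormal} =
      {g : G | ∃ R : Subgroup G, H ≤ R ∧ (Cfsg.pCore p (Subgroup.normalizer (R : Set G))).map (Subgroup.normalizer (R : Set G)).subtype = R ∧ g ∈ Subgroup.normalizer (R : Set G)} ∧
    ∀ g : G, (((H).subgroupOf (H ⊔ Subgroup.zpowers g)).IsSubnormal ↔
      (((sInf {K : Subgroup G | ∃ Q : Sylow p G, H ≤ (Q : Subgroup G) ∧ K = (Q : Subgroup G)})).subgroupOf ((sInf {K : Subgroup G | ∃ Q : Sylow p G, H ≤ (Q : Subgroup G) ∧ K = (Q : Subgroup G)}) ⊔ Subgroup.zpowers g)).IsSubnormal) := by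
  classical
  refine ⟨Set.ext fun g => ?_, fun g => ?_⟩
  · rw [Set.mem_setOf_eq, Set.mem_setOf_eq, subnormal_iff (p := p) H hH g]
    constructor
    · rintro ⟨R, h1, h2, h3⟩
      obtain ⟨R', h1', h3', h4⟩ := exists_maximal_core h1 h2 h3
      exact ⟨R', h1', h4, h3'⟩
    · rintro ⟨R, h1, h4, h3⟩
      exact ⟨R, h1, h4 ▸ (CfsgLib.Solv.pCore_isPGroup (p := p) (G := Subgroup.normalizer (R : Set G))).map _, h3⟩
  set I := sInf {K : Subgroup G | ∃ Q : Sylow p G, H ≤ (Q : Subgroup G) ∧ K = (Q : Subgroup G)} with hI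
  obtain ⟨Q₀, hQ₀⟩ := hH.exists_le_sylow
  have hHI : H ≤ I := le_sInf (by rintro _ ⟨Q, hQ, rfl⟩; exact hQ)
  have hIQ : ∀ Q : Sylow p G, H ≤ (Q : Subgroup G) → I ≤ (Q : Subgroup G) := fun Q hQ => sInf_le ⟨Q, hQ, rfl⟩
  have hIp : IsPGroup p I := Q₀.2.to_le (hIQ Q₀ hQ₀)
  rw [subnormal_iff (p := p) H hH g, subnormal_iff (p := p) I hIp g]
  refine ⟨?_, fun ⟨R, h1, h2, h3⟩ => ⟨R, hHI.trans h1, h2, h3⟩⟩
  rintro ⟨R₀, h1, h2, h3⟩
  obtain ⟨R, hHR, hgR, hcore⟩ := exists_maximal_core h1 h2 h3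
  set N := Subgroup.normalizer (R : Set G) with hN
  have hRp : IsPGroup p R := hcore ▸ (CfsgLib.Solv.pCore_isPGroup (p := p) (G := N)).map _
  refine ⟨R, ?_, hRp, hgR⟩
  set J := sInf {K : Subgroup G | ∃ Q : Sylow p G, R ≤ (Q : Subgroup G) ∧ K = (Q : Subgroup G)} with hJ
  have hIJ : I ≤ J := le_sInf (by rintro _ ⟨Q, hQ, rfl⟩; exact hIQ Q (hHR.trans hQ))
  refine hIJ.trans (le_of_eq ?_)
  obtain ⟨Q₁, hQ₁⟩ := hRp.exists_le_sylow
  have hRJ : R ≤ J := le_sInf (by rintro _ ⟨Q, hQ, rfl⟩; exact hQ)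
  have hJp : IsPGroup p J := Q₁.2.to_le (sInf_le ⟨Q₁, hQ₁, rfl⟩)
  have hfix : J ⊓ N ≤ R := by
    intro x hx
    have hxc : (⟨x, hx.2⟩ : N) ∈ Cfsg.pCore p N := by
      rw [CfsgLib.Solv.pCore_eq_iInf_sylow]
      simp only [Subgroup.mem_iInf]
      intro T
      obtain ⟨Q, hQ⟩ := (T.2.map N.subtype).exists_le_sylow
      have hRT : R ≤ (T : Subgroup N).map N.subtype := by
        intro r hr
        obtain ⟨y, hy, hyr⟩ : r ∈ (Cfsg.pCore p N).map N.subtype := hcore.symm ▸ hr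
        exact ⟨y, CfsgLib.Solv.pCore_le_sylow T hy, hyr⟩
      have hxQ : x ∈ (Q : Subgroup G) := (sInf_le ⟨Q, hRT.trans hQ, rfl⟩ : J ≤ (Q : Subgroup G)) hx.1
      have hle : (T : Subgroup N) ≤ (Q : Subgroup G).subgroupOf N := fun y hy => hQ ⟨y, hy, rfl⟩
      exact (T.3 (Q.2.comap_subtype (K := N)) hle) ▸ hxQ
    rw [← hcore]
    exact ⟨_, hxc, rfl⟩
  by_contra hne
  haveI := hJp.isNilpotent
  have hlt : R.subgroupOf J < ⊤ := lt_top_iff_ne_top.mpr fun h =>
    hne (le_antisymm (Subgroup.subgroupOf_eq_top.mp h) hRJ)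
  have h := Group.normalizerCondition_of_isNilpotent (G := J) (R.subgroupOf J) hlt
  refine (not_le_of_gt h) fun y hy => ?_
  have hyN : (y : G) ∈ N := by
    refine Subgroup.mem_normalizer_fintype fun r hr => ?_
    exact (Subgroup.mem_normalizer_iff.mp hy ⟨r, hRJ hr⟩).mp hr
  exact hfix ⟨y.2, hyN⟩

end Cfsg.Agent.S4089
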