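import Cfsg.Statements.S4092


set_option autoImplicit false
set_option linter.style.haveILetI false
open Cfsg

namespace Cfsg.Agent.S4092

/-- Let G be a finite group, p a prime and P a Sylow p-subgroup of G that is not normal in G. Then G has at least p·#P elements of p-power order (the identity included). -/
theorem result {G : Type*} [Group G] [Finite G] (p : ℕ) [Fact p.Prime]
    (P : Sylow p G) (hP : ¬ (P : Subgroup G).Normal) :
    p * Nat.card (P : Subgroup G) ≤ Nat.card {g : G // ∃ k : ℕ, orderOf g = p ^ k} := by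
  classical
  haveI := Fintype.ofFinite G
  -- two different Sylow subgroups with intersection as large as possible
  haveI : Nontrivial (Sylow p G) := by
    by_contra h
    rw [not_nontrivial_iff_subsingleton] at h
    exact hP P.normal_of_subsingleton
  obtain ⟨P', hP'⟩ := exists_ne P
  haveI : Nonempty {q : Sylow p G × Sylow p G // q.1 ≠ q.2} := ⟨⟨(P', P), hP'⟩⟩
  obtain ⟨⟨⟨A, B⟩, hAB⟩, hmax⟩ := Finite.exists_max
    (fun q : {q : Sylow p G × Sylow p G // q.1 ≠ q.2} => Nat.card ↥((q.1.1 : Subgroup G) ⊓ q.1.2))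
  simp only at hAB hmax
  set D := (A : Subgroup G) ⊓ B with hD
  set N := Subgroup.normalizer (D : Set G)
  have hDp : IsPGroup p D := A.2.to_le inf_le_left
  have hDA : D < (A : Subgroup G) := lt_of_le_of_ne inf_le_left fun e =>
    hAB (Sylow.ext (A.3 B.2 (e ▸ inf_le_right)).symm)
  have hDB : D < (B : Subgroup G) := lt_of_le_of_ne inf_le_right fun e =>
    hAB (Sylow.ext (B.3 A.2 (e ▸ inf_le_left)))
  have hgrow : ∀ S : Sylow p G, D < (S : Subgroup G) → ∃ x ∈ (S : Subgroup G), x ∈ N ∧ x ∉ D := by
    intro S hS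
    haveI := S.2.isNilpotent
    have h1 : D.subgroupOf (S : Subgroup G) < ⊤ :=
      lt_top_iff_ne_top.2 fun e => hS.not_ge (Subgroup.subgroupOf_eq_top.1 e)
    obtain ⟨u, hu, hu'⟩ := SetLike.exists_of_lt (Group.normalizerCondition_of_isNilpotent _ h1)
    refine ⟨u, u.2, ?_, fun h => hu' h⟩
    rw [← Subgroup.subgroupOf_normalizer_eq hS.le, Subgroup.mem_subgroupOf] at hu
    exact hu
  -- maximality
  have heq : ∀ S T : Sylow p G, S ≠ T → D ≤ (S : Subgroup G) → D ≤ (T : Subgroup G) →
      (S : Subgroup G) ⊓ T = D := fun S T hST hS hT =>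
    (Subgroup.eq_of_le_of_card_ge (le_inf hS hT) (hmax ⟨(S, T), hST⟩)).symm
  have hAn : ¬ Subsingleton (Sylow p N) := by
    intro hs
    obtain ⟨R⟩ : Nonempty (Sylow p N) := inferInstance
    obtain ⟨S, hS⟩ := (R.2.map N.subtype).exists_le_sylow
    have key : ∀ T : Sylow p G, D ≤ (T : Subgroup G) → D < (T : Subgroup G) → T = S := by
      intro T hT hT'
      by_contra hne
      obtain ⟨x, hxT, hxN, hxD⟩ := hgrow T hT'
      have h1 : IsPGroup p ((T : Subgroup G).subgroupOf N) :=
        T.2.comap_of_injective N.subtype N.subtype_injective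
      obtain ⟨R', hR'⟩ := h1.exists_le_sylow
      rw [Subsingleton.elim R' R] at hR'
      have hxS : x ∈ (S : Subgroup G) := hS ⟨⟨x, hxN⟩, hR' hxT, rfl⟩
      have hDS : D ≤ (S : Subgroup G) := by
        intro d hd
        exact hS ⟨⟨d, Subgroup.le_normalizer hd⟩, hR' (hT hd), rfl⟩
      exact hxD (heq T S hne hT hDS ▸ Subgroup.mem_inf.2 ⟨hxT, hxS⟩)
    exact hAB ((key A hDA.le hDA).trans (key B hDB.le hDB).symm)
  have hp' := (Fact.out : p.Prime)
  have hcardN : p + 1 ≤ Nat.card (Sylow p N) := by
    have h1 := card_sylow_modEq_one p N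
    have h2 : Nat.card (Sylow p N) ≠ 1 := fun e => hAn (Nat.card_eq_one_iff_unique.1 e).1
    have h3 : 0 < Nat.card (Sylow p N) := Nat.card_pos
    by_contra h
    push Not at h
    rcases Nat.lt_or_ge (Nat.card (Sylow p N)) p with hl | hl
    · rw [Nat.ModEq, Nat.mod_eq_of_lt hl, Nat.mod_eq_of_lt hp'.one_lt] at h1
      exact h2 h1
    · rw [Nat.ModEq, show Nat.card (Sylow p N) = p by omega, Nat.mod_self, Nat.mod_eq_of_lt hp'.one_lt] at h1
      omega
  -- lift them to `G`
  have hext : ∀ R : Sylow p N, ∃ S : Sylow p G, (R : Subgroup N).map N.subtype ≤ S := fun R =>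
    (R.2.map N.subtype).exists_le_sylow
  choose e he using hext
  have hinj : Function.Injective e := by
    intro R R' h
    have hsub : ∀ R : Sylow p N, (R : Subgroup N) = ((e R : Subgroup G)).subgroupOf N := fun R =>
      (R.3 ((e R).2.comap_of_injective N.subtype N.subtype_injective) (fun x hx => he R ⟨x, hx, rfl⟩)).symm
    exact Sylow.ext (by rw [hsub R, hsub R', h])
  have hDle : ∀ R : Sylow p N, D ≤ (e R : Subgroup G) := by
    intro R d hd
    refine he R ⟨⟨d, Subgroup.le_normalizer hd⟩, ?_, rfl⟩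
    have h1 : IsPGroup p (D.subgroupOf N) := hDp.comap_of_injective N.subtype N.subtype_injective
    haveI : (D.subgroupOf N).Normal :=
      (Subgroup.normal_subgroupOf_iff_le_normalizer Subgroup.le_normalizer).2 le_rfl
    have := R.3 (h1.to_sup_of_normal_left R.2) le_sup_right
    exact this ▸ Subgroup.mem_sup_left (show (⟨d, Subgroup.le_normalizer hd⟩ : N) ∈ D.subgroupOf N from hd)
  -- count the `p`-elements in their union
  let U : Sylow p N → Finset G := fun R => Finset.univ.filter fun x => x ∈ (e R : Subgroup G) ∧ x ∉ D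
  have hU : ∀ R, (U R).card = Nat.card (P : Subgroup G) - Nat.card D := by
    intro R
    have e1 : U R = (Finset.univ.filter fun x => x ∈ (e R : Subgroup G)) \ (Finset.univ.filter fun x => x ∈ D) := by
      ext x; simp [U]
    rw [e1, Finset.card_sdiff_of_subset (fun x hx => by simpa using hDle R (by simpa using hx)),
      P.card_eq_multiplicity, ← (e R).card_eq_multiplicity, Nat.card_eq_fintype_card,
      Nat.card_eq_fintype_card, Fintype.card_subtype, Fintype.card_subtype]
  haveI := Fintype.ofFinite (Sylow p N)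
  have hdisj : (Set.univ : Set (Sylow p N)).PairwiseDisjoint U := by
    intro R _ R' _ hne
    rw [Function.onFun, Finset.disjoint_left]
    intro x hx hx'
    simp only [U, Finset.mem_filter, Finset.mem_univ, true_and] at hx hx'
    exact hx.2 (heq _ _ (fun h => hne (hinj h)) (hDle R) (hDle R') ▸ Subgroup.mem_inf.2 ⟨hx.1, hx'.1⟩)
  let W : Finset G := (Finset.univ.biUnion U) ∪ (Finset.univ.filter fun x => x ∈ D)
  have hWcard : W.card = Nat.card (Sylow p N) * (Nat.card (P : Subgroup G) - Nat.card D) + Nat.card D := by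
    rw [Finset.card_union_of_disjoint, Finset.card_biUnion (by simpa using hdisj), Finset.sum_congr rfl (fun R _ => hU R),
      Finset.sum_const, Finset.card_univ, Nat.card_eq_fintype_card (α := Sylow p N), smul_eq_mul,
      Nat.card_eq_fintype_card (α := D), Fintype.card_subtype]
    rw [Finset.disjoint_left]
    intro x hx hx'
    simp only [U, Finset.mem_biUnion, Finset.mem_filter, Finset.mem_univ, true_and] at hx hx'
    obtain ⟨R, -, h⟩ := hx
    exact h hx'
  have hWle : W.card ≤ Nat.card {g : G // ∃ k : ℕ, orderOf g = p ^ k} := by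
    rw [Nat.card_eq_fintype_card, Fintype.card_subtype]
    refine Finset.card_le_card fun x hx => ?_
    simp only [W, U, Finset.mem_union, Finset.mem_biUnion, Finset.mem_filter, Finset.mem_univ, true_and] at hx ⊢
    have key : ∀ S : Sylow p G, x ∈ (S : Subgroup G) → ∃ k : ℕ, orderOf x = p ^ k := fun S h => by
      obtain ⟨k, hk⟩ := IsPGroup.iff_orderOf.1 S.2 ⟨x, h⟩
      exact ⟨k, by rw [← hk, ← Subgroup.orderOf_coe]⟩
    rcases hx with ⟨R, h, -⟩ | h
    · exact key _ h
    · exact key A h.1
  have hsmall : p * Nat.card D ≤ Nat.card (P : Subgroup G) := by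
    obtain ⟨i, hi⟩ := IsPGroup.iff_card.1 hDp
    have h1 : Nat.card D ≠ Nat.card (A : Subgroup G) := fun e =>
      hDA.ne (Subgroup.eq_of_le_of_card_ge hDA.le e.ge)
    have h2 := Subgroup.card_le_of_le hDA.le
    rw [hi, A.card_eq_multiplicity] at h1 h2
    rw [hi, P.card_eq_multiplicity, ← pow_succ']
    refine Nat.pow_le_pow_right hp'.pos ?_
    have := (Nat.pow_le_pow_iff_right hp'.one_lt).1 h2
    by_contra h
    exact h1 (by rw [show i = (Nat.card G).factorization p by omega])
  have hmul := Nat.mul_le_mul_right (Nat.card (P : Subgroup G) - Nat.card D) hcardN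
  have hDle' : Nat.card D ≤ Nat.card (P : Subgroup G) :=
    le_trans (Nat.le_mul_of_pos_left _ hp'.pos) hsmall
  rw [Nat.add_one_mul, Nat.mul_sub] at hmul
  have h4 : p * Nat.card D ≤ p * Nat.card (P : Subgroup G) := Nat.mul_le_mul_left _ hDle'
  omega

end Cfsg.Agent.S4092
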