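import Cfsg.Statements.S4093


set_option autoImplicit false
set_option linter.style.haveILetI false
open scoped BigOperators
open Cfsg

namespace Cfsg.Agent.S4093

/-- Let G be a finite group with a normal subgroup N complementing a Sylow p-subgroup P (a normal p-complement). Then the number of elements of G of p-power order equals the sum over x ∈ P of the index of C_N(x) in N. -/
theorem result {G : Type*} [Group G] [Finite G] (p : ℕ) [Fact p.Prime]
    (P : Sylow p G) (N : Subgroup G) [N.Normal] (hNP : N.IsComplement' (P : Subgroup G)) :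
    Nat.card {g : G // ∃ k : ℕ, orderOf g = p ^ k} =
      ∑ᶠ x : (P : Subgroup G), Nat.card N / Nat.card ↥(N ⊓ Subgroup.centralizer ({(x : G)} : Set G)) := by
  classical
  haveI := Fintype.ofFinite (P : Subgroup G)
  rw [finsum_eq_sum_of_fintype]
  have hpo : ∀ g : G, (∃ k : ℕ, orderOf g = p ^ k) ↔ ∃ n ∈ N, n⁻¹ * g * n ∈ (P : Subgroup G) := by
    intro g
    constructor
    · rintro ⟨k, hk⟩
      have h1 : IsPGroup p (Subgroup.zpowers g) := IsPGroup.of_card (n := k) (by rw [Nat.card_zpowers, hk])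
      obtain ⟨Q, hQ⟩ := h1.exists_le_sylow
      obtain ⟨c, hc⟩ := MulAction.exists_smul_eq G P Q
      obtain ⟨⟨n, u⟩, hnu⟩ := hNP.2 c
      refine ⟨n, n.2, ?_⟩
      have h2 : g ∈ (Q : Subgroup G) := hQ (Subgroup.mem_zpowers g)
      rw [← hc, Sylow.coe_subgroup_smul, Subgroup.mem_pointwise_smul_iff_inv_smul_mem] at h2
      simp only [MulAut.smul_def, MulAut.conj_inv_apply] at h2
      simp only at hnu
      rw [← hnu] at h2
      have e : (n : G)⁻¹ * g * n = (u : G) * (((n : G) * u)⁻¹ * g * ((n : G) * u)) * (u : G)⁻¹ := by group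
      rw [e]
      exact mul_mem (mul_mem u.2 h2) (inv_mem u.2)
    · rintro ⟨n, hn, hx⟩
      obtain ⟨k, hk⟩ := IsPGroup.iff_orderOf.1 P.2 ⟨_, hx⟩
      refine ⟨k, ?_⟩
      rw [← hk, ← Subgroup.orderOf_coe]
      exact ((MulAut.conj n⁻¹).orderOf_eq g).symm.trans (congrArg orderOf (by simp))
  -- equality modulo `N` inside `P`
  have huniq : ∀ u v : G, u ∈ (P : Subgroup G) → v ∈ (P : Subgroup G) → u⁻¹ * v ∈ N → u = v := by
    intro u v hu hv h
    have := hNP.disjoint.le_bot ⟨h, (P : Subgroup G).mul_mem ((P : Subgroup G).inv_mem hu) hv⟩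
    rwa [Subgroup.mem_bot, inv_mul_eq_one] at this
  let T := {g : G // ∃ k : ℕ, orderOf g = p ^ k}
  let π : T → (P : Subgroup G) := fun g => ⟨((hpo g.1).1 g.2).choose⁻¹ * g.1 * ((hpo g.1).1 g.2).choose,
    ((hpo g.1).1 g.2).choose_spec.2⟩
  have hπ : ∀ (g : T) (x : (P : Subgroup G)), π g = x ↔ ∃ n ∈ N, g.1 = n * (x : G) * n⁻¹ := by
    intro g x
    obtain ⟨hn, hx⟩ := ((hpo g.1).1 g.2).choose_spec
    set m := ((hpo g.1).1 g.2).choose
    constructor
    · rintro rfl
      refine ⟨m, hn, ?_⟩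
      show g.1 = m * (m⁻¹ * g.1 * m) * m⁻¹
      group
    · rintro ⟨n, hnN, e⟩
      refine Subtype.ext (huniq _ _ hx x.2 ?_)
      show (m⁻¹ * g.1 * m)⁻¹ * (x : G) ∈ N
      rw [e]
      have e2 : (m⁻¹ * (n * (x : G) * n⁻¹) * m)⁻¹ * (x : G) =
          (m⁻¹ * n) * ((x : G)⁻¹ * (n⁻¹ * m) * (x : G)⁻¹⁻¹) := by group
      rw [e2]
      exact mul_mem (mul_mem (inv_mem hn) hnN)
        ((inferInstance : N.Normal).conj_mem _ (mul_mem (inv_mem hnN) hn) _)
  rw [← Nat.card_congr (Equiv.sigmaFiberEquiv π), Nat.card_sigma]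
  refine Finset.sum_congr rfl fun x _ => ?_
  set C := N ⊓ Subgroup.centralizer ({(x : G)} : Set G)
  obtain ⟨kx, hkx⟩ := IsPGroup.iff_orderOf.1 P.2 x
  let f : N ⧸ C.subgroupOf N → {g : T // π g = x} :=
    Quotient.lift (fun n : N => (⟨⟨(n : G) * x * (n : G)⁻¹,
        ⟨kx, by rw [← MulAut.conj_apply, MulEquiv.orderOf_eq, Subgroup.orderOf_coe, hkx]⟩⟩,
        (hπ _ x).2 ⟨n, n.2, rfl⟩⟩ : {g : T // π g = x})) fun a b hab => by
      refine Subtype.ext (Subtype.ext ?_)
      have h := Subgroup.mem_centralizer_singleton_iff.1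
        (Subgroup.mem_inf.1 (Subgroup.mem_subgroupOf.1 (QuotientGroup.leftRel_apply.1 hab))).2
      simp only [Subgroup.coe_mul, Subgroup.coe_inv] at h
      show (a : G) * x * (a : G)⁻¹ = (b : G) * x * (b : G)⁻¹
      calc (a : G) * x * (a : G)⁻¹ = (a : G) * ((x : G) * ((a : G)⁻¹ * b)) * (b : G)⁻¹ := by group
        _ = (b : G) * x * (b : G)⁻¹ := by rw [← h]; group
  have hf : Function.Bijective f := by
    constructor
    · intro a b
      refine Quotient.inductionOn₂' a b fun a b h => QuotientGroup.eq.2 ?_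
      have h' : (a : G) * x * (a : G)⁻¹ = (b : G) * x * (b : G)⁻¹ := congrArg (fun t : {g : T // π g = x} => t.1.1) h
      refine Subgroup.mem_subgroupOf.2 (Subgroup.mem_inf.2 ⟨(a⁻¹ * b).2, Subgroup.mem_centralizer_singleton_iff.2 ?_⟩)
      calc ((a⁻¹ * b : N) : G) * x = (a : G)⁻¹ * ((b : G) * x * (b : G)⁻¹) * b := by simp [mul_assoc]
        _ = (a : G)⁻¹ * ((a : G) * x * (a : G)⁻¹) * b := by rw [h']
        _ = (x : G) * ((a⁻¹ * b : N) : G) := by simp [mul_assoc]
    · intro g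
      obtain ⟨n, hn, e⟩ := (hπ g.1 x).1 g.2
      exact ⟨QuotientGroup.mk (⟨n, hn⟩ : N), Subtype.ext (Subtype.ext e.symm)⟩
  rw [← Nat.card_eq_of_bijective f hf]
  have h1 := Subgroup.card_eq_card_quotient_mul_card_subgroup (C.subgroupOf N)
  rw [Nat.card_congr (Subgroup.subgroupOfEquivOfLe (inf_le_left : C ≤ N)).toEquiv] at h1
  rw [h1, Nat.mul_div_cancel _ Nat.card_pos]

end Cfsg.Agent.S4093
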