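import Cfsg.Statements.S4106

import Cfsg.Agent.Solv.ClassCount

set_option autoImplicit false
set_option linter.style.haveILetI false
open Cfsg

namespace Cfsg.Agent.S4106

/-- Let G be a finite group, π a set of primes and m the π-part of the order of G. Then the number of conjugacy classes of G consisting of π-elements (elements whose order is divisible only by primes in π) is at most m. -/
theorem result {G : Type*} [Group G] [Finite G]
    (π : Set ℕ) (hπ : ∀ q ∈ π, q.Prime)
    (m : ℕ) (hm : m ∣ Nat.card G) (hmπ : ∀ q : ℕ, q.Prime → q ∣ m → q ∈ π)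
    (hm' : ∀ q ∈ π, ¬ q ∣ Nat.card G / m) :
    Nat.card {C : ConjClasses G // ∀ q : ℕ, q.Prime → (∃ g : G, ConjClasses.mk g = C ∧ q ∣ orderOf g) → q ∈ π} ≤ m := by
  classical
  have hm0 : m ≠ 0 := fun h => Nat.card_pos.ne' (zero_dvd_iff.mp (h ▸ hm) : Nat.card G = 0)
  set S : Finset ℕ := (Nat.card G).primeFactors.filter (fun r => r ∈ π) with hS
  have hSp : ∀ r ∈ S, r.Prime := fun r hr => Nat.prime_of_mem_primeFactors (Finset.mem_filter.mp hr).1
  have hprod : S.prod (fun r => r ^ (Nat.card G).factorization r) ≤ m := by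
    refine le_trans ?_ (Nat.le_of_dvd (Nat.pos_of_ne_zero hm0) (dvd_of_eq (Nat.prod_factorization_pow_eq_self hm0)))
    rw [Finsupp.prod, Nat.support_factorization]
    refine le_trans (Finset.prod_le_prod (g := fun r => r ^ m.factorization r) (fun r _ => Nat.zero_le _) fun r hr => ?_)
      (Finset.prod_le_prod_of_subset_of_one_le' ?_ fun r hr _ => Nat.one_le_pow _ _ (Nat.pos_of_mem_primeFactors hr))
    · refine Nat.pow_le_pow_right (hSp r hr).pos (le_of_eq ?_)
      obtain ⟨c, hc⟩ := hm
      have hc0 : c ≠ 0 := fun h => Nat.card_pos.ne' (by rw [hc, h, mul_zero])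
      have hd : Nat.card G / m = c := by rw [hc, Nat.mul_div_cancel_left _ (Nat.pos_of_ne_zero hm0)]
      have hnd := hm' r (Finset.mem_filter.mp hr).2
      rw [hd] at hnd
      rw [hc, Nat.factorization_mul hm0 hc0, Finsupp.add_apply,
        Nat.factorization_eq_zero_of_not_dvd hnd, add_zero]
    · intro r hr
      obtain ⟨h1, h2⟩ := Finset.mem_filter.mp hr
      have hp := Nat.prime_of_mem_primeFactors h1
      refine Nat.mem_primeFactors.mpr ⟨hp, ?_, hm0⟩
      rcases (hp.dvd_mul).mp (show r ∣ m * (Nat.card G / m) by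
        rw [Nat.mul_div_cancel' hm]; exact Nat.dvd_of_mem_primeFactors h1) with h | h
      · exact h
      · exact absurd h (hm' r h2)
  refine le_trans ?_ ((CfsgLib.Solv.classes_le_piPart S hSp G).trans hprod)
  refine Nat.card_le_card_of_injective (fun C => ⟨C.1, fun x hx r hr hrd => ?_⟩) fun a b e =>
    Subtype.ext (congrArg (fun c => c.1) e)
  exact Finset.mem_filter.mpr ⟨Nat.mem_primeFactors.mpr ⟨hr, hrd.trans (orderOf_dvd_natCard x),
    Nat.card_pos.ne'⟩, C.2 r hr ⟨x, ConjClasses.mem_carrier_iff_mk_eq.mp hx, hrd⟩⟩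

end Cfsg.Agent.S4106
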