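import Cfsg.Statements.S4107
import Cfsg.Agent.Solv.Basic
import Cfsg.Agent.Solv.CoprimeAction

set_option autoImplicit false
set_option linter.style.haveILetI false
open Cfsg

namespace Cfsg.Agent.S4107

/-- Let G be a finite group and N a proper non-trivial normal subgroup such that for every x outside N all elements of the coset xN have the same order as x. Then N ≤ F(G) or F(G) ≤ N, where F(G) is the Fitting subgroup; and if N is properly contained in F(G) then F(G) has prime-power order. -/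
theorem result {G : Type*} [Group G] [Finite G] (N : Subgroup G) [N.Normal] (hN1 : N ≠ ⊥) (hN2 : N ≠ ⊤)
    (heq : ∀ x : G, x ∉ N → ∀ n ∈ N, orderOf (x * n) = orderOf x) :
    (N ≤ Cfsg.fittingSubgroup G ∨ Cfsg.fittingSubgroup G ≤ N) ∧
    (N < Cfsg.fittingSubgroup G → IsPrimePow (Nat.card (Cfsg.fittingSubgroup G))) := by
  classical
  have hF := CfsgLib.Solv.fittingSubgroup_eq_iSup_pCore (G := G)
  have claim : ∀ r : Nat.Primes, ¬ Cfsg.pCore (r : ℕ) G ≤ N → IsPGroup (r : ℕ) N := by
    intro r hr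
    obtain ⟨x, hxR, hxN⟩ := SetLike.not_le_iff_exists.1 hr
    haveI := Fact.mk r.2
    set R := Cfsg.pCore (r : ℕ) G with hR
    haveI : R.Normal := CfsgLib.Solv.pCore_normal G (r : ℕ)
    have hRp : IsPGroup (r : ℕ) R := CfsgLib.Solv.pCore_isPGroup G (r : ℕ)
    obtain ⟨k, hk⟩ := IsPGroup.iff_card.1 hRp
    refine IsPGroup.of_card (n := (Nat.card N).primeFactorsList.length)
      (Nat.eq_prime_pow_of_unique_prime_dvd Nat.card_pos.ne' ?_)
    intro s hs hsN
    by_contra hsr
    haveI := Fact.mk hs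
    obtain ⟨⟨n, hn⟩, hno⟩ := exists_prime_orderOf_dvd_card' s hsN
    rw [Subgroup.orderOf_mk] at hno
    set A := Subgroup.zpowers n with hA
    have hAcard : Nat.card A = s := by rw [hA, Nat.card_zpowers, hno]
    have hcop : ∀ D : Subgroup G, D ≤ R → (Nat.card A).Coprime (Nat.card D) := fun D hD => by
      rw [hAcard]
      refine (Nat.Coprime.pow_right k ((Nat.coprime_primes hs r.2).2 hsr)).coprime_dvd_right ?_
      rw [← hk]; exact Subgroup.card_dvd_of_le hD
    obtain ⟨d, hd, hxd⟩ := CfsgLib.Solv.exists_centralizing_in_coset (A := A) (K := R) (D := R ⊓ N)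
      (by rw [Subgroup.normalizer_eq_top]; exact le_top)
      (Subgroup.inf_eq_bot_of_coprime (hcop R le_rfl)) inf_le_left
      (by rw [Subgroup.normalizer_eq_top]; exact le_top) (hcop _ inf_le_left)
      (Or.inl inferInstance) hxR (fun a ha => ⟨by
        rw [show x⁻¹ * a * x * a⁻¹ = x⁻¹ * (a * x * a⁻¹) by group]
        exact R.mul_mem (R.inv_mem hxR) (Subgroup.Normal.conj_mem inferInstance x hxR a), by
        have haN : a ∈ N := Subgroup.zpowers_le.2 hn ha
        refine N.mul_mem ?_ (N.inv_mem haN)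
        exact Subgroup.Normal.conj_mem' inferInstance a haN x⟩)
    set y := x * d with hy
    have hyN : y ∉ N := fun h => hxN ((N.mul_mem_cancel_right hd.2).1 h)
    have hcomm : Commute y n :=
      (Subgroup.mem_centralizer_iff.1 hxd n (Subgroup.mem_zpowers n)).symm
    have hco : (orderOf y).Coprime (orderOf n) := by
      rw [hno]
      refine Nat.Coprime.coprime_dvd_left (Subgroup.orderOf_dvd_natCard _ (R.mul_mem hxR hd.1)) ?_
      rw [hk]
      exact Nat.Coprime.pow_left k ((Nat.coprime_primes r.2 hs).2 (Ne.symm hsr))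
    have h1 := heq y hyN n hn
    rw [hcomm.orderOf_mul_eq_mul_orderOf_of_coprime hco, hno] at h1
    have h2 : 1 * orderOf y < s * orderOf y :=
      Nat.mul_lt_mul_of_pos_right hs.one_lt (orderOf_pos y)
    rw [one_mul, mul_comm] at h2
    omega
  by_cases hle : Cfsg.fittingSubgroup G ≤ N
  · exact ⟨Or.inr hle, fun h => absurd hle h.not_ge⟩
  obtain ⟨r, hr⟩ : ∃ r : Nat.Primes, ¬ Cfsg.pCore (r : ℕ) G ≤ N := by
    by_contra hcon
    push Not at hcon
    exact hle (hF.le.trans (iSup_le hcon))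
  haveI := Fact.mk r.2
  have hNr := claim r hr
  refine ⟨Or.inl (CfsgLib.Solv.le_fittingSubgroup hNr.isNilpotent), fun _ => ?_⟩
  haveI : (Cfsg.pCore (r : ℕ) G).Normal := CfsgLib.Solv.pCore_normal G (r : ℕ)
  have hFr : Cfsg.fittingSubgroup G = Cfsg.pCore (r : ℕ) G := by
    refine le_antisymm (hF.le.trans (iSup_le fun q => ?_)) (CfsgLib.Solv.pCore_le_fittingSubgroup)
    rcases eq_or_ne q r with rfl | hqr
    · exact le_rfl
    haveI := Fact.mk q.2
    have hne : (q : ℕ) ≠ r := fun h => hqr (Subtype.ext h)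
    by_cases hqN : Cfsg.pCore (q : ℕ) G ≤ N
    · have h1 := IsPGroup.disjoint_of_ne (q : ℕ) r hne _ _
        (CfsgLib.Solv.pCore_isPGroup G (q : ℕ)) (hNr.to_le hqN)
      rw [disjoint_self] at h1
      rw [h1]; exact bot_le
    · exfalso
      have h1 := IsPGroup.disjoint_of_ne (q : ℕ) r hne _ _ (claim q hqN) hNr
      exact hN1 (disjoint_self.1 h1)
  rw [hFr]
  obtain ⟨k, hk⟩ := IsPGroup.iff_card.1 (CfsgLib.Solv.pCore_isPGroup G (r : ℕ))
  rw [hk]
  refine ⟨r, k, r.2.prime, Nat.pos_of_ne_zero fun h => ?_, rfl⟩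
  rw [h, pow_zero, Subgroup.card_eq_one] at hk
  exact hr (hk ▸ bot_le)

end Cfsg.Agent.S4107
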