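import Cfsg.Statements.S4108


set_option autoImplicit false
set_option linter.style.haveILetI false
open Cfsg
open scoped Pointwise

namespace Cfsg.Agent.S4108

/-- Let G be a finite group, p a prime and N a proper non-trivial normal p-subgroup such that for every x outside N all elements of the coset xN have the same order as x. Then every non-trivial subgroup H of G of order prime to p acts fixed-point-freely on N: NH is a Frobenius group with complement H and kernel N. -/
theorem result {G : Type*} [Group G] [Finite G] (N : Subgroup G) [N.Normal] (hN1 : N ≠ ⊥) (hN2 : N ≠ ⊤)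
    (heq : ∀ x : G, x ∉ N → ∀ n ∈ N, orderOf (x * n) = orderOf x)
    (p : ℕ) [Fact p.Prime] (hNp : IsPGroup p N) :
    ∀ H : Subgroup G, H ≠ ⊥ → (Nat.card H).Coprime p →
      Cfsg.IsFrobeniusComplement (H.subgroupOf (N ⊔ H)) ∧ Cfsg.frobeniusKernel (H.subgroupOf (N ⊔ H)) = (N.subgroupOf (N ⊔ H) : Set ↥(N ⊔ H)) := by
  intro H hH hcop
  classical
  set L := N ⊔ H
  set H' := H.subgroupOf L with hH'
  set N' := N.subgroupOf L with hN'
  haveI : N'.Normal := by rw [hN']; infer_instance
  -- fixed-point-free action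
  have hfpf : ∀ x ∈ H, x ≠ 1 → ∀ n ∈ N, n * x = x * n → n = 1 := by
    intro x hx hx1 n hn hc
    have hxN : x ∉ N := fun hxN => hx1 (by
      obtain ⟨j, hj⟩ := IsPGroup.iff_orderOf.1 hNp ⟨x, hxN⟩
      rw [← orderOf_eq_one_iff]
      refine Nat.eq_one_of_dvd_coprimes ((Nat.Coprime.pow_right j hcop)) ?_ ?_
      · exact Subgroup.orderOf_dvd_natCard _ hx
      · rw [← hj, ← Subgroup.orderOf_coe])
    have h1 := heq x hxN n hn
    obtain ⟨j, hj⟩ := IsPGroup.iff_orderOf.1 hNp ⟨n, hn⟩
    rw [← Subgroup.orderOf_coe] at hj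
    change orderOf n = p ^ j at hj
    have hco : Nat.Coprime (orderOf x) (orderOf n) := by
      rw [hj]; exact (hcop.coprime_dvd_left (Subgroup.orderOf_dvd_natCard _ hx)).pow_right j
    rw [(show Commute x n from hc.symm).orderOf_mul_eq_mul_orderOf_of_coprime hco] at h1
    have : orderOf n = 1 := by
      have hpos := orderOf_pos x
      have h2 : orderOf x * orderOf n = orderOf x * 1 := by rw [mul_one]; exact h1
      exact Nat.eq_of_mul_eq_mul_left hpos h2
    exact orderOf_eq_one_iff.1 this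
  have hdec : ∀ g : L, ∃ n ∈ N, ∃ h ∈ H, (g : G) = n * h := by
    intro g
    have hg : (g : G) ∈ ((N ⊔ H : Subgroup G) : Set G) := g.2
    rw [Subgroup.normal_mul] at hg
    obtain ⟨n, hn, h, hh, e⟩ := hg
    exact ⟨n, hn, h, hh, e.symm⟩
  have hdisj : ∀ x, x ∈ N → x ∈ H → x = 1 := by
    intro x hxN hxH
    obtain ⟨j, hj⟩ := IsPGroup.iff_orderOf.1 hNp ⟨x, hxN⟩
    rw [← orderOf_eq_one_iff]
    exact Nat.eq_one_of_dvd_coprimes (Nat.Coprime.pow_right j hcop)
      (Subgroup.orderOf_dvd_natCard _ hxH) (by rw [← hj, ← Subgroup.orderOf_coe])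
  have hmemc : ∀ (g x : L), x ∈ MulAut.conj g • H' ↔ (g : G)⁻¹ * x * g ∈ H := by
    intro g x
    rw [Subgroup.mem_pointwise_smul_iff_inv_smul_mem, hH', Subgroup.mem_subgroupOf]
    simp [MulAut.smul_def]
  have hNbot : (⊥ : Subgroup G) < N := bot_lt_iff_ne_bot.2 hN1
  refine ⟨⟨?_, ?_, ?_⟩, ?_⟩
  · intro e
    obtain ⟨x, hx, hx1⟩ := SetLike.exists_of_lt (bot_lt_iff_ne_bot.2 hH)
    have : (⟨x, le_sup_right (a := N) hx⟩ : L) ∈ H' := hx
    rw [e, Subgroup.mem_bot] at this
    exact hx1 (Subgroup.mem_bot.2 (congrArg Subtype.val this))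
  · intro e
    obtain ⟨x, hx, hx1⟩ := SetLike.exists_of_lt hNbot
    have : (⟨x, le_sup_left (b := H) hx⟩ : L) ∈ H' := e ▸ Subgroup.mem_top _
    exact hx1 (Subgroup.mem_bot.2 (hdisj x hx this))
  · intro g hg
    rw [eq_bot_iff]
    intro x hx
    obtain ⟨hxH, hxg⟩ := Subgroup.mem_inf.1 hx
    rw [hmemc] at hxg
    obtain ⟨n, hn, h, hh, e⟩ := hdec g
    rw [Subgroup.mem_bot]
    by_contra hx1
    have hx0 : (x : G) ≠ 1 := fun e => hx1 (Subtype.ext e)
    apply hg
    rw [hH', Subgroup.mem_subgroupOf]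
    -- `n⁻¹ x n ∈ H` forces `n = 1`
    have h1 : n⁻¹ * (x : G) * n ∈ H := by
      have := mul_mem (mul_mem hh hxg) (inv_mem hh)
      rw [e] at this
      simpa [mul_assoc] using this
    have h2 : (x : G)⁻¹ * (n⁻¹ * x * n) ∈ N := by
      have := mul_mem ((inferInstance : N.Normal).conj_mem _ (inv_mem hn) (x : G)⁻¹) hn
      simpa [mul_assoc] using this
    have h3 := hdisj _ h2 (mul_mem (inv_mem hxH) h1)
    rw [inv_mul_eq_one] at h3
    have h4 : n * (x : G) = x * n := by
      nth_rewrite 1 [h3]; group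
    rw [e, hfpf _ hxH hx0 n hn h4, one_mul]
    exact hh
  · ext x
    simp only [Cfsg.frobeniusKernel, Set.mem_setOf_eq, SetLike.mem_coe, Subgroup.mem_subgroupOf]
    constructor
    · rintro (rfl | hx)
      · exact one_mem _
      · by_contra hxN
        obtain ⟨n, hn, h, hh, e⟩ := hdec x
        have hh1 : h ≠ 1 := fun h1 => hxN (by show (x : G) ∈ N; rw [e, h1, mul_one]; exact hn)
        -- the conjugates of `h` by `N` fill the coset `N h`
        let f : N → N := fun m => ⟨(m : G) * (h * (m : G)⁻¹ * h⁻¹),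
          mul_mem m.2 ((inferInstance : N.Normal).conj_mem _ (inv_mem m.2) h)⟩
        have hinj : Function.Injective f := by
          intro a b hab
          have h1 : (a : G) * h * (a : G)⁻¹ = (b : G) * h * (b : G)⁻¹ := by
            have := congrArg (fun t : N => (t : G) * h) hab
            simpa [f, mul_assoc] using this
          have h2 : ((b : G)⁻¹ * a) * h = h * ((b : G)⁻¹ * a) := by
            calc ((b : G)⁻¹ * a) * h = (b : G)⁻¹ * ((a : G) * h * (a : G)⁻¹) * a := by group
              _ = (b : G)⁻¹ * ((b : G) * h * (b : G)⁻¹) * a := by rw [h1]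
              _ = _ := by group
          have h3 := hfpf h hh hh1 _ (mul_mem (inv_mem b.2) a.2) h2
          rw [inv_mul_eq_one] at h3
          exact Subtype.ext h3.symm
        obtain ⟨m, hm⟩ := (Finite.injective_iff_surjective.1 hinj) ⟨n, hn⟩
        refine hx ⟨m, le_sup_left (b := H) m.2⟩ ((hmemc _ _).2 ?_)
        have h5 : (m : G) * (h * (m : G)⁻¹ * h⁻¹) = n := congrArg Subtype.val hm
        show (m : G)⁻¹ * (x : G) * (m : G) ∈ H
        rw [e, ← h5]
        simpa [mul_assoc] using hh
    · intro hx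
      by_cases hx1 : x = 1
      · exact Or.inl hx1
      refine Or.inr fun g hg => hx1 ?_
      rw [hmemc] at hg
      have h1 : (g : G)⁻¹ * x * g ∈ N := by
        simpa using (inferInstance : N.Normal).conj_mem _ hx (g : G)⁻¹
      have h2 := hdisj _ h1 hg
      refine Subtype.ext ?_
      calc (x : G) = (g : G) * ((g : G)⁻¹ * x * g) * (g : G)⁻¹ := by group
        _ = 1 := by rw [h2]; group

end Cfsg.Agent.S4108
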