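import Mathlib
import Cfsg.Agent.Perm.MinClass
-- Template for statement S4112 (row 4112; see /opt/grader/pristine/manifest.json for weights).
-- Copy to Cfsg/Agent/S4112.lean and replace the sorry. The statement below is byte-identical to the frozen
-- statement Cfsg.CfsgFrozen.S4112 (Cfsg/Statements/S4112.lean; the theorem Cfsg.fg7_camina_triple_frobenius_triple_iff);
-- the grader kernel-checks Cfsg.Agent.S4112.result against that frozen type. Keep the theorem IN THIS FILE
-- (a `result` declared elsewhere and merely imported here is not credited); helpers may live anywhere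
-- under Cfsg/Agent/.
import Cfsg.Statements.S4112


set_option autoImplicit false
open Cfsg

namespace Cfsg.Agent.S4112

/-- Let G be a finite group and M ≤ N non-trivial proper normal subgroups such that for every g outside N the conjugacy class of g is a union of cosets of M (equivalently gm is conjugate to g for every m ∈ M). Then (1) and (2) below are equivalent, and they imply (3): (1) every g outside N acts fixed-point-freely on M, that is C_G(x) ≤ N for every x ∈ M, x ≠ 1; (2) the index of N in G is coprime to the order of M; (3) there is a subgroup H of G with HN = G and H ∩ M = 1. -/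
theorem result {G : Type*} [Group G] [Finite G] (N M : Subgroup G) [N.Normal] [M.Normal] (hMN : M ≤ N) (hM1 : M ≠ ⊥) (hN2 : N ≠ ⊤)
    (hcam : ∀ g : G, g ∉ N → ∀ m ∈ M, ∃ x : G, x * g * x⁻¹ = g * m) :
    ((∀ x ∈ M, x ≠ 1 → Subgroup.centralizer ({x} : Set G) ≤ N) ↔ N.index.Coprime (Nat.card M)) ∧
    ((∀ x ∈ M, x ≠ 1 → Subgroup.centralizer ({x} : Set G) ≤ N) → ∃ H : Subgroup G, H ⊔ N = ⊤ ∧ H ⊓ M = ⊥) := by
  have hm0 : Nat.card M ≠ 0 := Nat.card_pos.ne'
  have h21 : N.index.Coprime (Nat.card M) → ∀ x ∈ M, x ≠ 1 →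
      Subgroup.centralizer ({x} : Set G) ≤ N := by
    intro hcop x hx hx1 g hg
    by_contra hgN
    set k := Nat.card M ^ orderOf g with hk
    have hgk : g ^ k ∉ N := by
      intro h
      have h1 : orderOf (g : G ⧸ N) ∣ k := by
        apply orderOf_dvd_of_pow_eq_one
        rw [← QuotientGroup.mk_pow, QuotientGroup.eq_one_iff]; exact h
      have h2 : orderOf (g : G ⧸ N) ∣ N.index := orderOf_dvd_natCard _
      have h3 := Nat.dvd_gcd h2 h1
      rw [(hcop.pow_right _).gcd_eq_one, Nat.dvd_one, orderOf_eq_one_iff,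
        QuotientGroup.eq_one_iff] at h3
      exact hgN h3
    have hcop' : (orderOf (g ^ k)).Coprime (Nat.card M) := by
      refine Nat.coprime_of_dvd fun p hp hpo hpm => ?_
      rw [orderOf_pow] at hpo
      have ho := orderOf_pos g
      have h4 : p ^ (orderOf g).factorization p ∣ k :=
        (pow_dvd_pow_of_dvd hpm _).trans
          (pow_dvd_pow _ (Nat.factorization_lt p ho.ne').le)
      have h5 : p ^ (orderOf g).factorization p ∣ (orderOf g).gcd k :=
        Nat.dvd_gcd (Nat.ordProj_dvd _ _) h4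
      have h6 := mul_dvd_mul h5 hpo
      rw [Nat.mul_div_cancel' (Nat.gcd_dvd_left _ _), ← pow_succ] at h6
      exact Nat.pow_succ_factorization_not_dvd ho.ne' hp h6
    obtain ⟨y, hy⟩ := hcam _ hgk x hx
    have hc : Commute (g ^ k) x := (show Commute g x from
      (Subgroup.mem_centralizer_iff.1 hg x rfl).symm).pow_left k
    have hox : orderOf x ∣ Nat.card M := Subgroup.orderOf_dvd_natCard _ hx
    have h7 := hc.orderOf_mul_eq_mul_orderOf_of_coprime (hcop'.coprime_dvd_right hox)
    rw [← hy] at h7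
    have h8 : orderOf (y * g ^ k * y⁻¹) = orderOf (g ^ k) :=
      orderOf_injective (MulAut.conj y).toMonoidHom (MulAut.conj y).injective (g ^ k)
    rw [h8] at h7
    exact hx1 (orderOf_eq_one_iff.1 (Nat.eq_of_mul_eq_mul_left (orderOf_pos (g ^ k))
      (h7.symm.trans (mul_one _).symm)))
  have h12 : (∀ x ∈ M, x ≠ 1 → Subgroup.centralizer ({x} : Set G) ≤ N) →
      N.index.Coprime (Nat.card M) := by
    intro h
    refine Nat.coprime_of_dvd fun p hp hpi hpm => ?_
    have := Fact.mk hp
    obtain ⟨P⟩ : Nonempty (Sylow p G) := inferInstance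
    have hPN : ¬ (P : Subgroup G) ≤ N := fun hle =>
      P.not_dvd_index (hpi.trans (Subgroup.index_dvd_of_le hle))
    have hPM : ¬ (P : Subgroup G) ⊓ M = ⊥ := by
      intro hbot
      obtain ⟨x, hx⟩ := exists_prime_orderOf_dvd_card' p (G := ↥M) hpm
      have hzp : IsPGroup p ↥(Subgroup.zpowers (x : G)) := by
        refine IsPGroup.of_card (n := 1) ?_
        rw [Nat.card_zpowers, Subgroup.orderOf_coe, hx, pow_one]
      obtain ⟨R, hR⟩ := hzp.exists_le_sylow
      obtain ⟨g, hg⟩ := MulAction.exists_smul_eq G R P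
      have hgx : g * (x : G) * g⁻¹ ∈ (P : Subgroup G) ⊓ M := by
        refine ⟨?_, ‹M.Normal›.conj_mem _ x.2 g⟩
        rw [← hg]
        exact Subgroup.smul_mem_pointwise_smul (x : G) (MulAut.conj g) _
          (hR (Subgroup.mem_zpowers _))
      rw [hbot, Subgroup.mem_bot, conj_eq_one_iff] at hgx
      rw [← Subgroup.orderOf_coe, hgx, orderOf_one] at hx
      exact hp.one_lt.ne hx
    let D : Subgroup ↥(P : Subgroup G) := M.subgroupOf (P : Subgroup G)
    have hD : D ≠ ⊥ := by
      intro hbot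
      exact hPM (by
        rw [inf_comm, ← Subgroup.subgroupOf_map_subtype M (P : Subgroup G)]
        show D.map _ = ⊥
        rw [hbot, Subgroup.map_bot])
    obtain ⟨z, hzD, hz1⟩ := (Subgroup.bot_or_exists_ne_one _).resolve_left
      (CfsgLib.Perm.inf_center_ne_bot P.isPGroup' D hD)
    refine hPN fun g hg => h (z : G) hzD.1 (fun hh => hz1 (Subtype.ext hh)) ?_
    rw [Subgroup.mem_centralizer_iff]
    rintro w rfl
    exact congrArg Subtype.val ((Subgroup.mem_center_iff.1 hzD.2 ⟨g, hg⟩).symm)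
  refine ⟨⟨h12, h21⟩, fun h => ?_⟩
  have hcop := h12 h
  obtain ⟨H, hH⟩ := exists_minimal_of_wellFoundedLT (α := Subgroup G) (P := fun H => H ⊔ N = ⊤) ⟨⊤, top_sup_eq _⟩
  refine ⟨H, hH.1, ?_⟩
  refine (Subgroup.eq_bot_iff_forall _).2 fun x hx => ?_
  by_contra hx1
  obtain ⟨p, hp, hpx⟩ := Nat.exists_prime_and_dvd (fun hh => hx1 (orderOf_eq_one_iff.1 hh))
  have := Fact.mk hp
  have hpM : p ∣ Nat.card M := hpx.trans (Subgroup.orderOf_dvd_natCard _ hx.2)
  have hpi : ¬ p ∣ N.index := fun hh => hp.one_lt.ne' (Nat.eq_one_of_dvd_coprimes hcop hh hpM)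
  let D : Subgroup ↥H := N.subgroupOf H
  obtain ⟨P⟩ : Nonempty (Sylow p ↥D) := inferInstance
  let PH : Subgroup ↥H := (P : Subgroup ↥D).map D.subtype
  have hfr : Subgroup.normalizer (PH : Set ↥H) ⊔ D = ⊤ := Sylow.normalizer_sup_eq_top P
  have hsup : ∀ K : Subgroup ↥H, K ⊔ D = ⊤ → K = ⊤ := by
    intro K hK
    have h1 : H ≤ K.map H.subtype ⊔ N := by
      calc H = (⊤ : Subgroup ↥H).map H.subtype := by
            rw [← MonoidHom.range_eq_map, Subgroup.range_subtype]
        _ = K.map H.subtype ⊔ D.map H.subtype := by rw [← Subgroup.map_sup, hK]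
        _ ≤ _ := sup_le_sup_left (by
            rw [Subgroup.subgroupOf_map_subtype]; exact inf_le_left) _
    have h2 : K.map H.subtype ⊔ N = ⊤ :=
      top_le_iff.1 (hH.1 ▸ sup_le h1 le_sup_right)
    have h3 := hH.2 (show (fun H => H ⊔ N = ⊤) (K.map H.subtype) from h2) (Subgroup.map_subtype_le K)
    refine top_le_iff.1 fun w _ => ?_
    obtain ⟨v, hv, hvw⟩ := h3 w.2
    exact (Subtype.ext hvw : v = w) ▸ hv
  have hn : PH.Normal := Subgroup.normalizer_eq_top_iff.1 (hsup _ hfr)
  have hPHle : PH ≤ D := Subgroup.map_subtype_le _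
  have hPHcard : Nat.card ↥PH = Nat.card ↥(P : Subgroup ↥D) :=
    Nat.card_congr ((P : Subgroup ↥D).equivMapOfInjective _ D.subtype_injective).toEquiv.symm
  have hDi : D.index ∣ N.index := by
    have := Subgroup.relIndex_dvd_index_of_normal N H
    exact this
  have hpP : ¬ p ∣ PH.index := by
    rw [← Subgroup.relIndex_mul_index hPHle]
    intro hh
    rcases hp.dvd_mul.1 hh with h1 | h1
    · refine P.not_dvd_index ?_
      have h2 : PH.subgroupOf D = (P : Subgroup ↥D) :=
        Subgroup.comap_map_eq_self_of_injective D.subtype_injective _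
      rwa [Subgroup.relIndex, h2] at h1
    · exact hpi (h1.trans hDi)
  obtain ⟨k, hk⟩ := IsPGroup.iff_card.1 P.isPGroup'
  obtain ⟨K, hK⟩ := Subgroup.exists_right_complement'_of_coprime (N := PH) (by
    rw [hPHcard, hk]; exact ((hp.coprime_iff_not_dvd.2 hpP).pow_left k))
  have hKtop : K = ⊤ := hsup K (top_le_iff.1 (hK.sup_eq_top ▸
    sup_le (hPHle.trans le_sup_right) le_sup_left))
  subst hKtop
  have hPH : PH = ⊥ := Subgroup.isComplement'_top_right.1 hK
  have hxD : (⟨x, hx.1⟩ : ↥H) ∈ D := hMN hx.2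
  have hpD : p ∣ Nat.card ↥D := by
    refine hpx.trans ?_
    rw [← Subgroup.orderOf_mk x hx.1]
    exact Subgroup.orderOf_dvd_natCard _ hxD
  have hP1 : Nat.card ↥(P : Subgroup ↥D) = 1 := by rw [← hPHcard, hPH, Subgroup.card_bot]
  rw [P.card_eq_multiplicity] at hP1
  exact (hp.factorization_pos_of_dvd Nat.card_pos.ne' hpD).ne' ((Nat.pow_eq_one.1 hP1).resolve_left hp.one_lt.ne')

end Cfsg.Agent.S4112
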