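import Cfsg.Statements.S4113

import Mathlib

set_option autoImplicit false
set_option linter.style.haveILetI false
open Cfsg

namespace Cfsg.Agent.S4113
open scoped commutatorElement

/-- Let G be a finite group, M ≤ N non-trivial proper normal subgroups, and H a subgroup with HM = G and H ∩ M = 1. Then every element of G outside N acts fixed-point-freely on M (C_G(x) ≤ N for every x ∈ M, x ≠ 1) if and only if H ∩ gHg⁻¹ ≤ H ∩ N for every g outside H, with H proper and non-trivial and H ∩ N proper in H. -/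
theorem result {G : Type*} [Group G] [Finite G] (N M : Subgroup G) [N.Normal] [M.Normal] (hMN : M ≤ N) (hM1 : M ≠ ⊥) (hN2 : N ≠ ⊤)
    (H : Subgroup G) (hHM : H ⊔ M = ⊤) (hHM' : H ⊓ M = ⊥) :
    (∀ x ∈ M, x ≠ 1 → Subgroup.centralizer ({x} : Set G) ≤ N) ↔
      (H ≠ ⊥ ∧ H ≠ ⊤ ∧ H ⊓ N < H ∧ ∀ g : G, g ∉ H → H ⊓ H.map (MulAut.conj g).toMonoidHom ≤ N) := by
  classical
  have hdis : ∀ x, x ∈ H → x ∈ M → x = 1 := fun x hxH hxM => by
    have h1 : x ∈ H ⊓ M := ⟨hxH, hxM⟩
    rwa [hHM', Subgroup.mem_bot] at h1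
  have hdec : ∀ g : G, ∃ m ∈ M, ∃ h ∈ H, m * h = g := fun g => by
    have hg : g ∈ M ⊔ H := by rw [sup_comm, hHM]; trivial
    exact Subgroup.mem_sup_of_normal_left.1 hg
  constructor
  · intro hfix
    refine ⟨fun e => hN2 (eq_top_iff.2 (hHM ▸ (by rw [e, bot_sup_eq]; exact hMN : H ⊔ M ≤ N))),
      fun e => hM1 (by rw [← hHM', e, top_inf_eq]),
      lt_of_le_of_ne inf_le_left fun e => hN2 (eq_top_iff.2 (hHM ▸ sup_le (inf_eq_left.1 e) hMN)), ?_⟩
    intro g hg y hy
    obtain ⟨hyH, h', hh', hy'⟩ := hy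
    obtain ⟨m₀, hm₀, h, hh, rfl⟩ := hdec g
    set m := h⁻¹ * m₀ * h
    have hm : m ∈ M := by simpa using (inferInstance : M.Normal).conj_mem m₀ hm₀ h⁻¹
    have hm1 : m₀ ≠ 1 := fun e => hg (by rw [e, one_mul]; exact hh)
    have hy'' : m₀ * (h * h' * h⁻¹) * m₀⁻¹ = y := by rw [← hy']; simp [mul_assoc]
    set z := h * h' * h⁻¹
    have hz : z ∈ H := H.mul_mem (H.mul_mem hh hh') (H.inv_mem hh)
    have hyz : y * z⁻¹ = 1 := by
      refine hdis _ (H.mul_mem hyH (H.inv_mem hz)) ?_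
      rw [← hy'']
      have := M.mul_mem hm₀ ((inferInstance : M.Normal).conj_mem _ (M.inv_mem hm₀) z)
      simpa [mul_assoc] using this
    rw [mul_inv_eq_one] at hyz
    refine hfix m₀ hm₀ hm1 (Subgroup.mem_centralizer_singleton_iff.2 ?_)
    rw [← hyz, mul_inv_eq_iff_eq_mul] at hy''
    exact hy''.symm
  · rintro ⟨-, -, -, hint⟩ x hx hx1 c hc
    by_contra hcN
    obtain ⟨m, hm, h, hh, rfl⟩ := hdec c
    have hhN : h ∉ N := fun e => hcN (N.mul_mem (hMN hm) e)
    have hCM : ∀ k ∈ M, k * h = h * k → k = 1 := by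
      intro k hk hkh
      by_contra hk1
      refine hhN (hint k (fun e => hk1 (hdis k e hk)) ⟨hh, h, hh, ?_⟩)
      simp [hkh]
    let f : M → M := fun k => ⟨(k : G) * h * (k : G)⁻¹ * h⁻¹, by
      simpa [mul_assoc] using M.mul_mem k.2 ((inferInstance : M.Normal).conj_mem _ (M.inv_mem k.2) h)⟩
    have hf : Function.Injective f := by
      intro k l e
      have e' : (k : G) * h * (k : G)⁻¹ * h⁻¹ = (l : G) * h * (l : G)⁻¹ * h⁻¹ := congrArg Subtype.val e
      have e2 : (k : G) * h * (k : G)⁻¹ = (l : G) * h * (l : G)⁻¹ := mul_right_cancel e'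
      have h1 := hCM ((l : G)⁻¹ * k) (M.mul_mem (M.inv_mem l.2) k.2) (by
        have e3 := congrArg (fun t => (l : G)⁻¹ * t * k) e2
        simpa [mul_assoc] using e3)
      exact Subtype.ext (inv_mul_eq_one.1 h1).symm
    obtain ⟨k, hk⟩ := Finite.injective_iff_surjective.1 hf ⟨m, hm⟩
    have hk' : (k : G) * h * (k : G)⁻¹ * h⁻¹ = m := congrArg Subtype.val hk
    rw [← hk', inv_mul_cancel_right, Subgroup.mem_centralizer_singleton_iff] at hc
    have h2 := hCM ((k : G)⁻¹ * x * k) (by simpa using (inferInstance : M.Normal).conj_mem x hx (k : G)⁻¹) (by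
      have e := congrArg (fun t => (k : G)⁻¹ * t * k) hc
      simp [mul_assoc] at e ⊢
      first | exact e | exact e.symm)
    exact hx1 (by simpa [mul_assoc] using congrArg (fun t => (k : G) * t * (k : G)⁻¹) h2)

end Cfsg.Agent.S4113
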