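import Cfsg.Statements.S4116
import Cfsg.Agent.Perm.Basic
import Cfsg.Agent.Perm.ClassSize

set_option autoImplicit false
set_option linter.style.haveILetI false
open Cfsg

namespace Cfsg.Agent.S4116

--- pre
open scoped Pointwise

/-- Let G be a finite group with a subgroup H whose order is coprime to its index (a Hall subgroup) and which meets each of its conjugates by elements outside N_G(H) trivially. Then every subgroup of G whose order is divisible only by primes dividing the order of H lies in a conjugate of H. -/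
theorem result {G : Type*} [Group G] [Finite G] (H : Subgroup G)
    (hHall : (Nat.card H).Coprime H.index) (hTI : Cfsg.IsTISubset (H : Set G))
    (K : Subgroup G) (hK : ∀ q : ℕ, q.Prime → q ∣ Nat.card K → q ∣ Nat.card H) :
    ∃ g : G, K ≤ H.map (MulAut.conj g).toMonoidHom := by
  classical
  have hTI' : ∀ c x : G, x ∈ H → c * x * c⁻¹ ∈ H → x ≠ 1 →
      c ∈ Subgroup.normalizer (H : Set G) := by
    intro c x hx hcx hx1
    by_contra hc
    exact hx1 (hTI c hc x hx hcx)
  have hnorm : ∀ c ∈ Subgroup.normalizer (H : Set G), (orderOf c).Coprime H.index → c ∈ H := by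
    intro c hc hcop
    haveI : (H.subgroupOf (Subgroup.normalizer (H : Set G))).Normal := Subgroup.normal_in_normalizer
    refine CfsgLib.Perm.mem_of_pow_mem_of_coprime (hcop.coprime_dvd_right
      (Subgroup.relIndex_dvd_index_of_le (Subgroup.le_normalizer (H := H)))) ?_
    exact Subgroup.mem_subgroupOf.1 (Subgroup.pow_index_mem
      (H.subgroupOf (Subgroup.normalizer (H : Set G))) ⟨c, hc⟩)
  have hKc : ∀ y ∈ K, (orderOf y).Coprime H.index := by
    intro y hy
    refine Nat.coprime_of_dvd fun q hq hqy hqi => ?_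
    exact hq.not_dvd_one (hHall ▸ Nat.dvd_gcd (hK q hq (hqy.trans (Subgroup.orderOf_dvd_natCard _ hy))) hqi)
  -- membership in a conjugate
  have uniq : ∀ a b z w : G, z ≠ 1 → a⁻¹ * z * a ∈ H → b⁻¹ * z * b ∈ H → a⁻¹ * w * a ∈ H →
      b⁻¹ * w * b ∈ H := by
    intro a b z w hz ha hb hw
    have hc := hTI' (b⁻¹ * a) (a⁻¹ * z * a) ha (by simpa [mul_assoc] using hb)
      (fun h => hz (by simpa [mul_assoc] using congrArg (fun t => a * t * a⁻¹) h))
    have := (Subgroup.mem_normalizer_iff.1 hc _).1 hw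
    simpa [mul_assoc] using this
  have stab : ∀ g z y : G, z ≠ 1 → g⁻¹ * z * g ∈ H → y ∈ K → g⁻¹ * (y * z * y⁻¹) * g ∈ H →
      g⁻¹ * y * g ∈ H := by
    intro g z y hz hzH hy hyzH
    refine hnorm _ (hTI' _ (g⁻¹ * z * g) hzH (by simpa [mul_assoc] using hyzH)
      (fun h => hz (by simpa [mul_assoc] using congrArg (fun t => g * t * g⁻¹) h))) ?_
    rw [show orderOf (g⁻¹ * y * g) = orderOf y by
      simpa using orderOf_injective (MulAut.conj g⁻¹).toMonoidHom (MulAut.conj g⁻¹).injective y]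
    exact hKc y hy
  have cover : ∀ y ∈ K, y ≠ 1 → ∃ g : G, g⁻¹ * y * g ∈ H := by
    intro y hy hy1
    set q := (orderOf y).minFac with hq
    have hqp : q.Prime := Nat.minFac_prime fun h => hy1 (orderOf_eq_one_iff.1 h)
    haveI := Fact.mk hqp
    set x := y ^ (orderOf y / q) with hx
    have hxo : orderOf x = q := by
      rw [hx, orderOf_pow_orderOf_div (orderOf_pos y).ne' (Nat.minFac_dvd _)]
    have hqi : ¬ q ∣ H.index := fun h => hqp.not_dvd_one
      (hHall ▸ Nat.dvd_gcd (hK q hqp ((Nat.minFac_dvd _).trans (Subgroup.orderOf_dvd_natCard _ hy))) h)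
    obtain ⟨Q, -, hQH⟩ := CfsgLib.Perm.exists_sylow_between hqi IsPGroup.of_bot (bot_le (a := H))
    have hxp : IsPGroup q (Subgroup.zpowers x) := IsPGroup.of_card (n := 1) (by rw [Nat.card_zpowers, hxo, pow_one])
    obtain ⟨Q', hQ'⟩ := hxp.exists_le_sylow
    obtain ⟨g, rfl⟩ := MulAction.exists_smul_eq G Q Q'
    have hxg : x ∈ MulAut.conj g • (Q : Subgroup G) := hQ' (Subgroup.mem_zpowers x)
    rw [Subgroup.mem_pointwise_smul_iff_inv_smul_mem, ← map_inv, MulAut.smul_def, MulAut.conj_apply,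
      inv_inv] at hxg
    refine ⟨g, stab g x y (fun h => ?_) (hQH hxg) hy ?_⟩
    · rw [h, orderOf_one] at hxo; exact hqp.ne_one hxo.symm
    · rw [show y * x * y⁻¹ = x by rw [hx, (Commute.self_pow y _).eq, mul_inv_cancel_right]]
      exact hQH hxg
  suffices h : ∃ g : G, ∀ y ∈ K, g⁻¹ * y * g ∈ H by
    obtain ⟨g, hg⟩ := h
    exact ⟨g, fun y hy => ⟨g⁻¹ * y * g, hg y hy, by simp [mul_assoc]⟩⟩
  by_contra hcon
  push Not at hcon
  -- a proper non-trivial trace and the injection attached to it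
  let L : G → Subgroup G := fun g => K ⊓ H.map (MulAut.conj g).toMonoidHom
  have hLmem : ∀ g y, y ∈ L g ↔ y ∈ K ∧ g⁻¹ * y * g ∈ H := by
    intro g y
    refine and_congr Iff.rfl ?_
    exact CfsgLib.Solv.mem_map_conj_iff
  have hLK : ∀ g, L g ≤ K := fun g => inf_le_left
  let F : ∀ g : G, (K ⧸ (L g).subgroupOf K) × {x : ↥(L g) // x ≠ 1} → {y : K // y ≠ 1} := fun g p =>
    ⟨⟨(p.1.out : G) * (p.2.1 : G) * (p.1.out : G)⁻¹,
      K.mul_mem (K.mul_mem p.1.out.2 (hLK g p.2.1.2)) (K.inv_mem p.1.out.2)⟩,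
      fun h => p.2.2 (Subtype.ext (conj_eq_one_iff.1 (congrArg Subtype.val h)))⟩
  have hFinj : ∀ g, Function.Injective (F g) := by
    rintro g ⟨a, x⟩ ⟨b, y⟩ h
    have h1 : (a.out : G) * (x.1 : G) * (a.out : G)⁻¹ = (b.out : G) * (y.1 : G) * (b.out : G)⁻¹ :=
      congrArg (fun t => ((t.1 : K) : G)) h
    have hab : a = b := by
      rw [← a.out_eq, ← b.out_eq]
      apply QuotientGroup.eq.2
      rw [Subgroup.mem_subgroupOf, hLmem]
      refine ⟨(a.out⁻¹ * b.out).2, ?_⟩
      refine stab g y.1 _ (fun he => y.2 (Subtype.ext he)) ((hLmem _ _).1 y.1.2).2 (a.out⁻¹ * b.out).2 ?_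
      have : ((a.out⁻¹ * b.out : K) : G) * y.1 * ((a.out⁻¹ * b.out : K) : G)⁻¹ = x.1 := by
        simp only [Subgroup.coe_mul, InvMemClass.coe_inv]
        calc _ = (a.out : G)⁻¹ * ((b.out : G) * (y.1 : G) * (b.out : G)⁻¹) * a.out := by group
          _ = _ := by rw [← h1]; group
      rw [this]
      exact ((hLmem _ _).1 x.1.2).2
    subst hab
    simp only [Prod.mk.injEq, true_and]
    exact Subtype.ext (Subtype.ext (mul_left_cancel (mul_right_cancel h1)))
  have hbound : ∀ g, (∃ z ∈ L g, z ≠ 1) →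
      Nat.card K ≤ 2 * Nat.card ((K ⧸ (L g).subgroupOf K) × {x : ↥(L g) // x ≠ 1}) ∧
        Nat.card ((K ⧸ (L g).subgroupOf K) × {x : ↥(L g) // x ≠ 1}) < Nat.card {y : K // y ≠ 1} := by
    rintro g ⟨z, hz, hz1⟩
    haveI := Fintype.ofFinite G
    have e1 : Nat.card {x : ↥(L g) // x ≠ 1} = Nat.card (L g) - 1 := by
      rw [Nat.card_eq_fintype_card, Nat.card_eq_fintype_card, Fintype.card_subtype_compl,
        Fintype.card_subtype_eq]
    have e2 : Nat.card {y : K // y ≠ 1} = Nat.card K - 1 := by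
      rw [Nat.card_eq_fintype_card, Nat.card_eq_fintype_card, Fintype.card_subtype_compl,
        Fintype.card_subtype_eq]
    have e3 : (L g).relIndex K * Nat.card (L g) = Nat.card K := by
      rw [mul_comm]; exact CfsgLib.Solv.relIndex_mul_card (hLK g)
    rw [Nat.card_prod, e1, e2]
    show Nat.card K ≤ 2 * ((L g).relIndex K * (Nat.card (L g) - 1)) ∧
      (L g).relIndex K * (Nat.card (L g) - 1) < Nat.card K - 1
    have e4 : 2 ≤ Nat.card (L g) := by
      refine Finite.one_lt_card_iff_nontrivial.2 ⟨⟨⟨z, hz⟩, 1, fun h => hz1 (congrArg Subtype.val h)⟩⟩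
    have e5 : 2 ≤ (L g).relIndex K := by
      have h1 : (L g).relIndex K ≠ 0 := Subgroup.index_ne_zero_of_finite
      have h2 : (L g).relIndex K ≠ 1 := fun h => by
        obtain ⟨y, hy, hyn⟩ := hcon g
        exact hyn ((hLmem _ _).1 (Subgroup.relIndex_eq_one.1 h hy)).2
      omega
    obtain ⟨l, hl⟩ : ∃ l, Nat.card (L g) = l + 1 := ⟨Nat.card (L g) - 1, by omega⟩
    rw [hl, Nat.mul_add, mul_one] at e3
    rw [hl, Nat.add_sub_cancel]
    have e6 : (L g).relIndex K * 1 ≤ (L g).relIndex K * l := Nat.mul_le_mul_left _ (by omega)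
    omega
  obtain ⟨y₀, hy₀, hy₀1⟩ : ∃ y ∈ K, y ≠ 1 := by
    by_contra h
    push Not at h
    obtain ⟨y, hy, hyn⟩ := hcon 1
    exact hyn (by rw [h y hy]; simp)
  obtain ⟨g, hg⟩ := cover y₀ hy₀ hy₀1
  obtain ⟨hg1, hg2⟩ := hbound g ⟨y₀, (hLmem _ _).2 ⟨hy₀, hg⟩, hy₀1⟩
  obtain ⟨⟨y, hy1⟩, hy⟩ : ∃ y, y ∉ Set.range (F g) := by
    by_contra h
    push Not at h
    exact hg2.not_ge (Nat.card_le_card_of_surjective _ fun y => h y)
  obtain ⟨g', hg'⟩ := cover y y.2 (fun h => hy1 (Subtype.ext h))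
  obtain ⟨hg1', -⟩ := hbound g' ⟨y, (hLmem _ _).2 ⟨y.2, hg'⟩, fun h => hy1 (Subtype.ext h)⟩
  -- the two families are disjoint
  have hinj : Function.Injective (Sum.elim (F g) (F g')) := by
    refine (hFinj g).sumElim (hFinj g') ?_
    rintro ⟨a, x⟩ ⟨b, w⟩ h
    apply hy
    have h1 : (a.out : G) * (x.1 : G) * (a.out : G)⁻¹ = (b.out : G) * (w.1 : G) * (b.out : G)⁻¹ :=
      congrArg (fun t => ((t.1 : K) : G)) h
    set k : K := b.out⁻¹ * a.out with hk
    have hkG : (k : G) = (b.out : G)⁻¹ * (a.out : G) := by simp [hk]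
    have hyk : ((k : G) * g)⁻¹ * y * ((k : G) * g) ∈ H := by
      refine uniq g' ((k : G) * g) w.1 y (fun he => w.2 (Subtype.ext he)) ((hLmem _ _).1 w.1.2).2 ?_ hg'
      have : ((k : G) * g)⁻¹ * w.1 * ((k : G) * g) = g⁻¹ * x.1 * g := by
        rw [hkG]
        calc _ = g⁻¹ * ((a.out : G)⁻¹ * ((b.out : G) * w.1 * (b.out : G)⁻¹) * a.out) * g := by group
          _ = _ := by rw [← h1]; group
      rw [this]
      exact ((hLmem _ _).1 x.1.2).2
    set q : K ⧸ (L g).subgroupOf K := QuotientGroup.mk k with hq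
    have hl : (q.out : G)⁻¹ * k ∈ L g := by
      have := QuotientGroup.eq.1 (q.out_eq.trans hq)
      exact Subgroup.mem_subgroupOf.1 this
    have hz : (k : G)⁻¹ * y * k ∈ L g := by
      refine (hLmem _ _).2 ⟨K.mul_mem (K.mul_mem (K.inv_mem k.2) y.2) k.2, ?_⟩
      simpa [mul_assoc] using hyk
    have hz' : (q.out : G)⁻¹ * y * q.out ∈ L g := by
      have := (L g).mul_mem ((L g).mul_mem hl hz) ((L g).inv_mem hl)
      simpa [mul_assoc] using this
    refine ⟨(q, ⟨⟨_, hz'⟩, fun he => hy1 (Subtype.ext ?_)⟩), Subtype.ext (Subtype.ext ?_)⟩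
    · have := congrArg (fun t => (q.out : G) * t * (q.out : G)⁻¹) (congrArg Subtype.val he)
      simpa [mul_assoc] using this
    · show (q.out : G) * ((q.out : G)⁻¹ * y * q.out) * (q.out : G)⁻¹ = y
      group
  have h := Nat.card_le_card_of_injective _ hinj
  rw [Nat.card_sum] at h
  have hlt : Nat.card {y : K // y ≠ 1} < Nat.card K := Finite.card_subtype_lt (x := (1 : K)) (by simp)
  omega

end Cfsg.Agent.S4116
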