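import Cfsg.Statements.S4115

import Mathlib
import Cfsg.Agent.S4116
import Cfsg.Agent.S0877
import Cfsg.Agent.Perm.PiClosed
import Cfsg.Agent.Solv.CoprimeAction

set_option autoImplicit false
set_option linter.style.haveILetI false
universe u
open Cfsg

namespace Cfsg.Agent.S4115
open scoped Pointwise

/-- Let G be a finite group and H a subgroup that meets each of its conjugates by elements outside N_G(H) trivially and whose order is coprime to its index in N_G(H). Then H has a normal complement in N_G(H) if and only if H has a normal complement in G. Moreover, if H is not normal in G and has a normal complement in N_G(H), then H is isomorphic to a Frobenius complement of some finite Frobenius group. -/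
theorem result {G : Type u} [Group G] [Finite G] (H : Subgroup G)
    (hTI : Cfsg.IsTISubset (H : Set G)) (hHall : (Nat.card H).Coprime (H.subgroupOf (Subgroup.normalizer (H : Set G))).index) :
    ((∃ K : Subgroup (Subgroup.normalizer (H : Set G)), K.Normal ∧ K.IsComplement' (H.subgroupOf (Subgroup.normalizer (H : Set G)))) ↔
      (∃ N : Subgroup G, N.Normal ∧ N.IsComplement' H)) ∧
    (¬ H.Normal → (∃ K : Subgroup (Subgroup.normalizer (H : Set G)), K.Normal ∧ K.IsComplement' (H.subgroupOf (Subgroup.normalizer (H : Set G)))) →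
      ∃ (F : Type u) (_ : Group F) (_ : Finite F) (C : Subgroup F), Cfsg.IsFrobeniusComplement C ∧ Nonempty (H ≃* C)) := by
  classical
  set N := Subgroup.normalizer (H : Set G) with hN
  have hHN : H ≤ N := Subgroup.le_normalizer
  set H' := H.subgroupOf N with hH'
  haveI : H'.Normal := Subgroup.normal_in_normalizer
  have hH'card : Nat.card H' = Nat.card H := Nat.card_congr (Subgroup.subgroupOfEquivOfLe hHN).toEquiv
  have hnorm : ∀ g : G, ∀ x ∈ H, x ≠ 1 → g * x * g⁻¹ ∈ H → g ∈ N := fun g x hx hx1 hgx => by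
    by_contra hg
    exact hx1 (hTI g hg x hx hgx)
  have hall : (Nat.card H).Coprime H.index := by
    refine Nat.coprime_of_dvd fun q hq hqH hqi => ?_
    haveI := Fact.mk hq
    obtain ⟨Q⟩ := (inferInstance : Nonempty (Sylow q H))
    obtain ⟨R, hR⟩ := (Q.2.map H.subtype).exists_le_sylow
    set Q' := (Q : Subgroup H).map H.subtype with hQ'
    have hQne : Q' ≠ ⊥ := fun e => Q.ne_bot_of_dvd_card hqH
      ((Subgroup.map_eq_bot_iff_of_injective _ H.subtype_injective).mp e)
    have hQR : Q' = (R : Subgroup G) := by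
      refine le_antisymm hR ?_
      by_contra hne
      haveI := R.2.isNilpotent
      have hlt : Q'.subgroupOf (R : Subgroup G) < ⊤ := lt_top_iff_ne_top.mpr fun e => hne (Subgroup.subgroupOf_eq_top.mp e)
      refine (not_le_of_gt (Group.normalizerCondition_of_isNilpotent (G := (R : Subgroup G)) _ hlt)) fun y hy => ?_
      obtain ⟨x, hx, hx1⟩ := Q'.bot_or_exists_ne_one.resolve_left hQne
      have hxH : x ∈ H := Subgroup.map_subtype_le _ hx
      have hyx : (y : G) * x * (y : G)⁻¹ ∈ Q' := (Subgroup.mem_normalizer_iff.mp hy ⟨x, hR hx⟩).mp hx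
      have hyN : (y : G) ∈ N := hnorm y x hxH hx1 (Subgroup.map_subtype_le _ hyx)
      have hmem : (⟨y, hyN⟩ : N) ∈ H' := by
        refine CfsgLib.Perm.PiClosed.mem_of_piNat (π := {r : ℕ | r ∣ Nat.card H}) (N := H') ?_ ?_
        · intro r hr hrd hrH
          exact hr.not_dvd_one (hHall ▸ Nat.dvd_gcd hrH hrd)
        · intro r hr hrd
          rw [Subgroup.orderOf_mk] at hrd
          obtain ⟨j, hj⟩ := IsPGroup.iff_orderOf.mp R.2 y
          rw [← Subgroup.orderOf_coe] at hj
          rw [hj] at hrd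
          show r ∣ Nat.card H
          rwa [(Nat.prime_dvd_prime_iff_eq hr hq).mp (hr.dvd_of_dvd_pow hrd)]
      have hle : (Q : Subgroup H) ≤ (R : Subgroup G).subgroupOf H := fun z hz => hR ⟨z, hz, rfl⟩
      rw [Subgroup.mem_subgroupOf]
      exact ⟨⟨y, hmem⟩, (Q.3 (R.2.comap_subtype (K := H)) hle) ▸ (y.2 : (y : G) ∈ (R : Subgroup G)), rfl⟩
    obtain ⟨a, ha⟩ := IsPGroup.iff_card.mp R.2
    have h1 : q ^ a ∣ Nat.card H := ha ▸ hQR ▸ Subgroup.card_dvd_of_le (Subgroup.map_subtype_le _)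
    have h2 : q ^ (a + 1) ∣ Nat.card G := by
      rw [pow_succ, ← H.card_mul_index]; exact Nat.mul_dvd_mul h1 hqi
    have h3 := R.pow_dvd_card_of_pow_dvd_card h2
    rw [ha] at h3
    have := (Nat.pow_dvd_pow_iff_le_right hq.one_lt).mp h3
    omega
  have hfwd : (∃ K : Subgroup N, K.Normal ∧ K.IsComplement' H') → ∃ M : Subgroup G, M.Normal ∧ M.IsComplement' H := by
    rintro ⟨K, hKn, hKc⟩
    have hfus : ∀ x ∈ H, ∀ y ∈ H, IsConj x y → ∃ h ∈ H, h * x * h⁻¹ = y := by
      intro x hx y hy hxy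
      by_cases hx1 : x = 1
      · refine ⟨1, H.one_mem, ?_⟩
        obtain ⟨c, hc⟩ := isConj_iff.mp hxy
        rw [← hc, hx1]; simp
      obtain ⟨g, hg⟩ := isConj_iff.mp hxy
      have hgN := hnorm g x hx hx1 (hg.symm ▸ hy)
      obtain ⟨⟨⟨k, hk⟩, ⟨h, hh⟩⟩, hkh⟩ := hKc.2 ⟨g, hgN⟩
      simp only at hkh
      have hcm := Subgroup.commute_of_normal_of_disjoint _ _ hKn (inferInstance : H'.Normal) hKc.disjoint k
        ⟨(h : G) * x * (h : G)⁻¹, hHN (H.mul_mem (H.mul_mem hh hx) (H.inv_mem hh))⟩ hk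
        (Subgroup.mem_subgroupOf.mpr (H.mul_mem (H.mul_mem hh hx) (H.inv_mem hh)))
      refine ⟨(h : G), hh, ?_⟩
      have e : (k : G) * h = g := congrArg Subtype.val hkh
      rw [← hg, ← e]
      have h1 : (k : G) * ((h : G) * x * (h : G)⁻¹) = ((h : G) * x * (h : G)⁻¹) * k := congrArg Subtype.val hcm
      calc (h : G) * x * (h : G)⁻¹ = ((h : G) * x * (h : G)⁻¹) * k * (k : G)⁻¹ := by group
        _ = (k : G) * ((h : G) * x * (h : G)⁻¹) * (k : G)⁻¹ := by rw [h1]
        _ = (k : G) * h * x * ((k : G) * h)⁻¹ := by group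
    have helem : ∀ (E : Subgroup G) (p : ℕ), p.Prime → Cfsg.IsElementary p E → Nat.card E ∣ Nat.card H →
        ∃ g : G, E.map (MulAut.conj g).toMonoidHom ≤ H := by
      intro E p hp hE hdvd
      obtain ⟨g, hg⟩ := Cfsg.Agent.S4116.result H hall hTI E fun r hr hrE => hrE.trans hdvd
      refine ⟨g⁻¹, ?_⟩
      rintro _ ⟨e, he, rfl⟩
      obtain ⟨h, hh, hhe⟩ := hg he
      rw [← hhe]
      simpa [mul_assoc] using hh
    obtain ⟨M, hMn, hMsup, hMinf⟩ := Cfsg.Agent.S0877.result H hall hfus helem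
    haveI := hMn
    refine ⟨M, hMn, Subgroup.isComplement'_of_disjoint_and_mul_eq_univ (disjoint_iff.mpr hMinf) ?_⟩
    rw [← Subgroup.normal_mul, hMsup]; try rfl
  refine ⟨⟨hfwd, ?_⟩, ?_⟩
  · rintro ⟨M, hMn, hMc⟩
    haveI := hMn
    refine ⟨M.subgroupOf N, Subgroup.Normal.subgroupOf hMn N, Subgroup.isComplement'_of_disjoint_and_mul_eq_univ ?_ ?_⟩
    · rw [disjoint_iff, Subgroup.eq_bot_iff_forall]
      rintro y ⟨hy1, hy2⟩
      exact Subtype.ext (Subgroup.mem_bot.mp (hMc.disjoint.le_bot ⟨hy1, hy2⟩))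
    · rw [Set.eq_univ_iff_forall]
      intro g
      obtain ⟨⟨⟨m, hm⟩, ⟨h, hh⟩⟩, hmh⟩ := hMc.2 (g : G)
      simp only at hmh
      have hmN : m ∈ N := by
        rw [show m = (g : G) * h⁻¹ by rw [← hmh, mul_inv_cancel_right]]
        exact N.mul_mem g.2 (N.inv_mem (hHN hh))
      exact ⟨⟨m, hmN⟩, hm, ⟨h, hHN hh⟩, hh, Subtype.ext hmh⟩
  intro hnn hex
  obtain ⟨M, hMn, hMc⟩ := hfwd hex
  haveI := hMn
  have hHne : H ≠ ⊥ := fun e => hnn (e ▸ inferInstance)
  have hMH : ∀ z, z ∈ M → z ∈ H → z = 1 := fun z h1 h2 => Subgroup.mem_bot.mp (hMc.disjoint.le_bot ⟨h1, h2⟩)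
  set Z := Subgroup.centralizer (H : Set G) with hZ
  have hfix : ∀ m ∈ M, ∀ h ∈ H, h ≠ 1 → m * h = h * m → m ∈ Z := by
    intro m hm h hh h1 hmh
    have hmN : m ∈ N := hnorm m h hh h1 (by rw [hmh, mul_inv_cancel_right]; exact hh)
    rw [hZ, Subgroup.mem_centralizer_iff]
    intro y hy
    have e : m * y * m⁻¹ * y⁻¹ = 1 := hMH _
      (by rw [show m * y * m⁻¹ * y⁻¹ = m * (y * m⁻¹ * y⁻¹) by group]; exact M.mul_mem hm (hMn.conj_mem _ (M.inv_mem hm) y))
      (H.mul_mem ((Subgroup.mem_normalizer_iff.mp hmN y).mp hy) (H.inv_mem hy))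
    rw [mul_inv_eq_one, mul_inv_eq_iff_eq_mul] at e
    exact e.symm
  have hMcard : Nat.card M = H.index := by rw [← hMc.index_eq_card]
  have hMidx : M.index = Nat.card H := by rw [← hMc.symm.index_eq_card]
  -- an invariant Sylow subgroup of `M` not centralized by `H`
  obtain ⟨q, hq, Q, hQp, hQM, hHQ, hQZ⟩ : ∃ (q : ℕ) (_ : Fact q.Prime) (Q : Subgroup G), IsPGroup q Q ∧ Q ≤ M ∧
      H ≤ Subgroup.normalizer (Q : Set G) ∧ ¬ Q ≤ Z := by
    by_contra hcon
    push Not at hcon
    apply hnn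
    have hMZ : M ≤ Z := by
      rw [← Subgroup.subgroupOf_eq_top, ← Subgroup.index_eq_one]
      by_contra hne
      obtain ⟨q, hq, hqd⟩ := Nat.exists_prime_and_dvd hne
      haveI := Fact.mk hq
      obtain ⟨P⟩ := (inferInstance : Nonempty (Sylow q M))
      set Q := (P : Subgroup M).map M.subtype with hQ
      set T := Subgroup.normalizer (Q : Set G) with hT
      have htop : T ⊔ M = ⊤ := Sylow.normalizer_sup_eq_top P
      set M' := M.subgroupOf T
      haveI : M'.Normal := Subgroup.Normal.subgroupOf hMn T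
      have hM'i : M'.index = Nat.card H := by
        rw [← hMidx, ← Subgroup.relIndex_top_right M, ← htop]
        exact (Subgroup.relIndex_sup_right _ _).symm
      obtain ⟨C₀, hC₀⟩ := Subgroup.exists_right_complement'_of_coprime (N := M') (by
        rw [hM'i]
        refine Nat.Coprime.coprime_dvd_left ?_ (hMcard ▸ hall.symm)
        exact Subgroup.card_comap_dvd_of_injective M T.subtype T.subtype_injective)
      have hC₀c : Nat.card (C₀.map T.subtype) = Nat.card H := by
        rw [← Nat.card_congr (C₀.equivMapOfInjective T.subtype T.subtype_injective).toEquiv,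
          ← hC₀.symm.index_eq_card, hM'i]
      obtain ⟨g, hg⟩ := Cfsg.Agent.S4116.result H hall hTI (C₀.map T.subtype) fun r _ hr => hC₀c ▸ hr
      have heq : C₀.map T.subtype = H.map (MulAut.conj g).toMonoidHom := Subgroup.eq_of_le_of_card_ge hg (le_of_eq (by
        rw [hC₀c]; exact (Nat.card_congr (H.equivMapOfInjective _ (MulAut.conj g).injective).toEquiv).symm))
      have hle : Q.map (MulAut.conj g⁻¹).toMonoidHom ≤ Z := by
        refine hcon q ⟨hq⟩ _ (P.2.map _ |>.map _) ?_ ?_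
        · rintro _ ⟨z, hz, rfl⟩
          exact hMn.conj_mem z (Subgroup.map_subtype_le _ hz) g⁻¹
        · intro h hh
          have hmem : MulAut.conj g h ∈ T := Subgroup.map_subtype_le C₀ (heq.symm ▸ Subgroup.mem_map_of_mem _ hh)
          have := Subgroup.le_normalizer_map (MulAut.conj g⁻¹).toMonoidHom (Subgroup.mem_map_of_mem _ hmem)
          simpa [mul_assoc] using this
      refine hq.not_dvd_one ?_
      set P' := ((Q.map (MulAut.conj g⁻¹).toMonoidHom)).subgroupOf M with hP'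
      have hsub : Q.map (MulAut.conj g⁻¹).toMonoidHom ≤ M := by
        rintro _ ⟨z, hz, rfl⟩
        exact hMn.conj_mem z (Subgroup.map_subtype_le _ hz) g⁻¹
      have hP'c : Nat.card P' = Nat.card (P : Subgroup M) := by
        rw [hP', Nat.card_congr (Subgroup.subgroupOfEquivOfLe hsub).toEquiv,
          ← Nat.card_congr (Q.equivMapOfInjective _ (MulAut.conj g⁻¹).injective).toEquiv,
          ← Nat.card_congr ((P : Subgroup M).equivMapOfInjective M.subtype M.subtype_injective).toEquiv]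
      have h1 : q ∣ P'.index := hqd.trans (Subgroup.index_dvd_of_le (fun z hz => hle hz))
      have h2 : P'.index = (P : Subgroup M).index := by
        have e1 := P'.card_mul_index
        have e2 := (P : Subgroup M).card_mul_index
        rw [hP'c] at e1
        exact Nat.eq_of_mul_eq_mul_left Nat.card_pos (e1.trans e2.symm)
      exact absurd (h2 ▸ h1) P.not_dvd_index
    refine ⟨fun h hh g => ?_⟩
    obtain ⟨⟨⟨m, hm⟩, ⟨y, hy⟩⟩, hmy⟩ := hMc.2 g
    simp only at hmy
    rw [← hmy]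
    have h1 : y * h * y⁻¹ ∈ H := H.mul_mem (H.mul_mem hy hh) (H.inv_mem hy)
    rw [show m * y * h * (m * y)⁻¹ = m * (y * h * y⁻¹) * m⁻¹ by group,
      ← Subgroup.mem_centralizer_iff.mp (hMZ hm) _ h1, mul_inv_cancel_right]
    exact h1
  set D := Q ⊓ Z with hD
  haveI := hQp.isNilpotent
  have hlt : D.subgroupOf Q < ⊤ := lt_top_iff_ne_top.mpr fun e => hQZ ((Subgroup.subgroupOf_eq_top.mp e).trans inf_le_right)
  obtain ⟨u₀', hu₀N, hu₀D⟩ := SetLike.exists_of_lt (Group.normalizerCondition_of_isNilpotent (G := Q) _ hlt)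
  set U := Q ⊓ Subgroup.normalizer (D : Set G) with hU
  have hu₀ : (u₀' : G) ∈ U := ⟨u₀'.2, Subgroup.mem_normalizer_fintype fun z hz =>
    (Subgroup.mem_normalizer_iff.mp hu₀N ⟨z, hz.1⟩).mp hz⟩
  have hHD : H ≤ Subgroup.normalizer (D : Set G) := fun h hh => Subgroup.centralizer_le_normalizer _ (by
    rw [Subgroup.mem_centralizer_iff]
    intro z hz
    exact (Subgroup.mem_centralizer_iff.mp (hz.2 : z ∈ Z) h hh).symm)
  have hHU : H ≤ Subgroup.normalizer (U : Set G) := by
    intro h hh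
    refine Subgroup.mem_normalizer_fintype fun z hz => ?_
    exact ⟨(Subgroup.mem_normalizer_iff.mp (hHQ hh) z).mp hz.1,
      (Subgroup.normalizer (D : Set G)).mul_mem ((Subgroup.normalizer (D : Set G)).mul_mem (hHD hh) hz.2)
        ((Subgroup.normalizer (D : Set G)).inv_mem (hHD hh))⟩
  have hUM : U ≤ M := inf_le_left.trans hQM
  have hDM : D ≤ M := inf_le_left.trans hQM
  set T := U ⊔ H with hT
  set D' := D.subgroupOf T with hD'
  haveI : D'.Normal := Subgroup.normal_subgroupOf_of_le_normalizer (sup_le inf_le_right hHD)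
  set π := QuotientGroup.mk' D' with hπ
  set C := (H.subgroupOf T).map π with hC
  have hker : ∀ z : T, π z = 1 ↔ (z : G) ∈ D := fun z => QuotientGroup.eq_one_iff z
  have hinjH : Function.Injective (π.comp (Subgroup.inclusion (le_sup_right : H ≤ T))) := by
    rw [injective_iff_map_eq_one]
    intro h hh
    exact Subtype.ext (hMH _ (hDM ((hker _).mp hh)) h.2)
  refine ⟨(↥T ⧸ D'), inferInstance, inferInstance, C, ⟨?_, ?_, ?_⟩, ?_⟩
  · intro e
    obtain ⟨h, hh, h1⟩ := H.bot_or_exists_ne_one.resolve_left hHne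
    have hmem : π ⟨h, Subgroup.mem_sup_right hh⟩ ∈ C := Subgroup.mem_map_of_mem _ hh
    rw [e, Subgroup.mem_bot, hker] at hmem
    exact h1 (hMH _ (hDM hmem) hh)
  · intro e
    have hmem : π ⟨u₀', Subgroup.mem_sup_left hu₀⟩ ∈ C := e ▸ Subgroup.mem_top _
    obtain ⟨y, hy, hye⟩ := hmem
    rw [eq_comm, ← inv_mul_eq_one, ← map_inv, ← map_mul, hker] at hye
    have h1 : (y : G) ∈ M := by
      have := M.mul_mem (hUM hu₀) (hDM hye)
      simpa using this
    have h2 : (u₀' : G)⁻¹ ∈ D := by simpa [hMH _ h1 hy] using hye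
    exact hu₀D (inv_mem_iff.mp h2)
  · intro g hg
    rw [Subgroup.eq_bot_iff_forall]
    rintro w ⟨hw1, hw2⟩
    obtain ⟨g', rfl⟩ := QuotientGroup.mk'_surjective D' g
    obtain ⟨u, hu, h, hh, hg'⟩ : (g' : G) ∈ (U : Set G) * (H : Set G) := by
      rw [← Subgroup.coe_mul_of_right_le_normalizer_left U H hHU]; exact g'.2
    simp only at hg'
    obtain ⟨c, hc, hcw⟩ := hw1
    obtain ⟨c', hc', hcw'⟩ := Subgroup.mem_pointwise_smul_iff_inv_smul_mem.mp hw2
    simp only [MulAut.smul_def, MulAut.inv_apply, MulAut.conj_symm_apply] at hcw'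
    have hrel : π (g' * c' * g'⁻¹) = π c := by
      rw [map_mul, map_mul, map_inv, hcw', hcw, hπ]; group
    rw [eq_comm, ← inv_mul_eq_one, ← map_inv, ← map_mul, hker] at hrel
    simp only [Subgroup.coe_mul, InvMemClass.coe_inv] at hrel
    rw [← hg'] at hrel
    set c₂ := h * (c' : G) * h⁻¹ with hc₂
    have hc₂H : c₂ ∈ H := H.mul_mem (H.mul_mem hh hc') (H.inv_mem hh)
    have hrel' : (c : G)⁻¹ * (u * c₂ * u⁻¹) ∈ D := by
      rw [hc₂]
      convert hrel using 1
      group
    have hcc : (c : G) = c₂ := by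
      have h1 : (c : G)⁻¹ * c₂ ∈ M := by
        have e : (c : G)⁻¹ * c₂ = ((c : G)⁻¹ * u⁻¹ * (c : G)) * ((c : G)⁻¹ * (u * c₂ * u⁻¹)) * u := by group
        rw [e]
        refine M.mul_mem (M.mul_mem ?_ (hDM hrel')) (hUM hu)
        simpa using hMn.conj_mem _ (M.inv_mem (hUM hu)) (c : G)⁻¹
      exact inv_mul_eq_one.mp (hMH _ h1 (H.mul_mem (H.inv_mem hc) hc₂H))
    rw [← hcc] at hrel'
    by_contra hw
    have hc1 : (c : G) ≠ 1 := fun e => hw (by
      rw [← hcw, show c = 1 from Subtype.ext e, map_one])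
    have hπu : Commute (π c) (π ⟨u, Subgroup.mem_sup_left hu⟩) := by
      have h1 : π (c⁻¹ * (⟨u, Subgroup.mem_sup_left hu⟩ * c * ⟨u, Subgroup.mem_sup_left hu⟩⁻¹)) = 1 :=
        (hker _).mpr hrel'
      rw [map_mul, map_mul, map_mul, map_inv, map_inv, inv_mul_eq_one, eq_mul_inv_iff_mul_eq] at h1
      exact h1
    obtain ⟨d, hd, hud⟩ := CfsgLib.Solv.exists_centralizing_in_coset (A := Subgroup.zpowers (c : G)) (K := U)
      (D := D) ((Subgroup.zpowers_le.mpr (show (c : G) ∈ H from hc)).trans hHU) (by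
        rw [Subgroup.eq_bot_iff_forall]
        rintro z ⟨hz1, hz2⟩
        exact hMH z (hUM hz2) (Subgroup.zpowers_le.mpr (show (c : G) ∈ H from hc) hz1)) (le_inf inf_le_left Subgroup.le_normalizer)
      ((Subgroup.zpowers_le.mpr (show (c : G) ∈ H from hc)).trans hHD)
      (Nat.Coprime.coprime_dvd_left (Subgroup.card_dvd_of_le (Subgroup.zpowers_le.mpr (show (c : G) ∈ H from hc)))
        (Nat.Coprime.coprime_dvd_right (Subgroup.card_dvd_of_le hDM) (hMcard ▸ hall)))
      (Or.inl (Group.isSolvable_of_comm fun a b => Subtype.ext (by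
        obtain ⟨i, hi⟩ := Subgroup.mem_zpowers_iff.1 a.2
        obtain ⟨j, hj⟩ := Subgroup.mem_zpowers_iff.1 b.2
        rw [Subgroup.coe_mul, Subgroup.coe_mul, ← hi, ← hj, ← zpow_add, ← zpow_add, add_comm]))) hu
      (fun a ha => by
        obtain ⟨i, rfl⟩ := Subgroup.mem_zpowers_iff.mp ha
        have h1 : π (⟨u, Subgroup.mem_sup_left hu⟩⁻¹ * c ^ i * ⟨u, Subgroup.mem_sup_left hu⟩ * (c ^ i)⁻¹) = 1 := by
          rw [map_mul, map_mul, map_mul, map_inv, map_inv, map_zpow, mul_assoc ((π ⟨u, _⟩)⁻¹),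
            (hπu.zpow_left i).eq, inv_mul_cancel_left, mul_inv_cancel]
        have := (hker _).mp h1
        simpa using this)
    have hudZ : u * d ∈ Z := hfix _ (M.mul_mem (hUM hu) (hDM hd)) c hc hc1
      (Subgroup.mem_centralizer_iff.mp hud c (Subgroup.mem_zpowers _)).symm
    have hudD : u * d ∈ D := ⟨Q.mul_mem hu.1 hd.1, hudZ⟩
    have huD : u ∈ D := by simpa using D.mul_mem hudD (D.inv_mem hd)
    apply hg
    refine ⟨⟨h, Subgroup.mem_sup_right hh⟩, hh, ?_⟩
    rw [← inv_mul_eq_one, ← map_inv, ← map_mul, hker]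
    simp only [Subgroup.coe_mul, InvMemClass.coe_inv, ← hg']
    have h3 : h⁻¹ * u * h ∈ D := by
      have := (Subgroup.mem_normalizer_iff''.mp (hHD hh) u).mp huD
      exact this
    simpa [mul_assoc] using h3
  · let f := π.comp (Subgroup.inclusion (le_sup_right : H ≤ T))
    have hrange : f.range = C := by
      rw [MonoidHom.range_comp, Subgroup.inclusion_range]
    exact ⟨(MonoidHom.ofInjective hinjH).trans (MulEquiv.subgroupCongr hrange)⟩

end Cfsg.Agent.S4115
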