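import Cfsg.Statements.S4117

import Mathlib
import Cfsg.Agent.Solv.CoprimeAction
import Cfsg.Agent.Solv.CoprimeSylow
import Cfsg.Agent.Solv.Generation

set_option autoImplicit false
set_option linter.style.haveILetI false
open Cfsg

namespace Cfsg.Agent.S4117
open scoped commutatorElement Pointwise

theorem mem_zpowers_of_cyclic {K : Type*} [Group K] [Finite K] [IsCyclic K] {q : ℕ} (hq : q.Prime) {x y : K}
    (hx : orderOf x = q) (hy : orderOf y = q) : y ∈ Subgroup.zpowers x := by
  classical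
  haveI := Fintype.ofFinite K
  by_contra hcon
  have hsub : insert y ((Finset.range q).image (fun i => x ^ i)) ⊆ Finset.univ.filter fun z : K => z ^ q = 1 := by
    intro z hz
    simp only [Finset.mem_insert, Finset.mem_image, Finset.mem_range] at hz
    simp only [Finset.mem_filter, Finset.mem_univ, true_and]
    rcases hz with rfl | ⟨i, -, rfl⟩
    · rw [← hy, pow_orderOf_eq_one]
    · rw [← pow_mul, mul_comm, pow_mul, ← hx, pow_orderOf_eq_one, one_pow]
  have h1 := (Finset.card_le_card hsub).trans (IsCyclic.card_pow_eq_one_le hq.pos)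
  rw [Finset.card_insert_of_notMem (fun h => by
    obtain ⟨i, -, hi⟩ := Finset.mem_image.1 h
    exact hcon (hi ▸ Subgroup.pow_mem _ (Subgroup.mem_zpowers x) i)), Finset.card_image_of_injOn, Finset.card_range] at h1
  · omega
  · intro i hi j hj e
    simp only [Finset.coe_range, Set.mem_Iio] at hi hj
    exact pow_injOn_Iio_orderOf (by rwa [hx]) (by rwa [hx]) e

/-- A coprime group of operators on a group with cyclic Sylow subgroups. -/
theorem coprime_zgroup {L : Type*} [Group L] [Finite L] {G A : Subgroup L} [IsZGroup G]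
    (hAG : A ≤ Subgroup.normalizer (G : Set L)) (hcop : (Nat.card A).Coprime (Nat.card G)) :
    IsCyclic (⁅G, A⁆ : Subgroup L) ∧ (Nat.card (⁅G, A⁆ : Subgroup L)).Coprime (Nat.card (G ⊓ Subgroup.centralizer (A : Set L) : Subgroup L)) ∧
      ∀ g ∈ G, ∃ x ∈ (⁅G, A⁆ : Subgroup L), ∃ c ∈ G ⊓ Subgroup.centralizer (A : Set L), g = x * c := by
  classical
  set K : Subgroup L := ⁅G, A⁆
  have hs : Group.IsSolvable A ∨ Group.IsSolvable G := Or.inr inferInstance
  have hKG : K ≤ G := CfsgLib.Solv.commutator_le_of_le_normalizer hAG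
  -- `D = G'` is cyclic and centralised by `K`
  set D : Subgroup L := (commutator G).map G.subtype
  haveI hDc : IsCyclic D := by
    haveI := IsZGroup.isCyclic_commutator (G := G)
    exact isCyclic_of_surjective ((commutator G).equivMapOfInjective _ G.subtype_injective).toMonoidHom
      ((commutator G).equivMapOfInjective _ G.subtype_injective).surjective
  have hDn : ∀ h ∈ G ⊔ A, h ∈ Subgroup.normalizer (D : Set L) := by
    have hD : D = ⁅G, G⁆ := Subgroup.map_subtype_commutator G
    intro h hh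
    have hN : G ⊔ A ≤ Subgroup.normalizer (G : Set L) := sup_le Subgroup.le_normalizer hAG
    refine CfsgLib.Solv.le_normalizer_iff_forall_conj_mem.2 (?_ : ∀ a ∈ G ⊔ A, ∀ x ∈ D, a * x * a⁻¹ ∈ D) hh
    intro a ha
    have he : MulAut.conj a • G = G := by
      refine Subgroup.eq_of_le_of_card_ge ?_ (by rw [CfsgLib.Solv.card_conj_smul])
      rintro _ ⟨g, hg, rfl⟩
      exact (Subgroup.mem_normalizer_iff.1 (hN ha) g).1 hg
    intro x hx
    have : MulAut.conj a • D = D := by
      rw [hD, CfsgLib.Solv.conj_smul_eq_map, Subgroup.map_commutator, ← CfsgLib.Solv.conj_smul_eq_map, he]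
    rw [← this]
    exact ⟨x, hx, rfl⟩
  have hKD : K ≤ Subgroup.centralizer (D : Set L) := by
    refine Subgroup.commutator_le.2 fun g hg a ha => ?_
    set φ := D.normalizerMonoidHom
    let g' : Subgroup.normalizer (D : Set L) := ⟨g, hDn g (Subgroup.mem_sup_left hg)⟩
    let a' : Subgroup.normalizer (D : Set L) := ⟨a, hDn a (Subgroup.mem_sup_right ha)⟩
    have h1 : φ ⁅g', a'⁆ = 1 := by
      rw [map_commutatorElement, commutatorElement_eq_one_iff_mul_comm]
      exact (IsCyclic.mulAutMulEquiv D).injective (by rw [map_mul, map_mul, mul_comm])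
    rw [← MonoidHom.mem_ker, Subgroup.normalizerMonoidHom_ker] at h1
    exact h1
  haveI hKc : IsCyclic K := by
    set M := G ⊓ Subgroup.centralizer (D : Set L)
    haveI : IsZGroup M := IsZGroup.of_injective (f := Subgroup.inclusion (inf_le_left : M ≤ G)) (Subgroup.inclusion_injective _)
    haveI : IsMulCommutative M := by
      let f : M →* Abelianization G := Abelianization.of.comp (Subgroup.inclusion (inf_le_left : M ≤ G))
      refine MonoidHom.isMulCommutative_of_isCyclic_of_ker_le_center f fun x hx => Subgroup.mem_center_iff.2 fun y => Subtype.ext ?_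
      have hxD : (x : L) ∈ D := ⟨Subgroup.inclusion inf_le_left x, (QuotientGroup.eq_one_iff _).1 (MonoidHom.mem_ker.1 hx), rfl⟩
      exact (Subgroup.mem_centralizer_iff.1 (Subgroup.mem_inf.1 y.2).2 _ hxD).symm
    letI : CommGroup M := { mul_comm := mul_comm' }
    haveI : Group.IsNilpotent M := CommGroup.isNilpotent
    haveI : IsCyclic M := inferInstance
    exact isCyclic_of_injective (Subgroup.inclusion (le_inf hKG hKD : K ≤ M)) (Subgroup.inclusion_injective _)
  have hKcomm : IsMulCommutative K := IsMulCommutative.mk ⟨fun a b => (IsCyclic.commGroup (α := K)).mul_comm a b⟩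
  have hcopK : (Nat.card A).Coprime (Nat.card K) := hcop.of_dvd_right (Subgroup.card_dvd_of_le hKG)
  have hKA : A ≤ Subgroup.normalizer (K : Set L) := CfsgLib.Solv.right_le_normalizer_commutator G A
  have hinf : (K ⊓ Subgroup.centralizer (A : Set L)) = ⊥ := by
    have h1 := CfsgLib.Solv.abelian_fixed_inf_commutator hKcomm hKA hcopK
    rw [CfsgLib.Solv.commutator_commutator_right hAG hcop hs] at h1
    rwa [inf_eq_left.2 inf_le_left] at h1
  refine ⟨hKc, Nat.coprime_of_dvd fun q hq hqK hqC => ?_, CfsgLib.Solv.commutator_sup_inf_centralizer hAG hcop hs⟩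
  haveI : Fact q.Prime := ⟨hq⟩
  obtain ⟨⟨c, hcm⟩, hco⟩ := exists_prime_orderOf_dvd_card' q hqC
  rw [Subgroup.orderOf_mk] at hco
  obtain ⟨hcG, hcA⟩ := Subgroup.mem_inf.1 hcm
  obtain ⟨P, hUP, hPA⟩ := CfsgLib.Solv.exists_invariant_sylow_ge (p := q) hAG hcop hs (U := Subgroup.zpowers c)
    (Subgroup.zpowers_le.2 hcG) (IsPGroup.of_card (n := 1) (by rw [Nat.card_zpowers, hco, pow_one]))
    (fun a ha => Subgroup.centralizer_le_normalizer _ (show a ∈ Subgroup.centralizer (Subgroup.zpowers c : Set L) from Subgroup.mem_centralizer_iff.2 fun z hz => by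
      obtain ⟨i, rfl⟩ := hz
      exact ((show Commute c a from ((Subgroup.mem_centralizer_iff.1 hcA) a ha).symm).zpow_left i).eq))
  set V := (P : Subgroup G).map G.subtype
  haveI hVc : IsCyclic V := isCyclic_of_surjective ((P : Subgroup G).equivMapOfInjective _ G.subtype_injective).toMonoidHom
    ((P : Subgroup G).equivMapOfInjective _ G.subtype_injective).surjective
  have hVcomm : IsMulCommutative V := IsMulCommutative.mk ⟨fun a b => (IsCyclic.commGroup (α := V)).mul_comm a b⟩
  have hVG : V ≤ G := Subgroup.map_subtype_le _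
  have hcopV : (Nat.card A).Coprime (Nat.card V) := hcop.of_dvd_right (Subgroup.card_dvd_of_le hVG)
  have hVA : (⁅V, A⁆ : Subgroup L) = ⊥ := by
    by_contra hne
    haveI : Nontrivial (⁅V, A⁆ : Subgroup L) := (Subgroup.nontrivial_iff_ne_bot _).2 hne
    have hVle : (⁅V, A⁆ : Subgroup L) ≤ V := CfsgLib.Solv.commutator_le_of_le_normalizer hPA
    obtain ⟨k, hk0, hk⟩ := ((P.2.map G.subtype).to_le hVle).nontrivial_iff_card.1 inferInstance
    obtain ⟨⟨d, hd⟩, hdo⟩ := exists_prime_orderOf_dvd_card' (G := (⁅V, A⁆ : Subgroup L)) q (hk ▸ dvd_pow_self q hk0.ne')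
    rw [Subgroup.orderOf_mk] at hdo
    have hcV : c ∈ V := hUP (Subgroup.mem_zpowers c)
    have hmem : d ∈ Subgroup.zpowers c := by
      obtain ⟨i, hi⟩ := mem_zpowers_of_cyclic hq (x := (⟨c, hcV⟩ : V)) (y := ⟨d, hVle hd⟩)
        (by rw [Subgroup.orderOf_mk, hco]) (by rw [Subgroup.orderOf_mk, hdo])
      exact ⟨i, congrArg Subtype.val hi⟩
    have h1 : d ∈ (V ⊓ Subgroup.centralizer (A : Set L)) ⊓ ⁅V, A⁆ :=
      ⟨(Subgroup.zpowers_le.2 (⟨hcV, hcA⟩ : c ∈ V ⊓ Subgroup.centralizer (A : Set L))) hmem, hd⟩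
    rw [CfsgLib.Solv.abelian_fixed_inf_commutator hVcomm hPA hcopV, Subgroup.mem_bot] at h1
    rw [h1, orderOf_one] at hdo
    exact hq.ne_one hdo.symm
  have hVC : V ≤ Subgroup.centralizer (A : Set L) := Subgroup.commutator_eq_bot_iff_le_centralizer.1 hVA
  obtain ⟨x, hx⟩ := exists_prime_orderOf_dvd_card' (G := K) q hqK
  have hxG : (x : L) ∈ G := hKG x.2
  let X : Subgroup G := Subgroup.zpowers ⟨(x : L), hxG⟩
  haveI : X.Normal := by
    have hX : ∀ g : G, g * ⟨(x : L), hxG⟩ * g⁻¹ ∈ X := by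
      intro g
      have hmem : (g : L) * x * (g : L)⁻¹ ∈ K :=
        CfsgLib.Solv.le_normalizer_iff_forall_conj_mem.1 (CfsgLib.Solv.left_le_normalizer_commutator G A) _ g.2 _ x.2
      obtain ⟨i, hi⟩ := mem_zpowers_of_cyclic hq hx (y := (⟨_, hmem⟩ : K)) (by
        rw [Subgroup.orderOf_mk, ← hx, ← Subgroup.orderOf_coe x]
        exact MulEquiv.orderOf_eq (MulAut.conj (g : L)) (x : L))
      refine ⟨i, Subtype.ext ?_⟩
      simpa using congrArg Subtype.val hi
    refine ⟨fun n hn g => ?_⟩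
    obtain ⟨i, rfl⟩ := hn
    rw [← conj_zpow]
    exact X.zpow_mem (hX g) i
  have hXP : X ≤ (P : Subgroup G) := IsPGroup.le_sylow_of_normal (IsPGroup.of_card (n := 1) (by
    rw [Nat.card_zpowers, Subgroup.orderOf_mk, Subgroup.orderOf_coe, hx, pow_one])) P
  have hxV : (x : L) ∈ V := ⟨⟨(x : L), hxG⟩, hXP (Subgroup.mem_zpowers _), rfl⟩
  have h2 : (x : L) ∈ K ⊓ Subgroup.centralizer (A : Set L) := ⟨x.2, hVC hxV⟩
  rw [hinf, Subgroup.mem_bot] at h2
  rw [← Subgroup.orderOf_coe, h2, orderOf_one] at hx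
  exact hq.ne_one hx.symm

/-- Let A be a finite group acting on the finite group G by automorphisms with the orders of A and G coprime, and suppose every Sylow subgroup of G is cyclic. Then the fixed-point subgroup C_G(A) is a Hall subgroup of G (its order is coprime to its index), the subgroup [G, A] generated by the elements g⁻¹·a(g) is cyclic and normal with [G, A] ∩ C_G(A) = 1 and [G, A]·C_G(A) = G. -/
theorem result {G A : Type*} [Group G] [Finite G] [Group A] [Finite A]
    [MulDistribMulAction A G] (hcop : (Nat.card A).Coprime (Nat.card G))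
    (hcyc : ∀ (p : ℕ) [Fact p.Prime] (P : Sylow p G), IsCyclic (P : Subgroup G)) :
    (Nat.card (MulAction.fixedPoints A G : Set G)).Coprime (Nat.card G / Nat.card (MulAction.fixedPoints A G : Set G)) ∧
    IsCyclic (Subgroup.closure {y : G | ∃ (a : A) (g : G), y = g⁻¹ * a • g}) ∧
    (Subgroup.closure {y : G | ∃ (a : A) (g : G), y = g⁻¹ * a • g}).Normal ∧
    (Subgroup.closure {y : G | ∃ (a : A) (g : G), y = g⁻¹ * a • g} : Set G) ∩ MulAction.fixedPoints A G = {1} ∧
    Subgroup.closure {y : G | ∃ (a : A) (g : G), y = g⁻¹ * a • g} ⊔ Subgroup.closure (MulAction.fixedPoints A G) = ⊤ := by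
  classical
  set φ : A →* MulAut G := MulDistribMulAction.toMulAut A G
  haveI : Finite (G ⋊[φ] A) := Finite.of_equiv _ SemidirectProduct.equivProd.symm
  set ι : G →* G ⋊[φ] A := SemidirectProduct.inl
  have hι : Function.Injective ι := SemidirectProduct.inl_injective
  set κ : A →* G ⋊[φ] A := SemidirectProduct.inr
  have hsmul : ∀ (a : A) (g : G), ι (a • g) = κ a * ι g * (κ a)⁻¹ := fun a g => by
    rw [← map_inv κ]; exact SemidirectProduct.inl_aut a g
  haveI : IsZGroup G := ⟨fun p hp P => haveI : Fact p.Prime := ⟨hp⟩; hcyc p P⟩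
  haveI : IsZGroup ι.range := IsZGroup.of_injective (f := (MonoidHom.ofInjective hι).symm.toMonoidHom) (MonoidHom.ofInjective hι).symm.injective
  have hnorm : κ.range ≤ Subgroup.normalizer (ι.range : Set (G ⋊[φ] A)) := by
    rw [CfsgLib.Solv.le_normalizer_iff_forall_conj_mem]
    rintro _ ⟨a, rfl⟩ _ ⟨g, rfl⟩
    exact ⟨a • g, hsmul a g⟩
  have hG : Nat.card ι.range = Nat.card G := Nat.card_congr (MonoidHom.ofInjective hι).symm.toEquiv
  have hA : Nat.card κ.range = Nat.card A := Nat.card_congr (MonoidHom.ofInjective SemidirectProduct.inr_injective).symm.toEquiv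
  obtain ⟨hcycK, hcopKC, hdec⟩ := coprime_zgroup (G := ι.range) (A := κ.range) hnorm (by rw [hA, hG]; exact hcop)
  set S : Set G := {y : G | ∃ (a : A) (g : G), y = g⁻¹ * a • g}
  set T := Subgroup.closure S
  have hT : T.map ι = ⁅ι.range, κ.range⁆ := by
    refine le_antisymm ?_ (Subgroup.commutator_le.2 ?_)
    · rw [MonoidHom.map_closure, Subgroup.closure_le]
      rintro _ ⟨_, ⟨a, g, rfl⟩, rfl⟩
      have : ι (g⁻¹ * a • g) = ⁅ι g⁻¹, κ a⁆ := by
        rw [map_mul, hsmul, commutatorElement_def]; simp [mul_assoc]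
      rw [SetLike.mem_coe, this]
      exact Subgroup.commutator_mem_commutator ⟨_, rfl⟩ ⟨_, rfl⟩
    · rintro _ ⟨g, rfl⟩ _ ⟨a, rfl⟩
      refine ⟨g * a • g⁻¹, Subgroup.subset_closure ⟨a, g⁻¹, by rw [inv_inv]⟩, ?_⟩
      rw [map_mul, hsmul, commutatorElement_def]; simp [mul_assoc]
  let C : Subgroup G :=
    { carrier := MulAction.fixedPoints A G
      one_mem' := fun a => smul_one a
      mul_mem' := fun {x y} hx hy a => by rw [smul_mul', hx a, hy a]
      inv_mem' := fun {x} hx a => by rw [smul_inv', hx a] }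
  have hC : C.map ι = ι.range ⊓ Subgroup.centralizer (κ.range : Set (G ⋊[φ] A)) := by
    ext z
    constructor
    · rintro ⟨g, hg, rfl⟩
      refine ⟨⟨g, rfl⟩, Subgroup.mem_centralizer_iff.2 ?_⟩
      rintro _ ⟨a, rfl⟩
      have := hsmul a g
      rw [show a • g = g from hg a, eq_mul_inv_iff_mul_eq] at this
      exact this.symm
    · rintro ⟨⟨g, rfl⟩, hz⟩
      refine ⟨g, fun a => hι ?_, rfl⟩
      rw [hsmul, Subgroup.mem_centralizer_iff.1 hz _ ⟨a, rfl⟩, mul_inv_cancel_right]
  have hcopTC : (Nat.card T).Coprime (Nat.card C) := by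
    rw [← Subgroup.card_map_of_injective hι (K := T), ← Subgroup.card_map_of_injective hι (K := C), hT, hC]
    exact hcopKC
  have hTn : T.Normal := by
    refine ⟨fun n hn g => ?_⟩
    induction hn using Subgroup.closure_induction with
    | mem y hy =>
      obtain ⟨a, h, rfl⟩ := hy
      have : g * (h⁻¹ * a • h) * g⁻¹ = ((h * g⁻¹)⁻¹ * a • (h * g⁻¹)) * ((g⁻¹)⁻¹ * a • g⁻¹)⁻¹ := by
        rw [smul_mul']; group
      rw [this]
      exact T.mul_mem (Subgroup.subset_closure ⟨a, _, rfl⟩) (T.inv_mem (Subgroup.subset_closure ⟨a, _, rfl⟩))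
    | one => simp
    | mul x y _ _ hx hy => rw [← conj_mul]; exact T.mul_mem hx hy
    | inv x _ hx => rw [← conj_inv]; exact T.inv_mem hx
  have hinf : T ⊓ C = ⊥ := Subgroup.inf_eq_bot_of_coprime hcopTC
  have hsup : ∀ g : G, ∃ x ∈ T, ∃ c ∈ C, g = x * c := by
    intro g
    obtain ⟨_, hx, _, hc, he⟩ := hdec (ι g) ⟨g, rfl⟩
    rw [← hT] at hx
    rw [← hC] at hc
    obtain ⟨x, hx, rfl⟩ := hx
    obtain ⟨c, hc, rfl⟩ := hc
    exact ⟨x, hx, c, hc, hι (by rw [he, map_mul])⟩
  have hcompl : Subgroup.IsComplement' T C :=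
    Subgroup.isComplement'_of_disjoint_and_mul_eq_univ (disjoint_iff.2 hinf)
      (Set.eq_univ_of_forall fun g => by
        obtain ⟨x, hx, c, hc, rfl⟩ := hsup g
        exact Set.mul_mem_mul hx hc)
  refine ⟨?_, ?_, hTn, ?_, ?_⟩
  · show (Nat.card C).Coprime (Nat.card G / Nat.card C)
    rw [← hcompl.card_mul, Nat.mul_div_cancel _ Nat.card_pos]
    exact hcopTC.symm
  · haveI : IsCyclic (T.map ι) := by rw [hT]; exact hcycK
    exact isCyclic_of_surjective (T.equivMapOfInjective ι hι).symm.toMonoidHom (T.equivMapOfInjective ι hι).symm.surjective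
  · exact (Subgroup.coe_inf T C).symm.trans (by rw [hinf, Subgroup.coe_bot])
  · rw [eq_top_iff]
    intro g _
    obtain ⟨x, hx, c, hc, rfl⟩ := hsup g
    exact Subgroup.mul_mem _ (Subgroup.mem_sup_left hx) (Subgroup.mem_sup_right (Subgroup.subset_closure hc))

end Cfsg.Agent.S4117
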