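import Cfsg.Statements.S4118

import Cfsg.Agent.Perm.TISubgroup
import Cfsg.Agent.Perm.AutComplement
import Cfsg.Agent.Perm.FpfSources

set_option autoImplicit false
set_option linter.style.haveILetI false
open Cfsg

namespace Cfsg.Agent.S4118
open CfsgLib.Perm CfsgLib.Perm.Fpf CfsgLib.Perm.TI

/-- The complement acts without fixed points on a section of a soluble core. -/
theorem hasFpf_of_data {G : Type*} [Group G] [Finite G] {H : Subgroup G} (D : Data H)
    (hO : Group.IsSolvable (cop H)) : HasFpf H := by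
  obtain ⟨hOn, hOc⟩ := cop_spec (G := G) H
  haveI := hOn
  have hcent : ∀ a ∈ cop H, a ∈ Subgroup.normalizer (H : Set G) → a ∈ Subgroup.centralizer (H : Set G) := by
    intro a ha han
    rw [Subgroup.mem_centralizer_iff]
    intro h hh
    have h1 : a * h * a⁻¹ * h⁻¹ ∈ cop H ⊓ H := by
      refine ⟨?_, H.mul_mem ((Subgroup.mem_normalizer_iff.1 han h).1 hh) (H.inv_mem hh)⟩
      have := (cop H).mul_mem ha (hOn.conj_mem _ ((cop H).inv_mem ha) h)
      simpa [mul_assoc] using this
    rw [Subgroup.inf_eq_bot_of_coprime hOc, Subgroup.mem_bot] at h1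
    exact (mul_inv_eq_iff_eq_mul.1 (mul_inv_eq_one.1 h1)).symm
  let S : Set (Subgroup G) :=
    {A | A ≤ cop H ∧ H ≤ Subgroup.normalizer (A : Set G) ∧ ¬ A ≤ Subgroup.centralizer (H : Set G)}
  have hSne : cop H ∈ S := by
    refine ⟨le_rfl, by rw [Subgroup.normalizer_eq_top_iff.2 hOn]; exact le_top, fun hle => D.nn ?_⟩
    have h := sup_normalizer_eq_top D
    rw [sup_eq_right.2 (hle.trans (Subgroup.centralizer_le_normalizer _))] at h
    exact Subgroup.normalizer_eq_top_iff.1 h
  obtain ⟨A, ⟨hAO, hHA, hAC⟩, hmin⟩ := (Set.toFinite S).exists_minimal ⟨_, hSne⟩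
  haveI := CfsgLib.Solv.isSolvable_of_le (K := cop H) hAO
  haveI : Nontrivial A := (Subgroup.nontrivial_iff_ne_bot A).2 fun e => hAC (by rw [e]; exact bot_le)
  have hcomm : ⁅A, A⁆ ≤ Subgroup.centralizer (H : Set G) := by
    by_contra hcon
    have hle : ⁅A, A⁆ ≤ A := by
      rw [← Subgroup.map_subtype_commutator]; exact Subgroup.map_subtype_le _
    have hmem : ⁅A, A⁆ ∈ S := by
      refine ⟨hle.trans hAO, fun h hh => ?_, hcon⟩
      rw [Subgroup.mem_normalizer_iff_map_conj_eq, Subgroup.map_commutator,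
        Subgroup.mem_normalizer_iff_map_conj_eq.1 (hHA hh)]
    have h2 := hmin hmem hle
    refine (IsSolvable.commutator_lt_top_of_nontrivial A).ne (top_le_iff.1 fun a _ => ?_)
    have := h2 a.2
    rw [← Subgroup.map_subtype_commutator] at this
    obtain ⟨b, hb, e⟩ := this
    rwa [← Subtype.ext (show (b : G) = a from e)]
  set C' := (Subgroup.centralizer (H : Set G)).subgroupOf A with hC'
  haveI : C'.Normal := ⟨fun c hc g => by
    have h1 : ((g * c * g⁻¹ * c⁻¹ : A) : G) ∈ Subgroup.centralizer (H : Set G) := by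
      refine hcomm ?_
      have := Subgroup.commutator_mem_commutator g.2 c.2
      simpa [commutatorElement_def] using this
    rw [hC', Subgroup.mem_subgroupOf] at hc ⊢
    have h2 := Subgroup.mul_mem _ h1 hc
    simpa [mul_assoc] using h2⟩
  set ψ : H →* MulAut A := A.normalizerMonoidHom.comp (Subgroup.inclusion hHA) with hψ
  have hψv : ∀ (h : H) (a : A), ((ψ h a : A) : G) = h * a * (h : G)⁻¹ := fun h a => rfl
  have hfixC : ∀ (h : H) (a : A), a ∈ C' → ψ h a = a := fun h a ha => Subtype.ext <| by
    rw [hψv, Subgroup.mem_centralizer_iff.1 (Subgroup.mem_subgroupOf.1 ha) (h : G) h.2, mul_inv_cancel_right]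
  have hmap : ∀ h : H, C'.map (ψ h).toMonoidHom = C' := fun h => by
    ext a
    constructor
    · rintro ⟨b, hb, rfl⟩
      show ψ h b ∈ C'
      rwa [hfixC h b hb]
    · intro ha
      exact ⟨a, ha, hfixC h a ha⟩
  let φ : H →* MulAut (A ⧸ C') :=
    { toFun := fun h => QuotientGroup.congr C' C' (ψ h) (hmap h)
      map_one' := MulEquiv.ext fun x => QuotientGroup.induction_on x fun a => by
        show QuotientGroup.mk (ψ 1 a) = QuotientGroup.mk a
        rw [map_one]; rfl
      map_mul' := fun h k => MulEquiv.ext fun x => QuotientGroup.induction_on x fun a => by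
        show QuotientGroup.mk (ψ (h * k) a) = QuotientGroup.mk (ψ h (ψ k a))
        rw [map_mul]; rfl }
  haveI : Nontrivial (A ⧸ C') := by
    refine QuotientGroup.nontrivial_iff.2 fun e => hAC fun a ha => ?_
    exact Subgroup.mem_subgroupOf.1 (show (⟨a, ha⟩ : A) ∈ C' by rw [e]; exact Subgroup.mem_top _)
  refine hasFpf_of_fpf_action φ fun h hh x => QuotientGroup.induction_on x fun a ha => ?_
  have ha' : (QuotientGroup.mk (ψ h a) : A ⧸ C') = QuotientGroup.mk a := ha
  rw [QuotientGroup.eq_one_iff]
  rw [eq_comm, QuotientGroup.eq, hC', Subgroup.mem_subgroupOf] at ha'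
  set c : G := ((a⁻¹ * ψ h a : A) : G) with hc
  have hch : (h : G) * c = c * h := Subgroup.mem_centralizer_iff.1 ha' h h.2
  have hk : ∀ k : ℕ, (h : G) ^ k * a * ((h : G) ^ k)⁻¹ = a * c ^ k := by
    intro k
    induction k with
    | zero => simp
    | succ k ih =>
      have hck : Commute (h : G) (c ^ k) := Commute.pow_right hch k
      calc (h : G) ^ (k + 1) * a * ((h : G) ^ (k + 1))⁻¹
          = h * ((h : G) ^ k * a * ((h : G) ^ k)⁻¹) * (h : G)⁻¹ := by rw [pow_succ']; group
        _ = h * a * (h : G)⁻¹ * ((h : G) * c ^ k * (h : G)⁻¹) := by rw [ih]; group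
        _ = a * c * c ^ k := by
          rw [hck.eq, mul_inv_cancel_right, hc, Subgroup.coe_mul, InvMemClass.coe_inv, hψv]; group
        _ = a * c ^ (k + 1) := by rw [pow_succ', mul_assoc]
  have hc1 : c = 1 := by
    have h1 := hk (orderOf (h : G))
    rw [pow_orderOf_eq_one, one_mul, inv_one, mul_one, left_eq_mul] at h1
    have hcO : c ∈ cop H := hAO (a⁻¹ * ψ h a).2
    refine orderOf_eq_one_iff.1 (Nat.eq_one_of_dvd_coprimes hOc (Subgroup.orderOf_dvd_natCard _ hcO) ?_)
    exact (orderOf_dvd_of_pow_eq_one h1).trans (Subgroup.orderOf_dvd_natCard _ h.2)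
  have h1 := hk 1
  rw [pow_one, hc1, one_pow, mul_one] at h1
  have hah : (h : G) * a = a * h := mul_inv_eq_iff_eq_mul.1 h1
  show (a : G) ∈ Subgroup.centralizer (H : Set G)
  refine hcent a (hAO a.2) (mem_normalizer_of_conj_mem D.ti h.2 (fun e => hh (Subtype.ext e)) ?_)
  rw [← hah, mul_inv_cancel_right]
  exact h.2

theorem solvable_of_core {G : Type*} [Group G] [Finite G] {H : Subgroup G} (D : Data H)
    (hO : Group.IsSolvable (cop H))
    (hK : ∀ K : Subgroup G, K ≤ H → ¬ Nonempty (K ≃* Matrix.SpecialLinearGroup (Fin 2) (ZMod 5))) :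
    Group.IsSolvable G := by
  obtain ⟨hOn, hOc⟩ := cop_spec (G := G) H
  haveI := hOn
  have hf := hasFpf_of_data D hO
  haveI hHs : Group.IsSolvable H := by
    by_contra hns
    obtain ⟨L, -, -, -, ⟨e⟩⟩ := exists_sl25 hf hns
    exact hK (L.map H.subtype) (Subgroup.map_subtype_le _)
      ⟨((L.equivMapOfInjective H.subtype H.subtype_injective).symm).trans e⟩
  haveI := isSolvable_mulAut hf
  set N := Subgroup.normalizer (H : Set G) with hN
  set C := Subgroup.centralizer (H : Set G) with hC
  have hCN : C ≤ N := Subgroup.centralizer_le_normalizer _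
  haveI : (H.subgroupOf N).Normal := Subgroup.normal_in_normalizer
  set C0 := H.subgroupOf C with hC0
  have hC0c : ∀ z ∈ C0, ∀ x : C, x * z = z * x := fun z hz x => Subtype.ext
    (Subgroup.mem_centralizer_iff.1 x.2 z (Subgroup.mem_subgroupOf.1 hz)).symm
  haveI : C0.Normal := ⟨fun z hz g => by rwa [hC0c z hz g, mul_inv_cancel_right]⟩
  have hidx : C0.index ∣ H.relIndex N := by
    have h := Subgroup.relIndex_dvd_index_of_normal (H.subgroupOf N) (C.subgroupOf N)
    rwa [Subgroup.relIndex_subgroupOf hCN] at h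
  have hcopC0 : (Nat.card C0).Coprime C0.index := by
    refine (D.hall.coprime_dvd_right hidx).coprime_dvd_left ?_
    rw [← Subgroup.card_map_of_injective C.subtype_injective]
    exact Subgroup.card_dvd_of_le (by rintro _ ⟨x, hx, rfl⟩; exact hx)
  obtain ⟨K, hKc⟩ := Subgroup.exists_right_complement'_of_coprime hcopC0
  haveI hKn : K.Normal := ⟨fun k hk g => by
    obtain ⟨⟨z, k'⟩, rfl⟩ := hKc.2 g
    show (z : C) * k' * k * ((z : C) * k')⁻¹ ∈ K
    have hm : (k' : C) * k * (k' : C)⁻¹ ∈ K := K.mul_mem (K.mul_mem k'.2 hk) (K.inv_mem k'.2)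
    have e : (z : C) * k' * k * ((z : C) * k')⁻¹ = z * ((k' : C) * k * (k' : C)⁻¹) * (z : C)⁻¹ := by group
    rwa [e, ← hC0c z z.2, mul_inv_cancel_right]⟩
  have hKcard : (Nat.card K).Coprime (Nat.card H) := by
    rw [← hKc.symm.index_eq_card]; exact (D.hall.coprime_dvd_right hidx).symm
  have hKmem : ∀ x : C, (orderOf x).Coprime (Nat.card H) → x ∈ K := fun x hx => by
    have h1 : x ^ K.index ∈ K := K.pow_index_mem x
    have hd : K.index ∣ Nat.card H := by
      rw [hKc.index_eq_card, ← Subgroup.card_map_of_injective C.subtype_injective]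
      exact Subgroup.card_dvd_of_le (by rintro _ ⟨y, hy, rfl⟩; exact hy)
    obtain ⟨m, hm⟩ := exists_pow_eq_self_of_coprime (hx.coprime_dvd_right hd).symm
    rw [← hm]
    exact K.pow_mem h1 m
  set M := K.map C.subtype with hM
  have hMle : M ≤ cop H := by
    refine le_trans le_sup_right (le_cop (K := cop H ⊔ M) ?_ ?_)
    · rw [← Subgroup.normalizer_eq_top_iff, eq_top_iff, ← sup_normalizer_eq_top D]
      refine sup_le (le_sup_left.trans Subgroup.le_normalizer) fun g hg => ?_
      have hMn : g ∈ Subgroup.normalizer (M : Set G) := by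
        have key : ∀ g ∈ N, ∀ y ∈ M, g * y * g⁻¹ ∈ M := by
          rintro g hg _ ⟨x, hx, rfl⟩
          have hgx : g * (x : G) * g⁻¹ ∈ C := by
            refine Subgroup.mem_centralizer_iff.2 fun h hh => ?_
            have hh' : g⁻¹ * h * g ∈ H := by
              have := (Subgroup.mem_normalizer_iff.1 (N.inv_mem hg) h).1 hh
              rwa [inv_inv] at this
            have e := Subgroup.mem_centralizer_iff.1 x.2 _ hh'
            calc h * (g * x * g⁻¹) = g * (g⁻¹ * h * g * x) * g⁻¹ := by group
              _ = g * x * g⁻¹ * h := by rw [e]; group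
          refine ⟨⟨_, hgx⟩, hKmem _ ?_, rfl⟩
          rw [Subgroup.orderOf_mk, show g * (x : G) * g⁻¹ = MulAut.conj g (x : G) from rfl,
            MulEquiv.orderOf_eq, Subgroup.orderOf_coe]
          exact hKcard.coprime_dvd_left (Subgroup.orderOf_dvd_natCard K hx)
        rw [Subgroup.mem_normalizer_iff]
        refine fun y => ⟨key g hg y, fun hy => ?_⟩
        have := key g⁻¹ (N.inv_mem hg) _ hy
        simpa [mul_assoc] using this
      rw [Subgroup.mem_normalizer_iff_map_conj_eq, Subgroup.map_sup,
        Subgroup.mem_normalizer_iff_map_conj_eq.1 hMn,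
        Subgroup.mem_normalizer_iff_map_conj_eq.1 (show g ∈ Subgroup.normalizer (cop H : Set G) by
          rw [Subgroup.normalizer_eq_top_iff.2 hOn]; exact Subgroup.mem_top g)]
    · have hMc : (Nat.card M).Coprime (Nat.card H) := by
        rwa [hM, Subgroup.card_map_of_injective C.subtype_injective]
      refine (hMc.mul_left hOc).coprime_dvd_left ?_
      rw [sup_comm]
      exact CfsgLib.Solv.card_sup_dvd_mul M (cop H)
  haveI : Group.IsSolvable M := CfsgLib.Solv.isSolvable_of_le (K := cop H) hMle
  haveI : Group.IsSolvable K := Group.isSolvable_of_isSolvable_injective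
    (f := (K.equivMapOfInjective C.subtype C.subtype_injective).toMonoidHom) (MulEquiv.injective _)
  haveI : IsMulCommutative C0 := ⟨⟨fun x y => Subtype.ext (hC0c y y.2 x)⟩⟩
  haveI : Group.IsSolvable C0 := CfsgLib.Solv.isSolvable_of_isMulCommutative C0
  haveI : Group.IsSolvable (C ⧸ K) := Group.isSolvable_of_surjective
    (f := (QuotientGroup.mk' K).comp C0.subtype) fun q => QuotientGroup.induction_on q fun g => by
      obtain ⟨⟨z, k⟩, rfl⟩ := hKc.2 g
      refine ⟨z, QuotientGroup.eq.2 ?_⟩
      simp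
  haveI hCs : Group.IsSolvable C := Group.isSolvable_of_ker_le_range (f := K.subtype) (g := QuotientGroup.mk' K)
    (by rw [QuotientGroup.ker_mk', Subgroup.range_subtype])
  haveI : Group.IsSolvable (C.subgroupOf N) := Group.isSolvable_of_isSolvable_injective
    (f := (Subgroup.subgroupOfEquivOfLe hCN).toMonoidHom) (MulEquiv.injective _)
  haveI : Group.IsSolvable N := Group.isSolvable_of_ker_le_range (f := (C.subgroupOf N).subtype)
    (g := H.normalizerMonoidHom) (by rw [Subgroup.normalizerMonoidHom_ker, Subgroup.range_subtype])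
  haveI : Group.IsSolvable (G ⧸ cop H) := Group.isSolvable_of_surjective
    (f := (QuotientGroup.mk' (cop H)).comp N.subtype) fun q => QuotientGroup.induction_on q fun g => by
      have hg : g ∈ ((cop H ⊔ N : Subgroup G) : Set G) := by rw [sup_normalizer_eq_top D]; trivial
      rw [Subgroup.normal_mul] at hg
      obtain ⟨o, ho, n, hn, rfl⟩ := hg
      refine ⟨⟨n, hn⟩, (QuotientGroup.eq_iff_div_mem (N := cop H)).2 ?_⟩
      simpa [div_eq_mul_inv] using (cop H).inv_mem ho
  exact Group.isSolvable_of_ker_le_range (f := (cop H).subtype) (g := QuotientGroup.mk' (cop H))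
    (by rw [QuotientGroup.ker_mk', Subgroup.range_subtype])

/-- Let G be a finite group and H a non-normal subgroup meeting each of its conjugates by elements outside N_G(H) trivially, with the order of H coprime to its index in N_G(H); let π be the set of primes dividing the order of H and suppose G is π-separable (it has a chain of normal subgroups from 1 to G each of whose factors has order divisible only by primes in π or coprime to the order of H). Let O be the largest normal subgroup of G of order coprime to the order of H. Then G = O·N_G(H), O·H is normal in G, and G is solvable if and only if O is solvable and H has no subgroup isomorphic to SL₂(5). -/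
theorem result {G : Type*} [Group G] [Finite G] (H : Subgroup G)
    (hTI : Cfsg.IsTISubset (H : Set G)) (hnn : ¬ H.Normal)
    (hHall : (Nat.card H).Coprime (H.subgroupOf (Subgroup.normalizer (H : Set G))).index)
    (hsep : ∃ (n : ℕ) (M : Fin (n + 1) → Subgroup G), M 0 = ⊥ ∧ M (Fin.last n) = ⊤ ∧ Monotone M ∧ (∀ i, (M i).Normal) ∧
      ∀ i : Fin n, (∀ q : ℕ, q.Prime → q ∣ (M i.castSucc).relIndex (M i.succ) → q ∣ Nat.card H) ∨
        ((M i.castSucc).relIndex (M i.succ)).Coprime (Nat.card H))
    (O : Subgroup G) (hO : O = sSup {K : Subgroup G | K.Normal ∧ (Nat.card K).Coprime (Nat.card H)}) :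
    O ⊔ Subgroup.normalizer (H : Set G) = ⊤ ∧ (O ⊔ H).Normal ∧
    (Group.IsSolvable G ↔ Group.IsSolvable O ∧
      ∀ K : Subgroup G, K ≤ H → ¬ Nonempty (K ≃* Matrix.SpecialLinearGroup (Fin 2) (ZMod 5))) := by
  subst hO
  have D : Data H := ⟨hTI, hnn, hHall, hsep⟩
  obtain ⟨hOn, hOc⟩ := cop_spec (G := G) H
  haveI := hOn
  refine ⟨sup_normalizer_eq_top D, ?_, fun hG => ?_, fun h => solvable_of_core D h.1 h.2⟩
  · show (cop H ⊔ H).Normal
    rw [← Subgroup.normalizer_eq_top_iff, eq_top_iff, ← sup_normalizer_eq_top D]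
    refine sup_le (le_sup_left.trans Subgroup.le_normalizer) fun g hg => ?_
    rw [Subgroup.mem_normalizer_iff_map_conj_eq, Subgroup.map_sup,
      Subgroup.mem_normalizer_iff_map_conj_eq.1 hg,
      Subgroup.mem_normalizer_iff_map_conj_eq.1 (show g ∈ Subgroup.normalizer (cop H : Set G) by
        rw [Subgroup.normalizer_eq_top_iff.2 hOn]; exact Subgroup.mem_top g)]
  · haveI := hG
    refine ⟨inferInstance, fun K _ hK => ?_⟩
    obtain ⟨e⟩ := hK
    haveI : Group.IsSolvable (Matrix.SpecialLinearGroup (Fin 2) (ZMod 5)) :=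
      Group.isSolvable_of_surjective (f := e.toMonoidHom) e.surjective
    haveI : Nontrivial (Matrix.SpecialLinearGroup (Fin 2) (ZMod 5)) :=
      Finite.one_lt_card_iff_nontrivial.1 (by rw [sl25_card]; norm_num)
    exact (IsSolvable.commutator_lt_top_of_nontrivial _).ne sl25_perfect

end Cfsg.Agent.S4118
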