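import Cfsg.Statements.S4126
import Cfsg.Agent.Solv.PGroups
import Cfsg.Agent.Solv.PComplement
import Cfsg.Agent.Perm.Kazarin

set_option autoImplicit false
set_option linter.style.haveILetI false
set_option linter.unusedSectionVars false
open Cfsg
open scoped commutatorElement Pointwise

namespace Cfsg.Agent.S4126

variable {G : Type*} [Group G] {p : ℕ} [hp : Fact p.Prime]

/-- The exponent that matters: `p`, or `4` for `p = 2`. -/
def qexp (p : ℕ) : ℕ := if p = 2 then 4 else p

theorem qexp_two : qexp 2 = 4 := rfl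

/-- Elements killed by `qexp p` are `1`, of order `p`, or of order `4` with `p = 2`. -/
theorem special_cases {x : G} (h : x ^ qexp p = 1) :
    x = 1 ∨ orderOf x = p ∨ (p = 2 ∧ orderOf x = 4) := by
  have h1 := orderOf_dvd_of_pow_eq_one h
  unfold qexp at h1
  split at h1
  · rename_i h2
    obtain ⟨k, hk, he⟩ := (Nat.dvd_prime_pow Nat.prime_two).1 (show orderOf x ∣ 2 ^ 2 from h1)
    interval_cases k
    · exact .inl (orderOf_eq_one_iff.1 (by simpa using he))
    · exact .inr (.inl (by simpa [h2] using he))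
    · exact .inr (.inr ⟨h2, by simpa using he⟩)
  · rcases hp.out.eq_one_or_self_of_dvd _ h1 with h2 | h2
    · exact .inl (orderOf_eq_one_iff.1 h2)
    · exact .inr (.inl h2)

/-- `x y` is killed by `qexp p` if `x, y` are and the subgroup has class two with central `p`-th
powers. -/
theorem qexp_mul {x y : G} (hx : x ^ qexp p = 1) (hy : y ^ qexp p = 1)
    (hdx : Commute ⁅y, x⁆ x) (hdy : Commute ⁅y, x⁆ y) (hy2 : Commute (y ^ p) x)
    (hx2 : Commute (x ^ p) y) : (x * y) ^ qexp p = 1 := by
  by_cases h2 : p = 2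
  · subst h2
    rw [qexp_two] at hx hy ⊢
    set d := ⁅y, x⁆ with hd
    have hd2 : d ^ 2 = 1 := by
      rw [hd, ← CfsgLib.Solv.pow_commutator_left hdy 2, commutatorElement_eq_one_iff_mul_comm]
      exact hy2
    have e : y * x = d * x * y := by simp [hd, commutatorElement_def, mul_assoc]
    have e2 : (x * y) ^ 2 = d * (x ^ 2 * y ^ 2) := by
      calc (x * y) ^ 2 = x * (y * x) * y := by simp [sq, mul_assoc]
        _ = x * d * x * y * y := by rw [e]; simp [mul_assoc]
        _ = d * x * x * y * y := by rw [hdx.symm.eq]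
        _ = _ := by simp [sq, mul_assoc]
    have c2 : Commute d (x ^ 2 * y ^ 2) := (hdx.pow_right 2).mul_right (hdy.pow_right 2)
    have c3 : Commute (x ^ 2) (y ^ 2) := hx2.pow_right 2
    rw [show (4 : ℕ) = 2 * 2 from rfl, pow_mul, e2, c2.mul_pow, hd2, c3.mul_pow, ← pow_mul,
      ← pow_mul, one_mul]
    simp [hx, hy]
  · rw [show qexp p = p from if_neg h2] at hx hy ⊢
    have hd : ⁅y, x⁆ ^ p = 1 := by
      rw [← CfsgLib.Solv.pow_commutator_left hdy p, hy, commutatorElement_one_left]
    rw [CfsgLib.Solv.mul_pow_prime h2 hdx hdy hd, hx, hy, one_mul]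

/-- A class of `p`-power size is a single orbit of every Sylow subgroup. -/
theorem exists_sylow_conj [Finite G] (P : Sylow p G) {x : G} {k : ℕ}
    (hk : (Subgroup.centralizer ({x} : Set G)).index = p ^ k) (g : G) :
    ∃ u ∈ (P : Subgroup G), u * x * u⁻¹ = g * x * g⁻¹ := by
  set C := Subgroup.centralizer ({x} : Set G)
  let f : (P : Subgroup G) ⧸ C.subgroupOf (P : Subgroup G) → G ⧸ C :=
    Quotient.lift (fun q => (QuotientGroup.mk (q : G) : G ⧸ C)) fun a b hab => by
      rw [QuotientGroup.eq]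
      exact Subgroup.mem_subgroupOf.1 (QuotientGroup.leftRel_apply.1 hab)
  have hinj : Function.Injective f := by
    intro a b
    refine Quotient.inductionOn₂' a b fun a b h => QuotientGroup.eq.2 ?_
    exact Subgroup.mem_subgroupOf.2 (QuotientGroup.eq.1 h)
  have hle : Nat.card (G ⧸ C) ≤ Nat.card ((P : Subgroup G) ⧸ C.subgroupOf (P : Subgroup G)) := by
    show C.index ≤ _
    rw [hk]
    set R := C.subgroupOf (P : Subgroup G)
    have h1 := Subgroup.card_eq_card_quotient_mul_card_subgroup R
    have hRcard : Nat.card R = Nat.card ↥((P : Subgroup G) ⊓ C) := by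
      rw [← Subgroup.card_map_of_injective (K := R) (P : Subgroup G).subtype_injective,
        Subgroup.subgroupOf_map_subtype, inf_comm]
    obtain ⟨j, hj⟩ := IsPGroup.iff_card.1 (P.2.to_le (inf_le_left : (P : Subgroup G) ⊓ C ≤ P))
    have h2 : p ^ j ∣ Nat.card C := hj ▸ Subgroup.card_dvd_of_le inf_le_right
    have h3 : j ≤ (Nat.card C).factorization p :=
      (hp.out.pow_dvd_iff_le_factorization Nat.card_pos.ne').1 h2
    have h4 : (Nat.card G).factorization p = (Nat.card C).factorization p + k := by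
      rw [← C.card_mul_index, hk, Nat.factorization_mul Nat.card_pos.ne' (pow_ne_zero _ hp.out.ne_zero),
        Nat.Prime.factorization_pow hp.out]
      simp
    rw [P.card_eq_multiplicity, hRcard, hj, h4, pow_add] at h1
    have h5 : p ^ j ≤ p ^ (Nat.card C).factorization p := Nat.pow_le_pow_right hp.out.pos h3
    have h6 : 0 < p ^ j := pow_pos hp.out.pos j
    by_contra hlt
    push_neg at hlt
    have := Nat.mul_lt_mul_of_lt_of_le hlt h5 (pow_pos hp.out.pos _)
    rw [← h1] at this
    nlinarith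
  have hbij := hinj.bijective_of_nat_card_le hle
  obtain ⟨q, hq⟩ := hbij.2 (QuotientGroup.mk g)
  obtain ⟨u, rfl⟩ := QuotientGroup.mk_surjective q
  have hmem : (u : G)⁻¹ * g ∈ C := QuotientGroup.eq.1 hq
  rw [Subgroup.mem_centralizer_singleton_iff] at hmem
  refine ⟨u, u.2, ?_⟩
  calc (u : G) * x * (u : G)⁻¹ = u * (x * ((u : G)⁻¹ * g)) * g⁻¹ := by group
    _ = g * x * g⁻¹ := by rw [← hmem]; group

/-- Main chain: `p'`-elements centralise normal `p`-subgroups made of elements with `p`-power
classes. -/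
theorem commute_of_chain [Finite G] (n : ℕ) : ∀ M : Subgroup G, M.Normal → Nat.card M ≤ n →
    IsPGroup p M →
    (∀ x ∈ M, ∃ k : ℕ, (Subgroup.centralizer ({x} : Set G)).index = p ^ k) →
    ∀ g : G, Nat.Coprime (orderOf g) p → ∀ m ∈ M, g * m = m * g := by
  induction n with
  | zero => intro M _ hM; exact absurd hM (Nat.not_le_of_lt Nat.card_pos)
  | succ n ih =>
    intro M hMn hcard hMp hsp g hg
    by_cases hM : M = ⊥
    · intro m hm
      rw [hM, Subgroup.mem_bot] at hm
      simp [hm]
    obtain ⟨M', -, ⟨hM'n, hM'lt⟩, hmax⟩ := Finite.exists_le_maximal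
      (p := fun K : Subgroup G => K.Normal ∧ K < M) (a := ⊥) ⟨inferInstance, bot_lt_iff_ne_bot.2 hM⟩
    haveI := hM'n
    obtain ⟨P, hP⟩ := hMp.exists_le_sylow
    set S := ⁅M, (P : Subgroup G)⁆ ⊔ M' with hS
    have hcM : ⁅M, (P : Subgroup G)⁆ ≤ M := Subgroup.commutator_le_left M _
    have hSM : S ≤ M := sup_le hcM hM'lt.le
    have hfix : ∀ (u : G) (m : G), m ∈ M → u * m * u⁻¹ * m⁻¹ ∈ S := by
      intro u m hm
      obtain ⟨k, hk⟩ := hsp m hm
      obtain ⟨v, hv, e⟩ := exists_sylow_conj P hk u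
      rw [← e]
      refine Subgroup.mem_sup_left ?_
      rw [Subgroup.commutator_comm]
      exact Subgroup.commutator_mem_commutator hv hm
    have hSn : S.Normal := ⟨fun s hs u => by
      have := mul_mem (hfix u s (hSM hs)) hs
      rwa [inv_mul_cancel_right] at this⟩
    have hne : S ≠ M := by
      intro hEq
      have hall : ∀ j : ℕ, M ≤ (P : Subgroup G).lowerCentralSeries j ⊔ M' := by
        intro j
        induction j with
        | zero =>
          rw [Subgroup.lowerCentralSeries_zero]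
          exact hP.trans le_sup_left
        | succ j ihj =>
          conv_lhs => rw [← hEq, hS]
          refine sup_le ?_ le_sup_right
          rw [Subgroup.commutator_le]
          intro m hm u hu
          have hm' : m ∈ (↑((P : Subgroup G).lowerCentralSeries j ⊔ M') : Set G) := ihj hm
          rw [Subgroup.mul_normal] at hm'
          obtain ⟨l, hl', z, hz, rfl⟩ := hm'
          have e : ⁅l * z, u⁆ = (l * (z * (u * z⁻¹ * u⁻¹)) * l⁻¹) * ⁅l, u⁆ := by
            simp [commutatorElement_def, mul_assoc]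
          change ⁅l * z, u⁆ ∈ _
          rw [e]
          refine mul_mem (Subgroup.mem_sup_right (hM'n.conj_mem _ (mul_mem hz
            (hM'n.conj_mem _ (inv_mem hz) u)) _)) (Subgroup.mem_sup_left ?_)
          exact Subgroup.commutator_mem_commutator hl' hu
      obtain ⟨j, hj⟩ := (Subgroup.isNilpotent_iff_lowerCentralSeries _).1 P.2.isNilpotent
      have := hall j
      rw [hj, bot_sup_eq] at this
      exact not_le_of_gt hM'lt this
    have hSeq : S = M' :=
      le_antisymm (hmax ⟨hSn, lt_of_le_of_ne hSM hne⟩ le_sup_right) le_sup_right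
    have hcard' : Nat.card M' ≤ n := by
      have h5 : Nat.card M' ≠ Nat.card M := fun e =>
        hM'lt.ne (Subgroup.eq_of_le_of_card_ge hM'lt.le e.ge)
      have := Subgroup.card_le_of_le hM'lt.le
      omega
    have hIH := ih M' hM'n hcard' (hMp.to_le hM'lt.le) (fun x hx => hsp x (hM'lt.le hx)) g hg
    intro m hm
    haveI := hMn
    have ha : Nat.Coprime (orderOf (MulAut.conjNormal g : MulAut M)) p :=
      hg.coprime_dvd_left (orderOf_map_dvd _ g)
    set z : M := (⟨m, hm⟩ : M)⁻¹ * (MulAut.conjNormal g : MulAut M) ⟨m, hm⟩ with hz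
    have hzM' : (z : G) ∈ M' := by
      have h := hfix g m hm
      rw [hSeq] at h
      have := hM'n.conj_mem _ h m⁻¹
      simpa [hz, MulAut.conjNormal_apply, mul_assoc] using this
    have h1 := CfsgLib.Solv.eq_one_of_fixed_shift hMp ha (x := (⟨m, hm⟩ : M)) (z := z)
      (by rw [hz, mul_inv_cancel_left]) (Subtype.ext (by
        rw [MulAut.conjNormal_apply, hIH _ hzM', mul_inv_cancel_right]))
    rw [hz, inv_mul_eq_one] at h1
    have h2 : m = g * m * g⁻¹ := by
      simpa [MulAut.conjNormal_apply] using congrArg Subtype.val h1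
    calc g * m = g * m * g⁻¹ * g := by group
      _ = m * g := by rw [← h2]

/-- An automorphism of `p'`-order fixing the small elements of a critical subgroup is trivial on
it. -/
theorem fix_of_fix_small [Finite G] (hG : IsPGroup p G) {H : Subgroup G} (hH : H.Characteristic)
    (h1 : (frattini H).map H.subtype ≤ Subgroup.centralizer (H : Set G))
    (h2 : ⁅H, (⊤ : Subgroup G)⁆ ≤ H ⊓ Subgroup.centralizer (H : Set G))
    {a : MulAut G} (ha : Nat.Coprime (orderOf a) p)
    (h : ∀ x ∈ H, x ^ qexp p = 1 → a x = x) : ∀ x ∈ H, a x = x := by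
  haveI := hH
  intro x
  obtain ⟨n, hn⟩ : ∃ n, orderOf x = n := ⟨_, rfl⟩
  induction n using Nat.strong_induction_on generalizing x with
  | _ n ih =>
    intro hx
    by_cases hx1 : x = 1
    · rw [hx1, map_one]
    have hpo : p ∣ orderOf x := by
      obtain ⟨k, hk⟩ := (IsPGroup.iff_orderOf.1 hG) x
      rw [hk]
      refine dvd_pow_self p fun h0 => hx1 ?_
      rw [← orderOf_eq_one_iff, hk, h0, pow_zero]
    have hxp : a (x ^ p) = x ^ p := by
      refine ih _ ?_ (x ^ p) rfl (pow_mem hx p)
      rw [orderOf_pow_of_dvd hp.out.ne_zero hpo, ← hn]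
      exact Nat.div_lt_self (orderOf_pos x) hp.out.one_lt
    have hxH : a x ∈ H := CfsgLib.Solv.map_mem_of_characteristic a hx
    have hcent : ∀ w ∈ H, ∀ v ∈ H, Commute (w ^ p) v := fun w hw v hv =>
      (Subgroup.mem_centralizer_iff.1 (h1 ⟨(⟨w, hw⟩ : H) ^ p,
        CfsgLib.Solv.pow_mem_frattini (hG.to_subgroup H) ⟨w, hw⟩, rfl⟩) v hv).symm
    have hzH : x⁻¹ * a x ∈ H := mul_mem (inv_mem hx) hxH
    have hz : (x⁻¹ * a x) ^ qexp p = 1 := by
      by_cases h2p : p = 2
      · subst h2p
        set c := x⁻¹ * a x with hc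
        have e1 : x * c * (x * c) = x * x := by
          rw [hc, mul_inv_cancel_left]
          simpa [sq] using hxp
        have e2 : x⁻¹ * c⁻¹ * x = c := by
          have e3 : c * x * c = x := by
            apply mul_left_cancel (a := x)
            simpa [mul_assoc] using e1
          calc x⁻¹ * c⁻¹ * x = x⁻¹ * c⁻¹ * (c * x * c) := by rw [e3]
            _ = c := by group
        have e4 : c ^ 2 = (c ^ 2)⁻¹ := by
          conv_lhs => rw [← e2]
          have e5 : (x⁻¹ * c⁻¹ * x) ^ 2 = x⁻¹ * (c⁻¹) ^ 2 * x := by simp [sq, mul_assoc]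
          rw [e5, mul_assoc, (hcent c⁻¹ (inv_mem hzH) x hx).eq, inv_mul_cancel_left, inv_pow]
        rw [qexp_two, show (4 : ℕ) = 2 + 2 from rfl, pow_add]
        exact mul_eq_one_iff_eq_inv.2 e4
      · rw [show qexp p = p from if_neg h2p]
        have hd : ⁅a x, x⁻¹⁆ ^ p = 1 := by
          have hc : Commute ⁅a x, x⁻¹⁆ x⁻¹ :=
            CfsgLib.Solv.commute_of_critical h2 hxH (inv_mem hx) (inv_mem hx)
          rw [← CfsgLib.Solv.pow_commutator_right hc, commutatorElement_eq_one_iff_mul_comm]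
          exact (hcent x⁻¹ (inv_mem hx) (a x) hxH).eq.symm
        rw [CfsgLib.Solv.mul_pow_prime h2p
          (CfsgLib.Solv.commute_of_critical h2 hxH (inv_mem hx) (inv_mem hx))
          (CfsgLib.Solv.commute_of_critical h2 hxH (inv_mem hx) hxH) hd, ← map_pow, hxp, inv_pow,
          inv_mul_cancel]
    have := CfsgLib.Solv.eq_one_of_fixed_shift hG ha (x := x) (z := x⁻¹ * a x) (by group)
      (h _ hzH hz)
    exact (inv_mul_eq_one.1 this).symm

/-- An automorphism of `p'`-order fixing all elements killed by `qexp p` is trivial. -/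
theorem aut_eq_one_of_fix_small [Finite G] (hG : IsPGroup p G) {a : MulAut G}
    (ha : Nat.Coprime (orderOf a) p) (h : ∀ x : G, x ^ qexp p = 1 → a x = x) : a = 1 := by
  obtain ⟨H, hHc, h1, h2, h3⟩ := CfsgLib.Solv.exists_critical hG
  haveI := hHc
  exact CfsgLib.Solv.aut_eq_one_of_fix hG h3 ha
    (fix_of_fix_small hG hHc h1 h2 ha fun x _ hx => h x hx)

/-- Let G be a finite group and p a prime. Suppose every element of order p, and when p = 2 also every element of order 4, has a conjugacy class of p-power size. Then G has a normal p-complement. -/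
theorem result {G : Type*} [Group G] [Finite G] (p : ℕ) [Fact p.Prime]
    (h : ∀ x : G, (orderOf x = p ∨ (p = 2 ∧ orderOf x = 4)) → ∃ a : ℕ, (Subgroup.centralizer ({x} : Set G)).index = p ^ a) :
    Cfsg.HasNormalPComplement p G := by
  have hsp : ∀ x : G, x ^ qexp p = 1 → ∃ k : ℕ, (Subgroup.centralizer ({x} : Set G)).index = p ^ k := by
    intro x hx
    rcases special_cases hx with rfl | h1
    · refine ⟨0, ?_⟩
      rw [pow_zero, Subgroup.index_eq_one, eq_top_iff]
      intro y _
      simp [Subgroup.mem_centralizer_singleton_iff]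
    · exact h x h1
  set U := Cfsg.pCore p G
  haveI : U.Normal := CfsgLib.Solv.pCore_normal G p
  have hUp : IsPGroup p U := CfsgLib.Solv.pCore_isPGroup G p
  have hin : ∀ x : G, x ^ qexp p = 1 → x ∈ U := by
    intro x hx
    rcases special_cases hx with rfl | h1
    · exact one_mem _
    obtain ⟨k, hk⟩ := h x h1
    obtain ⟨Q, hQ⟩ := CfsgLib.Perm.Kazarin.normalClosure_le_sylow (p := p) (x := x)
      (by rcases h1 with e | ⟨e0, e⟩
          · exact ⟨1, by rw [e, pow_one]⟩
          · exact ⟨2, by rw [e, e0]; rfl⟩) hk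
    exact CfsgLib.Solv.le_pCore (Q.2.to_le hQ)
      (Subgroup.subset_normalClosure (Set.mem_singleton x))
  obtain ⟨H, hHc, h1, h2, h3⟩ := CfsgLib.Solv.exists_critical hUp
  haveI := hHc
  have hcent : ∀ w ∈ H, ∀ v ∈ H, Commute (w ^ p) v := fun w hw v hv =>
    (Subgroup.mem_centralizer_iff.1 (h1 ⟨(⟨w, hw⟩ : H) ^ p,
      CfsgLib.Solv.pow_mem_frattini (hUp.to_subgroup H) ⟨w, hw⟩, rfl⟩) v hv).symm
  -- the small elements of the critical subgroup
  let M : Subgroup G :=
    { carrier := {x | ∃ y ∈ H, (y : G) = x ∧ y ^ qexp p = 1}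
      one_mem' := ⟨1, one_mem _, rfl, one_pow _⟩
      mul_mem' := by
        rintro _ _ ⟨x, hx, rfl, hx1⟩ ⟨y, hy, rfl, hy1⟩
        exact ⟨x * y, mul_mem hx hy, rfl, qexp_mul hx1 hy1
          (CfsgLib.Solv.commute_of_critical h2 hy hx hx) (CfsgLib.Solv.commute_of_critical h2 hy hx hy)
          (hcent y hy x hx) (hcent x hx y hy)⟩
      inv_mem' := by
        rintro _ ⟨x, hx, rfl, hx1⟩
        exact ⟨x⁻¹, inv_mem hx, rfl, by rw [inv_pow, hx1, inv_one]⟩ }
  have hMn : M.Normal := ⟨by
    rintro _ ⟨x, hx, rfl, hx1⟩ g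
    exact ⟨(MulAut.conjNormal g : MulAut U) x, CfsgLib.Solv.map_mem_of_characteristic _ hx,
      MulAut.conjNormal_apply g x, by rw [← map_pow, hx1, map_one]⟩⟩
  have hMp : IsPGroup p M := hUp.to_le (by rintro _ ⟨x, hx, rfl, hx1⟩; exact x.2)
  have hfix : ∀ g : G, Nat.Coprime (orderOf g) p → ∀ u : U, g * (u : G) = u * g := by
    intro g hg u
    have ha : Nat.Coprime (orderOf (MulAut.conjNormal g : MulAut U)) p :=
      hg.coprime_dvd_left (orderOf_map_dvd _ g)
    have h4 := commute_of_chain (Nat.card M) M hMn le_rfl hMp (by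
      rintro _ ⟨x, hx, rfl, hx1⟩
      exact hsp _ (by simpa using congrArg Subtype.val hx1)) g hg
    have h5 : (MulAut.conjNormal g : MulAut U) = 1 :=
      CfsgLib.Solv.aut_eq_one_of_fix hUp h3 ha (fix_of_fix_small hUp hHc h1 h2 ha fun x hx hx1 => by
        refine Subtype.ext ?_
        rw [MulAut.conjNormal_apply, h4 _ ⟨x, hx, rfl, hx1⟩, mul_inv_cancel_right])
    have h6 := congrArg Subtype.val (congrArg (fun a : MulAut U => a u) h5)
    rw [MulAut.conjNormal_apply, MulAut.one_apply] at h6
    rw [mul_inv_eq_iff_eq_mul] at h6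
    exact h6
  rw [CfsgLib.Solv.hnpc_iff_frobCond]
  intro Q hQ g hgN hg
  rw [Subgroup.mem_centralizer_iff]
  intro q hq
  let a : MulAut Q := Q.normalizerMonoidHom ⟨g, hgN⟩
  have ha : Nat.Coprime (orderOf a) p := by
    refine hg.coprime_dvd_left ((orderOf_map_dvd _ _).trans ?_)
    rw [← Subgroup.orderOf_coe]
  have h7 : a = 1 := aut_eq_one_of_fix_small hQ ha fun x hx => by
    have hxU : (x : G) ∈ U := hin _ (by simpa using congrArg Subtype.val hx)
    refine Subtype.ext ?_
    show g * (x : G) * g⁻¹ = x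
    rw [hfix g hg ⟨_, hxU⟩, mul_inv_cancel_right]
  have h8 : g * q * g⁻¹ = q :=
    congrArg Subtype.val (congrArg (fun b : MulAut Q => b ⟨q, hq⟩) h7)
  rw [mul_inv_eq_iff_eq_mul] at h8
  exact h8.symm

end Cfsg.Agent.S4126
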