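import Cfsg.Statements.S4127
import Cfsg.Agent.Perm.ClassSize
import Cfsg.Agent.Perm.PComp
import Cfsg.Agent.Solv.CoprimeAction

set_option autoImplicit false
set_option linter.style.haveILetI false
open Cfsg

namespace Cfsg.Agent.S4127

/-- Let G be a finite group, p a prime and p^a the largest power of p dividing the size of any conjugacy class of G. If some element of p-power order has a conjugacy class of size exactly p^a, then G has a normal p-complement. -/
theorem result {G : Type*} [Group G] [Finite G] (p : ℕ) [Fact p.Prime]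
    (a : ℕ) (hmax : ∀ y : G, ¬ p ^ (a + 1) ∣ (Subgroup.centralizer ({y} : Set G)).index)
    (hx : ∃ x : G, (∃ k : ℕ, orderOf x = p ^ k) ∧ (Subgroup.centralizer ({x} : Set G)).index = p ^ a) :
    Cfsg.HasNormalPComplement p G := by
  classical
  obtain ⟨x, ⟨k, hk⟩, hxi⟩ := hx
  have hp : p.Prime := Fact.out
  set C := Subgroup.centralizer ({x} : Set G) with hC
  -- `x` lies in `O_p`
  have hxR : x ∈ Cfsg.pCore p G := by
    have hxp : IsPGroup p (Subgroup.zpowers x) := IsPGroup.of_card (n := k) (by rw [Nat.card_zpowers, hk])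
    obtain ⟨P, hP⟩ := hxp.exists_le_sylow
    set N := Subgroup.normalClosure ({x} : Set G) with hN
    have hNP : N ≤ P := by
      rw [hN, Subgroup.normalClosure, Subgroup.closure_le]
      intro y hy
      rw [Group.mem_conjugatesOfSet_iff] at hy
      obtain ⟨z₀, hz₀, hconj⟩ := hy
      rw [Set.mem_singleton_iff] at hz₀
      rw [hz₀] at hconj
      obtain ⟨g, rfl⟩ := isConj_iff.1 hconj
      -- the indices of `P` and `C` are coprime, so `G = P C`
      obtain ⟨u, hu, v, hv, huv⟩ : ∃ u ∈ (P : Subgroup G), ∃ v ∈ C, u * v = g := by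
        have hPC : (P : Subgroup G).index ≤ (P : Subgroup G).relIndex C := by
          have hcop : (P : Subgroup G).index.Coprime C.index := by
            rw [hxi]; exact ((hp.coprime_iff_not_dvd.2 P.not_dvd_index).pow_left a).symm
          refine Nat.le_of_dvd (Nat.pos_of_ne_zero Subgroup.index_ne_zero_of_finite) ?_
          refine hcop.dvd_of_dvd_mul_right ?_
          have h1 := Subgroup.relIndex_mul_index (inf_le_right : (P : Subgroup G) ⊓ C ≤ C)
          rw [Subgroup.inf_relIndex_right] at h1
          rw [h1]; exact Subgroup.index_dvd_of_le inf_le_left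
        let F : C ⧸ (P : Subgroup G).subgroupOf C → G ⧸ (P : Subgroup G) :=
          Quotient.map' (fun c => (c : G)) (fun c d h => by
            rw [QuotientGroup.leftRel_apply] at h ⊢; exact h)
        have hinj : Function.Injective F := by
          rintro ⟨c⟩ ⟨d⟩ h
          exact QuotientGroup.eq.2 (QuotientGroup.eq.1 h :)
        have hsur := (hinj.bijective_of_nat_card_le hPC).2
        obtain ⟨q, hq⟩ := hsur (g⁻¹ : G)
        obtain ⟨c, rfl⟩ := QuotientGroup.mk_surjective q
        refine ⟨g * (c : G), ?_, (c : G)⁻¹, inv_mem c.2, by group⟩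
        have h2 : (c : G)⁻¹ * g⁻¹ ∈ (P : Subgroup G) := QuotientGroup.eq.1 hq
        simpa using inv_mem h2
      subst huv
      have hvx : v * x * v⁻¹ = x := by
        rw [Subgroup.mem_centralizer_singleton_iff.1 hv, mul_inv_cancel_right]
      rw [show u * v * x * (u * v)⁻¹ = u * (v * x * v⁻¹) * u⁻¹ by group, hvx]
      exact mul_mem (mul_mem hu (hP (Subgroup.mem_zpowers x))) (inv_mem hu)
    exact CfsgLib.Solv.le_pCore (P.2.to_le hNP) (Subgroup.subset_normalClosure rfl)
  -- every element of `C` of order prime to `p` centralises a Sylow subgroup of `C`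
  have hloc : ∀ y : C, (orderOf y).Coprime p → ¬ p ∣ (Subgroup.centralizer ({y} : Set C)).index := by
    intro y hy hdvd
    have hcomm : Commute (y : G) x := Subgroup.mem_centralizer_singleton_iff.1 y.2
    set D := Subgroup.centralizer ({x * (y : G)} : Set G) with hD
    have hDle : D ≤ C := by
      intro z hz
      rw [hD, Subgroup.mem_centralizer_singleton_iff] at hz
      rw [hC, Subgroup.mem_centralizer_singleton_iff]
      have hoy : (orderOf x).Coprime (orderOf (y : G)) := by
        rw [hk, Subgroup.orderOf_coe]; exact (hy.symm).pow_left k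
      have hz' : Commute z x := by
        have hxy : x ∈ Subgroup.zpowers (x * (y : G)) := by
          apply CfsgLib.Perm.mem_of_pow_mem_of_coprime (n := orderOf (y : G)) hoy
          have h1 : (x * (y : G)) ^ orderOf (y : G) = x ^ orderOf (y : G) := by
            rw [hcomm.symm.mul_pow, pow_orderOf_eq_one, mul_one]
          rw [← h1]
          exact pow_mem (Subgroup.mem_zpowers _) _
        obtain ⟨i, hi⟩ := Subgroup.mem_zpowers_iff.1 hxy
        rw [← hi]
        exact (show Commute z (x * (y : G)) from hz).zpow_right i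
      exact hz'.eq
    have hDeq : D.subgroupOf C = Subgroup.centralizer ({y} : Set C) := by
      ext z
      rw [Subgroup.mem_subgroupOf, hD, Subgroup.mem_centralizer_singleton_iff,
        Subgroup.mem_centralizer_singleton_iff, Subtype.ext_iff, Subgroup.coe_mul, Subgroup.coe_mul]
      have hzx : (z : G) * x = x * z := Subgroup.mem_centralizer_singleton_iff.1 z.2
      rw [← mul_assoc, hzx, mul_assoc, mul_assoc, mul_right_inj]
    apply hmax (x * (y : G))
    rw [← hD, ← Subgroup.relIndex_mul_index hDle, hxi, pow_succ', Subgroup.relIndex, hDeq]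
    exact Nat.mul_dvd_mul hdvd dvd_rfl
  obtain ⟨P₀⟩ := (inferInstance : Nonempty (Sylow p C))
  obtain ⟨hP₀, H, hHn, hHp, hHd, hHs, hcom⟩ := CfsgLib.Perm.sylow_direct_factor hloc P₀
  set HG := H.map C.subtype with hHG
  set R := Cfsg.pCore p G with hR
  haveI : R.Normal := CfsgLib.Solv.pCore_normal G p
  have hHGC : HG ≤ C := Subgroup.map_subtype_le _
  have hcardH : ¬ p ∣ Nat.card HG := by rwa [hHG, CfsgLib.Solv.card_map_subtype]
  have hpp : ∀ z : C, IsPGroup p (Subgroup.zpowers z) → z ∈ (P₀ : Subgroup C) := by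
    intro z hz
    obtain ⟨Q, hQ⟩ := hz.exists_le_sylow
    haveI := Sylow.unique_of_normal P₀ hP₀
    rw [Subsingleton.elim Q P₀] at hQ
    exact hQ (Subgroup.mem_zpowers z)
  have hHR : HG ≤ Subgroup.centralizer (R : Set G) := by
    refine CfsgLib.Solv.thompson_pq (P := Subgroup.zpowers x) (Q := HG) ?_
      (Nat.Coprime.symm (hp.coprime_iff_not_dvd.2 hcardH)) ?_ R (CfsgLib.Solv.pCore_isPGroup G p)
      (by rw [Subgroup.normalizer_eq_top]; exact le_top) (by rw [Subgroup.normalizer_eq_top]; exact le_top) ?_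
    · exact IsPGroup.of_card (n := k) (by rw [Nat.card_zpowers, hk])
    · rw [Subgroup.zpowers_le, Subgroup.mem_centralizer_iff]
      intro z hz
      exact Subgroup.mem_centralizer_singleton_iff.1 (hHGC hz)
    · rintro u ⟨huR, huC⟩
      have huC' : u ∈ C := Subgroup.mem_centralizer_singleton_iff.2
        (Subgroup.mem_centralizer_iff.1 huC x (Subgroup.mem_zpowers x)).symm
      have hup : IsPGroup p (Subgroup.zpowers (⟨u, huC'⟩ : C)) := by
        intro z
        obtain ⟨i, hi⟩ := Subgroup.mem_zpowers_iff.1 z.2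
        obtain ⟨n, hn⟩ := CfsgLib.Solv.pCore_isPGroup G p ⟨u, huR⟩
        refine ⟨n, Subtype.ext ?_⟩
        have hn' : (⟨u, huC'⟩ : C) ^ p ^ n = 1 := Subtype.ext (by simpa using congrArg Subtype.val hn)
        rw [Subgroup.coe_pow, ← hi, ← zpow_natCast (_ ^ i), zpow_comm, zpow_natCast, hn', one_zpow]
        rfl
      rw [Subgroup.mem_centralizer_iff]
      rintro _ ⟨h', hh', rfl⟩
      exact congrArg Subtype.val (hcom h' hh' _ (hpp _ hup))
  have hnorm : HG.Normal := by
    refine ⟨fun z hz g => ?_⟩
    have hRC : Subgroup.centralizer (R : Set G) ≤ C := fun w hw =>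
      Subgroup.mem_centralizer_singleton_iff.2 (Subgroup.mem_centralizer_iff.1 hw x hxR).symm
    have hw : g * z * g⁻¹ ∈ Subgroup.centralizer (R : Set G) :=
      Subgroup.Normal.conj_mem inferInstance z (hHR hz) g
    set w : C := ⟨g * z * g⁻¹, hRC hw⟩
    refine ⟨w, ?_, rfl⟩
    have hidx : ∃ m, H.index = p ^ m := by
      obtain ⟨m, hm⟩ := IsPGroup.iff_card.1 P₀.2
      refine ⟨m, ?_⟩
      haveI := hP₀
      have hcpl : Subgroup.IsComplement' (P₀ : Subgroup C) H := Subgroup.isComplement'_of_disjoint_and_mul_eq_univ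
        (disjoint_iff.2 hHd) (by rw [← Subgroup.normal_mul, hHs, Subgroup.coe_top])
      rw [hcpl.index_eq_card, hm]
    obtain ⟨m, hm⟩ := hidx
    refine CfsgLib.Perm.mem_of_pow_mem_of_coprime (n := H.index) ?_ (Subgroup.pow_index_mem H w)
    have how : orderOf w = orderOf z := by
      rw [← Subgroup.orderOf_coe w]
      exact (orderOf_injective (MulAut.conj g).toMonoidHom (MulAut.conj g).injective z)
    rw [how, hm]
    refine Nat.Coprime.pow_right m (Nat.Coprime.symm (hp.coprime_iff_not_dvd.2 fun hd => hcardH ?_))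
    exact hd.trans (Subgroup.orderOf_dvd_natCard _ hz)
  haveI := hnorm
  refine CfsgLib.Perm.hasNormalPComplement_of HG hcardH ?_
  obtain ⟨m, hm⟩ := IsPGroup.iff_card.1 P₀.2
  refine ⟨m + a, ?_⟩
  haveI := hP₀
  have hcpl : Subgroup.IsComplement' (P₀ : Subgroup C) H := Subgroup.isComplement'_of_disjoint_and_mul_eq_univ
    (disjoint_iff.2 hHd) (by rw [← Subgroup.normal_mul, hHs, Subgroup.coe_top])
  rw [hHG, Subgroup.index_map_subtype, hxi, hcpl.index_eq_card, hm, pow_add]

end Cfsg.Agent.S4127
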