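import Mathlib
import Cfsg.Statements.S4134

set_option autoImplicit false
set_option linter.unusedSectionVars false
set_option linter.style.haveILetI false
open Cfsg

namespace Cfsg.Agent.S4134

open Subgroup

variable {G : Type*} [Group G] [Finite G]

/-- The elements of `r`-power order. -/
def IsPP (r : ℕ) (x : G) : Prop := ∃ k : ℕ, orderOf x = r ^ k

theorem isPP_mul {r : ℕ} (hr : r.Prime) {x y : G} (hxy : Commute x y) (hx : IsPP r x) (hy : IsPP r y) :
    IsPP r (x * y) := by
  obtain ⟨i, hi⟩ := hx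
  obtain ⟨j, hj⟩ := hy
  have h := hxy.orderOf_mul_dvd_mul_orderOf
  rw [hi, hj, ← pow_add] at h
  obtain ⟨k, -, hk⟩ := (Nat.dvd_prime_pow hr).1 h
  exact ⟨k, hk⟩

theorem mem_of_parts (K : Subgroup G) {g : G}
    (h : ∀ r : ℕ, r.Prime → ∀ y ∈ zpowers g, IsPP r y → y ∈ K) : g ∈ K := by
  suffices H : ∀ (n : ℕ) (g : G), orderOf g = n →
      (∀ r : ℕ, r.Prime → ∀ y ∈ zpowers g, IsPP r y → y ∈ K) → g ∈ K from H _ g rfl h
  intro n
  induction n using Nat.recOnPrimeCoprime with
  | zero => intro g hg; exact absurd hg (orderOf_pos g).ne'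
  | prime_pow p k hp => intro g hg h; exact h p hp g (mem_zpowers g) ⟨k, hg⟩
  | coprime a b ha hb hab iha ihb =>
    intro g hg h
    have h1 : ∀ m d : ℕ, orderOf g = m * d → 0 < d → g ^ d ∈ zpowers g ∧ orderOf (g ^ d) = m := by
      intro m d hmd hd
      refine ⟨npow_mem_zpowers g d, ?_⟩
      rw [orderOf_pow' g hd.ne', hmd, Nat.gcd_eq_right (dvd_mul_left _ _), Nat.mul_div_cancel _ hd]
    obtain ⟨m1, o1⟩ := h1 a b hg (by omega)
    obtain ⟨m2, o2⟩ := h1 b a (by rw [hg, mul_comm]) (by omega)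
    have k1 : g ^ b ∈ K := iha _ o1 fun r hr y hy => h r hr y (zpowers_le.2 m1 hy)
    have k2 : g ^ a ∈ K := ihb _ o2 fun r hr y hy => h r hr y (zpowers_le.2 m2 hy)
    obtain ⟨u, v, huv⟩ := Int.isCoprime_iff_nat_coprime.2 (by simpa using hab : (a : ℤ).natAbs.Coprime (b : ℤ).natAbs)
    have : g = (g ^ a) ^ u * (g ^ b) ^ v := by
      rw [← zpow_natCast g a, ← zpow_natCast g b, ← zpow_mul, ← zpow_mul, ← zpow_add, mul_comm (a : ℤ), mul_comm (b : ℤ), huv, zpow_one]
    rw [this]
    exact K.mul_mem (K.zpow_mem k2 _) (K.zpow_mem k1 _)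

theorem mem_zpowers_mul {x y : G} (hxy : Commute x y) (hc : (orderOf x).Coprime (orderOf y)) :
    x ∈ zpowers (x * y) := by
  obtain ⟨m, hm⟩ := exists_pow_eq_self_of_coprime hc.symm
  have : (x * y) ^ orderOf y = x ^ orderOf y := by rw [hxy.mul_pow, pow_orderOf_eq_one, mul_one]
  rw [← this, ← pow_mul] at hm
  have h := npow_mem_zpowers (x * y) (orderOf y * m)
  rwa [hm] at h

theorem mem_C {x g : G} : g ∈ Subgroup.centralizer ({x} : Set G) ↔ Commute g x :=
  mem_centralizer_singleton_iff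

theorem C_le_of_zpowers {x y : G} (h : y ∈ zpowers x) :
    Subgroup.centralizer ({x} : Set G) ≤ Subgroup.centralizer ({y} : Set G) := by
  intro g hg
  obtain ⟨i, rfl⟩ := mem_zpowers_iff.1 h
  exact mem_C.2 ((mem_C.1 hg).zpow_right i)

theorem C_mul_central {x z : G} (hz : z ∈ Subgroup.center G) :
    Subgroup.centralizer ({x * z} : Set G) = Subgroup.centralizer ({x} : Set G) := by
  ext g
  have hgz : Commute g z := mem_center_iff.1 hz g
  refine ⟨fun h => mem_C.2 ?_, fun h => mem_C.2 ((mem_C.1 h).mul_right hgz)⟩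
  have := (mem_C.1 h).mul_right hgz.inv_right
  rwa [mul_inv_cancel_right] at this

/-- A second-centre element of order `p` modulo the centre in a Sylow subgroup. -/
theorem exists_w {p : ℕ} [Fact p.Prime] (P : Sylow p G)
    (hZ : ∀ x : G, x ∈ P → (∀ g ∈ P, Commute g x) → x ∈ Subgroup.center G)
    (hP : ¬ (P : Subgroup G) ≤ Subgroup.center G) :
    ∃ w ∈ P, w ∉ Subgroup.center G ∧ w ^ p ∈ Subgroup.center G ∧
      ∀ g ∈ P, w⁻¹ * g * w * g⁻¹ ∈ Subgroup.center G := by
  set Q := (P : Subgroup G)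
  have hcen : ∀ x : Q, x ∈ Subgroup.center Q → (x : G) ∈ Subgroup.center G := fun x hx =>
    hZ x x.2 fun g hg => congrArg Subtype.val (mem_center_iff.1 hx ⟨g, hg⟩)
  haveI : Nontrivial (Q ⧸ Subgroup.center Q) := QuotientGroup.nontrivial_iff.2 fun h => hP fun x hx =>
    hcen ⟨x, hx⟩ (h ▸ Subgroup.mem_top _)
  have hPQ := P.isPGroup'.to_quotient (Subgroup.center Q)
  haveI := hPQ.center_nontrivial
  obtain ⟨⟨v, hv⟩, hvo⟩ := exists_prime_orderOf_dvd_card' (G := Subgroup.center (Q ⧸ Subgroup.center Q)) p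
    ((hPQ.to_subgroup _).card_eq_or_dvd.resolve_left Finite.one_lt_card.ne')
  obtain ⟨w, rfl⟩ := QuotientGroup.mk_surjective v
  rw [Subgroup.orderOf_mk] at hvo
  refine ⟨w, w.2, fun h => ?_, ?_, fun g hg => ?_⟩
  · have : (w : Q ⧸ Subgroup.center Q) = 1 := (QuotientGroup.eq_one_iff _).2
      (mem_center_iff.2 fun g => Subtype.ext (mem_center_iff.1 h g))
    rw [this, orderOf_one] at hvo
    exact (Fact.out : p.Prime).one_lt.ne hvo
  · have h1 : ((w ^ p : Q) : Q ⧸ Subgroup.center Q) = 1 := by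
      rw [QuotientGroup.mk_pow, ← hvo, pow_orderOf_eq_one]
    exact hcen (w ^ p) ((QuotientGroup.eq_one_iff _).1 h1)
  · have h1 : ((w⁻¹ * ⟨g, hg⟩ * w * ⟨g, hg⟩⁻¹ : Q) : Q ⧸ Subgroup.center Q) = 1 := by
      simp only [QuotientGroup.mk_mul, QuotientGroup.mk_inv]
      rw [mul_assoc _ _ (w : Q ⧸ Subgroup.center Q), mem_center_iff.1 hv, ← mul_assoc, inv_mul_cancel, one_mul, mul_inv_cancel]
    exact hcen _ ((QuotientGroup.eq_one_iff _).1 h1)

theorem commMul_of_le {H : Subgroup G} (h : ∀ a ∈ H, ∀ b ∈ H, Commute a b) : IsMulCommutative H :=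
  ⟨⟨fun a b => Subtype.ext (h a a.2 b b.2)⟩⟩

section Sizes

variable (n : ℕ)
variable (hidx : ∀ x : G, x ∉ Subgroup.center G → (Subgroup.centralizer ({x} : Set G)).index = n)
include hidx

theorem C_card_eq {x y : G} (hx : x ∉ Subgroup.center G) (hy : y ∉ Subgroup.center G) :
    Nat.card (Subgroup.centralizer ({x} : Set G)) = Nat.card (Subgroup.centralizer ({y} : Set G)) := by
  have h1 := (Subgroup.centralizer ({x} : Set G)).card_mul_index
  have h2 := (Subgroup.centralizer ({y} : Set G)).card_mul_index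
  rw [hidx x hx] at h1
  rw [hidx y hy, ← h1] at h2
  exact (Nat.eq_of_mul_eq_mul_right (Nat.pos_of_ne_zero (hidx x hx ▸ Subgroup.index_ne_zero_of_finite)) h2).symm

theorem C_eq {x y : G} (hx : x ∉ Subgroup.center G) (hy : y ∉ Subgroup.center G)
    (h : Subgroup.centralizer ({x} : Set G) ≤ Subgroup.centralizer ({y} : Set G)) :
    Subgroup.centralizer ({x} : Set G) = Subgroup.centralizer ({y} : Set G) :=
  eq_of_le_of_card_ge h (C_card_eq n hidx hy hx).le

theorem C_le_coprime {x y : G} (hx : x ∉ Subgroup.center G) (hxy : Commute y x)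
    (hc : (orderOf x).Coprime (orderOf y)) :
    Subgroup.centralizer ({x} : Set G) ≤ Subgroup.centralizer ({y} : Set G) := by
  have h1 : x ∈ zpowers (x * y) := mem_zpowers_mul hxy.symm hc
  have hne : x * y ∉ Subgroup.center G := fun h => hx (zpowers_le.2 h h1)
  rw [← C_eq n hidx hne hx (C_le_of_zpowers h1)]
  refine C_le_of_zpowers ?_
  rw [hxy.eq.symm]
  exact mem_zpowers_mul hxy hc.symm

theorem exists_part {x : G} (hx : x ∉ Subgroup.center G) : ∃ r : ℕ, r.Prime ∧ ∃ y : G, IsPP r y ∧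
    y ∉ Subgroup.center G ∧ Subgroup.centralizer ({x} : Set G) = Subgroup.centralizer ({y} : Set G) := by
  by_contra hcon
  push Not at hcon
  exact hx (mem_of_parts _ fun r hr y hy hp => by_contra fun hyZ =>
    hcon r hr y hp hyZ (C_eq n hidx hx hyZ (C_le_of_zpowers hy)))

theorem exists_in_C {r : ℕ} (hr : r.Prime) {x y : G} (hx : x ∉ Subgroup.center G) (hy : y ∉ Subgroup.center G)
    (hyr : IsPP r y) : ∃ c ∈ Subgroup.centralizer ({x} : Set G), c ∉ Subgroup.center G ∧ IsPP r c := by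
  haveI : Fact r.Prime := ⟨hr⟩
  by_contra hcon
  push Not at hcon
  set C := Subgroup.centralizer ({x} : Set G)
  obtain ⟨R⟩ : Nonempty (Sylow r C) := inferInstance
  set R' := (R : Subgroup C).map C.subtype with hR'
  have hR'p : IsPGroup r R' := R.isPGroup'.map _
  have hR'Z : R' ≤ Subgroup.center G := by
    intro c hc
    obtain ⟨k, hk⟩ := IsPGroup.iff_orderOf.1 hR'p ⟨c, hc⟩
    rw [Subgroup.orderOf_mk] at hk
    obtain ⟨c', -, rfl⟩ := hc
    by_contra hc'
    exact hcon _ c'.2 hc' ⟨k, hk⟩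
  haveI : R'.Normal := ⟨fun c hc g => by
    rw [mem_center_iff.1 (hR'Z hc) g, mul_inv_cancel_right]; exact hc⟩
  obtain ⟨k, hk⟩ := hyr
  have hK : IsPGroup r (R' ⊔ zpowers y : Subgroup G) := hR'p.to_sup_of_normal_left
    (IsPGroup.of_card (n := k) (by rw [Nat.card_zpowers, hk]))
  have hKC : R' ⊔ zpowers y ≤ Subgroup.centralizer ({y} : Set G) :=
    sup_le (fun c hc => mem_C.2 (mem_center_iff.1 (hR'Z hc) y).symm) (zpowers_le.2 (mem_C.2 (Commute.refl y)))
  obtain ⟨j, hj⟩ := IsPGroup.iff_card.1 hK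
  have h1 := card_dvd_of_le hKC
  rw [← C_card_eq n hidx hx hy, hj, hr.pow_dvd_iff_le_factorization Nat.card_pos.ne'] at h1
  have h2 : Nat.card R' = r ^ (Nat.card C).factorization r := by
    rw [hR', card_map_of_injective C.subtype_injective, R.card_eq_multiplicity]
  have h3 : R' = R' ⊔ zpowers y := eq_of_le_of_card_ge le_sup_left (by
    rw [hj, h2]; exact Nat.pow_le_pow_right hr.pos h1)
  exact hy (hR'Z (h3.symm ▸ mem_sup_right (mem_zpowers y)))

theorem center_sylow_le {p : ℕ} [Fact p.Prime] (P : Sylow p G) (hpn : p ∣ n) {x : G}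
    (hc : ∀ g ∈ P, Commute g x) : x ∈ Subgroup.center G := by
  by_contra hx
  have hle : (P : Subgroup G) ≤ Subgroup.centralizer ({x} : Set G) := fun g hg => mem_C.2 (hc g hg)
  have h1 := card_dvd_of_le hle
  have h2 := (Subgroup.centralizer ({x} : Set G)).card_mul_index
  rw [hidx x hx] at h2
  rw [P.card_eq_multiplicity, ← h2] at h1
  have hp : p.Prime := Fact.out
  rw [hp.pow_dvd_iff_le_factorization Nat.card_pos.ne', Nat.factorization_mul Nat.card_pos.ne'
    (hidx x hx ▸ Subgroup.index_ne_zero_of_finite), Finsupp.add_apply] at h1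
  have := hp.factorization_pos_of_dvd (hidx x hx ▸ Subgroup.index_ne_zero_of_finite) hpn
  omega

theorem sylow_not_le {p : ℕ} [Fact p.Prime] (P : Sylow p G) (hpn : p ∣ n) {x0 : G} (hx0 : x0 ∉ Subgroup.center G) :
    ¬ (P : Subgroup G) ≤ Subgroup.center G := fun h =>
  hx0 (center_sylow_le n hidx P hpn fun g hg => (mem_center_iff.1 (h hg) x0).symm)

/-- With noncentral elements of two prime types the hypothesis is contradictory. -/
theorem two_primes {p₁ p₂ : ℕ} (hne : p₁ ≠ p₂) (hp₁ : p₁.Prime) (hp₂ : p₂.Prime) {a₁ a₂ : G}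
    (ha₁ : a₁ ∉ Subgroup.center G) (h₁ : IsPP p₁ a₁) (ha₂ : a₂ ∉ Subgroup.center G) (h₂ : IsPP p₂ a₂) :
    False := by
  classical
  have hother : ∀ r : ℕ, ∃ s, s ≠ r ∧ s.Prime ∧ ∃ b : G, b ∉ Subgroup.center G ∧ IsPP s b := by
    intro r
    by_cases h : r = p₁
    · exact ⟨p₂, h ▸ hne.symm, hp₂, a₂, ha₂, h₂⟩
    · exact ⟨p₁, Ne.symm h, hp₁, a₁, ha₁, h₁⟩
  have hcop : ∀ {r s : ℕ}, r.Prime → s.Prime → r ≠ s → ∀ {a b : G}, IsPP r a → IsPP s b →
      (orderOf a).Coprime (orderOf b) := by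
    rintro r s hr hs hrs a b ⟨i, hi⟩ ⟨j, hj⟩
    rw [hi, hj]
    exact Nat.Coprime.pow _ _ ((Nat.coprime_primes hr hs).2 hrs)
  -- centralisers of noncentral elements are commutative
  have hab : ∀ x : G, x ∉ Subgroup.center G → ∀ a ∈ Subgroup.centralizer ({x} : Set G),
      ∀ b ∈ Subgroup.centralizer ({x} : Set G), Commute b a := by
    intro x hx a ha b hb
    obtain ⟨r, hr, x0, hx0r, hx0, hC⟩ := exists_part n hidx hx
    rw [hC] at ha hb
    suffices a ∈ Subgroup.centralizer ((Subgroup.centralizer ({x0} : Set G) : Subgroup G) : Set G) from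
      mem_centralizer_iff.1 this b hb
    refine mem_of_parts _ fun s hs a' ha' hs' => mem_centralizer_iff.2 fun c hc => ?_
    have ha0 : Commute a' x0 := mem_C.1 (zpowers_le.2 ha ha')
    by_cases hsr : s = r
    · subst hsr
      obtain ⟨t, htr, ht, b0, hb0, hb0t⟩ := hother s
      obtain ⟨y, hyC, hyZ, hyt⟩ := exists_in_C n hidx ht hx0 hb0 hb0t
      have e := C_eq n hidx hx0 hyZ (C_le_coprime n hidx hx0 (mem_C.1 hyC) (hcop hr ht (Ne.symm htr) hx0r hyt))
      have hya : a' ∈ Subgroup.centralizer ({y} : Set G) := e ▸ mem_C.2 ha0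
      exact mem_C.1 (C_le_coprime n hidx hyZ (mem_C.1 hya) (hcop ht hr htr hyt hs') (e ▸ hc))
    · exact mem_C.1 (C_le_coprime n hidx hx0 ha0 (hcop hr hs (Ne.symm hsr) hx0r hs') hc)
  have hCeq : ∀ x y : G, x ∉ Subgroup.center G → y ∉ Subgroup.center G →
      y ∈ Subgroup.centralizer ({x} : Set G) →
      Subgroup.centralizer ({x} : Set G) = Subgroup.centralizer ({y} : Set G) :=
    fun x y hx hy hyx => C_eq n hidx hx hy fun g hg => mem_C.2 (hab x hx y hyx g hg)
  have hn0 : n ≠ 0 := hidx a₁ ha₁ ▸ Subgroup.index_ne_zero_of_finite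
  -- each prime divisor of the class size occurs once
  have hsq : ∀ p : ℕ, p.Prime → p ∣ n → n.factorization p ≤ 1 ∧ ∃ b : G, b ∉ Subgroup.center G ∧ IsPP p b := by
    intro p hp hpn
    haveI : Fact p.Prime := ⟨hp⟩
    obtain ⟨P⟩ : Nonempty (Sylow p G) := inferInstance
    obtain ⟨w, hwP, hwZ, hwp, hwc⟩ := exists_w P (fun x _ hc => center_sylow_le n hidx P hpn hc)
      (sylow_not_le n hidx P hpn ha₁)
    obtain ⟨e, he⟩ := IsPGroup.iff_orderOf.1 P.isPGroup' ⟨w, hwP⟩
    rw [Subgroup.orderOf_mk] at he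
    refine ⟨?_, w, hwZ, e, he⟩
    set C := Subgroup.centralizer ({w} : Set G) with hCdef
    have hnorm : ∀ g ∈ P, ∀ c ∈ C, g * c * g⁻¹ ∈ C := by
      intro g hg c hc
      have h1 : Commute (g * c * g⁻¹) (g * w * g⁻¹) := (mem_C.1 hc).map (MulAut.conj g).toMonoidHom
      have h2 : g * w * g⁻¹ = w * (w⁻¹ * g * w * g⁻¹) := by group
      rw [hCdef, ← C_mul_central (x := w) (hwc g hg), ← h2]
      exact mem_C.2 h1
    let φ : (P : Subgroup G) →* Equiv.Perm C :=
      { toFun := fun g =>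
          { toFun := fun c => ⟨g * c * (g : G)⁻¹, hnorm g g.2 c c.2⟩
            invFun := fun c => ⟨(g : G)⁻¹ * c * g, by
              simpa using hnorm _ (inv_mem g.2) c c.2⟩
            left_inv := fun c => Subtype.ext (by simp [mul_assoc])
            right_inv := fun c => Subtype.ext (by simp [mul_assoc]) }
        map_one' := by ext c; simp
        map_mul' := fun g h => by ext c; simp [mul_assoc] }
    have hφ : ∀ (g : (P : Subgroup G)) (c : C), ((φ g c : C) : G) = g * c * (g : G)⁻¹ := fun _ _ => rfl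
    have hCab : ∀ a ∈ C, ∀ b ∈ C, Commute b a := hab w hwZ
    have hφC : ∀ g : (P : Subgroup G), (g : G) ∈ C → φ g = 1 := fun g hg => Equiv.ext fun c => Subtype.ext (by
      rw [hφ, (hCab _ c.2 _ hg).eq, mul_inv_cancel_right]; rfl)
    have hcm : ∀ g h : (P : Subgroup G), Commute (φ g) (φ h) := by
      intro g h
      have cz : ∀ u : (P : Subgroup G), ∃ z ∈ Subgroup.center G, (u : G) * w * (u : G)⁻¹ = w * z := fun u =>
        ⟨_, hwc u u.2, by group⟩
      have this : ((h⁻¹ * g⁻¹ * h * g : (P : Subgroup G)) : G) ∈ C := by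
        refine mem_C.2 ?_
        obtain ⟨z, hz, ez⟩ := cz g
        obtain ⟨z', hz', ez'⟩ := cz h
        have key : ∀ (u v : G) (a b : G), a ∈ Subgroup.center G → v * w * v⁻¹ = w * a →
            u * w * u⁻¹ = w * b → (u * v) * w * (u * v)⁻¹ = w * (b * a) := by
          intro u v a b ha hv hu
          calc (u * v) * w * (u * v)⁻¹ = u * (v * w * v⁻¹) * u⁻¹ := by group
            _ = (u * w) * (a * u⁻¹) := by rw [hv]; group
            _ = (u * w) * (u⁻¹ * a) := by rw [Subgroup.mem_center_iff.1 ha u⁻¹]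
            _ = (u * w * u⁻¹) * a := by group
            _ = _ := by rw [hu]; group
        have e1 := key g h z' z hz' ez' ez
        have e2 := key h g z z' hz ez ez'
        rw [← Subgroup.mem_center_iff.1 hz' z] at e2
        have e3 : ((g : G) * h) * w * ((g : G) * h)⁻¹ = ((h : G) * g) * w * ((h : G) * g)⁻¹ := e1.trans e2.symm
        show ((h : G)⁻¹ * (g : G)⁻¹ * h * g) * w = w * ((h : G)⁻¹ * (g : G)⁻¹ * h * g)
        calc ((h : G)⁻¹ * (g : G)⁻¹ * h * g) * w
            = ((g : G) * h)⁻¹ * (((h : G) * g) * w * ((h : G) * g)⁻¹) * ((h : G) * g) := by group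
          _ = ((g : G) * h)⁻¹ * (((g : G) * h) * w * ((g : G) * h)⁻¹) * ((h : G) * g) := by rw [e3]
          _ = _ := by group
      have h1 := hφC _ this
      have e : g * h * (h⁻¹ * g⁻¹ * h * g) = h * g := by group
      show φ g * φ h = φ h * φ g
      rw [← map_mul, ← map_mul]
      calc φ (g * h) = φ (g * h * (h⁻¹ * g⁻¹ * h * g)) := by rw [map_mul φ (g * h), h1, mul_one]
        _ = φ (h * g) := by rw [e]
    have hφp : ∀ g : (P : Subgroup G), φ g ^ p = 1 := by
      intro g
      rw [← map_pow]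
      refine hφC _ (mem_C.2 ?_)
      set z := w⁻¹ * (g : G) * w * (g : G)⁻¹
      have hz : z ∈ Subgroup.center G := hwc g g.2
      have hpow : ∀ i : ℕ, (g : G) ^ i * w = w * z ^ i * (g : G) ^ i := by
        intro i
        induction i with
        | zero => simp
        | succ i ih =>
          calc (g : G) ^ (i + 1) * w = (g : G) * ((g : G) ^ i * w) := by rw [pow_succ']; group
            _ = (g : G) * w * z ^ i * (g : G) ^ i := by rw [ih]; group
            _ = w * z * ((g : G) * z ^ i) * (g : G) ^ i := by simp only [z]; group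
            _ = w * z * (z ^ i * (g : G)) * (g : G) ^ i := by rw [mem_center_iff.1 (pow_mem hz i)]
            _ = _ := by rw [pow_succ', pow_succ' (g : G)]; group
      have hzp : z ^ p = 1 := by
        have h1 : (g : G) * w * (g : G)⁻¹ = w * z := by simp only [z]; group
        have h2 : ((g : G) * w * (g : G)⁻¹) ^ p = w ^ p := by
          rw [conj_pow, mem_center_iff.1 hwp, mul_inv_cancel_right]
        rw [h1, (show Commute w z from mem_center_iff.1 hz w).mul_pow] at h2
        exact mul_eq_left.1 h2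
      show ((g ^ p : (P : Subgroup G)) : G) * w = w * ((g ^ p : (P : Subgroup G)) : G)
      rw [SubgroupClass.coe_pow, hpow p, hzp, mul_one]
    by_contra hbig
    -- two independent elements
    obtain ⟨g, h, hgC, hh⟩ : ∃ g h : (P : Subgroup G), (g : G) ∉ C ∧
        ∀ i : ℕ, i < p → ((g ^ i)⁻¹ * h : (P : Subgroup G)).1 ∉ C := by
      have hPC : ¬ (P : Subgroup G) ≤ C := fun h => hwZ (center_sylow_le n hidx P hpn fun g hg => mem_C.1 (h hg))
      obtain ⟨g, hgP, hgC⟩ := SetLike.not_le_iff_exists.1 hPC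
      refine ⟨⟨g, hgP⟩, ?_⟩
      by_contra hcon
      push Not at hcon
      have hsurj : Function.Surjective fun q : Fin p × ((P : Subgroup G) ⊓ C : Subgroup G) =>
          (⟨g ^ (q.1 : ℕ) * q.2, mul_mem (pow_mem hgP _) q.2.2.1⟩ : (P : Subgroup G)) := by
        intro h
        obtain ⟨i, hi, hiC⟩ := hcon h hgC
        exact ⟨⟨⟨i, hi⟩, ⟨_, ((⟨g, hgP⟩ ^ i)⁻¹ * h : (P : Subgroup G)).2, hiC⟩⟩, Subtype.ext (by simp)⟩
      have h1 := Nat.card_le_card_of_surjective _ hsurj
      rw [Nat.card_prod, Nat.card_fin, P.card_eq_multiplicity] at h1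
      obtain ⟨j, hj⟩ := IsPGroup.iff_card.1 (P.isPGroup'.to_le (inf_le_left : (P : Subgroup G) ⊓ C ≤ P))
      have h2 := card_dvd_of_le (inf_le_right : (P : Subgroup G) ⊓ C ≤ C)
      rw [hj, hp.pow_dvd_iff_le_factorization Nat.card_pos.ne'] at h2
      rw [hj, ← pow_succ'] at h1
      have h3 := (Nat.pow_le_pow_iff_right hp.one_lt).1 h1
      have h4 := C.card_mul_index
      rw [hidx w hwZ] at h4
      rw [← h4, Nat.factorization_mul Nat.card_pos.ne' hn0, Finsupp.add_apply] at h3
      omega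
    obtain ⟨q, hqp, hq, b, hb, hbq⟩ := hother p
    obtain ⟨c, hcC, hcZ, k, hk⟩ := exists_in_C n hidx hq hwZ hb hbq
    letI : CommGroup C :=
      { (inferInstance : Group C) with mul_comm := fun a b => Subtype.ext (hCab b b.2 a a.2) }
    -- norms of q-elements are central
    have hnormZ : ∀ u : (P : Subgroup G), (u : G) ∉ C → ∀ d : C, orderOf (d : G) = q ^ k →
        ((∏ i ∈ Finset.range p, (φ u ^ i) d : C) : G) ∈ Subgroup.center G := by
      intro u hu d hd
      set N : C := ∏ i ∈ Finset.range p, (φ u ^ i) d with hN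
      by_contra hNZ
      have hmul : ∀ a b : C, φ u (a * b) = φ u a * φ u b := fun a b => Subtype.ext (by simp [hφ, mul_assoc])
      have hfix : φ u N = N := by
        have hone : φ u 1 = 1 := Subtype.ext (by simp [hφ])
        let f : C →* C := ⟨⟨φ u, hone⟩, hmul⟩
        show f N = N
        have e : ∀ i : ℕ, f ((φ u ^ i) d) = (φ u ^ (i + 1)) d := fun i => by rw [pow_succ']; rfl
        have h1 := Finset.prod_range_succ (fun i => (φ u ^ i) d) p
        have h2 := Finset.prod_range_succ' (fun i => (φ u ^ i) d) p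
        rw [h1, hφp u, pow_zero] at h2
        rw [hN, map_prod, Finset.prod_congr rfl fun i _ => e i]
        exact (mul_right_cancel h2).symm
      have h1 : (u : G) ∈ Subgroup.centralizer ({(N : G)} : Set G) := by
        refine mem_C.2 ?_
        have := congrArg Subtype.val hfix
        rw [hφ] at this
        exact mul_inv_eq_iff_eq_mul.1 this
      exact hu (hCdef ▸ hCeq w N hwZ hNZ N.2 ▸ h1)
    have hpow : ∀ (a j : ℕ) (u : (P : Subgroup G)), φ u ^ (a % p) = φ u ^ a := fun a j u =>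
      (pow_eq_pow_mod a (hφp u)).symm
    set σ := φ g
    set τ := φ h
    have hcq : ∀ (π : (P : Subgroup G)), orderOf ((φ π ⟨c, hcC⟩ : C) : G) = q ^ k := fun π => by
      rw [hφ]; exact ((MulAut.conj (π : G)).orderOf_eq c).trans hk
    haveI : NeZero p := ⟨hp.ne_zero⟩
    set F : ℕ → ℕ → C := fun a j => (σ ^ a * τ ^ j) ⟨c, hcC⟩ with hF
    have hmod : ∀ a j, F (a % p) j = F a j := fun a j => by simp only [hF, σ]; rw [hpow a j g]
    -- the double product
    have hrow : ∀ i ∈ Finset.range p, ((∏ j ∈ Finset.range p, F (i * j) j : C) : G) ∈ Subgroup.center G := by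
      intro i hi
      have hu : ((g ^ i * h : (P : Subgroup G)) : G) ∉ C := by
        intro hc'
        rw [Finset.mem_range] at hi
        rcases Nat.eq_zero_or_pos i with rfl | hpos
        · exact hh 0 hp.pos (by simpa using hc')
        · refine hh (p - i) (by omega) ?_
          have e : ((g ^ (p - i))⁻¹ * h : (P : Subgroup G)) = (g ^ p)⁻¹ * (g ^ i * h) := by
            rw [show g ^ p = g ^ i * g ^ (p - i) by rw [← pow_add, Nat.add_sub_cancel' hi.le]]; group
          rw [e]
          refine C.mul_mem (C.inv_mem (mem_C.2 ?_)) hc'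
          have hgp : ((g ^ p : (P : Subgroup G)) : G) * c * ((g ^ p : (P : Subgroup G)) : G)⁻¹ = c := by
            have := congrArg (fun f : Equiv.Perm C => ((f ⟨c, hcC⟩ : C) : G)) (hφp g)
            rwa [← map_pow] at this
          exact mem_C.1 (hCeq w c hwZ hcZ hcC ▸ mem_C.2 (mul_inv_eq_iff_eq_mul.1 hgp))
      have e : ∀ j, F (i * j) j = (φ (g ^ i * h) ^ j) ⟨c, hcC⟩ := fun j => by
        simp only [hF, σ, τ]; rw [map_mul, map_pow, ((hcm g h).pow_left i).mul_pow, pow_mul]
      rw [Finset.prod_congr rfl fun j _ => e j]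
      exact hnormZ _ hu _ hk
    have hcol : ∀ j ∈ (Finset.range p).erase 0, ((∏ i ∈ Finset.range p, F (i * j) j : C) : G) ∈ Subgroup.center G := by
      intro j hj
      rw [Finset.mem_erase, Finset.mem_range] at hj
      have hjp : j.Coprime p := ((hp.coprime_iff_not_dvd).2 fun h => absurd (Nat.le_of_dvd (by omega) h) (by omega)).symm
      have e : ∏ i ∈ Finset.range p, F (i * j) j = ∏ a ∈ Finset.range p, F a j := by
        refine Finset.prod_bij' (fun i _ => i * j % p) (fun a _ => a * ((j : ZMod p)⁻¹).val % p)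
          (fun i _ => Finset.mem_range.2 (Nat.mod_lt _ hp.pos)) (fun i _ => Finset.mem_range.2 (Nat.mod_lt _ hp.pos))
          ?_ ?_ (fun i _ => (hmod _ _).symm)
        · intro a ha
          rw [Finset.mem_range] at ha
          have h5 : ((a * j % p * ((j : ZMod p)⁻¹).val % p : ℕ) : ZMod p) = (a : ℕ) := by
            simp only [ZMod.natCast_mod, Nat.cast_mul, ZMod.natCast_zmod_val]
            rw [mul_assoc, ZMod.mul_inv_of_unit _ ((ZMod.isUnit_iff_coprime j p).2 hjp), mul_one]
          have h6 := (ZMod.natCast_eq_natCast_iff' _ _ _).1 h5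
          rwa [Nat.mod_mod, Nat.mod_eq_of_lt ha] at h6
        · intro a ha
          rw [Finset.mem_range] at ha
          have h5 : ((a * ((j : ZMod p)⁻¹).val % p * j % p : ℕ) : ZMod p) = (a : ℕ) := by
            simp only [ZMod.natCast_mod, Nat.cast_mul, ZMod.natCast_zmod_val]
            rw [mul_assoc, ZMod.inv_mul_of_unit _ ((ZMod.isUnit_iff_coprime j p).2 hjp), mul_one]
          have h6 := (ZMod.natCast_eq_natCast_iff' _ _ _).1 h5
          rwa [Nat.mod_mod, Nat.mod_eq_of_lt ha] at h6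
      rw [e]
      have e2 : ∀ a, F a j = (σ ^ a) ((φ (h ^ j)) ⟨c, hcC⟩) := fun a => by simp only [hF, τ]; rw [map_pow]; rfl
      rw [Finset.prod_congr rfl fun a _ => e2 a]
      exact hnormZ g hgC _ (hcq _)
    have hZC : ∀ (s : Finset ℕ) (f : ℕ → C), (∀ i ∈ s, (f i : G) ∈ Subgroup.center G) →
        ((∏ i ∈ s, f i : C) : G) ∈ Subgroup.center G := fun s f hf =>
      Finset.prod_induction f (fun d : C => (d : G) ∈ Subgroup.center G) (fun a b ha hb => mul_mem ha hb)
        (one_mem _) hf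
    have hall : ((∏ i ∈ Finset.range p, ∏ j ∈ Finset.range p, F (i * j) j : C) : G) ∈ Subgroup.center G :=
      hZC _ _ hrow
    rw [Finset.prod_comm, ← Finset.mul_prod_erase _ _ (Finset.mem_range.2 hp.pos)] at hall
    have hrest := hZC _ _ hcol
    have h0 : ((∏ i ∈ Finset.range p, F (i * 0) 0 : C) : G) ∈ Subgroup.center G :=
      (Subgroup.mul_mem_cancel_right _ hrest).1 hall
    have e0 : ∏ i ∈ Finset.range p, F (i * 0) 0 = (⟨c, hcC⟩ : C) ^ p := by simp [hF]
    rw [e0, SubgroupClass.coe_pow] at h0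
    obtain ⟨m, hm⟩ := exists_pow_eq_self_of_coprime (x := c) (n := p) (by
      rw [hk]; exact Nat.Coprime.pow_right k ((Nat.coprime_primes hp hq).2 (Ne.symm hqp)))
    exact hcZ (hm ▸ pow_mem h0 m)
  -- the index of the centre in each centraliser
  set Z := Subgroup.center G
  have hZle : ∀ x : G, Z ≤ Subgroup.centralizer ({x} : Set G) := fun x z hz => mem_C.2 (mem_center_iff.1 hz x).symm
  have hrel : ∀ x : G, x ∉ Z → n ∣ Z.relIndex (Subgroup.centralizer ({x} : Set G)) := by
    intro x hx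
    set C := Subgroup.centralizer ({x} : Set G)
    have hne : Z.relIndex C ≠ 0 := Subgroup.index_ne_zero_of_finite
    rw [← Nat.factorization_prime_le_iff_dvd hn0 hne]
    intro p hp
    by_cases hpn : p ∣ n
    · obtain ⟨hle, b, hb, hbp⟩ := hsq p hp hpn
      obtain ⟨c, hcC, hcZ, k, hk⟩ := exists_in_C n hidx hp hx hb hbp
      haveI : (Z.subgroupOf C).Normal := inferInstance
      have h1 : orderOf ((⟨c, hcC⟩ : C) : C ⧸ Z.subgroupOf C) ∣ Z.relIndex C := orderOf_dvd_natCard _
      have h2 := orderOf_map_dvd (QuotientGroup.mk' (Z.subgroupOf C)) (⟨c, hcC⟩ : C)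
      rw [Subgroup.orderOf_mk, hk] at h2
      obtain ⟨i, -, hi⟩ := (Nat.dvd_prime_pow hp).1 h2
      rcases i with _ | i
      · rw [pow_zero, orderOf_eq_one_iff] at hi
        exact absurd ((QuotientGroup.eq_one_iff _).1 hi) (by simpa [Subgroup.mem_subgroupOf] using hcZ)
      · have h3 : p ∣ Z.relIndex C := (hi ▸ dvd_pow_self p i.succ_ne_zero : p ∣ _).trans h1
        have := hp.factorization_pos_of_dvd hne h3
        omega
    · simp [Nat.factorization_eq_zero_of_not_dvd hpn]
  have hinter : ∀ x y : G, x ∉ Z → y ∉ Subgroup.centralizer ({x} : Set G) → ∀ d,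
      d ∈ Subgroup.centralizer ({x} : Set G) → d ∈ Subgroup.centralizer ({y} : Set G) → d ∈ Z := by
    intro x y hx hy d hdx hdy
    by_contra hd
    refine hy ?_
    have hyZ : y ∉ Z := fun h => hy (hZle x h)
    rw [hCeq x d hx hd hdx, ← hCeq y d hyZ hd hdy]
    exact mem_C.2 (Commute.refl y)
  have hprod : ∀ x y : G, x ∉ Z → y ∉ Subgroup.centralizer ({x} : Set G) → ∀ g : G,
      ∃ a ∈ Subgroup.centralizer ({y} : Set G), ∃ b ∈ Subgroup.centralizer ({x} : Set G), g = a * b := by
    intro x y hx hy g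
    have hyZ : y ∉ Z := fun h => hy (hZle x h)
    set Cx := Subgroup.centralizer ({x} : Set G)
    set Cy := Subgroup.centralizer ({y} : Set G)
    let π := QuotientGroup.mk' Z
    have hcard : ∀ x : G, x ∉ Z → Nat.card ((Subgroup.centralizer ({x} : Set G)).map π) =
        Z.relIndex (Subgroup.centralizer ({x} : Set G)) := fun x _ => by
      rw [← Subgroup.relIndex_bot_left, ← Subgroup.relIndex_comap, MonoidHom.comap_bot, QuotientGroup.ker_mk']
    have htot : ∀ x : G, x ∉ Z → Nat.card (G ⧸ Z) = Z.relIndex (Subgroup.centralizer ({x} : Set G)) * n := fun x hx => by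
      rw [← hidx x hx, Subgroup.relIndex_mul_index (hZle x)]; rfl
    let f : Cy.map π × Cx.map π → G ⧸ Z := fun q => (q.1 : G ⧸ Z) * q.2
    have hinj : Function.Injective f := by
      rintro ⟨⟨_, a, ha, rfl⟩, ⟨_, b, hb, rfl⟩⟩ ⟨⟨_, a', ha', rfl⟩, ⟨_, b', hb', rfl⟩⟩ e
      simp only [f, π, QuotientGroup.mk'_apply, ← QuotientGroup.mk_mul, QuotientGroup.eq] at e
      have h1 : a'⁻¹ * a ∈ Z := by
        refine hinter x y hx hy _ ?_ (Cy.mul_mem (Cy.inv_mem ha') ha)
        have : a'⁻¹ * a = b' * ((a * b)⁻¹ * (a' * b'))⁻¹ * b⁻¹ := by group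
        rw [this]
        exact Cx.mul_mem (Cx.mul_mem hb' (Cx.inv_mem (hZle x e))) (Cx.inv_mem hb)
      have h2 : b⁻¹ * b' ∈ Z := by
        have : b⁻¹ * b' = (a * b)⁻¹ * (a' * b') * (b'⁻¹ * (a'⁻¹ * a) * b') := by group
        rw [this]
        exact Z.mul_mem e (by rw [mul_assoc, ← mem_center_iff.1 h1, inv_mul_cancel_left]; exact h1)
      refine Prod.ext (Subtype.ext ?_) (Subtype.ext ?_)
      · exact (QuotientGroup.eq.2 h1).symm
      · exact QuotientGroup.eq.2 h2
    have hbij : Function.Bijective f := by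
      refine Nat.bijective_iff_injective_and_card f |>.2 ⟨hinj, ?_⟩
      have h1 := Nat.card_le_card_of_injective f hinj
      rw [Nat.card_prod, hcard x hx, hcard y hyZ, htot x hx] at h1 ⊢
      have hpos : 0 < Z.relIndex Cx := Nat.pos_of_ne_zero Subgroup.index_ne_zero_of_finite
      have h2 := Nat.le_of_dvd (Nat.pos_of_ne_zero Subgroup.index_ne_zero_of_finite) (hrel y hyZ)
      have h3 : Z.relIndex Cy ≤ n := Nat.le_of_mul_le_mul_right (by rwa [mul_comm (Z.relIndex Cx) n] at h1) hpos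
      rw [le_antisymm h3 h2, mul_comm]
    obtain ⟨⟨⟨_, a, ha, rfl⟩, ⟨_, b, hb, rfl⟩⟩, e⟩ := hbij.2 (g : G ⧸ Z)
    simp only [f, π, QuotientGroup.mk'_apply, ← QuotientGroup.mk_mul, QuotientGroup.eq] at e
    exact ⟨a, ha, b * ((a * b)⁻¹ * g), Cx.mul_mem hb (hZle x e), by group⟩
  have hnormal : ∀ x g : G, x ∉ Z → g * x * g⁻¹ ∈ Subgroup.centralizer ({x} : Set G) := by
    intro x g hx
    by_contra hy
    obtain ⟨a, ha, b, hb, rfl⟩ := hprod x _ hx hy g
    have e : a * b * x * (a * b)⁻¹ = a * x * a⁻¹ := by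
      calc a * b * x * (a * b)⁻¹ = a * (b * x) * b⁻¹ * a⁻¹ := by group
        _ = _ := by rw [(mem_C.1 hb).eq]; group
    rw [e] at ha hy
    have h1 : a * (a * x * a⁻¹) = a * x * a⁻¹ * a := (mem_C.1 ha).eq
    have : a * x * a⁻¹ = x := by
      rw [mul_assoc _ a⁻¹, inv_mul_cancel, mul_one] at h1
      exact mul_left_cancel h1
    exact hy (this.symm ▸ mem_C.2 (Commute.refl x))
  have hall : ∀ r s : ℕ, r.Prime → s.Prime → r ≠ s → ∀ x y : G, IsPP r x → IsPP s y → x ∉ Z →
      y ∈ Subgroup.centralizer ({x} : Set G) := by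
    intro r s hr hs hrs x y hxr hys hx
    by_contra hy
    have hyZ : y ∉ Z := fun h => hy (hZle x h)
    have hk : x * y * x⁻¹ * y⁻¹ ∈ Z := by
      refine hinter x y hx hy _ ?_ ?_
      · have : x * y * x⁻¹ * y⁻¹ = x * (y * x⁻¹ * y⁻¹) := by group
        rw [this]
        refine Subgroup.mul_mem _ (mem_C.2 (Commute.refl x)) ?_
        have := Subgroup.inv_mem _ (hnormal x y hx)
        simpa [mul_assoc] using this
      · exact Subgroup.mul_mem _ (hnormal y x hyZ) (Subgroup.inv_mem _ (mem_C.2 (Commute.refl y)))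
    set k := x * y * x⁻¹ * y⁻¹
    have h1 : k ^ orderOf y = 1 := by
      have e : x * y * x⁻¹ = k * y := by simp only [k]; group
      have := congrArg (· ^ orderOf y) e
      simp only [conj_pow, pow_orderOf_eq_one, mul_one, mul_inv_cancel,
        (show Commute k y from (mem_center_iff.1 hk y).symm).mul_pow] at this
      exact this.symm
    have h2 : k ^ orderOf x = 1 := by
      have e : y * x * y⁻¹ = k⁻¹ * x := by simp only [k]; group
      have := congrArg (· ^ orderOf x) e
      simp only [conj_pow, pow_orderOf_eq_one, mul_one, mul_inv_cancel,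
        (show Commute k⁻¹ x from (mem_center_iff.1 (inv_mem hk) x).symm).mul_pow, inv_pow] at this
      exact inv_eq_one.1 this.symm
    have h3 : orderOf k ∣ Nat.gcd (orderOf x) (orderOf y) :=
      Nat.dvd_gcd (orderOf_dvd_of_pow_eq_one h2) (orderOf_dvd_of_pow_eq_one h1)
    rw [hcop hr hs hrs hxr hys, Nat.dvd_one, orderOf_eq_one_iff] at h3
    exact hy (mem_C.2 (show y * x = x * y by
      calc y * x = (x * y * x⁻¹ * y⁻¹) * (y * x) := by rw [show x * y * x⁻¹ * y⁻¹ = 1 from h3, one_mul]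
        _ = _ := by group))
  have heq : Subgroup.centralizer ({a₁} : Set G) = Subgroup.centralizer ({a₂} : Set G) :=
    hCeq a₁ a₂ ha₁ ha₂ (hall p₁ p₂ hp₁ hp₂ hne a₁ a₂ h₁ h₂ ha₁)
  refine ha₁ (mem_center_iff.2 fun g => (mem_C.1 (mem_of_parts _ fun r hr y _ hy => ?_ : g ∈ Subgroup.centralizer ({a₁} : Set G))).eq)
  by_cases h : r = p₁
  · rw [heq]; exact hall p₂ r hp₂ hr (h ▸ hne.symm) a₂ y h₂ hy ha₂
  · exact hall p₁ r hp₁ hr (Ne.symm h) a₁ y h₁ hy ha₁

end Sizes

/-- Let G be a finite group whose conjugacy classes have exactly two sizes, 1 and n > 1. Then n is a power of a prime p and G is the direct product of a p-group and an abelian group of order prime to p: its Sylow p-subgroup P is normal with an abelian normal complement centralizing it; moreover P has an abelian normal subgroup A with P/A of exponent dividing p. -/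
theorem result {G : Type*} [Group G] [Finite G] (n : ℕ) (hn : 1 < n)
    (h : ∀ x : G, (Subgroup.centralizer ({x} : Set G)).index = 1 ∨ (Subgroup.centralizer ({x} : Set G)).index = n) (hex : ∃ x : G, (Subgroup.centralizer ({x} : Set G)).index = n) :
    ∃ (p : ℕ) (_ : Fact p.Prime) (a : ℕ), n = p ^ a ∧ ∀ P : Sylow p G, (P : Subgroup G).Normal ∧
      (∃ N : Subgroup G, N.Normal ∧ N.IsComplement' (P : Subgroup G) ∧ IsMulCommutative N ∧
        ∀ x ∈ N, ∀ y ∈ (P : Subgroup G), x * y = y * x) ∧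
      ∃ A : Subgroup (P : Subgroup G), A.Normal ∧ IsMulCommutative A ∧ ∀ y : (P : Subgroup G), y ^ p ∈ A := by
  classical
  have hidx : ∀ x : G, x ∉ Subgroup.center G → (Subgroup.centralizer ({x} : Set G)).index = n := fun x hx =>
    (h x).resolve_left fun h1 => hx (Subgroup.mem_center_iff.2 fun g =>
      (mem_C.1 (by rw [Subgroup.index_eq_one.1 h1]; exact Subgroup.mem_top g)).eq)
  obtain ⟨x0, hx0i⟩ := hex
  have hx0 : x0 ∉ Subgroup.center G := fun hc => by
    have : Subgroup.centralizer ({x0} : Set G) = ⊤ := eq_top_iff.2 fun g _ => mem_C.2 (Subgroup.mem_center_iff.1 hc g)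
    rw [this, Subgroup.index_top] at hx0i
    omega
  obtain ⟨p, hp, a1, ha1p, ha1, -⟩ := exists_part n hidx hx0
  haveI hpF : Fact p.Prime := ⟨hp⟩
  have honly : ∀ r : ℕ, r.Prime → r ≠ p → ∀ y : G, IsPP r y → y ∈ Subgroup.center G := fun r hr hrp y hy =>
    by_contra fun hyZ => two_primes n hidx hrp.symm hp hr ha1 ha1p hyZ hy
  -- the central complement
  let N : Subgroup G :=
    { carrier := {z | z ∈ Subgroup.center G ∧ (orderOf z).Coprime p}
      one_mem' := ⟨one_mem _, by simp⟩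
      mul_mem' := fun {a b} ha hb => ⟨mul_mem ha.1 hb.1,
        Nat.Coprime.coprime_dvd_left (Commute.orderOf_mul_dvd_mul_orderOf (Subgroup.mem_center_iff.1 hb.1 a))
          (Nat.Coprime.mul_left ha.2 hb.2)⟩
      inv_mem' := fun {a} ha => ⟨inv_mem ha.1, by rw [orderOf_inv]; exact ha.2⟩ }
  have hdec : ∀ g : G, ∃ u b, IsPP p u ∧ b ∈ N ∧ g = u * b := by
    intro g
    obtain ⟨k, m, hm, hkm⟩ := Nat.exists_eq_pow_mul_and_not_dvd (orderOf_pos g).ne' p hp.ne_one
    have hcp : Nat.Coprime (p ^ k) m := Nat.Coprime.pow_left k (hp.coprime_iff_not_dvd.2 hm)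
    obtain ⟨u, v, huv⟩ := Int.isCoprime_iff_nat_coprime.2 (by simpa using hcp : ((p ^ k : ℕ) : ℤ).natAbs.Coprime (m : ℤ).natAbs)
    refine ⟨(g ^ m) ^ v, (g ^ (p ^ k)) ^ u, ?_, ⟨?_, ?_⟩, ?_⟩
    · have h1 : ((g ^ m) ^ v) ^ (p ^ k) = 1 := by
        rw [← zpow_natCast, ← zpow_mul, mul_comm, zpow_mul, zpow_natCast, ← pow_mul, mul_comm m, ← hkm, pow_orderOf_eq_one, one_zpow]
      obtain ⟨i, -, hi⟩ := (Nat.dvd_prime_pow hp).1 (orderOf_dvd_of_pow_eq_one h1)
      exact ⟨i, hi⟩
    · refine Subgroup.zpow_mem _ (mem_of_parts _ fun r hr y hy hyr => ?_) u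
      by_cases hrp : r = p
      · subst hrp
        obtain ⟨i, hi⟩ := hyr
        obtain ⟨j, rfl⟩ := Subgroup.mem_zpowers_iff.1 hy
        have h2 : orderOf ((g ^ r ^ k) ^ j) ∣ m := orderOf_dvd_of_pow_eq_one (by
          rw [← zpow_natCast, ← zpow_mul, mul_comm, zpow_mul, zpow_natCast, ← pow_mul, ← hkm, pow_orderOf_eq_one, one_zpow])
        rw [hi] at h2
        rcases i with _ | i
        · have h9 : (g ^ r ^ k) ^ j = 1 := orderOf_eq_one_iff.1 (by simpa using hi)
          rw [h9]; exact one_mem _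
        · exact absurd ((dvd_pow_self r i.succ_ne_zero).trans h2) hm
      · exact honly r hr hrp y hyr
    · refine Nat.Coprime.coprime_dvd_left (orderOf_dvd_of_pow_eq_one (n := m) ?_) (hp.coprime_iff_not_dvd.2 hm).symm
      rw [← zpow_natCast, ← zpow_mul, mul_comm, zpow_mul, zpow_natCast, ← pow_mul, ← hkm, pow_orderOf_eq_one, one_zpow]
    · rw [← zpow_natCast g m, ← zpow_natCast g (p ^ k), ← zpow_mul, ← zpow_mul, ← zpow_add, mul_comm (m : ℤ),
        mul_comm ((p ^ k : ℕ) : ℤ), add_comm, huv, zpow_one]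
  have hNn : N.Normal := ⟨fun z hz g => by
    rw [Subgroup.mem_center_iff.1 hz.1 g, mul_inv_cancel_right]; exact hz⟩
  have hnil : Group.IsNilpotent G := by
    haveI : Group.IsNilpotent (G ⧸ Subgroup.center G) := by
      refine IsPGroup.isNilpotent (p := p) (IsPGroup.iff_orderOf.2 fun v => ?_)
      obtain ⟨g, rfl⟩ := QuotientGroup.mk_surjective v
      obtain ⟨u, b, ⟨i, hi⟩, hb, rfl⟩ := hdec g
      rw [QuotientGroup.mk_mul, (QuotientGroup.eq_one_iff b).2 hb.1, mul_one]
      have h1 := orderOf_map_dvd (QuotientGroup.mk' (Subgroup.center G)) u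
      rw [hi] at h1
      obtain ⟨j, -, hj⟩ := (Nat.dvd_prime_pow hp).1 h1
      exact ⟨j, hj⟩
    exact Group.of_quotient_center_nilpotent inferInstance
  have hcompl : ∀ P : Sylow p G, (P : Subgroup G).Normal ∧ N.IsComplement' (P : Subgroup G) := by
    intro P
    have hPn : (P : Subgroup G).Normal := Sylow.normal_of_all_max_subgroups_normal ?_ P
    swap
    · intro M hM
      exact Subgroup.NormalizerCondition.normal_of_coatom _ normalizerCondition_of_isNilpotent hM
    refine ⟨hPn, Subgroup.isComplement'_of_disjoint_and_mul_eq_univ ?_ ?_⟩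
    · rw [disjoint_iff_inf_le]
      rintro z ⟨hzN, hzP⟩
      obtain ⟨i, hi⟩ := IsPGroup.iff_orderOf.1 P.isPGroup' ⟨z, hzP⟩
      rw [Subgroup.orderOf_mk] at hi
      have h1 := hzN.2
      rw [hi] at h1
      rcases i with _ | i
      · exact Subgroup.mem_bot.2 (orderOf_eq_one_iff.1 (by simpa using hi))
      · exact absurd (Nat.eq_one_of_dvd_coprimes h1 (dvd_pow_self p i.succ_ne_zero) dvd_rfl) hp.ne_one
    · refine Set.eq_univ_of_forall fun g => ?_
      obtain ⟨u, b, ⟨i, hi⟩, hb, rfl⟩ := hdec g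
      obtain ⟨P', hP'⟩ := (IsPGroup.of_card (n := i) (by rw [Nat.card_zpowers, hi]) :
        IsPGroup p (Subgroup.zpowers u)).exists_le_sylow
      haveI := hPn
      haveI := Sylow.unique_of_normal P hPn
      have hu : u ∈ P := by rw [Subsingleton.elim P P']; exact hP' (Subgroup.mem_zpowers u)
      exact ⟨b, hb, u, hu, (Subgroup.mem_center_iff.1 hb.1 u).symm⟩
  obtain ⟨P0⟩ : Nonempty (Sylow p G) := inferInstance
  have hdvd : n ∣ p ^ (Nat.card G).factorization p := by
    rw [← P0.card_eq_multiplicity, ← hidx x0 hx0, ← (hcompl P0).2.symm.index_eq_card]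
    exact Subgroup.index_dvd_of_le fun z hz => mem_C.2 (Subgroup.mem_center_iff.1 hz.1 x0).symm
  obtain ⟨e, -, he⟩ := (Nat.dvd_prime_pow hp).1 hdvd
  have hpn : p ∣ n := by
    rcases e with _ | e
    · simp at he; omega
    · exact he ▸ dvd_pow_self p e.succ_ne_zero
  refine ⟨p, hpF, e, he, fun P => ⟨(hcompl P).1, ⟨N, hNn, (hcompl P).2,
    commMul_of_le fun a ha b _ => (Subgroup.mem_center_iff.1 ha.1 b).symm,
    fun x hx y _ => (Subgroup.mem_center_iff.1 hx.1 y).symm⟩, ?_⟩⟩
  obtain ⟨w, hwP, hwZ, hwp, hwc⟩ := exists_w P (fun x _ hc => center_sylow_le n hidx P hpn hc)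
    (sylow_not_le n hidx P hpn hx0)
  set C := Subgroup.centralizer ({w} : Set G) with hC
  set A' := C ⊓ Subgroup.centralizer (C : Set G)
  refine ⟨A'.subgroupOf (P : Subgroup G), ⟨fun u hu g => ?_⟩, ?_, fun y => ?_⟩
  · have hconj : ∀ g ∈ P, ∀ c ∈ C, g * c * g⁻¹ ∈ C := by
      intro g hg c hc
      have h1 : Commute (g * c * g⁻¹) (g * w * g⁻¹) := (mem_C.1 hc).map (MulAut.conj g).toMonoidHom
      have h2 : g * w * g⁻¹ = w * (w⁻¹ * g * w * g⁻¹) := by group
      rw [hC, ← C_mul_central (x := w) (hwc g hg), ← h2]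
      exact mem_C.2 h1
    rw [Subgroup.mem_subgroupOf] at hu ⊢
    refine ⟨hconj g g.2 u hu.1, Subgroup.mem_centralizer_iff.2 fun c hc => ?_⟩
    have h1 : Commute ((g : G)⁻¹ * c * g) (u : G) :=
      Subgroup.mem_centralizer_iff.1 hu.2 _ (by simpa using hconj _ (inv_mem g.2) c hc)
    have h2 := h1.map (MulAut.conj (g : G)).toMonoidHom
    simp only [MulEquiv.toMonoidHom_eq_coe, MonoidHom.coe_coe, MulAut.conj_apply] at h2
    rw [show (g : G) * ((g : G)⁻¹ * c * g) * (g : G)⁻¹ = c by group] at h2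
    exact h2.eq
  · exact commMul_of_le fun a ha b hb => Subtype.ext
      (Subgroup.mem_centralizer_iff.1 (Subgroup.mem_subgroupOf.1 hb).2 _ (Subgroup.mem_subgroupOf.1 ha).1)
  · rw [Subgroup.mem_subgroupOf, SubgroupClass.coe_pow]
    by_cases hy : (y : G) ^ p ∈ Subgroup.center G
    · exact ⟨mem_C.2 (Subgroup.mem_center_iff.1 hy w).symm,
        Subgroup.mem_centralizer_iff.2 fun c _ => Subgroup.mem_center_iff.1 hy c⟩
    refine Subgroup.pow_mem _ ?_ p
    have hyZ : (y : G) ∉ Subgroup.center G := fun hh => hy (pow_mem hh p)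
    set π := QuotientGroup.mk' (Subgroup.center G)
    have hcomm : Commute (π (y : G)) (π w) := by
      show π (y : G) * π w = π w * π (y : G)
      rw [← map_mul, ← map_mul]
      refine (QuotientGroup.eq.2 ?_).symm
      have := hwc y y.2
      have h2 := Subgroup.Normal.conj_mem inferInstance _ this (y : G)⁻¹
      convert h2 using 1
      group
    have h1 : π (((y : G) * w) ^ p) = π ((y : G) ^ p) := by
      rw [map_pow, map_mul, hcomm.mul_pow, ← map_pow, ← map_pow,
        show π (w ^ p) = 1 from (QuotientGroup.eq_one_iff _).2 hwp, mul_one]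
    have hz := QuotientGroup.eq.1 h1.symm
    have h2 : Subgroup.centralizer ({((y : G) * w) ^ p} : Set G) = Subgroup.centralizer ({(y : G) ^ p} : Set G) := by
      have := C_mul_central (x := (y : G) ^ p) hz
      rwa [mul_inv_cancel_left] at this
    have hyw : (y : G) * w ∉ Subgroup.center G := fun hh => hy (by
      have := Subgroup.mul_mem _ (pow_mem hh p) (Subgroup.inv_mem _ hz)
      rwa [mul_inv_rev, inv_inv, ← mul_assoc, mul_inv_cancel, one_mul] at this)
    have hywp : ((y : G) * w) ^ p ∉ Subgroup.center G := fun hh => hy (by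
      have := Subgroup.mul_mem _ hh (Subgroup.inv_mem _ hz)
      rwa [mul_inv_rev, inv_inv, ← mul_assoc, mul_inv_cancel, one_mul] at this)
    have e1 := C_eq n hidx hyw hywp (C_le_of_zpowers (Subgroup.npow_mem_zpowers _ p))
    have e2 := C_eq n hidx hyZ hy (C_le_of_zpowers (Subgroup.npow_mem_zpowers _ p))
    have e3 : Subgroup.centralizer ({(y : G) * w} : Set G) = Subgroup.centralizer ({(y : G)} : Set G) := by
      rw [e1, h2, e2]
    have hsub : Subgroup.centralizer ({(y : G)} : Set G) ≤ C := by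
      intro c hc
      have hc' : Commute c ((y : G) * w) := mem_C.1 (e3 ▸ hc)
      have := (mem_C.1 hc).inv_right.mul_right hc'
      rw [inv_mul_cancel_left] at this
      exact mem_C.2 this
    have e4 := C_eq n hidx hyZ hwZ hsub
    refine ⟨hsub (mem_C.2 (Commute.refl _)), Subgroup.mem_centralizer_iff.2 fun c hc => ?_⟩
    exact mem_C.1 (e4.symm ▸ hc : c ∈ Subgroup.centralizer ({(y : G)} : Set G))

end Cfsg.Agent.S4134
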