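import Cfsg.Statements.S4142

set_option autoImplicit false
set_option linter.style.haveILetI false
open Cfsg

namespace Cfsg.Agent.S4142

variable {G : Type*} [Group G]

theorem surj_iff [Finite G] (N : Subgroup G) [N.Normal] (g : G) :
    (∀ n ∈ N, ∃ x : G, x * g * x⁻¹ = g * n) ↔
      Nat.card (Subgroup.centralizer ({g} : Set G)) =
        Nat.card (Subgroup.centralizer ({(QuotientGroup.mk g : G ⧸ N)} : Set (G ⧸ N))) := by
  set C := Subgroup.centralizer ({g} : Set G)
  set Cq := Subgroup.centralizer ({(QuotientGroup.mk g : G ⧸ N)} : Set (G ⧸ N))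
  set D := Cq.comap (QuotientGroup.mk' N)
  have hD : ∀ x : G, x ∈ D ↔ g⁻¹ * (x * g * x⁻¹) ∈ N := by
    intro x
    rw [Subgroup.mem_comap, Subgroup.mem_centralizer_singleton_iff, QuotientGroup.mk'_apply,
      ← QuotientGroup.mk_mul, ← QuotientGroup.mk_mul, QuotientGroup.eq_iff_div_mem]
    constructor
    · intro h
      have := (inferInstance : N.Normal).conj_mem _ h g⁻¹
      simpa [div_eq_mul_inv, mul_assoc] using this
    · intro h
      have := (inferInstance : N.Normal).conj_mem _ h g
      simpa [div_eq_mul_inv, mul_assoc] using this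
  have hCD : C ≤ D := fun x hx => by
    rw [hD, mul_inv_eq_iff_eq_mul.2 (Subgroup.mem_centralizer_singleton_iff.1 hx)]
    simp
  have hcard : Nat.card D = Nat.card N * Nat.card Cq := by
    have h1 : D.index = Cq.index := Cq.index_comap_of_surjective (QuotientGroup.mk'_surjective N)
    have h2 := D.card_mul_index
    rw [h1, Subgroup.card_eq_card_quotient_mul_card_subgroup N, ← Cq.card_mul_index] at h2
    have h3 : 0 < Cq.index := Nat.pos_of_ne_zero Subgroup.index_ne_zero_of_finite
    apply Nat.eq_of_mul_eq_mul_right h3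
    rw [h2]
    ring
  let φ : D ⧸ C.subgroupOf D → N :=
    Quotient.lift (fun x : D => (⟨g⁻¹ * ((x : G) * g * (x : G)⁻¹), (hD x).1 x.2⟩ : N)) fun a b hab => by
      have h := Subgroup.mem_centralizer_singleton_iff.1
        (Subgroup.mem_subgroupOf.1 (QuotientGroup.leftRel_apply.1 hab))
      simp only [Subgroup.coe_mul, Subgroup.coe_inv] at h
      refine Subtype.ext ?_
      show g⁻¹ * ((a : G) * g * (a : G)⁻¹) = g⁻¹ * ((b : G) * g * (b : G)⁻¹)
      have e : (b : G) * g * (b : G)⁻¹ = a * ((a : G)⁻¹ * b * g * ((a : G)⁻¹ * b)⁻¹) * (a : G)⁻¹ := by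
        group
      rw [e, h]
      group
  have hinj : Function.Injective φ := by
    intro a b
    refine Quotient.inductionOn₂' a b fun a b h => QuotientGroup.eq.2 ?_
    rw [Subgroup.mem_subgroupOf, Subgroup.mem_centralizer_singleton_iff]
    have h' : (a : G) * g * (a : G)⁻¹ = (b : G) * g * (b : G)⁻¹ :=
      mul_left_cancel (congrArg Subtype.val h)
    calc ((a⁻¹ * b : D) : G) * g = (a : G)⁻¹ * ((b : G) * g * (b : G)⁻¹) * b := by
          simp [mul_assoc]
      _ = (a : G)⁻¹ * ((a : G) * g * (a : G)⁻¹) * b := by rw [h']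
      _ = g * ((a⁻¹ * b : D) : G) := by simp [mul_assoc]
  have hsurj : (∀ n ∈ N, ∃ x : G, x * g * x⁻¹ = g * n) ↔ Function.Surjective φ := by
    constructor
    · intro h n
      obtain ⟨x, hx⟩ := h n n.2
      have hxD : x ∈ D := by rw [hD, hx, inv_mul_cancel_left]; exact n.2
      refine ⟨QuotientGroup.mk (⟨x, hxD⟩ : D), Subtype.ext ?_⟩
      show g⁻¹ * (x * g * x⁻¹) = n
      rw [hx, inv_mul_cancel_left]
    · intro h n hn
      obtain ⟨a, ha⟩ := h ⟨n, hn⟩
      obtain ⟨x, rfl⟩ := QuotientGroup.mk_surjective a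
      refine ⟨x, ?_⟩
      have := congrArg Subtype.val ha
      change g⁻¹ * ((x : G) * g * (x : G)⁻¹) = n at this
      rw [← this, mul_inv_cancel_left]
  have hidx : Nat.card (D ⧸ C.subgroupOf D) * Nat.card C = Nat.card N * Nat.card Cq := by
    rw [← hcard, Subgroup.card_eq_card_quotient_mul_card_subgroup (C.subgroupOf D),
      Nat.card_congr (Subgroup.subgroupOfEquivOfLe hCD).toEquiv]
  have hpos : 0 < Nat.card N := Nat.card_pos
  have hpC : 0 < Nat.card C := Nat.card_pos
  rw [hsurj]
  constructor
  · intro h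
    have := Nat.card_eq_of_bijective φ ⟨hinj, h⟩
    rw [this] at hidx
    exact Nat.eq_of_mul_eq_mul_left hpos hidx
  · intro h
    rw [← h] at hidx
    have := Nat.eq_of_mul_eq_mul_right hpC hidx
    exact ((Nat.bijective_iff_injective_and_card φ).2 ⟨hinj, this⟩).2

/-- Let G be a finite group and N a normal subgroup. Then the conjugacy class of every element g outside N is a union of cosets of N (gn is conjugate to g for all n ∈ N) if and only if for every g outside N the centralizer of g in G has the same order as the centralizer of gN in G/N. -/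
theorem result {G : Type*} [Group G] [Finite G] (N : Subgroup G) [N.Normal] :
    (∀ g : G, g ∉ N → ∀ n ∈ N, ∃ x : G, x * g * x⁻¹ = g * n) ↔
      ∀ g : G, g ∉ N → Nat.card (Subgroup.centralizer ({g} : Set G)) =
        Nat.card (Subgroup.centralizer ({(QuotientGroup.mk g : G ⧸ N)} : Set (G ⧸ N))) :=
  ⟨fun h g hg => (surj_iff N g).1 (h g hg), fun h g hg => (surj_iff N g).2 (h g hg)⟩

end Cfsg.Agent.S4142
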