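import Cfsg.Statements.S4143

import Mathlib
import Cfsg.Agent.Solv.Basic

set_option autoImplicit false
set_option linter.style.haveILetI false
open Cfsg

namespace Cfsg.Agent.S4143
open scoped commutatorElement

universe w

theorem maxClass_of_small_centralizer : ∀ (n : ℕ) (X : Type w) [Group X] [Finite X] (p : ℕ) [Fact p.Prime],
    2 ≤ n → Nat.card X = p ^ n → ∀ s : X, Nat.card (Subgroup.centralizer ({s} : Set X)) ≤ p ^ 2 →
      Group.nilpotencyClass X = n - 1 := by
  intro n
  induction n using Nat.strong_induction_on with | _ n ih =>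
  intro X _ _ p _ hn hX s hs
  classical
  have hp : IsPGroup p X := IsPGroup.of_card hX
  haveI := hp.isNilpotent
  have hp1 := (Fact.out : p.Prime).one_lt
  haveI : Nontrivial X := Finite.one_lt_card_iff_nontrivial.1 (by rw [hX]; exact Nat.one_lt_pow (by omega) hp1)
  rw [Group.nilpotencyClass_eq_quotient_center_plus_one]
  set Z := Subgroup.center X
  rcases eq_or_lt_of_le hn with rfl | hn3
  · haveI : Subsingleton (X ⧸ Z) := ⟨fun a b => by
      have hZ : Z = ⊤ := by
        rw [eq_top_iff]
        intro g _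
        exact Subgroup.mem_center_iff.2 fun h => (IsPGroup.isMulCommutative_of_card_eq_prime_sq hX).is_comm.comm h g
      obtain ⟨a, rfl⟩ := QuotientGroup.mk_surjective a
      obtain ⟨b, rfl⟩ := QuotientGroup.mk_surjective b
      exact QuotientGroup.eq.2 (hZ ▸ Subgroup.mem_top _)⟩
    rw [Group.nilpotencyClass_zero_iff_subsingleton.2 inferInstance]
  have hsZ : s ∉ Z := fun h => by
    rw [Subgroup.centralizer_eq_top_iff_subset.2 (Set.singleton_subset_iff.2 h), Subgroup.card_top, hX] at hs
    exact absurd ((Nat.pow_le_pow_iff_right hp1).1 hs) (by omega)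
  have hZC : Z < Subgroup.centralizer ({s} : Set X) := lt_of_le_of_ne (Subgroup.center_le_centralizer _)
    fun e => hsZ (e ▸ Subgroup.mem_centralizer_singleton_iff.2 rfl)
  obtain ⟨z, hz⟩ := IsPGroup.iff_card.1 (hp.to_subgroup Z)
  have hz1 : z = 1 := by
    haveI := hp.center_nontrivial
    have h1 : 1 < Nat.card Z := Finite.one_lt_card
    obtain ⟨c, hc⟩ := IsPGroup.iff_card.1 (hp.to_subgroup (Subgroup.centralizer ({s} : Set X)))
    rw [hc] at hs
    have hc2 := (Nat.pow_le_pow_iff_right hp1).1 hs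
    have h2 : z < c := by
      by_contra hcon
      exact hZC.ne (Subgroup.eq_of_le_of_card_ge hZC.le (by rw [hz, hc]; exact Nat.pow_le_pow_right (by omega) (not_lt.1 hcon)))
    rcases z with _ | z
    · simp [hz] at h1
    · omega
  subst hz1
  rw [pow_one] at hz
  have hXZ : Nat.card (X ⧸ Z) = p ^ (n - 1) := by
    refine Nat.eq_of_mul_eq_mul_right (Nat.card_pos (α := Z)) ?_
    rw [← Subgroup.card_eq_card_quotient_mul_card_subgroup, hX, hz, ← pow_succ]
    congr 1; omega
  set f := QuotientGroup.mk' Z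
  set D := (Subgroup.centralizer ({f s} : Set (X ⧸ Z))).comap f
  have hD : ∀ g, g ∈ D ↔ ⁅s, g⁆ ∈ Z := fun g => by
    rw [← QuotientGroup.eq_one_iff (N := Z)]
    show f g ∈ Subgroup.centralizer ({f s} : Set (X ⧸ Z)) ↔ f ⁅s, g⁆ = 1
    rw [Subgroup.mem_centralizer_singleton_iff, map_commutatorElement, commutatorElement_eq_one_iff_mul_comm]
    exact eq_comm
  let φ : D →* Z :=
    { toFun := fun g => ⟨⁅s, (g : X)⁆, (hD g).1 g.2⟩
      map_one' := Subtype.ext (by simp)
      map_mul' := fun g h => Subtype.ext (by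
        show ⁅s, (g : X) * h⁆ = ⁅s, (g : X)⁆ * ⁅s, (h : X)⁆
        have e : ⁅s, (g : X) * h⁆ = ⁅s, (g : X)⁆ * ((g : X) * ⁅s, (h : X)⁆ * (g : X)⁻¹) := by simp [commutatorElement_def, mul_assoc]
        rw [e, Subgroup.mem_center_iff.1 ((hD h).1 h.2) g, mul_inv_cancel_right]) }
  have hker : Nat.card φ.ker ≤ p ^ 2 := by
    refine le_trans ?_ hs
    refine Nat.card_le_card_of_injective (fun g => ⟨((g : D) : X), Subgroup.mem_centralizer_singleton_iff.2
      (commutatorElement_eq_one_iff_mul_comm.1 (congrArg Subtype.val (MonoidHom.mem_ker.1 g.2))).symm⟩) fun a b e => ?_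
    exact Subtype.ext (Subtype.ext (congrArg (fun t : Subgroup.centralizer ({s} : Set X) => (t : X)) e))
  have hDcard : Nat.card D ≤ p ^ 2 * p := by
    rw [← Subgroup.card_mul_index φ.ker, Subgroup.index_ker]
    exact Nat.mul_le_mul hker (hz ▸ Subgroup.card_le_card_group _)
  have hCbar : Nat.card (Subgroup.centralizer ({f s} : Set (X ⧸ Z))) ≤ p ^ 2 := by
    refine Nat.le_of_mul_le_mul_right (le_trans (le_of_eq ?_) hDcard) (by omega : 0 < p)
    rw [← hz]
    calc Nat.card (Subgroup.centralizer ({f s} : Set (X ⧸ Z))) * Nat.card Z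
        = Nat.card (D.map f) * Nat.card (D ⊓ Z : Subgroup X) := by
          rw [Subgroup.map_comap_eq_self_of_surjective (QuotientGroup.mk'_surjective Z),
            inf_eq_right.2 (show Z ≤ D from fun x hx => by
              show f x ∈ Subgroup.centralizer ({f s} : Set (X ⧸ Z))
              rw [show f x = 1 from (QuotientGroup.eq_one_iff x).2 hx]; exact one_mem _)]
      _ = Nat.card D := CfsgLib.Solv.card_map_mk' Z D
  rw [ih (n - 1) (by omega) (X ⧸ Z) p (by omega) hXZ (f s) hCbar]
  omega

/-- Let X be a finite p-group of order p^n containing a non-abelian subgroup B of order p³ with C_X(B) ≤ B. Then X has nilpotency class n − 1 (maximal class). -/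
theorem result {X : Type*} [Group X] [Finite X] {p : ℕ} [Fact p.Prime] (n : ℕ) (hX : Nat.card X = p ^ n)
    (B : Subgroup X) (hB : Nat.card B = p ^ 3) (hBna : ¬ IsMulCommutative B) (hC : Subgroup.centralizer (B : Set X) ≤ B) :
    Group.nilpotencyClass X = n - 1 := by
  classical
  have hp : IsPGroup p X := IsPGroup.of_card hX
  haveI := hp.isNilpotent
  have hp1 := (Fact.out : p.Prime).one_lt
  obtain ⟨b1, hb1, b2, hb2, hb⟩ : ∃ b1 ∈ B, ∃ b2 ∈ B, b1 * b2 ≠ b2 * b1 := by
    by_contra hcon
    push Not at hcon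
    exact hBna (IsMulCommutative.mk ⟨fun a b => Subtype.ext (hcon a a.2 b b.2)⟩)
  have hgen : Subgroup.closure {b1, b2} = B := by
    set K := Subgroup.closure {b1, b2}
    have hKB : K ≤ B := (Subgroup.closure_le _).2 (by rintro x (rfl | rfl) <;> assumption)
    refine Subgroup.eq_of_le_of_card_ge hKB ?_
    obtain ⟨k, hk⟩ := IsPGroup.iff_card.1 (hp.to_subgroup K)
    rw [hB, hk]
    refine Nat.pow_le_pow_right (by omega) ?_
    by_contra hcon
    have hcomm : IsMulCommutative K := by
      interval_cases k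
      · haveI : Subsingleton K := (Nat.card_eq_one_iff_unique.1 (by simpa using hk)).1
        exact IsMulCommutative.mk ⟨fun a b => Subsingleton.elim _ _⟩
      · haveI : IsCyclic K := isCyclic_of_prime_card (p := p) (by simpa using hk)
        exact IsMulCommutative.mk ⟨fun a b => (IsCyclic.commGroup (α := K)).mul_comm a b⟩
      · exact IsPGroup.isMulCommutative_of_card_eq_prime_sq hk
    exact hb (congrArg Subtype.val (hcomm.is_comm.comm
      (⟨b1, Subgroup.subset_closure (Set.mem_insert _ _)⟩ : K) ⟨b2, Subgroup.subset_closure (Or.inr rfl)⟩))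
  set Z := Subgroup.center X
  haveI : Nontrivial X := ⟨⟨b1 * b2, b2 * b1, hb⟩⟩
  haveI := hp.center_nontrivial
  have hn3 : 3 ≤ n := (Nat.pow_le_pow_iff_right hp1).1 (hB ▸ hX ▸ Subgroup.card_le_card_group B)
  -- the centraliser of `B` has order `p`
  have hCZ : Nat.card (Subgroup.centralizer (B : Set X)) ≤ p := by
    set C := Subgroup.centralizer (B : Set X)
    obtain ⟨c, hc⟩ := IsPGroup.iff_card.1 (hp.to_subgroup C)
    rw [hc]
    refine le_trans (Nat.pow_le_pow_right (by omega) ?_) (pow_one p).le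
    by_contra hcon
    -- then `C ⊔ ⟨b⟩ = B` would be commutative
    have hb1C : b1 ∉ C := fun h => hb (Subgroup.mem_centralizer_iff.1 h b2 hb2).symm
    have hlt : C < C ⊔ Subgroup.zpowers b1 := lt_of_le_of_ne le_sup_left fun e => hb1C (e ▸ Subgroup.mem_sup_right (Subgroup.mem_zpowers b1))
    obtain ⟨d, hd⟩ := IsPGroup.iff_card.1 (hp.to_subgroup (C ⊔ Subgroup.zpowers b1 : Subgroup X))
    have hle : C ⊔ Subgroup.zpowers b1 ≤ B := sup_le hC (Subgroup.zpowers_le.2 hb1)
    have hcd : c < d := by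
      by_contra h
      exact hlt.ne (Subgroup.eq_of_le_of_card_ge hlt.le (by rw [hc, hd]; exact Nat.pow_le_pow_right (by omega) (not_lt.1 h)))
    have hEq : C ⊔ Subgroup.zpowers b1 = B := Subgroup.eq_of_le_of_card_ge hle (by rw [hd, hB]; exact Nat.pow_le_pow_right (by omega) (by omega))
    have hb2' : b2 ∈ Subgroup.centralizer ({b1} : Set X) := by
      refine (sup_le ?_ (Subgroup.zpowers_le.2 (Subgroup.mem_centralizer_singleton_iff.2 rfl)) : C ⊔ Subgroup.zpowers b1 ≤ Subgroup.centralizer ({b1} : Set X)) (hEq ▸ hb2)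
      exact fun x hx => Subgroup.mem_centralizer_singleton_iff.2 (Subgroup.mem_centralizer_iff.1 hx b1 hb1).symm
    exact hb (Subgroup.mem_centralizer_singleton_iff.1 hb2').symm
  have hZC : Z ≤ Subgroup.centralizer (B : Set X) := Subgroup.center_le_centralizer _
  obtain ⟨z, hz⟩ := IsPGroup.iff_card.1 (hp.to_subgroup Z)
  have hz1 : Nat.card Z = p := by
    refine le_antisymm ((Subgroup.card_le_of_le hZC).trans hCZ) ?_
    have h1 : 1 < Nat.card Z := Finite.one_lt_card
    rw [hz] at h1 ⊢
    rcases z with _ | z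
    · simp at h1
    · exact Nat.le_self_pow (by omega) p
  have hCeq : Z = Subgroup.centralizer (B : Set X) := Subgroup.eq_of_le_of_card_ge hZC (hz1 ▸ hCZ)
  rw [Group.nilpotencyClass_eq_quotient_center_plus_one]
  have hXZ : Nat.card (X ⧸ Z) = p ^ (n - 1) := by
    refine Nat.eq_of_mul_eq_mul_right (Nat.card_pos (α := Z)) ?_
    rw [← Subgroup.card_eq_card_quotient_mul_card_subgroup, hX, hz1, ← pow_succ]
    congr 1; omega
  set f := QuotientGroup.mk' Z
  have hfs := QuotientGroup.mk'_surjective Z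
  have hZB : Z ≤ B := hCeq ▸ hC
  -- `B/Z` is self-centralising
  set D := (Subgroup.centralizer ((B.map f) : Set (X ⧸ Z))).comap f
  have hDB : D ≤ B := by
    have hD : ∀ g ∈ D, ∀ b ∈ B, ⁅g, b⁆ ∈ Z := fun g hg b hb => by
      rw [← QuotientGroup.eq_one_iff (N := Z)]
      show f ⁅g, b⁆ = 1
      rw [map_commutatorElement, commutatorElement_eq_one_iff_mul_comm]
      exact (Subgroup.mem_centralizer_iff.1 hg (f b) ⟨b, hb, rfl⟩).symm
    have hcount : Nat.card D ≤ p ^ 3 := by
      let ψ : D →* Z × Z :=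
        { toFun := fun g => (⟨⁅(g : X), b1⁆, hD g g.2 b1 hb1⟩, ⟨⁅(g : X), b2⁆, hD g g.2 b2 hb2⟩)
          map_one' := Prod.ext (Subtype.ext (by simp)) (Subtype.ext (by simp))
          map_mul' := fun g h => by
            have key : ∀ b ∈ B, ⁅(g : X) * h, b⁆ = ⁅(g : X), b⁆ * ⁅(h : X), b⁆ := fun b hb => by
              have e : ⁅(g : X) * h, b⁆ = ((g : X) * ⁅(h : X), b⁆ * (g : X)⁻¹) * ⁅(g : X), b⁆ := by simp [commutatorElement_def, mul_assoc]
              rw [e, Subgroup.mem_center_iff.1 (hD h h.2 b hb) g, mul_inv_cancel_right,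
                Subgroup.mem_center_iff.1 (hD g g.2 b hb) _]
            exact Prod.ext (Subtype.ext (key b1 hb1)) (Subtype.ext (key b2 hb2)) }
      have hker : Nat.card ψ.ker ≤ p := by
        refine le_trans ?_ hCZ
        refine Nat.card_le_card_of_injective (fun g => ⟨((g : D) : X), ?_⟩) fun a b e => ?_
        · have h1 := congrArg (fun t : Z × Z => ((t.1 : X), (t.2 : X))) (MonoidHom.mem_ker.1 g.2)
          obtain ⟨e1, e2⟩ := Prod.ext_iff.1 h1
          rw [← hgen, Subgroup.centralizer_closure, Subgroup.mem_centralizer_iff]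
          rintro x (rfl | rfl)
          · exact (commutatorElement_eq_one_iff_mul_comm.1 e1).symm
          · exact (commutatorElement_eq_one_iff_mul_comm.1 e2).symm
        · exact Subtype.ext (Subtype.ext (congrArg (fun t : Subgroup.centralizer (B : Set X) => (t : X)) e))
      rw [← Subgroup.card_mul_index ψ.ker, Subgroup.index_ker]
      refine (Nat.mul_le_mul hker (Subgroup.card_le_card_group _)).trans ?_
      rw [Nat.card_prod, hz1]
      exact le_of_eq (by ring)
    have hBD : B ≤ D := by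
      intro g hg
      refine Subgroup.mem_centralizer_iff.2 ?_
      rintro _ ⟨b, hbB, rfl⟩
      rw [← commutatorElement_eq_one_iff_mul_comm, ← map_commutatorElement]
      refine (QuotientGroup.eq_one_iff _).2 ?_
      -- commutators of `B` are central in `B`
      haveI : (Z.subgroupOf B).Normal := inferInstance
      have hq : Nat.card (B ⧸ Z.subgroupOf B) = p ^ 2 := by
        refine Nat.eq_of_mul_eq_mul_right (Nat.card_pos (α := Z.subgroupOf B)) ?_
        rw [← Subgroup.card_eq_card_quotient_mul_card_subgroup, hB, Nat.card_congr (Subgroup.subgroupOfEquivOfLe hZB).toEquiv, hz1]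
        ring
      have h1 : QuotientGroup.mk' (Z.subgroupOf B) ⁅(⟨b, hbB⟩ : B), ⟨g, hg⟩⁆ = 1 := by
        rw [map_commutatorElement, commutatorElement_eq_one_iff_mul_comm]
        exact (IsPGroup.isMulCommutative_of_card_eq_prime_sq hq).is_comm.comm _ _
      have h2 : ⁅(⟨b, hbB⟩ : B), ⟨g, hg⟩⁆ ∈ Z.subgroupOf B := (QuotientGroup.eq_one_iff _).1 h1
      exact h2
    exact (Subgroup.eq_of_le_of_card_ge hBD (hB ▸ hcount)).ge
  have hBbar : Nat.card (B.map f) = p ^ 2 := by
    refine Nat.eq_of_mul_eq_mul_right (Nat.card_pos (α := Z)) ?_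
    have := CfsgLib.Solv.card_map_mk' Z B
    rw [inf_eq_right.2 hZB] at this
    rw [this, hB, hz1]; ring
  have hCB : Subgroup.centralizer ((B.map f) : Set (X ⧸ Z)) ≤ B.map f := by
    rw [← Subgroup.map_comap_eq_self_of_surjective hfs (Subgroup.centralizer ((B.map f) : Set (X ⧸ Z)))]
    exact Subgroup.map_mono hDB
  obtain ⟨s, hs⟩ : ∃ s : X ⧸ Z, Nat.card (Subgroup.centralizer ({s} : Set (X ⧸ Z))) ≤ p ^ 2 := by
    by_cases hcen : B.map f ≤ Subgroup.center (X ⧸ Z)
    · refine ⟨1, ?_⟩
      rw [← hBbar]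
      exact Subgroup.card_le_of_le (le_top.trans (((Subgroup.centralizer_eq_top_iff_subset.2 hcen).ge).trans hCB))
    · obtain ⟨s, hsB, hsZ⟩ := SetLike.not_le_iff_exists.1 hcen
      refine ⟨s, ?_⟩
      rw [← hBbar]
      refine Subgroup.card_le_of_le (le_trans ?_ hCB)
      set Z' := Subgroup.center (X ⧸ Z)
      have hZ'B : Z' ≤ B.map f := (Subgroup.center_le_centralizer _).trans hCB
      have hEq : Z' ⊔ Subgroup.zpowers s = B.map f := by
        have hle : Z' ⊔ Subgroup.zpowers s ≤ B.map f := sup_le hZ'B (Subgroup.zpowers_le.2 hsB)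
        refine Subgroup.eq_of_le_of_card_ge hle ?_
        haveI : Nontrivial (X ⧸ Z) := Finite.one_lt_card_iff_nontrivial.1 (by rw [hXZ]; exact Nat.one_lt_pow (by omega) hp1)
        haveI := (hp.to_quotient Z).center_nontrivial
        obtain ⟨i, hi⟩ := IsPGroup.iff_card.1 ((hp.to_quotient Z).to_subgroup Z')
        obtain ⟨j, hj⟩ := IsPGroup.iff_card.1 ((hp.to_quotient Z).to_subgroup (Z' ⊔ Subgroup.zpowers s : Subgroup (X ⧸ Z)))
        have h1 : 1 < Nat.card Z' := Finite.one_lt_card
        rw [hj, hBbar]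
        refine Nat.pow_le_pow_right (by omega) ?_
        rw [hi] at h1
        have hi0 : i ≠ 0 := fun e => by rw [e] at h1; simp at h1
        by_contra hcon
        exact hsZ (Subgroup.eq_of_le_of_card_ge (le_sup_left : Z' ≤ Z' ⊔ Subgroup.zpowers s)
          (by rw [hi, hj]; exact Nat.pow_le_pow_right (by omega) (by omega)) ▸ Subgroup.mem_sup_right (Subgroup.mem_zpowers s))
      rw [← hEq, Subgroup.le_centralizer_iff]
      refine sup_le (Subgroup.center_le_centralizer _) (Subgroup.zpowers_le.2 ?_)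
      exact Subgroup.mem_centralizer_iff.2 fun t ht => Subgroup.mem_centralizer_singleton_iff.1 ht
  rw [maxClass_of_small_centralizer (n - 1) (X ⧸ Z) p (by omega) hXZ s hs]
  omega

end Cfsg.Agent.S4143
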