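import Cfsg.Statements.S4145
import Cfsg.Agent.Perm.CyclicSylow
import Cfsg.Agent.Solv.CoprimeSylow

set_option autoImplicit false
set_option linter.style.haveILetI false
open Cfsg

namespace Cfsg.Agent.S4145

--- pre
/-- Ambient form of a normal `p`-complement of a subgroup. -/
theorem ambient_complement {G : Type*} [Group G] [Finite G] {p : ℕ} [Fact p.Prime] (L : Subgroup G)
    (h : Cfsg.HasNormalPComplement p L) :
    ∃ M : Subgroup G, M ≤ L ∧ ¬ p ∣ Nat.card M ∧ (∃ m, M.relIndex L = p ^ m) ∧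
      ∀ w ∈ L, (orderOf w).Coprime p → w ∈ M := by
  obtain ⟨N, hN, hNp, m, hm⟩ := CfsgLib.Perm.exists_of_hasNormalPComplement h
  refine ⟨N.map L.subtype, Subgroup.map_subtype_le _, by rwa [CfsgLib.Solv.card_map_subtype],
    ⟨m, ?_⟩, fun w hw hord => ?_⟩
  · rw [Subgroup.relIndex, Subgroup.subgroupOf, Subgroup.comap_map_eq_self_of_injective L.subtype_injective, hm]
  · refine ⟨⟨w, hw⟩, ?_, rfl⟩
    refine CfsgLib.Perm.mem_of_pow_mem_of_coprime (n := N.index) ?_ (Subgroup.pow_index_mem N _)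
    rw [hm, Subgroup.orderOf_mk]
    exact hord.pow_right m

/-- Let G be a finite group with a cyclic Sylow p-subgroup and H a normal subgroup such that p divides both the order of H and the index of H. Then H has a normal p-complement and G is p-solvable. -/
theorem result {G : Type*} [Group G] [Finite G] (p : ℕ) [Fact p.Prime]
    (P : Sylow p G) (hP : IsCyclic (P : Subgroup G)) (H : Subgroup G) [H.Normal] (h1 : p ∣ Nat.card H) (h2 : p ∣ H.index) :
    Cfsg.HasNormalPComplement p H ∧ Cfsg.IsPSolvable p G := by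
  classical
  have hp : p.Prime := Fact.out
  have hPi := P.not_dvd_index
  have hcopz : ∀ {M : Subgroup G} {x : G}, ¬ p ∣ Nat.card M → x ∈ M → (orderOf x).Coprime p :=
    fun hM hx => (hp.coprime_iff_not_dvd.2
      fun hd => hM (hd.trans (Subgroup.orderOf_dvd_natCard _ hx))).symm
  set P₁ := (P : Subgroup G) ⊓ H with hP₁
  have hPH : ¬ p ∣ (P : Subgroup G).relIndex H :=
    fun hd => hPi (hd.trans (CfsgLib.Solv.relIndex_normal_dvd_index _ _))
  have hP₁lt : P₁ < (P : Subgroup G) := by
    refine lt_of_le_of_ne inf_le_left fun h => hPi (h2.trans (Subgroup.index_dvd_of_le ?_))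
    exact inf_eq_left.1 h
  have hP₁ne : P₁ ≠ ⊥ := by
    intro h
    apply hPH
    rw [← Subgroup.inf_relIndex_right, ← hP₁, h, Subgroup.relIndex_bot_left]
    exact h1
  haveI := hP
  have hab : IsMulCommutative (P : Subgroup G) := inferInstance
  -- the product `H P`
  set L := H ⊔ (P : Subgroup G) with hL
  have hPL : (P : Subgroup G) ≤ L := le_sup_right
  have hLc : Cfsg.HasNormalPComplement p L := by
    refine CfsgLib.Perm.hasNormalPComplement_of_ctrl (P.subtype hPL) ?_ ?_
    · haveI := hab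
      rw [Sylow.coe_subtype]
      infer_instance
    intro z hz hord
    have hzN : (z : G) ∈ Subgroup.normalizer ((P : Subgroup G) : Set G) := by
      rw [Subgroup.mem_normalizer_iff] at hz ⊢
      intro y
      constructor
      · intro hy; exact (hz ⟨y, hPL hy⟩).1 hy
      · intro hy
        have hyL : y ∈ L := by
          have := mul_mem (mul_mem (inv_mem z.2) (hPL hy)) z.2
          simpa [mul_assoc] using this
        exact (hz ⟨y, hyL⟩).2 hy
    have hord' : (orderOf (z : G)).Coprime p := by rwa [Subgroup.orderOf_coe]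
    have hzH : (z : G) ∈ H := by
      refine CfsgLib.Perm.mem_of_pow_mem_of_coprime (n := H.relIndex L) ?_
        (Subgroup.mem_subgroupOf.1 (Subgroup.pow_index_mem (H.subgroupOf L) z))
      obtain ⟨k, hk⟩ := IsPGroup.iff_card.1 P.2
      show (orderOf (z : G)).Coprime (H.relIndex (H ⊔ (P : Subgroup G)))
      rw [Subgroup.relIndex_sup_left]
      exact Nat.Coprime.coprime_dvd_right (hk ▸ Subgroup.relIndex_dvd_card H (P : Subgroup G)) (hord'.pow_right k)
    have hzC := CfsgLib.Perm.mem_centralizer_cyclic P.2 hP hzN hord' (Or.inr ⟨P₁, hP₁lt, fun y hy =>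
      ⟨(P : Subgroup G).mul_mem ((Subgroup.mem_normalizer_iff.1 hzN y).1 hy) ((P : Subgroup G).inv_mem hy), by
        rw [mul_assoc, mul_assoc, ← mul_assoc y]
        exact H.mul_mem hzH (Subgroup.Normal.conj_mem inferInstance _ (H.inv_mem hzH) y)⟩⟩)
    rw [Subgroup.mem_centralizer_iff] at hzC ⊢
    intro w hw
    exact Subtype.ext (hzC w hw)
  obtain ⟨M, hML, hMp, ⟨m, hm⟩, hMw⟩ := ambient_complement L hLc
  set N := M ⊓ H with hN
  have hNp : ¬ p ∣ Nat.card N := fun h => hMp (h.trans (Subgroup.card_dvd_of_le inf_le_left))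
  have hNn : N.Normal := by
    refine ⟨fun x hx g => ⟨hMw _ ((le_sup_left : H ≤ L) (Subgroup.Normal.conj_mem inferInstance x hx.2 g)) ?_,
      Subgroup.Normal.conj_mem inferInstance x hx.2 g⟩⟩
    have : orderOf (g * x * g⁻¹) = orderOf x :=
      orderOf_injective (MulAut.conj g).toMonoidHom (MulAut.conj g).injective x
    rw [this]
    exact hcopz hNp hx
  obtain ⟨m', -, hm'⟩ : ∃ i ≤ m, N.relIndex H = p ^ i := by
    refine (Nat.dvd_prime_pow hp).1 ?_
    rw [hN, Subgroup.inf_relIndex_right, ← hm]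
    haveI : (M.subgroupOf L).Normal := by
      refine ⟨fun x hx g => ?_⟩
      refine hMw _ (g * x * g⁻¹).2 ?_
      show (orderOf ((g : G) * x * (g : G)⁻¹)).Coprime p
      have : orderOf ((g : G) * x * (g : G)⁻¹) = orderOf (x : G) :=
        orderOf_injective (MulAut.conj (g : G)).toMonoidHom (MulAut.conj (g : G)).injective (x : G)
      rw [this]
      exact hcopz hMp hx
    rw [← Subgroup.relIndex_subgroupOf (le_sup_left : H ≤ L)]
    exact Subgroup.relIndex_dvd_index_of_normal _ _
  haveI := hNn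
  refine ⟨CfsgLib.Perm.hasNormalPComplement_of (N.subgroupOf H) ?_ ⟨m', hm'⟩, ?_⟩
  · rwa [CfsgLib.Solv.card_subgroupOf (inf_le_right : N ≤ H)]
  -- the upper part
  set K := Subgroup.normalizer (P₁ : Set G) with hK
  set C := Subgroup.centralizer (P₁ : Set G) with hC
  have hPC : (P : Subgroup G) ≤ C := by
    intro y hy
    rw [hC, Subgroup.mem_centralizer_iff]
    intro u hu
    exact congrArg Subtype.val (mul_comm' (⟨u, hu.1⟩ : (P : Subgroup G)) ⟨y, hy⟩)
  have hfr : H ⊔ K = ⊤ := by
    have hp1 : IsPGroup p ((P : Subgroup G).subgroupOf H) := IsPGroup.comap_subtype P.2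
    have h := Sylow.normalizer_sup_eq_top (hp1.toSylow hPH)
    rw [sup_comm, hK, hP₁]
    have hcoe : ((hp1.toSylow hPH : Sylow p H) : Subgroup H) = (P : Subgroup G).subgroupOf H := rfl
    rwa [hcoe, Subgroup.subgroupOf_map_subtype] at h
  have hCc : Cfsg.HasNormalPComplement p C := by
    refine CfsgLib.Perm.hasNormalPComplement_of_ctrl (P.subtype hPC) ?_ ?_
    · haveI := hab
      rw [Sylow.coe_subtype]
      infer_instance
    intro z hz hord
    have hzN : (z : G) ∈ Subgroup.normalizer ((P : Subgroup G) : Set G) := by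
      rw [Subgroup.mem_normalizer_iff] at hz ⊢
      intro y
      constructor
      · intro hy; exact (hz ⟨y, hPC hy⟩).1 hy
      · intro hy
        have hyC : y ∈ C := by
          have := mul_mem (mul_mem (inv_mem z.2) (hPC hy)) z.2
          simpa [mul_assoc] using this
        exact (hz ⟨y, hyC⟩).2 hy
    obtain ⟨⟨u, hu⟩, hu1⟩ := Subgroup.ne_bot_iff_exists_ne_one.1 hP₁ne
    have hzC := CfsgLib.Perm.mem_centralizer_cyclic P.2 hP hzN (by rwa [Subgroup.orderOf_coe])
      (Or.inl ⟨u, hu.1, fun h => hu1 (Subtype.ext h), (Subgroup.mem_centralizer_iff.1 z.2 u hu).symm⟩)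
    rw [Subgroup.mem_centralizer_iff] at hzC ⊢
    intro w hw
    exact Subtype.ext (hzC w hw)
  obtain ⟨M', hM'C, hM'p, ⟨n, hn⟩, hM'w⟩ := ambient_complement C hCc
  have hnorm : ∀ X : Subgroup G, (∀ g ∈ K, ∀ x ∈ X, g * x * g⁻¹ ∈ H ⊔ X) → (H ⊔ X).Normal := by
    intro X hX
    rw [← Subgroup.normalizer_eq_top_iff, eq_top_iff, ← hfr]
    refine sup_le (le_sup_left.trans Subgroup.le_normalizer) ?_
    rw [CfsgLib.Solv.le_normalizer_iff_forall_conj_mem]
    intro g hg x hx
    have hle : (H ⊔ X).map (MulAut.conj g).toMonoidHom ≤ H ⊔ X := by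
      rw [Subgroup.map_sup]
      refine sup_le ?_ ?_
      · rintro _ ⟨y, hy, rfl⟩
        exact (le_sup_left : H ≤ H ⊔ X) (Subgroup.Normal.conj_mem inferInstance y hy g)
      · rintro _ ⟨y, hy, rfl⟩
        exact hX g hg y hy
    exact hle ⟨x, hx, rfl⟩
  have hCK : ∀ g ∈ K, ∀ x ∈ C, g * x * g⁻¹ ∈ C := by
    intro g hg x hx
    rw [hC, Subgroup.mem_centralizer_iff] at hx ⊢
    intro u hu
    have hu' : g⁻¹ * u * g ∈ P₁ := by
      have := (Subgroup.mem_normalizer_iff.1 (inv_mem hg) u).1 hu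
      simpa using this
    calc u * (g * x * g⁻¹) = g * ((g⁻¹ * u * g) * x) * g⁻¹ := by group
      _ = g * (x * (g⁻¹ * u * g)) * g⁻¹ := by rw [hx _ hu']
      _ = _ := by group
  haveI hn1 : (H ⊔ M').Normal := hnorm M' fun g hg x hx => (le_sup_right : M' ≤ H ⊔ M') <| by
    refine hM'w _ (hCK g hg x (hM'C hx)) ?_
    have : orderOf (g * x * g⁻¹) = orderOf x :=
      orderOf_injective (MulAut.conj g).toMonoidHom (MulAut.conj g).injective x
    rw [this]
    exact hcopz hM'p hx
  haveI hn2 : (H ⊔ C).Normal := hnorm C fun g hg x hx => (le_sup_right : C ≤ H ⊔ C) (hCK g hg x hx)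
  have hcop : ∀ {a b : ℕ}, ¬ p ∣ b → a ∣ b → a.Coprime p :=
    fun hb hab => (hp.coprime_iff_not_dvd.2 fun h => hb (h.trans hab)).symm
  refine ⟨5, ![⊥, N, H, H ⊔ M', H ⊔ C, ⊤], rfl, rfl, ?_, ?_, ?_⟩
  · rw [Fin.monotone_iff_le_succ]
    intro i
    fin_cases i
    · exact bot_le
    · exact inf_le_right
    · exact le_sup_left
    · exact sup_le_sup_left hM'C H
    · exact le_top
  · intro i
    fin_cases i
    · show (⊥ : Subgroup G).Normal; infer_instance
    · show N.Normal; exact hNn
    · show H.Normal; infer_instance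
    · show (H ⊔ M').Normal; exact hn1
    · show (H ⊔ C).Normal; exact hn2
    · show (⊤ : Subgroup G).Normal; infer_instance
  · intro i
    fin_cases i
    · refine Or.inr ?_
      show ((⊥ : Subgroup G).relIndex N).Coprime p
      rw [Subgroup.relIndex_bot_left]
      exact hcop hNp dvd_rfl
    · exact Or.inl ⟨m', hm'⟩
    · refine Or.inr ?_
      show (H.relIndex (H ⊔ M')).Coprime p
      rw [Subgroup.relIndex_sup_left]
      exact hcop hM'p (Subgroup.relIndex_dvd_card _ _)
    · refine Or.inl ?_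
      show ∃ k, (H ⊔ M').relIndex (H ⊔ C) = p ^ k
      have h : (H ⊔ M').relIndex (H ⊔ C) ∣ p ^ n := by
        rw [show H ⊔ C = (H ⊔ M') ⊔ C by rw [sup_assoc, sup_eq_right.2 hM'C],
          Subgroup.relIndex_sup_left, ← hn]
        exact Subgroup.relIndex_dvd_of_le_left C le_sup_right
      obtain ⟨k, -, hk⟩ := (Nat.dvd_prime_pow hp).1 h
      exact ⟨k, hk⟩
    · refine Or.inr ?_
      show ((H ⊔ C).relIndex ⊤).Coprime p
      rw [Subgroup.relIndex_top_right]
      exact hcop hPi (Subgroup.index_dvd_of_le (hPC.trans le_sup_right))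

end Cfsg.Agent.S4145
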