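import Cfsg.Statements.S4150
import Cfsg.Agent.Perm.CycleGen
import Cfsg.Agent.Perm.PrimePairs

set_option autoImplicit false
set_option linter.style.haveILetI false
set_option linter.unusedSectionVars false
open Cfsg

namespace Cfsg.Agent.S4150

open Equiv MulAction CfsgLib.Perm.CycleGen CfsgLib.Perm.Jordan
open scoped Pointwise

variable {β : Type*} [Fintype β] [DecidableEq β]

/-- An element commuting with a cycle moves its points like a power of it. -/
theorem exists_zpow_on_support {g c : Perm β} (hg : g.IsCycle) (hc : Commute c g) :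
    ∃ k : ℤ, ∀ y, g y ≠ y → c y = (g ^ k) y := by
  obtain ⟨x, hx, -⟩ := id hg
  have hcx : g (c x) ≠ c x := fun e => hx (by
    have h1 : g (c x) = c (g x) := (DFunLike.congr_fun hc.eq x).symm
    exact c.injective (h1.symm.trans e))
  obtain ⟨k, hk⟩ := hg.sameCycle hx hcx
  refine ⟨k, fun y hy => ?_⟩
  obtain ⟨m, hm⟩ := hg.sameCycle hx hy
  rw [← hm, ← Perm.mul_apply, (hc.zpow_right m).eq, Perm.mul_apply, ← hk,
    ← Perm.mul_apply, ← Perm.mul_apply, ← zpow_add, ← zpow_add, add_comm]

theorem orderOf_zpow_eq {g : Perm β} {r : ℕ} (hg : g ^ r = 1) (k : ℤ) : (g ^ k) ^ r = 1 := by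
  rw [← zpow_natCast, ← zpow_mul, mul_comm, zpow_mul, zpow_natCast, hg, one_zpow]

/-- A group of order `210` or `30` generated by elements of odd order does not exist. -/
theorem card_ne_two_mul_odd {G : Subgroup (Perm β)} {a b : Perm β}
    (hgen : Subgroup.closure {a, b} = G) {p q : ℕ} (hp : Odd p) (hq : Odd q) (hap : a ^ p = 1)
    (hbq : b ^ q = 1) {k : ℕ} (hk : Odd k) : Nat.card G ≠ 2 * k := by
  intro hG
  haveI : Fact (Nat.Prime 2) := ⟨Nat.prime_two⟩
  obtain ⟨T⟩ : Nonempty (Sylow 2 G) := inferInstance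
  have hT : Nat.card (T : Subgroup G) = 2 := by
    rw [T.card_eq_multiplicity, hG, Nat.factorization_mul two_ne_zero hk.pos.ne',
      Finsupp.add_apply, Nat.prime_two.factorization_self,
      Nat.factorization_eq_zero_of_not_dvd (fun h => Nat.not_even_iff_odd.2 hk (even_iff_two_dvd.2 h)),
      add_zero, pow_one]
  obtain ⟨K, hK⟩ := CfsgLib.Inv.exists_index_two_of_cyclic_sylow (G := G)
    (hG ▸ even_two_mul k) T (isCyclic_of_prime_card hT)
  exact index_ne_two hgen hp hq hap hbq K hK

/-- The outcome looked for. -/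
def GenAlt (G : Subgroup (Perm β)) : Prop :=
  ∃ d : ℕ, 5 ≤ d ∧ Nonempty (G ≃* alternatingGroup (Fin d))

theorem genAlt_of_ge {G : Subgroup (Perm β)} (hGA : G ≤ alternatingGroup β)
    (hAG : alternatingGroup β ≤ G) (hd : 5 ≤ Fintype.card β) : GenAlt G :=
  ⟨Fintype.card β, hd, ⟨(MulEquiv.subgroupCongr (le_antisymm hGA hAG)).trans
    (altEquiv (Fintype.equivFin β))⟩⟩

theorem card_subgroupOf_mul {G : Subgroup (Perm β)} (hGA : G ≤ alternatingGroup β) :
    (G.subgroupOf (alternatingGroup β)).index * Nat.card G = Nat.card (alternatingGroup β) := by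
  rw [← CfsgLib.Solv.card_subgroupOf hGA, mul_comm, Subgroup.card_mul_index]

theorem seven {G : Subgroup (Perm β)} (hGA : G ≤ alternatingGroup β) (hprim : IsPreprimitive G β)
    {a b : Perm β} (hgen : Subgroup.closure {a, b} = G) (hac : a.IsCycle) (ha5 : a.support.card = 5)
    (hbc : b.IsCycle) (hb7 : b.support.card = 7) (hβ : Fintype.card β = 7) : GenAlt G := by
  classical
  haveI : Fact (Nat.Prime 7) := ⟨by norm_num⟩
  haveI : Nontrivial β := Fintype.one_lt_card_iff_nontrivial.1 (by omega)
  have haG : a ∈ G := hgen ▸ Subgroup.subset_closure (Or.inl rfl)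
  have hbG : b ∈ G := hgen ▸ Subgroup.subset_closure (Or.inr rfl)
  have hap : a ^ 5 = 1 := by rw [← ha5, ← hac.orderOf]; exact pow_orderOf_eq_one a
  have hbq : b ^ 7 = 1 := by rw [← hb7, ← hbc.orderOf]; exact pow_orderOf_eq_one b
  have h210 : 210 ∣ Nat.card G := by
    have := descFactorial_dvd (multi hprim (by norm_num : Nat.Prime 5) hac ha5 haG
      (show 0 < 2 by norm_num) (by rw [hβ])) (by omega)
    rwa [hβ, show Nat.descFactorial 7 (2 + 1) = 210 by decide] at this
  have hA : Nat.card (alternatingGroup β) = 2520 := by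
    rw [nat_card_alternatingGroup, Nat.card_eq_fintype_card, hβ]; decide
  have hdiv : Nat.card G ∣ 2520 := hA ▸ Subgroup.card_dvd_of_le hGA
  obtain ⟨Q⟩ : Nonempty (Sylow 7 G) := inferInstance
  have hQ : Nat.card (Q : Subgroup G) = 7 := by
    obtain ⟨k, hk⟩ := Q.2.exists_card_eq
    have h1 : 7 ∣ Nat.card (Q : Subgroup G) := Q.dvd_card_of_dvd_card ((by norm_num : 7 ∣ 210).trans h210)
    have h2 := ((Q : Subgroup G).card_subgroup_dvd_card).trans hdiv
    rw [hk] at h1 h2 ⊢
    match k with
    | 0 => norm_num at h1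
    | 1 => rfl
    | k + 2 =>
      exact absurd ((pow_dvd_pow 7 (Nat.le_add_left 2 k)).trans h2) (by norm_num)
  -- the centralizer of the `7`-cycle
  have hC : Subgroup.centralizer ((Q : Subgroup G) : Set G) ≤ (Q : Subgroup G) := by
    intro c hc
    haveI : Nontrivial (Q : Subgroup G) :=
      Finite.one_lt_card_iff_nontrivial.1 (by rw [hQ]; norm_num)
    obtain ⟨⟨w, hw⟩, hw1⟩ := exists_ne (1 : (Q : Subgroup G))
    have hwo : orderOf (w : Perm β) = 7 := by
      refine orderOf_eq_prime ?_ fun e => hw1 (Subtype.ext (Subtype.ext e))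
      have := congrArg Subtype.val (pow_card_eq_one' (x := (⟨w, hw⟩ : (Q : Subgroup G))))
      rw [hQ] at this
      exact congrArg Subtype.val this
    have hwc : (w : Perm β).IsCycle := Perm.isCycle_of_prime_order' (by rw [hwo]; norm_num)
      (by rw [hwo, hβ]; norm_num)
    have hws : ∀ y, (w : Perm β) y ≠ y := by
      intro y
      have : (w : Perm β).support = Finset.univ := Finset.eq_univ_of_card _ (by
        rw [← hwc.orderOf, hwo, hβ])
      exact Perm.mem_support.1 (this ▸ Finset.mem_univ y)
    obtain ⟨k, hk⟩ := exists_zpow_on_support hwc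
      (show Commute (c : Perm β) (w : Perm β) from
        congrArg Subtype.val (Subgroup.mem_centralizer_iff.1 hc w hw).symm)
    have : c = w ^ k := Subtype.ext (Equiv.ext fun y => by rw [Subgroup.coe_zpow]; exact hk y (hws y))
    rw [this]
    exact Subgroup.zpow_mem _ hw k
  have he := CfsgLib.Perm.SylowNumber.relIndex_centralizer_dvd (q := 7) (Q : Subgroup G) hQ
  set N := Subgroup.normalizer ((Q : Subgroup G) : Set G)
  set C := Subgroup.centralizer ((Q : Subgroup G) : Set G)
  have hCQ : C = (Q : Subgroup G) := by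
    refine le_antisymm hC fun x hx => ?_
    haveI := isCyclic_of_prime_card hQ
    exact Subgroup.mem_centralizer_iff.2 fun y hy => congrArg Subtype.val
      (IsCyclic.commGroup.mul_comm (⟨y, hy⟩ : (Q : Subgroup G)) ⟨x, hx⟩)
  have hN : Nat.card N = C.relIndex N * 7 := by
    have hcc : Nat.card C = 7 := by rw [hCQ, hQ]
    have h1 := CfsgLib.Solv.relIndex_mul_card (Subgroup.centralizer_le_normalizer _ : C ≤ N)
    rw [← h1, mul_comm (C.relIndex N)]
    exact congrArg (· * C.relIndex N) hcc
  have hn := card_sylow_modEq_one 7 G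
  have hprod : Nat.card (Sylow 7 G) * (C.relIndex N * 7) = Nat.card G := by
    rw [← hN, Sylow.card_eq_index_normalizer Q, mul_comm]
    exact N.card_mul_index
  set n := Nat.card (Sylow 7 G)
  set e := C.relIndex N
  have h30 : 30 ∣ n * e := by
    have h1 : 7 * 30 ∣ 7 * (n * e) := by rw [show 7 * (n * e) = n * (e * 7) by ring, hprod]; exact h210
    exact Nat.dvd_of_mul_dvd_mul_left (by norm_num) h1
  have h360 : n * e ∣ 360 := by
    have h1 : 7 * (n * e) ∣ 7 * 360 := by rw [show 7 * (n * e) = n * (e * 7) by ring, hprod]; exact hdiv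
    exact Nat.dvd_of_mul_dvd_mul_left (by norm_num) h1
  have key : ∀ n ∈ Nat.divisors 360, ∀ e ∈ Nat.divisors 6, n % 7 = 1 → 30 ∣ n * e → n * e ∣ 360 →
      n * e = 30 ∨ n * e = 90 ∨ n * e = 120 ∨ n * e = 360 := by
    decide +kernel
  have hcase := key n (Nat.mem_divisors.2 ⟨(dvd_mul_right n e).trans h360, by norm_num⟩) e
    (Nat.mem_divisors.2 ⟨he, by norm_num⟩) hn h30 h360
  rw [show n * (e * 7) = n * e * 7 by ring] at hprod
  have hi := card_subgroupOf_mul hGA
  rw [hA] at hi
  haveI : IsSimpleGroup (alternatingGroup β) :=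
    alternatingGroup.isSimpleGroup (by rw [Nat.card_eq_fintype_card, hβ]; norm_num)
  have hfac : G.subgroupOf (alternatingGroup β) ≠ ⊤ →
      2520 ∣ (G.subgroupOf (alternatingGroup β)).index.factorial := fun h => hA ▸ card_dvd_factorial _ h
  by_cases htop : G.subgroupOf (alternatingGroup β) = ⊤
  · exact genAlt_of_ge hGA (Subgroup.subgroupOf_eq_top.1 htop) (by omega)
  exfalso
  have h2520 := hfac htop
  rcases hcase with h | h | h | h <;> rw [h] at hprod <;> rw [← hprod] at hi
  · exact card_ne_two_mul_odd hgen (by decide : Odd 5) (by decide : Odd 7) hap hbq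
      (by decide : Odd 105) (by rw [← hprod])
  · rw [show (G.subgroupOf (alternatingGroup β)).index = 4 by omega] at h2520
    revert h2520; decide
  · rw [show (G.subgroupOf (alternatingGroup β)).index = 3 by omega] at h2520
    revert h2520; decide
  · rw [show (G.subgroupOf (alternatingGroup β)).index = 1 by omega] at h2520
    revert h2520; decide

theorem six {G : Subgroup (Perm β)} (hGA : G ≤ alternatingGroup β) (hprim : IsPreprimitive G β)
    {a b : Perm β} (hgen : Subgroup.closure {a, b} = G) (hap : a ^ 3 = 1) (ha1 : a ≠ 1)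
    (hbc : b.IsCycle) (hb5 : b.support.card = 5) (hβ : Fintype.card β = 6) : GenAlt G := by
  classical
  haveI : Fact (Nat.Prime 3) := ⟨Nat.prime_three⟩
  haveI : Nontrivial β := Fintype.one_lt_card_iff_nontrivial.1 (by omega)
  have haG : a ∈ G := hgen ▸ Subgroup.subset_closure (Or.inl rfl)
  have hbG : b ∈ G := hgen ▸ Subgroup.subset_closure (Or.inr rfl)
  have hbq : b ^ 5 = 1 := by rw [← hb5, ← hbc.orderOf]; exact pow_orderOf_eq_one b
  have h30 : 30 ∣ Nat.card G := by
    have := descFactorial_dvd (multi hprim (by norm_num : Nat.Prime 5) hbc hb5 hbG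
      (show 0 < 1 by norm_num) (by rw [hβ])) (by omega)
    rwa [hβ, show Nat.descFactorial 6 (1 + 1) = 30 by decide] at this
  have hA : Nat.card (alternatingGroup β) = 360 := by
    rw [nat_card_alternatingGroup, Nat.card_eq_fintype_card, hβ]; decide
  obtain ⟨c, hc⟩ := h30
  set K := G.subgroupOf (alternatingGroup β) with hKdef
  have hi : K.index * Nat.card G = 360 := hA ▸ card_subgroupOf_mul hGA
  by_cases htop : K = ⊤
  · exact genAlt_of_ge hGA (Subgroup.subgroupOf_eq_top.1 htop) (by omega)
  haveI : IsSimpleGroup (alternatingGroup β) :=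
    alternatingGroup.isSimpleGroup (by rw [Nat.card_eq_fintype_card, hβ]; norm_num)
  have hfac : 360 ∣ K.index.factorial := hA ▸ card_dvd_factorial K htop
  have hdiv : K.index ∈ Nat.divisors 12 := Nat.mem_divisors.2 ⟨⟨c, by
    rw [hc] at hi
    have h2 : 30 * (K.index * c) = 30 * 12 := by rw [← mul_assoc, mul_comm 30 K.index, mul_assoc, hi]
    exact (Nat.eq_of_mul_eq_mul_left (by norm_num) h2).symm⟩, by norm_num⟩
  rw [show Nat.divisors 12 = {1, 2, 3, 4, 6, 12} by decide] at hdiv
  simp only [Finset.mem_insert, Finset.mem_singleton] at hdiv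
  rcases hdiv with e | e | e | e | e | e <;> rw [e] at hfac hi
  any_goals (norm_num [Nat.factorial] at hfac; done)
  swap
  · exact absurd (show Nat.card G = 2 * 15 by omega)
      (card_ne_two_mul_odd hgen (by decide : Odd 3) (by decide : Odd 5) hap hbq (by decide : Odd 15))
  -- index six
  refine ⟨5, le_rfl, ?_⟩
  let Ω := alternatingGroup β ⧸ K
  haveI := Fintype.ofFinite Ω
  have hΩ : Fintype.card Ω = 6 := by
    rw [← Nat.card_eq_fintype_card]; exact (Subgroup.index_eq_card K).symm.trans e
  let ρ := toPermHom (alternatingGroup β) Ω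
  have hinj : Function.Injective ρ := by
    rw [← MonoidHom.ker_eq_bot_iff]
    refine (IsSimpleGroup.eq_bot_or_eq_top_of_normal _ inferInstance).resolve_right fun h => htop ?_
    rw [eq_top_iff, ← h, ← Subgroup.normalCore_eq_ker]
    exact Subgroup.normalCore_le K
  haveI : Nontrivial Ω := Fintype.one_lt_card_iff_nontrivial.1 (by omega)
  have hrange : ρ.range = alternatingGroup Ω := by
    refine Equiv.Perm.eq_alternatingGroup_of_index_eq_two ?_
    have h1 := ρ.range.card_mul_index
    rw [← Nat.card_congr (MonoidHom.ofInjective hinj).toEquiv, hA, Nat.card_perm,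
      Nat.card_eq_fintype_card, hΩ, show Nat.factorial 6 = 360 * 2 by decide] at h1
    omega
  let o : Ω := ((1 : alternatingGroup β) : Ω)
  let T : Finset Ω := Finset.univ.erase o
  have hle : K.map ρ ≤ (alternatingGroup T).map (Perm.ofSubtype : Perm T →* Perm Ω) := by
    rw [alternatingGroup.map_ofSubtype]
    rintro _ ⟨k, hk, rfl⟩
    refine Subgroup.mem_inf.2 ⟨Perm.mem_range_ofSubtype_iff.2 ?_, hrange ▸ ⟨k, rfl⟩⟩
    intro w hw
    refine Finset.mem_erase.2 ⟨fun hwo => (Perm.mem_support.1 hw) ?_, Finset.mem_univ w⟩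
    rw [hwo]
    show k • o = o
    exact QuotientGroup.eq.2 (by simpa using K.inv_mem hk)
  haveI : Nontrivial T := Fintype.one_lt_card_iff_nontrivial.1 (by
    rw [Fintype.card_coe, Finset.card_erase_of_mem (Finset.mem_univ _), Finset.card_univ, hΩ]; norm_num)
  have heq := Subgroup.eq_of_le_of_card_ge hle (by
    rw [Subgroup.card_map_of_injective hinj, Subgroup.card_map_of_injective Perm.ofSubtype_injective,
      nat_card_alternatingGroup, Nat.card_eq_fintype_card, Fintype.card_coe,
      Finset.card_erase_of_mem (Finset.mem_univ _), Finset.card_univ, hΩ,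
      CfsgLib.Solv.card_subgroupOf hGA, show Nat.card G = 60 by omega]
    decide)
  exact ⟨(Subgroup.subgroupOfEquivOfLe hGA).symm.trans ((K.equivMapOfInjective ρ hinj).trans
    ((MulEquiv.subgroupCongr heq).trans (((alternatingGroup T).equivMapOfInjective _
      Perm.ofSubtype_injective).symm.trans (altEquiv (Fintype.equivFinOfCardEq (by
        rw [Fintype.card_coe, Finset.card_erase_of_mem (Finset.mem_univ _), Finset.card_univ, hΩ]))))))⟩

/-- Powers of an element acting like a power of `g` on the support of `g`. -/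
theorem pow_eq_on_support {g c : Perm β} {k : ℤ} (hk : ∀ y, g y ≠ y → c y = (g ^ k) y) (n : ℕ) :
    ∀ y, g y ≠ y → (c ^ n) y = ((g ^ k) ^ n) y := by
  induction n with
  | zero => exact fun y _ => rfl
  | succ n ih =>
    intro y hy
    rw [pow_succ, Perm.mul_apply, hk y hy, pow_succ, Perm.mul_apply]
    exact ih _ (by rwa [← Perm.mem_support, Perm.zpow_apply_mem_support, Perm.mem_support])

/-- The square of an element commuting with a product of two cycles fixes each of them. -/
theorem commute_sq_factor {z c c₁ : Perm β} (hcard : z.cycleFactorsFinset.card = 2)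
    (hc : Commute c z) (h₁ : c₁ ∈ z.cycleFactorsFinset) : Commute (c ^ 2) c₁ := by
  have hconj : ∀ d ∈ z.cycleFactorsFinset, c * d * c⁻¹ ∈ z.cycleFactorsFinset := by
    intro d hd
    have h := (Perm.mem_cycleFactorsFinset_conj z c d).2 hd
    rwa [show c * z * c⁻¹ = z by rw [hc.eq, mul_inv_cancel_right]] at h
  obtain ⟨u, v, huv, hF⟩ := Finset.card_eq_two.1 hcard
  have h2 : c * (c * c₁ * c⁻¹) * c⁻¹ = c₁ := by
    have hm := hconj _ h₁
    have hm2 := hconj _ hm
    rw [hF, Finset.mem_insert, Finset.mem_singleton] at h₁ hm hm2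
    by_cases e : c * c₁ * c⁻¹ = c₁
    · rw [e, e]
    · have e2 : c * (c * c₁ * c⁻¹) * c⁻¹ ≠ c * c₁ * c⁻¹ := fun h => e (by
        have h' := mul_left_cancel (mul_right_cancel h)
        exact h')
      grind
  show c ^ 2 * c₁ = c₁ * c ^ 2
  calc c ^ 2 * c₁ = (c * (c * c₁ * c⁻¹) * c⁻¹) * c ^ 2 := by rw [pow_two]; group
    _ = c₁ * c ^ 2 := by rw [h2]

theorem orderOf_five_cases {z : Perm β} (hβ : Fintype.card β = 13) (hz : orderOf z = 5) :
    (z.IsCycle ∧ z.support.card = 5) ∨ (z.support.card = 10 ∧ z.cycleFactorsFinset.card = 2 ∧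
      ∀ c ∈ z.cycleFactorsFinset, c.IsCycle ∧ c.support.card = 5) := by
  obtain ⟨n, hn⟩ := Perm.cycleType_prime_order (σ := z) (by rw [hz]; norm_num)
  rw [hz] at hn
  have hsum := Perm.sum_cycleType z
  rw [hn, Multiset.sum_replicate, smul_eq_mul] at hsum
  have hle := Finset.card_le_univ z.support
  have hlen : z.cycleFactorsFinset.card = n + 1 := by
    have := congrArg Multiset.card hn
    rw [Multiset.card_replicate, Perm.cycleType_def, Multiset.card_map] at this
    exact this
  rcases (show n = 0 ∨ n = 1 by omega) with rfl | rfl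
  · refine Or.inl ⟨Perm.card_cycleType_eq_one.1 (by rw [hn, Multiset.card_replicate]), by omega⟩
  · refine Or.inr ⟨by omega, hlen, fun c hc => ⟨(Perm.mem_cycleFactorsFinset_iff.1 hc).1, ?_⟩⟩
    have hm : c.support.card ∈ z.cycleType := by
      rw [Perm.cycleType_def]
      exact Multiset.mem_map.2 ⟨c, hc, rfl⟩
    rw [hn] at hm
    exact Multiset.eq_of_mem_replicate hm

theorem pow_five_eq_one {w : Perm β} (hβ : Fintype.card β = 13) {k : ℕ} (hw : w ^ (5 ^ k) = 1) :
    w ^ 5 = 1 := by
  rw [← orderOf_dvd_iff_pow_eq_one, ← Perm.lcm_cycleType, Multiset.lcm_dvd]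
  intro n hn
  have h1 : n ∣ orderOf w := Perm.lcm_cycleType w ▸ Multiset.dvd_lcm hn
  obtain ⟨i, -, rfl⟩ := (Nat.dvd_prime_pow (by norm_num : Nat.Prime 5)).1
    (h1.trans (orderOf_dvd_of_pow_eq_one hw))
  have h2 : 5 ^ i ≤ 13 := hβ ▸ (Perm.le_card_support_of_mem_cycleType hn).trans (Finset.card_le_univ _)
  match i with
  | 0 => exact one_dvd _
  | 1 => exact dvd_rfl
  | i + 2 =>
    have : 5 ^ 2 ≤ 5 ^ (i + 2) := Nat.pow_le_pow_right (by norm_num) (by omega)
    omega

set_option maxHeartbeats 800000 in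
/-- With `5` dividing the order, a group of degree `13` as here is alternating. -/
theorem thirteen_five {G : Subgroup (Perm β)} (hprim : IsPreprimitive G β)
    (h3 : IsMultiplyPretransitive G β 3) (hβ : Fintype.card β = 13) (h5 : 5 ∣ Nat.card G) :
    alternatingGroup β ≤ G := by
  classical
  haveI : Fact (Nat.Prime 5) := ⟨by norm_num⟩
  have hsingle : ∀ z ∈ G, z.IsCycle → z.support.card = 5 → alternatingGroup β ≤ G :=
    fun z hz hc h => alternatingGroup_le_of_prime_cycle G hprim (by norm_num : Nat.Prime 5)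
      (by omega) hc h hz
  obtain ⟨R⟩ : Nonempty (Sylow 5 G) := inferInstance
  haveI : Nontrivial (R : Subgroup G) := Finite.one_lt_card_iff_nontrivial.1 (by
    have := Nat.le_of_dvd Nat.card_pos (R.dvd_card_of_dvd_card h5); omega)
  have hcn := R.2.center_nontrivial
  obtain ⟨k, hk⟩ := R.2.exists_card_eq
  haveI := hcn
  obtain ⟨⟨z, hz⟩, hzo⟩ := exists_prime_orderOf_dvd_card' (G := Subgroup.center (R : Subgroup G)) 5 (by
    obtain ⟨j, hj0, hj⟩ := (IsPGroup.nontrivial_iff_card (R.2.to_subgroup _)).1 hcn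
    exact hj ▸ dvd_pow_self 5 hj0.ne')
  set z' : Perm β := ((z : G) : Perm β) with hz'
  have hz'o : orderOf z' = 5 := by
    rw [hz', Subgroup.orderOf_coe, Subgroup.orderOf_coe]
    rwa [← Subgroup.orderOf_coe] at hzo
  have hz'G : z' ∈ G := (z : G).2
  rcases orderOf_five_cases hβ hz'o with ⟨hc, hs⟩ | ⟨hs, hfac, hcyc⟩
  · exact hsingle z' hz'G hc hs
  have hz5 : z' ^ 5 = 1 := by rw [← hz'o]; exact pow_orderOf_eq_one z'
  by_cases h25 : 25 ∣ Nat.card (R : Subgroup G)
  · obtain ⟨w, hw⟩ : ∃ w : (R : Subgroup G), w ∉ Subgroup.zpowers z := by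
      by_contra h
      push Not at h
      have h1 : Nat.card (R : Subgroup G) = orderOf z' := by
        rw [hz', Subgroup.orderOf_coe, Subgroup.orderOf_coe, ← Nat.card_zpowers,
          (eq_top_iff.2 fun w _ => h w : Subgroup.zpowers z = ⊤), Subgroup.card_top]
      rw [h1, hz'o] at h25
      norm_num at h25
    set w' : Perm β := ((w : G) : Perm β) with hw'
    have hwz : Commute w' z' :=
      congrArg (fun t : (R : Subgroup G) => ((t : G) : Perm β)) (Subgroup.mem_center_iff.1 hz w)
    have hw5 : w' ^ 5 = 1 := pow_five_eq_one hβ (k := k) (by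
      have := pow_card_eq_one' (x := w)
      rw [hk] at this
      exact congrArg (fun t : (R : Subgroup G) => ((t : G) : Perm β)) this)
    have hwfac : ∀ c ∈ z'.cycleFactorsFinset, Commute w' c := fun c hc => by
      have h1 := (commute_sq_factor hfac hwz hc).pow_left 3
      rwa [← pow_mul, pow_succ, hw5, one_mul] at h1
    obtain ⟨c₁, c₂, hne, hF⟩ := Finset.card_eq_two.1 hfac
    have hc₁ : c₁ ∈ z'.cycleFactorsFinset := by rw [hF]; simp
    obtain ⟨i, hi⟩ := exists_zpow_on_support (hcyc _ hc₁).1 (hwfac _ hc₁)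
    set v := w' * (z' ^ i)⁻¹ with hv
    have hvG : v ∈ G := mul_mem (w : G).2 (inv_mem (G.zpow_mem hz'G i))
    have hv5 : v ^ 5 = 1 := by
      rw [hv, ((hwz.zpow_right i).inv_right).mul_pow, hw5, inv_pow, orderOf_zpow_eq hz5, inv_one,
        mul_one]
    have hv1 : v ≠ 1 := fun e => hw (Subgroup.mem_zpowers_iff.2 ⟨i, by
      apply Subtype.ext; apply Subtype.ext
      simp only [SubgroupClass.coe_zpow]
      exact (mul_inv_eq_one.1 e).symm⟩)
    have hvo : orderOf v = 5 := orderOf_eq_prime hv5 hv1
    -- `v` moves only points of the second cycle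
    have hsub : v.support ⊆ c₂.support := by
      intro y hy
      by_contra hy2
      refine (Perm.mem_support.1 hy) ?_
      by_cases hy1 : y ∈ c₁.support
      · have hzc : ∀ u ∈ c₁.support, z' u = c₁ u := fun u hu =>
          ((Perm.mem_cycleFactorsFinset_iff.1 hc₁).2 u hu).symm
        have hzpow : ∀ (n : ℕ), (z' ^ n) y = (c₁ ^ n) y ∧ (c₁ ^ n) y ∈ c₁.support := by
          intro n
          refine ⟨?_, Perm.pow_apply_mem_support.2 hy1⟩
          induction n with
          | zero => rfl
          | succ n ih =>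
            rw [pow_succ', Perm.mul_apply, ih, pow_succ', Perm.mul_apply]
            exact hzc _ (Perm.pow_apply_mem_support.2 hy1)
        have hmod : ∀ g : Perm β, g ^ 5 = 1 → g ^ i = g ^ (i % 5).toNat := fun g hg => by
          have hg' : g ^ (5 : ℤ) = 1 := by rw [show (5 : ℤ) = ((5 : ℕ) : ℤ) from rfl, zpow_natCast, hg]
          rw [← zpow_natCast, Int.toNat_of_nonneg (Int.emod_nonneg i (by norm_num))]
          conv_lhs => rw [← Int.emod_add_mul_ediv i 5, zpow_add, zpow_mul, hg', one_zpow, mul_one]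
        have hc5 : c₁ ^ 5 = 1 := by
          rw [← (hcyc _ hc₁).2, ← (hcyc _ hc₁).1.orderOf]; exact pow_orderOf_eq_one c₁
        have h1 : w' y = (z' ^ i) y := by
          rw [hi y (Perm.mem_support.1 hy1), hmod z' hz5, hmod c₁ hc5]
          exact (hzpow _).1.symm
        have hcomm : Commute w' (z' ^ i)⁻¹ := (hwz.zpow_right i).inv_right
        rw [hv, hcomm.eq, Perm.mul_apply, h1, Perm.inv_def, Equiv.symm_apply_apply]
      · have hyz : z' y = y := by
          by_contra hne'
          obtain ⟨c, hc, hyc⟩ : ∃ c ∈ z'.cycleFactorsFinset, y ∈ c.support :=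
            ⟨z'.cycleOf y, Perm.cycleOf_mem_cycleFactorsFinset_iff.2 (Perm.mem_support.2 hne'),
              Perm.mem_support.2 (by rw [Perm.cycleOf_apply_self]; exact hne')⟩
          rw [hF, Finset.mem_insert, Finset.mem_singleton] at hc
          rcases hc with rfl | rfl
          · exact hy1 hyc
          · exact hy2 hyc
        have hfix3 : (Finset.univ.filter fun u => z' u = u).card = 3 := by
          have := Finset.card_compl z'.support
          rw [hs, hβ] at this
          convert this using 2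
          ext u; simp
        have hwfix : ∀ u, z' u = u → z' (w' u) = w' u := fun u hu => by
          have := DFunLike.congr_fun hwz.eq u
          simp only [Perm.mul_apply, hu] at this
          exact this.symm
        have hwy : w' y = y := by
          by_contra hne'
          have hinj : Set.InjOn (fun n => (w' ^ n) y) (Finset.range 5 : Set ℕ) := by
            intro a ha b hb hab
            rw [Finset.coe_range, Set.mem_Iio] at ha hb
            by_contra hne''
            rcases Nat.lt_or_gt_of_ne hne'' with h | h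
            · refine hne' (pow_apply_fix (by norm_num : Nat.Prime 5) hw5 (j := b - a) (by omega) ?_)
              refine (w' ^ a).injective ?_
              rw [← Perm.mul_apply, ← pow_add, Nat.add_sub_cancel' h.le]
              exact hab.symm
            · refine hne' (pow_apply_fix (by norm_num : Nat.Prime 5) hw5 (j := a - b) (by omega) ?_)
              refine (w' ^ b).injective ?_
              rw [← Perm.mul_apply, ← pow_add, Nat.add_sub_cancel' h.le]
              exact hab
          have hsub : ((Finset.range 5).image fun n => (w' ^ n) y) ⊆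
              Finset.univ.filter fun u => z' u = u := by
            intro u hu
            obtain ⟨n, -, rfl⟩ := Finset.mem_image.1 hu
            refine Finset.mem_filter.2 ⟨Finset.mem_univ _, ?_⟩
            clear hu
            induction n with
            | zero => exact hyz
            | succ n ih =>
              rw [pow_succ', Perm.mul_apply]
              exact hwfix _ ih
          have := Finset.card_le_card hsub
          rw [Finset.card_image_of_injOn hinj, Finset.card_range, hfix3] at this
          omega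
        have hzi : (z' ^ i)⁻¹ y = y := by
          rw [Perm.inv_eq_iff_eq]
          exact (Perm.zpow_apply_eq_self_of_apply_eq_self hyz i).symm
        rw [hv, Perm.mul_apply, hzi, hwy]
    have hc₂ : c₂ ∈ z'.cycleFactorsFinset := by rw [hF]; simp
    have hle := Finset.card_le_card hsub
    rw [(hcyc _ hc₂).2] at hle
    rcases orderOf_five_cases hβ hvo with ⟨hc, hsv⟩ | ⟨hsv, -, -⟩
    · exact hsingle v hvG hc hsv
    · omega
  -- commutator of two lifts
  have h25G : ¬ 5 ^ 2 ∣ Nat.card G := fun h => h25 (Sylow.pow_dvd_card_of_pow_dvd_card (n := 2) R h)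
  let s : Finset β := Finset.univ.filter fun u => z' u = u
  have hs3 : s.card = 3 := by
    have := Finset.card_compl z'.support
    rw [hs, hβ] at this
    convert this using 2
    ext u; simp [s]
  obtain ⟨a, b, c, hab, hac, hbc, habc⟩ := Finset.card_eq_three.1 hs3
  have hfixed : ∀ u, z' u = u ↔ u = a ∨ u = b ∨ u = c := fun u => by
    have : u ∈ s ↔ u ∈ ({a, b, c} : Finset β) := by rw [habc]
    simpa [s] using this
  -- lifts to the normalizer
  have hlift : ∀ σ : Perm β, (∀ u, z' u = u → z' (σ u) = σ u) →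
      ∃ A ∈ G, (∃ i : ℤ, A * z' * A⁻¹ = z' ^ i) ∧ ∀ u, z' u = u → A u = σ u := by
    intro σ hσ
    let e : Fin 3 ↪ β := ⟨![a, b, c], by
      intro i j hij
      fin_cases i <;> fin_cases j <;> first
        | rfl
        | exact absurd (show a = b from hij) hab
        | exact absurd (show a = c from hij) hac
        | exact absurd (show b = c from hij) hbc
        | exact absurd (show b = a from hij).symm hab
        | exact absurd (show c = a from hij).symm hac
        | exact absurd (show c = b from hij).symm hbc⟩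
    obtain ⟨⟨h, hhG⟩, hh⟩ :=
      h3.exists_smul_eq e (e.trans σ.toEmbedding)
    have hhσ : ∀ u, z' u = u → h u = σ u := by
      intro u hu
      rcases (hfixed u).1 hu with rfl | rfl | rfl
      · exact DFunLike.congr_fun hh 0
      · exact DFunLike.congr_fun hh 1
      · exact DFunLike.congr_fun hh 2
    let K : Subgroup G :=
      { carrier := {g | ∀ u, z' u = u → (g : Perm β) u = u}
        one_mem' := fun _ _ => rfl
        mul_mem' := fun {g g'} hg hg' u hu => by
          rw [Subgroup.coe_mul, Perm.mul_apply, hg' u hu, hg u hu]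
        inv_mem' := fun {g} hg u hu => by
          rw [Subgroup.coe_inv, Perm.inv_eq_iff_eq]; exact (hg u hu).symm }
    have hzK : (⟨z', hz'G⟩ : G) ∈ K := fun u hu => hu
    have hzK' : (⟨h * z' * h⁻¹, mul_mem (mul_mem hhG hz'G) (inv_mem hhG)⟩ : G) ∈ K := by
      intro u hu
      show (h * z' * h⁻¹) u = u
      obtain ⟨y, hy, rfl⟩ : ∃ y, z' y = y ∧ σ y = u := by
        have hbij : Function.Bijective
            (fun y : {t // z' t = t} => (⟨σ y, hσ y y.2⟩ : {t // z' t = t})) :=
          Finite.injective_iff_bijective.1 fun y y' h =>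
            Subtype.ext (σ.injective (congrArg Subtype.val h))
        obtain ⟨y, hy⟩ := hbij.2 ⟨u, hu⟩
        exact ⟨y, y.2, congrArg Subtype.val hy⟩
      rw [← hhσ y hy, Perm.mul_apply, Perm.mul_apply, Perm.inv_def, Equiv.symm_apply_apply, hy]
    let Q : ∀ t : K, orderOf t = 5 → Sylow 5 K := fun t ht => Sylow.ofCard (Subgroup.zpowers t) (by
      rw [Nat.card_zpowers, ht]
      refine (pow_one 5).symm.trans (congrArg (5 ^ ·) (le_antisymm ?_ ?_))
      · exact ((by norm_num : Nat.Prime 5).pow_dvd_iff_le_factorization Nat.card_pos.ne').1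
          (by rw [pow_one, ← ht]; exact orderOf_dvd_natCard t)
      · by_contra hlt
        exact h25G (((pow_dvd_pow 5 (Nat.succ_le_of_lt (not_le.1 hlt))).trans
          (Nat.ordProj_dvd _ _)).trans K.card_subgroup_dvd_card))
    obtain ⟨g, hg⟩ := exists_smul_eq K
      (Q ⟨_, hzK'⟩ (by
        rw [← Subgroup.orderOf_coe, ← Subgroup.orderOf_coe]
        exact ((MulAut.conj h).orderOf_eq z').trans hz'o))
      (Q ⟨_, hzK⟩ (by rw [← Subgroup.orderOf_coe, ← Subgroup.orderOf_coe]; exact hz'o))
    refine ⟨((g : G) : Perm β) * h, mul_mem (g : G).2 hhG, ?_, fun u hu => ?_⟩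
    · have h1 : g * ⟨_, hzK'⟩ * g⁻¹ ∈ Subgroup.zpowers (⟨_, hzK⟩ : K) := by
        have : MulAut.conj g (⟨_, hzK'⟩ : K) ∈ MulAut.conj g • Subgroup.zpowers (⟨_, hzK'⟩ : K) :=
          Subgroup.smul_mem_pointwise_smul _ (MulAut.conj g) _ (Subgroup.mem_zpowers _)
        have e' := congrArg (fun S : Sylow 5 K => (S : Subgroup K)) hg
        simp only [Sylow.coe_subgroup_smul, Q, Sylow.coe_ofCard] at e'
        rw [e'] at this
        exact this
      obtain ⟨i, hi⟩ := Subgroup.mem_zpowers_iff.1 h1
      refine ⟨i, ?_⟩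
      have h2 := congrArg (fun t : K => ((t : G) : Perm β)) hi
      simp only [Subgroup.coe_zpow, Subgroup.coe_mul, Subgroup.coe_inv] at h2
      rw [h2]
      group
    · rw [Perm.mul_apply, hhσ u hu]
      exact g.2 _ (hσ u hu)
  have hpres : ∀ u v, z' u = u → z' v = v → ∀ x, z' x = x → z' (Equiv.swap u v x) = Equiv.swap u v x := by
    intro u v hu hv x hx
    rw [Equiv.swap_apply_def]
    split_ifs <;> assumption
  have ha' := (hfixed a).2 (Or.inl rfl)
  have hb' := (hfixed b).2 (Or.inr (Or.inl rfl))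
  have hc' := (hfixed c).2 (Or.inr (Or.inr rfl))
  obtain ⟨A, hA, ⟨i, hi⟩, hAf⟩ := hlift _ (hpres a b ha' hb')
  obtain ⟨B, hB, ⟨j, hj⟩, hBf⟩ := hlift _ (hpres a c ha' hc')
  set C := (B * A)⁻¹ * (A * B) with hC
  have hCz : Commute C z' := by
    have e1 : A * B * z' * (A * B)⁻¹ = z' ^ (i * j) := by
      rw [show A * B * z' * (A * B)⁻¹ = A * (B * z' * B⁻¹) * A⁻¹ by group, hj, ← MulAut.conj_apply,
        map_zpow, MulAut.conj_apply, hi, ← zpow_mul]
    have e2 : B * A * z' * (B * A)⁻¹ = z' ^ (i * j) := by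
      rw [show B * A * z' * (B * A)⁻¹ = B * (A * z' * A⁻¹) * B⁻¹ by group, hi, ← MulAut.conj_apply,
        map_zpow, MulAut.conj_apply, hj, ← zpow_mul, mul_comm]
    refine mul_inv_eq_iff_eq_mul.1 ?_
    calc C * z' * C⁻¹ = (B * A)⁻¹ * (A * B * z' * (A * B)⁻¹) * (B * A) := by rw [hC]; group
      _ = (B * A)⁻¹ * (B * A * z' * (B * A)⁻¹) * (B * A) := by rw [e1, e2]
      _ = z' := by group
  set t := Equiv.swap a b * Equiv.swap a c with ht
  have hinv : ∀ (X : Perm β) (u v : β), z' u = u → z' v = v →
      (∀ x, z' x = x → X x = Equiv.swap u v x) → ∀ x, z' x = x → X⁻¹ x = Equiv.swap u v x := by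
    intro X u v hu hv hX x hx
    rw [Perm.inv_eq_iff_eq, hX _ (hpres u v hu hv x hx), Equiv.swap_apply_self]
  have hCfix : ∀ x, z' x = x → C x = (t ^ 2) x := by
    intro x hx
    have e1 := hpres a c ha' hc' x hx
    have e2 := hpres a b ha' hb' _ e1
    have e3 := hpres a c ha' hc' _ e2
    rw [hC, mul_inv_rev, Perm.mul_apply, Perm.mul_apply, Perm.mul_apply, hBf x hx, hAf _ e1,
      hinv B a c ha' hc' hBf _ e2, hinv A a b ha' hb' hAf _ e3, pow_two, ht]
    rfl
  have htfix : ∀ x, z' x ≠ x → t x = x := by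
    intro x hx
    have hne : ∀ u, z' u = u → x ≠ u := fun u hu e => hx (e ▸ hu)
    rw [ht, Perm.mul_apply, Equiv.swap_apply_of_ne_of_ne (hne a ha') (hne c hc'),
      Equiv.swap_apply_of_ne_of_ne (hne a ha') (hne b hb')]
  have htpres : ∀ x, z' x = x → z' (t x) = t x := fun x hx => by
    rw [ht, Perm.mul_apply]; exact hpres a b ha' hb' _ (hpres a c ha' hc' x hx)
  have hC10 : C ^ 10 = (t ^ 2) ^ 10 := by
    ext x
    by_cases hx : z' x = x
    · have : ∀ n : ℕ, (C ^ n) x = ((t ^ 2) ^ n) x ∧ z' (((t ^ 2) ^ n) x) = ((t ^ 2) ^ n) x := by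
        intro n
        induction n with
        | zero => exact ⟨rfl, hx⟩
        | succ n ih =>
          refine ⟨?_, ?_⟩
          · rw [pow_succ', Perm.mul_apply, ih.1, hCfix _ ih.2, pow_succ' (t ^ 2) n, Perm.mul_apply]
          · rw [pow_succ' (t ^ 2) n, Perm.mul_apply, pow_two, Perm.mul_apply]
            exact htpres _ (htpres _ ih.2)
      exact (this 10).1
    · have hc1 : z'.cycleOf x ∈ z'.cycleFactorsFinset :=
        Perm.cycleOf_mem_cycleFactorsFinset_iff.2 (Perm.mem_support.2 hx)
      have hxc : (z'.cycleOf x) x ≠ x := by rw [Perm.cycleOf_apply_self]; exact hx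
      obtain ⟨l, hl⟩ := exists_zpow_on_support (hcyc _ hc1).1 (commute_sq_factor hfac hCz hc1)
      have h5 : (z'.cycleOf x) ^ 5 = 1 := by
        rw [← (hcyc _ hc1).2, ← (hcyc _ hc1).1.orderOf]; exact pow_orderOf_eq_one _
      have h2 := pow_eq_on_support hl 5 x hxc
      rw [← pow_mul, orderOf_zpow_eq h5] at h2
      rw [h2]
      have hn2 : ∀ n : ℕ, (t ^ n) x = x := by
        intro n
        induction n with
        | zero => rfl
        | succ n ih => rw [pow_succ', Perm.mul_apply, ih, htfix x hx]
      rw [← pow_mul, hn2]; rfl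
  have ht3 : t.IsThreeCycle := Perm.isThreeCycle_swap_mul_swap_same hab hac hbc
  refine Equiv.Perm.alternatingGroup_le_of_isPreprimitive_of_isThreeCycle_mem hprim
    ht3.isThreeCycle_sq ?_
  have h' : (t ^ 2) ^ 10 = t * t := by
    rw [← pow_mul, pow_eq_pow_mod (2 * 10)
      (by rw [← ht3.orderOf]; exact pow_orderOf_eq_one t : t ^ 3 = 1), show 2 * 10 % 3 = 2 by norm_num,
      pow_two]
  rw [← h', ← hC10]
  exact pow_mem (mul_mem (inv_mem (mul_mem hB hA)) (mul_mem hA hB)) 10

set_option maxHeartbeats 800000 in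
/-- Without `5` dividing the order there is no such group of degree `13`. -/
theorem thirteen_not_five {G : Subgroup (Perm β)} (hGA : G ≤ alternatingGroup β)
    (h2 : IsMultiplyPretransitive G β 2) (hβ : Fintype.card β = 13)
    {a : Perm β} (ha : a ∈ G) (hac : a.IsCycle) (ha11 : a.support.card = 11)
    (h5 : ¬ 5 ∣ Nat.card G) : False := by
  classical
  haveI : Fact (Nat.Prime 11) := ⟨by norm_num⟩
  haveI : Fact (Nat.Prime 3) := ⟨Nat.prime_three⟩
  haveI : Fact (Nat.Prime 2) := ⟨Nat.prime_two⟩
  haveI : Nontrivial β := Fintype.one_lt_card_iff_nontrivial.1 (by omega)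
  have hap : a ^ 11 = 1 := by rw [← ha11, ← hac.orderOf]; exact pow_orderOf_eq_one a
  have hao : orderOf a = 11 := by rw [hac.orderOf, ha11]
  obtain ⟨f₁, f₂, hf, hfe⟩ := Finset.card_eq_two.1 (show (a.supportᶜ).card = 2 by
    rw [Finset.card_compl, ha11, hβ])
  have hfix : ∀ u, a u = u ↔ u = f₁ ∨ u = f₂ := fun u => by
    have : u ∈ a.supportᶜ ↔ u ∈ ({f₁, f₂} : Finset β) := by rw [hfe]
    simpa using this
  let e : Fin 2 ↪ β := ⟨![f₁, f₂], by
    intro i j hij
    fin_cases i <;> fin_cases j <;> first
      | rfl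
      | exact absurd (show f₁ = f₂ from hij) hf
      | exact absurd (show f₂ = f₁ from hij).symm hf⟩
  set K := stabilizer G e with hKdef
  have hKmem : ∀ g : G, g ∈ K ↔ (g : Perm β) f₁ = f₁ ∧ (g : Perm β) f₂ = f₂ := by
    intro g
    rw [hKdef, mem_stabilizer_iff]
    refine ⟨fun h => ⟨DFunLike.congr_fun h 0, DFunLike.congr_fun h 1⟩, fun h => ?_⟩
    ext i
    fin_cases i
    · exact h.1
    · exact h.2
  have hKidx : K.index = 156 := by
    rw [hKdef, @index_stabilizer_of_transitive G (Fin 2 ↪ β) _ _ e h2, Nat.card_eq_fintype_card,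
      Fintype.card_embedding_eq, Fintype.card_fin, hβ]
    decide
  set a' : G := ⟨a, ha⟩ with ha'
  have haK : a' ∈ K := (hKmem _).2 ⟨(hfix f₁).2 (Or.inl rfl), (hfix f₂).2 (Or.inr rfl)⟩
  have hA : Nat.card (alternatingGroup β) = 3113510400 := by
    rw [nat_card_alternatingGroup, Nat.card_eq_fintype_card, hβ]; decide +kernel
  have hGdvd : Nat.card G ∣ 3113510400 := hA ▸ Subgroup.card_dvd_of_le hGA
  set P := Subgroup.zpowers a' with hPdef
  have hPcard : Nat.card P = 11 := by rw [hPdef, Nat.card_zpowers, ← Subgroup.orderOf_coe, ha', hao]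
  have hPK : P ≤ K := Subgroup.zpowers_le.2 haK
  have hpow11 : ¬ 11 ^ 2 ∣ Nat.card G := fun h => by
    have := h.trans hGdvd
    norm_num at this
  -- centralizing elements
  have hcentP : ∀ g : G, g ∈ K → Commute (g : Perm β) a → g ∈ P := by
    intro g hg hc
    obtain ⟨k, hk⟩ := exists_zpow_on_support hac hc
    refine Subgroup.mem_zpowers_iff.2 ⟨k, Subtype.ext (Equiv.ext fun u => ?_)⟩
    rw [Subgroup.coe_zpow, ha']
    show (a ^ k) u = (g : Perm β) u
    by_cases hu : a u = u
    · rw [Perm.zpow_apply_eq_self_of_apply_eq_self hu]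
      rcases (hfix u).1 hu with rfl | rfl
      · exact ((hKmem g).1 hg).1.symm
      · exact ((hKmem g).1 hg).2.symm
    · exact (hk u hu).symm
  -- the normalizer of `P` in `K`
  have hNK : ∀ g : G, g ∈ K → g ∈ Subgroup.normalizer (P : Set G) → g ∈ P := by
    intro g hg hgN
    set C := Subgroup.centralizer (P : Set G)
    set N := Subgroup.normalizer (P : Set G)
    set M := K ⊓ N
    have hrel : C.relIndex M ∣ 10 := by
      have h1 := CfsgLib.Perm.SylowNumber.relIndex_centralizer_dvd (q := 11) P hPcard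
      haveI : (C.subgroupOf N).Normal := by
        show ((Subgroup.centralizer (P : Set G)).subgroupOf _).Normal
        rw [← Subgroup.normalizerMonoidHom_ker]; infer_instance
      refine Dvd.dvd.trans ?_ h1
      have h2 := Subgroup.relIndex_dvd_index_of_normal (C.subgroupOf N) (M.subgroupOf N)
      rw [Subgroup.relIndex_subgroupOf (inf_le_right : M ≤ N)] at h2
      exact h2
    have hrel' : C.relIndex M ∣ Nat.card G :=
      (Subgroup.index_dvd_card _).trans M.card_subgroup_dvd_card
    have hcases : C.relIndex M = 1 ∨ C.relIndex M = 2 := by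
      have h1 := Nat.mem_divisors.2 ⟨hrel, by norm_num⟩
      rw [show Nat.divisors 10 = {1, 2, 5, 10} by decide] at h1
      simp only [Finset.mem_insert, Finset.mem_singleton] at h1
      rcases h1 with h | h | h | h
      · exact Or.inl h
      · exact Or.inr h
      · exact absurd (h ▸ hrel') h5
      · exact absurd ((show 5 ∣ 10 by norm_num).trans (h ▸ hrel')) h5
    have hCM : C ⊓ M ≤ P := fun x hx => hcentP x hx.2.1
      (congrArg Subtype.val (Subgroup.mem_centralizer_iff.1 hx.1 a' (Subgroup.mem_zpowers _))).symm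
    rcases hcases with h | h
    · exact hCM ⟨Subgroup.relIndex_eq_one.1 h ⟨hg, hgN⟩, hg, hgN⟩
    -- an involution inverting `a`
    exfalso
    have h2M : 2 ∣ Nat.card M := h ▸ (C.subgroupOf M).index_dvd_card
    obtain ⟨⟨k, hkK, hkN⟩, hko⟩ := exists_prime_orderOf_dvd_card' (G := M) 2 h2M
    have hk2 : orderOf k = 2 := by rwa [← Subgroup.orderOf_coe] at hko
    have hkC : ¬ Commute (k : Perm β) a := fun hc => by
      have h1 : orderOf (⟨k, hcentP k hkK hc⟩ : P) ∣ 11 := hPcard ▸ orderOf_dvd_natCard _
      rw [← Subgroup.orderOf_coe, hk2] at h1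
      norm_num at h1
    obtain ⟨m, hm⟩ : ∃ m : ℤ, (k : Perm β) * a * (k : Perm β)⁻¹ = a ^ m := by
      obtain ⟨m, hm⟩ := Subgroup.mem_zpowers_iff.1
        ((Subgroup.mem_normalizer_iff.1 hkN a').1 (Subgroup.mem_zpowers _))
      exact ⟨m, (congrArg Subtype.val hm).symm.trans (by rw [Subgroup.coe_zpow])⟩
    set k' : Perm β := (k : Perm β) with hk'
    have hkk : k' * k' = 1 := by
      have := pow_orderOf_eq_one k
      rw [hk2, pow_two] at this
      exact congrArg Subtype.val this
    have hinv : k' * a * k'⁻¹ = a⁻¹ := by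
      have h1 : a ^ (m * m) = a := by
        rw [zpow_mul, ← hm, ← MulAut.conj_apply, ← map_zpow, ← hm, MulAut.conj_apply]
        calc k' * (k' * a * k'⁻¹) * k'⁻¹ = (k' * k') * a * (k' * k')⁻¹ := by group
          _ = a := by rw [hkk]; group
      have h2 : (11 : ℤ) ∣ (m - 1) * (m + 1) := by
        rw [show (m - 1) * (m + 1) = m * m - 1 by ring]
        have h3 : a ^ (m * m - 1) = 1 := by rw [zpow_sub, h1, zpow_one, mul_inv_cancel]
        have h4 := orderOf_dvd_iff_zpow_eq_one.2 h3
        rw [hao] at h4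
        exact_mod_cast h4
      rcases (Int.Prime.dvd_mul' (by norm_num : Nat.Prime 11) (by exact_mod_cast h2)) with hd | hd
      · refine absurd (mul_inv_eq_iff_eq_mul.1 ?_) hkC
        have h9 : a ^ (m - 1) = 1 := orderOf_dvd_iff_zpow_eq_one.1 (by rw [hao]; exact_mod_cast hd)
        rw [hm, ← sub_add_cancel m 1, zpow_add, h9, one_mul, zpow_one]
      · have h9 : a ^ (m + 1) = 1 := orderOf_dvd_iff_zpow_eq_one.1 (by rw [hao]; exact_mod_cast hd)
        rw [zpow_add, zpow_one] at h9
        rw [hm]
        exact eq_inv_of_mul_eq_one_left h9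
    have hle : Nat.card {u : β // k' • u = u} ≤ 3 := by
      rw [Nat.card_eq_fintype_card, Fintype.card_subtype]
      refine (Finset.card_le_card_sdiff_add_card (t := {f₁, f₂})).trans ?_
      rw [Finset.card_pair hf]
      refine Nat.add_le_add_right (Finset.card_le_one.2 fun x hx y hy => ?_) 2
      simp only [Finset.mem_sdiff, Finset.mem_filter, Finset.mem_univ, true_and, Finset.mem_insert,
        Finset.mem_singleton, Perm.smul_def] at hx hy
      have hxm : a x ≠ x := fun e => hx.2 ((hfix x).1 e)
      have hym : a y ≠ y := fun e => hy.2 ((hfix y).1 e)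
      obtain ⟨i, hi⟩ := hac.exists_pow_eq hxm hym
      have e1 : (k' * a ^ i * k'⁻¹) (k' x) = k' y := by
        rw [Perm.mul_apply, Perm.mul_apply, Perm.inv_def, Equiv.symm_apply_apply, hi]
      rw [← MulAut.conj_apply, map_pow, MulAut.conj_apply, hinv, hx.1, hy.1, inv_pow,
        Perm.inv_eq_iff_eq, ← hi, ← Perm.mul_apply, ← pow_add] at e1
      by_cases hd : 11 ∣ i
      · obtain ⟨d, rfl⟩ := hd
        rw [pow_mul, hap, one_pow] at hi
        exact hi
      · refine absurd (pow_apply_fix (by norm_num : Nat.Prime 11) hap (j := i + i) (fun h11 => hd ?_)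
          e1.symm) hxm
        omega
    have hge : 2 ≤ Nat.card {u : β // k' • u = u} := by
      haveI : Nontrivial {u : β // k' • u = u} :=
        ⟨⟨f₁, ((hKmem k).1 hkK).1⟩, ⟨f₂, ((hKmem k).1 hkK).2⟩, fun e => hf (congrArg Subtype.val e)⟩
      exact Finite.one_lt_card
    have hpar := CfsgLib.Perm.SylowNumber.card_fix_modEq (α := β) (r := 2) (z := k')
      (by rw [pow_two, hkk])
    rw [Nat.card_eq_fintype_card, hβ] at hpar
    unfold Nat.ModEq at hpar
    have hs := CfsgLib.Perm.SylowNumber.sign_involution k' (by rw [pow_two, hkk])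
    have hFix : Fintype.card (Function.fixedPoints k') = Nat.card {u : β // k' • u = u} :=
      Nat.card_eq_fintype_card.symm.trans rfl
    rw [Perm.mem_alternatingGroup.1 (hGA k.2), hFix, hβ,
      show Nat.card {u : β // k' • u = u} = 3 by omega] at hs
    exact absurd hs (by decide)
  -- hence `K = P`
  have hKP : K = P := by
    let P' : Sylow 11 K := Sylow.ofCard (P.subgroupOf K) (by
      rw [CfsgLib.Solv.card_subgroupOf hPK, hPcard]
      refine (pow_one 11).symm.trans (congrArg (11 ^ ·) (le_antisymm ?_ ?_))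
      · exact ((by norm_num : Nat.Prime 11).pow_dvd_iff_le_factorization Nat.card_pos.ne').1
          (by rw [pow_one, ← hPcard]; exact Subgroup.card_dvd_of_le hPK)
      · by_contra hlt
        exact hpow11 (((pow_dvd_pow 11 (Nat.succ_le_of_lt (not_le.1 hlt))).trans
          (Nat.ordProj_dvd _ _)).trans K.card_subgroup_dvd_card))
    have hnc : Subgroup.normalizer ((P' : Subgroup K) : Set K) ≤
        Subgroup.centralizer ((P' : Subgroup K) : Set K) := by
      intro x hx
      have hxP : (x : G) ∈ P := by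
        refine hNK x x.2 (Subgroup.mem_normalizer_iff.2 fun y => ?_)
        have hP' : ∀ y (hy : y ∈ K), (⟨y, hy⟩ : K) ∈ (P' : Subgroup K) ↔ y ∈ P := fun y hy => by
          rw [Sylow.coe_ofCard, Subgroup.mem_subgroupOf]
        constructor
        · intro hy
          exact (hP' _ _).1 ((Subgroup.mem_normalizer_iff.1 hx ⟨y, hPK hy⟩).1 ((hP' y _).2 hy))
        · intro hy
          have hyK : y ∈ K := by
            have := mul_mem (mul_mem (inv_mem x.2) (hPK hy)) x.2
            rwa [show (x : G)⁻¹ * ((x : G) * y * (x : G)⁻¹) * x = y by group] at this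
          exact (hP' y hyK).1 ((Subgroup.mem_normalizer_iff.1 hx ⟨y, hyK⟩).2 ((hP' _ _).2 hy))
      haveI := isCyclic_of_prime_card hPcard
      refine Subgroup.mem_centralizer_iff.2 fun y hy => Subtype.ext ?_
      have hyP : (y : G) ∈ P := by rwa [SetLike.mem_coe, Sylow.coe_ofCard, Subgroup.mem_subgroupOf] at hy
      exact show (y : G) * x = x * y from
        congrArg Subtype.val (IsCyclic.commGroup.mul_comm (⟨(y : G), hyP⟩ : P) ⟨x, hxP⟩)
    obtain ⟨P₀, M, hMn, hMP⟩ := CfsgLib.Solv.hnpc_of_normalizer_le_centralizer P' hnc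
    have hP₀ : Nat.card (P₀ : Subgroup K) = 11 := by
      rw [P₀.card_eq_multiplicity, ← P'.card_eq_multiplicity, Sylow.coe_ofCard,
        CfsgLib.Solv.card_subgroupOf hPK, hPcard]
    have hM11 : ¬ 11 ∣ Nat.card M := by
      intro hd
      have h1 := hMP.card_mul_card
      rw [hP₀] at h1
      exact hpow11 ((h1 ▸ (pow_two 11 ▸ mul_dvd_mul_right hd 11 : 11 ^ 2 ∣ Nat.card M * 11)).trans
        K.card_subgroup_dvd_card)
    have hMbot : M = ⊥ := by
      rw [Subgroup.eq_bot_iff_forall]
      intro m hm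
      refine Subtype.ext (Subtype.ext (Equiv.ext fun u => ?_))
      show ((m : G) : Perm β) u = u
      by_cases hu : a u = u
      · rcases (hfix u).1 hu with rfl | rfl
        · exact ((hKmem m).1 m.2).1
        · exact ((hKmem m).1 m.2).2
      haveI := hMn
      set O := orbit M u with hO
      set aK : K := ⟨a', haK⟩ with haKdef
      have hsm : ∀ (n : ℕ) (v : β), orbit M ((aK ^ n) • v) = (fun w => (aK ^ n) • w) '' orbit M v := by
        intro n v
        ext w
        constructor
        · rintro ⟨g, rfl⟩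
          refine ⟨(⟨(aK ^ n)⁻¹ * g * aK ^ n, by
            simpa using hMn.conj_mem g g.2 (aK ^ n)⁻¹⟩ : M) • v, mem_orbit _ _, ?_⟩
          show aK ^ n • (((aK ^ n)⁻¹ * g * aK ^ n : K) • v) = (g : K) • aK ^ n • v
          rw [smul_smul, smul_smul]
          congr 1
          group
        · rintro ⟨_, ⟨g, rfl⟩, rfl⟩
          refine ⟨(⟨aK ^ n * g * (aK ^ n)⁻¹, hMn.conj_mem g g.2 _⟩ : M), ?_⟩
          show (aK ^ n * g * (aK ^ n)⁻¹ : K) • aK ^ n • v = aK ^ n • (g : K) • v
          rw [smul_smul, smul_smul]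
          congr 1
          group
      have hmoved : ∀ v ∈ O, a v ≠ v := by
        rintro v ⟨g, rfl⟩ hv
        have h1 : (g : K) • u = g • u := rfl
        rcases (hfix _).1 hv with e | e
        · refine hu ((hfix u).2 (Or.inl ?_))
          have := congrArg (fun w => ((g : K) : K)⁻¹ • w) e
          simp only [← h1, inv_smul_smul] at this
          rw [this]
          exact ((hKmem ((g : K)⁻¹ : K)).1 (g : K)⁻¹.2).1
        · refine hu ((hfix u).2 (Or.inr ?_))
          have := congrArg (fun w => ((g : K) : K)⁻¹ • w) e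
          simp only [← h1, inv_smul_smul] at this
          rw [this]
          exact ((hKmem ((g : K)⁻¹ : K)).1 (g : K)⁻¹.2).2
      by_cases hO1 : O.ncard = 1
      · obtain ⟨w, hw⟩ := Set.ncard_eq_one.1 hO1
        have e1 : (⟨m, hm⟩ : M) • u ∈ O := mem_orbit _ _
        have e2 : u ∈ O := mem_orbit_self u
        rw [hw, Set.mem_singleton_iff] at e1 e2
        exact e1.trans e2.symm
      exfalso
      -- the translates of the orbit
      have hnd : ¬ 11 ∣ O.ncard := fun hd => hM11 (hd.trans (by
        rw [← Nat.card_coe_set_eq, Nat.card_congr (orbitEquivQuotientStabilizer M u)]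
        exact Subgroup.card_quotient_dvd_card _))
      have hpos : 0 < O.ncard := (Set.ncard_pos (Set.toFinite _)).2 ⟨u, mem_orbit_self u⟩
      by_cases hfixO : (fun w => (aK ^ 1) • w) '' O = O
      · have hall : (a.support : Set β) ⊆ O := by
          intro v hv
          obtain ⟨i, rfl⟩ := hac.exists_pow_eq hu (Perm.mem_support.1 hv)
          clear hv
          induction i with
          | zero => exact mem_orbit_self u
          | succ i ih =>
            rw [pow_succ', Perm.mul_apply]
            have h1 : (aK ^ 1) • (a ^ i) u ∈ O := hfixO ▸ Set.mem_image_of_mem _ ih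
            rwa [pow_one] at h1
        have h1 : O = (a.support : Set β) :=
          Set.Subset.antisymm (fun v hv => Perm.mem_support.2 (hmoved v hv)) hall
        exact hnd (by rw [h1, Set.ncard_coe_finset, ha11])
      · have hdisj : ∀ i < 11, ∀ j < 11, i < j →
            Disjoint ((fun w => (aK ^ i) • w) '' O) ((fun w => (aK ^ j) • w) '' O) := by
          intro i hi j hj hij
          rw [← hsm, ← hsm, Set.disjoint_left]
          intro w hw hw'
          have he : orbit M ((aK ^ i) • u) = orbit M ((aK ^ j) • u) :=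
            (orbit_eq_iff.2 hw).symm.trans (orbit_eq_iff.2 hw')
          rw [hsm, hsm] at he
          have hk : (fun w => (aK ^ (j - i)) • w) '' O = O := by
            refine (Set.image_injective.2 (MulAction.injective (aK ^ i))) ?_
            rw [Set.image_image]
            simp only [smul_smul, ← pow_add, Nat.add_sub_cancel' hij.le]
            exact he.symm
          obtain ⟨l, -, hl⟩ := Nat.exists_mul_mod_eq_one_of_coprime
            (((by norm_num : Nat.Prime 11).coprime_iff_not_dvd.2
              (fun hd => by have := Nat.le_of_dvd (by omega) hd; omega : ¬ 11 ∣ j - i)).symm) (by norm_num)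
          have hl' : ∀ l : ℕ, (fun w => (aK ^ ((j - i) * l)) • w) '' O = O := by
            intro l
            induction l with
            | zero => simp
            | succ l ih =>
              conv_rhs => rw [← ih, ← hk]
              rw [Set.image_image, Nat.mul_succ]
              simp only [smul_smul, ← pow_add]
          have h11 : aK ^ 11 = 1 := Subtype.ext (Subtype.ext hap)
          have := hl' l
          rw [pow_eq_pow_mod _ h11, hl] at this
          exact hfixO this
        have hcard : ∀ i, ((fun w => (aK ^ i) • w) '' O).ncard = O.ncard := fun i =>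
          Set.ncard_image_of_injective _ (MulAction.injective _)
        let F : Finset β := (Finset.range 11).biUnion fun i => ((fun w => (aK ^ i) • w) '' O).toFinset
        have hF : F.card = 11 * O.ncard := by
          rw [Finset.card_biUnion]
          · simp [Set.toFinset_card, ← Nat.card_eq_fintype_card, Nat.card_coe_set_eq, hcard]
          · intro i hi j hj hne
            rw [Finset.coe_range, Set.mem_Iio] at hi hj
            simp only [Function.onFun, Set.disjoint_toFinset]
            rcases Nat.lt_or_gt_of_ne hne with h | h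
            · exact hdisj i hi j hj h
            · exact (hdisj j hj i hi h).symm
        have hsub : F ⊆ a.support := by
          intro v hv
          obtain ⟨i, -, hv⟩ := Finset.mem_biUnion.1 hv
          obtain ⟨w, hw, rfl⟩ := Set.mem_toFinset.1 hv
          rw [Perm.mem_support]
          intro e
          refine hmoved w hw ?_
          have e2 : ∀ n : ℕ, (aK ^ n) • w = (a ^ n) w := fun n => by
            induction n with
            | zero => simp
            | succ n ih => rw [pow_succ', mul_smul, ih, pow_succ', Perm.mul_apply]; rfl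
          show a w = w
          have e3 : a ((aK ^ i) • w) = (aK ^ i) • w := e
          rw [e2, ← Perm.mul_apply, ← pow_succ', pow_succ, Perm.mul_apply] at e3
          exact (a ^ i).injective e3
        have := Finset.card_le_card hsub
        rw [hF, ha11] at this
        omega
    have h1 := hMP.card_mul_card
    rw [hMbot, Subgroup.card_bot, one_mul, hP₀] at h1
    exact (Subgroup.eq_of_le_of_card_ge hPK (by rw [hPcard, h1])).symm
  -- a point stabilizer of order 132
  set S := stabilizer G f₁ with hS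
  have hG : Nat.card G = 1716 := by rw [← K.card_mul_index, hKidx, hKP, hPcard]
  haveI : IsPretransitive G β := MulAction.isPretransitive_of_is_two_pretransitive (α := β)
  have hScard : Nat.card S = 132 := by
    have := S.card_mul_index
    rw [hS, index_stabilizer_of_transitive G f₁, Nat.card_eq_fintype_card (α := β), hβ, hG] at this
    rw [hS]; omega
  have hPS : P ≤ S := fun x hx => by
    rw [hS, mem_stabilizer_iff]
    exact ((hKmem x).1 (hPK hx)).1
  let P' : Sylow 11 S := Sylow.ofCard (P.subgroupOf S) (by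
    rw [CfsgLib.Solv.card_subgroupOf hPS, hPcard, hScard,
      show (132 : ℕ) = 11 * 12 by norm_num, Nat.factorization_mul (by norm_num) (by norm_num),
      Finsupp.add_apply, (by norm_num : Nat.Prime 11).factorization_self,
      Nat.factorization_eq_zero_of_not_dvd (by norm_num : ¬ 11 ∣ 12)]; rfl)
  have hpres : ∀ (g : G) (u : β), Commute (g : Perm β) a ∨ (∃ m : ℤ, (g : Perm β) * a * (g : Perm β)⁻¹ = a ^ m) →
      a u = u → a ((g : Perm β) u) = (g : Perm β) u := by
    intro g u hg hu
    obtain ⟨m, hm⟩ : ∃ m : ℤ, (g : Perm β) * a * (g : Perm β)⁻¹ = a ^ m := by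
      rcases hg with h | h
      · exact ⟨1, by rw [h.eq, zpow_one, mul_inv_cancel_right]⟩
      · exact h
    have h1 : (a ^ m) ((g : Perm β) u) = (g : Perm β) u := by
      rw [← hm, Perm.mul_apply, Perm.mul_apply, Perm.inv_def, Equiv.symm_apply_apply, hu]
    by_contra hne
    have hmne : ¬ (11 : ℤ) ∣ m := fun hd => by
      obtain ⟨d, rfl⟩ := hd
      have h2 : a ^ ((11 : ℤ) * d) = 1 := by
        rw [zpow_mul, show (11 : ℤ) = ((11 : ℕ) : ℤ) from rfl, zpow_natCast, hap, one_zpow]
      rw [h2, mul_inv_eq_one] at hm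
      exact hac.ne_one (mul_eq_left.1 hm)
    have hcop : IsCoprime m (11 : ℤ) :=
      ((Int.prime_iff_natAbs_prime.2 (by norm_num : Nat.Prime (11 : ℤ).natAbs)).coprime_iff_not_dvd.2
        hmne).symm
    obtain ⟨x, y, hxy⟩ := hcop
    refine hne ?_
    conv_lhs => rw [← zpow_one a, ← hxy, zpow_add, mul_comm y, zpow_mul a 11 y,
      show (11 : ℤ) = ((11 : ℕ) : ℤ) from rfl, zpow_natCast, hap, one_zpow, mul_one, mul_comm x,
      zpow_mul]
    exact Perm.zpow_apply_eq_self_of_apply_eq_self h1 x
  have hncS : Subgroup.normalizer ((P' : Subgroup S) : Set S) ≤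
      Subgroup.centralizer ((P' : Subgroup S) : Set S) := by
    intro x hx
    have hP' : ∀ y (hy : y ∈ S), (⟨y, hy⟩ : S) ∈ (P' : Subgroup S) ↔ y ∈ P := fun y hy => by
      rw [Sylow.coe_ofCard, Subgroup.mem_subgroupOf]
    have hconj : ∃ m : ℤ, ((x : G) : Perm β) * a * ((x : G) : Perm β)⁻¹ = a ^ m := by
      have h1 := (hP' _ _).1 ((Subgroup.mem_normalizer_iff.1 hx ⟨a', hPS (Subgroup.mem_zpowers _)⟩).1
        ((hP' _ _).2 (Subgroup.mem_zpowers _)))
      obtain ⟨m, hm⟩ := Subgroup.mem_zpowers_iff.1 h1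
      exact ⟨m, (congrArg Subtype.val hm).symm.trans (by rw [Subgroup.coe_zpow])⟩
    have hx1 : ((x : G) : Perm β) f₁ = f₁ := x.2
    have hxK : (x : G) ∈ K := by
      refine (hKmem _).2 ⟨hx1, ?_⟩
      rcases (hfix _).1 (hpres x f₂ (Or.inr hconj) ((hfix f₂).2 (Or.inr rfl))) with e | e
      · exact absurd (((x : G) : Perm β).injective (hx1.trans e.symm)) hf
      · exact e
    rw [hKP] at hxK
    haveI := isCyclic_of_prime_card hPcard
    refine Subgroup.mem_centralizer_iff.2 fun y hy => Subtype.ext ?_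
    have hyP : (y : G) ∈ P := by rwa [SetLike.mem_coe, Sylow.coe_ofCard, Subgroup.mem_subgroupOf] at hy
    exact show (y : G) * x = x * y from
      congrArg Subtype.val (IsCyclic.commGroup.mul_comm (⟨(y : G), hyP⟩ : P) ⟨x, hxK⟩)
  obtain ⟨P₀, M, hMn, hMP⟩ := CfsgLib.Solv.hnpc_of_normalizer_le_centralizer P' hncS
  have hMcard : Nat.card M = 12 := by
    have h1 := hMP.card_mul_card
    rw [P₀.card_eq_multiplicity, ← P'.card_eq_multiplicity, Sylow.coe_ofCard,
      CfsgLib.Solv.card_subgroupOf hPS, hPcard, hScard] at h1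
    omega
  have hT3 : ∀ T : Sylow 3 S, (T : Subgroup S) ≤ M := by
    intro T x hx
    haveI := hMn
    obtain ⟨k, hk⟩ := T.2.exists_card_eq
    rw [← QuotientGroup.eq_one_iff, ← orderOf_eq_one_iff]
    refine Nat.eq_one_of_dvd_coprimes
      (Nat.Coprime.pow_left k ((by norm_num : Nat.Coprime 3 11)))
      ((orderOf_map_dvd (QuotientGroup.mk' M) x).trans (hk ▸ Subgroup.orderOf_dvd_natCard _ hx)) ?_
    have h1 : Nat.card (S ⧸ M) = 11 := by
      rw [← Subgroup.index_eq_card]
      have := M.card_mul_index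
      rw [hMcard, hScard] at this
      omega
    exact h1 ▸ orderOf_dvd_natCard _
  have hn3 : Nat.card (Sylow 3 S) ≤ 4 := by
    have hinj : Function.Injective (fun T : Sylow 3 S => T.subtype (hT3 T)) := fun T T' h => by
      refine Sylow.ext ?_
      have := congrArg (fun U : Sylow 3 M => (U : Subgroup M).map M.subtype) h
      simpa [Sylow.coe_subtype, Subgroup.map_subgroupOf_eq_of_le (hT3 T),
        Subgroup.map_subgroupOf_eq_of_le (hT3 T')] using this
    refine (Nat.card_le_card_of_injective _ hinj).trans ?_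
    obtain ⟨U⟩ : Nonempty (Sylow 3 M) := inferInstance
    have h1 := U.card_dvd_index
    have h2 := (U : Subgroup M).card_mul_index
    rw [U.card_eq_multiplicity, hMcard,
      show (12 : ℕ) = 3 * 4 by norm_num, Nat.factorization_mul (by norm_num) (by norm_num),
      Finsupp.add_apply, Nat.prime_three.factorization_self,
      Nat.factorization_eq_zero_of_not_dvd (by norm_num : ¬ 3 ∣ 4)] at h2
    norm_num at h2
    exact Nat.le_of_dvd (by norm_num) ((show (U : Subgroup M).index = 4 by omega) ▸ h1)
  -- `a` normalizes, hence centralizes, one of them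
  set aS : S := ⟨a', hPS (Subgroup.mem_zpowers _)⟩ with haS
  have hmod := CfsgLib.Perm.SylowNumber.card_fix_modEq (α := Sylow 3 S) (r := 11) (z := aS)
    (Subtype.ext (Subtype.ext hap))
  have hle : Nat.card {T : Sylow 3 S // aS • T = T} ≤ Nat.card (Sylow 3 S) :=
    Nat.card_le_card_of_injective _ Subtype.val_injective
  have hpos : 0 < Nat.card (Sylow 3 S) := Nat.card_pos
  unfold Nat.ModEq at hmod
  obtain ⟨⟨T, hT⟩⟩ := (Nat.card_pos_iff.1
    (show 0 < Nat.card {T : Sylow 3 S // aS • T = T} by omega)).1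
  have hTcard : Nat.card (T : Subgroup S) = 3 := by
    rw [T.card_eq_multiplicity, hScard, show (132 : ℕ) = 3 * 44 by norm_num,
      Nat.factorization_mul (by norm_num) (by norm_num), Finsupp.add_apply,
      Nat.prime_three.factorization_self,
      Nat.factorization_eq_zero_of_not_dvd (by norm_num : ¬ 3 ∣ 44)]
    rfl
  set CT := (Subgroup.centralizer ((T : Subgroup S) : Set S)).subgroupOf
    (Subgroup.normalizer ((T : Subgroup S) : Set S)) with hCT
  haveI : CT.Normal := by
    show ((Subgroup.centralizer ((T : Subgroup S) : Set S)).subgroupOf _).Normal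
    rw [← Subgroup.normalizerMonoidHom_ker]; infer_instance
  have hrel2 := CfsgLib.Perm.SylowNumber.relIndex_centralizer_dvd (q := 3) (T : Subgroup S) hTcard
  set aN : Subgroup.normalizer ((T : Subgroup S) : Set S) :=
    ⟨aS, Sylow.smul_eq_iff_mem_normalizer.1 hT⟩
  have hq : (aN : Subgroup.normalizer ((T : Subgroup S) : Set S) ⧸ CT) = 1 := by
    rw [← orderOf_eq_one_iff, ← Nat.dvd_one, ← show Nat.gcd 11 2 = 1 by decide]
    exact Nat.dvd_gcd ((orderOf_map_dvd (QuotientGroup.mk' CT) _).trans
      (orderOf_dvd_of_pow_eq_one (Subtype.ext (Subtype.ext (Subtype.ext hap)))))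
      ((orderOf_dvd_natCard _).trans hrel2)
  have haC : aS ∈ Subgroup.centralizer ((T : Subgroup S) : Set S) :=
    Subgroup.mem_subgroupOf.1 ((QuotientGroup.eq_one_iff aN).1 hq)
  haveI : Nontrivial (T : Subgroup S) :=
    Finite.one_lt_card_iff_nontrivial.1 (by rw [hTcard]; norm_num)
  obtain ⟨⟨t, ht⟩, ht1⟩ := exists_ne (1 : (T : Subgroup S))
  have htc : Commute ((t : G) : Perm β) a :=
    congrArg (fun s : S => ((s : G) : Perm β)) (Subgroup.mem_centralizer_iff.1 haC t ht)
  have ht1' : ((t : G) : Perm β) f₁ = f₁ := t.2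
  have htK : (t : G) ∈ K := by
    refine (hKmem _).2 ⟨ht1', ?_⟩
    rcases (hfix _).1 (hpres t f₂ (Or.inl htc) ((hfix f₂).2 (Or.inr rfl))) with e | e
    · exact absurd (((t : G) : Perm β).injective (ht1'.trans e.symm)) hf
    · exact e
  rw [hKP] at htK
  have h11 : orderOf t ∣ 11 := by
    rw [← Subgroup.orderOf_coe]
    exact hPcard ▸ Subgroup.orderOf_dvd_natCard _ htK
  have h3 : orderOf t ∣ 3 := hTcard ▸ Subgroup.orderOf_dvd_natCard _ ht
  exact ht1 (Subtype.ext (orderOf_eq_one_iff.1 (Nat.dvd_one.1 (Nat.dvd_gcd h11 h3))))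

/-- The generated group, in all the cases needed. -/
theorem core {a b : Perm β} {p q : ℕ} (hp : p.Prime) (hq : q.Prime) (hpq : p < q)
    (hao : orderOf a = p) (hbc : b.IsCycle) (hbq : b.support.card = q)
    (hsa : Perm.sign a = 1) (hsb : Perm.sign b = 1) (hmov : ∀ z, a z ≠ z ∨ b z ≠ z)
    (hd1 : Fintype.card β < p + q) (hd5 : 5 ≤ Fintype.card β)
    (hcase : (a.IsCycle ∧ a.support.card = p ∧
        (p = 3 ∨ p + 3 ≤ Fintype.card β ∨ (p = 5 ∧ q = 7 ∧ Fintype.card β = 7) ∨
          (p = 11 ∧ q = 13 ∧ Fintype.card β = 13))) ∨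
      q + 3 ≤ Fintype.card β ∨ (p = 3 ∧ q = 5 ∧ Fintype.card β = 6)) :
    GenAlt (Subgroup.closure ({a, b} : Set (Perm β))) := by
  set G := Subgroup.closure ({a, b} : Set (Perm β)) with hG
  have haG : a ∈ G := Subgroup.subset_closure (Or.inl rfl)
  have hbG : b ∈ G := Subgroup.subset_closure (Or.inr rfl)
  have hap : a ^ p = 1 := hao ▸ pow_orderOf_eq_one a
  have hGA : G ≤ alternatingGroup β := by
    rw [hG, Subgroup.closure_le]
    rintro z (rfl | rfl)
    · exact Perm.mem_alternatingGroup.2 hsa
    · exact Perm.mem_alternatingGroup.2 hsb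
  haveI := pretransitive haG hbG hp hap hbc hbq hmov hd1
  have hprim := preprimitive (G := G) hbG hq hbc hbq (by omega)
  rcases hcase with ⟨hac, hap', h⟩ | h | ⟨h1, h2, h3⟩
  · rcases h with rfl | h | ⟨rfl, rfl, h⟩ | ⟨rfl, rfl, h⟩
    · exact genAlt_of_ge hGA (Perm.alternatingGroup_le_of_isPreprimitive_of_isThreeCycle_mem hprim
        (card_support_eq_three_iff.1 hap') haG) hd5
    · exact genAlt_of_ge hGA (alternatingGroup_le_of_prime_cycle G hprim hp h hac hap' haG) hd5
    · exact seven hGA hprim hG.symm hac hap' hbc hbq h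
    · have h3 : IsMultiplyPretransitive G β 3 :=
        multi hprim hp hac hap' haG (show 0 < 2 by norm_num) (by omega)
      by_cases h5 : 5 ∣ Nat.card G
      · exact genAlt_of_ge hGA (thirteen_five hprim h3 h h5) hd5
      · refine (thirteen_not_five hGA ?_ h haG hac hap' h5).elim
        exact isMultiplyPretransitive_of_le' (n := 3) (by norm_num)
          (by rw [ENat.card_eq_coe_fintype_card, h]; norm_num)
  · exact genAlt_of_ge hGA (alternatingGroup_le_of_prime_cycle G hprim hq h hbc hbq hbG) hd5
  · subst h1 h2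
    exact six hGA hprim hG.symm hap (fun e => by rw [e, orderOf_one] at hao; norm_num at hao) hbc hbq h3

/-- Passing to the union of the supports. -/
theorem generated (m p q : ℕ) (hp : p.Prime) (hq : q.Prime) (hpq : p < q) (hqm : q ≤ m)
    (hmp : m ≤ 2 * p) (hm5 : 5 ≤ m) (hq5 : 5 ≤ q)
    (hgood : ∀ d, q ≤ d → d ≤ m →
      p = 3 ∨ p + 3 ≤ d ∨ (p = 5 ∧ q = 7 ∧ d = 7) ∨ (p = 11 ∧ q = 13 ∧ d = 13))
    (hdouble : m = 2 * p → q + 3 ≤ m ∨ (p = 3 ∧ q = 5 ∧ m = 6))
    (x y : alternatingGroup (Fin m)) (hx : orderOf x = p) (hy : orderOf y = q) :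
    ∃ d : ℕ, 5 ≤ d ∧
      Nonempty (Subgroup.closure ({x, y} : Set (alternatingGroup (Fin m))) ≃* alternatingGroup (Fin d)) := by
  classical
  set x' : Perm (Fin m) := (x : Perm (Fin m)) with hx'
  set y' : Perm (Fin m) := (y : Perm (Fin m)) with hy'
  have hxo : orderOf x' = p := by rw [hx', Subgroup.orderOf_coe, hx]
  have hyo : orderOf y' = q := by rw [hy', Subgroup.orderOf_coe, hy]
  have hyc : y'.IsCycle := Perm.isCycle_of_prime_order' (by rw [hyo]; exact hq)
    (by rw [hyo, Fintype.card_fin]; omega)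
  have hys : y'.support.card = q := by rw [← hyc.orderOf, hyo]
  obtain ⟨k, hk⟩ := Perm.cycleType_prime_order (σ := x') (by rw [hxo]; exact hp)
  have hxs : x'.support.card = (k + 1) * p := by
    have hsum := Perm.sum_cycleType x'
    rw [hk, Multiset.sum_replicate, smul_eq_mul, hxo] at hsum
    exact hsum.symm
  set U : Finset (Fin m) := x'.support ∪ y'.support with hU
  have hUm : U.card ≤ m := (Finset.card_le_univ U).trans_eq (Fintype.card_fin m)
  have hxU : x'.support.card ≤ U.card := Finset.card_le_card Finset.subset_union_left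
  have hyU : y'.support.card ≤ U.card := Finset.card_le_card Finset.subset_union_right
  have hpresx : ∀ u, x' u ∈ U ↔ u ∈ U := fun u => by
    by_cases h : x' u = u
    · rw [h]
    · simp only [hU, Finset.mem_union]
      exact iff_of_true (Or.inl (Perm.apply_mem_support.2 (Perm.mem_support.2 h)))
        (Or.inl (Perm.mem_support.2 h))
  have hpresy : ∀ u, y' u ∈ U ↔ u ∈ U := fun u => by
    by_cases h : y' u = u
    · rw [h]
    · simp only [hU, Finset.mem_union]
      exact iff_of_true (Or.inr (Perm.apply_mem_support.2 (Perm.mem_support.2 h)))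
        (Or.inr (Perm.mem_support.2 h))
  set a : Perm U := x'.subtypePerm (p := fun u => u ∈ U) hpresx with ha
  set b : Perm U := y'.subtypePerm (p := fun u => u ∈ U) hpresy with hb
  have hax : Perm.ofSubtype a = x' := Perm.ofSubtype_subtypePerm hpresx fun u hu =>
    Finset.mem_union_left _ (Perm.mem_support.2 hu)
  have hby : Perm.ofSubtype b = y' := Perm.ofSubtype_subtypePerm hpresy fun u hu =>
    Finset.mem_union_right _ (Perm.mem_support.2 hu)
  have hao : orderOf a = p := by
    rw [← hxo, ← hax, orderOf_injective _ Perm.ofSubtype_injective]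
  have hbo : orderOf b = q := by
    rw [← hyo, ← hby, orderOf_injective _ Perm.ofSubtype_injective]
  have hsa : Perm.sign a = 1 := by
    rw [← Perm.sign_ofSubtype a, hax]; exact Perm.mem_alternatingGroup.1 x.2
  have hsb : Perm.sign b = 1 := by
    rw [← Perm.sign_ofSubtype b, hby]; exact Perm.mem_alternatingGroup.1 y.2
  have hmov : ∀ z : U, a z ≠ z ∨ b z ≠ z := fun z => by
    rcases Finset.mem_union.1 z.2 with h | h
    · exact Or.inl fun e => Perm.mem_support.1 h (congrArg Subtype.val e)
    · exact Or.inr fun e => Perm.mem_support.1 h (congrArg Subtype.val e)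
  have hsupp : ∀ c : Perm U, c.support.card = (Perm.ofSubtype c).support.card := fun c => by
    rw [Perm.support_ofSubtype, Finset.card_map]
    convert rfl
  have hbc : b.IsCycle := Perm.isCycle_of_prime_order' (by rw [hbo]; exact hq)
    (by rw [hbo, Fintype.card_coe]; omega)
  have hcase : (a.IsCycle ∧ a.support.card = p ∧
        (p = 3 ∨ p + 3 ≤ Fintype.card U ∨ (p = 5 ∧ q = 7 ∧ Fintype.card U = 7) ∨
          (p = 11 ∧ q = 13 ∧ Fintype.card U = 13))) ∨
      q + 3 ≤ Fintype.card U ∨ (p = 3 ∧ q = 5 ∧ Fintype.card U = 6) := by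
    rw [Fintype.card_coe]
    rcases (show k = 0 ∨ 1 ≤ k by omega) with rfl | hk1
    · refine Or.inl ⟨?_, ?_, hgood _ (by omega) hUm⟩
      · rw [zero_add, one_mul] at hxs
        refine Perm.isCycle_of_prime_order (by rw [hao]; exact hp) ?_
        rw [hsupp, hax, hao, hxs]
        have := hp.pos
        omega
      · rw [hsupp, hax, hxs, zero_add, one_mul]
    · have h2 : 2 * p ≤ (k + 1) * p := Nat.mul_le_mul_right p (by omega)
      have hUcard : U.card = m := by omega
      rw [hUcard]
      exact Or.inr (hdouble (by omega))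
  obtain ⟨d, hd, ⟨e⟩⟩ := core hp hq hpq hao hbc (by rw [hsupp, hby, hys]) hsa hsb hmov
    (by rw [Fintype.card_coe]; omega) (by rw [Fintype.card_coe]; omega) hcase
  have himg : (Subgroup.closure ({x, y} : Set (alternatingGroup (Fin m)))).map
      (alternatingGroup (Fin m)).subtype =
      (Subgroup.closure ({a, b} : Set (Perm U))).map Perm.ofSubtype := by
    rw [MonoidHom.map_closure, MonoidHom.map_closure, Set.image_pair, Set.image_pair, hax, hby]
    rfl
  exact ⟨d, hd, ⟨((Subgroup.closure ({x, y} : Set _)).equivMapOfInjective _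
    (alternatingGroup (Fin m)).subtype_injective).trans ((MulEquiv.subgroupCongr himg).trans
      (((Subgroup.closure ({a, b} : Set (Perm U))).equivMapOfInjective _
        Perm.ofSubtype_injective).symm.trans e))⟩⟩

/-- Let m ≥ 5. Then there are primes p < q with m/2 ≤ p and q ≤ m such that any two elements x, y of the alternating group of degree m with x of order p and y of order q generate a subgroup isomorphic to an alternating group of some degree d ≥ 5. -/
theorem result (m : ℕ) (hm : 5 ≤ m) :
    ∃ p q : ℕ, p.Prime ∧ q.Prime ∧ m ≤ 2 * p ∧ p < q ∧ q ≤ m ∧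
      ∀ x y : alternatingGroup (Fin m), orderOf x = p → orderOf y = q →
        ∃ d : ℕ, 5 ≤ d ∧ Nonempty (Subgroup.closure ({x, y} : Set (alternatingGroup (Fin m))) ≃* alternatingGroup (Fin d)) := by
  have mk : ∀ p q : ℕ, p.Prime → q.Prime → p < q → q ≤ m → m ≤ 2 * p → 5 ≤ q →
      (∀ d, q ≤ d → d ≤ m →
        p = 3 ∨ p + 3 ≤ d ∨ (p = 5 ∧ q = 7 ∧ d = 7) ∨ (p = 11 ∧ q = 13 ∧ d = 13)) →
      (m = 2 * p → q + 3 ≤ m ∨ (p = 3 ∧ q = 5 ∧ m = 6)) →
      ∃ p q : ℕ, p.Prime ∧ q.Prime ∧ m ≤ 2 * p ∧ p < q ∧ q ≤ m ∧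
        ∀ x y : alternatingGroup (Fin m), orderOf x = p → orderOf y = q →
          ∃ d : ℕ, 5 ≤ d ∧ Nonempty (Subgroup.closure ({x, y} : Set (alternatingGroup (Fin m))) ≃* alternatingGroup (Fin d)) :=
    fun p q hp hq hpq hqm hmp hq5 hgood hdouble => ⟨p, q, hp, hq, hmp, hpq, hqm,
      fun x y hx hy => generated m p q hp hq hpq hqm hmp hm hq5 hgood hdouble x y hx hy⟩
  rcases (show m ≤ 6 ∨ (7 ≤ m ∧ m ≤ 10) ∨ (11 ≤ m ∧ m ≤ 14) ∨ (15 ≤ m ∧ m ≤ 16) ∨ 17 ≤ m by omega)
    with h | h | h | h | h
  · exact mk 3 5 (by norm_num) (by norm_num) (by norm_num) hm (by omega) le_rfl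
      (fun d _ _ => Or.inl rfl) (fun _ => Or.inr ⟨rfl, rfl, by omega⟩)
  · exact mk 5 7 (by norm_num) (by norm_num) (by norm_num) (by omega) (by omega) (by norm_num)
      (fun d _ _ => by omega) (fun _ => Or.inl (by omega))
  · exact mk 7 11 (by norm_num) (by norm_num) (by norm_num) (by omega) (by omega) (by norm_num)
      (fun d _ _ => by omega) (fun _ => Or.inl (by omega))
  · exact mk 11 13 (by norm_num) (by norm_num) (by norm_num) (by omega) (by omega) (by norm_num)
      (fun d _ _ => by omega) (fun _ => by omega)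
  · obtain ⟨p, q, hp, hq, h1, h2, h3⟩ := CfsgLib.Perm.PrimePairs.exists_pair m h
    exact mk p q hp hq (by omega) h3 (by omega) (by omega) (fun d _ _ => by omega) (fun _ => by omega)

end Cfsg.Agent.S4150
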