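import Cfsg.Statements.S4153


set_option autoImplicit false
set_option linter.style.haveILetI false
open Cfsg

namespace Cfsg.Agent.S4153

/-- Let G be a finite group, p a prime, N a normal subgroup, P a Sylow p-subgroup of G and P̄ a Sylow p-subgroup of G/N. Count the elements of p-power order, the identity included. Then (number of such elements of G/N)/#P̄ ≤ (number of such elements of G)/#P, stated as a cross-multiplied inequality, with equality when N is central. -/
theorem result {G : Type*} [Group G] [Finite G] (p : ℕ) [Fact p.Prime] (N : Subgroup G) [N.Normal]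
    (P : Sylow p G) (Pbar : Sylow p (G ⧸ N)) :
    Nat.card {g : (G ⧸ N) // ∃ k : ℕ, orderOf g = p ^ k} * Nat.card (P : Subgroup G) ≤ Nat.card {g : G // ∃ k : ℕ, orderOf g = p ^ k} * Nat.card (Pbar : Subgroup (G ⧸ N)) ∧
    (N ≤ Subgroup.center G → Nat.card {g : (G ⧸ N) // ∃ k : ℕ, orderOf g = p ^ k} * Nat.card (P : Subgroup G) = Nat.card {g : G // ∃ k : ℕ, orderOf g = p ^ k} * Nat.card (Pbar : Subgroup (G ⧸ N))) := by
  classical
  have hmap : ∀ Q : Sylow p G, Nat.card ((Q : Subgroup G).map (QuotientGroup.mk' N)) = Nat.card Pbar ∧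
      Nat.card ↥(N ⊓ (Q : Subgroup G)) * Nat.card Pbar = Nat.card P := by
    intro Q
    have h0 : Nat.card ((Q : Subgroup G).map (QuotientGroup.mk' N)) = Nat.card Pbar := by
      show Nat.card ↥((Q.mapSurjective (QuotientGroup.mk'_surjective N) : Sylow p (G ⧸ N)) : Subgroup (G ⧸ N)) = _
      exact Nat.card_congr ((Q.mapSurjective (QuotientGroup.mk'_surjective N)).equiv Pbar).toEquiv
    refine ⟨h0, ?_⟩
    rw [← h0, ← Subgroup.relIndex_ker, QuotientGroup.ker_mk', ← Subgroup.inf_relIndex_right N (Q : Subgroup G),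
      ← Subgroup.relIndex_bot_left, ← Subgroup.relIndex_bot_left, Subgroup.relIndex_mul_relIndex _ _ _ bot_le inf_le_right,
      Subgroup.relIndex_bot_left, Subgroup.relIndex_bot_left]
    exact Nat.card_congr (Q.equiv P).toEquiv
  set T := {g : G // ∃ k : ℕ, orderOf g = p ^ k}
  set T' := {g : (G ⧸ N) // ∃ k : ℕ, orderOf g = p ^ k}
  have hlift : ∀ y : T', ∃ (Q : Sylow p G) (x : G), x ∈ Q ∧ QuotientGroup.mk' N x = y := by
    intro y
    obtain ⟨k, hk⟩ := y.2
    have hy : IsPGroup p ↥(Subgroup.zpowers (y : G ⧸ N)) := IsPGroup.of_card (n := k) (by rw [Nat.card_zpowers, hk])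
    obtain ⟨R, hR⟩ := hy.exists_le_sylow
    obtain ⟨Q₀⟩ : Nonempty (Sylow p G) := inferInstance
    obtain ⟨c, hc⟩ := MulAction.exists_smul_eq (G ⧸ N) (Q₀.mapSurjective (QuotientGroup.mk'_surjective N)) R
    obtain ⟨c, rfl⟩ := QuotientGroup.mk'_surjective N c
    have hmem := hR (Subgroup.mem_zpowers (y : G ⧸ N))
    rw [← hc, Sylow.coe_subgroup_smul] at hmem
    obtain ⟨_, ⟨z, hz, rfl⟩, e⟩ := hmem
    refine ⟨c • Q₀, c * z * c⁻¹, ?_, ?_⟩
    · show c * z * c⁻¹ ∈ ((c • Q₀ : Sylow p G) : Subgroup G)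
      rw [Sylow.coe_subgroup_smul]; exact ⟨z, hz, rfl⟩
    · rw [← e, map_mul, map_mul, map_inv]; rfl
  choose Q x hx hxy using hlift
  let c := Nat.card ↥(N ⊓ (P : Subgroup G))
  have hc : ∀ R : Sylow p G, Nat.card ↥(N ⊓ (R : Subgroup G)) = c := fun R =>
    Nat.eq_of_mul_eq_mul_right Nat.card_pos ((hmap R).2.trans (hmap P).2.symm)
  let F : (Σ y : T', ↥(N ⊓ (Q y : Subgroup G))) → T := fun z => ⟨x z.1 * z.2, by
    obtain ⟨n, hn⟩ := IsPGroup.iff_card.1 (Q z.1).2
    obtain ⟨k, -, hk⟩ := (Nat.dvd_prime_pow (Fact.out : p.Prime)).1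
      (hn ▸ Subgroup.orderOf_dvd_natCard _ ((Q z.1 : Subgroup G).mul_mem (hx z.1) z.2.2.2))
    exact ⟨k, hk⟩⟩
  have hF : Function.Injective F := by
    rintro ⟨y, n⟩ ⟨y', n'⟩ e
    have e' : x y * n = x y' * n' := congrArg Subtype.val e
    have h1 := congrArg (QuotientGroup.mk' N) e'
    rw [map_mul, map_mul, hxy, hxy, show QuotientGroup.mk' N (n : G) = 1 from (QuotientGroup.eq_one_iff _).2 n.2.1,
      show QuotientGroup.mk' N (n' : G) = 1 from (QuotientGroup.eq_one_iff _).2 n'.2.1, mul_one, mul_one] at h1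
    obtain rfl := Subtype.ext h1
    rw [mul_right_inj] at e'
    obtain rfl := Subtype.ext e'
    rfl
  haveI : Fintype T' := Fintype.ofFinite _
  have hcard : Nat.card (Σ y : T', ↥(N ⊓ (Q y : Subgroup G))) = Nat.card T' * c := by
    rw [Nat.card_sigma, Finset.sum_congr rfl fun y _ => hc (Q y), Finset.sum_const, Finset.card_univ, Nat.card_eq_fintype_card,
      smul_eq_mul]
  have hPc : Nat.card P = c * Nat.card Pbar := (hmap P).2.symm
  constructor
  · rw [hPc, ← mul_assoc, ← hcard]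
    exact Nat.mul_le_mul_right _ (Nat.card_le_card_of_injective F hF)
  · intro hZ
    have hbij : Function.Bijective F := by
      refine ⟨hF, fun t => ?_⟩
      obtain ⟨k, hk⟩ := t.2
      let y : T' := ⟨QuotientGroup.mk' N t.1, by
        obtain ⟨j, -, hj⟩ := (Nat.dvd_prime_pow (Fact.out : p.Prime)).1 (hk ▸ orderOf_map_dvd (QuotientGroup.mk' N) t.1)
        exact ⟨j, hj⟩⟩
      set n := (x y)⁻¹ * t.1
      have hn : n ∈ N := (QuotientGroup.eq_one_iff n).1 (by
        show QuotientGroup.mk' N ((x y)⁻¹ * t.1) = 1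
        rw [map_mul, map_inv, hxy]; exact inv_mul_cancel _)
      have hcomm : Commute (x y) n := (Subgroup.mem_center_iff.1 (hZ hn) (x y))
      have hnQ : n ∈ (Q y : Subgroup G) := by
        have hnp : IsPGroup p ↥(Subgroup.zpowers n) := by
          obtain ⟨a, ha⟩ := IsPGroup.iff_card.1 (Q y).2
          obtain ⟨i, -, hi⟩ := (Nat.dvd_prime_pow (Fact.out : p.Prime)).1 (ha ▸ Subgroup.orderOf_dvd_natCard _ (hx y))
          have h1 : t.1 = x y * n := by simp [n]
          have h2 : orderOf n ∣ p ^ (max i k) := by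
            refine orderOf_dvd_of_pow_eq_one ?_
            have e1 : (x y) ^ p ^ max i k = 1 := orderOf_dvd_iff_pow_eq_one.1 (hi ▸ pow_dvd_pow p (le_max_left i k))
            have e2 : t.1 ^ p ^ max i k = 1 := orderOf_dvd_iff_pow_eq_one.1 (hk ▸ pow_dvd_pow p (le_max_right i k))
            rw [h1, hcomm.mul_pow, e1, one_mul] at e2
            exact e2
          obtain ⟨j, -, hj⟩ := (Nat.dvd_prime_pow (Fact.out : p.Prime)).1 h2
          exact IsPGroup.of_card (n := j) (by rw [Nat.card_zpowers, hj])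
        have hle : (Q y : Subgroup G) ≤ Subgroup.normalizer ((Subgroup.zpowers n : Subgroup G) : Set G) :=
          le_trans (fun q _ => Subgroup.mem_centralizer_iff.2 fun z hz =>
            (Subgroup.mem_center_iff.1 ((Subgroup.zpowers_le.2 (hZ hn)) hz) q).symm) (Subgroup.centralizer_le_normalizer _)
        have := (Q y).3 (hnp.to_sup_of_normal_left' (Q y).2 hle) le_sup_right
        exact this ▸ Subgroup.mem_sup_left (Subgroup.mem_zpowers n)
      exact ⟨⟨y, ⟨n, hn, hnQ⟩⟩, Subtype.ext (by show x y * n = t.1; simp [n])⟩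
    rw [hPc, ← mul_assoc, ← hcard]
    congr 1
    exact Nat.card_congr (Equiv.ofBijective F hbij)

end Cfsg.Agent.S4153
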