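import Cfsg.Statements.S4154


set_option autoImplicit false
set_option linter.style.haveILetI false
open Cfsg

namespace Cfsg.Agent.S4154

/-- Let G be a finite group and α an automorphism of G such that every element of G is the product of an element fixed by α and an element of the form g⁻¹α(g). If N is a normal α-invariant subgroup, then the automorphism ᾱ induced on G/N has the same property, and every coset fixed by ᾱ contains an element fixed by α (so the fixed points of ᾱ are the images of the fixed points of α). -/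
theorem result {G : Type*} [Group G] [Finite G] (α : MulAut G)
    (hccp : ∀ x : G, ∃ c g : G, α c = c ∧ x = c * (g⁻¹ * α g))
    (N : Subgroup G) [N.Normal] (hN : ∀ n ∈ N, α n ∈ N) :
    (∀ x : G, ∃ c g : G, c⁻¹ * α c ∈ N ∧ x⁻¹ * (c * (g⁻¹ * α g)) ∈ N) ∧
    (∀ x : G, x⁻¹ * α x ∈ N → ∃ c : G, α c = c ∧ c⁻¹ * x ∈ N) := by
  classical
  refine ⟨fun x => ?_, fun x hx => ?_⟩
  · obtain ⟨c, g, hc, e⟩ := hccp x
    exact ⟨c, g, by rw [hc, inv_mul_cancel]; exact N.one_mem, by rw [← e, inv_mul_cancel]; exact N.one_mem⟩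
  -- counting inside the quotient
  have hmapN : N.map α.toMonoidHom = N := Subgroup.eq_of_le_of_card_ge
    (fun y ⟨n, hn, e⟩ => e ▸ hN n hn) (by rw [Subgroup.card_map_of_injective (f := α.toMonoidHom) α.injective])
  let β : G ⧸ N ≃* G ⧸ N := QuotientGroup.congr N N α hmapN
  have hβ : ∀ y : G, β (QuotientGroup.mk y) = QuotientGroup.mk (α y) := fun y => QuotientGroup.congr_mk N N α hmapN y
  let A : Subgroup (G ⧸ N) := MonoidHom.eqLocus β.toMonoidHom (MonoidHom.id _)
  let C : Subgroup G := MonoidHom.eqLocus α.toMonoidHom (MonoidHom.id _)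
  let B : Subgroup (G ⧸ N) := C.map (QuotientGroup.mk' N)
  have hBA : B ≤ A := by
    rintro _ ⟨c, hc, rfl⟩
    show β (QuotientGroup.mk c) = QuotientGroup.mk c
    rw [hβ]; exact congrArg _ hc
  let s : (G ⧸ N) ⧸ A → G ⧸ N := Quotient.lift (fun u => u * β u⁻¹) fun u v huv => by
    have huv' : β (u⁻¹ * v) = u⁻¹ * v := QuotientGroup.leftRel_apply.1 huv
    show u * β u⁻¹ = v * β v⁻¹
    calc u * β u⁻¹ = u * (β (u⁻¹ * v) * β v⁻¹) := by rw [← map_mul, mul_inv_cancel_right]
      _ = v * β v⁻¹ := by rw [huv']; group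
  have hsurj : Function.Surjective (fun z : B × ((G ⧸ N) ⧸ A) => (z.1 : G ⧸ N) * s z.2) := by
    intro z
    obtain ⟨y, rfl⟩ := QuotientGroup.mk_surjective z
    obtain ⟨c, g, hc, e⟩ := hccp y
    refine ⟨(⟨QuotientGroup.mk c, ⟨c, hc, rfl⟩⟩, QuotientGroup.mk ((QuotientGroup.mk g⁻¹ : G ⧸ N))), ?_⟩
    show (QuotientGroup.mk c : G ⧸ N) * ((QuotientGroup.mk g⁻¹ : G ⧸ N) * β (QuotientGroup.mk g⁻¹)⁻¹) = _
    rw [← QuotientGroup.mk_inv, inv_inv, hβ, ← QuotientGroup.mk_mul, ← QuotientGroup.mk_mul, ← e]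
  have h1 := Nat.card_le_card_of_surjective _ hsurj
  rw [Nat.card_prod, ← Subgroup.index_eq_card A, ← A.card_mul_index] at h1
  have hAB : A = B := (Subgroup.eq_of_le_of_card_ge hBA
    (Nat.le_of_mul_le_mul_right h1 (Nat.pos_of_ne_zero Subgroup.index_ne_zero_of_finite))).symm
  have hxA : (QuotientGroup.mk x : G ⧸ N) ∈ A := by
    show β (QuotientGroup.mk x) = QuotientGroup.mk x
    rw [hβ, QuotientGroup.eq]
    have := N.inv_mem hx
    rwa [mul_inv_rev, inv_inv] at this
  rw [hAB] at hxA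
  obtain ⟨c, hc, e⟩ := hxA
  exact ⟨c, hc, QuotientGroup.eq.1 e⟩

end Cfsg.Agent.S4154
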