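import Mathlib
-- Template for statement S4155 (row 4155; see /opt/grader/pristine/manifest.json for weights).
-- Copy to Cfsg/Agent/S4155.lean and replace the sorry. The statement below is byte-identical to the frozen
-- statement Cfsg.CfsgFrozen.S4155 (Cfsg/Statements/S4155.lean; the theorem Cfsg.fg7_equal_order_pair_nilpotent_kernel_not_prime_power);
-- the grader kernel-checks Cfsg.Agent.S4155.result against that frozen type. Keep the theorem IN THIS FILE
-- (a `result` declared elsewhere and merely imported here is not credited); helpers may live anywhere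
-- under Cfsg/Agent/.
import Cfsg.Statements.S4155
import Cfsg.Agent.OddLocal.TypeP
import Cfsg.Agent.Solv.UniqueSub
import Cfsg.Agent.Solv.FixedPointFree
import Cfsg.Agent.Solv.Basic


set_option autoImplicit false
open Cfsg

namespace Cfsg.Agent.S4155

/-- Let G be a finite group and N a proper non-trivial normal nilpotent subgroup whose order is not a prime power, such that for every x outside N all elements of the coset xN have the same order as x. Then N is the Fitting subgroup of G, and for every prime q every Sylow q-subgroup of G/N is cyclic or generalized quaternion. -/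
theorem result {G : Type*} [Group G] [Finite G] (N : Subgroup G) [N.Normal] (hN1 : N ≠ ⊥) (hN2 : N ≠ ⊤)
    (heq : ∀ x : G, x ∉ N → ∀ n ∈ N, orderOf (x * n) = orderOf x)
    (hnil : Group.IsNilpotent N) (hnpp : ¬ IsPrimePow (Nat.card N)) :
    N = Cfsg.fittingSubgroup G ∧
    ∀ (q : ℕ) [Fact q.Prime] (Q : Sylow q (G ⧸ N)), IsCyclic (Q : Subgroup (G ⧸ N)) ∨ ∃ n : ℕ, Nonempty ((Q : Subgroup (G ⧸ N)) ≃* QuaternionGroup (2 ^ n)) := by
  classical
  haveI := hnil
  -- a second prime dividing the order of `N`
  have hother : ∀ q : ℕ, ∃ r : ℕ, r.Prime ∧ r ≠ q ∧ r ∣ Nat.card N := by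
    intro q
    by_contra hcon
    push Not at hcon
    have h1 : Nat.card N ≠ 1 := fun h => hN1 (Subgroup.card_eq_one.1 h)
    obtain ⟨r, hr, hrd⟩ := Nat.exists_prime_and_dvd h1
    obtain rfl : r = q := by_contra fun h => hcon r hr h hrd
    refine hnpp ⟨r, (Nat.card N).primeFactorsList.length, hr.prime, List.length_pos_of_mem ((Nat.mem_primeFactorsList Nat.card_pos.ne').2 ⟨hr, hrd⟩), ?_⟩
    exact (Nat.eq_prime_pow_of_unique_prime_dvd Nat.card_pos.ne' fun {d} hd hdd => by_contra fun h => hcon d hd h hdd).symm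
  -- outside `N`, elements of coprime order in `N` are not centralised
  have hfpf : ∀ x : G, x ∉ N → ∀ n ∈ N, (orderOf x).Coprime (orderOf n) → x * n = n * x → n = 1 := by
    intro x hx n hn hcop hc
    have h1 := (show Commute x n from hc).orderOf_mul_eq_mul_orderOf_of_coprime hcop
    rw [heq x hx n hn] at h1
    exact orderOf_eq_one_iff.1 (Nat.eq_of_mul_eq_mul_left (orderOf_pos x) (h1.symm.trans (mul_one _).symm))
  refine ⟨le_antisymm (CfsgLib.Solv.le_fittingSubgroup hnil) ?_, ?_⟩
  · haveI : Group.IsNilpotent (Cfsg.fittingSubgroup G) := CfsgLib.Solv.fittingSubgroup_isNilpotent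
    have hpp : ∀ x ∈ Cfsg.fittingSubgroup G, ∀ q k : ℕ, q.Prime → orderOf x = q ^ k → x ∈ N := by
      intro x hx q k hq hxq
      by_contra hxN
      obtain ⟨r, hr, hrq, hrd⟩ := hother q
      haveI := Fact.mk hr
      obtain ⟨n, hn⟩ := exists_prime_orderOf_dvd_card' (G := N) r hrd
      have hno : orderOf (n : G) = r := by rw [Subgroup.orderOf_coe, hn]
      have hcop : (orderOf x).Coprime (orderOf (n : G)) := by
        rw [hxq, hno]; exact ((Nat.coprime_primes hq hr).2 hrq.symm).pow_left k
      have hnF : (n : G) ∈ Cfsg.fittingSubgroup G := CfsgLib.Solv.le_fittingSubgroup hnil n.2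
      have hc := CfsgLib.OddLocal.commute_of_coprime_nilpotent (a := (⟨x, hx⟩ : Cfsg.fittingSubgroup G))
        (b := ⟨n, hnF⟩) (by rw [Subgroup.orderOf_mk, Subgroup.orderOf_mk]; exact hcop)
      have h1 := hfpf x hxN n n.2 hcop (congrArg Subtype.val hc.eq)
      rw [h1, orderOf_one] at hno
      exact hr.one_lt.ne hno
    intro x hx
    -- split into prime power parts
    have key : ∀ m, ∀ y ∈ Cfsg.fittingSubgroup G, orderOf y = m → y ∈ N := by
      intro m
      induction m using Nat.recOnPrimeCoprime with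
      | zero => intro y _ hy; exact absurd hy (orderOf_pos y).ne'
      | prime_pow q k hq => intro y hyF hy; exact hpp y hyF q k hq hy
      | coprime a b ha hb hab iha ihb =>
        intro y hyF hy
        have ha0 : 0 < a := by omega
        have hb0 : 0 < b := by omega
        have h1 : orderOf (y ^ a) = b := by
          rw [orderOf_pow' _ ha0.ne', hy, Nat.gcd_mul_right_left, Nat.mul_div_cancel_left _ ha0]
        have h2 : orderOf (y ^ b) = a := by
          rw [orderOf_pow' _ hb0.ne', hy, Nat.gcd_mul_left_left, Nat.mul_div_cancel _ hb0]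
        have h3 := N.mul_mem (N.zpow_mem (ihb _ (pow_mem hyF a) h1) (Nat.gcdA a b))
          (N.zpow_mem (iha _ (pow_mem hyF b) h2) (Nat.gcdB a b))
        rwa [← zpow_natCast y a, ← zpow_natCast y b, ← zpow_mul, ← zpow_mul, ← zpow_add,
          ← Nat.gcd_eq_gcd_ab, hab.gcd_eq_one, Nat.cast_one, zpow_one] at h3
    exact key _ x hx rfl
  intro q hq Q
  let π := QuotientGroup.mk' N
  have hπ : Function.Surjective π := QuotientGroup.mk'_surjective N
  obtain ⟨P, rfl⟩ := Sylow.mapSurjective_surjective hπ q Q
  obtain ⟨r, hr, hrq, hrd⟩ := hother q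
  haveI := Fact.mk hr
  obtain ⟨S⟩ : Nonempty (Sylow r N) := inferInstance
  haveI hSn : (S : Subgroup N).Normal :=
    ((Group.isNilpotent_of_finite_tfae (G := N)).out 0 3 rfl rfl).1 hnil r inferInstance S
  haveI : (S : Subgroup N).Characteristic := S.characteristic_of_normal hSn
  let R : Subgroup G := (S : Subgroup N).map N.subtype
  haveI hRn : R.Normal := inferInstance
  haveI : Nontrivial R := by
    rw [Subgroup.nontrivial_iff_ne_bot, Ne, Subgroup.map_eq_bot_iff_of_injective _ N.subtype_injective]
    exact S.ne_bot_of_dvd_card hrd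
  let f : (P : Subgroup G) →* MulAut R := (MulAut.conjNormal (H := R)).comp (P : Subgroup G).subtype
  have hRpow : ∀ z ∈ R, ∃ j, orderOf z = r ^ j := by
    rintro _ ⟨w, hw, rfl⟩
    obtain ⟨j, hj⟩ := IsPGroup.iff_orderOf.1 S.isPGroup' ⟨w, hw⟩
    exact ⟨j, by rwa [Subgroup.orderOf_mk, ← Subgroup.orderOf_coe] at hj⟩
  have hPpow : ∀ x : (P : Subgroup G), ∃ j, orderOf (x : G) = q ^ j := fun x => by
    obtain ⟨j, hj⟩ := IsPGroup.iff_orderOf.1 P.isPGroup' x
    exact ⟨j, by rw [← hj, Subgroup.orderOf_coe]⟩
  have hcoRP : ∀ (x : (P : Subgroup G)) (z : G), z ∈ R → (orderOf (x : G)).Coprime (orderOf z) := by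
    intro x z hz
    obtain ⟨i, hi⟩ := hPpow x
    obtain ⟨j, hj⟩ := hRpow z hz
    rw [hi, hj]
    exact ((Nat.coprime_primes hq.out hr).2 hrq.symm).pow i j
  have hfix : ∀ (x : (P : Subgroup G)), (x : G) ∉ N → ∀ z : R, f x z = z → z = 1 := by
    intro x hx z hz
    refine Subtype.ext (hfpf x hx z (Subgroup.map_subtype_le _ z.2) (hcoRP x z z.2) ?_)
    have h1 := congrArg Subtype.val hz
    change (x : G) * z * (x : G)⁻¹ = z at h1
    exact mul_inv_eq_iff_eq_mul.1 h1
  have hker : f.ker = N.subgroupOf (P : Subgroup G) := by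
    ext x
    rw [Subgroup.mem_subgroupOf, MonoidHom.mem_ker]
    constructor
    · intro hx
      by_contra hxN
      obtain ⟨z, hz⟩ := exists_ne (1 : R)
      exact hz (hfix x hxN z (by rw [hx]; rfl))
    · intro hx
      refine MulEquiv.ext fun z => Subtype.ext ?_
      have hzN : (z : G) ∈ N := Subgroup.map_subtype_le _ z.2
      have hc := CfsgLib.OddLocal.commute_of_coprime_nilpotent (a := (⟨(x : G), hx⟩ : N)) (b := ⟨z, hzN⟩)
        (by rw [Subgroup.orderOf_mk, Subgroup.orderOf_mk]; exact hcoRP x z z.2)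
      exact mul_inv_eq_iff_eq_mul.2 (congrArg Subtype.val hc.eq)
  let e1 : ((P : Subgroup G) ⧸ f.ker) ≃* f.range := QuotientGroup.quotientKerEquivRange f
  let g := π.comp (P : Subgroup G).subtype
  have hgker : g.ker = N.subgroupOf (P : Subgroup G) := by
    ext x; simp [g, π, Subgroup.mem_subgroupOf]
  have hgr : g.range = (P : Subgroup G).map π := by
    rw [MonoidHom.range_comp, Subgroup.range_subtype]
  let e2 : f.range ≃* ↥((P : Subgroup G).map π) :=
    e1.symm.trans ((QuotientGroup.quotientMulEquivOfEq (hker.trans hgker.symm)).trans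
      ((QuotientGroup.quotientKerEquivRange g).trans (MulEquiv.subgroupCongr hgr)))
  have hp : IsPGroup q f.range := P.isPGroup'.of_surjective f.rangeRestrict f.rangeRestrict_surjective
  -- the semidirect product
  let X := R ⋊[f.range.subtype] f.range
  haveI : Finite X := Finite.of_equiv _ SemidirectProduct.equivProd.symm
  have hcyc : ∀ A : Subgroup f.range, IsMulCommutative A → IsCyclic A := by
    intro A hA
    haveI := hA
    let A' : Subgroup X := A.map SemidirectProduct.inr
    let V : Subgroup X := (SemidirectProduct.inl : R →* X).range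
    haveI hVn : V.Normal := by
      show (SemidirectProduct.inl : R →* X).range.Normal
      rw [SemidirectProduct.range_inl_eq_ker_rightHom]
      exact MonoidHom.normal_ker _
    haveI : IsMulCommutative A' := ⟨⟨by
      rintro ⟨_, a, ha, rfl⟩ ⟨_, b, hb, rfl⟩
      refine Subtype.ext ?_
      show SemidirectProduct.inr a * SemidirectProduct.inr b = SemidirectProduct.inr b * SemidirectProduct.inr a
      rw [← map_mul, ← map_mul]
      exact congrArg _ (congrArg Subtype.val (mul_comm' (⟨a, ha⟩ : A) ⟨b, hb⟩))⟩⟩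
    have hV : V ≠ ⊥ := by
      intro h
      obtain ⟨z, hz⟩ := exists_ne (1 : R)
      have h1 : SemidirectProduct.inl z ∈ (⊥ : Subgroup X) := h ▸ ⟨z, rfl⟩
      exact hz (SemidirectProduct.inl_injective ((Subgroup.mem_bot.1 h1).trans (map_one _).symm))
    have h := CfsgLib.Solv.isCyclic_of_fpf_abelian (A := A') (V := V) hV
      (by rw [Subgroup.normalizer_eq_top_iff.2 hVn]; exact le_top) (by
        rintro _ ⟨a, ha, rfl⟩ ha1
        rw [Subgroup.eq_bot_iff_forall]
        rintro _ ⟨⟨z, rfl⟩, hz⟩
        have h1 := Subgroup.mem_centralizer_singleton_iff.1 hz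
        have h2 : f.range.subtype a z = z := by
          refine SemidirectProduct.inl_injective (φ := f.range.subtype) ?_
          rw [SemidirectProduct.inl_aut, ← h1, map_inv, mul_assoc, mul_inv_cancel, mul_one]
        obtain ⟨x, hx⟩ := a.2
        have hxN : (x : G) ∉ N := fun hxN => ha1 (by
          have h3 : x ∈ f.ker := by rw [hker]; exact hxN
          have h4 : a = 1 := Subtype.ext (hx.symm.trans (MonoidHom.mem_ker.1 h3))
          rw [h4, map_one])
        rw [hfix x hxN z (by rw [hx]; exact h2), map_one])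
    exact (A.equivMapOfInjective _ (SemidirectProduct.inr_injective (φ := f.range.subtype))).isCyclic.2 h
  show IsCyclic ↥((P : Subgroup G).map π) ∨ ∃ n : ℕ, Nonempty (↥((P : Subgroup G).map π) ≃* QuaternionGroup (2 ^ n))
  rcases CfsgLib.Solv.pgroup_unique_sub hp (CfsgLib.Solv.unique_of_abelian_cyclic hp hcyc) with h | ⟨-, n, ⟨e⟩⟩
  · exact Or.inl (e2.isCyclic.1 h)
  · exact Or.inr ⟨n + 1, ⟨e2.symm.trans e⟩⟩

end Cfsg.Agent.S4155
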