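import Cfsg.Statements.S4156

import Mathlib

set_option autoImplicit false
set_option linter.style.haveILetI false
open Cfsg

namespace Cfsg.Agent.S4156

variable {n : ℕ} {F : Type*} [Field F]

/-- The matrix of a permutation of `n + 1` points on the sum-zero vectors. -/
def M (σ : Equiv.Perm (Fin (n + 1))) : Matrix (Fin n) (Fin n) F :=
  Matrix.of fun j i => (if σ i.castSucc = j.castSucc then (1 : F) else 0) - (if σ (Fin.last n) = j.castSucc then 1 else 0)

theorem M_one : M (1 : Equiv.Perm (Fin (n + 1))) = (1 : Matrix (Fin n) (Fin n) F) := by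
  ext j i
  simp [M, Matrix.one_apply, eq_comm]

theorem M_mul (σ τ : Equiv.Perm (Fin (n + 1))) : M (σ * τ) = (M σ * M τ : Matrix (Fin n) (Fin n) F) := by
  classical
  ext j i
  rw [Matrix.mul_apply]
  set f : Fin (n + 1) → F := fun k => (if σ k = j.castSucc then (1 : F) else 0) - (if σ (Fin.last n) = j.castSucc then 1 else 0)
  have h1 : ∑ l : Fin n, (M σ : Matrix (Fin n) (Fin n) F) j l * (M τ : Matrix (Fin n) (Fin n) F) l i =
      ∑ k : Fin (n + 1), f k * ((if τ i.castSucc = k then (1 : F) else 0) - (if τ (Fin.last n) = k then 1 else 0)) := by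
    rw [Fin.sum_univ_castSucc, show f (Fin.last n) = 0 from sub_self _, zero_mul, add_zero]
    rfl
  rw [h1]
  simp [mul_sub, Finset.sum_sub_distrib, f, M]
  congr

def Mhom : alternatingGroup (Fin (n + 1)) →* Matrix (Fin n) (Fin n) F where
  toFun σ := M (σ : Equiv.Perm (Fin (n + 1)))
  map_one' := M_one
  map_mul' σ τ := M_mul _ _

theorem exists_noncomm (hn : 3 ≤ n) : ∃ c d : alternatingGroup (Fin (n + 1)), c * d ≠ d * c ∧ (M (c : Equiv.Perm (Fin (n + 1))) : Matrix (Fin n) (Fin n) F) ≠ 1 := by
  let e : ℕ → Fin (n + 1) := fun k => Fin.ofNat (n + 1) k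
  have hv : ∀ k, k < n + 1 → (e k).val = k := fun k hk => by simp [e, Nat.mod_eq_of_lt hk]
  have hne : ∀ a b, a < n + 1 → b < n + 1 → a ≠ b → e a ≠ e b := fun a b ha hb hab h => hab (by rw [← hv a ha, ← hv b hb, h])
  have hs : ∀ a b c : Fin (n + 1), a ≠ b → b ≠ c → Equiv.swap a b * Equiv.swap b c ∈ alternatingGroup (Fin (n + 1)) := by
    intro a b c hab hbc
    simp [Equiv.Perm.mem_alternatingGroup, Equiv.Perm.sign_swap hab, Equiv.Perm.sign_swap hbc]
  have h01 := hne 0 1 (by omega) (by omega) (by omega)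
  have h02 := hne 0 2 (by omega) (by omega) (by omega)
  have h03 := hne 0 3 (by omega) (by omega) (by omega)
  have h12 := hne 1 2 (by omega) (by omega) (by omega)
  have h13 := hne 1 3 (by omega) (by omega) (by omega)
  have h23 := hne 2 3 (by omega) (by omega) (by omega)
  refine ⟨⟨_, hs _ _ _ h01 h12⟩, ⟨_, hs _ _ _ h12 h23⟩, fun h => ?_, fun h => ?_⟩
  · have h2 := congrArg (fun z : alternatingGroup (Fin (n + 1)) => (z : Equiv.Perm (Fin (n + 1))) (e 0)) h
    simp [Equiv.swap_apply_def, h01, h02, h03, h12, h13, h23, h01.symm, h02.symm, h03.symm, h12.symm, h13.symm, h23.symm] at h2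
  · obtain ⟨i, hi⟩ : ∃ i : Fin n, i.castSucc = e 0 := ⟨⟨0, by omega⟩, Fin.ext (hv 0 (by omega)).symm⟩
    have h3 : Fin.last n ≠ e 1 := fun h => by have := congrArg Fin.val h; rw [hv 1 (by omega)] at this; simp at this; omega
    have h2 := congrFun (congrFun h i) i
    have e1 : (Equiv.swap (e 0) (e 1) * Equiv.swap (e 1) (e 2)) i.castSucc = e 1 := by
      rw [hi, Equiv.Perm.mul_apply, Equiv.swap_apply_of_ne_of_ne h01 h02, Equiv.swap_apply_left]
    have e2 : (Equiv.swap (e 0) (e 1) * Equiv.swap (e 1) (e 2)) (Fin.last n) ≠ i.castSucc := by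
      rw [hi]
      intro e'
      have e'' : Equiv.swap (e 1) (e 2) (Fin.last n) = e 1 := by
        have := congrArg (Equiv.swap (e 0) (e 1)) e'
        rwa [Equiv.Perm.mul_apply, Equiv.swap_apply_self, Equiv.swap_apply_left] at this
      have := congrArg (Equiv.swap (e 1) (e 2)) e''
      rw [Equiv.swap_apply_self, Equiv.swap_apply_left] at this
      have := congrArg Fin.val this
      rw [hv 2 (by omega)] at this
      simp at this; omega
    simp only [M, Matrix.of_apply, Matrix.one_apply_eq] at h2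
    rw [if_neg (by rw [e1, hi]; exact h01.symm), if_neg e2, sub_zero] at h2
    exact zero_ne_one h2

/-- Let n ≥ 5 and F a finite field. Then the projective special linear group PSL_n(F) contains a subgroup isomorphic to the alternating group of degree n + 1. -/
theorem result (n : ℕ) (hn : 5 ≤ n) (F : Type*) [Field F] [Finite F] :
    ∃ f : alternatingGroup (Fin (n + 1)) →* Matrix.ProjectiveSpecialLinearGroup (Fin n) F, Function.Injective f := by
  classical
  obtain ⟨c, d, hcd, hc⟩ := exists_noncomm (n := n) (F := F) (by omega)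
  haveI : IsSimpleGroup (alternatingGroup (Fin (n + 1))) := alternatingGroup.isSimpleGroup (by simp; omega)
  have key : ∀ {B : Type _} [Group B] (g : alternatingGroup (Fin (n + 1)) →* B), g c * g d = g d * g c → ∀ x, g x = 1 := by
    intro B _ g hg x
    rcases IsSimpleGroup.eq_bot_or_eq_top_of_normal g.ker inferInstance with h | h
    · exact absurd ((MonoidHom.ker_eq_bot_iff g).1 h (by rw [map_mul, map_mul, hg])) hcd
    · exact MonoidHom.mem_ker.1 (h ▸ Subgroup.mem_top x)
  let χ : alternatingGroup (Fin (n + 1)) →* Fˣ := ((Matrix.detMonoidHom).comp (Mhom (n := n) (F := F))).toHomUnits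
  have hdet : ∀ x, (Mhom (n := n) (F := F) x).det = 1 := fun x => congrArg Units.val (key χ (mul_comm _ _) x)
  let f : alternatingGroup (Fin (n + 1)) →* Matrix.SpecialLinearGroup (Fin n) F :=
    { toFun := fun x => ⟨Mhom x, hdet x⟩
      map_one' := Subtype.ext (map_one Mhom)
      map_mul' := fun x y => Subtype.ext (map_mul Mhom x y) }
  let g : alternatingGroup (Fin (n + 1)) →* Matrix.ProjectiveSpecialLinearGroup (Fin n) F :=
    (QuotientGroup.mk' (Subgroup.center (Matrix.SpecialLinearGroup (Fin n) F))).comp f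
  refine ⟨g, (MonoidHom.ker_eq_bot_iff g).1 ?_⟩
  rcases IsSimpleGroup.eq_bot_or_eq_top_of_normal g.ker inferInstance with h | h
  · exact h
  · exfalso
    have hmem : f c ∈ Subgroup.center (Matrix.SpecialLinearGroup (Fin n) F) :=
      (QuotientGroup.eq_one_iff _).1 (MonoidHom.mem_ker.1 (h ▸ Subgroup.mem_top c : c ∈ g.ker))
    exact hc (congrArg Subtype.val (key f (Subgroup.mem_center_iff.1 hmem (f d)).symm c))

end Cfsg.Agent.S4156
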