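import Cfsg.Statements.S4160

import Cfsg.Agent.Solv.TransferTools

set_option autoImplicit false
set_option linter.style.haveILetI false
open Cfsg

namespace Cfsg.Agent.S4160

/-- Let G be a finite group and p ≠ q primes each dividing the size of some conjugacy class of G, such that no conjugacy class size is divisible by pq. Then G has a normal p-complement or a normal q-complement. -/
theorem result {G : Type*} [Group G] [Finite G] (p q : ℕ) (hp : p.Prime) (hq : q.Prime) (hpq : p ≠ q)
    (hp' : ∃ x : G, p ∣ (Subgroup.centralizer ({x} : Set G)).index) (hq' : ∃ x : G, q ∣ (Subgroup.centralizer ({x} : Set G)).index) (h : ∀ x : G, ¬ p * q ∣ (Subgroup.centralizer ({x} : Set G)).index) :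
    Cfsg.HasNormalPComplement p G ∨ Cfsg.HasNormalPComplement q G := by
  classical
  haveI := Fintype.ofFinite G
  have key : ∀ (r : ℕ), r.Prime → ¬ Cfsg.HasNormalPComplement r G →
      2 * Nat.card ((R : Sylow r G) × ↥(Subgroup.centralizer ((R : Subgroup G) : Set G))) ≤ Nat.card G ∧
      ∀ x : G, ¬ r ∣ (Subgroup.centralizer ({x} : Set G)).index →
        ∃ R : Sylow r G, x ∈ Subgroup.centralizer ((R : Subgroup G) : Set G) := by
    intro r hr hno
    haveI := Fact.mk hr
    obtain ⟨R₀⟩ : Nonempty (Sylow r G) := inferInstance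
    set N := Subgroup.normalizer ((R₀ : Subgroup G) : Set G)
    set C := Subgroup.centralizer ((R₀ : Subgroup G) : Set G)
    have hC : ∀ R : Sylow r G, Nat.card ↥(Subgroup.centralizer ((R : Subgroup G) : Set G)) = Nat.card C := by
      intro R
      obtain ⟨g, rfl⟩ := MulAction.exists_smul_eq G R₀ R
      refine (Nat.card_congr ?_).symm
      refine (MulAut.conj g).toEquiv.subtypeEquiv fun c => ?_
      show c ∈ C ↔ MulAut.conj g c ∈ _
      simp only [C, Subgroup.mem_centralizer_iff, Sylow.coe_subgroup_smul]
      constructor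
      · intro h y hy
        obtain ⟨z, hz, rfl⟩ := hy
        show MulAut.conj g z * _ = _ * MulAut.conj g z
        rw [← map_mul, h z hz, map_mul]
      · intro h z hz
        have := h (MulAut.conj g z) ⟨z, hz, rfl⟩
        rw [← map_mul, ← map_mul] at this
        exact (MulAut.conj g).injective this
    refine ⟨?_, ?_⟩
    · rw [Nat.card_sigma, Finset.sum_congr rfl fun R _ => hC R, Finset.sum_const, Finset.card_univ,
        ← Nat.card_eq_fintype_card, smul_eq_mul, Sylow.card_eq_index_normalizer R₀]
      have hCN : C ≤ N := Subgroup.centralizer_le_normalizer _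
      have h2 : 2 ≤ C.relIndex N := by
        have h0 : C.relIndex N ≠ 0 := by
          rw [Subgroup.relIndex]; exact Subgroup.index_ne_zero_of_finite
        have h1 : C.relIndex N ≠ 1 := fun e => hno (CfsgLib.Solv.hnpc_of_normalizer_le_centralizer R₀ (Subgroup.relIndex_eq_one.1 e))
        omega
      have e1 := Subgroup.relIndex_mul_index hCN
      have e2 := C.card_mul_index
      calc 2 * (N.index * Nat.card C) = 2 * N.index * Nat.card C := by ring
        _ ≤ C.relIndex N * N.index * Nat.card C := Nat.mul_le_mul_right _ (Nat.mul_le_mul_right _ h2)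
        _ = Nat.card G := by rw [e1, mul_comm, e2]
    · intro x hx
      obtain ⟨S⟩ : Nonempty (Sylow r ↥(Subgroup.centralizer ({x} : Set G))) := inferInstance
      set U := (S : Subgroup ↥(Subgroup.centralizer ({x} : Set G))).map (Subgroup.centralizer ({x} : Set G)).subtype
      have hU : ¬ r ∣ U.index := by
        rw [← Subgroup.relIndex_mul_index (Subgroup.map_subtype_le _ : U ≤ _)]
        intro hd
        rcases hr.dvd_mul.1 hd with h' | h'
        · refine S.not_dvd_index ?_
          have e : U.subgroupOf (Subgroup.centralizer ({x} : Set G)) = S :=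
            Subgroup.comap_map_eq_self_of_injective (Subgroup.subtype_injective _) _
          rwa [Subgroup.relIndex, e] at h'
        · exact hx h'
      refine ⟨(S.2.map _).toSylow hU, Subgroup.mem_centralizer_iff.2 fun y hy => ?_⟩
      exact Subgroup.mem_centralizer_singleton_iff.1 ((Subgroup.map_subtype_le _ : U ≤ _) hy)
  by_contra hcon
  push Not at hcon
  obtain ⟨h1, h1'⟩ := key p hp hcon.1
  obtain ⟨h2, h2'⟩ := key q hq hcon.2
  let S := ((R : Sylow p G) × ↥(Subgroup.centralizer ((R : Subgroup G) : Set G))) ⊕
    ((R : Sylow q G) × ↥(Subgroup.centralizer ((R : Subgroup G) : Set G)))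
  let f : S → G := Sum.elim (fun z => (z.2 : G)) (fun z => (z.2 : G))
  have hsurj : Function.Surjective f := by
    intro x
    have : ¬ p ∣ (Subgroup.centralizer ({x} : Set G)).index ∨ ¬ q ∣ (Subgroup.centralizer ({x} : Set G)).index := by
      by_contra hc
      push Not at hc
      exact h x (((Nat.coprime_primes hp hq).2 hpq).mul_dvd_of_dvd_of_dvd hc.1 hc.2)
    rcases this with hc | hc
    · obtain ⟨R, hR⟩ := h1' x hc
      exact ⟨Sum.inl ⟨R, x, hR⟩, rfl⟩
    · obtain ⟨R, hR⟩ := h2' x hc
      exact ⟨Sum.inr ⟨R, x, hR⟩, rfl⟩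
  obtain ⟨P⟩ : Nonempty (Sylow p G) := inferInstance
  obtain ⟨Q⟩ : Nonempty (Sylow q G) := inferInstance
  have hne : Nat.card G ≠ Nat.card S := fun e => by
    have hinj := ((Nat.bijective_iff_surjective_and_card f).2 ⟨hsurj, e.symm⟩).1
    have := @hinj (Sum.inl ⟨P, 1⟩) (Sum.inr ⟨Q, 1⟩) rfl
    exact Sum.inl_ne_inr this
  have hle : Nat.card G ≤ Nat.card S := Nat.card_le_card_of_surjective f hsurj
  rw [Nat.card_sum] at hne hle
  omega

end Cfsg.Agent.S4160
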