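import Cfsg.Statements.S4169
import Cfsg.Agent.Perm.MinClass

set_option autoImplicit false
set_option linter.style.haveILetI false
open Cfsg

namespace Cfsg.Agent.S4169

/-- Let P be a finite p-group whose conjugacy classes have exactly two sizes (1 and one other value). Then P has nilpotency class at most 3. -/
theorem result {P : Type*} [Group P] [Finite P] {p : ℕ} [Fact p.Prime] (hP : IsPGroup p P)
    (m : ℕ) (hm : 1 < m) (h : ∀ x : P, (Subgroup.centralizer ({x} : Set P)).index = 1 ∨ (Subgroup.centralizer ({x} : Set P)).index = m) :
    upperCentralSeries P 3 = ⊤ := by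
  apply CfsgLib.Perm.upperCentralSeries_three_eq_top
  intro x y z
  obtain ⟨A, hAn, hAc, hCA⟩ := CfsgLib.Perm.exists_self_centralizing_normal_abelian hP
  haveI := hAn
  refine CfsgLib.Perm.commutator_commutator_mem_center A hAc hCA Set.univ (fun w _ => ?_)
    (Subgroup.subset_closure trivial) (Subgroup.subset_closure trivial)
    (Subgroup.subset_closure trivial)
  rcases h w with hw | hw
  · exact Or.inl hw
  · refine Or.inr fun v hv => ?_
    rcases h v with hv' | hv'
    · omega
    · omega

end Cfsg.Agent.S4169
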