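import Mathlib
-- Template for statement S4172 (row 4172; see /opt/grader/pristine/manifest.json for weights).
-- Copy to Cfsg/Agent/S4172.lean and replace the sorry. The statement below is byte-identical to the frozen
-- statement Cfsg.CfsgFrozen.S4172 (Cfsg/Statements/S4172.lean; the theorem Cfsg.fg10_two_generated_nonabelian_sylow_corefree_frattini_generalized_fitting_structure);
-- the grader kernel-checks Cfsg.Agent.S4172.result against that frozen type. Keep the theorem IN THIS FILE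
-- (a `result` declared elsewhere and merely imported here is not credited); helpers may live anywhere
-- under Cfsg/Agent/.
import Cfsg.Statements.S4172
import Cfsg.Agent.Solv.Tate
import Cfsg.Agent.Solv.Basic
import Cfsg.Agent.Solv.FittingBasic
import Cfsg.Agent.Inv.Component
import Cfsg.Agent.Fus.CoreBasic
-- import your own Cfsg.Agent.* helpers here

set_option autoImplicit false
open Cfsg
set_option linter.style.haveILetI false
set_option linter.unusedSectionVars false

namespace Cfsg.Agent.S4172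

open scoped commutatorElement

variable {G : Type*} [Group G] [Finite G] {p : ℕ} [Fact p.Prime]

/-- the Frattini subgroup of `P` inside `G` -/
def fr (P : Sylow p G) : Subgroup G := (frattini ↥(P : Subgroup G)).map (P : Subgroup G).subtype

theorem fr_le (P : Sylow p G) : fr P ≤ (P : Subgroup G) := Subgroup.map_subtype_le _

theorem pow_mem_fr (P : Sylow p G) {x : G} (hx : x ∈ (P : Subgroup G)) : x ^ p ∈ fr P :=
  ⟨(⟨x, hx⟩ : (P : Subgroup G)) ^ p, CfsgLib.Solv.pow_mem_frattini P.isPGroup' _, rfl⟩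

theorem comm_mem_fr (P : Sylow p G) {x y : G} (hx : x ∈ (P : Subgroup G)) (hy : y ∈ (P : Subgroup G)) :
    ⁅x, y⁆ ∈ fr P :=
  ⟨⁅(⟨x, hx⟩ : (P : Subgroup G)), ⟨y, hy⟩⁆, CfsgLib.Solv.commutator_le_frattini P.isPGroup'
    (Subgroup.commutator_mem_commutator (Subgroup.mem_top _) (Subgroup.mem_top _)), rfl⟩

theorem isPGroup_of_le_fr (P : Sylow p G) (hcore : Cfsg.pPrimeCore p G = ⊥) (D : Subgroup G) (hD : D.IsSubnormal)
    (hPD : (P : Subgroup G) ≤ Subgroup.normalizer (D : Set G)) (hfr : (P : Subgroup G) ⊓ D ≤ fr P) : IsPGroup p D := by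
  classical
  set U := (P : Subgroup G) ⊔ D
  have hUn : U ≤ Subgroup.normalizer (D : Set G) := sup_le hPD Subgroup.le_normalizer
  haveI hDn : (D.subgroupOf U).Normal := by
    rwa [Subgroup.normal_subgroupOf_iff_le_normalizer (le_sup_right : D ≤ U)]
  let P' : Sylow p U := P.subtype le_sup_left
  have htop : (P' : Subgroup U) ⊔ D.subgroupOf U = ⊤ := by
    show (P : Subgroup G).subgroupOf U ⊔ D.subgroupOf U = ⊤
    rw [← Subgroup.subgroupOf_sup le_sup_left le_sup_right, Subgroup.subgroupOf_self]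
  have hfr' : (P' : Subgroup U) ⊓ D.subgroupOf U ≤ (frattini (P' : Subgroup U)).map (P' : Subgroup U).subtype := by
    intro x hx
    obtain ⟨hx1, hx2⟩ := Subgroup.mem_inf.1 hx
    obtain ⟨w, hw, hwe⟩ := hfr (Subgroup.mem_inf.2 ⟨Subgroup.mem_subgroupOf.1 hx1, Subgroup.mem_subgroupOf.1 hx2⟩)
    have key : ∀ {A B : Type _} [Group A] [Group B] [Finite A] [Finite B] (e : A ≃* B) (a : A),
        a ∈ frattini A → IsPGroup p A → e a ∈ frattini B := by
      intro A B _ _ _ _ e a ha _
      simp only [frattini, Order.radical, Subgroup.mem_iInf] at ha ⊢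
      intro M hM
      exact ha (M.comap e.toMonoidHom) ((OrderIso.isCoatom_iff e.comapSubgroup M).2 hM)
    let ι : (P : Subgroup G) ≃* (P' : Subgroup U) :=
      (Subgroup.subgroupOfEquivOfLe (le_sup_left : (P : Subgroup G) ≤ U)).symm
    exact ⟨ι w, key ι w hw P.isPGroup', Subtype.ext hwe⟩
  obtain ⟨Q, N, hNn, hcompl⟩ := CfsgLib.Solv.tate P' (D.subgroupOf U) hDn htop hfr'
  haveI := hNn
  have hidxN : N.index = Nat.card (Q : Subgroup U) := hcompl.symm.index_eq_card
  obtain ⟨k, hk⟩ := IsPGroup.iff_card.1 Q.isPGroup'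
  have hNk : N.index = p ^ k := hidxN.trans hk
  have hNcop : (Nat.card N).Coprime p := by
    refine Nat.Coprime.symm ((Fact.out : p.Prime).coprime_iff_not_dvd.2 fun hd => ?_)
    rw [← hcompl.index_eq_card] at hd
    exact Q.not_dvd_index hd
  set K := D.subgroupOf U ⊓ N
  have hK : K = ⊥ := by
    have hsn : (K.map U.subtype).IsSubnormal := by
      refine Subgroup.IsSubnormal.step _ _ ?_ hD ?_
      · rintro _ ⟨y, hy, rfl⟩
        exact (Subgroup.mem_inf.1 hy).1
      · refine ⟨fun y hy d => ?_⟩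
        obtain ⟨z, hz, hze⟩ := hy
        have hd : (d : G) ∈ U := (le_sup_right : D ≤ U) d.2
        refine ⟨⟨d, hd⟩ * z * ⟨d, hd⟩⁻¹, (inferInstance : K.Normal).conj_mem z hz _, ?_⟩
        show (d : G) * (z : G) * (d : G)⁻¹ = _
        rw [show (z : G) = (y : G) from hze]; rfl
    have hc : (Nat.card (K.map U.subtype)).Coprime p := by
      rw [Subgroup.card_map_of_injective U.subtype_injective]
      exact (Nat.Coprime.coprime_dvd_left (Subgroup.card_dvd_of_le inf_le_right) hNcop)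
    have := CfsgLib.Fus.subnormal_le_pPrimeCore hsn hc
    rw [hcore, le_bot_iff, Subgroup.map_eq_bot_iff_of_injective _ U.subtype_injective] at this
    exact this
  refine IsPGroup.of_injective (H := D) (G := U ⧸ N) (hG := IsPGroup.of_card (n := k) (by
    rw [← hNk]; rfl)) ((QuotientGroup.mk' N).comp (Subgroup.inclusion (le_sup_right : D ≤ U))) ?_
  rw [injective_iff_map_eq_one]
  intro d hd
  have h1 : Subgroup.inclusion (le_sup_right : D ≤ U) d ∈ K := ⟨d.2, (QuotientGroup.eq_one_iff _).1 hd⟩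
  rw [hK, Subgroup.mem_bot] at h1
  exact Subgroup.inclusion_injective _ (h1.trans (map_one _).symm)

/-- A two-generated `p`-group is cyclic modulo a normal subgroup outside the Frattini subgroup. -/
theorem exists_gen {Q : Type*} [Group Q] [Finite Q] (hQ : IsPGroup p Q) (hidx : (frattini Q).index = p ^ 2)
    (X : Subgroup Q) [X.Normal] (hX : ¬ X ≤ frattini Q) : ∃ g : Q, Subgroup.zpowers g ⊔ X = ⊤ := by
  set Φ := frattini Q
  haveI hn : Φ.Normal := inferInstance
  have h1 : Φ < X ⊔ Φ := lt_of_le_of_ne le_sup_right fun e => hX (e ▸ le_sup_left)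
  obtain ⟨j, hj, hji⟩ : ∃ j ≤ 1, (X ⊔ Φ).index = p ^ j := by
    have h2 := Subgroup.index_dvd_of_le (le_sup_right : Φ ≤ X ⊔ Φ)
    rw [hidx] at h2
    obtain ⟨j, hj, hji⟩ := (Nat.dvd_prime_pow Fact.out).1 h2
    refine ⟨j, ?_, hji⟩
    by_contra hj1
    have hj2 : j = 2 := by omega
    have h3 := Subgroup.relIndex_mul_index h1.le
    rw [hidx, hji, hj2] at h3
    have h4 : Φ.relIndex (X ⊔ Φ) = 1 := Nat.eq_of_mul_eq_mul_right (pow_pos (Fact.out : p.Prime).pos 2) (by rw [one_mul]; exact h3)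
    exact h1.not_ge (Subgroup.relIndex_eq_one.1 h4)
  have hcyc : IsCyclic (Q ⧸ (X ⊔ Φ)) := by
    rcases (show j = 0 ∨ j = 1 by omega) with rfl | rfl
    · haveI : Subsingleton (Q ⧸ (X ⊔ Φ)) := (Nat.card_eq_one_iff_unique.1 (by rw [← Subgroup.index, hji, pow_zero])).1
      infer_instance
    · exact isCyclic_of_prime_card (p := p) (by rw [← Subgroup.index, hji, pow_one])
  obtain ⟨q, hq⟩ := hcyc.exists_generator
  obtain ⟨g, rfl⟩ := QuotientGroup.mk'_surjective _ q
  refine ⟨g, frattini_nongenerating (top_le_iff.1 fun x _ => ?_)⟩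
  obtain ⟨i, hi⟩ := Subgroup.mem_zpowers_iff.1 (hq (QuotientGroup.mk' _ x))
  rw [← map_zpow] at hi
  have h5 := QuotientGroup.eq.1 hi
  rw [sup_assoc]
  have := Subgroup.mul_mem_sup (Subgroup.zpow_mem_zpowers g i) h5
  rwa [mul_inv_cancel_left] at this

theorem no_two (P : Sylow p G) (hgen : (frattini ↥(P : Subgroup G)).index = p ^ 2) (hna : ¬ IsMulCommutative (P : Subgroup G))
    (A B : Subgroup G) (hA : (P : Subgroup G) ≤ Subgroup.normalizer (A : Set G)) (hB : (P : Subgroup G) ≤ Subgroup.normalizer (B : Set G))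
    (hAB : A ⊓ B = ⊥) (hA' : ¬ (P : Subgroup G) ⊓ A ≤ fr P) (hB' : ¬ (P : Subgroup G) ⊓ B ≤ fr P) : False := by
  have key : ∀ A : Subgroup G, (P : Subgroup G) ≤ Subgroup.normalizer (A : Set G) → ¬ (P : Subgroup G) ⊓ A ≤ fr P →
      commutator (P : Subgroup G) ≤ A.subgroupOf (P : Subgroup G) := by
    intro A hA hA'
    haveI hn : (A.subgroupOf (P : Subgroup G)).Normal := ⟨fun a ha x => by
      exact (Subgroup.mem_normalizer_iff.1 (hA x.2) a).1 ha⟩
    have hX : ¬ A.subgroupOf (P : Subgroup G) ≤ frattini (P : Subgroup G) := fun h => hA' fun x hx => by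
      exact ⟨⟨x, hx.1⟩, h (Subgroup.mem_subgroupOf.2 hx.2), rfl⟩
    obtain ⟨g, hg⟩ := exists_gen P.isPGroup' hgen _ hX
    have : IsCyclic ((P : Subgroup G) ⧸ A.subgroupOf (P : Subgroup G)) := by
      refine ⟨QuotientGroup.mk' _ g, fun q => ?_⟩
      obtain ⟨x, rfl⟩ := QuotientGroup.mk'_surjective _ q
      obtain ⟨a, ha, b, hb, rfl⟩ := Subgroup.mem_sup_of_normal_right.1 (hg.ge (Subgroup.mem_top x))
      obtain ⟨i, rfl⟩ := Subgroup.mem_zpowers_iff.1 ha
      refine ⟨i, ?_⟩
      rw [map_mul, map_zpow, show QuotientGroup.mk' _ b = 1 from (QuotientGroup.eq_one_iff b).2 hb, mul_one]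
    letI := IsCyclic.commGroup (α := (P : Subgroup G) ⧸ A.subgroupOf (P : Subgroup G))
    rw [commutator_def, Subgroup.commutator_le]
    intro x _ y _
    rw [← QuotientGroup.eq_one_iff]
    show QuotientGroup.mk' _ ⁅x, y⁆ = 1
    rw [map_commutatorElement, commutatorElement_eq_one_iff_commute]
    exact Commute.all _ _
  refine hna ⟨⟨fun x y => commutatorElement_eq_one_iff_commute.1 (Subtype.ext ?_)⟩⟩
  have h := Subgroup.commutator_mem_commutator (Subgroup.mem_top x) (Subgroup.mem_top y)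
  exact (Subgroup.eq_bot_iff_forall _).1 hAB _ ⟨key A hA hA' h, key B hB hB' h⟩

/-- Averaging a projection. -/
theorem exists_compl (P : Sylow p G) (N V : Subgroup G) [N.Normal] [V.Normal] (hNV : N ≤ V) (hV : IsPGroup p V)
    (hVc : ∀ x ∈ V, ∀ y ∈ V, x * y = y * x) (e : G) (he : e ∈ V) (hen : e ∉ N) (hep : e ^ p = 1)
    (hec : ∀ u ∈ (P : Subgroup G), u * e = e * u) (hgen : ∀ x ∈ V, ∃ i : ℤ, x * e ^ i ∈ N) :
    ∃ W : Subgroup G, W.Normal ∧ W ≠ ⊥ ∧ W ⊓ N = ⊥ := by
  classical
  haveI := Fintype.ofFinite (G ⧸ (P : Subgroup G))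
  have heN : ∀ i : ℤ, e ^ i ∈ N → e ^ i = 1 := fun i hi => by
    by_contra h
    have ho : orderOf e = p := orderOf_eq_prime hep fun h1 => h (by rw [h1, one_zpow])
    have hnd : ¬ (p : ℤ) ∣ i := fun hd => h (orderOf_dvd_iff_zpow_eq_one.1 (ho.symm ▸ hd))
    obtain ⟨u, v, huv⟩ := Int.isCoprime_iff_nat_coprime.2 (show Nat.Coprime i.natAbs (p : ℤ).natAbs by
      rw [Int.natAbs_natCast]
      exact Nat.Coprime.symm ((Fact.out : p.Prime).coprime_iff_not_dvd.2 fun h' => hnd (Int.natCast_dvd.2 h')))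
    refine hen ?_
    have := zpow_mem hi u
    rwa [← zpow_mul, show i * u = 1 + (p : ℤ) * (-v) by linarith, zpow_add, zpow_one, zpow_mul, zpow_natCast, hep,
      one_zpow, mul_one] at this
  choose ci hci using hgen
  -- the projection with kernel `⟨e⟩`
  let π₀ : V → N := fun x => ⟨(x : G) * e ^ ci x x.2, hci x x.2⟩
  have hπ₀u : ∀ (x : V) (i : ℤ) (n : N), (x : G) * e ^ i = n → π₀ x = n := fun x i n h => by
    refine Subtype.ext ?_
    show (x : G) * e ^ ci x x.2 = n
    have h1 : e ^ (ci x x.2 - i) ∈ N := by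
      rw [show e ^ (ci x x.2 - i) = ((x : G) * e ^ i)⁻¹ * ((x : G) * e ^ ci x x.2) by group]
      exact mul_mem (inv_mem (h ▸ n.2)) (hci x x.2)
    have h2 := heN _ h1
    rw [show e ^ ci x x.2 = e ^ i * e ^ (ci x x.2 - i) by group, h2, mul_one, h]
  letI : CommGroup N := { (inferInstance : Group N) with mul_comm := fun a b => Subtype.ext (hVc a (hNV a.2) b (hNV b.2)) }
  have hπ₀m : ∀ x y, π₀ (x * y) = π₀ x * π₀ y := fun x y => hπ₀u _ (ci x x.2 + ci y y.2) _ (by
    show (x : G) * y * e ^ (ci x x.2 + ci y y.2) = (x * e ^ ci x x.2) * (y * e ^ ci y y.2)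
    rw [zpow_add, show (x : G) * y * (e ^ ci x x.2 * e ^ ci y y.2) = x * (y * e ^ ci x x.2) * e ^ ci y y.2 by group,
      hVc y y.2 _ (V.zpow_mem he _)]
    group)
  have hπ₀N : ∀ x : V, (x : G) ∈ N → (π₀ x : G) = x := fun x hx => by
    rw [hπ₀u x 0 ⟨x, hx⟩ (by simp)]
  have hπ₀P : ∀ u ∈ (P : Subgroup G), ∀ x : V, MulAut.conjNormal u (π₀ x) = π₀ (MulAut.conjNormal u x) := fun u hu x =>
    (hπ₀u _ (ci x x.2) _ (by
      show u * (x : G) * u⁻¹ * e ^ ci x x.2 = u * ((x : G) * e ^ ci x x.2) * u⁻¹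
      have h1 : Commute (e ^ ci x x.2) u⁻¹ := ((show Commute e u from (hec u hu).symm).inv_right).zpow_left _
      rw [mul_assoc (u * (x : G)), ← h1.eq]; group)).symm
  -- the sum over cosets
  let T : G → V → N := fun g x => MulAut.conjNormal g (π₀ (MulAut.conjNormal g⁻¹ x))
  have hT : ∀ g u, u ∈ (P : Subgroup G) → ∀ x, T (g * u) x = T g x := fun g u hu x => by
    simp only [T]
    rw [map_mul MulAut.conjNormal g u, MulAut.mul_apply, hπ₀P u hu, ← MulAut.mul_apply, ← map_mul, mul_inv_rev,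
      mul_inv_cancel_left]
  let S : V →* N := MonoidHom.mk' (fun x => ∏ q : G ⧸ (P : Subgroup G), T q.out x) fun x y => by
    rw [← Finset.prod_mul_distrib]
    exact Finset.prod_congr rfl fun q _ => by simp only [T, map_mul, hπ₀m]
  have hS : ∀ h x, MulAut.conjNormal h (S x) = S (MulAut.conjNormal h x) := fun h x => by
    show MulAut.conjNormal h (∏ q : G ⧸ (P : Subgroup G), T q.out x) = ∏ q : G ⧸ (P : Subgroup G), T q.out (MulAut.conjNormal h x)
    rw [map_prod]
    refine Fintype.prod_equiv (MulAction.toPerm h) _ _ fun q => ?_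
    have h1 : (h • q).out = h * q.out * ((h * q.out)⁻¹ * (h • q).out) := by group
    have h2 : (h * q.out)⁻¹ * (h • q).out ∈ (P : Subgroup G) := by
      rw [← QuotientGroup.eq, QuotientGroup.out_eq']
      conv_rhs => rw [← QuotientGroup.out_eq' q]
      rfl
    show MulAut.conjNormal h (T q.out x) = T (h • q).out (MulAut.conjNormal h x)
    rw [h1, hT _ _ h2]
    simp only [T]
    rw [← MulAut.mul_apply, ← map_mul]
    congr 2
    rw [← MulAut.mul_apply, ← map_mul, show (h * q.out)⁻¹ * h = q.out⁻¹ by group]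
  have hSN : ∀ x : V, (x : G) ∈ N → (S x : G) = (x : G) ^ (P : Subgroup G).index := fun x hx => by
    have h1 : ∀ g, T g x = ⟨x, hx⟩ := fun g => Subtype.ext (by
      show g * (π₀ (MulAut.conjNormal g⁻¹ x) : G) * g⁻¹ = x
      rw [hπ₀N _ (by exact (inferInstance : N.Normal).conj_mem _ hx g⁻¹)]
      show g * (g⁻¹ * (x : G) * g⁻¹⁻¹) * g⁻¹ = x
      group)
    show ((∏ q : G ⧸ (P : Subgroup G), T q.out x : N) : G) = _
    rw [Finset.prod_congr rfl fun q _ => h1 q.out, Finset.prod_const, Finset.card_univ, ← Nat.card_eq_fintype_card]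
    rfl
  refine ⟨S.ker.map V.subtype, ⟨?_⟩, fun h0 => ?_, ?_⟩
  · rintro _ ⟨x, hx, rfl⟩ g
    refine ⟨MulAut.conjNormal g x, ?_, rfl⟩
    rw [SetLike.mem_coe, MonoidHom.mem_ker, ← hS, MonoidHom.mem_ker.1 hx, map_one]
  · rw [Subgroup.map_eq_bot_iff_of_injective _ V.subtype_injective] at h0
    have h1 := Nat.card_le_card_of_injective S ((MonoidHom.ker_eq_bot_iff S).1 h0)
    have h2 : N = V := Subgroup.eq_of_le_of_card_ge hNV h1
    exact hen (h2.symm ▸ he)
  · rw [Subgroup.eq_bot_iff_forall]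
    rintro _ ⟨⟨x, hx, rfl⟩, hxN⟩
    have h1 : (x : G) ^ (P : Subgroup G).index = 1 := by
      rw [← hSN x hxN, MonoidHom.mem_ker.1 hx, Subgroup.coe_one]
    obtain ⟨j, hj⟩ := IsPGroup.iff_orderOf.1 hV x
    rw [← Subgroup.orderOf_coe] at hj
    have h2 := Nat.dvd_gcd (hj ▸ orderOf_dvd_of_pow_eq_one h1 : p ^ j ∣ _) (dvd_refl (p ^ j))
    rw [Nat.Coprime.pow_right j (((Fact.out : p.Prime).coprime_iff_not_dvd.2 P.not_dvd_index).symm), Nat.dvd_one] at h2
    rw [← orderOf_eq_one_iff]; exact hj.trans h2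

theorem central_le_fr (P : Sylow p G) (E : Subgroup G) [E.Normal] (hE : ⁅E, E⁆ = E) (z : G) (hzE : z ∈ E)
    (hzP : z ∈ (P : Subgroup G)) (hzc : ∀ x ∈ E, x * z = z * x) : z ∈ fr P := by
  classical
  set H : Subgroup E := (P : Subgroup G).subgroupOf E
  have hidx : ¬ p ∣ H.index := by
    set U := (P : Subgroup G) ⊔ E
    have e1 := (E.subgroupOf (P : Subgroup G)).card_mul_index
    have e2 := ((P : Subgroup G).subgroupOf E).card_mul_index
    have e3 := (E.subgroupOf U).card_mul_index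
    have e4 := ((P : Subgroup G).subgroupOf U).card_mul_index
    rw [Nat.card_congr (Subgroup.subgroupOfEquivOfLe (le_sup_right : E ≤ U)).toEquiv] at e3
    rw [Nat.card_congr (Subgroup.subgroupOfEquivOfLe (le_sup_left : (P : Subgroup G) ≤ U)).toEquiv] at e4
    have e5 : (E.subgroupOf U).index = (E.subgroupOf (P : Subgroup G)).index := Subgroup.relIndex_sup_right _ _
    have e6 : Nat.card (E.subgroupOf (P : Subgroup G)) = Nat.card ((P : Subgroup G).subgroupOf E) := by
      have a1 : Nat.card ((E.subgroupOf (P : Subgroup G)).map (P : Subgroup G).subtype) = Nat.card (E.subgroupOf (P : Subgroup G)) :=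
        Subgroup.card_map_of_injective (P : Subgroup G).subtype_injective
      have a2 : Nat.card (((P : Subgroup G).subgroupOf E).map E.subtype) = Nat.card ((P : Subgroup G).subgroupOf E) :=
        Subgroup.card_map_of_injective E.subtype_injective
      rw [← a1, ← a2, Subgroup.subgroupOf_map_subtype, Subgroup.subgroupOf_map_subtype, inf_comm]
    have e7 : ((P : Subgroup G).subgroupOf U).index = H.index := by
      refine Nat.eq_of_mul_eq_mul_left (Nat.card_pos (α := (P : Subgroup G))) ?_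
      rw [e4, ← e3, e5]
      calc Nat.card E * (E.subgroupOf (P : Subgroup G)).index
          = Nat.card ((P : Subgroup G).subgroupOf E) * H.index * (E.subgroupOf (P : Subgroup G)).index := by rw [e2]
        _ = Nat.card (P : Subgroup G) * H.index := by rw [← e1, e6]; ring
    rw [← e7]
    exact fun hd => P.not_dvd_index (hd.trans (Dvd.intro _ (Subgroup.relIndex_mul_index (le_sup_left : (P : Subgroup G) ≤ U))))
  let zE : E := ⟨z, hzE⟩
  have hperf : ∀ φ : E →* Abelianization H, φ zE = 1 := by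
    intro φ
    have h1 : commutator E = ⊤ := Subgroup.map_injective E.subtype_injective (by
      rw [Subgroup.map_subtype_commutator, ← MonoidHom.range_eq_map, Subgroup.range_subtype, hE])
    exact MonoidHom.mem_ker.1 (Abelianization.commutator_subset_ker φ (h1 ▸ Subgroup.mem_top zE))
  have hkey : ∀ (k : ℕ) (g₀ : E), g₀⁻¹ * zE ^ k * g₀ = zE ^ k := fun k g₀ => by
    have : Commute g₀ (zE ^ k) := (show Commute g₀ zE from Subtype.ext (hzc g₀ g₀.2)).pow_right k
    rw [mul_assoc, ← this.eq, inv_mul_cancel_left]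
  have h2 := MonoidHom.transfer_eq_pow (ϕ := (Abelianization.of : H →* Abelianization H)) zE fun k g₀ _ => hkey k g₀
  rw [hperf] at h2
  have h3 : (⟨zE ^ H.index, MonoidHom.transfer_eq_pow_aux zE fun k g₀ _ => hkey k g₀⟩ : H) ∈ commutator H := by
    rw [← Abelianization.ker_of, MonoidHom.mem_ker]; exact h2.symm
  have h4 : z ^ H.index ∈ fr P := by
    have hle : (commutator H).map (E.subtype.comp H.subtype) ≤ fr P := by
      rw [commutator_def, Subgroup.map_commutator, Subgroup.commutator_le]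
      rintro _ ⟨a, -, rfl⟩ _ ⟨b, -, rfl⟩
      exact comm_mem_fr P a.2 b.2
    exact hle ⟨_, h3, rfl⟩
  obtain ⟨j, hj⟩ := IsPGroup.iff_orderOf.1 P.isPGroup' ⟨z, hzP⟩
  rw [Subgroup.orderOf_mk] at hj
  obtain ⟨m, hm⟩ := exists_pow_eq_self_of_coprime (x := z) (n := H.index)
    (by rw [hj]; exact Nat.Coprime.pow_right j (((Fact.out : p.Prime).coprime_iff_not_dvd.2 hidx).symm))
  exact hm ▸ pow_mem h4 m


set_option maxHeartbeats 1000000 in
/-- Let p be a prime and G a finite group with a non-commutative Sylow p-subgroup P whose Frattini subgroup has index p² in P (P is generated by two elements). Suppose G has no nontrivial normal subgroup of order prime to p and the Frattini subgroup of P contains no nontrivial normal subgroup of G. Then the generalized Fitting subgroup F*(G) is the unique minimal normal subgroup of G, the image of P in G/F*(G) is cyclic, and if F*(G) is not commutative then P permutes the components of G transitively by conjugation. -/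
theorem result {G : Type*} [Group G] [Finite G] (p : ℕ) [Fact p.Prime] (P : Sylow p G) (hna : ¬ IsMulCommutative (P : Subgroup G)) (hgen : (frattini ↥(P : Subgroup G)).index = p ^ 2) (hcore : Cfsg.pPrimeCore p G = ⊥) (hfrat : ((frattini ↥(P : Subgroup G)).map (P : Subgroup G).subtype).normalCore = ⊥) [hFn : (Cfsg.generalizedFittingSubgroup G).Normal] :
    (Cfsg.generalizedFittingSubgroup G ≠ ⊥ ∧ ∀ K : Subgroup G, K.Normal → K ≠ ⊥ → Cfsg.generalizedFittingSubgroup G ≤ K) ∧
      IsCyclic ↥((P : Subgroup G).map (QuotientGroup.mk' (Cfsg.generalizedFittingSubgroup G))) ∧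
      (¬ IsMulCommutative (Cfsg.generalizedFittingSubgroup G) → ∀ K L : Subgroup G, Cfsg.IsComponent K → Cfsg.IsComponent L → ∃ x ∈ (P : Subgroup G), L = K.map (MulAut.conj x).toMonoidHom) := by
  classical
  set F := Cfsg.generalizedFittingSubgroup G
  set L := Cfsg.layer G with hLdef
  haveI hLn : L.Normal := CfsgLib.Inv.layer_normal
  have hfr : ∀ K : Subgroup G, K.Normal → K ≤ fr P → K = ⊥ := fun K hK hle =>
    le_bot_iff.1 (hfrat ▸ (Subgroup.normal_le_normalCore.2 hle))
  have hnorm : ∀ K : Subgroup G, K.Normal → K ≠ ⊥ → ¬ (P : Subgroup G) ⊓ K ≤ fr P := by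
    intro K hK hK1 hle
    have hp := isPGroup_of_le_fr P hcore K hK.isSubnormal (by rw [Subgroup.normalizer_eq_top_iff.2 hK]; exact le_top) hle
    have hKP : K ≤ (P : Subgroup G) := by
      obtain ⟨Q, hQ⟩ := hp.exists_le_sylow
      obtain ⟨g, hg⟩ := MulAction.exists_smul_eq G Q P
      intro x hx
      rw [← hg, Sylow.coe_subgroup_smul, Subgroup.mem_pointwise_smul_iff_inv_smul_mem, ← map_inv]
      exact hQ (by simpa using hK.conj_mem x hx g⁻¹)
    exact hK1 (hfr K hK (by rwa [inf_eq_right.2 hKP] at hle))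
  have hmeet : ∀ A B : Subgroup G, A.Normal → B.Normal → A ≠ ⊥ → B ≠ ⊥ → A ⊓ B ≠ ⊥ := fun A B hA hB hA1 hB1 h0 =>
    no_two P hgen hna A B (by rw [Subgroup.normalizer_eq_top_iff.2 hA]; exact le_top)
      (by rw [Subgroup.normalizer_eq_top_iff.2 hB]; exact le_top) h0 (hnorm A hA hA1) (hnorm B hB hB1)
  obtain ⟨x₀, hx₀⟩ : ∃ x : G, x ≠ 1 := by
    by_contra h; push Not at h
    exact hna ⟨⟨fun a b => Subtype.ext ((h _).trans (h _).symm)⟩⟩
  obtain ⟨N, ⟨hNn, hN1⟩, hNmin⟩ : ∃ N : Subgroup G, (N.Normal ∧ N ≠ ⊥) ∧ ∀ M : Subgroup G, M.Normal → M ≠ ⊥ → M ≤ N → N ≤ M := by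
    obtain ⟨N, hN⟩ := (Set.toFinite {N : Subgroup G | N.Normal ∧ N ≠ ⊥}).exists_minimal
      ⟨⊤, inferInstance, fun h => hx₀ (Subgroup.mem_bot.1 (h ▸ Subgroup.mem_top x₀))⟩
    exact ⟨N, hN.1, fun M hM hM1 hle => hN.2 ⟨hM, hM1⟩ hle⟩
  haveI := hNn
  have huniq : ∀ M : Subgroup G, M.Normal → M ≠ ⊥ → N ≤ M := fun M hM hM1 => by
    haveI := hM
    exact (hNmin (N ⊓ M) inferInstance (hmeet N M hNn hM hN1 hM1) inf_le_left).trans inf_le_right
  have hF1 : F ≠ ⊥ := fun h0 => by
    have h1 := CfsgLib.Inv.centralizer_genFitting_le (G := G) (show x₀ ∈ Subgroup.centralizer (F : Set G) from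
      Subgroup.mem_centralizer_iff.2 fun y hy => by rw [h0] at hy; rw [Subgroup.mem_bot.1 hy, one_mul, mul_one])
    exact hx₀ (Subgroup.mem_bot.1 (h0 ▸ h1))
  set V := Cfsg.fittingSubgroup G
  haveI hVn : V.Normal := CfsgLib.Solv.fittingSubgroup_normal G
  have hVp : IsPGroup p V := by
    rw [show V = Cfsg.pCore p G from CfsgLib.Solv.fittingSubgroup_eq_pCore hcore]
    exact CfsgLib.Solv.pCore_isPGroup G p
  have hVP : V ≤ (P : Subgroup G) := by
    obtain ⟨Q, hQ⟩ := hVp.exists_le_sylow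
    obtain ⟨g, hg⟩ := MulAction.exists_smul_eq G Q P
    intro x hx
    rw [← hg, Sylow.coe_subgroup_smul, Subgroup.mem_pointwise_smul_iff_inv_smul_mem, ← map_inv]
    exact hQ (by simpa using hVn.conj_mem x hx g⁻¹)
  have hVL : L ≠ ⊥ → V = ⊥ := fun hL => by
    by_contra hV
    refine hnorm N hNn hN1 fun z hz => central_le_fr P L ?_ z (huniq L hLn hL hz.2) hz.1 fun x hx => ?_
    · exact CfsgLib.Inv.layer_perfect
    · have hc := Subgroup.commutator_eq_bot_iff_le_centralizer.1 (CfsgLib.Inv.layer_commute_fitting (G := G)) hx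
      exact (Subgroup.mem_centralizer_iff.1 hc z (huniq V hVn hV hz.2)).symm
  have hFN : F ≤ N := by
    rcases eq_or_ne L ⊥ with hL | hL
    · show Cfsg.layer G ⊔ Cfsg.fittingSubgroup G ≤ N
      rw [← hLdef, hL, bot_sup_eq]
      have hV1 : V ≠ ⊥ := fun h => hF1 (by show Cfsg.layer G ⊔ Cfsg.fittingSubgroup G = ⊥; rw [← hLdef, hL, bot_sup_eq]; exact h)
      have hNV : N ≤ V := huniq V hVn hV1
      have helem : ∀ x ∈ V, x ^ p = 1 ∧ ∀ y ∈ V, x * y = y * x := by
        let Sset : Set G := {w | (∃ x ∈ V, w = x ^ p) ∨ ∃ x ∈ V, ∃ y ∈ V, w = ⁅x, y⁆}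
        have hn : (Subgroup.closure Sset).Normal := by
          refine ⟨fun w hw g => ?_⟩
          induction hw using Subgroup.closure_induction with
          | mem w hw =>
            refine Subgroup.subset_closure ?_
            rcases hw with ⟨x, hx, rfl⟩ | ⟨x, hx, y, hy, rfl⟩
            · exact Or.inl ⟨g * x * g⁻¹, hVn.conj_mem x hx g, conj_pow.symm⟩
            · exact Or.inr ⟨g * x * g⁻¹, hVn.conj_mem x hx g, g * y * g⁻¹, hVn.conj_mem y hy g, by
                rw [commutatorElement_def, commutatorElement_def]; group⟩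
          | one => rw [mul_one, mul_inv_cancel]; exact one_mem _
          | mul a b _ _ ha hb =>
            rw [show g * (a * b) * g⁻¹ = (g * a * g⁻¹) * (g * b * g⁻¹) by group]; exact mul_mem ha hb
          | inv a _ ha => rw [show g * a⁻¹ * g⁻¹ = (g * a * g⁻¹)⁻¹ by group]; exact inv_mem ha
        have hbot := hfr _ hn ((Subgroup.closure_le _).2 (by
          rintro w (⟨x, hx, rfl⟩ | ⟨x, hx, y, hy, rfl⟩)
          · exact pow_mem_fr P (hVP hx)
          · exact comm_mem_fr P (hVP hx) (hVP hy)))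
        refine fun x hx => ⟨?_, fun y hy => commutatorElement_eq_one_iff_commute.1 ?_⟩
        · exact Subgroup.mem_bot.1 (hbot ▸ Subgroup.subset_closure (Or.inl ⟨x, hx, rfl⟩))
        · exact Subgroup.mem_bot.1 (hbot ▸ Subgroup.subset_closure (Or.inr ⟨x, hx, y, hy, rfl⟩))
      by_contra hnle
      haveI hnP : (N.subgroupOf (P : Subgroup G)).Normal := inferInstance
      obtain ⟨g, hg⟩ := exists_gen P.isPGroup' hgen (N.subgroupOf (P : Subgroup G)) (fun h => hnorm N hNn hN1 fun x hx =>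
        ⟨⟨x, hx.1⟩, h (Subgroup.mem_subgroupOf.2 hx.2), rfl⟩)
      have hdec : ∀ x ∈ (P : Subgroup G), ∃ i : ℤ, ∃ n ∈ N, x = (g : G) ^ i * n := fun x hx => by
        obtain ⟨a, ha, b, hb, hab⟩ := Subgroup.mem_sup_of_normal_right.1 (hg.ge (Subgroup.mem_top ⟨x, hx⟩))
        obtain ⟨i, rfl⟩ := Subgroup.mem_zpowers_iff.1 ha
        exact ⟨i, b, Subgroup.mem_subgroupOf.1 hb, (congrArg Subtype.val hab).symm⟩
      obtain ⟨v, hvV, hvN⟩ := SetLike.not_le_iff_exists.1 hnle
      obtain ⟨i, n, hn', rfl⟩ := hdec v (hVP hvV)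
      have heV : (g : G) ^ i ∈ V := by
        have := mul_mem hvV (inv_mem (hNV hn'))
        rwa [mul_inv_cancel_right] at this
      have heN : (g : G) ^ i ∉ N := fun h => hvN (mul_mem h hn')
      have hgV : (g : G) ∉ V := fun hgV => hna ⟨⟨fun a b => Subtype.ext (by
        have hPV : ∀ x ∈ (P : Subgroup G), x ∈ V := fun x hx => by
          obtain ⟨j, m, hm, rfl⟩ := hdec x hx
          exact mul_mem (zpow_mem hgV j) (hNV hm)
        exact (helem a (hPV a a.2)).2 b (hPV b b.2))⟩⟩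
      have hpi : (p : ℤ) ∣ i := by
        by_contra hnd
        obtain ⟨j, hj⟩ := IsPGroup.iff_orderOf.1 P.isPGroup' g
        rw [← Subgroup.orderOf_coe] at hj
        obtain ⟨u, w, huw⟩ := (Int.isCoprime_iff_nat_coprime.2 (show Nat.Coprime i.natAbs (p ^ j : ℤ).natAbs by
          rw [Int.natAbs_pow, Int.natAbs_natCast]
          exact Nat.Coprime.pow_right j (Nat.Coprime.symm ((Fact.out : p.Prime).coprime_iff_not_dvd.2 fun h' => hnd (Int.natCast_dvd.2 h')))))
        refine hgV ?_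
        have h1 := zpow_mem heV u
        rwa [← zpow_mul, show i * u = 1 + ((p : ℤ) ^ j) * (-w) by linarith, zpow_add, zpow_one, zpow_mul,
          show (g : G) ^ ((p : ℤ) ^ j) = 1 by rw [← Nat.cast_pow, zpow_natCast, ← hj, pow_orderOf_eq_one],
          one_zpow, mul_one] at h1
      obtain ⟨i', rfl⟩ := hpi
      -- a complement
      obtain ⟨W, hWn, hW1, hW2⟩ := exists_compl P N V hNV hVp (fun x hx => (helem x hx).2) _ heV heN (helem _ heV).1
        (fun u hu => by
          obtain ⟨j, m, hm, rfl⟩ := hdec u hu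
          have h1 := (helem _ (hNV hm)).2 _ heV
          rw [mul_assoc, h1, ← mul_assoc, ← mul_assoc, ← zpow_add, ← zpow_add, add_comm])
        (fun x hx => by
          obtain ⟨j, m, hm, rfl⟩ := hdec x (hVP hx)
          have hgj : (g : G) ^ j ∈ V := by
            have := mul_mem hx (inv_mem (hNV hm))
            rwa [mul_inv_cancel_right] at this
          -- `V` is `N` times the group of `g ^ (p * i')`
          by_contra hcon
          push Not at hcon
          have key : ∀ a : ℤ, (g : G) ^ a ∈ V → ∃ t : ℤ, (g : G) ^ a * ((g : G) ^ ((p : ℤ) * i')) ^ t ∈ N := by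
            intro a ha
            set q : G ⧸ N := QuotientGroup.mk' N (g : G)
            have hmk : ∀ b : ℤ, (g : G) ^ b ∈ N ↔ (orderOf q : ℤ) ∣ b := fun b => by
              rw [orderOf_dvd_iff_zpow_eq_one, ← map_zpow]
              exact (QuotientGroup.eq_one_iff _).symm
            obtain ⟨k, hk⟩ := IsPGroup.iff_orderOf.1 P.isPGroup' g
            obtain ⟨j', -, hj'⟩ := (Nat.dvd_prime_pow Fact.out).1 (show orderOf q ∣ p ^ k by
              rw [← hk, ← Subgroup.orderOf_coe]; exact orderOf_map_dvd _ _)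
            have hp0 : (p : ℤ) ≠ 0 := Int.natCast_ne_zero.2 (Fact.out : p.Prime).ne_zero
            rcases j' with _ | j'
            · exact absurd ((hmk _).2 (by rw [hj', pow_zero, Nat.cast_one]; exact one_dvd _)) heN
            have hdiv : ∀ b : ℤ, (g : G) ^ b ∈ V → (p : ℤ) ^ j' ∣ b := fun b hb => by
              have h1 : (orderOf q : ℤ) ∣ b * p := (hmk _).1 (by
                rw [zpow_mul, zpow_natCast, (helem _ hb).1]; exact one_mem _)
              rw [hj', Nat.cast_pow, pow_succ] at h1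
              exact Int.dvd_of_mul_dvd_mul_right hp0 h1
            obtain ⟨a', rfl⟩ := hdiv a ha
            obtain ⟨c, hc⟩ := hdiv _ heV
            have hnc : ¬ (p : ℤ) ∣ c := fun ⟨d, hd⟩ => heN ((hmk _).2 (by
              rw [hj', hc, hd, Nat.cast_pow, pow_succ]; exact ⟨d, by ring⟩))
            obtain ⟨u, w, huw⟩ := Int.isCoprime_iff_nat_coprime.2 (show Nat.Coprime c.natAbs (p : ℤ).natAbs by
              rw [Int.natAbs_natCast]
              exact Nat.Coprime.symm ((Fact.out : p.Prime).coprime_iff_not_dvd.2 fun h' => hnc (Int.natCast_dvd.2 h')))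
            refine ⟨-(a' * u), ?_⟩
            rw [← zpow_mul, ← zpow_add, hmk, hj', Nat.cast_pow, pow_succ, hc]
            exact ⟨a' * w, by linear_combination (-(p : ℤ) ^ j' * a') * huw⟩
          obtain ⟨t, ht⟩ := key j hgj
          refine hcon t ?_
          have h2 := (helem _ (hNV hm)).2 _ (V.zpow_mem heV t)
          rw [mul_assoc, h2, ← mul_assoc]
          exact mul_mem ht hm)
      exact hmeet W N hWn hNn hW1 hN1 hW2
    · show Cfsg.layer G ⊔ Cfsg.fittingSubgroup G ≤ N
      rw [show Cfsg.fittingSubgroup G = ⊥ from hVL hL, sup_bot_eq]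
      refine sSup_le fun K hK => ?_
      rcases CfsgLib.Inv.component_le_or_commute hK N with h | h
      · exact h
      exfalso
      have h1 : K ≤ Subgroup.centralizer (N : Set G) := Subgroup.commutator_eq_bot_iff_le_centralizer.1 h
      have h2 := huniq _ inferInstance fun h0 => CfsgLib.Inv.component_ne_bot hK (le_bot_iff.1 (h0 ▸ h1))
      haveI : IsMulCommutative N := ⟨⟨fun a b => Subtype.ext ((Subgroup.mem_centralizer_iff.1 (h2 b.2) a a.2))⟩⟩
      have h3 : N ≤ Cfsg.fittingSubgroup G := CfsgLib.Inv.subnormal_le_fitting hNn.isSubnormal (by letI : CommGroup N := { (inferInstance : Group N) with mul_comm := mul_comm' }; exact CommGroup.isNilpotent)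
      rw [show Cfsg.fittingSubgroup G = ⊥ from hVL hL] at h3
      exact hN1 (le_bot_iff.1 h3)
  have hFe : ∀ K : Subgroup G, K.Normal → K ≠ ⊥ → F ≤ K := fun K hK hK1 => hFN.trans (huniq K hK hK1)
  refine ⟨⟨hF1, hFe⟩, ?_, ?_⟩
  · obtain ⟨g, hg⟩ := exists_gen P.isPGroup' hgen (F.subgroupOf (P : Subgroup G)) (fun h => hnorm F hFn hF1 fun x hx =>
      ⟨⟨x, hx.1⟩, h (Subgroup.mem_subgroupOf.2 hx.2), rfl⟩)
    refine ⟨⟨QuotientGroup.mk' F (g : G), Subgroup.mem_map_of_mem _ g.2⟩, fun q => ?_⟩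
    obtain ⟨q, x, hx, rfl⟩ := q
    obtain ⟨a, ha, b, hb, hab⟩ := Subgroup.mem_sup_of_normal_right.1 (hg.ge (Subgroup.mem_top ⟨x, hx⟩))
    obtain ⟨i, rfl⟩ := Subgroup.mem_zpowers_iff.1 ha
    refine ⟨i, Subtype.ext ?_⟩
    show (QuotientGroup.mk' F (g : G)) ^ i = QuotientGroup.mk' F x
    rw [← map_zpow, show x = (g : G) ^ i * b from (congrArg Subtype.val hab).symm, map_mul,
      show QuotientGroup.mk' F (b : G) = 1 from (QuotientGroup.eq_one_iff _).2 (Subgroup.mem_subgroupOf.1 hb), mul_one]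
  · intro hab K₁ K₂ hK₁ hK₂
    by_contra hne
    push Not at hne
    have hLbot : L ≠ ⊥ := fun h => CfsgLib.Inv.component_ne_bot hK₁ (le_bot_iff.1 (h ▸ CfsgLib.Inv.component_le_layer hK₁))
    set S₁ : Set (Subgroup G) := {K | ∃ x ∈ (P : Subgroup G), K = K₁.map (MulAut.conj x).toMonoidHom}
    set D₁ := sSup S₁
    set D₂ := sSup {K | Cfsg.IsComponent K ∧ K ∉ S₁}
    have hS : ∀ u ∈ (P : Subgroup G), ∀ K, K ∈ S₁ → K.map (MulAut.conj u).toMonoidHom ∈ S₁ := by
      rintro u hu K ⟨x, hx, rfl⟩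
      refine ⟨u * x, mul_mem hu hx, ?_⟩
      rw [Subgroup.map_map]; congr 1; ext y; simp [mul_assoc]
    have hS₁c : ∀ K ∈ S₁, Cfsg.IsComponent K := by
      rintro K ⟨x, hx, rfl⟩; exact CfsgLib.Inv.isComponent_conj hK₁ x
    have hK₁D : K₁ ≤ D₁ := le_sSup ⟨1, one_mem _, by ext y; simp⟩
    have hK₂D : K₂ ≤ D₂ := le_sSup ⟨hK₂, fun ⟨x, hx, e⟩ => hne x hx e⟩
    have hnP : ∀ (S : Set (Subgroup G)), (∀ u ∈ (P : Subgroup G), ∀ K, K ∈ S → K.map (MulAut.conj u).toMonoidHom ∈ S) →
        (P : Subgroup G) ≤ Subgroup.normalizer ((sSup S : Subgroup G) : Set G) := fun S hS u hu => by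
      refine Subgroup.mem_normalizer_fintype fun w hw => ?_
      have h1 : sSup S ≤ (sSup S).comap (MulAut.conj u).toMonoidHom := sSup_le fun K hK =>
        Subgroup.map_le_iff_le_comap.1 (le_sSup (hS u hu K hK))
      exact h1 hw
    have hn₂ : ∀ u ∈ (P : Subgroup G), ∀ K, K ∈ {K | Cfsg.IsComponent K ∧ K ∉ S₁} →
        K.map (MulAut.conj u).toMonoidHom ∈ {K | Cfsg.IsComponent K ∧ K ∉ S₁} := by
      rintro u hu K ⟨hK, hKn⟩
      refine ⟨CfsgLib.Inv.isComponent_conj hK u, fun h => hKn ?_⟩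
      have := hS u⁻¹ (inv_mem hu) _ h
      rwa [Subgroup.map_map, show ((MulAut.conj u⁻¹).toMonoidHom.comp (MulAut.conj u).toMonoidHom) = MonoidHom.id G by
        ext y; simp [mul_assoc], Subgroup.map_id] at this
    have hsub : ∀ (S : Set (Subgroup G)), (∀ K ∈ S, Cfsg.IsComponent K) → (sSup S).IsSubnormal := fun S hS => by
      have hle : sSup S ≤ L := sSup_le fun K hK => CfsgLib.Inv.component_le_layer (hS K hK)
      refine Subgroup.IsSubnormal.step _ _ hle hLn.isSubnormal ((Subgroup.normal_subgroupOf_iff_le_normalizer hle).2 fun l hl =>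
        Subgroup.mem_normalizer_fintype fun w hw => ?_)
      have h1 : sSup S ≤ (sSup S).comap (MulAut.conj l).toMonoidHom := sSup_le fun K hK x hx =>
        (le_sSup hK : K ≤ sSup S) ((Subgroup.mem_normalizer_iff.1 (CfsgLib.Inv.component_normal_in_layer (hS K hK) hl) x).1 hx)
      exact h1 hw
    have hnot : ∀ (S : Set (Subgroup G)), (∀ K ∈ S, Cfsg.IsComponent K) →
        (∀ u ∈ (P : Subgroup G), ∀ K, K ∈ S → K.map (MulAut.conj u).toMonoidHom ∈ S) → ∀ K ∈ S,
        ¬ (P : Subgroup G) ⊓ sSup S ≤ fr P := fun S hSc hSi K hK hle => by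
      have h1 := isPGroup_of_le_fr P hcore _ (hsub S hSc) (hnP S hSi) hle
      haveI := (h1.to_le (le_sSup hK)).isNilpotent
      exact CfsgLib.Inv.component_not_solvable (hSc K hK) inferInstance
    refine no_two P hgen hna D₁ D₂ (hnP S₁ hS) (hnP _ hn₂) ?_ (hnot S₁ hS₁c hS K₁ ⟨1, one_mem _, by ext y; simp⟩)
      (hnot _ (fun K hK => hK.1) hn₂ K₂ ⟨hK₂, fun ⟨x, hx, e⟩ => hne x hx e⟩)
    have hcomm : D₁ ≤ Subgroup.centralizer (D₂ : Set G) := sSup_le fun A hA => Subgroup.le_centralizer_iff.1 (sSup_le fun B hB =>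
      Subgroup.commutator_eq_bot_iff_le_centralizer.1 (CfsgLib.Inv.components_commute hB.1 (hS₁c A hA) fun e => hB.2 (e ▸ hA)))
    have hL12 : L ≤ D₁ ⊔ D₂ := sSup_le fun K hK => by
      by_cases hKS : K ∈ S₁
      · exact le_sup_of_le_left (le_sSup hKS)
      · exact le_sup_of_le_right (le_sSup ⟨hK, hKS⟩)
    have hcen : D₁ ⊓ D₂ ≤ L ⊓ Subgroup.centralizer (L : Set G) := by
      intro x hx
      refine Subgroup.mem_inf.2 ⟨(sSup_le fun K hK => CfsgLib.Inv.component_le_layer (hS₁c K hK)) hx.1, ?_⟩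
      have hD : D₁ ⊔ D₂ ≤ Subgroup.centralizer ({x} : Set G) := sup_le
        (fun y hy => Subgroup.mem_centralizer_singleton_iff.2 (Subgroup.mem_centralizer_iff.1 (hcomm hy) x hx.2).symm)
        (fun y hy => Subgroup.mem_centralizer_singleton_iff.2 (Subgroup.mem_centralizer_iff.1 (hcomm hx.1) y hy))
      exact Subgroup.mem_centralizer_iff.2 fun y hy => Subgroup.mem_centralizer_singleton_iff.1 (hD (hL12 hy))
    haveI : IsMulCommutative (L ⊓ Subgroup.centralizer (L : Set G) : Subgroup G) :=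
      ⟨⟨fun a b => Subtype.ext (Subgroup.mem_centralizer_iff.1 b.2.2 a a.2.1)⟩⟩
    have hz : L ⊓ Subgroup.centralizer (L : Set G) ≤ V :=
      CfsgLib.Inv.subnormal_le_fitting (Subgroup.Normal.isSubnormal inferInstance) (by letI : CommGroup (L ⊓ Subgroup.centralizer (L : Set G) : Subgroup G) := { (inferInstance : Group (L ⊓ Subgroup.centralizer (L : Set G) : Subgroup G)) with mul_comm := mul_comm' }; exact CommGroup.isNilpotent)
    exact le_bot_iff.1 (hVL hLbot ▸ hcen.trans hz)

end Cfsg.Agent.S4172
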