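import Cfsg.Statements.S4176
import Cfsg.Agent.Solv.PLengthOne
import Cfsg.Agent.Perm.HallHigman
import Mathlib
-- import your own Cfsg.Agent.* helpers here

set_option autoImplicit false
open Cfsg

namespace Cfsg.Agent.S4176

universe u v w

section
variable {N : Type*} [Group N] [Finite N]

theorem cover_of_coprime (A B : Subgroup N) (h : A.index.Coprime B.index) (g : N) :
    ∃ z ∈ B, z⁻¹ * g ∈ A := by
  have hrel : A.relIndex B = A.index := by
    refine le_antisymm ?_ (Nat.le_of_dvd (Nat.pos_of_ne_zero fun h0 =>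
      Subgroup.index_ne_zero_of_finite (H := A ⊓ B) ?_) ?_)
    · have h := Subgroup.relIndex_le_of_le_right (H := A) (le_top : B ≤ ⊤)
        (by rw [Subgroup.relIndex_top_right]; exact Subgroup.index_ne_zero_of_finite)
      rwa [Subgroup.relIndex_top_right] at h
    · rw [← Subgroup.relIndex_mul_index (inf_le_right : A ⊓ B ≤ B), Subgroup.inf_relIndex_right, h0, zero_mul]
    · refine h.dvd_of_dvd_mul_right ?_
      rw [← Subgroup.inf_relIndex_right, Subgroup.relIndex_mul_index inf_le_right]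
      exact Subgroup.index_dvd_of_le inf_le_left
  let f : B ⧸ A.subgroupOf B → N ⧸ A :=
    Quotient.lift (fun q => (QuotientGroup.mk (q : N) : N ⧸ A)) fun a b hab => by
      rw [QuotientGroup.eq]
      exact Subgroup.mem_subgroupOf.1 (QuotientGroup.leftRel_apply.1 hab)
  have hinj : Function.Injective f := by
    intro a b
    refine Quotient.inductionOn₂' a b fun a b h => QuotientGroup.eq.2 ?_
    exact Subgroup.mem_subgroupOf.2 (QuotientGroup.eq.1 h)
  obtain ⟨q, hq⟩ := (hinj.bijective_of_nat_card_le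
    (show Nat.card (N ⧸ A) ≤ Nat.card (B ⧸ A.subgroupOf B) from hrel.ge)).2 (QuotientGroup.mk g)
  obtain ⟨z, rfl⟩ := QuotientGroup.mk_surjective q
  exact ⟨z, z.2, QuotientGroup.eq.1 hq⟩

theorem relIndex_dvd_index (A M : Subgroup N) [M.Normal] : A.relIndex M ∣ A.index := by
  have h1 : (A ⊓ M).relIndex A = M.relIndex (A ⊔ M) := by
    rw [Subgroup.relIndex_sup_right, inf_comm, Subgroup.inf_relIndex_right]
  have h2 := Subgroup.relIndex_mul_relIndex ⊥ (A ⊓ M) A bot_le inf_le_left
  have h3 := Subgroup.relIndex_mul_relIndex ⊥ M (A ⊔ M) bot_le le_sup_right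
  have h4 := Subgroup.relIndex_mul_relIndex ⊥ (A ⊓ M) M bot_le inf_le_right
  have h5 := Subgroup.relIndex_mul_relIndex ⊥ A (A ⊔ M) bot_le le_sup_left
  have hpos : ∀ K L : Subgroup N, K.relIndex L ≠ 0 := fun K L =>
    Subgroup.index_ne_zero_of_finite (H := K.subgroupOf L)
  rw [Subgroup.inf_relIndex_right] at h4
  have h6 : A.relIndex M = A.relIndex (A ⊔ M) := by
    refine Nat.eq_of_mul_eq_mul_left (Nat.pos_of_ne_zero (mul_ne_zero (hpos ⊥ (A ⊓ M))
      (hpos (A ⊓ M) A))) ?_
    calc (⊥ : Subgroup N).relIndex (A ⊓ M) * (A ⊓ M).relIndex A * A.relIndex M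
        = ((⊥ : Subgroup N).relIndex (A ⊓ M) * A.relIndex M) * (A ⊓ M).relIndex A := by ring
      _ = (⊥ : Subgroup N).relIndex (A ⊔ M) := by rw [h4, h1, h3]
      _ = _ := by rw [h2, h5]
  rw [h6, ← Subgroup.relIndex_mul_index (le_sup_left : A ≤ A ⊔ M)]
  exact Dvd.intro _ rfl

end

theorem finrank_invariants_le_one_and_fixed {k : Type u} [Field k] (p : ℕ) [Fact p.Prime] [CharP k p] :
    ∀ (n : ℕ) {H : Type v} [Group H] [Finite H], Nat.card H ≤ n → Cfsg.IsPSolvable p H →
      ∀ {V : Type w} [AddCommGroup V] [Module k V] (ρ : Representation k H V) (a : V),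
        (∃ P : Sylow p H, ∀ x : H, x ∈ (P : Subgroup H) → ρ x a = a) →
        Submodule.span k {u : V | ∃ h : H, ρ h a = u} = ⊤ →
        Module.finrank k ρ.invariants ≤ 1 ∧
        ∀ b : V, (Nat.card {u : V | ∃ h : H, ρ h a = u}).Coprime
          (Nat.card {u : V | ∃ h : H, ρ h b = u}) → ∀ h : H, ρ h b = b := by
  intro n
  induction n with
  | zero =>
    intro H _ _ hn
    have := Nat.card_pos (α := H)
    omega
  | succ n ih =>
  intro H _ _ hn hsol V _ _ ρ a hfix hspan
  classical
  haveI := Fintype.ofFinite H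
  obtain ⟨P, hP⟩ := hfix
  rcases subsingleton_or_nontrivial H with hH | hH
  · have h1 : ∀ (h : H) (x : V), ρ h x = x := fun h x => by
      rw [Subsingleton.elim h 1, map_one]; rfl
    refine ⟨?_, fun b _ h => h1 h b⟩
    have h2 : ρ.invariants ≤ Submodule.span k ({a} : Set V) := fun x _ => by
      have h3 : {u : V | ∃ h : H, ρ h a = u} ⊆ {a} := by
        rintro u ⟨h, rfl⟩; exact h1 h a
      exact Submodule.span_mono h3 (hspan ▸ Submodule.mem_top)
    exact le_trans (Submodule.finrank_mono h2) (le_trans (finrank_span_le_card _) (by simp))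
  have hlt : ∀ (N : Subgroup H) [N.Normal], N ≠ ⊥ → Nat.card (H ⧸ N) ≤ n := by
    intro N _ hN
    have h1 := Subgroup.card_eq_card_quotient_mul_card_subgroup N
    haveI : Nontrivial N := (Subgroup.nontrivial_iff_ne_bot _).2 hN
    have h2 : 1 < Nat.card N := Finite.one_lt_card
    have h3 : 0 < Nat.card (H ⧸ N) := Nat.card_pos
    nlinarith
  have hSyl : ∀ (N : Subgroup H) [N.Normal], ∃ P' : Sylow p (H ⧸ N),
      ∀ y ∈ (P' : Subgroup (H ⧸ N)), ∃ x ∈ (P : Subgroup H), (x : H ⧸ N) = y := by
    intro N _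
    refine ⟨P.mapSurjective (QuotientGroup.mk'_surjective N), fun y hy => ?_⟩
    obtain ⟨x, hx, rfl⟩ := hy
    exact ⟨x, hx, rfl⟩
  by_cases hpc : Cfsg.pCore p H = ⊥
  swap
  · set N := Cfsg.pCore p H with hN
    haveI := CfsgLib.Solv.pCore_normal (G := H) (p := p)
    have hNP : N ≤ (P : Subgroup H) := by
      obtain ⟨Q, hQ⟩ := (CfsgLib.Solv.pCore_isPGroup (G := H) (p := p)).exists_le_sylow
      obtain ⟨g, hg⟩ := MulAction.exists_smul_eq H Q P
      intro y hy
      rw [← hg, Sylow.coe_subgroup_smul]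
      have h1 : g⁻¹ * y * g⁻¹⁻¹ ∈ (Q : Subgroup H) :=
        hQ (Subgroup.Normal.conj_mem inferInstance y hy g⁻¹)
      exact ⟨_, h1, show g * (g⁻¹ * y * g⁻¹⁻¹) * g⁻¹ = y by group⟩
    have htriv : ∀ x ∈ N, ∀ y : V, ρ x y = y := by
      intro x hx y
      have hy : y ∈ Submodule.span k {u : V | ∃ h : H, ρ h a = u} := hspan ▸ Submodule.mem_top
      refine Submodule.span_induction (p := fun y _ => ρ x y = y) ?_ (map_zero _) ?_ ?_ hy
      · rintro _ ⟨h, rfl⟩
        have h1 : h⁻¹ * x * h⁻¹⁻¹ ∈ N := Subgroup.Normal.conj_mem inferInstance x hx h⁻¹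
        calc ρ x (ρ h a) = ρ (h * (h⁻¹ * x * h⁻¹⁻¹)) a := by
              rw [← Module.End.mul_apply, ← map_mul]; congr 2; group
          _ = ρ h a := by rw [map_mul, Module.End.mul_apply, hP _ (hNP h1)]
      · intro y z _ _ hy hz; rw [map_add, hy, hz]
      · intro c y _ hy; rw [map_smul, hy]
    let ρ' : Representation k (H ⧸ N) V :=
      QuotientGroup.lift N ρ fun x hx => LinearMap.ext fun y => htriv x hx y
    have hρ' : ∀ h : H, ρ' (h : H ⧸ N) = ρ h := fun h => rfl
    have horb : ∀ y : V, {u : V | ∃ h : H, ρ h y = u} = {u : V | ∃ h : H ⧸ N, ρ' h y = u} := by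
      intro y; ext u
      constructor
      · rintro ⟨h, rfl⟩; exact ⟨(h : H ⧸ N), rfl⟩
      · rintro ⟨h, rfl⟩
        obtain ⟨h, rfl⟩ := QuotientGroup.mk_surjective h
        exact ⟨h, rfl⟩
    obtain ⟨P', hP'⟩ := hSyl N
    obtain ⟨r1, r2⟩ := ih (hlt N hpc) (CfsgLib.Perm.isPSolvable_quotient hsol N) ρ' a
      ⟨P', fun y hy => by obtain ⟨x, hx, rfl⟩ := hP' y hy; rw [hρ']; exact hP x hx⟩
      (by rw [← horb]; exact hspan)
    refine ⟨?_, fun b hb h => ?_⟩
    · have : ρ.invariants = ρ'.invariants := by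
        ext y
        rw [Representation.mem_invariants, Representation.mem_invariants]
        exact ⟨fun h g => by obtain ⟨g, rfl⟩ := QuotientGroup.mk_surjective g; exact h g,
          fun h g => h (g : H ⧸ N)⟩
      rw [this]; exact r1
    · rw [horb, horb] at hb
      exact r2 b hb (h : H ⧸ N)
  -- a nontrivial normal subgroup of order prime to `p`
  set N := Cfsg.pPrimeCore p H with hN
  haveI := CfsgLib.Solv.pPrimeCore_normal H p
  have hNne : N ≠ ⊥ := CfsgLib.Solv.PLen.pPrimeCore_ne_bot_of_pCore_eq_bot hsol hpc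
  have hne : ∀ K : Subgroup H, K ≤ N → (Nat.card K : k) ≠ 0 := fun K hK h0 =>
    CfsgLib.Solv.not_dvd_card_pPrimeCore (p := p) (G := H)
      (((CharP.cast_eq_zero_iff k p _).1 h0).trans (Subgroup.card_dvd_of_le hK))
  -- averaging
  let e : Subgroup H → (V →ₗ[k] V) := fun K => (Nat.card K : k)⁻¹ • ∑ x : K, ρ (x : H)
  have hefix : ∀ (K : Subgroup H), K ≤ N → ∀ y : V, (∀ x ∈ K, ρ x y = y) → e K y = y := by
    intro K hK y hy
    simp only [e, LinearMap.smul_apply, LinearMap.sum_apply]
    rw [Finset.sum_congr rfl (fun (x : K) _ => hy (x : H) x.2), Finset.sum_const, Finset.card_univ,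
      ← Nat.cast_smul_eq_nsmul k, smul_smul, Fintype.card_eq_nat_card, inv_mul_cancel₀ (hne K hK),
      one_smul]
  have heinv : ∀ (K : Subgroup H) (y : V) (z : K), e K (ρ (z : H) y) = e K y := by
    intro K y z
    simp only [e, LinearMap.smul_apply, LinearMap.sum_apply]
    congr 1
    refine Fintype.sum_equiv (Equiv.mulRight z) _ _ fun x => ?_
    simp [map_mul]
  have hemem : ∀ (K : Subgroup H) (y : V), ∀ x ∈ K, ρ x (e K y) = e K y := by
    intro K y x hx
    simp only [e, LinearMap.smul_apply, LinearMap.sum_apply, map_smul, map_sum]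
    congr 1
    refine Fintype.sum_equiv (Equiv.mulLeft ⟨x, hx⟩) _ _ fun z => ?_
    simp [map_mul]
  have hecomm : ∀ (h : H) (y : V), ρ h (e N y) = e N (ρ h y) := by
    intro h y
    simp only [e, LinearMap.smul_apply, LinearMap.sum_apply, map_smul, map_sum]
    congr 1
    refine Fintype.sum_equiv
      { toFun := fun (z : N) => (⟨h * (z : H) * h⁻¹, Subgroup.Normal.conj_mem inferInstance _ z.2 h⟩ : N)
        invFun := fun (z : N) => (⟨h⁻¹ * (z : H) * h⁻¹⁻¹, Subgroup.Normal.conj_mem inferInstance _ z.2 h⁻¹⟩ : N)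
        left_inv := fun z => Subtype.ext (by simp [mul_assoc])
        right_inv := fun z => Subtype.ext (by simp [mul_assoc]) } _ _ fun z => ?_
    show ρ h (ρ (z : H) y) = ρ (h * z * h⁻¹) (ρ h y)
    rw [← Module.End.mul_apply, ← map_mul, ← Module.End.mul_apply, ← map_mul, inv_mul_cancel_right]
  let W : Submodule k V := Representation.invariants (ρ.comp N.subtype)
  have hW : ∀ y, y ∈ W ↔ ∀ x ∈ N, ρ x y = y := fun y => by
    rw [Representation.mem_invariants]
    exact ⟨fun h x hx => h ⟨x, hx⟩, fun h x => h x x.2⟩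
  let ρ' : Representation k (H ⧸ N) W := Representation.quotientToInvariants ρ N
  have hρ' : ∀ (h : H) (y : W), ((ρ' (h : H ⧸ N) y : W) : V) = ρ h y := fun h y => rfl
  have heW : ∀ y, e N y ∈ W := fun y => (hW _).2 fun x hx => hemem N y x hx
  set a' : W := ⟨e N a, heW a⟩ with ha'
  have hspan' : Submodule.span k {u : W | ∃ h : H ⧸ N, ρ' h a' = u} = ⊤ := by
    rw [eq_top_iff]
    intro y _
    have h1 : Submodule.span k {u : V | ∃ h : H, ρ h a = u} ≤
        ((Submodule.span k {u : W | ∃ h : H ⧸ N, ρ' h a' = u}).map W.subtype).comap (e N) := by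
      rw [Submodule.span_le]
      rintro _ ⟨h, rfl⟩
      refine ⟨ρ' (h : H ⧸ N) a', Submodule.subset_span ⟨_, rfl⟩, ?_⟩
      show ρ h (e N a) = e N (ρ h a)
      exact hecomm h a
    obtain ⟨z, hz, hze⟩ := h1 (hspan ▸ Submodule.mem_top : (y : V) ∈ _)
    rw [hefix N le_rfl _ ((hW _).1 y.2)] at hze
    exact (Subtype.ext hze : z = y) ▸ hz
  obtain ⟨P', hP'⟩ := hSyl N
  obtain ⟨r1, r2⟩ := ih (hlt N hNne) (CfsgLib.Perm.isPSolvable_quotient hsol N) ρ' a'
    ⟨P', fun y hy => by
      obtain ⟨x, hx, rfl⟩ := hP' y hy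
      refine Subtype.ext ?_
      rw [hρ']
      show ρ x (e N a) = e N a
      rw [hecomm, hP x hx]⟩ hspan'
  have hinvW : ρ.invariants ≤ W := fun y hy => (hW y).2 fun x _ => hy x
  refine ⟨?_, fun b hb => ?_⟩
  · have : ρ.invariants = ρ'.invariants.map W.subtype := by
      ext y
      constructor
      · intro hy
        refine ⟨⟨y, hinvW hy⟩, fun g => ?_, rfl⟩
        obtain ⟨g, rfl⟩ := QuotientGroup.mk_surjective g
        exact Subtype.ext (hy g)
      · rintro ⟨z, hz, rfl⟩ g
        exact congrArg Subtype.val (hz (g : H ⧸ N))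
    rw [this, ← LinearEquiv.finrank_eq (Submodule.equivMapOfInjective _ W.subtype_injective _)]
    exact r1
  letI : MulAction H V :=
    { smul := fun h y => ρ h y
      one_smul := fun y => by show ρ 1 y = y; rw [map_one]; rfl
      mul_smul := fun g h y => by show ρ (g * h) y = ρ g (ρ h y); rw [map_mul]; rfl }
  have horb : ∀ y : V, Nat.card {u : V | ∃ h : H, ρ h y = u} = (MulAction.stabilizer H y).index := by
    intro y; rw [MulAction.index_stabilizer]; rfl
  rw [horb, horb] at hb
  have hbW : b ∈ W := by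
    set B := MulAction.stabilizer H b ⊓ N with hB
    have hBN : B ≤ N := inf_le_right
    have heq : ∀ y, e B y = e N y := by
      intro y
      have hy : y ∈ Submodule.span k {u : V | ∃ h : H, ρ h a = u} := hspan ▸ Submodule.mem_top
      refine Submodule.span_induction (p := fun y _ => e B y = e N y) ?_ (by simp) ?_ ?_ hy
      · rintro _ ⟨h, rfl⟩
        have hAi : (MulAction.stabilizer H (ρ h a)).index = (MulAction.stabilizer H a).index := by
          rw [← horb, ← horb]
          congr 1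
          have : {u : V | ∃ g : H, ρ g (ρ h a) = u} = {u : V | ∃ g : H, ρ g a = u} := by
            ext u
            constructor
            · rintro ⟨g, rfl⟩; exact ⟨g * h, by rw [map_mul]; rfl⟩
            · rintro ⟨g, rfl⟩
              exact ⟨g * h⁻¹, by rw [← Module.End.mul_apply, ← map_mul, inv_mul_cancel_right]⟩
          rw [this]
        have hcop : ((MulAction.stabilizer H (ρ h a)).subgroupOf N).index.Coprime
            ((MulAction.stabilizer H b).subgroupOf N).index :=
          Nat.Coprime.of_dvd (relIndex_dvd_index _ N) (relIndex_dvd_index _ N) (hAi.symm ▸ hb)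
        have hcov : ∀ x ∈ N, e B (ρ x (ρ h a)) = e B (ρ h a) := by
          intro x hx
          obtain ⟨z, hz, hzx⟩ := cover_of_coprime _ _ hcop ⟨x, hx⟩
          have hzB : (z : H) ∈ B := ⟨hz, z.2⟩
          have h2 : ρ ((z : H)⁻¹ * x) (ρ h a) = ρ h a := hzx
          calc e B (ρ x (ρ h a)) = e B (ρ (z : H) (ρ ((z : H)⁻¹ * x) (ρ h a))) := by
                rw [← Module.End.mul_apply (ρ (z : H)), ← map_mul, mul_inv_cancel_left]
            _ = e B (ρ h a) := by rw [h2]; exact heinv B _ ⟨(z : H), hzB⟩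
        have h3 : e B (e N (ρ h a)) = e B (ρ h a) := by
          have h4 : ∀ x : N, e B (ρ (x : H) (ρ h a)) = e B (ρ h a) := fun x => hcov x x.2
          rw [show e N (ρ h a) = (Nat.card N : k)⁻¹ • ∑ x : N, ρ (x : H) (ρ h a) by simp [e]]
          rw [map_smul, map_sum, Finset.sum_congr rfl fun x _ => h4 x, Finset.sum_const,
            Finset.card_univ, ← Nat.cast_smul_eq_nsmul k, smul_smul, Fintype.card_eq_nat_card,
            inv_mul_cancel₀ (hne N le_rfl), one_smul]
        rw [← h3]
        exact hefix B hBN _ fun x hx => hemem N _ x (hBN hx)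
      · intro y z _ _ hy hz; rw [map_add, map_add, hy, hz]
      · intro c y _ hy; rw [map_smul, map_smul, hy]
    have h5 : e B b = b := hefix B hBN b fun x hx => hx.1
    rw [← h5, heq]
    exact heW b
  have horb' : ∀ y : W, Nat.card {u : W | ∃ g : H ⧸ N, ρ' g y = u} =
      Nat.card {u : V | ∃ h : H, ρ h (y : V) = u} := by
    intro y
    have him : {u : V | ∃ h : H, ρ h (y : V) = u} =
        Subtype.val '' {u : W | ∃ g : H ⧸ N, ρ' g y = u} := by
      ext u
      constructor
      · rintro ⟨h, rfl⟩; exact ⟨_, ⟨(h : H ⧸ N), rfl⟩, hρ' h y⟩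
      · rintro ⟨_, ⟨g, rfl⟩, rfl⟩
        obtain ⟨g, rfl⟩ := QuotientGroup.mk_surjective g
        exact ⟨g, (hρ' g y).symm⟩
    rw [him, Nat.card_image_of_injective Subtype.val_injective]
  intro h
  have := r2 ⟨b, hbW⟩ (by
    rw [horb', horb', horb, horb]
    refine Nat.Coprime.of_dvd_left (Subgroup.index_dvd_of_le fun g hg => ?_) hb
    rw [MulAction.mem_stabilizer_iff] at hg ⊢
    show ρ g (e N a) = e N a
    rw [hecomm, show ρ g a = a from hg]) (h : H ⧸ N)
  exact congrArg Subtype.val this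

end Cfsg.Agent.S4176

namespace Cfsg.Agent.S4176

/-- Let k be a field of prime characteristic p, H a finite p-soluble group and ρ a k-linear representation of H on V. Let a be a vector that is fixed by some Sylow p-subgroup of H and whose H-orbit spans V. Then the space of H-fixed vectors has dimension at most 1, and every vector b whose H-orbit has size coprime to the size of the orbit of a is fixed by H. -/
theorem result {k V H : Type*} [Field k] (p : ℕ) [Fact p.Prime] [CharP k p] [AddCommGroup V] [Module k V]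
    [Group H] [Finite H] (hsol : Cfsg.IsPSolvable p H) (ρ : Representation k H V) (a : V)
    (hfix : ∃ P : Sylow p H, ∀ x : H, x ∈ (P : Subgroup H) → ρ x a = a)
    (hspan : Submodule.span k {u : V | ∃ h : H, ρ h a = u} = ⊤) :
    Module.finrank k ρ.invariants ≤ 1 ∧
    ∀ b : V, (Nat.card {u : V | ∃ h : H, ρ h a = u}).Coprime (Nat.card {u : V | ∃ h : H, ρ h b = u}) → ∀ h : H, ρ h b = b := by
  exact finrank_invariants_le_one_and_fixed p (Nat.card H) le_rfl hsol ρ a hfix hspan

end Cfsg.Agent.S4176
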