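import Cfsg.Statements.S4177


set_option autoImplicit false
set_option linter.style.haveILetI false
open Cfsg

namespace Cfsg.Agent.S4177

/-- Let k be a field whose characteristic does not divide the order of the finite group H (for instance a field of characteristic zero), and ρ a k-linear representation of H on V. Let a be a vector whose H-orbit spans V. Then the space of H-fixed vectors has dimension at most 1, and every vector b whose H-orbit has size coprime to the size of the orbit of a is fixed by H. -/
theorem result {k V H : Type*} [Field k] [AddCommGroup V] [Module k V] [Group H] [Finite H]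
    (hchar : ¬ ringChar k ∣ Nat.card H) (ρ : Representation k H V) (a : V)
    (hspan : Submodule.span k {u : V | ∃ h : H, ρ h a = u} = ⊤) :
    Module.finrank k ρ.invariants ≤ 1 ∧
    ∀ b : V, (Nat.card {u : V | ∃ h : H, ρ h a = u}).Coprime (Nat.card {u : V | ∃ h : H, ρ h b = u}) → ∀ h : H, ρ h b = b := by
  classical
  haveI := Fintype.ofFinite H
  have hne : ∀ K : Subgroup H, (Nat.card K : k) ≠ 0 := fun K h0 =>
    hchar (((ringChar.spec k _).1 h0).trans (Subgroup.card_subgroup_dvd_card K))
  -- sums over subgroups
  let av : Subgroup H → (V →ₗ[k] V) := fun K => ∑ x : K, ρ (x : H)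
  have havfix : ∀ (K : Subgroup H) (v : V), (∀ x ∈ K, ρ x v = v) → av K v = (Nat.card K : k) • v := by
    intro K v hv
    simp only [av, LinearMap.sum_apply]
    rw [Finset.sum_congr rfl (fun (x : K) _ => hv (x : H) x.2), Finset.sum_const, Finset.card_univ,
      Nat.card_eq_fintype_card, Nat.cast_smul_eq_nsmul]
  have havinv : ∀ (K : Subgroup H) (v : V) (z : K), av K (ρ (z : H) v) = av K v := by
    intro K v z
    simp only [av, LinearMap.sum_apply]
    refine Fintype.sum_equiv (Equiv.mulRight z) _ _ fun x => ?_
    simp [map_mul]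
  have havspan : ∀ (K : Subgroup H), (∀ h : H, ∃ z ∈ K, ρ h a = ρ z a) → ∀ v : V,
      (∀ x ∈ K, ρ x v = v) → v ∈ Submodule.span k ({av K a} : Set V) := by
    intro K hK v hv
    have h1 : Submodule.span k {u : V | ∃ h : H, ρ h a = u} ≤
        (Submodule.span k ({av K a} : Set V)).comap (av K) := by
      rw [Submodule.span_le]
      rintro _ ⟨h, rfl⟩
      obtain ⟨z, hz, he⟩ := hK h
      rw [SetLike.mem_coe, Submodule.mem_comap, he, havinv K a ⟨z, hz⟩]
      exact Submodule.mem_span_singleton_self _
    rw [hspan] at h1
    have h2 := h1 (Submodule.mem_top (x := v))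
    rw [Submodule.mem_comap, havfix K v hv] at h2
    exact (Submodule.smul_mem_iff _ (hne K)).1 h2
  refine ⟨?_, fun b hb => ?_⟩
  · have h1 : ρ.invariants ≤ Submodule.span k ({av ⊤ a} : Set V) := fun v hv =>
      havspan ⊤ (fun h => ⟨h, Subgroup.mem_top _, rfl⟩) v fun x _ => hv x
    refine le_trans (Submodule.finrank_mono h1) ?_
    exact le_trans (finrank_span_le_card _) (by simp)
  · letI : MulAction H V :=
      { smul := fun h v => ρ h v
        one_smul := fun v => by show ρ 1 v = v; rw [map_one]; rfl
        mul_smul := fun g h v => by show ρ (g * h) v = ρ g (ρ h v); rw [map_mul]; rfl }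
    set A := MulAction.stabilizer H a
    set B := MulAction.stabilizer H b
    have hA : Nat.card {u : V | ∃ h : H, ρ h a = u} = A.index := by
      rw [MulAction.index_stabilizer]; rfl
    have hB : Nat.card {u : V | ∃ h : H, ρ h b = u} = B.index := by
      rw [MulAction.index_stabilizer]; rfl
    rw [hA, hB] at hb
    have hrel : A.relIndex B = A.index := by
      refine le_antisymm ?_ (Nat.le_of_dvd (Nat.pos_of_ne_zero fun h0 =>
        Subgroup.index_ne_zero_of_finite (H := A ⊓ B) ?_) ?_)
      · have h := Subgroup.relIndex_le_of_le_right (H := A) (le_top : B ≤ ⊤)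
          (by rw [Subgroup.relIndex_top_right]; exact Subgroup.index_ne_zero_of_finite)
        rwa [Subgroup.relIndex_top_right] at h
      · rw [← Subgroup.relIndex_mul_index (inf_le_right : A ⊓ B ≤ B), Subgroup.inf_relIndex_right, h0, zero_mul]
      · refine hb.dvd_of_dvd_mul_right ?_
        rw [← Subgroup.inf_relIndex_right, Subgroup.relIndex_mul_index inf_le_right]
        exact Subgroup.index_dvd_of_le inf_le_left
    have hcov : ∀ h : H, ∃ z ∈ B, ρ h a = ρ z a := by
      let f : B ⧸ A.subgroupOf B → H ⧸ A :=
        Quotient.lift (fun q => (QuotientGroup.mk (q : H) : H ⧸ A)) fun a b hab => by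
          rw [QuotientGroup.eq]
          exact Subgroup.mem_subgroupOf.1 (QuotientGroup.leftRel_apply.1 hab)
      have hinj : Function.Injective f := by
        intro a b
        refine Quotient.inductionOn₂' a b fun a b h => QuotientGroup.eq.2 ?_
        exact Subgroup.mem_subgroupOf.2 (QuotientGroup.eq.1 h)
      have hbij := hinj.bijective_of_nat_card_le (show Nat.card (H ⧸ A) ≤ Nat.card (B ⧸ A.subgroupOf B) from hrel.ge)
      intro h
      obtain ⟨q, hq⟩ := hbij.2 (QuotientGroup.mk h)
      obtain ⟨z, rfl⟩ := QuotientGroup.mk_surjective q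
      refine ⟨z, z.2, ?_⟩
      have h5 : (z : H)⁻¹ * h ∈ A := QuotientGroup.eq.1 hq
      rw [MulAction.mem_stabilizer_iff, mul_smul, inv_smul_eq_iff] at h5
      exact h5
    have h1 := havspan B hcov b (fun x hx => hx)
    obtain ⟨c, hc⟩ := Submodule.mem_span_singleton.1 h1
    intro h
    -- the sum over `B` of the translates of `a` is invariant
    have hkey : (Nat.card B : k) • (∑ g : H, ρ g a) = (Nat.card H : k) • av B a := by
      have e : av B (∑ g : H, ρ g a) = (Nat.card B : k) • (∑ g : H, ρ g a) := by
        refine havfix B _ fun x _ => ?_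
        rw [map_sum]
        exact Fintype.sum_equiv (Equiv.mulLeft x) _ _ fun g => by simp [map_mul]
      rw [← e, map_sum]
      have e2 : ∀ g : H, av B (ρ g a) = av B a := fun g => by
        obtain ⟨z, hz, he⟩ := hcov g
        rw [he, havinv B a ⟨z, hz⟩]
      rw [Finset.sum_congr rfl (fun g _ => e2 g), Finset.sum_const, Finset.card_univ,
        Nat.card_eq_fintype_card, Nat.cast_smul_eq_nsmul]
    have hH : (Nat.card H : k) ≠ 0 := fun h0 => hchar ((ringChar.spec k _).1 h0)
    have hw : ρ h (av B a) = av B a := by
      have hs : ρ h (∑ g : H, ρ g a) = ∑ g : H, ρ g a := by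
        rw [map_sum]
        exact Fintype.sum_equiv (Equiv.mulLeft h) _ _ fun g => by simp [map_mul]
      have := congrArg (ρ h) hkey
      rw [map_smul, map_smul, hs, hkey] at this
      exact (smul_right_injective V hH this).symm
    rw [← hc, map_smul, hw]

end Cfsg.Agent.S4177
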