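import Cfsg.Statements.S4178

import Mathlib

set_option autoImplicit false
set_option linter.style.haveILetI false
open Cfsg

namespace Cfsg.Agent.S4178

universe u v

variable {F : Type u} {V : Type v} [Field F] [AddCommGroup V] [Module F V]

theorem index_le_of_fpf {H : Type*} [Group H] [Finite H] (R : Subgroup H) {α : Type*} [Finite α] (f : H → α)
    (hf : ∀ h h' : H, f h = f h' → h⁻¹ * h' ∈ R) : R.index ≤ Nat.card α :=
  Nat.card_le_card_of_injective (fun q : H ⧸ R => f q.out) fun q q' e => by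
    rw [← QuotientGroup.out_eq' q, ← QuotientGroup.out_eq' q', QuotientGroup.eq]
    exact hf _ _ e

theorem card_ne_zero (F : Type u) (V : Type v) [Field F] [Fintype F] [AddCommGroup V] [Module F V]
    [FiniteDimensional F V] : Nat.card {v : V // v ≠ 0} = Fintype.card F ^ Module.finrank F V - 1 := by
  classical
  haveI : Finite V := Module.finite_of_finite F
  haveI := Fintype.ofFinite V
  rw [Nat.card_eq_fintype_card, Fintype.card_subtype_compl, Fintype.card_subtype_eq,
    ← Module.card_eq_pow_finrank]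

/-- Let F be a finite field with q elements, V a non-zero finite-dimensional F-space of dimension d, H a group of invertible linear maps of V, and R the subgroup of H generated by the elements of H that fix some non-zero vector (have eigenvalue 1). Then the index of R in H is at most q^d − 1; and if H leaves invariant some proper non-zero subspace, the index is at most q^(d/2) − 1. -/
theorem result {F V : Type*} [Field F] [Fintype F] [AddCommGroup V] [Module F V] [FiniteDimensional F V] [Nontrivial V]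
    (H : Subgroup (V ≃ₗ[F] V)) :
    (Subgroup.closure {h : ↥H | ∃ v : V, v ≠ 0 ∧ (h : V ≃ₗ[F] V) v = v}).index ≤ Fintype.card F ^ Module.finrank F V - 1 ∧
    ((∃ W : Submodule F V, W ≠ ⊥ ∧ W ≠ ⊤ ∧ ∀ h ∈ H, ∀ w ∈ W, h w ∈ W) →
      ((Subgroup.closure {h : ↥H | ∃ v : V, v ≠ 0 ∧ (h : V ≃ₗ[F] V) v = v}).index : ℝ) ≤ Real.sqrt ((Fintype.card F : ℝ) ^ Module.finrank F V) - 1) := by
  classical
  haveI : Finite V := Module.finite_of_finite F
  haveI : Finite (V ≃ₗ[F] V) := Finite.of_injective (fun e : V ≃ₗ[F] V => (e : V → V)) DFunLike.coe_injective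
  set R := Subgroup.closure {h : ↥H | ∃ v : V, v ≠ 0 ∧ (h : V ≃ₗ[F] V) v = v}
  obtain ⟨v₀, hv₀⟩ := exists_ne (0 : V)
  have h1 : R.index ≤ Fintype.card F ^ Module.finrank F V - 1 := by
    rw [← card_ne_zero F V]
    refine index_le_of_fpf R (fun h => (⟨(h : V ≃ₗ[F] V) v₀, fun e => hv₀ ((LinearEquiv.map_eq_zero_iff _).1 e)⟩ : {v : V // v ≠ 0})) ?_
    intro h h' e
    refine Subgroup.subset_closure ⟨v₀, hv₀, ?_⟩
    have e1 : (h : V ≃ₗ[F] V) v₀ = (h' : V ≃ₗ[F] V) v₀ := congrArg Subtype.val e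
    show (((h⁻¹ * h' : H) : V ≃ₗ[F] V)) v₀ = v₀
    rw [Subgroup.coe_mul, Subgroup.coe_inv]
    show (h : V ≃ₗ[F] V).symm ((h' : V ≃ₗ[F] V) v₀) = v₀
    rw [← e1, LinearEquiv.symm_apply_apply]
  refine ⟨h1, ?_⟩
  rintro ⟨W, hW0, hWt, hWinv⟩
  set q := Fintype.card F
  have hq : 1 ≤ q := Fintype.card_pos
  have hW : R.index ≤ q ^ Module.finrank F W - 1 := by
    rw [← card_ne_zero F W]
    obtain ⟨w₀, hw₀, hw₀0⟩ := Submodule.exists_mem_ne_zero_of_ne_bot hW0
    refine index_le_of_fpf R (fun h => (⟨⟨(h : V ≃ₗ[F] V) w₀, hWinv _ h.2 _ hw₀⟩, fun e =>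
      hw₀0 ((LinearEquiv.map_eq_zero_iff _).1 (congrArg Subtype.val e))⟩ : {w : W // w ≠ 0})) ?_
    intro h h' e
    refine Subgroup.subset_closure ⟨w₀, hw₀0, ?_⟩
    have e1 : (h : V ≃ₗ[F] V) w₀ = (h' : V ≃ₗ[F] V) w₀ :=
      congrArg (fun t : {w : W // w ≠ 0} => ((t : W) : V)) e
    show (h : V ≃ₗ[F] V).symm ((h' : V ≃ₗ[F] V) w₀) = w₀
    rw [← e1, LinearEquiv.symm_apply_apply]
  have hQ : R.index ≤ q ^ Module.finrank F (V ⧸ W) - 1 := by
    haveI : Finite (V ⧸ W) := Finite.of_surjective _ (Submodule.Quotient.mk_surjective W)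
    rw [← card_ne_zero F (V ⧸ W)]
    obtain ⟨x, hx⟩ : ∃ x, x ∉ W := by
      by_contra hcon; push Not at hcon; exact hWt (eq_top_iff.2 fun x _ => hcon x)
    have hne : ∀ h : H, Submodule.Quotient.mk (p := W) ((h : V ≃ₗ[F] V) x) ≠ 0 := by
      intro h e
      rw [Submodule.Quotient.mk_eq_zero] at e
      have := hWinv _ (H.inv_mem h.2) _ e
      exact hx (by simpa using this)
    refine index_le_of_fpf R (fun h => (⟨_, hne h⟩ : {y : V ⧸ W // y ≠ 0})) ?_
    intro h h' e
    have e1 : Submodule.Quotient.mk (p := W) ((h : V ≃ₗ[F] V) x) = Submodule.Quotient.mk ((h' : V ≃ₗ[F] V) x) :=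
      congrArg Subtype.val e
    rw [Submodule.Quotient.eq] at e1
    set g : H := h⁻¹ * h'
    have hg : (g : V ≃ₗ[F] V) x - x ∈ W := by
      have h2 := hWinv _ (H.inv_mem h.2) _ e1
      rw [map_sub] at h2
      have e2 : ((h : V ≃ₗ[F] V))⁻¹ ((h : V ≃ₗ[F] V) x) = x := LinearEquiv.symm_apply_apply _ _
      rw [e2] at h2
      rw [← neg_sub]
      exact W.neg_mem h2
    by_contra hcon
    have hinj : ∀ v : V, (g : V ≃ₗ[F] V) v = v → v = 0 := fun v hv => by
      by_contra hv0
      exact hcon (Subgroup.subset_closure ⟨v, hv0, hv⟩)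
    -- `g - 1` is bijective and preserves `W`, so `x ∈ W`
    let T : V →ₗ[F] V := ((g : V ≃ₗ[F] V) : V →ₗ[F] V) - LinearMap.id
    have hTinj : Function.Injective T := by
      rw [← LinearMap.ker_eq_bot, LinearMap.ker_eq_bot']
      intro v hv
      exact hinj v (sub_eq_zero.1 hv)
    have hTW : ∀ w ∈ W, T w ∈ W := fun w hw => W.sub_mem (hWinv _ g.2 w hw) hw
    let TW : W → W := fun w => ⟨T w, hTW w w.2⟩
    have hTWs : Function.Surjective TW := Finite.injective_iff_surjective.1
      fun a b hab => Subtype.ext (hTinj (congrArg Subtype.val hab))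
    obtain ⟨w, hw⟩ := hTWs ⟨T x, hg⟩
    exact hx (hTinj (congrArg Subtype.val hw) ▸ w.2)
  have hsum := Submodule.finrank_quotient_add_finrank W
  set e := min (Module.finrank F W) (Module.finrank F (V ⧸ W))
  have hmin : R.index ≤ q ^ e - 1 := by
    rcases min_choice (Module.finrank F W) (Module.finrank F (V ⧸ W)) with h | h
    · exact hW.trans_eq (by rw [← h])
    · exact hQ.trans_eq (by rw [← h])
  have h2e : 2 * e ≤ Module.finrank F V := by
    have := min_le_left (Module.finrank F W) (Module.finrank F (V ⧸ W))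
    have := min_le_right (Module.finrank F W) (Module.finrank F (V ⧸ W))
    omega
  have h3 : (R.index : ℝ) ≤ (q : ℝ) ^ e - 1 := by
    have h4 : 1 ≤ q ^ e := Nat.one_le_pow _ _ hq
    have : ((R.index : ℕ) : ℝ) ≤ ((q ^ e - 1 : ℕ) : ℝ) := Nat.cast_le.2 hmin
    rwa [Nat.cast_sub h4, Nat.cast_pow, Nat.cast_one] at this
  refine h3.trans (sub_le_sub_right ?_ 1)
  refine Real.le_sqrt_of_sq_le ?_
  rw [← pow_mul, mul_comm e 2]
  exact pow_le_pow_right₀ (by exact_mod_cast hq) h2e

end Cfsg.Agent.S4178
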