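import Cfsg.Statements.S4184
import Cfsg.Agent.Perm.Basic

set_option autoImplicit false
set_option linter.style.haveILetI false
open Cfsg

namespace Cfsg.Agent.S4184

--- pre
/-- `x` has class size with full `r`-part. -/
private theorem full_iff {H : Type*} [Group H] [Finite H] {r : ℕ} (hr : r.Prime) (x : H) :
    ((Subgroup.centralizer ({x} : Set H)).index).factorization r = (Nat.card H).factorization r ↔
      ¬ r ∣ Nat.card (Subgroup.centralizer ({x} : Set H)) := by
  have hC : Nat.card (Subgroup.centralizer ({x} : Set H)) ≠ 0 := Nat.card_pos.ne'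
  have hI : (Subgroup.centralizer ({x} : Set H)).index ≠ 0 := Subgroup.index_ne_zero_of_finite
  rw [← (Subgroup.centralizer ({x} : Set H)).card_mul_index, Nat.factorization_mul hC hI,
    Finsupp.add_apply]
  constructor
  · intro h hd
    have := hr.factorization_pos_of_dvd hC hd
    omega
  · intro h
    rw [Nat.factorization_eq_zero_of_not_dvd h, zero_add]

private theorem mk_pgroup {H : Type*} [Group H] {p k : ℕ} {x : H} (h : orderOf x = p ^ k) :
    IsPGroup p (Subgroup.zpowers x) :=
  IsPGroup.of_card (n := k) (by rw [Nat.card_zpowers, h])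

/-- Let G and M be finite groups with trivial centres and the same set of conjugacy class sizes, and suppose the prime graph of M is disconnected: the prime divisors of #M split into two non-empty parts such that M has no element of order pq with p in one part and q in the other. Then #G = #M. -/
theorem result {G M : Type*}
    [Group G] [Finite G] [Group M] [Finite M] (hZG : Subgroup.center G = ⊥) (hZM : Subgroup.center M = ⊥)
    (h : Set.range (fun g : G => (Subgroup.centralizer ({g} : Set G)).index) = Set.range (fun g : M => (Subgroup.centralizer ({g} : Set M)).index))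
    (hdisc : ∃ A : Set ℕ, (∃ a ∈ A, a.Prime ∧ a ∣ Nat.card M) ∧ (∃ b ∉ A, b.Prime ∧ b ∣ Nat.card M) ∧
      ∀ a ∈ A, ∀ b ∉ A, a.Prime → b.Prime → a ∣ Nat.card M → b ∣ Nat.card M → ¬ ∃ x : M, orderOf x = a * b) :
    Nat.card G = Nat.card M := by
  classical
  obtain ⟨A, ⟨a₀, ha₀A, ha₀, ha₀d⟩, ⟨b₀, hb₀A, hb₀, hb₀d⟩, hno⟩ := hdisc
  -- every prime has an element of `M` with full class part
  have hMfull : ∀ r : ℕ, r.Prime → ∃ m : M, ¬ r ∣ Nat.card (Subgroup.centralizer ({m} : Set M)) := by
    intro r hr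
    by_cases hrd : r ∣ Nat.card M
    swap
    · exact ⟨1, fun h => hrd (h.trans (Subgroup.card_subgroup_dvd_card _))⟩
    haveI := Fact.mk hr
    have hsel : ∃ s : ℕ, s.Prime ∧ s ∣ Nat.card M ∧ s ≠ r ∧ ∀ x : M, orderOf x ≠ r * s := by
      by_cases hrA : r ∈ A
      · exact ⟨b₀, hb₀, hb₀d, fun h => hb₀A (h ▸ hrA),
          fun x hx => hno r hrA b₀ hb₀A hr hb₀ hrd hb₀d ⟨x, hx⟩⟩
      · exact ⟨a₀, ha₀, ha₀d, fun h => hrA (h ▸ ha₀A),
          fun x hx => hno a₀ ha₀A r hrA ha₀ hr ha₀d hrd ⟨x, by rw [hx, mul_comm]⟩⟩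
    obtain ⟨s, hs, hsd, hsr, hsx⟩ := hsel
    haveI := Fact.mk hs
    obtain ⟨m, hm⟩ := exists_prime_orderOf_dvd_card' s hsd
    refine ⟨m, fun hd => ?_⟩
    obtain ⟨⟨c, hc⟩, hco⟩ := exists_prime_orderOf_dvd_card' r hd
    rw [Subgroup.orderOf_mk] at hco
    rw [Subgroup.mem_centralizer_singleton_iff] at hc
    refine hsx (c * m) ?_
    rw [Commute.orderOf_mul_eq_mul_orderOf_of_coprime hc (by rw [hco, hm]; exact (Nat.coprime_primes hr hs).2 hsr.symm),
      hco, hm]
  -- sides in `M`
  have hside : ∀ m : M, m ≠ 1 →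
      (∀ r : ℕ, r.Prime → r ∈ A → ¬ r ∣ Nat.card (Subgroup.centralizer ({m} : Set M))) ∨
      (∀ r : ℕ, r.Prime → r ∉ A → ¬ r ∣ Nat.card (Subgroup.centralizer ({m} : Set M))) := by
    intro m hm
    by_contra hcon
    push Not at hcon
    obtain ⟨⟨r, hr, hrA, hrd⟩, s, hs, hsA, hsd⟩ := hcon
    have hne : orderOf m ≠ 1 := by simpa using hm
    obtain ⟨q, hq, hqd⟩ := Nat.exists_prime_and_dvd hne
    haveI := Fact.mk hq
    set u := m ^ (orderOf m / q) with hu
    have huo : orderOf u = q := by
      rw [hu, orderOf_pow_orderOf_div (orderOf_pos m).ne' hqd]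
    have hcomm : ∀ c ∈ Subgroup.centralizer ({m} : Set M), Commute c u := by
      intro c hc
      exact (Commute.pow_right (Subgroup.mem_centralizer_singleton_iff.1 hc) _)
    have hqM : q ∣ Nat.card M := hqd.trans (orderOf_dvd_natCard m)
    by_cases hqA : q ∈ A
    · haveI := Fact.mk hs
      obtain ⟨⟨c, hc⟩, hco⟩ := exists_prime_orderOf_dvd_card' s hsd
      rw [Subgroup.orderOf_mk] at hco
      refine hno q hqA s hsA hq hs hqM (hsd.trans (Subgroup.card_subgroup_dvd_card _)) ⟨u * c, ?_⟩
      rw [Commute.orderOf_mul_eq_mul_orderOf_of_coprime (hcomm c hc).symm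
        (by rw [huo, hco]; exact (Nat.coprime_primes hq hs).2 (fun h => hsA (h ▸ hqA))), huo, hco]
    · haveI := Fact.mk hr
      obtain ⟨⟨c, hc⟩, hco⟩ := exists_prime_orderOf_dvd_card' r hrd
      rw [Subgroup.orderOf_mk] at hco
      refine hno r hrA q hqA hr hq (hrd.trans (Subgroup.card_subgroup_dvd_card _)) hqM ⟨c * u, ?_⟩
      rw [Commute.orderOf_mul_eq_mul_orderOf_of_coprime (hcomm c hc)
        (by rw [huo, hco]; exact (Nat.coprime_primes hr hq).2 (fun h => hqA (h ▸ hrA))), huo, hco]
  set idx : G → ℕ := fun g => (Subgroup.centralizer ({g} : Set G)).index with hidx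
  have hMG : ∀ m : M, ∃ g : G, idx g = (Subgroup.centralizer ({m} : Set M)).index := by
    intro m
    have : (Subgroup.centralizer ({m} : Set M)).index ∈ Set.range fun g : M =>
      (Subgroup.centralizer ({g} : Set M)).index := ⟨m, rfl⟩
    rw [← h] at this
    exact this
  have hGM : ∀ g : G, ∃ m : M, idx g = (Subgroup.centralizer ({m} : Set M)).index := by
    intro g
    have : idx g ∈ Set.range fun g : G => (Subgroup.centralizer ({g} : Set G)).index := ⟨g, rfl⟩
    rw [h] at this
    exact this.imp fun m hm => hm.symm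
  have hM1 : Nat.card M ≠ 0 := Nat.card_pos.ne'
  have hG1 : Nat.card G ≠ 0 := Nat.card_pos.ne'
  have hle : ∀ r : ℕ, r.Prime → (Nat.card M).factorization r ≤ (Nat.card G).factorization r := by
    intro r hr
    obtain ⟨m, hm⟩ := hMfull r hr
    obtain ⟨g, hg⟩ := hMG m
    rw [← (full_iff hr m).2 hm, ← hg]
    exact (Nat.factorization_le_iff_dvd Subgroup.index_ne_zero_of_finite hG1).2
      (Subgroup.index_dvd_card _) r
  have hidxle : ∀ (g : G) (r : ℕ), (idx g).factorization r ≤ (Nat.card M).factorization r := by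
    intro g r
    obtain ⟨m, hm⟩ := hGM g
    rw [hm]
    exact (Nat.factorization_le_iff_dvd Subgroup.index_ne_zero_of_finite hM1).2
      (Subgroup.index_dvd_card _) r
  have hsideG : ∀ g : G, g ≠ 1 →
      (∀ r : ℕ, r.Prime → r ∈ A → (idx g).factorization r = (Nat.card M).factorization r) ∨
      (∀ r : ℕ, r.Prime → r ∉ A → (idx g).factorization r = (Nat.card M).factorization r) := by
    intro g hg
    obtain ⟨m, hm⟩ := hGM g
    have hm1 : m ≠ 1 := by
      rintro rfl
      apply hg
      have h1 : (Subgroup.centralizer ({g} : Set G)) = ⊤ := by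
        rw [← Subgroup.index_eq_one]
        show idx g = 1
        rw [hm, Subgroup.index_eq_one, eq_top_iff]
        intro y _
        simp [Subgroup.mem_centralizer_singleton_iff]
      have h2 : g ∈ Subgroup.center G := by
        rw [Subgroup.mem_center_iff]
        intro y
        exact Subgroup.mem_centralizer_singleton_iff.1 (h1 ▸ Subgroup.mem_top y)
      rwa [hZG, Subgroup.mem_bot] at h2
    rw [hm]
    exact (hside m hm1).imp (fun hh r hr hrA => (full_iff hr m).2 (hh r hr hrA))
      (fun hh r hr hrA => (full_iff hr m).2 (hh r hr hrA))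
  have hnotfull : ∀ g : G, ¬ ∀ r : ℕ, r.Prime → (idx g).factorization r = (Nat.card M).factorization r := by
    intro g hall
    obtain ⟨m, hm⟩ := hGM g
    have hC1 : Nat.card (Subgroup.centralizer ({m} : Set M)) ≠ 1 := by
      intro h1
      rw [Subgroup.card_eq_one] at h1
      have hmm : m ∈ Subgroup.centralizer ({m} : Set M) := Subgroup.mem_centralizer_singleton_iff.2 rfl
      rw [h1, Subgroup.mem_bot] at hmm
      haveI := Fact.mk ha₀
      obtain ⟨y, hy⟩ := exists_prime_orderOf_dvd_card' a₀ ha₀d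
      have hyC : y ∈ Subgroup.centralizer ({m} : Set M) := by
        simp [hmm, Subgroup.mem_centralizer_singleton_iff]
      rw [h1, Subgroup.mem_bot] at hyC
      rw [hyC, orderOf_one] at hy
      exact ha₀.ne_one hy.symm
    obtain ⟨r, hr, hrd⟩ := Nat.exists_prime_and_dvd hC1
    exact (full_iff hr m).1 (by rw [← hm]; exact hall r hr) hrd
  refine Nat.eq_of_factorization_eq hG1 hM1 fun r => ?_
  by_cases hr : r.Prime
  swap
  · simp [Nat.factorization_eq_zero_of_not_prime, hr]
  refine le_antisymm ?_ (hle r hr)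
  by_contra hlt
  push Not at hlt
  haveI := Fact.mk hr
  have hrG : r ∣ Nat.card G := Nat.dvd_of_factorization_pos (n := Nat.card G) (by omega)
  -- central element of a Sylow `r`-subgroup
  have hcent : ∀ (s : ℕ) [Fact s.Prime] (S : Sylow s G), s ∣ Nat.card G →
      ∃ z ∈ (S : Subgroup G), z ≠ 1 ∧ (∀ y ∈ (S : Subgroup G), y * z = z * y) ∧ ¬ s ∣ idx z := by
    intro s _ S hsG
    haveI : Nontrivial S := (Subgroup.nontrivial_iff_ne_bot _).2 (S.ne_bot_of_dvd_card hsG)
    haveI := S.2.center_nontrivial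
    obtain ⟨⟨⟨z, hz⟩, hzc⟩, hz1⟩ := exists_ne (1 : Subgroup.center S)
    have hcomm : ∀ y ∈ (S : Subgroup G), y * z = z * y := fun y hy =>
      congrArg Subtype.val (Subgroup.mem_center_iff.1 hzc ⟨y, hy⟩)
    refine ⟨z, hz, fun h1 => hz1 (Subtype.ext (Subtype.ext h1)), hcomm, fun hd => ?_⟩
    refine S.not_dvd_index (hd.trans (Subgroup.index_dvd_of_le fun y hy => ?_))
    exact Subgroup.mem_centralizer_singleton_iff.2 (hcomm y hy)
  by_cases hrM : r ∣ Nat.card M
  swap
  · -- all classes have `r'`-size: the Sylow `r`-subgroup is central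
    obtain ⟨R⟩ : Nonempty (Sylow r G) := inferInstance
    have hvr : (Nat.card M).factorization r = 0 := Nat.factorization_eq_zero_of_not_dvd hrM
    have htop : Subgroup.centralizer ((R : Subgroup G) : Set G) = ⊤ := by
      refine CfsgLib.Perm.eq_top_of_forall_conj_mem fun g => ?_
      have hg0 : ¬ r ∣ idx g := fun hd => by
        have h1 : 0 < (idx g).factorization r :=
          hr.factorization_pos_of_dvd (Subgroup.index_ne_zero_of_finite) hd
        have := hidxle g r
        omega
      obtain ⟨T⟩ : Nonempty (Sylow r (Subgroup.centralizer ({g} : Set G))) := inferInstance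
      have hT : ¬ r ∣ ((T : Subgroup _).map (Subgroup.centralizer ({g} : Set G)).subtype).index := by
        rw [Subgroup.index_map_subtype]
        exact fun hd => (hr.dvd_mul.1 hd).elim T.not_dvd_index hg0
      obtain ⟨k, hk⟩ := MulAction.exists_smul_eq G R ((T.2.map _).toSylow hT)
      refine ⟨k, Subgroup.mem_centralizer_iff.2 fun y hy => ?_⟩
      have hky : k * y * k⁻¹ ∈ ((k • R : Sylow r G) : Subgroup G) := by
        rw [Sylow.coe_subgroup_smul, CfsgLib.Solv.mem_conj_smul_iff]
        have heq : k⁻¹ * (k * y * k⁻¹) * k = y := by group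
        rw [heq]; exact hy
      rw [hk, IsPGroup.toSylow_coe] at hky
      have := Subgroup.mem_centralizer_singleton_iff.1 (Subgroup.map_subtype_le _ hky)
      calc y * (k⁻¹ * g * k) = k⁻¹ * ((k * y * k⁻¹) * g) * k := by group
        _ = k⁻¹ * (g * (k * y * k⁻¹)) * k := by rw [this]
        _ = _ := by group
    obtain ⟨z, hz, hz1, -, -⟩ := hcent r R hrG
    apply hz1
    have hzc : z ∈ Subgroup.center G := by
      rw [Subgroup.mem_center_iff]
      intro y
      exact (Subgroup.mem_centralizer_iff.1 (htop ▸ Subgroup.mem_top y) z hz).symm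
    rwa [hZG, Subgroup.mem_bot] at hzc
  have hvrpos : 0 < (Nat.card M).factorization r := hr.factorization_pos_of_dvd hM1 hrM
  -- `side r = True` when `r ∈ A`
  obtain ⟨B, hrB, s, hs, hsB, hsM, hsideB⟩ : ∃ B : Set ℕ, r ∈ B ∧ ∃ s : ℕ, s.Prime ∧ s ∉ B ∧
      s ∣ Nat.card M ∧ ∀ g : G, g ≠ 1 →
      (∀ r : ℕ, r.Prime → r ∈ B → (idx g).factorization r = (Nat.card M).factorization r) ∨
      (∀ r : ℕ, r.Prime → r ∉ B → (idx g).factorization r = (Nat.card M).factorization r) := by
    by_cases hrA : r ∈ A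
    · exact ⟨A, hrA, b₀, hb₀, hb₀A, hb₀d, hsideG⟩
    · refine ⟨Aᶜ, hrA, a₀, ha₀, fun h => h ha₀A, ha₀d, fun g hg => ?_⟩
      rcases hsideG g hg with h | h
      · exact Or.inr fun q hq hqA => h q hq (not_not.1 hqA)
      · exact Or.inl fun q hq hqA => h q hq hqA
  haveI := Fact.mk hs
  have hsG : s ∣ Nat.card G := by
    refine Nat.dvd_of_factorization_pos (n := Nat.card G) ?_
    have := hle s hs
    have := hs.factorization_pos_of_dvd hM1 hsM
    omega
  obtain ⟨S⟩ : Nonempty (Sylow s G) := inferInstance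
  obtain ⟨w, hwS, hw1, hwc, hws⟩ := hcent s S hsG
  have hwB : ∀ q : ℕ, q.Prime → q ∈ B → (idx w).factorization q = (Nat.card M).factorization q := by
    rcases hsideB w hw1 with h | h
    · exact h
    · exfalso
      have h1 := h s hs hsB
      rw [Nat.factorization_eq_zero_of_not_dvd hws] at h1
      have := hs.factorization_pos_of_dvd hM1 hsM
      omega
  -- a product argument: two commuting elements of coprime order with opposite sides
  have hprod : ∀ v : G, (∃ i, orderOf v = r ^ i) → v ≠ 1 → Commute w v →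
      ∀ q : ℕ, q.Prime → q ∈ B → (idx v).factorization q = (Nat.card M).factorization q := by
    intro v hvo hv1 hwv
    rcases hsideB v hv1 with h | h
    · exact h
    exfalso
    obtain ⟨i, hi⟩ := hvo
    obtain ⟨j, hj⟩ := IsPGroup.iff_orderOf.1 S.2 ⟨w, hwS⟩
    rw [← Subgroup.orderOf_coe] at hj
    have hcop : (orderOf w).Coprime (orderOf v) := by
      rw [hi, hj]
      exact Nat.Coprime.pow _ _ ((Nat.coprime_primes hs hr).2 (fun h => hsB (h ▸ hrB)))
    have hsub : Subgroup.centralizer ({w * v} : Set G) ≤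
        Subgroup.centralizer ({w} : Set G) ⊓ Subgroup.centralizer ({v} : Set G) := by
      intro y hy
      rw [Subgroup.mem_centralizer_singleton_iff] at hy
      have hy' : Commute y (w * v) := hy
      obtain ⟨a, ha⟩ := exists_pow_eq_self_of_coprime (x := w) hcop.symm
      have hw' : ((w * v) ^ orderOf v) ^ a = w := by
        rw [hwv.mul_pow, pow_orderOf_eq_one, mul_one, ha]
      obtain ⟨b, hb⟩ := exists_pow_eq_self_of_coprime (x := v) hcop
      have hv' : ((w * v) ^ orderOf w) ^ b = v := by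
        rw [hwv.mul_pow, pow_orderOf_eq_one, one_mul, hb]
      refine ⟨Subgroup.mem_centralizer_singleton_iff.2 ?_, Subgroup.mem_centralizer_singleton_iff.2 ?_⟩
      · have := ((hy'.pow_right (orderOf v)).pow_right a).eq
        rwa [hw'] at this
      · have := ((hy'.pow_right (orderOf w)).pow_right b).eq
        rwa [hv'] at this
    apply hnotfull (w * v)
    intro q hq
    refine le_antisymm (hidxle _ q) ?_
    by_cases hqB : q ∈ B
    · rw [← hwB q hq hqB]
      exact (Nat.factorization_le_iff_dvd Subgroup.index_ne_zero_of_finite Subgroup.index_ne_zero_of_finite).2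
        (Subgroup.index_dvd_of_le (hsub.trans inf_le_left)) q
    · rw [← h q hq hqB]
      exact (Nat.factorization_le_iff_dvd Subgroup.index_ne_zero_of_finite Subgroup.index_ne_zero_of_finite).2
        (Subgroup.index_dvd_of_le (hsub.trans inf_le_right)) q
  have hcard : ∀ g : G, (idx g).factorization r = (Nat.card M).factorization r →
      (Nat.card (Subgroup.centralizer ({g} : Set G))).factorization r = (Nat.card G).factorization r - (Nat.card M).factorization r := by
    intro g hg
    have hmul := congrArg Nat.factorization (Subgroup.centralizer ({g} : Set G)).card_mul_index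
    rw [Nat.factorization_mul Nat.card_pos.ne' Subgroup.index_ne_zero_of_finite] at hmul
    have := DFunLike.congr_fun hmul r
    simp only [idx, Finsupp.add_apply] at hg this
    omega
  set Cw := Subgroup.centralizer ({w} : Set G) with hCw
  obtain ⟨T⟩ : Nonempty (Sylow r Cw) := inferInstance
  have hTc : Nat.card T = r ^ ((Nat.card G).factorization r - (Nat.card M).factorization r) := by
    rw [T.card_eq_multiplicity, hcard w (hwB r hr hrB)]
  haveI : Nontrivial T := by
    rw [← Finite.one_lt_card_iff_nontrivial, hTc]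
    exact Nat.one_lt_pow (by omega) hr.one_lt
  haveI := T.2.center_nontrivial
  obtain ⟨⟨⟨⟨v, hvC⟩, hvT⟩, hvZ⟩, hv1⟩ := exists_ne (1 : Subgroup.center T)
  set R1 := (T : Subgroup Cw).map Cw.subtype with hR1
  have hvne : v ≠ 1 := fun h1 => hv1 (Subtype.ext (Subtype.ext (Subtype.ext h1)))
  obtain ⟨iv, hiv⟩ := IsPGroup.iff_orderOf.1 T.2 ⟨⟨v, hvC⟩, hvT⟩
  have hvB := hprod v ⟨iv, by rw [← hiv, ← Subgroup.orderOf_coe, ← Subgroup.orderOf_coe]⟩
    hvne (Subgroup.mem_centralizer_singleton_iff.1 hvC).symm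
  obtain ⟨R, hR⟩ := (T.2.map Cw.subtype).exists_le_sylow
  obtain ⟨z, hzR, hz1, hzc, hzr⟩ := hcent r R hrG
  have hzw : z ∈ Cw := by
    set Cv := Subgroup.centralizer ({v} : Set G) with hCv
    have hR1v : R1 ≤ Cv := by
      rintro y ⟨⟨y', hy'⟩, hyT, rfl⟩
      rw [Subgroup.mem_centralizer_singleton_iff]
      exact congrArg (fun u : T => ((u : Cw) : G)) (Subgroup.mem_center_iff.1 hvZ ⟨⟨y', hy'⟩, hyT⟩)
    have hzv : z ∈ Cv := Subgroup.mem_centralizer_singleton_iff.2
      (hzc v (hR ⟨⟨v, hvC⟩, hvT, rfl⟩)).symm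
    have hsup : R1 ⊔ Subgroup.zpowers z ≤ (R : Subgroup G) ⊓ Cv :=
      sup_le (le_inf hR hR1v) (Subgroup.zpowers_le.2 ⟨hzR, hzv⟩)
    have hdvd : Nat.card (R1 ⊔ Subgroup.zpowers z : Subgroup G) ∣ Nat.card R1 := by
      obtain ⟨e, he⟩ := IsPGroup.iff_card.1 (R.2.to_le (hsup.trans inf_le_left))
      have h2 : Nat.card (R1 ⊔ Subgroup.zpowers z : Subgroup G) ∣ Nat.card Cv :=
        Subgroup.card_dvd_of_le (hsup.trans inf_le_right)
      rw [he] at h2 ⊢
      rw [hR1, CfsgLib.Solv.card_map_subtype, hTc, ← hcard v (hvB r hr hrB)]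
      exact (Nat.pow_dvd_pow_iff_le_right hr.one_lt).2
        ((hr.pow_dvd_iff_le_factorization Nat.card_pos.ne').1 h2)
    have heq : R1 = R1 ⊔ Subgroup.zpowers z :=
      Subgroup.eq_of_le_of_card_ge le_sup_left (Nat.le_of_dvd Nat.card_pos hdvd)
    exact Subgroup.map_subtype_le _ (show z ∈ R1 from heq ▸ Subgroup.mem_sup_right (Subgroup.mem_zpowers z))
  obtain ⟨i, hi⟩ := IsPGroup.iff_orderOf.1 R.2 ⟨z, hzR⟩
  rw [← Subgroup.orderOf_coe] at hi
  have := hprod z ⟨i, hi⟩ hz1 (Subgroup.mem_centralizer_singleton_iff.1 hzw).symm r hr hrB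
  rw [Nat.factorization_eq_zero_of_not_dvd hzr] at this
  omega

end Cfsg.Agent.S4184
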