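import Cfsg.Statements.S4186

set_option autoImplicit false
set_option linter.style.haveILetI false
open Cfsg

namespace Cfsg.Agent.S4186

/-- Let T and X be subgroups of a group with T a finite 2-group normalizing X but not centralizing it. Then some element of T inverts some non-identity element of X under conjugation. -/
theorem result {G : Type*} [Group G] (T X : Subgroup G) [Finite ↥T] (hT : IsPGroup 2 ↥T) (hTN : T ≤ Subgroup.normalizer (X : Set G)) (hTC : ¬ T ≤ Subgroup.centralizer (X : Set G)) : ∃ t ∈ T, ∃ x ∈ X, x ≠ 1 ∧ t * x * t⁻¹ = x⁻¹ := by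
  obtain ⟨k, hk⟩ := IsPGroup.iff_card.1 hT
  have key : ∀ (n : ℕ) (t : G), t ∈ T → t ^ 2 ^ n ∈ Subgroup.centralizer (X : Set G) →
      t ∉ Subgroup.centralizer (X : Set G) →
      ∃ s ∈ T, s ∉ Subgroup.centralizer (X : Set G) ∧ s ^ 2 ∈ Subgroup.centralizer (X : Set G) := by
    intro n
    induction n with
    | zero => intro t ht h1 h2; exact absurd (by simpa using h1) h2
    | succ n ih =>
      intro t ht h1 h2
      by_cases h3 : t ^ 2 ^ n ∈ Subgroup.centralizer (X : Set G)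
      · exact ih t ht h3 h2
      · exact ⟨_, pow_mem ht _, h3, by rwa [← pow_mul, ← pow_succ]⟩
  obtain ⟨t, ht, htC⟩ := SetLike.not_le_iff_exists.1 hTC
  obtain ⟨n, hn⟩ := hT ⟨t, ht⟩
  have hn' : t ^ 2 ^ n = 1 := by simpa using congrArg Subtype.val hn
  obtain ⟨s, hs, hsC, hs2⟩ := key n t ht (hn' ▸ one_mem _) htC
  rw [Subgroup.mem_centralizer_iff] at hsC
  push Not at hsC
  obtain ⟨x, hxX, hx⟩ := hsC
  refine ⟨s, hs, x⁻¹ * (s * x * s⁻¹),
    mul_mem (inv_mem hxX) ((Subgroup.mem_normalizer_iff.1 (hTN hs) x).1 hxX), ?_, ?_⟩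
  · intro h
    rw [inv_mul_eq_one, eq_comm, mul_inv_eq_iff_eq_mul] at h
    exact hx h.symm
  · rw [Subgroup.mem_centralizer_iff] at hs2
    have h4 := hs2 x hxX
    have h5 : s * (s * x * s⁻¹) * s⁻¹ = x := by
      calc s * (s * x * s⁻¹) * s⁻¹ = (s ^ 2 * x) * (s ^ 2)⁻¹ := by rw [pow_two]; group
        _ = (x * s ^ 2) * (s ^ 2)⁻¹ := by rw [← h4]
        _ = x := by group
    calc s * (x⁻¹ * (s * x * s⁻¹)) * s⁻¹
        = (s * x⁻¹ * s⁻¹) * (s * (s * x * s⁻¹) * s⁻¹) := by group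
      _ = (s * x⁻¹ * s⁻¹) * x := by rw [h5]
      _ = _ := by group

end Cfsg.Agent.S4186
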