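import Mathlib
-- Template for statement S4188 (row 4188; see /opt/grader/pristine/manifest.json for weights).
-- Copy to Cfsg/Agent/S4188.lean and replace the sorry. The statement below is byte-identical to the frozen
-- statement Cfsg.CfsgFrozen.S4188 (Cfsg/Statements/S4188.lean; the theorem Cfsg.fg11_two_group_on_odd_abelian_unique_minimal_normal_frattini_index_bound);
-- the grader kernel-checks Cfsg.Agent.S4188.result against that frozen type. Keep the theorem IN THIS FILE
-- (a `result` declared elsewhere and merely imported here is not credited); helpers may live anywhere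
-- under Cfsg/Agent/.
import Cfsg.Statements.S4188
import Cfsg.Agent.Solv.UniqueSub
import Cfsg.Agent.Solv.FittingBasic
import Cfsg.Agent.Perm.MinClass
-- import your own Cfsg.Agent.* helpers here

set_option autoImplicit false
open Cfsg
set_option linter.style.haveILetI false
set_option linter.unusedSectionVars false

namespace Cfsg.Agent.S4188

universe u v

/-- The subgroup generated by the squares. -/
def sq (P : Type*) [Group P] : Subgroup P := Subgroup.closure (Set.range fun x : P => x ^ 2)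

theorem sq_map {P Q : Type*} [Group P] [Group Q] (f : P →* Q) (hf : Function.Surjective f) :
    (sq P).map f = sq Q := by
  rw [sq, MonoidHom.map_closure, sq]
  congr 1
  ext y
  constructor
  · rintro ⟨_, ⟨x, rfl⟩, rfl⟩; exact ⟨f x, (map_pow f x 2).symm⟩
  · rintro ⟨y', rfl⟩
    obtain ⟨x, rfl⟩ := hf y'
    exact ⟨x ^ 2, ⟨x, rfl⟩, map_pow f x 2⟩

instance sq_normal (P : Type*) [Group P] : (sq P).Normal := ⟨fun x hx g => by
  rw [← sq_map (MulAut.conj g).toMonoidHom (MulAut.conj g).surjective]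
  exact ⟨x, hx, rfl⟩⟩

theorem sq_map_le {P Q : Type*} [Group P] [Group Q] (f : P →* Q) : (sq P).map f ≤ sq Q := by
  rw [sq, MonoidHom.map_closure, Subgroup.closure_le]
  rintro _ ⟨_, ⟨x, rfl⟩, rfl⟩
  exact Subgroup.subset_closure ⟨f x, (map_pow f x 2).symm⟩

theorem ext_bound {P Q : Type*} [Group P] [Finite P] [Group Q] (f : P →* Q) (hf : Function.Surjective f) :
    (sq P).index ≤ (sq Q).index * (sq f.ker).index := by
  have h1 : (sq P ⊔ f.ker).index = (sq Q).index := by
    rw [← Subgroup.comap_map_eq, sq_map f hf, Subgroup.index_comap_of_surjective _ hf]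
  have h2 : (sq P).relIndex (sq P ⊔ f.ker) ≤ (sq f.ker).index := by
    rw [relIndex_sup_eq]
    exact Nat.le_of_dvd (Nat.pos_of_ne_zero Subgroup.index_ne_zero_of_finite)
      (Subgroup.index_dvd_of_le (Subgroup.map_le_iff_le_comap.1 (sq_map_le f.ker.subtype)))
  rw [← Subgroup.relIndex_mul_index (le_sup_left : sq P ≤ sq P ⊔ f.ker), h1, mul_comm]
  exact Nat.mul_le_mul_left _ h2
where
  relIndex_sup_eq {P : Type _} [Group P] {H K : Subgroup P} [H.Normal] : H.relIndex (H ⊔ K) = H.relIndex K := by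
    rw [Subgroup.relIndex_sup_left]

theorem sq_index_cyclic {P : Type*} [Group P] [Finite P] [IsCyclic P] : (sq P).index ≤ 2 := by
  obtain ⟨g, hg⟩ := IsCyclic.exists_generator (α := P)
  have hsurj : Function.Surjective (fun b : Bool => QuotientGroup.mk' (sq P) (if b then g else 1)) := by
    intro q
    obtain ⟨x, rfl⟩ := QuotientGroup.mk'_surjective (sq P) q
    obtain ⟨i, rfl⟩ := Subgroup.mem_zpowers_iff.1 (hg x)
    have h2 : ∀ k : ℤ, g ^ (2 * k) ∈ sq P := fun k => Subgroup.subset_closure ⟨g ^ k, by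
      show (g ^ k) ^ 2 = g ^ (2 * k)
      rw [← zpow_natCast, ← zpow_mul, mul_comm]; rfl⟩
    rcases Int.even_or_odd i with ⟨k, rfl⟩ | ⟨k, rfl⟩
    · refine ⟨false, QuotientGroup.eq.2 ?_⟩
      simp only [Bool.false_eq_true, if_false, inv_one, one_mul]
      rw [← two_mul]; exact h2 k
    · refine ⟨true, QuotientGroup.eq.2 ?_⟩
      simp only [if_true]
      rw [← zpow_neg_one, ← zpow_add, show (-1 : ℤ) + (2 * k + 1) = 2 * k by ring]; exact h2 k
  have := Nat.card_le_card_of_surjective _ hsurj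
  simpa [Subgroup.index] using this

theorem units_sqrt (N : ℕ) (hN2 : ∃ k, N = 2 ^ k) (H : Subgroup (ZMod N)ˣ) : (sq H).index ≤ 4 := by
  classical
  obtain ⟨k, rfl⟩ := hN2
  haveI : NeZero (2 ^ k) := ⟨pow_ne_zero _ two_ne_zero⟩
  have h1 : (powMonoidHom (α := H) 2).range ≤ sq H := by
    rintro _ ⟨x, rfl⟩; exact Subgroup.subset_closure ⟨x, rfl⟩
  refine (Nat.le_of_dvd (Nat.pos_of_ne_zero Subgroup.index_ne_zero_of_finite) (Subgroup.index_dvd_of_le h1)).trans ?_
  have h2 : (powMonoidHom (α := H) 2).range.index = Nat.card (powMonoidHom (α := H) 2).ker := by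
    have a := (powMonoidHom (α := H) 2).range.card_mul_index
    have b := (powMonoidHom (α := H) 2).ker.card_mul_index
    rw [Subgroup.index_ker, mul_comm] at b
    exact Nat.eq_of_mul_eq_mul_left Nat.card_pos (a.trans b.symm)
  rw [h2]
  set F : Finset (ZMod (2 ^ k)) := {1, -1, 1 + 2 ^ (k - 1), -1 + 2 ^ (k - 1)}
  have hF : ∀ x : ZMod (2 ^ k), x ^ 2 = 1 → x ∈ F := by
    intro x hx
    rcases Nat.lt_or_ge k 3 with hk | hk
    · interval_cases k <;> revert x <;> decide
    obtain ⟨m, rfl⟩ := ZMod.intCast_surjective x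
    have hd : (2 : ℤ) ^ k ∣ m ^ 2 - 1 := by
      have := (ZMod.intCast_zmod_eq_zero_iff_dvd (m ^ 2 - 1) (2 ^ k)).1 (by push_cast; rw [hx]; ring)
      exact_mod_cast this
    rcases Int.even_or_odd m with ⟨j, rfl⟩ | ⟨j, rfl⟩
    · exfalso
      have := (dvd_pow_self (2 : ℤ) (by omega : k ≠ 0)).trans hd
      have h4 : (2 : ℤ) ∣ (j + j) ^ 2 := ⟨2 * j * j, by ring⟩
      have := dvd_sub h4 this
      norm_num at this
    obtain ⟨l, rfl⟩ : ∃ l, k = l + 2 := ⟨k - 2, by omega⟩
    have hj : (2 : ℤ) ^ l ∣ j * (j + 1) := by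
      rw [show (2 * j + 1) ^ 2 - 1 = 4 * (j * (j + 1)) by ring, pow_add, mul_comm] at hd
      exact Int.dvd_of_mul_dvd_mul_left (by norm_num) hd
    have hcase : (2 : ℤ) ^ l ∣ j ∨ (2 : ℤ) ^ l ∣ j + 1 := by
      rcases Int.even_or_odd j with ⟨i, hi⟩ | ⟨i, hi⟩
      · exact Or.inl ((IsCoprime.pow_left ⟨-i, 1, by rw [hi]; ring⟩).dvd_of_dvd_mul_right hj)
      · exact Or.inr ((IsCoprime.pow_left ⟨-i, 1, by rw [hi]; ring⟩).dvd_of_dvd_mul_left hj)
    have hN : ((2 : ZMod (2 ^ (l + 2))) ^ (l + 2)) = 0 := by exact_mod_cast ZMod.natCast_self (2 ^ (l + 2))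
    simp only [F, show l + 2 - 1 = l + 1 by omega]
    rcases hcase with ⟨i, hi⟩ | ⟨i, hi⟩
    · rcases Int.even_or_odd i with ⟨c, rfl⟩ | ⟨c, rfl⟩
      · rw [show ((2 * j + 1 : ℤ) : ZMod (2 ^ (l + 2))) = 1 by
          rw [hi]; push_cast; linear_combination (c : ZMod (2 ^ (l + 2))) * hN]
        simp [F]
      · rw [show ((2 * j + 1 : ℤ) : ZMod (2 ^ (l + 2))) = 1 + 2 ^ (l + 1) by
          rw [hi]; push_cast; linear_combination (c : ZMod (2 ^ (l + 2))) * hN]
        simp [F]
    · have hi' : j = 2 ^ l * i - 1 := by linarith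
      rcases Int.even_or_odd i with ⟨c, rfl⟩ | ⟨c, rfl⟩
      · rw [show ((2 * j + 1 : ℤ) : ZMod (2 ^ (l + 2))) = -1 by
          rw [hi']; push_cast; linear_combination (c : ZMod (2 ^ (l + 2))) * hN]
        simp [F]
      · rw [show ((2 * j + 1 : ℤ) : ZMod (2 ^ (l + 2))) = -1 + 2 ^ (l + 1) by
          rw [hi']; push_cast; linear_combination (c : ZMod (2 ^ (l + 2))) * hN]
        simp [F]
  have hker : ∀ z : (powMonoidHom (α := H) 2).ker, (((z : H) : (ZMod (2 ^ k))ˣ) : ZMod (2 ^ k)) ^ 2 = 1 := fun z => by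
    have h3 := congrArg (fun w : H => ((w : (ZMod (2 ^ k))ˣ) : ZMod (2 ^ k))) (MonoidHom.mem_ker.1 z.2)
    simpa using h3
  have hinj : Function.Injective (fun z : (powMonoidHom (α := H) 2).ker =>
      (⟨(((z : H) : (ZMod (2 ^ k))ˣ) : ZMod (2 ^ k)), hF _ (hker z)⟩ : {x // x ∈ F})) := fun a b e => by
    exact Subtype.ext (Subtype.ext (Units.ext (congrArg Subtype.val e)))
  refine (Nat.card_le_card_of_injective _ hinj).trans ?_
  rw [Nat.card_eq_fintype_card, Fintype.card_coe]
  exact Finset.card_le_four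

section Act

variable {P : Type*} [Group P] {A : Type*} [CommGroup A]

/-- Restriction of an action to an invariant subgroup. -/
def restr (ρ : P →* MulAut A) (B : Subgroup A) (h : ∀ p, ∀ b ∈ B, ρ p b ∈ B) : P →* MulAut B where
  toFun p :=
    { toFun := fun b => ⟨ρ p b, h p b b.2⟩
      invFun := fun b => ⟨ρ p⁻¹ b, h p⁻¹ b b.2⟩
      left_inv := fun b => Subtype.ext (by simp)
      right_inv := fun b => Subtype.ext (by simp)
      map_mul' := fun a b => Subtype.ext (by simp) }
  map_one' := MulEquiv.ext fun b => Subtype.ext (by simp)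
  map_mul' p q := MulEquiv.ext fun b => Subtype.ext (by simp)

/-- Action on the quotient by an invariant subgroup. -/
def quot (ρ : P →* MulAut A) (B : Subgroup A) (h : ∀ p, ∀ b ∈ B, ρ p b ∈ B) : P →* MulAut (A ⧸ B) where
  toFun p :=
    { toFun := QuotientGroup.map B B (ρ p).toMonoidHom fun b hb => h p b hb
      invFun := QuotientGroup.map B B (ρ p⁻¹).toMonoidHom fun b hb => h p⁻¹ b hb
      left_inv := fun b => by induction b using QuotientGroup.induction_on; simp
      right_inv := fun b => by induction b using QuotientGroup.induction_on; simp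
      map_mul' := map_mul _ }
  map_one' := MulEquiv.ext fun b => by induction b using QuotientGroup.induction_on; simp
  map_mul' p q := MulEquiv.ext fun b => by induction b using QuotientGroup.induction_on; simp

theorem coprime_trivial [Finite A] [Finite P] (hP : IsPGroup 2 P) (hA : Odd (Nat.card A)) {ρ : P →* MulAut A}
    (hρ : Function.Injective ρ) (B : Subgroup A) (p : P) (h1 : ∀ b ∈ B, ρ p b = b) (h2 : ∀ a : A, a⁻¹ * ρ p a ∈ B) :
    p = 1 := by
  refine hρ (MulEquiv.ext fun a => ?_)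
  rw [map_one, MulAut.one_apply]
  set c := a⁻¹ * ρ p a with hc
  have e : ρ p a = a * c := by rw [hc, mul_inv_cancel_left]
  have key : ∀ n : ℕ, ρ (p ^ n) a = a * c ^ n := fun n => by
    induction n with
    | zero => simp
    | succ n ih =>
      rw [pow_succ' p, map_mul, MulAut.mul_apply, ih, map_mul, map_pow, h1 c (h2 a), e, pow_succ' c, mul_assoc]
  obtain ⟨k, hk⟩ := IsPGroup.iff_orderOf.1 hP p
  have h3 := key (orderOf p)
  rw [pow_orderOf_eq_one, map_one, MulAut.one_apply, left_eq_mul, hk] at h3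
  have h4 : orderOf c ∣ Nat.gcd (2 ^ k) (Nat.card A) := Nat.dvd_gcd (orderOf_dvd_of_pow_eq_one h3) (orderOf_dvd_natCard c)
  rw [Nat.Coprime.pow_left k (Nat.coprime_two_left.2 hA), Nat.dvd_one, orderOf_eq_one_iff] at h4
  rw [e, h4, mul_one]

end Act

theorem aut_card_three {A : Type*} [Group A] [Finite A] (h : Nat.card A = 3) : Nat.card (MulAut A) = 2 := by
  haveI : Fact (Nat.Prime 3) := ⟨Nat.prime_three⟩
  haveI := isCyclic_of_prime_card h
  rw [Nat.card_congr (IsCyclic.mulAutMulEquiv A).toEquiv, h, Nat.card_eq_fintype_card, ZMod.card_units_eq_totient]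
  decide

/-- The bound. -/
def Good (I x : ℕ) : Prop := (5 ≤ x → 2 * I ≤ x) ∧ (x ≤ 3 → I ≤ 2)

theorem combine {I I1 I2 b c : ℕ} (hb : 3 ≤ b) (hc : 3 ≤ c) (hb' : Odd b) (hc' : Odd c) (h1 : Good I1 b) (h2 : Good I2 c)
    (hI : I ≤ I1 * I2) : Good I (b * c) := by
  refine ⟨fun _ => ?_, fun h => absurd h (by nlinarith)⟩
  rcases (show b = 3 ∨ 5 ≤ b by obtain ⟨r, rfl⟩ := hb'; omega) with rfl | hb5
  · have := h1.2 le_rfl
    rcases (show c = 3 ∨ 5 ≤ c by obtain ⟨r, rfl⟩ := hc'; omega) with rfl | hc5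
    · have := h2.2 le_rfl; nlinarith
    · have := h2.1 hc5; nlinarith
  · have := h1.1 hb5
    rcases (show c = 3 ∨ 5 ≤ c by obtain ⟨r, rfl⟩ := hc'; omega) with rfl | hc5
    · have := h2.2 le_rfl; nlinarith
    · have := h2.1 hc5; nlinarith

theorem bound : ∀ (n : ℕ) (A : Type v) [CommGroup A] [Finite A] (P : Type u) [Group P] [Finite P]
    (ρ : P →* MulAut A), Function.Injective ρ → IsPGroup 2 P → Nat.card A = n → Odd n → 3 ≤ n →
    Good (sq P).index n := by
  intro n
  induction n using Nat.strong_induction_on with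
  | _ n IH =>
  intro A _ _ P _ _ ρ hρ hP hn hodd hn3
  classical
  haveI : Fact (Nat.Prime 2) := ⟨Nat.prime_two⟩
  by_cases hpr : n.Prime
  · haveI := Fact.mk hpr
    haveI : IsCyclic A := isCyclic_of_prime_card hn
    haveI : IsCyclic (ZMod (Nat.card A))ˣ := by rw [hn]; infer_instance
    haveI : IsCyclic P := isCyclic_of_injective ((IsCyclic.mulAutMulEquiv A).toMonoidHom.comp ρ)
      ((IsCyclic.mulAutMulEquiv A).injective.comp hρ)
    have := sq_index_cyclic (P := P)
    exact ⟨fun _ => by omega, fun _ => this⟩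
  -- reducible
  have hsub : ∀ B : Subgroup A, B ≠ ⊥ → 3 ≤ Nat.card B ∧ Odd (Nat.card B) := fun B hB => by
    have h2 : Odd (Nat.card B) := Nat.Coprime.odd_of_left (Nat.Coprime.coprime_dvd_right (hn ▸ Subgroup.card_subgroup_dvd_card B) (Nat.coprime_two_left.2 hodd))
    haveI := (Subgroup.nontrivial_iff_ne_bot B).2 hB
    have := Finite.one_lt_card (α := B)
    obtain ⟨r, hr⟩ := h2
    exact ⟨by omega, by rw [hr]; exact odd_two_mul_add_one r⟩
  by_cases hred : ∃ B : Subgroup A, (∀ p, ∀ b ∈ B, ρ p b ∈ B) ∧ B ≠ ⊥ ∧ B ≠ ⊤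
  · obtain ⟨B, hB, hB1, hB2⟩ := hred
    obtain ⟨hb3, hbo⟩ := hsub B hB1
    have hmul := B.card_mul_index
    rw [hn] at hmul
    have hi1 : 1 < B.index := Subgroup.one_lt_index_of_ne_top hB2
    have hio : Odd B.index := (Nat.odd_mul.1 (hmul.symm ▸ hodd)).2
    have hi3 : 3 ≤ B.index := by obtain ⟨r, hr⟩ := hio; omega
    set f := restr ρ B hB
    set g := (quot ρ B hB).comp f.ker.subtype
    have hg : Function.Injective g := (injective_iff_map_eq_one g).2 fun p hp => Subtype.ext
      (coprime_trivial hP (hn ▸ hodd) hρ B (p : P) (fun b hb => congrArg Subtype.val (DFunLike.congr_fun (MonoidHom.mem_ker.1 p.2) (⟨b, hb⟩ : B)))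
        fun a => QuotientGroup.eq.1 (DFunLike.congr_fun hp (a : A ⧸ B)).symm)
    have G1 := IH (Nat.card B) (by nlinarith) B (P ⧸ f.ker) (QuotientGroup.kerLift f) (QuotientGroup.kerLift_injective f)
      (hP.to_quotient _) rfl hbo hb3
    have G2 := IH B.index (by nlinarith) (A ⧸ B) f.ker g hg (hP.to_subgroup _) rfl hio hi3
    have hb := ext_bound (QuotientGroup.mk' f.ker) (QuotientGroup.mk'_surjective _)
    rw [QuotientGroup.ker_mk'] at hb
    rw [← hmul]
    exact combine hb3 hi3 hbo hio G1 G2 hb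
  push Not at hred
  have hn9 : n = 9 ∨ 16 ≤ n := by
    by_contra hc
    push Not at hc
    have h15 : n = 15 := by
      obtain ⟨r, rfl⟩ := hodd
      have : r = 1 ∨ r = 2 ∨ r = 3 ∨ r = 5 ∨ r = 6 ∨ r = 7 := by omega
      rcases this with rfl | rfl | rfl | rfl | rfl | rfl <;> first | rfl | norm_num at hpr
    obtain ⟨a, ha⟩ := exists_prime_orderOf_dvd_card' (G := A) 5 (hp := ⟨by norm_num⟩) (by rw [hn, h15]; norm_num)
    obtain ⟨b, hb⟩ := exists_prime_orderOf_dvd_card' (G := A) 3 (hp := ⟨by norm_num⟩) (by rw [hn, h15]; norm_num)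
    have := hred (powMonoidHom (α := A) 3).ker (fun p x hx => by
      rw [MonoidHom.mem_ker, powMonoidHom_apply] at hx ⊢; rw [← map_pow, hx, map_one]) (fun e => by
        have : b ∈ (powMonoidHom (α := A) 3).ker := by
          rw [MonoidHom.mem_ker, powMonoidHom_apply, ← hb]; exact pow_orderOf_eq_one b
        rw [e, Subgroup.mem_bot] at this; rw [this, orderOf_one] at hb; omega)
    have h5 : a ∈ (powMonoidHom (α := A) 3).ker := this ▸ Subgroup.mem_top a
    rw [MonoidHom.mem_ker, powMonoidHom_apply] at h5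
    have := orderOf_dvd_of_pow_eq_one h5
    rw [ha] at this; norm_num at this
  have hsq2 : ∀ a : A, a * a = 1 → a = 1 := fun a ha => by
    have h4 : orderOf a ∣ Nat.gcd 2 (Nat.card A) := Nat.dvd_gcd (orderOf_dvd_of_pow_eq_one (by rw [pow_two, ha])) (orderOf_dvd_natCard a)
    rwa [Nat.coprime_two_left.2 (hn ▸ hodd), Nat.dvd_one, orderOf_eq_one_iff] at h4
  refine ⟨fun _ => ?_, fun h => absurd h (by omega)⟩
  obtain ⟨T, hTn, hTc, hTT⟩ := CfsgLib.Perm.exists_self_centralizing_normal_abelian hP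
  haveI := hTn
  haveI := hTc
  have hsqP : 2 ≤ (sq P).index → ∀ x : P, (Nat.card P = (sq P).index → x * x = 1) := fun _ x hx => by
    have h1 := (sq P).card_mul_index
    have h2 : sq P = ⊥ := Subgroup.eq_bot_of_card_eq _ (Nat.eq_of_mul_eq_mul_right (Nat.pos_of_ne_zero Subgroup.index_ne_zero_of_finite) (by rw [one_mul, h1, hx]))
    have h3 : x ^ 2 ∈ sq P := Subgroup.subset_closure ⟨x, rfl⟩
    rw [h2, Subgroup.mem_bot, pow_two] at h3; exact h3
  by_cases hcyc : IsCyclic T
  · obtain ⟨k, hk⟩ := IsPGroup.iff_card.1 (hP.to_subgroup T)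
    let φ : P →* (ZMod (Nat.card T))ˣ := (IsCyclic.mulAutMulEquiv T).toMonoidHom.comp MulAut.conjNormal
    have hker : φ.ker = T := by
      ext x
      have : x ∈ φ.ker ↔ (MulAut.conjNormal x : MulAut T) = 1 := by
        simp [φ, MonoidHom.mem_ker]
      rw [this]
      refine ⟨fun h => hTT ▸ Subgroup.mem_centralizer_iff.2 fun t ht => ?_, fun h => MulEquiv.ext fun t => Subtype.ext ?_⟩
      · have h1 : x * t * x⁻¹ = t := congrArg Subtype.val (DFunLike.congr_fun h (⟨t, ht⟩ : T))
        exact (mul_inv_eq_iff_eq_mul.1 h1).symm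
      · show x * (t : P) * x⁻¹ = t
        rw [← hTT] at h
        rw [← Subgroup.mem_centralizer_iff.1 h t t.2, mul_inv_cancel_right]
    have hb := ext_bound φ.rangeRestrict φ.rangeRestrict_surjective
    haveI : IsCyclic φ.rangeRestrict.ker := by rw [MonoidHom.ker_rangeRestrict, hker]; exact hcyc
    have hcyc2 := sq_index_cyclic (P := φ.rangeRestrict.ker)
    have hI : (sq P).index ≤ (sq φ.range).index * 2 := hb.trans (Nat.mul_le_mul_left _ hcyc2)
    rcases hn9 with h9 | h16
    · have hr : Nat.card φ.range ≤ 2 := by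
        haveI : NeZero (Nat.card T) := ⟨Nat.card_pos.ne'⟩
        rcases Nat.lt_or_ge k 3 with hk3 | hk3
        · refine (Subgroup.card_le_card_group _).trans ?_
          rw [Nat.card_eq_fintype_card, ZMod.card_units_eq_totient, hk]
          interval_cases k <;> decide
        · have h16 : Nat.card P ≤ 16 := by
            letI : MulAction P A := MulAction.compHom A ρ
            obtain ⟨u, hu⟩ : ∃ u : A, u ≠ 1 := by
              haveI : Nontrivial A := Finite.one_lt_card_iff_nontrivial.1 (by omega)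
              exact exists_ne 1
            have h3 : ∀ a : A, a ^ 3 = 1 := by
              obtain ⟨b, hb⟩ := exists_prime_orderOf_dvd_card' (G := A) 3 (hp := ⟨by norm_num⟩) (by rw [hn, h9]; norm_num)
              have := hred (powMonoidHom (α := A) 3).ker (fun p x hx => by
                rw [MonoidHom.mem_ker, powMonoidHom_apply] at hx ⊢; rw [← map_pow, hx, map_one]) (fun e => by
                  have : b ∈ (powMonoidHom (α := A) 3).ker := by
                    rw [MonoidHom.mem_ker, powMonoidHom_apply, ← hb]; exact pow_orderOf_eq_one b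
                  rw [e, Subgroup.mem_bot] at this; rw [this, orderOf_one] at hb; omega)
              intro a
              exact (this ▸ Subgroup.mem_top a : a ∈ (powMonoidHom (α := A) 3).ker)
            haveI : Fact (Nat.Prime 3) := ⟨by norm_num⟩
            have hu3 : orderOf u = 3 := orderOf_eq_prime (h3 u) hu
            set B := Subgroup.zpowers u
            have hq : Nat.card (A ⧸ B) = 3 := by
              have := B.card_mul_index
              rw [Nat.card_zpowers, hu3, hn, h9] at this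
              show B.index = 3; omega
            set St := MulAction.stabilizer P u
            have hfixB : ∀ p ∈ St, ∀ b ∈ B, ρ p b = b := fun p hp b hb => by
              obtain ⟨i, rfl⟩ := Subgroup.mem_zpowers_iff.1 hb
              rw [map_zpow, show ρ p u = u from hp]
            let g := quot (ρ.comp St.subtype) B (fun p b hb => (hfixB p p.2 b hb).symm ▸ hb)
            have hg : Function.Injective g := (injective_iff_map_eq_one g).2 fun p hp => Subtype.ext
              (coprime_trivial hP (hn ▸ hodd) hρ B (p : P) (hfixB p p.2) fun a => QuotientGroup.eq.1 (DFunLike.congr_fun hp (a : A ⧸ B)).symm)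
            have hSt : Nat.card St ≤ 2 := aut_card_three hq ▸ Nat.card_le_card_of_injective g hg
            have horb : St.index ≤ 8 := by
              rw [MulAction.index_stabilizer]
              have hsub : MulAction.orbit P u ⊆ {a : A | a ≠ 1} := by
                rintro _ ⟨p, rfl⟩ e
                exact hu ((ρ p).map_eq_one_iff.1 e)
              refine (Set.ncard_le_ncard hsub (Set.toFinite _)).trans ?_
              rw [show {a : A | a ≠ 1} = ({1} : Set A)ᶜ from rfl, Set.ncard_compl _, Set.ncard_singleton, hn, h9]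
            calc Nat.card P = Nat.card St * St.index := (St.card_mul_index).symm
              _ ≤ 2 * 8 := Nat.mul_le_mul hSt horb
          have h1 := φ.ker.card_mul_index
          rw [Subgroup.index_ker, hker] at h1
          have : 2 ^ 3 ≤ 2 ^ k := Nat.pow_le_pow_right two_pos hk3
          nlinarith
      have : (sq φ.range).index ≤ 2 := (Nat.le_of_dvd Nat.card_pos (Subgroup.index_dvd_card _)).trans hr
      omega
    · have := units_sqrt _ ⟨k, hk⟩ φ.range
      omega
  -- a normal four-group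
  have hT1 : T ≠ ⊥ := fun e => hcyc (by rw [e]; infer_instance)
  obtain ⟨z₀, hz₀⟩ : ∃ z : (T ⊓ Subgroup.center P : Subgroup P), orderOf z = 2 := by
    haveI := (Subgroup.nontrivial_iff_ne_bot _).2 (CfsgLib.Perm.inf_center_ne_bot hP T hT1)
    obtain ⟨m, hm, hm'⟩ := (IsPGroup.nontrivial_iff_card (p := 2) (hP.to_subgroup (T ⊓ Subgroup.center P))).1 inferInstance
    exact exists_prime_orderOf_dvd_card' 2 (hm' ▸ dvd_pow_self 2 hm.ne')
  obtain ⟨z, hzTZ⟩ := z₀
  rw [Subgroup.orderOf_mk] at hz₀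
  obtain ⟨hzT, hzZ⟩ := Subgroup.mem_inf.1 hzTZ
  have hzz : z * z = 1 := by have := pow_orderOf_eq_one z; rwa [hz₀, pow_two] at this
  have hz1 : z ≠ 1 := fun e => by rw [e, orderOf_one] at hz₀; omega
  -- fixed subgroups
  let Fx : P → Subgroup A := fun p =>
    { carrier := {a | ρ p a = a}, one_mem' := map_one _, mul_mem' := fun {a b} ha hb => by
        show ρ p (a * b) = a * b; rw [map_mul, show ρ p a = a from ha, show ρ p b = b from hb]
      inv_mem' := fun {a} ha => by show ρ p a⁻¹ = a⁻¹; rw [map_inv, show ρ p a = a from ha] }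
  have hFx : ∀ {p a}, a ∈ Fx p ↔ ρ p a = a := Iff.rfl
  have hmove : ∀ q p : P, ∀ a ∈ Fx p, ρ q a ∈ Fx (q * p * q⁻¹) := fun q p a ha => by
    rw [hFx, ← MulAut.mul_apply, ← map_mul, inv_mul_cancel_right, map_mul, MulAut.mul_apply, hFx.1 ha]
  have hinv : ∀ x : P, x * x = 1 → x ≠ 1 → (∀ q, q * x * q⁻¹ = x) → ∀ a, ρ x a = a⁻¹ := by
    intro x hxx hx1 hxc a
    have hbot : Fx x = ⊥ := by
      by_contra h
      have := hred (Fx x) (fun p b hb => hxc p ▸ hmove p x b hb) h
      exact hx1 (hρ (MulEquiv.ext fun b => by rw [map_one, MulAut.one_apply]; exact hFx.1 (this ▸ Subgroup.mem_top b)))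
    have h1 : a * ρ x a ∈ Fx x := by
      rw [hFx, map_mul, ← MulAut.mul_apply, ← map_mul, hxx, map_one, MulAut.one_apply, mul_comm]
    rw [hbot, Subgroup.mem_bot] at h1
    exact (inv_eq_of_mul_eq_one_right h1).symm
  have hzc : ∀ q, q * z * q⁻¹ = z := fun q => by rw [Subgroup.mem_center_iff.1 hzZ q, mul_inv_cancel_right]
  -- a second involution
  obtain ⟨e, heT, hee, hez, hec⟩ : ∃ e ∈ T, e * e = 1 ∧ e ∉ Subgroup.zpowers z ∧ ∀ q, q * e * q⁻¹ * e⁻¹ ∈ Subgroup.zpowers z := by
    set Z := Subgroup.zpowers z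
    haveI : Z.Normal := ⟨fun w hw q => by
      obtain ⟨i, rfl⟩ := Subgroup.mem_zpowers_iff.1 hw
      rw [← conj_zpow, hzc]; exact Subgroup.zpow_mem_zpowers z i⟩
    let Ω : Subgroup P :=
      { carrier := {t | t ∈ T ∧ t * t = 1}, one_mem' := ⟨one_mem _, one_mul 1⟩
        mul_mem' := fun {a b} ha hb => ⟨mul_mem ha.1 hb.1, by
          have hab : a * b = b * a := congrArg Subtype.val (mul_comm' (⟨a, ha.1⟩ : T) ⟨b, hb.1⟩)
          rw [mul_assoc a b, ← mul_assoc b a, ← hab, mul_assoc a b b, hb.2, mul_one, ha.2]⟩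
        inv_mem' := fun {a} ha => ⟨inv_mem ha.1, by rw [← mul_inv_rev, ha.2, inv_one]⟩ }
    haveI : Ω.Normal := ⟨fun t ht q => ⟨hTn.conj_mem t ht.1 q, by
      calc q * t * q⁻¹ * (q * t * q⁻¹) = q * (t * t) * q⁻¹ := by group
        _ = 1 := by rw [ht.2, mul_one, mul_inv_cancel]⟩⟩
    set π := QuotientGroup.mk' Z
    haveI : (Ω.map π).Normal := Subgroup.Normal.map inferInstance π (QuotientGroup.mk'_surjective Z)
    have hne : Ω.map π ≠ ⊥ := by
      rw [Ne, Subgroup.map_eq_bot_iff, QuotientGroup.ker_mk']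
      intro hle
      refine hcyc ?_
      have huni : ∀ x y : T, orderOf x = 2 → orderOf y = 2 → y ∈ Subgroup.zpowers x := fun x y hx hy => by
        have inZ : ∀ w : T, orderOf w = 2 → (w : P) = z := fun w hw => by
          have h1 : (w : P) * w = 1 := by
            have := congrArg Subtype.val (pow_orderOf_eq_one w); rwa [hw, SubgroupClass.coe_pow, pow_two] at this
          obtain ⟨i, hi⟩ := Subgroup.mem_zpowers_iff.1 (hle (show (w : P) ∈ Ω from ⟨w.2, h1⟩))
          rcases Int.even_or_odd i with ⟨j, rfl⟩ | ⟨j, rfl⟩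
          · exfalso
            rw [← two_mul, zpow_mul, zpow_two, hzz, one_zpow] at hi
            rw [← Subgroup.orderOf_coe, ← hi, orderOf_one] at hw; omega
          · rw [← hi, zpow_add, zpow_mul, zpow_two, hzz, one_zpow, one_mul, zpow_one]
        rw [show x = y from Subtype.ext ((inZ x hx).trans (inZ y hy).symm)]
        exact Subgroup.mem_zpowers y
      rcases CfsgLib.Solv.pgroup_unique_sub (hP.to_subgroup T) huni with h | ⟨-, m, ⟨φ⟩⟩
      · exact h
      · exfalso
        have := congrArg φ (mul_comm' (φ.symm (QuaternionGroup.a 1)) (φ.symm (QuaternionGroup.xa 0)))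
        simp only [map_mul, MulEquiv.apply_symm_apply, QuaternionGroup.a_mul_xa, QuaternionGroup.xa_mul_a,
          QuaternionGroup.xa.injEq, zero_sub, zero_add] at this
        have h2 : ((2 : ℕ) : ZMod (2 * 2 ^ (m + 1))) = 0 := by push_cast; linear_combination -this
        rw [ZMod.natCast_eq_zero_iff] at h2
        have := Nat.le_of_dvd two_pos h2
        have : 2 ≤ 2 ^ (m + 1) := by rw [pow_succ]; have := Nat.one_le_two_pow (n := m); omega
        omega
    obtain ⟨⟨w, hw⟩, hw1⟩ := Subgroup.ne_bot_iff_exists_ne_one.1 (CfsgLib.Perm.inf_center_ne_bot (hP.to_quotient Z) _ hne)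
    obtain ⟨⟨e, ⟨he1, he2⟩, rfl⟩, hwc⟩ := Subgroup.mem_inf.1 hw
    refine ⟨e, he1, he2, fun h => hw1 (Subtype.ext ((QuotientGroup.eq_one_iff e).2 h)), fun q => (QuotientGroup.eq_one_iff _).1 ?_⟩
    show π (q * e * q⁻¹ * e⁻¹) = 1
    rw [map_mul, map_mul, map_mul, map_inv, map_inv, Subgroup.mem_center_iff.1 hwc (π q)]
    group
  have hconj : ∀ q, q * e * q⁻¹ = e ∨ q * e * q⁻¹ = z * e := fun q => by
    obtain ⟨i, hi⟩ := Subgroup.mem_zpowers_iff.1 (hec q)
    rcases Int.even_or_odd i with ⟨j, rfl⟩ | ⟨j, rfl⟩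
    · rw [← two_mul, zpow_mul, zpow_two, hzz, one_zpow] at hi
      exact Or.inl (mul_inv_eq_one.1 hi.symm)
    · rw [zpow_add, zpow_mul, zpow_two, hzz, one_zpow, one_mul, zpow_one] at hi
      exact Or.inr (mul_inv_eq_iff_eq_mul.1 hi.symm)
  have he1 : e ≠ 1 := fun h => hez (h ▸ one_mem _)
  obtain ⟨t, ht⟩ : ∃ t, t * e * t⁻¹ = z * e := by
    by_contra hno
    push Not at hno
    have h1 := hinv e hee he1 fun q => (hconj q).resolve_right (hno q)
    have : e = z := hρ (MulEquiv.ext fun a => by rw [h1, hinv z hzz hz1 hzc])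
    exact hez (this ▸ Subgroup.mem_zpowers z)
  set M := Subgroup.centralizer ({e} : Set P)
  have hM : ∀ {p}, p ∈ M ↔ p * e * p⁻¹ = e := fun {p} => by
    rw [Subgroup.mem_centralizer_singleton_iff, mul_inv_eq_iff_eq_mul]
  have hMi : M.index ≤ 2 := by
    have hsurj : Function.Surjective (fun b : Bool => ((if b then t else 1 : P) : P ⧸ M)) := by
      intro q
      induction q using QuotientGroup.induction_on with
      | H p =>
        rcases hconj p with h | h
        · refine ⟨false, QuotientGroup.eq.2 ?_⟩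
          simpa using hM.2 h
        · refine ⟨true, QuotientGroup.eq.2 ?_⟩
          simp only [if_true]
          rw [hM]
          calc t⁻¹ * p * e * (t⁻¹ * p)⁻¹ = t⁻¹ * (p * e * p⁻¹) * t := by group
            _ = t⁻¹ * (t * e * t⁻¹) * t := by rw [h, ht]
            _ = e := by group
    simpa [Subgroup.index] using Nat.card_le_card_of_surjective _ hsurj
  have hIM : (sq P).index ≤ 2 * (sq M).index := by
    have h1 : ((sq M).map M.subtype).index = (sq M).index * M.index := Subgroup.index_map_subtype _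
    have h2 := Nat.le_of_dvd (Nat.pos_of_ne_zero Subgroup.index_ne_zero_of_finite) (Subgroup.index_dvd_of_le (sq_map_le M.subtype))
    rw [h1] at h2
    nlinarith
  set U := Fx e
  set U' := Fx (z * e)
  have hze : ∀ a, ρ (z * e) a = (ρ e a)⁻¹ := fun a => by rw [map_mul, MulAut.mul_apply, hinv z hzz hz1 hzc]
  have hte : t⁻¹ * (z * e) * t⁻¹⁻¹ = e := by rw [← ht]; group
  have hcardU : Nat.card U' = Nat.card U :=
    Nat.card_congr ((ρ t⁻¹).toEquiv.subtypeEquiv fun a => ⟨fun ha => by have := hmove t⁻¹ _ a ha; rwa [hte] at this, fun ha => by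
      have := ht ▸ hmove t e _ ha
      simpa using this⟩)
  have hcard : Nat.card U * Nat.card U = n := by
    rw [← hn]
    conv => lhs; arg 2; rw [← hcardU]
    rw [← Nat.card_prod]
    refine Nat.card_congr (Equiv.ofBijective (fun x : U × U' => (x.1 : A) * x.2) ⟨fun x y hxy => ?_, fun a => ?_⟩)
    · have key : ∀ w : A, w ∈ U → w ∈ U' → w = 1 := fun w h1 h2 => hsq2 w (by
        have h3 : ρ (z * e) w = w := h2
        rw [hze, show ρ e w = w from h1] at h3
        nth_rewrite 1 [← h3]; exact inv_mul_cancel w)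
      have h0 : (y.1 : A)⁻¹ * x.1 = y.2 * (x.2 : A)⁻¹ := by
        rw [eq_mul_inv_iff_mul_eq, mul_assoc, inv_mul_eq_iff_eq_mul]; exact hxy
      have h1 := key _ (U.mul_mem (U.inv_mem y.1.2) x.1.2) (h0 ▸ U'.mul_mem y.2.2 (U'.inv_mem x.2.2))
      have h2 := inv_mul_eq_one.1 h1
      refine Prod.ext (Subtype.ext h2.symm) (Subtype.ext ?_)
      have hxy' : (x.1 : A) * x.2 = y.1 * y.2 := hxy
      rw [h2] at hxy'; exact mul_left_cancel hxy'
    · obtain ⟨m, hm⟩ : ∃ m : ℕ, n = 2 * m + 1 := hodd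
      set b := a ^ (m + 1)
      have hbb : b * b = a := by
        rw [← pow_add, show m + 1 + (m + 1) = Nat.card A + 1 by omega, pow_succ, pow_card_eq_one', one_mul]
      have heb : ∀ c : A, ρ e (ρ e c) = c := fun c => by rw [← MulAut.mul_apply, ← map_mul, hee, map_one, MulAut.one_apply]
      refine ⟨(⟨b * ρ e b, ?_⟩, ⟨b * (ρ e b)⁻¹, ?_⟩), ?_⟩
      · rw [hFx, map_mul, heb, mul_comm]
      · rw [hFx, hze, map_mul, map_inv, heb, mul_inv_rev, inv_inv, mul_comm]
      · show b * ρ e b * (b * (ρ e b)⁻¹) = a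
        rw [mul_mul_mul_comm, mul_inv_cancel, mul_one, hbb]
  have hMU : ∀ p : M, ∀ a ∈ U, ρ p a ∈ U := fun p a ha => by have := hmove p e a ha; rwa [hM.1 p.2] at this
  have hMU' : ∀ p : M, ∀ a ∈ U', ρ p a ∈ U' := fun p a ha => by
    have := hmove p (z * e) a ha
    rwa [show (p : P) * (z * e) * (p : P)⁻¹ = ((p : P) * z * (p : P)⁻¹) * ((p : P) * e * (p : P)⁻¹) by group, hzc, hM.1 p.2] at this
  set f := restr (ρ.comp M.subtype) U hMU
  set g := (restr (ρ.comp M.subtype) U' hMU').comp f.ker.subtype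
  have hg : Function.Injective g := (injective_iff_map_eq_one g).2 fun p hp => Subtype.ext (Subtype.ext (by
    refine coprime_trivial hP (hn ▸ hodd) hρ U ((p : M) : P) (fun b hb => congrArg Subtype.val (DFunLike.congr_fun (MonoidHom.mem_ker.1 p.2) (⟨b, hb⟩ : U))) fun a => ?_
    obtain ⟨m, hm⟩ : ∃ m : ℕ, n = 2 * m + 1 := hodd
    set b := a ^ (m + 1)
    have hbb : b * b = a := by
      rw [← pow_add, show m + 1 + (m + 1) = Nat.card A + 1 by omega, pow_succ, pow_card_eq_one', one_mul]
    have heb : ∀ c : A, ρ e (ρ e c) = c := fun c => by rw [← MulAut.mul_apply, ← map_mul, hee, map_one, MulAut.one_apply]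
    have hu : b * ρ e b ∈ U := by rw [hFx, map_mul, heb, mul_comm]
    have hu' : b * (ρ e b)⁻¹ ∈ U' := by rw [hFx, hze, map_mul, map_inv, heb, mul_inv_rev, inv_inv, mul_comm]
    have e1 : ρ ((p : M) : P) (b * ρ e b) = b * ρ e b := congrArg Subtype.val (DFunLike.congr_fun (MonoidHom.mem_ker.1 p.2) (⟨_, hu⟩ : U))
    have e2 : ρ ((p : M) : P) (b * (ρ e b)⁻¹) = b * (ρ e b)⁻¹ := congrArg Subtype.val (DFunLike.congr_fun hp (⟨_, hu'⟩ : U'))
    have e3 : a = (b * ρ e b) * (b * (ρ e b)⁻¹) := by rw [mul_mul_mul_comm, mul_inv_cancel, mul_one, hbb]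
    rw [e3, map_mul, e1, e2, inv_mul_cancel]; exact one_mem _))
  have hUo : Odd (Nat.card U) := (Nat.odd_mul.1 (hcard.symm ▸ hodd)).1
  have hU3 : 3 ≤ Nat.card U := by
    obtain ⟨r, hr⟩ := hUo
    rcases r with _ | r
    · rw [hr] at hcard; omega
    · omega
  have G1 := IH (Nat.card U) (by nlinarith) U (M ⧸ f.ker) (QuotientGroup.kerLift f) (QuotientGroup.kerLift_injective f)
    ((hP.to_subgroup M).to_quotient _) rfl hUo hU3
  have G2 := IH (Nat.card U) (by nlinarith) U' f.ker g hg ((hP.to_subgroup M).to_subgroup _) hcardU hUo hU3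
  have hb := ext_bound (QuotientGroup.mk' f.ker) (QuotientGroup.mk'_surjective _)
  rw [QuotientGroup.ker_mk'] at hb
  rcases (show Nat.card U = 3 ∨ 5 ≤ Nat.card U by obtain ⟨r, hr⟩ := hUo; omega) with h3 | h5
  · have hM4 : Nat.card M ≤ 4 := by
      have h1 := f.ker.card_mul_index
      rw [Subgroup.index_ker] at h1
      have a1 : Nat.card f.range ≤ 2 := aut_card_three h3 ▸ Subgroup.card_le_card_group _
      have a2 : Nat.card f.ker ≤ 2 := aut_card_three (hcardU.trans h3) ▸ Nat.card_le_card_of_injective g hg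
      nlinarith
    by_contra hbig
    rw [h3] at hcard
    have hP8 : Nat.card P ≤ 8 := by have := M.card_mul_index; nlinarith
    have hIP : (sq P).index ∣ Nat.card P := Subgroup.index_dvd_card _
    obtain ⟨k, hk⟩ := IsPGroup.iff_card.1 hP
    obtain ⟨j, hj, hj'⟩ := (Nat.dvd_prime_pow Nat.prime_two).1 (hk ▸ hIP)
    have hj3 : 3 ≤ j := by
      by_contra hj3
      have : 2 ^ j ≤ 2 ^ 2 := Nat.pow_le_pow_right two_pos (by omega)
      omega
    have : 2 ^ 3 ≤ 2 ^ j := Nat.pow_le_pow_right two_pos hj3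
    have := Nat.le_of_dvd Nat.card_pos hIP
    have hel := hsqP (by omega)
    have he : ∀ x : P, x⁻¹ = x := fun x => inv_eq_of_mul_eq_one_right (hel x (by omega))
    have hcomm : t * e = e * t := by
      calc t * e = (t * e)⁻¹ := (he _).symm
        _ = e⁻¹ * t⁻¹ := mul_inv_rev t e
        _ = e * t := by rw [he, he]
    rw [hcomm, mul_inv_cancel_right] at ht
    exact hz1 (mul_eq_right.1 ht.symm)
  · have a1 := G1.1 h5
    have a2 := G2.1 h5
    nlinarith


set_option maxHeartbeats 1000000 in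
/-- Let G be a finite group that is the semidirect product of a normal abelian subgroup N of odd order by a 2-subgroup P, and suppose N is the unique minimal normal subgroup of G. Then the index of the Frattini subgroup of P in P is at most #N − 1. -/
theorem result {G : Type*} [Group G] [Finite G] (N P : Subgroup G) (hN : N.Normal) (hNab : IsMulCommutative ↥N) (hNodd : Odd (Nat.card ↥N)) (hP : IsPGroup 2 ↥P) (hdisj : N ⊓ P = ⊥) (hprod : N ⊔ P = ⊤) (hmin : N ≠ ⊥ ∧ ∀ M : Subgroup G, M.Normal → M ≠ ⊥ → N ≤ M) : (frattini ↥P).index ≤ Nat.card ↥N - 1 := by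
  classical
  haveI : Fact (Nat.Prime 2) := ⟨Nat.prime_two⟩
  haveI := hN
  haveI := hNab
  letI : CommGroup ↥N := { (inferInstance : Group ↥N) with mul_comm := mul_comm' }
  let ρ : P →* MulAut N := (MulAut.conjNormal (H := N)).comp P.subtype
  have hfix : ∀ p : P, ρ p = 1 → ∀ a ∈ N, (p : G) * a = a * p := fun p hp a ha => by
    have h1 : (p : G) * a * (p : G)⁻¹ = a := congrArg Subtype.val (DFunLike.congr_fun hp (⟨a, ha⟩ : N))
    exact mul_inv_eq_iff_eq_mul.1 h1
  have hρ : Function.Injective ρ := by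
    rw [← MonoidHom.ker_eq_bot_iff]
    by_contra hne
    set C := ρ.ker.map P.subtype with hC
    have hCn : C.Normal := by
      refine Subgroup.normalizer_eq_top_iff.1 (top_le_iff.1 ?_)
      rw [← hprod]
      refine sup_le (fun a ha => Subgroup.mem_normalizer_fintype fun w hw => ?_)
        (fun a ha => Subgroup.mem_normalizer_fintype fun w hw => ?_)
      · obtain ⟨p, hp, hpw⟩ := Subgroup.mem_map.1 (SetLike.mem_coe.1 hw)
        have h4 : (p : G) * a = a * p := hfix p (MonoidHom.mem_ker.1 hp) a ha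
        have h5 : a * w * a⁻¹ = w := by rw [← hpw, P.subtype_apply, ← h4, mul_inv_cancel_right]
        rw [SetLike.mem_coe, h5]
        exact SetLike.mem_coe.1 hw
      · obtain ⟨p, hp, hpw⟩ := Subgroup.mem_map.1 (SetLike.mem_coe.1 hw)
        have h6 := (MonoidHom.normal_ker ρ).conj_mem p hp (⟨a, ha⟩ : P)
        refine SetLike.mem_coe.2 (Subgroup.mem_map.2 ⟨_, h6, ?_⟩)
        rw [← hpw]
        simp only [map_mul, map_inv, Subgroup.coe_subtype]
    have hle := hmin.2 C hCn (by rwa [hC, Ne, Subgroup.map_eq_bot_iff_of_injective _ P.subtype_injective])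
    have h2 : N ≤ P := hle.trans (Subgroup.map_subtype_le _)
    rw [inf_eq_left.2 h2] at hdisj
    exact hmin.1 hdisj
  haveI := (Subgroup.nontrivial_iff_ne_bot N).2 hmin.1
  have h1 := Finite.one_lt_card (α := N)
  obtain ⟨r, hr⟩ := hNodd
  have hB := bound (Nat.card N) N P ρ hρ hP rfl ⟨r, hr⟩ (by omega)
  have hle : sq P ≤ frattini P := (Subgroup.closure_le _).2 (by
    rintro _ ⟨x, rfl⟩; exact CfsgLib.Solv.pow_mem_frattini hP x)
  refine (Nat.le_of_dvd (Nat.pos_of_ne_zero Subgroup.index_ne_zero_of_finite) (Subgroup.index_dvd_of_le hle)).trans ?_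
  rcases (show Nat.card N = 3 ∨ 5 ≤ Nat.card N by omega) with h | h
  · have := hB.2 h.le; omega
  · have := hB.1 h; omega

end Cfsg.Agent.S4188
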