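import Cfsg.Statements.S4189

import Mathlib
import Cfsg.Agent.Solv.UniqueSub
import Cfsg.Agent.Solv.FittingBasic
import Cfsg.Agent.Solv.PComplement

set_option autoImplicit false
set_option linter.style.haveILetI false
open Cfsg

namespace Cfsg.Agent.S4189
open scoped commutatorElement

/-- Let P be a finite non-abelian 2-group whose commutator subgroup has index 4 and whose automorphism group is not a 2-group (some automorphism has order that is not a power of 2). Then P is isomorphic to the quaternion group of order 8. -/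
theorem result {P : Type*} [Group P] [Finite P] (hP : IsPGroup 2 P) (hna : ¬ IsMulCommutative P) (h4 : (commutator P).index = 4) (haut : ¬ IsPGroup 2 (MulAut P)) : Nonempty (P ≃* QuaternionGroup 2) := by
  classical
  haveI := Fact.mk Nat.prime_two
  set D := commutator P with hD
  haveI : D.Characteristic := inferInstance
  haveI : D.Normal := inferInstance
  have hDΦ : D ≤ frattini P := CfsgLib.Solv.commutator_le_frattini hP
  have hgen : ∀ K : Subgroup P, K ⊔ D = ⊤ → K = ⊤ := fun K hK =>
    frattini_nongenerating (eq_top_iff.2 (hK.ge.trans (sup_le_sup_left hDΦ K)))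
  -- an automorphism of odd prime order
  obtain ⟨φ, r, hr, hr2, hφ⟩ : ∃ φ : MulAut P, ∃ r : ℕ, r.Prime ∧ r ≠ 2 ∧ orderOf φ = r := by
    by_contra hcon
    refine haut (IsPGroup.of_card (n := (Nat.card (MulAut P)).primeFactorsList.length)
      (Nat.eq_prime_pow_of_unique_prime_dvd Nat.card_pos.ne' fun {r} hr hd => ?_))
    by_contra hr2
    haveI := Fact.mk hr
    obtain ⟨φ, hφ⟩ := exists_prime_orderOf_dvd_card' (G := MulAut P) r hd
    exact hcon ⟨φ, r, hr, hr2, hφ⟩
  haveI := Fact.mk hr
  have hφ1 : φ ≠ 1 := fun e => hr.one_lt.ne (by rw [← hφ, e, orderOf_one])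
  have hmap : ∀ {K : Subgroup P}, K.Characteristic → ∀ x ∈ K, φ x ∈ K := fun hK x hx =>
    Subgroup.characteristic_iff_map_le.1 hK φ ⟨x, hx, rfl⟩
  have hmapD : ∀ x, φ x ∈ D ↔ x ∈ D := fun x =>
    ⟨fun hx => by
      have := Subgroup.characteristic_iff_map_le.1 (inferInstance : D.Characteristic) φ.symm ⟨_, hx, rfl⟩
      simpa using this, hmap inferInstance x⟩
  let Q := P ⧸ D
  have hQ4 : Nat.card Q = 4 := h4
  let σ : Q → Q := Quotient.lift (fun x => (QuotientGroup.mk (φ x) : Q)) fun x y hxy => by
    rw [QuotientGroup.eq, ← map_inv, ← map_mul, hmapD]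
    exact QuotientGroup.leftRel_apply.1 hxy
  have hσ : ∀ x : P, σ (x : Q) = (φ x : Q) := fun _ => rfl
  have hσmul : ∀ u v : Q, σ (u * v) = σ u * σ v := by
    intro u v
    obtain ⟨x, rfl⟩ := QuotientGroup.mk_surjective u
    obtain ⟨y, rfl⟩ := QuotientGroup.mk_surjective v
    rw [← QuotientGroup.mk_mul, hσ, hσ, hσ, map_mul, QuotientGroup.mk_mul]
  have hσinj : Function.Injective σ := by
    intro u v huv
    obtain ⟨x, rfl⟩ := QuotientGroup.mk_surjective u
    obtain ⟨y, rfl⟩ := QuotientGroup.mk_surjective v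
    rw [hσ, hσ, QuotientGroup.eq, ← map_inv, ← map_mul, hmapD] at huv
    exact QuotientGroup.eq.2 huv
  have hσpow : ∀ (n : ℕ) (x : P), σ^[n] (x : Q) = ((φ ^ n) x : Q) := by
    intro n
    induction n with
    | zero => intro x; rfl
    | succ n ih => intro x; rw [Function.iterate_succ_apply', ih, hσ, pow_succ', MulAut.mul_apply]
  -- `φ` cannot fix every coset
  have hmove : ¬ ∀ u : Q, σ u = u := by
    intro hall
    apply hφ1
    let F : Subgroup P :=
      { carrier := {x | φ x = x}
        one_mem' := map_one φ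
        mul_mem' := fun {x y} hx hy => by
          show φ (x * y) = x * y
          rw [map_mul, hx, hy]
        inv_mem' := fun {x} hx => by
          show φ x⁻¹ = x⁻¹
          rw [map_inv, hx] }
    suffices hF : F = ⊤ from MulEquiv.ext fun x => show x ∈ F from hF ▸ Subgroup.mem_top x
    refine hgen F (eq_top_iff.2 fun x _ => ?_)
    have hcos : ∀ ψ ∈ Subgroup.zpowers φ, ∀ y : P, (y : Q) = (x : Q) → ((ψ y : P) : Q) = (x : Q) := by
      intro ψ hψ
      obtain ⟨j, rfl⟩ := (isOfFinOrder_of_finite φ).mem_powers_iff_mem_zpowers.2 hψ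
      intro y hy
      have e := hσpow j y
      rw [Function.iterate_fixed (hall _) j, hy] at e
      exact e.symm
    let S := {y : P // (y : Q) = (x : Q)}
    letI : MulAction (Subgroup.zpowers φ) S :=
      { smul := fun ψ y => ⟨(ψ : MulAut P) y.1, hcos _ ψ.2 _ y.2⟩
        one_smul := fun y => Subtype.ext rfl
        mul_smul := fun a b y => Subtype.ext rfl }
    have hS : ¬ r ∣ Nat.card S := by
      have e : Nat.card S = Nat.card D := by
        refine Nat.card_congr
          { toFun := fun y => ⟨x⁻¹ * y.1, QuotientGroup.eq.1 y.2.symm⟩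
            invFun := fun d => ⟨x * d.1, (QuotientGroup.eq.2 (by simp)).symm⟩
            left_inv := fun y => Subtype.ext (mul_inv_cancel_left x y.1)
            right_inv := fun d => Subtype.ext (inv_mul_cancel_left x d.1) }
      obtain ⟨k, hk⟩ := IsPGroup.iff_card.1 (hP.to_subgroup D)
      rw [e, hk]
      exact fun hd => hr2 ((Nat.prime_dvd_prime_iff_eq hr Nat.prime_two).1 (hr.dvd_of_dvd_pow hd))
    have hp : IsPGroup r (Subgroup.zpowers φ) := IsPGroup.of_card (n := 1) (by rw [Nat.card_zpowers, hφ, pow_one])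
    obtain ⟨⟨y, hy⟩, hyf⟩ := hp.nonempty_fixed_point_of_prime_not_dvd_card S hS
    have h1 : φ y = y := congrArg Subtype.val (hyf ⟨φ, Subgroup.mem_zpowers φ⟩)
    have h2 : y⁻¹ * x ∈ D := QuotientGroup.eq.1 hy
    have : x = y * (y⁻¹ * x) := (mul_inv_cancel_left y x).symm
    rw [this]
    exact Subgroup.mul_mem_sup h1 h2
  have hσr : ∀ u : Q, σ^[r] u = u := by
    intro u
    obtain ⟨x, rfl⟩ := QuotientGroup.mk_surjective u
    rw [hσpow, ← hφ, pow_orderOf_eq_one]; rfl
  haveI := Fintype.ofFinite Q
  have h1σ : σ 1 = 1 := by rw [← QuotientGroup.mk_one, hσ, map_one]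
  have hnofix : ∀ u : Q, σ u = u → u = 1 := by
    intro u hu
    by_contra hu1
    apply hmove
    intro v
    by_contra hv
    have hv1 : v ≠ 1 := fun e => hv (by rw [e, h1σ])
    have hvu : v ≠ u := fun e => hv (by rw [e, hu])
    have hw1 : σ v ≠ 1 := fun e => hv1 (hσinj (by rw [e, h1σ]))
    have hwu : σ v ≠ u := fun e => hvu (hσinj (by rw [e, hu]))
    have hz1 : σ (σ v) ≠ 1 := fun e => hw1 (hσinj (by rw [e, h1σ]))
    have hzu : σ (σ v) ≠ u := fun e => hwu (hσinj (by rw [e, hu]))
    have hzw : σ (σ v) ≠ σ v := fun e => hv (hσinj e)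
    have hback : σ (σ v) = v := by
      by_contra hzv
      have hc : ({1, u, v, σ v, σ (σ v)} : Finset Q).card = 5 := by
        simp [Ne.symm hu1, Ne.symm hv1, Ne.symm hw1, Ne.symm hz1, Ne.symm hvu, Ne.symm hwu, Ne.symm hzu,
          Ne.symm hv, Ne.symm hzv, Ne.symm hzw]
      have := Finset.card_le_univ ({1, u, v, σ v, σ (σ v)} : Finset Q)
      rw [hc, ← Nat.card_eq_fintype_card, hQ4] at this
      omega
    obtain ⟨k, hk⟩ := hr.eq_two_or_odd'.resolve_left hr2
    have h3 := hσr v
    have h2 : ∀ k : ℕ, σ^[2 * k] v = v := by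
      intro k
      induction k with
      | zero => rfl
      | succ k ih => rw [Nat.mul_succ, Function.iterate_add_apply]; show σ^[2 * k] (σ (σ v)) = v; rw [hback, ih]
    rw [hk] at h3
    change σ^[(2 * k).succ] v = v at h3
    rw [Function.iterate_succ_apply', h2] at h3
    exact hv h3
  -- generators
  obtain ⟨a, ha⟩ : ∃ a : P, a ∉ D := by
    by_contra hcon
    push Not at hcon
    rw [(eq_top_iff.2 fun x _ => hcon x : D = ⊤), Subgroup.index_top] at h4
    omega
  have ha1 : (a : Q) ≠ 1 := fun e => ha ((QuotientGroup.eq_one_iff a).1 e)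
  set b := φ a with hb
  have hb1 : (b : Q) ≠ 1 := fun e => ha1 (hσinj (by rw [hσ, h1σ]; exact e))
  have hab1 : (a : Q) ≠ (b : Q) := fun e => ha1 (hnofix _ (by rw [hσ]; exact e.symm))
  have hQcomm : ∀ u v : Q, u * v = v * u := by
    intro u v
    obtain ⟨x, rfl⟩ := QuotientGroup.mk_surjective u
    obtain ⟨y, rfl⟩ := QuotientGroup.mk_surjective v
    rw [← QuotientGroup.mk_mul, ← QuotientGroup.mk_mul, QuotientGroup.eq]
    have : (x * y)⁻¹ * (y * x) = ⁅y⁻¹, x⁻¹⁆ := by simp [commutatorElement_def, mul_assoc]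
    rw [this]
    exact Subgroup.commutator_mem_commutator (Subgroup.mem_top _) (Subgroup.mem_top _)
  have hab : ∀ K : Subgroup P, a ∈ K → b ∈ K → K = ⊤ := by
    intro K haK hbK
    refine hgen K ?_
    let M := K.map (QuotientGroup.mk' D)
    have hM1 : 2 < Nat.card M := by
      rw [Nat.card_eq_fintype_card, Fintype.card_subtype]
      refine lt_of_lt_of_le (show 2 < ({1, (a : Q), (b : Q)} : Finset Q).card by
        simp [Ne.symm ha1, Ne.symm hb1, hab1]) (Finset.card_le_card fun u hu => ?_)
      simp only [Finset.mem_insert, Finset.mem_singleton] at hu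
      simp only [Finset.mem_filter, Finset.mem_univ, true_and]
      rcases hu with rfl | rfl | rfl
      · exact one_mem _
      · exact ⟨a, haK, rfl⟩
      · exact ⟨b, hbK, rfl⟩
    have hM : M = ⊤ := by
      refine Subgroup.eq_top_of_card_eq _ ?_
      have h5 : Nat.card M ∣ 4 := hQ4 ▸ Subgroup.card_subgroup_dvd_card M
      have h6 := Nat.le_of_dvd (by norm_num) h5
      rw [hQ4]
      interval_cases h7 : Nat.card M <;> omega
    have h8 := congrArg (Subgroup.comap (QuotientGroup.mk' D)) hM
    rwa [Subgroup.comap_map_eq, QuotientGroup.ker_mk', Subgroup.comap_top] at h8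
  set g3 := Subgroup.lowerCentralSeries (⊤ : Subgroup P) 2 with hg3
  set g4 := Subgroup.lowerCentralSeries (⊤ : Subgroup P) 3 with hg4
  have hD1 : Subgroup.lowerCentralSeries (⊤ : Subgroup P) 1 = D := rfl
  haveI : g3.Normal := inferInstance
  haveI : g4.Normal := inferInstance
  have hg3D : g3 ≤ D := by rw [← hD1]; exact Subgroup.lowerCentralSeries_antitone _ (by norm_num)
  have hcD : ∀ y ∈ D, ∀ x : P, ⁅y, x⁆ ∈ g3 := fun y hy x =>
    Subgroup.commutator_mem_commutator (H₁ := Subgroup.lowerCentralSeries (⊤ : Subgroup P) 1) hy (Subgroup.mem_top x)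
  have hc3 : ∀ y ∈ g3, ∀ x : P, ⁅y, x⁆ ∈ g4 := fun y hy x =>
    Subgroup.commutator_mem_commutator hy (Subgroup.mem_top x)
  -- centralizer of `D / g4`
  let S : Subgroup P :=
    { carrier := {x | ∀ y ∈ D, ⁅y, x⁆ ∈ g4}
      one_mem' := fun y _ => by simp
      mul_mem' := fun {x x'} hx hx' y hy => by
        have e : ⁅y, x * x'⁆ = ⁅y, x⁆ * (x * ⁅y, x'⁆ * x⁻¹) := by simp [commutatorElement_def, mul_assoc]
        rw [e]; exact mul_mem (hx y hy) ((inferInstance : g4.Normal).conj_mem _ (hx' y hy) x)
      inv_mem' := fun {x} hx y hy => by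
        have e : ⁅y, x⁻¹⁆ = x⁻¹ * ⁅y, x⁆⁻¹ * x⁻¹⁻¹ := by simp [commutatorElement_def, mul_assoc]
        rw [e]; exact (inferInstance : g4.Normal).conj_mem _ (inv_mem (hx y hy)) _ }
  have hSφ : ∀ x ∈ S, φ x ∈ S := by
    intro x hx y hy
    obtain ⟨y', rfl⟩ := φ.surjective y
    rw [← map_commutatorElement]
    exact hmap inferInstance _ (hx y' ((hmapD y').1 hy))
  have hg3bot : g3 = ⊥ := by
    haveI := hP.isNilpotent
    suffices hS : a ∈ S by
      have hStop : S = ⊤ := hab S hS (hSφ a hS)
      apply CfsgLib.Solv.isNilpotent_bot_of_eq_commutator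
      refine le_trans ?_ (le_of_eq (Subgroup.lowerCentralSeries_succ _ 2))
      rw [hg3, Subgroup.lowerCentralSeries_succ, Subgroup.commutator_le]
      intro y hy x _
      exact (show x ∈ S by rw [hStop]; trivial) y hy
    -- commutators of generators
    set c := ⁅a, b⁆ with hc
    have hcmem : c ∈ D := Subgroup.commutator_mem_commutator (Subgroup.mem_top _) (Subgroup.mem_top _)
    have hsq : ∀ x : P, x ∉ D → x ^ 2 ∈ D := by
      intro x hx
      rw [← QuotientGroup.eq_one_iff, QuotientGroup.mk_pow]
      by_contra hx2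
      -- otherwise the quotient would be cyclic
      have ho : orderOf (x : Q) = 4 := by
        have h5 : orderOf (x : Q) ∣ 4 := hQ4 ▸ orderOf_dvd_natCard _
        obtain ⟨k, hk, he⟩ := (Nat.dvd_prime_pow Nat.prime_two).1 (show orderOf (x : Q) ∣ 2 ^ 2 from h5)
        interval_cases k
        · exact absurd (orderOf_dvd_iff_pow_eq_one.1 (he ▸ (by norm_num) : orderOf (x : Q) ∣ 2)) hx2
        · exact absurd (orderOf_dvd_iff_pow_eq_one.1 (he ▸ (by norm_num) : orderOf (x : Q) ∣ 2)) hx2
        · exact he
      apply hna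
      have htop : Subgroup.zpowers x = ⊤ := by
        refine hgen _ ?_
        have h8 : (Subgroup.zpowers x).map (QuotientGroup.mk' D) = ⊤ := by
          rw [MonoidHom.map_zpowers]
          exact Subgroup.eq_top_of_card_eq _ (by rw [Nat.card_zpowers, hQ4]; exact ho)
        have h9 := congrArg (Subgroup.comap (QuotientGroup.mk' D)) h8
        rwa [Subgroup.comap_map_eq, QuotientGroup.ker_mk', Subgroup.comap_top] at h9
      refine ⟨⟨fun y z => ?_⟩⟩
      obtain ⟨i, rfl⟩ := Subgroup.mem_zpowers_iff.1 (htop ▸ Subgroup.mem_top y : y ∈ Subgroup.zpowers x)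
      obtain ⟨j, rfl⟩ := Subgroup.mem_zpowers_iff.1 (htop ▸ Subgroup.mem_top z : z ∈ Subgroup.zpowers x)
      exact (Commute.zpow_zpow (Commute.refl x) i j).eq
    have hc2 : c ^ 2 ∈ g3 := by
      have e : ⁅a ^ 2, b⁆ = ⁅a, c⁆ * c * c := by simp [hc, commutatorElement_def, sq, mul_assoc]
      have h1 : ⁅a ^ 2, b⁆ ∈ g3 := hcD _ (hsq a ha) b
      have h2 : ⁅a, c⁆ ∈ g3 := by
        rw [← commutatorElement_inv]; exact inv_mem (hcD c hcmem a)
      rw [e, mul_assoc, Subgroup.mul_mem_cancel_left _ h2, ← sq] at h1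
      exact h1
    -- `D = g3 ∪ c g3`
    let K : Subgroup P :=
      { carrier := {y | y ∈ g3 ∨ c⁻¹ * y ∈ g3}
        one_mem' := Or.inl (one_mem _)
        mul_mem' := fun {y z} hy hz => by
          have key : ∀ u, u ∈ g3 → c⁻¹ * u * c ∈ g3 := fun u hu => by
            simpa using (inferInstance : g3.Normal).conj_mem u hu c⁻¹
          rcases hy with hy | hy <;> rcases hz with hz | hz
          · exact Or.inl (mul_mem hy hz)
          · right
            have e : c⁻¹ * (y * z) = (c⁻¹ * y * c) * (c⁻¹ * z) := by group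
            rw [e]; exact mul_mem (key y hy) hz
          · right
            rw [← mul_assoc]; exact mul_mem hy hz
          · left
            have e : y * z = (c * (c⁻¹ * y) * c⁻¹) * (c ^ 2 * (c⁻¹ * z)) := by rw [sq]; group
            rw [e]
            exact mul_mem ((inferInstance : g3.Normal).conj_mem _ hy c) (mul_mem hc2 hz)
        inv_mem' := fun {y} hy => by
          rcases hy with hy | hy
          · exact Or.inl (inv_mem hy)
          · right
            have e : c⁻¹ * y⁻¹ = c⁻¹ * (c⁻¹ * y)⁻¹ * c * (c ^ 2)⁻¹ := by rw [sq]; group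
            rw [e]
            exact mul_mem (by simpa using (inferInstance : g3.Normal).conj_mem _ (inv_mem hy) c⁻¹) (inv_mem hc2) }
    have hKn : K.Normal := ⟨fun y hy g => by
      have hyD : y ∈ D := by
        rcases hy with hy | hy
        · exact hg3D hy
        · have := mul_mem hcmem (hg3D hy); rwa [mul_inv_cancel_left] at this
      have h1 : ⁅y, g⁆⁻¹ ∈ g3 := inv_mem (hcD y hyD g)
      have e : g * y * g⁻¹ = ⁅y, g⁆⁻¹ * y := by simp [commutatorElement_def, mul_assoc]
      rw [e]; exact mul_mem (show _ ∈ K from Or.inl h1) hy⟩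
    have hDK : D ≤ K := by
      let π := QuotientGroup.mk' K
      have hcen : ∀ x : P, π a * π x = π x * π a ∧ π b * π x = π x * π b := by
        have hca : Subgroup.closure ({a, b} : Set P) = ⊤ :=
          hab _ (Subgroup.subset_closure (by simp)) (Subgroup.subset_closure (by simp))
        have hcab : π a * π b = π b * π a := by
          rw [← commutatorElement_eq_one_iff_mul_comm, ← map_commutatorElement]
          exact (QuotientGroup.eq_one_iff _).2 (Or.inr (by rw [inv_mul_cancel]; exact one_mem _))
        intro x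
        have hx : x ∈ Subgroup.closure ({a, b} : Set P) := hca ▸ Subgroup.mem_top x
        induction hx using Subgroup.closure_induction with
        | mem y hy =>
          rcases hy with rfl | rfl
          · exact ⟨rfl, hcab.symm⟩
          · exact ⟨hcab, rfl⟩
        | one => simp
        | mul y z _ _ iy iz =>
          rw [map_mul]
          exact ⟨(Commute.mul_right iy.1 iz.1).eq, (Commute.mul_right iy.2 iz.2).eq⟩
        | inv y _ iy =>
          rw [map_inv]
          exact ⟨(Commute.inv_right iy.1).eq, (Commute.inv_right iy.2).eq⟩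
      rw [hD, commutator_def, Subgroup.commutator_le]
      rintro x - y -
      rw [← QuotientGroup.eq_one_iff (N := K)]
      show π ⁅x, y⁆ = 1
      rw [map_commutatorElement, commutatorElement_eq_one_iff_mul_comm]
      have hcl : Subgroup.closure ({a, b} : Set P) = ⊤ :=
        hab _ (Subgroup.subset_closure (by simp)) (Subgroup.subset_closure (by simp))
      have hx : x ∈ Subgroup.closure ({a, b} : Set P) := hcl ▸ Subgroup.mem_top x
      induction hx using Subgroup.closure_induction with
      | mem z hz =>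
        rcases hz with rfl | rfl
        · exact (hcen y).1
        · exact (hcen y).2
      | one => simp
      | mul u v _ _ iu iv => rw [map_mul]; exact (Commute.mul_left iu iv).eq
      | inv u _ iu => rw [map_inv]; exact (Commute.inv_left iu).eq
    by_cases hall : ∀ x : P, x ∉ D → x ^ 2 ∈ g3
    · -- then `P/g3` is abelian
      exfalso
      have hφb : φ b ∉ D := fun h => ha ((hmapD a).1 ((hmapD b).1 h))
      have hbD : b ∉ D := fun h => ha ((hmapD a).1 h)
      have habD : a * b ∉ D := fun h => by
        have e : (b : Q) = (a : Q) := by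
          rw [QuotientGroup.eq]
          have h2 := mul_mem (inv_mem h) (hsq a ha)
          simpa [sq, mul_assoc] using h2
        exact hab1 e.symm
      have h1 : c ∈ g3 := by
        have ea := (inferInstance : g3.Normal).conj_mem _ (inv_mem (hall a ha)) a
        have e : c = (a * b) ^ 2 * ((b⁻¹ * (a ^ 2)⁻¹ * b⁻¹⁻¹) * (b ^ 2)⁻¹) := by
          simp [hc, commutatorElement_def, sq, mul_assoc]
        rw [e]
        exact mul_mem (hall _ habD) (mul_mem ((inferInstance : g3.Normal).conj_mem _ (inv_mem (hall a ha)) _) (inv_mem (hall b hbD)))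
      have hDg : D ≤ g3 := fun y hy => by
        rcases hDK hy with h | h
        · exact h
        · have := mul_mem h1 h; rwa [mul_inv_cancel_left] at this
      have hDbot : D = ⊥ := by
        apply CfsgLib.Solv.isNilpotent_bot_of_eq_commutator
        exact hDg
      apply hna
      refine ⟨⟨fun x y => ?_⟩⟩
      rw [← commutatorElement_eq_one_iff_mul_comm, ← Subgroup.mem_bot, ← hDbot]
      exact Subgroup.commutator_mem_commutator (Subgroup.mem_top _) (Subgroup.mem_top _)
    · push Not at hall
      obtain ⟨x, hx, hx2⟩ := hall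
      have hxS : x ∈ S := by
        intro y hy
        have hx2K : c⁻¹ * x ^ 2 ∈ g3 := (hDK (hsq x hx)).resolve_left hx2
        rcases hDK hy with h | h
        · exact hc3 y h x
        · -- `y ≡ c ≡ x ^ 2`
          have hz : (x ^ 2)⁻¹ * y ∈ g3 := by
            have e : (x ^ 2)⁻¹ * y = (c⁻¹ * x ^ 2)⁻¹ * (c⁻¹ * y) := by group
            rw [e]; exact mul_mem (inv_mem hx2K) h
          have e2 : ⁅y, x⁆ = x ^ 2 * ⁅(x ^ 2)⁻¹ * y, x⁆ * (x ^ 2)⁻¹ := by
            simp [commutatorElement_def, sq, mul_assoc]
          rw [e2]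
          exact (inferInstance : g4.Normal).conj_mem _ (hc3 _ hz x) _
      -- `S` then contains `a`
      have hx1 : (x : Q) ≠ 1 := fun e => hx ((QuotientGroup.eq_one_iff x).1 e)
      have hxφ : (x : Q) ≠ (φ x : Q) := fun e => hx1 (hnofix _ (by rw [hσ]; exact e.symm))
      have hSall : S = ⊤ := by
        refine hgen S ?_
        let M := S.map (QuotientGroup.mk' D)
        have hφx1 : (φ x : Q) ≠ 1 := fun e => hx ((hmapD x).1 ((QuotientGroup.eq_one_iff _).1 e))
        have hM1 : 2 < Nat.card M := by
          rw [Nat.card_eq_fintype_card, Fintype.card_subtype]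
          refine lt_of_lt_of_le (show 2 < ({1, (x : Q), (φ x : Q)} : Finset Q).card by
            simp [Ne.symm hx1, Ne.symm hφx1, hxφ]) (Finset.card_le_card fun u hu => ?_)
          simp only [Finset.mem_insert, Finset.mem_singleton] at hu
          simp only [Finset.mem_filter, Finset.mem_univ, true_and]
          rcases hu with rfl | rfl | rfl
          · exact one_mem _
          · exact ⟨x, hxS, rfl⟩
          · exact ⟨φ x, hSφ x hxS, rfl⟩
        have hM : M = ⊤ := by
          refine Subgroup.eq_top_of_card_eq _ ?_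
          have h5 : Nat.card M ∣ 4 := hQ4 ▸ Subgroup.card_subgroup_dvd_card M
          have h6 := Nat.le_of_dvd (by norm_num) h5
          rw [hQ4]
          interval_cases h7 : Nat.card M <;> omega
        have h8 := congrArg (Subgroup.comap (QuotientGroup.mk' D)) hM
        rwa [Subgroup.comap_map_eq, QuotientGroup.ker_mk', Subgroup.comap_top] at h8
      rw [hSall]; trivial
  -- now `P` has class two and `D` has order two
  have hcent : ∀ y ∈ D, ∀ x : P, y * x = x * y := fun y hy x => by
    have := hcD y hy x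
    rw [hg3bot, Subgroup.mem_bot, commutatorElement_eq_one_iff_mul_comm] at this
    exact this
  have hcomm : a * b ≠ b * a := by
    intro e
    apply hna
    have hca : Subgroup.closure ({a, b} : Set P) = ⊤ :=
      hab _ (Subgroup.subset_closure (by simp)) (Subgroup.subset_closure (by simp))
    haveI : IsMulCommutative (Subgroup.closure ({a, b} : Set P)) := Subgroup.isMulCommutative_closure (by
      rintro x (rfl | rfl) y (rfl | rfl)
      · rfl
      · exact e
      · exact e.symm
      · rfl)
    exact ⟨⟨fun x y => congrArg Subtype.val (this.is_comm.comm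
      (⟨x, hca ▸ Subgroup.mem_top x⟩ : Subgroup.closure ({a, b} : Set P)) ⟨y, hca ▸ Subgroup.mem_top y⟩)⟩⟩
  have hQ2 : ∀ u : Q, u * u = 1 := by
    intro u
    by_contra hu
    have hu1 : u ≠ 1 := fun e => hu (by rw [e, one_mul])
    have h5 : orderOf u ∣ 4 := hQ4 ▸ orderOf_dvd_natCard _
    have h6 : orderOf u = 4 := by
      obtain ⟨k, hk, he⟩ := (Nat.dvd_prime_pow Nat.prime_two).1 (show orderOf u ∣ 2 ^ 2 from h5)
      interval_cases k
      · exact absurd (orderOf_eq_one_iff.1 he) hu1
      · exact absurd (by rw [← sq, show (2 : ℕ) = orderOf u by omega, pow_orderOf_eq_one]) hu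
      · exact he
    have h7 : Subgroup.zpowers u = ⊤ :=
      Subgroup.eq_top_of_card_eq _ (by rw [Nat.card_zpowers, h6, hQ4])
    obtain ⟨x, rfl⟩ := QuotientGroup.mk_surjective u
    apply hcomm
    have h9 : Subgroup.zpowers x = ⊤ := by
      refine hgen _ ?_
      have h8 : (Subgroup.zpowers x).map (QuotientGroup.mk' D) = ⊤ := by
        rw [MonoidHom.map_zpowers]; exact h7
      have := congrArg (Subgroup.comap (QuotientGroup.mk' D)) h8
      rwa [Subgroup.comap_map_eq, QuotientGroup.ker_mk', Subgroup.comap_top] at this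
    obtain ⟨i, hi⟩ := Subgroup.mem_zpowers_iff.1 (h9 ▸ Subgroup.mem_top a : a ∈ Subgroup.zpowers x)
    obtain ⟨j, hj⟩ := Subgroup.mem_zpowers_iff.1 (h9 ▸ Subgroup.mem_top b : b ∈ Subgroup.zpowers x)
    rw [← hi, ← hj]
    exact (Commute.zpow_zpow (Commute.refl x) i j).eq
  have hsq : ∀ x : P, x ^ 2 ∈ D := fun x => by
    rw [← QuotientGroup.eq_one_iff, QuotientGroup.mk_pow, sq]; exact hQ2 _
  set c := ⁅a, b⁆ with hc
  have hcmem : c ∈ D := Subgroup.commutator_mem_commutator (Subgroup.mem_top _) (Subgroup.mem_top _)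
  have hc2 : c * c = 1 := by
    have e : ⁅a ^ 2, b⁆ = ⁅a, c⁆ * c * c := by simp [hc, commutatorElement_def, sq, mul_assoc]
    have h2 : ⁅a, c⁆ = 1 := commutatorElement_eq_one_iff_mul_comm.2 (hcent c hcmem a).symm
    rw [h2, one_mul, commutatorElement_eq_one_iff_mul_comm.2 (hcent _ (hsq a) b)] at e
    exact e.symm
  let C : Subgroup P :=
    { carrier := {y | y = 1 ∨ y = c}
      one_mem' := Or.inl rfl
      mul_mem' := fun {y z} hy hz => by
        rcases hy with rfl | rfl <;> rcases hz with rfl | rfl <;> simp [hc2]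
      inv_mem' := fun {y} hy => by
        rcases hy with rfl | rfl
        · simp
        · exact Or.inr (inv_eq_of_mul_eq_one_right hc2) }
  have hCn : C.Normal := ⟨fun y hy g => by
    rcases hy with rfl | rfl
    · simp [C]
    · exact Or.inr (by rw [← hcent c hcmem g, mul_inv_cancel_right])⟩
  have hDC : D ≤ C := by
    let π := QuotientGroup.mk' C
    have hab' : π a * π b = π b * π a := by
      rw [← commutatorElement_eq_one_iff_mul_comm, ← map_commutatorElement]
      exact (QuotientGroup.eq_one_iff _).2 (Or.inr rfl)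
    have hca : Subgroup.closure ({a, b} : Set P) = ⊤ :=
      hab _ (Subgroup.subset_closure (by simp)) (Subgroup.subset_closure (by simp))
    haveI : IsMulCommutative (Subgroup.closure ({π a, π b} : Set (P ⧸ C))) := Subgroup.isMulCommutative_closure (by
      rintro x (rfl | rfl) y (rfl | rfl)
      · rfl
      · exact hab'
      · exact hab'.symm
      · rfl)
    have hall : ∀ x : P, π x ∈ Subgroup.closure ({π a, π b} : Set (P ⧸ C)) := fun x => by
      have h1 : π x ∈ (Subgroup.closure ({a, b} : Set P)).map π := Subgroup.mem_map_of_mem _ (hca ▸ Subgroup.mem_top x)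
      rwa [MonoidHom.map_closure, Set.image_pair] at h1
    rw [hD, commutator_def, Subgroup.commutator_le]
    intro x _ y _
    rw [← QuotientGroup.eq_one_iff (N := C)]
    show π ⁅x, y⁆ = 1
    rw [map_commutatorElement, commutatorElement_eq_one_iff_mul_comm]
    exact congrArg Subtype.val (this.is_comm.comm
      (⟨π x, hall x⟩ : Subgroup.closure ({π a, π b} : Set (P ⧸ C))) ⟨π y, hall y⟩)
  -- every element outside `D` has order four
  have hout : ∀ x : P, x ∉ D → x * x ≠ 1 := by
    intro x hx hxx
    set y := φ x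
    have hyy : y * y = 1 := by rw [← map_mul, hxx, map_one]
    have hx1 : (x : Q) ≠ 1 := fun e => hx ((QuotientGroup.eq_one_iff x).1 e)
    have hy1 : (y : Q) ≠ 1 := fun e => hx ((hmapD x).1 ((QuotientGroup.eq_one_iff _).1 e))
    have hxy : (x : Q) ≠ (y : Q) := fun e => hx1 (hnofix _ (by rw [hσ]; exact e.symm))
    have hz1 : (φ y : Q) ≠ 1 := fun e => hy1 (hσinj (by rw [hσ, h1σ]; exact e))
    have hzy : (φ y : Q) ≠ (y : Q) := fun e => hy1 (hnofix _ (by rw [hσ]; exact e))
    have hzx : (φ y : Q) ≠ (x : Q) := by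
      intro e
      have hw : σ ((x : Q) * (y : Q)) = (x : Q) * (y : Q) := by
        rw [hσmul, hσ, hσ, e]; exact hQcomm _ _
      have := hnofix _ hw
      exact hxy (by rw [mul_eq_one_iff_eq_inv.1 this]; exact inv_eq_of_mul_eq_one_right (hQ2 _))
    have hprod : (φ y : Q) = (x : Q) * (y : Q) := by
      by_contra hne
      have hw1 : (x : Q) * (y : Q) ≠ 1 := fun e => hxy (by rw [mul_eq_one_iff_eq_inv.1 e]; exact inv_eq_of_mul_eq_one_right (hQ2 _))
      have hwx : (x : Q) * (y : Q) ≠ (x : Q) := fun e => hy1 (mul_eq_left.1 e)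
      have hwy : (x : Q) * (y : Q) ≠ (y : Q) := fun e => hx1 (mul_eq_right.1 e)
      have hcq : ({1, (x : Q), (y : Q), (φ y : Q), (x : Q) * (y : Q)} : Finset Q).card = 5 := by
        simp [Ne.symm hx1, Ne.symm hy1, Ne.symm hz1, Ne.symm hw1, hxy, Ne.symm hzy, Ne.symm hzx,
          Ne.symm hwx, Ne.symm hwy, hne]
      have := Finset.card_le_univ ({1, (x : Q), (y : Q), (φ y : Q), (x : Q) * (y : Q)} : Finset Q)
      rw [hcq, ← Nat.card_eq_fintype_card, hQ4] at this
      omega
    rw [← QuotientGroup.mk_mul, QuotientGroup.eq] at hprod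
    set d := (φ y)⁻¹ * (x * y)
    have hd2 : d * d = 1 := by
      rcases hDC hprod with h | h <;> rw [h]
      · exact one_mul 1
      · exact hc2
    have hzz : φ y * φ y = 1 := by rw [← map_mul, hyy, map_one]
    have hxy2 : x * y * (x * y) = 1 := by
      have e : x * y = φ y * d := (mul_inv_cancel_left (φ y) (x * y)).symm
      rw [e, mul_assoc, ← mul_assoc d, hcent d hprod (φ y), mul_assoc (φ y) d d, hd2, mul_one, hzz]
    have hcm : x * y = y * x := by
      calc x * y = (y * (x * x) * y) * (x * y) := by rw [hxx, mul_one, hyy, one_mul]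
        _ = y * x * (x * y * (x * y)) := by group
        _ = y * x := by rw [hxy2, mul_one]
    apply hcomm
    have h10 := hgen (Subgroup.closure ({x, y} : Set P)) (by
      let M := (Subgroup.closure ({x, y} : Set P)).map (QuotientGroup.mk' D)
      have hM1 : 2 < Nat.card M := by
        rw [Nat.card_eq_fintype_card, Fintype.card_subtype]
        refine lt_of_lt_of_le (show 2 < ({1, (x : Q), (y : Q)} : Finset Q).card by
          simp [Ne.symm hx1, Ne.symm hy1, hxy]) (Finset.card_le_card fun u hu => ?_)
        simp only [Finset.mem_insert, Finset.mem_singleton] at hu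
        simp only [Finset.mem_filter, Finset.mem_univ, true_and]
        rcases hu with rfl | rfl | rfl
        · exact one_mem _
        · exact ⟨x, Subgroup.subset_closure (by simp), rfl⟩
        · exact ⟨y, Subgroup.subset_closure (by simp), rfl⟩
      have hM : M = ⊤ := by
        refine Subgroup.eq_top_of_card_eq _ ?_
        have h5 : Nat.card M ∣ 4 := hQ4 ▸ Subgroup.card_subgroup_dvd_card M
        have h6 := Nat.le_of_dvd (by norm_num) h5
        rw [hQ4]
        interval_cases h7 : Nat.card M <;> omega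
      have h8 := congrArg (Subgroup.comap (QuotientGroup.mk' D)) hM
      rwa [Subgroup.comap_map_eq, QuotientGroup.ker_mk', Subgroup.comap_top] at h8)
    haveI : IsMulCommutative (Subgroup.closure ({x, y} : Set P)) := Subgroup.isMulCommutative_closure (by
      rintro u (rfl | rfl) v (rfl | rfl)
      · rfl
      · exact hcm
      · exact hcm.symm
      · rfl)
    exact congrArg Subtype.val (this.is_comm.comm
      (⟨a, h10 ▸ Subgroup.mem_top a⟩ : Subgroup.closure ({x, y} : Set P)) ⟨b, h10 ▸ Subgroup.mem_top b⟩)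
  have hc1 : c ≠ 1 := fun e => hcomm (commutatorElement_eq_one_iff_mul_comm.1 e)
  have huniq : ∀ x y : P, orderOf x = 2 → orderOf y = 2 → y ∈ Subgroup.zpowers x := by
    have key : ∀ x : P, orderOf x = 2 → x = c := by
      intro x hx
      have h1 : x ∈ D := by
        by_contra hxD
        exact hout x hxD (by rw [← sq, ← hx, pow_orderOf_eq_one])
      rcases hDC h1 with h | h
      · rw [h, orderOf_one] at hx; omega
      · exact h
    intro x y hx hy
    rw [key x hx, key y hy]
    exact Subgroup.mem_zpowers c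
  have hcard : Nat.card P = 8 := by
    have hDcard : Nat.card D = 2 := by
      have e : D = C := le_antisymm hDC (fun y hy => by rcases hy with rfl | rfl; exacts [one_mem _, hcmem])
      rw [e, Nat.card_eq_two_iff]
      refine ⟨⟨1, Or.inl rfl⟩, ⟨c, Or.inr rfl⟩, fun e => hc1 (congrArg Subtype.val e).symm, ?_⟩
      ext ⟨y, hy⟩
      rcases hy with rfl | rfl <;> simp
    rw [← D.card_mul_index, hDcard, h4]
  rcases CfsgLib.Solv.pgroup_unique_sub hP huniq with hcyc | ⟨-, n, ⟨e⟩⟩
  · exact absurd (letI := IsCyclic.commGroup (α := P); ⟨⟨mul_comm⟩⟩) hna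
  · have h1 := Nat.card_congr e.toEquiv
    rw [hcard, Nat.card_eq_fintype_card, QuaternionGroup.card] at h1
    have h2 : n = 0 := by
      rcases Nat.eq_zero_or_pos n with h | h
      · exact h
      · have : 4 ≤ 2 ^ (n + 1) := le_trans (by norm_num) (Nat.pow_le_pow_right (by norm_num) (show 2 ≤ n + 1 by omega))
        omega
    subst h2
    exact ⟨e⟩

end Cfsg.Agent.S4189
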