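import Cfsg.Statements.S4195
import Cfsg.Agent.Solv.Basic
import Cfsg.Agent.Perm.Basic

set_option autoImplicit false
set_option linter.style.haveILetI false
open Cfsg

namespace Cfsg.Agent.S4195

/-- Let x be a non-identity element of a finite group G whose centralizer contains a Sylow 2-subgroup of G. If x is conjugate to its inverse, then x has order 2. -/
theorem result {G : Type*} [Group G] [Finite G] (x : G) (hx : x ≠ 1) (P : Sylow 2 G) (hP : (P : Subgroup G) ≤ Subgroup.centralizer ({x} : Set G)) (hreal : IsConj x x⁻¹) : orderOf x = 2 := by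
  obtain ⟨c, hc⟩ := isConj_iff.1 hreal
  by_contra h2
  obtain ⟨k, m, hm, hk⟩ := Nat.exists_eq_two_pow_mul_odd (orderOf_pos c).ne'
  have hcd : (c ^ m) * x * (c ^ m)⁻¹ = x⁻¹ := by
    obtain ⟨j, rfl⟩ := hm
    have hsq : (c ^ 2) * x * (c ^ 2)⁻¹ = x := by
      have : c * (c * x * c⁻¹) * c⁻¹ = x := by rw [hc, ← conj_inv, hc, inv_inv]
      rw [pow_two, mul_inv_rev]; simpa [mul_assoc] using this
    have hcomm : Commute (c ^ 2) x := mul_inv_eq_iff_eq_mul.1 hsq
    have hcj : Commute ((c ^ 2) ^ j) x := hcomm.pow_left j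
    have he : c ^ (2 * j + 1) = c * (c ^ 2) ^ j := by
      rw [pow_succ', pow_mul]
    rw [he, mul_inv_rev, mul_assoc c, hcj.eq]
    simpa [mul_assoc] using hc
  set d := c ^ m with hd
  have hdo : d ^ 2 ^ k = 1 := by
    rw [hd, ← pow_mul, mul_comm, ← hk, pow_orderOf_eq_one]
  have hdn : d ∈ Subgroup.normalizer ((Subgroup.centralizer ({x} : Set G) : Subgroup G) : Set G) := by
    rw [Subgroup.mem_normalizer_iff]
    intro y
    simp only [Subgroup.mem_centralizer_singleton_iff]
    have hdx : d * x⁻¹ * d⁻¹ = x := by rw [← conj_inv, hcd, inv_inv]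
    constructor
    · intro hy
      have h1 : y * x⁻¹ = x⁻¹ * y := (Commute.inv_right hy).eq
      calc d * y * d⁻¹ * x = d * y * d⁻¹ * (d * x⁻¹ * d⁻¹) := by rw [hdx]
        _ = d * (y * x⁻¹) * d⁻¹ := by group
        _ = d * (x⁻¹ * y) * d⁻¹ := by rw [h1]
        _ = (d * x⁻¹ * d⁻¹) * (d * y * d⁻¹) := by group
        _ = x * (d * y * d⁻¹) := by rw [hdx]
    · intro hy
      have h1 : y * x⁻¹ = x⁻¹ * y := by
        have h3 : d * (y * x⁻¹) * d⁻¹ = d * (x⁻¹ * y) * d⁻¹ := by
          calc d * (y * x⁻¹) * d⁻¹ = d * y * d⁻¹ * (d * x⁻¹ * d⁻¹) := by group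
            _ = d * y * d⁻¹ * x := by rw [hdx]
            _ = x * (d * y * d⁻¹) := hy
            _ = (d * x⁻¹ * d⁻¹) * (d * y * d⁻¹) := by rw [hdx]
            _ = _ := by group
        simpa using h3
      have h4 : Commute y x⁻¹ := h1
      simpa using h4.inv_right.eq
  set C := Subgroup.centralizer ({x} : Set G) with hC
  set E := Subgroup.zpowers d ⊔ C
  haveI hCn : (C.subgroupOf E).Normal :=
    Subgroup.normal_subgroupOf_of_le_normalizer
      (sup_le (Subgroup.zpowers_le.2 hdn) C.le_normalizer)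
  have hidx : ¬ 2 ∣ C.relIndex E := fun h =>
    P.not_dvd_index (h.trans ((Subgroup.relIndex_dvd_index_of_le le_sup_right).trans (Subgroup.index_dvd_of_le hP)))
  have hdE : d ∈ E := Subgroup.mem_sup_left (Subgroup.mem_zpowers d)
  have hdi : (⟨d, hdE⟩ : E) ^ (C.relIndex E) ∈ C.subgroupOf E := Subgroup.pow_index_mem _ _
  have hdC : d ∈ C := by
    refine CfsgLib.Perm.mem_of_pow_mem_of_coprime (n := C.relIndex E) ?_
      (by simpa [Subgroup.mem_subgroupOf] using hdi)
    refine Nat.Coprime.coprime_dvd_left (orderOf_dvd_of_pow_eq_one hdo) ?_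
    exact Nat.Coprime.pow_left _ (Nat.prime_two.coprime_iff_not_dvd.2 hidx)
  rw [hC, Subgroup.mem_centralizer_singleton_iff] at hdC
  have hxx : x = x⁻¹ := by rw [← hcd, hdC]; group
  apply h2
  exact orderOf_eq_prime (by rw [pow_two]; exact eq_inv_iff_mul_eq_one.1 hxx) hx

end Cfsg.Agent.S4195
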