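import Cfsg.Statements.S4196


set_option autoImplicit false
set_option linter.style.haveILetI false
open Cfsg

namespace Cfsg.Agent.S4196

/-- A finite group G has elementary abelian Sylow 2-subgroups (commutative with every element squaring to the identity) if and only if every 2-element of G has a Sylow 2-subgroup in its centralizer and is conjugate to its inverse. -/
theorem result {G : Type*} [Group G] [Finite G] (P : Sylow 2 G) :
    (IsMulCommutative (P : Subgroup G) ∧ ∀ x ∈ (P : Subgroup G), x ^ 2 = 1) ↔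
      ∀ x : G, (∃ k : ℕ, orderOf x = 2 ^ k) → (∃ Q : Sylow 2 G, (Q : Subgroup G) ≤ Subgroup.centralizer ({x} : Set G)) ∧ IsConj x x⁻¹ := by
  classical
  haveI : Fact (Nat.Prime 2) := ⟨Nat.prime_two⟩
  constructor
  · rintro ⟨hab, hsq⟩ x ⟨k, hk⟩
    have hx : IsPGroup 2 ↥(Subgroup.zpowers x) := IsPGroup.of_card (n := k) (by rw [Nat.card_zpowers, hk])
    obtain ⟨Q, hQ⟩ := hx.exists_le_sylow
    obtain ⟨g, hg⟩ := MulAction.exists_smul_eq G P Q
    have hxQ : x ∈ (Q : Subgroup G) := hQ (Subgroup.mem_zpowers x)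
    have hmem : ∀ y ∈ (Q : Subgroup G), g⁻¹ * y * g ∈ (P : Subgroup G) := by
      intro y hy
      rw [← hg, Sylow.coe_subgroup_smul] at hy
      obtain ⟨z, hz, rfl⟩ := hy
      show g⁻¹ * (g * z * g⁻¹) * g ∈ _
      rw [show g⁻¹ * (g * z * g⁻¹) * g = z by group]
      exact hz
    have hcomm : ∀ y ∈ (Q : Subgroup G), x * y = y * x := by
      intro y hy
      have h1 := congrArg Subtype.val (hab.is_comm.comm ⟨_, hmem x hxQ⟩ ⟨_, hmem y hy⟩)
      have h2 := congrArg (fun t => g * t * g⁻¹) h1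
      simpa [mul_assoc] using h2
    refine ⟨⟨Q, fun y hy => Subgroup.mem_centralizer_singleton_iff.2 (hcomm y hy).symm⟩, ?_⟩
    have h1 := hsq _ (hmem x hxQ)
    have h2 := congrArg (fun t => g * t * g⁻¹) h1
    have h3 : x ^ 2 = 1 := by simpa [sq, mul_assoc] using h2
    rw [show x⁻¹ = x from inv_eq_of_mul_eq_one_right (by rw [← sq]; exact h3)]
  · intro h
    have hsq : ∀ x ∈ (P : Subgroup G), x ^ 2 = 1 := by
      intro x hx
      obtain ⟨k, hk⟩ := P.2 ⟨x, hx⟩
      obtain ⟨i, -, hi⟩ := (Nat.dvd_prime_pow Nat.prime_two).1 (orderOf_dvd_of_pow_eq_one (congrArg Subtype.val hk : x ^ 2 ^ k = 1))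
      obtain ⟨⟨Q, hQ⟩, hconj⟩ := h x ⟨i, hi⟩
      have hQc : ∀ q ∈ (Q : Subgroup G), q * x = x * q := fun q hq => Subgroup.mem_centralizer_singleton_iff.1 (hQ hq)
      obtain ⟨g, hg⟩ := isConj_iff.1 hconj
      have hC' : x⁻¹ ∈ Subgroup.centralizer ((Q : Subgroup G) : Set G) := by
        rw [Subgroup.mem_centralizer_iff]
        intro q hq
        exact ((Commute.inv_right (hQc q hq : Commute q x))).eq
      obtain ⟨n, hn, hne⟩ := Sylow.conj_eq_normalizer_conj_of_mem_centralizer Q x g⁻¹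
        (Subgroup.mem_centralizer_iff.2 fun q hq => hQc q hq) (by rw [inv_inv, hg]; exact hC')
      rw [inv_inv, hg] at hne
      have hmove : n * x * n⁻¹ = x⁻¹ := by
        calc n * x * n⁻¹ = (n * (n⁻¹ * x * n) * n⁻¹)⁻¹ := by rw [← hne]; group
          _ = _ := by group
      -- write `n` as an element of odd order times an element centralizing `x`
      obtain ⟨e, m, hm, hem⟩ : ∃ e m, ¬ 2 ∣ m ∧ orderOf n = 2 ^ e * m :=
        ⟨_, _, Nat.not_dvd_ordCompl Nat.prime_two (orderOf_pos n).ne', (Nat.ordProj_mul_ordCompl_eq_self _ 2).symm⟩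
      have hm0 : m ≠ 0 := fun h0 => hm (by rw [h0]; exact dvd_zero 2)
      have hpow : ∀ j : ℕ, n ^ j * x * (n ^ j)⁻¹ = if Even j then x else x⁻¹ := by
        intro j
        induction j with
        | zero => simp
        | succ j ih =>
          rw [show n ^ (j + 1) * x * (n ^ (j + 1))⁻¹ = n * (n ^ j * x * (n ^ j)⁻¹) * n⁻¹ by rw [pow_succ']; group, ih]
          rcases Nat.even_or_odd j with hj | hj
          · rw [if_pos hj, if_neg (by simpa [Nat.even_add_one] using hj), hmove]
          · rw [if_neg (Nat.not_even_iff_odd.2 hj), if_pos (by simp [Nat.even_add_one, Nat.not_even_iff_odd.2 hj])]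
            rw [show n * x⁻¹ * n⁻¹ = (n * x * n⁻¹)⁻¹ by group, hmove, inv_inv]
      -- the power `n ^ m` is a `2`-element normalizing `Q`
      have hu : IsPGroup 2 ↥(Subgroup.zpowers (n ^ m)) := by
        refine IsPGroup.of_card (n := e) ?_
        rw [Nat.card_zpowers, orderOf_pow' _ hm0, hem, Nat.gcd_eq_right (dvd_mul_left _ _),
          Nat.mul_div_cancel _ (Nat.pos_of_ne_zero hm0)]
      have huQ : n ^ m ∈ (Q : Subgroup G) := by
        have hle : Subgroup.zpowers (n ^ m) ≤ Subgroup.normalizer ((Q : Subgroup G) : Set G) :=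
          Subgroup.zpowers_le.2 (Subgroup.pow_mem _ hn m)
        have := Q.3 (hu.to_sup_of_normal_right' Q.2 hle) le_sup_right
        exact this ▸ Subgroup.mem_sup_left (Subgroup.mem_zpowers _)
      have h2 := hpow m
      rw [if_neg (fun h' => hm (even_iff_two_dvd.1 h')), ← Subgroup.mem_centralizer_singleton_iff.1 (hQ huQ) |>.symm] at h2
      rw [mul_inv_cancel_right] at h2
      rw [sq]
      nth_rw 1 [h2]
      exact inv_mul_cancel x
    refine ⟨⟨⟨fun a b => Subtype.ext ?_⟩⟩, hsq⟩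
    show (a : G) * b = b * a
    have hi : ∀ y ∈ (P : Subgroup G), y⁻¹ = y := fun y hy => inv_eq_of_mul_eq_one_right (by rw [← sq]; exact hsq y hy)
    rw [← hi _ ((P : Subgroup G).mul_mem a.2 b.2), mul_inv_rev, hi _ a.2, hi _ b.2]

end Cfsg.Agent.S4196
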