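import Cfsg.Statements.S4198

import Mathlib.GroupTheory.SpecificGroups.Alternating.Centralizer
import Mathlib.Combinatorics.Enumerative.Partition.Basic
import Mathlib.Tactic

set_option autoImplicit false
set_option linter.style.haveILetI false
open Cfsg

namespace Cfsg.Agent.S4198

open Equiv Equiv.Perm

theorem s4198_five : Fintype.card (Nat.Partition 5) ≤ 7 := by
  let T := {t : Fin 6 × Fin 3 × Fin 2 × Fin 2 × Fin 2 //
    (t.1 : ℕ) + 2 * t.2.1 + 3 * t.2.2.1 + 4 * t.2.2.2.1 + 5 * t.2.2.2.2 = 5}
  have hsum : ∀ μ : Nat.Partition 5, μ.parts.count 1 + 2 * μ.parts.count 2 + 3 * μ.parts.count 3 +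
      4 * μ.parts.count 4 + 5 * μ.parts.count 5 = 5 := by
    intro μ
    have h := Finset.sum_multiset_count_of_subset μ.parts (Finset.Icc 1 5) (fun a ha => by
      rw [Multiset.mem_toFinset] at ha
      exact Finset.mem_Icc.2 ⟨μ.parts_pos ha, Nat.Partition.le_of_mem_parts ha⟩)
    rw [μ.parts_sum, show Finset.Icc 1 5 = ({1, 2, 3, 4, 5} : Finset ℕ) by decide] at h
    simp at h
    omega
  let f : Nat.Partition 5 → T := fun μ => ⟨(⟨μ.parts.count 1, by have := hsum μ; omega⟩,
    ⟨μ.parts.count 2, by have := hsum μ; omega⟩, ⟨μ.parts.count 3, by have := hsum μ; omega⟩,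
    ⟨μ.parts.count 4, by have := hsum μ; omega⟩, ⟨μ.parts.count 5, by have := hsum μ; omega⟩), hsum μ⟩
  have hf : Function.Injective f := by
    intro μ ν h
    have h' := congrArg Subtype.val h
    simp only [f, Prod.mk.injEq, Fin.mk.injEq] at h'
    refine Nat.Partition.ext (Multiset.ext.2 fun a => ?_)
    rcases (show a = 1 ∨ a = 2 ∨ a = 3 ∨ a = 4 ∨ a = 5 ∨ (a = 0 ∨ 5 < a) by omega) with
      rfl | rfl | rfl | rfl | rfl | ha
    · exact h'.1
    · exact h'.2.1
    · exact h'.2.2.1
    · exact h'.2.2.2.1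
    · exact h'.2.2.2.2
    · have key : ∀ ρ : Nat.Partition 5, ρ.parts.count a = 0 := fun ρ => Multiset.count_eq_zero.2 fun hm => by
        have h1 := ρ.parts_pos hm
        have h2 := Nat.Partition.le_of_mem_parts hm
        omega
      rw [key, key]
  refine (Fintype.card_le_of_injective f hf).trans (le_of_eq ?_)
  decide

theorem s4198_step (n : ℕ) :
    Fintype.card (Nat.Partition (n + 1)) ≤ 2 * Fintype.card (Nat.Partition n) := by
  classical
  have hne : ∀ μ : Nat.Partition (n + 1), μ.parts.toFinset.Nonempty := fun μ => by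
    rw [Multiset.toFinset_nonempty]
    intro h
    have := μ.parts_sum
    rw [h, Multiset.sum_zero] at this
    omega
  let s : Nat.Partition (n + 1) → ℕ := fun μ => μ.parts.toFinset.min' (hne μ)
  have hs : ∀ μ, s μ ∈ μ.parts := fun μ => Multiset.mem_toFinset.1 (Finset.min'_mem _ _)
  have hmin : ∀ μ, ∀ a ∈ μ.parts, s μ ≤ a := fun μ a ha => Finset.min'_le _ a (Multiset.mem_toFinset.2 ha)
  have hsum : ∀ μ, (μ.parts.erase (s μ)).sum + s μ = n + 1 := fun μ => by
    rw [add_comm, ← Multiset.sum_cons, Multiset.cons_erase (hs μ), μ.parts_sum]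
  let down : {μ : Nat.Partition (n + 1) // ¬ s μ = 1} → Nat.Partition n := fun μ =>
    { parts := (s μ.1 - 1) ::ₘ μ.1.parts.erase (s μ.1)
      parts_pos := fun {i} hi => by
        rcases Multiset.mem_cons.1 hi with rfl | hi
        · have := μ.1.parts_pos (hs μ.1)
          have := μ.2
          omega
        · exact μ.1.parts_pos (Multiset.mem_of_mem_erase hi)
      parts_sum := by
        rw [Multiset.sum_cons]
        have := μ.1.parts_pos (hs μ.1)
        have := hsum μ.1
        omega }
  let drop : {μ : Nat.Partition (n + 1) // s μ = 1} → Nat.Partition n := fun μ =>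
    { parts := μ.1.parts.erase 1
      parts_pos := fun hi => μ.1.parts_pos (Multiset.mem_of_mem_erase hi)
      parts_sum := by
        have := hsum μ.1
        rw [μ.2] at this
        omega }
  have hdrop : Function.Injective drop := fun μ ν h => Subtype.ext (Nat.Partition.ext (by
    have h1 := hs μ.1; rw [μ.2] at h1
    have h2 := hs ν.1; rw [ν.2] at h2
    rw [← Multiset.cons_erase h1, ← Multiset.cons_erase h2]
    exact congrArg (1 ::ₘ ·) (congrArg Nat.Partition.parts h)))
  have hdown : Function.Injective down := fun μ ν h => by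
    have h' : (s μ.1 - 1) ::ₘ μ.1.parts.erase (s μ.1) = (s ν.1 - 1) ::ₘ ν.1.parts.erase (s ν.1) :=
      congrArg Nat.Partition.parts h
    have key : ∀ ρ : Nat.Partition (n + 1), ∀ a ∈ (s ρ - 1) ::ₘ ρ.parts.erase (s ρ), s ρ - 1 ≤ a := by
      intro ρ a ha
      rcases Multiset.mem_cons.1 ha with rfl | ha
      · exact le_rfl
      · exact (Nat.sub_le _ _).trans (hmin ρ a (Multiset.mem_of_mem_erase ha))
    have e1 : s μ.1 - 1 = s ν.1 - 1 := le_antisymm (key μ.1 _ (h' ▸ Multiset.mem_cons_self _ _))
      (key ν.1 _ (h'.symm ▸ Multiset.mem_cons_self _ _))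
    have e2 : s μ.1 = s ν.1 := by
      have := μ.1.parts_pos (hs μ.1)
      have := ν.1.parts_pos (hs ν.1)
      omega
    rw [e2, Multiset.cons_inj_right] at h'
    refine Subtype.ext (Nat.Partition.ext ?_)
    rw [← Multiset.cons_erase (hs μ.1), ← Multiset.cons_erase (hs ν.1), e2]
    exact congrArg (s ν.1 ::ₘ ·) h'
  rw [← Fintype.card_congr (Equiv.sumCompl fun μ => s μ = 1), Fintype.card_sum, two_mul]
  exact add_le_add (Fintype.card_le_of_injective _ hdrop) (Fintype.card_le_of_injective _ hdown)

theorem s4198_bound : ∀ n : ℕ, 5 ≤ n → Fintype.card (Nat.Partition n) ≤ 2 ^ (n - 2) := by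
  intro n hn
  induction n, hn using Nat.le_induction with
  | base => exact s4198_five.trans (by norm_num)
  | succ m hm ih =>
    refine (s4198_step m).trans ?_
    rw [show m + 1 - 2 = m - 2 + 1 by omega, pow_succ']
    exact Nat.mul_le_mul_left _ ih

/-- For n ≥ 5 the alternating group of degree n has strictly fewer conjugacy classes than the symmetric group of degree n, and the symmetric group of degree n (whose classes correspond to the partitions of n) has at most 2^(n−2) conjugacy classes. -/
theorem result (n : ℕ) (hn : 5 ≤ n) : Nat.card (ConjClasses (alternatingGroup (Fin n))) < Nat.card (ConjClasses (Equiv.Perm (Fin n))) ∧ Nat.card (ConjClasses (Equiv.Perm (Fin n))) ≤ 2 ^ (n - 2) := by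
  classical
  refine ⟨?_, ?_⟩
  · let rep : ConjClasses (Equiv.Perm (Fin n)) → Equiv.Perm (Fin n) := Quotient.out
    have hrep : ∀ C, ConjClasses.mk (rep C) = C := Quotient.out_eq
    let up : ConjClasses (alternatingGroup (Fin n)) → ConjClasses (Equiv.Perm (Fin n)) :=
      ConjClasses.map (alternatingGroup (Fin n)).subtype
    let rA : ConjClasses (alternatingGroup (Fin n)) → alternatingGroup (Fin n) := Quotient.out
    have hrA : ∀ D, ConjClasses.mk (rA D) = D := Quotient.out_eq
    have hup : ∀ D, up D = ConjClasses.mk ((rA D : Equiv.Perm (Fin n))) := fun D => by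
      conv_lhs => rw [← hrA D]
      rfl
    let IsRep : ConjClasses (alternatingGroup (Fin n)) → Prop := fun D =>
      ∃ a : alternatingGroup (Fin n), ConjClasses.mk a = D ∧ (a : Equiv.Perm (Fin n)) = rep (up D)
    -- non-representative classes split
    have hsplit : ∀ D, ¬ IsRep D → Subgroup.centralizer {rep (up D)} ≤ alternatingGroup (Fin n) := by
      intro D hD c hc
      obtain ⟨x, hx⟩ := isConj_iff.1 (ConjClasses.mk_eq_mk_iff_isConj.1 ((hrep (up D)).trans (hup D)))
      by_contra hcA
      rw [Equiv.Perm.mem_alternatingGroup] at hcA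
      have hsc : Equiv.Perm.sign c = -1 := (Int.units_eq_one_or _).resolve_left hcA
      have hev : ∀ y : Equiv.Perm (Fin n), y * rep (up D) * y⁻¹ = (rA D : Equiv.Perm (Fin n)) →
          Equiv.Perm.sign y ≠ 1 := by
        intro y hy hy1
        have hrm : rep (up D) ∈ alternatingGroup (Fin n) := by
          rw [show rep (up D) = y⁻¹ * (rA D : Equiv.Perm (Fin n)) * y by rw [← hy]; group]
          exact (inferInstance : (alternatingGroup (Fin n)).Normal).conj_mem' _ (rA D).2 y
        refine hD ⟨⟨_, hrm⟩, ?_, rfl⟩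
        conv_rhs => rw [← hrA D]
        exact ConjClasses.mk_eq_mk_iff_isConj.2 (isConj_iff.2
          ⟨⟨y, Equiv.Perm.mem_alternatingGroup.2 hy1⟩, Subtype.ext hy⟩)
      have h1 := hev x hx
      refine hev (x * c) ?_ ?_
      · rw [← hx, Subgroup.mem_centralizer_singleton_iff] at *
        calc x * c * rep (up D) * (x * c)⁻¹ = x * (c * rep (up D)) * c⁻¹ * x⁻¹ := by group
          _ = x * (rep (up D) * c) * c⁻¹ * x⁻¹ := by rw [hc]
          _ = _ := by group
      · rw [map_mul, (Int.units_eq_one_or _).resolve_left h1, hsc]; norm_num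
    have heven : ∀ D, Equiv.Perm.sign (rep (up D)) = 1 := by
      intro D
      obtain ⟨x, hx⟩ := isConj_iff.1 (ConjClasses.mk_eq_mk_iff_isConj.1 ((hrep (up D)).trans (hup D)))
      have h := Equiv.Perm.mem_alternatingGroup.1 (rA D).2
      rw [← hx, map_mul, map_mul, map_inv, mul_inv_cancel_comm] at h
      exact h
    have hdata : ∀ D, ¬ IsRep D → ∃ g : Equiv.Perm (Fin n), ∃ k : ℕ, k + 1 ∈ (rep (up D)).cycleType ∧
        Even k ∧ 2 ≤ k ∧ (∀ c ∈ (rep (up D)).cycleType, Odd c) ∧
        n ≤ (rep (up D)).cycleType.sum + 1 ∧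
        g.cycleType = k ::ₘ (rep (up D)).cycleType.erase (k + 1) := by
      intro D hD
      obtain ⟨hodd, hsum, -⟩ := Equiv.Perm.centralizer_le_alternating_iff.1 (hsplit D hD)
      rw [Fintype.card_fin] at hsum
      have hne : (rep (up D)).cycleType ≠ 0 := by
        intro h; rw [h, Multiset.sum_zero] at hsum; omega
      obtain ⟨m, hm⟩ := Multiset.exists_mem_of_ne_zero hne
      have hm2 := Equiv.Perm.two_le_of_mem_cycleType hm
      obtain ⟨j, hj⟩ := hodd m hm
      have hs : (2 * j ::ₘ (rep (up D)).cycleType.erase (2 * j + 1)).sum ≤ Fintype.card (Fin n) ∧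
          ∀ a ∈ 2 * j ::ₘ (rep (up D)).cycleType.erase (2 * j + 1), 2 ≤ a := by
        refine ⟨?_, fun a ha => ?_⟩
        · have h1 := Equiv.Perm.sum_cycleType_le (rep (up D))
          rw [← Multiset.cons_erase (hj ▸ hm : 2 * j + 1 ∈ (rep (up D)).cycleType), Multiset.sum_cons] at h1
          rw [Multiset.sum_cons]
          omega
        · rcases Multiset.mem_cons.1 ha with rfl | ha
          · omega
          · exact Equiv.Perm.two_le_of_mem_cycleType (Multiset.mem_of_mem_erase ha)
      obtain ⟨g, hg⟩ := (Equiv.Perm.exists_with_cycleType_iff (Fin n)).2 hs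
      exact ⟨g, 2 * j, hj ▸ hm, even_two_mul j, by omega, hodd, hsum, hg⟩
    choose g k hk hkev hk2 hodd hsum hg using hdata
    have hgodd : ∀ D hD, Equiv.Perm.sign (g D hD) = -1 := by
      intro D hD
      have h := heven D
      rw [Equiv.Perm.sign_of_cycleType, ← Multiset.cons_erase (hk D hD), Multiset.sum_cons, Multiset.card_cons] at h
      rw [Equiv.Perm.sign_of_cycleType, hg D hD, Multiset.sum_cons, Multiset.card_cons]
      rw [show k D hD + 1 + ((rep (up D)).cycleType.erase (k D hD + 1)).sum + (Multiset.card ((rep (up D)).cycleType.erase (k D hD + 1)) + 1) =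
        k D hD + ((rep (up D)).cycleType.erase (k D hD + 1)).sum + (Multiset.card ((rep (up D)).cycleType.erase (k D hD + 1)) + 1) + 1 by omega,
        pow_succ] at h
      have := congrArg (· * (-1 : ℤˣ)) h
      simpa [mul_assoc] using this
    have hrec : ∀ D hD, ∀ a ∈ (g D hD).cycleType, Even a → a = k D hD := by
      intro D hD a ha hae
      rw [hg D hD] at ha
      rcases Multiset.mem_cons.1 ha with rfl | ha
      · rfl
      · exact absurd hae (Nat.not_even_iff_odd.2 (hodd D hD a (Multiset.mem_of_mem_erase ha)))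
    let F : ConjClasses (alternatingGroup (Fin n)) → ConjClasses (Equiv.Perm (Fin n)) := fun D =>
      if h : IsRep D then up D else ConjClasses.mk (g D h)
    have hFsign : ∀ (D D') (hD' : ¬ IsRep D'), up D ≠ ConjClasses.mk (g D' hD') := by
      intro D D' hD' h
      obtain ⟨x, hx⟩ := isConj_iff.1 (ConjClasses.mk_eq_mk_iff_isConj.1 ((hrep (up D)).trans h))
      have h1 := congrArg Equiv.Perm.sign hx
      rw [map_mul, map_mul, map_inv, mul_inv_cancel_comm, heven, hgodd] at h1
      exact absurd h1 (by decide)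
    have hunique : ∀ D D', IsRep D → IsRep D' → up D = up D' → D = D' := by
      rintro D D' ⟨a, ha, hav⟩ ⟨b, hb, hbv⟩ h
      have e : a = b := Subtype.ext (by rw [hav, hbv, h])
      rw [← ha, ← hb, e]
    have hother : ∀ D D', ¬ IsRep D → ¬ IsRep D' → up D = up D' → D = D' := by
      intro D D' hD hD' h
      obtain ⟨x, hx⟩ := isConj_iff.1 (ConjClasses.mk_eq_mk_iff_isConj.1 ((hrep (up D)).trans (hup D)))
      obtain ⟨y, hy⟩ := isConj_iff.1 (ConjClasses.mk_eq_mk_iff_isConj.1 ((hrep (up D')).trans (hup D')))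
      have hodd' : ∀ (E) (hE : ¬ IsRep E) (z : Equiv.Perm (Fin n)), z * rep (up E) * z⁻¹ = (rA E : Equiv.Perm (Fin n)) →
          Equiv.Perm.sign z = -1 := by
        intro E hE z hz
        refine (Int.units_eq_one_or _).resolve_left fun hz1 => hE ?_
        have hrm : rep (up E) ∈ alternatingGroup (Fin n) := Equiv.Perm.mem_alternatingGroup.2 (heven E)
        refine ⟨⟨_, hrm⟩, ?_, rfl⟩
        conv_rhs => rw [← hrA E]
        exact ConjClasses.mk_eq_mk_iff_isConj.2 (isConj_iff.2
          ⟨⟨z, Equiv.Perm.mem_alternatingGroup.2 hz1⟩, Subtype.ext hz⟩)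
      rw [← hrA D, ← hrA D', ConjClasses.mk_eq_mk_iff_isConj, isConj_iff]
      refine ⟨⟨y * x⁻¹, Equiv.Perm.mem_alternatingGroup.2 (by
        rw [map_mul, map_inv, hodd' D hD x hx, hodd' D' hD' y hy]; norm_num)⟩, Subtype.ext ?_⟩
      show y * x⁻¹ * (rA D : Equiv.Perm (Fin n)) * (y * x⁻¹)⁻¹ = _
      rw [← hy, ← h, ← hx]; group
    have hinj : Function.Injective F := by
      intro D D' h
      by_cases hD : IsRep D <;> by_cases hD' : IsRep D' <;> simp only [F, hD, hD', dite_true, dite_false] at h
      · exact hunique D D' hD hD' h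
      · exact absurd h (hFsign D D' hD')
      · exact absurd h.symm (hFsign D' D hD)
      · refine hother D D' hD hD' ?_
        have hc := Equiv.Perm.isConj_iff_cycleType_eq.1 (ConjClasses.mk_eq_mk_iff_isConj.1 h)
        have he : k D hD = k D' hD' := hrec D' hD' _ (by rw [← hc, hg]; exact Multiset.mem_cons_self _ _) (hkev D hD)
        rw [hg, hg, he, Multiset.cons_inj_right] at hc
        have hct : (rep (up D)).cycleType = (rep (up D')).cycleType := by
          rw [← Multiset.cons_erase (hk D hD), ← Multiset.cons_erase (hk D' hD'), he, hc]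
        rw [← hrep (up D), ← hrep (up D'), ConjClasses.mk_eq_mk_iff_isConj, Equiv.Perm.isConj_iff_cycleType_eq]
        exact hct
    let t : Equiv.Perm (Fin n) := Equiv.swap ⟨0, by omega⟩ ⟨1, by omega⟩
    have hne01 : (⟨0, by omega⟩ : Fin n) ≠ ⟨1, by omega⟩ := by simp
    have htne : ∀ D, F D ≠ ConjClasses.mk t := by
      intro D h
      by_cases hD : IsRep D <;> simp only [F, hD, dite_true, dite_false] at h
      · obtain ⟨x, hx⟩ := isConj_iff.1 (ConjClasses.mk_eq_mk_iff_isConj.1 ((hrep (up D)).trans h))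
        have h1 := congrArg Equiv.Perm.sign hx
        rw [map_mul, map_mul, map_inv, mul_inv_cancel_comm, heven, Equiv.Perm.sign_swap hne01] at h1
        exact absurd h1 (by decide)
      · have hc := Equiv.Perm.isConj_iff_cycleType_eq.1 (ConjClasses.mk_eq_mk_iff_isConj.1 h)
        have ht : t.cycleType = {2} := Equiv.Perm.isSwap_iff_cycleType.1 ⟨_, _, hne01, rfl⟩
        rw [hg, ht] at hc
        have h1 := congrArg Multiset.sum hc
        have h2 := hsum D hD
        rw [← Multiset.cons_erase (hk D hD), Multiset.sum_cons] at h2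
        rw [Multiset.sum_cons, Multiset.sum_singleton] at h1
        omega
    haveI := Fintype.ofFinite (ConjClasses (alternatingGroup (Fin n)))
    rw [Nat.card_eq_fintype_card, Nat.card_eq_fintype_card]
    exact Fintype.card_lt_of_injective_of_notMem F hinj (b := ConjClasses.mk t) (fun ⟨D, hD⟩ => htne D hD)
  · have hinj : Function.Injective (fun C : ConjClasses (Equiv.Perm (Fin n)) => (Quotient.out C).partition) := by
      intro C D h
      rw [← Quotient.out_eq C, ← Quotient.out_eq D]
      exact Quotient.sound (Equiv.Perm.partition_eq_of_isConj.2 h)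
    refine (Nat.card_le_card_of_injective _ hinj).trans ?_
    rw [Nat.card_eq_fintype_card, Fintype.card_fin]
    exact s4198_bound n hn

end Cfsg.Agent.S4198
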