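import Cfsg.Statements.S4200
import Mathlib.GroupTheory.CommutingProbability
import Mathlib.Algebra.Order.BigOperators.Ring.Finset
import Mathlib.Algebra.BigOperators.Ring.Finset
import Mathlib.Tactic.Ring


set_option autoImplicit false
set_option linter.style.haveILetI false
open Cfsg

namespace Cfsg.Agent.S4200
theorem pairs_eq (G : Type*) [Group G] [Finite G] [Fintype G] :
    Nat.card (ConjClasses G) * Nat.card G =
      ∑ x : G, Nat.card (Subgroup.centralizer ({x} : Set G)) := by
  rw [← card_comm_eq_card_conjClasses_mul_card, ← Nat.card_sigma]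
  refine Nat.card_congr
    { toFun := fun q => ⟨q.1.1, q.1.2, Subgroup.mem_centralizer_singleton_iff.2 q.2.eq.symm⟩
      invFun := fun q => ⟨(q.1, q.2.1), (Subgroup.mem_centralizer_singleton_iff.1 q.2.2).symm⟩
      left_inv := fun q => rfl
      right_inv := fun q => rfl }

/-- Let Y be a subgroup of the finite group X, of index m. Then the numbers of conjugacy classes satisfy k(Y) ≤ m·k(X) and k(X) ≤ m·k(Y), and the second inequality is strict unless Y is normal in X. -/
theorem result {X : Type*} [Group X] [Finite X] (Y : Subgroup X) : Nat.card (ConjClasses Y) ≤ Y.index * Nat.card (ConjClasses X) ∧ Nat.card (ConjClasses X) ≤ Y.index * Nat.card (ConjClasses Y) ∧ (¬ Y.Normal → Nat.card (ConjClasses X) < Y.index * Nat.card (ConjClasses Y)) := by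
  classical
  haveI := Fintype.ofFinite X
  haveI := Fintype.ofFinite ↥Y
  set i := Y.index
  have hi : 0 < i := Nat.pos_of_ne_zero Subgroup.index_ne_zero_of_finite
  have hcardX : Nat.card X = i * Nat.card Y := by rw [mul_comm]; exact (Y.card_mul_index).symm
  -- centraliser orders inside `Y`
  have hC : ∀ x : X, Nat.card (Subgroup.centralizer ({x} : Set X)) =
      Nat.card ↥(Y ⊓ Subgroup.centralizer ({x} : Set X)) * Y.relIndex (Subgroup.centralizer ({x} : Set X)) := by
    intro x
    rw [← Subgroup.inf_relIndex_right, Subgroup.relIndex, ← Nat.card_congr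
      (Subgroup.subgroupOfEquivOfLe (inf_le_right : Y ⊓ Subgroup.centralizer ({x} : Set X) ≤ _)).toEquiv]
    exact (Subgroup.card_mul_index _).symm
  have hrel : ∀ x : X, Y.relIndex (Subgroup.centralizer ({x} : Set X)) ≤ i := fun x => by
    have h := Subgroup.relIndex_le_of_le_right (H := Y) (le_top : Subgroup.centralizer ({x} : Set X) ≤ ⊤)
      (by rw [Subgroup.relIndex_top_right]; exact hi.ne')
    rwa [Subgroup.relIndex_top_right] at h
  -- swap the order of counting
  have hswap : ∑ x : X, Nat.card ↥(Y ⊓ Subgroup.centralizer ({x} : Set X)) =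
      ∑ y : Y, Nat.card (Subgroup.centralizer ({(y : X)} : Set X)) := by
    rw [← Nat.card_sigma, ← Nat.card_sigma]
    exact Nat.card_congr
      { toFun := fun q => ⟨⟨q.2.1, (Subgroup.mem_inf.1 q.2.2).1⟩, q.1,
          Subgroup.mem_centralizer_singleton_iff.2
            (Subgroup.mem_centralizer_singleton_iff.1 (Subgroup.mem_inf.1 q.2.2).2).symm⟩
        invFun := fun q => ⟨q.2.1, q.1.1, Subgroup.mem_inf.2 ⟨q.1.2,
          Subgroup.mem_centralizer_singleton_iff.2
            (Subgroup.mem_centralizer_singleton_iff.1 q.2.2).symm⟩⟩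
        left_inv := fun q => rfl
        right_inv := fun q => rfl }
  have hCY : ∀ y : Y, Nat.card (Subgroup.centralizer ({y} : Set Y)) =
      Nat.card ↥(Y ⊓ Subgroup.centralizer ({(y : X)} : Set X)) := by
    intro y
    refine Nat.card_congr
      { toFun := fun q => ⟨q.1.1, Subgroup.mem_inf.2 ⟨q.1.2, Subgroup.mem_centralizer_singleton_iff.2
          (congrArg Subtype.val (Subgroup.mem_centralizer_singleton_iff.1 q.2))⟩⟩
        invFun := fun q => ⟨⟨q.1, (Subgroup.mem_inf.1 q.2).1⟩, Subgroup.mem_centralizer_singleton_iff.2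
          (Subtype.ext (Subgroup.mem_centralizer_singleton_iff.1 (Subgroup.mem_inf.1 q.2).2))⟩
        left_inv := fun q => rfl
        right_inv := fun q => rfl }
  have hY := pairs_eq Y
  have hX := pairs_eq X
  have hsub : ∑ y : Y, Nat.card (Subgroup.centralizer ({(y : X)} : Set X)) ≤
      i * (Nat.card (ConjClasses Y) * Nat.card Y) := by
    rw [hY, Finset.mul_sum]
    refine Finset.sum_le_sum fun y _ => ?_
    rw [hC (y : X), hCY, mul_comm i]
    exact Nat.mul_le_mul_left _ (hrel _)
  have hYpos : 0 < Nat.card Y := Nat.card_pos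
  refine ⟨?_, ?_, ?_⟩
  · have h1 : Nat.card (ConjClasses Y) * Nat.card Y ≤ Nat.card (ConjClasses X) * Nat.card X := by
      rw [hY, hX]
      calc ∑ y : Y, Nat.card (Subgroup.centralizer ({y} : Set Y))
          ≤ ∑ y : Y, Nat.card (Subgroup.centralizer ({(y : X)} : Set X)) :=
            Finset.sum_le_sum fun y _ => by rw [hCY]; exact Subgroup.card_le_of_le inf_le_right
        _ = ∑ x : X, Nat.card ↥(Y ⊓ Subgroup.centralizer ({x} : Set X)) := hswap.symm
        _ ≤ _ := Finset.sum_le_sum fun x _ => Subgroup.card_le_of_le inf_le_right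
    rw [hcardX, ← mul_assoc, mul_comm _ i] at h1
    exact Nat.le_of_mul_le_mul_right h1 hYpos
  all_goals
    have hstep : ∀ x : X, Nat.card (Subgroup.centralizer ({x} : Set X)) ≤
        i * Nat.card ↥(Y ⊓ Subgroup.centralizer ({x} : Set X)) := fun x => by
      rw [hC x, mul_comm i]
      exact Nat.mul_le_mul_left _ (hrel _)
    have h1 : ∑ x : X, i * Nat.card ↥(Y ⊓ Subgroup.centralizer ({x} : Set X)) ≤
        i * (i * (Nat.card (ConjClasses Y) * Nat.card Y)) := by
      rw [← Finset.mul_sum, hswap]
      exact Nat.mul_le_mul_left _ hsub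
  · have h2 : Nat.card (ConjClasses X) * (i * Nat.card Y) ≤ i * (i * (Nat.card (ConjClasses Y) * Nat.card Y)) := by
      rw [← hcardX, hX]
      exact le_trans (Finset.sum_le_sum fun x _ => hstep x) h1
    refine Nat.le_of_mul_le_mul_right ?_ (Nat.mul_pos hi hYpos)
    calc Nat.card (ConjClasses X) * (i * Nat.card Y) ≤ _ := h2
      _ = _ := by ring
  · intro hnn
    have h2 : Nat.card (ConjClasses X) * (i * Nat.card Y) < i * (i * (Nat.card (ConjClasses Y) * Nat.card Y)) := by
      rw [← hcardX, hX]
      refine lt_of_lt_of_le (Finset.sum_lt_sum (fun x _ => hstep x) ?_) h1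
      by_contra hall
      push Not at hall
      apply hnn
      refine ⟨fun y hy g => ?_⟩
      -- every coset of `Y` meets the centraliser of `y`
      set C := Subgroup.centralizer ({y} : Set X)
      have h3 : Y.relIndex C = i := by
        refine le_antisymm (hrel y) ?_
        have h4 := hall y (Finset.mem_univ _)
        rw [hC y, mul_comm i] at h4
        exact Nat.le_of_mul_le_mul_left h4 Nat.card_pos
      let f : C ⧸ Y.subgroupOf C → X ⧸ Y :=
        Quotient.lift (fun q => (QuotientGroup.mk (q : X) : X ⧸ Y)) fun a b hab => by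
          rw [QuotientGroup.eq]
          exact Subgroup.mem_subgroupOf.1 (QuotientGroup.leftRel_apply.1 hab)
      have hinj : Function.Injective f := by
        intro a b
        refine Quotient.inductionOn₂' a b fun a b h => QuotientGroup.eq.2 ?_
        exact Subgroup.mem_subgroupOf.2 (QuotientGroup.eq.1 h)
      have hbij := hinj.bijective_of_nat_card_le (show Nat.card (X ⧸ Y) ≤ Nat.card (C ⧸ Y.subgroupOf C) from h3.ge)
      obtain ⟨q, hq⟩ := hbij.2 (QuotientGroup.mk g⁻¹)
      obtain ⟨c, rfl⟩ := QuotientGroup.mk_surjective q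
      have h5 : (c : X)⁻¹ * g⁻¹ ∈ Y := QuotientGroup.eq.1 hq
      have h6 := Subgroup.mem_centralizer_singleton_iff.1 c.2
      have e : g * y * g⁻¹ = ((c : X)⁻¹ * g⁻¹)⁻¹ * y * ((c : X)⁻¹ * g⁻¹) := by
        have e1 : (c : X) * y * (c : X)⁻¹ = y := by rw [h6, mul_inv_cancel_right]
        calc g * y * g⁻¹ = g * ((c : X) * y * (c : X)⁻¹) * g⁻¹ := by rw [e1]
          _ = _ := by group
      rw [e]
      exact mul_mem (mul_mem (inv_mem h5) hy) h5
    refine Nat.lt_of_mul_lt_mul_right (a := i * Nat.card Y) ?_
    calc Nat.card (ConjClasses X) * (i * Nat.card Y) < _ := h2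
      _ = _ := by ring

end Cfsg.Agent.S4200
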