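import Cfsg.Statements.S4201
import Mathlib.GroupTheory.CommutingProbability
import Mathlib.Algebra.Order.BigOperators.Ring.Finset
import Mathlib.Algebra.BigOperators.Ring.Finset
import Mathlib.Tactic.Ring


set_option autoImplicit false
set_option linter.style.haveILetI false
open Cfsg

namespace Cfsg.Agent.S4201
theorem fibre_le {G : Type*} [Group G] [Finite G] (N : Subgroup G) [N.Normal] (a : G ⧸ N) (S : Set G) :
    Nat.card {q : G × G // (q.1 : G ⧸ N) = a ∧ q.2 ∈ S ∧ Commute q.1 q.2} ≤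
      Nat.card {q : G × G // q.1 ∈ N ∧ q.2 ∈ S ∧ Commute q.1 q.2} := by
  classical
  let T := {q : G × G // (q.1 : G ⧸ N) = a ∧ q.2 ∈ S ∧ Commute q.1 q.2}
  let x₀ : G → G := fun y =>
    if h : ∃ x : G, (x : G ⧸ N) = a ∧ Commute x y then h.choose else 1
  have hx₀ : ∀ q : T, (x₀ q.1.2 : G ⧸ N) = a ∧ Commute (x₀ q.1.2) q.1.2 := fun q => by
    have h : ∃ x : G, (x : G ⧸ N) = a ∧ Commute x q.1.2 := ⟨q.1.1, q.2.1, q.2.2.2⟩
    simp only [x₀, dif_pos h]
    exact h.choose_spec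
  let f : T → {q : G × G // q.1 ∈ N ∧ q.2 ∈ S ∧ Commute q.1 q.2} := fun q =>
    ⟨((x₀ q.1.2)⁻¹ * q.1.1, q.1.2), QuotientGroup.eq.1 ((hx₀ q).1.trans q.2.1.symm), q.2.2.1,
      ((show Commute _ _ from (hx₀ q).2).inv_left).mul_left q.2.2.2⟩
  refine Nat.card_le_card_of_injective f fun q q' h => ?_
  have h1 := congrArg (fun t : {q : G × G // q.1 ∈ N ∧ q.2 ∈ S ∧ Commute q.1 q.2} => t.1.2) h
  have h2 := congrArg (fun t : {q : G × G // q.1 ∈ N ∧ q.2 ∈ S ∧ Commute q.1 q.2} => t.1.1) h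
  simp only [f] at h1 h2
  rw [h1] at h2
  exact Subtype.ext (Prod.ext (mul_left_cancel h2) h1)

/-- If N is a normal subgroup of the finite group X then k(X) ≤ k(N)·k(X ⧸ N), where k denotes the number of conjugacy classes. -/
theorem result {X : Type*} [Group X] [Finite X] (N : Subgroup X) [N.Normal] : Nat.card (ConjClasses X) ≤ Nat.card (ConjClasses N) * Nat.card (ConjClasses (X ⧸ N)) := by
  classical
  haveI := Fintype.ofFinite X
  have hfib : ∀ a b : X ⧸ N, Nat.card {q : X × X // (q.1 : X ⧸ N) = a ∧ (q.2 : X ⧸ N) = b ∧ Commute q.1 q.2} ≤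
      Nat.card {q : N × N // Commute q.1 q.2} := by
    intro a b
    refine le_trans (fibre_le N a {y | (y : X ⧸ N) = b}) ?_
    refine le_trans (le_of_eq (Nat.card_congr
      { toFun := fun q => ⟨(q.1.2, q.1.1), q.2.2.1, q.2.1, q.2.2.2.symm⟩
        invFun := fun q => ⟨(q.1.2, q.1.1), q.2.2.1, q.2.1, q.2.2.2.symm⟩
        left_inv := fun q => rfl
        right_inv := fun q => rfl }))
      (le_trans (fibre_le N b (N : Set X)) (le_of_eq (Nat.card_congr
      { toFun := fun q => ⟨(⟨q.1.1, q.2.1⟩, ⟨q.1.2, q.2.2.1⟩), Subtype.ext q.2.2.2⟩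
        invFun := fun q => ⟨((q.1.1 : X), (q.1.2 : X)), q.1.1.2, q.1.2.2, congrArg Subtype.val q.2⟩
        left_inv := fun q => rfl
        right_inv := fun q => rfl })))
  let f : {q : X × X // Commute q.1 q.2} → {q : (X ⧸ N) × (X ⧸ N) // Commute q.1 q.2} := fun q =>
    ⟨((q.1.1 : X ⧸ N), (q.1.2 : X ⧸ N)), (show Commute q.1.1 q.1.2 from q.2).map (QuotientGroup.mk' N)⟩
  haveI := Fintype.ofFinite {q : (X ⧸ N) × (X ⧸ N) // Commute q.1 q.2}
  have h1 : Nat.card {q : X × X // Commute q.1 q.2} ≤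
      Nat.card {q : (X ⧸ N) × (X ⧸ N) // Commute q.1 q.2} * Nat.card {q : N × N // Commute q.1 q.2} := by
    rw [← Nat.card_congr (Equiv.sigmaFiberEquiv f), Nat.card_sigma,
      Nat.card_eq_fintype_card (α := {q : (X ⧸ N) × (X ⧸ N) // Commute q.1 q.2}), ← Finset.card_univ,
      ← smul_eq_mul, ← Finset.sum_const]
    refine Finset.sum_le_sum fun c _ => ?_
    refine le_trans (le_of_eq (Nat.card_congr
      { toFun := fun q => ⟨q.1.1, congrArg (fun t => t.1.1) q.2, congrArg (fun t => t.1.2) q.2, q.1.2⟩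
        invFun := fun q => ⟨⟨q.1, q.2.2.2⟩, Subtype.ext (Prod.ext q.2.1 q.2.2.1)⟩
        left_inv := fun q => rfl
        right_inv := fun q => rfl })) (hfib c.1.1 c.1.2)
  rw [card_comm_eq_card_conjClasses_mul_card, card_comm_eq_card_conjClasses_mul_card,
    card_comm_eq_card_conjClasses_mul_card] at h1
  rw [Subgroup.card_eq_card_quotient_mul_card_subgroup N] at h1
  have h2 : Nat.card (ConjClasses X) * (Nat.card (X ⧸ N) * Nat.card N) ≤
      Nat.card (ConjClasses N) * Nat.card (ConjClasses (X ⧸ N)) * (Nat.card (X ⧸ N) * Nat.card N) :=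
    h1.trans_eq (by ring)
  exact Nat.le_of_mul_le_mul_right h2 (Nat.mul_pos Nat.card_pos Nat.card_pos)

end Cfsg.Agent.S4201
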