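import Cfsg.Statements.S4203

import Mathlib
import Cfsg.Agent.Char.Burnside

set_option autoImplicit false
set_option linter.style.haveILetI false
open Cfsg

namespace Cfsg.Agent.S4203

/-- A finite group in which every maximal subgroup has index a prime or the square of a prime is solvable. -/
theorem result {G : Type*} [Group G] [Finite G] (h : ∀ M : Subgroup G, IsCoatom M → ∃ p : ℕ, p.Prime ∧ (M.index = p ∨ M.index = p ^ 2)) : Group.IsSolvable G := by
  classical
  suffices H : ∀ (n : ℕ) (K : Type _) [Group K] [Finite K], Nat.card K = n →
      (∀ M : Subgroup K, IsCoatom M → ∃ p : ℕ, p.Prime ∧ (M.index = p ∨ M.index = p ^ 2)) →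
      Group.IsSolvable K from H _ G rfl h
  intro n
  induction n using Nat.strong_induction_on with
  | _ n ih =>
  intro K _ _ hn hK
  by_cases h1 : Nat.card K = 1
  · haveI := (Nat.card_eq_one_iff_unique.mp h1).1
    exact Group.isSolvable_of_comm fun a b => Subsingleton.elim _ _
  have hne : (Nat.card K).primeFactors.Nonempty :=
    Nat.nonempty_primeFactors.mpr (by have := Nat.card_pos (α := K); omega)
  set p := (Nat.card K).primeFactors.max' hne with hp_def
  have hpm := Finset.max'_mem _ hne
  have hp : p.Prime := Nat.prime_of_mem_primeFactors hpm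
  have hmax : ∀ q : ℕ, q.Prime → q ∣ Nat.card K → q ≤ p := fun q hq hd =>
    Finset.le_max' _ _ (Nat.mem_primeFactors.mpr ⟨hq, hd, Nat.card_pos.ne'⟩)
  haveI : Fact p.Prime := ⟨hp⟩
  obtain ⟨P⟩ := (inferInstance : Nonempty (Sylow p K))
  have hPne : (P : Subgroup K) ≠ ⊥ := P.ne_bot_of_dvd_card (Nat.dvd_of_mem_primeFactors hpm)
  by_cases hN : (P : Subgroup K).Normal
  · haveI := hN
    have hq : Group.IsSolvable (K ⧸ (P : Subgroup K)) := by
      refine ih _ ?_ _ rfl fun M hM => ?_
      · rw [← hn, (P : Subgroup K).card_eq_card_quotient_mul_card_subgroup]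
        exact lt_mul_of_one_lt_right Nat.card_pos ((Subgroup.one_lt_card_iff_ne_bot _).mpr hPne)
      · set f := QuotientGroup.mk' (P : Subgroup K) with hf
        have hsurj : Function.Surjective f := QuotientGroup.mk'_surjective _
        obtain ⟨q, hq, hidx⟩ := hK (M.comap f) (Subgroup.isCoatom_comap_of_surjective hsurj hM)
        exact ⟨q, hq, by rwa [Subgroup.index_comap_of_surjective _ hsurj] at hidx⟩
    haveI := hq
    haveI : Group.IsSolvable (P : Subgroup K) := by
      haveI := P.2.isNilpotent
      infer_instance
    exact Group.isSolvable_iff_subgroup_quotient (P : Subgroup K) |>.mpr ⟨inferInstance, inferInstance⟩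
  · obtain htop | ⟨M, hM, hle⟩ := eq_top_or_exists_le_coatom (Subgroup.normalizer ((P : Subgroup K) : Set K))
    · exact absurd (Subgroup.normalizer_eq_top_iff.mp htop) hN
    have hPM : (P : Subgroup K) ≤ M := Subgroup.le_normalizer.trans hle
    have hmodM : M.index ≡ 1 [MOD p] := by
      set Q : Sylow p M := P.subtype hPM with hQ
      have h1 : (Subgroup.normalizer ((Q : Subgroup M) : Set M)) =
          (Subgroup.normalizer ((P : Subgroup K) : Set K)).subgroupOf M := by
        rw [Subgroup.subgroupOf_normalizer_eq hPM]
        rfl
      have h2 : Nat.card (Sylow p M) = (Subgroup.normalizer ((P : Subgroup K) : Set K)).relIndex M := by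
        have := Q.card_eq_index_normalizer
        rw [show (Subgroup.normalizer (Q : Set M)) = Subgroup.normalizer ((Q : Subgroup M) : Set M) from rfl, h1] at this
        exact this
      have h3 : Nat.card (Sylow p K) = (Subgroup.normalizer ((P : Subgroup K) : Set K)).index := P.card_eq_index_normalizer
      have h4 := Subgroup.relIndex_mul_index hle
      have h5 := card_sylow_modEq_one p K
      rw [h3, ← h4, ← h2] at h5
      exact ((((card_sylow_modEq_one p M).mul_right M.index).symm.trans h5).trans (Nat.ModEq.refl _)) |> fun h => by simpa using h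
    obtain ⟨q, hq, hidx⟩ := hK M hM
    have hqK : q ∣ Nat.card K := by
      refine dvd_trans ?_ M.index_dvd_card
      rcases hidx with h | h <;> rw [h]
      exact dvd_pow_self q two_ne_zero
    have hqp : q < p := by
      rcases (hmax q hq hqK).lt_or_eq with h | h
      · exact h
      · exfalso
        have h0 : M.index ≡ 0 [MOD p] := by
          rcases hidx with h' | h' <;> rw [h', h]
          · exact Nat.modEq_zero_iff_dvd.mpr dvd_rfl
          · exact Nat.modEq_zero_iff_dvd.mpr (dvd_pow_self p two_ne_zero)
        have := hmodM.symm.trans h0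
        rw [Nat.modEq_zero_iff_dvd, Nat.dvd_one] at this
        exact hp.one_lt.ne' this
    have hp3 : p = 3 := by
      rcases hidx with h | h <;> rw [h] at hmodM
      · have := hmodM.eq_of_lt_of_lt hqp hp.one_lt
        exact absurd this hq.one_lt.ne'
      · have hdvd := (Nat.modEq_iff_dvd' (Nat.one_le_pow _ _ hq.pos)).mp hmodM.symm
        rw [show q ^ 2 - 1 = (q + 1) * (q - 1) by rw [← Nat.sq_sub_sq q 1, one_pow]] at hdvd
        rcases hp.dvd_mul.mp hdvd with h' | h'
        · have hpq : p = q + 1 := le_antisymm (Nat.le_of_dvd (by omega) h') hqp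
          rcases hq.eq_two_or_odd with h2 | h2
          · omega
          · exfalso
            rcases hp.eq_two_or_odd with h3 | h3 <;> have := hq.two_le <;> omega
        · have := Nat.le_of_dvd (by have := hq.two_le; omega) h'
          omega
    refine CfsgLib.Char.solvable_of_card_two_primes 2 3 ((Nat.card K).factorization 2) ((Nat.card K).factorization 3)
      Nat.prime_two Nat.prime_three ?_
    have hsub : (Nat.card K).primeFactors ⊆ {2, 3} := by
      intro r hr
      have hr' := Nat.prime_of_mem_primeFactors hr
      have := hmax r hr' (Nat.dvd_of_mem_primeFactors hr)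
      rw [hp3] at this
      have := hr'.two_le
      rw [Finset.mem_insert, Finset.mem_singleton]
      omega
    have hprod := Nat.prod_factorization_pow_eq_self (n := Nat.card K) Nat.card_pos.ne'
    rw [Finsupp.prod, Nat.support_factorization, Finset.prod_subset hsub, Finset.prod_pair (by norm_num)] at hprod
    · exact hprod.symm
    · intro r _ hr
      rw [← Nat.support_factorization, Finsupp.notMem_support_iff] at hr
      rw [hr, pow_zero]

end Cfsg.Agent.S4203
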