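import Cfsg.Statements.S4204

import Mathlib

set_option autoImplicit false
set_option linter.style.haveILetI false
open Cfsg

namespace Cfsg.Agent.S4204
open scoped commutatorElement

/-- `lcs H i`, shifted by one, with the whole group in degree `0`. -/
def lcsShift {G : Type*} [Group G] (H : Subgroup G) : ℕ → Subgroup G
  | 0 => ⊤
  | i + 1 => H.lowerCentralSeries i

theorem lcsShift_normal {G : Type*} [Group G] (H : Subgroup G) [H.Normal] : ∀ i, (lcsShift H i).Normal
  | 0 => (inferInstance : (⊤ : Subgroup G).Normal)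
  | i + 1 => by
    show (H.lowerCentralSeries i).Normal
    induction i with
    | zero => rw [Subgroup.lowerCentralSeries_zero]; infer_instance
    | succ i ih => rw [Subgroup.lowerCentralSeries_succ]; exact Subgroup.commutator_normal _ _

theorem comm_lcsShift {G : Type*} [Group G] (H : Subgroup G) [H.Normal] (i : ℕ) :
    ⁅lcsShift H i, H⁆ ≤ lcsShift H (i + 1) := by
  cases i with
  | zero => show ⁅(⊤ : Subgroup G), H⁆ ≤ H.lowerCentralSeries 0; rw [Subgroup.lowerCentralSeries_zero]; exact Subgroup.commutator_le_right _ _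
  | succ i => show ⁅H.lowerCentralSeries i, H⁆ ≤ H.lowerCentralSeries (i + 1); rw [Subgroup.lowerCentralSeries_succ]

/-- The elements whose commutators with `W` lie in the normal subgroup `L`. -/
theorem commutator_le_of_generators {G : Type*} [Group G] {S W L : Subgroup G} [L.Normal]
    (T : Set (Subgroup G)) (hS : S ≤ sSup T) (h : ∀ U ∈ T, ⁅U, W⁆ ≤ L) : ⁅S, W⁆ ≤ L := by
  have hT : sSup T ≤ (Subgroup.centralizer ((W.map (QuotientGroup.mk' L)) : Set (G ⧸ L))).comap (QuotientGroup.mk' L) := by
    refine sSup_le fun U hU x hx => ?_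
    refine Subgroup.mem_centralizer_iff.2 ?_
    rintro _ ⟨w, hw, rfl⟩
    have h1 : QuotientGroup.mk' L ⁅x, w⁆ = 1 := (QuotientGroup.eq_one_iff _).2 (h U hU (Subgroup.commutator_mem_commutator hx hw))
    rw [map_commutatorElement, commutatorElement_eq_one_iff_mul_comm] at h1
    exact h1.symm
  rw [Subgroup.commutator_le]
  intro x hx w hw
  rw [← QuotientGroup.eq_one_iff (N := L)]
  show QuotientGroup.mk' L ⁅x, w⁆ = 1
  rw [map_commutatorElement, commutatorElement_eq_one_iff_mul_comm]
  exact (Subgroup.mem_centralizer_iff.1 (hT (hS hx)) _ ⟨w, hw, rfl⟩).symm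

theorem lcs_sup_le {G : Type*} [Group G] (H K : Subgroup G) [H.Normal] [K.Normal] (n : ℕ) :
    (H ⊔ K).lowerCentralSeries n ≤ sSup {U | ∃ i j, i + j = n + 1 ∧ U = lcsShift H i ⊓ lcsShift K j} := by
  haveI := lcsShift_normal H
  haveI := lcsShift_normal K
  induction n with
  | zero =>
    rw [Subgroup.lowerCentralSeries_zero]
    refine sup_le ?_ ?_
    · refine le_sSup_of_le ⟨1, 0, rfl, rfl⟩ (le_inf ?_ le_top)
      show H ≤ H.lowerCentralSeries 0
      rw [Subgroup.lowerCentralSeries_zero]
    · refine le_sSup_of_le ⟨0, 1, rfl, rfl⟩ (le_inf le_top ?_)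
      show K ≤ K.lowerCentralSeries 0
      rw [Subgroup.lowerCentralSeries_zero]
  | succ n ih =>
    set L := sSup {U | ∃ i j, i + j = n + 1 + 1 ∧ U = lcsShift H i ⊓ lcsShift K j}
    haveI : L.Normal := by
      refine ⟨fun x hx g => ?_⟩
      have hle : L ≤ L.comap (MulAut.conj g).toMonoidHom := sSup_le fun U hU y hy => by
        obtain ⟨i, j, hij, rfl⟩ := hU
        exact le_sSup (a := lcsShift H i ⊓ lcsShift K j) (show _ ∈ {U | ∃ i j, i + j = n + 1 + 1 ∧ U = lcsShift H i ⊓ lcsShift K j} from ⟨i, j, hij, rfl⟩)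
          ⟨(lcsShift_normal H i).conj_mem y hy.1 g, (lcsShift_normal K j).conj_mem y hy.2 g⟩
      exact hle hx
    rw [Subgroup.lowerCentralSeries_succ]
    refine commutator_le_of_generators _ ih ?_
    rintro _ ⟨i, j, hij, rfl⟩
    rw [Subgroup.commutator_comm]
    refine commutator_le_of_generators {H, K} (sup_le (le_sSup (by simp)) (le_sSup (by simp))) ?_
    intro U hU
    rw [Subgroup.commutator_comm]
    rcases hU with rfl | rfl
    · refine le_sSup_of_le ⟨i + 1, j, by omega, rfl⟩ (le_inf ((Subgroup.commutator_mono inf_le_left le_rfl).trans (comm_lcsShift _ i)) ?_)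
      exact (Subgroup.commutator_mono inf_le_right le_rfl).trans (Subgroup.commutator_le_left _ _)
    · refine le_sSup_of_le ⟨i, j + 1, by omega, rfl⟩ (le_inf ?_ ((Subgroup.commutator_mono inf_le_right le_rfl).trans (comm_lcsShift _ j)))
      exact (Subgroup.commutator_mono inf_le_left le_rfl).trans (Subgroup.commutator_le_left _ _)

/-- If `H` and `K` are normal subgroups of a finite group with `H` nilpotent of class at most `c` and `K` nilpotent of class at most `d` (the terms with index `c`, respectively `d`, of their lower central series are trivial, indices starting at `0`), then `HK` is nilpotent of class at most `c + d`. -/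
theorem result {G : Type*} [Group G] [Finite G] (H K : Subgroup G) [H.Normal] [K.Normal] (c d : ℕ) (hH : H.lowerCentralSeries c = ⊥) (hK : K.lowerCentralSeries d = ⊥) : (H ⊔ K).lowerCentralSeries (c + d) = ⊥ := by
  refine le_bot_iff.1 ((lcs_sup_le H K (c + d)).trans (sSup_le ?_))
  rintro _ ⟨i, j, hij, rfl⟩
  by_cases hi : c + 1 ≤ i
  · obtain ⟨i, rfl⟩ : ∃ k, i = k + 1 := ⟨i - 1, by omega⟩
    refine inf_le_left.trans ?_
    show H.lowerCentralSeries i ≤ ⊥
    rw [← hH]
    exact Subgroup.lowerCentralSeries_antitone H (by omega)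
  · obtain ⟨j, rfl⟩ : ∃ k, j = k + 1 := ⟨j - 1, by omega⟩
    refine inf_le_right.trans ?_
    show K.lowerCentralSeries j ≤ ⊥
    rw [← hK]
    exact Subgroup.lowerCentralSeries_antitone K (by omega)

end Cfsg.Agent.S4204
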