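import Cfsg.Statements.S4205


set_option autoImplicit false
set_option linter.style.haveILetI false
open Cfsg

namespace Cfsg.Agent.S4205

/-- In a finite group whose upper central series reaches the whole group at step `c` (nilpotent of class at most `c`), starting from any subgroup and taking normalizers `c` times reaches the whole group. -/
theorem result {G : Type*} [Group G] [Finite G] (c : ℕ) (hG : Subgroup.upperCentralSeries G c = ⊤) (H : Subgroup G) : (fun K : Subgroup G => Subgroup.normalizer (K : Set G))^[c] H = ⊤ := by
  have key : ∀ k, Subgroup.upperCentralSeries G k ≤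
      (fun K : Subgroup G => Subgroup.normalizer (K : Set G))^[k] H := by
    intro k
    induction k with
    | zero => simp
    | succ k ih =>
      rw [Function.iterate_succ_apply']
      set K := (fun K : Subgroup G => Subgroup.normalizer (K : Set G))^[k] H
      intro x hx
      have hK : ∀ y, y ∈ K → x * y * x⁻¹ * y⁻¹ ∈ K := fun y _ =>
        ih (Subgroup.mem_upperCentralSeries_succ_iff.1 hx y)
      refine Subgroup.mem_normalizer_iff.2 fun y => ⟨fun hy => ?_, fun hy => ?_⟩
      · have := mul_mem (hK y hy) hy
        rwa [inv_mul_cancel_right] at this
      · have h1 : x * y * x⁻¹ * y⁻¹ ∈ K := ih (Subgroup.mem_upperCentralSeries_succ_iff.1 hx y)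
        have := mul_mem (inv_mem h1) hy
        simpa [mul_assoc] using this
  exact top_le_iff.1 (hG ▸ key c)

end Cfsg.Agent.S4205
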