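import Cfsg.Statements.S4207

import Cfsg.Agent.Perm.AutFrattini

set_option autoImplicit false
set_option linter.style.haveILetI false
open Cfsg

namespace Cfsg.Agent.S4207

/-- Let `P` be a group of order `p^n` whose Frattini subgroup has index `p^r`. Then any group of automorphisms of `P` each of which induces the identity on the Frattini quotient has order dividing `p^(r(n-r))`; in particular it is a `p`-group. -/
theorem result {P : Type*} [Group P] [Finite P] {p n r : ℕ} [Fact p.Prime] (hP : Nat.card P = p ^ n) (hr : (frattini P).index = p ^ r) (A : Subgroup (MulAut P)) (hA : ∀ α ∈ A, ∀ x : P, α x * x⁻¹ ∈ frattini P) : Nat.card A ∣ p ^ (r * (n - r)) := by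
  have hPp : IsPGroup p P := IsPGroup.of_card hP
  obtain ⟨h1, h2⟩ := CfsgLib.Perm.AutFrattini.quot_elementary hPp
  have hc := CfsgLib.Perm.AutFrattini.card_indep h1 h2 hr r
  obtain ⟨⟨t, ht⟩⟩ : Nonempty {f : Fin r → P ⧸ frattini P //
      Nat.card (Subgroup.closure (Set.range f)) = p ^ r} := by
    refine (Nat.card_pos_iff.1 ?_).1
    rw [hc]
    exact Finset.prod_pos fun i hi => Nat.sub_pos_of_lt
      (Nat.pow_lt_pow_right (Fact.out : p.Prime).one_lt (Finset.mem_range.1 hi))
  have h := CfsgLib.Perm.AutFrattini.card_dvd hP hr A {t} (fun s hs => by rw [Set.mem_singleton_iff.1 hs]; exact ht)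
    (fun α hα f hf => by
      rw [Set.mem_singleton_iff] at hf ⊢
      rw [← hf]
      funext i
      rw [QuotientGroup.eq_iff_div_mem, div_eq_mul_inv]
      exact hA α hα (f i))
  simpa using h

end Cfsg.Agent.S4207
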