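import Cfsg.Statements.S4211

import Mathlib
import Cfsg.Agent.Solv.UniqueSub

set_option autoImplicit false
set_option linter.style.haveILetI false
open Cfsg

namespace Cfsg.Agent.S4211
open scoped commutatorElement

universe u

variable {G : Type u} [Group G] [Finite G]

theorem pow_mul_central {x w : G} {d : G} (hd : d = ⁅w, x⁆) (hc : ∀ g, Commute d g) :
    ∀ n : ℕ, (x * w) ^ n = d ^ (n.choose 2) * (x ^ n * w ^ n) := by
  have hswap : w * x = d * x * w := by simp [hd, commutatorElement_def, mul_assoc]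
  have hwn : ∀ n : ℕ, w ^ n * x = d ^ n * x * w ^ n := by
    intro n
    induction n with
    | zero => simp
    | succ n ih =>
      calc w ^ (n + 1) * x = w * (w ^ n * x) := by rw [pow_succ', mul_assoc]
        _ = w * (d ^ n * x * w ^ n) := by rw [ih]
        _ = d ^ n * (w * x) * w ^ n := by
            rw [← mul_assoc, ← mul_assoc, ← ((hc w).pow_left n).eq]; simp [mul_assoc]
        _ = d ^ (n + 1) * x * w ^ (n + 1) := by rw [hswap, pow_succ, pow_succ']; simp [mul_assoc]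
  intro n
  induction n with
  | zero => simp
  | succ n ih =>
    rw [pow_succ, ih, Nat.choose_succ_succ, Nat.choose_one_right]
    calc d ^ n.choose 2 * (x ^ n * w ^ n) * (x * w)
        = d ^ n.choose 2 * (x ^ n * (w ^ n * x) * w) := by simp [mul_assoc]
      _ = d ^ n.choose 2 * (x ^ n * d ^ n * x * w ^ n * w) := by rw [hwn]; simp [mul_assoc]
      _ = d ^ n.choose 2 * (d ^ n * x ^ n * x * w ^ n * w) := by rw [((hc _).pow_left n).eq]
      _ = _ := by rw [pow_succ, pow_succ, pow_add, ← ((Commute.refl d).pow_pow _ _).eq]; simp [mul_assoc]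

/-- A non-commuting pair in a Dedekind group yields a quaternion pair. -/
theorem exists_quaternion_pair (hn : ∀ H : Subgroup G, H.Normal) {a b : G} (hab : a * b ≠ b * a) :
    ∃ x y : G, orderOf x = 4 ∧ y * x * y⁻¹ = x⁻¹ ∧ y * y = x * x ∧ y ∉ Subgroup.zpowers x ∧
      x ∈ Subgroup.closure ({a, b} : Set G) := by
  classical
  set K := Subgroup.closure ({a, b} : Set G)
  have haK : a ∈ K := Subgroup.subset_closure (by simp)
  have hbK : b ∈ K := Subgroup.subset_closure (by simp)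
  have hex : ∃ n, ∃ x y : G, x ∈ K ∧ y ∈ K ∧ x * y ≠ y * x ∧ orderOf x + orderOf y = n :=
    ⟨_, a, b, haK, hbK, hab, rfl⟩
  obtain ⟨x, y, hxK, hyK, hxy, hn0⟩ := Nat.find_spec hex
  have hmin : ∀ x' y' : G, x' ∈ K → y' ∈ K → x' * y' ≠ y' * x' →
      orderOf x + orderOf y ≤ orderOf x' + orderOf y' := fun x' y' h1 h2 h3 => by
    rw [hn0]; exact Nat.find_le ⟨x', y', h1, h2, h3, rfl⟩
  -- commutators lie in both cyclic subgroups
  have hboth : ∀ u v : G, ⁅u, v⁆ ∈ Subgroup.zpowers u ∧ ⁅u, v⁆ ∈ Subgroup.zpowers v := by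
    intro u v
    constructor
    · rw [commutatorElement_def, mul_assoc, mul_assoc]
      exact mul_mem (Subgroup.mem_zpowers u)
        (by rw [← mul_assoc]; exact (hn (Subgroup.zpowers u)).conj_mem _ (inv_mem (Subgroup.mem_zpowers u)) v)
    · rw [commutatorElement_def]
      exact mul_mem ((hn (Subgroup.zpowers v)).conj_mem _ (Subgroup.mem_zpowers v) u) (inv_mem (Subgroup.mem_zpowers v))
  set c := ⁅x, y⁆ with hc
  have hc1 : c ≠ 1 := fun e => hxy (commutatorElement_eq_one_iff_mul_comm.1 e)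
  have hcommpow : ∀ {u z : G}, z ∈ Subgroup.zpowers u → Commute u z := by
    rintro u _ ⟨i, rfl⟩; exact Commute.self_zpow u i
  -- minimality: proper powers commute
  have hlt : ∀ (u : G) (r : ℕ), r.Prime → r ∣ orderOf u → orderOf (u ^ r) < orderOf u := fun u r hr hd => by
    rw [orderOf_pow_of_dvd hr.ne_zero hd]
    exact Nat.div_lt_self (orderOf_pos u) hr.one_lt
  have hxr : ∀ r : ℕ, r.Prime → r ∣ orderOf x → Commute (x ^ r) y := by
    intro r hr hd
    by_contra hcon
    have := hmin _ y (pow_mem hxK r) hyK hcon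
    have := hlt x r hr hd
    omega
  have hyr : ∀ r : ℕ, r.Prime → r ∣ orderOf y → Commute x (y ^ r) := by
    intro r hr hd
    by_contra hcon
    have := hmin x _ hxK (pow_mem hyK r) hcon
    have := hlt y r hr hd
    omega
  have hcx : Commute c x := (hcommpow (hboth x y).1).symm
  have hcy : Commute c y := (hcommpow (hboth x y).2).symm
  have hycj : y * x * y⁻¹ = c⁻¹ * x := by rw [hc, commutatorElement_def]; group
  have hcr : ∀ r : ℕ, r.Prime → (r ∣ orderOf x ∨ r ∣ orderOf y) → c ^ r = 1 := by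
    intro r hr hd
    rcases hd with hd | hd
    · have h1 : y * x ^ r * y⁻¹ = x ^ r := by rw [← (hxr r hr hd).eq, mul_inv_cancel_right]
      rw [← conj_pow, hycj, (hcx.inv_left).mul_pow, inv_pow, mul_eq_right, inv_eq_one] at h1
      exact h1
    · have hxcj : x * y * x⁻¹ = c * y := by rw [hc, commutatorElement_def]; group
      have h1 : x * y ^ r * x⁻¹ = y ^ r := by rw [(hyr r hr hd).eq, mul_inv_cancel_right]
      rw [← conj_pow, hxcj, hcy.mul_pow, mul_eq_right] at h1
      exact h1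
  obtain ⟨r, hr, hrd⟩ := Nat.exists_prime_and_dvd
    (show orderOf x ≠ 1 from fun e => hxy (by rw [orderOf_eq_one_iff.1 e, one_mul, mul_one]))
  haveI := Fact.mk hr
  have hco : orderOf c = r := orderOf_eq_prime (hcr r hr (Or.inl hrd)) hc1
  have honly : ∀ s : ℕ, s.Prime → (s ∣ orderOf x ∨ s ∣ orderOf y) → s = r := fun s hs hd => by
    have := orderOf_dvd_of_pow_eq_one (hcr s hs hd)
    rw [hco] at this
    exact ((Nat.prime_dvd_prime_iff_eq hr hs).1 this).symm
  have hox : orderOf x = r ^ (orderOf x).primeFactorsList.length :=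
    Nat.eq_prime_pow_of_unique_prime_dvd (orderOf_pos x).ne' fun {s} hs hd => honly s hs (Or.inl hd)
  have hoy : orderOf y = r ^ (orderOf y).primeFactorsList.length :=
    Nat.eq_prime_pow_of_unique_prime_dvd (orderOf_pos y).ne' fun {s} hs hd => honly s hs (Or.inr hd)
  set α := (orderOf x).primeFactorsList.length
  set β := (orderOf y).primeFactorsList.length
  -- `c` is not a generator
  have hgen : ∀ u v : G, ⁅u, v⁆ = c → c ∈ Subgroup.zpowers u → Commute c v → ∀ e : ℕ, orderOf u = r ^ e → 2 ≤ e := by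
    intro u v huv hcu hcv e he
    by_contra h2
    have hle : orderOf u ≤ r := by
      rw [he]; exact (Nat.pow_le_pow_right hr.pos (show e ≤ 1 by omega)).trans_eq (pow_one r)
    have heq : Subgroup.zpowers c = Subgroup.zpowers u :=
      Subgroup.eq_of_le_of_card_ge (Subgroup.zpowers_le.2 hcu) (by rw [Nat.card_zpowers, Nat.card_zpowers, hco]; exact hle)
    obtain ⟨i, hi⟩ := Subgroup.mem_zpowers_iff.1 (heq ▸ Subgroup.mem_zpowers u : u ∈ Subgroup.zpowers c)
    apply hc1
    rw [← huv, commutatorElement_eq_one_iff_mul_comm, ← hi]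
    exact (hcv.zpow_left i).eq
  have hα : 2 ≤ α := hgen x y rfl (hboth x y).1 hcy α hox
  have hβ : 2 ≤ β := by
    by_contra h2
    have hle : orderOf y ≤ r := by
      rw [hoy]; exact (Nat.pow_le_pow_right hr.pos (show β ≤ 1 by omega)).trans_eq (pow_one r)
    have heq : Subgroup.zpowers c = Subgroup.zpowers y :=
      Subgroup.eq_of_le_of_card_ge (Subgroup.zpowers_le.2 (hboth x y).2) (by rw [Nat.card_zpowers, Nat.card_zpowers, hco]; exact hle)
    obtain ⟨i, hi⟩ := Subgroup.mem_zpowers_iff.1 (heq ▸ Subgroup.mem_zpowers y : y ∈ Subgroup.zpowers c)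
    apply hxy
    rw [← hi]
    exact (hcx.zpow_left i).eq.symm
  -- core of the argument, for an oriented pair
  have core : ∀ (u v : G) (i j : ℕ), u ∈ K → v ∈ K → u * v ≠ v * u → orderOf u = r ^ i → orderOf v = r ^ j →
      2 ≤ j → j ≤ i → orderOf u + orderOf v = orderOf x + orderOf y →
      orderOf ⁅v, u⁆ = r → ⁅v, u⁆ ∈ Subgroup.zpowers u → ⁅v, u⁆ ∈ Subgroup.zpowers v →
      (∀ g ∈ ({u, v} : Set G), Commute ⁅v, u⁆ g) → r = 2 ∧ i = 2 ∧ j = 2 := by
    intro u v i j huK hvK huv hou hov hj hji hsum hdo hdu hdv hdc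
    set d := ⁅v, u⁆ with hd
    -- both socles equal `⟨d⟩`
    have hsoc : ∀ (w : G) (k : ℕ), 1 ≤ k → orderOf w = r ^ k → d ∈ Subgroup.zpowers w →
        ∃ e : ℕ, d = (w ^ r ^ (k - 1)) ^ e ∧ ¬ r ∣ e := by
      intro w k hk how hdw
      obtain ⟨e, he⟩ := (isOfFinOrder_of_finite w).mem_powers_iff_mem_zpowers.2 hdw
      simp only at he
      have h1 : orderOf w ∣ e * r := by
        refine orderOf_dvd_of_pow_eq_one ?_
        rw [pow_mul, he, ← hdo, pow_orderOf_eq_one]
      rw [how, show r ^ k = r ^ (k - 1) * r by rw [← pow_succ]; congr 1; omega] at h1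
      obtain ⟨e', rfl⟩ := Nat.dvd_of_mul_dvd_mul_right hr.pos h1
      refine ⟨e', by rw [← pow_mul]; exact he.symm, fun hre => hc1 ?_⟩
      obtain ⟨f, rfl⟩ := hre
      have h9 : d = 1 := by
        rw [← he, ← mul_assoc, ← pow_succ, show k - 1 + 1 = k by omega, ← how, pow_mul, pow_orderOf_eq_one, one_pow]
      rw [h9, orderOf_one] at hdo
      exact absurd hdo hr.one_lt.ne
    obtain ⟨e₁, he₁, hre₁⟩ := hsoc u i (by omega) hou hdu
    obtain ⟨e₂, he₂, hre₂⟩ := hsoc v j (by omega) hov hdv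
    -- `v ^ e₂ ^ …` : choose the exponent `t` with `u ^ (r^(i-1)) = (v ^ (r^(j-1))) ^ s`
    obtain ⟨f, hf⟩ : ∃ f : ℕ, v ^ r ^ (j - 1) = d ^ f := by
      have h1 : orderOf (v ^ r ^ (j - 1)) ∣ r := by
        refine orderOf_dvd_of_pow_eq_one ?_
        rw [← pow_mul, ← pow_succ, show j - 1 + 1 = j by omega, ← hov, pow_orderOf_eq_one]
      obtain ⟨m, hm⟩ := exists_pow_eq_self_of_coprime (x := v ^ r ^ (j - 1)) (n := e₂)
        ((hr.coprime_iff_not_dvd.2 hre₂).symm.coprime_dvd_right h1)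
      exact ⟨m, by rw [he₂, hm]⟩
    -- lower the order of `v`
    set t := r ^ (i - j) * (e₁ * f) with ht
    have hdu' : Commute d u := hdc u (by simp)
    set w := v * (u ^ t)⁻¹ with hw
    have hwu : ⁅w, u⁆ = d := by
      rw [hd, hw, commutatorElement_def, commutatorElement_def, mul_inv_rev, inv_inv]
      have e : (u ^ t)⁻¹ * u * u ^ t = u := by rw [mul_assoc, ← pow_succ', pow_succ, inv_mul_cancel_left]
      calc v * (u ^ t)⁻¹ * u * (u ^ t * v⁻¹) * u⁻¹ = v * ((u ^ t)⁻¹ * u * u ^ t) * v⁻¹ * u⁻¹ := by group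
        _ = _ := by rw [e]
    have hwK : w ∈ K := mul_mem hvK (inv_mem (pow_mem huK t))
    have hwne : u * w ≠ w * u := fun e => by
      have : ⁅w, u⁆ = 1 := commutatorElement_eq_one_iff_mul_comm.2 e.symm
      rw [hwu] at this
      rw [this, orderOf_one] at hdo
      exact absurd hdo hr.one_lt.ne
    have hbig : ¬ orderOf w ∣ r ^ (j - 1) := by
      intro hdv'
      have h1 := Nat.le_of_dvd (pow_pos hr.pos _) hdv'
      have h2 := hmin u w huK hwK hwne
      have h3 : r ^ (j - 1) < r ^ j := Nat.pow_lt_pow_right hr.one_lt (by omega)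
      omega
    set n := r ^ (j - 1)
    set d' := ⁅(u ^ t)⁻¹, v⁆
    have hdv' : Commute d v := hdc v (by simp)
    have hd'mem : d' ∈ Subgroup.zpowers d := by
      have e : d' = (u ^ t)⁻¹ * (v * u ^ t * v⁻¹) := by simp [d', commutatorElement_def, mul_assoc]
      have e2 : v * u ^ t * v⁻¹ = d ^ t * u ^ t := by
        rw [← conj_pow, show v * u * v⁻¹ = d * u by simp [hd, commutatorElement_def, mul_assoc], hdu'.mul_pow]
      rw [e, e2, ← mul_assoc, ← ((hdu'.pow_pow t t).inv_right).eq, mul_assoc, inv_mul_cancel, mul_one]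
      exact pow_mem (Subgroup.mem_zpowers d) t
    obtain ⟨s, hs⟩ := Subgroup.mem_zpowers_iff.1 hd'mem
    have hd't : d' = d ^ t := by
      have e : d' = (u ^ t)⁻¹ * (v * u ^ t * v⁻¹) := by simp [d', commutatorElement_def, mul_assoc]
      have e2 : v * u ^ t * v⁻¹ = d ^ t * u ^ t := by
        rw [← conj_pow, show v * u * v⁻¹ = d * u by simp [hd, commutatorElement_def, mul_assoc], hdu'.mul_pow]
      rw [e, e2, ← mul_assoc, ← ((hdu'.pow_pow t t).inv_right).eq, mul_assoc, inv_mul_cancel, mul_one]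
    have hpow : (v * (u ^ t)⁻¹) ^ n = d' ^ n.choose 2 * (v ^ n * ((u ^ t)⁻¹) ^ n) := by
      have hswap : (u ^ t)⁻¹ * v = d' * v * (u ^ t)⁻¹ := by simp [d', commutatorElement_def, mul_assoc]
      have hcv : Commute d' v := hd't ▸ hdv'.pow_left t
      have hcu : Commute d' (u ^ t)⁻¹ := hd't ▸ (hdu'.pow_pow t t).inv_right
      have hwn : ∀ m : ℕ, ((u ^ t)⁻¹) ^ m * v = d' ^ m * v * ((u ^ t)⁻¹) ^ m := by
        intro m
        induction m with
        | zero => simp
        | succ m ih =>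
          calc ((u ^ t)⁻¹) ^ (m + 1) * v = (u ^ t)⁻¹ * (((u ^ t)⁻¹) ^ m * v) := by rw [pow_succ', mul_assoc]
            _ = (u ^ t)⁻¹ * (d' ^ m * v * ((u ^ t)⁻¹) ^ m) := by rw [ih]
            _ = d' ^ m * ((u ^ t)⁻¹ * v) * ((u ^ t)⁻¹) ^ m := by
                rw [← mul_assoc, ← mul_assoc, ← (hcu.pow_left m).eq]; simp [mul_assoc]
            _ = _ := by rw [hswap, pow_succ, pow_succ']; simp [mul_assoc]
      have main : ∀ m : ℕ, (v * (u ^ t)⁻¹) ^ m = d' ^ (m.choose 2) * (v ^ m * ((u ^ t)⁻¹) ^ m) := by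
        intro m
        induction m with
        | zero => simp
        | succ m ih =>
          rw [pow_succ, ih, Nat.choose_succ_succ, Nat.choose_one_right]
          calc d' ^ m.choose 2 * (v ^ m * ((u ^ t)⁻¹) ^ m) * (v * (u ^ t)⁻¹)
              = d' ^ m.choose 2 * (v ^ m * (((u ^ t)⁻¹) ^ m * v) * (u ^ t)⁻¹) := by simp [mul_assoc]
            _ = d' ^ m.choose 2 * (v ^ m * d' ^ m * v * ((u ^ t)⁻¹) ^ m * (u ^ t)⁻¹) := by rw [hwn]; simp [mul_assoc]
            _ = d' ^ m.choose 2 * (d' ^ m * v ^ m * v * ((u ^ t)⁻¹) ^ m * (u ^ t)⁻¹) := by rw [(hcv.pow_pow m m).eq]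
            _ = _ := by rw [pow_succ, pow_succ, pow_add, ← ((Commute.refl d').pow_pow _ _).eq]; simp [mul_assoc]
      exact main n
    have hcancel : v ^ n * ((u ^ t)⁻¹) ^ n = 1 := by
      rw [inv_pow, mul_inv_eq_one, hf, ht, ← pow_mul]
      rw [show r ^ (i - j) * (e₁ * f) * n = r ^ (i - 1) * e₁ * f by
        rw [show i - 1 = (i - j) + (j - 1) by omega, pow_add]; ring]
      rw [pow_mul, pow_mul, ← he₁]
    rw [hcancel, mul_one, hd't, ← pow_mul] at hpow
    have hnot : ¬ r ∣ t * n.choose 2 := fun hdd => hbig (orderOf_dvd_of_pow_eq_one (by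
      show (v * (u ^ t)⁻¹) ^ n = 1
      rw [hpow]
      obtain ⟨m, hm⟩ := hdd
      rw [hm, pow_mul, ← hdo, pow_orderOf_eq_one, one_pow]))
    have hij : i = j := by
      by_contra hne
      refine hnot (Dvd.dvd.mul_right ?_ _)
      exact dvd_mul_of_dvd_left (dvd_pow_self r (by omega)) _
    have hn2 : ¬ r ∣ n.choose 2 := fun h => hnot (h.mul_left _)
    have hr2 : r = 2 := by
      by_contra hne
      refine hn2 ?_
      have h1 : r ∣ n := dvd_pow_self r (by omega)
      have h2 : n.choose 2 * 2 = n * (n - 1) := by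
        rw [Nat.choose_two_right, Nat.div_mul_cancel (Nat.two_dvd_mul_sub_one n)]
      have h3 : r ∣ n.choose 2 * 2 := h2 ▸ h1.mul_right _
      rcases hr.dvd_mul.1 h3 with h | h
      · exact h
      · exact absurd ((Nat.prime_dvd_prime_iff_eq hr Nat.prime_two).1 h) hne
    refine ⟨hr2, ?_⟩
    suffices j = 2 by omega
    by_contra hne
    refine hn2 ?_
    have h1 : 2 * 2 ∣ n := by
      show 2 * 2 ∣ r ^ (j - 1)
      rw [hr2, show j - 1 = 2 + (j - 3) by omega, pow_add]
      exact dvd_mul_of_dvd_left (by norm_num) _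
    rw [hr2, Nat.choose_two_right]
    obtain ⟨q, hq⟩ := h1
    refine ⟨q * (n - 1), ?_⟩
    rw [hq, show 2 * 2 * q * (2 * 2 * q - 1) = 2 * (q * (2 * 2 * q - 1)) * 2 by ring, Nat.mul_div_cancel _ (by norm_num)]
  have hdinv : ⁅y, x⁆ = c⁻¹ := (commutatorElement_inv x y).symm
  obtain ⟨hr2, hα2, hβ2⟩ : r = 2 ∧ α = 2 ∧ β = 2 := by
    rcases le_total β α with h | h
    · refine core x y α β hxK hyK hxy hox hoy hβ h rfl (by rw [hdinv, orderOf_inv, hco]) ?_ ?_ ?_
      · rw [hdinv]; exact inv_mem (hboth x y).1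
      · rw [hdinv]; exact inv_mem (hboth x y).2
      · rintro g (rfl | rfl) <;> rw [hdinv]
        · exact hcx.inv_left
        · exact hcy.inv_left
    · obtain ⟨h1, h2, h3⟩ := core y x β α hyK hxK (Ne.symm hxy) hoy hox hα h (add_comm _ _) hco
        (hboth x y).2 (hboth x y).1 (by rintro g (rfl | rfl); exacts [hcy, hcx])
      exact ⟨h1, h3, h2⟩
  -- conclusion
  have hx4 : orderOf x = 4 := by rw [hox, hr2, hα2]; rfl
  have hy4 : orderOf y = 4 := by rw [hoy, hr2, hβ2]; rfl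
  have hsq : ∀ u : G, orderOf u = 4 → c ∈ Subgroup.zpowers u → u * u = c := by
    intro u hu hcu
    obtain ⟨e, he⟩ := (isOfFinOrder_of_finite u).mem_powers_iff_mem_zpowers.2 hcu
    simp only at he
    have h2 : u ^ (e * 2) = 1 := by rw [pow_mul, he, ← hr2, ← hco, pow_orderOf_eq_one]
    obtain ⟨m, hm⟩ := (hu ▸ orderOf_dvd_of_pow_eq_one h2 : 4 ∣ e * 2)
    have he2 : e = 2 * m := by omega
    rw [he2, pow_mul] at he
    have hu2 : (u ^ 2) ^ 2 = 1 := by rw [← pow_mul, show 2 * 2 = orderOf u by rw [hu], pow_orderOf_eq_one]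
    rcases Nat.even_or_odd' m with ⟨k, rfl | rfl⟩
    · rw [pow_mul, hu2, one_pow] at he
      exact absurd he.symm hc1
    · rw [pow_succ, pow_mul, hu2, one_pow, one_mul, sq] at he
      exact he
  refine ⟨x, y, hx4, ?_, by rw [hsq y hy4 (hboth x y).2, hsq x hx4 (hboth x y).1], ?_, hxK⟩
  · rw [hycj, ← hsq x hx4 (hboth x y).1]; group
  · intro hmem
    exact hxy (hcommpow hmem).eq

/-- A finite non-abelian group in which every subgroup is normal is the internal direct product of a subgroup isomorphic to the quaternion group of order `8`, an elementary abelian `2`-subgroup and an abelian subgroup of odd order. -/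
theorem result {G : Type*} [Group G] [Finite G] (hna : ¬ IsMulCommutative G) (hn : ∀ H : Subgroup G, H.Normal) : ∃ Q E A : Subgroup G, Nonempty (Q ≃* QuaternionGroup 2) ∧ Cfsg.IsElementaryAbelian 2 E ∧ IsMulCommutative A ∧ Odd (Nat.card A) ∧ E ⊓ A = ⊥ ∧ Q ⊓ (E ⊔ A) = ⊥ ∧ Q ⊔ (E ⊔ A) = ⊤ := by
  classical
  obtain ⟨a, b, hab⟩ : ∃ a b : G, a * b ≠ b * a := by
    by_contra hcon
    push Not at hcon
    exact hna ⟨⟨hcon⟩⟩
  obtain ⟨x, y, hx, hyx, hyy, hyX, -⟩ := exists_quaternion_pair hn hab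
  haveI := hn (Subgroup.zpowers x)
  set Q := Subgroup.zpowers x ⊔ Subgroup.zpowers y with hQ
  have hxQ : x ∈ Q := Subgroup.mem_sup_left (Subgroup.mem_zpowers x)
  have hyQ : y ∈ Q := Subgroup.mem_sup_right (Subgroup.mem_zpowers y)
  have hQmem : ∀ z ∈ Q, z ∈ Subgroup.zpowers x ∨ y⁻¹ * z ∈ Subgroup.zpowers x := by
    intro z hz
    rw [hQ, sup_comm] at hz
    rw [← SetLike.mem_coe, Subgroup.mul_normal] at hz
    obtain ⟨_, ⟨j, rfl⟩, w, hw, rfl⟩ := hz
    simp only
    rcases Int.even_or_odd' j with ⟨k, rfl | rfl⟩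
    · left
      rw [zpow_mul, zpow_two, hyy]
      exact mul_mem (Subgroup.zpow_mem _ (mul_mem (Subgroup.mem_zpowers x) (Subgroup.mem_zpowers x)) k) hw
    · right
      rw [add_comm, zpow_add, zpow_one, zpow_mul, zpow_two, hyy, mul_assoc, inv_mul_cancel_left]
      exact mul_mem (Subgroup.zpow_mem _ (mul_mem (Subgroup.mem_zpowers x) (Subgroup.mem_zpowers x)) k) hw
  obtain ⟨eQ⟩ : Nonempty (Q ≃* QuaternionGroup 2) := by
    haveI : NeZero 2 := ⟨two_ne_zero⟩
    refine CfsgLib.Solv.quaternion_of_inverting (a := (⟨x, hxQ⟩ : Q)) (u := ⟨y, hyQ⟩)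
      (by rw [← Subgroup.orderOf_coe]; exact hx) (Subtype.ext hyx) (Subtype.ext (by rw [sq]; exact hyy)) ?_ ?_
    · intro h
      obtain ⟨i, hi⟩ := Subgroup.mem_zpowers_iff.1 h
      exact hyX ⟨i, congrArg Subtype.val hi⟩
    · intro z
      rcases hQmem z z.2 with h | h
      · left
        obtain ⟨i, hi⟩ := Subgroup.mem_zpowers_iff.1 h
        exact ⟨i, Subtype.ext hi⟩
      · right
        obtain ⟨i, hi⟩ := Subgroup.mem_zpowers_iff.1 h
        exact ⟨i, Subtype.ext hi⟩
  set C := Subgroup.centralizer ({x, y} : Set G) with hC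
  have hCx : ∀ z ∈ C, z * x = x * z := fun z hz => (Subgroup.mem_centralizer_iff.1 hz x (by simp)).symm
  have hCy : ∀ z ∈ C, z * y = y * z := fun z hz => (Subgroup.mem_centralizer_iff.1 hz y (by simp)).symm
  have hCQ : ∀ z ∈ C, ∀ q ∈ Q, z * q = q * z := by
    intro z hz q hq
    have : Q ≤ Subgroup.centralizer ({z} : Set G) := sup_le
      (Subgroup.zpowers_le.2 (Subgroup.mem_centralizer_singleton_iff.2 (hCx z hz).symm))
      (Subgroup.zpowers_le.2 (Subgroup.mem_centralizer_singleton_iff.2 (hCy z hz).symm))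
    exact (Subgroup.mem_centralizer_singleton_iff.1 (this hq)).symm
  -- `G = C Q`
  have hpm : ∀ (u g : G), orderOf u = 4 → g * u * g⁻¹ = u ∨ g * u * g⁻¹ = u⁻¹ := by
    intro u g hu
    haveI := hn (Subgroup.zpowers u)
    obtain ⟨j, hj⟩ := (isOfFinOrder_of_finite u).mem_powers_iff_mem_zpowers.2
      ((inferInstance : (Subgroup.zpowers u).Normal).conj_mem u (Subgroup.mem_zpowers u) g)
    simp only at hj
    have ho : orderOf (u ^ j) = 4 := by rw [hj, ← MulAut.conj_apply, MulEquiv.orderOf_eq, hu]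
    have hg : Nat.gcd 4 j = 1 := by
      rw [orderOf_pow u, hu] at ho
      have h4 := Nat.gcd_dvd_left 4 j
      have := Nat.eq_mul_of_div_eq_left h4 ho
      omega
    rw [← hj, ← pow_mod_orderOf u j, hu]
    have hlt : j % 4 < 4 := Nat.mod_lt _ (by norm_num)
    have hg2 : Nat.gcd (j % 4) 4 = 1 := by rw [← Nat.gcd_rec]; exact hg
    interval_cases h : j % 4
    · norm_num at hg2
    · left; exact pow_one u
    · norm_num at hg2
    · right
      refine eq_inv_of_mul_eq_one_left ?_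
      have h9 := pow_orderOf_eq_one u
      rw [hu] at h9
      rw [← pow_succ]; exact h9
  have hy4 : orderOf y = 4 := by
    have h1 : orderOf (x * x) = 2 := by rw [← sq, orderOf_pow_of_dvd two_ne_zero (by rw [hx]; norm_num), hx]
    have h2 : orderOf (y ^ 2) = 2 := by rw [sq, hyy, h1]
    have h3 : y ^ 2 ≠ 1 := fun e => by rw [e, orderOf_one] at h2; omega
    exact orderOf_eq_prime_pow (p := 2) (n := 1) (by simpa using h3)
      (by
        have h9 := pow_orderOf_eq_one (y ^ 2)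
        rw [h2, ← pow_mul] at h9
        exact h9)
  have hxinv : x⁻¹ = x * (x * x) := inv_eq_of_mul_eq_one_right (by
    have : x ^ 4 = 1 := hx ▸ pow_orderOf_eq_one x
    simpa [pow_succ, mul_assoc] using this)
  have hyinv : y⁻¹ = y * (y * y) := inv_eq_of_mul_eq_one_right (by
    have : y ^ 4 = 1 := hy4 ▸ pow_orderOf_eq_one y
    simpa [pow_succ, mul_assoc] using this)
  have hxy' : x * y * x⁻¹ = y⁻¹ := by
    have h1 : y * x = x⁻¹ * y := by rw [← hyx]; group
    calc x * y * x⁻¹ = x * (x * (x⁻¹ * y)) * x⁻¹ := by group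
      _ = (x * x) * y := by rw [← h1]; group
      _ = y⁻¹ := by rw [← hyy, hyinv]; group
  have hxyi : y * x⁻¹ * y⁻¹ = x := by
    have e : y * x⁻¹ * y⁻¹ = (y * x * y⁻¹)⁻¹ := by group
    rw [e, hyx, inv_inv]
  have hyxi : x * y⁻¹ * x⁻¹ = y := by
    have e : x * y⁻¹ * x⁻¹ = (x * y * x⁻¹)⁻¹ := by group
    rw [e, hxy', inv_inv]
  have hsupC : ∀ g : G, ∃ q ∈ Q, q⁻¹ * g ∈ C := by
    intro g
    obtain ⟨q₁, hq₁, h1⟩ : ∃ q ∈ Q, (q⁻¹ * g) * x * (q⁻¹ * g)⁻¹ = x := by
      rcases hpm x g hx with h | h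
      · exact ⟨1, one_mem _, by simpa using h⟩
      · refine ⟨y⁻¹, inv_mem hyQ, ?_⟩
        rw [inv_inv]
        calc y * g * x * (y * g)⁻¹ = y * (g * x * g⁻¹) * y⁻¹ := by group
          _ = x := by rw [h, hxyi]
    rcases hpm y (q₁⁻¹ * g) hy4 with h | h
    · refine ⟨q₁, hq₁, ?_⟩
      rw [hC, Subgroup.mem_centralizer_iff]
      rintro z (rfl | rfl)
      · exact (mul_inv_eq_iff_eq_mul.1 h1).symm
      · exact (mul_inv_eq_iff_eq_mul.1 h).symm
    · refine ⟨q₁ * x⁻¹, mul_mem hq₁ (inv_mem hxQ), ?_⟩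
      rw [hC, Subgroup.mem_centralizer_iff, mul_inv_rev, inv_inv, mul_assoc]
      set g₁ := q₁⁻¹ * g
      rintro z (rfl | rfl)
      · have e := mul_inv_eq_iff_eq_mul.1 h1
        rw [mul_assoc z g₁, e]
      · refine (mul_inv_eq_iff_eq_mul.1 ?_).symm
        calc x * g₁ * z * (x * g₁)⁻¹ = x * (g₁ * z * g₁⁻¹) * x⁻¹ := by group
          _ = z := by rw [h, hyxi]
  set c := x * x with hc
  have hc1 : c ≠ 1 := fun e => by
    have : orderOf (x ^ 2) = 2 := by rw [orderOf_pow_of_dvd two_ne_zero (by rw [hx]; norm_num), hx]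
    rw [sq, ← hc, e, orderOf_one] at this
    omega
  have hinter : ∀ z ∈ C, z ∈ Q → z = 1 ∨ z = c := by
    intro z hz hzQ
    rcases hQmem z hzQ with h | h
    · obtain ⟨i, hi⟩ := (isOfFinOrder_of_finite x).mem_powers_iff_mem_zpowers.2 h
      simp only at hi
      have h2 := hCy z hz
      rw [← hi] at h2
      have h3 : y * x ^ i * y⁻¹ = x ^ i := by rw [← h2, mul_inv_cancel_right]
      rw [← conj_pow, hyx, inv_pow, inv_eq_iff_mul_eq_one, ← pow_add] at h3
      obtain ⟨m, hm⟩ := (hx ▸ orderOf_dvd_of_pow_eq_one h3 : 4 ∣ i + i)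
      rw [← hi, show i = 2 * m by omega, pow_mul, sq, ← hc]
      have hcc : c ^ 2 = 1 := by rw [hc, ← sq, ← pow_mul, show 2 * 2 = orderOf x by rw [hx], pow_orderOf_eq_one]
      rcases Nat.even_or_odd' m with ⟨k, rfl | rfl⟩
      · left; rw [pow_mul, hcc, one_pow]
      · right; rw [pow_succ, pow_mul, hcc, one_pow, one_mul]
    · exfalso
      obtain ⟨i, hi⟩ := Subgroup.mem_zpowers_iff.1 h
      have h2 : Commute x (x ^ i) := Commute.self_zpow x i
      have hz' : z = y * x ^ i := by rw [hi, mul_inv_cancel_left]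
      have h3 := hCx z hz
      rw [hz'] at h3
      have h4 : x * y = y * x := by
        apply mul_right_cancel (b := x ^ i)
        calc x * y * x ^ i = x * (y * x ^ i) := mul_assoc _ _ _
          _ = y * x ^ i * x := h3.symm
          _ = y * (x * x ^ i) := by rw [h2.eq, mul_assoc]
          _ = y * x * x ^ i := (mul_assoc _ _ _).symm
      rw [h4, mul_inv_cancel_right] at hxy'
      have : y * y = 1 := by nth_rewrite 1 [hxy']; exact inv_mul_cancel y
      rw [hyy] at this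
      exact hc1 this
  have hno4 : ∀ z ∈ C, orderOf z ≠ 4 := by
    intro z hz ho
    have hcomm : Commute x z := (hCx z hz).symm
    set w := x * z
    have hw4 : w ^ 4 = 1 := by rw [hcomm.mul_pow, ← hx, pow_orderOf_eq_one, hx, ← ho, pow_orderOf_eq_one, one_mul]
    -- `c = [y, w]` is a power of `w`
    haveI := hn (Subgroup.zpowers w)
    have hcw : c ∈ Subgroup.zpowers w := by
      have e : ⁅y, w⁆ = c := by
        have e1 : y * w * y⁻¹ = x⁻¹ * z := by
          calc y * w * y⁻¹ = (y * x * y⁻¹) * (y * z * y⁻¹) := by simp [w, mul_assoc]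
            _ = _ := by rw [hyx, ← hCy z hz, mul_inv_cancel_right]
        rw [commutatorElement_def, e1, mul_inv_rev, mul_assoc, mul_inv_cancel_left, ← mul_inv_rev, hc]
        refine inv_eq_of_mul_eq_one_right ?_
        have : x ^ 4 = 1 := hx ▸ pow_orderOf_eq_one x
        simpa [pow_succ, mul_assoc] using this
      rw [← e, commutatorElement_def]
      exact mul_mem ((inferInstance : (Subgroup.zpowers w).Normal).conj_mem _ (Subgroup.mem_zpowers w) y)
        (inv_mem (Subgroup.mem_zpowers w))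
    obtain ⟨j, hj⟩ := (isOfFinOrder_of_finite w).mem_powers_iff_mem_zpowers.2 hcw
    simp only at hj
    have hzC : ∀ k : ℕ, z ^ k ∈ C := fun k => pow_mem hz k
    -- so a power of `z` lies in `Q`
    rw [hcomm.mul_pow] at hj
    have hzQ : z ^ j ∈ Q := by
      have : z ^ j = (x ^ j)⁻¹ * c := by rw [← hj, inv_mul_cancel_left]
      rw [this]
      exact mul_mem (inv_mem (pow_mem hxQ j)) (mul_mem hxQ hxQ)
    have hj2 : x ^ j = c ∨ x ^ j = 1 := by
      rcases hinter _ (hzC j) hzQ with e | e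
      · rw [e, mul_one] at hj; exact Or.inl hj
      · rw [e, mul_eq_right] at hj; exact Or.inr hj
    obtain ⟨m, hm⟩ : 2 ∣ j := by
      have : x ^ (j * 2) = 1 := by
        rcases hj2 with e | e <;> rw [pow_mul, e]
        · rw [hc, ← sq, ← pow_mul, show 2 * 2 = orderOf x by rw [hx], pow_orderOf_eq_one]
        · exact one_pow 2
      have h9 := orderOf_dvd_of_pow_eq_one this
      rw [hx] at h9
      omega
    have hz2 : z ^ 2 * z ^ 2 = 1 := by rw [← pow_add, show 2 + 2 = orderOf z by rw [ho], pow_orderOf_eq_one]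
    have hz2ne : z ^ 2 ≠ 1 := fun e => by
      have := orderOf_dvd_of_pow_eq_one e
      rw [ho] at this; omega
    rcases Nat.even_or_odd' m with ⟨k, rfl | rfl⟩
    · rw [hm, pow_mul x 2, pow_mul z 2, pow_mul, pow_mul (z ^ 2), sq (z ^ 2), hz2, one_pow, mul_one,
        ← pow_mul x 2 2, show 2 * 2 = orderOf x by rw [hx], pow_orderOf_eq_one, one_pow] at hj
      exact hc1 hj.symm
    · rw [hm, pow_mul x 2, pow_mul z 2, pow_succ, pow_succ (z ^ 2), pow_mul, pow_mul (z ^ 2), sq (z ^ 2), hz2,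
        one_pow, one_mul, ← pow_mul x 2 2, show 2 * 2 = orderOf x by rw [hx], pow_orderOf_eq_one, one_pow,
        one_mul, sq x, ← hc] at hj
      exact hz2ne (mul_eq_left.1 hj)
  have hCab : ∀ u ∈ C, ∀ v ∈ C, u * v = v * u := by
    intro u hu v hv
    by_contra hne
    obtain ⟨x', y', hx', -, -, -, hmem⟩ := exists_quaternion_pair hn hne
    exact hno4 x' ((Subgroup.closure_le C).2 (by rintro w (rfl | rfl); exacts [hu, hv]) hmem) hx'
  let E₀ : Subgroup G :=
    { carrier := {z | z ∈ C ∧ z * z = 1}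
      one_mem' := ⟨one_mem _, one_mul 1⟩
      mul_mem' := fun {u v} hu hv => ⟨mul_mem hu.1 hv.1, by
        rw [mul_assoc, ← mul_assoc v, ← hCab u hu.1 v hv.1, mul_assoc u v v, hv.2, mul_one, hu.2]⟩
      inv_mem' := fun {u} hu => ⟨inv_mem hu.1, by rw [← mul_inv_rev, hu.2, inv_one]⟩ }
  let A : Subgroup G :=
    { carrier := {z | z ∈ C ∧ Odd (orderOf z)}
      one_mem' := ⟨one_mem _, by rw [orderOf_one]; decide⟩
      mul_mem' := fun {u v} hu hv => ⟨mul_mem hu.1 hv.1,
        (hu.2.mul hv.2).of_dvd_nat ((show Commute u v from hCab u hu.1 v hv.1).orderOf_mul_dvd_mul_orderOf)⟩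
      inv_mem' := fun {u} hu => ⟨inv_mem hu.1, by rw [orderOf_inv]; exact hu.2⟩ }
  have hcE : c ∈ E₀ := ⟨Subgroup.mem_centralizer_iff.2 (by
      rintro z (rfl | rfl)
      · exact ((Commute.refl z).mul_right (Commute.refl z)).eq
      · rw [← hyy]; group),
    by rw [hc, ← sq, ← sq, ← pow_mul, show 2 * 2 = orderOf x by rw [hx], pow_orderOf_eq_one]⟩
  obtain ⟨E, -, ⟨hE0, hcE'⟩, hEmax⟩ := Finite.exists_le_maximal
    (p := fun E : Subgroup G => E ≤ E₀ ∧ c ∉ E) (a := ⊥) ⟨bot_le, fun h => hc1 (Subgroup.mem_bot.1 h)⟩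
  haveI hEn := hn E
  have hEcov : ∀ z ∈ E₀, z ∈ E ∨ c * z ∈ E := by
    intro z hz
    by_cases hzE : z ∈ E
    · exact Or.inl hzE
    right
    have hbig : c ∈ Subgroup.zpowers z ⊔ E := by
      by_contra hcn
      exact hzE (hEmax ⟨sup_le (Subgroup.zpowers_le.2 hz) hE0, hcn⟩ le_sup_right
        (Subgroup.mem_sup_left (Subgroup.mem_zpowers z)))
    rw [← SetLike.mem_coe, Subgroup.mul_normal] at hbig
    obtain ⟨_, ⟨i, rfl⟩, e, he, heq⟩ := hbig
    simp only at heq
    rcases Int.even_or_odd' i with ⟨k, rfl | rfl⟩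
    · rw [zpow_mul, zpow_two, hz.2, one_zpow, one_mul] at heq
      exact absurd (heq ▸ he) hcE'
    · rw [add_comm, zpow_add, zpow_one, zpow_mul, zpow_two, hz.2, one_zpow, mul_one] at heq
      have h2 : c * z = e := by
        rw [← heq, hCab (z) hz.1 e (hE0 he).1, mul_assoc, hz.2, mul_one]
      rw [h2]; exact he
  refine ⟨Q, E, A, ⟨eQ⟩, ⟨⟨⟨fun u v => Subtype.ext (hCab _ (hE0 u.2).1 _ (hE0 v.2).1)⟩⟩,
    fun u hu => by rw [sq]; exact (hE0 hu).2⟩, ⟨⟨fun u v => Subtype.ext (hCab _ u.2.1 _ v.2.1)⟩⟩, ?_, ?_, ?_, ?_⟩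
  · rw [Nat.odd_iff]
    by_contra hev
    obtain ⟨w, hw⟩ := exists_prime_orderOf_dvd_card' (G := A) 2 (hp := ⟨Nat.prime_two⟩) (by omega)
    have h5 := w.2.2
    rw [Subgroup.orderOf_coe, hw] at h5
    exact absurd h5 (by decide)
  · rw [eq_bot_iff]
    intro z hz
    obtain ⟨h1, h2⟩ := Subgroup.mem_inf.1 hz
    have h4 : orderOf z ∣ 2 := orderOf_dvd_of_pow_eq_one (by rw [sq]; exact (hE0 h1).2)
    rcases (Nat.dvd_prime Nat.prime_two).1 h4 with h5 | h5
    · exact Subgroup.mem_bot.2 (orderOf_eq_one_iff.1 h5)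
    · exact absurd h2.2 (by rw [h5]; decide)
  · rw [eq_bot_iff]
    intro z hz
    obtain ⟨hzQ, hzEA⟩ := Subgroup.mem_inf.1 hz
    haveI := hn A
    rw [← SetLike.mem_coe, Subgroup.mul_normal] at hzEA
    obtain ⟨e, he, a, ha, rfl⟩ := hzEA
    rcases hinter _ (mul_mem (hE0 he).1 ha.1) hzQ with h | h
    · exact Subgroup.mem_bot.2 h
    · exfalso
      have h2 : a = e * c := by
        rw [← h, ← mul_assoc, (hE0 he).2, one_mul]
      have h3 : a ∈ E₀ := h2 ▸ mul_mem (hE0 he) hcE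
      have h4 : orderOf a ∣ 2 := orderOf_dvd_of_pow_eq_one (by rw [sq]; exact h3.2)
      rcases (Nat.dvd_prime Nat.prime_two).1 h4 with h5 | h5
      · rw [orderOf_eq_one_iff.1 h5, mul_one] at h
        exact hcE' (h ▸ he)
      · exact absurd ha.2 (by rw [h5]; decide)
  · rw [eq_top_iff]
    intro g _
    obtain ⟨q, hq, hz⟩ := hsupC g
    set z := q⁻¹ * g
    have hg : g = q * z := (mul_inv_cancel_left q g).symm
    rw [hg]
    refine mul_mem (Subgroup.mem_sup_left hq) ?_
    have hcQ : c ∈ Q ⊔ (E ⊔ A) := Subgroup.mem_sup_left (mul_mem hxQ hxQ)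
    -- split `z` into parts of order two and of odd order
    obtain ⟨k, m, hm, hkm⟩ := Nat.exists_eq_pow_mul_and_not_dvd (orderOf_pos z).ne' 2 (by norm_num)
    have hk1 : k ≤ 1 := by
      by_contra hk
      refine hno4 (z ^ (2 ^ (k - 2) * m)) (pow_mem hz _) ?_
      have hm0 : 2 ^ (k - 2) * m ≠ 0 := Nat.mul_ne_zero (pow_ne_zero _ two_ne_zero) (by omega)
      rw [orderOf_pow_of_dvd hm0 ⟨4, by
        rw [hkm]
        conv_lhs => rw [show k = (k - 2) + 2 by omega, pow_add]
        ring⟩, hkm]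
      conv_lhs => rw [show k = (k - 2) + 2 by omega, pow_add]
      rw [show k - 2 + 2 - 2 = k - 2 by omega, show 2 ^ (k - 2) * 2 ^ 2 * m = 4 * (2 ^ (k - 2) * m) by ring,
        Nat.mul_div_cancel _ (Nat.pos_of_ne_zero hm0)]
    have hmodd : Odd m := Nat.odd_iff.2 (by omega)
    have hE : z ^ m ∈ E₀ := ⟨pow_mem hz m, by
      rw [← pow_add, ← two_mul]
      have : orderOf z ∣ 2 * m := by
        rw [hkm]
        exact Nat.mul_dvd_mul_right ((Nat.pow_dvd_pow 2 hk1).trans (by rw [pow_one])) m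
      exact orderOf_dvd_iff_pow_eq_one.1 this⟩
    have hA : z ^ (m + 1) ∈ A := ⟨pow_mem hz _, by
      refine hmodd.of_dvd_nat (orderOf_dvd_of_pow_eq_one ?_)
      rw [← pow_mul, ← orderOf_dvd_iff_pow_eq_one, hkm]
      obtain ⟨t, ht⟩ := hmodd
      exact Nat.mul_dvd_mul_right ((Nat.pow_dvd_pow 2 hk1).trans (by rw [pow_one]; exact ⟨t + 1, by omega⟩)) m⟩
    have hzz : z = (z ^ m)⁻¹ * z ^ (m + 1) := by rw [pow_succ, inv_mul_cancel_left]
    have hE' : z ^ m ∈ Q ⊔ (E ⊔ A) := by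
      rcases hEcov _ hE with h | h
      · exact Subgroup.mem_sup_right (Subgroup.mem_sup_left h)
      · have := mul_mem (inv_mem hcQ) (Subgroup.mem_sup_right (S := Q) (Subgroup.mem_sup_left (T := A) h))
        rwa [inv_mul_cancel_left] at this
    rw [hzz]
    exact mul_mem (inv_mem hE') (Subgroup.mem_sup_right (Subgroup.mem_sup_right hA))

end Cfsg.Agent.S4211
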