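import Cfsg.Statements.S4212

import Mathlib
import Cfsg.Agent.Solv.FrobeniusCount

set_option autoImplicit false
set_option linter.style.haveILetI false
open Cfsg

namespace Cfsg.Agent.S4212

theorem exists_pow_inverse {N k : ℕ} (h : k.Coprime N) :
    ∃ l : ℕ, ∀ {D : Type*} [Group D] (x : D), x ^ N = 1 → x ^ (k * l) = x := by
  rcases Nat.lt_or_ge 1 N with hN | hN
  · obtain ⟨l, -, hl⟩ := Nat.exists_mul_mod_eq_one_of_coprime h hN
    exact ⟨l, fun x hx => by rw [pow_eq_pow_mod _ hx, hl, pow_one]⟩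
  · interval_cases N
    · rw [Nat.coprime_zero_right] at h
      exact ⟨1, fun x _ => by rw [h, one_mul, pow_one]⟩
    · exact ⟨0, fun x hx => by rw [pow_one] at hx; rw [hx, one_pow]⟩

universe w

theorem card_roots_dvd (D : Type w) [Group D] [Finite D] {q : ℕ} [Fact q.Prime] (v e : ℕ) (d : D)
    (hd : d ∈ Subgroup.center D) (he : orderOf d = q ^ e) :
    Nat.gcd (q ^ v) (Nat.card D) ∣ Nat.card {b : D // b ^ q ^ v = d} := by
  classical
  haveI := Fintype.ofFinite D
  have hq : q.Prime := Fact.out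
  rcases e with _ | e
  · rw [pow_zero, orderOf_eq_one_iff] at he
    subst he
    exact CfsgLib.Solv.frobenius_count _
  by_cases hS : ∃ b : D, b ^ q ^ v = d
  swap
  · haveI : IsEmpty {b : D // b ^ q ^ v = d} := ⟨fun b => hS ⟨b, b.2⟩⟩
    rw [show Nat.card {b : D // b ^ q ^ v = d} = 0 from Nat.card_of_isEmpty]; exact dvd_zero _
  set S : D → ℕ := fun z => Nat.card {b : D // b ^ q ^ v = z}
  have hT : ∀ z : D, z ∈ Subgroup.center D → ∀ f, orderOf z = q ^ f →
      q ^ f * Nat.gcd (q ^ v) (Nat.card D / q ^ f) ∣ ∑ y ∈ Finset.univ.filter (· ∈ Subgroup.zpowers z), S y := by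
    intro z hz f hf
    set Z := Subgroup.zpowers z
    haveI : Z.Normal := ⟨fun x hx g => by
      rw [Subgroup.mem_center_iff.1 (Subgroup.zpowers_le.2 hz hx) g, mul_inv_cancel_right]; exact hx⟩
    have h1 : ∑ y ∈ Finset.univ.filter (· ∈ Z), S y = Nat.card {b : D // b ^ q ^ v ∈ Z} := by
      have e : {b : D // b ^ q ^ v ∈ Z} ≃ Σ y : {y : D // y ∈ Z}, {b : D // b ^ q ^ v = y.1} :=
        { toFun := fun b => ⟨⟨_, b.2⟩, b.1, rfl⟩
          invFun := fun s => ⟨s.2.1, by rw [s.2.2]; exact s.1.2⟩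
          left_inv := fun b => rfl
          right_inv := by rintro ⟨⟨y, hy⟩, ⟨b, (hb : b ^ q ^ v = y)⟩⟩; subst hb; rfl }
      rw [Nat.card_congr e, Nat.card_sigma]
      exact Finset.sum_subtype _ (fun x => by simp) S
    have h2 : Nat.card {b : D // b ^ q ^ v ∈ Z} = Nat.card Z * Nat.card {x : D ⧸ Z // x ^ q ^ v = 1} := by
      rw [← Nat.card_prod]
      refine Nat.card_congr ((Equiv.setCongr ?_).trans (QuotientGroup.preimageMkEquivSubgroupProdSet Z {x | x ^ q ^ v = 1}))
      ext b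
      show b ^ q ^ v ∈ Z ↔ (b : D ⧸ Z) ^ q ^ v = 1
      rw [← QuotientGroup.mk_pow, QuotientGroup.eq_one_iff]
    have hcard : Nat.card (D ⧸ Z) = Nat.card D / q ^ f := by
      rw [Subgroup.card_eq_card_quotient_mul_card_subgroup Z, Nat.card_zpowers, hf, Nat.mul_div_cancel _ (pow_pos hq.pos f)]
    rw [h1, h2, Nat.card_zpowers, hf, ← hcard]
    exact mul_dvd_mul_left _ (CfsgLib.Solv.frobenius_count _)
  obtain ⟨b₀, hb₀⟩ := hS
  -- the generators of `⟨d⟩` have equally many roots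
  have hgen : ∀ y ∈ Subgroup.zpowers d, y ∉ Subgroup.zpowers (d ^ q) → S y = S d := by
    intro y hy hy'
    obtain ⟨k, rfl⟩ := mem_powers_iff_mem_zpowers.2 hy
    have hk : k.Coprime (q ^ (e + 1 + v)) := by
      refine Nat.Coprime.pow_right _ (Nat.Coprime.symm ((Nat.Prime.coprime_iff_not_dvd hq).2 ?_))
      rintro ⟨j, rfl⟩
      exact hy' ⟨j, by simp [pow_mul]⟩
    obtain ⟨l, hl⟩ := exists_pow_inverse hk
    have hdN : d ^ q ^ (e + 1 + v) = 1 := by rw [pow_add, pow_mul, ← he, pow_orderOf_eq_one, one_pow]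
    have hbN : ∀ b : D, b ^ q ^ v = d → b ^ q ^ (e + 1 + v) = 1 := fun b hb => by
      rw [add_comm, pow_add, pow_mul, hb, ← he, pow_orderOf_eq_one]
    have hyN : ∀ b : D, b ^ q ^ v = d ^ k → b ^ q ^ (e + 1 + v) = 1 := fun b hb => by
      rw [add_comm, pow_add, pow_mul, hb, ← pow_mul, mul_comm, pow_mul, ← he, pow_orderOf_eq_one, one_pow]
    refine Nat.card_congr
      { toFun := fun b => ⟨b.1 ^ l, by rw [← pow_mul, mul_comm, pow_mul, b.2, ← pow_mul]; exact hl d hdN⟩
        invFun := fun b => ⟨b.1 ^ k, by rw [← pow_mul, mul_comm, pow_mul, b.2]⟩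
        left_inv := fun b => Subtype.ext (by show (b.1 ^ l) ^ k = b.1; rw [← pow_mul, mul_comm]; exact hl b.1 (hyN b.1 b.2))
        right_inv := fun b => Subtype.ext (by show (b.1 ^ k) ^ l = b.1; rw [← pow_mul]; exact hl b.1 (hbN b.1 b.2)) }
  have hd0 : orderOf (d ^ q) = q ^ e := by
    rw [orderOf_pow, he, Nat.gcd_eq_right (dvd_pow_self q e.succ_ne_zero), pow_succ, Nat.mul_div_cancel _ hq.pos]
  have hsub : Subgroup.zpowers (d ^ q) ≤ Subgroup.zpowers d := Subgroup.zpowers_le.2 (Subgroup.pow_mem _ (Subgroup.mem_zpowers d) q)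
  have hsplit : ∑ y ∈ Finset.univ.filter (· ∈ Subgroup.zpowers d), S y =
      (q ^ (e + 1) - q ^ e) * S d + ∑ y ∈ Finset.univ.filter (· ∈ Subgroup.zpowers (d ^ q)), S y := by
    have hs : Finset.univ.filter (· ∈ Subgroup.zpowers (d ^ q)) ⊆ Finset.univ.filter (· ∈ Subgroup.zpowers d) := by
      intro x hx
      simp only [Finset.mem_filter, Finset.mem_univ, true_and] at hx ⊢
      exact hsub hx
    rw [← Finset.sum_sdiff hs, Finset.sum_congr rfl (g := fun _ => S d), Finset.sum_const, Finset.card_sdiff_of_subset hs, smul_eq_mul]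
    · congr 2
      congr 1
      · rw [← Fintype.card_subtype, ← Nat.card_eq_fintype_card, ← he, ← Nat.card_zpowers]
      · rw [← Fintype.card_subtype, ← Nat.card_eq_fintype_card, ← hd0, ← Nat.card_zpowers]
    · intro x hx
      simp only [Finset.mem_sdiff, Finset.mem_filter, Finset.mem_univ, true_and] at hx
      exact hgen x hx.1 hx.2
  -- there is room for a root
  have hbo : q ^ (e + 1 + v) ∣ Nat.card D := by
    rcases v with _ | v
    · rw [add_zero, ← he]; exact orderOf_dvd_natCard d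
    · have : orderOf b₀ = q ^ (e + 1 + (v + 1)) := by
        refine orderOf_eq_prime_pow (n := e + 1 + v) ?_ ?_
        · intro h
          have hd1 : d ^ q ^ e = 1 := by rw [← hb₀, ← pow_mul, ← pow_add, ← h]; congr 2; omega
          have := orderOf_dvd_of_pow_eq_one hd1
          rw [he] at this
          exact absurd (Nat.pow_dvd_pow_iff_le_right hq.one_lt |>.1 this) (by omega)
        · rw [show e + 1 + v + 1 = v + 1 + (e + 1) by omega, pow_add, pow_mul, hb₀, ← he, pow_orderOf_eq_one]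
      rw [← this]; exact orderOf_dvd_natCard b₀
  have hg : ∀ f, f ≤ e + 1 → Nat.gcd (q ^ v) (Nat.card D / q ^ f) = q ^ v := by
    intro f hf
    refine Nat.gcd_eq_left ?_
    obtain ⟨c, hc⟩ := hbo
    refine ⟨q ^ (e + 1 - f) * c, ?_⟩
    rw [hc, show q ^ (e + 1 + v) = q ^ f * (q ^ (e + 1 - f) * q ^ v) by rw [← pow_add, ← pow_add]; congr 1; omega,
      mul_assoc, Nat.mul_div_cancel_left _ (pow_pos hq.pos f)]
    ring
  have h1 := hT d hd (e + 1) he
  have h0 := hT (d ^ q) (Subgroup.pow_mem _ hd q) e hd0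
  rw [hg _ le_rfl, hsplit] at h1
  rw [hg _ (by omega)] at h0
  have h2 : q ^ e * q ^ v ∣ (q ^ (e + 1) - q ^ e) * S d :=
    (Nat.dvd_add_left h0).1 ((mul_dvd_mul_right (pow_dvd_pow q e.le_succ) _).trans h1)
  rw [pow_succ, ← Nat.mul_sub_one, mul_assoc] at h2
  have h3 := Nat.dvd_of_mul_dvd_mul_left (pow_pos hq.pos e) h2
  refine (Nat.gcd_dvd_left _ _).trans (Nat.Coprime.dvd_of_dvd_mul_left ?_ h3)
  refine Nat.Coprime.pow_left _ ((Nat.Prime.coprime_iff_not_dvd hq).2 fun h => ?_)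
  have h4 := hq.two_le
  have := Nat.le_of_dvd (by omega) h
  omega

/-- Frobenius' theorem for a central element. -/
theorem card_pow_eq_central_dvd {C : Type w} [Group C] [Finite C] (c : C) (hc : c ∈ Subgroup.center C) (n : ℕ) :
    Nat.gcd n (Nat.card C) ∣ Nat.card {x : C // x ^ n = c} := by
  classical
  haveI := Fintype.ofFinite C
  refine (Nat.dvd_iff_prime_pow_dvd_dvd _ _).2 fun q k hq hk => ?_
  haveI : Fact q.Prime := ⟨hq⟩
  rcases Nat.eq_zero_or_pos n with rfl | hn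
  · -- `x ^ 0 = c`
    by_cases h1 : c = 1
    · subst h1
      rw [Nat.gcd_zero_left] at hk
      refine hk.trans (dvd_of_eq ?_)
      exact Nat.card_congr (Equiv.subtypeUnivEquiv fun x => pow_zero x).symm
    · haveI : IsEmpty {x : C // x ^ 0 = c} := ⟨fun x => h1 (by rw [← x.2, pow_zero])⟩
      rw [Nat.card_of_isEmpty]; exact dvd_zero _
  obtain ⟨v, n', hn', rfl⟩ := Nat.exists_eq_pow_mul_and_not_dvd hn.ne' q hq.ne_one
  obtain ⟨N, m, hm, hcard⟩ := Nat.exists_eq_pow_mul_and_not_dvd (Nat.card_pos (α := C)).ne' q hq.ne_one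
  have hkv : q ^ k ∣ Nat.gcd (q ^ v) (Nat.card C) := by
    refine Nat.dvd_gcd ?_ (hk.trans (Nat.gcd_dvd_right _ _))
    exact (Nat.Coprime.pow_left k ((Nat.Prime.coprime_iff_not_dvd hq).2 hn')).dvd_of_dvd_mul_right (hk.trans (Nat.gcd_dvd_left _ _))
  refine hkv.trans ?_
  have hco : m.Coprime (q ^ N) := Nat.Coprime.pow_right _ ((Nat.Prime.coprime_iff_not_dvd hq).2 hm).symm
  have hexp : ∀ g : C, g ^ (m * q ^ N) = 1 := fun g => by rw [mul_comm, ← hcard]; exact pow_card_eq_one'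
  obtain ⟨u1, u2, hu1, hu2, hu3, hu4⟩ := CfsgLib.Solv.exists_crt hco
  set n := q ^ v * n'
  have hcs : c = c ^ u1 * c ^ u2 := by
    rw [← pow_add]
    refine (CfsgLib.Solv.pow_eq_self_of_modEq (hexp c) ((Nat.modEq_and_modEq_iff_modEq_mul hco).1 ⟨?_, ?_⟩)).symm
    · simpa using hu1.add hu3
    · simpa using hu2.add hu4
  have hc2N : (c ^ u2) ^ q ^ N = 1 := by
    rw [← pow_mul]
    refine CfsgLib.Solv.pow_eq_one_of_modEq (hexp c) ((Nat.modEq_and_modEq_iff_modEq_mul hco).1 ⟨?_, Nat.modEq_zero_iff_dvd.2 (dvd_mul_left _ _)⟩)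
    simpa using hu3.mul_right (q ^ N)
  rw [CfsgLib.Solv.card_decomp hco hexp (fun x => x ^ n = c)
    (fun a => a ^ m = 1 ∧ a ^ n = c ^ u1) (fun b => b ^ q ^ N = 1 ∧ b ^ n = c ^ u2) (fun a h => h.1) (fun b h => h.1)
    (fun a b ha hb hab => by
      constructor
      · intro h
        have hx : ∀ u : ℕ, (a * b) ^ n = c → (a ^ u) ^ n * (b ^ u) ^ n = c ^ u := fun u h => by
          rw [← (Commute.pow_pow (show Commute a b from hab) u u).mul_pow, ← (show Commute a b from hab).mul_pow,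
            ← pow_mul, mul_comm, pow_mul, h]
        refine ⟨⟨ha, ?_⟩, hb, ?_⟩
        · have := hx u1 h
          rwa [CfsgLib.Solv.pow_eq_self_of_modEq ha hu1, CfsgLib.Solv.pow_eq_one_of_modEq hb hu2, one_pow, mul_one] at this
        · have := hx u2 h
          rwa [CfsgLib.Solv.pow_eq_self_of_modEq hb hu4, CfsgLib.Solv.pow_eq_one_of_modEq ha hu3, one_pow, one_mul] at this
      · rintro ⟨⟨-, h1⟩, -, h2⟩
        rw [(show Commute a b from hab).mul_pow, h1, h2, ← hcs])]
  refine CfsgLib.Solv.dvd_sum_of_conj_invariant _ _ (fun g a => ?_) (fun a => ?_)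
  · -- conjugation invariance
    have hfix : ∀ u : ℕ, g * c ^ u * g⁻¹ = c ^ u := fun u => by
      rw [Subgroup.mem_center_iff.1 (Subgroup.pow_mem _ hc u) g, mul_inv_cancel_right]
    refine Nat.card_congr
      { toFun := fun b => ⟨g⁻¹ * b.1 * g, ?_⟩
        invFun := fun b => ⟨g * b.1 * g⁻¹, ?_⟩
        left_inv := fun b => Subtype.ext (by simp [mul_assoc])
        right_inv := fun b => Subtype.ext (by simp [mul_assoc]) }
    · obtain ⟨⟨a1, a2⟩, ⟨b1, b2⟩, hab⟩ := b.2
      rw [conj_pow, conj_eq_one_iff] at a1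
      rw [conj_pow, ← hfix u1] at a2
      refine ⟨⟨a1, mul_left_cancel (mul_right_cancel a2)⟩, ⟨?_, ?_⟩, ?_⟩
      · have e : (g⁻¹ * b.1 * g) ^ q ^ N = g⁻¹ * b.1 ^ q ^ N * g := by simpa using conj_pow (a := g⁻¹) (b := b.1) (i := q ^ N)
        rw [e, b1, mul_one, inv_mul_cancel]
      · have e : (g⁻¹ * b.1 * g) ^ n = g⁻¹ * b.1 ^ n * g := by simpa using conj_pow (a := g⁻¹) (b := b.1) (i := n)
        rw [e, b2, mul_assoc, ← Subgroup.mem_center_iff.1 (Subgroup.pow_mem _ hc u2) g, inv_mul_cancel_left]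
      · have e := congrArg (fun t => g⁻¹ * t * g) hab
        simpa [mul_assoc] using e
    · obtain ⟨⟨a1, a2⟩, ⟨b1, b2⟩, hab⟩ := b.2
      refine ⟨⟨by rw [conj_pow, a1, mul_one, mul_inv_cancel], by rw [conj_pow, a2, hfix]⟩,
        ⟨by rw [conj_pow, b1, mul_one, mul_inv_cancel], by rw [conj_pow, b2, hfix]⟩, ?_⟩
      rw [conj_mul, conj_mul, hab]
  · by_cases hA : a ^ m = 1 ∧ a ^ n = c ^ u1
    swap
    · haveI : IsEmpty {b : C // (a ^ m = 1 ∧ a ^ n = c ^ u1) ∧ (b ^ q ^ N = 1 ∧ b ^ n = c ^ u2) ∧ a * b = b * a} := ⟨fun b => hA b.2.1⟩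
      rw [show Nat.card {b : C // (a ^ m = 1 ∧ a ^ n = c ^ u1) ∧ (b ^ q ^ N = 1 ∧ b ^ n = c ^ u2) ∧ a * b = b * a} = 0 from Nat.card_of_isEmpty, mul_zero]; exact dvd_zero _
    set D := Subgroup.centralizer ({a} : Set C)
    obtain ⟨w, hw⟩ := exists_pow_inverse (N := q ^ N) (k := n')
      (Nat.Coprime.pow_right N (((Nat.Prime.coprime_iff_not_dvd hq).2 hn').symm))
    have hd : c ^ (u2 * w) ∈ Subgroup.center C := Subgroup.pow_mem _ hc _
    set d : D := ⟨c ^ (u2 * w), Subgroup.center_le_centralizer _ hd⟩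
    have hdN : d ^ q ^ N = 1 := Subtype.ext (by
      show (c ^ (u2 * w)) ^ q ^ N = 1
      rw [pow_mul, ← pow_mul, mul_comm w, pow_mul, hc2N, one_pow])
    obtain ⟨e, -, he⟩ := (Nat.dvd_prime_pow hq).1 (orderOf_dvd_of_pow_eq_one hdN)
    have hF : Nat.card {b : C // (a ^ m = 1 ∧ a ^ n = c ^ u1) ∧ (b ^ q ^ N = 1 ∧ b ^ n = c ^ u2) ∧ a * b = b * a} =
        Nat.card {b : D // b ^ q ^ v = d} := by
      refine Nat.card_congr
        { toFun := fun b => ⟨⟨b.1, Subgroup.mem_centralizer_singleton_iff.2 b.2.2.2.symm⟩, Subtype.ext ?_⟩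
          invFun := fun b => ⟨b.1.1, hA, ⟨?_, ?_⟩, (Subgroup.mem_centralizer_singleton_iff.1 b.1.2).symm⟩
          left_inv := fun b => rfl
          right_inv := fun b => rfl }
      · obtain ⟨-, ⟨b1, b2⟩, -⟩ := b.2
        show b.1 ^ q ^ v = c ^ (u2 * w)
        refine Eq.trans ?_ ((congrArg (fun t => t ^ w) b2).trans (pow_mul c u2 w).symm)
        show b.1 ^ q ^ v = (b.1 ^ n) ^ w
        rw [← pow_mul, mul_assoc, mul_comm (q ^ v), pow_mul b.1 (n' * w), hw _ b1]
      · -- the root is a `q`-element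
        have hb : (b.1.1) ^ q ^ v = c ^ (u2 * w) := congrArg Subtype.val b.2
        have h1 : (b.1.1) ^ q ^ (v + N) = 1 := by
          rw [pow_add, pow_mul, hb]; exact congrArg Subtype.val hdN
        have h2 : orderOf b.1.1 ∣ q ^ (v + N) := orderOf_dvd_of_pow_eq_one h1
        obtain ⟨j, -, hj⟩ := (Nat.dvd_prime_pow hq).1 h2
        refine orderOf_dvd_iff_pow_eq_one.1 ?_
        have h3 : orderOf b.1.1 ∣ q ^ N * m := hcard ▸ orderOf_dvd_natCard _
        exact (Nat.Coprime.dvd_of_dvd_mul_right (by rw [hj]; exact Nat.Coprime.pow_left _ ((Nat.Prime.coprime_iff_not_dvd hq).2 hm)) h3)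
      · have hb : (b.1.1) ^ q ^ v = c ^ (u2 * w) := congrArg Subtype.val b.2
        rw [pow_mul, hb, ← pow_mul, mul_assoc, pow_mul, mul_comm w]
        exact hw _ hc2N
    rw [hF]
    have h1 := card_roots_dvd D v e d (Subgroup.mem_center_iff.2 fun x => Subtype.ext (Subgroup.mem_center_iff.1 hd _)) he
    refine dvd_trans ?_ (mul_dvd_mul_left _ h1)
    rw [← Subgroup.index_mul_card D]
    exact (Nat.gcd_mul_right_dvd_mul_gcd _ _ _).trans (mul_dvd_mul_right (Nat.gcd_dvd_right _ _) _)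

/-- Let `G` be a finite group of order `g`, `c` an element whose conjugacy class has `h` elements, and `n` a natural number. Then the number of elements `x` of `G` with `x^n` conjugate to `c` is a multiple of `gcd(hn, g)`. -/
theorem result {G : Type*} [Group G] [Finite G] (c : G) (n : ℕ) : Nat.gcd (Nat.card {y : G // IsConj c y} * n) (Nat.card G) ∣ Nat.card {x : G // IsConj c (x ^ n)} := by
  classical
  set C := Subgroup.centralizer ({c} : Set G)
  have hroots : ∀ d : G, IsConj c d → Nat.card {x : G // x ^ n = d} = Nat.card {x : G // x ^ n = c} := by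
    intro d hd
    obtain ⟨g, rfl⟩ := isConj_iff.1 hd
    refine (Nat.card_congr (Equiv.subtypeEquiv (MulAut.conj g).toEquiv fun x => ?_)).symm
    show x ^ n = c ↔ (g * x * g⁻¹) ^ n = g * c * g⁻¹
    rw [conj_pow, mul_left_inj, mul_right_inj]
  have htot : Nat.card {x : G // IsConj c (x ^ n)} = Nat.card {y : G // IsConj c y} * Nat.card {x : G // x ^ n = c} := by
    let e : {x : G // IsConj c (x ^ n)} ≃ Σ y : {y : G // IsConj c y}, {x : G // x ^ n = y.1} :=
      { toFun := fun x => ⟨⟨_, x.2⟩, x.1, rfl⟩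
        invFun := fun s => ⟨s.2.1, by rw [s.2.2]; exact s.1.2⟩
        left_inv := fun x => rfl
        right_inv := by rintro ⟨⟨y, hy⟩, ⟨x, (hx : x ^ n = y)⟩⟩; subst hx; rfl }
    haveI := Fintype.ofFinite {y : G // IsConj c y}
    rw [Nat.card_congr e, Nat.card_sigma, Finset.sum_congr rfl fun y _ => hroots y.1 y.2, Finset.sum_const,
      Finset.card_univ, ← Nat.card_eq_fintype_card, smul_eq_mul]
  have hclass : Nat.card {y : G // IsConj c y} = C.index := by
    rw [show C = MulAction.stabilizer (ConjAct G) c from (Subgroup.centralizer_eq_comap_stabilizer c).trans rfl]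
    refine (Nat.card_congr (Equiv.subtypeEquivRight fun y => ?_)).trans (MulAction.index_stabilizer (ConjAct G) c).symm
    rw [ConjAct.mem_orbit_conjAct, isConj_comm]
  have hCn : Nat.card {x : G // x ^ n = c} = Nat.card {x : C // x ^ n = ⟨c, Subgroup.mem_centralizer_singleton_iff.2 rfl⟩} :=
    Nat.card_congr
      { toFun := fun x => ⟨⟨x.1, Subgroup.mem_centralizer_singleton_iff.2 (by have h := (Commute.self_pow x.1 n).eq; rw [x.2] at h; exact h)⟩, Subtype.ext x.2⟩
        invFun := fun x => ⟨x.1.1, congrArg Subtype.val x.2⟩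
        left_inv := fun x => rfl
        right_inv := fun x => rfl }
  rw [htot, hclass, hCn, ← Subgroup.index_mul_card C, Nat.gcd_mul_left]
  exact mul_dvd_mul_left _ (card_pow_eq_central_dvd _
    (Subgroup.mem_center_iff.2 fun g => Subtype.ext (Subgroup.mem_centralizer_singleton_iff.1 g.2)) n)

end Cfsg.Agent.S4212
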