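import Cfsg.Statements.S4213

import Mathlib
import Cfsg.Agent.Solv.FrobeniusCount
import Cfsg.Agent.Solv.MinimalNormal

set_option autoImplicit false
set_option linter.style.haveILetI false
open Cfsg

namespace Cfsg.Agent.S4213

/-- If `G` is a finite solvable group and `n` divides the order of `G` and exactly `n` elements `x` of `G` satisfy `x^n = 1`, then these elements form a normal subgroup. -/
theorem result {G : Type*} [Group G] [Finite G] [Group.IsSolvable G] (n : ℕ) (hn : n ∣ Nat.card G) (hcount : Nat.card {x : G // x ^ n = 1} = n) : ∃ H : Subgroup G, H.Normal ∧ (H : Set G) = {x : G | x ^ n = 1} := by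
  classical
  suffices H : ∀ (N : ℕ) (K : Type _) [Group K] [Finite K] [Group.IsSolvable K], Nat.card K = N →
      ∀ n, n ∣ Nat.card K → Nat.card {x : K // x ^ n = 1} = n →
      ∃ H : Subgroup K, (H : Set K) = {x : K | x ^ n = 1} by
    obtain ⟨H, hH⟩ := H _ G rfl n hn hcount
    refine ⟨H, ⟨fun y hy g => ?_⟩, hH⟩
    rw [← SetLike.mem_coe, hH, Set.mem_setOf_eq] at hy ⊢
    rw [conj_pow, hy, mul_one, mul_inv_cancel]
  clear hn hcount n
  intro N
  induction N using Nat.strong_induction_on with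
  | _ N ih =>
  intro K _ _ _ hKN n hn hcount
  rcases subsingleton_or_nontrivial K with hK | hK
  · refine ⟨⊤, Set.ext fun x => ?_⟩
    simp [Subsingleton.elim x 1]
  obtain ⟨M, p, hp, hMmin, hMc, hMexp, hMp⟩ := CfsgLib.Solv.exists_minimal_normal_pGroup (G := K)
  haveI := hMmin.1
  haveI : Fact p.Prime := ⟨hp⟩
  obtain ⟨a, ha⟩ := IsPGroup.iff_card.mp hMp
  have hM1 : 1 < Nat.card M := (Subgroup.one_lt_card_iff_ne_bot M).mpr hMmin.2.1
  have hcardK := M.card_eq_card_quotient_mul_card_subgroup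
  have hlt : Nat.card (K ⧸ M) < N := by
    rw [← hKN, hcardK]; exact lt_mul_of_one_lt_right Nat.card_pos hM1
  set g := Nat.gcd n (p ^ a) with hg
  have hn0 : 0 < n := Nat.pos_of_ne_zero fun h => Nat.card_pos.ne' (zero_dvd_iff.mp (h ▸ hn) : Nat.card K = 0)
  have hg0 : 0 < g := Nat.gcd_pos_of_pos_left _ hn0
  obtain ⟨m, hm⟩ : g ∣ n := Nat.gcd_dvd_left _ _
  obtain ⟨r, hr⟩ : g ∣ p ^ a := Nat.gcd_dvd_right _ _
  have hmr : m.Coprime r := by
    have := Nat.coprime_div_gcd_div_gcd (m := n) (n := p ^ a) hg0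
    rwa [← hg, show n / g = m by rw [hm, Nat.mul_div_cancel_left _ hg0],
      show p ^ a / g = r by rw [hr, Nat.mul_div_cancel_left _ hg0]] at this
  have hmQ : m ∣ Nat.card (K ⧸ M) := by
    refine hmr.dvd_of_dvd_mul_right ?_
    have h1 := hn
    rw [hcardK, ha, hm, hr, show Nat.card (K ⧸ M) * (g * r) = g * (Nat.card (K ⧸ M) * r) by ring] at h1
    exact Nat.dvd_of_mul_dvd_mul_left hg0 h1
  set k := Nat.card {x : K ⧸ M // x ^ m = 1} with hk
  have hkm : m ≤ k := by
    refine Nat.le_of_dvd (Finite.card_pos_iff.mpr ⟨⟨1, one_pow _⟩⟩) ?_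
    have := CfsgLib.Solv.frobenius_count (G := K ⧸ M) m
    rwa [Nat.gcd_eq_left hmQ] at this
  by_cases hpn : p ∣ n
  · have hpg : p ∣ g := Nat.dvd_gcd hpn (dvd_pow_self p fun h => by rw [ha, h, pow_zero] at hM1; omega)
    have hsub : (QuotientGroup.mk (s := M)) ⁻¹' {x : K ⧸ M | x ^ m = 1} ⊆ {x : K | x ^ n = 1} := by
      intro x hx
      rw [Set.mem_preimage, Set.mem_setOf_eq, ← QuotientGroup.mk_pow, QuotientGroup.eq_one_iff] at hx
      obtain ⟨c, hc⟩ := hpg
      show x ^ n = 1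
      rw [hm, hc, mul_comm, pow_mul, pow_mul, hMexp _ hx, one_pow]
    have hcard : Nat.card ↥((QuotientGroup.mk (s := M)) ⁻¹' {x : K ⧸ M | x ^ m = 1}) = p ^ a * k := by
      rw [Nat.card_congr (QuotientGroup.preimageMkEquivSubgroupProdSet M _), Nat.card_prod, ha, hk]
      rfl
    have hle := Nat.card_mono (Set.toFinite _) hsub
    rw [hcard, show Nat.card ↥{x : K | x ^ n = 1} = n from hcount, hm, hr] at hle
    have hr1 : r = 1 ∧ k = m := by
      have hr0 : 0 < r := Nat.pos_of_ne_zero fun h => (pow_pos hp.pos a).ne' (by rw [hr, h, mul_zero])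
      have hm0 : 0 < m := Nat.pos_of_ne_zero fun h => hn0.ne' (by rw [hm, h, mul_zero])
      have h1 : r * k ≤ m := Nat.le_of_mul_le_mul_left (by rw [← mul_assoc]; exact hle) hg0
      have h2 : k ≤ r * k := Nat.le_mul_of_pos_left k hr0
      refine ⟨?_, by omega⟩
      by_contra hne
      have h3 : 2 * k ≤ r * k := Nat.mul_le_mul_right k (by omega)
      omega
    obtain ⟨H, hH⟩ := ih _ hlt (K ⧸ M) rfl m hmQ hr1.2
    refine ⟨H.comap (QuotientGroup.mk' M), ?_⟩
    refine Set.eq_of_subset_of_ncard_le (fun x hx => hsub ?_) ?_ (Set.toFinite _)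
    · rw [Set.mem_preimage, ← hH]; exact hx
    · rw [← Nat.card_coe_set_eq, ← Nat.card_coe_set_eq, show Nat.card ↥{x : K | x ^ n = 1} = n from hcount,
        Subgroup.coe_comap, QuotientGroup.coe_mk', hH, hcard, hr1.2, hr, hr1.1, mul_one, hm]
  · have hg1 : g = 1 := Nat.Coprime.pow_right a ((hp.coprime_iff_not_dvd.mpr hpn).symm)
    rw [hg1, one_mul] at hm
    subst hm
    have hkle : k ≤ n := by
      refine le_trans (Nat.card_le_card_of_surjective
        (fun x : {x : K // x ^ n = 1} => (⟨(x.1 : K ⧸ M), by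
          rw [← QuotientGroup.mk_pow, x.2]; rfl⟩ : {x : K ⧸ M // x ^ n = 1})) ?_) hcount.le
      rintro ⟨y, hy⟩
      obtain ⟨x, rfl⟩ := QuotientGroup.mk_surjective y
      have hxn : x ^ n ∈ M := by rwa [← QuotientGroup.eq_one_iff, QuotientGroup.mk_pow]
      have hy' : orderOf (x : K ⧸ M) ∣ n := orderOf_dvd_of_pow_eq_one hy
      obtain ⟨j, hj⟩ := exists_pow_eq_self_of_coprime (x := (x : K ⧸ M)) (n := p)
        (((hp.coprime_iff_not_dvd).mpr hpn).coprime_dvd_right hy')
      refine ⟨⟨(x ^ p) ^ j, ?_⟩, Subtype.ext (by simpa using hj)⟩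
      rw [← pow_mul, ← pow_mul, show p * (j * n) = n * p * j by ring, pow_mul, pow_mul, hMexp _ hxn, one_pow]
    obtain ⟨H, hH⟩ := ih _ hlt (K ⧸ M) rfl n hmQ (le_antisymm hkle hkm)
    set T := H.comap (QuotientGroup.mk' M)
    have hMT : M ≤ T := QuotientGroup.le_comap_mk' M H
    have hHn : Nat.card H = n := by
      rw [show Nat.card H = Nat.card ↥(H : Set (K ⧸ M)) from rfl, hH]
      exact le_antisymm hkle hkm
    have hTcard : Nat.card T = p ^ a * n := by
      rw [show Nat.card T = Nat.card ↥((T : Set K)) from rfl, Subgroup.coe_comap, QuotientGroup.coe_mk',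
        Nat.card_congr (QuotientGroup.preimageMkEquivSubgroupProdSet M _), Nat.card_prod, ha,
        show Nat.card ↥(H : Set (K ⧸ M)) = Nat.card H from rfl, hHn]
    have hMTcard : Nat.card (M.subgroupOf T) = p ^ a := by
      rw [Nat.card_congr (Subgroup.subgroupOfEquivOfLe hMT).toEquiv, ha]
    have hidx : (M.subgroupOf T).index = n := by
      have := (M.subgroupOf T).card_mul_index
      rw [hMTcard, hTcard] at this
      exact Nat.eq_of_mul_eq_mul_left (pow_pos hp.pos a) this
    obtain ⟨Q, hQ⟩ := Subgroup.exists_right_complement'_of_coprime (N := M.subgroupOf T)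
      (by rw [hMTcard, hidx]; exact Nat.Coprime.pow_left a (hp.coprime_iff_not_dvd.mpr hpn))
    have hQn : Nat.card Q = n := by rw [← hQ.symm.index_eq_card, hidx]
    refine ⟨Q.map T.subtype, ?_⟩
    refine Set.eq_of_subset_of_ncard_le ?_ ?_ (Set.toFinite _)
    · rintro _ ⟨q, hq, rfl⟩
      show (q : K) ^ n = 1
      rw [← Subgroup.coe_pow, ← hQn]
      have h1 : (⟨q, hq⟩ : Q) ^ Nat.card Q = 1 := pow_card_eq_one'
      have h2 : q ^ Nat.card Q = 1 := (Subgroup.coe_pow Q ⟨q, hq⟩ _).symm.trans (congrArg Subtype.val h1)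
      rw [h2, Subgroup.coe_one]
    · rw [← Nat.card_coe_set_eq, ← Nat.card_coe_set_eq, show Nat.card ↥{x : K | x ^ n = 1} = n from hcount,
        show Nat.card ↥((Q.map T.subtype : Subgroup K) : Set K) = Nat.card (Q.map T.subtype) from rfl,
        ← Nat.card_congr (Q.equivMapOfInjective T.subtype T.subtype_injective).toEquiv, hQn]

end Cfsg.Agent.S4213
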