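import Mathlib
-- Template for statement S4214 (row 4214; see /opt/grader/pristine/manifest.json for weights).
-- Copy to Cfsg/Agent/S4214.lean and replace the sorry. The statement below is byte-identical to the frozen
-- statement Cfsg.CfsgFrozen.S4214 (Cfsg/Statements/S4214.lean; the theorem Cfsg.fg14_hall_subgroup_count_factorization);
-- the grader kernel-checks Cfsg.Agent.S4214.result against that frozen type. Keep the theorem IN THIS FILE
-- (a `result` declared elsewhere and merely imported here is not credited); helpers may live anywhere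
-- under Cfsg/Agent/.
import Cfsg.Statements.S4214
import Cfsg.Agent.Solv.Hall
import Cfsg.Agent.Solv.MinimalNormal
-- import your own Cfsg.Agent.* helpers here

set_option autoImplicit false
open Cfsg

namespace Cfsg.Agent.S4214

open scoped Pointwise commutatorElement
open CfsgLib.Solv

universe u

/-- Conjugation action of a normalizing subgroup. -/
theorem fixed_modEq {G : Type*} [Group G] [Finite G] {r : ℕ} [Fact r.Prime] {P V : Subgroup G}
    (hP : IsPGroup r P) (hPV : P ≤ Subgroup.normalizer (V : Set G)) :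
    Nat.card V ≡ Nat.card (V ⊓ Subgroup.centralizer (P : Set G) : Subgroup G) [MOD r] := by
  letI : MulAction P V :=
    { smul := fun a v => ⟨(a : G) * v * (a : G)⁻¹, (Subgroup.mem_normalizer_iff.1 (hPV a.2) v).1 v.2⟩
      one_smul := fun v => Subtype.ext (by show ((1 : P) : G) * v * ((1 : P) : G)⁻¹ = v; simp)
      mul_smul := fun a b v => Subtype.ext (by
        show ((a * b : P) : G) * v * ((a * b : P) : G)⁻¹ = a * (b * v * (b : G)⁻¹) * (a : G)⁻¹
        push_cast; group) }
  have h := hP.card_modEq_card_fixedPoints (α := V)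
  have e : Nat.card (MulAction.fixedPoints P V) = Nat.card (V ⊓ Subgroup.centralizer (P : Set G) : Subgroup G) :=
      Nat.card_congr
      { toFun := fun v => (⟨(v.1 : G), v.1.2, Subgroup.mem_centralizer_iff.2 fun a ha => by
          have h1 : a * (v.1 : G) * a⁻¹ = v.1 := congrArg Subtype.val (v.2 ⟨a, ha⟩)
          exact mul_inv_eq_iff_eq_mul.1 h1⟩ : (V ⊓ Subgroup.centralizer (P : Set G) : Subgroup G))
        invFun := fun v => ⟨⟨v.1, v.2.1⟩, fun a => Subtype.ext (by
          show (a : G) * v.1 * (a : G)⁻¹ = v.1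
          rw [Subgroup.mem_centralizer_iff.1 v.2.2 a a.2, mul_inv_cancel_right])⟩
        left_inv := fun v => rfl
        right_inv := fun v => rfl }
  rwa [e] at h

theorem factor_list {G : Type*} [Group G] [Finite G] [Group.IsSolvable G] (U : Subgroup G) [U.Normal] {q : ℕ}
    (hq : q.Prime) (hU : IsPGroup q U) : ∀ (s : ℕ) (H : Subgroup G), Nat.card H = s →
      (Nat.card H).Coprime (Nat.card U) →
      ∃ l : List ℕ, l.prod = (U ⊓ Subgroup.centralizer (H : Set G)).relIndex U ∧
        ∀ f ∈ l, (∃ e, f = q ^ e) ∧ f ∣ Nat.card U ∧ ∃ r : ℕ, r.Prime ∧ r ∣ Nat.card H ∧ f ≡ 1 [MOD r] := by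
  intro s
  induction s using Nat.strong_induction_on with
  | _ s ih =>
    intro H hs hcop
    by_cases hH : H = ⊥
    · refine ⟨[], ?_, by simp⟩
      have : U ⊓ Subgroup.centralizer ((H : Subgroup G) : Set G) = U :=
        inf_eq_left.2 (fun u _ => Subgroup.mem_centralizer_iff.2 fun h hh => by
          rw [hH] at hh
          obtain rfl : h = 1 := hh
          rw [one_mul, mul_one])
      rw [this, Subgroup.relIndex_self, List.prod_nil]
    haveI : Nontrivial H := H.nontrivial_iff_ne_bot.2 hH
    obtain ⟨M, hM, hGM⟩ := (eq_top_or_exists_le_coatom (commutator H)).resolve_left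
      (Group.IsSolvable.commutator_lt_top_of_nontrivial H).ne
    haveI hMn : M.Normal := ⟨fun m hm g => by
      have h1 : ⁅g, m⁆ ∈ M := hGM (Subgroup.commutator_mem_commutator (Subgroup.mem_top g) (Subgroup.mem_top m))
      simpa [commutatorElement_def] using M.mul_mem h1 hm⟩
    obtain ⟨r, hr, hri⟩ := Nat.exists_prime_and_dvd (fun h => hM.1 (Subgroup.index_eq_one.1 h) : M.index ≠ 1)
    haveI := Fact.mk hr
    have hrH : r ∣ Nat.card H := hri.trans M.index_dvd_card
    obtain ⟨P⟩ : Nonempty (Sylow r H) := inferInstance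
    have hPM : ¬ (P : Subgroup H) ≤ M := fun h => P.not_dvd_index (hri.trans (Subgroup.index_dvd_of_le h))
    have htop : M ⊔ (P : Subgroup H) = ⊤ := hM.2 _ (lt_of_le_of_ne le_sup_left fun h => hPM (h ▸ le_sup_right))
    set M' := M.map H.subtype with hM'
    set P' := (P : Subgroup H).map H.subtype with hP'
    have hM'H : M' ≤ H := Subgroup.map_subtype_le M
    have hP'H : P' ≤ H := Subgroup.map_subtype_le _
    have hM'c : Nat.card M' = Nat.card M := (Nat.card_congr (M.equivMapOfInjective H.subtype Subtype.val_injective).toEquiv).symm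
    have hlt : Nat.card M' < s := by
      rw [hM'c, ← hs]
      refine lt_of_le_of_ne (Nat.card_le_card_of_injective M.subtype Subtype.val_injective) fun h => hM.1 ?_
      exact Subgroup.eq_top_of_card_eq M h
    have hcop' : (Nat.card M').Coprime (Nat.card U) := hcop.coprime_dvd_left (Subgroup.card_dvd_of_le hM'H)
    obtain ⟨l, hl, hlf⟩ := ih _ hlt M' rfl hcop'
    set V := U ⊓ Subgroup.centralizer (M' : Set G) with hV
    set F := U ⊓ Subgroup.centralizer (H : Set G) with hF
    have hFV : F ≤ V := inf_le_inf_left _ (Subgroup.centralizer_le hM'H)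
    have hsup : M' ⊔ P' = H := by
      rw [hM', hP', ← Subgroup.map_sup, htop, ← MonoidHom.range_eq_map, Subgroup.range_subtype]
    have hFeq : V ⊓ Subgroup.centralizer (P' : Set G) = F := by
      refine le_antisymm ?_ (le_inf hFV (inf_le_right.trans (Subgroup.centralizer_le hP'H)))
      rintro x ⟨⟨hxU, hxM⟩, hxP⟩
      refine ⟨hxU, Subgroup.mem_centralizer_iff.2 fun h hh => ?_⟩
      have hle : H ≤ Subgroup.centralizer ({x} : Set G) := by
        rw [← hsup]
        exact sup_le (fun m hm => Subgroup.mem_centralizer_singleton_iff.2 (Subgroup.mem_centralizer_iff.1 hxM m hm))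
          (fun m hm => Subgroup.mem_centralizer_singleton_iff.2 (Subgroup.mem_centralizer_iff.1 hxP m hm))
      exact Subgroup.mem_centralizer_singleton_iff.1 (hle hh)
    have hPV : P' ≤ Subgroup.normalizer (V : Set G) := by
      intro h hh
      refine Subgroup.mem_normalizer_fintype fun v hv => ⟨(inferInstance : U.Normal).conj_mem v hv.1 h, ?_⟩
      refine Subgroup.mem_centralizer_iff.2 ?_
      rintro _ ⟨m, hm, rfl⟩
      have h1 : h⁻¹ * (m : G) * h ∈ M' := ⟨_, by
        simpa using hMn.conj_mem m hm (⟨h, hP'H hh⟩ : H)⁻¹, by simp⟩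
      have h2 := Subgroup.mem_centralizer_iff.1 hv.2 _ h1
      show (m : G) * (h * v * h⁻¹) = h * v * h⁻¹ * (m : G)
      calc (m : G) * (h * v * h⁻¹) = h * ((h⁻¹ * (m : G) * h) * v) * h⁻¹ := by group
        _ = _ := by rw [h2]; group
    have hmod := fixed_modEq (P.isPGroup'.map H.subtype) hPV
    rw [hFeq] at hmod
    set f := F.relIndex V with hf
    have hVc : Nat.card V = f * Nat.card F := by
      rw [hf, ← Subgroup.relIndex_bot_left F, mul_comm, Subgroup.relIndex_mul_relIndex _ _ _ bot_le hFV,
        Subgroup.relIndex_bot_left]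
    have hfdvd : f ∣ Nat.card U := (Dvd.intro _ hVc.symm).trans (Subgroup.card_dvd_of_le inf_le_left)
    refine ⟨f :: l, ?_, ?_⟩
    · rw [List.prod_cons, hl, Subgroup.relIndex_mul_relIndex _ _ _ hFV inf_le_left]
    intro g hg
    rcases List.mem_cons.1 hg with rfl | hg
    · haveI := Fact.mk hq
      obtain ⟨a, ha⟩ := IsPGroup.iff_card.1 hU
      obtain ⟨e, -, he⟩ := (Nat.dvd_prime_pow hq).1 (ha ▸ hfdvd)
      refine ⟨⟨e, he⟩, hfdvd, r, hr, hrH, ?_⟩
      rw [hVc] at hmod
      refine Nat.ModEq.cancel_right_of_coprime ?_ (hmod.trans (by rw [one_mul]))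
      exact (hcop.coprime_dvd_left hrH).coprime_dvd_right (Subgroup.card_dvd_of_le inf_le_left)
    · obtain ⟨he, hd, r', hr', hr'M, hmod'⟩ := hlf g hg
      exact ⟨he, hd, r', hr', hr'M.trans (Subgroup.card_dvd_of_le hM'H), hmod'⟩

theorem count_conj {G : Type*} [Group G] [Finite G] (S : Set (Subgroup G)) (H : Subgroup G)
    (hS : ∀ K, K ∈ S ↔ ∃ g : G, MulAut.conj g • H = K) :
    Nat.card S = (Subgroup.normalizer (H : Set G)).index := by
  have hN : ∀ g : G, MulAut.conj g • H = H ↔ g ∈ Subgroup.normalizer (H : Set G) := fun g => by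
    constructor
    · intro h
      refine Subgroup.mem_normalizer_fintype fun n hn => ?_
      rw [← h]
      exact Subgroup.smul_mem_pointwise_smul n (MulAut.conj g) H hn
    · intro h
      ext y
      rw [Subgroup.mem_pointwise_smul_iff_inv_smul_mem, MulAut.smul_def]
      have := (Subgroup.mem_normalizer_iff.1 h (g⁻¹ * y * g))
      simp only [mul_assoc, mul_inv_cancel_left, mul_inv_cancel, mul_one] at this
      simpa [mul_assoc] using this
  rw [Subgroup.index_eq_card]
  symm
  refine Nat.card_congr (Equiv.ofBijective (Quotient.lift (fun g => (⟨MulAut.conj g • H, (hS _).2 ⟨g, rfl⟩⟩ : S)) ?_) ⟨?_, ?_⟩)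
  · intro a b hab
    have h1 := (hN _).2 (QuotientGroup.leftRel_apply.1 hab)
    rw [map_mul, mul_smul, map_inv, inv_smul_eq_iff] at h1
    exact Subtype.ext h1.symm
  · intro x y
    induction x using Quotient.ind
    induction y using Quotient.ind
    rename_i a b
    intro h
    refine Quotient.sound (QuotientGroup.leftRel_apply.2 ((hN _).1 ?_))
    rw [map_mul, mul_smul, map_inv, inv_smul_eq_iff]
    exact (congrArg Subtype.val h).symm
  · rintro ⟨K, hK⟩
    obtain ⟨g, hg⟩ := (hS K).1 hK
    exact ⟨Quotient.mk _ g, Subtype.ext hg⟩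

/-- The conclusion on a factor. -/
def Good (G : Type*) [Group G] (m : ℕ) (f : ℕ) : Prop :=
  (∃ q e : ℕ, q.Prime ∧ f = q ^ e) ∧ (∃ K L : Subgroup G, K.Normal ∧ L.Normal ∧ K < L ∧
    (∀ M : Subgroup G, M.Normal → K ≤ M → M ≤ L → M = K ∨ M = L) ∧ f ∣ K.relIndex L) ∧
    (∃ q : ℕ, q.Prime ∧ q ∣ m ∧ f ≡ 1 [MOD q])

theorem main : ∀ (s : ℕ) (G : Type u) [Group G] [Finite G], Nat.card G = s → Group.IsSolvable G →
    ∀ (m n : ℕ), Nat.card G = m * n → m.Coprime n →
      ∃ l : List ℕ, Nat.card {H : Subgroup G // Nat.card H = m} = l.prod ∧ ∀ f ∈ l, Good G m f := by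
  intro s
  induction s using Nat.strong_induction_on with
  | _ s ih =>
    intro G _ _ hs hsol m n hG hmn
    haveI := hsol
    rcases subsingleton_or_nontrivial G with hsub | hnt
    · refine ⟨[], ?_, by simp⟩
      have h1 : Nat.card G = 1 := Nat.card_of_subsingleton (1 : G)
      have hm : m = 1 := Nat.eq_one_of_mul_eq_one_right (hG.symm.trans h1)
      subst hm
      rw [List.prod_nil, Nat.card_eq_one_iff_unique]
      exact ⟨⟨fun a b => Subtype.ext (Subgroup.ext fun x => by rw [Subsingleton.elim x 1]; simp [one_mem])⟩,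
        ⟨⟨⊥, Subgroup.card_bot⟩⟩⟩
    obtain ⟨N, q, hq, hN, hNab, -, hNq⟩ := exists_minimal_normal_pGroup (G := G)
    haveI := hN.1
    haveI := Fact.mk hq
    obtain ⟨a, ha⟩ := IsPGroup.iff_card.1 hNq
    have ha0 : a ≠ 0 := fun h => hN.2.1 (Subgroup.card_eq_one.1 (by rw [ha, h, pow_zero]))
    have hNdvd : Nat.card N ∣ m * n := hG ▸ Subgroup.card_subgroup_dvd_card N
    let π := QuotientGroup.mk' N
    have hπ : Function.Surjective π := QuotientGroup.mk'_surjective N
    have hker : π.ker = N := QuotientGroup.ker_mk' N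
    have hQ : Nat.card G = Nat.card (G ⧸ N) * Nat.card N := Subgroup.card_eq_card_quotient_mul_card_subgroup N
    have hlt : Nat.card (G ⧸ N) < s := by
      rw [← hs, hQ]
      exact lt_mul_of_one_lt_right Nat.card_pos (by rw [ha]; exact Nat.one_lt_pow ha0 hq.one_lt)
    have hmpos : 0 < m := Nat.pos_of_ne_zero fun h => (Nat.card_pos (α := G)).ne' (by rw [hG, h, zero_mul])
    -- lifting factors
    have hlift : ∀ m' f, m' ∣ m → Good (G ⧸ N) m' f → Good G m f := by
      rintro m' f hm' ⟨h1, ⟨K, L, hK, hL, hKL, hchief, hf⟩, r, hr, hrm, hmod⟩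
      refine ⟨h1, ⟨K.comap π, L.comap π, hK.comap π, hL.comap π, (Subgroup.comap_lt_comap_of_surjective hπ).2 hKL,
        fun M hM hKM hML => ?_, ?_⟩, r, hr, hrm.trans hm', hmod⟩
      · have hNM : π.ker ≤ M := (Subgroup.ker_le_comap π K).trans hKM
        have e := Subgroup.comap_map_eq_self hNM
        rcases hchief (M.map π) (hM.map π hπ) ((Subgroup.map_comap_eq_self_of_surjective hπ K).ge.trans (Subgroup.map_mono hKM))
          ((Subgroup.map_mono hML).trans (Subgroup.map_comap_eq_self_of_surjective hπ L).le) with h | h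
        · left; rw [← e, h]
        · right; rw [← e, h]
      · rwa [Subgroup.relIndex_comap, Subgroup.map_comap_eq_self_of_surjective hπ]
    by_cases hqm : q ∣ m
    · have hNm : Nat.card N ∣ m := (Nat.Coprime.dvd_of_dvd_mul_right (by
        rw [ha]; exact (Nat.Coprime.pow_left a (hmn.coprime_dvd_left hqm))) hNdvd)
      obtain ⟨m', hm'⟩ := hNm
      have hQc : Nat.card (G ⧸ N) = m' * n := by
        have : Nat.card (G ⧸ N) * Nat.card N = m' * n * Nat.card N := by rw [← hQ, hG, hm']; ring
        exact Nat.eq_of_mul_eq_mul_right Nat.card_pos this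
      obtain ⟨l, hl, hlg⟩ := ih _ hlt (G ⧸ N) rfl inferInstance m' n hQc
        (hmn.coprime_dvd_left (Dvd.intro_left _ hm'.symm))
      refine ⟨l, ?_, fun f hf => hlift m' f (Dvd.intro_left _ hm'.symm) (hlg f hf)⟩
      rw [← hl]
      have hle : ∀ H : Subgroup G, Nat.card H = m → N ≤ H := by
        intro H hH
        have h1 : Nat.card (H ⊔ N : Subgroup G) ∣ m * n := hG ▸ Subgroup.card_subgroup_dvd_card _
        have h2 : Nat.card (H ⊔ N : Subgroup G) ∣ Nat.card N * m := by
          rw [← Subgroup.relIndex_bot_left (H ⊔ N), ← Subgroup.relIndex_mul_relIndex ⊥ N (H ⊔ N) bot_le le_sup_right,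
            Subgroup.relIndex_bot_left, Subgroup.relIndex_sup_right]
          exact Nat.mul_dvd_mul_left _ (hH ▸ Subgroup.relIndex_dvd_card N H)
        have h3 : (Nat.card (H ⊔ N : Subgroup G)).Coprime n := Nat.Coprime.coprime_dvd_left h2
          (Nat.Coprime.mul_left (by rw [ha]; exact Nat.Coprime.pow_left a (hmn.coprime_dvd_left hqm)) hmn)
        have h4 := Subgroup.eq_of_le_of_card_ge (le_sup_left : H ≤ H ⊔ N)
          (hH.symm ▸ Nat.le_of_dvd hmpos (h3.dvd_of_dvd_mul_right h1))
        exact h4 ▸ le_sup_right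
      have hcm : ∀ H : Subgroup G, N ≤ H → Nat.card H = Nat.card N * Nat.card (H.map π) := by
        intro H hH
        rw [← Subgroup.relIndex_bot_left H, ← Subgroup.relIndex_mul_relIndex ⊥ N H bot_le hH, Subgroup.relIndex_bot_left,
          ← Subgroup.relIndex_bot_left (H.map π), ← Subgroup.map_bot π, Subgroup.relIndex_map_map,
          hker, bot_sup_eq, sup_eq_left.2 hH]
      refine Nat.card_congr
        { toFun := fun H => ⟨H.1.map π, Nat.eq_of_mul_eq_mul_left Nat.card_pos ((hcm H.1 (hle _ H.2)).symm.trans (H.2.trans hm'))⟩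
          invFun := fun K => ⟨K.1.comap π, by
            rw [hcm _ (hker.ge.trans (Subgroup.ker_le_comap π K.1)), Subgroup.map_comap_eq_self_of_surjective hπ, K.2, hm']⟩
          left_inv := fun H => Subtype.ext (Subgroup.comap_map_eq_self (hker.le.trans (hle _ H.2)))
          right_inv := fun K => Subtype.ext (Subgroup.map_comap_eq_self_of_surjective hπ K.1) }
    · have hNcop : (Nat.card N).Coprime m := by
        rw [ha]; exact ((hq.coprime_iff_not_dvd).2 hqm).pow_left a
      obtain ⟨n', hn'⟩ := hNcop.dvd_of_dvd_mul_left hNdvd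
      have hQc : Nat.card (G ⧸ N) = m * n' := by
        have : Nat.card (G ⧸ N) * Nat.card N = m * n' * Nat.card N := by rw [← hQ, hG, hn']; ring
        exact Nat.eq_of_mul_eq_mul_right Nat.card_pos this
      have hmn' : m.Coprime n' := hmn.coprime_dvd_right (Dvd.intro_left _ hn'.symm)
      obtain ⟨l, hl, hlg⟩ := ih _ hlt (G ⧸ N) rfl inferInstance m n' hQc hmn'
      have hps := PiSolvable.of_isSolvable (G := G) {r : ℕ | r ∣ m}
      obtain ⟨H, hH1, hH2⟩ := exists_hall hps
      have hHc : Nat.card H = m := hall_card_eq_of_mul hG hmn hH1 hH2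
      have hHN : H ⊓ N = ⊥ := Subgroup.inf_eq_bot_of_coprime (by rw [hHc]; exact hNcop.symm)
      have hπH : Nat.card (H.map π) = m := by
        rw [← Subgroup.relIndex_bot_left (H.map π), ← Subgroup.map_bot π, Subgroup.relIndex_map_map, hker, bot_sup_eq,
          Subgroup.relIndex_sup_right, ← Subgroup.inf_relIndex_right, inf_comm, hHN, Subgroup.relIndex_bot_left, hHc]
      set X := Subgroup.normalizer (H : Set G) with hX
      have hcount : Nat.card {K : Subgroup G // Nat.card K = m} = X.index := by
        refine count_conj {K : Subgroup G | Nat.card K = m} H fun K => ⟨fun hK => ?_, ?_⟩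
        · obtain ⟨hK1, hK2⟩ := piNat_of_card_eq hG hmn hK
          exact hall_conj hps hH1 hH2 hK1 hK2
        · rintro ⟨g, rfl⟩
          exact (Nat.card_congr (Subgroup.equivSMul (MulAut.conj g) H).toEquiv).symm.trans hHc
      have hcountQ : Nat.card {K : Subgroup (G ⧸ N) // Nat.card K = m} = (Subgroup.normalizer ((H.map π : Subgroup (G ⧸ N)) : Set (G ⧸ N))).index := by
        obtain ⟨h1, h2⟩ := piNat_of_card_eq hQc hmn' hπH
        refine count_conj {K : Subgroup (G ⧸ N) | Nat.card K = m} (H.map π) fun K => ⟨fun hK => ?_, ?_⟩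
        · obtain ⟨hK1, hK2⟩ := piNat_of_card_eq hQc hmn' hK
          exact hall_conj (PiSolvable.quotient hps N) h1 h2 hK1 hK2
        · rintro ⟨g, rfl⟩
          exact (Nat.card_congr (Subgroup.equivSMul (MulAut.conj g) (H.map π)).toEquiv).symm.trans hπH
      have hnorm : (Subgroup.normalizer ((H.map π : Subgroup (G ⧸ N)) : Set (G ⧸ N))).comap π = X ⊔ N := by
        rw [Subgroup.comap_normalizer_eq_of_surjective _ hπ, Subgroup.comap_map_eq, hker]
        refine le_antisymm (fun g hg => ?_) (sup_le (fun g hg => ?_) (le_sup_right.trans Subgroup.le_normalizer))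
        · have h1 : MulAut.conj g • H ≤ H ⊔ N := by
            intro y hy
            obtain ⟨h, hh, rfl⟩ := hy
            exact (Subgroup.mem_normalizer_iff.1 hg h).1 (Subgroup.mem_sup_left hh)
          have hc : Nat.card (MulAut.conj g • H : Subgroup G) = m :=
            (Nat.card_congr (Subgroup.equivSMul (MulAut.conj g) H).toEquiv).symm.trans hHc
          have hsup : (MulAut.conj g • H) ⊔ N = H ⊔ N := by
            refine Subgroup.eq_of_le_of_card_ge (sup_le h1 le_sup_right) ?_
            have e : ∀ K : Subgroup G, Nat.card K = m → Nat.card (K ⊔ N : Subgroup G) = Nat.card N * m := by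
              intro K hK
              rw [← Subgroup.relIndex_bot_left (K ⊔ N), ← Subgroup.relIndex_mul_relIndex ⊥ N (K ⊔ N) bot_le le_sup_right,
                Subgroup.relIndex_bot_left, Subgroup.relIndex_sup_right, ← Subgroup.inf_relIndex_right,
                Subgroup.inf_eq_bot_of_coprime (by rw [hK]; exact hNcop), Subgroup.relIndex_bot_left, hK]
            rw [e _ hc, e _ hHc]
          obtain ⟨x, hx, hxH⟩ := conj_complement_in_sup hsup.symm (by rw [hHc]; exact hNcop.symm)
            (by rw [hc]; exact hNcop.symm) (Or.inl inferInstance)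
          obtain ⟨h, hh, u, hu, rfl⟩ := Subgroup.mem_sup_of_normal_right.1 hx
          -- translate to the normalizer
          have hg' : (h * u)⁻¹ * g ∈ X := by
            refine Subgroup.mem_normalizer_fintype fun y hy => ?_
            have h3 : g * y * g⁻¹ ∈ MulAut.conj (h * u) • H :=
              hxH.ge (Subgroup.smul_mem_pointwise_smul y (MulAut.conj g) H hy)
            obtain ⟨z, hz, hzeq⟩ := h3
            have hzeq' : h * u * z * (h * u)⁻¹ = g * y * g⁻¹ := hzeq
            rw [show (h * u)⁻¹ * g * y * ((h * u)⁻¹ * g)⁻¹ = (h * u)⁻¹ * (g * y * g⁻¹) * (h * u) by group, ← hzeq',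
              show (h * u)⁻¹ * (h * u * z * (h * u)⁻¹) * (h * u) = z by group]
            exact hz
          have hX' : h * u ∈ X ⊔ N := (X ⊔ N).mul_mem (Subgroup.mem_sup_left (Subgroup.le_normalizer hh)) (Subgroup.mem_sup_right hu)
          have := (X ⊔ N).mul_mem hX' (Subgroup.mem_sup_left hg')
          rwa [mul_inv_cancel_left] at this
        · refine Subgroup.mem_normalizer_fintype fun y hy => ?_
          obtain ⟨h, hh, u, hu, rfl⟩ := Subgroup.mem_sup_of_normal_right.1 hy
          rw [show g * (h * u) * g⁻¹ = g * h * g⁻¹ * (g * u * g⁻¹) by group]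
          exact (H ⊔ N).mul_mem (Subgroup.mem_sup_left ((Subgroup.mem_normalizer_iff.1 hg h).1 hh))
            (Subgroup.mem_sup_right (hN.1.conj_mem u hu g))
      have hXN : X ⊓ N = N ⊓ Subgroup.centralizer (H : Set G) := by
        refine le_antisymm ?_ ?_
        · rintro x ⟨hxX, hxN⟩
          refine ⟨hxN, Subgroup.mem_centralizer_iff.2 fun h hh => ?_⟩
          have h1 : x * h * x⁻¹ * h⁻¹ ∈ H ⊓ N := ⟨H.mul_mem ((Subgroup.mem_normalizer_iff.1 hxX h).1 hh) (H.inv_mem hh), by
            rw [show x * h * x⁻¹ * h⁻¹ = x * (h * x⁻¹ * h⁻¹) by group]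
            exact N.mul_mem hxN (hN.1.conj_mem _ (N.inv_mem hxN) h)⟩
          rw [hHN, Subgroup.mem_bot, mul_inv_eq_one, mul_inv_eq_iff_eq_mul] at h1
          exact h1.symm
        · rintro x ⟨hxN, hxC⟩
          refine ⟨Subgroup.mem_normalizer_fintype fun h hh => ?_, hxN⟩
          rw [← Subgroup.mem_centralizer_iff.1 hxC h hh, mul_inv_cancel_right]
          exact hh
      have hidx : X.index = (Subgroup.normalizer ((H.map π : Subgroup (G ⧸ N)) : Set (G ⧸ N))).index * (N ⊓ Subgroup.centralizer (H : Set G)).relIndex N := by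
        have h1 : X.index = X.relIndex (X ⊔ N) * (X ⊔ N).index := (Subgroup.relIndex_mul_index le_sup_left).symm
        have h2 : X.relIndex (X ⊔ N) = (X ⊓ N).relIndex N := by
          refine Nat.eq_of_mul_eq_mul_left (show 0 < Nat.card X from Nat.card_pos) ?_
          have e1 : Nat.card X * X.relIndex (X ⊔ N) = Nat.card (X ⊔ N : Subgroup G) := by
            rw [← Subgroup.relIndex_bot_left X, Subgroup.relIndex_mul_relIndex _ _ _ bot_le le_sup_left, Subgroup.relIndex_bot_left]
          have e2 : Nat.card N * N.relIndex X = Nat.card (X ⊔ N : Subgroup G) := by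
            rw [← Subgroup.relIndex_sup_right X N, ← Subgroup.relIndex_bot_left N, Subgroup.relIndex_mul_relIndex _ _ _ bot_le le_sup_right, Subgroup.relIndex_bot_left]
          have e3 : Nat.card (X ⊓ N : Subgroup G) * (X ⊓ N).relIndex N = Nat.card N := by
            rw [← Subgroup.relIndex_bot_left (X ⊓ N), Subgroup.relIndex_mul_relIndex _ _ _ bot_le inf_le_right, Subgroup.relIndex_bot_left]
          have e4 : Nat.card (X ⊓ N : Subgroup G) * N.relIndex X = Nat.card X := by
            rw [← Subgroup.inf_relIndex_right N X, inf_comm N X, ← Subgroup.relIndex_bot_left (X ⊓ N), Subgroup.relIndex_mul_relIndex _ _ _ bot_le inf_le_left, Subgroup.relIndex_bot_left]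
          rw [e1, ← e2, ← e3]
          conv_rhs => rw [← e4]
          ring
        rw [h1, h2, hXN, ← hnorm, Subgroup.index_comap_of_surjective _ hπ, mul_comm]
      obtain ⟨l', hl', hl'f⟩ := factor_list N hq hNq _ H rfl (by rw [hHc]; exact hNcop.symm)
      refine ⟨l ++ l', ?_, fun f hf => ?_⟩
      · rw [hcount, hidx, List.prod_append, ← hl, hcountQ, hl']
      · rcases List.mem_append.1 hf with hf | hf
        · exact hlift m f dvd_rfl (hlg f hf)
        · obtain ⟨⟨e, he⟩, hd, r, hr, hrH, hmod⟩ := hl'f f hf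
          refine ⟨⟨q, e, hq, he⟩, ⟨⊥, N, inferInstance, hN.1, bot_lt_iff_ne_bot.2 hN.2.1,
            fun M hM _ hMN => hN.2.2 M hM hMN, ?_⟩, r, hr, hHc ▸ hrH, hmod⟩
          rw [Subgroup.relIndex_bot_left]; exact hd

/-- Let `G` be a finite solvable group of order `mn` with `gcd(m, n) = 1`. Then the number of subgroups of order `m` is a product of natural numbers each of which is a power of a prime, divides the order of some chief factor of `G` (a quotient `L/K` of normal subgroups `K < L` of `G` with no normal subgroup of `G` strictly between them), and is congruent to `1` modulo some prime divisor of `m`. -/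
theorem result {G : Type*} [Group G] [Finite G] [Group.IsSolvable G] (m n : ℕ) (hG : Nat.card G = m * n) (hmn : Nat.Coprime m n) : ∃ (k : ℕ) (f : Fin k → ℕ), Nat.card {H : Subgroup G // Nat.card H = m} = ∏ i, f i ∧ ∀ i, (∃ q e : ℕ, q.Prime ∧ f i = q ^ e) ∧ (∃ K L : Subgroup G, K.Normal ∧ L.Normal ∧ K < L ∧ (∀ M : Subgroup G, M.Normal → K ≤ M → M ≤ L → M = K ∨ M = L) ∧ f i ∣ K.relIndex L) ∧ (∃ q : ℕ, q.Prime ∧ q ∣ m ∧ f i ≡ 1 [MOD q]) := by
  obtain ⟨l, hl, hlg⟩ := main _ G rfl inferInstance m n hG hmn
  refine ⟨l.length, fun i => l.get i, ?_, fun i => hlg _ (List.get_mem l i)⟩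
  rw [hl, ← List.prod_ofFn, List.ofFn_get]

end Cfsg.Agent.S4214
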