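import Cfsg.Statements.S4216

import Mathlib

set_option autoImplicit false
set_option linter.style.haveILetI false
open Cfsg

namespace Cfsg.Agent.S4216
open scoped commutatorElement
open MulAction in
/-- For a `p`-group acting on a set, the points of a non-trivial orbit lying in the set of points
whose conjugate of `u` is in the stabiliser come in multiples of `p`. -/
theorem dvd_card_fixed_in_orbit {P X : Type*} [Group P] [Finite P] {p : ℕ} [Fact p.Prime]
    (hP : IsPGroup p P) [MulAction P X] (x : X) (hx : ¬ ∀ y : P, y • x = x) (u : P) :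
    p ∣ Nat.card {z : X // z ∈ orbit P x ∧ u • z = z} := by
  classical
  set H := stabilizer P x
  have hHt : H < ⊤ := lt_top_iff_ne_top.2 fun e => hx fun y => by
    have : y ∈ H := e ▸ Subgroup.mem_top y
    exact this
  haveI : Group.IsNilpotent P := hP.isNilpotent
  set M := Subgroup.normalizer (H : Set P)
  have hlt : H < M := Group.normalizerCondition_of_isNilpotent H hHt
  obtain ⟨a, ha⟩ := IsPGroup.iff_card.1 (hP.to_subgroup H)
  obtain ⟨b, hb⟩ := IsPGroup.iff_card.1 (hP.to_subgroup M)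
  have hab : a < b := by
    by_contra hcon
    have : Nat.card M ≤ Nat.card H := by
      rw [ha, hb]; exact Nat.pow_le_pow_right (Fact.out : p.Prime).pos (not_lt.1 hcon)
    exact hlt.ne (Subgroup.eq_of_le_of_card_ge hlt.le this)
  let A : Set P := {y | y⁻¹ * u * y ∈ H}
  have hA : ∀ y, y ∈ A ↔ u • (y • x) = y • x := fun y => by
    show (y⁻¹ * u * y) • x = x ↔ _
    rw [mul_smul, mul_smul, inv_smul_eq_iff]
  let B : Set (P ⧸ H) := {q | u • ofQuotientStabilizer P x q = ofQuotientStabilizer P x q}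
  have e1 : Nat.card A = Nat.card H * Nat.card B := by
    rw [← Nat.card_prod]
    refine Nat.card_congr ((Equiv.setCongr ?_).trans (QuotientGroup.preimageMkEquivSubgroupProdSet H B))
    ext y
    rw [hA]
    rfl
  have e2 : Nat.card B = Nat.card {z : X // z ∈ orbit P x ∧ u • z = z} := by
    refine Nat.card_congr (Equiv.ofBijective
      (fun q => ⟨ofQuotientStabilizer P x q.1, ofQuotientStabilizer_mem_orbit P x q.1, q.2⟩)
      ⟨fun q q' e => Subtype.ext (injective_ofQuotientStabilizer P x (congrArg Subtype.val e)), ?_⟩)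
    rintro ⟨z, ⟨y, rfl⟩, hz⟩
    exact ⟨⟨QuotientGroup.mk y, hz⟩, rfl⟩
  have e3 : Nat.card A = Nat.card M * Nat.card ((QuotientGroup.mk : P → P ⧸ M) '' A) := by
    rw [← Nat.card_prod]
    refine Nat.card_congr ((Equiv.setCongr ?_).trans (QuotientGroup.preimageMkEquivSubgroupProdSet M _))
    ext y
    constructor
    · exact fun hy => ⟨y, hy, rfl⟩
    · rintro ⟨y', hy', he⟩
      have hm : y'⁻¹ * y ∈ M := QuotientGroup.eq.1 he
      have := (Subgroup.mem_normalizer_iff.1 (M.inv_mem hm) (y'⁻¹ * u * y')).1 hy'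
      show y⁻¹ * u * y ∈ H
      convert this using 1
      group
  have h1 : Nat.card M ∣ Nat.card H * Nat.card {z : X // z ∈ orbit P x ∧ u • z = z} := by
    rw [← e2, ← e1, e3]; exact dvd_mul_right _ _
  rw [ha, hb] at h1
  have h2 : p ^ a * p ∣ p ^ b := by rw [← pow_succ]; exact pow_dvd_pow _ hab
  exact Nat.dvd_of_mul_dvd_mul_left (pow_pos (Fact.out : p.Prime).pos a) (h2.trans h1)

variable {G : Type*} [Group G] [Finite G] {p : ℕ} [Fact p.Prime] (P : Sylow p G)

/-- The subgroup of Grün's theorem. -/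
def grun : Subgroup G :=
  ((P : Subgroup G) ⊓ ⁅Subgroup.normalizer ((P : Subgroup G) : Set G), Subgroup.normalizer ((P : Subgroup G) : Set G)⁆) ⊔
    ⨆ z : G, (P : Subgroup G) ⊓ (⁅(P : Subgroup G), (P : Subgroup G)⁆).map (MulAut.conj z).toMonoidHom

theorem grun_le : grun P ≤ (P : Subgroup G) :=
  sup_le inf_le_left (iSup_le fun _ => inf_le_left)

theorem conj_mem_grun {y : G} (hy : y ∈ (P : Subgroup G)) {r : G} (hr : r ∈ grun P) :
    y * r * y⁻¹ ∈ grun P := by
  revert hr r
  suffices h : grun P ≤ (grun P).comap (MulAut.conj y).toMonoidHom from fun {r} hr => h hr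
  have hyN : y ∈ Subgroup.normalizer ((P : Subgroup G) : Set G) := Subgroup.le_normalizer hy
  refine sup_le (fun r hr => ?_) (iSup_le fun z r hr => ?_)
  · refine Subgroup.mem_sup_left ⟨(P : Subgroup G).mul_mem ((P : Subgroup G).mul_mem hy hr.1) ((P : Subgroup G).inv_mem hy), ?_⟩
    exact Subgroup.mul_mem _ (Subgroup.mul_mem _ (Subgroup.commutator_mem_commutator hyN
      ((Subgroup.commutator_le_self _) hr.2)) hr.2) (Subgroup.one_mem _) |> fun h => by
        simpa [commutatorElement_def, mul_assoc] using h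
  · obtain ⟨hrP, w, hw, rfl⟩ := hr
    refine Subgroup.mem_sup_right (Subgroup.mem_iSup_of_mem (y * z)
      ⟨(P : Subgroup G).mul_mem ((P : Subgroup G).mul_mem hy hrP) ((P : Subgroup G).inv_mem hy), w, hw, ?_⟩)
    simp [mul_assoc]

open MulAction in
theorem le_grun : ∀ (n : ℕ) (u : G), orderOf u = n → u ∈ (P : Subgroup G) → u ∈ commutator G → u ∈ grun P := by
  classical
  intro n
  induction n using Nat.strong_induction_on with | _ n ih =>
  intro u hn huP huC
  set N := Subgroup.normalizer ((P : Subgroup G) : Set G)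
  set R' := (grun P).subgroupOf (P : Subgroup G)
  haveI : R'.Normal := ⟨fun r hr y => conj_mem_grun P y.2 hr⟩
  haveI : IsMulCommutative ((P : Subgroup G) ⧸ R') :=
    Subgroup.Normal.quotient_commutative_iff_commutator_le.mpr (by
      intro r hr
      refine Subgroup.mem_sup_right (Subgroup.mem_iSup_of_mem 1 ⟨r.2, (r : G), ?_, by simp⟩)
      rw [← Subgroup.map_subtype_commutator]
      exact ⟨r, hr, rfl⟩)
  open scoped IsMulCommutative in
  let g : G → (P : Subgroup G) ⧸ R' := fun w =>
    if h : w ∈ (P : Subgroup G) then QuotientGroup.mk' R' ⟨w, h⟩ else 1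
  have gval : ∀ w (h : w ∈ (P : Subgroup G)), g w = QuotientGroup.mk' R' ⟨w, h⟩ := fun w h => dif_pos h
  have g1 : ∀ w ∈ grun P, g w = 1 := fun w h => by
    rw [gval w (grun_le P h), QuotientGroup.mk'_apply, QuotientGroup.eq_one_iff]; exact h
  have gmul : ∀ a ∈ (P : Subgroup G), ∀ b ∈ (P : Subgroup G), g (a * b) = g a * g b := fun a ha b hb => by
    rw [gval a ha, gval b hb, gval _ (mul_mem ha hb), ← map_mul]; rfl
  have gpow : ∀ a ∈ (P : Subgroup G), ∀ k : ℕ, g (a ^ k) = g a ^ k := fun a ha k => by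
    rw [gval a ha, gval _ (pow_mem ha k), ← map_pow]; rfl
  have gconj : ∀ a ∈ (P : Subgroup G), ∀ b ∈ (P : Subgroup G), g (b⁻¹ * a * b) = g a := fun a ha b hb => by
    rw [gmul _ (mul_mem (inv_mem hb) ha) _ hb, gmul _ (inv_mem hb) _ ha, mul_comm', ← mul_assoc,
      ← gmul _ hb _ (inv_mem hb), mul_inv_cancel, g1 1 (one_mem _), one_mul]
  -- conjugates of a power of smaller order vanish
  have small : ∀ (l : ℕ) (t : G), p ∣ l → t⁻¹ * u ^ l * t ∈ (P : Subgroup G) → u ≠ 1 →
      g (t⁻¹ * u ^ l * t) = 1 := by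
    intro l t hl hmem hu1
    refine g1 _ (ih _ ?_ _ rfl hmem ?_)
    · have e : orderOf (t⁻¹ * u ^ l * t) = orderOf (u ^ l) := by
        simpa using MulEquiv.orderOf_eq (MulAut.conj t⁻¹) (u ^ l)
      rw [e, orderOf_pow, ← hn]
      refine Nat.div_lt_self (orderOf_pos u) ?_
      obtain ⟨k, hk⟩ := IsPGroup.iff_orderOf.1 P.2 ⟨u, huP⟩
      rw [Subgroup.orderOf_mk] at hk
      have hk0 : k ≠ 0 := by rintro rfl; exact hu1 (orderOf_eq_one_iff.1 (by simpa using hk))
      have hg : p ∣ (orderOf u).gcd l := Nat.dvd_gcd (hk ▸ dvd_pow_self p hk0) hl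
      exact lt_of_lt_of_le (Fact.out : p.Prime).one_lt (Nat.le_of_dvd (Nat.gcd_pos_of_pos_left _ (orderOf_pos u)) hg)
    · simpa using (inferInstance : (commutator G).Normal).conj_mem _ (pow_mem huC l) t⁻¹
  rcases eq_or_ne u 1 with rfl | hu1
  · exact one_mem _
  open scoped IsMulCommutative in
  have hV : MonoidHom.transfer (QuotientGroup.mk' R') u = 1 := by
    have : commutator G ≤ (MonoidHom.transfer (QuotientGroup.mk' R')).ker := Abelianization.commutator_subset_ker _
    exact this huC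
  haveI : Fintype (G ⧸ (P : Subgroup G)) := Fintype.ofFinite _
  rw [MonoidHom.transfer_eq_prod_quotient_orbitRel_zpowers_quot] at hV
  -- the value at a fixed point
  let gx : G ⧸ (P : Subgroup G) → (P : Subgroup G) ⧸ R' := fun x => g (x.out⁻¹ * u * x.out)
  have fixed_iff : ∀ t : G, u • (t : G ⧸ (P : Subgroup G)) = t ↔ t⁻¹ * u * t ∈ (P : Subgroup G) := fun t => by
    rw [eq_comm, show u • (t : G ⧸ (P : Subgroup G)) = ((u * t : G) : G ⧸ (P : Subgroup G)) from rfl,
      QuotientGroup.eq, mul_assoc]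
  have gx_mk : ∀ t : G, u • (t : G ⧸ (P : Subgroup G)) = t → gx t = g (t⁻¹ * u * t) := by
    intro t ht
    obtain ⟨b, hb⟩ := QuotientGroup.mk_out_eq_mul (P : Subgroup G) t
    show g ((t : G ⧸ (P : Subgroup G)).out⁻¹ * u * (t : G ⧸ (P : Subgroup G)).out) = _
    rw [hb, show (t * (b : G))⁻¹ * u * (t * b) = (b : G)⁻¹ * (t⁻¹ * u * t) * b by group,
      gconj _ ((fixed_iff t).1 ht) _ b.2]
  have gxp : ∀ x : G ⧸ (P : Subgroup G), u • x = x → gx x ^ p = 1 := by
    intro x hx
    obtain ⟨t, rfl⟩ := QuotientGroup.mk_surjective x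
    rw [gx_mk t hx, ← gpow _ ((fixed_iff t).1 hx)]
    have e : (t⁻¹ * u * t) ^ p = t⁻¹ * u ^ p * t := by simpa using conj_pow (a := t⁻¹) (b := u) (i := p)
    rw [e]
    exact small p t dvd_rfl (e ▸ pow_mem ((fixed_iff t).1 hx) p) hu1
  set F : Finset (G ⧸ (P : Subgroup G)) := Finset.univ.filter fun x => u • x = x with hF
  open scoped IsMulCommutative in
  have hVF : ∏ x ∈ F, gx x = 1 := by
    rw [← hV]
    symm
    refine (Finset.prod_subset (Finset.filter_subset (fun q => u • q.out = q.out) _) ?_).symm.trans ?_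
    · intro q _ hq
      rw [Finset.mem_filter] at hq
      have hq : u • q.out ≠ q.out := fun h => hq ⟨Finset.mem_univ _, h⟩
      rw [← gval]
      refine small _ _ ?_ ?_ hu1
      · have hd : Function.minimalPeriod (u • ·) q.out ∣ orderOf u := by
          refine Function.IsPeriodicPt.minimalPeriod_dvd ?_
          show (u • ·)^[orderOf u] q.out = q.out
          rw [smul_iterate, pow_orderOf_eq_one]; exact one_smul _ _
        obtain ⟨k, hk⟩ := IsPGroup.iff_orderOf.1 P.2 ⟨u, huP⟩
        rw [Subgroup.orderOf_mk] at hk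
        rw [hk] at hd
        obtain ⟨j, _, hj⟩ := (Nat.dvd_prime_pow Fact.out).1 hd
        rw [hj]
        refine dvd_pow_self p fun hj0 => hq ?_
        exact Function.minimalPeriod_eq_one_iff_isFixedPt.1 (by rw [hj, hj0, pow_zero])
      · exact QuotientGroup.out_conj_pow_minimalPeriod_mem _ u q.out
    · refine Finset.prod_bij (fun q _ => q.out) (fun q hq => ?_) (fun q _ q' _ e => Quotient.out_inj.1 e) (fun x hx => ?_) (fun q hq => ?_)
      · simpa [hF] using hq
      · have hx : u • x = x := by simpa [hF] using hx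
        have : (Quotient.mk (orbitRel (Subgroup.zpowers u) (G ⧸ (P : Subgroup G))) x).out = x := by
          obtain ⟨⟨w, hw⟩, hwx⟩ := Quotient.exact (Quotient.out_eq (Quotient.mk (orbitRel (Subgroup.zpowers u) (G ⧸ (P : Subgroup G))) x))
          rw [← hwx]
          obtain ⟨i, rfl⟩ := hw
          exact (stabilizer G x).zpow_mem hx i
        exact ⟨Quotient.mk _ x, by simp [this, hx], this⟩
      · have h1 : u • q.out = q.out := (Finset.mem_filter.1 hq).2
        rw [← gval]
        show _ = g (q.out.out⁻¹ * u * q.out.out)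
        rw [show Function.minimalPeriod (u • ·) q.out = 1 from Function.minimalPeriod_eq_one_iff_isFixedPt.2 h1, pow_one]
  -- the points fixed by all of `P`
  set Z : Finset (G ⧸ (P : Subgroup G)) := F.filter fun x => ∀ y : (P : Subgroup G), y • x = x with hZ
  have gxZ : ∀ x ∈ Z, gx x = g u := by
    intro x hx
    obtain ⟨t, rfl⟩ := QuotientGroup.mk_surjective x
    have hxu := (Finset.mem_filter.1 (Finset.mem_filter.1 hx).1).2
    have hall := (Finset.mem_filter.1 hx).2
    have htN : t ∈ N := by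
      have htf : (t : G ⧸ (P : Subgroup G)) ∈ fixedPoints (P : Subgroup G) (G ⧸ (P : Subgroup G)) := hall
      exact Sylow.mem_fixedPoints_mul_left_cosets_iff_mem_normalizer.1 htf
    rw [gx_mk t hxu, show t⁻¹ * u * t = u * ⁅u⁻¹, t⁻¹⁆ by simp [commutatorElement_def, mul_assoc]]
    have hc : ⁅u⁻¹, t⁻¹⁆ ∈ (P : Subgroup G) := by
      have := mul_mem (inv_mem huP) ((fixed_iff t).1 hxu)
      simpa [commutatorElement_def, mul_assoc] using this
    rw [gmul _ huP _ hc, g1 ⁅u⁻¹, t⁻¹⁆ (Subgroup.mem_sup_left ⟨hc,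
      Subgroup.commutator_mem_commutator (inv_mem (Subgroup.le_normalizer huP)) (inv_mem htN)⟩), mul_one]
  open scoped IsMulCommutative in
  have hrest : ∏ x ∈ F.filter (fun x => ¬ ∀ y : (P : Subgroup G), y • x = x), gx x = 1 := by
    rw [← Finset.prod_fiberwise_of_maps_to (g := fun x => Quotient.mk (orbitRel (P : Subgroup G) (G ⧸ (P : Subgroup G))) x)
      (t := (F.filter (fun x => ¬ ∀ y : (P : Subgroup G), y • x = x)).image _) (fun x hx => Finset.mem_image_of_mem _ hx)]
    refine Finset.prod_eq_one fun c hc => ?_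
    obtain ⟨x, hx, rfl⟩ := Finset.mem_image.1 hc
    rw [Finset.mem_filter] at hx
    have hxu : u • x = x := (Finset.mem_filter.1 hx.1).2
    obtain ⟨t, rfl⟩ := QuotientGroup.mk_surjective x
    rw [Finset.prod_eq_pow_card (b := gx t)]
    · obtain ⟨k, hk⟩ := dvd_card_fixed_in_orbit P.2 (t : G ⧸ (P : Subgroup G)) hx.2 ⟨u, huP⟩
      refine (congrArg (gx t ^ ·) (?_ : _ = p * k)).trans (by rw [pow_mul, gxp _ hxu, one_pow])
      rw [← hk, Nat.card_eq_fintype_card, ← Fintype.card_coe]
      refine Fintype.card_congr (Equiv.subtypeEquivRight fun z => ?_)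
      simp only [Finset.mem_filter, hF, Finset.mem_univ, true_and]
      constructor
      · rintro ⟨⟨h1, -⟩, h2⟩
        exact ⟨Quotient.exact h2, h1⟩
      · rintro ⟨h1, h2⟩
        refine ⟨⟨h2, fun hall => hx.2 ?_⟩, Quotient.sound h1⟩
        obtain ⟨w, hw⟩ := h1
        have : (t : G ⧸ (P : Subgroup G)) = z := by rw [← hall w⁻¹, ← hw, inv_smul_smul]
        rw [this]; exact hall
    · intro z hz
      simp only [Finset.mem_filter, hF, Finset.mem_univ, true_and] at hz
      obtain ⟨⟨hzu, -⟩, hzt⟩ := hz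
      obtain ⟨⟨y, hy⟩, hyt⟩ := Quotient.exact hzt
      change y • (t : G ⧸ (P : Subgroup G)) = z at hyt
      change ((y * t : G) : G ⧸ (P : Subgroup G)) = z at hyt
      subst hyt
      rw [gx_mk _ hzu, gx_mk _ hxu]
      have hm := mul_mem (inv_mem ((fixed_iff t).1 hxu)) ((fixed_iff (y * t)).1 hzu)
      rw [show (y * t)⁻¹ * u * (y * t) = (t⁻¹ * u * t) * ((t⁻¹ * u * t)⁻¹ * ((y * t)⁻¹ * u * (y * t))) by group,
        gmul _ ((fixed_iff t).1 hxu) _ hm, g1 ((t⁻¹ * u * t)⁻¹ * ((y * t)⁻¹ * u * (y * t))) ?_, mul_one]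
      refine Subgroup.mem_sup_right (Subgroup.mem_iSup_of_mem t⁻¹ ⟨hm, ⁅u⁻¹, y⁻¹⁆,
        Subgroup.commutator_mem_commutator (inv_mem huP) (inv_mem hy), ?_⟩)
      simp [commutatorElement_def, mul_assoc]
  open scoped IsMulCommutative in
  have hgu : g u ^ Z.card = 1 := by
    rw [← Finset.prod_eq_pow_card gxZ]
    have := Finset.prod_filter_mul_prod_filter_not F (fun x => ∀ y : (P : Subgroup G), y • x = x) gx
    rwa [hrest, mul_one, hVF] at this
  have hZp : ¬ p ∣ Z.card := by
    have h1 : Z.card = Nat.card (fixedPoints (P : Subgroup G) (G ⧸ (P : Subgroup G))) := by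
      rw [Nat.card_eq_fintype_card, ← Fintype.card_coe]
      refine Fintype.card_congr (Equiv.subtypeEquivRight fun z => ?_)
      simp only [hZ, hF, Finset.mem_filter, Finset.mem_univ, true_and]
      exact ⟨fun h => h.2, fun h => ⟨h ⟨u, huP⟩, h⟩⟩
    intro hd
    refine P.not_dvd_index ?_
    have h2 := P.2.card_modEq_card_fixedPoints (G ⧸ (P : Subgroup G))
    rw [Subgroup.index_eq_card]
    rw [h1] at hd
    exact (Nat.ModEq.dvd_iff h2 dvd_rfl).2 hd
  have hu' : g u = 1 := by
    have hgup : g u ^ p = 1 := by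
      rw [← gpow _ huP]
      have := small p 1 dvd_rfl (by simpa using pow_mem huP p) hu1
      simpa using this
    have := pow_gcd_eq_one.2 ⟨hgup, hgu⟩
    rwa [((Nat.Prime.coprime_iff_not_dvd Fact.out).2 hZp).gcd_eq_one, pow_one] at this
  rw [gval u huP, QuotientGroup.mk'_apply, QuotientGroup.eq_one_iff] at hu'
  exact hu'

/-- Grün's first Theorem: if `P` is a Sylow `p`-subgroup of the finite group `G`, then `P ∩ G'` is the subgroup generated by `P ∩ N_G(P)'` together with the subgroups `P ∩ z P' z⁻¹` for all `z ∈ G`, where `'` denotes the derived subgroup and `N_G(P)` the normalizer of `P`. -/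
theorem result {G : Type*} [Group G] [Finite G] {p : ℕ} [Fact p.Prime] (P : Sylow p G) : (P : Subgroup G) ⊓ commutator G = ((P : Subgroup G) ⊓ ⁅Subgroup.normalizer ((P : Subgroup G) : Set G), Subgroup.normalizer ((P : Subgroup G) : Set G)⁆) ⊔ ⨆ z : G, (P : Subgroup G) ⊓ (⁅(P : Subgroup G), (P : Subgroup G)⁆).map (MulAut.conj z).toMonoidHom := by
  refine le_antisymm (fun u hu => le_grun P _ u rfl hu.1 hu.2) (sup_le ?_ (iSup_le fun z => ?_))
  · exact inf_le_inf_left _ (Subgroup.commutator_mono le_top le_top)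
  · refine inf_le_inf_left _ ?_
    rw [Subgroup.map_commutator]
    exact Subgroup.commutator_mono le_top le_top

end Cfsg.Agent.S4216
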