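import Cfsg.Statements.S4217

import Mathlib

set_option autoImplicit false
set_option linter.style.haveILetI false
open Cfsg

namespace Cfsg.Agent.S4217

/-- A crossed homomorphism into an abelian normal subgroup, restricting to a power map. -/
theorem exists_crossed {G : Type*} [Group G] [Finite G] (A H K : Subgroup G) [A.Normal] (hA : IsMulCommutative A)
    (hKH : K ≤ H) (hAH : A ≤ H) (hdec : ∀ h ∈ H, ∃ a ∈ A, ∃ k ∈ K, h = a * k) (hdis : K ⊓ A = ⊥) :
    ∃ d : G → G, (∀ g, d g ∈ A) ∧ (∀ g h, d (g * h) = d g * (g * d h * g⁻¹)) ∧ (∀ a ∈ A, d a = a ^ H.index) := by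
  classical
  haveI := hA
  letI : CommGroup A := { mul_comm := mul_comm' }
  haveI : Fintype (G ⧸ H) := Fintype.ofFinite _
  have hex : ∀ w : G, ∃ a : A, w ∈ H → ∃ k ∈ K, w = a * k := fun w => by
    by_cases hw : w ∈ H
    · obtain ⟨a, ha, k, hk, e⟩ := hdec w hw
      exact ⟨⟨a, ha⟩, fun _ => ⟨k, hk, e⟩⟩
    · exact ⟨1, fun h => absurd h hw⟩
  choose π hπ using hex
  have huniq : ∀ (a b : A) (k l : G), k ∈ K → l ∈ K → (a : G) * k = b * l → a = b := by
    intro a b k l hk hl e
    have h1 : (b : G)⁻¹ * a = l * k⁻¹ := by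
      rw [eq_mul_inv_iff_mul_eq, mul_assoc, e, inv_mul_cancel_left]
    have h2 : (b : G)⁻¹ * a ∈ K ⊓ A := ⟨h1 ▸ K.mul_mem hl (K.inv_mem hk), A.mul_mem (A.inv_mem b.2) a.2⟩
    rw [hdis, Subgroup.mem_bot, inv_mul_eq_one] at h2
    exact Subtype.ext h2.symm
  let cj : G → A →* A := fun g =>
    { toFun := fun a => ⟨g * a * g⁻¹, Subgroup.Normal.conj_mem inferInstance _ a.2 g⟩
      map_one' := Subtype.ext (by simp)
      map_mul' := fun a b => Subtype.ext (by simp [mul_assoc]) }
  have hπmul : ∀ u ∈ H, ∀ v ∈ H, π (u * v) = π u * cj u (π v) := by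
    intro u hu v hv
    obtain ⟨k, hk, hku⟩ := hπ u hu
    obtain ⟨l, hl, hlv⟩ := hπ v hv
    obtain ⟨m, hm, hmuv⟩ := hπ (u * v) (H.mul_mem hu hv)
    refine huniq _ _ m (k * l) hm (K.mul_mem hk hl) ?_
    rw [← hmuv]
    show u * v = ((π u : G) * (u * (π v : G) * u⁻¹)) * (k * l)
    have hcomm : (π u : G) * (u * (π v : G) * u⁻¹) = (u * (π v : G) * u⁻¹) * (π u : G) :=
      congrArg Subtype.val (mul_comm (π u) (cj u (π v)))
    rw [hcomm]
    conv_lhs => rw [hlv]
    calc u * ((π v : G) * l) = u * (π v : G) * u⁻¹ * (u * l) := by group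
      _ = u * (π v : G) * u⁻¹ * ((π u : G) * k * l) := by rw [← hku]
      _ = _ := by group
  let u : G → (G ⧸ H) → G := fun g x => (g • x).out⁻¹ * g * x.out
  have hu : ∀ g x, u g x ∈ H := by
    intro g x
    show (g • x).out⁻¹ * g * x.out ∈ H
    rw [mul_assoc, ← QuotientGroup.eq, QuotientGroup.out_eq']
    conv_lhs => rw [← QuotientGroup.out_eq' x]
    rfl
  refine ⟨fun g => ((∏ x : G ⧸ H, cj (g • x).out (π (u g x)) : A) : G), fun g => SetLike.coe_mem _, fun g h => ?_, fun a ha => ?_⟩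
  · show _ = ((∏ x : G ⧸ H, cj (g • x).out (π (u g x)) : A) : G) * (((cj g) ((∏ x : G ⧸ H, cj (h • x).out (π (u h x))) : A) : A) : G)
    rw [← Subgroup.coe_mul, map_prod]
    dsimp only
    congr 1
    rw [← Equiv.prod_comp (MulAction.toPerm h) (fun x => cj (g • x).out (π (u g x))), ← Finset.prod_mul_distrib]
    refine Finset.prod_congr rfl fun x _ => ?_
    show cj ((g * h) • x).out (π (u (g * h) x)) = cj (g • h • x).out (π (u g (h • x))) * cj g (cj (h • x).out (π (u h x)))
    have e : u (g * h) x = u g (h • x) * u h x := by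
      show ((g * h) • x).out⁻¹ * (g * h) * x.out = ((g • h • x).out⁻¹ * g * (h • x).out) * ((h • x).out⁻¹ * h * x.out)
      rw [mul_smul]; group
    rw [e, hπmul _ (hu _ _) _ (hu _ _), map_mul, mul_smul]
    congr 1
    refine Subtype.ext ?_
    show (g • h • x).out * (u g (h • x) * (π (u h x) : G) * (u g (h • x))⁻¹) * (g • h • x).out⁻¹ =
      g * ((h • x).out * (π (u h x) : G) * (h • x).out⁻¹) * g⁻¹
    show (g • h • x).out * (((g • h • x).out⁻¹ * g * (h • x).out) * (π (u h x) : G) * ((g • h • x).out⁻¹ * g * (h • x).out)⁻¹) * (g • h • x).out⁻¹ = _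
    group
  · have key : ∀ x : G ⧸ H, cj (a • x).out (π (u a x)) = ⟨a, ha⟩ := by
      intro x
      have hx : a • x = x := by
        conv_lhs => rw [← QuotientGroup.out_eq' x]
        conv_rhs => rw [← QuotientGroup.out_eq' x]
        show ((a * x.out : G) : G ⧸ H) = _
        rw [QuotientGroup.eq, mul_inv_rev, mul_assoc]
        exact hAH (by simpa [mul_assoc] using (inferInstance : A.Normal).conj_mem _ (A.inv_mem ha) x.out⁻¹)
      have hmem : x.out⁻¹ * a * x.out ∈ A := by simpa using (inferInstance : A.Normal).conj_mem _ ha x.out⁻¹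
      have hua : u a x = x.out⁻¹ * a * x.out := by show (a • x).out⁻¹ * a * x.out = _; rw [hx]
      rw [hua, hx]
      obtain ⟨k, hk, hke⟩ := hπ _ (hAH hmem)
      have h3 : π (x.out⁻¹ * a * x.out) = ⟨_, hmem⟩ := huniq _ _ k 1 hk K.one_mem (by rw [← hke, mul_one])
      rw [h3]
      refine Subtype.ext ?_
      show x.out * (x.out⁻¹ * a * x.out) * x.out⁻¹ = a
      group
    show ((∏ x : G ⧸ H, cj (a • x).out (π (u a x)) : A) : G) = a ^ H.index
    rw [Finset.prod_congr rfl fun x _ => key x, Finset.prod_const, Finset.card_univ, ← Nat.card_eq_fintype_card,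
      ← Subgroup.index_eq_card]
    rfl

/-- Let `A` be an abelian normal subgroup of the finite group `G`. Then `A` has a complement in `G` if and only if, for every prime `p` dividing the index of `A`, there are a Sylow `p`-subgroup `S` of `G/A` and a subgroup `K` of `G` with `K ∩ A = 1` and `KA` equal to the preimage of `S` (that is, `A` has a complement in the preimage of a Sylow `p`-subgroup of `G/A`). -/
theorem result {G : Type*} [Group G] [Finite G] (A : Subgroup G) [A.Normal] (hA : IsMulCommutative A) : (∃ K : Subgroup G, K.IsComplement' A) ↔ ∀ p : ℕ, p.Prime → p ∣ A.index → ∃ (S : Sylow p (G ⧸ A)) (K : Subgroup G), K ⊓ A = ⊥ ∧ K ⊔ A = (S : Subgroup (G ⧸ A)).comap (QuotientGroup.mk' A) := by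
  classical
  constructor
  · rintro ⟨K, hK⟩ p hp -
    haveI : Fact p.Prime := ⟨hp⟩
    obtain ⟨S⟩ : Nonempty (Sylow p (G ⧸ A)) := inferInstance
    refine ⟨S, K ⊓ (S : Subgroup (G ⧸ A)).comap (QuotientGroup.mk' A), ?_, ?_⟩
    · rw [eq_bot_iff, ← hK.disjoint.eq_bot]; exact inf_le_inf_right _ inf_le_left
    · refine le_antisymm (sup_le inf_le_right fun a ha => ?_) fun h hh => ?_
      · show QuotientGroup.mk' A a ∈ S
        rw [show QuotientGroup.mk' A a = 1 from (QuotientGroup.eq_one_iff a).2 ha]; exact one_mem _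
      · obtain ⟨k, hk, a, ha, rfl⟩ := Subgroup.mem_sup_of_normal_right.1 (show h ∈ K ⊔ A by rw [hK.sup_eq_top]; trivial)
        refine Subgroup.mul_mem_sup ⟨hk, ?_⟩ ha
        have := hh
        rw [Subgroup.mem_comap, map_mul, show QuotientGroup.mk' A a = 1 from (QuotientGroup.eq_one_iff a).2 ha, mul_one] at this
        exact this
  · intro h
    haveI := hA
    letI : CommGroup A := { mul_comm := mul_comm' }
    let I : Set ℤ := {m | ∃ d : G → G, (∀ g, d g ∈ A) ∧ (∀ g h, d (g * h) = d g * (g * d h * g⁻¹)) ∧ (∀ a ∈ A, d a = a ^ m)}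
    have hAc : ∀ a ∈ A, ∀ b ∈ A, a * b = b * a := fun a ha b hb => congrArg Subtype.val (mul_comm (⟨a, ha⟩ : A) ⟨b, hb⟩)
    have hcomb : ∀ m ∈ I, ∀ n ∈ I, ∀ x y : ℤ, x * m + y * n ∈ I := by
      rintro m ⟨d, hd1, hd2, hd3⟩ n ⟨e, he1, he2, he3⟩ x y
      refine ⟨fun g => d g ^ x * e g ^ y, fun g => A.mul_mem (A.zpow_mem (hd1 g) x) (A.zpow_mem (he1 g) y), fun g h => ?_, fun a ha => ?_⟩
      · have hc1 : g * d h * g⁻¹ ∈ A := Subgroup.Normal.conj_mem inferInstance _ (hd1 h) g
        have hc2 : g * e h * g⁻¹ ∈ A := Subgroup.Normal.conj_mem inferInstance _ (he1 h) g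
        have k1 : (d g * (g * d h * g⁻¹)) ^ x = d g ^ x * (g * d h * g⁻¹) ^ x :=
          Commute.mul_zpow (hAc _ (hd1 g) _ hc1) x
        have k2 : (e g * (g * e h * g⁻¹)) ^ y = e g ^ y * (g * e h * g⁻¹) ^ y :=
          Commute.mul_zpow (hAc _ (he1 g) _ hc2) y
        show d (g * h) ^ x * e (g * h) ^ y = d g ^ x * e g ^ y * (g * (d h ^ x * e h ^ y) * g⁻¹)
        rw [hd2, he2, k1, k2, conj_zpow, conj_zpow]
        have k3 := hAc (g * d h ^ x * g⁻¹) (Subgroup.Normal.conj_mem inferInstance _ (A.zpow_mem (hd1 h) x) g) (e g ^ y) (A.zpow_mem (he1 g) y)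
        rw [mul_assoc (d g ^ x), ← mul_assoc (g * d h ^ x * g⁻¹) (e g ^ y), k3]
        group
      · show d a ^ x * e a ^ y = a ^ (x * m + y * n)
        rw [hd3 a ha, he3 a ha, zpow_add, ← zpow_mul, ← zpow_mul, mul_comm m, mul_comm n]
    have hone : ∀ S : Finset ℕ, ((S.gcd id : ℕ) : ℤ) ∈ I ∨ ∃ s ∈ S, (s : ℤ) ∉ I := by
      intro S
      induction S using Finset.induction with
      | empty =>
        refine Or.inl ⟨fun _ => 1, fun _ => A.one_mem, fun g h => by simp, fun a ha => by simp⟩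
      | @insert s S hs ih =>
        by_cases hsI : (s : ℤ) ∈ I
        · rcases ih with h1 | ⟨t, ht, htI⟩
          · refine Or.inl ?_
            rw [Finset.gcd_insert, show GCDMonoid.gcd (id s) (S.gcd id) = Nat.gcd s (S.gcd id) from rfl, Nat.gcd_eq_gcd_ab,
              mul_comm (s : ℤ), mul_comm ((S.gcd id : ℕ) : ℤ)]
            exact hcomb _ hsI _ h1 _ _
          · exact Or.inr ⟨t, Finset.mem_insert_of_mem ht, htI⟩
        · exact Or.inr ⟨s, Finset.mem_insert_self _ _, hsI⟩
    -- for each prime dividing the index an element of `I` prime to it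
    have hloc : ∀ p ∈ A.index.primeFactors, ∃ m : ℕ, (m : ℤ) ∈ I ∧ ¬ p ∣ m := by
      intro p hp
      haveI : Fact p.Prime := ⟨(Nat.mem_primeFactors.1 hp).1⟩
      obtain ⟨S, K, hK1, hK2⟩ := h p (Nat.mem_primeFactors.1 hp).1 (Nat.mem_primeFactors.1 hp).2.1
      set H := (S : Subgroup (G ⧸ A)).comap (QuotientGroup.mk' A)
      obtain ⟨d, hd1, hd2, hd3⟩ := exists_crossed A H K hA (hK2 ▸ le_sup_left) (hK2 ▸ le_sup_right)
        (fun x hx => by
          rw [← hK2, sup_comm] at hx
          obtain ⟨a, ha, k, hk, rfl⟩ := Subgroup.mem_sup_of_normal_left.1 hx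
          exact ⟨a, ha, k, hk, rfl⟩) hK1
      refine ⟨H.index, ⟨d, hd1, hd2, fun a ha => by rw [hd3 a ha, zpow_natCast]⟩, ?_⟩
      rw [Subgroup.index_comap_of_surjective _ (QuotientGroup.mk'_surjective A)]
      exact S.not_dvd_index
    choose! f hf hfp using hloc
    -- the index itself lies in `I`
    have hidx : ((A.index : ℕ) : ℤ) ∈ I := by
      obtain ⟨d, hd1, hd2, hd3⟩ := exists_crossed A A ⊥ hA bot_le le_rfl
        (fun x hx => ⟨x, hx, 1, one_mem _, by rw [mul_one]⟩) (bot_inf_eq _)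
      exact ⟨d, hd1, hd2, fun a ha => by rw [hd3 a ha, zpow_natCast]⟩
    set S := insert A.index (A.index.primeFactors.image f)
    have hS1 : S.gcd id = 1 := by
      by_contra hne
      obtain ⟨p, hp, hpd⟩ := Nat.exists_prime_and_dvd hne
      have hpi : p ∣ A.index := hpd.trans (Finset.gcd_dvd (f := id) (Finset.mem_insert_self _ _))
      have hmem : p ∈ A.index.primeFactors := Nat.mem_primeFactors.2 ⟨hp, hpi, Subgroup.index_ne_zero_of_finite⟩
      exact hfp p hmem (hpd.trans (Finset.gcd_dvd (f := id) (Finset.mem_insert_of_mem (Finset.mem_image_of_mem f hmem))))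
    obtain ⟨d, hd1, hd2, hd3⟩ : (1 : ℤ) ∈ I := by
      rcases hone S with h1 | ⟨s, hs, hsI⟩
      · rw [hS1] at h1; exact_mod_cast h1
      · rcases Finset.mem_insert.1 hs with rfl | hs
        · exact absurd hidx hsI
        · obtain ⟨p, hp, rfl⟩ := Finset.mem_image.1 hs
          exact absurd (hf p hp) hsI
    let K : Subgroup G :=
      { carrier := {g | d g = 1}
        one_mem' := by
          show d 1 = 1
          rw [hd3 1 A.one_mem, one_zpow]
        mul_mem' := fun {a b} ha hb => by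
          show d (a * b) = 1
          rw [hd2, show d a = 1 from ha, show d b = 1 from hb]; simp
        inv_mem' := fun {a} ha => by
          show d a⁻¹ = 1
          have := hd2 a⁻¹ a
          rw [inv_mul_cancel, show d a = 1 from ha, hd3 1 A.one_mem, one_zpow, mul_one, mul_inv_cancel, mul_one] at this
          exact this.symm }
    refine ⟨K, Subgroup.isComplement'_of_disjoint_and_mul_eq_univ ?_ ?_⟩
    · rw [Subgroup.disjoint_def]
      intro x hx hxA
      have := hd3 x hxA
      rw [show d x = 1 from hx, zpow_one] at this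
      exact this.symm
    · refine Set.eq_univ_of_forall fun g => ?_
      have h1 : (d g)⁻¹ * g ∈ K := by
        show d ((d g)⁻¹ * g) = 1
        rw [hd2, hd3 _ (A.inv_mem (hd1 g)), zpow_one, inv_inv]; group
      have h2 : ((d g)⁻¹ * g)⁻¹ * d g * ((d g)⁻¹ * g) ∈ A := by
        simpa using (inferInstance : A.Normal).conj_mem _ (hd1 g) ((d g)⁻¹ * g)⁻¹
      exact ⟨_, h1, _, h2, by group⟩

end Cfsg.Agent.S4217
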