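import Cfsg.Statements.S4218

import Cfsg.Agent.Perm.HallHigman
import Cfsg.Agent.Solv.FittingBasic

set_option autoImplicit false
set_option linter.style.haveILetI false
open Cfsg

namespace Cfsg.Agent.S4218

open scoped commutatorElement

theorem frattini_equiv {A B : Type*} [Group A] [Group B] (e : A ≃* B) : (frattini B).comap e.toMonoidHom = frattini A := by
  refine le_antisymm ?_ (frattini_le_comap_frattini_of_surjective e.surjective)
  intro x hx
  have := frattini_le_comap_frattini_of_surjective (φ := e.symm.toMonoidHom) e.symm.surjective hx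
  rw [Subgroup.mem_comap] at this
  simpa using this

/-- Let `G` be a finite `p`-solvable group, `N₀ = O_{p'}(G)`, `P₁ = O_{p',p}(G)`, and let `F ≤ P₁` be the preimage of the Frattini subgroup of `P₁/N₀`. Then an element `g` of `G` induces the identity on `P₁/F` by conjugation (that is, `g x g⁻¹ x⁻¹ ∈ F` for all `x ∈ P₁`) if and only if `g ∈ P₁`: the group `G/P₁` acts faithfully on `P₁/F`. -/
theorem result {G : Type*} [Group G] [Finite G] {p : ℕ} [Fact p.Prime] (hG : Cfsg.IsPSolvable p G) (g : G) : (∀ x ∈ Cfsg.pPrimePCore p G, g * x * g⁻¹ * x⁻¹ ∈ ((frattini (↥(Cfsg.pPrimePCore p G) ⧸ (Cfsg.pPrimeCore p G).subgroupOf (Cfsg.pPrimePCore p G))).comap (QuotientGroup.mk' ((Cfsg.pPrimeCore p G).subgroupOf (Cfsg.pPrimePCore p G)))).map (Cfsg.pPrimePCore p G).subtype) ↔ g ∈ Cfsg.pPrimePCore p G := by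
  classical
  set N := Cfsg.pPrimeCore p G with hN
  haveI hNn : N.Normal := CfsgLib.Fus.normal_pPrimeCore p
  set π := QuotientGroup.mk' N
  set P₁ := Cfsg.pPrimePCore p G
  set P := Cfsg.pCore p (G ⧸ N) with hP
  haveI hPn : P.Normal := CfsgLib.Solv.pCore_normal _ p
  have hP1 : P₁ = P.comap π := rfl
  haveI : P₁.Normal := hP1 ▸ hPn.comap π
  let f : P₁ →* P := (π.comp P₁.subtype).codRestrict P fun x => x.2
  have hf : Function.Surjective f := by
    rintro ⟨y, hy⟩
    obtain ⟨x, rfl⟩ := QuotientGroup.mk'_surjective N y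
    exact ⟨⟨x, hy⟩, rfl⟩
  have hker : f.ker = N.subgroupOf P₁ := by
    ext x
    rw [MonoidHom.mem_ker, Subgroup.mem_subgroupOf, ← QuotientGroup.eq_one_iff]
    exact ⟨fun h => congrArg Subtype.val h, fun h => Subtype.ext h⟩
  let e : P₁ ⧸ N.subgroupOf P₁ ≃* P :=
    (QuotientGroup.quotientMulEquivOfEq hker.symm).trans (QuotientGroup.quotientKerEquivOfSurjective f hf)
  have hiff : ∀ x : G, x ∈ P₁ → ∀ g : G, (g * x * g⁻¹ * x⁻¹ ∈
      ((frattini (↥P₁ ⧸ N.subgroupOf P₁)).comap (QuotientGroup.mk' (N.subgroupOf P₁))).map P₁.subtype ↔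
      ⁅π g, π x⁆ ∈ (frattini ↥P).map P.subtype) := by
    intro x hx g
    have hc : g * x * g⁻¹ * x⁻¹ ∈ P₁ := P₁.mul_mem ((inferInstance : P₁.Normal).conj_mem x hx g) (P₁.inv_mem hx)
    have e1 : ⁅π g, π x⁆ = P.subtype (f ⟨_, hc⟩) := by
      rw [commutatorElement_def]
      show _ = π (g * x * g⁻¹ * x⁻¹)
      rw [map_mul, map_mul, map_mul, map_inv, map_inv]
    rw [e1]
    show P₁.subtype ⟨_, hc⟩ ∈ _ ↔ _
    rw [Subgroup.mem_map_iff_mem P₁.subtype_injective,
      Subgroup.mem_map_iff_mem P.subtype_injective, Subgroup.mem_comap, ← frattini_equiv e, Subgroup.mem_comap]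
    rfl
  constructor
  · intro h
    show π g ∈ P
    refine CfsgLib.Perm.mem_pCore_of_trivial_on_frattini (CfsgLib.Perm.isPSolvable_quotient hG N)
      (CfsgLib.Fus.pPrimeCore_quotient_eq_bot p) fun y hy => ?_
    obtain ⟨x, rfl⟩ := QuotientGroup.mk'_surjective N y
    exact (hiff x hy g).1 (h x hy)
  · intro hg x hx
    refine (hiff x hx g).2 ?_
    have h2 := CfsgLib.Solv.commutator_le_frattini (CfsgLib.Solv.pCore_isPGroup (G ⧸ N) p)
      (Subgroup.commutator_mem_commutator (Subgroup.mem_top (⟨π g, hg⟩ : P)) (Subgroup.mem_top (⟨π x, hx⟩ : P)))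
    exact ⟨_, h2, rfl⟩

end Cfsg.Agent.S4218
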