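import Cfsg.Statements.S4219


set_option autoImplicit false
set_option linter.style.haveILetI false
open Cfsg

namespace Cfsg.Agent.S4219

/-- Let a finite group `G` act `t`-fold transitively on a finite set, let `H` be the stabilizer of `t` distinct points and `P` a Sylow `p`-subgroup of `H`. Then the normalizer of `P` in `G` is `t`-fold transitive on the fixed points of `P`: any `t` distinct fixed points of `P` can be carried to any other `t` distinct fixed points of `P` by an element normalizing `P`. -/
theorem result {G : Type*} [Group G] [Finite G] {α : Type*} [Fintype α] [MulAction G α] {t : ℕ} (hG : MulAction.IsMultiplyPretransitive G α t) (x : Fin t ↪ α) {p : ℕ} [Fact p.Prime] (P : Sylow p (MulAction.stabilizer G x)) (a b : Fin t ↪ α) (ha : ∀ i, a i ∈ MulAction.fixedPoints ((P : Subgroup (MulAction.stabilizer G x)).map (MulAction.stabilizer G x).subtype) α) (hb : ∀ i, b i ∈ MulAction.fixedPoints ((P : Subgroup (MulAction.stabilizer G x)).map (MulAction.stabilizer G x).subtype) α) : ∃ g ∈ Subgroup.normalizer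 ((((P : Subgroup (MulAction.stabilizer G x)).map (MulAction.stabilizer G x).subtype) : Subgroup G) : Set G), g • a = b := by
  set Pm := (P : Subgroup (MulAction.stabilizer G x)).map (MulAction.stabilizer G x).subtype with hPm
  haveI : MulAction.IsPretransitive G (Fin t ↪ α) := hG
  have hle : ∀ c : Fin t ↪ α, (∀ i, c i ∈ MulAction.fixedPoints Pm α) → Pm ≤ MulAction.stabilizer G c :=
    fun c hc g hg => MulAction.mem_stabilizer_iff.2
      (Function.Embedding.ext fun i => hc i ⟨g, hg⟩)
  obtain ⟨g₀, hg₀⟩ := MulAction.exists_smul_eq G a b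
  -- both `Pm` and its conjugate are Sylow subgroups of the stabiliser of `b`
  have hcard : ∀ c : Fin t ↪ α, Nat.card (MulAction.stabilizer G c) = Nat.card (MulAction.stabilizer G x) := by
    intro c
    obtain ⟨k, rfl⟩ := MulAction.exists_smul_eq G x c
    exact (Nat.card_congr (MulAction.stabilizerEquivStabilizer (a := x) (b := k • x) rfl).toEquiv).symm
  have hsyl : ∀ (K : Subgroup G) (_ : K ≤ MulAction.stabilizer G b), Nat.card K = Nat.card Pm →
      ∃ Q : Sylow p (MulAction.stabilizer G b),
        (Q : Subgroup (MulAction.stabilizer G b)).map (MulAction.stabilizer G b).subtype = K := by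
    intro K hK hc
    refine ⟨Sylow.ofCard (K.subgroupOf (MulAction.stabilizer G b)) ?_, ?_⟩
    · rw [Nat.card_congr (Subgroup.subgroupOfEquivOfLe hK).toEquiv, hc, hPm,
        Subgroup.card_map_of_injective (MulAction.stabilizer G x).subtype_injective,
        P.card_eq_multiplicity, hcard b]
    · rw [Sylow.coe_ofCard, Subgroup.map_subgroupOf_eq_of_le hK]
  have h1 : Pm.map (MulAut.conj g₀).toMonoidHom ≤ MulAction.stabilizer G b := by
    rintro _ ⟨y, hy, rfl⟩
    rw [MulAction.mem_stabilizer_iff]
    show (g₀ * y * g₀⁻¹) • b = b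
    rw [← hg₀, mul_smul, mul_smul, inv_smul_smul, MulAction.mem_stabilizer_iff.1 (hle a ha hy)]
  obtain ⟨Q1, hQ1⟩ := hsyl _ h1 (Subgroup.card_map_of_injective (MulAut.conj g₀).injective)
  obtain ⟨Q2, hQ2⟩ := hsyl Pm (hle b hb) rfl
  obtain ⟨h, hh⟩ := MulAction.exists_smul_eq (MulAction.stabilizer G b) Q1 Q2
  refine ⟨(h : G) * g₀, ?_, by rw [mul_smul, hg₀]; exact h.2⟩
  have key : Pm.map (MulAut.conj ((h : G) * g₀)).toMonoidHom = Pm := by
    have e : (MulAut.conj ((h : G) * g₀)).toMonoidHom =
        (MulAut.conj (h : G)).toMonoidHom.comp (MulAut.conj g₀).toMonoidHom := by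
      ext z; simp [mul_assoc]
    rw [e, ← Subgroup.map_map, ← hQ1]
    conv_rhs => rw [← hQ2, ← hh]
    rw [Sylow.coe_subgroup_smul]
    ext y
    simp only [Subgroup.mem_map]
    constructor
    · rintro ⟨_, ⟨z, hz, rfl⟩, rfl⟩
      exact ⟨MulAut.conj h • z, Subgroup.smul_mem_pointwise_smul z _ _ hz, by simp [MulAut.smul_def, mul_assoc]⟩
    · rintro ⟨_, ⟨z, hz, rfl⟩, rfl⟩
      exact ⟨_, ⟨z, hz, rfl⟩, by simp [mul_assoc]⟩
  rw [Subgroup.mem_normalizer_iff_conj_image_eq]
  exact (Subgroup.coe_map _ Pm).symm.trans (congrArg _ key) |>.trans rfl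

end Cfsg.Agent.S4219
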