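import Mathlib
-- Template for statement S4220 (row 4220; see /opt/grader/pristine/manifest.json for weights).
-- Copy to Cfsg/Agent/S4220.lean and replace the sorry. The statement below is byte-identical to the frozen
-- statement Cfsg.CfsgFrozen.S4220 (Cfsg/Statements/S4220.lean; the theorem Cfsg.fg14_transitivity_bound_kp_add_r);
-- the grader kernel-checks Cfsg.Agent.S4220.result against that frozen type. Keep the theorem IN THIS FILE
-- (a `result` declared elsewhere and merely imported here is not credited); helpers may live anywhere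
-- under Cfsg/Agent/.
import Cfsg.Statements.S4220
import Cfsg.Agent.Perm.Jordan
import Cfsg.Agent.S0415
-- import your own Cfsg.Agent.* helpers here

set_option autoImplicit false
open Cfsg
open Equiv
open scoped commutatorElement Pointwise
set_option linter.style.haveILetI false
set_option linter.unusedSectionVars false

namespace Cfsg.Agent.S4220

variable {α : Type*} [Fintype α] [DecidableEq α]

theorem exists_map (G : Subgroup (Perm α)) {m : ℕ} (h : MulAction.IsMultiplyPretransitive G α m) (f f' : Fin m → α)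
    (hf : Function.Injective f) (hf' : Function.Injective f') : ∃ g ∈ G, ∀ i, g (f i) = f' i := by
  haveI := h
  obtain ⟨⟨g, hg⟩, e⟩ := MulAction.exists_smul_eq G (⟨f, hf⟩ : Fin m ↪ α) ⟨f', hf'⟩
  exact ⟨g, hg, fun i => by simpa using DFunLike.congr_fun e i⟩

theorem of_double (G : Subgroup (Perm α)) (hprim : MulAction.IsPreprimitive G α) (h4 : MulAction.IsMultiplyPretransitive G α 4)
    (hn : 5 ≤ Fintype.card α) {a b c d : α} (hab : a ≠ b) (hac : a ≠ c) (had : a ≠ d) (hbc : b ≠ c) (hbd : b ≠ d) (hcd : c ≠ d)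
    (hD : swap a b * swap c d ∈ G) : alternatingGroup α ≤ G := by
  obtain ⟨f, -, hf⟩ : ∃ f ∈ (Finset.univ : Finset α), f ∉ ({a, b, c, d} : Finset α) :=
    Finset.exists_mem_notMem_of_card_lt_card (by
      have := Finset.card_le_four (a := a) (b := b) (c := c) (d := d)
      rw [Finset.card_univ]; omega)
  simp only [Finset.mem_insert, Finset.mem_singleton, not_or] at hf
  obtain ⟨hfa, hfb, hfc, hfd⟩ := hf
  obtain ⟨g, hg, hgi⟩ := exists_map G h4 ![a, b, c, d] ![a, b, c, f]
    (by intro i j e; fin_cases i <;> fin_cases j <;> simp_all [eq_comm])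
    (by intro i j e; fin_cases i <;> fin_cases j <;> simp_all [eq_comm])
  have h0 : g a = a := hgi 0
  have h1 : g b = b := hgi 1
  have h2 : g c = c := hgi 2
  have h3 : g d = f := hgi 3
  have hD' : g * (swap a b * swap c d) * g⁻¹ = swap a b * swap c f := by
    have e : ∀ x y, g * swap x y * g⁻¹ = swap (g x) (g y) := fun x y => (Equiv.swap_apply_apply g x y).symm
    calc g * (swap a b * swap c d) * g⁻¹ = (g * swap a b * g⁻¹) * (g * swap c d * g⁻¹) := by group
      _ = _ := by rw [e, e, h0, h1, h2, h3]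
  have hcomm : Commute (swap c d) (swap a b) :=
    (Perm.disjoint_iff_disjoint_support.2 (by
      rw [Perm.support_swap hcd, Perm.support_swap hab]
      simp [hac.symm, hbc.symm, had.symm, hbd.symm, hac, hbc, had, hbd])).commute
  have key : (swap a b * swap c d) * (swap a b * swap c f) = swap c d * swap c f := by
    rw [← hcomm.eq, mul_assoc, ← mul_assoc (swap a b), Equiv.swap_mul_self, one_mul]
  exact Equiv.Perm.alternatingGroup_le_of_isPreprimitive_of_isThreeCycle_mem hprim
    (Perm.isThreeCycle_swap_mul_swap_same hcd (Ne.symm hfc) (Ne.symm hfd))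
    (key ▸ G.mul_mem hD (hD' ▸ G.mul_mem (G.mul_mem hg hD) (G.inv_mem hg)))

theorem normal_four : ∀ σ : Perm (Fin 4), σ ≠ 1 → ∃ τ₁ τ₂ : Perm (Fin 4),
    σ * τ₁ * σ⁻¹ * τ₁⁻¹ * τ₂ * (σ * τ₁ * σ⁻¹ * τ₁⁻¹)⁻¹ * τ₂⁻¹ ∈
      [swap (0 : Fin 4) 1 * swap 2 3, swap 0 2 * swap 1 3, swap 0 3 * swap 1 2] := by
  decide +kernel

theorem normal_three : ∀ σ : Perm (Fin 3), σ ≠ 1 → ∃ τ : Perm (Fin 3),
    ∀ i, (σ * τ * σ⁻¹ * τ⁻¹) i ≠ i := by
  decide +kernel

theorem center_perm {r : ℕ} (hr : 3 ≤ r) (σ : Perm (Fin r)) (h : ∀ τ, σ * τ = τ * σ) : σ = 1 := by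
  by_contra hne
  obtain ⟨i, hi⟩ : ∃ i, σ i ≠ i := by
    by_contra hh; push Not at hh; exact hne (Equiv.ext hh)
  obtain ⟨l, -, hl⟩ : ∃ l ∈ (Finset.univ : Finset (Fin r)), l ∉ ({i, σ i} : Finset (Fin r)) :=
    Finset.exists_mem_notMem_of_card_lt_card (by have := Finset.card_le_two (a := i) (b := σ i); simp; omega)
  simp only [Finset.mem_insert, Finset.mem_singleton, not_or] at hl
  have := Equiv.ext_iff.1 (h (swap (σ i) l)) i
  simp only [Perm.mul_apply, Equiv.swap_apply_left] at this
  rw [Equiv.swap_apply_of_ne_of_ne (Ne.symm hi) (Ne.symm hl.1)] at this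
  exact hl.2 this.symm


set_option maxHeartbeats 1000000 in
/-- Let `n = kp + r` with `p` prime, `1 ≤ k < p` and `r > k`, excluding the case `k = 1, r = 2`. Then a permutation group of degree `n` that is `(r + 1)`-fold transitive contains the alternating group. -/
theorem result {α : Type*} [Fintype α] [DecidableEq α] (G : Subgroup (Equiv.Perm α)) {k p r : ℕ} (hp : p.Prime) (hn : Fintype.card α = k * p + r) (hk : 1 ≤ k) (hpk : k < p) (hrk : k < r) (hex : ¬ (k = 1 ∧ r = 2)) (hG : MulAction.IsMultiplyPretransitive G α (r + 1)) : alternatingGroup α ≤ G := by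
  classical
  haveI := Fact.mk hp
  have hp2 := hp.two_le
  have hr2 : 2 ≤ r := by omega
  have hkp : k * p < p * p := Nat.mul_lt_mul_of_pos_right hpk hp.pos
  have hn5 : 5 ≤ Fintype.card α := by
    rcases Nat.lt_or_ge k 2 with h | h
    · have : k = 1 := by omega
      subst this
      have : r ≠ 2 := fun e => hex ⟨rfl, e⟩
      omega
    · nlinarith
  haveI hprim : MulAction.IsPreprimitive G α := by
    haveI := hG
    refine MulAction.isPreprimitive_of_is_two_pretransitive (MulAction.isMultiplyPretransitive_of_le (n := r + 1) (by omega) ?_)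
    rw [Nat.card_eq_fintype_card]
    nlinarith
  have hpn : p + 3 ≤ Fintype.card α := by
    rcases Nat.lt_or_ge k 2 with h | h
    · have : k = 1 := by omega
      subst this
      have : r ≠ 2 := fun e => hex ⟨rfl, e⟩
      omega
    · nlinarith
  obtain ⟨e⟩ : Nonempty (Fin r ↪ α) := Function.Embedding.nonempty_of_card_le (by rw [Fintype.card_fin]; omega)
  let H : Subgroup (Perm α) :=
    { carrier := {g | g ∈ G ∧ ∀ i, g (e i) = e i}
      one_mem' := ⟨one_mem _, fun _ => rfl⟩
      mul_mem' := fun {a b} ha hb => ⟨mul_mem ha.1 hb.1, fun i => by rw [Perm.mul_apply, hb.2 i, ha.2 i]⟩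
      inv_mem' := fun {a} ha => ⟨inv_mem ha.1, fun i => by
        conv_lhs => rw [← ha.2 i]
        exact a.symm_apply_apply _⟩ }
  let Out : α → Prop := fun x => ∀ i, e i ≠ x
  have houtcard : (Finset.univ.filter Out).card = k * p := by
    have h1 : Finset.univ.filter Out = (Finset.univ.map e)ᶜ := by ext x; simp [Out]
    rw [h1, Finset.card_compl, Finset.card_map, Finset.card_univ, Fintype.card_fin, hn]; omega
  have hHtr : ∀ x y, Out x → Out y → ∃ g ∈ H, g x = y := by
    intro x y hx hy
    have inj : ∀ z, Out z → Function.Injective (Fin.snoc (α := fun _ => α) (fun i => e i) z) := fun z hz =>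
      Fin.snoc_injective_of_injective e.injective (fun ⟨i, hi⟩ => hz i hi)
    obtain ⟨g, hg, hgi⟩ := exists_map G hG _ _ (inj x hx) (inj y hy)
    refine ⟨g, ⟨hg, fun i => ?_⟩, ?_⟩
    · simpa using hgi i.castSucc
    · simpa using hgi (Fin.last r)
  -- a Sylow subgroup
  let P₀ : Sylow p H := default
  set P : Subgroup (Perm α) := (P₀ : Subgroup H).map H.subtype with hPdef
  have hPH : P ≤ H := Subgroup.map_subtype_le _
  have hPG : ∀ u ∈ P, u ∈ G := fun u hu => (hPH hu).1
  have hPe : ∀ u ∈ P, ∀ i, u (e i) = e i := fun u hu => (hPH hu).2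
  have hPp : IsPGroup p P := P₀.isPGroup'.map _
  let B : α → Set α := fun x => MulAction.orbit P x
  have hmemB : ∀ {x y}, y ∈ B x ↔ ∃ u ∈ P, u x = y := fun {x y} => by
    constructor
    · rintro ⟨⟨u, hu⟩, rfl⟩; exact ⟨u, hu, rfl⟩
    · rintro ⟨u, hu, rfl⟩; exact ⟨⟨u, hu⟩, rfl⟩
  have hBout : ∀ {x y}, Out x → y ∈ B x → Out y := fun {x y} hx hy i hi => by
    obtain ⟨u, hu, rfl⟩ := hmemB.1 hy
    exact hx i (u.injective ((hPe u hu i).trans hi))
  have hBcard : ∀ x, Out x → (MulAction.stabilizer P x).index = p := by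
    intro x hx
    obtain ⟨j, hj⟩ := hPp.index (MulAction.stabilizer P x)
    have hle : (MulAction.stabilizer P x).index ≤ k * p := by
      rw [MulAction.index_stabilizer, ← houtcard, ← Set.ncard_coe_finset]
      exact Set.ncard_le_ncard (fun y hy => by simpa using hBout hx hy) (Set.toFinite _)
    rcases j with _ | _ | j
    · exfalso
      rw [pow_zero, MulAction.index_stabilizer, Set.ncard_eq_one] at hj
      obtain ⟨a, ha⟩ := hj
      have hfix : ∀ u ∈ P, u x = x := fun u hu => by
        have h1 : u x ∈ ({a} : Set α) := ha ▸ (hmemB.2 ⟨u, hu, rfl⟩ : u x ∈ MulAction.orbit P x)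
        have h2 : x ∈ ({a} : Set α) := ha ▸ MulAction.mem_orbit_self x
        exact h1.trans h2.symm
      have hle' : (P₀ : Subgroup H) ≤ MulAction.stabilizer H x := fun u hu => hfix u ⟨u, hu, rfl⟩
      have hd := Subgroup.index_dvd_of_le hle'
      have horb : (MulAction.stabilizer H x).index = k * p := by
        rw [MulAction.index_stabilizer, ← houtcard, ← Set.ncard_coe_finset]
        congr 1
        ext y
        simp only [Finset.coe_filter, Finset.mem_univ, true_and, Set.mem_setOf_eq]
        constructor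
        · rintro ⟨⟨u, hu⟩, rfl⟩ i hi
          exact hx i (u.injective ((hu.2 i).trans hi))
        · intro hy
          obtain ⟨g, hg, hgy⟩ := hHtr x y hx hy
          exact ⟨⟨g, hg⟩, hgy⟩
      rw [horb] at hd
      exact P₀.not_dvd_index ((dvd_mul_left p k).trans hd)
    · simpa using hj
    · exfalso
      have : p ^ 2 ≤ p ^ (j + 1 + 1) := Nat.pow_le_pow_right hp.pos (by omega)
      rw [hj] at hle
      rw [pow_two] at this
      omega
  have hfixe : ∀ {u : Perm α}, u ∈ P → ∀ {x}, ¬ Out x → u x = x := fun {u} hu {x} hx => by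
    simp only [Out, ne_eq, not_forall, not_not] at hx
    obtain ⟨i, rfl⟩ := hx
    exact hPe u hu i
  have hStN : ∀ x, Out x → (MulAction.stabilizer P x).Normal := fun x hx => by
    refine Subgroup.normal_of_index_eq_minFac_card ?_
    rw [hBcard x hx]
    obtain ⟨j, hj⟩ := IsPGroup.iff_card.1 hPp
    have hj0 : j ≠ 0 := fun h0 => by
      have := Subgroup.index_dvd_card (MulAction.stabilizer P x)
      rw [hBcard x hx, hj, h0, pow_zero, Nat.dvd_one] at this
      exact hp.ne_one this
    rw [hj, Nat.pow_minFac hj0, hp.minFac_eq]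
  have hPpow : ∀ u ∈ P, u ^ p = 1 := fun u hu => Equiv.ext fun x => by
    by_cases hx : Out x
    · haveI := hStN x hx
      have h1 := Subgroup.pow_index_mem (MulAction.stabilizer P x) ⟨u, hu⟩
      rw [hBcard x hx] at h1
      exact h1
    · exact hfixe (pow_mem hu p) hx
  have hPcomm : ∀ u ∈ P, ∀ v ∈ P, u * v = v * u := fun u hu v hv => by
    have key : ∀ x, Out x → (⁅(⟨u, hu⟩ : P), ⟨v, hv⟩⁆ : P) ∈ MulAction.stabilizer P x := fun x hx => by
      haveI := hStN x hx
      haveI : IsCyclic (P ⧸ MulAction.stabilizer P x) := isCyclic_of_prime_card (p := p) (hBcard x hx)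
      letI := IsCyclic.commGroup (α := P ⧸ MulAction.stabilizer P x)
      rw [← QuotientGroup.eq_one_iff]
      show QuotientGroup.mk' (MulAction.stabilizer P x) ⁅(⟨u, hu⟩ : P), ⟨v, hv⟩⁆ = 1
      rw [map_commutatorElement, commutatorElement_eq_one_iff_commute]
      exact Commute.all _ _
    refine commutatorElement_eq_one_iff_commute.1 (Equiv.ext fun x => ?_)
    by_cases hx : Out x
    · exact key x hx
    · exact hfixe (P.mul_mem (P.mul_mem (P.mul_mem hu hv) (P.inv_mem hu)) (P.inv_mem hv)) hx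
  -- powers of a moving element reach the whole orbit
  have hgen : ∀ {x u}, Out x → u ∈ P → u x ≠ x → ∀ y ∈ B x, ∃ j : ℕ, (u ^ j) x = y := by
    intro x u hx hu hux y hy
    haveI := hStN x hx
    haveI : IsCyclic (P ⧸ MulAction.stabilizer P x) := isCyclic_of_prime_card (p := p) (hBcard x hx)
    obtain ⟨v, hv, rfl⟩ := hmemB.1 hy
    have h1 : (QuotientGroup.mk ⟨u, hu⟩ : P ⧸ MulAction.stabilizer P x) ≠ 1 := fun h => hux ((QuotientGroup.eq_one_iff _).1 h)
    have h2 : (QuotientGroup.mk ⟨v, hv⟩ : P ⧸ MulAction.stabilizer P x) ∈ Subgroup.zpowers (QuotientGroup.mk ⟨u, hu⟩) :=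
      mem_zpowers_of_prime_card (p := p) (hBcard x hx) h1
    obtain ⟨j, hj⟩ := mem_powers_iff_mem_zpowers.2 h2
    refine ⟨j, ?_⟩
    replace hj : (QuotientGroup.mk (⟨u, hu⟩ ^ j) : P ⧸ MulAction.stabilizer P x) = QuotientGroup.mk ⟨v, hv⟩ := by
      rw [QuotientGroup.mk_pow]; exact hj
    rw [QuotientGroup.eq] at hj
    have h3 : ((u ^ j)⁻¹ * v) x = x := hj
    rw [Perm.mul_apply, Perm.inv_eq_iff_eq] at h3
    exact h3.symm
  have hBsymm : ∀ {x y}, y ∈ B x → B y = B x := fun {x y} h => MulAction.orbit_eq_iff.2 h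
  have hBself : ∀ x, x ∈ B x := fun x => MulAction.mem_orbit_self x
  by_contra hA
  have hno : ∀ u ∈ P, ∀ x, Out x → (∀ y, u y ≠ y → y ∈ B x) → u = 1 := by
    intro u hu x hx hsup
    by_contra hu1
    obtain ⟨y, hy⟩ : ∃ y, u y ≠ y := by
      by_contra hh; push Not at hh; exact hu1 (Equiv.ext hh)
    have hyo : Out y := hBout hx (hsup y hy)
    have hyB := hBsymm (hsup y hy)
    have hcyc : u.IsCycle := ⟨y, hy, fun {z} hz => by
      obtain ⟨j, hj⟩ := hgen hyo hu hy z (hyB.symm ▸ hsup z hz)
      exact ⟨(j : ℤ), by rw [zpow_natCast]; exact hj⟩⟩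
    have hord : orderOf u = p := orderOf_eq_prime (hPpow u hu) hu1
    exact hA (CfsgLib.Perm.Jordan.alternatingGroup_le_of_prime_cycle G hprim hp hpn hcyc (hcyc.orderOf ▸ hord) (hPG u hu))
  -- the blocks
  let O : Finset (Set α) := (Finset.univ.filter Out).image B
  have hOcard : O.card = k := by
    have h1 := Finset.card_eq_sum_card_image B (Finset.univ.filter Out)
    rw [houtcard, Finset.sum_const_nat (m := p) fun b hb => ?_] at h1
    · exact (Nat.eq_of_mul_eq_mul_right hp.pos h1).symm
    · obtain ⟨x, hx, rfl⟩ := Finset.mem_image.1 hb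
      simp only [Finset.mem_filter, Finset.mem_univ, true_and] at hx
      rw [← hBcard x hx, MulAction.index_stabilizer, ← Set.ncard_coe_finset]
      congr 1
      ext y
      simp only [Finset.coe_filter, Finset.mem_filter, Finset.mem_univ, true_and, Set.mem_setOf_eq]
      exact ⟨fun h => by show y ∈ B x; rw [← h.2]; exact hBself y, fun h => ⟨hBout hx h, hBsymm h⟩⟩
  obtain ⟨b₀, hb₀⟩ := Finset.card_pos.1 (show 0 < O.card by omega)
  obtain ⟨x₀, hx₀, -⟩ := Finset.mem_image.1 hb₀
  simp only [Finset.mem_filter, Finset.mem_univ, true_and] at hx₀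
  obtain ⟨u₀, hu₀, hu₀x⟩ : ∃ u ∈ P, u x₀ ≠ x₀ := by
    by_contra hh
    push Not at hh
    have h1 : MulAction.stabilizer P x₀ = ⊤ := eq_top_iff.2 fun u _ => hh u u.2
    have := hBcard x₀ hx₀
    rw [h1, Subgroup.index_top] at this
    omega
  have hmemO : ∀ {x}, Out x → B x ∈ O := fun {x} hx => Finset.mem_image.2 ⟨x, by simpa using hx, rfl⟩
  have hk2 : 2 ≤ k := by
    by_contra hk2
    have h1 : O.card ≤ 1 := by omega
    refine hu₀x ?_
    rw [hno u₀ hu₀ x₀ hx₀ fun y hy => ?_, Perm.one_apply]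
    have hyo : Out y := Classical.byContradiction fun h => hy (hfixe hu₀ h)
    exact Finset.card_le_one.1 h1 _ (hmemO hyo) _ (hmemO hx₀) ▸ hBself y
  have hp3 : 3 ≤ p := by omega
  have hr3 : 3 ≤ r := by omega
  have h4 : MulAction.IsMultiplyPretransitive G α 4 := by
    haveI := hG
    exact MulAction.isMultiplyPretransitive_of_le (n := r + 1) (by omega) (by
      rw [Nat.card_eq_fintype_card]; nlinarith)
  by_cases hexc : r = 3 ∧ p = 3
  · -- degree nine
    obtain ⟨rfl, rfl⟩ := hexc
    have hk' : k = 2 := by omega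
    subst hk'
    haveI := h4
    by_cases hsharp : ∀ x : Fin 4 ↪ α, MulAction.stabilizer G x = ⊥
    · have := Cfsg.Agent.S0415.result G (by omega) hsharp
      omega
    push Not at hsharp
    obtain ⟨x, hx⟩ := hsharp
    haveI := (Subgroup.nontrivial_iff_ne_bot _).2 hx
    obtain ⟨q, hq, hqd⟩ := Nat.exists_prime_and_dvd (Finite.one_lt_card (α := MulAction.stabilizer G x)).ne'
    haveI := Fact.mk hq
    obtain ⟨⟨⟨g, hgG⟩, hgx⟩, hgo⟩ := exists_prime_orderOf_dvd_card' q hqd
    rw [Subgroup.orderOf_mk, Subgroup.orderOf_mk] at hgo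
    have hfix : ∀ i, g (x i) = x i := fun i => by simpa using DFunLike.congr_fun hgx i
    have hsup : g.support.card ≤ 5 := by
      have h1 : g.support ⊆ (Finset.univ.map x)ᶜ := fun y hy => by
        simp only [Finset.mem_compl, Finset.mem_map, Finset.mem_univ, true_and, not_exists]
        rintro i rfl
        exact Perm.mem_support.1 hy (hfix i)
      refine (Finset.card_le_card h1).trans ?_
      rw [Finset.card_compl, Finset.card_map, Finset.card_univ, Fintype.card_fin]; omega
    by_cases hcyc : g.IsCycle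
    · have hs : g.support.card = q := hcyc.orderOf ▸ hgo
      exact hA (CfsgLib.Perm.Jordan.alternatingGroup_le_of_prime_cycle G hprim hq (by omega) hcyc hs hgG)
    have hg1 : g ≠ 1 := fun h => by rw [h, orderOf_one] at hgo; exact hq.ne_one hgo.symm
    have hq2 : q = 2 := by
      by_contra hq2
      have hq3 : 3 ≤ q := by have := hq.two_le; omega
      exact hcyc (Equiv.Perm.isCycle_of_prime_order (hgo.symm ▸ hq) (by rw [hgo]; omega))
    subst hq2
    have hgg : ∀ z, g (g z) = z := fun z => by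
      have h1 := pow_orderOf_eq_one g
      rw [hgo, pow_two] at h1
      exact Equiv.ext_iff.1 h1 z
    obtain ⟨a, ha⟩ : ∃ a, g a ≠ a := by
      by_contra hh; push Not at hh; exact hg1 (Equiv.ext hh)
    obtain ⟨c, hc, hca, hcb⟩ : ∃ c, g c ≠ c ∧ c ≠ a ∧ c ≠ g a := by
      by_contra hh
      push Not at hh
      refine hcyc ⟨a, ha, fun {z} hz => ?_⟩
      by_cases hza : z = a
      · exact hza ▸ Perm.SameCycle.refl g a
      · exact ⟨1, by rw [zpow_one]; exact (hh z hz hza).symm⟩
    have hsup4 : ({a, g a, c, g c} : Finset α).card = 4 := by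
      rw [Finset.card_insert_of_notMem, Finset.card_insert_of_notMem, Finset.card_pair (Ne.symm hc)]
      · simp only [Finset.mem_insert, Finset.mem_singleton, not_or]
        exact ⟨Ne.symm hcb, fun h => hca (g.injective h).symm⟩
      · simp only [Finset.mem_insert, Finset.mem_singleton, not_or]
        exact ⟨Ne.symm ha, Ne.symm hca, fun h => hcb (by rw [h, hgg])⟩
    have hgeq : g = swap a (g a) * swap c (g c) := by
      refine Equiv.ext fun z => ?_
      by_cases hz : g z = z
      · rw [Perm.mul_apply, Equiv.swap_apply_of_ne_of_ne (a := c) (fun (h : z = c) => hc (h ▸ hz))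
            (fun h => hc (by rw [h, hgg] at hz; exact hz.symm)),
          Equiv.swap_apply_of_ne_of_ne (a := a) (fun (h : z = a) => ha (h ▸ hz))
            (fun h => ha (by rw [h, hgg] at hz; exact hz.symm)), hz]
      · have hz4 : z ∈ ({a, g a, c, g c} : Finset α) := by
          by_contra hzn
          have hgz : g z ∉ ({a, g a, c, g c} : Finset α) := by
            simp only [Finset.mem_insert, Finset.mem_singleton, not_or] at hzn ⊢
            exact ⟨fun h => hzn.2.1 (by rw [← h, hgg]), fun h => hzn.1 (g.injective h),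
              fun h => hzn.2.2.2 (by rw [← h, hgg]), fun h => hzn.2.2.1 (g.injective h)⟩
          have hzz : g z ∉ ({z} ∪ {a, g a, c, g c} : Finset α) := by
            simp only [Finset.mem_union, Finset.mem_singleton, not_or]; exact ⟨hz, hgz⟩
          have h6 : insert (g z) ({z} ∪ {a, g a, c, g c}) ⊆ g.support := by
            intro y hy
            simp only [Finset.mem_insert, Finset.mem_union, Finset.mem_singleton] at hy
            rw [Perm.mem_support]
            rcases hy with rfl | rfl | rfl | rfl | rfl | rfl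
            · rw [hgg]; exact Ne.symm hz
            · exact hz
            · exact ha
            · rw [hgg]; exact Ne.symm ha
            · exact hc
            · rw [hgg]; exact Ne.symm hc
          have h7 := Finset.card_le_card h6
          rw [Finset.card_insert_of_notMem hzz, Finset.card_union_of_disjoint (Finset.disjoint_singleton_left.2 hzn),
            Finset.card_singleton, hsup4] at h7
          omega
        simp only [Finset.mem_insert, Finset.mem_singleton] at hz4
        have n1 : g a ≠ c := Ne.symm hcb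
        have n2 : g a ≠ g c := fun h => hca (g.injective h).symm
        have n3 : a ≠ g c := fun h => hcb (by rw [h, hgg])
        rcases hz4 with rfl | rfl | rfl | rfl <;> rw [Perm.mul_apply]
        · rw [Equiv.swap_apply_of_ne_of_ne (a := c) (Ne.symm hca) n3, Equiv.swap_apply_left]
        · rw [Equiv.swap_apply_of_ne_of_ne (a := c) n1 n2, Equiv.swap_apply_right, hgg]
        · rw [Equiv.swap_apply_left, Equiv.swap_apply_of_ne_of_ne (Ne.symm n3) (Ne.symm n2)]
        · rw [Equiv.swap_apply_right, Equiv.swap_apply_of_ne_of_ne hca hcb, hgg]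
    exact hA (of_double G hprim h4 hn5 (Ne.symm ha) (Ne.symm hca) (fun h => hcb (by rw [h, hgg])) (Ne.symm hcb)
      (fun h => hca (g.injective h).symm) (Ne.symm hc) (hgeq ▸ hgG))
  -- the normaliser
  let N : Subgroup (Perm α) := (G ⊓ Subgroup.normalizer (P : Set (Perm α))) ⊓ MulAction.stabilizer (Perm α) (Set.range e)
  have hNc : ∀ {n}, n ∈ N → ∀ {u}, u ∈ P → n * u * n⁻¹ ∈ P := fun {n} hn' {u} hu =>
    (Subgroup.mem_normalizer_iff.1 hn'.1.2 u).1 hu
  have hNr : ∀ {n}, n ∈ N → ∀ i, ∃ j, n (e i) = e j := fun {n} hn' i => by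
    have h1 : n • e i ∈ n • Set.range e := Set.smul_mem_smul_set ⟨i, rfl⟩
    rw [MulAction.mem_stabilizer_iff.1 hn'.2] at h1
    obtain ⟨j, hj⟩ := h1
    exact ⟨j, hj.symm⟩
  choose f hf using fun (n : N) i => hNr n.2 i
  have hfinj : ∀ n : N, Function.Injective (f n) := fun n i j h => e.injective ((n : Perm α).injective (by rw [hf, hf, h]))
  let π : N →* Perm (Fin r) := MonoidHom.mk' (fun n => Equiv.ofBijective (f n) (Finite.injective_iff_bijective.1 (hfinj n)))
    fun a b => Equiv.ext fun i => e.injective (by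
      show e (f (a * b) i) = e (f a (f b i))
      rw [← hf, ← hf, ← hf]; rfl)
  have hπ : ∀ (n : N) i, (n : Perm α) (e i) = e (π n i) := fun n i => hf n i
  have hπs : Function.Surjective π := by
    intro σ
    haveI := hG
    obtain ⟨g, hg, hgi⟩ := exists_map G (MulAction.isMultiplyPretransitive_of_le (n := r + 1) (Nat.le_succ r) (by
      rw [Nat.card_eq_fintype_card]; nlinarith)) e (e ∘ σ) e.injective (e.injective.comp σ.injective)
    set Qp := P.map (MulAut.conj g).toMonoidHom
    have hQH : Qp ≤ H := by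
      rintro _ ⟨u, hu, rfl⟩
      refine ⟨G.mul_mem (G.mul_mem hg (hPG u hu)) (G.inv_mem hg), fun i => ?_⟩
      have h1 : g⁻¹ (e i) = e (σ⁻¹ i) := by rw [Perm.inv_eq_iff_eq, hgi]; simp
      show (g * u * g⁻¹) (e i) = e i
      rw [Perm.mul_apply, Perm.mul_apply, h1, hPe u hu, hgi]; simp
    have hQc : Nat.card (Qp.subgroupOf H) = p ^ (Nat.card H).factorization p := by
      rw [Nat.card_congr (Subgroup.subgroupOfEquivOfLe hQH).toEquiv,
        Subgroup.card_map_of_injective (MulAut.conj g).injective, hPdef, Subgroup.card_map_of_injective H.subtype_injective]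
      exact P₀.card_eq_multiplicity
    obtain ⟨h, hh⟩ := MulAction.exists_smul_eq H (Sylow.ofCard (Qp.subgroupOf H) hQc) P₀
    have hnorm : ∀ u ∈ P, ((h : Perm α) * g) * u * ((h : Perm α) * g)⁻¹ ∈ P := fun u hu => by
      have hm : MulAut.conj h • (⟨g * u * g⁻¹, hQH ⟨u, hu, rfl⟩⟩ : H) ∈ MulAut.conj h • (Qp.subgroupOf H) :=
        Subgroup.smul_mem_pointwise_smul _ _ _ ⟨u, hu, rfl⟩
      have hh' := congrArg (fun S : Sylow p H => (S : Subgroup H)) hh
      simp only [Sylow.coe_subgroup_smul, Sylow.coe_ofCard] at hh'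
      rw [hh'] at hm
      refine ⟨_, hm, ?_⟩
      show (h : Perm α) * (g * u * g⁻¹) * (h : Perm α)⁻¹ = _
      group
    have hmN : (h : Perm α) * g ∈ N := by
      refine ⟨⟨G.mul_mem h.2.1 hg, Subgroup.mem_normalizer_fintype hnorm⟩, ?_⟩
      show _ ∈ MulAction.stabilizer (Perm α) (Set.range e)
      rw [MulAction.mem_stabilizer_set_iff_subset_smul_set (Set.finite_range e)]
      rintro _ ⟨i, rfl⟩
      refine ⟨e (σ⁻¹ i), ⟨_, rfl⟩, ?_⟩
      show ((h : Perm α) * g) (e (σ⁻¹ i)) = e i
      rw [Perm.mul_apply, hgi]; simp [h.2.2 i]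
    refine ⟨⟨_, hmN⟩, Equiv.ext fun i => e.injective ?_⟩
    rw [← hπ]
    show ((h : Perm α) * g) (e i) = e (σ i)
    rw [Perm.mul_apply, hgi]; exact h.2.2 (σ i)
  have hNout : ∀ (n : N) {x}, Out x → Out ((n : Perm α) x) := fun n {x} hx i hi => by
    obtain ⟨j, hj⟩ := (Finite.injective_iff_surjective.1 (π n).injective) i
    exact hx j ((n : Perm α).injective (by rw [hπ, hj, hi]))
  have hNB : ∀ (n : N) (x : α), (n : Perm α) '' B x = B ((n : Perm α) x) := fun n x => by
    ext y
    constructor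
    · rintro ⟨z, hz, rfl⟩
      obtain ⟨u, hu, rfl⟩ := hmemB.1 hz
      exact hmemB.2 ⟨_, hNc n.2 hu, by simp⟩
    · intro hy
      obtain ⟨u, hu, rfl⟩ := hmemB.1 hy
      refine ⟨(n⁻¹ * u * n : Perm α) x, hmemB.2 ⟨_, ?_, rfl⟩, by simp⟩
      have := hNc (N.inv_mem n.2) hu
      rwa [inv_inv] at this
  let ψ : N →* Perm O := MonoidHom.mk' (fun n => Equiv.ofBijective (fun b => (⟨(n : Perm α) '' b.1, by
      obtain ⟨x, hx, hb⟩ := Finset.mem_image.1 b.2
      rw [← hb, hNB]
      exact hmemO (hNout n (by simpa using hx))⟩ : O))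
      (Finite.injective_iff_bijective.1 fun a b h => Subtype.ext
        ((n : Perm α).injective.image_injective (congrArg Subtype.val h))))
    fun a b => Equiv.ext fun c => Subtype.ext (by
      show ((a * b : N) : Perm α) '' c.1 = (a : Perm α) '' ((b : Perm α) '' c.1)
      rw [Set.image_image]; rfl)
  have hkerB : ∀ g : N, g ∈ ψ.ker → ∀ x, Out x → (g : Perm α) x ∈ B x := fun g hg x hx => by
    have h1 : (g : Perm α) '' B x = B x := congrArg Subtype.val (Equiv.ext_iff.1 (MonoidHom.mem_ker.1 hg) ⟨B x, hmemO hx⟩)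
    rw [← h1]; exact ⟨x, hBself x, rfl⟩
  set I := ψ.ker.map π with hI
  haveI hIn : I.Normal := (MonoidHom.normal_ker ψ).map π hπs
  have hI1 : I ≠ ⊥ := fun h0 => by
    rw [hI, Subgroup.map_eq_bot_iff] at h0
    have h1 := Subgroup.index_dvd_of_le h0
    rw [Subgroup.index_ker, Subgroup.index_ker, π.range_eq_top.2 hπs, Subgroup.card_top] at h1
    have h2 := (Nat.le_of_dvd Nat.card_pos h1).trans (Subgroup.card_le_card_group ψ.range)
    rw [Nat.card_perm, Nat.card_perm, Nat.card_eq_fintype_card, Fintype.card_fin, Nat.card_eq_fintype_card,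
      Fintype.card_coe, hOcard] at h2
    exact absurd h2 (not_le.2 ((Nat.factorial_lt (by omega)).2 hrk))
  -- translations
  let T : Subgroup N :=
    { carrier := {g | g ∈ ψ.ker ∧ ∀ x, Out x → ∀ u ∈ P, (g : Perm α) (u x) = u ((g : Perm α) x)}
      one_mem' := ⟨one_mem _, fun _ _ _ _ => rfl⟩
      mul_mem' := fun {a b} ha hb => ⟨mul_mem ha.1 hb.1, fun x hx u hu => by
        show (a : Perm α) ((b : Perm α) (u x)) = _
        rw [hb.2 x hx u hu, ha.2 _ (hNout b hx) u hu]; rfl⟩
      inv_mem' := fun {a} ha => ⟨inv_mem ha.1, fun x hx u hu => by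
        show (a : Perm α)⁻¹ (u x) = u ((a : Perm α)⁻¹ x)
        rw [Perm.inv_eq_iff_eq, ha.2 ((a : Perm α)⁻¹ x) (hNout a⁻¹ hx) u hu]; simp⟩ }
  haveI hTn : T.Normal := ⟨fun g hg n => ⟨(MonoidHom.normal_ker ψ).conj_mem g hg.1 n, fun x hx u hu => by
    show (n : Perm α) ((g : Perm α) ((n : Perm α)⁻¹ (u x))) = u ((n : Perm α) ((g : Perm α) ((n : Perm α)⁻¹ x)))
    have hu' : (n : Perm α)⁻¹ * u * n ∈ P := by
      have := hNc (N.inv_mem n.2) hu
      rwa [inv_inv] at this
    have h1 : (n : Perm α)⁻¹ (u x) = ((n : Perm α)⁻¹ * u * n) ((n : Perm α)⁻¹ x) := by simp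
    rw [h1, hg.2 _ (show Out ((n : Perm α)⁻¹ x) from hNout n⁻¹ hx) _ hu']; simp⟩⟩
  -- scalar action on one orbit
  let Sc : Perm α → α → ℕ → Prop := fun g x i => ∀ v ∈ P, ∀ y ∈ B x, (g * v * g⁻¹) y = (v ^ i) y
  have hsc : ∀ g : N, g ∈ ψ.ker → ∀ x, Out x → ∃ i, Sc g x i := by
    intro g hg x hx
    obtain ⟨u, hu, hux⟩ : ∃ u ∈ P, u x ≠ x := by
      by_contra hh
      push Not at hh
      have h1 : MulAction.stabilizer P x = ⊤ := eq_top_iff.2 fun u _ => hh u u.2
      have := hBcard x hx
      rw [h1, Subgroup.index_top] at this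
      omega
    have agree : ∀ v ∈ P, ∀ w ∈ P, v x = w x → ∀ y ∈ B x, v y = w y := fun v hv w hw h y hy => by
      obtain ⟨t, ht, rfl⟩ := hmemB.1 hy
      rw [← Perm.mul_apply, ← hPcomm t ht v hv, Perm.mul_apply, h, ← Perm.mul_apply, hPcomm t ht w hw, Perm.mul_apply]
    obtain ⟨i, hi⟩ := hgen hx hu hux _ (hmemB.2 ⟨_, hNc g.2 hu, rfl⟩)
    refine ⟨i, fun v hv y hy => agree _ (hNc g.2 hv) _ (P.pow_mem hv i) ?_ y hy⟩
    obtain ⟨j, hj⟩ := hgen hx hu hux _ (hmemB.2 ⟨v, hv, rfl⟩)
    have hz : (g : Perm α)⁻¹ x ∈ B x := hkerB g⁻¹ (inv_mem hg) x hx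
    have hpow : ∀ n : ℕ, ((g * u * (g : Perm α)⁻¹) ^ n) x = ((u ^ i) ^ n) x := fun n => by
      induction n with
      | zero => rfl
      | succ n ih =>
        rw [pow_succ', Perm.mul_apply, ih, pow_succ' (u ^ i), Perm.mul_apply]
        exact agree _ (hNc g.2 hu) _ (P.pow_mem hu i) hi.symm _ (hmemB.2 ⟨_, P.pow_mem (P.pow_mem hu i) n, rfl⟩)
    calc ((g : Perm α) * v * (g : Perm α)⁻¹) x = (g : Perm α) (v ((g : Perm α)⁻¹ x)) := rfl
      _ = (g : Perm α) ((u ^ j) ((g : Perm α)⁻¹ x)) := by rw [agree v hv _ (P.pow_mem hu j) hj.symm _ hz]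
      _ = ((g * u * (g : Perm α)⁻¹) ^ j) x := by rw [conj_pow]; rfl
      _ = ((u ^ i) ^ j) x := hpow j
      _ = (v ^ i) x := by
        rw [← pow_mul, mul_comm, pow_mul]
        have : ∀ n : ℕ, ((u ^ j) ^ n) x = (v ^ n) x := fun n => by
          induction n with
          | zero => rfl
          | succ n ih =>
            rw [pow_succ', Perm.mul_apply, ih, pow_succ' v, Perm.mul_apply]
            exact agree _ (P.pow_mem hu j) _ hv hj _ (hmemB.2 ⟨_, P.pow_mem hv n, rfl⟩)
        exact this i
  set J := T.map π with hJ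
  haveI hJn : J.Normal := hTn.map π hπs
  have hJ1 : J ≠ ⊥ := by
    intro hJ0
    have hJm : ∀ c ∈ T, π c = 1 := fun c hc => Subgroup.mem_bot.1 (hJ0 ▸ (⟨c, hc, rfl⟩ : π c ∈ J))
    rcases Nat.lt_or_ge r 5 with hr5 | hr5
    · -- the action on `P` is scalar
      have hscal : ∀ g : N, g ∈ ψ.ker → ∃ a : ℕ, ∀ v ∈ P, (g : Perm α) * v * (g : Perm α)⁻¹ = v ^ a := by
        intro g hg
        obtain ⟨a, ha⟩ := hsc g hg x₀ hx₀
        refine ⟨a, ?_⟩
        by_cases hst : MulAction.stabilizer P x₀ = ⊥
        · intro v hv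
          have h1 : ∀ w ∈ P, ∀ w' ∈ P, w x₀ = w' x₀ → w = w' := fun w hw w' hw' h => by
            have h2 : (⟨w'⁻¹ * w, P.mul_mem (P.inv_mem hw') hw⟩ : P) ∈ MulAction.stabilizer P x₀ := by
              show (w'⁻¹ * w) x₀ = x₀
              rw [Perm.mul_apply, h]; simp
            rw [hst, Subgroup.mem_bot] at h2
            exact (inv_mul_eq_one.1 (congrArg Subtype.val h2)).symm
          exact h1 _ (hNc g.2 hv) _ (P.pow_mem hv a) (ha v hv x₀ (hBself x₀))
        -- the transfer between two orbits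
        have hstep : ∀ x y z, Out x → Out y → Out z → B x ≠ B y → B x ≠ B z → B y ≠ B z →
            (∀ w, Out w → B w = B x ∨ B w = B y ∨ B w = B z) → (∃ v ∈ P, v ≠ 1 ∧ v z = z) →
            ∀ i, Sc g x i → Sc g y i := by
          intro x y z hx hy hz hxy hxz hyz hall ⟨v, hv, hv1, hvz⟩ i hi
          have hfixB : ∀ w ∈ B z, v w = w := fun w hw => by
            obtain ⟨t, ht, rfl⟩ := hmemB.1 hw
            rw [← Perm.mul_apply, hPcomm v hv t ht, Perm.mul_apply, hvz]
          have hvy : v y ≠ y := fun h => hv1 (hno v hv x hx fun w hw => by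
            have hwo : Out w := Classical.byContradiction fun h' => hw (hfixe hv h')
            rcases hall w hwo with e' | e' | e'
            · exact e' ▸ hBself w
            · exfalso
              obtain ⟨t, ht, rfl⟩ := hmemB.1 (e' ▸ hBself w : w ∈ B y)
              exact hw (by rw [← Perm.mul_apply, hPcomm v hv t ht, Perm.mul_apply, h])
            · exact absurd (hfixB w (e' ▸ hBself w)) hw)
          have hgv : (g : Perm α) * v * (g : Perm α)⁻¹ = v ^ i := by
            refine mul_inv_eq_one.1 (hno _ (P.mul_mem (hNc g.2 hv) (P.inv_mem (P.pow_mem hv i))) y hy fun w hw => ?_)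
            have hwo : Out w := Classical.byContradiction fun h' =>
              hw (hfixe (P.mul_mem (hNc g.2 hv) (P.inv_mem (P.pow_mem hv i))) h')
            rcases hall w hwo with e' | e' | e'
            · exfalso
              refine hw ?_
              have hw' : (v ^ i)⁻¹ w ∈ B x :=
                e' ▸ hmemB.2 ⟨_, P.inv_mem (P.pow_mem hv i), rfl⟩
              rw [Perm.mul_apply, hi v hv _ hw']; simp
            · exact e' ▸ hBself w
            · exfalso
              refine hw ?_
              have hwz : w ∈ B z := e' ▸ hBself w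
              have hn : ∀ n : ℕ, (v ^ n) w = w := fun n => by
                induction n with
                | zero => rfl
                | succ n ih => rw [pow_succ', Perm.mul_apply, ih, hfixB w hwz]
              have h9 : (v ^ i)⁻¹ w = w := by rw [Perm.inv_eq_iff_eq, hn]
              have h10 : (g : Perm α)⁻¹ w ∈ B z := by
                rw [← hBsymm hwz]
                exact hkerB g⁻¹ (inv_mem hg) w hwo
              rw [Perm.mul_apply, h9, Perm.mul_apply, Perm.mul_apply, hfixB _ h10]; simp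
          intro t ht w hw
          obtain ⟨j, hj⟩ := hgen hy hv hvy _ (hmemB.2 ⟨t, ht, rfl⟩)
          have agree' : ∀ s ∈ B y, t s = (v ^ j) s := fun s hs => by
            obtain ⟨q, hq, rfl⟩ := hmemB.1 hs
            rw [← Perm.mul_apply, hPcomm t ht q hq, Perm.mul_apply, ← hj, ← Perm.mul_apply,
              ← hPcomm _ (P.pow_mem hv j) q hq, Perm.mul_apply]
          have hwo := hBout hy hw
          have hgw : (g : Perm α)⁻¹ w ∈ B y := by
            rw [← hBsymm hw]
            exact hkerB g⁻¹ (inv_mem hg) w hwo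
          have hti : ∀ n : ℕ, (t ^ n) w = ((v ^ j) ^ n) w := fun n => by
            induction n with
            | zero => rfl
            | succ n ih =>
              rw [pow_succ', Perm.mul_apply, ih, pow_succ' (v ^ j), Perm.mul_apply]
              exact agree' _ (hBsymm hw ▸ hmemB.2 ⟨_, P.pow_mem (P.pow_mem hv j) n, rfl⟩)
          calc ((g : Perm α) * t * (g : Perm α)⁻¹) w = ((g : Perm α) * v ^ j * (g : Perm α)⁻¹) w := by
                rw [Perm.mul_apply, Perm.mul_apply, agree' _ hgw]; rfl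
            _ = ((v ^ i) ^ j) w := by rw [← conj_pow, hgv]
            _ = (t ^ i) w := by rw [← pow_mul, mul_comm, pow_mul, hti]
        have hker : ∀ z, Out z → ∃ v ∈ P, v ≠ 1 ∧ v z = z := fun z hz => by
          have h1 : Nat.card (MulAction.stabilizer P z) = Nat.card (MulAction.stabilizer P x₀) := by
            have a1 := (MulAction.stabilizer P z).card_mul_index
            have a2 := (MulAction.stabilizer P x₀).card_mul_index
            rw [hBcard z hz] at a1
            rw [hBcard x₀ hx₀] at a2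
            exact Nat.eq_of_mul_eq_mul_right hp.pos (a1.trans a2.symm)
          haveI := (Subgroup.nontrivial_iff_ne_bot _).2 hst
          have h2 := Finite.one_lt_card (α := MulAction.stabilizer P x₀)
          rw [← h1] at h2
          haveI := Finite.one_lt_card_iff_nontrivial.1 h2
          obtain ⟨⟨⟨v, hv⟩, hvz⟩, hv1⟩ := exists_ne (1 : MulAction.stabilizer P z)
          exact ⟨v, hv, fun h => hv1 (Subtype.ext (Subtype.ext h)), hvz⟩
        obtain ⟨u, hu, hu1, hux⟩ := hker x₀ hx₀
        obtain ⟨y, hy⟩ : ∃ y, u y ≠ y := by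
          by_contra hh; push Not at hh; exact hu1 (Equiv.ext hh)
        have hyo : Out y := Classical.byContradiction fun h => hy (hfixe hu h)
        obtain ⟨z, hz, hzy⟩ : ∃ z, u z ≠ z ∧ z ∉ B y := by
          by_contra hh; push Not at hh; exact hu1 (hno u hu y hyo hh)
        have hzo : Out z := Classical.byContradiction fun h => hz (hfixe hu h)
        have hfx : ∀ w ∈ B x₀, u w = w := fun w hw => by
          obtain ⟨t, ht, rfl⟩ := hmemB.1 hw
          rw [← Perm.mul_apply, hPcomm u hu t ht, Perm.mul_apply, hux]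
        have n1 : B x₀ ≠ B y := fun h => hy (hfx y (h ▸ hBself y))
        have n2 : B x₀ ≠ B z := fun h => hz (hfx z (h ▸ hBself z))
        have n3 : B y ≠ B z := fun h => hzy (h ▸ hBself z)
        have hall : ∀ w, Out w → B w = B x₀ ∨ B w = B y ∨ B w = B z := fun w hw => by
          have hsub : ({B x₀, B y, B z} : Finset (Set α)) ⊆ O := by
            intro b hb
            simp only [Finset.mem_insert, Finset.mem_singleton] at hb
            rcases hb with rfl | rfl | rfl
            exacts [hmemO hx₀, hmemO hyo, hmemO hzo]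
          have h3 : ({B x₀, B y, B z} : Finset (Set α)).card = 3 := by
            rw [Finset.card_insert_of_notMem (by simp [n1, n2]), Finset.card_pair n3]
          have := Finset.eq_of_subset_of_card_le hsub (by omega)
          have hw' := hmemO hw
          rw [← this] at hw'
          simpa using hw'
        have ay : Sc g y a := hstep x₀ y z hx₀ hyo hzo n1 n2 n3 hall (hker z hzo) a ha
        have az : Sc g z a := hstep x₀ z y hx₀ hzo hyo n2 n1 n3.symm
          (fun w hw => by rcases hall w hw with h | h | h; exacts [Or.inl h, Or.inr (Or.inr h), Or.inr (Or.inl h)]) (hker y hyo) a ha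
        intro v hv
        refine Equiv.ext fun w => ?_
        by_cases hw : Out w
        · rcases hall w hw with h | h | h
          exacts [ha v hv w (h ▸ hBself w), ay v hv w (h ▸ hBself w), az v hv w (h ▸ hBself w)]
        · rw [hfixe (hNc g.2 hv) hw, hfixe (P.pow_mem hv a) hw]
      obtain ⟨σ, hσI, hσ1⟩ := (Subgroup.bot_or_exists_ne_one I).resolve_left hI1
      obtain ⟨g, hg, rfl⟩ := hσI
      obtain ⟨τ', hτ'⟩ : ∃ τ, π g * τ ≠ τ * π g := by
        by_contra hh; push Not at hh; exact hσ1 (center_perm hr3 _ hh)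
      obtain ⟨τ, rfl⟩ := hπs τ'
      obtain ⟨a, ha⟩ := hscal g hg
      have hc : g * τ * (τ * g)⁻¹ ∈ T := by
        refine ⟨?_, fun x hx u hu => ?_⟩
        · rw [show g * τ * (τ * g)⁻¹ = g * (τ * g⁻¹ * τ⁻¹) by group]
          exact mul_mem hg ((MonoidHom.normal_ker ψ).conj_mem _ (inv_mem hg) τ)
        · -- it centralises `P`
          set v := ((τ * g : N) : Perm α)⁻¹ * u * ((τ * g : N) : Perm α) with hvdef
          have hv : v ∈ P := by
            have := hNc (N.inv_mem (τ * g).2) hu
            rwa [inv_inv] at this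
          have h1 : ((g * τ : N) : Perm α) * v * ((g * τ : N) : Perm α)⁻¹ = u := by
            calc ((g * τ : N) : Perm α) * v * ((g * τ : N) : Perm α)⁻¹
                = (g : Perm α) * ((τ : Perm α) * v * (τ : Perm α)⁻¹) * (g : Perm α)⁻¹ := by
                  simp only [Subgroup.coe_mul]; group
              _ = ((τ : Perm α) * v * (τ : Perm α)⁻¹) ^ a := ha _ (hNc τ.2 hv)
              _ = (τ : Perm α) * ((g : Perm α) * v * (g : Perm α)⁻¹) * (τ : Perm α)⁻¹ := by rw [conj_pow, ha v hv]
              _ = u := by rw [hvdef]; simp only [Subgroup.coe_mul]; group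
          have h2 : ((g * τ * (τ * g)⁻¹ : N) : Perm α) * u = u * ((g * τ * (τ * g)⁻¹ : N) : Perm α) := by
            nth_rewrite 2 [← h1]
            rw [hvdef]; simp only [Subgroup.coe_mul, Subgroup.coe_inv]; group
          exact Equiv.ext_iff.1 h2 x
      have := hJm _ hc
      rw [map_mul, map_inv, map_mul, map_mul, mul_inv_eq_one] at this
      exact hτ' this
    · haveI := (Subgroup.nontrivial_iff_ne_bot I).2 hI1
      have hAI : alternatingGroup (Fin r) ≤ I := Equiv.Perm.alternatingGroup_le_of_normal (by simpa using hr5) inferInstance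
      let i : Fin 5 → Fin r := fun t => ⟨t, by omega⟩
      have hi : ∀ {s t : Fin 5}, s ≠ t → i s ≠ i t := fun h e' => h (Fin.ext (Fin.mk.inj_iff.1 e'))
      have mA : ∀ {a b c : Fin r}, a ≠ b → a ≠ c → b ≠ c → swap a b * swap a c ∈ I := fun hab hac hbc =>
        hAI (Perm.isThreeCycle_swap_mul_swap_same hab hac hbc).mem_alternatingGroup
      obtain ⟨a, ha, ea⟩ := mA (a := i 0) (b := i 1) (c := i 2) (hi (by decide)) (hi (by decide)) (hi (by decide))
      obtain ⟨b, hb, eb⟩ := mA (a := i 0) (b := i 1) (c := i 3) (hi (by decide)) (hi (by decide)) (hi (by decide))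
      have hc : a * b * (b * a)⁻¹ ∈ T := by
        refine ⟨mul_mem (mul_mem ha hb) (inv_mem (mul_mem hb ha)), fun x hx u hu => ?_⟩
        obtain ⟨s, hs⟩ := hsc a ha x hx
        obtain ⟨t, ht⟩ := hsc b hb x hx
        set v := ((b * a : N) : Perm α)⁻¹ * u * ((b * a : N) : Perm α) with hvdef
        have hv : v ∈ P := by
          have := hNc (N.inv_mem (b * a).2) hu
          rwa [inv_inv] at this
        have comp : ∀ (g h : N) (s t : ℕ), g ∈ ψ.ker → Sc g x s → Sc h x t → ∀ y ∈ B x,
            ((g : Perm α) * ((h : Perm α) * v * (h : Perm α)⁻¹) * (g : Perm α)⁻¹) y = ((v ^ t) ^ s) y := by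
          intro g h s t hg hgs hht y hy
          have hy' : (g : Perm α)⁻¹ y ∈ B x := hBsymm hy ▸ hkerB g⁻¹ (inv_mem hg) y (hBout hx hy)
          rw [← hgs _ (P.pow_mem hv t) y hy, Perm.mul_apply, Perm.mul_apply, hht v hv _ hy']
          rfl
        set c := ((a * b * (b * a)⁻¹ : N) : Perm α) with hcdef
        have hcx : c x ∈ B x := hkerB _ (mul_mem (mul_mem ha hb) (inv_mem (mul_mem hb ha))) x hx
        have h1 := comp a b s t ha hs ht (c x) hcx
        have h2 := comp b a t s hb ht hs (c x) hcx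
        have e1 : (a : Perm α) * ((b : Perm α) * v * (b : Perm α)⁻¹) * (a : Perm α)⁻¹ = c * u * c⁻¹ := by
          rw [hcdef, hvdef]; simp only [Subgroup.coe_mul, Subgroup.coe_inv]; group
        have e2 : (b : Perm α) * ((a : Perm α) * v * (a : Perm α)⁻¹) * (b : Perm α)⁻¹ = u := by
          rw [hvdef]; simp only [Subgroup.coe_mul]; group
        rw [e1, ← pow_mul] at h1
        rw [e2, ← pow_mul, mul_comm s t] at h2
        rw [mul_comm t s] at h1
        rw [h2, mul_comm t s, ← h1]
        simp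
      have := hJm _ hc
      rw [map_mul, map_inv, map_mul, map_mul, mul_inv_eq_one, ea, eb] at this
      have h9 := Equiv.ext_iff.1 this (i 2)
      simp [Perm.mul_apply, Equiv.swap_apply_def, i, Fin.ext_iff] at h9
  have hcpow : ∀ c ∈ T, (∀ x, Out x → ((c : Perm α) ^ p) x = x) ∧
      ∀ i, ((c : Perm α) ^ p) (e i) = e (((π c) ^ p) i) := fun c hc => by
    refine ⟨fun x hx => ?_, fun i => by rw [← SubgroupClass.coe_pow, hπ, map_pow]⟩
    obtain ⟨u, hu, hux⟩ := hmemB.1 (hkerB c hc.1 x hx)
    have : ∀ n : ℕ, ((c : Perm α) ^ n) x = (u ^ n) x := fun n => by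
      induction n with
      | zero => rfl
      | succ n ih => rw [pow_succ', Perm.mul_apply, ih, hc.2 x hx _ (P.pow_mem hu n), ← hux, ← Perm.mul_apply, ← pow_succ]
    rw [this, hPpow u hu, Perm.one_apply]
  have hp2' : p ≠ 2 := by omega
  rcases Nat.lt_or_ge r 4 with hr4 | hr4
  · obtain rfl : r = 3 := by omega
    have hp3' : p ≠ 3 := fun h => hexc ⟨rfl, h⟩
    obtain ⟨σ, hσ, hσ1⟩ := (Subgroup.bot_or_exists_ne_one J).resolve_left hJ1
    obtain ⟨τ, hτ⟩ := normal_three σ hσ1
    obtain ⟨c, hc, hcw⟩ : σ * τ * σ⁻¹ * τ⁻¹ ∈ J := by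
      rw [show σ * τ * σ⁻¹ * τ⁻¹ = σ * (τ * σ⁻¹ * τ⁻¹) by group]
      exact mul_mem hσ (hJn.conj_mem _ (inv_mem hσ) τ)
    have key : ∀ w : Perm (Fin 3), (∀ i, w i ≠ i) → w ^ 3 = 1 ∧ ∀ i, (w ^ 2) i ≠ i := by decide +kernel
    obtain ⟨w3, w2⟩ := key _ hτ
    have hwp : ∀ i, ((π c) ^ p) i ≠ i := by
      intro i
      rw [hcw, pow_eq_pow_mod p w3]
      rcases (show p % 3 = 1 ∨ p % 3 = 2 by
        have : ¬ 3 ∣ p := fun h => hp3' ((Nat.prime_dvd_prime_iff_eq Nat.prime_three hp).1 h).symm
        omega) with h | h <;> rw [h]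
      · rw [pow_one]; exact hτ i
      · exact w2 i
    obtain ⟨hco, hce⟩ := hcpow c hc
    have hsupp : ((c : Perm α) ^ p).support = Finset.univ.map e := by
      ext x
      simp only [Perm.mem_support, Finset.mem_map, Finset.mem_univ, true_and]
      constructor
      · intro h
        by_contra hh
        exact h (hco x fun i hi => hh ⟨i, hi⟩)
      · rintro ⟨i, rfl⟩
        rw [hce]; exact fun h => hwp i (e.injective h)
    exact hA (Equiv.Perm.alternatingGroup_le_of_isPreprimitive_of_isThreeCycle_mem hprim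
      (card_support_eq_three_iff.1 (by rw [hsupp, Finset.card_map, Finset.card_univ, Fintype.card_fin]))
      (G.pow_mem c.2.1.1 p))
  obtain ⟨a, b, c₁, d, hab, hac, had, hbc, hbd, hcd, hD⟩ : ∃ a b c d : Fin r, a ≠ b ∧ a ≠ c ∧ a ≠ d ∧ b ≠ c ∧ b ≠ d ∧ c ≠ d ∧
      swap a b * swap c d ∈ J := by
    rcases Nat.lt_or_ge r 5 with hr5 | hr5
    · obtain rfl : r = 4 := by omega
      obtain ⟨σ, hσ, hσ1⟩ := (Subgroup.bot_or_exists_ne_one J).resolve_left hJ1
      obtain ⟨τ₁, τ₂, hmem⟩ := normal_four σ hσ1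
      have hJc : ∀ a ∈ J, ∀ b, a * b * a⁻¹ * b⁻¹ ∈ J := fun a ha b => by
        rw [show a * b * a⁻¹ * b⁻¹ = a * (b * a⁻¹ * b⁻¹) by group]
        exact mul_mem ha (hJn.conj_mem _ (inv_mem ha) b)
      have hw := hJc _ (hJc σ hσ τ₁) τ₂
      simp only [List.mem_cons, List.not_mem_nil, or_false] at hmem
      rcases hmem with h | h | h <;> rw [h] at hw
      · exact ⟨0, 1, 2, 3, by decide, by decide, by decide, by decide, by decide, by decide, hw⟩
      · exact ⟨0, 2, 1, 3, by decide, by decide, by decide, by decide, by decide, by decide, hw⟩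
      · exact ⟨0, 3, 1, 2, by decide, by decide, by decide, by decide, by decide, by decide, hw⟩
    · haveI := (Subgroup.nontrivial_iff_ne_bot J).2 hJ1
      have hAJ : alternatingGroup (Fin r) ≤ J := Equiv.Perm.alternatingGroup_le_of_normal (by simpa using hr5) inferInstance
      refine ⟨⟨0, by omega⟩, ⟨1, by omega⟩, ⟨2, by omega⟩, ⟨3, by omega⟩, by simp, by simp, by simp, by simp, by simp, by simp, hAJ ?_⟩
      rw [Perm.mem_alternatingGroup, map_mul, Perm.sign_swap (by simp), Perm.sign_swap (by simp)]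
      rfl
  obtain ⟨c, hc, hcw⟩ := hD
  obtain ⟨hco, hce⟩ := hcpow c hc
  have hw2 : (swap a b * swap c₁ d) ^ 2 = 1 := by
    have hcomm : Commute (swap a b) (swap c₁ d) := (Perm.disjoint_iff_disjoint_support.2 (by
      rw [Perm.support_swap hcd, Perm.support_swap hab]
      simp [hac.symm, hbc.symm, had.symm, hbd.symm, hac, hbc, had, hbd])).commute
    rw [hcomm.mul_pow, pow_two, pow_two, Equiv.swap_mul_self, Equiv.swap_mul_self, one_mul]
  have hwp : (π c) ^ p = swap a b * swap c₁ d := by
    rw [hcw, pow_eq_pow_mod p hw2, Nat.odd_iff.1 (hp.odd_of_ne_two hp2'), pow_one]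
  have hceq : (c : Perm α) ^ p = swap (e a) (e b) * swap (e c₁) (e d) := by
    refine Equiv.ext fun x => ?_
    by_cases hx : Out x
    · rw [hco x hx, Perm.mul_apply, Equiv.swap_apply_of_ne_of_ne (Ne.symm (hx c₁)) (Ne.symm (hx d)),
        Equiv.swap_apply_of_ne_of_ne (Ne.symm (hx a)) (Ne.symm (hx b))]
    · simp only [Out, ne_eq, not_forall, not_not] at hx
      obtain ⟨i, rfl⟩ := hx
      rw [hce, hwp, Perm.mul_apply, Perm.mul_apply, e.injective.map_swap, e.injective.map_swap]
  exact hA (of_double G hprim h4 hn5 (e.injective.ne hab) (e.injective.ne hac) (e.injective.ne had) (e.injective.ne hbc)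
    (e.injective.ne hbd) (e.injective.ne hcd) (hceq ▸ G.pow_mem c.2.1.1 p))

end Cfsg.Agent.S4220
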