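import Mathlib
-- Template for statement S4223 (row 4223; see /opt/grader/pristine/manifest.json for weights).
-- Copy to Cfsg/Agent/S4223.lean and replace the sorry. The statement below is byte-identical to the frozen
-- statement Cfsg.CfsgFrozen.S4223 (Cfsg/Statements/S4223.lean; the theorem Cfsg.fg14_direct_decomposition_unique_up_to_isomorphism);
-- the grader kernel-checks Cfsg.Agent.S4223.result against that frozen type. Keep the theorem IN THIS FILE
-- (a `result` declared elsewhere and merely imported here is not credited); helpers may live anywhere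
-- under Cfsg/Agent/.
import Cfsg.Statements.S4223
-- import your own Cfsg.Agent.* helpers here

set_option autoImplicit false
open Cfsg

namespace Cfsg.Agent.S4223

/-- Directly indecomposable nontrivial group. -/
def Indec (A : Type*) [Group A] : Prop :=
  Nontrivial A ∧ ∀ H K : Subgroup A, H.Normal → K.Normal → H ⊓ K = ⊥ → H ⊔ K = ⊤ → H = ⊥ ∨ K = ⊥

theorem fitting {A : Type*} [Group A] [Finite A] (hA : Indec A) (φ : A →* A)
    (hn : ∀ g x, φ (g * x * g⁻¹) = g * φ x * g⁻¹) :
    Function.Bijective φ ∨ ∃ k : ℕ, ∀ x, φ^[k] x = 1 := by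
  obtain ⟨i, j, hne, hij⟩ := Finite.exists_ne_map_eq_of_infinite (fun i : ℕ => φ^[i])
  wlog hlt : i < j generalizing i j
  · exact this j i hne.symm hij.symm (by omega)
  obtain ⟨d, rfl⟩ : ∃ d, j = i + (d + 1) := ⟨j - i - 1, by omega⟩
  have hper : ∀ t r, i ≤ r → φ^[r + t * (d + 1)] = φ^[r] := by
    intro t
    induction t with
    | zero => simp
    | succ t ih =>
      intro r hr
      obtain ⟨s, rfl⟩ : ∃ s, r = s + i := ⟨r - i, by omega⟩
      rw [show s + i + (t + 1) * (d + 1) = s + t * (d + 1) + (i + (d + 1)) by ring, Function.iterate_add,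
        ← hij, ← Function.iterate_add, show s + t * (d + 1) + i = s + i + t * (d + 1) by ring]
      exact ih _ hr
  set k := (i + 1) * (d + 1) with hk
  have hidem : ∀ x, φ^[k] (φ^[k] x) = φ^[k] x := fun x => by
    rw [← Function.iterate_add_apply]
    exact congrFun (hper (i + 1) k (by rw [hk]; nlinarith)) x
  have hnk : ∀ r g x, φ^[r] (g * x * g⁻¹) = g * φ^[r] x * g⁻¹ := by
    intro r g
    induction r with
    | zero => simp
    | succ r ih => intro x; rw [Function.iterate_succ_apply', ih, hn, ← Function.iterate_succ_apply' φ r]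
  let e : A →* A :=
    { toFun := φ^[k]
      map_one' := iterate_map_one φ k
      map_mul' := iterate_map_mul φ k }
  have he : ∀ x, e x = φ^[k] x := fun x => rfl
  haveI : e.range.Normal := ⟨by
    rintro _ ⟨x, rfl⟩ g
    exact ⟨g * x * g⁻¹, hnk k g x⟩⟩
  rcases hA.2 e.ker e.range inferInstance inferInstance (by
      rw [eq_bot_iff]
      rintro x ⟨hx, y, rfl⟩
      have h1 : e (e y) = 1 := hx
      rw [he (e y), he y, hidem] at h1
      exact h1) (by
      rw [eq_top_iff]
      intro x _
      have h1 : x * (e x)⁻¹ ∈ e.ker := by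
        rw [MonoidHom.mem_ker, map_mul, map_inv, show e (e x) = e x from hidem x, mul_inv_cancel]
      have := Subgroup.mul_mem_sup h1 (MonoidHom.mem_range.2 ⟨x, rfl⟩ : e x ∈ e.range)
      rwa [inv_mul_cancel_right] at this) with h | h
  · left
    have hinj : Function.Injective φ := fun x y hxy => by
      refine (MonoidHom.ker_eq_bot_iff e).1 h ?_
      show φ^[k] x = φ^[k] y
      rw [show k = (i + 1) * (d + 1) - 1 + 1 by rw [hk]; have : 0 < (i + 1) * (d + 1) := by positivity
                                                omega,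
        Function.iterate_succ_apply, Function.iterate_succ_apply, hxy]
    exact ⟨hinj, Finite.injective_iff_surjective.1 hinj⟩
  · right
    refine ⟨k, fun x => ?_⟩
    have h1 : e x ∈ e.range := ⟨x, rfl⟩
    rwa [h, Subgroup.mem_bot] at h1

theorem split {A : Type*} [Group A] [Finite A] (hA : Indec A) (f g h : A →* A)
    (hfn : ∀ a x, f (a * x * a⁻¹) = a * f x * a⁻¹) (hhn : ∀ a x, h (a * x * a⁻¹) = a * h x * a⁻¹)
    (hfg : ∀ x, h x = f x * g x) (hb : Function.Bijective h) :
    Function.Bijective f ∨ Function.Bijective g := by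
  let u := (MulEquiv.ofBijective h hb).symm
  have hu : ∀ x, h (u x) = x := (MulEquiv.ofBijective h hb).apply_symm_apply
  have hun : ∀ a x, u (a * x * a⁻¹) = a * u x * a⁻¹ := fun a x => hb.1 (by rw [hu, hhn, hu])
  rcases fitting hA (u.toMonoidHom.comp f) (fun a x => by
    show u (f (a * x * a⁻¹)) = a * u (f x) * a⁻¹
    rw [hfn, hun]) with hbij | ⟨k, hk⟩
  · left
    have h1 : Function.Bijective (u ∘ f) := hbij
    exact (Function.Bijective.of_comp_iff' u.bijective f).1 h1
  · right
    have hinj : Function.Injective g := by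
      rw [injective_iff_map_eq_one]
      intro x hx
      have h1 : u (f x) = x := hb.1 (by rw [hu, hfg, hx, mul_one])
      rw [← hk x]
      exact (Function.iterate_fixed h1 k).symm
    exact ⟨hinj, Finite.injective_iff_surjective.1 hinj⟩

theorem main : ∀ {m n : ℕ} {A : Fin m → Type*} {B : Fin n → Type*} [∀ i, Group (A i)] [∀ j, Group (B j)]
    [∀ i, Finite (A i)] [∀ j, Finite (B j)], (∀ i, Indec (A i)) → (∀ j, Indec (B j)) →
    (((i : Fin m) → A i) ≃* ((j : Fin n) → B j)) → ∃ σ : Fin m ≃ Fin n, ∀ i, Nonempty (A i ≃* B (σ i)) := by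
  intro m
  induction m with
  | zero =>
    intro n A B _ _ _ _ hA hB e
    obtain rfl : n = 0 := by
      by_contra hn
      obtain ⟨b, b', hbb⟩ := (hB ⟨0, Nat.pos_of_ne_zero hn⟩).1.exists_pair_ne
      refine hbb ?_
      have h1 := congrArg (fun y => y ⟨0, Nat.pos_of_ne_zero hn⟩)
        (e.symm.injective (Subsingleton.elim (e.symm (MonoidHom.mulSingle B _ b)) (e.symm (MonoidHom.mulSingle B _ b'))))
      simpa using h1
    exact ⟨Equiv.refl _, fun i => i.elim0⟩
  | succ m ih =>
    intro n A B _ _ _ _ hA hB e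
    classical
    let R : Finset (Fin n) → (((j : Fin n) → B j) →* ((j : Fin n) → B j)) := fun s =>
      { toFun := fun y j => if j ∈ s then y j else 1
        map_one' := by funext j; by_cases hj : j ∈ s <;> simp [hj]
        map_mul' := fun y z => by funext j; by_cases hj : j ∈ s <;> simp [hj] }
    let ι : A 0 →* ((i : Fin (m + 1)) → A i) := MonoidHom.mulSingle A 0
    have hι : ∀ a, ι a 0 = a := fun a => Pi.mulSingle_eq_same 0 a
    let H : Finset (Fin n) → (A 0 →* A 0) := fun s =>
      (Pi.evalMonoidHom A 0).comp (e.symm.toMonoidHom.comp ((R s).comp (e.toMonoidHom.comp ι)))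
    have hH : ∀ s a, H s a = e.symm (R s (e (ι a))) 0 := fun s a => rfl
    have hHn : ∀ s a x, H s (a * x * a⁻¹) = a * H s x * a⁻¹ := by
      intro s a x
      have h1 : R s (e (ι (a * x * a⁻¹))) = e (ι a) * R s (e (ι x)) * (e (ι a))⁻¹ := by
        simp only [map_mul, map_inv]
        funext j
        simp only [R, MonoidHom.coe_mk, OneHom.coe_mk, Pi.mul_apply, Pi.inv_apply]
        by_cases hj : j ∈ s <;> simp [hj]
      rw [hH, h1, map_mul, map_mul, map_inv, e.symm_apply_apply, Pi.mul_apply, Pi.mul_apply, Pi.inv_apply, hι, hH]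
    have hex : ∀ s : Finset (Fin n), Function.Bijective (H s) → ∃ j, Function.Bijective (H {j}) := by
      intro s
      induction s using Finset.induction with
      | empty =>
        intro hb
        exfalso
        haveI := (hA 0).1
        obtain ⟨a, b, hab⟩ := exists_pair_ne (A 0)
        refine hab (hb.1 ?_)
        have h0 : ∀ y, R ∅ y = 1 := fun y => by funext j; simp [R]
        rw [hH, hH, h0, h0]
      | @insert j s hj hs =>
        intro hb
        rcases split (hA 0) (H {j}) (H s) (H (insert j s)) (hHn _) (hHn _) (fun a => by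
          rw [hH, hH, hH, ← Pi.mul_apply, ← map_mul]
          refine congrArg (fun y => e.symm y 0) ?_
          funext k
          simp only [R, MonoidHom.coe_mk, OneHom.coe_mk, Pi.mul_apply, Finset.mem_insert, Finset.mem_singleton]
          by_cases hk : k = j
          · subst hk; simp [hj]
          · simp [hk]) hb with h | h
        · exact ⟨j, h⟩
        · exact hs h
    obtain ⟨j₀, hj₀⟩ := hex Finset.univ (by
      have h0 : ∀ a, H Finset.univ a = a := fun a => by
        rw [hH, show R Finset.univ (e (ι a)) = e (ι a) by funext j; simp [R], e.symm_apply_apply, hι]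
      exact ⟨fun a b hab => by rwa [h0, h0] at hab, fun a => ⟨a, h0 a⟩⟩)
    let ψ : A 0 →* B j₀ := (Pi.evalMonoidHom B j₀).comp (e.toMonoidHom.comp ι)
    let ρ : B j₀ →* A 0 := (Pi.evalMonoidHom A 0).comp (e.symm.toMonoidHom.comp (MonoidHom.mulSingle B j₀))
    have hρψ : ∀ a, ρ (ψ a) = H {j₀} a := by
      intro a
      rw [hH]
      show e.symm (Pi.mulSingle j₀ (e (ι a) j₀)) 0 = _
      refine congrArg (fun y => e.symm y 0) ?_
      funext k
      by_cases hk : k = j₀
      · subst hk; simp [R]
      · simp [R, hk]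
    haveI : ψ.range.Normal := ⟨by
      rintro _ ⟨a, rfl⟩ b
      obtain ⟨x, hx⟩ := e.surjective (Pi.mulSingle j₀ b)
      refine ⟨x 0 * a * (x 0)⁻¹, ?_⟩
      have h1 : ι (x 0 * a * (x 0)⁻¹) = x * ι a * x⁻¹ := by
        funext i
        by_cases hi : i = 0
        · subst hi; simp [ι]
        · simp [ι, hi]
      show e (ι (x 0 * a * (x 0)⁻¹)) j₀ = b * e (ι a) j₀ * b⁻¹
      rw [h1, map_mul, map_mul, map_inv, Pi.mul_apply, Pi.mul_apply, Pi.inv_apply, hx, Pi.mulSingle_eq_same]⟩
    have hψinj : Function.Injective ψ := fun a b hab => hj₀.1 (by rw [← hρψ, ← hρψ, hab])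
    have hρker : ρ.ker = ⊥ := by
      refine ((hB j₀).2 ρ.ker ψ.range inferInstance inferInstance ?_ ?_).resolve_right fun h => ?_
      · rw [eq_bot_iff]
        rintro b ⟨hb, a, rfl⟩
        have h1 : H {j₀} a = H {j₀} 1 := by rw [map_one, ← hρψ]; exact hb
        rw [hj₀.1 h1, map_one]
        exact one_mem _
      · rw [eq_top_iff]
        intro b _
        obtain ⟨a, ha⟩ := hj₀.2 (ρ b)
        have h1 : b * (ψ a)⁻¹ ∈ ρ.ker := by rw [MonoidHom.mem_ker, map_mul, map_inv, hρψ, ha, mul_inv_cancel]
        have := Subgroup.mul_mem_sup h1 (MonoidHom.mem_range.2 ⟨a, rfl⟩ : ψ a ∈ ψ.range)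
        rwa [inv_mul_cancel_right] at this
      · haveI := (hA 0).1
        obtain ⟨a, b, hab⟩ := exists_pair_ne (A 0)
        refine hab (hψinj ?_)
        have h1 : ψ a ∈ ψ.range := ⟨a, rfl⟩
        have h2 : ψ b ∈ ψ.range := ⟨b, rfl⟩
        rw [h, Subgroup.mem_bot] at h1 h2
        rw [h1, h2]
    have hρinj : Function.Injective ρ := (MonoidHom.ker_eq_bot_iff ρ).1 hρker
    let E₀ : A 0 ≃* B j₀ := MulEquiv.ofBijective ψ ⟨hψinj, fun b => by
      obtain ⟨a, ha⟩ := hj₀.2 (ρ b)
      exact ⟨a, hρinj ((hρψ a).trans ha)⟩⟩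
    obtain ⟨k, rfl⟩ : ∃ k, n = k + 1 := ⟨n - 1, by have := j₀.isLt; omega⟩
    let ins : ((i : Fin m) → A i.succ) →* ((i : Fin (m + 1)) → A i) :=
      { toFun := fun x => Fin.cons 1 x
        map_one' := by funext i; refine Fin.cases ?_ (fun i => ?_) i <;> simp
        map_mul' := fun x y => by funext i; refine Fin.cases ?_ (fun i => ?_) i <;> simp }
    let forget : ((j : Fin (k + 1)) → B j) →* ((j : Fin k) → B (j₀.succAbove j)) :=
      { toFun := fun y j => y (j₀.succAbove j)
        map_one' := rfl
        map_mul' := fun _ _ => rfl }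
    have hinj : Function.Injective (forget.comp (e.toMonoidHom.comp ins)) := by
      rw [injective_iff_map_eq_one]
      intro x hx
      have h1 : e (ins x) = Pi.mulSingle j₀ (e (ins x) j₀) := by
        funext j
        rcases eq_or_ne j j₀ with rfl | hj
        · simp
        · obtain ⟨l, rfl⟩ := Fin.exists_succAbove_eq hj
          rw [Pi.mulSingle_eq_of_ne hj]
          exact congrFun hx l
      have h2 : ρ (e (ins x) j₀) = 1 := by
        show e.symm (Pi.mulSingle j₀ (e (ins x) j₀)) 0 = 1
        rw [← h1, e.symm_apply_apply]; rfl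
      have h3 : e (ins x) = 1 := by
        rw [h1, hρinj (h2.trans (map_one ρ).symm), Pi.mulSingle_one]
      funext i
      have h4 := congrFun (e.injective (h3.trans (map_one e).symm)) i.succ
      simpa [ins] using h4
    have hcard : Nat.card ((i : Fin m) → A i.succ) = Nat.card ((j : Fin k) → B (j₀.succAbove j)) := by
      have h1 := Nat.card_congr e.toEquiv
      rw [Nat.card_congr (Fin.consEquiv A).symm, Nat.card_congr (Fin.insertNthEquiv B j₀).symm, Nat.card_prod,
        Nat.card_prod, Nat.card_congr E₀.toEquiv] at h1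
      exact Nat.eq_of_mul_eq_mul_left Nat.card_pos h1
    let e' := MulEquiv.ofBijective (forget.comp (e.toMonoidHom.comp ins))
      ((Nat.bijective_iff_injective_and_card _).2 ⟨hinj, hcard⟩)
    obtain ⟨σ', hσ'⟩ := ih (A := fun i => A i.succ) (B := fun j => B (j₀.succAbove j)) (fun i => hA _) (fun j => hB _) e'
    refine ⟨(finSuccEquiv m).trans ((Equiv.optionCongr σ').trans (finSuccEquiv' j₀).symm), fun i => ?_⟩
    refine Fin.cases ?_ (fun i => ?_) i
    · simp only [Equiv.trans_apply, finSuccEquiv_zero, Equiv.optionCongr_apply, Option.map_none, finSuccEquiv'_symm_none]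
      exact ⟨E₀⟩
    · simp only [Equiv.trans_apply, finSuccEquiv_succ, Equiv.optionCongr_apply, Option.map_some, finSuccEquiv'_symm_some]
      exact hσ' i

/-- If a finite group is isomorphic both to a direct product of `m` directly indecomposable nontrivial groups and to a direct product of `n` such groups (a group is directly indecomposable when it is not the internal direct product of two nontrivial normal subgroups), then `m = n` and the factors are isomorphic in pairs after a suitable matching. -/
theorem result {m n : ℕ} {A : Fin m → Type*} {B : Fin n → Type*} [∀ i, Group (A i)] [∀ j, Group (B j)] [∀ i, Finite (A i)] [∀ j, Finite (B j)] (hA : ∀ i, Nontrivial (A i) ∧ ∀ H K : Subgroup (A i), H.Normal → K.Normal → H ⊓ K = ⊥ → H ⊔ K = ⊤ → H = ⊥ ∨ K = ⊥) (hB : ∀ j, Nontrivial (B j) ∧ ∀ H K : Subgroup (B j), H.Normal → K.Normal → H ⊓ K = ⊥ → H ⊔ K = ⊤ → H = ⊥ ∨ K = ⊥) (e : ((i : Fin m) → A i) ≃* ((j : Fin n) → B j)) : ∃ σ : Fin m ≃ Fin n, ∀ i, Nonempty (A i ≃* B (σ i)) := main hA hB e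

end Cfsg.Agent.S4223
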