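import Cfsg.Statements.S4224

import Cfsg.Agent.Perm.RegularP

set_option autoImplicit false
set_option linter.style.haveILetI false
open Cfsg

namespace Cfsg.Agent.S4224

/-- In a regular `p`-group, for all elements `a`, `b` and every power `q = p^k`: `a^q` commutes with `b` if and only if the commutator `a⁻¹b⁻¹ab` has `q`-th power equal to `1`. -/
theorem result {G : Type*} [Group G] [Finite G] {p : ℕ} [Fact p.Prime] (hG : Cfsg.IsRegularPGroup p G) (a b : G) (k : ℕ) : a ^ p ^ k * b = b * a ^ p ^ k ↔ (a⁻¹ * b⁻¹ * a * b) ^ p ^ k = 1 := by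
  have h := CfsgLib.Perm.RegularP.pow_eq_pow_iff hG k (b⁻¹ * a * b) a
  have e1 : (b⁻¹ * a * b) ^ p ^ k = b⁻¹ * a ^ p ^ k * b := by
    rw [show b⁻¹ * a * b = b⁻¹ * a * (b⁻¹)⁻¹ by group, conj_pow, inv_inv]
  have e2 : (a⁻¹ * b⁻¹ * a * b) ^ p ^ k = a⁻¹ * (b⁻¹ * a * b * a⁻¹) ^ p ^ k * a := by
    rw [show a⁻¹ * b⁻¹ * a * b = a⁻¹ * (b⁻¹ * a * b * a⁻¹) * (a⁻¹)⁻¹ by group, conj_pow, inv_inv]
  constructor
  · intro hc
    rw [e2, h.mp (by rw [e1, mul_assoc, hc, inv_mul_cancel_left]), mul_one, inv_mul_cancel]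
  · intro hc
    have h1 : (b⁻¹ * a * b * a⁻¹) ^ p ^ k = 1 := by
      rw [e2, mul_assoc, inv_mul_eq_one] at hc
      exact mul_eq_right.mp hc.symm
    have h2 := h.mpr h1
    rw [e1, mul_assoc, inv_mul_eq_iff_eq_mul] at h2
    exact h2

end Cfsg.Agent.S4224
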