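import Cfsg.Statements.S4226

import Cfsg.Agent.Perm.TransferResidual

set_option autoImplicit false
set_option linter.style.haveILetI false
open Cfsg

namespace Cfsg.Agent.S4226

/-- Let `P` be a Sylow `p`-subgroup of the finite group `G` with nilpotency class less than `p` (the term of index `p - 1` of the lower central series of `P`, indexed from `0`, is trivial), and let `N` be its normalizer. Then `O^p(N) = O^p(G) ∩ N`, where `O^p` denotes the subgroup generated by the elements of order prime to `p`; so the largest `p`-factor groups of `G` and of `N` are isomorphic. -/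
theorem result {G : Type*} [Group G] [Finite G] {p : ℕ} [Fact p.Prime] (P : Sylow p G) (hcl : (P : Subgroup G).lowerCentralSeries (p - 1) = ⊥) : Cfsg.pResidualOf p (Subgroup.normalizer ((P : Subgroup G) : Set G)) = Cfsg.pResidual p G ⊓ Subgroup.normalizer ((P : Subgroup G) : Set G) := by
  have hQ : Cfsg.IsWeaklyClosed (P : Subgroup G) (P : Subgroup G) := ⟨le_rfl, fun g hg =>
    Subgroup.eq_of_le_of_card_ge hg (le_of_eq (Subgroup.card_map_of_injective (MulEquiv.injective _)).symm)⟩
  have hit : ∀ (n : ℕ), ∀ u ∈ (P : Subgroup G), ∀ z ∈ (P : Subgroup G),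
      (fun y : G => y⁻¹ * z⁻¹ * y * z)^[n] u ∈ (P : Subgroup G).lowerCentralSeries n := by
    intro n
    induction n with
    | zero => intro u hu z _; simpa using hu
    | succ n ih =>
      intro u hu z hz
      rw [Function.iterate_succ_apply', Subgroup.lowerCentralSeries_succ]
      have := Subgroup.commutator_mem_commutator (Subgroup.inv_mem _ (ih u hu z hz)) (Subgroup.inv_mem _ hz)
      simpa [commutatorElement_def] using this
  set M := Subgroup.normalizer ((P : Subgroup G) : Set G)
  have hSM : (P : Subgroup G) ≤ M := Subgroup.le_normalizer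
  refine CfsgLib.Perm.TransferRes.residual_eq_inf P hSM (CfsgLib.Perm.TransferRes.inf_residual_eq P hSM ?_)
  by_contra hne
  obtain ⟨x, hx, z, hz, W₀, -, -, hnot⟩ := Cfsg.Agent.S2792.main P _ hQ hne
  apply hnot
  have h1 := hit (p - 1) x hx z hz
  rw [hcl, Subgroup.mem_bot] at h1
  rw [h1]
  exact Subgroup.one_mem _

end Cfsg.Agent.S4226
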