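import Cfsg.Statements.S4227

import Mathlib
import Cfsg.Agent.Solv.Basic
import Cfsg.Agent.Solv.FittingBasic
import Cfsg.Agent.Solv.CoprimeAction
import Cfsg.Agent.Char.Burnside

set_option autoImplicit false
set_option linter.style.haveILetI false
open Cfsg

namespace Cfsg.Agent.S4227
open scoped commutatorElement Pointwise

universe u

theorem orders {G : Type u} [Group G] [Finite G] (h : ∀ x : G, x ^ 6 = 1) {r : ℕ} (hr : r.Prime)
    (hd : r ∣ Nat.card G) : r = 2 ∨ r = 3 := by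
  haveI := Fact.mk hr
  obtain ⟨x, hx⟩ := exists_prime_orderOf_dvd_card' r hd
  have h6 : r ∣ 2 * 3 := hx ▸ orderOf_dvd_of_pow_eq_one (h x)
  rcases hr.dvd_mul.1 h6 with e | e
  · exact Or.inl ((Nat.prime_dvd_prime_iff_eq hr Nat.prime_two).1 e)
  · exact Or.inr ((Nat.prime_dvd_prime_iff_eq hr Nat.prime_three).1 e)

theorem solv {G : Type u} [Group G] [Finite G] (h : ∀ x : G, x ^ 6 = 1) : Group.IsSolvable G := by
  obtain ⟨a, m, hm, hcard⟩ := Nat.exists_eq_pow_mul_and_not_dvd (Nat.card_pos (α := G)).ne' 2 (by norm_num)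
  have hm3 : m = 3 ^ m.primeFactorsList.length := by
    refine Nat.eq_prime_pow_of_unique_prime_dvd (fun h0 => hm (h0 ▸ dvd_zero 2)) fun {r} hr hd => ?_
    rcases orders h hr (hcard ▸ hd.trans (dvd_mul_left m _)) with e | e
    · exact absurd (e ▸ hd) hm
    · exact e
  exact CfsgLib.Char.solvable_of_card_two_primes 2 3 a _ Nat.prime_two Nat.prime_three (hm3 ▸ hcard)

theorem pow_p {G : Type u} [Group G] [Finite G] (h : ∀ x : G, x ^ 6 = 1) {p : ℕ} (hp : p = 2 ∨ p = 3)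
    {x : G} {k : ℕ} (hk : x ^ p ^ k = 1) : x ^ p = 1 := by
  have h1 := Nat.dvd_gcd (orderOf_dvd_of_pow_eq_one hk) (orderOf_dvd_of_pow_eq_one (h x))
  rw [← orderOf_dvd_iff_pow_eq_one]
  refine h1.trans ?_
  have hpp : p.Prime := by rcases hp with rfl | rfl <;> norm_num
  obtain ⟨i, -, hi⟩ := (Nat.dvd_prime_pow hpp).1 (Nat.gcd_dvd_left (p ^ k) 6)
  rw [hi]
  have h6 : p ^ i ∣ 6 := hi ▸ Nat.gcd_dvd_right (p ^ k) 6
  rcases Nat.lt_or_ge i 2 with hi2 | hi2
  · exact (Nat.pow_dvd_pow p (show i ≤ 1 by omega)).trans (by rw [pow_one])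
  · exfalso
    have h7 := (Nat.pow_dvd_pow p hi2).trans h6
    rcases hp with rfl | rfl <;> norm_num at h7

/-- The computation behind `3`-length one. -/
theorem no_four {Y : Type u} [Group Y] (W : Subgroup Y) (hW : IsMulCommutative W) (hW3 : ∀ w ∈ W, w ^ 3 = 1)
    (x a b c : Y) (hx : x ^ 3 = 1) (hW' : ∀ y ∈ ({x, a, b, c} : Set Y), ∀ w ∈ W, y * w * y⁻¹ ∈ W)
    (hexp : ∀ w ∈ W, (w * x) ^ 3 = 1) (ha : a * a = 1) (hb : b * b = 1) (hab : a * b = c) (hba : b * a = c)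
    (hxa : x * a * x⁻¹ = b) (hxb : x * b * x⁻¹ = c) (hxc : x * c * x⁻¹ = a)
    (w₀ : Y) (hw₀ : w₀ ∈ W) : a * w₀ * a⁻¹ = w₀ := by
  have ai : a⁻¹ = a := inv_eq_of_mul_eq_one_right ha
  have bi : b⁻¹ = b := inv_eq_of_mul_eq_one_right hb
  have hsq : ∀ w ∈ W, w * w = 1 → w = 1 := fun w hw h2 => by
    have h3 := hW3 w hw
    rwa [pow_succ, sq, h2, one_mul] at h3
  have hcm : ∀ u ∈ W, ∀ v ∈ W, u * v = v * u := fun u hu v hv =>
    congrArg Subtype.val (hW.is_comm.comm ⟨u, hu⟩ ⟨v, hv⟩)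
  have hzero : ∀ w ∈ W, w * (x * w * x⁻¹) * (x * (x * w * x⁻¹) * x⁻¹) = 1 := by
    intro w hw
    calc w * (x * w * x⁻¹) * (x * (x * w * x⁻¹) * x⁻¹) = (w * x) ^ 3 * (x ^ 3)⁻¹ := by
          rw [show (w * x) ^ 3 = (w * x) * (w * x) * (w * x) by rw [pow_succ, sq],
            show x ^ 3 = x * x * x by rw [pow_succ, sq]]
          group
      _ = 1 := by rw [hexp w hw, hx, inv_one, one_mul]
  -- `z` fixed by `d`, inverted by `d'` and `d''`
  have key : ∀ w ∈ W, ∀ d d' d'' : Y, d ∈ ({x, a, b, c} : Set Y) → x * d' * x⁻¹ = d → x * d'' * x⁻¹ = d' →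
      d * w * d⁻¹ = w → d' * w * d'⁻¹ = w⁻¹ → d'' * w * d''⁻¹ = w⁻¹ → w = 1 := by
    intro w hw d d' d'' hd e1 e2 f1 f2 f3
    refine hsq w hw ?_
    have hxm : ∀ u ∈ W, x * u * x⁻¹ ∈ W := fun u hu => hW' x (by simp) u hu
    set w' := x * w * x⁻¹ with hw'
    set w'' := x * w' * x⁻¹ with hw''
    have g1 : d * w' * d⁻¹ = w'⁻¹ := by
      calc d * w' * d⁻¹ = x * (d' * w * d'⁻¹) * x⁻¹ := by rw [← e1, hw']; group
        _ = _ := by rw [f2, hw']; group
    have g2 : d * w'' * d⁻¹ = w''⁻¹ := by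
      calc d * w'' * d⁻¹ = x * (x * (d'' * w * d''⁻¹) * x⁻¹) * x⁻¹ := by rw [← e1, ← e2, hw'', hw']; group
        _ = _ := by rw [f3, hw'', hw']; simp [mul_assoc]
    have hz := hzero w hw
    rw [← hw', ← hw''] at hz
    have hz2 : w * w'⁻¹ * w''⁻¹ = 1 := by
      have : d * (w * w' * w'') * d⁻¹ = (d * w * d⁻¹) * (d * w' * d⁻¹) * (d * w'' * d⁻¹) := by group
      rw [hz, f1, g1, g2] at this
      simpa using this.symm
    have e3 : w' * w'' = w⁻¹ := by
      rw [eq_inv_iff_mul_eq_one, hcm _ (mul_mem (hxm w hw) (hxm _ (hxm w hw))) w hw, ← mul_assoc]; exact hz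
    have e4 : w'' * w' = w := by
      rw [mul_assoc, ← mul_inv_rev, mul_inv_eq_one] at hz2
      exact hz2.symm
    rw [hcm w'' (hxm _ (hxm w hw)) w' (hxm w hw), e3] at e4
    nth_rewrite 1 [← e4]
    exact inv_mul_cancel w
  set w := w₀⁻¹ * (a * w₀ * a⁻¹) with hwdef
  have hwW : w ∈ W := mul_mem (inv_mem hw₀) (hW' a (by simp) w₀ hw₀)
  have fa : a * w * a⁻¹ = w⁻¹ := by
    rw [hwdef, mul_inv_rev, inv_inv]
    calc a * (w₀⁻¹ * (a * w₀ * a⁻¹)) * a⁻¹ = (a * w₀ * a⁻¹)⁻¹ * ((a * a) * w₀ * (a * a)⁻¹) := by group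
      _ = _ := by rw [ha]; simp
  suffices hw1 : w = 1 by
    rw [hwdef, inv_mul_eq_one] at hw1
    exact hw1.symm
  clear_value w
  set u := w * (b * w * b⁻¹) with hu
  have hbw : b * w * b⁻¹ ∈ W := hW' b (by simp) w hwW
  have huW : u ∈ W := mul_mem hwW hbw
  have hbfix : b * u * b⁻¹ = u := by
    calc b * u * b⁻¹ = (b * w * b⁻¹) * ((b * b) * w * (b * b)⁻¹) := by rw [hu]; group
      _ = u := by rw [hb, inv_one, mul_one, one_mul, hu]; exact hcm _ hbw _ hwW
  have hau : a * u * a⁻¹ = u⁻¹ := by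
    have e : a * (b * w * b⁻¹) * a⁻¹ = b * (a * w * a⁻¹) * b⁻¹ := by
      calc a * (b * w * b⁻¹) * a⁻¹ = (a * b) * w * (a * b)⁻¹ := by group
        _ = (b * a) * w * (b * a)⁻¹ := by rw [hab, hba]
        _ = _ := by group
    calc a * u * a⁻¹ = (a * w * a⁻¹) * (a * (b * w * b⁻¹) * a⁻¹) := by rw [hu]; group
      _ = w⁻¹ * (b * w⁻¹ * b⁻¹) := by rw [e, fa]
      _ = (w * (b * w * b⁻¹))⁻¹ := by
          rw [mul_inv_rev, hcm w⁻¹ (inv_mem hwW) _ (hW' b (by simp) _ (inv_mem hwW))]; group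
  have hu1 : u = 1 := by
    refine key u huW b a c (by simp) hxa hxc hbfix hau ?_
    calc c * u * c⁻¹ = b * (a * u * a⁻¹) * b⁻¹ := by rw [← hba]; group
      _ = (b * u * b⁻¹)⁻¹ := by rw [hau]; group
      _ = _ := by rw [hbfix]
  have hbinv : b * w * b⁻¹ = w⁻¹ := eq_inv_of_mul_eq_one_right hu1
  refine key w hwW c b a (by simp) hxb hxa ?_ hbinv fa
  calc c * w * c⁻¹ = b * (a * w * a⁻¹) * b⁻¹ := by rw [← hba]; group
    _ = (b * w * b⁻¹)⁻¹ := by rw [fa]; group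
    _ = w := by rw [hbinv, inv_inv]

/-- In a group of exponent six with trivial `p'`-core every `p`-element lies in the `p`-core. -/
theorem mem_pCore {X : Type u} [Group X] [Finite X] (h : ∀ x : X, x ^ 6 = 1) {p : ℕ} [Fact p.Prime]
    (hp : p = 2 ∨ p = 3) (h0 : Cfsg.pPrimeCore p X = ⊥) {x : X} (hx : x ^ p = 1) : x ∈ Cfsg.pCore p X := by
  haveI := solv h
  set U := Cfsg.pCore p X with hU
  haveI : U.Normal := CfsgLib.Solv.pCore_normal X p
  have hUp : IsPGroup p U := CfsgLib.Solv.pCore_isPGroup X p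
  have hCU := CfsgLib.Solv.centralizer_pCore_le (G := X) (p := p) h0
  have hxp : IsPGroup p (Subgroup.zpowers x) := by
    rintro ⟨v, i, rfl⟩
    refine ⟨1, Subtype.ext ?_⟩
    simp only [SubmonoidClass.coe_pow, OneMemClass.coe_one]
    rw [← zpow_natCast, ← zpow_mul, mul_comm, zpow_mul, zpow_natCast, pow_one, hx, one_zpow]
  have hmain : p = 2 → x ∈ U := by
    rintro rfl
    obtain ⟨P, hP⟩ := hxp.exists_le_sylow
    refine hCU (Subgroup.mem_centralizer_iff.2 fun u hu => ?_)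
    have hu' := CfsgLib.Solv.pCore_le_sylow P hu
    have hx' := hP (Subgroup.mem_zpowers x)
    have hinv : ∀ y ∈ (P : Subgroup X), y⁻¹ = y := fun y hy => by
      obtain ⟨k, hk⟩ := P.2 ⟨y, hy⟩
      exact inv_eq_of_mul_eq_one_right (by
        rw [← sq]; exact pow_p h (Or.inl rfl) (congrArg Subtype.val hk))
    calc u * x = (u * x)⁻¹ := (hinv _ (mul_mem hu' hx')).symm
      _ = x * u := by rw [mul_inv_rev, hinv _ hu', hinv _ hx']
  rcases hp with hp2 | rfl
  · exact hmain hp2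
  by_contra hxU
  haveI := Fact.mk Nat.prime_two
  let π := QuotientGroup.mk' U
  set E := Cfsg.pCore 2 (X ⧸ U)
  haveI : E.Normal := CfsgLib.Solv.pCore_normal _ 2
  have hEp : IsPGroup 2 E := CfsgLib.Solv.pCore_isPGroup _ 2
  have hq6 : ∀ q : X ⧸ U, q ^ 6 = 1 := fun q => by
    obtain ⟨z, rfl⟩ := QuotientGroup.mk_surjective q
    rw [← QuotientGroup.mk_pow, h, QuotientGroup.mk_one]
  haveI := solv hq6
  have hE0 : Cfsg.pPrimeCore 2 (X ⧸ U) = ⊥ := by
    haveI : (Cfsg.pPrimeCore 2 (X ⧸ U)).Normal := CfsgLib.Solv.pPrimeCore_normal _ 2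
    have h2 := CfsgLib.Solv.pPrimeCore_coprime (X ⧸ U) 2
    have hc : IsPGroup 3 (Cfsg.pPrimeCore 2 (X ⧸ U)) := by
      refine IsPGroup.of_card (Nat.eq_prime_pow_of_unique_prime_dvd Nat.card_pos.ne' fun {r} hr hd => ?_)
      rcases orders hq6 hr (hd.trans (Subgroup.card_subgroup_dvd_card _)) with e | e
      · exact absurd (Nat.Coprime.coprime_dvd_left hd h2) (by rw [e]; decide)
      · exact e
    rw [eq_bot_iff]
    refine le_trans (CfsgLib.Solv.le_pCore hc) (le_of_eq ?_)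
    exact CfsgLib.Solv.pCore_quotient_self
  have hCE := CfsgLib.Solv.centralizer_pCore_le (G := X ⧸ U) (p := 2) hE0
  -- a Sylow 2-subgroup of the preimage
  set L := E.comap π with hL
  haveI : L.Normal := inferInstance
  obtain ⟨T⟩ : Nonempty (Sylow 2 L) := inferInstance
  have hUL : U ≤ L := fun u hu => by
    show π u ∈ E
    rw [show π u = 1 from (QuotientGroup.eq_one_iff u).2 hu]; exact one_mem _
  set S := (T : Subgroup L).map L.subtype with hS
  have hS2 : ∀ t ∈ S, t * t = 1 := by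
    rintro _ ⟨t, ht, rfl⟩
    obtain ⟨k, hk⟩ := T.2 ⟨t, ht⟩
    rw [← sq]
    exact pow_p h (Or.inl rfl) (congrArg (fun z : (T : Subgroup L) => ((z : L) : X)) hk)
  have hSc : ∀ u ∈ S, ∀ v ∈ S, u * v = v * u := by
    intro u hu v hv
    have hinv : ∀ y ∈ S, y⁻¹ = y := fun y hy => inv_eq_of_mul_eq_one_right (hS2 y hy)
    calc u * v = (u * v)⁻¹ := (hinv _ (mul_mem hu hv)).symm
      _ = v * u := by rw [mul_inv_rev, hinv _ hu, hinv _ hv]
  -- `S` covers `E`
  have hSE : ∀ q ∈ E, ∃ t ∈ S, π t = q := by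
    intro q hq
    obtain ⟨z, rfl⟩ := QuotientGroup.mk'_surjective U q
    have hzL : z ∈ L := hq
    let ψ : L →* E := (π.comp L.subtype).codRestrict E fun y => y.2
    have hψ : Function.Surjective ψ := by
      rintro ⟨q, hq⟩
      obtain ⟨z, rfl⟩ := QuotientGroup.mk'_surjective U q
      exact ⟨⟨z, hq⟩, rfl⟩
    have h1 : (T.mapSurjective hψ : Subgroup E) = ⊤ :=
      le_antisymm le_top (((T.mapSurjective hψ).3 (hEp.of_equiv Subgroup.topEquiv.symm) le_top) ▸ le_rfl)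
    have h2 : (⟨π z, hq⟩ : E) ∈ (T : Subgroup L).map ψ := by
      rw [← Sylow.coe_mapSurjective hψ T, h1]; trivial
    obtain ⟨t, ht, e⟩ := h2
    exact ⟨_, ⟨t, ht, rfl⟩, congrArg Subtype.val e⟩
  have hSsub : ∀ t ∈ S, π t ∈ E := by
    rintro _ ⟨t, -, rfl⟩
    exact t.2
  have hSinj : ∀ t ∈ S, π t = 1 → t = 1 := by
    intro t ht e
    have h3 : t ^ 3 = 1 := by
      obtain ⟨k, hk⟩ := hUp ⟨t, (QuotientGroup.eq_one_iff t).1 e⟩
      exact pow_p h (Or.inr rfl) (congrArg Subtype.val hk)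
    rwa [pow_succ, sq, hS2 t ht, one_mul] at h3
  -- an element of order three normalising `S`
  obtain ⟨x', hx'N, hx'3, hx'U⟩ : ∃ x' ∈ Subgroup.normalizer (S : Set X), x' ^ 3 = 1 ∧ x' ∉ U := by
    have hfr := Sylow.normalizer_sup_eq_top T
    have hxm : x ∈ Subgroup.normalizer (S : Set X) ⊔ L := hfr ▸ Subgroup.mem_top x
    -- replace `L` by `U`
    have hLle : L ≤ Subgroup.normalizer (S : Set X) ⊔ U := by
      intro l hl
      obtain ⟨t, ht, e⟩ := hSE (π l) hl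
      have e2 : t⁻¹ * l ∈ U := by
        rw [← QuotientGroup.eq_one_iff (N := U)]
        show π (t⁻¹ * l) = 1
        rw [map_mul, map_inv, e, inv_mul_cancel]
      have := mul_mem (Subgroup.mem_sup_left (T := U) (Subgroup.le_normalizer ht)) (Subgroup.mem_sup_right e2)
      rwa [mul_inv_cancel_left] at this
    have hxm' : x ∈ ((Subgroup.normalizer (S : Set X) ⊔ U : Subgroup X) : Set X) :=
      (sup_le le_sup_left hLle : Subgroup.normalizer (S : Set X) ⊔ L ≤ _) hxm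
    rw [Subgroup.mul_normal] at hxm'
    obtain ⟨n, hn, u, hu, e⟩ := hxm'
    refine ⟨n ^ 4, pow_mem hn 4, ?_, ?_⟩
    · rw [← pow_mul, show 4 * 3 = 6 * 2 from rfl, pow_mul, h, one_pow]
    · intro hmem
      apply hxU
      have h1 : π x = π n := by
        rw [← e, map_mul, show π u = 1 from (QuotientGroup.eq_one_iff u).2 hu, mul_one]
      have h2 : π (n ^ 4) = π x := by
        rw [map_pow, ← h1, ← map_pow]
        rw [show x ^ 4 = x by rw [pow_succ, hx, one_mul]]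
      exact (QuotientGroup.eq_one_iff x).1 (h2.symm.trans ((QuotientGroup.eq_one_iff _).2 hmem))
  -- it moves some element of `S`
  obtain ⟨e₀, he₀, hmove⟩ : ∃ e₀ ∈ S, x' * e₀ * x'⁻¹ ≠ e₀ := by
    by_contra hcon
    push Not at hcon
    have hmem : π x' ∈ E := hCE (Subgroup.mem_centralizer_iff.2 fun q hq => by
      obtain ⟨t, ht, rfl⟩ := hSE q hq
      have := mul_inv_eq_iff_eq_mul.1 (hcon t ht)
      rw [← map_mul, ← map_mul, this])
    obtain ⟨k, hk⟩ := hEp ⟨_, hmem⟩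
    have h2 : π x' ^ 2 = 1 := pow_p hq6 (Or.inl rfl) (congrArg Subtype.val hk)
    have h3 : π x' ^ 3 = 1 := by rw [← map_pow, hx'3, map_one]
    rw [pow_succ, h2, one_mul] at h3
    exact hx'U ((QuotientGroup.eq_one_iff x').1 h3)
  have hconjS : ∀ t ∈ S, x' * t * x'⁻¹ ∈ S := fun t ht => (Subgroup.mem_normalizer_iff.1 hx'N t).1 ht
  have hcube : ∀ t : X, x' * (x' * (x' * t * x'⁻¹) * x'⁻¹) * x'⁻¹ = t := fun t => by
    calc x' * (x' * (x' * t * x'⁻¹) * x'⁻¹) * x'⁻¹ = x' ^ 3 * t * (x' ^ 3)⁻¹ := by simp [pow_succ, mul_assoc]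
      _ = t := by rw [hx'3]; simp
  set f₀ := x' * e₀ * x'⁻¹ with hf₀
  set g₀ := x' * f₀ * x'⁻¹ with hg₀
  have hfS := hconjS _ he₀
  have hgS : g₀ ∈ S := hconjS _ hfS
  set a := e₀ * f₀ with haa
  set b := f₀ * g₀ with hbb
  set c := g₀ * e₀ with hcc
  have haS : a ∈ S := mul_mem he₀ hfS
  have hbS : b ∈ S := mul_mem hfS hgS
  have hcS : c ∈ S := mul_mem hgS he₀
  have hab : a * b = c := by
    calc a * b = e₀ * (f₀ * f₀) * g₀ := by simp [haa, hbb, mul_assoc]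
      _ = c := by rw [hS2 _ hfS, mul_one]; exact hSc _ he₀ _ hgS
  have hxa : x' * a * x'⁻¹ = b := by rw [haa, hbb, hg₀, hf₀]; group
  have hxb : x' * b * x'⁻¹ = c := by
    have e : x' * b * x'⁻¹ = (x' * f₀ * x'⁻¹) * (x' * g₀ * x'⁻¹) := by rw [hbb]; group
    rw [e, ← hg₀, show x' * g₀ * x'⁻¹ = e₀ from hcube e₀]
  have hxc : x' * c * x'⁻¹ = a := by
    have e : x' * c * x'⁻¹ = (x' * g₀ * x'⁻¹) * (x' * e₀ * x'⁻¹) := by rw [hcc]; group
    rw [e, ← hf₀, show x' * g₀ * x'⁻¹ = e₀ from hcube e₀]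
  -- `a` acts trivially on `U / Φ(U)`
  set F := (frattini U).map U.subtype with hF
  haveI : F.Normal := CfsgLib.Solv.normal_map_subtype_of_characteristic _
  let ρ := QuotientGroup.mk' F
  set W := U.map ρ with hWdef
  have hW : IsMulCommutative W := ⟨⟨by
    rintro ⟨_, u, hu, rfl⟩ ⟨_, v, hv, rfl⟩
    refine Subtype.ext ?_
    show ρ u * ρ v = ρ v * ρ u
    rw [← commutatorElement_eq_one_iff_mul_comm, ← map_commutatorElement]
    exact (QuotientGroup.eq_one_iff _).2 ⟨⁅(⟨u, hu⟩ : U), ⟨v, hv⟩⁆,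
      CfsgLib.Solv.commutator_le_frattini hUp (Subgroup.commutator_mem_commutator (Subgroup.mem_top _) (Subgroup.mem_top _)),
      rfl⟩⟩⟩
  have htriv : ∀ t ∈ Subgroup.zpowers a, ∀ u ∈ U, ⁅t, u⁆ ∈ F := by
    intro t ht u hu
    obtain ⟨j, rfl⟩ := (isOfFinOrder_of_finite a).mem_powers_iff_mem_zpowers.2 ht
    have h1 : ρ a * ρ u * (ρ a)⁻¹ = ρ u := by
      refine no_four W hW ?_ (ρ x') (ρ a) (ρ b) (ρ c) (by rw [← map_pow, hx'3, map_one]) ?_ ?_
        (by rw [← map_mul, hS2 a haS, map_one]) (by rw [← map_mul, hS2 b hbS, map_one])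
        (by rw [← map_mul, hab]) (by rw [← map_mul, hSc b hbS a haS, hab])
        (by rw [← hxa]; simp) (by rw [← hxb]; simp) (by rw [← hxc]; simp) (ρ u) ⟨u, hu, rfl⟩
      · rintro _ ⟨v, hv, rfl⟩
        obtain ⟨k, hk⟩ := hUp ⟨v, hv⟩
        rw [← map_pow, pow_p h (Or.inr rfl) (congrArg Subtype.val hk), map_one]
      · intro y hy w hw
        obtain ⟨z, rfl⟩ := QuotientGroup.mk'_surjective F y
        obtain ⟨v, hv, rfl⟩ := hw
        exact ⟨z * v * z⁻¹, (inferInstance : U.Normal).conj_mem v hv z, by simp [ρ]⟩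
      · rintro _ ⟨v, hv, rfl⟩
        rw [← map_mul, ← map_pow]
        suffices h9 : (v * x') ^ 3 = 1 by rw [h9, map_one]
        have hmem : (v * x') ^ 3 ∈ U := by
          rw [← QuotientGroup.eq_one_iff (N := U)]
          show π ((v * x') ^ 3) = 1
          rw [map_pow, map_mul, show π v = 1 from (QuotientGroup.eq_one_iff v).2 hv, one_mul, ← map_pow, hx'3, map_one]
        obtain ⟨k, hk⟩ := hUp ⟨_, hmem⟩
        have hk' : (v * x') ^ 3 ^ (k + 1) = 1 := by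
          rw [pow_succ', pow_mul]; exact congrArg Subtype.val hk
        exact pow_p h (Or.inr rfl) hk'
    rw [← QuotientGroup.eq_one_iff (N := F)]
    show ρ ⁅a ^ j, u⁆ = 1
    rw [map_commutatorElement, map_pow, commutatorElement_eq_one_iff_mul_comm]
    exact ((show Commute (ρ a) (ρ u) from mul_inv_eq_iff_eq_mul.1 h1).pow_left j).eq
  have hcop : (Nat.card (Subgroup.zpowers a)).Coprime (Nat.card (frattini U)) := by
    rw [Nat.card_zpowers]
    obtain ⟨k, hk⟩ := IsPGroup.iff_card.1 (hUp.to_subgroup (frattini U))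
    rw [hk]
    exact (Nat.Coprime.pow_right k (by decide : Nat.Coprime 2 3)).coprime_dvd_left
      (orderOf_dvd_of_pow_eq_one (by rw [sq]; exact hS2 a haS))
  have haU : a ∈ U := hCU (CfsgLib.Solv.le_centralizer_of_trivial_on_frattini_quotient hcop htriv
    (Subgroup.mem_zpowers a))
  have ha1 : a = 1 := hSinj a haS ((QuotientGroup.eq_one_iff a).2 haU)
  apply hmove
  rw [haa] at ha1
  exact ((inv_eq_of_mul_eq_one_right ha1).symm.trans (inv_eq_of_mul_eq_one_right (hS2 _ he₀)))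

theorem plen {G : Type u} [Group G] [Finite G] (h : ∀ x : G, x ^ 6 = 1) {p : ℕ} [Fact p.Prime]
    (hp : p = 2 ∨ p = 3) : Cfsg.PLengthLE p 1 G := by
  set U1 := (Cfsg.upperPSeries p G 1).1 with hU1
  have hU1' : U1 = Cfsg.pPrimeCore p G := by
    show (Cfsg.pPrimeCore p (G ⧸ (⊥ : Subgroup G))).comap (QuotientGroup.mk' ⊥) = _
    rw [← CfsgLib.Solv.map_pPrimeCore_equiv (p := p) (QuotientGroup.quotientBot (G := G)).symm]
    exact Subgroup.comap_map_eq_self_of_injective (f := QuotientGroup.mk' (⊥ : Subgroup G))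
          (fun a b hab => by simpa [QuotientGroup.eq, inv_mul_eq_one] using hab) _
  haveI : (Cfsg.pPrimeCore p G).Normal := CfsgLib.Solv.pPrimeCore_normal G p
  have h0 : Cfsg.pPrimeCore p (G ⧸ U1) = ⊥ := by
    have e := QuotientGroup.quotientMulEquivOfEq hU1'
    rw [← CfsgLib.Solv.map_pPrimeCore_equiv (p := p) e.symm,
      CfsgLib.Solv.pPrimeCore_quotient_self, Subgroup.map_bot]
  have hq6 : ∀ q : G ⧸ U1, q ^ 6 = 1 := fun q => by
    obtain ⟨z, rfl⟩ := QuotientGroup.mk_surjective q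
    rw [← QuotientGroup.mk_pow, h, QuotientGroup.mk_one]
  set U2 := (Cfsg.upperPSeries p G 2).1 with hU2
  have hmem : ∀ x : G, x ^ p = 1 → x ∈ U2 := by
    intro x hx
    show (QuotientGroup.mk' U1) x ∈ Cfsg.pCore p (G ⧸ U1)
    exact mem_pCore hq6 hp h0 (by rw [← map_pow, hx, map_one])
  have hcop : (Nat.card (⊤ : Subgroup (G ⧸ U2))).Coprime p := by
    rw [Subgroup.card_top, Nat.coprime_comm, (Fact.out : p.Prime).coprime_iff_not_dvd]
    intro hd
    obtain ⟨q, hq⟩ := exists_prime_orderOf_dvd_card' p hd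
    obtain ⟨g, rfl⟩ := QuotientGroup.mk_surjective q
    have h2 : ∀ k : ℕ, (g ^ k) ^ p = 1 → ((g : G ⧸ U2)) ^ k = 1 := fun k hk => by
      rw [← QuotientGroup.mk_pow, QuotientGroup.eq_one_iff]; exact hmem _ hk
    have hdk : ∀ k : ℕ, 6 ∣ k * p → p ∣ k := fun k hk => hq ▸ orderOf_dvd_of_pow_eq_one (h2 k (by
      obtain ⟨m, hm⟩ := hk
      rw [← pow_mul, hm, pow_mul, h, one_pow]))
    rcases hp with rfl | rfl
    · exact absurd (hdk 3 (by norm_num)) (by norm_num)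
    · exact absurd (hdk 2 (by norm_num)) (by norm_num)
  show (Cfsg.pPrimeCore p (G ⧸ U2)).comap (QuotientGroup.mk' U2) = ⊤
  rw [eq_top_iff.2 (CfsgLib.Solv.le_pPrimeCore (N := ⊤) hcop), Subgroup.comap_top]

/-- A finite group in which every element has order dividing `6` has `2`-length at most `1` and `3`-length at most `1`. -/
theorem result {G : Type*} [Group G] [Finite G] (h : ∀ x : G, x ^ 6 = 1) : Cfsg.PLengthLE 2 1 G ∧ Cfsg.PLengthLE 3 1 G := by
  haveI := Fact.mk Nat.prime_two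
  haveI := Fact.mk Nat.prime_three
  exact ⟨plen h (Or.inl rfl), plen h (Or.inr rfl)⟩

end Cfsg.Agent.S4227
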