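import Cfsg.Statements.S4230


set_option autoImplicit false
set_option linter.style.haveILetI false
open Cfsg

namespace Cfsg.Agent.S4230

/-- Let p be an odd prime, q a natural number not divisible by p, and e the multiplicative order of q modulo p. For a natural number f, p divides the value at q of the f-th cyclotomic polynomial if and only if f = e·p^j for some j ≥ 0. -/
theorem result (p q f : ℕ) (hp : p.Prime) (hp2 : p ≠ 2) (hpq : ¬ p ∣ q) :
    ((p : ℤ) ∣ (Polynomial.cyclotomic f ℤ).eval (q : ℤ)) ↔ ∃ j : ℕ, f = orderOf (q : ZMod p) * p ^ j := by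
  haveI := Fact.mk hp
  have hq0 : (q : ZMod p) ≠ 0 := by rwa [Ne, ZMod.natCast_eq_zero_iff]
  have hord : orderOf (q : ZMod p) ∣ p - 1 := ZMod.orderOf_dvd_card_sub_one hq0
  have hord0 : 0 < orderOf (q : ZMod p) := by
    rcases Nat.eq_zero_or_pos (orderOf (q : ZMod p)) with h | h
    · rw [h, zero_dvd_iff] at hord
      have := hp.two_le
      omega
    · exact h
  have hroot : ((p : ℤ) ∣ (Polynomial.cyclotomic f ℤ).eval (q : ℤ)) ↔
      (Polynomial.cyclotomic f (ZMod p)).IsRoot (q : ZMod p) := by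
    rw [← ZMod.intCast_zmod_eq_zero_iff_dvd, Polynomial.IsRoot.def,
      ← Polynomial.map_cyclotomic_int f (ZMod p)]
    have h := Polynomial.eval_intCast_map (Int.castRingHom (ZMod p)) (Polynomial.cyclotomic f ℤ) (q : ℤ)
    simp only [Int.cast_natCast] at h
    rw [h]
    simp
  rcases Nat.eq_zero_or_pos f with rfl | hf
  · rw [hroot]
    constructor
    · simp
    · rintro ⟨j, hj⟩
      exact absurd hj (Nat.mul_ne_zero hord0.ne' (pow_ne_zero _ hp.ne_zero)).symm
  obtain ⟨k, m, hm, rfl⟩ := Nat.exists_eq_pow_mul_and_not_dvd hf.ne' p hp.ne_one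
  haveI : NeZero ((m : ZMod p)) := ⟨by rwa [Ne, ZMod.natCast_eq_zero_iff]⟩
  rw [hroot, Polynomial.isRoot_cyclotomic_prime_pow_mul_iff_of_charP]
  constructor
  · exact fun h => ⟨k, by rw [← h.eq_orderOf, mul_comm]⟩
  · rintro ⟨j, hj⟩
    have hnd : ¬ p ∣ orderOf (q : ZMod p) := fun h => by
      have := Nat.le_of_dvd (by have := hp.two_le; omega) (h.trans hord)
      have := hp.two_le
      omega
    have hcop : Nat.Coprime (p ^ k) (orderOf (q : ZMod p)) :=
      (hp.coprime_iff_not_dvd.2 hnd).pow_left k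
    have hcop2 : Nat.Coprime m (p ^ j) := ((hp.coprime_iff_not_dvd.2 hm).pow_left j).symm
    have hcop3 : Nat.Coprime (orderOf (q : ZMod p)) (p ^ j) :=
      ((hp.coprime_iff_not_dvd.2 hnd).pow_left j).symm
    have d1 : m ∣ orderOf (q : ZMod p) := hcop2.dvd_of_dvd_mul_right (hj ▸ dvd_mul_left m (p ^ k))
    have d2 : orderOf (q : ZMod p) ∣ m :=
      hcop.symm.dvd_of_dvd_mul_left (hj.symm ▸ dvd_mul_right _ _)
    rw [Nat.dvd_antisymm d1 d2]
    exact IsPrimitiveRoot.orderOf _

end Cfsg.Agent.S4230
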