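import Cfsg.Statements.S4231

import Cfsg.Agent.Perm.AutAlt

set_option autoImplicit false
set_option linter.style.haveILetI false
open Cfsg

namespace Cfsg.Agent.S4231

open Equiv Equiv.Perm CfsgLib.Perm.AutAlt
open scoped commutatorElement

theorem s4231_comm {α : Type*} [Fintype α] [DecidableEq α] {q : ℕ} [hq : Fact q.Prime] (R : Subgroup (Equiv.Perm α))
    (hR : IsPGroup q R) (hn : Fintype.card α < q ^ 2) : IsMulCommutative R := by
  refine ⟨⟨fun a b => ?_⟩⟩
  rw [← commutatorElement_eq_one_iff_mul_comm]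
  refine Subtype.ext (Equiv.ext fun z => ?_)
  set St := MulAction.stabilizer R z
  suffices h : ⁅a, b⁆ ∈ St by exact h
  obtain ⟨i, hi⟩ : ∃ i, St.index = q ^ i := by
    obtain ⟨k, hk⟩ := IsPGroup.iff_card.1 hR
    obtain ⟨i, -, hi⟩ := (Nat.dvd_prime_pow hq.out).1 (hk ▸ St.index_dvd_card)
    exact ⟨i, hi⟩
  have hlt : q ^ i < q ^ 2 := by
    rw [← hi, MulAction.index_stabilizer]
    refine lt_of_le_of_lt ?_ hn
    rw [← Nat.card_eq_fintype_card]
    exact Finite.card_subtype_le _
  have hi2 : i < 2 := (Nat.pow_lt_pow_iff_right hq.out.one_lt).1 hlt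
  rcases (show i = 0 ∨ i = 1 by omega) with rfl | rfl
  · rw [pow_zero, Subgroup.index_eq_one] at hi
    rw [hi]; exact Subgroup.mem_top _
  · rw [pow_one] at hi
    haveI : St.Normal := Subgroup.normal_of_index_eq_minFac_card (by
      obtain ⟨k, hk⟩ := IsPGroup.iff_card.1 hR
      have hk0 : k ≠ 0 := by
        rintro rfl
        have := St.index_dvd_card
        rw [hk, pow_zero, hi, Nat.dvd_one] at this
        exact hq.out.ne_one this
      rw [hk, Nat.pow_minFac hk0, hq.out.minFac_eq, hi])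
    haveI : IsCyclic (R ⧸ St) := isCyclic_of_prime_card (p := q) (by rw [← Subgroup.index_eq_card, hi])
    letI : CommGroup (R ⧸ St) := IsCyclic.commGroup
    refine (QuotientGroup.eq_one_iff _).1 ?_
    show QuotientGroup.mk' St ⁅a, b⁆ = 1
    rw [map_commutatorElement, commutatorElement_eq_one_iff_mul_comm]
    exact mul_comm _ _

/-- A nonabelian Sylow subgroup for an odd prime forces a large degree. -/
theorem s4231_degree {n : ℕ} (hn : 5 ≤ n) (G : Subgroup (MulAut (alternatingGroup (Fin n)))) {q : ℕ} [hq : Fact q.Prime]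
    (hodd : Odd q) (Q : Sylow q G) (hQ : ¬ IsMulCommutative (Q : Subgroup G)) : q ^ 2 ≤ n := by
  by_contra hlt
  refine hQ ?_
  have hcard : 4 ≤ Fintype.card (Fin n) := by rw [Fintype.card_fin]; omega
  have hK : ∀ x : G, x ∈ (Q : Subgroup G) → (x : MulAut (alternatingGroup (Fin n))) ∈
      (MulAut.conjNormal : Equiv.Perm (Fin n) →* MulAut (alternatingGroup (Fin n))).range := by
    intro x hx
    obtain ⟨k, hk⟩ := Q.2 ⟨x, hx⟩
    have hk' : (x : MulAut (alternatingGroup (Fin n))) ^ q ^ k = 1 :=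
      congrArg (fun z : (Q : Subgroup G) => (((z : G)) : MulAut (alternatingGroup (Fin n)))) hk
    obtain ⟨m, hm⟩ := hodd.pow (n := k)
    have h2 := Subgroup.pow_mem _ (sq_mem_range (α := Fin n) (by rw [Fintype.card_fin]; exact hn) (x : MulAut (alternatingGroup (Fin n)))) (m + 1)
    rwa [← sq, ← pow_mul, show 2 * (m + 1) = q ^ k + 1 by omega, pow_succ, hk', one_mul] at h2
  let R : Subgroup (Equiv.Perm (Fin n)) := ((Q : Subgroup G).map G.subtype).comap
    (MulAut.conjNormal : Equiv.Perm (Fin n) →* MulAut (alternatingGroup (Fin n)))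
  have hR : IsPGroup q R := by
    intro r
    obtain ⟨y, hy, hyr⟩ := r.2
    obtain ⟨k, hk⟩ := Q.2 ⟨y, hy⟩
    refine ⟨k, Subtype.ext (conjNormal_injective hcard ?_)⟩
    rw [SubmonoidClass.coe_pow, map_pow, ← hyr, Subgroup.coe_one, map_one]
    exact congrArg (fun z : (Q : Subgroup G) => (((z : G)) : MulAut (alternatingGroup (Fin n)))) hk
  haveI := s4231_comm R hR (by rw [Fintype.card_fin]; omega)
  refine ⟨⟨fun a b => Subtype.ext (Subtype.ext ?_)⟩⟩
  obtain ⟨u, hu⟩ := hK a a.2
  obtain ⟨v, hv⟩ := hK b b.2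
  have hu' : u ∈ R := ⟨a, a.2, hu.symm⟩
  have hv' : v ∈ R := ⟨b, b.2, hv.symm⟩
  show ((a : G) : MulAut (alternatingGroup (Fin n))) * (b : G) = (b : G) * (a : G)
  rw [← hu, ← hv, ← map_mul, ← map_mul]
  exact congrArg _ (congrArg Subtype.val (mul_comm' (⟨u, hu'⟩ : R) ⟨v, hv'⟩))

/-- An even permutation of the given cycle type and order gives an element of `G`. -/
theorem s4231_elem {n : ℕ} (hn : 5 ≤ n) (G : Subgroup (MulAut (alternatingGroup (Fin n))))
    (hG : (MulAut.conj : alternatingGroup (Fin n) →* MulAut (alternatingGroup (Fin n))).range ≤ G)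
    (m : Multiset ℕ) (hm : m.sum ≤ n) (h2 : ∀ a ∈ m, 2 ≤ a) (hev : (-1 : ℤˣ) ^ (m.sum + m.card) = 1) :
    ∃ g : G, orderOf g = m.lcm := by
  obtain ⟨x, hx⟩ := (Equiv.Perm.exists_with_cycleType_iff (Fin n)).2 ⟨by rw [Fintype.card_fin]; exact hm, h2⟩
  have hxA : x ∈ alternatingGroup (Fin n) := by
    rw [Equiv.Perm.mem_alternatingGroup, sign_of_cycleType, hx]; exact hev
  refine ⟨⟨MulAut.conj (⟨x, hxA⟩ : alternatingGroup (Fin n)), hG ⟨_, rfl⟩⟩, ?_⟩
  have e : MulAut.conj (⟨x, hxA⟩ : alternatingGroup (Fin n)) = MulAut.conjNormal x :=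
    MulEquiv.ext fun y => Subtype.ext (by rw [MulAut.conjNormal_apply]; rfl)
  rw [Subgroup.orderOf_mk, e, orderOf_injective _ (conjNormal_injective (by rw [Fintype.card_fin]; omega)),
    ← hx, lcm_cycleType]

theorem s4231_main {n : ℕ} (hn : 5 ≤ n) (G : Subgroup (MulAut (alternatingGroup (Fin n))))
    (hG : (MulAut.conj : alternatingGroup (Fin n) →* MulAut (alternatingGroup (Fin n))).range ≤ G)
    {p q : ℕ} [hp : Fact p.Prime] [hq : Fact q.Prime] (hpq : p ≠ q) (hodd : Odd q)
    (h : ∀ g : G, orderOf g ≠ p * q)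
    (P : Sylow p G) (hP : ¬ IsMulCommutative (P : Subgroup G))
    (Q : Sylow q G) (hQ : ¬ IsMulCommutative (Q : Subgroup G)) : False := by
  have hq2 := s4231_degree hn G hodd Q hQ
  have hq3 : 3 ≤ q := by
    rcases hodd with ⟨k, rfl⟩
    have := hq.out.two_le
    omega
  have hcop := (Nat.coprime_primes hp.out hq.out).2 hpq
  rcases hp.out.eq_two_or_odd' with rfl | hpo
  · obtain ⟨g, hg⟩ := s4231_elem hn G hG {q, 2, 2} (by
      simp only [Multiset.insert_eq_cons, Multiset.sum_cons, Multiset.sum_singleton]; nlinarith)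
      (by simp; omega) (by
      simp only [Multiset.insert_eq_cons, Multiset.sum_cons, Multiset.sum_singleton, Multiset.card_cons, Multiset.card_singleton]
      exact Even.neg_one_pow (by obtain ⟨k, rfl⟩ := hodd; exact ⟨k + 4, by omega⟩))
    refine h g (hg.trans ?_)
    simp only [Multiset.insert_eq_cons, Multiset.lcm_cons, Multiset.lcm_singleton]
    rw [normalize_eq]
    show Nat.lcm q (Nat.lcm 2 2) = 2 * q
    rw [Nat.lcm_self, Nat.Coprime.lcm_eq_mul hcop.symm, mul_comm]
  · have hp2 := s4231_degree hn G hpo P hP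
    obtain ⟨g, hg⟩ := s4231_elem hn G hG {p, q} (by
      simp only [Multiset.insert_eq_cons, Multiset.sum_cons, Multiset.sum_singleton]
      rcases le_total p q with h | h <;> nlinarith [hp.out.two_le])
      (by simp; exact ⟨hp.out.two_le, hq.out.two_le⟩) (by
      simp only [Multiset.insert_eq_cons, Multiset.sum_cons, Multiset.sum_singleton, Multiset.card_cons, Multiset.card_singleton]
      exact Even.neg_one_pow (by obtain ⟨k, rfl⟩ := hodd; obtain ⟨l, rfl⟩ := hpo; exact ⟨k + l + 2, by omega⟩))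
    refine h g (hg.trans ?_)
    simp only [Multiset.insert_eq_cons, Multiset.lcm_cons, Multiset.lcm_singleton]
    rw [normalize_eq]
    show Nat.lcm p q = p * q
    rw [Nat.Coprime.lcm_eq_mul hcop]

/-- Let n ≥ 5 and let G be a group of automorphisms of the alternating group of degree n containing all inner automorphisms. If p ≠ q are primes and G has no element of order pq, then every Sylow p-subgroup of G is abelian or every Sylow q-subgroup of G is abelian. -/
theorem result (n : ℕ) (hn : 5 ≤ n) (G : Subgroup (MulAut (alternatingGroup (Fin n))))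
    (hG : (MulAut.conj : alternatingGroup (Fin n) →* MulAut (alternatingGroup (Fin n))).range ≤ G)
    (p q : ℕ) [Fact p.Prime] [Fact q.Prime] (hpq : p ≠ q) (h : ∀ g : G, orderOf g ≠ p * q) :
    (∀ P : Sylow p G, IsMulCommutative (P : Subgroup G)) ∨ (∀ Q : Sylow q G, IsMulCommutative (Q : Subgroup G)) := by
  by_contra hcon
  push Not at hcon
  obtain ⟨⟨P, hP⟩, ⟨Q, hQ⟩⟩ := hcon
  rcases (Fact.out : q.Prime).eq_two_or_odd' with hq2 | hqo
  · subst hq2
    exact s4231_main hn G hG hpq.symm ((Fact.out : p.Prime).odd_of_ne_two hpq) (fun g => by rw [mul_comm]; exact h g) Q hQ P hP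
  · exact s4231_main hn G hG hpq hqo h P hP Q hQ

end Cfsg.Agent.S4231
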