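import Cfsg.Statements.S4236

import Mathlib
import Cfsg.Agent.Perm.SylowNumber

set_option autoImplicit false
set_option linter.style.haveILetI false
open Cfsg

namespace Cfsg.Agent.S4236
open CfsgLib.Perm.SylowNumber

theorem sign_eq_neg_one {α : Type*} [Fintype α] [DecidableEq α] (σ : Equiv.Perm α)
    (hα : Fintype.card α = 35) (h16 : σ ^ 16 = 1) (a₀ : α) (hfix : ∀ x, σ x = x ↔ x = a₀)
    (hsmall : ∀ j : ℕ, σ ^ j ≠ 1 → (Finset.univ.filter (fun x => (σ ^ j) x = x)).card ≤ 3) :
    Equiv.Perm.sign σ = -1 := by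
  classical
  have hsupp : σ.support = Finset.univ.erase a₀ := by
    ext x; simp [Equiv.Perm.mem_support, hfix x]
  have hsum : σ.cycleType.sum = 34 := by
    rw [Equiv.Perm.sum_cycleType, hsupp, Finset.card_erase_of_mem (Finset.mem_univ _), Finset.card_univ, hα]
  obtain ⟨i, hi4, hi⟩ := (Nat.dvd_prime_pow Nat.prime_two).mp
    (show orderOf σ ∣ 2 ^ 4 from orderOf_dvd_of_pow_eq_one h16)
  set e := orderOf σ with he
  -- a cycle of length `n` gives `n + 1` fixed points of `σ ^ n`
  have hcyc : ∀ c ∈ σ.cycleFactorsFinset, ∀ j : ℕ, c.support.card ∣ j →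
      ∀ x ∈ c.support, (σ ^ j) x = x := by
    intro c hc j hj x hx
    obtain ⟨hcc, hcx⟩ := Equiv.Perm.mem_cycleFactorsFinset_iff.mp hc
    have h1 : ∀ k : ℕ, (σ ^ k) x = (c ^ k) x := by
      intro k
      induction k with
      | zero => rfl
      | succ k ihk =>
        have hmem : (c ^ k) x ∈ c.support := Equiv.Perm.pow_apply_mem_support.mpr hx
        rw [pow_succ', pow_succ', Equiv.Perm.mul_apply, Equiv.Perm.mul_apply, ihk, hcx _ hmem]
    rw [h1, orderOf_dvd_iff_pow_eq_one.mp (hcc.orderOf.symm ▸ hj), Equiv.Perm.one_apply]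
  have hparts : ∀ n ∈ σ.cycleType, n = 2 ∨ n = e := by
    intro n hn
    have hne : n ∣ e := Equiv.Perm.dvd_of_mem_cycleType hn
    have hn2 := Equiv.Perm.two_le_of_mem_cycleType hn
    obtain ⟨k, hki, rfl⟩ := (Nat.dvd_prime_pow Nat.prime_two).mp (hi ▸ hne : n ∣ 2 ^ i)
    by_contra hcon
    push Not at hcon
    rw [Equiv.Perm.cycleType_def] at hn
    obtain ⟨c, hc, hck⟩ := Multiset.mem_map.mp hn
    simp only [Function.comp_apply] at hck
    have hlt : 2 ^ k < e := lt_of_le_of_ne (hi ▸ Nat.pow_le_pow_right two_pos hki) hcon.2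
    have h2 := hsmall (2 ^ k) (pow_ne_one_of_lt_orderOf (by positivity) hlt)
    have h3 : insert a₀ c.support ⊆ Finset.univ.filter (fun x => (σ ^ (2 ^ k)) x = x) := by
      intro x hx
      simp only [Finset.mem_filter, Finset.mem_univ, true_and]
      rcases Finset.mem_insert.mp hx with rfl | hx
      · exact Equiv.Perm.pow_apply_eq_self_of_apply_eq_self ((hfix _).mpr rfl) _
      · exact hcyc c hc _ (hck ▸ dvd_rfl) x hx
    have h4 : a₀ ∉ c.support := fun hx =>
      Equiv.Perm.mem_support.mp (Equiv.Perm.mem_cycleFactorsFinset_support_le hc hx) ((hfix _).mpr rfl)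
    have h5 := (Finset.card_le_card h3).trans h2
    rw [Finset.card_insert_of_notMem h4, hck] at h5
    match k, hn2, hcon.1, h5 with
    | 0, h, _, _ => norm_num at h
    | 1, _, h, _ => norm_num at h
    | k + 2, _, _, h =>
      have : 4 ≤ 2 ^ (k + 2) := le_trans (by norm_num) (Nat.pow_le_pow_right two_pos (Nat.le_add_left 2 k))
      omega
  set A := σ.cycleType.filter (fun n => n = 2) with hA
  set B := σ.cycleType.filter (fun n => ¬ n = 2) with hB
  have hAB : A + B = σ.cycleType := Multiset.filter_add_not _ _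
  have hA' : A = Multiset.replicate A.card 2 := Multiset.eq_replicate.mpr ⟨rfl, fun n hn => (Multiset.mem_filter.mp hn).2⟩
  have hB' : B = Multiset.replicate B.card e := Multiset.eq_replicate.mpr ⟨rfl, fun n hn =>
    ((hparts n (Multiset.mem_filter.mp hn).1).resolve_left (Multiset.mem_filter.mp hn).2)⟩
  have hs : 2 * A.card + e * B.card = 34 := by
    rw [← hsum, ← hAB, Multiset.sum_add]
    conv_rhs => rw [hA', hB', Multiset.sum_replicate, Multiset.sum_replicate]
    simp [Nat.mul_comm]
  rw [Equiv.Perm.sign_of_cycleType, hsum, ← hAB, Multiset.card_add]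
  suffices hodd : Odd (34 + (A.card + B.card)) from hodd.neg_one_pow
  by_cases he2 : e ≤ 2
  · have hB0 : B.card = 0 := by
      rw [Multiset.card_eq_zero]
      refine Multiset.eq_zero_of_forall_notMem fun n hn => ?_
      have h1 := (hparts n (Multiset.mem_filter.mp hn).1).resolve_left (Multiset.mem_filter.mp hn).2
      have h2 := Equiv.Perm.two_le_of_mem_cycleType (Multiset.mem_filter.mp hn).1
      exact (Multiset.mem_filter.mp hn).2 (by omega)
    rw [hB0] at hs ⊢
    exact ⟨25, by omega⟩
  · have hA1 : A.card ≤ 1 := by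
      have h1 : A.card = (σ.cycleFactorsFinset.filter (fun c => c.support.card = 2)).card := by
        rw [hA, Equiv.Perm.cycleType_def, Multiset.filter_map, Multiset.card_map]
        rfl
      rw [h1, Finset.card_le_one]
      intro c hc d hd
      rw [Finset.mem_filter] at hc hd
      by_contra hcd
      have hdis : Disjoint c.support d.support :=
        (σ.cycleFactorsFinset_pairwise_disjoint hc.1 hd.1 hcd).disjoint_support
      have h2 := hsmall 2 (pow_ne_one_of_lt_orderOf two_ne_zero (by omega))
      have h3 : c.support ∪ d.support ⊆ Finset.univ.filter (fun x => (σ ^ 2) x = x) := by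
        intro x hx
        simp only [Finset.mem_filter, Finset.mem_univ, true_and]
        rcases Finset.mem_union.mp hx with hx | hx
        · exact hcyc c hc.1 2 (by rw [hc.2]) x hx
        · exact hcyc d hd.1 2 (by rw [hd.2]) x hx
      have h5 := (Finset.card_le_card h3).trans h2
      rw [Finset.card_union_of_disjoint hdis, hc.2, hd.2] at h5
      omega
    rw [hi] at hs he2
    interval_cases i <;> norm_num at hs he2 <;> rcases Nat.le_one_iff_eq_zero_or_eq_one.mp hA1 with h | h <;>
      rw [h] at hs ⊢ <;> first | omega | (rw [show B.card = (34 - 2) / _ from by omega]; decide) | exact Nat.odd_iff.mpr (by omega)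

theorem key (G : Type*) [Group G] [Finite G] [Fact (Nat.Prime 17)] (hred : Reduced 17 G) :
    Nat.card (Sylow 17 G) ≠ 35 := by
  classical
  intro h35
  haveI := Fintype.ofFinite (Sylow 17 G)
  obtain ⟨P⟩ := (inferInstance : Nonempty (Sylow 17 G))
  have hPcard : ∀ Q : Sylow 17 G, Nat.card (Q : Subgroup G) = 17 :=
    card_sylow_eq_prime_of_small hred.1 (by omega)
      (fun _ _ hne => mul_card_inf_eq (by rw [h35]; norm_num) hne) (by omega)
  have hP := hPcard P
  have hG2 : Nat.card G ≠ 2 := fun h => by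
    have := (P : Subgroup G).card_subgroup_dvd_card
    rw [hP, h] at this; norm_num at this
  set N := Subgroup.normalizer ((P : Subgroup G) : Set G) with hNdef
  have hNmem : ∀ g, g • P = P ↔ g ∈ N := fun g => Sylow.smul_eq_iff_mem_normalizer
  have hNidx : N.index = 35 := by rw [← h35, index_normalizer P]
  obtain ⟨x, hx, hx1⟩ := (P : Subgroup G).bot_or_exists_ne_one.resolve_left (fun h => by
    rw [h, Subgroup.card_bot] at hP; norm_num at hP)
  have hxz := zpowers_eq_of_mem P hP hx hx1
  have hox : orderOf x = 17 := by rw [← Nat.card_zpowers, hxz, hP]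
  -- elements of `N` of 2-power order
  have hfix3 : ∀ k ∈ N, k ∉ Subgroup.centralizer ((P : Subgroup G) : Set G) → ∀ Q R : Sylow 17 G,
      k • Q = Q → k • R = R → (∃ y ∈ (P : Subgroup G), y • Q = R) → Q = R := by
    intro k hk hkc Q R hQ hR ⟨y, hy, hyQ⟩
    have hky : k * y * k⁻¹ ∈ (P : Subgroup G) := (Subgroup.mem_normalizer_iff.mp hk y).mp hy
    have h1 : (y⁻¹ * (k * y * k⁻¹)) • Q = Q := by
      have h2 : (k * y * k⁻¹) • Q = R := by
        calc (k * y * k⁻¹) • Q = (k * y * k⁻¹) • (k • Q) := by rw [hQ]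
          _ = k • (y • Q) := by rw [smul_smul, smul_smul]; congr 1; group
          _ = R := by rw [hyQ, hR]
      rw [mul_smul, h2, ← hyQ, inv_smul_smul]
    by_cases h3 : y⁻¹ * (k * y * k⁻¹) = 1
    · by_cases hy1 : y = 1
      · rw [← hyQ, hy1, one_smul]
      · exfalso
        refine hkc (Subgroup.mem_centralizer_iff.mpr fun z hz => ?_)
        rw [inv_mul_eq_one, eq_mul_inv_iff_mul_eq] at h3
        obtain ⟨j, rfl⟩ := Subgroup.mem_zpowers_iff.mp ((zpowers_eq_of_mem P hP hy hy1).symm ▸ hz :
          z ∈ Subgroup.zpowers y)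
        exact ((show Commute y k from h3).zpow_left j).eq
    · have hQP := eq_of_smul_eq P hP ((P : Subgroup G).mul_mem ((P : Subgroup G).inv_mem hy) hky) h3 h1
      subst hQP
      rw [← hyQ]
      exact ((hNmem y).mpr (Subgroup.le_normalizer hy)).symm
  -- the orbits of `P`
  let O : Sylow 17 G → Finset (Sylow 17 G) := fun B =>
    Finset.univ.filter (fun Q => ∃ y ∈ (P : Subgroup G), y • B = Q)
  have hOcard : ∀ B, B ≠ P → (O B).card = 17 := by
    intro B hB
    haveI := Fintype.ofFinite ↥(P : Subgroup G)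
    refine Eq.trans ?_ hP
    rw [Nat.card_eq_fintype_card, ← Finset.card_univ]
    symm
    refine Finset.card_bij (fun y _ => (y : G) • B) (fun y _ => ?_) (fun a _ b _ hab => ?_) (fun Q hQ => ?_)
    · simp only [O, Finset.mem_filter, Finset.mem_univ, true_and]; exact ⟨_, y.2, rfl⟩
    · by_contra hne
      have h1 : ((b : G)⁻¹ * a) • B = B := by rw [mul_smul, hab, inv_smul_smul]
      exact hB (eq_of_smul_eq P hP ((P : Subgroup G).mul_mem ((P : Subgroup G).inv_mem b.2) a.2)
        (fun h => hne (Subtype.ext (inv_mul_eq_one.mp h).symm)) h1)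
    · simp only [O, Finset.mem_filter, Finset.mem_univ, true_and] at hQ
      obtain ⟨y, hy, rfl⟩ := hQ
      exact ⟨⟨y, hy⟩, Finset.mem_univ _, rfl⟩
  -- no 2-power element of the normalizer moves a point out of its orbit
  have hnoswap : ∀ n ∈ N, n ^ 16 = 1 →
      (∀ j : ℕ, n ^ j ≠ 1 → n ^ j ∈ Subgroup.centralizer ((P : Subgroup G) : Set G) →
        ∀ Q, (n ^ j) • Q = Q → Q = P) →
      ∀ B, B ≠ P → n • B ∈ O B := by
    intro n hn h16 hcent B hB
    by_contra hout
    set σ : Equiv.Perm (Sylow 17 G) := MulAction.toPermHom G (Sylow 17 G) n with hσ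
    have hcover : ∀ Q, Q = P ∨ Q ∈ O B ∨ Q ∈ O (n • B) := by
      intro Q
      by_contra hcon
      push Not at hcon
      have hnB : n • B ≠ P := fun h => hB (MulAction.injective n (h.trans ((hNmem n).mpr hn).symm))
      have hdis : Disjoint (O B) (O (n • B)) := by
        rw [Finset.disjoint_left]
        intro R h1 h2
        simp only [O, Finset.mem_filter, Finset.mem_univ, true_and] at h1 h2
        obtain ⟨y, hy, rfl⟩ := h1
        obtain ⟨y', hy', hy''⟩ := h2
        refine hout ?_
        simp only [O, Finset.mem_filter, Finset.mem_univ, true_and]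
        exact ⟨y'⁻¹ * y, (P : Subgroup G).mul_mem ((P : Subgroup G).inv_mem hy') hy, by
          rw [mul_smul, ← hy'', inv_smul_smul]⟩
      have hQP : Q ∉ O B ∪ O (n • B) := by simp [hcon.2.1, hcon.2.2]
      have hPm : ∀ R, R ≠ P → P ∉ O R := by
        intro R hR h
        simp only [O, Finset.mem_filter, Finset.mem_univ, true_and] at h
        obtain ⟨y, hy, hyR⟩ := h
        exact hR (MulAction.injective y (hyR.trans ((hNmem y).mpr (Subgroup.le_normalizer hy)).symm))
      have h1 := Finset.card_le_univ (insert Q (insert P (O B ∪ O (n • B))))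
      rw [Finset.card_insert_of_notMem (by simp [hcon.1, hcon.2.1, hcon.2.2]),
        Finset.card_insert_of_notMem (by simp [hPm B hB, hPm _ hnB]), Finset.card_union_of_disjoint hdis,
        hOcard B hB, hOcard _ hnB, ← Nat.card_eq_fintype_card, h35] at h1
      omega
    have horb : ∀ y ∈ (P : Subgroup G), ∀ R, (y • n • B = n • R) → R ∈ O B := by
      intro y hy R h
      simp only [O, Finset.mem_filter, Finset.mem_univ, true_and]
      refine ⟨n⁻¹ * y * n, (Subgroup.mem_normalizer_iff''.mp hn y).mp hy, ?_⟩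
      rw [mul_smul, mul_smul, h, inv_smul_smul]
    have hfix1 : ∀ Q, σ Q = Q ↔ Q = P := by
      intro Q
      refine ⟨fun h => ?_, fun h => by subst h; exact (hNmem n).mpr hn⟩
      by_contra hQ
      have h' : n • Q = Q := h
      rcases hcover Q with h1 | h1 | h1
      · exact hQ h1
      · apply hout
        simp only [O, Finset.mem_filter, Finset.mem_univ, true_and] at h1 ⊢
        obtain ⟨y, hy, rfl⟩ := h1
        refine ⟨(n * y * n⁻¹)⁻¹ * y, (P : Subgroup G).mul_mem
          ((P : Subgroup G).inv_mem ((Subgroup.mem_normalizer_iff.mp hn y).mp hy)) hy, ?_⟩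
        calc ((n * y * n⁻¹)⁻¹ * y) • B = (n * y * n⁻¹)⁻¹ • (n • (y • B)) := by rw [h', mul_smul]
          _ = n • B := by rw [smul_smul, smul_smul]; congr 1; group
      · simp only [O, Finset.mem_filter, Finset.mem_univ, true_and] at h1
        obtain ⟨y, hy, rfl⟩ := h1
        have h2 := horb y hy (y • n • B) h'.symm
        simp only [O, Finset.mem_filter, Finset.mem_univ, true_and] at h2
        obtain ⟨z, hz, hzB⟩ := h2
        apply hout
        simp only [O, Finset.mem_filter, Finset.mem_univ, true_and]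
        exact ⟨y⁻¹ * z, (P : Subgroup G).mul_mem ((P : Subgroup G).inv_mem hy) hz, by
          rw [mul_smul, hzB, inv_smul_smul]⟩
    have hsign := sign_eq_neg_one σ (by rw [← Nat.card_eq_fintype_card, h35])
      (by rw [hσ, ← map_pow, h16, map_one]) P hfix1 (fun j hj => ?_)
    · have h1 := hred.sign_eq_one (by norm_num) hG2 n
      rw [show σ = MulAction.toPerm n from rfl, h1] at hsign
      exact absurd hsign (by decide)
    have hj' : n ^ j ≠ 1 := fun h => hj (by rw [hσ, ← map_pow, h, map_one])
    have hσj : ∀ Q, (σ ^ j) Q = (n ^ j) • Q := fun Q => by rw [hσ, ← map_pow]; rfl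
    set F := Finset.univ.filter (fun Q => (σ ^ j) Q = Q) with hF
    have hsub : ∀ R, ∀ Q ∈ F ∩ O R, ∀ Q' ∈ F ∩ O R, Q = Q' := by
      intro R Q hQ Q' hQ'
      simp only [O, hF, hσj, Finset.mem_inter, Finset.mem_filter, Finset.mem_univ, true_and] at hQ hQ'
      by_cases hc : n ^ j ∈ Subgroup.centralizer ((P : Subgroup G) : Set G)
      · rw [hcent j hj' hc Q hQ.1, hcent j hj' hc Q' hQ'.1]
      · obtain ⟨y, hy, hyQ⟩ := hQ.2
        obtain ⟨z, hz, hzQ⟩ := hQ'.2
        exact hfix3 _ (Subgroup.pow_mem _ hn j) hc Q Q' hQ.1 hQ'.1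
          ⟨z * y⁻¹, (P : Subgroup G).mul_mem hz ((P : Subgroup G).inv_mem hy), by
            rw [mul_smul, ← hyQ, inv_smul_smul, hzQ]⟩
    have hsub' : F ⊆ {P} ∪ (F ∩ O B) ∪ (F ∩ O (n • B)) := by
      intro Q hQ
      rcases hcover Q with h | h | h <;> simp [h, hQ]
    refine (Finset.card_le_card hsub').trans ((Finset.card_union_le _ _).trans ?_)
    exact le_trans (Nat.add_le_add ((Finset.card_union_le _ _).trans (Nat.add_le_add (Finset.card_singleton P).le
      (Finset.card_le_one.mpr (hsub _)))) (Finset.card_le_one.mpr (hsub _))) (by norm_num)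
  -- the centralizer of `P` is `P`
  have hC : ∀ c ∈ Subgroup.centralizer ((P : Subgroup G) : Set G), c ^ 17 = 1 := by
    intro c hc
    by_contra hc17
    set d := c ^ 17 with hd
    have hdC : d ∈ Subgroup.centralizer ((P : Subgroup G) : Set G) := Subgroup.pow_mem _ hc _
    have hstab : ∀ g ∈ Subgroup.centralizer ((P : Subgroup G) : Set G), ¬ 17 ∣ orderOf g → ∀ B, B ≠ P →
        g • B ∈ O B → g • B = B := by
      intro g hg h17 B hB hgB
      simp only [O, Finset.mem_filter, Finset.mem_univ, true_and] at hgB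
      obtain ⟨y, hy, hyB⟩ := hgB
      have hcy : Commute g y := (Subgroup.mem_centralizer_iff.mp hg y hy).symm
      have hk : ∀ k : ℕ, (g ^ k) • B = (y ^ k) • B := by
        intro k
        induction k with
        | zero => simp
        | succ k ihk => rw [pow_succ', mul_smul, ihk, smul_smul, (hcy.pow_right k).eq, mul_smul, ← hyB, smul_smul, ← pow_succ]
      have h1 := hk (orderOf g)
      rw [pow_orderOf_eq_one, one_smul] at h1
      by_cases hy1 : y = 1
      · rw [← hyB, hy1, one_smul]
      exfalso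
      by_cases hyg : y ^ orderOf g = 1
      · have h2 : orderOf y = 17 := by rw [← Nat.card_zpowers, zpowers_eq_of_mem P hP hy hy1, hP]
        exact h17 (h2 ▸ orderOf_dvd_of_pow_eq_one hyg)
      · exact hB (eq_of_smul_eq P hP ((P : Subgroup G).pow_mem hy _) hyg h1.symm)
    have hd17 : ¬ 17 ∣ orderOf d := by
      intro h17
      obtain ⟨Q, hQ⟩ : ∃ Q : Sylow 17 G, Subgroup.zpowers c ⊔ ⊥ ≤ Subgroup.normalizer ((Q : Subgroup G) : Set G) :=
        ⟨P, by rw [sup_bot_eq, Subgroup.zpowers_le]; exact Subgroup.centralizer_le_normalizer _ hc⟩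
      have h289 : 17 ^ 2 ∣ Nat.card G := by
        have h1 : orderOf d = orderOf c / Nat.gcd (orderOf c) 17 := orderOf_pow c
        have h2 : 17 ∣ orderOf c := h17.trans (h1 ▸ Nat.div_dvd_of_dvd (Nat.gcd_dvd_left _ _))
        rw [Nat.gcd_eq_right h2] at h1
        have h3 : 17 ^ 2 ∣ orderOf c := by
          rw [← Nat.div_mul_cancel h2, ← h1, pow_two]
          exact Nat.mul_dvd_mul h17 dvd_rfl
        exact h3.trans (orderOf_dvd_natCard c)
      have := P.pow_dvd_card_of_pow_dvd_card h289
      rw [hP] at this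
      norm_num at this
    by_cases hall : ∀ B, B ≠ P → d • B ∈ O B
    · refine hc17 (hred.1 d fun Q => ?_)
      by_cases hQ : Q = P
      · subst hQ; exact (hNmem d).mpr (Subgroup.centralizer_le_normalizer _ hdC)
      · exact hstab d hdC hd17 Q hQ (hall Q hQ)
    push Not at hall
    obtain ⟨B, hB, hBout⟩ := hall
    have hmod := card_fixedPoints_modEq_one P hP hdC
    -- `d ^ 2` fixes both orbits
    have hd2 : ∀ Q, Q ≠ P → (d * d) • Q ∈ O Q := by
      intro Q hQ
      have hdN : d ∈ N := Subgroup.centralizer_le_normalizer _ hdC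
      have hdis : ∀ R, R ≠ P → ∀ S ∈ O R, d • S ∈ O (d • R) := by
        intro R _ S hS
        simp only [O, Finset.mem_filter, Finset.mem_univ, true_and] at hS ⊢
        obtain ⟨y, hy, rfl⟩ := hS
        exact ⟨y, hy, by rw [smul_smul, smul_smul, Subgroup.mem_centralizer_iff.mp hdC y hy]⟩
      have hdne : ∀ R, R ≠ P → d • R ≠ P := fun R hR h => hR (MulAction.injective d (h.trans ((hNmem d).mpr hdN).symm))
      have hsymm : ∀ R S, S ∈ O R → R ∈ O S := by
        intro R S h
        simp only [O, Finset.mem_filter, Finset.mem_univ, true_and] at h ⊢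
        obtain ⟨y, hy, rfl⟩ := h
        exact ⟨y⁻¹, (P : Subgroup G).inv_mem hy, inv_smul_smul _ _⟩
      have htrans : ∀ R S T, S ∈ O R → T ∈ O S → T ∈ O R := by
        intro R S T h h'
        simp only [O, Finset.mem_filter, Finset.mem_univ, true_and] at h h' ⊢
        obtain ⟨y, hy, rfl⟩ := h
        obtain ⟨z, hz, rfl⟩ := h'
        exact ⟨z * y, (P : Subgroup G).mul_mem hz hy, mul_smul _ _ _⟩
      by_contra hcon
      rw [mul_smul] at hcon
      have h3 : ¬ (d • Q ∈ O Q) := fun h => hcon (htrans _ _ _ h (hdis Q hQ _ h))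
      have h4 : ¬ (d • (d • Q) ∈ O (d • Q)) := fun h => h3 (by
        have := hdis (d • Q) (hdne Q hQ)
        have h5 : (O Q).image (d • ·) = O (d • Q) := by
          refine Finset.eq_of_subset_of_card_le (fun S hS => ?_) ?_
          · obtain ⟨T, hT, rfl⟩ := Finset.mem_image.mp hS
            exact hdis Q hQ T hT
          · rw [Finset.card_image_of_injective _ (MulAction.injective d), hOcard Q hQ, hOcard _ (hdne Q hQ)]
        rw [← h5, Finset.mem_image] at h
        obtain ⟨T, hT, hTe⟩ := h
        rw [MulAction.injective d hTe] at hT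
        exact hT)
      have hPm : ∀ R, R ≠ P → P ∉ O R := by
        intro R hR h
        simp only [O, Finset.mem_filter, Finset.mem_univ, true_and] at h
        obtain ⟨y, hy, hyR⟩ := h
        exact hR (MulAction.injective y (hyR.trans ((hNmem y).mpr (Subgroup.le_normalizer hy)).symm))
      have hdj : ∀ R S, ¬ S ∈ O R → Disjoint (O R) (O S) := fun R S h => Finset.disjoint_left.mpr
        fun T h1 h2 => h (htrans _ _ _ h1 (hsymm _ _ h2))
      have h1 := Finset.card_le_univ (O Q ∪ O (d • Q) ∪ O (d • d • Q))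
      rw [Finset.card_union_of_disjoint (Finset.disjoint_union_left.mpr ⟨hdj _ _ hcon, hdj _ _ h4⟩),
        Finset.card_union_of_disjoint (hdj _ _ h3), hOcard Q hQ, hOcard _ (hdne Q hQ),
        hOcard _ (hdne _ (hdne Q hQ)), ← Nat.card_eq_fintype_card, h35] at h1
      omega
    have hdd : d * d = 1 := by
      refine hred.1 _ fun Q => ?_
      by_cases hQ : Q = P
      · subst hQ
        exact (hNmem _).mpr (Subgroup.mul_mem _ (Subgroup.centralizer_le_normalizer _ hdC) (Subgroup.centralizer_le_normalizer _ hdC))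
      · refine hstab _ (Subgroup.mul_mem _ hdC hdC) (fun h => hd17 ?_) Q hQ (hd2 Q hQ)
        exact h.trans (by rw [← pow_two]; exact orderOf_pow_dvd 2)
    refine hBout (hnoswap d (Subgroup.centralizer_le_normalizer _ hdC) ?_ ?_ B hB)
    · rw [show (16 : ℕ) = 2 * 8 from rfl, pow_mul, pow_two, hdd, one_pow]
    intro j hj1 hjc Q hQ
    have hjd : d ^ j = d := by
      rcases Nat.even_or_odd j with ⟨t, rfl⟩ | ⟨t, rfl⟩
      · exact absurd (by rw [← two_mul, pow_mul, pow_two, hdd, one_pow]) hj1
      · rw [pow_succ, pow_mul, pow_two, hdd, one_pow, one_mul]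
    rw [hjd] at hQ
    by_contra hQP
    rcases (em (Q ∈ O B)) with hm | hm
    · simp only [O, Finset.mem_filter, Finset.mem_univ, true_and] at hm
      obtain ⟨y, hy, rfl⟩ := hm
      refine hBout ?_
      simp only [O, Finset.mem_filter, Finset.mem_univ, true_and]
      refine ⟨1, (P : Subgroup G).one_mem, ?_⟩
      rw [smul_smul, ← Subgroup.mem_centralizer_iff.mp hdC y hy, mul_smul] at hQ
      rw [one_smul]
      exact (MulAction.injective y hQ).symm
    · apply hBout
      have hcount : Nat.card {Z : Sylow 17 G // d • Z = Z} = 1 ∨ 18 ≤ Nat.card {Z : Sylow 17 G // d • Z = Z} := by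
        have := hmod
        rw [Nat.ModEq] at this
        omega
      have hBmoved : d • B ≠ B := fun h => hBout (by
        simp only [O, Finset.mem_filter, Finset.mem_univ, true_and]
        exact ⟨1, (P : Subgroup G).one_mem, by rw [one_smul, h]⟩)
      exfalso
      -- the two orbits exhaust the other points
      have hmove : ∀ y ∈ (P : Subgroup G), d • (y • B) ≠ y • B := by
        intro y hy h
        rw [smul_smul, ← Subgroup.mem_centralizer_iff.mp hdC y hy, mul_smul] at h
        exact hBmoved (MulAction.injective y h)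
      have hsub : O B ∪ (O B).image (d • ·) ⊆ Finset.univ.filter (fun Z => d • Z ≠ Z) := by
        intro Z hZ
        simp only [Finset.mem_union, Finset.mem_image, O, Finset.mem_filter, Finset.mem_univ, true_and] at hZ ⊢
        rcases hZ with ⟨y, hy, rfl⟩ | ⟨_, ⟨y, hy, rfl⟩, rfl⟩
        · exact hmove y hy
        · exact fun h => hmove y hy (MulAction.injective d h)
      have hdis : Disjoint (O B) ((O B).image (d • ·)) := by
        rw [Finset.disjoint_left]
        intro Z h1 h2
        simp only [Finset.mem_image, O, Finset.mem_filter, Finset.mem_univ, true_and] at h1 h2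
        obtain ⟨y, hy, rfl⟩ := h1
        obtain ⟨_, ⟨z, hz, rfl⟩, hzy⟩ := h2
        refine hBout ?_
        simp only [O, Finset.mem_filter, Finset.mem_univ, true_and]
        refine ⟨z⁻¹ * y, (P : Subgroup G).mul_mem ((P : Subgroup G).inv_mem hz) hy, ?_⟩
        rw [smul_smul, ← Subgroup.mem_centralizer_iff.mp hdC z hz, mul_smul] at hzy
        rw [mul_smul, ← hzy, inv_smul_smul]
      have h1 : insert P (insert Q (O B ∪ (O B).image (d • ·))) ⊆ Finset.univ := Finset.subset_univ _
      have hPfix : d • P = P := (hNmem d).mpr (Subgroup.centralizer_le_normalizer _ hdC)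
      have hQn : Q ∉ O B ∪ (O B).image (d • ·) := fun h => by
        have := hsub h
        simp [hQ] at this
      have hPn : P ∉ insert Q (O B ∪ (O B).image (d • ·)) := fun h => by
        rcases Finset.mem_insert.mp h with h | h
        · exact hQP h.symm
        · have := hsub h
          simp [hPfix] at this
      have h2 := Finset.card_le_card h1
      rw [Finset.card_insert_of_notMem hPn, Finset.card_insert_of_notMem hQn,
        Finset.card_union_of_disjoint hdis, Finset.card_image_of_injective _ (MulAction.injective d),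
        hOcard B hB, Finset.card_univ, ← Nat.card_eq_fintype_card, h35] at h2
      omega
  -- hence the normalizer preserves both orbits
  have hNorb : ∀ m ∈ N, ∀ B, B ≠ P → m • B ∈ O B := by
    intro m hm B hB
    have hd16 : m ^ 16 ∈ Subgroup.centralizer ((P : Subgroup G) : Set G) := by
      set C := (Subgroup.centralizer ((P : Subgroup G) : Set G)).subgroupOf N
      haveI : C.Normal := by
        rw [show C = (P : Subgroup G).normalizerMonoidHom.ker from (Subgroup.normalizerMonoidHom_ker _).symm]
        infer_instance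
      have hi : C.index ∣ 16 := relIndex_centralizer_dvd (q := 17) (P : Subgroup G) hP
      obtain ⟨c, hc⟩ := hi
      have := C.pow_index_mem ⟨m, hm⟩
      have h2 := C.pow_mem this c
      rw [← pow_mul, ← hc] at h2
      exact h2
    have h272 : (m ^ 17) ^ 16 = 1 := by rw [← pow_mul, mul_comm, pow_mul, hC _ hd16]
    have hkey := hnoswap (m ^ 17) (N.pow_mem hm 17) h272 (fun j hj hjc Q _ => absurd ?_ hj) B hB
    · -- `m ^ 16` lies in `P`
      have h16P : m ^ 16 ∈ (P : Subgroup G) := by
        have hp2 : IsPGroup 17 (Subgroup.zpowers (m ^ 16)) := by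
          rintro ⟨z, hz⟩
          obtain ⟨i, rfl⟩ := Subgroup.mem_zpowers_iff.mp hz
          refine ⟨1, Subtype.ext ?_⟩
          show ((m ^ 16) ^ i) ^ (17 ^ 1) = 1
          rw [pow_one, ← zpow_natCast, zpow_comm, zpow_natCast, hC _ hd16, one_zpow]
        have h := hp2.inf_normalizer_sylow P
        have hle : Subgroup.zpowers (m ^ 16) ≤ Subgroup.normalizer (P : Set G) :=
          Subgroup.zpowers_le.mpr (Subgroup.centralizer_le_normalizer _ hd16)
        rw [inf_eq_left.mpr hle] at h
        exact inf_eq_left.mp h.symm (Subgroup.mem_zpowers _)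
      simp only [O, Finset.mem_filter, Finset.mem_univ, true_and] at hkey ⊢
      obtain ⟨y, hy, hyB⟩ := hkey
      refine ⟨(m ^ 16)⁻¹ * y, (P : Subgroup G).mul_mem ((P : Subgroup G).inv_mem h16P) hy, ?_⟩
      rw [mul_smul, hyB, smul_smul]
      congr 1
      rw [pow_succ m 16, ← mul_assoc, inv_mul_cancel, one_mul]
    · have h1 := hC _ hjc
      have h2 : ((m ^ 17) ^ j) ^ 16 = 1 := by rw [← pow_mul, mul_comm, pow_mul, h272, one_pow]
      rw [← orderOf_eq_one_iff]
      exact Nat.eq_one_of_dvd_one (by
        have := Nat.dvd_gcd (orderOf_dvd_of_pow_eq_one h1) (orderOf_dvd_of_pow_eq_one h2)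
        simpa using this)
  -- there is an involution
  have hCle : Subgroup.centralizer ((P : Subgroup G) : Set G) ≤ (P : Subgroup G) := fun c hc => by
    have hp2 : IsPGroup 17 (Subgroup.zpowers c) := by
      rintro ⟨z, hz⟩
      obtain ⟨i, rfl⟩ := Subgroup.mem_zpowers_iff.mp hz
      refine ⟨1, Subtype.ext ?_⟩
      show (c ^ i) ^ (17 ^ 1) = 1
      rw [pow_one, ← zpow_natCast, zpow_comm, zpow_natCast, hC _ hc, one_zpow]
    have h := hp2.inf_normalizer_sylow P
    have hle : Subgroup.zpowers c ≤ Subgroup.normalizer (P : Set G) :=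
      Subgroup.zpowers_le.mpr (Subgroup.centralizer_le_normalizer _ hc)
    rw [inf_eq_left.mpr hle] at h
    exact inf_eq_left.mp h.symm (Subgroup.mem_zpowers _)
  have hNdvd : Nat.card G ∣ 35 * (16 * 17) := by
    rw [← N.card_mul_index, hNidx, mul_comm]
    refine Nat.mul_dvd_mul_left 35 ?_
    rw [← (Subgroup.centralizer ((P : Subgroup G) : Set G)).subgroupOf N |>.card_mul_index]
    rw [mul_comm 16 17]
    refine Nat.mul_dvd_mul ?_ (relIndex_centralizer_dvd (q := 17) (P : Subgroup G) hP)
    rw [Nat.card_congr (Subgroup.subgroupOfEquivOfLe (Subgroup.centralizer_le_normalizer _)).toEquiv]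
    exact (Subgroup.card_dvd_of_le hCle).trans hP.dvd
  have heven : 2 ∣ Nat.card G := by
    by_contra hodd
    haveI : Fact (Nat.Prime 7) := ⟨by norm_num⟩
    obtain ⟨Q⟩ := (inferInstance : Nonempty (Sylow 7 G))
    have h7 : 7 ∣ Nat.card G := (by norm_num : 7 ∣ 35).trans (hNidx ▸ N.index_dvd_card)
    have hQ : Nat.card (Q : Subgroup G) = 7 := by
      obtain ⟨k, hk⟩ := IsPGroup.iff_card.mp Q.2
      have h1 := Q.dvd_card_of_dvd_card h7
      have h2 := ((Q : Subgroup G).card_subgroup_dvd_card).trans hNdvd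
      rw [hk] at h1 h2 ⊢
      match k with
      | 0 => norm_num at h1
      | 1 => norm_num
      | k + 2 => exact absurd ((pow_dvd_pow 7 (Nat.le_add_left 2 k)).trans h2) (by norm_num)
    refine hred.false_of_sylow_prime (q := 7) (by norm_num) Q hQ (fun h => ?_) ?_
    · have := (P : Subgroup G).card_subgroup_dvd_card
      rw [hP, h] at this; norm_num at this
    · rw [show (7 : ℕ) - 1 = 2 * 3 from rfl]
      refine Nat.Coprime.mul_right ((Nat.prime_two.coprime_iff_not_dvd.mpr hodd).symm) ?_
      refine ((Nat.prime_three.coprime_iff_not_dvd.mpr fun h => ?_).symm)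
      exact absurd (h.trans hNdvd) (by norm_num)
  haveI : Fact (Nat.Prime 2) := ⟨Nat.prime_two⟩
  obtain ⟨s, hs⟩ := exists_prime_orderOf_dvd_card' 2 heven
  obtain ⟨A, hA⟩ : ∃ A : Sylow 17 G, s • A ≠ A := by
    by_contra hcon
    push Not at hcon
    rw [hred.1 s hcon, orderOf_one] at hs
    norm_num at hs
  obtain ⟨u, hu⟩ := MulAction.exists_smul_eq G P A
  set t := u⁻¹ * s * u with ht
  have htP : t • P ≠ P := by
    intro h
    apply hA
    rw [ht, mul_smul, mul_smul, hu, inv_smul_eq_iff, hu] at h
    exact h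
  have htt : t * t = 1 := by
    have hss : s * s = 1 := by rw [← pow_two, ← hs, pow_orderOf_eq_one]
    calc t * t = u⁻¹ * (s * s) * u := by rw [ht]; group
      _ = 1 := by rw [hss]; group
  set B := t • P with hB
  -- the symmetric relation of valency 17
  let R : Finset (Sylow 17 G × Sylow 17 G) := Finset.univ.filter (fun w => ∃ g : G, g • P = w.1 ∧ g • B = w.2)
  let val : Sylow 17 G → Finset (Sylow 17 G × Sylow 17 G) := fun A => R.filter (fun w => w.1 = A)
  have hval : ∀ A, (val A).card = 17 := by
    intro A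
    obtain ⟨g, rfl⟩ := MulAction.exists_smul_eq G P A
    refine Eq.trans ?_ (hOcard B htP)
    symm
    refine Finset.card_bij (fun Q _ => (g • P, g • Q)) (fun Q hQ => ?_) (fun Q _ Q' _ h => ?_) (fun w hw => ?_)
    · simp only [O, val, R, Finset.mem_filter, Finset.mem_univ, true_and] at hQ ⊢
      obtain ⟨y, hy, rfl⟩ := hQ
      exact ⟨⟨g * y, by rw [mul_smul, (hNmem y).mpr (Subgroup.le_normalizer hy)], mul_smul _ _ _⟩, trivial⟩
    · exact MulAction.injective g (Prod.ext_iff.mp h).2
    · simp only [val, R, Finset.mem_filter, Finset.mem_univ, true_and] at hw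
      obtain ⟨⟨k, hk1, hk2⟩, hw1⟩ := hw
      have hm : g⁻¹ * k ∈ N := (hNmem _).mp (by rw [mul_smul, hk1, hw1, inv_smul_smul])
      refine ⟨(g⁻¹ * k) • B, hNorb _ hm B htP, Prod.ext hw1.symm ?_⟩
      rw [smul_smul, mul_inv_cancel_left, hk2]
  have hRcard : R.card = 35 * 17 := by
    rw [Finset.card_eq_sum_card_fiberwise (f := Prod.fst) (t := Finset.univ) (fun w _ => Finset.mem_univ _)]
    rw [Finset.sum_congr rfl (fun A _ => hval A), Finset.sum_const, Finset.card_univ,
      ← Nat.card_eq_fintype_card, h35, smul_eq_mul]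
  have hev : Even R.card := by
    have hswap : ∀ w ∈ R, Prod.swap w ∈ R := by
      intro w hw
      simp only [R, Finset.mem_filter, Finset.mem_univ, true_and] at hw ⊢
      obtain ⟨g, hg1, hg2⟩ := hw
      refine ⟨g * t, ?_, ?_⟩
      · rw [mul_smul]; exact hg2
      · rw [hB, smul_smul, mul_assoc, htt, mul_one]; exact hg1
    have h1 : ((R.card : ℕ) : ZMod 2) = 0 := by
      rw [Finset.card_eq_sum_ones, Nat.cast_sum, Nat.cast_one]
      refine Finset.sum_involution (fun w _ => Prod.swap w) (fun _ _ => CharTwo.add_self_eq_zero (1 : ZMod 2)) (fun w hw _ h => ?_)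
        hswap (fun w _ => Prod.swap_swap w)
      simp only [R, Finset.mem_filter, Finset.mem_univ, true_and] at hw
      obtain ⟨g, hg1, hg2⟩ := hw
      exact htP (MulAction.injective g (hg2.trans ((Prod.ext_iff.mp h).1.trans hg1.symm)))
    exact ZMod.natCast_eq_zero_iff_even.mp h1
  rw [hRcard] at hev
  norm_num [Nat.even_iff] at hev

/-- No finite group has exactly 35 Sylow 17-subgroups. -/
theorem result {G : Type*} [Group G] [Finite G] : Nat.card (Sylow 17 G) ≠ 35 := by
  haveI : Fact (Nat.Prime 17) := ⟨by norm_num⟩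
  refine card_sylow_ne_of_reduced (by norm_num) ?_ (fun G _ _ h => key G h) _ G rfl
  intro a b hab ha hb
  have h1 : a ∈ Nat.divisors 35 := Nat.mem_divisors.2 ⟨Dvd.intro b hab, by norm_num⟩
  rw [show Nat.divisors 35 = {1, 5, 7, 35} by decide] at h1
  simp only [Finset.mem_insert, Finset.mem_singleton] at h1
  rcases h1 with rfl | rfl | rfl | rfl <;> simp [Nat.ModEq] at ha ⊢ <;> omega

end Cfsg.Agent.S4236
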