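import Cfsg.Statements.S4238

import Mathlib
import Cfsg.Agent.Solv.PComplement
import Cfsg.Agent.Solv.PGroups
import Cfsg.Agent.Solv.CoprimeAction

set_option autoImplicit false
set_option linter.style.haveILetI false
open Cfsg

namespace Cfsg.Agent.S4238
open scoped commutatorElement

/-- Let G be a finite group and p a prime. Then G has a normal p-complement if and only if every section K = H/N of G (N a normal subgroup of a subgroup H) whose largest normal subgroup of order prime to p is trivial contains an element whose order equals the exponent of K. -/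
theorem result {G : Type*} [Group G] [Finite G] (p : ℕ) [Fact p.Prime] :
    Cfsg.HasNormalPComplement p G ↔
      ∀ (H : Subgroup G) (N : Subgroup H) [N.Normal], Cfsg.pPrimeCore p (H ⧸ N) = ⊥ →
        ∃ k : H ⧸ N, orderOf k = Monoid.exponent (H ⧸ N) := by
  classical
  have hp := (Fact.out : p.Prime)
  constructor
  · intro hG H N hN h0
    have hK : Cfsg.HasNormalPComplement p (H ⧸ N) :=
      CfsgLib.Solv.hnpc_of_surjective (QuotientGroup.mk'_surjective N) (CfsgLib.Solv.hnpc_subgroup hG H)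
    have h1 : Cfsg.pResidual p (H ⧸ N) = ⊥ := by
      haveI := CfsgLib.Inv.pResidual_normal p (H ⧸ N)
      rw [eq_bot_iff, ← h0]
      exact CfsgLib.Solv.le_pPrimeCore
        (Nat.Coprime.symm (hp.coprime_iff_not_dvd.2 (CfsgLib.Solv.hnpc_iff.1 hK)))
    have hKp : IsPGroup p (H ⧸ N) := by
      obtain ⟨m, hm⟩ := CfsgLib.Solv.exists_index_pResidual (p := p) (G := H ⧸ N)
      rw [h1, Subgroup.index_bot] at hm
      exact IsPGroup.of_card hm
    obtain ⟨k, hk⟩ := Finite.exists_max (fun k : H ⧸ N => orderOf k)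
    refine ⟨k, Nat.dvd_antisymm (Monoid.order_dvd_exponent k) (Monoid.exponent_dvd.2 fun g => ?_)⟩
    obtain ⟨a, ha⟩ := IsPGroup.iff_orderOf.1 hKp g
    obtain ⟨b, hb⟩ := IsPGroup.iff_orderOf.1 hKp k
    have := hk g
    rw [ha, hb] at this ⊢
    exact Nat.pow_dvd_pow p ((Nat.pow_le_pow_iff_right hp.one_lt).1 this)
  · intro hsec
    rw [CfsgLib.Solv.hnpc_iff_frobCond]
    intro Q₀ hQ₀ g₀ hg₀N hg₀
    by_contra hg₀C
    -- a smallest counterexample
    have hex : ∃ n, ∃ (Q : Subgroup G) (h : G), Nat.card Q = n ∧ IsPGroup p Q ∧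
        h ∈ Subgroup.normalizer (Q : Set G) ∧ Nat.Coprime (orderOf h) p ∧
        h ∉ Subgroup.centralizer (Q : Set G) :=
      ⟨_, Q₀, g₀, rfl, hQ₀, hg₀N, hg₀, hg₀C⟩
    obtain ⟨Q, g₁, hQn, hQp, hg₁N, hg₁, hg₁C⟩ := Nat.find_spec hex
    have hmin : ∀ (R : Subgroup G) (u : G), R < Q → u ∈ Subgroup.normalizer (R : Set G) →
        Nat.Coprime (orderOf u) p → u ∈ Subgroup.centralizer (R : Set G) := by
      intro R u hR huN hu
      by_contra hcon
      have hlt : Nat.card R < Nat.find hex := by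
        rw [← hQn]
        exact lt_of_le_of_ne (Subgroup.card_le_of_le hR.le) fun e =>
          hR.ne (Subgroup.eq_of_le_of_card_ge hR.le e.ge)
      exact Nat.find_min hex hlt ⟨R, u, rfl, hQp.to_le hR.le, huN, hu, hcon⟩
    -- a smallest element
    have hex2 : ∃ n, ∃ h : G, orderOf h = n ∧ h ∈ Subgroup.normalizer (Q : Set G) ∧
        Nat.Coprime (orderOf h) p ∧ h ∉ Subgroup.centralizer (Q : Set G) := ⟨_, g₁, rfl, hg₁N, hg₁, hg₁C⟩
    obtain ⟨h, hhn, hhN, hh, hhC⟩ := Nat.find_spec hex2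
    have hsub : ∀ s : ℕ, s.Prime → s ∣ orderOf h → h ^ s ∈ Subgroup.centralizer (Q : Set G) := by
      intro s hs hsd
      by_contra hcon
      have hlt : orderOf (h ^ s) < Nat.find hex2 := by
        rw [← hhn, orderOf_pow_of_dvd hs.ne_zero hsd]
        exact Nat.div_lt_self (orderOf_pos h) hs.one_lt
      exact Nat.find_min hex2 hlt ⟨_, rfl, pow_mem hhN s,
        hh.coprime_dvd_left (orderOf_pow_dvd s), hcon⟩
    have hone : orderOf h ≠ 1 := fun e => hhC (by rw [orderOf_eq_one_iff.1 e]; exact one_mem _)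
    obtain ⟨r, hr, hrd⟩ := Nat.exists_prime_and_dvd hone
    have hrC := hsub r hr hrd
    have hrp : r ≠ p := fun e => by
      rw [e] at hrd
      exact absurd (Nat.Coprime.coprime_dvd_left hrd hh) (by rw [Nat.coprime_self]; exact hp.one_lt.ne')
    -- integers: `h ^ i` centralises `Q` only if `r ∣ i`
    have hpowC : ∀ i : ℕ, h ^ i ∈ Subgroup.centralizer (Q : Set G) → r ∣ i := by
      intro i hi
      by_contra hcon
      apply hhC
      have hcop : Nat.Coprime i r := ((Nat.Prime.coprime_iff_not_dvd hr).2 hcon).symm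
      have e : h = (h ^ i) ^ (Nat.gcdA i r) * (h ^ r) ^ (Nat.gcdB i r) := by
        rw [← zpow_natCast h i, ← zpow_natCast h r, ← zpow_mul, ← zpow_mul, ← zpow_add,
          ← Nat.gcd_eq_gcd_ab, hcop, Nat.cast_one, zpow_one]
      rw [e]
      exact mul_mem (Subgroup.zpow_mem _ hi _) (Subgroup.zpow_mem _ hrC _)
    set A := Subgroup.zpowers h with hA
    set Φ := (frattini Q).map Q.subtype with hΦ
    have hΦQ : Φ ≤ Q := Subgroup.map_subtype_le _
    have hΦn : ∀ u ∈ Subgroup.normalizer (Q : Set G), ∀ x ∈ Φ, u * x * u⁻¹ ∈ Φ := by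
      rintro u hu _ ⟨y, hy, rfl⟩
      exact ⟨_, CfsgLib.Solv.map_mem_of_characteristic (Q.normalizerMonoidHom ⟨u, hu⟩) hy, rfl⟩
    have hAN : A ≤ Subgroup.normalizer (Q : Set G) := Subgroup.zpowers_le.2 hhN
    have hhconj : ∀ q ∈ Q, h * q * h⁻¹ ∈ Q := fun q hq => (Subgroup.mem_normalizer_iff.1 hhN q).1 hq
    have hcommQ : ∀ q ∈ Q, ⁅h, q⁆ ∈ Q := fun q hq => by
      rw [commutatorElement_def]; exact mul_mem (hhconj q hq) (inv_mem hq)
    have hder : ∀ x ∈ Q, ∀ y ∈ Q, ⁅x, y⁆ ∈ Φ := fun x hx y hy =>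
      ⟨⁅(⟨x, hx⟩ : Q), ⟨y, hy⟩⁆, CfsgLib.Solv.commutator_le_frattini hQp
        (Subgroup.commutator_mem_commutator (Subgroup.mem_top _) (Subgroup.mem_top _)), rfl⟩
    let QN := ↥(Subgroup.normalizer (Q : Set G))
    -- work modulo `Φ` inside `Q`
    haveI hΦnormal : (Φ.subgroupOf Q).Normal := ⟨fun x hx u => by
      rw [Subgroup.mem_subgroupOf] at hx ⊢
      exact hΦn u (Subgroup.le_normalizer u.2) x hx⟩
    let π := QuotientGroup.mk' (Φ.subgroupOf Q)
    have hπc : ∀ u v : Q, π u * π v = π v * π u := fun u v => by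
      rw [← commutatorElement_eq_one_iff_mul_comm, ← map_commutatorElement]
      exact (QuotientGroup.eq_one_iff _).2 (hder u u.2 v v.2)
    let ψ : Q →* (Q ⧸ Φ.subgroupOf Q) :=
      { toFun := fun q => π ⟨⁅h, (q : G)⁆, hcommQ q q.2⟩
        map_one' := by
          rw [← map_one π]; congr 1; exact Subtype.ext (by simp)
        map_mul' := fun u v => by
          have e : (⟨⁅h, ((u * v : Q) : G)⁆, hcommQ _ (u * v).2⟩ : Q) =
              ⟨⁅h, (u : G)⁆, hcommQ u u.2⟩ * (u * ⟨⁅h, (v : G)⁆, hcommQ v v.2⟩ * u⁻¹) :=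
            Subtype.ext (by simp [commutatorElement_def, mul_assoc])
          rw [e, map_mul, map_mul, map_mul, hπc u, map_inv, mul_inv_cancel_right] }
    have hψeq : ∀ q : Q, ψ q = 1 ↔ ⁅h, (q : G)⁆ ∈ Φ := fun q => QuotientGroup.eq_one_iff _
    have hψk : ∀ q : Q, π q = 1 → ψ q = 1 := fun q hq => by
      rw [hψeq]
      have hqΦ : (q : G) ∈ Φ := (QuotientGroup.eq_one_iff q).1 hq
      rw [commutatorElement_def]
      exact mul_mem (hΦn h hhN q hqΦ) (inv_mem hqΦ)
    let ψ' : (Q ⧸ Φ.subgroupOf Q) →* (Q ⧸ Φ.subgroupOf Q) :=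
      QuotientGroup.lift _ ψ fun q hq => hψk q ((QuotientGroup.eq_one_iff q).2 hq)
    have hψ' : ∀ q : Q, ψ' (π q) = ψ q := fun q => rfl
    have hinj : Function.Injective ψ' := by
      by_contra hni
      have hns : ¬ Function.Surjective ψ' := fun hs => hni (Finite.injective_iff_surjective.2 hs)
      set R := (ψ'.range.comap π).map Q.subtype with hR
      have hRQ : R < Q := by
        refine lt_of_le_of_ne (Subgroup.map_subtype_le _) fun e => hns ?_
        intro y
        obtain ⟨q, rfl⟩ := QuotientGroup.mk'_surjective (Φ.subgroupOf Q) y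
        have hq : (q : G) ∈ R := by rw [e]; exact q.2
        obtain ⟨q', hq', e'⟩ := hq
        rw [Subtype.ext e'] at hq'
        exact hq'
      have hRh : ∀ (u : G), u ∈ A → ∀ x ∈ R, u * x * u⁻¹ ∈ R := by
        intro u hu
        obtain ⟨j, rfl⟩ := (isOfFinOrder_of_finite h).mem_powers_iff_mem_zpowers.2 hu
        induction j with
        | zero => intro x hx; simpa using hx
        | succ j ih =>
          intro x hx
          have e : h ^ (j + 1) * x * (h ^ (j + 1))⁻¹ = h ^ j * (h * x * h⁻¹) * (h ^ j)⁻¹ := by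
            rw [pow_succ]; group
          rw [e]
          refine ih (pow_mem (Subgroup.mem_zpowers h) j) _ ?_
          obtain ⟨y, ⟨z, hz⟩, rfl⟩ := hx
          obtain ⟨z, rfl⟩ := QuotientGroup.mk'_surjective (Φ.subgroupOf Q) z
          refine ⟨⟨_, hhconj y y.2⟩, ⟨π ⟨_, hhconj z z.2⟩, ?_⟩, rfl⟩
          rw [hψ'] at hz ⊢
          have h3 : (⟨_, hcommQ z z.2⟩ : Q)⁻¹ * y ∈ Φ.subgroupOf Q := QuotientGroup.eq.1 hz
          refine QuotientGroup.eq.2 ?_
          rw [Subgroup.mem_subgroupOf] at h3 ⊢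
          have h4 := hΦn h hhN _ h3
          simpa [commutatorElement_def, mul_assoc] using h4
      have hhR : h ∈ Subgroup.normalizer (R : Set G) := Subgroup.mem_normalizer_iff.2 fun x =>
        ⟨hRh h (Subgroup.mem_zpowers h) x, fun hx => by
          have := hRh h⁻¹ (inv_mem (Subgroup.mem_zpowers h)) _ hx
          simpa [mul_assoc] using this⟩
      have hcR := hmin R h hRQ hhR hh
      apply hhC
      rw [Subgroup.mem_centralizer_iff]
      intro q hq
      let a : MulAut Q := Q.normalizerMonoidHom ⟨h, hhN⟩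
      have ha : Nat.Coprime (orderOf a) p :=
        hh.coprime_dvd_left ((orderOf_map_dvd _ _).trans (by rw [← Subgroup.orderOf_coe]))
      set z : Q := (⟨q, hq⟩ : Q)⁻¹ * a ⟨q, hq⟩ with hz
      have hzR : (z : G) ∈ R := by
        refine ⟨z, ⟨π ⟨q, hq⟩, ?_⟩, rfl⟩
        rw [hψ']
        show π _ = π z
        rw [hz, map_mul, map_inv]
        have : (⟨⁅h, q⁆, hcommQ q hq⟩ : Q) = a ⟨q, hq⟩ * (⟨q, hq⟩ : Q)⁻¹ :=
          Subtype.ext (by show ⁅h, q⁆ = h * q * h⁻¹ * q⁻¹; rw [commutatorElement_def])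
        rw [this, map_mul, map_inv, ← map_inv, hπc]
      have h1 := CfsgLib.Solv.eq_one_of_fixed_shift hQp ha (x := (⟨q, hq⟩ : Q)) (z := z)
        (by rw [hz, mul_inv_cancel_left]) (Subtype.ext (by
          show h * (z : G) * h⁻¹ = z
          rw [← Subgroup.mem_centralizer_iff.1 hcR _ hzR, mul_inv_cancel_right]))
      rw [hz, inv_mul_eq_one] at h1
      have h2 : q = h * q * h⁻¹ := congrArg Subtype.val h1
      calc q * h = h * q * h⁻¹ * h := by rw [← h2]
        _ = h * q := by group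
    -- `h` acts without fixed points modulo `Φ`
    have hfpf : ∀ q ∈ Q, ⁅h, q⁆ ∈ Φ → q ∈ Φ := by
      intro q hq hc
      have h1 : ψ' (π ⟨q, hq⟩) = ψ' 1 := by rw [hψ', map_one, hψeq]; exact hc
      exact (QuotientGroup.eq_one_iff (⟨q, hq⟩ : Q)).1 (hinj h1)
    -- the section
    set H := Q ⊔ A with hH
    set B := Φ ⊔ Subgroup.zpowers (h ^ r) with hB
    have hBH : B ≤ H := sup_le (hΦQ.trans le_sup_left)
      ((Subgroup.zpowers_le.2 (pow_mem (Subgroup.mem_zpowers h) r)).trans le_sup_right)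
    have hBmem : ∀ x, x ∈ B ↔ ∃ f ∈ Φ, ∃ j : ℤ, f * (h ^ r) ^ j = x := by
      intro x
      have hle : Subgroup.zpowers (h ^ r) ≤ Subgroup.normalizer (Φ : Set G) := by
        rw [Subgroup.zpowers_le, Subgroup.mem_normalizer_iff]
        intro y
        refine ⟨hΦn _ (pow_mem hhN r) y, fun hy => ?_⟩
        have := hΦn _ (inv_mem (pow_mem hhN r)) _ hy
        simpa [mul_assoc] using this
      rw [hB, ← SetLike.mem_coe, Subgroup.coe_mul_of_right_le_normalizer_left Φ _ hle]
      constructor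
      · rintro ⟨f, hf, _, ⟨j, rfl⟩, rfl⟩; exact ⟨f, hf, j, rfl⟩
      · rintro ⟨f, hf, j, rfl⟩; exact ⟨f, hf, _, ⟨j, rfl⟩, rfl⟩
    have hHmem : ∀ x, x ∈ H ↔ ∃ q ∈ Q, ∃ i : ℕ, q * h ^ i = x := by
      intro x
      rw [hH, ← SetLike.mem_coe, Subgroup.coe_mul_of_right_le_normalizer_left Q _ hAN]
      constructor
      · rintro ⟨q, hq, u, hu, rfl⟩
        obtain ⟨i, rfl⟩ := (isOfFinOrder_of_finite h).mem_powers_iff_mem_zpowers.2 hu
        exact ⟨q, hq, i, rfl⟩
      · rintro ⟨q, hq, i, rfl⟩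
        exact ⟨q, hq, _, pow_mem (Subgroup.mem_zpowers h) i, rfl⟩
    have hHN : H ≤ Subgroup.normalizer (Q : Set G) := sup_le Subgroup.le_normalizer hAN
    have hBconj : ∀ u ∈ H, ∀ x ∈ B, u * x * u⁻¹ ∈ B := by
      intro u hu x hx
      obtain ⟨f, hf, j, rfl⟩ := (hBmem x).1 hx
      have e : u * (f * (h ^ r) ^ j) * u⁻¹ = (u * f * u⁻¹) * (u * (h ^ r) ^ j * u⁻¹) := by group
      rw [e]
      refine mul_mem (Subgroup.mem_sup_left (hΦn u (hHN hu) f hf)) (Subgroup.mem_sup_right ?_)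
      obtain ⟨q, hq, i, rfl⟩ := (hHmem u).1 hu
      have c1 : Commute (h ^ i) ((h ^ r) ^ j) := ((Commute.refl h).pow_pow i r).zpow_right j
      have c2 : Commute q ((h ^ r) ^ j) :=
        (show Commute q (h ^ r) from Subgroup.mem_centralizer_iff.1 hrC q hq).zpow_right j
      rw [(c2.mul_left c1).eq, mul_inv_cancel_right]
      exact Subgroup.zpow_mem _ (Subgroup.mem_zpowers _) j
    haveI hNn : (B.subgroupOf H).Normal := ⟨fun x hx u => hBconj u u.2 x hx⟩
    -- the image of `Q`, and its intersection with `B`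
    have hQB : ∀ q ∈ Q, q ∈ B → q ∈ Φ := by
      intro q hq hqB
      obtain ⟨f, hf, j, e⟩ := (hBmem q).1 hqB
      refine hfpf q hq ?_
      have hcq : (h ^ r) ^ j = f⁻¹ * q := by rw [← e]; group
      rw [← e]
      have e2 : ⁅h, f * (h ^ r) ^ j⁆ = ⁅h, f⁆ := by
        have c : Commute h ((h ^ r) ^ j) := ((Commute.refl h).pow_right r).zpow_right j
        rw [commutatorElement_def, commutatorElement_def, ← mul_assoc, mul_inv_rev, ← mul_assoc,
          mul_assoc (h * f) _ h⁻¹, c.inv_left.symm.eq]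
        group
      rw [e2, commutatorElement_def]
      exact mul_mem (hΦn h hhN f hf) (inv_mem hf)
    let K := H ⧸ B.subgroupOf H
    let ρ : H →* K := QuotientGroup.mk' _
    have hQH : Q ≤ H := le_sup_left
    have hhH : h ∈ H := Subgroup.mem_sup_right (Subgroup.mem_zpowers h)
    set hb : K := ρ ⟨h, hhH⟩ with hhb
    set V := (Q.subgroupOf H).map ρ with hV
    haveI : (Q.subgroupOf H).Normal :=
      (Subgroup.normal_subgroupOf_iff_le_normalizer hQH).2 hHN
    haveI : V.Normal := Subgroup.Normal.map inferInstance ρ (QuotientGroup.mk'_surjective _)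
    have hVab : ∀ u ∈ V, ∀ v ∈ V, u * v = v * u := by
      rintro _ ⟨u, hu, rfl⟩ _ ⟨v, hv, rfl⟩
      rw [← commutatorElement_eq_one_iff_mul_comm, ← map_commutatorElement]
      exact (QuotientGroup.eq_one_iff _).2 (Subgroup.mem_sup_left (hder u hu v hv))
    have hVfix : ∀ v ∈ V, hb * v = v * hb → v = 1 := by
      rintro _ ⟨v, hv, rfl⟩ hc
      rw [← commutatorElement_eq_one_iff_mul_comm, ← map_commutatorElement] at hc
      exact (QuotientGroup.eq_one_iff _).2 (Subgroup.mem_sup_left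
        (hfpf v hv (hQB _ (hcommQ v hv) (((QuotientGroup.eq_one_iff (⁅(⟨h, hhH⟩ : H), v⁆)).1 hc : _ ∈ B.subgroupOf H)))))
    have hdec : ∀ k : K, ∃ v ∈ V, ∃ i : ℕ, v * hb ^ i = k := by
      intro k
      obtain ⟨⟨x, hx⟩, rfl⟩ := QuotientGroup.mk'_surjective (B.subgroupOf H) k
      obtain ⟨q, hq, i, rfl⟩ := (hHmem x).1 hx
      refine ⟨ρ ⟨q, hQH hq⟩, ⟨_, hq, rfl⟩, i, ?_⟩
      rw [← map_pow, ← map_mul]
      rfl
    have hbr : hb ^ r = 1 := by
      rw [← map_pow]
      exact (QuotientGroup.eq_one_iff _).2 (Subgroup.mem_sup_right (Subgroup.mem_zpowers (h ^ r)))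
    have hcent : ∀ (i : ℕ) (v : K), v ∈ V → ¬ r ∣ i → hb ^ i * v = v * hb ^ i → v = 1 := by
      intro i v hv hi hc
      refine hVfix v hv ?_
      obtain ⟨m, hm⟩ := exists_pow_eq_self_of_coprime (x := hb) (n := i)
        ((hr.coprime_iff_not_dvd.2 hi).symm.coprime_dvd_right (orderOf_dvd_of_pow_eq_one hbr))
      rw [← hm]
      exact ((show Commute (hb ^ i) v from hc).pow_left m).eq
    have hVne : ∃ v ∈ V, v ≠ 1 := by
      by_contra hcon
      push Not at hcon
      apply hhC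
      have hle : A ≤ Subgroup.centralizer (Q : Set G) := by
        refine CfsgLib.Solv.le_centralizer_of_trivial_on_frattini_quotient ?_ ?_
        · rw [Nat.card_zpowers]
          obtain ⟨k, hk⟩ := IsPGroup.iff_card.1 (hQp.to_subgroup (frattini Q))
          rw [hk]; exact hh.pow_right k
        · intro a ha q hq
          have hqΦ : q ∈ Φ := hQB q hq ((QuotientGroup.eq_one_iff (⟨q, hQH hq⟩ : H)).1 (hcon _ ⟨_, hq, rfl⟩))
          rw [commutatorElement_def]
          exact mul_mem (hΦn a (hAN ha) q hqΦ) (inv_mem hqΦ)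
      exact hle (Subgroup.mem_zpowers h)
    obtain ⟨v₀, hv₀, hv₀1⟩ := hVne
    have hVp : ∀ v ∈ V, ∃ j : ℕ, orderOf v = p ^ j := by
      rintro _ ⟨v, hv, rfl⟩
      obtain ⟨j, hj⟩ := IsPGroup.iff_orderOf.1 hQp ⟨v, hv⟩
      rw [← Subgroup.orderOf_coe] at hj
      have : orderOf (ρ v) ∣ p ^ j := (orderOf_map_dvd ρ v).trans (by rw [← Subgroup.orderOf_coe, ← hj])
      obtain ⟨i, -, hi⟩ := (Nat.dvd_prime_pow hp).1 this
      exact ⟨i, hi⟩
    have h0 : Cfsg.pPrimeCore p K = ⊥ := by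
      haveI : (Cfsg.pPrimeCore p K).Normal := CfsgLib.Solv.pPrimeCore_normal K p
      rw [eq_bot_iff]
      intro x hx
      have hc := CfsgLib.Solv.pPrimeCore_coprime K p
      have hd : Disjoint (Cfsg.pPrimeCore p K) V := by
        rw [disjoint_iff, eq_bot_iff]
        intro y hy
        obtain ⟨h1, h2⟩ := Subgroup.mem_inf.1 hy
        obtain ⟨j, hj⟩ := hVp y h2
        rw [Subgroup.mem_bot, ← orderOf_eq_one_iff]
        exact Nat.eq_one_of_dvd_coprimes (hc.pow_right j) (Subgroup.orderOf_dvd_natCard _ h1) (hj ▸ dvd_rfl)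
      have hcx : ∀ v ∈ V, x * v = v * x := fun v hv =>
        Subgroup.commute_of_normal_of_disjoint _ V inferInstance inferInstance hd x v hx hv
      obtain ⟨v, hv, i, e⟩ := hdec x
      have hi : r ∣ i := by
        by_contra hi
        refine hv₀1 (hcent i v₀ hv₀ hi ?_)
        have h1 := hcx v₀ hv₀
        rw [← e] at h1
        calc hb ^ i * v₀ = v⁻¹ * (v * hb ^ i * v₀) := by group
          _ = v⁻¹ * v₀ * v * hb ^ i := by rw [h1]; group
          _ = v⁻¹ * (v₀ * v) * hb ^ i := by group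
          _ = v₀ * hb ^ i := by rw [hVab v₀ hv₀ v hv, inv_mul_cancel_left]
      obtain ⟨d, rfl⟩ := hi
      rw [pow_mul, hbr, one_pow, mul_one] at e
      exact hd.le_bot ⟨hx, e ▸ hv⟩
    obtain ⟨k, hk⟩ := hsec H (B.subgroupOf H) h0
    haveI := Fact.mk hr
    have hhb1 : hb ≠ 1 := fun e => hv₀1 (hVfix v₀ hv₀ (by rw [e, one_mul, mul_one]))
    have hpe : p ∣ orderOf k := by
      rw [hk]
      obtain ⟨j, hj⟩ := hVp v₀ hv₀
      refine dvd_trans ?_ (hj ▸ Monoid.order_dvd_exponent v₀)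
      exact dvd_pow_self p fun e => hv₀1 (orderOf_eq_one_iff.1 (by rw [hj, e, pow_zero]))
    have hre : r ∣ orderOf k := by
      rw [hk]
      exact (orderOf_eq_prime hbr hhb1) ▸ Monoid.order_dvd_exponent hb
    set k₁ := k ^ (orderOf k / p) with hk₁
    set k₂ := k ^ (orderOf k / r) with hk₂
    have ho1 : orderOf k₁ = p := orderOf_pow_orderOf_div (orderOf_pos k).ne' hpe
    have ho2 : orderOf k₂ = r := orderOf_pow_orderOf_div (orderOf_pos k).ne' hre
    have hk1V : k₁ ∈ V := by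
      obtain ⟨v, hv, i, e⟩ := hdec k₁
      rw [← QuotientGroup.eq_one_iff (N := V), ← orderOf_eq_one_iff]
      refine Nat.eq_one_of_dvd_coprimes ((Nat.coprime_primes hp hr).2 hrp.symm) ?_ ?_
      · exact (orderOf_map_dvd (QuotientGroup.mk' V) k₁).trans ho1.dvd
      · refine orderOf_dvd_of_pow_eq_one ?_
        rw [← e, QuotientGroup.mk_mul, (QuotientGroup.eq_one_iff v).2 hv, one_mul,
          ← QuotientGroup.mk_pow, ← pow_mul, mul_comm, pow_mul, hbr, one_pow, QuotientGroup.mk_one]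
    obtain ⟨v, hv, i, e⟩ := hdec k₂
    have hi : ¬ r ∣ i := by
      rintro ⟨d, rfl⟩
      rw [pow_mul, hbr, one_pow, mul_one] at e
      obtain ⟨j, hj⟩ := hVp v hv
      rw [e, ho2] at hj
      exact hrp ((Nat.prime_dvd_prime_iff_eq hr hp).1 (hr.dvd_of_dvd_pow (dvd_of_eq hj)))
    have h1 : k₂ * k₁ = k₁ * k₂ := by rw [hk₁, hk₂, ← pow_add, ← pow_add, add_comm]
    have h2 : k₁ = 1 := by
      refine hcent i k₁ hk1V hi ?_
      rw [← e] at h1
      calc hb ^ i * k₁ = v⁻¹ * (v * hb ^ i * k₁) := by group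
        _ = v⁻¹ * (k₁ * v) * hb ^ i := by rw [h1]; group
        _ = k₁ * hb ^ i := by rw [hVab k₁ hk1V v hv, inv_mul_cancel_left]
    rw [h2, orderOf_one] at ho1
    exact hp.one_lt.ne ho1

end Cfsg.Agent.S4238
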