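import Cfsg.Statements.S4242

import Cfsg.Agent.Solv.CoprimeSylow
import Cfsg.Agent.Solv.MinNonNilp
import Cfsg.Agent.Solv.PComplement
import Cfsg.Agent.Solv.SylowFactor

set_option autoImplicit false
set_option linter.style.haveILetI false
open Cfsg

namespace Cfsg.Agent.S4242

/-- In a nilpotent subgroup elements of order prime to `p` centralize `p`-subgroups. -/
theorem centralizes {G : Type*} [Group G] [Finite G] {p : ℕ} (hp : p.Prime) {N Q X : Subgroup G}
    (hN : Group.IsNilpotent N) (hQ : IsPGroup p Q) (hQN : Q ≤ N) (hXN : X ≤ N) (hX : ¬ p ∣ Nat.card X) :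
    X ≤ Subgroup.centralizer (Q : Set G) := by
  refine CfsgLib.Solv.le_of_forall_prime_power fun q hq hqX y hy ⟨b, hb⟩ => ?_
  have hqp : q ≠ p := fun e => hX (e ▸ hqX)
  haveI : Fact q.Prime := ⟨hq⟩
  have hy' : IsPGroup q ↥(Subgroup.zpowers y) := IsPGroup.of_card (n := b) (by rw [Nat.card_zpowers, hb])
  have h := CfsgLib.Solv.commute_of_isNilpotent hN hq hp hqp
    (hy'.comap_of_injective N.subtype N.subtype_injective) (hQ.comap_of_injective N.subtype N.subtype_injective)
    (show (⟨y, hXN hy⟩ : N) ∈ (Subgroup.zpowers y).comap N.subtype from Subgroup.mem_zpowers y)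
  rw [Subgroup.mem_centralizer_iff]
  intro z hz
  exact congrArg Subtype.val (Subgroup.mem_centralizer_iff.1 h ⟨z, hQN hz⟩ hz)

theorem forward {G : Type*} [Group G] [Finite G] (p : ℕ) [Fact p.Prime] (hpG : p ∣ Nat.card G)
    (h : ∀ M : Subgroup G, IsCoatom M → p ∣ Nat.card M → Group.IsNilpotent M)
    (M : Subgroup G) (hM : IsCoatom M) (hMn : ¬ Group.IsNilpotent M) :
    ∃ Z K : Subgroup G, Z.Normal ∧ K.Normal ∧ Z ⊓ K = ⊥ ∧ Z ⊔ K = ⊤ ∧ Nat.card Z = p ∧
          Cfsg.IsMinimalNonNilpotent K ∧ ¬ p ∣ Nat.card K := by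
  have hp := (Fact.out : p.Prime)
  have hpM : ¬ p ∣ Nat.card M := fun hd => hMn (h M hM hd)
  have hprop : ∀ H : Subgroup G, H ≠ ⊤ → p ∣ Nat.card H → Group.IsNilpotent H := by
    intro H hH hd
    obtain ⟨N, hN, hle⟩ := (eq_top_or_exists_le_coatom H).resolve_left hH
    haveI := h N hN (hd.trans (Subgroup.card_dvd_of_le hle))
    exact Group.nilpotent_of_mulEquiv (Subgroup.subgroupOfEquivOfLe hle)
  by_cases hcore : ∃ Q : Subgroup G, Q.Normal ∧ IsPGroup p Q ∧ Q ≠ ⊥
  · obtain ⟨Q, hQn, hQp, hQ1⟩ := hcore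
    haveI := hQn
    have hcp : ∀ A B : Subgroup G, IsPGroup p A → ¬ p ∣ Nat.card B → A ⊓ B = ⊥ := by
      intro A B hA hB
      refine CfsgLib.Solv.inf_eq_bot_of_coprime_card ?_
      obtain ⟨n, hn⟩ := IsPGroup.iff_card.1 hA
      rw [hn]
      exact Nat.Coprime.pow_left _ (hp.coprime_iff_not_dvd.2 hB)
    have hpQ : ∀ A : Subgroup G, IsPGroup p A → A ≠ ⊥ → p ∣ Nat.card A := fun A hA hA1 => by
      obtain ⟨n, hn⟩ := IsPGroup.iff_card.1 hA
      rw [hn]
      exact dvd_pow_self p fun h0 => hA1 (Subgroup.card_eq_one.1 (by rw [hn, h0, pow_zero]))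
    have hsupM : ∀ A : Subgroup G, IsPGroup p A → A ≠ ⊥ → A.Normal → A ⊔ M = ⊤ ∧ Nat.card A * Nat.card M = Nat.card G := by
      intro A hA hA1 hAn
      haveI := hAn
      have h1 : A ⊔ M = ⊤ := hM.2 _ (lt_of_le_of_ne le_sup_right fun e => hpM ((hpQ A hA hA1).trans
        (Subgroup.card_dvd_of_le (e ▸ le_sup_left : A ≤ M))))
      refine ⟨h1, ?_⟩
      have h2 := CfsgLib.Solv.card_sup_mul_card_inf M A
      rw [sup_comm, h1, Subgroup.card_top, inf_comm, hcp A M hA hpM, Subgroup.card_bot, mul_one] at h2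
      rw [h2, mul_comm]
    obtain ⟨hQM, hQcard⟩ := hsupM Q hQp hQ1 hQn
    -- proper subgroups of `M` centralize `Q`
    have hsub : ∀ H : Subgroup G, H < M → Group.IsNilpotent H ∧ H ≤ Subgroup.centralizer (Q : Set G) := by
      intro H hH
      have hne : H ⊔ Q ≠ ⊤ := by
        intro e
        have h2 := CfsgLib.Solv.card_sup_mul_card_inf H Q
        rw [e, Subgroup.card_top, inf_comm, hcp Q H hQp (fun hd => hpM (hd.trans (Subgroup.card_dvd_of_le hH.le))),
          Subgroup.card_bot, mul_one, ← hQcard, mul_comm] at h2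
        exact hH.ne (Subgroup.eq_of_le_of_card_ge hH.le (Nat.eq_of_mul_eq_mul_left Nat.card_pos (by rw [mul_comm]; rw [mul_comm (Nat.card Q)]; exact h2)).le)
      have hn := hprop _ hne ((hpQ Q hQp hQ1).trans (Subgroup.card_dvd_of_le le_sup_right))
      haveI := hn
      exact ⟨Group.nilpotent_of_mulEquiv (Subgroup.subgroupOfEquivOfLe (le_sup_left : H ≤ H ⊔ Q)),
        centralizes hp hn hQp le_sup_right le_sup_left fun hd => hpM (hd.trans (Subgroup.card_dvd_of_le hH.le))⟩
    have hMC : M ≤ Subgroup.centralizer (Q : Set G) := by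
      intro x hx
      refine (hsub (Subgroup.zpowers x) (lt_of_le_of_ne ((Subgroup.zpowers_le).2 hx) fun e => hMn ?_)).2 (Subgroup.mem_zpowers x)
      rw [← e]
      exact ⟨1, by rw [Subgroup.upperCentralSeries_one]; exact eq_top_iff.2 fun a _ => Subgroup.mem_center_iff.2 fun b => Subtype.ext (by obtain ⟨i, hi⟩ := b.2; obtain ⟨j, hj⟩ := a.2; show (b : G) * a = a * b; rw [← hi, ← hj, ← zpow_add, ← zpow_add, add_comm])⟩
    haveI hMnorm : M.Normal := by
      refine Subgroup.normalizer_eq_top_iff.1 (eq_top_iff.2 ?_)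
      rw [← hQM]
      refine sup_le (fun q hq => ?_) Subgroup.le_normalizer
      rw [Subgroup.mem_normalizer_iff_map_conj_eq]
      ext y
      constructor
      · rintro ⟨m, hm, rfl⟩
        show q * m * q⁻¹ ∈ M
        rw [Subgroup.mem_centralizer_iff.1 (hMC hm) q hq, mul_inv_cancel_right]
        exact hm
      · intro hy
        exact ⟨y, hy, by show q * y * q⁻¹ = y; rw [Subgroup.mem_centralizer_iff.1 (hMC hy) q hq, mul_inv_cancel_right]⟩
    refine ⟨Q, M, hQn, hMnorm, hcp Q M hQp hpM, hQM, ?_, ⟨hMn, fun H hH => ?_⟩, hpM⟩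
    · -- a subgroup of order `p` in the centre of `Q`
      haveI : Nontrivial Q := (Subgroup.nontrivial_iff_ne_bot _).2 hQ1
      haveI := IsPGroup.center_nontrivial hQp
      have hdz : p ∣ Nat.card ↥(Subgroup.center Q) := by
        obtain ⟨n, hn⟩ := IsPGroup.iff_card.1 (hQp.to_subgroup (Subgroup.center Q))
        rw [hn]
        exact dvd_pow_self p fun h0 => absurd (Finite.one_lt_card (α := ↥(Subgroup.center Q))) (by rw [hn, h0, pow_zero]; omega)
      obtain ⟨z, hz⟩ := exists_prime_orderOf_dvd_card' p hdz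
      set c : G := ((z : Q) : G)
      have hcord : orderOf c = p := by rw [Subgroup.orderOf_coe, Subgroup.orderOf_coe, hz]
      have hcc : c ∈ Subgroup.center G := by
        rw [Subgroup.mem_center_iff]
        intro g
        obtain ⟨q, hq, m, hm, rfl⟩ := Subgroup.mem_sup_of_normal_left.1 (show g ∈ Q ⊔ M by rw [hQM]; trivial)
        have e1 : q * c = c * q := congrArg Subtype.val (Subgroup.mem_center_iff.1 z.2 ⟨q, hq⟩)
        have e2 : c * m = m * c := Subgroup.mem_centralizer_iff.1 (hMC hm) c (z : Q).2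
        rw [mul_assoc, ← e2, ← mul_assoc, e1, mul_assoc]
      haveI : (Subgroup.zpowers c).Normal :=
        ⟨fun y hy g => by rw [Subgroup.mem_center_iff.1 ((Subgroup.zpowers_le).2 hcc hy) g, mul_inv_cancel_right]; exact hy⟩
      have h2 := (hsupM (Subgroup.zpowers c) (IsPGroup.of_card (n := 1) (by rw [Nat.card_zpowers, hcord, pow_one]))
        (fun e => hp.ne_one (by rw [← hcord, ← Nat.card_zpowers, e, Subgroup.card_bot])) inferInstance).2
      rw [← hQcard, Nat.card_zpowers, hcord] at h2
      exact (Nat.eq_of_mul_eq_mul_right Nat.card_pos h2).symm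
    · have hlt : H.map M.subtype < M := by
        refine lt_of_le_of_ne (Subgroup.map_subtype_le H) fun e => hH ?_
        refine Subgroup.map_injective M.subtype_injective ?_
        rw [e, ← MonoidHom.range_eq_map, Subgroup.range_subtype]
      haveI := (hsub _ hlt).1
      exact Group.nilpotent_of_mulEquiv (H.equivMapOfInjective M.subtype M.subtype_injective).symm
  · push Not at hcore
    exfalso
    have hF : CfsgLib.Solv.FrobCond p G := by
      intro Q hQ g hg hco
      by_cases hQ1 : Q = ⊥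
      · subst hQ1
        rw [Subgroup.mem_centralizer_iff]
        intro x hx
        rw [Subgroup.mem_bot.1 hx, one_mul, mul_one]
      have hne : Subgroup.normalizer (Q : Set G) ≠ ⊤ := fun e => hQ1 (hcore Q (Subgroup.normalizer_eq_top_iff.1 e) hQ)
      obtain ⟨n, hn⟩ := IsPGroup.iff_card.1 hQ
      have hd : p ∣ Nat.card Q := hn ▸ dvd_pow_self p fun h0 => hQ1 (Subgroup.card_eq_one.1 (by rw [hn, h0, pow_zero]))
      exact centralizes hp (hprop _ hne (hd.trans (Subgroup.card_dvd_of_le Subgroup.le_normalizer))) hQ Subgroup.le_normalizer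
        ((Subgroup.zpowers_le).2 hg) (by rw [Nat.card_zpowers]; exact hp.coprime_iff_not_dvd.1 hco.symm) (Subgroup.mem_zpowers g)
    have hh := CfsgLib.Solv.hnpc_iff_frobCond.2 hF
    set K := Cfsg.pResidual p G
    have hMK : M ≤ K := fun x hx => (CfsgLib.Solv.hnpc_mem_iff hh).2
      (Nat.Coprime.symm (hp.coprime_iff_not_dvd.2 fun hd => hpM (hd.trans (Subgroup.orderOf_dvd_natCard _ hx))))
    obtain ⟨P⟩ : Nonempty (Sylow p G) := inferInstance
    haveI : K.Normal := CfsgLib.Inv.pResidual_normal p G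
    have hKp : ¬ p ∣ Nat.card K := fun hd => by
      obtain ⟨x, hx⟩ := exists_prime_orderOf_dvd_card' p hd
      have := (CfsgLib.Solv.hnpc_mem_iff hh).1 x.2
      rw [Subgroup.orderOf_coe, hx, Nat.coprime_self] at this
      exact hp.ne_one this
    have hcop : (Nat.card (P : Subgroup G)).Coprime (Nat.card K) := by
      obtain ⟨n, hn⟩ := IsPGroup.iff_card.1 P.2
      rw [hn]
      exact Nat.Coprime.pow_left _ (hp.coprime_iff_not_dvd.2 hKp)
    have hPK : (P : Subgroup G) ≤ Subgroup.normalizer (K : Set G) := by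
      rw [Subgroup.normalizer_eq_top_iff.2 (inferInstance : K.Normal)]; exact le_top
    haveI := P.2.isNilpotent
    have hP1 : (P : Subgroup G) ≠ ⊥ := P.ne_bot_of_dvd_card hpG
    by_cases hall : ∀ r : ℕ, r.Prime → r ∣ Nat.card K → ∃ R : Sylow r K, (R : Subgroup K).map K.subtype ≤ Subgroup.centralizer ((P : Subgroup G) : Set G)
    · -- `P` centralizes `K`, so it is normal
      have hC : K ≤ Subgroup.centralizer ((P : Subgroup G) : Set G) := by
        set C := (Subgroup.centralizer ((P : Subgroup G) : Set G)).subgroupOf K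
        have hd : Nat.card K ∣ Nat.card C := by
          rw [Nat.dvd_iff_prime_pow_dvd_dvd]
          intro r k hr hrk
          rcases Nat.eq_zero_or_pos k with rfl | hk
          · simp
          haveI : Fact r.Prime := ⟨hr⟩
          obtain ⟨R, hR⟩ := hall r hr ((dvd_pow_self r hk.ne').trans hrk)
          have hRC : (R : Subgroup K) ≤ C := fun x hx => hR ⟨x, hx, rfl⟩
          refine dvd_trans ?_ (Subgroup.card_dvd_of_le hRC)
          rw [R.card_eq_multiplicity]
          exact pow_dvd_pow r ((hr.pow_dvd_iff_le_factorization Nat.card_pos.ne').1 hrk)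
        have : C = ⊤ := Subgroup.eq_top_of_card_eq C (Nat.dvd_antisymm (Subgroup.card_subgroup_dvd_card C) hd)
        intro x hx
        exact (this ▸ Subgroup.mem_top (⟨x, hx⟩ : K) : (⟨x, hx⟩ : K) ∈ C)
      refine hP1 (hcore _ (Subgroup.normalizer_eq_top_iff.1 (eq_top_iff.2 ?_)) P.2)
      have htop : K ⊔ (P : Subgroup G) = ⊤ := by rw [sup_comm]; exact CfsgLib.Solv.sylow_sup_pResidual P
      rw [← htop]
      exact sup_le (hC.trans (Subgroup.centralizer_le_normalizer _)) Subgroup.le_normalizer
    · push Not at hall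
      obtain ⟨r, hr, -, hR⟩ := hall
      haveI : Fact r.Prime := ⟨hr⟩
      obtain ⟨R, hRP⟩ := CfsgLib.Solv.exists_invariant_sylow (p := r) hPK hcop (Or.inl inferInstance)
      set R' := (R : Subgroup K).map K.subtype
      have htop : (P : Subgroup G) ⊔ R' = ⊤ := by
        by_contra hne
        have hR'p : ¬ p ∣ Nat.card R' := fun hd => hKp (hd.trans (Subgroup.card_dvd_of_le (Subgroup.map_subtype_le _)))
        exact hR R (centralizes hp (hprop _ hne ((P.dvd_card_of_dvd_card hpG).trans (Subgroup.card_dvd_of_le le_sup_left)))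
          P.2 le_sup_left le_sup_right hR'p)
      have hKR : K ≤ R' := by
        intro x hx
        have hx' : x ∈ (P : Subgroup G) ⊔ R' := by rw [htop]; trivial
        rw [← SetLike.mem_coe, Subgroup.coe_mul_of_left_le_normalizer_right _ _ hRP] at hx'
        obtain ⟨a, ha, b, hb, rfl⟩ := hx'
        have haK : a ∈ K := by simpa using K.mul_mem hx (K.inv_mem (Subgroup.map_subtype_le _ hb))
        have : a = 1 := Subgroup.mem_bot.1 (CfsgLib.Solv.inf_eq_bot_of_coprime_card hcop ▸ ⟨ha, haK⟩)
        simpa [this] using hb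
      haveI := (R.2.map K.subtype).to_le (hMK.trans hKR) |>.isNilpotent
      exact hMn inferInstance

/-- Let G be a finite group and p a prime dividing its order. Every maximal subgroup of G of order divisible by p is nilpotent if and only if G is nilpotent, or G is a minimal non-nilpotent group, or G is the internal direct product of a normal subgroup of order p and a normal minimal non-nilpotent subgroup of order prime to p. -/
theorem result {G : Type*} [Group G] [Finite G] (p : ℕ) (hp : p.Prime) (hpG : p ∣ Nat.card G) :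
    (∀ M : Subgroup G, IsCoatom M → p ∣ Nat.card M → Group.IsNilpotent M) ↔
      (Group.IsNilpotent G ∨ Cfsg.IsMinimalNonNilpotent G ∨
        ∃ Z K : Subgroup G, Z.Normal ∧ K.Normal ∧ Z ⊓ K = ⊥ ∧ Z ⊔ K = ⊤ ∧ Nat.card Z = p ∧
          Cfsg.IsMinimalNonNilpotent K ∧ ¬ p ∣ Nat.card K) := by
  haveI : Fact p.Prime := ⟨hp⟩
  constructor
  · intro h
    by_cases hn : Group.IsNilpotent G
    · exact Or.inl hn
    by_cases hall : ∀ M : Subgroup G, IsCoatom M → Group.IsNilpotent M
    · refine Or.inr (Or.inl ⟨hn, fun H hH => ?_⟩)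
      obtain ⟨N, hN, hle⟩ := (eq_top_or_exists_le_coatom H).resolve_left hH
      haveI := hall N hN
      exact Group.nilpotent_of_mulEquiv (Subgroup.subgroupOfEquivOfLe hle)
    · push Not at hall
      obtain ⟨M, hM, hMn⟩ := hall
      exact Or.inr (Or.inr (forward p hpG h M hM hMn))
  · rintro (h | h | ⟨Z, K, hZ, hK, hinf, hsup, hcard, hKm, hKp⟩) M hM hd
    · haveI := h; infer_instance
    · exact h.2 M hM.1
    · haveI := hZ
      haveI := hK
      have hZK : ∀ z ∈ Z, ∀ k ∈ K, z * k = k * z := fun z hz k hk =>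
        (Subgroup.commute_of_normal_of_disjoint Z K hZ hK (disjoint_iff.2 hinf) z k hz hk).eq
      have hZc : Z ≤ Subgroup.center G := by
        intro z hz
        rw [Subgroup.mem_center_iff]
        intro g
        obtain ⟨a, ha, b, hb, rfl⟩ := Subgroup.mem_sup_of_normal_left.1 (show g ∈ Z ⊔ K by rw [hsup]; trivial)
        haveI : IsCyclic Z := isCyclic_of_prime_card hcard
        letI : CommGroup Z := IsCyclic.commGroup
        have e1 : a * z = z * a := congrArg Subtype.val (mul_comm (⟨a, ha⟩ : Z) ⟨z, hz⟩)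
        rw [mul_assoc, ← hZK z hz b hb, ← mul_assoc, e1, mul_assoc]
      have hZM : Z ≤ M := by
        obtain ⟨x, hx⟩ := exists_prime_orderOf_dvd_card' p hd
        have hxG : orderOf (x : G) = p := by rw [Subgroup.orderOf_coe, hx]
        obtain ⟨a, ha, b, hb, e⟩ := Subgroup.mem_sup_of_normal_left.1 (show (x : G) ∈ Z ⊔ K by rw [hsup]; trivial)
        have ha1 : a ^ p = 1 := by
          have := Subgroup.orderOf_dvd_natCard Z ha
          rw [hcard] at this
          exact orderOf_dvd_iff_pow_eq_one.1 this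
        have hb1 : b ^ p = 1 := by
          have := pow_orderOf_eq_one (x : G)
          rw [hxG, ← e, Commute.mul_pow (hZK a ha b hb), ha1, one_mul] at this
          exact this
        have hb0 : b = 1 := by
          rcases (Nat.dvd_prime hp).1 (orderOf_dvd_of_pow_eq_one hb1) with h1 | h1
          · exact orderOf_eq_one_iff.1 h1
          · exact absurd (h1 ▸ Subgroup.orderOf_dvd_natCard K hb) hKp
        rw [hb0, mul_one] at e
        have hzp : Subgroup.zpowers (x : G) = Z := Subgroup.eq_of_le_of_card_ge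
          ((Subgroup.zpowers_le).2 (e ▸ ha)) (by rw [Nat.card_zpowers, hxG, hcard])
        rw [← hzp, Subgroup.zpowers_le]
        exact x.2
      set D := (M ⊓ K).subgroupOf K
      have hD : D ≠ ⊤ := by
        intro e
        rw [Subgroup.subgroupOf_eq_top] at e
        exact hM.1 (eq_top_iff.2 (hsup ▸ sup_le hZM (e.trans inf_le_left)))
      haveI := hKm.2 D hD
      haveI : Group.IsNilpotent ↥(M ⊓ K) := Group.nilpotent_of_mulEquiv (Subgroup.subgroupOfEquivOfLe inf_le_right)
      let ψ : M →* G ⧸ Z := (QuotientGroup.mk' Z).comp M.subtype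
      haveI : Group.IsNilpotent ψ.range := by
        refine Group.nilpotent_of_surjective (((QuotientGroup.mk' Z).comp (M ⊓ K).subtype).codRestrict ψ.range
          fun y => ⟨⟨y, y.2.1⟩, rfl⟩) ?_
        rintro ⟨_, ⟨m, rfl⟩⟩
        obtain ⟨a, ha, b, hb, e⟩ := Subgroup.mem_sup_of_normal_left.1 (show (m : G) ∈ Z ⊔ K by rw [hsup]; trivial)
        have hbM : b ∈ M := by
          have : b = a⁻¹ * m := by rw [← e]; group
          rw [this]
          exact M.mul_mem (M.inv_mem (hZM ha)) m.2
        refine ⟨⟨b, hbM, hb⟩, Subtype.ext ?_⟩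
        show QuotientGroup.mk' Z b = QuotientGroup.mk' Z (m : G)
        rw [← e, map_mul, show QuotientGroup.mk' Z a = 1 from (QuotientGroup.eq_one_iff a).2 ha, one_mul]
      refine Subgroup.isNilpotent_of_ker_le_center ψ.rangeRestrict ?_
      intro m hm
      rw [MonoidHom.ker_rangeRestrict, MonoidHom.mem_ker] at hm
      rw [Subgroup.mem_center_iff]
      exact fun g => Subtype.ext (Subgroup.mem_center_iff.1 (hZc ((QuotientGroup.eq_one_iff (m : G)).1 hm)) g)

end Cfsg.Agent.S4242
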