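import Cfsg.Statements.S4244
import Cfsg.Agent.Perm.Basic

set_option autoImplicit false
set_option linter.style.haveILetI false
open Cfsg

namespace Cfsg.Agent.S4244

/-- Let H be a subnormal subgroup of a finite group G. Then for every subgroup K of G the index of H ∩ K in H divides the index of K in G. -/
theorem result {G : Type*} [Group G] [Finite G] (H : Subgroup G) (hH : H.IsSubnormal) (K : Subgroup G) :
    (H ⊓ K).relIndex H ∣ K.index := by
  have key : ∀ H : Subgroup G, H.IsSubnormal → K.relIndex H ∣ K.index := by
    intro H hH
    induction hH with
    | top => rw [Subgroup.relIndex_top_right]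
    | step A B hAB hB hN ih =>
      refine dvd_trans ?_ ih
      haveI := hN
      calc K.relIndex A = (K.subgroupOf B).relIndex (A.subgroupOf B) :=
            (Subgroup.relIndex_subgroupOf hAB).symm
        _ = (K.subgroupOf B).relIndex (A.subgroupOf B ⊔ K.subgroupOf B) := by
            rw [sup_comm, CfsgLib.Perm.relIndex_sup_eq_of_normal]
        _ ∣ (K.subgroupOf B).index := Subgroup.relIndex_dvd_index_of_le le_sup_right
        _ = K.relIndex B := rfl
  rw [Subgroup.inf_relIndex_left]
  exact key H hH

end Cfsg.Agent.S4244
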