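import Cfsg.Statements.S4245
import Cfsg.Agent.Perm.Kazarin
import Cfsg.Agent.Solv.TransferTools
import Cfsg.Agent.Char.Burnside
import Cfsg.Agent.Perm.MinClass

set_option autoImplicit false
set_option linter.style.haveILetI false
open Cfsg

namespace Cfsg.Agent.S4245

open CfsgLib.Perm.Kazarin

universe u

/-- An element of the centralizer is never a witness. -/
theorem not_dvd_index_of_pow_dvd {G : Type*} [Group G] [Finite G] {q : ℕ} (hq : q.Prime)
    (H : Subgroup G) (h : q ^ (Nat.card G).factorization q ∣ Nat.card H) : ¬ q ∣ H.index := by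
  intro hd
  refine Nat.pow_succ_factorization_not_dvd (Nat.card_pos (α := G)).ne' hq ?_
  have := mul_dvd_mul h hd
  rwa [← pow_succ, H.card_mul_index] at this

theorem index_eq_pow {G : Type*} [Group G] [Finite G] (p : ℕ) (H : Subgroup G)
    (h : ∀ q : ℕ, q.Prime → q ≠ p → q ^ (Nat.card G).factorization q ∣ Nat.card H) :
    ∃ k, H.index = p ^ k :=
  ⟨_, Nat.eq_prime_pow_of_unique_prime_dvd Subgroup.index_ne_zero_of_finite fun {d} hd hdd => by
    by_contra hne
    exact not_dvd_index_of_pow_dvd hd H (h d hd hne) hdd⟩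

set_option maxHeartbeats 1000000 in
/-- The main argument, for a group with trivial solvable radical. -/
theorem rad_bot_case {G : Type u} [Group G] [Finite G] (A : Subgroup G) (p s : ℕ) (hp : p.Prime)
    (hA : A.index = p ^ s) (B : Subgroup A) [B.Normal] (hB : IsCyclic B) (hAB : IsCyclic (A ⧸ B))
    (r : ℕ) (hr : Nat.card (A ⧸ B) = 2 ^ r) (hrad : rad G = ⊥) : Group.IsSolvable G := by
  classical
  haveI : Fact (Nat.Prime 2) := ⟨Nat.prime_two⟩
  have hno : ∀ x : G, (∃ k, (Subgroup.centralizer ({x} : Set G)).index = p ^ k) → x = 1 := by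
    rintro x ⟨k, hk⟩
    have h := le_rad (isSolvable_normalClosure_of_class_pow hp hk)
    rw [hrad] at h
    exact Subgroup.mem_bot.1 (h (Subgroup.subset_normalClosure rfl))
  set C := B.map A.subtype with hCdef
  have hCA : C ≤ A := Subgroup.map_subtype_le _
  haveI hCc : IsCyclic C := isCyclic_of_surjective (B.equivMapOfInjective _ A.subtype_injective)
    (MulEquiv.surjective _)
  have hCcard : Nat.card A = 2 ^ r * Nat.card C := by
    rw [hCdef, Subgroup.card_map_of_injective A.subtype_injective, B.card_eq_card_quotient_mul_card_subgroup, hr]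
  have hAconj : ∀ a ∈ A, ∀ x ∈ C, a * x * a⁻¹ ∈ C := by
    rintro a ha _ ⟨x, hx, rfl⟩
    exact ⟨⟨a, ha⟩ * x * ⟨a, ha⟩⁻¹, Subgroup.Normal.conj_mem ‹_› x hx _, rfl⟩
  -- odd parts of the cyclic subgroup
  have hqC : ∀ q : ℕ, q.Prime → q ≠ p → q ≠ 2 →
      ∃ w ∈ C, orderOf w = q ^ (Nat.card G).factorization q := by
    intro q hq hqp hq2
    have h1 : q ^ (Nat.card G).factorization q ∣ Nat.card A * p ^ s := by
      rw [← hA, A.card_mul_index]; exact Nat.ordProj_dvd _ _
    rw [hCcard] at h1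
    have h2 : q ^ (Nat.card G).factorization q ∣ 2 ^ r * Nat.card C :=
      (((Nat.coprime_primes hq hp).2 hqp).pow _ _).dvd_of_dvd_mul_right h1
    have h3 : q ^ (Nat.card G).factorization q ∣ Nat.card C :=
      (((Nat.coprime_primes hq Nat.prime_two).2 hq2).pow _ _).dvd_of_dvd_mul_left h2
    obtain ⟨c, hc⟩ := IsCyclic.exists_ofOrder_eq_natCard (α := C)
    refine ⟨((c ^ (Nat.card C / q ^ (Nat.card G).factorization q) : C) : G), SetLike.coe_mem _, ?_⟩
    have h4 := orderOf_pow_of_dvd (x := c)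
      (n := Nat.card C / q ^ (Nat.card G).factorization q) ?_ ?_
    · rw [Subgroup.orderOf_coe, h4, hc, Nat.div_div_self h3 Nat.card_pos.ne']
    · exact (Nat.div_pos (Nat.le_of_dvd Nat.card_pos h3) (pow_pos hq.pos _)).ne'
    · rw [hc]; exact Nat.div_dvd_of_dvd h3
  -- a normal 2-complement is impossible
  have hnp : Cfsg.HasNormalPComplement 2 G → Group.IsSolvable G := by
    rintro ⟨P, N, hN, hNP⟩
    haveI := hN
    have hodd : ∀ x : G, Nat.Coprime (orderOf x) 2 → x ∈ N := by
      intro x hx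
      rw [← QuotientGroup.eq_one_iff (N := N), ← orderOf_eq_one_iff]
      obtain ⟨k, hk⟩ := P.2.exists_card_eq
      refine Nat.eq_one_of_dvd_coprimes (hx.pow_right k) (orderOf_map_dvd (QuotientGroup.mk' N) x) ?_
      rw [← hk, ← hNP.symm.index_eq_card, Subgroup.index_eq_card]
      exact orderOf_dvd_natCard _
    have hw1 : ∀ q : ℕ, q.Prime → q ≠ p → q ≠ 2 → (Nat.card G).factorization q = 0 := by
      intro q hq hqp hq2
      obtain ⟨w, hw, hwo⟩ := hqC q hq hqp hq2
      have hwN : w ∈ N := hodd w (by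
        rw [hwo]; exact ((Nat.coprime_primes hq Nat.prime_two).2 hq2).pow_left _)
      have hidx : ∃ k, (Subgroup.centralizer ({(⟨w, hwN⟩ : N)} : Set N)).index = p ^ k := by
        refine index_eq_pow p _ fun q' hq' hqp' => ?_
        rcases eq_or_ne q' 2 with rfl | hq2'
        · rw [Nat.factorization_eq_zero_of_not_dvd ?_, pow_zero]
          · exact one_dvd _
          intro hd
          obtain ⟨y, hy⟩ := exists_prime_orderOf_dvd_card' 2 hd
          obtain ⟨k, hk⟩ := P.2.exists_card_eq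
          have h1 := Subgroup.card_dvd_of_le (le_refl N)
          have hdis := hNP.disjoint
          obtain ⟨Q, hQ⟩ := (IsPGroup.of_card (p := 2) (n := 1) (G := Subgroup.zpowers (y : G)) (by
            rw [Nat.card_zpowers, Subgroup.orderOf_coe, hy, pow_one])).exists_le_sylow
          obtain ⟨g, hg⟩ := MulAction.exists_smul_eq G Q P
          have h2 : g * (y : G) * g⁻¹ ∈ (P : Subgroup G) := by
            rw [← hg, Sylow.coe_subgroup_smul]
            exact Subgroup.smul_mem_pointwise_smul _ (MulAut.conj g) _ (hQ (Subgroup.mem_zpowers _))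
          have h3 := Subgroup.disjoint_def.1 hdis (Subgroup.Normal.conj_mem hN _ y.2 g) h2
          rw [← Subgroup.orderOf_coe, conj_eq_one_iff.1 h3, orderOf_one] at hy
          norm_num at hy
        · obtain ⟨v, hv, hvo⟩ := hqC q' hq' hqp' hq2'
          have hvN : v ∈ N := hodd v (by
            rw [hvo]; exact ((Nat.coprime_primes hq' Nat.prime_two).2 hq2').pow_left _)
          have h1 : q' ^ (Nat.card N).factorization q' ∣ q' ^ (Nat.card G).factorization q' :=
            pow_dvd_pow _ ((Nat.factorization_le_iff_dvd Nat.card_pos.ne' Nat.card_pos.ne').2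
              N.card_subgroup_dvd_card q')
          refine h1.trans ?_
          rw [← hvo, ← Subgroup.orderOf_mk v hvN]
          refine Subgroup.orderOf_dvd_natCard _ (Subgroup.mem_centralizer_singleton_iff.2 ?_)
          exact Subtype.ext (show v * w = w * v from congrArg Subtype.val
            (IsCyclic.commGroup.mul_comm (⟨v, hv⟩ : C) ⟨w, hw⟩))
      obtain ⟨k, hk⟩ := hidx
      have h1 : (⟨w, hwN⟩ : N) ∈ rad N :=
        le_rad (isSolvable_normalClosure_of_class_pow hp hk) (Subgroup.subset_normalClosure rfl)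
      have h2 : w ∈ rad G := map_rad_le N ⟨_, h1, rfl⟩
      rw [hrad, Subgroup.mem_bot] at h2
      rw [h2, orderOf_one] at hwo
      rcases Nat.pow_eq_one.1 hwo.symm with h | h
      · exact absurd h hq.ne_one
      · exact h
    refine CfsgLib.Char.solvable_of_card_two_primes 2 p ((Nat.card G).factorization 2)
      (Nat.card G / 2 ^ (Nat.card G).factorization 2).primeFactorsList.length Nat.prime_two hp ?_
    conv_lhs => rw [← Nat.ordProj_mul_ordCompl_eq_self (Nat.card G) 2]
    congr 1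
    refine Nat.eq_prime_pow_of_unique_prime_dvd (Nat.ordCompl_pos 2 Nat.card_pos.ne').ne'
      fun {d} hd hdd => ?_
    by_contra hne
    have hd2 : d ≠ 2 := fun e =>
      Nat.not_dvd_ordCompl Nat.prime_two (Nat.card_pos (α := G)).ne' (e ▸ hdd)
    exact (hd.factorization_pos_of_dvd Nat.card_pos.ne'
      (hdd.trans (Nat.ordCompl_dvd _ 2))).ne' (hw1 d hd hne hd2)
  by_cases hp2 : p = 2
  · -- all odd order is in the cyclic part
    subst hp2
    obtain ⟨c, hc⟩ := IsCyclic.exists_generator (α := C)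
    have hc1 : (c : G) = 1 := by
      refine hno c (index_eq_pow 2 _ fun q hq hq2 => ?_)
      obtain ⟨w, hw, hwo⟩ := hqC q hq hq2 hq2
      rw [← hwo]
      refine Subgroup.orderOf_dvd_natCard _ (Subgroup.mem_centralizer_singleton_iff.2 ?_)
      exact congrArg Subtype.val (IsCyclic.commGroup.mul_comm (⟨w, hw⟩ : C) c)
    have hC1 : ∀ x ∈ C, x = 1 := fun x hx => by
      obtain ⟨k, hk⟩ := Subgroup.mem_zpowers_iff.1 (hc ⟨x, hx⟩)
      have h1 : c = 1 := Subtype.ext hc1
      rw [h1, one_zpow] at hk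
      exact congrArg Subtype.val hk.symm
    refine CfsgLib.Char.solvable_of_card_two_primes 2 2 (r + s) 0 Nat.prime_two Nat.prime_two ?_
    rw [← A.card_mul_index, hA, hCcard, (Subgroup.eq_bot_iff_forall C).2 hC1, Subgroup.card_bot]
    ring
  -- a Sylow 2-subgroup inside `A`
  obtain ⟨T⟩ : Nonempty (Sylow 2 A) := inferInstance
  set S := (T : Subgroup A).map A.subtype with hSdef
  have hSA : S ≤ A := Subgroup.map_subtype_le _
  have hScard : Nat.card S = 2 ^ (Nat.card G).factorization 2 := by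
    rw [hSdef, Subgroup.card_map_of_injective A.subtype_injective, T.card_eq_multiplicity,
      ← A.card_mul_index, hA, Nat.factorization_mul Nat.card_pos.ne' (pow_pos hp.pos _).ne',
      Finsupp.add_apply, hp.factorization_pow, Finsupp.single_eq_of_ne (Ne.symm hp2), add_zero]
  let P : Sylow 2 G := Sylow.ofCard S hScard
  have hPS : (P : Subgroup G) = S := Sylow.coe_ofCard _ _
  have hSp : IsPGroup 2 S := T.2.map _
  -- index criterion
  have hcrit : ∀ z : G, (S ≤ Subgroup.centralizer ({z} : Set G)) →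
      (∀ q : ℕ, q.Prime → q ≠ p → q ≠ 2 →
        q ^ (Nat.card G).factorization q ∣ Nat.card (Subgroup.centralizer ({z} : Set G))) → z = 1 := by
    intro z hz h
    refine hno z (index_eq_pow p _ fun q hq hqp => ?_)
    rcases eq_or_ne q 2 with rfl | hq2
    · exact hScard ▸ Subgroup.card_dvd_of_le hz
    · exact h q hq hqp hq2
  -- `S` acts faithfully on the odd part of `C`
  let D : Subgroup G :=
    ⨅ (x : G) (_ : x ∈ C ∧ Nat.Coprime (orderOf x) 2), Subgroup.centralizer ({x} : Set G)
  have hD : ∀ z, z ∈ D ↔ ∀ x ∈ C, Nat.Coprime (orderOf x) 2 → z * x = x * z := by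
    intro z
    simp only [D, Subgroup.mem_iInf, Subgroup.mem_centralizer_singleton_iff, and_imp]
  have hconjC : ∀ a ∈ S, ∀ x ∈ C, Nat.Coprime (orderOf x) 2 →
      a * x * a⁻¹ ∈ C ∧ Nat.Coprime (orderOf (a * x * a⁻¹)) 2 := by
    intro a ha x hx ho
    refine ⟨hAconj a (hSA ha) x hx, ?_⟩
    rwa [← MulAut.conj_apply, MulEquiv.orderOf_eq]
  have hSD : S ⊓ D = ⊥ := by
    by_contra hne
    haveI hnorm : ((S ⊓ D).subgroupOf S).Normal := by
      refine ⟨fun z hz a => ?_⟩
      rw [Subgroup.mem_subgroupOf] at hz ⊢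
      refine Subgroup.mem_inf.2 ⟨mul_mem (mul_mem a.2 z.2) (inv_mem a.2), (hD _).2 fun x hx ho => ?_⟩
      obtain ⟨h1, h2⟩ := hconjC (a : G)⁻¹ (inv_mem a.2) x hx ho
      have h3 := (hD _).1 hz.2 _ h1 h2
      simp only [Subgroup.coe_mul, Subgroup.coe_inv, inv_inv] at h3 ⊢
      calc (a : G) * z * (a : G)⁻¹ * x = a * ((z : G) * ((a : G)⁻¹ * x * a)) * (a : G)⁻¹ := by group
        _ = x * ((a : G) * z * (a : G)⁻¹) := by rw [h3]; group
    have hne' : (S ⊓ D).subgroupOf S ≠ ⊥ := fun e => hne (by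
      have := congrArg (Subgroup.map S.subtype) e
      rwa [Subgroup.map_subgroupOf_eq_of_le inf_le_left, Subgroup.map_bot] at this)
    have h1 := CfsgLib.Perm.inf_center_ne_bot hSp _ hne'
    obtain ⟨z, ⟨hzD, hzc⟩, hz1⟩ := Subgroup.ne_bot_iff_exists_ne_one.1 h1 |> fun ⟨z, hz⟩ =>
      (⟨(z : S), z.2, fun e => hz (Subtype.ext e)⟩ :
        ∃ z : S, z ∈ (S ⊓ D).subgroupOf S ⊓ Subgroup.center S ∧ z ≠ 1)
    refine hz1 (Subtype.ext (hcrit z ?_ ?_))
    · intro a ha
      exact Subgroup.mem_centralizer_singleton_iff.2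
        (congrArg Subtype.val (Subgroup.mem_center_iff.1 hzc ⟨a, ha⟩))
    · intro q hq hqp hq2
      obtain ⟨w, hw, hwo⟩ := hqC q hq hqp hq2
      rw [← hwo]
      refine Subgroup.orderOf_dvd_natCard _ (Subgroup.mem_centralizer_singleton_iff.2 ?_)
      exact ((hD _).1 (Subgroup.mem_subgroupOf.1 hzD).2 w hw (by
        rw [hwo]; exact ((Nat.coprime_primes hq Nat.prime_two).2 hq2).pow_left _)).symm
  -- so it is abelian
  have hact : ∀ a ∈ S, ∀ x ∈ C, ∃ m : ℤ, a * x * a⁻¹ = x ^ m := by
    intro a ha x hx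
    obtain ⟨m, hm⟩ := MonoidHom.map_cyclic
      ((((MulAut.conj a).toMonoidHom.comp C.subtype).codRestrict C fun y => hAconj a (hSA ha) y y.2))
    exact ⟨m, congrArg Subtype.val (hm ⟨x, hx⟩)⟩
  have hSab : ∀ a ∈ S, ∀ b ∈ S, a * b = b * a := by
    intro a ha b hb
    have h1 : a * b * a⁻¹ * b⁻¹ ∈ S ⊓ D := by
      refine Subgroup.mem_inf.2 ⟨mul_mem (mul_mem (mul_mem ha hb) (inv_mem ha)) (inv_mem hb),
        (hD _).2 fun x hx _ => ?_⟩
      obtain ⟨m, hm⟩ := hact a ha x hx
      obtain ⟨n, hn⟩ := hact b hb x hx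
      have hmn : a * (b * x * b⁻¹) * a⁻¹ = b * (a * x * a⁻¹) * b⁻¹ := by
        rw [hn, hm, ← MulAut.conj_apply, map_zpow, MulAut.conj_apply, hm, ← MulAut.conj_apply b,
          map_zpow, MulAut.conj_apply, hn, ← zpow_mul, ← zpow_mul, mul_comm]
      have h2 : ∀ y : G, a * b * a⁻¹ * b⁻¹ * (b * y * b⁻¹) = a * b * a⁻¹ * y * b⁻¹ := fun y => by
        group
      calc a * b * a⁻¹ * b⁻¹ * x
          = a * (b * (a⁻¹ * b⁻¹ * x * b * a) * b⁻¹) * a⁻¹ * (a * b * a⁻¹ * b⁻¹) := by group
        _ = x * (a * b * a⁻¹ * b⁻¹) := by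
          congr 1
          obtain ⟨k, hk⟩ := hact b⁻¹ (inv_mem hb) x hx
          obtain ⟨l, hl⟩ := hact a⁻¹ (inv_mem ha) x hx
          rw [inv_inv] at hk hl
          have e1 : a⁻¹ * b⁻¹ * x * b * a = (x ^ l) ^ k := by
            calc a⁻¹ * b⁻¹ * x * b * a = MulAut.conj a⁻¹ (b⁻¹ * x * b) := by
                  rw [MulAut.conj_apply, inv_inv]; group
              _ = (x ^ l) ^ k := by rw [hk, map_zpow, MulAut.conj_apply, inv_inv, hl]
          rw [e1, ← zpow_mul, ← MulAut.conj_apply b, map_zpow, MulAut.conj_apply, hn,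
            ← MulAut.conj_apply a, map_zpow, map_zpow, MulAut.conj_apply, hm, ← zpow_mul, ← zpow_mul]
          have e2 : x ^ (m * l) = x := by
            rw [zpow_mul, ← hm, ← MulAut.conj_apply, ← map_zpow, MulAut.conj_apply]
            have := hl
            calc a * x ^ l * a⁻¹ = a * (a⁻¹ * x * a) * a⁻¹ := by rw [hl]
              _ = x := by group
          have e3 : x ^ (n * k) = x := by
            rw [zpow_mul, ← hn, ← MulAut.conj_apply, ← map_zpow, MulAut.conj_apply]
            calc b * x ^ k * b⁻¹ = b * (b⁻¹ * x * b) * b⁻¹ := by rw [hk]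
              _ = x := by group
          rw [show m * (n * (l * k)) = (m * l) * (n * k) by ring, zpow_mul, e2, e3]
    rw [hSD, Subgroup.mem_bot, mul_inv_eq_one, mul_inv_eq_iff_eq_mul] at h1
    exact h1
  -- fusion of involutions
  by_cases hfus : Subgroup.normalizer (S : Set G) ≤ Subgroup.centralizer (S : Set G)
  · exact hnp (CfsgLib.Solv.hnpc_of_normalizer_le_centralizer P (by rw [hPS]; exact hfus))
  exfalso
  obtain ⟨g, hgN, hgodd, x, hxS, hx2, hgx⟩ : ∃ g ∈ Subgroup.normalizer (S : Set G),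
      Odd (orderOf g) ∧ ∃ x ∈ S, x ^ 2 = 1 ∧ g * x * g⁻¹ ≠ x := by
    by_contra h
    push Not at h
    refine hfus fun n hn => Subgroup.mem_centralizer_iff.2 fun y hy => ?_
    -- split off the 2-part
    have key : ∀ g ∈ Subgroup.normalizer (S : Set G), Odd (orderOf g) → ∀ k : ℕ, ∀ y ∈ S,
        y ^ (2 ^ k) = 1 → g * y * g⁻¹ = y := by
      intro g hg hgo k
      induction k with
      | zero => intro y _ hy; rw [pow_zero, pow_one] at hy; rw [hy]; group
      | succ k ih =>
        intro y hy hyk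
        have hgy : g * y * g⁻¹ ∈ S := (Subgroup.mem_normalizer_iff.1 hg y).1 hy
        set d := g * y * g⁻¹ * y⁻¹ with hd
        have hdS : d ∈ S := mul_mem hgy (inv_mem hy)
        have hd2 : d ^ 2 = 1 := by
          rw [hd, (show Commute (g * y * g⁻¹) y⁻¹ from hSab _ hgy _ (inv_mem hy)).mul_pow, conj_pow,
            ih (y ^ 2) (pow_mem hy 2) (by rw [← pow_mul, ← pow_succ']; exact hyk), inv_pow,
            mul_inv_cancel]
        have hfix := h g hg hgo d hdS hd2
        have hn : ∀ n : ℕ, g ^ n * y * (g ^ n)⁻¹ = d ^ n * y := by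
          intro n
          induction n with
          | zero => simp
          | succ n ihn =>
            rw [pow_succ']
            calc g * g ^ n * y * (g * g ^ n)⁻¹ = g * (g ^ n * y * (g ^ n)⁻¹) * g⁻¹ := by group
              _ = (g * d * g⁻¹) ^ n * (g * y * g⁻¹) := by rw [ihn, conj_pow]; group
              _ = d ^ (n + 1) * y := by rw [hfix, pow_succ, hd]; group
        have h1 := hn (orderOf g)
        rw [pow_orderOf_eq_one, one_mul, inv_one, mul_one] at h1
        obtain ⟨j, hj⟩ := hgo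
        rw [hj, pow_succ, pow_mul, hd2, one_pow, one_mul, hd, inv_mul_cancel_right] at h1
        exact h1.symm
    obtain ⟨k, hk⟩ := hSp.exists_card_eq
    have hy2 : y ^ (2 ^ k) = 1 := by
      rw [← hk]; exact congrArg Subtype.val (pow_card_eq_one' (x := (⟨y, hy⟩ : S)))
    obtain ⟨e, m, hm, hord⟩ := Nat.exists_eq_two_pow_mul_odd (orderOf_pos n).ne'
    have hsplit : ∃ a b : ℤ, (2 ^ e : ℤ) * a + m * b = 1 := by
      have hc : IsCoprime ((2 : ℤ) ^ e) (m : ℤ) := by
        refine IsCoprime.pow_left ?_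
        rw [Int.isCoprime_iff_nat_coprime]
        exact hm.coprime_two_left
      obtain ⟨a, b, hab⟩ := hc
      exact ⟨a, b, by linarith⟩
    obtain ⟨a, b, hab⟩ := hsplit
    have hn1 : (n ^ (2 ^ e : ℕ)) ^ a * (n ^ m) ^ b = n := by
      rw [← zpow_natCast n (2 ^ e), ← zpow_natCast n m, ← zpow_mul, ← zpow_mul, ← zpow_add]
      push_cast
      rw [hab, zpow_one]
    have hA1 : Commute (n ^ (2 ^ e : ℕ)) y := by
      have h1 := key _ (pow_mem hn _) (by
        rw [orderOf_pow, hord, Nat.gcd_mul_right_left, Nat.mul_div_cancel_left _ (pow_pos two_pos e)]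
        exact hm) k y hy hy2
      exact mul_inv_eq_iff_eq_mul.1 h1
    have hA2 : Commute (n ^ m) y := by
      have hS' : n ^ m ∈ S := by
        have hp2' : IsPGroup 2 (Subgroup.zpowers (n ^ m) ⊔ S : Subgroup G) := by
          refine IsPGroup.to_sup_of_normal_right' (IsPGroup.of_card (n := e) ?_) hSp
            (Subgroup.zpowers_le.2 (pow_mem hn _))
          rw [Nat.card_zpowers, orderOf_pow, hord, Nat.gcd_mul_left_left,
            Nat.mul_div_cancel _ hm.pos]
        have := P.3 hp2' (hPS ▸ le_sup_right)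
        exact (this.trans hPS).le (Subgroup.mem_sup_left (Subgroup.mem_zpowers _))
      exact hSab _ hS' _ hy
    rw [← hn1]
    exact ((hA1.zpow_left a).mul_left (hA2.zpow_left b)).eq.symm
  -- the involutions of `S`
  let E : Subgroup G :=
    { carrier := {z | z ∈ S ∧ z ^ 2 = 1}
      one_mem' := ⟨one_mem _, one_pow 2⟩
      mul_mem' := fun {a b} ha hb => ⟨mul_mem ha.1 hb.1, by
        rw [(show Commute a b from hSab a ha.1 b hb.1).mul_pow, ha.2, hb.2, one_mul]⟩
      inv_mem' := fun {a} ha => ⟨inv_mem ha.1, by rw [inv_pow, ha.2, inv_one]⟩ }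
  have hE4 : Nat.card E ≤ 4 := by
    let E' := E.subgroupOf A
    have hEA : E ≤ A := fun z hz => hSA hz.1
    rw [← CfsgLib.Solv.card_subgroupOf hEA]
    let f := (QuotientGroup.mk' B).comp E'.subtype
    have h1 := f.ker.card_mul_index
    rw [Subgroup.index_ker] at h1
    rw [← h1]
    have hk : Nat.card f.ker ≤ 2 := by
      haveI := hB
      haveI := Fintype.ofFinite B
      let g : f.ker → {b : B // b ^ 2 = 1} := fun z =>
        ⟨⟨((z : E') : A), (QuotientGroup.eq_one_iff _).1 z.2⟩, Subtype.ext (Subtype.ext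
          (Subgroup.mem_subgroupOf.1 (z : E').2).2)⟩
      refine (Nat.card_le_card_of_injective g fun z w e => Subtype.ext (Subtype.ext ?_)).trans ?_
      · exact congrArg (fun t : {b : B // b ^ 2 = 1} => ((t.1 : A))) e
      · rw [Nat.card_eq_fintype_card, Fintype.card_subtype]
        exact IsCyclic.card_pow_eq_one_le two_pos
    have hr2 : Nat.card f.range ≤ 2 := by
      haveI := hAB
      haveI := Fintype.ofFinite (A ⧸ B)
      let g : f.range → {b : A ⧸ B // b ^ 2 = 1} := fun z => ⟨z.1, by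
        obtain ⟨⟨z0, hz0⟩, hz⟩ := z.2
        rw [← hz]
        show ((z0 : A ⧸ B)) ^ 2 = 1
        rw [← QuotientGroup.mk_pow, show z0 ^ 2 = 1 from Subtype.ext
          (Subgroup.mem_subgroupOf.1 hz0).2]
        rfl⟩
      refine (Nat.card_le_card_of_injective g fun z w e => Subtype.ext ?_).trans ?_
      · exact congrArg (fun t : {b : A ⧸ B // b ^ 2 = 1} => t.1) e
      · rw [Nat.card_eq_fintype_card, Fintype.card_subtype]
        exact IsCyclic.card_pow_eq_one_le two_pos
    exact le_trans (Nat.mul_le_mul hk hr2) le_rfl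
  -- three conjugate involutions
  set y := g * x * g⁻¹ with hy
  set z := g * y * g⁻¹ with hz
  have hx1 : x ≠ 1 := fun e => hgx (by rw [hy, e, mul_one, mul_inv_cancel])
  have hyS : y ∈ S ∧ y ^ 2 = 1 := ⟨(Subgroup.mem_normalizer_iff.1 hgN x).1 hxS,
    by rw [hy, conj_pow, hx2, mul_one, mul_inv_cancel]⟩
  have hzS : z ∈ S ∧ z ^ 2 = 1 := ⟨(Subgroup.mem_normalizer_iff.1 hgN y).1 hyS.1,
    by rw [hz, conj_pow, hyS.2, mul_one, mul_inv_cancel]⟩
  have hy1 : y ≠ 1 := fun e => hx1 (conj_eq_one_iff.1 e)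
  have hz1 : z ≠ 1 := fun e => hy1 (conj_eq_one_iff.1 e)
  have hzy : z ≠ y := fun e => hgx (by
    rw [hz, hy] at e
    exact mul_left_cancel (mul_right_cancel e))
  have hzx : z ≠ x := fun e => by
    have h1 : ∀ n : ℕ, (g ^ 2) ^ n * x * ((g ^ 2) ^ n)⁻¹ = x := by
      intro n
      induction n with
      | zero => simp
      | succ n ih =>
        calc (g ^ 2) ^ (n + 1) * x * ((g ^ 2) ^ (n + 1))⁻¹
            = (g ^ 2) * ((g ^ 2) ^ n * x * ((g ^ 2) ^ n)⁻¹) * (g ^ 2)⁻¹ := by
              rw [pow_succ']; group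
          _ = x := by
              rw [ih, pow_two]
              calc g * g * x * (g * g)⁻¹ = g * (g * x * g⁻¹) * g⁻¹ := by group
                _ = x := e
    obtain ⟨j, hj⟩ := hgodd
    have h2 : (g ^ 2) ^ (j + 1) = g := by
      rw [← pow_mul, show 2 * (j + 1) = orderOf g + 1 by omega, pow_succ, pow_orderOf_eq_one, one_mul]
    exact hgx (by rw [hy, ← h2]; exact h1 (j + 1))
  have hall : ∀ w ∈ E, w = 1 ∨ w = x ∨ w = y ∨ w = z := by
    intro w hw
    by_contra hno'
    push Not at hno'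
    haveI := Fintype.ofFinite E
    rw [Nat.card_eq_fintype_card] at hE4
    have h5 : ({(1 : E), ⟨x, hxS, hx2⟩, ⟨y, hyS⟩, ⟨z, hzS⟩, ⟨w, hw⟩} : Finset E).card = 5 := by
      rw [Finset.card_insert_of_notMem, Finset.card_insert_of_notMem, Finset.card_insert_of_notMem,
        Finset.card_pair] <;>
        simp only [ne_eq, Finset.mem_insert, Finset.mem_singleton, Subtype.ext_iff,
          OneMemClass.coe_one] <;>
        tauto
    have := (Finset.card_le_univ ({(1 : E), ⟨x, hxS, hx2⟩, ⟨y, hyS⟩, ⟨z, hzS⟩, ⟨w, hw⟩} : Finset E))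
    omega
  have hconjcard : ∀ a : G, Nat.card (Subgroup.centralizer ({g * a * g⁻¹} : Set G)) =
      Nat.card (Subgroup.centralizer ({a} : Set G)) := by
    intro a
    rw [show (Subgroup.centralizer ({g * a * g⁻¹} : Set G)) =
      (Subgroup.centralizer ({a} : Set G)).map (MulAut.conj g).toMonoidHom by
        ext t
        rw [Subgroup.mem_map_equiv, Subgroup.mem_centralizer_singleton_iff,
          Subgroup.mem_centralizer_singleton_iff, MulAut.conj_symm_apply]
        constructor
        · intro h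
          calc g⁻¹ * t * g * a = g⁻¹ * (t * (g * a * g⁻¹)) * g := by group
            _ = a * (g⁻¹ * t * g) := by rw [h]; group
        · intro h
          calc t * (g * a * g⁻¹) = g * (g⁻¹ * t * g * a) * g⁻¹ := by group
            _ = g * a * g⁻¹ * t := by rw [h]; group,
      Subgroup.card_map_of_injective (MulAut.conj g).injective]
  refine hx1 (hcrit x (fun a ha => Subgroup.mem_centralizer_singleton_iff.2 (hSab a ha x hxS)) ?_)
  intro q hq hqp hq2
  obtain ⟨w, hw, hwo⟩ := hqC q hq hqp hq2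
  suffices ∃ v, (v = x ∨ v = y ∨ v = z) ∧ v * w = w * v by
    obtain ⟨v, hv, hvw⟩ := this
    have h1 : q ^ (Nat.card G).factorization q ∣
        Nat.card (Subgroup.centralizer ({v} : Set G)) := by
      rw [← hwo]
      exact Subgroup.orderOf_dvd_natCard _ (Subgroup.mem_centralizer_singleton_iff.2 hvw.symm)
    rcases hv with rfl | rfl | rfl
    · exact h1
    · rwa [hy, hconjcard] at h1
    · rwa [hz, hconjcard, hy, hconjcard] at h1
  have hsign : ∀ a ∈ S, a ^ 2 = 1 → a * w * a⁻¹ = w ∨ a * w * a⁻¹ = w⁻¹ := by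
    intro a ha ha2
    obtain ⟨m, hm⟩ := hact a ha w hw
    have h1 : w ^ (m * m) = w := by
      rw [zpow_mul, ← hm, ← MulAut.conj_apply, ← map_zpow, ← hm, MulAut.conj_apply]
      calc a * (a * w * a⁻¹) * a⁻¹ = a ^ 2 * w * (a ^ 2)⁻¹ := by rw [pow_two]; group
        _ = w := by rw [ha2]; group
    have h2 : (q : ℤ) ^ (Nat.card G).factorization q ∣ (m - 1) * (m + 1) := by
      rw [show (m - 1) * (m + 1) = m * m - 1 by ring]
      have h3 : w ^ (m * m - 1) = 1 := by rw [zpow_sub, h1, zpow_one, mul_inv_cancel]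
      have h4 := orderOf_dvd_iff_zpow_eq_one.2 h3
      rw [hwo] at h4
      exact_mod_cast h4
    have hqi : Prime (q : ℤ) := Nat.prime_iff_prime_int.1 hq
    by_cases hd : (q : ℤ) ∣ m - 1
    · left
      have h5 : ¬ (q : ℤ) ∣ m + 1 := fun h => by
        have h6 : (q : ℤ) ∣ (2 : ℤ) := by
          have := dvd_sub h hd
          rwa [show m + 1 - (m - 1) = 2 by ring] at this
        have h7 : q ∣ 2 := by exact_mod_cast h6
        exact hq2 ((Nat.prime_dvd_prime_iff_eq hq Nat.prime_two).1 h7)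
      have h8 := hqi.pow_dvd_of_dvd_mul_right _ h5 h2
      have h9 : w ^ (m - 1) = 1 := orderOf_dvd_iff_zpow_eq_one.1 (by rw [hwo]; exact_mod_cast h8)
      rw [hm, ← sub_add_cancel m 1, zpow_add, h9, one_mul, zpow_one]
    · right
      have h8 := hqi.pow_dvd_of_dvd_mul_left _ hd h2
      have h9 : w ^ (m + 1) = 1 := orderOf_dvd_iff_zpow_eq_one.1 (by rw [hwo]; exact_mod_cast h8)
      rw [zpow_add, zpow_one] at h9
      rw [hm]
      exact eq_inv_of_mul_eq_one_left h9
  rcases hsign x hxS hx2 with h1 | h1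
  · exact ⟨x, Or.inl rfl, mul_inv_eq_iff_eq_mul.1 h1⟩
  rcases hsign y hyS.1 hyS.2 with h2 | h2
  · exact ⟨y, Or.inr (Or.inl rfl), mul_inv_eq_iff_eq_mul.1 h2⟩
  refine ⟨x * y, ?_, ?_⟩
  · rcases hall (x * y) (E.mul_mem (x := x) (y := y) ⟨hxS, hx2⟩ hyS) with e | e | e | e
    · exfalso
      rw [pow_two] at hx2
      exact hgx (mul_left_cancel (e.trans hx2.symm))
    · exact absurd (mul_eq_left.1 e) hy1
    · exact absurd (mul_eq_right.1 e) hx1
    · exact Or.inr (Or.inr e)
  · have h3 : (x * y) * w * (x * y)⁻¹ = w := by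
      calc (x * y) * w * (x * y)⁻¹ = x * (y * w * y⁻¹) * x⁻¹ := by group
        _ = (x * w * x⁻¹)⁻¹ := by rw [h2]; group
        _ = w := by rw [h1, inv_inv]
    exact mul_inv_eq_iff_eq_mul.1 h3

theorem aux : ∀ (n : ℕ) (G : Type u) [Group G] [Finite G] (A : Subgroup G) (p s : ℕ), p.Prime →
    A.index = p ^ s → ∀ (B : Subgroup A) [B.Normal], IsCyclic B → IsCyclic (A ⧸ B) →
    ∀ r : ℕ, Nat.card (A ⧸ B) = 2 ^ r → Nat.card G = n → Group.IsSolvable G := by
  intro n
  induction n using Nat.strong_induction_on with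
  | _ n ih =>
    intro G _ _ A p s hp hA B _ hB hAB r hr hn
    by_cases hrad : rad G = ⊥
    · exact rad_bot_case A p s hp hA B hB hAB r hr hrad
    obtain ⟨hRn, hRs⟩ := rad_spec (G := G)
    haveI := hRn
    haveI := hRs
    let f := QuotientGroup.mk' (rad G)
    let fA := f.subgroupMap A
    haveI : (B.map fA).Normal := Subgroup.Normal.map ‹_› _ (f.subgroupMap_surjective A)
    haveI hB' : IsCyclic (B.map fA) := by
      haveI := hB
      exact isCyclic_of_surjective (fA.subgroupMap B) (fA.subgroupMap_surjective B)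
    let q : A ⧸ B →* (A.map f) ⧸ (B.map fA) :=
      QuotientGroup.map B (B.map fA) fA (Subgroup.le_comap_map _ _)
    have hq : Function.Surjective q := by
      intro x
      induction x using QuotientGroup.induction_on with
      | H x =>
        obtain ⟨a, rfl⟩ := f.subgroupMap_surjective A x
        exact ⟨(a : A ⧸ B), rfl⟩
    haveI hAB' : IsCyclic ((A.map f) ⧸ (B.map fA)) := by
      haveI := hAB
      exact isCyclic_of_surjective q hq
    obtain ⟨r', -, hr'⟩ := (Nat.dvd_prime_pow Nat.prime_two).1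
      (hr ▸ Subgroup.card_dvd_of_surjective q hq)
    obtain ⟨s', -, hs'⟩ := (Nat.dvd_prime_pow hp).1
      (hA ▸ Subgroup.index_map_dvd A (f := f) (QuotientGroup.mk'_surjective _))
    have hlt : Nat.card (G ⧸ rad G) < n := by
      rw [← hn, ← Subgroup.index_eq_card, ← (rad G).card_mul_index]
      exact lt_mul_of_one_lt_left (Nat.pos_of_ne_zero Subgroup.index_ne_zero_of_finite)
        ((Subgroup.one_lt_card_iff_ne_bot _).2 hrad)
    haveI := ih _ hlt (G ⧸ rad G) (A.map f) p s' hp hs' (B.map fA) hB' hAB' r' hr' rfl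
    exact Group.isSolvable_of_ker_le_range (rad G).subtype f
      (by rw [Subgroup.range_subtype, QuotientGroup.ker_mk'])

/-- Let G be a finite group with a subgroup A of prime-power index. Suppose A has a normal cyclic subgroup B such that A/B is cyclic of order a power of 2. Then G is solvable. -/
theorem result {G : Type*} [Group G] [Finite G] (A : Subgroup G) (p s : ℕ) (hp : p.Prime) (hA : A.index = p ^ s)
    (B : Subgroup A) [B.Normal] (hB : IsCyclic B) (hAB : IsCyclic (A ⧸ B)) (r : ℕ) (hr : Nat.card (A ⧸ B) = 2 ^ r) :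
    Group.IsSolvable G :=
  aux _ G A p s hp hA B hB hAB r hr rfl

end Cfsg.Agent.S4245
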