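import Cfsg.Statements.S4249
import Cfsg.Agent.Perm.Hughes

set_option autoImplicit false
set_option linter.style.haveILetI false
open Cfsg

namespace Cfsg.Agent.S4249

open CfsgLib.Solv CfsgLib.Perm.Hughes
open scoped IsMulCommutative

/-- The Hughes subgroup has index `p` when it is proper and the group is not a `p`-group. -/
theorem index_eq {G : Type*} [Group G] [Finite G] (p : ℕ) [hp : Fact p.Prime] (hG : ¬ IsPGroup p G)
    (H : Subgroup G) [H.Normal] (hout : ∀ g : G, g ∉ H → g ^ p = 1) (hH : H ≠ ⊤) : H.index = p := by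
  classical
  have hQp : IsPGroup p (G ⧸ H) := fun x => ⟨1, by
    induction x using QuotientGroup.induction_on with
    | H g =>
      rw [pow_one, ← QuotientGroup.mk_pow]
      by_cases hg : g ∈ H
      · exact (QuotientGroup.eq_one_iff _).2 (pow_mem hg p)
      · rw [hout g hg]; rfl⟩
  obtain ⟨q, hq, hqG, hqp⟩ : ∃ q : ℕ, q.Prime ∧ q ∣ Nat.card G ∧ q ≠ p := by
    by_contra h
    push Not at h
    exact hG (IsPGroup.of_card (Nat.eq_prime_pow_of_unique_prime_dvd Nat.card_pos.ne'
      fun {d} hd hdd => h d hd hdd))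
  haveI : Fact q.Prime := ⟨hq⟩
  obtain ⟨k, hk⟩ := hQp.exists_card_eq
  rw [← Subgroup.index_eq_card] at hk
  have hqH : q ∣ Nat.card H := by
    have h1 := H.card_mul_index
    rw [hk] at h1
    rw [← h1] at hqG
    rcases hq.dvd_mul.1 hqG with h | h
    · exact h
    · exact absurd ((Nat.prime_dvd_prime_iff_eq hq hp.out).1 (hq.dvd_of_dvd_pow h)) hqp
  rcases (show k = 0 ∨ k = 1 ∨ 2 ≤ k by omega) with rfl | rfl | hk2
  · exact absurd (Subgroup.index_eq_one.1 (by simpa using hk)) hH
  · simpa using hk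
  exfalso
  obtain ⟨Q⟩ : Nonempty (Sylow q H) := inferInstance
  set Q' := (Q : Subgroup H).map H.subtype with hQ'
  have hQ'p : IsPGroup q Q' := Q.2.map _
  have hQ'ne : Q' ≠ ⊥ := by
    intro e
    have h1 := Q.dvd_card_of_dvd_card hqH
    rw [(Subgroup.map_eq_bot_iff_of_injective _ H.subtype_injective).1 e, Subgroup.card_bot,
      Nat.dvd_one] at h1
    exact hq.ne_one h1
  -- the abelian group acted on
  set Z := zOf Q' with hZ
  have hZne : Z ≠ ⊥ := zOf_ne_bot hQ'p hQ'ne
  have hZH : Z ≤ H := (zOf_le _).trans (Subgroup.map_subtype_le _)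
  let L := Subgroup.normalizer (Q' : Set G)
  have hZL : Z ≤ L := (zOf_le _).trans Subgroup.le_normalizer
  let V := Z.subgroupOf L
  haveI hVn : V.Normal :=
    (Subgroup.normal_subgroupOf_iff_le_normalizer hZL).2 (normalizer_le_normalizer_zOf Q')
  haveI : IsMulCommutative V := ⟨⟨fun a b => Subtype.ext (Subtype.ext
    (Subgroup.mem_centralizer_iff.1 b.2.2 _ a.2.1))⟩⟩
  let f : L →* G ⧸ H := (QuotientGroup.mk' H).comp L.subtype
  have hf : Function.Surjective f := by
    intro x
    induction x using QuotientGroup.induction_on with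
    | H g =>
      obtain ⟨h₀, hh₀, hg⟩ := exists_frattini Q g
      refine ⟨⟨h₀ * g, hg⟩, ?_⟩
      show ((h₀ * g : G) : G ⧸ H) = g
      rw [QuotientGroup.mk_mul, (QuotientGroup.eq_one_iff h₀).2 hh₀, one_mul]
  obtain ⟨T⟩ : Nonempty (Sylow p L) := inferInstance
  have hT : (T : Subgroup L).map f = ⊤ := by
    have h1 := (T.mapSurjective hf).3 (hQp.of_equiv (Subgroup.topEquiv).symm) le_top
    exact (Sylow.coe_mapSurjective hf T).symm.trans h1.symm
  have hf' : ∀ x : L, f x = 1 ↔ (x : G) ∈ H := fun x => QuotientGroup.eq_one_iff (x : G)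
  let φ : L →* MulAut V := MulAut.conjNormal
  have hVc : (Nat.card V).Coprime p := by
    rw [card_subgroupOf hZL]
    obtain ⟨e, he⟩ := (hQ'p.to_le (zOf_le _)).exists_card_eq
    rw [he]
    exact ((Nat.coprime_primes hq hp.out).2 hqp).pow_left _
  have hnorm : ∀ x : L, f x ≠ 1 → ∀ v : V, (∏ j ∈ Finset.range p, (φ x ^ j) v) = 1 := by
    intro x hx
    rw [Ne, hf'] at hx
    refine norm_eq_one (Subtype.ext (hout _ hx)) fun v => Subtype.ext (hout _ fun h => hx ?_)
    exact (H.mul_mem_cancel_left (hZH v.2)).1 h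
  -- the kernel stays in `H`
  have hker : ∀ x : L, φ x = 1 → f x = 1 := by
    intro x hx
    by_contra hfx
    refine hZne ((Subgroup.eq_bot_iff_forall Z).2 fun z hz => ?_)
    have h1 := hnorm x hfx ⟨⟨z, hZL hz⟩, hz⟩
    simp only [hx, one_pow, MulAut.one_apply, Finset.prod_const, Finset.card_range] at h1
    have h2 := (powCoprime hVc).injective (a₁ := (⟨⟨z, hZL hz⟩, hz⟩ : V)) (a₂ := 1) (by
      show (⟨⟨z, hZL hz⟩, hz⟩ : V) ^ p = (1 : V) ^ p
      rw [h1, one_pow])
    exact congrArg (fun v : V => ((v : L) : G)) h2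
  set Tb := (T : Subgroup L).map φ with hTb
  have hTbp : IsPGroup p Tb := T.2.map φ
  have hne : Tb ≠ ⊥ := by
    intro e
    have hle : (T : Subgroup L).map f = ⊥ := by
      rw [eq_bot_iff]
      rintro _ ⟨x, hx, rfl⟩
      exact hker x (Subgroup.mem_bot.1 (e ▸ Subgroup.mem_map_of_mem φ hx))
    rw [hT] at hle
    exact hH (Subgroup.index_eq_one.1 (by
      rw [Subgroup.index_eq_card, ← Subgroup.card_top, hle, Subgroup.card_bot]))
  haveI : Nontrivial Tb := (Subgroup.nontrivial_iff_ne_bot Tb).2 hne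
  have hc := hTbp.center_nontrivial
  obtain ⟨b, hb, hbo⟩ := exists_orderOf_eq (hTbp.to_subgroup (Subgroup.center Tb))
    ((Subgroup.nontrivial_iff_ne_bot _).1 hc)
  obtain ⟨x₀, hx₀, hx₀b⟩ := b.2
  have hbne : φ x₀ ≠ 1 := fun e => hp.out.ne_one (by
    rw [← hbo, orderOf_eq_one_iff]; exact Subtype.ext (hx₀b ▸ e))
  have hbp : φ x₀ ^ p = 1 := by
    rw [hx₀b, ← hbo, ← Subgroup.orderOf_coe b, pow_orderOf_eq_one]
  have hcent : ∀ y ∈ (T : Subgroup L), Commute (φ y) (φ x₀) := fun y hy => by
    rw [hx₀b]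
    exact congrArg Subtype.val (Subgroup.mem_center_iff.1 hb ⟨φ y, Subgroup.mem_map_of_mem φ hy⟩)
  -- two commuting automorphisms
  by_cases hu : f x₀ = 1
  · -- the central one comes from `H`
    obtain ⟨y, hy, hyne⟩ : ∃ y ∈ (T : Subgroup L), f y ≠ 1 := by
      by_contra h
      push Not at h
      exact hH (Subgroup.index_eq_one.1 (by
        rw [Subgroup.index_eq_card, ← Subgroup.card_top, ← hT,
          show (T : Subgroup L).map f = ⊥ from
            (Subgroup.eq_bot_iff_forall _).2 (by rintro _ ⟨y, hy, rfl⟩; exact h y hy),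
          Subgroup.card_bot]))
    refine hbne (eq_one_of_norms hVc (A := φ y) (hcent y hy) hbp fun i v => ?_)
    rw [← map_pow φ x₀ i, ← map_mul]
    exact hnorm _ (by rwa [map_mul, map_pow, hu, one_pow, one_mul]) v
  · obtain ⟨w, hw⟩ : ∃ w : G ⧸ H, w ∉ Subgroup.zpowers (f x₀) := by
      by_contra h
      push Not at h
      have h1 : Nat.card (G ⧸ H) ≤ p := by
        have h2 : Subgroup.zpowers (f x₀) = ⊤ := eq_top_iff.2 fun w _ => h w
        rw [← Subgroup.card_top, ← h2, Nat.card_zpowers]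
        refine orderOf_le_of_pow_eq_one hp.out.pos ?_
        rw [← map_pow, hf', SubmonoidClass.coe_pow, hout _ (mt (hf' _).2 hu)]
        exact one_mem _
      rw [← Subgroup.index_eq_card, hk] at h1
      have : p ^ 2 ≤ p ^ k := Nat.pow_le_pow_right hp.out.pos hk2
      have h3 : p * 1 < p * p := Nat.mul_lt_mul_of_pos_left hp.out.one_lt hp.out.pos
      rw [mul_one, ← pow_two] at h3
      omega
    obtain ⟨y, hy, rfl⟩ : w ∈ (T : Subgroup L).map f := hT ▸ Subgroup.mem_top w
    have hy1 : f y ≠ 1 := fun e => hw (e ▸ one_mem _)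
    have hyp : φ y ^ p = 1 := by
      rw [← map_pow, show y ^ p = 1 from Subtype.ext (hout _ (mt (hf' _).2 hy1)), map_one]
    have h := eq_one_of_norms hVc (A := φ x₀) (B := φ y) (hcent y hy).symm hyp fun i v => by
      rw [← map_pow φ y i, ← map_mul]
      refine hnorm _ (fun e => ?_) v
      rw [map_mul, map_pow] at e
      rcases Nat.eq_zero_or_pos (i % p) with hi | hi
      · have h0 : f y ^ i = 1 := by
          obtain ⟨d, hd⟩ := Nat.dvd_of_mod_eq_zero hi
          rw [hd, pow_mul, ← map_pow, show y ^ p = 1 from Subtype.ext (hout _ (mt (hf' _).2 hy1)),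
            map_one, one_pow]
        rw [h0, one_mul] at e
        exact hu e
      · have hmem : f y ^ i ∈ Subgroup.zpowers (f x₀) := by
          rw [eq_inv_of_mul_eq_one_left e]
          exact inv_mem (Subgroup.mem_zpowers _)
        have hcopi : Nat.Coprime i p := (hp.out.coprime_iff_not_dvd.2 fun hd => by
          rw [Nat.mod_eq_zero_of_dvd hd] at hi; omega).symm
        obtain ⟨m, -, hm⟩ := Nat.exists_mul_mod_eq_one_of_coprime hcopi hp.out.one_lt
        have hfp : f y ^ p = 1 := by
          rw [← map_pow, show y ^ p = 1 from Subtype.ext (hout _ (mt (hf' _).2 hy1)), map_one]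
        have h2 := pow_mem hmem m
        rw [← pow_mul, pow_eq_pow_mod _ hfp, hm, pow_one] at h2
        exact hw h2
    exact hy1 (hker y h)

/-- Let G be a finite group and p a prime such that G is not a p-group, and suppose the Hughes subgroup H_p(G), generated by all elements g with g^p ≠ 1, is a proper subgroup. Then H_p(G) is nilpotent and has index p in G. -/
theorem result {G : Type*} [Group G] [Finite G] (p : ℕ) (hp : p.Prime) (hG : ¬ IsPGroup p G)
    (hH : Subgroup.closure {g : G | g ^ p ≠ 1} ≠ ⊤) :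
    Group.IsNilpotent (Subgroup.closure {g : G | g ^ p ≠ 1}) ∧ (Subgroup.closure {g : G | g ^ p ≠ 1}).index = p := by
  haveI : Fact p.Prime := ⟨hp⟩
  set H := Subgroup.closure {g : G | g ^ p ≠ 1} with hHdef
  haveI : H.Normal := by
    refine ⟨fun n hn g => ?_⟩
    have h1 : MulAut.conj g n ∈ H.map (MulAut.conj g).toMonoidHom := Subgroup.mem_map_of_mem _ hn
    rw [hHdef, MonoidHom.map_closure] at h1
    refine Subgroup.closure_mono ?_ h1
    rintro _ ⟨x, hx, rfl⟩ e
    exact hx ((MulAut.conj g).injective (by rw [map_pow, map_one]; exact e))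
  have hout : ∀ g : G, g ∉ H → g ^ p = 1 := fun g hg => by
    by_contra h
    exact hg (Subgroup.subset_closure h)
  refine ⟨?_, index_eq p hG H hout hH⟩
  obtain ⟨σ, hσ⟩ : ∃ σ : G, σ ∉ H := by
    by_contra h
    push Not at h
    exact hH (eq_top_iff.2 fun g _ => h g)
  exact CfsgLib.Perm.Hughes.isNilpotent_of_splitting H σ fun x hx =>
    hout _ fun h => hσ ((H.mul_mem_cancel_left hx).1 h)

end Cfsg.Agent.S4249
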