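import Mathlib
-- Template for statement S4250 (row 4250; see /opt/grader/pristine/manifest.json for weights).
-- Copy to Cfsg/Agent/S4250.lean and replace the sorry. The statement below is byte-identical to the frozen
-- statement Cfsg.CfsgFrozen.S4250 (Cfsg/Statements/S4250.lean; the theorem Cfsg.fg13_focal_subgroup_generated_by_commutators_with_normalizers_of_tame_intersections);
-- the grader kernel-checks Cfsg.Agent.S4250.result against that frozen type. Keep the theorem IN THIS FILE
-- (a `result` declared elsewhere and merely imported here is not credited); helpers may live anywhere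
-- under Cfsg/Agent/.
import Cfsg.Statements.S4250
import Cfsg.Agent.S2012


set_option autoImplicit false
open Cfsg
open scoped commutatorElement

namespace Cfsg.Agent.S4250

/-- Let P be a Sylow p-subgroup of a finite group G. Call an intersection H = P ∩ Q with a Sylow p-subgroup Q tame when N_P(H) and N_Q(H) are Sylow p-subgroups of N_G(H). Then P ∩ G′ is generated by [P, N_G(P)] together with the commutator subgroups [P ∩ Q, ⟨x⟩] for all tame intersections P ∩ Q and all p-elements x of N_G(P ∩ Q). -/
theorem result {G : Type*} [Group G] [Finite G] (p : ℕ) [Fact p.Prime] (P : Sylow p G) :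
    (P : Subgroup G) ⊓ commutator G =
      ⁅(P : Subgroup G), Subgroup.normalizer ((P : Subgroup G) : Set G)⁆ ⊔
        ⨆ (Q : Sylow p G) (_ : (¬ p ∣ ((P : Subgroup G) ⊓ Subgroup.normalizer (((P : Subgroup G) ⊓ (Q : Subgroup G) : Subgroup G) : Set G)).relIndex (Subgroup.normalizer (((P : Subgroup G) ⊓ (Q : Subgroup G) : Subgroup G) : Set G)) ∧ ¬ p ∣ ((Q : Subgroup G) ⊓ Subgroup.normalizer (((P : Subgroup G) ⊓ (Q : Subgroup G) : Subgroup G) : Set G)).relIndex (Subgroup.normalizer (((P : Subgroup G) ⊓ (Q : Subgroup G) : Subgroup G) : Set G))))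
          (x : G) (_ : x ∈ Subgroup.normalizer (((P : Subgroup G) ⊓ (Q : Subgroup G) : Subgroup G) : Set G) ∧ ∃ k : ℕ, orderOf x = p ^ k),
          ⁅(P : Subgroup G) ⊓ (Q : Subgroup G), Subgroup.zpowers x⁆ := by
  classical
  have hle : ∀ (A B : Subgroup G), B ≤ Subgroup.normalizer (A : Set G) → ⁅A, B⁆ ≤ A := by
    intro A B hB
    rw [Subgroup.commutator_le]
    intro a ha b hb
    have h1 := (Subgroup.mem_normalizer_iff.1 (hB hb) a⁻¹).1 (A.inv_mem ha)
    have := A.mul_mem ha h1
    simpa [commutatorElement_def, mul_assoc] using this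
  refine le_antisymm ?_ (sup_le ?_ ?_)
  · set R : Subgroup G := ⁅(P : Subgroup G), Subgroup.normalizer ((P : Subgroup G) : Set G)⁆ ⊔
        ⨆ (Q : Sylow p G) (_ : (¬ p ∣ ((P : Subgroup G) ⊓ Subgroup.normalizer (((P : Subgroup G) ⊓ (Q : Subgroup G) : Subgroup G) : Set G)).relIndex (Subgroup.normalizer (((P : Subgroup G) ⊓ (Q : Subgroup G) : Subgroup G) : Set G)) ∧ ¬ p ∣ ((Q : Subgroup G) ⊓ Subgroup.normalizer (((P : Subgroup G) ⊓ (Q : Subgroup G) : Subgroup G) : Set G)).relIndex (Subgroup.normalizer (((P : Subgroup G) ⊓ (Q : Subgroup G) : Subgroup G) : Set G))))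
          (x : G) (_ : x ∈ Subgroup.normalizer (((P : Subgroup G) ⊓ (Q : Subgroup G) : Subgroup G) : Set G) ∧ ∃ k : ℕ, orderOf x = p ^ k),
          ⁅(P : Subgroup G) ⊓ (Q : Subgroup G), Subgroup.zpowers x⁆
    rw [inf_comm, Subgroup.commutator_inf_eq_focalSubgroup P, Subgroup.focalSubgroup_def,
      Subgroup.closure_le]
    rintro _ ⟨hg, a, ha, u, rfl⟩
    -- follow the conjugation by `u`
    set x := a⁻¹
    have hx : x ∈ (P : Subgroup G) := (P : Subgroup G).inv_mem ha
    have hy : u * x * u⁻¹ ∈ (P : Subgroup G) := by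
      have := (P : Subgroup G).mul_mem hx hg
      simpa [x, commutatorElement_def, mul_assoc] using this
    suffices h : x⁻¹ * (u * x * u⁻¹) ∈ R by
      simpa [x, commutatorElement_def, mul_assoc] using h
    obtain ⟨n, Q, z, hprod, hz, h0, hstep⟩ := Cfsg.Agent.S2012.result P {x} u⁻¹
      (Set.singleton_subset_iff.2 hx) (by rw [Set.image_singleton, Set.singleton_subset_iff]; simp only [inv_inv]; exact hy)
    let c : ℕ → G := fun i => (((List.ofFn z).take i).prod)⁻¹ * x * ((List.ofFn z).take i).prod
    have hc : ∀ i : Fin n, c i ∈ (P : Subgroup G) ⊓ (Q i : Subgroup G) := by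
      rintro ⟨i, hi⟩
      rcases Nat.eq_zero_or_pos i with rfl | hpos
      · show ((List.ofFn z).take 0).prod⁻¹ * x * ((List.ofFn z).take 0).prod ∈ (P : Subgroup G) ⊓ (Q ⟨0, hi⟩ : Subgroup G)
        simp only [List.take_zero, List.prod_nil, inv_one, one_mul, mul_one]
        exact h0 hi rfl
      · obtain ⟨j, rfl⟩ : ∃ j, i = j + 1 := ⟨i - 1, by omega⟩
        exact hstep ⟨j, by omega⟩ hi ⟨x, rfl, rfl⟩
    have key : ∀ i, i ≤ n → x⁻¹ * c i ∈ R := by
      intro i
      induction i with
      | zero => intro _; simp [c]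
      | succ i ih =>
        intro hi
        let fi : Fin n := ⟨i, by omega⟩
        have hsucc : c (i + 1) = (z fi)⁻¹ * c i * z fi := by
          simp only [c]
          rw [List.take_add_one, List.prod_append]
          simp [fi, (by omega : i < n), mul_assoc]
        have hd : (c i)⁻¹ * c (i + 1) ∈ R := by
          have e : (c i)⁻¹ * c (i + 1) = ⁅(c i)⁻¹, (z fi)⁻¹⁆ := by
            rw [hsucc, commutatorElement_def]; group
          rw [e]
          obtain ⟨hzn, hP1, hQ1, hor⟩ := hz fi
          rcases hor with hQP | hpow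
          · refine Subgroup.mem_sup_left (Subgroup.commutator_mem_commutator
              ((P : Subgroup G).inv_mem (hc fi).1) ((Subgroup.normalizer ((P : Subgroup G) : Set G)).inv_mem ?_))
            rw [hQP, inf_idem] at hzn
            exact hzn
          · refine Subgroup.mem_sup_right ?_
            exact Subgroup.mem_iSup_of_mem (Q fi) (Subgroup.mem_iSup_of_mem ⟨hP1, hQ1⟩
              (Subgroup.mem_iSup_of_mem (z fi) (Subgroup.mem_iSup_of_mem ⟨hzn, hpow⟩
              (Subgroup.commutator_mem_commutator (inv_mem (hc fi))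
                (inv_mem (Subgroup.mem_zpowers (z fi)))))))
        have := R.mul_mem (ih (by omega)) hd
        rwa [mul_assoc, mul_inv_cancel_left] at this
    have hlast := key n le_rfl
    have hcn : c n = u * x * u⁻¹ := by
      simp only [c]
      rw [List.take_of_length_le (by simp), hprod, inv_inv]
    rwa [hcn] at hlast
  · exact le_inf (hle _ _ le_rfl) (Subgroup.commutator_mono le_top le_top)
  · refine iSup₂_le fun Q _ => iSup₂_le fun z hz => le_inf ?_ (Subgroup.commutator_mono le_top le_top)
    exact (hle _ _ (Subgroup.zpowers_le.2 hz.1)).trans inf_le_left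

end Cfsg.Agent.S4250
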