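import Cfsg.Statements.S4251

import Mathlib
import Cfsg.Agent.Solv.PComplement
import Cfsg.Agent.Perm.PiClosed

set_option autoImplicit false
set_option linter.style.haveILetI false
open Cfsg

namespace Cfsg.Agent.S4251
open scoped Pointwise

/-- Let P be a Sylow p-subgroup of a finite group G. Call an intersection H = P ∩ Q with a Sylow p-subgroup Q tame when N_P(H) and N_Q(H) are Sylow p-subgroups of N_G(H). If N_G(H)/C_G(H) is a p-group for every nontrivial tame intersection H = P ∩ Q, then G has a normal p-complement. -/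
theorem result {G : Type*} [Group G] [Finite G] (p : ℕ) [Fact p.Prime] (P : Sylow p G)
    (h : ∀ Q : Sylow p G, (P : Subgroup G) ⊓ (Q : Subgroup G) ≠ ⊥ → (¬ p ∣ ((P : Subgroup G) ⊓ Subgroup.normalizer (((P : Subgroup G) ⊓ (Q : Subgroup G) : Subgroup G) : Set G)).relIndex (Subgroup.normalizer (((P : Subgroup G) ⊓ (Q : Subgroup G) : Subgroup G) : Set G)) ∧ ¬ p ∣ ((Q : Subgroup G) ⊓ Subgroup.normalizer (((P : Subgroup G) ⊓ (Q : Subgroup G) : Subgroup G) : Set G)).relIndex (Subgroup.normalizer (((P : Subgroup G) ⊓ (Q : Subgroup G) : Subgroup G) : Set G))) →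
      IsPGroup p (Subgroup.normalizer (((P : Subgroup G) ⊓ (Q : Subgroup G) : Subgroup G) : Set G) ⧸
        (Subgroup.centralizer (((P : Subgroup G) ⊓ (Q : Subgroup G) : Subgroup G) : Set G)).subgroupOf
          (Subgroup.normalizer (((P : Subgroup G) ⊓ (Q : Subgroup G) : Subgroup G) : Set G)))) :
    Cfsg.HasNormalPComplement p G := by
  classical
  have hp : p.Prime := Fact.out
  let Bad : Subgroup G → Prop := fun Q => IsPGroup p Q ∧ ∃ g ∈ Subgroup.normalizer (Q : Set G),
    Nat.Coprime (orderOf g) p ∧ g ∉ Subgroup.centralizer (Q : Set G)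
  rw [CfsgLib.Solv.hnpc_iff_frobCond]
  by_contra hcon
  have hex : ∃ Q : Subgroup G, Bad Q := by
    unfold CfsgLib.Solv.FrobCond at hcon
    push Not at hcon
    obtain ⟨Q, hQ, g, hg, hc, hn⟩ := hcon
    exact ⟨Q, hQ, g, hg, hc, hn⟩
  obtain ⟨Q, ⟨hQp, g, hgN, hgc, hgC⟩, hQmax⟩ := Set.exists_max_image {Q : Subgroup G | Bad Q} (fun Q => Nat.card Q)
    (Set.toFinite _) hex
  set N := Subgroup.normalizer (Q : Set G) with hN
  set Q' := Q.subgroupOf N with hQ'
  haveI : Q'.Normal := Subgroup.normal_subgroupOf_of_le_normalizer le_rfl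
  have hQ'p : IsPGroup p Q' := hQp.comap_subtype
  have hQT : ∀ T : Sylow p N, Q' ≤ (T : Subgroup N) := fun T => by
    obtain ⟨T₀, hT₀⟩ := hQ'p.exists_le_sylow
    obtain ⟨x, hx⟩ := MulAction.exists_smul_eq N T₀ T
    rw [← hx, Sylow.coe_subgroup_smul]
    intro y hy
    rw [Subgroup.mem_pointwise_smul_iff_inv_smul_mem]
    apply hT₀
    simpa [MulAut.smul_def] using (inferInstance : Q'.Normal).conj_mem y hy x⁻¹
  -- elements of order prime to `p` centralize larger subgroups they normalize
  have hbig : ∀ D : Subgroup N, IsPGroup p D → Q' < D → ∀ x ∈ Subgroup.normalizer (D : Set N),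
      Nat.Coprime (orderOf x) p → x ∈ Subgroup.centralizer (D : Set N) := by
    intro D hD hlt x hx hxc
    by_contra hxC
    have hlt' : Nat.card Q < Nat.card (D.map N.subtype) := by
      rw [← Nat.card_congr (D.equivMapOfInjective N.subtype N.subtype_injective).toEquiv,
        ← Nat.card_congr (Subgroup.subgroupOfEquivOfLe (Subgroup.le_normalizer (H := Q))).toEquiv]
      exact lt_of_le_of_ne (Subgroup.card_le_of_le hlt.le) fun e => hlt.ne (Subgroup.eq_of_le_of_card_ge hlt.le e.ge)
    refine (not_lt.mpr (hQmax (D.map N.subtype) ⟨hD.map _, (x : G), Subgroup.le_normalizer_map N.subtype ⟨x, hx, rfl⟩,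
      by rwa [Subgroup.orderOf_coe], fun hc => hxC ?_⟩)) hlt'
    rw [Subgroup.mem_centralizer_iff] at hc ⊢
    exact fun y hy => Subtype.ext (hc y ⟨y, hy, rfl⟩)
  set C := (Subgroup.centralizer (Q : Set G)).subgroupOf N with hC
  let Rel : Sylow p N → Sylow p N → Prop := fun T T' => ∃ c ∈ C, c • T = T'
  have Rtrans : ∀ {A B D}, Rel A B → Rel B D → Rel A D := fun ⟨c, hc, h1⟩ ⟨d, hd, h2⟩ =>
    ⟨d * c, C.mul_mem hd hc, by rw [mul_smul, h1, h2]⟩
  have Rsymm : ∀ {A B}, Rel A B → Rel B A := fun ⟨c, hc, h1⟩ =>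
    ⟨c⁻¹, C.inv_mem hc, by rw [← h1, inv_smul_smul]⟩
  by_cases hsep : ∃ T T' : Sylow p N, (T : Subgroup N) ⊓ T' = Q'
  · obtain ⟨T, T', hTT⟩ := hsep
    obtain ⟨S, hS⟩ := (T.2.map N.subtype).exists_le_sylow
    obtain ⟨S', hS'⟩ := (T'.2.map N.subtype).exists_le_sylow
    obtain ⟨a, ha⟩ := MulAction.exists_smul_eq G S P
    have hSN : ∀ (W : Sylow p N) (R : Sylow p G), (W : Subgroup N).map N.subtype ≤ (R : Subgroup G) →
        (W : Subgroup N) = (R : Subgroup G).subgroupOf N := fun W R hWR =>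
      (W.3 (R.2.comap_subtype (K := N)) fun y hy => hWR ⟨y, hy, rfl⟩).symm
    have hint : (S : Subgroup G) ⊓ S' = Q := by
      have hQle : Q ≤ (S : Subgroup G) ⊓ S' := fun q hq =>
        ⟨hS ⟨⟨q, Subgroup.le_normalizer hq⟩, hQT T hq, rfl⟩, hS' ⟨⟨q, Subgroup.le_normalizer hq⟩, hQT T' hq, rfl⟩⟩
      by_contra hne
      set J := (S : Subgroup G) ⊓ S'
      haveI := (S.2.to_le (inf_le_left : J ≤ S)).isNilpotent
      have hlt : Q.subgroupOf J < ⊤ := lt_top_iff_ne_top.mpr fun e =>
        hne (le_antisymm (Subgroup.subgroupOf_eq_top.mp e) hQle)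
      refine (not_le_of_gt (Group.normalizerCondition_of_isNilpotent (G := J) (Q.subgroupOf J) hlt)) fun y hy => ?_
      have hyN : (y : G) ∈ N := Subgroup.mem_normalizer_fintype fun q hq =>
        (Subgroup.mem_normalizer_iff.mp hy ⟨q, hQle hq⟩).mp hq
      have h1 : (⟨y, hyN⟩ : N) ∈ (T : Subgroup N) ⊓ T' := by
        rw [Subgroup.mem_inf, hSN T S hS, hSN T' S' hS']
        exact ⟨y.2.1, y.2.2⟩
      rw [hTT] at h1
      exact h1
    -- conjugate to get a tame intersection with `P`
    set φ := MulAut.conj a with hφ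
    have hPa : (P : Subgroup G) = (S : Subgroup G).map φ.toMonoidHom := by
      rw [← ha, Sylow.coe_subgroup_smul]; rfl
    have hS'a : ((a • S' : Sylow p G) : Subgroup G) = (S' : Subgroup G).map φ.toMonoidHom := by
      rw [Sylow.coe_subgroup_smul]; rfl
    have hPQ : (P : Subgroup G) ⊓ ((a • S' : Sylow p G) : Subgroup G) = Q.map φ.toMonoidHom := by
      rw [hPa, hS'a, ← Subgroup.map_inf _ _ _ φ.injective, hint]
    have hNa : Subgroup.normalizer ((Q.map φ.toMonoidHom : Subgroup G) : Set G) = N.map φ.toMonoidHom := by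
      rw [hN]
      exact (Subgroup.map_equiv_normalizer_eq Q φ).symm
    have hne : Q.map φ.toMonoidHom ≠ ⊥ := fun e => hgC (by
      rw [(Subgroup.map_eq_bot_iff_of_injective _ φ.injective).mp e, Subgroup.mem_centralizer_iff]
      intro y hy
      rw [Subgroup.mem_bot.mp hy, one_mul, mul_one])
    have hrel : ∀ (W : Sylow p N) (R : Sylow p G), (W : Subgroup N).map N.subtype ≤ (R : Subgroup G) →
        ¬ p ∣ ((R : Subgroup G).map φ.toMonoidHom ⊓ N.map φ.toMonoidHom).relIndex (N.map φ.toMonoidHom) := by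
      intro W R hWR
      rw [← Subgroup.map_inf _ _ _ φ.injective, Subgroup.relIndex_map_map_of_injective _ _ φ.injective,
        Subgroup.inf_relIndex_right, Subgroup.relIndex, ← hSN W R hWR]
      exact W.not_dvd_index
    have h1 := h (a • S') (hPQ ▸ hne)
    rw [hPQ] at h1
    have h2 := h1 (by
      rw [hNa]
      exact ⟨hPa ▸ hrel T S hS, hS'a ▸ hrel T' S' hS'⟩)
    have hgN' : φ g ∈ Subgroup.normalizer ((Q.map φ.toMonoidHom : Subgroup G) : Set G) :=
      hNa ▸ Subgroup.mem_map_of_mem _ hgN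
    obtain ⟨j, hj⟩ := h2 (QuotientGroup.mk (⟨φ g, hgN'⟩ : Subgroup.normalizer ((Q.map φ.toMonoidHom : Subgroup G) : Set G)))
    apply hgC
    have hmemC : (⟨φ g, hgN'⟩ : Subgroup.normalizer ((Q.map φ.toMonoidHom : Subgroup G) : Set G)) ∈
        (Subgroup.centralizer ((Q.map φ.toMonoidHom : Subgroup G) : Set G)).subgroupOf _ := by
      rw [← QuotientGroup.mk_pow, QuotientGroup.eq_one_iff] at hj
      have hco : (orderOf (⟨φ g, hgN'⟩ : Subgroup.normalizer ((Q.map φ.toMonoidHom : Subgroup G) : Set G))).Coprime (p ^ j) := by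
        rw [Subgroup.orderOf_mk, MulEquiv.orderOf_eq]
        exact hgc.pow_right j
      obtain ⟨i, hi⟩ := exists_pow_eq_self_of_coprime hco.symm
      rw [← hi]
      exact Subgroup.pow_mem _ hj i
    rw [Subgroup.mem_subgroupOf, Subgroup.mem_centralizer_iff] at hmemC
    rw [Subgroup.mem_centralizer_iff]
    intro q hq
    apply φ.injective
    rw [map_mul, map_mul]
    exact hmemC (φ q) ⟨q, hq, rfl⟩
  · push Not at hsep
    have hchain : ∀ m : ℕ, ∀ T T' : Sylow p N, Nat.card (T : Subgroup N) - Nat.card ((T : Subgroup N) ⊓ T' : Subgroup N) = m →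
        Rel T T' := by
      intro m
      induction m using Nat.strong_induction_on with
      | _ m ih =>
      intro T T' hm
      by_cases hTeq : T = T'
      · exact ⟨1, C.one_mem, by rw [one_smul, hTeq]⟩
      set D := (T : Subgroup N) ⊓ T' with hD
      have hQD : Q' < D := lt_of_le_of_ne (le_inf (hQT T) (hQT T')) (hsep T T').symm
      have hDp : IsPGroup p D := T.2.to_le inf_le_left
      set M := Subgroup.normalizer (D : Set N) with hM
      have hgrow : ∀ W : Sylow p N, D < (W : Subgroup N) → D < (W : Subgroup N) ⊓ M := by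
        intro W hDW
        refine lt_of_le_of_ne (le_inf hDW.le Subgroup.le_normalizer) fun e => ?_
        haveI := W.2.isNilpotent
        have hlt : D.subgroupOf (W : Subgroup N) < ⊤ := lt_top_iff_ne_top.mpr fun e' =>
          hDW.not_ge (Subgroup.subgroupOf_eq_top.mp e')
        refine (not_le_of_gt (Group.normalizerCondition_of_isNilpotent (G := (W : Subgroup N)) _ hlt)) fun y hy => ?_
        have hyM : (y : N) ∈ M := Subgroup.mem_normalizer_fintype fun q hq =>
          (Subgroup.mem_normalizer_iff.mp hy ⟨q, hDW.le hq⟩).mp hq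
        rw [Subgroup.mem_subgroupOf, e]
        exact ⟨y.2, hyM⟩
      have hne1 : D < (T : Subgroup N) := lt_of_le_of_ne inf_le_left fun e => hTeq (Sylow.ext
        (Subgroup.eq_of_le_of_card_ge (inf_eq_left.mp e) (by
          rw [T.card_eq_multiplicity, T'.card_eq_multiplicity])))
      have hne2 : D < (T' : Subgroup N) := lt_of_le_of_ne inf_le_right fun e => hTeq (Sylow.ext
        (Subgroup.eq_of_le_of_card_ge (inf_eq_right.mp e) (by
          rw [T.card_eq_multiplicity, T'.card_eq_multiplicity])).symm)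
      obtain ⟨U, hU⟩ := (T.2.comap_subtype (K := M)).exists_le_sylow
      obtain ⟨U', hU'⟩ := (T'.2.comap_subtype (K := M)).exists_le_sylow
      obtain ⟨S, hS⟩ := (U.2.map M.subtype).exists_le_sylow
      obtain ⟨S', hS'⟩ := (U'.2.map M.subtype).exists_le_sylow
      have hsame : ∀ A : Sylow p N, Nat.card (A : Subgroup N) = Nat.card (T : Subgroup N) := fun A => by
        rw [A.card_eq_multiplicity, T.card_eq_multiplicity]
      have hstep : ∀ A B : Sylow p N, D < (A : Subgroup N) ⊓ B → Rel A B := by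
        intro A B hAB
        refine ih _ ?_ A B rfl
        rw [← hm, hsame A]
        have h1 : Nat.card D < Nat.card ((A : Subgroup N) ⊓ B : Subgroup N) :=
          lt_of_le_of_ne (Subgroup.card_le_of_le hAB.le) fun e => hAB.ne (Subgroup.eq_of_le_of_card_ge hAB.le e.ge)
        have h2 := Subgroup.card_le_of_le (inf_le_left : (A : Subgroup N) ⊓ B ≤ A)
        rw [hsame A] at h2
        omega
      have hTS : (T : Subgroup N) ⊓ M ≤ (S : Subgroup N) := fun y hy => hS ⟨⟨y, hy.2⟩, hU hy.1, rfl⟩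
      have hTS' : (T' : Subgroup N) ⊓ M ≤ (S' : Subgroup N) := fun y hy => hS' ⟨⟨y, hy.2⟩, hU' hy.1, rfl⟩
      -- `M` is the product of its Sylow subgroup and a centralizer
      set K := (Subgroup.centralizer (D : Set N)).subgroupOf M with hK
      haveI : K.Normal := by
        rw [hK, ← Subgroup.normalizerMonoidHom_ker D]; infer_instance
      have hKi := CfsgLib.Perm.PiClosed.piNat_index_of_elems (π := ({p} : Set ℕ)ᶜ) (L := K) fun y hy => by
        rw [hK, Subgroup.mem_subgroupOf]
        refine hbig D hDp hQD y y.2 ?_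
        rw [Subgroup.orderOf_coe]
        exact (hp.coprime_iff_not_dvd.mpr fun e => hy p hp e rfl).symm
      have htop : K ⊔ (U : Subgroup M) = ⊤ := by
        rw [← Subgroup.index_eq_one]
        by_contra hne
        obtain ⟨r, hr, hrd⟩ := Nat.exists_prime_and_dvd hne
        have h1 : r ∈ ({p} : Set ℕ) := by
          have := hKi r hr (hrd.trans (Subgroup.index_dvd_of_le le_sup_left))
          simpa using this
        rw [Set.mem_singleton_iff] at h1
        subst h1
        exact U.not_dvd_index (hrd.trans (Subgroup.index_dvd_of_le le_sup_right))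
      obtain ⟨x, hx⟩ := MulAction.exists_smul_eq M U U'
      obtain ⟨k, hk, u, hu, hku⟩ : x ∈ (K : Set M) * ((U : Subgroup M) : Set M) := by
        rw [← Subgroup.normal_mul, htop]; trivial
      simp only at hku
      have hkU : k • U = U' := by
        rw [← hx, ← hku, mul_smul, Sylow.smul_eq_iff_mem_normalizer.mpr (Subgroup.le_normalizer hu)]
      have hkC : (k : N) ∈ C := by
        rw [hC, Subgroup.mem_subgroupOf, Subgroup.mem_centralizer_iff]
        intro q hq
        have h1 := Subgroup.mem_centralizer_iff.mp (show (k : N) ∈ Subgroup.centralizer (D : Set N) from hk)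
          ⟨q, Subgroup.le_normalizer hq⟩ (hQD.le (show (⟨q, Subgroup.le_normalizer hq⟩ : N) ∈ Q' from hq))
        exact congrArg Subtype.val h1
      have hmove : (U' : Subgroup M).map M.subtype ≤ (((k : N) • S : Sylow p N) : Subgroup N) := by
        rintro _ ⟨y, hy, rfl⟩
        rw [Sylow.coe_subgroup_smul, Subgroup.mem_pointwise_smul_iff_inv_smul_mem]
        rw [← hkU, Sylow.coe_subgroup_smul] at hy
        have hy' := Subgroup.mem_pointwise_smul_iff_inv_smul_mem.mp hy
        have := hS (Subgroup.mem_map_of_mem M.subtype hy')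
        exact this
      have e1 : Rel T S := hstep T S (lt_of_lt_of_le (hgrow T hne1) (le_inf inf_le_left hTS))
      have e2 : Rel S ((k : N) • S) := ⟨(k : N), hkC, rfl⟩
      have e3 : Rel ((k : N) • S) S' := hstep _ _ (lt_of_lt_of_le (hgrow T' hne2) (le_inf
        (fun y hy => hmove ⟨⟨y, hy.2⟩, hU' hy.1, rfl⟩) hTS'))
      have e4 : Rel S' T' := hstep S' T' (lt_of_lt_of_le (hgrow T' hne2) (le_inf hTS' inf_le_left))
      exact Rtrans e1 (Rtrans e2 (Rtrans e3 e4))
    obtain ⟨T⟩ := (inferInstance : Nonempty (Sylow p N))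
    have hQltT : Q' < (T : Subgroup N) := lt_of_le_of_ne (hQT T) fun e => hsep T T (by rw [inf_idem]; exact e.symm)
    set M := Subgroup.normalizer ((T : Subgroup N) : Set N) with hM
    haveI : C.Normal := by
      rw [hC, ← Subgroup.normalizerMonoidHom_ker Q]; infer_instance
    set g' : N := ⟨g, hgN⟩
    obtain ⟨c, hc, hcT⟩ := hchain _ T (g' • T) rfl
    have hm : c⁻¹ * g' ∈ M := Sylow.smul_eq_iff_mem_normalizer.mp (by rw [mul_smul, ← hcT, inv_smul_smul])
    obtain ⟨e, b, hb, heb⟩ := Nat.exists_eq_pow_mul_and_not_dvd (orderOf_pos (c⁻¹ * g')).ne' p hp.ne_one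
    have hpe : (c⁻¹ * g') ^ p ^ e ∈ C := by
      have hcop : (orderOf ((c⁻¹ * g') ^ p ^ e)).Coprime p :=
        (hp.coprime_iff_not_dvd.mpr fun hd => hb (hd.trans (orderOf_dvd_of_pow_eq_one (by
          rw [← pow_mul, ← heb, pow_orderOf_eq_one])))).symm
      have h1 := hbig T T.2 hQltT _ (Subgroup.pow_mem _ hm _) hcop
      rw [hC, Subgroup.mem_subgroupOf, Subgroup.mem_centralizer_iff]
      intro q hq
      exact congrArg Subtype.val (Subgroup.mem_centralizer_iff.mp h1 ⟨q, Subgroup.le_normalizer hq⟩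
        (hQT T (show (⟨q, Subgroup.le_normalizer hq⟩ : N) ∈ Q' from hq)))
    rw [← QuotientGroup.eq_one_iff, QuotientGroup.mk_pow, QuotientGroup.mk_mul, QuotientGroup.mk_inv,
      (QuotientGroup.eq_one_iff c).mpr hc, inv_one, one_mul] at hpe
    have hg'1 : (g' : N ⧸ C) = 1 := by
      rw [← orderOf_eq_one_iff]
      refine Nat.eq_one_of_dvd_coprimes (Nat.Coprime.pow_right e ?_) dvd_rfl (orderOf_dvd_of_pow_eq_one hpe)
      refine Nat.Coprime.coprime_dvd_left (orderOf_map_dvd (QuotientGroup.mk' C) g') ?_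
      rwa [Subgroup.orderOf_mk]
    rw [QuotientGroup.eq_one_iff, hC, Subgroup.mem_subgroupOf] at hg'1
    exact hgC hg'1

end Cfsg.Agent.S4251
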