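import Cfsg.Statements.S4252
import Cfsg.Agent.Solv.Basic

set_option autoImplicit false
set_option linter.style.haveILetI false
open Cfsg
open scoped Pointwise

namespace Cfsg.Agent.S4252

/-- Let a finite group G act on a finite set Ω with more than one point, transitively but not regularly, so that no non-identity element of G fixes two distinct points. Then the stabilizer H of any point is a Frobenius complement in G (nontrivial, proper, meeting its other conjugates trivially), and the Frobenius kernel of G with respect to H (the identity together with the elements lying in no conjugate of H) is exactly the set consisting of the identity and the elements fixing no point. -/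
theorem result {G Ω : Type*} [Group G] [Finite G] [Fintype Ω] [MulAction G Ω] (hΩ : 1 < Fintype.card Ω)
    (htrans : ∀ α β : Ω, ∃ g : G, g • α = β) (hnreg : ∃ g : G, g ≠ 1 ∧ ∃ α : Ω, g • α = α)
    (hfix : ∀ g : G, g ≠ 1 → ∀ α β : Ω, g • α = α → g • β = β → α = β) (α : Ω) :
    Cfsg.IsFrobeniusComplement (MulAction.stabilizer G α) ∧
      Cfsg.frobeniusKernel (MulAction.stabilizer G α) = {g : G | g = 1 ∨ ∀ ω : Ω, g • ω ≠ ω} := by
  classical
  have hne : ∃ β : Ω, β ≠ α := Fintype.exists_ne_of_one_lt_card hΩ α
  refine ⟨⟨?_, ?_, ?_⟩, ?_⟩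
  · intro hbot
    obtain ⟨g, hg, β, hβ⟩ := hnreg
    obtain ⟨k, hk⟩ := htrans α β
    have hmem : k⁻¹ * g * k ∈ MulAction.stabilizer G α := by
      simp [MulAction.mem_stabilizer_iff, mul_smul, hk, hβ, inv_smul_eq_iff]
    rw [hbot, Subgroup.mem_bot] at hmem
    apply hg
    have h2 := congrArg (fun z => k * z * k⁻¹) hmem
    simpa [mul_assoc] using h2
  · intro htop
    obtain ⟨β, hβ⟩ := hne
    obtain ⟨k, hk⟩ := htrans α β
    have : k ∈ MulAction.stabilizer G α := htop ▸ Subgroup.mem_top k
    exact hβ (by rw [← hk]; exact this)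
  · intro g hg
    refine (Subgroup.eq_bot_iff_forall _).2 fun x hx => ?_
    obtain ⟨hx1, hx2⟩ := hx
    have hx2 := CfsgLib.Solv.mem_conj_smul_iff.1 (show x ∈ MulAut.conj g • MulAction.stabilizer G α from hx2)
    by_contra hne1
    apply hg
    rw [MulAction.mem_stabilizer_iff]
    refine (hfix x hne1 α (g • α) hx1 ?_).symm
    have h2 : (g⁻¹ * x * g) • α = α := hx2
    rw [mul_smul, mul_smul, inv_smul_eq_iff] at h2
    exact h2
  · ext x
    simp only [Cfsg.frobeniusKernel, Set.mem_ofPred_eq, CfsgLib.Solv.mem_conj_smul_iff,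
      MulAction.mem_stabilizer_iff]
    refine or_congr_right ⟨fun h ω hω => ?_, fun h g hg => ?_⟩
    · obtain ⟨k, hk⟩ := htrans α ω
      exact h k (by rw [mul_smul, mul_smul, hk, hω, inv_smul_eq_iff, hk])
    · refine h (g • α) ?_
      rwa [mul_smul, mul_smul, inv_smul_eq_iff] at hg

end Cfsg.Agent.S4252
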