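import Cfsg.Statements.S4253
import Cfsg.Agent.Solv.Basic

set_option autoImplicit false
set_option linter.style.haveILetI false
open Cfsg
open scoped Pointwise

namespace Cfsg.Agent.S4253

/-- Let H be a Frobenius complement in a finite group G (a nontrivial proper subgroup meeting each conjugate gHg⁻¹ with g outside H trivially). Then in the action of G on the left cosets of H by left multiplication, no non-identity element of G fixes two distinct cosets. -/
theorem result {G : Type*} [Group G] [Finite G] (H : Subgroup G) (hH : Cfsg.IsFrobeniusComplement H)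
    (g : G) (hg : g ≠ 1) (a b : G ⧸ H) (ha : g • a = a) (hb : g • b = b) : a = b := by
  obtain ⟨_, _, hTI⟩ := hH
  induction a using QuotientGroup.induction_on with
  | H x =>
  induction b using QuotientGroup.induction_on with
  | H y =>
  rw [QuotientGroup.eq]
  by_contra hne
  have hx : x⁻¹ * g * x ∈ H := by
    have h1 : ((g * x : G) : G ⧸ H) = x := ha
    rw [eq_comm, QuotientGroup.eq] at h1
    simpa [mul_assoc] using h1
  have hy : y⁻¹ * g * y ∈ H := by
    have h1 : ((g * y : G) : G ⧸ H) = y := hb
    rw [eq_comm, QuotientGroup.eq] at h1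
    simpa [mul_assoc] using h1
  have hmem : x⁻¹ * g * x ∈ H ⊓ MulAut.conj (x⁻¹ * y) • H := by
    refine ⟨hx, ?_⟩
    refine CfsgLib.Solv.mem_conj_smul_iff.2 ?_
    have : (x⁻¹ * y)⁻¹ * (x⁻¹ * g * x) * (x⁻¹ * y) = y⁻¹ * g * y := by group
    rwa [this]
  rw [hTI _ hne, Subgroup.mem_bot] at hmem
  apply hg
  have h2 := congrArg (fun z => x * z * x⁻¹) hmem
  simpa [mul_assoc] using h2

end Cfsg.Agent.S4253
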