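import Cfsg.Statements.S4261

import Cfsg.Agent.Solv.Maximal

set_option autoImplicit false
set_option linter.style.haveILetI false
open Cfsg

namespace Cfsg.Agent.S4261

theorem normal_closure_of_conj {G : Type*} [Group G] {S : Set G}
    (h : ∀ x ∈ S, ∀ g : G, g * x * g⁻¹ ∈ S) : (Subgroup.closure S).Normal :=
  ⟨fun n hn g => by
    induction hn using Subgroup.closure_induction with
    | mem x hx => exact Subgroup.subset_closure (h x hx g)
    | one => simpa using one_mem (Subgroup.closure S)
    | mul a b _ _ iha ihb =>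
      have e : g * (a * b) * g⁻¹ = g * a * g⁻¹ * (g * b * g⁻¹) := by group
      rw [e]; exact mul_mem iha ihb
    | inv a _ iha =>
      have e : g * a⁻¹ * g⁻¹ = (g * a * g⁻¹)⁻¹ := by group
      rw [e]; exact inv_mem iha⟩

/-- Let M be a maximal subgroup of a finite solvable group G such that x^[G : M] lies in M for every x in G. Then M is normal in G. -/
theorem result {G : Type*} [Group G] [Finite G] (hG : Group.IsSolvable G) (M : Subgroup G) (hM : IsCoatom M)
    (hexp : ∀ x : G, x ^ M.index ∈ M) : M.Normal := by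
  obtain ⟨p, k, hp, hk, hpk⟩ := CfsgLib.Solv.isPrimePow_index_of_isCoatom _ G rfl hG M hM
  haveI := Fact.mk (Nat.prime_iff.2 hp)
  -- `p'`-elements generate a normal subgroup inside `M`
  let K := Subgroup.closure {x : G | (orderOf x).Coprime p}
  have hKM : K ≤ M := by
    rw [Subgroup.closure_le]
    intro x hx
    have h1 : (orderOf x).Coprime (M.index) := hpk ▸ (Nat.Coprime.pow_right k hx)
    obtain ⟨j, hj⟩ := exists_pow_eq_self_of_coprime h1.symm
    have h2 := pow_mem (hexp x) j
    rwa [hj] at h2
  haveI hKn : K.Normal := normal_closure_of_conj fun x hx g => by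
    rw [Set.mem_setOf_eq] at hx ⊢
    rwa [← MulAut.conj_apply, MulEquiv.orderOf_eq]
  have hQ : IsPGroup p (G ⧸ K) := by
    intro q
    obtain ⟨g, rfl⟩ := QuotientGroup.mk_surjective q
    obtain ⟨a, m, hm, he⟩ := Nat.exists_eq_pow_mul_and_not_dvd (orderOf_pos g).ne' p (Nat.prime_iff.2 hp).ne_one
    refine ⟨a, ?_⟩
    rw [← QuotientGroup.mk_pow, QuotientGroup.eq_one_iff]
    refine Subgroup.subset_closure ?_
    rw [Set.mem_setOf_eq, orderOf_pow g, he, Nat.gcd_mul_right_left, Nat.mul_div_cancel_left _ (pow_pos (Nat.prime_iff.2 hp).pos a)]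
    exact ((Nat.prime_iff.2 hp).coprime_iff_not_dvd.2 hm).symm
  haveI := hQ.isNilpotent
  have hMK : IsCoatom (M.map (QuotientGroup.mk' K)) := by
    refine ⟨fun e => hM.1 ?_, fun L hL => ?_⟩
    · have := congrArg (Subgroup.comap (QuotientGroup.mk' K)) e
      rwa [Subgroup.comap_map_eq, QuotientGroup.ker_mk', sup_eq_left.2 hKM, Subgroup.comap_top] at this
    · have h1 : M < L.comap (QuotientGroup.mk' K) := by
        have := (Subgroup.comap_lt_comap_of_surjective (QuotientGroup.mk'_surjective K)).2 hL
        rwa [Subgroup.comap_map_eq, QuotientGroup.ker_mk', sup_eq_left.2 hKM] at this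
      rw [← Subgroup.map_comap_eq_self_of_surjective (QuotientGroup.mk'_surjective K) L, hM.2 _ h1,
        Subgroup.map_top_of_surjective _ (QuotientGroup.mk'_surjective K)]
  haveI := Subgroup.NormalizerCondition.normal_of_coatom _ Group.normalizerCondition_of_isNilpotent hMK
  have e : M = (M.map (QuotientGroup.mk' K)).comap (QuotientGroup.mk' K) := by
    rw [Subgroup.comap_map_eq, QuotientGroup.ker_mk', sup_eq_left.2 hKM]
  rw [e]
  infer_instance

end Cfsg.Agent.S4261
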