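import Cfsg.Statements.S4262

import Cfsg.Agent.Perm.Kazarin
import Cfsg.Agent.Fus.AutomizerComplement
import Cfsg.Agent.Solv.MinNonNilp
import Cfsg.Agent.Solv.TransferTools

set_option autoImplicit false
set_option linter.style.haveILetI false
open Cfsg

namespace Cfsg.Agent.S4262
open CfsgLib.Solv

universe u

/-- The key local step: a nilpotent maximal subgroup in a group without normal soluble subgroups. -/
theorem hnpc_of_maximal {Q : Type u} [Group Q] [Finite Q] (hrad : CfsgLib.Perm.Kazarin.rad Q = ⊥) {q : ℕ}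
    [hq : Fact q.Prime] (hq2 : q ≠ 2) {M : Subgroup Q} (hM : IsCoatom M) (hnil : Group.IsNilpotent M)
    (hdvd : q ∣ Nat.card M) : Cfsg.HasNormalPComplement q Q := by
  haveI := hnil
  obtain ⟨S⟩ : Nonempty (Sylow q M) := inferInstance
  haveI : (S : Subgroup M).Normal := by
    exact Sylow.normal_of_normalizerCondition (fun H hH => normalizerCondition_of_isNilpotent H hH) S
  set P := (S : Subgroup M).map M.subtype with hP
  have hPq : IsPGroup q P := S.isPGroup'.map _
  have hPne : P ≠ ⊥ := fun e =>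
    S.ne_bot_of_dvd_card hdvd ((Subgroup.map_eq_bot_iff_of_injective _ M.subtype_injective).1 e)
  have hMN : M ≤ Subgroup.normalizer (P : Set Q) := by
    have := Subgroup.le_normalizer_map (H := (S : Subgroup M)) M.subtype
    rwa [Subgroup.normalizer_eq_top_iff.mpr inferInstance, ← MonoidHom.range_eq_map, M.range_subtype] at this
  have key : ∀ H : Subgroup Q, IsPGroup q H → H ≠ ⊥ → M ≤ Subgroup.normalizer (H : Set Q) →
      Subgroup.normalizer (H : Set Q) = M := fun H hH hne hle => by
    rcases hM.le_iff.1 hle with h | h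
    · haveI : H.Normal := Subgroup.normalizer_eq_top_iff.1 h
      haveI : Group.IsNilpotent H := hH.isNilpotent
      exact absurd (le_bot_iff.1 (hrad ▸ CfsgLib.Perm.Kazarin.le_rad inferInstance)) hne
    · exact h
  obtain ⟨T, hT⟩ := hPq.exists_le_sylow
  have hTP : P = (T : Subgroup Q) := by
    by_contra hne
    have hlt := lt_normalizer_inf_of_nilpotent T.isPGroup'.isNilpotent (lt_of_le_of_ne hT hne)
    rw [key P hPq hPne hMN] at hlt
    have hq' : IsPGroup q ((M ⊓ (T : Subgroup Q)).subgroupOf M) :=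
      (T.isPGroup'.to_le inf_le_right).comap_of_injective _ M.subtype_injective
    have hle : (S : Subgroup M) ≤ (M ⊓ (T : Subgroup Q)).subgroupOf M := fun x hx =>
      ⟨x.2, hT ⟨x, hx, rfl⟩⟩
    have := congrArg (Subgroup.map M.subtype) (S.is_maximal' hq' hle)
    rw [Subgroup.map_subgroupOf_eq_of_le inf_le_left] at this
    exact hlt.ne this.symm
  refine CfsgLib.AutComp.hnpc_of_charAut (Or.inl hq2) T ?_
  intro C hC hCne g hg hco
  rw [← hTP] at hC
  have hgM : g ∈ M := by
    rwa [key C (hPq.to_le hC.1) hCne (hMN.trans hC.le_normalizer)] at hg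
  intro c hc
  obtain ⟨c', hc', rfl⟩ := hC.1 hc
  haveI := CfsgLib.Inv.pResidual_normal q M
  have hgR : (⟨g, hgM⟩ : M) ∈ Cfsg.pResidual q M := CfsgLib.Inv.mem_pResidual (by rwa [Subgroup.orderOf_mk])
  have hdis : Disjoint (S : Subgroup M) (Cfsg.pResidual q M) := by
    rw [disjoint_iff, inf_comm]
    exact sylow_inf_eq_bot_of_not_dvd S.isPGroup' (hnpc_iff.1 hnpc_of_isNilpotent) |> fun e => by rw [inf_comm, e]
  exact congrArg Subtype.val (Subgroup.commute_of_normal_of_disjoint _ _ inferInstance inferInstance hdis c' ⟨g, hgM⟩ hc' hgR).eq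

/-- A central element modulo a prime: every element commutes with the coprime part. -/
theorem nilpotent_centralizer {G : Type u} [Group G] [Finite G] {q : ℕ} [hq : Fact q.Prime]
    (h : ∀ g : G, g ∉ Subgroup.center G → IsCoatom (Subgroup.centralizer ({g} : Set G)))
    {y : G} (hy : y ∉ Subgroup.center G) (hyq : ∃ k, orderOf y = q ^ k) :
    Group.IsNilpotent (Subgroup.centralizer ({y} : Set G)) := by
  obtain ⟨k, hk⟩ := hyq
  set M := Subgroup.centralizer ({y} : Set G)
  have hcen : ∀ w : M, (orderOf w).Coprime q → w ∈ Subgroup.center M := by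
    intro w hw
    have hyw : Commute y (w : G) := (Subgroup.mem_centralizer_singleton_iff.1 w.2).symm
    by_cases hwc : (w : G) ∈ Subgroup.center G
    · exact Subgroup.mem_center_iff.2 fun m => Subtype.ext (Subgroup.mem_center_iff.1 hwc m)
    have hco : (orderOf y).Coprime (orderOf (w : G)) := by
      rw [hk, Subgroup.orderOf_coe]
      exact Nat.Coprime.pow_left _ hw.symm
    obtain ⟨a, ha1, ha2⟩ := Nat.chineseRemainder hco 1 0
    have hpow : (y * (w : G)) ^ a = y := by
      rw [hyw.mul_pow, pow_eq_pow_iff_modEq.2 ha1, pow_one, pow_eq_pow_iff_modEq.2 ha2, pow_zero, mul_one]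
    have hle : Subgroup.centralizer ({y * (w : G)} : Set G) ≤ M := fun m hm => by
      rw [Subgroup.mem_centralizer_singleton_iff] at hm
      have h1 : Commute m ((y * (w : G)) ^ a) := Commute.pow_right hm _
      rw [hpow] at h1
      exact Subgroup.mem_centralizer_singleton_iff.2 h1
    have hywc : y * (w : G) ∉ Subgroup.center G := fun hc => hy (hpow ▸ Subgroup.pow_mem _ hc a)
    have heq : Subgroup.centralizer ({y * (w : G)} : Set G) = M :=
      (((h _ hywc).le_iff.1 hle).resolve_left (h y hy).1).symm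
    refine Subgroup.mem_center_iff.2 fun m => Subtype.ext ?_
    have hm := m.2
    have hm' : (m : G) ∈ Subgroup.centralizer ({y * (w : G)} : Set G) := heq.symm ▸ hm
    rw [Subgroup.mem_centralizer_singleton_iff] at hm'
    have hmy := Subgroup.mem_centralizer_singleton_iff.1 hm
    rw [← mul_assoc, hmy, mul_assoc, mul_assoc] at hm'
    exact mul_left_cancel hm'
  haveI : Group.IsNilpotent (M ⧸ Subgroup.center M) := by
    refine IsPGroup.isNilpotent (p := q) fun x => ?_
    obtain ⟨m, rfl⟩ := QuotientGroup.mk_surjective x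
    refine ⟨(orderOf m).factorization q, ?_⟩
    rw [← QuotientGroup.mk_pow, QuotientGroup.eq_one_iff]
    refine hcen _ ?_
    rw [orderOf_pow_of_dvd (pow_ne_zero _ hq.out.ne_zero) (Nat.ordProj_dvd _ _)]
    exact (Nat.coprime_ordCompl hq.out (orderOf_pos m).ne').symm
  exact Group.of_quotient_center_nilpotent inferInstance

/-- Let G be a finite group in which the centralizer of every non-central element is a maximal subgroup of G. Then G is solvable. -/
theorem result {G : Type*} [Group G] [Finite G]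
    (h : ∀ g : G, g ∉ Subgroup.center G → IsCoatom (Subgroup.centralizer ({g} : Set G))) :
    Group.IsSolvable G := by
  classical
  by_contra hns
  set R := CfsgLib.Perm.Kazarin.rad G
  obtain ⟨hRn, hRs⟩ := CfsgLib.Perm.Kazarin.rad_spec (G := G)
  haveI : R.Normal := hRn
  haveI : Group.IsSolvable R := hRs
  set f := QuotientGroup.mk' R
  have hfs : Function.Surjective f := QuotientGroup.mk'_surjective R
  have hext : ∀ N : Subgroup G, Group.IsSolvable N → N ⊔ R = ⊤ → False := fun N hN e => by
    have := CfsgLib.Perm.Kazarin.isSolvable_sup (N := R) hN hRs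
    rw [e] at this
    haveI := this
    exact hns (Group.isSolvable_of_surjective (f := (Subgroup.topEquiv (G := G)).toMonoidHom) (Subgroup.topEquiv (G := G)).surjective)
  have hrad : CfsgLib.Perm.Kazarin.rad (G ⧸ R) = ⊥ := by
    obtain ⟨hn, hs⟩ := CfsgLib.Perm.Kazarin.rad_spec (G := G ⧸ R)
    set U := (CfsgLib.Perm.Kazarin.rad (G ⧸ R)).comap f
    haveI : U.Normal := hn.comap f
    haveI := hs
    have hU : Group.IsSolvable U := by
      refine Group.isSolvable_of_ker_le_range (Subgroup.inclusion (show R ≤ U from fun r hr => ?_))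
        (f.subgroupComap (CfsgLib.Perm.Kazarin.rad (G ⧸ R))) ?_
      · refine Subgroup.mem_comap.2 ?_
        rw [show f r = 1 from (QuotientGroup.eq_one_iff r).2 hr]
        exact one_mem _
      · intro u hu
        exact ⟨⟨u, (QuotientGroup.eq_one_iff _).1 (congrArg Subtype.val (MonoidHom.mem_ker.1 hu))⟩, rfl⟩
    have := Subgroup.map_mono (f := f) (CfsgLib.Perm.Kazarin.le_rad hU)
    rw [Subgroup.map_comap_eq_self_of_surjective hfs, QuotientGroup.map_mk'_self] at this
    exact le_bot_iff.1 this
  have hcomp : ∀ q : ℕ, q.Prime → q ≠ 2 → Cfsg.HasNormalPComplement q (G ⧸ R) := by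
    intro q hq hq2
    haveI : Fact q.Prime := ⟨hq⟩
    by_cases hd : q ∣ Nat.card (G ⧸ R)
    swap
    · exact CfsgLib.Solv.hnpc_of_not_dvd hd
    obtain ⟨S⟩ : Nonempty (Sylow q G) := inferInstance
    have hne := (S.mapSurjective hfs).ne_bot_of_dvd_card hd
    obtain ⟨_, ⟨y, hyS, rfl⟩, hy1⟩ := Subgroup.bot_or_exists_ne_one _ |>.resolve_left hne
    have hyc : y ∉ Subgroup.center G := fun hc => hy1 ((QuotientGroup.eq_one_iff y).2 (CfsgLib.Perm.Kazarin.le_rad
      (Group.isSolvable_of_comm fun a b => Subtype.ext (Subgroup.mem_center_iff.1 b.2 a)) hc))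
    have hyq : ∃ k, orderOf y = q ^ k := by
      obtain ⟨k, hk⟩ := IsPGroup.iff_orderOf.1 S.isPGroup' ⟨y, hyS⟩
      exact ⟨k, by rwa [Subgroup.orderOf_mk] at hk⟩
    set M := Subgroup.centralizer ({y} : Set G)
    have hnil := nilpotent_centralizer (q := q) h hyc hyq
    have hM := h y hyc
    have hRM : R ≤ M := by
      rcases hM.le_iff.1 (le_sup_left : M ≤ M ⊔ R) with e | e
      · haveI := hnil
        exact (hext M inferInstance e).elim
      · exact le_sup_right.trans e.le
    have hback : (M.map f).comap f = M := by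
      rw [Subgroup.comap_map_eq, QuotientGroup.ker_mk']
      exact sup_eq_left.2 hRM
    have hMc : IsCoatom (M.map f) := by
      refine ⟨fun e => hM.1 (hback.symm.trans (by rw [e, Subgroup.comap_top])), fun K hK => ?_⟩
      have hlt : M < K.comap f := lt_of_le_of_ne (hback ▸ Subgroup.comap_mono hK.le)
        fun e => hK.ne (by rw [e, Subgroup.map_comap_eq_self_of_surjective hfs])
      rw [← Subgroup.map_comap_eq_self_of_surjective hfs K, hM.2 _ hlt, Subgroup.map_top_of_surjective f hfs]
    refine hnpc_of_maximal hrad hq2 hMc ?_ ?_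
    · haveI := hnil
      exact Group.nilpotent_of_surjective (f.subgroupMap M) (MonoidHom.subgroupMap_surjective f M)
    · have hmem : f y ∈ M.map f := Subgroup.mem_map_of_mem f (Subgroup.mem_centralizer_singleton_iff.2 rfl)
      obtain ⟨k, hk⟩ := hyq
      obtain ⟨l, -, hl⟩ := (Nat.dvd_prime_pow hq).1 (hk ▸ orderOf_map_dvd f y)
      have hl0 : l ≠ 0 := fun e => hy1 (orderOf_eq_one_iff.1 (by rw [hl, e, pow_zero]))
      exact ((dvd_pow_self q hl0).trans (dvd_of_eq hl.symm)).trans (Subgroup.orderOf_dvd_natCard _ hmem)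
  -- a term of the derived series lies in every complement
  have hd : ∀ q : ℕ, ∃ n, q.Prime → derivedSeries (G ⧸ R) n ≤ Cfsg.pResidual q (G ⧸ R) := by
    intro q
    by_cases hq : q.Prime
    swap
    · exact ⟨0, fun h => absurd h hq⟩
    haveI : Fact q.Prime := ⟨hq⟩
    haveI := CfsgLib.Inv.pResidual_normal q (G ⧸ R)
    have hp : IsPGroup q ((G ⧸ R) ⧸ Cfsg.pResidual q (G ⧸ R)) := CfsgLib.Inv.isPGroup_quot_pResidual
    haveI := hp.isNilpotent
    haveI : Group.IsSolvable ((G ⧸ R) ⧸ Cfsg.pResidual q (G ⧸ R)) := inferInstance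
    obtain ⟨n, hn⟩ := Group.IsSolvable.solvable (G := (G ⧸ R) ⧸ Cfsg.pResidual q (G ⧸ R))
    refine ⟨n, fun _ x hx => ?_⟩
    have := map_derivedSeries_le_derivedSeries (QuotientGroup.mk' (Cfsg.pResidual q (G ⧸ R))) n (Subgroup.mem_map_of_mem _ hx)
    rw [hn, Subgroup.mem_bot] at this
    exact (QuotientGroup.eq_one_iff x).1 this
  choose N hN using hd
  set n := (Finset.range (Nat.card (G ⧸ R) + 1)).sup N
  have hD2 : IsPGroup 2 (derivedSeries (G ⧸ R) n) := by
    refine IsPGroup.iff_orderOf.2 fun x => ?_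
    refine ⟨(orderOf x).primeFactorsList.length, Nat.eq_prime_pow_of_unique_prime_dvd (orderOf_pos x).ne' ?_⟩
    intro q hq hqd
    by_contra hq2
    haveI : Fact q.Prime := ⟨hq⟩
    have hqd' : q ∣ orderOf (x : G ⧸ R) := by rwa [Subgroup.orderOf_coe]
    have hle : N q ≤ n := Finset.le_sup (Finset.mem_range.2 (Nat.lt_succ_of_le
      (Nat.le_of_dvd Nat.card_pos (hqd'.trans (orderOf_dvd_natCard _)))))
    have := (CfsgLib.Solv.hnpc_mem_iff (hcomp q hq hq2)).1 (hN q hq (derivedSeries_antitone _ hle x.2))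
    exact hq.coprime_iff_not_dvd.1 this.symm hqd'
  haveI : (derivedSeries (G ⧸ R) n).Normal := derivedSeries_normal _ n
  haveI := hD2.isNilpotent
  have hbot : derivedSeries (G ⧸ R) n = ⊥ := le_bot_iff.1 (hrad ▸ CfsgLib.Perm.Kazarin.le_rad inferInstance)
  haveI : Group.IsSolvable (G ⧸ R) := ⟨⟨n, hbot⟩⟩
  exact hns (Group.isSolvable_of_ker_le_range R.subtype f (by rw [QuotientGroup.ker_mk', Subgroup.range_subtype]))

end Cfsg.Agent.S4262
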