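import Cfsg.Statements.S4263
import Cfsg.Agent.Perm.Basic

set_option autoImplicit false
set_option linter.style.haveILetI false
open Cfsg

namespace Cfsg.Agent.S4263

/-- Let G be a finite group. An element x lies in the Fitting subgroup F(G) if and only if, for every subgroup H of G, the power x^[G : H] lies in H. -/
theorem result {G : Type*} [Group G] [Finite G] (x : G) :
    x ∈ Cfsg.fittingSubgroup G ↔ ∀ H : Subgroup G, x ^ H.index ∈ H := by
  classical
  haveI := CfsgLib.Solv.fittingSubgroup_normal G
  set F := Cfsg.fittingSubgroup G with hF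
  haveI hFn : Group.IsNilpotent F := by
    rw [hF, CfsgLib.Solv.fittingSubgroup_eq_iSup_pCore]
    exact CfsgLib.Solv.iSup_pCore_isNilpotent
  constructor
  · intro hx H
    have h := CfsgLib.Perm.pow_index_mem_of_isNilpotent (H.subgroupOf F) (⟨x, hx⟩ : F)
    rw [Subgroup.mem_subgroupOf, SubmonoidClass.coe_pow] at h
    have hd : (H.subgroupOf F).index ∣ H.index := by
      show H.relIndex F ∣ H.index
      rw [← CfsgLib.Perm.relIndex_sup_eq_of_normal]
      exact Subgroup.relIndex_dvd_index_of_le le_sup_left
    obtain ⟨c, hc⟩ := hd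
    rw [hc, pow_mul]
    exact pow_mem h c
  · intro h
    refine CfsgLib.Perm.mem_of_forall_pow_ordCompl_mem fun p hp => ?_
    haveI := Fact.mk hp
    set a := orderOf x / p ^ (orderOf x).factorization p with ha
    have hmem : x ^ a ∈ Cfsg.pCore p G := by
      rw [CfsgLib.Solv.pCore_eq_iInf_sylow, Subgroup.mem_iInf]
      intro P
      have hcop : Nat.Coprime p (P : Subgroup G).index := hp.coprime_iff_not_dvd.2 P.not_dvd_index
      refine CfsgLib.Perm.mem_of_pow_mem_of_coprime (n := (P : Subgroup G).index) ?_ ?_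
      · refine Nat.Coprime.coprime_dvd_left (orderOf_dvd_of_pow_eq_one ?_)
          (hcop.pow_left ((orderOf x).factorization p))
        rw [← pow_mul, ha, Nat.div_mul_cancel (Nat.ordProj_dvd _ _), pow_orderOf_eq_one]
      · rw [← pow_mul, mul_comm, pow_mul]
        exact pow_mem (h _) a
    rw [hF, CfsgLib.Solv.fittingSubgroup_eq_iSup_pCore]
    exact le_iSup (fun q : Nat.Primes => Cfsg.pCore (q : ℕ) G) ⟨p, hp⟩ hmem

end Cfsg.Agent.S4263
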