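import Cfsg.Statements.S4269

import Mathlib

set_option autoImplicit false
set_option linter.style.haveILetI false
open Cfsg

namespace Cfsg.Agent.S4269

open scoped commutatorElement

/-- Let G be a finite group, V an abelian normal subgroup and H a subgroup with HV = G. Then H is pronormal in G (H and gHg⁻¹ are conjugate inside the subgroup they generate, for every g) if and only if every H-invariant subgroup U of V satisfies U = N_U(H)·[H, U], that is, U is the join of U ∩ N_G(H) and the commutator subgroup [H, U]. -/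
theorem result {G : Type*} [Group G] [Finite G]
    (V : Subgroup G) [V.Normal] (hV : IsMulCommutative ↥V) (H : Subgroup G) (hHV : H ⊔ V = ⊤) :
    Cfsg.IsPronormal H ↔
      ∀ U : Subgroup G, U ≤ V → (∀ h ∈ H, U.map (MulAut.conj h).toMonoidHom = U) →
        U = (U ⊓ Subgroup.normalizer (H : Set G)) ⊔ ⁅H, U⁆ := by
  classical
  have hVc : ∀ a ∈ V, ∀ b ∈ V, a * b = b * a := fun a ha b hb => congrArg Subtype.val (hV.is_comm.comm ⟨a, ha⟩ ⟨b, hb⟩)
  have hconj : ∀ (g x : G), x ∈ H.map (MulAut.conj g).toMonoidHom ↔ ∃ h ∈ H, g * h * g⁻¹ = x := fun g x => Iff.rfl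
  have hmapmap : ∀ (a b : G), (H.map (MulAut.conj b).toMonoidHom).map (MulAut.conj a).toMonoidHom = H.map (MulAut.conj (a * b)).toMonoidHom := by
    intro a b
    rw [Subgroup.map_map]
    congr 1
    ext x
    simp
  have hfixN : ∀ n : G, n ∈ Subgroup.normalizer (H : Set G) ↔ H.map (MulAut.conj n).toMonoidHom = H := fun n =>
    Subgroup.mem_normalizer_iff_map_conj_eq
  constructor
  · intro hpro U hUV hU
    have hcU : ⁅H, U⁆ ≤ U := by
      rw [Subgroup.commutator_le]
      intro h hh u hu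
      have : h * u * h⁻¹ ∈ U := by
        rw [← hU h hh]; exact ⟨u, hu, rfl⟩
      exact U.mul_mem this (U.inv_mem hu)
    refine le_antisymm (fun u hu => ?_) (sup_le inf_le_left hcU)
    obtain ⟨x, hx, hxe⟩ := hpro u
    -- the subgroup generated by `H` and `[H,U]`
    have hHN : H ≤ Subgroup.normalizer ((⁅H, U⁆ : Subgroup G) : Set G) := by
      intro h hh
      rw [Subgroup.mem_normalizer_iff_map_conj_eq, Subgroup.map_commutator]
      exact congrArg₂ (fun A B : Subgroup G => ⁅A, B⁆) ((hfixN h).1 (Subgroup.le_normalizer hh)) (hU h hh)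
    have hle : H ⊔ H.map (MulAut.conj u).toMonoidHom ≤ H ⊔ ⁅H, U⁆ := by
      refine sup_le le_sup_left fun y hy => ?_
      obtain ⟨h, hh, rfl⟩ := (hconj u y).1 hy
      rw [show u * h * u⁻¹ = h * ⁅h⁻¹, u⁆ by rw [commutatorElement_def]; group]
      exact Subgroup.mul_mem_sup hh (Subgroup.commutator_mem_commutator (H.inv_mem hh) hu)
    have hx' := hle hx
    rw [← SetLike.mem_coe, Subgroup.coe_mul_of_left_le_normalizer_right H ⁅H, U⁆ hHN] at hx'
    obtain ⟨h, hh, c, hc, rfl⟩ := hx'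
    set u' := h⁻¹ * u * h
    have hu' : u' ∈ U := by
      have : h⁻¹ * u * (h⁻¹)⁻¹ ∈ U := by rw [← hU h⁻¹ (H.inv_mem hh)]; exact ⟨u, hu, rfl⟩
      simpa using this
    have hn : c⁻¹ * u' ∈ Subgroup.normalizer (H : Set G) := by
      have h1 : H.map (MulAut.conj ((h * c)⁻¹ * u)).toMonoidHom = H := by
        rw [← hmapmap, hxe, hmapmap, inv_mul_cancel]
        exact (hfixN 1).1 (one_mem _)
      have h2 : c⁻¹ * u' = ((h * c)⁻¹ * u) * h := by simp only [u']; group
      rw [h2]
      exact Subgroup.mul_mem _ ((hfixN _).2 h1) (Subgroup.le_normalizer hh)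
    have e : u = ⁅h, u'⁆ * (c * (c⁻¹ * u')) := by simp only [u', commutatorElement_def]; group
    rw [e]
    exact Subgroup.mul_mem _ (Subgroup.mem_sup_right (Subgroup.commutator_mem_commutator hh hu'))
      (Subgroup.mul_mem _ (Subgroup.mem_sup_right hc) (Subgroup.mem_sup_left ⟨U.mul_mem (U.inv_mem (hcU hc)) hu', hn⟩))
  · intro hcrit g
    obtain ⟨v, hv, h, hh, rfl⟩ : ∃ v ∈ V, ∃ h ∈ H, g = v * h := by
      have hg : g ∈ ((V ⊔ H : Subgroup G) : Set G) := by rw [sup_comm, hHV]; trivial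
      rw [Subgroup.normal_mul V H] at hg
      obtain ⟨a, ha, b, hb, e⟩ := hg
      exact ⟨a, ha, b, hb, e.symm⟩
    rw [← hmapmap, (hfixN h).1 (Subgroup.le_normalizer hh)]
    set X := H ⊔ H.map (MulAut.conj v).toMonoidHom
    set S : Set G := {y | ∃ h ∈ H, h * v * h⁻¹ = y}
    set W := Subgroup.closure S
    have hWV : W ≤ V := (Subgroup.closure_le _).2 fun y ⟨h, _, e⟩ => e ▸ Subgroup.Normal.conj_mem inferInstance _ hv h
    have hW : ∀ h ∈ H, W.map (MulAut.conj h).toMonoidHom = W := by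
      intro h hh
      rw [MonoidHom.map_closure]
      congr 1
      ext y
      constructor
      · rintro ⟨_, ⟨k, hk, rfl⟩, rfl⟩
        exact ⟨h * k, H.mul_mem hh hk, by show h * k * v * (h * k)⁻¹ = h * (k * v * k⁻¹) * h⁻¹; group⟩
      · rintro ⟨k, hk, rfl⟩
        exact ⟨_, ⟨h⁻¹ * k, H.mul_mem (H.inv_mem hh) hk, rfl⟩, by show h * (h⁻¹ * k * v * (h⁻¹ * k)⁻¹) * h⁻¹ = _; group⟩
    have hcomm : ∀ h ∈ H, ⁅h, v⁆ ∈ X := fun h hh => by
      rw [show ⁅h, v⁆ = h * (v * h⁻¹ * v⁻¹) by rw [commutatorElement_def]; group]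
      exact X.mul_mem (Subgroup.mem_sup_left hh) (Subgroup.mem_sup_right ⟨h⁻¹, H.inv_mem hh, rfl⟩)
    have hcX : ⁅H, W⁆ ≤ X := by
      rw [Subgroup.commutator_le]
      intro h hh w hw
      induction hw using Subgroup.closure_induction with
      | mem y hy =>
        obtain ⟨k, hk, rfl⟩ := hy
        rw [show ⁅h, k * v * k⁻¹⁆ = ⁅h * k, v⁆ * ⁅k, v⁆⁻¹ by simp only [commutatorElement_def]; group]
        exact X.mul_mem (hcomm _ (H.mul_mem hh hk)) (X.inv_mem (hcomm k hk))
      | one => simp [X.one_mem]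
      | mul a b ha hb iha ihb =>
        rw [show ⁅h, a * b⁆ = ⁅h, a⁆ * (a * ⁅h, b⁆ * a⁻¹) by simp only [commutatorElement_def]; group]
        refine X.mul_mem iha ?_
        have hbV : ⁅h, b⁆ ∈ V := by
          rw [commutatorElement_def]
          exact V.mul_mem (Subgroup.Normal.conj_mem inferInstance _ (hWV hb) h) (V.inv_mem (hWV hb))
        rw [hVc a (hWV ha) _ hbV, mul_inv_cancel_right]
        exact ihb
      | inv a ha iha =>
        have haV : ⁅h, a⁆ ∈ V := by
          rw [commutatorElement_def]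
          exact V.mul_mem (Subgroup.Normal.conj_mem inferInstance _ (hWV ha) h) (V.inv_mem (hWV ha))
        rw [show ⁅h, a⁻¹⁆ = a⁻¹ * ⁅h, a⁆⁻¹ * a by simp only [commutatorElement_def]; group,
          hVc _ (V.inv_mem (hWV ha)) _ (V.inv_mem haV), inv_mul_cancel_right]
        exact X.inv_mem iha
    have hvW : v ∈ W := Subgroup.subset_closure ⟨1, H.one_mem, by group⟩
    rw [hcrit W hWV hW] at hvW
    have hcN : W ⊓ Subgroup.normalizer (H : Set G) ≤ Subgroup.normalizer ((⁅H, W⁆ : Subgroup G) : Set G) := by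
      intro n hn
      rw [Subgroup.mem_normalizer_iff_map_conj_eq, Subgroup.map_commutator]
      exact congrArg₂ (fun A B : Subgroup G => ⁅A, B⁆) ((hfixN n).1 hn.2) (Subgroup.mem_normalizer_iff_map_conj_eq.1 (Subgroup.le_normalizer hn.1))
    rw [← SetLike.mem_coe, Subgroup.coe_mul_of_left_le_normalizer_right _ _ hcN] at hvW
    obtain ⟨n, hn, c, hc, e⟩ := hvW
    have hcV : c ∈ V := by
      have : c = n⁻¹ * v := by rw [← e]; group
      rw [this]; exact V.mul_mem (V.inv_mem (hWV hn.1)) hv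
    refine ⟨c, hcX hc, ?_⟩
    rw [← e]
    beta_reduce
    rw [show n * c = c * n from hVc n (hWV hn.1) c hcV, ← hmapmap, (hfixN n).1 hn.2]

end Cfsg.Agent.S4269
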