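import Mathlib
-- Template for statement S4270 (row 4270; see /opt/grader/pristine/manifest.json for weights).
-- Copy to Cfsg/Agent/S4270.lean and replace the sorry. The statement below is byte-identical to the frozen
-- statement Cfsg.CfsgFrozen.S4270 (Cfsg/Statements/S4270.lean; the theorem Cfsg.kfact10_pronormal_sylow_overgroups_extension_criterion);
-- the grader kernel-checks Cfsg.Agent.S4270.result against that frozen type. Keep the theorem IN THIS FILE
-- (a `result` declared elsewhere and merely imported here is not credited); helpers may live anywhere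
-- under Cfsg/Agent/.
import Cfsg.Statements.S4270
import Cfsg.Agent.Perm.PronormalSylow


set_option autoImplicit false
open Cfsg

namespace Cfsg.Agent.S4270
open CfsgLib.Perm.PronormalSylow

/-- Let p be a prime and G a finite group with a normal subgroup A such that, both in A and in G/A, every subgroup containing a Sylow p-subgroup of that group is pronormal in that group. Let T be a Sylow p-subgroup of A. Then every subgroup of G containing a Sylow p-subgroup of G is pronormal in G if and only if (i) every subgroup of N_G(T)/T containing a Sylow p-subgroup of N_G(T)/T is pronormal there, and (ii) for every subgroup H of G containing a Sylow p-subgroup of G, the image of N_G(H) in G/A is the full normalizer of the image of H. (Pronormal: H and gHg⁻¹ are conjugate inside the subgroup they generate, for every g.) -/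
theorem result {G : Type*} [Group G] [Finite G] {p : ℕ} [Fact p.Prime]
    (A : Subgroup G) [A.Normal] (hA : (∀ K : Subgroup ↥A, (∃ P : Sylow p ↥A, (P : Subgroup ↥A) ≤ K) → Cfsg.IsPronormal K)) (hQ : (∀ K : Subgroup (G ⧸ A), (∃ P : Sylow p (G ⧸ A), (P : Subgroup (G ⧸ A)) ≤ K) → Cfsg.IsPronormal K))
    (T : Subgroup G) (hT : ∃ P : Sylow p ↥A, (P : Subgroup ↥A).map A.subtype = T) [(T.subgroupOf (Subgroup.normalizer (T : Set G))).Normal] :
    (∀ K : Subgroup G, (∃ P : Sylow p G, (P : Subgroup G) ≤ K) → Cfsg.IsPronormal K) ↔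
      ((∀ K : Subgroup (↥(Subgroup.normalizer (T : Set G)) ⧸ T.subgroupOf (Subgroup.normalizer (T : Set G))), (∃ P : Sylow p (↥(Subgroup.normalizer (T : Set G)) ⧸ T.subgroupOf (Subgroup.normalizer (T : Set G))), (P : Subgroup (↥(Subgroup.normalizer (T : Set G)) ⧸ T.subgroupOf (Subgroup.normalizer (T : Set G)))) ≤ K) → Cfsg.IsPronormal K) ∧
        ∀ K : Subgroup G, (∃ P : Sylow p G, (P : Subgroup G) ≤ K) →
          (Subgroup.normalizer (K : Set G)).map (QuotientGroup.mk' A) = Subgroup.normalizer ((K.map (QuotientGroup.mk' A) : Subgroup (G ⧸ A)) : Set (G ⧸ A))) := by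
  obtain ⟨hTA, hTp, hTi⟩ := sylow_data hT
  constructor
  · exact fun h => ⟨pronormal_normalizer_quotient (sylow_over hTA hTp hTi) h,
      fun K hK => map_normalizer_eq (h K hK)⟩
  · rintro ⟨hN, hlift⟩ K hK
    obtain ⟨a, haT, haP⟩ := exists_conj_over hTA hTp hTi hK
    suffices h : Cfsg.IsPronormal (cj a K) by
      have h1 := pronormal_cj h a⁻¹
      rwa [cj_cj, inv_mul_cancel, cj_one] at h1
    refine pronormal_of hA hTA hTp hTi hN haP haT fun g _ hg' => ?_
    set L := cj a K
    -- the image of `g` normalises the image of `L`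
    have hmem : QuotientGroup.mk' A g ∈
        Subgroup.normalizer ((L.map (QuotientGroup.mk' A) : Subgroup (G ⧸ A)) : Set (G ⧸ A)) := by
      have hLA : L ≤ (L ⊓ Subgroup.normalizer (T : Set G)) ⊔ A := by
        intro k hk
        obtain ⟨l, hl, hle⟩ := conj_in (A := A) (Y := L ⊓ A) (T' := cj k T) inf_le_right hTp hTi
          (le_inf haT hTA) (le_inf (cj_le hk haT) (fun y hy => by
            simpa [mul_assoc] using ‹A.Normal›.conj_mem _ (hTA (mem_cj.1 hy)) k)) (card_cj k T)
        rw [show k = l * (l⁻¹ * k) by group]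
        exact mul_mem (Subgroup.mem_sup_right hl.2) (Subgroup.mem_sup_left ⟨L.mul_mem (L.inv_mem hl.1) hk,
          mem_normalizer_of_cj (by rw [← cj_cj, ← hle, cj_cj, inv_mul_cancel, cj_one])⟩)
      have heq : L.map (QuotientGroup.mk' A) = (L ⊓ Subgroup.normalizer (T : Set G)).map (QuotientGroup.mk' A) := by
        refine le_antisymm ((Subgroup.map_mono hLA).trans ?_) (Subgroup.map_mono inf_le_left)
        rw [Subgroup.map_sup, (A.map_eq_bot_iff).2 (QuotientGroup.ker_mk' A).ge, sup_bot_eq]
      rw [heq]
      exact Subgroup.le_normalizer_map _ ⟨g, mem_normalizer_of_cj hg', rfl⟩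
    rw [← hlift L haP] at hmem
    obtain ⟨n, hn, hne⟩ := hmem
    refine ⟨g * n⁻¹, ?_, ?_⟩
    · rw [← QuotientGroup.eq_one_iff]
      have h1 : QuotientGroup.mk' A (g * n⁻¹) = 1 := by rw [map_mul, map_inv, ← hne, mul_inv_cancel]
      exact h1
    · conv_rhs => rw [← cj_cj, cj_eq_self (Subgroup.inv_mem _ hn)]

end Cfsg.Agent.S4270
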