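import Mathlib
-- Template for statement S4271 (row 4271; see /opt/grader/pristine/manifest.json for weights).
-- Copy to Cfsg/Agent/S4271.lean and replace the sorry. The statement below is byte-identical to the frozen
-- statement Cfsg.CfsgFrozen.S4271 (Cfsg/Statements/S4271.lean; the theorem Cfsg.kfact10_pronormal_sylow_overgroups_extension_criterion_self_normalizing_quotient);
-- the grader kernel-checks Cfsg.Agent.S4271.result against that frozen type. Keep the theorem IN THIS FILE
-- (a `result` declared elsewhere and merely imported here is not credited); helpers may live anywhere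
-- under Cfsg/Agent/.
import Cfsg.Statements.S4271
import Cfsg.Agent.Perm.PronormalSylow


set_option autoImplicit false
open Cfsg

namespace Cfsg.Agent.S4271
open CfsgLib.Perm.PronormalSylow

/-- Let p be a prime and G a finite group with a normal subgroup A such that every subgroup of A containing a Sylow p-subgroup of A is pronormal in A, and the Sylow p-subgroups of G/A are self-normalizing. Let T be a Sylow p-subgroup of A. Then every subgroup of G containing a Sylow p-subgroup of G is pronormal in G if and only if every subgroup of N_G(T)/T containing a Sylow p-subgroup of N_G(T)/T is pronormal in N_G(T)/T. (Pronormal: H and gHg⁻¹ are conjugate inside the subgroup they generate, for every g.) -/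
theorem result {G : Type*} [Group G] [Finite G] {p : ℕ} [Fact p.Prime]
    (A : Subgroup G) [A.Normal] (hA : (∀ K : Subgroup ↥A, (∃ P : Sylow p ↥A, (P : Subgroup ↥A) ≤ K) → Cfsg.IsPronormal K))
    (hQ : ∀ P : Sylow p (G ⧸ A), Subgroup.normalizer ((P : Subgroup (G ⧸ A)) : Set (G ⧸ A)) = P)
    (T : Subgroup G) (hT : ∃ P : Sylow p ↥A, (P : Subgroup ↥A).map A.subtype = T) [(T.subgroupOf (Subgroup.normalizer (T : Set G))).Normal] :
    (∀ K : Subgroup G, (∃ P : Sylow p G, (P : Subgroup G) ≤ K) → Cfsg.IsPronormal K) ↔ (∀ K : Subgroup (↥(Subgroup.normalizer (T : Set G)) ⧸ T.subgroupOf (Subgroup.normalizer (T : Set G))), (∃ P : Sylow p (↥(Subgroup.normalizer (T : Set G)) ⧸ T.subgroupOf (Subgroup.normalizer (T : Set G))), (P : Subgroup (↥(Subgroup.normalizer (T : Set G)) ⧸ T.subgroupOf (Subgroup.normalizer (T : Set G)))) ≤ K) → Cfsg.IsPronormal K) := by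
  obtain ⟨hTA, hTp, hTi⟩ := sylow_data hT
  constructor
  · exact pronormal_normalizer_quotient (sylow_over hTA hTp hTi)
  · intro hN K hK
    obtain ⟨a, haT, P, haP⟩ := exists_conj_over hTA hTp hTi hK
    suffices h : Cfsg.IsPronormal (cj a K) by
      have h1 := pronormal_cj h a⁻¹
      rwa [cj_cj, inv_mul_cancel, cj_one] at h1
    refine pronormal_of hA hTA hTp hTi hN ⟨P, haP⟩ haT fun g _ hg' => ?_
    set L := cj a K
    have hLA : L ≤ (L ⊓ Subgroup.normalizer (T : Set G)) ⊔ A := by
      intro k hk
      obtain ⟨l, hl, hle⟩ := conj_in (A := A) (Y := L ⊓ A) (T' := cj k T) inf_le_right hTp hTi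
        (le_inf haT hTA) (le_inf (cj_le hk haT) (fun y hy => by
          simpa [mul_assoc] using ‹A.Normal›.conj_mem _ (hTA (mem_cj.1 hy)) k)) (card_cj k T)
      rw [show k = l * (l⁻¹ * k) by group]
      exact mul_mem (Subgroup.mem_sup_right hl.2) (Subgroup.mem_sup_left ⟨L.mul_mem (L.inv_mem hl.1) hk,
        mem_normalizer_of_cj (by rw [← cj_cj, ← hle, cj_cj, inv_mul_cancel, cj_one])⟩)
    set π := QuotientGroup.mk' A
    have hπ : Function.Surjective π := QuotientGroup.mk'_surjective A
    have heq : L.map π = (L ⊓ Subgroup.normalizer (T : Set G)).map π := by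
      refine le_antisymm ((Subgroup.map_mono hLA).trans ?_) (Subgroup.map_mono inf_le_left)
      rw [Subgroup.map_sup, (A.map_eq_bot_iff).2 (QuotientGroup.ker_mk' A).ge, sup_bot_eq]
    have hmem : π g ∈ Subgroup.normalizer ((L.map π : Subgroup (G ⧸ A)) : Set (G ⧸ A)) := by
      rw [heq]
      exact Subgroup.le_normalizer_map _ ⟨g, mem_normalizer_of_cj hg', rfl⟩
    -- the image of `L` is self-normalising
    let Q := P.mapSurjective hπ
    have hQL : (Q : Subgroup (G ⧸ A)) ≤ L.map π := Subgroup.map_mono haP
    set M := L.map π with hMdef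
    have hgQ : cj (π g) (Q : Subgroup (G ⧸ A)) ≤ M := (Subgroup.map_mono hQL).trans (cj_eq_self hmem).le
    obtain ⟨y, hy, hye⟩ := conj_in (A := ⊤) (Y := M) (T' := cj (π g) (Q : Subgroup (G ⧸ A))) le_top
      Q.isPGroup' (by rw [Subgroup.relIndex_top_right]; exact Q.not_dvd_index) hQL hgQ (card_cj _ _)
    have h1 : y⁻¹ * π g ∈ (Q : Subgroup (G ⧸ A)) := by
      rw [← hQ Q]
      exact mem_normalizer_of_cj (by rw [← cj_cj, ← hye, cj_cj, inv_mul_cancel, cj_one])
    have h2 : π g ∈ M := by
      have := M.mul_mem hy (hQL h1)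
      rwa [mul_inv_cancel_left] at this
    obtain ⟨k, hk, hkg⟩ := h2
    refine ⟨g * k⁻¹, ?_, ?_⟩
    · rw [← QuotientGroup.eq_one_iff]
      have h3 : π (g * k⁻¹) = 1 := by rw [map_mul, map_inv, hkg, mul_inv_cancel]
      exact h3
    · conv_rhs => rw [← cj_cj, cj_eq_self (Subgroup.le_normalizer (L.inv_mem hk))]

end Cfsg.Agent.S4271
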