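import Cfsg.Statements.S4275


set_option autoImplicit false
set_option linter.style.haveILetI false
open Cfsg

namespace Cfsg.Agent.S4275

/-- Let G be a transitive group of permutations of a finite set Ω, let o ∈ Ω, and let α be an automorphism of G. Then α is induced by conjugation by a permutation of Ω normalizing G if and only if the image under α of the stabilizer of o fixes some point of Ω. -/
theorem result {Ω : Type*} [Fintype Ω] (G : Subgroup (Equiv.Perm Ω)) (htr : MulAction.IsPretransitive G Ω) (o : Ω) (α : G ≃* G) : (∃ σ : Equiv.Perm Ω, σ ∈ Subgroup.normalizer (G : Set (Equiv.Perm Ω)) ∧ ∀ g : G, ((α g : G) : Equiv.Perm Ω) = σ * (g : Equiv.Perm Ω) * σ⁻¹) ↔ ∃ ω : Ω, ∀ g ∈ (MulAction.stabilizer G o).map α.toMonoidHom, g • ω = ω := by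
  haveI := htr
  constructor
  · rintro ⟨σ, hσ, hα⟩
    refine ⟨σ o, ?_⟩
    rintro _ ⟨g, hg, rfl⟩
    show ((α g : G) : Equiv.Perm Ω) (σ o) = σ o
    rw [hα]
    simp only [Equiv.Perm.mul_apply, Equiv.Perm.inv_def, Equiv.symm_apply_apply]
    exact congrArg σ hg
  · rintro ⟨ω, hω⟩
    have hsurj : Function.Surjective fun g : G => g • o := fun y => MulAction.exists_smul_eq G o y
    let f : Ω → Ω := fun y => α (Function.surjInv hsurj y) • ω
    have hf : ∀ g : G, f (g • o) = α g • ω := by
      intro g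
      show α (Function.surjInv hsurj (g • o)) • ω = α g • ω
      set g' := Function.surjInv hsurj (g • o) with hg'
      have h1 : g' • o = g • o := Function.surjInv_eq hsurj (g • o)
      have h2 : g⁻¹ * g' ∈ MulAction.stabilizer G o := by
        rw [MulAction.mem_stabilizer_iff, mul_smul, h1, inv_smul_smul]
      have h3 := hω _ ⟨_, h2, rfl⟩
      change α (g⁻¹ * g') • ω = ω at h3
      rw [map_mul, map_inv, mul_smul, inv_smul_eq_iff] at h3
      exact h3
    have hfs : Function.Surjective f := by
      intro y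
      obtain ⟨g, rfl⟩ := MulAction.exists_smul_eq G ω y
      exact ⟨α.symm g • o, by rw [hf, MulEquiv.apply_symm_apply]⟩
    let σ : Equiv.Perm Ω := Equiv.ofBijective f ⟨Finite.injective_iff_surjective.2 hfs, hfs⟩
    have hσ : ∀ g : G, ((α g : G) : Equiv.Perm Ω) = σ * (g : Equiv.Perm Ω) * σ⁻¹ := by
      intro g
      rw [eq_mul_inv_iff_mul_eq]
      refine Equiv.ext fun y => ?_
      obtain ⟨k, rfl⟩ := MulAction.exists_smul_eq G o y
      show α g • f (k • o) = f (g • k • o)
      rw [hf, ← mul_smul g, hf, map_mul, mul_smul]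
    refine ⟨σ, Subgroup.mem_normalizer_iff.2 fun x => ⟨fun hx => ?_, fun hx => ?_⟩, hσ⟩
    · rw [← hσ ⟨x, hx⟩]; exact SetLike.coe_mem _
    · obtain ⟨g, hg⟩ := α.surjective ⟨_, hx⟩
      have h1 := hσ g
      rw [hg] at h1
      have h2 : x = (g : Equiv.Perm Ω) := mul_left_cancel (mul_right_cancel h1)
      rw [h2]
      exact g.2

end Cfsg.Agent.S4275
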