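import Cfsg.Statements.S4283

import Cfsg.Agent.Solv.FrobeniusFpf

set_option autoImplicit false
set_option linter.style.haveILetI false
open Cfsg

namespace Cfsg.Agent.S4283

/-- Let G be a finite group with centre Z and let K, H be abelian subgroups of G containing Z such that G/Z is a Frobenius group with complement H/Z and kernel K/Z. Then the conjugacy class sizes of G are exactly 1, [G : K] and [G : H], and these two indices are coprime. (This is the converse half of the characterization of finite groups whose conjugacy class sizes are exactly 1, m and n with m and n coprime.) -/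
theorem result {G : Type*} [Group G] [Finite G] (K H : Subgroup G) (hZK : Subgroup.center G ≤ K) (hZH : Subgroup.center G ≤ H) (hK : IsMulCommutative K) (hH : IsMulCommutative H) (hFrob : Cfsg.IsFrobeniusComplement (H.map (QuotientGroup.mk' (Subgroup.center G)))) (hker : Cfsg.frobeniusKernel (H.map (QuotientGroup.mk' (Subgroup.center G))) = (K.map (QuotientGroup.mk' (Subgroup.center G)) : Set (G ⧸ Subgroup.center G))) : Set.range (fun x : G => (Subgroup.centralizer ({x} : Set G)).index) = ({1, K.index, H.index} : Set ℕ) ∧ K.index.Coprime H.index := by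
  classical
  set π := QuotientGroup.mk' (Subgroup.center G)
  have hπ : Function.Surjective π := QuotientGroup.mk'_surjective _
  obtain ⟨N, hN, hNn, hc⟩ := CfsgLib.Solv.frobenius_theorem hFrob
  have hNK : N = K.map π := SetLike.coe_injective (hN.trans hker)
  rw [hNK] at hc hNn
  haveI := hNn
  have hcomapK : ∀ g : G, π g ∈ K.map π → g ∈ K := by
    intro g hg
    rw [← Subgroup.mem_comap, Subgroup.comap_map_eq, QuotientGroup.ker_mk', sup_eq_left.2 hZK] at hg
    exact hg
  have hcomapH : ∀ g : G, π g ∈ H.map π → g ∈ H := by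
    intro g hg
    rw [← Subgroup.mem_comap, Subgroup.comap_map_eq, QuotientGroup.ker_mk', sup_eq_left.2 hZH] at hg
    exact hg
  have hone : ∀ x : G, π x = 1 → x ∈ Subgroup.center G := fun x h => (QuotientGroup.eq_one_iff x).1 h
  have houtside : ∀ g : G, g ∉ K → ∃ c : G, ∃ h ∈ H, h ∉ Subgroup.center G ∧ g = c * h * c⁻¹ := by
    intro g hg
    have h1 : π g ∉ Cfsg.frobeniusKernel (H.map π) := by rw [hker]; exact fun h => hg (hcomapK g h)
    rw [CfsgLib.Solv.mem_frobeniusKernel_iff] at h1
    push Not at h1
    obtain ⟨h0, c', hc'⟩ := h1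
    obtain ⟨c, rfl⟩ := hπ c'
    refine ⟨c, c⁻¹ * g * c, hcomapH _ (by rw [map_mul, map_mul, map_inv]; exact hc'), fun hz => ?_, by group⟩
    apply h0
    rw [show g = c * (c⁻¹ * g * c) * c⁻¹ by group, map_mul, map_mul, show π (c⁻¹ * g * c) = 1 from (QuotientGroup.eq_one_iff _).2 hz, mul_one, map_inv, mul_inv_cancel]
  have hH' : ∀ h ∈ H, h ∉ Subgroup.center G → Subgroup.centralizer ({h} : Set G) = H := by
    intro h hh hz
    refine le_antisymm (fun g hg => hcomapH g ?_) fun g hg => Subgroup.mem_centralizer_singleton_iff.2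
      (congrArg Subtype.val (hH.is_comm.comm ⟨g, hg⟩ ⟨h, hh⟩))
    have e := Subgroup.mem_centralizer_singleton_iff.1 hg
    refine CfsgLib.Solv.frobenius_mem_of_conj_mem hFrob (Subgroup.mem_map_of_mem π hh) ?_ fun h1 => hz (hone h h1)
    rw [← map_mul, e, map_mul, mul_inv_cancel_right]
    exact Subgroup.mem_map_of_mem π hh
  have hK' : ∀ x ∈ K, x ∉ Subgroup.center G → Subgroup.centralizer ({x} : Set G) = K := by
    intro x hx hz
    refine le_antisymm (fun g hg => ?_) fun g hg => Subgroup.mem_centralizer_singleton_iff.2
      (congrArg Subtype.val (hK.is_comm.comm ⟨g, hg⟩ ⟨x, hx⟩))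
    by_contra hgK
    obtain ⟨c, h, hh, hhz, e⟩ := houtside g hgK
    have hfix := CfsgLib.Solv.fpf_of_frobenius hFrob hc.disjoint.eq_bot (Subgroup.mem_map_of_mem π hh) fun h1 => hhz (hone h h1)
    have hmem : π (c⁻¹ * x * c) ∈ K.map π ⊓ Subgroup.centralizer {π h} := by
      refine ⟨?_, ?_⟩
      · rw [map_mul, map_mul, map_inv]
        simpa using hNn.conj_mem _ (Subgroup.mem_map_of_mem π hx) (π c)⁻¹
      · refine Subgroup.mem_centralizer_singleton_iff.2 ?_
        rw [← map_mul, ← map_mul]
        congr 1
        have e2 := Subgroup.mem_centralizer_singleton_iff.1 hg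
        rw [e] at e2
        calc c⁻¹ * x * c * h = c⁻¹ * (x * (c * h * c⁻¹)) * c := by group
          _ = c⁻¹ * (c * h * c⁻¹ * x) * c := by rw [e2]
          _ = h * (c⁻¹ * x * c) := by group
    rw [hfix, Subgroup.mem_bot] at hmem
    exact hz (by
      have h2 : π x = 1 := by
        rw [map_mul, map_mul, map_inv] at hmem
        have := congrArg (fun t => π c * t * (π c)⁻¹) hmem
        simpa [mul_assoc] using this
      exact hone x h2)
  have hidxK : K.index = (K.map π).index := (Subgroup.index_map_eq _ hπ (by rw [QuotientGroup.ker_mk']; exact hZK)).symm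
  have hidxH : H.index = (H.map π).index := (Subgroup.index_map_eq _ hπ (by rw [QuotientGroup.ker_mk']; exact hZH)).symm
  constructor
  · ext k
    constructor
    · rintro ⟨x, rfl⟩
      show _ ∈ ({1, K.index, H.index} : Set ℕ)
      by_cases hz : x ∈ Subgroup.center G
      · left
        rw [Subgroup.index_eq_one, eq_top_iff]
        exact fun g _ => Subgroup.mem_centralizer_singleton_iff.2 (Subgroup.mem_center_iff.1 hz g)
      by_cases hxK : x ∈ K
      · exact Or.inr (Or.inl (show (Subgroup.centralizer ({x} : Set G)).index = K.index by rw [hK' x hxK hz]))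
      · obtain ⟨c, h, hh, hhz, rfl⟩ := houtside x hxK
        refine Or.inr (Or.inr ?_)
        have : Subgroup.centralizer ({c * h * c⁻¹} : Set G) = (Subgroup.centralizer ({h} : Set G)).map (MulAut.conj c).toMonoidHom := by
          ext y
          rw [Subgroup.mem_map_equiv, Subgroup.mem_centralizer_singleton_iff, Subgroup.mem_centralizer_singleton_iff, MulAut.conj_symm_apply]
          constructor
          · intro e
            calc c⁻¹ * y * c * h = c⁻¹ * (y * (c * h * c⁻¹)) * c := by group
              _ = _ := by rw [e]; group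
          · intro e
            calc y * (c * h * c⁻¹) = c * (c⁻¹ * y * c * h) * c⁻¹ := by group
              _ = _ := by rw [e]; group
        show (Subgroup.centralizer ({c * h * c⁻¹} : Set G)).index = H.index
        rw [this, hH' h hh hhz]
        exact Subgroup.index_map_equiv H (MulAut.conj c)
    · have hz : ∀ A : Subgroup G, A.map π ≠ ⊥ → ∃ x ∈ A, x ∉ Subgroup.center G := by
        intro A hA
        by_contra h
        push Not at h
        refine hA ((Subgroup.map_eq_bot_iff A).2 fun a ha => ?_)
        exact (QuotientGroup.eq_one_iff a).2 (h a ha)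
      rintro (rfl | rfl | rfl)
      · exact ⟨1, Subgroup.index_eq_one.2 (eq_top_iff.2 fun g _ => Subgroup.mem_centralizer_singleton_iff.2 (by simp))⟩
      · obtain ⟨x, hx, hxz⟩ := hz K fun h => by
          rw [h] at hc
          exact hFrob.2.1 (Subgroup.isComplement'_bot_left.1 hc)
        exact ⟨x, by show (Subgroup.centralizer ({x} : Set G)).index = _; rw [hK' x hx hxz]⟩
      · obtain ⟨x, hx, hxz⟩ := hz H hFrob.1
        exact ⟨x, by show (Subgroup.centralizer ({x} : Set G)).index = _; rw [hH' x hx hxz]⟩
  · rw [hidxK, hidxH, hc.symm.index_eq_card]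
    exact CfsgLib.Solv.frobenius_coprime hFrob

end Cfsg.Agent.S4283
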