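import Mathlib
-- Template for statement S4290 (row 4290; see /opt/grader/pristine/manifest.json for weights).
-- Copy to Cfsg/Agent/S4290.lean and replace the sorry. The statement below is byte-identical to the frozen
-- statement Cfsg.CfsgFrozen.S4290 (Cfsg/Statements/S4290.lean; the theorem Cfsg.fg15_doubly_transitive_hall_stabilizer_odd_order_automorphisms_permutational);
-- the grader kernel-checks Cfsg.Agent.S4290.result against that frozen type. Keep the theorem IN THIS FILE
-- (a `result` declared elsewhere and merely imported here is not credited); helpers may live anywhere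
-- under Cfsg/Agent/.
import Cfsg.Statements.S4290
import Cfsg.Agent.Perm.TwistedOrbit
-- import your own Cfsg.Agent.* helpers here

set_option autoImplicit false
open Cfsg

namespace Cfsg.Agent.S4290

/-- Let G be a doubly transitive group of permutations of a finite set Ω in which a point stabilizer is a Hall subgroup of G (its order is coprime to its index). Then every automorphism of G of odd order is induced by conjugation by a permutation of Ω normalizing G. -/
theorem result {Ω : Type*} [Fintype Ω] (G : Subgroup (Equiv.Perm Ω)) (h2 : MulAction.IsMultiplyPretransitive G Ω 2) (o : Ω) (hHall : (Nat.card (MulAction.stabilizer G o)).Coprime (MulAction.stabilizer G o).index) (α : MulAut G) (hα : Odd (orderOf α)) : ∃ σ : Equiv.Perm Ω, σ ∈ Subgroup.normalizer (G : Set (Equiv.Perm Ω)) ∧ ∀ g : G, ((α g : G) : Equiv.Perm Ω) = σ * (g : Equiv.Perm Ω) * σ⁻¹ := by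
  classical
  haveI : MulAction.IsPretransitive G Ω := MulAction.isPretransitive_of_is_two_pretransitive (h2 := h2)
  refine (CfsgLib.Perm.TwistedOrbit.exists_fixed_image G h2 o o α hα ?_).1
  rw [MulAction.index_stabilizer_of_transitive] at hHall
  rw [← Nat.card_eq_fintype_card]
  refine Nat.Coprime.coprime_dvd_left ?_ hHall
  rw [Nat.card_coe_set_eq, ← MulAction.index_stabilizer]
  refine (Subgroup.index_dvd_card _).trans (dvd_of_eq ?_)
  exact (Nat.card_congr ((MulAction.stabilizer G o).equivMapOfInjective α.toMonoidHom α.injective).toEquiv).symm

end Cfsg.Agent.S4290
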