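import Cfsg.Statements.S4292

import Mathlib
import Cfsg.Agent.Perm.FpfComplement

set_option autoImplicit false
set_option linter.style.haveILetI false
open Cfsg

namespace Cfsg.Agent.S4292
open CfsgLib.Perm Finset

theorem false_of_pair {A : Type*} [Group A] {q : ℕ} [Fact q.Prime] (hA : Fpf.HasFun A ℚ) {a b : A}
    (hab : Commute a b) (ha : ∀ k : ℕ, orderOf (a * b ^ k) = q) (hb : orderOf b = q) : False := by
  obtain ⟨f, hf, hs⟩ := hA
  refine hf (funext fun g => ?_)
  have hq : q.Prime := Fact.out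
  have h1 : ∀ k g, ∑ i ∈ range q, f (a ^ i * (b ^ (k * i) * g)) = 0 := by
    intro k g
    have := hs (a * b ^ k) (by rw [ha]; exact hq) g
    rw [ha] at this
    simpa only [(hab.pow_right k).mul_pow, ← pow_mul, mul_assoc] using this
  have h2 : ∀ g, ∑ j ∈ range q, f (b ^ j * g) = 0 := by
    intro g
    have := hs b (by rw [hb]; exact hq) g
    rwa [hb] at this
  have hper : ∀ k : ℕ, b ^ k = b ^ (k % q) := fun k => by
    rw [← hb, pow_mod_orderOf]
  -- sum over all subgroups of order `q` in `⟨a, b⟩`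
  have h3 : ∑ k ∈ range q, ∑ i ∈ range q, f (a ^ i * (b ^ (k * i) * g)) = 0 := Finset.sum_eq_zero fun k _ => h1 k g
  rw [Finset.sum_comm] at h3
  have h4 : ∀ i ∈ range q, i ≠ 0 → ∑ k ∈ range q, f (a ^ i * (b ^ (k * i) * g)) = ∑ j ∈ range q, f (a ^ i * (b ^ j * g)) := by
    intro i hi hi0
    have hinj : Set.InjOn (fun k => k * i % q) (range q : Set ℕ) := by
      intro k hk k' hk' e
      have h5 : ((k : ZMod q)) * i = (k' : ZMod q) * i := by
        have := (ZMod.natCast_eq_natCast_iff' (k * i) (k' * i) q).2 e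
        push_cast at this
        exact this
      have hine : (i : ZMod q) ≠ 0 := by
        rw [Ne, ZMod.natCast_eq_zero_iff]
        exact fun h => absurd (Nat.le_of_dvd (Nat.pos_of_ne_zero hi0) h) (not_le.2 (Finset.mem_range.1 hi))
      have h6 := (ZMod.natCast_eq_natCast_iff' k k' q).1 (mul_right_cancel₀ hine h5)
      rwa [Nat.mod_eq_of_lt (Finset.mem_range.1 hk), Nat.mod_eq_of_lt (Finset.mem_range.1 hk')] at h6
    have himg : (range q).image (fun k => k * i % q) = range q := by
      refine Finset.eq_of_subset_of_card_le (fun x hx => ?_) ?_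
      · obtain ⟨k, -, rfl⟩ := Finset.mem_image.1 hx
        exact Finset.mem_range.2 (Nat.mod_lt _ hq.pos)
      · rw [Finset.card_image_of_injOn hinj]
    conv_rhs => rw [← himg]
    rw [Finset.sum_image hinj]
    exact Finset.sum_congr rfl fun k _ => by rw [hper (k * i)]
  have h5 : ∑ i ∈ range q, ∑ j ∈ range q, f (a ^ i * (b ^ j * g)) = 0 := by
    rw [Finset.sum_comm]
    refine Finset.sum_eq_zero fun j _ => ?_
    simpa using h1 0 (b ^ j * g)
  have h0 : (0 : ℕ) ∈ range q := Finset.mem_range.2 hq.pos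
  rw [← Finset.add_sum_erase _ _ h0, Finset.sum_congr rfl (fun i hi =>
    h4 i (Finset.mem_erase.1 hi).2 (Finset.mem_erase.1 hi).1)] at h3
  rw [← Finset.add_sum_erase _ _ h0] at h5
  simp only [pow_zero, one_mul, mul_zero, Finset.sum_const, Finset.card_range, nsmul_eq_mul, h2, zero_add] at h3 h5
  rw [h5, add_zero] at h3
  exact (mul_eq_zero.1 h3).resolve_left (Nat.cast_ne_zero.2 hq.ne_zero)

/-- Let A and B be nontrivial finite groups. Then the direct product A × B occurs as a Frobenius complement if and only if A and B both occur as Frobenius complements and the orders of A and B are coprime. -/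
theorem result {A B : Type*} [Group A] [Finite A] [Nontrivial A] [Group B] [Finite B] [Nontrivial B] :
    (∃ (L : Type) (_ : Group L) (_ : Finite L) (H : Subgroup L), Cfsg.IsFrobeniusComplement H ∧ Nonempty ((A × B) ≃* H)) ↔
    ((∃ (L : Type) (_ : Group L) (_ : Finite L) (H : Subgroup L), Cfsg.IsFrobeniusComplement H ∧ Nonempty (A ≃* H)) ∧
     (∃ (L : Type) (_ : Group L) (_ : Finite L) (H : Subgroup L), Cfsg.IsFrobeniusComplement H ∧ Nonempty (B ≃* H)) ∧
     (Nat.card A).Coprime (Nat.card B)) := by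
  classical
  constructor
  · rintro ⟨L, iL, fL, H, hH, ⟨e⟩⟩
    have hf : Fpf.HasFun (A × B) ℚ := Fpf.hasFun_of_injective e.toMonoidHom e.injective (Fpf.hasFun_of_complement hH)
    refine ⟨Fpf.complement_of_rat (Fpf.hasFun_of_injective (MonoidHom.inl A B) (fun a b h => congrArg Prod.fst h) hf),
      Fpf.complement_of_rat (Fpf.hasFun_of_injective (MonoidHom.inr A B) (fun a b h => congrArg Prod.snd h) hf), ?_⟩
    refine Nat.coprime_of_dvd fun q hq h1 h2 => ?_
    haveI : Fact q.Prime := ⟨hq⟩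
    obtain ⟨a, ha⟩ := exists_prime_orderOf_dvd_card' q h1
    obtain ⟨b, hb⟩ := exists_prime_orderOf_dvd_card' q h2
    refine false_of_pair hf (q := q) (a := (a, 1)) (b := (1, b)) ?_ (fun k => orderOf_eq_prime ?_ fun h => ?_) ?_
    · exact Prod.ext (by simp) (by simp)
    · refine Prod.ext ?_ ?_
      · simp [← ha, pow_orderOf_eq_one]
      · simp only [Prod.pow_snd, Prod.snd_mul, Prod.snd_one, one_mul]
        rw [← pow_mul, mul_comm k, pow_mul, ← hb, pow_orderOf_eq_one, one_pow]
    · have := congrArg Prod.fst h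
      simp only [Prod.fst_mul, Prod.pow_fst, one_pow, mul_one, Prod.fst_one] at this
      exact hq.ne_one (by rw [← ha, this, orderOf_one])
    · rw [← hb]
      exact orderOf_injective (MonoidHom.inr A B) (fun a b h => congrArg Prod.snd h) b
  · rintro ⟨⟨LA, iA, fA, HA, hHA, ⟨eA⟩⟩, ⟨LB, iB, fB, HB, hHB, ⟨eB⟩⟩, hcop⟩
    obtain ⟨f, hf, hfs⟩ := Fpf.hasFun_of_injective eA.toMonoidHom eA.injective (Fpf.hasFun_of_complement hHA)
    obtain ⟨g, hg, hgs⟩ := Fpf.hasFun_of_injective eB.toMonoidHom eB.injective (Fpf.hasFun_of_complement hHB)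
    obtain ⟨a₀, ha₀⟩ := Function.ne_iff.1 hf
    obtain ⟨b₀, hb₀⟩ := Function.ne_iff.1 hg
    refine Fpf.complement_of_rat ⟨fun x => f x.1 * g x.2, fun e => mul_ne_zero ha₀ hb₀ (congrFun e (a₀, b₀)), ?_⟩
    rintro ⟨a, b⟩ hh ⟨x, y⟩
    simp only [Prod.pow_mk, Prod.mk_mul_mk]
    have hlcm : orderOf (a, b) = Nat.lcm (orderOf a) (orderOf b) := Prod.orderOf _
    rcases (Nat.dvd_prime hh).1 (hlcm ▸ Nat.dvd_lcm_left (orderOf a) (orderOf b)) with ha | ha
    · rw [orderOf_eq_one_iff] at ha
      subst ha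
      have : orderOf ((1 : A), b) = orderOf b := orderOf_injective (MonoidHom.inr A B) (fun a b h => congrArg Prod.snd h) b
      rw [this] at hh ⊢
      simp only [one_pow, one_mul, ← Finset.mul_sum, hgs b hh y, mul_zero]
    · have hb1 : b = 1 := by
        have hbd : orderOf b ∣ orderOf a := ha ▸ hlcm ▸ Nat.dvd_lcm_right (orderOf a) (orderOf b)
        exact orderOf_eq_one_iff.1 (Nat.eq_one_of_dvd_coprimes hcop (hbd.trans (orderOf_dvd_natCard a)) (orderOf_dvd_natCard b))
      subst hb1
      rw [← ha] at hh ⊢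
      simp only [one_pow, one_mul, ← Finset.sum_mul, hfs a hh x, zero_mul]

end Cfsg.Agent.S4292
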