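import Cfsg.Statements.S4293

import Mathlib
import Cfsg.Agent.Perm.FpfComplement

set_option autoImplicit false
set_option linter.style.haveILetI false
open Cfsg

namespace Cfsg.Agent.S4293
open CfsgLib.Perm

/-- A nontrivial finite subgroup of the multiplicative group of a division ring occurs as a Frobenius complement of some finite Frobenius group. -/
theorem result {D : Type*} [DivisionRing D] (H : Subgroup Dˣ) [Finite H] (hH : H ≠ ⊥) :
    ∃ (L : Type) (_ : Group L) (_ : Finite L) (C : Subgroup L), Cfsg.IsFrobeniusComplement C ∧ Nonempty (H ≃* C) := by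
  haveI : Nontrivial H := (Subgroup.nontrivial_iff_ne_bot H).2 hH
  obtain ⟨p, hp⟩ := CharP.exists D
  rcases CharP.char_is_prime_or_zero D p with hpp | rfl
  · haveI : Fact p.Prime := ⟨hpp⟩
    letI := ZMod.algebra D p
    refine Fpf.complement_of_hasFun (q := p) ?_ (Fpf.hasFun_of_divisionRing (F := ZMod p) H.subtype H.subtype_injective)
    intro h
    obtain ⟨x, hx⟩ := exists_prime_orderOf_dvd_card' (G := H) p h
    have h1 : ((x : Dˣ) : D) ^ p = 1 := by
      rw [← Units.val_pow_eq_pow_val, ← SubgroupClass.coe_pow, ← hx, pow_orderOf_eq_one]; rfl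
    have h2 : (((x : Dˣ) : D) - 1) ^ p = 0 := by
      rw [sub_pow_char_of_commute p (Commute.one_right _), h1, one_pow, sub_self]
    have h3 := eq_zero_of_pow_eq_zero h2
    rw [sub_eq_zero] at h3
    have : x = 1 := Subtype.ext (Units.ext h3)
    rw [this, orderOf_one] at hx
    exact hpp.ne_one hx.symm
  · haveI : CharZero D := CharP.charP_to_charZero D
    exact Fpf.complement_of_rat (Fpf.hasFun_of_divisionRing (F := ℚ) H.subtype H.subtype_injective)

end Cfsg.Agent.S4293
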