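import Cfsg.Statements.S4296

import Mathlib
import Cfsg.Agent.Solv.ComplementClass
import Cfsg.Agent.Solv.FrobeniusFpf

set_option autoImplicit false
set_option linter.style.haveILetI false
open Cfsg

namespace Cfsg.Agent.S4296

universe u
theorem isSquare_of_anticomm : ∀ (n : ℕ) {V : Type u} [AddCommGroup V] [Finite V] (U T : V →+ V),
    Nat.card V = n → Odd n → Function.Injective U → Function.Injective T → (∀ x, U (T x) = -(T (U x))) → IsSquare n := by
  intro n
  induction n using Nat.strong_induction_on with | _ n ih =>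
  intro V _ _ U T hn hodd hU hT hUT
  rcases eq_or_ne n 1 with rfl | hn1
  · exact ⟨1, rfl⟩
  obtain ⟨q, hq, hqn⟩ := Nat.exists_prime_and_dvd hn1
  haveI : Fact q.Prime := ⟨hq⟩
  have hq2 : q ≠ 2 := by rintro rfl; exact (Nat.not_even_iff_odd.2 hodd) (even_iff_two_dvd.2 hqn)
  set m : V →+ V := nsmulAddMonoidHom q
  let K := m.ker
  let R := m.range
  letI : Module (ZMod q) K := AddCommGroup.zmodModule (n := q) (fun w => Subtype.ext w.2)
  have hmU : ∀ (F : V →+ V), ∀ x ∈ K, F x ∈ K := fun F x hx => by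
    show q • F x = 0
    rw [← map_nsmul, show q • x = 0 from hx, map_zero]
  have hmR : ∀ (F : V →+ V), ∀ x ∈ R, F x ∈ R := fun F x ⟨y, hy⟩ => ⟨F y, by
    show q • F y = F x
    rw [← map_nsmul, show q • y = x from hy]⟩
  let res : (V →+ V) → (K →ₗ[ZMod q] K) := fun F => AddMonoidHom.toZModLinearMap q
    { toFun := fun x => ⟨F x, hmU F x x.2⟩
      map_zero' := Subtype.ext (map_zero F)
      map_add' := fun x y => Subtype.ext (map_add F _ _) }
  have hinj : ∀ F : V →+ V, Function.Injective F → LinearMap.det (res F) ≠ 0 := by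
    intro F hF h0
    obtain ⟨x, hx, hx0⟩ := Submodule.exists_mem_ne_zero_of_ne_bot (LinearMap.bot_lt_ker_of_det_eq_zero h0).ne'
    refine hx0 (Subtype.ext (hF ?_))
    rw [ZeroMemClass.coe_zero, map_zero]
    exact congrArg Subtype.val hx
  have hcomp : res U * res T = (-1 : ZMod q) • (res T * res U) := by
    refine LinearMap.ext fun x => Subtype.ext ?_
    rw [neg_one_smul]
    exact hUT x
  have hdet := congrArg LinearMap.det hcomp
  rw [map_mul, LinearMap.det_smul, map_mul, mul_comm (LinearMap.det (res T))] at hdet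
  have hd : ((-1 : ZMod q)) ^ Module.finrank (ZMod q) K = 1 := by
    have h := mul_ne_zero (hinj U hU) (hinj T hT)
    exact (mul_eq_right₀ h).1 hdet.symm
  have heven : Even (Module.finrank (ZMod q) K) := by
    by_contra hcon
    rw [(Nat.not_even_iff_odd.1 hcon).neg_one_pow] at hd
    haveI : Fact (2 < q) := ⟨lt_of_le_of_ne hq.two_le (Ne.symm hq2)⟩
    exact ZMod.neg_one_ne_one hd
  have hKcard : Nat.card K = q ^ Module.finrank (ZMod q) K := by
    rw [Module.natCard_eq_pow_finrank (K := ZMod q), Nat.card_zmod]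
  have hsplit : Nat.card K * Nat.card R = n := by
    rw [← hn, ← AddSubgroup.index_ker, AddSubgroup.card_mul_index]
  have hK1 : 1 < Nat.card K := by
    obtain ⟨v, hv⟩ := exists_prime_addOrderOf_dvd_card' (G := V) q (hn ▸ hqn)
    haveI : Nontrivial K := ⟨⟨⟨v, by show q • v = 0; rw [← hv, addOrderOf_nsmul_eq_zero]⟩, 0, fun e => by
      have h1 : v = 0 := congrArg Subtype.val e
      rw [h1, addOrderOf_zero] at hv
      exact hq.ne_one hv.symm⟩⟩
    exact Finite.one_lt_card
  have hR : IsSquare (Nat.card R) := by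
    let rr : (V →+ V) → (R →+ R) := fun F =>
      { toFun := fun x => ⟨F x, hmR F x x.2⟩
        map_zero' := Subtype.ext (map_zero F)
        map_add' := fun x y => Subtype.ext (map_add F _ _) }
    refine ih _ (by rw [← hsplit]; exact lt_mul_of_one_lt_left Nat.card_pos hK1) (rr U) (rr T) rfl
      (Nat.Odd.of_mul_right (hsplit.symm ▸ hodd))
      (fun a b e => Subtype.ext (hU (congrArg Subtype.val e))) (fun a b e => Subtype.ext (hT (congrArg Subtype.val e)))
      (fun x => Subtype.ext (hUT x))
  rw [← hsplit]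
  refine IsSquare.mul ?_ hR
  rw [hKcard]
  exact heven.isSquare_pow q

/-- Let H be a Frobenius complement in a finite group, and suppose some Sylow subgroup of H is not cyclic. Then the number of elements of the Frobenius kernel (the identity together with the elements lying in no conjugate of H) is an odd perfect square. -/
theorem result {L : Type*} [Group L] [Finite L] (H : Subgroup L) (hF : Cfsg.IsFrobeniusComplement H)
    (hZ : ∃ (p : ℕ) (_ : Fact p.Prime) (P : Sylow p H), ¬ IsCyclic P) :
    Odd (Nat.card (Cfsg.frobeniusKernel H)) ∧ IsSquare (Nat.card (Cfsg.frobeniusKernel H)) := by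
  classical
  obtain ⟨K, hK, hKn, hc⟩ := CfsgLib.Solv.frobenius_theorem hF
  haveI := hKn
  have hfpf : ∀ h ∈ H, h ≠ 1 → K ⊓ Subgroup.centralizer {h} = ⊥ :=
    fun h hh h1 => CfsgLib.Solv.fpf_of_frobenius hF hc.disjoint.eq_bot hh h1
  have hKb : K ≠ ⊥ := fun e => hF.2.1 (Subgroup.isComplement'_bot_left.1 (e ▸ hc))
  have hcard : Nat.card (Cfsg.frobeniusKernel H) = Nat.card K := by
    rw [← hK]; rfl
  rw [hcard]
  obtain ⟨p, hp, P, hP⟩ := hZ
  -- `P` is generalised quaternion
  have hab : ∀ A : Subgroup (P : Subgroup H), IsMulCommutative A → IsCyclic A := by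
    intro A hA
    haveI := hA
    set f : (P : Subgroup H) →* L := H.subtype.comp (P : Subgroup H).subtype
    have hf : Function.Injective f := fun a b e => Subtype.ext (Subtype.ext e)
    haveI : IsMulCommutative (A.map f) := Subgroup.map_isMulCommutative A f
    have hle : A.map f ≤ H := by rintro _ ⟨a, _, rfl⟩; exact (a : H).2
    haveI := CfsgLib.Solv.isCyclic_of_fpf_abelian (A := A.map f) hKb
      (Subgroup.normalizer_eq_top K ▸ le_top) (fun a ha ha1 => hfpf a (hle ha) ha1)
    exact isCyclic_of_surjective (A.equivMapOfInjective f hf).symm.toMonoidHom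
      (A.equivMapOfInjective f hf).symm.surjective
  rcases CfsgLib.Solv.pgroup_unique_sub P.2 (fun x y hx hy =>
    CfsgLib.Solv.unique_of_abelian_cyclic P.2 hab x y hx hy) with h | ⟨rfl, k, ⟨e⟩⟩
  · exact absurd h hP
  haveI : NeZero (2 ^ (k + 1)) := ⟨pow_ne_zero _ two_ne_zero⟩
  set f : QuaternionGroup (2 ^ (k + 1)) →* L :=
    (H.subtype.comp (P : Subgroup H).subtype).comp e.symm.toMonoidHom
  have hf : Function.Injective f := fun a b h => e.symm.injective (Subtype.ext (Subtype.ext h))
  have hfH : ∀ q, f q ∈ H := fun q => ((e.symm q : (P : Subgroup H)) : H).2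
  set z := f (QuaternionGroup.a ((2 ^ (k + 1) : ℕ) : ZMod (2 * 2 ^ (k + 1))))
  have hz1 : z ≠ 1 := by
    intro h
    have h' := hf (h.trans (map_one f).symm)
    rw [QuaternionGroup.one_def] at h'
    injection h' with h'
    rw [ZMod.natCast_eq_zero_iff] at h'
    have : 0 < 2 ^ (k + 1) := pow_pos two_pos _
    exact absurd (Nat.le_of_dvd (pow_pos two_pos _) h') (by omega)
  have hzz : z * z = 1 := by
    rw [← map_mul, QuaternionGroup.a_mul_a, ← Nat.cast_add, ← two_mul, ZMod.natCast_self, ← QuaternionGroup.one_def, map_one]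
  have hzinv : ∀ x ∈ K, z * x * z⁻¹ = x⁻¹ := fun x hx =>
    CfsgLib.Solv.conj_eq_inv_of_fpf_involution hzz (by rw [Subgroup.normalizer_eq_top]; trivial) (hfpf z (hfH _) hz1) hx
  have hKab : ∀ a b : K, a * b = b * a := fun a b => Subtype.ext (by
    have h1 := hzinv _ (K.mul_mem a.2 b.2)
    rw [← conj_mul, hzinv _ a.2, hzinv _ b.2, mul_inv_rev] at h1
    show (a : L) * b = b * a
    have h2 := congrArg (fun t => (b : L) * a * t * a * b) h1
    simp only [mul_assoc, inv_mul_cancel, mul_inv_cancel, one_mul, mul_one, inv_mul_cancel_left, mul_inv_cancel_left] at h2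
    exact h2)
  have hodd : Odd (Nat.card K) := by
    rw [← Nat.not_even_iff_odd, even_iff_two_dvd]
    intro h2
    have h3 : 2 ∣ Nat.card H := by
      have : orderOf z ∣ Nat.card H := by
        rw [← Subgroup.orderOf_mk z (hfH _)]; exact orderOf_dvd_natCard _
      rwa [orderOf_eq_prime (by rw [pow_two]; exact hzz) hz1] at this
    have h4 : 2 ∣ H.index := by rw [hc.index_eq_card]; exact h2
    exact Nat.prime_two.not_dvd_one ((CfsgLib.Solv.frobenius_coprime hF) ▸ Nat.dvd_gcd h3 h4)
  refine ⟨hodd, ?_⟩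
  letI : CommGroup K := { mul_comm := hKab }
  let cj : L → (Additive K →+ Additive K) := fun g =>
    MonoidHom.toAdditive
      { toFun := fun x => ⟨g * x * g⁻¹, hKn.conj_mem _ x.2 g⟩
        map_one' := Subtype.ext (by simp)
        map_mul' := fun x y => Subtype.ext (by simp [mul_assoc]) }
  have hcj : ∀ g, Function.Injective (cj g) := fun g a b h =>
    Additive.toMul.injective (Subtype.ext (mul_left_cancel (mul_right_cancel
      (congrArg (fun t : Additive K => ((Additive.toMul t : K) : L)) h))))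
  set u := f (QuaternionGroup.xa 0)
  set v := f (QuaternionGroup.a ((2 ^ k : ℕ) : ZMod (2 * 2 ^ (k + 1))))
  have huv : u * v = z * (v * u) := by
    rw [← map_mul, ← map_mul, ← map_mul, QuaternionGroup.xa_mul_a, QuaternionGroup.a_mul_xa, QuaternionGroup.a_mul_xa]
    congr 2
    have h2 : ((2 ^ (k + 1) : ℕ) : ZMod (2 * 2 ^ (k + 1))) = (2 ^ k : ℕ) + (2 ^ k : ℕ) := by
      rw [← Nat.cast_add, pow_succ, mul_two]
    have h4 : ((2 * 2 ^ (k + 1) : ℕ) : ZMod (2 * 2 ^ (k + 1))) = 0 := ZMod.natCast_self _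
    rw [Nat.cast_mul, Nat.cast_ofNat, h2] at h4
    rw [h2]
    linear_combination h4
  refine isSquare_of_anticomm _ (V := Additive K) (cj u) (cj v) rfl hodd (hcj _) (hcj _) fun x => ?_
  refine Additive.toMul.injective (Subtype.ext ?_)
  show u * (v * ((Additive.toMul x : K) : L) * v⁻¹) * u⁻¹ = (v * (u * ((Additive.toMul x : K) : L) * u⁻¹) * v⁻¹)⁻¹
  have hm := hzinv _ (hKn.conj_mem _ (hKn.conj_mem _ (Additive.toMul x : K).2 u) v)
  rw [← hm]
  calc u * (v * ((Additive.toMul x : K) : L) * v⁻¹) * u⁻¹ = (u * v) * ((Additive.toMul x : K) : L) * (u * v)⁻¹ := by group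
    _ = _ := by rw [huv]; group

end Cfsg.Agent.S4296
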