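import Cfsg.Statements.S4295

import Mathlib
import Cfsg.Agent.S4296
import Cfsg.Agent.Perm.FpfComplement

set_option autoImplicit false
set_option linter.style.haveILetI false
open Cfsg

namespace Cfsg.Agent.S4295
open scoped Matrix

/-- A homomorphism out of the quaternion group of order eight. -/
def quatHom {M : Type*} [Monoid M] (I J : M) (h4 : I ^ 4 = 1) (hIJ : I * J = J * I ^ 3) (hJ : J * J = I ^ 2) :
    QuaternionGroup 2 →* M :=
  have hred : ∀ a b : ℕ, a % 4 = b % 4 → I ^ a = I ^ b := fun a b h => by
    rw [← Nat.div_add_mod a 4, ← Nat.div_add_mod b 4, pow_add, pow_add, pow_mul, pow_mul, h4, one_pow, one_pow, h]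
  have hkJ : ∀ k : ℕ, I ^ k * J = J * I ^ (3 * k) := fun k => by
    induction k with
    | zero => simp
    | succ k ih =>
      calc I ^ (k + 1) * J = I ^ k * (I * J) := by rw [pow_succ, mul_assoc]
        _ = I ^ k * J * I ^ 3 := by rw [hIJ, mul_assoc]
        _ = _ := by rw [ih, mul_assoc, ← pow_add, Nat.mul_succ]
  { toFun := fun q => match q with | .a i => I ^ (ZMod.val i) | .xa i => J * I ^ (ZMod.val i)
    map_one' := by
      show I ^ (ZMod.val (0 : ZMod (2 * 2))) = 1
      rw [ZMod.val_zero, pow_zero]
    map_mul' := by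
      rintro (i | i) (j | j)
      · show I ^ ZMod.val (i + j) = I ^ ZMod.val i * I ^ ZMod.val j
        rw [← pow_add]; exact hred _ _ (by revert i j; decide)
      · show J * I ^ ZMod.val (j - i) = I ^ ZMod.val i * (J * I ^ ZMod.val j)
        rw [← mul_assoc, hkJ, mul_assoc, ← pow_add]
        congr 1; exact hred _ _ (by revert i j; decide)
      · show J * I ^ ZMod.val (i + j) = J * I ^ ZMod.val i * I ^ ZMod.val j
        rw [mul_assoc, ← pow_add]
        congr 1; exact hred _ _ (by revert i j; decide)
      · show I ^ ZMod.val (((2 : ℕ) : ZMod (2 * 2)) + j - i) = J * I ^ ZMod.val i * (J * I ^ ZMod.val j)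
        rw [mul_assoc J, ← mul_assoc (I ^ ZMod.val i), hkJ, mul_assoc J, ← mul_assoc J J, hJ, ← pow_add, ← pow_add]
        exact hred _ _ (by revert i j; decide) }

/-- For a natural number m the following are equivalent: (a) some finite group has a Frobenius complement isomorphic to the quaternion group of order 8 whose Frobenius kernel (the identity together with the elements lying in no conjugate of the complement) has exactly m elements; (b) m is an odd perfect square greater than 1. -/
theorem result (m : ℕ) :
    (∃ (L : Type) (_ : Group L) (_ : Finite L) (H : Subgroup L), Cfsg.IsFrobeniusComplement H ∧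
        Nonempty (H ≃* QuaternionGroup 2) ∧ Nat.card (Cfsg.frobeniusKernel H) = m) ↔
    (Odd m ∧ IsSquare m ∧ 1 < m) := by
  classical
  haveI : Fact (Nat.Prime 2) := ⟨Nat.prime_two⟩
  constructor
  · rintro ⟨L, iL, fL, H, hH, ⟨e⟩, rfl⟩
    have hP : IsPGroup 2 H := IsPGroup.of_card (n := 3) (by rw [Nat.card_congr e.toEquiv, Nat.card_eq_fintype_card]; rfl)
    have hnc : ¬ IsCyclic ((default : Sylow 2 H) : Subgroup H) := by
      intro hc
      have htop : ((default : Sylow 2 H) : Subgroup H) = ⊤ := by
        have := (default : Sylow 2 H).is_maximal' (hP.to_subgroup ⊤) le_top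
        exact this.symm
      rw [htop] at hc
      haveI : IsCyclic H := isCyclic_of_surjective (Subgroup.topEquiv : (⊤ : Subgroup H) ≃* H).toMonoidHom Subgroup.topEquiv.surjective
      have h1 := (IsCyclic.commGroup (α := H)).mul_comm (e.symm (QuaternionGroup.a 1)) (e.symm (QuaternionGroup.xa 0))
      have h2 : (QuaternionGroup.a 1 : QuaternionGroup 2) * QuaternionGroup.xa 0 = QuaternionGroup.xa 0 * QuaternionGroup.a 1 := by
        apply e.symm.injective
        rw [map_mul, map_mul]; exact h1
      revert h2; decide
    obtain ⟨hodd, hsq⟩ := Cfsg.Agent.S4296.result H hH ⟨2, inferInstance, default, hnc⟩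
    refine ⟨hodd, hsq, ?_⟩
    rw [CfsgLib.Solv.frobenius_card_kernel hH]
    exact Subgroup.one_lt_index_of_ne_top hH.2.1
  · rintro ⟨hodd, ⟨s, rfl⟩, h1⟩
    have hs1 : 1 < s := by
      by_contra hcon
      interval_cases s <;> simp at h1
    have hsodd : Odd s := (Nat.odd_mul.1 hodd).1
    set Ls := s.primeFactorsList with hLs
    let pr : Fin Ls.length → ℕ := fun i => Ls.get i
    haveI hpr : ∀ i, Fact (pr i).Prime := fun i => ⟨Nat.prime_of_mem_primeFactorsList (List.get_mem Ls i)⟩
    have hpr2 : ∀ i, pr i ≠ 2 := fun i h => by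
      have := Nat.dvd_of_mem_primeFactorsList (List.get_mem Ls i)
      change pr i ∣ s at this
      rw [h] at this
      exact (Nat.not_even_iff_odd.2 hsodd) (even_iff_two_dvd.2 this)
    choose x y hxy using fun i => ZMod.sq_add_sq (pr i) (-1)
    let ρ : ∀ i, QuaternionGroup 2 →* Matrix (Fin 2) (Fin 2) (ZMod (pr i)) := fun i =>
      quatHom !![0, 1; -1, 0] !![x i, y i; y i, -x i]
        (by
          ext a b
          fin_cases a <;> fin_cases b <;> simp [pow_succ, Matrix.mul_apply, Fin.sum_univ_two, Matrix.one_apply])
        (by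
          ext a b
          fin_cases a <;> fin_cases b <;> simp [pow_succ, Matrix.mul_apply, Fin.sum_univ_two, Matrix.one_apply])
        (by
          ext a b
          fin_cases a <;> fin_cases b <;> simp [pow_succ, Matrix.mul_apply, Fin.sum_univ_two, Matrix.one_apply] <;>
            first | ring1 | linear_combination (hxy i) | linear_combination -(hxy i))
    let V := (i : Fin Ls.length) → Fin 2 → ZMod (pr i)
    let act : QuaternionGroup 2 → V → V := fun g v i => (ρ i g) *ᵥ v i
    have hact1 : ∀ v, act 1 v = v := fun v => funext fun i => by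
      show (ρ i 1) *ᵥ v i = v i
      rw [map_one, Matrix.one_mulVec]
    have hactm : ∀ a b v, act (a * b) v = act a (act b v) := fun a b v => funext fun i => by
      show (ρ i (a * b)) *ᵥ v i = (ρ i a) *ᵥ ((ρ i b) *ᵥ v i)
      rw [map_mul, Matrix.mulVec_mulVec]
    let φ : QuaternionGroup 2 →* MulAut (Multiplicative V) :=
      { toFun := fun g =>
          { toFun := fun v => Multiplicative.ofAdd (act g v.toAdd)
            invFun := fun v => Multiplicative.ofAdd (act g⁻¹ v.toAdd)
            left_inv := fun v => Multiplicative.toAdd.injective (by simp [← hactm, hact1])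
            right_inv := fun v => Multiplicative.toAdd.injective (by simp [← hactm, hact1])
            map_mul' := fun v w => Multiplicative.toAdd.injective (funext fun i => by
              show (ρ i g) *ᵥ (v.toAdd i + w.toAdd i) = _
              rw [Matrix.mulVec_add]; rfl) }
        map_one' := MulEquiv.ext fun v => Multiplicative.toAdd.injective (by simp [hact1])
        map_mul' := fun a b => MulEquiv.ext fun v => Multiplicative.toAdd.injective (by simp [hactm]) }
    haveI : Finite V := inferInstance
    have hcard : Nat.card (Multiplicative V) = s * s := by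
      rw [Nat.card_congr Multiplicative.toAdd, Nat.card_pi]
      simp only [Nat.card_fun, Nat.card_fin, Nat.card_zmod]
      rw [Finset.prod_pow, pow_two]
      have : ∏ i, pr i = s := by
        rw [show ∏ i, pr i = (List.ofFn pr).prod from (List.prod_ofFn).symm, show List.ofFn pr = Ls from List.ofFn_get Ls]
        exact Nat.prod_primeFactorsList (by omega)
      rw [this]
    haveI : Nontrivial (Multiplicative V) := Finite.one_lt_card_iff_nontrivial.1 (by rw [hcard]; exact h1)
    haveI : Nontrivial (QuaternionGroup 2) := ⟨⟨QuaternionGroup.xa 0, 1, by decide⟩⟩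
    haveI : Finite (QuaternionGroup 2) := Finite.of_fintype _
    obtain ⟨L, iL, fL, H, hH, ⟨e⟩, hk⟩ := CfsgLib.Perm.Fpf.frobenius_of_action φ (fun g hg v hv => by
      have hz : ∀ w : Multiplicative V, φ (QuaternionGroup.a 2) w = w → w = 1 := by
        intro w hw
        refine Multiplicative.toAdd.injective (funext fun i => ?_)
        have h2 : (ρ i (QuaternionGroup.a 2)) *ᵥ (w.toAdd i) = w.toAdd i := congrFun (congrArg Multiplicative.toAdd hw) i
        have h3 : ρ i (QuaternionGroup.a 2) = -1 := by
          show (!![0, 1; -1, 0] : Matrix (Fin 2) (Fin 2) (ZMod (pr i))) ^ (ZMod.val (2 : ZMod (2 * 2))) = -1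
          rw [show ZMod.val (2 : ZMod (2 * 2)) = 2 from rfl]
          ext a b
          fin_cases a <;> fin_cases b <;> simp [pow_succ, Matrix.mul_apply, Fin.sum_univ_two]
        rw [h3, Matrix.neg_mulVec, Matrix.one_mulVec] at h2
        refine funext fun j => ?_
        have h4 := congrFun h2 j
        rw [Pi.neg_apply, neg_eq_iff_add_eq_zero, ← two_mul, mul_eq_zero] at h4
        refine h4.resolve_left fun h5 => hpr2 i ?_
        have h6 : ((2 : ℕ) : ZMod (pr i)) = 0 := by exact_mod_cast h5
        rw [ZMod.natCast_eq_zero_iff] at h6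
        exact (Nat.prime_dvd_prime_iff_eq Fact.out Nat.prime_two).1 h6
      have hcases : g = QuaternionGroup.a 2 ∨ g * g = QuaternionGroup.a 2 := (by decide : ∀ g : QuaternionGroup 2, g ≠ 1 → g = QuaternionGroup.a 2 ∨ g * g = QuaternionGroup.a 2) g hg
      rcases hcases with rfl | h
      · exact hz v hv
      · exact hz v (by rw [← h, map_mul, MulAut.mul_apply, hv, hv]))
    exact ⟨L, iL, fL, H, hH, ⟨e.symm⟩, by rw [hk, hcard]⟩

end Cfsg.Agent.S4295
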