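import Cfsg.Statements.S4297

import Mathlib
import Cfsg.Agent.Perm.FpfComplement

set_option autoImplicit false
set_option linter.style.haveILetI false
open Cfsg

namespace Cfsg.Agent.S4297
open CfsgLib.Perm Quaternion ComplexConjugate

/-- The complex numbers inside the quaternions. -/
def emb (z : ℂ) : Quaternion ℝ := ⟨z.re, z.im, 0, 0⟩

/-- The unit `j`. -/
def jq : Quaternion ℝ := ⟨0, 0, 1, 0⟩

@[simp] theorem emb_re (z : ℂ) : (emb z).re = z.re := rfl
@[simp] theorem emb_imI (z : ℂ) : (emb z).imI = z.im := rfl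
@[simp] theorem emb_imJ (z : ℂ) : (emb z).imJ = 0 := rfl
@[simp] theorem emb_imK (z : ℂ) : (emb z).imK = 0 := rfl
@[simp] theorem jq_re : jq.re = 0 := rfl
@[simp] theorem jq_imI : jq.imI = 0 := rfl
@[simp] theorem jq_imJ : jq.imJ = 1 := rfl
@[simp] theorem jq_imK : jq.imK = 0 := rfl

theorem emb_one : emb 1 = 1 := by ext <;> simp [Quaternion.re_mul, Quaternion.imI_mul, Quaternion.imJ_mul, Quaternion.imK_mul]

theorem emb_mul (z w : ℂ) : emb (z * w) = emb z * emb w := by ext <;> simp [Quaternion.re_mul, Quaternion.imI_mul, Quaternion.imJ_mul, Quaternion.imK_mul]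

theorem emb_j (z : ℂ) : emb z * jq = jq * emb (conj z) := by ext <;> simp [Quaternion.re_mul, Quaternion.imI_mul, Quaternion.imJ_mul, Quaternion.imK_mul]

theorem jq_jq (z : ℂ) : jq * (jq * emb z) = emb (-z) := by ext <;> simp [Quaternion.re_mul, Quaternion.imI_mul, Quaternion.imJ_mul, Quaternion.imK_mul]

/-- For every n ≥ 2 the dicyclic group of order 4n (generated by an element a of order 2n and an element x with x² = aⁿ and x a x⁻¹ = a⁻¹) occurs as a Frobenius complement of some finite Frobenius group. -/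
theorem result (n : ℕ) (hn : 2 ≤ n) :
    ∃ (L : Type) (_ : Group L) (_ : Finite L) (H : Subgroup L), Cfsg.IsFrobeniusComplement H ∧ Nonempty (H ≃* QuaternionGroup n) := by
  haveI : NeZero n := ⟨by omega⟩
  haveI : NeZero (2 * n) := ⟨by omega⟩
  haveI : Nontrivial (QuaternionGroup n) := ⟨⟨QuaternionGroup.xa 0, 1, fun h => by cases h⟩⟩
  haveI : Finite (QuaternionGroup n) := Finite.of_fintype _
  set ψ : AddChar (ZMod (2 * n)) ℂ := ZMod.stdAddChar
  have hψn : ψ (n : ZMod (2 * n)) = -1 := by
    have h2 : ψ (n : ZMod (2 * n)) * ψ (n : ZMod (2 * n)) = 1 := by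
      rw [← AddChar.map_add_eq_mul, ← Nat.cast_add, ← two_mul, ZMod.natCast_self, AddChar.map_zero_eq_one]
    rcases mul_self_eq_one_iff.1 h2 with h | h
    · exfalso
      have := ZMod.injective_stdAddChar (N := 2 * n) (h.trans (AddChar.map_zero_eq_one ψ).symm)
      rw [ZMod.natCast_eq_zero_iff] at this
      exact absurd (Nat.le_of_dvd (by omega) this) (by omega)
    · exact h
  have hconj : ∀ i, conj (ψ i) = ψ (-i) := fun i => (AddChar.map_neg_eq_conj ψ i).symm
  let f : QuaternionGroup n →* Quaternion ℝ :=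
    { toFun := fun q => match q with | .a i => emb (ψ i) | .xa i => jq * emb (ψ i)
      map_one' := by show emb (ψ 0) = 1; rw [AddChar.map_zero_eq_one, emb_one]
      map_mul' := by
        rintro (i | i) (j | j)
        · show emb (ψ (i + j)) = _
          rw [AddChar.map_add_eq_mul, emb_mul]
        · show jq * emb (ψ (j - i)) = emb (ψ i) * (jq * emb (ψ j))
          rw [← mul_assoc, emb_j, mul_assoc, ← emb_mul, hconj, ← AddChar.map_add_eq_mul, neg_add_eq_sub]
        · show jq * emb (ψ (i + j)) = _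
          rw [AddChar.map_add_eq_mul, emb_mul, mul_assoc]
        · show emb (ψ (n + j - i)) = jq * emb (ψ i) * (jq * emb (ψ j))
          rw [mul_assoc jq, ← mul_assoc (emb (ψ i)), emb_j, mul_assoc jq, ← emb_mul, jq_jq, hconj,
            ← AddChar.map_add_eq_mul, ← neg_one_mul, ← hψn, ← AddChar.map_add_eq_mul]
          congr 2
          abel }
  have hf : Function.Injective f := by
    rintro (i | i) (j | j) h
    · change emb (ψ i) = emb (ψ j) at h
      have h1 : (emb (ψ i)).re = (emb (ψ j)).re := by rw [h]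
      have h2 : (emb (ψ i)).imI = (emb (ψ j)).imI := by rw [h]
      rw [ZMod.injective_stdAddChar (Complex.ext h1 h2)]
    · change emb (ψ i) = jq * emb (ψ j) at h
      exfalso
      have h1 : (ψ i).re = 0 := by simpa [Quaternion.re_mul, Quaternion.imI_mul, Quaternion.imJ_mul, Quaternion.imK_mul] using congrArg (fun q : Quaternion ℝ => q.re) h
      have h2 : (ψ i).im = 0 := by simpa [Quaternion.re_mul, Quaternion.imI_mul, Quaternion.imJ_mul, Quaternion.imK_mul] using congrArg (fun q : Quaternion ℝ => q.imI) h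
      exact AddChar.val_isUnit ψ i |>.ne_zero (Complex.ext h1 h2)
    · change jq * emb (ψ i) = emb (ψ j) at h
      exfalso
      have h1 : (ψ j).re = 0 := by simpa [Quaternion.re_mul, Quaternion.imI_mul, Quaternion.imJ_mul, Quaternion.imK_mul] using (congrArg (fun q : Quaternion ℝ => q.re) h).symm
      have h2 : (ψ j).im = 0 := by simpa [Quaternion.re_mul, Quaternion.imI_mul, Quaternion.imJ_mul, Quaternion.imK_mul] using (congrArg (fun q : Quaternion ℝ => q.imI) h).symm
      exact AddChar.val_isUnit ψ j |>.ne_zero (Complex.ext h1 h2)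
    · change jq * emb (ψ i) = jq * emb (ψ j) at h
      have h1 : (ψ i).re = (ψ j).re := by simpa [Quaternion.re_mul, Quaternion.imI_mul, Quaternion.imJ_mul, Quaternion.imK_mul] using congrArg (fun q : Quaternion ℝ => q.imJ) h
      have h2 : (ψ i).im = (ψ j).im := by simpa [Quaternion.re_mul, Quaternion.imI_mul, Quaternion.imJ_mul, Quaternion.imK_mul] using congrArg (fun q : Quaternion ℝ => q.imK) h
      rw [ZMod.injective_stdAddChar (Complex.ext h1 h2)]
  obtain ⟨L, iL, fL, H, hH, ⟨e⟩⟩ := Fpf.complement_of_rat (Fpf.hasFun_of_divisionRing (D := Quaternion ℝ) (F := ℚ)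
    f.toHomUnits fun a b h => hf (congrArg Units.val h))
  exact ⟨L, iL, fL, H, hH, ⟨e.symm⟩⟩

end Cfsg.Agent.S4297
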