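import Cfsg.Statements.S4298

import Mathlib
import Cfsg.Agent.Perm.FpfComplement

set_option autoImplicit false
set_option linter.style.haveILetI false
open Cfsg

namespace Cfsg.Agent.S4298
open CfsgLib.Perm

/-- An embedding of SL(2,3) in SL(2,5), as a table of base five numerals. -/
def embTab : List ℕ :=
  [126, 126, 126, 126, 126, 126, 126, 126, 126, 126, 126, 126, 126, 126, 126, 382, 309, 94, 126, 126, 126, 273, 61, 471, 126, 126, 126, 126, 126, 126, 126, 292, 126, 126, 362, 126, 126, 49, 126, 126, 126, 541, 215, 126, 126, 126, 605, 126, 597, 126, 126, 126, 126, 328, 126, 126, 504, 126, 126, 418, 126, 126, 488, 126, 126, 170, 126, 427, 126, 183, 126, 126, 126, 126, 106, 560, 126, 126, 126, 239, 126]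

/-- The image of `[[a,b],[c,d]]`. -/
def embMat (a b c d : ZMod 3) : Fin 4 → ZMod 5 :=
  let n := embTab.getD (27 * a.val + 9 * b.val + 3 * c.val + d.val) 0
  ![(n / 125 : ℕ), (n / 25 % 5 : ℕ), (n / 5 % 5 : ℕ), (n % 5 : ℕ)]

theorem embMat_mul : ∀ a b c d : ZMod 3, a * d - b * c = 1 → ∀ e f g h : ZMod 3, e * h - f * g = 1 →
    embMat (a * e + b * g) (a * f + b * h) (c * e + d * g) (c * f + d * h) 0 = embMat a b c d 0 * embMat e f g h 0 + embMat a b c d 1 * embMat e f g h 2 ∧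
    embMat (a * e + b * g) (a * f + b * h) (c * e + d * g) (c * f + d * h) 1 = embMat a b c d 0 * embMat e f g h 1 + embMat a b c d 1 * embMat e f g h 3 ∧
    embMat (a * e + b * g) (a * f + b * h) (c * e + d * g) (c * f + d * h) 2 = embMat a b c d 2 * embMat e f g h 0 + embMat a b c d 3 * embMat e f g h 2 ∧
    embMat (a * e + b * g) (a * f + b * h) (c * e + d * g) (c * f + d * h) 3 = embMat a b c d 2 * embMat e f g h 1 + embMat a b c d 3 * embMat e f g h 3 := by
  decide +kernel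

theorem embMat_fpf : ∀ a b c d : ZMod 3, a * d - b * c = 1 → ¬ (a = 1 ∧ b = 0 ∧ c = 0 ∧ d = 1) → ∀ v w : ZMod 5,
    embMat a b c d 0 * v + embMat a b c d 1 * w = v → embMat a b c d 2 * v + embMat a b c d 3 * w = w → v = 0 ∧ w = 0 := by
  decide +kernel

/-- The group SL(2,3) of order 24 (the binary tetrahedral group) occurs as a Frobenius complement of some finite Frobenius group. -/
theorem result :
    ∃ (L : Type) (_ : Group L) (_ : Finite L) (H : Subgroup L), Cfsg.IsFrobeniusComplement H ∧ Nonempty (H ≃* Matrix.SpecialLinearGroup (Fin 2) (ZMod 3)) := by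
  haveI : Finite (Matrix.SpecialLinearGroup (Fin 2) (ZMod 3)) := Finite.of_fintype _
  let M : Matrix.SpecialLinearGroup (Fin 2) (ZMod 3) → Matrix (Fin 2) (Fin 2) (ZMod 5) := fun g =>
    !![embMat (g.1 0 0) (g.1 0 1) (g.1 1 0) (g.1 1 1) 0, embMat (g.1 0 0) (g.1 0 1) (g.1 1 0) (g.1 1 1) 1;
       embMat (g.1 0 0) (g.1 0 1) (g.1 1 0) (g.1 1 1) 2, embMat (g.1 0 0) (g.1 0 1) (g.1 1 0) (g.1 1 1) 3]
  have hdet : ∀ g : Matrix.SpecialLinearGroup (Fin 2) (ZMod 3), g.1 0 0 * g.1 1 1 - g.1 0 1 * g.1 1 0 = 1 := fun g => by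
    rw [← Matrix.det_fin_two]; exact g.2
  let ρ : Matrix.SpecialLinearGroup (Fin 2) (ZMod 3) →* ((Fin 2 → ZMod 5) →ₗ[ZMod 5] (Fin 2 → ZMod 5)) :=
    (Matrix.toLinAlgEquiv' : Matrix (Fin 2) (Fin 2) (ZMod 5) ≃ₐ[ZMod 5] _).toMonoidHom.comp
      { toFun := M
        map_one' := by
          ext i j
          fin_cases i <;> fin_cases j <;> decide +kernel
        map_mul' := fun g h => by
          obtain ⟨h0, h1, h2, h3⟩ := embMat_mul _ _ _ _ (hdet g) _ _ _ _ (hdet h)
          ext i j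
          fin_cases i <;> fin_cases j <;> simp [M, Matrix.mul_apply, Fin.sum_univ_two, h0, h1, h2, h3] }
  haveI : Nontrivial (Matrix.SpecialLinearGroup (Fin 2) (ZMod 3)) :=
    ⟨⟨⟨!![1, 1; 0, 1], by decide⟩, 1, fun e => absurd (congrFun (congrFun (congrArg Subtype.val e) 0) 1) (by decide)⟩⟩
  haveI : Fact (Nat.Prime 5) := ⟨by norm_num⟩
  obtain ⟨L, iL, fL, H, hH, ⟨e⟩⟩ := Fpf.complement_of_hasFun (q := 5)
    (by rw [Nat.card_eq_fintype_card]; decide +kernel) (Fpf.hasFun_of_fpf ρ fun g hg v hv => by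
      have h0 := congrFun hv 0
      have h1 := congrFun hv 1
      simp [ρ, M, Matrix.toLinAlgEquiv'_apply, Matrix.mulVec, dotProduct, Fin.sum_univ_two] at h0 h1
      obtain ⟨e0, e1⟩ := embMat_fpf _ _ _ _ (hdet g) (fun ⟨q0, q1, q2, q3⟩ => hg (Subtype.ext (by
        ext i j
        fin_cases i <;> fin_cases j <;> simp [q0, q1, q2, q3]))) _ _ h0 h1
      ext i
      fin_cases i
      · exact e0
      · exact e1)
  exact ⟨L, iL, fL, H, hH, ⟨e.symm⟩⟩

end Cfsg.Agent.S4298
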