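import Cfsg.Statements.S4299

import Mathlib
import Cfsg.Agent.Perm.FpfComplement

set_option autoImplicit false
set_option linter.style.haveILetI false
open Cfsg

namespace Cfsg.Agent.S4299
open CfsgLib.Perm

/-- Every nontrivial finite cyclic group occurs as a Frobenius complement of some finite Frobenius group. -/
theorem result {C : Type*} [Group C] [Finite C] [IsCyclic C] [Nontrivial C] :
    ∃ (L : Type) (_ : Group L) (_ : Finite L) (H : Subgroup L), Cfsg.IsFrobeniusComplement H ∧ Nonempty (C ≃* H) := by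
  haveI : NeZero (Nat.card C) := ⟨Nat.card_pos.ne'⟩
  obtain ⟨e⟩ : Nonempty (C ≃* rootsOfUnity (Nat.card C) ℂ) := ⟨mulEquivOfCyclicCardEq (by
    rw [Complex.card_rootsOfUnity])⟩
  exact Fpf.complement_of_rat (Fpf.hasFun_of_divisionRing (D := ℂ) (F := ℚ)
    ((rootsOfUnity (Nat.card C) ℂ).subtype.comp e.toMonoidHom) ((rootsOfUnity (Nat.card C) ℂ).subtype_injective.comp e.injective))

end Cfsg.Agent.S4299
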