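import Cfsg.Statements.S4300


set_option autoImplicit false
set_option linter.style.haveILetI false
open Cfsg

namespace Cfsg.Agent.S4300

/-- Let G act faithfully and primitively on a set X, and suppose the stabilizer of some point is a simple group. Then either G is simple, or G has a normal subgroup, neither trivial nor the whole group, that acts regularly on X (transitively with trivial point stabilizers). -/
theorem result {G : Type*} [Group G] {X : Type*} [MulAction G X] [FaithfulSMul G X]
    (hprim : MulAction.IsPreprimitive G X) (x : X) (hsimple : IsSimpleGroup (MulAction.stabilizer G x)) :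
    IsSimpleGroup G ∨ ∃ N : Subgroup G, N.Normal ∧ N ≠ ⊥ ∧ N ≠ ⊤ ∧
      MulAction.IsPretransitive N X ∧ ∀ y : X, MulAction.stabilizer N y = ⊥ := by
  haveI := hprim
  haveI := hsimple
  have hX : Nontrivial X := by
    by_contra h
    rw [not_nontrivial_iff_subsingleton] at h
    obtain ⟨g, hg⟩ := exists_ne (1 : MulAction.stabilizer G x)
    exact hg (Subtype.ext (eq_of_smul_eq_smul fun y : X => Subsingleton.elim _ _))
  by_cases hG : IsSimpleGroup G
  · exact Or.inl hG
  right
  haveI : Nontrivial G := by
    obtain ⟨g, hg⟩ := exists_ne (1 : MulAction.stabilizer G x)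
    exact ⟨⟨(g : G), 1, fun e => hg (Subtype.ext e)⟩⟩
  obtain ⟨N, hNn, hN1, hN2⟩ : ∃ N : Subgroup G, N.Normal ∧ N ≠ ⊥ ∧ N ≠ ⊤ := by
    by_contra hcon
    push Not at hcon
    exact hG ⟨fun N hN => or_iff_not_imp_left.2 (hcon N hN)⟩
  haveI := hNn
  have hfix : MulAction.fixedPoints N X ≠ Set.univ := by
    intro h
    refine hN1 (eq_bot_iff.2 fun n hn => Subgroup.mem_bot.2 (eq_of_smul_eq_smul fun y : X => ?_))
    have hy : y ∈ MulAction.fixedPoints N X := h ▸ Set.mem_univ y
    rw [one_smul]
    exact hy ⟨n, hn⟩
  haveI htr : MulAction.IsPretransitive N X :=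
    MulAction.IsQuasiPreprimitive.isPretransitive_of_normal hfix
  refine ⟨N, hNn, hN1, hN2, htr, ?_⟩
  have hx : MulAction.stabilizer N x = ⊥ := by
    rcases IsSimpleGroup.eq_bot_or_eq_top_of_normal (N.subgroupOf (MulAction.stabilizer G x))
      inferInstance with h | h
    · rw [eq_bot_iff]
      intro n hn
      have h2 : (⟨(n : G), hn⟩ : MulAction.stabilizer G x) ∈ N.subgroupOf (MulAction.stabilizer G x) :=
        Subgroup.mem_subgroupOf.2 n.2
      rw [h, Subgroup.mem_bot] at h2
      exact Subgroup.mem_bot.2 (Subtype.ext (congrArg (fun z : MulAction.stabilizer G x => (z : G)) h2))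
    · exfalso
      apply hN2
      rw [eq_top_iff]
      intro g _
      obtain ⟨n, hn⟩ := MulAction.exists_smul_eq N x (g • x)
      have h2 : (n : G)⁻¹ * g ∈ MulAction.stabilizer G x := by
        rw [MulAction.mem_stabilizer_iff, mul_smul, ← hn]
        exact inv_smul_smul (n : G) x
      have h3 : (⟨_, h2⟩ : MulAction.stabilizer G x) ∈ N.subgroupOf (MulAction.stabilizer G x) := by
        rw [h]; exact Subgroup.mem_top _
      have := mul_mem n.2 (Subgroup.mem_subgroupOf.1 h3)
      simpa using this
  intro y
  obtain ⟨n, rfl⟩ := MulAction.exists_smul_eq N x y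
  rw [MulAction.stabilizer_smul_eq_stabilizer_map_conj, hx, Subgroup.map_bot]

end Cfsg.Agent.S4300
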