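import Cfsg.Statements.S4301


set_option autoImplicit false
set_option linter.style.haveILetI false
open Cfsg

namespace Cfsg.Agent.S4301

/-- One-point extension of a multiply transitive group. Let X be a set and G a group of permutations of Option X (the set X with one extra point ∗ = none) all of whose elements fix ∗, such that G is k-transitive on the points of X for some k ≥ 2, X having at least k points. Suppose a permutation h of Option X and an element g of G satisfy: h interchanges ∗ with a point x of X and fixes a point y of X; g interchanges x and y; (g h)³ and h² lie in G; and for every f in G fixing x, the product h f h lies in G and fixes x. Then an element of the group generated by G and h fixes ∗ exactly when it lies in G, and that group acts (k+1)-transitively on Option X. -/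
theorem result {X : Type*} (G : Subgroup (Equiv.Perm (Option X))) (hfix : ∀ f ∈ G, f none = none)
    (k : ℕ) (hk : 2 ≤ k) (hkX : Nonempty (Fin k ↪ X))
    (htrans : ∀ a b : Fin k ↪ X, ∃ f ∈ G, ∀ i, f (some (a i)) = some (b i))
    (h g : Equiv.Perm (Option X)) (hg : g ∈ G) (x y : X)
    (h1 : h none = some x) (h2 : h (some x) = none) (h3 : h (some y) = some y)
    (h4 : g (some x) = some y) (h5 : g (some y) = some x)
    (h6 : (g * h) ^ 3 ∈ G) (h7 : h ^ 2 ∈ G)
    (h8 : ∀ f ∈ G, f (some x) = some x → h * f * h ∈ G ∧ (h * f * h) (some x) = some x) :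
    (∀ f ∈ Subgroup.closure ((G : Set (Equiv.Perm (Option X))) ∪ {h}), f none = none ↔ f ∈ G) ∧
      MulAction.IsMultiplyPretransitive (Subgroup.closure ((G : Set (Equiv.Perm (Option X))) ∪ {h})) (Option X) (k + 1) := by
  classical
  set S := Subgroup.closure ((G : Set (Equiv.Perm (Option X))) ∪ {h})
  have hGS : ∀ f ∈ G, f ∈ S := fun f hf => Subgroup.subset_closure (Or.inl hf)
  have hhS : h ∈ S := Subgroup.subset_closure (Or.inr rfl)
  have hxy : x ≠ y := fun e => by rw [e, h3] at h2; exact absurd h2 (by simp)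
  have htwo : ∀ p q p' q' : X, p ≠ q → p' ≠ q' → ∃ f ∈ G, f (some p) = some p' ∧ f (some q) = some q' := by
    intro p q p' q' hpq hpq'
    obtain ⟨e0⟩ := hkX
    let i0 : Fin k := ⟨0, by omega⟩
    let i1 : Fin k := ⟨1, by omega⟩
    have ext : ∀ p q : X, p ≠ q → ∃ e : Fin k ↪ X, e i0 = p ∧ e i1 = q := by
      intro p q hpq
      let π1 := Equiv.swap (e0 i0) p
      let π2 := Equiv.swap (π1 (e0 i1)) q
      refine ⟨e0.trans (π1.trans π2).toEmbedding, ?_, by simp [π2]⟩
      show π2 (π1 (e0 i0)) = p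
      rw [show π1 (e0 i0) = p from Equiv.swap_apply_left _ _]
      refine Equiv.swap_apply_of_ne_of_ne ?_ hpq
      intro e
      have : π1 (e0 i0) = π1 (e0 i1) := by rw [← e]; exact Equiv.swap_apply_left _ _
      exact absurd (e0.injective (π1.injective this)) (by simp [i0, i1, Fin.ext_iff])
    obtain ⟨a, ha0, ha1⟩ := ext p q hpq
    obtain ⟨b, hb0, hb1⟩ := ext p' q' hpq'
    obtain ⟨f, hf, hfab⟩ := htrans a b
    exact ⟨f, hf, by rw [← ha0, ← hb0, hfab], by rw [← ha1, ← hb1, hfab]⟩
  have hhh : (h ^ 2) (some x) = some x := by rw [pow_two, Equiv.Perm.mul_apply, h2, h1]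
  -- the double coset of `h`
  let D : Set (Equiv.Perm (Option X)) := {m | ∃ a ∈ G, ∃ b ∈ G, m = a * h * b}
  have hinv : h⁻¹ = h * (h ^ 2)⁻¹ := by group
  have key : ∀ f ∈ G, h * f * h ∈ G ∨ h * f * h ∈ D := by
    intro f hf
    by_cases hfx : f (some x) = some x
    · exact Or.inl (h8 f hf hfx).1
    · obtain ⟨z, hz⟩ : ∃ z, f (some x) = some z := by
        rcases e : f (some x) with _ | z
        · exact absurd (f.injective (e.trans (hfix f hf).symm)) (by simp)
        · exact ⟨z, rfl⟩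
      have hzx : z ≠ x := fun e => hfx (by rw [hz, e])
      obtain ⟨a, ha, hax, hay⟩ := htwo x y x z hxy (Ne.symm hzx)
      set b := g⁻¹ * a⁻¹ * f
      have hb : b ∈ G := G.mul_mem (G.mul_mem (G.inv_mem hg) (G.inv_mem ha)) hf
      have hbx : b (some x) = some x := by
        show g.symm (a.symm (f (some x))) = some x
        rw [hz, ← hay, Equiv.symm_apply_apply, ← h4, Equiv.symm_apply_apply]
      have e1 : h * f * h = (h * a * h) * ((h ^ 2)⁻¹ * (h * g * h) * (h ^ 2)⁻¹) * (h * b * h) := by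
        simp only [b]; group
      have e2 : h * g * h = g⁻¹ * (g * h) ^ 3 * (h ^ 2)⁻¹ * h * g⁻¹ := by
        simp only [pow_succ, pow_zero, one_mul]; group
      refine Or.inr ⟨(h * a * h) * (h ^ 2)⁻¹ * (g⁻¹ * (g * h) ^ 3 * (h ^ 2)⁻¹), ?_, g⁻¹ * (h ^ 2)⁻¹ * (h * b * h), ?_, ?_⟩
      · exact G.mul_mem (G.mul_mem (h8 a ha hax).1 (G.inv_mem h7)) (G.mul_mem (G.mul_mem (G.inv_mem hg) h6) (G.inv_mem h7))
      · exact G.mul_mem (G.mul_mem (G.inv_mem hg) (G.inv_mem h7)) (h8 b hb hbx).1
      · rw [e1, e2]; simp only [mul_assoc]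
  let M : Subgroup (Equiv.Perm (Option X)) :=
    { carrier := (G : Set (Equiv.Perm (Option X))) ∪ D
      one_mem' := Or.inl G.one_mem
      mul_mem' := by
        rintro u v (hu | ⟨a, ha, b, hb, rfl⟩) (hv | ⟨c, hc, d, hd, rfl⟩)
        · exact Or.inl (G.mul_mem hu hv)
        · exact Or.inr ⟨u * c, G.mul_mem hu hc, d, hd, by group⟩
        · exact Or.inr ⟨a, ha, b * v, G.mul_mem hb hv, by group⟩
        · have e : a * h * b * (c * h * d) = a * (h * (b * c) * h) * d := by group
          rw [e]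
          rcases key (b * c) (G.mul_mem hb hc) with h' | ⟨a', ha', b', hb', h'⟩
          · exact Or.inl (G.mul_mem (G.mul_mem ha h') hd)
          · exact Or.inr ⟨a * a', G.mul_mem ha ha', b' * d, G.mul_mem hb' hd, by rw [h']; group⟩
      inv_mem' := by
        rintro u (hu | ⟨a, ha, b, hb, rfl⟩)
        · exact Or.inl (G.inv_mem hu)
        · exact Or.inr ⟨b⁻¹, G.inv_mem hb, (h ^ 2)⁻¹ * a⁻¹, G.mul_mem (G.inv_mem h7) (G.inv_mem ha), by rw [mul_inv_rev, mul_inv_rev, hinv]; group⟩ }
  have hSM : S ≤ M := (Subgroup.closure_le M).2 (by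
    rintro u (hu | rfl)
    · exact Or.inl hu
    · exact Or.inr ⟨1, G.one_mem, 1, G.one_mem, by simp⟩)
  have hstab : ∀ f ∈ S, f none = none ↔ f ∈ G := by
    refine fun f hf => ⟨fun hfn => ?_, hfix f⟩
    rcases hSM hf with h' | ⟨a, ha, b, hb, rfl⟩
    · exact h'
    · exfalso
      rw [Equiv.Perm.mul_apply, Equiv.Perm.mul_apply, hfix b hb, h1] at hfn
      exact absurd (a.injective (hfn.trans (hfix a ha).symm)) (by simp)
  refine ⟨hstab, ⟨fun a b => ?_⟩⟩
  -- transitivity
  have hto : ∀ o : Option X, ∃ f ∈ S, f o = none := by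
    rintro (_ | p)
    · exact ⟨1, S.one_mem, rfl⟩
    · by_cases hp : p = x
      · exact ⟨h, hhS, hp ▸ h2⟩
      · obtain ⟨f, hf, hfp, -⟩ := htwo p x x p hp (Ne.symm hp)
        exact ⟨h * f, S.mul_mem hhS (hGS f hf), by rw [Equiv.Perm.mul_apply, hfp, h2]⟩
  obtain ⟨u, hu, hu0⟩ := hto (a 0)
  obtain ⟨v, hv, hv0⟩ := hto (b 0)
  have hsome : ∀ (w : Equiv.Perm (Option X)) (c : Fin (k + 1) ↪ Option X), w (c 0) = none → ∀ i : Fin k, ∃ p, w (c i.succ) = some p := by
    intro w c hw i
    rcases e : w (c i.succ) with _ | p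
    · exact absurd (c.injective (w.injective (e.trans hw.symm))) (Fin.succ_ne_zero i)
    · exact ⟨p, rfl⟩
  choose pa hpa using hsome u a hu0
  choose pb hpb using hsome v b hv0
  have inj : ∀ (w : Equiv.Perm (Option X)) (c : Fin (k + 1) ↪ Option X) (p : Fin k → X), (∀ i, w (c i.succ) = some (p i)) → Function.Injective p :=
    fun w c p hp i j e => Fin.succ_injective _ (c.injective (w.injective (by rw [hp, hp, e])))
  obtain ⟨f, hf, hfab⟩ := htrans ⟨pa, inj u a pa hpa⟩ ⟨pb, inj v b pb hpb⟩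
  refine ⟨⟨v⁻¹ * f * u, S.mul_mem (S.mul_mem (S.inv_mem hv) (hGS f hf)) hu⟩, ?_⟩
  ext i : 1
  show v.symm (f (u (a i))) = b i
  rw [Equiv.symm_apply_eq]
  rcases Fin.eq_zero_or_eq_succ i with rfl | ⟨j, rfl⟩
  · rw [hu0, hfix f hf, hv0]
  · rw [hpa, hpb]; exact hfab j

end Cfsg.Agent.S4301
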