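import Cfsg.Statements.S4303

import Cfsg.Agent.Perm.SylowProduct

set_option autoImplicit false
set_option linter.style.haveILetI false
universe u
open Cfsg

namespace Cfsg.Agent.S4303

/-- A number which is a product of prime powers congruent to `1` and Sylow numbers of simple groups. -/
def Good (p m : ℕ) : Prop :=
  ∃ l : List ℕ, l.prod = m ∧ ∀ m ∈ l, (IsPrimePow m ∧ m % p = 1) ∨
    ∃ (S : Type u) (_ : Group S) (_ : Finite S), IsSimpleGroup S ∧ m = Nat.card (Sylow p S)

theorem Good.mul {p a b : ℕ} (ha : Good.{u} p a) (hb : Good.{u} p b) : Good.{u} p (a * b) := by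
  obtain ⟨l, hl, hl'⟩ := ha
  obtain ⟨l', hl2, hl2'⟩ := hb
  exact ⟨l ++ l', by rw [List.prod_append, hl, hl2], fun m hm => (List.mem_append.1 hm).elim (hl' m) (hl2' m)⟩

theorem good_of_modEq {p n : ℕ} [Fact p.Prime] (hn : n ≠ 0)
    (h : ∀ ℓ : ℕ, ℓ.Prime → ℓ ^ n.factorization ℓ ≡ 1 [MOD p]) : Good.{u} p n := by
  refine ⟨n.primeFactors.toList.map (fun ℓ => ℓ ^ n.factorization ℓ), ?_, fun m hm => Or.inl ?_⟩
  · rw [Finset.prod_map_toList]
    exact Nat.prod_factorization_pow_eq_self hn
  · obtain ⟨ℓ, hℓ, rfl⟩ := List.mem_map.1 hm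
    rw [Finset.mem_toList] at hℓ
    have hℓp := (Nat.mem_primeFactors.1 hℓ).1
    refine ⟨⟨ℓ, n.factorization ℓ, hℓp.prime, hℓp.factorization_pos_of_dvd hn (Nat.mem_primeFactors.1 hℓ).2.1, rfl⟩, ?_⟩
    have := h ℓ hℓp
    rw [Nat.ModEq, Nat.mod_eq_of_lt (Fact.out : p.Prime).one_lt] at this
    exact this

theorem good_all (p : ℕ) [Fact p.Prime] :
    ∀ n : ℕ, ∀ (G : Type u) [Group G] [Finite G], Nat.card G = n → Good.{u} p (Nat.card (Sylow p G)) := by
  intro n
  induction n using Nat.strong_induction_on with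
  | _ n ih =>
    intro G _ _ hn
    obtain ⟨P⟩ : Nonempty (Sylow p G) := inferInstance
    rcases subsingleton_or_nontrivial G with hs | hs
    · haveI : Subsingleton (Sylow p G) := ⟨fun a b => Sylow.ext (Subsingleton.elim _ _)⟩
      rw [Nat.card_of_subsingleton P]
      exact ⟨[], rfl, by simp⟩
    obtain ⟨N, hN⟩ := CfsgLib.Solv.exists_isMinimalNormal (G := G)
    haveI := hN.1
    by_cases hNt : N = ⊤
    · refine ⟨[Nat.card (Sylow p G)], by simp, fun m hm => ?_⟩
      rw [List.mem_singleton] at hm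
      haveI : IsSimpleGroup G := ⟨fun H hH => by
        rcases hN.2.2 H hH (hNt ▸ le_top) with h | h
        · exact Or.inl h
        · exact Or.inr (h.trans hNt)⟩
      exact Or.inr ⟨G, inferInstance, inferInstance, inferInstance, hm⟩
    set Q := (P : Subgroup G) ⊓ N with hQ
    set T := ((P : Subgroup G) ⊔ N) ⊓ Subgroup.normalizer (Q : Set G) with hT
    haveI hTn : (Q.subgroupOf T).Normal := Subgroup.normal_subgroupOf_of_le_normalizer inf_le_right
    rw [CfsgLib.Perm.SylowNumber.card_sylow_eq_mul_sup P N, CfsgLib.Perm.SylowNumber.card_sylow_sup P N T hT]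
    have hlt1 : Nat.card (G ⧸ N) < n := by
      rw [← hn, ← Subgroup.index_eq_card, ← N.card_mul_index]
      exact lt_mul_left (Nat.pos_of_ne_zero Subgroup.index_ne_zero_of_finite) (by
        rw [Subgroup.one_lt_card_iff_ne_bot]; exact hN.2.1)
    have hlt2 : Nat.card N < n := by
      rw [← hn]
      exact lt_of_le_of_ne (Subgroup.card_le_card_group N) fun h => hNt (Subgroup.eq_top_of_card_eq N h)
    refine (ih _ hlt1 (G ⧸ N) rfl).mul ((ih _ hlt2 N rfl).mul (good_of_modEq Nat.card_pos.ne' fun ℓ hℓ => ?_))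
    set π := QuotientGroup.mk' (Q.subgroupOf T)
    haveI : ((N.subgroupOf T).map π).Normal := Subgroup.Normal.map inferInstance π (QuotientGroup.mk'_surjective _)
    refine CfsgLib.Perm.SylowNumber.factorization_modEq ((N.subgroupOf T).map π) ?_ ?_ ℓ hℓ
    · -- the image of `N` has order prime to `p`
      have hQT : Q ≤ T := hT ▸ le_inf (inf_le_left.trans le_sup_left) Subgroup.le_normalizer
      have h1 : Nat.card ↥((N.subgroupOf T).map π) = Q.relIndex (N ⊓ T) := by
        rw [← Subgroup.relIndex_ker, QuotientGroup.ker_mk', ← Subgroup.inf_subgroupOf_right N T,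
          Subgroup.relIndex_subgroupOf inf_le_right]
      rw [h1]
      intro h2
      refine P.not_dvd_index ((h2.trans ?_).trans (CfsgLib.Solv.relIndex_normal_dvd_index (P : Subgroup G) N))
      rw [← Subgroup.inf_relIndex_right (P : Subgroup G) N]
      exact ⟨(N ⊓ T).relIndex N, (Subgroup.relIndex_mul_relIndex _ _ _ (le_inf inf_le_right hQT) inf_le_left).symm⟩
    · -- the quotient is a `p`-group
      rw [Subgroup.index_map_eq _ (QuotientGroup.mk'_surjective _) (by
        rw [QuotientGroup.ker_mk']; exact fun x hx => (inf_le_right : Q ≤ N) hx)]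
      show ∃ k, N.relIndex T = p ^ k
      have h1 : N.relIndex T = Nat.card ↥(T.map (QuotientGroup.mk' N)) := by
        rw [← Subgroup.relIndex_ker, QuotientGroup.ker_mk']
      have h2 : T.map (QuotientGroup.mk' N) ≤ (P : Subgroup G).map (QuotientGroup.mk' N) := by
        refine (Subgroup.map_mono (hT ▸ inf_le_left)).trans ?_
        rw [Subgroup.map_sup, (Subgroup.map_eq_bot_iff N).2 (by rw [QuotientGroup.ker_mk']), sup_bot_eq]
      rw [h1]
      exact IsPGroup.iff_card.1 ((P.2.map _).to_le h2)

/-- For a finite group `G` and a prime `p`, the number of Sylow `p`-subgroups of `G` is a product of natural numbers each of which is either a prime power congruent to 1 modulo `p` or the number of Sylow `p`-subgroups of some finite simple group. -/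
theorem result {G : Type u} [Group G] [Finite G]
    (p : ℕ) [Fact p.Prime] :
    ∃ l : List ℕ, l.prod = Nat.card (Sylow p G) ∧
      ∀ m ∈ l, (IsPrimePow m ∧ m % p = 1) ∨
        ∃ (S : Type u) (_ : Group S) (_ : Finite S), IsSimpleGroup S ∧ m = Nat.card (Sylow p S) := good_all p _ G rfl

end Cfsg.Agent.S4303
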