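import Cfsg.Statements.S4304
import Cfsg.Agent.Perm.SylowNumber

set_option autoImplicit false
set_option linter.style.haveILetI false
open Cfsg

namespace Cfsg.Agent.S4304

--- pre
open CfsgLib.Perm.SylowNumber

universe u

theorem sign_involution {α : Type*} [Fintype α] [DecidableEq α] (σ : Equiv.Perm α) (hσ : σ ^ 2 = 1) :
    Equiv.Perm.sign σ = (-1) ^ ((Fintype.card α - Fintype.card (Function.fixedPoints σ)) / 2) := by
  have h : ∀ n ∈ σ.cycleType, n = 2 := fun n hn => by
    have h1 : n ∣ orderOf σ := Equiv.Perm.lcm_cycleType σ ▸ Multiset.dvd_lcm hn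
    have h2 := Nat.le_of_dvd (by norm_num) (h1.trans (orderOf_dvd_of_pow_eq_one hσ))
    have h3 := Equiv.Perm.two_le_of_mem_cycleType hn
    omega
  have h' := Equiv.Perm.sign_of_cycleType_eq_replicate (σ := σ) (n := 2) two_pos
    (Multiset.eq_replicate.2 ⟨rfl, h⟩)
  rw [if_neg (by decide)] at h'
  exact h'

theorem centralizer_card_eq {G : Type*} [Group G] [Finite G] [Fact (Nat.Prime 7)]
    (h : Reduced 7 G) (hG : Nat.card G ≠ 2) (h15 : Nat.card (Sylow 7 G) = 15) (P : Sylow 7 G)
    (hP : Nat.card (P : Subgroup G) = 7) :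
    Nat.card (Subgroup.centralizer ((P : Subgroup G) : Set G)) = 7 := by
  classical
  haveI := Fintype.ofFinite (Sylow 7 G)
  set C := Subgroup.centralizer ((P : Subgroup G) : Set G)
  have hPC : ∀ x ∈ (P : Subgroup G), ∀ c ∈ C, c * x = x * c := fun x hx c hc =>
    (Subgroup.mem_centralizer_iff.1 hc x hx).symm
  have hPleC : (P : Subgroup G) ≤ C := by
    intro x hx
    haveI := isCyclic_of_prime_card hP
    exact Subgroup.mem_centralizer_iff.2 fun y hy =>
      congrArg Subtype.val (IsCyclic.commGroup.mul_comm (⟨y, hy⟩ : (P : Subgroup G)) ⟨x, hx⟩)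
  have hCP : ∀ c ∈ C, c • P = P := fun c hc => Sylow.smul_eq_iff_mem_normalizer.2
    (Subgroup.centralizer_le_normalizer _ hc)
  obtain ⟨Q, hQ⟩ : ∃ Q : Sylow 7 G, Q ≠ P := by
    haveI : Nontrivial (Sylow 7 G) := Finite.one_lt_card_iff_nontrivial.1 (h15 ▸ by norm_num)
    exact exists_ne P
  -- non-trivial elements of `P` fix `P` only
  have hfix : ∀ x ∈ (P : Subgroup G), x ≠ 1 → ∀ Z : Sylow 7 G, x • Z = Z → Z = P := by
    intro x hx hx1 Z hZ
    have h1 : Subgroup.zpowers x = (P : Subgroup G) := by
      refine Subgroup.eq_of_le_of_card_ge (Subgroup.zpowers_le.2 hx) ?_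
      have h2 := Subgroup.card_dvd_of_le (Subgroup.zpowers_le.2 hx)
      rw [hP] at h2 ⊢
      rcases (Nat.dvd_prime (by norm_num)).1 h2 with h3 | h3
      · exact absurd (Subgroup.zpowers_eq_bot.1 (Subgroup.card_eq_one.1 h3)) hx1
      · exact h3.ge
    have h2 : (P : Subgroup G) ≤ (P : Subgroup G) ⊓ Subgroup.normalizer ((Z : Subgroup G) : Set G) :=
      le_inf le_rfl (h1 ▸ Subgroup.zpowers_le.2 (Sylow.smul_eq_iff_mem_normalizer.1 hZ))
    exact Sylow.ext (P.3 Z.2 ((h2.trans (P.2.inf_normalizer_sylow Z).le).trans inf_le_right))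
  -- an element of the centralizer fixing `Q` is trivial
  have hfree : ∀ u ∈ C, u • Q = Q → u = 1 := by
    intro u hu huQ
    set O := MulAction.orbit (P : Subgroup G) Q
    have hO : ∀ Z ∈ O, u • Z = Z := by
      rintro _ ⟨x, rfl⟩
      show u • ((x : G) • Q) = (x : G) • Q
      rw [smul_smul, hPC x x.2 u hu, ← smul_smul, huQ]
    have hOcard : ∀ Z : Sylow 7 G, Z ≠ P → (MulAction.orbit (P : Subgroup G) Z).ncard = 7 := by
      intro Z hZ
      rw [← MulAction.index_stabilizer]
      refine Eq.trans ?_ hP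
      rw [← Subgroup.index_bot]
      congr 1
      rw [Subgroup.eq_bot_iff_forall]
      intro x hx
      by_contra hx1
      exact hZ (hfix x x.2 (fun e => hx1 (Subtype.ext e)) Z hx)
    -- the seventh power fixes everything
    have h7 : u ^ 7 = 1 := by
      refine h.1 _ fun Z => ?_
      by_cases hZP : Z = P
      · rw [hZP]; exact hCP _ (C.pow_mem hu 7)
      by_cases hZO : Z ∈ O
      · exact MulAction.mem_stabilizer_iff.1
          ((MulAction.stabilizer G Z).pow_mem (hO Z hZO) 7)
      · -- `u` maps `Z` into its orbit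
        have huZ : u • Z ∈ MulAction.orbit (P : Subgroup G) Z := by
          by_contra hno
          have hne : u • Z ≠ P := fun e => hZP (MulAction.injective u (e.trans (hCP u hu).symm))
          have hnoO : u • Z ∉ O := fun e => hZO (by
            have := hO _ e
            exact MulAction.injective u this ▸ e)
          have hdis : Disjoint (MulAction.orbit (P : Subgroup G) Z) O := by
            rw [Set.disjoint_left]
            intro W h1 h2
            refine hZO ?_
            show Z ∈ MulAction.orbit _ Q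
            rw [← MulAction.orbit_eq_iff.2 h2, MulAction.orbit_eq_iff.2 h1]
            exact MulAction.mem_orbit_self Z
          have hsub : insert P (insert (u • Z) (MulAction.orbit (P : Subgroup G) Z ∪ O)) ⊆
              (Set.univ : Set (Sylow 7 G)) := Set.subset_univ _
          have h1 := Set.ncard_le_ncard hsub
          have hPn : ∀ W : Sylow 7 G, W ≠ P → P ∉ MulAction.orbit (P : Subgroup G) W := by
            rintro W hW ⟨x, hx⟩
            have hxP : (x : G) • P = P :=
              Sylow.smul_eq_iff_mem_normalizer.2 (Subgroup.le_normalizer x.2)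
            exact hW (MulAction.injective (x : G) (hx.trans hxP.symm))
          rw [Set.ncard_insert_of_notMem, Set.ncard_insert_of_notMem,
            Set.ncard_union_eq hdis, hOcard Z hZP, hOcard Q hQ, Set.ncard_univ, h15] at h1
          · omega
          · exact fun h' => h'.elim hno hnoO
          · intro h'
            rcases h' with h' | h' | h'
            · exact hne h'.symm
            · exact hPn Z hZP h'
            · exact hPn Q hQ h'
        obtain ⟨x, hx⟩ := huZ
        have hpow : ∀ j : ℕ, u ^ j • Z = (x : G) ^ j • Z := by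
          intro j
          induction j with
          | zero => simp
          | succ j ih =>
            rw [pow_succ', mul_smul, ih, smul_smul,
              (Commute.pow_right (hPC x x.2 u hu : Commute u (x : G)) j).eq, mul_smul,
              show u • Z = (x : G) • Z from hx.symm, smul_smul, ← pow_succ]
        have hx7 : x ^ Nat.card (P : Subgroup G) = 1 := pow_card_eq_one'
        rw [hP] at hx7
        rw [hpow, ← SubmonoidClass.coe_pow, hx7, OneMemClass.coe_one, one_smul]
    have huP : u ∈ (P : Subgroup G) := by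
      have hup : IsPGroup 7 (Subgroup.zpowers u) := by
        intro v
        obtain ⟨i, hi⟩ := Subgroup.mem_zpowers_iff.1 v.2
        refine ⟨1, Subtype.ext ?_⟩
        rw [pow_one, SubmonoidClass.coe_pow, ← hi, OneMemClass.coe_one, ← zpow_natCast, ← zpow_mul,
          mul_comm, zpow_mul, zpow_natCast, h7, one_zpow]
      have h1 : u ∈ Subgroup.zpowers u ⊓ Subgroup.normalizer ((P : Subgroup G) : Set G) :=
        ⟨Subgroup.mem_zpowers u, Subgroup.centralizer_le_normalizer _ hu⟩
      exact ((hup.inf_normalizer_sylow P).le h1).2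
    by_contra hu1
    exact hQ (hfix u huP hu1 Q huQ)
  have hcard : Nat.card C = (MulAction.orbit C Q).ncard := by
    rw [← MulAction.index_stabilizer, ← Subgroup.index_bot]
    congr 1
    symm
    rw [Subgroup.eq_bot_iff_forall]
    exact fun u hu => Subtype.ext (hfree u u.2 hu)
  have hlt : Nat.card C ≤ 14 := by
    rw [hcard]
    have h1 : MulAction.orbit C Q ⊆ (Set.univ : Set (Sylow 7 G)) \ {P} := by
      rintro _ ⟨u, rfl⟩
      exact ⟨trivial, fun e => hQ (MulAction.injective (u : G) (e.trans (hCP u u.2).symm))⟩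
    refine (Set.ncard_le_ncard h1).trans ?_
    rw [Set.ncard_diff_singleton_of_mem (Set.mem_univ P), Set.ncard_univ, h15]
  have h7 : 7 ∣ Nat.card C := hP ▸ Subgroup.card_dvd_of_le hPleC
  rcases (show Nat.card C = 7 ∨ Nat.card C = 14 by
    have := Nat.card_pos (α := C); omega) with h1 | h1
  · exact h1
  exfalso
  obtain ⟨t, ht⟩ := exists_prime_orderOf_dvd_card' (G := C) 2 (h1 ▸ by norm_num)
  have ht2 : (t : G) ^ 2 = 1 := by rw [← ht, ← Subgroup.orderOf_coe, pow_orderOf_eq_one]
  have htfix : ∀ Z : Sylow 7 G, (t : G) • Z = Z → Z = P := by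
    intro Z hZ
    by_contra hZP
    have hstab : ((MulAction.stabilizer C Q).index = Nat.card C) := by
      rw [MulAction.index_stabilizer, hcard]
    have horb : MulAction.orbit C Q = (Set.univ : Set (Sylow 7 G)) \ {P} := by
      refine Set.eq_of_subset_of_ncard_le ?_ ?_
      · rintro _ ⟨u, rfl⟩
        exact ⟨trivial, fun e => hQ (MulAction.injective (u : G) (e.trans (hCP u u.2).symm))⟩
      · rw [← hcard, h1, Set.ncard_diff_singleton_of_mem (Set.mem_univ P), Set.ncard_univ, h15]
    obtain ⟨u, hu⟩ : Z ∈ MulAction.orbit C Q := horb ▸ ⟨trivial, hZP⟩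
    have hu' : ((u : G)⁻¹ * t * u) • Q = Q := by
      rw [mul_smul, mul_smul, show (u : G) • Q = Z from hu, hZ,
        ← show (u : G) • Q = Z from hu, inv_smul_smul]
    have := hfree _ (C.mul_mem (C.mul_mem (C.inv_mem u.2) t.2) u.2) hu'
    have ht1 : (t : G) = 1 := by
      calc (t : G) = (u : G) * ((u : G)⁻¹ * t * u) * (u : G)⁻¹ := by group
        _ = 1 := by rw [this, mul_one, mul_inv_cancel]
    exact (Nat.prime_two.ne_one (by rw [← ht, orderOf_eq_one_iff]; exact Subtype.ext ht1))
  have hs := h.sign_eq_one (by norm_num) hG (t : G)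
  rw [sign_involution _ (by
    ext Z
    rw [pow_two, Equiv.Perm.mul_apply, MulAction.toPerm_apply, MulAction.toPerm_apply, smul_smul,
      ← pow_two, ht2, one_smul, Equiv.Perm.one_apply])] at hs
  have hone : Fintype.card (Function.fixedPoints (MulAction.toPerm (t : G) : Equiv.Perm (Sylow 7 G)))
      = 1 := Fintype.card_eq_one_iff.2 ⟨⟨P, hCP _ t.2⟩, fun Z => Subtype.ext (htfix Z.1 Z.2)⟩
  rw [hone, ← Nat.card_eq_fintype_card, h15] at hs
  exact absurd hs (by decide)

theorem key (G : Type u) [Group G] [Finite G] [Fact (Nat.Prime 7)] (h : Reduced 7 G) :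
    Nat.card (Sylow 7 G) ≠ 15 := by
  intro h15
  haveI : Fact (Nat.Prime 5) := ⟨by norm_num⟩
  obtain ⟨P⟩ := (inferInstance : Nonempty (Sylow 7 G))
  have hP : Nat.card (P : Subgroup G) = 7 :=
    card_sylow_eq_prime_of_small h.1 (h15 ▸ by norm_num)
      (fun A B hAB => mul_card_inf_eq (h15 ▸ by norm_num) hAB) (h15 ▸ by norm_num) P
  set N := Subgroup.normalizer ((P : Subgroup G) : Set G)
  have hG2 : Nat.card G ≠ 2 := fun e => by
    have := ((index_normalizer P).trans h15) ▸ N.index_dvd_card
    rw [e] at this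
    norm_num at this
  have hC := centralizer_card_eq h hG2 h15 P hP
  have hN : Nat.card N ∣ 42 := by
    have h1 := CfsgLib.Solv.relIndex_mul_card (Subgroup.centralizer_le_normalizer _ :
      Subgroup.centralizer ((P : Subgroup G) : Set G) ≤ N)
    rw [← h1, hC]
    exact Nat.mul_dvd_mul_left 7 (relIndex_centralizer_dvd (P : Subgroup G) hP)
  have hG : Nat.card G = 15 * Nat.card N := by
    rw [← N.card_mul_index, index_normalizer P, h15, mul_comm]
  obtain ⟨e, he⟩ := hN
  have h7 : 7 ∣ Nat.card N := hP ▸ Subgroup.card_dvd_of_le Subgroup.le_normalizer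
  have hdiv : ¬ 4 ∣ Nat.card G := by
    intro h4
    rw [hG] at h4
    have h5 : 4 ∣ Nat.card N := (by norm_num : Nat.Coprime 4 15).dvd_of_dvd_mul_left h4
    have := h5.trans (Dvd.intro e he.symm)
    norm_num at this
  have hodd : ¬ 2 ∣ Nat.card G := fun h2 => hdiv (h.four_dvd (by norm_num) hG2 h2)
  obtain ⟨Q⟩ := (inferInstance : Nonempty (Sylow 5 G))
  have hQ : Nat.card (Q : Subgroup G) = 5 := by
    obtain ⟨k, hk⟩ := IsPGroup.iff_card.1 Q.2
    have h1 : 5 ∣ Nat.card (Q : Subgroup G) := Q.dvd_card_of_dvd_card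
      (hG ▸ dvd_mul_of_dvd_left (by norm_num : 5 ∣ 15) _)
    have h2 := (Q : Subgroup G).card_subgroup_dvd_card
    rw [hk] at h1 h2 ⊢
    match k with
    | 0 => norm_num at h1
    | 1 => rfl
    | k + 2 =>
      exfalso
      have h3 : 25 ∣ 15 * Nat.card N := hG ▸ dvd_trans (pow_dvd_pow 5 (Nat.le_add_left 2 k)) h2
      have h4 : 25 ∣ 15 * 42 := h3.trans (Nat.mul_dvd_mul_left 15 ⟨e, he⟩)
      norm_num at h4
  refine h.false_of_sylow_prime (by norm_num) Q hQ (fun e5 => ?_) ?_
  · rw [hG] at e5; omega
  · have : Nat.Coprime (Nat.card G) (2 ^ 2) :=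
      ((Nat.prime_two.coprime_iff_not_dvd.2 hodd).symm).pow_right 2
    exact this

/-- No finite group has exactly 15 Sylow 7-subgroups. -/
theorem result {G : Type*} [Group G] [Finite G] : Nat.card (Sylow 7 G) ≠ 15 := by
  haveI : Fact (Nat.Prime 7) := ⟨by norm_num⟩
  refine card_sylow_ne_of_reduced (by norm_num) ?_ (fun G _ _ h => key G h) _ G rfl
  intro a b hab ha hb
  have h1 : a ∈ Nat.divisors 15 := Nat.mem_divisors.2 ⟨Dvd.intro b hab, by norm_num⟩
  rw [show Nat.divisors 15 = {1, 3, 5, 15} by decide] at h1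
  simp only [Finset.mem_insert, Finset.mem_singleton] at h1
  unfold Nat.ModEq at ha hb
  rcases h1 with rfl | rfl | rfl | rfl <;> omega

end Cfsg.Agent.S4304
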