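import Cfsg.Statements.S4309
import Cfsg.Agent.Perm.Basic

set_option autoImplicit false
set_option linter.style.haveILetI false
open Cfsg

namespace Cfsg.Agent.S4309

/-- Let `π` be a set of primes, `G` a finite group with a Hall `π`-subgroup `H` (every prime divisor of the order of `H` lies in `π` and no prime of `π` divides its index), and `A` a normal subgroup of `G`. Then `H ∩ A` is a Hall `π`-subgroup of `A` and the image of `H` in `G/A` is a Hall `π`-subgroup of `G/A`. -/
theorem result {G : Type*} [Group G] [Finite G] (π : Set ℕ)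
    (H A : Subgroup G) [A.Normal] (hH : Cfsg.IsPiHall π H) :
    Cfsg.IsPiHall π ((H ⊓ A).subgroupOf A) ∧ Cfsg.IsPiHall π (H.map (QuotientGroup.mk' A)) := by
  obtain ⟨h1, h2⟩ := hH
  have hcard : Nat.card ((H ⊓ A).subgroupOf A) = Nat.card (H ⊓ A : Subgroup G) :=
    CfsgLib.Solv.card_subgroupOf inf_le_right
  refine ⟨⟨fun p hp hpd => h1 p hp ?_, fun p hp hpπ hpd => h2 p hp hpπ ?_⟩,
    fun p hp hpd => h1 p hp ?_, fun p hp hpπ hpd => h2 p hp hpπ ?_⟩
  · exact (hcard ▸ hpd).trans (Subgroup.card_dvd_of_le inf_le_left)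
  · refine hpd.trans ?_
    show (H ⊓ A).relIndex A ∣ H.index
    rw [Subgroup.inf_relIndex_right, ← CfsgLib.Perm.relIndex_sup_eq_of_normal]
    exact Subgroup.relIndex_dvd_index_of_le le_sup_left
  · exact hpd.trans (H.card_map_dvd _)
  · exact hpd.trans (H.index_map_dvd (QuotientGroup.mk'_surjective A))

end Cfsg.Agent.S4309
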