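import Cfsg.Statements.S4314

import Mathlib

set_option autoImplicit false
set_option linter.style.haveILetI false
open Cfsg

namespace Cfsg.Agent.S4314
open scoped commutatorElement
open scoped Pointwise

/-- Let `G` be a finite group every conjugacy class of which has size 1 or a prime. Then either `G` is nilpotent of class at most 2, or `G/Z(G)` is a non-abelian group of order `pq` for distinct primes `p, q` (a Frobenius group of order `pq`). -/
theorem result {G : Type*} [Group G] [Finite G]
    (h : ∀ x : G, (Subgroup.centralizer ({x} : Set G)).index = 1 ∨ ((Subgroup.centralizer ({x} : Set G)).index).Prime) :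
    Subgroup.upperCentralSeries G 2 = ⊤ ∨
      ∃ p q : ℕ, p.Prime ∧ q.Prime ∧ p ≠ q ∧ Nat.card (G ⧸ Subgroup.center G) = p * q ∧ ¬ IsMulCommutative (G ⧸ Subgroup.center G) := by
  classical
  by_cases hall : ∀ x : G, (Subgroup.centralizer ({x} : Set G)).Normal
  · left
    have hcen : ∀ a b : G, ⁅a, b⁆ ∈ Subgroup.center G := by
      intro a b
      rw [Subgroup.mem_center_iff]
      intro x
      set C := Subgroup.centralizer ({x} : Set G) with hC
      haveI := hall x
      have hmem : ⁅a, b⁆ ∈ C := by
        rw [← QuotientGroup.eq_one_iff]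
        show QuotientGroup.mk' C ⁅a, b⁆ = 1
        rw [map_commutatorElement, commutatorElement_eq_one_iff_mul_comm]
        haveI : IsCyclic (G ⧸ C) := by
          rcases h x with h1 | h1
          · haveI : Subsingleton (G ⧸ C) := QuotientGroup.subsingleton_iff.mpr (Subgroup.index_eq_one.mp h1)
            exact isCyclic_of_subsingleton
          · haveI := Fact.mk h1
            exact isCyclic_of_prime_card (p := C.index) rfl
        exact (IsCyclic.isMulCommutative (α := G ⧸ C)).is_comm.comm _ _
      exact (Subgroup.mem_centralizer_singleton_iff.mp hmem).symm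
    refine eq_top_iff.mpr fun a _ => ?_
    rw [Subgroup.mem_upperCentralSeries_succ_iff]
    intro b
    rw [Subgroup.upperCentralSeries_one]
    exact hcen a b
  right
  push Not at hall
  obtain ⟨x₀, hx₀⟩ := hall
  set C := Subgroup.centralizer ({x₀} : Set G) with hCdef
  have hpidx : C.index.Prime := (h x₀).resolve_left fun h1 => hx₀ (by
    rw [hCdef, Subgroup.index_eq_one.mp h1]; infer_instance)
  set p := C.index with hp
  haveI : Fact p.Prime := ⟨hpidx⟩
  set K := C.normalCore with hK
  have hKC : K ≤ C := Subgroup.normalCore_le C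
  let φ := MulAction.toPermHom G (G ⧸ C)
  have hker : φ.ker = K := (Subgroup.normalCore_eq_ker C).symm
  haveI : K.Normal := Subgroup.normalCore_normal C
  have hpK : p ∣ K.index := Subgroup.index_dvd_of_le hKC
  obtain ⟨cbar, hcbar⟩ := exists_prime_orderOf_dvd_card' (G := G ⧸ K) p hpK
  obtain ⟨c, rfl⟩ := QuotientGroup.mk_surjective cbar
  haveI := Fintype.ofFinite (G ⧸ C)
  have hcard : Fintype.card (G ⧸ C) = p := by rw [← Nat.card_eq_fintype_card]; rfl
  have hinj : ∀ g, φ g = 1 ↔ g ∈ K := fun g => by rw [← hker]; rfl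
  have hoτ : orderOf (φ c) = p := orderOf_eq_prime (by
      rw [← map_pow, hinj, ← QuotientGroup.eq_one_iff, QuotientGroup.mk_pow, ← hcbar, pow_orderOf_eq_one])
    (fun h1 => by
      rw [hinj, ← QuotientGroup.eq_one_iff] at h1
      rw [h1, orderOf_one] at hcbar
      exact hpidx.one_lt.ne hcbar)
  have hcyc : (φ c).IsCycle :=
    Equiv.Perm.isCycle_of_prime_order (hoτ.symm ▸ hpidx) (by
      rw [hoτ]
      have h1 : (φ c).support.card ≤ p := hcard ▸ Finset.card_le_univ _
      have := hpidx.two_le
      omega)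
  have hsupp : (φ c).support = Finset.univ := Finset.eq_univ_of_card _ (by rw [← hcyc.orderOf, hoτ, hcard])
  have hcent : ∀ d : G, (d : G ⧸ K) * c = (c : G ⧸ K) * d → ∃ i : ℤ, (d : G ⧸ K) = (c : G ⧸ K) ^ i := by
    intro d hd
    have hd' : φ d * φ c = φ c * φ d := by
      rw [← QuotientGroup.mk_mul, ← QuotientGroup.mk_mul, QuotientGroup.eq, ← hker, MonoidHom.mem_ker, map_mul,
        map_inv, inv_mul_eq_one, map_mul, map_mul] at hd
      exact hd
    set a₀ : G ⧸ C := ((1 : G) : G ⧸ C)
    have hne : ∀ a, φ c a ≠ a := fun a => Equiv.Perm.mem_support.mp (hsupp ▸ Finset.mem_univ a)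
    obtain ⟨i, hi⟩ := hcyc.sameCycle (hne a₀) (hne (φ d a₀))
    refine ⟨i, ?_⟩
    have heq : φ d = φ c ^ i := by
      ext b
      obtain ⟨j, hj⟩ := hcyc.sameCycle (hne a₀) (hne b)
      rw [← hj]
      have hc1 : Commute (φ d) (φ c ^ j) := (show Commute (φ d) (φ c) from hd').zpow_right j
      calc φ d ((φ c ^ j) a₀) = (φ d * φ c ^ j) a₀ := rfl
        _ = (φ c ^ j * φ d) a₀ := by rw [hc1.eq]
        _ = (φ c ^ j) (φ d a₀) := rfl
        _ = (φ c ^ j) ((φ c ^ i) a₀) := by rw [hi]
        _ = (φ c ^ j * φ c ^ i) a₀ := rfl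
        _ = (φ c ^ i * φ c ^ j) a₀ := by rw [← zpow_add, ← zpow_add, add_comm]
        _ = (φ c ^ i) ((φ c ^ j) a₀) := rfl
    have : φ ((c ^ i)⁻¹ * d) = 1 := by rw [map_mul, map_inv, map_zpow, heq, inv_mul_cancel]
    rw [hinj] at this
    rw [← QuotientGroup.mk_zpow, eq_comm, QuotientGroup.eq]
    exact this
  have hidxdvd : ∀ g : G, (Subgroup.centralizer ({(g : G ⧸ K)} : Set (G ⧸ K))).index ∣
      (Subgroup.centralizer ({g} : Set G)).index := by
    intro g
    rw [← Subgroup.index_comap_of_surjective _ (QuotientGroup.mk'_surjective K)]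
    refine Subgroup.index_dvd_of_le fun d hd => ?_
    rw [Subgroup.mem_comap, Subgroup.mem_centralizer_singleton_iff, QuotientGroup.mk'_apply,
      ← QuotientGroup.mk_mul, ← QuotientGroup.mk_mul, Subgroup.mem_centralizer_singleton_iff.mp hd]
  have hCc : Nat.card (Subgroup.centralizer ({(c : G ⧸ K)} : Set (G ⧸ K))) = p := by
    rw [← hcbar, ← Nat.card_zpowers]
    congr 2
    ext w
    refine ⟨fun hw => ?_, fun hw => ?_⟩
    · obtain ⟨d, rfl⟩ := QuotientGroup.mk_surjective w
      obtain ⟨i, hi⟩ := hcent d (Subgroup.mem_centralizer_singleton_iff.mp hw)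
      exact ⟨i, hi.symm⟩
    · obtain ⟨i, rfl⟩ := Subgroup.mem_zpowers_iff.mp hw
      exact Subgroup.mem_centralizer_singleton_iff.mpr ((Commute.refl _).zpow_left i).eq
  have hsplit := (Subgroup.centralizer ({(c : G ⧸ K)} : Set (G ⧸ K))).card_mul_index
  rw [hCc] at hsplit
  obtain ⟨q, hq, hqe⟩ : ∃ q, q.Prime ∧ (Subgroup.centralizer ({(c : G ⧸ K)} : Set (G ⧸ K))).index = q := by
    have hd := hidxdvd c
    rcases h c with h1 | h1
    · exfalso
      rw [h1, Nat.dvd_one] at hd
      rw [hd, mul_one] at hsplit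
      have hKe : K = C := by
        refine Subgroup.eq_of_le_of_card_ge hKC ?_
        have e1 := K.card_mul_index
        have e2 := C.card_mul_index
        have hKi : K.index = p := hsplit.symm
        rw [hKi] at e1
        rw [← hp] at e2
        exact (Nat.eq_of_mul_eq_mul_right hpidx.pos (e2.trans e1.symm)).le
      exact hx₀ (hKe ▸ inferInstance)
    · rcases (Nat.dvd_prime h1).mp hd with h2 | h2
      · exfalso
        rw [h2, mul_one] at hsplit
        have hKe : K = C := by
          refine Subgroup.eq_of_le_of_card_ge hKC ?_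
          have e1 := K.card_mul_index
          have e2 := C.card_mul_index
          have hKi : K.index = p := hsplit.symm
          rw [hKi] at e1
          rw [← hp] at e2
          exact (Nat.eq_of_mul_eq_mul_right hpidx.pos (e2.trans e1.symm)).le
        exact hx₀ (hKe ▸ inferInstance)
      · exact ⟨_, h1, h2⟩
  rw [hqe] at hsplit
  have hKi : K.index = p * q := hsplit.symm
  have hqp : q ≠ p := by
    intro e
    have h1 : Nat.card (G ⧸ K) ∣ Nat.card (Equiv.Perm (G ⧸ C)) := by
      rw [← Subgroup.index, ← hker, Subgroup.index_ker]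
      exact Subgroup.card_subgroup_dvd_card _
    rw [← hsplit, e, Nat.card_eq_fintype_card, Fintype.card_perm, hcard, ← Nat.mul_factorial_pred hpidx.ne_zero] at h1
    have h2 := Nat.dvd_of_mul_dvd_mul_left hpidx.pos h1
    rw [hpidx.dvd_factorial] at h2
    have := hpidx.pos
    omega
  -- an element of `C` outside `K`
  have hKrel : K.relIndex C = q := by
    have := Subgroup.relIndex_mul_index hKC
    rw [← hp, hKi, mul_comm p q] at this
    exact Nat.eq_of_mul_eq_mul_right hpidx.pos this
  obtain ⟨x, hxC, hxK⟩ : ∃ x ∈ C, x ∉ K := by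
    by_contra hcon
    push Not at hcon
    rw [Subgroup.relIndex_eq_one.mpr hcon] at hKrel
    exact hq.one_lt.ne hKrel
  have hCgen : C ≤ Subgroup.zpowers x ⊔ K := by
    have hle : Subgroup.zpowers x ⊔ K ≤ C := sup_le (Subgroup.zpowers_le.mpr hxC) hKC
    have h1 := Subgroup.relIndex_mul_relIndex K (Subgroup.zpowers x ⊔ K) C le_sup_right hle
    rw [hKrel] at h1
    rcases hq.eq_one_or_self_of_dvd _ (Dvd.intro _ h1) with h2 | h2
    · exact absurd ((Subgroup.relIndex_eq_one.mp h2) (Subgroup.mem_sup_left (Subgroup.mem_zpowers x))) hxK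
    · rw [h2] at h1
      exact Subgroup.relIndex_eq_one.mp ((mul_eq_left₀ hq.ne_zero).mp h1)
  -- commuting with `x` modulo `K` means lying in `C`
  have hxbar : ∀ g : G, g * x * g⁻¹ * x⁻¹ ∈ K → g ∈ C := by
    set D := (Subgroup.centralizer ({(x : G ⧸ K)} : Set (G ⧸ K))).comap (QuotientGroup.mk' K) with hD
    have hmemD : ∀ g : G, g * x * g⁻¹ * x⁻¹ ∈ K → g ∈ D := by
      intro g hg
      rw [← QuotientGroup.eq_one_iff, QuotientGroup.mk_mul, QuotientGroup.mk_mul, QuotientGroup.mk_mul,
        QuotientGroup.mk_inv, QuotientGroup.mk_inv, mul_inv_eq_one, mul_inv_eq_iff_eq_mul] at hg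
      exact Subgroup.mem_comap.mpr (Subgroup.mem_centralizer_singleton_iff.mpr hg)
    have hCD : C ≤ D := by
      intro g hg
      apply hmemD
      obtain ⟨y, hy, k, hk, rfl⟩ : g ∈ ((Subgroup.zpowers x : Subgroup G) : Set G) * (K : Set G) := by
        rw [← Subgroup.mul_normal]; exact hCgen hg
      obtain ⟨i, rfl⟩ := Subgroup.mem_zpowers_iff.mp hy
      have e : x ^ i * k * x * (x ^ i * k)⁻¹ * x⁻¹ = x ^ i * (k * (x * k⁻¹ * x⁻¹)) * (x ^ i)⁻¹ := by
        rw [mul_inv_rev, show x ^ i * k * x * (k⁻¹ * (x ^ i)⁻¹) * x⁻¹ = x ^ i * k * x * k⁻¹ * ((x ^ i)⁻¹ * x⁻¹) by group,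
          ((Commute.refl x).zpow_left i).inv_inv.eq]
        group
      rw [e]
      exact (inferInstance : K.Normal).conj_mem _ (K.mul_mem hk ((inferInstance : K.Normal).conj_mem _ (K.inv_mem hk) x)) _
    have hDne : D ≠ ⊤ := by
      intro htop
      apply hxK
      intro b
      have hb := Subgroup.mem_centralizer_singleton_iff.mp (Subgroup.mem_comap.mp (htop ▸ Subgroup.mem_top b : b ∈ D))
      have h1 : b * x * b⁻¹ * x⁻¹ ∈ K := by
        rw [← QuotientGroup.eq_one_iff, QuotientGroup.mk_mul, QuotientGroup.mk_mul, QuotientGroup.mk_mul,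
          QuotientGroup.mk_inv, QuotientGroup.mk_inv, mul_inv_eq_one, mul_inv_eq_iff_eq_mul]
        exact hb
      have h2 := C.mul_mem (hKC h1) hxC
      simpa using h2
    intro g hg
    have h1 := Subgroup.relIndex_mul_index hCD
    rcases hpidx.eq_one_or_self_of_dvd _ (Dvd.intro _ h1) with h2 | h2
    · exact Subgroup.relIndex_eq_one.mp h2 (hmemD g hg)
    · exfalso
      rw [← hp, h2] at h1
      exact hDne (Subgroup.index_eq_one.mp ((mul_eq_left₀ hpidx.ne_zero).mp h1))
  have hxx : Subgroup.centralizer ({x} : Set G) ≤ C := fun g hg => hxbar g (by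
    rw [Subgroup.mem_centralizer_singleton_iff.mp hg, mul_inv_cancel_right, mul_inv_cancel]; exact K.one_mem)
  have hxeq : Subgroup.centralizer ({x} : Set G) = C := by
    have h1 := Subgroup.relIndex_mul_index hxx
    rcases h x with h2 | h2
    · exact absurd (top_le_iff.mp (Subgroup.index_eq_one.mp h2 ▸ hxx)) (fun e : C = ⊤ => hx₀ (by rw [e]; infer_instance))
    · rw [← hp] at h1
      rcases h2.eq_one_or_self_of_dvd p (Dvd.intro_left _ h1) with h3 | h3
      · exact absurd h3 hpidx.one_lt.ne'
      · rw [← h3] at h1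
        exact le_antisymm hxx (Subgroup.relIndex_eq_one.mp ((mul_eq_right₀ hpidx.ne_zero).mp h1))
  -- `K` is the centre
  have hKZ : K = Subgroup.center G := by
    refine le_antisymm (fun k hk => ?_) (fun z hz b => hKC.trans le_rfl |> fun _ => ?_)
    · have hCk : C ≤ Subgroup.centralizer ({k} : Set G) := by
        have hle : Subgroup.centralizer ({x * k} : Set G) ≤ C ⊓ Subgroup.centralizer ({k} : Set G) := by
          intro g hg
          have hg' := Subgroup.mem_centralizer_singleton_iff.mp hg
          have hgC : g ∈ C := by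
            apply hxbar
            have e : g * x * g⁻¹ * x⁻¹ = x * (k * (g * k⁻¹ * g⁻¹)) * x⁻¹ := by
              calc g * x * g⁻¹ * x⁻¹ = (g * (x * k)) * k⁻¹ * g⁻¹ * x⁻¹ := by group
                _ = (x * k * g) * k⁻¹ * g⁻¹ * x⁻¹ := by rw [hg']
                _ = x * (k * (g * k⁻¹ * g⁻¹)) * x⁻¹ := by group
            rw [e]
            exact (inferInstance : K.Normal).conj_mem _ (K.mul_mem hk ((inferInstance : K.Normal).conj_mem _ (K.inv_mem hk) g)) x
          refine ⟨hgC, ?_⟩
          have hgx := Subgroup.mem_centralizer_singleton_iff.mp (hxeq.symm ▸ hgC : g ∈ Subgroup.centralizer ({x} : Set G))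
          show g ∈ Subgroup.centralizer ({k} : Set G)
          rw [Subgroup.mem_centralizer_singleton_iff]
          rw [← mul_assoc, hgx, mul_assoc, mul_assoc] at hg'
          exact mul_left_cancel hg'
        have h1 : p ∣ (Subgroup.centralizer ({x * k} : Set G)).index :=
          Subgroup.index_dvd_of_le (hle.trans inf_le_left)
        rcases h (x * k) with h2 | h2
        · rw [h2, Nat.dvd_one] at h1; exact absurd h1 hpidx.one_lt.ne'
        · have h3 := (Nat.prime_dvd_prime_iff_eq hpidx h2).mp h1
          have h4 : Subgroup.centralizer ({x * k} : Set G) = C := by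
            refine Subgroup.eq_of_le_of_card_ge (hle.trans inf_le_left) ?_
            have e1 := (Subgroup.centralizer ({x * k} : Set G)).card_mul_index
            have e2 := C.card_mul_index
            rw [← h3] at e1
            rw [← hp] at e2
            exact (Nat.eq_of_mul_eq_mul_right hpidx.pos (e2.trans e1.symm)).le
          exact (h4 ▸ hle).trans inf_le_right
      by_contra hkZ
      have hne : Subgroup.centralizer ({k} : Set G) ≠ ⊤ := fun e => hkZ (Subgroup.mem_center_iff.mpr fun b =>
        Subgroup.mem_centralizer_singleton_iff.mp (e ▸ Subgroup.mem_top b : b ∈ Subgroup.centralizer ({k} : Set G)))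
      have heq : Subgroup.centralizer ({k} : Set G) = C := by
        have h1 := Subgroup.relIndex_mul_index hCk
        rcases hpidx.eq_one_or_self_of_dvd _ (Dvd.intro _ h1) with h2 | h2
        · exact le_antisymm (Subgroup.relIndex_eq_one.mp h2) hCk
        · exfalso
          rw [← hp, h2] at h1
          exact hne (Subgroup.index_eq_one.mp ((mul_eq_left₀ hpidx.ne_zero).mp h1))
      apply hxK
      intro b
      rw [← heq, Subgroup.mem_centralizer_singleton_iff]
      have h1 : b⁻¹ * k * b ∈ K := by simpa using (inferInstance : K.Normal).conj_mem k hk b⁻¹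
      have h2 := Subgroup.mem_centralizer_singleton_iff.mp (hxeq.symm ▸ hKC h1 :
        b⁻¹ * k * b ∈ Subgroup.centralizer ({x} : Set G))
      calc b * x * b⁻¹ * k = b * (x * (b⁻¹ * k * b)) * b⁻¹ := by group
        _ = b * ((b⁻¹ * k * b) * x) * b⁻¹ := by rw [h2]
        _ = k * (b * x * b⁻¹) := by group
    · rw [hCdef, Subgroup.mem_centralizer_singleton_iff, show b * z * b⁻¹ = z by
        rw [Subgroup.mem_center_iff.mp hz b, mul_inv_cancel_right]]
      exact (Subgroup.mem_center_iff.mp hz x₀).symm
  refine ⟨p, q, hpidx, hq, hqp.symm, ?_, fun hcomm => ?_⟩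
  · rw [← Subgroup.index, ← hKZ, hKi]
  · haveI := hcomm
    refine hx₀ ⟨fun z hz g => ?_⟩
    have h1 : g * z * g⁻¹ * z⁻¹ ∈ K := by
      rw [hKZ, ← QuotientGroup.eq_one_iff, QuotientGroup.mk_mul, QuotientGroup.mk_mul, QuotientGroup.mk_mul,
        QuotientGroup.mk_inv, QuotientGroup.mk_inv, mul_inv_eq_one, mul_inv_eq_iff_eq_mul]
      exact hcomm.is_comm.comm _ _
    simpa using C.mul_mem (hKC h1) hz

end Cfsg.Agent.S4314
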