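import Cfsg.Statements.S4320
-- import your own Cfsg.Agent.* helpers here

set_option autoImplicit false
open Cfsg

namespace Cfsg.Agent.S4320

set_option maxHeartbeats 1600000 in
open MonoidAlgebra in
theorem principal_ideal {G : Type*} [Group G] [Finite G] (g : G) :
    MonoidHom.transfer (Abelianization.of : ↥(commutator G) →* Abelianization ↥(commutator G)) g = 1 := by
  classical
  set A := commutator G with hA
  haveI : A.Normal := inferInstance
  haveI := Fintype.ofFinite G
  haveI : Fintype (Abelianization G) := Fintype.ofFinite _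
  -- the augmentation quotient
  let rel : Set (MonoidAlgebra ℤ G) :=
    {x | ∃ a ∈ A, ∃ h : G, x = (single a 1 - 1) * (single h 1 - 1)}
  let J : Submodule (MonoidAlgebra ℤ G) (MonoidAlgebra ℤ G) := Submodule.span _ rel
  let mk : MonoidAlgebra ℤ G →ₗ[MonoidAlgebra ℤ G] (MonoidAlgebra ℤ G ⧸ J) := J.mkQ
  let d : G → MonoidAlgebra ℤ G ⧸ J := fun h => mk (single h 1 - 1)
  let of' : G → MonoidAlgebra ℤ G := fun h => single h 1
  have hmul : ∀ a b, d (a * b) = d a + of' a • d b := by
    intro a b
    show mk _ = mk _ + of' a • mk _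
    rw [← map_smul, ← map_add]
    congr 1
    simp only [of', smul_eq_mul, mul_sub, mul_one, single_mul_single]
    abel
  have hd1 : d 1 = 0 := by
    show mk (single 1 1 - 1) = 0
    rw [← MonoidAlgebra.one_def, sub_self, map_zero]
  let I : Submodule (MonoidAlgebra ℤ G) (MonoidAlgebra ℤ G ⧸ J) := Submodule.span _ (Set.range d)
  have hdI : ∀ h, d h ∈ I := fun h => Submodule.subset_span ⟨h, rfl⟩
  have htriv : ∀ x ∈ I, ∀ a ∈ A, of' a • x = x := by
    intro x hx
    induction hx using Submodule.span_induction with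
    | mem y hy =>
      obtain ⟨h, rfl⟩ := hy
      intro a ha
      rw [← sub_eq_zero]
      show of' a • mk (single h 1 - 1) - mk (single h 1 - 1) = 0
      rw [← map_smul, ← map_sub]
      refine (Submodule.Quotient.mk_eq_zero J).2 (Submodule.subset_span ⟨a, ha, h, ?_⟩)
      simp only [of', smul_eq_mul, sub_mul, one_mul]
    | zero => intro a _; rw [smul_zero]
    | add y z _ _ hy hz => intro a ha; rw [smul_add, hy a ha, hz a ha]
    | smul r y _ hy =>
      intro a ha
      induction r using MonoidAlgebra.induction_on with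
      | of m =>
        show of' a • of' m • y = of' m • y
        have e : of' a * of' m = of' m * of' (m⁻¹ * a * m) := by
          simp only [of', single_mul_single, one_mul]
          congr 1; group
        rw [← mul_smul, e, mul_smul, hy _ (by simpa using (inferInstance : A.Normal).conj_mem a ha m⁻¹)]
      | add r s hr hs => rw [add_smul, smul_add, hr, hs]
      | smul k r hr => rw [smul_assoc, smul_comm, hr]
  let L : G →* Module.End ℤ I :=
    { toFun := fun h =>
        { toFun := fun x => ⟨of' h • x.1, I.smul_mem _ x.2⟩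
          map_add' := fun x y => Subtype.ext (smul_add _ _ _)
          map_smul' := fun k x => Subtype.ext (smul_comm (of' h) k x.1) }
      map_one' := LinearMap.ext fun x => Subtype.ext (by
        show (single (1 : G) (1 : ℤ)) • x.1 = x.1
        rw [← MonoidAlgebra.one_def, one_smul])
      map_mul' := fun a b => LinearMap.ext fun x => Subtype.ext (by
        show of' (a * b) • x.1 = of' a • of' b • x.1
        rw [← mul_smul]
        simp only [of', single_mul_single, one_mul]) }
  let LΓ : Abelianization G →* Module.End ℤ I := QuotientGroup.lift A L fun a ha =>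
    LinearMap.ext fun x => Subtype.ext (htriv x.1 x.2 a ha)
  let π : MonoidAlgebra ℤ (Abelianization G) →ₐ[ℤ] Module.End ℤ I :=
    MonoidAlgebra.lift ℤ (Module.End ℤ I) (Abelianization G) LΓ
  let γ : G → MonoidAlgebra ℤ (Abelianization G) := fun h => single (Abelianization.of h) 1
  have hπ : ∀ h (x : I), π (γ h) x = L h x := by
    intro h x
    show MonoidAlgebra.lift ℤ (Module.End ℤ I) (Abelianization G) LΓ (single (Abelianization.of h) 1) x = _
    rw [MonoidAlgebra.lift_single, one_smul]
    rfl
  let D : G → I := fun h => ⟨d h, hdI h⟩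
  have hDmul : ∀ a b, D (a * b) = D a + π (γ a) (D b) := fun a b => by
    rw [hπ]; exact Subtype.ext (hmul a b)
  have hD1 : D 1 = 0 := Subtype.ext hd1
  have hγmul : ∀ a b, γ (a * b) = γ a * γ b := fun a b => by
    simp only [γ, map_mul, single_mul_single, one_mul]
  have hγ1 : γ 1 = 1 := by simp only [γ, map_one, MonoidAlgebra.one_def]
  have hγA : ∀ a ∈ A, γ a = 1 := fun a ha => by
    simp only [γ, show Abelianization.of a = 1 from (QuotientGroup.eq_one_iff a).2 ha, MonoidAlgebra.one_def]
  have hDinv : ∀ a, D a⁻¹ = - π (γ a⁻¹) (D a) := fun a => by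
    have := hDmul a⁻¹ a
    rw [inv_mul_cancel, hD1] at this
    exact eq_neg_of_add_eq_zero_left this.symm
  let ε : MonoidAlgebra ℤ (Abelianization G) →ₐ[ℤ] ℤ := MonoidAlgebra.lift ℤ ℤ (Abelianization G) 1
  have hεγ : ∀ h, ε (γ h) = 1 := fun h => by
    show MonoidAlgebra.lift ℤ ℤ (Abelianization G) 1 (single (Abelianization.of h) 1) = 1
    rw [MonoidAlgebra.lift_single]; simp
  -- generators
  obtain ⟨ι, hι, n, hn, ⟨e⟩⟩ := CommGroup.equiv_prod_multiplicative_zmod_of_finite (Abelianization G)
  choose b hb using fun i : ι => show ∃ y, Abelianization.of y =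
      e.symm (Pi.mulSingle i (Multiplicative.ofAdd (1 : ZMod (n i)))) from QuotientGroup.mk_surjective _
  let v : ι ⊕ A → G := Sum.elim b fun a => a.1
  let Lv : (ι ⊕ A → MonoidAlgebra ℤ (Abelianization G)) → I := fun ν => ∑ j, π (ν j) (D (v j))
  have hLadd : ∀ ν μ, Lv (ν + μ) = Lv ν + Lv μ := fun ν μ => by
    simp only [Lv, Pi.add_apply, map_add, LinearMap.add_apply, Finset.sum_add_distrib]
  have hLmul : ∀ P ν, π P (Lv ν) = Lv (fun j => P * ν j) := fun P ν => by
    simp only [Lv, map_sum, map_mul, Module.End.mul_apply]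
  have hLneg : ∀ ν, Lv (-ν) = -Lv ν := fun ν => by
    simp only [Lv, Pi.neg_apply, map_neg, LinearMap.neg_apply, Finset.sum_neg_distrib]
  let S : AddSubgroup I :=
    { carrier := {x | ∃ ν, x = Lv ν}
      zero_mem' := ⟨0, by simp [Lv]⟩
      add_mem' := fun {x y} ⟨ν, hν⟩ ⟨μ, hμ⟩ => ⟨ν + μ, by rw [hLadd, hν, hμ]⟩
      neg_mem' := fun {x} ⟨ν, hν⟩ => ⟨-ν, by rw [hLneg, hν]⟩ }
  have hSπ : ∀ P, ∀ x ∈ S, π P x ∈ S := by
    rintro P _ ⟨ν, rfl⟩
    exact ⟨_, hLmul P ν⟩
  have hgenS : ∀ j, D (v j) ∈ S := fun j => ⟨Pi.single j 1, by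
    simp only [Lv]
    rw [Finset.sum_eq_single j]
    · simp
    · intro k _ hk; simp [Pi.single_eq_of_ne hk]
    · simp⟩
  let H : Subgroup G :=
    { carrier := {h | D h ∈ S}
      one_mem' := by show D 1 ∈ S; rw [hD1]; exact S.zero_mem
      mul_mem' := fun {a c} ha hc => by
        show D (a * c) ∈ S
        rw [hDmul]; exact S.add_mem ha (hSπ _ _ hc)
      inv_mem' := fun {a} ha => by
        show D a⁻¹ ∈ S
        rw [hDinv]; exact S.neg_mem (hSπ _ _ ha) }
  have hAH : A ≤ H := fun a ha => hgenS (Sum.inr ⟨a, ha⟩)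
  have hH : ∀ h : G, h ∈ H := by
    have hpi : ∀ x : (i : ι) → Multiplicative (ZMod (n i)), e.symm x ∈ H.map Abelianization.of := by
      intro x
      rw [← Finset.univ_prod_mulSingle x, map_prod]
      refine Subgroup.prod_mem _ fun i _ => ?_
      haveI : NeZero (n i) := ⟨by have := hn i; omega⟩
      have hxi : x i = (Multiplicative.ofAdd (1 : ZMod (n i))) ^ (Multiplicative.toAdd (x i)).val := by
        apply Multiplicative.toAdd.injective
        simp
      rw [hxi, Pi.mulSingle_pow, map_pow]
      refine pow_mem ?_ _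
      rw [← hb i]
      exact Subgroup.mem_map_of_mem Abelianization.of (show b i ∈ H from hgenS (Sum.inl i))
    intro h
    obtain ⟨k, hk, hkh⟩ := hpi (e (Abelianization.of h))
    rw [MulEquiv.symm_apply_apply] at hkh
    have : k⁻¹ * h ∈ A := QuotientGroup.eq.1 hkh
    simpa using mul_mem hk (hAH this)
  let S₀ : AddSubgroup I :=
    { carrier := {x | ∃ ν : ι ⊕ A → MonoidAlgebra ℤ (Abelianization G), (∀ j, ε (ν j) = 0) ∧ x = Lv ν}
      zero_mem' := ⟨0, by simp, by simp [Lv]⟩
      add_mem' := fun {x y} ⟨ν, h0, hν⟩ ⟨μ, h1, hμ⟩ =>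
        ⟨ν + μ, fun j => by simp [h0 j, h1 j], by rw [hLadd, hν, hμ]⟩
      neg_mem' := fun {x} ⟨ν, h0, hν⟩ => ⟨-ν, fun j => by simp [h0 j], by rw [hLneg, hν]⟩ }
  have haug : ∀ P, ε P = 0 → ∀ h, π P (D h) ∈ S₀ := by
    intro P hP h
    obtain ⟨ν, hν⟩ := hH h
    exact ⟨fun j => P * ν j, fun j => by rw [map_mul, hP, zero_mul], by rw [hν, hLmul]⟩
  have hA0 : ∀ a ∈ A, D a ∈ S₀ := by
    let H₀ : Subgroup G :=
      { carrier := {h | h ∈ A ∧ D h ∈ S₀}
        one_mem' := ⟨one_mem _, by rw [hD1]; exact S₀.zero_mem⟩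
        mul_mem' := fun {a c} ha hc => ⟨mul_mem ha.1 hc.1, by
          rw [hDmul, hγA a ha.1, map_one, Module.End.one_apply]; exact S₀.add_mem ha.2 hc.2⟩
        inv_mem' := fun {a} ha => ⟨inv_mem ha.1, by
          rw [hDinv, hγA _ (inv_mem ha.1), map_one, Module.End.one_apply]; exact S₀.neg_mem ha.2⟩ }
    have hle : A ≤ H₀ := by
      rw [hA, commutator_def, Subgroup.commutator_le]
      intro x _ y _
      refine ⟨Subgroup.commutator_mem_commutator (Subgroup.mem_top x) (Subgroup.mem_top y), ?_⟩
      have e1 : D (x * y * x⁻¹ * y⁻¹) = π (1 - γ y) (D x) + π (γ x - 1) (D y) := by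
        rw [hDmul, hDmul, hDmul, hDinv, hDinv, map_neg, map_neg,
          ← Module.End.mul_apply, ← map_mul, ← Module.End.mul_apply, ← map_mul, ← hγmul, ← hγmul]
        have h2 : γ (x * y * x⁻¹ * y⁻¹) = 1 :=
          hγA _ (Subgroup.commutator_mem_commutator (Subgroup.mem_top x) (Subgroup.mem_top y))
        have h3 : γ (x * y * x⁻¹) = γ y := by
          rw [hγmul, hγmul, mul_comm (γ x) (γ y), mul_assoc, ← hγmul, mul_inv_cancel, hγ1, mul_one]
        rw [h2, h3, map_one, map_sub, map_sub, map_one]
        simp only [LinearMap.sub_apply, Module.End.one_apply]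
        abel
      show D (x * y * x⁻¹ * y⁻¹) ∈ S₀
      rw [e1]
      exact S₀.add_mem (haug _ (by rw [map_sub, map_one, hεγ, sub_self]) x)
        (haug _ (by rw [map_sub, map_one, hεγ, sub_self]) y)
    exact fun a ha => (hle ha).2
  -- the relation matrix
  have hgeo : ∀ (h : G) (k : ℕ), D (h ^ k) = π (∑ l ∈ Finset.range k, γ (h ^ l)) (D h) := by
    intro h k
    induction k with
    | zero => simp [hD1]
    | succ k ih => rw [pow_succ, hDmul, ih, Finset.sum_range_succ, map_add, LinearMap.add_apply]
  have hbA : ∀ i, b i ^ n i ∈ A := by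
    intro i
    refine (QuotientGroup.eq_one_iff _).1 (show Abelianization.of (b i ^ n i) = 1 from ?_)
    rw [map_pow, hb, ← map_pow, ← Pi.mulSingle_pow,
      show (Multiplicative.ofAdd (1 : ZMod (n i))) ^ n i = 1 by
        apply Multiplicative.toAdd.injective; simp,
      Pi.mulSingle_one, map_one]
  choose ν hν0 hν using fun j : ι ⊕ A => show ∃ ν : ι ⊕ A → MonoidAlgebra ℤ (Abelianization G),
      (∀ k, ε (ν k) = 0) ∧ D (Sum.elim (fun i => b i ^ n i) (fun a => a.1) j) = Lv ν from
    hA0 _ (by rcases j with i | a; exacts [hbA i, a.2])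
  let c : ι ⊕ A → MonoidAlgebra ℤ (Abelianization G) :=
    Sum.elim (fun i => ∑ l ∈ Finset.range (n i), γ (b i ^ l)) fun _ => 1
  have hc : ∀ j, π (c j) (D (v j)) = D (Sum.elim (fun i => b i ^ n i) (fun a => a.1) j) := by
    rintro (i | a)
    · exact (hgeo (b i) (n i)).symm
    · simp [c, v]
  let μ : Matrix (ι ⊕ A) (ι ⊕ A) (MonoidAlgebra ℤ (Abelianization G)) :=
    Matrix.diagonal c - Matrix.of ν
  have hμ : ∀ j, Lv (μ j) = 0 := by
    intro j
    show ∑ k, π (Matrix.diagonal c j k - ν j k) (D (v k)) = 0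
    simp only [map_sub, LinearMap.sub_apply, Finset.sum_sub_distrib]
    rw [show (∑ k, π (ν j k) (D (v k))) = Lv (ν j) from rfl, ← hν j, ← hc j, sub_eq_zero,
      Finset.sum_eq_single j]
    · rw [Matrix.diagonal_apply_eq]
    · intro k _ hk; rw [Matrix.diagonal_apply_ne' _ hk, map_zero]; rfl
    · simp
  set P := μ.det with hP
  have hkill : ∀ k, π P (D (v k)) = 0 := by
    intro k
    have h1 : ∑ l, π (((Matrix.adjugate μ) * μ) k l) (D (v l)) = 0 := by
      simp only [Matrix.mul_apply, map_sum, LinearMap.sum_apply]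
      rw [Finset.sum_comm]
      refine Finset.sum_eq_zero fun j _ => ?_
      have : (∑ l, π (Matrix.adjugate μ k j * μ j l) (D (v l))) = π (Matrix.adjugate μ k j) (Lv (μ j)) := by
        rw [hLmul]
      rw [this, hμ j, map_zero]
    rw [Matrix.adjugate_mul] at h1
    rw [Finset.sum_eq_single k] at h1
    · simpa [Matrix.smul_apply] using h1
    · intro l _ hl; simp [Matrix.smul_apply, Matrix.one_apply_ne' hl]
    · simp
  have hPall : ∀ h, π P (D h) = 0 := by
    intro h
    obtain ⟨w, hw⟩ := hH h
    rw [hw, hLmul]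
    refine Finset.sum_eq_zero fun j _ => ?_
    show π (P * w j) (D (v j)) = 0
    rw [mul_comm, map_mul, Module.End.mul_apply, hkill, map_zero]
  have hεP : ε P = Fintype.card (Abelianization G) := by
    have h1 : (ε.toRingHom.mapMatrix μ) = Matrix.diagonal (fun j : ι ⊕ A => ε (c j)) := by
      ext j k
      rw [RingHom.mapMatrix_apply, Matrix.map_apply]
      show ε (Matrix.diagonal c j k - ν j k) = _
      rw [map_sub, hν0, sub_zero]
      rcases eq_or_ne j k with rfl | hjk
      · simp
      · simp [Matrix.diagonal_apply_ne _ hjk]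
    show ε.toRingHom P = _
    rw [hP, RingHom.map_det, h1, Matrix.det_diagonal, Fintype.prod_sum_type]
    have h2 : ∀ i, ε (c (Sum.inl i)) = (n i : ℤ) := fun i => by
      show ε (∑ l ∈ Finset.range (n i), γ (b i ^ l)) = _
      rw [map_sum, Finset.sum_congr rfl fun l _ => hεγ _]
      simp
    have h3 : Fintype.card (Abelianization G) = ∏ i, n i := by
      rw [← Nat.card_eq_fintype_card, Nat.card_congr e.toEquiv, Nat.card_pi]
      exact Finset.prod_congr rfl fun i _ => by
        rw [Nat.card_congr Multiplicative.toAdd, Nat.card_zmod]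
    rw [h3, Nat.cast_prod, Finset.prod_congr rfl fun i _ => h2 i]
    simp [c]
  -- so the determinant is the norm
  let ψR : MonoidAlgebra ℤ G →+* MonoidAlgebra ℤ (Abelianization G) :=
    MonoidAlgebra.mapDomainRingHom ℤ (Abelianization.of (G := G))
  let Γmod : Module (MonoidAlgebra ℤ G) (MonoidAlgebra ℤ (Abelianization G)) := Module.compHom _ ψR
  letI := Γmod
  have hψsingle : ∀ h : G, ψR (single h 1) = γ h := fun h => MonoidAlgebra.mapDomain_single
  let ψ₀ : MonoidAlgebra ℤ G →ₗ[MonoidAlgebra ℤ G] MonoidAlgebra ℤ (Abelianization G) :=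
    { toFun := ψR
      map_add' := map_add ψR
      map_smul' := fun r x => map_mul ψR r x }
  have hJψ : J ≤ LinearMap.ker ψ₀ := by
    rw [Submodule.span_le]
    rintro _ ⟨a, ha, h, rfl⟩
    show ψR _ = 0
    rw [map_mul, map_sub, map_one, hψsingle, hγA a ha, sub_self, zero_mul]
  let ψ : (MonoidAlgebra ℤ G ⧸ J) →ₗ[MonoidAlgebra ℤ G] MonoidAlgebra ℤ (Abelianization G) :=
    J.liftQ ψ₀ hJψ
  have hψD : ∀ h, ψ (D h).1 = γ h - 1 := fun h => by
    show ψR (single h 1 - 1) = _
    rw [map_sub, map_one, hψsingle]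
  have hψπ : ∀ (Q : MonoidAlgebra ℤ (Abelianization G)) (x : I), ψ (π Q x).1 = Q * ψ x.1 := by
    intro Q x
    induction Q using MonoidAlgebra.induction_on with
    | of m =>
      induction m using QuotientGroup.induction_on with
      | H h =>
        show ψ (π (γ h) x).1 = γ h * ψ x.1
        rw [hπ]
        show ψ (of' h • x.1) = _
        rw [map_smul]
        show ψR (single h 1) * _ = _
        rw [hψsingle]
    | add r s hr hs => rw [map_add, LinearMap.add_apply, Submodule.coe_add, map_add, hr, hs, add_mul]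
    | smul k r hr => rw [map_smul, LinearMap.smul_apply, Submodule.coe_smul_of_tower,
        LinearMap.map_smul_of_tower ψ k, hr, smul_mul_assoc]
  have hconst : ∀ x, P.coeff x = P.coeff 1 := by
    intro x
    induction x using QuotientGroup.induction_on with
    | H h =>
      have h1 := hψπ P (D h)
      rw [hPall h, Submodule.coe_zero, map_zero, hψD, mul_sub, mul_one] at h1
      have h2 := congrArg (fun Q : MonoidAlgebra ℤ (Abelianization G) => Q.coeff (Abelianization.of h))
        (sub_eq_zero.1 h1.symm)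
      simp [γ] at h2
      exact h2.symm
  have hPN : P = ∑ x : Abelianization G, single x 1 := by
    have h0 : P = ∑ x : Abelianization G, single x (P.coeff 1) := by
      ext y
      simp [MonoidAlgebra.coeff_sum, MonoidAlgebra.coeff_single, Finsupp.single_apply, hconst y]
    have h1 : P.coeff 1 = 1 := by
      have h2 := hεP
      rw [h0, map_sum] at h2
      simp only [ε, MonoidAlgebra.lift_single, MonoidHom.one_apply, smul_eq_mul, mul_one,
        Finset.sum_const, Finset.card_univ, nsmul_eq_mul] at h2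
      refine mul_left_cancel₀ ?_ (h2.trans (mul_one _).symm)
      exact_mod_cast (Fintype.card_pos (α := Abelianization G)).ne'
    rw [h1] at h0
    exact h0
  -- evaluate the transfer
  let f : G → Additive (Abelianization A) := fun h =>
    Additive.ofMul (Abelianization.of (⟨h * ((QuotientGroup.mk h : G ⧸ A).out)⁻¹, by
      have := (inferInstance : A.Normal).conj_mem _ (QuotientGroup.eq.1
        (QuotientGroup.out_eq' (QuotientGroup.mk h : G ⧸ A))) h
      simpa [mul_assoc] using this⟩ : A))
  let Φ : MonoidAlgebra ℤ G →+ Additive (Abelianization A) :=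
    (Finsupp.liftAddHom fun h => (zmultiplesHom _ (f h))).comp MonoidAlgebra.coeffAddEquiv.toAddMonoidHom
  have hΦ : ∀ h : G, Φ (single h 1) = f h := fun h => by
    show (Finsupp.liftAddHom fun h => (zmultiplesHom _ (f h))) (single h (1 : ℤ)).coeff = f h
    rw [MonoidAlgebra.coeff_single, Finsupp.liftAddHom_apply_single]
    simp
  have hfA : ∀ (a : A) (h : G), f (a.1 * h) = Additive.ofMul (Abelianization.of a) + f h := by
    intro a h
    have e1 : (QuotientGroup.mk (a.1 * h) : G ⧸ A) = QuotientGroup.mk h := by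
      rw [QuotientGroup.mk_mul, (QuotientGroup.eq_one_iff a.1).2 a.2, one_mul]
    show Additive.ofMul _ = Additive.ofMul _ + Additive.ofMul _
    rw [← ofMul_mul, ← map_mul]
    congr 2
    apply Subtype.ext
    show a.1 * h * _ = a.1 * (h * _)
    rw [e1, mul_assoc]
  have hΦJ : ∀ x ∈ J, ∀ r, Φ (r * x) = 0 := by
    intro x hx
    induction hx using Submodule.span_induction with
    | mem y hy =>
      obtain ⟨a, ha, h, rfl⟩ := hy
      intro r
      induction r using MonoidAlgebra.induction_on with
      | of k =>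
        show Φ (single k 1 * ((single a 1 - 1) * (single h 1 - 1))) = 0
        simp only [mul_sub, sub_mul, mul_one, one_mul, single_mul_single, map_sub, hΦ]
        have e : k * a = (k * a * k⁻¹) * k := by group
        have hka : k * a * k⁻¹ ∈ A := (inferInstance : A.Normal).conj_mem a ha k
        rw [show k * (a * h) = (k * a * k⁻¹) * (k * h) by group, hfA ⟨_, hka⟩]
        rw [show f (k * a) = Additive.ofMul (Abelianization.of (⟨k * a * k⁻¹, hka⟩ : A)) + f k from
          (congrArg f e).trans (hfA ⟨_, hka⟩ k)]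
        abel
      | add r s hr hs => rw [add_mul, map_add, hr, hs, add_zero]
      | smul k r hr => rw [smul_mul_assoc, map_zsmul, hr, smul_zero]
    | zero => intro r; rw [mul_zero, map_zero]
    | add y z _ _ hy hz => intro r; rw [mul_add, map_add, hy, hz, add_zero]
    | smul s y _ hy => intro r; rw [smul_eq_mul, ← mul_assoc, hy]
  let φ : (MonoidAlgebra ℤ G ⧸ J) →+ Additive (Abelianization A) :=
    QuotientAddGroup.lift J.toAddSubgroup Φ fun x hx => by
      have := hΦJ x hx 1
      rwa [one_mul] at this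
  have hφD : ∀ a : A, φ (D a.1).1 = Additive.ofMul (Abelianization.of a) := by
    intro a
    show Φ (single a.1 1 - 1) = _
    rw [map_sub, MonoidAlgebra.one_def, hΦ, hΦ]
    have := hfA a 1
    rw [mul_one] at this
    rw [this, add_sub_cancel_right]
  letI : Fintype (G ⧸ A) := A.fintypeQuotientOfFiniteIndex
  obtain ⟨T⟩ : Nonempty A.LeftTransversal := inferInstance
  rw [MonoidHom.transfer_def _ T g]
  apply Additive.ofMul.injective
  rw [Subgroup.leftTransversals.diff, ofMul_prod, ofMul_one]
  let t : G ⧸ A → G := fun q => (T.2.leftQuotientEquiv q : G)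
  have ht : ∀ q, (QuotientGroup.mk (t q) : G ⧸ A) = q := fun q =>
    Subgroup.IsComplement.quotientGroupMk_leftQuotientEquiv T.2 q
  have hterm : ∀ q : G ⧸ A, D ((t q)⁻¹ * (g • t (g⁻¹ • q))) =
      π (γ (t q)⁻¹) (D g) + (π (γ (t (g⁻¹ • q))⁻¹) (D (t (g⁻¹ • q))) - π (γ (t q)⁻¹) (D (t q))) := by
    intro q
    have hmem : (t q)⁻¹ * g * t (g⁻¹ • q) ∈ A := by
      rw [mul_assoc, ← QuotientGroup.eq, ht, QuotientGroup.mk_mul, ht]
      show q = g • (g⁻¹ • q)
      rw [smul_inv_smul]
    have h2 : γ ((t q)⁻¹ * g) = γ (t (g⁻¹ • q))⁻¹ := by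
      have := hγA _ hmem
      rw [hγmul] at this
      calc γ ((t q)⁻¹ * g) = γ ((t q)⁻¹ * g) * γ (t (g⁻¹ • q)) * γ (t (g⁻¹ • q))⁻¹ := by
            rw [mul_assoc, ← hγmul, mul_inv_cancel, hγ1, mul_one]
        _ = _ := by rw [this, one_mul]
    show D ((t q)⁻¹ * (g * t (g⁻¹ • q))) = _
    rw [← mul_assoc, hDmul, h2, hDmul, hDinv]
    abel
  refine (Finset.sum_congr rfl (g := fun q : G ⧸ A => φ (D ((t q)⁻¹ * (g • t (g⁻¹ • q)))).1)
    fun q _ => ?_).trans ?_
  · rw [← hφD]
    simp only [Subgroup.smul_apply_eq_smul_apply_inv_smul, t]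
  · rw [← map_sum, ← AddSubmonoidClass.coe_finsetSum, Finset.sum_congr rfl fun q _ => hterm q, Finset.sum_add_distrib, Finset.sum_sub_distrib,
      show (∑ q : G ⧸ A, π (γ (t (g⁻¹ • q))⁻¹) (D (t (g⁻¹ • q)))) = ∑ q, π (γ (t q)⁻¹) (D (t q)) from
        Fintype.sum_equiv (MulAction.toPerm g⁻¹) _ _ fun q => rfl,
      sub_self, add_zero, ← LinearMap.sum_apply, ← map_sum]
    have hsum : (∑ q : G ⧸ A, γ (t q)⁻¹) = P := by
      rw [hPN]
      refine Fintype.sum_equiv (M := MonoidAlgebra ℤ (Abelianization G))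
        (show G ⧸ A ≃ Abelianization G from Equiv.inv (Abelianization G))
        (fun q : G ⧸ A => γ (t q)⁻¹)
        (fun x : Abelianization G => (single x (1 : ℤ) : MonoidAlgebra ℤ (Abelianization G))) fun q => ?_
      show single (Abelianization.of (t q)⁻¹) 1 = single (q⁻¹ : Abelianization G) 1
      rw [map_inv]
      congr 2
      exact ht q
    rw [hsum, hPall, Submodule.coe_zero, map_zero]

end Cfsg.Agent.S4320

namespace Cfsg.Agent.S4320

/-- The Principal Ideal Theorem of class field theory in its group-theoretic form: for every finite group `G`, the transfer homomorphism from `G` into the abelianization `G'/G''` of its derived subgroup `G'` is the trivial homomorphism. -/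
theorem result {G : Type*} [Group G] [Finite G] :
    MonoidHom.transfer (Abelianization.of : ↥(commutator G) →* Abelianization ↥(commutator G)) =
      (1 : G →* Abelianization ↥(commutator G)) := by
  exact MonoidHom.ext principal_ideal

end Cfsg.Agent.S4320
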