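import Cfsg.Statements.S4325
import Cfsg.Agent.Perm.Swaps
import Cfsg.Agent.Solv.Basic

set_option autoImplicit false
set_option linter.style.haveILetI false
open Cfsg

namespace Cfsg.Agent.S4325

/-- Let r be a prime and m a natural number with m + 1 < r, and let π be a set of primes containing every prime below r but not r itself. Then in the symmetric group of degree r any m transpositions generate a π-subgroup, while O_π of the symmetric group is trivial. (So no bound on the number of conjugates that works for all π exists in the π-radical analogue of the Baer–Suzuki Theorem.) -/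
theorem result (r m : ℕ) (hr : r.Prime)
    (hm : m + 1 < r) (π : Set ℕ) (hπ : ∀ q : ℕ, q.Prime → q < r → q ∈ π) (hrπ : r ∉ π)
    (t : Fin m → Equiv.Perm (Fin r)) (ht : ∀ i, (t i).IsSwap) :
    Cfsg.IsPiSubgroup π (Subgroup.closure (Set.range t)) ∧ Cfsg.piCore π (Equiv.Perm (Fin r)) = ⊥ := by
  classical
  refine ⟨fun q hq hdvd => hπ q hq ?_, ?_⟩
  · have hset : {s | s ∈ List.ofFn t} = Set.range t := by
      ext s; simp [List.mem_ofFn]
    rw [← hset] at hdvd
    have h := CfsgLib.Perm.prime_le_of_dvd_card_closure_swaps (List.ofFn t)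
      (fun s hs => by obtain ⟨i, rfl⟩ := (List.mem_ofFn).1 hs; exact ht i) hq hdvd
    rw [List.length_ofFn] at h
    omega
  · by_contra hne
    set N := Cfsg.piCore π (Equiv.Perm (Fin r)) with hN
    apply hrπ
    refine CfsgLib.Solv.piNat_card_piCore (G := Equiv.Perm (Fin r)) π r hr ?_
    obtain ⟨⟨σ, hσ⟩, hσ1⟩ := Subgroup.ne_bot_iff_exists_ne_one.1 hne
    obtain ⟨a, hab⟩ : ∃ a, σ a ≠ a := by
      by_contra hcon
      push Not at hcon
      exact hσ1 (Subtype.ext (Equiv.ext hcon))
    haveI : MulAction.IsPretransitive N (Fin r) := by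
      refine MulAction.isPretransitive_iff_base a |>.2 fun c => ?_
      rcases eq_or_ne c a with rfl | hca
      · exact ⟨1, one_smul _ _⟩
      refine ⟨⟨Equiv.swap (σ a) c * σ * (Equiv.swap (σ a) c)⁻¹,
        Subgroup.Normal.conj_mem inferInstance σ hσ _⟩, ?_⟩
      show (Equiv.swap (σ a) c * σ * (Equiv.swap (σ a) c)⁻¹) a = c
      simp [Equiv.swap_apply_of_ne_of_ne (Ne.symm hab) (Ne.symm hca)]
    have h := MulAction.index_stabilizer_of_transitive N a
    rw [Nat.card_fin] at h
    have h' := Subgroup.index_dvd_card (MulAction.stabilizer N a)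
    rw [h] at h'
    exact h'

end Cfsg.Agent.S4325
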