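import Cfsg.Statements.S4326
import Cfsg.Agent.Solv.Basic

set_option autoImplicit false
set_option linter.style.haveILetI false
open Pointwise
open Cfsg

namespace Cfsg.Agent.S4326

/-- Let G be a finite group, p a prime, x an automorphism of G of p-power order and M the subgroup of fixed points of x. Suppose that p divides the index of M and that either M is self-normalizing or M has trivial center. Then some conjugate of M is mapped onto itself by x but is not fixed elementwise by x. -/
theorem result {G : Type*} [Group G] [Finite G]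
    (p : ℕ) [Fact p.Prime] (x : MulAut G) (hx : ∃ k : ℕ, orderOf x = p ^ k) (M : Subgroup G)
    (hM : ∀ g : G, g ∈ M ↔ x g = g) (hp : p ∣ M.index)
    (hself : Subgroup.normalizer (M : Set G) = M ∨ Subgroup.center M = ⊥) :
    ∃ g : G, (∀ y ∈ MulAut.conj g • M, x y ∈ MulAut.conj g • M) ∧ ∃ y ∈ MulAut.conj g • M, x y ≠ y := by
  classical
  have hp' : p.Prime := Fact.out
  let F : Subgroup (MulAut G) := Subgroup.zpowers x
  have hsm : ∀ {a b : G}, a⁻¹ * b ∈ M → (x a)⁻¹ * x b ∈ M := by
    intro a b h
    rw [← map_inv, ← map_mul, (hM _).1 h]; exact h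
  let f : Equiv.Perm (G ⧸ M) :=
    { toFun := Quotient.map' x fun a b h => by
        rw [QuotientGroup.leftRel_apply] at h ⊢; exact hsm h
      invFun := Quotient.map' x.symm fun a b h => by
        rw [QuotientGroup.leftRel_apply] at h ⊢
        have h' : x.symm (a⁻¹ * b) = a⁻¹ * b := by
          conv_lhs => rw [← (hM _).1 h]
          simp
        rw [← map_inv, ← map_mul, h']; exact h
      left_inv := fun q => by induction q using Quotient.inductionOn' with
        | _ a => simp [Quotient.map'_mk'']
      right_inv := fun q => by induction q using Quotient.inductionOn' with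
        | _ a => simp [Quotient.map'_mk''] }
  have hfmk : ∀ a : G, f (a : G ⧸ M) = (x a : G) := fun a => rfl
  obtain ⟨k, hk⟩ := hx
  have hxk : x ^ p ^ k = 1 := hk ▸ pow_orderOf_eq_one x
  have hfpow : ∀ (n : ℕ) (a : G), (f ^ n) (a : G ⧸ M) = ((x ^ n) a : G) := by
    intro n
    induction n with
    | zero => intro a; rfl
    | succ n ih => intro a; rw [pow_succ, Equiv.Perm.mul_apply, hfmk, ih, pow_succ, MulAut.mul_apply]
  have hfk : f ^ p ^ k = 1 := by
    ext q
    induction q using QuotientGroup.induction_on with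
    | H a => rw [hfpow, hxk]; rfl
  haveI : Fintype (G ⧸ M) := Fintype.ofFinite _
  have hex : ∃ g : G, g ∉ M ∧ f (g : G ⧸ M) = (g : G ⧸ M) := by
    have h1 : f ((1 : G) : G ⧸ M) = ((1 : G) : G ⧸ M) := by rw [hfmk, map_one]
    obtain ⟨q, hq, hq1⟩ := Equiv.Perm.exists_fixed_point_of_prime' (p := p) (n := k)
      (by rw [← Nat.card_eq_fintype_card]; exact hp) hfk h1
    induction q using QuotientGroup.induction_on with
    | H g =>
      refine ⟨g, fun hg => hq1 ?_, hq⟩
      rw [QuotientGroup.eq, mul_one]; exact inv_mem hg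
  obtain ⟨g, hgM, hg⟩ := hex
  rw [hfmk, eq_comm, QuotientGroup.eq] at hg
  refine ⟨g, ?_, ?_⟩
  · intro y hy
    rw [CfsgLib.Solv.mem_conj_smul_iff] at hy ⊢
    have h1 := (hM _).1 hy
    rw [map_mul, map_mul, map_inv] at h1
    have h2 : g⁻¹ * x y * g = (g⁻¹ * x g) * (g⁻¹ * y * g) * (g⁻¹ * x g)⁻¹ := by
      conv_rhs => rw [← h1]
      group
    rw [h2]
    exact mul_mem (mul_mem hg hy) (inv_mem hg)
  · by_contra hcon
    push Not at hcon
    have hsub : MulAut.conj g • M ≤ M := fun y hy => (hM y).2 (hcon y hy)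
    have hgn : g ∈ Subgroup.normalizer (M : Set G) := by
      refine CfsgLib.Solv.mem_normalizer_of_conj_smul_eq ?_
      exact Subgroup.eq_of_le_of_card_ge hsub (CfsgLib.Solv.card_conj_smul g M).ge
    rcases hself with h | h
    · exact hgM (h ▸ hgn)
    · have hc : (⟨g⁻¹ * x g, hg⟩ : M) ∈ Subgroup.center M := by
        rw [Subgroup.mem_center_iff]
        rintro ⟨m, hm⟩
        apply Subtype.ext
        have h1 : g * m * g⁻¹ ∈ M := (Subgroup.mem_normalizer_iff.1 hgn m).1 hm
        have h2 := (hM _).1 h1
        rw [map_mul, map_mul, map_inv, (hM _).1 hm] at h2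
        show m * (g⁻¹ * x g) = g⁻¹ * x g * m
        calc m * (g⁻¹ * x g) = g⁻¹ * (g * m * g⁻¹) * x g := by group
          _ = g⁻¹ * (x g * m * (x g)⁻¹) * x g := by rw [h2]
          _ = _ := by group
      rw [h, Subgroup.mem_bot] at hc
      have h3 := congrArg Subtype.val hc
      simp only [Subgroup.coe_one, inv_mul_eq_one] at h3
      exact hgM ((hM g).2 h3.symm)

end Cfsg.Agent.S4326
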