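import Cfsg.Statements.S4331

import Mathlib
import Cfsg.Agent.Solv.Basic
import Cfsg.Agent.Solv.Engel

set_option autoImplicit false
set_option linter.style.haveILetI false
open Cfsg

namespace Cfsg.Agent.S4331

abbrev V : Type := ZMod 3 × ZMod 3

abbrev LA : Type := V ≃ₗ[ZMod 3] V

/-- multiplication by `i` in the field with nine elements -/
def I : V → V := fun v => (-v.2, v.1)

/-- semilinear maps of the field with nine elements -/
def H : Subgroup (LA) where
  carrier := {f | (∀ v, f (I v) = I (f v)) ∨ (∀ v, f (I v) = -I (f v))}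
  one_mem' := Or.inl fun v => rfl
  mul_mem' := by
    rintro f g (hf | hf) (hg | hg)
    · exact Or.inl fun v => by show f (g (I v)) = _; rw [hg, hf]; rfl
    · exact Or.inr fun v => by show f (g (I v)) = _; rw [hg, map_neg, hf]; rfl
    · exact Or.inr fun v => by show f (g (I v)) = _; rw [hg, hf]; rfl
    · exact Or.inl fun v => by show f (g (I v)) = _; rw [hg, map_neg, hf, neg_neg]; rfl
  inv_mem' := by
    rintro f (hf | hf)
    · refine Or.inl fun v => f.injective ?_
      show f (f.symm (I v)) = f (I (f.symm v))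
      rw [hf, LinearEquiv.apply_symm_apply, LinearEquiv.apply_symm_apply]
    · refine Or.inr fun v => f.injective ?_
      show f (f.symm (I v)) = f (-I (f.symm v))
      rw [map_neg, hf, LinearEquiv.apply_symm_apply, LinearEquiv.apply_symm_apply, neg_neg]

/-- the reflection -/
def aAut : LA :=
  { toFun := fun v => (v.1, -v.2), invFun := fun v => (v.1, -v.2), left_inv := fun v => by simp,
    right_inv := fun v => by simp, map_add' := fun u v => by simp [add_comm], map_smul' := fun r v => by simp }

theorem aAut_mem : aAut ∈ H := Or.inr fun v => by simp [aAut, I]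

/-- The action as automorphisms of the multiplicative group. -/
def φ : ↥H →* MulAut (Multiplicative V) where
  toFun f := AddEquiv.toMultiplicative (f : LA).toAddEquiv
  map_one' := MulEquiv.ext fun x => rfl
  map_mul' f g := MulEquiv.ext fun x => rfl

instance : Finite LA := Finite.of_injective (fun f v => f v) DFunLike.coe_injective

abbrev X : Type := Multiplicative V ⋊[φ] ↥H

def a : X := SemidirectProduct.inr ⟨aAut, aAut_mem⟩

theorem commute_a (v : V) (hv : v.2 = 0) (h : ↥H) (hh : Commute (⟨aAut, aAut_mem⟩ : ↥H) h) :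
    Commute a (⟨Multiplicative.ofAdd v, h⟩ : X) := by
  refine SemidirectProduct.ext ?_ hh.eq
  simp only [a, SemidirectProduct.mul_left, SemidirectProduct.left_inr, SemidirectProduct.right_inr, one_mul, map_one, mul_one]
  show Multiplicative.ofAdd ((v.1, -v.2) : V) = Multiplicative.ofAdd v
  rw [hv, neg_zero, ← hv]

theorem sq_add_sq_ne (p q : ZMod 3) (h : (p, q) ≠ 0) : p * p + q * q ≠ 0 := by
  revert p q; decide

theorem transitive (v : V) (hv : v ≠ 0) : ∃ f ∈ H, f (1, 0) = v := by
  obtain ⟨p, q⟩ := v
  have hd := sq_add_sq_ne p q hv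
  refine ⟨{ toFun := fun w => (p * w.1 - q * w.2, q * w.1 + p * w.2),
            invFun := fun w => ((p * w.1 + q * w.2) / (p * p + q * q), (p * w.2 - q * w.1) / (p * p + q * q)),
            left_inv := ?_, right_inv := ?_, map_add' := ?_, map_smul' := ?_ }, Or.inl fun w => ?_, ?_⟩
  · intro u w; ext <;> simp <;> ring
  · intro r w; ext <;> simp <;> ring
  · intro w; ext <;> simp only <;> rw [div_eq_iff hd] <;> ring
  · intro w; ext <;> simp only <;> rw [mul_div_assoc', mul_div_assoc'] 
    · rw [← sub_div, div_eq_iff hd]; ring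
    · rw [← add_div, div_eq_iff hd]; ring
  · show (p * (I w).1 - q * (I w).2, q * (I w).1 + p * (I w).2) = _
    ext <;> simp [I] <;> ring
  · ext <;> simp

/-- the stabilizer of `(1, 0)` -/
theorem stab {f : LA} (hf : f ∈ H) (h1 : f (1, 0) = (1, 0)) : f = 1 ∨ f = aAut := by
  have key : ∀ v : V, f v = v.1.val • f (1, 0) + v.2.val • f (0, 1) := fun v => by
    conv_lhs => rw [show v = v.1.val • ((1, 0) : V) + v.2.val • ((0, 1) : V) by revert v; decide]
    rw [map_add, map_nsmul, map_nsmul]
  have hI : ((0, 1) : V) = I (1, 0) := by decide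
  rcases hf with hf | hf
  · refine Or.inl (LinearEquiv.ext fun v => ?_)
    rw [key v, hI, hf, h1, ← hI]
    show _ = v
    revert v; decide
  · refine Or.inr (LinearEquiv.ext fun v => ?_)
    rw [key v, hI, hf, h1, ← hI]
    show _ = ((v.1, -v.2) : V)
    revert v; decide

theorem isPGroup_H : IsPGroup 2 ↥H := by
  classical
  have horb : MulAction.orbit (↥H) ((1, 0) : V) = {v | v ≠ 0} := by
    ext v
    constructor
    · rintro ⟨f, rfl⟩ h
      have : (1, 0) = (0 : V) := (f : LA).injective (h.trans (map_zero (f : LA)).symm)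
      exact absurd this (by decide)
    · intro hv
      obtain ⟨f, hf, e⟩ := transitive v hv
      exact ⟨⟨f, hf⟩, e⟩
  have h8 : Nat.card (MulAction.orbit (↥H) ((1, 0) : V)) = 8 := by
    rw [horb, Nat.card_eq_fintype_card]; decide
  have h2 : Nat.card (MulAction.stabilizer (↥H) ((1, 0) : V)) = 2 := by
    have : ((MulAction.stabilizer (↥H) ((1, 0) : V) : Subgroup ↥H) : Set ↥H) = {1, ⟨aAut, aAut_mem⟩} := by
      ext f
      constructor
      · intro h
        rcases stab f.2 h with e | e
        · exact Or.inl (Subtype.ext e)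
        · exact Or.inr (Subtype.ext e)
      · rintro (rfl | rfl)
        · exact Subgroup.one_mem _
        · show ((1 : ZMod 3), -(0 : ZMod 3)) = (1, 0)
          simp
    rw [← SetLike.coe_sort_coe, Nat.card_coe_set_eq, this, Set.ncard_pair]
    intro e
    have := congrArg (fun f : ↥H => (f : LA) (0, 1)) e
    exact absurd this (by decide)
  refine IsPGroup.of_card (n := 4) ?_
  rw [← Nat.card_congr (MulAction.orbitProdStabilizerEquivGroup (↥H) ((1, 0) : V)), Nat.card_prod, h8, h2]
  rfl

/-- Up to conjugation an element lies in the Sylow `2`-subgroup or commutes with `a`. -/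
theorem normal_form (c : X) : ∃ u : X, (u * c * u⁻¹).left = 1 ∨ Commute a (u * c * u⁻¹) := by
  classical
  have hconj : ∀ (w : V) (c : X), ((⟨Multiplicative.ofAdd w, 1⟩ : X) * c * (⟨Multiplicative.ofAdd w, 1⟩ : X)⁻¹) =
      ⟨Multiplicative.ofAdd (w + Multiplicative.toAdd c.left - (c.right : LA) w), c.right⟩ := by
    intro w c
    refine SemidirectProduct.ext ?_ (by simp)
    simp only [SemidirectProduct.mul_left, SemidirectProduct.inv_left, SemidirectProduct.mul_right, map_one, MulAut.one_apply, inv_one, one_mul]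
    rw [map_inv, sub_eq_add_neg]
    rfl
  by_cases hfix : ∀ w : V, (c.right : LA) w = w → w = 0
  · let d : V →+ V := AddMonoidHom.id V - (c.right : LA).toLinearMap.toAddMonoidHom
    have hinj : Function.Injective d := by
      rw [injective_iff_map_eq_zero]
      intro w hw
      exact hfix w (sub_eq_zero.1 hw).symm
    obtain ⟨w, hw⟩ := Finite.surjective_of_injective hinj (-(Multiplicative.toAdd c.left))
    refine ⟨⟨Multiplicative.ofAdd w, 1⟩, Or.inl ?_⟩
    rw [hconj]
    show Multiplicative.ofAdd (w + Multiplicative.toAdd c.left - (c.right : LA) w) = 1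
    rw [← ofAdd_zero]
    congr 1
    have : w - (c.right : LA) w = -(Multiplicative.toAdd c.left) := hw
    rw [add_sub_right_comm, this, neg_add_cancel]
  push_neg at hfix
  obtain ⟨w, hw, hw0⟩ := hfix
  -- move to the stabilizer of `(1, 0)`
  have main : ∀ c : X, (c.right : LA) (1, 0) = (1, 0) → (c.right : LA) ≠ 1 → ∃ u : X, Commute a (u * c * u⁻¹) := by
    intro c hc hne
    rcases stab c.right.2 hc with e | e
    · exact absurd e hne
    refine ⟨⟨Multiplicative.ofAdd ((0, (Multiplicative.toAdd c.left).2) : V), 1⟩, ?_⟩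
    rw [hconj, show c.right = ⟨aAut, aAut_mem⟩ from Subtype.ext e]
    refine commute_a _ ?_ _ (Commute.refl _)
    show (Multiplicative.toAdd c.left).2 + (Multiplicative.toAdd c.left).2 - -(Multiplicative.toAdd c.left).2 = 0
    generalize (Multiplicative.toAdd c.left).2 = q
    revert q; decide
  by_cases h1 : c.right = 1
  · by_cases h0 : Multiplicative.toAdd c.left = 0
    · exact ⟨1, Or.inl (by simpa using h0)⟩
    obtain ⟨f, hf, hfv⟩ := transitive _ h0
    refine ⟨SemidirectProduct.inr ⟨f, hf⟩⁻¹, Or.inr ?_⟩
    have e1 : (SemidirectProduct.inr (⟨f, hf⟩⁻¹ : ↥H) : X) * c * (SemidirectProduct.inr (⟨f, hf⟩⁻¹ : ↥H) : X)⁻¹ =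
        ⟨Multiplicative.ofAdd ((1, 0) : V), 1⟩ := by
      refine SemidirectProduct.ext ?_ (by simp [h1])
      simp only [SemidirectProduct.mul_left, SemidirectProduct.inv_left, SemidirectProduct.mul_right, SemidirectProduct.left_inr, SemidirectProduct.right_inr, map_one, inv_one, one_mul, mul_one]
      show Multiplicative.ofAdd (f.symm (Multiplicative.toAdd c.left)) = _
      rw [← hfv, LinearEquiv.symm_apply_apply]
    rw [e1]
    exact commute_a ((1, 0) : V) rfl _ (Commute.one_right _)
  · obtain ⟨f, hf, hfv⟩ := transitive w hw0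
    set u : X := SemidirectProduct.inr (⟨f, hf⟩⁻¹ : ↥H)
    obtain ⟨u', hu'⟩ := main (u * c * u⁻¹) (by
      show f.symm ((c.right : LA) (f (1, 0))) = (1, 0)
      rw [hfv, hw, ← hfv, LinearEquiv.symm_apply_apply]) (by
      intro h
      apply h1
      refine Subtype.ext (LinearEquiv.ext fun x => f.symm.injective ?_)
      have := DFunLike.congr_fun h (f.symm x)
      change f.symm ((c.right : LA) (f (f.symm x))) = f.symm x at this
      rwa [LinearEquiv.apply_symm_apply] at this)
    exact ⟨u' * u, Or.inr (by simpa [mul_assoc] using hu')⟩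

/-- There is a finite solvable group G with a subgroup A of order 2 such that every conjugacy class of G contains an element g for which A is subnormal in the subgroup generated by A and g, and yet A is not contained in O_2(G). (So the corresponding criteria for odd primes fail at the prime 2, even for solvable groups.) -/
theorem result :
    ∃ (G : Type) (_ : Group G) (_ : Finite G) (A : Subgroup G), Group.IsSolvable G ∧ Nat.card A = 2 ∧
      (∀ c : G, ∃ g : G, IsConj c g ∧ (A.subgroupOf (A ⊔ Subgroup.zpowers g)).IsSubnormal) ∧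
      ¬ A ≤ Cfsg.pCore 2 G := by
  classical
  haveI : Finite X := Finite.of_equiv _ SemidirectProduct.equivProd.symm
  have hH2 := isPGroup_H
  have ha2 : a ^ 2 = 1 := by
    rw [a, ← map_pow, show (⟨aAut, aAut_mem⟩ : ↥H) ^ 2 = 1 from Subtype.ext (LinearEquiv.ext fun v => by
      show ((v.1, -(-v.2)) : V) = v
      simp), map_one]
  have hord : orderOf a = 2 := by
    refine orderOf_eq_prime ha2 fun h => ?_
    have := congrArg (fun x : X => (x.right : LA) (0, 1)) h
    exact absurd this (by decide)
  refine ⟨X, inferInstance, Finite.of_equiv _ SemidirectProduct.equivProd.symm, Subgroup.zpowers a, ?_, by rw [Nat.card_zpowers, hord], fun c => ?_, ?_⟩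
  · haveI : Group.IsSolvable ↥H := by
      haveI := hH2.isNilpotent
      infer_instance
    exact Group.isSolvable_of_ker_le_range (SemidirectProduct.inl : Multiplicative V →* X) SemidirectProduct.rightHom
      SemidirectProduct.range_inl_eq_ker_rightHom.ge
  · obtain ⟨u, hu⟩ := normal_form c
    refine ⟨u * c * u⁻¹, isConj_iff.2 ⟨u, rfl⟩, ?_⟩
    rcases hu with hu | hu
    · -- inside a `2`-group
      have hle : Subgroup.zpowers a ⊔ Subgroup.zpowers (u * c * u⁻¹) ≤ (SemidirectProduct.inr : ↥H →* X).range := by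
        refine sup_le ?_ ?_ <;> rw [Subgroup.zpowers_le]
        · exact ⟨_, rfl⟩
        · exact ⟨(u * c * u⁻¹).right, by ext <;> simp [hu]⟩
      have hP : IsPGroup 2 ↥(Subgroup.zpowers a ⊔ Subgroup.zpowers (u * c * u⁻¹)) :=
        (hH2.of_surjective (SemidirectProduct.inr : ↥H →* X).rangeRestrict (MonoidHom.rangeRestrict_surjective _)).to_le hle
      haveI := hP.isNilpotent
      exact CfsgLib.Solv.isSubnormal_of_isNilpotent _
    · refine Subgroup.Normal.isSubnormal ⟨fun x hx g => ?_⟩
      rw [Subgroup.mem_subgroupOf] at hx ⊢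
      have hg : (g : X) ∈ Subgroup.centralizer ((Subgroup.zpowers a : Subgroup X) : Set X) := by
        refine (sup_le ?_ ?_ : Subgroup.zpowers a ⊔ Subgroup.zpowers (u * c * u⁻¹) ≤ _) g.2 <;> rw [Subgroup.zpowers_le]
        · rintro _ ⟨k, rfl⟩; exact (Commute.zpow_self a k).eq
        · rintro _ ⟨k, rfl⟩; exact (hu.zpow_left k).eq
      show (g : X) * x * (g : X)⁻¹ ∈ _
      rw [← hg x hx, mul_inv_cancel_right]
      exact hx
  · intro hle
    haveI := CfsgLib.Solv.pCore_normal X 2
    haveI : Fact (Nat.Prime 2) := ⟨Nat.prime_two⟩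
    haveI : Finite X := Finite.of_equiv _ SemidirectProduct.equivProd.symm
    set b : X := SemidirectProduct.inl (Multiplicative.ofAdd ((0, 1) : V))
    have h1 : a * b * a⁻¹ * b⁻¹ ∈ Cfsg.pCore 2 X := by
      rw [mul_assoc a b, mul_assoc a]
      exact Subgroup.mul_mem _ (hle (Subgroup.mem_zpowers a)) ((CfsgLib.Solv.pCore_normal X 2).conj_mem _ (Subgroup.inv_mem _ (hle (Subgroup.mem_zpowers a))) b)
    have e : a * b * a⁻¹ * b⁻¹ = SemidirectProduct.inl (Multiplicative.ofAdd ((0, 1) : V)) := by
      rw [show a * b * a⁻¹ = SemidirectProduct.inl (φ ⟨aAut, aAut_mem⟩ (Multiplicative.ofAdd ((0, 1) : V))) from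
        (SemidirectProduct.inl_aut _ _).symm, ← map_inv, ← map_mul]
      congr 1
    obtain ⟨k, hk⟩ := (CfsgLib.Solv.pCore_isPGroup X 2) ⟨_, h1⟩
    have hk2 := congrArg Subtype.val hk
    simp only [SubmonoidClass.coe_pow, e, ← map_pow, OneMemClass.coe_one] at hk2
    rw [← map_one (SemidirectProduct.inl : Multiplicative V →* X)] at hk2
    have hk3 : (2 ^ k) • ((0, 1) : V) = 0 := congrArg Multiplicative.toAdd (SemidirectProduct.inl_injective hk2)
    have hd : addOrderOf ((0, 1) : V) = 3 :=
      addOrderOf_eq_prime (by decide) (by decide)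
    have := addOrderOf_dvd_of_nsmul_eq_zero hk3
    rw [hd] at this
    exact absurd (Nat.prime_three.dvd_of_dvd_pow this) (by decide)

end Cfsg.Agent.S4331
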