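import Cfsg.Statements.S4332

import Mathlib
import Cfsg.Agent.Solv.Basic

set_option autoImplicit false
set_option linter.style.haveILetI false
open Pointwise
open Cfsg

namespace Cfsg.Agent.S4332

/-- In any permutation of eight points there is a set of three points which is either invariant or moved off itself. -/
theorem exists_triple (g : Equiv.Perm (Fin 8)) :
    ∃ S : Finset (Fin 8), S.card = 3 ∧ (S.map g.toEmbedding = S ∨ Disjoint (S.map g.toEmbedding) S) := by
  by_cases h3 : ∃ x, g x ≠ x ∧ g (g (g x)) = x ∧ g (g x) ≠ x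
  · obtain ⟨x, h1, h2, h3⟩ := h3
    refine ⟨{x, g x, g (g x)}, ?_, Or.inl ?_⟩
    · rw [Finset.card_eq_three]
      exact ⟨x, g x, g (g x), h1.symm, h3.symm, fun e => h1 (g.injective e).symm, rfl⟩
    · rw [Finset.map_insert, Finset.map_insert, Finset.map_singleton]
      show ({g x, g (g x), g (g (g x))} : Finset (Fin 8)) = _
      rw [h2]
      ext y; simp only [Finset.mem_insert, Finset.mem_singleton]; tauto
  by_cases hf : ∃ a b c : Fin 8, a ≠ b ∧ a ≠ c ∧ b ≠ c ∧ g a = a ∧ ((g b = b ∧ g c = c) ∨ (g b = c ∧ g c = b))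
  · obtain ⟨a, b, c, hab, hac, hbc, ha, hbc'⟩ := hf
    refine ⟨{a, b, c}, Finset.card_eq_three.2 ⟨a, b, c, hab, hac, hbc, rfl⟩, Or.inl ?_⟩
    rw [Finset.map_insert, Finset.map_insert, Finset.map_singleton]
    show ({g a, g b, g c} : Finset (Fin 8)) = _
    rcases hbc' with ⟨hb, hc⟩ | ⟨hb, hc⟩
    · rw [ha, hb, hc]
    · rw [ha, hb, hc]; ext y; simp only [Finset.mem_insert, Finset.mem_singleton]; tauto
  push Not at h3 hf
  -- now a greedy choice of three points
  have hfix : ((Finset.univ.filter fun x => g x = x).card) ≤ 2 := by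
    by_contra h
    obtain ⟨a, ha, b, hb, c, hc, h1, h2, h3⟩ := Finset.two_lt_card.1 (by omega : 2 < (Finset.univ.filter fun x => g x = x).card)
    simp only [Finset.mem_filter, Finset.mem_univ, true_and] at ha hb hc
    exact (hf a b c h1 h2 h3 ha).1 hb hc
  have pick : ∀ T : Finset (Fin 8), T.card ≤ 5 → ∃ x, g x ≠ x ∧ x ∉ T := by
    intro T hT
    by_contra h
    push Not at h
    have : (Finset.univ : Finset (Fin 8)) ⊆ (Finset.univ.filter fun x => g x = x) ∪ T := fun x _ => by
      by_cases hx : g x = x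
      · exact Finset.mem_union_left _ (by simp [hx])
      · exact Finset.mem_union_right _ (h x hx)
    have := (Finset.card_le_card this).trans (Finset.card_union_le _ _)
    rw [Finset.card_univ, Fintype.card_fin] at this
    omega
  obtain ⟨x, hx, -⟩ := pick ∅ (by simp)
  -- a second point making the forbidden set small
  obtain ⟨y, hy, hxy, hyx1, hyx2, hsmall⟩ : ∃ y, g y ≠ y ∧ y ≠ x ∧ y ≠ g x ∧ g y ≠ x ∧
      ({x, g x, g.symm x, y, g y, g.symm y} : Finset (Fin 8)).card ≤ 5 := by
    by_cases h2 : g (g x) = x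
    · obtain ⟨y, hy, hyT⟩ := pick {x, g x} (Finset.card_le_two.trans (by norm_num))
      simp only [Finset.mem_insert, Finset.mem_singleton, not_or] at hyT
      refine ⟨y, hy, hyT.1, hyT.2, fun e => hyT.2 (by rw [← g.injective (e.trans h2.symm)]), ?_⟩
      have : g.symm x = g x := by rw [Equiv.symm_apply_eq, h2]
      rw [this]
      calc ({x, g x, g x, y, g y, g.symm y} : Finset (Fin 8)).card = ({x, g x, y, g y, g.symm y} : Finset (Fin 8)).card := by
            congr 1; ext z; simp
        _ ≤ 5 := Finset.card_le_five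
    · refine ⟨g (g x), fun e => hx (g.injective (g.injective e)), h2, fun e => hx (g.injective e), fun e => h2 (h3 x hx e), ?_⟩
      rw [Equiv.symm_apply_apply]
      calc ({x, g x, g.symm x, g (g x), g (g (g x)), g x} : Finset (Fin 8)).card = ({x, g x, g.symm x, g (g x), g (g (g x))} : Finset (Fin 8)).card := by
            congr 1; ext z; simp; tauto
        _ ≤ 5 := Finset.card_le_five
  obtain ⟨z, hz, hzT⟩ := pick _ hsmall
  simp only [Finset.mem_insert, Finset.mem_singleton, not_or] at hzT
  obtain ⟨z1, z2, z3, z4, z5, z6⟩ := hzT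
  have z3' : g z ≠ x := fun e => z3 (by rw [← e, Equiv.symm_apply_apply])
  have z6' : g z ≠ y := fun e => z6 (by rw [← e, Equiv.symm_apply_apply])
  refine ⟨{x, y, z}, Finset.card_eq_three.2 ⟨x, y, z, hxy.symm, Ne.symm z1, Ne.symm z4, rfl⟩, Or.inr ?_⟩
  rw [Finset.map_insert, Finset.map_insert, Finset.map_singleton, Finset.disjoint_left]
  intro w hw hw'
  simp only [Equiv.coe_toEmbedding, Finset.mem_insert, Finset.mem_singleton] at hw hw'
  rcases hw with rfl | rfl | rfl <;> rcases hw' with e | e | e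
  exacts [hx e, hyx1 e.symm, z2 e.symm, hyx2 e, hy e, z5 e.symm, z3' e, z6' e, hz e]

/-- Two three-cycles with the same support commute. -/
theorem three_cycle_commute {σ : Equiv.Perm (Fin 8)} (hσ : σ.IsThreeCycle) (τ : Equiv.Perm (Fin 8))
    (hs : τ.support = σ.support) : Commute σ τ := by
  classical
  have key : ∀ f g : Equiv.Perm (Fin 3), (∀ i, f i ≠ i) → (∀ i, g i ≠ i) → f * g = g * f := by decide
  let e := Finset.equivFinOfCardEq (Equiv.Perm.IsThreeCycle.card_support hσ)
  let r : ∀ ρ : Equiv.Perm (Fin 8), (∀ x, ρ x ∈ σ.support ↔ x ∈ σ.support) → Equiv.Perm (Fin 3) :=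
    fun ρ h => e.permCongr (ρ.subtypePerm h)
  have hσi : ∀ x, σ x ∈ σ.support ↔ x ∈ σ.support := fun x => Equiv.Perm.apply_mem_support
  have hτi : ∀ x, τ x ∈ σ.support ↔ x ∈ σ.support := fun x => by rw [← hs]; exact Equiv.Perm.apply_mem_support
  have hne : ∀ ρ h, ρ.support = σ.support → ∀ i, r ρ h i ≠ i := by
    intro ρ h hρ i hi
    have h1 : (ρ.subtypePerm h) (e.symm i) = e.symm i := by
      apply e.injective
      rw [Equiv.apply_symm_apply]
      exact hi
    have h2 : (e.symm i : Fin 8) ∈ ρ.support := by rw [hρ]; exact (e.symm i).2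
    exact Equiv.Perm.mem_support.1 h2 (congrArg Subtype.val h1)
  have h12 := key (r σ hσi) (r τ hτi) (hne σ hσi rfl) (hne τ hτi hs)
  refine Equiv.ext fun x => ?_
  by_cases hx : x ∈ σ.support
  · have := congrArg (fun f : Equiv.Perm (Fin 3) => ((e.symm (f (e ⟨x, hx⟩))) : Fin 8)) h12
    simpa [r, Equiv.permCongr_apply, Equiv.Perm.subtypePerm_apply] using this
  · have h1 : σ x = x := Equiv.Perm.notMem_support.1 hx
    have h2 : τ x = x := Equiv.Perm.notMem_support.1 (by rw [hs]; exact hx)
    show σ (τ x) = τ (σ x)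
    rw [h2, h1, h2]

/-- In the symmetric group of degree 8, let A be the subgroup generated by a 3-cycle. Then every conjugacy class contains an element g for which A is subnormal in the subgroup generated by A and its conjugate by g, although O_3 of the symmetric group of degree 8 is trivial. -/
theorem result
    (σ : Equiv.Perm (Fin 8)) (hσ : σ.IsThreeCycle) :
    (∀ c : Equiv.Perm (Fin 8), ∃ g : Equiv.Perm (Fin 8), IsConj c g ∧
      ((Subgroup.zpowers σ).subgroupOf (Subgroup.zpowers σ ⊔ MulAut.conj g • Subgroup.zpowers σ)).IsSubnormal) ∧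
    Cfsg.pCore 3 (Equiv.Perm (Fin 8)) = ⊥ := by
  classical
  constructor
  · intro c
    obtain ⟨S, hS3, hS⟩ := exists_triple c
    obtain ⟨a, b, d, hab, had, hbd, hSe⟩ := Finset.card_eq_three.1 (Equiv.Perm.IsThreeCycle.card_support hσ)
    -- conjugate `c` so that the chosen triple becomes the support of `σ`
    have hcard : S.card = σ.support.card := by rw [hS3, Equiv.Perm.IsThreeCycle.card_support hσ]
    obtain ⟨u, hu⟩ : ∃ u : Equiv.Perm (Fin 8), S.map u.toEmbedding = σ.support := by
      let e := Finset.equivOfCardEq hcard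
      refine ⟨e.extendSubtype, ?_⟩
      refine Finset.eq_of_subset_of_card_le (fun y hy => ?_) (by rw [Finset.card_map, hcard])
      obtain ⟨x, hx, rfl⟩ := Finset.mem_map.1 hy
      rw [Equiv.coe_toEmbedding, Equiv.extendSubtype_apply_of_mem e x hx]
      exact (e ⟨x, hx⟩).2
    refine ⟨u * c * u⁻¹, isConj_iff.2 ⟨u, rfl⟩, ?_⟩
    set g := u * c * u⁻¹
    have hsupp : (g * σ * g⁻¹).support = σ.support.map g.toEmbedding := by
      rw [Equiv.Perm.support_conj]
    have hmap : σ.support.map g.toEmbedding = (S.map c.toEmbedding).map u.toEmbedding := by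
      rw [← hu, Finset.map_map, Finset.map_map]
      congr 1
      ext y
      simp [g]
    refine Subgroup.Normal.isSubnormal ⟨fun x hx t => ?_⟩
    rw [Subgroup.mem_subgroupOf] at hx ⊢
    show (t : Equiv.Perm (Fin 8)) * x * (t : Equiv.Perm (Fin 8))⁻¹ ∈ Subgroup.zpowers σ
    have hcomm : Commute σ (g * σ * g⁻¹) := by
      rcases hS with hS | hS
      · -- two three-cycles with the same support
        have h3 : (g * σ * g⁻¹).IsCycle := (Equiv.Perm.IsThreeCycle.isCycle hσ).conj
        have hs : (g * σ * g⁻¹).support = σ.support := by rw [hsupp, hmap, hS, hu]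
        exact three_cycle_commute hσ (g * σ * g⁻¹) hs
      · refine (Equiv.Perm.disjoint_iff_disjoint_support.2 ?_).commute
        rw [hsupp, hmap, ← hu]
        exact ((Finset.disjoint_map _).2 hS).symm
    have hle : Subgroup.zpowers σ ⊔ MulAut.conj g • Subgroup.zpowers σ ≤ Subgroup.centralizer ((Subgroup.zpowers σ : Subgroup _) : Set (Equiv.Perm (Fin 8))) := by
      refine sup_le ?_ ?_
      · rw [Subgroup.zpowers_le]; rintro _ ⟨k, rfl⟩; exact (Commute.zpow_self σ k).eq
      · rintro y hy
        obtain ⟨_, ⟨j, rfl⟩, rfl⟩ := hy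
        rintro _ ⟨k, rfl⟩
        show σ ^ k * (g * σ ^ j * g⁻¹) = g * σ ^ j * g⁻¹ * σ ^ k
        rw [← conj_zpow]
        exact (hcomm.zpow_zpow k j).eq
    rw [← hle t.2 x hx, mul_inv_cancel_right]
    exact hx
  · haveI : Fact (Nat.Prime 3) := ⟨Nat.prime_three⟩
    haveI := CfsgLib.Solv.pCore_normal (Equiv.Perm (Fin 8)) 3
    by_contra hne
    haveI : Nontrivial ↥(Cfsg.pCore 3 (Equiv.Perm (Fin 8))) := (Subgroup.nontrivial_iff_ne_bot _).2 hne
    have hle : alternatingGroup (Fin 8) ≤ Cfsg.pCore 3 (Equiv.Perm (Fin 8)) :=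
      Equiv.Perm.alternatingGroup_le_of_normal (by simp) inferInstance
    have h5 : 5 ∣ Nat.card ↥(Cfsg.pCore 3 (Equiv.Perm (Fin 8))) := by
      refine dvd_trans ?_ (Subgroup.card_dvd_of_le hle)
      rw [nat_card_alternatingGroup, Nat.card_eq_fintype_card, Fintype.card_fin]
      decide
    obtain ⟨k, hk⟩ := IsPGroup.iff_card.1 (CfsgLib.Solv.pCore_isPGroup (Equiv.Perm (Fin 8)) 3)
    rw [hk] at h5
    exact absurd (Nat.Prime.dvd_of_dvd_pow (by norm_num : Nat.Prime 5) h5) (by decide)

end Cfsg.Agent.S4332
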