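import Cfsg.Statements.S4333

import Cfsg.Agent.Solv.SubnormalJoin

set_option autoImplicit false
set_option linter.style.haveILetI false
open Pointwise
open Cfsg

namespace Cfsg.Agent.S4333
open scoped Pointwise
open CfsgLib.Solv

universe u

theorem aux : ∀ (n : ℕ) (G : Type u) [Group G] [Finite G], Nat.card G = n → ∀ A : Subgroup G,
    (∀ a ∈ A, ∀ g : G, (A.subgroupOf (A ⊔ MulAut.conj (g⁻¹ * a * g) • A)).IsSubnormal) →
      A.IsSubnormal := by
  intro n
  induction n using Nat.strong_induction_on with
  | _ n IH =>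
    intro G _ _ hn A h
    have hproper : ∀ H : Subgroup G, A ≤ H → H ≠ ⊤ → (A.subgroupOf H).IsSubnormal := by
      intro H hAH hH
      refine IH _ (hn ▸ card_lt_of_ne_top hH) H rfl _ fun a ha g => ?_
      set z : H := g⁻¹ * a * g
      set J := A.subgroupOf H ⊔ MulAut.conj z • A.subgroupOf H with hJ
      have hJle : J.map H.subtype ≤ A ⊔ MulAut.conj (z : G) • A := by
        rw [Subgroup.map_le_iff_le_comap, hJ]
        refine sup_le (fun y hy => ?_) fun y hy => ?_
        · exact Subgroup.mem_comap.2 (Subgroup.mem_sup_left hy)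
        · refine Subgroup.mem_comap.2 (Subgroup.mem_sup_right ?_)
          rw [mem_conj_smul_iff] at hy ⊢
          simpa [Subgroup.mem_subgroupOf] using hy
      let f : J →* ↥(A ⊔ MulAut.conj (z : G) • A) :=
        MonoidHom.codRestrict (H.subtype.comp J.subtype) _
          fun y => hJle (Subgroup.mem_map_of_mem _ y.2)
      have e : (A.subgroupOf H).subgroupOf J =
          (A.subgroupOf (A ⊔ MulAut.conj (z : G) • A)).comap f := by
        ext y; simp [f, Subgroup.mem_subgroupOf]
      rw [e]
      exact (h (a : G) ha (g : G)).comap f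
    rcases zipper A hproper with hs | ⟨M, hM⟩
    · exact hs
    by_contra hns
    have hAM : A ≠ ⊤ := fun e => hns (e ▸ Subgroup.IsSubnormal.top)
    obtain ⟨K, hK, hAK⟩ := (eq_top_or_exists_le_coatom _).resolve_left hAM
    have hKn : ¬ K.Normal := fun hn' =>
      hns (Subgroup.IsSubnormal.trans hAK (hproper K hAK hK.1) hn'.isSubnormal)
    have hN : Subgroup.normalClosure (A : Set G) ≤ K := by
      rw [Subgroup.normalClosure, Subgroup.closure_le]
      intro y hy
      obtain ⟨a, ha, hc⟩ := Group.mem_conjugatesOfSet_iff.1 hy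
      obtain ⟨g, rfl⟩ := isConj_iff.1 hc
      set z := g * a * g⁻¹ with hz
      have hz' : z = (g⁻¹)⁻¹ * a * g⁻¹ := by rw [inv_inv]
      have hJ : A ⊔ MulAut.conj z • A ≠ ⊤ := fun e =>
        hns (isSubnormal_of_subgroupOf_top (e ▸ hz' ▸ h a ha g⁻¹))
      obtain ⟨K', hK', hle⟩ := (eq_top_or_exists_le_coatom _).resolve_left hJ
      have e : K' = K := (hM K' hK' (le_sup_left.trans hle)).trans (hM K hK hAK).symm
      rw [e] at hle
      -- `z⁻¹ K z` is again a maximal subgroup containing `A`
      have h1 : A ≤ MulAut.conj z⁻¹ • K := by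
        rw [map_inv, ← Subgroup.pointwise_smul_subset_iff]
        exact le_sup_right.trans hle
      have hne : MulAut.conj z⁻¹ • K ≠ ⊤ := fun e =>
        hK.1 ((Subgroup.card_eq_iff_eq_top K).1 (by rw [← card_conj_smul z⁻¹ K, e, Subgroup.card_top]))
      obtain ⟨L, hL, hle'⟩ := (eq_top_or_exists_le_coatom _).resolve_left hne
      have eL : L = K := (hM L hL (h1.trans hle')).trans (hM K hK hAK).symm
      rw [eL] at hle'
      have e2 : MulAut.conj z⁻¹ • K = K :=
        Subgroup.eq_of_le_of_card_ge hle' (card_conj_smul _ _).ge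
      have h3 : z⁻¹ ∈ Subgroup.normalizer (K : Set G) := mem_normalizer_of_conj_smul_eq e2
      rcases hK.le_iff.1 (Subgroup.le_normalizer : K ≤ Subgroup.normalizer (K : Set G)) with h4 | h4
      · exact absurd (Subgroup.normalizer_eq_top_iff.1 h4) hKn
      · rw [h4] at h3
        exact inv_mem_iff.1 h3
    exact hns (Subgroup.IsSubnormal.trans Subgroup.le_normalClosure
      (hproper _ Subgroup.le_normalClosure fun e => hK.1 (top_unique (e.symm.le.trans hN)))
      Subgroup.normalClosure_normal.isSubnormal)

/-- Let A be a subgroup of a finite group G. If A is subnormal in the subgroup generated by A and its conjugate by g⁻¹ a g, for every a ∈ A and every g ∈ G, then A is subnormal in G. (A sharpening of Wielandt's subnormality criterion: only conjugates of A by conjugates of elements of A are needed.) -/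
theorem result {G : Type*} [Group G] [Finite G]
    (A : Subgroup G)
    (h : ∀ a ∈ A, ∀ g : G, (A.subgroupOf (A ⊔ MulAut.conj (g⁻¹ * a * g) • A)).IsSubnormal) :
    A.IsSubnormal := aux _ G rfl A h

end Cfsg.Agent.S4333
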