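import Mathlib
-- Template for statement S4334 (row 4334; see /opt/grader/pristine/manifest.json for weights).
-- Copy to Cfsg/Agent/S4334.lean and replace the sorry. The statement below is byte-identical to the frozen
-- statement Cfsg.CfsgFrozen.S4334 (Cfsg/Statements/S4334.lean; the theorem Cfsg.fg11_hall_sylow_theorem_from_nilpotent_direct_factor);
-- the grader kernel-checks Cfsg.Agent.S4334.result against that frozen type. Keep the theorem IN THIS FILE
-- (a `result` declared elsewhere and merely imported here is not credited); helpers may live anywhere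
-- under Cfsg/Agent/.
import Cfsg.Statements.S4334
import Cfsg.Agent.Solv.NilpotentHall
import Cfsg.Agent.Solv.PComplement
import Cfsg.Agent.Perm.PComp
import Cfsg.Agent.OddLocal.TypeP


set_option autoImplicit false
open Cfsg
open scoped Pointwise

namespace Cfsg.Agent.S4334

/-- Let σ and τ be disjoint sets of primes with union π. Suppose a finite group G has a Hall π-subgroup H which is the direct product of a nilpotent σ-subgroup and a τ-subgroup (two elementwise-commuting subgroups generating H), and that the maximal τ-subgroups of G are pairwise conjugate. Then the maximal π-subgroups of G are pairwise conjugate. -/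
theorem result {G : Type*} [Group G] [Finite G]
    (σ τ π : Set ℕ) (hπ : π = σ ∪ τ) (hd : Disjoint σ τ) (H Hs Ht : Subgroup G) (hH : Cfsg.IsPiHall π H)
    (hs : Cfsg.IsPiSubgroup σ Hs) (ht : Cfsg.IsPiSubgroup τ Ht) (hsn : Group.IsNilpotent Hs)
    (hjoin : Hs ⊔ Ht = H) (hcomm : ∀ a ∈ Hs, ∀ b ∈ Ht, a * b = b * a) (hD : Cfsg.IsDPiGroup τ G) :
    Cfsg.IsDPiGroup π G := by
  classical
  subst hπ
  have hdj : ∀ r, r ∈ σ → r ∉ τ := fun r h h' => Set.disjoint_left.1 hd h h'
  have hcop : (Nat.card Hs).Coprime (Nat.card Ht) := Nat.coprime_of_dvd fun r hr h1 h2 =>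
    hdj r (hs r hr h1) (ht r hr h2)
  have hCle : Ht ≤ Subgroup.centralizer (Hs : Set G) := fun b hb =>
    Subgroup.mem_centralizer_iff.2 fun a ha => hcomm a ha b hb
  have hdec : ∀ h ∈ H, ∃ s ∈ Hs, ∃ t ∈ Ht, h = s * t := by
    intro h hh
    have h1 : h ∈ ((Ht ⊔ Hs : Subgroup G) : Set G) := by rw [sup_comm, hjoin]; exact hh
    rw [Subgroup.coe_mul_of_left_le_normalizer_right Ht Hs
      (hCle.trans (Subgroup.centralizer_le_normalizer _))] at h1
    obtain ⟨t, ht', s, hs', rfl⟩ := h1
    exact ⟨s, hs', t, ht', (hcomm s hs' t ht').symm⟩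
  have hHsH : Hs ≤ H := hjoin ▸ le_sup_left
  have hHtH : Ht ≤ H := hjoin ▸ le_sup_right
  have hcardH : Nat.card H ∣ Nat.card Hs * Nat.card Ht := by
    have hsurj : Function.Surjective (fun q : Hs × Ht => (⟨q.1 * q.2, H.mul_mem (hHsH q.1.2) (hHtH q.2.2)⟩ : H)) := by
      rintro ⟨h, hh⟩
      obtain ⟨s, hs', t, ht', rfl⟩ := hdec h hh
      exact ⟨(⟨s, hs'⟩, ⟨t, ht'⟩), rfl⟩
    have hle := Nat.card_le_card_of_surjective _ hsurj
    rw [Nat.card_prod] at hle
    have h1 : Nat.card Hs * Nat.card Ht ∣ Nat.card H :=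
      hcop.mul_dvd_of_dvd_of_dvd (Subgroup.card_dvd_of_le hHsH) (Subgroup.card_dvd_of_le hHtH)
    exact dvd_of_eq (le_antisymm hle (Nat.le_of_dvd Nat.card_pos h1))
  -- the index of `Ht` is prime to `τ`
  have hHti : ∀ r, r.Prime → r ∈ τ → ¬ r ∣ Ht.index := by
    intro r hr hrτ hri
    rw [← Subgroup.relIndex_mul_index hHtH] at hri
    rcases hr.dvd_mul.1 hri with h1 | h1
    · have h2 : Nat.card Ht * Ht.relIndex H ∣ Nat.card Ht * Nat.card Hs := by
        rw [← Subgroup.relIndex_bot_left, Subgroup.relIndex_mul_relIndex _ _ _ bot_le hHtH,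
          Subgroup.relIndex_bot_left, Subgroup.relIndex_bot_left, mul_comm]
        exact hcardH
      exact hdj r (hs r hr (h1.trans (Nat.dvd_of_mul_dvd_mul_left Nat.card_pos h2))) hrτ
    · exact hH.2 r hr (Or.inr hrτ) h1
  -- Sylow subgroups for the primes of `σ`
  have hsyl : ∀ (p : ℕ) [Fact p.Prime], p ∈ σ → ∃ P : Sylow p G, (P : Subgroup G) ≤ Hs ∧
      (∀ x ∈ H, x ∈ Subgroup.normalizer ((P : Subgroup G) : Set G)) ∧
      (∀ x ∈ H, (orderOf x).Coprime p → x ∈ Subgroup.centralizer ((P : Subgroup G) : Set G)) := by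
    intro p hp hpσ
    haveI := hsn
    let Q : Sylow p Hs := default
    have hQn : (Q : Subgroup Hs).Normal :=
      ((Group.isNilpotent_of_finite_tfae (G := Hs)).out 0 3 rfl rfl).1 hsn p inferInstance Q
    have hnd : ¬ p ∣ ((Q : Subgroup Hs).map Hs.subtype).index := by
      rw [Subgroup.index_map_subtype, ← Subgroup.relIndex_mul_index hHsH]
      intro h
      rcases hp.out.dvd_mul.1 h with h1 | h1
      · exact Q.not_dvd_index h1
      rcases hp.out.dvd_mul.1 h1 with h2 | h2
      · have h3 : Nat.card Hs * Hs.relIndex H ∣ Nat.card Hs * Nat.card Ht := by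
          rw [← Subgroup.relIndex_bot_left, Subgroup.relIndex_mul_relIndex _ _ _ bot_le hHsH,
            Subgroup.relIndex_bot_left, Subgroup.relIndex_bot_left]
          exact hcardH
        exact hdj p hpσ (ht p hp.out (h2.trans (Nat.dvd_of_mul_dvd_mul_left Nat.card_pos h3)))
      · exact hH.2 p hp.out (Or.inl hpσ) h2
    let P : Sylow p G := (Q.2.map Hs.subtype).toSylow hnd
    have hP : (P : Subgroup G) = (Q : Subgroup Hs).map Hs.subtype := rfl
    refine ⟨P, hP ▸ Subgroup.map_subtype_le _, ?_, ?_⟩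
    · intro x hx
      obtain ⟨s, hs', t, ht', rfl⟩ := hdec x hx
      refine mul_mem ?_ ?_
      · rw [hP]
        refine Subgroup.le_normalizer_map Hs.subtype ⟨⟨s, hs'⟩, ?_, rfl⟩
        rw [Subgroup.normalizer_eq_top_iff.2 hQn]; trivial
      · refine Subgroup.centralizer_le_normalizer _ (Subgroup.mem_centralizer_iff.2 fun a ha => ?_)
        exact hcomm a ((Subgroup.map_subtype_le (Q : Subgroup Hs)) ha) t ht'
    · intro x hx hxp
      obtain ⟨s, hs', t, ht', rfl⟩ := hdec x hx
      refine mul_mem ?_ (Subgroup.mem_centralizer_iff.2 fun a ha =>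
        hcomm a ((Subgroup.map_subtype_le (Q : Subgroup Hs)) ha) t ht')
      have hst : Commute s t := hcomm s hs' t ht'
      rw [hst.orderOf_mul_eq_mul_orderOf_of_coprime ((hcop.coprime_dvd_left (Subgroup.orderOf_dvd_natCard _ hs')).coprime_dvd_right
        (Subgroup.orderOf_dvd_natCard _ ht'))] at hxp
      have hsp : (orderOf s).Coprime p := hxp.coprime_dvd_left (dvd_mul_right _ _)
      refine Subgroup.mem_centralizer_iff.2 ?_
      rintro _ ⟨a, ha, rfl⟩
      obtain ⟨k, hk⟩ := IsPGroup.iff_orderOf.1 Q.2 ⟨a, ha⟩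
      rw [Subgroup.orderOf_mk] at hk
      have hc := CfsgLib.OddLocal.commute_of_coprime_nilpotent (a := (⟨s, hs'⟩ : Hs)) (b := a) (by
        rw [Subgroup.orderOf_mk, hk]; exact hsp.pow_right k)
      exact (congrArg Subtype.val hc.eq).symm
  -- the property transported to conjugates
  have hsylc : ∀ (p : ℕ) [Fact p.Prime], p ∈ σ → ∀ x : G, ∃ P : Sylow p G,
      (P : Subgroup G) ≤ MulAut.conj x • H ∧
      (∀ y ∈ MulAut.conj x • H, y ∈ Subgroup.normalizer ((P : Subgroup G) : Set G)) ∧
      (∀ y ∈ MulAut.conj x • H, (orderOf y).Coprime p → y ∈ Subgroup.centralizer ((P : Subgroup G) : Set G)) ∧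
      MulAut.conj x • Ht ≤ Subgroup.centralizer ((P : Subgroup G) : Set G) := by
    intro p _ hpσ x
    obtain ⟨P, hPs, hPn, hPc⟩ := hsyl p hpσ
    refine ⟨x • P, ?_, ?_, ?_, ?_⟩
    · rw [Sylow.coe_subgroup_smul]; exact Subgroup.pointwise_smul_le_pointwise_smul_iff.2 (hPs.trans hHsH)
    · rintro _ ⟨h, hh, rfl⟩
      rw [Sylow.coe_subgroup_smul, Subgroup.mem_normalizer_iff]
      intro z
      rw [Subgroup.mem_pointwise_smul_iff_inv_smul_mem, Subgroup.mem_pointwise_smul_iff_inv_smul_mem]
      have := Subgroup.mem_normalizer_iff.1 (hPn h hh) ((MulAut.conj x)⁻¹ • z)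
      simpa [MulAut.smul_def, mul_assoc] using this
    · rintro _ ⟨h, hh, rfl⟩ hyp
      rw [Sylow.coe_subgroup_smul, Subgroup.mem_centralizer_iff]
      rintro _ ⟨a, ha, rfl⟩
      have h1 : (orderOf h).Coprime p := by
        rwa [MulDistribMulAction.toMonoidEnd_apply, MulDistribMulAction.toMonoidHom_apply, MulAut.smul_def,
          show orderOf ((MulAut.conj x) h) = orderOf h from orderOf_injective (MulAut.conj x).toMonoidHom (MulAut.conj x).injective h] at hyp
      have h2 := Subgroup.mem_centralizer_iff.1 (hPc h hh h1) a ha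
      show MulAut.conj x a * MulAut.conj x h = MulAut.conj x h * MulAut.conj x a
      rw [← map_mul, ← map_mul, h2]
    · rintro _ ⟨h, hh, rfl⟩
      rw [Sylow.coe_subgroup_smul, Subgroup.mem_centralizer_iff]
      rintro _ ⟨a, ha, rfl⟩
      show MulAut.conj x a * MulAut.conj x h = MulAut.conj x h * MulAut.conj x a
      rw [← map_mul, ← map_mul, hcomm a (hPs ha) h hh]
  -- `τ`-elements normalising a `p`-subgroup, `p ∈ σ`, centralise it
  have htau : ∀ (p : ℕ) [Fact p.Prime], p ∈ σ → ∀ (R : Subgroup G), IsPGroup p R →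
      ∀ g ∈ Subgroup.normalizer (R : Set G), (∀ r, r.Prime → r ∣ orderOf g → r ∈ τ) →
      g ∈ Subgroup.centralizer (R : Set G) := by
    intro p _ hpσ R hR g hg hgτ
    obtain ⟨S, hS⟩ := hR.exists_le_sylow
    obtain ⟨P0, -⟩ := hsylc p hpσ 1
    obtain ⟨P, hPs, -⟩ := hsyl p hpσ
    obtain ⟨y, hy⟩ := MulAction.exists_smul_eq G P S
    set C := Subgroup.centralizer (R : Set G)
    set N := Subgroup.normalizer (R : Set G)
    haveI : (C.subgroupOf N).Normal := inferInstance
    have hT : MulAut.conj y • Ht ≤ C := by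
      rintro _ ⟨b, hb, rfl⟩
      refine Subgroup.mem_centralizer_iff.2 fun z hz => ?_
      have hzS := hS hz
      rw [← hy, Sylow.coe_subgroup_smul] at hzS
      obtain ⟨a, ha, rfl⟩ := hzS
      show MulAut.conj y a * MulAut.conj y b = MulAut.conj y b * MulAut.conj y a
      rw [← map_mul, ← map_mul, hcomm a (hPs ha) b hb]
    have hidx : (C.subgroupOf N).index ∣ Ht.index := by
      have h1 : C.relIndex N ∣ C.index :=
        ⟨N.index, (Subgroup.relIndex_mul_index (Subgroup.centralizer_le_normalizer _)).symm⟩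
      refine h1.trans ((Subgroup.index_dvd_of_le hT).trans (dvd_of_eq ?_))
      exact CfsgLib.Solv.index_conj_smul y Ht
    have hone : orderOf ((⟨g, hg⟩ : N) : N ⧸ C.subgroupOf N) = 1 := by
      by_contra hne
      obtain ⟨r, hr, hrd⟩ := Nat.exists_prime_and_dvd hne
      refine hHti r hr (hgτ r hr ?_) ((hrd.trans (orderOf_dvd_natCard _)).trans hidx)
      have := hrd.trans (orderOf_map_dvd (QuotientGroup.mk' (C.subgroupOf N)) (⟨g, hg⟩ : N))
      rwa [Subgroup.orderOf_mk] at this
    rw [orderOf_eq_one_iff, QuotientGroup.eq_one_iff] at hone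
    exact hone
  -- every `π`-subgroup lies in a conjugate of `H`
  have main : ∀ (n : ℕ) (K : Subgroup G), Nat.card K = n → Cfsg.IsPiSubgroup (σ ∪ τ) K →
      ∃ x : G, K ≤ MulAut.conj x • H := by
    intro n
    induction n using Nat.strong_induction_on with
    | _ n IH =>
      intro K hn hK
      by_cases hτ : Cfsg.IsPiSubgroup τ K
      · -- a `τ`-subgroup
        obtain ⟨K', hK'⟩ := (Set.toFinite {X : Subgroup G | K ≤ X ∧ Cfsg.IsPiSubgroup τ X}).exists_maximal
          ⟨K, le_rfl, hτ⟩
        have hmax : Maximal (Cfsg.IsPiSubgroup τ) K' :=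
          ⟨hK'.1.2, fun Y hY hle => hK'.2 ⟨hK'.1.1.trans hle, hY⟩ hle⟩
        have hTmax : Maximal (Cfsg.IsPiSubgroup τ) Ht := by
          refine ⟨ht, fun Y hY hle => ?_⟩
          have h1 : Ht.relIndex Y = 1 := by
            by_contra hne
            obtain ⟨r, hr, hrd⟩ := Nat.exists_prime_and_dvd hne
            refine hHti r hr (hY r hr (hrd.trans (Subgroup.relIndex_dvd_card _ _))) ?_
            exact hrd.trans ⟨Y.index, (Subgroup.relIndex_mul_index hle).symm⟩
          exact Subgroup.relIndex_eq_one.1 h1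
        obtain ⟨g, hg⟩ := hD Ht K' hTmax hmax
        exact ⟨g, hK'.1.1.trans (hg.le.trans (Subgroup.map_mono hHtH))⟩
      have hIH : ∀ U : Subgroup K, U ≠ ⊤ → ∃ x, U.map K.subtype ≤ MulAut.conj x • H := fun U hU =>
        IH _ (hn ▸ (Subgroup.card_subtype K U).trans_lt (CfsgLib.Solv.card_lt_of_ne_top hU)) _ rfl
          fun r hr hd => hK r hr (hd.trans (Subgroup.card_dvd_of_le (Subgroup.map_subtype_le U)))
      obtain ⟨p, hpσ, hp, hpd, hnp⟩ : ∃ p, p ∈ σ ∧ p.Prime ∧ p ∣ Nat.card K ∧ Cfsg.HasNormalPComplement p K := by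
        obtain ⟨p, hp, hpd, hpt⟩ : ∃ p, p.Prime ∧ p ∣ Nat.card K ∧ p ∉ τ := by
          unfold Cfsg.IsPiSubgroup at hτ
          push Not at hτ
          exact hτ
        have hpσ : p ∈ σ := (hK p hp hpd).resolve_right hpt
        haveI := Fact.mk hp
        by_cases hnp : Cfsg.HasNormalPComplement p K
        · exact ⟨p, hpσ, hp, hpd, hnp⟩
        rw [CfsgLib.Solv.hnpc_iff_frobCond] at hnp
        unfold CfsgLib.Solv.FrobCond at hnp
        push Not at hnp
        obtain ⟨R, hR, g0, hg0, hg0c, hg0C⟩ := hnp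
        -- a prime power part
        obtain ⟨g, r, hr, hgN, hgC, ⟨j, hj⟩, hrp⟩ : ∃ (g : K) (r : ℕ), r.Prime ∧
            g ∈ Subgroup.normalizer (R : Set K) ∧ g ∉ Subgroup.centralizer (R : Set K) ∧
            (∃ j, orderOf g = r ^ j) ∧ r ≠ p := by
          by_contra hcon
          push Not at hcon
          refine hg0C ?_
          have key : ∀ m, ∀ g ∈ Subgroup.normalizer (R : Set K), orderOf g = m → m.Coprime p →
              g ∈ Subgroup.centralizer (R : Set K) := by
            intro m
            induction m using Nat.recOnPrimeCoprime with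
            | zero => intro g _ hg; exact absurd hg (orderOf_pos g).ne'
            | prime_pow r k hr =>
              intro g hgN hg hc
              rcases Nat.eq_zero_or_pos k with rfl | hk
              · rw [pow_zero, orderOf_eq_one_iff] at hg; rw [hg]; exact one_mem _
              by_contra hgC
              have := hcon g r hr hgN hgC ⟨k, hg⟩
              subst this
              exact hr.ne_one (Nat.eq_one_of_dvd_coprimes hc (dvd_pow_self r hk.ne') dvd_rfl)
            | coprime a b ha hb hab iha ihb =>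
              intro g hgN hg hc
              have h1 : orderOf (g ^ a) = b := by
                rw [orderOf_pow' _ (by omega), hg, Nat.gcd_mul_right_left, Nat.mul_div_cancel_left _ (by omega)]
              have h2 : orderOf (g ^ b) = a := by
                rw [orderOf_pow' _ (by omega), hg, Nat.gcd_mul_left_left, Nat.mul_div_cancel _ (by omega)]
              have h3 := mul_mem (zpow_mem (ihb _ (pow_mem hgN a) h1 (hc.coprime_dvd_left (dvd_mul_left _ _))) (Nat.gcdA a b))
                (zpow_mem (iha _ (pow_mem hgN b) h2 (hc.coprime_dvd_left (dvd_mul_right _ _))) (Nat.gcdB a b))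
              rwa [← zpow_natCast g a, ← zpow_natCast g b, ← zpow_mul, ← zpow_mul, ← zpow_add,
                ← Nat.gcd_eq_gcd_ab, hab.gcd_eq_one, Nat.cast_one, zpow_one] at h3
          exact key _ g0 hg0 rfl hg0c
        haveI := Fact.mk hr
        have hj0 : j ≠ 0 := fun h => hgC (by
          rw [h, pow_zero, orderOf_eq_one_iff] at hj
          rw [hj]; exact one_mem _)
        have hrd : r ∣ Nat.card K := ((dvd_pow_self r hj0).trans (hj ▸ dvd_rfl)).trans (orderOf_dvd_natCard g)
        set R' := R.map K.subtype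
        have hlift : (g : G) ∈ Subgroup.centralizer (R' : Set G) → False := fun h => hgC
          (Subgroup.mem_centralizer_iff.2 fun z hz =>
            Subtype.ext (Subgroup.mem_centralizer_iff.1 h z ⟨z, hz, rfl⟩))
        have hrσ : r ∈ σ := (hK r hr hrd).resolve_right fun hrτ => hlift
          (htau p hpσ R' (hR.map _) g (Subgroup.le_normalizer_map K.subtype ⟨g, hgN, rfl⟩) fun s hs' hsd => by
            rw [Subgroup.orderOf_coe, hj] at hsd
            rw [(Nat.prime_dvd_prime_iff_eq hs' hr).1 (hs'.dvd_of_dvd_pow hsd)]; exact hrτ)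
        set J := R ⊔ Subgroup.zpowers g
        have hJ : J = ⊤ := by
          by_contra hJ
          obtain ⟨x, hx⟩ := hIH J hJ
          obtain ⟨P1, hP1, hP1n, hP1c, -⟩ := hsylc p hpσ x
          have hgH : (g : G) ∈ MulAut.conj x • H := hx ⟨g, Subgroup.mem_sup_right (Subgroup.mem_zpowers g), rfl⟩
          have hgc := hP1c _ hgH (by
            rw [Subgroup.orderOf_coe, hj]
            exact ((Nat.coprime_primes hr hp).2 hrp).pow_left j)
          have hRP : R' ≤ (P1 : Subgroup G) := by
            have hRn : R' ≤ Subgroup.normalizer ((P1 : Subgroup G) : Set G) := fun z hz => by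
              obtain ⟨w, hw, rfl⟩ := hz
              exact hP1n _ (hx ⟨w, Subgroup.mem_sup_left hw, rfl⟩)
            have h1 : IsPGroup p ↥((P1 : Subgroup G) ⊔ R') := P1.2.to_sup_of_normal_left' (hR.map _) hRn
            exact le_sup_right.trans (P1.3 h1 le_sup_left).le
          exact hlift (Subgroup.centralizer_le (SetLike.coe_subset_coe.2 hRP) hgc)
        haveI hRn : R.Normal := Subgroup.normalizer_eq_top_iff.1 (top_le_iff.1
          (hJ ▸ sup_le Subgroup.le_normalizer (Subgroup.zpowers_le.2 hgN)))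
        obtain ⟨i, hi⟩ := IsPGroup.iff_card.1 hR
        refine ⟨r, hrσ, hr, hrd, CfsgLib.Perm.hasNormalPComplement_of R ?_ ?_⟩
        · rw [hi]
          exact fun hd => hrp ((Nat.prime_dvd_prime_iff_eq hr hp).1 (hr.dvd_of_dvd_pow hd))
        · have h2 := CfsgLib.Solv.card_sup_mul_card_inf (Subgroup.zpowers g) R
          rw [sup_comm, show R ⊔ Subgroup.zpowers g = ⊤ from hJ, Subgroup.card_top, Nat.card_zpowers, hj,
            ← R.card_mul_index] at h2
          have h3 : R.index ∣ r ^ j := by
            refine ⟨Nat.card (Subgroup.zpowers g ⊓ R : Subgroup K), ?_⟩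
            refine Nat.eq_of_mul_eq_mul_left (Nat.card_pos (α := R)) ?_
            rw [← mul_assoc, h2, mul_comm]
          obtain ⟨i', -, hi'⟩ := (Nat.dvd_prime_pow hr).1 h3
          exact ⟨i', hi'⟩
      -- Wielandt's argument
      haveI := Fact.mk hp
      have hnd := CfsgLib.Solv.hnpc_iff.1 hnp
      set R := Cfsg.pResidual p K with hR
      haveI : R.Normal := CfsgLib.Inv.pResidual_normal p K
      have hRt : R ≠ ⊤ := fun e => hnd (by rw [e, Subgroup.card_top]; exact hpd)
      set Q := R.map K.subtype with hQ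
      obtain ⟨x, hx⟩ := hIH R hRt
      obtain ⟨P1, hP1, -, hP1c, -⟩ := hsylc p hpσ x
      set L := Subgroup.normalizer (Q : Set G) with hL
      have hP1L : (P1 : Subgroup G) ≤ L := by
        refine le_trans ?_ (Subgroup.centralizer_le_normalizer _)
        rw [Subgroup.le_centralizer_iff]
        intro y hy
        refine hP1c y (hx hy) (Nat.Coprime.symm (hp.coprime_iff_not_dvd.2 fun hd => hnd ?_))
        rw [← Subgroup.card_subtype K R]
        exact hd.trans (Subgroup.orderOf_dvd_natCard _ hy)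
      have hKL : K ≤ L := by
        refine CfsgLib.Solv.le_normalizer_iff_forall_conj_mem.2 fun k hk y hy => ?_
        obtain ⟨r, hr, rfl⟩ := hy
        exact ⟨⟨k, hk⟩ * r * (⟨k, hk⟩ : K)⁻¹, Subgroup.Normal.conj_mem ‹_› r hr _, rfl⟩
      let PK : Sylow p K := default
      have hPKL : (PK : Subgroup K).map K.subtype ≤ L := (Subgroup.map_subtype_le _).trans hKL
      obtain ⟨S, hS⟩ := ((PK.2.map K.subtype).comap_of_injective _ L.subtype_injective :
        IsPGroup p (((PK : Subgroup K).map K.subtype).subgroupOf L)).exists_le_sylow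
      obtain ⟨y, hy⟩ := MulAction.exists_smul_eq L (P1.subtype hP1L) S
      refine ⟨(y : G) * x, ?_⟩
      rw [map_mul, mul_smul]
      have hsup : K ≤ Q ⊔ (PK : Subgroup K).map K.subtype := by
        rw [hQ, ← Subgroup.map_sup, sup_comm, CfsgLib.Solv.sylow_sup_pResidual PK, ← MonoidHom.range_eq_map,
          Subgroup.range_subtype]
      refine hsup.trans (sup_le ?_ ?_)
      · calc Q = MulAut.conj (y : G) • Q := (CfsgLib.Solv.conj_smul_eq_self_of_mem_normalizer y.2).symm
          _ ≤ MulAut.conj (y : G) • (MulAut.conj x • H) := Subgroup.pointwise_smul_le_pointwise_smul_iff.2 hx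
      · intro z hz
        have h2 : (⟨z, hPKL hz⟩ : L) ∈ (S : Subgroup L) := hS hz
        rw [← hy, Sylow.coe_subgroup_smul, CfsgLib.Solv.mem_conj_smul_iff] at h2
        rw [CfsgLib.Solv.mem_conj_smul_iff]
        exact hP1 h2
  have hconjmax : ∀ K, Maximal (Cfsg.IsPiSubgroup (σ ∪ τ)) K → ∃ x : G, K = MulAut.conj x • H := by
    intro K hK
    obtain ⟨x, hx⟩ := main _ K rfl hK.1
    refine ⟨x, le_antisymm hx (hK.2 (fun r hr hd => hH.1 r hr ?_) hx)⟩
    rwa [CfsgLib.Solv.card_conj_smul] at hd
  intro A B hA hB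
  obtain ⟨a, rfl⟩ := hconjmax A hA
  obtain ⟨b, rfl⟩ := hconjmax B hB
  refine ⟨b * a⁻¹, ?_⟩
  show _ = MulAut.conj (b * a⁻¹) • (MulAut.conj a • H)
  rw [← mul_smul, ← map_mul, inv_mul_cancel_right]

end Cfsg.Agent.S4334
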