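import Cfsg.Statements.S4337
import Cfsg.Agent.Perm.Swaps
import Cfsg.Agent.Char.Burnside

set_option autoImplicit false
set_option linter.style.haveILetI false
open Cfsg

namespace Cfsg.Agent.S4337

/-- In a finite symmetric group, any three transpositions generate a solvable subgroup. -/
theorem result (n : ℕ) (a b c : Equiv.Perm (Fin n))
    (ha : a.IsSwap) (hb : b.IsSwap) (hc : c.IsSwap) :
    Group.IsSolvable (Subgroup.closure ({a, b, c} : Set (Equiv.Perm (Fin n)))) := by
  classical
  set K := Subgroup.closure ({a, b, c} : Set (Equiv.Perm (Fin n))) with hK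
  have hset : ({a, b, c} : Set (Equiv.Perm (Fin n))) = {s | s ∈ [a, b, c]} := by
    ext s; simp
  have hsub : ∀ q, q.Prime → q ∣ Nat.card K → q = 2 ∨ q = 3 := by
    intro q hq hd
    rw [hK, hset] at hd
    have h := CfsgLib.Perm.prime_le_of_dvd_card_closure_swaps [a, b, c]
      (by simp [ha, hb, hc]) hq hd
    simp only [List.length_cons, List.length_nil] at h
    have h2 := hq.two_le
    have h4 : q ≠ 4 := fun h => by subst h; exact absurd hq (by decide)
    omega
  set A := (Nat.card K).factorization 2
  set B := Nat.card K / 2 ^ A with hB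
  refine CfsgLib.Char.solvable_of_card_two_primes 2 3 A B.primeFactorsList.length Nat.prime_two Nat.prime_three ?_
  rw [← Nat.eq_prime_pow_of_unique_prime_dvd (n := B) (p := 3)
    (Nat.ordCompl_pos 2 Nat.card_pos.ne').ne' fun {d} hd hdB => ?_]
  · exact (Nat.ordProj_mul_ordCompl_eq_self _ _).symm
  · rcases hsub d hd (hdB.trans (Nat.ordCompl_dvd _ _)) with rfl | rfl
    · exact absurd hdB (Nat.not_dvd_ordCompl Nat.prime_two Nat.card_pos.ne')
    · rfl

end Cfsg.Agent.S4337
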