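import Cfsg.Statements.S4342

import Cfsg.Agent.Perm.SylowNumber

set_option autoImplicit false
set_option linter.style.haveILetI false
open Cfsg

namespace Cfsg.Agent.S4342

/-- Let H be a normal subgroup of a finite group G and p a prime not dividing the index of H. Then the number of Sylow p-subgroups of H/Z(H) equals the number of Sylow p-subgroups of G. -/
theorem result {G : Type*} [Group G] [Finite G]
    (p : ℕ) [Fact p.Prime] (H : Subgroup G) [H.Normal] (hp : ¬ p ∣ H.index) :
    Nat.card (Sylow p (H ⧸ Subgroup.center H)) = Nat.card (Sylow p G) := by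
  obtain ⟨P⟩ : Nonempty (Sylow p G) := inferInstance
  have hPH : (P : Subgroup G) ≤ H := by
    intro x hx
    rw [← QuotientGroup.eq_one_iff (N := H)]
    have h1 : IsPGroup p ((P : Subgroup G).map (QuotientGroup.mk' H)) := P.2.map _
    obtain ⟨k, hk⟩ := IsPGroup.iff_card.1 h1
    have h2 : p ^ k ∣ H.index := hk ▸ Subgroup.card_subgroup_dvd_card _
    rcases Nat.eq_zero_or_pos k with rfl | hk0
    · rw [pow_zero, Subgroup.card_eq_one] at hk
      have h3 := Subgroup.mem_map_of_mem (QuotientGroup.mk' H) hx
      rwa [hk, Subgroup.mem_bot] at h3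
    · exact absurd ((dvd_pow_self p hk0.ne').trans h2) hp
  have hG : Nat.card (Sylow p G) = Nat.card (Sylow p H) := by
    rw [CfsgLib.Perm.SylowNumber.card_sylow_subgroup P hPH, ← CfsgLib.Perm.SylowNumber.index_normalizer P]
    have h1 : Subgroup.normalizer ((P : Subgroup G) : Set G) ⊔ H = ⊤ := by
      have h := Sylow.normalizer_sup_eq_top (P.subtype hPH)
      rwa [Sylow.coe_subtype, Subgroup.map_subgroupOf_eq_of_le hPH] at h
    set N := Subgroup.normalizer ((P : Subgroup G) : Set G)
    have h2 : H.relIndex N = H.index := by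
      rw [← Subgroup.relIndex_sup_right (K := H) (H := N), h1, Subgroup.relIndex_top_right]
    have h3 : H.relIndex N * N.index = N.relIndex H * H.index := by
      rw [← Subgroup.inf_relIndex_right H N, Subgroup.relIndex_mul_index inf_le_right,
        ← Subgroup.inf_relIndex_right N H, Subgroup.relIndex_mul_index inf_le_right, inf_comm]
    rw [h2, mul_comm] at h3
    exact Nat.eq_of_mul_eq_mul_right (Nat.pos_of_ne_zero Subgroup.index_ne_zero_of_finite) h3
  set Z := Subgroup.center H
  obtain ⟨Q⟩ : Nonempty (Sylow p H) := inferInstance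
  have hH : Nat.card (Sylow p H) = Nat.card (Sylow p (H ⧸ Z)) := by
    rw [CfsgLib.Perm.SylowNumber.card_sylow_eq_mul Q Z]
    suffices h : Nat.card (Sylow p ↥(Subgroup.normalizer ((Z ⊔ (Q : Subgroup H) : Subgroup H) : Set H))) = 1 by
      rw [h, mul_one]
    set M := Subgroup.normalizer ((Z ⊔ (Q : Subgroup H) : Subgroup H) : Set H)
    have hQM : (Q : Subgroup H) ≤ M := le_sup_right.trans Subgroup.le_normalizer
    rw [CfsgLib.Perm.SylowNumber.card_sylow_subgroup Q hQM, Subgroup.relIndex_eq_one]
    intro m hm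
    have hQn : ((Q : Subgroup H).subgroupOf (Z ⊔ (Q : Subgroup H))).Normal := by
      rw [Subgroup.normal_subgroupOf_iff_le_normalizer le_sup_right]
      refine sup_le (fun z hz => Subgroup.mem_normalizer_iff.2 fun y => ?_) Subgroup.le_normalizer
      rw [← Subgroup.mem_center_iff.1 hz y, mul_inv_cancel_right]
    have hchar := (Q.subtype (le_sup_right : (Q : Subgroup H) ≤ Z ⊔ Q)).characteristic_of_normal
      (by rwa [Sylow.coe_subtype])
    rw [Sylow.coe_subtype] at hchar
    have hN : ((Z ⊔ (Q : Subgroup H)).subgroupOf M).Normal := by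
      rw [Subgroup.normal_subgroupOf_iff_le_normalizer Subgroup.le_normalizer]
    refine Subgroup.mem_normalizer_iff.2 fun y => ?_
    have key : ∀ k ∈ M, ∀ y ∈ (Q : Subgroup H), k * y * k⁻¹ ∈ (Q : Subgroup H) := by
      intro k hk y hy
      let a : MulAut ↥(Z ⊔ (Q : Subgroup H)) := Subgroup.normalizerMonoidHom _ ⟨k, hk⟩
      have hy' : (⟨y, Subgroup.mem_sup_right hy⟩ : ↥(Z ⊔ (Q : Subgroup H))) ∈
          (Q : Subgroup H).subgroupOf (Z ⊔ (Q : Subgroup H)) := hy
      have := Subgroup.characteristic_iff_map_le.1 hchar a ⟨_, hy', rfl⟩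
      exact this
    exact ⟨fun hy => key m hm y hy, fun hy => by
      have := key m⁻¹ (inv_mem hm) _ hy
      simpa [mul_assoc] using this⟩
  rw [hG, hH]

end Cfsg.Agent.S4342
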