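import Cfsg.Statements.S4343

import Mathlib

set_option autoImplicit false
set_option linter.style.haveILetI false
open Cfsg

namespace Cfsg.Agent.S4343
open scoped commutatorElement

/-- Let S be a finite non-abelian simple group and p a prime dividing its order. If S has fewer than p² Sylow p-subgroups, then its Sylow p-subgroups have order p. -/
theorem result {S : Type*} [Group S] [Finite S]
    [IsSimpleGroup S] (hS : ¬ IsMulCommutative S) (p : ℕ) [Fact p.Prime] (hp : p ∣ Nat.card S)
    (hn : Nat.card (Sylow p S) < p ^ 2) (P : Sylow p S) : Nat.card P = p := by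
  classical
  have hp' : p.Prime := Fact.out
  -- the conjugation action on Sylow subgroups is faithful
  obtain ⟨k, hk⟩ := IsPGroup.iff_card.mp P.2
  have hne : (P : Subgroup S) ≠ ⊥ := P.ne_bot_of_dvd_card hp
  have hnt : (P : Subgroup S) ≠ ⊤ := by
    intro h
    refine hS ?_
    have hG : IsPGroup p S := fun g => by
      obtain ⟨i, hi⟩ := P.2 ⟨g, h ▸ Subgroup.mem_top g⟩
      exact ⟨i, by simpa using congrArg Subtype.val hi⟩
    haveI : Nontrivial S := IsSimpleGroup.toNontrivial
    have hc := hG.center_nontrivial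
    rcases (inferInstance : (Subgroup.center S).Normal).eq_bot_or_eq_top with h0 | h0
    · exact absurd h0 ((Subgroup.nontrivial_iff_ne_bot _).mp hc)
    · exact ⟨⟨fun a b => (Subgroup.mem_center_iff.mp (h0 ▸ Subgroup.mem_top b : b ∈ Subgroup.center S) a)⟩⟩
  have hcore : ∀ D : Subgroup S, (∀ Q : Sylow p S, D ≤ Q) → D = ⊥ := by
    intro D hD
    have hle : D ≤ (P : Subgroup S).normalCore := by
      intro d hd g
      have := hD (g⁻¹ • P) hd
      rw [Sylow.coe_subgroup_smul, Subgroup.mem_pointwise_smul_iff_inv_smul_mem] at this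
      simpa [MulAut.smul_def] using this
    rcases (Subgroup.normalCore_normal (P : Subgroup S)).eq_bot_or_eq_top with h0 | h0
    · exact eq_bot_iff.mpr (h0 ▸ hle)
    · exact absurd (top_le_iff.mp (h0 ▸ (P : Subgroup S).normalCore_le)) hnt
  -- orbits of a Sylow subgroup on the Sylow subgroups have size at most `p`, so it is abelian
  have habel : ∀ R : Sylow p S, ∀ a ∈ (R : Subgroup S), ∀ b ∈ (R : Subgroup S), a * b = b * a := by
    intro R a ha b hb
    rw [← commutatorElement_eq_one_iff_mul_comm, ← Subgroup.mem_bot]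
    have key : ∀ Q : Sylow p S, ⁅(⟨a, ha⟩ : (R : Subgroup S)), ⟨b, hb⟩⁆ ∈ MulAction.stabilizer (R : Subgroup S) Q := by
      intro Q
      set T := MulAction.stabilizer (R : Subgroup S) Q with hT
      have hidx : T.index = Nat.card (MulAction.orbit (R : Subgroup S) Q) := MulAction.index_stabilizer (R : Subgroup S) Q
      have hle : T.index < p ^ 2 := hidx ▸ lt_of_le_of_lt (Nat.card_le_card_of_injective _ Subtype.val_injective) hn
      obtain ⟨i, hi⟩ := R.2.index T
      rw [hi] at hle
      have hi1 : i ≤ 1 := by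
        have := (Nat.pow_lt_pow_iff_right hp'.one_lt).mp hle
        omega
      rcases Nat.le_one_iff_eq_zero_or_eq_one.mp hi1 with h0 | h0
      · rw [h0, pow_zero, Subgroup.index_eq_one] at hi
        rw [hi]; exact Subgroup.mem_top _
      · rw [h0, pow_one] at hi
        haveI : Finite (R : Subgroup S) := inferInstance
        haveI hTn : T.Normal := Subgroup.normal_of_index_eq_minFac_card (by
          obtain ⟨j, hj⟩ := IsPGroup.iff_card.mp R.2
          have hj0 : j ≠ 0 := fun h => by
            have := T.index_dvd_card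
            rw [hi, hj, h, pow_zero, Nat.dvd_one] at this
            exact hp'.one_lt.ne' this
          rw [hi, hj, Nat.pow_minFac hj0, hp'.minFac_eq])
        haveI : IsCyclic ((R : Subgroup S) ⧸ T) := isCyclic_of_prime_card (p := p) (by rw [← Subgroup.index_eq_card, hi])
        rw [← QuotientGroup.eq_one_iff]
        show QuotientGroup.mk' T ⁅_, _⁆ = 1
        rw [map_commutatorElement, commutatorElement_eq_one_iff_mul_comm]
        exact (IsCyclic.isMulCommutative).1.comm _ _
    refine (hcore (⊥ ⊔ Subgroup.zpowers ⁅a, b⁆ ⊓ ⊤) fun Q => ?_) ▸ ?_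
    · rw [bot_sup_eq, inf_top_eq, Subgroup.zpowers_le]
      have hQ := key Q
      rw [MulAction.mem_stabilizer_iff] at hQ
      have hmem : ⁅a, b⁆ ∈ Subgroup.normalizer (Q : Set S) :=
        Sylow.smul_eq_iff_mem_normalizer.mp (by exact hQ)
      have hR : ⁅a, b⁆ ∈ (R : Subgroup S) := ((⁅(⟨a, ha⟩ : (R : Subgroup S)), ⟨b, hb⟩⁆) : (R : Subgroup S)).2
      have hp2 : IsPGroup p (Subgroup.zpowers ⁅a, b⁆) := R.2.to_le (Subgroup.zpowers_le.mpr hR)
      have := hp2.inf_normalizer_sylow Q
      rw [inf_eq_left.mpr (Subgroup.zpowers_le.mpr hmem)] at this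
      exact inf_eq_left.mp this.symm (Subgroup.mem_zpowers _)
    · rw [bot_sup_eq, inf_top_eq]; exact Subgroup.mem_zpowers _
  -- Brodkey: two Sylow subgroups with trivial intersection
  obtain ⟨Q, hQ⟩ := Finite.exists_min (fun Q : Sylow p S => Nat.card ((P : Subgroup S) ⊓ Q : Subgroup S))
  set D := (P : Subgroup S) ⊓ Q with hD
  have hDbot : D = ⊥ := by
    refine hcore D fun R => ?_
    set N := Subgroup.centralizer (D : Set S) with hN
    have hPN : (P : Subgroup S) ≤ N := fun a ha => Subgroup.mem_centralizer_iff.mpr fun d hd => habel P d hd.1 a ha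
    have hQN : (Q : Subgroup S) ≤ N := fun a ha => Subgroup.mem_centralizer_iff.mpr fun d hd => habel Q d hd.2 a ha
    obtain ⟨U, hU⟩ := (R.2.comap_subtype (K := N)).exists_le_sylow
    obtain ⟨x, hx⟩ := MulAction.exists_smul_eq N U (Q.subtype hQN)
    -- `x` moves `R ⊓ N` into `Q`
    have hxR : ∀ r, r ∈ (R : Subgroup S) → r ∈ N → (x : S) * r * (x : S)⁻¹ ∈ (Q : Subgroup S) := by
      intro r hr hrN
      have h1 : x * ⟨r, hrN⟩ * x⁻¹ ∈ ((Q.subtype hQN : Sylow p N) : Subgroup N) := by
        rw [← hx, Sylow.coe_subgroup_smul, Subgroup.mem_pointwise_smul_iff_inv_smul_mem]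
        have hmem : (⟨r, hrN⟩ : N) ∈ (U : Subgroup N) := hU hr
        simpa [MulAut.smul_def, mul_assoc] using hmem
      exact h1
    have hsub : (P : Subgroup S) ⊓ ((x : S) • R : Sylow p S) ≤ D := by
      intro y hy
      refine ⟨hy.1, ?_⟩
      have hy2 : y ∈ (((x : S) • R : Sylow p S) : Subgroup S) := hy.2
      rw [Sylow.coe_subgroup_smul, Subgroup.mem_pointwise_smul_iff_inv_smul_mem] at hy2
      have hyR : (x : S)⁻¹ * y * x ∈ (R : Subgroup S) := by simpa [MulAut.smul_def] using hy2
      have := hxR _ hyR (N.mul_mem (N.mul_mem (N.inv_mem x.2) (hPN hy.1)) x.2)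
      rw [show (x : S) * ((x : S)⁻¹ * y * x) * (x : S)⁻¹ = y by group] at this
      exact this
    have heq := Subgroup.eq_of_le_of_card_ge hsub (hQ _)
    intro d hd
    have hd' : d ∈ (((x : S) • R : Sylow p S) : Subgroup S) := (heq.ge hd).2
    rw [Sylow.coe_subgroup_smul, Subgroup.mem_pointwise_smul_iff_inv_smul_mem] at hd'
    have hxd : (x : S)⁻¹ * d * x = d := by
      have := Subgroup.mem_centralizer_iff.mp x.2 d hd
      rw [mul_assoc, this, inv_mul_cancel_left]
    simpa [MulAut.smul_def, hxd] using hd'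
  -- its orbit has size `|P|`
  have horb : Nat.card P ≤ Nat.card (Sylow p S) := by
    refine Nat.card_le_card_of_injective (fun a : (P : Subgroup S) => (a : S) • Q) fun a b hab => ?_
    have h1 : ((b : S)⁻¹ * a) • Q = Q := by
      rw [mul_smul]; show (b : S)⁻¹ • ((a : S) • Q) = Q
      rw [show (a : S) • Q = (b : S) • Q from hab, inv_smul_smul]
    have hmem := Sylow.smul_eq_iff_mem_normalizer.mp h1
    have hp2 : IsPGroup p (Subgroup.zpowers ((b : S)⁻¹ * a)) :=
      P.2.to_le (Subgroup.zpowers_le.mpr ((P : Subgroup S).mul_mem ((P : Subgroup S).inv_mem b.2) a.2))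
    have h2 := hp2.inf_normalizer_sylow Q
    rw [inf_eq_left.mpr (Subgroup.zpowers_le.mpr hmem)] at h2
    have h3 : ((b : S)⁻¹ * a) ∈ D := ⟨(P : Subgroup S).mul_mem ((P : Subgroup S).inv_mem b.2) a.2,
      inf_eq_left.mp h2.symm (Subgroup.mem_zpowers _)⟩
    rw [hDbot, Subgroup.mem_bot, inv_mul_eq_one] at h3
    exact Subtype.ext h3.symm
  have hk2 : k < 2 := (Nat.pow_lt_pow_iff_right hp'.one_lt).mp (hk ▸ lt_of_le_of_lt horb hn)
  have hk0 : k ≠ 0 := fun h => hne (Subgroup.card_eq_one.mp (by rw [hk, h, pow_zero]))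
  rw [hk, show k = 1 by omega, pow_one]

end Cfsg.Agent.S4343
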