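import Cfsg.Statements.S4344

import Mathlib

set_option autoImplicit false
set_option linter.style.haveILetI false
open Cfsg

namespace Cfsg.Agent.S4344

/-- Let S be a finite non-abelian simple group, M a maximal subgroup of S and C a cyclic normal subgroup of M. If a Sylow p-subgroup P of S (for a prime p dividing the order of S) is contained in C, then the number of Sylow p-subgroups of S equals the index of M. -/
theorem result {S : Type*} [Group S] [Finite S]
    [IsSimpleGroup S] (hS : ¬ IsMulCommutative S) (p : ℕ) [Fact p.Prime] (hp : p ∣ Nat.card S)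
    (M : Subgroup S) (hM : IsCoatom M) (C : Subgroup S) (hCM : C ≤ M) (hCn : (C.subgroupOf M).Normal)
    (hC : IsCyclic C) (P : Sylow p S) (hP : (P : Subgroup S) ≤ C) :
    Nat.card (Sylow p S) = M.index := by
  classical
  have hPM : (P : Subgroup S) ≤ M := hP.trans hCM
  have hle : M ≤ Subgroup.normalizer ((P : Subgroup S) : Set S) := by
    intro m hm
    refine Subgroup.mem_normalizer_fintype fun y hy => ?_
    have hyC : m * y * m⁻¹ ∈ C := hCn.conj_mem ⟨y, hCM (hP hy)⟩ (hP hy) ⟨m, hm⟩
    have hp2 : IsPGroup p (Subgroup.zpowers (m * y * m⁻¹)) := by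
      obtain ⟨k, hk⟩ := IsPGroup.iff_orderOf.mp P.2 ⟨y, hy⟩
      rw [Subgroup.orderOf_mk] at hk
      refine IsPGroup.of_card (n := k) ?_
      rw [Nat.card_zpowers]
      exact (MulEquiv.orderOf_eq (MulAut.conj m) y).trans hk
    have hn : Subgroup.zpowers (m * y * m⁻¹) ≤ Subgroup.normalizer (P : Set S) := by
      refine Subgroup.zpowers_le.mpr (Subgroup.centralizer_le_normalizer _ ?_)
      rw [Subgroup.mem_centralizer_iff]
      intro z hz
      haveI := hC
      letI : CommGroup C := IsCyclic.commGroup
      exact congrArg Subtype.val (mul_comm (⟨z, hP hz⟩ : C) ⟨_, hyC⟩)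
    have h := hp2.inf_normalizer_sylow P
    rw [inf_eq_left.mpr hn] at h
    exact inf_eq_left.mp h.symm (Subgroup.mem_zpowers _)
  have hne : Subgroup.normalizer ((P : Subgroup S) : Set S) ≠ ⊤ := by
    intro h
    haveI := Subgroup.normalizer_eq_top_iff.mp h
    rcases (inferInstance : (P : Subgroup S).Normal).eq_bot_or_eq_top with h1 | h1
    · exact P.ne_bot_of_dvd_card hp h1
    · exact hM.1 (top_le_iff.mp (h1 ▸ hPM))
  rw [P.card_eq_index_normalizer]
  rcases hle.lt_or_eq with h | h
  · exact absurd (hM.2 _ h) hne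
  · rw [h]; rfl

end Cfsg.Agent.S4344
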