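import Cfsg.Statements.S4346
import Cfsg.Agent.Perm.SylowNumber

set_option autoImplicit false
set_option linter.style.haveILetI false
open Cfsg

namespace Cfsg.Agent.S4346

open CfsgLib.Perm.SylowNumber

universe u

theorem card_sylow_three {G : Type*} [Group G] [Finite G] [Fact (Nat.Prime 3)]
    (hfaith : ∀ g : G, (∀ Q : Sylow 3 G, g • Q = Q) → g = 1) (h22 : Nat.card (Sylow 3 G) = 22)
    (P : Sylow 3 G) : Nat.card (P : Subgroup G) = 3 := by
  classical
  haveI := Fintype.ofFinite (Sylow 3 G)
  have hcard : (Finset.univ : Finset (Sylow 3 G)).card = 22 := by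
    rw [Finset.card_univ, ← Nat.card_eq_fintype_card, h22]
  let N : Sylow 3 G → Finset (Sylow 3 G) := fun A => Finset.univ.filter (Col A)
  have hNsmul : ∀ (g : G) A, N (g • A) = (N A).image (g • ·) := by
    intro g A
    ext w
    simp only [N, Finset.mem_filter, Finset.mem_univ, true_and, Finset.mem_image]
    refine ⟨fun hw => ⟨g⁻¹ • w, ?_, smul_inv_smul g w⟩, ?_⟩
    · rwa [← col_smul_iff g, smul_inv_smul]
    · rintro ⟨w', hw', rfl⟩
      exact (col_smul_iff g A w').2 hw'
  have hconst : ∀ A B : Sylow 3 G, (N B).card = (N A).card := by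
    intro A B
    obtain ⟨g, rfl⟩ := MulAction.exists_smul_eq G A B
    rw [hNsmul, Finset.card_image_of_injective _ (MulAction.injective g)]
  -- the other Sylow subgroups fall into orbits of length divisible by `9`
  have hfix : ∀ (A : Sylow 3 G) (a : (A : Subgroup G)), (a : G) • A = A := fun A a =>
    Sylow.smul_eq_iff_mem_normalizer.2 (Subgroup.le_normalizer a.2)
  have hnine : ∀ A : Sylow 3 G, 9 ∣ 21 - (N A).card ∧ (N A).card ≤ 21 := by
    intro A
    let α := {w : Sylow 3 G // w ≠ A ∧ ¬ Col A w}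
    letI : MulAction (A : Subgroup G) α :=
      { smul := fun a w => ⟨(a : G) • w.1,
          fun e => w.2.1 (MulAction.injective (a : G) (e.trans (hfix A a).symm)),
          fun e => w.2.2 ((col_smul_iff (a : G) A w.1).1 (by rwa [hfix A a]))⟩
        one_smul := fun w => Subtype.ext (one_smul G w.1)
        mul_smul := fun a b w => Subtype.ext (mul_smul (a : G) (b : G) w.1) }
    have hα : Nat.card α + (N A).card + 1 = 22 := by
      rw [Nat.card_eq_fintype_card, Fintype.card_subtype]
      have h1 := Finset.card_filter_add_card_filter_not (s := (Finset.univ : Finset (Sylow 3 G)))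
        (Col A)
      have h2 : Finset.univ.filter (fun w => ¬ Col A w) =
          insert A (Finset.univ.filter fun w => w ≠ A ∧ ¬ Col A w) := by
        ext w
        simp only [Finset.mem_filter, Finset.mem_univ, true_and, Finset.mem_insert]
        by_cases hw : w = A
        · subst hw; simp [not_col_self]
        · simp [hw]
      rw [h2, Finset.card_insert_of_notMem (by simp), hcard] at h1
      simp only [N]
      omega
    refine ⟨?_, by omega⟩
    rw [show 21 - (N A).card = Nat.card α by omega]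
    haveI := Fintype.ofFinite (MulAction.orbitRel.Quotient (A : Subgroup G) α)
    rw [Nat.card_congr (MulAction.selfEquivSigmaOrbits' (A : Subgroup G) α), Nat.card_sigma]
    refine Finset.dvd_sum fun o _ => ?_
    induction o using Quotient.inductionOn' with
    | h w =>
      rw [MulAction.orbitRel.Quotient.orbit_mk, Nat.card_coe_set_eq, ← MulAction.index_stabilizer]
      have hst : MulAction.stabilizer (A : Subgroup G) w =
          (w.1 : Subgroup G).subgroupOf (A : Subgroup G) := by
        ext a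
        rw [MulAction.mem_stabilizer_iff, Subgroup.mem_subgroupOf]
        constructor
        · intro h
          exact ((A.2.inf_normalizer_sylow w.1).le
            ⟨a.2, Sylow.smul_eq_iff_mem_normalizer.1 (congrArg Subtype.val h)⟩).2
        · intro h
          exact Subtype.ext (Sylow.smul_eq_iff_mem_normalizer.2 (Subgroup.le_normalizer h))
      rw [hst]
      obtain ⟨n, hn⟩ := IsPGroup.iff_card.1 A.2
      obtain ⟨i, -, hi⟩ := (Nat.dvd_prime_pow Nat.prime_three).1
        (hn ▸ ((w.1 : Subgroup G).subgroupOf (A : Subgroup G)).index_dvd_card)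
      rw [hi]
      refine pow_dvd_pow 3 (?_ : 2 ≤ i)
      by_contra hlt
      have h1 := CfsgLib.Solv.relIndex_mul_card (inf_le_right : (w.1 : Subgroup G) ⊓ A ≤ A)
      rw [Subgroup.inf_relIndex_right, Subgroup.relIndex, hi, inf_comm] at h1
      rcases (show i = 0 ∨ i = 1 by omega) with rfl | rfl
      · rw [pow_zero, Subgroup.index_eq_one, Subgroup.subgroupOf_eq_top] at hi
        exact w.2.1 (Sylow.ext (A.3 w.1.2 hi))
      · rw [pow_one, mul_comm] at h1
        exact w.2.2 h1
  have hD : ∀ A, (N A).card ∈ ({3, 12, 21} : Finset ℕ) := fun A => by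
    obtain ⟨⟨c, hc⟩, hle⟩ := hnine A
    simp only [Finset.mem_insert, Finset.mem_singleton]
    omega
  obtain ⟨B, hB⟩ := Finset.card_pos.1 (show 0 < (N P).card by
    have := hD P; simp only [Finset.mem_insert, Finset.mem_singleton] at this; omega)
  have hPB : Col P B := (Finset.mem_filter.1 hB).2
  set H := (P : Subgroup G) ⊓ B with hH
  set L := Finset.univ.filter fun w : Sylow 3 G => H ≤ (w : Subgroup G) with hL
  have hP : P ∈ L := Finset.mem_filter.2 ⟨Finset.mem_univ _, inf_le_left⟩
  have hPBne : P ≠ B := fun e => not_col_self P (e ▸ hPB : Col P P)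
  have hcolL : ∀ z ∈ L, ∀ w ∈ L, z ≠ w → Col z w ∧ (z : Subgroup G) ⊓ w = H := by
    intro z hz w hw hzw
    have hle : H ≤ (z : Subgroup G) ⊓ w := le_inf (Finset.mem_filter.1 hz).2 (Finset.mem_filter.1 hw).2
    have h1 := two_mul_card_inf_le hzw
    have h2 : 3 * Nat.card H = Nat.card (z : Subgroup G) :=
      (show 3 * Nat.card H = Nat.card (P : Subgroup G) from hPB).trans (card_sylow_congr P z)
    have h3 := Nat.le_of_dvd Nat.card_pos (Subgroup.card_dvd_of_le hle)
    refine ⟨show 3 * _ = _ by omega, (Subgroup.eq_of_le_of_card_ge hle (by omega)).symm⟩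
  have hsub : ∀ z ∈ L, L.erase z ⊆ N z := by
    intro z hz w hw
    obtain ⟨hwz, hwL⟩ := Finset.mem_erase.1 hw
    exact Finset.mem_filter.2 ⟨Finset.mem_univ _, (hcolL z hz w hwL (Ne.symm hwz)).1⟩
  have hk1 : L.card ≡ 1 [MOD 3] := by
    rw [hL, ← Fintype.card_subtype, ← Nat.card_eq_fintype_card]
    exact (card_le_sylow_modEq H (P.2.to_le inf_le_left)).symm.trans (card_sylow_modEq_one 3 G)
  have hk2 : 1 < L.card := Finset.one_lt_card.2
    ⟨P, hP, B, Finset.mem_filter.2 ⟨Finset.mem_univ _, inf_le_right⟩, hPBne⟩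
  have hk3 : L.card ≤ (N P).card + 1 := by
    have := Finset.card_le_card (hsub P hP)
    rw [Finset.card_erase_of_mem hP] at this
    omega
  -- points outside the line are joined to at most one point of it
  have hineq : L.card * ((N P).card + 1 - L.card) ≤ 22 - L.card := by
    have hdisj : (L : Set (Sylow 3 G)).PairwiseDisjoint fun z => N z \ L := by
      intro z hz z' hz' hne
      rw [Function.onFun, Finset.disjoint_left]
      intro w hw hw'
      obtain ⟨hwN, hwL⟩ := Finset.mem_sdiff.1 hw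
      obtain ⟨hwN', -⟩ := Finset.mem_sdiff.1 hw'
      obtain ⟨h1, h2⟩ := hcolL z hz z' hz' hne
      refine not_col_of_line h1 ?_ (Finset.mem_filter.1 hwN).2 (Finset.mem_filter.1 hwN').2
      rw [h2]
      exact fun h => hwL (Finset.mem_filter.2 ⟨Finset.mem_univ _, h⟩)
    have h1 : (L.biUnion fun z => N z \ L).card ≤ (Finset.univ \ L).card :=
      Finset.card_le_card fun w hw => by
        obtain ⟨z, -, hz⟩ := Finset.mem_biUnion.1 hw
        exact Finset.mem_sdiff.2 ⟨Finset.mem_univ _, (Finset.mem_sdiff.1 hz).2⟩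
    rw [Finset.card_biUnion hdisj, Finset.card_univ_diff, ← Finset.card_univ, hcard] at h1
    refine le_trans (le_of_eq ?_) h1
    rw [← smul_eq_mul, ← Finset.sum_const]
    refine Finset.sum_congr rfl fun z hz => ?_
    have h2 : N z \ L = N z \ L.erase z := by
      ext w
      simp only [Finset.mem_sdiff, Finset.mem_erase, not_and]
      refine ⟨fun hw => ⟨hw.1, fun _ => hw.2⟩, fun hw => ⟨hw.1, fun hwL => hw.2 (fun e => ?_) hwL⟩⟩
      subst e
      exact not_col_self w (Finset.mem_filter.1 hw.1).2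
    rw [h2, Finset.card_sdiff_of_subset (hsub z hz), Finset.card_erase_of_mem hz, hconst P z]
    omega
  by_cases hall : L.card = 22
  · have hHbot : H = ⊥ := by
      rw [Subgroup.eq_bot_iff_forall]
      intro r hr
      refine hfaith r fun Z => Sylow.smul_eq_iff_mem_normalizer.2 (Subgroup.le_normalizer ?_)
      have : L = Finset.univ := Finset.eq_univ_of_card L (by
        rw [hall, ← Nat.card_eq_fintype_card, h22])
      exact (Finset.mem_filter.1 (this.ge (Finset.mem_univ Z))).2 hr
    have : 3 * Nat.card H = Nat.card (P : Subgroup G) := hPB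
    rw [hHbot, Subgroup.card_bot] at this
    omega
  exfalso
  by_cases hEq : L.card = (N P).card + 1
  · -- the lines partition the points
    let cls : Sylow 3 G → Finset (Sylow 3 G) := fun y => insert y (N y)
    have hclsL : ∀ z ∈ L, cls z = L := by
      intro z hz
      symm
      refine Finset.eq_of_subset_of_card_le (fun w hw => ?_) ?_
      · by_cases e : w = z
        · exact e ▸ Finset.mem_insert_self _ _
        · exact Finset.mem_insert_of_mem (hsub z hz (Finset.mem_erase.2 ⟨e, hw⟩))
      · refine (Finset.card_insert_le _ _).trans ?_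
        rw [hconst P z, hEq]
    have hcls_smul : ∀ (g : G) y, cls (g • y) = (cls y).image (g • ·) := fun g y => by
      simp only [cls, Finset.image_insert, hNsmul]
    have hcls : ∀ y, ∀ u ∈ cls y, cls u = cls y := by
      intro y u hu
      obtain ⟨g, rfl⟩ := MulAction.exists_smul_eq G P y
      rw [hcls_smul] at hu
      obtain ⟨u', hu', rfl⟩ := Finset.mem_image.1 hu
      rw [hclsL P hP] at hu'
      rw [hcls_smul, hcls_smul, hclsL P hP, hclsL u' hu']
    have hdvd : L.card ∣ 22 := by
      rw [← hcard, Finset.card_eq_sum_card_image cls Finset.univ]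
      refine Finset.dvd_sum fun c hc => ?_
      obtain ⟨y, -, rfl⟩ := Finset.mem_image.1 hc
      have : (Finset.univ.filter fun x => cls x = cls y) = cls y := by
        ext x
        simp only [Finset.mem_filter, Finset.mem_univ, true_and]
        exact ⟨fun h => h ▸ Finset.mem_insert_self _ _, hcls y x⟩
      rw [this]
      obtain ⟨g, rfl⟩ := MulAction.exists_smul_eq G P y
      rw [hcls_smul, hclsL P hP, Finset.card_image_of_injective _ (MulAction.injective g)]
    have := hD P
    simp only [Finset.mem_insert, Finset.mem_singleton] at this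
    have hmem := Nat.mem_divisors.2 ⟨hdvd, by norm_num⟩
    rw [show Nat.divisors 22 = {1, 2, 11, 22} by decide] at hmem
    simp only [Finset.mem_insert, Finset.mem_singleton] at hmem
    omega
  have h5 := hD P
  simp only [Finset.mem_insert, Finset.mem_singleton] at h5
  have hk1' : L.card % 3 = 1 := hk1
  rcases (show L.card = 4 ∨ L.card = 7 ∨ L.card = 10 ∨ L.card = 13 ∨ L.card = 16 ∨ L.card = 19 by
    omega) with e | e | e | e | e | e <;> rw [e] at hineq hk3 hEq <;> omega

/-- The parity of an involution on the Sylow subgroups. -/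
theorem fix_involution {G : Type*} [Group G] [Finite G] [Fact (Nat.Prime 3)] (h : Reduced 3 G)
    (hG : Nat.card G ≠ 2) (h22 : Nat.card (Sylow 3 G) = 22) {t : G} (ht : t ^ 2 = 1) :
    Nat.card {Z : Sylow 3 G // t • Z = Z} % 4 = 2 := by
  classical
  haveI := Fintype.ofFinite (Sylow 3 G)
  haveI : Fact (Nat.Prime 2) := ⟨Nat.prime_two⟩
  have hs := h.sign_eq_one (by norm_num) hG t
  have hsq : (MulAction.toPerm t : Equiv.Perm (Sylow 3 G)) ^ 2 = 1 := by
    ext W
    rw [pow_two, Equiv.Perm.mul_apply, MulAction.toPerm_apply, MulAction.toPerm_apply, smul_smul,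
      ← pow_two, ht, one_smul, Equiv.Perm.one_apply]
  have hle : Nat.card {Z : Sylow 3 G // t • Z = Z} ≤ 22 := by
    rw [← h22]
    exact Nat.card_le_card_of_injective Subtype.val Subtype.val_injective
  have heven : 22 % 2 = Nat.card {Z : Sylow 3 G // t • Z = Z} % 2 := h22 ▸ card_fix_modEq ht
  have hf : Fintype.card (Function.fixedPoints (MulAction.toPerm t : Equiv.Perm (Sylow 3 G))) =
      Nat.card {Z : Sylow 3 G // t • Z = Z} := Nat.card_eq_fintype_card.symm.trans rfl
  rw [sign_involution _ hsq, hf, ← Nat.card_eq_fintype_card, h22] at hs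
  have hev : Even ((22 - Nat.card {Z : Sylow 3 G // t • Z = Z}) / 2) :=
    (neg_one_pow_eq_one_iff_even (by decide)).1 hs
  rw [Nat.even_iff] at hev
  omega

/-- An element of order dividing `2 * 5 * 7 * 11` commuting with a Sylow subgroup. -/
theorem fix_mod_three {G : Type*} [Group G] [Finite G] [Fact (Nat.Prime 3)] (P : Sylow 3 G)
    (hP : Nat.card (P : Subgroup G) = 3) {u : G}
    (hu : u ∈ Subgroup.centralizer ((P : Subgroup G) : Set G)) :
    Nat.card {Z : Sylow 3 G // u • Z = Z} % 3 = 1 := card_fixedPoints_modEq_one P hP hu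

theorem no_eleven {G : Type*} [Group G] [Finite G] [Fact (Nat.Prime 3)] (h : Reduced 3 G)
    (h22 : Nat.card (Sylow 3 G) = 22) (hP : ∀ P : Sylow 3 G, Nat.card (P : Subgroup G) = 3)
    {y : G} (hy : y ^ 11 = 1) (hy1 : y ≠ 1) (P : Sylow 3 G) : y • P ≠ P := by
  classical
  haveI : Fact (Nat.Prime 11) := ⟨by norm_num⟩
  intro hyP
  have hyN := Sylow.smul_eq_iff_mem_normalizer.1 hyP
  have hyC : y ∈ Subgroup.centralizer ((P : Subgroup G) : Set G) := by
    set K := (Subgroup.centralizer ((P : Subgroup G) : Set G)).subgroupOf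
      (Subgroup.normalizer ((P : Subgroup G) : Set G))
    haveI : K.Normal := by
      show ((Subgroup.centralizer ((P : Subgroup G) : Set G)).subgroupOf _).Normal
      rw [← Subgroup.normalizerMonoidHom_ker]; infer_instance
    have h1 := relIndex_centralizer_dvd (q := 3) (P : Subgroup G) (hP P)
    have h2 : orderOf ((⟨y, hyN⟩ : Subgroup.normalizer ((P : Subgroup G) : Set G)) :
        Subgroup.normalizer ((P : Subgroup G) : Set G) ⧸ K) ∣ Nat.gcd 11 2 :=
      Nat.dvd_gcd ((orderOf_map_dvd (QuotientGroup.mk' K) _).trans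
        (orderOf_dvd_of_pow_eq_one (Subtype.ext hy))) ((orderOf_dvd_natCard _).trans h1)
    rw [show Nat.gcd 11 2 = 1 by decide, Nat.dvd_one, orderOf_eq_one_iff] at h2
    exact Subgroup.mem_subgroupOf.1 ((QuotientGroup.eq_one_iff (N := K)
      (⟨y, hyN⟩ : Subgroup.normalizer ((P : Subgroup G) : Set G))).1 h2)
  refine hy1 (h.1 y fun Z => ?_)
  by_cases hZ : Z = P
  · rw [hZ]; exact hyP
  haveI : Nontrivial (P : Subgroup G) := Finite.one_lt_card_iff_nontrivial.1 (by rw [hP P]; norm_num)
  obtain ⟨⟨x, hxP⟩, hx⟩ := exists_ne (1 : (P : Subgroup G))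
  have hx1 : x ≠ 1 := fun e => hx (Subtype.ext e)
  have hcomm : Commute y x := (Subgroup.mem_centralizer_iff.1 hyC x hxP).symm
  have hx3 : x ^ 3 = 1 := by
    have : (⟨x, hxP⟩ : (P : Subgroup G)) ^ Nat.card (P : Subgroup G) = 1 := pow_card_eq_one'
    rw [hP P] at this
    exact congrArg Subtype.val this
  set w := y * x with hw
  have hw33 : w ^ 33 = 1 := by
    rw [hcomm.mul_pow, show 33 = 11 * 3 by norm_num, pow_mul, hy, one_pow, one_mul,
      mul_comm 11 3, pow_mul, hx3, one_pow]
  have hw11 : w ^ 11 = x ^ 2 := by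
    rw [hcomm.mul_pow, hy, one_mul, show 11 = 3 * 3 + 2 by norm_num, pow_add, pow_mul, hx3,
      one_pow, one_mul]
  have hw12 : w ^ 12 = y := by
    rw [hcomm.mul_pow, show 12 = 11 + 1 by norm_num, pow_add, hy, one_mul, pow_one,
      show 11 + 1 = 3 * 4 by norm_num, pow_mul, hx3, one_pow, mul_one]
  have hdiv : Function.minimalPeriod (w • ·) Z ∈ ({1, 3, 11, 33} : Finset ℕ) := by
    have h1 : Function.minimalPeriod (w • ·) Z ∣ 33 := by
      refine Function.IsPeriodicPt.minimalPeriod_dvd ?_
      show (w • ·)^[33] Z = Z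
      rw [smul_iterate_apply, hw33, one_smul]
    have h2 := Nat.mem_divisors.2 ⟨h1, by norm_num⟩
    rwa [show Nat.divisors 33 = {1, 3, 11, 33} by decide] at h2
  simp only [Finset.mem_insert, Finset.mem_singleton] at hdiv
  rcases hdiv with e | e | e | e
  · rw [← hw12, MulAction.pow_smul_eq_iff_minimalPeriod_dvd, e]
    norm_num
  · rw [← hw12, MulAction.pow_smul_eq_iff_minimalPeriod_dvd, e]
    norm_num
  · exfalso
    have h7 : w ^ 11 • Z = Z := by rw [MulAction.pow_smul_eq_iff_minimalPeriod_dvd, e]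
    rw [hw11] at h7
    refine hZ (eq_of_smul_eq P (hP P) (Subgroup.pow_mem _ hxP 2) (fun e' => hx1 ?_) h7)
    calc x = (x ^ 2) ^ 2 * (x ^ 3)⁻¹ := by group
      _ = 1 := by rw [e', hx3]; simp
  · exfalso
    haveI := Fintype.ofFinite (MulAction.orbit (Subgroup.zpowers w) Z)
    rw [MulAction.minimalPeriod_eq_card, ← Nat.card_eq_fintype_card, Nat.card_coe_set_eq] at e
    have h2 := Set.ncard_le_card (MulAction.orbit (Subgroup.zpowers w) Z)
    rw [e, h22] at h2
    norm_num at h2

/-- The final case of order `264`. -/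
theorem false_of_264 {G : Type*} [Group G] [Finite G] [Fact (Nat.Prime 3)] [Fact (Nat.Prime 11)]
    (h : Reduced 3 G) (hG : Nat.card G = 264) (Q : Sylow 11 G)
    (hQ : Nat.card (Q : Subgroup G) = 11)
    (hN : Nat.card (Subgroup.normalizer ((Q : Subgroup G) : Set G)) = 22) {s : G}
    (hs : s ∈ Subgroup.normalizer ((Q : Subgroup G) : Set G)) (hs2 : s ^ 2 = 1)
    (hsC : s ∉ Subgroup.centralizer ((Q : Subgroup G) : Set G)) : False := by
  classical
  haveI := Fintype.ofFinite (Sylow 11 G)
  haveI : Fact (Nat.Prime 2) := ⟨Nat.prime_two⟩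
  have h12 : Nat.card (Sylow 11 G) = 12 := by
    have h1 := (Subgroup.normalizer ((Q : Subgroup G) : Set G)).card_mul_index
    rw [hN, index_normalizer, hG] at h1
    omega
  have hsign := h.sign_eq_one' (by norm_num) (by rw [hG]; norm_num) (α := Sylow 11 G) s
  have hsq : (MulAction.toPerm s : Equiv.Perm (Sylow 11 G)) ^ 2 = 1 := by
    ext W
    rw [pow_two, Equiv.Perm.mul_apply, MulAction.toPerm_apply, MulAction.toPerm_apply, smul_smul,
      ← pow_two, hs2, one_smul, Equiv.Perm.one_apply]
  have hsQ : s • Q = Q := Sylow.smul_eq_iff_mem_normalizer.2 hs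
  let α := {Z : Sylow 11 G // Z ≠ Q}
  letI : MulAction (Q : Subgroup G) α :=
    { smul := fun a w => ⟨(a : G) • w.1, fun e => w.2 (MulAction.injective (a : G) (e.trans
          (Sylow.smul_eq_iff_mem_normalizer.2 (Subgroup.le_normalizer a.2)).symm))⟩
      one_smul := fun w => Subtype.ext (one_smul G w.1)
      mul_smul := fun a b w => Subtype.ext (mul_smul (a : G) (b : G) w.1) }
  have hfree : ∀ (a : (Q : Subgroup G)) (Z : α), a • Z = Z → a = 1 := fun a Z hZ => by
    by_contra ha
    exact Z.2 (eq_of_smul_eq Q hQ a.2 (fun e => ha (Subtype.ext e)) (congrArg Subtype.val hZ))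
  have hα : Nat.card α = 11 := by
    haveI := Fintype.ofFinite α
    rw [Nat.card_eq_fintype_card, Fintype.card_subtype_compl, Fintype.card_subtype_eq,
      ← Nat.card_eq_fintype_card, h12]
  have hq1 : Nat.card (MulAction.orbitRel.Quotient (Q : Subgroup G) α) = 1 := by
    have := card_eq_mul_card_quotient (Q : Subgroup G) hfree
    rw [hα, hQ] at this
    omega
  have hle : Nat.card {Z : Sylow 11 G // s • Z = Z} ≤ 2 := by
    rw [Nat.card_eq_fintype_card, Fintype.card_subtype]
    refine (Finset.card_le_card_sdiff_add_card (t := {Q})).trans ?_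
    rw [Finset.card_singleton]
    refine Nat.add_le_add_right (Finset.card_le_one.2 fun A hA B hB => ?_) 1
    simp only [Finset.mem_sdiff, Finset.mem_filter, Finset.mem_univ, true_and,
      Finset.mem_singleton] at hA hB
    haveI := (Nat.card_eq_one_iff_unique.1 hq1).1
    obtain ⟨a, ha⟩ : (⟨B, hB.2⟩ : α) ∈ MulAction.orbit (Q : Subgroup G) (⟨A, hA.2⟩ : α) :=
      Quotient.eq''.1 (Subsingleton.elim (Quotient.mk'' (⟨B, hB.2⟩ : α) :
        MulAction.orbitRel.Quotient (Q : Subgroup G) α) (Quotient.mk'' (⟨A, hA.2⟩ : α)))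
    have haB : (a : G) • A = B := congrArg Subtype.val ha
    have ha1 := eq_one_of_fixed_pair hQ hs hsC
      (fun x hx hxA => by
        by_contra hx1
        exact hA.2 (eq_of_smul_eq Q hQ hx hx1 hxA))
      a.2 hA.1 (by rw [haB]; exact hB.1)
    rw [← haB, ha1, one_smul]
  have hpar : 12 % 2 = Nat.card {Z : Sylow 11 G // s • Z = Z} % 2 := h12 ▸ card_fix_modEq hs2
  have hpos : 0 < Nat.card {Z : Sylow 11 G // s • Z = Z} :=
    Nat.card_pos_iff.2 ⟨⟨⟨Q, hsQ⟩⟩, inferInstance⟩
  have hf : Fintype.card (Function.fixedPoints (MulAction.toPerm s : Equiv.Perm (Sylow 11 G))) =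
      Nat.card {Z : Sylow 11 G // s • Z = Z} := Nat.card_eq_fintype_card.symm.trans rfl
  rw [sign_involution _ hsq, hf, ← Nat.card_eq_fintype_card, h12,
    show Nat.card {Z : Sylow 11 G // s • Z = Z} = 2 by omega] at hsign
  exact absurd hsign (by decide)

/-- The structure of the normalizer of a Sylow 11-subgroup. -/
theorem sylow_eleven {G : Type*} [Group G] [Finite G] [Fact (Nat.Prime 3)] [Fact (Nat.Prime 11)]
    (h : Reduced 3 G) (hG2 : Nat.card G ≠ 2) (h22 : Nat.card (Sylow 3 G) = 22)
    (hP : ∀ P : Sylow 3 G, Nat.card (P : Subgroup G) = 3) (Q : Sylow 11 G)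
    (hQ : Nat.card (Q : Subgroup G) = 11) (hG11 : ¬ 11 ^ 2 ∣ Nat.card G) :
    ∃ s ∈ Subgroup.normalizer ((Q : Subgroup G) : Set G), s ^ 2 = 1 ∧
      s ∉ Subgroup.centralizer ((Q : Subgroup G) : Set G) ∧
      Nat.card (Subgroup.normalizer ((Q : Subgroup G) : Set G)) = 22 ∧
      ∃ P : Sylow 3 G, s • P = P ∧ s ∉ Subgroup.centralizer ((P : Subgroup G) : Set G) := by
  classical
  haveI := Fintype.ofFinite (Sylow 3 G)
  haveI : Fact (Nat.Prime 2) := ⟨Nat.prime_two⟩
  have hpow : ∀ x ∈ (Q : Subgroup G), x ^ 11 = 1 := fun x hx => by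
    have : (⟨x, hx⟩ : (Q : Subgroup G)) ^ Nat.card (Q : Subgroup G) = 1 := pow_card_eq_one'
    rw [hQ] at this
    exact congrArg Subtype.val this
  have hfreeG : ∀ (Z : Sylow 3 G), ∀ x ∈ (Q : Subgroup G), x • Z = Z → x = 1 := fun Z x hx hxZ => by
    by_contra hx1
    exact no_eleven h h22 hP (hpow x hx) hx1 Z hxZ
  have hfree : ∀ (a : (Q : Subgroup G)) (Z : Sylow 3 G), a • Z = Z → a = 1 := fun a Z hZ =>
    Subtype.ext (hfreeG Z a a.2 hZ)
  set C := Subgroup.centralizer ((Q : Subgroup G) : Set G)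
  -- the centralizer
  have hC : Nat.card C = 11 := by
    have hQC : (Q : Subgroup G) ≤ C := by
      intro x hx
      haveI := isCyclic_of_prime_card hQ
      exact Subgroup.mem_centralizer_iff.2 fun y hy =>
        congrArg Subtype.val (IsCyclic.commGroup.mul_comm (⟨y, hy⟩ : (Q : Subgroup G)) ⟨x, hx⟩)
    have honly : ∀ r : ℕ, r.Prime → r ∣ Nat.card C → r = 11 := by
      intro r hr hrC
      haveI := Fact.mk hr
      obtain ⟨z, hz⟩ := exists_prime_orderOf_dvd_card' (G := C) r hrC
      have hzr : (z : G) ^ r = 1 := by rw [← hz, ← Subgroup.orderOf_coe, pow_orderOf_eq_one]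
      have hz1 : (z : G) ≠ 1 := fun e => hr.ne_one (by
        rw [← hz, ← Subgroup.orderOf_coe, e, orderOf_one])
      have hmod : 22 % r = Nat.card {Z : Sylow 3 G // (z : G) • Z = Z} % r := h22 ▸ card_fix_modEq hzr
      letI : MulAction (Q : Subgroup G) {Z : Sylow 3 G // (z : G) • Z = Z} :=
        { smul := fun a Z => ⟨(a : G) • Z.1, by
            rw [smul_smul, ← Subgroup.mem_centralizer_iff.1 z.2 a a.2, ← smul_smul, Z.2]⟩
          one_smul := fun Z => Subtype.ext (one_smul G Z.1)
          mul_smul := fun a b Z => Subtype.ext (mul_smul (a : G) (b : G) Z.1) }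
      have h11 := card_eq_mul_card_quotient (α := {Z : Sylow 3 G // (z : G) • Z = Z})
        (Q : Subgroup G) fun a Z hZ => hfree a Z.1 (congrArg Subtype.val hZ)
      rw [hQ] at h11
      have hle : Nat.card {Z : Sylow 3 G // (z : G) • Z = Z} ≤ 22 := by
        rw [← h22]
        exact Nat.card_le_card_of_injective Subtype.val Subtype.val_injective
      by_contra hr11
      rcases (show Nat.card {Z : Sylow 3 G // (z : G) • Z = Z} = 0 ∨
          Nat.card {Z : Sylow 3 G // (z : G) • Z = Z} = 11 ∨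
          Nat.card {Z : Sylow 3 G // (z : G) • Z = Z} = 22 by omega) with e | e | e
      · rw [e, Nat.zero_mod] at hmod
        have h2 : r ∣ 2 * 11 := Nat.dvd_of_mod_eq_zero hmod
        rcases hr.dvd_mul.1 h2 with h3 | h3
        · have hr2 := (Nat.prime_dvd_prime_iff_eq hr Nat.prime_two).1 h3
          subst hr2
          have := fix_involution h hG2 h22 hzr
          rw [e] at this
          norm_num at this
        · exact hr11 ((Nat.prime_dvd_prime_iff_eq hr (by norm_num)).1 h3)
      · rw [e] at hmod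
        have h2 : r ∣ 22 - 11 := (Nat.modEq_iff_dvd' (by norm_num)).1 hmod.symm
        exact hr11 ((Nat.prime_dvd_prime_iff_eq hr (by norm_num)).1 h2)
      · refine hz1 (h.1 _ fun Z => ?_)
        have hbij : Function.Bijective
            (Subtype.val : {Z : Sylow 3 G // (z : G) • Z = Z} → Sylow 3 G) :=
          (Nat.bijective_iff_injective_and_card _).2 ⟨Subtype.val_injective, e.trans h22.symm⟩
        obtain ⟨W, rfl⟩ := hbij.2 Z
        exact W.2
    have h1 := Nat.eq_prime_pow_of_unique_prime_dvd (n := Nat.card C) Nat.card_pos.ne'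
      fun {d} hd hdd => honly d hd hdd
    set k := (Nat.card C).primeFactorsList.length
    have hk : k ≤ 1 := by
      by_contra hk
      exact hG11 ((h1 ▸ pow_dvd_pow 11 (Nat.succ_le_of_lt (not_le.1 hk))).trans
        (Subgroup.card_subgroup_dvd_card C))
    have h2 : 11 ∣ Nat.card C := hQ ▸ Subgroup.card_dvd_of_le hQC
    rw [h1] at h2 ⊢
    rcases (show k = 0 ∨ k = 1 by omega) with e | e <;> rw [e] at h2 ⊢
    · norm_num at h2
    · rfl
  set M := Subgroup.normalizer ((Q : Subgroup G) : Set G)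
  have hrel : C.relIndex M ∣ 10 := relIndex_centralizer_dvd (Q : Subgroup G) hQ
  have hM : Nat.card M = 11 * C.relIndex M := by
    rw [← hC]
    exact (CfsgLib.Solv.relIndex_mul_card (Subgroup.centralizer_le_normalizer _)).symm
  have hne1 : C.relIndex M ≠ 1 := fun e => by
    refine h.false_of_normalizer_le (by norm_num) Q hQ (fun e' => ?_) (Subgroup.relIndex_eq_one.1 e)
    obtain ⟨P⟩ := (inferInstance : Nonempty (Sylow 3 G))
    have h3 := (P : Subgroup G).card_subgroup_dvd_card
    rw [hP P, e'] at h3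
    norm_num at h3
  -- elements of order 2 and 5 in the normalizer
  have hfix : ∀ v ∈ M, v ∉ C → Nat.card {Z : Sylow 3 G // v • Z = Z} ≤ 2 := by
    intro v hv hvC
    have hq2 : Nat.card (MulAction.orbitRel.Quotient (Q : Subgroup G) (Sylow 3 G)) = 2 := by
      have := card_eq_mul_card_quotient (Q : Subgroup G) hfree
      rw [h22, hQ] at this
      omega
    rw [← hq2]
    refine Nat.card_le_card_of_injective (fun Z => Quotient.mk'' Z.1) ?_
    rintro ⟨A, hA⟩ ⟨B, hB⟩ hAB
    obtain ⟨a, ha⟩ : B ∈ MulAction.orbit (Q : Subgroup G) A := Quotient.eq''.1 hAB.symm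
    have haB : (a : G) • A = B := ha
    have ha1 := eq_one_of_fixed_pair hQ hv hvC (hfreeG A) a.2 hA (by rw [haB]; exact hB)
    exact Subtype.ext (show A = B by rw [← haB, ha1, one_smul])
  have hrelC : ∀ (P : Sylow 3 G) (v : G), v ^ 5 = 1 → v • P = P →
      v ∈ Subgroup.centralizer ((P : Subgroup G) : Set G) := by
    intro P v hv hvP
    have hvN := Sylow.smul_eq_iff_mem_normalizer.1 hvP
    set K := (Subgroup.centralizer ((P : Subgroup G) : Set G)).subgroupOf
      (Subgroup.normalizer ((P : Subgroup G) : Set G))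
    haveI : K.Normal := by
      show ((Subgroup.centralizer ((P : Subgroup G) : Set G)).subgroupOf _).Normal
      rw [← Subgroup.normalizerMonoidHom_ker]; infer_instance
    have h1 := relIndex_centralizer_dvd (q := 3) (P : Subgroup G) (hP P)
    have h2 : orderOf ((⟨v, hvN⟩ : Subgroup.normalizer ((P : Subgroup G) : Set G)) :
        Subgroup.normalizer ((P : Subgroup G) : Set G) ⧸ K) ∣ Nat.gcd 5 2 :=
      Nat.dvd_gcd ((orderOf_map_dvd (QuotientGroup.mk' K) _).trans
        (orderOf_dvd_of_pow_eq_one (Subtype.ext hv))) ((orderOf_dvd_natCard _).trans h1)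
    rw [show Nat.gcd 5 2 = 1 by decide, Nat.dvd_one, orderOf_eq_one_iff] at h2
    exact Subgroup.mem_subgroupOf.1 ((QuotientGroup.eq_one_iff (N := K)
      (⟨v, hvN⟩ : Subgroup.normalizer ((P : Subgroup G) : Set G))).1 h2)
  have hvC : ∀ (v : M) (r : ℕ), r.Prime → r ≠ 11 → orderOf v = r → (v : G) ∉ C := by
    intro v r hr hr11 hv hvC
    have h1 : orderOf (⟨(v : G), hvC⟩ : C) ∣ 11 := hC ▸ orderOf_dvd_natCard _
    rw [← Subgroup.orderOf_coe, Subgroup.orderOf_coe v, hv] at h1
    exact hr11 ((Nat.prime_dvd_prime_iff_eq hr (by norm_num)).1 h1)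
  have hno5 : ¬ 5 ∣ C.relIndex M := by
    intro h5
    haveI : Fact (Nat.Prime 5) := ⟨by norm_num⟩
    obtain ⟨v, hv⟩ := exists_prime_orderOf_dvd_card' (G := M) 5 (hM ▸ dvd_mul_of_dvd_right h5 11)
    have hv5 : (v : G) ^ 5 = 1 := by rw [← hv, ← Subgroup.orderOf_coe, pow_orderOf_eq_one]
    have hvC' := hvC v 5 (by norm_num) (by norm_num) hv
    have hle := hfix v v.2 hvC'
    have hmod : 22 % 5 = Nat.card {Z : Sylow 3 G // (v : G) • Z = Z} % 5 := h22 ▸ card_fix_modEq hv5
    obtain ⟨⟨P, hPv⟩⟩ := (Nat.card_pos_iff.1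
      (show 0 < Nat.card {Z : Sylow 3 G // (v : G) • Z = Z} by omega)).1
    have h3 := fix_mod_three P (hP P) (hrelC P v hv5 hPv)
    omega
  have hrel2 : C.relIndex M = 2 := by
    have hmem := Nat.mem_divisors.2 ⟨hrel, by norm_num⟩
    rw [show Nat.divisors 10 = {1, 2, 5, 10} by decide] at hmem
    simp only [Finset.mem_insert, Finset.mem_singleton] at hmem
    rcases hmem with e | e | e | e
    · exact absurd e hne1
    · exact e
    · exact absurd (e ▸ dvd_rfl) hno5
    · exact absurd (e ▸ (by norm_num : 5 ∣ 10)) hno5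
  rw [hrel2] at hM
  obtain ⟨s, hs⟩ := exists_prime_orderOf_dvd_card' (G := M) 2 (hM ▸ dvd_mul_left 2 11)
  have hs2 : (s : G) ^ 2 = 1 := by rw [← hs, ← Subgroup.orderOf_coe, pow_orderOf_eq_one]
  have hsC := hvC s 2 Nat.prime_two (by norm_num) hs
  have h4 := fix_involution h hG2 h22 hs2
  have h5 := hfix s s.2 hsC
  obtain ⟨⟨P, hPs⟩⟩ := (Nat.card_pos_iff.1
    (show 0 < Nat.card {Z : Sylow 3 G // (s : G) • Z = Z} by omega)).1
  refine ⟨s, s.2, hs2, hsC, hM, P, hPs, fun hsP => ?_⟩
  have h6 := fix_mod_three P (hP P) hsP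
  omega

/-- The order of the centralizer of a Sylow 3-subgroup. -/
theorem centralizer_cases {G : Type*} [Group G] [Finite G] [Fact (Nat.Prime 3)] (h : Reduced 3 G)
    (hG2 : Nat.card G ≠ 2) (h22 : Nat.card (Sylow 3 G) = 22) (P : Sylow 3 G)
    (hP : Nat.card (P : Subgroup G) = 3) (c : ℕ)
    (hc : Nat.card (Subgroup.centralizer ((P : Subgroup G) : Set G)) = 3 * c) :
    c ∣ 5040 ∧ c ≠ 112 ∧ c ≠ 35 := by
  classical
  haveI := Fintype.ofFinite (Sylow 3 G)
  set C := Subgroup.centralizer ((P : Subgroup G) : Set G)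
  have hPpow : ∀ x ∈ (P : Subgroup G), x ^ 3 = 1 := fun x hx => by
    have : (⟨x, hx⟩ : (P : Subgroup G)) ^ Nat.card (P : Subgroup G) = 1 := pow_card_eq_one'
    rw [hP] at this
    exact congrArg Subtype.val this
  have hPC : ∀ x ∈ (P : Subgroup G), ∀ u ∈ C, u * x = x * u := fun x hx u hu =>
    (Subgroup.mem_centralizer_iff.1 hu x hx).symm
  have hCP : ∀ u ∈ C, u • P = P := fun u hu =>
    Sylow.smul_eq_iff_mem_normalizer.2 (Subgroup.centralizer_le_normalizer _ hu)
  let α := {Z : Sylow 3 G // Z ≠ P}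
  letI : MulAction (P : Subgroup G) α :=
    { smul := fun a w => ⟨(a : G) • w.1, fun e => w.2 (MulAction.injective (a : G) (e.trans
          (Sylow.smul_eq_iff_mem_normalizer.2 (Subgroup.le_normalizer a.2)).symm))⟩
      one_smul := fun w => Subtype.ext (one_smul G w.1)
      mul_smul := fun a b w => Subtype.ext (mul_smul (a : G) (b : G) w.1) }
  have hfree : ∀ (a : (P : Subgroup G)) (Z : α), a • Z = Z → a = 1 := fun a Z hZ => by
    by_contra ha
    exact Z.2 (eq_of_smul_eq P hP a.2 (fun e => ha (Subtype.ext e)) (congrArg Subtype.val hZ))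
  let Ω := MulAction.orbitRel.Quotient (P : Subgroup G) α
  have hΩ : Nat.card Ω = 7 := by
    have h1 : Nat.card α = 21 := by
      haveI := Fintype.ofFinite α
      rw [Nat.card_eq_fintype_card, Fintype.card_subtype_compl, Fintype.card_subtype_eq,
        ← Nat.card_eq_fintype_card, h22]
    have := card_eq_mul_card_quotient (P : Subgroup G) hfree
    rw [h1, hP] at this
    show Nat.card (MulAction.orbitRel.Quotient (P : Subgroup G) α) = 7
    omega
  let f : C → α → α := fun u Z => ⟨(u : G) • Z.1, fun e =>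
    Z.2 (MulAction.injective (u : G) (e.trans (hCP u u.2).symm))⟩
  have hf : ∀ (u : C) (a : (P : Subgroup G)) (Z : α), f u (a • Z) = a • f u Z := fun u a Z =>
    Subtype.ext (by
      show (u : G) • (a : G) • Z.1 = (a : G) • (u : G) • Z.1
      rw [smul_smul, smul_smul, hPC a a.2 u u.2])
  letI actC : MulAction C Ω :=
    { smul := fun u => Quotient.map' (f u) (by
        rintro A B ⟨a, rfl⟩
        exact ⟨a, (hf u a B).symm⟩)
      one_smul := fun o => Quotient.inductionOn' o fun Z =>
        congrArg Quotient.mk'' (Subtype.ext (one_smul G Z.1))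
      mul_smul := fun u v o => Quotient.inductionOn' o fun Z =>
        congrArg Quotient.mk'' (Subtype.ext (mul_smul (u : G) (v : G) Z.1)) }
  have hmk : ∀ (u : C) (Z : α), u • (Quotient.mk'' Z : Ω) = Quotient.mk'' (f u Z) := fun u Z => rfl
  let ρ := MulAction.toPermHom C Ω
  have hρ : ∀ (u : C), ρ u = 1 → ∀ Z : α, ∃ a : (P : Subgroup G), (a : G) • Z.1 = (u : G) • Z.1 := by
    intro u hu Z
    have h1 : (Quotient.mk'' (f u Z) : Ω) = Quotient.mk'' Z :=
      (hmk u Z).symm.trans (Equiv.ext_iff.1 hu (Quotient.mk'' Z))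
    obtain ⟨a, ha⟩ : f u Z ∈ MulAction.orbit (P : Subgroup G) Z := Quotient.eq''.1 h1
    exact ⟨a, congrArg Subtype.val ha⟩
  have hker : ρ.ker = (P : Subgroup G).subgroupOf C := by
    ext u
    rw [MonoidHom.mem_ker, Subgroup.mem_subgroupOf]
    constructor
    · intro hu
      have hu3 : (u : G) ^ 3 = 1 := by
        refine h.1 _ fun Z => ?_
        by_cases hZ : Z = P
        · rw [hZ]; exact hCP _ (C.pow_mem u.2 3)
        obtain ⟨a, ha⟩ := hρ u hu ⟨Z, hZ⟩
        have hk : ∀ k : ℕ, (u : G) ^ k • Z = (a : G) ^ k • Z := by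
          intro k
          induction k with
          | zero => simp
          | succ k ih =>
            rw [pow_succ', mul_smul, ih, smul_smul,
              (Commute.pow_right (hPC a a.2 u u.2 : Commute (u : G) (a : G)) k).eq, mul_smul,
              ← show (a : G) • Z = (u : G) • Z from ha, smul_smul, ← pow_succ]
        rw [hk, hPpow a a.2, one_smul]
      exact ((isPGroup_zpowers hu3).inf_normalizer_sylow P).le
        ⟨Subgroup.mem_zpowers _, Subgroup.centralizer_le_normalizer _ u.2⟩ |>.2
    · intro hu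
      refine Equiv.ext fun o => ?_
      induction o using Quotient.inductionOn' with
      | h Z => exact Quotient.eq''.2 (⟨⟨u, hu⟩, Subtype.ext rfl⟩ :
          f u Z ∈ MulAction.orbit (P : Subgroup G) Z)
  have hPle : (P : Subgroup G) ≤ C := by
    intro x hx
    haveI := isCyclic_of_prime_card hP
    exact Subgroup.mem_centralizer_iff.2 fun y hy =>
      congrArg Subtype.val (IsCyclic.commGroup.mul_comm (⟨y, hy⟩ : (P : Subgroup G)) ⟨x, hx⟩)
  have hrange : Nat.card ρ.range = c := by
    have h1 := ρ.ker.card_mul_index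
    rw [Subgroup.index_ker, hc, hker, CfsgLib.Solv.card_subgroupOf hPle, hP] at h1
    exact Nat.eq_of_mul_eq_mul_left (by norm_num) h1
  haveI := Fintype.ofFinite Ω
  have hperm : Nat.card (Equiv.Perm Ω) = 5040 := by
    rw [Nat.card_eq_fintype_card, Fintype.card_perm, ← Nat.card_eq_fintype_card, hΩ]; rfl
  refine ⟨hrange ▸ hperm ▸ Subgroup.card_subgroup_dvd_card ρ.range, fun h112 => ?_, fun h35 => ?_⟩
  · -- a transposition in the image
    haveI : Fact (Nat.Prime 2) := ⟨Nat.prime_two⟩
    obtain ⟨o₁, o₂, ho⟩ : ∃ a b : Ω, a ≠ b := by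
      haveI : Nontrivial Ω := Finite.one_lt_card_iff_nontrivial.1 (hΩ ▸ by norm_num)
      exact exists_pair_ne Ω
    have hfac1 : Nat.factorization 112 2 = 4 := by
      rw [show (112 : ℕ) = 2 ^ 4 * 7 by norm_num, Nat.factorization_mul (by norm_num) (by norm_num),
        Nat.prime_two.factorization_pow, (by norm_num : Nat.Prime 7).factorization]
      simp
    have hfac2 : Nat.factorization 5040 2 = 4 := by
      rw [show (5040 : ℕ) = 2 ^ 4 * 315 by norm_num, Nat.factorization_mul (by norm_num) (by norm_num),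
        Nat.prime_two.factorization_pow]
      simp [Nat.factorization_eq_zero_of_not_dvd (show ¬ 2 ∣ 315 by norm_num)]
    obtain ⟨T⟩ := (inferInstance : Nonempty (Sylow 2 ρ.range))
    have hT : Nat.card ((T : Subgroup ρ.range).map ρ.range.subtype) =
        2 ^ (Nat.card (Equiv.Perm Ω)).factorization 2 := by
      rw [Subgroup.card_map_of_injective ρ.range.subtype_injective, T.card_eq_multiplicity, hrange,
        h112, hperm, hfac1, hfac2]
    obtain ⟨S, hS⟩ := (IsPGroup.of_card (p := 2) (n := 1)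
      (G := Subgroup.zpowers (Equiv.swap o₁ o₂)) (by
        rw [Nat.card_zpowers, pow_one, Equiv.Perm.IsSwap.orderOf ⟨o₁, o₂, ho, rfl⟩])).exists_le_sylow
    obtain ⟨g, hg⟩ := MulAction.exists_smul_eq (Equiv.Perm Ω) S
      (Sylow.ofCard ((T : Subgroup ρ.range).map ρ.range.subtype) hT)
    have hsw : g * Equiv.swap o₁ o₂ * g⁻¹ ∈ ρ.range := by
      have h1 : g * Equiv.swap o₁ o₂ * g⁻¹ ∈ ((g • S : Sylow 2 (Equiv.Perm Ω)) : Subgroup _) := by
        rw [smul_coe]
        exact ⟨_, hS (Subgroup.mem_zpowers _), rfl⟩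
      rw [hg, Sylow.coe_ofCard] at h1
      obtain ⟨t, -, ht⟩ := h1
      exact ht ▸ t.2
    rw [show g * Equiv.swap o₁ o₂ * g⁻¹ = Equiv.swap (g o₁) (g o₂) from (Equiv.swap_apply_apply g o₁ o₂).symm] at hsw
    obtain ⟨z, hz⟩ := hsw
    set a := g o₁
    set b := g o₂
    have hab : a ≠ b := fun e => ho (g.injective e)
    set t := z ^ 3 with htdef
    have ht : ρ t = Equiv.swap a b := by
      rw [htdef, map_pow, hz, pow_succ, pow_two, Equiv.swap_mul_self, one_mul]
    have hsq : (z : C) ^ 2 ∈ ρ.ker := by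
      rw [MonoidHom.mem_ker, map_pow, hz, pow_two, Equiv.swap_mul_self]
    rw [hker, Subgroup.mem_subgroupOf, SubmonoidClass.coe_pow] at hsq
    have ht2 : (t : G) ^ 2 = 1 := by
      rw [htdef, SubmonoidClass.coe_pow, ← pow_mul, mul_comm, pow_mul, hPpow _ hsq]
    have hf1 := fix_involution h hG2 h22 ht2
    have hf3 := fix_mod_three P hP (u := (t : G)) t.2
    have hne22 : Nat.card {Z : Sylow 3 G // (t : G) • Z = Z} ≠ 22 := by
      intro e
      have hall : (t : G) = 1 := h.1 _ fun Z => by
        obtain ⟨W, rfl⟩ := ((Nat.bijective_iff_injective_and_card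
          (Subtype.val : {Z : Sylow 3 G // (t : G) • Z = Z} → Sylow 3 G)).2
          ⟨Subtype.val_injective, e.trans h22.symm⟩).2 Z
        exact W.2
      rw [show t = 1 from Subtype.ext hall, map_one] at ht
      exact hab ((Equiv.swap_eq_one_iff (i := a) (j := b)).1 ht.symm)
    -- every point outside the two moved orbits is fixed
    have hbig : 22 ≤ Nat.card {Z : Sylow 3 G // (t : G) • Z = Z} + 6 := by
      let π : α → Ω := fun Z => Quotient.mk'' Z
      have hsub : (Finset.univ : Finset (Sylow 3 G)) ⊆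
          (Finset.univ.filter fun Z => (t : G) • Z = Z) ∪
            ((Finset.univ.filter fun Z : α => π Z = a ∨ π Z = b).image Subtype.val) := by
        intro Z _
        by_cases hZt : (t : G) • Z = Z
        · exact Finset.mem_union_left _ (Finset.mem_filter.2 ⟨Finset.mem_univ _, hZt⟩)
        refine Finset.mem_union_right _ ?_
        have hZ : Z ≠ P := fun e => hZt (e ▸ hCP _ t.2)
        refine Finset.mem_image.2 ⟨⟨Z, hZ⟩, Finset.mem_filter.2 ⟨Finset.mem_univ _, ?_⟩, rfl⟩
        by_contra hno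
        push Not at hno
        refine hZt ?_
        have h1 : (Quotient.mk'' (f t ⟨Z, hZ⟩) : Ω) = π ⟨Z, hZ⟩ := by
          rw [← hmk]
          show ρ t (π ⟨Z, hZ⟩) = _
          rw [ht, Equiv.swap_apply_of_ne_of_ne hno.1 hno.2]
        obtain ⟨x, hx⟩ : f t ⟨Z, hZ⟩ ∈ MulAction.orbit (P : Subgroup G) (⟨Z, hZ⟩ : α) :=
          Quotient.eq''.1 h1
        have hx' : (x : G) • Z = (t : G) • Z := congrArg Subtype.val hx
        have hxx : ((x : G) ^ 2) • Z = Z := by
          rw [pow_two, mul_smul, hx', smul_smul, ← hPC x x.2 t t.2, mul_smul, hx', smul_smul,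
            ← pow_two, ht2, one_smul]
        have hx2 : x ^ 2 = 1 := hfree (x ^ 2) ⟨Z, hZ⟩ (Subtype.ext hxx)
        have hx1 : x = 1 := by
          have h3 : x ^ 3 = 1 := Subtype.ext (hPpow x x.2)
          rw [pow_succ, hx2, one_mul] at h3
          exact h3
        rw [← hx', hx1]
        exact one_smul G Z
      have h1 := (Finset.card_le_card hsub).trans (Finset.card_union_le _ _)
      rw [Finset.card_univ, ← Nat.card_eq_fintype_card, h22, ← Fintype.card_subtype,
        ← Nat.card_eq_fintype_card, Finset.card_image_of_injective _ Subtype.val_injective] at h1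
      refine h1.trans (Nat.add_le_add_left ?_ _)
      rw [Finset.filter_or]
      refine (Finset.card_union_le _ _).trans ?_
      haveI := Fintype.ofFinite (P : Subgroup G)
      have hfib : ∀ o : Ω, (Finset.univ.filter fun Z : α => π Z = o).card ≤ 3 := by
        intro o
        induction o using Quotient.inductionOn' with
        | h Z =>
          refine (Finset.card_le_card (t := Finset.univ.image fun x : (P : Subgroup G) => x • Z)
            fun W hW => ?_).trans (Finset.card_image_le.trans ?_)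
          · obtain ⟨x, hx⟩ : W ∈ MulAction.orbit (P : Subgroup G) Z :=
              Quotient.eq''.1 (Finset.mem_filter.1 hW).2
            exact Finset.mem_image.2 ⟨x, Finset.mem_univ _, hx⟩
          · rw [Finset.card_univ, ← Nat.card_eq_fintype_card, hP]
      exact Nat.add_le_add (hfib a) (hfib b)
    have hle : Nat.card {Z : Sylow 3 G // (t : G) • Z = Z} ≤ 22 := by
      rw [← h22]
      exact Nat.card_le_card_of_injective Subtype.val Subtype.val_injective
    omega
  · haveI : Fact (Nat.Prime 5) := ⟨by norm_num⟩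
    haveI : Fact (Nat.Prime 7) := ⟨by norm_num⟩
    have hR : Nat.card ρ.range = 35 := hrange.trans h35
    have hnorm : ∀ (q : ℕ) [Fact q.Prime], q = 5 ∨ q = 7 → ∀ S : Sylow q ρ.range,
        (S : Subgroup ρ.range).Normal := by
      intro q _ hq S
      have h1 := card_sylow_modEq_one q ρ.range
      have h2 : Nat.card (Sylow q ρ.range) ∈ Nat.divisors 35 := Nat.mem_divisors.2
        ⟨hR ▸ index_normalizer S ▸ Subgroup.index_dvd_card _, by norm_num⟩
      have h2' : ¬ q ∣ Nat.card (Sylow q ρ.range) := not_dvd_card_sylow q ρ.range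
      rw [show Nat.divisors 35 = {1, 5, 7, 35} by decide] at h2
      simp only [Finset.mem_insert, Finset.mem_singleton] at h2
      unfold Nat.ModEq at h1
      have h3 : Nat.card (Sylow q ρ.range) = 1 := by
        rcases hq with rfl | rfl <;> omega
      exact Subgroup.normalizer_eq_top_iff.1
        (Subgroup.index_eq_one.1 ((index_normalizer S).trans h3))
    obtain ⟨v, hv⟩ := exists_prime_orderOf_dvd_card' (G := C) 5 (by rw [hc, h35]; norm_num)
    obtain ⟨y, hy⟩ := exists_prime_orderOf_dvd_card' (G := C) 7 (by rw [hc, h35]; norm_num)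
    have himg : ρ v * ρ y = ρ y * ρ v := by
      obtain ⟨S, hS⟩ := (isPGroup_zpowers (r := 5) (z := (⟨ρ v, ⟨v, rfl⟩⟩ : ρ.range))
        (Subtype.ext (by
          show ρ v ^ 5 = 1
          rw [← map_pow, ← hv, pow_orderOf_eq_one, map_one]))).exists_le_sylow
      obtain ⟨S', hS'⟩ := (isPGroup_zpowers (r := 7) (z := (⟨ρ y, ⟨y, rfl⟩⟩ : ρ.range))
        (Subtype.ext (by
          show ρ y ^ 7 = 1
          rw [← map_pow, ← hy, pow_orderOf_eq_one, map_one]))).exists_le_sylow
      have := Subgroup.commute_of_normal_of_disjoint _ _ (hnorm 5 (Or.inl rfl) S)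
        (hnorm 7 (Or.inr rfl) S') (IsPGroup.disjoint_of_ne 5 7 (by norm_num) _ _ S.2 S'.2)
        _ _ (hS (Subgroup.mem_zpowers _)) (hS' (Subgroup.mem_zpowers _))
      exact congrArg Subtype.val this.eq
    have hcommC : (v : G) * y = y * v := by
      have h1 : (y * v * y⁻¹ * v⁻¹ : C) ∈ ρ.ker := by
        rw [MonoidHom.mem_ker, map_mul, map_mul, map_mul, map_inv, map_inv, ← himg,
          mul_inv_cancel_right, mul_inv_cancel]
      rw [hker, Subgroup.mem_subgroupOf] at h1
      set w := ((y * v * y⁻¹ * v⁻¹ : C) : G) with hw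
      have hwv : (y : G) * v * (y : G)⁻¹ = w * v := by simp [hw]
      have hv5 : (v : G) ^ 5 = 1 := by rw [← hv, ← Subgroup.orderOf_coe, pow_orderOf_eq_one]
      have hw5 : w ^ 5 = 1 := by
        have h2 : (w * (v : G)) ^ 5 = 1 := by
          rw [← hwv, conj_pow, hv5, mul_one, mul_inv_cancel]
        rwa [(show Commute w (v : G) from (hPC w h1 v v.2).symm).mul_pow 5, hv5, mul_one] at h2
      have hw3 := hPpow w h1
      have hw1 : w = 1 := by
        calc w = (w ^ 3) ^ 2 * (w ^ 5)⁻¹ := by group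
          _ = 1 := by rw [hw3, hw5]; simp
      rw [hw1, one_mul, mul_inv_eq_iff_eq_mul] at hwv
      exact hwv.symm
    have hv5 : (v : G) ^ 5 = 1 := by rw [← hv, ← Subgroup.orderOf_coe, pow_orderOf_eq_one]
    have hy7 : (y : G) ^ 7 = 1 := by rw [← hy, ← Subgroup.orderOf_coe, pow_orderOf_eq_one]
    have hnot22 : ∀ u : G, u ≠ 1 → Nat.card {Z : Sylow 3 G // u • Z = Z} ≠ 22 := by
      intro u hu e
      refine hu (h.1 _ fun Z => ?_)
      obtain ⟨W, rfl⟩ := ((Nat.bijective_iff_injective_and_card
        (Subtype.val : {Z : Sylow 3 G // u • Z = Z} → Sylow 3 G)).2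
        ⟨Subtype.val_injective, e.trans h22.symm⟩).2 Z
      exact W.2
    have hle : ∀ u : G, Nat.card {Z : Sylow 3 G // u • Z = Z} ≤ 22 := fun u => by
      rw [← h22]
      exact Nat.card_le_card_of_injective Subtype.val Subtype.val_injective
    have hv1 := hnot22 v fun e => by
      rw [← Subgroup.orderOf_coe, e, orderOf_one] at hv; norm_num at hv
    have hy1 := hnot22 y fun e => by
      rw [← Subgroup.orderOf_coe, e, orderOf_one] at hy; norm_num at hy
    have hvf : Nat.card {Z : Sylow 3 G // (v : G) • Z = Z} = 7 := by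
      have h1 : 22 % 5 = _ % 5 := h22 ▸ card_fix_modEq (α := Sylow 3 G) hv5
      have h2 := fix_mod_three P hP (u := (v : G)) v.2
      have := hle v
      omega
    have hyf : Nat.card {Z : Sylow 3 G // (y : G) • Z = Z} = 1 := by
      have h1 : 22 % 7 = _ % 7 := h22 ▸ card_fix_modEq (α := Sylow 3 G) hy7
      have h2 := fix_mod_three P hP (u := (y : G)) y.2
      have := hle y
      omega
    haveI := (Nat.card_eq_one_iff_unique.1 hyf).1
    letI : MulAction (Subgroup.zpowers (y : G)) {Z : Sylow 3 G // (v : G) • Z = Z} :=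
      { smul := fun a Z => ⟨(a : G) • Z.1, by
          obtain ⟨i, hi⟩ := Subgroup.mem_zpowers_iff.1 a.2
          rw [smul_smul, ← hi, (Commute.zpow_right (show Commute (v : G) (y : G) from hcommC) i).eq, ← smul_smul,
            Z.2]⟩
        one_smul := fun Z => Subtype.ext (one_smul G Z.1)
        mul_smul := fun a b Z => Subtype.ext (mul_smul (a : G) (b : G) Z.1) }
    have hmod := (isPGroup_zpowers hy7).card_modEq_card_fixedPoints
      {Z : Sylow 3 G // (v : G) • Z = Z}
    have hone : Nat.card (MulAction.fixedPoints (Subgroup.zpowers (y : G))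
        {Z : Sylow 3 G // (v : G) • Z = Z}) = 1 := by
      rw [Nat.card_eq_one_iff_unique]
      have hyfix : ∀ w : MulAction.fixedPoints (Subgroup.zpowers (y : G))
          {Z : Sylow 3 G // (v : G) • Z = Z}, (y : G) • w.1.1 = w.1.1 :=
        fun w => congrArg Subtype.val (w.2 ⟨y, Subgroup.mem_zpowers _⟩)
      refine ⟨⟨fun a b => Subtype.ext (Subtype.ext (show a.1.1 = b.1.1 from
        congrArg (fun W : {Z : Sylow 3 G // (y : G) • Z = Z} => W.1) (Subsingleton.elim
        (⟨a.1.1, hyfix a⟩ : {Z : Sylow 3 G // (y : G) • Z = Z}) ⟨b.1.1, hyfix b⟩)))⟩,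
        ⟨⟨⟨P, hCP _ v.2⟩, fun a => Subtype.ext ?_⟩⟩⟩
      obtain ⟨i, hi⟩ := Subgroup.mem_zpowers_iff.1 a.2
      show (a : G) • P = P
      rw [← hi]
      exact hCP _ (C.zpow_mem y.2 i)
    rw [hvf, hone] at hmod
    exact absurd hmod (by decide)

theorem key (G : Type u) [Group G] [Finite G] [Fact (Nat.Prime 3)] (h : Reduced 3 G) :
    Nat.card (Sylow 3 G) ≠ 22 := by
  intro h22
  haveI : Fact (Nat.Prime 11) := ⟨by norm_num⟩
  have hP : ∀ P : Sylow 3 G, Nat.card (P : Subgroup G) = 3 := card_sylow_three h.1 h22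
  obtain ⟨P₀⟩ := (inferInstance : Nonempty (Sylow 3 G))
  have h22G : 22 ∣ Nat.card G := h22 ▸ index_normalizer P₀ ▸ Subgroup.index_dvd_card _
  have hG2 : Nat.card G ≠ 2 := fun e => by rw [e] at h22G; norm_num at h22G
  have h11N : ∀ P : Sylow 3 G, ¬ 11 ∣ Nat.card (Subgroup.normalizer ((P : Subgroup G) : Set G)) := by
    intro P hd
    obtain ⟨y, hy⟩ := exists_prime_orderOf_dvd_card'
      (G := Subgroup.normalizer ((P : Subgroup G) : Set G)) 11 hd
    refine no_eleven h h22 hP (y := (y : G)) ?_ (fun e => ?_) P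
      (Sylow.smul_eq_iff_mem_normalizer.2 y.2)
    · rw [← hy, ← Subgroup.orderOf_coe, pow_orderOf_eq_one]
    · rw [← Subgroup.orderOf_coe, e, orderOf_one] at hy; norm_num at hy
  have hGN : ∀ P : Sylow 3 G,
      Nat.card G = 22 * Nat.card (Subgroup.normalizer ((P : Subgroup G) : Set G)) := fun P => by
    rw [← (Subgroup.normalizer ((P : Subgroup G) : Set G)).card_mul_index, index_normalizer P, h22,
      mul_comm]
  have hG11 : ¬ 11 ^ 2 ∣ Nat.card G := fun hd => h11N P₀ (by
    rw [hGN P₀] at hd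
    have h1 : 11 * 11 ∣ 11 * (2 * Nat.card (Subgroup.normalizer ((P₀ : Subgroup G) : Set G))) := by
      rw [← mul_assoc, ← pow_two]; exact hd
    exact (Nat.Coprime.dvd_of_dvd_mul_left (by norm_num)
      (Nat.dvd_of_mul_dvd_mul_left (by norm_num) h1)))
  obtain ⟨Q⟩ := (inferInstance : Nonempty (Sylow 11 G))
  have hQ : Nat.card (Q : Subgroup G) = 11 := by
    obtain ⟨k, hk⟩ := IsPGroup.iff_card.1 Q.2
    have h1 : 11 ∣ Nat.card (Q : Subgroup G) :=
      Q.dvd_card_of_dvd_card ((by norm_num : 11 ∣ 22).trans h22G)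
    have h2 := (Q : Subgroup G).card_subgroup_dvd_card
    rw [hk] at h1 h2 ⊢
    match k with
    | 0 => norm_num at h1
    | 1 => rfl
    | k + 2 => exact absurd (dvd_trans (pow_dvd_pow 11 (Nat.le_add_left 2 k)) h2) hG11
  obtain ⟨s, hs, hs2, hsC, hM, P, hsP, hsPC⟩ := sylow_eleven h hG2 h22 hP Q hQ hG11
  set N := Subgroup.normalizer ((P : Subgroup G) : Set G)
  set C := Subgroup.centralizer ((P : Subgroup G) : Set G)
  have hPC : (P : Subgroup G) ≤ C := by
    intro x hx
    haveI := isCyclic_of_prime_card (hP P)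
    exact Subgroup.mem_centralizer_iff.2 fun y hy =>
      congrArg Subtype.val (IsCyclic.commGroup.mul_comm (⟨y, hy⟩ : (P : Subgroup G)) ⟨x, hx⟩)
  obtain ⟨c, hc⟩ : 3 ∣ Nat.card C := hP P ▸ Subgroup.card_dvd_of_le hPC
  have hN : Nat.card N = 6 * c := by
    have hCN : C ≤ N := Subgroup.centralizer_le_normalizer _
    have h1 := CfsgLib.Solv.relIndex_mul_card hCN
    have h2 : C.relIndex N = 2 := by
      rcases (Nat.dvd_prime Nat.prime_two).1
        (relIndex_centralizer_dvd (q := 3) (P : Subgroup G) (hP P)) with e | e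
      · exact absurd (Subgroup.relIndex_eq_one.1 e (Sylow.smul_eq_iff_mem_normalizer.1 hsP)) hsPC
      · exact e
    rw [h2, hc] at h1
    omega
  have hG : Nat.card G = 132 * c := by rw [hGN P, hN]; ring
  have h3c : ¬ 3 ∣ c := by
    intro hd
    have h1 : 3 ∣ (P : Subgroup G).index := by
      have h2 := (P : Subgroup G).card_mul_index
      rw [hP P, hG] at h2
      obtain ⟨d, rfl⟩ := hd
      exact ⟨44 * d, by omega⟩
    exact P.not_dvd_index h1
  have h11 : 6 * c % 11 = 1 := by
    have h1 := (Subgroup.normalizer ((Q : Subgroup G) : Set G)).card_mul_index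
    rw [hM, index_normalizer, hG] at h1
    have h2 : Nat.card (Sylow 11 G) % 11 = 1 := card_sylow_modEq_one 11 G
    rwa [show Nat.card (Sylow 11 G) = 6 * c by omega] at h2
  obtain ⟨hc1, hc2, hc3⟩ := centralizer_cases h hG2 h22 P (hP P) c hc
  have hc4 : c = 2 := by
    have hd : c ∣ 560 := by
      have h5 : c ∣ 9 * 560 := hc1
      exact (Nat.Coprime.dvd_of_dvd_mul_left
        (((Nat.prime_three.coprime_iff_not_dvd.2 h3c).pow_left 2).symm) h5)
    have hkey : ∀ d ∈ Nat.divisors 560, 6 * d % 11 = 1 → d = 2 ∨ d = 35 ∨ d = 112 := by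
      decide +kernel
    rcases hkey c (Nat.mem_divisors.2 ⟨hd, by norm_num⟩) h11 with e | e | e
    · exact e
    · exact absurd e hc3
    · exact absurd e hc2
  subst hc4
  exact false_of_264 h hG Q hQ hM hs hs2 hsC

/-- No finite group has exactly 22 Sylow 3-subgroups. -/
theorem result {G : Type*} [Group G] [Finite G] : Nat.card (Sylow 3 G) ≠ 22 := by
  haveI : Fact (Nat.Prime 3) := ⟨Nat.prime_three⟩
  refine card_sylow_ne_of_reduced (by norm_num) ?_ (fun G _ _ h => key G h) _ G rfl
  intro a b hab ha hb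
  have h1 : a ∈ Nat.divisors 22 := Nat.mem_divisors.2 ⟨Dvd.intro b hab, by norm_num⟩
  rw [show Nat.divisors 22 = {1, 2, 11, 22} by decide] at h1
  simp only [Finset.mem_insert, Finset.mem_singleton] at h1
  unfold Nat.ModEq at ha hb
  rcases h1 with rfl | rfl | rfl | rfl <;> omega

end Cfsg.Agent.S4346
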