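import Cfsg.Statements.S4347
import Cfsg.Agent.Solv.Basic

set_option autoImplicit false
set_option linter.style.haveILetI false
open Cfsg
open scoped Pointwise

namespace Cfsg.Agent.S4347

/-- Let G be a finite group and p a prime. Say a Sylow p-subgroup Q is redundant when every element of p-power order lies in some Sylow p-subgroup other than Q. Then G has no redundant Sylow p-subgroup if and only if some element of p-power order lies in exactly one Sylow p-subgroup. -/
theorem result {G : Type*} [Group G] [Finite G]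
    (p : ℕ) [Fact p.Prime] :
    (¬ ∃ Q : Sylow p G, ∀ x : G, (∃ k : ℕ, orderOf x = p ^ k) → ∃ P : Sylow p G, P ≠ Q ∧ x ∈ P) ↔
      ∃ x : G, (∃ k : ℕ, orderOf x = p ^ k) ∧ ∃! P : Sylow p G, x ∈ P := by
  constructor
  · intro h
    push Not at h
    obtain ⟨x, hx, hxQ⟩ := h (Classical.arbitrary (Sylow p G))
    have hpg : IsPGroup p (Subgroup.zpowers x) := by
      obtain ⟨k, hk⟩ := hx
      exact IsPGroup.of_card (n := k) (by rw [Nat.card_zpowers, hk])
    obtain ⟨P, hP⟩ := hpg.exists_le_sylow
    have hxP : x ∈ (P : Subgroup G) := hP (Subgroup.mem_zpowers x)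
    exact ⟨x, hx, P, hxP, fun R hR => by
      by_contra hne
      have hR1 : R = Classical.arbitrary (Sylow p G) := by
        by_contra hne2; exact hxQ R hne2 hR
      have hP1 : P = Classical.arbitrary (Sylow p G) := by
        by_contra hne2; exact hxQ P hne2 hxP
      exact hne (hR1.trans hP1.symm)⟩
  · rintro ⟨x, ⟨k, hk⟩, P, hxP, huniq⟩ ⟨Q, hQ⟩
    obtain ⟨g, rfl⟩ := MulAction.exists_smul_eq G P Q
    have hy : orderOf (g * x * g⁻¹) = p ^ k := by
      rw [← hk]; exact orderOf_injective (MulAut.conj g).toMonoidHom (MulAut.conj g).injective x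
    obtain ⟨R, hR, hxR⟩ := hQ _ ⟨k, hy⟩
    apply hR
    have hmem : x ∈ (g⁻¹ • R : Sylow p G) := by
      show x ∈ ((g⁻¹ • R : Sylow p G) : Subgroup G)
      rw [Sylow.coe_subgroup_smul, CfsgLib.Solv.mem_conj_smul_iff, inv_inv]
      exact hxR
    rw [← huniq _ hmem, smul_inv_smul]

end Cfsg.Agent.S4347
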