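import Cfsg.Statements.S4348
import Cfsg.Agent.Solv.Basic

set_option autoImplicit false
set_option linter.style.haveILetI false
open Cfsg

namespace Cfsg.Agent.S4348

/-- Let G be a finite group, p a prime and P a Sylow p-subgroup of G, and let O_p(G) be the largest normal p-subgroup of G. If P/O_p(G) is cyclic, then some element of p-power order of G lies in exactly one Sylow p-subgroup. -/
theorem result {G : Type*} [Group G] [Finite G]
    (p : ℕ) [Fact p.Prime] (P : Sylow p G)
    [hn : ((Cfsg.pCore p G).subgroupOf (P : Subgroup G)).Normal]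
    (hc : IsCyclic ((P : Subgroup G) ⧸ (Cfsg.pCore p G).subgroupOf (P : Subgroup G))) :
    ∃ x : G, (∃ k : ℕ, orderOf x = p ^ k) ∧ ∃! Q : Sylow p G, x ∈ Q := by
  haveI := hn
  obtain ⟨c, hc⟩ := hc.exists_generator
  induction c using QuotientGroup.induction_on with
  | H x =>
  obtain ⟨k, hk⟩ := IsPGroup.iff_orderOf.1 P.2 x
  refine ⟨(x : G), ⟨k, by rw [Subgroup.orderOf_coe, hk]⟩, P, x.2, fun R hR => ?_⟩
  refine Sylow.ext (Subgroup.eq_of_le_of_card_ge ?_ (le_of_eq (Sylow.card_eq_multiplicity R |>.trans (Sylow.card_eq_multiplicity P).symm))).symm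
  intro y hy
  obtain ⟨i, hi⟩ := Subgroup.mem_zpowers_iff.1 (hc (QuotientGroup.mk (⟨y, hy⟩ : (P : Subgroup G))))
  rw [← QuotientGroup.mk_zpow, QuotientGroup.eq] at hi
  have hi' : ((x : G) ^ i)⁻¹ * y ∈ Cfsg.pCore p G := by
    simpa [Subgroup.mem_subgroupOf] using hi
  have h1 := mul_mem (R.zpow_mem hR i) (CfsgLib.Solv.pCore_le_sylow R hi')
  simpa [mul_assoc] using h1

end Cfsg.Agent.S4348
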