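import Cfsg.Statements.S4354
import Cfsg.Agent.Perm.Basic

set_option autoImplicit false
set_option linter.style.haveILetI false
open Cfsg

namespace Cfsg.Agent.S4354

/-- Let G be a finite group and p a prime such that the Sylow p-subgroups of G are non-abelian while every element of p-power order has conjugacy class size prime to p, and suppose no nontrivial proper normal subgroup N of G has this property and no quotient G/N by such an N has it. Then G is simple. -/
theorem result {G : Type*} [Group G] [Finite G]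
    (p : ℕ) [Fact p.Prime] (h : ((∃ P : Sylow p G, ¬ IsMulCommutative P) ∧ ∀ x : G, (∃ k : ℕ, orderOf x = p ^ k) → ¬ p ∣ (Subgroup.centralizer ({x} : Set G)).index))
    (hmin : ∀ (N : Subgroup G) [N.Normal], N ≠ ⊥ → N ≠ ⊤ →
      ¬ ((∃ P : Sylow p N, ¬ IsMulCommutative P) ∧ ∀ x : N, (∃ k : ℕ, orderOf x = p ^ k) → ¬ p ∣ (Subgroup.centralizer ({x} : Set N)).index) ∧
      ¬ ((∃ P : Sylow p (G ⧸ N), ¬ IsMulCommutative P) ∧ ∀ x : (G ⧸ N), (∃ k : ℕ, orderOf x = p ^ k) → ¬ p ∣ (Subgroup.centralizer ({x} : Set (G ⧸ N))).index)) :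
    IsSimpleGroup G := by
  classical
  obtain ⟨⟨P, hP⟩, hcl⟩ := h
  have hp : p.Prime := Fact.out
  haveI : Nontrivial G := by
    by_contra hn
    rw [not_nontrivial_iff_subsingleton] at hn
    exact hP ⟨⟨fun a b => Subtype.ext (Subsingleton.elim _ _)⟩⟩
  refine ⟨fun N hN => ?_⟩
  by_contra hcon
  push Not at hcon
  haveI := hN
  obtain ⟨hmN, hmQ⟩ := hmin N hcon.1 hcon.2
  have hNab : ∀ R : Sylow p N, IsMulCommutative R := by
    by_contra hna
    push Not at hna
    refine hmN ⟨hna, fun x hx hdvd => hcl (x : G) ?_ ?_⟩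
    · obtain ⟨k, hk⟩ := hx
      exact ⟨k, by rw [Subgroup.orderOf_coe, hk]⟩
    · refine hdvd.trans ?_
      have heq : Subgroup.centralizer ({x} : Set N)
          = (Subgroup.centralizer ({(x : G)} : Set G)).subgroupOf N := by
        ext y
        simp [Subgroup.mem_subgroupOf, Subgroup.mem_centralizer_singleton_iff, Subtype.ext_iff]
      rw [heq]
      show (Subgroup.centralizer ({(x : G)} : Set G)).relIndex N ∣ _
      rw [← CfsgLib.Perm.relIndex_sup_eq_of_normal]
      exact Subgroup.relIndex_dvd_index_of_le le_sup_left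
  set π := QuotientGroup.mk' N with hπ
  have hπs : Function.Surjective π := QuotientGroup.mk'_surjective N
  have hQab : ∀ R : Sylow p (G ⧸ N), IsMulCommutative R := by
    by_contra hna
    push Not at hna
    refine hmQ ⟨hna, fun x hx hdvd => ?_⟩
    obtain ⟨k, hk⟩ := hx
    obtain ⟨y, rfl⟩ := hπs x
    set a := orderOf y / p ^ (orderOf y).factorization p with ha
    have hcop : Nat.Coprime (p ^ k) a :=
      (Nat.coprime_ordCompl hp (orderOf_pos y).ne').pow_left k
    obtain ⟨b, hb⟩ := exists_pow_eq_self_of_coprime (x := π y) (n := a) (by rw [hk]; exact hcop.symm)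
    have hpow : (y ^ a) ^ p ^ (orderOf y).factorization p = 1 := by
      rw [← pow_mul, ha, Nat.div_mul_cancel (Nat.ordProj_dvd _ _), pow_orderOf_eq_one]
    have hord : ∃ j, orderOf ((y ^ a) ^ b) = p ^ j := by
      obtain ⟨j, -, hj⟩ := (Nat.dvd_prime_pow hp).1 ((orderOf_pow_dvd b).trans (orderOf_dvd_of_pow_eq_one hpow))
      exact ⟨j, hj⟩
    apply hcl _ hord
    refine hdvd.trans ((Subgroup.index_dvd_of_le ?_).trans ((Subgroup.centralizer {(y ^ a) ^ b}).index_map_dvd hπs))
    rintro z ⟨c, hc, rfl⟩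
    rw [SetLike.mem_coe, Subgroup.mem_centralizer_singleton_iff] at hc
    have := congrArg π hc
    rw [Subgroup.mem_centralizer_singleton_iff]
    simpa [map_mul, map_pow, hb] using this
  -- every element of `P` is conjugate to a central element of `P`
  have hconj : ∀ x ∈ (P : Subgroup G), ∃ z ∈ (P : Subgroup G), ∃ g : G,
      (∀ y ∈ (P : Subgroup G), y * z = z * y) ∧ x = g⁻¹ * z * g := by
    intro x hx
    obtain ⟨k, hk⟩ := IsPGroup.iff_orderOf.1 P.2 ⟨x, hx⟩
    rw [← Subgroup.orderOf_coe] at hk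
    have hind := hcl x ⟨k, hk⟩
    set C := Subgroup.centralizer ({x} : Set G) with hC
    obtain ⟨T⟩ : Nonempty (Sylow p C) := inferInstance
    have hT : ¬ p ∣ ((T : Subgroup C).map C.subtype).index := by
      rw [Subgroup.index_map_subtype]
      exact fun hd => (hp.dvd_mul.1 hd).elim T.not_dvd_index hind
    set R := (T.2.map C.subtype).toSylow hT with hR
    have hRC : ∀ y ∈ (R : Subgroup G), y * x = x * y := by
      intro y hy
      have hy' : y ∈ C := by
        simp only [hR, IsPGroup.toSylow_coe] at hy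
        exact Subgroup.map_subtype_le _ hy
      exact Subgroup.mem_centralizer_singleton_iff.1 hy'
    have hxR : x ∈ (R : Subgroup G) :=
      CfsgLib.Perm.mem_sylow_of_commute R ⟨k, by rw [← hk, pow_orderOf_eq_one]⟩ hRC
    obtain ⟨g, hg⟩ := MulAction.exists_smul_eq G R P
    refine ⟨g * x * g⁻¹, ?_, g, ?_, by group⟩
    · rw [← hg, Sylow.coe_subgroup_smul, CfsgLib.Solv.mem_conj_smul_iff]
      simpa [mul_assoc] using hxR
    · intro y hy
      rw [← hg, Sylow.coe_subgroup_smul, CfsgLib.Solv.mem_conj_smul_iff] at hy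
      calc y * (g * x * g⁻¹) = g * ((g⁻¹ * y * g) * x) * g⁻¹ := by group
        _ = g * (x * (g⁻¹ * y * g)) * g⁻¹ := by rw [hRC _ hy]
        _ = _ := by group
  let Pq : Sylow p (G ⧸ N) := P.mapSurjective hπs
  haveI := hQab Pq
  have hdec : ∀ x ∈ (P : Subgroup G), ∃ z ∈ (P : Subgroup G),
      (∀ y ∈ (P : Subgroup G), y * z = z * y) ∧ z⁻¹ * x ∈ N := by
    intro x hx
    obtain ⟨z, hz, g, hzc, hzx⟩ := hconj x hx
    obtain ⟨m, hm, hm'⟩ := Sylow.conj_eq_normalizer_conj_of_mem Pq (π z) (π g)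
      (Subgroup.mem_map_of_mem π hz)
      (by rw [← map_inv, ← map_mul, ← map_mul, ← hzx]; exact Subgroup.mem_map_of_mem π hx)
    obtain ⟨n, rfl⟩ := hπs m
    set K := (P : Subgroup G) ⊔ N with hK
    have hnP : (((n • P : Sylow p G)) : Subgroup G) ≤ K := by
      intro y hy
      rw [Sylow.coe_subgroup_smul, CfsgLib.Solv.mem_conj_smul_iff] at hy
      have h1 := (Subgroup.mem_normalizer_iff.1 hm (π (n⁻¹ * y * n))).1 (Subgroup.mem_map_of_mem π hy)
      rw [← map_inv, ← map_mul, ← map_mul] at h1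
      simp only [mul_inv_cancel_left, mul_inv_cancel, mul_one, mul_assoc, Sylow.coe_coe,
        Sylow.coe_mapSurjective, Pq] at h1
      obtain ⟨w, hw, hwy⟩ := h1
      have hwN : w⁻¹ * y ∈ N := QuotientGroup.eq.1 hwy
      have := mul_mem (Subgroup.mem_sup_left hw : w ∈ K) (Subgroup.mem_sup_right hwN : w⁻¹ * y ∈ K)
      simpa using this
    obtain ⟨⟨t, ht⟩, htP⟩ := MulAction.exists_smul_eq K ((n • P).subtype hnP) (P.subtype le_sup_left)
    have htP' : ((t * n) • P : Sylow p G) = P := by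
      rw [mul_smul]
      ext y
      constructor
      · intro hy
        rw [Sylow.coe_subgroup_smul, CfsgLib.Solv.mem_conj_smul_iff] at hy
        have hyK : y ∈ K := by
          have h1 : t⁻¹ * y * t ∈ K := hnP hy
          simpa [mul_assoc] using mul_mem (mul_mem ht h1) (inv_mem ht)
        have h2 : (⟨y, hyK⟩ : K) ∈ ((⟨t, ht⟩ : K) • (n • P).subtype hnP : Sylow p K) := by
          show _ ∈ ((_ : Sylow p K) : Subgroup K)
          rw [Sylow.coe_subgroup_smul, CfsgLib.Solv.mem_conj_smul_iff]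
          exact hy
        rw [htP] at h2
        exact h2
      · intro hy
        have h2 : (⟨y, Subgroup.mem_sup_left hy⟩ : K) ∈ ((⟨t, ht⟩ : K) • (n • P).subtype hnP : Sylow p K) := by
          rw [htP]; exact hy
        have h3 : _ ∈ ((_ : Sylow p K) : Subgroup K) := h2
        rw [Sylow.coe_subgroup_smul, CfsgLib.Solv.mem_conj_smul_iff] at h3
        rw [Sylow.coe_subgroup_smul, CfsgLib.Solv.mem_conj_smul_iff]
        exact h3
    obtain ⟨w, hw, v, hv, hwv⟩ := Subgroup.mem_sup_of_normal_right.1 (hK ▸ ht : t ∈ (P : Subgroup G) ⊔ N)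
    set u := t * n with hu
    have hu1 : ∀ y, y ∈ (P : Subgroup G) ↔ u * y * u⁻¹ ∈ (P : Subgroup G) := by
      intro y
      conv_rhs => rw [← htP', Sylow.coe_subgroup_smul, CfsgLib.Solv.mem_conj_smul_iff]
      simp [mul_assoc]
    have hu2 : ∀ y, y ∈ (P : Subgroup G) ↔ u⁻¹ * y * u ∈ (P : Subgroup G) := by
      intro y; rw [hu1 (u⁻¹ * y * u)]; simp [mul_assoc]
    refine ⟨u⁻¹ * z * u, (hu2 z).1 hz, fun y hy => ?_, ?_⟩
    · calc y * (u⁻¹ * z * u) = u⁻¹ * ((u * y * u⁻¹) * z) * u := by group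
        _ = u⁻¹ * (z * (u * y * u⁻¹)) * u := by rw [hzc _ ((hu1 y).1 hy)]
        _ = _ := by group
    · rw [← QuotientGroup.eq]
      have hπt : π t = π w := by rw [← hwv, map_mul]; simp [π, (QuotientGroup.eq_one_iff v).2 hv]
      have hwc : π w * π z = π z * π w := by rw [← map_mul, ← map_mul, hzc w hw]
      show π (u⁻¹ * z * u) = π x
      rw [hzx]
      simp only [map_mul, map_inv]
      rw [hm', hu, map_mul, hπt]
      calc (π w * π n)⁻¹ * π z * (π w * π n) = (π n)⁻¹ * ((π w)⁻¹ * (π z * π w)) * π n := by group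
        _ = (π n)⁻¹ * π z * π n := by rw [← hwc]; group
  have hPNab : ∀ a b : G, a ∈ N → b ∈ N → a ∈ (P : Subgroup G) → b ∈ (P : Subgroup G) → a * b = b * a := by
    intro a b ha hb haP hbP
    obtain ⟨R, hR⟩ := (P.2.comap_of_injective N.subtype N.subtype_injective).exists_le_sylow
    haveI := hNab R
    have := mul_comm' (⟨⟨a, ha⟩, hR haP⟩ : R) ⟨⟨b, hb⟩, hR hbP⟩
    exact congrArg (fun z : R => ((z : N) : G)) this
  apply hP
  refine ⟨⟨fun x y => Subtype.ext ?_⟩⟩
  obtain ⟨x, hx⟩ := x; obtain ⟨y, hy⟩ := y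
  obtain ⟨z, hz, hzc, hzx⟩ := hdec x hx
  obtain ⟨w, hw, hwc, hwy⟩ := hdec y hy
  have hc := hPNab _ _ hzx hwy (mul_mem (inv_mem hz) hx) (mul_mem (inv_mem hw) hy)
  show x * y = y * x
  calc x * y = z * ((z⁻¹ * x) * w) * (w⁻¹ * y) := by group
    _ = z * (w * (z⁻¹ * x)) * (w⁻¹ * y) := by rw [hwc _ (mul_mem (inv_mem hz) hx)]
    _ = (z * w) * ((z⁻¹ * x) * (w⁻¹ * y)) := by group
    _ = (w * z) * ((w⁻¹ * y) * (z⁻¹ * x)) := by rw [hc, hwc z hz]
    _ = w * (z * (w⁻¹ * y)) * (z⁻¹ * x) := by group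
    _ = w * ((w⁻¹ * y) * z) * (z⁻¹ * x) := by rw [hzc _ (mul_mem (inv_mem hw) hy)]
    _ = _ := by group

end Cfsg.Agent.S4354
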